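import Mathlib
import Groth.Agent.Lib.T2H5PnOverC
import Groth.Agent.Lib.T2H6PnChart

/-!
# T2H5T2Chart: the pullback of `O(m)` along `P^n_A ⟶ P^n_{R₀}` (model with the grading by `A`-submodules) (helper5)
-/

set_option autoImplicit false
set_option linter.style.haveILetI false
set_option linter.unusedSectionVars false
universe u
open CategoryTheory CategoryTheory.Limits Opposite TopologicalSpace AlgebraicGeometry
open scoped HomogeneousIdeal

namespace Groth.Agent.Lib.T2H5.T2Chart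

open Groth.Agent.Lib.T2H5.PnOver Groth.Agent.Lib.T2H6

section RS

variable (R₀ : Type u) {A S : Type u} [CommRing R₀] [CommRing A] [CommRing S] [Algebra R₀ A]
  [Algebra A S] [Algebra R₀ S] [IsScalarTower R₀ A S] (𝒜 : ℕ → Submodule A S) [GradedAlgebra 𝒜]

/-- the counit of the pullback-pushforward adjunction along an isomorphism is an isomorphism -/
theorem isIso_counit_of_isIso {P X : Scheme.{u}} (ε : P ⟶ X) [IsIso ε] (N : P.Modules) :
    IsIso ((Scheme.Modules.pullbackPushforwardAdjunction ε).counit.app N) := by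
  haveI : IsIso (Scheme.Modules.pullbackPushforwardAdjunction ε).counit :=
    Adjunction.counit_isIso_of_R_fully_faithful _
  infer_instance

/-- the twisting sheaves do not depend on the ring over which the pieces of the grading are submodules -/
theorem nonempty_pullback_idFrom_twist (m : ℤ) :
    Nonempty ((Scheme.Modules.pullback (Proj.map (idFrom R₀ 𝒜) (irr_from R₀ 𝒜))).obj
      (Twist.twist (rs R₀ 𝒜) m) ≅ Twist.twist 𝒜 m) := by
  have hv : ∀ (i : ℕ) (x : S), x ∈ 𝒜 i → idSemi R₀ 𝒜 x ∈ rs R₀ 𝒜 i := fun _ _ hm => hm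
  haveI : IsIso (GrMod.comap (idTo R₀ 𝒜) (irr_to R₀ 𝒜) (idSemi R₀ 𝒜) hv m) :=
    Groth.Agent.Lib.Helper2.GrModComapIso.isIso_comap (idTo R₀ 𝒜) (irr_to R₀ 𝒜) 𝒜 (rs R₀ 𝒜)
      (idSemi R₀ 𝒜) hv m ⟨fun _ _ h => h, fun x => ⟨x, rfl⟩⟩
  haveI := isIso_map_idTo R₀ 𝒜
  let ε := Proj.map (idTo R₀ 𝒜) (irr_to R₀ 𝒜)
  let δ := Proj.map (idFrom R₀ 𝒜) (irr_from R₀ 𝒜)
  have hδε : δ ≫ ε = 𝟙 _ := by
    change Proj.map (idFrom R₀ 𝒜) (irr_from R₀ 𝒜) ≫ Proj.map (idTo R₀ 𝒜) (irr_to R₀ 𝒜) = 𝟙 _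
    rw [← Proj.map_comp]
    exact Proj.map_id
  let c0 := asIso (GrMod.comap (idTo R₀ 𝒜) (irr_to R₀ 𝒜) (idSemi R₀ 𝒜) hv m)
  let c : Twist.twist 𝒜 m ≅ (Scheme.Modules.pushforward ε).obj (Twist.twist (rs R₀ 𝒜) m) := c0
  haveI := isIso_counit_of_isIso ε (Twist.twist (rs R₀ 𝒜) m)
  let e1 : (Scheme.Modules.pullback ε).obj (Twist.twist 𝒜 m) ≅ Twist.twist (rs R₀ 𝒜) m :=
    (Scheme.Modules.pullback ε).mapIso c ≪≫
      asIso ((Scheme.Modules.pullbackPushforwardAdjunction ε).counit.app _)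
  exact ⟨(Scheme.Modules.pullback δ).mapIso e1.symm ≪≫
    (Scheme.Modules.pullbackComp δ ε).app _ ≪≫
    (Scheme.Modules.pullbackCongr hδε).app _ ≪≫ (Scheme.Modules.pullbackId _).app _⟩

end RS

section Poly

attribute [local instance] MvPolynomial.algebraMvPolynomial

variable (R₀ A : Type u) [CommRing R₀] [CommRing A] [Algebra R₀ A] (n : ℕ)

theorem phiA_eq : PnChart.phiA R₀ A n =
    (idFrom R₀ (CohB1.polyGrading n A)).comp (phi R₀ A n) := rfl

/-- the pullback of `O(m)` along `P^n_A ⟶ P^n_{R₀}` -/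
theorem nonempty_pullback_phiA_twist (m : ℤ) :
    Nonempty ((Scheme.Modules.pullback
        (Proj.map (PnChart.phiA R₀ A n) (PnChart.irr_phiA R₀ A n))).obj
      (Twist.twistProjSpace n R₀ m) ≅ Twist.twistProjSpace n A m) := by
  obtain ⟨e1⟩ := nonempty_pullback_twist R₀ A n m
  obtain ⟨e2⟩ := nonempty_pullback_idFrom_twist R₀ (CohB1.polyGrading n A) m
  have h : Proj.map (PnChart.phiA R₀ A n) (PnChart.irr_phiA R₀ A n) =
      Proj.map (idFrom R₀ (CohB1.polyGrading n A)) (irr_from R₀ (CohB1.polyGrading n A)) ≫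
        Proj.map (phi R₀ A n) (irr_phi R₀ A n) := by
    rw [← Proj.map_comp]
    exact PnChart.projMap_congr (phiA_eq R₀ A n) _ _
  exact ⟨(Scheme.Modules.pullbackCongr h).app _ ≪≫
    ((Scheme.Modules.pullbackComp _ _).app _).symm ≪≫
    (Scheme.Modules.pullback _).mapIso e1 ≪≫ e2⟩

end Poly

end Groth.Agent.Lib.T2H5.T2Chart
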