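import Mathlib

/-!
# The graded ideal of forms vanishing on a closed subscheme of projective space: algebra
(helper6, team 2)

For ring maps `β j : R → B j` and elements `t j m ∈ B j` (`m : Fin (n+1)`, `j` in a finite
index type), `K` is the ideal of `R[T_0, …, T_n]` of polynomials all of whose homogeneous
components are killed by every evaluation `T_m ↦ t j m`.  It is the kernel of the ring map
`Φ = (Φ_j)_j`, `Φ_j : R[T] → (B j)[s]`, `T_m ↦ t j m * s`, and it commutes with localization
of `R` at an element.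
-/

set_option autoImplicit false
universe u v

namespace Groth.Agent.Lib.T2H6.HProjAlg

open MvPolynomial

attribute [local instance] MvPolynomial.gradedAlgebra

variable {R : Type u} [CommRing R] {n : ℕ} {J : Type v} (B : J → Type u) [∀ j, CommRing (B j)]
  (β : ∀ j, R →+* B j) (t : ∀ j, Fin (n + 1) → B j)

/-- evaluation `T_m ↦ t j m`. -/
noncomputable def ev (j : J) : MvPolynomial (Fin (n + 1)) R →+* B j := eval₂Hom (β j) (t j)

/-- evaluation `T_m ↦ t j m * s` with a degree marker `s`. -/
noncomputable def Φ (j : J) : MvPolynomial (Fin (n + 1)) R →+* Polynomial (B j) :=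
  eval₂Hom (Polynomial.C.comp (β j)) (fun m => Polynomial.C (t j m) * Polynomial.X)

theorem Φ_monomial (j : J) (d : Fin (n + 1) →₀ ℕ) (c : R) :
    Φ B β t j (monomial d c) =
      Polynomial.C (ev B β t j (monomial d c)) * Polynomial.X ^ (∑ i ∈ d.support, d i) := by
  simp only [Φ, ev, eval₂Hom_monomial, Finsupp.prod, RingHom.comp_apply, mul_pow,
    Finset.prod_mul_distrib, Finset.prod_pow_eq_pow_sum, map_mul, map_prod, map_pow, mul_assoc]

theorem Φ_of_isHomogeneous (j : J) {k : ℕ} {a : MvPolynomial (Fin (n + 1)) R}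
    (ha : a.IsHomogeneous k) :
    Φ B β t j a = Polynomial.C (ev B β t j a) * Polynomial.X ^ k := by
  conv_lhs => rw [← support_sum_monomial_coeff a]
  conv_rhs => rw [← support_sum_monomial_coeff a]
  rw [map_sum, map_sum, map_sum, Finset.sum_mul]
  refine Finset.sum_congr rfl fun d hd => ?_
  rw [Φ_monomial, ← ha.degree_eq_sum_deg_support hd]

/-- the ideal of polynomials whose homogeneous components are all killed by the evaluations. -/
noncomputable def K : Ideal (MvPolynomial (Fin (n + 1)) R) := ⨅ j, RingHom.ker (Φ B β t j)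

theorem mem_K_iff {a : MvPolynomial (Fin (n + 1)) R} : a ∈ K B β t ↔ ∀ j, Φ B β t j a = 0 := by
  simp only [K, Ideal.mem_iInf, RingHom.mem_ker]

theorem mem_K_of_isHomogeneous {k : ℕ} {a : MvPolynomial (Fin (n + 1)) R}
    (ha : a.IsHomogeneous k) : a ∈ K B β t ↔ ∀ j, ev B β t j a = 0 := by
  rw [mem_K_iff]
  refine forall_congr' fun j => ?_
  rw [Φ_of_isHomogeneous B β t j ha]
  constructor
  · intro h
    have := congrArg (fun p => Polynomial.coeff p k) h
    simpa using this
  · intro h; rw [h, map_zero, zero_mul]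

theorem Φ_eq_sum (j : J) (a : MvPolynomial (Fin (n + 1)) R) :
    Φ B β t j a = ∑ k ∈ Finset.range (a.totalDegree + 1),
      Polynomial.C (ev B β t j (homogeneousComponent k a)) * Polynomial.X ^ k := by
  conv_lhs => rw [← sum_homogeneousComponent a, map_sum]
  exact Finset.sum_congr rfl fun k _ =>
    Φ_of_isHomogeneous B β t j (homogeneousComponent_isHomogeneous k a)

theorem homogeneousComponent_mem_K {a : MvPolynomial (Fin (n + 1)) R} (ha : a ∈ K B β t) (k : ℕ) :
    homogeneousComponent k a ∈ K B β t := by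
  rw [mem_K_of_isHomogeneous B β t (homogeneousComponent_isHomogeneous k a)]
  intro j
  have h := (mem_K_iff B β t).mp ha j
  rw [Φ_eq_sum] at h
  have h2 := congrArg (fun p => Polynomial.coeff p k) h
  simp only [Polynomial.finsetSum_coeff, Polynomial.coeff_C_mul, Polynomial.coeff_X_pow,
    Polynomial.coeff_zero] at h2
  by_cases hk : k ∈ Finset.range (a.totalDegree + 1)
  · rw [Finset.sum_eq_single k] at h2
    · simpa using h2
    · intro b _ hb; simp [Ne.symm hb]
    · intro h'; exact absurd hk h'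
  · rw [Finset.mem_range, not_lt] at hk
    rw [homogeneousComponent_eq_zero _ _ (by omega), map_zero]

theorem K_isHomogeneous :
    (K B β t).IsHomogeneous (homogeneousSubmodule (Fin (n + 1)) R) := by
  intro i a ha
  have h : (DirectSum.decompose (homogeneousSubmodule (Fin (n + 1)) R) a i :
      MvPolynomial (Fin (n + 1)) R) = homogeneousComponent i a :=
    decomposition.decompose'_apply a i
  rw [h]
  exact homogeneousComponent_mem_K B β t ha i

section Loc

variable (r : R) {R' : Type u} [CommRing R'] [Algebra R R']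
  (B' : J → Type u) [∀ j, CommRing (B' j)] (β' : ∀ j, R' →+* B' j) (t' : ∀ j, Fin (n + 1) → B' j)
  (γ : ∀ j, B j →+* B' j)
  (hβ : ∀ j, (γ j).comp (β j) = (β' j).comp (algebraMap R R'))
  (ht : ∀ j m, γ j (t j m) = t' j m)

include hβ ht in
theorem Φ_map (j : J) (a : MvPolynomial (Fin (n + 1)) R) :
    Φ B' β' t' j (map (algebraMap R R') a) = Polynomial.map (γ j) (Φ B β t j a) := by
  have h : (Φ B' β' t' j).comp (map (algebraMap R R')) =
      (Polynomial.mapRingHom (γ j)).comp (Φ B β t j) := by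
    apply MvPolynomial.ringHom_ext
    · intro c
      simp only [RingHom.comp_apply, map_C, Φ, coe_eval₂Hom, eval₂_C, Polynomial.coe_mapRingHom,
        Polynomial.map_C]
      congr 1
      exact (RingHom.congr_fun (hβ j) c).symm
    · intro m
      simp only [RingHom.comp_apply, map_X, Φ, coe_eval₂Hom, eval₂_X, Polynomial.coe_mapRingHom,
        Polynomial.map_mul, Polynomial.map_C, Polynomial.map_X, ht]
  exact RingHom.congr_fun h a

include hβ ht in
theorem map_mem_K {a : MvPolynomial (Fin (n + 1)) R} (ha : a ∈ K B β t) :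
    map (algebraMap R R') a ∈ K B' β' t' := by
  rw [mem_K_iff] at ha ⊢
  intro j
  rw [Φ_map B β t B' β' t' γ hβ ht, ha j, Polynomial.map_zero]

theorem Φ_C_mul (j : J) (c : R) (a : MvPolynomial (Fin (n + 1)) R) :
    Φ B β t j (C c * a) = Polynomial.C (β j c) * Φ B β t j a := by
  rw [map_mul]
  congr 1
  simp [Φ]

include hβ ht in
theorem exists_pow_mul_mem_K [Finite J]
    (hγ : ∀ j, ∀ b : B j, γ j b = 0 → ∃ k : ℕ, β j r ^ k * b = 0)
    {a : MvPolynomial (Fin (n + 1)) R} (ha : map (algebraMap R R') a ∈ K B' β' t') :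
    ∃ k : ℕ, C r ^ k * a ∈ K B β t := by
  classical
  haveI := Fintype.ofFinite J
  rw [mem_K_iff] at ha
  have key : ∀ j, ∃ k : ℕ, ∀ k' ≥ k, Polynomial.C (β j r ^ k') * Φ B β t j a = 0 := by
    intro j
    have h0 : Polynomial.map (γ j) (Φ B β t j a) = 0 := by
      rw [← Φ_map B β t B' β' t' γ hβ ht]; exact ha j
    have hc : ∀ i, ∃ k : ℕ, β j r ^ k * (Φ B β t j a).coeff i = 0 := by
      intro i
      apply hγ j
      have := congrArg (fun p => Polynomial.coeff p i) h0
      simpa [Polynomial.coeff_map] using this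
    choose kc hkc using hc
    refine ⟨(Φ B β t j a).support.sup kc, fun k' hk' => ?_⟩
    ext i
    rw [Polynomial.coeff_C_mul, Polynomial.coeff_zero]
    by_cases hi : i ∈ (Φ B β t j a).support
    · have hle : kc i ≤ k' := (Finset.le_sup hi).trans hk'
      obtain ⟨e, rfl⟩ := Nat.exists_eq_add_of_le hle
      rw [pow_add, mul_comm (β j r ^ kc i), mul_assoc, hkc i, mul_zero]
    · rw [Polynomial.notMem_support_iff.mp hi, mul_zero]
  choose kj hkj using key
  refine ⟨Finset.univ.sup kj, ?_⟩
  rw [mem_K_iff]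
  intro j
  rw [← map_pow, Φ_C_mul, map_pow]
  exact hkj j _ (Finset.le_sup (Finset.mem_univ j))

include hβ ht in
/-- the quotient by `K` commutes with localization at an element of the base ring. -/
theorem isLocalization_quotient [Finite J] [IsLocalization.Away r R']
    (hγ : ∀ j, ∀ b : B j, γ j b = 0 → ∃ k : ℕ, β j r ^ k * b = 0)
    (ψ : (MvPolynomial (Fin (n + 1)) R ⧸ K B β t) →+* (MvPolynomial (Fin (n + 1)) R' ⧸ K B' β' t'))
    (hψ : ∀ a, ψ (Ideal.Quotient.mk _ a) = Ideal.Quotient.mk _ (map (algebraMap R R') a)) :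
    letI := ψ.toAlgebra
    IsLocalization.Away (Ideal.Quotient.mk (K B β t) (C r))
      (MvPolynomial (Fin (n + 1)) R' ⧸ K B' β' t') := by
  letI := ψ.toAlgebra
  have halg : ∀ q, algebraMap (MvPolynomial (Fin (n + 1)) R ⧸ K B β t)
      (MvPolynomial (Fin (n + 1)) R' ⧸ K B' β' t') q = ψ q := fun q => rfl
  have hunit : IsUnit (algebraMap R R' r) := IsLocalization.Away.algebraMap_isUnit r
  show IsLocalization (Submonoid.powers (Ideal.Quotient.mk (K B β t) (C r))) _
  rw [isLocalization_iff]
  refine ⟨?_, ?_, ?_⟩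
  · rintro ⟨_, k, rfl⟩
    show IsUnit (algebraMap _ _ ((Ideal.Quotient.mk (K B β t) (C r)) ^ k))
    rw [halg, map_pow, hψ, map_C]
    exact ((hunit.map (C (σ := Fin (n + 1)))).map (Ideal.Quotient.mk _)).pow k
  · intro z
    obtain ⟨p', rfl⟩ := Ideal.Quotient.mk_surjective z
    -- clear denominators
    have hden : ∃ (k : ℕ) (p : MvPolynomial (Fin (n + 1)) R),
        p' * C (algebraMap R R' r) ^ k = map (algebraMap R R') p := by
      induction p' using MvPolynomial.induction_on with
      | C c =>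
        obtain ⟨⟨x, ⟨_, k, rfl⟩⟩, hx⟩ := IsLocalization.surj (Submonoid.powers r) c
        refine ⟨k, C x, ?_⟩
        rw [map_C, ← map_pow, ← map_mul, ← map_pow (algebraMap R R')]
        exact congrArg C hx
      | add p q hp hq =>
        obtain ⟨k₁, p₁, h₁⟩ := hp
        obtain ⟨k₂, p₂, h₂⟩ := hq
        refine ⟨k₁ + k₂, C r ^ k₂ * p₁ + C r ^ k₁ * p₂, ?_⟩
        rw [map_add, map_mul, map_mul, ← h₁, ← h₂, map_pow, map_pow, map_C, add_mul, pow_add]
        ring
      | mul_X p m hp =>
        obtain ⟨k, p₁, h₁⟩ := hp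
        refine ⟨k, p₁ * X m, ?_⟩
        rw [map_mul, map_X, ← h₁]
        ring
    obtain ⟨k, p, hp⟩ := hden
    refine ⟨(Ideal.Quotient.mk _ p, ⟨(Ideal.Quotient.mk (K B β t) (C r)) ^ k, k, rfl⟩), ?_⟩
    show _ * algebraMap _ _ ((Ideal.Quotient.mk (K B β t) (C r)) ^ k) = algebraMap _ _ _
    rw [halg, halg, hψ, map_pow, hψ, map_C, ← map_pow, ← map_mul, hp]
  · intro x y hxy
    obtain ⟨a, rfl⟩ := Ideal.Quotient.mk_surjective x
    obtain ⟨b, rfl⟩ := Ideal.Quotient.mk_surjective y
    rw [halg, halg, hψ, hψ, Ideal.Quotient.eq, ← map_sub] at hxy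
    obtain ⟨k, hk⟩ := exists_pow_mul_mem_K B β t r B' β' t' γ hβ ht hγ hxy
    refine ⟨⟨(Ideal.Quotient.mk (K B β t) (C r)) ^ k, k, rfl⟩, ?_⟩
    show (Ideal.Quotient.mk (K B β t) (C r)) ^ k * _ = (Ideal.Quotient.mk (K B β t) (C r)) ^ k * _
    rw [← map_pow, ← map_mul, ← map_mul, Ideal.Quotient.eq, ← mul_sub]
    exact hk

end Loc

end Groth.Agent.Lib.T2H6.HProjAlg
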