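import Mathlib
import Groth.Prelude.Def_RelProj
import Groth.Agent.Lib.Helper13QCAlgOfAffine
import Groth.Agent.Lib.Helper13RelProjA
import Groth.Agent.Lib.Helper13ProjBC2

set_option autoImplicit false

/-!
# A quasi-coherent graded algebra from affine-local graded data

Given a coequifibered presheaf of rings `F` on the affine Zariski site of `S` (arrows: basic opens) with gradings on
every `F(U)` preserved by the transition maps and with the structure map landing in degree `0`, we build a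
`RelProj.QCGrAlg S` whose underlying quasi-coherent algebra is `π_* O` of the glued relative spectrum.
-/

namespace Groth.Agent.Lib.T2H6.QCGrOfAffine

open CategoryTheory CategoryTheory.Limits AlgebraicGeometry Opposite TopologicalSpace
open Scheme.AffineZariskiSite Groth.Agent.Helper13QCAlgOfAffine
open scoped HomogeneousIdeal

universe u

noncomputable section

section Transport

variable {A B : Type*} [CommRing A] [CommRing B] (e : A ≃+* B) {τ : Type*} [SetLike τ B]
  [AddSubgroupClass τ B] (ℬ : ℕ → τ)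

/-- transport of a grading along a ring isomorphism -/
def cg (d : ℕ) : AddSubgroup A := (AddSubgroup.ofClass (ℬ d)).comap e.toAddMonoidHom

theorem mem_cg {d : ℕ} {x : A} : x ∈ cg e ℬ d ↔ e x ∈ ℬ d := Iff.rfl

/-- the inverse, restricted to graded pieces -/
def toCg (d : ℕ) : ℬ d →+ cg e ℬ d where
  toFun y := ⟨e.symm y, by rw [mem_cg]; simp⟩
  map_zero' := by ext; simp
  map_add' a b := by ext; simp

@[simp] theorem coe_toCg (d : ℕ) (y : ℬ d) : ((toCg e ℬ d y : cg e ℬ d) : A) = e.symm y := rfl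

variable [GradedRing ℬ]

instance gradedMonoid_cg : SetLike.GradedMonoid (cg e ℬ) where
  one_mem := by rw [mem_cg, map_one]; exact SetLike.GradedOne.one_mem
  mul_mem i j a b ha hb := by
    rw [mem_cg, map_mul]; exact SetLike.GradedMul.mul_mem ha hb

/-- the decomposition map -/
def decomp : A →+ DirectSum ℕ (fun d => cg e ℬ d) :=
  (DirectSum.map (toCg e ℬ)).comp
    ((DirectSum.decomposeAddEquiv ℬ).toAddMonoidHom.comp e.toAddMonoidHom)

theorem coe_map_toCg (z : DirectSum ℕ (fun d => ℬ d)) :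
    DirectSum.coeAddMonoidHom (cg e ℬ) (DirectSum.map (toCg e ℬ) z) =
      e.symm (DirectSum.coeAddMonoidHom ℬ z) := by
  induction z using DirectSum.induction_on with
  | zero => simp
  | of i x => simp [DirectSum.map_of]
  | add x y hx hy => simp [map_add, hx, hy]

instance gradedRing_cg : GradedRing (cg e ℬ) where
  __ := gradedMonoid_cg e ℬ
  __ := DirectSum.Decomposition.ofAddHom (ℳ := cg e ℬ) (decomp e ℬ)
    (by
      ext x
      simp only [decomp, AddMonoidHom.coe_comp, Function.comp_apply, AddMonoidHom.id_apply]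
      rw [coe_map_toCg]
      have h := DirectSum.Decomposition.left_inv (ℳ := ℬ) (e x)
      change e.symm (DirectSum.coeAddMonoidHom ℬ (DirectSum.Decomposition.decompose' (e x))) = x
      rw [h]
      simp)
    (by
      refine DirectSum.addHom_ext fun d y => ?_
      simp only [decomp, AddMonoidHom.coe_comp, Function.comp_apply, AddMonoidHom.id_apply,
        DirectSum.coeAddMonoidHom_of]
      have hy : e (y : A) ∈ ℬ d := y.2
      have h1 : (DirectSum.decomposeAddEquiv ℬ).toAddMonoidHom (e.toAddMonoidHom (y : A)) =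
          DirectSum.of (fun d => ℬ d) d ⟨e (y : A), hy⟩ :=
        DirectSum.decompose_of_mem ℬ hy
      rw [h1, DirectSum.map_of]
      congr 1
      ext
      simp)

/-- the isomorphism as a graded ring homomorphism -/
def eg : (cg e ℬ) →+*ᵍ ℬ := { e.toRingHom with map_mem := fun hx => hx }

@[simp] theorem eg_apply (x : A) : eg e ℬ x = e x := rfl

end Transport

section Main

variable {S : Scheme.{u}} {F : S.AffineZariskiSiteᵒᵖ ⥤ CommRingCat.{u}}
  {α : (toOpensFunctor S).op ⋙ S.presheaf ⟶ F} (H : α.Coequifibered)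
  {σ : S.AffineZariskiSite → Type u} [∀ U, SetLike (σ U) (F.obj (op U))]
  [∀ U, AddSubgroupClass (σ U) (F.obj (op U))]
  (𝒜 : ∀ U : S.AffineZariskiSite, ℕ → σ U)
  [∀ U, GradedRing (𝒜 U)]

/-- the identification of the sections of the glued spectrum over an affine open, as a ring isomorphism -/
def gIso (U : S.Opens) (hU : IsAffineOpen U) :
    Γ(spec H, π H ⁻¹ᵁ U) ≃+* F.obj (op (aff U hU)) :=
  (asIso (gammaAff H U hU)).commRingCatIsoToRingEquiv

@[simp] theorem gIso_apply (U : S.Opens) (hU : IsAffineOpen U) (x : Γ(spec H, π H ⁻¹ᵁ U)) :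
    gIso H U hU x = (gammaAff H U hU).hom x := rfl

/-- the transported grading -/
def deg (U : S.Opens) (hU : IsAffineOpen U) (d : ℕ) : AddSubgroup Γ(spec H, π H ⁻¹ᵁ U) :=
  cg (gIso H U hU) (𝒜 (aff U hU)) d

instance (U : S.Opens) (hU : IsAffineOpen U) : GradedRing (deg H 𝒜 U hU) :=
  gradedRing_cg (gIso H U hU) (𝒜 (aff U hU))

theorem mem_deg {U : S.Opens} {hU : IsAffineOpen U} {d : ℕ} {x : Γ(spec H, π H ⁻¹ᵁ U)} :
    x ∈ deg H 𝒜 U hU d ↔ (gammaAff H U hU).hom x ∈ 𝒜 (aff U hU) d := Iff.rfl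

variable (hmap : ∀ {U V : S.AffineZariskiSite} (i : V ⟶ U) {d : ℕ} {x : F.obj (op U)},
    x ∈ 𝒜 U d → (F.map i.op).hom x ∈ 𝒜 V d)

include hmap in
theorem res_mem_site {U V : S.AffineZariskiSite} (i : V ⟶ U) {d : ℕ}
    {x : Γ(spec H, π H ⁻¹ᵁ U.1)} (hx : x ∈ deg H 𝒜 U.1 U.2 d) :
    ((spec H).presheaf.map (homOfLE ((π H).preimage_mono (toOpens_mono i.le))).op).hom x ∈
      deg H 𝒜 V.1 V.2 d := by
  rw [mem_deg] at hx ⊢
  have h := congr($(gammaAff_naturality H i).hom x)
  simp only [CommRingCat.hom_comp, RingHom.coe_comp, Function.comp_apply] at h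
  rw [h]
  exact hmap i hx

/-- restriction along a site morphism as a graded ring homomorphism -/
def resSite {U V : S.AffineZariskiSite} (i : V ⟶ U) :
    (deg H 𝒜 U.1 U.2) →+*ᵍ (deg H 𝒜 V.1 V.2) :=
  { ((spec H).presheaf.map (homOfLE ((π H).preimage_mono (toOpens_mono i.le))).op).hom with
    map_mem := fun hx => res_mem_site H 𝒜 hmap i hx }

include hmap in
theorem decompose_res_eq_zero {U V : S.Opens} (hU : IsAffineOpen U) (hV : IsAffineOpen V)
    (i : V ≤ U) {W : S.AffineZariskiSite} (iU : W ⟶ aff U hU) (iV : W ⟶ aff V hV)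
    {d e : ℕ} (hed : e ≠ d) {x : Γ(spec H, π H ⁻¹ᵁ U)} (hx : x ∈ deg H 𝒜 U hU d) :
    ((spec H).presheaf.map (homOfLE ((π H).preimage_mono (toOpens_mono iV.le))).op).hom
      ((DirectSum.decompose (deg H 𝒜 V hV)
        (((spec H).presheaf.map (homOfLE ((π H).preimage_mono i)).op).hom x) e :
          deg H 𝒜 V hV e) : Γ(spec H, π H ⁻¹ᵁ V)) = 0 := by
  classical
  set y := ((spec H).presheaf.map (homOfLE ((π H).preimage_mono i)).op).hom x with hy
  have h1 : resSite H 𝒜 hmap iV y ∈ deg H 𝒜 W.1 W.2 d := by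
    have h2 := res_mem_site H 𝒜 hmap iU hx
    convert h2 using 1
    change ((spec H).presheaf.map _).hom (((spec H).presheaf.map _).hom x) = _
    rw [← CommRingCat.comp_apply, ← Functor.map_comp]
    rfl
  have h3 := GradedRingHom.map_directSumDecompose (𝒜 := deg H 𝒜 V hV) (ℬ := deg H 𝒜 W.1 W.2)
    (resSite H 𝒜 hmap iV) (x := y) (i := e)
  have h4 : ((DirectSum.decompose (deg H 𝒜 W.1 W.2) (resSite H 𝒜 hmap iV y) e :
      deg H 𝒜 W.1 W.2 e) : Γ(spec H, π H ⁻¹ᵁ W.1)) = 0 :=
    DirectSum.decompose_of_mem_ne _ h1 (Ne.symm hed)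
  rw [← h4, ← h3]
  rfl

include hmap in
theorem res_mem {U V : S.Opens} (hU : IsAffineOpen U) (hV : IsAffineOpen V) (i : V ≤ U) {d : ℕ}
    {x : Γ(spec H, π H ⁻¹ᵁ U)} (hx : x ∈ deg H 𝒜 U hU d) :
    ((spec H).presheaf.map (homOfLE ((π H).preimage_mono i)).op).hom x ∈ deg H 𝒜 V hV d := by
  classical
  set y := ((spec H).presheaf.map (homOfLE ((π H).preimage_mono i)).op).hom x with hy
  have key : ∀ e, e ≠ d → ((DirectSum.decompose (deg H 𝒜 V hV) y e : deg H 𝒜 V hV e) :
      Γ(spec H, π H ⁻¹ᵁ V)) = 0 := by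
    intro e hed
    have hcov : ∀ p : V, ∃ (f : Γ(S, U)) (g : Γ(S, V)),
        S.basicOpen f = S.basicOpen g ∧ p.1 ∈ S.basicOpen f :=
      fun p => exists_basicOpen_le_affine_inter hU hV p.1 ⟨i p.2, p.2⟩
    choose f g hfg hp using hcov
    refine TopCat.Sheaf.eq_of_locally_eq' (spec H).sheaf
      (fun q : (π H ⁻¹ᵁ V : (spec H).Opens) => π H ⁻¹ᵁ (S.basicOpen (g ⟨(π H).base q.1, q.2⟩)))
      (π H ⁻¹ᵁ V) (fun q => homOfLE ((π H).preimage_mono (S.basicOpen_le _))) ?_ _ 0 (fun q => ?_)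
    · intro q hq
      refine Opens.mem_iSup.2 ⟨⟨q, hq⟩, ?_⟩
      change (π H).base q ∈ S.basicOpen (g ⟨(π H).base q, hq⟩)
      rw [← hfg]
      exact hp ⟨(π H).base q, hq⟩
    · set p : V := ⟨(π H).base q.1, q.2⟩
      let W : S.AffineZariskiSite := ⟨S.basicOpen (g p), hV.basicOpen (g p)⟩
      have iV : W ⟶ aff V hV := homOfLE ⟨g p, rfl⟩
      have iU : W ⟶ aff U hU := homOfLE ⟨f p, hfg p⟩
      have h := decompose_res_eq_zero H 𝒜 hmap hU hV i iU iV hed hx
      exact h.trans (map_zero _).symm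
  have h5 : y = ((DirectSum.decompose (deg H 𝒜 V hV) y d : deg H 𝒜 V hV d) :
      Γ(spec H, π H ⁻¹ᵁ V)) := by
    conv_lhs => rw [← DirectSum.sum_support_decompose (deg H 𝒜 V hV) y]
    rw [Finset.sum_eq_single d]
    · intro e _ hed
      exact key e hed
    · intro hd
      simpa using hd
  rw [h5]
  exact SetLike.coe_mem _

variable (hstr : ∀ (U : S.AffineZariskiSite) (r : Γ(S, U.1)), (α.app (op U)).hom r ∈ 𝒜 U 0)

/-- the quasi-coherent graded algebra attached to affine-local graded data -/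
def qcGrAlg : RelProj.QCGrAlg S where
  toQCAlg := qcAlg H
  deg U hU := deg H 𝒜 U hU
  graded U hU := (inferInstance : GradedRing (deg H 𝒜 U hU))
  map_mem hU hV i _ _ hx := res_mem H 𝒜 hmap hU hV i hx
  str_mem U hU r := by
    change (π H).app U r ∈ deg H 𝒜 U hU 0
    rw [mem_deg]
    have h := congr($(π_app_gammaAff H U hU).hom r)
    simp only [CommRingCat.hom_comp, RingHom.coe_comp, Function.comp_apply] at h
    rw [h]
    exact hstr (aff U hU) r

/-- transition maps of `F` as graded ring homomorphisms -/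
def Fres {U V : S.AffineZariskiSite} (i : V ⟶ U) : (𝒜 U) →+*ᵍ (𝒜 V) :=
  { (F.map i.op).hom with map_mem := fun hx => hmap i hx }

include H hstr in
theorem hirr {U V : S.AffineZariskiSite} (i : V ⟶ U) :
    (𝒜 V)₊ ≤ ((𝒜 U)₊).map (Fres 𝒜 hmap i) :=
  Groth.Agent.Helper13ProjBC.irrelevant_le_map_cat (H i.op) (Fres 𝒜 hmap i) (fun _ => rfl) (hstr V)

/-- the structure map into degree zero -/
def strZ (U : S.AffineZariskiSite) : Γ(S, U.1) ⟶ CommRingCat.of (𝒜 U 0) :=
  CommRingCat.ofHom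
    { toFun := fun r => ⟨(α.app (op U)).hom r, hstr U r⟩
      map_one' := Subtype.ext (map_one _)
      map_mul' := fun a b => Subtype.ext (map_mul _ a b)
      map_zero' := Subtype.ext (map_zero _)
      map_add' := fun a b => Subtype.ext (map_add _ a b) }

/-- the comparison of graded rings over an affine open -/
def egU (U : S.Opens) (hU : IsAffineOpen U) :
    ((qcGrAlg H 𝒜 hmap hstr).deg U hU) →+*ᵍ (𝒜 (aff U hU)) :=
  eg (gIso H U hU) (𝒜 (aff U hU))

theorem egU_apply (U : S.Opens) (hU : IsAffineOpen U) (x : Γ(spec H, π H ⁻¹ᵁ U)) :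
    egU H 𝒜 hmap hstr U hU x = (gammaAff H U hU).hom x := rfl

theorem egU_bijOn (U : S.Opens) (hU : IsAffineOpen U) (d : ℕ) :
    Set.BijOn (egU H 𝒜 hmap hstr U hU) ((qcGrAlg H 𝒜 hmap hstr).deg U hU d) (𝒜 (aff U hU) d) := by
  refine ⟨fun x hx => hx, fun x _ y _ hxy => (gIso H U hU).injective hxy, fun y hy => ?_⟩
  refine ⟨(gIso H U hU).symm y, ?_, (gIso H U hU).apply_symm_apply y⟩
  change (gIso H U hU) ((gIso H U hU).symm y) ∈ 𝒜 (aff U hU) d
  rw [RingEquiv.apply_symm_apply]
  exact hy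

theorem irr_egU (U : S.Opens) (hU : IsAffineOpen U) :
    (𝒜 (aff U hU))₊ ≤ (((qcGrAlg H 𝒜 hmap hstr).deg U hU)₊).map (egU H 𝒜 hmap hstr U hU) := by
  rw [HomogeneousIdeal.irrelevant_le]
  intro i hi y hy
  obtain ⟨x, hx, rfl⟩ := (egU_bijOn H 𝒜 hmap hstr U hU i).surjOn hy
  exact Ideal.mem_map_of_mem _ (HomogeneousIdeal.mem_irrelevant_of_mem _ hi hx)

instance isIso_projMap_egU (U : S.Opens) (hU : IsAffineOpen U) :
    IsIso (Proj.map (egU H 𝒜 hmap hstr U hU) (irr_egU H 𝒜 hmap hstr U hU)) :=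
  Groth.Agent.Helper13RelProj.isIso_map_of_bijOn_pos _ _
    (fun d _ => egU_bijOn H 𝒜 hmap hstr U hU d)

/-- the comparison isomorphism `Proj 𝒜(U) ≅ Proj 𝒮(U)` -/
def projIso (U : S.Opens) (hU : IsAffineOpen U) :
    Proj (𝒜 (aff U hU)) ≅ Proj ((qcGrAlg H 𝒜 hmap hstr).deg U hU) :=
  asIso (Proj.map (egU H 𝒜 hmap hstr U hU) (irr_egU H 𝒜 hmap hstr U hU))

theorem projMap_congr {A B σ τ : Type u} [CommRing A] [SetLike σ A] [AddSubgroupClass σ A]
    [CommRing B] [SetLike τ B] [AddSubgroupClass τ B]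
    {𝒜 : ℕ → σ} {ℬ : ℕ → τ} [GradedRing 𝒜] [GradedRing ℬ]
    {f f' : 𝒜 →+*ᵍ ℬ} (h : f = f') (hf : ℬ₊ ≤ 𝒜₊.map f) (hf' : ℬ₊ ≤ 𝒜₊.map f') :
    Proj.map f hf = Proj.map f' hf' := by
  subst h; rfl

theorem strZero_egU (U : S.Opens) (hU : IsAffineOpen U) :
    (qcGrAlg H 𝒜 hmap hstr).strZero U hU ≫
        CommRingCat.ofHom (egU H 𝒜 hmap hstr U hU).gradedZeroRingHom =
      strZ 𝒜 hstr (aff U hU) := by
  ext r
  have h := congr($(π_app_gammaAff H U hU).hom r)
  simp only [CommRingCat.hom_comp, RingHom.coe_comp, Function.comp_apply] at h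
  exact h

set_option backward.isDefEq.respectTransparency false in
/-- **Recognition of the relative `Proj`**: charts for the affine-local data give charts for the glued graded
algebra. -/
theorem isRelProj_of_charts {P : Scheme.{u}} (p : P ⟶ S)
    (c : ∀ U : S.AffineZariskiSite, ((p ⁻¹ᵁ U.1 : P.Opens) : Scheme.{u}) ≅ Proj (𝒜 U))
    (hover : ∀ U : S.AffineZariskiSite,
      (c U).hom ≫ Proj.toSpecZero (𝒜 U) ≫ Spec.map (strZ 𝒜 hstr U) ≫ U.2.fromSpec =
        (p ⁻¹ᵁ U.1).ι ≫ p)
    (hres : ∀ (U : S.AffineZariskiSite) (r : Γ(S, U.1)),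
      P.homOfLE (p.preimage_mono (S.basicOpen_le r)) ≫ (c U).hom =
        (c (U.basicOpen r)).hom ≫ Proj.map (Fres 𝒜 hmap (homOfLE (U.basicOpen_le r)))
          (hirr H 𝒜 hmap hstr _)) :
    RelProj.IsRelProj (qcGrAlg H 𝒜 hmap hstr) p
      (fun U hU => c (aff U hU) ≪≫ projIso H 𝒜 hmap hstr U hU) where
  chart_over U hU := by
    simp only [Iso.trans_hom, projIso, asIso_hom, Category.assoc]
    rw [Groth.Agent.Helper13RelProj.map_toSpecZero_assoc, ← Spec.map_comp_assoc, strZero_egU]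
    exact hover (aff U hU)
  chart_res U hU r := by
    simp only [Iso.trans_hom, projIso, asIso_hom, Category.assoc]
    rw [← Category.assoc, hres (aff U hU) r]
    simp only [Category.assoc]
    refine congrArg (fun z => (c ((aff U hU).basicOpen r)).hom ≫ z) ?_
    rw [← Proj.map_comp, ← Proj.map_comp]
    apply projMap_congr
    ext x
    have h := congr($(gammaAff_naturality H
      (homOfLE ((aff U hU).basicOpen_le r) : (aff U hU).basicOpen r ⟶ aff U hU)).hom x)
    simp only [CommRingCat.hom_comp, RingHom.coe_comp, Function.comp_apply] at h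
    exact h.symm

theorem gIso_str (U : S.Opens) (hU : IsAffineOpen U) (r : Γ(S, U)) :
    gIso H U hU (((qcGrAlg H 𝒜 hmap hstr).str.app (op U)).hom r) = (α.app (op (aff U hU))).hom r := by
  have h := congr($(π_app_gammaAff H U hU).hom r)
  simp only [CommRingCat.hom_comp, RingHom.coe_comp, Function.comp_apply] at h
  exact h

theorem isGenDegOne
    (h : ∀ U : S.AffineZariskiSite,
      Subring.closure ((𝒜 U 0 : Set (F.obj (op U))) ∪ (𝒜 U 1 : Set (F.obj (op U)))) = ⊤) :
    (qcGrAlg H 𝒜 hmap hstr).IsGenDegOne := by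
  intro U hU
  rw [eq_top_iff]
  intro x _
  have key : ∀ y ∈ Subring.closure ((𝒜 (aff U hU) 0 : Set (F.obj (op (aff U hU)))) ∪
      (𝒜 (aff U hU) 1 : Set (F.obj (op (aff U hU))))),
      (gIso H U hU).symm y ∈ Subring.closure
        (((qcGrAlg H 𝒜 hmap hstr).deg U hU 0 : Set ((qcGrAlg H 𝒜 hmap hstr).presheaf.obj (op U))) ∪
          ((qcGrAlg H 𝒜 hmap hstr).deg U hU 1 : Set _)) := by
    intro y hy
    induction hy using Subring.closure_induction with
    | mem z hz =>
      refine Subring.subset_closure ?_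
      rcases hz with hz | hz
      · left
        change (gIso H U hU) ((gIso H U hU).symm z) ∈ 𝒜 (aff U hU) 0
        rw [RingEquiv.apply_symm_apply]; exact hz
      · right
        change (gIso H U hU) ((gIso H U hU).symm z) ∈ 𝒜 (aff U hU) 1
        rw [RingEquiv.apply_symm_apply]; exact hz
    | zero => rw [map_zero]; exact Subring.zero_mem _
    | one => rw [map_one]; exact Subring.one_mem _
    | add a b _ _ ha hb => rw [map_add]; exact Subring.add_mem _ ha hb
    | neg a _ ha => rw [map_neg]; exact Subring.neg_mem _ ha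
    | mul a b _ _ ha hb => rw [map_mul]; exact Subring.mul_mem _ ha hb
  have h2 := key (gIso H U hU x) (by rw [h (aff U hU)]; trivial)
  rwa [RingEquiv.symm_apply_apply] at h2

set_option backward.isDefEq.respectTransparency false in
theorem isFTDeg (d : ℕ)
    (h : ∀ U : S.AffineZariskiSite, ∃ T : Finset (F.obj (op U)),
      (↑T : Set (F.obj (op U))) ⊆ (𝒜 U d : Set (F.obj (op U))) ∧
        ∀ x ∈ 𝒜 U d, ∃ c : F.obj (op U) → Γ(S, U.1),
          x = ∑ t ∈ T, (α.app (op U)).hom (c t) * t) :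
    (qcGrAlg H 𝒜 hmap hstr).IsFTDeg d := by
  intro U hU
  obtain ⟨T, hT, hgen⟩ := h (aff U hU)
  refine ⟨T.map (gIso H U hU).symm.toEquiv.toEmbedding, ?_, ?_⟩
  · intro y hy
    simp only [Finset.coe_map, Set.mem_image] at hy
    obtain ⟨t, ht, rfl⟩ := hy
    change (gIso H U hU) ((gIso H U hU).symm t) ∈ 𝒜 (aff U hU) d
    rw [RingEquiv.apply_symm_apply]; exact hT ht
  · intro x hx
    obtain ⟨c, hc⟩ := hgen (gIso H U hU x) hx
    refine ⟨fun y => c (gIso H U hU y), ?_⟩
    apply (gIso H U hU).injective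
    rw [hc, Finset.sum_map]
    refine (Finset.sum_congr rfl fun t _ => ?_).trans (map_sum (gIso H U hU) _ T).symm
    rw [map_mul, gIso_str]
    change _ = (α.app (op (aff U hU))).hom (c ((gIso H U hU) ((gIso H U hU).symm t))) *
      (gIso H U hU) ((gIso H U hU).symm t)
    rw [RingEquiv.apply_symm_apply]

end Main

end

end Groth.Agent.Lib.T2H6.QCGrOfAffine
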