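import Mathlib
import Groth.Prelude.Def_RelProj
import Groth.Agent.Lib.T2H6HProjAlg
import Groth.Agent.Lib.T2H6QCGrOfAffine
import Groth.Agent.Lib.Helper13GradedQuot

set_option autoImplicit false

/-!
# The graded algebra `O_S[T_0,…,T_n]/K` attached to opens `X_j ⊆ X` and sections `t j m ∈ Γ(X, X_j)`

`K(U)` is the ideal of forms over `Γ(S, U)` all of whose homogeneous components are killed by every evaluation
`T_m ↦ t j m` on `X_j ∩ f⁻¹(U)`.
-/

namespace Groth.Agent.Lib.T2H6.HProjSite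

open CategoryTheory CategoryTheory.Limits AlgebraicGeometry Opposite TopologicalSpace MvPolynomial
open Scheme.AffineZariskiSite Groth.Agent.Helper13GradedQuot
open scoped HomogeneousIdeal

universe u

noncomputable section

attribute [local instance] MvPolynomial.gradedAlgebra

variable {X S : Scheme.{u}} (f : X ⟶ S) {n : ℕ} (Xo : Fin (n + 1) → X.Opens)
  (t : ∀ j, Fin (n + 1) → Γ(X, Xo j))

/-- the open `X_j ∩ f⁻¹(U)` -/
abbrev W (U : S.Opens) (j : Fin (n + 1)) : X.Opens := Xo j ⊓ f ⁻¹ᵁ U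

theorem W_mono {U V : S.Opens} (h : V ≤ U) (j : Fin (n + 1)) : W f Xo V j ≤ W f Xo U j :=
  inf_le_inf_left _ (f.preimage_mono h)

/-- the structure maps `Γ(S, U) → Γ(X, X_j ∩ f⁻¹ U)` -/
def β (U : S.Opens) (j : Fin (n + 1)) : Γ(S, U) →+* Γ(X, W f Xo U j) :=
  (f.appLE U (W f Xo U j) inf_le_right).hom

/-- the sections restricted to `X_j ∩ f⁻¹ U` -/
def tt (U : S.Opens) (j : Fin (n + 1)) (m : Fin (n + 1)) : Γ(X, W f Xo U j) :=
  (X.presheaf.map (homOfLE (inf_le_left : W f Xo U j ≤ Xo j)).op).hom (t j m)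

/-- the ideal of relations over `U` -/
def K (U : S.Opens) : Ideal (MvPolynomial (Fin (n + 1)) Γ(S, U)) :=
  Groth.Agent.Lib.T2H6.HProjAlg.K (fun j => Γ(X, W f Xo U j)) (β f Xo U) (tt f Xo t U)

/-- restriction of functions on `S` -/
abbrev resS {U V : S.Opens} (h : V ≤ U) : Γ(S, U) →+* Γ(S, V) := (S.presheaf.map (homOfLE h).op).hom

/-- restriction of functions on the `W`s -/
abbrev resW {U V : S.Opens} (h : V ≤ U) (j : Fin (n + 1)) : Γ(X, W f Xo U j) →+* Γ(X, W f Xo V j) :=
  (X.presheaf.map (homOfLE (W_mono f Xo h j)).op).hom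

theorem resW_β {U V : S.Opens} (h : V ≤ U) (j : Fin (n + 1)) :
    (resW f Xo h j).comp (β f Xo U j) = (β f Xo V j).comp (resS h) := by
  ext r
  simp only [β, RingHom.comp_apply]
  rw [← CommRingCat.comp_apply, ← CommRingCat.comp_apply, Scheme.Hom.appLE_map,
    Scheme.Hom.map_appLE]

theorem resW_tt {U V : S.Opens} (h : V ≤ U) (j m : Fin (n + 1)) :
    resW f Xo h j (tt f Xo t U j m) = tt f Xo t V j m := by
  change (X.presheaf.map _).hom ((X.presheaf.map _).hom (t j m)) = (X.presheaf.map _).hom (t j m)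
  rw [← CommRingCat.comp_apply, ← Functor.map_comp]
  rfl

theorem map_mem_K {U V : S.Opens} (h : V ≤ U) {a : MvPolynomial (Fin (n + 1)) Γ(S, U)}
    (ha : a ∈ K f Xo t U) : MvPolynomial.map (resS h) a ∈ K f Xo t V := by
  letI : Algebra Γ(S, U) Γ(S, V) := (resS h).toAlgebra
  exact Groth.Agent.Lib.T2H6.HProjAlg.map_mem_K (fun j => Γ(X, W f Xo U j)) (β f Xo U) (tt f Xo t U)
    (fun j => Γ(X, W f Xo V j)) (β f Xo V) (tt f Xo t V) (resW f Xo h)
    (fun j => resW_β f Xo h j) (fun j m => resW_tt f Xo t h j m) ha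

/-- the quotient ring over `U` -/
abbrev Q (U : S.Opens) : Type u := MvPolynomial (Fin (n + 1)) Γ(S, U) ⧸ K f Xo t U

/-- the transition maps -/
def qmap {U V : S.Opens} (h : V ≤ U) : Q f Xo t U →+* Q f Xo t V :=
  Ideal.quotientMap (K f Xo t V) (MvPolynomial.map (resS h)) (fun _ ha => map_mem_K f Xo t h ha)

@[simp] theorem qmap_mk {U V : S.Opens} (h : V ≤ U) (a : MvPolynomial (Fin (n + 1)) Γ(S, U)) :
    qmap f Xo t h (Ideal.Quotient.mk _ a) = Ideal.Quotient.mk _ (MvPolynomial.map (resS h) a) :=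
  Ideal.quotientMap_mk

theorem qmap_id (U : S.Opens) (x : Q f Xo t U) : qmap f Xo t (le_refl U) x = x := by
  obtain ⟨a, rfl⟩ := Ideal.Quotient.mk_surjective x
  rw [qmap_mk]
  congr 1
  have : resS (le_refl U) = RingHom.id Γ(S, U) := by
    refine RingHom.ext fun r => ?_
    change (S.presheaf.map (𝟙 _)).hom r = r
    rw [S.presheaf.map_id]; rfl
  rw [this, MvPolynomial.map_id]

theorem qmap_comp {U V W : S.Opens} (h : V ≤ U) (h' : W ≤ V) (x : Q f Xo t U) :
    qmap f Xo t h' (qmap f Xo t h x) = qmap f Xo t (h'.trans h) x := by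
  obtain ⟨a, rfl⟩ := Ideal.Quotient.mk_surjective x
  rw [qmap_mk, qmap_mk, qmap_mk, MvPolynomial.map_map]
  have e : resS (h'.trans h) = (resS h').comp (resS h) := by
    refine RingHom.ext fun r => ?_
    change (S.presheaf.map _).hom r = (S.presheaf.map _).hom ((S.presheaf.map _).hom r)
    rw [← CommRingCat.comp_apply, ← Functor.map_comp]
    rfl
  rw [e]

/-- the presheaf of rings `U ↦ Γ(S, U)[T] / K(U)` on the affine site -/
abbrev F : S.AffineZariskiSiteᵒᵖ ⥤ CommRingCat.{u} where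
  obj U := CommRingCat.of (Q f Xo t U.unop.1)
  map {U V} i := CommRingCat.ofHom (qmap f Xo t (toOpens_mono i.unop.le))
  map_id U := by
    refine CommRingCat.hom_ext (RingHom.ext fun x => ?_)
    exact qmap_id f Xo t _ x
  map_comp {U V W} i j := by
    refine CommRingCat.hom_ext (RingHom.ext fun x => ?_)
    exact (qmap_comp f Xo t _ _ x).symm

/-- the structure map on the affine site -/
def α : (toOpensFunctor S).op ⋙ S.presheaf ⟶ F f Xo t where
  app U := CommRingCat.ofHom ((Ideal.Quotient.mk (K f Xo t U.unop.1)).comp MvPolynomial.C)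
  naturality {U V} i := by
    refine CommRingCat.hom_ext (RingHom.ext fun r => ?_)
    change Ideal.Quotient.mk _ (C (resS (toOpens_mono i.unop.le) r)) =
      qmap f Xo t _ (Ideal.Quotient.mk _ (C r))
    rw [qmap_mk, MvPolynomial.map_C]
    rfl

theorem α_apply (U : S.AffineZariskiSite) (r : Γ(S, U.1)) :
    ((α f Xo t).app (op U)).hom r = Ideal.Quotient.mk (K f Xo t U.1) (C r) := rfl

theorem basicOpen_β (U : S.Opens) (r : Γ(S, U)) (j : Fin (n + 1)) :
    X.basicOpen (β f Xo U j r) = W f Xo (S.basicOpen r) j := by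
  have h1 : β f Xo U j r =
      (X.presheaf.map (homOfLE (inf_le_right : W f Xo U j ≤ f ⁻¹ᵁ U)).op).hom ((f.app U).hom r) := rfl
  rw [h1, Scheme.basicOpen_res, ← Scheme.preimage_basicOpen]
  rw [inf_assoc, ← Scheme.Hom.preimage_inf, inf_eq_right.mpr (S.basicOpen_le r)]

variable (hqc : ∀ (U : S.Opens), IsAffineOpen U → ∀ j, IsCompact (W f Xo U j : Set X))

include hqc in
theorem exists_pow_mul_eq_zero (U : S.Opens) (hU : IsAffineOpen U) (r : Γ(S, U)) (j : Fin (n + 1))
    (b : Γ(X, W f Xo U j)) (hb : resW f Xo (S.basicOpen_le r) j b = 0) :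
    ∃ k : ℕ, β f Xo U j r ^ k * b = 0 := by
  refine exists_pow_mul_eq_zero_of_res_basicOpen_eq_zero_of_isCompact X (hqc U hU j) b
    (β f Xo U j r) ?_
  have e := basicOpen_β f Xo U r j
  have h2 : ∀ (V : X.Opens) (hV : V = W f Xo (S.basicOpen r) j) (hle : V ≤ W f Xo U j),
      (X.presheaf.map (homOfLE hle).op).hom b = 0 := by
    intro V hV hle
    subst hV
    exact hb
  exact h2 _ e _

include hqc in
theorem coequifibered : (α f Xo t).Coequifibered := by
  rw [coequifibered_iff_forall_isLocalizationAway]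
  intro U r
  letI : Algebra Γ(S, U.1) Γ(S, S.basicOpen r) := (resS (S.basicOpen_le r)).toAlgebra
  haveI : IsLocalization.Away r Γ(S, S.basicOpen r) := U.2.isLocalization_basicOpen r
  exact Groth.Agent.Lib.T2H6.HProjAlg.isLocalization_quotient
    (fun j => Γ(X, W f Xo U.1 j)) (β f Xo U.1) (tt f Xo t U.1) r
    (fun j => Γ(X, W f Xo (S.basicOpen r) j)) (β f Xo (S.basicOpen r)) (tt f Xo t (S.basicOpen r))
    (resW f Xo (S.basicOpen_le r))
    (fun j => resW_β f Xo (S.basicOpen_le r) j) (fun j m => resW_tt f Xo t (S.basicOpen_le r) j m)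
    (fun j b hb => exists_pow_mul_eq_zero f Xo hqc U.1 U.2 r j b hb)
    (qmap f Xo t (S.basicOpen_le r)) (fun a => qmap_mk f Xo t _ a)

/-- the grading of the polynomial ring over `Γ(S, U)` -/
abbrev pg (U : S.Opens) : ℕ → Submodule Γ(S, U) (MvPolynomial (Fin (n + 1)) Γ(S, U)) :=
  MvPolynomial.homogeneousSubmodule (Fin (n + 1)) Γ(S, U)

/-- the grading of the quotient -/
abbrev gr (U : S.AffineZariskiSite) : ℕ → Submodule Γ(S, U.1) (Q f Xo t U.1) :=
  qgr (pg (n := n) U.1) (K f Xo t U.1)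

instance gradedAlgebra_gr (U : S.AffineZariskiSite) : GradedAlgebra (gr f Xo t U) :=
  gradedAlgebraQuot (pg (n := n) U.1) (K f Xo t U.1)
    (Groth.Agent.Lib.T2H6.HProjAlg.K_isHomogeneous _ _ _)

theorem hmap {U V : S.AffineZariskiSite} (i : V ⟶ U) {d : ℕ} {x : (F f Xo t).obj (op U)}
    (hx : x ∈ gr f Xo t U d) : ((F f Xo t).map i.op).hom x ∈ gr f Xo t V d := by
  obtain ⟨a, ha, rfl⟩ := hx
  refine ⟨MvPolynomial.map (resS (toOpens_mono i.le)) a, ?_, ?_⟩
  · exact MvPolynomial.IsHomogeneous.map ha _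
  · exact (qmap_mk f Xo t _ a).symm

theorem hstr (U : S.AffineZariskiSite) (r : Γ(S, U.1)) :
    ((α f Xo t).app (op U)).hom r ∈ gr f Xo t U 0 :=
  ⟨C r, MvPolynomial.isHomogeneous_C _ r, rfl⟩

/-- the quasi-coherent graded algebra `O_S[T]/K` -/
def qcGrAlg : RelProj.QCGrAlg S :=
  Groth.Agent.Lib.T2H6.QCGrOfAffine.qcGrAlg (σ := fun U => Submodule Γ(S, U.1) (Q f Xo t U.1))
    (coequifibered f Xo t hqc) (gr f Xo t)
    (fun i _ _ hx => hmap f Xo t i hx) (hstr f Xo t)

theorem closure_gr (U : S.AffineZariskiSite) :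
    Subring.closure ((gr f Xo t U 0 : Set (Q f Xo t U.1)) ∪ (gr f Xo t U 1 : Set (Q f Xo t U.1))) = ⊤ := by
  rw [eq_top_iff]
  rintro x -
  obtain ⟨a, rfl⟩ := Ideal.Quotient.mk_surjective x
  induction a using MvPolynomial.induction_on with
  | C r =>
    exact Subring.subset_closure (Or.inl ⟨C r, MvPolynomial.isHomogeneous_C _ r, rfl⟩)
  | add p q hp hq =>
    rw [map_add]; exact Subring.add_mem _ hp hq
  | mul_X p m hp =>
    rw [map_mul]
    exact Subring.mul_mem _ hp
      (Subring.subset_closure (Or.inr ⟨MvPolynomial.X m, MvPolynomial.isHomogeneous_X _ m, rfl⟩))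

theorem isGenDegOne : (qcGrAlg f Xo t hqc).IsGenDegOne :=
  Groth.Agent.Lib.T2H6.QCGrOfAffine.isGenDegOne _ _ _ _ (closure_gr f Xo t)

theorem eq_sum_of_isHomogeneous_one {R : Type*} [CommRing R] {a : MvPolynomial (Fin (n + 1)) R}
    (ha : a.IsHomogeneous 1) :
    a = ∑ m : Fin (n + 1), C (a.coeff (Finsupp.single m 1)) * MvPolynomial.X m := by
  classical
  ext d
  rw [coeff_sum]
  simp only [coeff_C_mul, coeff_X', mul_ite, mul_one, mul_zero]
  by_cases hd : ∃ m, Finsupp.single m 1 = d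
  · obtain ⟨m₀, rfl⟩ := hd
    rw [Finset.sum_eq_single m₀]
    · simp
    · intro b _ hb
      rw [if_neg]
      intro h
      apply hb
      have := congrArg (fun g => g m₀) h
      simp only [Finsupp.single_eq_same] at this
      by_contra hne
      rw [Finsupp.single_eq_of_ne (Ne.symm hne)] at this
      exact absurd this (by norm_num)
    · intro h; exact absurd (Finset.mem_univ _) h
  · have h0 : coeff d a = 0 := by
      by_contra hne
      have h1 := ha.degree_eq_sum_deg_support (Finsupp.mem_support_iff.mpr hne)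
      have h2 : (d.sum fun _ n => n) = 1 := h1.symm
      obtain ⟨m, hm⟩ := (Finsupp.sum_eq_one_iff d).mp h2
      exact hd ⟨m, hm.symm⟩
    rw [h0]
    symm
    apply Finset.sum_eq_zero
    intro m _
    rw [if_neg]
    intro h
    exact hd ⟨m, h⟩

set_option backward.isDefEq.respectTransparency false in
theorem ft_gr (U : S.AffineZariskiSite) : ∃ T : Finset (Q f Xo t U.1),
    (↑T : Set (Q f Xo t U.1)) ⊆ (gr f Xo t U 1 : Set (Q f Xo t U.1)) ∧
      ∀ x ∈ gr f Xo t U 1, ∃ c : Q f Xo t U.1 → Γ(S, U.1),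
        x = ∑ y ∈ T, ((α f Xo t).app (op U)).hom (c y) * y := by
  classical
  let g : Fin (n + 1) → Q f Xo t U.1 := fun m => Ideal.Quotient.mk _ (MvPolynomial.X m)
  refine ⟨Finset.univ.image g, ?_, ?_⟩
  · intro y hy
    simp only [Finset.coe_image, Finset.coe_univ, Set.image_univ, Set.mem_range] at hy
    obtain ⟨m, rfl⟩ := hy
    exact ⟨MvPolynomial.X m, MvPolynomial.isHomogeneous_X _ m, rfl⟩
  · rintro x ⟨a, ha, rfl⟩
    have ha' : a.IsHomogeneous 1 := ha
    let c₀ : Fin (n + 1) → Γ(S, U.1) := fun m => a.coeff (Finsupp.single m 1)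
    refine ⟨fun y => ∑ m ∈ Finset.univ.filter (fun m => g m = y), c₀ m, ?_⟩
    refine Eq.trans ?_ (Finset.sum_image' (s := Finset.univ) (g := g)
      (f := fun y => ((α f Xo t).app (op U)).hom
        (∑ m ∈ Finset.univ.filter (fun m => g m = y), c₀ m) * y)
      (fun m => ((α f Xo t).app (op U)).hom (c₀ m) * g m) ?_).symm
    · change Ideal.Quotient.mk _ a = _
      conv_lhs => rw [eq_sum_of_isHomogeneous_one ha']
      rw [map_sum]
      refine Finset.sum_congr rfl fun m _ => ?_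
      rw [map_mul]
      rfl
    · intro i _
      rw [map_sum, Finset.sum_mul]
      refine Finset.sum_congr rfl fun j hj => ?_
      rw [(Finset.mem_filter.mp hj).2]

theorem isFTDeg_one : (qcGrAlg f Xo t hqc).IsFTDeg 1 :=
  Groth.Agent.Lib.T2H6.QCGrOfAffine.isFTDeg _ _ _ _ 1 (ft_gr f Xo t)

end

end Groth.Agent.Lib.T2H6.HProjSite
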