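import Mathlib
import Groth.Agent.Lib.Helper13Dehom
import Groth.Agent.Lib.Helper13ProjUPa

set_option autoImplicit false

/-!
# Sections of `Proj` over `D₊(g)`: compatibility of dehomogenization with `Proj.map` and with the structure map
-/

namespace Groth.Agent.Lib.T2H6.ProjSect

open CategoryTheory CategoryTheory.Limits AlgebraicGeometry Opposite TopologicalSpace
open HomogeneousLocalization Groth.Agent.Helper13Dehom Groth.Agent.Helper13ProjUP
open scoped HomogeneousIdeal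

universe u

section Map

variable {R R' A B : Type u} [CommRing R] [CommRing R'] [CommRing A] [CommRing B] [Algebra R A]
  [Algebra R' B] {𝒜 : ℕ → Submodule R A} [GradedAlgebra 𝒜] {ℬ : ℕ → Submodule R' B}
  [GradedAlgebra ℬ] (φ : 𝒜 →+*ᵍ ℬ) (hφ : ℬ₊ ≤ 𝒜₊.map φ)

theorem basicOpen_le_preimage {g : A} {g' : B} (hgg' : φ g = g') :
    Proj.basicOpen ℬ g' ≤ Proj.map φ hφ ⁻¹ᵁ Proj.basicOpen 𝒜 g := by
  subst hgg'
  exact le_rfl

/-- `Proj.map φ` pulls `a / g^k` back to `φ a / (φ g)^k`. -/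
theorem map_appLE_dehom {g : A} (hg : g ∈ 𝒜 1) {g' : B} (hg' : g' ∈ ℬ 1) (hgg' : φ g = g')
    {k : ℕ} {a : A} (ha : a ∈ 𝒜 k) :
    ((Proj.map φ hφ).appLE (Proj.basicOpen 𝒜 g) (Proj.basicOpen ℬ g')
      (basicOpen_le_preimage φ hφ hgg')).hom (dehom hg a) = dehom hg' (φ a) := by
  subst hgg'
  have ha' : a ∈ 𝒜 (k • 1) := by simpa using ha
  have hb' : φ a ∈ ℬ (k • 1) := φ.map_mem ha'
  rw [dehom_eq_awayToSection hg ha', dehom_eq_awayToSection hg' hb']
  have h1 := Proj.awayToSection_comp_appLE φ hφ hg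
  have h2 := congr($(h1).hom (Away.mk 𝒜 hg k a ha'))
  simp only [CommRingCat.hom_comp, RingHom.coe_comp, Function.comp_apply,
    CommRingCat.hom_ofHom] at h2
  rw [Away.map_mk] at h2
  exact h2

end Map

section Str

variable {Y : Scheme.{u}} {V : Y.Opens} (hV : IsAffineOpen V) {R : CommRingCat.{u}}
  (h : Y ⟶ Spec R) (φ : R ⟶ Γ(Y, V))

/-- the ring map classifying the restriction to an affine open of a morphism to an affine scheme -/
theorem inv_appLE_of_fromSpec_comp (H : hV.fromSpec ≫ h = Spec.map φ) :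
    (Scheme.ΓSpecIso R).inv ≫ h.appLE ⊤ V le_top = φ := by
  have h1 := congrArg Scheme.Hom.appTop H
  rw [Scheme.Hom.comp_appTop] at h1
  have h2 : hV.fromSpec.appTop = Y.presheaf.map (homOfLE (le_top : V ≤ ⊤)).op ≫
      (Scheme.ΓSpecIso Γ(Y, V)).inv := by
    rw [Scheme.Hom.appTop, hV.fromSpec_app_of_le ⊤ le_top]
    have : (Spec Γ(Y, V)).presheaf.map (homOfLE (le_top : hV.fromSpec ⁻¹ᵁ ⊤ ≤ ⊤)).op = 𝟙 _ := by
      rw [← CategoryTheory.Functor.map_id]; rfl
    erw [this, Category.comp_id]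
    rfl
  rw [h2] at h1
  have h3 := Scheme.ΓSpecIso_naturality φ
  rw [← h1] at h3
  simp only [Category.assoc, Iso.inv_hom_id, Category.comp_id] at h3
  rw [Iso.inv_comp_eq, ← h3]
  rfl

end Str

section Str2

variable {R A : Type u} [CommRing R] [CommRing A] [Algebra R A] {𝒜 : ℕ → Submodule R A}
  [GradedAlgebra 𝒜]

/-- the structure map `R → Γ(Proj 𝒜, D₊(g))` is induced by `toBase` -/
theorem toBase_appLE {g : A} (hg : g ∈ 𝒜 1) (c : R) :
    ((toBase 𝒜).appLE ⊤ (Proj.basicOpen 𝒜 g) le_top).hom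
      ((Scheme.ΓSpecIso (CommRingCat.of R)).inv.hom c) = dehom hg (algebraMap R A c) := by
  have h := inv_appLE_of_fromSpec_comp (isAffineOpen_basicOpen hg) (toBase 𝒜) (strMap hg)
    (fromSpec_toBase hg)
  have h2 := congr($(h).hom c)
  simp only [CommRingCat.hom_comp, RingHom.coe_comp, Function.comp_apply] at h2
  rw [h2, strMap_apply]

/-- the structure map over an affine open `U` of a base scheme `S` with `Γ(S, U) = R` -/
theorem toBase_fromSpec_appLE {S : Scheme.{u}} {U : S.Opens} (hU : IsAffineOpen U)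
    {A : Type u} [CommRing A] [Algebra Γ(S, U) A] {𝒜 : ℕ → Submodule Γ(S, U) A} [GradedAlgebra 𝒜]
    {g : A} (hg : g ∈ 𝒜 1) (c : Γ(S, U))
    (e : Proj.basicOpen 𝒜 g ≤ (toBase 𝒜 ≫ hU.fromSpec) ⁻¹ᵁ U) :
    ((toBase 𝒜 ≫ hU.fromSpec).appLE U (Proj.basicOpen 𝒜 g) e).hom c =
      dehom hg (algebraMap Γ(S, U) A c) := by
  rw [← toBase_appLE hg c]
  rw [Scheme.Hom.comp_appLE, hU.fromSpec_app_self]
  simp only [Category.assoc, Scheme.Hom.map_appLE, CommRingCat.hom_comp, RingHom.coe_comp,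
    Function.comp_apply]
  rfl

end Str2

end Groth.Agent.Lib.T2H6.ProjSect
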