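import Mathlib
import Groth.Prelude.Def_RelProj
import Groth.Agent.Lib.T2H6PnChart
import Groth.Agent.Lib.T2H6ProjSect
import Groth.Agent.Lib.T2H6HProjSite
import Groth.Agent.Lib.Helper13ProjQuotIdeal
import Groth.Agent.Lib.Helper27PnChart

set_option autoImplicit false
set_option backward.isDefEq.respectTransparency false

/-!
# Charts of a closed subscheme of `P^n_S` as `Proj` of the graded quotients `Γ(S, U)[T]/K(U)`
-/

namespace Groth.Agent.Lib.T2H6.HProjChart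

open CategoryTheory CategoryTheory.Limits AlgebraicGeometry Opposite TopologicalSpace
open Scheme.AffineZariskiSite
open scoped HomogeneousIdeal

universe u

noncomputable section

attribute [local instance] MvPolynomial.algebraMvPolynomial

/-- the integers in universe `u` -/
abbrev Z₀ : Type u := ULift.{u} ℤ

theorem ringHom_ext_Z₀ {B : Type*} [Semiring B] (f g : Z₀.{u} →+* B) : f = g := by
  have h := RingHom.ext_int (f.comp (ULift.ringEquiv (R := ℤ)).symm.toRingHom)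
    (g.comp (ULift.ringEquiv (R := ℤ)).symm.toRingHom)
  refine RingHom.ext fun x => ?_
  have := RingHom.congr_fun h x.down
  simp only [RingHom.comp_apply] at this
  exact this

variable {S : Scheme.{u}}

/-- the algebra structure of the sections of `S` over the integers -/
@[instance_reducible]
def algSect (U : S.Opens) : Algebra Z₀.{u} Γ(S, U) :=
  ((Int.castRingHom Γ(S, U)).comp (ULift.ringEquiv : Z₀.{u} ≃+* ℤ).toRingHom).toAlgebra

attribute [local instance] algSect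

/-- the structure morphism to `Spec ℤ` -/
abbrev tS (S : Scheme.{u}) : S ⟶ Spec (CommRingCat.of Z₀.{u}) := specULiftZIsTerminal.from S

theorem hj {U : S.Opens} (hU : IsAffineOpen U) :
    hU.fromSpec ≫ tS S = Spec.map (CommRingCat.ofHom (algebraMap Z₀.{u} Γ(S, U))) :=
  specULiftZIsTerminal.hom_ext _ _

variable (n : ℕ)

/-- the standard chart of `P^n_S` over an affine open of `S` -/
def embU {U : S.Opens} (hU : IsAffineOpen U) :
    Proj (CohB1.polyGrading n Γ(S, U)) ⟶ CohB1.ProjSpaceOver n S :=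
  PnChart.emb Z₀.{u} Γ(S, U) n (tS S) hU.fromSpec (hj hU)

instance {U : S.Opens} (hU : IsAffineOpen U) : IsOpenImmersion (embU n hU) :=
  PnChart.isOpenImmersion_emb Z₀.{u} Γ(S, U) n (tS S) hU.fromSpec (hj hU)

theorem embU_toBase {U : S.Opens} (hU : IsAffineOpen U) :
    embU n hU ≫ CohB1.ProjSpaceOver.toBase n S = CohB1.ProjSpace.toSpec n Γ(S, U) ≫ hU.fromSpec :=
  PnChart.emb_snd Z₀.{u} Γ(S, U) n (tS S) hU.fromSpec (hj hU)

theorem embU_fst {U : S.Opens} (hU : IsAffineOpen U) :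
    embU n hU ≫ pullback.fst (CohB1.ProjSpace.toSpec n Z₀.{u}) (tS S) =
      Proj.map (PnChart.phiA Z₀.{u} Γ(S, U) n) (PnChart.irr_phiA Z₀.{u} Γ(S, U) n) :=
  PnChart.emb_fst Z₀.{u} Γ(S, U) n (tS S) hU.fromSpec (hj hU)

theorem opensRange_embU {U : S.Opens} (hU : IsAffineOpen U) :
    (embU n hU).opensRange = CohB1.ProjSpaceOver.toBase n S ⁻¹ᵁ U := by
  ext1
  have h := PnChart.range_emb Z₀.{u} Γ(S, U) n (tS S) hU.fromSpec (hj hU)
  rw [hU.range_fromSpec] at h
  exact h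

variable {n} {X : Scheme.{u}} (i : X ⟶ CohB1.ProjSpaceOver n S)

/-- the structure morphism of `X` -/
abbrev fS : X ⟶ S := i ≫ CohB1.ProjSpaceOver.toBase n S

/-- the morphism to projective space over the integers -/
abbrev gZ : X ⟶ Proj (CohB1.polyGrading n Z₀.{u}) :=
  i ≫ pullback.fst (CohB1.ProjSpace.toSpec n Z₀.{u}) (tS S)

theorem range_le {U : S.Opens} (hU : IsAffineOpen U) :
    Set.range ((fS i ⁻¹ᵁ U).ι ≫ i).base ⊆ Set.range (embU n hU).base := by
  rintro _ ⟨x, rfl⟩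
  have h : (embU n hU).opensRange = CohB1.ProjSpaceOver.toBase n S ⁻¹ᵁ U := opensRange_embU n hU
  have h2 : ((fS i ⁻¹ᵁ U).ι ≫ i).base x ∈ (embU n hU).opensRange := by
    rw [h]
    exact x.2
  exact h2

/-- the restriction of `i` over an affine open `U`, as a morphism to `Proj Γ(S, U)[T]` -/
def iU {U : S.Opens} (hU : IsAffineOpen U) :
    ((fS i ⁻¹ᵁ U : X.Opens) : Scheme.{u}) ⟶ Proj (CohB1.polyGrading n Γ(S, U)) :=
  IsOpenImmersion.lift (embU n hU) ((fS i ⁻¹ᵁ U).ι ≫ i) (range_le i hU)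

@[reassoc]
theorem iU_embU {U : S.Opens} (hU : IsAffineOpen U) :
    iU i hU ≫ embU n hU = (fS i ⁻¹ᵁ U).ι ≫ i :=
  IsOpenImmersion.lift_fac _ _ _

@[reassoc]
theorem iU_toSpec {U : S.Opens} (hU : IsAffineOpen U) :
    iU i hU ≫ CohB1.ProjSpace.toSpec n Γ(S, U) ≫ hU.fromSpec = (fS i ⁻¹ᵁ U).ι ≫ fS i := by
  rw [← embU_toBase n hU, iU_embU_assoc]

@[reassoc]
theorem iU_map_phiA {U : S.Opens} (hU : IsAffineOpen U) :
    iU i hU ≫ Proj.map (PnChart.phiA Z₀.{u} Γ(S, U) n) (PnChart.irr_phiA Z₀.{u} Γ(S, U) n) =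
      (fS i ⁻¹ᵁ U).ι ≫ gZ i := by
  rw [← embU_fst n hU, iU_embU_assoc]

theorem isPullback_iU {U : S.Opens} (hU : IsAffineOpen U) :
    IsPullback (iU i hU) (fS i ⁻¹ᵁ U).ι (embU n hU) i := by
  refine IsOpenImmersion.isPullback _ _ _ _ (iU_embU i hU).symm ?_
  rw [opensRange_embU, Scheme.Opens.opensRange_ι]
  rfl

instance [IsClosedImmersion i] {U : S.Opens} (hU : IsAffineOpen U) :
    IsClosedImmersion (iU i hU) :=
  MorphismProperty.of_isPullback (P := @IsClosedImmersion) (isPullback_iU i hU).flip inferInstance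

section Res

variable {U V : S.Opens} (hU : IsAffineOpen U) (hV : IsAffineOpen V) (h : V ≤ U)

/-- restriction as an algebra structure -/
@[instance_reducible]
def algRes : Algebra Γ(S, U) Γ(S, V) := (S.presheaf.map (homOfLE h).op).hom.toAlgebra

theorem isScalarTower_res :
    @IsScalarTower Z₀.{u} Γ(S, U) Γ(S, V) (algSect U).toSMul (algRes h).toSMul (algSect V).toSMul :=
  letI := algRes h
  IsScalarTower.of_algebraMap_eq' (ringHom_ext_Z₀ _ _)

theorem res_embU :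
    letI := algRes h
    Proj.map (PnChart.phiA Γ(S, U) Γ(S, V) n) (PnChart.irr_phiA Γ(S, U) Γ(S, V) n) ≫ embU n hU =
      embU n hV := by
  letI := algRes h
  haveI := isScalarTower_res h
  exact PnChart.map_phiA_emb Z₀.{u} Γ(S, U) Γ(S, V) n (tS S) hU.fromSpec (hj hU) hV.fromSpec (hj hV)
    (hU.map_fromSpec hV (homOfLE h).op).symm

theorem res_iU :
    letI := algRes h
    X.homOfLE ((fS i).preimage_mono h) ≫ iU i hU =
      iU i hV ≫ Proj.map (PnChart.phiA Γ(S, U) Γ(S, V) n) (PnChart.irr_phiA Γ(S, U) Γ(S, V) n) := by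
  letI := algRes h
  rw [← cancel_mono (embU n hU), Category.assoc, Category.assoc, iU_embU, res_embU hU hV h,
    iU_embU, Scheme.homOfLE_ι_assoc]

end Res

section Key

open Groth.Agent.Helper13Dehom MvPolynomial

/-- the standard opens of projective space over the integers -/
abbrev Dz (n : ℕ) (j : Fin (n + 1)) : (Proj (CohB1.polyGrading n Z₀.{u})).Opens :=
  Proj.basicOpen (CohB1.polyGrading n Z₀.{u}) (MvPolynomial.X j)

theorem hXz (n : ℕ) (j : Fin (n + 1)) :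
    (MvPolynomial.X j : MvPolynomial (Fin (n + 1)) Z₀.{u}) ∈ CohB1.polyGrading n Z₀.{u} 1 :=
  MvPolynomial.isHomogeneous_X _ j

/-- the opens `X_j` -/
abbrev Xo (j : Fin (n + 1)) : X.Opens := gZ i ⁻¹ᵁ Dz n j

/-- the sections `T_m / T_j` on `X_j` -/
def ts (j m : Fin (n + 1)) : Γ(X, Xo i j) :=
  ((gZ i).app (Dz n j)).hom (dehom (hXz n j) (MvPolynomial.X m))

variable {U : S.Opens} (hU : IsAffineOpen U)

/-- the standard opens of projective space over `Γ(S, U)` -/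
abbrev DU (U : S.Opens) (j : Fin (n + 1)) : (Proj (CohB1.polyGrading n Γ(S, U))).Opens :=
  Proj.basicOpen (CohB1.polyGrading n Γ(S, U)) (MvPolynomial.X j)

theorem hXU (U : S.Opens) (j : Fin (n + 1)) :
    (MvPolynomial.X j : MvPolynomial (Fin (n + 1)) Γ(S, U)) ∈ CohB1.polyGrading n Γ(S, U) 1 :=
  MvPolynomial.isHomogeneous_X _ j

theorem phiA_X (U : S.Opens) (j : Fin (n + 1)) :
    PnChart.phiA Z₀.{u} Γ(S, U) n (MvPolynomial.X j) = MvPolynomial.X j :=
  MvPolynomial.map_X _ j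

theorem preimage_Dz (U : S.Opens) (j : Fin (n + 1)) :
    Proj.map (PnChart.phiA Z₀.{u} Γ(S, U) n) (PnChart.irr_phiA Z₀.{u} Γ(S, U) n) ⁻¹ᵁ Dz n j =
      DU U j := by
  rw [Proj.map_preimage_basicOpen, phiA_X]

/-- the key identity of opens -/
theorem preimage_DU (j : Fin (n + 1)) :
    iU i hU ⁻¹ᵁ DU U j = (fS i ⁻¹ᵁ U).ι ⁻¹ᵁ Xo i j := by
  rw [← preimage_Dz, ← Scheme.Hom.comp_preimage, iU_map_phiA]
  rfl

theorem image_preimage_DU (j : Fin (n + 1)) :
    (fS i ⁻¹ᵁ U).ι ''ᵁ (iU i hU ⁻¹ᵁ DU U j) = HProjSite.W (fS i) (Xo i) U j := by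
  rw [preimage_DU, Scheme.Hom.image_preimage_eq_opensRange_inf, Scheme.Opens.opensRange_ι,
    inf_comm]

theorem le_preimage_W (j : Fin (n + 1)) :
    iU i hU ⁻¹ᵁ DU U j ≤ (fS i ⁻¹ᵁ U).ι ⁻¹ᵁ HProjSite.W (fS i) (Xo i) U j := by
  rw [← image_preimage_DU i hU j, Scheme.Hom.preimage_image_eq]

/-- the comparison of section rings -/
def θ (j : Fin (n + 1)) : Γ(X, HProjSite.W (fS i) (Xo i) U j) →+*
    Γ((fS i ⁻¹ᵁ U : X.Opens), iU i hU ⁻¹ᵁ DU U j) :=
  ((fS i ⁻¹ᵁ U).ι.appLE _ _ (le_preimage_W i hU j)).hom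

theorem isIso_appLE_of_image_eq {Y Z : Scheme.{u}} (f : Y ⟶ Z) [IsOpenImmersion f] (V : Y.Opens)
    (W : Z.Opens) (hW : f ''ᵁ V = W) (e : V ≤ f ⁻¹ᵁ W) : IsIso (f.appLE W V e) := by
  subst hW
  have h := f.appIso_hom' V
  have h2 : f.appLE (f ''ᵁ V) V e = (f.appIso V).hom := h.symm
  rw [h2]
  infer_instance

theorem θ_injective (j : Fin (n + 1)) : Function.Injective (θ i hU j) := by
  haveI := isIso_appLE_of_image_eq (fS i ⁻¹ᵁ U).ι _ _ (image_preimage_DU i hU j)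
    (le_preimage_W i hU j)
  exact (ConcreteCategory.bijective_of_isIso
    ((fS i ⁻¹ᵁ U).ι.appLE _ _ (le_preimage_W i hU j))).1

theorem appLE_congr_hom {Y Z : Scheme.{u}} {f g : Y ⟶ Z} (h : f = g) (U : Z.Opens) (V : Y.Opens)
    (e : V ≤ f ⁻¹ᵁ U) (e' : V ≤ g ⁻¹ᵁ U) : f.appLE U V e = g.appLE U V e' := by
  subst h; rfl

/-- evaluation of forms over `U` at the sections `ts` -/
abbrev evU (U : S.Opens) (j : Fin (n + 1)) :
    MvPolynomial (Fin (n + 1)) Γ(S, U) →+* Γ(X, HProjSite.W (fS i) (Xo i) U j) :=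
  HProjAlg.ev (fun j => Γ(X, HProjSite.W (fS i) (Xo i) U j)) (HProjSite.β (fS i) (Xo i) U)
    (HProjSite.tt (fS i) (Xo i) (ts i) U) j

/-- pulling back the dehomogenization along `iU` -/
def ρ (j : Fin (n + 1)) : MvPolynomial (Fin (n + 1)) Γ(S, U) →+*
    Γ((fS i ⁻¹ᵁ U : X.Opens), iU i hU ⁻¹ᵁ DU U j) :=
  ((iU i hU).app (DU U j)).hom.comp (dehom (hXU U j))

theorem le_preimage_U (j : Fin (n + 1)) :
    DU U j ≤ (Groth.Agent.Helper13ProjUP.toBase (CohB1.polyGrading n Γ(S, U)) ≫ hU.fromSpec) ⁻¹ᵁ U := by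
  rw [Scheme.Hom.comp_preimage, hU.fromSpec_preimage_self]
  exact le_top

theorem θ_comp_ev_C (j : Fin (n + 1)) (c : Γ(S, U)) :
    θ i hU j (evU i U j (C c)) = ρ i hU j (C c) := by
  have h1 : evU i U j (C c) = HProjSite.β (fS i) (Xo i) U j c := by
    simp [HProjAlg.ev]
  rw [h1]
  have h2 : dehom (hXU U j) (C c) =
      ((Groth.Agent.Helper13ProjUP.toBase (CohB1.polyGrading n Γ(S, U)) ≫ hU.fromSpec).appLE U
        (DU U j) (le_preimage_U hU j)).hom c :=
    (ProjSect.toBase_fromSpec_appLE hU (hXU U j) c (le_preimage_U hU j)).symm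
  change ((fS i ⁻¹ᵁ U).ι.appLE _ _ (le_preimage_W i hU j)).hom
    (((fS i).appLE U _ inf_le_right).hom c) = ((iU i hU).app (DU U j)).hom (dehom (hXU U j) (C c))
  rw [h2, (iU i hU).app_eq_appLE]
  rw [← CommRingCat.comp_apply, ← CommRingCat.comp_apply, Scheme.Hom.appLE_comp_appLE,
    Scheme.Hom.appLE_comp_appLE]
  have h3 : iU i hU ≫ Groth.Agent.Helper13ProjUP.toBase (CohB1.polyGrading n Γ(S, U)) ≫
      hU.fromSpec = (fS i ⁻¹ᵁ U).ι ≫ fS i := iU_toSpec i hU
  rw [appLE_congr_hom h3.symm]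

theorem θ_comp_ev_X (j m : Fin (n + 1)) :
    θ i hU j (evU i U j (MvPolynomial.X m)) = ρ i hU j (MvPolynomial.X m) := by
  have h1 : evU i U j (MvPolynomial.X m) = HProjSite.tt (fS i) (Xo i) (ts i) U j m := by
    simp [HProjAlg.ev]
  rw [h1]
  have h2 : dehom (hXU U j) (MvPolynomial.X m) =
      ((Proj.map (PnChart.phiA Z₀.{u} Γ(S, U) n) (PnChart.irr_phiA Z₀.{u} Γ(S, U) n)).appLE
        (Dz n j) (DU U j) (ProjSect.basicOpen_le_preimage _ _ (phiA_X U j))).hom
        (dehom (hXz n j) (MvPolynomial.X m)) := by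
    rw [ProjSect.map_appLE_dehom _ _ (hXz n j) (hXU U j) (phiA_X U j) (hXz n m), phiA_X]
  change ((fS i ⁻¹ᵁ U).ι.appLE _ _ (le_preimage_W i hU j)).hom
    ((X.presheaf.map (homOfLE (inf_le_left : HProjSite.W (fS i) (Xo i) U j ≤ Xo i j)).op).hom
      (((gZ i).app (Dz n j)).hom (dehom (hXz n j) (MvPolynomial.X m)))) =
    ((iU i hU).app (DU U j)).hom (dehom (hXU U j) (MvPolynomial.X m))
  rw [h2, (iU i hU).app_eq_appLE, (gZ i).app_eq_appLE]
  rw [← CommRingCat.comp_apply, ← CommRingCat.comp_apply, ← CommRingCat.comp_apply,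
    Scheme.Hom.appLE_comp_appLE, Scheme.Hom.appLE_map_assoc, Scheme.Hom.appLE_comp_appLE]
  rw [appLE_congr_hom (iU_map_phiA i hU)]

theorem θ_comp_ev (j : Fin (n + 1)) : (θ i hU j).comp (evU i U j) = ρ i hU j := by
  apply MvPolynomial.ringHom_ext
  · intro c
    exact θ_comp_ev_C i hU j c
  · intro m
    exact θ_comp_ev_X i hU j m

theorem ρ_eq_zero_iff (j : Fin (n + 1)) (a : MvPolynomial (Fin (n + 1)) Γ(S, U)) :
    ρ i hU j a = 0 ↔ evU i U j a = 0 := by
  rw [← θ_comp_ev, RingHom.comp_apply]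
  exact (map_eq_zero_iff _ (θ_injective i hU j))

end Key

section Chart

open Groth.Agent.Helper13Dehom Groth.Agent.Helper13ProjQuotIdeal Groth.Agent.Helper13GradedQuot
  MvPolynomial

variable [IsClosedImmersion i] {U : S.Opens} (hU : IsAffineOpen U)

/-- the ideal of relations over `U` -/
abbrev KU (U : S.Opens) : Ideal (MvPolynomial (Fin (n + 1)) Γ(S, U)) :=
  HProjSite.K (fS i) (Xo i) (ts i) U

/-- the quotient grading over `U` -/
abbrev grU (U : S.Opens) : ℕ → Submodule Γ(S, U) (MvPolynomial (Fin (n + 1)) Γ(S, U) ⧸ KU i U) :=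
  qgr (CohB1.polyGrading n Γ(S, U)) (KU i U)

instance gradedAlgebra_grU (U : S.Opens) : GradedAlgebra (grU i U) :=
  gradedAlgebraQuot (CohB1.polyGrading n Γ(S, U)) (KU i U)
    (Groth.Agent.Lib.T2H6.HProjAlg.K_isHomogeneous _ _ _)

/-- the quotient map as a graded ring homomorphism -/
abbrev qU (U : S.Opens) : CohB1.polyGrading n Γ(S, U) →+*ᵍ grU i U :=
  quotHom (CohB1.polyGrading n Γ(S, U)) (KU i U)

theorem qU_surjective (U : S.Opens) : Function.Surjective (qU i U) :=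
  quotHom_surjective _ _

theorem irr_qU (U : S.Opens) :
    (grU i U)₊ ≤ ((CohB1.polyGrading n Γ(S, U))₊).map (qU i U) :=
  Groth.Agent.Helper13ProjQuotIdeal.irrelevant_le_map (qU i U) (qU_surjective i U)

instance (U : S.Opens) : IsClosedImmersion (Proj.map (qU i U) (irr_qU i U)) :=
  Groth.Agent.Lib.Helper27ProjClosed.isClosedImmersion_map _ (qU_surjective i U) (irr_qU i U)

theorem qU_eq_zero_iff {d : ℕ} {F : MvPolynomial (Fin (n + 1)) Γ(S, U)}
    (hF : F ∈ CohB1.polyGrading n Γ(S, U) d) :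
    qU i U F = 0 ↔ ∀ j : Fin (n + 1), ((iU i hU).app (DU U j)).hom (dehom (hXU U j) F) = 0 := by
  rw [quotHom_eq_zero_iff]
  have hF' : F.IsHomogeneous d := hF
  rw [show (F ∈ KU i U) ↔ ∀ j, evU i U j F = 0 from
    Groth.Agent.Lib.T2H6.HProjAlg.mem_K_of_isHomogeneous _ _ _ hF']
  exact forall_congr' fun j => (ρ_eq_zero_iff i hU j F).symm

theorem ker_eq : (Proj.map (qU i U) (irr_qU i U)).ker = (iU i hU).ker := by
  let f : ULift.{u} (Fin (n + 1)) → MvPolynomial (Fin (n + 1)) Γ(S, U) :=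
    fun j => MvPolynomial.X j.down
  have hf : ∀ j, f j ∈ CohB1.polyGrading n Γ(S, U) 1 := fun j => hXU U j.down
  have hcov : ⨆ j, Proj.basicOpen (CohB1.polyGrading n Γ(S, U)) (f j) = ⊤ := by
    rw [eq_top_iff, ← Groth.Agent.Lib.Helper27PnChart.iSup_basicOpen_X n Γ(S, U)]
    exact iSup_le fun j => le_iSup (fun j : ULift.{u} (Fin (n + 1)) =>
      Proj.basicOpen (CohB1.polyGrading n Γ(S, U)) (f j)) ⟨j⟩
  have hkey : ∀ (d : ℕ) (F : MvPolynomial (Fin (n + 1)) Γ(S, U))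
      (_ : F ∈ CohB1.polyGrading n Γ(S, U) d),
      qU i U F = 0 ↔ ∀ j, ((iU i hU).app (Proj.basicOpen _ (f j))).hom (dehom (hf j) F) = 0 :=
    fun d F hF => (qU_eq_zero_iff i hU hF).trans
      ⟨fun h j => h j.down, fun h j => h ⟨j⟩⟩
  refine Scheme.IdealSheafData.ext_of_iSup_eq_top (Uaff hf) hcov (fun j => ?_)
  rw [Scheme.Hom.ker_apply]
  ext x
  obtain ⟨k, a, ha, rfl⟩ := exists_dehom_eq hf j x
  refine Iff.trans (RingHom.mem_ker
    (f := ((Proj.map (qU i U) (irr_qU i U)).app (Proj.basicOpen _ (f j))).hom)) ?_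
  refine (map_app_dehom_eq_zero_iff (qU i U) (irr_qU i U) (hf j) ha).trans ?_
  refine Iff.trans ?_ (dehom_mem_iff hf (iU i hU).ker j ha).symm
  refine exists_congr (fun e => ?_)
  have hmem : f j ^ e * a ∈ CohB1.polyGrading n Γ(S, U) (e + k) :=
    SetLike.mul_mem_graded (pow_mem_deg (hf j) e) ha
  refine (hkey _ _ hmem).trans ?_
  refine Iff.trans ?_ (mem_J_iff hf (iU i hU).ker hmem).symm
  refine forall_congr' (fun j' => ?_)
  exact ((SetLike.ext_iff.mp (Scheme.Hom.ker_apply (iU i hU) (Uaff hf j')) _).trans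
    RingHom.mem_ker).symm

instance : IsIso (IsClosedImmersion.lift (Proj.map (qU i U) (irr_qU i U)) (iU i hU)
    (ker_eq i hU).le) :=
  IsClosedImmersion.isIso_lift _ _ (ker_eq i hU)

/-- the chart of `X` over `U` -/
def chartU : ((fS i ⁻¹ᵁ U : X.Opens) : Scheme.{u}) ≅ Proj (grU i U) :=
  asIso (IsClosedImmersion.lift (Proj.map (qU i U) (irr_qU i U)) (iU i hU) (ker_eq i hU).le)

@[reassoc]
theorem chartU_hom_map : (chartU i hU).hom ≫ Proj.map (qU i U) (irr_qU i U) = iU i hU :=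
  IsClosedImmersion.lift_fac _ _ _

include hU in
theorem isCompact_W (j : Fin (n + 1)) :
    IsCompact (HProjSite.W (fS i) (Xo i) U j : Set X) := by
  rw [← image_preimage_DU i hU j]
  have h0 : IsCompact (DU U j : Set (Proj (CohB1.polyGrading n Γ(S, U)))) :=
    (Proj.isAffineOpen_basicOpen _ _ (hXU U j) one_pos).isCompact
  have h1 : IsCompact ((iU i hU ⁻¹ᵁ DU U j : ((fS i ⁻¹ᵁ U : X.Opens) : Scheme.{u}).Opens) :
      Set ((fS i ⁻¹ᵁ U : X.Opens) : Scheme.{u})) :=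
    (iU i hU).isCompact_preimage h0
  have h2 := h1.image (fS i ⁻¹ᵁ U).ι.continuous
  exact h2

theorem chartU_over :
    (chartU i hU).hom ≫ Proj.toSpecZero (grU i U) ≫
      Spec.map (CommRingCat.ofHom ((qU i U).gradedZeroRingHom.comp
        (algebraMap Γ(S, U) (CohB1.polyGrading n Γ(S, U) 0)))) ≫ hU.fromSpec =
      (fS i ⁻¹ᵁ U).ι ≫ fS i := by
  rw [← iU_toSpec i hU, ← chartU_hom_map i hU]
  simp only [Category.assoc]
  congr 1
  change _ = Proj.map (qU i U) (irr_qU i U) ≫ Proj.toSpecZero (CohB1.polyGrading n Γ(S, U)) ≫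
    Spec.map (CommRingCat.ofHom (algebraMap Γ(S, U) (CohB1.polyGrading n Γ(S, U) 0))) ≫ hU.fromSpec
  rw [Groth.Agent.Helper13RelProj.map_toSpecZero_assoc, ← Spec.map_comp_assoc]
  rfl

theorem chartU_res {U V : S.Opens} (hU : IsAffineOpen U) (hV : IsAffineOpen V) (h : V ≤ U)
    (ψ : grU i U →+*ᵍ grU i V)
    (hψ : ∀ a : MvPolynomial (Fin (n + 1)) Γ(S, U), ψ (Ideal.Quotient.mk _ a) =
      Ideal.Quotient.mk _ (MvPolynomial.map (S.presheaf.map (homOfLE h).op).hom a))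
    (hirr : (grU i V)₊ ≤ ((grU i U)₊).map ψ) :
    X.homOfLE ((fS i).preimage_mono h) ≫ (chartU i hU).hom =
      (chartU i hV).hom ≫ Proj.map ψ hirr := by
  letI := algRes h
  rw [← cancel_mono (Proj.map (qU i U) (irr_qU i U)), Category.assoc, Category.assoc,
    chartU_hom_map, res_iU i hU hV h, ← chartU_hom_map i hV, Category.assoc, ← Proj.map_comp,
    ← Proj.map_comp]
  congr 1
  apply PnChart.projMap_congr
  ext a : 1
  exact (hψ a).symm

end Chart

section Main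

variable [IsClosedImmersion i]

theorem hqc : ∀ (U : S.Opens), IsAffineOpen U → ∀ j,
    IsCompact (HProjSite.W (fS i) (Xo i) U j : Set X) :=
  fun _ hU j => isCompact_W i hU j

/-- the graded algebra -/
abbrev 𝒮 : RelProj.QCGrAlg S := HProjSite.qcGrAlg (fS i) (Xo i) (ts i) (hqc i)

theorem isRelProj : RelProj.IsRelProj (𝒮 i) (fS i)
    (fun U hU => chartU i hU ≪≫
      QCGrOfAffine.projIso (HProjSite.coequifibered (fS i) (Xo i) (ts i) (hqc i))
        (HProjSite.gr (fS i) (Xo i) (ts i))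
        (fun i' _ _ hx => HProjSite.hmap (fS i) (Xo i) (ts i) i' hx)
        (HProjSite.hstr (fS i) (Xo i) (ts i)) U hU) := by
  refine QCGrOfAffine.isRelProj_of_charts (σ := fun U => Submodule Γ(S, U.1)
      (HProjSite.Q (fS i) (Xo i) (ts i) U.1))
    (HProjSite.coequifibered (fS i) (Xo i) (ts i) (hqc i))
    (HProjSite.gr (fS i) (Xo i) (ts i))
    (fun i' _ _ hx => HProjSite.hmap (fS i) (Xo i) (ts i) i' hx)
    (HProjSite.hstr (fS i) (Xo i) (ts i)) (fS i) (fun U => chartU i U.2) ?_ ?_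
  · intro U
    exact chartU_over i U.2
  · intro U r
    exact chartU_res i U.2 (U.2.basicOpen r) (S.basicOpen_le r) _ (fun a => rfl) _

/-- **A closed subscheme of `P^n_S` is projective over `S`** (in the sense of `RelProj.IsProjective`). -/
theorem isProjective : RelProj.IsProjective (i ≫ CohB1.ProjSpaceOver.toBase n S) :=
  ⟨𝒮 i, X, fS i, _, Iso.refl X, HProjSite.isGenDegOne _ _ _ _, HProjSite.isFTDeg_one _ _ _ _,
    isRelProj i, Category.id_comp _⟩

end Main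

end

end Groth.Agent.Lib.T2H6.HProjChart
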