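import Mathlib
import Groth.Agent.Lib.T2H5T2Chart
import Groth.Agent.Lib.T2H6HProjChart
import Groth.Agent.Lib.T2H5ClosedTransfer
import Groth.Agent.Lib.T2H5RpushBC
import Groth.Agent.Lib.T2H5PushSingle
import Groth.Agent.Lib.T2H5GenIsoF
import Groth.Agent.Lib.Helper23TensorUnit
import Groth.Agent.Lib.T2H5GenIsoD
import Groth.Agent.S9705

/-!
# T2H5T2Van: relative Serre vanishing for a closed subscheme of `P^n_S`, `S` Noetherian (helper5)

For a closed immersion `i : X ⟶ P^n_S` and `L d := (X ⟶ P^n_ℤ)^* O(d)`: there is `d₀` such that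
`R^q (X → S)_* L d = 0` for all `d ≥ d₀` and `q ≥ 1`.
-/

set_option autoImplicit false
set_option linter.style.haveILetI false
set_option linter.unusedSectionVars false
universe u
open CategoryTheory CategoryTheory.Limits Opposite TopologicalSpace AlgebraicGeometry
open scoped HomogeneousIdeal

namespace Groth.Agent.Lib.T2H5.T2Van

open Groth.Agent.Lib.T2H6 Groth.Agent.Lib.T2H6.HProjChart
open Groth.Agent.Lib.Helper23.AffVanish

attribute [local instance] HProjChart.algSect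

variable {S : Scheme.{u}} {n : ℕ} {X : Scheme.{u}} (i : X ⟶ CohB1.ProjSpaceOver n S)

/-- the pullback of `O(d)` from `P^n_ℤ` -/
noncomputable def L (d : ℤ) : X.Modules :=
  (Scheme.Modules.pullback (gZ i)).obj (Twist.twistProjSpace n Z₀.{u} d)

theorem isCoh_L (d : ℤ) : Coh.IsCoh (L i d) :=
  Groth.Agent.Lib.T2H5.GenIsoD.isCoh_pullback _ _
    (Groth.Agent.Lib.T2H5.PnFinite.isCoh_twist n Z₀.{u} d)

theorem isInvertible_L (d : ℤ) : PicF.IsInvertible (L i d) :=
  Groth.Agent.Lib.Helper23.PB.isInvertible_pullback _ _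
    (Groth.Agent.Lib.T2H5.Twist.isInvertible_twist n Z₀.{u} d)

/-- over an affine open `U` of the base, `L d` is the pullback of `O(d)` from `P^n_{Γ(S, U)}` -/
theorem nonempty_restrict_iso {U : S.Opens} (hU : IsAffineOpen U) (d : ℤ) :
    Nonempty ((L i d).restrict (fS i ⁻¹ᵁ U).ι ≅
      (Scheme.Modules.pullback (iU i hU)).obj (Twist.twistProjSpace n Γ(S, U) d)) := by
  obtain ⟨e⟩ := Groth.Agent.Lib.T2H5.T2Chart.nonempty_pullback_phiA_twist Z₀.{u} Γ(S, U) n d
  exact ⟨(Scheme.Modules.restrictFunctorIsoPullback (fS i ⁻¹ᵁ U).ι).app _ ≪≫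
    (Scheme.Modules.pullbackComp (fS i ⁻¹ᵁ U).ι (gZ i)).app _ ≪≫
    (Scheme.Modules.pullbackCongr (iU_map_phiA i hU).symm).app _ ≪≫
    ((Scheme.Modules.pullbackComp (iU i hU) _).app _).symm ≪≫
    (Scheme.Modules.pullback (iU i hU)).mapIso e⟩

/-- Serre vanishing over the preimage of an affine open of the base -/
theorem exists_vanish_affine [IsClosedImmersion i] {U : S.Opens} (hU : IsAffineOpen U)
    [IsNoetherianRing Γ(S, U)] :
    ∃ d₀ : ℤ, ∀ d : ℤ, d₀ ≤ d → ∀ q : ℕ, 1 ≤ q →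
      Subsingleton (Coh.HH (↑(fS i ⁻¹ᵁ U) : Scheme.{u}) ((L i d).restrict (fS i ⁻¹ᵁ U).ι) q) := by
  haveI hc : IsClosedImmersion (iU i hU) := inferInstance
  let k : (↑(fS i ⁻¹ᵁ U) : Scheme.{u}) ⟶ CohB1.ProjSpace n Γ(S, U) := iU i hU
  haveI hc' : IsClosedImmersion k := hc
  obtain ⟨d₀, h⟩ := Groth.Agent.Lib.T2H5.ClosedTransfer.serre_vanishing_closed n Γ(S, U) k
    (Coh.structureModule _) Groth.Agent.Lib.T2H5.GenIsoF.isCoh_structureModule
  refine ⟨d₀, fun d hd q hq => ?_⟩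
  obtain ⟨e⟩ := nonempty_restrict_iso i hU d
  have h1 := h d hd q hq
  have h2 := Groth.Agent.Lib.T2H5.PnStruct.subsingleton_HH_of_iso
    (Groth.Agent.Lib.Helper23.TensorUnit.unitTensorIso _) q h1
  exact Groth.Agent.Lib.T2H5.PnStruct.subsingleton_HH_of_iso e.symm q h2

section Loc

open Groth.Agent.Lib.Helper23.FLoc Groth.Agent.Lib.Helper23.FLocSch Groth.Agent.Lib.T2H5.LocQS

/-- vanishing of the cohomology over a quasi-compact open passes to its intersection with a basic open -/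
theorem subsingleton_HE_basicOpen {Y : Scheme.{u}} [QuasiSeparatedSpace Y] (M : Y.Modules)
    [M.IsQuasicoherent] (f : Γ(Y, ⊤)) (W : Y.Opens) (hW : IsCompact (W : Set Y)) (m : ℕ)
    (h : Subsingleton (HE (ab' M) m W)) : Subsingleton (HE (ab' M) m (W ⊓ Y.basicOpen f)) := by
  have hg := (good_of_isCompact M f W hW m).2
  have hb := bijective_smul_HM M f (W ⊓ Y.basicOpen f) inf_le_right m
  have hpow : ∀ (k : ℕ) (x : HM M m (W ⊓ Y.basicOpen f)), f ^ k • x = 0 → x = 0 := by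
    intro k
    induction k with
    | zero => intro x hx; simpa using hx
    | succ k ih =>
      intro x hx
      apply ih
      apply hb.1
      change f • (f ^ k • x) = f • (0 : HM M m (W ⊓ Y.basicOpen f))
      rw [smul_zero, ← mul_smul, ← pow_succ']
      exact hx
  have key : ∀ x : HM M m (W ⊓ Y.basicOpen f), x = 0 := by
    intro x
    obtain ⟨k, p, hp⟩ := hg x
    have hp0 : p = 0 := @Subsingleton.elim _ h p 0
    rw [hp0, map_zero] at hp
    exact hpow k x hp.symm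
  exact ⟨fun a b => (key a).trans (key b).symm⟩

end Loc

section Transport

open Groth.Agent.Lib.Helper16.ClosedEmb Groth.Agent.Lib.T2H5.RestrOpen Groth.Agent.Lib.T2H5.RpushBC

/-- from the vanishing of the cohomology of the preimage of an open `U` of the base to the preimages of the
basic opens of `U` -/
theorem subsingleton_HE_preimage_basicOpen {X S : Scheme.{u}} (f : X ⟶ S) (U : S.Opens) (b : Γ(S, U))
    (M : X.Modules) [M.IsQuasicoherent] [CompactSpace (↑(f ⁻¹ᵁ U) : Scheme.{u})]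
    [QuasiSeparatedSpace (↑(f ⁻¹ᵁ U) : Scheme.{u})] (q : ℕ)
    (h : Subsingleton (Coh.HH (↑(f ⁻¹ᵁ U) : Scheme.{u}) (M.restrict (f ⁻¹ᵁ U).ι) q)) :
    Subsingleton (HE (ab' M) q (f ⁻¹ᵁ (S.basicOpen b))) := by
  set W := f ⁻¹ᵁ U with hW
  haveI : (M.restrict W.ι).IsQuasicoherent := Scheme.Modules.isQuasicoherent_restrictFunctor W.ι M
  have h1 : Subsingleton (HE (ab' (M.restrict W.ι)) q ⊤) :=
    (subsingleton_HH_iff_HE_top (M.restrict W.ι) q).1 h
  have htop : (⊤ : (↑W : Scheme.{u}).Opens) ≤ (W.ι ≫ f) ⁻¹ᵁ U := fun w _ => w.2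
  let b' : Γ((↑W : Scheme.{u}), ⊤) :=
    ((↑W : Scheme.{u}).presheaf.map (homOfLE htop).op).hom ((W.ι ≫ f).app U b)
  have h2 : Subsingleton (HE (ab' (M.restrict W.ι)) q (⊤ ⊓ (↑W : Scheme.{u}).basicOpen b')) :=
    subsingleton_HE_basicOpen (M.restrict W.ι) b' ⊤ isCompact_univ q h1
  have h3 : Subsingleton (HE (ab' M) q (img (X := X.carrier) W (⊤ ⊓ (↑W : Scheme.{u}).basicOpen b'))) :=
    @Function.Injective.subsingleton _ _ _
      (eW_bijective (X := X.carrier) W (ab' M) q (⊤ ⊓ (↑W : Scheme.{u}).basicOpen b')).1 h2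
  have heq : img (X := X.carrier) W (⊤ ⊓ (↑W : Scheme.{u}).basicOpen b') = f ⁻¹ᵁ (S.basicOpen b) := by
    have hb' : (↑W : Scheme.{u}).basicOpen b' = ⊤ ⊓ (W.ι ≫ f) ⁻¹ᵁ (S.basicOpen b) := by
      rw [Scheme.preimage_basicOpen]
      exact Scheme.basicOpen_res _ _ _
    rw [hb']
    ext x
    constructor
    · rintro ⟨w, hw, rfl⟩
      exact hw.2.2
    · intro hx
      exact ⟨⟨x, (S.basicOpen_le b) hx⟩, ⟨trivial, trivial, hx⟩, rfl⟩
  rw [← heq]
  exact h3

end Transport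

section Main

theorem isProper_fS [IsClosedImmersion i] : IsProper (fS i) := by
  haveI := Groth.Agent.S9705.isProper_toBase n S
  infer_instance

theorem quasiSeparatedSpace_preimage {X S : Scheme.{u}} (f : X ⟶ S) [QuasiSeparated f] {U : S.Opens}
    (hU : IsAffineOpen U) : QuasiSeparatedSpace (↑(f ⁻¹ᵁ U) : Scheme.{u}) := by
  haveI : IsAffine (↑U : Scheme.{u}) := hU
  exact (HasAffineProperty.iff_of_isAffine (P := @QuasiSeparated) (f := f ∣_ U)).1 inferInstance

theorem compactSpace_preimage {X S : Scheme.{u}} (f : X ⟶ S) [QuasiCompact f] {U : S.Opens}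
    (hU : IsAffineOpen U) : CompactSpace (↑(f ⁻¹ᵁ U) : Scheme.{u}) :=
  isCompact_iff_compactSpace.1 (QuasiCompact.isCompact_preimage (f := f) _ U.isOpen hU.isCompact)

/-- **Relative Serre vanishing** for a closed subscheme of `P^n_S`, `S` Noetherian. -/
theorem exists_isZero_RpushAb [IsNoetherian S] [IsClosedImmersion i] :
    ∃ d₀ : ℤ, ∀ d : ℤ, d₀ ≤ d → ∀ q : ℕ,
      IsZero ((Coh.RpushAb (fS i) (q + 1)).obj (Coh.toAb (L i d))) := by
  classical
  haveI := isProper_fS i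
  -- a finite affine cover of the base
  obtain ⟨t, ht⟩ := isCompact_univ.elim_finite_subcover
    (fun V : S.affineOpens => ((V : S.Opens) : Set S)) (fun V => V.1.2) (by
      intro y _
      have hy : y ∈ (⨆ V : S.affineOpens, (V : S.Opens)) := by
        rw [iSup_affineOpens_eq_top]; trivial
      obtain ⟨V, hV⟩ := Opens.mem_iSup.1 hy
      exact Set.mem_iUnion.2 ⟨V, hV⟩)
  have hN : ∀ V : S.affineOpens, IsNoetherianRing Γ(S, (V : S.Opens)) :=
    fun V => IsLocallyNoetherian.component_noetherian V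
  have hex : ∀ V : S.affineOpens, ∃ d₀ : ℤ, ∀ d : ℤ, d₀ ≤ d → ∀ q : ℕ, 1 ≤ q →
      Subsingleton (Coh.HH (↑(fS i ⁻¹ᵁ (V : S.Opens)) : Scheme.{u})
        ((L i d).restrict (fS i ⁻¹ᵁ (V : S.Opens)).ι) q) := fun V => by
    haveI := hN V
    exact exists_vanish_affine i V.2
  choose dV hdV using hex
  refine ⟨((t.sup fun V => (dV V).toNat : ℕ) : ℤ), fun d hd q => ?_⟩
  let B : Set S.Opens := {V' | ∃ V ∈ t, ∃ b : Γ(S, (V : S.Opens)), V' = S.basicOpen b}
  have hB : Opens.IsBasis B := by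
    rw [Opens.isBasis_iff_nbhd]
    intro O y hyO
    obtain ⟨V, hVt, hyV⟩ : ∃ V ∈ t, y ∈ (V : S.Opens) := by
      have := ht (Set.mem_univ y)
      simpa using this
    obtain ⟨b, hbO, hyb⟩ := V.2.exists_basicOpen_le ⟨y, hyO⟩ hyV
    exact ⟨S.basicOpen b, ⟨V, hVt, b, rfl⟩, hyb, hbO⟩
  haveI hq : (L i d).IsQuasicoherent := (isCoh_L i d).1
  refine Groth.Agent.Lib.T2H5.PushSingle.isZero_Rpush_succ_of_basis (fS i).base B hB
    (ab' (L i d)) q ?_
  rintro _ ⟨V, hVt, b, rfl⟩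
  haveI := compactSpace_preimage (fS i) V.2
  haveI := quasiSeparatedSpace_preimage (fS i) V.2
  refine subsingleton_HE_preimage_basicOpen (fS i) (V : S.Opens) b (L i d) (q + 1) ?_
  refine hdV V d ?_ (q + 1) (by omega)
  have h1 : ((dV V).toNat : ℤ) ≤ ((t.sup fun V => (dV V).toNat : ℕ) : ℤ) := by
    exact_mod_cast Finset.le_sup (f := fun V => (dV V).toNat) hVt
  exact (Int.self_le_toNat (dV V)).trans (h1.trans hd)

end Main

end Groth.Agent.Lib.T2H5.T2Van
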