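import Mathlib
import Groth.Agent.Lib.T2H5ProjFLF6
import Groth.Agent.Lib.T2H5PnOverC
import Groth.Agent.Lib.T2H5KosSurj3
import Groth.Agent.Lib.T2H5T2Van
import Groth.Agent.Lib.T2H5RpushBC
import Groth.Agent.Lib.T2H5PushSingle
import Groth.Agent.Lib.Helper23RestrTensor
import Groth.Agent.Lib.Helper23TensorQCoh
import Groth.Agent.S9705
set_option backward.isDefEq.respectTransparency.types false

/-!
# T2H5RelReg: Castelnuovo–Mumford regularity relative to `P^n_Y ⟶ Y`, through the charts over the affine opens of `Y`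
(helper5)
-/

set_option autoImplicit false
set_option linter.style.haveILetI false
set_option linter.unusedSectionVars false
universe u
open CategoryTheory CategoryTheory.Limits AlgebraicGeometry TopologicalSpace Opposite

namespace Groth.Agent.Lib.T2H5.RelReg

open Groth.Agent.Lib.Helper23.AffVanish Groth.Agent.Lib.Helper1.PT
  Groth.Agent.Lib.Helper21.ModTensor5 Groth.Agent.Lib.T2H5.ProjFLF
  Groth.Agent.Lib.T2H6 Groth.Agent.Lib.T2H6.HProjChart Groth.Agent.Lib.T2H5.KosPn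
  Groth.Agent.Lib.T2H5.PnOver

section Open

variable {P X : Scheme.{u}}

/-- cohomology on a scheme mapping isomorphically onto an open subset, from the cohomology over that open subset -/
theorem subsingleton_HH_pullback_of_HE (e : P ⟶ X) [IsOpenImmersion e] (U : X.Opens)
    (hU : Set.range e.base = (U : Set X)) (F : X.Modules) (q : ℕ)
    (h : Subsingleton (HE (ab' F) q U)) :
    Subsingleton (Coh.HH P ((Scheme.Modules.pullback e).obj F) q) := by
  obtain ⟨e1⟩ : Nonempty (HE (ab' F) q U ≃+ Coh.HHon X F U q) :=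
    Groth.Agent.Lib.Helper16.Restr.nonempty_HU_equiv (X := X.carrier) U (Coh.toAb F) q
  have h2 : Subsingleton (Coh.HH (↑U) (F.restrict U.ι) q) := e1.symm.toEquiv.subsingleton
  let ε : P ≅ (↑U : Scheme.{u}) := IsOpenImmersion.isoOfRangeEq e U.ι (by
    rw [hU]; exact (Scheme.Opens.range_ι U).symm)
  have hε : ε.hom ≫ U.ι = e := IsOpenImmersion.isoOfRangeEq_hom_fac _ _ _
  let G : (↑U : Scheme.{u}).Modules := F.restrict U.ι
  let N : P.Modules := (Scheme.Modules.restrictFunctor ε.hom).obj G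
  have iso1 : N ≅ (Scheme.Modules.pullback e).obj F :=
    ((Scheme.Modules.restrictFunctorComp ε.hom U.ι).app F).symm ≪≫
      (Scheme.Modules.restrictFunctorCongr hε).app F ≪≫
      (Scheme.Modules.restrictFunctorIsoPullback e).app F
  haveI := isIso_unit_of_isIso ε.hom G
  haveI h4 : Subsingleton (Coh.HH (↑U) ((Scheme.Modules.pushforward ε.hom).obj N) q) :=
    Groth.Agent.Lib.T2H5.PnStruct.subsingleton_HH_of_iso
      (asIso ((Scheme.Modules.restrictAdjunction ε.hom).unit.app G)) q h2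
  obtain ⟨e2⟩ := Groth.Agent.Lib.T2H5.ProjTransfer.nonempty_equiv_pushforward ε.hom N q
  have h3 : Subsingleton (Coh.HH P N q) := e2.subsingleton
  exact Groth.Agent.Lib.T2H5.PnStruct.subsingleton_HH_of_iso iso1 q h3

end Open

section Chart

variable (n : ℕ) (Y : Scheme.{u})

attribute [local instance] algSect

theorem range_embU {V : Y.Opens} (hV : IsAffineOpen V) :
    Set.range (embU n hV).base =
      ((CohB1.ProjSpaceOver.toBase n Y ⁻¹ᵁ V : (CohB1.ProjSpaceOver n Y).Opens) :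
        Set (CohB1.ProjSpaceOver n Y)) := by
  have h := opensRange_embU n hV
  exact congrArg (fun U : (CohB1.ProjSpaceOver n Y).Opens => (U : Set (CohB1.ProjSpaceOver n Y))) h

/-- `O(d)` on `P^n_Y` pulls back to `O(d)` on the chart `P^n_{Γ(Y, V)}` -/
theorem nonempty_pullback_embU_twistOver {V : Y.Opens} (hV : IsAffineOpen V) (d : ℤ) :
    Nonempty ((Scheme.Modules.pullback (embU n hV)).obj (Twist.twistOver n Y d) ≅
      Twist.twistProjSpace n Γ(Y, V) d) := by
  obtain ⟨e⟩ := Groth.Agent.Lib.T2H5.T2Chart.nonempty_pullback_phiA_twist Z₀.{u} Γ(Y, V) n d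
  exact ⟨(Scheme.Modules.pullbackComp (embU n hV)
      (pullback.fst (CohB1.ProjSpace.toSpec n Z₀.{u}) (tS Y))).app (Twist.twistProjSpace n Z₀.{u} d) ≪≫
    (Scheme.Modules.pullbackCongr (embU_fst n hV)).app _ ≪≫ e⟩

/-- the pullback of `F(d) = O(d) ⊗ F` to the chart `P^n_{Γ(Y, V)}` -/
theorem nonempty_pullback_embU_twF {V : Y.Opens} (hV : IsAffineOpen V) (d : ℤ)
    (F : (CohB1.ProjSpaceOver n Y).Modules) :
    Nonempty ((Scheme.Modules.pullback (embU n hV)).obj (KRR.twF n Y d F) ≅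
      GF n Γ(Y, V) ((Scheme.Modules.pullback (embU n hV)).obj F) d) := by
  obtain ⟨e⟩ := nonempty_pullback_embU_twistOver n Y hV d
  let i1 : (Scheme.Modules.pullback (embU n hV)).obj (CohB1.tensorMod (Twist.twistOver n Y d) F) ≅
      CohB1.tensorMod ((Scheme.Modules.pullback (embU n hV)).obj (Twist.twistOver n Y d))
        ((Scheme.Modules.pullback (embU n hV)).obj F) :=
    Groth.Agent.Lib.Helper23.RestrTensor.pullbackTensorIso _ _ (embU n hV)
  let i2 : CohB1.tensorMod ((Scheme.Modules.pullback (embU n hV)).obj (Twist.twistOver n Y d))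
        ((Scheme.Modules.pullback (embU n hV)).obj F) ≅
      CohB1.tensorMod (Twist.twistProjSpace n Γ(Y, V) d) ((Scheme.Modules.pullback (embU n hV)).obj F) :=
    PicGrp.tensorModIso e (Iso.refl _)
  let i3 : tens (Twist.twistProjSpace n Γ(Y, V) d) ((Scheme.Modules.pullback (embU n hV)).obj F) ≅
      tens ((Scheme.Modules.pullback (embU n hV)).obj F) (Twist.twistProjSpace n Γ(Y, V) d) :=
    brdApp (CohB1.ProjSpace n Γ(Y, V)).sheaf _ _
  exact ⟨i1 ≪≫ i2 ≪≫ i3⟩

theorem isQuasicoherent_twF (d : ℤ) (F : (CohB1.ProjSpaceOver n Y).Modules) [F.IsQuasicoherent] :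
    (KRR.twF n Y d F).IsQuasicoherent := by
  haveI : (Twist.twistOver n Y d).IsQuasicoherent :=
    Groth.Agent.Lib.Helper23.SecTw.isQuasicoherent_of_isInvertible _
      (Groth.Agent.Lib.Helper23.PB.isInvertible_pullback _ _
        (Groth.Agent.Lib.T2H5.Twist.isInvertible_twist n Z₀.{u} d))
  exact Groth.Agent.Lib.Helper23.TensorQCoh.isQuasicoherent_tensorMod (Twist.twistOver n Y d) F

/-- vanishing of a higher direct image along `P^n_Y ⟶ Y` gives vanishing on the charts -/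
theorem subsingleton_HH_chart_of_isZero (G : (CohB1.ProjSpaceOver n Y).Modules) [G.IsQuasicoherent] (q : ℕ)
    (hz : IsZero ((Coh.RpushAb (CohB1.ProjSpaceOver.toBase n Y) (q + 1)).obj (Coh.toAb G)))
    {V : Y.Opens} (hV : IsAffineOpen V) :
    Subsingleton (Coh.HH (CohB1.ProjSpace n Γ(Y, V)) ((Scheme.Modules.pullback (embU n hV)).obj G) (q + 1)) := by
  haveI : IsProper (CohB1.ProjSpaceOver.toBase n Y) := Groth.Agent.S9705.isProper_toBase n Y
  have h1 := Groth.Agent.Lib.T2H5.RpushBC.subsingleton_HE_preimage_of_isZero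
    (CohB1.ProjSpaceOver.toBase n Y) G q hz hV
  exact subsingleton_HH_pullback_of_HE (embU n hV) _ (range_embU n Y hV) G (q + 1) h1

/-- vanishing on the charts gives vanishing of a higher direct image along `P^n_Y ⟶ Y` -/
theorem isZero_of_subsingleton_HH_chart (G : (CohB1.ProjSpaceOver n Y).Modules) (q : ℕ)
    (h : ∀ (V : Y.Opens) (hV : IsAffineOpen V),
      Subsingleton (Coh.HH (CohB1.ProjSpace n Γ(Y, V)) ((Scheme.Modules.pullback (embU n hV)).obj G) (q + 1))) :
    IsZero ((Coh.RpushAb (CohB1.ProjSpaceOver.toBase n Y) (q + 1)).obj (Coh.toAb G)) := by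
  refine Groth.Agent.Lib.T2H5.PushSingle.isZero_Rpush_succ_of_basis (CohB1.ProjSpaceOver.toBase n Y).base
    {V : Y.Opens | IsAffineOpen V} Y.isBasis_affineOpens (ab' G) q ?_
  intro V hV
  exact subsingleton_HE_of_openImmersion (embU n hV) (CohB1.ProjSpaceOver.toBase n Y ⁻¹ᵁ V)
    (range_embU n Y hV) G (q + 1) (h V hV)

/-- **Castelnuovo–Mumford**: a module on `P^n_Y` regular relative to `Y` has regular non-negative twists and no higher
direct images. -/
theorem regular_twists (F : (CohB1.ProjSpaceOver n Y).Modules) [F.IsQuasicoherent]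
    (hreg : KRR.IsRegSheaf n Y F) :
    (∀ m : ℕ, KRR.IsRegSheaf n Y (KRR.twF n Y (m : ℤ) F)) ∧
    ∀ i : ℕ, 1 ≤ i → IsZero ((Coh.RpushAb (KRR.pr n Y) i).obj (Coh.toAb F)) := by
  -- regularity on the charts
  have hq : ∀ (V : Y.Opens) (hV : IsAffineOpen V) (i : ℕ), 1 ≤ i →
      Subsingleton (Coh.HH (CohB1.ProjSpace n Γ(Y, V))
        (GF n Γ(Y, V) ((Scheme.Modules.pullback (embU n hV)).obj F) (0 - i)) i) := by
    intro V hV i hi
    obtain ⟨j, rfl⟩ := Nat.exists_eq_succ_of_ne_zero (by omega : i ≠ 0)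
    haveI := isQuasicoherent_twF n Y (-((j + 1 : ℕ) : ℤ)) F
    have h1 := subsingleton_HH_chart_of_isZero n Y (KRR.twF n Y (-((j + 1 : ℕ) : ℤ)) F) j
      (hreg (j + 1) (Nat.succ_pos _)) hV
    obtain ⟨ε⟩ := nonempty_pullback_embU_twF n Y hV (-((j + 1 : ℕ) : ℤ)) F
    have h2 := Groth.Agent.Lib.T2H5.PnStruct.subsingleton_HH_of_iso ε (j + 1) h1
    rwa [← zero_sub] at h2
  refine ⟨fun m i hi => ?_, fun i hi => ?_⟩
  · obtain ⟨j, rfl⟩ := Nat.exists_eq_succ_of_ne_zero (by omega : i ≠ 0)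
    refine isZero_of_subsingleton_HH_chart n Y _ j (fun V hV => ?_)
    have h1 := regular_add n Γ(Y, V) ((Scheme.Modules.pullback (embU n hV)).obj F) 0 (hq V hV) m (j + 1)
      (Nat.succ_pos _)
    obtain ⟨ε1⟩ := nonempty_pullback_embU_twF n Y hV (-((j + 1 : ℕ) : ℤ)) (KRR.twF n Y (m : ℤ) F)
    obtain ⟨ε2⟩ := nonempty_pullback_embU_twF n Y hV (m : ℤ) F
    obtain ⟨ε3⟩ := Groth.Agent.Lib.T2H5.KosSurj3.nonempty_GF_GF_iso n Γ(Y, V)
      ((Scheme.Modules.pullback (embU n hV)).obj F) (m : ℤ) (-((j + 1 : ℕ) : ℤ))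
      (0 + (m : ℤ) - ((j + 1 : ℕ) : ℤ)) (by ring)
    let ε2' : GF n Γ(Y, V) ((Scheme.Modules.pullback (embU n hV)).obj (KRR.twF n Y (m : ℤ) F))
          (-((j + 1 : ℕ) : ℤ)) ≅
        GF n Γ(Y, V) (GF n Γ(Y, V) ((Scheme.Modules.pullback (embU n hV)).obj F) (m : ℤ))
          (-((j + 1 : ℕ) : ℤ)) :=
      PicGrp.tensorModIso ε2 (Iso.refl _)
    exact Groth.Agent.Lib.T2H5.PnStruct.subsingleton_HH_of_iso (ε1 ≪≫ ε2' ≪≫ ε3).symm (j + 1) h1
  · obtain ⟨j, rfl⟩ := Nat.exists_eq_succ_of_ne_zero (by omega : i ≠ 0)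
    refine isZero_of_subsingleton_HH_chart n Y F j (fun V hV => ?_)
    have h1 := regular_add n Γ(Y, V) ((Scheme.Modules.pullback (embU n hV)).obj F) 0 (hq V hV) (j + 1) (j + 1)
      (Nat.succ_pos _)
    have hb : (0 : ℤ) + ((j + 1 : ℕ) : ℤ) - ((j + 1 : ℕ) : ℤ) = 0 := by ring
    rw [hb] at h1
    obtain ⟨ε0⟩ := Groth.Agent.Lib.T2H5.PnStruct.nonempty_tilde_zero_iso (CohB1.polyGrading n Γ(Y, V))
    let ε : GF n Γ(Y, V) ((Scheme.Modules.pullback (embU n hV)).obj F) 0 ≅
        (Scheme.Modules.pullback (embU n hV)).obj F :=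
      PicGrp.tensorModIso (Iso.refl _) ε0 ≪≫ tensUnitRight _
    exact Groth.Agent.Lib.T2H5.PnStruct.subsingleton_HH_of_iso ε (j + 1) h1

end Chart

end Groth.Agent.Lib.T2H5.RelReg
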