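import Mathlib
import Groth.Agent.Lib.T2H5GlobGenPn
import Groth.Agent.Lib.T2H5RelReg
import Groth.Agent.Lib.T2H5ClosedTransfer
import Groth.Agent.Lib.Helper23CounitEpi
import Groth.Agent.Lib.Helper20PullbackAff
set_option backward.isDefEq.respectTransparency.types false

/-!
# T2H5GlobGenQ: a regular QUASI-COHERENT module on projective space is globally generated; the counit
`p^* p_* F ⟶ F` for a regular quasi-coherent module on `P^n_T` (helper5)

Namespace `Groth.Agent.Lib.T2H5.GlobGenQ`.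
-/

set_option autoImplicit false
set_option linter.style.haveILetI false
set_option linter.unusedSectionVars false
universe u
open CategoryTheory CategoryTheory.Limits AlgebraicGeometry TopologicalSpace Opposite
  MonoidalCategory

namespace Groth.Agent.Lib.T2H5.GlobGenQ

open Groth.Agent.Lib.Helper23.SecTw Groth.Agent.Lib.Helper23.GenLocus Groth.Agent.Lib.Helper6
open Groth.Agent.Lib.Helper23.LocGen Groth.Agent.Lib.Helper27GrTildeSect
open Groth.Agent.Lib.T2H5.KosPn Groth.Agent.Lib.T2H5.GlobGen Groth.Agent.Lib.T2H5.Twist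
open Groth.Agent.Lib.T2H5.EtaTop Groth.Agent.Lib.Helper2.Push
open Groth.Agent.Lib.Helper23.AmpleIso Groth.Agent.Lib.Helper23.Extend Groth.Agent.Lib.Helper23.QCohLocal

section General

variable {X : Scheme.{u}}

open Groth.Agent.Lib.Helper1.StalkTensor in
/-- naturality of the sectionwise tensor `m ⊗ l` in the second variable -/
theorem tensorBi_map_tm (M : X.Modules) {L L' : X.Modules} (φ : L ⟶ L') (A : X.Opens) (m : Γ(M, A))
    (l : Γ(L, A)) :
    ((DCoh.tensorBi.obj M).map φ).app A (tm M L A m l) = tm M L' A m (φ.app A l) := by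
  have h := etaX_naturality_apply (toPM M ◁ toPMMap φ) A (m ⊗ₜ l)
  exact h

/-- per-section version of Serre's extension lemma: for a quasi-coherent module `F`, a local section `m` of `F` over
an open `A` of the affine `X_s` and a point `y` of `A`, the sections `m ⊗ s^N` are, near `y`, combinations of global
sections of `F ⊗ P^N`, for all large `N` -/
theorem exists_res_tm_mem_gspan [CompactSpace X] [QuasiSeparatedSpace X] (P : X.Modules)
    (hP : PicF.IsInvertible P) (s : Coh.structureModule X ⟶ P) (haff : IsAffineOpen (CohB1.genLocus P s))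
    (F : X.Modules) [F.IsQuasicoherent] (A : X.Opens) (hAU : A ≤ CohB1.genLocus P s) (m : Γ(F, A))
    (y : X) (hy : y ∈ A) :
    ∃ (B : X.Opens) (hB : B ≤ A), y ∈ B ∧ ∃ N₀ : ℕ, ∀ N, N₀ ≤ N →
      tm F (CohB1.tensorPow P N) B (res F hB m) (pw P B (sv s B) N) ∈
        gspan (CohB1.tensorMod F (CohB1.tensorPow P N)) B := by
  classical
  have hloc : IsLocOn F (CohB1.genLocus P s) := IsLocOn.of_isQuasicoherent haff F
  obtain ⟨f, hfA, hyf⟩ := haff.exists_basicOpen_le (V := A) ⟨y, hy⟩ (hAU hy)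
  obtain ⟨n, t₀, ht₀⟩ := hloc.exists_extension f (res F hfA m)
  obtain ⟨N₀, hN₀⟩ := main_eventually X P hP s F t₀
  refine ⟨X.basicOpen f, hfA, hyf, N₀, fun N hN => ?_⟩
  obtain ⟨t', ht'⟩ := hN₀ N hN
  have hA : tw F P _ t₀ (sv s _) N ∈
      gspan (CohB1.tensorMod F (CohB1.tensorPow P N)) (CohB1.genLocus P s) := by
    rw [← ht', ← sv_secHom]
    exact sv_mem_gspan _ _ _
  have hunit : IsUnit (resf (X.basicOpen_le f) f) := RingedSpace.isUnit_res_basicOpen _ f
  obtain ⟨u, hu⟩ := hunit.pow n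
  have h1 : res F hfA m = (↑u⁻¹ : Γ(X, X.basicOpen f)) • res F (X.basicOpen_le f) t₀ := by
    change res F (X.basicOpen_le f) t₀ = resf (X.basicOpen_le f) f ^ n • res F hfA m at ht₀
    rw [ht₀, ← hu, ← mul_smul, Units.inv_mul, one_smul]
  have h2 : tm F (CohB1.tensorPow P N) (X.basicOpen f) (res F hfA m) (pw P _ (sv s _) N) =
      (↑u⁻¹ : Γ(X, X.basicOpen f)) • res _ (X.basicOpen_le f) (tw F P _ t₀ (sv s _) N) := by
    rw [h1, tm_smul_left]
    congr 1
    unfold Groth.Agent.Lib.Helper23.SecTw.tw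
    rw [res_tm, res_pw, res_sv]
  rw [h2]
  exact Submodule.smul_mem _ _ (res_mem_gspan _ _ hA)

/-- per-section cancellation: if `a ⊗ g` is a combination of global sections of `M ⊗ L` over `B`, where the global
section `g` generates `L` over `B` and every global section of `M ⊗ L` comes from the sectionwise tensor product, then
`a` is a combination of global sections of `M` over `B` -/
theorem mem_gspan_of_tm_mem_gspan (M L : X.Modules) (B : X.Opens) (g : Γ(L, ⊤))
    (hgen : IsGen L B (res L le_top g))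
    (hsurj : ∀ t : Γ(CohB1.tensorMod M L, ⊤), ∃ p : PreSec M L ⊤, toT M L ⊤ p = t)
    (a : Γ(M, B)) (hmem : tm M L B a (res L le_top g) ∈ gspan (CohB1.tensorMod M L) B) :
    a ∈ gspan M B := by
  -- the pure tensors
  have hp : ∀ p : PreSec M L ⊤, ∃ a' ∈ gspan M B,
      tm M L B a' (res L le_top g) = res (CohB1.tensorMod M L) le_top (toT M L ⊤ p) := by
    intro p
    have hzero : ∃ a' ∈ gspan M B, tm M L B a' (res L le_top g) =
        res (CohB1.tensorMod M L) le_top (toT M L ⊤ (0 : PreSec M L ⊤)) := by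
      refine ⟨0, zero_mem _, ?_⟩
      rw [tm_zero_left, toT_zero, res_zero]
    have htmul : ∀ (m : Γ(M, ⊤)) (n : Γ(L, ⊤)), ∃ a' ∈ gspan M B,
        tm M L B a' (res L le_top g) =
          res (CohB1.tensorMod M L) le_top (tm M L ⊤ m n) := by
      intro m n
      obtain ⟨c, hc⟩ := (hgen B le_rfl).2 (res L le_top n)
      have hc' : c • res L (le_top : B ≤ ⊤) g = res L le_top n := by
        have := hc
        simp only [res_res] at this
        exact this
      refine ⟨c • res M le_top m, Submodule.smul_mem _ _ (res_top_mem_gspan M m B), ?_⟩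
      rw [res_tm, ← hc', tm_smul_left, tm_smul_right]
    have hadd : ∀ p₁ p₂ : PreSec M L ⊤,
        (∃ a' ∈ gspan M B, tm M L B a' (res L le_top g) =
          res (CohB1.tensorMod M L) le_top (toT M L ⊤ p₁)) →
        (∃ a' ∈ gspan M B, tm M L B a' (res L le_top g) =
          res (CohB1.tensorMod M L) le_top (toT M L ⊤ p₂)) →
        ∃ a' ∈ gspan M B, tm M L B a' (res L le_top g) =
          res (CohB1.tensorMod M L) le_top (toT M L ⊤ (p₁ + p₂)) := by
      rintro p₁ p₂ ⟨a₁, ha₁, h₁⟩ ⟨a₂, ha₂, h₂⟩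
      refine ⟨a₁ + a₂, add_mem ha₁ ha₂, ?_⟩
      rw [tm_add_left, toT_add, res_add', h₁, h₂]
    exact pt_induction (CohB1.toPMod M) (CohB1.toPMod L) (op ⊤)
      (motive := fun p => ∃ a' ∈ gspan M B,
        tm M L B a' (res L le_top g) = res (CohB1.tensorMod M L) le_top (toT M L ⊤ p))
      hzero htmul hadd p
  have key : ∀ z ∈ gspan (CohB1.tensorMod M L) B, ∃ a' ∈ gspan M B,
      tm M L B a' (res L le_top g) = z := by
    intro z hz
    induction hz using Submodule.span_induction with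
    | mem z hz =>
      obtain ⟨σ, rfl⟩ := hz
      obtain ⟨p, hp'⟩ := hsurj (sv σ ⊤)
      obtain ⟨a', ha', h⟩ := hp p
      refine ⟨a', ha', ?_⟩
      rw [h, hp', res_sv]
    | zero => exact ⟨0, zero_mem _, tm_zero_left M L B _⟩
    | add z z' _ _ hz hz' =>
      obtain ⟨a₁, ha₁, h₁⟩ := hz
      obtain ⟨a₂, ha₂, h₂⟩ := hz'
      exact ⟨a₁ + a₂, add_mem ha₁ ha₂, by rw [tm_add_left, h₁, h₂]⟩
    | smul r z _ hz =>
      obtain ⟨a₁, ha₁, h₁⟩ := hz
      exact ⟨r • a₁, Submodule.smul_mem _ _ ha₁, by rw [tm_smul_left, h₁]⟩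
  obtain ⟨a', ha', h⟩ := key _ hmem
  have hinj := injective_tm_of_isGen M L B _ hgen B le_rfl
  have h' : tm M L B a' (res L (le_refl B) (res L le_top g)) =
      tm M L B a (res L (le_refl B) (res L le_top g)) := by
    rw [res_res]
    exact h
  rw [← hinj h']
  exact ha'

/-- the pullback of a globally generated module is globally generated -/
theorem isGloballyGenerated_pullback {X' : Scheme.{u}} (f : X' ⟶ X) (M : X.Modules)
    (h : Curv2.IsGloballyGenerated M) : Curv2.IsGloballyGenerated ((Scheme.Modules.pullback f).obj M) := by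
  obtain ⟨ι, p, hp⟩ := h
  have h1 : (Scheme.Modules.pullback f).PreservesEpimorphisms :=
    Functor.preservesEpimorphisms_of_adjunction (Scheme.Modules.pullbackPushforwardAdjunction f)
  have h2 : Epi ((Scheme.Modules.pullback f).map p) :=
    @Functor.map_epi _ _ _ _ (Scheme.Modules.pullback f) h1 _ _ p hp
  exact ⟨ι, (Groth.Agent.Lib.T2H5.ClosedTransfer.pullbackFreeIso f ι).inv ≫ (Scheme.Modules.pullback f).map p,
    @epi_comp _ _ _ _ _ _ inferInstance _ h2⟩

/-- global generation on a scheme mapping isomorphically onto an open `U` gives global generation of the restriction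
to `U` -/
theorem isGloballyGenerated_restrict_of_pullback {P : Scheme.{u}} (j : P ⟶ X) [IsOpenImmersion j] (U : X.Opens)
    (hU : Set.range j.base = (U : Set X)) (F : X.Modules)
    (h : Curv2.IsGloballyGenerated ((Scheme.Modules.pullback j).obj F)) :
    Curv2.IsGloballyGenerated (F.restrict U.ι) := by
  let ε : P ≅ (↑U : Scheme.{u}) := IsOpenImmersion.isoOfRangeEq j U.ι (by
    rw [hU]; exact (Scheme.Opens.range_ι U).symm)
  have hε : ε.inv ≫ j = U.ι := by
    rw [Iso.inv_comp_eq]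
    exact (IsOpenImmersion.isoOfRangeEq_hom_fac _ _ _).symm
  have h1 := isGloballyGenerated_pullback ε.inv _ h
  let iso1 : (Scheme.Modules.pullback ε.inv).obj ((Scheme.Modules.pullback j).obj F) ≅ F.restrict U.ι :=
    (Scheme.Modules.pullbackComp ε.inv j).app F ≪≫ (Scheme.Modules.pullbackCongr hε).app F ≪≫
      ((Scheme.Modules.restrictFunctorIsoPullback U.ι).app F).symm
  exact Groth.Agent.Lib.Helper23.RestrTensor.isGloballyGenerated_of_iso iso1 h1

end General

section Pn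

variable (n : ℕ) (R : Type u) [CommRing R]

local notation "𝒫" => CohB1.polyGrading n R

open Groth.Agent.Lib.T2H5.GlobGenPn in
/-- **a quasi-coherent `m`-regular module on `P^n_R`, twisted by `m`, is generated by its global sections** (no
finiteness hypothesis) -/
theorem isGloballyGenerated_of_regular (F : (CohB1.ProjSpace n R).Modules) (hF : F.IsQuasicoherent) (m : ℤ)
    (hq : ∀ i : ℕ, 1 ≤ i → Subsingleton (Coh.HH (CohB1.ProjSpace n R) (GF n R F (m - i)) i)) :
    Curv2.IsGloballyGenerated (GF n R F m) := by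
  have h0 := Groth.Agent.Lib.T2H5.KosSurj3.regular_zero_of_regular n R F m m le_rfl hq
  have hsurjT := Groth.Agent.Lib.T2H5.KosSurj3.surjective_toSheafify_nat n R (GF n R F m) h0
  have hc : CompactSpace (Proj 𝒫) := compactSpace n R
  have hqs : QuasiSeparatedSpace (Proj 𝒫) :=
    quasiSeparatedSpace_of_quasiSeparated (Proj.toSpecZero 𝒫)
  have hP : PicF.IsInvertible (GrTilde.tilde 𝒫 𝒫 ((1 : ℕ) : ℤ)) :=
    isInvertible_tilde 𝒫 (Groth.Agent.Lib.T2H5.PnFinite.exists_basicOpen n R) _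
  have hGF : (GF n R F m).IsQuasicoherent := by
    haveI := hF
    haveI : (OO n R m).IsQuasicoherent :=
      Groth.Agent.Lib.Helper23.SecTw.isQuasicoherent_of_isInvertible _
        (isInvertible_tilde 𝒫 (Groth.Agent.Lib.T2H5.PnFinite.exists_basicOpen n R) _)
    exact Groth.Agent.Lib.Helper23.TensorQCoh.isQuasicoherent_tensorMod F (OO n R m)
  apply isGloballyGenerated_of_locGen
  intro x
  obtain ⟨j, hj⟩ := cover n R x
  refine ⟨UU n R j, hj, ?_⟩
  have hloc := genLocus_secHom_gsec 𝒫 1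
    (fun j : Fin (n + 1) => (MvPolynomial.X j : MvPolynomial (Fin (n + 1)) R))
    (Groth.Agent.Lib.Helper27ProjGamma.hX n R) (hcovX n R) j
  have haff : IsAffineOpen (CohB1.genLocus (GrTilde.tilde 𝒫 𝒫 ((1 : ℕ) : ℤ))
      (secHom (GrTilde.tilde 𝒫 𝒫 ((1 : ℕ) : ℤ))
        (gsec 𝒫 1 ⊤ (Groth.Agent.Lib.Helper27ProjGamma.hX n R j)))) := by
    rw [hloc]
    exact Proj.isAffineOpen_basicOpen 𝒫 _ (Groth.Agent.Lib.Helper27ProjGamma.hX n R j) one_pos
  intro A hA a y hy
  have hA' : A ≤ CohB1.genLocus (GrTilde.tilde 𝒫 𝒫 ((1 : ℕ) : ℤ))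
      (secHom (GrTilde.tilde 𝒫 𝒫 ((1 : ℕ) : ℤ))
        (gsec 𝒫 1 ⊤ (Groth.Agent.Lib.Helper27ProjGamma.hX n R j))) := by
    rw [hloc]
    exact hA
  obtain ⟨B, hB, hyB, N, hN⟩ := @exists_res_tm_mem_gspan (Proj 𝒫) hc hqs
    (GrTilde.tilde 𝒫 𝒫 ((1 : ℕ) : ℤ)) hP _ haff (GF n R F m) hGF A hA' a y hy
  refine ⟨B, hB, hyB, ?_⟩
  have hmem := hN N le_rfl
  set P := GrTilde.tilde 𝒫 𝒫 ((1 : ℕ) : ℤ) with hPdef
  set s := secHom P (gsec 𝒫 1 ⊤ (Groth.Agent.Lib.Helper27ProjGamma.hX n R j)) with hsdef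
  obtain ⟨e⟩ := nonempty_tensorPow_iso n R N
  -- the global generator of `O(N)`
  let g₀ : Γ(CohB1.tensorPow P N, ⊤) := pw P ⊤ (sv s ⊤) N
  let g : Γ(GrTilde.tilde 𝒫 𝒫 (N : ℤ), ⊤) := e.hom.app ⊤ g₀
  have hg₀ : res (CohB1.tensorPow P N) (le_top : B ≤ ⊤) g₀ = pw P B (sv s B) N := by
    change res (CohB1.tensorPow P N) (le_top : B ≤ ⊤) (pw P ⊤ (sv s ⊤) N) = _
    rw [res_pw, res_sv]
  have hg : e.hom.app B (pw P B (sv s B) N) = res (GrTilde.tilde 𝒫 𝒫 (N : ℤ)) (le_top : B ≤ ⊤) g := by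
    rw [← hg₀]
    exact app_map e.hom (homOfLE (le_top : B ≤ ⊤)) g₀
  have hBG : B ≤ CohB1.genLocus P s := hB.trans hA'
  have hgen0 : IsGen P B (sv s B) := by
    have h := IsGen.mono (isGen_sv_genLocus P s) hBG
    rwa [res_sv] at h
  have hgen : IsGen (GrTilde.tilde 𝒫 𝒫 (N : ℤ)) B (res (GrTilde.tilde 𝒫 𝒫 (N : ℤ)) le_top g) := by
    have h := Groth.Agent.Lib.Helper23.PB.isGen_of_iso e (isGen_pw P B (sv s B) hgen0 N)
    rwa [hg] at h
  have hmem2 : tm (GF n R F m) (GrTilde.tilde 𝒫 𝒫 (N : ℤ)) B (res (GF n R F m) hB a)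
      (res (GrTilde.tilde 𝒫 𝒫 (N : ℤ)) le_top g) ∈
        gspan (CohB1.tensorMod (GF n R F m) (GrTilde.tilde 𝒫 𝒫 (N : ℤ))) B := by
    have h := app_mem_gspan ((DCoh.tensorBi.obj (GF n R F m)).map e.hom) hmem
    have h1 := tensorBi_map_tm (GF n R F m) e.hom B (res (GF n R F m) hB a) (pw P B (sv s B) N)
    have h3 : ((DCoh.tensorBi.obj (GF n R F m)).map e.hom).app B
        (tm (GF n R F m) (CohB1.tensorPow P N) B (res (GF n R F m) hB a) (pw P B (sv s B) N)) =
        tm (GF n R F m) (GrTilde.tilde 𝒫 𝒫 (N : ℤ)) B (res (GF n R F m) hB a)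
          (res (GrTilde.tilde 𝒫 𝒫 (N : ℤ)) le_top g) :=
      h1.trans (congrArg (fun z => tm (GF n R F m) (GrTilde.tilde 𝒫 𝒫 (N : ℤ)) B
        (res (GF n R F m) hB a) z) hg)
    exact h3 ▸ h
  exact mem_gspan_of_tm_mem_gspan (GF n R F m) (GrTilde.tilde 𝒫 𝒫 (N : ℤ)) B g hgen
    (fun t => hsurjT N t) _ hmem2

end Pn

section Rel

open Groth.Agent.Lib.T2H5.RelReg Groth.Agent.Lib.T2H6 Groth.Agent.Lib.T2H6.HProjChart
  Groth.Agent.Lib.T2H5.PnOver Groth.Agent.Lib.Helper1.PT Groth.Agent.Lib.Helper21.ModTensor5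
  Groth.Agent.Lib.T2H5.ProjFLF Groth.Agent.Lib.Helper20.PullbackAff

attribute [local instance] algSect

/-- **a quasi-coherent module on `P^n_T` regular relative to `T`: the counit `p^* p_* F ⟶ F` is an epimorphism** -/
theorem epi_counit_of_isRegSheaf (n : ℕ) (T : Scheme.{u}) (F : (CohB1.ProjSpaceOver n T).Modules)
    [F.IsQuasicoherent] (hreg : KRR.IsRegSheaf n T F) :
    Epi ((Scheme.Modules.pullbackPushforwardAdjunction (KRR.pr n T)).counit.app F) := by
  apply Groth.Agent.Lib.Helper23.CounitEpi.epi_counit_of_isGloballyGenerated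
  intro x
  obtain ⟨V, hV, hxV, -⟩ := (Opens.isBasis_iff_nbhd.1 T.isBasis_affineOpens)
    (Opens.mem_top ((KRR.pr n T) x))
  refine ⟨V, hxV, ?_⟩
  have hq : ∀ i : ℕ, 1 ≤ i →
      Subsingleton (Coh.HH (CohB1.ProjSpace n Γ(T, V))
        (GF n Γ(T, V) ((Scheme.Modules.pullback (embU n hV)).obj F) (0 - i)) i) := by
    intro i hi
    obtain ⟨j, rfl⟩ := Nat.exists_eq_succ_of_ne_zero (by omega : i ≠ 0)
    haveI := isQuasicoherent_twF n T (-((j + 1 : ℕ) : ℤ)) F
    have h1 := subsingleton_HH_chart_of_isZero n T (KRR.twF n T (-((j + 1 : ℕ) : ℤ)) F) j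
      (hreg (j + 1) (Nat.succ_pos _)) hV
    obtain ⟨ε⟩ := nonempty_pullback_embU_twF n T hV (-((j + 1 : ℕ) : ℤ)) F
    have h2 := Groth.Agent.Lib.T2H5.PnStruct.subsingleton_HH_of_iso ε (j + 1) h1
    rwa [← zero_sub] at h2
  have hgg := isGloballyGenerated_of_regular n Γ(T, V) ((Scheme.Modules.pullback (embU n hV)).obj F)
    (Groth.Agent.Lib.Helper20.PullbackAff.isQuasicoherent_pullback (embU n hV) F) 0 hq
  obtain ⟨ε0⟩ := Groth.Agent.Lib.T2H5.PnStruct.nonempty_tilde_zero_iso (CohB1.polyGrading n Γ(T, V))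
  let ε : GF n Γ(T, V) ((Scheme.Modules.pullback (embU n hV)).obj F) 0 ≅
      (Scheme.Modules.pullback (embU n hV)).obj F :=
    PicGrp.tensorModIso (Iso.refl _) ε0 ≪≫ tensUnitRight _
  have hgg' := Groth.Agent.Lib.Helper23.RestrTensor.isGloballyGenerated_of_iso ε hgg
  exact isGloballyGenerated_restrict_of_pullback (embU n hV) _ (range_embU n T hV) F hgg'

end Rel

end Groth.Agent.Lib.T2H5.GlobGenQ
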