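import Mathlib
import Groth.Agent.Lib.LeadRpushCmp

/-!
# T2H5NatCmp: a comparison `H^{n+1}(g⁻¹V, G) → Γ(V, R^{n+1} g_* G)` which is natural in the sheaf `G` (helper5)

The abstract part constructs, for a left exact additive functor `F` and an injective resolution `R` of `A`, the
canonical epimorphism `ρ : F(Z^{n+1}) ⟶ R^{n+1}F(A)` exhibiting `R^{n+1}F(A)` as the cokernel of
`F(K^n) ⟶ F(Z^{n+1})`, and proves its naturality with respect to morphisms of resolutions.
-/

set_option autoImplicit false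
set_option linter.style.haveILetI false
set_option linter.unusedSectionVars false
universe u
open CategoryTheory CategoryTheory.Limits Opposite TopologicalSpace Abelian

namespace Groth.Agent.Lib.T2H5.NatCmp

open Groth.Agent.Lib.Lead.RpushCmp

section Abstract

universe v₁ u₁ v₂ u₂
variable {𝒜 : Type u₁} [Category.{v₁} 𝒜] [Abelian 𝒜] {ℬ : Type u₂} [Category.{v₂} ℬ] [Abelian ℬ]
variable [HasInjectiveResolutions 𝒜] (F : 𝒜 ⥤ ℬ) [F.Additive] [PreservesFiniteLimits F]
variable {A : 𝒜} (R : InjectiveResolution A) (n : ℕ)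

/-- the image complex -/
noncomputable abbrev LL : CochainComplex ℬ ℕ :=
  (F.mapHomologicalComplex (ComplexShape.up ℕ)).obj R.cocomplex

/-- the cocycle object -/
noncomputable abbrev ZZ : 𝒜 := kernel (R.cocomplex.d (n + 1) (n + 2))

lemma map_ι_d : F.map (kernel.ι (R.cocomplex.d (n + 1) (n + 2))) ≫ F.map (R.cocomplex.d (n + 1) (n + 2)) = 0 := by
  rw [← F.map_comp, kernel.condition, F.map_zero]

/-- the inclusion of the cycles, typed through `F` -/
noncomputable def iC : (LL F R).cycles (n + 1) ⟶ F.obj (R.cocomplex.X (n + 1)) := (LL F R).iCycles (n + 1)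

/-- the map to the cycles, typed through `F` -/
noncomputable def tC : F.obj (R.cocomplex.X n) ⟶ (LL F R).cycles (n + 1) := (LL F R).toCycles n (n + 1)

@[reassoc]
lemma tC_iC : tC F R n ≫ iC F R n = F.map (R.cocomplex.d n (n + 1)) := (LL F R).toCycles_i n (n + 1)

@[reassoc]
lemma iC_d : iC F R n ≫ F.map (R.cocomplex.d (n + 1) (n + 2)) = 0 := (LL F R).iCycles_d (n + 1) (n + 2)

instance mono_iC : Mono (iC F R n) :=
  mono_of_isLimit_fork ((LL F R).cyclesIsKernel (n + 1) (n + 2) (by simp))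

/-- the cycles are a kernel -/
noncomputable def iCIsKernel : IsLimit (KernelFork.ofι (iC F R n) (iC_d F R n)) :=
  (LL F R).cyclesIsKernel (n + 1) (n + 2) (by simp)

@[reassoc]
lemma tC_π : tC F R n ≫ (LL F R).homologyπ (n + 1) = 0 := (LL F R).toCycles_comp_homologyπ n (n + 1)

/-- the homology is a cokernel -/
noncomputable def πIsCokernel : IsColimit (CokernelCofork.ofπ ((LL F R).homologyπ (n + 1)) (tC_π F R n)) :=
  (LL F R).homologyIsCokernel n (n + 1) (by simp)

/-- `F(Z^{n+1}) ⟶ Z^{n+1}(F K)` -/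
noncomputable def κ : F.obj (ZZ R n) ⟶ (LL F R).cycles (n + 1) :=
  (iCIsKernel F R n).lift (KernelFork.ofι (F.map (kernel.ι _)) (map_ι_d F R n))

@[reassoc]
lemma κ_i : κ F R n ≫ iC F R n = F.map (kernel.ι _) :=
  (iCIsKernel F R n).fac (KernelFork.ofι (F.map (kernel.ι _)) (map_ι_d F R n)) WalkingParallelPair.zero

instance isIso_κ : IsIso (κ F R n) := by
  have h2 : IsLimit ((KernelFork.ofι (kernel.ι (R.cocomplex.d (n + 1) (n + 2)))
      (kernel.condition _)).map F) :=
    KernelFork.mapIsLimit _ (kernelIsKernel _) F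
  let e : F.obj (ZZ R n) ≅ (LL F R).cycles (n + 1) :=
    IsLimit.conePointUniqueUpToIso h2 (iCIsKernel F R n)
  have he : e.hom ≫ iC F R n = F.map (kernel.ι _) :=
    IsLimit.conePointUniqueUpToIso_hom_comp h2 (iCIsKernel F R n) WalkingParallelPair.zero
  have : κ F R n = e.hom := by
    rw [← cancel_mono (iC F R n), κ_i, he]
  rw [this]
  infer_instance

/-- the identification of the derived functor with the homology of the image complex -/
noncomputable def isoR : (F.rightDerived (n + 1)).obj A ≅ (LL F R).homology (n + 1) :=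
  R.isoRightDerivedObj F (n + 1)

/-- the canonical map `F(Z^{n+1}) ⟶ R^{n+1}F(A)` -/
noncomputable def ρ : F.obj (ZZ R n) ⟶ (F.rightDerived (n + 1)).obj A :=
  κ F R n ≫ (LL F R).homologyπ (n + 1) ≫ (isoR F R n).inv

@[reassoc]
lemma map_zlift_κ : F.map (zlift R n) ≫ κ F R n = tC F R n := by
  rw [← cancel_mono (iC F R n), Category.assoc, κ_i, ← F.map_comp, kernel.lift_ι, tC_iC]

@[reassoc]
lemma map_zlift_ρ : F.map (zlift R n) ≫ ρ F R n = 0 := by
  unfold ρ
  rw [map_zlift_κ_assoc, tC_π_assoc, zero_comp]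

instance epi_ρ : Epi (ρ F R n) := by
  unfold ρ
  infer_instance

lemma tC_invκ_π : tC F R n ≫ inv (κ F R n) ≫ cokernel.π (F.map (zlift R n)) = 0 := by
  rw [← map_zlift_κ, Category.assoc, IsIso.hom_inv_id_assoc, cokernel.condition]

/-- the inverse comparison on homology -/
noncomputable def σ : (LL F R).homology (n + 1) ⟶ cokernel (F.map (zlift R n)) :=
  (πIsCokernel F R n).desc (CokernelCofork.ofπ (inv (κ F R n) ≫ cokernel.π (F.map (zlift R n)))
    (tC_invκ_π F R n))

@[reassoc]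
lemma π_σ : (LL F R).homologyπ (n + 1) ≫ σ F R n = inv (κ F R n) ≫ cokernel.π (F.map (zlift R n)) :=
  (πIsCokernel F R n).fac (CokernelCofork.ofπ (inv (κ F R n) ≫ cokernel.π (F.map (zlift R n)))
    (tC_invκ_π F R n)) WalkingParallelPair.one

/-- `R^{n+1}F(A)` is the cokernel of `F(K^n) ⟶ F(Z^{n+1})` -/
noncomputable def cokerIso : cokernel (F.map (zlift R n)) ≅ (F.rightDerived (n + 1)).obj A where
  hom := cokernel.desc _ (ρ F R n) (map_zlift_ρ F R n)
  inv := (isoR F R n).hom ≫ σ F R n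
  hom_inv_id := by
    apply coequalizer.hom_ext
    rw [cokernel.π_desc_assoc, Category.comp_id]
    unfold ρ
    simp only [Category.assoc, Iso.inv_hom_id_assoc]
    rw [π_σ, IsIso.hom_inv_id_assoc]
  inv_hom_id := by
    rw [Category.assoc, ← cancel_epi (isoR F R n).inv, Iso.inv_hom_id_assoc,
      Category.comp_id, ← cancel_epi ((LL F R).homologyπ (n + 1)), π_σ_assoc, cokernel.π_desc]
    unfold ρ
    rw [IsIso.inv_hom_id_assoc]

@[reassoc]
lemma π_cokerIso_hom : cokernel.π (F.map (zlift R n)) ≫ (cokerIso F R n).hom = ρ F R n :=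
  cokernel.π_desc _ _ _

section Nat

variable {R} {A' : 𝒜} {R' : InjectiveResolution A'} {f : A ⟶ A'} (φ : InjectiveResolution.Hom R R' f)

/-- the induced map on cocycle objects -/
noncomputable def Zmap : ZZ R n ⟶ ZZ R' n :=
  kernel.map _ _ (φ.hom.f (n + 1)) (φ.hom.f (n + 2)) (φ.hom.comm _ _).symm

@[reassoc]
lemma Zmap_ι : Zmap n φ ≫ kernel.ι _ = kernel.ι _ ≫ φ.hom.f (n + 1) :=
  kernel.lift_ι _ _ _

lemma hom_comm_zero : R.ι.f 0 ≫ φ.hom.f 0 = f ≫ R'.ι.f 0 := by
  have := φ.ι_f_zero_comp_hom_f_zero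
  rwa [CochainComplex.single₀_map_f_zero] at this

/-- the induced map on homology -/
noncomputable def hM : (LL F R).homology (n + 1) ⟶ (LL F R').homology (n + 1) :=
  HomologicalComplex.homologyMap ((F.mapHomologicalComplex _).map φ.hom) (n + 1)

lemma isoR_inv_naturality :
    (isoR F R n).inv ≫ (F.rightDerived (n + 1)).map f = hM F n φ ≫ (isoR F R' n).inv :=
  InjectiveResolution.isoRightDerivedObj_inv_naturality f R R' φ.hom (hom_comm_zero φ) F (n + 1)

/-- the induced map on cycles -/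
noncomputable def cM : (LL F R).cycles (n + 1) ⟶ (LL F R').cycles (n + 1) :=
  HomologicalComplex.cyclesMap ((F.mapHomologicalComplex _).map φ.hom) (n + 1)

@[reassoc]
lemma cM_iC : cM F n φ ≫ iC F R' n = iC F R n ≫ F.map (φ.hom.f (n + 1)) :=
  HomologicalComplex.cyclesMap_i ((F.mapHomologicalComplex _).map φ.hom) (n + 1)

@[reassoc]
lemma cM_π : cM F n φ ≫ (LL F R').homologyπ (n + 1) =
    (LL F R).homologyπ (n + 1) ≫ hM F n φ :=
  (HomologicalComplex.homologyπ_naturality ((F.mapHomologicalComplex _).map φ.hom) (n + 1)).symm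

/-- **naturality of `ρ`** -/
theorem ρ_naturality :
    F.map (Zmap n φ) ≫ ρ F R' n = ρ F R n ≫ (F.rightDerived (n + 1)).map f := by
  have h1 : F.map (Zmap n φ) ≫ κ F R' n = κ F R n ≫ cM F n φ := by
    rw [← cancel_mono (iC F R' n), Category.assoc, Category.assoc, κ_i, cM_iC, κ_i_assoc,
      ← F.map_comp, Zmap_ι, F.map_comp]
  unfold ρ
  rw [reassoc_of% h1, cM_π_assoc]
  simp only [Category.assoc]
  rw [isoR_inv_naturality]

end Nat

/-- a lift of a morphism to given injective resolutions -/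
noncomputable def homOfDesc {A A' : 𝒜} (f : A ⟶ A') (R : InjectiveResolution A) (R' : InjectiveResolution A') :
    InjectiveResolution.Hom R R' f where
  hom := InjectiveResolution.desc f R' R
  ι_f_zero_comp_hom_f_zero := by
    rw [CochainComplex.single₀_map_f_zero]
    exact InjectiveResolution.desc_commutes_zero f R' R

end Abstract

section Top

open Groth.Agent.Lib.Helper23.AffVanish

variable {X Y : TopCat.{u}} (g : X ⟶ Y) {G : CohTop.Ab X} (R : InjectiveResolution G) (n : ℕ)

instance : PreservesFiniteLimits (CohTop.push g) :=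
  Groth.Agent.Lib.Helper16.ClosedEmb.push_preservesFiniteLimits g

/-- the canonical map `g_* Z^{n+1} ⟶ R^{n+1} g_* G` -/
noncomputable abbrev ρs : (CohTop.push g).obj (Zs R n) ⟶ (CohTop.Rpush g (n + 1)).obj G :=
  ρ (CohTop.push g) R n

/-- **the natural comparison** `H^{n+1}(g⁻¹V, G) → Γ(V, R^{n+1} g_* G)` -/
noncomputable def cmp (V : Opens Y) :
    HE G (n + 1) ((Opens.map g).obj V) →+ ((CohTop.Rpush g (n + 1)).obj G).obj.obj (op V) :=
  (((cokerIso (CohTop.push g) R n).hom.hom.app (op V)).hom).comp (cAux g R n V)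

lemma cmp_cl (V : Opens Y) (ζ : ZU ((Opens.map g).obj V) ⟶ Zs R n) :
    cmp g R n V (cl R n _ ζ) =
      ((ρs g R n).hom.app (op V)).hom (CohFree.evalGen (J X) ((Opens.map g).obj V) (Zs R n) ζ) := by
  change ((cokerIso (CohTop.push g) R n).hom.hom.app (op V)).hom (cAux g R n V (cl R n _ ζ)) = _
  rw [cAux_cl]
  change ((cokerIso (CohTop.push g) R n).hom.hom.app (op V)).hom
    (((πc g R n).hom.app (op V)).hom (CohFree.evalGen (J X) ((Opens.map g).obj V) (Zs R n) ζ)) = _
  rw [← app_comp_apply, π_cokerIso_hom]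

lemma cmp_res {V V' : Opens Y} (h : V' ≤ V) (α : HE G (n + 1) ((Opens.map g).obj V)) :
    cmp g R n V' (resE G (n + 1) ((Opens.map g).monotone h) α) =
      (((CohTop.Rpush g (n + 1)).obj G).obj.map (homOfLE h).op).hom (cmp g R n V α) := by
  change ((cokerIso (CohTop.push g) R n).hom.hom.app (op V')).hom (cAux g R n V' (resE G (n + 1) _ α)) = _
  rw [cAux_res]
  exact app_res_apply (cokerIso (CohTop.push g) R n).hom h _

lemma cmp_locSurj (V : Opens Y) (t : ((CohTop.Rpush g (n + 1)).obj G).obj.obj (op V)) (y : Y) (hy : y ∈ V) :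
    ∃ (V' : Opens Y) (h : V' ≤ V), y ∈ V' ∧ ∃ α : HE G (n + 1) ((Opens.map g).obj V'),
      cmp g R n V' α = (((CohTop.Rpush g (n + 1)).obj G).obj.map (homOfLE h).op).hom t := by
  obtain ⟨V', h, hyV', α, hα⟩ := cAux_locSurj g R n V
    (((cokerIso (CohTop.push g) R n).inv.hom.app (op V)).hom t) y hy
  refine ⟨V', h, hyV', α, ?_⟩
  change ((cokerIso (CohTop.push g) R n).hom.hom.app (op V')).hom (cAux g R n V' α) = _
  rw [hα, app_res_apply]
  exact congrArg _ (iso_inv_hom_apply (cokerIso (CohTop.push g) R n) V t)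

lemma cmp_locInj (V : Opens Y) (α : HE G (n + 1) ((Opens.map g).obj V)) (hα : cmp g R n V α = 0)
    (y : Y) (hy : y ∈ V) :
    ∃ (V' : Opens Y) (h : V' ≤ V), y ∈ V' ∧ resE G (n + 1) ((Opens.map g).monotone h) α = 0 := by
  have h0 : cAux g R n V α = 0 := by
    have h1 : ((cokerIso (CohTop.push g) R n).inv.hom.app (op V)).hom
        (((cokerIso (CohTop.push g) R n).hom.hom.app (op V)).hom (cAux g R n V α)) =
        ((cokerIso (CohTop.push g) R n).inv.hom.app (op V)).hom 0 := congrArg _ hα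
    rw [iso_hom_inv_apply, map_zero] at h1
    exact h1
  exact cAux_locInj g R n V α h0 y hy

section Nat

variable {R} {G' : CohTop.Ab X} {R' : InjectiveResolution G'} {φ : G ⟶ G'}
  (Φ : InjectiveResolution.Hom R R' φ)

lemma cl_comp_mk₀ (W : Opens X) (ζ : ZU W ⟶ Zs R n) :
    (cl R n W ζ).comp (Ext.mk₀ φ) (add_zero (n + 1)) = cl R' n W (ζ ≫ Zmap n Φ) := by
  unfold cl
  rw [InjectiveResolution.extMk_comp_mk₀ _ _ _ _ Φ]
  refine extMk_congr R' ?_ _ _ _
  rw [Category.assoc, Category.assoc, Zmap_ι]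

include Φ in
/-- **naturality of the comparison in the sheaf** -/
theorem cmp_naturality (V : Opens Y) (α : HE G (n + 1) ((Opens.map g).obj V)) :
    cmp g R' n V (α.comp (Ext.mk₀ φ) (add_zero (n + 1))) =
      (((CohTop.Rpush g (n + 1)).map φ).hom.app (op V)).hom (cmp g R n V α) := by
  obtain ⟨ζ, rfl⟩ := cl_surjective R n _ α
  rw [cl_comp_mk₀ n Φ, cmp_cl, cmp_cl, evalGen_comp']
  have h := ρ_naturality (CohTop.push g) n Φ
  have h2 := congrArg (fun κ : (CohTop.push g).obj (Zs R n) ⟶ (CohTop.Rpush g (n + 1)).obj G' =>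
    (κ.hom.app (op V)).hom (CohFree.evalGen (J X) ((Opens.map g).obj V) (Zs R n) ζ)) h
  exact h2

end Nat

end Top

end Groth.Agent.Lib.T2H5.NatCmp
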