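import Mathlib
import Groth.Agent.Lib.T2H5NatCmp
import Groth.Agent.Lib.T2H5RpushAffine
import Groth.Agent.Lib.T2H5RpushRestr

/-!
# T2H5RpushQCoh: higher direct images of quasi-coherent modules along quasi-compact quasi-separated morphisms
are quasi-coherent (helper5)
-/

set_option autoImplicit false
set_option linter.style.haveILetI false
set_option linter.unusedSectionVars false
universe u
open CategoryTheory CategoryTheory.Limits Opposite TopologicalSpace AlgebraicGeometry Abelian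

namespace Groth.Agent.Lib.T2H5.RpushQCoh

open Groth.Agent.Lib.Helper23.FLoc Groth.Agent.Lib.Helper23.AffVanish Groth.Agent.Lib.Helper6
open Groth.Agent.Lib.Helper23.FLocSch Groth.Agent.Lib.T2H5.LocQS Groth.Agent.Lib.T2H5.RpushSect
open Groth.Agent.Lib.T2H5.RpushAffine Groth.Agent.Lib.T2H5.NatCmp

section AffineBase

variable {U V : Scheme.{u}} (h : U ⟶ V) [QuasiCompact h] [QuasiSeparated h] [IsAffine V]
  (N : U.Modules) [N.IsQuasicoherent] (n : ℕ)

/-- the abelian higher direct image -/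
noncomputable abbrev T' : CohTop.Ab V.carrier := (CohTop.Rpush h.base (n + 1)).obj (ab' N)

/-- the endomorphism induced by multiplication by a function on the source -/
noncomputable abbrev θr (r : Γ(U, ⊤)) : T' h N n ⟶ T' h N n :=
  (CohTop.Rpush h.base (n + 1)).map (σM N r : Coh.toAb N ⟶ Coh.toAb N)

/-- the chosen injective resolution -/
noncomputable def Rres : InjectiveResolution (ab' N) := injectiveResolution (ab' N)

/-- the comparison -/
noncomputable def cc (W : V.Opens) : HE (ab' N) (n + 1) (h ⁻¹ᵁ W) →+ (T' h N n).obj.obj (op W) :=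
  cmp h.base (Rres N) n W

theorem cc_res {W W' : V.Opens} (hle : W' ≤ W) (α : HE (ab' N) (n + 1) (h ⁻¹ᵁ W)) :
    cc h N n W' (resE (ab' N) (n + 1) (h.preimage_mono hle) α) =
      ((T' h N n).obj.map (homOfLE hle).op).hom (cc h N n W α) :=
  cmp_res h.base (Rres N) n hle α

theorem cc_bijective (W : V.Opens) (hW : IsAffineOpen W) : Function.Bijective (cc h N n W) :=
  bijective_comparison_affineOpen h N (n + 1) (T' h N n) (cc h N n)
    (fun _ _ hle α => cc_res h N n hle α)
    (fun W t y hy => cmp_locSurj h.base (Rres N) n W t y hy)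
    (fun W α hα y hy => cmp_locInj h.base (Rres N) n W α hα y hy) W hW

theorem cc_smul (W : V.Opens) (r : Γ(U, ⊤)) (α : HM N (n + 1) (h ⁻¹ᵁ W)) :
    cc h N n W (ofM (σM N) (r • α)) = ((θr h N n r).hom.app (op W)).hom (cc h N n W (ofM (σM N) α)) :=
  cmp_naturality h.base n (homOfDesc (σM N r : Coh.toAb N ⟶ Coh.toAb N) (Rres N) (Rres N)) W
    (ofM (σM N) α)

theorem isCompact_top : IsCompact (((⊤ : V.Opens) : Set V)) := by
  haveI : CompactSpace V := inferInstance
  exact isCompact_univ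

/-- sections over a basic open extend after multiplication by a power -/
theorem exists_extension (g : Γ(V, ⊤)) (s' : (T' h N n).obj.obj (op (V.basicOpen g))) :
    ∃ (k : ℕ) (t' : (T' h N n).obj.obj (op ⊤)),
      ((T' h N n).obj.map (homOfLE (le_top : V.basicOpen g ≤ ⊤)).op).hom t' =
        ((θr h N n ((h.appTop.hom g) ^ k)).hom.app (op (V.basicOpen g))).hom s' := by
  have hD : IsAffineOpen (V.basicOpen g) := (isAffineOpen_top V).basicOpen g
  obtain ⟨α, rfl⟩ := (cc_bijective h N n _ hD).2 s'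
  have hck := cokerTors_res h N (n + 1) ⊤ (V.basicOpen g) le_top (isCompact_top (V := V)) g
    (by rw [top_inf_eq])
  obtain ⟨k, β, hβ⟩ := hck (toM (σM N) α)
  refine ⟨k, cc h N n ⊤ (ofM (σM N) β), ?_⟩
  rw [← cc_res h N n (le_top : V.basicOpen g ≤ ⊤)]
  have h1 := cc_smul h N n (V.basicOpen g) ((h.appTop.hom g) ^ k) (toM (σM N) α)
  rw [← hβ] at h1
  exact h1

/-- sections vanishing over a basic open are killed by a power -/
theorem exists_pow_eq_zero (g : Γ(V, ⊤)) (t' : (T' h N n).obj.obj (op ⊤))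
    (ht' : ((T' h N n).obj.map (homOfLE (le_top : V.basicOpen g ≤ ⊤)).op).hom t' = 0) :
    ∃ k : ℕ, ((θr h N n ((h.appTop.hom g) ^ k)).hom.app (op ⊤)).hom t' = 0 := by
  have hD : IsAffineOpen (V.basicOpen g) := (isAffineOpen_top V).basicOpen g
  obtain ⟨β, rfl⟩ := (cc_bijective h N n ⊤ (isAffineOpen_top V)).2 t'
  rw [← cc_res h N n (le_top : V.basicOpen g ≤ ⊤)] at ht'
  have h0 : resE (ab' N) (n + 1) (h.preimage_mono (le_top : V.basicOpen g ≤ ⊤)) β = 0 := by
    apply (cc_bijective h N n _ hD).1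
    rw [ht', map_zero]
  have hkt := kerTors_res h N (n + 1) ⊤ (V.basicOpen g) le_top (isCompact_top (V := V)) g
    (by rw [top_inf_eq])
  obtain ⟨k, hk⟩ := hkt (toM (σM N) β) h0
  refine ⟨k, ?_⟩
  have h1 := cc_smul h N n ⊤ ((h.appTop.hom g) ^ k) (toM (σM N) β)
  rw [hk] at h1
  refine h1.symm.trans ?_
  exact map_zero _

end AffineBase

section Transfer

open Groth.Agent.Lib.Lead.RpushCmp Groth.Agent.Lib.Helper2.Push

variable {Y : Scheme.{u}} (F : Y.Modules) (T : CohTop.Ab Y.carrier) (Ξ : Coh.toAb F ≅ T)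
  (θ : Γ(Y, ⊤) → (T ⟶ T))

theorem smul_eq_of_comm (hcomm : ∀ r : Γ(Y, ⊤), Coh.smulAb F (gt r) ≫ Ξ.hom = Ξ.hom ≫ θ r)
    (r : Γ(Y, ⊤)) (W : Y.Opens) (s : Γ(F, W)) :
    (Ξ.inv.hom.app (op W)).hom (((θ r).hom.app (op W)).hom ((Ξ.hom.hom.app (op W)).hom s)) =
      (Y.presheaf.map (homOfLE (le_top : W ≤ ⊤)).op).hom r • s := by
  have h1 : ((Ξ.hom ≫ θ r).hom.app (op W)).hom s = ((Coh.smulAb F (gt r) ≫ Ξ.hom).hom.app (op W)).hom s := by
    rw [hcomm r]
  have h2 : ((θ r).hom.app (op W)).hom ((Ξ.hom.hom.app (op W)).hom s) =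
      (Ξ.hom.hom.app (op W)).hom ((Coh.smulAb F (gt r)).hom.app (op W) s) := h1
  rw [h2, iso_hom_inv_apply, Coh.smulAb_app]
  rfl

/-- transfer of the localization property through an isomorphism of underlying abelian sheaves compatible
with scalars -/
theorem isLocOn_top_of_iso (hcomm : ∀ r : Γ(Y, ⊤), Coh.smulAb F (gt r) ≫ Ξ.hom = Ξ.hom ≫ θ r)
    (hA : ∀ (g : Γ(Y, ⊤)) (s' : T.obj.obj (op (Y.basicOpen g))), ∃ (k : ℕ) (t' : T.obj.obj (op ⊤)),
      (T.obj.map (homOfLE (le_top : Y.basicOpen g ≤ ⊤)).op).hom t' =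
        ((θ (g ^ k)).hom.app (op (Y.basicOpen g))).hom s')
    (hB : ∀ (g : Γ(Y, ⊤)) (t' : T.obj.obj (op ⊤)),
      (T.obj.map (homOfLE (le_top : Y.basicOpen g ≤ ⊤)).op).hom t' = 0 →
        ∃ k : ℕ, ((θ (g ^ k)).hom.app (op ⊤)).hom t' = 0) :
    IsLocOn F ⊤ := by
  constructor
  · intro g s
    obtain ⟨k, t', ht'⟩ := hA g ((Ξ.hom.hom.app (op (Y.basicOpen g))).hom s)
    refine ⟨k, (Ξ.inv.hom.app (op ⊤)).hom t', ?_⟩
    have h1 : F.presheaf.map (homOfLE (Y.basicOpen_le g)).op ((Ξ.inv.hom.app (op ⊤)).hom t') =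
        (Ξ.inv.hom.app (op (Y.basicOpen g))).hom
          ((T.obj.map (homOfLE (le_top : Y.basicOpen g ≤ ⊤)).op).hom t') :=
      (app_res_apply Ξ.inv (le_top : Y.basicOpen g ≤ ⊤) t').symm
    rw [h1, ht', smul_eq_of_comm F T Ξ θ hcomm, map_pow]
  · intro g t ht
    have h1 : (T.obj.map (homOfLE (le_top : Y.basicOpen g ≤ ⊤)).op).hom ((Ξ.hom.hom.app (op ⊤)).hom t) = 0 := by
      rw [← app_res_apply Ξ.hom (le_top : Y.basicOpen g ≤ ⊤) t]
      have : ((Coh.toAb F).obj.map (homOfLE (le_top : Y.basicOpen g ≤ ⊤)).op).hom t = 0 := ht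
      rw [this, map_zero]
    obtain ⟨k, hk⟩ := hB g _ h1
    refine ⟨k, ?_⟩
    have h2 := smul_eq_of_comm F T Ξ θ hcomm (g ^ k) ⊤ t
    rw [hk, map_zero] at h2
    have h3 : (Y.presheaf.map (homOfLE (le_top : (⊤ : Y.Opens) ≤ ⊤)).op).hom (g ^ k) = g ^ k := by
      have : (homOfLE (le_top : (⊤ : Y.Opens) ≤ ⊤)).op = 𝟙 (op (⊤ : Y.Opens)) := rfl
      rw [this, Y.presheaf.map_id]
      rfl
    rw [h3] at h2
    exact h2.symm

end Transfer

section Main

open Groth.Agent.Lib.Helper2.Push Groth.Agent.Lib.Helper23.QCohLocal Groth.Agent.Lib.T2H5.RpushRestr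

variable {X S : Scheme.{u}} (f : X ⟶ S) [QuasiCompact f] [QuasiSeparated f]
  [HasInjectiveResolutions X.Modules] (M : X.Modules) [M.IsQuasicoherent] (n : ℕ)

/-- the restriction of a positive-degree higher direct image to an affine open of the base is localizing -/
theorem isLocOn_restrict (V : S.Opens) (hV : IsAffineOpen V) :
    IsLocOn (((Coh.Rpush f (n + 1)).obj M).restrict V.ι) ⊤ := by
  haveI : IsAffine (↑V : Scheme.{u}) := hV
  haveI : (M.restrict (f ⁻¹ᵁ V).ι).IsQuasicoherent :=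
    Scheme.Modules.isQuasicoherent_restrictFunctor (f ⁻¹ᵁ V).ι M
  obtain ⟨Ξ, hΞ⟩ := exists_iso_restrict f V M (n + 1)
  let Ξ' : Coh.toAb (((Coh.Rpush f (n + 1)).obj M).restrict V.ι) ≅
      T' (f ∣_ V) (M.restrict (f ⁻¹ᵁ V).ι) n := Ξ
  refine isLocOn_top_of_iso _ (T' (f ∣_ V) (M.restrict (f ⁻¹ᵁ V).ι) n) Ξ'
    (fun r => θr (f ∣_ V) (M.restrict (f ⁻¹ᵁ V).ι) n ((f ∣_ V).appTop.hom r)) (fun r => hΞ (gt r)) ?_ ?_
  · intro g s'
    obtain ⟨k, t', ht'⟩ := exists_extension (f ∣_ V) (M.restrict (f ⁻¹ᵁ V).ι) n g s'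
    refine ⟨k, t', ?_⟩
    rw [map_pow]
    exact ht'
  · intro g t' ht'
    obtain ⟨k, hk⟩ := exists_pow_eq_zero (f ∣_ V) (M.restrict (f ⁻¹ᵁ V).ι) n g t' ht'
    refine ⟨k, ?_⟩
    rw [map_pow]
    exact hk

/-- a module on an affine scheme which is localizing on the whole scheme has a global presentation -/
theorem nonempty_presentation_of_isLocOn_top {Y : Scheme.{u}} [IsAffine Y] (F : Y.Modules)
    (hF : IsLocOn F ⊤) : Nonempty F.Presentation := by
  have hU := isAffineOpen_top Y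
  haveI := isQuasicoherent_restrict_fromSpec_of_isLocOn hU F hF
  obtain ⟨P⟩ := nonempty_presentation_spec (F.restrict hU.fromSpec)
  have hcomp : Y.isoSpec.hom ≫ hU.fromSpec = 𝟙 Y := by
    rw [IsAffineOpen.fromSpec_top, Iso.hom_inv_id]
  let P' := presentationOfComp F Y.isoSpec.hom hU.fromSpec (𝟙 Y) hcomp P
  exact ⟨SheafOfModules.Presentation.ofIsIso.{u, u, u} (Scheme.Modules.restrictFunctorId.hom.app F) P'⟩

/-- **Higher direct images of quasi-coherent modules along quasi-compact quasi-separated morphisms are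
quasi-coherent**, positive degrees. -/
theorem isQuasicoherent_Rpush_succ : ((Coh.Rpush f (n + 1)).obj M).IsQuasicoherent := by
  refine isQuasicoherent_of_presentation _ (fun V : S.affineOpens => (V : S.Opens))
    (iSup_affineOpens_eq_top S) (fun V => ?_)
  haveI : IsAffine (↑(V : S.Opens) : Scheme.{u}) := V.2
  exact nonempty_presentation_of_isLocOn_top _ (isLocOn_restrict f M n V.1 V.2)

/-- degree zero -/
theorem isQuasicoherent_Rpush_zero : ((Coh.Rpush f 0).obj M).IsQuasicoherent := by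
  haveI : PreservesFiniteLimits (Scheme.Modules.pushforward f) := by
    haveI := (Scheme.Modules.pullbackPushforwardAdjunction f).rightAdjoint_preservesLimits
    infer_instance
  have e : (Coh.Rpush f 0).obj M ≅ (Scheme.Modules.pushforward f).obj M :=
    (Scheme.Modules.pushforward f).rightDerivedZeroIsoSelf.app M
  haveI := isQuasicoherent_pushforward f M
  exact (SheafOfModules.isQuasicoherent S.ringCatSheaf).prop_of_iso e.symm
    (isQuasicoherent_pushforward f M)

/-- **Higher direct images of quasi-coherent modules along quasi-compact quasi-separated morphisms are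
quasi-coherent.** -/
theorem isQuasicoherent_Rpush (p : ℕ) : ((Coh.Rpush f p).obj M).IsQuasicoherent := by
  cases p with
  | zero => exact isQuasicoherent_Rpush_zero f M
  | succ n => exact isQuasicoherent_Rpush_succ f M n

end Main

end Groth.Agent.Lib.T2H5.RpushQCoh
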