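import Mathlib
import Groth.Agent.Lib.T2H5GlobGenQ
import Groth.Agent.Lib.T2H5RpushQCoh
import Groth.Agent.Lib.Helper23PB2
import Groth.Agent.Lib.Helper23QCohLocal
set_option backward.isDefEq.respectTransparency.types false

/-!
# T2H5CounitGG: the counit `f^* f_* F ⟶ F` is an epimorphism iff `F` is a quotient of a pullback iff `F` is globally
generated over the affine opens of the base (helper5)

Namespace `Groth.Agent.Lib.T2H5.CounitGG`.
-/

set_option autoImplicit false
set_option linter.style.haveILetI false
set_option linter.unusedSectionVars false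
universe u
open CategoryTheory CategoryTheory.Limits AlgebraicGeometry TopologicalSpace Opposite

namespace Groth.Agent.Lib.T2H5.CounitGG

open Groth.Agent.Lib.Helper2.Push

/-- a quasi-coherent module on an affine scheme is globally generated -/
theorem isGloballyGenerated_of_isAffine {Y : Scheme.{u}} [IsAffine Y] (G : Y.Modules) [G.IsQuasicoherent] :
    Curv2.IsGloballyGenerated G := by
  obtain ⟨P⟩ := Groth.Agent.Lib.T2H5.RpushQCoh.nonempty_presentation_of_isLocOn_top G
    (IsLocOn.of_isQuasicoherent (isAffineOpen_top Y) G)
  exact ⟨P.generators.I, P.generators.π, inferInstance⟩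

/-- a quotient of a globally generated module is globally generated -/
theorem isGloballyGenerated_of_epi {X : Scheme.{u}} {M N : X.Modules} (p : M ⟶ N) (hp : Epi p)
    (h : Curv2.IsGloballyGenerated M) : Curv2.IsGloballyGenerated N := by
  obtain ⟨I, π, hπ⟩ := h
  exact ⟨I, π ≫ p, @epi_comp _ _ _ _ _ π hπ p hp⟩

variable {X S : Scheme.{u}} (f : X ⟶ S)

/-- a quotient of a pullback has epimorphic counit -/
theorem epi_counit_of_epi_pullback (F : X.Modules) (G : S.Modules)
    (φ : (Scheme.Modules.pullback f).obj G ⟶ F) [Epi φ] :
    Epi ((Scheme.Modules.pullbackPushforwardAdjunction f).counit.app F) := by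
  have h : φ = (Scheme.Modules.pullback f).map
      ((Scheme.Modules.pullbackPushforwardAdjunction f).homEquiv G F φ) ≫
      (Scheme.Modules.pullbackPushforwardAdjunction f).counit.app F := by
    have h0 := ((Scheme.Modules.pullbackPushforwardAdjunction f).homEquiv G F).symm_apply_apply φ
    rw [Adjunction.homEquiv_counit] at h0
    exact h0.symm
  have h2 : Epi ((Scheme.Modules.pullback f).map
      ((Scheme.Modules.pullbackPushforwardAdjunction f).homEquiv G F φ) ≫
      (Scheme.Modules.pullbackPushforwardAdjunction f).counit.app F) := by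
    rw [← h]; infer_instance
  haveI := h2
  exact epi_of_epi ((Scheme.Modules.pullback f).map
      ((Scheme.Modules.pullbackPushforwardAdjunction f).homEquiv G F φ)) _

/-- if the counit is an epimorphism, the restrictions of `F` over the affine opens of the base are globally generated -/
theorem isGloballyGenerated_restrict_of_epi_counit [QuasiCompact f] [QuasiSeparated f] (F : X.Modules)
    [F.IsQuasicoherent] (h : Epi ((Scheme.Modules.pullbackPushforwardAdjunction f).counit.app F))
    (U : S.Opens) (hU : IsAffineOpen U) :
    Curv2.IsGloballyGenerated (F.restrict (f ⁻¹ᵁ U).ι) := by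
  haveI : IsAffine (↑U : Scheme.{u}) := hU
  haveI := Groth.Agent.Lib.Helper23.QCohLocal.isQuasicoherent_pushforward f F
  -- `(f_* F)|_U` is globally generated
  haveI : (((Scheme.Modules.pushforward f).obj F).restrict U.ι).IsQuasicoherent := by
    have e := (Scheme.Modules.restrictFunctorIsoPullback U.ι).app ((Scheme.Modules.pushforward f).obj F)
    haveI := Groth.Agent.Lib.Helper20.PullbackAff.isQuasicoherent_pullback U.ι
      ((Scheme.Modules.pushforward f).obj F)
    exact (SheafOfModules.isQuasicoherent (↑U : Scheme.{u}).ringCatSheaf).prop_of_iso e.symm inferInstance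
  have h1 := isGloballyGenerated_of_isAffine (((Scheme.Modules.pushforward f).obj F).restrict U.ι)
  have h2 := Groth.Agent.Lib.T2H5.GlobGenQ.isGloballyGenerated_pullback (f ∣_ U) _ h1
  have h3 := Groth.Agent.Lib.Helper23.RestrTensor.isGloballyGenerated_of_iso
    (Groth.Agent.Lib.Helper23.PB.pullbackRestrictIso f ((Scheme.Modules.pushforward f).obj F) U).symm h2
  -- restriction preserves the epimorphism
  haveI : (Scheme.Modules.restrictFunctor (f ⁻¹ᵁ U).ι).PreservesEpimorphisms :=
    Functor.preservesEpimorphisms_of_adjunction (Scheme.Modules.restrictAdjunction (f ⁻¹ᵁ U).ι)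
  haveI := h
  have hepi : Epi ((Scheme.Modules.restrictFunctor (f ⁻¹ᵁ U).ι).map
      ((Scheme.Modules.pullbackPushforwardAdjunction f).counit.app F)) := inferInstance
  exact isGloballyGenerated_of_epi ((Scheme.Modules.restrictFunctor (f ⁻¹ᵁ U).ι).map
      ((Scheme.Modules.pullbackPushforwardAdjunction f).counit.app F)) hepi h3

end Groth.Agent.Lib.T2H5.CounitGG
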