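import Mathlib
import Groth.Agent.Lib.T2H5Twist
import Groth.Agent.Lib.T2H5GlobGenPn
import Groth.Agent.Lib.Helper27TwistAmple2
import Groth.Agent.Lib.Helper23LocGen
import Groth.Agent.Lib.Helper21UnitHom

/-!
# T2H5AmplePn: `O(d)` on projective space is ample exactly when `d > 0` (helper5)
-/

set_option autoImplicit false
universe u
open CategoryTheory CategoryTheory.Limits AlgebraicGeometry TopologicalSpace Opposite

namespace Groth.Agent.Lib.T2H5.AmplePn

open Groth.Agent.Lib.T2H5.Twist Groth.Agent.Lib.Helper27GrTildeSect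
open Groth.Agent.Lib.Helper23.LocGen

section General

variable {X : Scheme.{u}}

theorem isGloballyGenerated_of_iso {M M' : X.Modules} (ε : M ≅ M')
    (h : Curv2.IsGloballyGenerated M) : Curv2.IsGloballyGenerated M' := by
  obtain ⟨ι, p, hp⟩ := h
  exact ⟨ι, p ≫ ε.hom, epi_comp p ε.hom⟩

/-- a globally generated module without global sections is zero -/
theorem isZero_of_isGloballyGenerated (M : X.Modules) (h : Curv2.IsGloballyGenerated M)
    (h0 : Subsingleton (Coh.HH X M 0)) : IsZero M := by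
  obtain ⟨ι, p, hp⟩ := h
  have hsub : Subsingleton ((Coh.toAb M).obj.obj (op (⊤ : Opens X))) :=
    (Groth.Agent.Lib.Helper27PnSections.hh0Equiv X M).symm.injective.subsingleton
  have hp0 : p = 0 := by
    apply Sigma.hom_ext (C := SheafOfModules X.ringCatSheaf)
    intro i
    have h1 : Sigma.ι (fun _ : ι => SheafOfModules.unit X.ringCatSheaf) i ≫ p = 0 := by
      apply (Groth.Agent.Lib.Helper21.UnitHom.unitHomAddEquiv
        (R := X.ringCatSheaf) (T := (⊤ : X.Opens)) isTerminalTop M).injective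
      exact @Subsingleton.elim _ hsub _ _
    exact h1.trans comp_zero.symm
  exact @IsZero.of_epi_eq_zero _ _ _ _ _ p hp hp0

end General

section Pn

variable (n : ℕ) (R : Type u) [CommRing R]

local notation "𝒫" => CohB1.polyGrading n R

theorem isAmple_twist_of_pos (e : ℕ) (he : 0 < e) :
    CohB1.IsAmple (Twist.twistProjSpace n R (e : ℤ)) := by
  rw [Groth.Agent.Lib.T2H5.PnTop.twist_eq]
  haveI : CompactSpace (Proj 𝒫) := Groth.Agent.Lib.T2H5.GlobGenPn.compactSpace n R
  have hpow : ∀ j : Fin (n + 1),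
      (MvPolynomial.X j : MvPolynomial (Fin (n + 1)) R) ^ e ∈ CohB1.polyGrading n R e := by
    intro j
    have := SetLike.pow_mem_graded e (Groth.Agent.Lib.Helper27ProjGamma.hX n R j)
    simpa using this
  have hcov : ∀ y : Proj 𝒫, ∃ i : Fin (n + 1),
      (MvPolynomial.X i : MvPolynomial (Fin (n + 1)) R) ^ e ∉
        (show ProjectiveSpectrum 𝒫 from y).asHomogeneousIdeal := by
    intro y
    obtain ⟨i, hi⟩ := Groth.Agent.Lib.T2H5.GlobGenPn.hcovX n R y
    exact ⟨i, fun h => hi ((show ProjectiveSpectrum 𝒫 from y).isPrime.mem_of_pow_mem e h)⟩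
  exact isAmple_of_cover 𝒫 e
    (fun j : Fin (n + 1) => (MvPolynomial.X j : MvPolynomial (Fin (n + 1)) R) ^ e) hpow hcov he

/-- `O(d)^{⊗ N} ≅ O(N d)` -/
theorem nonempty_tensorPow_twist_iso (d : ℤ) : ∀ N : ℕ,
    Nonempty (CohB1.tensorPow (Twist.twistProjSpace n R d) N ≅ Twist.twistProjSpace n R (N * d))
  | 0 => by
    rw [Nat.cast_zero, zero_mul]
    exact ⟨(nonempty_twist_zero_iso n R).some.symm⟩
  | N + 1 => by
    obtain ⟨ε⟩ := nonempty_tensorPow_twist_iso d N
    obtain ⟨ε'⟩ := nonempty_twist_tensor_iso n R (N * d) d (((N + 1 : ℕ) : ℤ) * d)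
      (by push_cast; ring)
    exact ⟨(tw n R d).mapIso ε ≪≫ ε'⟩

theorem not_isZero_twist [Nontrivial R] (e : ℤ) : ¬ IsZero (Twist.twistProjSpace n R e) := by
  intro hz
  obtain ⟨ε⟩ := nonempty_twist_tensor_iso n R e (-e) 0 (by omega)
  have hz2 : IsZero (Twist.twistProjSpace n R 0) :=
    ((tw n R (-e)).map_isZero hz).of_iso ε.symm
  have hsub : Subsingleton (Coh.HH (CohB1.ProjSpace n R) (Twist.twistProjSpace n R ((0 : ℕ) : ℤ)) 0) :=
    Groth.Agent.Lib.T2H5.KosPn.subsingleton_HH_of_isZero hz2 0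
  obtain ⟨l⟩ := Groth.Agent.Lib.Helper27PnSections.nonempty_linearEquiv n R 0
  have hsub2 : Subsingleton ↥(MvPolynomial.homogeneousSubmodule (Fin (n + 1)) R 0) :=
    l.symm.injective.subsingleton
  have h1 : (⟨1, MvPolynomial.isHomogeneous_one _ _⟩ :
      ↥(MvPolynomial.homogeneousSubmodule (Fin (n + 1)) R 0)) = 0 := Subsingleton.elim _ _
  have h2 : (1 : MvPolynomial (Fin (n + 1)) R) = 0 := congrArg Subtype.val h1
  exact one_ne_zero h2

theorem not_isAmple_twist_of_nonpos [Nontrivial R] (hn : 1 ≤ n) (d : ℤ) (hd : d ≤ 0) :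
    ¬ CohB1.IsAmple (Twist.twistProjSpace n R d) := by
  intro hL
  haveI : (Twist.twistProjSpace n R (-1)).IsQuasicoherent :=
    (Groth.Agent.Lib.T2H5.PnFinite.isCoh_twist n R (-1)).1
  haveI : SheafOfModules.IsFiniteType (R := (CohB1.ProjSpace n R).ringCatSheaf)
      (Twist.twistProjSpace n R (-1)) := (Groth.Agent.Lib.T2H5.PnFinite.isCoh_twist n R (-1)).2
  obtain ⟨N₀, hN₀⟩ := isGloballyGenerated_twist_eventually _ hL (Twist.twistProjSpace n R (-1))
  have hgg := hN₀ N₀ le_rfl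
  obtain ⟨ε⟩ := nonempty_tensorPow_twist_iso n R d N₀
  obtain ⟨ε'⟩ := nonempty_twist_tensor_iso n R (-1) (N₀ * d) (-1 + N₀ * d) rfl
  have hgg' : Curv2.IsGloballyGenerated (Twist.twistProjSpace n R (-1 + N₀ * d)) :=
    isGloballyGenerated_of_iso
      ((Groth.Agent.Lib.Helper21.ModTensor3.tL (CohB1.ProjSpace n R).sheaf
        (Twist.twistProjSpace n R (-1))).mapIso ε ≪≫ ε') hgg
  have hneg : -1 + (N₀ : ℤ) * d < 0 := by
    have : (N₀ : ℤ) * d ≤ 0 := mul_nonpos_of_nonneg_of_nonpos (Int.natCast_nonneg _) hd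
    omega
  have h0 : Subsingleton (Coh.HH (CohB1.ProjSpace n R)
      (Twist.twistProjSpace n R (-1 + N₀ * d)) 0) :=
    Groth.Agent.Lib.T2H5.PnVanish.subsingleton_HH_twist n R _ 0 (by omega) (by omega)
  exact not_isZero_twist n R _ (isZero_of_isGloballyGenerated _ hgg' h0)

end Pn

end Groth.Agent.Lib.T2H5.AmplePn
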