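import Mathlib
import Groth.Agent.Lib.T2H5RelReg
import Groth.Agent.Lib.T2H5AmplePn
import Groth.Agent.Lib.Helper23LocGen
import Groth.Agent.Lib.Helper23PB
import Groth.Agent.Lib.Helper23AmpleIso
import Groth.Agent.Lib.Helper23TensorUnit
set_option backward.isDefEq.respectTransparency.types false

/-!
# T2H5TwistOver: the twisting modules `O(d)` on `P^n_Y` and the twists `F(d) = O(d) ⊗ F` (helper5)

Namespace `Groth.Agent.Lib.T2H5.TwistOver`.
-/

set_option autoImplicit false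
set_option linter.style.haveILetI false
set_option linter.unusedSectionVars false
universe u
open CategoryTheory CategoryTheory.Limits AlgebraicGeometry TopologicalSpace Opposite

namespace Groth.Agent.Lib.T2H5.TwistOver

section Eventually

variable (n : ℕ) (Y : Scheme.{u})

open Groth.Agent.Lib.T2H5.Twist Groth.Agent.Lib.T2H6.HProjChart Groth.Agent.Lib.Helper21.ModTensor5

/-- the first projection `P^n_Y ⟶ P^n_ℤ` -/
noncomputable abbrev fstZ : CohB1.ProjSpaceOver n Y ⟶ CohB1.ProjSpace n Z₀.{u} :=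
  pullback.fst (CohB1.ProjSpace.toSpec n Z₀.{u}) (tS Y)

theorem twistOver_eq (d : ℤ) :
    Twist.twistOver n Y d = (Scheme.Modules.pullback (fstZ n Y)).obj (Twist.twistProjSpace n Z₀.{u} d) := rfl

theorem isInvertible_twistOver (d : ℤ) : PicF.IsInvertible (Twist.twistOver n Y d) :=
  Groth.Agent.Lib.Helper23.PB.isInvertible_pullback _ _ (isInvertible_twist n Z₀.{u} d)

/-- `O(a) ⊗ O(b) ≅ O(a+b)` on `P^n_Y` -/
theorem nonempty_twistOver_tensor_iso (a b c : ℤ) (h : a + b = c) :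
    Nonempty (CohB1.tensorMod (Twist.twistOver n Y a) (Twist.twistOver n Y b) ≅ Twist.twistOver n Y c) := by
  obtain ⟨e1⟩ := Groth.Agent.Lib.Helper23.PB.nonempty_pullback_tensorMod_iso (fstZ n Y)
    (Twist.twistProjSpace n Z₀.{u} a) (Twist.twistProjSpace n Z₀.{u} b)
    (isInvertible_twist n Z₀.{u} a) (isInvertible_twist n Z₀.{u} b)
  obtain ⟨e2⟩ := nonempty_twist_tensor_iso n Z₀.{u} a b c h
  exact ⟨e1.symm ≪≫ (Scheme.Modules.pullback (fstZ n Y)).mapIso e2⟩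

/-- `O(1)^{⊗ m} ≅ O(m)` on `P^n_Y` -/
theorem nonempty_tensorPow_twistOver_iso (m : ℕ) :
    Nonempty (CohB1.tensorPow (Twist.twistOver n Y 1) m ≅ Twist.twistOver n Y (m : ℤ)) := by
  obtain ⟨e1⟩ := Groth.Agent.Lib.Helper23.PB.nonempty_pullback_tensorPow_iso (fstZ n Y)
    (Twist.twistProjSpace n Z₀.{u} 1) (isInvertible_twist n Z₀.{u} 1) m
  obtain ⟨e2⟩ := Groth.Agent.Lib.T2H5.AmplePn.nonempty_tensorPow_twist_iso n Z₀.{u} 1 m
  rw [mul_one] at e2
  exact ⟨e1.symm ≪≫ (Scheme.Modules.pullback (fstZ n Y)).mapIso e2⟩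

/-- `F(b)(a) ≅ F(a+b)` -/
theorem nonempty_twF_twF_iso (F : (KRR.PY n Y).Modules) (a b c : ℤ) (h : a + b = c) :
    Nonempty (KRR.twF n Y a (KRR.twF n Y b F) ≅ KRR.twF n Y c F) := by
  obtain ⟨e⟩ := nonempty_twistOver_tensor_iso n Y a b c h
  let i1 : CohB1.tensorMod (Twist.twistOver n Y a) (CohB1.tensorMod (Twist.twistOver n Y b) F) ≅
      CohB1.tensorMod (CohB1.tensorMod (Twist.twistOver n Y a) (Twist.twistOver n Y b)) F :=
    (Groth.Agent.Lib.Helper23.LocGen.tensorAssoc _ _ _).symm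
  let i2 : CohB1.tensorMod (CohB1.tensorMod (Twist.twistOver n Y a) (Twist.twistOver n Y b)) F ≅
      CohB1.tensorMod (Twist.twistOver n Y c) F :=
    Groth.Agent.Lib.Helper23.AmpleIso.tensorModIso e (Iso.refl F)
  exact ⟨i1 ≪≫ i2⟩

/-- `F ⊗ O(1)^{⊗ m} ≅ F(m)` -/
theorem nonempty_tensorPow_twF_iso (F : (KRR.PY n Y).Modules) (m : ℕ) :
    Nonempty (CohB1.tensorMod F (CohB1.tensorPow (Twist.twistOver n Y 1) m) ≅ KRR.twF n Y (m : ℤ) F) := by
  obtain ⟨e⟩ := nonempty_tensorPow_twistOver_iso n Y m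
  let i1 : CohB1.tensorMod F (CohB1.tensorPow (Twist.twistOver n Y 1) m) ≅
      CohB1.tensorMod F (Twist.twistOver n Y (m : ℤ)) :=
    Groth.Agent.Lib.Helper23.AmpleIso.tensorModIso (Iso.refl F) e
  let i2 : CohB1.tensorMod F (Twist.twistOver n Y (m : ℤ)) ≅ CohB1.tensorMod (Twist.twistOver n Y (m : ℤ)) F :=
    brdApp (CohB1.ProjSpaceOver n Y).sheaf _ _
  exact ⟨i1 ≪≫ i2⟩

theorem isZero_RpushAb_of_iso {F G : (KRR.PY n Y).Modules} (e : F ≅ G) (i : ℕ)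
    (h : IsZero ((Coh.RpushAb (KRR.pr n Y) i).obj (Coh.toAb F))) :
    IsZero ((Coh.RpushAb (KRR.pr n Y) i).obj (Coh.toAb G)) :=
  IsZero.of_iso h ((Coh.RpushAb (KRR.pr n Y) i).mapIso ((SheafOfModules.toSheaf _).mapIso e.symm))

/-- `O(0) ≅ O` on `P^n_Y` -/
theorem nonempty_twistOver_zero_iso :
    Nonempty (Twist.twistOver n Y 0 ≅ Coh.structureModule (CohB1.ProjSpaceOver n Y)) := by
  obtain ⟨e⟩ := nonempty_twist_zero_iso n Z₀.{u}
  exact ⟨(Scheme.Modules.pullback (fstZ n Y)).mapIso e ≪≫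
    Groth.Agent.Lib.Helper23.PB.pullbackUnitIso (fstZ n Y)⟩

/-- `F(0) ≅ F` -/
theorem nonempty_twF_zero_iso (F : (KRR.PY n Y).Modules) :
    Nonempty (KRR.twF n Y 0 F ≅ F) := by
  obtain ⟨e⟩ := nonempty_twistOver_zero_iso n Y
  let i1 : CohB1.tensorMod (Twist.twistOver n Y 0) F ≅
      CohB1.tensorMod (Coh.structureModule (CohB1.ProjSpaceOver n Y)) F :=
    Groth.Agent.Lib.Helper23.AmpleIso.tensorModIso e (Iso.refl F)
  exact ⟨i1 ≪≫ Groth.Agent.Lib.Helper23.TensorUnit.unitTensorIso F⟩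

/-- `F(b)(a) ≅ F` for `a + b = 0` -/
theorem nonempty_twF_twF_cancel_iso (F : (KRR.PY n Y).Modules) (a b : ℤ) (h : a + b = 0) :
    Nonempty (KRR.twF n Y a (KRR.twF n Y b F) ≅ F) := by
  obtain ⟨e1⟩ := nonempty_twF_twF_iso n Y F a b 0 h
  obtain ⟨e2⟩ := nonempty_twF_zero_iso n Y F
  exact ⟨e1 ≪≫ e2⟩

end Eventually

end Groth.Agent.Lib.T2H5.TwistOver
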