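import Mathlib
import Groth.Agent.Lib.T2H5TwistOver
import Groth.Agent.Lib.Helper17LDer5
import Groth.Agent.Lib.Helper23QCohExt
import Groth.Agent.Lib.T2H5Twist
import Groth.Agent.Lib.Helper16ClosedEmb
set_option backward.isDefEq.respectTransparency.types false

/-!
# T2H5RegSES: Castelnuovo–Mumford regular modules on `P^n_T` in short exact sequences (helper5)

Namespace `Groth.Agent.Lib.T2H5.RegSES`.

* `isZero_rd_one_X₁`: for a left exact `F` and a short exact `S` with `F S.g` epi, `R¹F S.X₂ = 0` gives `R¹F S.X₁ = 0`.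
* `tl N = N ⊗ -`, `tlIsoTr`, `shortExact_map_tl`.
* `shortExact_twisted`: the twists `0 ⟶ F'(d) ⟶ F(d) ⟶ F''(d) ⟶ 0` as abelian sheaves.
* `isRegSheaf_X₂`, `isRegSheaf_X₃`, `isRegSheaf_twF_X₁`.
-/

set_option autoImplicit false
set_option linter.style.haveILetI false
set_option linter.unusedSectionVars false
universe u v u' v'
open CategoryTheory CategoryTheory.Limits AlgebraicGeometry TopologicalSpace Opposite

namespace Groth.Agent.Lib.T2H5.RegSES

section General

open Groth.Agent.Lib.Helper17.RDerLib Groth.Agent.Lib.Helper17.DS RDer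

variable {C : Type u} [Category.{v} C] [Abelian C] [HasInjectiveResolutions C] [EnoughInjectives C]
  {D : Type u'} [Category.{v'} D] [Abelian D] (F : C ⥤ D) [F.Additive] [PreservesFiniteLimits F]

/-- if `F S.X₂ ⟶ F S.X₃` is an epimorphism and `R¹F S.X₂ = 0` then `R¹F S.X₁ = 0` -/
lemma isZero_rd_one_X₁ (S : ShortComplex C) (hS : S.ShortExact) (hepi : Epi (F.map S.g))
    (h₂ : IsZero ((F.rightDerived 1).obj S.X₂)) : IsZero ((F.rightDerived 1).obj S.X₁) := by
  obtain ⟨T⟩ := nonempty_sesRes S hS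
  have hnat := F.rightDerivedZeroIsoSelf.hom.naturality S.g
  haveI : Epi ((F.rightDerived 0).map S.g) := by
    have h : (F.rightDerived 0).map S.g =
        (F.rightDerivedZeroIsoSelf.hom.app S.X₂ ≫ F.map S.g) ≫ F.rightDerivedZeroIsoSelf.inv.app S.X₃ := by
      rw [← hnat, Category.assoc, Iso.hom_inv_id_app, Category.comp_id]
    rw [h]
    infer_instance
  have hδ : T.delta F 0 1 rfl = 0 := by
    rw [← cancel_epi ((F.rightDerived 0).map S.g), comp_δ F T 0 1 rfl, comp_zero]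
  have hex := exact₁ F T 0 1 rfl
  haveI : Mono ((F.rightDerived 1).map S.f) := hex.mono_g hδ
  exact IsZero.of_mono ((F.rightDerived 1).map S.f) h₂

end General

section Tl

open Groth.Agent.Lib.T2H5.Twist Groth.Agent.Lib.Helper21.ModTensor5 Groth.Agent.Lib.Helper21.ModTensor3

variable {X : Scheme.{u}}

/-- tensoring on the left with `N` -/
noncomputable abbrev tl (N : X.Modules) : X.Modules ⥤ X.Modules := tL X.sheaf N

theorem tl_obj (N M : X.Modules) : (tl N).obj M = CohB1.tensorMod N M := rfl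

/-- `N ⊗ - ≅ - ⊗ N` -/
noncomputable def tlIsoTr (N : X.Modules) : tl N ≅ tr N := (brd X.sheaf).app N

instance additive_tl (L : X.Modules) : (tl L).Additive := tL_additive X.sheaf L

/-- twisting (on the left) by an invertible module preserves short exact sequences -/
theorem shortExact_map_tl {L : X.Modules} (h : PicF.IsInvertible L)
    (S : ShortComplex X.Modules) (hS : S.ShortExact) : (S.map (tl L)).ShortExact :=
  ShortComplex.shortExact_of_iso (ShortComplex.mapNatIso S (tlIsoTr L)).symm (shortExact_map_tr h S hS)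

end Tl

section Pn

open Groth.Agent.Lib.T2H5.Twist Groth.Agent.Lib.T2H5.TwistOver Groth.Agent.Lib.Helper23.QCohLocal
  Groth.Agent.Lib.Helper17.DS

variable (n : ℕ) (T : Scheme.{u})

/-- the twisted sequence `0 ⟶ F'(d) ⟶ F(d) ⟶ F''(d) ⟶ 0` -/
noncomputable abbrev twS (S : ShortComplex (KRR.PY n T).Modules) (d : ℤ) : ShortComplex (KRR.PY n T).Modules :=
  S.map (tl (Twist.twistOver n T d))

theorem shortExact_twS (S : ShortComplex (KRR.PY n T).Modules) (hS : S.ShortExact) (d : ℤ) :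
    (twS n T S d).ShortExact :=
  shortExact_map_tl (isInvertible_twistOver n T d) S hS

/-- the twisted sequence of underlying abelian sheaves -/
noncomputable abbrev twSAb (S : ShortComplex (KRR.PY n T).Modules) (d : ℤ) :
    ShortComplex (Sheaf (Opens.grothendieckTopology (KRR.PY n T)) AddCommGrpCat.{u}) :=
  (twS n T S d).map (toAbF (KRR.PY n T))

theorem shortExact_twSAb (S : ShortComplex (KRR.PY n T).Modules) (hS : S.ShortExact) (d : ℤ) :
    (twSAb n T S d).ShortExact :=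
  shortExact_toAbF _ (shortExact_twS n T S hS d)

theorem twSAb_X₁ (S : ShortComplex (KRR.PY n T).Modules) (d : ℤ) :
    (twSAb n T S d).X₁ = Coh.toAb (KRR.twF n T d S.X₁) := rfl

theorem twSAb_X₂ (S : ShortComplex (KRR.PY n T).Modules) (d : ℤ) :
    (twSAb n T S d).X₂ = Coh.toAb (KRR.twF n T d S.X₂) := rfl

theorem twSAb_X₃ (S : ShortComplex (KRR.PY n T).Modules) (d : ℤ) :
    (twSAb n T S d).X₃ = Coh.toAb (KRR.twF n T d S.X₃) := rfl

/-- **S19431**: an extension of regular modules is regular -/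
theorem isRegSheaf_X₂ (S : ShortComplex (KRR.PY n T).Modules) (hS : S.ShortExact)
    (hreg₁ : KRR.IsRegSheaf n T S.X₁) (hreg₃ : KRR.IsRegSheaf n T S.X₃) :
    KRR.IsRegSheaf n T S.X₂ := by
  intro i hi
  exact isZero_rd_X₂ (Coh.pushAb (KRR.pr n T)) (twSAb n T S (-(i : ℤ)))
    (shortExact_twSAb n T S hS _) i (hreg₁ i hi) (hreg₃ i hi)

/-- **S19432**: if `F` and `F'(1)` are regular then `F''` is regular -/
theorem isRegSheaf_X₃ (S : ShortComplex (KRR.PY n T).Modules) (hS : S.ShortExact)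
    (hreg₂ : KRR.IsRegSheaf n T S.X₂) (hreg₁ : KRR.IsRegSheaf n T (KRR.twF n T 1 S.X₁)) :
    KRR.IsRegSheaf n T S.X₃ := by
  intro i hi
  refine isZero_rd_X₃ (Coh.pushAb (KRR.pr n T)) (twSAb n T S (-(i : ℤ)))
    (shortExact_twSAb n T S hS _) i (hreg₂ i hi) ?_
  obtain ⟨e⟩ := nonempty_twF_twF_iso n T S.X₁ (-((i + 1 : ℕ) : ℤ)) 1 (-(i : ℤ)) (by omega)
  exact isZero_RpushAb_of_iso n T e (i + 1) (hreg₁ (i + 1) (Nat.succ_pos _))

/-- **S19433**: if `F(1)` and `F''` are regular and `p_* F ⟶ p_* F''` is an epimorphism then `F'(1)` is regular -/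
theorem isRegSheaf_twF_X₁ (S : ShortComplex (KRR.PY n T).Modules) (hS : S.ShortExact)
    (hreg₂ : KRR.IsRegSheaf n T (KRR.twF n T 1 S.X₂)) (hreg₃ : KRR.IsRegSheaf n T S.X₃)
    (hepi : Epi ((Scheme.Modules.pushforward (KRR.pr n T)).map S.g)) :
    KRR.IsRegSheaf n T (KRR.twF n T 1 S.X₁) := by
  intro i hi
  obtain ⟨j, rfl⟩ := Nat.exists_eq_succ_of_ne_zero (by omega : i ≠ 0)
  rcases Nat.eq_zero_or_pos j with rfl | hj
  · -- `i = 1`
    haveI : PreservesFiniteLimits (Coh.pushAb (KRR.pr n T)) :=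
      Groth.Agent.Lib.Helper16.ClosedEmb.push_preservesFiniteLimits (KRR.pr n T).base
    have hS' : (S.map (toAbF (KRR.PY n T))).ShortExact := shortExact_toAbF S hS
    have h0 : (SheafOfModules.toSheaf.{u} T.ringCatSheaf).PreservesEpimorphisms :=
      preservesEpimorphisms_of_preservesColimitsOfShape _
    have h1 : Epi ((SheafOfModules.toSheaf T.ringCatSheaf).map
        ((Scheme.Modules.pushforward (KRR.pr n T)).map S.g)) :=
      @Functor.map_epi _ _ _ _ (SheafOfModules.toSheaf.{u} T.ringCatSheaf) h0 _ _ _ hepi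
    have h2 : Epi ((Coh.pushAb (KRR.pr n T)).map (S.map (toAbF (KRR.PY n T))).g) := h1
    obtain ⟨e2⟩ := nonempty_twF_twF_cancel_iso n T S.X₂ (-((0 + 1 : ℕ) : ℤ)) 1 (by omega)
    have hz2 : IsZero ((Coh.RpushAb (KRR.pr n T) 1).obj (Coh.toAb S.X₂)) :=
      isZero_RpushAb_of_iso n T e2 1 (hreg₂ 1 le_rfl)
    have hz1 : IsZero ((Coh.RpushAb (KRR.pr n T) 1).obj (Coh.toAb S.X₁)) :=
      isZero_rd_one_X₁ (Coh.pushAb (KRR.pr n T)) (S.map (toAbF (KRR.PY n T))) hS' h2 hz2
    obtain ⟨e1⟩ := nonempty_twF_twF_cancel_iso n T S.X₁ (-((0 + 1 : ℕ) : ℤ)) 1 (by omega)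
    exact isZero_RpushAb_of_iso n T e1.symm 1 hz1
  · -- `i ≥ 2`
    have h3 : IsZero ((Coh.RpushAb (KRR.pr n T) j).obj (Coh.toAb (KRR.twF n T (-(j : ℤ)) S.X₃))) :=
      hreg₃ j hj
    obtain ⟨e2⟩ := nonempty_twF_twF_iso n T S.X₂ (-((j + 1 : ℕ) : ℤ)) 1 (-(j : ℤ)) (by omega)
    have h2 : IsZero ((Coh.RpushAb (KRR.pr n T) (j + 1)).obj (Coh.toAb (KRR.twF n T (-(j : ℤ)) S.X₂))) :=
      isZero_RpushAb_of_iso n T e2 (j + 1) (hreg₂ (j + 1) (Nat.succ_pos _))
    have h1 : IsZero ((Coh.RpushAb (KRR.pr n T) (j + 1)).obj (Coh.toAb (KRR.twF n T (-(j : ℤ)) S.X₁))) :=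
      isZero_rd_X₁ (Coh.pushAb (KRR.pr n T)) (twSAb n T S (-(j : ℤ)))
        (shortExact_twSAb n T S hS _) j h3 h2
    obtain ⟨e1⟩ := nonempty_twF_twF_iso n T S.X₁ (-((j + 1 : ℕ) : ℤ)) 1 (-(j : ℤ)) (by omega)
    exact isZero_RpushAb_of_iso n T e1.symm (j + 1) h1

end Pn

end Groth.Agent.Lib.T2H5.RegSES
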