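import Mathlib
import Groth.Agent.Lib.Helper23TensorMap
import Groth.Agent.Lib.T2H5GlobGenQ
import Groth.Agent.Lib.T2H5RegSES
import Groth.Agent.Lib.T2H5ProjFLF5
import Groth.Agent.Lib.Helper1FLF1
set_option backward.isDefEq.respectTransparency.types false

/-!
# T2H5MulTrick: multiplication by a cosection `e : E ⟶ O_X` and the "tensor trick" (helper5)

Namespace `Groth.Agent.Lib.T2H5.MulTrick`.

For a module `E` with a cosection `e : E ⟶ O_X`:
* `hom_ext_tm`: morphisms out of `M ⊗ N` are determined by their values on the sections `m ⊗ n`.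
* `mNat e : (E ⊗ -) ⟶ 𝟭`, the natural multiplication `d ⊗ w ↦ e(d) • w`.
* `PhiN E N = (E ⊗ -)^N`, `mN e N : PhiN E N ⟶ 𝟭`.
* `exists_lift_of_mN_eq_zero`: if `0 ⟶ K ⟶ P ⟶ T ⟶ 0` is short exact and `mN e N` vanishes on `K`, then the
  multiplication `PhiN E N T ⟶ T` lifts to `P`.
-/

set_option autoImplicit false
set_option linter.style.haveILetI false
set_option linter.unusedSectionVars false
universe u
open CategoryTheory CategoryTheory.Limits AlgebraicGeometry TopologicalSpace Opposite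

namespace Groth.Agent.Lib.T2H5.MulTrick

open Groth.Agent.Lib.Helper23.SecTw Groth.Agent.Lib.Helper23.GenLocus Groth.Agent.Lib.Helper6
open Groth.Agent.Lib.Helper23.LocGen Groth.Agent.Lib.Helper23.TensorMap
open Groth.Agent.Lib.T2H5.RegSES Groth.Agent.Lib.Helper23.QCohLocal Groth.Agent.Lib.Helper23.Extend

variable {X : Scheme.{u}}

/-- morphisms out of a tensor product are determined by their values on pure tensors -/
theorem hom_ext_tm {M N F : X.Modules} (φ ψ : CohB1.tensorMod M N ⟶ F)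
    (h : ∀ (W : X.Opens) (m : Γ(M, W)) (n : Γ(N, W)),
      φ.app W (tm M N W m n) = ψ.app W (tm M N W m n)) : φ = ψ := by
  apply Scheme.Modules.hom_ext
  intro U
  ext z
  -- locally `z` is a sum of pure tensors
  have key : ∀ (V : X.Opens) (p : PreSec M N V), φ.app V (toT M N V p) = ψ.app V (toT M N V p) := by
    intro V p
    have hzero : φ.app V (toT M N V (0 : PreSec M N V)) = ψ.app V (toT M N V (0 : PreSec M N V)) := by
      rw [toT_zero, map_zero, map_zero]
    have hadd : ∀ a b : PreSec M N V, φ.app V (toT M N V a) = ψ.app V (toT M N V a) →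
        φ.app V (toT M N V b) = ψ.app V (toT M N V b) →
        φ.app V (toT M N V (a + b)) = ψ.app V (toT M N V (a + b)) := by
      intro a b ha hb
      rw [toT_add, map_add, map_add, ha, hb]
    exact pt_induction (CohB1.toPMod M) (CohB1.toPMod N) (op V)
      (motive := fun p => φ.app V (toT M N V p) = ψ.app V (toT M N V p)) hzero (fun m n => h V m n) hadd p
  have hloc := locSurj M N U z
  choose V' hV' p hxV' hp using hloc
  refine (modSheaf F).eq_of_locally_eq' (fun x : U => V' x.1 x.2) U (fun x => homOfLE (hV' x.1 x.2)) ?_ _ _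
    (fun x => ?_)
  · intro y hy
    exact Opens.mem_iSup.2 ⟨⟨y, hy⟩, hxV' y hy⟩
  · change res F (hV' x.1 x.2) (φ.app U z) = res F (hV' x.1 x.2) (ψ.app U z)
    have e1 : res F (hV' x.1 x.2) (φ.app U z) = φ.app _ (res _ (hV' x.1 x.2) z) :=
      (app_map φ (homOfLE (hV' x.1 x.2)) z).symm
    have e2 : res F (hV' x.1 x.2) (ψ.app U z) = ψ.app _ (res _ (hV' x.1 x.2) z) :=
      (app_map ψ (homOfLE (hV' x.1 x.2)) z).symm
    rw [e1, e2, ← hp x.1 x.2]
    exact key _ _

section Mul

variable (E : X.Modules) (e : E ⟶ Coh.structureModule X)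

/-- the natural multiplication `E ⊗ B ⟶ B`, `d ⊗ w ↦ e(d) • w` -/
noncomputable def mNat : tl E ⟶ 𝟭 X.Modules where
  app B := mulHom e B
  naturality B B' φ := by
    apply hom_ext_tm
    intro W d w
    change (mulHom e B').app W (((tl E).map φ).app W (tm E B W d w)) = φ.app W ((mulHom e B).app W (tm E B W d w))
    have h1 : ((tl E).map φ).app W (tm E B W d w) = tm E B' W d (φ.app W w) :=
      Groth.Agent.Lib.T2H5.GlobGenQ.tensorBi_map_tm E φ W d w
    rw [h1, mulHom_tm, mulHom_tm, Scheme.Modules.Hom.app_smul]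

theorem mNat_app (B : X.Modules) : (mNat E e).app B = mulHom e B := rfl

theorem mNat_app_tm (B : X.Modules) (W : X.Opens) (d : Γ(E, W)) (w : Γ(B, W)) :
    ((mNat E e).app B).app W (tm E B W d w) = (ofS W (e.app W d)) • w :=
  mulHom_tm e B W d w

/-- `(E ⊗ -)^N` -/
noncomputable def PhiN : ℕ → (X.Modules ⥤ X.Modules)
  | 0 => 𝟭 X.Modules
  | N + 1 => PhiN N ⋙ tl E

/-- the iterated multiplication `(E ⊗ -)^N ⟶ 𝟭` -/
noncomputable def mN : ∀ N : ℕ, PhiN E N ⟶ 𝟭 X.Modules
  | 0 => 𝟙 _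
  | N + 1 => Functor.whiskerLeft (PhiN E N) (mNat E e) ≫ (Functor.rightUnitor _).hom ≫ mN N

theorem PhiN_succ_obj (N : ℕ) (B : X.Modules) :
    (PhiN E (N + 1)).obj B = CohB1.tensorMod E ((PhiN E N).obj B) := rfl

theorem mN_zero_app (B : X.Modules) : (mN E e 0).app B = 𝟙 B := rfl

theorem mN_succ_app (N : ℕ) (B : X.Modules) :
    (mN E e (N + 1)).app B = (mNat E e).app ((PhiN E N).obj B) ≫ (mN E e N).app B := by
  change (mNat E e).app ((PhiN E N).obj B) ≫ 𝟙 _ ≫ (mN E e N).app B = _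
  rw [Category.id_comp]

theorem mN_succ_app_tm (N : ℕ) (B : X.Modules) (W : X.Opens) (d : Γ(E, W)) (w : Γ((PhiN E N).obj B, W)) :
    ((mN E e (N + 1)).app B).app W (tm E ((PhiN E N).obj B) W d w) =
      (ofS W (e.app W d)) • ((mN E e N).app B).app W w := by
  rw [mN_succ_app]
  change ((mN E e N).app B).app W (((mNat E e).app ((PhiN E N).obj B)).app W (tm E ((PhiN E N).obj B) W d w)) = _
  rw [mNat_app_tm, Scheme.Modules.Hom.app_smul]

end Mul

section Exactness

variable (E : X.Modules) (e : E ⟶ Coh.structureModule X)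

theorem preservesFiniteColimits_PhiN (N : ℕ) : PreservesFiniteColimits (PhiN E N) := by
  induction N with
  | zero => exact inferInstanceAs (PreservesFiniteColimits (𝟭 X.Modules))
  | succ N ih =>
    haveI := ih
    haveI : PreservesFiniteColimits (tl E) :=
      Groth.Agent.Lib.Helper21.ModTensor5.tL_preservesFiniteColimits X.sheaf E
    exact inferInstanceAs (PreservesFiniteColimits (PhiN E N ⋙ tl E))

theorem preservesFiniteLimits_PhiN (hE : FlatMod.IsFinLocFree E) (N : ℕ) :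
    PreservesFiniteLimits (PhiN E N) := by
  induction N with
  | zero => exact inferInstanceAs (PreservesFiniteLimits (𝟭 X.Modules))
  | succ N ih =>
    haveI := ih
    haveI : PreservesFiniteLimits (tl E) :=
      Groth.Agent.Lib.T2H5.ProjFLF.preservesFiniteLimits_tensorBi_obj E hE
    exact inferInstanceAs (PreservesFiniteLimits (PhiN E N ⋙ tl E))

theorem additive_PhiN (N : ℕ) : (PhiN E N).Additive := by
  haveI := preservesFiniteColimits_PhiN E N
  exact Groth.Agent.Lib.Helper21.ModTensor4.additive_of_preservesFiniteColimits _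

theorem isFinLocFree_PhiN (hE : FlatMod.IsFinLocFree E) (N : ℕ) (T : X.Modules)
    (hT : FlatMod.IsFinLocFree T) : FlatMod.IsFinLocFree ((PhiN E N).obj T) := by
  induction N with
  | zero => exact hT
  | succ N ih => exact Groth.Agent.Lib.Helper1.FLF.isFinLocFree_tensor E _ hE ih

/-- **the tensor trick**: if the iterated multiplication vanishes on the kernel of `P ⟶ T`, the multiplication
`(E ⊗ -)^N T ⟶ T` lifts to `P`. -/
theorem exists_lift_of_mN_eq_zero (hE : FlatMod.IsFinLocFree E) (S : ShortComplex X.Modules)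
    (hS : S.ShortExact) (N : ℕ) (h0 : (mN E e N).app S.X₁ = 0) :
    ∃ lam : (PhiN E N).obj S.X₃ ⟶ S.X₂,
      (PhiN E N).map S.g ≫ lam = (mN E e N).app S.X₂ ∧ lam ≫ S.g = (mN E e N).app S.X₃ := by
  haveI := preservesFiniteColimits_PhiN E N
  haveI := preservesFiniteLimits_PhiN E hE N
  haveI := additive_PhiN E N
  have hS' : (S.map (PhiN E N)).ShortExact := hS.map_of_exact (PhiN E N)
  haveI : Epi (S.map (PhiN E N)).g := hS'.epi_g
  let k : (S.map (PhiN E N)).X₂ ⟶ S.X₂ := (mN E e N).app S.X₂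
  have hk : (S.map (PhiN E N)).f ≫ k = 0 := by
    change (PhiN E N).map S.f ≫ (mN E e N).app S.X₂ = 0
    have := (mN E e N).naturality S.f
    rw [this, h0, zero_comp]
  have h1 : (S.map (PhiN E N)).g ≫ hS'.exact.desc k hk = k := hS'.exact.g_desc k hk
  refine ⟨hS'.exact.desc k hk, h1, ?_⟩
  have h2 : (S.map (PhiN E N)).g ≫ (hS'.exact.desc k hk ≫ S.g) =
      (S.map (PhiN E N)).g ≫ (mN E e N).app S.X₃ := by
    rw [← Category.assoc, h1]
    exact (mN E e N).naturality S.g |>.symm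
  exact (cancel_epi ((S.map (PhiN E N)).g)).1 h2

end Exactness

section LemmaV

variable (E : X.Modules) (e : E ⟶ Coh.structureModule X)

/-- the sections `a j` over `W` generate `A` locally on `W` -/
def LocSpan (A : X.Modules) (W : X.Opens) {l : ℕ} (a : Fin l → Γ(A, W)) : Prop :=
  ∀ (V : X.Opens) (hV : V ≤ W) (m : Γ(A, V)) (y : X), y ∈ V →
    ∃ (V' : X.Opens) (hV' : V' ≤ V), y ∈ V' ∧
      res A hV' m ∈ Submodule.span Γ(X, V') (Set.range fun j => res A (hV'.trans hV) (a j))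

variable {E e}
variable {A : X.Modules} {W : X.Opens} {l : ℕ} (a : Fin l → Γ(A, W)) (I : Ideal Γ(X, W))

/-- sections of `A` over `V ≤ W` of the form `∑ c • (g • a j)` with `g ∈ I` -/
noncomputable def Sk (V : X.Opens) (hV : V ≤ W) : Submodule Γ(X, V) Γ(A, V) :=
  Submodule.span Γ(X, V) {x | ∃ g ∈ I, ∃ j, x = resf hV g • res A hV (a j)}

theorem res_mem_Sk {V V' : X.Opens} (hV : V ≤ W) (hV' : V' ≤ V) {x : Γ(A, V)} (hx : x ∈ Sk a I V hV) :
    res A hV' x ∈ Sk a I V' (hV'.trans hV) := by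
  induction hx using Submodule.span_induction with
  | mem x hx =>
    obtain ⟨g, hg, j, rfl⟩ := hx
    refine Submodule.subset_span ⟨g, hg, j, ?_⟩
    rw [res_smul, resf_resf, res_res]
  | zero => rw [res_zero]; exact zero_mem _
  | add x y _ _ hx hy => rw [res_add']; exact add_mem hx hy
  | smul r x _ hx => rw [res_smul]; exact Submodule.smul_mem _ _ hx

theorem Sk_mono {I I' : Ideal Γ(X, W)} (h : I ≤ I') (V : X.Opens) (hV : V ≤ W) :
    Sk a I V hV ≤ Sk a I' V hV :=
  Submodule.span_mono (fun _ ⟨g, hg, j, hx⟩ => ⟨g, h hg, j, hx⟩)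

/-- multiplying by an element of `J` sends `Sk I` to `Sk (J * I)` -/
theorem smul_mem_Sk (J : Ideal Γ(X, W)) {V : X.Opens} (hV : V ≤ W) {c : Γ(X, V)}
    (hc : c ∈ Ideal.span (Set.range fun g : J => resf hV g.1)) {x : Γ(A, V)} (hx : x ∈ Sk a I V hV) :
    c • x ∈ Sk a (J * I) V hV := by
  induction hc using Submodule.span_induction with
  | mem c hc =>
    obtain ⟨g', rfl⟩ := hc
    induction hx using Submodule.span_induction with
    | mem x hx =>
      obtain ⟨g, hg, j, rfl⟩ := hx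
      refine Submodule.subset_span ⟨g'.1 * g, Ideal.mul_mem_mul g'.2 hg, j, ?_⟩
      rw [resf_mul, mul_smul]
    | zero => rw [smul_zero]; exact zero_mem _
    | add x y _ _ hx hy => rw [smul_add]; exact add_mem hx hy
    | smul r x _ hx => rw [smul_comm]; exact Submodule.smul_mem _ _ hx
  | zero => rw [zero_smul]; exact zero_mem _
  | add c c' _ _ hc hc' => rw [add_smul]; exact add_mem hc hc'
  | smul r c _ hc =>
    rw [smul_eq_mul, mul_smul]
    exact Submodule.smul_mem _ _ hc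

/-- if `I` kills all `a j`, then `Sk I` vanishes -/
theorem Sk_eq_bot (hI : ∀ g ∈ I, ∀ j, g • a j = 0) (V : X.Opens) (hV : V ≤ W) : Sk a I V hV = ⊥ := by
  rw [eq_bot_iff]
  refine Submodule.span_le.2 ?_
  rintro x ⟨g, hg, j, rfl⟩
  rw [SetLike.mem_coe, Submodule.mem_bot, ← res_smul, hI g hg j, res_zero]

end LemmaV

section LemmaV2

variable {E : X.Modules} {e : E ⟶ Coh.structureModule X}

theorem res_mem_span {M : X.Modules} {W V V' : X.Opens} (hV : V ≤ W) (hV' : V' ≤ V) {r : ℕ}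
    (b : Fin r → Γ(M, W)) {x : Γ(M, V)}
    (hx : x ∈ Submodule.span Γ(X, V) (Set.range fun i => res M hV (b i))) :
    res M hV' x ∈ Submodule.span Γ(X, V') (Set.range fun i => res M (hV'.trans hV) (b i)) := by
  induction hx using Submodule.span_induction with
  | mem x hx =>
    obtain ⟨i, rfl⟩ := hx
    refine Submodule.subset_span ⟨i, ?_⟩
    change res M (hV'.trans hV) (b i) = res M hV' (res M hV (b i))
    rw [res_res]
  | zero => rw [res_zero]; exact zero_mem _
  | add x y _ _ hx hy => rw [res_add']; exact add_mem hx hy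
  | smul r x _ hx => rw [res_smul]; exact Submodule.smul_mem _ _ hx

/-- the value of `e` on a local combination of the `b i` lies in the ideal generated by the `e (b i)` -/
theorem ofS_app_mem_span {W V : X.Opens} (hV : V ≤ W) {r : ℕ} (b : Fin r → Γ(E, W)) {x : Γ(E, V)}
    (hx : x ∈ Submodule.span Γ(X, V) (Set.range fun i => res E hV (b i))) :
    ofS V (e.app V x) ∈ Ideal.span (Set.range fun g :
      (Ideal.span (Set.range fun i => ofS W (e.app W (b i))) : Ideal Γ(X, W)) => resf hV g.1) := by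
  induction hx using Submodule.span_induction with
  | mem x hx =>
    obtain ⟨i, rfl⟩ := hx
    refine Ideal.subset_span ⟨⟨ofS W (e.app W (b i)), Ideal.subset_span ⟨i, rfl⟩⟩, ?_⟩
    change resf hV (ofS W (e.app W (b i))) = ofS V (e.app V (res E hV (b i)))
    rw [app_map e (homOfLE hV) (b i)]
    rfl
  | zero =>
    rw [map_zero]
    exact zero_mem _
  | add x y _ _ hx hy =>
    rw [map_add]
    exact add_mem hx hy
  | smul c x _ hx =>
    rw [Scheme.Modules.Hom.app_smul]
    exact Ideal.mul_mem_left _ c hx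

end LemmaV2

section LemmaV3

variable {E : X.Modules} {e : E ⟶ Coh.structureModule X} {A : X.Modules} {W : X.Opens}

/-- tracking the image of the iterated multiplication: locally it lies in `I^k • ⟨a j⟩` -/
theorem exists_res_mN_mem_Sk {r : ℕ} (b : Fin r → Γ(E, W)) (hb : LocSpan E W b) {l : ℕ} (a : Fin l → Γ(A, W))
    (ha : LocSpan A W a) (k : ℕ) :
    ∀ (V : X.Opens) (hV : V ≤ W) (z : Γ((PhiN E k).obj A, V)) (y : X), y ∈ V →
      ∃ (V' : X.Opens) (hV' : V' ≤ V), y ∈ V' ∧
        res A hV' (((mN E e k).app A).app V z) ∈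
          Sk a ((Ideal.span (Set.range fun i => ofS W (e.app W (b i))) : Ideal Γ(X, W)) ^ k) V' (hV'.trans hV) := by
  set I : Ideal Γ(X, W) := Ideal.span (Set.range fun i => ofS W (e.app W (b i))) with hI
  induction k with
  | zero =>
    intro V hV z y hy
    obtain ⟨V', hV', hyV', hmem⟩ := ha V hV z y hy
    refine ⟨V', hV', hyV', ?_⟩
    change res A hV' z ∈ _
    refine Submodule.span_le.2 ?_ hmem
    rintro x ⟨j, rfl⟩
    have h1 : (1 : Γ(X, W)) ∈ I ^ 0 := by rw [pow_zero, Ideal.one_eq_top]; trivial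
    refine Submodule.subset_span ⟨1, h1, j, ?_⟩
    change res A (hV'.trans hV) (a j) = resf (hV'.trans hV) 1 • res A (hV'.trans hV) (a j)
    have h2 : resf (hV'.trans hV) (1 : Γ(X, W)) = 1 := map_one _
    rw [h2, one_smul]
  | succ k ih =>
    intro V hV z y hy
    set B : X.Modules := (PhiN E k).obj A with hB
    let μ : CohB1.tensorMod E B ⟶ A := (mN E e (k + 1)).app A
    obtain ⟨V₁, hV₁, p, hyV₁, hp⟩ := locSurj E B V z y hy
    have hV₁W : V₁ ≤ W := hV₁.trans hV
    -- the statement for presheaf tensors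
    have key : ∀ p : PreSec E B V₁, ∃ (V' : X.Opens) (hV' : V' ≤ V₁), y ∈ V' ∧
        res A hV' (μ.app V₁ (toT E B V₁ p)) ∈ Sk a (I ^ (k + 1)) V' (hV'.trans hV₁W) := by
      intro p
      have hzero : ∃ (V' : X.Opens) (hV' : V' ≤ V₁), y ∈ V' ∧
          res A hV' (μ.app V₁ (toT E B V₁ (0 : PreSec E B V₁))) ∈
            Sk a (I ^ (k + 1)) V' (hV'.trans hV₁W) := by
        refine ⟨V₁, le_rfl, hyV₁, ?_⟩
        rw [toT_zero, map_zero, res_zero]
        exact zero_mem _
      have htmul : ∀ (d : Γ(E, V₁)) (w : Γ(B, V₁)), ∃ (V' : X.Opens) (hV' : V' ≤ V₁), y ∈ V' ∧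
          res A hV' (μ.app V₁ (tm E B V₁ d w)) ∈ Sk a (I ^ (k + 1)) V' (hV'.trans hV₁W) := by
        intro d w
        obtain ⟨V₂, hV₂, hyV₂, h2⟩ := ih V₁ hV₁W w y hyV₁
        obtain ⟨V₃, hV₃, hyV₃, h3⟩ := hb V₁ hV₁W d y hyV₁
        refine ⟨V₂ ⊓ V₃, inf_le_left.trans hV₂, ⟨hyV₂, hyV₃⟩, ?_⟩
        have h0 : μ.app V₁ (tm E B V₁ d w) = (ofS V₁ (e.app V₁ d)) • ((mN E e k).app A).app V₁ w :=
          mN_succ_app_tm E e k A V₁ d w
        rw [h0, res_smul, pow_succ']
        refine smul_mem_Sk a (I ^ k) I _ ?_ ?_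
        · have h5 := res_mem_span (M := E) (hV₃.trans hV₁W) (inf_le_right : V₂ ⊓ V₃ ≤ V₃) b h3
          rw [res_res] at h5
          have h6 := ofS_app_mem_span (e := e) ((inf_le_left.trans hV₂).trans hV₁W) b h5
          have h7 : ofS (V₂ ⊓ V₃) (e.app (V₂ ⊓ V₃) (res E (inf_le_left.trans hV₂) d)) =
              resf (inf_le_left.trans hV₂) (ofS V₁ (e.app V₁ d)) := by
            rw [app_map e (homOfLE (inf_le_left.trans hV₂)) d]
            rfl
          rw [← h7]
          exact h6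
        · have h8 := res_mem_Sk a (I ^ k) (hV₂.trans hV₁W) (inf_le_left : V₂ ⊓ V₃ ≤ V₂) h2
          rw [res_res] at h8
          exact h8
      have hadd : ∀ p p' : PreSec E B V₁,
          (∃ (V' : X.Opens) (hV' : V' ≤ V₁), y ∈ V' ∧
            res A hV' (μ.app V₁ (toT E B V₁ p)) ∈ Sk a (I ^ (k + 1)) V' (hV'.trans hV₁W)) →
          (∃ (V' : X.Opens) (hV' : V' ≤ V₁), y ∈ V' ∧
            res A hV' (μ.app V₁ (toT E B V₁ p')) ∈ Sk a (I ^ (k + 1)) V' (hV'.trans hV₁W)) →
          ∃ (V' : X.Opens) (hV' : V' ≤ V₁), y ∈ V' ∧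
            res A hV' (μ.app V₁ (toT E B V₁ (p + p'))) ∈ Sk a (I ^ (k + 1)) V' (hV'.trans hV₁W) := by
        rintro p p' ⟨V₂, hV₂, hyV₂, h2⟩ ⟨V₃, hV₃, hyV₃, h3⟩
        refine ⟨V₂ ⊓ V₃, inf_le_left.trans hV₂, ⟨hyV₂, hyV₃⟩, ?_⟩
        rw [toT_add, map_add, res_add']
        refine add_mem ?_ ?_
        · have h8 := res_mem_Sk a (I ^ (k + 1)) (hV₂.trans hV₁W) (inf_le_left : V₂ ⊓ V₃ ≤ V₂) h2
          rw [res_res] at h8
          exact h8
        · have h8 := res_mem_Sk a (I ^ (k + 1)) (hV₃.trans hV₁W) (inf_le_right : V₂ ⊓ V₃ ≤ V₃) h3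
          rw [res_res] at h8
          exact h8
      exact pt_induction (CohB1.toPMod E) (CohB1.toPMod B) (op V₁)
        (motive := fun p => ∃ (V' : X.Opens) (hV' : V' ≤ V₁), y ∈ V' ∧
          res A hV' (μ.app V₁ (toT E B V₁ p)) ∈ Sk a (I ^ (k + 1)) V' (hV'.trans hV₁W))
        hzero htmul hadd p
    obtain ⟨V', hV', hyV', hmem⟩ := key p
    refine ⟨V', hV'.trans hV₁, hyV', ?_⟩
    rw [hp] at hmem
    have e1 : μ.app V₁ (res (CohB1.tensorMod E B) hV₁ z) = res A hV₁ (μ.app V z) :=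
      app_map μ (homOfLE hV₁) z
    rw [e1, res_res] at hmem
    exact hmem

/-- **local vanishing of the iterated multiplication**: if powers of the `e (b i)` kill the generators `a j`, then the
iterated multiplication `(E ⊗ -)^N A ⟶ A` vanishes over `W` for all large `N` -/
theorem exists_mN_app_eq_zero_local {r : ℕ} (b : Fin r → Γ(E, W)) (hb : LocSpan E W b) {l : ℕ}
    (a : Fin l → Γ(A, W)) (ha : LocSpan A W a)
    (hrad : ∀ i j, ∃ n : ℕ, (ofS W (e.app W (b i))) ^ n • a j = 0) :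
    ∃ N₀ : ℕ, ∀ N, N₀ ≤ N → ∀ (V : X.Opens) (_ : V ≤ W) (z : Γ((PhiN E N).obj A, V)),
      ((mN E e N).app A).app V z = 0 := by
  classical
  set I : Ideal Γ(X, W) := Ideal.span (Set.range fun i => ofS W (e.app W (b i))) with hI
  let J : Ideal Γ(X, W) :=
    { carrier := {g | ∀ j, g • a j = 0}
      add_mem' := fun {g g'} hg hg' j => by rw [add_smul, hg j, hg' j, add_zero]
      zero_mem' := fun j => zero_smul _ _
      smul_mem' := fun c g hg j => by rw [smul_eq_mul, mul_smul, hg j, smul_zero] }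
  have hle : I ≤ J.radical := by
    refine Ideal.span_le.2 ?_
    rintro _ ⟨i, rfl⟩
    choose n hn using hrad i
    refine ⟨∑ j, n j, fun j => ?_⟩
    have h1 : n j ≤ ∑ j, n j := Finset.single_le_sum (fun _ _ => Nat.zero_le _) (Finset.mem_univ j)
    obtain ⟨c, hc⟩ := Nat.exists_eq_add_of_le h1
    rw [hc, add_comm, pow_add, mul_smul, hn j, smul_zero]
  have hfg : I.FG := Submodule.fg_span (Set.finite_range _)
  obtain ⟨N₀, hN₀⟩ := Ideal.exists_pow_le_of_le_radical_of_fg hle hfg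
  refine ⟨N₀, fun N hN V hV z => ?_⟩
  have hIN : ∀ g ∈ I ^ N, ∀ j, g • a j = 0 := fun g hg j =>
    hN₀ (Ideal.pow_le_pow_right hN hg) j
  have hloc := exists_res_mN_mem_Sk (e := e) b hb a ha N V hV z
  choose V' hV' hyV' hmem using hloc
  refine (modSheaf A).eq_of_locally_eq' (fun x : V => V' x.1 x.2) V (fun x => homOfLE (hV' x.1 x.2)) ?_ _ _
    (fun x => ?_)
  · intro y hy
    exact Opens.mem_iSup.2 ⟨⟨y, hy⟩, hyV' y hy⟩
  · have h2 := hmem x.1 x.2
    rw [Sk_eq_bot a (I ^ N) hIN, Submodule.mem_bot] at h2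
    change res A (hV' x.1 x.2) _ = res A (hV' x.1 x.2) 0
    rw [h2, res_zero]

end LemmaV3

section Global

open Groth.Agent.Lib.Helper2.Push

variable {E : X.Modules} {e : E ⟶ Coh.structureModule X}

/-- on an affine open, generators of the module of sections of a quasi-coherent module generate it locally -/
theorem locSpan_of_isLocOn {A : X.Modules} {W : X.Opens} (hW : IsAffineOpen W) (hA : IsLocOn A W) {l : ℕ}
    (a : Fin l → Γ(A, W)) (hspan : Submodule.span Γ(X, W) (Set.range a) = ⊤) : LocSpan A W a := by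
  intro V hV m y hy
  obtain ⟨f, hfV, hyf⟩ := hW.exists_basicOpen_le (V := V) ⟨y, hy⟩ (hV hy)
  obtain ⟨n, t, ht⟩ := hA.exists_extension f (res A hfV m)
  refine ⟨X.basicOpen f, hfV, hyf, ?_⟩
  have hunit : IsUnit (resf (X.basicOpen_le f) f) := RingedSpace.isUnit_res_basicOpen _ f
  obtain ⟨u, hu⟩ := hunit.pow n
  have h1 : res A hfV m = (↑u⁻¹ : Γ(X, X.basicOpen f)) • res A (X.basicOpen_le f) t := by
    change res A (X.basicOpen_le f) t = resf (X.basicOpen_le f) f ^ n • res A hfV m at ht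
    rw [ht, ← hu, ← mul_smul, Units.inv_mul, one_smul]
  have key : ∀ t : Γ(A, W), t ∈ Submodule.span Γ(X, W) (Set.range a) →
      res A (X.basicOpen_le f) t ∈ Submodule.span Γ(X, X.basicOpen f)
        (Set.range fun j => res A (hfV.trans hV) (a j)) := by
    intro t ht'
    induction ht' using Submodule.span_induction with
    | mem x hx =>
      obtain ⟨j, rfl⟩ := hx
      exact Submodule.subset_span ⟨j, rfl⟩
    | zero => rw [res_zero]; exact zero_mem _
    | add x y _ _ hx hy => rw [res_add']; exact add_mem hx hy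
    | smul c x _ hx => rw [res_smul]; exact Submodule.smul_mem _ _ hx
  rw [h1]
  refine Submodule.smul_mem _ _ (key t ?_)
  rw [hspan]; trivial

/-- **global vanishing of the iterated multiplication**: on a quasi-compact scheme, if `A` is quasi-coherent of finite
type and vanishes on an open `U` containing all the loci `D(e d)`, then `(E ⊗ -)^N A ⟶ A` vanishes for large `N` -/
theorem exists_mN_app_eq_zero [CompactSpace X] [E.IsQuasicoherent]
    [SheafOfModules.IsFiniteType (R := X.ringCatSheaf) E] (A : X.Modules) [A.IsQuasicoherent]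
    [SheafOfModules.IsFiniteType (R := X.ringCatSheaf) A] (U : X.Opens)
    (hU : ∀ (W : X.Opens) (d : Γ(E, W)), X.basicOpen (ofS W (e.app W d)) ≤ U)
    (hA : ∀ (V : X.Opens), V ≤ U → ∀ m : Γ(A, V), m = 0) :
    ∃ N : ℕ, (mN E e N).app A = 0 := by
  classical
  -- local data
  have hloc : ∀ x : X, ∃ (W : X.Opens) (N₀ : ℕ), x ∈ W ∧ ∀ N, N₀ ≤ N → ∀ (V : X.Opens) (_ : V ≤ W)
      (z : Γ((PhiN E N).obj A, V)), ((mN E e N).app A).app V z = 0 := by
    intro x
    obtain ⟨_, ⟨W, hW, rfl⟩, hxW, -⟩ :=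
      X.isBasis_affineOpens.exists_subset_of_mem_open (Set.mem_univ x) isOpen_univ
    have hW' : IsAffineOpen W := hW
    haveI : Module.Finite Γ(X, W) Γ(E, W) := Groth.Agent.Lib.Helper23.FinType.finite_of_isFiniteType E hW'
    haveI : Module.Finite Γ(X, W) Γ(A, W) := Groth.Agent.Lib.Helper23.FinType.finite_of_isFiniteType A hW'
    obtain ⟨r, b, hb⟩ := Module.Finite.exists_fin (R := Γ(X, W)) (M := Γ(E, W))
    obtain ⟨l, a, ha⟩ := Module.Finite.exists_fin (R := Γ(X, W)) (M := Γ(A, W))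
    have hEloc : IsLocOn E W := IsLocOn.of_isQuasicoherent hW' E
    have hAloc : IsLocOn A W := IsLocOn.of_isQuasicoherent hW' A
    have hrad : ∀ i j, ∃ n : ℕ, (ofS W (e.app W (b i))) ^ n • a j = 0 := by
      intro i j
      refine hAloc.exists_pow_smul_eq_zero (ofS W (e.app W (b i))) (a j) ?_
      exact hA _ (hU W (b i)) _
    obtain ⟨N₀, hN₀⟩ := exists_mN_app_eq_zero_local (e := e) b (locSpan_of_isLocOn hW' hEloc b hb) a
      (locSpan_of_isLocOn hW' hAloc a ha) hrad
    exact ⟨W, N₀, hxW, hN₀⟩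
  choose W N₀ hxW hN₀ using hloc
  obtain ⟨T, hT⟩ : ∃ T : Finset X, (⊤ : X.Opens) ≤ ⨆ x : T, W x := by
    have hc : IsCompact ((⊤ : X.Opens) : Set X) := by
      simpa using isCompact_univ
    obtain ⟨T, hT⟩ := hc.elim_finite_subcover (fun x => (W x : Set X)) (fun x => (W x).2)
      (fun x _ => Set.mem_iUnion.2 ⟨x, hxW x⟩)
    refine ⟨T, fun x hx => ?_⟩
    obtain ⟨y, hy⟩ := Set.mem_iUnion.1 (hT hx)
    obtain ⟨hyT, hxy⟩ := Set.mem_iUnion.1 hy
    exact Opens.mem_iSup.2 ⟨⟨y, hyT⟩, hxy⟩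
  refine ⟨T.sup N₀, ?_⟩
  apply Scheme.Modules.hom_ext
  intro V
  ext z
  refine (modSheaf A).eq_of_locally_eq' (fun x : T => V ⊓ W x) V (fun x => homOfLE inf_le_left) ?_ _ _
    (fun x => ?_)
  · intro y hy
    obtain ⟨x, hx⟩ := Opens.mem_iSup.1 (hT (show y ∈ (⊤ : X.Opens) from trivial))
    exact Opens.mem_iSup.2 ⟨x, ⟨hy, hx⟩⟩
  · change res A (inf_le_left : V ⊓ W x ≤ V) (((mN E e (T.sup N₀)).app A).app V z) =
      res A (inf_le_left : V ⊓ W x ≤ V) ((0 : (PhiN E (T.sup N₀)).obj A ⟶ A).app V z)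
    have e1 : res A (inf_le_left : V ⊓ W x ≤ V) (((mN E e (T.sup N₀)).app A).app V z) =
        ((mN E e (T.sup N₀)).app A).app (V ⊓ W x) (res _ (inf_le_left : V ⊓ W x ≤ V) z) :=
      (app_map ((mN E e (T.sup N₀)).app A) (homOfLE (inf_le_left : V ⊓ W x ≤ V)) z).symm
    rw [e1, hN₀ x.1 (T.sup N₀) (Finset.le_sup x.2) (V ⊓ W x) inf_le_right]
    have e2 : (0 : (PhiN E (T.sup N₀)).obj A ⟶ A).app V z = 0 := rfl
    rw [e2, res_zero]

end Global

end Groth.Agent.Lib.T2H5.MulTrick
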