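import Mathlib
import Groth.Agent.Lib.T2H5MulTrick
import Groth.Agent.Lib.Helper2RelObjGlue
import Groth.Agent.Lib.Helper23QCohAbelian
import Groth.Agent.Lib.Helper23QCohLocal
set_option backward.isDefEq.respectTransparency.types false

/-!
# T2H5ExtSec: extending sections over the complement of the zero locus of a cosection (helper5)

Namespace `Groth.Agent.Lib.T2H5.ExtSec`.
-/

set_option autoImplicit false
set_option linter.style.haveILetI false
set_option linter.unusedSectionVars false
universe u
open CategoryTheory CategoryTheory.Limits AlgebraicGeometry TopologicalSpace Opposite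

namespace Groth.Agent.Lib.T2H5.ExtSec

open Groth.Agent.Lib.Helper23.SecTw Groth.Agent.Lib.Helper23.GenLocus Groth.Agent.Lib.Helper6
open Groth.Agent.Lib.Helper23.LocGen Groth.Agent.Lib.Helper23.TensorMap
open Groth.Agent.Lib.T2H5.RegSES Groth.Agent.Lib.Helper23.QCohLocal Groth.Agent.Lib.Helper23.Extend
open Groth.Agent.Lib.T2H5.MulTrick

variable {X : Scheme.{u}}

section PullbackSections

open Groth.Agent.Lib.Helper2.RelObjGlue in
theorem isPullback_sections {A B C : X.Modules} (f : A ⟶ C) (g : B ⟶ C) (V : X.Opens) :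
    IsPullback ((secF V).map (pullback.fst f g)) ((secF V).map (pullback.snd f g))
      ((secF V).map f) ((secF V).map g) := by
  haveI : PreservesLimitsOfSize.{0, 0} (secF (P := X) V) := preservesSmallestLimits_of_preservesLimits _
  exact (IsPullback.of_hasPullback f g).map (secF V)

theorem pullback_sections_ext {A B C : X.Modules} (f : A ⟶ C) (g : B ⟶ C) (V : X.Opens)
    (x y : Γ(pullback f g, V)) (h1 : (pullback.fst f g).app V x = (pullback.fst f g).app V y)
    (h2 : (pullback.snd f g).app V x = (pullback.snd f g).app V y) : x = y :=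
  Types.ext_of_isPullback (isPullback_sections f g V) h1 h2

theorem pullback_sections_exists {A B C : X.Modules} (f : A ⟶ C) (g : B ⟶ C) (V : X.Opens)
    (a : Γ(A, V)) (b : Γ(B, V)) (h : f.app V a = g.app V b) :
    ∃ x : Γ(pullback f g, V), (pullback.fst f g).app V x = a ∧ (pullback.snd f g).app V x = b :=
  Types.exists_of_isPullback (isPullback_sections f g V) a b h

end PullbackSections

section Construction

variable (U : X.Opens) (F : X.Modules) (s : Γ(F, U))

/-- `U ∩ V`, written as the image of the preimage -/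
abbrev imV (V : X.Opens) : X.Opens := U.ι ''ᵁ (U.ι ⁻¹ᵁ V)

theorem imV_eq (V : X.Opens) : imV U V = U ⊓ V := by
  rw [imV, Scheme.Hom.image_preimage_eq_opensRange_inf, Scheme.Opens.opensRange_ι]

theorem imV_le (V : X.Opens) : imV U V ≤ V := by rw [imV_eq]; exact inf_le_right

theorem imV_le_U (V : X.Opens) : imV U V ≤ U := by rw [imV_eq]; exact inf_le_left

theorem le_imV {V : X.Opens} (hV : V ≤ U) : V ≤ imV U V := by rw [imV_eq]; exact le_inf hV le_rfl

/-- `j_* j^* F` for the inclusion `j : U ⟶ X` -/
noncomputable def H : X.Modules := (Scheme.Modules.pushforward U.ι).obj (F.restrict U.ι)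

/-- the unit `F ⟶ j_* j^* F` -/
noncomputable def eta : F ⟶ H U F := (Scheme.Modules.restrictAdjunction U.ι).unit.app F

theorem eta_app (V : X.Opens) (m : Γ(F, V)) :
    ((eta U F).app V m : Γ(F, imV U V)) = res F (imV_le U V) m := rfl

theorem smul_H (V : X.Opens) (r : Γ(X, V)) (y : Γ(H U F, V)) :
    ((r • y : Γ(H U F, V)) : Γ(F, imV U V)) = resf (imV_le U V) r • (show Γ(F, imV U V) from y) := by
  have h1 : (r • y : Γ(H U F, V)) =
      ((U.ι.app V r) • (show Γ(F.restrict U.ι, U.ι ⁻¹ᵁ V) from y) : Γ(F.restrict U.ι, U.ι ⁻¹ᵁ V)) := rfl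
  rw [h1, smul_restrict_eq]
  rfl

theorem res_H {V V' : X.Opens} (h : V' ≤ V) (y : Γ(H U F, V)) :
    ((res (H U F) h y : Γ(H U F, V')) : Γ(F, imV U V')) =
      res F (U.ι.image_mono (U.ι.preimage_mono h)) (show Γ(F, imV U V) from y) := rfl

/-- the global section of `j_* j^* F` given by `s` -/
noncomputable def sTop : Γ(H U F, ⊤) := res F (imV_le_U U ⊤) s

/-- the morphism `O_X ⟶ j_* j^* F` given by the section `s` of `F` over `U` -/
noncomputable def sigma : Coh.structureModule X ⟶ H U F := secHom (H U F) (sTop U F s)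

theorem sv_sigma (V : X.Opens) : ((sv (sigma U F s) V : Γ(H U F, V)) : Γ(F, imV U V)) = res F (imV_le_U U V) s := by
  rw [sigma, sv_secHom, res_H]
  change res F _ (res F (imV_le_U U ⊤) s) = _
  rw [res_res]

theorem sigma_app (V : X.Opens) (r : Γ(Coh.structureModule X, V)) :
    ((sigma U F s).app V r : Γ(F, imV U V)) = resf (imV_le U V) (ofS V r) • res F (imV_le_U U V) s := by
  rw [app_eq_smul_sv, smul_H, sv_sigma]

end Construction

section GPQ

variable (U : X.Opens) (F : X.Modules) (s : Γ(F, U))

/-- the module of pairs `(f, a)` with `f|_U = a • s` -/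
noncomputable def G : X.Modules := pullback (eta U F) (sigma U F s)

/-- the projection `G ⟶ O_X` -/
noncomputable def pG : G U F s ⟶ Coh.structureModule X := pullback.snd (eta U F) (sigma U F s)

/-- the projection `G ⟶ F` -/
noncomputable def qG : G U F s ⟶ F := pullback.fst (eta U F) (sigma U F s)

theorem qG_eta : qG U F s ≫ eta U F = pG U F s ≫ sigma U F s := pullback.condition

theorem res_injective_of_le {V : X.Opens} (hV : V ≤ U) (x y : Γ(F, V))
    (h : res F (imV_le U V) x = res F (imV_le U V) y) : x = y := by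
  have h1 := congrArg (res F (le_imV U hV)) h
  rw [res_res, res_res, res_self, res_self] at h1
  exact h1

/-- over `U`, `q g = p g • s` -/
theorem qG_app_eq {V : X.Opens} (hV : V ≤ U) (g : Γ(G U F s, V)) :
    (qG U F s).app V g = ofS V ((pG U F s).app V g) • res F hV s := by
  apply res_injective_of_le U F hV
  have h1 : (eta U F).app V ((qG U F s).app V g) = (sigma U F s).app V ((pG U F s).app V g) :=
    congrArg (fun φ : G U F s ⟶ H U F => φ.app V g) (qG_eta U F s)
  have h2 := (eta_app U F V ((qG U F s).app V g)).symm.trans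
    ((congrArg (fun y : Γ(H U F, V) => (y : Γ(F, imV U V))) h1).trans
      (sigma_app U F s V ((pG U F s).app V g)))
  rw [h2, res_smul, res_res]

/-- over `U`, `p` is injective on sections -/
theorem pG_app_injective {V : X.Opens} (hV : V ≤ U) (g : Γ(G U F s, V))
    (h : (pG U F s).app V g = 0) : g = 0 := by
  apply pullback_sections_ext (eta U F) (sigma U F s) V
  · change (qG U F s).app V g = (qG U F s).app V 0
    rw [qG_app_eq U F s hV, h, map_zero]
    change (0 : Γ(X, V)) • res F hV s = 0
    rw [zero_smul]
  · change (pG U F s).app V g = (pG U F s).app V 0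
    rw [h, map_zero]

/-- over `U`, `p` is surjective on sections -/
theorem exists_pG_app_eq {V : X.Opens} (hV : V ≤ U) (r : Γ(X, V)) :
    ∃ g : Γ(G U F s, V), (pG U F s).app V g = toS V r := by
  obtain ⟨g, -, hg⟩ := pullback_sections_exists (eta U F) (sigma U F s) V (r • res F hV s) (toS V r) (by
    have h1 := eta_app U F V (r • res F hV s)
    have h2 := sigma_app U F s V (toS V r)
    rw [ofS_toS] at h2
    have h3 : res F (imV_le U V) (r • res F hV s) = resf (imV_le U V) r • res F (imV_le_U U V) s := by
      rw [res_smul, res_res]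
    exact h1.trans (h3.trans h2.symm))
  exact ⟨g, hg⟩

end GPQ

end Groth.Agent.Lib.T2H5.ExtSec
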