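import Mathlib
import Groth.Agent.Lib.Helper23FTsub
import Groth.Agent.Lib.Helper23ModLocal
import Groth.Agent.Lib.Helper23FinTypeLocal
import Groth.Agent.Lib.Helper1Sky9
import Groth.Agent.Lib.Helper23QCohLocal
import Groth.Agent.Lib.Helper20PullbackAff
import Groth.Agent.Lib.Helper2LocFree
import Groth.Prelude.Def_PerfAux
set_option backward.isDefEq.respectTransparency.types false

/-!
# T2H5ResPropAff: the resolution property passes up along affine morphisms over a qcqs base (helper5)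

Namespace `Groth.Agent.Lib.T2H5.ResPropAff`.
-/

set_option autoImplicit false
set_option linter.style.haveILetI false
set_option linter.unusedSectionVars false
universe u
open CategoryTheory CategoryTheory.Limits AlgebraicGeometry TopologicalSpace Opposite

namespace Groth.Agent.Lib.T2H5.ResPropAff

variable {X Y : Scheme.{u}} (f : X ⟶ Y)

/-- the image of a morphism of modules on sections over `U`, as a submodule -/
noncomputable def rangeApp {M N : X.Modules} (ψ : M ⟶ N) (U : X.Opens) : Submodule Γ(X, U) Γ(N, U) where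
  carrier := Set.range (ψ.app U)
  add_mem' := by
    rintro _ _ ⟨a, rfl⟩ ⟨b, rfl⟩
    exact ⟨a + b, map_add _ _ _⟩
  zero_mem' := ⟨0, map_zero _⟩
  smul_mem' := by
    rintro r _ ⟨a, rfl⟩
    exact ⟨r • a, Scheme.Modules.Hom.app_smul ψ r a⟩

theorem isQuasicoherent_of_isFinLocFree (E : Y.Modules) (hE : FlatMod.IsFinLocFree E) : E.IsQuasicoherent := by
  haveI hfp : SheafOfModules.IsFinitePresentation (R := Y.ringCatSheaf) E :=
    Groth.Agent.Lib.Helper2.LocFree.isFP_of_isFinLocFree E hE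
  infer_instance

/-- a morphism of quasi-coherent modules which is surjective on sections over the members of an affine open
cover is an epimorphism -/
theorem epi_of_surjective_app_cover {M N : X.Modules} [M.IsQuasicoherent] [N.IsQuasicoherent]
    (φ : M ⟶ N) {ι : Type*} (V : ι → X.Opens) (hV : IsOpenCover V) (hVa : ∀ i, IsAffineOpen (V i))
    (h : ∀ i, Function.Surjective (φ.app (V i))) : Epi φ := by
  refine Groth.Agent.Lib.Helper23.ModLocal.epi_of_surjective_ΓU φ V hV hVa fun i => ?_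
  have h1 : (hVa i).fromSpec ''ᵁ ⊤ = V i :=
    (Scheme.Hom.image_top_eq_opensRange _).trans (hVa i).opensRange_fromSpec
  have : ∀ {A B : X.Opens} (_ : A = B), Function.Surjective (φ.app B) → Function.Surjective (φ.app A) := by
    intro A B e hb; subst e; exact hb
  exact this h1 (h i)

/-- **S1110** -/
theorem hasResolutionProperty_of_isAffineHom {X Y : Scheme.{u}} (f : X ⟶ Y) [IsAffineHom f] [CompactSpace Y]
    [QuasiSeparatedSpace Y] (hY : PerfAux.HasResolutionProperty Y) :
    PerfAux.HasResolutionProperty X := by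
  classical
  intro F hFq hFt
  haveI : F.IsQuasicoherent := hFq
  haveI : SheafOfModules.IsFiniteType (R := X.ringCatSheaf) F := hFt
  by_cases hX : IsEmpty X
  · exact ⟨F, 𝟙 F, fun x => (hX.false x).elim, inferInstance⟩
  rw [not_isEmpty_iff] at hX
  obtain ⟨x₀⟩ := hX
  let K : Y.Modules := (Scheme.Modules.pushforward f).obj F
  haveI hK : K.IsQuasicoherent := Groth.Agent.Lib.Helper23.QCohLocal.isQuasicoherent_pushforward f F
  -- a finite affine cover of `Y`
  obtain ⟨t, ht⟩ : ∃ t : Finset Y.affineOpens, (Set.univ : Set Y) ⊆ ⋃ V ∈ t, ((V : Y.Opens) : Set Y) :=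
    isCompact_univ.elim_finite_subcover (fun V : Y.affineOpens => ((V : Y.Opens) : Set Y)) (fun V => V.1.2)
      (fun y _ => by
        have hy : y ∈ (⨆ V : Y.affineOpens, (V : Y.Opens)) := by
          rw [iSup_affineOpens_eq_top]; trivial
        obtain ⟨V, hV⟩ := Opens.mem_iSup.1 hy
        exact Set.mem_iUnion.2 ⟨V, hV⟩)
  -- finite generation over the preimages
  have hfin : ∀ V : Y.affineOpens, Module.Finite Γ(X, f ⁻¹ᵁ V.1) Γ(F, f ⁻¹ᵁ V.1) := fun V =>
    Groth.Agent.Lib.Helper23.FinType.finite_of_isFiniteType F (V.2.preimage f)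
  choose T hT using fun V => (hfin V).fg_top
  let l : List (Σ U : Y.affineOpens, Γ(K, U.1)) :=
    t.toList.flatMap (fun V => (T V).toList.map (fun s => (⟨V, s⟩ : Σ U : Y.affineOpens, Γ(K, U.1))))
  obtain ⟨V₀, hV₀⟩ : ∃ V₀ : Y.affineOpens, f.base x₀ ∈ V₀.1 := by
    obtain ⟨V, hV⟩ := Set.mem_iUnion.1 (ht (Set.mem_univ (f.base x₀)))
    obtain ⟨-, hV'⟩ := Set.mem_iUnion.1 hV
    exact ⟨V, hV'⟩
  obtain ⟨K', i, hi, hq, hf, hmem⟩ :=
    Groth.Agent.Lib.Helper23.FTsub.exists_ft_sub_list K (⟨V₀, 0⟩ : Σ U : Y.affineOpens, Γ(K, U.1)) l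
  haveI := hi
  haveI : K'.IsQuasicoherent := hq
  obtain ⟨E, π, hE, hπ⟩ := hY K' hq hf
  haveI := hπ
  haveI hEq : E.IsQuasicoherent := isQuasicoherent_of_isFinLocFree E hE
  let φ : E ⟶ K := π ≫ i
  let adj := Scheme.Modules.pullbackPushforwardAdjunction f
  let ψ : (Scheme.Modules.pullback f).obj E ⟶ F := (adj.homEquiv E F).symm φ
  have hφ : φ = adj.unit.app E ≫ (Scheme.Modules.pushforward f).map ψ := by
    exact ((adj.homEquiv E F).apply_symm_apply φ).symm.trans (adj.homEquiv_unit E F ψ)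
  haveI : ((Scheme.Modules.pullback f).obj E).IsQuasicoherent :=
    Groth.Agent.Lib.Helper20.PullbackAff.isQuasicoherent_pullback f E
  refine ⟨(Scheme.Modules.pullback f).obj E, ψ, Groth.Agent.Lib.Helper1.Sky.isFinLocFree_pullback f E hE, ?_⟩
  refine epi_of_surjective_app_cover ψ (fun V : t => f ⁻¹ᵁ V.1.1) ?_
    (fun V => V.1.2.preimage f) (fun V => ?_)
  · rw [IsOpenCover, eq_top_iff]
    intro x _
    obtain ⟨V, hV⟩ := Set.mem_iUnion.1 (ht (Set.mem_univ (f.base x)))
    obtain ⟨hVt, hxV⟩ := Set.mem_iUnion.1 hV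
    exact Opens.mem_iSup.2 ⟨⟨V, hVt⟩, hxV⟩
  · -- surjectivity over `f⁻¹ V`
    obtain ⟨V, hVt⟩ := V
    have hsub : (↑(T V) : Set Γ(F, f ⁻¹ᵁ V.1)) ⊆ rangeApp ψ (f ⁻¹ᵁ V.1) := by
      intro s hs
      have hs' : (⟨V, s⟩ : Σ U : Y.affineOpens, Γ(K, U.1)) ∈
          (⟨V₀, 0⟩ : Σ U : Y.affineOpens, Γ(K, U.1)) :: l :=
        List.mem_cons_of_mem _ (List.mem_flatMap.2 ⟨V, Finset.mem_toList.2 hVt,
          List.mem_map.2 ⟨s, Finset.mem_toList.2 hs, rfl⟩⟩)
      obtain ⟨g, hg⟩ := hmem _ hs'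
      obtain ⟨e, he⟩ := Groth.Agent.Lib.Helper23.FinType.surjective_app_of_epi π V.2 g
      refine ⟨(adj.unit.app E).app V.1 e, ?_⟩
      have h1 : φ.app V.1 e = s := by
        change i.app V.1 (π.app V.1 e) = s
        rw [he]
        exact hg
      rw [← h1, hφ]
      rfl
    have htop : rangeApp ψ (f ⁻¹ᵁ V.1) = ⊤ := by
      rw [eq_top_iff, ← hT V]
      exact Submodule.span_le.2 hsub
    intro m
    have hm : m ∈ rangeApp ψ (f ⁻¹ᵁ V.1) := by rw [htop]; trivial
    exact hm

end Groth.Agent.Lib.T2H5.ResPropAff
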