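import Mathlib
import Groth.Agent.Lib.Helper2LocFree
import Groth.Agent.Lib.Helper2FlatOver2
import Groth.Agent.Lib.T2H2FlatRestrict
import Groth.Agent.Lib.T2H5CounitGG
import Groth.Agent.Lib.T2H5ClosedTransfer
import Groth.Agent.Lib.Helper1Sky4
import Groth.Agent.Lib.T2H5ExtSec
import Groth.Agent.Lib.Helper23QCohAbelian
import Groth.Agent.Lib.T2H5ResPropAff
import Groth.Agent.Lib.Helper23FinTypeLocal
import Groth.Agent.Lib.Helper26FlatLimC
set_option backward.isDefEq.respectTransparency.types false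

/-!
# T2H5FlatCover: flat quasi-coherent covers on quasi-compact schemes with affine diagonal (helper5)

Namespace `Groth.Agent.Lib.T2H5.FlatCover`.

* `flat_of_pullback`, `flat_of_pullback_bij`: flatness of a fibre product of modules.
* `isFlatOverAt_id_iff`: flatness over the identity is flatness.
* `isFlat_free_of_isAffine`: free modules on affine schemes are stalkwise flat.
* `exists_flat_step`: one step of the construction (improving flatness over one affine open).
* `exists_flat_epi`: every quasi-coherent module on a quasi-compact scheme with affine diagonal is a quotient of a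
  flat quasi-coherent module.
-/

set_option autoImplicit false
set_option linter.style.haveILetI false
set_option linter.unusedSectionVars false
universe u
open CategoryTheory CategoryTheory.Limits AlgebraicGeometry TopologicalSpace Opposite

namespace Groth.Agent.Lib.T2H5.FlatCover

open Groth.Agent.Lib.Helper2.FlatOver Groth.Agent.Lib.Helper2.LocFree

section Alg

variable {A B : Type*} [CommRing A] [CommRing B] (ρ : A →+* B) (hρ : ρ.Flat)
  {T N₁ N₂ N₃ : Type*} [AddCommGroup T] [Module A T] [AddCommGroup N₁] [Module A N₁]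
  [AddCommGroup N₂] [Module B N₂] [AddCommGroup N₃] [Module B N₃]
  (p₁ : T →+ N₁) (p₂ : T →+ N₂) (h : N₁ →+ N₃) (g : N₂ →+ N₃)
  (hp₁ : ∀ (a : A) (t : T), p₁ (a • t) = a • p₁ t)
  (hp₂ : ∀ (a : A) (t : T), p₂ (a • t) = ρ a • p₂ t)
  (hg : ∀ (b : B) (n : N₂), g (b • n) = b • g n)
  (comm : ∀ t, h (p₁ t) = g (p₂ t))
  (hext : ∀ t t', p₁ t = p₁ t' → p₂ t = p₂ t' → t = t')
  (hex : ∀ n₁ n₂, h n₁ = g n₂ → ∃ t, p₁ t = n₁ ∧ p₂ t = n₂)

include hρ hp₁ hp₂ hg comm hext hex in
/-- a fibre product `T = N₁ ×_{N₃} N₂` of a flat `A`-module `N₁` with a flat `B`-module `N₂` over a flat `B`-module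
`N₃`, along a surjection `N₂ → N₃`, is flat over `A` when `B` is flat over `A`. -/
theorem flat_of_pullback (hgs : Function.Surjective g) [Module.Flat A N₁] [Module.Flat B N₂]
    [Module.Flat B N₃] : Module.Flat A T := by
  letI : Algebra A B := ρ.toAlgebra
  haveI : Module.Flat A B := hρ
  letI : Module A N₂ := Module.compHom N₂ ρ
  haveI : IsScalarTower A B N₂ :=
    ⟨fun a b n => by change (ρ a * b) • n = ρ a • (b • n); rw [mul_smul]⟩
  let gl : N₂ →ₗ[B] N₃ := { toFun := g, map_add' := map_add g, map_smul' := hg }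
  have hK : Module.Flat B (LinearMap.ker gl) :=
    (flat_iff_of_exact_of_flat (LinearMap.ker gl).subtype gl (Submodule.injective_subtype _) hgs
      (LinearMap.exact_subtype_ker_map gl)).1 inferInstance
  haveI := hK
  have hKA : Module.Flat A (LinearMap.ker gl) := Module.Flat.trans A B _
  let p₁l : T →ₗ[A] N₁ := { toFun := p₁, map_add' := map_add p₁, map_smul' := hp₁ }
  have hmem : ∀ t : LinearMap.ker p₁l, p₂ t.1 ∈ LinearMap.ker gl := by
    intro t
    rw [LinearMap.mem_ker]
    change g (p₂ t.1) = 0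
    rw [← comm]
    have : p₁ t.1 = 0 := t.2
    rw [this, map_zero]
  let φ : LinearMap.ker p₁l →ₗ[A] LinearMap.ker gl :=
    { toFun := fun t => ⟨p₂ t.1, hmem t⟩
      map_add' := fun t t' => Subtype.ext (map_add p₂ t.1 t'.1)
      map_smul' := fun a t => Subtype.ext (hp₂ a t.1) }
  have hφi : Function.Injective φ := by
    intro t t' htt
    apply Subtype.ext
    apply hext
    · have h1 : p₁ t.1 = 0 := t.2
      have h2 : p₁ t'.1 = 0 := t'.2
      rw [h1, h2]
    · exact congrArg Subtype.val htt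
  have hφs : Function.Surjective φ := by
    intro n
    have hn : g n.1 = 0 := n.2
    obtain ⟨t, ht1, ht2⟩ := hex 0 n.1 (by rw [map_zero, hn])
    exact ⟨⟨t, ht1⟩, Subtype.ext ht2⟩
  haveI := hKA
  have hK1 : Module.Flat A (LinearMap.ker p₁l) :=
    Module.Flat.of_linearEquiv (LinearEquiv.ofBijective φ ⟨hφi, hφs⟩)
  have hp₁s : Function.Surjective p₁l := by
    intro n₁
    obtain ⟨n₂, hn₂⟩ := hgs (h n₁)
    obtain ⟨t, ht1, -⟩ := hex n₁ n₂ hn₂.symm
    exact ⟨t, ht1⟩
  haveI := hK1
  exact (flat_iff_of_exact_of_flat (LinearMap.ker p₁l).subtype p₁l (Submodule.injective_subtype _) hp₁s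
    (LinearMap.exact_subtype_ker_map p₁l)).2 inferInstance

include hρ hp₂ comm hext hex in
/-- a fibre product `T = N₁ ×_{N₃} N₂` along a bijection `N₁ → N₃` is flat over `A` when `N₂` is flat over `B` and `B`
is flat over `A`. -/
theorem flat_of_pullback_bij (hb : Function.Bijective h) [Module.Flat B N₂] : Module.Flat A T := by
  letI : Algebra A B := ρ.toAlgebra
  haveI : Module.Flat A B := hρ
  letI : Module A N₂ := Module.compHom N₂ ρ
  haveI : IsScalarTower A B N₂ :=
    ⟨fun a b n => by change (ρ a * b) • n = ρ a • (b • n); rw [mul_smul]⟩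
  have hN₂ : Module.Flat A N₂ := Module.Flat.trans A B _
  let p₂l : T →ₗ[A] N₂ := { toFun := p₂, map_add' := map_add p₂, map_smul' := hp₂ }
  have hi : Function.Injective p₂l := by
    intro t t' htt
    have htt' : p₂ t = p₂ t' := htt
    apply hext _ _ _ htt'
    apply hb.1
    rw [comm, comm, htt']
  have hs : Function.Surjective p₂l := by
    intro n₂
    obtain ⟨n₁, hn₁⟩ := hb.2 (g n₂)
    obtain ⟨t, -, ht2⟩ := hex n₁ n₂ hn₁
    exact ⟨t, ht2⟩
  haveI := hN₂
  exact Module.Flat.of_linearEquiv (LinearEquiv.ofBijective p₂l ⟨hi, hs⟩)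

end Alg

section Bridge

variable {X : Scheme.{u}}

/-- flatness over the identity morphism is flatness -/
theorem isFlatOverAt_id_iff (M : X.Modules) (x : X) :
    FlatMod.IsFlatOverAt (𝟙 X) M x ↔ FlatMod.IsFlatAt M x := by
  unfold FlatMod.IsFlatOverAt FlatMod.IsFlatAt
  refine @flat_iff_of_semilinear_equiv _ _ _ _ _ _ _ _ (FlatMod.moduleStalkOver (𝟙 X) M x) _
    (RingEquiv.refl _) (AddEquiv.refl _) ?_
  intro r m
  change ((𝟙 X : X ⟶ X).stalkMap x).hom r • m = (show ↑(X.presheaf.stalk x) from r) • m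
  rw [Scheme.Hom.stalkMap_id]
  rfl

/-- stalkwise flatness is invariant under isomorphisms -/
theorem isFlatAt_of_iso {M N : X.Modules} (e : M ≅ N) (x : X) (h : FlatMod.IsFlatAt M x) :
    FlatMod.IsFlatAt N x :=
  (isFlatOverAt_id_iff N x).1
    (Groth.Agent.Lib.Helper26.FlatLim.isFlatOverAt_of_iso (𝟙 X) e x ((isFlatOverAt_id_iff M x).2 h))

/-- the module associated with a flat module is stalkwise flat -/
theorem isFlat_tilde {R : CommRingCat.{u}} (M : ModuleCat.{u} R) [Module.Flat R M] :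
    FlatMod.IsFlat (tilde M) := by
  intro x
  have h := (tilde_isFlatOver_iff (𝟙 R) M (AddEquiv.refl M) (fun r n => rfl)).2 inferInstance
  rw [Spec.map_id] at h
  exact (isFlatOverAt_id_iff _ x).1 (h x)

/-- free modules on affine spectra are stalkwise flat -/
theorem isFlat_free_spec (R : CommRingCat.{u}) (I : Type u) :
    FlatMod.IsFlat (SheafOfModules.free (R := (Spec R).ringCatSheaf) I) := by
  haveI : Module.Flat R (ModuleCat.of R (I →₀ R)) := inferInstanceAs (Module.Flat R (I →₀ R))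
  have h := isFlat_tilde (ModuleCat.of R (I →₀ R))
  intro x
  exact isFlatAt_of_iso (tildeFinsupp I) x (h x)

/-- free modules on affine schemes are stalkwise flat -/
theorem isFlat_free_of_isAffine (Y : Scheme.{u}) [IsAffine Y] (I : Type u) :
    FlatMod.IsFlat (SheafOfModules.free (R := Y.ringCatSheaf) I) := by
  have h := Groth.Agent.Lib.Helper1.Sky.isFlat_pullback Y.isoSpec.hom _ (isFlat_free_spec Γ(Y, ⊤) I)
  intro y
  exact isFlatAt_of_iso (Groth.Agent.Lib.T2H5.ClosedTransfer.pullbackFreeIso Y.isoSpec.hom I) y (h y)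

end Bridge

section Step

open Groth.Agent.Lib.T2H5.ExtSec Groth.Agent.Lib.Helper6

variable {X : Scheme.{u}}

/-- sections of a restriction over an affine open are flat if the module is flat at the points of the image -/
theorem flat_sections_restrict (M : X.Modules) [M.IsQuasicoherent] (U : X.Opens)
    {V : (↑U : Scheme.{u}).Opens} (hV : IsAffineOpen V)
    (h : ∀ x : X, x ∈ U.ι ''ᵁ V → FlatMod.IsFlatAt M x) :
    Module.Flat Γ((↑U : Scheme.{u}), V) Γ(M.restrict U.ι, V) := by
  have hW : IsAffineOpen (U.ι ''ᵁ V) := hV.image_of_isOpenImmersion U.ι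
  have hflat : Module.Flat Γ(X, U.ι ''ᵁ V) Γ(M, U.ι ''ᵁ V) := flat_sections_of_isFlatAt M hW h
  refine (flat_iff_of_semilinear_equiv (R := Γ((↑U : Scheme.{u}), V)) (M := Γ(M.restrict U.ι, V))
      (σ := (U.ι.appIso V).symm.commRingCatIsoToRingEquiv)
      (e := (M.restrictAppIso U.ι V).addCommGroupIsoToAddEquiv) (he := fun r m => ?_)).2 hflat
  exact Scheme.Modules.smul_restrictAppIso_hom_apply U.ι M V r m

/-- direct images along affine morphisms preserve epimorphisms of quasi-coherent modules -/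
theorem epi_pushforward_map {Y : Scheme.{u}} (f : Y ⟶ X) [IsAffineHom f] {M N : Y.Modules}
    [M.IsQuasicoherent] [N.IsQuasicoherent] (b : M ⟶ N) [Epi b] :
    Epi ((Scheme.Modules.pushforward f).map b) := by
  haveI := Groth.Agent.Lib.Helper23.QCohLocal.isQuasicoherent_pushforward f M
  haveI := Groth.Agent.Lib.Helper23.QCohLocal.isQuasicoherent_pushforward f N
  refine Groth.Agent.Lib.T2H5.ResPropAff.epi_of_surjective_app_cover _
    (fun V : X.affineOpens => (V : X.Opens)) (iSup_affineOpens_eq_top X) (fun V => V.2) (fun V => ?_)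
  exact Groth.Agent.Lib.Helper23.FinType.surjective_app_of_epi b (V.2.preimage f)

theorem bijective_res_of_eq (P : X.Modules) {A B : X.Opens} (e : A = B) (hle : A ≤ B) :
    Function.Bijective (res P hle) := by
  subst e
  have : res P hle = id := by
    funext m
    change (P.presheaf.map (𝟙 _)) m = m
    rw [P.presheaf.map_id]
    rfl
  rw [this]
  exact Function.bijective_id

/-- one step of the construction: improve flatness over one more affine open -/
theorem exists_flat_step (U : X.Opens) (hU : IsAffineOpen U) [IsAffineHom U.ι] (V : X.Opens)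
    (P : X.Modules) [P.IsQuasicoherent] (hP : ∀ x ∈ V, FlatMod.IsFlatAt P x) :
    ∃ (P' : X.Modules) (π : P' ⟶ P), P'.IsQuasicoherent ∧ Epi π ∧
      ∀ x : X, x ∈ V ∨ x ∈ U → FlatMod.IsFlatAt P' x := by
  haveI : IsAffine (↑U : Scheme.{u}) := hU
  let N : (↑U : Scheme.{u}).Modules := P.restrict U.ι
  haveI hN : N.IsQuasicoherent := Scheme.Modules.isQuasicoherent_restrictFunctor U.ι P
  obtain ⟨I, b₀, hb₀⟩ := Groth.Agent.Lib.T2H5.CounitGG.isGloballyGenerated_of_isAffine N
  let F : (↑U : Scheme.{u}).Modules := SheafOfModules.free I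
  let b : F ⟶ N := b₀
  haveI hb : Epi b := hb₀
  haveI hF : F.IsQuasicoherent := inferInstanceAs (SheafOfModules.free I).IsQuasicoherent
  have hFfl : FlatMod.IsFlat F := isFlat_free_of_isAffine _ I
  let a : (Scheme.Modules.pushforward U.ι).obj F ⟶ H U P := (Scheme.Modules.pushforward U.ι).map b
  haveI ha : Epi a := epi_pushforward_map U.ι b
  haveI : (H U P).IsQuasicoherent :=
    Groth.Agent.Lib.Helper23.QCohLocal.isQuasicoherent_pushforward U.ι N
  haveI : ((Scheme.Modules.pushforward U.ι).obj F).IsQuasicoherent :=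
    Groth.Agent.Lib.Helper23.QCohLocal.isQuasicoherent_pushforward U.ι F
  haveI hP'q : (pullback (eta U P) a).IsQuasicoherent :=
    Groth.Agent.Lib.Helper23.QCohLocal.isQuasicoherent_pullback _ _
  refine ⟨pullback (eta U P) a, pullback.fst _ _, hP'q, Abelian.epi_pullback_of_epi_g _ _, ?_⟩
  -- flat sections over affine opens
  have key : ∀ (W : X.Opens) (hW : IsAffineOpen W), (W ≤ U ∨ ∀ x ∈ W, FlatMod.IsFlatAt P x) →
      Module.Flat Γ(X, W) Γ(pullback (eta U P) a, W) := by
    intro W hW hcase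
    have hW' : IsAffineOpen (U.ι ⁻¹ᵁ W) := hW.preimage U.ι
    have hρ : (U.ι.app W).hom.Flat := by
      have h1 := HasRingHomProperty.appLE (P := @Flat) U.ι inferInstance ⟨W, hW⟩ ⟨U.ι ⁻¹ᵁ W, hW'⟩ le_rfl
      rwa [Scheme.Hom.appLE_eq_app] at h1
    let p₁ : Γ(pullback (eta U P) a, W) →+ Γ(P, W) := ((pullback.fst (eta U P) a).app W).hom
    let p₂ : Γ(pullback (eta U P) a, W) →+ Γ(F, U.ι ⁻¹ᵁ W) := ((pullback.snd (eta U P) a).app W).hom
    let h : Γ(P, W) →+ Γ(N, U.ι ⁻¹ᵁ W) := ((eta U P).app W).hom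
    let g : Γ(F, U.ι ⁻¹ᵁ W) →+ Γ(N, U.ι ⁻¹ᵁ W) := (b.app (U.ι ⁻¹ᵁ W)).hom
    have hp₁ : ∀ (r : Γ(X, W)) (t : Γ(pullback (eta U P) a, W)), p₁ (r • t) = r • p₁ t :=
      fun r t => Scheme.Modules.Hom.app_smul _ r t
    have hp₂ : ∀ (r : Γ(X, W)) (t : Γ(pullback (eta U P) a, W)),
        p₂ (r • t) = (U.ι.app W).hom r • p₂ t := fun r t => by
      have h1 := Scheme.Modules.Hom.app_smul (pullback.snd (eta U P) a) r t
      exact h1
    have hg : ∀ (r : Γ((↑U : Scheme.{u}), U.ι ⁻¹ᵁ W)) (n : Γ(F, U.ι ⁻¹ᵁ W)), g (r • n) = r • g n :=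
      fun r n => Scheme.Modules.Hom.app_smul b r n
    have comm : ∀ t, h (p₁ t) = g (p₂ t) := by
      intro t
      have h1 := congrArg (fun φ => (Scheme.Modules.Hom.app φ W) t) (pullback.condition (f := eta U P) (g := a))
      exact h1
    have hext : ∀ t t', p₁ t = p₁ t' → p₂ t = p₂ t' → t = t' :=
      fun t t' h1 h2 => pullback_sections_ext (eta U P) a W t t' h1 h2
    have hex : ∀ n₁ n₂, h n₁ = g n₂ → ∃ t, p₁ t = n₁ ∧ p₂ t = n₂ :=
      fun n₁ n₂ h1 => pullback_sections_exists (eta U P) a W n₁ n₂ h1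
    haveI hN₂ : Module.Flat Γ((↑U : Scheme.{u}), U.ι ⁻¹ᵁ W) Γ(F, U.ι ⁻¹ᵁ W) :=
      flat_sections_of_isFlatAt F hW' (fun y _ => hFfl y)
    rcases hcase with hWU | hWfl
    · -- `W ≤ U`: the unit is bijective on sections
      have hb' : Function.Bijective h := by
        have e : imV U W = W := le_antisymm (imV_le U W) (le_imV U hWU)
        exact bijective_res_of_eq P e (imV_le U W)
      exact flat_of_pullback_bij (U.ι.app W).hom hρ p₁ p₂ h g hp₂ comm hext hex hb'
    · -- `P` is flat over `W`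
      haveI hN₁ : Module.Flat Γ(X, W) Γ(P, W) := flat_sections_of_isFlatAt P hW hWfl
      haveI hN₃ : Module.Flat Γ((↑U : Scheme.{u}), U.ι ⁻¹ᵁ W) Γ(N, U.ι ⁻¹ᵁ W) :=
        flat_sections_restrict P U hW' (fun x hx => hWfl x (imV_le U W hx))
      have hgs : Function.Surjective g :=
        Groth.Agent.Lib.Helper23.FinType.surjective_app_of_epi b hW'
      exact flat_of_pullback (U.ι.app W).hom hρ p₁ p₂ h g hp₁ hp₂ hg comm hext hex hgs
  intro x hx
  rcases hx with hxV | hxU
  · obtain ⟨W, hW, hxW, hWV⟩ := exists_isAffineOpen_mem_and_subset hxV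
    exact isFlatAt_of_flat_sections _ hW (key W hW (Or.inr fun y hy => hP y (hWV hy))) x hxW
  · exact isFlatAt_of_flat_sections _ hU (key U hU (Or.inl le_rfl)) x hxU

end Step

section Main

variable (X : Scheme.{u})

/-- with affine diagonal, the inclusion of an affine open is an affine morphism -/
theorem isAffineHom_ι_of_inter
    (hd : ∀ V W : X.Opens, IsAffineOpen V → IsAffineOpen W → IsAffineOpen (V ⊓ W))
    (U : X.Opens) (hU : IsAffineOpen U) : IsAffineHom U.ι := by
  refine ⟨fun W hW => ?_⟩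
  rw [← U.ι.isAffineOpen_iff_of_isOpenImmersion, Scheme.Hom.image_preimage_eq_opensRange_inf,
    Scheme.Opens.opensRange_ι]
  exact hd U W hU hW

/-- flatness can be achieved over any finite union of affine opens -/
theorem exists_flat_on_finset
    (hd : ∀ V W : X.Opens, IsAffineOpen V → IsAffineOpen W → IsAffineOpen (V ⊓ W))
    (s : Finset X.affineOpens) (P : X.Modules) [P.IsQuasicoherent] :
    ∃ (P' : X.Modules) (π : P' ⟶ P), P'.IsQuasicoherent ∧ Epi π ∧
      ∀ x : X, (∃ V ∈ s, x ∈ (V : X.Opens)) → FlatMod.IsFlatAt P' x := by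
  classical
  induction s using Finset.induction_on with
  | empty =>
    refine ⟨P, 𝟙 P, inferInstance, inferInstance, ?_⟩
    rintro x ⟨V, hV, -⟩
    exact absurd hV (Finset.notMem_empty V)
  | insert V₀ s hV₀ ih =>
    obtain ⟨P₁, π₁, hq₁, he₁, hfl₁⟩ := ih
    haveI := hq₁
    haveI := isAffineHom_ι_of_inter X hd V₀.1 V₀.2
    obtain ⟨P₂, π₂, hq₂, he₂, hfl₂⟩ := exists_flat_step V₀.1 V₀.2
      (⨆ V : {V : X.affineOpens // V ∈ s}, (V.1 : X.Opens)) P₁ (by
        intro x hx
        rw [Opens.mem_iSup] at hx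
        obtain ⟨V, hxV⟩ := hx
        exact hfl₁ x ⟨V.1, V.2, hxV⟩)
    haveI := he₁
    haveI := he₂
    refine ⟨P₂, π₂ ≫ π₁, hq₂, epi_comp _ _, ?_⟩
    rintro x ⟨V, hV, hxV⟩
    apply hfl₂
    rw [Finset.mem_insert] at hV
    rcases hV with rfl | hV
    · exact Or.inr hxV
    · left
      rw [Opens.mem_iSup]
      exact ⟨⟨V, hV⟩, hxV⟩

/-- **flat covers**: on a quasi-compact scheme with affine diagonal every quasi-coherent module is a quotient of a
flat quasi-coherent module. -/
theorem exists_flat_epi [CompactSpace X]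
    (hd : ∀ V W : X.Opens, IsAffineOpen V → IsAffineOpen W → IsAffineOpen (V ⊓ W))
    (M : X.Modules) (hM : Coh.IsQCoh M) :
    ∃ (F : X.Modules) (π : F ⟶ M), Coh.IsQCoh F ∧ FlatMod.IsFlat F ∧ Epi π := by
  haveI : M.IsQuasicoherent := hM
  obtain ⟨t, ht⟩ : ∃ t : Finset X.affineOpens, (Set.univ : Set X) ⊆ ⋃ V ∈ t, ((V : X.Opens) : Set X) :=
    isCompact_univ.elim_finite_subcover (fun V : X.affineOpens => ((V : X.Opens) : Set X)) (fun V => V.1.2)
      (fun x _ => by
        have hx : x ∈ (⨆ V : X.affineOpens, (V : X.Opens)) := by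
          rw [iSup_affineOpens_eq_top]; trivial
        rw [Opens.mem_iSup] at hx
        obtain ⟨V, hV⟩ := hx
        exact Set.mem_iUnion.2 ⟨V, hV⟩)
  obtain ⟨F, π, hq, he, hfl⟩ := exists_flat_on_finset X hd t M
  refine ⟨F, π, hq, fun x => hfl x ?_, he⟩
  have hx := ht (Set.mem_univ x)
  simp only [Set.mem_iUnion] at hx
  obtain ⟨V, hV, hxV⟩ := hx
  exact ⟨V, hV, hxV⟩

end Main

end Groth.Agent.Lib.T2H5.FlatCover
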