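import Groth.Agent.Lib.T2H2TildeLocE
import Groth.Agent.Lib.Helper1KBC5
import Groth.Agent.Lib.Helper1KBC2
import Groth.Agent.Lib.Helper1TorK
import Groth.Agent.Lib.T2H5FlatCover

/-!
# Tor amplitude of `M~` versus `M` (T2H2)
-/

set_option autoImplicit false
set_option linter.style.haveILetI false
universe u
open CategoryTheory CategoryTheory.Limits AlgebraicGeometry Opposite

attribute [local instance] HasDerivedCategory.standard

namespace Groth.Agent.Lib.T2H2.TildeLoc

open Groth.Agent.Lib.T2H8.PerfLocal Groth.Agent.Lib.Helper1.Extend DerivedCategory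
  Groth.Agent.Lib.Helper1.KBC Groth.Agent.Lib.Helper1.Sky
  Groth.Agent.Lib.Helper1.Tor

variable (A : Type u) [CommRing A]

/-- the stalk of the structure sheaf of `Spec A` as an `A`-algebra -/
@[instance_reducible]
noncomputable def algOx (x : Spec (CommRingCat.of A)) : Algebra A (Ox x) :=
  (toOx (CommRingCat.of A) x).toAlgebra

attribute [local instance] algOx

instance isLocalization_Ox (x : Spec (CommRingCat.of A)) :
    IsLocalization.AtPrime (Ox x) (x : PrimeSpectrum A).asIdeal :=
  StructureSheaf.IsLocalization.to_stalk (R := A) x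

instance flat_Ox (x : Spec (CommRingCat.of A)) : Module.Flat A (Ox x) :=
  IsLocalization.flat (Ox x) (x : PrimeSpectrum A).asIdeal.primeCompl

instance isLocalizedModule_mk_Ox (x : Spec (CommRingCat.of A)) (H : Type u) [AddCommGroup H]
    [Module A H] :
    IsLocalizedModule (x : PrimeSpectrum A).asIdeal.primeCompl
      (TensorProduct.mk A (Ox x) H 1) :=
  (isLocalizedModule_iff_isBaseChange (x : PrimeSpectrum A).asIdeal.primeCompl (Ox x) _).2
    (TensorProduct.isBaseChange A H (Ox x))

/-- the point of `Spec A` of a maximal ideal -/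
def ptOf (P : Ideal A) [hP : P.IsMaximal] : Spec (CommRingCat.of A) :=
  (⟨P, hP.isPrime⟩ : PrimeSpectrum A)

instance isLocalizedModule_mk_ptOf (P : Ideal A) [P.IsMaximal] (H : Type u) [AddCommGroup H]
    [Module A H] :
    IsLocalizedModule P.primeCompl (TensorProduct.mk A (Ox (ptOf A P)) H 1) :=
  isLocalizedModule_mk_Ox A (ptOf A P) H

/-- the stalks of `Spec A` form a descent family -/
theorem descFam'_stalk :
    DescFam' (R := A) (fun x : Spec (CommRingCat.of A) => Ox x) where
  zero H _ _ hz := by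
    refine Module.subsingleton_of_localization_maximal (R := A) (M := H)
      (fun P _ => TensorProduct A (Ox (ptOf A P)) H)
      (fun P _ => TensorProduct.mk A (Ox (ptOf A P)) H 1) (fun P hP => ?_)
    exact hz (ptOf A P)
  flatD C _ _ hz := by
    refine Module.flat_of_isLocalized_maximal (R := A) (S := A) (M := C)
      (fun P _ => TensorProduct A (Ox (ptOf A P)) C)
      (fun P _ => TensorProduct.mk A (Ox (ptOf A P)) C 1) (fun P hP => ?_)
    have := hz (ptOf A P)
    exact Module.Flat.trans A (Ox (ptOf A P)) _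

/-- the derived stalk of `M~` is `O_x ⊗ M` -/
noncomputable def tildeDStalkIso (x : Spec (CommRingCat.of A)) :
    DCoh.tildeD (CommRingCat.of A) ⋙ (stalkFun x).mapDerivedCategory ≅ extD A (Ox x) :=
  mapDerivedCategoryCompIso (tilde.functor (CommRingCat.of A)) (stalkFun x) (ext A (Ox x))
    (tildeStalkIso (CommRingCat.of A) x)

/-- if `M~` has flat amplitude in `[a, b]` then `M` has tor amplitude in `[a, b]` -/
theorem hasTorAmp_of_hasFlatAmplitudeIn_tildeD (M : Dual.D A) (a b : ℤ)
    (h : DCoh.HasFlatAmplitudeIn a b ((DCoh.tildeD (CommRingCat.of A)).obj M)) :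
    DRing.HasTorAmplitudeIn A a b M := by
  obtain ⟨E, hE, hfl, ⟨e⟩⟩ := h
  refine (descFam'_stalk A).hasTorAmp M a b (fun x => ?_)
  refine ⟨((stalkFun x).mapHomologicalComplex (ComplexShape.up ℤ)).obj E,
    fun i hi => (stalkFun x).map_isZero (hE i hi), fun i => hfl i x, ⟨?_⟩⟩
  exact ((stalkFun x).mapDerivedCategoryFactors.app E).symm ≪≫
    (stalkFun x).mapDerivedCategory.mapIso e ≪≫ (tildeDStalkIso A x).app M

/-- if `M` has tor amplitude in `[a, b]` then `M~` has flat amplitude in `[a, b]` -/
theorem hasFlatAmplitudeIn_tildeD_of_hasTorAmp (M : Dual.D A) (a b : ℤ)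
    (h : DRing.HasTorAmplitudeIn A a b M) :
    DCoh.HasFlatAmplitudeIn a b ((DCoh.tildeD (CommRingCat.of A)).obj M) := by
  obtain ⟨E, hE, hfl, ⟨e⟩⟩ := h
  refine ⟨tildeCx (CommRingCat.of A) E,
    fun i hi => (tilde.functor (CommRingCat.of A)).map_isZero (hE i hi), fun i => ?_, ⟨?_⟩⟩
  · haveI : Module.Flat (CommRingCat.of A) (E.X i) := hfl i
    exact Groth.Agent.Lib.T2H5.FlatCover.isFlat_tilde (R := CommRingCat.of A) (E.X i)
  · exact ((tilde.functor (CommRingCat.of A)).mapDerivedCategoryFactors.app E).symm ≪≫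
      (DCoh.tildeD (CommRingCat.of A)).mapIso e

end Groth.Agent.Lib.T2H2.TildeLoc
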