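import Mathlib
import Groth.Prelude.Def_DerSch
import Groth.Prelude.Def_DDual2
import Groth.Agent.Lib.T2H4TorRes2
import Groth.Agent.Lib.T2H2TildeLocF
import Groth.Agent.Lib.T2H1LpullTorAmp
import Groth.Agent.Lib.T2H1TorAmpQCoh
set_option backward.isDefEq.respectTransparency.types false

/-!
# Tor amplitude of `M~` relative to `Spec A ⟶ Spec R` (helper1, second team)
-/

set_option autoImplicit false
set_option linter.style.haveILetI false
universe u
open CategoryTheory CategoryTheory.Limits AlgebraicGeometry HomologicalComplex MonoidalCategory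

attribute [local instance] HasDerivedCategory.standard

namespace Groth.Agent.Lib.T2H1.TildeTorAmp

section Ring

open Groth.Agent.Lib.Helper1.KF Groth.Agent.Lib.Helper1.DT DerivedCategory DTen
  Groth.Agent.Lib.T2H4.TorRes

variable {A B A' B' : Type u} [CommRing A] [CommRing B] [CommRing A'] [CommRing B']
  (φ : A →+* B) (γ : B →+* B') (α : A →+* A') (β : A' →+* B')

/-- flat extension of scalars preserves exactness -/
theorem exactAt_extCx_of_flat' (hγ : γ.Flat) (Y : Cx B) (i : ℤ) (h : Y.ExactAt i) :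
    ((extCx γ).obj Y).ExactAt i := by
  letI := γ.toAlgebra
  haveI : Module.Flat B B' := hγ
  exact exactAt_extCx_of_flat (A := B) (B := B') Y i h

/-- tor amplitude over the base localizes -/
theorem hasTorAmp_localize (h : γ.comp φ = β.comp α) (hγ : γ.Flat) (hα : α.Flat)
    (hloc : ∀ N' : ModuleCat.{u} A', Nonempty ((ModuleCat.extendScalars.{u, u, u} α).obj
      ((ModuleCat.restrictScalars.{u} α).obj N') ≅ N'))
    (K : Cx B) (a b : ℤ) (hK : DRing.HasTorAmplitudeIn A a b (Q.obj ((resCx φ).obj K))) :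
    DRing.HasTorAmplitudeIn A' a b (Q.obj ((resCx β).obj ((extCx γ).obj K))) := by
  apply hasTorAmp_of_mix'
  intro N'
  obtain ⟨e⟩ := hloc N'
  obtain ⟨F, π, hF, hπ⟩ := exists_kflat_resolution ((ModuleCat.restrictScalars.{u} α).obj N')
  haveI := hπ
  letI := α.toAlgebra
  haveI : Module.Flat A A' := hα
  obtain ⟨π', hπ'⟩ := exists_ext_resolution (R' := A') _ F π
  haveI := hπ'
  refine ⟨(extCx α).obj F,
    π' ≫ (HomologicalComplex.single (ModuleCat.{u} A') (ComplexShape.up ℤ) 0).map e.hom,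
    kflat_extCx α F hF, inferInstance, fun i hi => ?_⟩
  rw [← exactAt_iff_of_iso (sqMixIso φ γ α β h K F)]
  exact exactAt_extCx_of_flat' γ hγ _ i (mix_of_hasTorAmp' φ K a b hK _ F hF π i hi)

/-- tor amplitude over the base can be tested on a jointly faithful family of flat extensions -/
theorem hasTorAmp_of_family {J : Type*} {A' B' : J → Type u} [∀ j, CommRing (A' j)]
    [∀ j, CommRing (B' j)] (γ : ∀ j, B →+* B' j) (α : ∀ j, A →+* A' j)
    (β : ∀ j, A' j →+* B' j) (h : ∀ j, (γ j).comp φ = (β j).comp (α j))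
    (hα : ∀ j, (α j).Flat)
    (hdesc : ∀ (Y : Cx B) (i : ℤ), (∀ j, ((extCx (γ j)).obj Y).ExactAt i) → Y.ExactAt i)
    (K : Cx B) (a b : ℤ)
    (hK : ∀ j, DRing.HasTorAmplitudeIn (A' j) a b
      (Q.obj ((resCx (β j)).obj ((extCx (γ j)).obj K)))) :
    DRing.HasTorAmplitudeIn A a b (Q.obj ((resCx φ).obj K)) := by
  apply hasTorAmp_of_mix'
  intro M
  obtain ⟨F, π, hF, hπ⟩ := exists_kflat_resolution M
  haveI := hπ
  refine ⟨F, π, hF, hπ, fun i hi => hdesc _ i (fun j => ?_)⟩
  rw [exactAt_iff_of_iso (sqMixIso φ (γ j) (α j) (β j) (h j) K F)]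
  letI := (α j).toAlgebra
  haveI : Module.Flat A (A' j) := hα j
  obtain ⟨π', hπ'⟩ := exists_ext_resolution (R' := A' j) M F π
  haveI := hπ'
  exact mix_of_hasTorAmp' (β j) _ a b (hK j) _ _ (kflat_extCx (α j) F hF) π' i hi

end Ring

section Sch

open Groth.Agent.Lib.Helper1.KF Groth.Agent.Lib.Helper1.DT DerivedCategory DTen
  Groth.Agent.Lib.T2H4.TorRes Groth.Agent.Lib.Helper1.Sky Groth.Agent.Lib.Helper1.KBC
  Groth.Agent.Lib.T2H1.StalkTorAmp Groth.Agent.Lib.T2H1.LpullTorAmp
  Groth.Agent.Lib.T2H1.TorAmpQCoh Groth.Agent.Lib.T2H2.TildeLoc Groth.Agent.Lib.Helper1.Extend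

variable {R A : Type u} [CommRing R] [CommRing A] (φ : R →+* A)

/-- the morphism `Spec A ⟶ Spec R` -/
noncomputable abbrev sf : Spec (CommRingCat.of A) ⟶ Spec (CommRingCat.of R) :=
  Spec.map (CommRingCat.ofHom φ)

variable (q : Spec (CommRingCat.of A))

/-- the stalk map of `Spec A ⟶ Spec R` is compatible with the localization maps -/
theorem toOx_comp :
    (toOx (CommRingCat.of A) q).comp φ =
      (phiF (sf φ) q).comp (toOx (CommRingCat.of R) ((sf φ) q)) := by
  have h1 := Scheme.ΓSpecIso_inv_naturality (CommRingCat.ofHom φ)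
  have h2 := Scheme.Hom.germ_stalkMap (sf φ) ⊤ q trivial
  have h3 : CommRingCat.ofHom φ ≫ (Scheme.ΓSpecIso (CommRingCat.of A)).inv ≫
      (Spec (CommRingCat.of A)).presheaf.germ ⊤ q trivial =
      ((Scheme.ΓSpecIso (CommRingCat.of R)).inv ≫
        (Spec (CommRingCat.of R)).presheaf.germ ⊤ ((sf φ) q) trivial) ≫ (sf φ).stalkMap q := by
    rw [Category.assoc, h2, ← Category.assoc, h1, Category.assoc]
    rfl
  exact congrArg CommRingCat.Hom.hom h3

/-- the stalk over the base of `K~` -/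
noncomputable def tildeStalkOverIso :
    tilde.functor (CommRingCat.of A) ⋙ DerSch.stalkOver (sf φ) q ≅
      ModuleCat.extendScalars.{u, u, u} (toOx (CommRingCat.of A) q) ⋙
        ModuleCat.restrictScalars.{u} (phiF (sf φ) q) :=
  (Functor.associator _ _ _).symm ≪≫
    Functor.isoWhiskerRight (Functor.isoWhiskerLeft _ (stalkFunctorIso q) ≪≫
      tildeStalkIso (CommRingCat.of A) q) _

attribute [local instance] algOx

/-- exactness of a complex of `A`-modules can be tested on the stalks of `Spec A` -/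
theorem exactAt_of_forall_stalk (Y : Cx A) (i : ℤ)
    (h : ∀ q : Spec (CommRingCat.of A), ((extCx (toOx (CommRingCat.of A) q)).obj Y).ExactAt i) :
    Y.ExactAt i := by
  rw [exactAt_iff_isZero_homology]
  refine (descFam'_stalk A).isZero _ (fun q => ?_)
  have h1 := h q
  rw [exactAt_iff_isZero_homology] at h1
  exact h1.of_iso (homologyMapCxIso (ext A (Ox q)) Y i).symm

/-- S7259: the stalkwise tor amplitude of `M~` relative to `Spec A ⟶ Spec R` is the tor
amplitude of `M` over `R` -/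
theorem hasTorAmplitude_tilde_iff (M : Dual.D A)
    (F : CochainComplex (Spec (CommRingCat.of A)).Modules ℤ)
    (hF : Nonempty (DCoh.toD (Spec (CommRingCat.of A)) F ≅
      (DCoh.tildeD (CommRingCat.of A)).obj M)) (a b : ℤ) :
    DerSch.HasTorAmplitude (sf φ) a b F ↔
      DRing.HasTorAmplitudeIn R a b ((DRing.restrictD φ).obj M) := by
  obtain ⟨eF⟩ := hF
  let K : Cx A := (Q : Cx A ⥤ Dual.D A).objPreimage M
  have eK : Q.obj K ≅ M := (Q : Cx A ⥤ Dual.D A).objObjPreimageIso M
  have e1 : DCoh.toD (Spec (CommRingCat.of A)) F ≅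
      DCoh.toD (Spec (CommRingCat.of A)) (tildeCx (CommRingCat.of A) K) :=
    eF ≪≫ (DCoh.tildeD (CommRingCat.of A)).mapIso eK.symm ≪≫
      (tilde.functor (CommRingCat.of A)).mapDerivedCategoryFactors.app K
  have key : ∀ q : Spec (CommRingCat.of A), DerSch.HasTorAmplitudeAt (sf φ) a b F q ↔
      DRing.HasTorAmplitudeIn (Ox ((sf φ) q)) a b
        (Q.obj ((resCx (phiF (sf φ) q)).obj ((extCx (toOx (CommRingCat.of A) q)).obj K))) := by
    intro q
    obtain ⟨e2⟩ := nonempty_toD_stalkCxOver_iso (sf φ) q e1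
    have e3 : DRing.toD ((DerSch.stalkCxOver (sf φ) q).obj F) ≅
        Q.obj ((resCx (phiF (sf φ) q)).obj ((extCx (toOx (CommRingCat.of A) q)).obj K)) :=
      e2 ≪≫ Q.mapIso ((NatIso.mapHomologicalComplex (tildeStalkOverIso φ q)
        (ComplexShape.up ℤ)).app K)
    exact ⟨fun h => Groth.Agent.Lib.Helper1.Tor.hasTorAmp_of_iso e3 h,
      fun h => Groth.Agent.Lib.Helper1.Tor.hasTorAmp_of_iso e3.symm h⟩
  have key2 : DRing.HasTorAmplitudeIn R a b ((DRing.restrictD φ).obj M) ↔
      DRing.HasTorAmplitudeIn R a b (Q.obj ((resCx φ).obj K)) :=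
    ⟨fun h => Groth.Agent.Lib.Helper1.Tor.hasTorAmp_of_iso
        ((DRing.restrictD φ).mapIso eK.symm ≪≫ (resFactors φ).app K) h,
      fun h => Groth.Agent.Lib.Helper1.Tor.hasTorAmp_of_iso
        (((resFactors φ).app K).symm ≪≫ (DRing.restrictD φ).mapIso eK) h⟩
  have hflA : ∀ q : Spec (CommRingCat.of A), (toOx (CommRingCat.of A) q).Flat :=
    fun q => flat_Ox A q
  have hflR : ∀ p : Spec (CommRingCat.of R), (toOx (CommRingCat.of R) p).Flat :=
    fun p => flat_Ox R p
  rw [key2]
  constructor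
  · intro h
    exact hasTorAmp_of_family φ (fun q => toOx (CommRingCat.of A) q)
      (fun q => toOx (CommRingCat.of R) ((sf φ) q)) (fun q => phiF (sf φ) q)
      (fun q => toOx_comp φ q) (fun q => hflR _) (exactAt_of_forall_stalk) K a b
      (fun q => (key q).1 (h q))
  · intro h q
    rw [key q]
    refine hasTorAmp_localize φ (toOx (CommRingCat.of A) q)
      (toOx (CommRingCat.of R) ((sf φ) q)) (phiF (sf φ) q) (toOx_comp φ q) (hflA q) (hflR _)
      (fun N' => ?_) K a b h
    exact nonempty_extendScalars_restrictScalars_iso (toOx (CommRingCat.of R) ((sf φ) q))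
      ((sf φ) q).asIdeal.primeCompl
      (StructureSheaf.IsLocalization.to_stalk (R := R) ((sf φ) q)) N'

end Sch

end Groth.Agent.Lib.T2H1.TildeTorAmp
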