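import Mathlib
import Groth.Prelude.Def_DerSch
import Groth.Prelude.Def_DDual2
import Groth.Prelude.Def_DCoh4
import Groth.Agent.Lib.T2H1LpullTorAmp
import Groth.Agent.Lib.Helper1KF10
import Groth.Agent.Lib.Helper1LDer2
import Groth.Agent.S0960
set_option backward.isDefEq.respectTransparency.types false

/-!
# Tor amplitude of `Lf^* G ⊗^L F` relative to a composite (helper1, second team)
-/

set_option autoImplicit false
set_option linter.style.haveILetI false
universe u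
open CategoryTheory CategoryTheory.Limits AlgebraicGeometry HomologicalComplex MonoidalCategory

attribute [local instance] HasDerivedCategory.standard

namespace Groth.Agent.Lib.T2H1.LpullTensorTorAmp

section Ring

open Groth.Agent.Lib.Helper1.KF Groth.Agent.Lib.Helper1.DT DerivedCategory DTen
  Groth.Agent.Lib.Helper1.CI Groth.Agent.Lib.T2H4.TorRes Groth.Agent.Lib.T2H4.LDerExist
  Groth.Agent.Lib.Helper1.TorL Groth.Agent.Lib.T2H1.LpullTorAmp

variable {B : Type u} [CommRing B]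

/-- `K ⊗^L L ≅ K ⊗ L` when `L` is K-flat -/
theorem nonempty_LTensorCx_iso_of_kflat (L : Cx B) [DRing.HasLTensorCx B L] (hL : KFlat L)
    (K : Cx B) : Nonempty ((DRing.LTensorCx B L).obj (Q.obj K) ≅ Q.obj (K ⊗ L)) := by
  obtain ⟨R, π, hR, -, hπ, -⟩ := exists_kprojective_resolution K
  haveI := hR
  haveI : QuasiIso π := hπ
  haveI hπi : IsIso (Q.map π) := (DerivedCategory.isIso_Q_map_iff_quasiIso (φ := π)).2 hπ
  have q1 : QuasiIso (π ▷ L) := quasiIso_whiskerRight_of_kflat π L hL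
  haveI i1 : IsIso (Q.map (π ▷ L)) := (DerivedCategory.isIso_Q_map_iff_quasiIso (φ := π ▷ L)).2 q1
  haveI := isIso_counit_LTensorCx L R
  exact ⟨(DRing.LTensorCx B L).mapIso (asIso (Q.map π)).symm ≪≫
    asIso (((DRing.tensorCxQ B L).totalLeftDerivedCounit Q
      (HomologicalComplex.quasiIso (ModuleCat.{u} B) (ComplexShape.up ℤ))).app R) ≪≫
    asIso (Q.map (π ▷ L))⟩

variable {A C : Type u} [CommRing A] [CommRing C] (ψ : A →+* B) (φ : B →+* C)

/-- ring-level core: `P` a K-flat complex of `B`-modules with tor amplitude `[c, d]` over `A`,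
`N` a complex of `C`-modules with tor amplitude `[a, b]` over `B`; then `(C ⊗_B P) ⊗_C N` has
tor amplitude `[a + c, b + d]` over `A`. -/
theorem hasTorAmplitudeIn_resCx_ext_tensor (P : Cx B) (hP : KFlat P) (c d : ℤ)
    (hPA : DRing.HasTorAmplitudeIn A c d (Q.obj ((resCx ψ).obj P)))
    (N : Cx C) (a b : ℤ) (hN : DRing.HasTorAmplitudeIn B a b (Q.obj ((resCx φ).obj N))) :
    DRing.HasTorAmplitudeIn A (a + c) (b + d)
      (Q.obj ((resCx ψ).obj ((resCx φ).obj ((extCx φ).obj P ⊗ N)))) := by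
  haveI := hasLTensorCx P
  have h1 := torAmp_restrict_LTensorCx ψ (Q.obj ((resCx φ).obj N)) a b c d hN P hPA
  obtain ⟨e⟩ := nonempty_LTensorCx_iso_of_kflat P hP ((resCx φ).obj N)
  refine Groth.Agent.Lib.Helper1.Tor.hasTorAmp_of_iso ?_ h1
  exact (DRing.restrictD ψ).mapIso e ≪≫ (resFactors ψ).app _ ≪≫
    Q.mapIso ((resCx ψ).mapIso (pfCx φ N P ≪≫
      (resCx φ).mapIso (swapIso N ((extCx φ).obj P))))

end Ring

section Sch

open Groth.Agent.Lib.Helper1.KF Groth.Agent.Lib.Helper1.DT DerivedCategory DTen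
  Groth.Agent.Lib.Helper1.Sky Groth.Agent.Lib.Helper1.KBC Groth.Agent.Lib.Helper1.BKF
  Groth.Agent.Lib.T2H2.TorAmpComp Groth.Agent.Lib.T2H1.StalkTorAmp
  Groth.Agent.Lib.T2H1.LpullTorAmp

variable {X Y Z : Scheme.{u}} (f : X ⟶ Y) (g : Y ⟶ Z) (x : X)

/-- the stalk over the local ring of `Z`, in two steps -/
noncomputable def stalkOverIso :
    DerSch.stalkOver (f ≫ g) x ≅
      (stalkFun x ⋙ ModuleCat.restrictScalars.{u} (phiF f x)) ⋙
        ModuleCat.restrictScalars.{u} (phi f g x) :=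
  (stalkOverCompIso f g x).symm ≪≫
    Functor.isoWhiskerRight (Functor.isoWhiskerRight (stalkFunctorIso x) _) _

/-- S6240: tor amplitude of `Lf^* G ⊗^L F` relative to a composite -/
theorem hasTorAmplitudeD_LTensorCx_Lpull (F : CochainComplex X.Modules ℤ) (a b : ℤ)
    (hF : DerSch.HasTorAmplitude f a b F) (G : CochainComplex Y.Modules ℤ) (c d : ℤ)
    (hG : DerSch.HasTorAmplitude g c d G) [DCoh.HasLpull f] [DCoh.HasLTensorCx F] :
    DerSch.HasTorAmplitudeD (f ≫ g) (a + c) (b + d)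
      ((DCoh.LTensorCx F).obj ((DCoh.Lpull f).obj (DCoh.toD Y G))) := by
  rintro F' ⟨eF'⟩ x
  obtain ⟨P, q, hP, -, hq, -⟩ : ∃ (P : CochainComplex Y.Modules ℤ) (q : P ⟶ G),
      DCoh.IsKFlat P ∧ (∀ n : ℤ, ModSite.IsFlat (O := Y.sheaf) (P.X n)) ∧ QuasiIso q ∧
        ∀ n : ℤ, Epi (q.f n) := exists_kflat_flat_resolution Y.sheaf G
  haveI hqi : IsIso (DerivedCategory.Q.map q) := by
    rw [DerivedCategory.isIso_Q_map_iff_quasiIso]; exact hq
  have eP : DCoh.toD Y P ≅ DCoh.toD Y G := asIso (DerivedCategory.Q.map q)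
  have hPf : DCoh.IsKFlat ((pullC f).obj P) := Groth.Agent.S0960.isKFlat_pullC f P hP
  haveI hI1 : ModSite.HasLTensorCx (O := X.sheaf) F := (inferInstance : DCoh.HasLTensorCx F)
  have i : (DCoh.LTensorCx F).obj (DerivedCategory.Q.obj ((pullC f).obj P)) ≅
      DerivedCategory.Q.obj ((DCoh.tensorCx.obj ((pullC f).obj P)).obj F) :=
    lTensorCxIsoOfIsKFlat (O := X.sheaf) F ((pullC f).obj P) hPf
  have e1 : DCoh.toD X F' ≅ DCoh.toD X ((DCoh.tensorCx.obj ((pullC f).obj P)).obj F) :=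
    eF' ≪≫ (DCoh.LTensorCx F).mapIso ((DCoh.Lpull f).mapIso eP.symm ≪≫ lpullIsoK f P hP) ≪≫ i
  obtain ⟨e2⟩ := nonempty_toD_stalkCxOver_iso (f ≫ g) x e1
  have hPy : KFlat ((stalkC (f x)).obj P) := fun L hL => rKFlat_stalk_of_isKFlat (f x) P hP L hL
  -- the stalks of `P` over the local ring of `Z`
  obtain ⟨e3⟩ := nonempty_toD_stalkCxOver_iso g (f x) eP
  have hG1 : DRing.HasTorAmplitudeIn (Z.presheaf.stalk (g.base (f x))) c d
      (DRing.toD ((DerSch.stalkCxOver g (f x)).obj P)) :=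
    Groth.Agent.Lib.Helper1.Tor.hasTorAmp_of_iso e3.symm (hG (f x))
  have hG2 : DRing.HasTorAmplitudeIn (Z.presheaf.stalk ((f ≫ g).base x)) c d
      (Q.obj ((resCx (phi f g x)).obj
        (((DerSch.stalkFunctor Y (f x)).mapHomologicalComplex (ComplexShape.up ℤ)).obj P))) := hG1
  have hPA : DRing.HasTorAmplitudeIn (Z.presheaf.stalk ((f ≫ g).base x)) c d
      (Q.obj ((resCx (phi f g x)).obj ((stalkC (f x)).obj P))) :=
    Groth.Agent.Lib.Helper1.Tor.hasTorAmp_of_iso
      (Q.mapIso ((resCx (phi f g x)).mapIso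
        ((NatIso.mapHomologicalComplex (stalkFunctorIso (f x)) (ComplexShape.up ℤ)).app P))) hG2
  -- the stalks of `F` over the local ring of `Y`
  have hF1 : DRing.HasTorAmplitudeIn (Groth.Agent.Lib.Helper1.Sky.Ox (f x)) a b
      (Q.obj ((resCx (phiF f x)).obj
        (((DerSch.stalkFunctor X x).mapHomologicalComplex (ComplexShape.up ℤ)).obj F))) := hF x
  have hN : DRing.HasTorAmplitudeIn (Groth.Agent.Lib.Helper1.Sky.Ox (f x)) a b
      (Q.obj ((resCx (phiF f x)).obj ((stalkC x).obj F))) :=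
    Groth.Agent.Lib.Helper1.Tor.hasTorAmp_of_iso
      (Q.mapIso ((resCx (phiF f x)).mapIso
        ((NatIso.mapHomologicalComplex (stalkFunctorIso x) (ComplexShape.up ℤ)).app F))) hF1
  have h3 := hasTorAmplitudeIn_resCx_ext_tensor (phi f g x) (phiF f x) _ hPy c d hPA _ a b hN
  -- the stalk of the tensor product
  obtain ⟨t⟩ := nonempty_stalkTotIso x ((pullC f).obj P) F
  have ePx : (stalkC x).obj ((pullC f).obj P) ≅ (extCx (phiF f x)).obj ((stalkC (f x)).obj P) :=
    (NatIso.mapHomologicalComplex (stalkPullbackIso f x) (ComplexShape.up ℤ)).app P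
  have eT : (stalkC x).obj ((DCoh.tensorCx.obj ((pullC f).obj P)).obj F) ≅
      ((extCx (phiF f x)).obj ((stalkC (f x)).obj P) ⊗ (stalkC x).obj F : Cx _) :=
    t ≪≫ whiskerRightIso ePx ((stalkC x).obj F)
  refine Groth.Agent.Lib.Helper1.Tor.hasTorAmp_of_iso ?_ h3
  exact Q.mapIso ((resCx (phi f g x)).mapIso ((resCx (phiF f x)).mapIso eT.symm) ≪≫
    ((NatIso.mapHomologicalComplex (stalkOverIso f g x) (ComplexShape.up ℤ)).app _).symm) ≪≫
    e2.symm

end Sch

end Groth.Agent.Lib.T2H1.LpullTensorTorAmp
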