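import Mathlib
import Groth.Prelude.Def_DerSch
import Groth.Prelude.Def_DDual2
import Groth.Prelude.Def_DCoh4
import Groth.Agent.Lib.T2H1LpullTensorTorAmp
import Groth.Agent.Lib.T2H4TorRes2
set_option backward.isDefEq.respectTransparency.types false

/-!
# Tor amplitude relative to a restricted morphism (helper1, second team)
-/

set_option autoImplicit false
set_option linter.style.haveILetI false
universe u
open CategoryTheory CategoryTheory.Limits AlgebraicGeometry HomologicalComplex MonoidalCategory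

attribute [local instance] HasDerivedCategory.standard

namespace Groth.Agent.Lib.T2H1.TorAmpRestrict

section Ring

open Groth.Agent.Lib.Helper1.KF Groth.Agent.Lib.Helper1.DT DerivedCategory DTen

variable {A A' : Type u} [CommRing A] [CommRing A']

/-- restriction of scalars along the inverse of a bijective ring homomorphism undoes restriction -/
noncomputable def resResIso (ψ : A →+* A') (ψi : A' →+* A) (h : ψ.comp ψi = RingHom.id A') :
    ModuleCat.restrictScalars.{u} ψ ⋙ ModuleCat.restrictScalars.{u} ψi ≅ 𝟭 _ :=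
  (ModuleCat.restrictScalarsComp'.{u} ψi ψ (ψ.comp ψi) rfl).symm ≪≫
    ModuleCat.restrictScalarsId'.{u} (ψ.comp ψi) h

/-- a flat module stays flat after restriction of scalars along a bijective ring homomorphism -/
theorem flat_restrictScalars_of_bijective (ψi : A' →+* A) (hψi : Function.Bijective ψi)
    (M : ModuleCat.{u} A) [Module.Flat A M] :
    Module.Flat A' ((ModuleCat.restrictScalars.{u} ψi).obj M) := by
  letI : Algebra A' A := ψi.toAlgebra
  haveI : Module.Flat A' A := by
    let e : A' ≃ₗ[A'] A := LinearEquiv.ofBijective (Algebra.linearMap A' A) hψi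
    exact Module.Flat.of_linearEquiv e.symm
  letI : Module A' M := Module.compHom M ψi
  haveI : IsScalarTower A' A M := IsScalarTower.of_algebraMap_smul fun r m => rfl
  exact Module.Flat.trans A' A M

/-- tor amplitude can be tested after restriction of scalars along a bijective ring
homomorphism -/
theorem hasTorAmplitudeIn_of_bijective (ψ : A →+* A') (hψ : Function.Bijective ψ) (K : Cx A')
    (a b : ℤ) (h : DRing.HasTorAmplitudeIn A a b (Q.obj ((resCx ψ).obj K))) :
    DRing.HasTorAmplitudeIn A' a b (Q.obj K) := by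
  obtain ⟨E, hE, hEf, ⟨e⟩⟩ := h
  let eq : A ≃+* A' := RingEquiv.ofBijective ψ hψ
  let ψi : A' →+* A := eq.symm.toRingHom
  have hcomp : ψ.comp ψi = RingHom.id A' := by
    ext x
    exact eq.apply_symm_apply x
  have hψi : Function.Bijective ψi := eq.symm.bijective
  refine ⟨(resCx ψi).obj E, ?_, ?_, ⟨?_⟩⟩
  · intro i hi
    exact (ModuleCat.restrictScalars.{u} ψi).map_isZero (hE i hi)
  · intro i
    haveI : Module.Flat A (E.X i) := hEf i
    exact flat_restrictScalars_of_bijective ψi hψi (E.X i)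
  · exact ((resFactors ψi).app E).symm ≪≫ (DRing.restrictD ψi).mapIso e ≪≫
      (resFactors ψi).app _ ≪≫
      Q.mapIso ((NatIso.mapHomologicalComplex (resResIso ψ ψi hcomp) (ComplexShape.up ℤ)).app K)

end Ring

section Sch

open Groth.Agent.Lib.Helper1.KF Groth.Agent.Lib.Helper1.DT DerivedCategory DTen
  Groth.Agent.Lib.Helper1.Sky Groth.Agent.Lib.Helper1.KBC Groth.Agent.Lib.Helper1.BKF
  Groth.Agent.Lib.T2H2.TorAmpComp Groth.Agent.Lib.T2H1.StalkTorAmp
  Groth.Agent.Lib.T2H1.LpullTorAmp Groth.Agent.Lib.T2H1.LpullTensorTorAmp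
  Groth.Agent.Lib.T2H1.TorAmpQCoh

variable {U X Y Z : Scheme.{u}}

/-- tor amplitude relative to `f ≫ j`, with `j` an open immersion, is tor amplitude relative
to `f` -/
theorem hasTorAmplitude_of_comp_openImmersion (f : X ⟶ Y) (j : Y ⟶ Z) [IsOpenImmersion j]
    (G : CochainComplex X.Modules ℤ) (a b : ℤ) (h : DerSch.HasTorAmplitude (f ≫ j) a b G) :
    DerSch.HasTorAmplitude f a b G := by
  intro x
  have hb : Function.Bijective (phi f j x) :=
    ConcreteCategory.bijective_of_isIso (j.stalkMap (f.base x))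
  apply hasTorAmplitudeIn_of_bijective (phi f j x) hb
  refine Groth.Agent.Lib.Helper1.Tor.hasTorAmp_of_iso ?_ (h x)
  exact Q.mapIso ((NatIso.mapHomologicalComplex (stalkOverCompIso f j x)
    (ComplexShape.up ℤ)).app G).symm

variable (j : U ⟶ X) [IsOpenImmersion j] (f : X ⟶ Y) (u : U)

/-- the unit of extension/restriction of scalars along a bijective ring homomorphism -/
noncomputable def extResUnitIso {O O' : Type u} [CommRing O] [CommRing O'] (φ : O →+* O')
    (hφ : Function.Bijective φ) :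
    𝟭 (ModuleCat.{u} O) ≅
      ModuleCat.extendScalars.{u, u, u} φ ⋙ ModuleCat.restrictScalars.{u} φ :=
  haveI := isEquivalence_extendScalars_of_bijective φ hφ
  asIso (ModuleCat.extendRestrictScalarsAdj.{u, u, u} φ).unit

/-- the stalks of a restriction to an open subscheme, as modules over the local ring of the
ambient scheme -/
noncomputable def restrictStalkIso :
    (Scheme.Modules.restrictFunctor j ⋙ stalkFun u) ⋙
      ModuleCat.restrictScalars.{u} (phiF j u) ≅ stalkFun (j u) :=
  Functor.isoWhiskerRight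
    (Functor.isoWhiskerRight (Scheme.Modules.restrictFunctorIsoPullback j) (stalkFun u) ≪≫
      stalkPullbackIso j u) _ ≪≫
    Functor.associator _ _ _ ≪≫
    Functor.isoWhiskerLeft (stalkFun (j u))
      (extResUnitIso (phiF j u) (ConcreteCategory.bijective_of_isIso (j.stalkMap u))).symm ≪≫
    Functor.rightUnitor _

/-- the stalks of a restriction to an open subscheme, as modules over the local ring of the
base -/
noncomputable def restrictStalkOverIso :
    Scheme.Modules.restrictFunctor j ⋙ DerSch.stalkOver (j ≫ f) u ≅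
      DerSch.stalkFunctor X (j u) ⋙ ModuleCat.restrictScalars.{u} (phi j f u) :=
  Functor.isoWhiskerLeft _ (stalkOverIso j f u) ≪≫
    (Functor.associator _ _ _).symm ≪≫
    Functor.isoWhiskerRight ((Functor.associator _ _ _).symm ≪≫ restrictStalkIso j u ≪≫
      (stalkFunctorIso (j u)).symm) _

/-- tor amplitude relative to `f` restricts to open subschemes of the source -/
theorem hasTorAmplitude_restrict (F : CochainComplex X.Modules ℤ) (a b : ℤ)
    (h : DerSch.HasTorAmplitude f a b F) :
    DerSch.HasTorAmplitude (j ≫ f) a b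
      (((Scheme.Modules.restrictFunctor j).mapHomologicalComplex (ComplexShape.up ℤ)).obj F) := by
  intro u
  have h1 : DRing.HasTorAmplitudeIn (Y.presheaf.stalk ((j ≫ f).base u)) a b
      (Q.obj ((resCx (phi j f u)).obj
        (((DerSch.stalkFunctor X (j u)).mapHomologicalComplex (ComplexShape.up ℤ)).obj F))) :=
    h (j u)
  refine Groth.Agent.Lib.Helper1.Tor.hasTorAmp_of_iso ?_ h1
  exact Q.mapIso ((NatIso.mapHomologicalComplex (restrictStalkOverIso j f u)
    (ComplexShape.up ℤ)).app F).symm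

/-- the cohomology sheaves of `Lf^* M ⊗^L G` vanish outside the tor amplitude of `G` relative
to `f` -/
theorem isZero_HD_LTensorCx_Lpull_inD (f : X ⟶ Y) (G : CochainComplex X.Modules ℤ) (m n : ℤ)
    (hG : DerSch.HasTorAmplitude f m n G) (M : Y.Modules) [DCoh.HasLpull f]
    [DCoh.HasLTensorCx G] (i : ℤ) (hi : i < m ∨ n < i) :
    IsZero (DCoh.HD ((DCoh.LTensorCx G).obj ((DCoh.Lpull f).obj (DCoh.inD Y M))) i) := by
  obtain ⟨P, q, hP, -, hq, -⟩ : ∃ (P : CochainComplex Y.Modules ℤ)
      (q : P ⟶ (HomologicalComplex.single Y.Modules (ComplexShape.up ℤ) 0).obj M),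
      DCoh.IsKFlat P ∧ (∀ n : ℤ, ModSite.IsFlat (O := Y.sheaf) (P.X n)) ∧ QuasiIso q ∧
        ∀ n : ℤ, Epi (q.f n) := exists_kflat_flat_resolution Y.sheaf _
  haveI hqq : QuasiIso q := hq
  haveI hqi : IsIso (DerivedCategory.Q.map q) := by
    rw [DerivedCategory.isIso_Q_map_iff_quasiIso]; exact hq
  have eP : DCoh.toD Y P ≅ DCoh.inD Y M :=
    asIso (DerivedCategory.Q.map q) ≪≫
      ((DerivedCategory.singleFunctorIsoCompQ Y.Modules 0).app M).symm
  have hPf : DCoh.IsKFlat ((pullC f).obj P) := Groth.Agent.S0960.isKFlat_pullC f P hP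
  haveI hI1 : ModSite.HasLTensorCx (O := X.sheaf) G := (inferInstance : DCoh.HasLTensorCx G)
  have i0 : (DCoh.LTensorCx G).obj (DerivedCategory.Q.obj ((pullC f).obj P)) ≅
      DerivedCategory.Q.obj ((DCoh.tensorCx.obj ((pullC f).obj P)).obj G) :=
    lTensorCxIsoOfIsKFlat (O := X.sheaf) G ((pullC f).obj P) hPf
  have e1 : (DCoh.LTensorCx G).obj ((DCoh.Lpull f).obj (DCoh.inD Y M)) ≅
      DerivedCategory.Q.obj ((DCoh.tensorCx.obj ((pullC f).obj P)).obj G) :=
    (DCoh.LTensorCx G).mapIso ((DCoh.Lpull f).mapIso eP.symm ≪≫ lpullIsoK f P hP) ≪≫ i0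
  refine IsZero.of_iso ?_ ((DerivedCategory.homologyFunctor X.Modules i).mapIso e1 ≪≫
    (DerivedCategory.homologyFunctorFactors X.Modules i).app _)
  apply isZero_of_forall_isZero_stalk
  intro x
  -- the stalks of `G` over the local ring of `Y`
  have hF1 : DRing.HasTorAmplitudeIn (Groth.Agent.Lib.Helper1.Sky.Ox (f x)) m n
      (Q.obj ((resCx (phiF f x)).obj
        (((DerSch.stalkFunctor X x).mapHomologicalComplex (ComplexShape.up ℤ)).obj G))) := hG x
  have hN : DRing.HasTorAmplitudeIn (Groth.Agent.Lib.Helper1.Sky.Ox (f x)) m n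
      (Q.obj ((resCx (phiF f x)).obj ((stalkC x).obj G))) :=
    Groth.Agent.Lib.Helper1.Tor.hasTorAmp_of_iso
      (Q.mapIso ((resCx (phiF f x)).mapIso
        ((NatIso.mapHomologicalComplex (stalkFunctorIso x) (ComplexShape.up ℤ)).app G))) hF1
  have hPy : KFlat ((stalkC (f x)).obj P) := fun L hL => rKFlat_stalk_of_isKFlat (f x) P hP L hL
  -- the stalk of the resolution
  have hqx : QuasiIso ((stalkC (f x)).map q) :=
    HomologicalComplex.quasiIso_map_of_preservesHomology q (stalkFun (f x))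
  let π : (stalkC (f x)).obj P ⟶ sgl ((stalkFun (f x)).obj M) :=
    (stalkC (f x)).map q ≫
      (HomologicalComplex.singleMapHomologicalComplex (stalkFun (f x)) (ComplexShape.up ℤ) 0).hom.app M
  haveI hπ : QuasiIso π := by
    dsimp only [π]
    infer_instance
  have hex := Groth.Agent.Lib.T2H4.TorRes.mix_of_hasTorAmp' (phiF f x) ((stalkC x).obj G) m n hN
    ((stalkFun (f x)).obj M) ((stalkC (f x)).obj P) hPy π i hi
  rw [HomologicalComplex.exactAt_iff_isZero_homology] at hex
  -- the stalk of the tensor product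
  obtain ⟨t⟩ := nonempty_stalkTotIso x ((pullC f).obj P) G
  have ePx : (stalkC x).obj ((pullC f).obj P) ≅ (extCx (phiF f x)).obj ((stalkC (f x)).obj P) :=
    (NatIso.mapHomologicalComplex (stalkPullbackIso f x) (ComplexShape.up ℤ)).app P
  have eT : (stalkC x).obj ((DCoh.tensorCx.obj ((pullC f).obj P)).obj G) ≅
      ((stalkC x).obj G ⊗ (extCx (phiF f x)).obj ((stalkC (f x)).obj P) : Cx _) :=
    t ≪≫ whiskerRightIso ePx ((stalkC x).obj G) ≪≫ swapIso _ _
  have h2 : IsZero (((stalkC x).obj ((DCoh.tensorCx.obj ((pullC f).obj P)).obj G)).homology i) :=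
    IsZero.of_iso hex ((HomologicalComplex.homologyFunctor _ _ i).mapIso eT)
  exact IsZero.of_iso h2
    ((((DCoh.tensorCx.obj ((pullC f).obj P)).obj G).sc i).mapHomologyIso (stalkFun x)).symm

/-- S6241: the cohomology sheaves of `L(f|)^* M ⊗^L F|` vanish outside the tor amplitude of `F`
relative to `f` -/
theorem isZero_HD_LTensorCx_Lpull_restrict (f : X ⟶ Y) (F : CochainComplex X.Modules ℤ)
    (m n : ℤ) (hF : DerSch.HasTorAmplitude f m n F) (V : Y.Opens)
    (M : (V : Scheme.{u}).Modules) [DCoh.HasLpull (f ∣_ V)]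
    [DCoh.HasLTensorCx ((DCoh.restrictCx (f ⁻¹ᵁ V)).obj F)] (i : ℤ) (hi : i < m ∨ n < i) :
    IsZero (DCoh.HD ((DCoh.LTensorCx ((DCoh.restrictCx (f ⁻¹ᵁ V)).obj F)).obj
      ((DCoh.Lpull (f ∣_ V)).obj (DCoh.inD (V : Scheme.{u}) M))) i) := by
  have h1 : DerSch.HasTorAmplitude ((f ⁻¹ᵁ V).ι ≫ f) m n ((DCoh.restrictCx (f ⁻¹ᵁ V)).obj F) :=
    hasTorAmplitude_restrict (f ⁻¹ᵁ V).ι f F m n hF
  have h2 : DerSch.HasTorAmplitude ((f ∣_ V) ≫ V.ι) m n ((DCoh.restrictCx (f ⁻¹ᵁ V)).obj F) := by
    rw [morphismRestrict_ι]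
    exact h1
  have h3 : DerSch.HasTorAmplitude (f ∣_ V) m n ((DCoh.restrictCx (f ⁻¹ᵁ V)).obj F) :=
    hasTorAmplitude_of_comp_openImmersion (f ∣_ V) V.ι _ m n h2
  exact isZero_HD_LTensorCx_Lpull_inD (f ∣_ V) _ m n h3 M i hi

end Sch

end Groth.Agent.Lib.T2H1.TorAmpRestrict
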