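import Groth.Agent.Lib.T2H2AffRedC
import Groth.Agent.S5611

/-!
# Flat amplitude `[a, b]` and `(a - 1)`-pseudo-coherent implies perfect, on schemes (T2H2)
-/

set_option autoImplicit false
set_option linter.style.haveILetI false
universe u
open CategoryTheory CategoryTheory.Limits AlgebraicGeometry Opposite

attribute [local instance] HasDerivedCategory.standard

namespace Groth.Agent.Lib.T2H2.AffRed

open Groth.Agent.Lib.T2H8.SchLocHtpy Groth.Agent.Lib.T2H8.PerfLocal
  Groth.Agent.Lib.T2H8.PCohTriangle Groth.Agent.Lib.T2H2.TildeLoc DerivedCategory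

variable {X : Scheme.{u}}

/-- zero modules are quasi-coherent -/
theorem isQuasicoherent_of_isZero {M : X.Modules} (h : IsZero M) : M.IsQuasicoherent := by
  haveI : (SheafOfModules.free (R := X.ringCatSheaf) PUnit.{u + 1}).IsQuasicoherent :=
    inferInstance
  exact Groth.Agent.Lib.T2H8.PCohQCoh.isQCoh_of_iso ((isZero_kernel_of_mono
    (𝟙 (SheafOfModules.free (R := X.ringCatSheaf) PUnit.{u + 1}))).iso h)
    (Groth.Agent.Lib.Helper23.QCohLocal.isQuasicoherent_kernel _)

/-- an object with flat amplitude in `[a, b]` which is `(a - 1)`-pseudo-coherent has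
quasi-coherent cohomology sheaves -/
theorem isQCohD_of_flatAmplitude_of_pc (E : DCoh.D X) (a b : ℤ)
    (h1 : DCoh.HasFlatAmplitudeIn a b E) (h2 : DCoh.IsPseudoCoherentD (a - 1) E) :
    DCoh.IsQCohD E := by
  intro i
  by_cases hi : a ≤ i
  · exact (Groth.Agent.Lib.T2H8.PCohQCoh.main_S7240 (a - 1) E h2).1 i (by omega)
  · obtain ⟨F, hF, -, ⟨e⟩⟩ := h1
    haveI : F.IsStrictlyGE a := by
      rw [CochainComplex.isStrictlyGE_iff]
      exact fun k hk => hF k (Or.inl hk)
    haveI : (Q.obj F).IsGE a := inferInstance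
    haveI : E.IsGE a := DerivedCategory.TStructure.t.isGE_of_iso e a
    exact isQuasicoherent_of_isZero (DerivedCategory.isZero_of_isGE E a i (by omega))

/-- flat amplitude in `[a, b]` and `(a - 1)`-pseudo-coherent implies perfect -/
theorem isPerfect_of_flatAmplitude_of_pc (E : DCoh.D X) (a b : ℤ)
    (h1 : DCoh.HasFlatAmplitudeIn a b E) (h2 : DCoh.IsPseudoCoherentD (a - 1) E) :
    DCoh.IsPerfect E := by
  have hqE : DCoh.IsQCohD E := isQCohD_of_flatAmplitude_of_pc E a b h1 h2
  rw [isPerfect_iff]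
  intro x
  obtain ⟨A, _, k, _, x', hx'⟩ := exists_affine_chart x
  obtain ⟨M, ⟨eM⟩⟩ := exists_tildeD_iso A ((rD k).obj E) (isQCohD_rD k E hqE)
  have hMpc : DRing.IsPseudoCoherent A (a - 1) M :=
    isPC_of_isPseudoCoherentD_tildeD A M (a - 1)
      (isPseudoCoherentD_of_iso eM.symm (a - 1) (isPseudoCoherentD_rD k (a - 1) E h2))
  have hMt : DRing.HasTorAmplitudeIn A a b M :=
    hasTorAmp_of_hasFlatAmplitudeIn_tildeD A M a b
      (hasFlatAmplitudeIn_of_iso eM.symm a b (hasFlatAmplitudeIn_rD k E a b h1))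
  have hM : DRing.IsPerfect A M := Groth.Agent.S5611.isPerfect_of_pc_of_torAmp M a b hMpc hMt
  have h3 : DCoh.IsPerfect ((rD k).obj E) :=
    isPerfect_of_iso eM (isPerfect_tildeD_of_isPerfect A M hM)
  rw [← hx']
  exact locPerf_of_isPerfect_rD k E x' h3

end Groth.Agent.Lib.T2H2.AffRed
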