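import Mathlib
import Groth.Prelude.Def_DCoh3
import Groth.Prelude.Def_DualSh
import Groth.Agent.Lib.T2H1TildeTorAmp
import Groth.Agent.Lib.T2H1TorAmpRestrict
import Groth.Agent.Lib.T2H2AffRedF
import Groth.Agent.Lib.Helper2FlatOver
import Groth.Agent.Lib.Helper2PullbackSec2
import Groth.Agent.S6938
set_option backward.isDefEq.respectTransparency.types false

/-!
# Relative perfection of `M~` over `Spec A ⟶ Spec R` (helper1, second team)
-/

set_option autoImplicit false
set_option linter.style.haveILetI false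
universe u
open CategoryTheory CategoryTheory.Limits AlgebraicGeometry HomologicalComplex

attribute [local instance] HasDerivedCategory.standard

namespace Groth.Agent.Lib.T2H1.RelPerfTilde

section Ring

open Groth.Agent.Lib.Helper1.KF Groth.Agent.Lib.Helper1.DT DerivedCategory DTen
  Groth.Agent.Lib.Helper1.Tor Groth.Agent.Lib.T2H4.TorRes

variable {R A : Type u} [CommRing R] [CommRing A] (φ : R →+* A)

/-- monotonicity of tor amplitude -/
theorem hasTorAmp_mono {K : Dual.D R} {a b a' b' : ℤ} (ha : a' ≤ a) (hb : b ≤ b')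
    (h : DRing.HasTorAmplitudeIn R a b K) : DRing.HasTorAmplitudeIn R a' b' K := by
  obtain ⟨E, hE, hEf, he⟩ := h
  exact ⟨E, fun i hi => hE i (by omega), hEf, he⟩

/-- a complex of `A`-modules whose restriction to `R` has tor amplitude in `[a, b]` is
represented by a complex of `A`-modules in `[a, b]` with `R`-flat terms (for `A` flat over
`R`) -/
theorem exists_relFlat_rep (hφ : φ.Flat) (M : Dual.D A) (a b : ℤ)
    (h : DRing.HasTorAmplitudeIn R a b ((DRing.restrictD φ).obj M)) :
    ∃ G : Cx A, DRing.VanishesOutside G a b ∧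
      (∀ i : ℤ, Module.Flat R ((ModuleCat.restrictScalars.{u} φ).obj (G.X i))) ∧
      Nonempty (Q.obj G ≅ M) := by
  obtain ⟨E, hE, hEf, ⟨e⟩⟩ := h
  let K : Cx A := (Q : Cx A ⥤ Dual.D A).objPreimage M
  have eK : Q.obj K ≅ M := (Q : Cx A ⥤ Dual.D A).objObjPreimageIso M
  have e1 : Q.obj E ≅ Q.obj ((resCx φ).obj K) :=
    e ≪≫ (DRing.restrictD φ).mapIso eK.symm ≪≫ (resFactors φ).app K
  -- `K` is exact above `b`
  have hKex : ∀ i : ℤ, b < i → K.ExactAt i := by
    intro i hi
    rw [← exactAt_resCx_iff φ, exactAt_iff_isZero_homology]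
    have hz : IsZero (E.homology i) :=
      Groth.Agent.Lib.Helper1.CI.isZero_homology_of_isZero_X _ i (hE i (Or.inr hi))
    exact IsZero.of_iso hz
      (((DerivedCategory.homologyFunctorFactors _ i).app _).symm ≪≫
        (DerivedCategory.homologyFunctor _ i).mapIso e1.symm ≪≫
        (DerivedCategory.homologyFunctorFactors _ i).app _)
  have hKle : K.IsLE b := by
    rw [CochainComplex.isLE_iff]
    exact hKex
  haveI : (Q.obj K).IsLE b := (DerivedCategory.isLE_Q_obj_iff _ _).2 hKle
  obtain ⟨P, hPle, hPproj, ⟨eP⟩⟩ :=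
    Groth.Agent.Lib.Helper1.ProjRes.exists_iso_Q_proj (Q.obj K) b
  -- the restriction of `P` to `R`
  have hPb : DRing.VanishesAbove ((resCx φ).obj P) b := fun i hi =>
    (ModuleCat.restrictScalars.{u} φ).map_isZero (P.isZero_of_isStrictlyLE b i hi)
  have hPf : DRing.TermwiseFlat ((resCx φ).obj P) := by
    intro i
    haveI := hPproj i
    haveI : Module.Projective A (P.X i) := ModuleCat.projective_of_module_projective _
    letI : Algebra R A := φ.toAlgebra
    haveI : Module.Flat R A := hφ
    letI : Module R (P.X i) := Module.compHom (P.X i) φ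
    haveI : IsScalarTower R A (P.X i) := IsScalarTower.of_algebraMap_smul fun r m => rfl
    exact Module.Flat.trans R A (P.X i)
  have e2 : Q.obj E ≅ Q.obj ((resCx φ).obj P) :=
    e1 ≪≫ ((resFactors φ).app K).symm ≪≫ (DRing.restrictD φ).mapIso eP.symm ≪≫
      (resFactors φ).app P
  have htv : TorVan ((resCx φ).obj P) a b :=
    torVan_of_iso ((resCx φ).obj P) E b hPb hPf a b hE hEf e2
  -- truncation below
  have hPge : CochainComplex.IsGE P a := by
    rw [CochainComplex.isGE_iff]
    intro i hi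
    rw [← exactAt_resCx_iff φ]
    exact htv.exactAt i (Or.inl hi)
  have hq : QuasiIso (P.πTruncGE a) := (P.quasiIso_πTruncGE_iff a).2 hPge
  have hiso : IsIso (Q.map (P.πTruncGE a)) :=
    (DerivedCategory.isIso_Q_map_iff_quasiIso (φ := P.πTruncGE a)).2 hq
  refine ⟨P.truncGE a, ?_, ?_, ⟨(asIso (Q.map (P.πTruncGE a))).symm ≪≫ eP ≪≫ eK⟩⟩
  · intro i hi
    rcases hi with hi | hi
    · exact (P.truncGE a).isZero_of_isStrictlyGE a i hi
    · obtain hia | rfl | hia := lt_trichotomy i a
      · exact (P.truncGE a).isZero_of_isStrictlyGE a i hia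
      · have hz : IsZero (P.X i) := P.isZero_of_isStrictlyLE b i hi
        have hz' : IsZero (P.opcycles i) := by
          rw [IsZero.iff_id_eq_zero, ← cancel_epi (P.pOpcycles i)]
          exact hz.eq_of_src _ _
        exact hz'.of_iso (P.truncGEXIsoOpcycles i)
      · exact (P.isZero_of_isStrictlyLE b i hi).of_iso (P.truncGEXIso a i hia)
  · intro i
    obtain hi | rfl | hi := lt_trichotomy i a
    · have := ModuleCat.subsingleton_of_isZero ((ModuleCat.restrictScalars.{u} φ).map_isZero
        ((P.truncGE a).isZero_of_isStrictlyGE a i hi))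
      infer_instance
    · have hfl : Module.Flat R ((ModuleCat.restrictScalars.{u} φ).obj (P.opcycles i)) :=
        flat_of_torVan ((resCx φ).obj P) hPf i b htv
          ((ModuleCat.restrictScalars.{u} φ).map (P.pOpcycles i)).hom
          ((ModuleCat.epi_iff_surjective _).1 inferInstance) (fexact_d_pOpcycles P i)
      exact Module.Flat.of_linearEquiv
        ((ModuleCat.restrictScalars.{u} φ).mapIso (P.truncGEXIsoOpcycles i)).toLinearEquiv
    · haveI : Module.Flat R ((ModuleCat.restrictScalars.{u} φ).obj (P.X i)) := hPf i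
      exact Module.Flat.of_linearEquiv
        ((ModuleCat.restrictScalars.{u} φ).mapIso (P.truncGEXIso a i hi)).toLinearEquiv

end Ring

section Sch

open Groth.Agent.Lib.T2H8.SchLocHtpy Groth.Agent.Lib.T2H8.PerfLocal
  Groth.Agent.Lib.T2H8.PCohTriangle Groth.Agent.Lib.T2H2.TildeLoc Groth.Agent.Lib.T2H2.AffRed
  DerivedCategory Groth.Agent.Lib.Helper1.Sky Groth.Agent.Lib.Helper1.KBC
  Groth.Agent.Lib.T2H1.StalkTorAmp Groth.Agent.Lib.T2H1.TorAmpRestrict
  Groth.Agent.Lib.T2H1.LpullTorAmp DTen Groth.Agent.Lib.T2H2.TorAmpComp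
  Groth.Agent.Lib.T2H1.TildeTorAmp Groth.Agent.Lib.Helper1.PCTower Groth.Agent.Lib.Helper1.KF

variable {U X S : Scheme.{u}} (f : X ⟶ S)

/-- flat amplitude relative to the base gives stalkwise tor amplitude -/
theorem hasTorAmplitude_of_hasRelFlatAmplitudeIn (F : CochainComplex X.Modules ℤ) (a b : ℤ)
    (h : DCoh.HasRelFlatAmplitudeIn f a b (DCoh.toD X F)) : DerSch.HasTorAmplitude f a b F := by
  obtain ⟨E, hE, hEf, ⟨e⟩⟩ := h
  intro x
  refine ⟨(DerSch.stalkCxOver f x).obj E, ?_, ?_, nonempty_toD_stalkCxOver_iso f x e⟩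
  · intro i hi
    exact (DerSch.stalkOver f x).map_isZero (hE i hi)
  · intro i
    exact hEf i x

/-- stalkwise tor amplitude of a restriction to an open gives tor amplitude at the image point -/
theorem hasTorAmplitudeAt_of_restrict (j : U ⟶ X) [IsOpenImmersion j]
    (F : CochainComplex X.Modules ℤ) (a b : ℤ) (u : U)
    (h : DerSch.HasTorAmplitudeAt (j ≫ f) a b
      (((Scheme.Modules.restrictFunctor j).mapHomologicalComplex (ComplexShape.up ℤ)).obj F) u) :
    DerSch.HasTorAmplitudeAt f a b F (j u) := by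
  have h1 : DRing.HasTorAmplitudeIn (S.presheaf.stalk ((j ≫ f).base u)) a b
      (Q.obj ((resCx (phi j f u)).obj
        (((DerSch.stalkFunctor X (j u)).mapHomologicalComplex (ComplexShape.up ℤ)).obj F))) :=
    Groth.Agent.Lib.Helper1.Tor.hasTorAmp_of_iso
      (Q.mapIso ((NatIso.mapHomologicalComplex (restrictStalkOverIso j f u)
        (ComplexShape.up ℤ)).app F)) h
  exact h1

/-- flatness over the base is invariant under isomorphisms of modules -/
theorem isFlatOver_of_iso' {M N : X.Modules} (e : M ≅ N) (h : FlatMod.IsFlatOver f M) :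
    FlatMod.IsFlatOver f N := by
  intro x
  have h1 : Module.Flat (S.presheaf.stalk (f.base x)) ((DerSch.stalkOver f x).obj M) := h x
  have h2 : Module.Flat (S.presheaf.stalk (f.base x)) ((DerSch.stalkOver f x).obj N) :=
    Module.Flat.of_linearEquiv ((DerSch.stalkOver f x).mapIso e).toLinearEquiv.symm
  exact h2

variable (R A : Type u) [CommRing R] [CommRing A] [Algebra R A] [Module.Flat R A]

/-- S7264 -/
theorem relPerfect_tilde_iff (M : Dual.D A) :
    ((∀ m : ℤ, DCoh.IsPseudoCoherentD m ((DCoh.tildeD (CommRingCat.of A)).obj M)) ∧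
      DCoh.LocHasFiniteRelTorDim (Spec.map (CommRingCat.ofHom (algebraMap R A)))
        ((DCoh.tildeD (CommRingCat.of A)).obj M)) ↔ Dual2.IsRelPerfect R A M := by
  let K : Cx A := (Q : Cx A ⥤ Dual.D A).objPreimage M
  have eK : Q.obj K ≅ M := (Q : Cx A ⥤ Dual.D A).objObjPreimageIso M
  constructor
  · rintro ⟨hpc, htor⟩
    refine ⟨isPseudoCoherent'_of_forall M (fun m =>
      isPC_of_isPseudoCoherentD_tildeD A M m (hpc m)), ?_⟩
    let F' := tildeCx (CommRingCat.of A) K
    have eF' : DCoh.toD (Spec (CommRingCat.of A)) F' ≅ (DCoh.tildeD (CommRingCat.of A)).obj M :=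
      ((tilde.functor (CommRingCat.of A)).mapDerivedCategoryFactors.app K).symm ≪≫
        (DCoh.tildeD (CommRingCat.of A)).mapIso eK
    choose V a b hxV H using htor
    have hcov : (Set.univ : Set (Spec (CommRingCat.of A))) ⊆
        ⋃ x : Spec (CommRingCat.of A), ((V x : (Spec (CommRingCat.of A)).Opens) :
          Set (Spec (CommRingCat.of A))) := fun x _ => Set.mem_iUnion.2 ⟨x, hxV x⟩
    obtain ⟨t, ht⟩ := isCompact_univ.elim_finite_subcover
      (fun x : Spec (CommRingCat.of A) => ((V x : (Spec (CommRingCat.of A)).Opens) :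
        Set (Spec (CommRingCat.of A))))
      (fun x => (V x).isOpen) hcov
    let a0 : ℤ := -(∑ x ∈ t, |a x|)
    let b0 : ℤ := ∑ x ∈ t, |b x|
    have hab : ∀ x ∈ t, a0 ≤ a x ∧ b x ≤ b0 := by
      intro x hx
      have h1 : |a x| ≤ ∑ x ∈ t, |a x| :=
        Finset.single_le_sum (f := fun x => |a x|) (fun i _ => abs_nonneg _) hx
      have h2 : |b x| ≤ ∑ x ∈ t, |b x| :=
        Finset.single_le_sum (f := fun x => |b x|) (fun i _ => abs_nonneg _) hx
      have h3 := neg_abs_le (a x)
      have h4 := le_abs_self (b x)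
      constructor
      · show -(∑ x ∈ t, |a x|) ≤ a x
        linarith
      · show b x ≤ ∑ x ∈ t, |b x|
        linarith
    have hT : DerSch.HasTorAmplitude (sf (algebraMap R A)) a0 b0 F' := by
      intro y
      obtain ⟨x, hxt, hy⟩ : ∃ x ∈ t, y ∈ V x := by
        have := ht (Set.mem_univ y)
        simp only [Set.mem_iUnion] at this
        obtain ⟨x, hx, hy⟩ := this
        exact ⟨x, hx, hy⟩
      have h1 := H x F' ⟨eF'⟩
      have h2 := hasTorAmplitude_of_hasRelFlatAmplitudeIn ((V x).ι ≫ sf (algebraMap R A)) _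
        (a x) (b x) h1 ⟨y, hy⟩
      have h3 : DerSch.HasTorAmplitudeAt (sf (algebraMap R A)) (a x) (b x) F' y :=
        hasTorAmplitudeAt_of_restrict (sf (algebraMap R A)) (V x).ι F' (a x) (b x) ⟨y, hy⟩ h2
      exact hasTorAmp_mono (hab x hxt).1 (hab x hxt).2 h3
    exact ⟨a0, b0, (hasTorAmplitude_tilde_iff (algebraMap R A) M F' ⟨eF'⟩ a0 b0).1 hT⟩
  · rintro ⟨hpc, a, b, htor⟩
    refine ⟨fun m => isPseudoCoherentD_tildeD_of_isPC A M m
      (Groth.Agent.S6938.isPC_of_pc' M hpc m), ?_⟩
    have hφ : (algebraMap R A).Flat := (RingHom.flat_algebraMap_iff (R := R) (S := A)).2 inferInstance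
    obtain ⟨G, hG, hGf, ⟨eG⟩⟩ := exists_relFlat_rep (algebraMap R A) hφ M a b htor
    intro x
    refine ⟨⊤, a, b, trivial, fun F' ⟨eF'⟩ => ?_⟩
    refine ⟨(rC (⊤ : (Spec (CommRingCat.of A)).Opens).ι).obj (tildeCx (CommRingCat.of A) G),
      ?_, ?_, ⟨?_⟩⟩
    · intro i hi
      exact (Scheme.Modules.restrictFunctor (⊤ : (Spec (CommRingCat.of A)).Opens).ι).map_isZero
        ((tilde.functor (CommRingCat.of A)).map_isZero (hG i hi))
    · intro i
      have h1 : FlatMod.IsFlatOver (Spec.map (CommRingCat.ofHom (algebraMap R A)))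
          (tilde (R := CommRingCat.of A) (G.X i)) :=
        (Groth.Agent.Lib.Helper2.FlatOver.tilde_isFlatOver_iff
          (CommRingCat.ofHom (algebraMap R A)) (G.X i)
          (N := (ModuleCat.restrictScalars.{u} (algebraMap R A)).obj (G.X i))
          (AddEquiv.refl _) (fun r n => rfl)).2 (hGf i)
      haveI : (tilde (R := CommRingCat.of A) (G.X i)).IsQuasicoherent := inferInstance
      have h2 : FlatMod.IsFlatOver ((⊤ : (Spec (CommRingCat.of A)).Opens).ι ≫
          Spec.map (CommRingCat.ofHom (algebraMap R A)))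
          ((Scheme.Modules.pullback (⊤ : (Spec (CommRingCat.of A)).Opens).ι).obj
            (tilde (R := CommRingCat.of A) (G.X i))) := fun y =>
        (Groth.Agent.Lib.Helper2.PullbackSec.isFlatOverAt_pullback_iff
          (⊤ : (Spec (CommRingCat.of A)).Opens).ι _ (tilde (R := CommRingCat.of A) (G.X i)) y
          (RingHom.Flat.of_bijective (ConcreteCategory.bijective_of_isIso
            ((⊤ : (Spec (CommRingCat.of A)).Opens).ι.stalkMap y)))).1 (h1 _)
      exact isFlatOver_of_iso' _
        ((Scheme.Modules.restrictFunctorIsoPullback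
          (⊤ : (Spec (CommRingCat.of A)).Opens).ι).app (tilde (R := CommRingCat.of A) (G.X i))).symm h2
    · exact ((Scheme.Modules.restrictFunctor
          (⊤ : (Spec (CommRingCat.of A)).Opens).ι).mapDerivedCategoryFactors.app (tildeCx (CommRingCat.of A) G)).symm ≪≫
        (rD (⊤ : (Spec (CommRingCat.of A)).Opens).ι).mapIso
          (((tilde.functor (CommRingCat.of A)).mapDerivedCategoryFactors.app G).symm ≪≫
            (DCoh.tildeD (CommRingCat.of A)).mapIso eG ≪≫ eF'.symm) ≪≫
        (Scheme.Modules.restrictFunctor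
          (⊤ : (Spec (CommRingCat.of A)).Opens).ι).mapDerivedCategoryFactors.app F'

end Sch

end Groth.Agent.Lib.T2H1.RelPerfTilde
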