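import Mathlib

/-!
# Homology commutes with exact functors and with exact coproducts
-/

set_option autoImplicit false
universe u v w
open CategoryTheory CategoryTheory.Limits

namespace Groth.Agent.Lib.T2H8.HomologyCoprod

section Exact

variable {A B : Type*} [Category A] [Abelian A] [Category B] [Abelian B] (G : A ⥤ B) [G.Additive]
  [G.PreservesHomology]

/-- an exact functor commutes with the homology of complexes -/
noncomputable def homologyMapIso (K : CochainComplex A ℤ) (j : ℤ) :
    ((G.mapHomologicalComplex (ComplexShape.up ℤ)).obj K).homology j ≅ G.obj (K.homology j) :=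
  (K.sc j).mapHomologyIso G

end Exact

section Coprod

variable {A : Type u} [Category.{v} A] [Abelian A] {ι : Type w} [HasColimitsOfShape (Discrete ι) A]
  [HasExactColimitsOfShape (Discrete ι) A] (F : ι → CochainComplex A ℤ)

/-- the family of complexes as a complex of families -/
noncomputable def famCx : CochainComplex (Discrete ι ⥤ A) ℤ where
  X n := Discrete.functor (fun i => (F i).X n)
  d n m := Discrete.natTrans (fun i => (F i.as).d n m)
  shape n m h := by
    ext ⟨i⟩
    exact (F i).shape n m h
  d_comp_d' n m k _ _ := by
    ext ⟨i⟩
    exact (F i).d_comp_d n m k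

/-- the degreewise coproduct of a family of complexes -/
noncomputable def sigmaCx : CochainComplex A ℤ :=
  ((colim : (Discrete ι ⥤ A) ⥤ A).mapHomologicalComplex (ComplexShape.up ℤ)).obj (famCx F)

/-- the inclusions into the degreewise coproduct -/
noncomputable def sigmaCxι (i : ι) : F i ⟶ sigmaCx F where
  f n := Sigma.ι (fun i => (F i).X n) i
  comm' n m _ := by
    have h := ι_colimMap (Discrete.natTrans (fun i => (F i.as).d n m) :
      Discrete.functor (fun i => (F i).X n) ⟶ Discrete.functor (fun i => (F i).X m)) ⟨i⟩
    exact h

/-- the degreewise coproduct is a coproduct of complexes -/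
noncomputable def isColimitSigmaCx : IsColimit (Cofan.mk (sigmaCx F) (sigmaCxι F)) :=
  HomologicalComplex.isColimitOfEval _ _ (fun n =>
    { desc := fun t => Sigma.desc (f := fun i => (F i).X n) (fun i => t.ι.app ⟨i⟩)
      fac := fun t => by
        rintro ⟨i⟩
        exact Sigma.ι_desc (f := fun i => (F i).X n) _ i
      uniq := fun t m hm => by
        apply Sigma.hom_ext (f := fun i => (F i).X n)
        intro i
        refine (hm ⟨i⟩).trans ?_
        exact (Sigma.ι_desc (f := fun i => (F i).X n) (fun i => t.ι.app ⟨i⟩) i).symm })

/-- the coproduct of a family of complexes is the degreewise coproduct -/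
noncomputable def sigmaIso [HasCoproduct F] : (∐ F : CochainComplex A ℤ) ≅ sigmaCx F :=
  (coproductIsCoproduct F).coconePointUniqueUpToIso (isColimitSigmaCx F)

/-- the homology of the degreewise coproduct is the coproduct of the homologies -/
noncomputable def sigmaHomologyIso (j : ℤ) :
    (sigmaCx F).homology j ≅ colimit ((famCx F).homology j) :=
  homologyMapIso (colim : (Discrete ι ⥤ A) ⥤ A) (famCx F) j

/-- evaluating the complex of families -/
noncomputable def evalFamCx (i : ι) :
    (((evaluation (Discrete ι) A).obj ⟨i⟩).mapHomologicalComplex (ComplexShape.up ℤ)).obj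
      (famCx F) ≅ F i :=
  HomologicalComplex.Hom.isoOfComponents (fun n => Iso.refl _) (by
    intro n m _
    refine (Category.id_comp _).trans (Eq.trans ?_ (Category.comp_id _).symm)
    rfl)

/-- the homology of the complex of families is the family of homologies -/
noncomputable def famHomologyIso (j : ℤ) (i : ι) :
    ((famCx F).homology j).obj ⟨i⟩ ≅ (F i).homology j :=
  (homologyMapIso ((evaluation (Discrete ι) A).obj ⟨i⟩) (famCx F) j).symm ≪≫
    (HomologicalComplex.homologyFunctor A (ComplexShape.up ℤ) j).mapIso (evalFamCx F i)

end Coprod

end Groth.Agent.Lib.T2H8.HomologyCoprod
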