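import Mathlib
import Groth.Prelude.Def_DCoh2
import Groth.Prelude.Def_CxOX
import Groth.Agent.Lib.Helper2LocFree
import Groth.Agent.Lib.Helper18Strict6
import Groth.Agent.Lib.Helper23QCohAbelian
import Groth.Agent.Lib.T2H8HomologyCoprod

/-!
# Cohomology sheaves of pseudo-coherent objects are quasi-coherent in high degrees
-/

set_option autoImplicit false
universe u
open CategoryTheory CategoryTheory.Limits AlgebraicGeometry

namespace Groth.Agent.Lib.T2H8.PCohQCoh

open Groth.Agent.Lib.T2H8.HomologyCoprod Groth.Agent.Lib.Helper23.QCohLocal DerivedCategory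

attribute [local instance] HasDerivedCategory.standard

variable {X : Scheme.{u}}

lemma isQCoh_of_iso {M N : X.Modules} (e : M ≅ N) (hM : M.IsQuasicoherent) : N.IsQuasicoherent :=
  (SheafOfModules.isQuasicoherent X.ringCatSheaf).prop_of_iso e hM

/-- quasi-coherence is local for the Zariski topology -/
theorem isQCoh_of_locally (M : X.Modules)
    (h : ∀ x : X, ∃ V : X.Opens, x ∈ V ∧ (M.restrict V.ι).IsQuasicoherent) :
    M.IsQuasicoherent := by
  choose V hxV hV using h
  have hW : ∀ x : X, ∃ W : X.Opens, IsAffineOpen W ∧ x ∈ W ∧ W ≤ V x := by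
    intro x
    obtain ⟨W, hW, hxW, hWV⟩ := (X.isBasis_affineOpens).exists_subset_of_mem_open (hxV x)
      (V x).isOpen
    obtain ⟨W', hW', rfl⟩ := hW
    exact ⟨W', hW', hxW, hWV⟩
  choose W hWa hxW hWV using hW
  refine isQuasicoherent_of_affine_cover M W ?_ hWa (fun x => ?_)
  · rw [TopologicalSpace.IsOpenCover, eq_top_iff]
    intro x _
    exact TopologicalSpace.Opens.mem_iSup.2 ⟨x, hxW x⟩
  · have hr : Set.range (hWa x).fromSpec ⊆ Set.range (V x).ι := by
      rw [(hWa x).range_fromSpec, Scheme.Opens.range_ι]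
      exact hWV x
    let l := IsOpenImmersion.lift (V x).ι (hWa x).fromSpec hr
    have hl : l ≫ (V x).ι = (hWa x).fromSpec := IsOpenImmersion.lift_fac _ _ hr
    haveI : IsOpenImmersion (l ≫ (V x).ι) := by
      rw [hl]
      infer_instance
    haveI : IsOpenImmersion l := IsOpenImmersion.of_comp l (V x).ι
    haveI := hV x
    have h1 : ((M.restrict (V x).ι).restrict l).IsQuasicoherent := inferInstance
    exact isQCoh_of_iso ((Scheme.Modules.restrictFunctorCongr hl.symm ≪≫
      Scheme.Modules.restrictFunctorComp l (V x).ι).app M).symm h1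

/-- the homology of a complex with quasi-coherent terms is quasi-coherent -/
theorem isQCoh_homology (P : CochainComplex X.Modules ℤ) (hP : ∀ i, (P.X i).IsQuasicoherent)
    (i : ℤ) : (P.homology i).IsQuasicoherent := by
  haveI : ((P.sc i).X₁).IsQuasicoherent := hP _
  haveI : ((P.sc i).X₂).IsQuasicoherent := hP _
  haveI : ((P.sc i).X₃).IsQuasicoherent := hP _
  haveI h1 : (kernel (P.sc i).g).IsQuasicoherent := isQuasicoherent_kernel (P.sc i).g
  have h2 : (cokernel (kernel.lift (P.sc i).g (P.sc i).f (P.sc i).zero)).IsQuasicoherent :=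
    isQuasicoherent_cokernel _
  exact isQCoh_of_iso (P.sc i).homologyIsoCokernelLift.symm h2

lemma isQCoh_of_isFinLocFree (M : X.Modules) (h : FlatMod.IsFinLocFree M) :
    M.IsQuasicoherent :=
  Groth.Agent.Helper18Strict.isQCoh_of_isFP M
    (Groth.Agent.Lib.Helper2.LocFree.isFP_of_isFinLocFree M h)

/-- restriction to an open commutes with cohomology sheaves -/
noncomputable def restrictHDIso (V : X.Opens) (F : CochainComplex X.Modules ℤ) (i : ℤ) :
    DCoh.HD (Q.obj ((DCoh.restrictCx V).obj F)) i ≅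
      (Scheme.Modules.restrictFunctor V.ι).obj (DCoh.HD (Q.obj F) i) :=
  (DerivedCategory.homologyFunctorFactors _ i).app _ ≪≫
    homologyMapIso (Scheme.Modules.restrictFunctor V.ι) F i ≪≫
    (Scheme.Modules.restrictFunctor V.ι).mapIso
      ((DerivedCategory.homologyFunctorFactors X.Modules i).app F).symm

theorem main_S7240 {X : Scheme.{u}} (m : ℤ) (E : DCoh.D X)
    (hE : DCoh.IsPseudoCoherentD m E) :
    (∀ i : ℤ, m < i → Coh.IsQCoh (DCoh.HD E i)) ∧
      ∀ x : X, ∃ (V : X.Opens) (Q : (V : Scheme.{u}).Modules)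
        (π : Q ⟶ (Scheme.Modules.restrictFunctor V.ι).obj (DCoh.HD E m)), x ∈ V ∧ Coh.IsQCoh Q ∧ Epi π := by
  let F := (DerivedCategory.Q : _ ⥤ DCoh.D X).objPreimage E
  let e : DerivedCategory.Q.obj F ≅ E := DerivedCategory.Q.objObjPreimageIso E
  -- the comparison isomorphism over a good open
  have key : ∀ (V : X.Opens) (i : ℤ),
      Nonempty (DCoh.HD (DerivedCategory.Q.obj ((DCoh.restrictCx V).obj F)) i ≅
        (Scheme.Modules.restrictFunctor V.ι).obj (DCoh.HD E i)) := fun V i =>
    ⟨restrictHDIso V F i ≪≫ (Scheme.Modules.restrictFunctor V.ι).mapIso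
      ((DerivedCategory.homologyFunctor X.Modules i).mapIso e)⟩
  constructor
  · intro i hi
    apply isQCoh_of_locally
    intro x
    obtain ⟨V, hxV, H⟩ := hE x
    obtain ⟨P, α, hP, hiso, -⟩ := H F ⟨e⟩
    refine ⟨V, hxV, ?_⟩
    haveI := hiso i hi
    obtain ⟨κ⟩ := key V i
    have h1 : (P.homology i).IsQuasicoherent :=
      isQCoh_homology P (fun k => isQCoh_of_isFinLocFree _ (hP.2 k)) i
    exact isQCoh_of_iso (((DerivedCategory.homologyFunctorFactors _ i).app P).symm ≪≫
      asIso ((DerivedCategory.homologyFunctor _ i).map α) ≪≫ κ) h1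
  · intro x
    obtain ⟨V, hxV, H⟩ := hE x
    obtain ⟨P, α, hP, -, hepi⟩ := H F ⟨e⟩
    obtain ⟨κ⟩ := key V m
    refine ⟨V, P.homology m, ((DerivedCategory.homologyFunctorFactors _ m).app P).inv ≫
      (DerivedCategory.homologyFunctor _ m).map α ≫ κ.hom, hxV,
      isQCoh_homology P (fun k => isQCoh_of_isFinLocFree _ (hP.2 k)) m, ?_⟩
    haveI := hepi
    infer_instance

end Groth.Agent.Lib.T2H8.PCohQCoh
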