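import Mathlib

/-!
# Abstract bookkeeping for the local construction of homotopies (descending induction)

`resHom e` transports morphisms between restricted objects along a further restriction;
`IsPartial r α h m` says that `h` satisfies the null-homotopy equation for `r(α)` in all
degrees `≥ m`; `step` extends a partial null-homotopy by one degree after a further
restriction; `homotopyOfPartial` assembles the final homotopy; `exists_lift_of_homotopy`
lifts a map through `f` up to homotopy once its composite to the mapping cone is null-homotopic.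
-/

set_option autoImplicit false
open CategoryTheory CategoryTheory.Limits

namespace Groth.Agent.Lib.T2H8.LocHtpy

section ResHom

variable {𝒜 𝒜₁ 𝒜₂ : Type*} [Category 𝒜] [Category 𝒜₁] [Category 𝒜₂]
  {r₁ : 𝒜 ⥤ 𝒜₁} {r₂ : 𝒜 ⥤ 𝒜₂} {ρ : 𝒜₁ ⥤ 𝒜₂} (e : r₁ ⋙ ρ ≅ r₂)

/-- the further restriction of a morphism between restricted objects -/
def resHom {M N : 𝒜} (l : r₁.obj M ⟶ r₁.obj N) : r₂.obj M ⟶ r₂.obj N :=
  e.inv.app M ≫ ρ.map l ≫ e.hom.app N

lemma resHom_comp {M N P : 𝒜} (l : r₁.obj M ⟶ r₁.obj N) (l' : r₁.obj N ⟶ r₁.obj P) :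
    resHom e (l ≫ l') = resHom e l ≫ resHom e l' := by
  unfold resHom
  have h : e.hom.app N ≫ e.inv.app N = 𝟙 _ := e.hom_inv_id_app N
  rw [Functor.map_comp]
  simp only [Category.assoc]
  rw [reassoc_of% h]

lemma resHom_map {M N : 𝒜} (f : M ⟶ N) : resHom e (r₁.map f) = r₂.map f := by
  unfold resHom
  have h := e.hom.naturality f
  simp only [Functor.comp_map] at h
  rw [h, Iso.inv_hom_id_app_assoc]

variable [Preadditive 𝒜₁] [Preadditive 𝒜₂] [ρ.Additive]

lemma resHom_add {M N : 𝒜} (l l' : r₁.obj M ⟶ r₁.obj N) :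
    resHom e (l + l') = resHom e l + resHom e l' := by
  unfold resHom
  rw [Functor.map_add, Preadditive.add_comp, Preadditive.comp_add]

lemma resHom_sub {M N : 𝒜} (l l' : r₁.obj M ⟶ r₁.obj N) :
    resHom e (l - l') = resHom e l - resHom e l' := by
  unfold resHom
  rw [Functor.map_sub, Preadditive.sub_comp, Preadditive.comp_sub]

lemma resHom_zero {M N : 𝒜} : resHom e (0 : r₁.obj M ⟶ r₁.obj N) = 0 := by
  unfold resHom
  rw [Functor.map_zero, zero_comp, comp_zero]

end ResHom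

section Partial

variable {𝒜 ℬ : Type*} [Category 𝒜] [Preadditive 𝒜] [Category ℬ] [Preadditive ℬ]
  (r : 𝒜 ⥤ ℬ) [r.Additive] {E K : CochainComplex 𝒜 ℤ} (α : E ⟶ K)

/-- `h` is a null-homotopy of `r(α)` in degrees `≥ m` -/
def IsPartial (h : ∀ p q : ℤ, r.obj (E.X p) ⟶ r.obj (K.X q)) (m : ℤ) : Prop :=
  ∀ (i j k : ℤ), i + 1 = j → j + 1 = k → m ≤ j →
    r.map (α.f j) = h j i ≫ r.map (K.d i j) + r.map (E.d j k) ≫ h k j

/-- the obstruction to extending a partial null-homotopy to degree `m` -/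
def obs (h : ∀ p q : ℤ, r.obj (E.X p) ⟶ r.obj (K.X q)) (m k : ℤ) :
    r.obj (E.X m) ⟶ r.obj (K.X m) :=
  r.map (α.f m) - r.map (E.d m k) ≫ h k m

lemma obs_comp_d (h : ∀ p q : ℤ, r.obj (E.X p) ⟶ r.obj (K.X q)) (m k : ℤ) (hk : m + 1 = k)
    (hp : IsPartial r α h k) : obs r α h m k ≫ r.map (K.d m k) = 0 := by
  have h1 := hp m k (k + 1) hk rfl le_rfl
  unfold obs
  rw [Preadditive.sub_comp, ← r.map_comp, α.comm, r.map_comp, h1, Preadditive.comp_add,
    Category.assoc, ← Category.assoc (r.map (E.d m k)) (r.map (E.d k (k + 1))), ← r.map_comp,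
    E.d_comp_d, r.map_zero, zero_comp, add_zero, sub_self]

lemma isPartial_zero (b : ℤ) (hb : ∀ j : ℤ, b < j → IsZero (E.X j)) :
    IsPartial r α (fun _ _ => 0) (b + 1) := by
  intro i j k _ _ hj
  have hz : IsZero (r.obj (E.X j)) := r.map_isZero (hb j (by omega))
  exact hz.eq_of_src _ _

lemma isPartial_of_le (h : ∀ p q : ℤ, r.obj (E.X p) ⟶ r.obj (K.X q)) (a : ℤ)
    (ha : ∀ j : ℤ, j < a → IsZero (E.X j)) (hp : IsPartial r α h a) (m : ℤ) :
    IsPartial r α h m := by
  intro i j k hij hjk _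
  by_cases hj : a ≤ j
  · exact hp i j k hij hjk hj
  · have hz : IsZero (r.obj (E.X j)) := r.map_isZero (ha j (by omega))
    exact hz.eq_of_src _ _

end Partial

section Step

variable {𝒜 𝒜₁ 𝒜₂ : Type*} [Category 𝒜] [Preadditive 𝒜] [Category 𝒜₁] [Preadditive 𝒜₁]
  [Category 𝒜₂] [Preadditive 𝒜₂]
  {r₁ : 𝒜 ⥤ 𝒜₁} {r₂ : 𝒜 ⥤ 𝒜₂} {ρ : 𝒜₁ ⥤ 𝒜₂} [r₁.Additive] [r₂.Additive] [ρ.Additive]
  (e : r₁ ⋙ ρ ≅ r₂) {E K : CochainComplex 𝒜 ℤ} (α : E ⟶ K)

/-- the extended family of maps -/
noncomputable def extend (h : ∀ p q : ℤ, r₁.obj (E.X p) ⟶ r₁.obj (K.X q)) (i m : ℤ)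
    (l : r₂.obj (E.X m) ⟶ r₂.obj (K.X i)) (p q : ℤ) : r₂.obj (E.X p) ⟶ r₂.obj (K.X q) :=
  if hpq : p = m ∧ q = i then
    eqToHom (by rw [hpq.1]) ≫ l ≫ eqToHom (by rw [hpq.2])
  else resHom e (h p q)

lemma extend_self (h : ∀ p q : ℤ, r₁.obj (E.X p) ⟶ r₁.obj (K.X q)) (i m : ℤ)
    (l : r₂.obj (E.X m) ⟶ r₂.obj (K.X i)) : extend e h i m l m i = l := by
  unfold extend
  rw [dif_pos ⟨rfl, rfl⟩]
  simp

lemma extend_of_ne (h : ∀ p q : ℤ, r₁.obj (E.X p) ⟶ r₁.obj (K.X q)) (i m : ℤ)
    (l : r₂.obj (E.X m) ⟶ r₂.obj (K.X i)) (p q : ℤ) (hp : p ≠ m) :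
    extend e h i m l p q = resHom e (h p q) := by
  unfold extend
  rw [dif_neg (fun hpq => hp hpq.1)]

/-- extending a partial null-homotopy by one degree, after a further restriction -/
theorem step (h : ∀ p q : ℤ, r₁.obj (E.X p) ⟶ r₁.obj (K.X q)) (i m k : ℤ) (him : i + 1 = m)
    (hmk : m + 1 = k) (hp : IsPartial r₁ α h k)
    (l : r₂.obj (E.X m) ⟶ r₂.obj (K.X i))
    (hl : l ≫ r₂.map (K.d i m) = resHom e (obs r₁ α h m k)) :
    IsPartial r₂ α (extend e h i m l) m := by
  intro i' j k' hij hjk hj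
  by_cases hjm : j = m
  · have e1 : m = j := hjm.symm
    subst e1
    have e2 : i = i' := by omega
    subst e2
    have e3 : k = k' := by omega
    subst e3
    rw [extend_self, extend_of_ne e h i m l k m (by omega), hl]
    unfold obs
    rw [resHom_sub, resHom_comp, resHom_map, resHom_map]
    abel
  · rw [extend_of_ne e h i m l j i' hjm, extend_of_ne e h i m l k' j (by omega)]
    have h1 := hp i' j k' hij hjk (by omega)
    have h2 := congrArg (resHom e) h1
    rw [resHom_map, resHom_add, resHom_comp, resHom_comp, resHom_map, resHom_map] at h2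
    exact h2

end Step

section Final

variable {𝒜 ℬ : Type*} [Category 𝒜] [Preadditive 𝒜] [Category ℬ] [Preadditive ℬ]
  (r : 𝒜 ⥤ ℬ) [r.Additive] {E K : CochainComplex 𝒜 ℤ} (α : E ⟶ K)

open CochainComplex HomComplex in
/-- a null-homotopy of `r(α)` from a family satisfying the equation in all degrees -/
theorem nonempty_homotopy_of_isPartial (h : ∀ p q : ℤ, r.obj (E.X p) ⟶ r.obj (K.X q))
    (hp : ∀ m, IsPartial r α h m) :
    Nonempty (Homotopy ((r.mapHomologicalComplex (ComplexShape.up ℤ)).map α) 0) := by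
  let z : Cochain ((r.mapHomologicalComplex (ComplexShape.up ℤ)).obj E)
      ((r.mapHomologicalComplex (ComplexShape.up ℤ)).obj K) (-1) :=
    Cochain.mk (fun p q _ => h p q)
  refine ⟨(Cochain.equivHomotopy _ _).symm ⟨z, ?_⟩⟩
  ext p
  rw [Cochain.add_v, δ_v (-1) 0 (by simp) z p p (add_zero p) (p - 1) (p + 1) rfl rfl]
  simp only [Cochain.ofHom_v, Functor.mapHomologicalComplex_map_f, HomologicalComplex.zero_f,
    add_zero, Int.negOnePow_zero, one_smul]
  exact hp p (p - 1) p (p + 1) (by omega) rfl le_rfl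

end Final

section Cone

variable {𝒜 : Type*} [Category 𝒜] [Preadditive 𝒜] [HasZeroObject 𝒜] [HasBinaryBiproducts 𝒜]

open CochainComplex in
/-- a map whose composite into the mapping cone of `f` is null-homotopic lifts through `f` up to
homotopy -/
theorem exists_lift_of_homotopy {E F G : CochainComplex 𝒜 ℤ} (α : E ⟶ F) (f : G ⟶ F)
    (H : Homotopy (α ≫ mappingCone.inr f) 0) :
    ∃ β : E ⟶ G, Nonempty (Homotopy (β ≫ f) α) := by
  have h0 : (HomotopyCategory.quotient 𝒜 (ComplexShape.up ℤ)).map α ≫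
      (mappingCone.triangleh f).mor₂ = 0 := by
    have := HomotopyCategory.eq_of_homotopy _ _ H
    rw [Functor.map_comp, Functor.map_zero] at this
    exact this
  obtain ⟨g, hg⟩ := Pretriangulated.Triangle.coyoneda_exact₂ _
    (HomotopyCategory.mappingCone_triangleh_distinguished f) _ h0
  obtain ⟨β, rfl⟩ := (HomotopyCategory.quotient 𝒜 (ComplexShape.up ℤ)).map_surjective g
  refine ⟨β, ⟨HomotopyCategory.homotopyOfEq _ _ ?_⟩⟩
  rw [Functor.map_comp]
  exact hg.symm

variable {ℬ : Type*} [Category ℬ] [Preadditive ℬ] [HasZeroObject ℬ] [HasBinaryBiproducts ℬ]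
  (r : 𝒜 ⥤ ℬ) [r.Additive]

omit [HasZeroObject 𝒜] in
open CochainComplex in
/-- the same after applying an additive functor -/
theorem exists_lift_of_homotopy_map {E F G : CochainComplex 𝒜 ℤ} (α : E ⟶ F) (f : G ⟶ F)
    (H : Homotopy ((r.mapHomologicalComplex (ComplexShape.up ℤ)).map (α ≫ mappingCone.inr f)) 0) :
    ∃ β : (r.mapHomologicalComplex (ComplexShape.up ℤ)).obj E ⟶
        (r.mapHomologicalComplex (ComplexShape.up ℤ)).obj G,
      Nonempty (Homotopy (β ≫ (r.mapHomologicalComplex (ComplexShape.up ℤ)).map f)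
        ((r.mapHomologicalComplex (ComplexShape.up ℤ)).map α)) := by
  apply exists_lift_of_homotopy
  have h1 : (r.mapHomologicalComplex (ComplexShape.up ℤ)).map α ≫
      mappingCone.inr ((r.mapHomologicalComplex (ComplexShape.up ℤ)).map f) =
      (r.mapHomologicalComplex (ComplexShape.up ℤ)).map (α ≫ mappingCone.inr f) ≫
        (mappingCone.mapHomologicalComplexIso f r).hom := by
    rw [Functor.map_comp, Category.assoc, mappingCone.map_inr]
  rw [h1]
  exact (H.compRight _).trans (Homotopy.ofEq (by simp))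

end Cone

section Cycles

variable {𝒜 ℬ : Type*} [Category 𝒜] [Abelian 𝒜] [Category ℬ] [HasZeroMorphisms ℬ]
  (r : 𝒜 ⥤ ℬ) [r.PreservesZeroMorphisms] [PreservesFiniteLimits r]

/-- where a complex is exact, the differential factors as an epimorphism onto the cycles, and
maps into the image of `K^m` under a left exact functor killed by the differential factor
through the image of the cycles -/
theorem exists_cycles_factor (K : CochainComplex 𝒜 ℤ) (i m k : ℤ) (him : i + 1 = m)
    (hmk : m + 1 = k) (hK : K.ExactAt m) :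
    ∃ (Z : 𝒜) (p : K.X i ⟶ Z) (ι : Z ⟶ K.X m), Epi p ∧ p ≫ ι = K.d i m ∧
      ∀ {A : ℬ} (ψ : A ⟶ r.obj (K.X m)), ψ ≫ r.map (K.d m k) = 0 →
        ∃ ψ' : A ⟶ r.obj Z, ψ' ≫ r.map ι = ψ := by
  have hS : (K.sc' i m k).Exact :=
    (K.exactAt_iff' i m k (by simp [← him]) (by simp [← hmk])).1 hK
  refine ⟨(K.sc' i m k).cycles, (K.sc' i m k).toCycles, (K.sc' i m k).iCycles,
    (K.sc' i m k).exact_iff_epi_toCycles.1 hS, (K.sc' i m k).toCycles_i, ?_⟩
  intro A ψ hψ
  have hlim := KernelFork.mapIsLimit _ (K.sc' i m k).cyclesIsKernel r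
  exact ⟨hlim.lift (KernelFork.ofι ψ hψ), Fork.IsLimit.lift_ι hlim⟩

end Cycles

section Derived

universe w₁ w₂ v₁ v₂ u₁ u₂

variable {𝒜 : Type u₁} [Category.{v₁} 𝒜] [Abelian 𝒜] [HasDerivedCategory.{w₁} 𝒜]
  {ℬ : Type u₂} [Category.{v₂} ℬ] [Abelian ℬ] [HasDerivedCategory.{w₂} ℬ]
  (r : 𝒜 ⥤ ℬ) [r.Additive] [PreservesFiniteLimits r] [PreservesFiniteColimits r]

open DerivedCategory in
/-- the image under an exact functor of a right fraction `E ← G → F` whose denominator admits,
after applying the functor, a section up to homotopy, is the class of a morphism of complexes -/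
theorem mapDerivedCategory_map_rightFrac {E F G : CochainComplex 𝒜 ℤ} (s : G ⟶ E)
    [IsIso (Q.map s)] (t : G ⟶ F)
    (β : (r.mapHomologicalComplex (ComplexShape.up ℤ)).obj E ⟶
      (r.mapHomologicalComplex (ComplexShape.up ℤ)).obj G)
    (H : Homotopy (β ≫ (r.mapHomologicalComplex (ComplexShape.up ℤ)).map s)
      ((r.mapHomologicalComplex (ComplexShape.up ℤ)).map (𝟙 E))) :
    r.mapDerivedCategory.map (inv (Q.map s) ≫ Q.map t) =
      r.mapDerivedCategoryFactors.hom.app E ≫
        Q.map (β ≫ (r.mapHomologicalComplex (ComplexShape.up ℤ)).map t) ≫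
          r.mapDerivedCategoryFactors.inv.app F := by
  have hs := r.mapDerivedCategoryFactors_hom_naturality s
  have ht := r.mapDerivedCategoryFactors_hom_naturality t
  have hβ : Q.map β ≫ Q.map ((r.mapHomologicalComplex (ComplexShape.up ℤ)).map s) = 𝟙 _ := by
    rw [← Functor.map_comp, Q_map_eq_of_homotopy _ H, CategoryTheory.Functor.map_id,
      CategoryTheory.Functor.map_id]
  -- `Q(r s)` is an isomorphism
  have hiso : IsIso (Q.map ((r.mapHomologicalComplex (ComplexShape.up ℤ)).map s)) := by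
    have e : Q.map ((r.mapHomologicalComplex (ComplexShape.up ℤ)).map s) =
        r.mapDerivedCategoryFactors.inv.app G ≫ r.mapDerivedCategory.map (Q.map s) ≫
          r.mapDerivedCategoryFactors.hom.app E := by
      rw [hs, Iso.inv_hom_id_app_assoc]
    rw [e]
    infer_instance
  have hβ' : Q.map β = inv (Q.map ((r.mapHomologicalComplex (ComplexShape.up ℤ)).map s)) :=
    IsIso.eq_inv_of_inv_hom_id hβ
  rw [Functor.map_comp, Functor.map_inv, IsIso.inv_comp_eq, Functor.map_comp, hβ']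
  rw [← cancel_mono (r.mapDerivedCategoryFactors.hom.app F), ht]
  simp only [Category.assoc, Iso.inv_hom_id_app]
  rw [reassoc_of% hs, IsIso.hom_inv_id_assoc]
  erw [Category.comp_id]

end Derived

end Groth.Agent.Lib.T2H8.LocHtpy
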