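import Mathlib
import Groth.Prelude.Def_DCoh3
import Groth.Prelude.Def_CxOX
import Groth.Agent.S0934
import Groth.Agent.Lib.Helper1Sky9
import Groth.Agent.Lib.T2H8LocHtpy
import Groth.Agent.Lib.Helper17PCoh10

/-!
# Schemes: maps out of strictly perfect complexes are locally null-homotopic / lift locally
-/

set_option autoImplicit false
universe u
open CategoryTheory CategoryTheory.Limits Opposite AlgebraicGeometry

namespace Groth.Agent.Lib.T2H8.SchLocHtpy

open Groth.Agent.Lib.T2H8.LocHtpy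

section Generic

variable {𝒜 𝒜₁ 𝒜₂ : Type*} [Category 𝒜] [Category 𝒜₁] [Category 𝒜₂]
  {r₁ : 𝒜 ⥤ 𝒜₁} {r₂ : 𝒜 ⥤ 𝒜₂} {ρ : 𝒜₁ ⥤ 𝒜₂} (e : r₁ ⋙ ρ ≅ r₂)

/-- a lift after applying `ρ` gives a lift for `r₂` -/
lemma comp_map_eq_resHom {M N P : 𝒜} (p : N ⟶ P) (φ : r₁.obj M ⟶ r₁.obj P)
    (ψ : ρ.obj (r₁.obj M) ⟶ ρ.obj (r₁.obj N)) (hψ : ψ ≫ ρ.map (r₁.map p) = ρ.map φ) :
    (e.inv.app M ≫ ψ ≫ e.hom.app N) ≫ r₂.map p = resHom e φ := by
  unfold resHom
  have h := e.hom.naturality p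
  simp only [Functor.comp_map] at h
  simp only [Category.assoc]
  rw [← h, reassoc_of% hψ]

end Generic

section GenericPartial

variable {𝒜 𝒜₁ 𝒜₂ : Type*} [Category 𝒜] [Preadditive 𝒜] [Category 𝒜₁] [Preadditive 𝒜₁]
  [Category 𝒜₂] [Preadditive 𝒜₂]
  {r₁ : 𝒜 ⥤ 𝒜₁} {r₂ : 𝒜 ⥤ 𝒜₂} {ρ : 𝒜₁ ⥤ 𝒜₂} [r₁.Additive] [r₂.Additive] [ρ.Additive]
  (e : r₁ ⋙ ρ ≅ r₂) {E K : CochainComplex 𝒜 ℤ} (α : E ⟶ K)

/-- partial null-homotopies restrict -/
lemma isPartial_resHom (h : ∀ p q : ℤ, r₁.obj (E.X p) ⟶ r₁.obj (K.X q)) (m : ℤ)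
    (hp : IsPartial r₁ α h m) : IsPartial r₂ α (fun p q => resHom e (h p q)) m := by
  intro i j k hij hjk hj
  have h1 := hp i j k hij hjk hj
  have h2 := congrArg (resHom e) h1
  rw [resHom_map, resHom_add, resHom_comp, resHom_comp, resHom_map, resHom_map] at h2
  exact h2

end GenericPartial

section Sch

attribute [local instance] Groth.Agent.Lib.Helper23.QCohLocal.restrictFunctor_isRightAdjoint

variable {X : Scheme.{u}}

lemma isFinLocFree_of_iso {M N : X.Modules} (e : M ≅ N) (h : FlatMod.IsFinLocFree M) :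
    FlatMod.IsFinLocFree N := by
  intro x
  obtain ⟨U, n, hx, ⟨φ⟩⟩ := h x
  exact ⟨U, n, hx, ⟨(Scheme.Modules.restrictFunctor U.ι).mapIso e.symm ≪≫ φ⟩⟩

lemma isFinLocFree_restrict {U : Scheme.{u}} (j : U ⟶ X) [IsOpenImmersion j] (M : X.Modules)
    (hM : FlatMod.IsFinLocFree M) :
    FlatMod.IsFinLocFree ((Scheme.Modules.restrictFunctor j).obj M) :=
  isFinLocFree_of_iso ((Scheme.Modules.restrictFunctorIsoPullback j).app M).symm
    (Groth.Agent.Lib.Helper1.Sky.isFinLocFree_pullback j M hM)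

/-- restricting along `j` and then along `i` is restricting along `i ≫ j` -/
noncomputable abbrev ec {U U' : Scheme.{u}} (i : U' ⟶ U) (j : U ⟶ X) [IsOpenImmersion i]
    [IsOpenImmersion j] :
    Scheme.Modules.restrictFunctor j ⋙ Scheme.Modules.restrictFunctor i ≅
      Scheme.Modules.restrictFunctor (i ≫ j) :=
  (Scheme.Modules.restrictFunctorComp i j).symm

variable {E K : CochainComplex X.Modules ℤ} (α : E ⟶ K)

/-- extending a partial null-homotopy over `U` by one degree, on a neighbourhood of a point -/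
theorem exists_extend (i m k : ℤ) (him : i + 1 = m) (hmk : m + 1 = k)
    (hEm : FlatMod.IsFinLocFree (E.X m)) (hK : K.ExactAt m)
    {U : Scheme.{u}} (j : U ⟶ X) [IsOpenImmersion j] (x' : U)
    (h : ∀ p q : ℤ, (Scheme.Modules.restrictFunctor j).obj (E.X p) ⟶
      (Scheme.Modules.restrictFunctor j).obj (K.X q))
    (hp : IsPartial (Scheme.Modules.restrictFunctor j) α h k) :
    ∃ (V : U.Opens), x' ∈ V ∧
      ∃ h' : ∀ p q : ℤ, (Scheme.Modules.restrictFunctor (V.ι ≫ j)).obj (E.X p) ⟶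
        (Scheme.Modules.restrictFunctor (V.ι ≫ j)).obj (K.X q),
        IsPartial (Scheme.Modules.restrictFunctor (V.ι ≫ j)) α h' m := by
  obtain ⟨Z, p, ι, hpe, hpι, hfac⟩ :=
    exists_cycles_factor (Scheme.Modules.restrictFunctor j) K i m k him hmk hK
  obtain ⟨ψ', hψ'⟩ := hfac (obs (Scheme.Modules.restrictFunctor j) α h m k)
    (obs_comp_d (Scheme.Modules.restrictFunctor j) α h m k hmk hp)
  obtain ⟨V, ψ, hxV, hψ⟩ := Groth.Agent.S0934.result
    ((Scheme.Modules.restrictFunctor j).map p) ψ' (isFinLocFree_restrict j _ hEm) x'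
  refine ⟨V, hxV, extend (ec V.ι j) h i m
    ((ec V.ι j).inv.app (E.X m) ≫ ψ ≫ (ec V.ι j).hom.app (K.X i)),
    step (ec V.ι j) α h i m k him hmk hp _ ?_⟩
  have h1 := comp_map_eq_resHom (ec V.ι j) p ψ' ψ hψ
  rw [← hpι, Functor.map_comp, ← Category.assoc, h1, ← resHom_map (ec V.ι j) ι, ← resHom_comp,
    hψ']

/-- near `x` there is a null-homotopy in degrees `≥ m` -/
def LocPartial (x : X) (m : ℤ) : Prop :=
  ∃ (U : Scheme.{u}) (j : U ⟶ X) (_ : IsOpenImmersion j) (x' : U), j x' = x ∧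
    ∃ h : ∀ p q : ℤ, (Scheme.Modules.restrictFunctor j).obj (E.X p) ⟶
      (Scheme.Modules.restrictFunctor j).obj (K.X q),
      IsPartial (Scheme.Modules.restrictFunctor j) α h m

theorem locPartial_step (x : X) (m k : ℤ) (hmk : m + 1 = k)
    (hEm : FlatMod.IsFinLocFree (E.X m)) (hK : K.ExactAt m)
    (H : LocPartial α x k) : LocPartial α x m := by
  obtain ⟨U, j, hj, x', hx', h, hp⟩ := H
  obtain ⟨V, hxV, h', hp'⟩ := exists_extend α (m - 1) m k (by omega) hmk hEm hK j x' h hp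
  refine ⟨↑V, V.ι ≫ j, inferInstance, ⟨x', hxV⟩, ?_, h', hp'⟩
  rw [← hx']
  rfl

theorem locPartial_zero (x : X) (b : ℤ) (hb : ∀ j : ℤ, b < j → IsZero (E.X j)) :
    LocPartial α x (b + 1) :=
  ⟨X, 𝟙 X, inferInstance, x, rfl, fun _ _ => 0, isPartial_zero _ α b hb⟩

theorem locPartial_of_bounded (x : X) (hE : ∀ j, FlatMod.IsFinLocFree (E.X j))
    (a b : ℤ) (hb : ∀ j : ℤ, b < j → IsZero (E.X j)) (hK : ∀ j : ℤ, a ≤ j → K.ExactAt j) :
    ∀ n : ℕ, a ≤ b + 1 - n → LocPartial α x (b + 1 - n) := by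
  intro n
  induction n with
  | zero =>
    intro _
    simpa using locPartial_zero α x b hb
  | succ n ih =>
    intro hn
    refine locPartial_step α x (b + 1 - (n + 1 : ℕ)) (b + 1 - n) (by push_cast; omega) (hE _)
      (hK _ hn) (ih (by push_cast at hn; omega))

/-- a map from a strictly perfect complex vanishing below `a` to a complex exact in degrees
`≥ a` is null-homotopic near every point -/
theorem locally_nullHomotopic (hE : DCoh.IsStrictlyPerfect E) (a : ℤ)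
    (hEa : ∀ j : ℤ, j < a → IsZero (E.X j)) (hK : ∀ j : ℤ, a ≤ j → K.ExactAt j) (x : X) :
    ∃ V : X.Opens, x ∈ V ∧
      Nonempty (Homotopy (((Scheme.Modules.restrictFunctor V.ι).mapHomologicalComplex
        (ComplexShape.up ℤ)).map α) 0) := by
  obtain ⟨⟨a', b, hab⟩, hE'⟩ := hE
  have hb : ∀ j : ℤ, b < j → IsZero (E.X j) := fun j hj => hab j (Or.inr hj)
  have key : ∃ m : ℤ, m ≤ a ∧ LocPartial α x m := by
    by_cases hc : a ≤ b + 1
    · refine ⟨a, le_rfl, ?_⟩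
      have := locPartial_of_bounded α x hE' a b hb hK (b + 1 - a).toNat (by omega)
      have e : b + 1 - ((b + 1 - a).toNat : ℤ) = a := by omega
      rwa [e] at this
    · exact ⟨b + 1, by omega, locPartial_zero α x b hb⟩
  obtain ⟨m, hm, U, j, hj, x', hx', h, hp⟩ := key
  have hp' : IsPartial (Scheme.Modules.restrictFunctor j) α h a := fun i j' k hij hjk hj' =>
    hp i j' k hij hjk (by omega)
  let e' : Scheme.Modules.restrictFunctor j ⋙ Scheme.Modules.restrictFunctor j.isoOpensRange.inv ≅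
      Scheme.Modules.restrictFunctor j.opensRange.ι :=
    ec j.isoOpensRange.inv j ≪≫ Scheme.Modules.restrictFunctorCongr j.isoOpensRange_inv_comp
  refine ⟨j.opensRange, ⟨x', hx'⟩, ?_⟩
  have hp'' := isPartial_resHom e' α h a hp'
  exact nonempty_homotopy_of_isPartial _ α _
    (fun m' => isPartial_of_le _ α _ a hEa hp'' m')

end Sch

theorem main_S0932 {X : Scheme.{u}} {E F : CochainComplex X.Modules ℤ}
    (α : E ⟶ F) (hE : DCoh.IsStrictlyPerfect E) (a : ℤ) (hEa : ∀ i : ℤ, i < a → IsZero (E.X i))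
    (hF : ∀ i : ℤ, a ≤ i → IsZero (F.homology i)) (x : X) :
    ∃ V : X.Opens, x ∈ V ∧ Nonempty (Homotopy ((DCoh.restrictCx V).map α) 0) :=
  locally_nullHomotopic α hE a hEa
    (fun j hj => (HomologicalComplex.exactAt_iff_isZero_homology _ _).2 (hF j hj)) x

theorem main_S0933 {X : Scheme.{u}} {E F G : CochainComplex X.Modules ℤ}
    (α : E ⟶ F) (f : G ⟶ F) (hE : DCoh.IsStrictlyPerfect E) (a : ℤ)
    (hEa : ∀ j : ℤ, j < a → IsZero (E.X j))
    (hf : ∀ j : ℤ, a < j → IsIso (HomologicalComplex.homologyMap f j))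
    (hfa : Epi (HomologicalComplex.homologyMap f a)) (x : X) :
    ∃ (V : X.Opens) (β : (DCoh.restrictCx V).obj E ⟶ (DCoh.restrictCx V).obj G), x ∈ V ∧
      Nonempty (Homotopy (β ≫ (DCoh.restrictCx V).map f) ((DCoh.restrictCx V).map α)) := by
  have hK : ∀ j : ℤ, a ≤ j → (CochainComplex.mappingCone f).ExactAt j := fun j hj =>
    (HomologicalComplex.exactAt_iff_isZero_homology _ _).2
      (Groth.Agent.Lib.Helper17.PCoh10.isZero_homology_mappingCone f a ⟨hf, hfa⟩ j hj)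
  obtain ⟨V, hxV, ⟨H⟩⟩ :=
    locally_nullHomotopic (α ≫ CochainComplex.mappingCone.inr f) hE a hEa hK x
  obtain ⟨β, hβ⟩ := exists_lift_of_homotopy_map (Scheme.Modules.restrictFunctor V.ι) α f H
  exact ⟨V, β, hxV, hβ⟩

attribute [local instance] HasDerivedCategory.standard in
theorem main_S0944 {X : Scheme.{u}} {E F : CochainComplex X.Modules ℤ}
    (hE : DCoh.IsStrictlyPerfect E) (α : DCoh.toD X E ⟶ DCoh.toD X F) (x : X) :
    ∃ V : X.Opens, x ∈ V ∧ ∀ [PreservesFiniteLimits (Scheme.Modules.restrictFunctor V.ι)],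
      ∃ β : (DCoh.restrictCx V).obj E ⟶ (DCoh.restrictCx V).obj F,
        (DCoh.restrictD V.ι).map α =
          (Scheme.Modules.restrictFunctor V.ι).mapDerivedCategoryFactors.hom.app E ≫ DerivedCategory.Q.map β ≫
            (Scheme.Modules.restrictFunctor V.ι).mapDerivedCategoryFactors.inv.app F := by
  obtain ⟨G, s, hs, t, rfl⟩ := DerivedCategory.right_fac α
  have hq : QuasiIso s := (DerivedCategory.isIso_Q_map_iff_quasiIso _ s).1 hs
  have h0 : ∀ j : ℤ, IsIso (HomologicalComplex.homologyMap s j) := fun j =>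
    (quasiIsoAt_iff_isIso_homologyMap s j).1 (hq.quasiIsoAt j)
  obtain ⟨a', b, hab⟩ := hE.1
  have h2 : Epi (HomologicalComplex.homologyMap s a') := by
    haveI := h0 a'
    infer_instance
  obtain ⟨V, β, hxV, ⟨Hβ⟩⟩ := main_S0933 (𝟙 E) s hE a' (fun j hj => hab j (Or.inl hj))
    (fun j _ => h0 j) h2 x
  refine ⟨V, hxV, ?_⟩
  intro inst
  exact ⟨β ≫ (DCoh.restrictCx V).map t,
    mapDerivedCategory_map_rightFrac (Scheme.Modules.restrictFunctor V.ι) s t β Hβ⟩

end Groth.Agent.Lib.T2H8.SchLocHtpy
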