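import Mathlib
import Groth.Prelude.Def_DCoh3
import Groth.Prelude.Def_CxOX
import Groth.Agent.S6516
import Groth.Agent.Lib.T2H8SchLocHtpy

/-!
# Perfect objects of `D(O_X)`: local description through open immersions, two-out-of-three
-/

set_option autoImplicit false
universe u
open CategoryTheory CategoryTheory.Limits Opposite AlgebraicGeometry

namespace Groth.Agent.Lib.T2H8.PerfLocal

section MapDComp

universe w₁ w₂ w₃ v₁ v₂ v₃ u₁ u₂ u₃

variable {A : Type u₁} [Category.{v₁} A] [Abelian A] [HasDerivedCategory.{w₁} A]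
  {B : Type u₂} [Category.{v₂} B] [Abelian B] [HasDerivedCategory.{w₂} B]
  {C : Type u₃} [Category.{v₃} C] [Abelian C] [HasDerivedCategory.{w₃} C]
  (F : A ⥤ B) [F.Additive] [PreservesFiniteLimits F] [PreservesFiniteColimits F]
  (G : B ⥤ C) [G.Additive] [PreservesFiniteLimits G] [PreservesFiniteColimits G]
  (H : A ⥤ C) [H.Additive] [PreservesFiniteLimits H] [PreservesFiniteColimits H]
  (e : F ⋙ G ≅ H)

/-- the functors induced on derived categories by exact functors compose -/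
noncomputable def mapDerivedCategoryCompIso :
    F.mapDerivedCategory ⋙ G.mapDerivedCategory ≅ H.mapDerivedCategory :=
  letI : Localization.Lifting DerivedCategory.Q
      (HomologicalComplex.quasiIso A (ComplexShape.up ℤ))
      ((F.mapHomologicalComplex (ComplexShape.up ℤ) ⋙
        G.mapHomologicalComplex (ComplexShape.up ℤ)) ⋙ DerivedCategory.Q)
      (F.mapDerivedCategory ⋙ G.mapDerivedCategory) :=
    ⟨(Functor.associator _ _ _).symm ≪≫ Functor.isoWhiskerRight F.mapDerivedCategoryFactors _ ≪≫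
      Functor.associator _ _ _ ≪≫ Functor.isoWhiskerLeft _ G.mapDerivedCategoryFactors ≪≫
      (Functor.associator _ _ _).symm⟩
  Localization.liftNatIso DerivedCategory.Q (HomologicalComplex.quasiIso A (ComplexShape.up ℤ))
    ((F.mapHomologicalComplex (ComplexShape.up ℤ) ⋙
      G.mapHomologicalComplex (ComplexShape.up ℤ)) ⋙ DerivedCategory.Q)
    (H.mapHomologicalComplex (ComplexShape.up ℤ) ⋙ DerivedCategory.Q) _ _
    (Functor.isoWhiskerRight (Functor.mapHomologicalComplexCompIso e (ComplexShape.up ℤ))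
      DerivedCategory.Q)

end MapDComp

section Sch

attribute [local instance] HasDerivedCategory.standard

open Groth.Agent.Lib.T2H8.SchLocHtpy DerivedCategory

variable {X : Scheme.{u}}

/-- restriction of complexes along an open immersion -/
noncomputable abbrev rC {U : Scheme.{u}} (j : U ⟶ X) [IsOpenImmersion j] :
    CochainComplex X.Modules ℤ ⥤ CochainComplex U.Modules ℤ :=
  (Scheme.Modules.restrictFunctor j).mapHomologicalComplex (ComplexShape.up ℤ)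

/-- restriction of derived categories along an open immersion -/
noncomputable abbrev rD {U : Scheme.{u}} (j : U ⟶ X) [IsOpenImmersion j] :
    DCoh.D X ⥤ DCoh.D U :=
  (Scheme.Modules.restrictFunctor j).mapDerivedCategory

/-- restricting along `j` and then `i` is restricting along `j' = i ≫ j` -/
noncomputable def rDComp {U U' : Scheme.{u}} (i : U' ⟶ U) (j : U ⟶ X) (j' : U' ⟶ X)
    [IsOpenImmersion i] [IsOpenImmersion j] [IsOpenImmersion j'] (h : i ≫ j = j') :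
    rD j ⋙ rD i ≅ rD j' :=
  mapDerivedCategoryCompIso _ _ _
    ((Scheme.Modules.restrictFunctorComp i j).symm ≪≫ Scheme.Modules.restrictFunctorCongr h)

lemma isStrictlyPerfect_restrict {U : Scheme.{u}} (j : U ⟶ X) [IsOpenImmersion j]
    (E : CochainComplex X.Modules ℤ) (hE : DCoh.IsStrictlyPerfect E) :
    DCoh.IsStrictlyPerfect ((rC j).obj E) := by
  obtain ⟨⟨a, b, hab⟩, hfl⟩ := hE
  exact ⟨⟨a, b, fun i hi => (Scheme.Modules.restrictFunctor j).map_isZero (hab i hi)⟩,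
    fun i => isFinLocFree_restrict j _ (hfl i)⟩

/-- `K` becomes a strictly perfect complex after restriction along `j` -/
def PerfAt (K : DCoh.D X) {U : Scheme.{u}} (j : U ⟶ X) [IsOpenImmersion j] : Prop :=
  ∃ E : CochainComplex U.Modules ℤ, DCoh.IsStrictlyPerfect E ∧
    Nonempty ((rD j).obj K ≅ Q.obj E)

lemma PerfAt.refine {K : DCoh.D X} {U U' : Scheme.{u}} {j : U ⟶ X} [IsOpenImmersion j]
    (h : PerfAt K j) (i : U' ⟶ U) (j' : U' ⟶ X) [IsOpenImmersion i] [IsOpenImmersion j']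
    (hij : i ≫ j = j') : PerfAt K j' := by
  obtain ⟨E, hE, ⟨e⟩⟩ := h
  exact ⟨(rC i).obj E, isStrictlyPerfect_restrict i E hE,
    ⟨((rDComp i j j' hij).app K).symm ≪≫ (rD i).mapIso e ≪≫
      (Scheme.Modules.restrictFunctor i).mapDerivedCategoryFactors.app E⟩⟩

lemma PerfAt.of_iso {K L : DCoh.D X} (e : K ≅ L) {U : Scheme.{u}} {j : U ⟶ X}
    [IsOpenImmersion j] (h : PerfAt K j) : PerfAt L j := by
  obtain ⟨E, hE, ⟨e'⟩⟩ := h
  exact ⟨E, hE, ⟨(rD j).mapIso e.symm ≪≫ e'⟩⟩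

/-- local perfectness at a point -/
def LocPerf (K : DCoh.D X) (x : X) : Prop :=
  ∃ (U : Scheme.{u}) (j : U ⟶ X) (_ : IsOpenImmersion j) (x' : U), j x' = x ∧ PerfAt K j

theorem isPerfect_iff (K : DCoh.D X) : DCoh.IsPerfect K ↔ ∀ x : X, LocPerf K x := by
  constructor
  · intro hK x
    obtain ⟨V, hxV, H⟩ := hK x
    obtain ⟨E, hE, ⟨e⟩⟩ := H (Q.objPreimage K) ⟨Q.objObjPreimageIso K⟩
    refine ⟨↑V, V.ι, inferInstance, ⟨x, hxV⟩, rfl, E, hE, ⟨?_⟩⟩
    exact (rD V.ι).mapIso (Q.objObjPreimageIso K).symm ≪≫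
      (Scheme.Modules.restrictFunctor V.ι).mapDerivedCategoryFactors.app _ ≪≫ e
  · intro h x
    obtain ⟨U, j, hj, x', hx', hP⟩ := h x
    have hP' : PerfAt K j.opensRange.ι :=
      hP.refine j.isoOpensRange.inv j.opensRange.ι j.isoOpensRange_inv_comp
    refine ⟨j.opensRange, ⟨x', hx'⟩, fun F ⟨eF⟩ => ?_⟩
    obtain ⟨E, hE, ⟨e⟩⟩ := hP'
    exact ⟨E, hE, ⟨((Scheme.Modules.restrictFunctor j.opensRange.ι).mapDerivedCategoryFactors.app
      F).symm ≪≫ (rD j.opensRange.ι).mapIso eF ≪≫ e⟩⟩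

lemma PerfAt.of_le_range {K : DCoh.D X} {U : Scheme.{u}} {j : U ⟶ X} [IsOpenImmersion j]
    (h : PerfAt K j) (V : X.Opens) (hV : (V : Set X) ⊆ Set.range j) : PerfAt K V.ι := by
  have hr : Set.range V.ι ⊆ Set.range j := by
    rw [Scheme.Opens.range_ι]
    exact hV
  haveI : IsOpenImmersion (IsOpenImmersion.lift j V.ι hr ≫ j) := by
    rw [IsOpenImmersion.lift_fac]
    infer_instance
  haveI : IsOpenImmersion (IsOpenImmersion.lift j V.ι hr) := IsOpenImmersion.of_comp _ j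
  exact h.refine (IsOpenImmersion.lift j V.ι hr) V.ι (IsOpenImmersion.lift_fac j V.ι hr)

lemma isStrictlyPerfect_shift {U : Scheme.{u}} (E : CochainComplex U.Modules ℤ)
    (hE : DCoh.IsStrictlyPerfect E) (n : ℤ) : DCoh.IsStrictlyPerfect (E⟦n⟧) := by
  obtain ⟨⟨a, b, hab⟩, hfl⟩ := hE
  refine ⟨⟨a - n, b - n, fun i hi => ?_⟩, fun i => ?_⟩
  · exact hab (i + n) (by omega)
  · exact hfl (i + n)

lemma PerfAt.shift {K : DCoh.D X} {U : Scheme.{u}} {j : U ⟶ X} [IsOpenImmersion j]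
    (h : PerfAt K j) (n : ℤ) : PerfAt (K⟦n⟧) j := by
  obtain ⟨E, hE, ⟨e⟩⟩ := h
  exact ⟨E⟦n⟧, isStrictlyPerfect_shift E hE n,
    ⟨((rD j).commShiftIso n).app K ≪≫ (shiftFunctor _ n).mapIso e ≪≫
      ((Q.commShiftIso n).app E).symm⟩⟩

lemma LocPerf.shift {K : DCoh.D X} {x : X} (h : LocPerf K x) (n : ℤ) : LocPerf (K⟦n⟧) x := by
  obtain ⟨U, j, hj, x', hx', hP⟩ := h
  exact ⟨U, j, hj, x', hx', hP.shift n⟩

lemma LocPerf.of_iso {K L : DCoh.D X} (e : K ≅ L) {x : X} (h : LocPerf K x) : LocPerf L x := by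
  obtain ⟨U, j, hj, x', hx', hP⟩ := h
  exact ⟨U, j, hj, x', hx', hP.of_iso e⟩

lemma LocPerf.of_shift {K : DCoh.D X} {x : X} (n : ℤ) (h : LocPerf (K⟦n⟧) x) : LocPerf K x :=
  (h.shift (-n)).of_iso ((shiftEquiv (DCoh.D X) n).unitIso.app K).symm

open Pretriangulated in
/-- in a distinguished triangle, the third vertex is locally perfect if the first two are -/
theorem locPerf_obj₃ (T : Triangle (DCoh.D X)) (hT : T ∈ distTriang (DCoh.D X)) (x : X)
    (h₁ : LocPerf T.obj₁ x) (h₂ : LocPerf T.obj₂ x) : LocPerf T.obj₃ x := by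
  obtain ⟨U₁, j₁, hj₁, x₁, hx₁, P₁⟩ := h₁
  obtain ⟨U₂, j₂, hj₂, x₂, hx₂, P₂⟩ := h₂
  let V : X.Opens := j₁.opensRange ⊓ j₂.opensRange
  have hxV : x ∈ V := ⟨⟨x₁, hx₁⟩, ⟨x₂, hx₂⟩⟩
  have Q₁ : PerfAt T.obj₁ V.ι := P₁.of_le_range V (fun y hy => hy.1)
  have Q₂ : PerfAt T.obj₂ V.ι := P₂.of_le_range V (fun y hy => hy.2)
  obtain ⟨E₁, hE₁, ⟨e₁⟩⟩ := Q₁
  obtain ⟨E₂, hE₂, ⟨e₂⟩⟩ := Q₂
  let α : Q.obj E₁ ⟶ Q.obj E₂ := e₁.inv ≫ (rD V.ι).map T.mor₁ ≫ e₂.hom
  obtain ⟨V'', hxV'', H⟩ := main_S0944 (X := ↑V) hE₁ α ⟨x, hxV⟩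
  obtain ⟨β, hβ⟩ := H
  refine ⟨↑V'', V''.ι ≫ V.ι, inferInstance, ⟨⟨x, hxV⟩, hxV''⟩, rfl, ?_⟩
  -- the two distinguished triangles
  have hT₁ : (rD (V''.ι ≫ V.ι)).mapTriangle.obj T ∈ distTriang _ :=
    (rD (V''.ι ≫ V.ι)).map_distinguished T hT
  have hT₂ := DerivedCategory.mappingCone_triangle_distinguished β
  let c := rDComp V''.ι V.ι (V''.ι ≫ V.ι) rfl
  let fE₁ := (Scheme.Modules.restrictFunctor V''.ι).mapDerivedCategoryFactors.app E₁
  let fE₂ := (Scheme.Modules.restrictFunctor V''.ι).mapDerivedCategoryFactors.app E₂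
  let l : (rD (V''.ι ≫ V.ι)).obj T.obj₁ ≅ Q.obj ((rC V''.ι).obj E₁) :=
    (c.app T.obj₁).symm ≪≫ (rD V''.ι).mapIso e₁ ≪≫ fE₁
  let r : (rD (V''.ι ≫ V.ι)).obj T.obj₂ ≅ Q.obj ((rC V''.ι).obj E₂) :=
    (c.app T.obj₂).symm ≪≫ (rD V''.ι).mapIso e₂ ≪≫ fE₂
  have hα : (rD V.ι).map T.mor₁ = e₁.hom ≫ α ≫ e₂.inv := by
    simp only [α, Category.assoc, Iso.hom_inv_id, Category.comp_id, Iso.hom_inv_id_assoc]
  have w : l.hom ≫ Q.map β = (rD (V''.ι ≫ V.ι)).map T.mor₁ ≫ r.hom := by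
    have hnat := c.inv.naturality T.mor₁
    simp only [Functor.comp_map] at hnat
    have hβ' : (rD V''.ι).map α = fE₁.hom ≫ Q.map β ≫ fE₂.inv := hβ
    simp only [l, r, Iso.trans_hom, Iso.symm_hom, Iso.app_inv, Functor.mapIso_hom, Category.assoc]
    rw [reassoc_of% hnat, hα, Functor.map_comp, Functor.map_comp, hβ']
    simp only [Category.assoc, ← Functor.map_comp_assoc, Iso.inv_hom_id,
      CategoryTheory.Functor.map_id, Category.id_comp, Category.comp_id]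
  obtain ⟨e', -, -⟩ := exists_iso_of_arrow_iso _ _ hT₁ hT₂
    (Arrow.isoMk l r w)
  exact ⟨CochainComplex.mappingCone β,
    Groth.Agent.S6516.result β (isStrictlyPerfect_restrict V''.ι E₁ hE₁)
      (isStrictlyPerfect_restrict V''.ι E₂ hE₂),
    ⟨Triangle.π₃.mapIso e'⟩⟩

end Sch

attribute [local instance] HasDerivedCategory.standard in
open Pretriangulated in
theorem main_S0887 {X : Scheme.{u}} (T : Triangle (DCoh.D X))
    (hT : T ∈ distinguishedTriangles) :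
    (DCoh.IsPerfect T.obj₁ → DCoh.IsPerfect T.obj₂ → DCoh.IsPerfect T.obj₃) ∧
    (DCoh.IsPerfect T.obj₁ → DCoh.IsPerfect T.obj₃ → DCoh.IsPerfect T.obj₂) ∧
    (DCoh.IsPerfect T.obj₂ → DCoh.IsPerfect T.obj₃ → DCoh.IsPerfect T.obj₁) := by
  simp only [isPerfect_iff]
  refine ⟨fun h₁ h₂ x => locPerf_obj₃ T hT x (h₁ x) (h₂ x), fun h₁ h₃ x => ?_,
    fun h₂ h₃ x => ?_⟩
  · exact locPerf_obj₃ T.invRotate (inv_rot_of_distTriang T hT) x ((h₃ x).shift (-1)) (h₁ x)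
  · exact LocPerf.of_shift 1
      (locPerf_obj₃ T.rotate (rot_of_distTriang T hT) x (h₂ x) (h₃ x))

section Free

open Groth.Agent.Lib.Helper20.LocFree

variable {U : Scheme.{u}}

lemma nonempty_restrict_iso_freeMod_comp {U' U'' : Scheme.{u}} (M : U.Modules) (j : U' ⟶ U)
    (i : U'' ⟶ U') (j' : U'' ⟶ U) [IsOpenImmersion j] [IsOpenImmersion i] [IsOpenImmersion j']
    (h : i ≫ j = j') (n : ℕ) (e : M.restrict j ≅ FlatMod.freeMod U' n) :
    Nonempty (M.restrict j' ≅ FlatMod.freeMod U'' n) :=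
  ⟨(Scheme.Modules.restrictFunctorCongr h.symm ≪≫ Scheme.Modules.restrictFunctorComp i j).app M ≪≫
    (Scheme.Modules.restrictFunctor i).mapIso e ≪≫ restrictFreeMod i n⟩

lemma isZero_freeMod_zero : IsZero (FlatMod.freeMod U 0) := by
  rw [IsZero.iff_id_eq_zero]
  exact Sigma.hom_ext _ _ (fun i => i.elim0)

lemma mem_finset_inf {x' : U} (W : ℤ → U.Opens) (hW : ∀ i, x' ∈ W i) (s : Finset ℤ) :
    x' ∈ s.inf W := by
  classical
  induction s using Finset.induction_on with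
  | empty => simp
  | insert a s _ ih =>
    rw [Finset.inf_insert]
    exact ⟨hW a, ih⟩

lemma exists_free_nbhd (E₀ : CochainComplex U.Modules ℤ) (hE : DCoh.IsStrictlyPerfect E₀)
    (x' : U) :
    ∃ W : U.Opens, x' ∈ W ∧
      ∀ i : ℤ, ∃ n : ℕ, Nonempty ((E₀.X i).restrict W.ι ≅ FlatMod.freeMod ↑W n) := by
  obtain ⟨⟨a, b, hab⟩, hfl⟩ := hE
  have h1 := fun i : ℤ => hfl i x'
  choose W n hxW hiso using h1
  refine ⟨(Finset.Icc a b).inf W, mem_finset_inf W hxW _, fun i => ?_⟩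
  by_cases hi : i ∈ Finset.Icc a b
  · obtain ⟨e⟩ := hiso i
    have hle : (Finset.Icc a b).inf W ≤ W i := Finset.inf_le hi
    exact ⟨n i, nonempty_restrict_iso_freeMod_comp (E₀.X i) (W i).ι (U.homOfLE hle) _
      (U.homOfLE_ι hle) (n i) e⟩
  · have hz : IsZero (E₀.X i) := hab i (by
      rw [Finset.mem_Icc] at hi
      omega)
    exact ⟨0, ⟨((Scheme.Modules.restrictFunctor _).map_isZero hz).iso isZero_freeMod_zero⟩⟩

end Free

attribute [local instance] HasDerivedCategory.standard in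
open DerivedCategory in
theorem main_S0923 {X : Scheme.{u}} (E : DCoh.D X) :
    DCoh.IsPerfect E ↔ ∀ x : X, ∃ V : X.Opens, x ∈ V ∧
      ∀ F : CochainComplex X.Modules ℤ, Nonempty (DCoh.toD X F ≅ E) →
        ∃ (P : CochainComplex (V : Scheme.{u}).Modules ℤ) (a b : ℤ), DCoh.VanishesOutside P a b ∧
          (∀ i : ℤ, ∃ n : ℕ, Nonempty (P.X i ≅ FlatMod.freeMod (V : Scheme.{u}) n)) ∧
          Nonempty (DerivedCategory.Q.obj ((DCoh.restrictCx V).obj F) ≅ DerivedCategory.Q.obj P) := by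
  constructor
  · intro hE x
    obtain ⟨U, j, hj, x', hx', E₀, hE₀, ⟨e⟩⟩ := (isPerfect_iff E).1 hE x
    obtain ⟨W, hxW, hfree⟩ := exists_free_nbhd E₀ hE₀ x'
    -- the open of `X` and its map to `U`
    let j₁ : (↑W : Scheme.{u}) ⟶ X := W.ι ≫ j
    let i : (↑j₁.opensRange : Scheme.{u}) ⟶ U := j₁.isoOpensRange.inv ≫ W.ι
    have hi : i ≫ j = j₁.opensRange.ι := by
      simp only [i, Category.assoc]
      exact j₁.isoOpensRange_inv_comp
    refine ⟨j₁.opensRange, ⟨⟨x', hxW⟩, hx'⟩, fun F ⟨eF⟩ => ?_⟩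
    obtain ⟨⟨a, b, hab⟩, -⟩ := hE₀
    refine ⟨(rC i).obj E₀, a, b,
      fun k hk => (Scheme.Modules.restrictFunctor i).map_isZero (hab k hk), fun k => ?_, ⟨?_⟩⟩
    · obtain ⟨n, ⟨φ⟩⟩ := hfree k
      exact ⟨n, nonempty_restrict_iso_freeMod_comp (E₀.X k) W.ι j₁.isoOpensRange.inv i rfl n φ⟩
    · exact ((Scheme.Modules.restrictFunctor j₁.opensRange.ι).mapDerivedCategoryFactors.app
        F).symm ≪≫ (rD j₁.opensRange.ι).mapIso eF ≪≫
        ((rDComp i j j₁.opensRange.ι hi).app E).symm ≪≫ (rD i).mapIso e ≪≫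
        (Scheme.Modules.restrictFunctor i).mapDerivedCategoryFactors.app E₀
  · intro h x
    obtain ⟨V, hxV, H⟩ := h x
    refine ⟨V, hxV, fun F hF => ?_⟩
    obtain ⟨P, a, b, hab, hfree, hiso⟩ := H F hF
    refine ⟨P, ⟨⟨a, b, hab⟩, fun k => ?_⟩, hiso⟩
    obtain ⟨n, ⟨φ⟩⟩ := hfree k
    exact Groth.Agent.Lib.Helper2.LocFree.isFinLocFree_of_iso_freeMod _ φ

end Groth.Agent.Lib.T2H8.PerfLocal
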