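import Mathlib
import Groth.Prelude.Def_PerfD
import Groth.Agent.Lib.T2H8PerfLocal
import Groth.Agent.Lib.T2H8PCohQCoh
import Groth.Agent.Lib.Helper2LocFree

/-!
# Perfect objects are relatively perfect over a flat base (helper8)
-/

set_option autoImplicit false
universe u
open CategoryTheory CategoryTheory.Limits AlgebraicGeometry Opposite

namespace Groth.Agent.Lib.T2H8.RelPerf

open DerivedCategory Groth.Agent.Lib.T2H8.PerfLocal

attribute [local instance] HasDerivedCategory.standard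

/-- a module flat over `O_X` on a scheme flat over `S` is flat over `S` -/
theorem isFlatOver_of_isFlat {X S : Scheme.{u}} (f : X ⟶ S) [Flat f] (F : X.Modules)
    (hF : FlatMod.IsFlat F) : FlatMod.IsFlatOver f F := by
  intro x
  letI : Algebra (S.presheaf.stalk (f.base x)) (X.presheaf.stalk x) := (f.stalkMap x).hom.toAlgebra
  letI : Module (S.presheaf.stalk (f.base x)) (F.presheaf.stalk x) := FlatMod.moduleStalkOver f F x
  haveI : IsScalarTower (S.presheaf.stalk (f.base x)) (X.presheaf.stalk x) (F.presheaf.stalk x) := by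
    refine ⟨fun a b m => ?_⟩
    change ((f.stalkMap x).hom a * b) • m = (f.stalkMap x).hom a • (b • m)
    rw [mul_smul]
  haveI h1 : Module.Flat (S.presheaf.stalk (f.base x)) (X.presheaf.stalk x) :=
    (Flat.iff_flat_stalkMap f).1 inferInstance x
  haveI h2 : Module.Flat (X.presheaf.stalk x) (F.presheaf.stalk x) := hF x
  exact Module.Flat.trans (S.presheaf.stalk (f.base x)) (X.presheaf.stalk x) (F.presheaf.stalk x)

/-- a finite locally free module on a scheme flat over `S` is flat over `S` -/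
theorem isFlatOver_of_isFinLocFree {X S : Scheme.{u}} (f : X ⟶ S) [Flat f] (F : X.Modules)
    (hF : FlatMod.IsFinLocFree F) : FlatMod.IsFlatOver f F := by
  haveI : F.IsQuasicoherent := Groth.Agent.Lib.T2H8.PCohQCoh.isQCoh_of_isFinLocFree F hF
  exact isFlatOver_of_isFlat f F (Groth.Agent.Lib.Helper2.LocFree.isFlat_of_isFinLocFree F hF)

/-- S7248: a perfect object is `S`-perfect when `f : X ⟶ S` is flat -/
theorem main_S7248 {X S : Scheme.{u}} (f : X ⟶ S) [Flat f] [LocallyOfFinitePresentation f]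
    (E : DCoh.D X) (hE : DCoh.IsPerfect E) :
    (∀ m : ℤ, DCoh.IsPseudoCoherentD m E) ∧ DCoh.LocHasFiniteRelTorDim f E := by
  constructor
  · intro m x
    obtain ⟨V, hxV, H⟩ := hE x
    refine ⟨V, hxV, fun F hF => ?_⟩
    obtain ⟨P, hP, ⟨e⟩⟩ := H F hF
    exact ⟨P, e.inv, hP, fun i _ => inferInstance, inferInstance⟩
  · intro x
    obtain ⟨V, hxV, H⟩ := hE x
    obtain ⟨P, hP, ⟨e⟩⟩ := H (Q.objPreimage E) ⟨Q.objObjPreimageIso E⟩
    obtain ⟨⟨a, b, hab⟩, hfl⟩ := hP
    refine ⟨V, a, b, hxV, fun F' ⟨eF'⟩ => ⟨P, hab, fun i => ?_, ⟨?_⟩⟩⟩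
    · haveI : Flat (V.ι ≫ f) := inferInstance
      exact isFlatOver_of_isFinLocFree (V.ι ≫ f) (P.X i) (hfl i)
    · exact e.symm ≪≫
        ((Scheme.Modules.restrictFunctor V.ι).mapDerivedCategoryFactors.app _).symm ≪≫
        (rD V.ι).mapIso (Q.objObjPreimageIso E ≪≫ eF'.symm) ≪≫
        (Scheme.Modules.restrictFunctor V.ι).mapDerivedCategoryFactors.app F'

end Groth.Agent.Lib.T2H8.RelPerf
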