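import Mathlib
import Groth.Prelude.Def_DCoh3
import Groth.Agent.Lib.T2H1RelPerfTilde
import Groth.Agent.Lib.T2H8RelPerf
set_option backward.isDefEq.respectTransparency.types false

/-!
# Flat amplitude relative to a flat morphism is stalkwise tor amplitude (helper1, second team)
-/

set_option autoImplicit false
set_option linter.style.haveILetI false
universe u
open CategoryTheory CategoryTheory.Limits AlgebraicGeometry HomologicalComplex

attribute [local instance] HasDerivedCategory.standard

namespace Groth.Agent.Lib.T2H1.RelFlatAmp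

section Ring

open Groth.Agent.Lib.Helper1.KF Groth.Agent.Lib.Helper1.DT DerivedCategory DTen
  Groth.Agent.Lib.Helper1.Tor Groth.Agent.Lib.T2H4.TorRes Groth.Agent.Lib.Helper1.TorO
  Groth.Agent.Lib.T2H1.TildeTorAmp MonoidalCategory

variable {R B : Type u} [CommRing R] [CommRing B]

/-- restriction of scalars along a flat ring map preserves K-flatness -/
theorem kflat_resCx_of_flat (φ : R →+* B) (hφ : φ.Flat) (L : Cx B) (hL : KFlat L) :
    KFlat ((resCx φ).obj L) := by
  apply KFlatL.kflat
  intro K hK
  have h1 : Acyc ((extCx φ).obj K) := fun i => by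
    rw [← exactAt_iff_isZero_homology]
    exact exactAt_extCx_of_flat' φ hφ K i ((exactAt_iff_isZero_homology _ _).2 (hK i))
  have h2 : Acyc (L ⊗ (extCx φ).obj K) := hL.kflatL _ h1
  intro i
  rw [← exactAt_iff_isZero_homology, exactAt_iff_of_iso (pfCx φ L K), exactAt_resCx_iff]
  exact (exactAt_iff_isZero_homology _ _).2 (h2 i)

/-- the cycles in degree `b` of a termwise flat complex with tensor-vanishing outside `[a, b]`
are flat -/
theorem flat_cycles_of_torVan (K : DRing.Cx R) (hflat : DRing.TermwiseFlat K) (a b : ℤ)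
    (h : TorVan K a b) : Module.Flat R (K.cycles b) := by
  have hex : ∀ j : ℤ, b < j → Function.Exact (K.d (j - 1) j).hom (K.d j (j + 1)).hom :=
    fun j hj => (exactAt_iff_fexact K (j - 1) j (j + 1) (by lia) rfl).1
      (h.exactAt j (Or.inr hj))
  have e1 : Function.Exact (K.d b (b + 1)).hom (K.d (b + 1) (b + 2)).hom := by
    have := hex (b + 1) (by lia)
    rwa [show b + 1 - 1 = b by lia, show b + 1 + 1 = b + 2 by lia] at this
  have e2 : Function.Exact (K.d (b + 1) (b + 2)).hom (K.d (b + 2) (b + 3)).hom := by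
    have := hex (b + 2) (by lia)
    rwa [show b + 2 - 1 = b + 1 by lia, show b + 2 + 1 = b + 3 by lia] at this
  haveI := hflat (b + 1)
  haveI := hflat (b + 2)
  haveI := hflat b
  haveI h3 : Module.Flat R (LinearMap.range (K.d (b + 2) (b + 3)).hom) := by
    refine flat_of_forall_exact_lTensor (K.d b (b + 1)).hom (K.d (b + 1) (b + 2)).hom
      (K.d (b + 2) (b + 3)).hom.rangeRestrict (LinearMap.surjective_rangeRestrict _) ?_ e1 ?_
    · intro z
      rw [← e2 z]
      constructor
      · intro hz
        exact congrArg Subtype.val hz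
      · intro hz
        exact Subtype.ext hz
    · intro I
      have h1 := h (ModuleCat.of R (R ⧸ I)) (b + 1) (Or.inr (by lia))
      rw [exactAt_TC_iff _ K b (b + 1) (b + 2) (by lia) (by lia)] at h1
      exact h1
  haveI h2 : Module.Flat R (LinearMap.range (K.d (b + 1) (b + 2)).hom) :=
    flat_range_of_exact _ _ e2
  haveI h1 : Module.Flat R (LinearMap.range (K.d b (b + 1)).hom) :=
    flat_range_of_exact _ _ e1
  refine flat_of_exact_of_flat_range (K.iCycles b).hom (K.d b (b + 1)).hom ?_
    (fexact_iCycles_d K b)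
  exact (ModuleCat.mono_iff_injective _).1 inferInstance

/-- the opcycles in degree `a` of a termwise flat complex with tensor-vanishing outside `[a, b]`
are flat -/
theorem flat_opcycles_of_torVan (K : DRing.Cx R) (hflat : DRing.TermwiseFlat K) (a b : ℤ)
    (h : TorVan K a b) : Module.Flat R (K.opcycles a) :=
  flat_of_torVan K hflat a b h (K.pOpcycles a).hom
    ((ModuleCat.epi_iff_surjective _).1 inferInstance) (fexact_d_pOpcycles K a)

/-- K-flat termwise flat complex of tor amplitude `[a, b]`: flat cycles and opcycles -/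
theorem flat_cycles_opcycles_of_hasTorAmp (C : DRing.Cx R) (hC : KFlat C)
    (hflat : DRing.TermwiseFlat C) (a b : ℤ) (h : DRing.HasTorAmplitudeIn R a b (Q.obj C)) :
    Module.Flat R (C.cycles b) ∧ Module.Flat R (C.opcycles a) := by
  obtain ⟨E, hE, hEf, ⟨e⟩⟩ := h
  have hv : TorVan C a b := torVan_of_iso_kflat C E hC a b hE hEf e
  exact ⟨flat_cycles_of_torVan C hflat a b hv, flat_opcycles_of_torVan C hflat a b hv⟩

/-- K-flatness is invariant under isomorphisms -/
lemma kflat_of_iso {K K' : Cx R} (e : K ≅ K') (h : KFlat K) : KFlat K' :=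
  fun L hL => Acyc.of_iso (whiskerLeftIso L e) (h L hL)

end Ring

section Sch

open Groth.Agent.Lib.Helper1.BKF Groth.Agent.Lib.Helper1.CI Groth.Agent.Lib.Helper1.Sky
  Groth.Agent.Lib.Helper1.KBC Groth.Agent.Lib.Helper1.StalkTensor
  Groth.Agent.Lib.T2H1.StalkTorAmp Groth.Agent.Lib.Helper1.KF DTen
  Groth.Agent.Lib.T2H1.RelPerfTilde Groth.Agent.Lib.Helper1.Tor

variable {X S : Scheme.{u}} (f : X ⟶ S)

/-- the complex of stalks over the base is the restriction of scalars of the complex of stalks -/
noncomputable def stalkCxOverIso (x : X) (P : CochainComplex X.Modules ℤ) :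
    (DerSch.stalkCxOver f x).obj P ≅ (resCx (f.stalkMap x).hom).obj ((stalkC x).obj P) :=
  HomologicalComplex.Hom.isoOfComponents
    (fun i => (ModuleCat.restrictScalars.{u} (f.stalkMap x).hom).mapIso
      ((stalkFunctorIso x).app (P.X i)))
    (fun i j _ => by
      show (ModuleCat.restrictScalars.{u} (f.stalkMap x).hom).map
          ((stalkFunctorIso x).hom.app (P.X i)) ≫
          (ModuleCat.restrictScalars.{u} (f.stalkMap x).hom).map ((stalkFun x).map (P.d i j)) =
        (ModuleCat.restrictScalars.{u} (f.stalkMap x).hom).map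
          ((DerSch.stalkFunctor X x).map (P.d i j)) ≫
          (ModuleCat.restrictScalars.{u} (f.stalkMap x).hom).map
            ((stalkFunctorIso x).hom.app (P.X j))
      rw [← Functor.map_comp, ← Functor.map_comp, (stalkFunctorIso x).hom.naturality])

/-- a module all of whose stalks over the base vanish is zero -/
lemma isZero_of_forall_isZero_stalkOver (M : X.Modules)
    (h : ∀ x : X, IsZero ((DerSch.stalkOver f x).obj M)) : IsZero M := by
  apply isZero_of_forall_isZero_stalk
  intro x
  haveI : Subsingleton ((stalkFun x).obj M) :=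
    (ModuleCat.subsingleton_of_isZero (h x) : Subsingleton ((DerSch.stalkOver f x).obj M))
  exact ModuleCat.isZero_of_subsingleton _

/-- stalkwise tor amplitude forces exactness outside `[a, b]` -/
lemma exactAt_of_hasTorAmplitude (G : CochainComplex X.Modules ℤ) (a b : ℤ)
    (h : DerSch.HasTorAmplitude f a b G) (i : ℤ) (hi : i < a ∨ b < i) : G.ExactAt i := by
  rw [exactAt_iff_isZero_homology]
  apply isZero_of_forall_isZero_stalkOver f
  intro x
  obtain ⟨E, hE, -, ⟨e⟩⟩ := h x
  have hz : IsZero (E.homology i) := isZero_homology_of_isZero_X _ i (hE i hi)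
  have h1 : IsZero (((DerSch.stalkCxOver f x).obj G).homology i) :=
    IsZero.of_iso hz
      (((DerivedCategory.homologyFunctorFactors _ i).app _).symm ≪≫
        (DerivedCategory.homologyFunctor _ i).mapIso e.symm ≪≫
        (DerivedCategory.homologyFunctorFactors _ i).app _)
  exact IsZero.of_iso h1 ((G.sc i).mapHomologyIso (DerSch.stalkOver f x)).symm

/-- a complex of `S`-flat modules with K-flat stalks and tor amplitude in `[a, b]` has `S`-flat
cycles in degree `b` and `S`-flat opcycles in degree `a` -/
theorem isFlatOver_cycles_opcycles (G : CochainComplex X.Modules ℤ)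
    (hGf : ∀ i : ℤ, FlatMod.IsFlatOver f (G.X i))
    (hGK : ∀ x : X, KFlat ((DerSch.stalkCxOver f x).obj G)) (a b : ℤ)
    (h : DerSch.HasTorAmplitude f a b G) :
    FlatMod.IsFlatOver f (G.cycles b) ∧ FlatMod.IsFlatOver f (G.opcycles a) := by
  have key : ∀ x : X, Module.Flat (S.presheaf.stalk (f.base x))
      (((DerSch.stalkCxOver f x).obj G).cycles b) ∧
      Module.Flat (S.presheaf.stalk (f.base x)) (((DerSch.stalkCxOver f x).obj G).opcycles a) :=
    fun x => flat_cycles_opcycles_of_hasTorAmp _ (hGK x) (fun i => hGf i x) a b (h x)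
  constructor
  · intro x
    have hk : Module.Flat (S.presheaf.stalk (f.base x))
        ((G.sc b).map (DerSch.stalkOver f x)).cycles := (key x).1
    have h2 : Module.Flat (S.presheaf.stalk (f.base x))
        ((DerSch.stalkOver f x).obj (G.cycles b)) :=
      @Module.Flat.of_linearEquiv _ _ _ _ _ _ _ _ hk
        ((G.sc b).mapCyclesIso (DerSch.stalkOver f x)).symm.toLinearEquiv
    exact h2
  · intro x
    have hk : Module.Flat (S.presheaf.stalk (f.base x))
        ((G.sc a).map (DerSch.stalkOver f x)).opcycles := (key x).2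
    have h2 : Module.Flat (S.presheaf.stalk (f.base x))
        ((DerSch.stalkOver f x).obj (G.opcycles a)) :=
      @Module.Flat.of_linearEquiv _ _ _ _ _ _ _ _ hk
        ((G.sc a).mapOpcyclesIso (DerSch.stalkOver f x)).symm.toLinearEquiv
    exact h2

/-- zero modules are flat over the base -/
lemma isFlatOver_of_isZero (M : X.Modules) (h : IsZero M) : FlatMod.IsFlatOver f M := by
  intro x
  haveI : Subsingleton ((DerSch.stalkOver f x).obj M) :=
    ModuleCat.subsingleton_of_isZero ((DerSch.stalkOver f x).map_isZero h)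
  have h2 : Module.Flat (S.presheaf.stalk (f.base x)) ((DerSch.stalkOver f x).obj M) :=
    inferInstance
  exact h2

/-- tor amplitude only depends on the class in the derived category -/
lemma hasTorAmplitude_of_iso {F G : CochainComplex X.Modules ℤ}
    (e : DCoh.toD X F ≅ DCoh.toD X G) (a b : ℤ) (h : DerSch.HasTorAmplitude f a b F) :
    DerSch.HasTorAmplitude f a b G := by
  intro x
  obtain ⟨e'⟩ := nonempty_toD_stalkCxOver_iso f x e
  exact hasTorAmp_of_iso e' (h x)

/-- stalkwise tor amplitude relative to a flat morphism implies flat amplitude relative to the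
base -/
theorem hasRelFlatAmplitudeIn_of_hasTorAmplitude [Flat f] (F : CochainComplex X.Modules ℤ)
    (a b : ℤ) (h : DerSch.HasTorAmplitude f a b F) :
    DCoh.HasRelFlatAmplitudeIn f a b (DCoh.toD X F) := by
  obtain ⟨P, q, hP', hPfl, hq, -⟩ : ∃ (P : CochainComplex X.Modules ℤ) (q : P ⟶ F),
      DCoh.IsKFlat P ∧ (∀ n : ℤ, ModSite.IsFlat (O := X.sheaf) (P.X n)) ∧ QuasiIso q ∧
        ∀ n : ℤ, Epi (q.f n) := exists_kflat_flat_resolution X.sheaf F
  haveI hqi : IsIso (DerivedCategory.Q.map q) := by
    rw [DerivedCategory.isIso_Q_map_iff_quasiIso]; exact hq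
  have eP : DCoh.toD X P ≅ DCoh.toD X F := asIso (DerivedCategory.Q.map q)
  have hPS : ∀ i : ℤ, FlatMod.IsFlatOver f (P.X i) := fun i =>
    Groth.Agent.Lib.T2H8.RelPerf.isFlatOver_of_isFlat f _
      (Groth.Agent.Lib.Helper1.StalkTensor.isFlat_of_modSite_isFlat _ (hPfl i))
  have hPK : ∀ x : X, KFlat ((DerSch.stalkCxOver f x).obj P) := fun x =>
    kflat_of_iso (stalkCxOverIso f x P).symm
      (kflat_resCx_of_flat _ (Flat.stalkMap f x) _
        (fun L hL => rKFlat_stalk_of_isKFlat x P hP' L hL))
  have hPT : DerSch.HasTorAmplitude f a b P := hasTorAmplitude_of_iso f eP.symm a b h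
  -- truncation above
  have hZ := (isFlatOver_cycles_opcycles f P hPS hPK a b hPT).1
  have hPle : P.IsLE b := by
    rw [CochainComplex.isLE_iff]
    exact fun i hi => exactAt_of_hasTorAmplitude f P a b hPT i (Or.inr hi)
  have hP₂S : ∀ i : ℤ, FlatMod.IsFlatOver f ((P.truncLE b).X i) := by
    intro i
    obtain hi | rfl | hi := lt_trichotomy i b
    · exact isFlatOver_of_iso' f (P.truncLEXIso b i hi).symm (hPS i)
    · exact isFlatOver_of_iso' f (P.truncLEXIsoCycles i).symm hZ
    · exact isFlatOver_of_isZero f _ ((P.truncLE b).isZero_of_isStrictlyLE b i hi)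
  have hP₂K : ∀ x : X, KFlat ((DerSch.stalkCxOver f x).obj (P.truncLE b)) := fun x =>
    kflat_of_boundedAbove_flat _ b
      (fun i hi => (DerSch.stalkOver f x).map_isZero ((P.truncLE b).isZero_of_isStrictlyLE b i hi))
      (fun i => hP₂S i x)
  haveI hιi : IsIso (DerivedCategory.Q.map (P.ιTruncLE b)) := by
    rw [DerivedCategory.isIso_Q_map_iff_quasiIso]; infer_instance
  have eP₂ : DCoh.toD X (P.truncLE b) ≅ DCoh.toD X F :=
    asIso (DerivedCategory.Q.map (P.ιTruncLE b)) ≪≫ eP
  have hP₂T : DerSch.HasTorAmplitude f a b (P.truncLE b) :=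
    hasTorAmplitude_of_iso f eP₂.symm a b h
  -- truncation below
  have hC := (isFlatOver_cycles_opcycles f (P.truncLE b) hP₂S hP₂K a b hP₂T).2
  have hP₂ge : (P.truncLE b).IsGE a := by
    rw [CochainComplex.isGE_iff]
    exact fun i hi => exactAt_of_hasTorAmplitude f (P.truncLE b) a b hP₂T i (Or.inl hi)
  haveI hπi : IsIso (DerivedCategory.Q.map ((P.truncLE b).πTruncGE a)) := by
    rw [DerivedCategory.isIso_Q_map_iff_quasiIso]; infer_instance
  refine ⟨(P.truncLE b).truncGE a, ?_, ?_,
    ⟨(asIso (DerivedCategory.Q.map ((P.truncLE b).πTruncGE a))).symm ≪≫ eP₂⟩⟩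
  · intro i hi
    rcases hi with hi | hi
    · exact ((P.truncLE b).truncGE a).isZero_of_isStrictlyGE a i hi
    · have hz : IsZero ((P.truncLE b).X i) := (P.truncLE b).isZero_of_isStrictlyLE b i hi
      obtain hia | rfl | hia := lt_trichotomy i a
      · exact ((P.truncLE b).truncGE a).isZero_of_isStrictlyGE a i hia
      · have hz' : IsZero ((P.truncLE b).opcycles i) := by
          rw [IsZero.iff_id_eq_zero, ← cancel_epi ((P.truncLE b).pOpcycles i)]
          exact hz.eq_of_src _ _
        exact hz'.of_iso ((P.truncLE b).truncGEXIsoOpcycles i)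
      · exact hz.of_iso ((P.truncLE b).truncGEXIso a i hia)
  · intro i
    obtain hi | rfl | hi := lt_trichotomy i a
    · exact isFlatOver_of_isZero f _ (((P.truncLE b).truncGE a).isZero_of_isStrictlyGE a i hi)
    · exact isFlatOver_of_iso' f ((P.truncLE b).truncGEXIsoOpcycles i).symm hC
    · exact isFlatOver_of_iso' f ((P.truncLE b).truncGEXIso a i hi).symm (hP₂S i)

/-- relative S6200: for a flat morphism, flat amplitude relative to the base is stalkwise tor
amplitude -/
theorem hasRelFlatAmplitudeIn_iff_hasTorAmplitude [Flat f] (F : CochainComplex X.Modules ℤ)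
    (a b : ℤ) :
    DCoh.HasRelFlatAmplitudeIn f a b (DCoh.toD X F) ↔ DerSch.HasTorAmplitude f a b F :=
  ⟨hasTorAmplitude_of_hasRelFlatAmplitudeIn f F a b,
    hasRelFlatAmplitudeIn_of_hasTorAmplitude f F a b⟩

end Sch

end Groth.Agent.Lib.T2H1.RelFlatAmp
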