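import Mathlib
import Groth.Agent.Lib.T2H1TildeTorAmp
import Groth.Agent.Lib.T2H1RelFlatAmp
import Groth.Agent.Lib.Helper1RelBC
set_option backward.isDefEq.respectTransparency.types false

/-!
# Base change of tor amplitude over the base, ring level (helper1, second team)

For a pushout square `R → A`, `R → R'`, `C = R' ⊗_R A` and a complex `K` of `A`-modules with tor
amplitude in `[a, b]` over `R`, the complex `C ⊗_A K` has tor amplitude in `[a, b]` over `R'` as soon
as `A` is flat over `R` and `K` is K-flat, or `R'` is flat over `R`.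
-/

set_option autoImplicit false
set_option linter.style.haveILetI false
universe u
open CategoryTheory CategoryTheory.Limits HomologicalComplex MonoidalCategory TensorProduct

attribute [local instance] HasDerivedCategory.standard

namespace Groth.Agent.Lib.T2H1.TorAmpBC

open Groth.Agent.Lib.Helper1.KF Groth.Agent.Lib.Helper1.DT DerivedCategory DTen
  Groth.Agent.Lib.Helper1.Tor Groth.Agent.Lib.T2H4.TorRes Groth.Agent.Lib.Helper1.TorO
  Groth.Agent.Lib.T2H1.TildeTorAmp Groth.Agent.Lib.T2H1.RelFlatAmp
  Groth.Agent.Lib.Helper1.RelBC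

section Restrict

variable {R A : Type u} [CommRing R] [CommRing A]

/-- a flat module over a flat algebra is flat over the base -/
theorem flat_restrictScalars_of_flat (σ : R →+* A) (hσ : σ.Flat) (M : ModuleCat.{u} A)
    [Module.Flat A M] : Module.Flat R ((ModuleCat.restrictScalars.{u} σ).obj M) := by
  letI : Algebra R A := σ.toAlgebra
  haveI : Module.Flat R A := hσ
  letI : Module R M := Module.compHom M σ
  haveI : IsScalarTower R A M := IsScalarTower.of_algebraMap_smul fun r m => rfl
  exact Module.Flat.trans R A M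

/-- tor amplitude is preserved by restriction of scalars along a flat ring map -/
theorem hasTorAmp_resCx_of_flat (σ : R →+* A) (hσ : σ.Flat) (K : Cx A) (a b : ℤ)
    (h : DRing.HasTorAmplitudeIn A a b (Q.obj K)) :
    DRing.HasTorAmplitudeIn R a b (Q.obj ((resCx σ).obj K)) := by
  obtain ⟨E, hE, hEf, ⟨e⟩⟩ := h
  refine ⟨(resCx σ).obj E, ?_, ?_, ⟨?_⟩⟩
  · intro i hi
    exact (ModuleCat.restrictScalars.{u} σ).map_isZero (hE i hi)
  · intro i
    haveI : Module.Flat A (E.X i) := hEf i
    exact flat_restrictScalars_of_flat σ hσ (E.X i)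
  · exact ((resFactors σ).app E).symm ≪≫ (DRing.restrictD σ).mapIso e ≪≫ (resFactors σ).app K

end Restrict

section Pushout

variable {R R' A : Type u} [CommRing R] [CommRing R'] [CommRing A] [Algebra R R'] [Algebra R A]

attribute [local instance] Algebra.TensorProduct.rightAlgebra

/-- base change of tor amplitude along a pushout square, flat source: if `A` is flat over `R` and
`K` is a K-flat complex of `A`-modules with tor amplitude in `[a, b]` over `R`, then
`(R' ⊗_R A) ⊗_A K` has tor amplitude in `[a, b]` over `R'`. -/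
theorem hasTorAmp_pushout_of_flat_left [Module.Flat R A] (K : Cx A) (hK : KFlat K) (a b : ℤ)
    (h : DRing.HasTorAmplitudeIn R a b (Q.obj ((resCx (algebraMap R A)).obj K))) :
    DRing.HasTorAmplitudeIn R' a b
      (Q.obj ((resCx (algebraMap R' (R' ⊗[R] A))).obj ((extCx (inr R R' A)).obj K))) := by
  have hflat : (algebraMap R A).Flat := (RingHom.flat_algebraMap_iff (R := R) (S := A)).2 inferInstance
  have hK1 : KFlat ((resCx (algebraMap R A)).obj K) := kflat_resCx_of_flat _ hflat K hK
  obtain ⟨E, hE, hEf, ⟨e⟩⟩ := h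
  have hv : TorVan ((resCx (algebraMap R A)).obj K) a b :=
    torVan_of_iso_kflat _ E hK1 a b hE hEf e
  have hv' := torVan_res_bc (R := R) (R' := R') (A := A) K a b hv
  have hflat' : (algebraMap R' (R' ⊗[R] A)).Flat :=
    (RingHom.flat_algebraMap_iff (R := R') (S := R' ⊗[R] A)).2 inferInstance
  have hK2 : KFlat ((resCx (algebraMap R' (R' ⊗[R] A))).obj ((extCx (inr R R' A)).obj K)) :=
    kflat_resCx_of_flat _ hflat' _ (kflat_extCx (inr R R' A) K hK)
  exact hasTorAmp_of_torVan_kflat _ hK2 a b hv'

end Pushout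

section Loc

/-- a flat algebra over `T₀` is flat over any localization of `T₀` through which it factors -/
theorem flat_of_isLocalization_of_flat_comp {T₀ C D : Type u} [CommRing T₀] [CommRing C]
    [CommRing D] (ι : T₀ →+* C) (δ : C →+* D) (U : Submonoid T₀)
    (hloc : letI := ι.toAlgebra; IsLocalization U C) (hflat : (δ.comp ι).Flat) : δ.Flat := by
  letI : Algebra T₀ C := ι.toAlgebra
  letI : Algebra C D := δ.toAlgebra
  letI : Algebra T₀ D := (δ.comp ι).toAlgebra
  haveI : IsScalarTower T₀ C D := IsScalarTower.of_algebraMap_eq fun x => rfl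
  haveI : IsLocalization U C := hloc
  haveI : Module.Flat T₀ D := hflat
  haveI : IsLocalizedModule U (LinearMap.id : D →ₗ[T₀] D) := isLocalizedModule_id U D C
  have hb : IsBaseChange C (LinearMap.id : D →ₗ[T₀] D) := IsLocalizedModule.isBaseChange U C _
  exact Module.Flat.isBaseChange T₀ C D D hb

end Loc

section Square

variable {R R' A A' B B' : Type u} [CommRing R] [CommRing R'] [CommRing A] [CommRing A']
  [CommRing B] [CommRing B'] [Algebra R R'] [Algebra R B]

attribute [local instance] Algebra.TensorProduct.rightAlgebra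

/-- the restriction to `R` of a complex of `B`-modules, in two steps -/
noncomputable def resResCxIso (σ : R →+* A) (φ : A →+* B) (hRB : algebraMap R B = φ.comp σ)
    (K : Cx B) : (resCx σ).obj ((resCx φ).obj K) ≅ (resCx (algebraMap R B)).obj K :=
  ((NatIso.mapHomologicalComplex (ModuleCat.restrictScalarsComp'.{u} σ φ (algebraMap R B) hRB)
    (ComplexShape.up ℤ)).app K).symm

/-- base change of tor amplitude along a square of rings which is, up to flat localizations,
a pushout square; flat source. -/
theorem hasTorAmp_baseChange_of_flat_left (σ : R →+* A) (σ' : R' →+* A') (φ : A →+* B)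
    (β : A' →+* B') (γ : B →+* B') (δ : R' ⊗[R] B →+* B')
    (hRB : algebraMap R B = φ.comp σ)
    (hδ₁ : δ.comp (algebraMap R' (R' ⊗[R] B)) = β.comp σ')
    (hδ₂ : δ.comp (inr R R' B) = γ)
    (hσ : σ.Flat) (hσ' : σ'.Flat)
    (hloc' : ∀ N' : ModuleCat.{u} A', Nonempty ((ModuleCat.extendScalars.{u, u, u} σ').obj
      ((ModuleCat.restrictScalars.{u} σ').obj N') ≅ N'))
    (hδ : δ.Flat) [Module.Flat R B] (K : Cx B) (hK : KFlat K) (a b : ℤ)
    (h : DRing.HasTorAmplitudeIn A a b (Q.obj ((resCx φ).obj K))) :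
    DRing.HasTorAmplitudeIn A' a b (Q.obj ((resCx β).obj ((extCx γ).obj K))) := by
  subst hδ₂
  have h0 : DRing.HasTorAmplitudeIn R a b (Q.obj ((resCx (algebraMap R B)).obj K)) :=
    hasTorAmp_of_iso (Q.mapIso (resResCxIso σ φ hRB K))
      (hasTorAmp_resCx_of_flat σ hσ _ a b h)
  have h1 := hasTorAmp_pushout_of_flat_left (R := R) (R' := R') (A := B) K hK a b h0
  have h2 := hasTorAmp_localize (algebraMap R' (R' ⊗[R] B)) δ σ' β hδ₁ hδ hσ' hloc'
    ((extCx (inr R R' B)).obj K) a b h1
  exact hasTorAmp_of_iso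
    (Q.mapIso ((resCx β).mapIso ((extCompCx (inr R R' B) δ).app K))) h2

end Square

section Delta

variable {R R' S T B B' : Type u} [CommRing R] [CommRing R'] [CommRing S] [CommRing T]
  [CommRing B] [CommRing B'] [Algebra R R'] [Algebra R S] [Algebra R B]

/-- two ring homomorphisms out of a tensor product of algebras agree if they agree on both
factors -/
theorem ringHom_ext_tensor {C : Type u} [CommRing C] (u v : R' ⊗[R] S →+* C)
    (h₁ : ∀ r' : R', u (r' ⊗ₜ 1) = v (r' ⊗ₜ 1)) (h₂ : ∀ s : S, u (1 ⊗ₜ s) = v (1 ⊗ₜ s)) :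
    u = v := by
  refine RingHom.ext fun t => ?_
  induction t using TensorProduct.induction_on with
  | zero => simp
  | tmul r' s =>
    have : (r' ⊗ₜ[R] s : R' ⊗[R] S) = (r' ⊗ₜ 1) * (1 ⊗ₜ s) := by
      rw [Algebra.TensorProduct.tmul_mul_tmul, mul_one, one_mul]
    rw [this, map_mul, map_mul, h₁, h₂]
  | add x y hx hy => rw [map_add, map_add, hx, hy]

attribute [local instance] Algebra.TensorProduct.rightAlgebra

/-- the comparison map from the tensor product `R' ⊗_R B`, with `B` a localization of `S`, to a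
flat algebra `B'` over `T = R' ⊗_R S` is flat -/
theorem exists_flat_delta (p : R' →+* T) (q : S →+* T) (σS : S →+* B) (τ : T →+* B')
    (γ : B →+* B') (ρ : R' →+* B')
    (e : R' ⊗[R] S ≃+* T) (he₁ : ∀ r' : R', e (r' ⊗ₜ 1) = p r') (he₂ : ∀ s : S, e (1 ⊗ₜ s) = q s)
    (hSB : algebraMap R B = σS.comp (algebraMap R S))
    (M : Submonoid S) (hloc : letI := σS.toAlgebra; IsLocalization M B)
    (hτ : τ.Flat) (hγ : γ.comp σS = τ.comp q) (hρ : ρ = τ.comp p) :
    ∃ δ : R' ⊗[R] B →+* B', δ.comp (algebraMap R' (R' ⊗[R] B)) = ρ ∧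
      δ.comp (inr R R' B) = γ ∧ δ.Flat := by
  have hpq : ∀ r : R, p (algebraMap R R' r) = q (algebraMap R S r) := by
    intro r
    rw [← he₁, ← he₂, Algebra.algebraMap_eq_smul_one, Algebra.algebraMap_eq_smul_one,
      TensorProduct.smul_tmul]
  letI : Algebra R B' := (γ.comp (algebraMap R B)).toAlgebra
  letI : Algebra S B := σS.toAlgebra
  haveI : IsScalarTower R S B := IsScalarTower.of_algebraMap_eq fun r => by
    rw [hSB]; rfl
  haveI : IsLocalization M B := hloc
  let ρA : R' →ₐ[R] B' := ⟨ρ, fun r => by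
    change ρ (algebraMap R R' r) = γ (algebraMap R B r)
    rw [hρ, hSB, RingHom.comp_apply, hpq, RingHom.comp_apply]
    exact (congrArg (fun w => w (algebraMap R S r)) hγ).symm⟩
  let γA : B →ₐ[R] B' := ⟨γ, fun r => rfl⟩
  let δ : R' ⊗[R] B →+* B' := (Algebra.TensorProduct.productMap ρA γA).toRingHom
  have hδ₁ : δ.comp (algebraMap R' (R' ⊗[R] B)) = ρ := by
    refine RingHom.ext fun r' => ?_
    change Algebra.TensorProduct.productMap ρA γA (algebraMap R' (R' ⊗[R] B) r') = ρ r'
    rw [Algebra.TensorProduct.algebraMap_apply, Algebra.algebraMap_self, RingHom.id_apply,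
      Algebra.TensorProduct.productMap_left_apply]
    rfl
  have hδ₂ : δ.comp (inr R R' B) = γ := by
    refine RingHom.ext fun b => ?_
    change Algebra.TensorProduct.productMap ρA γA ((1 : R') ⊗ₜ[R] b) = γ b
    rw [Algebra.TensorProduct.productMap_right_apply]
    rfl
  refine ⟨δ, hδ₁, hδ₂, ?_⟩
  -- the localization `R' ⊗ S → R' ⊗ B`
  letI : Algebra (R' ⊗[R] S) (R' ⊗[R] B) :=
    (Algebra.TensorProduct.map (AlgHom.id R R') (IsScalarTower.toAlgHom R S B)).toAlgebra
  haveI : IsScalarTower R' (R' ⊗[R] S) (R' ⊗[R] B) :=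
    .of_algebraMap_eq <| by intro; simp [RingHom.algebraMap_toAlgebra]
  haveI hl := IsLocalization.tensorProduct_tensorProduct_right R R' M B
    (by ext; simp [RingHom.algebraMap_toAlgebra])
  refine flat_of_isLocalization_of_flat_comp (algebraMap (R' ⊗[R] S) (R' ⊗[R] B)) δ _ hl ?_
  have hcomp : δ.comp (algebraMap (R' ⊗[R] S) (R' ⊗[R] B)) = τ.comp e.toRingHom := by
    apply ringHom_ext_tensor
    · intro r'
      change Algebra.TensorProduct.productMap ρA γA
        (Algebra.TensorProduct.map (AlgHom.id R R') (IsScalarTower.toAlgHom R S B)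
          (r' ⊗ₜ[R] (1 : S))) = τ (e (r' ⊗ₜ 1))
      rw [Algebra.TensorProduct.map_tmul, map_one, Algebra.TensorProduct.productMap_left_apply,
        he₁]
      change ρ r' = τ (p r')
      rw [hρ]
      rfl
    · intro s
      change Algebra.TensorProduct.productMap ρA γA
        (Algebra.TensorProduct.map (AlgHom.id R R') (IsScalarTower.toAlgHom R S B)
          ((1 : R') ⊗ₜ[R] s)) = τ (e (1 ⊗ₜ s))
      rw [Algebra.TensorProduct.map_tmul, map_one, Algebra.TensorProduct.productMap_right_apply,
        he₂]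
      exact congrArg (fun w => w s) hγ
  rw [hcomp]
  exact RingHom.Flat.comp (RingHom.Flat.of_bijective e.bijective) hτ

end Delta

section BC

variable {R R' A : Type u} [CommRing R] [CommRing R'] [CommRing A] [Algebra R R'] [Algebra R A]

attribute [local instance] Algebra.TensorProduct.rightAlgebra

/-- the Beck–Chevalley isomorphism for the pushout square of `R → A` and `R → R'`, on objects -/
noncomputable def bcApp (X : ModuleCat.{u} A) :
    (ModuleCat.extendScalars.{u, u, u} (algebraMap R R')).obj (RX (R := R) X) ≅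
      REX (R := R) (R' := R') X :=
  letI : Module R X := Module.compHom X (algebraMap R A)
  haveI : IsScalarTower R A X := IsScalarTower.of_algebraMap_smul (fun r m => rfl)
  ((Groth.Agent.Lib.Helper1.Extend.extEquiv (A := R) (B := R') (RX (R := R) X)) ≪≫ₗ
    (Algebra.IsPushout.cancelBaseChange R R' A (R' ⊗[R] A) X).symm ≪≫ₗ
      (br (R := R) (R' := R') X).symm).toModuleIso

theorem bcApp_hom_tmul (X : ModuleCat.{u} A)
    (r' : ↑((ModuleCat.restrictScalars.{u} (algebraMap R R')).obj (ModuleCat.of R' R')))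
    (x : ↑(RX (R := R) X)) :
    (bcApp (R := R) (R' := R') X).hom.hom (r' ⊗ₜ[R] x) =
      (br (R := R) (R' := R') X).symm
        ((algebraMap R' (R' ⊗[R] A) (show R' from r')) ⊗ₜ[A] (show ↑X from x)) := by
  letI : Module R X := Module.compHom X (algebraMap R A)
  haveI : IsScalarTower R A X := IsScalarTower.of_algebraMap_smul (fun r m => rfl)
  change (br (R := R) (R' := R') X).symm
    ((Algebra.IsPushout.cancelBaseChange R R' A (R' ⊗[R] A) X).symm
      ((show R' from r') ⊗ₜ[R] (show ↑X from x))) = _
  rw [Algebra.IsPushout.cancelBaseChange_symm_tmul]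

theorem bcApp_naturality {X Y : ModuleCat.{u} A} (l : X ⟶ Y) :
    (ModuleCat.extendScalars.{u, u, u} (algebraMap R R')).map
        ((ModuleCat.restrictScalars.{u} (algebraMap R A)).map l) ≫
      (bcApp (R := R) (R' := R') Y).hom =
    (bcApp (R := R) (R' := R') X).hom ≫ resext (R := R) (R' := R') l := by
  apply ModuleCat.hom_ext
  apply LinearMap.ext
  intro t
  induction t using TensorProduct.induction_on with
  | zero => exact (LinearMap.map_zero _).trans (LinearMap.map_zero _).symm
  | add x y hx hy =>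
    exact (LinearMap.map_add _ _ _).trans ((congrArg₂ (· + ·) hx hy).trans
      (LinearMap.map_add _ _ _).symm)
  | tmul r' x =>
    change (bcApp (R := R) (R' := R') Y).hom.hom
        (((ModuleCat.extendScalars.{u, u, u} (algebraMap R R')).map
          ((ModuleCat.restrictScalars.{u} (algebraMap R A)).map l)).hom (r' ⊗ₜ[R] x)) =
      (resext (R := R) (R' := R') l).hom ((bcApp (R := R) (R' := R') X).hom.hom (r' ⊗ₜ[R] x))
    rw [bcApp_hom_tmul]
    erw [ModuleCat.ExtendScalars.map_tmul]
    erw [bcApp_hom_tmul]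
    rfl

/-- the Beck–Chevalley isomorphism for the pushout square of `R → A` and `R → R'` -/
noncomputable def bcNatIso :
    ModuleCat.restrictScalars.{u} (algebraMap R A) ⋙
        ModuleCat.extendScalars.{u, u, u} (algebraMap R R') ≅
      ModuleCat.extendScalars.{u, u, u} (inr R R' A) ⋙
        ModuleCat.restrictScalars.{u} (algebraMap R' (R' ⊗[R] A)) :=
  NatIso.ofComponents (fun X => bcApp (R := R) (R' := R') X)
    (fun l => bcApp_naturality (R := R) (R' := R') l)

/-- base change of tor amplitude along a pushout square, flat base change: if `R'` is flat over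
`R` and `K` is a complex of `A`-modules with tor amplitude in `[a, b]` over `R`, then
`(R' ⊗_R A) ⊗_A K` has tor amplitude in `[a, b]` over `R'`. -/
theorem hasTorAmp_pushout_of_flat_right [Module.Flat R R'] (K : Cx A) (a b : ℤ)
    (h : DRing.HasTorAmplitudeIn R a b (Q.obj ((resCx (algebraMap R A)).obj K))) :
    DRing.HasTorAmplitudeIn R' a b
      (Q.obj ((resCx (algebraMap R' (R' ⊗[R] A))).obj ((extCx (inr R R' A)).obj K))) := by
  have h1 := Groth.Agent.Lib.Helper1.Extend.hasTorAmp_extD (A := R) (B := R') _ a b h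
  refine hasTorAmp_of_iso ?_ h1
  exact Groth.Agent.Lib.Helper1.Extend.mapQIso (Groth.Agent.Lib.Helper1.Extend.ext R R') _ ≪≫
    Q.mapIso ((NatIso.mapHomologicalComplex (bcNatIso (R := R) (R' := R') (A := A))
      (ComplexShape.up ℤ)).app K)

end BC

section SquareRight

variable {R R' A A' B B' : Type u} [CommRing R] [CommRing R'] [CommRing A] [CommRing A']
  [CommRing B] [CommRing B'] [Algebra R R'] [Algebra R B]

attribute [local instance] Algebra.TensorProduct.rightAlgebra

/-- base change of tor amplitude along a square of rings which is, up to flat localizations,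
a pushout square; flat base change. -/
theorem hasTorAmp_baseChange_of_flat_right (σ : R →+* A) (σ' : R' →+* A') (φ : A →+* B)
    (β : A' →+* B') (γ : B →+* B') (δ : R' ⊗[R] B →+* B')
    (hRB : algebraMap R B = φ.comp σ)
    (hδ₁ : δ.comp (algebraMap R' (R' ⊗[R] B)) = β.comp σ')
    (hδ₂ : δ.comp (inr R R' B) = γ)
    (hσ : σ.Flat) (hσ' : σ'.Flat)
    (hloc' : ∀ N' : ModuleCat.{u} A', Nonempty ((ModuleCat.extendScalars.{u, u, u} σ').obj
      ((ModuleCat.restrictScalars.{u} σ').obj N') ≅ N'))
    (hδ : δ.Flat) [Module.Flat R R'] (K : Cx B) (a b : ℤ)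
    (h : DRing.HasTorAmplitudeIn A a b (Q.obj ((resCx φ).obj K))) :
    DRing.HasTorAmplitudeIn A' a b (Q.obj ((resCx β).obj ((extCx γ).obj K))) := by
  subst hδ₂
  have h0 : DRing.HasTorAmplitudeIn R a b (Q.obj ((resCx (algebraMap R B)).obj K)) :=
    hasTorAmp_of_iso (Q.mapIso (resResCxIso σ φ hRB K))
      (hasTorAmp_resCx_of_flat σ hσ _ a b h)
  have h1 := hasTorAmp_pushout_of_flat_right (R := R) (R' := R') (A := B) K a b h0
  have h2 := hasTorAmp_localize (algebraMap R' (R' ⊗[R] B)) δ σ' β hδ₁ hδ hσ' hloc'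
    ((extCx (inr R R' B)).obj K) a b h1
  exact hasTorAmp_of_iso
    (Q.mapIso ((resCx β).mapIso ((extCompCx (inr R R' B) δ).app K))) h2

end SquareRight

end Groth.Agent.Lib.T2H1.TorAmpBC
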