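import Mathlib
import Groth.Agent.Lib.T2H1TorAmpBC
set_option backward.isDefEq.respectTransparency.types false

/-!
# Tor amplitude over a weakly étale algebra (helper1, second team)

For a weakly étale ring map `R → R'`, an object of `D(R')` has tor amplitude in `[a, b]` over `R'` if
and only if it has tor amplitude in `[a, b]` over `R`.
-/

set_option autoImplicit false
set_option linter.style.haveILetI false
universe u
open CategoryTheory CategoryTheory.Limits HomologicalComplex MonoidalCategory TensorProduct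

attribute [local instance] HasDerivedCategory.standard

namespace Groth.Agent.Lib.T2H1.TorAmpWE

open Groth.Agent.Lib.Helper1.KF Groth.Agent.Lib.Helper1.DT DerivedCategory DTen
  Groth.Agent.Lib.Helper1.Tor Groth.Agent.Lib.T2H4.TorRes Groth.Agent.Lib.Helper1.TorO
  Groth.Agent.Lib.T2H1.TildeTorAmp Groth.Agent.Lib.T2H1.RelFlatAmp
  Groth.Agent.Lib.Helper1.RelBC Groth.Agent.Lib.T2H1.TorAmpBC

variable {R R' : Type u} [CommRing R] [CommRing R'] [Algebra R R']

/-- restriction of scalars along a flat ring map preserves tor amplitude -/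
theorem hasTorAmp_restrictD_of_flat [Module.Flat R R'] (K : Dual.D R') (a b : ℤ)
    (h : DRing.HasTorAmplitudeIn R' a b K) :
    DRing.HasTorAmplitudeIn R a b ((DRing.restrictD (algebraMap R R')).obj K) := by
  let K₀ : Cx R' := (Q : Cx R' ⥤ Dual.D R').objPreimage K
  have eK : Q.obj K₀ ≅ K := (Q : Cx R' ⥤ Dual.D R').objObjPreimageIso K
  have hfl : (algebraMap R R').Flat := (RingHom.flat_algebraMap_iff (R := R) (S := R')).2 inferInstance
  have h1 := hasTorAmp_resCx_of_flat (algebraMap R R') hfl K₀ a b (hasTorAmp_of_iso eK.symm h)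
  exact hasTorAmp_of_iso (((resFactors (algebraMap R R')).app K₀).symm ≪≫
    (DRing.restrictD (algebraMap R R')).mapIso eK) h1

/-- over a weakly étale algebra, tor amplitude can be tested over the base -/
theorem hasTorAmp_of_weaklyEtale [Algebra.WeaklyEtale R R'] (K : Dual.D R') (a b : ℤ)
    (h : DRing.HasTorAmplitudeIn R a b ((DRing.restrictD (algebraMap R R')).obj K)) :
    DRing.HasTorAmplitudeIn R' a b K := by
  let K₀ : Cx R' := (Q : Cx R' ⥤ Dual.D R').objPreimage K
  have eK : Q.obj K₀ ≅ K := (Q : Cx R' ⥤ Dual.D R').objObjPreimageIso K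
  have hK₀ : DRing.HasTorAmplitudeIn R a b (Q.obj ((resCx (algebraMap R R')).obj K₀)) :=
    hasTorAmp_of_iso ((DRing.restrictD (algebraMap R R')).mapIso eK.symm ≪≫
      (resFactors (algebraMap R R')).app K₀) h
  have h1 := hasTorAmp_pushout_of_flat_right (R := R) (R' := R') (A := R') K₀ a b hK₀
  let μ : R' ⊗[R] R' →+* R' := (Algebra.TensorProduct.lmul' R (S := R')).toRingHom
  have hμ : μ.Flat := Algebra.WeaklyEtale.flat_lmul' R R'
  have hcomm : μ.comp (algebraMap R' (R' ⊗[R] R')) = (RingHom.id R').comp (RingHom.id R') := by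
    ext x
    change Algebra.TensorProduct.lmul' R (S := R') (algebraMap R' (R' ⊗[R] R') x) = x
    rw [Algebra.TensorProduct.algebraMap_apply, Algebra.algebraMap_self, RingHom.id_apply,
      Algebra.TensorProduct.lmul'_apply_tmul, mul_one]
  have hμinr : μ.comp (inr R R' R') = RingHom.id R' := by
    ext x
    simp [μ]
  have hloc : ∀ N' : ModuleCat.{u} R', Nonempty ((ModuleCat.extendScalars.{u, u, u}
      (RingHom.id R')).obj ((ModuleCat.restrictScalars.{u} (RingHom.id R')).obj N') ≅ N') :=
    fun N' => ⟨(ModuleCat.extendScalarsId.{u} R').app _ ≪≫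
      (ModuleCat.restrictScalarsId'.{u} (RingHom.id R') rfl).app N'⟩
  have h2 := hasTorAmp_localize (algebraMap R' (R' ⊗[R] R')) μ (RingHom.id R') (RingHom.id R')
    hcomm hμ (RingHom.Flat.id R') hloc ((extCx (inr R R' R')).obj K₀) a b h1
  refine hasTorAmp_of_iso (?_ ≪≫ eK) h2
  refine Q.mapIso ?_
  exact (NatIso.mapHomologicalComplex (ModuleCat.restrictScalarsId'.{u} (RingHom.id R') rfl)
      (ComplexShape.up ℤ)).app _ ≪≫
    (extCompCx (inr R R' R') μ).app K₀ ≪≫ eqToIso (by rw [hμinr]) ≪≫
    (NatIso.mapHomologicalComplex (ModuleCat.extendScalarsId.{u} R') (ComplexShape.up ℤ)).app K₀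

/-- for a weakly étale algebra, tor amplitude over the algebra is tor amplitude over the base -/
theorem hasTorAmp_iff_of_weaklyEtale [Algebra.WeaklyEtale R R'] (K : Dual.D R') (a b : ℤ) :
    DRing.HasTorAmplitudeIn R a b ((DRing.restrictD (algebraMap R R')).obj K) ↔
      DRing.HasTorAmplitudeIn R' a b K :=
  ⟨hasTorAmp_of_weaklyEtale K a b, hasTorAmp_restrictD_of_flat K a b⟩

end Groth.Agent.Lib.T2H1.TorAmpWE
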