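import Groth.Agent.Lib.T2H7PolyTorB
import Groth.Agent.Lib.T2H7PerfHom
import Groth.Agent.Lib.T2H7PdPC2
import Groth.Agent.Lib.Helper14TorSyz
import Groth.Agent.Lib.Helper14WEField
import Groth.Agent.Lib.T2H1TorAmpWE
import Groth.Agent.Lib.Helper1TorDim

/-!
# Tor dimension over a smooth algebra (T2H1)

If `A → B` is standard smooth of relative dimension `n` and `N` is a `B`-module of tor dimension
`≤ d` over `A`, then `N` has tor dimension `≤ d + n` over `B`: factor `A → A[x₁..xₙ] → B` with the
second map étale, use helper7's polynomial step and the ascent of tor dimension along weakly étale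
maps.  A version allowing a flat change of `A` and a weakly étale change of `B` (localisations) is
included for use at stalks.
-/

set_option autoImplicit false
set_option linter.style.haveILetI false
universe u
open CategoryTheory CategoryTheory.Limits

attribute [local instance] HasDerivedCategory.standard

namespace Groth.Agent.Lib.T2H1.SmoothTor

open Groth.Agent.Lib.Helper1.TorDim Groth.Agent.Lib.T2H7.PerfHom Groth.Agent.Lib.T2H7.PdPC
  Groth.Agent.Lib.Helper1.Restrict Groth.Agent.Lib.Helper1.Tor

/-- tor dimension over a standard smooth algebra -/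
theorem hasTorDimLE_of_isStandardSmooth {A B : Type u} [CommRing A] [CommRing B] [Algebra A B]
    (n : ℕ) (hf : (algebraMap A B).IsStandardSmoothOfRelativeDimension n)
    (N : Type u) [AddCommGroup N] [Module A N] [Module B N] [IsScalarTower A B N] (d : ℕ)
    (h : DRing.HasTorDimLE A d N) : DRing.HasTorDimLE B (d + n) N := by
  obtain ⟨g, hg, hge⟩ := hf.exists_etale_mvPolynomial
  letI algPB : Algebra (MvPolynomial (Fin n) A) B := g.toAlgebra
  letI : Module (MvPolynomial (Fin n) A) N := Module.compHom N g
  haveI : IsScalarTower (MvPolynomial (Fin n) A) B N :=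
    IsScalarTower.of_algebraMap_smul (fun _ _ => rfl)
  haveI : IsScalarTower A (MvPolynomial (Fin n) A) N := by
    refine IsScalarTower.of_algebraMap_smul (fun a m => ?_)
    show g (algebraMap A (MvPolynomial (Fin n) A) a) • m = a • m
    have h1 : g (MvPolynomial.C a) = algebraMap A B a := by
      rw [← hg]; rfl
    rw [MvPolynomial.algebraMap_eq, h1, algebraMap_smul]
  have h1 := Groth.Agent.Lib.T2H7.PolyTorB.hasTorDimLE_mvPolynomial A n N d h
  haveI : Algebra.Etale (MvPolynomial (Fin n) A) B := hge
  exact Groth.Agent.Lib.Helper14.TorSyz.hasTorDimLE_of_weaklyEtale (MvPolynomial (Fin n) A) B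
    (d + n) N h1

/-- restriction of scalars along a flat map does not increase the tor dimension -/
theorem hasTorDimLE_of_flat {A A' : Type u} [CommRing A] [CommRing A'] [Algebra A A']
    [Module.Flat A A'] (N : Type u) [AddCommGroup N] [Module A N] [Module A' N]
    [IsScalarTower A A' N] (d : ℕ) (h : DRing.HasTorDimLE A' d N) : DRing.HasTorDimLE A d N := by
  have h1 := (hasTorDimLE_iff_hasTorAmp N d).1 h
  have h2 := Groth.Agent.Lib.T2H1.TorAmpWE.hasTorAmp_restrictD_of_flat (R := A) (R' := A') _ _ _ h1
  have h3 := hasTorAmp_of_iso (restrictDInDIso (A := A) (B := A') N) h2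
  exact (hasTorDimLE_iff_hasTorAmp N d).2 h3

/-- the version used at stalks: `A → A'` flat, `B → B'` weakly étale -/
theorem hasTorDimLE_of_isStandardSmooth_local {A B A' B' : Type u} [CommRing A] [CommRing B]
    [CommRing A'] [CommRing B'] [Algebra A B] [Algebra A A'] [Algebra B B'] [Algebra A' B']
    [Algebra A B'] [IsScalarTower A B B'] [IsScalarTower A A' B'] [Module.Flat A A']
    [Algebra.WeaklyEtale B B']
    (n : ℕ) (hf : (algebraMap A B).IsStandardSmoothOfRelativeDimension n)
    (N : Type u) [AddCommGroup N] [Module A' N] [Module B' N] [IsScalarTower A' B' N] (d : ℕ)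
    (h : DRing.HasTorDimLE A' d N) : DRing.HasTorDimLE B' (d + n) N := by
  letI : Module A N := Module.compHom N (algebraMap A B')
  letI : Module B N := Module.compHom N (algebraMap B B')
  haveI : IsScalarTower A B' N := IsScalarTower.of_algebraMap_smul (fun _ _ => rfl)
  haveI : IsScalarTower B B' N := IsScalarTower.of_algebraMap_smul (fun _ _ => rfl)
  haveI : IsScalarTower A A' N := by
    refine IsScalarTower.of_algebraMap_smul (fun a m => ?_)
    show algebraMap A A' a • m = algebraMap A B' a • m
    rw [IsScalarTower.algebraMap_apply A A' B', algebraMap_smul B' (algebraMap A A' a) m]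
  haveI : IsScalarTower A B N := by
    refine IsScalarTower.of_algebraMap_smul (fun a m => ?_)
    show algebraMap B B' (algebraMap A B a) • m = algebraMap A B' a • m
    rw [← IsScalarTower.algebraMap_apply A B B']
  have h1 : DRing.HasTorDimLE A d N := hasTorDimLE_of_flat (A := A) (A' := A') N d h
  have h2 : DRing.HasTorDimLE B (d + n) N := hasTorDimLE_of_isStandardSmooth n hf N d h1
  exact Groth.Agent.Lib.Helper14.TorSyz.hasTorDimLE_of_weaklyEtale B B' (d + n) N h2

/-! ### The abstract form: a ring map along which tor dimension goes up by at most `n` -/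

/-- `B`-modules gain at most `n` in tor dimension when passing from `A` to `B` -/
def TorShift (A B : Type u) [CommRing A] [CommRing B] [Algebra A B] (n : ℕ) : Prop :=
  ∀ (N : Type u) [AddCommGroup N] [Module A N] [Module B N] [IsScalarTower A B N] (d : ℕ),
    DRing.HasTorDimLE A d N → DRing.HasTorDimLE B (d + n) N

theorem torShift_of_isStandardSmooth {A B : Type u} [CommRing A] [CommRing B] [Algebra A B]
    (n : ℕ) (hf : (algebraMap A B).IsStandardSmoothOfRelativeDimension n) : TorShift A B n :=
  fun N _ _ _ _ d h => hasTorDimLE_of_isStandardSmooth n hf N d h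

theorem torShift_mvPolynomial (A : Type u) [CommRing A] (n : ℕ) :
    TorShift A (MvPolynomial (Fin n) A) n :=
  fun N _ _ _ _ d h => Groth.Agent.Lib.T2H7.PolyTorB.hasTorDimLE_mvPolynomial A n N d h

/-- `TorShift` passes to an isomorphic target -/
theorem torShift_of_bijective {A B B' : Type u} [CommRing A] [CommRing B] [CommRing B']
    [Algebra A B] [Algebra B B'] [Algebra A B'] [IsScalarTower A B B']
    (hb : Function.Bijective (algebraMap B B')) (n : ℕ) (h : TorShift A B n) :
    TorShift A B' n := by
  intro N _ _ _ _ d hd
  letI : Module B N := Module.compHom N (algebraMap B B')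
  haveI : IsScalarTower B B' N := IsScalarTower.of_algebraMap_smul (fun _ _ => rfl)
  haveI : IsScalarTower A B N := by
    refine IsScalarTower.of_algebraMap_smul (fun a m => ?_)
    show algebraMap B B' (algebraMap A B a) • m = a • m
    rw [← IsScalarTower.algebraMap_apply A B B', algebraMap_smul]
  exact Groth.Agent.Lib.T2H7.PolyTorB.hasTorDimLE_of_bijective B B' hb N _ (h N d hd)

/-- the version used at stalks: `A → A'` flat, `B → B'` weakly étale -/
theorem hasTorDimLE_of_torShift_local {A B A' B' : Type u} [CommRing A] [CommRing B]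
    [CommRing A'] [CommRing B'] [Algebra A B] [Algebra A A'] [Algebra B B'] [Algebra A' B']
    [Algebra A B'] [IsScalarTower A B B'] [IsScalarTower A A' B'] [Module.Flat A A']
    [Algebra.WeaklyEtale B B']
    (n : ℕ) (hf : TorShift A B n)
    (N : Type u) [AddCommGroup N] [Module A' N] [Module B' N] [IsScalarTower A' B' N] (d : ℕ)
    (h : DRing.HasTorDimLE A' d N) : DRing.HasTorDimLE B' (d + n) N := by
  letI : Module A N := Module.compHom N (algebraMap A B')
  letI : Module B N := Module.compHom N (algebraMap B B')
  haveI : IsScalarTower A B' N := IsScalarTower.of_algebraMap_smul (fun _ _ => rfl)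
  haveI : IsScalarTower B B' N := IsScalarTower.of_algebraMap_smul (fun _ _ => rfl)
  haveI : IsScalarTower A A' N := by
    refine IsScalarTower.of_algebraMap_smul (fun a m => ?_)
    show algebraMap A A' a • m = algebraMap A B' a • m
    rw [IsScalarTower.algebraMap_apply A A' B', algebraMap_smul B' (algebraMap A A' a) m]
  haveI : IsScalarTower A B N := by
    refine IsScalarTower.of_algebraMap_smul (fun a m => ?_)
    show algebraMap B B' (algebraMap A B a) • m = algebraMap A B' a • m
    rw [← IsScalarTower.algebraMap_apply A B B']
  have h1 : DRing.HasTorDimLE A d N := hasTorDimLE_of_flat (A := A) (A' := A') N d h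
  have h2 : DRing.HasTorDimLE B (d + n) N := hf N d h1
  exact Groth.Agent.Lib.Helper14.TorSyz.hasTorDimLE_of_weaklyEtale B B' (d + n) N h2

end Groth.Agent.Lib.T2H1.SmoothTor
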