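import Groth.Agent.Lib.T2H1ClosedPerf
import Groth.Agent.Lib.T2H1SmoothTor

/-!
# `f_* O_X` is perfect for `f` affine with `f_* O_X` pseudo-coherent, `X` flat over `S` and
`Y` smooth over `S` (T2H1)
-/

set_option autoImplicit false
set_option linter.style.haveILetI false
universe u
open CategoryTheory CategoryTheory.Limits AlgebraicGeometry Opposite

attribute [local instance] HasDerivedCategory.standard

namespace Groth.Agent.Lib.T2H1.AffPushPerf

open Scheme.Modules Groth.Agent.Lib.T2H8.PerfLocal Groth.Agent.Lib.T2H2.AffRed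
  Groth.Agent.Lib.T2H2.TildeLoc Groth.Agent.Lib.T2H2.FinPush DerivedCategory
  Groth.Agent.Lib.T2H1.ClosedPerf Groth.Agent.Lib.T2H1.SmoothTor

variable {X Y S : Scheme.{u}} (f : X ⟶ Y)

/-- local form of `isPerfect_push_of_charts`: it is enough to find, around every point of the
target, one affine chart over which the sections form a perfect module. -/
theorem isPerfect_push_of_charts_local [IsAffineHom f]
    (h : ∀ y : Y, ∃ (V : Y.Opens), IsAffineOpen V ∧ y ∈ V ∧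
      DRing.IsPerfect Γ(Y, V) ((Groth.Agent.Lib.Helper1.Restrict.G (f.app V).hom).obj
        (ModuleCat.of Γ(X, f ⁻¹ᵁ V) Γ(X, f ⁻¹ᵁ V)))) :
    DCoh.IsPerfect (DCoh.inD Y ((pushforward f).obj (Coh.structureModule X))) := by
  rw [isPerfect_iff]
  intro y
  obtain ⟨V, hV, hyV, hperf⟩ := h y
  have hU : IsAffineOpen (f ⁻¹ᵁ V) := hV.preimage f
  have hr : y ∈ Set.range hV.fromSpec := by rw [hV.range_fromSpec]; exact hyV
  obtain ⟨y', rfl⟩ := hr
  refine locPerf_of_isPerfect_rD hV.fromSpec _ y' ?_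
  refine isPerfect_of_iso ?_ (isPerfect_tildeD_of_isPerfect Γ(Y, V) _ hperf)
  exact (((restrictFunctor hV.fromSpec).mapDerivedCategorySingleFunctor 0).app _ ≪≫
    (singleFunctor _ 0).mapIso (chartPushIso f hV hU (Coh.structureModule X) ≪≫
      (pushforward (Spec.map (f.app V))).mapIso (restrictUnitIso hU.fromSpec ≪≫ tildeSelf.symm) ≪≫
      (Groth.Agent.Lib.T2H2.TildePush.tildePushIso (f.app V)).app (ModuleCat.of _ _)) ≪≫
    (((tilde.functor _).mapDerivedCategorySingleFunctor 0).app _).symm).symm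

/-- `f` affine, `g` smooth, `f ≫ g` flat and `f_* O_X` pseudo-coherent: then `f_* O_X` is
perfect. -/
theorem isPerfect_push_of_flat_over_smooth (g : Y ⟶ S) [IsAffineHom f] [Smooth g] [Flat (f ≫ g)]
    (hpc : ∀ m : ℤ, DCoh.IsPseudoCoherentD m
      (DCoh.inD Y ((pushforward f).obj (Coh.structureModule X)))) :
    DCoh.IsPerfect (DCoh.inD Y ((pushforward f).obj (Coh.structureModule X))) := by
  refine isPerfect_push_of_charts_local f fun y => ?_
  obtain ⟨U, hU, V, hV, hy, e, hsm⟩ := Smooth.exists_isStandardSmooth g y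
  obtain ⟨n, hn⟩ : ∃ n : ℕ, (g.appLE U V e).hom.IsStandardSmoothOfRelativeDimension n := by
    obtain ⟨_, _, _, _, ⟨P⟩⟩ := hsm
    let := (g.appLE U V e).hom.toAlgebra
    exact ⟨_, ⟨_, _, _, ‹_›, P, rfl⟩⟩
  have hW : IsAffineOpen (f ⁻¹ᵁ V) := hV.preimage f
  refine ⟨V, hV, hy, ?_⟩
  -- the rings
  letI iAB : Algebra Γ(S, U) Γ(Y, V) := (g.appLE U V e).hom.toAlgebra
  letI iBC : Algebra Γ(Y, V) Γ(X, f ⁻¹ᵁ V) := (f.app V).hom.toAlgebra
  have e' : f ⁻¹ᵁ V ≤ (f ≫ g) ⁻¹ᵁ U := fun x hx => e hx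
  letI iAC : Algebra Γ(S, U) Γ(X, f ⁻¹ᵁ V) := ((f ≫ g).appLE U (f ⁻¹ᵁ V) e').hom.toAlgebra
  haveI : IsScalarTower Γ(S, U) Γ(Y, V) Γ(X, f ⁻¹ᵁ V) := by
    refine IsScalarTower.of_algebraMap_eq (fun a => ?_)
    have h1 : (f ≫ g).appLE U (f ⁻¹ᵁ V) e' = g.appLE U V e ≫ f.app V := by
      rw [Scheme.Hom.app_eq_appLE, Scheme.Hom.appLE_comp_appLE]
    exact congrArg (fun φ => φ.hom a) h1
  haveI : Module.Flat Γ(S, U) Γ(X, f ⁻¹ᵁ V) := (f ≫ g).flat_appLE hU hW e'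
  have h0 : DRing.HasTorDimLE Γ(S, U) 0 Γ(X, f ⁻¹ᵁ V) :=
    (Groth.Agent.Lib.Helper1.TorDim.hasTorDimLE_zero_iff_flat _).2 inferInstance
  have h1 : DRing.HasTorDimLE Γ(Y, V) (0 + n) Γ(X, f ⁻¹ᵁ V) :=
    hasTorDimLE_of_isStandardSmooth n hn _ 0 h0
  have h2 := (Groth.Agent.Lib.Helper1.TorDim.hasTorDimLE_iff_hasTorAmp Γ(X, f ⁻¹ᵁ V) (0 + n)).1 h1
  -- the comparison of the two descriptions of the module
  let ε : Dual.inD Γ(Y, V) Γ(X, f ⁻¹ᵁ V) ≅
      (Groth.Agent.Lib.Helper1.Restrict.G (f.app V).hom).obj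
        (ModuleCat.of Γ(X, f ⁻¹ᵁ V) Γ(X, f ⁻¹ᵁ V)) :=
    (singleFunctor _ 0).mapIso (LinearEquiv.toModuleIso
      { toFun := fun b => b
        invFun := fun b => b
        map_add' := fun _ _ => rfl
        map_smul' := fun _ _ => rfl
        left_inv := fun _ => rfl
        right_inv := fun _ => rfl })
  have hbpc := bpc_of_isPseudoCoherentD_push f hV hW hpc
  have hpc' : DRing.IsPseudoCoherent' Γ(Y, V) (Dual.inD Γ(Y, V) Γ(X, f ⁻¹ᵁ V)) := by
    rw [Groth.Agent.Lib.T2H7.PdPC.isPC'_iff_forall]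
    intro m
    exact Groth.Agent.Lib.Helper1.PC.isPC_of_iso ε.symm (hbpc m)
  exact dring_isPerfect_of_iso ε
    ((Groth.Agent.S6954.result Γ(Y, V) _).2 ⟨hpc', ⟨_, _, h2⟩⟩)

end Groth.Agent.Lib.T2H1.AffPushPerf
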