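import Mathlib
import Groth.Prelude.Def_AlgSpInf

/-!
# Affine first order thickenings are of the form `Spec (A ⧸ I) ⟶ Spec A` (helper1)
-/

set_option autoImplicit false
universe u
open CategoryTheory CategoryTheory.Limits AlgebraicGeometry Opposite
open AlgSp

namespace Groth.Agent.Lib.T2H1.AffThick

variable {S : Scheme.{u}}

/-- a closed immersion of schemes over `S` with affine target and square zero kernel is isomorphic
over `S` to `Spec (A ⧸ I) ⟶ Spec A` with `I ^ 2 = ⊥`. -/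
theorem exists_infSq_data {V W : Over S} (snd : W ⟶ V) (hV : IsAffine V.left)
    (hcl : IsClosedImmersion snd.left) (hsq : snd.left.ker * snd.left.ker = ⊥) :
    ∃ (A : Type u) (_ : CommRing A) (I : Ideal A) (_ : I ^ 2 = ⊥) (str : Spec (.of A) ⟶ S)
      (eV : Over.mk str ≅ V)
      (eW : Over.mk (Spec.map (CommRingCat.ofHom (Ideal.Quotient.mk I)) ≫ str) ≅ W),
      eW.hom ≫ snd = (Over.homMk (Spec.map (CommRingCat.ofHom (Ideal.Quotient.mk I))) rfl :
        Over.mk (Spec.map (CommRingCat.ofHom (Ideal.Quotient.mk I)) ≫ str) ⟶ Over.mk str) ≫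
          eV.hom := by
  haveI := hV
  haveI := hcl
  obtain ⟨hW, hsurj⟩ := IsClosedImmersion.isAffine_surjective_of_isAffine snd.left
  haveI := hW
  let φ : Γ(V.left, ⊤) ⟶ Γ(W.left, ⊤) := snd.left.appTop
  let I : Ideal Γ(V.left, ⊤) := RingHom.ker φ.hom
  have hI : I ^ 2 = ⊥ := by
    have h1 := congr(($hsq).ideal ⟨⊤, isAffineOpen_top V.left⟩)
    rw [Scheme.IdealSheafData.ideal_mul, Pi.mul_apply, Scheme.Hom.ker_apply,
      Scheme.IdealSheafData.ideal_bot, Pi.bot_apply] at h1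
    rw [pow_two]
    exact h1
  let e : (Γ(V.left, ⊤) ⧸ I) ≃+* Γ(W.left, ⊤) := RingHom.quotientKerEquivOfSurjective hsurj
  let str : Spec (.of Γ(V.left, ⊤)) ⟶ S := V.left.isoSpec.inv ≫ V.hom
  let eV : Over.mk str ≅ V := Over.isoMk V.left.isoSpec.symm (by simp [str])
  let q : Spec (.of (Γ(V.left, ⊤) ⧸ I)) ⟶ Spec (.of Γ(V.left, ⊤)) :=
    Spec.map (CommRingCat.ofHom (Ideal.Quotient.mk I))
  let eC : CommRingCat.of (Γ(V.left, ⊤) ⧸ I) ≅ Γ(W.left, ⊤) := e.toCommRingCatIso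
  have hq : CommRingCat.ofHom (Ideal.Quotient.mk I) ≫ eC.hom = φ := by
    ext x
    rfl
  let eW₀ : Spec (.of (Γ(V.left, ⊤) ⧸ I)) ≅ W.left :=
    (Scheme.Spec.mapIso eC.op).symm ≪≫ W.left.isoSpec.symm
  have hkey : eW₀.hom ≫ snd.left = q ≫ V.left.isoSpec.inv := by
    have h2 := Scheme.isoSpec_hom_naturality snd.left
    have h3 : W.left.isoSpec.inv ≫ snd.left = Spec.map snd.left.appTop ≫ V.left.isoSpec.inv := by
      rw [Iso.inv_comp_eq, ← Category.assoc, h2, Category.assoc, Iso.hom_inv_id, Category.comp_id]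
    have h4 : (Scheme.Spec.mapIso eC.op).inv ≫ Spec.map eC.hom = 𝟙 _ :=
      (Scheme.Spec.mapIso eC.op).inv_hom_id
    have h5 : Spec.map snd.left.appTop = Spec.map eC.hom ≫ q := by
      rw [← Spec.map_comp, hq]
    simp only [eW₀, Iso.trans_hom, Iso.symm_hom, Category.assoc, h3]
    rw [h5, ← Category.assoc, ← Category.assoc, h4]
    congr 1
  let eW : Over.mk (q ≫ str) ≅ W := Over.isoMk eW₀ (by
    change eW₀.hom ≫ W.hom = q ≫ str
    rw [← Over.w snd, ← Category.assoc, hkey, Category.assoc])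
  refine ⟨Γ(V.left, ⊤), inferInstance, I, hI, str, eV, eW, ?_⟩
  apply Over.OverMorphism.ext
  exact hkey

end Groth.Agent.Lib.T2H1.AffThick
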