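import Mathlib
import Groth.Prelude.Def_CxOX
import Groth.Agent.Lib.Helper21ExtZero4
import Groth.Agent.Lib.Helper21Subterm

/-!
# Extension by zero along an open subscheme: exactness and monic counit (helper5, team 2)

For an open `V` of a scheme `X`:
* `preservesFiniteLimits_extZero`: `CxOX.extZero V.ι` is left exact;
* `mono_counit`: the counit `j_!(M|_V) ⟶ M` of `CxOX.extZeroAdj V.ι` is a monomorphism.
Both are transported from the site-level results of helper21 through `CxOX.extZeroIsoSite`.
-/
set_option autoImplicit false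
set_option linter.style.haveILetI false
set_option linter.unusedSectionVars false
universe u
open CategoryTheory Limits AlgebraicGeometry TopologicalSpace Opposite

namespace Groth.Agent.Lib.T2H5.ExtZeroSch

variable {X : Scheme.{u}} (V : X.Opens)

theorem preservesFiniteLimits_extZero : PreservesFiniteLimits (CxOX.extZero V.ι) := by
  haveI h0 : PreservesFiniteLimits (ModSite.extZero X.sheaf V) :=
    Groth.Agent.Lib.Helper21.ExtZeroS.instPreservesFiniteLimitsModOverOverCommRingCatExtZero
      (C := TopologicalSpace.Opens X) X.sheaf V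
  haveI h1 : PreservesFiniteLimits (Scheme.Modules.overEquiv V).inverse := inferInstance
  have h2 : PreservesFiniteLimits ((Scheme.Modules.overEquiv V).inverse ⋙ ModSite.extZero X.sheaf V) :=
    @comp_preservesFiniteLimits _ _ _ _ _ _ _ _ h1 h0
  exact @preservesFiniteLimits_of_natIso _ _ _ _ _ _ (CxOX.extZeroIsoSite V).symm h2

/-- the site-level adjunction used in `CxOX.extZeroIsoSite` -/
noncomputable abbrev adjSite :
    (Scheme.Modules.overEquiv V).inverse ⋙ ModSite.extZero X.sheaf V ⊣
      Scheme.Modules.restrictFunctor V.ι :=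
  (((Scheme.Modules.overEquiv V).symm.toAdjunction).comp (ModSite.extZeroAdj X.sheaf V)).ofNatIsoRight
    (Scheme.Modules.overFunctorEquiv V)

theorem mono_adjSite_counit (M : X.Modules) : Mono ((adjSite V).counit.app M) := by
  have hU : ∀ W : TopologicalSpace.Opens X, Subsingleton (W ⟶ V) := fun W => inferInstance
  have hm := Groth.Agent.Lib.Helper21.Subterm.mono_ε (C := TopologicalSpace.Opens X) X.sheaf V hU M
  have hc : (adjSite V).counit.app M = ((Scheme.Modules.overEquiv V).inverse ⋙ ModSite.extZero X.sheaf V).map
      ((Scheme.Modules.overFunctorEquiv V).inv.app M) ≫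
      (ModSite.extZero X.sheaf V).map ((Scheme.Modules.overEquiv V).symm.toAdjunction.counit.app
        ((ModSite.restr X.sheaf V).obj M)) ≫ (ModSite.extZeroAdj X.sheaf V).counit.app M := by
    simp [adjSite]
  rw [hc]
  haveI i1 : IsIso (((Scheme.Modules.overEquiv V).inverse ⋙ ModSite.extZero X.sheaf V).map
      ((Scheme.Modules.overFunctorEquiv V).inv.app M)) := Functor.map_isIso _ _
  haveI i2 : IsIso ((ModSite.extZero X.sheaf V).map
      ((Scheme.Modules.overEquiv V).symm.toAdjunction.counit.app
        ((ModSite.restr X.sheaf V).obj M))) := Functor.map_isIso _ _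
  exact @mono_comp _ _ _ _ _ _ (IsIso.mono_of_iso _) _
    (@mono_comp _ _ _ _ _ _ (IsIso.mono_of_iso _) _ hm)

theorem mono_counit (M : X.Modules) : Mono ((CxOX.extZeroAdj V.ι).counit.app M) := by
  have h := Adjunction.leftAdjointUniq_hom_app_counit (CxOX.extZeroAdj V.ι) (adjSite V) M
  rw [← h]
  exact @mono_comp _ _ _ _ _ _ (IsIso.mono_of_iso _) _ (mono_adjSite_counit V M)

end Groth.Agent.Lib.T2H5.ExtZeroSch
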