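import Groth.Agent.Lib.T2H1PerfPush
import Groth.Agent.Lib.T2H5ExtZeroSch
import Groth.Agent.Lib.Helper17Hyp19
import Groth.Agent.Lib.Helper17ExactAdj
import Groth.Agent.Lib.Helper23ModLocal

/-!
# Approximation by perfect complexes extends from an open containing the support (helper1)

For `j : U → X` open, `T ⊆ U` closed in `X`, a perfect `P ∈ D(O_U)` supported on `T` and a map
`α : P ⟶ E|_U`, the adjoint map `j_! P ⟶ E` has the same behaviour on cohomology in the degrees
where the cohomology of `E` is supported on `T`, and `j_! P` is perfect.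
-/

set_option autoImplicit false
universe w w' v v' u u'
open CategoryTheory CategoryTheory.Limits AlgebraicGeometry ZeroObject

namespace Groth.Agent.Lib.T2H1.ApproxOpen

open Groth.Agent.Lib.Helper17.SerreLoc Groth.Agent.Lib.Helper17.ExactAdj

section General

variable {A : Type u} [Category.{v} A] [Abelian A] [HasDerivedCategory.{w} A]
  {B : Type u'} [Category.{v'} B] [Abelian B] [HasDerivedCategory.{w'} B]
  (F : A ⥤ B) (G : B ⥤ A) (adj : F ⊣ G) [F.Additive] [G.Additive]
  [PreservesFiniteLimits F] [PreservesFiniteColimits F]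
  [PreservesFiniteLimits G] [PreservesFiniteColimits G]

lemma isIso_unit_app_Q [IsIso adj.unit] (K : CochainComplex A ℤ) :
    IsIso ((mapDerivedCategoryAdjunction F G adj).unit.app (DerivedCategory.Q.obj K)) := by
  haveI : IsIso ((adjHC adj (ComplexShape.up ℤ)).unit.app K) := inferInstance
  unfold mapDerivedCategoryAdjunction
  rw [Adjunction.localization_unit_app]
  infer_instance

lemma isIso_unit_app [IsIso adj.unit] (X : DerivedCategory A) :
    IsIso ((mapDerivedCategoryAdjunction F G adj).unit.app X) := by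
  let e := DerivedCategory.Q.objObjPreimageIso X
  haveI := isIso_unit_app_Q F G adj (DerivedCategory.Q.objPreimage X)
  have nat : e.hom ≫ (mapDerivedCategoryAdjunction F G adj).unit.app X =
      (mapDerivedCategoryAdjunction F G adj).unit.app
        (DerivedCategory.Q.obj (DerivedCategory.Q.objPreimage X)) ≫
        (F.mapDerivedCategory ⋙ G.mapDerivedCategory).map e.hom :=
    (mapDerivedCategoryAdjunction F G adj).unit.naturality e.hom
  have h : (mapDerivedCategoryAdjunction F G adj).unit.app X =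
      e.inv ≫ (mapDerivedCategoryAdjunction F G adj).unit.app
        (DerivedCategory.Q.obj (DerivedCategory.Q.objPreimage X)) ≫
        (F.mapDerivedCategory ⋙ G.mapDerivedCategory).map e.hom := by
    rw [← nat, e.inv_hom_id_assoc]
  rw [h]
  infer_instance

end General

section Sch

attribute [local instance] HasDerivedCategory.standard

open Scheme.Modules Groth.Agent.Lib.T2H1.SuppPush Groth.Agent.Lib.T2H1.RpushSupport
  Groth.Agent.Lib.T2H8.PerfLocal Groth.Agent.Lib.T2H1.PerfPush Groth.Agent.Lib.Helper17.Hyp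

variable {X : Scheme.{u}} (U : X.Opens)

/-- the derived adjunction `j_! ⊣ j^*`. -/
noncomputable def adjD [PreservesFiniteLimits (CxOX.extZero U.ι)] :
    CxOX.extZeroD U.ι ⊣ DCoh.restrictD U.ι :=
  mapDerivedCategoryAdjunction (CxOX.extZero U.ι) (restrictFunctor U.ι) (CxOX.extZeroAdj U.ι)

instance isIso_adjD_unit_app [PreservesFiniteLimits (CxOX.extZero U.ι)]
    (P : DCoh.D (U : Scheme.{u})) : IsIso ((adjD U).unit.app P) :=
  isIso_unit_app (CxOX.extZero U.ι) (restrictFunctor U.ι) (CxOX.extZeroAdj U.ι) P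

/-- the cohomology sheaves of `j_! P` are supported on `T` when those of `P` are. -/
theorem support_HD_extZeroD [PreservesFiniteLimits (CxOX.extZero U.ι)] (T : Set X)
    (hT : IsClosed T) (P : DCoh.D (U : Scheme.{u}))
    (hP : ∀ i : ℤ, CohB1.support (DCoh.HD P i) ⊆ {v : ↥(U : Scheme.{u}) | U.ι.base v ∈ T})
    (i : ℤ) : CohB1.support (DCoh.HD ((CxOX.extZeroD U.ι).obj P) i) ⊆ T := by
  intro x hx
  by_contra hxT
  let V : X.Opens := ⟨Tᶜ, hT.isOpen_compl⟩
  have e := Groth.Agent.Lib.Helper17.AdjWay.homologyIso (CxOX.extZero U.ι) P i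
  have hz : IsZero ((restrictFunctor V.ι).obj (DCoh.HD ((CxOX.extZeroD U.ι).obj P) i)) :=
    IsZero.of_iso (isZero_restrict_extZero U V (DCoh.HD P i)
      (fun y hyV hys => hyV (hP i hys))) ((restrictFunctor V.ι).mapIso e)
  exact not_mem_support_of_isZero_restrict _ V hz x hxT hx

/-- `j_! P` is perfect when `P` is perfect with cohomology supported on `T ⊆ U` closed in `X`. -/
theorem isPerfect_extZeroD [PreservesFiniteLimits (CxOX.extZero U.ι)] (T : Set X)
    (hT : IsClosed T) (hTU : T ⊆ (U : Set X)) (P : DCoh.D (U : Scheme.{u}))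
    (hP : DCoh.IsPerfect P)
    (hPs : ∀ i : ℤ, CohB1.support (DCoh.HD P i) ⊆ {v : ↥(U : Scheme.{u}) | U.ι.base v ∈ T}) :
    DCoh.IsPerfect ((CxOX.extZeroD U.ι).obj P) := by
  rw [isPerfect_iff]
  intro x
  by_cases hx : x ∈ U
  · obtain ⟨U', j', hj', x', hx', E'', hE'', ⟨e⟩⟩ := (isPerfect_iff P).1 hP ⟨x, hx⟩
    obtain ⟨c⟩ := nonempty_restrictD_extZeroD_iso U P
    refine ⟨U', j' ≫ U.ι, inferInstance, x', ?_, E'', hE'', ⟨?_⟩⟩
    · change U.ι.base (j'.base x') = x
      rw [show j'.base x' = ⟨x, hx⟩ from hx']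
      rfl
    · exact ((rDComp j' U.ι (j' ≫ U.ι) rfl).app ((CxOX.extZeroD U.ι).obj P)).symm ≪≫
        (rD j').mapIso c ≪≫ e
  · let V : X.Opens := ⟨Tᶜ, hT.isOpen_compl⟩
    have hxV : x ∈ V := fun hxT => hx (hTU hxT)
    have hz : IsZero ((DCoh.restrictD V.ι).obj ((CxOX.extZeroD U.ι).obj P)) :=
      isZero_restrictD V _ (fun i y hyV hys => hyV (support_HD_extZeroD U T hT P hPs i hys))
    refine ⟨V, V.ι, inferInstance, ⟨x, hxV⟩, rfl, 0, isStrictlyPerfect_zero _, ⟨?_⟩⟩
    exact hz.iso (DerivedCategory.Q.map_isZero (isZero_zero _))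

/-- isomorphisms can be detected on a cover by two opens. -/
theorem isIso_of_cover {A B : X.Modules} (φ : A ⟶ B) (U V : X.Opens)
    (hcov : ∀ x : X, x ∈ U ∨ x ∈ V) (hU : IsIso ((restrictFunctor U.ι).map φ))
    (hV : IsIso ((restrictFunctor V.ι).map φ)) : IsIso φ := by
  refine Groth.Agent.Lib.Helper23.ModLocal.isIso_of_isIso_restrict φ
    (fun b : Bool => ((cond b U V : X.Opens) : Scheme.{u})) (fun b => (cond b U V).ι) ?_ ?_
  · intro x
    rcases hcov x with hx | hx
    · exact ⟨true, ⟨x, hx⟩, rfl⟩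
    · exact ⟨false, ⟨x, hx⟩, rfl⟩
  · intro b
    cases b
    · exact hV
    · exact hU

/-- epimorphisms can be detected on a cover by two opens. -/
theorem epi_of_cover {A B : X.Modules} (φ : A ⟶ B) (U V : X.Opens)
    (hcov : ∀ x : X, x ∈ U ∨ x ∈ V) (hU : Epi ((restrictFunctor U.ι).map φ))
    (hV : Epi ((restrictFunctor V.ι).map φ)) : Epi φ := by
  refine Groth.Agent.Lib.Helper23.ModLocal.epi_of_epi_restrict φ
    (fun b : Bool => ((cond b U V : X.Opens) : Scheme.{u})) (fun b => (cond b U V).ι) ?_ ?_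
  · intro x
    rcases hcov x with hx | hx
    · exact ⟨true, ⟨x, hx⟩, rfl⟩
    · exact ⟨false, ⟨x, hx⟩, rfl⟩
  · intro b
    cases b
    · exact hV
    · exact hU

/-- **Approximation extends from an open containing the support.** -/
theorem main (T : Set X) (hT : IsClosed T) (hTU : T ⊆ (U : Set X)) (E : DCoh.D X) (m : ℤ)
    (P : DCoh.D (U : Scheme.{u})) (α : P ⟶ (DCoh.restrictD U.ι).obj E) (hP : DCoh.IsPerfect P)
    (hPs : ∀ i : ℤ, CohB1.support (DCoh.HD P i) ⊆ {v : ↥(U : Scheme.{u}) | U.ι.base v ∈ T})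
    (hiso : ∀ i : ℤ, m < i →
      IsIso ((DerivedCategory.homologyFunctor (U : Scheme.{u}).Modules i).map α))
    (hepi : Epi ((DerivedCategory.homologyFunctor (U : Scheme.{u}).Modules m).map α))
    (hsupp : ∀ i : ℤ, m ≤ i → CohB1.support (DCoh.HD E i) ⊆ T) :
    ∃ (P' : DCoh.D X) (α' : P' ⟶ E), DCoh.IsPerfect P' ∧
      (∀ i : ℤ, CohB1.support (DCoh.HD P' i) ⊆ T) ∧
      (∀ i : ℤ, m < i → IsIso ((DerivedCategory.homologyFunctor X.Modules i).map α')) ∧
      Epi ((DerivedCategory.homologyFunctor X.Modules m).map α') := by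
  haveI := Groth.Agent.Lib.T2H5.ExtZeroSch.preservesFiniteLimits_extZero U
  let V : X.Opens := ⟨Tᶜ, hT.isOpen_compl⟩
  let P' : DCoh.D X := (CxOX.extZeroD U.ι).obj P
  let α' : P' ⟶ E := ((adjD U).homEquiv P E).symm α
  have hα : (adjD U).unit.app P ≫ (DCoh.restrictD U.ι).map α' = α := by
    have h1 := (adjD U).homEquiv_unit (X := P) (Y := E) (f := α')
    rw [← h1]
    exact Equiv.apply_symm_apply _ _
  have hRα : (DCoh.restrictD U.ι).map α' = inv ((adjD U).unit.app P) ≫ α := by
    rw [← hα, IsIso.inv_hom_id_assoc]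
  have hP's := support_HD_extZeroD U T hT P hPs
  -- the open cover `{U, V}`
  have hcov : ∀ x : X, x ∈ U ∨ x ∈ V := fun x => by
    by_cases hx : x ∈ T
    · exact Or.inl (hTU hx)
    · exact Or.inr hx
  -- restriction of `H^i(α')` to `U`
  have natU : ∀ i : ℤ, (restrictFunctor U.ι).map ((DerivedCategory.homologyFunctor X.Modules i).map α') =
      (homologyNatIso (restrictFunctor U.ι) i).inv.app P' ≫
        (DerivedCategory.homologyFunctor (U : Scheme.{u}).Modules i).map
          ((DCoh.restrictD U.ι).map α') ≫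
        (homologyNatIso (restrictFunctor U.ι) i).hom.app E := by
    intro i
    have h := (homologyNatIso (restrictFunctor U.ι) i).hom.naturality α'
    simp only [Functor.comp_map] at h
    rw [h, Iso.inv_hom_id_app_assoc]
  have hzV : ∀ i : ℤ, m ≤ i → IsZero ((restrictFunctor V.ι).obj (DCoh.HD E i)) := fun i hi =>
    isZero_restrict_of_disjoint_support _ V (fun y hyV hys => hyV (hsupp i hi hys))
  have hzV' : ∀ i : ℤ, IsZero ((restrictFunctor V.ι).obj (DCoh.HD P' i)) := fun i =>
    isZero_restrict_of_disjoint_support _ V (fun y hyV hys => hyV (hP's i hys))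
  refine ⟨P', α', isPerfect_extZeroD U T hT hTU P hP hPs, hP's, fun i hi => ?_, ?_⟩
  · refine isIso_of_cover _ U V hcov ?_ ?_
    · rw [natU i, hRα, Functor.map_comp]
      haveI := hiso i hi
      infer_instance
    · exact ⟨⟨0, (hzV' i).eq_of_src _ _, (hzV i hi.le).eq_of_src _ _⟩⟩
  · refine epi_of_cover _ U V hcov ?_ ?_
    · rw [natU m, hRα, Functor.map_comp]
      infer_instance
    · exact ⟨fun _ _ _ => (hzV m le_rfl).eq_of_src _ _⟩

end Sch

end Groth.Agent.Lib.T2H1.ApproxOpen
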