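import Mathlib
import Groth.Agent.Lib.Helper20EtSplitClopen
import Groth.Agent.Lib.Helper20OnePtIso

set_option autoImplicit false
universe u

open CategoryTheory CategoryTheory.Limits AlgebraicGeometry

namespace Groth.Agent.Lib.T2H8FiniteSplit

open Groth.Agent.Lib.Helper20.EtSections Groth.Agent.Lib.Helper20.ResFld

variable {X : Scheme.{u}} {ι : Type*} (E : ι → Scheme.{u}) (e : ∀ i, E i ⟶ X)

/-- `w : X'` has an open neighbourhood on which `p : X' ⟶ X` lifts to a member of the family. -/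
def GoodAt {X' : Scheme.{u}} (p : X' ⟶ X) (w : X') : Prop :=
  ∃ (N : X'.Opens) (i : ι) (h : (N : Scheme.{u}) ⟶ E i), w ∈ N ∧ h ≫ e i = N.ι ≫ p

variable {E e}

theorem GoodAt.baseChange {X' X'' : Scheme.{u}} {p : X' ⟶ X} (q : X'' ⟶ X') {w : X''}
    (h : GoodAt E e p (q w)) : GoodAt E e (q ≫ p) w := by
  obtain ⟨N, i, h, hw, hh⟩ := h
  refine ⟨q ⁻¹ᵁ N, i, q.resLE N (q ⁻¹ᵁ N) le_rfl ≫ h, hw, ?_⟩
  rw [Category.assoc, hh, Scheme.Hom.resLE_comp_ι_assoc]

theorem GoodAt.congr {X' : Scheme.{u}} {p p' : X' ⟶ X} (hp : p = p') {w : X'}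
    (h : GoodAt E e p w) : GoodAt E e p' w := hp ▸ h

theorem exists_preimage_of_isPullback {P A B C : Scheme.{u}} {a : P ⟶ A} {b : P ⟶ B}
    {f : A ⟶ C} {g : B ⟶ C} (sq : IsPullback a b f g) (x : A) (y : B) (h : f x = g y) :
    ∃ z : P, a z = x ∧ b z = y := by
  obtain ⟨z', hz1, hz2⟩ := Scheme.Pullback.exists_preimage_pullback (f := f) (g := g) x y h
  refine ⟨sq.isoPullback.inv z', ?_, ?_⟩
  · rw [← Scheme.Hom.comp_apply, IsPullback.isoPullback_inv_fst, hz1]
  · rw [← Scheme.Hom.comp_apply, IsPullback.isoPullback_inv_snd, hz2]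

/-- A separable field extension which becomes purely inseparable over a subfield is trivial. -/
theorem surjective_of_pInsep {L M : Type*} [Field L] [Field M] (φ : L →+* M)
    (h1 : PInsep φ) (h2 : letI := φ.toAlgebra; Algebra.IsSeparable L M) :
    Function.Surjective φ := by
  let _ : Algebra L M := φ.toAlgebra
  have := (pInsep_iff φ).mp h1
  exact IsPurelyInseparable.surjective_algebraMap_of_isSeparable L M

set_option backward.isDefEq.respectTransparency.types false in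
theorem good_of_point {S : Scheme.{u}} (f : X ⟶ S) [IsFinite f] (i : ι) [Etale (e i)] (u : E i) :
    ∃ (U : Scheme.{u}) (g : U ⟶ S) (u₀ : U), Etale g ∧ g u₀ = f (e i u) ∧
      ∀ w : ↥(pullback f g), pullback.snd f g w = u₀ → pullback.fst f g w = e i u →
        GoodAt E e (pullback.fst f g) w := by
  have hlqf : LocallyQuasiFinite (e i) := locallyQuasiFinite_of_etale (e i)
  have hlqf' : LocallyQuasiFinite (e i ≫ f) := inferInstance
  obtain ⟨U, g, u₀, hg, hu₀, -, H⟩ := Groth.Agent.Lib.Helper20.EtSections.exists_etale_split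
    (e i ≫ f) (f (e i u)) {u} (Set.finite_singleton u) (by
      intro t ht
      rw [Set.mem_singleton_iff] at ht
      subst ht
      exact ⟨rfl, Scheme.Hom.quasiFiniteAt _ _⟩)
  refine ⟨U, g, u₀, hg, hu₀, ?_⟩
  intro w hw1 hw2
  let snd' := pullback.snd (e i ≫ f) g
  let m : pullback (e i ≫ f) g ⟶ pullback f g :=
    pullback.map (e i ≫ f) g f g (e i) (𝟙 U) (𝟙 S) (by simp) (by simp)
  have hm1 : m ≫ pullback.fst f g = pullback.fst (e i ≫ f) g ≫ e i := pullback.lift_fst _ _ _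
  have hm2 : m ≫ pullback.snd f g = snd' :=
    (pullback.lift_snd _ _ _).trans (Category.comp_id _)
  have sq : IsPullback (pullback.fst (e i ≫ f) g) m (e i) (pullback.fst f g) := by
    refine IsPullback.of_bot ?_ hm1.symm (IsPullback.of_hasPullback f g)
    rw [hm2]
    exact IsPullback.of_hasPullback (e i ≫ f) g
  have hmet : Etale m := MorphismProperty.of_isPullback (P := @Etale) sq ‹_›
  obtain ⟨v, hv1, rfl⟩ := exists_preimage_of_isPullback sq u w hw2.symm
  have hv2 : snd' v = u₀ := by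
    rw [← hw1, ← hm2, Scheme.Hom.comp_apply]
  obtain ⟨⟨V, hvV, hVfin, hVuniq⟩, hPI, -⟩ := H v hv2 (by rw [hv1]; rfl)
  let p : (V : Scheme.{u}) ⟶ pullback f g := V.ι ≫ m
  have hp2 : p ≫ pullback.snd f g = V.ι ≫ snd' := by
    rw [Category.assoc, hm2]
  have hpfin : IsFinite p := by
    have : IsFinite (p ≫ pullback.snd f g) := by rw [hp2]; exact hVfin
    exact IsFinite.of_comp p (pullback.snd f g)
  let v' : V := ⟨v, hvV⟩
  have hpv' : p v' = m v := rfl
  have hx : p ⁻¹' {p v'} = {v'} := by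
    ext z
    simp only [Set.mem_preimage, Set.mem_singleton_iff]
    constructor
    · intro hz
      have h1 : snd' (V.ι z) = u₀ := by
        have : (V.ι ≫ snd') z = (p ≫ pullback.snd f g) z := by rw [hp2]
        rw [Scheme.Hom.comp_apply, Scheme.Hom.comp_apply] at this
        exact this.trans ((congrArg (fun a => pullback.snd f g a) hz).trans hw1)
      have h2 := hVuniq (V.ι z) z.2 h1
      exact Subtype.ext h2
    · rintro rfl
      rfl
  have hκ : Function.Surjective (p.residueFieldMap v') := by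
    apply surjective_of_pInsep (p.residueFieldMap v').hom
    · have hs : pullback.snd f g (p v') = snd' (V.ι v') := by
        have : (p ≫ pullback.snd f g) v' = (V.ι ≫ snd') v' := by rw [hp2]
        simpa only [Scheme.Hom.comp_apply] using this
      refine PInsep.of_comm (resMap (pullback.snd f g) hs).hom (V.ι.residueFieldMap v').hom
        (bijective_residueFieldMap_of_isOpenImmersion V.ι v').2 ?_ hPI
      have e1 := resMap_comp p (pullback.snd f g) (rfl : p v' = p v') hs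
        (by rw [Scheme.Hom.comp_apply]; exact hs)
      have e2 := resMap_comp V.ι snd' (rfl : V.ι v' = V.ι v') (rfl : snd' (V.ι v') = snd' (V.ι v'))
        rfl
      have e3 := resMap_congr hp2 (x := v') (s := snd' (V.ι v'))
        (by rw [Scheme.Hom.comp_apply]; exact hs) rfl
      rw [e1, e2, resMap_rfl, resMap_rfl, resMap_rfl] at e3
      have := congrArg (fun φ => φ.hom) e3
      exact this.symm
    · infer_instance
  obtain ⟨N, hN1, hN2⟩ := Groth.Agent.Lib.Helper20.OnePt.exists_isIso_morphismRestrict p v' hx hκ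
  refine ⟨N, i, inv (p ∣_ N) ≫ (p ⁻¹ᵁ N).ι ≫ V.ι ≫ pullback.fst (e i ≫ f) g, hN1, ?_⟩
  rw [Category.assoc, Category.assoc, Category.assoc, ← hm1, IsIso.inv_comp_eq]
  rw [← Category.assoc V.ι, ← Category.assoc (p ⁻¹ᵁ N).ι, ← morphismRestrict_ι, Category.assoc]

set_option backward.isDefEq.respectTransparency.types false in
theorem good_of_finite {S : Scheme.{u}} (f : X ⟶ S) [IsFinite f] [∀ i, Etale (e i)] (s : S)
    (T : Set X) (hT : T.Finite) (h : ∀ t ∈ T, f t = s ∧ ∃ i, t ∈ Set.range (e i)) :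
    ∃ (U : Scheme.{u}) (g : U ⟶ S) (u₀ : U), Etale g ∧ g u₀ = s ∧
      ∀ w : ↥(pullback f g), pullback.snd f g w = u₀ → pullback.fst f g w ∈ T →
        GoodAt E e (pullback.fst f g) w := by
  induction T, hT using Set.Finite.induction_on with
  | empty => exact ⟨S, 𝟙 S, s, inferInstance, rfl, fun w _ hw => hw.elim⟩
  | @insert a T' ha hT' ih =>
    obtain ⟨U₂, g₂, u₂, hg₂, hu₂, H₂⟩ := ih (fun t ht => h t (Set.mem_insert_of_mem a ht))
    obtain ⟨hfa, i, u, rfl⟩ := h a (Set.mem_insert a T')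
    obtain ⟨U₁, g₁, u₁, hg₁, hu₁, H₁⟩ := good_of_point (E := E) (e := e) f i u
    obtain ⟨u₀, hu01, hu02⟩ := Scheme.Pullback.exists_preimage_pullback (f := g₁) (g := g₂)
      u₁ u₂ (by rw [hu₁, hu₂, hfa])
    refine ⟨pullback g₁ g₂, pullback.fst g₁ g₂ ≫ g₁, u₀, inferInstance,
      by rw [Scheme.Hom.comp_apply, hu01, hu₁, hfa], ?_⟩
    intro w hw1 hw2
    rcases hw2 with hw2 | hw2
    · let q₁ := bcMap f g₁ (pullback.fst g₁ g₂)
      have h1 : GoodAt E e (pullback.fst f g₁) (q₁ w) := by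
        apply H₁
        · rw [bcMap_snd_apply, hw1, hu01]
        · rw [bcMap_fst_apply, hw2]
      exact (h1.baseChange q₁).congr (bcMap_fst f g₁ (pullback.fst g₁ g₂))
    · let q₂ : pullback f (pullback.fst g₁ g₂ ≫ g₁) ⟶ pullback f g₂ :=
        pullback.lift (pullback.fst f _) (pullback.snd f _ ≫ pullback.snd g₁ g₂)
          (pullback.condition.trans (by
            rw [Category.assoc, ← pullback.condition (f := g₁) (g := g₂)]))
      have hq1 : q₂ ≫ pullback.fst f g₂ = pullback.fst f _ := pullback.lift_fst _ _ _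
      have hq2 : q₂ ≫ pullback.snd f g₂ = pullback.snd f _ ≫ pullback.snd g₁ g₂ :=
        pullback.lift_snd _ _ _
      have h1 : GoodAt E e (pullback.fst f g₂) (q₂ w) := by
        apply H₂
        · rw [← Scheme.Hom.comp_apply, hq2, Scheme.Hom.comp_apply, hw1, hu02]
        · rw [← Scheme.Hom.comp_apply, hq1]
          exact hw2
      exact (h1.baseChange q₂).congr hq1

set_option backward.isDefEq.respectTransparency.types false in
/-- **Etale-local splitting of a finite morphism along an etale covering of its source.**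
`f : X ⟶ S` finite, `s : S`, `e i : E i ⟶ X` etale morphisms covering the fibre of `f` over `s`.
Then there is an etale neighbourhood `(S', s')` of `(S, s)` over which `X' = X ×_S S'` is a finite
disjoint union of opens `D a`, each containing exactly one point over `s'`, and each mapping to
`X` through some `e i`. -/
theorem exists_split {S : Scheme.{u}} (f : X ⟶ S) [IsFinite f] [∀ i, Etale (e i)] (s : S)
    (hcov : ∀ x : X, f x = s → ∃ i, x ∈ Set.range (e i)) :
    ∃ (S' : Scheme.{u}) (g : S' ⟶ S) (s' : S') (X' : Scheme.{u}) (p : X' ⟶ X) (q : X' ⟶ S'),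
      Etale g ∧ g s' = s ∧ IsPullback p q f g ∧
      ∃ (K : Type u) (_ : Finite K) (D : K → X'.Opens) (pt : K → X'),
        (∀ a b, a ≠ b → Disjoint (D a) (D b)) ∧ (⨆ a, D a) = ⊤ ∧
        (∀ a, pt a ∈ D a ∧ q (pt a) = s' ∧ ∀ w ∈ D a, q w = s' → w = pt a) ∧
        ∀ a, ∃ (i : ι) (h : (D a : Scheme.{u}) ⟶ E i), h ≫ e i = (D a).ι ≫ p := by
  obtain ⟨U₁, g₁, u₁, hg₁, hu₁, H₁⟩ := good_of_finite (E := E) (e := e) f s (f ⁻¹' {s})
    (Scheme.Hom.finite_preimage_singleton f s) (fun t ht => ⟨ht, hcov t ht⟩)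
  let f₁ := pullback.snd f g₁
  have hT₁ : (f₁ ⁻¹' {u₁}).Finite := Scheme.Hom.finite_preimage_singleton f₁ u₁
  obtain ⟨U₂, g₂, u₂, hg₂, hu₂, hFfin, V, hVdisj, hV⟩ := exists_etale_split_clopen f₁ u₁
    (f₁ ⁻¹' {u₁}) hT₁ (fun t ht => ⟨ht, Scheme.Hom.quasiFiniteAt _ _⟩)
  let f₂ := pullback.snd f₁ g₂
  let p₂ : pullback f₁ g₂ ⟶ X := pullback.fst f₁ g₂ ≫ pullback.fst f g₁
  have hfib : ∀ w : ↥(pullback f₁ g₂), f₂ w = u₂ → pullback.fst f₁ g₂ w ∈ f₁ ⁻¹' {u₁} := by
    intro w hw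
    change f₁ (pullback.fst f₁ g₂ w) = u₁
    rw [← Scheme.Hom.comp_apply, pullback.condition, Scheme.Hom.comp_apply]
    change g₂ (f₂ w) = u₁
    rw [hw, hu₂]
  have hgood : ∀ w : ↥(pullback f₁ g₂), f₂ w = u₂ → GoodAt E e p₂ w := by
    intro w hw
    have h1 : GoodAt E e (pullback.fst f g₁) (pullback.fst f₁ g₂ w) := by
      apply H₁ _ (hfib w hw)
      change f (pullback.fst f g₁ (pullback.fst f₁ g₂ w)) = s
      rw [← Scheme.Hom.comp_apply, pullback.condition, Scheme.Hom.comp_apply]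
      change g₁ (f₁ (pullback.fst f₁ g₂ w)) = s
      rw [hfib w hw, hu₁]
    exact h1.baseChange _
  let K := {w : ↥(pullback f₁ g₂) // f₂ w = u₂}
  have hKfin : Finite K := by
    have : {w : ↥(pullback f₁ g₂) | f₂ w = u₂} ⊆
        {w | pullback.snd f₁ g₂ w = u₂ ∧ pullback.fst f₁ g₂ w ∈ f₁ ⁻¹' {u₁}} :=
      fun w hw => ⟨hw, hfib w hw⟩
    exact (hFfin.subset this).to_subtype
  choose N i h hN hh using fun a : K => hgood a.1 a.2
  let D₂ : K → (pullback f₁ g₂).Opens := fun a => V a.1 ⊓ N a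
  have hmemD : ∀ a : K, a.1 ∈ D₂ a := fun a => ⟨(hV a.1 a.2 (hfib a.1 a.2)).1, hN a⟩
  let O : (pullback f₁ g₂).Opens := ⨆ a, D₂ a
  have hclosedmap : IsClosedMap f₂ := f₂.isClosedMap
  have hC : IsClosed (f₂ '' ((O : Set ↥(pullback f₁ g₂))ᶜ)) :=
    hclosedmap _ O.isOpen.isClosed_compl
  let U₃ : U₂.Opens := ⟨_, hC.isOpen_compl⟩
  have hu₃ : u₂ ∈ U₃ := by
    rintro ⟨b, hb, hbu⟩
    apply hb
    exact TopologicalSpace.Opens.mem_iSup.mpr ⟨⟨b, hbu⟩, hmemD ⟨b, hbu⟩⟩
  let X₃ : (pullback f₁ g₂).Opens := f₂ ⁻¹ᵁ U₃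
  have hX₃ : ∀ x : ↥(pullback f₁ g₂), x ∈ X₃ → x ∈ O := by
    intro x hx
    by_contra hxO
    exact hx ⟨x, hxO, rfl⟩
  let g : (U₃ : Scheme.{u}) ⟶ S := (U₃.ι ≫ g₂) ≫ g₁
  let p : (X₃ : Scheme.{u}) ⟶ X := (X₃.ι ≫ pullback.fst f₁ g₂) ≫ pullback.fst f g₁
  have sq : IsPullback p (f₂ ∣_ U₃) f g :=
    (((isPullback_morphismRestrict f₂ U₃).flip.paste_horiz
      (IsPullback.of_hasPullback f₁ g₂)).paste_horiz (IsPullback.of_hasPullback f g₁))
  have hp : p = X₃.ι ≫ p₂ := Category.assoc _ _ _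
  have hq : ∀ w : X₃, U₃.ι ((f₂ ∣_ U₃) w) = f₂ (X₃.ι w) := by
    intro w
    rw [← Scheme.Hom.comp_apply, ← Scheme.Hom.comp_apply, morphismRestrict_ι]
  refine ⟨U₃, g, ⟨u₂, hu₃⟩, X₃, p, f₂ ∣_ U₃, inferInstance, ?_, sq, K, hKfin,
    fun a => X₃.ι ⁻¹ᵁ D₂ a, fun a => ⟨a.1, by change f₂ a.1 ∈ U₃; rw [a.2]; exact hu₃⟩,
    ?_, ?_, ?_, ?_⟩
  · change g₁ (g₂ u₂) = s
    rw [hu₂, hu₁]
  · intro a b hab
    rw [disjoint_iff]
    ext x
    simp only [TopologicalSpace.Opens.coe_inf, TopologicalSpace.Opens.coe_bot,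
      Set.mem_inter_iff, Set.mem_empty_iff_false, iff_false, not_and]
    intro hxa hxb
    apply hab
    apply Subtype.ext
    exact hVdisj a.1 b.1 a.2 (hfib a.1 a.2) b.2 (hfib b.1 b.2) ⟨X₃.ι x, hxa.1, hxb.1⟩
  · rw [eq_top_iff]
    intro x _
    have hx : X₃.ι x ∈ O := hX₃ _ x.2
    obtain ⟨a, ha⟩ := TopologicalSpace.Opens.mem_iSup.mp hx
    exact TopologicalSpace.Opens.mem_iSup.mpr ⟨a, ha⟩
  · intro a
    refine ⟨hmemD a, ?_, ?_⟩
    · apply U₃.ι.isOpenEmbedding.injective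
      rw [hq]
      exact a.2
    · intro w hw hws
      have h1 : f₂ (X₃.ι w) = u₂ := by
        rw [← hq, hws]
        rfl
      have h2 := (hV a.1 a.2 (hfib a.1 a.2)).2.2.2.1 (X₃.ι w) hw.1 h1
      exact Subtype.ext h2
  · intro a
    refine ⟨i a, (X₃.ι.resLE (D₂ a) (X₃.ι ⁻¹ᵁ D₂ a) le_rfl) ≫
      (pullback f₁ g₂).homOfLE (inf_le_right : D₂ a ≤ N a) ≫ h a, ?_⟩
    rw [Category.assoc, Category.assoc, hh a, Scheme.homOfLE_ι_assoc,
      Scheme.Hom.resLE_comp_ι_assoc, hp]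

end Groth.Agent.Lib.T2H8FiniteSplit
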