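import Mathlib
import Groth.Agent.Lib.T2H8FiniteSplit

set_option autoImplicit false
universe u

open CategoryTheory CategoryTheory.Limits AlgebraicGeometry TensorProduct

namespace Groth.Agent.Lib.T2H8IntegralDescent

/-- An etale algebra over an integral `C`-algebra `B'` descends to a finite `C`-subalgebra. -/
theorem exists_finite_descent (C B' D : Type u) [CommRing C] [CommRing B'] [CommRing D]
    [Algebra C B'] [Algebra B' D] [Algebra.IsIntegral C B'] [Algebra.Etale B' D] :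
    ∃ (A₀ : Subalgebra C B') (B₀ : Type u) (_ : CommRing B₀) (_ : Algebra A₀ B₀),
      Module.Finite C A₀ ∧ Algebra.Etale A₀ B₀ ∧ Nonempty (D ≃ₐ[B'] B' ⊗[A₀] B₀) := by
  obtain ⟨A₀, B₀, _, _, hfg, het, he⟩ := Algebra.Etale.exists_subalgebra_fg C B' D
  have h1 : Algebra.FiniteType C A₀ := (Subalgebra.fg_iff_finiteType A₀).mp hfg
  have h2 : Algebra.IsIntegral C A₀ :=
    Algebra.IsIntegral.of_injective A₀.val Subtype.val_injective
  exact ⟨A₀, B₀, inferInstance, inferInstance, Algebra.IsIntegral.finite, het, he⟩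

theorem surjective_SpecMap_of_injective_of_isIntegral {A B : Type u} [CommRing A] [CommRing B]
    [Algebra A B] [Algebra.IsIntegral A B] (hinj : Function.Injective (algebraMap A B)) :
    Surjective (Spec.map (CommRingCat.ofHom (algebraMap A B))) := by
  constructor
  intro P
  obtain ⟨Q, -, hQ, hQP⟩ := Ideal.exists_ideal_over_prime_of_isIntegral P.asIdeal (⊥ : Ideal B)
    (by rw [← RingHom.ker_eq_comap_bot, (RingHom.injective_iff_ker_eq_bot _).mp hinj]; exact bot_le)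
  refine ⟨⟨Q, hQ⟩, ?_⟩
  rw [Spec.map_apply]
  exact PrimeSpectrum.ext hQP

set_option backward.isDefEq.respectTransparency.types false in
/-- Descent of an affine etale scheme over an affine scheme integral over `V₀` to a scheme finite
over `V₀`. -/
theorem exists_descent_scheme {X' V₀ U : Scheme.{u}} (f' : X' ⟶ V₀) [IsIntegralHom f']
    [IsAffine V₀] (g : U ⟶ X') [Etale g] [IsAffine U] :
    ∃ (X₀ : Scheme.{u}) (π : X' ⟶ X₀) (f₀ : X₀ ⟶ V₀) (U₀ : Scheme.{u}) (g₀ : U₀ ⟶ X₀)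
      (k : U ⟶ U₀),
      π ≫ f₀ = f' ∧ IsFinite f₀ ∧ IsIntegralHom π ∧ Surjective π ∧ IsAffine X₀ ∧ Etale g₀ ∧
      IsPullback k g g₀ π := by
  have hX' : IsAffine X' := isAffine_of_isAffineHom f'
  have hint : f'.appTop.hom.IsIntegral :=
    ((HasAffineProperty.iff_of_isAffine (P := @IsIntegralHom)).mp ‹_›).2
  have het : g.appTop.hom.Etale := (HasRingHomProperty.iff_of_isAffine (P := @Etale)).mp ‹_›
  algebraize [f'.appTop.hom, g.appTop.hom]
  obtain ⟨A₀, B₀, _, _, hfin, hetB₀, ⟨e⟩⟩ := exists_finite_descent Γ(V₀, ⊤) Γ(X', ⊤) Γ(U, ⊤)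
  have hintA₀ : Algebra.IsIntegral A₀ Γ(X', ⊤) :=
    Algebra.IsIntegral.tower_top (R := Γ(V₀, ⊤))
  let π : X' ⟶ Spec (CommRingCat.of A₀) :=
    X'.isoSpec.hom ≫ Spec.map (CommRingCat.ofHom (algebraMap A₀ Γ(X', ⊤)))
  let f₀ : Spec (CommRingCat.of A₀) ⟶ V₀ :=
    Spec.map (CommRingCat.ofHom (algebraMap Γ(V₀, ⊤) A₀)) ≫ V₀.isoSpec.inv
  let g₀ : Spec (CommRingCat.of B₀) ⟶ Spec (CommRingCat.of A₀) :=
    Spec.map (CommRingCat.ofHom (algebraMap A₀ B₀))
  let ρ : B₀ →+* Γ(U, ⊤) :=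
    (e.symm : Γ(X', ⊤) ⊗[A₀] B₀ →+* Γ(U, ⊤)).comp Algebra.TensorProduct.includeRight.toRingHom
  let k : U ⟶ Spec (CommRingCat.of B₀) := U.isoSpec.hom ≫ Spec.map (CommRingCat.ofHom ρ)
  refine ⟨_, π, f₀, _, g₀, k, ?_, ?_, ?_, ?_, inferInstance, ?_, ?_⟩
  · -- π ≫ f₀ = f'
    have h1 : CommRingCat.ofHom (algebraMap Γ(V₀, ⊤) A₀) ≫
        CommRingCat.ofHom (algebraMap A₀ Γ(X', ⊤)) = f'.appTop := by
      ext x
      rfl
    simp only [π, f₀, Category.assoc]
    rw [← Spec.map_comp_assoc, h1, Scheme.isoSpec_hom_naturality_assoc, Iso.hom_inv_id,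
      Category.comp_id]
  · -- finite
    have : IsFinite (Spec.map (CommRingCat.ofHom (algebraMap Γ(V₀, ⊤) A₀))) := by
      rw [IsFinite.SpecMap_iff]
      exact RingHom.finite_algebraMap.mpr hfin
    infer_instance
  · have : IsIntegralHom (Spec.map (CommRingCat.ofHom (algebraMap A₀ Γ(X', ⊤)))) := by
      rw [IsIntegralHom.SpecMap_iff]
      exact algebraMap_isIntegral_iff.mpr hintA₀
    infer_instance
  · have := surjective_SpecMap_of_injective_of_isIntegral (A := A₀) (B := Γ(X', ⊤))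
      Subtype.val_injective
    infer_instance
  · exact (HasRingHomProperty.Spec_iff (P := @Etale)).mpr
      (RingHom.etale_algebraMap.mpr hetB₀)
  · -- the pullback square
    have P0 := (isPullback_SpecMap_of_isPushout _ _ _ _
      (CommRingCat.isPushout_tensorProduct A₀ Γ(X', ⊤) B₀)).flip
    let e₁ : Spec (CommRingCat.of (Γ(X', ⊤) ⊗[A₀] B₀)) ≅ U :=
      Scheme.Spec.mapIso (e.toRingEquiv.toCommRingCatIso).op ≪≫ U.isoSpec.symm
    refine P0.of_iso e₁ (Iso.refl _) X'.isoSpec.symm (Iso.refl _) ?_ ?_ ?_ ?_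
    · -- fst
      simp only [Iso.refl_hom, Category.comp_id, e₁, Iso.trans_hom, Iso.symm_hom, k,
        Category.assoc, Iso.inv_hom_id_assoc]
      change _ = Spec.map _ ≫ Spec.map _
      rw [← Spec.map_comp]
      congr 1
      ext x
      change (1 : Γ(X', ⊤)) ⊗ₜ[A₀] x = e (e.symm ((1 : Γ(X', ⊤)) ⊗ₜ[A₀] x))
      rw [AlgEquiv.apply_symm_apply]
    · -- snd
      simp only [e₁, Iso.trans_hom, Iso.symm_hom, Category.assoc]
      rw [← Scheme.isoSpec_inv_naturality g]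
      change _ = Spec.map _ ≫ Spec.map _ ≫ _
      rw [← Spec.map_comp_assoc]
      congr 2
      ext x
      change x ⊗ₜ[A₀] (1 : B₀) = e (algebraMap Γ(X', ⊤) Γ(U, ⊤) x)
      rw [AlgEquiv.commutes]
      rfl
    · simp [g₀]
    · simp [π]

set_option backward.isDefEq.respectTransparency.types false in
/-- Simultaneous descent of a finite family of affine etale schemes. -/
theorem exists_descent_finset {X' V₀ : Scheme.{u}} (f' : X' ⟶ V₀) [IsIntegralHom f']
    [IsAffine V₀] {ι : Type*} (U : ι → Scheme.{u}) (g : ∀ i, U i ⟶ X') [∀ i, Etale (g i)]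
    [∀ i, IsAffine (U i)] (s : Finset ι) :
    ∃ (X₀ : Scheme.{u}) (π : X' ⟶ X₀) (f₀ : X₀ ⟶ V₀),
      π ≫ f₀ = f' ∧ IsFinite f₀ ∧ IsIntegralHom π ∧ Surjective π ∧ IsAffine X₀ ∧
      ∀ i ∈ s, ∃ (U₀ : Scheme.{u}) (g₀ : U₀ ⟶ X₀) (k : U i ⟶ U₀),
        Etale g₀ ∧ IsPullback k (g i) g₀ π := by
  classical
  have hX' : IsAffine X' := isAffine_of_isAffineHom f'
  induction s using Finset.induction_on with
  | empty =>
    obtain ⟨X₀, π, f₀, -, -, -, h1, h2, h3, h4, h5, -, -⟩ := exists_descent_scheme f' (𝟙 X')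
    exact ⟨X₀, π, f₀, h1, h2, h3, h4, h5, fun i hi => (Finset.notMem_empty i hi).elim⟩
  | insert a s ha ih =>
    obtain ⟨X₀, π, f₀, h1, h2, h3, h4, h5, H⟩ := ih
    obtain ⟨X₁, π₁, f₁, U₁, g₁, k₁, e1, e2, e3, e4, e5, e6, e7⟩ := exists_descent_scheme π (g a)
    refine ⟨X₁, π₁, f₁ ≫ f₀, by rw [← Category.assoc, e1, h1], inferInstance, e3, e4, e5, ?_⟩
    intro i hi
    by_cases hia : i = a
    · subst hia
      exact ⟨U₁, g₁, k₁, e6, e7⟩
    · obtain ⟨U₀, g₀, k, hg₀, sq⟩ := H i (Finset.mem_of_mem_insert_of_ne hi hia)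
      have hw : k ≫ g₀ = (g i ≫ π₁) ≫ f₁ := by rw [Category.assoc, e1, sq.w]
      refine ⟨pullback g₀ f₁, pullback.snd g₀ f₁, pullback.lift k (g i ≫ π₁) hw,
        inferInstance, ?_⟩
      refine IsPullback.of_right ?_ (pullback.lift_snd _ _ _) (IsPullback.of_hasPullback g₀ f₁)
      rw [pullback.lift_fst, e1]
      exact sq

end Groth.Agent.Lib.T2H8IntegralDescent
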