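import Mathlib
import Groth.Prelude.Def_BigSite
import Groth.Agent.Lib.T2H8IntegralDescent

set_option autoImplicit false
universe u

open CategoryTheory CategoryTheory.Limits AlgebraicGeometry Opposite

namespace Groth.Agent.Lib.T2H8PropBIntegral

open Groth.Agent.Lib.T2H8FiniteSplit Groth.Agent.Lib.T2H8IntegralDescent

set_option backward.isDefEq.respectTransparency.types false in
theorem propB_local {X Y : Scheme.{u}} (f : X ⟶ Y) [IsIntegralHom f] {V : Scheme.{u}}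
    (v : V ⟶ Y) [Etale v] {ι : Type u} (U : ι → Scheme.{u}) (g : ∀ i, U i ⟶ pullback f v)
    [∀ i, Etale (g i)] (hcov : ∀ x : ↥(pullback f v), ∃ i, x ∈ Set.range (g i)) (y₀ : V) :
    ∃ (V' : Scheme.{u}) (v' : V' ⟶ V), Etale v' ∧ y₀ ∈ Set.range v' ∧
      ∃ (μ : Type u) (W : μ → (pullback f (v' ≫ v)).Opens),
        (∀ a b, a ≠ b → Disjoint (W a) (W b)) ∧ (⨆ a, W a) = ⊤ ∧
        ∀ a, ∃ (i : ι) (h : (W a : Scheme.{u}) ⟶ U i),
          h ≫ g i = (W a).ι ≫ pullback.map f (v' ≫ v) f v (𝟙 X) v' (𝟙 Y) (by simp) (by simp) := by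
  -- step 1: affine neighbourhood
  obtain ⟨V₀, hV₀, hyV₀, -⟩ := exists_isAffineOpen_mem_and_subset (x := y₀)
    (U := (⊤ : V.Opens)) trivial
  have : IsAffine (V₀ : Scheme.{u}) := hV₀
  let sP := pullback.snd f v
  let P₀ : (pullback f v).Opens := sP ⁻¹ᵁ V₀
  let f' : (P₀ : Scheme.{u}) ⟶ V₀ := sP ∣_ V₀
  have hP₀ : IsAffine (P₀ : Scheme.{u}) := isAffine_of_isAffineHom f'
  -- step 2: affine etale family over `P₀`
  have hex : ∀ x : (P₀ : Scheme.{u}), ∃ (i : ι) (A : (U i).Opens) (hle : A ≤ (g i) ⁻¹ᵁ P₀),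
      IsAffineOpen A ∧ x ∈ Set.range ((g i).resLE P₀ A hle) := by
    intro x
    obtain ⟨i, u, hu⟩ := hcov (P₀.ι x)
    have huP : u ∈ (g i) ⁻¹ᵁ P₀ := by
      change g i u ∈ P₀
      rw [hu]
      exact x.2
    obtain ⟨A, hA, huA, hAle⟩ := exists_isAffineOpen_mem_and_subset huP
    refine ⟨i, A, hAle, hA, ⟨u, huA⟩, ?_⟩
    apply P₀.ι.isOpenEmbedding.injective
    rw [← Scheme.Hom.comp_apply, Scheme.Hom.resLE_comp_ι, Scheme.Hom.comp_apply]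
    exact hu
  choose i A hle hA hmem using hex
  let g' : ∀ x : (P₀ : Scheme.{u}), ((A x : (U (i x)).Opens) : Scheme.{u}) ⟶ P₀ :=
    fun x => (g (i x)).resLE P₀ (A x) (hle x)
  have : ∀ x, IsAffine ((A x : (U (i x)).Opens) : Scheme.{u}) := fun x => hA x
  have : ∀ x, Etale (g' x) := fun x => by
    dsimp only [g', Scheme.Hom.resLE]
    infer_instance
  have hopen : ∀ x, IsOpen (Set.range (g' x)) := fun x => (g' x).isOpenMap.isOpen_range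
  obtain ⟨t, ht⟩ := isCompact_univ.elim_finite_subcover (fun x => Set.range (g' x)) hopen
    (fun x _ => Set.mem_iUnion.mpr ⟨x, hmem x⟩)
  -- step 3: descent
  obtain ⟨X₀, π, f₀, h1, h2, h3, h4, h5, H⟩ := exists_descent_finset f'
    (fun x => ((A x : (U (i x)).Opens) : Scheme.{u})) g' t
  have H' : ∀ x : {x // x ∈ t}, ∃ (U₀ : Scheme.{u}) (g₀ : U₀ ⟶ X₀)
      (k : ((A x.1 : (U (i x.1)).Opens) : Scheme.{u}) ⟶ U₀),
      Etale g₀ ∧ IsPullback k (g' x.1) g₀ π := fun x => H x.1 x.2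
  choose U₀ g₀ k hg₀ sq using H'
  -- step 4: splitting
  have hcov₀ : ∀ z : X₀, f₀ z = ⟨y₀, hyV₀⟩ → ∃ x, z ∈ Set.range (g₀ x) := by
    intro z _
    obtain ⟨p, rfl⟩ := h4.surj z
    have hp := ht (Set.mem_univ p)
    simp only [Set.mem_iUnion] at hp
    obtain ⟨x, hxt, a, rfl⟩ := hp
    refine ⟨⟨x, hxt⟩, k ⟨x, hxt⟩ a, ?_⟩
    rw [← Scheme.Hom.comp_apply, (sq ⟨x, hxt⟩).w, Scheme.Hom.comp_apply]
  obtain ⟨S', g'', s', X₀', p₀, q₀, hg'', hs', sqS, K, hK, D, pt, hdisj, htop, -, hlift⟩ :=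
    exists_split (E := U₀) (e := g₀) f₀ ⟨y₀, hyV₀⟩ hcov₀
  -- step 5: assemble
  obtain ⟨v', hv'⟩ : ∃ v' : S' ⟶ V, v' = g'' ≫ V₀.ι := ⟨_, rfl⟩
  have hv'et : Etale v' := hv' ▸ inferInstance
  have hv'app : ∀ z : S', v' z = V₀.ι (g'' z) := fun z => by rw [hv']; rfl
  refine ⟨S', v', hv'et, ⟨s', by rw [hv'app, hs']; rfl⟩, K, ?_⟩
  let bm : pullback f (v' ≫ v) ⟶ pullback f v :=
    pullback.map f (v' ≫ v) f v (𝟙 X) v' (𝟙 Y) (by simp) (by simp)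
  have hbm2 : bm ≫ sP = pullback.snd f (v' ≫ v) ≫ v' := pullback.lift_snd _ _ _
  have hbmP₀ : Set.range bm ⊆ Set.range P₀.ι := by
    rintro _ ⟨p', rfl⟩
    rw [Scheme.Opens.range_ι]
    change sP (bm p') ∈ V₀
    rw [← Scheme.Hom.comp_apply, hbm2, Scheme.Hom.comp_apply, hv'app]
    exact (g'' _).2
  let bm₀ : pullback f (v' ≫ v) ⟶ P₀ := IsOpenImmersion.lift P₀.ι bm hbmP₀
  have hbm₀ : bm₀ ≫ P₀.ι = bm := IsOpenImmersion.lift_fac _ _ _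
  have hbm₀f' : bm₀ ≫ f' = pullback.snd f (v' ≫ v) ≫ g'' := by
    rw [← cancel_mono V₀.ι, Category.assoc, morphismRestrict_ι, reassoc_of% hbm₀, hbm2,
      Category.assoc, ← hv']
  let π' : pullback f (v' ≫ v) ⟶ X₀' := sqS.lift (bm₀ ≫ π) (pullback.snd f (v' ≫ v))
    (by rw [Category.assoc, h1, hbm₀f'])
  have hπ'1 : π' ≫ p₀ = bm₀ ≫ π := sqS.lift_fst _ _ _
  refine ⟨fun a => π' ⁻¹ᵁ D a, ?_, ?_, ?_⟩
  · intro a b hab
    rw [disjoint_iff_inf_le]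
    rintro x ⟨hxa, hxb⟩
    exact (hdisj a b hab).le_bot ⟨hxa, hxb⟩
  · rw [eq_top_iff]
    intro x _
    have hx : π' x ∈ (⨆ a, D a) := by rw [htop]; trivial
    obtain ⟨a, ha⟩ := TopologicalSpace.Opens.mem_iSup.mp hx
    exact TopologicalSpace.Opens.mem_iSup.mpr ⟨a, ha⟩
  · intro a
    obtain ⟨x, ha, hha⟩ := hlift a
    let r : ((π' ⁻¹ᵁ D a : (pullback f (v' ≫ v)).Opens) : Scheme.{u}) ⟶ D a :=
      π'.resLE (D a) (π' ⁻¹ᵁ D a) le_rfl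
    have hr : r ≫ (D a).ι = (π' ⁻¹ᵁ D a).ι ≫ π' := Scheme.Hom.resLE_comp_ι _ _
    let ℓ : ((π' ⁻¹ᵁ D a : (pullback f (v' ≫ v)).Opens) : Scheme.{u}) ⟶ A x.1 :=
      (sq x).lift (r ≫ ha) ((π' ⁻¹ᵁ D a).ι ≫ bm₀) (by
        rw [Category.assoc, hha, reassoc_of% hr, hπ'1, Category.assoc])
    have hℓ2 : ℓ ≫ g' x.1 = (π' ⁻¹ᵁ D a).ι ≫ bm₀ := (sq x).lift_snd _ _ _
    refine ⟨i x.1, ℓ ≫ (A x.1).ι, ?_⟩
    have e1 : (A x.1).ι ≫ g (i x.1) = g' x.1 ≫ P₀.ι := (Scheme.Hom.resLE_comp_ι _ _).symm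
    rw [Category.assoc, e1, reassoc_of% hℓ2, hbm₀]

theorem propB_of_isIntegralHom {X Y : Scheme.{u}} (f : X ⟶ Y) [IsIntegralHom f] :
    BigSite.PropB f := by
  intro V v _ ι U g hg hcov
  have : ∀ i, Etale (g i) := hg
  have H := propB_local f v U g hcov
  choose V' v' hv' hy μ W h1 h2 h3 using H
  exact ⟨V, V', v', hv', fun y => ⟨y, hy y⟩, fun y => ⟨μ y, W y, h1 y, h2 y, h3 y⟩⟩

end Groth.Agent.Lib.T2H8PropBIntegral
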