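import Mathlib
import Groth.Prelude.Def_BigSite
import Groth.Agent.Lib.T2H8PropBIntegral
import Groth.Agent.S10265

set_option autoImplicit false
universe u

open CategoryTheory CategoryTheory.Limits AlgebraicGeometry Opposite

namespace Groth.Agent.Lib.T2H8PropCIntegral

open Groth.Agent.Lib.T2H8PropBIntegral

/-- Glue morphisms along a cover by pairwise disjoint opens. -/
theorem exists_glue_disjoint {P T : Scheme.{u}} {μ : Type u} (W : μ → P.Opens)
    (hdisj : ∀ a b, a ≠ b → Disjoint (W a) (W b)) (hcov : (⨆ a, W a) = ⊤)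
    (h : ∀ a, (W a : Scheme.{u}) ⟶ T) : ∃ H : P ⟶ T, ∀ a, (W a).ι ≫ H = h a := by
  let 𝒰 : P.OpenCover := P.openCoverOfIsOpenCover W hcov
  refine ⟨𝒰.glueMorphisms h ?_, fun a => 𝒰.ι_glueMorphisms h _ a⟩
  intro a b
  by_cases hab : a = b
  · subst hab
    have e : pullback.fst (𝒰.f a) (𝒰.f a) = pullback.snd (𝒰.f a) (𝒰.f a) := by
      rw [← cancel_mono (𝒰.f a)]
      exact pullback.condition
    rw [e]
  · have hemp : IsEmpty ↥(pullback (𝒰.f a) (𝒰.f b)) := by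
      refine ⟨fun t => ?_⟩
      have h1 : (pullback.fst (𝒰.f a) (𝒰.f b) ≫ 𝒰.f a) t ∈ W a := by
        rw [Scheme.Hom.comp_apply]
        exact (pullback.fst (𝒰.f a) (𝒰.f b) t).2
      have h2 : (pullback.fst (𝒰.f a) (𝒰.f b) ≫ 𝒰.f a) t ∈ W b := by
        rw [pullback.condition, Scheme.Hom.comp_apply]
        exact (pullback.snd (𝒰.f a) (𝒰.f b) t).2
      exact (Set.disjoint_left.mp
        ((TopologicalSpace.Opens.coe_disjoint).mpr (hdisj a b hab))) h1 h2
    exact (isInitialOfIsEmpty (X := pullback (𝒰.f a) (𝒰.f b))).hom_ext _ _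

/-- An open neighbourhood of `u` meeting the fibre of `g` through `u` only at `u`. -/
theorem exists_open_fibre_singleton {U X : Scheme.{u}} (g : U ⟶ X) [Etale g] (u : U) :
    ∃ O : U.Opens, u ∈ O ∧ ∀ u' ∈ O, g u' = g u → u' = u := by
  haveI : LocallyQuasiFinite g := Groth.Agent.S10265.locallyQuasiFinite_of_unramified g
  have hd : DiscreteTopology ↥(g ⁻¹' {g u}) := (g.isDiscrete_preimage_singleton (g u)).to_subtype
  have ho : IsOpen ({⟨u, rfl⟩} : Set ↥(g ⁻¹' {g u})) := isOpen_discrete _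
  obtain ⟨t, ht, hte⟩ := isOpen_induced_iff.mp ho
  refine ⟨⟨t, ht⟩, ?_, ?_⟩
  · have : (⟨u, rfl⟩ : ↥(g ⁻¹' {g u})) ∈ Subtype.val ⁻¹' t := by rw [hte]; rfl
    exact this
  · intro u' hu' hg
    have : (⟨u', hg⟩ : ↥(g ⁻¹' {g u})) ∈ Subtype.val ⁻¹' t := hu'
    rw [hte] at this
    exact congrArg Subtype.val this

set_option backward.isDefEq.respectTransparency.types false in
theorem exists_local {X Y : Scheme.{u}} (f : X ⟶ Y) [IsIntegralHom f]
    (hf : Topology.IsClosedEmbedding f.base) {U : Scheme.{u}} (g : U ⟶ X) [Etale g] (u : U) :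
    ∃ (V : Scheme.{u}) (v : V ⟶ Y) (_ : Etale v) (h : pullback f v ⟶ U),
      h ≫ g = pullback.fst f v ∧ u ∈ Set.range h := by
  obtain ⟨O, huO, hO⟩ := exists_open_fibre_singleton g u
  obtain ⟨g', hg'⟩ : ∃ g' : (O : Scheme.{u}) ⟶ X, g' = O.ι ≫ g := ⟨_, rfl⟩
  haveI : Etale g' := hg' ▸ inferInstance
  -- the open of `Y` cutting out the image of `g'`
  have hopen : IsOpen (Set.range g') := g'.isOpenMap.isOpen_range
  obtain ⟨t, ht, hte⟩ := hf.isEmbedding.isInducing.isOpen_iff.mp hopen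
  let Y₀ : Y.Opens := ⟨t, ht⟩
  have hY₀ : ∀ x : X, f x ∈ Y₀ ↔ x ∈ Set.range g' := fun x => by
    rw [← hte]; rfl
  have hrange : Set.range (g' ≫ f) ⊆ Set.range Y₀.ι := by
    rintro _ ⟨o, rfl⟩
    rw [Scheme.Opens.range_ι, Scheme.Hom.comp_apply]
    exact (hY₀ _).mpr ⟨o, rfl⟩
  let yl : (O : Scheme.{u}) ⟶ Y₀ := IsOpenImmersion.lift Y₀.ι (g' ≫ f) hrange
  have hyl : yl ≫ Y₀.ι = g' ≫ f := IsOpenImmersion.lift_fac _ _ _
  let g₀ : (O : Scheme.{u}) ⟶ pullback f Y₀.ι := pullback.lift g' yl hyl.symm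
  have hg₀ : g₀ ≫ pullback.fst f Y₀.ι = g' := pullback.lift_fst _ _ _
  haveI : Etale (g₀ ≫ pullback.fst f Y₀.ι) := hg₀ ▸ inferInstance
  haveI : Etale g₀ := Etale.of_comp g₀ (pullback.fst f Y₀.ι)
  have hcov : ∀ p : ↥(pullback f Y₀.ι), ∃ _i : PUnit.{u+1}, p ∈ Set.range g₀ := by
    intro p
    refine ⟨⟨⟩, ?_⟩
    have hp : f (pullback.fst f Y₀.ι p) ∈ Y₀ := by
      rw [← Scheme.Hom.comp_apply, pullback.condition, Scheme.Hom.comp_apply]
      exact (pullback.snd f Y₀.ι p).2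
    obtain ⟨o, ho⟩ := (hY₀ _).mp hp
    refine ⟨o, ?_⟩
    apply (pullback.fst f Y₀.ι).isOpenEmbedding.injective
    rw [← Scheme.Hom.comp_apply, hg₀, ho]
  set x : X := g u with hx
  set y : Y := f x with hy
  have hyY₀ : y ∈ Y₀ := (hY₀ x).mpr ⟨⟨u, huO⟩, by rw [hg']; rfl⟩
  obtain ⟨V', v', hv', ⟨y', hy'⟩, μ, W, hdisj, hsup, hW⟩ :=
    propB_local f Y₀.ι (fun _ : PUnit.{u+1} => (O : Scheme.{u})) (fun _ => g₀) hcov ⟨y, hyY₀⟩
  choose i hh hhe using hW
  obtain ⟨H, hH⟩ := exists_glue_disjoint W hdisj hsup hh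
  have key : (H ≫ O.ι) ≫ g = pullback.fst f (v' ≫ Y₀.ι) := by
    refine Scheme.Cover.hom_ext ((pullback f (v' ≫ Y₀.ι)).openCoverOfIsOpenCover W hsup) _ _
      fun a => ?_
    change (W a).ι ≫ (H ≫ O.ι) ≫ g = (W a).ι ≫ pullback.fst f (v' ≫ Y₀.ι)
    have e1 : (W a).ι ≫ (H ≫ O.ι) ≫ g = hh a ≫ g' := by
      rw [hg', ← hH a]
      simp only [Category.assoc]
    rw [e1, ← hg₀, ← Category.assoc, hhe a, Category.assoc, pullback.lift_fst, Category.comp_id]
  refine ⟨V', v' ≫ Y₀.ι, inferInstance, H ≫ O.ι, key, ?_⟩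
  have hpt : f x = (v' ≫ Y₀.ι) y' := by
    rw [Scheme.Hom.comp_apply, hy']
    rfl
  obtain ⟨w, hw1, -⟩ := Scheme.Pullback.exists_preimage_pullback x y' hpt
  refine ⟨w, hO _ (H w).2 ?_⟩
  have := congrArg (fun m : pullback f (v' ≫ Y₀.ι) ⟶ X => m w) key
  simp only [Scheme.Hom.comp_apply] at this
  rw [hw1] at this
  exact this

set_option backward.isDefEq.respectTransparency.types false in
theorem propC {X Y : Scheme.{u}} (f : X ⟶ Y) [IsIntegralHom f]
    (hf : Topology.IsClosedEmbedding f.base) : BigSite.PropC f := by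
  intro U g _
  choose V v hv h hh hu using fun u : U => exists_local f hf g u
  obtain ⟨vv, hvv⟩ : ∃ vv : (∐ V) ⟶ Y, vv = Sigma.desc v := ⟨_, rfl⟩
  have hιvv : ∀ u, Sigma.ι V u ≫ vv = v u := fun u => by rw [hvv]; exact Sigma.ι_desc _ _
  haveI : Etale vv := hvv ▸ IsZariskiLocalAtSource.sigmaDesc (P := @Etale) hv
  let m : ∀ u, pullback f (v u) ⟶ pullback f vv := fun u =>
    pullback.map f (v u) f vv (𝟙 X) (Sigma.ι V u) (𝟙 Y) (by simp) (by simp [hιvv])
  have hm1 : ∀ u, m u ≫ pullback.fst f vv = pullback.fst f (v u) := fun u =>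
    (pullback.lift_fst _ _ _).trans (Category.comp_id _)
  have hrange : ∀ u, Set.range (m u) = pullback.snd f vv ⁻¹' Set.range (Sigma.ι V u) := by
    intro u
    have := Scheme.Pullback.range_map f (v u) f vv (𝟙 X) (Sigma.ι V u) (𝟙 Y) (by simp)
      (by simp [hιvv])
    rw [this]
    simp
  let W : U → (pullback f vv).Opens := fun u => (m u).opensRange
  have hdisj : ∀ a b, a ≠ b → Disjoint (W a) (W b) := by
    intro a b hab
    rw [← TopologicalSpace.Opens.coe_disjoint]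
    change Disjoint (Set.range (m a)) (Set.range (m b))
    rw [hrange, hrange]
    exact Disjoint.preimage _
      ((TopologicalSpace.Opens.coe_disjoint).mpr (disjoint_opensRange_sigmaι V a b hab))
  have hcov : (⨆ a, W a) = ⊤ := by
    rw [eq_top_iff]
    intro p _
    obtain ⟨a, z, hz⟩ := (sigmaOpenCover V).exists_eq (pullback.snd f vv p)
    rw [TopologicalSpace.Opens.mem_iSup]
    refine ⟨a, ?_⟩
    change p ∈ Set.range (m a)
    rw [hrange]
    exact ⟨z, hz⟩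
  let h' : ∀ a, (W a : Scheme.{u}) ⟶ U := fun a => (m a).isoOpensRange.inv ≫ h a
  obtain ⟨H, hH⟩ := exists_glue_disjoint W hdisj hcov h'
  have hHm : ∀ a, m a ≫ H = h a := by
    intro a
    have e1 : m a = (m a).isoOpensRange.hom ≫ (W a).ι := (Scheme.Hom.isoOpensRange_hom_ι _).symm
    rw [e1, Category.assoc, hH a]
    simp [h']
  refine ⟨∐ V, vv, inferInstance, H, ?_, ?_⟩
  · refine Scheme.Cover.hom_ext ((pullback f vv).openCoverOfIsOpenCover W hcov) _ _
      fun (a : U) => ?_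
    change (W a).ι ≫ H ≫ g = (W a).ι ≫ pullback.fst f vv
    rw [← cancel_epi (m a).isoOpensRange.hom]
    have e1 : (m a).isoOpensRange.hom ≫ (W a).ι = m a := Scheme.Hom.isoOpensRange_hom_ι _
    calc (m a).isoOpensRange.hom ≫ (W a).ι ≫ H ≫ g
        = ((m a).isoOpensRange.hom ≫ (W a).ι) ≫ H ≫ g := (Category.assoc _ _ _).symm
      _ = (m a ≫ H) ≫ g := by rw [e1, Category.assoc]
      _ = pullback.fst f (v a) := by rw [hHm, hh]
      _ = m a ≫ pullback.fst f vv := (hm1 a).symm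
      _ = ((m a).isoOpensRange.hom ≫ (W a).ι) ≫ pullback.fst f vv := by rw [e1]
      _ = (m a).isoOpensRange.hom ≫ (W a).ι ≫ pullback.fst f vv := Category.assoc _ _ _
  · constructor
    intro u
    obtain ⟨w, hw⟩ := hu u
    refine ⟨m u w, ?_⟩
    rw [← Scheme.Hom.comp_apply, hHm]
    exact hw

end Groth.Agent.Lib.T2H8PropCIntegral
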