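/-
Almost cocontinuity of base change along a closed immersion on big sites (S6635).
-/
import Mathlib
import Groth.Prelude.Def_BigSite
import Groth.Agent.Lib.T2H8PropCIntegral

open CategoryTheory Limits AlgebraicGeometry TopologicalSpace

universe u

namespace Groth.Agent.Lib.T2H1.BigAlmostCocont

/-- Base change along a closed immersion is almost cocontinuous for the big `P`-topology, as soon as
etale morphisms are `P` and `P`-morphisms have etale-local sections. -/
theorem almostCocont {X Y : Scheme.{u}} (f : X ⟶ Y) [IsClosedImmersion f]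
    (P : MorphismProperty Scheme.{u}) [P.IsStableUnderBaseChange] [P.IsMultiplicative]
    (hEt : ∀ {A B : Scheme.{u}} (g : A ⟶ B), Etale g → P g)
    (hsec : ∀ {Z U : Scheme.{u}} (g : U ⟶ Z), P g → ∀ u : U,
      ∃ (E : Scheme.{u}) (e : E ⟶ Z) (x : E), Etale e ∧ e x = g u ∧ ∃ h : E ⟶ U, h ≫ g = e) :
    BigSite.IsAlmostCocontinuous (Over.pullback f) (QuotSh.J (Scheme.precoverage P) Y)
      (QuotSh.J (Scheme.precoverage P) X) := by
  intro V R hR
  rw [GrothendieckTopology.mem_over_iff] at hR
  obtain ⟨𝒰, h𝒰⟩ := Scheme.exists_cover_of_mem_grothendieckTopology hR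
  let Z : Scheme.{u} := pullback V.hom f
  let iV : Z ⟶ V.left := pullback.fst V.hom f
  haveI : IsClosedImmersion iV := by dsimp only [iV]; infer_instance
  -- etale refinement
  have h1 : ∀ z : Z, ∃ (E : Scheme.{u}) (e : E ⟶ Z) (x : E), Etale e ∧ e x = z ∧
      (Sieve.overEquiv _ R) e := by
    intro z
    obtain ⟨i, u, hu⟩ := 𝒰.exists_eq z
    obtain ⟨E, e, x, he, hx, h, hh⟩ := hsec (𝒰.f i) (𝒰.map_prop i) u
    refine ⟨E, e, x, he, hx.trans hu, ?_⟩
    rw [← hh]
    exact (Sieve.overEquiv _ R).downward_closed (h𝒰 _ _ (Presieve.ofArrows.mk i)) h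
  choose E e x he hx heR using h1
  -- condition (C)
  have hC : BigSite.PropC iV :=
    Groth.Agent.Lib.T2H8PropCIntegral.propC iV iV.isClosedEmbedding
  have h2 : ∀ z : Z, ∃ (V' : Scheme.{u}) (v : V' ⟶ V.left) (_ : Etale v)
      (k : pullback iV v ⟶ E z), k ≫ e z = pullback.fst iV v ∧ Surjective k := by
    intro z
    haveI := he z
    exact hC (E z) (e z)
  choose V' v hv k hk hksurj using h2
  -- the open complement
  let W : V.left.Opens := ⟨(Set.range iV)ᶜ, iV.isClosedEmbedding.isClosed_range.isOpen_compl⟩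
  -- the cover of `V.left`
  let obj : Z ⊕ PUnit.{u + 1} → Scheme.{u} := fun j => Sum.elim V' (fun _ => (W : Scheme.{u})) j
  let map : ∀ j, obj j ⟶ V.left := fun j =>
    match j with
    | Sum.inl z => v z
    | Sum.inr _ => W.ι
  have hcov : ∀ y : V.left, ∃ j y', map j y' = y := by
    intro y
    by_cases hy : y ∈ Set.range iV
    · obtain ⟨z, rfl⟩ := hy
      haveI := hksurj z
      obtain ⟨p, hp⟩ := (k z).surjective (x z)
      refine ⟨Sum.inl z, pullback.snd iV (v z) p, ?_⟩
      change (pullback.snd iV (v z) ≫ v z) p = iV z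
      rw [← pullback.condition, ← hk z]
      simp only [Scheme.Hom.comp_apply, hp, hx]
    · exact ⟨Sum.inr PUnit.unit, ⟨y, hy⟩, rfl⟩
  have hprop : ∀ j, P (map j) := by
    rintro (z | _)
    · exact hEt _ (hv z)
    · exact hEt _ (inferInstanceAs (Etale W.ι))
  let 𝒱 : V.left.Cover (Scheme.precoverage P) := Scheme.Cover.mkOfCovers _ obj map hcov hprop
  let gen : ∀ j, Over.mk (map j ≫ V.hom) ⟶ V := fun j => Over.homMk (map j) rfl
  refine ⟨Sieve.ofArrows (fun j => Over.mk (map j ≫ V.hom)) gen, ?_, ?_⟩
  · rw [GrothendieckTopology.mem_over_iff, Sieve.overEquiv_ofArrows]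
    exact 𝒱.mem_grothendieckTopology
  · rintro V₁ g ⟨_, g', _, ⟨j⟩, rfl⟩
    rcases j with z | ⟨⟨⟩⟩
    · right
      rw [Functor.map_comp]
      refine R.downward_closed ?_ _
      -- `F.map (gen z)` factors through `e z`
      let m : pullback (v z ≫ V.hom) f ⟶ Z := ((Over.pullback f).map (gen (Sum.inl z))).left
      have hm : m ≫ iV = pullback.fst (v z ≫ V.hom) f ≫ v z :=
        pullback.lift_fst _ _ _
      let θ : pullback (v z ≫ V.hom) f ⟶ E z :=
        pullback.lift m (pullback.fst (v z ≫ V.hom) f) hm ≫ k z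
      have hθ : θ ≫ e z = m := by
        simp only [θ, Category.assoc, hk z]
        exact pullback.lift_fst _ _ _
      let ez : E z ⟶ ((Over.pullback f).obj V).left := e z
      have hR' : R.arrows (Over.homMk ez rfl :
          Over.mk (ez ≫ ((Over.pullback f).obj V).hom) ⟶ (Over.pullback f).obj V) :=
        (Sieve.overEquiv_iff R ez).1 (heR z)
      let θ' : (Over.pullback f).obj (Over.mk (map (Sum.inl z) ≫ V.hom)) ⟶
          Over.mk (ez ≫ ((Over.pullback f).obj V).hom) :=
        Over.homMk θ (by
          have hw := Over.w ((Over.pullback f).map (gen (Sum.inl z)))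
          change θ ≫ ez ≫ ((Over.pullback f).obj V).hom = _
          rw [← Category.assoc, show θ ≫ ez = m from hθ]
          exact hw)
      have : (Over.pullback f).map (gen (Sum.inl z)) = θ' ≫ Over.homMk ez rfl := by
        ext
        simp only [Over.comp_left, Over.homMk_left, θ']
        exact hθ.symm
      rw [this]
      exact R.downward_closed hR' _
    · left
      rw [GrothendieckTopology.mem_over_iff, map_bot]
      have hemp : IsEmpty
          (((Over.pullback f).obj (Over.mk (map (Sum.inr PUnit.unit) ≫ V.hom))).left : Scheme.{u}) := by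
        refine ⟨fun p => ?_⟩
        let p' : ↥(pullback (W.ι ≫ V.hom) f) := p
        let m : pullback (W.ι ≫ V.hom) f ⟶ Z :=
          ((Over.pullback f).map (gen (Sum.inr PUnit.unit))).left
        have hm : m ≫ iV = pullback.fst (W.ι ≫ V.hom) f ≫ W.ι :=
          pullback.lift_fst _ _ _
        have h3 : iV (m p') = W.ι (pullback.fst (W.ι ≫ V.hom) f p') := by
          rw [← Scheme.Hom.comp_apply, hm, Scheme.Hom.comp_apply]
        exact (pullback.fst (W.ι ≫ V.hom) f p').2 ⟨m p', h3⟩
      haveI : IsEmpty (((Over.pullback f).obj V₁).left : Scheme.{u}) :=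
        @Function.isEmpty _ _ hemp ((Over.pullback f).map g').left
      exact Scheme.bot_mem_grothendieckTopology _

end Groth.Agent.Lib.T2H1.BigAlmostCocont
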