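/-
Topology on `Over S` generated by a class `C` of quasi-compact morphisms, affine-locally
(helper library for S14463 / S14465).
-/
import Mathlib

open CategoryTheory Limits AlgebraicGeometry TopologicalSpace

universe u

namespace Groth.Agent.Lib.T2H1.BigSiteCls

variable {S : Scheme.{u}} (C : MorphismProperty Scheme.{u})

/-- Local finite `C`-covering data for the sieve `R` over the open `U` of `X`. -/
def LocData {X : Over S} (R : Sieve X) (U : X.left.Opens) : Prop :=
  ∃ (κ : Type u) (_ : Finite κ) (V : κ → Over S) (φ : ∀ j, V j ⟶ X)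
    (ψ : ∀ j, (V j).left ⟶ (U : Scheme.{u})),
    (∀ j, IsAffine (V j).left) ∧ (∀ j, R.arrows (φ j)) ∧ (∀ j, ψ j ≫ U.ι = (φ j).left) ∧
      C (Limits.Sigma.desc ψ)

/-- The covering condition of the statement. -/
def Cov (X : Over S) (R : Sieve X) : Prop :=
  ∃ (ι : Type u) (U : ι → X.left.Opens), (∀ i, IsAffineOpen (U i)) ∧ ⨆ i, U i = ⊤ ∧
    ∀ i, LocData C R (U i)

/-- Global finite `C`-covering data (for affine `X`). -/
def FinData (X : Over S) (R : Sieve X) : Prop :=
  ∃ (κ : Type u) (_ : Finite κ) (V : κ → Over S) (φ : ∀ j, V j ⟶ X),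
    (∀ j, IsAffine (V j).left) ∧ (∀ j, R.arrows (φ j)) ∧
      C (Limits.Sigma.desc fun j => (φ j).left)

variable {C}

lemma cov_iff {X : Over S} {R : Sieve X} :
    Cov C X R ↔ ∀ x : X.left, ∃ U : X.left.Opens, IsAffineOpen U ∧ x ∈ U ∧ LocData C R U := by
  constructor
  · rintro ⟨ι, U, hU, hcov, hloc⟩ x
    have hx : x ∈ (⨆ i, U i : X.left.Opens) := by rw [hcov]; trivial
    obtain ⟨i, hi⟩ := Opens.mem_iSup.1 hx
    exact ⟨U i, hU i, hi, hloc i⟩
  · intro h
    refine ⟨{U : X.left.Opens // IsAffineOpen U ∧ LocData C R U}, fun U => U.1,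
      fun U => U.2.1, ?_, fun U => U.2.2⟩
    refine eq_top_iff.2 fun x _ => ?_
    obtain ⟨U, hU, hxU, hloc⟩ := h x
    exact Opens.mem_iSup.2 ⟨⟨U, hU, hloc⟩, hxU⟩

lemma LocData.mono {X : Over S} {R R' : Sieve X} (h : R ≤ R') {U : X.left.Opens}
    (hd : LocData C R U) : LocData C R' U := by
  obtain ⟨κ, hκ, V, φ, ψ, hV, hR, hψ, hC⟩ := hd
  exact ⟨κ, hκ, V, φ, ψ, hV, fun j => h _ (hR j), hψ, hC⟩

lemma Cov.mono {X : Over S} {R R' : Sieve X} (h : R ≤ R') (hd : Cov C X R) : Cov C X R' := by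
  obtain ⟨ι, U, hU, hcov, hloc⟩ := hd
  exact ⟨ι, U, hU, hcov, fun i => (hloc i).mono h⟩

section

variable [C.IsStableUnderComposition] [C.IsStableUnderBaseChange]
  (hcoprod : ∀ (κ : Type u) [Finite κ] (A B : κ → Scheme.{u}) (f : ∀ j, A j ⟶ B j),
      (∀ j, C (f j)) → C (Limits.Sigma.map f))
  (haff : ∀ (U : Scheme.{u}) [IsAffine U] (κ : Type u) [Finite κ] (V : κ → U.Opens),
      (∀ j, IsAffineOpen (V j)) → ⨆ j, V j = ⊤ → C (Limits.Sigma.desc fun j => (V j).ι))

include hcoprod in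
/-- Composition of finite `C`-families. -/
lemma sigma_comp {κ : Type u} [Finite κ] {A : κ → Scheme.{u}} {B : Scheme.{u}}
    (a : ∀ j, A j ⟶ B) (ha : C (Limits.Sigma.desc a))
    {μ : κ → Type u} [∀ j, Finite (μ j)] {D : ∀ j, μ j → Scheme.{u}} (d : ∀ j m, D j m ⟶ A j)
    (hd : ∀ j, C (Limits.Sigma.desc (d j))) :
    C (Limits.Sigma.desc (fun p : Σ j, μ j => d p.1 p.2 ≫ a p.1)) := by
  have e := sigmaSigmaIso μ D
  have key : Limits.Sigma.desc (fun p : Σ j, μ j => d p.1 p.2 ≫ a p.1) =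
      (sigmaSigmaIso μ D).inv ≫ Limits.Sigma.map (fun j => Limits.Sigma.desc (d j)) ≫
        Limits.Sigma.desc a := by
    refine Limits.Sigma.hom_ext _ _ fun p => ?_
    obtain ⟨j, m⟩ := p
    simp
  rw [key]
  refine (C.cancel_left_of_respectsIso _ _).2 ?_
  exact C.comp_mem _ _ (hcoprod κ _ _ _ hd) ha

omit [C.IsStableUnderComposition] in
/-- Pullback of local data along `f : Y ⟶ X` to an affine open `W ≤ f⁻¹ U`. -/
lemma locData_pullback {X Y : Over S} (f : Y ⟶ X) (R : Sieve X) {U : X.left.Opens}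
    (hU : IsAffineOpen U) {W : Y.left.Opens} (hW : IsAffineOpen W) (hWU : W ≤ f.left ⁻¹ᵁ U)
    (h : LocData C R U) : LocData C (R.pullback f) W := by
  obtain ⟨κ, hκ, V, φ, ψ, hV, hR, hψ, hC⟩ := h
  haveI : IsAffine (U : Scheme.{u}) := hU
  haveI : IsAffine (W : Scheme.{u}) := hW
  let fW : (W : Scheme.{u}) ⟶ (U : Scheme.{u}) := f.left.resLE U W hWU
  have hfW : fW ≫ U.ι = W.ι ≫ f.left := Scheme.Hom.resLE_comp_ι _ _
  have hcond : ∀ j, pullback.fst fW (ψ j) ≫ W.ι ≫ f.left = pullback.snd fW (ψ j) ≫ (φ j).left := by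
    intro j
    rw [← hfW, ← hψ j, pullback.condition_assoc]
  let V' : κ → Over S := fun j => Over.mk (pullback.fst fW (ψ j) ≫ W.ι ≫ Y.hom)
  let φ' : ∀ j, V' j ⟶ Y := fun j => Over.homMk (pullback.fst fW (ψ j) ≫ W.ι) (by simp [V'])
  have hYX : f.left ≫ X.hom = Y.hom := Over.w f
  let g : ∀ j, V' j ⟶ V j := fun j => Over.homMk (pullback.snd fW (ψ j)) (by
    have h1 : (φ j).left ≫ X.hom = (V j).hom := Over.w (φ j)
    simp only [V', Over.mk_hom, Over.mk_left]
    rw [← h1, ← reassoc_of% (hcond j), hYX])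
  refine ⟨κ, hκ, V', φ', fun j => pullback.fst fW (ψ j), ?_, ?_, fun j => rfl, ?_⟩
  · intro j
    haveI := hV j
    change IsAffine (pullback fW (ψ j))
    infer_instance
  · intro j
    change R.arrows (φ' j ≫ f)
    have : φ' j ≫ f = g j ≫ φ j := by
      ext
      simpa [φ', g] using hcond j
    rw [this]
    exact R.downward_closed (hR j) _
  · have hau : IsUniversalColimit (Cofan.mk (∐ fun j => (V j).left) (Limits.Sigma.ι _)) :=
      FinitaryPreExtensive.isUniversal_finiteCoproducts (coproductIsCoproduct _)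
    have hpb := hau.isPullback_of_isColimit_left (f := ψ) (u := Limits.Sigma.desc ψ) (v := fW)
      (q₁ := fun j => pullback.fst fW (ψ j)) (q₂ := fun j => pullback.snd fW (ψ j))
      (fun j => IsPullback.of_hasPullback _ _)
      (d := Cofan.mk (∐ fun j => pullback fW (ψ j)) (Limits.Sigma.ι _))
      (coproductIsCoproduct _) (by intro i; simp [Cofan.inj])
    have heq : Cofan.IsColimit.desc (coproductIsCoproduct fun j => pullback fW (ψ j))
        (fun j => pullback.fst fW (ψ j)) = Limits.Sigma.desc fun j => pullback.fst fW (ψ j) := by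
      refine Limits.Sigma.hom_ext _ _ fun j => ?_
      simp [Cofan.IsColimit.desc, Limits.Sigma.ι, coproductIsCoproduct]
    rw [heq] at hpb
    exact C.of_isPullback hpb.flip hC

omit [C.IsStableUnderComposition] [C.IsStableUnderBaseChange] in
include haff in
/-- If the inclusion of the affine open `U` belongs to `R`, there is local data over `U`. -/
lemma locData_of_mem {X : Over S} (R : Sieve X) {U : X.left.Opens} (hU : IsAffineOpen U)
    (hR : R.arrows (Over.homMk U.ι rfl : Over.mk (U.ι ≫ X.hom) ⟶ X)) : LocData C R U := by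
  haveI : IsAffine (U : Scheme.{u}) := hU
  let T : (U : Scheme.{u}).Opens := ⊤
  have hT : IsAffineOpen T := isAffineOpen_top _
  let V : PUnit.{u + 1} → Over S := fun _ => Over.mk (T.ι ≫ U.ι ≫ X.hom)
  let g : ∀ j, V j ⟶ Over.mk (U.ι ≫ X.hom) := fun _ => Over.homMk T.ι rfl
  refine ⟨PUnit.{u + 1}, inferInstance, V,
    fun j => g j ≫ (Over.homMk U.ι rfl : Over.mk (U.ι ≫ X.hom) ⟶ X), fun _ => T.ι,
    fun _ => hT, fun j => R.downward_closed hR _, fun j => by simp [g], ?_⟩
  exact haff (U : Scheme.{u}) PUnit.{u + 1} (fun _ => T) (fun _ => hT)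
    (by simp [T])

include hcoprod haff in
/-- For affine `X`, a covering sieve has global finite data. -/
lemma finData_of_cov {X : Over S} [IsAffine X.left] {R : Sieve X} (h : Cov C X R) :
    FinData C X R := by
  obtain ⟨ι, U, hU, hcov, hloc⟩ := h
  have hcpt : IsCompact (Set.univ : Set X.left) := isCompact_univ
  obtain ⟨t, ht⟩ := hcpt.elim_finite_subcover (fun i => (U i : Set X.left))
    (fun i => (U i).isOpen) (by
      intro x _
      have hx : x ∈ (⨆ i, U i : X.left.Opens) := by rw [hcov]; trivial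
      obtain ⟨i, hi⟩ := Opens.mem_iSup.1 hx
      exact Set.mem_iUnion.2 ⟨i, hi⟩)
  choose κ hκ V φ ψ hV hR hψ hC using hloc
  haveI : ∀ i, Finite (κ i) := hκ
  have hcovt : ⨆ i : t, U i.1 = ⊤ := by
    refine eq_top_iff.2 fun x _ => ?_
    obtain ⟨i, hi⟩ := Set.mem_iUnion.1 (ht (Set.mem_univ x))
    obtain ⟨hit, hxi⟩ := Set.mem_iUnion.1 hi
    exact Opens.mem_iSup.2 ⟨⟨i, hit⟩, hxi⟩
  have h1 : C (Limits.Sigma.desc fun i : t => (U i.1).ι) :=
    haff X.left t (fun i => U i.1) (fun i => hU i.1) hcovt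
  have h2 := sigma_comp hcoprod (fun i : t => (U i.1).ι) h1 (μ := fun i : t => κ i.1)
    (D := fun i m => (V i.1 m).left) (fun i m => ψ i.1 m) (fun i => hC i.1)
  refine ⟨Σ i : t, κ i.1, inferInstance, fun p => V p.1.1 p.2, fun p => φ p.1.1 p.2,
    fun p => hV _ _, fun p => hR _ _, ?_⟩
  have : (fun p : Σ i : t, κ i.1 => (φ p.1.1 p.2).left) =
      fun p : Σ i : t, κ i.1 => ψ p.1.1 p.2 ≫ (U p.1.1).ι := by
    funext p
    exact (hψ _ _).symm
  rw [this]
  exact h2

include hcoprod in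
/-- Transitivity at one affine open. -/
lemma locData_of_finData {X : Over S} (R : Sieve X) {U : X.left.Opens}
    {κ : Type u} [Finite κ] (V : κ → Over S) (φ : ∀ j, V j ⟶ X)
    (ψ : ∀ j, (V j).left ⟶ (U : Scheme.{u})) (hψ : ∀ j, ψ j ≫ U.ι = (φ j).left)
    (hC : C (Limits.Sigma.desc ψ)) (hfin : ∀ j, FinData C (V j) (R.pullback (φ j))) :
    LocData C R U := by
  choose μ hμ T θ hT hR hCT using hfin
  haveI : ∀ j, Finite (μ j) := hμ
  have h2 := sigma_comp hcoprod ψ hC (μ := μ) (D := fun j m => (T j m).left)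
    (fun j m => (θ j m).left) hCT
  refine ⟨Σ j, μ j, inferInstance, fun p => T p.1 p.2, fun p => θ p.1 p.2 ≫ φ p.1,
    fun p => (θ p.1 p.2).left ≫ ψ p.1, fun p => hT _ _, fun p => hR _ _, fun p => ?_, h2⟩
  simp [hψ]

omit [C.IsStableUnderComposition] [C.IsStableUnderBaseChange] in
include haff in
lemma cov_top (X : Over S) : Cov C X ⊤ := by
  refine cov_iff.2 fun x => ?_
  obtain ⟨_, ⟨U, hU, rfl⟩, hxU, -⟩ :=
    X.left.isBasis_affineOpens.exists_subset_of_mem_open (Set.mem_univ x) isOpen_univ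
  exact ⟨U, hU, hxU, locData_of_mem haff ⊤ hU trivial⟩

omit [C.IsStableUnderComposition] in
lemma cov_pullback {X Y : Over S} (f : Y ⟶ X) {R : Sieve X} (h : Cov C X R) :
    Cov C Y (R.pullback f) := by
  refine cov_iff.2 fun y => ?_
  obtain ⟨U, hU, hxU, hloc⟩ := cov_iff.1 h (f.left y)
  obtain ⟨_, ⟨W, hW, rfl⟩, hyW, hWU⟩ :=
    Y.left.isBasis_affineOpens.exists_subset_of_mem_open (show y ∈ (f.left ⁻¹ᵁ U : Set Y.left) from hxU)
      (f.left ⁻¹ᵁ U).isOpen
  exact ⟨W, hW, hyW, locData_pullback f R hU hW hWU hloc⟩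

include hcoprod haff in
lemma cov_trans {X : Over S} {R₀ R : Sieve X} (h₀ : Cov C X R₀)
    (h : ∀ ⦃Y : Over S⦄ ⦃f : Y ⟶ X⦄, R₀.arrows f → Cov C Y (R.pullback f)) : Cov C X R := by
  refine cov_iff.2 fun x => ?_
  obtain ⟨U, hU, hxU, κ, hκ, V, φ, ψ, hV, hR, hψ, hC⟩ := cov_iff.1 h₀ x
  refine ⟨U, hU, hxU, ?_⟩
  haveI := hκ
  refine locData_of_finData hcoprod R V φ ψ hψ hC fun j => ?_
  haveI := hV j
  exact finData_of_cov hcoprod haff (h (hR j))

/-- The Grothendieck topology generated by the class `C`, affine-locally. -/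
def topo : GrothendieckTopology (Over S) where
  sieves X := {R | Cov C X R}
  top_mem' X := cov_top haff X
  pullback_stable' _ _ _ f h := cov_pullback f h
  transitive' _ _ h₀ R h := cov_trans hcoprod haff h₀ h

lemma mem_topo_iff {X : Over S} {R : Sieve X} : R ∈ topo hcoprod haff X ↔ Cov C X R := Iff.rfl

omit [C.IsStableUnderComposition] [C.IsStableUnderBaseChange] in
include haff in
/-- Zariski covering sieves are covering. -/
lemma cov_of_zariski {X : Over S} {R : Sieve X}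
    (h : R ∈ (Scheme.zariskiTopology.over S) X) : Cov C X R := by
  rw [GrothendieckTopology.mem_over_iff] at h
  obtain ⟨𝒰, h𝒰⟩ := Scheme.exists_cover_of_mem_grothendieckTopology h
  refine cov_iff.2 fun x => ?_
  obtain ⟨i, y, rfl⟩ := 𝒰.exists_eq x
  haveI : IsOpenImmersion (𝒰.f i) := 𝒰.map_prop i
  obtain ⟨_, ⟨U, hU, rfl⟩, hxU, hUO⟩ :=
    X.left.isBasis_affineOpens.exists_subset_of_mem_open
      (show 𝒰.f i y ∈ ((𝒰.f i).opensRange : Set X.left) from ⟨y, rfl⟩) (𝒰.f i).opensRange.isOpen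
  refine ⟨U, hU, hxU, locData_of_mem haff R hU ?_⟩
  have hmem : (Sieve.overEquiv X R) (𝒰.f i) := h𝒰 _ _ (Presieve.ofArrows.mk i)
  rw [Sieve.overEquiv_iff] at hmem
  have hsub : Set.range (Scheme.Opens.ι U) ⊆ Set.range (𝒰.f i) := by
    rw [Scheme.Opens.range_ι]
    exact hUO
  let l : (Scheme.Opens.toScheme U) ⟶ 𝒰.X i := IsOpenImmersion.lift (𝒰.f i) (Scheme.Opens.ι U) hsub
  have hl : l ≫ 𝒰.f i = Scheme.Opens.ι U := IsOpenImmersion.lift_fac _ _ _
  let g : Over.mk (Scheme.Opens.ι U ≫ X.hom) ⟶ Over.mk (𝒰.f i ≫ X.hom) :=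
    Over.homMk l (by simp [← hl])
  have : (Over.homMk (Scheme.Opens.ι U) rfl : Over.mk (Scheme.Opens.ι U ≫ X.hom) ⟶ X) =
      g ≫ Over.homMk (𝒰.f i) := by
    ext
    simp [g, hl]
  rw [this]
  exact R.downward_closed hmem _

omit [C.IsStableUnderComposition] in
/-- The sieve generated by a single `C`-morphism is covering. -/
lemma cov_generate_singleton (hqc : ∀ {A B : Scheme.{u}} (f : A ⟶ B), C f → QuasiCompact f)
    (hres : ∀ (W X' : Scheme.{u}) [IsAffine W] (f : X' ⟶ W), C f →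
      ∀ (κ : Type u) [Finite κ] (A : κ → X'.Opens), (∀ l, IsAffineOpen (A l)) → ⨆ l, A l = ⊤ →
        C (Limits.Sigma.desc fun l => (A l).ι ≫ f))
    {X X' : Over S} (f : X' ⟶ X) (hf : C f.left) :
    Cov C X (Sieve.generate (Presieve.singleton f)) := by
  refine cov_iff.2 fun x => ?_
  obtain ⟨_, ⟨U, hU, rfl⟩, hxU, -⟩ :=
    X.left.isBasis_affineOpens.exists_subset_of_mem_open (Set.mem_univ x) isOpen_univ
  refine ⟨U, hU, hxU, ?_⟩
  haveI : IsAffine (U : Scheme.{u}) := hU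
  let O : X'.left.Opens := f.left ⁻¹ᵁ U
  let fU : (O : Scheme.{u}) ⟶ (U : Scheme.{u}) := f.left ∣_ U
  have hCfU : C fU := C.of_isPullback (isPullback_morphismRestrict f.left U).flip hf
  haveI : QuasiCompact fU := hqc fU hCfU
  haveI : CompactSpace (O : Scheme.{u}) := QuasiCompact.compactSpace_of_compactSpace fU
  let Z : Scheme.{u} := O
  have hcpt : IsCompact (Set.univ : Set Z) := isCompact_univ
  obtain ⟨t, ht⟩ := hcpt.elim_finite_subcover (fun A : Z.affineOpens => (A.1 : Set Z))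
    (fun A => A.1.isOpen) (by
      intro z _
      obtain ⟨_, ⟨A, hA, rfl⟩, hzA, -⟩ :=
        Z.isBasis_affineOpens.exists_subset_of_mem_open (Set.mem_univ z) isOpen_univ
      exact Set.mem_iUnion.2 ⟨⟨A, hA⟩, hzA⟩)
  have hcovt : ⨆ l : t, (l.1.1 : Z.Opens) = ⊤ := by
    refine eq_top_iff.2 fun z _ => ?_
    obtain ⟨A, hA⟩ := Set.mem_iUnion.1 (ht (Set.mem_univ z))
    obtain ⟨hAt, hzA⟩ := Set.mem_iUnion.1 hA
    exact Opens.mem_iSup.2 ⟨⟨A, hAt⟩, hzA⟩
  have hC := hres (U : Scheme.{u}) Z fU hCfU t (fun l => l.1.1) (fun l => l.1.2) hcovt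
  let V : t → Over S := fun l => Over.mk (l.1.1.ι ≫ O.ι ≫ X'.hom)
  let g : ∀ l, V l ⟶ X' := fun l => Over.homMk (l.1.1.ι ≫ O.ι) (by simp [V])
  refine ⟨t, inferInstance, V, fun l => g l ≫ f, fun l => l.1.1.ι ≫ fU, fun l => l.1.2,
    fun l => ⟨X', g l, f, Presieve.singleton.mk, rfl⟩, fun l => ?_, hC⟩
  simp [g, fU, O, morphismRestrict_ι]

end

universe v

section SheafCrit

variable [C.IsStableUnderComposition] [C.IsStableUnderBaseChange]
  (F : (Over S)ᵒᵖ ⥤ Type v)

omit [C.IsStableUnderComposition] in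
/-- The sieve generated by a `C`-morphism is covering for the finest topology making `F` a
sheaf, as soon as `F` satisfies the sheaf condition for single `C`-morphisms. -/
lemma generate_singleton_mem_finest
    (hsing : ∀ (X X' : Over S) (f : X' ⟶ X), C f.left →
      Presieve.IsSheafFor F (Presieve.singleton f))
    {X X' : Over S} (f : X' ⟶ X) (hf : C f.left) :
    Sieve.generate (Presieve.singleton f) ∈ Sheaf.finestTopology {F} X := by
  refine Sheaf.mem_finestTopology_of_forall_isSheafFor ?_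
  rintro P hP Y g
  obtain rfl : P = F := hP
  rw [← Sieve.pullbackArrows_comm, Presieve.pullback_singleton,
    ← Presieve.isSheafFor_iff_generate]
  apply hsing
  have hpb := (IsPullback.of_hasPullback f g).map (Over.forget S)
  exact C.of_isPullback hpb hf

omit [C.IsStableUnderComposition] in
lemma mem_finest_of_cov (hzar : Presieve.IsSheaf (Scheme.zariskiTopology.over S) F)
    (hsing : ∀ (X X' : Over S) (f : X' ⟶ X), C f.left →
      Presieve.IsSheafFor F (Presieve.singleton f))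
    {X : Over S} {R : Sieve X} (h : Cov C X R) : R ∈ Sheaf.finestTopology {F} X := by
  have hzle : Scheme.zariskiTopology.over S ≤ Sheaf.finestTopology {F} :=
    Sheaf.le_finestTopology _ _ (by rintro P rfl; exact hzar)
  obtain ⟨ι, U, hU, hcov, hloc⟩ := h
  let Ui : ι → Over S := fun i => Over.mk ((U i).ι ≫ X.hom)
  let ιi : ∀ i, Ui i ⟶ X := fun i => Over.homMk (U i).ι rfl
  have hZ : Sieve.ofArrows Ui ιi ∈ Sheaf.finestTopology {F} X := by
    apply hzle
    rw [GrothendieckTopology.mem_over_iff, Sieve.overEquiv_ofArrows]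
    exact (X.left.openCoverOfIsOpenCover U hcov).mem_grothendieckTopology
  refine (Sheaf.finestTopology {F}).transitive hZ R ?_
  rintro Y f ⟨_, g, _, ⟨i⟩, rfl⟩
  rw [Sieve.pullback_comp]
  apply (Sheaf.finestTopology {F}).pullback_stable
  obtain ⟨κ, hκ, V, φ, ψ, hV, hR, hψ, hC⟩ := hloc i
  haveI := hκ
  let ψ' : ∀ j, V j ⟶ Ui i := fun j => Over.homMk (ψ j) (by
    have h1 : (φ j).left ≫ X.hom = (V j).hom := Over.w (φ j)
    simp only [Ui, Over.mk_hom, Over.mk_left]
    rw [reassoc_of% (hψ j), h1])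
  have hψ' : ∀ j, ψ' j ≫ ιi i = φ j := fun j => by
    ext
    simpa [ψ', ιi] using hψ j
  have hQ : Sieve.ofArrows V ψ' ≤ R.pullback (ιi i) := by
    rintro Y f ⟨_, g, _, ⟨j⟩, rfl⟩
    change R.arrows ((g ≫ ψ' j) ≫ ιi i)
    rw [Category.assoc, hψ']
    exact R.downward_closed (hR j) g
  refine (Sheaf.finestTopology {F}).superset_covering hQ ?_
  let So : Over S := Over.mk (Limits.Sigma.desc ψ ≫ (U i).ι ≫ X.hom)
  let q : So ⟶ Ui i := Over.homMk (Limits.Sigma.desc ψ) rfl
  have hq : Sieve.generate (Presieve.singleton q) ∈ Sheaf.finestTopology {F} (Ui i) :=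
    generate_singleton_mem_finest F hsing q hC
  refine (Sheaf.finestTopology {F}).transitive hq _ ?_
  rintro Y f ⟨_, g, _, ⟨⟩, rfl⟩
  rw [Sieve.pullback_comp]
  apply (Sheaf.finestTopology {F}).pullback_stable
  let ι' : ∀ j, V j ⟶ So := fun j => Over.homMk (Limits.Sigma.ι (fun j => (V j).left) j) (by
    have h1 : (φ j).left ≫ X.hom = (V j).hom := Over.w (φ j)
    simp only [So, Over.mk_hom, Over.mk_left]
    rw [Limits.Sigma.ι_desc_assoc, reassoc_of% (hψ j), h1])
  have hι' : ∀ j, ι' j ≫ q = ψ' j := fun j => by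
    ext
    simp [ι', q, ψ']
  have hle : Sieve.ofArrows V ι' ≤ (Sieve.ofArrows V ψ').pullback q := by
    rintro Y f ⟨_, g, _, ⟨j⟩, rfl⟩
    change (Sieve.ofArrows V ψ').arrows ((g ≫ ι' j) ≫ q)
    rw [Category.assoc, hι']
    exact (Sieve.ofArrows V ψ').downward_closed (Sieve.ofArrows_mk _ _ j) g
  refine (Sheaf.finestTopology {F}).superset_covering hle (hzle _ ?_)
  rw [GrothendieckTopology.mem_over_iff, Sieve.overEquiv_ofArrows]
  exact (sigmaOpenCover (fun j => (V j).left)).mem_grothendieckTopology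

/-- The sheaf criterion. -/
theorem isSheaf_iff
    (hqc : ∀ {A B : Scheme.{u}} (f : A ⟶ B), C f → QuasiCompact f)
    (haff : ∀ (U : Scheme.{u}) [IsAffine U] (κ : Type u) [Finite κ] (V : κ → U.Opens),
      (∀ j, IsAffineOpen (V j)) → ⨆ j, V j = ⊤ → C (Limits.Sigma.desc fun j => (V j).ι))
    (hres : ∀ (W X' : Scheme.{u}) [IsAffine W] (f : X' ⟶ W), C f →
      ∀ (κ : Type u) [Finite κ] (A : κ → X'.Opens), (∀ l, IsAffineOpen (A l)) → ⨆ l, A l = ⊤ →
        C (Limits.Sigma.desc fun l => (A l).ι ≫ f))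
    (J : GrothendieckTopology (Over S)) (hJ : ∀ (X : Over S) (R : Sieve X), R ∈ J X ↔ Cov C X R) :
    Presieve.IsSheaf J F ↔
      (Presieve.IsSheaf (Scheme.zariskiTopology.over S) F ∧
        ∀ (X X' : Over S) (f : X' ⟶ X), C f.left →
          Presieve.IsSheafFor F (Presieve.singleton f)) := by
  constructor
  · intro h
    refine ⟨Presieve.isSheaf_of_le F (fun X R hR => (hJ X R).2 (cov_of_zariski haff hR)) h, ?_⟩
    intro X X' f hf
    rw [Presieve.isSheafFor_iff_generate]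
    exact h _ ((hJ X _).2 (cov_generate_singleton hqc hres f hf))
  · rintro ⟨hzar, hsing⟩
    refine Presieve.isSheaf_of_le F (fun X R hR => mem_finest_of_cov F hzar hsing ((hJ X R).1 hR))
      (Sheaf.sheaf_for_finestTopology _ (Set.mem_singleton F))

end SheafCrit

end Groth.Agent.Lib.T2H1.BigSiteCls
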