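import Mathlib
import Groth.Agent.S1482

/-! # Affine étale localization at a quasi-finite point (helper1, team 2) -/

set_option autoImplicit false
universe u
open CategoryTheory CategoryTheory.Limits AlgebraicGeometry

namespace Groth.Agent.Lib.T2H1.LqfSepRep

set_option backward.isDefEq.respectTransparency.types false in
set_option backward.defeqAttrib.useBackward true in
/-- two field valued points hitting a point with purely inseparable residue field extension agree as
soon as they agree downstairs. -/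
lemma eq_of_purelyInseparable_point {V T' : Scheme.{u}} (π : V ⟶ T') (v : V)
    (hv : (π.residueFieldMap v).hom.IsPurelyInseparable) {K : Type u} [Field K]
    (a b : Spec (.of K) ⟶ V) (ha : a (IsLocalRing.closedPoint K) = v)
    (hb : b (IsLocalRing.closedPoint K) = v) (hab : a ≫ π = b ≫ π) : a = b := by
  subst ha
  obtain ⟨e, h⟩ := Scheme.SpecToEquivOfField_eq_iff.mp congr((T'.SpecToEquivOfField K) $(hab))
  apply (V.SpecToEquivOfField K).injective
  dsimp at e h
  simp only [Scheme.descResidueField_stalkClosedPointTo_comp] at e h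
  rw [← π.residueFieldMap_congr'_assoc hb.symm, CommRingCat.hom_ext_iff] at h
  rw [Scheme.SpecToEquivOfField_eq_iff]
  let x := a (IsLocalRing.closedPoint K)
  have hfx := hv
  algebraize [(π.residueFieldMap (a (IsLocalRing.closedPoint K))).hom]
  refine ⟨hb.symm, CommRingCat.hom_ext ?_⟩
  exact IsPurelyInseparable.injective_comp_algebraMap
    (T'.residueField (π x)) (V.residueField x) _ h

/-- **étale localization at a quasi-finite point, affine form**: after an étale base change with
affine source there is a scheme `V₂`, étale over the source and finite over the new base, with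
exactly one point over the chosen point of the new base, at which field valued points are
determined by their images downstairs. -/
theorem exists_affine_etale_localization {U₀ T : Scheme.{u}} (h : U₀ ⟶ T) [LocallyOfFiniteType h]
    (u₀ : U₀) (hq : h.QuasiFiniteAt u₀) :
    ∃ (T' : Scheme.{u}) (e : T' ⟶ T) (V₂ : Scheme.{u}) (vU : V₂ ⟶ U₀) (vT : V₂ ⟶ T') (v : V₂),
      IsAffine T' ∧ Etale e ∧ vU ≫ h = vT ≫ e ∧ Etale vU ∧ IsFinite vT ∧ vU v = u₀ ∧
      (∀ w, vT w = vT v → w = v) ∧
      (∀ (K : Type u) [Field K] (a b : Spec (.of K) ⟶ V₂),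
        a (IsLocalRing.closedPoint K) = v → b (IsLocalRing.closedPoint K) = v →
        a ≫ vT = b ≫ vT → a = b) := by
  obtain ⟨T₁, g, t₁, hg, hgt, J, hJ, V, v, hV, -, hcov⟩ :=
    Groth.Agent.S1482.result h (h u₀) (fun _ : Unit => u₀)
      (fun _ _ _ => Subsingleton.elim _ _) (fun _ => rfl) (fun _ => hq)
  haveI := hg
  obtain ⟨w₀, hw₀1, hw₀2⟩ := Scheme.Pullback.exists_preimage_pullback u₀ t₁ hgt.symm
  obtain ⟨j, hj⟩ := hcov w₀ () hw₀2 hw₀1
  obtain ⟨hvV, hVfin, hvt, hVuniq, ⟨-, hVpi⟩, hvu⟩ := hV () j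
  haveI := hVfin
  obtain ⟨T'o, hT'o, ht₁, -⟩ :=
    exists_isAffineOpen_mem_and_subset (X := T₁) (x := t₁) (U := ⊤) (by simp)
  let φ : (V () j).toScheme ⟶ T₁ := (V () j).ι ≫ pullback.snd h g
  let W : (V () j).toScheme.Opens := φ ⁻¹ᵁ T'o
  let vT : W.toScheme ⟶ T'o.toScheme := φ ∣_ T'o
  let vU : W.toScheme ⟶ U₀ := W.ι ≫ (V () j).ι ≫ pullback.fst h g
  let ι₂ : W.toScheme ⟶ pullback h g := W.ι ≫ (V () j).ι
  have hvT : vT ≫ T'o.ι = W.ι ≫ φ := morphismRestrict_ι φ T'o
  haveI : IsAffine T'o.toScheme := hT'o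
  haveI : IsFinite vT := AlgebraicGeometry.IsZariskiLocalAtTarget.restrict
    (P := @IsFinite) hVfin T'o
  let v' : (V () j).toScheme := ⟨v () j, hvV⟩
  have hφv' : φ v' = t₁ := by
    show (pullback.snd h g) ((V () j).ι v') = t₁
    exact hvt
  let v₂ : W.toScheme := ⟨v', by
    show φ v' ∈ T'o
    rw [hφv']; exact ht₁⟩
  have hι₂v₂ : ι₂ v₂ = v () j := rfl
  have hι₂inj : Function.Injective ι₂ := ι₂.isOpenEmbedding.injective
  refine ⟨T'o.toScheme, T'o.ι ≫ g, W.toScheme, vU, vT, v₂, inferInstance, inferInstance, ?_,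
    inferInstance, inferInstance, ?_, ?_, ?_⟩
  · show (W.ι ≫ (V () j).ι ≫ pullback.fst h g) ≫ h = vT ≫ T'o.ι ≫ g
    rw [← Category.assoc vT, hvT]
    simp only [φ, Category.assoc, pullback.condition]
  · show (pullback.fst h g) (ι₂ v₂) = u₀
    rw [hι₂v₂]; exact hvu
  · intro w hw
    apply hι₂inj
    rw [hι₂v₂]
    refine hVuniq (ι₂ w) ?_ ?_
    · show ((V () j).ι (W.ι w)) ∈ V () j
      exact (W.ι w).2
    · have h1 : T'o.ι (vT w) = T'o.ι (vT v₂) := by rw [hw]
      rw [← Scheme.Hom.comp_apply, ← Scheme.Hom.comp_apply, hvT] at h1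
      have h2 : (W.ι ≫ φ) v₂ = t₁ := hφv'
      rw [h2] at h1
      exact h1
  · intro K _ a b ha hb hab
    have key : a ≫ ι₂ = b ≫ ι₂ := by
      refine eq_of_purelyInseparable_point (pullback.snd h g) (v () j) hVpi (a ≫ ι₂) (b ≫ ι₂)
        ?_ ?_ ?_
      · rw [Scheme.Hom.comp_apply, ha]; rfl
      · rw [Scheme.Hom.comp_apply, hb]; rfl
      · have h1 : ι₂ ≫ pullback.snd h g = vT ≫ T'o.ι := by
          rw [hvT]; simp only [ι₂, φ, Category.assoc]
        calc (a ≫ ι₂) ≫ pullback.snd h g = a ≫ (ι₂ ≫ pullback.snd h g) := Category.assoc _ _ _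
          _ = (a ≫ vT) ≫ T'o.ι := by rw [h1, Category.assoc]
          _ = (b ≫ vT) ≫ T'o.ι := by rw [hab]
          _ = b ≫ (ι₂ ≫ pullback.snd h g) := by rw [h1, Category.assoc]
          _ = (b ≫ ι₂) ≫ pullback.snd h g := (Category.assoc _ _ _).symm
    exact (cancel_mono ι₂).1 key

end Groth.Agent.Lib.T2H1.LqfSepRep
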