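import Mathlib
import Groth.Prelude.Def_AlgSp
import Groth.Agent.S13210
import Groth.Agent.S9878
import Groth.Agent.S9900
import Groth.Agent.Lib.Helper1Sigma
import Groth.Agent.Lib.Helper12ZarGlue
import Groth.Agent.Lib.Helper12MonoFactor

/-!
# Coproducts of fppf sheaves and algebraic spaces
-/

set_option autoImplicit false
universe u
open CategoryTheory CategoryTheory.Limits AlgebraicGeometry Opposite
open AlgSp

namespace Groth.Agent.Lib.T2H1.Coprod

open Groth.Agent.S13210 Groth.Agent.S9878 Groth.Agent.S9900 Groth.Agent.Lib.Helper1.Sig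
  Groth.Agent.Lib.Helper12.ZarGlue Groth.Agent.Lib.Helper12.MonoFactor

variable {S : Scheme.{u}}

section Cofan

variable {ι : Type u} {F : ι → AlgSp.Sp S} (c : Cofan F) (hc : IsColimit c)

include hc in
/-- the coprojections of a coproduct of sheaves are representable open immersions. -/
theorem repWith_inj (i : ι) : AlgSp.RepWith @IsOpenImmersion (c.inj i) := by
  refine MorphismProperty.relative.of_exists (fun T x => ?_)
  obtain ⟨W, -, -, hW⟩ := exists_clopen_decomposition c hc x
  obtain ⟨a, sq⟩ := hW i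
  exact ⟨_, a, _, sq, (inferInstance : IsOpenImmersion (W i).ι)⟩

include hc in
/-- the coprojections are jointly surjective, on `T`-points. -/
theorem exists_mem_range_snd {T : Over S} (g : (AlgSp.yon S).obj T ⟶ c.pt) (t : T.left) :
    ∃ i, t ∈ Set.range ((repWith_inj c hc i).rep.snd g).left := by
  obtain ⟨W, -, hcov, hW⟩ := exists_clopen_decomposition c hc g
  have ht : t ∈ ⨆ j, W j := by rw [hcov]; trivial
  obtain ⟨i, hi⟩ := TopologicalSpace.Opens.mem_iSup.1 ht
  obtain ⟨a, sq⟩ := hW i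
  refine ⟨i, ?_⟩
  have h2 := (repWith_inj c hc i).rep.isPullback g
  obtain ⟨e, he⟩ := (AlgSp.yon S).map_surjective (h2.lift a ((AlgSp.yon S).map _) sq.w)
  have h3 : e ≫ (repWith_inj c hc i).rep.snd g = Over.homMk (W i).ι rfl := by
    apply (AlgSp.yon S).map_injective
    rw [Functor.map_comp, he, h2.lift_snd]
  refine ⟨e.left ⟨t, hi⟩, ?_⟩
  have := congrArg (fun m => m.left ⟨t, hi⟩) h3
  exact this

include hc in
/-- **extensivity**: a map of coproduct cofans induced by a family of maps restricts to cartesian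
squares on the summands. -/
theorem isPullback_inj {A : ι → AlgSp.Sp S} (c' : Cofan A) (hc' : IsColimit c')
    (f : ∀ i, A i ⟶ F i) (m : c'.pt ⟶ c.pt) (hm : ∀ i, c'.inj i ≫ m = f i ≫ c.inj i) (i : ι) :
    IsPullback (c'.inj i) (f i) m (c.inj i) := by
  haveI := mono_inj c hc i
  haveI := mono_inj c' hc' i
  refine isPullback_of_yon (hm i) (fun T u v huv => ?_)
  obtain ⟨W, -, hcov, hW⟩ := exists_clopen_decomposition c' hc' u
  choose b sq using hW
  have key : ∃ d : (AlgSp.yon S).obj T ⟶ A i, d ≫ c'.inj i = u := by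
    refine exists_factor_of_openCover (c'.inj i) u (fun t => ?_)
    have ht : t ∈ ⨆ j, W j := by rw [hcov]; trivial
    obtain ⟨j, hj⟩ := TopologicalSpace.Opens.mem_iSup.1 ht
    by_cases hji : j = i
    · subst hji
      exact ⟨W j, hj, b j, (sq j).w⟩
    · exfalso
      have h1 : IsEmpty (W j) := isEmpty_of_inj_eq c hc (i := i) (j := j) hji
        (P := Over.mk ((W j).ι ≫ T.hom))
        ((AlgSp.yon S).map (Over.homMk (W j).ι rfl : Over.mk ((W j).ι ≫ T.hom) ⟶ T) ≫ v)
        (b j ≫ f j) (by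
          rw [Category.assoc, ← huv, Category.assoc, ← hm j, ← Category.assoc, ← (sq j).w,
            Category.assoc])
      exact h1.false ⟨t, hj⟩
  obtain ⟨d, hd⟩ := key
  refine ⟨d, ⟨hd, ?_⟩, fun d' hd' => ?_⟩
  · rw [← cancel_mono (c.inj i), Category.assoc, ← hm i, ← Category.assoc, hd, huv]
  · rw [← cancel_mono (c'.inj i), hd, hd'.1]

end Cofan

section Sig

variable {K : Type u} (A : K → Over S)

/-- the cofan exhibiting `h_{∐ A_k}` as a coproduct of the `h_{A_k}`. -/
noncomputable def cofanSig : Cofan (fun k => (AlgSp.yon S).obj (A k)) :=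
  Cofan.mk ((AlgSp.yon S).obj (sig A)) (fun k => (AlgSp.yon S).map (inj A k))

/-- `h_{∐ A_k}` is the coproduct of the `h_{A_k}` in fppf sheaves. -/
noncomputable def isColimitCofanSig : IsColimit (cofanSig A) :=
  mkCofanColimit _ (fun s => (exists_desc_sheaf A s.inj).choose)
    (fun s k => (exists_desc_sheaf A s.inj).choose_spec k)
    (fun s m hm => sheaf_hom_ext A _ _ (fun k => by
      rw [(exists_desc_sheaf A s.inj).choose_spec k]
      exact hm k))

end Sig

section ZarCover

/-- variant of `repWith_of_zarCover` with joint surjectivity tested on `T`-points. -/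
theorem repWith_of_zarCover' (P : MorphismProperty Scheme.{u}) [IsZariskiLocalAtTarget P]
    {F G : AlgSp.Sp S} (f : F ⟶ G) {ι : Type u} (Gi : ι → AlgSp.Sp S) (j : ∀ i, Gi i ⟶ G)
    (hj1 : ∀ i, AlgSp.RepWith @IsOpenImmersion (j i))
    (hj2 : ∀ (T : Over S) (g : (AlgSp.yon S).obj T ⟶ G) (t : T.left),
      ∃ i, t ∈ Set.range ((hj1 i).rep.snd g).left)
    (Fi : ι → AlgSp.Sp S) (p : ∀ i, Fi i ⟶ F) (q : ∀ i, Fi i ⟶ Gi i)
    (sq : ∀ i, IsPullback (p i) (q i) f (j i)) (h : ∀ i, AlgSp.RepWith P (q i)) :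
    AlgSp.RepWith P f := by
  haveI : P.RespectsIso := inferInstance
  haveI : (P.inverseImage (Over.forget S)).RespectsIso :=
    MorphismProperty.RespectsIso.inverseImage P _
  refine MorphismProperty.relative.of_exists (fun T g => ?_)
  let Ti : ι → Over S := fun i => (hj1 i).rep.pullback g
  let ji : ∀ i, Ti i ⟶ T := fun i => (hj1 i).rep.snd g
  haveI : ∀ i, IsOpenImmersion (ji i).left := fun i => (hj1 i).property_snd g
  have hji : ∀ t : T.left, ∃ i, t ∈ Set.range (ji i).left := fun t => hj2 T g t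
  let W : ι → Over S := fun i => (h i).rep.pullback ((hj1 i).rep.fst g)
  let w : ∀ i, W i ⟶ Ti i := fun i => (h i).rep.snd ((hj1 i).rep.fst g)
  let a : ∀ i, (AlgSp.yon S).obj (W i) ⟶ F := fun i => (h i).rep.fst ((hj1 i).rep.fst g) ≫ p i
  have sqa : ∀ i, IsPullback (a i) ((AlgSp.yon S).map (w i)) f ((AlgSp.yon S).map (ji i) ≫ g) := by
    intro i
    have h1 := ((h i).rep.isPullback ((hj1 i).rep.fst g)).paste_horiz (sq i)
    rw [((hj1 i).rep.isPullback g).w] at h1
    exact h1
  obtain ⟨W₀, w₀, a₀, sq₀, hk⟩ := exists_rep_of_openCover f g Ti ji W w a sqa hji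
  choose k hk1 _ using hk
  exact ⟨W₀, a₀, w₀, sq₀, property_of_openCover P w₀ Ti ji hji W w k hk1
    (fun i => (h i).property_snd _)⟩

end ZarCover

section Diag

/-- maps out of `h_Z` for an empty scheme `Z` agree. -/
lemma hom_ext_of_isEmpty {Z : Over S} [IsEmpty Z.left] {G : AlgSp.Sp S}
    (x y : (AlgSp.yon S).obj Z ⟶ G) : x = y :=
  (yEquiv Z G).injective (eq_of_isEmpty _ _)

/-- the base change of the diagonal of `P` along a point of `P × P` both of whose components factor
through a subsheaf with representable diagonal is representable. -/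
lemma exists_pullback_diag_of_mono {A P : AlgSp.Sp S} (m : A ⟶ P) [Mono m]
    (hA : AlgSp.Representable (Limits.diag A)) {V : Over S}
    (h : (AlgSp.yon S).obj V ⟶ P ⨯ P) (α β : (AlgSp.yon S).obj V ⟶ A)
    (hα : α ≫ m = h ≫ prod.fst) (hβ : β ≫ m = h ≫ prod.snd) :
    ∃ (W : Over S) (w : W ⟶ V) (a' : (AlgSp.yon S).obj W ⟶ P),
      IsPullback a' ((AlgSp.yon S).map w) (Limits.diag P) h := by
  obtain ⟨W, w, fst, sq⟩ := hA (prod.lift α β)
  have h2 := (isPullback_diag_of_mono m).flip
  have h3 := (sq.flip.paste_vert h2).flip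
  have h4 : prod.lift α β ≫ prod.map m m = h := by
    apply Limits.prod.hom_ext
    · rw [Category.assoc, prod.map_fst, prod.lift_fst_assoc, hα]
    · rw [Category.assoc, prod.map_snd, prod.lift_snd_assoc, hβ]
  rw [h4] at h3
  exact ⟨W, w, _, h3⟩

variable {ι : Type u} {F : ι → AlgSp.Sp S} (c : Cofan F) (hc : IsColimit c)

include hc in
/-- the base change of the diagonal of a coproduct along a point whose components lie in distinct
summands is empty. -/
lemma exists_pullback_diag_of_ne {i j : ι} (hij : j ≠ i) {V : Over S}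
    (h : (AlgSp.yon S).obj V ⟶ c.pt ⨯ c.pt) (α : (AlgSp.yon S).obj V ⟶ F i)
    (β : (AlgSp.yon S).obj V ⟶ F j)
    (hα : α ≫ c.inj i = h ≫ prod.fst) (hβ : β ≫ c.inj j = h ≫ prod.snd) :
    ∃ (W : Over S) (w : W ⟶ V) (a' : (AlgSp.yon S).obj W ⟶ c.pt),
      IsPullback a' ((AlgSp.yon S).map w) (Limits.diag c.pt) h := by
  let W : Over S := Over.mk (initial.to S : ⊥_ Scheme.{u} ⟶ S)
  haveI hWe : IsEmpty W.left := (inferInstance : IsEmpty ↥(⊥_ Scheme.{u}))
  let w : W ⟶ V := Over.homMk (initial.to V.left) (initial.hom_ext _ _)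
  refine ⟨W, w, (AlgSp.yon S).map w ≫ h ≫ prod.fst, ?_⟩
  refine isPullback_of_yon (hom_ext_of_isEmpty _ _) (fun T' b c' hbc => ?_)
  obtain ⟨t, rfl⟩ := (AlgSp.yon S).map_surjective c'
  have hb1 : b = ((AlgSp.yon S).map t ≫ α) ≫ c.inj i := by
    have := congrArg (fun m => m ≫ prod.fst) hbc
    simp only [Category.assoc, Limits.diag, prod.lift_fst, Category.comp_id] at this
    rw [Category.assoc, hα]
    exact this
  have hb2 : b = ((AlgSp.yon S).map t ≫ β) ≫ c.inj j := by
    have := congrArg (fun m => m ≫ prod.snd) hbc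
    simp only [Category.assoc, Limits.diag, prod.lift_snd, Category.comp_id] at this
    rw [Category.assoc, hβ]
    exact this
  haveI hT' : IsEmpty T'.left := isEmpty_of_inj_eq c hc hij _ _ (hb1.symm.trans hb2)
  let e : T' ⟶ W := Over.homMk ((isInitialOfIsEmpty : IsInitial T'.left).to _)
    ((isInitialOfIsEmpty : IsInitial T'.left).hom_ext _ _)
  exact ⟨(AlgSp.yon S).map e, ⟨hom_ext_of_isEmpty _ _, hom_ext_of_isEmpty _ _⟩,
    fun _ _ => hom_ext_of_isEmpty _ _⟩

end Diag

section Main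

/-- **a coproduct of algebraic spaces is an algebraic space**. -/
theorem isAlgSpace_cofan_pt {ι : Type u} (F : ι → AlgSp.Sp S)
    (h : ∀ i, AlgSp.IsAlgSpace (F i)) (c : Cofan F) (hc : IsColimit c) :
    AlgSp.IsAlgSpace c.pt := by
  constructor
  · intro T g
    obtain ⟨Wa, -, hcova, hWa⟩ := exists_clopen_decomposition c hc (g ≫ prod.fst)
    obtain ⟨Wb, -, hcovb, hWb⟩ := exists_clopen_decomposition c hc (g ≫ prod.snd)
    choose α sqa using hWa
    choose β sqb using hWb
    let O : ι × ι → T.left.Opens := fun k => Wa k.1 ⊓ Wb k.2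
    let Ti : ι × ι → Over S := fun k => Over.mk ((O k).ι ≫ T.hom)
    let ji : ∀ k, Ti k ⟶ T := fun k => Over.homMk (O k).ι rfl
    haveI : ∀ k, IsOpenImmersion (ji k).left := fun k =>
      (inferInstance : IsOpenImmersion (O k).ι)
    have hji : ∀ t : T.left, ∃ k, t ∈ Set.range (ji k).left := by
      intro t
      have hta : t ∈ ⨆ j, Wa j := by rw [hcova]; trivial
      have htb : t ∈ ⨆ j, Wb j := by rw [hcovb]; trivial
      obtain ⟨i, hi⟩ := TopologicalSpace.Opens.mem_iSup.1 hta
      obtain ⟨j, hj⟩ := TopologicalSpace.Opens.mem_iSup.1 htb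
      exact ⟨(i, j), ⟨t, hi, hj⟩, rfl⟩
    have key : ∀ k, ∃ (W : Over S) (w : W ⟶ Ti k) (a' : (AlgSp.yon S).obj W ⟶ c.pt),
        IsPullback a' ((AlgSp.yon S).map w) (Limits.diag c.pt)
          ((AlgSp.yon S).map (ji k) ≫ g) := by
      rintro ⟨i, j⟩
      let ra : Ti (i, j) ⟶ Over.mk ((Wa i).ι ≫ T.hom) :=
        Over.homMk (T.left.homOfLE (inf_le_left : O (i, j) ≤ Wa i)) (by simp [Ti])
      let rb : Ti (i, j) ⟶ Over.mk ((Wb j).ι ≫ T.hom) :=
        Over.homMk (T.left.homOfLE (inf_le_right : O (i, j) ≤ Wb j)) (by simp [Ti])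
      have hra : ra ≫ (Over.homMk (Wa i).ι rfl : Over.mk ((Wa i).ι ≫ T.hom) ⟶ T) = ji (i, j) := by
        ext1
        simp [ra, ji]
      have hrb : rb ≫ (Over.homMk (Wb j).ι rfl : Over.mk ((Wb j).ι ≫ T.hom) ⟶ T) = ji (i, j) := by
        ext1
        simp [rb, ji]
      have hα : ((AlgSp.yon S).map ra ≫ α i) ≫ c.inj i =
          ((AlgSp.yon S).map (ji (i, j)) ≫ g) ≫ prod.fst := by
        rw [Category.assoc, (sqa i).w, ← Category.assoc, ← Functor.map_comp, hra, Category.assoc]
      have hβ : ((AlgSp.yon S).map rb ≫ β j) ≫ c.inj j =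
          ((AlgSp.yon S).map (ji (i, j)) ≫ g) ≫ prod.snd := by
        rw [Category.assoc, (sqb j).w, ← Category.assoc, ← Functor.map_comp, hrb, Category.assoc]
      by_cases hij : j = i
      · subst hij
        haveI := mono_inj c hc j
        exact exists_pullback_diag_of_mono (c.inj j) (h j).diag _ _ _ hα hβ
      · exact exists_pullback_diag_of_ne c hc hij _ _ _ hα hβ
    choose W w a' sq using key
    obtain ⟨W₀, w₀, a₀, sq₀, -⟩ := exists_rep_of_openCover (Limits.diag c.pt) g Ti ji W w a' sq hji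
    exact ⟨W₀, w₀, a₀, sq₀⟩
  · choose U p hp hps using fun i => (h i).atlas
    obtain ⟨P, hP⟩ := exists_desc_sheaf U (fun i => p i ≫ c.inj i)
    have sq : ∀ i, IsPullback ((AlgSp.yon S).map (inj U i)) (p i) P (c.inj i) :=
      isPullback_inj c hc (cofanSig U) (isColimitCofanSig U) p P hP
    exact ⟨sig U, P,
      repWith_of_zarCover' @Etale P F c.inj (repWith_inj c hc) (fun _ => exists_mem_range_snd c hc) _ _ p
        sq hp,
      repWith_of_zarCover' @Surjective P F c.inj (repWith_inj c hc)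
        (fun _ => exists_mem_range_snd c hc) _ _ p sq hps⟩

end Main

end Groth.Agent.Lib.T2H1.Coprod
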