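import Mathlib

/-! # Universally bounded fibres of quasi-finite algebras of finite type (helper1, team 2) -/

set_option autoImplicit false
universe u
open TensorProduct

namespace Groth.Agent.Lib.T2H1.UnivBddAlg

section E1a

variable {L B : Type*} [Field L] [CommRing B] [Algebra L B]

/-- elements killed by a power of `r`. -/
def powTorsion (r : B) : Submodule L B where
  carrier := {b | ∃ k : ℕ, r ^ k * b = 0}
  add_mem' := by
    rintro a b ⟨k, hk⟩ ⟨m, hm⟩
    refine ⟨k + m, ?_⟩
    have h1 : r ^ (k + m) * a = r ^ m * (r ^ k * a) := by rw [pow_add]; ring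
    have h2 : r ^ (k + m) * b = r ^ k * (r ^ m * b) := by rw [pow_add]; ring
    rw [mul_add, h1, h2, hk, hm, mul_zero, mul_zero, add_zero]
  zero_mem' := ⟨0, by simp⟩
  smul_mem' := by
    rintro c b ⟨k, hk⟩
    exact ⟨k, by rw [mul_smul_comm, hk, smul_zero]⟩

lemma mem_powTorsion {r b : B} : b ∈ powTorsion (L := L) r ↔ ∃ k : ℕ, r ^ k * b = 0 := Iff.rfl

/-- key linear algebra lemma: the quotient by the `r`-power torsion is spanned by `N`. -/
theorem finrank_quot_powTorsion_le (r : B) (N : Submodule L B) [Module.Finite L N]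
    (hrN : ∀ x ∈ N, r * x ∈ N) (hB : ∀ b : B, ∃ k : ℕ, r ^ k * b ∈ N) :
    Module.Finite L (B ⧸ powTorsion (L := L) r) ∧
      Module.finrank L (B ⧸ powTorsion (L := L) r) ≤ Module.finrank L N := by
  set Z := powTorsion (L := L) r with hZ
  -- multiplication by `r` on the quotient
  have hZr : Z ≤ Z.comap (LinearMap.mulLeft L r) := by
    rintro b ⟨k, hk⟩
    refine ⟨k, ?_⟩
    show r ^ k * (r * b) = 0
    rw [mul_left_comm, hk, mul_zero]
  let μ : (B ⧸ Z) →ₗ[L] (B ⧸ Z) := Z.mapQ Z (LinearMap.mulLeft L r) hZr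
  have hμ : ∀ b : B, μ (Z.mkQ b) = Z.mkQ (r * b) := fun b => rfl
  have hμinj : Function.Injective μ := by
    rw [← LinearMap.ker_eq_bot, Submodule.eq_bot_iff]
    intro x hx
    obtain ⟨b, rfl⟩ := Z.mkQ_surjective x
    rw [LinearMap.mem_ker, hμ, Submodule.mkQ_apply, Submodule.Quotient.mk_eq_zero] at hx
    obtain ⟨k, hk⟩ := hx
    rw [Submodule.mkQ_apply, Submodule.Quotient.mk_eq_zero]
    exact ⟨k + 1, by rw [pow_succ, mul_assoc]; exact hk⟩
  have hμpow : ∀ (k : ℕ) (b : B), (μ ^ k) (Z.mkQ b) = Z.mkQ (r ^ k * b) := by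
    intro k
    induction k with
    | zero => intro b; simp
    | succ k ih =>
      intro b
      rw [pow_succ', Module.End.mul_apply, ih, hμ, pow_succ', mul_assoc]
  let Nb : Submodule L (B ⧸ Z) := N.map Z.mkQ
  haveI : Module.Finite L Nb := Module.Finite.map N Z.mkQ
  have hNb : ∀ x ∈ Nb, μ x ∈ Nb := by
    rintro x ⟨n, hn, rfl⟩
    exact ⟨r * n, hrN n hn, rfl⟩
  let μN : Nb →ₗ[L] Nb := μ.restrict hNb
  have hμNinj : Function.Injective μN := by
    intro x y hxy
    apply Subtype.ext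
    apply hμinj
    exact congrArg Subtype.val hxy
  have hμNsurj : Function.Surjective μN := LinearMap.injective_iff_surjective.1 hμNinj
  have hμNpow_surj : ∀ k : ℕ, Function.Surjective (μN ^ k) := by
    intro k
    induction k with
    | zero => exact Function.surjective_id
    | succ k ih =>
      rw [pow_succ]
      exact ih.comp hμNsurj
  have hμNpow : ∀ (k : ℕ) (x : Nb), ((μN ^ k) x : B ⧸ Z) = (μ ^ k) x := by
    intro k
    induction k with
    | zero => intro x; simp
    | succ k ih =>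
      intro x
      rw [pow_succ', Module.End.mul_apply, pow_succ', Module.End.mul_apply, ← ih]
      rfl
  have hμpow_inj : ∀ k : ℕ, Function.Injective (μ ^ k) := by
    intro k
    induction k with
    | zero => exact Function.injective_id
    | succ k ih =>
      rw [pow_succ]
      exact ih.comp hμinj
  have htop : Nb = ⊤ := by
    rw [eq_top_iff]
    intro x _
    obtain ⟨b, rfl⟩ := Z.mkQ_surjective x
    obtain ⟨k, hk⟩ := hB b
    have h1 : (μ ^ k) (Z.mkQ b) ∈ Nb := by
      rw [hμpow]; exact ⟨_, hk, rfl⟩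
    obtain ⟨y, hy⟩ := hμNpow_surj k ⟨_, h1⟩
    have h2 : (μ ^ k) (y : B ⧸ Z) = (μ ^ k) (Z.mkQ b) := by
      rw [← hμNpow, hy]
    rw [← hμpow_inj k h2]
    exact y.2
  have hfin : Module.Finite L (B ⧸ Z) := by
    have : Module.Finite L (⊤ : Submodule L (B ⧸ Z)) := htop ▸ (inferInstance : Module.Finite L Nb)
    exact Module.Finite.of_surjective (⊤ : Submodule L (B ⧸ Z)).subtype
      (fun x => ⟨⟨x, trivial⟩, rfl⟩)
  refine ⟨hfin, ?_⟩
  have h3 : Module.finrank L (B ⧸ Z) = Module.finrank L Nb := by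
    rw [htop, finrank_top]
  rw [h3]
  exact LinearMap.finrank_le_finrank_of_surjective (f := (Z.mkQ.restrict (q := Nb)
    (fun x hx => Submodule.mem_map_of_mem hx) : N →ₗ[L] Nb))
    (by
      rintro ⟨_, n, hn, rfl⟩
      exact ⟨⟨n, hn⟩, rfl⟩)

/-- the dimension of `B` is bounded by the sum of the dimensions of the `N i`. -/
theorem finrank_le_sum_of_cover {ι : Type*} [Fintype ι] (r : ι → B) (c : ι → B)
    (hc : ∑ i, c i * r i = 1) (N : ι → Submodule L B) [∀ i, Module.Finite L (N i)]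
    (hrN : ∀ i, ∀ x ∈ N i, r i * x ∈ N i) (hB : ∀ i, ∀ b : B, ∃ k : ℕ, r i ^ k * b ∈ N i) :
    Module.Finite L B ∧ Module.finrank L B ≤ ∑ i, Module.finrank L (N i) := by
  have hq := fun i => finrank_quot_powTorsion_le (L := L) (r i) (N i) (hrN i) (hB i)
  haveI : ∀ i, Module.Finite L (B ⧸ powTorsion (L := L) (r i)) := fun i => (hq i).1
  let Φ : B →ₗ[L] (∀ i, B ⧸ powTorsion (L := L) (r i)) :=
    LinearMap.pi (fun i => (powTorsion (L := L) (r i)).mkQ)
  have hΦ : Function.Injective Φ := by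
    rw [← LinearMap.ker_eq_bot, Submodule.eq_bot_iff]
    intro b hb
    have hb' : ∀ i, b ∈ powTorsion (L := L) (r i) := by
      intro i
      have := congrFun (LinearMap.mem_ker.1 hb) i
      exact (Submodule.Quotient.mk_eq_zero _).1 this
    choose k hk using hb'
    let K : ℕ := ∑ i, k i
    have hK : ∀ i, r i ^ K * b = 0 := by
      intro i
      have hle : k i ≤ K := Finset.single_le_sum (f := k) (fun _ _ => Nat.zero_le _) (Finset.mem_univ i)
      obtain ⟨d, hd⟩ := Nat.exists_eq_add_of_le hle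
      rw [hd, pow_add, mul_comm (r i ^ k i), mul_assoc, hk i, mul_zero]
    have hspan : Ideal.span (Set.range r) = ⊤ := by
      rw [Ideal.eq_top_iff_one, Ideal.mem_span_range_iff_exists_fun]
      exact ⟨c, hc⟩
    have hspanK := Ideal.span_pow_eq_top (Set.range r) hspan K
    have h1 : (1 : B) ∈ Ideal.span (Set.range fun i => r i ^ K) := by
      have : (fun x : B => x ^ K) '' Set.range r = Set.range fun i => r i ^ K := by
        ext x; simp
      rw [← this, hspanK]; trivial
    obtain ⟨d, hd⟩ := Ideal.mem_span_range_iff_exists_fun.1 h1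
    calc b = (∑ i, d i * r i ^ K) * b := by rw [hd, one_mul]
      _ = ∑ i, d i * (r i ^ K * b) := by rw [Finset.sum_mul]; simp only [mul_assoc]
      _ = 0 := by simp only [hK, mul_zero, Finset.sum_const_zero]
  refine ⟨Module.Finite.of_injective Φ hΦ, ?_⟩
  calc Module.finrank L B ≤ Module.finrank L (∀ i, B ⧸ powTorsion (L := L) (r i)) :=
        LinearMap.finrank_le_finrank_of_injective hΦ
    _ = ∑ i, Module.finrank L (B ⧸ powTorsion (L := L) (r i)) := Module.finrank_pi_fintype L
    _ ≤ ∑ i, Module.finrank L (N i) := Finset.sum_le_sum fun i _ => (hq i).2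

end E1a


/-- local datum of Zariski's main theorem. -/
lemma exists_local_datum (R A : Type u) [CommRing R] [CommRing A] [Algebra R A]
    [Algebra.FiniteType R A] [Algebra.QuasiFinite R A] (𝔭 : PrimeSpectrum A) :
    ∃ (N : Submodule R A) (r : A), N.FG ∧ r ∉ 𝔭.asIdeal ∧ r ∈ N ∧ (∀ x ∈ N, r * x ∈ N) ∧
      ∀ a : A, ∃ k : ℕ, r ^ k * a ∈ N := by
  obtain ⟨S', hfg, r, hr, hbij⟩ :=
    Algebra.QuasiFiniteAt.exists_fg_and_exists_notMem_and_awayMap_bijective (R := R) 𝔭.asIdeal
  refine ⟨Subalgebra.toSubmodule S', r.1, hfg, hr, r.2, fun x hx => S'.mul_mem r.2 hx, ?_⟩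
  intro a
  obtain ⟨b, m, hbm⟩ := Localization.awayMap_surjective_iff.1 hbij.2 a
  refine ⟨m, ?_⟩
  have : r.1 ^ m * a = (b : A) := hbm.symm
  rw [this]
  exact b.2

/-- a quasi-finite algebra of finite type has universally bounded fibres. -/
theorem exists_bound_of_quasiFinite (R A : Type u) [CommRing R] [CommRing A] [Algebra R A]
    [Algebra.FiniteType R A] [Algebra.QuasiFinite R A] :
    ∃ m : ℕ, ∀ (L : Type u) [Field L] [Algebra R L],
      Module.Finite L (L ⊗[R] A) ∧ Module.finrank L (L ⊗[R] A) ≤ m := by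
  classical
  choose N r hfg hr hrmem hrN hpow using exists_local_datum R A
  -- the `r 𝔭` generate the unit ideal
  have hspan : Ideal.span (Set.range r) = ⊤ := by
    by_contra hne
    obtain ⟨M, hM, hle⟩ := Ideal.exists_le_maximal _ hne
    exact hr ⟨M, hM.isPrime⟩ (hle (Ideal.subset_span ⟨_, rfl⟩))
  have h1 : (1 : A) ∈ Ideal.span (Set.range r) := by rw [hspan]; trivial
  obtain ⟨c, hc⟩ := Finsupp.mem_span_range_iff_exists_finsupp.1 h1
  let ι := ↥c.support
  have hc' : ∑ i : ι, c i.1 * r i.1 = 1 := by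
    rw [← hc, Finsupp.sum]
    exact Finset.sum_coe_sort c.support (fun x => c x * r x)
  refine ⟨∑ i : ι, (N i.1).spanFinrank, ?_⟩
  intro L _ _
  let rb : ι → L ⊗[R] A := fun i => (1 : L) ⊗ₜ[R] r i.1
  let cb : ι → L ⊗[R] A := fun i => (1 : L) ⊗ₜ[R] c i.1
  have hcb : ∑ i, cb i * rb i = 1 := by
    have h2 : ∀ i : ι, cb i * rb i = (1 : L) ⊗ₜ[R] (c i.1 * r i.1) := by
      intro i
      simp only [cb, rb, Algebra.TensorProduct.tmul_mul_tmul, mul_one]
    simp only [h2]
    rw [← TensorProduct.tmul_sum, hc']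
    rfl
  let Nb : ι → Submodule L (L ⊗[R] A) :=
    fun i => LinearMap.range (LinearMap.baseChange L (N i.1).subtype)
  haveI : ∀ i : ι, Module.Finite R (N i.1) := fun i => Module.Finite.iff_fg.2 (hfg i.1)
  haveI : ∀ i : ι, Module.Finite L (Nb i) := fun i => Module.Finite.range _
  have hNbdim : ∀ i : ι, Module.finrank L (Nb i) ≤ (N i.1).spanFinrank := by
    intro i
    calc Module.finrank L (Nb i) ≤ Module.finrank L (L ⊗[R] (N i.1)) :=
          LinearMap.finrank_range_le _
      _ = (⊤ : Submodule L (L ⊗[R] (N i.1))).spanFinrank := Module.finrank_eq_spanFinrank_of_free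
      _ ≤ (N i.1).spanFinrank := TensorProduct.spanFinrank_top_le_of_fg (N i.1) (hfg i.1)
  have hrNb : ∀ i : ι, ∀ x ∈ Nb i, rb i * x ∈ Nb i := by
    rintro i _ ⟨y, rfl⟩
    induction y using TensorProduct.induction_on with
    | zero => simp
    | tmul l n =>
      refine ⟨l ⊗ₜ[R] ⟨r i.1 * n.1, hrN i.1 n.1 n.2⟩, ?_⟩
      simp only [rb, LinearMap.baseChange_tmul, Submodule.subtype_apply,
        Algebra.TensorProduct.tmul_mul_tmul, one_mul]
    | add y z hy hz =>
      rw [map_add, mul_add]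
      exact Submodule.add_mem _ hy hz
  have hpowNb : ∀ i : ι, ∀ b : L ⊗[R] A, ∃ k : ℕ, rb i ^ k * b ∈ Nb i := by
    intro i b
    have hmono : ∀ (k k' : ℕ) (x : L ⊗[R] A), k ≤ k' → rb i ^ k * x ∈ Nb i → rb i ^ k' * x ∈ Nb i := by
      intro k k' x hkk' hx
      obtain ⟨d, rfl⟩ := Nat.exists_eq_add_of_le hkk'
      induction d with
      | zero => simpa using hx
      | succ d ih =>
        have := hrNb i _ (ih (Nat.le_add_right _ _))
        rwa [← mul_assoc, ← pow_succ'] at this
    induction b using TensorProduct.induction_on with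
    | zero => exact ⟨0, by simp⟩
    | tmul l a =>
      obtain ⟨k, hk⟩ := hpow i.1 a
      refine ⟨k, l ⊗ₜ[R] ⟨r i.1 ^ k * a, hk⟩, ?_⟩
      simp only [rb, LinearMap.baseChange_tmul, Submodule.subtype_apply,
        Algebra.TensorProduct.tmul_pow, one_pow, Algebra.TensorProduct.tmul_mul_tmul, one_mul]
    | add y z hy hz =>
      obtain ⟨k1, h1⟩ := hy
      obtain ⟨k2, h2⟩ := hz
      refine ⟨max k1 k2, ?_⟩
      rw [mul_add]
      exact Submodule.add_mem _ (hmono k1 _ y (le_max_left _ _) h1)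
        (hmono k2 _ z (le_max_right _ _) h2)
  obtain ⟨hfin, hle⟩ := finrank_le_sum_of_cover (L := L) rb cb hcb Nb hrNb hpowNb
  exact ⟨hfin, hle.trans (Finset.sum_le_sum fun i _ => hNbdim i)⟩


end Groth.Agent.Lib.T2H1.UnivBddAlg
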