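import Mathlib

open TensorProduct

namespace Groth.Agent.Lib.T2H1.UnivBddAlg

universe u v w

section
variable (K : Type u) (B : Type v) [Field K] [CommRing B] [Algebra K B] [Module.Finite K B]
  (M : Type w) [AddCommGroup M] [Module B M] [Module.Finite B M]

/-- the `K`-dimensions of the fibres of `M` are bounded by `n`. -/
def FibreBound (n : ℕ) : Prop :=
  ∀ 𝔪 : Ideal B, 𝔪.IsMaximal →
    Module.finrank K ((B ⧸ 𝔪) ⊗[B] M) ≤ n * Module.finrank K (B ⧸ 𝔪)

variable {K B M}

lemma finite_tensor (N : Type v) [AddCommGroup N] [Module B N] [Module K N] [IsScalarTower K B N]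
    [Module.Finite K N] : Module.Finite K (N ⊗[B] M) := by
  haveI : Module.Finite B N := Module.Finite.of_restrictScalars_finite K B N
  haveI : Module.Finite B (N ⊗[B] M) := inferInstance
  exact Module.Finite.trans B _

theorem finrank_tensor_le (n : ℕ) (h : FibreBound K B M n) :
    ∀ (d : ℕ) (N : Type v) [AddCommGroup N] [Module B N] [Module K N] [IsScalarTower K B N]
      [Module.Finite K N], Module.finrank K N = d → Module.finrank K (N ⊗[B] M) ≤ n * d := by
  intro d
  induction d using Nat.strong_induction_on with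
  | _ d ih =>
    intro N _ _ _ _ _ hd
    by_cases hN : Subsingleton N
    · haveI := hN
      haveI : Subsingleton (N ⊗[B] M) := inferInstance
      rw [Module.finrank_zero_of_subsingleton]
      exact Nat.zero_le _
    · rw [not_subsingleton_iff_nontrivial] at hN
      haveI := hN
      haveI : Module.Finite B N := Module.Finite.of_restrictScalars_finite K B N
      haveI : Nontrivial (Submodule B N) := inferInstance
      obtain ⟨N', hN'⟩ : ∃ N' : Submodule B N, IsCoatom N' := by
        obtain h1 | ⟨a, ha, -⟩ := eq_top_or_exists_le_coatom (⊥ : Submodule B N)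
        · exact absurd h1 bot_ne_top
        · exact ⟨a, ha⟩
      have hsimple : IsSimpleModule B (N ⧸ N') := isSimpleModule_iff_isCoatom.2 hN'
      obtain ⟨𝔪, h𝔪, ⟨e⟩⟩ := isSimpleModule_iff_quot_maximal.1 hsimple
      -- the K-linear maps
      let f : (N' ⊗[B] M) →ₗ[K] (N ⊗[B] M) := (LinearMap.rTensor M N'.subtype).restrictScalars K
      let g : (N ⊗[B] M) →ₗ[K] ((N ⧸ N') ⊗[B] M) := (LinearMap.rTensor M N'.mkQ).restrictScalars K
      have hex : Function.Exact f g :=
        rTensor_exact M (LinearMap.exact_subtype_mkQ N') (Submodule.mkQ_surjective N')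
      have hg : Function.Surjective g :=
        LinearMap.rTensor_surjective M (Submodule.mkQ_surjective N')
      haveI : Module.Finite K N' :=
        Module.Finite.of_injective (N'.subtype.restrictScalars K) Subtype.val_injective
      haveI := finite_tensor (K := K) (B := B) (M := M) N
      haveI := finite_tensor (K := K) (B := B) (M := M) N'
      haveI := finite_tensor (K := K) (B := B) (M := M) (N ⧸ N')
      have h1 := LinearMap.finrank_range_add_finrank_ker g
      have h2 : Module.finrank K (LinearMap.range g) = Module.finrank K ((N ⧸ N') ⊗[B] M) := by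
        rw [LinearMap.range_eq_top.2 hg, finrank_top]
      have h3 : Module.finrank K (LinearMap.ker g) ≤ Module.finrank K (N' ⊗[B] M) := by
        rw [(LinearMap.exact_iff.1 hex)]
        exact LinearMap.finrank_range_le f
      -- dimensions of N
      let p : N →ₗ[K] (N ⧸ N') := N'.mkQ.restrictScalars K
      let i : N' →ₗ[K] N := N'.subtype.restrictScalars K
      have hp : Function.Surjective p := Submodule.mkQ_surjective N'
      have hi : Function.Injective i := Subtype.val_injective
      have hexN : Function.Exact i p := LinearMap.exact_subtype_mkQ N'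
      have h4 := LinearMap.finrank_range_add_finrank_ker p
      have h5 : Module.finrank K (LinearMap.range p) = Module.finrank K (N ⧸ N') := by
        rw [LinearMap.range_eq_top.2 hp, finrank_top]
      have h6 : Module.finrank K (LinearMap.ker p) = Module.finrank K N' := by
        rw [(LinearMap.exact_iff.1 hexN)]
        exact LinearMap.finrank_range_of_inj hi
      -- the simple quotient
      let eK : (N ⧸ N') ≃ₗ[K] (B ⧸ 𝔪) := e.restrictScalars K
      have h7 : Module.finrank K (N ⧸ N') = Module.finrank K (B ⧸ 𝔪) := eK.finrank_eq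
      let eT : ((N ⧸ N') ⊗[B] M) ≃ₗ[K] ((B ⧸ 𝔪) ⊗[B] M) :=
        (LinearEquiv.rTensor M e).restrictScalars K
      have h8 : Module.finrank K ((N ⧸ N') ⊗[B] M) = Module.finrank K ((B ⧸ 𝔪) ⊗[B] M) :=
        eT.finrank_eq
      have h9 := h 𝔪 h𝔪
      -- positivity
      haveI : Nontrivial (N ⧸ N') := IsSimpleModule.nontrivial B _
      have h10 : 0 < Module.finrank K (N ⧸ N') := Module.finrank_pos
      have hlt : Module.finrank K N' < d := by omega
      have h11 := ih _ hlt N' rfl
      calc Module.finrank K (N ⊗[B] M)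
          = Module.finrank K ((N ⧸ N') ⊗[B] M) + Module.finrank K (LinearMap.ker g) := by omega
        _ ≤ n * Module.finrank K (B ⧸ 𝔪) + n * Module.finrank K N' := by
            rw [h8]; exact Nat.add_le_add h9 (h3.trans h11)
        _ = n * d := by rw [← h7, ← Nat.mul_add]; congr 1; omega


/-- the main inequality: `dim_K M ≤ n * dim_K B`. -/
theorem finrank_le_mul (n : ℕ) [Module K M] [IsScalarTower K B M] (h : FibreBound K B M n) :
    Module.finrank K M ≤ n * Module.finrank K B := by
  have h1 := finrank_tensor_le (K := K) (B := B) (M := M) n h (Module.finrank K B) B rfl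
  let e : (B ⊗[B] M) ≃ₗ[K] M := (TensorProduct.lid B M).restrictScalars K
  rw [← e.finrank_eq]
  exact h1

/-- the fibre hypothesis from the residue fields. -/
theorem fibreBound_of_forall (n : ℕ)
    (h : ∀ (𝔪 : Ideal B) (h𝔪 : 𝔪.IsMaximal),
      letI : Field (B ⧸ 𝔪) := Ideal.Quotient.field 𝔪
      Module.finrank (B ⧸ 𝔪) ((B ⧸ 𝔪) ⊗[B] M) ≤ n) :
    FibreBound K B M n := by
  intro 𝔪 h𝔪
  letI : Field (B ⧸ 𝔪) := Ideal.Quotient.field 𝔪
  have h1 := h 𝔪 h𝔪
  have h2 := Module.finrank_mul_finrank K (B ⧸ 𝔪) ((B ⧸ 𝔪) ⊗[B] M)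
  rw [← h2, mul_comm]
  exact Nat.mul_le_mul_right _ h1

end



theorem card_primeSpectrum_le (K A : Type*) [Field K] [CommRing A] [Algebra K A] [Module.Finite K A] :
    Finite (PrimeSpectrum A) ∧ Nat.card (PrimeSpectrum A) ≤ Module.finrank K A := by
  haveI : IsArtinianRing A := IsArtinianRing.of_finite K A
  haveI : Finite (PrimeSpectrum A) := inferInstance
  refine ⟨inferInstance, ?_⟩
  letI : Fintype (PrimeSpectrum A) := Fintype.ofFinite _
  let φ : A →ₗ[K] (∀ p : PrimeSpectrum A, A ⧸ p.asIdeal) :=
    LinearMap.pi (fun p => (Ideal.Quotient.mkₐ K p.asIdeal).toLinearMap)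
  have hφ : Function.Surjective φ := by
    intro x
    choose y hy using fun p => Ideal.Quotient.mk_surjective (x p)
    have hcop : Pairwise (Function.onFun IsCoprime fun p : PrimeSpectrum A => p.asIdeal) := by
      intro p q hpq
      have hp : p.asIdeal.IsMaximal := IsArtinianRing.isMaximal_of_isPrime _
      have hq : q.asIdeal.IsMaximal := IsArtinianRing.isMaximal_of_isPrime _
      exact Ideal.isCoprime_iff_sup_eq.2
        (Ideal.IsMaximal.coprime_of_ne hp hq (fun h => hpq (PrimeSpectrum.ext h)))
    obtain ⟨r, hr⟩ := Ideal.exists_forall_sub_mem_ideal hcop y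
    refine ⟨r, ?_⟩
    funext p
    show Ideal.Quotient.mk p.asIdeal r = x p
    rw [← hy p]
    exact Ideal.Quotient.eq.2 (hr p)
  have h1 : Module.finrank K (∀ p : PrimeSpectrum A, A ⧸ p.asIdeal) ≤ Module.finrank K A :=
    LinearMap.finrank_le_finrank_of_surjective hφ
  have h2 : Module.finrank K (∀ p : PrimeSpectrum A, A ⧸ p.asIdeal) =
      ∑ p : PrimeSpectrum A, Module.finrank K (A ⧸ p.asIdeal) := Module.finrank_pi_fintype K
  have h3 : ∀ p : PrimeSpectrum A, 1 ≤ Module.finrank K (A ⧸ p.asIdeal) := by
    intro p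
    haveI : Nontrivial (A ⧸ p.asIdeal) := Ideal.Quotient.nontrivial_iff.2 p.2.ne_top
    exact Module.finrank_pos
  calc Nat.card (PrimeSpectrum A) = ∑ _p : PrimeSpectrum A, 1 := by
        rw [Nat.card_eq_fintype_card]; simp
    _ ≤ ∑ p : PrimeSpectrum A, Module.finrank K (A ⧸ p.asIdeal) := Finset.sum_le_sum fun p _ => h3 p
    _ ≤ Module.finrank K A := by rw [← h2]; exact h1


end Groth.Agent.Lib.T2H1.UnivBddAlg
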