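import Mathlib
import Groth.Prelude.Def_W4decUnivBdd
import Groth.Agent.Lib.T2H1UnivBddAlg
import Groth.Agent.S10175

/-!
# Universally bounded fibres (helper1, team 2)

Scheme level theory of "finite of degree `≤ n` over a field" (`FinDeg`), fibrewise bounds
(`FibDegLE`), composition (`finDeg_comp`) and flat descent (`finDeg_of_flat_surjective`).
-/

set_option autoImplicit false
universe u
open CategoryTheory CategoryTheory.Limits AlgebraicGeometry TopologicalSpace TensorProduct

namespace Groth.Agent.Lib.T2H1.UnivBdd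

/-- finite of degree at most `n` over a field. -/
def FinDeg {T : Scheme.{u}} {K : Type u} [Field K] (c : T ⟶ Spec (CommRingCat.of K)) (n : ℕ) : Prop :=
  IsFinite c ∧ ∀ s, c.finrank s ≤ n

section model

variable {T : Scheme.{u}} {K : Type u} [Field K] (c : T ⟶ Spec (CommRingCat.of K))
  {A : Type u} [CommRing A] [Algebra K A] (e : T ≅ Spec (CommRingCat.of A))
  (he : e.hom ≫ Spec.map (CommRingCat.ofHom (algebraMap K A)) = c)

include he

lemma isFinite_model [Module.Finite K A] : IsFinite c := by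
  subst he
  haveI : IsFinite (Spec.map (CommRingCat.ofHom (algebraMap K A))) := by
    rw [IsFinite.SpecMap_iff]
    exact RingHom.finite_algebraMap.2 inferInstance
  infer_instance

lemma finrank_model [Module.Finite K A] (s : ↥(Spec (CommRingCat.of K))) :
    c.finrank s = Module.finrank K A := by
  subst he
  haveI : IsFinite (Spec.map (CommRingCat.ofHom (algebraMap K A))) := by
    rw [IsFinite.SpecMap_iff]
    exact RingHom.finite_algebraMap.2 inferInstance
  haveI : Flat (Spec.map (CommRingCat.ofHom (algebraMap K A))) := by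
    rw [Flat.SpecMap_iff]
    exact RingHom.flat_algebraMap_iff.2 inferInstance
  rw [Scheme.Hom.finrank_comp_left_of_isIso, Scheme.Hom.finrank_SpecMap_algebraMap,
    Module.rankAtStalk_eq_finrank_of_free]
  rfl

lemma finDeg_model_iff (n : ℕ) [Module.Finite K A] : FinDeg c n ↔ Module.finrank K A ≤ n := by
  constructor
  · intro h
    have := h.2 (⊥ : PrimeSpectrum K)
    rwa [finrank_model c e he] at this
  · intro h
    exact ⟨isFinite_model c e he, fun s => by rw [finrank_model c e he]; exact h⟩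

omit he in
lemma finite_of_isFinite_model (he : e.hom ≫ Spec.map (CommRingCat.ofHom (algebraMap K A)) = c)
    [IsFinite c] : Module.Finite K A := by
  subst he
  have h1 : IsFinite (Spec.map (CommRingCat.ofHom (algebraMap K A))) :=
    (MorphismProperty.cancel_left_of_respectsIso @IsFinite e.hom _).1 inferInstance
  rw [IsFinite.SpecMap_iff] at h1
  exact RingHom.finite_algebraMap.1 h1

end model

/-- a model of a scheme finite over a field. -/
lemma exists_model {T : Scheme.{u}} {K : Type u} [Field K] (c : T ⟶ Spec (CommRingCat.of K))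
    [IsFinite c] :
    ∃ (A : Type u) (_ : CommRing A) (_ : Algebra K A) (e : T ≅ Spec (CommRingCat.of A)),
      e.hom ≫ Spec.map (CommRingCat.ofHom (algebraMap K A)) = c ∧ Module.Finite K A := by
  haveI : IsAffine T := isAffine_of_isAffineHom c
  let φ : CommRingCat.of K ⟶ Γ(T, ⊤) := (Scheme.ΓSpecIso (CommRingCat.of K)).inv ≫ c.appTop
  letI : Algebra K Γ(T, ⊤) := φ.hom.toAlgebra
  have he : T.isoSpec.hom ≫ Spec.map (CommRingCat.ofHom (algebraMap K Γ(T, ⊤))) = c := by
    have h1 : CommRingCat.ofHom (algebraMap K Γ(T, ⊤)) = φ := rfl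
    rw [h1, Spec.map_comp, ← Category.assoc, Scheme.isoSpec_hom_naturality, Category.assoc,
      Scheme.isoSpec_Spec_hom, ← Spec.map_comp, Iso.inv_hom_id, Spec.map_id, Category.comp_id]
  exact ⟨Γ(T, ⊤), inferInstance, inferInstance, T.isoSpec, he,
    finite_of_isFinite_model c T.isoSpec he⟩


/-- the fibres of `a` over field valued points are finite of degree at most `n`. -/
def FibDegLE (n : ℕ) {T T' : Scheme.{u}} (a : T ⟶ T') : Prop :=
  ∀ (L : Type u) [Field L] (y : Spec (CommRingCat.of L) ⟶ T') (F : Scheme.{u})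
    (cF : F ⟶ Spec (CommRingCat.of L)) (sF : F ⟶ T), IsPullback cF sF y a → FinDeg cF n

lemma FinDeg.card_le {T : Scheme.{u}} {K : Type u} [Field K] {c : T ⟶ Spec (CommRingCat.of K)}
    {n : ℕ} (h : FinDeg c n) : Finite T ∧ Nat.card T ≤ n := by
  haveI := h.1
  obtain ⟨A, _, _, e, he, hfin⟩ := exists_model c
  have hA : Module.finrank K A ≤ n := (finDeg_model_iff c e he n).1 h
  obtain ⟨h1, h2⟩ := UnivBddAlg.card_primeSpectrum_le K A
  let eq : ↥T ≃ PrimeSpectrum A := (Scheme.homeoOfIso e).toEquiv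
  exact ⟨Finite.of_equiv _ eq.symm, by rw [Nat.card_congr eq]; exact h2.trans hA⟩

/-- a morphism to an artinian scheme with finite fibres is finite. -/
theorem isFinite_of_fibDegLE {K : Type u} [Field K] {T T' : Scheme.{u}} (a : T ⟶ T')
    (c' : T' ⟶ Spec (CommRingCat.of K)) [IsFinite c'] {n : ℕ} (ha : FibDegLE n a) : IsFinite a := by
  obtain ⟨B, _, _, e, he, hfinB⟩ := exists_model c'
  haveI : IsArtinianRing B := IsArtinianRing.of_finite K B
  haveI : IsAffine T' := .of_isIso e.hom
  haveI : IsLocallyArtinian (Spec (CommRingCat.of B)) :=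
    Scheme.isLocallyArtinianScheme_Spec.mpr inferInstance
  haveI : IsLocallyArtinian T' := IsLocallyArtinian.of_isImmersion e.hom
  have hfib : ∀ x : T', FinDeg (a.fiberToSpecResidueField x) n := fun x =>
    ha _ (T'.fromSpecResidueField x) _ _ (a.fiberι x) (IsPullback.of_hasPullback _ _).flip
  haveI : LocallyQuasiFinite a := LocallyQuasiFinite.of_fiberToSpecResidueField a fun x => by
    have h1 : IsFinite (a.fiberToSpecResidueField x) := (hfib x).1
    infer_instance
  haveI : Finite T' := Finite.of_equiv (PrimeSpectrum B) (Scheme.homeoOfIso e).toEquiv.symm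
  haveI : Finite T := by
    have h1 : (Set.univ : Set T) = ⋃ x : T', Set.range (a.fiberι x) := by
      ext t
      simp only [Set.mem_univ, Set.mem_iUnion, true_iff]
      exact ⟨a t, by rw [Scheme.Hom.range_fiberι]; rfl⟩
    have h2 : (Set.univ : Set T).Finite := by
      rw [h1]
      refine Set.finite_iUnion fun x => ?_
      haveI := (hfib x).card_le.1
      exact Set.finite_range _
    exact Set.finite_univ_iff.1 h2
  haveI : QuasiCompact a := HasAffineProperty.iff_of_isAffine.mpr (inferInstance : CompactSpace T)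
  exact IsFinite.of_locallyQuasiFinite a

lemma FibDegLE.of_iso {n : ℕ} {T T' T₁ T₂ : Scheme.{u}} {a : T ⟶ T'} (h : FibDegLE n a)
    (e₁ : T₁ ≅ T) (e₂ : T' ≅ T₂) : FibDegLE n (e₁.hom ≫ a ≫ e₂.hom) := by
  intro L _ y F cF sF hpb
  refine h L (y ≫ e₂.inv) F cF (sF ≫ e₁.hom) ?_
  refine hpb.of_iso (Iso.refl _) (Iso.refl _) e₁ e₂.symm ?_ ?_ ?_ ?_
  · simp
  · simp
  · simp
  · simp

lemma FibDegLE.baseChange {n : ℕ} {T T' P W : Scheme.{u}} {a : T ⟶ T'} (h : FibDegLE n a)
    {p1 : P ⟶ W} {p2 : P ⟶ T} {b : W ⟶ T'} (hpb : IsPullback p1 p2 b a) : FibDegLE n p1 := by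
  intro L _ y F cF sF hF
  exact h L (y ≫ b) F cF (sF ≫ p2) (hF.paste_vert hpb)

theorem finrank_le_of_fibDegLE {K B C : Type u} [Field K] [CommRing B] [CommRing C] [Algebra K B]
    [Algebra B C] [Algebra K C] [IsScalarTower K B C] [Module.Finite K B] [Module.Finite B C]
    {n : ℕ} (h : FibDegLE n (Spec.map (CommRingCat.ofHom (algebraMap B C)))) :
    Module.finrank K C ≤ n * Module.finrank K B := by
  apply UnivBddAlg.finrank_le_mul
  apply UnivBddAlg.fibreBound_of_forall
  intro 𝔪 h𝔪
  letI : Field (B ⧸ 𝔪) := Ideal.Quotient.field 𝔪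
  have h1 := h (B ⧸ 𝔪) (Spec.map (CommRingCat.ofHom (algebraMap B (B ⧸ 𝔪))))
    (Spec (CommRingCat.of ((B ⧸ 𝔪) ⊗[B] C)))
    (Spec.map (CommRingCat.ofHom Algebra.TensorProduct.includeLeftRingHom))
    (Spec.map (CommRingCat.ofHom Algebra.TensorProduct.includeRight.toRingHom))
    (isPullback_SpecMap_of_isPushout _ _ _ _ (CommRingCat.isPushout_tensorProduct B (B ⧸ 𝔪) C))
  have h2 := (finDeg_model_iff (K := B ⧸ 𝔪) (A := (B ⧸ 𝔪) ⊗[B] C)
    (Spec.map (CommRingCat.ofHom Algebra.TensorProduct.includeLeftRingHom)) (Iso.refl _)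
    (by rw [Iso.refl_hom, Category.id_comp]) n).1 h1
  exact h2

/-- composition: degrees multiply. -/
theorem finDeg_comp {K : Type u} [Field K] {T T' : Scheme.{u}} (a : T ⟶ T')
    (c' : T' ⟶ Spec (CommRingCat.of K)) {n m : ℕ} (hc' : FinDeg c' m) (ha : FibDegLE n a) :
    FinDeg (a ≫ c') (n * m) := by
  haveI := hc'.1
  haveI : IsFinite a := isFinite_of_fibDegLE a c' ha
  haveI : IsFinite (a ≫ c') := inferInstance
  obtain ⟨B, _, _, e, he, hfinB⟩ := exists_model c'
  have hBm : Module.finrank K B ≤ m := (finDeg_model_iff c' e he m).1 hc'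
  obtain ⟨C, _, _, eT, heT, hfinC⟩ := exists_model (a ≫ c')
  obtain ⟨ψ, hψ⟩ := Spec.map_surjective (eT.inv ≫ a ≫ e.hom)
  letI : Algebra B C := ψ.hom.toAlgebra
  have hψ' : Spec.map (CommRingCat.ofHom (algebraMap B C)) = eT.inv ≫ a ≫ e.hom := hψ
  have htow : algebraMap K C = (algebraMap B C).comp (algebraMap K B) := by
    have h1 : Spec.map (CommRingCat.ofHom (algebraMap K C)) =
        Spec.map (CommRingCat.ofHom (algebraMap K B) ≫ CommRingCat.ofHom (algebraMap B C)) := by
      rw [Spec.map_comp, hψ', Category.assoc, Category.assoc, he, ← heT, Iso.inv_hom_id_assoc]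
    exact congrArg CommRingCat.Hom.hom (Spec.map_injective h1)
  haveI : IsScalarTower K B C := IsScalarTower.of_algebraMap_eq' htow
  haveI : Module.Finite B C := by
    have h1 : IsFinite (Spec.map (CommRingCat.ofHom (algebraMap B C))) := by
      rw [hψ']; infer_instance
    rw [IsFinite.SpecMap_iff] at h1
    exact RingHom.finite_algebraMap.1 h1
  have hfib : FibDegLE n (Spec.map (CommRingCat.ofHom (algebraMap B C))) := by
    rw [hψ']
    exact ha.of_iso eT.symm e
  have h3 := finrank_le_of_fibDegLE (K := K) hfib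
  exact (finDeg_model_iff (a ≫ c') eT heT (n * m)).2 (h3.trans (Nat.mul_le_mul_left _ hBm))


/-- an algebra model of an affine scheme over a field. -/
lemma exists_model_of_isAffine {T : Scheme.{u}} {K : Type u} [Field K]
    (c : T ⟶ Spec (CommRingCat.of K)) [IsAffine T] :
    ∃ (A : Type u) (_ : CommRing A) (_ : Algebra K A) (e : T ≅ Spec (CommRingCat.of A)),
      e.hom ≫ Spec.map (CommRingCat.ofHom (algebraMap K A)) = c := by
  let φ : CommRingCat.of K ⟶ Γ(T, ⊤) := (Scheme.ΓSpecIso (CommRingCat.of K)).inv ≫ c.appTop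
  letI : Algebra K Γ(T, ⊤) := φ.hom.toAlgebra
  have he : T.isoSpec.hom ≫ Spec.map (CommRingCat.ofHom (algebraMap K Γ(T, ⊤))) = c := by
    have h1 : CommRingCat.ofHom (algebraMap K Γ(T, ⊤)) = φ := rfl
    rw [h1, Spec.map_comp, ← Category.assoc, Scheme.isoSpec_hom_naturality, Category.assoc,
      Scheme.isoSpec_Spec_hom, ← Spec.map_comp, Iso.inv_hom_id, Spec.map_id, Category.comp_id]
  exact ⟨Γ(T, ⊤), inferInstance, inferInstance, T.isoSpec, he⟩

/-- descent of "finite of degree `≤ n`" along a flat surjective morphism. -/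
theorem finDeg_of_flat_surjective {K : Type u} [Field K] {W T : Scheme.{u}} (a : W ⟶ T)
    [Flat a] [Surjective a] (c : T ⟶ Spec (CommRingCat.of K)) {n : ℕ} (h : FinDeg (a ≫ c) n) :
    FinDeg c n := by
  haveI := h.1
  obtain ⟨A, _, _, eW, heW, hfinA⟩ := exists_model (a ≫ c)
  have hAn : Module.finrank K A ≤ n := (finDeg_model_iff (a ≫ c) eW heW n).1 h
  haveI : IsArtinianRing A := IsArtinianRing.of_finite K A
  haveI : Finite W := Finite.of_equiv (PrimeSpectrum A) (Scheme.homeoOfIso eW).toEquiv.symm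
  haveI : DiscreteTopology W := by
    haveI : DiscreteTopology (PrimeSpectrum A) := inferInstance
    exact (Scheme.homeoOfIso eW).symm.discreteTopology
  haveI : Finite T := Finite.of_surjective a a.surjective
  haveI : T1Space T := by
    rw [t1Space_iff_specializes_imp_eq]
    intro t t' htt'
    obtain ⟨w', rfl⟩ := a.surjective t'
    obtain ⟨w, hw, rfl⟩ := Flat.generalizingMap a htt'
    rw [hw.eq]
  haveI : DiscreteTopology T := inferInstance
  haveI : IsAffine T := inferInstance
  obtain ⟨B, _, _, eT, heT⟩ := exists_model_of_isAffine c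
  obtain ⟨ψ, hψ⟩ := Spec.map_surjective (eW.inv ≫ a ≫ eT.hom)
  letI : Algebra B A := ψ.hom.toAlgebra
  have hψ' : Spec.map (CommRingCat.ofHom (algebraMap B A)) = eW.inv ≫ a ≫ eT.hom := hψ
  have htow : algebraMap K A = (algebraMap B A).comp (algebraMap K B) := by
    have h1 : Spec.map (CommRingCat.ofHom (algebraMap K A)) =
        Spec.map (CommRingCat.ofHom (algebraMap K B) ≫ CommRingCat.ofHom (algebraMap B A)) := by
      rw [Spec.map_comp, hψ', Category.assoc, Category.assoc, heT, ← heW, Iso.inv_hom_id_assoc]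
    exact congrArg CommRingCat.Hom.hom (Spec.map_injective h1)
  haveI : IsScalarTower K B A := IsScalarTower.of_algebraMap_eq' htow
  have hff : (algebraMap B A).FaithfullyFlat := by
    have h1 : Flat (Spec.map (CommRingCat.ofHom (algebraMap B A))) ∧
        Surjective (Spec.map (CommRingCat.ofHom (algebraMap B A))) := by
      rw [hψ']
      exact ⟨inferInstance, inferInstance⟩
    exact (flat_and_surjective_SpecMap_iff _).1 h1
  have hinj : Function.Injective (algebraMap B A) := hff.injective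
  let ι : B →ₗ[K] A := (Algebra.linearMap B A).restrictScalars K
  have hι : Function.Injective ι := hinj
  haveI : Module.Finite K B := Module.Finite.of_injective ι hι
  have hBn : Module.finrank K B ≤ n := (LinearMap.finrank_le_finrank_of_injective hι).trans hAn
  exact (finDeg_model_iff c eT heT n).2 hBn



section Sp

variable {S : Scheme.{u}}

/-- the field valued point defined by a morphism from the spectrum of a field. -/
noncomputable def fieldPtOfHom {F : AlgSp.Sp S} {L : Type u} [Field L] (w : Spec (CommRingCat.of L) ⟶ S)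
    (g : (AlgSp.yon S).obj (Over.mk w) ⟶ F) : AlgSp.FieldPt F where
  K := L
  str := w
  val := (AlgSp.J S).uliftYonedaEquiv g

lemma fieldPtOfHom_toHom {F : AlgSp.Sp S} {L : Type u} [Field L] (w : Spec (CommRingCat.of L) ⟶ S)
    (g : (AlgSp.yon S).obj (Over.mk w) ⟶ F) : (fieldPtOfHom w g).toHom = g :=
  Equiv.symm_apply_apply _ _

/-- scheme level consequence of `DegFibresLE` for a morphism of schemes. -/
theorem fibDegLE_of_degFibresLE {U V : Over S} (f : V ⟶ U) {n : ℕ}
    (h : W4dec.DegFibresLE n ((AlgSp.yon S).map f)) : FibDegLE n f.left := by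
  intro L _ y F cF sF hpb
  let w : Spec (CommRingCat.of L) ⟶ S := y ≫ U.hom
  let yO : Over.mk w ⟶ U := Over.homMk y rfl
  let q : AlgSp.FieldPt ((AlgSp.yon S).obj U) := fieldPtOfHom w ((AlgSp.yon S).map yO)
  let FO : Over S := Over.mk (cF ≫ w)
  let cFO : FO ⟶ q.pt := Over.homMk cF rfl
  let sFO : FO ⟶ V := Over.homMk sF (by
    show sF ≫ V.hom = cF ≫ y ≫ U.hom
    rw [← Over.w f, ← Category.assoc, ← hpb.w, Category.assoc])
  have sqO : IsPullback cFO sFO yO f :=
    IsPullback.of_map (Over.forget S) (by ext; exact hpb.w) hpb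
  have sqY := sqO.map (AlgSp.yon S)
  have := h q FO cFO ((AlgSp.yon S).map sFO) (by rw [fieldPtOfHom_toHom]; exact sqY)
  exact this

/-- the converse. -/
theorem degFibresLE_of_fibDegLE {U V : Over S} (f : V ⟶ U) {n : ℕ}
    (h : FibDegLE n f.left) : W4dec.DegFibresLE n ((AlgSp.yon S).map f) := by
  intro q T c snd hpb
  obtain ⟨s, rfl⟩ := (AlgSp.yon S).map_surjective snd
  obtain ⟨yq, hyq⟩ := (AlgSp.yon S).map_surjective q.toHom
  rw [← hyq] at hpb
  have sqO : IsPullback c s yq f := by
    refine IsPullback.of_map (AlgSp.yon S) ?_ hpb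
    apply (AlgSp.yon S).map_injective
    rw [Functor.map_comp, Functor.map_comp]
    exact hpb.w
  have sqL : IsPullback c.left s.left yq.left f.left := sqO.map (Over.forget S)
  exact h q.K yq.left T.left c.left s.left sqL

/-- base change of `DegFibresLE`. -/
theorem degFibresLE_baseChange {F : AlgSp.Sp S} {U W P : Over S} {a : (AlgSp.yon S).obj U ⟶ F}
    {b : (AlgSp.yon S).obj W ⟶ F} {p1 : P ⟶ W} {p2 : (AlgSp.yon S).obj P ⟶ (AlgSp.yon S).obj U}
    (hpb : IsPullback ((AlgSp.yon S).map p1) p2 b a) {n : ℕ} (h : W4dec.DegFibresLE n a) :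
    W4dec.DegFibresLE n ((AlgSp.yon S).map p1) := by
  intro q T c snd hq
  have h1 := hq.paste_vert hpb
  have h2 := h (q.map b) T c (snd ≫ p2) (by rw [AlgSp.FieldPt.toHom_map]; exact h1)
  exact h2



lemma map_toHom_eq {F : AlgSp.Sp S} (r : AlgSp.FieldPt F)
    (t : AlgSp.Points ((AlgSp.yon S).obj r.pt)) :
    AlgSp.Points.map r.toHom t = AlgSp.Points.mk r := by
  obtain ⟨s, rfl⟩ := (AlgSp.Points.schemeHomeo r.pt).surjective t
  have : AlgSp.Points.schemeHomeo r.pt s = AlgSp.Points.ofScheme r.pt s := rfl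
  rw [this, ← AlgSp.Points.ofPt_eq_map_ofScheme]
  exact AlgSp.Points.ofPt_toHom r s

/-- the fibres of `|U| → |X|` have at most `n` points. -/
theorem encard_fibre_le (X : AlgSp.Space S) {U : Over S} (φ : (AlgSp.yon S).obj U ⟶ X.obj) {n : ℕ}
    (h : W4dec.DegFibresLE n φ) (x : AlgSp.Points X.obj) :
    (AlgSp.Points.ofPt φ ⁻¹' {x}).encard ≤ n := by
  induction x using AlgSp.Points.ind with | h q => ?_
  obtain ⟨T, c, fst', hT⟩ := X.property.representable_from_yon φ q.toHom
  obtain ⟨s, rfl⟩ := (AlgSp.yon S).map_surjective fst'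
  have hc : FinDeg (K := q.K) c.left n := h q T c _ hT.flip
  obtain ⟨hfin, hcard⟩ := hc.card_le
  haveI := hfin
  have hsub : AlgSp.Points.ofPt φ ⁻¹' {AlgSp.Points.mk q} ⊆ Set.range (s.left : ↥T.left → ↥U.left) := by
    intro u hu
    have hu' : AlgSp.Points.ofPt φ u = AlgSp.Points.mk q := hu
    let t0 : AlgSp.Points ((AlgSp.yon S).obj q.pt) :=
      AlgSp.Points.schemeHomeo q.pt (((⊥ : PrimeSpectrum q.K) : ↥q.pt.left))
    obtain ⟨p, hp1, -⟩ := Groth.Agent.S10175.exists_point_of_isPullback hT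
      (AlgSp.Points.ofScheme U u) t0 (by
        rw [← AlgSp.Points.ofPt_eq_map_ofScheme, hu', map_toHom_eq])
    obtain ⟨t, rfl⟩ := (AlgSp.Points.schemeEquiv T).surjective p
    refine ⟨t, ?_⟩
    have h1 : AlgSp.Points.ofPt ((AlgSp.yon S).map s) t = AlgSp.Points.ofScheme U u := by
      rw [AlgSp.Points.ofPt_eq_map_ofScheme]; exact hp1
    have h2 := AlgSp.Points.toScheme_ofPt s t
    rw [h1, AlgSp.Points.toScheme_ofScheme] at h2
    exact h2.symm
  calc (AlgSp.Points.ofPt φ ⁻¹' {AlgSp.Points.mk q}).encard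
      ≤ (Set.range (s.left : ↥T.left → ↥U.left)).encard := Set.encard_mono hsub
    _ = ((s.left : ↥T.left → ↥U.left) '' Set.univ).encard := by rw [Set.image_univ]
    _ ≤ (Set.univ : Set ↥T.left).encard := Set.encard_image_le _ _
    _ = (Nat.card ↥T.left : ℕ∞) := by rw [Set.encard_univ, ENat.card_eq_coe_natCard]
    _ ≤ n := by exact_mod_cast hcard


end Sp

end Groth.Agent.Lib.T2H1.UnivBdd
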