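import Mathlib
import Groth.Prelude.Def_W4decUnivBdd
import Groth.Agent.Lib.T2H1UnivBdd

/-! # Universally bounded fibres: base change along field extensions (helper1, team 2) -/

set_option autoImplicit false
universe u
open CategoryTheory CategoryTheory.Limits AlgebraicGeometry TopologicalSpace TensorProduct

namespace Groth.Agent.Lib.T2H1.UnivBdd

/-- a flat surjective image of a finite discrete scheme is finite discrete. -/
lemma finite_discrete_of_flat_surjective {W T : Scheme.{u}} (a : W ⟶ T) [Flat a] [Surjective a]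
    [Finite W] [DiscreteTopology W] : Finite T ∧ DiscreteTopology T := by
  haveI : Finite T := Finite.of_surjective a a.surjective
  haveI : T1Space T := by
    rw [t1Space_iff_specializes_imp_eq]
    intro t t' htt'
    obtain ⟨w', rfl⟩ := a.surjective t'
    obtain ⟨w, hw, rfl⟩ := Flat.generalizingMap a htt'
    rw [hw.eq]
  exact ⟨inferInstance, inferInstance⟩

lemma FinDeg.finite_discrete {T : Scheme.{u}} {K : Type u} [Field K]
    {c : T ⟶ Spec (CommRingCat.of K)} {n : ℕ} (h : FinDeg c n) : Finite T ∧ DiscreteTopology T := by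
  haveI := h.1
  obtain ⟨A, _, _, eW, heW, hfinA⟩ := exists_model c
  haveI : IsArtinianRing A := IsArtinianRing.of_finite K A
  refine ⟨Finite.of_equiv (PrimeSpectrum A) (Scheme.homeoOfIso eW).toEquiv.symm, ?_⟩
  haveI : DiscreteTopology (PrimeSpectrum A) := inferInstance
  exact (Scheme.homeoOfIso eW).symm.discreteTopology

/-- descent of "finite of degree `≤ n`" along a field extension. -/
theorem finDeg_of_baseChange {K Ω : Type u} [Field K] [Field Ω] {T P : Scheme.{u}}
    (b : Spec (CommRingCat.of Ω) ⟶ Spec (CommRingCat.of K)) (c : T ⟶ Spec (CommRingCat.of K))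
    (p1 : P ⟶ Spec (CommRingCat.of Ω)) (p2 : P ⟶ T) (hpb : IsPullback p1 p2 b c) {n : ℕ}
    (h : FinDeg p1 n) : FinDeg c n := by
  obtain ⟨β, rfl⟩ := Spec.map_surjective b
  letI : Algebra K Ω := β.hom.toAlgebra
  have hβ : β = CommRingCat.ofHom (algebraMap K Ω) := rfl
  rw [hβ] at hpb
  haveI : Flat (Spec.map (CommRingCat.ofHom (algebraMap K Ω))) := by
    rw [Flat.SpecMap_iff]
    exact RingHom.flat_algebraMap_iff.2 inferInstance
  haveI : Surjective (Spec.map (CommRingCat.ofHom (algebraMap K Ω))) := by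
    constructor
    intro x
    refine ⟨(⊥ : PrimeSpectrum Ω), Subsingleton.elim _ _⟩
  haveI : Flat p2 := MorphismProperty.of_isPullback (P := @Flat) hpb inferInstance
  haveI : Surjective p2 := MorphismProperty.of_isPullback (P := @Surjective) hpb inferInstance
  obtain ⟨hPf, hPd⟩ := h.finite_discrete
  haveI := hPf
  haveI := hPd
  obtain ⟨hTf, hTd⟩ := finite_discrete_of_flat_surjective p2
  haveI := hTf
  haveI := hTd
  haveI : IsAffine T := inferInstance
  obtain ⟨A, _, _, eT, heT⟩ := exists_model_of_isAffine c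
  -- the model of `P`
  have sq2 : IsPullback
      (Spec.map (CommRingCat.ofHom (Algebra.TensorProduct.includeLeftRingHom : Ω →+* Ω ⊗[K] A)))
      (Spec.map (CommRingCat.ofHom
        (Algebra.TensorProduct.includeRight.toRingHom : A →+* Ω ⊗[K] A)) ≫ eT.inv)
      (Spec.map (CommRingCat.ofHom (algebraMap K Ω))) c := by
    have h0 := isPullback_SpecMap_of_isPushout _ _ _ _ (CommRingCat.isPushout_tensorProduct K Ω A)
    refine h0.of_iso (Iso.refl _) (Iso.refl _) eT.symm (Iso.refl _) ?_ ?_ ?_ ?_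
    · simp
    · simp
    · simp
    · rw [← heT]; simp
  let eP : P ≅ Spec (CommRingCat.of (Ω ⊗[K] A)) := hpb.isoIsPullback _ _ sq2
  have heP : eP.hom ≫ Spec.map (CommRingCat.ofHom (algebraMap Ω (Ω ⊗[K] A))) = p1 :=
    hpb.isoIsPullback_hom_fst _ _ sq2
  haveI := h.1
  haveI : Module.Finite Ω (Ω ⊗[K] A) := finite_of_isFinite_model p1 eP heP
  have h1 : Module.finrank Ω (Ω ⊗[K] A) ≤ n := (finDeg_model_iff p1 eP heP n).1 h
  haveI : Module.Finite K A := Module.Finite.of_finite_tensorProduct_of_faithfullyFlat Ω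
  rw [Module.finrank_baseChange] at h1
  exact (finDeg_model_iff c eT heT n).2 h1


section Sp

variable {S : Scheme.{u}}

lemma finDeg_of_isEmpty {T : Scheme.{u}} {K : Type u} [Field K] (c : T ⟶ Spec (CommRingCat.of K))
    [IsEmpty T] (n : ℕ) : FinDeg c n := by
  haveI : IsAffine T := inferInstance
  obtain ⟨A, _, _, eT, heT⟩ := exists_model_of_isAffine c
  haveI : IsEmpty (PrimeSpectrum A) := (Scheme.homeoOfIso eT).symm.toEquiv.isEmpty
  haveI : Subsingleton A := by
    by_contra hA
    rw [not_subsingleton_iff_nontrivial] at hA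
    exact (inferInstance : IsEmpty (PrimeSpectrum A)).false (Classical.arbitrary _)
  haveI : Module.Finite K A := Module.Finite.of_surjective (0 : K →ₗ[K] A)
    (fun x => ⟨0, Subsingleton.elim _ _⟩)
  refine (finDeg_model_iff c eT heT n).2 ?_
  rw [Module.finrank_zero_of_subsingleton]
  exact Nat.zero_le _

lemma ofPt_yon_map {T U : Over S} (s : T ⟶ U) (t : ↥T.left) :
    AlgSp.Points.ofPt ((AlgSp.yon S).map s) t = AlgSp.Points.ofScheme U (s.left t) := by
  rw [← AlgSp.Points.ofScheme_toScheme U (AlgSp.Points.ofPt ((AlgSp.yon S).map s) t),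
    AlgSp.Points.toScheme_ofPt]

theorem degFibresLE_of_baseChange_of_image_subset {X Y : AlgSp.Space S} (g : Y ⟶ X) {U V : Over S}
    (f : (AlgSp.yon S).obj U ⟶ X.obj) (fst : (AlgSp.yon S).obj V ⟶ (AlgSp.yon S).obj U)
    (f' : (AlgSp.yon S).obj V ⟶ Y.obj) (h : IsPullback fst f' f g.hom)
    (him : Set.range (AlgSp.Points.ofPt f) ⊆ Set.range (AlgSp.Points.map g.hom)) {n : ℕ}
    (hf' : W4dec.DegFibresLE n f') : W4dec.DegFibresLE n f := by
  intro q T c snd hpb
  by_cases hT : IsEmpty ↥T.left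
  · haveI := hT
    exact finDeg_of_isEmpty (K := q.K) c.left n
  rw [not_isEmpty_iff] at hT
  obtain ⟨t⟩ := hT
  obtain ⟨s, rfl⟩ := (AlgSp.yon S).map_surjective snd
  have hx : AlgSp.Points.ofPt f (s.left t) = AlgSp.Points.mk q := by
    rw [AlgSp.Points.ofPt_eq_map_ofScheme, ← ofPt_yon_map, AlgSp.Points.map_ofPt, ← hpb.w,
      ← AlgSp.Points.map_ofPt, map_toHom_eq]
  obtain ⟨y, hy⟩ := him ⟨s.left t, rfl⟩
  rw [hx] at hy
  induction y using AlgSp.Points.ind with | h r => ?_
  rw [AlgSp.Points.map_mk, AlgSp.Points.mk_eq_mk_iff] at hy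
  obtain ⟨Ω, _, w, a, b, hab⟩ := hy
  let a' : Over.mk w ⟶ r.pt := a
  let r' : AlgSp.FieldPt Y.obj := fieldPtOfHom w ((AlgSp.yon S).map a' ≫ r.toHom)
  have key : r'.toHom ≫ g.hom = (AlgSp.yon S).map b ≫ q.toHom := by
    have h0 : (AlgSp.yon S).map a' ≫ (r.map g.hom).toHom = (AlgSp.yon S).map b ≫ q.toHom := by
      show (AlgSp.yon S).map a' ≫ (AlgSp.J S).uliftYonedaEquiv.symm _ =
        (AlgSp.yon S).map b ≫ (AlgSp.J S).uliftYonedaEquiv.symm _
      rw [GrothendieckTopology.uliftYonedaEquiv_symm_naturality_left,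
        GrothendieckTopology.uliftYonedaEquiv_symm_naturality_left]
      exact congrArg _ hab
    have e1 : r'.toHom = (AlgSp.yon S).map a' ≫ r.toHom := fieldPtOfHom_toHom w _
    have e2 : ((AlgSp.yon S).map a' ≫ r.toHom) ≫ g.hom = (AlgSp.yon S).map b ≫ q.toHom := by
      rw [Category.assoc, ← AlgSp.FieldPt.toHom_map]
      exact h0
    exact (congrArg (fun z : (AlgSp.yon S).obj (Over.mk w) ⟶ Y.obj => z ≫ g.hom) e1).trans e2
  have sqO : IsPullback (pullback.fst b c) (pullback.snd b c) b c := IsPullback.of_hasPullback b c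
  have sqL := sqO.map (Over.forget S)
  have sqY := sqO.map (AlgSp.yon S)
  have hbig := sqY.flip.paste_horiz hpb.flip
  rw [← key] at hbig
  let ℓ : (AlgSp.yon S).obj (pullback b c) ⟶ (AlgSp.yon S).obj V :=
    h.lift ((AlgSp.yon S).map (pullback.snd b c) ≫ (AlgSp.yon S).map s)
      ((AlgSp.yon S).map (pullback.fst b c) ≫ r'.toHom) hbig.w
  have hℓ1 : ℓ ≫ fst = (AlgSp.yon S).map (pullback.snd b c) ≫ (AlgSp.yon S).map s :=
    h.lift_fst _ _ _
  have hℓ2 : ℓ ≫ f' = (AlgSp.yon S).map (pullback.fst b c) ≫ r'.toHom := h.lift_snd _ _ _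
  rw [← hℓ1] at hbig
  have hleft := IsPullback.of_right hbig hℓ2 h
  have h1 : FinDeg (K := Ω) (pullback.fst b c).left n := hf' r' (pullback b c) (pullback.fst b c) ℓ hleft.flip
  exact finDeg_of_baseChange b.left c.left (pullback.fst b c).left (pullback.snd b c).left sqL h1


end Sp

end Groth.Agent.Lib.T2H1.UnivBdd
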