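import Mathlib
import Groth.Prelude.Def_W4decUnivBdd
import Groth.Agent.Lib.T2H1UnivBddBC

/-! # Universally bounded fibres: finite flat covers (helper1, team 2) -/

set_option autoImplicit false
universe u
open CategoryTheory CategoryTheory.Limits AlgebraicGeometry TopologicalSpace TensorProduct

namespace Groth.Agent.Lib.T2H1.UnivBdd

/-- a finite flat jointly surjective family: degrees add up. -/
theorem finDeg_of_flat_cover {K : Type u} [Field K] {T : Scheme.{u}}
    (c : T ⟶ Spec (CommRingCat.of K)) {ι : Type*} [Fintype ι] [DecidableEq ι]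
    (W : ι → Scheme.{u}) (a : ∀ l, W l ⟶ T) [∀ l, Flat (a l)]
    (hsurj : ∀ t : T, ∃ (l : ι) (w : W l), a l w = t) (n : ι → ℕ)
    (h : ∀ l, FinDeg (a l ≫ c) (n l)) : FinDeg c (∑ l, n l) := by
  have hWfd : ∀ l, Finite (W l) ∧ DiscreteTopology (W l) := fun l => (h l).finite_discrete
  haveI : ∀ l, Finite (W l) := fun l => (hWfd l).1
  haveI : ∀ l, DiscreteTopology (W l) := fun l => (hWfd l).2
  haveI : Finite T := by
    have h1 : (Set.univ : Set T) = ⋃ l : ι, Set.range (a l) := by
      ext t
      simp only [Set.mem_univ, Set.mem_iUnion, true_iff]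
      obtain ⟨l, w, hw⟩ := hsurj t
      exact ⟨l, w, hw⟩
    have h2 : (Set.univ : Set T).Finite := by
      rw [h1]
      exact Set.finite_iUnion fun l => Set.finite_range _
    exact Set.finite_univ_iff.1 h2
  haveI : T1Space T := by
    rw [t1Space_iff_specializes_imp_eq]
    intro t t' htt'
    obtain ⟨l, w', rfl⟩ := hsurj t'
    obtain ⟨w, hw, rfl⟩ := Flat.generalizingMap (a l) htt'
    rw [hw.eq]
  haveI : DiscreteTopology T := inferInstance
  haveI : IsAffine T := inferInstance
  obtain ⟨B, _, _, eT, heT⟩ := exists_model_of_isAffine c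
  haveI : ∀ l, IsFinite (a l ≫ c) := fun l => (h l).1
  choose A hCR hAlg eW heW hfin using fun l => exists_model (a l ≫ c)
  letI : ∀ l, CommRing (A l) := hCR
  letI : ∀ l, Algebra K (A l) := hAlg
  haveI : ∀ l, Module.Finite K (A l) := hfin
  have hAn : ∀ l, Module.finrank K (A l) ≤ n l := fun l =>
    (finDeg_model_iff (a l ≫ c) (eW l) (heW l) (n l)).1 (h l)
  choose ψ hψ using fun l => Spec.map_surjective ((eW l).inv ≫ a l ≫ eT.hom)
  letI : ∀ l, Algebra B (A l) := fun l => (ψ l).hom.toAlgebra
  have hψ' : ∀ l, Spec.map (CommRingCat.ofHom (algebraMap B (A l))) = (eW l).inv ≫ a l ≫ eT.hom :=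
    hψ
  have htow : ∀ l, algebraMap K (A l) = (algebraMap B (A l)).comp (algebraMap K B) := by
    intro l
    have h1 : Spec.map (CommRingCat.ofHom (algebraMap K (A l))) =
        Spec.map (CommRingCat.ofHom (algebraMap K B) ≫ CommRingCat.ofHom (algebraMap B (A l))) := by
      rw [Spec.map_comp, hψ' l, Category.assoc, Category.assoc, heT, ← heW l, Iso.inv_hom_id_assoc]
    exact congrArg CommRingCat.Hom.hom (Spec.map_injective h1)
  haveI : ∀ l, IsScalarTower K B (A l) := fun l => IsScalarTower.of_algebraMap_eq' (htow l)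
  haveI : ∀ l, Module.Flat B (A l) := by
    intro l
    have h1 : Flat (Spec.map (CommRingCat.ofHom (algebraMap B (A l)))) := by
      rw [hψ' l]; infer_instance
    rw [Flat.SpecMap_iff] at h1
    exact RingHom.flat_algebraMap_iff.1 h1
  haveI : Module.Flat B (∀ l, A l) :=
    Module.Flat.of_linearEquiv (DFinsupp.linearEquivFunOnFintype (R := B) (M := A)).symm
  have hff : (algebraMap B (∀ l, A l)).FaithfullyFlat := by
    rw [RingHom.FaithfullyFlat.iff_flat_and_comap_surjective]
    refine ⟨RingHom.flat_algebraMap_iff.2 inferInstance, ?_⟩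
    intro 𝔪
    obtain ⟨l, w, hw⟩ := hsurj (eT.inv 𝔪)
    refine ⟨PrimeSpectrum.comap (Pi.evalRingHom A l) ((eW l).hom w), ?_⟩
    have h1 : Spec.map (CommRingCat.ofHom (algebraMap B (A l))) ((eW l).hom w) = 𝔪 := by
      rw [hψ' l]
      simp only [Scheme.Hom.comp_apply]
      rw [show (eW l).inv ((eW l).hom w) = w from by
        rw [← Scheme.Hom.comp_apply, Iso.hom_inv_id]; rfl, hw,
        ← Scheme.Hom.comp_apply, Iso.inv_hom_id]
      rfl
    rw [← h1]
    rfl
  have hinj : Function.Injective (algebraMap B (∀ l, A l)) := hff.injective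
  let Φ : B →ₗ[K] (∀ l, A l) := (Algebra.linearMap B (∀ l, A l)).restrictScalars K
  have hΦ : Function.Injective Φ := hinj
  haveI : Module.Finite K B := Module.Finite.of_injective Φ hΦ
  have hB : Module.finrank K B ≤ ∑ l, n l := by
    refine (LinearMap.finrank_le_finrank_of_injective hΦ).trans ?_
    rw [Module.finrank_pi_fintype]
    exact Finset.sum_le_sum fun l _ => hAn l
  exact (finDeg_model_iff c eT heT _).2 hB

end Groth.Agent.Lib.T2H1.UnivBdd
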