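import Mathlib
import Groth.Prelude.Def_W4decUnivBdd
import Groth.Prelude.Def_AlgSpCov
import Groth.Agent.Lib.T2H1UnivBddCover

/-! # Universally bounded fibres: open immersions, flat covers of charts, Zariski coverings (helper1, team 2) -/

set_option autoImplicit false
universe u
open CategoryTheory CategoryTheory.Limits AlgebraicGeometry TopologicalSpace TensorProduct

namespace Groth.Agent.Lib.T2H1.UnivBdd

variable {S : Scheme.{u}}

/-- composing with a representable open immersion keeps the bound. -/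
theorem degFibresLE_comp_openImmersion {Xi X : AlgSp.Sp S} (j : Xi ⟶ X)
    (hj : AlgSp.RepWith @IsOpenImmersion j) {V : Over S} (ψ : (AlgSp.yon S).obj V ⟶ Xi) {n : ℕ}
    (h : W4dec.DegFibresLE n ψ) : W4dec.DegFibresLE n (ψ ≫ j) := by
  intro q T c snd hpb
  obtain ⟨Q, oQ, q', hQ⟩ := hj.1 q.toHom
  haveI : IsOpenImmersion oQ.left := hj.2 _ _ oQ hQ
  let ℓ : (AlgSp.yon S).obj T ⟶ (AlgSp.yon S).obj Q :=
    hQ.lift (snd ≫ ψ) ((AlgSp.yon S).map c) (by rw [Category.assoc, hpb.w])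
  have hℓ1 : ℓ ≫ q' = snd ≫ ψ := hQ.lift_fst _ _ _
  have hℓ2 : ℓ ≫ (AlgSp.yon S).map oQ = (AlgSp.yon S).map c := hQ.lift_snd _ _ _
  obtain ⟨l, hl⟩ := (AlgSp.yon S).map_surjective ℓ
  have hlc : l ≫ oQ = c := by
    apply (AlgSp.yon S).map_injective
    rw [Functor.map_comp, hl]; exact hℓ2
  have hbig : IsPullback snd (ℓ ≫ (AlgSp.yon S).map oQ) (ψ ≫ j) q.toHom := by
    rw [hℓ2]; exact hpb.flip
  have htop : IsPullback snd ℓ ψ q' := IsPullback.of_bot hbig hℓ1.symm hQ
  by_cases hQe : IsEmpty ↥Q.left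
  · haveI : IsEmpty ↥T.left := ⟨fun t => hQe.false (l.left t)⟩
    exact finDeg_of_isEmpty (K := q.K) c.left n
  rw [not_isEmpty_iff] at hQe
  obtain ⟨z⟩ := hQe
  haveI : Surjective oQ.left := ⟨fun x => ⟨z, Subsingleton.elim (α := PrimeSpectrum q.K) _ _⟩⟩
  haveI : IsIso oQ.left :=
    (isIso_iff_isOpenImmersion_and_surjective _).mpr ⟨inferInstance, inferInstance⟩
  haveI : IsIso ((Over.forget S).map oQ) := (inferInstance : IsIso oQ.left)
  haveI : IsIso oQ := isIso_of_reflects_iso oQ (Over.forget S)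
  let r : AlgSp.FieldPt Xi := fieldPtOfHom q.str ((AlgSp.yon S).map (inv oQ) ≫ q')
  have hr : r.toHom = (AlgSp.yon S).map (inv oQ) ≫ q' := fieldPtOfHom_toHom _ _
  have hsq : IsPullback ((AlgSp.yon S).map c) snd ((AlgSp.yon S).map (inv oQ) ≫ q') ψ := by
    refine htop.flip.of_iso (Iso.refl _) ((AlgSp.yon S).mapIso (asIso oQ)) (Iso.refl _) (Iso.refl _)
      ?_ ?_ ?_ ?_
    · simp only [Functor.mapIso_hom, asIso_hom, Iso.refl_hom, Category.id_comp]; exact hℓ2
    · simp
    · simp only [Functor.mapIso_hom, asIso_hom, Iso.refl_hom, Category.comp_id]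
      rw [← Category.assoc, ← Functor.map_comp, IsIso.hom_inv_id, CategoryTheory.Functor.map_id, Category.id_comp]
    · simp
  have := h r T c snd (by rw [hr]; exact hsq)
  exact this

/-- a finite jointly surjective flat family of charts: the bounds add up. -/
theorem degFibresLE_of_flat_cover {F : AlgSp.Sp S} {U : Over S} (φ : (AlgSp.yon S).obj U ⟶ F)
    {ι : Type*} [Fintype ι] [DecidableEq ι] (W : ι → Over S) (k : ∀ l, W l ⟶ U)
    [∀ l, Flat (k l).left] (hsurj : ∀ u : ↥U.left, ∃ (l : ι) (w : ↥(W l).left), (k l).left w = u)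
    (n : ι → ℕ) (h : ∀ l, W4dec.DegFibresLE (n l) ((AlgSp.yon S).map (k l) ≫ φ)) :
    W4dec.DegFibresLE (∑ l, n l) φ := by
  intro q T c snd hpb
  obtain ⟨s, rfl⟩ := (AlgSp.yon S).map_surjective snd
  have sqO : ∀ l, IsPullback (pullback.fst s (k l)) (pullback.snd s (k l)) s (k l) :=
    fun l => IsPullback.of_hasPullback s (k l)
  have sqL : ∀ l, IsPullback (pullback.fst s (k l)).left (pullback.snd s (k l)).left s.left
      (k l).left := fun l => (sqO l).map (Over.forget S)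
  haveI : ∀ l, Flat (pullback.fst s (k l)).left := fun l =>
    MorphismProperty.of_isPullback (P := @Flat) (sqL l).flip inferInstance
  have hdeg : ∀ l, FinDeg (K := q.K) ((pullback.fst s (k l)).left ≫ c.left) (n l) := by
    intro l
    have sqY := (sqO l).map (AlgSp.yon S)
    have hbig := (sqY.flip.paste_vert hpb.flip).flip
    rw [← Functor.map_comp] at hbig
    exact h l q (pullback s (k l)) (pullback.fst s (k l) ≫ c)
      ((AlgSp.yon S).map (pullback.snd s (k l))) hbig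
  refine finDeg_of_flat_cover (K := q.K) c.left (fun l => (pullback s (k l)).left)
    (fun l => (pullback.fst s (k l)).left) ?_ n hdeg
  intro t
  obtain ⟨l, w, hw⟩ := hsurj (s.left t)
  obtain ⟨z', hz1, -⟩ := Scheme.Pullback.exists_preimage_pullback (f := s.left) (g := (k l).left) t w
    hw.symm
  refine ⟨l, (sqL l).isoPullback.inv z', ?_⟩
  rw [← Scheme.Hom.comp_apply, IsPullback.isoPullback_inv_fst]
  exact hz1


/-- Zariski local (on a quasi-compact source) criterion. -/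
theorem hasUnivBddFibres_of_open_cover {F : AlgSp.Sp S} {U : Over S} [CompactSpace ↥U.left]
    (φ : (AlgSp.yon S).obj U ⟶ F)
    (h : ∀ u : ↥U.left, ∃ (V : U.left.Opens) (n : ℕ), u ∈ V ∧
      W4dec.DegFibresLE n ((AlgSp.yon S).map
        (Over.homMk V.ι rfl : Over.mk (V.ι ≫ U.hom) ⟶ U) ≫ φ)) :
    W4dec.HasUnivBddFibres φ := by
  classical
  choose V n hV hn using h
  obtain ⟨Fs, hFs⟩ := isCompact_univ.elim_finite_subcover (fun u => (V u : Set ↥U.left))
    (fun u => (V u).isOpen) (fun u _ => Set.mem_iUnion.2 ⟨u, hV u⟩)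
  refine ⟨∑ l : ↥Fs, n l.1, ?_⟩
  haveI : ∀ l : ↥Fs, Flat (Over.homMk (V l.1).ι rfl : Over.mk ((V l.1).ι ≫ U.hom) ⟶ U).left :=
    fun l => (inferInstance : Flat (V l.1).ι)
  refine degFibresLE_of_flat_cover φ (fun l : ↥Fs => Over.mk ((V l.1).ι ≫ U.hom))
    (fun l => Over.homMk (V l.1).ι rfl) ?_ (fun l => n l.1) (fun l => hn l.1)
  intro u
  have hu := hFs (Set.mem_univ u)
  simp only [Set.mem_iUnion] at hu
  obtain ⟨u0, hu0, huV⟩ := hu
  exact ⟨⟨u0, hu0⟩, ⟨u, huV⟩, rfl⟩

/-- the Zariski covering statement. -/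
theorem hasUnivBddFibres_of_isZarCover (X : AlgSp.Space S) {ι : Type u}
    (Xi : ι → AlgSp.Space S) (j : ∀ i, Xi i ⟶ X)
    (hj : AlgSp.IsZarCover (fun i => (Xi i).obj) (fun i => (j i).hom))
    (h : ∀ (i : ι) (V : Over S) (ψ : (AlgSp.yon S).obj V ⟶ (Xi i).obj), IsAffine V.left →
      AlgSp.RepWith @Etale ψ → W4dec.HasUnivBddFibres ψ)
    (U : Over S) (φ : (AlgSp.yon S).obj U ⟶ X.obj) (hU : IsAffine U.left)
    (hφ : AlgSp.RepWith @Etale φ) : W4dec.HasUnivBddFibres φ := by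
  haveI := hU
  apply hasUnivBddFibres_of_open_cover
  intro u
  obtain ⟨i, y, hy⟩ := hj.2 (AlgSp.Points.ofPt φ u)
  obtain ⟨P, o, φ', sq⟩ := (hj.1 i).1 φ
  haveI : IsOpenImmersion o.left := (hj.1 i).2 _ _ o sq
  -- `u` lies in the image of `o`
  obtain ⟨p, hp2, -⟩ := Groth.Agent.S10175.exists_point_of_isPullback sq.flip
    (AlgSp.Points.ofScheme U u) y (by rw [← AlgSp.Points.ofPt_eq_map_ofScheme]; exact hy.symm)
  obtain ⟨p0, rfl⟩ := (AlgSp.Points.schemeEquiv P).surjective p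
  have hp0 : o.left p0 = u := by
    have h1 : AlgSp.Points.ofPt ((AlgSp.yon S).map o) p0 = AlgSp.Points.ofScheme U u := by
      rw [AlgSp.Points.ofPt_eq_map_ofScheme]; exact hp2
    rw [ofPt_yon_map] at h1
    exact (AlgSp.Points.schemeEquiv U).injective h1
  have hur : u ∈ o.left.opensRange := ⟨p0, hp0⟩
  obtain ⟨_, ⟨V₀, hV₀, rfl⟩, huV, hVr⟩ := (U.left.isBasis_affineOpens).exists_subset_of_mem_open
    hur o.left.opensRange.isOpen
  let V : U.left.Opens := V₀
  have hVr' : Set.range V.ι ⊆ Set.range o.left := by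
    rw [Scheme.Opens.range_ι]; exact hVr
  let m : (V : Scheme.{u}) ⟶ P.left := IsOpenImmersion.lift o.left V.ι hVr'
  have hm : m ≫ o.left = V.ι := IsOpenImmersion.lift_fac _ _ _
  let VO : Over S := Over.mk (V.ι ≫ U.hom)
  let mO : VO ⟶ P := Over.homMk m (by
    show m ≫ P.hom = V.ι ≫ U.hom
    rw [← Over.w o, ← Category.assoc, hm])
  let k : VO ⟶ U := Over.homMk V.ι rfl
  have hmk : mO ≫ o = k := by
    ext; exact hm
  haveI : IsOpenImmersion mO.left := by
    show IsOpenImmersion m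
    haveI : IsOpenImmersion (m ≫ o.left) := by rw [hm]; infer_instance
    exact IsOpenImmersion.of_comp m o.left
  have hφ' : AlgSp.RepWith @Etale φ' :=
    MorphismProperty.of_isPullback (P := AlgSp.RepWith @Etale) sq.flip hφ
  have hψ : AlgSp.RepWith @Etale ((AlgSp.yon S).map mO ≫ φ') :=
    MorphismProperty.comp_mem _ _ _
      ((AlgSp.repWith_yon_map_iff _ _).2 (inferInstance : Etale mO.left)) hφ'
  haveI : IsAffine VO.left := hV₀
  obtain ⟨n, hn⟩ := h i VO _ hV₀ hψ
  have h2 := degFibresLE_comp_openImmersion (j i).hom (hj.1 i) _ hn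
  refine ⟨V, n, huV, ?_⟩
  have e : ((AlgSp.yon S).map mO ≫ φ') ≫ (j i).hom = (AlgSp.yon S).map k ≫ φ := by
    rw [Category.assoc, sq.w, ← Category.assoc, ← Functor.map_comp, hmk]
  rw [e] at h2
  exact h2


end Groth.Agent.Lib.T2H1.UnivBdd
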