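import Mathlib
import Groth.Prelude.Def_W4decUnivBdd
import Groth.Agent.Lib.T2H1UnivBddZar
import Groth.Agent.Lib.T2H1UnivBddQF

/-! # Universally bounded fibres of étale morphisms with quasi-compact source (helper1, team 2) -/

set_option autoImplicit false
universe u
open CategoryTheory CategoryTheory.Limits AlgebraicGeometry TopologicalSpace TensorProduct

namespace Groth.Agent.Lib.T2H1.UnivBdd

theorem exists_fibDegLE_specMap (R A : Type u) [CommRing R] [CommRing A] [Algebra R A]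
    [Algebra.FiniteType R A] [Algebra.QuasiFinite R A] :
    ∃ m : ℕ, FibDegLE m (Spec.map (CommRingCat.ofHom (algebraMap R A))) := by
  obtain ⟨m, hm⟩ := UnivBddAlg.exists_bound_of_quasiFinite R A
  refine ⟨m, ?_⟩
  intro L _ y F cF sF hpb
  obtain ⟨β, rfl⟩ := Spec.map_surjective y
  letI : Algebra R L := β.hom.toAlgebra
  have hβ : β = CommRingCat.ofHom (algebraMap R L) := rfl
  rw [hβ] at hpb
  have sq2 := isPullback_SpecMap_of_isPushout _ _ _ _ (CommRingCat.isPushout_tensorProduct R L A)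
  let eF : F ≅ Spec (CommRingCat.of (L ⊗[R] A)) := hpb.isoIsPullback _ _ sq2
  have heF : eF.hom ≫ Spec.map (CommRingCat.ofHom (algebraMap L (L ⊗[R] A))) = cF :=
    hpb.isoIsPullback_hom_fst _ _ sq2
  obtain ⟨hfin, hle⟩ := hm L
  haveI := hfin
  exact (finDeg_model_iff cF eF heF m).2 hle

theorem exists_fibDegLE_of_etale_of_isAffine {W U : Scheme.{u}} (f : W ⟶ U) [Etale f]
    [IsAffine W] [IsAffine U] : ∃ m : ℕ, FibDegLE m f := by
  have h1 : f.appTop.hom.Etale := HasRingHomProperty.appTop (P := @Etale) f inferInstance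
  algebraize [f.appTop.hom]
  obtain ⟨m, hm⟩ := exists_fibDegLE_specMap Γ(U, ⊤) Γ(W, ⊤)
  refine ⟨m, ?_⟩
  have h2 : f = W.isoSpec.hom ≫ Spec.map (CommRingCat.ofHom (algebraMap Γ(U, ⊤) Γ(W, ⊤))) ≫
      U.isoSpec.inv := by
    have h3 : CommRingCat.ofHom (algebraMap Γ(U, ⊤) Γ(W, ⊤)) = f.appTop := rfl
    rw [h3, ← Category.assoc, Scheme.isoSpec_hom_naturality, Category.assoc, Iso.hom_inv_id,
      Category.comp_id]
  rw [h2]
  exact hm.of_iso W.isoSpec U.isoSpec.symm

variable {S : Scheme.{u}}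

/-- an étale morphism of schemes with quasi-compact source has universally bounded fibres. -/
theorem hasUnivBddFibres_of_etale_of_compact {W U : Over S} (f : W ⟶ U) [Etale f.left]
    [CompactSpace ↥W.left] : W4dec.HasUnivBddFibres ((AlgSp.yon S).map f) := by
  apply hasUnivBddFibres_of_open_cover
  intro w
  obtain ⟨_, ⟨U₀', hU₀, rfl⟩, hwU, -⟩ := (U.left.isBasis_affineOpens).exists_subset_of_mem_open
    (Set.mem_univ (f.left w)) isOpen_univ
  let U₀ : U.left.Opens := U₀'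
  obtain ⟨_, ⟨V', hV, rfl⟩, hwV, hVU⟩ := (W.left.isBasis_affineOpens).exists_subset_of_mem_open
    (show w ∈ (f.left ⁻¹ᵁ U₀ : Set ↥W.left) from hwU) (f.left ⁻¹ᵁ U₀).isOpen
  let V : W.left.Opens := V'
  have hVU' : V ≤ f.left ⁻¹ᵁ U₀ := hVU
  let g : (V : Scheme.{u}) ⟶ (U₀ : Scheme.{u}) := f.left.resLE U₀ V hVU'
  have hg : g ≫ U₀.ι = V.ι ≫ f.left := Scheme.Hom.resLE_comp_ι f.left hVU'
  haveI : IsAffine (V : Scheme.{u}) := hV
  haveI : IsAffine (U₀ : Scheme.{u}) := hU₀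
  obtain ⟨m, hm⟩ := exists_fibDegLE_of_etale_of_isAffine g
  let VO : Over S := Over.mk (V.ι ≫ W.hom)
  let UO : Over S := Over.mk (U₀.ι ≫ U.hom)
  let gO : VO ⟶ UO := Over.homMk g (by
    show g ≫ U₀.ι ≫ U.hom = V.ι ≫ W.hom
    rw [← Category.assoc, hg, Category.assoc, Over.w f])
  let jO : UO ⟶ U := Over.homMk U₀.ι rfl
  let kO : VO ⟶ W := Over.homMk V.ι rfl
  have hcomm : gO ≫ jO = kO ≫ f := by
    ext; exact hg
  have h1 : W4dec.DegFibresLE m ((AlgSp.yon S).map gO) := degFibresLE_of_fibDegLE gO hm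
  have hj : AlgSp.RepWith @IsOpenImmersion ((AlgSp.yon S).map jO) :=
    (AlgSp.repWith_yon_map_iff _ _).2 (inferInstance : IsOpenImmersion U₀.ι)
  have h2 := degFibresLE_comp_openImmersion _ hj _ h1
  rw [← Functor.map_comp, hcomm, Functor.map_comp] at h2
  exact ⟨V, m, hwV, h2⟩

end Groth.Agent.Lib.T2H1.UnivBdd
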