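import Mathlib
import Groth.Agent.Lib.T2H1UnivBddEt

/-! # Bounded fibre cardinality and the complement of the diagonal (helper1, team 2)

Scheme-level preparations for the degree induction used to show that an open of a separated locally
quasi-finite algebraic space which becomes quasi-affine after an étale base change is a scheme. -/

set_option autoImplicit false
universe u
open CategoryTheory CategoryTheory.Limits AlgebraicGeometry TopologicalSpace

namespace Groth.Agent.Lib.T2H1.QOpenSch

open Groth.Agent.Lib.T2H1.UnivBdd

/-- the fibres of `a` over field valued points have at most `n` points. -/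
def FibCardLE (n : ℕ) {T T' : Scheme.{u}} (a : T ⟶ T') : Prop :=
  ∀ (L : Type u) [Field L] (y : Spec (CommRingCat.of L) ⟶ T') (F : Scheme.{u})
    (cF : F ⟶ Spec (CommRingCat.of L)) (sF : F ⟶ T), IsPullback cF sF y a →
      Finite F ∧ Nat.card F ≤ n

lemma FibCardLE.of_fibDegLE {n : ℕ} {T T' : Scheme.{u}} {a : T ⟶ T'} (h : FibDegLE n a) :
    FibCardLE n a := fun L _ y F cF sF hpb => (h L y F cF sF hpb).card_le

/-- an étale morphism of affine schemes has fibres of bounded cardinality. -/
theorem exists_fibCardLE {W U : Scheme.{u}} (f : W ⟶ U) [Etale f] [IsAffine W] [IsAffine U] :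
    ∃ m : ℕ, FibCardLE m f := by
  obtain ⟨m, hm⟩ := exists_fibDegLE_of_etale_of_isAffine f
  exact ⟨m, FibCardLE.of_fibDegLE hm⟩

/-- fibres with no points: the source is empty. -/
lemma isEmpty_of_fibCardLE_zero {T T' : Scheme.{u}} {a : T ⟶ T'} (h : FibCardLE 0 a) :
    IsEmpty T := by
  constructor
  intro t
  obtain ⟨hfin, hcard⟩ := h _ (T'.fromSpecResidueField (a t)) _ _ (a.fiberι (a t))
    (IsPullback.of_hasPullback _ _).flip
  haveI := hfin
  have hne : Nonempty ↥(a.fiber (a t)) := by
    have : t ∈ Set.range (a.fiberι (a t)) := by
      rw [Scheme.Hom.range_fiberι]; rfl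
    obtain ⟨z, -⟩ := this
    exact ⟨z⟩
  have := Nat.card_pos (α := ↥(a.fiber (a t)))
  omega

section Diagonal

variable {T T' : Scheme.{u}} (e : T' ⟶ T)

/-- the complement of the diagonal in `T' ×_T T'`, for `e` étale and separated. -/
noncomputable def offDiag [Etale e] [IsSeparated e] : (pullback e e).Opens :=
  ⟨(Set.range (pullback.diagonal e))ᶜ,
    (pullback.diagonal e).isClosedEmbedding.isClosed_range.isOpen_compl⟩

lemma mem_offDiag [Etale e] [IsSeparated e] (x : ↥(pullback e e)) :
    x ∈ offDiag e ↔ x ∉ Set.range (pullback.diagonal e) := Iff.rfl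

lemma isClosed_offDiag [Etale e] [IsSeparated e] : IsClosed ((offDiag e : (pullback e e).Opens) :
    Set ↥(pullback e e)) := by
  show IsClosed (Set.range (pullback.diagonal e))ᶜ
  rw [isClosed_compl_iff]
  exact (pullback.diagonal e).isOpenEmbedding.isOpen_range

instance isAffine_offDiag [Etale e] [IsSeparated e] [IsAffine T] [IsAffine T'] :
    IsAffine (offDiag e).toScheme := by
  haveI : IsClosedImmersion (offDiag e).ι :=
    IsClosedImmersion.of_isPreimmersion _ (by
      rw [Scheme.Opens.range_ι]
      exact isClosed_offDiag e)
  exact isAffine_of_isAffineHom (offDiag e).ι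

/-- the first projection restricted to the complement of the diagonal. -/
noncomputable def offDiagFst [Etale e] [IsSeparated e] : (offDiag e).toScheme ⟶ T' :=
  (offDiag e).ι ≫ pullback.fst e e

/-- the second projection restricted to the complement of the diagonal. -/
noncomputable def offDiagSnd [Etale e] [IsSeparated e] : (offDiag e).toScheme ⟶ T' :=
  (offDiag e).ι ≫ pullback.snd e e

lemma offDiag_condition [Etale e] [IsSeparated e] : offDiagFst e ≫ e = offDiagSnd e ≫ e := by
  simp only [offDiagFst, offDiagSnd, Category.assoc, pullback.condition]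

instance [Etale e] [IsSeparated e] : Etale (offDiagFst e) := by
  unfold offDiagFst
  infer_instance

/-- the complement of the diagonal has fibres with one point less. -/
theorem fibCardLE_offDiagFst [Etale e] [IsSeparated e] {n : ℕ} (h : FibCardLE (n + 1) e) :
    FibCardLE n (offDiagFst e) := by
  intro L _ y F cF sF hpb
  -- the fibre of the first projection
  have sq1 : IsPullback (pullback.fst y (pullback.fst e e))
      (pullback.snd y (pullback.fst e e) ≫ pullback.snd e e) (y ≫ e) e :=
    (IsPullback.of_hasPullback y (pullback.fst e e)).paste_vert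
      (IsPullback.of_hasPullback e e)
  obtain ⟨hfin, hcard⟩ := h L (y ≫ e) _ _ _ sq1
  haveI := hfin
  -- the section given by the diagonal
  let σ : Spec (CommRingCat.of L) ⟶ pullback y (pullback.fst e e) :=
    pullback.lift (𝟙 _) (y ≫ pullback.diagonal e) (by simp)
  let pt : ↥(Spec (CommRingCat.of L)) := IsLocalRing.closedPoint L
  -- the map from the fibre of the complement
  let κ : F ⟶ pullback y (pullback.fst e e) :=
    pullback.lift cF (sF ≫ (offDiag e).ι) (by
      have := hpb.w
      simp only [offDiagFst] at this
      rw [this, Category.assoc])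
  have hκ : IsPullback κ sF (pullback.snd y (pullback.fst e e)) (offDiag e).ι := by
    refine IsPullback.of_right (h₁₂ := pullback.fst y (pullback.fst e e))
      (v₁₃ := y) (h₂₂ := pullback.fst e e) ?_ (pullback.lift_snd _ _ _)
      (IsPullback.of_hasPullback y (pullback.fst e e))
    rw [pullback.lift_fst]
    exact hpb
  haveI : IsOpenImmersion κ := MorphismProperty.of_isPullback (P := @IsOpenImmersion) hκ.flip
    inferInstance
  have hinj : Function.Injective κ := κ.isOpenEmbedding.injective
  let g : Option ↥F → ↥(pullback y (pullback.fst e e)) := fun o => o.elim (σ pt) κ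
  have hg : Function.Injective g := by
    rintro (_ | a) (_ | b) hab
    · rfl
    · exfalso
      have h1 : (pullback.snd y (pullback.fst e e)) (κ b) ∈ offDiag e := by
        have h2 : κ ≫ pullback.snd y (pullback.fst e e) = sF ≫ (offDiag e).ι :=
          pullback.lift_snd _ _ _
        have h3 : (pullback.snd y (pullback.fst e e)) (κ b) = (offDiag e).ι (sF b) := by
          rw [← Scheme.Hom.comp_apply, h2, Scheme.Hom.comp_apply]
        rw [h3]
        exact (sF b).2
      have h4 : (pullback.snd y (pullback.fst e e)) (σ pt) ∈
          Set.range (pullback.diagonal e) := by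
        have h5 : σ ≫ pullback.snd y (pullback.fst e e) = y ≫ pullback.diagonal e :=
          pullback.lift_snd _ _ _
        rw [← Scheme.Hom.comp_apply, h5, Scheme.Hom.comp_apply]
        exact ⟨_, rfl⟩
      have hab' : σ pt = κ b := hab
      rw [hab'] at h4
      exact h1 h4
    · exfalso
      have h1 : (pullback.snd y (pullback.fst e e)) (κ a) ∈ offDiag e := by
        have h2 : κ ≫ pullback.snd y (pullback.fst e e) = sF ≫ (offDiag e).ι :=
          pullback.lift_snd _ _ _
        have h3 : (pullback.snd y (pullback.fst e e)) (κ a) = (offDiag e).ι (sF a) := by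
          rw [← Scheme.Hom.comp_apply, h2, Scheme.Hom.comp_apply]
        rw [h3]
        exact (sF a).2
      have h4 : (pullback.snd y (pullback.fst e e)) (σ pt) ∈
          Set.range (pullback.diagonal e) := by
        have h5 : σ ≫ pullback.snd y (pullback.fst e e) = y ≫ pullback.diagonal e :=
          pullback.lift_snd _ _ _
        rw [← Scheme.Hom.comp_apply, h5, Scheme.Hom.comp_apply]
        exact ⟨_, rfl⟩
      have hab' : κ a = σ pt := hab
      rw [← hab'] at h4
      exact h1 h4
    · have : κ a = κ b := hab
      rw [hinj this]
  haveI : Finite (Option ↥F) := Finite.of_injective g hg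
  haveI : Finite ↥F := Finite.of_injective (Option.some : ↥F → Option ↥F) (Option.some_injective _)
  refine ⟨inferInstance, ?_⟩
  have h1 : Nat.card (Option ↥F) ≤ Nat.card ↥(pullback y (pullback.fst e e)) :=
    Nat.card_le_card_of_injective g hg
  have h2 : Nat.card (Option ↥F) = Nat.card ↥F + 1 := Finite.card_option
  omega

end Diagonal

end Groth.Agent.Lib.T2H1.QOpenSch
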