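import Mathlib
import Groth.Prelude.Def_AlgSp4
import Groth.Agent.Lib.T2H1QOpenSchA
import Groth.Agent.Lib.Helper12ZarGlue2
import Groth.Agent.Lib.Helper12OpenSub2
import Groth.Agent.S10175

/-! # Saturation of an open under an étale base change, sheaf level (helper1, team 2) -/

set_option autoImplicit false
universe u
open CategoryTheory CategoryTheory.Limits AlgebraicGeometry TopologicalSpace Opposite
open AlgSp

namespace Groth.Agent.Lib.T2H1.QOpenSch

variable {S : Scheme.{u}}

/-- a morphism from a quasi-affine scheme to an affine scheme is quasi-affine as a morphism of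
sheaves. -/
theorem isQuasiAffineMor_yon_map {A B : Over S} (m : A ⟶ B) [IsAffine B.left]
    [A.left.IsQuasiAffine] : AlgSp.IsQuasiAffineMor ((AlgSp.yon S).map m) := by
  intro Z hZ g
  haveI := hZ
  obtain ⟨g₀, rfl⟩ := (AlgSp.yon S).map_surjective g
  let W : Over S := pullback m g₀
  have sqO : IsPullback (pullback.fst m g₀) (pullback.snd m g₀) m g₀ := IsPullback.of_hasPullback _ _
  have sqL : IsPullback (pullback.fst m g₀).left (pullback.snd m g₀).left m.left g₀.left :=
    sqO.map (Over.forget S)
  haveI : IsAffineHom g₀.left := inferInstance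
  haveI : IsAffineHom (pullback.fst m g₀).left :=
    MorphismProperty.of_isPullback (P := @IsAffineHom) sqL.flip inferInstance
  refine ⟨W, pullback.snd m g₀, (AlgSp.yon S).map (pullback.fst m g₀), sqO.map (AlgSp.yon S), ?_⟩
  exact Scheme.IsQuasiAffine.of_isAffineHom (pullback.fst m g₀).left

section Saturation

variable {T T' : Over S} (e : T' ⟶ T) [Etale e.left] [IsSeparated e.left]

/-- the complement of the diagonal, over `S`. -/
noncomputable def offDiagOver : Over S :=
  Over.mk (offDiagFst e.left ≫ T'.hom)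

/-- the first projection. -/
noncomputable def offDiagPr₁ : offDiagOver e ⟶ T' := Over.homMk (offDiagFst e.left) rfl

/-- the second projection. -/
noncomputable def offDiagPr₂ : offDiagOver e ⟶ T' := Over.homMk (offDiagSnd e.left) (by
  show offDiagSnd e.left ≫ T'.hom = offDiagFst e.left ≫ T'.hom
  rw [← Over.w e, ← Category.assoc, ← Category.assoc, offDiag_condition])

lemma offDiagPr_condition : offDiagPr₁ e ≫ e = offDiagPr₂ e ≫ e := by
  apply Over.OverMorphism.ext
  exact offDiag_condition e.left

variable {X P Pst V' Vst : AlgSp.Sp S} {f : X ⟶ (AlgSp.yon S).obj T}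
  {p1 : P ⟶ (AlgSp.yon S).obj T'} {p2 : P ⟶ X}
  (sq : IsPullback p2 p1 f ((AlgSp.yon S).map e))
  {τ : Pst ⟶ (AlgSp.yon S).obj (offDiagOver e)} {q1 : Pst ⟶ P}
  (sqst : IsPullback q1 τ p1 ((AlgSp.yon S).map (offDiagPr₁ e)))
  {q2 : Pst ⟶ P} (hq2a : q2 ≫ p2 = q1 ≫ p2)
  (hq2b : q2 ≫ p1 = τ ≫ (AlgSp.yon S).map (offDiagPr₂ e))
  {j : V' ⟶ P} {jst : Vst ⟶ Pst} {r : Vst ⟶ V'} (sqV : IsPullback jst r q2 j)

include sq sqst hq2a hq2b sqV in
/-- the saturation of an open `V'` of `P = X ×_T T'` with respect to `P ⟶ X` is the union of `V'`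
and the image of its pullback to the part of `P ×_X P` lying over the complement of the diagonal
of `T'/T`. -/
theorem preimage_range_eq :
    AlgSp.Points.map p2 ⁻¹' Set.range (AlgSp.Points.map (j ≫ p2)) =
      Set.range (AlgSp.Points.map j) ∪ Set.range (AlgSp.Points.map (jst ≫ q1)) := by
  ext x
  constructor
  · rintro ⟨v, hv⟩
    rw [AlgSp.Points.map_comp] at hv
    have sqQ := IsPullback.of_hasPullback p2 (j ≫ p2)
    obtain ⟨z, hz1, hz2⟩ := Groth.Agent.S10175.exists_point_of_isPullback sqQ x v (by
      rw [AlgSp.Points.map_comp]; exact hv.symm)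
    induction z using AlgSp.Points.ind with | h c => ?_
    let s : ↥c.pt.left := IsLocalRing.closedPoint c.K
    obtain ⟨a, b, hab, hxa, hvb⟩ : ∃ (a : (AlgSp.yon S).obj c.pt ⟶ P)
        (b : (AlgSp.yon S).obj c.pt ⟶ V'), a ≫ p2 = b ≫ j ≫ p2 ∧
        (∀ t, AlgSp.Points.ofPt a t = x) ∧ (∀ t, AlgSp.Points.ofPt b t = v) := by
      refine ⟨c.toHom ≫ pullback.fst p2 (j ≫ p2), c.toHom ≫ pullback.snd p2 (j ≫ p2), ?_, ?_, ?_⟩
      · simp only [Category.assoc]
        rw [pullback.condition]
      · intro t
        rw [← AlgSp.Points.map_ofPt, AlgSp.Points.ofPt_toHom]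
        exact hz1
      · intro t
        rw [← AlgSp.Points.map_ofPt, AlgSp.Points.ofPt_toHom]
        exact hz2
    obtain ⟨α, hα⟩ := (AlgSp.yon S).map_surjective (a ≫ p1)
    obtain ⟨β, hβ⟩ := (AlgSp.yon S).map_surjective (b ≫ j ≫ p1)
    have hαβ : α ≫ e = β ≫ e := by
      apply (AlgSp.yon S).map_injective
      rw [Functor.map_comp, Functor.map_comp, hα, hβ, Category.assoc, ← sq.w, ← Category.assoc, hab]
      simp only [Category.assoc]
      rw [sq.w]
    have hαβl : α.left ≫ e.left = β.left ≫ e.left := congrArg (fun m => m.left) hαβ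
    let γ : c.pt.left ⟶ pullback e.left e.left := pullback.lift α.left β.left hαβl
    have hrange : Set.range γ = {γ s} := by
      ext y
      constructor
      · rintro ⟨t, rfl⟩
        have : t = s :=
          ((PrimeSpectrum.instUnique (R := c.K)).uniq t).trans
            ((PrimeSpectrum.instUnique (R := c.K)).uniq s).symm
        rw [this]; rfl
      · rintro rfl
        exact ⟨s, rfl⟩
    by_cases hγ : γ s ∈ Set.range (pullback.diagonal e.left)
    · -- the diagonal case
      left
      have hsub : Set.range γ ⊆ Set.range (pullback.diagonal e.left) := by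
        rw [hrange]
        exact Set.singleton_subset_iff.2 hγ
      let δ : c.pt.left ⟶ T'.left := IsOpenImmersion.lift (pullback.diagonal e.left) γ hsub
      have hδ : δ ≫ pullback.diagonal e.left = γ := IsOpenImmersion.lift_fac _ _ _
      have h1 : α.left = δ := by
        have := congrArg (fun m => m ≫ pullback.fst e.left e.left) hδ
        simp only [Category.assoc, pullback.diagonal_fst, Category.comp_id, γ,
          pullback.lift_fst] at this
        exact this.symm
      have h2 : β.left = δ := by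
        have := congrArg (fun m => m ≫ pullback.snd e.left e.left) hδ
        simp only [Category.assoc, pullback.diagonal_snd, Category.comp_id, γ,
          pullback.lift_snd] at this
        exact this.symm
      have h3 : α = β := Over.OverMorphism.ext (h1.trans h2.symm)
      have h4 : a = b ≫ j := by
        apply sq.hom_ext
        · rw [hab, Category.assoc]
        · rw [← hα, h3, hβ, Category.assoc]
      refine ⟨v, ?_⟩
      rw [← hvb s, AlgSp.Points.map_ofPt, ← h4]
      exact hxa s
    · -- the off-diagonal case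
      right
      have hsub : Set.range γ ⊆ Set.range (offDiag e.left).ι := by
        rw [hrange, Scheme.Opens.range_ι]
        exact Set.singleton_subset_iff.2 hγ
      let δ : c.pt.left ⟶ (offDiag e.left).toScheme :=
        IsOpenImmersion.lift (offDiag e.left).ι γ hsub
      have hδ : δ ≫ (offDiag e.left).ι = γ := IsOpenImmersion.lift_fac _ _ _
      have hδ1 : δ ≫ offDiagFst e.left = α.left := by
        unfold offDiagFst
        rw [← Category.assoc, hδ]
        exact pullback.lift_fst _ _ _
      have hδ2 : δ ≫ offDiagSnd e.left = β.left := by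
        unfold offDiagSnd
        rw [← Category.assoc, hδ]
        exact pullback.lift_snd _ _ _
      let δO : c.pt ⟶ offDiagOver e := Over.homMk δ (by
        show δ ≫ offDiagFst e.left ≫ T'.hom = c.pt.hom
        rw [← Category.assoc, hδ1]
        exact Over.w α)
      have hδO1 : δO ≫ offDiagPr₁ e = α := Over.OverMorphism.ext hδ1
      have hδO2 : δO ≫ offDiagPr₂ e = β := Over.OverMorphism.ext hδ2
      let ast : (AlgSp.yon S).obj c.pt ⟶ Pst := sqst.lift a ((AlgSp.yon S).map δO) (by
        rw [← Functor.map_comp, hδO1, hα])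
      have hast1 : ast ≫ q1 = a := sqst.lift_fst _ _ _
      have hast2 : ast ≫ τ = (AlgSp.yon S).map δO := sqst.lift_snd _ _ _
      have hast3 : ast ≫ q2 = b ≫ j := by
        apply sq.hom_ext
        · rw [Category.assoc, hq2a, ← Category.assoc, hast1, hab, Category.assoc]
        · rw [Category.assoc, hq2b, ← Category.assoc, hast2, ← Functor.map_comp, hδO2, hβ,
            Category.assoc]
      let bst : (AlgSp.yon S).obj c.pt ⟶ Vst := sqV.lift ast b hast3
      have hbst : bst ≫ jst = ast := sqV.lift_fst _ _ _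
      refine ⟨AlgSp.Points.ofPt bst s, ?_⟩
      rw [AlgSp.Points.map_ofPt, ← Category.assoc, hbst, hast1]
      exact hxa s
  · rintro (⟨v, rfl⟩ | ⟨v, rfl⟩)
    · exact ⟨v, by rw [AlgSp.Points.map_comp]⟩
    · refine ⟨AlgSp.Points.map r v, ?_⟩
      rw [← AlgSp.Points.map_comp, ← AlgSp.Points.map_comp, ← Category.assoc, ← sqV.w,
        Category.assoc, hq2a, Category.assoc]

end Saturation

/-- a sheaf covered by two open subfunctors which are schemes is a scheme. -/
theorem exists_iso_of_two_opens {G : AlgSp.Sp S} {A B : Over S} (a : (AlgSp.yon S).obj A ⟶ G)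
    (b : (AlgSp.yon S).obj B ⟶ G) (ha : AlgSp.RepWith @IsOpenImmersion a)
    (hb : AlgSp.RepWith @IsOpenImmersion b)
    (hcov : ∀ x : AlgSp.Points G,
      x ∈ Set.range (AlgSp.Points.map a) ∨ x ∈ Set.range (AlgSp.Points.map b)) :
    ∃ (W : Over S) (ε : (AlgSp.yon S).obj W ≅ G) (kA : A ⟶ W) (kB : B ⟶ W),
      (AlgSp.yon S).map kA ≫ ε.hom = a ∧ (AlgSp.yon S).map kB ≫ ε.hom = b ∧
      IsOpenImmersion kA.left ∧ IsOpenImmersion kB.left ∧
      ∀ w : W.left, w ∈ Set.range kA.left ∨ w ∈ Set.range kB.left := by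
  let X : ULift.{u} Bool → Over S := fun i => if i.down then A else B
  let f : ∀ i, (AlgSp.yon S).obj (X i) ⟶ G := fun i =>
    match i with
    | ⟨true⟩ => a
    | ⟨false⟩ => b
  have hf : ∀ i, AlgSp.RepWith @IsOpenImmersion (f i) := by
    rintro ⟨_ | _⟩
    · exact hb
    · exact ha
  have hs : Groth.Agent.Lib.Helper12.ZarGlue.JointlySurjective hf := by
    intro T g t
    rcases hcov (AlgSp.Points.ofPt g t) with h | h
    · refine ⟨⟨true⟩, ?_⟩
      exact Groth.Agent.Lib.Helper12.ZarGlue.mem_range_of_mem_range_map a g _ _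
        ((hf ⟨true⟩).rep.isPullback g) t h
    · refine ⟨⟨false⟩, ?_⟩
      exact Groth.Agent.Lib.Helper12.ZarGlue.mem_range_of_mem_range_map b g _ _
        ((hf ⟨false⟩).rep.isPullback g) t h
  obtain ⟨W, ε, k, hk, hko⟩ := Groth.Agent.Lib.Helper12.ZarGlue.exists_iso hf hs
  refine ⟨W, ε, k ⟨true⟩, k ⟨false⟩, hk ⟨true⟩, hk ⟨false⟩, hko ⟨true⟩, hko ⟨false⟩, ?_⟩
  intro w
  -- the point `w` of `W` lies in one of the two opens
  have hw := hcov (AlgSp.Points.map ε.hom (AlgSp.Points.schemeHomeo W w))
  have key : ∀ (C : Over S) (c : (AlgSp.yon S).obj C ⟶ G) (kC : C ⟶ W),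
      (AlgSp.yon S).map kC ≫ ε.hom = c →
      AlgSp.Points.map ε.hom (AlgSp.Points.schemeHomeo W w) ∈ Set.range (AlgSp.Points.map c) →
      w ∈ Set.range kC.left := by
    intro C c kC hkC ⟨y, hy⟩
    obtain ⟨z, rfl⟩ := (AlgSp.Points.schemeHomeo C).surjective y
    refine ⟨z, ?_⟩
    apply (AlgSp.Points.schemeHomeo W).injective
    rw [← AlgSp.Points.map_yon_map_apply]
    have hinj : Function.Injective (AlgSp.Points.map ε.hom) := by
      intro p q hpq
      have := congrArg (AlgSp.Points.map ε.inv) hpq
      rwa [← AlgSp.Points.map_comp, ← AlgSp.Points.map_comp, ε.hom_inv_id,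
        AlgSp.Points.map_id, AlgSp.Points.map_id] at this
    apply hinj
    rw [← AlgSp.Points.map_comp, hkC]
    exact hy
  rcases hw with h | h
  · exact Or.inl (key A a _ (hk ⟨true⟩) h)
  · exact Or.inr (key B b _ (hk ⟨false⟩) h)

end Groth.Agent.Lib.T2H1.QOpenSch
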