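import Mathlib

/-!
# Finite approximation of an integral algebra near a quasi-compact open (ring part of the
finite form of Zariski's main theorem over an affine base)
-/

set_option autoImplicit false

universe u

namespace Groth.Agent.Lib.T2H3.ZMTFin

section ring

variable {R R' : Type u} [CommRing R] [CommRing R'] [Algebra R R']

/-- if `A ⊆ R'` is a subalgebra containing `h`, and `R'[1/h]` is generated over `R` by fractions
`b / h ^ n` with `b ∈ A`, then `R'[1/h]` is the localization of `A` at `h`. -/
theorem isLocalization_away_subalgebra (A : Subalgebra R R') (h : R') (hh : h ∈ A)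
    (G : Set (Localization.Away h)) (hG : Algebra.adjoin R G = ⊤)
    (hGA : ∀ g ∈ G, ∃ b ∈ A, ∃ n : ℕ,
      g * algebraMap R' (Localization.Away h) h ^ n = algebraMap R' (Localization.Away h) b) :
    IsLocalization.Away (⟨h, hh⟩ : A) (Localization.Away h) := by
  have hmap : ∀ a : A, algebraMap A (Localization.Away h) a =
      algebraMap R' (Localization.Away h) (a : R') := fun a => rfl
  have hunit : IsUnit (algebraMap R' (Localization.Away h) h) :=
    IsLocalization.Away.algebraMap_isUnit h
  refine IsLocalization.Away.mk _ ?_ ?_ ?_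
  · rw [hmap]; exact hunit
  · -- surjectivity
    let M : Subalgebra R (Localization.Away h) :=
      { carrier := {z | ∃ (n : ℕ) (a : A), z * algebraMap R' (Localization.Away h) h ^ n =
          algebraMap R' (Localization.Away h) (a : R')}
        mul_mem' := by
          rintro z z' ⟨n, a, ha⟩ ⟨n', a', ha'⟩
          refine ⟨n + n', a * a', ?_⟩
          rw [pow_add, mul_mul_mul_comm, ha, ha', Subalgebra.coe_mul, map_mul]
        add_mem' := by
          rintro z z' ⟨n, a, ha⟩ ⟨n', a', ha'⟩
          refine ⟨n + n', a * ⟨h, hh⟩ ^ n' + a' * ⟨h, hh⟩ ^ n, ?_⟩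
          rw [Subalgebra.coe_add, Subalgebra.coe_mul, Subalgebra.coe_mul, Subalgebra.coe_pow,
            Subalgebra.coe_pow, map_add, map_mul, map_mul, map_pow, map_pow, ← ha, ← ha', pow_add]
          ring
        algebraMap_mem' := by
          intro r
          refine ⟨0, algebraMap R A r, ?_⟩
          rw [pow_zero, mul_one]
          rw [IsScalarTower.algebraMap_apply R R' (Localization.Away h)]
          rfl }
    have hM : M = ⊤ := by
      rw [eq_top_iff, ← hG]
      apply Algebra.adjoin_le
      intro g hg
      obtain ⟨b, hb, n, hbn⟩ := hGA g hg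
      exact ⟨n, ⟨b, hb⟩, hbn⟩
    intro z
    have hz : z ∈ M := by rw [hM]; exact Algebra.mem_top
    obtain ⟨n, a, ha⟩ := hz
    exact ⟨n, a, by rw [hmap, hmap]; exact ha⟩
  · intro a b hab
    rw [hmap, hmap] at hab
    obtain ⟨⟨_, n, rfl⟩, hc⟩ := IsLocalization.exists_of_eq (M := Submonoid.powers h) hab
    refine ⟨n, ?_⟩
    apply Subtype.ext
    rw [Subalgebra.coe_mul, Subalgebra.coe_mul, Subalgebra.coe_pow]
    exact hc

/-- **Finite approximation of an integral algebra near a quasi-compact open.**  Let `R'` be an integral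
`R`-algebra and `s` a finite set of elements of `R'` such that each `R'[1/h]`, `h ∈ s`, is an `R`-algebra
of finite type.  Then there is a finite `R`-subalgebra `A` of `R'` containing `s` such that
`R'[1/h]` is the localization of `A` at `h` for each `h ∈ s`. -/
theorem exists_finite_subalgebra_isLocalization [Algebra.IsIntegral R R'] (s : Finset R')
    (hs : ∀ h ∈ s, Algebra.FiniteType R (Localization.Away h)) :
    ∃ A : Subalgebra R R', Module.Finite R A ∧ ∃ hsA : ∀ h ∈ s, h ∈ A,
      ∀ h (hh : h ∈ s), IsLocalization.Away (⟨h, hsA h hh⟩ : A) (Localization.Away h) := by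
  classical
  -- for each `h`, choose finite generators and numerators
  have key : ∀ h ∈ s, ∃ B : Finset R', ∃ G : Set (Localization.Away h), Algebra.adjoin R G = ⊤ ∧
      ∀ g ∈ G, ∃ b ∈ B, ∃ n : ℕ,
        g * algebraMap R' (Localization.Away h) h ^ n = algebraMap R' (Localization.Away h) b := by
    intro h hh
    obtain ⟨G, hG⟩ := (hs h hh).out
    choose n b hnb using fun g : Localization.Away h => IsLocalization.Away.surj h g
    refine ⟨G.image b, (G : Set _), hG, ?_⟩
    intro g hg
    exact ⟨b g, Finset.mem_image_of_mem b hg, n g, hnb g⟩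
  choose! B G hG hB using key
  let t : Finset R' := s ∪ s.biUnion B
  refine ⟨Algebra.adjoin R (t : Set R'), ?_, ?_, ?_⟩
  · exact Algebra.finite_adjoin_of_finite_of_isIntegral t.finite_toSet
      (fun x _ => Algebra.IsIntegral.isIntegral x)
  · intro h hh
    exact Algebra.subset_adjoin (Finset.mem_union_left _ hh)
  · intro h hh
    refine isLocalization_away_subalgebra _ h _ (G h) (hG h hh) ?_
    intro g hg
    obtain ⟨b, hb, n, hbn⟩ := hB h hh g hg
    refine ⟨b, Algebra.subset_adjoin (Finset.mem_union_right _ ?_), n, hbn⟩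
    exact Finset.mem_biUnion.mpr ⟨h, hh, hb⟩

end ring

end Groth.Agent.Lib.T2H3.ZMTFin
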