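import Mathlib
import Groth.Agent.Lib.T2H3ZMTRing

/-!
# Zariski's main theorem in its finite form over an affine base

A quasi-finite separated morphism of finite type to an affine scheme factors as an open immersion
followed by a finite morphism (`exists_finite_factorization`).  Mathlib has the open immersion into the
(integral) relative normalization; here the integral algebra is replaced by a finite subalgebra.
-/

set_option autoImplicit false

universe u

open AlgebraicGeometry CategoryTheory Limits

namespace Groth.Agent.Lib.T2H3.ZMTFin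

set_option linter.style.haveILetI false
set_option linter.unusedVariables false

/-- ring form: an integral `R`-algebra `R'` with a quasi-compact open of `Spec R'` of finite type over
`R` can be replaced by a finite subalgebra. -/
theorem exists_finite_factorization_of_integral {R R' : CommRingCat.{u}} (φ : R ⟶ R')
    (hφ : φ.hom.IsIntegral) {X : Scheme.{u}} [CompactSpace X] (j : X ⟶ Spec R') [IsOpenImmersion j]
    [LocallyOfFiniteType (j ≫ Spec.map φ)] :
    ∃ (R'' : CommRingCat.{u}) (ψ : R ⟶ R'') (χ : R'' ⟶ R'), ψ.hom.Finite ∧ ψ ≫ χ = φ ∧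
      IsOpenImmersion (j ≫ Spec.map χ) := by
  classical
  algebraize [φ.hom]
  have hcU : IsCompact (Set.range j) := isCompact_range j.continuous
  have hoU : IsOpen (Set.range j) := j.isOpenEmbedding.isOpen_range
  obtain ⟨s0, hs0fin, hs0⟩ := (isCompact_open_iff_eq_finite_iUnion_of_isTopologicalBasis
    (fun h : R' => (PrimeSpectrum.basicOpen h : Set (PrimeSpectrum R')))
    PrimeSpectrum.isTopologicalBasis_basic_opens (fun h => PrimeSpectrum.isCompact_basicOpen h)
    (Set.range j)).mp ⟨hcU, hoU⟩
  set s : Finset R' := hs0fin.toFinset with hsdef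
  have hmem : ∀ h, h ∈ s ↔ h ∈ s0 := fun h => hs0fin.mem_toFinset
  have hcover : ∀ p : Spec R', p ∈ Set.range j ↔ ∃ h ∈ s, h ∉ p.asIdeal := by
    intro p
    refine (Set.ext_iff.mp hs0 p).trans ?_
    simp only [Set.mem_iUnion, exists_prop, hmem]
    rfl
  let loc : ∀ h : R', R' ⟶ CommRingCat.of (Localization.Away h) :=
    fun h => CommRingCat.ofHom (algebraMap R' (Localization.Away h))
  have hrangeloc : ∀ (h : R') (p : Spec R'), p ∈ Set.range (Spec.map (loc h)) ↔ h ∉ p.asIdeal := by
    intro h p
    have := Set.ext_iff.mp (PrimeSpectrum.localization_away_comap_range (Localization.Away h) h) p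
    exact this
  have hrange : ∀ h ∈ s, Set.range (Spec.map (loc h)) ⊆ Set.range j := by
    intro h hh p hp
    rw [hcover]
    exact ⟨h, hh, (hrangeloc h p).mp hp⟩
  let ℓ : ∀ h : s, Spec (.of (Localization.Away h.1)) ⟶ X :=
    fun h => IsOpenImmersion.lift j (Spec.map (loc h.1)) (hrange h.1 h.2)
  have hℓ : ∀ h : s, ℓ h ≫ j = Spec.map (loc h.1) := fun h => IsOpenImmersion.lift_fac _ _ _
  have hℓoi : ∀ h : s, IsOpenImmersion (ℓ h) := fun h => by
    have : IsOpenImmersion (ℓ h ≫ j) := by rw [hℓ]; infer_instance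
    exact IsOpenImmersion.of_comp (ℓ h) j
  have hft : ∀ h ∈ s, Algebra.FiniteType R (Localization.Away h) := by
    intro h hh
    have h1 : LocallyOfFiniteType (Spec.map (φ ≫ loc h)) := by
      rw [Spec.map_comp, ← hℓ ⟨h, hh⟩, Category.assoc]
      infer_instance
    have h2 : (φ ≫ loc h).hom.FiniteType := HasRingHomProperty.Spec_iff.mp h1
    have h3 : (φ ≫ loc h).hom = algebraMap R (Localization.Away h) := by
      rw [IsScalarTower.algebraMap_eq R R' (Localization.Away h)]
      rfl
    rw [h3] at h2
    exact RingHom.finiteType_algebraMap.mp h2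
  obtain ⟨A, hAfin, hsA, hloc⟩ := exists_finite_subalgebra_isLocalization s hft
  refine ⟨.of A, CommRingCat.ofHom (algebraMap R A), CommRingCat.ofHom A.val.toRingHom, ?_, ?_, ?_⟩
  · exact RingHom.finite_algebraMap.mpr hAfin
  · ext r
    rfl
  · set χ : CommRingCat.of A ⟶ R' := CommRingCat.ofHom A.val.toRingHom with hχ
    have hloc_oi : ∀ h : s, IsOpenImmersion (ℓ h ≫ j ≫ Spec.map χ) := by
      intro h
      rw [← Category.assoc, hℓ, ← Spec.map_comp]
      haveI := hloc h.1 h.2
      exact IsOpenImmersion.of_isLocalization (R := A) (S := Localization.Away h.1) ⟨h.1, hsA h.1 h.2⟩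
    have hxℓ : ∀ (x : X) (h : s), h.1 ∉ (j x).asIdeal → x ∈ Set.range (ℓ h) := by
      intro x h hx
      have : j x ∈ Set.range (Spec.map (loc h.1)) := (hrangeloc h.1 (j x)).mpr hx
      obtain ⟨y, hy⟩ := this
      refine ⟨y, j.isOpenEmbedding.injective ?_⟩
      rw [← Scheme.Hom.comp_apply, hℓ]
      exact hy
    apply IsOpenImmersion.of_forall_source_exists
    · intro x x' hxx'
      obtain ⟨h, hh, hx⟩ := (hcover (j x)).mp ⟨x, rfl⟩
      have hx' : h ∉ (j x').asIdeal := by
        intro hmem'
        apply hx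
        have e1 : ((Spec.map χ) (j x)).asIdeal = ((Spec.map χ) (j x')).asIdeal := by
          have := hxx'
          rw [Scheme.Hom.comp_apply, Scheme.Hom.comp_apply] at this
          rw [this]
        have e2 : (⟨h, hsA h hh⟩ : A) ∈ ((Spec.map χ) (j x')).asIdeal := hmem'
        rw [← e1] at e2
        exact e2
      obtain ⟨y, rfl⟩ := hxℓ x ⟨h, hh⟩ hx
      obtain ⟨y', rfl⟩ := hxℓ x' ⟨h, hh⟩ hx'
      congr 1
      haveI := hloc_oi ⟨h, hh⟩
      apply (ℓ ⟨h, hh⟩ ≫ j ≫ Spec.map χ).isOpenEmbedding.injective
      simpa only [Scheme.Hom.comp_apply] using hxx'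
    · intro x
      obtain ⟨h, hh, hx⟩ := (hcover (j x)).mp ⟨x, rfl⟩
      exact ⟨_, ℓ ⟨h, hh⟩, hℓoi _, hxℓ x ⟨h, hh⟩ hx, hloc_oi _⟩

/-- **Zariski's main theorem, finite form, over an affine base**: a quasi-finite separated
morphism to an affine scheme is an open immersion followed by a finite morphism. -/
theorem exists_finite_factorization {X Y : Scheme.{u}} [IsAffine Y] (f : X ⟶ Y)
    [LocallyQuasiFinite f] [LocallyOfFiniteType f] [QuasiCompact f] [IsSeparated f] :
    ∃ (T : Scheme.{u}) (j : X ⟶ T) (π : T ⟶ Y), IsOpenImmersion j ∧ IsFinite π ∧ j ≫ π = f := by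
  haveI : IsAffine f.normalization := isAffine_of_isAffineHom f.fromNormalization
  haveI : CompactSpace X := QuasiCompact.compactSpace_of_compactSpace f
  have hnat : f.normalization.isoSpec.hom ≫ Spec.map f.fromNormalization.appTop =
      f.fromNormalization ≫ Y.isoSpec.hom := Scheme.isoSpec_hom_naturality f.fromNormalization
  have hφ : f.fromNormalization.appTop.hom.IsIntegral := by
    have h1 : IsIntegralHom (Spec.map f.fromNormalization.appTop) := by
      have : Spec.map f.fromNormalization.appTop =
          f.normalization.isoSpec.inv ≫ f.fromNormalization ≫ Y.isoSpec.hom := by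
        rw [← hnat, Iso.inv_hom_id_assoc]
      rw [this]
      infer_instance
    exact IsIntegralHom.SpecMap_iff.mp h1
  have hj0φ : (f.toNormalization ≫ f.normalization.isoSpec.hom) ≫
      Spec.map f.fromNormalization.appTop = f ≫ Y.isoSpec.hom := by
    rw [Category.assoc, hnat, ← Category.assoc, Scheme.Hom.toNormalization_fromNormalization]
  haveI : LocallyOfFiniteType ((f.toNormalization ≫ f.normalization.isoSpec.hom) ≫
      Spec.map f.fromNormalization.appTop) := by rw [hj0φ]; infer_instance
  obtain ⟨R'', ψ, χ, hψ, hψχ, hoi⟩ := exists_finite_factorization_of_integral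
    f.fromNormalization.appTop hφ (f.toNormalization ≫ f.normalization.isoSpec.hom)
  refine ⟨Spec R'', (f.toNormalization ≫ f.normalization.isoSpec.hom) ≫ Spec.map χ,
    Spec.map ψ ≫ Y.isoSpec.inv, hoi, ?_, ?_⟩
  · haveI : IsFinite (Spec.map ψ) := (IsFinite.SpecMap_iff ψ).mpr hψ
    infer_instance
  · rw [Category.assoc, ← Category.assoc (Spec.map χ), ← Spec.map_comp, hψχ, ← Category.assoc, hj0φ,
      Category.assoc, Iso.hom_inv_id, Category.comp_id]

end Groth.Agent.Lib.T2H3.ZMTFin

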