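import Mathlib

/-!
# Flat descent of rings of functions, cosimplicial form (helper1)

`R → R'` flat, `B₀ ⇉ B₁ → B₂` a (truncated, partial) cosimplicial ring with `B₁ = B₀ ⊗ R'`
and `B₁ ⊗ R' ↪ B₂`.  Then the equalizer `A` of `B₀ ⇉ B₁` satisfies `A ⊗ R' ≅ B₀`.
-/

set_option autoImplicit false
universe u

open TensorProduct

namespace Groth.Agent.Lib.T2H1.QAffDescAlg

variable {R R' B₀ B₁ B₂ : Type u} [CommRing R] [CommRing R'] [CommRing B₀] [CommRing B₁]
  [CommRing B₂] [Algebra R R'] [Algebra R B₀] [Algebra R B₁] [Algebra R B₂]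

theorem bijective_productMap_equalizer [Module.Flat R R']
    (ι₀ : R' →ₐ[R] B₀) (d0 d1 : B₀ →ₐ[R] B₁) (del e13 e23 : B₁ →ₐ[R] B₂) (κ : R' →ₐ[R] B₂)
    (hθ : Function.Bijective (Algebra.TensorProduct.productMap d0 (d1.comp ι₀)))
    (hθ₂ : Function.Injective (Algebra.TensorProduct.productMap del κ))
    (ha : e13.comp d0 = del.comp d0) (ha' : e13.comp (d1.comp ι₀) = κ)
    (hb : e23.comp d0 = del.comp d1) (hb' : e23.comp (d1.comp ι₀) = κ)
    (he : e13.comp d1 = e23.comp d1) (hinj : Function.Injective d1) :
    Function.Bijective (Algebra.TensorProduct.productMap (AlgHom.equalizer d0 d1).val ι₀) := by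
  set A := AlgHom.equalizer d0 d1 with hA
  set can := Algebra.TensorProduct.productMap A.val ι₀ with hcan
  set θ := Algebra.TensorProduct.productMap d0 (d1.comp ι₀) with hθdef
  set θ₂ := Algebra.TensorProduct.productMap del κ with hθ₂def
  -- the inclusion `A ⊗ R' → B₀ ⊗ R'`
  have hincl_inj : Function.Injective (LinearMap.rTensor R' A.val.toLinearMap) :=
    Module.Flat.rTensor_preserves_injective_linearMap _ Subtype.val_injective
  -- key identity
  have hkey : ∀ y : A ⊗[R] R', θ (LinearMap.rTensor R' A.val.toLinearMap y) = d1 (can y) := by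
    intro y
    induction y using TensorProduct.induction_on with
    | zero => simp
    | tmul a r =>
      have hmem : d0 (a : B₀) = d1 (a : B₀) := a.2
      simp [hθdef, hcan, hmem]
    | add x y hx hy => simp only [map_add, hx, hy]
  -- compatibilities at level two
  have h13 : ∀ x : B₀ ⊗[R] R', θ₂ (LinearMap.rTensor R' d0.toLinearMap x) = e13 (θ x) := by
    intro x
    induction x using TensorProduct.induction_on with
    | zero => simp
    | tmul b r =>
      have h1 : e13 (d0 b) = del (d0 b) := congrArg (fun f => f b) ha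
      have h2 : e13 (d1 (ι₀ r)) = κ r := congrArg (fun f => f r) ha'
      simp [hθdef, hθ₂def, h1, h2]
    | add x y hx hy => simp only [map_add, hx, hy]
  have h23 : ∀ x : B₀ ⊗[R] R', θ₂ (LinearMap.rTensor R' d1.toLinearMap x) = e23 (θ x) := by
    intro x
    induction x using TensorProduct.induction_on with
    | zero => simp
    | tmul b r =>
      have h1 : e23 (d0 b) = del (d1 b) := congrArg (fun f => f b) hb
      have h2 : e23 (d1 (ι₀ r)) = κ r := congrArg (fun f => f r) hb'
      simp [hθdef, hθ₂def, h1, h2]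
    | add x y hx hy => simp only [map_add, hx, hy]
  refine ⟨fun x y hxy => ?_, fun b => ?_⟩
  · apply hincl_inj
    apply hθ.1
    rw [hkey, hkey, hxy]
  · obtain ⟨x, hx⟩ := hθ.2 (d1 b)
    -- exactness
    have hex : Function.Exact A.val.toLinearMap (d0.toLinearMap - d1.toLinearMap) := by
      intro y
      constructor
      · intro hy
        have : d0 y = d1 y := by
          have := hy
          simp only [LinearMap.sub_apply, AlgHom.toLinearMap_apply] at this
          exact sub_eq_zero.1 this
        exact ⟨⟨y, this⟩, rfl⟩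
      · rintro ⟨a, rfl⟩
        have hmem : d0 (a : B₀) = d1 (a : B₀) := a.2
        simp [hmem]
    have hex' := Module.Flat.rTensor_exact R' hex
    have hx0 : LinearMap.rTensor R' (d0.toLinearMap - d1.toLinearMap) x = 0 := by
      rw [LinearMap.rTensor_sub, LinearMap.sub_apply, sub_eq_zero]
      apply hθ₂
      rw [h13, h23, hx]
      exact congrArg (fun f => f b) he
    obtain ⟨y, hy⟩ := (hex' x).1 hx0
    refine ⟨y, ?_⟩
    apply hinj
    rw [← hkey, hy, hx]

end Groth.Agent.Lib.T2H1.QAffDescAlg
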