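import Mathlib
import Groth.Agent.Lib.T2H1QAffDescAlg

/-!
# Flat descent of the ring of global functions of a qcqs scheme (helper1)

`π : W ⟶ Z` flat morphism of affine schemes, `w : P₀ ⟶ W` with `P₀` qcqs, and a "twist"
`t : P₀ ×_Z W ⟶ P₀` (the second projection of `P₀ ×_F P₀` when `P₀ = F ×_Z W`).  Then the
equalizer `A` of `Γ(P₀) ⇉ Γ(P₀ ×_Z W)` satisfies `A ⊗_{Γ(Z)} Γ(W) = Γ(P₀)`.
-/

set_option autoImplicit false
universe u
open CategoryTheory CategoryTheory.Limits AlgebraicGeometry TensorProduct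

namespace Groth.Agent.Lib.T2H1.QAffDescSch

section Alg

variable {R R' B₀ B₁ : Type u} [CommRing R] [CommRing R'] [CommRing B₀] [CommRing B₁]
  [Algebra R R'] [Algebra R B₀] [Algebra R B₁]

lemma tensorIso_comp (d0 : B₀ →ₐ[R] B₁) (g : R' →ₐ[R] B₁)
    (w : CommRingCat.ofHom (algebraMap R B₀) ≫ CommRingCat.ofHom d0.toRingHom =
      CommRingCat.ofHom (algebraMap R R') ≫ CommRingCat.ofHom g.toRingHom) :
    (CommRingCat.isPushout_tensorProduct R B₀ R').isoPushout.hom ≫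
      pushout.desc (CommRingCat.ofHom d0.toRingHom) (CommRingCat.ofHom g.toRingHom) w =
    CommRingCat.ofHom (Algebra.TensorProduct.productMap d0 g).toRingHom := by
  apply (CommRingCat.isPushout_tensorProduct R B₀ R').hom_ext
  · rw [IsPushout.inl_isoPushout_hom_assoc, pushout.inl_desc]
    ext x
    simp
  · rw [IsPushout.inr_isoPushout_hom_assoc, pushout.inr_desc]
    ext x
    simp

lemma bijective_of_isPushout (d0 : B₀ →ₐ[R] B₁) (g : R' →ₐ[R] B₁)
    (h : IsPushout (CommRingCat.ofHom (algebraMap R B₀)) (CommRingCat.ofHom (algebraMap R R'))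
      (CommRingCat.ofHom d0.toRingHom) (CommRingCat.ofHom g.toRingHom)) :
    Function.Bijective (Algebra.TensorProduct.productMap d0 g) := by
  have h1 := tensorIso_comp d0 g h.w
  have h2 : IsIso (pushout.desc (CommRingCat.ofHom d0.toRingHom)
      (CommRingCat.ofHom g.toRingHom) h.w) := inferInstanceAs (IsIso h.isoPushout.inv)
  have h3 : IsIso (CommRingCat.ofHom (Algebra.TensorProduct.productMap d0 g).toRingHom) := by
    rw [← h1]; infer_instance
  exact ConcreteCategory.bijective_of_isIso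
    (CommRingCat.ofHom (Algebra.TensorProduct.productMap d0 g).toRingHom)

lemma injective_of_mono (d0 : B₀ →ₐ[R] B₁) (g : R' →ₐ[R] B₁)
    (w : CommRingCat.ofHom (algebraMap R B₀) ≫ CommRingCat.ofHom d0.toRingHom =
      CommRingCat.ofHom (algebraMap R R') ≫ CommRingCat.ofHom g.toRingHom)
    (h : Mono (pushout.desc (CommRingCat.ofHom d0.toRingHom)
      (CommRingCat.ofHom g.toRingHom) w)) :
    Function.Injective (Algebra.TensorProduct.productMap d0 g) := by
  have h1 := tensorIso_comp d0 g w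
  have h3 : Mono (CommRingCat.ofHom (Algebra.TensorProduct.productMap d0 g).toRingHom) := by
    rw [← h1]; infer_instance
  exact ConcreteCategory.injective_of_mono_of_preservesPullback
    (CommRingCat.ofHom (Algebra.TensorProduct.productMap d0 g).toRingHom)

/-- bijectivity of the product map gives a pushout square in `CommRingCat`. -/
lemma isPushout_of_bijective (d0 : B₀ →ₐ[R] B₁) (g : R' →ₐ[R] B₁)
    (h : Function.Bijective (Algebra.TensorProduct.productMap d0 g)) :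
    IsPushout (CommRingCat.ofHom (algebraMap R B₀)) (CommRingCat.ofHom (algebraMap R R'))
      (CommRingCat.ofHom d0.toRingHom) (CommRingCat.ofHom g.toRingHom) := by
  let e : (B₀ ⊗[R] R') ≃+* B₁ :=
    RingEquiv.ofBijective (Algebra.TensorProduct.productMap d0 g).toRingHom h
  refine (CommRingCat.isPushout_tensorProduct R B₀ R').of_iso (Iso.refl _) (Iso.refl _)
    (Iso.refl _) e.toCommRingCatIso (by simp) (by simp) ?_ ?_
  · ext x
    simp [e]
  · ext x
    simp [e]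

end Alg

section Sch

lemma isPushout_appTop {X Y S T : Scheme.{u}} {f : T ⟶ S} {g : Y ⟶ X} {iX : X ⟶ S} {iY : Y ⟶ T}
    (H : IsPullback g iY iX f) [Flat f] [IsAffine S] [IsAffine T] [CompactSpace X]
    [QuasiSeparatedSpace X] :
    IsPushout iX.appTop f.appTop g.appTop iY.appTop := by
  have h1 := isIso_pushoutSection_of_isQuasiSeparated_of_flat_right H
    (US := ⊤) (UT := ⊤) (UX := ⊤) (UY := ⊤) le_top le_top (by simp)
    (isAffineOpen_top S) (isAffineOpen_top T) isCompact_univ isQuasiSeparated_univ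
  have h2 := (isIso_pushoutSection_iff H (US := ⊤) (UT := ⊤) (UX := ⊤) (UY := ⊤)
    le_top le_top (by simp)).mp h1
  simpa [Scheme.Hom.appLE] using h2

lemma mono_desc_appTop {X Y S T : Scheme.{u}} {f : T ⟶ S} {g : Y ⟶ X} {iX : X ⟶ S} {iY : Y ⟶ T}
    (H : IsPullback g iY iX f) [Flat f] [IsAffine S] [IsAffine T] [CompactSpace X] :
    Mono (pushout.desc g.appTop iY.appTop (by
      rw [← Scheme.Hom.comp_appTop, ← Scheme.Hom.comp_appTop, H.w]) :
        pushout iX.appTop f.appTop ⟶ Γ(Y, ⊤)) := by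
  have h1 := mono_pushoutSection_of_isCompact_of_flat_right H
    (US := ⊤) (UT := ⊤) (UX := ⊤) (UY := ⊤) le_top le_top (by simp)
    (isAffineOpen_top S) (isAffineOpen_top T) isCompact_univ
  convert h1 using 2 <;> simp [Scheme.Hom.appLE]

end Sch

section Core

lemma appTop_apply_comp {X Y Z : Scheme.{u}} (f : X ⟶ Y) (g : Y ⟶ Z) (h : X ⟶ Z)
    (e : f ≫ g = h) (r : Γ(Z, ⊤)) : f.appTop.hom (g.appTop.hom r) = h.appTop.hom r := by
  subst e
  simp

variable {Z W P₀ : Scheme.{u}} (π : W ⟶ Z) (w : P₀ ⟶ W)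

set_option maxHeartbeats 1600000 in
/-- **descent of the ring of functions** (general form, with the composites named). -/
theorem exists_descent_ring' [IsAffine Z] [IsAffine W] [Flat π] [CompactSpace P₀]
    [QuasiSeparatedSpace P₀] (p₀ : P₀ ⟶ Z) (hp₀ : w ≫ π = p₀)
    (p₁ : pullback p₀ π ⟶ Z) (hp₁ : pullback.fst p₀ π ≫ p₀ = p₁)
    (t : pullback p₀ π ⟶ P₀) (ht : t ≫ w = pullback.snd p₀ π)
    (Δ : P₀ ⟶ pullback p₀ π) (hΔ : Δ ≫ t = 𝟙 P₀)
    (q13 q23 : pullback p₁ π ⟶ pullback p₀ π)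
    (h13f : q13 ≫ pullback.fst p₀ π = pullback.fst p₁ π ≫ pullback.fst p₀ π)
    (h13s : q13 ≫ pullback.snd p₀ π = pullback.snd p₁ π)
    (h23f : q23 ≫ pullback.fst p₀ π = pullback.fst p₁ π ≫ t)
    (h23s : q23 ≫ pullback.snd p₀ π = pullback.snd p₁ π)
    (he : q13 ≫ t = q23 ≫ t) :
    ∃ (A : CommRingCat.{u}) (α : Γ(Z, ⊤) ⟶ A) (j : A ⟶ Γ(P₀, ⊤)),
      IsPushout α π.appTop j w.appTop ∧
      j ≫ (pullback.fst p₀ π).appTop = j ≫ t.appTop := by
  have hc₁ : pullback.fst p₀ π ≫ p₀ = pullback.snd p₀ π ≫ π := pullback.condition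
  have hc₂ : pullback.fst p₁ π ≫ p₁ = pullback.snd p₁ π ≫ π := pullback.condition
  have htp : t ≫ p₀ = p₁ :=
    calc t ≫ p₀ = t ≫ (w ≫ π) := by rw [hp₀]
      _ = (t ≫ w) ≫ π := (Category.assoc _ _ _).symm
      _ = pullback.snd p₀ π ≫ π := by rw [ht]
      _ = pullback.fst p₀ π ≫ p₀ := hc₁.symm
      _ = p₁ := hp₁
  have h13p : q13 ≫ p₁ = pullback.fst p₁ π ≫ p₁ :=
    calc q13 ≫ p₁ = q13 ≫ (pullback.fst p₀ π ≫ p₀) := by rw [hp₁]
      _ = (q13 ≫ pullback.fst p₀ π) ≫ p₀ := (Category.assoc _ _ _).symm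
      _ = (pullback.fst p₁ π ≫ pullback.fst p₀ π) ≫ p₀ := by rw [h13f]
      _ = pullback.fst p₁ π ≫ (pullback.fst p₀ π ≫ p₀) := Category.assoc _ _ _
      _ = pullback.fst p₁ π ≫ p₁ := by rw [hp₁]
  have h23p : q23 ≫ p₁ = pullback.fst p₁ π ≫ p₁ :=
    calc q23 ≫ p₁ = q23 ≫ (pullback.fst p₀ π ≫ p₀) := by rw [hp₁]
      _ = (q23 ≫ pullback.fst p₀ π) ≫ p₀ := (Category.assoc _ _ _).symm
      _ = (pullback.fst p₁ π ≫ t) ≫ p₀ := by rw [h23f]
      _ = pullback.fst p₁ π ≫ (t ≫ p₀) := Category.assoc _ _ _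
      _ = pullback.fst p₁ π ≫ p₁ := by rw [htp]
  -- algebra structures
  letI : Algebra Γ(Z, ⊤) Γ(W, ⊤) := π.appTop.hom.toAlgebra
  letI : Algebra Γ(Z, ⊤) Γ(P₀, ⊤) := p₀.appTop.hom.toAlgebra
  letI : Algebra Γ(Z, ⊤) Γ(pullback p₀ π, ⊤) := p₁.appTop.hom.toAlgebra
  letI : Algebra Γ(Z, ⊤) Γ(pullback p₁ π, ⊤) := (pullback.fst p₁ π ≫ p₁).appTop.hom.toAlgebra
  haveI : Module.Flat Γ(Z, ⊤) Γ(W, ⊤) := by
    have h1 : (π.appTop).hom.Flat := Scheme.Hom.flat_appTop π
    exact h1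
  let ι₀ : Γ(W, ⊤) →ₐ[Γ(Z, ⊤)] Γ(P₀, ⊤) :=
    { w.appTop.hom with commutes' := fun r => appTop_apply_comp w π p₀ hp₀ r }
  let d0 : Γ(P₀, ⊤) →ₐ[Γ(Z, ⊤)] Γ(pullback p₀ π, ⊤) :=
    { (pullback.fst p₀ π).appTop.hom with
      commutes' := fun r => appTop_apply_comp (pullback.fst p₀ π) p₀ p₁ hp₁ r }
  let d1 : Γ(P₀, ⊤) →ₐ[Γ(Z, ⊤)] Γ(pullback p₀ π, ⊤) :=
    { t.appTop.hom with commutes' := fun r => appTop_apply_comp t p₀ p₁ htp r }
  let del : Γ(pullback p₀ π, ⊤) →ₐ[Γ(Z, ⊤)] Γ(pullback p₁ π, ⊤) :=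
    { (pullback.fst p₁ π).appTop.hom with
      commutes' := fun r => appTop_apply_comp (pullback.fst p₁ π) p₁ _ rfl r }
  let e13 : Γ(pullback p₀ π, ⊤) →ₐ[Γ(Z, ⊤)] Γ(pullback p₁ π, ⊤) :=
    { q13.appTop.hom with commutes' := fun r => appTop_apply_comp q13 p₁ _ h13p r }
  let e23 : Γ(pullback p₀ π, ⊤) →ₐ[Γ(Z, ⊤)] Γ(pullback p₁ π, ⊤) :=
    { q23.appTop.hom with commutes' := fun r => appTop_apply_comp q23 p₁ _ h23p r }
  let κ : Γ(W, ⊤) →ₐ[Γ(Z, ⊤)] Γ(pullback p₁ π, ⊤) :=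
    { (pullback.snd p₁ π).appTop.hom with
      commutes' := fun r => appTop_apply_comp (pullback.snd p₁ π) π _ hc₂.symm r }
  -- the hypotheses of the algebraic lemma
  have hsnd₁ : (pullback.snd p₀ π).appTop = w.appTop ≫ t.appTop := by
    rw [← Scheme.Hom.comp_appTop, ht]
  have hθ : Function.Bijective (Algebra.TensorProduct.productMap d0 (d1.comp ι₀)) := by
    apply bijective_of_isPushout
    have h := isPushout_appTop (IsPullback.of_hasPullback p₀ π)
    rw [hsnd₁] at h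
    exact h
  haveI : CompactSpace ↥(pullback p₀ π) :=
    QuasiCompact.compactSpace_of_compactSpace (pullback.fst p₀ π)
  have hθ₂ : Function.Injective (Algebra.TensorProduct.productMap del κ) := by
    refine injective_of_mono del κ ?_ ?_
    · show p₁.appTop ≫ (pullback.fst p₁ π).appTop = π.appTop ≫ (pullback.snd p₁ π).appTop
      rw [← Scheme.Hom.comp_appTop, ← Scheme.Hom.comp_appTop, hc₂]
    · exact mono_desc_appTop (IsPullback.of_hasPullback p₁ π)
  have ha : e13.comp d0 = del.comp d0 := by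
    refine AlgHom.ext (fun b => ?_)
    exact (appTop_apply_comp q13 (pullback.fst p₀ π) _ h13f b).trans
      (appTop_apply_comp (pullback.fst p₁ π) (pullback.fst p₀ π) _ rfl b).symm
  have ha' : e13.comp (d1.comp ι₀) = κ := by
    refine AlgHom.ext (fun r => ?_)
    show q13.appTop.hom (t.appTop.hom (w.appTop.hom r)) = (pullback.snd p₁ π).appTop.hom r
    rw [appTop_apply_comp t w (pullback.snd p₀ π) ht r]
    exact appTop_apply_comp q13 (pullback.snd p₀ π) _ h13s r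
  have hb : e23.comp d0 = del.comp d1 := by
    refine AlgHom.ext (fun b => ?_)
    exact (appTop_apply_comp q23 (pullback.fst p₀ π) _ h23f b).trans
      (appTop_apply_comp (pullback.fst p₁ π) t _ rfl b).symm
  have hb' : e23.comp (d1.comp ι₀) = κ := by
    refine AlgHom.ext (fun r => ?_)
    show q23.appTop.hom (t.appTop.hom (w.appTop.hom r)) = (pullback.snd p₁ π).appTop.hom r
    rw [appTop_apply_comp t w (pullback.snd p₀ π) ht r]
    exact appTop_apply_comp q23 (pullback.snd p₀ π) _ h23s r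
  have he' : e13.comp d1 = e23.comp d1 := by
    refine AlgHom.ext (fun b => ?_)
    exact (appTop_apply_comp q13 t _ rfl b).trans
      (appTop_apply_comp q23 t _ he.symm b).symm
  have hinj : Function.Injective d1 := by
    intro x y hxy
    have h1 : Δ.appTop.hom (t.appTop.hom x) = Δ.appTop.hom (t.appTop.hom y) :=
      congrArg Δ.appTop.hom hxy
    have h2 : ∀ b, Δ.appTop.hom (t.appTop.hom b) = b := fun b => by
      rw [appTop_apply_comp Δ t _ hΔ b]
      simp
    exact (h2 x).symm.trans (h1.trans (h2 y))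
  have hbij := Groth.Agent.Lib.T2H1.QAffDescAlg.bijective_productMap_equalizer ι₀ d0 d1 del e13 e23
    κ hθ hθ₂ ha ha' hb hb' he' hinj
  have hpo := isPushout_of_bijective (AlgHom.equalizer d0 d1).val ι₀ hbij
  refine ⟨CommRingCat.of (AlgHom.equalizer d0 d1),
    CommRingCat.ofHom (algebraMap Γ(Z, ⊤) (AlgHom.equalizer d0 d1)),
    CommRingCat.ofHom (AlgHom.equalizer d0 d1).val.toRingHom, hpo, ?_⟩
  ext a
  have ha2 : d0 (a : Γ(P₀, ⊤)) = d1 (a : Γ(P₀, ⊤)) := a.2
  exact ha2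

end Core

end Groth.Agent.Lib.T2H1.QAffDescSch
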