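import Mathlib
import Groth.Prelude.Def_AlgSpCov
import Groth.Agent.Lib.T2H1QAffDescSch
import Groth.Agent.Lib.T2H1FpqcMor

/-!
# The affine hull of an algebraic space which is qcqs after a flat affine base change (helper1)
-/

set_option autoImplicit false
universe u
open CategoryTheory CategoryTheory.Limits AlgebraicGeometry Opposite
open AlgSp

namespace Groth.Agent.Lib.T2H1.QAffDesc

open Groth.Agent.Lib.T2H1.FpqcMor Groth.Agent.Lib.T2H1.QAffDescSch

variable {S : Scheme.{u}}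

section

variable {F : AlgSp.Sp S} {Z W P₀ : Over S} (π : W ⟶ Z)
  (w : P₀ ⟶ W) (ψ : F ⟶ (AlgSp.yon S).obj Z) (a : (AlgSp.yon S).obj P₀ ⟶ F)
  (sq : IsPullback a ((AlgSp.yon S).map w) ψ ((AlgSp.yon S).map π))

include sq in
lemma pt_ext {T : Over S} (m1 m2 : T ⟶ P₀)
    (h1 : (AlgSp.yon S).map m1 ≫ a = (AlgSp.yon S).map m2 ≫ a)
    (h2 : m1 ≫ w = m2 ≫ w) : m1 = m2 := by
  apply (AlgSp.yon S).map_injective
  refine sq.hom_ext h1 ?_
  rw [← Functor.map_comp, ← Functor.map_comp, h2]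

include sq in
/-- the twist: for `v1 v2 : T ⟶ P₀`-data. -/
lemma exists_twist {T : Over S} (v : T ⟶ P₀) (u : T ⟶ W) (h : v ≫ w ≫ π = u ≫ π) :
    ∃ t : T ⟶ P₀, (AlgSp.yon S).map t ≫ a = (AlgSp.yon S).map v ≫ a ∧ t ≫ w = u := by
  have hc : ((AlgSp.yon S).map v ≫ a) ≫ ψ = (AlgSp.yon S).map u ≫ (AlgSp.yon S).map π := by
    rw [Category.assoc, sq.w, ← Functor.map_comp, ← Functor.map_comp, ← Functor.map_comp, h]
  obtain ⟨t, ht⟩ := (AlgSp.yon S).map_surjective (sq.lift _ _ hc)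
  refine ⟨t, ?_, ?_⟩
  · rw [ht, sq.lift_fst]
  · apply (AlgSp.yon S).map_injective
    rw [Functor.map_comp, ht, sq.lift_snd]

include sq in
/-- the descended ring of functions, in scheme terms. -/
theorem exists_ring [IsAffine Z.left] [IsAffine W.left] (hfl : Flat π.left)
    [CompactSpace P₀.left] [QuasiSeparatedSpace P₀.left] :
    ∃ (A : CommRingCat.{u}) (α : Γ(Z.left, ⊤) ⟶ A) (j : A ⟶ Γ(P₀.left, ⊤)),
      IsPushout α π.left.appTop j w.left.appTop ∧
      ∀ (T : Over S) (v1 v2 : T ⟶ P₀),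
        (AlgSp.yon S).map v1 ≫ a = (AlgSp.yon S).map v2 ≫ a →
          v1.left ≫ P₀.left.toSpecΓ ≫ Spec.map j = v2.left ≫ P₀.left.toSpecΓ ≫ Spec.map j := by
  haveI := hfl
  -- `P₁`
  let p₀l : P₀.left ⟶ Z.left := w.left ≫ π.left
  let P₁ : Over S := Over.mk (pullback.fst p₀l π.left ≫ P₀.hom)
  let fst₁ : P₁ ⟶ P₀ := Over.homMk (pullback.fst p₀l π.left) rfl
  have hsnd₁ : pullback.snd p₀l π.left ≫ W.hom = P₁.hom := by
    show _ = pullback.fst p₀l π.left ≫ P₀.hom
    rw [← Over.w π, ← Category.assoc, ← pullback.condition, ← Over.w w, ← Over.w π]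
    simp only [p₀l, Category.assoc]
  let snd₁ : P₁ ⟶ W := Over.homMk (pullback.snd p₀l π.left) hsnd₁
  have hcond₁ : fst₁ ≫ w ≫ π = snd₁ ≫ π := by
    ext1
    exact pullback.condition
  obtain ⟨t, hta, htw⟩ := exists_twist π w ψ a sq fst₁ snd₁ hcond₁
  have htwl : t.left ≫ w.left = pullback.snd p₀l π.left := congrArg (fun m => m.left) htw
  -- the diagonal
  let Δl : P₀.left ⟶ pullback p₀l π.left := pullback.lift (𝟙 _) w.left (by simp [p₀l])
  let Δ : P₀ ⟶ P₁ := Over.homMk Δl (by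
    show Δl ≫ pullback.fst _ _ ≫ P₀.hom = P₀.hom
    rw [← Category.assoc, pullback.lift_fst, Category.id_comp])
  have hΔf : Δ ≫ fst₁ = 𝟙 P₀ := by
    ext1
    exact pullback.lift_fst _ _ _
  have hΔs : Δ ≫ snd₁ = w := by
    ext1
    exact pullback.lift_snd _ _ _
  have hΔ : Δ ≫ t = 𝟙 P₀ := by
    refine pt_ext π w ψ a sq _ _ ?_ ?_
    · rw [Functor.map_comp, Category.assoc, hta, ← Category.assoc, ← Functor.map_comp, hΔf]
    · rw [Category.assoc, htw, hΔs, Category.id_comp]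
  -- `P₂`
  let p₁l : pullback p₀l π.left ⟶ Z.left := pullback.fst p₀l π.left ≫ p₀l
  have htp : t.left ≫ p₀l = p₁l := by
    show t.left ≫ w.left ≫ π.left = _
    rw [← Category.assoc, htwl, ← pullback.condition]
  let P₂ : Over S := Over.mk (pullback.fst p₁l π.left ≫ P₁.hom)
  let fst₂ : P₂ ⟶ P₁ := Over.homMk (pullback.fst p₁l π.left) rfl
  have hsnd₂ : pullback.snd p₁l π.left ≫ W.hom = P₂.hom := by
    show _ = pullback.fst p₁l π.left ≫ pullback.fst p₀l π.left ≫ P₀.hom
    rw [← Over.w π, ← Category.assoc, ← pullback.condition, ← Over.w w, ← Over.w π]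
    simp only [p₁l, p₀l, Category.assoc]
  let snd₂ : P₂ ⟶ W := Over.homMk (pullback.snd p₁l π.left) hsnd₂
  let q13l : pullback p₁l π.left ⟶ pullback p₀l π.left :=
    pullback.lift (pullback.fst p₁l π.left ≫ pullback.fst p₀l π.left) (pullback.snd p₁l π.left)
      (by rw [Category.assoc]; exact pullback.condition)
  let q23l : pullback p₁l π.left ⟶ pullback p₀l π.left :=
    pullback.lift (pullback.fst p₁l π.left ≫ t.left) (pullback.snd p₁l π.left)
      (by rw [Category.assoc, htp]; exact pullback.condition)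
  let q13 : P₂ ⟶ P₁ := Over.homMk q13l (by
    show q13l ≫ pullback.fst p₀l π.left ≫ P₀.hom = _
    rw [← Category.assoc, pullback.lift_fst, Category.assoc]
    rfl)
  let q23 : P₂ ⟶ P₁ := Over.homMk q23l (by
    show q23l ≫ pullback.fst p₀l π.left ≫ P₀.hom = _
    rw [← Category.assoc, pullback.lift_fst, Category.assoc, Over.w t]
    rfl)
  have h13f : q13 ≫ fst₁ = fst₂ ≫ fst₁ := by
    ext1
    exact pullback.lift_fst _ _ _
  have h13s : q13 ≫ snd₁ = snd₂ := by
    ext1
    exact pullback.lift_snd _ _ _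
  have h23f : q23 ≫ fst₁ = fst₂ ≫ t := by
    ext1
    exact pullback.lift_fst _ _ _
  have h23s : q23 ≫ snd₁ = snd₂ := by
    ext1
    exact pullback.lift_snd _ _ _
  have he : q13 ≫ t = q23 ≫ t := by
    refine pt_ext π w ψ a sq _ _ ?_ ?_
    · have hk : ∀ {T : Over S} (g : T ⟶ P₁),
          (AlgSp.yon S).map (g ≫ t) ≫ a = (AlgSp.yon S).map (g ≫ fst₁) ≫ a := by
        intro T g
        rw [Functor.map_comp, Category.assoc, hta, ← Category.assoc, ← Functor.map_comp]
      rw [hk q13, hk q23, h13f, h23f, hk fst₂]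
    · rw [Category.assoc, Category.assoc, htw, h13s, h23s]
  obtain ⟨A, α, j, hpo, hj⟩ := exists_descent_ring' π.left w.left p₀l rfl p₁l rfl t.left htwl
    Δl (congrArg (fun m => m.left) hΔ) q13l q23l (pullback.lift_fst _ _ _)
    (pullback.lift_snd _ _ _) (pullback.lift_fst _ _ _) (pullback.lift_snd _ _ _)
    (congrArg (fun m => m.left) he)
  refine ⟨A, α, j, hpo, fun T v1 v2 hv => ?_⟩
  -- the map `T ⟶ P₁`
  have hvz : v1 ≫ w ≫ π = (v2 ≫ w) ≫ π := by
    apply (AlgSp.yon S).map_injective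
    have h4 := congrArg (fun k => k ≫ ψ) hv
    simp only [Category.assoc, sq.w] at h4
    simpa [Functor.map_comp] using h4
  let ml : T.left ⟶ pullback p₀l π.left := pullback.lift v1.left (v2.left ≫ w.left) (by
    have := congrArg (fun m => m.left) hvz
    simpa [p₀l] using this)
  let m : T ⟶ P₁ := Over.homMk ml (by
    show ml ≫ pullback.fst _ _ ≫ P₀.hom = T.hom
    rw [← Category.assoc, pullback.lift_fst]
    exact Over.w v1)
  have hm1 : m ≫ fst₁ = v1 := by
    ext1
    exact pullback.lift_fst _ _ _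
  have hm2 : m ≫ snd₁ = v2 ≫ w := by
    ext1
    exact pullback.lift_snd _ _ _
  have hm3 : m ≫ t = v2 := by
    refine pt_ext π w ψ a sq _ _ ?_ ?_
    · rw [Functor.map_comp, Category.assoc, hta, ← Category.assoc, ← Functor.map_comp, hm1, hv]
    · rw [Category.assoc, htw, hm2]
  have hkey : pullback.fst p₀l π.left ≫ P₀.left.toSpecΓ ≫ Spec.map j =
      t.left ≫ P₀.left.toSpecΓ ≫ Spec.map j := by
    rw [Scheme.toSpecΓ_naturality_assoc, Scheme.toSpecΓ_naturality_assoc, ← Spec.map_comp,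
      ← Spec.map_comp, hj]
    rfl
  have h1 : v1.left = ml ≫ pullback.fst p₀l π.left := (congrArg (fun k => k.left) hm1).symm
  have h2 : v2.left = ml ≫ t.left := (congrArg (fun k => k.left) hm3).symm
  rw [h1, h2, Category.assoc, Category.assoc, hkey]

include sq in
/-- **the affine hull**: an algebraic space `F` over an affine scheme `Z` whose base change along a
flat surjective `W ⟶ Z` (affine) is a qcqs scheme `P₀` maps to an affine scheme `Y` over `Z` whose
base change to `W` is `Spec Γ(P₀)`, the map `F ⟶ Y` pulling back to `P₀ ⟶ Spec Γ(P₀)`. -/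
theorem exists_affine_hull (hF : AlgSp.IsAlgSpace F) [IsAffine Z.left] [IsAffine W.left]
    (hfl : Flat π.left) (hs : Surjective π.left)
    [CompactSpace P₀.left] [QuasiSeparatedSpace P₀.left] :
    ∃ (Y Y' : Over S) (i : Y ⟶ Z) (π' : Y' ⟶ Y) (h : P₀ ⟶ Y') (φ : F ⟶ (AlgSp.yon S).obj Y),
      IsAffine Y.left ∧ IsAffine Y'.left ∧ Flat π'.left ∧ Surjective π'.left ∧
      φ ≫ (AlgSp.yon S).map i = ψ ∧
      IsPullback a ((AlgSp.yon S).map h) φ ((AlgSp.yon S).map π') ∧
      ∃ e : Y'.left ≅ Spec Γ(P₀.left, ⊤), h.left ≫ e.hom = P₀.left.toSpecΓ := by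
  obtain ⟨A, α, j, hpo, hcoeq⟩ := exists_ring π w ψ a sq hfl
  haveI := hfl
  haveI := hs
  have hqc : QuasiCompact π.left := inferInstance
  let il : Spec A ⟶ Z.left := Spec.map α ≫ Z.left.isoSpec.inv
  let Y : Over S := Over.mk (il ≫ Z.hom)
  let i : Y ⟶ Z := Over.homMk il rfl
  let Y' : Over S := Over.mk (Spec.map j ≫ Y.hom)
  let π' : Y' ⟶ Y := Over.homMk (Spec.map j) rfl
  have hαj : α ≫ j = (w.left ≫ π.left).appTop := by rw [hpo.w, Scheme.Hom.comp_appTop]
  have hc_l : P₀.left.toSpecΓ ≫ Spec.map j ≫ il = w.left ≫ π.left := by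
    show P₀.left.toSpecΓ ≫ Spec.map j ≫ Spec.map α ≫ Z.left.isoSpec.inv = _
    rw [← Spec.map_comp_assoc, hαj, ← Scheme.toSpecΓ_naturality_assoc]
    simp
  let h : P₀ ⟶ Y' := Over.homMk P₀.left.toSpecΓ (by
    show P₀.left.toSpecΓ ≫ Spec.map j ≫ il ≫ Z.hom = P₀.hom
    rw [← Category.assoc (Spec.map j), ← Category.assoc, hc_l, Category.assoc, Over.w π, Over.w w])
  let vl : Spec Γ(P₀.left, ⊤) ⟶ W.left := Spec.map w.left.appTop ≫ W.left.isoSpec.inv
  have hpb_l : IsPullback (Spec.map j) vl il π.left := by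
    have h0 := isPullback_SpecMap_of_isPushout α π.left.appTop j w.left.appTop hpo
    refine IsPullback.of_iso h0 (Iso.refl _) (Iso.refl _) W.left.isoSpec.symm Z.left.isoSpec.symm
      ?_ ?_ ?_ ?_
    · simp
    · simp [vl]
    · simp [il]
    · simpa using Scheme.isoSpec_inv_naturality π.left
  let v : Y' ⟶ W := Over.homMk vl (by
    show vl ≫ W.hom = Spec.map j ≫ il ≫ Z.hom
    rw [← Over.w π, ← Category.assoc, ← hpb_l.w, Category.assoc])
  have hpbO : IsPullback π' v i π := by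
    refine IsPullback.of_map (Over.forget S) ?_ hpb_l
    ext1
    exact hpb_l.w
  have hhv : h ≫ v = w := by
    ext1
    show P₀.left.toSpecΓ ≫ Spec.map w.left.appTop ≫ W.left.isoSpec.inv = w.left
    rw [← Scheme.toSpecΓ_naturality_assoc]
    simp
  have hhπi : h ≫ π' ≫ i = w ≫ π := by
    ext1
    exact hc_l
  obtain ⟨φ, hφ⟩ := exists_desc_of_fpqc π w ψ a sq hF hfl hs hqc (h ≫ π') (by
    intro T v1 v2 hv
    ext1
    exact hcoeq T v1 v2 hv)
  have hφi : φ ≫ (AlgSp.yon S).map i = ψ := by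
    refine hom_ext_of_fpqc π w ψ a sq hF hfl hs hqc _ _ ?_
    rw [← Category.assoc, hφ, ← Functor.map_comp, Category.assoc, hhπi, Functor.map_comp, sq.w]
  have hout : IsPullback ((AlgSp.yon S).map h ≫ (AlgSp.yon S).map v) a ((AlgSp.yon S).map π)
      (φ ≫ (AlgSp.yon S).map i) := by
    rw [hφi, ← Functor.map_comp, hhv]
    exact sq.flip
  have hright : IsPullback ((AlgSp.yon S).map v) ((AlgSp.yon S).map π') ((AlgSp.yon S).map π)
      ((AlgSp.yon S).map i) := hpbO.flip.map (AlgSp.yon S)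
  have hleft : (AlgSp.yon S).map h ≫ (AlgSp.yon S).map π' = a ≫ φ := by
    rw [hφ, Functor.map_comp]
  have hres := (IsPullback.of_right hout hleft hright).flip
  refine ⟨Y, Y', i, π', h, φ, ?_, ?_, ?_, ?_, hφi, hres, Iso.refl _, ?_⟩
  · exact inferInstanceAs (IsAffine (Spec A))
  · exact inferInstanceAs (IsAffine (Spec Γ(P₀.left, ⊤)))
  · exact MorphismProperty.of_isPullback (P := @Flat) hpb_l.flip hfl
  · exact MorphismProperty.of_isPullback (P := @Surjective) hpb_l.flip hs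
  · exact Category.comp_id _

end

end Groth.Agent.Lib.T2H1.QAffDesc
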