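import Mathlib
import Groth.Prelude.Def_AlgSpCov
import Groth.Agent.Lib.T2H1QAffDesc
import Groth.Agent.Lib.Helper12AffineDescent
import Groth.Agent.Lib.Helper12ZarGlue
import Groth.Agent.S10531
import Groth.Agent.S10534

/-!
# Flat descent of quasi-affine morphisms to an algebraic space (helper1)
-/

set_option autoImplicit false
universe u
open CategoryTheory CategoryTheory.Limits AlgebraicGeometry Opposite
open AlgSp

namespace Groth.Agent.Lib.T2H1.QAffDesc

variable {S : Scheme.{u}}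

section

variable {F : AlgSp.Sp S} {Z W P₀ : Over S} (π : W ⟶ Z)
  (w : P₀ ⟶ W) (ψ : F ⟶ (AlgSp.yon S).obj Z) (a : (AlgSp.yon S).obj P₀ ⟶ F)
  (sq : IsPullback a ((AlgSp.yon S).map w) ψ ((AlgSp.yon S).map π))

include sq in
/-- **flat descent of quasi-affine schemes over an algebraic space**, single affine covering. -/
theorem exists_quasiAffine (hF : AlgSp.IsAlgSpace F) [IsAffine Z.left] [IsAffine W.left]
    (hfl : Flat π.left) (hs : Surjective π.left) [P₀.left.IsQuasiAffine] :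
    ∃ (X : Over S) (g : X ⟶ Z) (q : F ≅ (AlgSp.yon S).obj X),
      q.hom ≫ (AlgSp.yon S).map g = ψ ∧ X.left.IsQuasiAffine := by
  obtain ⟨Y, Y', i, π', h, φ, hY, hY', hπ'fl, hπ's, hφi, hsqφ, e, he⟩ :=
    exists_affine_hull π w ψ a sq hF hfl hs
  haveI := hY
  haveI := hY'
  have hh : IsOpenImmersion h.left := by
    have h1 : h.left = P₀.left.toSpecΓ ≫ e.inv := by
      rw [← he, Category.assoc, e.hom_inv_id, Category.comp_id]
    rw [h1]
    infer_instance
  have hloc := Groth.Agent.S10531.result S (fun _ : PUnit.{u+1} => (AlgSp.yon S).obj Y')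
    (fun _ => (AlgSp.yon S).map π') (AlgSp.IsAlgSpace.yon_obj Y)
    (fun _ => AlgSp.IsAlgSpace.yon_obj Y') (Groth.Agent.S10534.isFpqcCover_single π' hπ'fl hπ's)
    φ hF (fun _ => (AlgSp.yon S).obj P₀) (fun _ => (AlgSp.yon S).map h) (fun _ => a)
    (fun _ => AlgSp.IsAlgSpace.yon_obj P₀) (fun _ => hsqφ)
  have hφo : AlgSp.RepWith @IsOpenImmersion φ :=
    hloc.2 (fun _ => (AlgSp.repWith_yon_map_iff @IsOpenImmersion h).2 hh)
  obtain ⟨X, snd, fst', sqX⟩ := hφo.1 (𝟙 ((AlgSp.yon S).obj Y))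
  haveI : IsIso fst' := sqX.isIso_fst_of_isIso
  haveI hsndo : IsOpenImmersion snd.left := hφo.2 _ _ snd sqX
  let q : F ≅ (AlgSp.yon S).obj X := (asIso fst').symm
  have hqφ : q.hom ≫ (AlgSp.yon S).map snd = φ := by
    have h1 := sqX.w
    rw [Category.comp_id] at h1
    show inv fst' ≫ _ = _
    rw [IsIso.inv_comp_eq, h1]
  obtain ⟨c, hc⟩ := (AlgSp.yon S).map_surjective (a ≫ q.hom)
  have hsqc : IsPullback ((AlgSp.yon S).map c) ((AlgSp.yon S).map h) ((AlgSp.yon S).map snd)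
      ((AlgSp.yon S).map π') := by
    rw [hc]
    refine IsPullback.of_iso hsqφ (Iso.refl _) q (Iso.refl _) (Iso.refl _) ?_ ?_ ?_ ?_
    · simp
    · simp
    · simp [hqφ]
    · simp
  have hsqO : IsPullback c h snd π' := IsPullback.of_map (AlgSp.yon S) (by
    apply (AlgSp.yon S).map_injective
    rw [Functor.map_comp, Functor.map_comp]
    exact hsqc.w) hsqc
  have hsql : IsPullback c.left h.left snd.left π'.left := hsqO.map (Over.forget S)
  haveI : Surjective c.left := MorphismProperty.of_isPullback (P := @Surjective) hsql.flip hπ's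
  haveI : CompactSpace X.left := Groth.Agent.Lib.Helper12.compactSpace_of_surjective c.left
  refine ⟨X, snd ≫ i, q, ?_, ?_⟩
  · rw [Functor.map_comp, ← Category.assoc, hqφ, hφi]
  · exact Scheme.IsQuasiAffine.of_isImmersion snd.left

end

open scoped Function in
lemma isQuasiAffine_of_finite_disjoint_cover {ι : Type u} [Finite ι] (X : Scheme.{u})
    (V : ι → Scheme.{u}) (k : ∀ j, V j ⟶ X) [∀ j, IsOpenImmersion (k j)]
    (hcov : ∀ x : X, ∃ j, x ∈ Set.range (k j))
    (hdisj : Pairwise (Disjoint on (Set.range <| k ·)))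
    (hV : ∀ j, (V j).IsQuasiAffine) : X.IsQuasiAffine := by
  haveI := hV
  let m : (∐ V) ⟶ X := Sigma.desc k
  haveI hm : IsOpenImmersion m := isOpenImmersion_sigmaDesc _ _ hdisj
  haveI : IsIso m := by
    apply isIso_of_isOpenImmersion_of_opensRange_eq_top
    rw [eq_top_iff]
    intro x _
    obtain ⟨j, y, hy⟩ := hcov x
    refine ⟨Sigma.ι V j y, ?_⟩
    rw [← Scheme.Hom.comp_apply, Sigma.ι_desc]
    exact hy
  let n : (∐ V) ⟶ ∐ fun j => Spec Γ(V j, ⊤) :=
    Sigma.desc fun j => (V j).toSpecΓ ≫ Sigma.ι (fun j => Spec Γ(V j, ⊤)) j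
  haveI hn : IsOpenImmersion n := by
    refine isOpenImmersion_sigmaDesc _ _ (fun i j hij => ?_)
    have h1 := disjoint_opensRange_sigmaι (fun j => Spec Γ(V j, ⊤)) i j hij
    rw [Function.onFun, Set.disjoint_iff_inter_eq_empty]
    rw [disjoint_iff] at h1
    ext x
    simp only [Set.mem_inter_iff, Set.mem_range, Set.mem_empty_iff_false, iff_false, not_and]
    rintro ⟨y, hy⟩ ⟨y', hy'⟩
    have h2 : x ∈ ((Sigma.ι (fun j => Spec Γ(V j, ⊤)) i).opensRange ⊓
        (Sigma.ι (fun j => Spec Γ(V j, ⊤)) j).opensRange : (∐ fun j => Spec Γ(V j, ⊤)).Opens) := by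
      refine ⟨⟨(V i).toSpecΓ y, ?_⟩, ⟨(V j).toSpecΓ y', ?_⟩⟩
      · rw [← hy, Scheme.Hom.comp_apply]
      · rw [← hy', Scheme.Hom.comp_apply]
    rw [h1] at h2
    exact h2
  haveI : CompactSpace ↥(∐ V) := (sigmaMk V).compactSpace
  haveI : CompactSpace X := m.homeomorph.compactSpace
  exact Scheme.IsQuasiAffine.of_isImmersion (inv m ≫ n)

/-- **fpqc descent of quasi-affine morphisms into an affine scheme**, standard coverings. -/
theorem exists_quasiAffine_of_standard_cover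
    {P₀ : AlgSp.Sp S} (hP₀ : AlgSp.IsAlgSpace P₀) {Z : Over S} (hZ : IsAffine Z.left)
    (snd : P₀ ⟶ (AlgSp.yon S).obj Z)
    {ι : Type u} [Finite ι] (Wj : ι → Over S) (c : ∀ j, Wj j ⟶ Z)
    (hWa : ∀ j, IsAffine (Wj j).left)
    (hfl : ∀ j, Flat (c j).left) (hsurj : ∀ z : Z.left, ∃ j, z ∈ Set.range (c j).left)
    (V : ι → Over S) (v : ∀ j, V j ⟶ Wj j) (a : ∀ j, (AlgSp.yon S).obj (V j) ⟶ P₀)
    (sqa : ∀ j, IsPullback (a j) ((AlgSp.yon S).map (v j)) snd ((AlgSp.yon S).map (c j)))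
    (hVa : ∀ j, (V j).left.IsQuasiAffine) :
    ∃ (W₀ : Over S) (i : W₀ ⟶ Z) (q : P₀ ≅ (AlgSp.yon S).obj W₀),
      W₀.left.IsQuasiAffine ∧ q.hom ≫ (AlgSp.yon S).map i = snd := by
  haveI := hZ
  haveI := hWa
  -- the coproduct of the members of the covering
  let Wl : Scheme.{u} := ∐ fun j => (Wj j).left
  let πl : Wl ⟶ Z.left := Sigma.desc fun j => (c j).left
  let W : Over S := Over.mk (πl ≫ Z.hom)
  let π : W ⟶ Z := Over.homMk πl rfl
  let ιj : ∀ j, Wj j ⟶ W := fun j => Over.homMk (Sigma.ι (fun j => (Wj j).left) j) (by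
    show Sigma.ι _ j ≫ πl ≫ Z.hom = (Wj j).hom
    rw [← Category.assoc, Sigma.ι_desc]
    exact Over.w (c j))
  have hιπ : ∀ j, ιj j ≫ π = c j := fun j => by
    ext
    exact Sigma.ι_desc _ _
  haveI : ∀ j, IsOpenImmersion (ιj j).left := fun j =>
    inferInstanceAs (IsOpenImmersion (Sigma.ι (fun j => (Wj j).left) j))
  have hcovW : ∀ t : W.left, ∃ j, t ∈ Set.range (ιj j).left := fun t => by
    obtain ⟨j, y, hy⟩ := (sigmaOpenCover (fun j => (Wj j).left)).exists_eq t
    exact ⟨j, y, hy⟩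
  haveI hπfl : Flat πl := IsZariskiLocalAtSource.sigmaDesc (P := @Flat) hfl
  haveI hπs : Surjective πl := by
    refine ⟨fun z => ?_⟩
    obtain ⟨j, w, hw⟩ := hsurj z
    refine ⟨(Sigma.ι (fun j => (Wj j).left) j) w, ?_⟩
    rw [← Scheme.Hom.comp_apply, Sigma.ι_desc]
    exact hw
  haveI hWaff : IsAffine W.left := inferInstanceAs (IsAffine (∐ fun j => (Wj j).left))
  -- glue the local quasi-affine schemes
  have sqa' : ∀ j, IsPullback (a j) ((AlgSp.yon S).map (v j)) snd
      ((AlgSp.yon S).map (ιj j) ≫ (AlgSp.yon S).map π) := by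
    intro j
    rw [← Functor.map_comp, hιπ]
    exact sqa j
  obtain ⟨V₀, w₀, a₀, sq₀, hk⟩ := Groth.Agent.Lib.Helper12.ZarGlue.exists_rep_of_openCover snd
    ((AlgSp.yon S).map π) Wj ιj V v a sqa' hcovW
  choose k hk1 _ using hk
  have hkl : ∀ j, IsPullback (k j).left (v j).left w₀.left (ιj j).left :=
    fun j => (hk1 j).map (Over.forget S)
  haveI hko : ∀ j, IsOpenImmersion (k j).left := fun j =>
    MorphismProperty.of_isPullback (P := @IsOpenImmersion) (hkl j).flip inferInstance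
  haveI hV₀ : V₀.left.IsQuasiAffine := by
    refine isQuasiAffine_of_finite_disjoint_cover V₀.left (fun j => (V j).left)
      (fun j => (k j).left) (fun x => ?_) (fun i j hij => ?_) hVa
    · obtain ⟨j, y, hy⟩ := hcovW (w₀.left x)
      obtain ⟨p, hp1, -⟩ := Scheme.exists_preimage_of_isPullback (hkl j) x y hy.symm
      exact ⟨j, p, hp1⟩
    · rw [Function.onFun, Set.disjoint_iff_inter_eq_empty]
      ext x
      simp only [Set.mem_inter_iff, Set.mem_range, Set.mem_empty_iff_false, iff_false, not_and]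
      rintro ⟨y, hy⟩ ⟨y', hy'⟩
      have h1 := disjoint_opensRange_sigmaι (fun j => (Wj j).left) i j hij
      rw [disjoint_iff] at h1
      have h2 : w₀.left x ∈ ((Sigma.ι (fun j => (Wj j).left) i).opensRange ⊓
          (Sigma.ι (fun j => (Wj j).left) j).opensRange : Wl.Opens) := by
        refine ⟨⟨(v i).left y, ?_⟩, ⟨(v j).left y', ?_⟩⟩
        · have h3 : ((v i).left ≫ (ιj i).left) y = ((k i).left ≫ w₀.left) y := by
            rw [(hkl i).w]
          rw [← hy]
          exact h3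
        · have h3 : ((v j).left ≫ (ιj j).left) y' = ((k j).left ≫ w₀.left) y' := by
            rw [(hkl j).w]
          rw [← hy']
          exact h3
      rw [h1] at h2
      exact h2
  -- descend
  obtain ⟨X, g, q, hq, hX⟩ := exists_quasiAffine π w₀ snd a₀ sq₀ hP₀ hπfl hπs
  exact ⟨X, g, q, hX, hq⟩

end Groth.Agent.Lib.T2H1.QAffDesc
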