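import Mathlib
import Groth.Prelude.Def_AlgSp4
import Groth.Agent.Lib.T2H1QOpenSchB
import Groth.Agent.Lib.Helper12LargestOpen
import Groth.Agent.Lib.Helper12LocPCases
import Groth.Agent.Lib.Helper12Proper
import Groth.Agent.Lib.Helper1ClosedSub
import Groth.Agent.Lib.T2H3ZMTFin
import Groth.Agent.S9946
import Groth.Agent.S9948
import Groth.Agent.S10194

/-! # An open of a separated locally quasi-finite space that is quasi-affine after étale base
change is a scheme (helper1, team 2) -/

set_option autoImplicit false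
universe u
open CategoryTheory CategoryTheory.Limits AlgebraicGeometry TopologicalSpace Opposite
open AlgSp

namespace Groth.Agent.Lib.T2H1.QOpenSch

open Groth.Agent.Lib.Helper12 Groth.Agent.Lib.Helper12.OpenSub

variable {S : Scheme.{u}}

/-- cancelling a monomorphism on the right in `RepWith`. -/
lemma repWith_of_comp_mono (P : MorphismProperty Scheme.{u}) {A B C : AlgSp.Sp S} (a : A ⟶ B)
    (m : B ⟶ C) [Mono m] (h : AlgSp.RepWith P (a ≫ m)) : AlgSp.RepWith P a := by
  refine ⟨fun {Z} g => ?_, fun {Z W} g fst snd sq => ?_⟩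
  · obtain ⟨W, w, fst, sqW⟩ := h.1 (g ≫ m)
    exact ⟨W, w, fst, Groth.Agent.Lib.Helper1.ClosedSub.isPullback_of_comp_mono m sqW⟩
  · refine h.2 (g ≫ m) fst snd ?_
    have h1 := sq.flip.paste_vert (LargestOpen.isPullback_id_of_mono a m).flip
    rw [Category.comp_id] at h1
    exact h1.flip

/-- a point of a scheme, as a point of the sheaf. -/
lemma map_yon_map_mem_range {A B : Over S} (k : A ⟶ B) (x : AlgSp.Points ((AlgSp.yon S).obj A)) :
    AlgSp.Points.schemeHomeo B
      (k.left ((AlgSp.Points.schemeHomeo A).symm x)) = AlgSp.Points.map ((AlgSp.yon S).map k) x := by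
  rw [← AlgSp.Points.map_yon_map_apply, Homeomorph.apply_symm_apply]

section Descent

variable {T T' : Over S} (e : T' ⟶ T) [Etale e.left] [IsAffine T'.left]

/-- **étale descent of the property of being a scheme**, for an algebraic space over `T` whose
image lies in the image of `T'` and which is a quasi-affine scheme after base change to `T'`. -/
theorem exists_iso_yon_of_baseChange_quasiAffine {O : AlgSp.Sp S} (hO : AlgSp.IsAlgSpace O)
    (g : O ⟶ (AlgSp.yon S).obj T) (W₁ : Over S) [W₁.left.IsQuasiAffine]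
    (fst : (AlgSp.yon S).obj W₁ ⟶ O) (w₁ : W₁ ⟶ T')
    (sq : IsPullback fst ((AlgSp.yon S).map w₁) g ((AlgSp.yon S).map e))
    (hrange : ∀ x : AlgSp.Points O,
      AlgSp.Points.map g x ∈ Set.range (AlgSp.Points.map ((AlgSp.yon S).map e))) :
    ∃ (W : Over S), Nonempty (O ≅ (AlgSp.yon S).obj W) := by
  -- the open image of `e`
  let U₀ : T.left.Opens := ⟨Set.range e.left, e.left.isOpenMap.isOpen_range⟩
  let T₀ : Over S := Over.mk (U₀.ι ≫ T.hom)
  let k : T₀ ⟶ T := Over.homMk U₀.ι rfl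
  have hsub : Set.range e.left ⊆ Set.range U₀.ι := by
    rw [Scheme.Opens.range_ι]; rfl
  let εl : T'.left ⟶ U₀.toScheme := IsOpenImmersion.lift U₀.ι e.left hsub
  have hεl : εl ≫ U₀.ι = e.left := IsOpenImmersion.lift_fac _ _ _
  let ε : T' ⟶ T₀ := Over.homMk εl (by
    show εl ≫ U₀.ι ≫ T.hom = T'.hom
    rw [← Category.assoc, hεl]
    exact Over.w e)
  have hεk : ε ≫ k = e := Over.OverMorphism.ext hεl
  haveI hεet : Etale ε.left := by
    have h1 : Etale (ε.left ≫ U₀.ι) := by
      show Etale (εl ≫ U₀.ι)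
      rw [hεl]; infer_instance
    exact LocPCases.good_etale.hcancel ε.left U₀.ι inferInstance h1
  haveI hεs : Surjective ε.left := by
    constructor
    intro ⟨y, hy⟩
    obtain ⟨t', ht'⟩ : y ∈ Set.range e.left := hy
    refine ⟨t', ?_⟩
    apply U₀.ι.isOpenEmbedding.injective
    show U₀.ι (εl t') = y
    rw [← Scheme.Hom.comp_apply, hεl]
    exact ht'
  have hk : AlgSp.RepWith @IsOpenImmersion ((AlgSp.yon S).map k) :=
    (AlgSp.repWith_yon_map_iff @IsOpenImmersion k).2 (by
      show IsOpenImmersion U₀.ι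
      infer_instance)
  haveI : Mono ((AlgSp.yon S).map k) := LargestOpen.mono_of_open _ hk
  -- factor `g` through the open image
  obtain ⟨g₀, hg₀⟩ := (Groth.Agent.S10194.exists_factor_iff ((AlgSp.yon S).map k) hk g).2 (by
    rintro _ ⟨x, rfl⟩
    obtain ⟨y, hy⟩ := hrange x
    refine ⟨AlgSp.Points.map ((AlgSp.yon S).map ε) y, ?_⟩
    rw [← AlgSp.Points.map_comp, ← Functor.map_comp, hεk]
    exact hy)
  have sq₀ : IsPullback fst ((AlgSp.yon S).map w₁) g₀ ((AlgSp.yon S).map ε) := by
    apply Groth.Agent.Lib.Helper1.ClosedSub.isPullback_of_comp_mono ((AlgSp.yon S).map k)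
    rw [hg₀, ← Functor.map_comp, hεk]
    exact sq
  have hrep := (Groth.Agent.S9946.result (X := ⟨O, hO⟩)
    (Y := ⟨(AlgSp.yon S).obj T₀, AlgSp.IsAlgSpace.yon_obj T₀⟩) (ObjectProperty.homMk g₀) T'
    ((AlgSp.yon S).map ε) ((AlgSp.repWith_yon_map_iff @Etale ε).2 hεet)
    ((AlgSp.repWith_yon_map_iff @Surjective ε).2 hεs) fst ((AlgSp.yon S).map w₁) sq₀
    (isQuasiAffineMor_yon_map w₁)).1
  obtain ⟨W, i, fst', sqW⟩ := hrep (𝟙 ((AlgSp.yon S).obj T₀))
  haveI : IsIso fst' := sqW.isIso_fst_of_isIso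
  exact ⟨W, ⟨(asIso fst').symm⟩⟩

end Descent

end Groth.Agent.Lib.T2H1.QOpenSch
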