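import Mathlib
import Groth.Prelude.Def_AlgSp4
import Groth.Agent.Lib.T2H1QOpenSchC
import Groth.Agent.Lib.T2H1Coprod
import Groth.Agent.S10537

/-! # The degree induction (helper1, team 2) -/

set_option autoImplicit false
universe u
open CategoryTheory CategoryTheory.Limits AlgebraicGeometry TopologicalSpace Opposite
open AlgSp

namespace Groth.Agent.Lib.T2H1.QOpenSch

open Groth.Agent.Lib.Helper12 Groth.Agent.Lib.Helper12.OpenSub

variable {S : Scheme.{u}}

/-- the source of a quasi-affine morphism to an affine scheme is a quasi-affine scheme. -/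
lemma exists_iso_yon_of_isQuasiAffineMor {V' : AlgSp.Sp S} {T' : Over S} [IsAffine T'.left]
    (h : V' ⟶ (AlgSp.yon S).obj T') (hqa : AlgSp.IsQuasiAffineMor h) :
    ∃ (V₀ : Over S) (φ : (AlgSp.yon S).obj V₀ ≅ V'), V₀.left.IsQuasiAffine := by
  obtain ⟨V₀, i₀, fst₀, sq₀, hV₀⟩ := hqa (inferInstance : IsAffine T'.left) (𝟙 _)
  haveI : IsIso fst₀ := sq₀.isIso_fst_of_isIso
  exact ⟨V₀, asIso fst₀, hV₀⟩

/-- an isomorphism is bijective on points. -/
lemma range_map_iso_comp {A B C : AlgSp.Sp S} (φ : A ≅ B) (j : B ⟶ C) :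
    Set.range (AlgSp.Points.map (φ.hom ≫ j)) = Set.range (AlgSp.Points.map j) := by
  ext x
  constructor
  · rintro ⟨y, rfl⟩
    exact ⟨AlgSp.Points.map φ.hom y, (AlgSp.Points.map_comp _ _ _).symm⟩
  · rintro ⟨y, rfl⟩
    refine ⟨AlgSp.Points.map φ.inv y, ?_⟩
    rw [← AlgSp.Points.map_comp, ← Category.assoc, φ.inv_hom_id, Category.id_comp]

/-- a map from the sheaf of an empty scheme is an open immersion. -/
lemma repWith_isOpenImmersion_of_isEmpty {V₀ : Over S} [IsEmpty V₀.left] {X : AlgSp.Sp S}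
    (i : (AlgSp.yon S).obj V₀ ⟶ X) : AlgSp.RepWith @IsOpenImmersion i := by
  have key : ∀ {Z : Over S} (g : (AlgSp.yon S).obj Z ⟶ X),
      IsPullback (𝟙 ((AlgSp.yon S).obj V₀))
        ((AlgSp.yon S).map (Over.homMk ((isInitialOfIsEmpty : IsInitial V₀.left).to Z.left)
          ((isInitialOfIsEmpty : IsInitial V₀.left).hom_ext _ _) : V₀ ⟶ Z)) i g := by
    intro Z g
    refine Groth.Agent.S13210.isPullback_of_yon
      (Groth.Agent.Lib.T2H1.Coprod.hom_ext_of_isEmpty _ _) (fun T' b c' hbc => ?_)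
    obtain ⟨t, rfl⟩ := (AlgSp.yon S).map_surjective b
    haveI hT' : IsEmpty T'.left := Function.isEmpty t.left
    exact ⟨(AlgSp.yon S).map t, ⟨by rw [Category.comp_id],
      Groth.Agent.Lib.T2H1.Coprod.hom_ext_of_isEmpty _ _⟩,
      fun _ _ => Groth.Agent.Lib.T2H1.Coprod.hom_ext_of_isEmpty _ _⟩
  refine ⟨fun {Z} g => ⟨V₀, _, _, key g⟩, fun {Z W} g fst snd sq => ?_⟩
  obtain ⟨t, rfl⟩ := (AlgSp.yon S).map_surjective fst
  haveI : IsEmpty W.left := Function.isEmpty t.left
  show IsOpenImmersion snd.left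
  infer_instance

/-- a scheme morphism is surjective when the induced map of sheaves has full range inside an open
immersion. -/
lemma compactSpace_of_range_eq {X : AlgSp.Sp S} {V₀ W : Over S} [CompactSpace ↥V₀.left]
    (i : (AlgSp.yon S).obj W ⟶ X) (hi : AlgSp.RepWith @IsOpenImmersion i)
    (c : (AlgSp.yon S).obj V₀ ⟶ X)
    (h : Set.range (AlgSp.Points.map i) = Set.range (AlgSp.Points.map c)) :
    CompactSpace ↥W.left := by
  obtain ⟨g, hg⟩ := (Groth.Agent.S10194.exists_factor_iff i hi c).2 h.ge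
  obtain ⟨g₀, rfl⟩ := (AlgSp.yon S).map_surjective g
  have hinj := LargestOpen.injective_map_of_open i hi
  have hsurj : Function.Surjective g₀.left := by
    intro w
    have h1 : AlgSp.Points.map i (AlgSp.Points.schemeHomeo W w) ∈
        Set.range (AlgSp.Points.map c) := by
      rw [← h]; exact ⟨_, rfl⟩
    obtain ⟨y, hy⟩ := h1
    rw [← hg, AlgSp.Points.map_comp] at hy
    have h2 := hinj hy
    obtain ⟨z, rfl⟩ := (AlgSp.Points.schemeHomeo V₀).surjective y
    rw [AlgSp.Points.map_yon_map_apply] at h2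
    exact ⟨z, (AlgSp.Points.schemeHomeo W).injective h2⟩
  exact hsurj.compactSpace g₀.left.continuous

/-- **the degree induction**: an open of `X ×_T T'` which is quasi-affine over `T'` has as image in
`X` a quasi-compact open subspace which is a scheme. -/
theorem exists_qc_open_subscheme (n : ℕ) : ∀ {T T' : Over S} [IsAffine T.left] [IsAffine T'.left]
    (e : T' ⟶ T) [Etale e.left] (_ : FibCardLE n e.left) {X P V' : AlgSp.Sp S}
    (_ : AlgSp.IsAlgSpace X) (f : X ⟶ (AlgSp.yon S).obj T) (_ : AlgSp.IsSeparatedMor f)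
    (_ : AlgSp.LocP (@LocallyQuasiFinite ⊓ @LocallyOfFiniteType) f)
    (p1 : P ⟶ (AlgSp.yon S).obj T') (p2 : P ⟶ X)
    (_ : IsPullback p2 p1 f ((AlgSp.yon S).map e)) (j : V' ⟶ P)
    (_ : AlgSp.RepWith @IsOpenImmersion j) (_ : AlgSp.IsQuasiAffineMor (j ≫ p1)),
    ∃ (W : Over S) (i : (AlgSp.yon S).obj W ⟶ X), AlgSp.RepWith @IsOpenImmersion i ∧
      CompactSpace ↥W.left ∧
      Set.range (AlgSp.Points.map i) = Set.range (AlgSp.Points.map (j ≫ p2)) := by
  induction n with
  | zero =>
    intro T T' _ _ e _ hn X P V' hX f hsep hqf p1 p2 sq j hj hqa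
    obtain ⟨V₀, φ, hV₀⟩ := exists_iso_yon_of_isQuasiAffineMor (j ≫ p1) hqa
    haveI : IsEmpty ↥T'.left := isEmpty_of_fibCardLE_zero hn
    obtain ⟨v₀, hv₀⟩ := (AlgSp.yon S).map_surjective (φ.hom ≫ j ≫ p1)
    haveI : IsEmpty ↥V₀.left := Function.isEmpty v₀.left
    refine ⟨V₀, φ.hom ≫ j ≫ p2, repWith_isOpenImmersion_of_isEmpty _, inferInstance, ?_⟩
    exact range_map_iso_comp φ (j ≫ p2)
  | succ n ih =>
    intro T T' _ _ e _ hn X P V' hX f hsep hqf p1 p2 sq j hj hqa
    obtain ⟨V₀, φ, hV₀⟩ := exists_iso_yon_of_isQuasiAffineMor (j ≫ p1) hqa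
    haveI := hV₀
    -- replace `V'` by the scheme `V₀`
    let j' : (AlgSp.yon S).obj V₀ ⟶ P := φ.hom ≫ j
    have hj' : AlgSp.RepWith @IsOpenImmersion j' :=
      (AlgSp.RepWith @IsOpenImmersion).comp_mem _ _
        (MorphismProperty.of_isIso (AlgSp.RepWith @IsOpenImmersion) φ.hom) hj
    have hqa' : AlgSp.IsQuasiAffineMor (j' ≫ p1) := by
      obtain ⟨v₀, hv₀⟩ := (AlgSp.yon S).map_surjective (j' ≫ p1)
      rw [← hv₀]
      exact isQuasiAffineMor_yon_map v₀
    have hrj : Set.range (AlgSp.Points.map (j' ≫ p2)) = Set.range (AlgSp.Points.map (j ≫ p2)) := by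
      show Set.range (AlgSp.Points.map ((φ.hom ≫ j) ≫ p2)) = _
      rw [Category.assoc]
      exact range_map_iso_comp φ (j ≫ p2)
    rw [← hrj]
    clear_value j'
    -- the complement of the diagonal
    haveI : IsSeparated e.left := inferInstance
    let Tst : Over S := offDiagOver e
    haveI : IsAffine Tst.left := isAffine_offDiag e.left
    let pr1 : Tst ⟶ T' := offDiagPr₁ e
    let pr2 : Tst ⟶ T' := offDiagPr₂ e
    haveI : Etale pr1.left := inferInstanceAs (Etale (offDiagFst e.left))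
    have hpr : pr1 ≫ e = pr2 ≫ e := offDiagPr_condition e
    have hnst : FibCardLE n pr1.left := fibCardLE_offDiagFst e.left hn
    -- the algebraic space `P`
    have hP : AlgSp.IsAlgSpace P :=
      Groth.Agent.S9874.isAlgSpace_of_isPullback (AlgSp.IsAlgSpace.yon_obj T).diag hX
        (AlgSp.IsAlgSpace.yon_obj T') sq
    have hsep1 : AlgSp.IsSeparatedMor p1 := Proper.isSeparatedMor_baseChange sq hsep
    have hqf1 : AlgSp.LocP (@LocallyQuasiFinite ⊓ @LocallyOfFiniteType) p1 :=
      LocPCases.good_lqf.locP_baseChange hX (AlgSp.IsAlgSpace.yon_obj T)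
        (AlgSp.IsAlgSpace.yon_obj T') sq hqf
    -- the base change to the complement of the diagonal
    let Pst : AlgSp.Sp S := pullback p1 ((AlgSp.yon S).map pr1)
    let q1 : Pst ⟶ P := pullback.fst _ _
    let τ : Pst ⟶ (AlgSp.yon S).obj Tst := pullback.snd _ _
    have sqst : IsPullback q1 τ p1 ((AlgSp.yon S).map pr1) := IsPullback.of_hasPullback _ _
    have hw2 : (q1 ≫ p2) ≫ f = (τ ≫ (AlgSp.yon S).map pr2) ≫ (AlgSp.yon S).map e := by
      rw [Category.assoc, sq.w, ← Category.assoc, sqst.w, Category.assoc, Category.assoc,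
        ← Functor.map_comp, ← Functor.map_comp, hpr]
    let q2 : Pst ⟶ P := sq.lift (q1 ≫ p2) (τ ≫ (AlgSp.yon S).map pr2) hw2
    have hq2a : q2 ≫ p2 = q1 ≫ p2 := sq.lift_fst _ _ _
    have hq2b : q2 ≫ p1 = τ ≫ (AlgSp.yon S).map pr2 := sq.lift_snd _ _ _
    have sq2 : IsPullback q2 τ p1 ((AlgSp.yon S).map pr2) := by
      have big := sqst.paste_horiz sq
      rw [← Functor.map_comp, hpr, Functor.map_comp, ← hq2a] at big
      exact IsPullback.of_right big hq2b sq
    -- the pullback of `V₀`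
    let Vst : AlgSp.Sp S := pullback q2 j'
    let jst : Vst ⟶ Pst := pullback.fst _ _
    let r : Vst ⟶ (AlgSp.yon S).obj V₀ := pullback.snd _ _
    have sqV : IsPullback jst r q2 j' := IsPullback.of_hasPullback _ _
    have hjst : AlgSp.RepWith @IsOpenImmersion jst :=
      MorphismProperty.of_isPullback (P := AlgSp.RepWith @IsOpenImmersion) sqV.flip hj'
    have hqast : AlgSp.IsQuasiAffineMor (jst ≫ τ) :=
      Groth.Agent.S10537.isQuasiAffineMor_of_isPullback (sqV.flip.paste_vert sq2) hqa'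
    -- the induction hypothesis
    obtain ⟨Wst, ist, hist, hWst, hrist⟩ :=
      ih pr1 hnst hP p1 hsep1 hqf1 τ q1 sqst jst hjst hqast
    haveI := hWst
    -- the image of `V₀` in `X`
    have hp2 : AlgSp.RepWith @Etale p2 :=
      MorphismProperty.of_isPullback (P := AlgSp.RepWith @Etale) sq.flip
        ((AlgSp.repWith_yon_map_iff @Etale e).2 inferInstance)
    have hjp2 : AlgSp.RepWith @Etale (j' ≫ p2) :=
      (AlgSp.RepWith @Etale).comp_mem _ _
        (OpenSub.repWith_mono (fun _ _ g hg => by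
          haveI : IsOpenImmersion g := hg; exact (inferInstance : Etale g)) hj') hp2
    let R : Set (AlgSp.Points X) := Set.range (AlgSp.Points.map (j' ≫ p2))
    have hR : IsOpen R := by
      have := Groth.Agent.S9908.isOpenMap_map_of_repWith (j' ≫ p2)
        (OpenSub.repWith_mono (fun _ _ g hg => by
          haveI : Etale g := hg; exact (inferInstance : UniversallyOpen g)) hjp2)
      show IsOpen (Set.range (AlgSp.Points.map (j' ≫ p2)))
      rw [← Set.image_univ]
      exact this _ isOpen_univ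
    let O : AlgSp.Sp S := OpenSub.obj X R
    let ι : O ⟶ X := OpenSub.incl X R
    have hι : AlgSp.RepWith @IsOpenImmersion ι := OpenSub.repWith_incl hR
    have hO : AlgSp.IsAlgSpace O := OpenSub.isAlgSpace_obj hX hR
    have hrι : Set.range (AlgSp.Points.map ι) = R := OpenSub.range_map_incl R
    -- its preimage in `P`
    let U' : AlgSp.Sp S := pullback ι p2
    let uO : U' ⟶ O := pullback.fst _ _
    let uP : U' ⟶ P := pullback.snd _ _
    have sqU : IsPullback uO uP ι p2 := IsPullback.of_hasPullback _ _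
    have huP : AlgSp.RepWith @IsOpenImmersion uP :=
      MorphismProperty.of_isPullback (P := AlgSp.RepWith @IsOpenImmersion) sqU hι
    haveI : Mono uP := LargestOpen.mono_of_open uP huP
    have hruP : Set.range (AlgSp.Points.map uP) =
        Set.range (AlgSp.Points.map j') ∪ Set.range (AlgSp.Points.map ist) := by
      rw [OpenSub.range_map_fst_of_isPullback sqU.flip, hrι, hrist]
      exact preimage_range_eq e sq sqst hq2a hq2b sqV
    -- the two opens of `U'`
    obtain ⟨a, ha⟩ := (Groth.Agent.S10194.exists_factor_iff uP huP j').2 (by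
      rw [hruP]; exact Set.subset_union_left)
    obtain ⟨b, hb⟩ := (Groth.Agent.S10194.exists_factor_iff uP huP ist).2 (by
      rw [hruP]; exact Set.subset_union_right)
    have hao : AlgSp.RepWith @IsOpenImmersion a :=
      repWith_of_comp_mono @IsOpenImmersion a uP (by rw [ha]; exact hj')
    have hbo : AlgSp.RepWith @IsOpenImmersion b :=
      repWith_of_comp_mono @IsOpenImmersion b uP (by rw [hb]; exact hist)
    have huPinj := LargestOpen.injective_map_of_open uP huP
    obtain ⟨W₁, ε₁, kA, kB, hkA, hkB, hkAo, hkBo, hkcov⟩ :=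
      exists_iso_of_two_opens a b hao hbo (by
        intro x
        have hx : AlgSp.Points.map uP x ∈ Set.range (AlgSp.Points.map uP) := ⟨x, rfl⟩
        rw [hruP] at hx
        rcases hx with ⟨y, hy⟩ | ⟨y, hy⟩
        · left
          refine ⟨y, huPinj ?_⟩
          rw [← AlgSp.Points.map_comp, ha]; exact hy
        · right
          refine ⟨y, huPinj ?_⟩
          rw [← AlgSp.Points.map_comp, hb]; exact hy)
    haveI := hkAo
    haveI := hkBo
    -- `W₁` is quasi-compact
    haveI : CompactSpace ↥V₀.left := inferInstance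
    haveI hW₁c : CompactSpace ↥W₁.left := by
      constructor
      have huniv : (Set.univ : Set ↥W₁.left) = Set.range kA.left ∪ Set.range kB.left := by
        ext w
        simp only [Set.mem_univ, Set.mem_union, true_iff]
        exact hkcov w
      rw [huniv]
      exact (isCompact_range kA.left.continuous).union (isCompact_range kB.left.continuous)
    -- `W₁` is quasi-affine over `T'`
    obtain ⟨w₁, hw₁⟩ := (AlgSp.yon S).map_surjective (ε₁.hom ≫ uP ≫ p1)
    have hε₁o : AlgSp.RepWith @IsOpenImmersion (ε₁.hom ≫ uP) :=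
      (AlgSp.RepWith @IsOpenImmersion).comp_mem _ _
        (MorphismProperty.of_isIso (AlgSp.RepWith @IsOpenImmersion) ε₁.hom) huP
    haveI : Mono (ε₁.hom ≫ uP) := LargestOpen.mono_of_open _ hε₁o
    haveI : IsSeparated w₁.left := by
      rw [← AlgSp.isSeparatedMor_yon_map_iff, hw₁, ← Category.assoc]
      exact Proper.isSeparatedMor_comp _ _ (Proper.isSeparatedMor_of_mono _) hsep1
    have hw₁qf : (@LocallyQuasiFinite ⊓ @LocallyOfFiniteType : MorphismProperty Scheme.{u})
        w₁.left := by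
      apply AlgSp.locP_yon_map
      rw [hw₁, ← Category.assoc]
      refine LocPCases.good_lqf.locP_comp hP (AlgSp.IsAlgSpace.yon_obj T') _ _ ?_ hqf1
      haveI := Groth.Agent.Lib.Helper12.descendsAlong_locallyQuasiFinite_inf_locallyOfFiniteType.{u}
      refine (Groth.Agent.S9948.locP_iff_repWith
        (@LocallyQuasiFinite ⊓ @LocallyOfFiniteType : MorphismProperty Scheme.{u})
        LocPCases.good_lqf.hEt hP _ hε₁o.1).2 ?_
      exact OpenSub.repWith_mono (fun _ _ g hg => by
        haveI : IsOpenImmersion g := hg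
        exact LocPCases.good_lqf.hEt g inferInstance) hε₁o
    haveI : LocallyQuasiFinite w₁.left := hw₁qf.1
    haveI : LocallyOfFiniteType w₁.left := hw₁qf.2
    haveI : QuasiCompact w₁.left := HasAffineProperty.iff_of_isAffine.mpr hW₁c
    obtain ⟨T₂, j₂, π₂, hj₂, hπ₂, -⟩ :=
      Groth.Agent.Lib.T2H3.ZMTFin.exists_finite_factorization w₁.left
    haveI := hj₂
    haveI := hπ₂
    haveI : IsAffine T₂ := isAffine_of_isAffineHom π₂
    haveI : W₁.left.IsQuasiAffine := Scheme.IsQuasiAffine.of_isImmersion j₂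
    -- descend
    have sqW₁ : IsPullback (ε₁.hom ≫ uO) ((AlgSp.yon S).map w₁) (ι ≫ f) ((AlgSp.yon S).map e) := by
      have big := sqU.paste_vert sq
      refine IsPullback.of_iso big ε₁.symm (Iso.refl _) (Iso.refl _) (Iso.refl _) ?_ ?_ ?_ ?_
      · simp
      · simp [hw₁]
      · simp
      · simp
    obtain ⟨W, ⟨q⟩⟩ := exists_iso_yon_of_baseChange_quasiAffine e hO (ι ≫ f) W₁
      (ε₁.hom ≫ uO) w₁ sqW₁ (by
        intro x
        have hx : AlgSp.Points.map ι x ∈ R := by rw [← hrι]; exact ⟨x, rfl⟩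
        obtain ⟨y, hy⟩ := hx
        refine ⟨AlgSp.Points.map (j' ≫ p1) y, ?_⟩
        have hm : (j' ≫ p1) ≫ (AlgSp.yon S).map e = (j' ≫ p2) ≫ f := by
          rw [Category.assoc, Category.assoc, sq.w]
        rw [AlgSp.Points.map_comp ι f, ← hy, ← AlgSp.Points.map_comp, ← AlgSp.Points.map_comp, hm])
    have hio : AlgSp.RepWith @IsOpenImmersion (q.inv ≫ ι) :=
      (AlgSp.RepWith @IsOpenImmersion).comp_mem _ _
        (MorphismProperty.of_isIso (AlgSp.RepWith @IsOpenImmersion) q.inv) hι
    have hri : Set.range (AlgSp.Points.map (q.inv ≫ ι)) =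
        Set.range (AlgSp.Points.map (j' ≫ p2)) := by
      have h1 := range_map_iso_comp q.symm ι
      rw [Iso.symm_hom] at h1
      rw [h1, hrι]
    exact ⟨W, q.inv ≫ ι, hio, compactSpace_of_range_eq _ hio (j' ≫ p2) hri, hri⟩

end Groth.Agent.Lib.T2H1.QOpenSch
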