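import Mathlib
import Groth.Prelude.Def_AlgSp4
import Groth.Agent.Lib.T2H1QOpenSchD
import Groth.Agent.S10261
import Groth.Agent.S10272
import Groth.Agent.S9938
import Groth.Agent.S3694

/-! # A finite étale chart with a purely inseparable isolated point is an open immersion near that
point (helper1, team 2) -/

set_option autoImplicit false
universe u
open CategoryTheory CategoryTheory.Limits AlgebraicGeometry TopologicalSpace Opposite
open AlgSp

namespace Groth.Agent.Lib.T2H1.LqfSepRep

open Groth.Agent.Lib.Helper12 Groth.Agent.Lib.Helper12.OpenSub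

variable {S : Scheme.{u}}

/-- a finite morphism of schemes with affine target is finite as a morphism of sheaves. -/
theorem isFiniteMor_yon_map {A B : Over S} (m : A ⟶ B) [IsFinite m.left] :
    AlgSp.IsFiniteMor ((AlgSp.yon S).map m) := by
  intro Z hZ g
  haveI := hZ
  obtain ⟨g₀, rfl⟩ := (AlgSp.yon S).map_surjective g
  let W : Over S := pullback m g₀
  have sqO : IsPullback (pullback.fst m g₀) (pullback.snd m g₀) m g₀ := IsPullback.of_hasPullback _ _
  have sqL : IsPullback (pullback.fst m g₀).left (pullback.snd m g₀).left m.left g₀.left :=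
    sqO.map (Over.forget S)
  haveI : IsFinite (pullback.snd m g₀).left :=
    MorphismProperty.of_isPullback (P := @IsFinite) sqL inferInstance
  haveI : IsAffine W.left := isAffine_of_isAffineHom (pullback.snd m g₀).left
  exact ⟨W, pullback.snd m g₀, (AlgSp.yon S).map (pullback.fst m g₀), sqO.map (AlgSp.yon S),
    inferInstance, inferInstance⟩

/-- the unique point of the spectrum of a field. -/
lemma range_eq_singleton {K : Type u} [Field K] {Y : Scheme.{u}} (γ : Spec (.of K) ⟶ Y) :
    Set.range γ = {γ (IsLocalRing.closedPoint K)} := by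
  ext y
  constructor
  · rintro ⟨t, rfl⟩
    have : t = IsLocalRing.closedPoint K :=
      ((PrimeSpectrum.instUnique (R := K)).uniq t).trans
        ((PrimeSpectrum.instUnique (R := K)).uniq _).symm
    rw [this]; rfl
  · rintro rfl
    exact ⟨_, rfl⟩

theorem exists_open_nbhd_openImmersion {P : AlgSp.Sp S} (hP : AlgSp.IsAlgSpace P)
    {T' V₂ : Over S} [IsAffine T'.left] (p1 : P ⟶ (AlgSp.yon S).obj T')
    (hsep : AlgSp.IsSeparatedMor p1) (vT : V₂ ⟶ T') [IsFinite vT.left]
    (c : (AlgSp.yon S).obj V₂ ⟶ P) (hc : AlgSp.RepWith @Etale c)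
    (hcp : c ≫ p1 = (AlgSp.yon S).map vT) (v : V₂.left)
    (huniq : ∀ w, vT.left w = vT.left v → w = v)
    (hpi : ∀ (K : Type u) [Field K] (a b : Spec (.of K) ⟶ V₂.left),
      a (IsLocalRing.closedPoint K) = v → b (IsLocalRing.closedPoint K) = v →
      a ≫ vT.left = b ≫ vT.left → a = b) :
    ∃ (N : Over S) (n : N ⟶ V₂), IsAffine N.left ∧ IsOpenImmersion n.left ∧
      v ∈ Set.range n.left ∧ AlgSp.RepWith @IsOpenImmersion ((AlgSp.yon S).map n ≫ c) := by
  haveI hV₂aff : IsAffine V₂.left := isAffine_of_isAffineHom vT.left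
  -- `c` is finite
  have hcfin : AlgSp.IsFiniteMor c := by
    have h1 := (Groth.Agent.S10272.result
      (X := ⟨(AlgSp.yon S).obj V₂, AlgSp.IsAlgSpace.yon_obj V₂⟩) (Y := ⟨P, hP⟩)
      (Z := ⟨(AlgSp.yon S).obj T', AlgSp.IsAlgSpace.yon_obj T'⟩) (ObjectProperty.homMk c)
      (ObjectProperty.homMk p1) hsep).1
    refine h1 ?_
    show AlgSp.IsFiniteMor (c ≫ p1)
    rw [hcp]
    exact isFiniteMor_yon_map vT
  obtain ⟨R₂, r₂, r₁', sqR, hR₂aff, hr₂fin⟩ := hcfin hV₂aff c
  obtain ⟨r₁, rfl⟩ := (AlgSp.yon S).map_surjective r₁'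
  haveI := hr₂fin
  haveI hr₁et : Etale r₁.left := hc.2 c _ r₁ sqR.flip
  have hr12 : r₁ ≫ vT = r₂ ≫ vT := by
    apply (AlgSp.yon S).map_injective
    rw [Functor.map_comp, Functor.map_comp, ← hcp, ← Category.assoc, sqR.w, Category.assoc]
  -- the diagonal
  obtain ⟨Δ, hΔ⟩ := (AlgSp.yon S).map_surjective (sqR.lift (𝟙 _) (𝟙 _) rfl)
  have hΔ1 : Δ ≫ r₁ = 𝟙 _ := by
    apply (AlgSp.yon S).map_injective
    rw [Functor.map_comp, hΔ, sqR.lift_fst]
    exact ((AlgSp.yon S).map_id _).symm
  have hΔ2 : Δ ≫ r₂ = 𝟙 _ := by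
    apply (AlgSp.yon S).map_injective
    rw [Functor.map_comp, hΔ, sqR.lift_snd]
    exact ((AlgSp.yon S).map_id _).symm
  have hΔ1l : Δ.left ≫ r₁.left = 𝟙 _ := congrArg (fun m => m.left) hΔ1
  have hΔ2l : Δ.left ≫ r₂.left = 𝟙 _ := congrArg (fun m => m.left) hΔ2
  haveI : Etale Δ.left := LocPCases.good_etale.hcancel Δ.left r₁.left hr₁et (by
    rw [hΔ1l]; infer_instance)
  haveI : Mono Δ.left := mono_of_mono_fac hΔ1l
  haveI hΔo : IsOpenImmersion Δ.left := Groth.Agent.S3694.result Δ.left
  -- the bad locus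
  let B : Set ↥V₂.left := r₂.left '' (Set.range Δ.left)ᶜ
  have hBclosed : IsClosed B :=
    r₂.left.isClosedMap _ Δ.left.isOpenEmbedding.isOpen_range.isClosed_compl
  have hvB : v ∉ B := by
    rintro ⟨z, hz, hzv⟩
    apply hz
    let φ : Spec (.of (R₂.left.residueField z)) ⟶ R₂.left := R₂.left.fromSpecResidueField z
    have hφz : φ (IsLocalRing.closedPoint _) = z := Scheme.fromSpecResidueField_apply _ _
    have hr₁z : r₁.left z = v := by
      apply huniq
      have := congrArg (fun m => m.left) hr12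
      simp only [Over.comp_left] at this
      rw [← Scheme.Hom.comp_apply, this, Scheme.Hom.comp_apply, hzv]
    have hab : φ ≫ r₁.left = φ ≫ r₂.left := by
      refine hpi _ _ _ ?_ ?_ ?_
      · rw [Scheme.Hom.comp_apply, hφz]; exact hr₁z
      · rw [Scheme.Hom.comp_apply, hφz]; exact hzv
      · have := congrArg (fun m => m.left) hr12
        simp only [Over.comp_left] at this
        rw [Category.assoc, Category.assoc, this]
    let φO : Over.mk (φ ≫ R₂.hom) ⟶ R₂ := Over.homMk φ rfl
    have hφO : φO = φO ≫ r₁ ≫ Δ := by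
      apply (AlgSp.yon S).map_injective
      apply sqR.hom_ext
      · rw [← Functor.map_comp, ← Functor.map_comp]
        congr 1
        rw [Category.assoc, Category.assoc, hΔ1, Category.comp_id]
      · rw [← Functor.map_comp, ← Functor.map_comp]
        congr 1
        rw [Category.assoc, Category.assoc, hΔ2, Category.comp_id]
        exact (Over.OverMorphism.ext hab).symm
    have hφl : φ = (φ ≫ r₁.left) ≫ Δ.left := by
      have h1 : φO.left = φO.left ≫ r₁.left ≫ Δ.left := by
        have := congrArg (fun m => m.left) hφO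
        simpa only [Over.comp_left] using this
      rw [Category.assoc]
      exact h1
    refine ⟨(φ ≫ r₁.left) (IsLocalRing.closedPoint _), ?_⟩
    rw [← Scheme.Hom.comp_apply, ← hφl]
    exact hφz
  -- an affine neighbourhood avoiding the bad locus
  obtain ⟨N', hN'aff, hvN', hN'B⟩ := exists_isAffineOpen_mem_and_subset (X := V₂.left) (x := v)
    (U := ⟨Bᶜ, hBclosed.isOpen_compl⟩) hvB
  let N : Over S := Over.mk (N'.ι ≫ V₂.hom)
  let n : N ⟶ V₂ := Over.homMk N'.ι rfl
  haveI : IsOpenImmersion n.left := inferInstanceAs (IsOpenImmersion N'.ι)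
  haveI : IsAffine N.left := hN'aff
  have hnet : AlgSp.RepWith @Etale ((AlgSp.yon S).map n ≫ c) :=
    (AlgSp.RepWith @Etale).comp_mem _ _
      ((AlgSp.repWith_yon_map_iff @Etale n).2 inferInstance) hc
  refine ⟨N, n, inferInstance, inferInstance, ?_, ?_⟩
  · show v ∈ Set.range N'.ι
    rw [Scheme.Opens.range_ι]; exact hvN'
  · -- étale and universally injective
    refine Groth.Agent.S10261.result (X := ⟨(AlgSp.yon S).obj N, AlgSp.IsAlgSpace.yon_obj N⟩)
      (Y := ⟨P, hP⟩) (ObjectProperty.homMk ((AlgSp.yon S).map n ≫ c)) ?_ ?_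
    · intro U φ hφ
      exact (AlgSp.RepWith @Etale).comp_mem _ _ hφ hnet
    · refine (Groth.Agent.S9938.result
        (X := ⟨(AlgSp.yon S).obj N, AlgSp.IsAlgSpace.yon_obj N⟩) (Y := ⟨P, hP⟩)
        (ObjectProperty.homMk ((AlgSp.yon S).map n ≫ c))).1.1 ?_
      intro K _ str α β hαβ
      have hαβ' : α ≫ (AlgSp.yon S).map n ≫ c = β ≫ (AlgSp.yon S).map n ≫ c := hαβ
      obtain ⟨α₀, rfl⟩ := (AlgSp.yon S).map_surjective α
      obtain ⟨β₀, rfl⟩ := (AlgSp.yon S).map_surjective β
      obtain ⟨ψ₀, hψ₀⟩ := (AlgSp.yon S).map_surjective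
        (sqR.lift ((AlgSp.yon S).map α₀ ≫ (AlgSp.yon S).map n)
          ((AlgSp.yon S).map β₀ ≫ (AlgSp.yon S).map n)
          (by rw [Category.assoc, Category.assoc]; exact hαβ'))
      have hψ1 : ψ₀ ≫ r₁ = α₀ ≫ n := by
        apply (AlgSp.yon S).map_injective
        rw [Functor.map_comp, hψ₀, sqR.lift_fst, Functor.map_comp]
      have hψ2 : ψ₀ ≫ r₂ = β₀ ≫ n := by
        apply (AlgSp.yon S).map_injective
        rw [Functor.map_comp, hψ₀, sqR.lift_snd, Functor.map_comp]
      have hψ1l : ψ₀.left ≫ r₁.left = α₀.left ≫ n.left := congrArg (fun m => m.left) hψ1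
      have hψ2l : ψ₀.left ≫ r₂.left = β₀.left ≫ n.left := congrArg (fun m => m.left) hψ2
      let pt : ↥(Spec (CommRingCat.of K)) := IsLocalRing.closedPoint K
      have hz : ψ₀.left pt ∈ Set.range Δ.left := by
        by_contra hcon
        have h1 : r₂.left (ψ₀.left pt) ∈ B := ⟨_, hcon, rfl⟩
        have h2 : r₂.left (ψ₀.left pt) = N'.ι (β₀.left pt) := by
          rw [← Scheme.Hom.comp_apply, hψ2l, Scheme.Hom.comp_apply]
          rfl
        rw [h2] at h1
        exact hN'B (β₀.left pt).2 h1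
      have hsub : Set.range ψ₀.left ⊆ Set.range Δ.left := by
        rw [range_eq_singleton ψ₀.left]
        exact Set.singleton_subset_iff.2 hz
      let d := IsOpenImmersion.lift Δ.left ψ₀.left hsub
      have hd : d ≫ Δ.left = ψ₀.left := IsOpenImmersion.lift_fac _ _ _
      have h1 : α₀.left ≫ n.left = d := by
        rw [← hψ1l, ← hd, Category.assoc, hΔ1l, Category.comp_id]
      have h2 : β₀.left ≫ n.left = d := by
        rw [← hψ2l, ← hd, Category.assoc, hΔ2l, Category.comp_id]
      have h3 : α₀.left = β₀.left := (cancel_mono n.left).1 (h1.trans h2.symm)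
      show (AlgSp.yon S).map α₀ = (AlgSp.yon S).map β₀
      rw [Over.OverMorphism.ext h3]

end Groth.Agent.Lib.T2H1.LqfSepRep
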