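import Mathlib
import Groth.Prelude.Def_AlgSp4
import Groth.Agent.Lib.T2H1LqfSepRepA
import Groth.Agent.Lib.T2H1LqfSepRepB
import Groth.Agent.S9947
import Groth.Agent.S10509

/-! # Separated locally quasi-finite algebraic spaces over a scheme are schemes (helper1, team 2) -/

set_option autoImplicit false
universe u
open CategoryTheory CategoryTheory.Limits AlgebraicGeometry TopologicalSpace Opposite
open AlgSp

namespace Groth.Agent.Lib.T2H1.LqfSepRep

open Groth.Agent.Lib.Helper12 Groth.Agent.Lib.Helper12.OpenSub Groth.Agent.Lib.T2H1.QOpenSch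

variable {S : Scheme.{u}}

/-- **local form**: every point of a separated locally quasi-finite algebraic space over an affine
scheme has an open neighbourhood which is a scheme. -/
theorem exists_open_subscheme_nbhd {X : AlgSp.Sp S} (hX : AlgSp.IsAlgSpace X) {T : Over S}
    [IsAffine T.left] (f : X ⟶ (AlgSp.yon S).obj T) (hsep : AlgSp.IsSeparatedMor f)
    (hqf : AlgSp.LocP (@LocallyQuasiFinite ⊓ @LocallyOfFiniteType) f) {U : Over S}
    (a : (AlgSp.yon S).obj U ⟶ X) (ha : AlgSp.RepWith @Etale a) (u : U.left) :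
    ∃ (W : Over S) (i : (AlgSp.yon S).obj W ⟶ X), AlgSp.RepWith @IsOpenImmersion i ∧
      AlgSp.Points.ofPt a u ∈ Set.range (AlgSp.Points.map i) := by
  obtain ⟨h, hh⟩ := (AlgSp.yon S).map_surjective (a ≫ f)
  have hhqf : (@LocallyQuasiFinite ⊓ @LocallyOfFiniteType : MorphismProperty Scheme.{u}) h.left :=
    hqf a (𝟙 _) h ha (AlgSp.repWith_id _ T) (by rw [Category.comp_id, hh])
  haveI : LocallyQuasiFinite h.left := hhqf.1
  haveI : LocallyOfFiniteType h.left := hhqf.2
  obtain ⟨T'l, el, V₂l, vUl, vTl, v, hT'aff, hel, hcomm, hvUet, hvTfin, hvu, huniq, hpi⟩ :=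
    exists_affine_etale_localization h.left u (h.left.quasiFiniteAt u)
  let T' : Over S := Over.mk (el ≫ T.hom)
  let e : T' ⟶ T := Over.homMk el rfl
  let V₂ : Over S := Over.mk (vTl ≫ el ≫ T.hom)
  let vT : V₂ ⟶ T' := Over.homMk vTl rfl
  let vU : V₂ ⟶ U := Over.homMk vUl (by
    show vUl ≫ U.hom = vTl ≫ el ≫ T.hom
    rw [← Over.w h, ← Category.assoc, hcomm, Category.assoc])
  have hvUh : vU ≫ h = vT ≫ e := Over.OverMorphism.ext hcomm
  haveI : IsAffine T'.left := hT'aff
  haveI : Etale e.left := hel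
  haveI : IsFinite vT.left := hvTfin
  haveI : Etale vU.left := hvUet
  -- the base change
  let P : AlgSp.Sp S := pullback f ((AlgSp.yon S).map e)
  let p2 : P ⟶ X := pullback.fst _ _
  let p1 : P ⟶ (AlgSp.yon S).obj T' := pullback.snd _ _
  have sq : IsPullback p2 p1 f ((AlgSp.yon S).map e) := IsPullback.of_hasPullback _ _
  have hP : AlgSp.IsAlgSpace P :=
    Groth.Agent.S9874.isAlgSpace_of_isPullback (AlgSp.IsAlgSpace.yon_obj T).diag hX
      (AlgSp.IsAlgSpace.yon_obj T') sq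
  have hsep1 : AlgSp.IsSeparatedMor p1 := Proper.isSeparatedMor_baseChange sq hsep
  have hw : ((AlgSp.yon S).map vU ≫ a) ≫ f = (AlgSp.yon S).map vT ≫ (AlgSp.yon S).map e := by
    rw [Category.assoc, ← hh, ← Functor.map_comp, ← Functor.map_comp, hvUh]
  let c : (AlgSp.yon S).obj V₂ ⟶ P := sq.lift ((AlgSp.yon S).map vU ≫ a) ((AlgSp.yon S).map vT) hw
  have hc2 : c ≫ p2 = (AlgSp.yon S).map vU ≫ a := sq.lift_fst _ _ _
  have hc1 : c ≫ p1 = (AlgSp.yon S).map vT := sq.lift_snd _ _ _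
  -- `c` is étale
  have hp2 : AlgSp.RepWith @Etale p2 :=
    MorphismProperty.of_isPullback (P := AlgSp.RepWith @Etale) sq.flip
      ((AlgSp.repWith_yon_map_iff @Etale e).2 inferInstance)
  have hc : AlgSp.RepWith @Etale c := by
    have h1 : AlgSp.RepWith @Etale (c ≫ p2) := by
      rw [hc2]
      exact (AlgSp.RepWith @Etale).comp_mem _ _
        ((AlgSp.repWith_yon_map_iff @Etale vU).2 inferInstance) ha
    have h2 : AlgSp.LocP @Etale (c ≫ p2) :=
      Groth.Agent.S9947.locP_of_repWith_etale @Etale (fun g hg => hg) _ h1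
    have h3 : AlgSp.LocP @Etale c := LargestOpen.locP_cancel_repEtale @Etale c p2 hp2 h2
    exact (Groth.Agent.S9948.locP_iff_repWith @Etale (fun g hg => hg) hP c
      (hP.representable_from_yon c)).1 h3
  -- shrink to an open immersion
  obtain ⟨N, n, hNaff, hno, ⟨vN, hvN⟩, hopen⟩ :=
    exists_open_nbhd_openImmersion hP p1 hsep1 vT c hc hc1 v huniq hpi
  haveI := hNaff
  haveI := hno
  obtain ⟨m, hm⟩ := exists_fibCardLE e.left
  have hqa : AlgSp.IsQuasiAffineMor (((AlgSp.yon S).map n ≫ c) ≫ p1) := by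
    rw [Category.assoc, hc1, ← Functor.map_comp]
    exact isQuasiAffineMor_yon_map (n ≫ vT)
  obtain ⟨W, i, hi, -, hri⟩ := exists_qc_open_subscheme m e hm hX f hsep hqf p1 p2 sq
    ((AlgSp.yon S).map n ≫ c) hopen hqa
  refine ⟨W, i, hi, ?_⟩
  rw [hri]
  have h1 : ((AlgSp.yon S).map n ≫ c) ≫ p2 = (AlgSp.yon S).map (n ≫ vU) ≫ a := by
    rw [Category.assoc, hc2, Functor.map_comp, Category.assoc]
  rw [h1]
  refine ⟨AlgSp.Points.ofScheme N vN, ?_⟩
  rw [← AlgSp.Points.ofPt_eq_map_ofScheme, Groth.Agent.S10509.ofPt_yon_map_comp]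
  have h2 : (n ≫ vU).left vN = u := by
    show vUl (n.left vN) = u
    rw [hvN]; exact hvu
  rw [h2]

end Groth.Agent.Lib.T2H1.LqfSepRep
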