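import Mathlib
import Groth.Prelude.Def_AlgSp4
import Groth.Agent.Lib.T2H1LqfSepRepC
import Groth.Agent.S10177

/-! # Separated locally quasi-finite algebraic spaces over a scheme are schemes: global form
(helper1, team 2) -/

set_option autoImplicit false
universe u
open CategoryTheory CategoryTheory.Limits AlgebraicGeometry TopologicalSpace Opposite
open AlgSp

namespace Groth.Agent.Lib.T2H1.LqfSepRep

open Groth.Agent.Lib.Helper12 Groth.Agent.Lib.Helper12.OpenSub Groth.Agent.Lib.T2H1.QOpenSch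

variable {S : Scheme.{u}}

/-- every point of a separated locally quasi-finite algebraic space over a scheme has an open
neighbourhood which is a scheme. -/
theorem exists_open_subscheme_nbhd' {X : AlgSp.Sp S} (hX : AlgSp.IsAlgSpace X) {T : Over S}
    (f : X ⟶ (AlgSp.yon S).obj T) (hsep : AlgSp.IsSeparatedMor f)
    (hqf : AlgSp.LocP (@LocallyQuasiFinite ⊓ @LocallyOfFiniteType) f) (x : AlgSp.Points X) :
    ∃ (W : Over S) (i : (AlgSp.yon S).obj W ⟶ X), AlgSp.RepWith @IsOpenImmersion i ∧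
      x ∈ Set.range (AlgSp.Points.map i) := by
  -- an affine open of `T` containing the image of `x`
  let t : ↥T.left := (AlgSp.Points.schemeHomeo T).symm (AlgSp.Points.map f x)
  obtain ⟨T₀, hT₀aff, htT₀, -⟩ :=
    exists_isAffineOpen_mem_and_subset (X := T.left) (x := t) (U := ⊤) (by simp)
  let TO : Over S := Over.mk (T₀.ι ≫ T.hom)
  let k : TO ⟶ T := Over.homMk T₀.ι rfl
  haveI : IsAffine TO.left := hT₀aff
  have hk : AlgSp.RepWith @IsOpenImmersion ((AlgSp.yon S).map k) :=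
    (AlgSp.repWith_yon_map_iff @IsOpenImmersion k).2 (inferInstanceAs (IsOpenImmersion T₀.ι))
  let Xu : AlgSp.Sp S := pullback f ((AlgSp.yon S).map k)
  let pX : Xu ⟶ X := pullback.fst _ _
  let fu : Xu ⟶ (AlgSp.yon S).obj TO := pullback.snd _ _
  have squ : IsPullback pX fu f ((AlgSp.yon S).map k) := IsPullback.of_hasPullback _ _
  have hXu : AlgSp.IsAlgSpace Xu :=
    Groth.Agent.S9874.isAlgSpace_of_isPullback (AlgSp.IsAlgSpace.yon_obj T).diag hX
      (AlgSp.IsAlgSpace.yon_obj TO) squ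
  have hpX : AlgSp.RepWith @IsOpenImmersion pX :=
    MorphismProperty.of_isPullback (P := AlgSp.RepWith @IsOpenImmersion) squ.flip hk
  have hsepu : AlgSp.IsSeparatedMor fu := Proper.isSeparatedMor_baseChange squ hsep
  have hqfu : AlgSp.LocP (@LocallyQuasiFinite ⊓ @LocallyOfFiniteType) fu :=
    LocPCases.good_lqf.locP_baseChange hX (AlgSp.IsAlgSpace.yon_obj T)
      (AlgSp.IsAlgSpace.yon_obj TO) squ hqf
  -- `x` lies in `Xu`
  have hx : x ∈ Set.range (AlgSp.Points.map pX) := by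
    rw [OpenSub.range_map_fst_of_isPullback squ]
    refine ⟨AlgSp.Points.schemeHomeo TO ⟨t, htT₀⟩, ?_⟩
    rw [AlgSp.Points.map_yon_map_apply]
    show AlgSp.Points.schemeHomeo T t = AlgSp.Points.map f x
    exact (AlgSp.Points.schemeHomeo T).apply_symm_apply _
  obtain ⟨xu, hxu⟩ := hx
  obtain ⟨U', a', ha'e, ha's⟩ := hXu.atlas
  obtain ⟨u', hu'⟩ := Groth.Agent.S10177.surjective_ofPt a' ha's xu
  obtain ⟨W, i', hi', hmem⟩ := exists_open_subscheme_nbhd hXu fu hsepu hqfu a' ha'e u'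
  refine ⟨W, i' ≫ pX, (AlgSp.RepWith @IsOpenImmersion).comp_mem _ _ hi' hpX, ?_⟩
  rw [hu'] at hmem
  obtain ⟨y, hy⟩ := hmem
  exact ⟨y, by rw [AlgSp.Points.map_comp, hy, hxu]⟩

/-- **an algebraic space which is separated and locally quasi-finite over a scheme is a
scheme.** -/
theorem exists_iso_yon_of_lqf_separated {X : AlgSp.Sp S} (hX : AlgSp.IsAlgSpace X) {T : Over S}
    (f : X ⟶ (AlgSp.yon S).obj T) (hsep : AlgSp.IsSeparatedMor f)
    (hqf : AlgSp.LocP (@LocallyQuasiFinite ⊓ @LocallyOfFiniteType) f) :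
    ∃ W : Over S, Nonempty ((AlgSp.yon S).obj W ≅ X) := by
  obtain ⟨U, a, hae, has⟩ := hX.atlas
  have H := fun u : U.left => exists_open_subscheme_nbhd' hX f hsep hqf (AlgSp.Points.ofPt a u)
  choose W i hi hmem using H
  have hs : ZarGlue.JointlySurjective hi := by
    intro T₀ g t
    obtain ⟨u, hu⟩ := Groth.Agent.S10177.surjective_ofPt a has (AlgSp.Points.ofPt g t)
    refine ⟨u, ?_⟩
    exact ZarGlue.mem_range_of_mem_range_map (i u) g _ _ ((hi u).rep.isPullback g) t
      (by rw [← hu]; exact hmem u)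
  obtain ⟨W₀, e, -, -, -⟩ := ZarGlue.exists_iso hi hs
  exact ⟨W₀, ⟨e⟩⟩

end Groth.Agent.Lib.T2H1.LqfSepRep
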