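import Mathlib
import Groth.Prelude.Def_Desc
import Groth.Agent.S1131
import Groth.Agent.S1132

set_option autoImplicit false
set_option linter.style.haveILetI false
set_option linter.unusedSectionVars false
set_option backward.isDefEq.respectTransparency false
set_option backward.isDefEq.respectTransparency.types false
universe u
open CategoryTheory CategoryTheory.Limits AlgebraicGeometry Desc

namespace Groth.Agent.Lib.T2H7.DescGlue

variable {X S : Scheme.{u}} {p : X ⟶ S}

/-- flexible naturality of the gluing bijections -/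
lemma φ_nat (D : SchDD p) {T T' : Scheme.{u}} (g : T' ⟶ T) {x₀ x₁ : T ⟶ X} (h : x₀ ≫ p = x₁ ≫ p)
    {y₀ y₁ : T' ⟶ X} (e₀ : g ≫ x₀ = y₀) (e₁ : g ≫ x₁ = y₁) (h' : y₀ ≫ p = y₁ ≫ p)
    (v : Lifts D.obj x₀) (v' : Lifts D.obj y₀) (hv : v'.1 = g ≫ v.1) :
    (D.φ y₀ y₁ h' v').1 = g ≫ (D.φ x₀ x₁ h v).1 := by
  subst e₀ e₁
  exact D.φ_natural g x₀ x₁ h h' v v' hv

/-- the value of the canonical gluing bijection -/
lemma can_φ_val (U : Over S) {T : Scheme.{u}} (x₀ x₁ : T ⟶ X) (h : x₀ ≫ p = x₁ ≫ p)
    (v : Lifts ((toDD p).obj U).obj x₀) :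
    (((toDD p).obj U).φ x₀ x₁ h v).1 ≫ pullback.snd p U.hom = v.1 ≫ pullback.snd p U.hom := by
  change (canMap p U x₀ x₁ h v).1 ≫ _ = _
  rw [canMap_val, pullback.lift_snd]

lemma can_φ_fst (U : Over S) {T : Scheme.{u}} (x₀ x₁ : T ⟶ X) (h : x₀ ≫ p = x₁ ≫ p)
    (v : Lifts ((toDD p).obj U).obj x₀) :
    (((toDD p).obj U).φ x₀ x₁ h v).1 ≫ pullback.fst p U.hom = x₁ :=
  (((toDD p).obj U).φ x₀ x₁ h v).2

variable (p) in
/-- the base change square of a morphism over `S` -/
lemma toDD_map_left {U U' : Over S} (g : U ⟶ U') :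
    ((toDD p).map g).hom.left =
      pullback.map p U.hom p U'.hom (𝟙 X) g.left (𝟙 S) (by simp) (by simp) := rfl

variable (p) in
lemma toDD_map_left_snd {U U' : Over S} (g : U ⟶ U') :
    ((toDD p).map g).hom.left ≫ pullback.snd p U'.hom = pullback.snd p U.hom ≫ g.left := by
  rw [toDD_map_left]; exact pullback.lift_snd _ _ _

variable (p) in
lemma toDD_map_left_fst {U U' : Over S} (g : U ⟶ U') :
    ((toDD p).map g).hom.left ≫ pullback.fst p U'.hom = pullback.fst p U.hom := by
  rw [toDD_map_left]; exact (pullback.lift_fst _ _ _).trans (Category.comp_id _)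

variable (p) in
lemma isPullback_map {U U' : Over S} (g : U ⟶ U') :
    IsPullback ((toDD p).map g).hom.left (pullback.snd p U.hom) (pullback.snd p U'.hom) g.left := by
  refine IsPullback.of_right (h₁₂ := pullback.fst p U'.hom) (v₁₃ := p) (h₂₂ := U'.hom) ?_
    (toDD_map_left_snd p g) (IsPullback.of_hasPullback p U'.hom)
  rw [toDD_map_left_fst, Over.w g]
  exact IsPullback.of_hasPullback p U.hom

variable (p) in
lemma range_toDD_map {U U' : Over S} (g : U ⟶ U') :
    Set.range ((toDD p).map g).hom.left.base =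
      (pullback.snd p U'.hom).base ⁻¹' Set.range g.left.base := by
  have h := isPullback_map p g
  have e : ((toDD p).map g).hom.left = h.isoPullback.hom ≫ pullback.fst _ _ :=
    (h.isoPullback_hom_fst).symm
  rw [e, Scheme.Hom.comp_base, TopCat.coe_comp, Set.range_comp,
    Set.range_eq_univ.mpr h.isoPullback.hom.surjective, Set.image_univ]
  exact Scheme.Pullback.range_fst _ _


section Glue

variable (p) [Surjective p] [Flat p] [QuasiCompact p] (D : SchDD p)

instance : (toDD p).Full := Groth.Agent.S1131.result p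
instance : (toDD p).Faithful := Groth.Agent.S1132.result p

/-- a stable open over which the descent datum is effective -/
def Eff (W : D.obj.left.Opens) : Prop :=
  ∃ (U : Over S) (a : (toDD p).obj U ⟶ D) (_ : IsOpenImmersion a.hom.left),
    a.hom.left.opensRange = W

/-- the index type -/
abbrev J : Type u := {W : D.obj.left.Opens // Eff p D W}

/-- the chosen scheme over `S` -/
noncomputable def UU (W : J p D) : Over S := W.2.choose

/-- the chosen morphism of descent data -/
noncomputable def aa (W : J p D) : (toDD p).obj (UU p D W) ⟶ D := W.2.choose_spec.choose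

instance isOpenImmersion_aa (W : J p D) : IsOpenImmersion (aa p D W).hom.left :=
  W.2.choose_spec.choose_spec.choose

theorem opensRange_aa (W : J p D) : (aa p D W).hom.left.opensRange = W.1 :=
  W.2.choose_spec.choose_spec.choose_spec

theorem aa_left_fst (W : J p D) :
    (aa p D W).hom.left ≫ D.obj.hom = pullback.fst p (UU p D W).hom := Over.w (aa p D W).hom

theorem mono_of_mono_left {D' : SchDD p} (a : D' ⟶ D) [Mono a.hom.left] : Mono a := by
  refine ⟨fun {Z} f g hfg => ?_⟩
  apply SchDD.hom_ext
  apply Over.OverMorphism.ext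
  have := congrArg (fun k => k.hom.left) hfg
  simp only [SchDD.comp_hom, Over.comp_left] at this
  exact (cancel_mono a.hom.left).mp this

instance mono_aa (W : J p D) : Mono (aa p D W) := mono_of_mono_left p D _

section Piece

variable {p D} {U : Over S} (a : (toDD p).obj U ⟶ D) [IsOpenImmersion a.hom.left] (W' : J p D)
  (h : a.hom.left.opensRange ≤ W'.1)

/-- the lifted morphism on total spaces -/
noncomputable def lftLeftP : pullback p U.hom ⟶ pullback p (UU p D W').hom :=
  IsOpenImmersion.lift (aa p D W').hom.left a.hom.left (by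
    have h2 := opensRange_aa p D W'
    have h3 : a.hom.left.opensRange ≤ (aa p D W').hom.left.opensRange := by
      rw [h2]; exact h
    exact h3)

theorem lftLeftP_fac : lftLeftP a W' h ≫ (aa p D W').hom.left = a.hom.left :=
  IsOpenImmersion.lift_fac _ _ _

instance : IsOpenImmersion (lftLeftP a W' h) :=
  haveI : IsOpenImmersion (lftLeftP a W' h ≫ (aa p D W').hom.left) := by
    rw [lftLeftP_fac]; infer_instance
  IsOpenImmersion.of_comp (lftLeftP a W' h) (aa p D W').hom.left

/-- the lifted morphism of descent data -/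
noncomputable def lftP : (toDD p).obj U ⟶ (toDD p).obj (UU p D W') where
  hom := Over.homMk (lftLeftP a W' h) (by
    change lftLeftP a W' h ≫ pullback.fst p (UU p D W').hom = pullback.fst p U.hom
    rw [← aa_left_fst, ← Category.assoc, lftLeftP_fac]
    exact Over.w a.hom)
  comm T x₀ x₁ hx v w hw := by
    change w.1 = v.1 ≫ lftLeftP a W' h at hw
    change _ = _ ≫ lftLeftP a W' h
    rw [← cancel_mono (aa p D W').hom.left, Category.assoc, lftLeftP_fac]
    have hz : (w.1 ≫ (aa p D W').hom.left) ≫ D.obj.hom = x₀ := by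
      rw [Category.assoc, aa_left_fst]; exact w.2
    have e1 := (aa p D W').comm x₀ x₁ hx w ⟨w.1 ≫ (aa p D W').hom.left, hz⟩ rfl
    have e2 := a.comm x₀ x₁ hx v ⟨w.1 ≫ (aa p D W').hom.left, hz⟩ (by
      change w.1 ≫ _ = v.1 ≫ _
      rw [hw, Category.assoc, lftLeftP_fac])
    rw [← e1, ← e2]

theorem lftP_left : (lftP a W' h).hom.left = lftLeftP a W' h := rfl

theorem lftP_aa : lftP a W' h ≫ aa p D W' = a := by
  apply SchDD.hom_ext
  apply Over.OverMorphism.ext
  exact lftLeftP_fac a W' h

/-- the descended transition morphism over `S` -/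
noncomputable def ggP : U ⟶ UU p D W' := (toDD p).preimage (lftP a W' h)

theorem map_ggP : (toDD p).map (ggP a W' h) = lftP a W' h := (toDD p).map_preimage _

theorem map_ggP_aa : (toDD p).map (ggP a W' h) ≫ aa p D W' = a := by
  rw [map_ggP, lftP_aa]

omit [IsOpenImmersion a.hom.left] in
theorem eq_of_map_aa (c c' : U ⟶ UU p D W')
    (hc : (toDD p).map c ≫ aa p D W' = (toDD p).map c' ≫ aa p D W') : c = c' := by
  apply (toDD p).map_injective
  exact (cancel_mono (aa p D W')).mp hc

theorem isOpenImmersion_ggP : IsOpenImmersion (ggP a W' h).left := by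
  have hpb := isPullback_map p (ggP a W' h)
  rw [map_ggP, lftP_left] at hpb
  have hq : (@Surjective ⊓ @Flat ⊓ @QuasiCompact : MorphismProperty Scheme.{u})
      (pullback.snd p (UU p D W').hom) :=
    ⟨⟨MorphismProperty.pullback_snd (P := @Surjective) _ _ inferInstance,
      MorphismProperty.pullback_snd (P := @Flat) _ _ inferInstance⟩,
      MorphismProperty.pullback_snd (P := @QuasiCompact) _ _ inferInstance⟩
  exact MorphismProperty.of_isPullback_of_descendsAlong (P := @IsOpenImmersion)
    (Q := @Surjective ⊓ @Flat ⊓ @QuasiCompact) hpb hq inferInstance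

end Piece

theorem le_aux {W W' : J p D} (h : W ≤ W') : (aa p D W).hom.left.opensRange ≤ W'.1 := by
  rw [opensRange_aa]; exact h

/-- the transition morphism over `S` -/
noncomputable def gg {W W' : J p D} (h : W ≤ W') : UU p D W ⟶ UU p D W' :=
  ggP (aa p D W) W' (le_aux p D h)

theorem map_gg_aa {W W' : J p D} (h : W ≤ W') :
    (toDD p).map (gg p D h) ≫ aa p D W' = aa p D W := map_ggP_aa _ _ _

theorem gg_refl (W : J p D) : gg p D (le_refl W) = 𝟙 _ := by
  apply eq_of_map_aa
  rw [map_gg_aa, CategoryTheory.Functor.map_id, Category.id_comp]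

theorem gg_trans {W W' W'' : J p D} (h : W ≤ W') (h' : W' ≤ W'') :
    gg p D h ≫ gg p D h' = gg p D (h.trans h') := by
  apply eq_of_map_aa
  rw [CategoryTheory.Functor.map_comp, Category.assoc, map_gg_aa, map_gg_aa, map_gg_aa]

/-- the diagram of schemes -/
noncomputable def F : J p D ⥤ Scheme.{u} where
  obj W := (UU p D W).left
  map f := (gg p D (leOfHom f)).left
  map_id W := by
    have := gg_refl p D W
    exact congrArg (fun k => k.left) this
  map_comp f g := by
    have := gg_trans p D (leOfHom f) (leOfHom g)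
    exact (congrArg (fun k => k.left) this).symm

instance isOpenImmersion_F_map {W W' : J p D} (f : W ⟶ W') : IsOpenImmersion ((F p D).map f) :=
  isOpenImmersion_ggP _ _ _

end Glue


section Restr

variable (p) [Surjective p] [Flat p] [QuasiCompact p] (D : SchDD p)

/-- base change of an open immersion over `S` is an open immersion on the canonical data -/
theorem isOpenImmersion_toDD_map {U U' : Over S} (g : U ⟶ U') [IsOpenImmersion g.left] :
    IsOpenImmersion ((toDD p).map g).hom.left :=
  MorphismProperty.of_isPullback (P := @IsOpenImmersion) (isPullback_map p g).flip inferInstance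

variable (W : J p D) (O : (UU p D W).left.Opens)

/-- the open subscheme of the descended scheme, over `S` -/
noncomputable def UO : Over S := Over.mk (O.ι ≫ (UU p D W).hom)

/-- its inclusion -/
noncomputable def iO : UO p D W O ⟶ UU p D W := Over.homMk O.ι rfl

instance : IsOpenImmersion (iO p D W O).left := by
  change IsOpenImmersion O.ι; infer_instance

/-- the restricted piece -/
noncomputable def aO : (toDD p).obj (UO p D W O) ⟶ D := (toDD p).map (iO p D W O) ≫ aa p D W

instance isOpenImmersion_aO : IsOpenImmersion (aO p D W O).hom.left := by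
  haveI := isOpenImmersion_toDD_map p (iO p D W O)
  change IsOpenImmersion (((toDD p).map (iO p D W O)).hom.left ≫ (aa p D W).hom.left)
  infer_instance

/-- the restricted index -/
noncomputable def restr : J p D :=
  ⟨(aO p D W O).hom.left.opensRange, ⟨UO p D W O, aO p D W O, inferInstance, rfl⟩⟩

theorem range_aO : (Set.range (aO p D W O).hom.left.base) =
    (aa p D W).hom.left.base '' ((pullback.snd p (UU p D W).hom).base ⁻¹' (O : Set _)) := by
  change Set.range (((toDD p).map (iO p D W O)).hom.left ≫ (aa p D W).hom.left).base = _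
  rw [Scheme.Hom.comp_base, TopCat.coe_comp, Set.range_comp, range_toDD_map]
  congr 2
  change Set.range O.ι.base = _
  exact Scheme.Opens.range_ι O

theorem restr_le : restr p D W O ≤ W := by
  change (aO p D W O).hom.left.opensRange ≤ W.1
  rw [← opensRange_aa p D W]
  intro x hx
  have hx' : x ∈ Set.range (aO p D W O).hom.left.base := hx
  rw [range_aO] at hx'
  obtain ⟨y, -, rfl⟩ := hx'
  exact ⟨y, rfl⟩

/-- comparison from the explicit restricted piece to the chosen one -/
noncomputable def cO : UO p D W O ⟶ UU p D (restr p D W O) :=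
  ggP (aO p D W O) (restr p D W O) (le_refl _)

theorem cO_gg : cO p D W O ≫ gg p D (restr_le p D W O) = iO p D W O := by
  apply eq_of_map_aa
  rw [CategoryTheory.Functor.map_comp, Category.assoc, map_gg_aa]
  exact map_ggP_aa _ _ _

instance isOpenImmersion_gg {W W' : J p D} (h : W ≤ W') : IsOpenImmersion (gg p D h).left :=
  isOpenImmersion_ggP _ _ _

theorem map_gg_aa_left {W W' : J p D} (h : W ≤ W') :
    ((toDD p).map (gg p D h)).hom.left ≫ (aa p D W').hom.left = (aa p D W).hom.left := by
  have := map_gg_aa p D h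
  exact congrArg (fun k => k.hom.left) this

theorem restr_le_of {a k : J p D} (hak : a ≤ k) (O : (UU p D k).left.Opens)
    (hO : O ≤ (gg p D hak).left.opensRange) : restr p D k O ≤ a := by
  change (aO p D k O).hom.left.opensRange ≤ a.1
  rw [← opensRange_aa p D a]
  intro x hx
  have hx' : x ∈ Set.range (aO p D k O).hom.left.base := hx
  rw [range_aO] at hx'
  obtain ⟨y, hy, rfl⟩ := hx'
  have hy' : (pullback.snd p (UU p D k).hom).base y ∈ Set.range (gg p D hak).left.base := hO hy
  rw [← Set.mem_preimage, ← range_toDD_map] at hy'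
  obtain ⟨z, rfl⟩ := hy'
  refine ⟨z, ?_⟩
  rw [← map_gg_aa_left p D hak]
  rfl

instance isLocallyDirected_F : ((F p D) ⋙ Scheme.forget).IsLocallyDirected where
  cond {a b k} fa fb xa xb h := by
    have h' : (gg p D (leOfHom fa)).left xa = (gg p D (leOfHom fb)).left xb := h
    let O : (UU p D k).left.Opens :=
      (gg p D (leOfHom fa)).left.opensRange ⊓ (gg p D (leOfHom fb)).left.opensRange
    have hla : restr p D k O ≤ a := restr_le_of p D (leOfHom fa) O inf_le_left
    have hlb : restr p D k O ≤ b := restr_le_of p D (leOfHom fb) O inf_le_right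
    have hxk : (gg p D (leOfHom fa)).left xa ∈ O := ⟨⟨xa, rfl⟩, ⟨xb, h'.symm⟩⟩
    let o : ↥O := ⟨(gg p D (leOfHom fa)).left xa, hxk⟩
    have ho : (gg p D (restr_le p D k O)).left ((cO p D k O).left o) =
        (gg p D (leOfHom fa)).left xa := by
      rw [← Scheme.Hom.comp_apply, ← Over.comp_left, cO_gg]
      rfl
    refine ⟨restr p D k O, homOfLE hla, homOfLE hlb, (cO p D k O).left o, ?_, ?_⟩
    · change (gg p D hla).left ((cO p D k O).left o) = xa
      apply (gg p D (leOfHom fa)).left.isOpenEmbedding.injective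
      rw [← Scheme.Hom.comp_apply, ← Over.comp_left, gg_trans]
      exact ho
    · change (gg p D hlb).left ((cO p D k O).left o) = xb
      apply (gg p D (leOfHom fb)).left.isOpenEmbedding.injective
      rw [← Scheme.Hom.comp_apply, ← Over.comp_left, gg_trans]
      exact ho.trans h'

end Restr


section Sat

variable (p) [Surjective p] [Flat p] [QuasiCompact p] (D : SchDD p)

/-- the quotient map property of the projection to the descended scheme -/
theorem isQuotientMap_snd (U : Over S) :
    Topology.IsQuotientMap (pullback.snd p U.hom).base := by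
  haveI : Surjective (pullback.snd p U.hom) :=
    MorphismProperty.pullback_snd (P := @Surjective) _ _ inferInstance
  haveI : Flat (pullback.snd p U.hom) :=
    MorphismProperty.pullback_snd (P := @Flat) _ _ inferInstance
  haveI : QuasiCompact (pullback.snd p U.hom) :=
    MorphismProperty.pullback_snd (P := @QuasiCompact) _ _ inferInstance
  exact Flat.isQuotientMap_of_surjective _

/-- saturation: the preimage of a stable open is saturated for the projection -/
theorem sat (i j : J p D) (z z' : ↥(pullback p (UU p D i).hom))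
    (hq : (pullback.snd p (UU p D i).hom).base z = (pullback.snd p (UU p D i).hom).base z')
    (hz : (aa p D i).hom.left.base z ∈ j.1) : (aa p D i).hom.left.base z' ∈ j.1 := by
  obtain ⟨t, ht1, ht2⟩ := Scheme.Pullback.exists_preimage_pullback z z' hq
  let q := pullback.snd p (UU p D i).hom
  let O' : (pullback p (UU p D i).hom).Opens := (aa p D i).hom.left ⁻¹ᵁ j.1
  let T' : (pullback q q).Opens := (pullback.fst q q) ⁻¹ᵁ O'
  let r₁ : (T' : Scheme.{u}) ⟶ pullback p (UU p D i).hom := T'.ι ≫ pullback.fst q q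
  let r₂ : (T' : Scheme.{u}) ⟶ pullback p (UU p D i).hom := T'.ι ≫ pullback.snd q q
  have hr : r₁ ≫ q = r₂ ≫ q := by
    simp only [r₁, r₂, Category.assoc]
    rw [pullback.condition]
  let y₀ : (T' : Scheme.{u}) ⟶ X := r₁ ≫ pullback.fst p (UU p D i).hom
  let y₁ : (T' : Scheme.{u}) ⟶ X := r₂ ≫ pullback.fst p (UU p D i).hom
  have hy : y₀ ≫ p = y₁ ≫ p := by
    simp only [y₀, y₁, Category.assoc]
    rw [pullback.condition, ← Category.assoc, hr, Category.assoc]
  let v₁ : Lifts ((toDD p).obj (UU p D i)).obj y₀ := ⟨r₁, rfl⟩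
  have s1 : (((toDD p).obj (UU p D i)).φ y₀ y₁ hy v₁).1 = r₂ := by
    apply pullback.hom_ext
    · exact can_φ_fst _ _ _ _ _
    · rw [can_φ_val]; exact hr
  have hw : (r₁ ≫ (aa p D i).hom.left) ≫ D.obj.hom = y₀ := by
    rw [Category.assoc, aa_left_fst]
  let w : Lifts D.obj y₀ := ⟨r₁ ≫ (aa p D i).hom.left, hw⟩
  have s2 : (D.φ y₀ y₁ hy w).1 = r₂ ≫ (aa p D i).hom.left := by
    rw [(aa p D i).comm y₀ y₁ hy v₁ w rfl, s1]
  have hsub : Set.range (r₁ ≫ (aa p D i).hom.left).base ⊆ Set.range (aa p D j).hom.left.base := by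
    rintro _ ⟨x, rfl⟩
    have hx : (pullback.fst q q).base (T'.ι.base x) ∈ O' := x.2
    have h2 : (aa p D i).hom.left.base ((pullback.fst q q).base (T'.ι.base x)) ∈ j.1 := hx
    rw [← opensRange_aa p D j] at h2
    exact h2
  let wj : (T' : Scheme.{u}) ⟶ pullback p (UU p D j).hom :=
    IsOpenImmersion.lift (aa p D j).hom.left (r₁ ≫ (aa p D i).hom.left) hsub
  have hwj : wj ≫ (aa p D j).hom.left = r₁ ≫ (aa p D i).hom.left :=
    IsOpenImmersion.lift_fac _ _ _
  have hvj : wj ≫ pullback.fst p (UU p D j).hom = y₀ := by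
    rw [← aa_left_fst, ← Category.assoc, hwj]; exact hw
  let vj : Lifts ((toDD p).obj (UU p D j)).obj y₀ := ⟨wj, hvj⟩
  have s3 : (D.φ y₀ y₁ hy w).1 =
      (((toDD p).obj (UU p D j)).φ y₀ y₁ hy vj).1 ≫ (aa p D j).hom.left :=
    (aa p D j).comm y₀ y₁ hy vj w hwj.symm
  have htT : t ∈ T' := by
    change (aa p D i).hom.left.base ((pullback.fst q q).base t) ∈ j.1
    rw [ht1]; exact hz
  have key := congrArg (fun k : (T' : Scheme.{u}) ⟶ D.obj.left => k.base ⟨t, htT⟩) (s2.symm.trans s3)
  simp only [Scheme.Hom.comp_base, TopCat.comp_app, r₂] at key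
  have e1 : (pullback.snd q q).base (T'.ι.base ⟨t, htT⟩) = z' := ht2
  rw [e1] at key
  refine Set.mem_of_eq_of_mem key ?_
  rw [← opensRange_aa p D j]
  exact ⟨_, rfl⟩

end Sat


section Colim

variable (p) [Surjective p] [Flat p] [QuasiCompact p] (D : SchDD p)

/-- typed wrapper: the open immersion of the piece into the total space -/
noncomputable def al (W : J p D) : pullback p (UU p D W).hom ⟶ D.obj.left := (aa p D W).hom.left

instance (W : J p D) : IsOpenImmersion (al p D W) := isOpenImmersion_aa p D W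

theorem al_fst (W : J p D) : al p D W ≫ D.obj.hom = pullback.fst p (UU p D W).hom :=
  aa_left_fst p D W

theorem opensRange_al (W : J p D) : (al p D W).opensRange = W.1 := opensRange_aa p D W

theorem mem_iff_range_al (W : J p D) (x : D.obj.left) :
    x ∈ W.1 ↔ x ∈ Set.range (al p D W).base := by
  rw [← opensRange_al p D W]; rfl

theorem sat' (i j : J p D) (z z' : ↥(pullback p (UU p D i).hom))
    (hq : (pullback.snd p (UU p D i).hom).base z = (pullback.snd p (UU p D i).hom).base z')
    (hz : (al p D i).base z ∈ j.1) : (al p D i).base z' ∈ j.1 := sat p D i j z z' hq hz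

/-- the glued scheme -/
noncomputable def Ug : Scheme.{u} := colimit (F p D)

/-- the structure morphism of the glued scheme -/
noncomputable def hU : Ug p D ⟶ S :=
  colimit.desc (F p D)
    { pt := S
      ι :=
        { app := fun W => (UU p D W).hom
          naturality := fun _ _ f =>
            (Over.w (gg p D (leOfHom f))).trans (Category.comp_id _).symm } }

/-- the canonical open immersions into the glued scheme -/
noncomputable def ιU (W : J p D) : (UU p D W).left ⟶ Ug p D := colimit.ι (F p D) W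

instance (W : J p D) : IsOpenImmersion (ιU p D W) := by
  unfold ιU Ug; infer_instance

theorem ιU_naturality {W W' : J p D} (h : W ≤ W') :
    (gg p D h).left ≫ ιU p D W' = ιU p D W := colimit.w (F p D) (homOfLE h)

theorem ι_hU (W : J p D) : ιU p D W ≫ hU p D = (UU p D W).hom := colimit.ι_desc _ _

/-- the glued scheme over `S` -/
noncomputable def UgO : Over S := Over.mk (hU p D)

/-- the inclusions as morphisms over `S` -/
noncomputable def ιO (W : J p D) : UU p D W ⟶ UgO p D := Over.homMk (ιU p D W) (ι_hU p D W)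

instance (W : J p D) : IsOpenImmersion (ιO p D W).left := by
  change IsOpenImmersion (ιU p D W); infer_instance

/-- the base change of the inclusion -/
noncomputable def cc (W : J p D) : pullback p (UU p D W).hom ⟶ pullback p (hU p D) :=
  ((toDD p).map (ιO p D W)).hom.left

instance (W : J p D) : IsOpenImmersion (cc p D W) := isOpenImmersion_toDD_map p (ιO p D W)

theorem cc_fst (W : J p D) : cc p D W ≫ pullback.fst p (hU p D) = pullback.fst p (UU p D W).hom :=
  toDD_map_left_fst p (ιO p D W)

theorem cc_snd (W : J p D) : cc p D W ≫ pullback.snd p (hU p D) =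
    pullback.snd p (UU p D W).hom ≫ ιU p D W :=
  toDD_map_left_snd p (ιO p D W)

theorem range_cc (W : J p D) : Set.range (cc p D W).base =
    (pullback.snd p (hU p D)).base ⁻¹' Set.range (ιU p D W).base :=
  range_toDD_map p (ιO p D W)

/-- the transition maps on total spaces -/
noncomputable def tr {W W' : J p D} (h : W ≤ W') :
    pullback p (UU p D W).hom ⟶ pullback p (UU p D W').hom :=
  ((toDD p).map (gg p D h)).hom.left

theorem tr_aa {W W' : J p D} (h : W ≤ W') :
    tr p D h ≫ (al p D W') = (al p D W) := map_gg_aa_left p D h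

theorem tr_snd {W W' : J p D} (h : W ≤ W') :
    tr p D h ≫ pullback.snd p (UU p D W').hom = pullback.snd p (UU p D W).hom ≫ (gg p D h).left :=
  toDD_map_left_snd p (gg p D h)

theorem range_tr {W W' : J p D} (h : W ≤ W') : Set.range (tr p D h).base =
    (pullback.snd p (UU p D W').hom).base ⁻¹' Set.range (gg p D h).left.base :=
  range_toDD_map p (gg p D h)

instance {W W' : J p D} (h : W ≤ W') : IsOpenImmersion (tr p D h) :=
  isOpenImmersion_toDD_map p (gg p D h)

theorem tr_refl (W : J p D) : tr p D (le_refl W) = 𝟙 _ := by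
  unfold tr
  rw [gg_refl, CategoryTheory.Functor.map_id]
  rfl

theorem tr_trans {W W' W'' : J p D} (h : W ≤ W') (h' : W' ≤ W'') :
    tr p D (h.trans h') = tr p D h ≫ tr p D h' := by
  unfold tr
  rw [← gg_trans p D h h', CategoryTheory.Functor.map_comp]
  rfl

variable (hcov : ∀ v : D.obj.left, ∃ W : J p D, v ∈ W.1)

/-- the open cover of the total space by effective pieces -/
noncomputable def cov : D.obj.left.OpenCover where
  I₀ := J p D
  X W := pullback p (UU p D W).hom
  f W := (al p D W)
  mem₀ := by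
    rw [Scheme.presieve₀_mem_precoverage_iff]
    refine ⟨fun x => ?_, fun W => inferInstanceAs (IsOpenImmersion (al p D W))⟩
    obtain ⟨W, hW⟩ := hcov x
    rw [← opensRange_al p D W] at hW
    exact ⟨W, hW⟩

instance : Preorder (cov p D hcov).I₀ := inferInstanceAs <| Preorder (J p D)

/-- the saturated open of the descended scheme cut out by another piece -/
noncomputable def satOpen (i j : J p D) : (UU p D i).left.Opens :=
  ⟨(pullback.snd p (UU p D i).hom).base '' ((al p D i).base ⁻¹' (j.1 : Set _)), by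
    rw [← (isQuotientMap_snd p (UU p D i)).isOpen_preimage]
    have : (pullback.snd p (UU p D i).hom).base ⁻¹'
        ((pullback.snd p (UU p D i).hom).base '' ((al p D i).base ⁻¹' (j.1 : Set _))) =
        (al p D i).base ⁻¹' (j.1 : Set _) := by
      ext z'
      constructor
      · rintro ⟨z, hz, hzz'⟩
        exact sat' p D i j z z' hzz' hz
      · intro hz'
        exact ⟨z', hz', rfl⟩
    rw [this]
    exact j.1.2.preimage (al p D i).continuous⟩

theorem preimage_satOpen (i j : J p D) :
    (pullback.snd p (UU p D i).hom).base ⁻¹' (satOpen p D i j : Set _) =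
      (al p D i).base ⁻¹' (j.1 : Set _) := by
  ext z'
  constructor
  · rintro ⟨z, hz, hzz'⟩
    exact sat' p D i j z z' hzz' hz
  · intro hz'
    exact ⟨z', hz', rfl⟩

theorem restr_satOpen_le (i j : J p D) : restr p D i (satOpen p D i j) ≤ j := by
  change (aO p D i (satOpen p D i j)).hom.left.opensRange ≤ j.1
  intro x hx
  have hx' : x ∈ Set.range (aO p D i (satOpen p D i j)).hom.left.base := hx
  rw [range_aO, preimage_satOpen] at hx'
  obtain ⟨y, hy, rfl⟩ := hx'
  exact hy

theorem le_range_gg_restr (W : J p D) (O : (UU p D W).left.Opens) :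
    (O : Set _) ⊆ Set.range (gg p D (restr_le p D W O)).left.base := by
  intro x hx
  refine ⟨(cO p D W O).left.base ⟨x, hx⟩, ?_⟩
  rw [← Scheme.Hom.comp_apply, ← Over.comp_left, cO_gg]
  rfl

end Colim


section Final

variable (p) [Surjective p] [Flat p] [QuasiCompact p] (D : SchDD p)
variable (hcov : ∀ v : D.obj.left, ∃ W : J p D, v ∈ W.1)

noncomputable instance cov_locallyDirected : Scheme.Cover.LocallyDirected (cov p D hcov) where
  trans {i j} f := tr p D (leOfHom f)
  trans_id i := tr_refl p D i
  trans_comp {i j k} f g := tr_trans p D (leOfHom f) (leOfHom g)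
  w {i j} f := tr_aa p D (leOfHom f)
  directed {i j} x := by
    let xi : ↥(pullback p (UU p D i).hom) := (pullback.fst ((cov p D hcov).f i) ((cov p D hcov).f j)).base x
    let xj : ↥(pullback p (UU p D j).hom) := (pullback.snd ((cov p D hcov).f i) ((cov p D hcov).f j)).base x
    have hij : (al p D i).base xi = (al p D j).base xj := by
      change ((pullback.fst ((cov p D hcov).f i) ((cov p D hcov).f j)) ≫ (cov p D hcov).f i).base x =
        ((pullback.snd ((cov p D hcov).f i) ((cov p D hcov).f j)) ≫ (cov p D hcov).f j).base x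
      rw [pullback.condition]
    have hxi : (al p D i).base xi ∈ j.1 := by
      rw [hij, ← opensRange_al p D j]; exact ⟨xj, rfl⟩
    let k : J p D := restr p D i (satOpen p D i j)
    have hki : k ≤ i := restr_le p D i _
    have hkj : k ≤ j := restr_satOpen_le p D i j
    have hmem : xi ∈ Set.range (tr p D hki).base := by
      rw [range_tr]
      apply le_range_gg_restr p D i (satOpen p D i j)
      exact ⟨xi, hxi, rfl⟩
    obtain ⟨y, hy⟩ := hmem
    refine ⟨k, homOfLE hki, homOfLE hkj, y, ?_⟩
    haveI : IsOpenImmersion ((cov p D hcov).f j) := inferInstanceAs (IsOpenImmersion (al p D j))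
    apply (pullback.fst ((cov p D hcov).f i) ((cov p D hcov).f j)).isOpenEmbedding.injective
    rw [← Scheme.Hom.comp_apply, pullback.lift_fst]
    exact hy
  property_trans {i j} f := by
    change IsOpenImmersion (tr p D (leOfHom f)); infer_instance

theorem cov_trans {a b : J p D} (f : a ⟶ b) : (cov p D hcov).trans f = tr p D (leOfHom f) := rfl

theorem θ_compat {a b : J p D} (f : a ⟶ b) :
    (cov p D hcov).trans f ≫ pullback.snd p (UU p D b).hom ≫ ιU p D b =
      pullback.snd p (UU p D a).hom ≫ ιU p D a := by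
  rw [cov_trans, ← Category.assoc, tr_snd, Category.assoc, ιU_naturality]

/-- the comparison morphism to the glued scheme -/
noncomputable def θ : D.obj.left ⟶ Ug p D :=
  (cov p D hcov).glueMorphismsOfLocallyDirected
    (fun W => pullback.snd p (UU p D W).hom ≫ ιU p D W) (fun {_ _} f => θ_compat p D hcov f)

theorem ι_θ (W : J p D) : (al p D W) ≫ θ p D hcov =
    pullback.snd p (UU p D W).hom ≫ ιU p D W :=
  (cov p D hcov).map_glueMorphismsOfLocallyDirected _ _ W

theorem θ_hU : D.obj.hom ≫ p = θ p D hcov ≫ hU p D := by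
  apply (cov p D hcov).hom_ext
  intro W
  change (al p D W) ≫ D.obj.hom ≫ p = (al p D W) ≫ θ p D hcov ≫ hU p D
  rw [← Category.assoc, al_fst, ← Category.assoc, ι_θ, Category.assoc, ι_hU, pullback.condition]

/-- the comparison morphism to the base change -/
noncomputable def ψ : D.obj.left ⟶ pullback p (hU p D) :=
  pullback.lift D.obj.hom (θ p D hcov) (θ_hU p D hcov)

theorem ψ_fst : ψ p D hcov ≫ pullback.fst p (hU p D) = D.obj.hom := pullback.lift_fst _ _ _
theorem ψ_snd : ψ p D hcov ≫ pullback.snd p (hU p D) = θ p D hcov := pullback.lift_snd _ _ _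

theorem ι_ψ (W : J p D) : (al p D W) ≫ ψ p D hcov = cc p D W := by
  apply pullback.hom_ext
  · rw [Category.assoc, ψ_fst, al_fst, cc_fst]
  · rw [Category.assoc, ψ_snd, ι_θ, cc_snd]

theorem preimage_range_cc_le (W : J p D) (x : D.obj.left)
    (hx : (ψ p D hcov).base x ∈ Set.range (cc p D W).base) : x ∈ W.1 := by
  rw [range_cc] at hx
  obtain ⟨u, hu⟩ := hx
  obtain ⟨j, hj⟩ := hcov x
  rw [← opensRange_al p D j] at hj
  obtain ⟨y', rfl⟩ := hj
  have e : al p D j ≫ ψ p D hcov ≫ pullback.snd p (hU p D) =
      pullback.snd p (UU p D j).hom ≫ ιU p D j := by rw [ψ_snd, ι_θ]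
  have h1 : (ιU p D j).base ((pullback.snd p (UU p D j).hom).base y') = (ιU p D W).base u := by
    rw [hu]
    exact (congrArg (fun f => f.base y') e).symm
  obtain ⟨k, fkj, fkW, z, hzj, -⟩ := (Scheme.IsLocallyDirected.ι_eq_ι_iff (F p D)).mp h1
  have hy' : y' ∈ Set.range (tr p D (leOfHom fkj)).base := by
    rw [range_tr]
    exact ⟨z, hzj⟩
  obtain ⟨y'', rfl⟩ := hy'
  have : (al p D j).base ((tr p D (leOfHom fkj)).base y'') = (al p D k).base y'' := by
    rw [← Scheme.Hom.comp_apply, tr_aa]
  rw [this]
  apply leOfHom fkW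
  rw [← opensRange_al p D k]
  exact ⟨y'', rfl⟩

/-- the open cover of the base change by the pieces -/
noncomputable def covT : (pullback p (hU p D)).OpenCover where
  I₀ := J p D
  X W := pullback p (UU p D W).hom
  f W := cc p D W
  mem₀ := by
    rw [Scheme.presieve₀_mem_precoverage_iff]
    refine ⟨fun x => ?_, fun W => inferInstance⟩
    obtain ⟨W, u, hu⟩ := Scheme.IsLocallyDirected.ι_jointly_surjective (F p D)
      ((pullback.snd p (hU p D)).base x)
    refine ⟨W, ?_⟩
    change x ∈ Set.range (cc p D W).base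
    rw [range_cc]
    exact ⟨u, hu⟩

instance isIso_ψ : IsIso (ψ p D hcov) := by
  change (MorphismProperty.isomorphisms Scheme.{u}) (ψ p D hcov)
  rw [IsZariskiLocalAtTarget.iff_of_openCover (P := MorphismProperty.isomorphisms Scheme.{u})
    (covT p D)]
  intro W
  change IsIso (pullback.snd (ψ p D hcov) (cc p D W))
  let s : pullback p (UU p D W).hom ⟶ pullback (ψ p D hcov) (cc p D W) :=
    pullback.lift (al p D W) (𝟙 _) ((ι_ψ p D hcov W).trans (Category.id_comp _).symm)
  have hs1 : s ≫ pullback.fst (ψ p D hcov) (cc p D W) = (al p D W) := pullback.lift_fst _ _ _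
  have hs2 : s ≫ pullback.snd (ψ p D hcov) (cc p D W) = 𝟙 _ := pullback.lift_snd _ _ _
  haveI : IsOpenImmersion (s ≫ pullback.fst (ψ p D hcov) (cc p D W)) := by
    rw [hs1]; infer_instance
  haveI : IsOpenImmersion s := IsOpenImmersion.of_comp s (pullback.fst (ψ p D hcov) (cc p D W))
  haveI : IsIso s := by
    apply isIso_of_isOpenImmersion_of_opensRange_eq_top
    rw [eq_top_iff]
    intro y _
    have hy : (pullback.fst (ψ p D hcov) (cc p D W)).base y ∈ W.1 := by
      apply preimage_range_cc_le p D hcov W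
      refine ⟨(pullback.snd (ψ p D hcov) (cc p D W)).base y, ?_⟩
      rw [← Scheme.Hom.comp_apply, ← pullback.condition]
      rfl
    rw [← opensRange_al p D W] at hy
    obtain ⟨z, hz⟩ := hy
    refine ⟨z, ?_⟩
    apply (pullback.fst (ψ p D hcov) (cc p D W)).isOpenEmbedding.injective
    rw [← Scheme.Hom.comp_apply, hs1]
    exact hz
  haveI : IsIso (s ≫ pullback.snd (ψ p D hcov) (cc p D W)) := by rw [hs2]; infer_instance
  exact IsIso.of_isIso_comp_left s _

end Final


section Conclude

variable (p) [Surjective p] [Flat p] [QuasiCompact p] (D : SchDD p)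
variable (hcov : ∀ v : D.obj.left, ∃ W : J p D, v ∈ W.1)

/-- the comparison to the glued scheme is invariant under the gluing bijections -/
theorem θ_inv {T : Scheme.{u}} (x₀ x₁ : T ⟶ X) (h : x₀ ≫ p = x₁ ≫ p) (v : Lifts D.obj x₀) :
    (D.φ x₀ x₁ h v).1 ≫ θ p D hcov = v.1 ≫ θ p D hcov := by
  apply ((cov p D hcov).pullback₁ v.1).hom_ext
  intro W
  change pullback.fst v.1 (al p D W) ≫ (D.φ x₀ x₁ h v).1 ≫ θ p D hcov =
    pullback.fst v.1 (al p D W) ≫ v.1 ≫ θ p D hcov
  let g := pullback.fst v.1 (al p D W)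
  let vW := pullback.snd v.1 (al p D W)
  have hc : g ≫ v.1 = vW ≫ al p D W := pullback.condition
  have h' : (g ≫ x₀) ≫ p = (g ≫ x₁) ≫ p := by rw [Category.assoc, Category.assoc, h]
  have hv' : (g ≫ v.1) ≫ D.obj.hom = g ≫ x₀ := by rw [Category.assoc, v.2]
  have e1 : (D.φ (g ≫ x₀) (g ≫ x₁) h' ⟨g ≫ v.1, hv'⟩).1 = g ≫ (D.φ x₀ x₁ h v).1 :=
    D.φ_natural g x₀ x₁ h h' v ⟨g ≫ v.1, hv'⟩ rfl
  have hvW : vW ≫ pullback.fst p (UU p D W).hom = g ≫ x₀ := by
    rw [← al_fst, ← Category.assoc, ← hc]; exact hv'
  let vc : Lifts ((toDD p).obj (UU p D W)).obj (g ≫ x₀) := ⟨vW, hvW⟩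
  have e2 : (D.φ (g ≫ x₀) (g ≫ x₁) h' ⟨g ≫ v.1, hv'⟩).1 =
      (((toDD p).obj (UU p D W)).φ (g ≫ x₀) (g ≫ x₁) h' vc).1 ≫ al p D W :=
    (aa p D W).comm (g ≫ x₀) (g ≫ x₁) h' vc ⟨g ≫ v.1, hv'⟩ hc
  change g ≫ (D.φ x₀ x₁ h v).1 ≫ θ p D hcov = g ≫ v.1 ≫ θ p D hcov
  rw [← Category.assoc, ← e1, e2, Category.assoc, ι_θ, ← Category.assoc, can_φ_val,
    ← Category.assoc, hc, Category.assoc, Category.assoc, ι_θ]

/-- the comparison as a morphism of descent data -/
noncomputable def bb : D ⟶ (toDD p).obj (UgO p D) where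
  hom := Over.homMk (ψ p D hcov) (ψ_fst p D hcov)
  comm T x₀ x₁ h v w hw := by
    let w' : T ⟶ pullback p (hU p D) := w.1
    have hw' : w' = v.1 ≫ ψ p D hcov := hw
    let cw : T ⟶ pullback p (hU p D) := (((toDD p).obj (UgO p D)).φ x₀ x₁ h w).1
    change cw = (D.φ x₀ x₁ h v).1 ≫ ψ p D hcov
    have c1 : cw ≫ pullback.fst p (hU p D) = x₁ := can_φ_fst (UgO p D) x₀ x₁ h w
    have c2 : cw ≫ pullback.snd p (hU p D) = w' ≫ pullback.snd p (hU p D) :=
      can_φ_val (UgO p D) x₀ x₁ h w
    apply pullback.hom_ext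
    · rw [c1, Category.assoc, ψ_fst]
      exact (D.φ x₀ x₁ h v).2.symm
    · rw [c2, hw', Category.assoc, Category.assoc, ψ_snd, θ_inv]

theorem isIso_of_isIso_left {D₁ D₂ : SchDD p} (a : D₁ ⟶ D₂) [IsIso a.hom.left] : IsIso a := by
  refine ⟨⟨⟨Over.homMk (inv a.hom.left) (by
    rw [IsIso.inv_comp_eq]; exact (Over.w a.hom).symm), ?_⟩, ?_, ?_⟩⟩
  · intro T x₀ x₁ h v w hw
    change w.1 = v.1 ≫ inv a.hom.left at hw
    change _ = _ ≫ inv a.hom.left
    rw [IsIso.eq_comp_inv]
    exact (a.comm x₀ x₁ h w v (by rw [hw, Category.assoc, IsIso.inv_hom_id, Category.comp_id])).symm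
  · apply SchDD.hom_ext
    apply Over.OverMorphism.ext
    exact IsIso.hom_inv_id a.hom.left
  · apply SchDD.hom_ext
    apply Over.OverMorphism.ext
    exact IsIso.inv_hom_id a.hom.left

include hcov in
/-- a descent datum covered by effective stable opens is effective -/
theorem effective_of_cover : ∃ U : Over S, Nonempty ((toDD p).obj U ≅ D) := by
  haveI : IsIso (bb p D hcov).hom.left := isIso_ψ p D hcov
  haveI := isIso_of_isIso_left p (bb p D hcov)
  exact ⟨UgO p D, ⟨(asIso (bb p D hcov)).symm⟩⟩

theorem isIso_left_of_iso {D₁ D₂ : SchDD p} (e : D₁ ≅ D₂) : IsIso e.hom.hom.left :=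
  ⟨⟨e.inv.hom.left, by
    have := congrArg (fun k => k.hom.left) e.hom_inv_id
    exact this, by
    have := congrArg (fun k => k.hom.left) e.inv_hom_id
    exact this⟩⟩

/-- the statement of S9866 -/
theorem main
    (h : ∀ v : D.obj.left, ∃ (D' : SchDD p) (j : D' ⟶ D), IsOpenImmersion j.hom.left ∧
      v ∈ Set.range j.hom.left.base ∧ ∃ U' : Over S, Nonempty ((toDD p).obj U' ≅ D')) :
    ∃ U : Over S, Nonempty ((toDD p).obj U ≅ D) := by
  apply effective_of_cover p D
  intro v
  obtain ⟨D', j, hj, ⟨y, hy⟩, U', ⟨e⟩⟩ := h v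
  haveI := isIso_left_of_iso p e
  haveI : IsOpenImmersion (e.hom ≫ j).hom.left := by
    change IsOpenImmersion (e.hom.hom.left ≫ j.hom.left)
    infer_instance
  refine ⟨⟨(e.hom ≫ j).hom.left.opensRange, ⟨U', e.hom ≫ j, inferInstance, rfl⟩⟩, ?_⟩
  refine ⟨(inv e.hom.hom.left).base y, ?_⟩
  change (e.hom.hom.left ≫ j.hom.left).base ((inv e.hom.hom.left).base y) = v
  rw [← Scheme.Hom.comp_apply, IsIso.inv_hom_id_assoc]
  exact hy

end Conclude

end Groth.Agent.Lib.T2H7.DescGlue
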