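import Mathlib

set_option autoImplicit false
universe u
open TensorProduct

namespace Groth.Agent.Lib.T2H7.DescRing

variable {A B C : Type u} [CommRing A] [CommRing B] [CommRing C] [Algebra A B] [Algebra B C]
  [Algebra A C] [IsScalarTower A B C]

/-- the multiplication map `C ⊗[A] B → C` -/
noncomputable def mulMap (A B C : Type u) [CommRing A] [CommRing B] [CommRing C] [Algebra A B] [Algebra B C]
    [Algebra A C] [IsScalarTower A B C] : C ⊗[A] B →ₐ[A] C :=
  Algebra.TensorProduct.lift (AlgHom.id A C) (IsScalarTower.toAlgHom A B C) (fun _ _ => Commute.all _ _)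

/-- the descended subalgebra: invariants of the coaction -/
noncomputable def inv (ρ : C →ₐ[A] C ⊗[A] B) : Subalgebra A C :=
  AlgHom.equalizer ρ (Algebra.TensorProduct.includeLeft : C →ₐ[A] C ⊗[A] B)

/-- the comparison map `C₀ ⊗[A] B → C` -/
noncomputable def cmp (ρ : C →ₐ[A] C ⊗[A] B) : (inv ρ) ⊗[A] B →ₐ[A] C :=
  Algebra.TensorProduct.lift (inv ρ).val (IsScalarTower.toAlgHom A B C) (fun _ _ => Commute.all _ _)

theorem cmp_tmul (ρ : C →ₐ[A] C ⊗[A] B) (c : inv ρ) (b : B) :
    cmp ρ (c ⊗ₜ b) = (c : C) * algebraMap B C b := by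
  simp [cmp]

variable (ρ : C →ₐ[A] C ⊗[A] B)
  (hlin : ∀ b : B, ρ (algebraMap B C b) = 1 ⊗ₜ b)
  (hunit : ∀ c, mulMap A B C (ρ c) = c)
  (hassoc : ∀ c, (Algebra.TensorProduct.map ρ (AlgHom.id A B)) (ρ c) =
    (Algebra.TensorProduct.map (Algebra.TensorProduct.includeLeft : C →ₐ[A] C ⊗[A] B)
      (AlgHom.id A B)) (ρ c))

include hlin in
theorem rho_cmp (z : (inv ρ) ⊗[A] B) :
    ρ (cmp ρ z) = (inv ρ).val.toLinearMap.rTensor B z := by
  induction z using TensorProduct.induction_on with
  | zero => simp
  | tmul c b =>
    rw [cmp_tmul, map_mul, hlin]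
    have hc : ρ (c : C) = (c : C) ⊗ₜ 1 := c.2
    rw [hc]
    simp
  | add x y hx hy => rw [map_add, map_add, hx, hy, map_add]

include hunit in
theorem rho_injective : Function.Injective ρ := by
  intro x y h
  rw [← hunit x, ← hunit y, h]

include hlin hunit hassoc in
theorem cmp_bijective [Module.Flat A B] : Function.Bijective (cmp ρ) := by
  have hinj : Function.Injective ((inv ρ).val.toLinearMap.rTensor B) :=
    Module.Flat.rTensor_preserves_injective_linearMap _ Subtype.val_injective
  constructor
  · intro x y h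
    apply hinj
    rw [← rho_cmp ρ hlin, ← rho_cmp ρ hlin, h]
  · intro c
    let d : C →ₗ[A] C ⊗[A] B :=
      ρ.toLinearMap - (Algebra.TensorProduct.includeLeft : C →ₐ[A] C ⊗[A] B).toLinearMap
    have hex : Function.Exact (inv ρ).val.toLinearMap d := by
      intro x
      constructor
      · intro hx
        have : ρ x = x ⊗ₜ 1 := by
          have := hx
          simp only [d, LinearMap.sub_apply, AlgHom.toLinearMap_apply, sub_eq_zero] at this
          exact this
        exact ⟨⟨x, this⟩, rfl⟩
      · rintro ⟨y, rfl⟩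
        have hy : ρ (y : C) = (y : C) ⊗ₜ 1 := y.2
        simp [d, hy]
    have hex' := Module.Flat.rTensor_exact B hex
    have hker : d.rTensor B (ρ c) = 0 := by
      have e1 : d.rTensor B = ρ.toLinearMap.rTensor B -
          (Algebra.TensorProduct.includeLeft : C →ₐ[A] C ⊗[A] B).toLinearMap.rTensor B :=
        LinearMap.rTensor_sub _ _
      rw [e1, LinearMap.sub_apply, sub_eq_zero]
      have h1 : ∀ (g : C →ₐ[A] C ⊗[A] B) (z : C ⊗[A] B),
          g.toLinearMap.rTensor B z = Algebra.TensorProduct.map g (AlgHom.id A B) z := by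
        intro g z
        induction z using TensorProduct.induction_on with
        | zero => simp
        | tmul x y => simp
        | add x y hx hy => rw [map_add, map_add, hx, hy]
      rw [h1, h1]
      exact hassoc c
    obtain ⟨z, hz⟩ := (hex' (ρ c)).mp hker
    refine ⟨z, ?_⟩
    apply rho_injective ρ hunit
    rw [rho_cmp ρ hlin, hz]


include hlin hunit hassoc in
/-- the original algebra is the base change of the invariants -/
theorem isPushout_inv [Module.Flat A B] : Algebra.IsPushout A B (inv ρ) C := by
  constructor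
  let f : (inv ρ) →ₗ[A] C := (IsScalarTower.toAlgHom A (inv ρ) C).toLinearMap
  have hfun : ∀ z, f.liftBaseChange B z = cmp ρ (TensorProduct.comm A B (inv ρ) z) := by
    intro z
    induction z using TensorProduct.induction_on with
    | zero => simp
    | tmul b c =>
      rw [LinearMap.liftBaseChange_tmul, TensorProduct.comm_tmul, cmp_tmul, Algebra.smul_def,
        mul_comm]
      rfl
    | add x y hx hy => rw [map_add, map_add, map_add, hx, hy]
  have hbij : Function.Bijective (f.liftBaseChange B) := by
    have : ⇑(f.liftBaseChange B) = cmp ρ ∘ (TensorProduct.comm A B (inv ρ)) := funext hfun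
    rw [this]
    exact (cmp_bijective ρ hlin hunit hassoc).comp (TensorProduct.comm A B (inv ρ)).bijective
  refine IsBaseChange.of_equiv (LinearEquiv.ofBijective _ hbij) (fun x => ?_)
  rw [LinearEquiv.ofBijective_apply, LinearMap.liftBaseChange_tmul, one_smul]

end Groth.Agent.Lib.T2H7.DescRing
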