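import Mathlib
import Groth.Prelude.Def_Desc
import Groth.Agent.Lib.T2H7DescRing
import Groth.Agent.Lib.T2H7DescGlue

set_option autoImplicit false
set_option linter.style.haveILetI false
set_option linter.unusedSectionVars false
set_option backward.isDefEq.respectTransparency false
set_option backward.isDefEq.respectTransparency.types false
universe u
open CategoryTheory CategoryTheory.Limits AlgebraicGeometry Desc TensorProduct

namespace Groth.Agent.Lib.T2H7.DescAff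

open Groth.Agent.Lib.T2H7.DescRing Groth.Agent.Lib.T2H7.DescGlue

variable (A B C : Type u) [CommRing A] [CommRing B] [CommRing C] [Algebra A B] [Algebra B C]
  [Algebra A C] [IsScalarTower A B C]

/-- the covering morphism -/
noncomputable abbrev pS : Spec (.of B) ⟶ Spec (.of A) := Spec.map (CommRingCat.ofHom (algebraMap A B))

/-- the structure morphism of the affine scheme over the cover -/
noncomputable abbrev πS : Spec (.of C) ⟶ Spec (.of B) := Spec.map (CommRingCat.ofHom (algebraMap B C))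

theorem πS_pS : πS B C ≫ pS A B = Spec.map (CommRingCat.ofHom (algebraMap A C)) := by
  rw [← Spec.map_comp, ← CommRingCat.ofHom_comp, ← IsScalarTower.algebraMap_eq]

/-- the scheme `V ×_S X` -/
noncomputable abbrev WS : Scheme.{u} := Spec (.of (C ⊗[A] B))

/-- first projection -/
noncomputable def w₁ : WS A B C ⟶ Spec (.of C) :=
  Spec.map (CommRingCat.ofHom (Algebra.TensorProduct.includeLeftRingHom))

/-- second projection -/
noncomputable def w₂ : WS A B C ⟶ Spec (.of B) :=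
  Spec.map (CommRingCat.ofHom (Algebra.TensorProduct.includeRight (R := A) (A := C) (B := B)).toRingHom)

theorem isPullback_W : IsPullback (w₁ A B C) (w₂ A B C) (πS B C ≫ pS A B) (pS A B) := by
  rw [πS_pS]
  exact isPullback_SpecMap_of_isPushout _ _ _ _ (CommRingCat.isPushout_tensorProduct A C B)

variable {A B C}

/-- pairing into `W` -/
noncomputable def pair {T : Scheme.{u}} (v : T ⟶ Spec (.of C)) (x : T ⟶ Spec (.of B))
    (h : v ≫ πS B C ≫ pS A B = x ≫ pS A B) : T ⟶ WS A B C :=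
  (isPullback_W A B C).lift v x h

@[reassoc]
theorem pair_w₁ {T : Scheme.{u}} (v : T ⟶ Spec (.of C)) (x : T ⟶ Spec (.of B))
    (h : v ≫ πS B C ≫ pS A B = x ≫ pS A B) : pair v x h ≫ w₁ A B C = v :=
  (isPullback_W A B C).lift_fst _ _ _

@[reassoc]
theorem pair_w₂ {T : Scheme.{u}} (v : T ⟶ Spec (.of C)) (x : T ⟶ Spec (.of B))
    (h : v ≫ πS B C ≫ pS A B = x ≫ pS A B) : pair v x h ≫ w₂ A B C = x :=
  (isPullback_W A B C).lift_snd _ _ _

theorem W_hom_ext {T : Scheme.{u}} {f g : T ⟶ WS A B C} (h₁ : f ≫ w₁ A B C = g ≫ w₁ A B C)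
    (h₂ : f ≫ w₂ A B C = g ≫ w₂ A B C) : f = g :=
  (isPullback_W A B C).hom_ext h₁ h₂

theorem w_cond : (w₁ A B C ≫ πS B C) ≫ pS A B = w₂ A B C ≫ pS A B := by
  rw [Category.assoc]; exact (isPullback_W A B C).w

section Act

variable (D : SchDD (pS A B)) (eV : Spec (.of C) ≅ D.obj.left) (hπ : eV.hom ≫ D.obj.hom = πS B C)
include hπ

theorem inv_π : eV.inv ≫ πS B C = D.obj.hom := by
  rw [← hπ, Iso.inv_hom_id_assoc]

/-- the raw action morphism `V ×_S X ⟶ V` of the descent datum -/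
noncomputable def actRaw : WS A B C ⟶ D.obj.left :=
  (D.φ (w₁ A B C ≫ πS B C) (w₂ A B C) w_cond
    ⟨w₁ A B C ≫ eV.hom, by rw [Category.assoc, hπ]⟩).1

theorem actRaw_hom : actRaw D eV hπ ≫ D.obj.hom = w₂ A B C :=
  (D.φ (w₁ A B C ≫ πS B C) (w₂ A B C) w_cond
    ⟨w₁ A B C ≫ eV.hom, by rw [Category.assoc, hπ]⟩).2

/-- the action morphism `V ×_S X ⟶ V` of the descent datum -/
noncomputable def act : WS A B C ⟶ Spec (.of C) := actRaw D eV hπ ≫ eV.inv

theorem act_π : act D eV hπ ≫ πS B C = w₂ A B C := by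
  unfold act
  rw [Category.assoc, inv_π D eV hπ, actRaw_hom]

theorem pair_cond {T : Scheme.{u}} (x₀ x₁ : T ⟶ Spec (.of B)) (h : x₀ ≫ pS A B = x₁ ≫ pS A B)
    (v : Lifts D.obj x₀) : (v.1 ≫ eV.inv) ≫ πS B C ≫ pS A B = x₁ ≫ pS A B := by
  rw [Category.assoc, ← Category.assoc eV.inv, inv_π D eV hπ, ← Category.assoc, v.2, h]

/-- the gluing bijection in terms of the action -/
theorem φ_eq_act {T : Scheme.{u}} (x₀ x₁ : T ⟶ Spec (.of B)) (h : x₀ ≫ pS A B = x₁ ≫ pS A B)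
    (v : Lifts D.obj x₀) :
    (D.φ x₀ x₁ h v).1 =
      pair (v.1 ≫ eV.inv) x₁ (pair_cond D eV hπ x₀ x₁ h v) ≫ act D eV hπ ≫ eV.hom := by
  let g := pair (v.1 ≫ eV.inv) x₁ (pair_cond D eV hπ x₀ x₁ h v)
  have e₀ : g ≫ (w₁ A B C ≫ πS B C) = x₀ := by
    rw [pair_w₁_assoc, Category.assoc, inv_π D eV hπ, v.2]
  have e₁ : g ≫ w₂ A B C = x₁ := pair_w₂ _ _ _
  have key : (D.φ x₀ x₁ h v).1 = g ≫ actRaw D eV hπ :=
    φ_nat D g w_cond e₀ e₁ h ⟨w₁ A B C ≫ eV.hom, by rw [Category.assoc, hπ]⟩ v (by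
      change v.1 = g ≫ w₁ A B C ≫ eV.hom
      rw [pair_w₁_assoc, Category.assoc, Iso.inv_hom_id, Category.comp_id])
  rw [key]
  unfold act
  rw [Category.assoc, Iso.inv_hom_id, Category.comp_id]

end Act


section Rho

theorem SpecMap_comp' {R₁ R₂ R₃ : Type u} [CommRing R₁] [CommRing R₂] [CommRing R₃]
    (f : R₁ →+* R₂) (g : R₂ →+* R₃) :
    Spec.map (CommRingCat.ofHom g) ≫ Spec.map (CommRingCat.ofHom f) =
      Spec.map (CommRingCat.ofHom (g.comp f)) := by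
  rw [← Spec.map_comp, ← CommRingCat.ofHom_comp]

theorem eq_of_SpecMap_eq {R₁ R₂ : Type u} [CommRing R₁] [CommRing R₂] {f g : R₁ →+* R₂}
    (h : Spec.map (CommRingCat.ofHom f) = Spec.map (CommRingCat.ofHom g)) : f = g := by
  have := Spec.map_injective h
  exact congrArg CommRingCat.Hom.hom this

variable (D : SchDD (pS A B)) (eV : Spec (.of C) ≅ D.obj.left) (hπ : eV.hom ≫ D.obj.hom = πS B C)
include hπ

/-- the coaction ring homomorphism -/
noncomputable def ρR : C →+* C ⊗[A] B := (Spec.preimage (act D eV hπ)).hom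

theorem SpecMap_ρR : Spec.map (CommRingCat.ofHom (ρR D eV hπ)) = act D eV hπ := by
  unfold ρR
  rw [CommRingCat.ofHom_hom, Spec.map_preimage]

theorem ρR_lin (b : B) : ρR D eV hπ (algebraMap B C b) = 1 ⊗ₜ b := by
  have h1 := act_π D eV hπ
  rw [← SpecMap_ρR, w₂] at h1
  unfold πS at h1
  rw [SpecMap_comp'] at h1
  have h2 := eq_of_SpecMap_eq h1
  exact congrArg (fun f => f b) h2

/-- the coaction as an algebra homomorphism -/
noncomputable def ρ : C →ₐ[A] C ⊗[A] B :=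
  { ρR D eV hπ with
    commutes' := fun a => by
      change ρR D eV hπ (algebraMap A C a) = _
      rw [IsScalarTower.algebraMap_apply A B C, ρR_lin, Algebra.TensorProduct.algebraMap_apply,
        Algebra.algebraMap_eq_smul_one, Algebra.algebraMap_eq_smul_one, TensorProduct.smul_tmul] }

theorem ρ_apply (c : C) : ρ D eV hπ c = ρR D eV hπ c := rfl

theorem ρ_lin (b : B) : ρ D eV hπ (algebraMap B C b) = 1 ⊗ₜ b := ρR_lin D eV hπ b

/-- the diagonal `V ⟶ V ×_S X` -/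
noncomputable def dg : Spec (.of C) ⟶ WS A B C :=
  Spec.map (CommRingCat.ofHom (mulMap A B C).toRingHom)

omit hπ in
theorem dg_w₁ : dg (A := A) (B := B) (C := C) ≫ w₁ A B C = 𝟙 _ := by
  unfold dg w₁
  rw [SpecMap_comp', ← Spec.map_id]
  congr 1
  ext c
  simp [mulMap]

omit hπ in
theorem dg_w₂ : dg (A := A) (B := B) (C := C) ≫ w₂ A B C = πS B C := by
  unfold dg w₂ πS
  rw [SpecMap_comp']
  congr 2
  ext b
  simp [mulMap]

theorem dg_act : dg ≫ act D eV hπ = 𝟙 _ := by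
  let v : Lifts D.obj (πS B C) := ⟨eV.hom, hπ⟩
  have h1 := φ_eq_act D eV hπ (πS B C) (πS B C) rfl v
  rw [D.φ_self] at h1
  have h2 : pair (v.1 ≫ eV.inv) (πS B C) (pair_cond D eV hπ (πS B C) (πS B C) rfl v) = dg := by
    apply W_hom_ext
    · rw [pair_w₁, dg_w₁]; exact eV.hom_inv_id
    · rw [pair_w₂, dg_w₂]
  rw [h2] at h1
  have h3 : eV.hom = (dg ≫ act D eV hπ) ≫ eV.hom := by rw [Category.assoc]; exact h1
  have h4 := (cancel_mono eV.hom).mp ((Category.id_comp _).trans h3)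
  exact h4.symm

theorem ρ_unit (c : C) : mulMap A B C (ρ D eV hπ c) = c := by
  have h1 := dg_act D eV hπ
  rw [← SpecMap_ρR, dg, SpecMap_comp', ← Spec.map_id] at h1
  have h2 := eq_of_SpecMap_eq (f := (mulMap A B C).toRingHom.comp (ρR D eV hπ)) (g := RingHom.id C) h1
  exact congrArg (fun f => f c) h2

end Rho


section Assoc

variable (D : SchDD (pS A B)) (eV : Spec (.of C) ≅ D.obj.left) (hπ : eV.hom ≫ D.obj.hom = πS B C)
include hπ

/-- the scheme `V ×_S X ×_S X` -/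
noncomputable abbrev W₂ (A B C : Type u) [CommRing A] [CommRing B] [CommRing C] [Algebra A B]
    [Algebra B C] [Algebra A C] [IsScalarTower A B C] : Scheme.{u} :=
  Spec (.of ((C ⊗[A] B) ⊗[A] B))

omit hπ in
/-- projection to the first two factors -/
noncomputable def g₁₂ : W₂ A B C ⟶ WS A B C :=
  Spec.map (CommRingCat.ofHom
    (Algebra.TensorProduct.includeLeftRingHom : C ⊗[A] B →+* (C ⊗[A] B) ⊗[A] B))

omit hπ in
/-- projection to the first and third factors -/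
noncomputable def g₁₃ : W₂ A B C ⟶ WS A B C :=
  Spec.map (CommRingCat.ofHom (Algebra.TensorProduct.map
    (Algebra.TensorProduct.includeLeft : C →ₐ[A] C ⊗[A] B) (AlgHom.id A B)).toRingHom)

/-- the action on the first two factors -/
noncomputable def gρ : W₂ A B C ⟶ WS A B C :=
  Spec.map (CommRingCat.ofHom (Algebra.TensorProduct.map (ρ D eV hπ) (AlgHom.id A B)).toRingHom)

omit hπ in
/-- projection to the third factor -/
noncomputable def u₃ : W₂ A B C ⟶ Spec (.of B) :=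
  Spec.map (CommRingCat.ofHom
    (Algebra.TensorProduct.includeRight (R := A) (A := C ⊗[A] B) (B := B)).toRingHom)

omit hπ in
theorem g₁₃_w₁ : g₁₃ (A := A) (B := B) (C := C) ≫ w₁ A B C = g₁₂ ≫ w₁ A B C := by
  unfold g₁₃ g₁₂ w₁
  rw [SpecMap_comp', SpecMap_comp']
  congr 2

omit hπ in
theorem g₁₃_w₂ : g₁₃ (A := A) (B := B) (C := C) ≫ w₂ A B C = u₃ := by
  unfold g₁₃ u₃ w₂
  rw [SpecMap_comp']
  congr 2

theorem gρ_w₁ : gρ D eV hπ ≫ w₁ A B C = g₁₂ ≫ act D eV hπ := by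
  rw [← SpecMap_ρR]
  unfold gρ g₁₂ w₁
  rw [SpecMap_comp', SpecMap_comp']
  congr 2

theorem gρ_w₂ : gρ D eV hπ ≫ w₂ A B C = u₃ := by
  unfold gρ u₃ w₂
  rw [SpecMap_comp']
  congr 2
  ext b
  simp

omit hπ in
theorem g₁₂_u₃ : (g₁₂ (A := A) (B := B) (C := C) ≫ w₂ A B C) ≫ pS A B = u₃ ≫ pS A B := by
  unfold g₁₂ u₃ w₂ pS
  rw [SpecMap_comp', SpecMap_comp', SpecMap_comp']
  congr 2
  ext a
  simp only [RingHom.coe_comp, Function.comp_apply, AlgHom.toRingHom_eq_coe, RingHom.coe_coe,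
    Algebra.TensorProduct.includeLeftRingHom_apply, Algebra.TensorProduct.includeRight_apply]
  rw [Algebra.algebraMap_eq_smul_one, TensorProduct.tmul_smul, TensorProduct.tmul_smul,
    ← TensorProduct.smul_tmul', Algebra.TensorProduct.one_def]

theorem gρ_act : gρ D eV hπ ≫ act D eV hπ = g₁₃ ≫ act D eV hπ := by
  let x₀ : W₂ A B C ⟶ Spec (.of B) := g₁₂ ≫ w₁ A B C ≫ πS B C
  let x₁ : W₂ A B C ⟶ Spec (.of B) := g₁₂ ≫ w₂ A B C
  have h₀₁ : x₀ ≫ pS A B = x₁ ≫ pS A B := by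
    simp only [x₀, x₁, Category.assoc]
    rw [← Category.assoc (w₁ A B C), w_cond]
  have h₁₂ : x₁ ≫ pS A B = u₃ ≫ pS A B := g₁₂_u₃
  let v : Lifts D.obj x₀ := ⟨g₁₂ ≫ w₁ A B C ≫ eV.hom, by
    simp only [x₀, Category.assoc]; rw [hπ]⟩
  have hv : v.1 ≫ eV.inv = g₁₂ ≫ w₁ A B C := by
    simp only [v, Category.assoc]; rw [Iso.hom_inv_id, Category.comp_id]
  have e1 := φ_eq_act D eV hπ x₀ x₁ h₀₁ v
  have p1 : pair (v.1 ≫ eV.inv) x₁ (pair_cond D eV hπ x₀ x₁ h₀₁ v) = g₁₂ := by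
    apply W_hom_ext
    · rw [pair_w₁, hv]
    · rw [pair_w₂]
  rw [p1] at e1
  have e2 := φ_eq_act D eV hπ x₁ u₃ h₁₂ (D.φ x₀ x₁ h₀₁ v)
  have p2 : pair ((D.φ x₀ x₁ h₀₁ v).1 ≫ eV.inv) u₃
      (pair_cond D eV hπ x₁ u₃ h₁₂ (D.φ x₀ x₁ h₀₁ v)) = gρ D eV hπ := by
    apply W_hom_ext
    · rw [pair_w₁, gρ_w₁, e1, Category.assoc, Category.assoc, Iso.hom_inv_id, Category.comp_id]
    · rw [pair_w₂, gρ_w₂]
  rw [p2, D.φ_comp] at e2
  have e3 := φ_eq_act D eV hπ x₀ u₃ (h₀₁.trans h₁₂) v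
  have p3 : pair (v.1 ≫ eV.inv) u₃ (pair_cond D eV hπ x₀ u₃ (h₀₁.trans h₁₂) v) = g₁₃ := by
    apply W_hom_ext
    · rw [pair_w₁, hv, g₁₃_w₁]
    · rw [pair_w₂, g₁₃_w₂]
  rw [p3] at e3
  have e4 : (gρ D eV hπ ≫ act D eV hπ) ≫ eV.hom = (g₁₃ ≫ act D eV hπ) ≫ eV.hom := by
    rw [Category.assoc, Category.assoc, ← e2, ← e3]
  exact (cancel_mono eV.hom).mp e4

theorem ρ_assoc (c : C) :
    (Algebra.TensorProduct.map (ρ D eV hπ) (AlgHom.id A B)) (ρ D eV hπ c) =
      (Algebra.TensorProduct.map (Algebra.TensorProduct.includeLeft : C →ₐ[A] C ⊗[A] B)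
        (AlgHom.id A B)) (ρ D eV hπ c) := by
  have h1 := gρ_act D eV hπ
  rw [← SpecMap_ρR] at h1
  unfold gρ g₁₃ at h1
  rw [SpecMap_comp', SpecMap_comp'] at h1
  have h2 := eq_of_SpecMap_eq h1
  exact congrArg (fun f => f c) h2

end Assoc


section CoreFinal

theorem isIso_of_isIso_left' {X S : Scheme.{u}} {p : X ⟶ S} {D₁ D₂ : SchDD p} (a : D₁ ⟶ D₂)
    [IsIso a.hom.left] : IsIso a := by
  refine ⟨⟨⟨Over.homMk (inv a.hom.left) (by
    rw [IsIso.inv_comp_eq]; exact (Over.w a.hom).symm), ?_⟩, ?_, ?_⟩⟩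
  · intro T x₀ x₁ h v w hw
    change w.1 = v.1 ≫ inv a.hom.left at hw
    change _ = _ ≫ inv a.hom.left
    rw [IsIso.eq_comp_inv]
    exact (a.comm x₀ x₁ h w v (by rw [hw, Category.assoc, IsIso.inv_hom_id, Category.comp_id])).symm
  · apply SchDD.hom_ext
    apply Over.OverMorphism.ext
    exact IsIso.hom_inv_id a.hom.left
  · apply SchDD.hom_ext
    apply Over.OverMorphism.ext
    exact IsIso.inv_hom_id a.hom.left

variable [Module.Flat A B]
variable (D : SchDD (pS A B)) (eV : Spec (.of C) ≅ D.obj.left) (hπ : eV.hom ≫ D.obj.hom = πS B C)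
include hπ

/-- the descended scheme over the base -/
noncomputable def U₀ : Over (Spec (.of A)) :=
  Over.mk (Spec.map (CommRingCat.ofHom (algebraMap A (DescRing.inv (ρ D eV hπ)))))

/-- the quotient morphism to the descended scheme -/
noncomputable def κ : Spec (.of C) ⟶ Spec (.of (DescRing.inv (ρ D eV hπ))) :=
  Spec.map (CommRingCat.ofHom (algebraMap (DescRing.inv (ρ D eV hπ)) C))

theorem isPullback_κ : IsPullback (πS B C) (κ D eV hπ) (pS A B) (U₀ D eV hπ).hom := by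
  haveI := isPushout_inv (ρ D eV hπ) (ρ_lin D eV hπ) (ρ_unit D eV hπ) (ρ_assoc D eV hπ)
  exact isPullback_SpecMap_of_isPushout _ _ _ _
    (CommRingCat.isPushout_of_isPushout A B (DescRing.inv (ρ D eV hπ)) C)

theorem act_κ : act D eV hπ ≫ κ D eV hπ = w₁ A B C ≫ κ D eV hπ := by
  rw [← SpecMap_ρR]
  unfold κ w₁
  rw [SpecMap_comp', SpecMap_comp']
  congr 2
  ext c
  exact c.2

theorem κ_inv {T : Scheme.{u}} (x₀ x₁ : T ⟶ Spec (.of B)) (h : x₀ ≫ pS A B = x₁ ≫ pS A B)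
    (v : Lifts D.obj x₀) :
    (D.φ x₀ x₁ h v).1 ≫ eV.inv ≫ κ D eV hπ = v.1 ≫ eV.inv ≫ κ D eV hπ := by
  rw [φ_eq_act D eV hπ x₀ x₁ h v, Category.assoc, Category.assoc, Iso.hom_inv_id_assoc, act_κ,
    pair_w₁_assoc, Category.assoc]

theorem b_cond : D.obj.hom ≫ pS A B = (eV.inv ≫ κ D eV hπ) ≫ (U₀ D eV hπ).hom := by
  rw [← inv_π D eV hπ, Category.assoc, Category.assoc, (isPullback_κ D eV hπ).w]

/-- the comparison morphism on total spaces -/
noncomputable def bLeft : D.obj.left ⟶ pullback (pS A B) (U₀ D eV hπ).hom :=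
  pullback.lift D.obj.hom (eV.inv ≫ κ D eV hπ) (b_cond D eV hπ)

theorem bLeft_fst : bLeft D eV hπ ≫ pullback.fst (pS A B) (U₀ D eV hπ).hom = D.obj.hom :=
  pullback.lift_fst _ _ _

theorem bLeft_snd : bLeft D eV hπ ≫ pullback.snd (pS A B) (U₀ D eV hπ).hom = eV.inv ≫ κ D eV hπ :=
  pullback.lift_snd _ _ _

theorem isIso_bLeft : IsIso (bLeft D eV hπ) := by
  have e : bLeft D eV hπ = eV.inv ≫ (isPullback_κ D eV hπ).isoPullback.hom := by
    apply pullback.hom_ext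
    · rw [bLeft_fst, Category.assoc, IsPullback.isoPullback_hom_fst, inv_π D eV hπ]
    · rw [bLeft_snd, Category.assoc, IsPullback.isoPullback_hom_snd]
  rw [e]
  infer_instance

/-- the comparison as a morphism of descent data -/
noncomputable def bD : D ⟶ (toDD (pS A B)).obj (U₀ D eV hπ) where
  hom := Over.homMk (bLeft D eV hπ) (bLeft_fst D eV hπ)
  comm T x₀ x₁ h v w hw := by
    let w' : T ⟶ pullback (pS A B) (U₀ D eV hπ).hom := w.1
    have hw' : w' = v.1 ≫ bLeft D eV hπ := hw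
    let cw : T ⟶ pullback (pS A B) (U₀ D eV hπ).hom :=
      (((toDD (pS A B)).obj (U₀ D eV hπ)).φ x₀ x₁ h w).1
    change cw = (D.φ x₀ x₁ h v).1 ≫ bLeft D eV hπ
    have c1 : cw ≫ pullback.fst (pS A B) (U₀ D eV hπ).hom = x₁ := can_φ_fst (U₀ D eV hπ) x₀ x₁ h w
    have c2 : cw ≫ pullback.snd (pS A B) (U₀ D eV hπ).hom =
        w' ≫ pullback.snd (pS A B) (U₀ D eV hπ).hom := can_φ_val (U₀ D eV hπ) x₀ x₁ h w
    apply pullback.hom_ext
    · rw [c1, Category.assoc, bLeft_fst]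
      exact (D.φ x₀ x₁ h v).2.symm
    · rw [c2, hw', Category.assoc, Category.assoc, bLeft_snd, κ_inv]

/-- effectiveness in the affine situation -/
theorem core : ∃ U : Over (Spec (.of A)), Nonempty ((toDD (pS A B)).obj U ≅ D) := by
  haveI : IsIso (bD D eV hπ).hom.left := isIso_bLeft D eV hπ
  haveI := isIso_of_isIso_left' (bD D eV hπ)
  exact ⟨U₀ D eV hπ, ⟨(asIso (bD D eV hπ)).symm⟩⟩

end CoreFinal

end Groth.Agent.Lib.T2H7.DescAff
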