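import Mathlib
import Groth.Prelude.Def_Desc
import Groth.Prelude.Def_DescFam
import Groth.Agent.Lib.T2H7DescAff
import Groth.Agent.Lib.LeadDescYoneda
import Groth.Agent.Lib.LeadDescEndo
import Groth.Agent.S9853

set_option autoImplicit false
set_option linter.style.haveILetI false
set_option linter.unusedSectionVars false
set_option backward.isDefEq.respectTransparency false
set_option backward.isDefEq.respectTransparency.types false
universe u
open CategoryTheory CategoryTheory.Limits AlgebraicGeometry Desc TensorProduct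

namespace Groth.Agent.Lib.T2H7.DescAffB

open Groth.Agent.Lib.T2H7.DescAff

/-- effectiveness for a flat morphism of spectra and an affine total space -/
theorem core' {A B : CommRingCat.{u}} (q : Spec B ⟶ Spec A) [Flat q] (D : SchDD q)
    [IsAffine D.obj.left] : ∃ U : Over (Spec A), Nonempty ((toDD q).obj U ≅ D) := by
  obtain ⟨φ, rfl⟩ := Spec.map_surjective q
  have hflat : φ.hom.Flat := (HasRingHomProperty.Spec_iff (P := @Flat)).mp inferInstance
  letI : Algebra A B := φ.hom.toAlgebra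
  haveI : Module.Flat A B := hflat
  let C : CommRingCat.{u} := Γ(D.obj.left, ⊤)
  let eV : Spec C ≅ D.obj.left := D.obj.left.isoSpec.symm
  obtain ⟨ψ, hψ⟩ := Spec.map_surjective (eV.hom ≫ D.obj.hom)
  letI : Algebra B C := ψ.hom.toAlgebra
  letI : Algebra A C := (ψ.hom.comp φ.hom).toAlgebra
  haveI : IsScalarTower A B C := IsScalarTower.of_algebraMap_eq (fun _ => rfl)
  exact core (A := A) (B := B) (C := C) D eV hψ.symm


section ET

open Groth.Agent.Lib.LeadDescYoneda

variable {X X' S : Scheme.{u}} (p : X ⟶ S) (r : X' ⟶ X)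

/-- pullback of descent data along a refinement of the covering morphism -/
noncomputable abbrev pullR : SchDDFam (fun _ : PUnit.{u + 1} => p) ⥤
    SchDDFam (fun _ : PUnit.{u + 1} => r ≫ p) :=
  pullDDFam (f := fun _ : PUnit.{u + 1} => p) (f' := fun _ : PUnit.{u + 1} => r ≫ p)
    (α := fun j => j) (p := 𝟙 S) (p' := fun _ => r) (fun _ => (Category.comp_id (r ≫ p)).symm)

variable (U : Over S)

/-- the comparison `(X ×_S U) ×_X X' ⟶ X' ×_S U` -/
noncomputable def mFwd : pullback (pullback.fst p U.hom) r ⟶ pullback (r ≫ p) U.hom :=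
  pullback.lift (pullback.snd _ _) (pullback.fst _ _ ≫ pullback.snd p U.hom) (by
    rw [← Category.assoc, ← pullback.condition, Category.assoc, Category.assoc, pullback.condition])

/-- the comparison `X' ×_S U ⟶ (X ×_S U) ×_X X'` -/
noncomputable def mBwd : pullback (r ≫ p) U.hom ⟶ pullback (pullback.fst p U.hom) r :=
  pullback.lift (pullback.lift (pullback.fst _ _ ≫ r) (pullback.snd _ _) (by
    rw [Category.assoc, pullback.condition])) (pullback.fst _ _) (pullback.lift_fst _ _ _)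

@[reassoc (attr := simp)]
theorem mFwd_fst : mFwd p r U ≫ pullback.fst (r ≫ p) U.hom = pullback.snd _ _ :=
  pullback.lift_fst _ _ _

@[reassoc (attr := simp)]
theorem mFwd_snd : mFwd p r U ≫ pullback.snd (r ≫ p) U.hom =
    pullback.fst _ _ ≫ pullback.snd p U.hom := pullback.lift_snd _ _ _

@[reassoc (attr := simp)]
theorem mBwd_snd : mBwd p r U ≫ pullback.snd (pullback.fst p U.hom) r = pullback.fst _ _ :=
  pullback.lift_snd _ _ _

@[reassoc (attr := simp)]
theorem mBwd_fst_fst : mBwd p r U ≫ pullback.fst (pullback.fst p U.hom) r ≫ pullback.fst p U.hom =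
    pullback.fst _ _ ≫ r := by
  unfold mBwd
  rw [pullback.lift_fst_assoc, pullback.lift_fst]

@[reassoc (attr := simp)]
theorem mBwd_fst_snd : mBwd p r U ≫ pullback.fst (pullback.fst p U.hom) r ≫ pullback.snd p U.hom =
    pullback.snd _ _ := by
  unfold mBwd
  rw [pullback.lift_fst_assoc, pullback.lift_snd]

theorem mFwd_mBwd : mFwd p r U ≫ mBwd p r U = 𝟙 _ := by
  apply pullback.hom_ext
  · apply pullback.hom_ext
    · rw [Category.assoc, Category.assoc, mBwd_fst_fst, mFwd_fst_assoc, Category.id_comp,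
        pullback.condition]
    · rw [Category.assoc, Category.assoc, mBwd_fst_snd, mFwd_snd, Category.id_comp]
  · rw [Category.assoc, mBwd_snd, mFwd_fst, Category.id_comp]

theorem mBwd_mFwd : mBwd p r U ≫ mFwd p r U = 𝟙 _ := by
  apply pullback.hom_ext
  · rw [Category.assoc, mFwd_fst, mBwd_snd, Category.id_comp]
  · rw [Category.assoc, mFwd_snd, mBwd_fst_snd, Category.id_comp]

/-- first component of the pulled back gluing bijection -/
theorem pull_φ_fst (D : SchDDFam (fun _ : PUnit.{u + 1} => p)) {T : Scheme.{u}} {i j : PUnit.{u + 1}}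
    (x₀ x₁ : T ⟶ X') (h : x₀ ≫ r ≫ p = x₁ ≫ r ≫ p) (v : Lifts (((pullR p r).obj D).obj i) x₀) :
    (((pullR p r).obj D).φ (i := i) (j := j) x₀ x₁ h v).1 ≫ pullback.fst (D.obj j).hom r =
      (D.φ (i := i) (j := j) (x₀ ≫ r) (x₁ ≫ r) (by simpa using h)
        (liftsPullbackEquiv (D.obj i) r x₀ v)).1 := by
  have := congrArg Subtype.val (Groth.Agent.Lib.LeadDescEndo.lpe_pull_obj_φ
    (f := fun _ : PUnit.{u + 1} => p) (f' := fun _ : PUnit.{u + 1} => r ≫ p)
    (α := fun j => j) (p := 𝟙 S) (p' := fun _ => r) (fun _ => (Category.comp_id (r ≫ p)).symm)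
    D (j₀ := i) (j₁ := j) x₀ x₁ h v)
  exact this

theorem lpe_val {Y Y' : Scheme.{u}} (V : Over Y) (q : Y' ⟶ Y) {T : Scheme.{u}} (x : T ⟶ Y')
    (v : Lifts (Over.mk (pullback.snd V.hom q)) x) :
    (liftsPullbackEquiv V q x v).1 = v.1 ≫ pullback.fst V.hom q := rfl

theorem canFam_φ_snd {ι : Type u} {Y : ι → Scheme.{u}} (f : ∀ i, Y i ⟶ S) (U : Over S) {T : Scheme.{u}}
    {i j : ι} (x₀ : T ⟶ Y i) (x₁ : T ⟶ Y j) (h : x₀ ≫ f i = x₁ ≫ f j)
    (v : Lifts (((toDDFam f).obj U).obj i) x₀) :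
    (((toDDFam f).obj U).φ x₀ x₁ h v).1 ≫ pullback.snd (f j) U.hom =
      v.1 ≫ pullback.snd (f i) U.hom := by
  change (canMapFam f U x₀ x₁ h v).1 ≫ _ = _
  rw [canMapFam_val, pullback.lift_snd]

theorem canFam_φ_fst {ι : Type u} {Y : ι → Scheme.{u}} (f : ∀ i, Y i ⟶ S) (U : Over S) {T : Scheme.{u}}
    {i j : ι} (x₀ : T ⟶ Y i) (x₁ : T ⟶ Y j) (h : x₀ ≫ f i = x₁ ≫ f j)
    (v : Lifts (((toDDFam f).obj U).obj i) x₀) :
    (((toDDFam f).obj U).φ x₀ x₁ h v).1 ≫ pullback.fst (f j) U.hom = x₁ :=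
  (((toDDFam f).obj U).φ x₀ x₁ h v).2

/-- the comparison of descent data -/
noncomputable def cmpHom : (pullR p r).obj ((toDDFam (fun _ : PUnit.{u + 1} => p)).obj U) ⟶
    (toDDFam (fun _ : PUnit.{u + 1} => r ≫ p)).obj U where
  hom _ := Over.homMk (mFwd p r U) (mFwd_fst p r U)
  comm T i j x₀ x₁ h v w hw := by
    let Dc := (toDDFam (fun _ : PUnit.{u + 1} => p)).obj U
    let pv : T ⟶ pullback (pullback.fst p U.hom) r :=
      (((pullR p r).obj Dc).φ (i := i) (j := j) x₀ x₁ h v).1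
    let cw : T ⟶ pullback (r ≫ p) U.hom :=
      (((toDDFam (fun _ : PUnit.{u + 1} => r ≫ p)).obj U).φ (i := i) (j := j) x₀ x₁ h w).1
    let v' : T ⟶ pullback (pullback.fst p U.hom) r := v.1
    let w' : T ⟶ pullback (r ≫ p) U.hom := w.1
    have hw' : w' = v' ≫ mFwd p r U := hw
    change cw = pv ≫ mFwd p r U
    have a1 : pv ≫ pullback.snd (pullback.fst p U.hom) r = x₁ :=
      (((pullR p r).obj Dc).φ (i := i) (j := j) x₀ x₁ h v).2
    have a2 : pv ≫ pullback.fst (pullback.fst p U.hom) r =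
        (Dc.φ (i := i) (j := j) (x₀ ≫ r) (x₁ ≫ r) (by simpa using h)
          (liftsPullbackEquiv (Dc.obj i) r x₀ v)).1 := pull_φ_fst p r Dc x₀ x₁ h v
    have a3 : pv ≫ pullback.fst (pullback.fst p U.hom) r ≫ pullback.snd p U.hom =
        v' ≫ pullback.fst (pullback.fst p U.hom) r ≫ pullback.snd p U.hom := by
      rw [← Category.assoc, a2]
      exact (canFam_φ_snd (fun _ : PUnit.{u + 1} => p) U (x₀ ≫ r) (x₁ ≫ r) _ _).trans
        (Category.assoc _ _ _)
    have c1 : cw ≫ pullback.fst (r ≫ p) U.hom = x₁ :=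
      canFam_φ_fst (fun _ : PUnit.{u + 1} => r ≫ p) U x₀ x₁ h w
    have c2 : cw ≫ pullback.snd (r ≫ p) U.hom = w' ≫ pullback.snd (r ≫ p) U.hom :=
      canFam_φ_snd (fun _ : PUnit.{u + 1} => r ≫ p) U x₀ x₁ h w
    apply pullback.hom_ext
    · rw [c1, Category.assoc, mFwd_fst, a1]
    · rw [c2, hw', Category.assoc, Category.assoc, mFwd_snd, a3]

theorem isIso_of_isIso_leftFam {ι : Type u} {Y : ι → Scheme.{u}} {f : ∀ i, Y i ⟶ S}
    {D₁ D₂ : SchDDFam f} (a : D₁ ⟶ D₂) [∀ i, IsIso (a.hom i).left] : IsIso a := by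
  refine ⟨⟨⟨fun i => Over.homMk (inv (a.hom i).left) (by
    rw [IsIso.inv_comp_eq]; exact (Over.w (a.hom i)).symm), ?_⟩, ?_, ?_⟩⟩
  · intro T i j x₀ x₁ h v w hw
    change w.1 = v.1 ≫ inv (a.hom i).left at hw
    change _ = _ ≫ inv (a.hom j).left
    rw [IsIso.eq_comp_inv]
    exact (a.comm x₀ x₁ h w v (by rw [hw, Category.assoc, IsIso.inv_hom_id, Category.comp_id])).symm
  · apply SchDDFam.hom_ext
    funext i
    apply Over.OverMorphism.ext
    exact IsIso.hom_inv_id (a.hom i).left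
  · apply SchDDFam.hom_ext
    funext i
    apply Over.OverMorphism.ext
    exact IsIso.inv_hom_id (a.hom i).left

instance isIso_cmpHom : IsIso (cmpHom p r U) := by
  haveI : ∀ i, IsIso ((cmpHom p r U).hom i).left := fun _ =>
    ⟨⟨mBwd p r U, mFwd_mBwd p r U, mBwd_mFwd p r U⟩⟩
  exact isIso_of_isIso_leftFam (cmpHom p r U)

/-- effectiveness transfers back along a refinement of the covering morphism -/
theorem ET (hcov : Presieve.singleton (r ≫ p) ∈ Scheme.fpqcPrecoverage S) (D : SchDD p) (U : Over S)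
    (e : (toDDFam (fun _ : PUnit.{u + 1} => r ≫ p)).obj U ≅
      (pullR p r).obj ((SchDDFam.ofSchDD p).obj D)) :
    Nonempty ((toDD p).obj U ≅ D) := by
  obtain ⟨hfull, hfaith⟩ := Groth.Agent.S9853.result (r ≫ p) p r rfl hcov
  haveI : (pullR p r).Full := hfull
  haveI : (pullR p r).Faithful := hfaith
  let e' : (pullR p r).obj ((toDDFam (fun _ : PUnit.{u + 1} => p)).obj U) ≅
      (pullR p r).obj ((SchDDFam.ofSchDD p).obj D) := asIso (cmpHom p r U) ≪≫ e
  let e'' := (pullR p r).preimageIso e'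
  exact ⟨(SchDDFam.toSchDD p).mapIso e''⟩

end ET


section AffBase

/-- effectiveness over an affine base (a spectrum), for descent data affine over the cover -/
theorem effective_affineBase {A : CommRingCat.{u}} {X : Scheme.{u}} (p : X ⟶ Spec A)
    [Surjective p] [Flat p] [QuasiCompact p] (D : SchDD p) [IsAffineHom D.obj.hom] :
    ∃ U : Over (Spec A), Nonempty ((toDD p).obj U ≅ D) := by
  haveI : CompactSpace X := (quasiCompact_iff_compactSpace p).mp inferInstance
  obtain ⟨Y, r₀, hsurj, hflat, hY⟩ := X.exists_hom_isAffine_of_isZariskiLocalAtSource @Flat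
  let r : Spec Γ(Y, ⊤) ⟶ X := Y.isoSpec.inv ≫ r₀
  haveI : Flat r₀ := hflat
  haveI : Surjective r₀ := hsurj
  haveI : Flat r := inferInstanceAs (Flat (Y.isoSpec.inv ≫ r₀))
  haveI : Surjective r := inferInstanceAs (Surjective (Y.isoSpec.inv ≫ r₀))
  let q : Spec Γ(Y, ⊤) ⟶ Spec A := r ≫ p
  haveI : Flat q := inferInstanceAs (Flat (r ≫ p))
  haveI : Surjective q := inferInstanceAs (Surjective (r ≫ p))
  let Dp : SchDDFam (fun _ : PUnit.{u + 1} => r ≫ p) :=
    (pullR p r).obj ((SchDDFam.ofSchDD p).obj D)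
  let D₂ : SchDD q := (SchDDFam.toSchDD q).obj Dp
  haveI : IsAffine D₂.obj.left := by
    change IsAffine (pullback D.obj.hom r)
    haveI : IsAffineHom (pullback.snd D.obj.hom r) :=
      MorphismProperty.pullback_snd (P := @IsAffineHom) _ _ inferInstance
    exact isAffine_of_isAffineHom (pullback.snd D.obj.hom r)
  obtain ⟨U, ⟨e⟩⟩ := core' q D₂
  have hcov : Presieve.singleton (r ≫ p) ∈ Scheme.fpqcPrecoverage (Spec A) :=
    Scheme.Hom.singleton_mem_fpqcPrecoverage q
  exact ⟨U, ET p r hcov D U ((SchDDFam.ofSchDD q).mapIso e)⟩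

end AffBase


section Ext

variable {X S S₀ : Scheme.{u}} (p : X ⟶ S) (ι : S₀ ⟶ S)

theorem φ_congr (D : SchDD p) {T : Scheme.{u}} {x₀ x₁ y₀ y₁ : T ⟶ X} (e₀ : x₀ = y₀) (e₁ : x₁ = y₁)
    (h : x₀ ≫ p = x₁ ≫ p) (h' : y₀ ≫ p = y₁ ≫ p) (v : Lifts D.obj x₀) (v' : Lifts D.obj y₀)
    (hv : v.1 = v'.1) : (D.φ x₀ x₁ h v).1 = (D.φ y₀ y₁ h' v').1 := by
  subst e₀ e₁
  have : v = v' := Subtype.ext hv
  subst this
  rfl

/-- restriction of descent data to the base change along `ι` -/
noncomputable abbrev pullBase : SchDDFam (fun _ : PUnit.{u + 1} => p) ⥤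
    SchDDFam (fun _ : PUnit.{u + 1} => pullback.snd p ι) :=
  pullDDFam (f := fun _ : PUnit.{u + 1} => p) (f' := fun _ : PUnit.{u + 1} => pullback.snd p ι)
    (α := fun j => j) (p := ι) (p' := fun _ => pullback.fst p ι) (fun _ => pullback.condition)

/-- the restricted descent datum relative to the base change of the covering -/
noncomputable def restrD (D : SchDD p) : SchDD (pullback.snd p ι) :=
  (SchDDFam.toSchDD (pullback.snd p ι)).obj ((pullBase p ι).obj ((SchDDFam.ofSchDD p).obj D))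

theorem restrD_obj (D : SchDD p) :
    (restrD p ι D).obj = Over.mk (pullback.snd D.obj.hom (pullback.fst p ι)) := rfl

theorem restrD_φ_fst (D : SchDD p) {T : Scheme.{u}} (x₀ x₁ : T ⟶ pullback p ι)
    (h : x₀ ≫ pullback.snd p ι = x₁ ≫ pullback.snd p ι) (v : Lifts (restrD p ι D).obj x₀) :
    ((restrD p ι D).φ x₀ x₁ h v).1 ≫ pullback.fst D.obj.hom (pullback.fst p ι) =
      (D.φ (x₀ ≫ pullback.fst p ι) (x₁ ≫ pullback.fst p ι)
        (by rw [Category.assoc, Category.assoc, pullback.condition, ← Category.assoc, h,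
          Category.assoc])
        ⟨v.1 ≫ pullback.fst D.obj.hom (pullback.fst p ι), by
          have e1 : v.1 ≫ pullback.snd D.obj.hom (pullback.fst p ι) = x₀ := v.2
          rw [Category.assoc, pullback.condition, ← Category.assoc, e1]⟩).1 := by
  have := congrArg Subtype.val (Groth.Agent.Lib.LeadDescEndo.lpe_pull_obj_φ
    (f := fun _ : PUnit.{u + 1} => p) (f' := fun _ : PUnit.{u + 1} => pullback.snd p ι)
    (α := fun j => j) (p := ι) (p' := fun _ => pullback.fst p ι) (fun _ => pullback.condition)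
    ((SchDDFam.ofSchDD p).obj D) (j₀ := PUnit.unit) (j₁ := PUnit.unit) x₀ x₁ h v)
  exact this

variable (U₀ : Over S₀)

/-- the comparison `X ×_S U₀ ⟶ X₀ ×_{S₀} U₀` -/
noncomputable def kk : pullback p (U₀.hom ≫ ι) ⟶ pullback (pullback.snd p ι) U₀.hom :=
  pullback.lift (pullback.lift (pullback.fst _ _) (pullback.snd _ _ ≫ U₀.hom) (by
    rw [pullback.condition, Category.assoc])) (pullback.snd _ _) (pullback.lift_snd _ _ _)

/-- its inverse -/
noncomputable def kkInv : pullback (pullback.snd p ι) U₀.hom ⟶ pullback p (U₀.hom ≫ ι) :=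
  pullback.lift (pullback.fst _ _ ≫ pullback.fst p ι) (pullback.snd _ _) (by
    rw [Category.assoc, pullback.condition, ← Category.assoc, pullback.condition, Category.assoc])

@[reassoc (attr := simp)]
theorem kk_snd : kk p ι U₀ ≫ pullback.snd (pullback.snd p ι) U₀.hom = pullback.snd _ _ :=
  pullback.lift_snd _ _ _

@[reassoc (attr := simp)]
theorem kk_fst_fst : kk p ι U₀ ≫ pullback.fst (pullback.snd p ι) U₀.hom ≫ pullback.fst p ι =
    pullback.fst _ _ := by
  unfold kk
  rw [pullback.lift_fst_assoc, pullback.lift_fst]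

theorem kk_kkInv : kk p ι U₀ ≫ kkInv p ι U₀ = 𝟙 _ := by
  unfold kkInv
  apply pullback.hom_ext
  · rw [Category.assoc, pullback.lift_fst, kk_fst_fst, Category.id_comp]
  · rw [Category.assoc, pullback.lift_snd, kk_snd, Category.id_comp]

theorem kkInv_kk [Mono ι] : kkInv p ι U₀ ≫ kk p ι U₀ = 𝟙 _ := by
  haveI : Mono (pullback.fst p ι) := inferInstance
  apply pullback.hom_ext
  · rw [← cancel_mono (pullback.fst p ι), Category.assoc, Category.assoc, kk_fst_fst]
    unfold kkInv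
    rw [pullback.lift_fst, Category.id_comp]
  · rw [Category.assoc, kk_snd]
    unfold kkInv
    rw [pullback.lift_snd, Category.id_comp]

instance isIso_kk [Mono ι] : IsIso (kk p ι U₀) := ⟨⟨kkInv p ι U₀, kk_kkInv p ι U₀, kkInv_kk p ι U₀⟩⟩

end Ext


section Ext2

variable {X S S₀ : Scheme.{u}} (p : X ⟶ S) (ι : S₀ ⟶ S) [IsOpenImmersion ι] (D : SchDD p)
  (U₀ : Over S₀) (e₀ : (toDD (pullback.snd p ι)).obj U₀ ≅ restrD p ι D)

/-- typed wrapper: underlying scheme isomorphism of `e₀` -/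
noncomputable def e₀l : pullback (pullback.snd p ι) U₀.hom ⟶ pullback D.obj.hom (pullback.fst p ι) :=
  e₀.hom.hom.left

instance : IsIso (e₀l p ι D U₀ e₀) := by
  refine ⟨⟨e₀.inv.hom.left, ?_, ?_⟩⟩
  · exact congrArg (fun k => k.hom.left) e₀.hom_inv_id
  · exact congrArg (fun k => k.hom.left) e₀.inv_hom_id

theorem e₀l_snd : e₀l p ι D U₀ e₀ ≫ pullback.snd D.obj.hom (pullback.fst p ι) =
    pullback.fst (pullback.snd p ι) U₀.hom := Over.w e₀.hom.hom

/-- the extended scheme over `S` -/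
noncomputable def Uext : Over S := Over.mk (U₀.hom ≫ ι)

/-- the underlying morphism of the extension -/
noncomputable def extLeft : pullback p (U₀.hom ≫ ι) ⟶ D.obj.left :=
  kk p ι U₀ ≫ e₀l p ι D U₀ e₀ ≫ pullback.fst D.obj.hom (pullback.fst p ι)

instance : IsOpenImmersion (extLeft p ι D U₀ e₀) := by
  unfold extLeft; infer_instance

theorem extLeft_hom : extLeft p ι D U₀ e₀ ≫ D.obj.hom = pullback.fst p (U₀.hom ≫ ι) := by
  unfold extLeft
  rw [Category.assoc, Category.assoc, pullback.condition, ← Category.assoc (e₀l p ι D U₀ e₀),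
    e₀l_snd, kk_fst_fst]

/-- the extension as a morphism of descent data -/
noncomputable def extHom : (toDD p).obj (Uext ι U₀) ⟶ D where
  hom := Over.homMk (extLeft p ι D U₀ e₀) (extLeft_hom p ι D U₀ e₀)
  comm T x₀ x₁ h v w hw := by
    let v' : T ⟶ pullback p (U₀.hom ≫ ι) := v.1
    let cv : T ⟶ pullback p (U₀.hom ≫ ι) := (((toDD p).obj (Uext ι U₀)).φ x₀ x₁ h v).1
    have hv' : v' ≫ pullback.fst p (U₀.hom ≫ ι) = x₀ := v.2
    have c1 : cv ≫ pullback.fst p (U₀.hom ≫ ι) = x₁ :=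
      Groth.Agent.Lib.T2H7.DescGlue.can_φ_fst (Uext ι U₀) x₀ x₁ h v
    have c2 : cv ≫ pullback.snd p (U₀.hom ≫ ι) = v' ≫ pullback.snd p (U₀.hom ≫ ι) :=
      Groth.Agent.Lib.T2H7.DescGlue.can_φ_val (Uext ι U₀) x₀ x₁ h v
    have hw' : w.1 = v' ≫ extLeft p ι D U₀ e₀ := hw
    change (D.φ x₀ x₁ h w).1 = cv ≫ extLeft p ι D U₀ e₀
    let p₀ := pullback.snd p ι
    let x₀' : T ⟶ pullback p ι := v' ≫ kk p ι U₀ ≫ pullback.fst p₀ U₀.hom
    let x₁' : T ⟶ pullback p ι := cv ≫ kk p ι U₀ ≫ pullback.fst p₀ U₀.hom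
    have hx₀ : x₀' ≫ pullback.fst p ι = x₀ := by
      simp only [x₀', Category.assoc]; rw [kk_fst_fst, hv']
    have hx₁ : x₁' ≫ pullback.fst p ι = x₁ := by
      simp only [x₁', Category.assoc]; rw [kk_fst_fst, c1]
    have h' : x₀' ≫ p₀ = x₁' ≫ p₀ := by
      simp only [x₀', x₁', p₀, Category.assoc]
      rw [pullback.condition, kk_snd_assoc, ← Category.assoc, ← Category.assoc, c2]
    let vk : Lifts ((toDD p₀).obj U₀).obj x₀' := ⟨v' ≫ kk p ι U₀, Category.assoc _ _ _⟩
    have ck : (((toDD p₀).obj U₀).φ x₀' x₁' h' vk).1 = cv ≫ kk p ι U₀ := by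
      apply pullback.hom_ext
      · rw [Groth.Agent.Lib.T2H7.DescGlue.can_φ_fst, Category.assoc]
      · rw [Groth.Agent.Lib.T2H7.DescGlue.can_φ_val]
        change (v' ≫ kk p ι U₀) ≫ _ = _
        rw [Category.assoc, Category.assoc, kk_snd]
        exact c2.symm
    have hwk : (v' ≫ kk p ι U₀ ≫ e₀l p ι D U₀ e₀) ≫ (restrD p ι D).obj.hom = x₀' := by
      change (v' ≫ kk p ι U₀ ≫ e₀l p ι D U₀ e₀) ≫ pullback.snd D.obj.hom (pullback.fst p ι) = x₀'
      rw [Category.assoc, Category.assoc, e₀l_snd]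
    let wk : Lifts (restrD p ι D).obj x₀' := ⟨v' ≫ kk p ι U₀ ≫ e₀l p ι D U₀ e₀, hwk⟩
    have s1 : ((restrD p ι D).φ x₀' x₁' h' wk).1 =
        (((toDD p₀).obj U₀).φ x₀' x₁' h' vk).1 ≫ e₀l p ι D U₀ e₀ :=
      e₀.hom.comm x₀' x₁' h' vk wk (Category.assoc _ _ _).symm
    have s2 := restrD_φ_fst p ι D x₀' x₁' h' wk
    rw [s1, ck] at s2
    have s3 : cv ≫ extLeft p ι D U₀ e₀ = (cv ≫ kk p ι U₀) ≫ e₀l p ι D U₀ e₀ ≫
        pullback.fst D.obj.hom (pullback.fst p ι) := by
      unfold extLeft; rw [Category.assoc]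
    rw [s3, ← Category.assoc, s2]
    apply φ_congr p D hx₀.symm hx₁.symm
    change w.1 = (v' ≫ kk p ι U₀ ≫ e₀l p ι D U₀ e₀) ≫ pullback.fst D.obj.hom (pullback.fst p ι)
    rw [hw']
    unfold extLeft
    simp only [Category.assoc]

theorem range_extLeft (v : D.obj.left) (hv : (D.obj.hom ≫ p).base v ∈ Set.range ι.base) :
    v ∈ Set.range (extLeft p ι D U₀ e₀).base := by
  have h1 : D.obj.hom.base v ∈ Set.range (pullback.fst p ι).base := by
    rw [Scheme.Pullback.range_fst]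
    exact hv
  have h2 : v ∈ Set.range (pullback.fst D.obj.hom (pullback.fst p ι)).base := by
    rw [Scheme.Pullback.range_fst]
    exact h1
  obtain ⟨z, rfl⟩ := h2
  obtain ⟨z', rfl⟩ := (e₀l p ι D U₀ e₀).surjective z
  obtain ⟨z'', rfl⟩ := (kk p ι U₀).surjective z'
  exact ⟨z'', rfl⟩

end Ext2


section Main

/-- effective descent for affine morphisms along fpqc morphisms (statement of S1133) -/
theorem effective_of_affine {X S : Scheme.{u}} (p : X ⟶ S) [Surjective p] [Flat p] [QuasiCompact p]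
    (D : SchDD p) [IsAffineHom D.obj.hom] : ∃ U : Over S, Nonempty ((toDD p).obj U ≅ D) := by
  apply Groth.Agent.Lib.T2H7.DescGlue.effective_of_cover p D
  intro v
  obtain ⟨W, hW, hs, -⟩ := exists_isAffineOpen_mem_and_subset
    (x := (D.obj.hom ≫ p).base v) (U := ⊤) trivial
  let ι : Spec Γ(S, W) ⟶ S := hW.fromSpec
  haveI : IsOpenImmersion ι := inferInstanceAs (IsOpenImmersion hW.fromSpec)
  let p₀ := pullback.snd p ι
  haveI : Surjective p₀ := MorphismProperty.pullback_snd (P := @Surjective) _ _ inferInstance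
  haveI : Flat p₀ := MorphismProperty.pullback_snd (P := @Flat) _ _ inferInstance
  haveI : QuasiCompact p₀ := MorphismProperty.pullback_snd (P := @QuasiCompact) _ _ inferInstance
  let D₀ := restrD p ι D
  haveI : IsAffineHom D₀.obj.hom := by
    change IsAffineHom (pullback.snd D.obj.hom (pullback.fst p ι))
    exact MorphismProperty.pullback_snd (P := @IsAffineHom) _ _ inferInstance
  obtain ⟨U₀, ⟨e₀⟩⟩ := effective_affineBase p₀ D₀
  haveI : IsOpenImmersion (extHom p ι D U₀ e₀).hom.left :=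
    inferInstanceAs (IsOpenImmersion (extLeft p ι D U₀ e₀))
  refine ⟨⟨(extHom p ι D U₀ e₀).hom.left.opensRange,
    ⟨Uext ι U₀, extHom p ι D U₀ e₀, inferInstance, rfl⟩⟩, ?_⟩
  apply range_extLeft p ι D U₀ e₀ v
  change (D.obj.hom ≫ p).base v ∈ Set.range hW.fromSpec.base
  rw [hW.range_fromSpec]
  exact hs

end Main

end Groth.Agent.Lib.T2H7.DescAffB
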