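import Mathlib
import Groth.Prelude.Def_Desc
import Groth.Prelude.Def_DescFam
import Groth.Agent.Lib.T2H7DescGlueQ
import Groth.Agent.Lib.Helper12FpqcCover
import Groth.Agent.S11719
import Groth.Agent.S6045

set_option autoImplicit false
set_option linter.style.haveILetI false
set_option linter.unusedSectionVars false
set_option backward.isDefEq.respectTransparency false
set_option backward.isDefEq.respectTransparency.types false
universe u
open CategoryTheory CategoryTheory.Limits AlgebraicGeometry Desc

namespace Groth.Agent.Lib.T2H7.DescGood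

open Groth.Agent.Lib.T2H7.DescGlueQ

variable {X S : Scheme.{u}} (p : X ⟶ S) (hp : Presieve.singleton p ∈ Scheme.fpqcPrecoverage S)

include hp in
/-- base change of a single fpqc covering -/
lemma singleton_snd_mem (U : Over S) :
    Presieve.singleton (pullback.snd p U.hom) ∈ Scheme.fpqcPrecoverage U.left := by
  rw [← Presieve.ofArrows_pUnit.{u}] at hp ⊢
  exact Precoverage.mem_coverings_of_isPullback (fun _ : PUnit.{u + 1} => p) hp U.hom _
    (fun _ => pullback.fst p U.hom) (fun _ => (IsPullback.of_hasPullback p U.hom).flip)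

lemma surjective_of_singleton {Y Z : Scheme.{u}} (q : Y ⟶ Z)
    (hq : Presieve.singleton q ∈ Scheme.fpqcPrecoverage Z) : Function.Surjective q.base := by
  have h1 : Presieve.singleton q ∈ Scheme.precoverage @Flat Z :=
    Scheme.propQCPrecoverage_le_precoverage _ hq
  rw [Scheme.singleton_mem_precoverage_iff] at h1
  exact h1.1

/-- a single fpqc covering is a topological quotient map -/
lemma isQuotientMap_of_singleton {Y Z : Scheme.{u}} (q : Y ⟶ Z)
    (hq : Presieve.singleton q ∈ Scheme.fpqcPrecoverage Z) : Topology.IsQuotientMap q.base := by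
  have hsurj := surjective_of_singleton q hq
  rw [Topology.isQuotientMap_iff, Topology.isCoinducing_iff]
  refine ⟨fun s => ⟨fun hs => ?_, fun hs => hs.preimage q.continuous⟩, hsurj⟩
  have hq' : Presieve.ofArrows (fun _ : PUnit.{u + 1} => Y) (fun _ => q) ∈
      Scheme.fpqcPrecoverage Z := by
    rw [Presieve.ofArrows_pUnit]; exact hq
  obtain ⟨V, hV⟩ := Groth.Agent.S6045.exists_open (fun _ : PUnit.{u + 1} => q) hq'
    (fun _ => ⟨q.base ⁻¹' s, hs⟩) (by
      intro i j z
      change q.base ((pullback.fst q q).base z) ∈ s ↔ q.base ((pullback.snd q q).base z) ∈ s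
      rw [← Scheme.Hom.comp_apply, ← Scheme.Hom.comp_apply, pullback.condition])
  have hVs : (V : Set Z) = s := by
    ext z
    obtain ⟨y, rfl⟩ := hsurj z
    have := congrArg (fun O : Y.Opens => y ∈ O) (hV PUnit.unit)
    exact Iff.of_eq this
  rw [← hVs]
  exact V.2


include hp in
lemma full_faithful : (toDD p).Full ∧ (toDD p).Faithful := by
  have hp' : Presieve.ofArrows (fun _ : PUnit.{u + 1} => X) (fun _ => p) ∈
      Scheme.fpqcPrecoverage S := by
    rw [Presieve.ofArrows_pUnit]; exact hp
  obtain ⟨hfull, hfaith⟩ := Groth.Agent.S11719.result (fun _ : PUnit.{u + 1} => p) hp'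
  haveI := hfull
  haveI := hfaith
  haveI : (SchDDFam.toSchDD.{u, u} p).IsEquivalence :=
    inferInstanceAs ((SchDDFam.oneEquiv.{u, u} p).functor.IsEquivalence)
  have e : toDD p = toDDFam (fun _ : PUnit.{u + 1} => p) ⋙ SchDDFam.toSchDD.{u, u} p := rfl
  rw [e]
  exact ⟨inferInstance, inferInstance⟩

include hp in
lemma descOI {U U' : Over S} (g : U ⟶ U')
    (hg : IsOpenImmersion ((toDD p).map g).hom.left) : IsOpenImmersion g.left := by
  let 𝒰 : Scheme.Cover.{u, u} Scheme.fpqcPrecoverage U'.left :=
    Precoverage.ZeroHypercover.singleton (pullback.snd p U'.hom) (singleton_snd_mem p hp U')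
  apply Groth.Agent.Lib.Helper12.of_fpqcCover (P := @IsOpenImmersion) inferInstance g.left 𝒰
  intro i
  change IsOpenImmersion (pullback.snd g.left (pullback.snd p U'.hom))
  have hpb := (isPullback_map p g).flip
  have e : pullback.snd g.left (pullback.snd p U'.hom) =
      hpb.isoPullback.inv ≫ ((toDD p).map g).hom.left := by
    rw [Iso.eq_inv_comp]
    exact hpb.isoPullback_hom_snd
  rw [e]
  infer_instance

include hp in
/-- a single fpqc covering has the properties used in the gluing argument -/
theorem good_of_fpqc : Good p where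
  full := (full_faithful p hp).1
  faithful := (full_faithful p hp).2
  descOI g hg := descOI p hp g hg
  quot U := isQuotientMap_of_singleton _ (singleton_snd_mem p hp U)

end Groth.Agent.Lib.T2H7.DescGood
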