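import Mathlib
import Groth.Prelude.Def_Desc
import Groth.Prelude.Def_DescFam
import Groth.Agent.Lib.LeadDescEndo
import Groth.Agent.Lib.Helper12DescFF
import Groth.Agent.Lib.T2H7DescAffB

set_option autoImplicit false
set_option linter.style.haveILetI false
set_option linter.unusedSectionVars false
set_option backward.isDefEq.respectTransparency false
set_option backward.isDefEq.respectTransparency.types false
universe u
open CategoryTheory CategoryTheory.Limits AlgebraicGeometry Desc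

namespace Groth.Agent.Lib.T2H7.DescSigma

variable {S : Scheme.{u}} {ι : Type u} {X : ι → Scheme.{u}} {f : ∀ i, X i ⟶ S}

/-- every point of a coproduct lies in a component -/
lemma exists_sigmaι_eq (Y : ι → Scheme.{u}) (z : ↥(∐ Y)) : ∃ (i : ι) (y : ↥(Y i)), Sigma.ι Y i y = z := by
  obtain ⟨i, y, hy⟩ := (sigmaOpenCover Y).exists_eq z
  exact ⟨i, y, hy⟩

lemma sigmaι_mem_range_iff (Y : ι → Scheme.{u}) (i j : ι) (y : ↥(Y j)) :
    Sigma.ι Y j y ∈ Set.range (Sigma.ι Y i).base ↔ j = i := by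
  constructor
  · rintro ⟨y', hy'⟩
    have := (sigmaι_eq_iff Y i j y' y).mp hy'
    exact (congrArg Sigma.fst this).symm
  · rintro rfl
    exact ⟨y, rfl⟩

variable (D : SchDDFam f)

/-- the total space of the coproduct datum -/
noncomputable abbrev VS : Scheme.{u} := ∐ fun i => (D.obj i).left

/-- the structure morphism of the coproduct datum -/
noncomputable def pr : VS D ⟶ ∐ X := Limits.Sigma.map fun i => (D.obj i).hom

@[reassoc]
lemma ι_pr (i : ι) : Sigma.ι (fun i => (D.obj i).left) i ≫ pr D = (D.obj i).hom ≫ Sigma.ι X i :=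
  Limits.Sigma.ι_map _ _

/-- the components of the coproduct datum are its base changes to the components -/
lemma isPullback_ι (i : ι) :
    IsPullback (Sigma.ι (fun i => (D.obj i).left) i) (D.obj i).hom (pr D) (Sigma.ι X i) := by
  refine (IsOpenImmersion.isPullback (D.obj i).hom (Sigma.ι (fun i => (D.obj i).left) i)
    (Sigma.ι X i) (pr D) (ι_pr D i) ?_).flip
  ext z
  obtain ⟨j, y, rfl⟩ := exists_sigmaι_eq (fun i => (D.obj i).left) z
  change (pr D) (Sigma.ι (fun i => (D.obj i).left) j y) ∈ Set.range (Sigma.ι X i).base ↔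
    Sigma.ι (fun i => (D.obj i).left) j y ∈ Set.range (Sigma.ι (fun i => (D.obj i).left) i).base
  rw [sigmaι_mem_range_iff]
  have e : (pr D) (Sigma.ι (fun i => (D.obj i).left) j y) = Sigma.ι X j ((D.obj j).hom y) := by
    rw [← Scheme.Hom.comp_apply, ι_pr, Scheme.Hom.comp_apply]
  rw [e, sigmaι_mem_range_iff]


section Decomp

variable {T : Scheme.{u}} (x₀ x₁ : T ⟶ ∐ X)

/-- the piece of `T` where `x₀` lands in the component `k.1` and `x₁` in the component `k.2` -/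
noncomputable def piece (k : ι × ι) : T.Opens :=
  x₀ ⁻¹ᵁ (Sigma.ι X k.1).opensRange ⊓ x₁ ⁻¹ᵁ (Sigma.ι X k.2).opensRange

lemma mem_piece (k : ι × ι) (t : ↥T) :
    t ∈ piece x₀ x₁ k ↔ x₀ t ∈ Set.range (Sigma.ι X k.1).base ∧ x₁ t ∈ Set.range (Sigma.ι X k.2).base :=
  Iff.rfl

lemma iSup_piece : ⨆ k, ((piece x₀ x₁ k).ι).opensRange = ⊤ := by
  rw [eq_top_iff]
  intro t _
  obtain ⟨i, y, hy⟩ := exists_sigmaι_eq X (x₀ t)
  obtain ⟨j, y', hy'⟩ := exists_sigmaι_eq X (x₁ t)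
  rw [TopologicalSpace.Opens.mem_iSup]
  refine ⟨(i, j), ?_⟩
  rw [Scheme.Opens.opensRange_ι]
  exact ⟨⟨y, hy⟩, ⟨y', hy'⟩⟩

lemma disj_piece : Pairwise (Function.onFun Disjoint fun k => ((piece x₀ x₁ k).ι).opensRange) := by
  intro k k' hkk'
  change Disjoint ((piece x₀ x₁ k).ι).opensRange ((piece x₀ x₁ k').ι).opensRange
  rw [Scheme.Opens.opensRange_ι, Scheme.Opens.opensRange_ι]
  rw [disjoint_iff, eq_bot_iff]
  rintro t ⟨⟨⟨y, hy⟩, ⟨z, hz⟩⟩, ⟨⟨y', hy'⟩, ⟨z', hz'⟩⟩⟩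
  exfalso
  apply hkk'
  have e1 := (sigmaι_eq_iff X k.1 k'.1 y y').mp (hy.trans hy'.symm)
  have e2 := (sigmaι_eq_iff X k.2 k'.2 z z').mp (hz.trans hz'.symm)
  exact Prod.ext (congrArg Sigma.fst e1) (congrArg Sigma.fst e2)

/-- `T` is the disjoint union of its pieces -/
noncomputable def isColimitPiece : IsColimit (Cofan.mk T fun k => (piece x₀ x₁ k).ι) :=
  (nonempty_isColimit_cofanMk_of (fun k => (piece x₀ x₁ k).ι) (iSup_piece x₀ x₁)
    (disj_piece x₀ x₁)).some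

/-- the first point on a piece, as a point of the component -/
noncomputable def pa (k : ι × ι) : (piece x₀ x₁ k : Scheme.{u}) ⟶ X k.1 :=
  IsOpenImmersion.lift (Sigma.ι X k.1) ((piece x₀ x₁ k).ι ≫ x₀) (by
    rintro _ ⟨t, rfl⟩
    exact t.2.1)

@[reassoc]
lemma pa_fac (k : ι × ι) : pa x₀ x₁ k ≫ Sigma.ι X k.1 = (piece x₀ x₁ k).ι ≫ x₀ :=
  IsOpenImmersion.lift_fac _ _ _

/-- the second point on a piece, as a point of the component -/
noncomputable def pb (k : ι × ι) : (piece x₀ x₁ k : Scheme.{u}) ⟶ X k.2 :=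
  IsOpenImmersion.lift (Sigma.ι X k.2) ((piece x₀ x₁ k).ι ≫ x₁) (by
    rintro _ ⟨t, rfl⟩
    exact t.2.2)

@[reassoc]
lemma pb_fac (k : ι × ι) : pb x₀ x₁ k ≫ Sigma.ι X k.2 = (piece x₀ x₁ k).ι ≫ x₁ :=
  IsOpenImmersion.lift_fac _ _ _

lemma pa_pb (hx : x₀ ≫ Sigma.desc f = x₁ ≫ Sigma.desc f) (k : ι × ι) :
    pa x₀ x₁ k ≫ f k.1 = pb x₀ x₁ k ≫ f k.2 := by
  have e1 : pa x₀ x₁ k ≫ f k.1 = (piece x₀ x₁ k).ι ≫ x₀ ≫ Sigma.desc f := by
    rw [← pa_fac_assoc, Sigma.ι_desc]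
  have e2 : pb x₀ x₁ k ≫ f k.2 = (piece x₀ x₁ k).ι ≫ x₁ ≫ Sigma.desc f := by
    rw [← pb_fac_assoc, Sigma.ι_desc]
  rw [e1, e2, hx]

/-- a test morphism whose two points land in components factors through the corresponding piece -/
noncomputable def toPiece {T' : Scheme.{u}} (g : T' ⟶ T) {i j : ι} (y₀ : T' ⟶ X i) (y₁ : T' ⟶ X j)
    (e₀ : g ≫ x₀ = y₀ ≫ Sigma.ι X i) (e₁ : g ≫ x₁ = y₁ ≫ Sigma.ι X j) :
    T' ⟶ (piece x₀ x₁ (i, j) : Scheme.{u}) :=
  IsOpenImmersion.lift (piece x₀ x₁ (i, j)).ι g (by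
    rintro _ ⟨t, rfl⟩
    rw [Scheme.Opens.range_ι]
    refine ⟨⟨y₀ t, ?_⟩, ⟨y₁ t, ?_⟩⟩
    · rw [← Scheme.Hom.comp_apply, ← e₀, Scheme.Hom.comp_apply]
    · rw [← Scheme.Hom.comp_apply, ← e₁, Scheme.Hom.comp_apply])

@[reassoc]
lemma toPiece_fac {T' : Scheme.{u}} (g : T' ⟶ T) {i j : ι} (y₀ : T' ⟶ X i) (y₁ : T' ⟶ X j)
    (e₀ : g ≫ x₀ = y₀ ≫ Sigma.ι X i) (e₁ : g ≫ x₁ = y₁ ≫ Sigma.ι X j) :
    toPiece x₀ x₁ g y₀ y₁ e₀ e₁ ≫ (piece x₀ x₁ (i, j)).ι = g :=
  IsOpenImmersion.lift_fac _ _ _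

lemma toPiece_pa {T' : Scheme.{u}} (g : T' ⟶ T) {i j : ι} (y₀ : T' ⟶ X i) (y₁ : T' ⟶ X j)
    (e₀ : g ≫ x₀ = y₀ ≫ Sigma.ι X i) (e₁ : g ≫ x₁ = y₁ ≫ Sigma.ι X j) :
    toPiece x₀ x₁ g y₀ y₁ e₀ e₁ ≫ pa x₀ x₁ (i, j) = y₀ := by
  rw [← cancel_mono (Sigma.ι X i), Category.assoc, pa_fac, toPiece_fac_assoc, e₀]

lemma toPiece_pb {T' : Scheme.{u}} (g : T' ⟶ T) {i j : ι} (y₀ : T' ⟶ X i) (y₁ : T' ⟶ X j)
    (e₀ : g ≫ x₀ = y₀ ≫ Sigma.ι X i) (e₁ : g ≫ x₁ = y₁ ≫ Sigma.ι X j) :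
    toPiece x₀ x₁ g y₀ y₁ e₀ e₁ ≫ pb x₀ x₁ (i, j) = y₁ := by
  rw [← cancel_mono (Sigma.ι X j), Category.assoc, pb_fac, toPiece_fac_assoc, e₁]

end Decomp


section Compat

variable {T : Scheme.{u}}

/-- abbreviation for the coprojection of the total space -/
noncomputable abbrev iV (i : ι) : (D.obj i).left ⟶ VS D := Sigma.ι (fun i => (D.obj i).left) i

/-- a point of the total space over a point of a component comes from the component -/
noncomputable def toComp {T' : Scheme.{u}} {i : ι} (u : T' ⟶ VS D) (y : T' ⟶ X i)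
    (h : u ≫ pr D = y ≫ Sigma.ι X i) : Lifts (D.obj i) y :=
  ⟨(isPullback_ι D i).lift u y h, (isPullback_ι D i).lift_snd u y h⟩

@[reassoc]
lemma toComp_fac {T' : Scheme.{u}} {i : ι} (u : T' ⟶ VS D) (y : T' ⟶ X i)
    (h : u ≫ pr D = y ≫ Sigma.ι X i) : (toComp D u y h).1 ≫ iV D i = u :=
  (isPullback_ι D i).lift_fst u y h

/-- compatibility of two points of the total space with the gluing bijections of the family -/
def Compat (x₀ x₁ : T ⟶ ∐ X) (v w : T ⟶ VS D) : Prop :=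
  ∀ ⦃T' : Scheme.{u}⦄ (g : T' ⟶ T) ⦃i j : ι⦄ (y₀ : T' ⟶ X i) (y₁ : T' ⟶ X j)
    (_ : g ≫ x₀ = y₀ ≫ Sigma.ι X i) (_ : g ≫ x₁ = y₁ ≫ Sigma.ι X j)
    (h : y₀ ≫ f i = y₁ ≫ f j) (v' : Lifts (D.obj i) y₀),
    v'.1 ≫ iV D i = g ≫ v → g ≫ w = (D.φ y₀ y₁ h v').1 ≫ iV D j

variable (x₀ x₁ : T ⟶ ∐ X) (hx : x₀ ≫ Sigma.desc f = x₁ ≫ Sigma.desc f)
  (v : Lifts (Over.mk (pr D)) x₀)

/-- the restriction of a point of the total space to a piece -/
noncomputable def vk (k : ι × ι) : Lifts (D.obj k.1) (pa x₀ x₁ k) :=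
  toComp D ((piece x₀ x₁ k).ι ≫ v.1) (pa x₀ x₁ k) (by
    have hv : v.1 ≫ pr D = x₀ := v.2
    rw [Category.assoc, hv, pa_fac])

/-- the transported point on a piece -/
noncomputable def wk (k : ι × ι) : (piece x₀ x₁ k : Scheme.{u}) ⟶ VS D :=
  (D.φ (pa x₀ x₁ k) (pb x₀ x₁ k) (pa_pb x₀ x₁ hx k) (vk D x₀ x₁ v k)).1 ≫ iV D k.2

/-- the transported point -/
noncomputable def sigVal : T ⟶ VS D :=
  Cofan.IsColimit.desc (isColimitPiece x₀ x₁) (wk D x₀ x₁ hx v)

@[reassoc]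
lemma ι_sigVal (k : ι × ι) : (piece x₀ x₁ k).ι ≫ sigVal D x₀ x₁ hx v = wk D x₀ x₁ hx v k :=
  Cofan.IsColimit.fac (isColimitPiece x₀ x₁) _ k

lemma sigVal_pr : sigVal D x₀ x₁ hx v ≫ pr D = x₁ := by
  apply Cofan.IsColimit.hom_ext (isColimitPiece x₀ x₁)
  intro k
  change (piece x₀ x₁ k).ι ≫ _ = (piece x₀ x₁ k).ι ≫ _
  rw [ι_sigVal_assoc, wk, Category.assoc, ι_pr, ← pb_fac]
  have := (D.φ (pa x₀ x₁ k) (pb x₀ x₁ k) (pa_pb x₀ x₁ hx k) (vk D x₀ x₁ v k)).2
  rw [← Category.assoc, this]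

/-- the transported point, as a point over `x₁` -/
noncomputable def sigMap : Lifts (Over.mk (pr D)) x₁ := ⟨sigVal D x₀ x₁ hx v, sigVal_pr D x₀ x₁ hx v⟩

lemma compat_sigMap : Compat D x₀ x₁ v.1 (sigMap D x₀ x₁ hx v).1 := by
  intro T' g i j y₀ y₁ e₀ e₁ h v' hv'
  change g ≫ sigVal D x₀ x₁ hx v = _
  let g' := toPiece x₀ x₁ g y₀ y₁ e₀ e₁
  have hg' : g' ≫ (piece x₀ x₁ (i, j)).ι = g := toPiece_fac x₀ x₁ g y₀ y₁ e₀ e₁
  have hva : v'.1 = g' ≫ (vk D x₀ x₁ v (i, j)).1 := by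
    rw [← cancel_mono (iV D i), hv', Category.assoc]
    change _ = g' ≫ (toComp D _ _ _).1 ≫ _
    rw [toComp_fac, ← Category.assoc, hg']
  have key := D.φ_natural g' (pa x₀ x₁ (i, j)) (pb x₀ x₁ (i, j)) (pa_pb x₀ x₁ hx (i, j)) y₀ y₁
    (toPiece_pa x₀ x₁ g y₀ y₁ e₀ e₁) (toPiece_pb x₀ x₁ g y₀ y₁ e₀ e₁) h (vk D x₀ x₁ v (i, j)) v' hva
  rw [key, ← hg', Category.assoc, ι_sigVal, wk, Category.assoc]

omit hx in
lemma compat_unique {v w w' : T ⟶ VS D} (hv : v ≫ pr D = x₀) (h : Compat D x₀ x₁ v w)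
    (h' : Compat D x₀ x₁ v w') (hx : x₀ ≫ Sigma.desc f = x₁ ≫ Sigma.desc f) : w = w' := by
  apply Cofan.IsColimit.hom_ext (isColimitPiece x₀ x₁)
  intro k
  change (piece x₀ x₁ k).ι ≫ _ = (piece x₀ x₁ k).ι ≫ _
  have e1 := h (piece x₀ x₁ k).ι (pa x₀ x₁ k) (pb x₀ x₁ k) (pa_fac x₀ x₁ k).symm (pb_fac x₀ x₁ k).symm
    (pa_pb x₀ x₁ hx k) (vk D x₀ x₁ ⟨v, hv⟩ k) (toComp_fac D _ _ _)
  have e2 := h' (piece x₀ x₁ k).ι (pa x₀ x₁ k) (pb x₀ x₁ k) (pa_fac x₀ x₁ k).symm (pb_fac x₀ x₁ k).symm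
    (pa_pb x₀ x₁ hx k) (vk D x₀ x₁ ⟨v, hv⟩ k) (toComp_fac D _ _ _)
  rw [e1, e2]


omit hx v in
lemma compat_symm {v w : T ⟶ VS D} (hv : v ≫ pr D = x₀) (h : Compat D x₀ x₁ v w) :
    Compat D x₁ x₀ w v := by
  intro T' g j i y₁ y₀ e₁ e₀ hy w' hw'
  have hv' : (g ≫ v) ≫ pr D = y₀ ≫ Sigma.ι X i := by rw [Category.assoc, hv, e₀]
  let v' := toComp D (g ≫ v) y₀ hv'
  have e := h g y₀ y₁ e₀ e₁ hy.symm v' (toComp_fac D _ _ _)
  have hw'' : w' = D.φ y₀ y₁ hy.symm v' := by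
    apply Subtype.ext
    rw [← cancel_mono (iV D j), hw', e]
  rw [hw'', D.φ_comp, D.φ_self]
  exact (toComp_fac D _ _ _).symm

omit hx v in
lemma compat_self {x : T ⟶ ∐ X} {v : T ⟶ VS D} : Compat D x x v v := by
  intro T' g i j y₀ y₁ e₀ e₁ hy v' hv'
  by_cases hij : i = j
  · subst hij
    have hy01 : y₀ = y₁ := by
      rw [← cancel_mono (Sigma.ι X i), ← e₀, e₁]
    subst hy01
    rw [D.φ_self, hv']
  · haveI : IsEmpty ↥T' := isEmpty_of_commSq_sigmaι_of_ne ⟨e₀.symm.trans e₁⟩ hij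
    exact (isInitialOfIsEmpty (X := T')).hom_ext _ _

omit hx v in
lemma compat_nat {T₂ : Scheme.{u}} (r : T₂ ⟶ T) {v w : T ⟶ VS D} (h : Compat D x₀ x₁ v w) :
    Compat D (r ≫ x₀) (r ≫ x₁) (r ≫ v) (r ≫ w) := by
  intro T' g i j y₀ y₁ e₀ e₁ hy v' hv'
  have := h (g ≫ r) y₀ y₁ (by rw [Category.assoc, e₀]) (by rw [Category.assoc, e₁]) hy v'
    (by rw [hv', Category.assoc])
  rw [← Category.assoc, this]

omit v in
include hx in
lemma compat_trans {x₂ : T ⟶ ∐ X} {v w z : T ⟶ VS D}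
    (h₁ : Compat D x₀ x₁ v w) (h₂ : Compat D x₁ x₂ w z) : Compat D x₀ x₂ v z := by
  intro T' g i k y₀ y₂ e₀ e₂ hy v' hv'
  apply Cofan.IsColimit.hom_ext (isColimitPiece (g ≫ x₁) (g ≫ x₁))
  intro m
  change (piece (g ≫ x₁) (g ≫ x₁) m).ι ≫ _ = (piece (g ≫ x₁) (g ≫ x₁) m).ι ≫ _
  set c := (piece (g ≫ x₁) (g ≫ x₁) m).ι with hc
  set y₁ := pa (g ≫ x₁) (g ≫ x₁) m with hy₁
  have e₁ : (c ≫ g) ≫ x₁ = y₁ ≫ Sigma.ι X m.1 := by
    rw [Category.assoc]; exact (pa_fac (g ≫ x₁) (g ≫ x₁) m).symm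
  have hy01 : (c ≫ y₀) ≫ f i = y₁ ≫ f m.1 := by
    have a1 : (c ≫ y₀) ≫ f i = c ≫ g ≫ x₀ ≫ Sigma.desc f := by
      rw [Category.assoc, ← Sigma.ι_desc f i, ← Category.assoc y₀, ← e₀, Category.assoc]
    have a2 : y₁ ≫ f m.1 = c ≫ g ≫ x₁ ≫ Sigma.desc f := by
      rw [← Sigma.ι_desc f m.1, ← Category.assoc y₁, ← e₁, Category.assoc, Category.assoc]
    rw [a1, a2, hx]
  have hy12 : y₁ ≫ f m.1 = (c ≫ y₂) ≫ f k := by
    rw [← hy01, Category.assoc, hy, Category.assoc]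
  let v'c : Lifts (D.obj i) (c ≫ y₀) := ⟨c ≫ v'.1, by rw [Category.assoc, v'.2]⟩
  have E1 := h₁ (c ≫ g) (c ≫ y₀) y₁ (by rw [Category.assoc, e₀, Category.assoc]) e₁ hy01 v'c (by
    change (c ≫ v'.1) ≫ _ = _
    rw [Category.assoc, hv', Category.assoc])
  have E2 := h₂ (c ≫ g) y₁ (c ≫ y₂) e₁ (by rw [Category.assoc, e₂, Category.assoc]) hy12
    (D.φ (c ≫ y₀) y₁ hy01 v'c) E1.symm
  rw [D.φ_comp] at E2
  have N := D.φ_natural c y₀ y₂ hy (c ≫ y₀) (c ≫ y₂) rfl rfl (hy01.trans hy12) v' v'c rfl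
  rw [N] at E2
  rw [← Category.assoc, E2, Category.assoc]

end Compat


section Datum

/-- the descent datum on the coproduct of the members, relative to the coproduct of the family -/
noncomputable def sigmaDD : SchDD (Sigma.desc f) where
  obj := Over.mk (pr D)
  φ T x₀ x₁ h :=
    { toFun := sigMap D x₀ x₁ h
      invFun := sigMap D x₁ x₀ h.symm
      left_inv := fun v => Subtype.ext (compat_unique D x₁ x₀ (sigVal_pr D x₀ x₁ h v)
        (compat_sigMap D x₁ x₀ h.symm (sigMap D x₀ x₁ h v))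
        (compat_symm D x₀ x₁ v.2 (compat_sigMap D x₀ x₁ h v)) h.symm)
      right_inv := fun v => Subtype.ext (compat_unique D x₀ x₁ (sigVal_pr D x₁ x₀ h.symm v)
        (compat_sigMap D x₀ x₁ h (sigMap D x₁ x₀ h.symm v))
        (compat_symm D x₁ x₀ v.2 (compat_sigMap D x₁ x₀ h.symm v)) h) }
  φ_natural T T' g x₀ x₁ h h' v v' hv' := by
    have h1 := compat_sigMap D (g ≫ x₀) (g ≫ x₁) h' v'
    have h2 := compat_nat D x₀ x₁ g (compat_sigMap D x₀ x₁ h v)
    rw [← hv'] at h2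
    exact compat_unique D (g ≫ x₀) (g ≫ x₁) v'.2 h1 h2 h'
  φ_self T x v := Subtype.ext (compat_unique D x x v.2 (compat_sigMap D x x rfl v)
    (compat_self D) rfl)
  φ_comp T x₀ x₁ x₂ h₀₁ h₁₂ v := Subtype.ext (compat_unique D x₀ x₂ v.2
    (compat_trans D x₀ x₁ h₀₁ (compat_sigMap D x₀ x₁ h₀₁ v)
      (compat_sigMap D x₁ x₂ h₁₂ (sigMap D x₀ x₁ h₀₁ v)))
    (compat_sigMap D x₀ x₂ (h₀₁.trans h₁₂) v) (h₀₁.trans h₁₂))

lemma sigmaDD_obj : (sigmaDD D).obj = Over.mk (pr D) := rfl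

/-- the defining property of the gluing bijections of the coproduct datum -/
lemma sigmaDD_compat {T : Scheme.{u}} (x₀ x₁ : T ⟶ ∐ X) (h : x₀ ≫ Sigma.desc f = x₁ ≫ Sigma.desc f)
    (v : Lifts (sigmaDD D).obj x₀) : Compat D x₀ x₁ v.1 ((sigmaDD D).φ x₀ x₁ h v).1 :=
  compat_sigMap D x₀ x₁ h v

end Datum


section Back

variable (f) in
/-- the functor of the coproduct comparison: descent data relative to the coproduct morphism, pulled
back to the family along the coprojections -/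
noncomputable abbrev Gfun : SchDD (Sigma.desc f) ⥤ SchDDFam f :=
  SchDDFam.ofSchDD (Sigma.desc f) ⋙
    pullDDFam (f := fun _ : PUnit.{u + 1} => Sigma.desc f) (f' := f) (α := fun _ => PUnit.unit)
      (p := 𝟙 S) (p' := fun i => Sigma.ι X i)
      (fun i => (Sigma.ι_desc f i).trans (Category.comp_id (f i)).symm)

/-- the component of the comparison `D ⟶ G (sigmaDD D)` -/
noncomputable def backLeft (i : ι) : (D.obj i).left ⟶ pullback (pr D) (Sigma.ι X i) :=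
  pullback.lift (iV D i) (D.obj i).hom (ι_pr D i)

instance (i : ι) : IsIso (backLeft D i) := by
  have : backLeft D i = (isPullback_ι D i).isoPullback.hom := by
    apply pullback.hom_ext
    · rw [IsPullback.isoPullback_hom_fst]; exact pullback.lift_fst _ _ _
    · rw [IsPullback.isoPullback_hom_snd]; exact pullback.lift_snd _ _ _
  rw [this]; infer_instance

/-- the comparison `D ⟶ G (sigmaDD D)` -/
noncomputable def backHom : D ⟶ (Gfun f).obj (sigmaDD D) where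
  hom i := Over.homMk (backLeft D i) (pullback.lift_snd _ _ _)
  comm T i j x₀ x₁ h v w hw := by
    change w.1 = v.1 ≫ backLeft D i at hw
    change _ = _ ≫ backLeft D j
    have e := Groth.Agent.Lib.LeadDescEndo.pull_obj_φ
      (f := fun _ : PUnit.{u + 1} => Sigma.desc f) (f' := f) (α := fun _ => PUnit.unit)
      (p := 𝟙 S) (p' := fun i => Sigma.ι X i)
      (fun i => (Sigma.ι_desc f i).trans (Category.comp_id (f i)).symm)
      ((SchDDFam.ofSchDD (Sigma.desc f)).obj (sigmaDD D)) x₀ x₁ h w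
    have e' := congrArg Subtype.val e
    refine e'.trans ?_
    apply pullback.hom_ext
    · refine (pullback.lift_fst _ _ _).trans ?_
      rw [Category.assoc]
      refine Eq.trans ?_ (congrArg (fun z => (D.φ x₀ x₁ h v).1 ≫ z) (pullback.lift_fst _ _ _).symm)
      have c := sigmaDD_compat D (x₀ ≫ Sigma.ι X i) (x₁ ≫ Sigma.ι X j)
        (pull_compat (f := fun _ : PUnit.{u + 1} => Sigma.desc f) (f' := f) (α := fun _ => PUnit.unit)
          (p := 𝟙 S) (p' := fun i => Sigma.ι X i)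
          (fun i => (Sigma.ι_desc f i).trans (Category.comp_id (f i)).symm) x₀ x₁ h)
        (liftsPullbackEquiv (Over.mk (pr D)) (Sigma.ι X i) x₀ w)
      have c' := c (𝟙 T) x₀ x₁ (Category.id_comp _) (Category.id_comp _) h v (by
        rw [Category.id_comp]
        change _ = w.1 ≫ pullback.fst _ _
        rw [hw, Category.assoc]
        exact congrArg (fun z => v.1 ≫ z) (pullback.lift_fst _ _ _).symm)
      rw [Category.id_comp] at c'
      exact c'
    · refine (pullback.lift_snd _ _ _).trans ?_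
      rw [Category.assoc]
      refine Eq.trans ?_ (congrArg (fun z => (D.φ x₀ x₁ h v).1 ≫ z) (pullback.lift_snd _ _ _).symm)
      exact (D.φ x₀ x₁ h v).2.symm


instance isIso_backHom : IsIso (backHom D) := by
  haveI : ∀ i, IsIso ((backHom D).hom i).left := fun i =>
    inferInstanceAs (IsIso (backLeft D i))
  exact Groth.Agent.Lib.T2H7.DescAffB.isIso_of_isIso_leftFam (backHom D)

/-- every descent datum relative to the family comes from one relative to the coproduct morphism -/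
noncomputable def backIso : (Gfun f).obj (sigmaDD D) ≅ D := (asIso (backHom D)).symm

end Back

section Cmp

variable {κ : Type u} {U : ι → Scheme.{u}} {V : κ → Scheme.{u}}
  {u : ∀ i, U i ⟶ S} {v : ∀ j, V j ⟶ S} {α : ι → κ} {g : ∀ i, U i ⟶ V (α i)}
  (w : ∀ i, g i ≫ v (α i) = u i ≫ 𝟙 S) (Y : Over S)

include w in
lemma w' (i : ι) : g i ≫ v (α i) = u i := (w i).trans (Category.comp_id _)

/-- the comparison `(V ×_S Y) ×_V U ⟶ U ×_S Y` -/
noncomputable def mF (i : ι) :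
    pullback (pullback.fst (v (α i)) Y.hom) (g i) ⟶ pullback (u i) Y.hom :=
  pullback.lift (pullback.snd _ _) (pullback.fst _ _ ≫ pullback.snd (v (α i)) Y.hom) (by
    rw [← w' w i, ← Category.assoc, ← pullback.condition, Category.assoc, Category.assoc,
      pullback.condition])

/-- the comparison `U ×_S Y ⟶ (V ×_S Y) ×_V U` -/
noncomputable def mB (i : ι) :
    pullback (u i) Y.hom ⟶ pullback (pullback.fst (v (α i)) Y.hom) (g i) :=
  pullback.lift (pullback.lift (pullback.fst _ _ ≫ g i) (pullback.snd _ _) (by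
    rw [Category.assoc, w' w i, pullback.condition])) (pullback.fst _ _) (pullback.lift_fst _ _ _)

lemma mF_fst (i : ι) : mF w Y i ≫ pullback.fst (u i) Y.hom = pullback.snd _ _ :=
  pullback.lift_fst _ _ _

lemma mF_snd (i : ι) : mF w Y i ≫ pullback.snd (u i) Y.hom =
    pullback.fst _ _ ≫ pullback.snd (v (α i)) Y.hom := pullback.lift_snd _ _ _

lemma mF_mB (i : ι) : mF w Y i ≫ mB w Y i = 𝟙 _ := by
  apply pullback.hom_ext
  · apply pullback.hom_ext
    · simp only [mB, mF, Category.assoc, pullback.lift_fst, pullback.lift_fst_assoc,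
        Category.id_comp]
      exact pullback.condition.symm
    · simp only [mB, mF, Category.assoc, pullback.lift_fst, pullback.lift_snd, Category.id_comp]
  · simp only [mB, mF, Category.assoc, pullback.lift_snd, pullback.lift_fst, Category.id_comp]

lemma mB_mF (i : ι) : mB w Y i ≫ mF w Y i = 𝟙 _ := by
  apply pullback.hom_ext
  · simp only [mB, mF, Category.assoc, pullback.lift_fst, pullback.lift_snd, Category.id_comp]
  · simp only [mB, mF, Category.assoc, pullback.lift_snd, pullback.lift_fst_assoc,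
      Category.id_comp]

/-- pulling back the canonical datum along a refinement gives the canonical datum -/
noncomputable def cmpFam : (pullDDFam w).obj ((toDDFam v).obj Y) ⟶ (toDDFam u).obj Y where
  hom i := Over.homMk (mF w Y i) (mF_fst w Y i)
  comm T i j x₀ x₁ h a b hb := by
    change b.1 = a.1 ≫ mF w Y i at hb
    change _ = _ ≫ mF w Y j
    have e := congrArg Subtype.val
      (Groth.Agent.Lib.LeadDescEndo.pull_obj_φ w ((toDDFam v).obj Y) x₀ x₁ h a)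
    rw [e]
    apply pullback.hom_ext
    · rw [Groth.Agent.Lib.T2H7.DescAffB.canFam_φ_fst, Category.assoc, mF_fst]
      exact (pullback.lift_snd _ _ _).symm
    · rw [Groth.Agent.Lib.T2H7.DescAffB.canFam_φ_snd, hb, Category.assoc, Category.assoc, mF_snd,
        mF_snd]
      refine Eq.trans ?_ (Category.assoc _ _ _)
      refine Eq.trans ?_ (congrArg (fun z => z ≫ pullback.snd (v (α j)) Y.hom)
        (pullback.lift_fst _ _ _).symm)
      exact (Groth.Agent.Lib.T2H7.DescAffB.canFam_φ_snd v Y (x₀ ≫ g i) (x₁ ≫ g j) _ _).symm ▸ rfl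


instance isIso_cmpFam : IsIso (cmpFam w Y) := by
  haveI : ∀ i, IsIso ((cmpFam w Y).hom i).left := fun i =>
    ⟨⟨mB w Y i, mF_mB w Y i, mB_mF w Y i⟩⟩
  exact Groth.Agent.Lib.T2H7.DescAffB.isIso_of_isIso_leftFam (cmpFam w Y)

end Cmp

section Transfer

/-- the canonical datum of the coproduct morphism goes to the canonical datum of the family -/
noncomputable def canIso (Y : Over S) : (Gfun f).obj ((toDD (Sigma.desc f)).obj Y) ≅ (toDDFam f).obj Y :=
  asIso (cmpFam (u := f) (v := fun _ : PUnit.{u + 1} => Sigma.desc f) (α := fun _ => PUnit.unit)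
    (g := fun i => Sigma.ι X i)
    (fun i => (Sigma.ι_desc f i).trans (Category.comp_id (f i)).symm) Y)

/-- effectiveness of the coproduct datum gives effectiveness of the datum of the family -/
theorem isEffective_of_sigma (Y : Over S) (e : (toDD (Sigma.desc f)).obj Y ≅ sigmaDD D) :
    D.IsEffective :=
  ⟨Y, ⟨(canIso Y).symm ≪≫ (Gfun f).mapIso e ≪≫ backIso D⟩⟩

end Transfer

section Equiv

lemma facSieve_mem (j : PUnit.{u + 1}) :
    Groth.Agent.Lib.Helper12.DescFF.facSieve f (fun _ : PUnit.{u + 1} => Sigma.desc f) j ∈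
      Scheme.fpqcTopology (∐ X) := by
  apply Groth.Agent.Lib.Helper12.DescFF.facSieve_mem_of_refinement
    (u := f) (v := fun _ : PUnit.{u + 1} => Sigma.desc f) (α := fun _ => PUnit.unit)
    (g := fun i => Sigma.ι X i)
    (fun i => (Sigma.ι_desc f i).trans (Category.comp_id (f i)).symm)
  intro j
  apply Scheme.zariskiPrecoverage_le_fpqcPrecoverage
  rw [Scheme.zariskiPrecoverage, Scheme.ofArrows_mem_precoverage_iff]
  refine ⟨fun z => ?_, fun i => ?_⟩
  · obtain ⟨i, y, hy⟩ := exists_sigmaι_eq X z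
    refine ⟨⟨i, rfl⟩, y, ?_⟩
    rw [← hy]
    simp
  · simp only [eqToHom_refl, Category.comp_id]
    infer_instance


/-- descent data relative to the coproduct morphism are descent data relative to the family -/
theorem gfun_isEquivalence : (Gfun f).IsEquivalence := by
  have hcov := facSieve_mem (f := f)
  haveI : (pullDDFam (f := fun _ : PUnit.{u + 1} => Sigma.desc f) (f' := f) (α := fun _ => PUnit.unit)
      (p := 𝟙 S) (p' := fun i => Sigma.ι X i)
      (fun i => (Sigma.ι_desc f i).trans (Category.comp_id (f i)).symm)).Full :=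
    Groth.Agent.Lib.Helper12.DescFF.full_of_cov _ hcov
  haveI : (pullDDFam (f := fun _ : PUnit.{u + 1} => Sigma.desc f) (f' := f) (α := fun _ => PUnit.unit)
      (p := 𝟙 S) (p' := fun i => Sigma.ι X i)
      (fun i => (Sigma.ι_desc f i).trans (Category.comp_id (f i)).symm)).Faithful :=
    Groth.Agent.Lib.Helper12.DescFF.faithful_of_sep _
      (Groth.Agent.Lib.Helper12.DescFF.sep_of_cov hcov)
  haveI : (SchDDFam.ofSchDD.{u, u} (Sigma.desc f)).IsEquivalence :=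
    inferInstanceAs ((SchDDFam.oneEquiv.{u, u} (Sigma.desc f)).inverse.IsEquivalence)
  haveI : (Gfun f).EssSurj := ⟨fun D => ⟨sigmaDD D, ⟨backIso D⟩⟩⟩
  exact { }

end Equiv

end Groth.Agent.Lib.T2H7.DescSigma
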