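import Mathlib
import Groth.Prelude.Def_Desc
import Groth.Prelude.Def_DescFam
import Groth.Agent.Lib.T2H7DescGlueQ
import Groth.Agent.Lib.T2H7DescGood
import Groth.Agent.Lib.T2H7DescSigma
import Groth.Agent.Lib.T2H7DescAffB

set_option autoImplicit false
set_option linter.style.haveILetI false
set_option linter.unusedSectionVars false
set_option backward.isDefEq.respectTransparency false
set_option backward.isDefEq.respectTransparency.types false
universe u
open CategoryTheory CategoryTheory.Limits AlgebraicGeometry Desc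

namespace Groth.Agent.Lib.T2H7.DescFam

open Groth.Agent.Lib.T2H7.DescSigma Groth.Agent.Lib.T2H7.DescAffB

section Cover

variable {S : Scheme.{u}} {ι : Type u} {X : ι → Scheme.{u}} (f : ∀ i, X i ⟶ S)
  (hf : Presieve.ofArrows X f ∈ Scheme.fpqcPrecoverage S)

include hf in
lemma flat_of_mem (i : ι) : Flat (f i) := by
  have h1 : Presieve.ofArrows X f ∈ Scheme.precoverage @Flat S :=
    Scheme.propQCPrecoverage_le_precoverage _ hf
  rw [Scheme.ofArrows_mem_precoverage_iff] at h1
  exact h1.2 i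

include hf in
lemma exists_mem_range (s : ↥S) : ∃ i, s ∈ Set.range (f i).base := by
  have h1 : Presieve.ofArrows X f ∈ Scheme.precoverage @Flat S :=
    Scheme.propQCPrecoverage_le_precoverage _ hf
  rw [Scheme.ofArrows_mem_precoverage_iff] at h1
  exact h1.1 s

/-- the family as a pre-`0`-hypercover -/
def preCover : PreZeroHypercover.{u} S where
  I₀ := ι
  X := X
  f := f

include hf in
lemma quasiCompactCover_preCover : QuasiCompactCover (preCover f) := by
  have h1 : (preCover f).presieve₀ ∈ Scheme.qcPrecoverage S := hf.1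
  exact Scheme.presieve₀_mem_qcPrecoverage_iff.mp h1

include hf in
/-- the coproduct of an fpqc covering family is a single fpqc covering -/
theorem singleton_sigmaDesc_mem : Presieve.singleton (Sigma.desc f) ∈ Scheme.fpqcPrecoverage S := by
  refine ⟨?_, ?_⟩
  · haveI := quasiCompactCover_preCover f hf
    have : QuasiCompactCover (PreZeroHypercover.singleton.{u} (Sigma.desc f)) :=
      QuasiCompactCover.of_hom (𝒱 := preCover f)
        ⟨fun _ => PUnit.unit, fun i => Sigma.ι X i, fun i => Sigma.ι_desc f i⟩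
    rw [← PreZeroHypercover.presieve₀_singleton.{u}]
    exact Scheme.presieve₀_mem_qcPrecoverage_iff.mpr this
  · rw [Scheme.singleton_mem_precoverage_iff]
    refine ⟨fun s => ?_, ?_⟩
    · obtain ⟨i, y, hy⟩ := exists_mem_range f hf s
      refine ⟨Sigma.ι X i y, ?_⟩
      rw [← Scheme.Hom.comp_apply, Sigma.ι_desc]
      exact hy
    · rw [IsZariskiLocalAtSource.iff_of_openCover (P := @Flat) (sigmaOpenCover _)]
      intro i
      change Flat (Sigma.ι X i ≫ Sigma.desc f)
      rw [Sigma.ι_desc]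
      exact flat_of_mem f hf i

end Cover


section Local

variable {X S : Scheme.{u}} (p : X ⟶ S) (hp : Presieve.singleton p ∈ Scheme.fpqcPrecoverage S)
  (D : SchDD p)

include hp in
/-- effectiveness relative to a single fpqc covering can be checked over the affine opens of the
base -/
theorem effective_of_local
    (hloc : ∀ (W : S.Opens) (hW : IsAffineOpen W), ∃ U₀ : Over (Spec Γ(S, W)),
      Nonempty ((toDD (pullback.snd p hW.fromSpec)).obj U₀ ≅ restrD p hW.fromSpec D)) :
    ∃ U : Over S, Nonempty ((toDD p).obj U ≅ D) := by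
  haveI : Groth.Agent.Lib.T2H7.DescGlueQ.Good p := Groth.Agent.Lib.T2H7.DescGood.good_of_fpqc p hp
  apply Groth.Agent.Lib.T2H7.DescGlueQ.effective_of_cover p D
  intro v
  obtain ⟨W, hW, hs, -⟩ := exists_isAffineOpen_mem_and_subset
    (x := (D.obj.hom ≫ p).base v) (U := ⊤) trivial
  let ι : Spec Γ(S, W) ⟶ S := hW.fromSpec
  haveI : IsOpenImmersion ι := inferInstanceAs (IsOpenImmersion hW.fromSpec)
  obtain ⟨U₀, ⟨e₀⟩⟩ := hloc W hW
  haveI : IsOpenImmersion (extHom p ι D U₀ e₀).hom.left :=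
    inferInstanceAs (IsOpenImmersion (extLeft p ι D U₀ e₀))
  refine ⟨⟨(extHom p ι D U₀ e₀).hom.left.opensRange,
    ⟨Uext ι U₀, extHom p ι D U₀ e₀, inferInstance, rfl⟩⟩, ?_⟩
  apply range_extLeft p ι D U₀ e₀ v
  change (D.obj.hom ≫ p).base v ∈ Set.range hW.fromSpec.base
  rw [hW.range_fromSpec]
  exact hs

end Local


section Main

variable (P : MorphismProperty Scheme.{u}) [P.IsStableUnderBaseChange]
  (h2 : ∀ (m : ℕ) (Y V : Fin m → Scheme.{u}) (q : ∀ j, Y j ⟶ V j), (∀ j, P (q j)) →
    P (Limits.Sigma.map q))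
  (h3 : ∀ (X S : Scheme.{u}) (p : X ⟶ S), IsAffine X → IsAffine S → Flat p → Surjective p →
      ∀ D : Desc.SchDD p, P D.obj.hom → ∃ U : Over S, Nonempty ((Desc.toDD p).obj U ≅ D))
  {ι : Type u} {S : Scheme.{u}} {X : ι → Scheme.{u}} (f : ∀ i, X i ⟶ S)
  (hf : Presieve.ofArrows X f ∈ Scheme.fpqcPrecoverage S) (D : SchDDFam f)
  (hD : ∀ i, P (D.obj i).hom)

include h2 h3 hf hD in
/-- the local step: over an affine open of the base the coproduct datum is effective -/
theorem local_effective (W : S.Opens) (hW : IsAffineOpen W) :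
    ∃ U₀ : Over (Spec Γ(S, W)),
      Nonempty ((toDD (pullback.snd (Sigma.desc f) hW.fromSpec)).obj U₀ ≅
        restrD (Sigma.desc f) hW.fromSpec (sigmaDD D)) := by
  haveI := quasiCompactCover_preCover f hf
  obtain ⟨n, a, Wk, hWk, hU'⟩ : ∃ (n : ℕ) (a : Fin n → ι) (Wk : ∀ k, (X (a k)).Opens),
      (∀ k, IsAffineOpen (Wk k)) ∧
        ⋃ k, (f (a k)).base '' (Wk k : Set (X (a k))) = (W : Set S) :=
    QuasiCompactCover.exists_isAffineOpen_of_isCompact (preCover f) hW.isCompact
  haveI hWaff : ∀ k, IsAffine (Wk k : Scheme.{u}) := hWk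
  set σ := Sigma.desc f with hσ
  set ιW : Spec Γ(S, W) ⟶ S := hW.fromSpec with hιW
  haveI : IsOpenImmersion ιW := inferInstanceAs (IsOpenImmersion hW.fromSpec)
  have hrange : ∀ k, Set.range ((Wk k).ι ≫ f (a k)).base ⊆ Set.range ιW.base := by
    intro k
    rw [hιW, hW.range_fromSpec, ← hU']
    rintro _ ⟨w, rfl⟩
    exact Set.mem_iUnion.mpr ⟨k, w.1, w.2, rfl⟩
  let t : ∀ k, (Wk k : Scheme.{u}) ⟶ Spec Γ(S, W) := fun k =>
    IsOpenImmersion.lift ιW ((Wk k).ι ≫ f (a k)) (hrange k)
  have ht : ∀ k, t k ≫ ιW = (Wk k).ι ≫ f (a k) := fun k => IsOpenImmersion.lift_fac _ _ _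
  let p' : (∐ fun k => (Wk k : Scheme.{u})) ⟶ Spec Γ(S, W) := Sigma.desc t
  have hp' : ∀ k, Sigma.ι (fun k => (Wk k : Scheme.{u})) k ≫ p' = t k := fun k => Sigma.ι_desc _ _
  have htflat : ∀ k, Flat (t k) := by
    intro k
    have h1 : Flat (t k ≫ ιW) := by
      rw [ht]; have := flat_of_mem f hf (a k); infer_instance
    exact MorphismProperty.of_postcomp (W := @Flat) (W' := @IsOpenImmersion) (t k) ιW
      inferInstance h1
  have hpflat : Flat p' := by
    rw [IsZariskiLocalAtSource.iff_of_openCover (P := @Flat) (sigmaOpenCover _)]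
    intro k
    change Flat (Sigma.ι (fun k => (Wk k : Scheme.{u})) k ≫ p')
    rw [hp']
    exact htflat k
  have hpsurj : Surjective p' := by
    constructor
    intro y
    have hy : ιW y ∈ (W : Set S) := by
      rw [← hW.range_fromSpec]; exact ⟨y, rfl⟩
    rw [← hU'] at hy
    obtain ⟨k, w, hw, hwy⟩ := Set.mem_iUnion.mp hy
    refine ⟨Sigma.ι (fun k => (Wk k : Scheme.{u})) k ⟨w, hw⟩, ?_⟩
    apply ιW.injective
    have e : Sigma.ι (fun k => (Wk k : Scheme.{u})) k ≫ p' ≫ ιW = (Wk k).ι ≫ f (a k) := by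
      rw [← Category.assoc, hp', ht]
    calc ιW (p' (Sigma.ι (fun k => (Wk k : Scheme.{u})) k ⟨w, hw⟩))
        = (Sigma.ι (fun k => (Wk k : Scheme.{u})) k ≫ p' ≫ ιW) ⟨w, hw⟩ := by simp
      _ = ((Wk k).ι ≫ f (a k)) ⟨w, hw⟩ := by rw [e]
      _ = f (a k) w := rfl
      _ = ιW y := hwy
  -- the refinement
  let c : (∐ fun k => (Wk k : Scheme.{u})) ⟶ ∐ X :=
    Sigma.desc fun k => (Wk k).ι ≫ Sigma.ι X (a k)
  have hc : c ≫ σ = p' ≫ ιW := by
    apply Sigma.hom_ext
    intro k
    rw [Sigma.ι_desc_assoc, Category.assoc, hσ, Sigma.ι_desc, ← Category.assoc, hp', ht]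
  let r : (∐ fun k => (Wk k : Scheme.{u})) ⟶ pullback σ ιW := pullback.lift c p' hc
  have hr1 : r ≫ pullback.fst σ ιW = c := pullback.lift_fst _ _ _
  have hr2 : r ≫ pullback.snd σ ιW = p' := pullback.lift_snd _ _ _
  haveI : Flat (r ≫ pullback.snd σ ιW) := by rw [hr2]; exact hpflat
  haveI : Surjective (r ≫ pullback.snd σ ιW) := by rw [hr2]; exact hpsurj
  have hcov : Presieve.singleton (r ≫ pullback.snd σ ιW) ∈ Scheme.fpqcPrecoverage (Spec Γ(S, W)) :=
    Scheme.Hom.singleton_mem_fpqcPrecoverage _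
  let D₀ := restrD σ ιW (sigmaDD D)
  let Dp : SchDDFam (fun _ : PUnit.{u + 1} => r ≫ pullback.snd σ ιW) :=
    (pullR (pullback.snd σ ιW) r).obj ((SchDDFam.ofSchDD (pullback.snd σ ιW)).obj D₀)
  let E : SchDD (r ≫ pullback.snd σ ιW) := (SchDDFam.toSchDD (r ≫ pullback.snd σ ιW)).obj Dp
  have hPE : P E.obj.hom := by
    change P (pullback.snd (pullback.snd (pr D) (pullback.fst σ ιW)) r)
    have sq1 : IsPullback
        (pullback.fst (pullback.snd (pr D) (pullback.fst σ ιW)) r ≫
          pullback.fst (pr D) (pullback.fst σ ιW))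
        (pullback.snd (pullback.snd (pr D) (pullback.fst σ ιW)) r) (pr D)
        (r ≫ pullback.fst σ ιW) :=
      IsPullback.paste_horiz (IsPullback.of_hasPullback _ r)
        (IsPullback.of_hasPullback (pr D) (pullback.fst σ ιW))
    rw [hr1] at sq1
    let Yk : Fin n → Scheme.{u} := fun k => pullback (D.obj (a k)).hom (Wk k).ι
    let qk : ∀ k, Yk k ⟶ (Wk k : Scheme.{u}) := fun k => pullback.snd _ _
    have hqk : ∀ k, P (qk k) := fun k => P.pullback_snd _ _ (hD (a k))
    have hPS : P (Limits.Sigma.map qk) := h2 n Yk (fun k => (Wk k : Scheme.{u})) qk hqk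
    have hau : IsUniversalColimit (Cofan.mk _ (Sigma.ι fun k => (Wk k : Scheme.{u}))) :=
      FinitaryPreExtensive.isUniversal_finiteCoproducts (coproductIsCoproduct _)
    have sq2 := hau.isPullback_of_isColimit_left (fun k => (Wk k).ι ≫ Sigma.ι X (a k)) c (pr D)
      (fun k => pullback.fst (D.obj (a k)).hom (Wk k).ι ≫ iV D (a k)) qk
      (fun k => IsPullback.paste_horiz (IsPullback.of_hasPullback (D.obj (a k)).hom (Wk k).ι)
        (isPullback_ι D (a k)))
      (coproductIsCoproduct Yk) (fun k => Sigma.ι_desc _ _)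
    have e2 : Cofan.IsColimit.desc (coproductIsCoproduct Yk)
        (fun k => qk k ≫ Sigma.ι (fun k => (Wk k : Scheme.{u})) k) = Limits.Sigma.map qk := by
      apply Sigma.hom_ext
      intro k
      rw [Limits.Sigma.ι_map]
      exact Cofan.IsColimit.fac (coproductIsCoproduct Yk) _ k
    change IsPullback _ (Cofan.IsColimit.desc (coproductIsCoproduct Yk)
        (fun k => qk k ≫ Sigma.ι (fun k => (Wk k : Scheme.{u})) k)) _ _ at sq2
    rw [e2] at sq2
    rw [← sq1.isoIsPullback_hom_snd _ _ sq2, P.cancel_left_of_respectsIso]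
    exact hPS
  obtain ⟨U₀, ⟨e⟩⟩ := h3 _ _ (r ≫ pullback.snd σ ιW) inferInstance inferInstance inferInstance
    inferInstance E hPE
  exact ⟨U₀, ET (pullback.snd σ ιW) r hcov D₀ U₀
    ((SchDDFam.ofSchDD (r ≫ pullback.snd σ ιW)).mapIso e)⟩


include h2 h3 hf hD in
/-- reduction of effectiveness for fpqc covering families to flat surjective morphisms of affine
schemes (statement of S9858) -/
theorem family_effective : D.IsEffective := by
  have hσ := singleton_sigmaDesc_mem f hf
  obtain ⟨Y, ⟨e⟩⟩ := effective_of_local (Sigma.desc f) hσ (sigmaDD D)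
    (fun W hW => local_effective P h2 h3 f hf D hD W hW)
  exact isEffective_of_sigma D Y e

end Main

section Closed

universe w

lemma exists_sigmaι_eq' {K : Type w} [Small.{u} K] (Y : K → Scheme.{u}) (z : ↥(∐ Y)) :
    ∃ (i : K) (y : ↥(Y i)), Sigma.ι Y i y = z := by
  obtain ⟨i, y, hy⟩ := (sigmaOpenCover Y).exists_eq z
  exact ⟨i, y, hy⟩

lemma sigmaι_mem_range_iff' {K : Type w} [Small.{u} K] (Y : K → Scheme.{u}) (i j : K)
    (y : ↥(Y j)) : Sigma.ι Y j y ∈ Set.range (Sigma.ι Y i).base ↔ j = i := by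
  constructor
  · rintro ⟨y', hy'⟩
    have := (sigmaι_eq_iff Y i j y' y).mp hy'
    exact (congrArg Sigma.fst this).symm
  · rintro rfl
    exact ⟨y, rfl⟩

/-- a coproduct of closed immersions is a closed immersion -/
theorem isClosedImmersion_sigmaMap {K : Type w} [Small.{u} K] (Y V : K → Scheme.{u})
    (q : ∀ k, Y k ⟶ V k) (hq : ∀ k, IsClosedImmersion (q k)) :
    IsClosedImmersion (Limits.Sigma.map q) := by
  rw [IsZariskiLocalAtTarget.iff_of_openCover (P := @IsClosedImmersion) (sigmaOpenCover V)]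
  intro k
  change IsClosedImmersion (pullback.snd (Limits.Sigma.map q) (Sigma.ι V k))
  have sq : IsPullback (Sigma.ι Y k) (q k) (Limits.Sigma.map q) (Sigma.ι V k) := by
    refine (IsOpenImmersion.isPullback (q k) (Sigma.ι Y k) (Sigma.ι V k) (Limits.Sigma.map q)
      (Limits.Sigma.ι_map _ _) ?_).flip
    ext z
    obtain ⟨j, y, rfl⟩ := exists_sigmaι_eq' Y z
    change (Limits.Sigma.map q) (Sigma.ι Y j y) ∈ Set.range (Sigma.ι V k).base ↔
      Sigma.ι Y j y ∈ Set.range (Sigma.ι Y k).base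
    rw [sigmaι_mem_range_iff']
    have e : (Limits.Sigma.map q) (Sigma.ι Y j y) = Sigma.ι V j ((q j) y) := by
      rw [← Scheme.Hom.comp_apply, Limits.Sigma.ι_map, Scheme.Hom.comp_apply]
    rw [e, sigmaι_mem_range_iff']
  have e : pullback.snd (Limits.Sigma.map q) (Sigma.ι V k) = sq.isoPullback.inv ≫ q k := by
    rw [Iso.eq_inv_comp]; exact sq.isoPullback_hom_snd
  rw [e]
  haveI := hq k
  infer_instance

/-- closed immersions descend along fpqc covering families (statement of S6044) -/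
theorem closedImmersion_effective {S : Scheme.{u}} {ι : Type u} {X : ι → Scheme.{u}}
    (f : ∀ i, X i ⟶ S) (hf : Presieve.ofArrows X f ∈ Scheme.fpqcPrecoverage S)
    (D : SchDDFam f) (hD : ∀ i, IsClosedImmersion (D.obj i).hom) : D.IsEffective := by
  refine family_effective @IsClosedImmersion ?_ ?_ f hf D hD
  · intro m Y V q hq
    exact isClosedImmersion_sigmaMap Y V q hq
  · intro X S p hX hS hflat hsurj D hD
    haveI := hX
    haveI := hS
    haveI := hflat
    haveI := hsurj
    haveI : IsClosedImmersion D.obj.hom := hD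
    exact effective_of_affine p D

end Closed

end Groth.Agent.Lib.T2H7.DescFam
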