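import Mathlib
import Groth.Prelude.Def_Desc
import Groth.Agent.Lib.T2H7DescGlueQ

set_option autoImplicit false
set_option linter.style.haveILetI false
set_option linter.unusedSectionVars false
set_option backward.isDefEq.respectTransparency false
set_option backward.isDefEq.respectTransparency.types false
universe u
open CategoryTheory CategoryTheory.Limits AlgebraicGeometry Desc

namespace Groth.Agent.Lib.T2H7.DescOpen

open Groth.Agent.Lib.T2H7.DescGlueQ

variable {X S : Scheme.{u}} (p : X ⟶ S)

section Lift

variable {p} {D D₁ D₂ : SchDD p} (J : D ⟶ D₂) [Mono J.hom.left] (c : D₁ ⟶ D₂)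
  (l : D₁.obj.left ⟶ D.obj.left) (hl : l ≫ J.hom.left = c.hom.left)

/-- lifting a morphism of descent data through a monomorphism of descent data -/
noncomputable def liftHom : D₁ ⟶ D where
  hom := Over.homMk l (by
    rw [← Over.w J.hom, ← Category.assoc, hl]
    exact Over.w c.hom)
  comm T x₀ x₁ h v w hw := by
    change w.1 = v.1 ≫ l at hw
    change _ = _ ≫ l
    rw [← cancel_mono J.hom.left, Category.assoc, hl]
    have hz : (w.1 ≫ J.hom.left) ≫ D₂.obj.hom = x₀ := by
      rw [Category.assoc, Over.w J.hom]; exact w.2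
    have e1 := J.comm x₀ x₁ h w ⟨w.1 ≫ J.hom.left, hz⟩ rfl
    have e2 := c.comm x₀ x₁ h v ⟨w.1 ≫ J.hom.left, hz⟩ (by
      change w.1 ≫ _ = v.1 ≫ _
      rw [hw, Category.assoc, hl])
    rw [← e1, ← e2]

theorem liftHom_left : (liftHom J c l hl).hom.left = l := rfl

end Lift

section Sub

variable [Good p] {D : SchDD p} (Y : Over S) (J : D ⟶ (toDD p).obj Y) [IsOpenImmersion J.hom.left]

/-- saturation of the image of an open sub-datum of a canonical datum -/
theorem sat (z z' : ↥(pullback p Y.hom))
    (hq : (pullback.snd p Y.hom).base z = (pullback.snd p Y.hom).base z')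
    (hz : z ∈ Set.range J.hom.left.base) : z' ∈ Set.range J.hom.left.base := by
  obtain ⟨t, ht1, ht2⟩ := Scheme.Pullback.exists_preimage_pullback z z' hq
  let q := pullback.snd p Y.hom
  let O' : (pullback p Y.hom).Opens := J.hom.left.opensRange
  let T' : (pullback q q).Opens := (pullback.fst q q) ⁻¹ᵁ O'
  let r₁ : (T' : Scheme.{u}) ⟶ pullback p Y.hom := T'.ι ≫ pullback.fst q q
  let r₂ : (T' : Scheme.{u}) ⟶ pullback p Y.hom := T'.ι ≫ pullback.snd q q
  have hr : r₁ ≫ q = r₂ ≫ q := by
    simp only [r₁, r₂, Category.assoc]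
    rw [pullback.condition]
  let y₀ : (T' : Scheme.{u}) ⟶ X := r₁ ≫ pullback.fst p Y.hom
  let y₁ : (T' : Scheme.{u}) ⟶ X := r₂ ≫ pullback.fst p Y.hom
  have hy : y₀ ≫ p = y₁ ≫ p := by
    simp only [y₀, y₁, Category.assoc]
    rw [pullback.condition, ← Category.assoc, hr, Category.assoc]
  let v₁ : Lifts ((toDD p).obj Y).obj y₀ := ⟨r₁, rfl⟩
  have s1 : (((toDD p).obj Y).φ y₀ y₁ hy v₁).1 = r₂ := by
    apply pullback.hom_ext
    · exact can_φ_fst _ _ _ _ _
    · rw [can_φ_val]; exact hr
  have hsub : Set.range r₁.base ⊆ Set.range J.hom.left.base := by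
    rintro _ ⟨x, rfl⟩
    exact x.2
  let wl : (T' : Scheme.{u}) ⟶ D.obj.left := IsOpenImmersion.lift J.hom.left r₁ hsub
  have hwl : wl ≫ J.hom.left = r₁ := IsOpenImmersion.lift_fac _ _ _
  have hw : wl ≫ D.obj.hom = y₀ := by
    rw [← Over.w J.hom, ← Category.assoc, hwl]
    rfl
  let w : Lifts D.obj y₀ := ⟨wl, hw⟩
  have s2 := J.comm y₀ y₁ hy w v₁ hwl.symm
  rw [s1] at s2
  have htT : t ∈ T' := by
    change (pullback.fst q q).base t ∈ Set.range J.hom.left.base
    rw [ht1]; exact hz
  have key := congrArg (fun k : (T' : Scheme.{u}) ⟶ pullback p Y.hom => k.base ⟨t, htT⟩) s2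
  simp only [Scheme.Hom.comp_base, TopCat.comp_app, r₂] at key
  have e1 : (pullback.snd q q).base (T'.ι.base ⟨t, htT⟩) = z' := ht2
  rw [e1] at key
  rw [key]
  exact ⟨_, rfl⟩


/-- the open of `Y` over which the sub-datum lives -/
noncomputable def subOpen : Y.left.Opens :=
  ⟨(pullback.snd p Y.hom).base '' Set.range J.hom.left.base, by
    rw [← (Good.quot (p := p) Y).isOpen_preimage]
    have : (pullback.snd p Y.hom).base ⁻¹' ((pullback.snd p Y.hom).base '' Set.range J.hom.left.base) =
        Set.range J.hom.left.base := by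
      apply Set.Subset.antisymm
      · rintro z' ⟨z, hz, hzz'⟩
        exact sat p Y J z z' hzz' hz
      · exact Set.subset_preimage_image _ _
    rw [this]
    exact J.hom.left.opensRange.2⟩

theorem preimage_subOpen :
    (pullback.snd p Y.hom).base ⁻¹' (subOpen p Y J : Set Y.left) = Set.range J.hom.left.base := by
  apply Set.Subset.antisymm
  · rintro z' ⟨z, hz, hzz'⟩
    exact sat p Y J z z' hzz' hz
  · exact Set.subset_preimage_image _ _

/-- the open subscheme over `S` -/
noncomputable def subOver : Over S := Over.mk ((subOpen p Y J).ι ≫ Y.hom)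

/-- its inclusion -/
noncomputable def subIncl : subOver p Y J ⟶ Y := Over.homMk (subOpen p Y J).ι rfl

instance : IsOpenImmersion (subIncl p Y J).left := by
  change IsOpenImmersion (subOpen p Y J).ι; infer_instance

instance : IsOpenImmersion ((toDD p).map (subIncl p Y J)).hom.left :=
  MorphismProperty.of_isPullback (P := @IsOpenImmersion) (isPullback_map p (subIncl p Y J)).flip
    inferInstance

theorem range_map_subIncl :
    Set.range ((toDD p).map (subIncl p Y J)).hom.left.base = Set.range J.hom.left.base := by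
  rw [range_toDD_map, ← preimage_subOpen]
  congr 1
  change Set.range (subOpen p Y J).ι.base = _
  exact Scheme.Opens.range_ι _

/-- the comparison of total spaces -/
noncomputable def subLeft : pullback p (subOver p Y J).hom ⟶ D.obj.left :=
  IsOpenImmersion.lift J.hom.left ((toDD p).map (subIncl p Y J)).hom.left
    (range_map_subIncl p Y J).le

theorem subLeft_fac : subLeft p Y J ≫ J.hom.left = ((toDD p).map (subIncl p Y J)).hom.left :=
  IsOpenImmersion.lift_fac _ _ _

instance : IsIso (subLeft p Y J) := by
  have : subLeft p Y J = (IsOpenImmersion.isoOfRangeEq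
      ((toDD p).map (subIncl p Y J)).hom.left J.hom.left (range_map_subIncl p Y J)).hom := by
    rw [← cancel_mono J.hom.left, subLeft_fac, IsOpenImmersion.isoOfRangeEq_hom_fac]
  rw [this]; infer_instance

/-- the comparison of descent data -/
noncomputable def subHom : (toDD p).obj (subOver p Y J) ⟶ D :=
  liftHom J ((toDD p).map (subIncl p Y J)) (subLeft p Y J) (subLeft_fac p Y J)

include J in
/-- an open sub-datum of a canonical datum is effective -/
theorem effective_of_open_sub : ∃ U : Over S, Nonempty ((toDD p).obj U ≅ D) := by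
  haveI : IsIso (subHom p Y J).hom.left := inferInstanceAs (IsIso (subLeft p Y J))
  haveI := isIso_of_isIso_left p (subHom p Y J)
  exact ⟨subOver p Y J, ⟨asIso (subHom p Y J)⟩⟩

end Sub

section Sub2

variable [Good p] {D D₂ : SchDD p} (Jm : D ⟶ D₂) [IsOpenImmersion Jm.hom.left]

include Jm in
/-- an open sub-datum of an effective datum is effective -/
theorem effective_of_open (Y : Over S) (e : (toDD p).obj Y ≅ D₂) :
    ∃ U : Over S, Nonempty ((toDD p).obj U ≅ D) := by
  haveI := isIso_left_of_iso p e.symm
  haveI : IsOpenImmersion (Jm ≫ e.inv).hom.left := by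
    change IsOpenImmersion (Jm.hom.left ≫ e.symm.hom.hom.left)
    infer_instance
  exact effective_of_open_sub p Y (Jm ≫ e.inv)

end Sub2

end Groth.Agent.Lib.T2H7.DescOpen
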