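import Mathlib
import Groth.Prelude.Def_Desc
import Groth.Prelude.Def_DescFam
import Groth.Agent.Lib.T2H7DescGlueQ
import Groth.Agent.Lib.T2H7DescGood
import Groth.Agent.Lib.T2H7DescOpen
import Groth.Agent.Lib.T2H7DescAffB

set_option autoImplicit false
set_option linter.style.haveILetI false
set_option linter.unusedSectionVars false
set_option backward.isDefEq.respectTransparency false
set_option backward.isDefEq.respectTransparency.types false
universe u
open CategoryTheory CategoryTheory.Limits AlgebraicGeometry Desc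

namespace Groth.Agent.Lib.T2H7.DescQAff

section FBC

lemma appLE_top_top {X Y : Scheme.{u}} (f : X ⟶ Y) (e : (⊤ : X.Opens) ≤ f ⁻¹ᵁ ⊤) :
    f.appLE ⊤ ⊤ e = f.appTop := by
  simp [Scheme.Hom.appLE]

variable {S X Z : Scheme.{u}} [IsAffine S] [IsAffine X] (p : X ⟶ S) [Flat p]
  [CompactSpace Z] [QuasiSeparatedSpace Z] (g : Z ⟶ S)

/-- flat base change of global sections, as a pullback of spectra -/
theorem isPullback_Spec_appTop :
    IsPullback (Spec.map (pullback.fst g p).appTop) (Spec.map (pullback.snd g p).appTop)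
      (Spec.map g.appTop) (Spec.map p.appTop) := by
  apply isPullback_SpecMap_of_isPushout
  have H := IsPullback.of_hasPullback g p
  have hiso := isIso_pushoutSection_of_isQuasiSeparated_of_flat_right H
    (US := ⊤) (UT := ⊤) (UX := ⊤) (UY := ⊤) le_top le_top (by simp)
    (isAffineOpen_top S) (isAffineOpen_top X) CompactSpace.isCompact_univ
    (isQuasiSeparated_univ_iff.mpr inferInstance)
  have := (isIso_pushoutSection_iff H (US := ⊤) (UT := ⊤) (UX := ⊤) (UY := ⊤) le_top le_top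
    (by simp)).mp hiso
  rwa [appLE_top_top, appLE_top_top, appLE_top_top, appLE_top_top] at this

end FBC


section Aff

/-- the affinization of a morphism -/
noncomputable abbrev affMap {Z Z' : Scheme.{u}} (h : Z ⟶ Z') : Spec Γ(Z, ⊤) ⟶ Spec Γ(Z', ⊤) :=
  Spec.map h.appTop

lemma affMap_comp {Z Z' Z'' : Scheme.{u}} (h : Z ⟶ Z') (h' : Z' ⟶ Z'') :
    affMap (h ≫ h') = affMap h ≫ affMap h' := by
  rw [affMap, affMap, affMap, Scheme.Hom.comp_appTop, Spec.map_comp]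

lemma affMap_id (Z : Scheme.{u}) : affMap (𝟙 Z) = 𝟙 _ := by
  rw [affMap, Scheme.Hom.id_appTop, Spec.map_id]

lemma η_nat {Z Z' : Scheme.{u}} (h : Z ⟶ Z') : h ≫ Z'.toSpecΓ = Z.toSpecΓ ≫ affMap h :=
  Scheme.toSpecΓ_naturality h

/-- the affinization of a morphism to an affine scheme, as a morphism to that scheme -/
noncomputable def affTo {Z X : Scheme.{u}} [IsAffine X] (h : Z ⟶ X) : Spec Γ(Z, ⊤) ⟶ X :=
  affMap h ≫ inv X.toSpecΓ

lemma η_affTo {Z X : Scheme.{u}} [IsAffine X] (h : Z ⟶ X) : Z.toSpecΓ ≫ affTo h = h := by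
  rw [affTo, ← Category.assoc, ← η_nat, Category.assoc, IsIso.hom_inv_id, Category.comp_id]

lemma affMap_affTo {Z Z' X : Scheme.{u}} [IsAffine X] (k : Z ⟶ Z') (h : Z' ⟶ X) :
    affMap k ≫ affTo h = affTo (k ≫ h) := by
  rw [affTo, affTo, affMap_comp, Category.assoc]

lemma affTo_comp {Z X S : Scheme.{u}} [IsAffine X] [IsAffine S] (h : Z ⟶ X) (p : X ⟶ S) :
    affTo h ≫ p = affTo (h ≫ p) := by
  rw [affTo, affTo, affMap_comp, Category.assoc, Category.assoc]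
  congr 1
  rw [IsIso.inv_comp_eq, ← Category.assoc, ← η_nat, Category.assoc, IsIso.hom_inv_id,
    Category.comp_id]

variable {S X Z : Scheme.{u}} [IsAffine S] [IsAffine X] (p : X ⟶ S) [Flat p]
  [CompactSpace Z] [QuasiSeparatedSpace Z] (g : Z ⟶ S)

/-- flat base change: the affinization of `Z ×_S X` is `aff Z ×_S X` -/
theorem isPullback_aff :
    IsPullback (affMap (pullback.fst g p)) (affTo (pullback.snd g p)) (affTo g) p := by
  refine (isPullback_Spec_appTop p g).of_iso (Iso.refl _) (Iso.refl _) (asIso X.toSpecΓ).symm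
    (asIso S.toSpecΓ).symm ?_ ?_ ?_ ?_
  · simp
  · simp [affTo]
  · simp [affTo]
  · simp only [Iso.symm_hom, asIso_inv]
    rw [IsIso.eq_inv_comp, ← Category.assoc, ← η_nat, Category.assoc, IsIso.hom_inv_id,
      Category.comp_id]

end Aff


section Act

open Groth.Agent.Lib.T2H7.DescGlueQ

variable {X S : Scheme.{u}} {p : X ⟶ S} (D : SchDD p)

/-- `V ×_S X` -/
noncomputable abbrev MM : Scheme.{u} := pullback (D.obj.hom ≫ p) p

/-- the action morphism `V ×_S X ⟶ V` of the descent datum -/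
noncomputable def act : MM D ⟶ D.obj.left :=
  (D.φ (pullback.fst (D.obj.hom ≫ p) p ≫ D.obj.hom) (pullback.snd (D.obj.hom ≫ p) p)
    (by rw [Category.assoc, pullback.condition]) ⟨pullback.fst (D.obj.hom ≫ p) p, rfl⟩).1

lemma act_hom : act D ≫ D.obj.hom = pullback.snd (D.obj.hom ≫ p) p :=
  (D.φ (pullback.fst (D.obj.hom ≫ p) p ≫ D.obj.hom) (pullback.snd (D.obj.hom ≫ p) p)
    (by rw [Category.assoc, pullback.condition]) ⟨pullback.fst (D.obj.hom ≫ p) p, rfl⟩).2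

/-- the point `(v, x₁)` of `V ×_S X` -/
noncomputable def pt {T : Scheme.{u}} {x₀ : T ⟶ X} (x₁ : T ⟶ X) (h : x₀ ≫ p = x₁ ≫ p)
    (v : Lifts D.obj x₀) : T ⟶ MM D :=
  pullback.lift v.1 x₁ (by
    have hv : v.1 ≫ D.obj.hom = x₀ := v.2
    rw [← Category.assoc, hv, h])

lemma pt_fst {T : Scheme.{u}} {x₀ : T ⟶ X} (x₁ : T ⟶ X) (h : x₀ ≫ p = x₁ ≫ p)
    (v : Lifts D.obj x₀) : pt D x₁ h v ≫ pullback.fst (D.obj.hom ≫ p) p = v.1 :=
  pullback.lift_fst _ _ _

lemma pt_snd {T : Scheme.{u}} {x₀ : T ⟶ X} (x₁ : T ⟶ X) (h : x₀ ≫ p = x₁ ≫ p)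
    (v : Lifts D.obj x₀) : pt D x₁ h v ≫ pullback.snd (D.obj.hom ≫ p) p = x₁ :=
  pullback.lift_snd _ _ _

/-- the gluing bijections are given by the action morphism -/
lemma φ_eq_act {T : Scheme.{u}} (x₀ x₁ : T ⟶ X) (h : x₀ ≫ p = x₁ ≫ p) (v : Lifts D.obj x₀) :
    (D.φ x₀ x₁ h v).1 = pt D x₁ h v ≫ act D := by
  have hv : v.1 ≫ D.obj.hom = x₀ := v.2
  exact φ_nat D (pt D x₁ h v) (by rw [Category.assoc, pullback.condition])
    (by rw [← Category.assoc, pt_fst, hv]) (pt_snd D x₁ h v) h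
    ⟨pullback.fst (D.obj.hom ≫ p) p, rfl⟩ v (pt_fst D x₁ h v).symm


/-- the diagonal point `v ↦ (v, f v)` -/
noncomputable def dg : D.obj.left ⟶ MM D := pullback.lift (𝟙 _) D.obj.hom (by simp)

lemma dg_fst : dg D ≫ pullback.fst (D.obj.hom ≫ p) p = 𝟙 _ := pullback.lift_fst _ _ _

lemma dg_snd : dg D ≫ pullback.snd (D.obj.hom ≫ p) p = D.obj.hom := pullback.lift_snd _ _ _

lemma dg_act : dg D ≫ act D = 𝟙 _ := by
  have h := φ_eq_act D D.obj.hom D.obj.hom rfl ⟨𝟙 _, Category.id_comp _⟩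
  rw [D.φ_self] at h
  exact h.symm

/-- `V ×_S X ×_S X` -/
noncomputable abbrev M2 : Scheme.{u} := pullback (pullback.snd (D.obj.hom ≫ p) p ≫ p) p

lemma m2_cond : (pullback.fst (pullback.snd (D.obj.hom ≫ p) p ≫ p) p ≫
    pullback.fst (D.obj.hom ≫ p) p) ≫ D.obj.hom ≫ p =
    pullback.snd (pullback.snd (D.obj.hom ≫ p) p ≫ p) p ≫ p := by
  rw [Category.assoc, pullback.condition, ← Category.assoc]
  exact (Category.assoc _ _ _).trans pullback.condition

/-- `(v, x₁, x₂) ↦ (v, x₂)` -/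
noncomputable def g13 : M2 D ⟶ MM D :=
  pullback.lift (pullback.fst _ _ ≫ pullback.fst _ _) (pullback.snd _ _) (m2_cond D)

/-- `(v, x₁, x₂) ↦ (a (v, x₁), x₂)` -/
noncomputable def gρ : M2 D ⟶ MM D :=
  pullback.lift (pullback.fst _ _ ≫ act D) (pullback.snd _ _) (by
    rw [Category.assoc, ← Category.assoc (act D), act_hom, ← Category.assoc]
    exact (Category.assoc _ _ _).trans pullback.condition)

lemma g13_fst : g13 D ≫ pullback.fst (D.obj.hom ≫ p) p =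
    pullback.fst _ _ ≫ pullback.fst _ _ := pullback.lift_fst _ _ _

lemma g13_snd : g13 D ≫ pullback.snd (D.obj.hom ≫ p) p = pullback.snd _ _ :=
  pullback.lift_snd _ _ _

lemma gρ_fst : gρ D ≫ pullback.fst (D.obj.hom ≫ p) p = pullback.fst _ _ ≫ act D :=
  pullback.lift_fst _ _ _

lemma gρ_snd : gρ D ≫ pullback.snd (D.obj.hom ≫ p) p = pullback.snd _ _ :=
  pullback.lift_snd _ _ _

/-- associativity of the action -/
lemma gρ_act : gρ D ≫ act D = g13 D ≫ act D := by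
  let n₁ : M2 D ⟶ MM D := pullback.fst _ _
  let n₂ : M2 D ⟶ X := pullback.snd _ _
  let x₀ : M2 D ⟶ X := (n₁ ≫ pullback.fst (D.obj.hom ≫ p) p) ≫ D.obj.hom
  let x₁ : M2 D ⟶ X := n₁ ≫ pullback.snd (D.obj.hom ≫ p) p
  have h₀₁ : x₀ ≫ p = x₁ ≫ p := by
    simp only [x₀, x₁, Category.assoc]
    rw [pullback.condition]
  have h₁₂ : x₁ ≫ p = n₂ ≫ p := by
    simp only [x₁, n₁, n₂, Category.assoc]
    exact pullback.condition
  let v : Lifts D.obj x₀ := ⟨n₁ ≫ pullback.fst (D.obj.hom ≫ p) p, rfl⟩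
  have e1 : (D.φ x₀ x₁ h₀₁ v).1 = n₁ ≫ act D := by
    rw [φ_eq_act]
    congr 1
    apply pullback.hom_ext
    · rw [pt_fst]
    · rw [pt_snd]
  have e2 : (D.φ x₁ n₂ h₁₂ (D.φ x₀ x₁ h₀₁ v)).1 = gρ D ≫ act D := by
    rw [φ_eq_act]
    congr 1
    apply pullback.hom_ext
    · rw [pt_fst, gρ_fst, e1]
    · rw [pt_snd, gρ_snd]
  have e3 : (D.φ x₀ n₂ (h₀₁.trans h₁₂) v).1 = g13 D ≫ act D := by
    rw [φ_eq_act]
    rfl
  rw [← e2, ← e3, D.φ_comp]

end Act


section Ext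

variable {X S : Scheme.{u}} [IsAffine X] [IsAffine S] {p : X ⟶ S} [Flat p] (D : SchDD p)
  [CompactSpace D.obj.left] [QuasiSeparatedSpace D.obj.left]

instance : QuasiSeparatedSpace ↥(MM D) := by
  haveI : QuasiSeparated (pullback.fst (D.obj.hom ≫ p) p) :=
    MorphismProperty.pullback_fst (P := @QuasiSeparated) _ _ inferInstance
  exact quasiSeparatedSpace_of_quasiSeparated (pullback.fst (D.obj.hom ≫ p) p)

/-- the affine hull of the total space -/
noncomputable abbrev Vb : Scheme.{u} := Spec Γ(D.obj.left, ⊤)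

/-- its structure morphism -/
noncomputable def fb : Vb D ⟶ X := affTo D.obj.hom

lemma fb_p : fb D ≫ p = affTo (D.obj.hom ≫ p) := affTo_comp _ _

/-- the affine hull of `V ×_S X` is `Vb ×_S X` -/
theorem hMb : IsPullback (affMap (pullback.fst (D.obj.hom ≫ p) p))
    (affTo (pullback.snd (D.obj.hom ≫ p) p)) (fb D ≫ p) p := by
  rw [fb_p]; exact isPullback_aff p (D.obj.hom ≫ p)

/-- the extended action -/
noncomputable def actb : Spec Γ(MM D, ⊤) ⟶ Vb D := affMap (act D)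

lemma actb_fb : actb D ≫ fb D = affTo (pullback.snd (D.obj.hom ≫ p) p) := by
  rw [actb, fb, affMap_affTo, act_hom]

/-- the point `(w, x₁)` of `Vb ×_S X` -/
noncomputable def ptb {T : Scheme.{u}} {x₀ : T ⟶ X} (x₁ : T ⟶ X) (h : x₀ ≫ p = x₁ ≫ p)
    (w : Lifts (Over.mk (fb D)) x₀) : T ⟶ Spec Γ(MM D, ⊤) :=
  (hMb D).lift w.1 x₁ (by
    have hw : w.1 ≫ fb D = x₀ := w.2
    rw [← Category.assoc, hw, h])

lemma ptb_fst {T : Scheme.{u}} {x₀ : T ⟶ X} (x₁ : T ⟶ X) (h : x₀ ≫ p = x₁ ≫ p)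
    (w : Lifts (Over.mk (fb D)) x₀) :
    ptb D x₁ h w ≫ affMap (pullback.fst (D.obj.hom ≫ p) p) = w.1 :=
  (hMb D).lift_fst _ _ _

lemma ptb_snd {T : Scheme.{u}} {x₀ : T ⟶ X} (x₁ : T ⟶ X) (h : x₀ ≫ p = x₁ ≫ p)
    (w : Lifts (Over.mk (fb D)) x₀) :
    ptb D x₁ h w ≫ affTo (pullback.snd (D.obj.hom ≫ p) p) = x₁ :=
  (hMb D).lift_snd _ _ _

/-- the extended gluing map -/
noncomputable def tr {T : Scheme.{u}} (x₀ x₁ : T ⟶ X) (h : x₀ ≫ p = x₁ ≫ p)
    (w : Lifts (Over.mk (fb D)) x₀) : Lifts (Over.mk (fb D)) x₁ :=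
  ⟨ptb D x₁ h w ≫ actb D, by
    change (ptb D x₁ h w ≫ actb D) ≫ fb D = x₁
    rw [Category.assoc, actb_fb, ptb_snd]⟩

lemma tr_val {T : Scheme.{u}} (x₀ x₁ : T ⟶ X) (h : x₀ ≫ p = x₁ ≫ p)
    (w : Lifts (Over.mk (fb D)) x₀) : (tr D x₀ x₁ h w).1 = ptb D x₁ h w ≫ actb D := rfl

lemma tr_nat {T T' : Scheme.{u}} (g : T' ⟶ T) (x₀ x₁ : T ⟶ X) (h : x₀ ≫ p = x₁ ≫ p)
    (h' : (g ≫ x₀) ≫ p = (g ≫ x₁) ≫ p) (w : Lifts (Over.mk (fb D)) x₀)
    (w' : Lifts (Over.mk (fb D)) (g ≫ x₀)) (hw : w'.1 = g ≫ w.1) :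
    (tr D (g ≫ x₀) (g ≫ x₁) h' w').1 = g ≫ (tr D x₀ x₁ h w).1 := by
  rw [tr_val, tr_val, ← Category.assoc]
  congr 1
  apply (hMb D).hom_ext
  · rw [ptb_fst, Category.assoc, ptb_fst, hw]
  · rw [ptb_snd, Category.assoc, ptb_snd]

lemma tr_self {T : Scheme.{u}} (x : T ⟶ X) (w : Lifts (Over.mk (fb D)) x) :
    tr D x x rfl w = w := by
  apply Subtype.ext
  have hw : w.1 ≫ fb D = x := w.2
  have e : ptb D x rfl w = w.1 ≫ affMap (dg D) := by
    apply (hMb D).hom_ext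
    · rw [ptb_fst, Category.assoc, ← affMap_comp, dg_fst, affMap_id]
      exact (Category.comp_id _).symm
    · rw [ptb_snd, Category.assoc, affMap_affTo, dg_snd]
      exact hw.symm
  rw [tr_val, e, Category.assoc, actb, ← affMap_comp, dg_act, affMap_id]
  exact Category.comp_id _


/-- the affine hull of `V ×_S X ×_S X` is `aff (V ×_S X) ×_S X` -/
theorem hM2b : IsPullback (affMap (pullback.fst (pullback.snd (D.obj.hom ≫ p) p ≫ p) p))
    (affTo (pullback.snd (pullback.snd (D.obj.hom ≫ p) p ≫ p) p))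
    (affTo (pullback.snd (D.obj.hom ≫ p) p) ≫ p) p := by
  rw [affTo_comp]; exact isPullback_aff p (pullback.snd (D.obj.hom ≫ p) p ≫ p)

lemma tr_comp {T : Scheme.{u}} (x₀ x₁ x₂ : T ⟶ X) (h₀₁ : x₀ ≫ p = x₁ ≫ p) (h₁₂ : x₁ ≫ p = x₂ ≫ p)
    (w : Lifts (Over.mk (fb D)) x₀) :
    tr D x₁ x₂ h₁₂ (tr D x₀ x₁ h₀₁ w) = tr D x₀ x₂ (h₀₁.trans h₁₂) w := by
  apply Subtype.ext
  let τ : T ⟶ Spec Γ(M2 D, ⊤) := (hM2b D).lift (ptb D x₁ h₀₁ w) x₂ (by
    rw [← Category.assoc, ptb_snd, h₁₂])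
  have τ1 : τ ≫ affMap (pullback.fst (pullback.snd (D.obj.hom ≫ p) p ≫ p) p) = ptb D x₁ h₀₁ w :=
    (hM2b D).lift_fst _ _ _
  have τ2 : τ ≫ affTo (pullback.snd (pullback.snd (D.obj.hom ≫ p) p ≫ p) p) = x₂ :=
    (hM2b D).lift_snd _ _ _
  have A : τ ≫ affMap (gρ D) = ptb D x₂ h₁₂ (tr D x₀ x₁ h₀₁ w) := by
    apply (hMb D).hom_ext
    · rw [ptb_fst, Category.assoc, ← affMap_comp, gρ_fst, affMap_comp, ← Category.assoc, τ1]
      rfl
    · rw [ptb_snd, Category.assoc, affMap_affTo, gρ_snd, τ2]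
  have B : τ ≫ affMap (g13 D) = ptb D x₂ (h₀₁.trans h₁₂) w := by
    apply (hMb D).hom_ext
    · rw [ptb_fst, Category.assoc, ← affMap_comp, g13_fst, affMap_comp, ← Category.assoc, τ1,
        ptb_fst]
    · rw [ptb_snd, Category.assoc, affMap_affTo, g13_snd, τ2]
  rw [tr_val, tr_val, ← A, ← B, Category.assoc, Category.assoc, actb, ← affMap_comp,
    ← affMap_comp, gρ_act]

/-- the extended descent datum on the affine hull -/
noncomputable def Dbar : SchDD p where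
  obj := Over.mk (fb D)
  φ T x₀ x₁ h :=
    { toFun := tr D x₀ x₁ h
      invFun := tr D x₁ x₀ h.symm
      left_inv := fun w => by rw [tr_comp, tr_self]
      right_inv := fun w => by rw [tr_comp, tr_self] }
  φ_natural T T' g x₀ x₁ h h' w w' hw := tr_nat D g x₀ x₁ h h' w w' hw
  φ_self T x w := tr_self D x w
  φ_comp T x₀ x₁ x₂ h₀₁ h₁₂ w := tr_comp D x₀ x₁ x₂ h₀₁ h₁₂ w

/-- the morphism from the descent datum to its extension to the affine hull -/
noncomputable def toDbar : D ⟶ Dbar D where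
  hom := Over.homMk D.obj.left.toSpecΓ (η_affTo D.obj.hom)
  comm T x₀ x₁ h v w hw := by
    change w.1 = v.1 ≫ D.obj.left.toSpecΓ at hw
    change (tr D x₀ x₁ h w).1 = (D.φ x₀ x₁ h v).1 ≫ D.obj.left.toSpecΓ
    rw [tr_val, φ_eq_act, Category.assoc, η_nat, ← Category.assoc]
    congr 1
    apply (hMb D).hom_ext
    · rw [ptb_fst, Category.assoc, ← η_nat, ← Category.assoc, pt_fst, hw]
    · rw [ptb_snd, Category.assoc, η_affTo, pt_snd]

lemma toDbar_left : (toDbar D).hom.left = D.obj.left.toSpecΓ := rfl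

end Ext


section Core

variable {X S : Scheme.{u}} [IsAffine X] [IsAffine S] (p : X ⟶ S) [Flat p] [Surjective p]
  (D : SchDD p) [D.obj.left.IsQuasiAffine]

/-- effectiveness of a descent datum with quasi-affine total space, along a flat surjective
morphism of affine schemes -/
theorem core_quasiAffine : ∃ U : Over S, Nonempty ((toDD p).obj U ≅ D) := by
  haveI : QuasiSeparatedSpace ↥D.obj.left := inferInstance
  haveI : IsOpenImmersion (toDbar D).hom.left :=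
    inferInstanceAs (IsOpenImmersion D.obj.left.toSpecΓ)
  haveI : IsAffineHom (Dbar D).obj.hom := inferInstanceAs (IsAffineHom (fb D))
  obtain ⟨Y, ⟨e⟩⟩ := Groth.Agent.Lib.T2H7.DescAffB.effective_of_affine p (Dbar D)
  haveI : Groth.Agent.Lib.T2H7.DescGlueQ.Good p :=
    Groth.Agent.Lib.T2H7.DescGood.good_of_fpqc p (Scheme.Hom.singleton_mem_fpqcPrecoverage p)
  exact Groth.Agent.Lib.T2H7.DescOpen.effective_of_open p (toDbar D) Y e

end Core

end Groth.Agent.Lib.T2H7.DescQAff
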