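import Mathlib
import Groth.Prelude.Def_Desc
import Groth.Prelude.Def_DescFam
import Groth.Prelude.Def_Mor2
import Groth.Agent.Lib.T2H7DescQAff
import Groth.Agent.Lib.T2H7DescFam

set_option autoImplicit false
set_option linter.style.haveILetI false
set_option linter.unusedSectionVars false
set_option backward.isDefEq.respectTransparency false
set_option backward.isDefEq.respectTransparency.types false
universe w u
open CategoryTheory CategoryTheory.Limits AlgebraicGeometry Desc

namespace Groth.Agent.Lib.T2H7.DescQAffB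

open Groth.Agent.Lib.T2H7.DescFam Groth.Agent.Lib.T2H7.DescAffB

section Sigma

/-- a coproduct of morphisms with a property local on the target has the property -/
theorem sigmaMap_of_local (P : MorphismProperty Scheme.{u}) [IsZariskiLocalAtTarget P]
    {K : Type w} [Small.{u} K] (Y V : K → Scheme.{u})
    (q : ∀ k, Y k ⟶ V k) (hq : ∀ k, P (q k)) : P (Limits.Sigma.map q) := by
  rw [IsZariskiLocalAtTarget.iff_of_openCover (P := P) (sigmaOpenCover V)]
  intro k
  change P (pullback.snd (Limits.Sigma.map q) (Sigma.ι V k))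
  have sq : IsPullback (Sigma.ι Y k) (q k) (Limits.Sigma.map q) (Sigma.ι V k) := by
    refine (IsOpenImmersion.isPullback (q k) (Sigma.ι Y k) (Sigma.ι V k) (Limits.Sigma.map q)
      (Limits.Sigma.ι_map _ _) ?_).flip
    ext z
    obtain ⟨j, y, rfl⟩ := exists_sigmaι_eq' Y z
    change (Limits.Sigma.map q) (Sigma.ι Y j y) ∈ Set.range (Sigma.ι V k).base ↔
      Sigma.ι Y j y ∈ Set.range (Sigma.ι Y k).base
    rw [sigmaι_mem_range_iff']
    have e : (Limits.Sigma.map q) (Sigma.ι Y j y) = Sigma.ι V j ((q j) y) := by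
      rw [← Scheme.Hom.comp_apply, Limits.Sigma.ι_map, Scheme.Hom.comp_apply]
    rw [e, sigmaι_mem_range_iff']
  have e : pullback.snd (Limits.Sigma.map q) (Sigma.ι V k) = sq.isoPullback.inv ≫ q k := by
    rw [Iso.eq_inv_comp]; exact sq.isoPullback_hom_snd
  rw [e, P.cancel_left_of_respectsIso]
  exact hq k

instance compactSpace_sigma {n : ℕ} (Q : Fin n → Scheme.{u}) [∀ k, CompactSpace ↥(Q k)] :
    CompactSpace ↥(∐ Q) := by
  constructor
  have : (Set.univ : Set ↥(∐ Q)) = ⋃ k, Set.range (Sigma.ι Q k).base := by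
    ext z
    simp only [Set.mem_univ, Set.mem_iUnion, true_iff]
    obtain ⟨k, y, hy⟩ := exists_sigmaι_eq' Q z
    exact ⟨k, y, hy⟩
  rw [this]
  exact isCompact_iUnion fun k => isCompact_range (Sigma.ι Q k).continuous

/-- a finite coproduct of quasi-affine schemes is quasi-affine -/
theorem isQuasiAffine_sigma {n : ℕ} (Q : Fin n → Scheme.{u}) [∀ k, (Q k).IsQuasiAffine] :
    (∐ Q).IsQuasiAffine := by
  haveI : IsOpenImmersion (Limits.Sigma.map fun k => (Q k).toSpecΓ) :=
    sigmaMap_of_local @IsOpenImmersion Q (fun k => Spec Γ(Q k, ⊤)) (fun k => (Q k).toSpecΓ)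
      (fun k => inferInstance)
  exact Scheme.IsQuasiAffine.of_isImmersion (Limits.Sigma.map fun k => (Q k).toSpecΓ)

end Sigma


section QA3

variable {V X : Scheme.{u}} (f : V ⟶ X) (hf : Mor2.IsQuasiAffine f)
  {n : ℕ} (O : Fin n → Scheme.{u}) [∀ k, IsAffine (O k)] (j : ∀ k, O k ⟶ X)
  [∀ k, IsOpenImmersion (j k)] {V' : Scheme.{u}} (a : V' ⟶ V) (b : V' ⟶ ∐ O)
  (sq : IsPullback a b f (Sigma.desc j))

include hf sq in
/-- the base change of a quasi-affine morphism to a finite disjoint union of affine opens has a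
quasi-affine total space -/
theorem isQuasiAffine_of_isPullback : V'.IsQuasiAffine := by
  haveI : QuasiCompact f := hf.1
  -- the pieces
  have hQ : ∀ k, (pullback b (Sigma.ι O k)).IsQuasiAffine := by
    intro k
    have sqk : IsPullback (pullback.fst b (Sigma.ι O k) ≫ a) (pullback.snd b (Sigma.ι O k)) f
        (Sigma.ι O k ≫ Sigma.desc j) :=
      IsPullback.paste_horiz (IsPullback.of_hasPullback b (Sigma.ι O k)) sq
    rw [Sigma.ι_desc] at sqk
    haveI : IsOpenImmersion (pullback.fst b (Sigma.ι O k) ≫ a) :=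
      MorphismProperty.of_isPullback (P := @IsOpenImmersion) sqk.flip inferInstance
    haveI : QuasiCompact (pullback.snd b (Sigma.ι O k)) :=
      MorphismProperty.of_isPullback (P := @QuasiCompact) sqk inferInstance
    haveI : CompactSpace ↥(pullback b (Sigma.ι O k)) :=
      QuasiCompact.compactSpace_of_compactSpace (pullback.snd b (Sigma.ι O k))
    have hAff : IsAffineOpen (j k).opensRange := isAffineOpen_opensRange (j k)
    haveI : (f ⁻¹ᵁ (j k).opensRange : Scheme.{u}).IsQuasiAffine := hf.2 _ hAff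
    have hr : Set.range (pullback.fst b (Sigma.ι O k) ≫ a).base ⊆
        Set.range (f ⁻¹ᵁ (j k).opensRange).ι.base := by
      rw [Scheme.Opens.range_ι]
      rintro _ ⟨z, rfl⟩
      change f.base ((pullback.fst b (Sigma.ι O k) ≫ a).base z) ∈ Set.range (j k).base
      rw [← Scheme.Hom.comp_apply, sqk.w, Scheme.Hom.comp_apply]
      exact ⟨_, rfl⟩
    let l : pullback b (Sigma.ι O k) ⟶ (f ⁻¹ᵁ (j k).opensRange : Scheme.{u}) :=
      IsOpenImmersion.lift (f ⁻¹ᵁ (j k).opensRange).ι (pullback.fst b (Sigma.ι O k) ≫ a) hr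
    have hl : l ≫ (f ⁻¹ᵁ (j k).opensRange).ι = pullback.fst b (Sigma.ι O k) ≫ a :=
      IsOpenImmersion.lift_fac _ _ _
    haveI : IsOpenImmersion l := by
      haveI : IsOpenImmersion (l ≫ (f ⁻¹ᵁ (j k).opensRange).ι) := by rw [hl]; infer_instance
      exact IsOpenImmersion.of_comp l (f ⁻¹ᵁ (j k).opensRange).ι
    exact Scheme.IsQuasiAffine.of_isImmersion l
  haveI := hQ
  haveI := isQuasiAffine_sigma (fun k => pullback b (Sigma.ι O k))
  have hid : IsIso (Sigma.desc (fun k => Sigma.ι O k)) := by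
    have : Sigma.desc (fun k => Sigma.ι O k) = 𝟙 _ := by
      apply Sigma.hom_ext; intro k; simp
    rw [this]; infer_instance
  haveI := FinitaryPreExtensive.isIso_sigmaDesc_fst (fun k => Sigma.ι O k) b hid
  exact Scheme.IsQuasiAffine.of_isAffineHom
    (inv (Sigma.desc (fun k => pullback.fst b (Sigma.ι O k))))

end QA3


section Main

/-- effective descent for quasi-affine morphisms along fpqc morphisms (statement of S1134) -/
theorem effective_of_quasiAffine {X S : Scheme.{u}} (p : X ⟶ S) [Surjective p] [Flat p]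
    [QuasiCompact p] (D : SchDD p) (hD : Mor2.IsQuasiAffine D.obj.hom) :
    ∃ U : Over S, Nonempty ((toDD p).obj U ≅ D) := by
  have hp : Presieve.singleton p ∈ Scheme.fpqcPrecoverage S :=
    Scheme.Hom.singleton_mem_fpqcPrecoverage p
  apply effective_of_local p hp D
  intro W hW
  set ιW : Spec Γ(S, W) ⟶ S := hW.fromSpec with hιW
  haveI : IsOpenImmersion ιW := inferInstanceAs (IsOpenImmersion hW.fromSpec)
  haveI : QuasiCompact (pullback.snd p ιW) :=
    MorphismProperty.pullback_snd (P := @QuasiCompact) _ _ inferInstance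
  haveI : Flat (pullback.snd p ιW) :=
    MorphismProperty.pullback_snd (P := @Flat) _ _ inferInstance
  haveI : Surjective (pullback.snd p ιW) :=
    MorphismProperty.pullback_snd (P := @Surjective) _ _ inferInstance
  haveI : CompactSpace ↥(pullback p ιW) :=
    QuasiCompact.compactSpace_of_compactSpace (pullback.snd p ιW)
  -- a finite affine cover, indexed by `Fin n`
  let 𝒰 := (pullback p ιW).affineCover.finiteSubcover
  let e := Finite.equivFin 𝒰.I₀
  let O : Fin (Nat.card 𝒰.I₀) → Scheme.{u} := fun k => 𝒰.X (e.symm k)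
  haveI : ∀ k, IsAffine (O k) := fun k => inferInstanceAs (IsAffine (𝒰.X (e.symm k)))
  let jO : ∀ k, O k ⟶ pullback p ιW := fun k => 𝒰.f (e.symm k)
  haveI : ∀ k, IsOpenImmersion (jO k) := fun k =>
    inferInstanceAs (IsOpenImmersion (𝒰.f (e.symm k)))
  let r : (∐ O) ⟶ pullback p ιW := Sigma.desc jO
  have hrsurj : Surjective r := by
    constructor
    intro x
    obtain ⟨i, y, hy⟩ := 𝒰.exists_eq x
    obtain ⟨k, rfl⟩ := e.symm.surjective i
    refine ⟨Sigma.ι O k y, ?_⟩
    rw [← Scheme.Hom.comp_apply, Sigma.ι_desc]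
    exact hy
  have hrflat : Flat r := by
    rw [IsZariskiLocalAtSource.iff_of_openCover (P := @Flat) (sigmaOpenCover _)]
    intro k
    change Flat (Sigma.ι O k ≫ r)
    rw [Sigma.ι_desc]
    infer_instance
  haveI : Flat (r ≫ pullback.snd p ιW) := inferInstance
  haveI : Surjective (r ≫ pullback.snd p ιW) := inferInstance
  have hcov : Presieve.singleton (r ≫ pullback.snd p ιW) ∈
      Scheme.fpqcPrecoverage (Spec Γ(S, W)) :=
    Scheme.Hom.singleton_mem_fpqcPrecoverage _
  let D₀ := restrD p ιW D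
  let Dp : SchDDFam (fun _ : PUnit.{u + 1} => r ≫ pullback.snd p ιW) :=
    (pullR (pullback.snd p ιW) r).obj ((SchDDFam.ofSchDD (pullback.snd p ιW)).obj D₀)
  let E : SchDD (r ≫ pullback.snd p ιW) := (SchDDFam.toSchDD (r ≫ pullback.snd p ιW)).obj Dp
  haveI : E.obj.left.IsQuasiAffine := by
    change (pullback (pullback.snd D.obj.hom (pullback.fst p ιW)) r).IsQuasiAffine
    have sq1 : IsPullback
        (pullback.fst (pullback.snd D.obj.hom (pullback.fst p ιW)) r ≫
          pullback.fst D.obj.hom (pullback.fst p ιW))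
        (pullback.snd (pullback.snd D.obj.hom (pullback.fst p ιW)) r) D.obj.hom
        (r ≫ pullback.fst p ιW) :=
      IsPullback.paste_horiz (IsPullback.of_hasPullback _ r)
        (IsPullback.of_hasPullback D.obj.hom (pullback.fst p ιW))
    have hr' : r ≫ pullback.fst p ιW = Sigma.desc (fun k => jO k ≫ pullback.fst p ιW) := by
      apply Sigma.hom_ext
      intro k
      rw [Sigma.ι_desc_assoc, Sigma.ι_desc]
    rw [hr'] at sq1
    exact isQuasiAffine_of_isPullback D.obj.hom hD O (fun k => jO k ≫ pullback.fst p ιW) _ _ sq1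
  obtain ⟨U₀, ⟨e'⟩⟩ := Groth.Agent.Lib.T2H7.DescQAff.core_quasiAffine (r ≫ pullback.snd p ιW) E
  exact ⟨U₀, ET (pullback.snd p ιW) r hcov D₀ U₀
    ((SchDDFam.ofSchDD (r ≫ pullback.snd p ιW)).mapIso e')⟩

end Main

end Groth.Agent.Lib.T2H7.DescQAffB
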