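import Mathlib
import Groth.Prelude.Def_Desc
import Groth.Prelude.Def_Mor2
import Groth.Agent.Lib.T2H7DescQAffB
import Groth.Agent.Lib.Helper12Descent

set_option autoImplicit false
set_option linter.style.haveILetI false
set_option linter.unusedSectionVars false
set_option backward.isDefEq.respectTransparency false
set_option backward.isDefEq.respectTransparency.types false
universe u
open CategoryTheory CategoryTheory.Limits AlgebraicGeometry Desc

namespace Groth.Agent.Lib.T2H7.DescEt

/-- unramified morphisms locally of finite type are locally quasi-finite -/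
theorem lqf_of_unramified {X Y : Scheme.{u}} (f : X ⟶ Y) [LocallyOfFiniteType f]
    [FormallyUnramified f] : LocallyQuasiFinite f := by
  constructor
  intro U hU V hV e
  have h1 : (f.appLE U V e).hom.FiniteType :=
    HasRingHomProperty.appLE (P := @LocallyOfFiniteType) f inferInstance ⟨U, hU⟩ ⟨V, hV⟩ e
  have h2 : (f.appLE U V e).hom.FormallyUnramified :=
    HasRingHomProperty.appLE (P := @FormallyUnramified) f inferInstance ⟨U, hU⟩ ⟨V, hV⟩ e
  algebraize [(f.appLE U V e).hom]
  rw [← RingHom.algebraMap_toAlgebra (f.appLE U V e).hom, RingHom.quasiFinite_algebraMap]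
  infer_instance

/-- Zariski's main theorem: a separated, quasi-compact, locally quasi-finite morphism locally of
finite type is quasi-affine -/
theorem isQuasiAffine_of_lqf {V X : Scheme.{u}} (f : V ⟶ X) [QuasiCompact f] [IsSeparated f]
    [LocallyQuasiFinite f] [LocallyOfFiniteType f] : Mor2.IsQuasiAffine f := by
  refine ⟨inferInstance, fun O hO => ?_⟩
  haveI : IsAffine (O : Scheme.{u}) := hO
  haveI : IsAffine (f ∣_ O).normalization :=
    isAffine_of_isAffineHom (f ∣_ O).fromNormalization
  haveI : CompactSpace ↥(f ⁻¹ᵁ O : Scheme.{u}) :=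
    QuasiCompact.compactSpace_of_compactSpace (f ∣_ O)
  exact Scheme.IsQuasiAffine.of_isImmersion (f ∣_ O).toNormalization


/-- effective descent along fpqc morphisms for separated, quasi-compact, locally quasi-finite
morphisms locally of finite type -/
theorem effective_of_lqf {X S : Scheme.{u}} (p : X ⟶ S) [Surjective p] [Flat p] [QuasiCompact p]
    (D : SchDD p) [QuasiCompact D.obj.hom] [IsSeparated D.obj.hom] [LocallyQuasiFinite D.obj.hom]
    [LocallyOfFiniteType D.obj.hom] : ∃ U : Over S, Nonempty ((toDD p).obj U ≅ D) :=
  Groth.Agent.Lib.T2H7.DescQAffB.effective_of_quasiAffine p D (isQuasiAffine_of_lqf D.obj.hom)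

/-- a property that descends along fpqc morphisms passes from an effective datum to the descended
scheme -/
theorem descended_property (P : MorphismProperty Scheme.{u}) [P.RespectsIso]
    (hP : P.DescendsAlong (@Surjective ⊓ @Flat ⊓ @QuasiCompact : MorphismProperty Scheme.{u}))
    {X S : Scheme.{u}} (p : X ⟶ S) [Surjective p] [Flat p] [QuasiCompact p] (D : SchDD p)
    (U : Over S) (e : (toDD p).obj U ≅ D) (h : P D.obj.hom) : P U.hom := by
  have h1 : P (pullback.fst p U.hom) := by
    have hw : e.hom.hom.left ≫ D.obj.hom = pullback.fst p U.hom := Over.w e.hom.hom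
    haveI : IsIso e.hom.hom.left := ⟨⟨e.inv.hom.left, by
      have := congrArg (fun k => k.hom.left) e.hom_inv_id
      exact this, by
      have := congrArg (fun k => k.hom.left) e.inv_hom_id
      exact this⟩⟩
    rw [← hw, P.cancel_left_of_respectsIso]
    exact h
  exact MorphismProperty.of_isPullback_of_descendsAlong (P := P)
    (Q := (@Surjective ⊓ @Flat ⊓ @QuasiCompact : MorphismProperty Scheme.{u}))
    (IsPullback.of_hasPullback p U.hom) ⟨⟨inferInstance, inferInstance⟩, inferInstance⟩ h1

/-- statement of S2906 -/
theorem etale_effective {S' S : Scheme.{u}} (g : S' ⟶ S) [Flat g] [Surjective g] [QuasiCompact g]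
    (D : SchDD g) [QuasiCompact D.obj.hom] [IsSeparated D.obj.hom] [Etale D.obj.hom] :
    ∃ U : Over S, QuasiCompact U.hom ∧ IsSeparated U.hom ∧ Etale U.hom ∧
      Nonempty ((toDD g).obj U ≅ D) := by
  haveI : LocallyQuasiFinite D.obj.hom := lqf_of_unramified D.obj.hom
  obtain ⟨U, ⟨e⟩⟩ := effective_of_lqf g D
  refine ⟨U, ?_, ?_, ?_, ⟨e⟩⟩
  · exact descended_property @QuasiCompact Groth.Agent.Lib.Helper12.descendsAlong_quasiCompact
      g D U e inferInstance
  · exact descended_property @IsSeparated Groth.Agent.Lib.Helper12.descendsAlong_isSeparated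
      g D U e inferInstance
  · exact descended_property @Etale inferInstance g D U e inferInstance

end Groth.Agent.Lib.T2H7.DescEt
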