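import Mathlib
import Groth.Prelude.Def_Desc
import Groth.Agent.Lib.T2H7DescAffB

set_option autoImplicit false
set_option linter.style.haveILetI false
set_option linter.unusedSectionVars false
set_option backward.isDefEq.respectTransparency false
set_option backward.isDefEq.respectTransparency.types false
universe u
open CategoryTheory CategoryTheory.Limits AlgebraicGeometry Desc

namespace Groth.Agent.Lib.T2H7.DescRad

open Groth.Agent.Lib.T2H7.DescGlue Groth.Agent.Lib.T2H7.DescAffB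

section TopTriv

variable {X S : Scheme.{u}} (p : X ⟶ S) [UniversallyInjective p] (D : SchDD p)

/-- for a universally injective covering morphism the gluing bijections are topologically trivial -/
theorem top_triv {T : Scheme.{u}} (x₀ x₁ : T ⟶ X) (h : x₀ ≫ p = x₁ ≫ p) (v : Lifts D.obj x₀)
    (t : T) : (D.φ x₀ x₁ h v).1.base t = v.1.base t := by
  let i := T.fromSpecResidueField t
  have hall : ∀ (K : Type u) [Field K], Function.Injective (fun g : Spec (.of K) ⟶ X ↦ g ≫ p) :=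
    ((tfae_universallyInjective p).out 0 1).mp ‹_›
  have hinj := hall (T.residueField t)
  have e : i ≫ x₀ = i ≫ x₁ := hinj (by
    change (i ≫ x₀) ≫ p = (i ≫ x₁) ≫ p
    rw [Category.assoc, Category.assoc, h])
  have h' : (i ≫ x₀) ≫ p = (i ≫ x₁) ≫ p := by rw [Category.assoc, Category.assoc, h]
  have hv' : (i ≫ v.1) ≫ D.obj.hom = i ≫ x₀ := by rw [Category.assoc, v.2]
  have n1 : (D.φ (i ≫ x₀) (i ≫ x₁) h' ⟨i ≫ v.1, hv'⟩).1 = i ≫ (D.φ x₀ x₁ h v).1 :=
    D.φ_natural i x₀ x₁ h h' v ⟨i ≫ v.1, hv'⟩ rfl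
  have n2 : (D.φ (i ≫ x₀) (i ≫ x₁) h' ⟨i ≫ v.1, hv'⟩).1 =
      (D.φ (i ≫ x₀) (i ≫ x₀) rfl ⟨i ≫ v.1, hv'⟩).1 :=
    φ_congr p D rfl e.symm h' rfl _ _ rfl
  rw [D.φ_self] at n2
  have n3 : i ≫ (D.φ x₀ x₁ h v).1 = i ≫ v.1 := n1.symm.trans n2
  have pt : i.base (IsLocalRing.closedPoint (T.residueField t)) = t :=
    Scheme.fromSpecResidueField_apply t _
  have := congrArg (fun k : Spec (T.residueField t) ⟶ D.obj.left =>
    k.base (IsLocalRing.closedPoint (T.residueField t))) n3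
  simp only [Scheme.Hom.comp_base, TopCat.comp_app] at this
  rw [pt] at this
  exact this

end TopTriv


section RestrOpen

variable {X S : Scheme.{u}} {p : X ⟶ S} (D : SchDD p) (V₁ : D.obj.left.Opens)
  (hstab : ∀ ⦃T : Scheme.{u}⦄ (x₀ x₁ : T ⟶ X) (h : x₀ ≫ p = x₁ ≫ p) (v : Lifts D.obj x₀),
    (∀ t, v.1.base t ∈ V₁) → ∀ t, (D.φ x₀ x₁ h v).1.base t ∈ V₁)

/-- a point of the open subscheme as a point of the total space -/
def incl {T : Scheme.{u}} {x : T ⟶ X} (v : Lifts (Over.mk (V₁.ι ≫ D.obj.hom)) x) : Lifts D.obj x :=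
  ⟨v.1 ≫ V₁.ι, by rw [Category.assoc]; exact v.2⟩

theorem incl_mem {T : Scheme.{u}} {x : T ⟶ X} (v : Lifts (Over.mk (V₁.ι ≫ D.obj.hom)) x) (t : T) :
    (incl D V₁ v).1.base t ∈ V₁ := by
  change (v.1 ≫ V₁.ι).base t ∈ V₁
  rw [Scheme.Hom.comp_base, TopCat.comp_app]
  exact (v.1.base t).2

include hstab in
theorem range_sub {T : Scheme.{u}} (x₀ x₁ : T ⟶ X) (h : x₀ ≫ p = x₁ ≫ p)
    (v : Lifts (Over.mk (V₁.ι ≫ D.obj.hom)) x₀) :
    Set.range (D.φ x₀ x₁ h (incl D V₁ v)).1.base ⊆ Set.range V₁.ι.base := by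
  rintro _ ⟨t, rfl⟩
  rw [Scheme.Opens.range_ι]
  exact hstab x₀ x₁ h (incl D V₁ v) (incl_mem D V₁ v) t

/-- the restricted gluing map -/
noncomputable def resMap {T : Scheme.{u}} (x₀ x₁ : T ⟶ X) (h : x₀ ≫ p = x₁ ≫ p)
    (v : Lifts (Over.mk (V₁.ι ≫ D.obj.hom)) x₀) : Lifts (Over.mk (V₁.ι ≫ D.obj.hom)) x₁ :=
  ⟨IsOpenImmersion.lift V₁.ι (D.φ x₀ x₁ h (incl D V₁ v)).1 (range_sub D V₁ hstab x₀ x₁ h v), by
    change IsOpenImmersion.lift V₁.ι _ _ ≫ V₁.ι ≫ D.obj.hom = x₁
    rw [← Category.assoc, IsOpenImmersion.lift_fac]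
    exact (D.φ x₀ x₁ h (incl D V₁ v)).2⟩

theorem resMap_ι {T : Scheme.{u}} (x₀ x₁ : T ⟶ X) (h : x₀ ≫ p = x₁ ≫ p)
    (v : Lifts (Over.mk (V₁.ι ≫ D.obj.hom)) x₀) :
    (resMap D V₁ hstab x₀ x₁ h v).1 ≫ V₁.ι = (D.φ x₀ x₁ h (incl D V₁ v)).1 :=
  IsOpenImmersion.lift_fac _ _ _

theorem incl_resMap {T : Scheme.{u}} (x₀ x₁ : T ⟶ X) (h : x₀ ≫ p = x₁ ≫ p)
    (v : Lifts (Over.mk (V₁.ι ≫ D.obj.hom)) x₀) :
    incl D V₁ (resMap D V₁ hstab x₀ x₁ h v) = D.φ x₀ x₁ h (incl D V₁ v) :=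
  Subtype.ext (resMap_ι D V₁ hstab x₀ x₁ h v)

theorem incl_injective {T : Scheme.{u}} {x : T ⟶ X} :
    Function.Injective (incl D V₁ (T := T) (x := x)) := by
  intro v w hvw
  apply Subtype.ext
  have := congrArg Subtype.val hvw
  exact (cancel_mono V₁.ι).mp this

/-- the restriction of a descent datum to a stable open subscheme -/
noncomputable def restrOpen : SchDD p where
  obj := Over.mk (V₁.ι ≫ D.obj.hom)
  φ T x₀ x₁ h :=
    { toFun := resMap D V₁ hstab x₀ x₁ h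
      invFun := resMap D V₁ hstab x₁ x₀ h.symm
      left_inv := fun v => by
        apply incl_injective D V₁
        rw [incl_resMap, incl_resMap, D.φ_comp, D.φ_self]
      right_inv := fun v => by
        apply incl_injective D V₁
        rw [incl_resMap, incl_resMap, D.φ_comp, D.φ_self] }
  φ_natural T T' g x₀ x₁ h h' v v' hv' := by
    change (resMap D V₁ hstab (g ≫ x₀) (g ≫ x₁) h' v').1 = g ≫ (resMap D V₁ hstab x₀ x₁ h v).1
    rw [← cancel_mono V₁.ι, Category.assoc, resMap_ι, resMap_ι]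
    apply D.φ_natural g x₀ x₁ h h'
    change v'.1 ≫ V₁.ι = g ≫ v.1 ≫ V₁.ι
    rw [hv', Category.assoc]
  φ_self T x v := by
    change resMap D V₁ hstab x x rfl v = v
    apply incl_injective D V₁
    rw [incl_resMap, D.φ_self]
  φ_comp T x₀ x₁ x₂ h₀₁ h₁₂ v := by
    change resMap D V₁ hstab x₁ x₂ h₁₂ (resMap D V₁ hstab x₀ x₁ h₀₁ v) =
      resMap D V₁ hstab x₀ x₂ (h₀₁.trans h₁₂) v
    apply incl_injective D V₁
    rw [incl_resMap, incl_resMap, incl_resMap, D.φ_comp]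

/-- the inclusion of the restricted descent datum -/
noncomputable def jOpen : restrOpen D V₁ hstab ⟶ D where
  hom := Over.homMk V₁.ι rfl
  comm T x₀ x₁ h v w hw := by
    change w.1 = v.1 ≫ V₁.ι at hw
    change (D.φ x₀ x₁ h w).1 = (resMap D V₁ hstab x₀ x₁ h v).1 ≫ V₁.ι
    rw [resMap_ι]
    have : w = incl D V₁ v := Subtype.ext hw
    rw [this]

end RestrOpen


section Main

/-- over an affine base, with an affine covering scheme and a universally injective covering morphism,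
every descent datum is effective -/
theorem effective_affine_radicial {A : CommRingCat.{u}} {X : Scheme.{u}} (p : X ⟶ Spec A)
    [Surjective p] [Flat p] [QuasiCompact p] [UniversallyInjective p] (D : SchDD p) :
    ∃ U : Over (Spec A), Nonempty ((toDD p).obj U ≅ D) := by
  -- the covering scheme is affine
  have hq : Topology.IsQuotientMap p.base := Flat.isQuotientMap_of_surjective p
  have hinj : Function.Injective p.base := p.injective
  have hhomeo : IsHomeomorph p.base := isHomeomorph_iff_isQuotientMap_injective.mpr ⟨hq, hinj⟩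
  haveI : IsAffineHom p :=
    isAffineHom_of_isInducing p hhomeo.isInducing hhomeo.isClosedEmbedding.isClosed_range
  haveI : IsAffine X := isAffine_of_isAffineHom p
  apply effective_of_cover p D
  intro v
  obtain ⟨V₁, hV₁, hv, -⟩ := exists_isAffineOpen_mem_and_subset (x := v) (U := ⊤) trivial
  have hstab : ∀ ⦃T : Scheme.{u}⦄ (x₀ x₁ : T ⟶ X) (h : x₀ ≫ p = x₁ ≫ p) (w : Lifts D.obj x₀),
      (∀ t, w.1.base t ∈ V₁) → ∀ t, (D.φ x₀ x₁ h w).1.base t ∈ V₁ := by
    intro T x₀ x₁ h w hw t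
    rw [top_triv p D x₀ x₁ h w t]
    exact hw t
  let D₁ := restrOpen D V₁ hstab
  haveI : IsAffine D₁.obj.left := hV₁
  haveI : IsAffineHom D₁.obj.hom := inferInstance
  obtain ⟨U₁, ⟨e₁⟩⟩ := effective_affineBase p D₁
  haveI := isIso_left_of_iso p e₁
  haveI : IsOpenImmersion (e₁.hom ≫ jOpen D V₁ hstab).hom.left := by
    change IsOpenImmersion (e₁.hom.hom.left ≫ V₁.ι)
    infer_instance
  refine ⟨⟨(e₁.hom ≫ jOpen D V₁ hstab).hom.left.opensRange,
    ⟨U₁, e₁.hom ≫ jOpen D V₁ hstab, inferInstance, rfl⟩⟩, ?_⟩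
  refine ⟨(inv e₁.hom.hom.left).base ⟨v, hv⟩, ?_⟩
  change (e₁.hom.hom.left ≫ V₁.ι).base ((inv e₁.hom.hom.left).base ⟨v, hv⟩) = v
  rw [← Scheme.Hom.comp_apply, IsIso.inv_hom_id_assoc]
  rfl

/-- effective descent along flat, surjective, quasi-compact, universally injective morphisms
(statement of S2912) -/
theorem effective_radicial {S' S : Scheme.{u}} (g : S' ⟶ S) [Flat g] [Surjective g] [QuasiCompact g]
    [UniversallyInjective g] (D : SchDD g) : ∃ U : Over S, Nonempty ((toDD g).obj U ≅ D) := by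
  apply effective_of_cover g D
  intro v
  obtain ⟨W, hW, hs, -⟩ := exists_isAffineOpen_mem_and_subset
    (x := (D.obj.hom ≫ g).base v) (U := ⊤) trivial
  let ι : Spec Γ(S, W) ⟶ S := hW.fromSpec
  haveI : IsOpenImmersion ι := inferInstanceAs (IsOpenImmersion hW.fromSpec)
  let p₀ := pullback.snd g ι
  haveI : Surjective p₀ := MorphismProperty.pullback_snd (P := @Surjective) _ _ inferInstance
  haveI : Flat p₀ := MorphismProperty.pullback_snd (P := @Flat) _ _ inferInstance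
  haveI : QuasiCompact p₀ := MorphismProperty.pullback_snd (P := @QuasiCompact) _ _ inferInstance
  haveI : UniversallyInjective p₀ :=
    MorphismProperty.pullback_snd (P := @UniversallyInjective) _ _ inferInstance
  obtain ⟨U₀, ⟨e₀⟩⟩ := effective_affine_radicial p₀ (restrD g ι D)
  haveI : IsOpenImmersion (extHom g ι D U₀ e₀).hom.left :=
    inferInstanceAs (IsOpenImmersion (extLeft g ι D U₀ e₀))
  refine ⟨⟨(extHom g ι D U₀ e₀).hom.left.opensRange,
    ⟨Uext ι U₀, extHom g ι D U₀ e₀, inferInstance, rfl⟩⟩, ?_⟩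
  apply range_extLeft g ι D U₀ e₀ v
  change (D.obj.hom ≫ g).base v ∈ Set.range hW.fromSpec.base
  rw [hW.range_fromSpec]
  exact hs

end Main

end Groth.Agent.Lib.T2H7.DescRad
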