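import Mathlib
import Groth.Prelude.Def_Desc
import Groth.Prelude.Def_DescFam
import Groth.Agent.Lib.T2H7DescFam
import Groth.Agent.Lib.T2H7DescRad
import Groth.Agent.Lib.T2H7DescEt

set_option autoImplicit false
set_option linter.style.haveILetI false
set_option linter.unusedSectionVars false
set_option backward.isDefEq.respectTransparency false
set_option backward.isDefEq.respectTransparency.types false
universe u
open CategoryTheory CategoryTheory.Limits AlgebraicGeometry Desc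

namespace Groth.Agent.Lib.T2H7.DescFppf

open Groth.Agent.Lib.T2H7.DescQAff Groth.Agent.Lib.T2H7.DescGlueQ Groth.Agent.Lib.T2H7.DescRad

section Inv

variable {X S : Scheme.{u}} {p : X ⟶ S} (D : SchDD p)

/-- the inversion `(v, x') ↦ (a (v, x'), f v)` of `V ×_S X` -/
noncomputable def inv : MM D ⟶ MM D :=
  pullback.lift (act D) (pullback.fst (D.obj.hom ≫ p) p ≫ D.obj.hom) (by
    rw [← Category.assoc, act_hom, Category.assoc, pullback.condition])

lemma inv_fst : inv D ≫ pullback.fst (D.obj.hom ≫ p) p = act D := pullback.lift_fst _ _ _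

lemma inv_snd : inv D ≫ pullback.snd (D.obj.hom ≫ p) p =
    pullback.fst (D.obj.hom ≫ p) p ≫ D.obj.hom := pullback.lift_snd _ _ _

lemma inv_act : inv D ≫ act D = pullback.fst (D.obj.hom ≫ p) p := by
  let m₁ := pullback.fst (D.obj.hom ≫ p) p
  let m₂ := pullback.snd (D.obj.hom ≫ p) p
  let x₀ : MM D ⟶ X := m₁ ≫ D.obj.hom
  have h : x₀ ≫ p = m₂ ≫ p := by
    simp only [x₀, Category.assoc]; exact pullback.condition
  let v : Lifts D.obj x₀ := ⟨m₁, rfl⟩
  have e1 : (D.φ x₀ m₂ h v).1 = act D := rfl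
  have e2 : (D.φ m₂ x₀ h.symm (D.φ x₀ m₂ h v)).1 = inv D ≫ act D := by
    rw [φ_eq_act]
    rfl
  rw [← e2, D.φ_comp, D.φ_self]

end Inv

section Sat

variable {X S : Scheme.{u}} {p : X ⟶ S} [UniversallyOpen p] (D : SchDD p) (W₀ : D.obj.left.Opens)

/-- the saturation of an open subset of the total space under the descent datum -/
noncomputable def satOpen : D.obj.left.Opens :=
  ⟨(pullback.fst (D.obj.hom ≫ p) p).base '' ((act D).base ⁻¹' (W₀ : Set D.obj.left)),
    (pullback.fst (D.obj.hom ≫ p) p).isOpenMap _ (W₀.2.preimage (act D).continuous)⟩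

lemma mem_satOpen_iff (v : D.obj.left) :
    v ∈ satOpen D W₀ ↔ ∃ z : ↥(MM D), (act D).base z ∈ W₀ ∧
      (pullback.fst (D.obj.hom ≫ p) p).base z = v := Iff.rfl

lemma mem_satOpen_of_mem {v : D.obj.left} (hv : v ∈ W₀) : v ∈ satOpen D W₀ := by
  refine ⟨(dg D).base v, ?_, ?_⟩
  · change (act D).base ((dg D).base v) ∈ W₀
    rw [← Scheme.Hom.comp_apply, dg_act]
    exact hv
  · rw [← Scheme.Hom.comp_apply, dg_fst]
    rfl

lemma satOpen_eq : (satOpen D W₀ : Set D.obj.left) =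
    (act D).base '' ((pullback.fst (D.obj.hom ≫ p) p).base ⁻¹' (W₀ : Set D.obj.left)) := by
  ext v'
  constructor
  · rintro ⟨z', hz', rfl⟩
    refine ⟨(inv D).base z', ?_, ?_⟩
    · change (pullback.fst (D.obj.hom ≫ p) p).base ((inv D).base z') ∈ W₀
      rw [← Scheme.Hom.comp_apply, inv_fst]
      exact hz'
    · rw [← Scheme.Hom.comp_apply, inv_act]
  · rintro ⟨z, hz, rfl⟩
    refine ⟨(inv D).base z, ?_, ?_⟩
    · change (act D).base ((inv D).base z) ∈ W₀
      rw [← Scheme.Hom.comp_apply, inv_act]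
      exact hz
    · rw [← Scheme.Hom.comp_apply, inv_fst]

lemma isCompact_satOpen [QuasiCompact p] (h : IsCompact (W₀ : Set D.obj.left)) :
    IsCompact (satOpen D W₀ : Set D.obj.left) := by
  rw [satOpen_eq]
  exact (QuasiCompact.isCompact_preimage (f := pullback.fst (D.obj.hom ≫ p) p) _ W₀.2 h).image
    (act D).continuous

/-- the saturation is stable under the gluing bijections -/
theorem satOpen_stable ⦃T : Scheme.{u}⦄ (x₀ x₁ : T ⟶ X) (h : x₀ ≫ p = x₁ ≫ p) (v : Lifts D.obj x₀)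
    (hv : ∀ t, v.1.base t ∈ satOpen D W₀) : ∀ t, (D.φ x₀ x₁ h v).1.base t ∈ satOpen D W₀ := by
  intro t
  obtain ⟨z, hz, hzt⟩ := hv t
  let m₁ := pullback.fst (D.obj.hom ≫ p) p
  let m₂ := pullback.snd (D.obj.hom ≫ p) p
  obtain ⟨y, hy1, hy2⟩ := Scheme.Pullback.exists_preimage_pullback (f := m₁) (g := v.1) z t hzt
  let π₁ := pullback.fst m₁ v.1
  let π₂ := pullback.snd m₁ v.1
  have hπ : π₁ ≫ m₁ = π₂ ≫ v.1 := pullback.condition
  have hvx : v.1 ≫ D.obj.hom = x₀ := v.2
  let y₀ := π₂ ≫ x₀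
  let y₁ := π₂ ≫ x₁
  let y₂ := π₁ ≫ m₂
  have h₀₁ : y₀ ≫ p = y₁ ≫ p := by simp only [y₀, y₁, Category.assoc, h]
  have h₀₂ : y₀ ≫ p = y₂ ≫ p := by
    have c1 : π₂ ≫ x₀ = π₁ ≫ m₁ ≫ D.obj.hom := by
      rw [← Category.assoc, hπ, Category.assoc, hvx]
    change (π₂ ≫ x₀) ≫ p = (π₁ ≫ m₂) ≫ p
    rw [c1, Category.assoc, Category.assoc, Category.assoc]
    congr 1
    exact pullback.condition
  have h₁₂ : y₁ ≫ p = y₂ ≫ p := h₀₁.symm.trans h₀₂
  let vt : Lifts D.obj y₀ := ⟨π₂ ≫ v.1, by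
    change (π₂ ≫ v.1) ≫ D.obj.hom = π₂ ≫ x₀
    rw [Category.assoc, hvx]⟩
  have e1 : (D.φ y₀ y₁ h₀₁ vt).1 = π₂ ≫ (D.φ x₀ x₁ h v).1 :=
    D.φ_natural π₂ x₀ x₁ h h₀₁ v vt rfl
  let z'' : pullback m₁ v.1 ⟶ MM D := pt D y₂ h₁₂ (D.φ y₀ y₁ h₀₁ vt)
  have e2 : z'' ≫ act D = π₁ ≫ act D := by
    have a1 := φ_eq_act D y₁ y₂ h₁₂ (D.φ y₀ y₁ h₀₁ vt)
    have a2 := φ_eq_act D y₀ y₂ h₀₂ vt
    rw [D.φ_comp] at a1
    have a3 : pt D y₂ h₀₂ vt = π₁ := by
      apply pullback.hom_ext
      · rw [pt_fst]; exact hπ.symm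
      · rw [pt_snd]
    rw [a3] at a2
    exact a1.symm.trans a2
  have e3 : z'' ≫ m₁ = π₂ ≫ (D.φ x₀ x₁ h v).1 := by
    rw [← e1]; exact pt_fst D y₂ h₁₂ _
  refine ⟨z''.base y, ?_, ?_⟩
  · change (act D).base (z''.base y) ∈ W₀
    rw [← Scheme.Hom.comp_apply, e2, Scheme.Hom.comp_apply]
    change (act D).base (π₁.base y) ∈ W₀
    rw [hy1]
    exact hz
  · change m₁.base (z''.base y) = _
    rw [← Scheme.Hom.comp_apply, e3, Scheme.Hom.comp_apply]
    rw [hy2]

end Sat

section Core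

variable {X S : Scheme.{u}} [IsAffine X] [IsAffine S] (p : X ⟶ S) [Flat p] [Surjective p]
  [UniversallyOpen p] (D : SchDD p) [IsSeparated D.obj.hom] [LocallyQuasiFinite D.obj.hom]
  [LocallyOfFiniteType D.obj.hom]

/-- the affine core: separated, locally quasi-finite descent data relative to a flat, surjective,
universally open morphism of affine schemes are effective -/
theorem core : ∃ U : Over S, Nonempty ((toDD p).obj U ≅ D) := by
  haveI : QuasiCompact p := inferInstance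
  haveI : Good p := Groth.Agent.Lib.T2H7.DescGood.good_of_fpqc p
    (Scheme.Hom.singleton_mem_fpqcPrecoverage p)
  apply effective_of_cover p D
  intro v
  obtain ⟨W₀, hW₀, hv, -⟩ := exists_isAffineOpen_mem_and_subset (x := v) (U := ⊤) trivial
  let W' := satOpen D W₀
  have hstab := satOpen_stable D W₀
  let D' := restrOpen D W' hstab
  haveI : CompactSpace ↥(W' : Scheme.{u}) :=
    isCompact_iff_compactSpace.mp (isCompact_satOpen D W₀ hW₀.isCompact)
  haveI : QuasiCompact D'.obj.hom := (inferInstance : QuasiCompact (W'.ι ≫ D.obj.hom))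
  haveI : IsSeparated D'.obj.hom := (inferInstance : IsSeparated (W'.ι ≫ D.obj.hom))
  haveI : LocallyQuasiFinite D'.obj.hom :=
    (inferInstance : LocallyQuasiFinite (W'.ι ≫ D.obj.hom))
  haveI : LocallyOfFiniteType D'.obj.hom :=
    (inferInstance : LocallyOfFiniteType (W'.ι ≫ D.obj.hom))
  obtain ⟨U, ⟨e⟩⟩ := Groth.Agent.Lib.T2H7.DescEt.effective_of_lqf p D'
  let a : (toDD p).obj U ⟶ D := e.hom ≫ jOpen D W' hstab
  have ha : a.hom.left = e.hom.hom.left ≫ W'.ι := rfl
  haveI : IsIso e.hom.hom.left := isIso_left_of_iso p e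
  haveI : IsOpenImmersion a.hom.left := by rw [ha]; infer_instance
  refine ⟨⟨W', U, a, inferInstance, ?_⟩, mem_satOpen_of_mem D W₀ hv⟩
  apply TopologicalSpace.Opens.ext
  change Set.range a.hom.left.base = _
  rw [ha, Scheme.Hom.comp_base, TopCat.coe_comp, Set.range_comp,
    Set.range_eq_univ.mpr e.hom.hom.left.surjective, Set.image_univ]
  exact Scheme.Opens.range_ι W'

end Core

section Single

open Groth.Agent.Lib.T2H7.DescAffB Groth.Agent.Lib.T2H7.DescFam

variable (P : MorphismProperty Scheme.{u}) [P.IsStableUnderBaseChange]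
  (Q : MorphismProperty Scheme.{u}) [Q.IsStableUnderBaseChange] [IsZariskiLocalAtSource Q]
  (h3 : ∀ (X S : Scheme.{u}) (p : X ⟶ S), IsAffine X → IsAffine S → Flat p → Surjective p → Q p →
      ∀ D : Desc.SchDD p, P D.obj.hom → ∃ U : Over S, Nonempty ((Desc.toDD p).obj U ≅ D))
  {X S : Scheme.{u}} (p : X ⟶ S) (hp : Presieve.singleton p ∈ Scheme.fpqcPrecoverage S) (hQ : Q p)
  (D : SchDD p) (hD : P D.obj.hom)

include h3 hp hQ hD in
/-- the local step for a single covering morphism with an extra property `Q` -/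
theorem local_single (W : S.Opens) (hW : IsAffineOpen W) :
    ∃ U₀ : Over (Spec Γ(S, W)),
      Nonempty ((toDD (pullback.snd p hW.fromSpec)).obj U₀ ≅ restrD p hW.fromSpec D) := by
  haveI : QuasiCompactCover (PreZeroHypercover.singleton.{u} p) := by
    have h1 : (PreZeroHypercover.singleton.{u} p).presieve₀ ∈ Scheme.qcPrecoverage S := by
      rw [PreZeroHypercover.presieve₀_singleton]; exact hp.1
    exact Scheme.presieve₀_mem_qcPrecoverage_iff.mp h1
  haveI hflat : Flat p := ((Scheme.singleton_mem_precoverage_iff (P := @Flat) p).mp hp.2).2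
  obtain ⟨n, a, Wk, hWk, hU'⟩ : ∃ (n : ℕ) (a : Fin n → PUnit.{u + 1}) (Wk : Fin n → X.Opens),
      (∀ k, IsAffineOpen (Wk k)) ∧
        ⋃ k, p.base '' (Wk k : Set X) = (W : Set S) :=
    QuasiCompactCover.exists_isAffineOpen_of_isCompact (PreZeroHypercover.singleton.{u} p)
      hW.isCompact
  haveI hWaff : ∀ k, IsAffine (Wk k : Scheme.{u}) := hWk
  set ιW : Spec Γ(S, W) ⟶ S := hW.fromSpec with hιW
  haveI : IsOpenImmersion ιW := inferInstanceAs (IsOpenImmersion hW.fromSpec)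
  have hrange : ∀ k, Set.range ((Wk k).ι ≫ p).base ⊆ Set.range ιW.base := by
    intro k
    rw [hιW, hW.range_fromSpec, ← hU']
    rintro _ ⟨w, rfl⟩
    exact Set.mem_iUnion.mpr ⟨k, w.1, w.2, rfl⟩
  let t : ∀ k, (Wk k : Scheme.{u}) ⟶ Spec Γ(S, W) := fun k =>
    IsOpenImmersion.lift ιW ((Wk k).ι ≫ p) (hrange k)
  have ht : ∀ k, t k ≫ ιW = (Wk k).ι ≫ p := fun k => IsOpenImmersion.lift_fac _ _ _
  let p' : (∐ fun k => (Wk k : Scheme.{u})) ⟶ Spec Γ(S, W) := Sigma.desc t
  have hp' : ∀ k, Sigma.ι (fun k => (Wk k : Scheme.{u})) k ≫ p' = t k := fun k => Sigma.ι_desc _ _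
  have htflat : ∀ k, Flat (t k) := by
    intro k
    have h1 : Flat (t k ≫ ιW) := by
      rw [ht]; infer_instance
    exact MorphismProperty.of_postcomp (W := @Flat) (W' := @IsOpenImmersion) (t k) ιW
      inferInstance h1
  have htQ : ∀ k, Q (t k) := by
    intro k
    have h1 : Q (t k ≫ ιW) := by
      rw [ht]; exact IsZariskiLocalAtSource.comp hQ _
    exact MorphismProperty.of_postcomp (W := Q) (W' := MorphismProperty.monomorphisms _) (t k) ιW
      (MorphismProperty.monomorphisms.infer_property ιW) h1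
  have hpflat : Flat p' := by
    rw [IsZariskiLocalAtSource.iff_of_openCover (P := @Flat) (sigmaOpenCover _)]
    intro k
    change Flat (Sigma.ι (fun k => (Wk k : Scheme.{u})) k ≫ p')
    rw [hp']
    exact htflat k
  have hpQ : Q p' := by
    rw [IsZariskiLocalAtSource.iff_of_openCover (P := Q) (sigmaOpenCover _)]
    intro k
    change Q (Sigma.ι (fun k => (Wk k : Scheme.{u})) k ≫ p')
    rw [hp']
    exact htQ k
  have hpsurj : Surjective p' := by
    constructor
    intro y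
    have hy : ιW y ∈ (W : Set S) := by
      rw [← hW.range_fromSpec]; exact ⟨y, rfl⟩
    rw [← hU'] at hy
    obtain ⟨k, w, hw, hwy⟩ := Set.mem_iUnion.mp hy
    refine ⟨Sigma.ι (fun k => (Wk k : Scheme.{u})) k ⟨w, hw⟩, ?_⟩
    apply ιW.injective
    have e : Sigma.ι (fun k => (Wk k : Scheme.{u})) k ≫ p' ≫ ιW = (Wk k).ι ≫ p := by
      rw [← Category.assoc, hp', ht]
    calc ιW (p' (Sigma.ι (fun k => (Wk k : Scheme.{u})) k ⟨w, hw⟩))
        = (Sigma.ι (fun k => (Wk k : Scheme.{u})) k ≫ p' ≫ ιW) ⟨w, hw⟩ := by simp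
      _ = ((Wk k).ι ≫ p) ⟨w, hw⟩ := by rw [e]
      _ = p w := rfl
      _ = ιW y := hwy
  -- the refinement
  let c : (∐ fun k => (Wk k : Scheme.{u})) ⟶ X := Sigma.desc fun k => (Wk k).ι
  have hc : c ≫ p = p' ≫ ιW := by
    apply Sigma.hom_ext
    intro k
    rw [Sigma.ι_desc_assoc, ← Category.assoc, hp', ht]
  let r : (∐ fun k => (Wk k : Scheme.{u})) ⟶ pullback p ιW := pullback.lift c p' hc
  have hr2 : r ≫ pullback.snd p ιW = p' := pullback.lift_snd _ _ _
  haveI : Flat (r ≫ pullback.snd p ιW) := by rw [hr2]; exact hpflat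
  haveI : Surjective (r ≫ pullback.snd p ιW) := by rw [hr2]; exact hpsurj
  have hQr : Q (r ≫ pullback.snd p ιW) := by rw [hr2]; exact hpQ
  have hcov : Presieve.singleton (r ≫ pullback.snd p ιW) ∈ Scheme.fpqcPrecoverage (Spec Γ(S, W)) :=
    Scheme.Hom.singleton_mem_fpqcPrecoverage _
  let D₀ := restrD p ιW D
  let Dp : SchDDFam (fun _ : PUnit.{u + 1} => r ≫ pullback.snd p ιW) :=
    (pullR (pullback.snd p ιW) r).obj ((SchDDFam.ofSchDD (pullback.snd p ιW)).obj D₀)
  let E : SchDD (r ≫ pullback.snd p ιW) := (SchDDFam.toSchDD (r ≫ pullback.snd p ιW)).obj Dp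
  have hPE : P E.obj.hom := by
    change P (pullback.snd (pullback.snd D.obj.hom (pullback.fst p ιW)) r)
    exact P.pullback_snd _ _ (P.pullback_snd _ _ hD)
  obtain ⟨U₀, ⟨e⟩⟩ := h3 _ _ (r ≫ pullback.snd p ιW) inferInstance inferInstance inferInstance
    inferInstance hQr E hPE
  exact ⟨U₀, ET (pullback.snd p ιW) r hcov D₀ U₀
    ((SchDDFam.ofSchDD (r ≫ pullback.snd p ιW)).mapIso e)⟩

include h3 hp hQ hD in
/-- reduction of effectiveness relative to a single fpqc covering morphism with property `Q` to the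
case of affine schemes -/
theorem single_effective : ∃ U : Over S, Nonempty ((toDD p).obj U ≅ D) :=
  effective_of_local p hp D (fun W hW => local_single P Q h3 p hp hQ D hD W hW)

end Single

section Main

/-- statement of S9726 -/
theorem fppf_effective {X S : Scheme.{u}} (p : X ⟶ S) [Flat p] [Surjective p]
    [LocallyOfFinitePresentation p] (D : Desc.SchDD p) [IsSeparated D.obj.hom]
    [LocallyQuasiFinite D.obj.hom] [LocallyOfFiniteType D.obj.hom] :
    ∃ U : Over S, Nonempty ((Desc.toDD p).obj U ≅ D) := by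
  refine single_effective
    (@IsSeparated ⊓ @LocallyQuasiFinite ⊓ @LocallyOfFiniteType : MorphismProperty Scheme.{u})
    @UniversallyOpen ?_ p
    (Scheme.fppfPrecoverage_le_fpqcPrecoverage _ p.singleton_mem_fppfPrecoverage)
    inferInstance D ⟨⟨inferInstance, inferInstance⟩, inferInstance⟩
  intro X S p hX hS hfl hsu hQ D hD
  haveI := hD.1.1
  haveI := hD.1.2
  haveI := hD.2
  exact core p D

end Main

end Groth.Agent.Lib.T2H7.DescFppf
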