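import Mathlib

set_option autoImplicit false
set_option linter.style.haveILetI false
set_option linter.unusedSectionVars false
set_option backward.isDefEq.respectTransparency false
set_option backward.isDefEq.respectTransparency.types false
universe u
open CategoryTheory CategoryTheory.Limits TensorProduct

namespace Groth.Agent.Lib.T2H7.IQAlg

section Flat

variable {B C A N₁ N₂ : Type u} [CommRing B] [CommRing C] [CommRing A] [Algebra B C]
  [Algebra B A] [Module.Flat B C] [AddCommGroup N₁] [Module B N₁] [AddCommGroup N₂] [Module B N₂]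

/-- an element of `A ⊗ C` killed by the base changes of two linear maps is a combination of
elements killed by both maps -/
theorem exists_mem_ker_not_mem (e₁ : A →ₗ[B] N₁) (e₂ : A →ₗ[B] N₂) (cA : C →+* A)
    (I : Ideal A) (x : A ⊗[B] C) (h₁ : e₁.rTensor C x = 0) (h₂ : e₂.rTensor C x = 0)
    (mulMap : A ⊗[B] C →+ A) (hmul : ∀ a c, mulMap (a ⊗ₜ c) = a * cA c) (hx : mulMap x ∉ I) :
    ∃ g : A, e₁ g = 0 ∧ e₂ g = 0 ∧ g ∉ I := by
  let e : A →ₗ[B] N₁ × N₂ := e₁.prod e₂
  have he : e.rTensor C x = 0 := by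
    apply (TensorProduct.prodLeft B B N₁ N₂ C).injective
    rw [map_zero]
    have key : ∀ z : A ⊗[B] C, TensorProduct.prodLeft B B N₁ N₂ C (e.rTensor C z) =
        (e₁.rTensor C z, e₂.rTensor C z) := by
      intro z
      induction z with
      | zero => simp only [map_zero]; rfl
      | tmul a c => simp [e]
      | add z w hz hw => simp only [map_add, hz, hw, Prod.mk_add_mk]
    rw [key, h₁, h₂]
    rfl
  have hex := Module.Flat.rTensor_exact C (LinearMap.exact_subtype_ker_map e)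
  obtain ⟨y, hy⟩ := (hex x).mp he
  by_contra hcon
  have hcon' : ∀ g : A, e₁ g = 0 → e₂ g = 0 → g ∈ I := by
    intro g h1 h2
    by_contra hg
    exact hcon ⟨g, h1, h2, hg⟩
  have hall : ∀ y : (LinearMap.ker e) ⊗[B] C,
      mulMap ((LinearMap.ker e).subtype.rTensor C y) ∈ I := by
    intro y
    induction y with
    | zero => simp
    | tmul g c =>
      rw [LinearMap.rTensor_tmul, hmul]
      apply Ideal.mul_mem_right
      have hg : e g.1 = 0 := g.2
      have hg1 : e₁ g.1 = 0 := congrArg Prod.fst hg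
      have hg2 : e₂ g.1 = 0 := congrArg Prod.snd hg
      exact hcon' g.1 hg1 hg2
    | add z w hz hw =>
      rw [map_add, map_add]
      exact I.add_mem hz hw
  apply hx
  rw [← hy]
  exact hall y

end Flat

section Bridge

variable {R A C : Type u} [CommRing R] [CommRing A] [CommRing C] [Algebra R A] [Algebra R C]
  {P : CommRingCat.{u}} (gA : CommRingCat.of A ⟶ P) (gC : CommRingCat.of C ⟶ P)
  (w : CommRingCat.ofHom (algebraMap R A) ≫ gA = CommRingCat.ofHom (algebraMap R C) ≫ gC)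

/-- the comparison morphism from the tensor product -/
noncomputable def tens : CommRingCat.of (A ⊗[R] C) ⟶ P :=
  (CommRingCat.isPushout_tensorProduct R A C).desc gA gC w

lemma inl_tens : CommRingCat.ofHom (S := A ⊗[R] C)
    (Algebra.TensorProduct.includeLeftRingHom) ≫ tens gA gC w = gA :=
  (CommRingCat.isPushout_tensorProduct R A C).inl_desc gA gC w

lemma inr_tens : CommRingCat.ofHom (S := A ⊗[R] C)
    (Algebra.TensorProduct.includeRight (R := R) (A := A) (B := C)).toRingHom ≫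
      tens gA gC w = gC :=
  (CommRingCat.isPushout_tensorProduct R A C).inr_desc gA gC w

lemma tens_tmul (a : A) (c : C) : (tens gA gC w).hom (a ⊗ₜ[R] c) = gA.hom a * gC.hom c := by
  have h1 : (tens gA gC w).hom (a ⊗ₜ[R] 1) = gA.hom a := by
    have := congrArg (fun k => k.hom a) (inl_tens gA gC w)
    exact this
  have h2 : (tens gA gC w).hom (1 ⊗ₜ[R] c) = gC.hom c := by
    have := congrArg (fun k => k.hom c) (inr_tens gA gC w)
    exact this
  have h3 : a ⊗ₜ[R] c = (a ⊗ₜ[R] (1 : C)) * ((1 : A) ⊗ₜ[R] c) := by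
    rw [Algebra.TensorProduct.tmul_mul_tmul, mul_one, one_mul]
  rw [h3, map_mul, h1, h2]

lemma tens_eq : tens gA gC w =
    (CommRingCat.isPushout_tensorProduct R A C).isoPushout.hom ≫ pushout.desc gA gC w := by
  apply (CommRingCat.isPushout_tensorProduct R A C).hom_ext
  · rw [inl_tens, ← Category.assoc, IsPushout.inl_isoPushout_hom, pushout.inl_desc]
  · rw [inr_tens, ← Category.assoc, IsPushout.inr_isoPushout_hom, pushout.inr_desc]

lemma tens_injective (h : Mono (pushout.desc gA gC w)) :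
    Function.Injective (tens gA gC w).hom := by
  haveI : Mono (tens gA gC w) := by rw [tens_eq]; infer_instance
  exact (ConcreteCategory.mono_iff_injective_of_preservesPullback (tens gA gC w)).mp inferInstance

lemma tens_bijective
    (h : IsPushout (CommRingCat.ofHom (algebraMap R A)) (CommRingCat.ofHom (algebraMap R C)) gA gC) :
    Function.Bijective (tens gA gC h.w).hom := by
  have e : tens gA gC h.w = ((CommRingCat.isPushout_tensorProduct R A C).isoIsPushout _ _ h).hom := by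
    apply (CommRingCat.isPushout_tensorProduct R A C).hom_ext
    · rw [inl_tens, IsPushout.inl_isoIsPushout_hom]
    · rw [inr_tens, IsPushout.inr_isoIsPushout_hom]
  rw [e]
  exact ConcreteCategory.bijective_of_isIso _

end Bridge

section Core

variable {B C A P P₀ Q₀ G GC : CommRingCat.{u}}

/-- a ring homomorphism commuting with the structure maps, as a linear map -/
def linOf {B A N : Type u} [CommRing B] [CommRing A] [CommRing N] [Algebra B A] [Algebra B N]
    (d : A →+* N) (hd : ∀ b, d (algebraMap B A b) = algebraMap B N b) : A →ₗ[B] N where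
  toFun := d
  map_add' := map_add d
  map_smul' b a := by
    rw [Algebra.smul_def, Algebra.smul_def, map_mul, hd, RingHom.id_apply]

/-- the algebraic core of the construction of invariant functions -/
theorem alg_core
    (bC : B ⟶ C) (hflat : bC.hom.Flat)
    (bA : B ⟶ A) (cA : C ⟶ A)
    (ι : A ⟶ P) (μ : C ⟶ P) (hP : IsPushout bA bC ι μ)
    (bP₀ : B ⟶ P₀) (d₁ d₂ : A ⟶ P₀) (hd₁ : bA ≫ d₁ = bP₀) (hd₂ : bA ≫ d₂ = bP₀)
    (n : P₀ ⟶ Q₀) (μ₀ : C ⟶ Q₀) (hw₀ : bP₀ ≫ n = bC ≫ μ₀)
    (hmono₀ : Mono (pushout.desc n μ₀ hw₀))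
    (α β : P ⟶ Q₀) (hα₁ : ι ≫ α = d₁ ≫ n) (hβ₁ : ι ≫ β = d₂ ≫ n) (hα₂ : μ ≫ α = μ₀)
    (hβ₂ : μ ≫ β = μ₀)
    (bG : B ⟶ G) (k : A ⟶ G) (hk : bA ≫ k = bG)
    (nG : G ⟶ GC) (μG : C ⟶ GC) (hwG : bG ≫ nG = bC ≫ μG)
    (hmonoG : Mono (pushout.desc nG μG hwG))
    (kC : P ⟶ GC) (hkC₁ : ι ≫ kC = k ≫ nG) (hkC₂ : μ ≫ kC = μG)
    (δ : P ⟶ A) (hδ₁ : ι ≫ δ = 𝟙 A) (hδ₂ : μ ≫ δ = cA)
    (ξ : P) (hξ₁ : α.hom ξ = β.hom ξ) (hξ₂ : kC.hom ξ = 0)
    (I : Ideal A) (hξ₃ : δ.hom ξ ∉ I) :
    ∃ g : A, d₁.hom g = d₂.hom g ∧ k.hom g = 0 ∧ g ∉ I := by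
  letI : Algebra B C := bC.hom.toAlgebra
  letI : Algebra B A := bA.hom.toAlgebra
  letI : Algebra B P₀ := bP₀.hom.toAlgebra
  letI : Algebra B G := bG.hom.toAlgebra
  haveI : Module.Flat B C := hflat
  have hP' : IsPushout (CommRingCat.ofHom (algebraMap B A)) (CommRingCat.ofHom (algebraMap B C))
      ι μ := hP
  have hτ := tens_bijective (R := B) (A := A) (C := C) ι μ hP'
  have hw₀' : CommRingCat.ofHom (algebraMap B P₀) ≫ n =
      CommRingCat.ofHom (algebraMap B C) ≫ μ₀ := hw₀
  have hτ₀ := tens_injective (R := B) (A := P₀) (C := C) n μ₀ hw₀' hmono₀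
  have hwG' : CommRingCat.ofHom (algebraMap B G) ≫ nG =
      CommRingCat.ofHom (algebraMap B C) ≫ μG := hwG
  have hτG := tens_injective (R := B) (A := G) (C := C) nG μG hwG' hmonoG
  obtain ⟨x, hx⟩ := hτ.2 ξ
  let D₁ : A →ₗ[B] P₀ := linOf d₁.hom (fun b => congrArg (fun k => k.hom b) hd₁)
  let D₂ : A →ₗ[B] P₀ := linOf d₂.hom (fun b => congrArg (fun k => k.hom b) hd₂)
  let K : A →ₗ[B] G := linOf k.hom (fun b => congrArg (fun k => k.hom b) hk)
  -- compatibilities
  have c1 : ∀ z : A ⊗[B] C, (tens (R := B) (A := P₀) (C := C) n μ₀ hw₀').hom (D₁.rTensor C z) =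
      α.hom ((tens (R := B) (A := A) (C := C) ι μ hP'.w).hom z) := by
    intro z
    induction z with
    | zero => simp
    | tmul a c =>
      rw [LinearMap.rTensor_tmul, tens_tmul, tens_tmul, map_mul]
      have e1 : α.hom (ι.hom a) = n.hom (d₁.hom a) := congrArg (fun k => k.hom a) hα₁
      have e2 : α.hom (μ.hom c) = μ₀.hom c := congrArg (fun k => k.hom c) hα₂
      rw [e1, e2]
      rfl
    | add z w hz hw => simp only [map_add, hz, hw]
  have c2 : ∀ z : A ⊗[B] C, (tens (R := B) (A := P₀) (C := C) n μ₀ hw₀').hom (D₂.rTensor C z) =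
      β.hom ((tens (R := B) (A := A) (C := C) ι μ hP'.w).hom z) := by
    intro z
    induction z with
    | zero => simp
    | tmul a c =>
      rw [LinearMap.rTensor_tmul, tens_tmul, tens_tmul, map_mul]
      have e1 : β.hom (ι.hom a) = n.hom (d₂.hom a) := congrArg (fun k => k.hom a) hβ₁
      have e2 : β.hom (μ.hom c) = μ₀.hom c := congrArg (fun k => k.hom c) hβ₂
      rw [e1, e2]
      rfl
    | add z w hz hw => simp only [map_add, hz, hw]
  have c3 : ∀ z : A ⊗[B] C, (tens (R := B) (A := G) (C := C) nG μG hwG').hom (K.rTensor C z) =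
      kC.hom ((tens (R := B) (A := A) (C := C) ι μ hP'.w).hom z) := by
    intro z
    induction z with
    | zero => simp
    | tmul a c =>
      rw [LinearMap.rTensor_tmul, tens_tmul, tens_tmul, map_mul]
      have e1 : kC.hom (ι.hom a) = nG.hom (k.hom a) := congrArg (fun k => k.hom a) hkC₁
      have e2 : kC.hom (μ.hom c) = μG.hom c := congrArg (fun k => k.hom c) hkC₂
      rw [e1, e2]
      rfl
    | add z w hz hw => simp only [map_add, hz, hw]
  have h₁ : (D₁ - D₂).rTensor C x = 0 := by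
    apply hτ₀
    rw [LinearMap.rTensor_sub, LinearMap.sub_apply, map_sub, map_zero, c1, c2, hx, hξ₁, sub_self]
  have h₂ : K.rTensor C x = 0 := by
    apply hτG
    rw [c3, hx, hξ₂, map_zero]
  let mulMap : A ⊗[B] C →+ A :=
    (δ.hom.comp (tens (R := B) (A := A) (C := C) ι μ hP'.w).hom).toAddMonoidHom
  have hmul : ∀ a c, mulMap (a ⊗ₜ c) = a * cA.hom c := by
    intro a c
    change δ.hom ((tens (R := B) (A := A) (C := C) ι μ hP'.w).hom (a ⊗ₜ c)) = _
    rw [tens_tmul, map_mul]
    have e1 : δ.hom (ι.hom a) = a := congrArg (fun k => k.hom a) hδ₁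
    have e2 : δ.hom (μ.hom c) = cA.hom c := congrArg (fun k => k.hom c) hδ₂
    rw [e1, e2]
  have hxI : mulMap x ∉ I := by
    change δ.hom ((tens (R := B) (A := A) (C := C) ι μ hP'.w).hom x) ∉ I
    rw [hx]
    exact hξ₃
  obtain ⟨g, hg1, hg2, hg3⟩ := exists_mem_ker_not_mem (D₁ - D₂) K cA.hom I x h₁ h₂ mulMap hmul hxI
  refine ⟨g, ?_, hg2, hg3⟩
  have : d₁.hom g - d₂.hom g = 0 := hg1
  exact sub_eq_zero.mp this

end Core

end Groth.Agent.Lib.T2H7.IQAlg
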