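import Mathlib
import Groth.Prelude.Def_Desc
import Groth.Prelude.Def_DescFam
import Groth.Prelude.Def_MoreMor
import Groth.Agent.Lib.T2H7DescFppf
import Groth.Agent.Lib.T2H7IQAlg
import Groth.Agent.Lib.Helper2IndQA
import Groth.Agent.S1400

set_option autoImplicit false
set_option linter.style.haveILetI false
set_option linter.unusedSectionVars false
set_option backward.isDefEq.respectTransparency false
set_option backward.isDefEq.respectTransparency.types false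
universe u
open CategoryTheory CategoryTheory.Limits AlgebraicGeometry Desc

namespace Groth.Agent.Lib.T2H7.DescIQA

open Groth.Agent.Lib.T2H7.DescQAff Groth.Agent.Lib.T2H7.DescGlueQ Groth.Agent.Lib.T2H7.DescRad
  Groth.Agent.Lib.T2H7.DescFppf

section AppLE

/-- composition of restricted section maps, up to an equality of morphisms -/
lemma appLE_comp_eq {X Y Z : Scheme.{u}} (f : X ⟶ Y) (g : Y ⟶ Z) (k : X ⟶ Z) (hk : f ≫ g = k)
    (U : Z.Opens) (V : Y.Opens) (W : X.Opens) (e₁ : V ≤ g ⁻¹ᵁ U) (e₂ : W ≤ f ⁻¹ᵁ V)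
    (e₃ : W ≤ k ⁻¹ᵁ U) :
    g.appLE U V e₁ ≫ f.appLE V W e₂ = k.appLE U W e₃ := by
  subst hk
  exact Scheme.Hom.appLE_comp_appLE ..

/-- a commutative square of morphisms gives a commutative square of restricted section maps -/
lemma appLE_square {X Y Y' Z : Scheme.{u}} (f : X ⟶ Y) (g : Y ⟶ Z) (f' : X ⟶ Y') (g' : Y' ⟶ Z)
    (h : f ≫ g = f' ≫ g') (U : Z.Opens) (V : Y.Opens) (V' : Y'.Opens) (W : X.Opens)
    (e₁ : V ≤ g ⁻¹ᵁ U) (e₂ : W ≤ f ⁻¹ᵁ V) (e₁' : V' ≤ g' ⁻¹ᵁ U) (e₂' : W ≤ f' ⁻¹ᵁ V') :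
    g.appLE U V e₁ ≫ f.appLE V W e₂ = g'.appLE U V' e₁' ≫ f'.appLE V' W e₂' := by
  rw [Scheme.Hom.appLE_comp_appLE, Scheme.Hom.appLE_comp_appLE]
  have key : ∀ (k k' : X ⟶ Z) (hk : k = k') (e : W ≤ k ⁻¹ᵁ U) (e' : W ≤ k' ⁻¹ᵁ U),
      k.appLE U W e = k'.appLE U W e' := by
    intro k k' hk e e'
    subst hk
    rfl
  exact key _ _ h _ _

end AppLE

section Sat

variable {X S : Scheme.{u}} {p : X ⟶ S} (D : SchDD p)

/-- the saturation of a subset of the total space under the descent datum -/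
def satSet (A : Set D.obj.left) : Set D.obj.left :=
  (act D).base '' ((pullback.fst (D.obj.hom ≫ p) p).base ⁻¹' A)

lemma subset_satSet (A : Set D.obj.left) : A ⊆ satSet D A := by
  intro v hv
  refine ⟨(dg D).base v, ?_, ?_⟩
  · change (pullback.fst (D.obj.hom ≫ p) p).base ((dg D).base v) ∈ A
    rw [← Scheme.Hom.comp_apply, dg_fst]
    exact hv
  · rw [← Scheme.Hom.comp_apply, dg_act]
    rfl

/-- symmetry of the orbit relation -/
lemma mem_satSet_of_act_mem (A : Set D.obj.left) (z : ↥(MM D)) (hz : (act D).base z ∈ A) :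
    (pullback.fst (D.obj.hom ≫ p) p).base z ∈ satSet D A := by
  refine ⟨(inv D).base z, ?_, ?_⟩
  · change (pullback.fst (D.obj.hom ≫ p) p).base ((inv D).base z) ∈ A
    rw [← Scheme.Hom.comp_apply, inv_fst]
    exact hz
  · rw [← Scheme.Hom.comp_apply, inv_act]

lemma isCompact_satSet [QuasiCompact p] (W : D.obj.left.Opens)
    (h : IsCompact (W : Set D.obj.left)) : IsCompact (satSet D (W : Set D.obj.left)) :=
  (QuasiCompact.isCompact_preimage (f := pullback.fst (D.obj.hom ≫ p) p) _ W.2 h).image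
    (act D).continuous

/-- stability under the action implies stability under the gluing bijections -/
theorem stable_of_act (N : D.obj.left.Opens)
    (hN : ∀ z : ↥(MM D), (pullback.fst (D.obj.hom ≫ p) p).base z ∈ N → (act D).base z ∈ N)
    ⦃T : Scheme.{u}⦄ (x₀ x₁ : T ⟶ X) (h : x₀ ≫ p = x₁ ≫ p) (v : Lifts D.obj x₀)
    (hv : ∀ t, v.1.base t ∈ N) : ∀ t, (D.φ x₀ x₁ h v).1.base t ∈ N := by
  intro t
  rw [φ_eq_act, Scheme.Hom.comp_apply]
  apply hN
  rw [← Scheme.Hom.comp_apply, pt_fst]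
  exact hv t

end Sat

section Top

/-- a compact subset of a scheme is contained in a compact open -/
lemma exists_isCompact_opens_superset {Y : Scheme.{u}} (K : Set Y) (hK : IsCompact K) :
    ∃ W : Y.Opens, IsCompact (W : Set Y) ∧ K ⊆ W := by
  have key : ∀ x : K, ∃ V : Y.Opens, IsAffineOpen V ∧ x.1 ∈ V := by
    intro x
    obtain ⟨_, ⟨V, hV, rfl⟩, hxV, -⟩ := Y.isBasis_affineOpens.exists_subset_of_mem_open
      (Set.mem_univ x.1) isOpen_univ
    exact ⟨V, hV, hxV⟩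
  choose V hV hxV using key
  obtain ⟨t, ht⟩ := hK.elim_finite_subcover (fun x : K => ((V x : Y.Opens) : Set Y))
    (fun x => (V x).2) (fun x hx => Set.mem_iUnion.mpr ⟨⟨x, hx⟩, hxV ⟨x, hx⟩⟩)
  refine ⟨⨆ x ∈ t, V x, ?_, ?_⟩
  · simp only [TopologicalSpace.Opens.coe_iSup]
    exact t.isCompact_biUnion fun x _ => (hV x).isCompact
  · intro x hx
    obtain ⟨y, hy⟩ := Set.mem_iUnion.mp (ht hx)
    obtain ⟨hyt, hy⟩ := Set.mem_iUnion.mp hy
    show x ∈ ((⨆ x ∈ t, V x : Y.Opens) : Set Y)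
    simp only [TopologicalSpace.Opens.coe_iSup]
    exact Set.mem_iUnion₂.mpr ⟨y, hyt, hy⟩

end Top

section Invariant

variable {X S : Scheme.{u}} [IsAffine X] [IsAffine S] {p : X ⟶ S} [Flat p] (D : SchDD p)

set_option maxHeartbeats 1600000 in
/-- construction of an invariant function: the heart of the descent of ind-quasi-affine schemes -/
theorem exists_invariant
    (W0 W1 W2 W3 : D.obj.left.Opens)
    (h01 : satSet D (W0 : Set D.obj.left) ⊆ W1) (h12 : satSet D (W1 : Set D.obj.left) ⊆ W2)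
    (h23 : satSet D (W2 : Set D.obj.left) ⊆ W3)
    (hc1 : IsCompact (W1 : Set D.obj.left)) (hc2 : IsCompact (W2 : Set D.obj.left))
    (hq2 : IsQuasiSeparated (W2 : Set D.obj.left))
    (t : Γ(D.obj.left, W3)) (ht : D.obj.left.basicOpen t ≤ W0)
    (v : D.obj.left) (hv : v ∈ D.obj.left.basicOpen t) :
    ∃ g : Γ(D.obj.left, W2), v ∈ D.obj.left.basicOpen g ∧ D.obj.left.basicOpen g ≤ W1 ∧
      ∀ z : ↥(MM D), (pullback.fst (D.obj.hom ≫ p) p).base z ∈ D.obj.left.basicOpen g →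
        (act D).base z ∈ D.obj.left.basicOpen g := by
  let V := D.obj.left
  let f := D.obj.hom
  let m₁ : MM D ⟶ V := pullback.fst (f ≫ p) p
  let m₂ : MM D ⟶ X := pullback.snd (f ≫ p) p
  let a : MM D ⟶ V := act D
  let n₁ : M2 D ⟶ MM D := pullback.fst _ _
  let n₂ : M2 D ⟶ X := pullback.snd _ _
  have hW01 : W0 ≤ W1 := fun x hx => h01 (subset_satSet D _ hx)
  have hW12 : W1 ≤ W2 := fun x hx => h12 (subset_satSet D _ hx)
  have hW23 : W2 ≤ W3 := fun x hx => h23 (subset_satSet D _ hx)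
  have hvW0 : v ∈ W0 := ht hv
  have hvW2 : v ∈ W2 := hW12 (hW01 hvW0)
  -- the closed complement of `W1`
  let Zc : TopologicalSpace.Closeds V := ⟨(W1 : Set V)ᶜ, W1.2.isClosed_compl⟩
  let IZ := Scheme.IdealSheafData.vanishingIdeal Zc
  let ιZ : IZ.subscheme ⟶ V := IZ.subschemeι
  have hrange : Set.range ιZ.base = (W1 : Set V)ᶜ := by
    rw [IZ.range_subschemeι]
    exact Scheme.IdealSheafData.coe_support_vanishingIdeal Zc
  let UZ : IZ.subscheme.Opens := ιZ ⁻¹ᵁ W2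
  let y₁ : pullback (ιZ ≫ f ≫ p) p ⟶ IZ.subscheme := pullback.fst _ _
  let y₂ : pullback (ιZ ≫ f ≫ p) p ⟶ X := pullback.snd _ _
  let ζ : pullback (ιZ ≫ f ≫ p) p ⟶ MM D := pullback.lift (y₁ ≫ ιZ) y₂ (by
    rw [Category.assoc]; exact pullback.condition)
  have hζ₁ : ζ ≫ m₁ = y₁ ≫ ιZ := pullback.lift_fst _ _ _
  have hζ₂ : ζ ≫ m₂ = y₂ := pullback.lift_snd _ _ _
  let UY : (pullback (ιZ ≫ f ≫ p) p).Opens := y₁ ⁻¹ᵁ UZ
  let MW1 : (MM D).Opens := m₁ ⁻¹ᵁ W1
  let MW2 : (MM D).Opens := m₁ ⁻¹ᵁ W2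
  let M2W1 : (M2 D).Opens := n₁ ⁻¹ᵁ MW1
  -- inclusions
  have i1 : MW1 ≤ m₁ ⁻¹ᵁ W2 := fun z hz => hW12 hz
  have i2 : MW1 ≤ a ⁻¹ᵁ W2 := fun z hz => h12 ⟨z, hz, rfl⟩
  have i3 : MW2 ≤ a ⁻¹ᵁ W3 := fun z hz => h23 ⟨z, hz, rfl⟩
  have i4 : M2W1 ≤ g13 D ⁻¹ᵁ MW2 := by
    intro y hy
    change m₁.base ((g13 D).base y) ∈ W2
    rw [← Scheme.Hom.comp_apply, g13_fst, Scheme.Hom.comp_apply]
    exact hW12 hy
  have i5 : M2W1 ≤ gρ D ⁻¹ᵁ MW2 := by
    intro y hy
    change m₁.base ((gρ D).base y) ∈ W2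
    rw [← Scheme.Hom.comp_apply, gρ_fst, Scheme.Hom.comp_apply]
    exact i2 hy
  have i6 : W2 ≤ dg D ⁻¹ᵁ MW2 := by
    intro w hw
    change m₁.base ((dg D).base w) ∈ W2
    rw [← Scheme.Hom.comp_apply, dg_fst]
    exact hw
  have i7 : UY ≤ ζ ⁻¹ᵁ MW2 := by
    intro y hy
    change m₁.base (ζ.base y) ∈ W2
    rw [← Scheme.Hom.comp_apply, hζ₁, Scheme.Hom.comp_apply]
    exact hy
  -- compactness
  haveI : QuasiCompact p := inferInstance
  have hcMW1 : IsCompact (MW1 : Set ↥(MM D)) :=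
    QuasiCompact.isCompact_preimage (f := m₁) _ W1.2 hc1
  have hcUZ : IsCompact (UZ : Set ↥IZ.subscheme) :=
    QuasiCompact.isCompact_preimage (f := ιZ) _ W2.2 hc2
  have hcUY : IsCompact (UY : Set ↥(pullback (ιZ ≫ f ≫ p) p)) :=
    QuasiCompact.isCompact_preimage (f := y₁) _ UZ.2 hcUZ
  -- flat base change
  have H1 : IsPullback m₁ m₂ (f ≫ p) p := IsPullback.of_hasPullback _ _
  have hP : IsPushout ((f ≫ p).appLE ⊤ W2 le_top) (p.appLE ⊤ ⊤ le_top)
      (m₁.appLE W2 MW2 le_rfl) (m₂.appLE ⊤ MW2 le_top) := by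
    have hiso := isIso_pushoutSection_of_isQuasiSeparated_of_flat_right H1
      (US := ⊤) (UT := ⊤) (UX := W2) (UY := MW2) le_top le_top (by simp [MW2])
      (isAffineOpen_top S) (isAffineOpen_top X) hc2 hq2
    exact (isIso_pushoutSection_iff H1 (US := ⊤) (UT := ⊤) (UX := W2) (UY := MW2) le_top le_top
      (by simp [MW2])).mp hiso
  have H2 : IsPullback n₁ n₂ (m₂ ≫ p) p := IsPullback.of_hasPullback _ _
  have hmono₀ := mono_pushoutSection_of_isCompact_of_flat_right H2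
    (US := ⊤) (UT := ⊤) (UX := MW1) (UY := M2W1) le_top le_top (by simp [M2W1])
    (isAffineOpen_top S) (isAffineOpen_top X) hcMW1
  have H3 : IsPullback y₁ y₂ (ιZ ≫ f ≫ p) p := IsPullback.of_hasPullback _ _
  have hmonoG := mono_pushoutSection_of_isCompact_of_flat_right H3
    (US := ⊤) (UT := ⊤) (UX := UZ) (UY := UY) le_top le_top (by simp [UY])
    (isAffineOpen_top S) (isAffineOpen_top X) hcUZ
  -- the nilpotent power
  let ψ : pullback (ιZ ≫ f ≫ p) p ⟶ V := ζ ≫ a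
  have i8 : UY ≤ ψ ⁻¹ᵁ W3 := fun y hy => i3 (i7 hy)
  have hbo : (pullback (ιZ ≫ f ≫ p) p).basicOpen ((ψ.appLE W3 UY i8).hom t) = ⊥ := by
    have e := Scheme.basicOpen_appLE ψ UY W3 i8 t
    rw [eq_bot_iff]
    intro y hy
    have hy' : y ∈ UY ⊓ ψ ⁻¹ᵁ (V.basicOpen t) := by rw [← e]; exact hy
    obtain ⟨hy1, hy2⟩ := hy'
    have h0 : a.base (ζ.base y) ∈ (W0 : Set V) := ht hy2
    have h1 : m₁.base (ζ.base y) ∈ satSet D (W0 : Set V) := mem_satSet_of_act_mem D _ _ h0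
    have h2 : m₁.base (ζ.base y) ∈ (W1 : Set V) := h01 h1
    have h3 : m₁.base (ζ.base y) = ιZ.base (y₁.base y) := by
      rw [← Scheme.Hom.comp_apply, hζ₁, Scheme.Hom.comp_apply]
    have h4 : ιZ.base (y₁.base y) ∈ (W1 : Set V)ᶜ := by rw [← hrange]; exact ⟨_, rfl⟩
    exact (h4 (h3 ▸ h2)).elim
  obtain ⟨N, hN⟩ := (Scheme.isNilpotent_iff_basicOpen_eq_bot_of_isCompact hcUY _).mpr hbo
  have hN' : (ψ.appLE W3 UY i8).hom (t ^ (N + 1)) = 0 := by
    rw [map_pow, pow_succ, hN, zero_mul]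
  have hvh : v ∈ V.basicOpen (t ^ (N + 1)) := by
    rw [Scheme.basicOpen_pow V t (Nat.succ_pos N)]; exact hv
  -- the prime ideal of the point
  let I : Ideal Γ(V, W2) := Ideal.comap (V.presheaf.germ W2 v hvW2).hom
    (IsLocalRing.maximalIdeal (V.presheaf.stalk v))
  have hI : ∀ g : Γ(V, W2), g ∉ I ↔ v ∈ V.basicOpen g := by
    intro g
    rw [Scheme.mem_basicOpen _ _ v hvW2]
    change ¬ ((V.presheaf.germ W2 v hvW2).hom g ∈ IsLocalRing.maximalIdeal _) ↔ _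
    rw [IsLocalRing.mem_maximalIdeal, mem_nonunits_iff, not_not]
  obtain ⟨g, hg1, hg2, hg3⟩ := Groth.Agent.Lib.T2H7.IQAlg.alg_core
    (bC := p.appLE ⊤ ⊤ le_top)
    (hflat := p.flat_appLE (isAffineOpen_top S) (isAffineOpen_top X) le_top)
    (bA := (f ≫ p).appLE ⊤ W2 le_top) (cA := f.appLE ⊤ W2 le_top)
    (ι := m₁.appLE W2 MW2 le_rfl) (μ := m₂.appLE ⊤ MW2 le_top) hP
    (bP₀ := (m₂ ≫ p).appLE ⊤ MW1 le_top) (d₁ := m₁.appLE W2 MW1 i1) (d₂ := a.appLE W2 MW1 i2)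
    (hd₁ := appLE_comp_eq m₁ (f ≫ p) (m₂ ≫ p) pullback.condition _ _ _ _ _ _)
    (hd₂ := appLE_comp_eq a (f ≫ p) (m₂ ≫ p) (by
      rw [← Category.assoc]; exact congrArg (· ≫ p) (act_hom D)) _ _ _ _ _ _)
    (n := n₁.appLE MW1 M2W1 le_rfl) (μ₀ := n₂.appLE ⊤ M2W1 le_top)
    (hw₀ := appLE_square n₁ (m₂ ≫ p) n₂ p pullback.condition _ _ _ _ _ _ _ _)
    (hmono₀ := hmono₀)
    (α := (g13 D).appLE MW2 M2W1 i4) (β := (gρ D).appLE MW2 M2W1 i5)
    (hα₁ := appLE_square (g13 D) m₁ n₁ m₁ (g13_fst D) _ _ _ _ _ _ _ _)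
    (hβ₁ := appLE_square (gρ D) m₁ n₁ a (gρ_fst D) _ _ _ _ _ _ _ _)
    (hα₂ := appLE_comp_eq (g13 D) m₂ n₂ (g13_snd D) _ _ _ _ _ _)
    (hβ₂ := appLE_comp_eq (gρ D) m₂ n₂ (gρ_snd D) _ _ _ _ _ _)
    (bG := (ιZ ≫ f ≫ p).appLE ⊤ UZ le_top) (k := ιZ.appLE W2 UZ le_rfl)
    (hk := appLE_comp_eq ιZ (f ≫ p) (ιZ ≫ f ≫ p) rfl _ _ _ _ _ _)
    (nG := y₁.appLE UZ UY le_rfl) (μG := y₂.appLE ⊤ UY le_top)
    (hwG := appLE_square y₁ (ιZ ≫ f ≫ p) y₂ p pullback.condition _ _ _ _ _ _ _ _)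
    (hmonoG := hmonoG)
    (kC := ζ.appLE MW2 UY i7)
    (hkC₁ := appLE_square ζ m₁ y₁ ιZ hζ₁ _ _ _ _ _ _ _ _)
    (hkC₂ := appLE_comp_eq ζ m₂ y₂ hζ₂ _ _ _ _ _ _)
    (δ := (dg D).appLE MW2 W2 i6)
    (hδ₁ := by
      rw [appLE_comp_eq (dg D) m₁ (𝟙 V) (dg_fst D) W2 MW2 W2 le_rfl i6 le_rfl]
      simp only [Scheme.Hom.appLE, Scheme.Hom.id_app, Category.id_comp, homOfLE_refl, op_id]
      exact D.obj.left.presheaf.map_id _)
    (hδ₂ := appLE_comp_eq (dg D) m₂ f (dg_snd D) _ _ _ _ _ _)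
    (ξ := (a.appLE W3 MW2 i3).hom (t ^ (N + 1)))
    (hξ₁ := by
      have e := appLE_square (g13 D) a (gρ D) a (gρ_act D).symm W3 MW2 MW2 M2W1 i3 i4 i3 i5
      exact congrArg (fun k => k.hom (t ^ (N + 1))) e)
    (hξ₂ := by
      have e := appLE_comp_eq ζ a ψ rfl W3 MW2 UY i3 i7 i8
      have e' := congrArg (fun k => k.hom (t ^ (N + 1))) e
      exact e'.trans hN')
    (I := I)
    (hξ₃ := by
      have e := appLE_comp_eq (dg D) a (𝟙 V) (dg_act D) W3 MW2 W2 i3 i6 hW23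
      have e' := congrArg (fun k => k.hom (t ^ (N + 1))) e
      have e'' : ((dg D).appLE MW2 W2 i6).hom ((a.appLE W3 MW2 i3).hom (t ^ (N + 1))) =
          ((𝟙 V : V ⟶ V).appLE W3 W2 hW23).hom (t ^ (N + 1)) := e'
      rw [e'', hI]
      have e3 : ((𝟙 V : V ⟶ V).appLE W3 W2 hW23) = V.presheaf.map (homOfLE hW23).op := by
        simp [Scheme.Hom.appLE]
      rw [e3]
      have e4 := Scheme.basicOpen_res V (t ^ (N + 1)) (homOfLE hW23).op
      change v ∈ V.basicOpen ((V.presheaf.map (homOfLE hW23).op).hom (t ^ (N + 1)))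
      have e5 : V.basicOpen ((V.presheaf.map (homOfLE hW23).op).hom (t ^ (N + 1))) =
          W2 ⊓ V.basicOpen (t ^ (N + 1)) := e4
      rw [e5]
      exact ⟨hvW2, hvh⟩)
  have hgv : v ∈ V.basicOpen g := (hI g).mp hg3
  have hgW1 : V.basicOpen g ≤ W1 := by
    intro w hw
    by_contra hw1
    have hwr : w ∈ Set.range ιZ.base := by rw [hrange]; exact hw1
    obtain ⟨z₀, rfl⟩ := hwr
    have hz₀ : z₀ ∈ UZ := V.basicOpen_le g hw
    have e := Scheme.basicOpen_appLE ιZ UZ W2 le_rfl g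
    have hmem : z₀ ∈ IZ.subscheme.basicOpen ((ιZ.appLE W2 UZ le_rfl).hom g) := by
      have : z₀ ∈ UZ ⊓ ιZ ⁻¹ᵁ (V.basicOpen g) := ⟨hz₀, hw⟩
      rw [← e] at this
      exact this
    rw [hg2, Scheme.basicOpen_zero] at hmem
    exact hmem
  refine ⟨g, hgv, hgW1, ?_⟩
  intro z hz
  have hz1 : z ∈ MW1 := hgW1 hz
  have e1 := Scheme.basicOpen_appLE m₁ MW1 W2 i1 g
  have e2 := Scheme.basicOpen_appLE a MW1 W2 i2 g
  have hmem : z ∈ (MM D).basicOpen ((m₁.appLE W2 MW1 i1).hom g) := by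
    have : z ∈ MW1 ⊓ m₁ ⁻¹ᵁ (V.basicOpen g) := ⟨hz1, hz⟩
    rw [← e1] at this
    exact this
  rw [hg1] at hmem
  have hmem' : z ∈ MW1 ⊓ a ⁻¹ᵁ (V.basicOpen g) := by
    rw [← e2]; exact hmem
  exact hmem'.2

end Invariant

section Core

/-- basic opens of sections over a quasi-affine open form a basis of its topology -/
lemma exists_basicOpen_le_of_isQuasiAffine {Y : Scheme.{u}} (U : Y.Opens)
    [Scheme.IsQuasiAffine U.toScheme] (W : Y.Opens) (x : Y) (hxU : x ∈ U) (hxW : x ∈ W) :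
    ∃ t : Γ(Y, U), Y.basicOpen t ≤ W ∧ x ∈ Y.basicOpen t := by
  obtain ⟨_, ⟨_, ⟨r, hr, rfl⟩, rfl⟩, h₁, h₂ : _ ≤ U.ι ⁻¹ᵁ W⟩ :=
    (Scheme.IsQuasiAffine.isBasis_basicOpen U.toScheme).exists_subset_of_mem_open
      (show (⟨x, hxU⟩ : U) ∈ ((U.ι ⁻¹ᵁ W : U.toScheme.Opens) : Set U.toScheme) from hxW)
      (U.ι ⁻¹ᵁ W).isOpen
  replace h₁ : x ∈ Y.basicOpen r := by simpa [U.mem_basicOpen_toScheme] using! h₁
  replace h₂ : Y.basicOpen r ≤ W := by
    simpa [Scheme.image_basicOpen] using! (U.ι.image_mono h₂).trans (U.ι.image_preimage_le _)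
  exact ⟨U.topIso.hom.hom r, by simp [Scheme.Opens.toScheme_presheaf_obj, h₁, h₂]⟩

variable {X S : Scheme.{u}} [IsAffine X] [IsAffine S] (p : X ⟶ S) [Flat p] [Surjective p]
  (D : SchDD p) (hD : MoreMor.IsIndQuasiAffineHom D.obj.hom)

include hD in
/-- quasi-compact opens of the total space are quasi-affine -/
lemma isQuasiAffine_of_isCompact (U : D.obj.left.Opens) (hU : IsCompact (U : Set D.obj.left)) :
    Scheme.IsQuasiAffine U.toScheme :=
  (Groth.Agent.Lib.Helper2.isIndQuasiAffineHom_iff D.obj.hom).mp hD ⊤ (isAffineOpen_top X) U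
    le_top hU

include hD in
/-- a quasi-compact open of the total space is quasi-affine over the base of the datum -/
lemma isQuasiAffine_ι_comp (N : D.obj.left.Opens) (hN : IsCompact (N : Set D.obj.left)) :
    Mor2.IsQuasiAffine (N.ι ≫ D.obj.hom) := by
  haveI : CompactSpace ↥(N : Scheme.{u}) := isCompact_iff_compactSpace.mp hN
  haveI : QuasiCompact (N.ι ≫ D.obj.hom) := inferInstance
  refine ⟨inferInstance, fun O hO => ?_⟩
  let O' : (N : Scheme.{u}).Opens := (N.ι ≫ D.obj.hom) ⁻¹ᵁ O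
  have hO' : IsCompact (O' : Set ↥(N : Scheme.{u})) :=
    QuasiCompact.isCompact_preimage (f := N.ι ≫ D.obj.hom) _ O.2 hO.isCompact
  have h2 : IsCompact ((N.ι ''ᵁ O' : D.obj.left.Opens) : Set D.obj.left) := by
    simpa using hO'.image N.ι.continuous
  haveI := isQuasiAffine_of_isCompact p D hD _ h2
  exact Groth.Agent.Lib.Helper2.isQuasiAffine_of_iso (N.ι.isoImage O')

include hD in
/-- the affine core: ind-quasi-affine descent data relative to a flat surjective morphism of affine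
schemes are effective -/
theorem core : ∃ U : Over S, Nonempty ((toDD p).obj U ≅ D) := by
  haveI : QuasiCompact p := inferInstance
  haveI : Good p := Groth.Agent.Lib.T2H7.DescGood.good_of_fpqc p
    (Scheme.Hom.singleton_mem_fpqcPrecoverage p)
  apply effective_of_cover p D
  intro v
  obtain ⟨W0, hW0, hvW0, -⟩ := exists_isAffineOpen_mem_and_subset (x := v) (U := ⊤) trivial
  obtain ⟨W1, hc1, h01⟩ := exists_isCompact_opens_superset _
    (isCompact_satSet D W0 hW0.isCompact)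
  obtain ⟨W2, hc2, h12⟩ := exists_isCompact_opens_superset _ (isCompact_satSet D W1 hc1)
  obtain ⟨W3, hc3, h23⟩ := exists_isCompact_opens_superset _ (isCompact_satSet D W2 hc2)
  haveI := isQuasiAffine_of_isCompact p D hD W2 hc2
  haveI := isQuasiAffine_of_isCompact p D hD W3 hc3
  have hq2 : IsQuasiSeparated (W2 : Set D.obj.left) :=
    (isQuasiSeparated_iff_quasiSeparatedSpace _ W2.2).mpr
      (inferInstanceAs (QuasiSeparatedSpace ↥(W2 : Scheme.{u})))
  have hvW3 : v ∈ W3 :=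
    h23 (subset_satSet D _ (h12 (subset_satSet D _ (h01 (subset_satSet D _ hvW0)))))
  obtain ⟨t, ht, hvt⟩ := exists_basicOpen_le_of_isQuasiAffine W3 W0 v hvW3 hvW0
  obtain ⟨g, hgv, hgW1, hgst⟩ := exists_invariant D W0 W1 W2 W3 h01 h12 h23 hc1 hc2 hq2 t ht v hvt
  let N := D.obj.left.basicOpen g
  have hNc : IsCompact (N : Set D.obj.left) := isCompact_basicOpen D.obj.left hc2 g
  have hstab := stable_of_act D N hgst
  let D' := restrOpen D N hstab
  have hQA : Mor2.IsQuasiAffine D'.obj.hom := isQuasiAffine_ι_comp p D hD N hNc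
  obtain ⟨U, ⟨e⟩⟩ := Groth.Agent.Lib.T2H7.DescQAffB.effective_of_quasiAffine p D' hQA
  let a : (toDD p).obj U ⟶ D := e.hom ≫ jOpen D N hstab
  have ha : a.hom.left = e.hom.hom.left ≫ N.ι := rfl
  haveI : IsIso e.hom.hom.left := isIso_left_of_iso p e
  haveI : IsOpenImmersion a.hom.left := by rw [ha]; infer_instance
  refine ⟨⟨N, U, a, inferInstance, ?_⟩, hgv⟩
  apply TopologicalSpace.Opens.ext
  change Set.range a.hom.left.base = _
  rw [ha, Scheme.Hom.comp_base, TopCat.coe_comp, Set.range_comp,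
    Set.range_eq_univ.mpr e.hom.hom.left.surjective, Set.image_univ]
  exact Scheme.Opens.range_ι N

end Core

section Sigma

open Groth.Agent.Lib.T2H7.DescFam Groth.Agent.Lib.T2H7.DescQAffB

lemma isClosed_range_sigmaι {m : ℕ} (Y : Fin m → Scheme.{u}) (j : Fin m) :
    IsClosed (Set.range (Sigma.ι Y j).base) := by
  have h : (Set.range (Sigma.ι Y j).base)ᶜ = ⋃ i ∈ {i : Fin m | i ≠ j}, Set.range (Sigma.ι Y i).base := by
    ext z
    obtain ⟨i, y, rfl⟩ := exists_sigmaι_eq' Y z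
    simp only [Set.mem_compl_iff, Set.mem_iUnion, Set.mem_ofPred_eq, exists_prop]
    rw [sigmaι_mem_range_iff']
    constructor
    · intro h
      exact ⟨i, h, y, rfl⟩
    · rintro ⟨i', hi', hy⟩
      have := (sigmaι_mem_range_iff' Y i' i y).mp hy
      rw [this]; exact hi'
  rw [← isOpen_compl_iff, h]
  exact isOpen_biUnion fun i _ => (Sigma.ι Y i).isOpenEmbedding.isOpen_range

lemma isCompact_preimage_sigmaι {m : ℕ} (Y : Fin m → Scheme.{u}) (j : Fin m) (U : (∐ Y).Opens)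
    (hU : IsCompact (U : Set ↥(∐ Y))) :
    IsCompact ((Sigma.ι Y j ⁻¹ᵁ U : (Y j).Opens) : Set (Y j)) := by
  have h1 : IsCompact ((U : Set ↥(∐ Y)) ∩ Set.range (Sigma.ι Y j).base) :=
    hU.inter_right (isClosed_range_sigmaι Y j)
  have h2 : ((Sigma.ι Y j ⁻¹ᵁ U : (Y j).Opens) : Set (Y j)) =
      (Sigma.ι Y j).base ⁻¹' ((U : Set ↥(∐ Y)) ∩ Set.range (Sigma.ι Y j).base) := by
    ext y
    simp
  rw [h2, (Sigma.ι Y j).isOpenEmbedding.isInducing.isCompact_preimage_iff Set.inter_subset_right]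
  exact h1

/-- a finite coproduct of ind-quasi-affine morphisms is ind-quasi-affine -/
theorem indQA_sigmaMap (m : ℕ) (Y V : Fin m → Scheme.{u}) (q : ∀ j, Y j ⟶ V j)
    (hq : ∀ j, MoreMor.IsIndQuasiAffineHom (q j)) :
    MoreMor.IsIndQuasiAffineHom (Limits.Sigma.map q) := by
  rw [Groth.Agent.Lib.Helper2.isIndQuasiAffineHom_iff]
  intro O hO U hUO hU
  let Uj : ∀ j, (Y j).Opens := fun j => Sigma.ι Y j ⁻¹ᵁ U
  let Oj : ∀ j, (V j).Opens := fun j => Sigma.ι V j ⁻¹ᵁ O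
  have hUjc : ∀ j, IsCompact (Uj j : Set (Y j)) := fun j => isCompact_preimage_sigmaι Y j U hU
  have hOjc : ∀ j, IsCompact (Oj j : Set (V j)) :=
    fun j => isCompact_preimage_sigmaι V j O hO.isCompact
  -- the pieces of the target are quasi-affine
  have hOjqa : ∀ j, Scheme.IsQuasiAffine (Oj j).toScheme := by
    intro j
    haveI : IsAffine (O : Scheme.{u}) := hO
    haveI : CompactSpace ↥(Oj j : Scheme.{u}) := isCompact_iff_compactSpace.mp (hOjc j)
    exact Scheme.IsQuasiAffine.of_isImmersion ((Sigma.ι V j).resLE O (Oj j) le_rfl)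
  have hUjO : ∀ j, Uj j ≤ q j ⁻¹ᵁ Oj j := by
    intro j y hy
    change (Sigma.ι V j).base ((q j).base y) ∈ O
    rw [← Scheme.Hom.comp_apply, ← Limits.Sigma.ι_map, Scheme.Hom.comp_apply]
    exact hUO hy
  have hUjqa : ∀ j, Scheme.IsQuasiAffine (Uj j).toScheme := by
    intro j
    haveI := hOjqa j
    exact Groth.Agent.Lib.Helper2.isQuasiAffine_of_le_preimage (q j) (hq j) (Oj j) (Uj j)
      (hUjO j) (hUjc j)
  haveI := hUjqa
  haveI : (∐ fun j => ((Uj j : (Y j).Opens) : Scheme.{u})).IsQuasiAffine :=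
    isQuasiAffine_sigma (fun j => ((Uj j : (Y j).Opens) : Scheme.{u}))
  -- the comparison
  let c : (∐ fun j => ((Uj j : (Y j).Opens) : Scheme.{u})) ⟶ ∐ Y :=
    Limits.Sigma.map fun j => (Uj j).ι
  haveI : IsOpenImmersion c :=
    sigmaMap_of_local @IsOpenImmersion (fun j => ((Uj j : (Y j).Opens) : Scheme.{u})) Y
      (fun j => (Uj j).ι) (fun j => inferInstance)
  have hrange : Set.range c.base = Set.range U.ι.base := by
    rw [Scheme.Opens.range_ι]
    ext z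
    constructor
    · rintro ⟨w, rfl⟩
      obtain ⟨j, y, rfl⟩ := exists_sigmaι_eq' (fun j => ((Uj j : (Y j).Opens) : Scheme.{u})) w
      have e : c.base ((Sigma.ι (fun j => ((Uj j : (Y j).Opens) : Scheme.{u})) j).base y) =
          (Sigma.ι Y j).base ((Uj j).ι.base y) := by
        rw [← Scheme.Hom.comp_apply, Limits.Sigma.ι_map, Scheme.Hom.comp_apply]
      rw [e]
      exact y.2
    · intro hz
      obtain ⟨j, y, rfl⟩ := exists_sigmaι_eq' Y z
      refine ⟨(Sigma.ι (fun j => ((Uj j : (Y j).Opens) : Scheme.{u})) j).base ⟨y, hz⟩, ?_⟩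
      rw [← Scheme.Hom.comp_apply, Limits.Sigma.ι_map, Scheme.Hom.comp_apply]
      rfl
  exact Groth.Agent.Lib.Helper2.isQuasiAffine_of_iso (IsOpenImmersion.isoOfRangeEq c U.ι hrange).symm

end Sigma

section Main

open Groth.Agent.Lib.T2H7.DescFam

/-- ind-quasi-affine morphisms as a morphism property -/
def indQA : MorphismProperty Scheme.{u} := fun _ _ f => MoreMor.IsIndQuasiAffineHom f

instance : (indQA.{u}).IsStableUnderBaseChange where
  of_isPullback {_ _ _ _ f g f' g'} sq hg := Groth.Agent.S1400.result g g' f' f sq hg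

/-- descent data for schemes relative to an fpqc covering family whose members are ind-quasi-affine
are effective (statement of S7482) -/
theorem indQA_family_effective {S : Scheme.{u}} {ι : Type u} {X : ι → Scheme.{u}}
    (f : ∀ i, X i ⟶ S) (hf : Presieve.ofArrows X f ∈ Scheme.fpqcPrecoverage S)
    (D : Desc.SchDDFam f) (hD : ∀ i, MoreMor.IsIndQuasiAffineHom (D.obj i).hom) :
    D.IsEffective := by
  refine family_effective (indQA.{u}) (fun m Y V q hq => indQA_sigmaMap m Y V q hq) ?_ f hf D hD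
  intro X S p hX hS hfl hsu D hD
  exact core p D hD

end Main

end Groth.Agent.Lib.T2H7.DescIQA
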