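import Mathlib
import Groth.Prelude.Def_Desc
import Groth.Prelude.Def_DescFam
import Groth.Prelude.Def_MoreMor
import Groth.Prelude.Def_AlgSp
import Groth.Agent.Lib.T2H7DescIQA
import Groth.Agent.Lib.Helper2IndQA

/-!
# Representability of a subfunctor of a scheme by fppf descent of monomorphisms (helper7)

A subfunctor `G ⊆ h_B` which is fppf-local and whose restrictions to the members `X i` of an fppf
covering of `B` are representable by monomorphisms `E i ⟶ X i` which are separated, locally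
quasi-finite and locally of finite type (e.g. monomorphisms locally of finite type) is representable
by a monomorphism `U ⟶ B`: descent data for ind-quasi-affine morphisms are effective.
-/

set_option autoImplicit false
set_option linter.unusedSectionVars false
set_option linter.unusedVariables false
set_option linter.style.haveILetI false

universe u

open CategoryTheory CategoryTheory.Limits AlgebraicGeometry Opposite

namespace Groth.Agent.Lib.T2H7.SubRep

/-- separated locally quasi-finite morphisms locally of finite type are ind-quasi-affine (by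
Zariski's main theorem). -/
theorem isIndQuasiAffineHom_of_lqf {X Y : Scheme.{u}} (f : X ⟶ Y) [IsSeparated f]
    [LocallyQuasiFinite f] [LocallyOfFiniteType f] : MoreMor.IsIndQuasiAffineHom f := by
  rw [Groth.Agent.Lib.Helper2.isIndQuasiAffineHom_iff]
  intro V hV U hUV hU
  haveI : IsAffine (V : Scheme.{u}) := hV
  haveI : CompactSpace (U : Scheme.{u}) := isCompact_iff_compactSpace.mp hU
  let h : (U : Scheme.{u}) ⟶ (V : Scheme.{u}) := f.resLE V U hUV
  haveI : QuasiCompact h := inferInstance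
  haveI : IsAffine h.normalization := isAffine_of_isAffineHom h.fromNormalization
  exact Scheme.IsQuasiAffine.of_isImmersion h.toNormalization

section Glue

variable {S : Scheme.{u}}

/-- fppf gluing of morphisms into a scheme over `S`. -/
theorem fppf_glue (U' T' : Over S) {ι : Type u} (Ti : ι → Over S) (d : ∀ i, Ti i ⟶ T')
    (hfl : ∀ i, Flat (d i).left) (hfp : ∀ i, LocallyOfFinitePresentation (d i).left)
    (hsurj : ∀ t : T'.left, ∃ i, t ∈ Set.range (d i).left)
    (x : ∀ i, Ti i ⟶ U')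
    (compat : ∀ (i j : ι) (Z : Over S) (gi : Z ⟶ Ti i) (gj : Z ⟶ Ti j),
      gi ≫ d i = gj ≫ d j → gi ≫ x i = gj ≫ x j) :
    ∃! t : T' ⟶ U', ∀ i, d i ≫ t = x i := by
  have hmem : Sieve.ofArrows Ti d ∈ AlgSp.J S T' := by
    rw [GrothendieckTopology.mem_over_iff, Sieve.overEquiv_ofArrows]
    apply Precoverage.generate_mem_toGrothendieck
    rw [Scheme.fppfPrecoverage, Scheme.ofArrows_mem_precoverage_iff]
    refine ⟨fun t => ?_, fun i => ⟨hfl i, hfp i⟩⟩
    obtain ⟨i, y, hy⟩ := hsurj t
    exact ⟨i, y, hy⟩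
  have hsh : Presieve.IsSheaf (AlgSp.J S) ((AlgSp.yon S).obj U').obj :=
    (isSheaf_iff_isSheaf_of_type _ _).1 ((AlgSp.yon S).obj U').property
  have h1 := hsh.isSheafFor _ hmem
  rw [Presieve.isSheafFor_arrows_iff] at h1
  obtain ⟨t, ht, htu⟩ := h1 (fun i => ⟨x i⟩) (by
    intro i j Z gi gj hg
    apply ULift.ext
    exact compat i j Z gi gj hg)
  refine ⟨t.down, fun i => congrArg ULift.down (ht i), fun t' ht' => ?_⟩
  exact congrArg ULift.down (htu ⟨t'⟩ (fun i => ULift.ext _ _ (ht' i)))

theorem fppf_hom_ext (U' T' : Over S) {ι : Type u} (Ti : ι → Over S) (d : ∀ i, Ti i ⟶ T')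
    (hfl : ∀ i, Flat (d i).left) (hfp : ∀ i, LocallyOfFinitePresentation (d i).left)
    (hsurj : ∀ t : T'.left, ∃ i, t ∈ Set.range (d i).left)
    (x y : T' ⟶ U') (h : ∀ i, d i ≫ x = d i ≫ y) : x = y := by
  obtain ⟨t, -, htu⟩ := fppf_glue U' T' Ti d hfl hfp hsurj (fun i => d i ≫ x) (by
    intro i j Z gi gj hg
    rw [← Category.assoc, hg, Category.assoc])
  rw [htu x (fun i => rfl), htu y (fun i => (h i).symm)]

end Glue

section Main

open Desc Groth.Agent.Lib.T2H7.DescIQA

variable {B : Scheme.{u}} {ι : Type u} {X : ι → Scheme.{u}} (f : ∀ i, X i ⟶ B)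
  (E : ∀ i, Over (X i)) [hmono : ∀ i, Mono (E i).hom]
  (G : ∀ ⦃T : Scheme.{u}⦄, (T ⟶ B) → Prop)
  (hE : ∀ (i : ι) ⦃T : Scheme.{u}⦄ (c : T ⟶ X i), Nonempty (Lifts (E i) c) ↔ G (c ≫ f i))

instance subsingleton_lifts (i : ι) {T : Scheme.{u}} (c : T ⟶ X i) :
    Subsingleton (Lifts (E i) c) :=
  ⟨fun v w => Subtype.ext ((cancel_mono (E i).hom).1 (v.2.trans w.2.symm))⟩

/-- the descent datum attached to the family of monomorphisms. -/
noncomputable def dd : SchDDFam f where
  obj := E
  φ T i j x₀ x₁ h :=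
    { toFun := fun v => Classical.choice ((hE j x₁).2 (by rw [← h]; exact (hE i x₀).1 ⟨v⟩))
      invFun := fun v => Classical.choice ((hE i x₀).2 (by rw [h]; exact (hE j x₁).1 ⟨v⟩))
      left_inv := fun v => Subsingleton.elim _ _
      right_inv := fun v => Subsingleton.elim _ _ }
  φ_natural T T' g i j x₀ x₁ h y₀ y₁ hy₀ hy₁ h' v v' hv' := by
    rw [← cancel_mono (E j).hom, Category.assoc]
    have e1 := (Classical.choice ((hE j y₁).2 (by rw [← h']; exact (hE i y₀).1 ⟨v'⟩))).2
    have e2 := (Classical.choice ((hE j x₁).2 (by rw [← h]; exact (hE i x₀).1 ⟨v⟩))).2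
    refine e1.trans ?_
    erw [e2]
    exact hy₁.symm
  φ_self T i x v := Subsingleton.elim _ _
  φ_comp T i j k x₀ x₁ x₂ h₀₁ h₁₂ v := Subsingleton.elim _ _

/-- the base change of the covering family along a test morphism, as objects over `B`. -/
noncomputable abbrev Pi {T : Scheme.{u}} (c : T ⟶ B) (i : ι) : Over B :=
  Over.mk (pullback.fst c (f i) ≫ c)

/-- the covering maps. -/
noncomputable abbrev di {T : Scheme.{u}} (c : T ⟶ B) (i : ι) : Pi f c i ⟶ Over.mk c :=
  Over.homMk (pullback.fst c (f i)) rfl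

theorem di_surj (hsurj : ∀ b : B, ∃ i, b ∈ Set.range (f i)) {T : Scheme.{u}} (c : T ⟶ B)
    (t : (Over.mk c).left) : ∃ i, t ∈ Set.range (di f c i).left := by
  obtain ⟨i, y, hy⟩ := hsurj (c t)
  obtain ⟨z, hz, -⟩ := Scheme.Pullback.exists_preimage_pullback (f := c) (g := f i) t y hy.symm
  exact ⟨i, z, hz⟩

include hE in
/-- **Representability of an fppf-local subfunctor of `h_B`** which is representable by
ind-quasi-affine monomorphisms locally for an fppf covering. -/
theorem exists_rep (hfl : ∀ i, Flat (f i)) (hfp : ∀ i, LocallyOfFinitePresentation (f i))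
    (hsurj : ∀ b : B, ∃ i, b ∈ Set.range (f i))
    (hpre : ∀ ⦃T T' : Scheme.{u}⦄ (d : T' ⟶ T) (c : T ⟶ B), G c → G (d ≫ c))
    (hloc : ∀ ⦃T : Scheme.{u}⦄ (c : T ⟶ B), (∀ i, G (pullback.fst c (f i) ≫ c)) → G c)
    (hQA : ∀ i, MoreMor.IsIndQuasiAffineHom (E i).hom) :
    ∃ U : Over B, Mono U.hom ∧
      ∀ ⦃T : Scheme.{u}⦄ (c : T ⟶ B), Nonempty (Lifts U c) ↔ G c := by
  have hf : Presieve.ofArrows X f ∈ Scheme.fpqcPrecoverage B := by
    apply Scheme.fppfPrecoverage_le_fpqcPrecoverage
    rw [Scheme.fppfPrecoverage, Scheme.ofArrows_mem_precoverage_iff]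
    refine ⟨fun b => ?_, fun i => ⟨hfl i, hfp i⟩⟩
    obtain ⟨i, y, hy⟩ := hsurj b
    exact ⟨i, y, hy⟩
  obtain ⟨U, ⟨e⟩⟩ := indQA_family_effective f hf (dd f E G hE) hQA
  refine ⟨U, ?_⟩
  obtain ⟨a, b, hab, hw1, hw2⟩ : ∃ (a : ∀ i, pullback (f i) U.hom ⟶ (E i).left)
      (b : ∀ i, (E i).left ⟶ pullback (f i) U.hom), (∀ i, a i ≫ b i = 𝟙 _) ∧
      (∀ i, a i ≫ (E i).hom = pullback.fst (f i) U.hom) ∧
      (∀ i, b i ≫ pullback.fst (f i) U.hom = (E i).hom) := by
    refine ⟨fun i => (e.hom.hom i).left, fun i => (e.inv.hom i).left, fun i => ?_,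
      fun i => Over.w (e.hom.hom i), fun i => Over.w (e.inv.hom i)⟩
    have h1 : (e.hom ≫ e.inv).hom i = (𝟙 ((toDDFam f).obj U) : _ ⟶ _).hom i := by
      rw [e.hom_inv_id]
    rw [SchDDFam.comp_hom, SchDDFam.id_hom] at h1
    exact congrArg (fun m => m.left) h1
  -- lifts to `E i` and to `U`
  have star : ∀ (i : ι) ⦃T : Scheme.{u}⦄ (c : T ⟶ X i),
      Nonempty (Lifts (E i) c) ↔ Nonempty (Lifts U (c ≫ f i)) := by
    intro i T c
    constructor
    · rintro ⟨v⟩
      refine ⟨⟨v.1 ≫ b i ≫ pullback.snd (f i) U.hom, ?_⟩⟩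
      rw [Category.assoc, Category.assoc, ← pullback.condition, ← Category.assoc (b i),
        hw2, ← Category.assoc, v.2]
    · rintro ⟨u⟩
      refine ⟨⟨pullback.lift c u.1 u.2.symm ≫ a i, ?_⟩⟩
      rw [Category.assoc, hw1, pullback.lift_fst]
  -- lifts to `U` are unique
  have hsub : ∀ ⦃T : Scheme.{u}⦄ (c : T ⟶ B) (v w : Lifts U c), v = w := by
    intro T c v w
    have key : ∀ i, pullback.fst c (f i) ≫ v.1 = pullback.fst c (f i) ≫ w.1 := by
      intro i
      have hv : (pullback.fst c (f i) ≫ v.1) ≫ U.hom = pullback.snd c (f i) ≫ f i := by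
        rw [Category.assoc, v.2, pullback.condition]
      have hw : (pullback.fst c (f i) ≫ w.1) ≫ U.hom = pullback.snd c (f i) ≫ f i := by
        rw [Category.assoc, w.2, pullback.condition]
      let av : Lifts (E i) (pullback.snd c (f i)) :=
        ⟨pullback.lift (pullback.snd c (f i)) (pullback.fst c (f i) ≫ v.1) hv.symm ≫
          a i, by rw [Category.assoc, hw1, pullback.lift_fst]⟩
      let aw : Lifts (E i) (pullback.snd c (f i)) :=
        ⟨pullback.lift (pullback.snd c (f i)) (pullback.fst c (f i) ≫ w.1) hw.symm ≫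
          a i, by rw [Category.assoc, hw1, pullback.lift_fst]⟩
      have h1 : av.1 = aw.1 := congrArg Subtype.val (Subsingleton.elim av aw)
      have h2 : pullback.lift (pullback.snd c (f i)) (pullback.fst c (f i) ≫ v.1) hv.symm =
          pullback.lift (pullback.snd c (f i)) (pullback.fst c (f i) ≫ w.1) hw.symm := by
        have h3 := congrArg (fun m => m ≫ b i) h1
        simpa [av, aw, hab] using h3
      have h4 := congrArg (fun m => m ≫ pullback.snd (f i) U.hom) h2
      rw [pullback.lift_snd, pullback.lift_snd] at h4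
      exact h4
    have h5 : (Over.homMk v.1 v.2 : Over.mk c ⟶ U) = Over.homMk w.1 w.2 := by
      refine fppf_hom_ext U (Over.mk c) (Pi f c) (di f c) (fun i => ?_) (fun i => ?_)
        (di_surj f hsurj c) _ _ (fun i => ?_)
      · exact inferInstanceAs (Flat (pullback.fst c (f i)))
      · exact inferInstanceAs (LocallyOfFinitePresentation (pullback.fst c (f i)))
      · apply Over.OverMorphism.ext
        exact key i
    apply Subtype.ext
    exact congrArg (fun m => m.left) h5
  refine ⟨⟨fun g1 g2 h => ?_⟩, ?_⟩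
  · exact congrArg Subtype.val (hsub (g1 ≫ U.hom) ⟨g1, rfl⟩ ⟨g2, h.symm⟩)
  intro T c
  constructor
  · rintro ⟨v⟩
    apply hloc
    intro i
    rw [pullback.condition]
    refine (hE i _).1 ((star i _).2 ⟨⟨pullback.fst c (f i) ≫ v.1, ?_⟩⟩)
    rw [Category.assoc, v.2, pullback.condition]
  · intro hG
    have h1 : ∀ i, Nonempty (Lifts U (pullback.fst c (f i) ≫ c)) := by
      intro i
      have h2 : G (pullback.snd c (f i) ≫ f i) := by
        rw [← pullback.condition]
        exact hpre _ _ hG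
      have h3 := (star i _).1 ((hE i _).2 h2)
      rw [← pullback.condition] at h3
      exact h3
    have u : ∀ i, Lifts U (pullback.fst c (f i) ≫ c) := fun i => Classical.choice (h1 i)
    obtain ⟨t, -, -⟩ := fppf_glue U (Over.mk c) (Pi f c) (di f c)
      (fun i => inferInstanceAs (Flat (pullback.fst c (f i))))
      (fun i => inferInstanceAs (LocallyOfFinitePresentation (pullback.fst c (f i))))
      (di_surj f hsurj c) (fun i => Over.homMk (u i).1 (u i).2) (by
        intro i j Z gi gj hg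
        apply Over.OverMorphism.ext
        have h4 := hsub Z.hom ⟨(gi ≫ (Over.homMk (u i).1 (u i).2 : Pi f c i ⟶ U)).left, Over.w _⟩
          ⟨(gj ≫ (Over.homMk (u j).1 (u j).2 : Pi f c j ⟶ U)).left, Over.w _⟩
        exact congrArg Subtype.val h4)
    exact ⟨⟨t.left, Over.w t⟩⟩

end Main

end Groth.Agent.Lib.T2H7.SubRep
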