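import Mathlib
import Groth.Prelude.Def_AlgSp
import Groth.Agent.S13210
import Groth.Agent.S9884
import Groth.Agent.Lib.Helper12ZarGlue
import Groth.Agent.Lib.T2H7SubRep

/-!
# Representability of the diagonal of a sheaf with a chart whose kernel pair is a scheme (helper7)

Let `F` be an fppf sheaf over `S`, `p : h_U ⟶ F` a locally surjective map from a scheme whose
kernel pair is represented by a scheme `R` with `t : R ⟶ U` locally of finite type.  Then the
diagonal of `F` is representable by schemes: the equalizer of two points `a, b : h_T ⟶ F` is, locally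
for the fppf topology on `T`, a base change of the monomorphism `(t, s) : R ⟶ U ×_S U`, and such
descent data are effective.
-/

set_option autoImplicit false
set_option linter.unusedSectionVars false
set_option linter.unusedVariables false
set_option linter.style.haveILetI false

universe u

open CategoryTheory CategoryTheory.Limits AlgebraicGeometry Opposite

namespace Groth.Agent.Lib.T2H7.DiagRep

open Groth.Agent.S13210 Groth.Agent.Lib.T2H7.SubRep

variable {S : Scheme.{u}}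

/-- maps from a representable sheaf to a sheaf which agree on an fppf covering are equal. -/
theorem sheaf_hom_ext (F : AlgSp.Sp S) (T' : Over S) {ι : Type u} (Ti : ι → Over S)
    (d : ∀ i, Ti i ⟶ T')
    (hfl : ∀ i, Flat (d i).left) (hfp : ∀ i, LocallyOfFinitePresentation (d i).left)
    (hsurj : ∀ t : T'.left, ∃ i, t ∈ Set.range (d i).left)
    (x y : (AlgSp.yon S).obj T' ⟶ F)
    (h : ∀ i, (AlgSp.yon S).map (d i) ≫ x = (AlgSp.yon S).map (d i) ≫ y) : x = y := by
  have hmem : Sieve.ofArrows Ti d ∈ AlgSp.J S T' := by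
    rw [GrothendieckTopology.mem_over_iff, Sieve.overEquiv_ofArrows]
    apply Precoverage.generate_mem_toGrothendieck
    rw [Scheme.fppfPrecoverage, Scheme.ofArrows_mem_precoverage_iff]
    refine ⟨fun t => ?_, fun i => ⟨hfl i, hfp i⟩⟩
    obtain ⟨i, y, hy⟩ := hsurj t
    exact ⟨i, y, hy⟩
  have hsh : Presieve.IsSheaf (AlgSp.J S) F.obj := (isSheaf_iff_isSheaf_of_type _ _).1 F.property
  have h1 := hsh.isSheafFor _ hmem
  rw [Presieve.isSheafFor_arrows_iff] at h1
  obtain ⟨t, -, htu⟩ := h1 (fun i => F.obj.map (d i).op (yEquiv T' F x)) (by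
    intro i j Z gi gj hg
    have e1 : F.obj.map gi.op (F.obj.map (d i).op (yEquiv T' F x)) =
        F.obj.map (gi ≫ d i).op (yEquiv T' F x) := by
      rw [op_comp, Functor.map_comp]
      rfl
    have e2 : F.obj.map gj.op (F.obj.map (d j).op (yEquiv T' F x)) =
        F.obj.map (gj ≫ d j).op (yEquiv T' F x) := by
      rw [op_comp, Functor.map_comp]
      rfl
    rw [e1, e2, hg])
  apply (yEquiv T' F).injective
  rw [htu (yEquiv T' F x) (fun i => rfl), htu (yEquiv T' F y) (fun i => ?_)]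
  rw [Groth.Agent.Lib.Helper12.ZarGlue.map_yEquiv, Groth.Agent.Lib.Helper12.ZarGlue.map_yEquiv, h i]

theorem comp_diag_fst (F : AlgSp.Sp S) {A : AlgSp.Sp S} (x : A ⟶ F) :
    (x ≫ Limits.diag F) ≫ prod.fst = x := by
  rw [Category.assoc]
  erw [prod.lift_fst]
  exact Category.comp_id _

theorem comp_diag_snd (F : AlgSp.Sp S) {A : AlgSp.Sp S} (x : A ⟶ F) :
    (x ≫ Limits.diag F) ≫ prod.snd = x := by
  rw [Category.assoc]
  erw [prod.lift_snd]
  exact Category.comp_id _

section Main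

variable (F : AlgSp.Sp S) {R U : Over S} (p : (AlgSp.yon S).obj U ⟶ F) (s t : R ⟶ U)
  (sq : IsPullback ((AlgSp.yon S).map t) ((AlgSp.yon S).map s) p p)

include sq in
theorem rel_iff {T : Over S} (a b : T ⟶ U) :
    (∃ r : T ⟶ R, r ≫ t = a ∧ r ≫ s = b) ↔
      (AlgSp.yon S).map a ≫ p = (AlgSp.yon S).map b ≫ p := by
  constructor
  · rintro ⟨r, rfl, rfl⟩
    rw [Functor.map_comp, Functor.map_comp, Category.assoc, Category.assoc, sq.w]
  · intro hab
    obtain ⟨r, hr⟩ := (AlgSp.yon S).map_surjective (sq.lift _ _ hab)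
    refine ⟨r, ?_, ?_⟩
    · apply (AlgSp.yon S).map_injective
      rw [Functor.map_comp, hr, sq.lift_fst]
    · apply (AlgSp.yon S).map_injective
      rw [Functor.map_comp, hr, sq.lift_snd]

/-- the morphism `(t, s) : R ⟶ U ×_S U`. -/
noncomputable def jR : R.left ⟶ pullback U.hom U.hom :=
  pullback.lift t.left s.left (by rw [Over.w t, Over.w s])

@[reassoc (attr := simp)]
theorem jR_fst : jR s t ≫ pullback.fst U.hom U.hom = t.left := pullback.lift_fst _ _ _

@[reassoc (attr := simp)]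
theorem jR_snd : jR s t ≫ pullback.snd U.hom U.hom = s.left := pullback.lift_snd _ _ _

include sq in
theorem mono_jR : Mono (jR s t) := by
  constructor
  intro T r1 r2 h
  have h1 : r1 ≫ t.left = r2 ≫ t.left := by
    have := congrArg (fun m => m ≫ pullback.fst U.hom U.hom) h
    simpa using this
  have h2 : r1 ≫ s.left = r2 ≫ s.left := by
    have := congrArg (fun m => m ≫ pullback.snd U.hom U.hom) h
    simpa using this
  have hR : r2 ≫ R.hom = r1 ≫ R.hom := by
    rw [← Over.w t, ← Category.assoc, ← h1, Category.assoc]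
  let r1' : Over.mk (r1 ≫ R.hom) ⟶ R := Over.homMk r1 rfl
  let r2' : Over.mk (r1 ≫ R.hom) ⟶ R := Over.homMk r2 hR
  have h3 : r1' = r2' := by
    apply (AlgSp.yon S).map_injective
    apply sq.hom_ext
    · rw [← Functor.map_comp, ← Functor.map_comp]
      congr 1
      apply Over.OverMorphism.ext
      exact h1
    · rw [← Functor.map_comp, ← Functor.map_comp]
      congr 1
      apply Over.OverMorphism.ext
      exact h2
  exact congrArg (fun m => m.left) h3

variable {T₀ : Over S} (a b : (AlgSp.yon S).obj T₀ ⟶ F)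

/-- the equalizer subfunctor of `h_{T₀}`. -/
def Geq ⦃T : Scheme.{u}⦄ (c : T ⟶ T₀.left) : Prop :=
  ∀ (h : T ⟶ S) (hc : c ≫ T₀.hom = h),
    (AlgSp.yon S).map (Over.homMk c hc : Over.mk h ⟶ T₀) ≫ a =
      (AlgSp.yon S).map (Over.homMk c hc : Over.mk h ⟶ T₀) ≫ b

theorem geq_iff {T' : Over S} (c : T' ⟶ T₀) :
    Geq F a b c.left ↔ (AlgSp.yon S).map c ≫ a = (AlgSp.yon S).map c ≫ b := by
  constructor
  · intro h
    exact h T'.hom (Over.w c)
  · intro h hS hc
    obtain rfl : hS = T'.hom := hc.symm.trans (Over.w c)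
    exact h

theorem geq_pre ⦃T T' : Scheme.{u}⦄ (d : T' ⟶ T) (c : T ⟶ T₀.left) (hG : Geq F a b c) :
    Geq F a b (d ≫ c) := by
  intro h hc
  subst hc
  have e : (Over.homMk (d ≫ c) rfl : Over.mk ((d ≫ c) ≫ T₀.hom) ⟶ T₀) =
      (Over.homMk d (Category.assoc _ _ _).symm : Over.mk ((d ≫ c) ≫ T₀.hom) ⟶
        Over.mk (c ≫ T₀.hom)) ≫ Over.homMk c rfl := by
    apply Over.OverMorphism.ext
    rfl
  rw [e, Functor.map_comp]
  exact (Category.assoc _ _ _).trans ((congrArg (_ ≫ ·) (hG _ rfl)).trans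
    (Category.assoc _ _ _).symm)

theorem geq_loc {ι : Type u} {X : ι → Scheme.{u}} (f : ∀ i, X i ⟶ T₀.left)
    (hfl : ∀ i, Flat (f i)) (hfp : ∀ i, LocallyOfFinitePresentation (f i))
    (hsurj : ∀ x : T₀.left, ∃ i, x ∈ Set.range (f i))
    ⦃T : Scheme.{u}⦄ (c : T ⟶ T₀.left) (hG : ∀ i, Geq F a b (pullback.fst c (f i) ≫ c)) :
    Geq F a b c := by
  intro h hc
  subst hc
  refine sheaf_hom_ext F (Over.mk (c ≫ T₀.hom))
    (fun i => Over.mk (pullback.fst c (f i) ≫ c ≫ T₀.hom))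
    (fun i => Over.homMk (pullback.fst c (f i)) rfl)
    (fun i => inferInstanceAs (Flat (pullback.fst c (f i))))
    (fun i => inferInstanceAs (LocallyOfFinitePresentation (pullback.fst c (f i))))
    (fun x => ?_) _ _ (fun i => ?_)
  · obtain ⟨i, y, hy⟩ := hsurj (c x)
    obtain ⟨z, hz, -⟩ := Scheme.Pullback.exists_preimage_pullback (f := c) (g := f i) x y hy.symm
    exact ⟨i, z, hz⟩
  · have h1 := hG i _ (Category.assoc _ _ _)
    have e : (Over.homMk (pullback.fst c (f i) ≫ c) (Category.assoc _ _ _) :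
        Over.mk (pullback.fst c (f i) ≫ c ≫ T₀.hom) ⟶ T₀) =
        (Over.homMk (pullback.fst c (f i)) rfl : Over.mk (pullback.fst c (f i) ≫ c ≫ T₀.hom) ⟶
          Over.mk (c ≫ T₀.hom)) ≫ Over.homMk c rfl := by
      apply Over.OverMorphism.ext
      rfl
    rw [e, Functor.map_comp] at h1
    exact (Category.assoc _ _ _).symm.trans (h1.trans (Category.assoc _ _ _))

/-- a common fppf refinement on which two points of `F` lift to `U`. -/
theorem exists_cover [Sheaf.IsLocallySurjective p] :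
    ∃ (X : T₀.left → Scheme.{u}) (f : ∀ x, X x ⟶ T₀.left), (∀ x, Flat (f x)) ∧
      (∀ x, LocallyOfFinitePresentation (f x)) ∧ (∀ x : T₀.left, x ∈ Set.range (f x)) ∧
      ∀ x, ∃ (ax bx : Over.mk (f x ≫ T₀.hom) ⟶ U),
        (AlgSp.yon S).map ax ≫ p =
          (AlgSp.yon S).map (Over.homMk (f x) rfl : Over.mk (f x ≫ T₀.hom) ⟶ T₀) ≫ a ∧
        (AlgSp.yon S).map bx ≫ p =
          (AlgSp.yon S).map (Over.homMk (f x) rfl : Over.mk (f x ≫ T₀.hom) ⟶ T₀) ≫ b := by
  obtain ⟨Ra, hRa, hla⟩ := Groth.Agent.S9884.exists_fppf_lift p a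
  obtain ⟨Rb, hRb, hlb⟩ := Groth.Agent.S9884.exists_fppf_lift p b
  have key : ∀ x : T₀.left, ∃ (X : Scheme.{u}) (f : X ⟶ T₀.left), Flat f ∧
      LocallyOfFinitePresentation f ∧ x ∈ Set.range f ∧
      ∃ (ax bx : Over.mk (f ≫ T₀.hom) ⟶ U),
        (AlgSp.yon S).map ax ≫ p =
          (AlgSp.yon S).map (Over.homMk f rfl : Over.mk (f ≫ T₀.hom) ⟶ T₀) ≫ a ∧
        (AlgSp.yon S).map bx ≫ p =
          (AlgSp.yon S).map (Over.homMk f rfl : Over.mk (f ≫ T₀.hom) ⟶ T₀) ≫ b := by
    intro x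
    obtain ⟨Ya, ga, hga, ya, hya⟩ := Scheme.JointlySurjective.exists_eq Ra hRa x
    obtain ⟨Yb, gb, hgb, yb, hyb⟩ := Scheme.JointlySurjective.exists_eq Rb hRb x
    have hPa : Flat ga ∧ LocallyOfFinitePresentation ga := hRa.2 hga
    have hPb : Flat gb ∧ LocallyOfFinitePresentation gb := hRb.2 hgb
    haveI := hPa.1
    haveI := hPa.2
    haveI := hPb.1
    haveI := hPb.2
    obtain ⟨da, hda⟩ := hla ga hga
    obtain ⟨db, hdb⟩ := hlb gb hgb
    obtain ⟨da', rfl⟩ := (AlgSp.yon S).map_surjective da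
    obtain ⟨db', rfl⟩ := (AlgSp.yon S).map_surjective db
    refine ⟨pullback ga gb, pullback.fst ga gb ≫ ga, inferInstance, inferInstance, ?_, ?_⟩
    · obtain ⟨z, hz1, hz2⟩ := Scheme.Pullback.exists_preimage_pullback (f := ga) (g := gb) ya yb
        (hya.trans hyb.symm)
      exact ⟨z, by rw [Scheme.Hom.comp_apply, hz1, hya]⟩
    · let m1 : Over.mk ((pullback.fst ga gb ≫ ga) ≫ T₀.hom) ⟶ Over.mk (ga ≫ T₀.hom) :=
        Over.homMk (pullback.fst ga gb) (Category.assoc _ _ _).symm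
      let m2 : Over.mk ((pullback.fst ga gb ≫ ga) ≫ T₀.hom) ⟶ Over.mk (gb ≫ T₀.hom) :=
        Over.homMk (pullback.snd ga gb) (by
          change pullback.snd ga gb ≫ gb ≫ T₀.hom = (pullback.fst ga gb ≫ ga) ≫ T₀.hom
          rw [← Category.assoc, ← pullback.condition])
      refine ⟨m1 ≫ da', m2 ≫ db', ?_, ?_⟩
      · rw [Functor.map_comp, Category.assoc ((AlgSp.yon S).map m1), hda,
          ← Category.assoc ((AlgSp.yon S).map m1), ← Functor.map_comp]
        congr 2
      · rw [Functor.map_comp, Category.assoc ((AlgSp.yon S).map m2), hdb,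
          ← Category.assoc ((AlgSp.yon S).map m2), ← Functor.map_comp]
        congr 2
        apply Over.OverMorphism.ext
        exact pullback.condition.symm
  choose X f hfl hfp hsurj hab using key
  exact ⟨X, f, hfl, hfp, hsurj, hab⟩

/-- the pair of lifts as a morphism to `U ×_S U`. -/
noncomputable def abMap {X₁ : Scheme.{u}} (f₁ : X₁ ⟶ T₀.left)
    (ax bx : Over.mk (f₁ ≫ T₀.hom) ⟶ U) : X₁ ⟶ pullback U.hom U.hom :=
  pullback.lift ax.left bx.left (by rw [Over.w ax, Over.w bx])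

@[reassoc (attr := simp)]
theorem abMap_fst {X₁ : Scheme.{u}} (f₁ : X₁ ⟶ T₀.left) (ax bx : Over.mk (f₁ ≫ T₀.hom) ⟶ U) :
    abMap f₁ ax bx ≫ pullback.fst U.hom U.hom = ax.left := pullback.lift_fst _ _ _

@[reassoc (attr := simp)]
theorem abMap_snd {X₁ : Scheme.{u}} (f₁ : X₁ ⟶ T₀.left) (ax bx : Over.mk (f₁ ≫ T₀.hom) ⟶ U) :
    abMap f₁ ax bx ≫ pullback.snd U.hom U.hom = bx.left := pullback.lift_snd _ _ _

/-- the local model of the equalizer over a member of the cover. -/
noncomputable def Eloc {X₁ : Scheme.{u}} (f₁ : X₁ ⟶ T₀.left)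
    (ax bx : Over.mk (f₁ ≫ T₀.hom) ⟶ U) : Over X₁ :=
  Over.mk (pullback.fst (abMap f₁ ax bx) (jR s t))

include sq in
theorem lifts_iff {X₁ : Scheme.{u}} (f₁ : X₁ ⟶ T₀.left)
    (ax bx : Over.mk (f₁ ≫ T₀.hom) ⟶ U)
    (hax : (AlgSp.yon S).map ax ≫ p =
      (AlgSp.yon S).map (Over.homMk f₁ rfl : Over.mk (f₁ ≫ T₀.hom) ⟶ T₀) ≫ a)
    (hbx : (AlgSp.yon S).map bx ≫ p =
      (AlgSp.yon S).map (Over.homMk f₁ rfl : Over.mk (f₁ ≫ T₀.hom) ⟶ T₀) ≫ b)
    ⦃T : Scheme.{u}⦄ (c : T ⟶ X₁) :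
    Nonempty (Desc.Lifts (Eloc s t f₁ ax bx) c) ↔ Geq F a b (c ≫ f₁) := by
  -- the test object and the basic identities
  let T' : Over S := Over.mk ((c ≫ f₁) ≫ T₀.hom)
  let c' : T' ⟶ Over.mk (f₁ ≫ T₀.hom) := Over.homMk c (Category.assoc _ _ _).symm
  have e : (Over.homMk (c ≫ f₁) rfl : T' ⟶ T₀) = c' ≫ Over.homMk f₁ rfl := by
    apply Over.OverMorphism.ext
    rfl
  have hA : (AlgSp.yon S).map (c' ≫ ax) ≫ p =
      (AlgSp.yon S).map (Over.homMk (c ≫ f₁) rfl : T' ⟶ T₀) ≫ a := by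
    rw [e, Functor.map_comp, Functor.map_comp, Category.assoc ((AlgSp.yon S).map c'), hax,
      Category.assoc ((AlgSp.yon S).map c')]
  have hB : (AlgSp.yon S).map (c' ≫ bx) ≫ p =
      (AlgSp.yon S).map (Over.homMk (c ≫ f₁) rfl : T' ⟶ T₀) ≫ b := by
    rw [e, Functor.map_comp, Functor.map_comp, Category.assoc ((AlgSp.yon S).map c'), hbx,
      Category.assoc ((AlgSp.yon S).map c')]
  have hgeq : Geq F a b (c ≫ f₁) ↔
      (AlgSp.yon S).map (c' ≫ ax) ≫ p = (AlgSp.yon S).map (c' ≫ bx) ≫ p := by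
    rw [hA, hB]
    constructor
    · intro h
      exact h _ rfl
    · intro h hS hc
      subst hc
      exact h
  rw [hgeq, ← rel_iff F p s t sq]
  constructor
  · rintro ⟨v⟩
    let v0 : T ⟶ pullback (abMap f₁ ax bx) (jR s t) := v.1
    have hv : v0 ≫ pullback.fst (abMap f₁ ax bx) (jR s t) = c := v.2
    have hcond : v0 ≫ pullback.snd (abMap f₁ ax bx) (jR s t) ≫ jR s t = c ≫ abMap f₁ ax bx := by
      rw [← pullback.condition, ← Category.assoc, hv]
    have h1 : (v0 ≫ pullback.snd (abMap f₁ ax bx) (jR s t)) ≫ t.left = c ≫ ax.left := by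
      rw [← jR_fst s t, ← abMap_fst f₁ ax bx, Category.assoc, reassoc_of% hcond]
    have h2 : (v0 ≫ pullback.snd (abMap f₁ ax bx) (jR s t)) ≫ s.left = c ≫ bx.left := by
      rw [← jR_snd s t, ← abMap_snd f₁ ax bx, Category.assoc, reassoc_of% hcond]
    refine ⟨Over.homMk (v0 ≫ pullback.snd (abMap f₁ ax bx) (jR s t)) ?_, ?_, ?_⟩
    · change (v0 ≫ pullback.snd (abMap f₁ ax bx) (jR s t)) ≫ R.hom = (c ≫ f₁) ≫ T₀.hom
      rw [← Over.w t, ← Category.assoc, h1, Category.assoc, Over.w ax]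
      exact (Category.assoc _ _ _).symm
    · apply Over.OverMorphism.ext
      exact h1
    · apply Over.OverMorphism.ext
      exact h2
  · rintro ⟨r, hr1, hr2⟩
    have h1 : r.left ≫ t.left = c ≫ ax.left := congrArg (fun m => m.left) hr1
    have h2 : r.left ≫ s.left = c ≫ bx.left := congrArg (fun m => m.left) hr2
    have h3 : c ≫ abMap f₁ ax bx = r.left ≫ jR s t := by
      apply pullback.hom_ext
      · rw [Category.assoc, Category.assoc, jR_fst, h1, abMap_fst]
      · rw [Category.assoc, Category.assoc, jR_snd, h2, abMap_snd]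
    exact ⟨⟨pullback.lift c r.left h3, pullback.lift_fst _ _ _⟩⟩

include sq in
/-- **Representability of the diagonal.** -/
theorem representable_diag [Sheaf.IsLocallySurjective p] [LocallyOfFiniteType t.left] :
    AlgSp.Representable (Limits.diag F) := by
  intro T₀ g
  let a : (AlgSp.yon S).obj T₀ ⟶ F := g ≫ prod.fst
  let b : (AlgSp.yon S).obj T₀ ⟶ F := g ≫ prod.snd
  obtain ⟨X, f, hfl, hfp, hsurj, hab⟩ := exists_cover F p a b
  choose ax bx hax hbx using hab
  haveI hmj : Mono (jR s t) := mono_jR F p s t sq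
  haveI hlj : LocallyOfFiniteType (jR s t) := by
    haveI : LocallyOfFiniteType (jR s t ≫ pullback.fst U.hom U.hom) := by
      rw [jR_fst]
      infer_instance
    exact locallyOfFiniteType_of_comp (jR s t) (pullback.fst U.hom U.hom)
  haveI hmono : ∀ x, Mono (Eloc s t (f x) (ax x) (bx x)).hom := fun x =>
    inferInstanceAs (Mono (pullback.fst (abMap (f x) (ax x) (bx x)) (jR s t)))
  haveI hlft : ∀ x, LocallyOfFiniteType (Eloc s t (f x) (ax x) (bx x)).hom := fun x =>
    inferInstanceAs (LocallyOfFiniteType (pullback.fst (abMap (f x) (ax x) (bx x)) (jR s t)))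
  obtain ⟨E₀, hE₀mono, hE₀⟩ := exists_rep f (fun x => Eloc s t (f x) (ax x) (bx x)) (Geq F a b)
    (fun x T c => lifts_iff F p s t sq a b (f x) (ax x) (bx x) (hax x) (hbx x) c)
    hfl hfp (fun x => ⟨x, hsurj x⟩) (geq_pre F a b)
    (fun T c hG => geq_loc F a b f hfl hfp (fun x => ⟨x, hsurj x⟩) c hG)
    (fun x => isIndQuasiAffineHom_of_lqf _)
  let W : Over S := Over.mk (E₀.hom ≫ T₀.hom)
  let w : W ⟶ T₀ := Over.homMk E₀.hom rfl
  have hw : (AlgSp.yon S).map w ≫ a = (AlgSp.yon S).map w ≫ b :=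
    (geq_iff F a b w).1 ((hE₀ E₀.hom).1 ⟨⟨𝟙 _, Category.id_comp _⟩⟩)
  refine ⟨W, w, (AlgSp.yon S).map w ≫ a, ?_⟩
  have hcomm : ((AlgSp.yon S).map w ≫ a) ≫ Limits.diag F = (AlgSp.yon S).map w ≫ g := by
    apply Limits.prod.hom_ext
    · rw [comp_diag_fst, Category.assoc]
    · rw [comp_diag_snd, Category.assoc]
      exact hw
  refine isPullback_of_yon hcomm (fun T'' x c hxc => ?_)
  obtain ⟨c', rfl⟩ := (AlgSp.yon S).map_surjective c
  have hx1 : x = (AlgSp.yon S).map c' ≫ a := by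
    have := congrArg (fun m => m ≫ prod.fst) hxc
    rw [comp_diag_fst, Category.assoc] at this
    exact this
  have hx2 : x = (AlgSp.yon S).map c' ≫ b := by
    have := congrArg (fun m => m ≫ prod.snd) hxc
    rw [comp_diag_snd, Category.assoc] at this
    exact this
  obtain ⟨v⟩ := (hE₀ c'.left).2 ((geq_iff F a b c').2 (hx1.symm.trans hx2))
  let v' : T'' ⟶ W := Over.homMk v.1 (by
    change v.1 ≫ E₀.hom ≫ T₀.hom = T''.hom
    rw [← Category.assoc, v.2]
    exact Over.w c')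
  have hv' : v' ≫ w = c' := Over.OverMorphism.ext v.2
  refine ⟨(AlgSp.yon S).map v', ⟨?_, ?_⟩, ?_⟩
  · rw [← Category.assoc, ← Functor.map_comp, hv', hx1]
  · rw [← Functor.map_comp, hv']
  · rintro y ⟨-, hy⟩
    obtain ⟨y', rfl⟩ := (AlgSp.yon S).map_surjective y
    congr 1
    rw [← Functor.map_comp] at hy
    have h1 := (AlgSp.yon S).map_injective hy
    apply Over.OverMorphism.ext
    rw [← cancel_mono E₀.hom]
    have h2 : y'.left ≫ E₀.hom = c'.left := congrArg (fun m => m.left) h1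
    rw [h2]
    exact v.2.symm

end Main

end Groth.Agent.Lib.T2H7.DiagRep
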