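import Mathlib
import Groth.Prelude.Def_AlgSpRep
import Groth.Prelude.Def_AlgSp4
import Groth.Agent.S9873
import Groth.Agent.S9874
import Groth.Agent.S10260
import Groth.Agent.S10265
import Groth.Agent.Lib.Helper12Proper
import Groth.Agent.Lib.Helper15SmLoc

/-!
# Bootstrapping algebraic spaces (helper1)

A sheaf receiving a surjective étale map, representable by algebraic spaces, from an algebraic
space is an algebraic space.
-/

set_option autoImplicit false
universe u
open CategoryTheory CategoryTheory.Limits AlgebraicGeometry Opposite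
open AlgSp

namespace Groth.Agent.Lib.T2H1.Bootstrap

variable {S : Scheme.{u}}

/-- An algebraic space with a locally quasi-finite monomorphism to a scheme is a scheme. -/
theorem exists_iso_yon_of_mono {V' B : AlgSp.Sp S} (hV' : AlgSp.IsAlgSpace V')
    (hB : AlgSp.IsAlgSpace B) {B₀ : Over S} (e : (AlgSp.yon S).obj B₀ ≅ B)
    (j : V' ⟶ B) [Mono j]
    (hj : AlgSp.LocP (@LocallyQuasiFinite ⊓ @LocallyOfFiniteType) j) :
    ∃ V : Over S, Nonempty ((AlgSp.yon S).obj V ≅ V') := by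
  have hrep : AlgSp.Representable j :=
    Groth.Agent.S10260.result (X := ⟨V', hV'⟩) (Y := ⟨B, hB⟩) (ObjectProperty.homMk j) hj
      (Groth.Agent.Lib.Helper12.Proper.isSeparatedMor_of_mono j)
  obtain ⟨V, snd, fst, sq⟩ := hrep e.hom
  haveI : IsIso fst := sq.isIso_fst_of_isIso
  exact ⟨V, ⟨asIso fst⟩⟩

/-- cancellation for locally quasi-finite + locally of finite type. -/
theorem lqf_cancel {A B C : Scheme.{u}} (f : A ⟶ B) (g : B ⟶ C)
    (h : (@LocallyQuasiFinite ⊓ @LocallyOfFiniteType : MorphismProperty Scheme.{u}) (f ≫ g)) :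
    (@LocallyQuasiFinite ⊓ @LocallyOfFiniteType : MorphismProperty Scheme.{u}) f := by
  obtain ⟨h1, h2⟩ := h
  haveI := h1
  haveI := h2
  exact ⟨LocallyQuasiFinite.of_comp f g, locallyOfFiniteType_of_comp f g⟩

/-- `LocP` cancellation: if `j ≫ π` is locally quasi-finite with `π` a morphism to a scheme,
then so is `j` (for targets that are schemes up to isomorphism this is all we need). -/
theorem locP_lqf_of_comp {V' B : AlgSp.Sp S} {T : Over S} (j : V' ⟶ B)
    (π : B ⟶ (AlgSp.yon S).obj T)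
    (h : AlgSp.LocP (@LocallyQuasiFinite ⊓ @LocallyOfFiniteType) (j ≫ π)) :
    AlgSp.LocP (@LocallyQuasiFinite ⊓ @LocallyOfFiniteType) j := by
  intro A B' a b k ha hb hcomm
  obtain ⟨β, hβ⟩ := (AlgSp.yon S).map_surjective (b ≫ π)
  have h1 := h a (𝟙 _) (k ≫ β) ha (AlgSp.repWith_id _ T) (by
    rw [Category.comp_id, Functor.map_comp, hβ, ← Category.assoc, hcomm, Category.assoc])
  rw [Over.comp_left] at h1
  exact lqf_cancel _ _ h1

/-- The hypothesis "representable by algebraic spaces and étale" at the level of sheaves. -/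
def RepBySpEtale {X F : AlgSp.Sp S} (p : X ⟶ F) : Prop :=
  ∀ ⦃T : Over S⦄ (ξ : (AlgSp.yon S).obj T ⟶ F) ⦃F' : AlgSp.Sp S⦄ (fst : F' ⟶ X)
    (snd : F' ⟶ (AlgSp.yon S).obj T), IsPullback fst snd p ξ →
      AlgSp.IsAlgSpace F' ∧ AlgSp.IsEtaleMor snd

/-- Key step: the composite of an étale chart `h_U ⟶ X` of an algebraic space with a map
`X ⟶ F` which is representable by algebraic spaces and étale is representable by schemes. -/
theorem representable_comp_atlas {F : AlgSp.Sp S} (X : AlgSp.Space S) (p : X.obj ⟶ F)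
    (hp : RepBySpEtale p) {U : Over S} (a : (AlgSp.yon S).obj U ⟶ X.obj)
    (ha : AlgSp.RepWith @Etale a) : AlgSp.Representable (a ≫ p) := by
  intro T ξ
  let W := pullback p ξ
  let w1 : W ⟶ X.obj := pullback.fst p ξ
  let w2 : W ⟶ (AlgSp.yon S).obj T := pullback.snd p ξ
  obtain ⟨hW, hw2⟩ := hp ξ w1 w2 (IsPullback.of_hasPullback p ξ)
  let V' := pullback w1 a
  let v1 : V' ⟶ W := pullback.fst w1 a
  let v2 : V' ⟶ (AlgSp.yon S).obj U := pullback.snd w1 a
  have hV' : AlgSp.IsAlgSpace V' :=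
    Groth.Agent.S9874.isAlgSpace_of_isPullback X.property.diag hW (AlgSp.IsAlgSpace.yon_obj U)
      (IsPullback.of_hasPullback w1 a)
  have big : IsPullback v2 (v1 ≫ w2) (a ≫ p) ξ :=
    ((IsPullback.of_hasPullback w1 a).paste_horiz (IsPullback.of_hasPullback p ξ).flip).flip
  have hv1 : AlgSp.RepWith @Etale v1 :=
    MorphismProperty.of_isPullback (IsPullback.of_hasPullback w1 a).flip ha
  have het : AlgSp.IsEtaleMor (v1 ≫ w2) := by
    intro A φ hφ
    rw [← Category.assoc]
    exact hw2 (φ ≫ v1) ((AlgSp.RepWith @Etale).comp_mem _ _ hφ hv1)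
  have hlqf : AlgSp.LocP (@LocallyQuasiFinite ⊓ @LocallyOfFiniteType) (v1 ≫ w2) :=
    (Groth.Agent.S10265.result (X := ⟨V', hV'⟩) (Y := AlgSp.ofScheme S |>.obj T)
      (ObjectProperty.homMk (v1 ≫ w2)) het).1
  -- the map to the product
  let B : AlgSp.Sp S := (AlgSp.yon S).obj U ⨯ (AlgSp.yon S).obj T
  let e : (AlgSp.yon S).obj (U ⨯ T) ≅ B := asIso (prodComparison (AlgSp.yon S) U T)
  have hB : AlgSp.IsAlgSpace B := (AlgSp.IsAlgSpace.yon_obj (U ⨯ T)).of_iso e
  let j : V' ⟶ B := prod.lift v2 (v1 ≫ w2)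
  have hj1 : j ≫ prod.fst = v2 := Limits.prod.lift_fst _ _
  have hj2 : j ≫ prod.snd = v1 ≫ w2 := Limits.prod.lift_snd _ _
  haveI : Mono j := by
    constructor
    intro Z g h hgh
    apply big.hom_ext
    · rw [← hj1, ← Category.assoc, hgh, Category.assoc]
    · rw [← hj2, ← Category.assoc, hgh, Category.assoc]
  have hj : AlgSp.LocP (@LocallyQuasiFinite ⊓ @LocallyOfFiniteType) j := by
    apply locP_lqf_of_comp j (prod.snd : B ⟶ (AlgSp.yon S).obj T)
    rw [hj2]
    exact hlqf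
  obtain ⟨V, ⟨i⟩⟩ := exists_iso_yon_of_mono hV' hB e j hj
  refine ⟨V, (AlgSp.yon S).preimage (i.hom ≫ v1 ≫ w2), i.hom ≫ v2, ?_⟩
  rw [Functor.map_preimage]
  exact IsPullback.of_iso big i.symm (Iso.refl _) (Iso.refl _) (Iso.refl _)
    (by simp) (by simp) (by simp) (by simp)

/-- A sheaf receiving a surjective étale map, representable by algebraic spaces, from an
algebraic space is an algebraic space. -/
theorem isAlgSpace_of_surj_etale {F : AlgSp.Sp S} (X : AlgSp.Space S) (p : X.obj ⟶ F)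
    (hp : ∀ ⦃T : Over S⦄ (ξ : (AlgSp.yon S).obj T ⟶ F) ⦃F' : AlgSp.Sp S⦄ (fst : F' ⟶ X.obj)
      (snd : F' ⟶ (AlgSp.yon S).obj T), IsPullback fst snd p ξ →
        AlgSp.IsAlgSpace F' ∧ (AlgSp.IsSurjectiveMor ⊓ AlgSp.IsEtaleMor) snd) :
    AlgSp.IsAlgSpace F := by
  obtain ⟨U, a, hae, has⟩ := X.property.atlas
  have hp' : RepBySpEtale p := fun T ξ F' fst snd sq => ⟨(hp ξ fst snd sq).1, (hp ξ fst snd sq).2.2⟩
  have hrep : AlgSp.Representable (a ≫ p) := representable_comp_atlas X p hp' a hae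
  -- common set-up for a test square
  have key : ∀ ⦃T V : Over S⦄ (ξ : (AlgSp.yon S).obj T ⟶ F) (fst : (AlgSp.yon S).obj V ⟶
      (AlgSp.yon S).obj U) (snd : V ⟶ T), IsPullback fst ((AlgSp.yon S).map snd) (a ≫ p) ξ →
      Etale snd.left ∧ Surjective snd.left := by
    intro T V ξ fst snd sq
    obtain ⟨hW, hw2s, hw2e⟩ := hp ξ _ _ (IsPullback.of_hasPullback p ξ)
    obtain ⟨l, hl, top⟩ :=
      Groth.Agent.Lib.Helper12.Proper.exists_factor_of_isPullback_comp a p ξ fst _ sq
    have hle : AlgSp.RepWith @Etale l := MorphismProperty.of_isPullback top hae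
    have hls : AlgSp.RepWith @Surjective l := MorphismProperty.of_isPullback top has
    constructor
    · have := hw2e l hle
      rw [hl] at this
      exact (AlgSp.repWith_yon_map_iff _ _).1 this
    · have h1 : AlgSp.IsSurjectiveMor l :=
        Groth.Agent.Lib.Helper15SmLoc.isSurjectiveMor_atlas ⟨_, hW⟩ l hle hls
      have h2 : AlgSp.IsSurjectiveMor ((AlgSp.yon S).map snd) := by
        rw [← hl]
        intro y
        obtain ⟨w, hw⟩ := hw2s y
        obtain ⟨v, hv⟩ := h1 w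
        exact ⟨v, by rw [AlgSp.Points.map_comp, hv, hw]⟩
      exact ⟨Groth.Agent.Lib.Helper15SmLoc.surjective_of_isSurjectiveMor_yon_map snd h2⟩
  refine Groth.Agent.S9873.result S (AlgSp.ofScheme S |>.obj U) F (a ≫ p) ?_ ?_
  · exact (AlgSp.repWith_iff _ _).2 ⟨hrep, fun T V ξ fst snd sq => (key ξ fst snd sq).1⟩
  · exact (AlgSp.repWith_iff _ _).2 ⟨hrep, fun T V ξ fst snd sq => (key ξ fst snd sq).2⟩

end Groth.Agent.Lib.T2H1.Bootstrap
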