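import Mathlib
import Groth.Prelude.Def_AlgSpGpd
import Groth.Agent.Lib.Helper9SpQuot
import Groth.Agent.Lib.Helper9ShfGrp

/-!
# The kernel pair of the quotient map of an equivalence relation in sheaves (helper1)
-/

set_option autoImplicit false
universe u
open CategoryTheory CategoryTheory.Limits AlgebraicGeometry
open AlgSp

namespace Groth.Agent.Lib.T2H1.QuotKP

variable {S : Scheme.{u}}

/-- `(s, t)` is jointly monic for a relation. -/
lemma joint_mono {R U : AlgSp.Sp S} (s t : R ⟶ U) (hj : AlgSp.IsEqvRelSp s t)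
    {W : AlgSp.Sp S} (a b : W ⟶ R) (h1 : a ≫ s = b ≫ s) (h2 : a ≫ t = b ≫ t) : a = b := by
  -- representable points detect equality of maps *out of* `W`
  refine Groth.Agent.Lib.Helper9.SpQuot.jEpi_yon W a b ?_
  rintro ⟨T, p⟩
  apply hj.injective T
  · simp only [Category.assoc, h2]
  · simp only [Category.assoc, h1]

/-- The quotient map of an equivalence relation has kernel pair `(s, t)`. -/
theorem isPullback_quotSpπ {R U : AlgSp.Sp S} (s t : R ⟶ U) (hj : AlgSp.IsEqvRelSp s t) :
    IsPullback s t (AlgSp.quotSpπ s t) (AlgSp.quotSpπ s t) := by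
  have hex : ∀ {W : AlgSp.Sp S} (a b : W ⟶ U),
      a ≫ AlgSp.quotSpπ s t = b ≫ AlgSp.quotSpπ s t → ∃ r : W ⟶ R, r ≫ s = a ∧ r ≫ t = b := by
    intro W a b hab
    obtain ⟨W', e, he, r₀, h1, h2⟩ :=
      Groth.Agent.Lib.Helper9.SpQuot.rho_of_isPreEqvRelSp s t hj.equivalence a b hab
    haveI := he
    obtain ⟨r, hr⟩ := Groth.Agent.Lib.Helper9.ToposLike.exists_desc_of_epi e he r₀ (by
      intro Z a₁ a₂ h12
      apply joint_mono s t hj
      · rw [Category.assoc, Category.assoc, h1, ← Category.assoc, ← Category.assoc, h12]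
      · rw [Category.assoc, Category.assoc, h2, ← Category.assoc, ← Category.assoc, h12])
    refine ⟨r, ?_, ?_⟩
    · rw [← cancel_epi e, ← Category.assoc, hr, h1]
    · rw [← cancel_epi e, ← Category.assoc, hr, h2]
  refine ⟨⟨AlgSp.quotSp_condition s t⟩, ⟨PullbackCone.IsLimit.mk _
    (fun c => Classical.choose (hex c.fst c.snd c.condition))
    (fun c => (Classical.choose_spec (hex c.fst c.snd c.condition)).1)
    (fun c => (Classical.choose_spec (hex c.fst c.snd c.condition)).2) ?_⟩⟩
  intro c m hm1 hm2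
  apply joint_mono s t hj
  · rw [hm1, (Classical.choose_spec (hex c.fst c.snd c.condition)).1]
  · rw [hm2, (Classical.choose_spec (hex c.fst c.snd c.condition)).2]

end Groth.Agent.Lib.T2H1.QuotKP
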