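import Mathlib
import Groth.Prelude.Def_AlgSpGpd
import Groth.Agent.Lib.T2H1QuotKP
import Groth.Agent.Lib.Helper12Torsor

/-!
# Sheafified representables vs. `yon`, and kernel pairs of scheme quotients (helper1)
-/

set_option autoImplicit false
universe u
open CategoryTheory CategoryTheory.Limits AlgebraicGeometry
open AlgSp

namespace Groth.Agent.Lib.T2H1.RepIso

variable {S : Scheme.{u}}

/-- naturality of `repIsoUliftYoneda` (inverse form). -/
lemma repIso_inv_naturality {V W : Over S} (g : V ⟶ W) :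
    (QuotSh.repIsoUliftYoneda Scheme.fppfPrecoverage V).inv ≫ QuotSh.repMap Scheme.fppfPrecoverage g =
      (AlgSp.yon S).map g ≫ (QuotSh.repIsoUliftYoneda Scheme.fppfPrecoverage W).inv := by
  apply Sheaf.hom_ext
  exact (toSheafify_naturality (AlgSp.J S)
    (Functor.whiskerRight (yoneda.map g) uliftFunctor.{u + 1, u})).symm

/-- naturality of `repIsoUliftYoneda` (direct form). -/
lemma repIso_hom_naturality {V W : Over S} (g : V ⟶ W) :
    QuotSh.repMap Scheme.fppfPrecoverage g ≫ (QuotSh.repIsoUliftYoneda Scheme.fppfPrecoverage W).hom =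
      (QuotSh.repIsoUliftYoneda Scheme.fppfPrecoverage V).hom ≫ (AlgSp.yon S).map g := by
  rw [← Iso.inv_comp_eq, ← Category.assoc, repIso_inv_naturality, Category.assoc, Iso.inv_hom_id,
    Category.comp_id]


local notation "K₀" => Scheme.fppfPrecoverage

/-- the point of `V` corresponding to a point of `rep V`. -/
noncomputable def pt {T V : Over S} (r : (AlgSp.yon S).obj T ⟶ QuotSh.rep K₀ V) : T ⟶ V :=
  (AlgSp.yon S).preimage (r ≫ (QuotSh.repIsoUliftYoneda K₀ V).hom)

lemma map_pt {T V : Over S} (r : (AlgSp.yon S).obj T ⟶ QuotSh.rep K₀ V) :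
    (AlgSp.yon S).map (pt r) ≫ (QuotSh.repIsoUliftYoneda K₀ V).inv = r := by
  unfold pt
  rw [Functor.map_preimage, Category.assoc, Iso.hom_inv_id, Category.comp_id]

lemma pt_map {T V : Over S} (a : T ⟶ V) :
    pt ((AlgSp.yon S).map a ≫ (QuotSh.repIsoUliftYoneda K₀ V).inv) = a := by
  unfold pt
  rw [Category.assoc, Iso.inv_hom_id, Category.comp_id, Functor.preimage_map]

lemma pt_injective {T V : Over S} {r r' : (AlgSp.yon S).obj T ⟶ QuotSh.rep K₀ V}
    (h : pt r = pt r') : r = r' := by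
  rw [← map_pt r, ← map_pt r', h]

lemma pt_comp {T V W : Over S} (r : (AlgSp.yon S).obj T ⟶ QuotSh.rep K₀ V) (g : V ⟶ W) :
    pt (r ≫ QuotSh.repMap K₀ g) = pt r ≫ g := by
  apply (AlgSp.yon S).map_injective
  unfold pt
  rw [Functor.map_preimage, Functor.map_comp, Functor.map_preimage, Category.assoc,
    Category.assoc, repIso_hom_naturality]

/-- an equivalence relation on schemes induces one on the sheafified representables. -/
theorem isEqvRelSp_repMap {R U : Over S} (s t : R ⟶ U) (h : AlgSp.IsEqvRel s t) :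
    AlgSp.IsEqvRelSp (QuotSh.repMap K₀ s) (QuotSh.repMap K₀ t) := by
  have hiff : ∀ (T : Over S) (a b : (AlgSp.yon S).obj T ⟶ QuotSh.rep K₀ U),
      (∃ r : (AlgSp.yon S).obj T ⟶ QuotSh.rep K₀ R,
        r ≫ QuotSh.repMap K₀ t = a ∧ r ≫ QuotSh.repMap K₀ s = b) ↔
      ∃ ρ : T ⟶ R, ρ ≫ t = pt a ∧ ρ ≫ s = pt b := by
    intro T a b
    constructor
    · rintro ⟨r, rfl, rfl⟩
      exact ⟨pt r, (pt_comp r t).symm, (pt_comp r s).symm⟩
    · rintro ⟨ρ, h1, h2⟩
      refine ⟨(AlgSp.yon S).map ρ ≫ (QuotSh.repIsoUliftYoneda K₀ R).inv, ?_, ?_⟩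
      · apply pt_injective
        rw [pt_comp, pt_map, h1]
      · apply pt_injective
        rw [pt_comp, pt_map, h2]
  refine ⟨?_, ?_⟩
  · intro T r r' h1 h2
    apply pt_injective
    apply h.injective T
    · rw [← pt_comp, ← pt_comp, h1]
    · rw [← pt_comp, ← pt_comp, h2]
  · intro T
    have e := h.equivalence T
    refine ⟨fun a => (hiff T a a).2 (e.refl _), fun {a b} hab => (hiff T b a).2 (e.symm ((hiff T a b).1 hab)),
      fun {a b c} hab hbc => (hiff T a c).2 (e.trans ((hiff T a b).1 hab) ((hiff T b c).1 hbc))⟩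

/-- the kernel pair of the quotient map `h_U ⟶ U/R` of an equivalence relation on schemes. -/
theorem isPullback_yon_quotπ {R U : Over S} (s t : R ⟶ U) (h : AlgSp.IsEqvRel s t) :
    IsPullback ((AlgSp.yon S).map t) ((AlgSp.yon S).map s)
      ((QuotSh.repIsoUliftYoneda K₀ U).inv ≫ QuotSh.quotπ K₀ s t)
      ((QuotSh.repIsoUliftYoneda K₀ U).inv ≫ QuotSh.quotπ K₀ s t) := by
  have h0 : IsPullback (QuotSh.repMap K₀ s) (QuotSh.repMap K₀ t) (QuotSh.quotπ K₀ s t)
      (QuotSh.quotπ K₀ s t) :=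
    Groth.Agent.Lib.T2H1.QuotKP.isPullback_quotSpπ (QuotSh.repMap K₀ s) (QuotSh.repMap K₀ t)
      (isEqvRelSp_repMap s t h)
  refine IsPullback.of_iso h0.flip (QuotSh.repIsoUliftYoneda K₀ R) (QuotSh.repIsoUliftYoneda K₀ U)
    (QuotSh.repIsoUliftYoneda K₀ U) (Iso.refl _) ?_ ?_ ?_ ?_
  · exact repIso_hom_naturality t
  · exact repIso_hom_naturality s
  · simp
  · simp


open MorphismProperty in
/-- fpqc descent + Zariski locality + base change stability give fppf locality on the target. -/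
theorem isLocalAtTarget_fppf (P : MorphismProperty Scheme.{u}) [IsZariskiLocalAtTarget P]
    [P.IsStableUnderBaseChange]
    (hP : P.DescendsAlong (@Surjective ⊓ @Flat ⊓ @QuasiCompact : MorphismProperty Scheme.{u})) :
    P.IsLocalAtTarget Scheme.fppfPrecoverage := by
  haveI : (Scheme.fppfPrecoverage.{u}).HasPullbacks := by
    unfold Scheme.fppfPrecoverage; infer_instance
  refine IsLocalAtTarget.mk_of_isStableUnderBaseChange fun f 𝒰 h => ?_
  refine Groth.Agent.Lib.Helper12.of_mem_fpqcPrecoverage hP f (Presieve.ofArrows _ 𝒰.f)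
    (Scheme.fppfPrecoverage_le_fpqcPrecoverage _ 𝒰.mem₀) ?_
  rintro _ _ ⟨i⟩
  exact h i

theorem isLocalAtTarget_fppf_etale :
    MorphismProperty.IsLocalAtTarget (@Etale : MorphismProperty Scheme.{u}) Scheme.fppfPrecoverage :=
  isLocalAtTarget_fppf _ inferInstance

theorem isLocalAtTarget_fppf_surjective :
    MorphismProperty.IsLocalAtTarget (@Surjective : MorphismProperty Scheme.{u}) Scheme.fppfPrecoverage :=
  isLocalAtTarget_fppf _ inferInstance

end Groth.Agent.Lib.T2H1.RepIso
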