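import Mathlib
import Groth.Prelude.Def_AlgSpRep
import Groth.Prelude.Def_AlgSp4
import Groth.Agent.Lib.T2H1Bootstrap
import Groth.Agent.Lib.Helper12QuotSh
import Groth.Agent.S9868

/-!
# Bootstrapping algebraic spaces from étale sheaves (helper1)

A presheaf which is a sheaf for the étale topology and receives a representable étale surjective
map from a scheme is an fppf sheaf and an algebraic space.
-/

set_option autoImplicit false
universe u
open CategoryTheory CategoryTheory.Limits AlgebraicGeometry Opposite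
open AlgSp

namespace Groth.Agent.Lib.T2H1.BootEt

variable {S : Scheme.{u}}

/-- the big étale topology on schemes over `S`. -/
abbrev Jet (S : Scheme.{u}) : GrothendieckTopology (Over S) := QuotSh.J Scheme.etalePrecoverage S

theorem Jet_le : Jet S ≤ AlgSp.J S :=
  fun _ _ hR => Precoverage.toGrothendieck_mono
    Groth.Agent.Lib.Helper12.QuotShLib.etalePrecoverage_le_fppfPrecoverage _ hR

/-- `q : h_V ⟶ F` has étale surjective scheme base changes along every `h_T ⟶ F`. -/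
def EtSurjAtlas {F : AlgSp.PSp S} {V : Over S} (q : (AlgSp.pyon S).obj V ⟶ F) : Prop :=
  ∀ ⦃T : Over S⦄ (ξ : (AlgSp.pyon S).obj T ⟶ F), ∃ (V' : Over S) (snd : V' ⟶ T)
    (fst : (AlgSp.pyon S).obj V' ⟶ (AlgSp.pyon S).obj V),
    IsPullback fst ((AlgSp.pyon S).map snd) q ξ ∧ Etale snd.left ∧ Surjective snd.left

theorem isLocallySurjective_of_etSurjAtlas {F : AlgSp.PSp S} {V : Over S}
    (q : (AlgSp.pyon S).obj V ⟶ F) (hq : EtSurjAtlas q) :
    Presheaf.IsLocallySurjective (Jet S) q := by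
  constructor
  intro T ξ₀
  obtain ⟨V', snd, fst, sq, he, hs⟩ := hq (uliftYonedaEquiv.{u+1}.symm ξ₀)
  refine (Jet S).superset_covering ?_
    (Groth.Agent.Lib.Helper12.QuotShLib.generate_singleton_mem_J _ snd
      (Groth.Agent.Lib.Helper12.QuotShLib.singleton_mem_etalePrecoverage snd.left))
  rintro W g ⟨W', a, b, ⟨⟩, rfl⟩
  refine ⟨uliftYonedaEquiv.{u+1} ((AlgSp.pyon S).map a ≫ fst), ?_⟩
  have h1 : q.app _ (uliftYonedaEquiv.{u+1} ((AlgSp.pyon S).map a ≫ fst)) =
      uliftYonedaEquiv.{u+1} (((AlgSp.pyon S).map a ≫ fst) ≫ q) := rfl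
  rw [h1, Category.assoc, sq.w, ← Category.assoc, ← Functor.map_comp]
  have h2 := uliftYonedaEquiv_naturality.{u+1} (uliftYonedaEquiv.{u+1}.symm ξ₀) (a ≫ snd).op
  rw [Equiv.apply_symm_apply] at h2
  exact h2.symm

/-- The atlas of the quotient of an étale equivalence relation (extracted from `S9868`). -/
theorem quot_atlas {R U : Over S} (s t : R ⟶ U) (h : AlgSp.IsEtaleEqvRel s t) :
    ∃ p : (AlgSp.yon S).obj U ⟶ QuotSh.quot Scheme.fppfPrecoverage s t,
      IsPullback ((AlgSp.yon S).map t) ((AlgSp.yon S).map s) p p ∧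
      AlgSp.RepWith @Etale p ∧ AlgSp.RepWith @Surjective p := by
  have sq := Groth.Agent.Lib.T2H1.RepIso.isPullback_yon_quotπ s t h.toIsEqvRel
  set p := (QuotSh.repIsoUliftYoneda Scheme.fppfPrecoverage U).inv ≫
    QuotSh.quotπ Scheme.fppfPrecoverage s t with hp
  haveI : Epi (QuotSh.quotπ Scheme.fppfPrecoverage s t) := by
    unfold QuotSh.quotπ
    exact coequalizer.π_epi
  haveI : Epi p := epi_comp _ _
  haveI : Sheaf.IsLocallySurjective p := (Sheaf.isLocallySurjective_iff_epi _).mpr inferInstance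
  haveI : Etale t.left := h.etale_right
  have hdiag : AlgSp.Representable (Limits.diag (QuotSh.quot Scheme.fppfPrecoverage s t)) :=
    Groth.Agent.Lib.T2H7.DiagRep.representable_diag _ p s t sq
  have hrep : AlgSp.Representable p := Functor.relativelyRepresentable.of_diag hdiag p
  obtain ⟨e, he1, he2⟩ := (h.toIsEqvRel.equivalence U).refl (𝟙 U)
  have hsurj : Surjective s.left := by
    have h1 : e.left ≫ s.left = 𝟙 U.left := by
      rw [← Over.comp_left, he2]; rfl
    refine ⟨fun x => ⟨e.left x, ?_⟩⟩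
    rw [← Scheme.Hom.comp_apply, h1]
    rfl
  haveI := Groth.Agent.Lib.T2H1.RepIso.isLocalAtTarget_fppf_etale.{u}
  haveI := Groth.Agent.Lib.T2H1.RepIso.isLocalAtTarget_fppf_surjective.{u}
  refine ⟨p, sq, ?_, ?_⟩
  · exact Groth.Agent.S9884.result S _ _ _ p hrep p _ _ _ sq @Etale
      ((AlgSp.repWith_yon_map_iff _ _).2 h.etale_left)
  · exact Groth.Agent.S9884.result S _ _ _ p hrep p _ _ _ sq @Surjective
      ((AlgSp.repWith_yon_map_iff _ _).2 hsurj)

/-- the relative étale / surjective hypotheses give `EtSurjAtlas`. -/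
theorem etSurjAtlas_of_relative {F : AlgSp.PSp S} {V : Over S} (q : (AlgSp.pyon S).obj V ⟶ F)
    (he : (MorphismProperty.inverseImage @Etale (Over.forget S)).relative (AlgSp.pyon S) q)
    (hs : (MorphismProperty.inverseImage @Surjective (Over.forget S)).relative (AlgSp.pyon S) q) :
    EtSurjAtlas q := by
  intro T ξ
  obtain ⟨V', snd, fst, sq⟩ := he.rep ξ
  exact ⟨V', snd, fst, sq, he.property ξ fst snd sq, hs.property ξ fst snd sq⟩

/-- the atlas of a quotient gives `EtSurjAtlas` on underlying presheaves. -/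
theorem etSurjAtlas_of_repWith {Q : AlgSp.Sp S} {V : Over S} (π : (AlgSp.yon S).obj V ⟶ Q)
    (he : AlgSp.RepWith @Etale π) (hs : AlgSp.RepWith @Surjective π) :
    EtSurjAtlas (F := Q.obj) (V := V) π.hom := by
  intro T ξ
  obtain ⟨V', snd, fst, sq⟩ := he.rep (ObjectProperty.homMk ξ)
  exact ⟨V', snd, fst.hom, sq.map (sheafToPresheaf (AlgSp.J S) (Type (u + 1))),
    he.property _ fst snd sq, hs.property _ fst snd sq⟩

/-- étale sheaves on schemes over `S`. -/
abbrev Et (S : Scheme.{u}) : Type (u + 2) := Sheaf (Jet S) (Type (u + 1))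

/-- Two étale sheaves receiving étale-locally surjective maps from the same étale sheaf with the
same kernel pair are isomorphic. -/
theorem nonempty_iso_of_kernelPair {Y RR F₁ F₂ : Et S} (a b : RR ⟶ Y) (q₁ : Y ⟶ F₁) (q₂ : Y ⟶ F₂)
    (sq₁ : IsPullback a b q₁ q₁) (sq₂ : IsPullback a b q₂ q₂)
    (h₁ : Presheaf.IsLocallySurjective (Jet S) q₁.hom)
    (h₂ : Presheaf.IsLocallySurjective (Jet S) q₂.hom) : Nonempty (F₁ ≅ F₂) := by
  haveI : Sheaf.IsLocallySurjective q₁ := h₁
  haveI : Sheaf.IsLocallySurjective q₂ := h₂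
  haveI : Epi q₁ := inferInstance
  haveI : Epi q₂ := inferInstance
  haveI : IsRegularEpi q₁ := IsRegularEpiCategory.regularEpiOfEpi q₁
  haveI : IsRegularEpi q₂ := IsRegularEpiCategory.regularEpiOfEpi q₂
  have c₁ : IsColimit (Cofork.ofπ q₁ sq₁.w) := isColimitCoforkOfEffectiveEpi q₁ sq₁.cone sq₁.isLimit
  have c₂ : IsColimit (Cofork.ofπ q₂ sq₂.w) := isColimitCoforkOfEffectiveEpi q₂ sq₂.cone sq₂.isLimit
  exact ⟨c₁.coconePointUniqueUpToIso c₂⟩

theorem isSheaf_Jet {P : AlgSp.PSp S} (h : Presheaf.IsSheaf (AlgSp.J S) P) :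
    Presheaf.IsSheaf (Jet S) P := by
  rw [isSheaf_iff_isSheaf_of_type] at h ⊢
  exact Presieve.isSheaf_of_le P Jet_le h

/-- comparison step: `F` and `Q` with atlases from `h_V` with the same kernel pair. -/
theorem iso_of_atlases {F : AlgSp.PSp S} (h1 : Presheaf.IsSheaf (Jet S) F) {V R : Over S}
    (s t : R ⟶ V) (q : (AlgSp.pyon S).obj V ⟶ F) (hq : EtSurjAtlas q)
    (sqR : IsPullback ((AlgSp.pyon S).map t) ((AlgSp.pyon S).map s) q q)
    (Q : AlgSp.Sp S) (π : (AlgSp.yon S).obj V ⟶ Q)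
    (sqπ : IsPullback ((AlgSp.yon S).map t) ((AlgSp.yon S).map s) π π)
    (hπe : AlgSp.RepWith @Etale π) (hπs : AlgSp.RepWith @Surjective π) :
    Nonempty (Q.obj ≅ F) := by
  let Y : Et S := ⟨(AlgSp.pyon S).obj V, isSheaf_Jet ((AlgSp.yon S).obj V).property⟩
  let RR : Et S := ⟨(AlgSp.pyon S).obj R, isSheaf_Jet ((AlgSp.yon S).obj R).property⟩
  let FF : Et S := ⟨F, h1⟩
  let QQ : Et S := ⟨Q.obj, isSheaf_Jet Q.property⟩
  let a : RR ⟶ Y := ObjectProperty.homMk ((AlgSp.pyon S).map t)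
  let b : RR ⟶ Y := ObjectProperty.homMk ((AlgSp.pyon S).map s)
  let q₁ : Y ⟶ FF := ObjectProperty.homMk q
  let q₂ : Y ⟶ QQ := ObjectProperty.homMk π.hom
  have sq₁ : IsPullback a b q₁ q₁ :=
    IsPullback.of_map_of_faithful (sheafToPresheaf (Jet S) (Type (u + 1))) sqR
  have sq₂ : IsPullback a b q₂ q₂ :=
    IsPullback.of_map_of_faithful (sheafToPresheaf (Jet S) (Type (u + 1)))
      (sqπ.map (sheafToPresheaf (AlgSp.J S) (Type (u + 1))))
  obtain ⟨i⟩ := nonempty_iso_of_kernelPair a b q₁ q₂ sq₁ sq₂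
    (isLocallySurjective_of_etSurjAtlas q hq)
    (isLocallySurjective_of_etSurjAtlas (F := Q.obj) π.hom (etSurjAtlas_of_repWith π hπe hπs))
  exact ⟨((sheafToPresheaf (Jet S) (Type (u + 1))).mapIso i).symm⟩

/-- Core: an étale sheaf receiving a representable étale surjective map from a scheme is an
algebraic space (in particular an fppf sheaf). -/
theorem isAlgSpaceP_of_relative {F : AlgSp.PSp S} (h1 : Presheaf.IsSheaf (Jet S) F) {V : Over S}
    (q : (AlgSp.pyon S).obj V ⟶ F)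
    (he : (MorphismProperty.inverseImage @Etale (Over.forget S)).relative (AlgSp.pyon S) q)
    (hs : (MorphismProperty.inverseImage @Surjective (Over.forget S)).relative (AlgSp.pyon S) q) :
    AlgSp.IsAlgSpaceP F := by
  obtain ⟨R, s, fst, sqR⟩ := he.rep q
  obtain ⟨t, rfl⟩ := (AlgSp.pyon S).map_surjective fst
  have hrel : AlgSp.IsEtaleEqvRel s t := by
    have hiff : ∀ (T : Over S) (a b : T ⟶ V), (∃ r : T ⟶ R, r ≫ t = a ∧ r ≫ s = b) ↔
        (AlgSp.pyon S).map a ≫ q = (AlgSp.pyon S).map b ≫ q := by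
      intro T a b
      constructor
      · rintro ⟨r, rfl, rfl⟩
        rw [Functor.map_comp, Functor.map_comp, Category.assoc, Category.assoc, sqR.w]
      · intro h
        obtain ⟨r, hr⟩ := (AlgSp.pyon S).map_surjective (sqR.lift _ _ h)
        refine ⟨r, ?_, ?_⟩
        · apply (AlgSp.pyon S).map_injective
          rw [Functor.map_comp, hr, sqR.lift_fst]
        · apply (AlgSp.pyon S).map_injective
          rw [Functor.map_comp, hr, sqR.lift_snd]
    refine ⟨⟨?_, ?_⟩, he.property q _ s sqR, he.property q _ t sqR.flip⟩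
    · intro T r r' h1 h2
      apply (AlgSp.pyon S).map_injective
      apply sqR.hom_ext
      · rw [← Functor.map_comp, ← Functor.map_comp, h1]
      · rw [← Functor.map_comp, ← Functor.map_comp, h2]
    · intro T
      refine ⟨fun a => (hiff T a a).2 rfl, fun {a b} h => (hiff T b a).2 ((hiff T a b).1 h).symm,
        fun {a b c} h h' => (hiff T a c).2 (((hiff T a b).1 h).trans ((hiff T b c).1 h'))⟩
  obtain ⟨π, sqπ, hπe, hπs⟩ := quot_atlas s t hrel
  have hQ : AlgSp.IsAlgSpace (QuotSh.quot Scheme.fppfPrecoverage s t) :=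
    Groth.Agent.S9868.result S s t hrel
  obtain ⟨e⟩ := iso_of_atlases h1 s t q (etSurjAtlas_of_relative q he hs) sqR _ π sqπ hπe hπs
  exact ((AlgSp.isAlgSpaceP_obj_iff _).2 hQ).of_iso e

open Groth.Agent.Lib.T2H1.Bootstrap in
/-- Given an algebraic space `W` étale and surjective over a scheme `T` and mapping to an
algebraic space `X` with an étale chart `h_U ⟶ X`, such that `W ⟶ X × h_T` is a monomorphism,
the fibre product `W ×_X h_U` is a scheme, étale and surjective over `T`. -/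
theorem exists_scheme_chart (X : AlgSp.Space S) {W : AlgSp.Sp S} (hW : AlgSp.IsAlgSpace W)
    (w1 : W ⟶ X.obj) {T : Over S} (w2 : W ⟶ (AlgSp.yon S).obj T)
    (hmono : ∀ ⦃Z : AlgSp.Sp S⦄ (g h : Z ⟶ W), g ≫ w1 = h ≫ w1 → g ≫ w2 = h ≫ w2 → g = h)
    (hw2e : AlgSp.IsEtaleMor w2)
    (hw2s : AlgSp.IsSurjectiveMor w2) {U : Over S} (a : (AlgSp.yon S).obj U ⟶ X.obj)
    (hae : AlgSp.RepWith @Etale a) (has : AlgSp.RepWith @Surjective a) :
    ∃ (V : Over S) (fst : (AlgSp.yon S).obj V ⟶ (AlgSp.yon S).obj U) (snd : V ⟶ T)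
      (l : (AlgSp.yon S).obj V ⟶ W), IsPullback fst l a w1 ∧ l ≫ w2 = (AlgSp.yon S).map snd ∧
        Etale snd.left ∧ Surjective snd.left := by
  let V' := pullback w1 a
  let v1 : V' ⟶ W := pullback.fst w1 a
  let v2 : V' ⟶ (AlgSp.yon S).obj U := pullback.snd w1 a
  have hV' : AlgSp.IsAlgSpace V' :=
    Groth.Agent.S9874.isAlgSpace_of_isPullback X.property.diag hW (AlgSp.IsAlgSpace.yon_obj U)
      (IsPullback.of_hasPullback w1 a)
  have sqV : IsPullback v2 v1 a w1 := (IsPullback.of_hasPullback w1 a).flip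
  have hv1 : AlgSp.RepWith @Etale v1 := MorphismProperty.of_isPullback sqV hae
  have hv1s : AlgSp.RepWith @Surjective v1 := MorphismProperty.of_isPullback sqV has
  have het : AlgSp.IsEtaleMor (v1 ≫ w2) := by
    intro A φ hφ
    rw [← Category.assoc]
    exact hw2e (φ ≫ v1) ((AlgSp.RepWith @Etale).comp_mem _ _ hφ hv1)
  have hlqf : AlgSp.LocP (@LocallyQuasiFinite ⊓ @LocallyOfFiniteType) (v1 ≫ w2) :=
    (Groth.Agent.S10265.result (X := ⟨V', hV'⟩) (Y := AlgSp.ofScheme S |>.obj T)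
      (ObjectProperty.homMk (v1 ≫ w2)) het).1
  let B : AlgSp.Sp S := (AlgSp.yon S).obj U ⨯ (AlgSp.yon S).obj T
  let e : (AlgSp.yon S).obj (U ⨯ T) ≅ B := asIso (prodComparison (AlgSp.yon S) U T)
  have hB : AlgSp.IsAlgSpace B := (AlgSp.IsAlgSpace.yon_obj (U ⨯ T)).of_iso e
  let j : V' ⟶ B := prod.lift v2 (v1 ≫ w2)
  have hj1 : j ≫ prod.fst = v2 := Limits.prod.lift_fst _ _
  have hj2 : j ≫ prod.snd = v1 ≫ w2 := Limits.prod.lift_snd _ _
  haveI : Mono j := by
    constructor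
    intro Z g h hgh
    have h2 : g ≫ v2 = h ≫ v2 := by
      rw [← hj1, ← Category.assoc, hgh, Category.assoc]
    have h3 : (g ≫ v1) ≫ w2 = (h ≫ v1) ≫ w2 := by
      rw [Category.assoc, Category.assoc, ← hj2, ← Category.assoc, hgh, Category.assoc]
    have h4 : (g ≫ v1) ≫ w1 = (h ≫ v1) ≫ w1 := by
      rw [Category.assoc, Category.assoc, ← sqV.w, ← Category.assoc, h2, Category.assoc]
    exact sqV.hom_ext h2 (hmono _ _ h4 h3)
  have hj : AlgSp.LocP (@LocallyQuasiFinite ⊓ @LocallyOfFiniteType) j := by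
    apply locP_lqf_of_comp j (prod.snd : B ⟶ (AlgSp.yon S).obj T)
    rw [hj2]
    exact hlqf
  obtain ⟨V, ⟨i⟩⟩ := exists_iso_yon_of_mono hV' hB e j hj
  have sqV' : IsPullback (i.hom ≫ v2) (i.hom ≫ v1) a w1 :=
    IsPullback.of_iso sqV i.symm (Iso.refl _) (Iso.refl _) (Iso.refl _)
      (by simp) (by simp) (by simp) (by simp)
  have hle : AlgSp.RepWith @Etale (i.hom ≫ v1) := MorphismProperty.of_isPullback sqV' hae
  have hls : AlgSp.RepWith @Surjective (i.hom ≫ v1) := MorphismProperty.of_isPullback sqV' has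
  have hsnd : (i.hom ≫ v1) ≫ w2 = (AlgSp.yon S).map ((AlgSp.yon S).preimage ((i.hom ≫ v1) ≫ w2)) :=
    (Functor.map_preimage _ _).symm
  refine ⟨V, i.hom ≫ v2, (AlgSp.yon S).preimage ((i.hom ≫ v1) ≫ w2), i.hom ≫ v1, sqV', hsnd, ?_, ?_⟩
  · have := hw2e _ hle
    rw [hsnd] at this
    exact (AlgSp.repWith_yon_map_iff _ _).1 this
  · have h1 : AlgSp.IsSurjectiveMor (i.hom ≫ v1) :=
      Groth.Agent.Lib.Helper15SmLoc.isSurjectiveMor_atlas ⟨_, hW⟩ _ hle hls
    have h2 : AlgSp.IsSurjectiveMor ((AlgSp.yon S).map ((AlgSp.yon S).preimage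
        ((i.hom ≫ v1) ≫ w2))) := by
      rw [← hsnd]
      intro y
      obtain ⟨w, hw⟩ := hw2s y
      obtain ⟨v, hv⟩ := h1 w
      exact ⟨v, by rw [AlgSp.Points.map_comp, hv, hw]⟩
    exact ⟨Groth.Agent.Lib.Helper15SmLoc.surjective_of_isSurjectiveMor_yon_map _ h2⟩

/-- An étale sheaf receiving a surjective étale map, representable by algebraic spaces, from an
algebraic space is an algebraic space. -/
theorem isAlgSpaceP_of_repBySpWith {F : AlgSp.PSp S} (h1 : Presheaf.IsSheaf (Jet S) F)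
    (X : AlgSp.Space S) (p : X.obj.obj ⟶ F)
    (h2 : AlgSp.RepBySpWith (AlgSp.IsSurjectiveMor ⊓ AlgSp.IsEtaleMor) p) :
    AlgSp.IsAlgSpaceP F := by
  obtain ⟨V, a, hae, has⟩ := X.property.atlas
  have key : ∀ ⦃T : Over S⦄ (ξ : (AlgSp.pyon S).obj T ⟶ F), ∃ (V' : Over S)
      (fst : (AlgSp.pyon S).obj V' ⟶ (AlgSp.pyon S).obj V) (snd : V' ⟶ T),
      IsPullback fst ((AlgSp.pyon S).map snd) (a.hom ≫ p) ξ ∧ Etale snd.left ∧
        Surjective snd.left := by
    intro T ξ
    have sqW := IsPullback.of_hasPullback p ξ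
    obtain ⟨hsh, hW, hw2s, hw2e⟩ := h2 ξ _ _ sqW
    let W : AlgSp.Sp S := ⟨pullback p ξ, hsh⟩
    let w1 : W ⟶ X.obj := ObjectProperty.homMk (pullback.fst p ξ)
    let w2 : W ⟶ (AlgSp.yon S).obj T := ObjectProperty.homMk (pullback.snd p ξ)
    have hmono : ∀ ⦃Z : AlgSp.Sp S⦄ (g h : Z ⟶ W), g ≫ w1 = h ≫ w1 → g ≫ w2 = h ≫ w2 → g = h := by
      intro Z g h e1 e2
      apply ObjectProperty.hom_ext
      apply sqW.hom_ext
      · exact congrArg (fun k => k.hom) e1
      · exact congrArg (fun k => k.hom) e2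
    obtain ⟨V', fst, snd, l, sq, hl, he, hs⟩ :=
      exists_scheme_chart X hW w1 w2 hmono hw2e hw2s a hae has
    refine ⟨V', fst.hom, snd, ?_, he, hs⟩
    have sq' := sq.map (sheafToPresheaf (AlgSp.J S) (Type (u + 1)))
    have big := ((sq'.flip).paste_horiz sqW.flip).flip
    have hl' : l.hom ≫ pullback.snd p ξ = (AlgSp.pyon S).map snd := congrArg (fun k => k.hom) hl
    rw [← hl']
    exact big
  refine isAlgSpaceP_of_relative h1 (a.hom ≫ p) ?_ ?_
  · refine MorphismProperty.relative.of_exists fun T ξ => ?_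
    obtain ⟨V', fst, snd, sq, he, -⟩ := key ξ
    exact ⟨V', fst, snd, sq, he⟩
  · refine MorphismProperty.relative.of_exists fun T ξ => ?_
    obtain ⟨V', fst, snd, sq, -, hs⟩ := key ξ
    exact ⟨V', fst, snd, sq, hs⟩

end Groth.Agent.Lib.T2H1.BootEt
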