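import Mathlib
import Groth.Prelude.Def_Desc
import Groth.Prelude.Def_AlgSp
import Groth.Agent.S13210
import Groth.Agent.Lib.Helper12ZarGlue
import Groth.Agent.Lib.T2H7SubRep
import Groth.Agent.Lib.T2H7DiagRep

/-!
# Representability of a sheaf over a scheme from an fppf chart and effective descent (helper7)

Let `T` be a scheme over `S`, `H` an fppf sheaf with a map `π : H ⟶ h_T`, and `w : W ⟶ T` an fppf
covering such that `H ×_{h_T} h_W` is represented by a scheme `V'` over `W`.  The scheme `V'` carries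
a natural descent datum relative to `w`; if it is effective, with descended scheme `Z ⟶ T`, then `Z`
represents `H`.
-/

set_option autoImplicit false
set_option linter.unusedSectionVars false
set_option linter.unusedVariables false
set_option linter.style.haveILetI false

universe u

open CategoryTheory CategoryTheory.Limits AlgebraicGeometry Opposite

namespace Groth.Agent.Lib.T2H7.LocRep

open Groth.Agent.S13210 Groth.Agent.Lib.T2H7.SubRep Groth.Agent.Lib.T2H7.DiagRep Desc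

variable {S : Scheme.{u}}

/-- gluing of points of a sheaf along an fppf covering. -/
theorem sheaf_glue (H : AlgSp.Sp S) (T' : Over S) {ι : Type u} (Ti : ι → Over S)
    (d : ∀ i, Ti i ⟶ T')
    (hfl : ∀ i, Flat (d i).left) (hfp : ∀ i, LocallyOfFinitePresentation (d i).left)
    (hsurj : ∀ t : T'.left, ∃ i, t ∈ Set.range (d i).left)
    (x : ∀ i, (AlgSp.yon S).obj (Ti i) ⟶ H)
    (compat : ∀ (i j : ι) (Z : Over S) (gi : Z ⟶ Ti i) (gj : Z ⟶ Ti j),
      gi ≫ d i = gj ≫ d j → (AlgSp.yon S).map gi ≫ x i = (AlgSp.yon S).map gj ≫ x j) :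
    ∃ t : (AlgSp.yon S).obj T' ⟶ H, ∀ i, (AlgSp.yon S).map (d i) ≫ t = x i := by
  have hmem : Sieve.ofArrows Ti d ∈ AlgSp.J S T' := by
    rw [GrothendieckTopology.mem_over_iff, Sieve.overEquiv_ofArrows]
    apply Precoverage.generate_mem_toGrothendieck
    rw [Scheme.fppfPrecoverage, Scheme.ofArrows_mem_precoverage_iff]
    refine ⟨fun t => ?_, fun i => ⟨hfl i, hfp i⟩⟩
    obtain ⟨i, y, hy⟩ := hsurj t
    exact ⟨i, y, hy⟩
  have hsh : Presieve.IsSheaf (AlgSp.J S) H.obj := (isSheaf_iff_isSheaf_of_type _ _).1 H.property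
  have h1 := hsh.isSheafFor _ hmem
  rw [Presieve.isSheafFor_arrows_iff] at h1
  obtain ⟨t, ht, -⟩ := h1 (fun i => yEquiv (Ti i) H (x i)) (by
    intro i j Z gi gj hg
    rw [Groth.Agent.Lib.Helper12.ZarGlue.map_yEquiv, Groth.Agent.Lib.Helper12.ZarGlue.map_yEquiv,
      compat i j Z gi gj hg])
  refine ⟨(yEquiv T' H).symm t, fun i => ?_⟩
  apply (yEquiv _ H).injective
  rw [← Groth.Agent.Lib.Helper12.ZarGlue.map_yEquiv, Equiv.apply_symm_apply]
  exact ht i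

section Main

variable {T W V' : Over S} (H : AlgSp.Sp S) (π : H ⟶ (AlgSp.yon S).obj T)
  (w : W ⟶ T) (a : (AlgSp.yon S).obj V' ⟶ H) (g' : V' ⟶ W)
  (sq : IsPullback a ((AlgSp.yon S).map g') π ((AlgSp.yon S).map w))

/-- two points of `V'` have the same image in `H`. -/
def Rel {T'' : Over S} (v₀ v₁ : T'' ⟶ V') : Prop :=
  (AlgSp.yon S).map v₀ ≫ a = (AlgSp.yon S).map v₁ ≫ a

theorem rel_refl {T'' : Over S} (v : T'' ⟶ V') : Rel H a v v := rfl

theorem rel_symm {T'' : Over S} {v₀ v₁ : T'' ⟶ V'} (h : Rel H a v₀ v₁) : Rel H a v₁ v₀ := Eq.symm h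

theorem rel_trans {T'' : Over S} {v₀ v₁ v₂ : T'' ⟶ V'} (h : Rel H a v₀ v₁) (h' : Rel H a v₁ v₂) :
    Rel H a v₀ v₂ := Eq.trans h h'

theorem rel_pre {T'' T''' : Over S} (g : T''' ⟶ T'') {v₀ v₁ : T'' ⟶ V'} (h : Rel H a v₀ v₁) :
    Rel H a (g ≫ v₀) (g ≫ v₁) := by
  unfold Rel at h ⊢
  rw [Functor.map_comp, Functor.map_comp, Category.assoc, Category.assoc, h]

theorem rel_of_iso {T'' T''' : Over S} (g : T''' ⟶ T'') [IsIso g] {v₀ v₁ : T'' ⟶ V'}
    (h : Rel H a (g ≫ v₀) (g ≫ v₁)) : Rel H a v₀ v₁ := by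
  have := rel_pre H a (inv g) h
  rwa [IsIso.inv_hom_id_assoc, IsIso.inv_hom_id_assoc] at this

include sq in
/-- related points over the same point of `W` agree. -/
theorem eq_of_rel {T'' : Over S} {v₀ v₁ : T'' ⟶ V'} (h : Rel H a v₀ v₁) (hg : v₀ ≫ g' = v₁ ≫ g') :
    v₀ = v₁ := by
  apply (AlgSp.yon S).map_injective
  apply sq.hom_ext h
  rw [← Functor.map_comp, ← Functor.map_comp, hg]

include sq in
/-- transport of a point of `V'` to another point of `W` with the same image in `T`. -/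
theorem exists_rel {T'' : Over S} (v₀ : T'' ⟶ V') (x₁ : T'' ⟶ W) (h : (v₀ ≫ g') ≫ w = x₁ ≫ w) :
    ∃ v₁ : T'' ⟶ V', v₁ ≫ g' = x₁ ∧ Rel H a v₀ v₁ := by
  have hc : ((AlgSp.yon S).map v₀ ≫ a) ≫ π = (AlgSp.yon S).map x₁ ≫ (AlgSp.yon S).map w := by
    rw [Category.assoc, sq.w, ← Functor.map_comp, ← Functor.map_comp, ← Functor.map_comp,
      ← Category.assoc, h]
  refine ⟨(AlgSp.yon S).preimage (sq.lift _ _ hc), ?_, ?_⟩
  · apply (AlgSp.yon S).map_injective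
    rw [Functor.map_comp, Functor.map_preimage, sq.lift_snd]
  · unfold Rel
    rw [Functor.map_preimage, sq.lift_fst]

include sq in
/-- lifting a point of `H` over a point of `W`. -/
theorem exists_lift {T'' : Over S} (γ : (AlgSp.yon S).obj T'' ⟶ H) (x : T'' ⟶ W)
    (h : γ ≫ π = (AlgSp.yon S).map (x ≫ w)) :
    ∃ v : T'' ⟶ V', v ≫ g' = x ∧ (AlgSp.yon S).map v ≫ a = γ := by
  have hc : γ ≫ π = (AlgSp.yon S).map x ≫ (AlgSp.yon S).map w := by
    rw [h, Functor.map_comp]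
  refine ⟨(AlgSp.yon S).preimage (sq.lift _ _ hc), ?_, ?_⟩
  · apply (AlgSp.yon S).map_injective
    rw [Functor.map_comp, Functor.map_preimage, sq.lift_snd]
  · rw [Functor.map_preimage, sq.lift_fst]

section DD

theorem lifts_hom {T' : Scheme.{u}} (x₀ : T' ⟶ W.left) (v : Lifts (Over.mk g'.left) x₀) :
    v.1 ≫ V'.hom = x₀ ≫ W.hom := by
  have h1 : v.1 ≫ g'.left = x₀ := v.2
  rw [← Over.w g', ← Category.assoc, h1]

theorem hom_eq_of_eq {T' : Scheme.{u}} (x₀ x₁ : T' ⟶ W.left) (h : x₀ ≫ w.left = x₁ ≫ w.left) :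
    x₁ ≫ W.hom = x₀ ≫ W.hom := by
  rw [← Over.w w, ← Category.assoc, ← h, Category.assoc]

/-- the transport of points of `V'` along the descent datum. -/
noncomputable def phiFun {T' : Scheme.{u}} (x₀ x₁ : T' ⟶ W.left)
    (h : x₀ ≫ w.left = x₁ ≫ w.left) (v : Lifts (Over.mk g'.left) x₀) :
    Lifts (Over.mk g'.left) x₁ :=
  have hc : ((Over.homMk v.1 (lifts_hom g' x₀ v) : Over.mk (x₀ ≫ W.hom) ⟶ V') ≫ g') ≫ w =
      (Over.homMk x₁ (hom_eq_of_eq w x₀ x₁ h) : Over.mk (x₀ ≫ W.hom) ⟶ W) ≫ w := by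
    apply Over.OverMorphism.ext
    have h1 : v.1 ≫ g'.left = x₀ := v.2
    simp only [Over.comp_left, Over.homMk_left]
    rw [h1, h]
  ⟨(Classical.choose (exists_rel H π w a g' sq
      (Over.homMk v.1 (lifts_hom g' x₀ v) : Over.mk (x₀ ≫ W.hom) ⟶ V')
      (Over.homMk x₁ (hom_eq_of_eq w x₀ x₁ h) : Over.mk (x₀ ≫ W.hom) ⟶ W) hc)).left,
    congrArg (fun m => m.left) (Classical.choose_spec (exists_rel H π w a g' sq
      (Over.homMk v.1 (lifts_hom g' x₀ v) : Over.mk (x₀ ≫ W.hom) ⟶ V')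
      (Over.homMk x₁ (hom_eq_of_eq w x₀ x₁ h) : Over.mk (x₀ ≫ W.hom) ⟶ W) hc)).1⟩

/-- a point and its transport are related. -/
theorem rel_phiFun {T'' : Over S} (v₀ v₁ : T'' ⟶ V') (x₀ x₁ : T''.left ⟶ W.left)
    (hx₀ : v₀.left ≫ g'.left = x₀) (h : x₀ ≫ w.left = x₁ ≫ w.left)
    (hv₁ : v₁.left = (phiFun H π w a g' sq x₀ x₁ h ⟨v₀.left, hx₀⟩).1) : Rel H a v₀ v₁ := by
  subst hx₀
  have hT : 𝟙 T''.left ≫ T''.hom = (v₀.left ≫ g'.left) ≫ W.hom := by
    rw [Category.id_comp, Category.assoc, Over.w g', Over.w v₀]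
  let e : Over.mk ((v₀.left ≫ g'.left) ≫ W.hom) ⟶ T'' := Over.homMk (𝟙 _) hT
  haveI : IsIso e := by
    haveI : IsIso ((Over.forget S).map e) := by
      change IsIso (𝟙 T''.left)
      infer_instance
    exact isIso_of_reflects_iso e (Over.forget S)
  apply rel_of_iso H a e
  have hc : ((Over.homMk v₀.left (lifts_hom g' _ ⟨v₀.left, rfl⟩) :
      Over.mk ((v₀.left ≫ g'.left) ≫ W.hom) ⟶ V') ≫ g') ≫ w =
      (Over.homMk x₁ (hom_eq_of_eq w _ x₁ h) : Over.mk ((v₀.left ≫ g'.left) ≫ W.hom) ⟶ W) ≫ w := by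
    apply Over.OverMorphism.ext
    simp only [Over.comp_left, Over.homMk_left]
    rw [h]
  have hs := (Classical.choose_spec (exists_rel H π w a g' sq
      (Over.homMk v₀.left (lifts_hom g' _ ⟨v₀.left, rfl⟩) :
        Over.mk ((v₀.left ≫ g'.left) ≫ W.hom) ⟶ V')
      (Over.homMk x₁ (hom_eq_of_eq w _ x₁ h) : Over.mk ((v₀.left ≫ g'.left) ≫ W.hom) ⟶ W) hc)).2
  have e0 : e ≫ v₀ = (Over.homMk v₀.left (lifts_hom g' _ ⟨v₀.left, rfl⟩) :
      Over.mk ((v₀.left ≫ g'.left) ≫ W.hom) ⟶ V') := by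
    apply Over.OverMorphism.ext
    simp only [Over.comp_left, Over.homMk_left, e]
    exact Category.id_comp _
  have e1 : e ≫ v₁ = Classical.choose (exists_rel H π w a g' sq
      (Over.homMk v₀.left (lifts_hom g' _ ⟨v₀.left, rfl⟩) :
        Over.mk ((v₀.left ≫ g'.left) ≫ W.hom) ⟶ V')
      (Over.homMk x₁ (hom_eq_of_eq w _ x₁ h) : Over.mk ((v₀.left ≫ g'.left) ≫ W.hom) ⟶ W) hc) := by
    apply Over.OverMorphism.ext
    simp only [Over.comp_left, Over.homMk_left, e]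
    rw [Category.id_comp, hv₁]
    rfl
  rw [e0, e1]
  exact hs

/-- the transport is characterised by the relation. -/
theorem phiFun_eq_of_rel {T'' : Over S} (v₀ v₁ : T'' ⟶ V') (x₀ x₁ : T''.left ⟶ W.left)
    (hx₀ : v₀.left ≫ g'.left = x₀) (hx₁ : v₁.left ≫ g'.left = x₁)
    (h : x₀ ≫ w.left = x₁ ≫ w.left) (hr : Rel H a v₀ v₁) :
    phiFun H π w a g' sq x₀ x₁ h ⟨v₀.left, hx₀⟩ = ⟨v₁.left, hx₁⟩ := by
  have hc : (phiFun H π w a g' sq x₀ x₁ h ⟨v₀.left, hx₀⟩).1 ≫ V'.hom = T''.hom := by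
    rw [lifts_hom g' x₁, hom_eq_of_eq w x₀ x₁ h, ← hx₀, Category.assoc, Over.w g', Over.w v₀]
  let c : T'' ⟶ V' := Over.homMk (phiFun H π w a g' sq x₀ x₁ h ⟨v₀.left, hx₀⟩).1 hc
  have h1 : Rel H a v₀ c := rel_phiFun H π w a g' sq v₀ c x₀ x₁ hx₀ h rfl
  have h2 : c = v₁ := by
    apply eq_of_rel H π w a g' sq (rel_trans H a (rel_symm H a h1) hr)
    apply Over.OverMorphism.ext
    simp only [Over.comp_left, Over.homMk_left, c]
    rw [hx₁]
    exact (phiFun H π w a g' sq x₀ x₁ h ⟨v₀.left, hx₀⟩).2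
  apply Subtype.ext
  exact congrArg (fun m => m.left) h2

/-- a point over `x₁`, as a morphism over `S` for the structure coming from `x₀`. -/
noncomputable abbrev liftHom {T' : Scheme.{u}} (x₀ x₁ : T' ⟶ W.left)
    (h : x₀ ≫ w.left = x₁ ≫ w.left) (v : Lifts (Over.mk g'.left) x₁) :
    Over.mk (x₀ ≫ W.hom) ⟶ V' :=
  Over.homMk v.1 ((lifts_hom g' x₁ v).trans (hom_eq_of_eq w x₀ x₁ h))

theorem liftHom_comp {T' : Scheme.{u}} (x₀ x₁ : T' ⟶ W.left)
    (h : x₀ ≫ w.left = x₁ ≫ w.left) (v : Lifts (Over.mk g'.left) x₁) :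
    (liftHom w g' x₀ x₁ h v).left ≫ g'.left = x₁ := v.2

theorem rel_liftHom_phiFun {T' : Scheme.{u}} (x₀ x₁ : T' ⟶ W.left)
    (h : x₀ ≫ w.left = x₁ ≫ w.left) (v : Lifts (Over.mk g'.left) x₀) :
    Rel H a (liftHom w g' x₀ x₀ rfl v) (liftHom w g' x₀ x₁ h (phiFun H π w a g' sq x₀ x₁ h v)) :=
  rel_phiFun H π w a g' sq _ _ x₀ x₁ v.2 h rfl

theorem phiFun_eq {T' : Scheme.{u}} (x₀ x₁ x₂ : T' ⟶ W.left)
    (h₁ : x₀ ≫ w.left = x₁ ≫ w.left) (h₂ : x₀ ≫ w.left = x₂ ≫ w.left)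
    (v₁ : Lifts (Over.mk g'.left) x₁) (v₂ : Lifts (Over.mk g'.left) x₂)
    (hr : Rel H a (liftHom w g' x₀ x₁ h₁ v₁) (liftHom w g' x₀ x₂ h₂ v₂)) :
    phiFun H π w a g' sq x₁ x₂ (h₁.symm.trans h₂) v₁ = v₂ :=
  phiFun_eq_of_rel H π w a g' sq (liftHom w g' x₀ x₁ h₁ v₁) (liftHom w g' x₀ x₂ h₂ v₂) x₁ x₂
    v₁.2 v₂.2 (h₁.symm.trans h₂) hr

/-- the descent datum on `V'` relative to `w`. -/
noncomputable def dd : SchDD w.left where
  obj := Over.mk g'.left
  φ T' x₀ x₁ h :=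
    { toFun := phiFun H π w a g' sq x₀ x₁ h
      invFun := phiFun H π w a g' sq x₁ x₀ h.symm
      left_inv := fun v => phiFun_eq H π w a g' sq x₀ x₁ x₀ h rfl _ v
        (rel_symm H a (rel_liftHom_phiFun H π w a g' sq x₀ x₁ h v))
      right_inv := fun v => phiFun_eq H π w a g' sq x₁ x₀ x₁ h.symm rfl _ v
        (rel_symm H a (rel_liftHom_phiFun H π w a g' sq x₁ x₀ h.symm v)) }
  φ_natural T' T'' g x₀ x₁ h h' v v' hv' := by
    have hh : (g ≫ x₀) ≫ w.left = (g ≫ x₁) ≫ w.left := h'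
    have hl : (g ≫ (phiFun H π w a g' sq x₀ x₁ h v).1) ≫ g'.left = g ≫ x₁ := by
      rw [Category.assoc]
      exact congrArg (fun m => g ≫ m) (phiFun H π w a g' sq x₀ x₁ h v).2
    have key := phiFun_eq H π w a g' sq (g ≫ x₀) (g ≫ x₀) (g ≫ x₁) rfl hh v'
      ⟨g ≫ (phiFun H π w a g' sq x₀ x₁ h v).1, hl⟩ (by
        have hg : g ≫ (Over.mk (x₀ ≫ W.hom)).hom = (Over.mk ((g ≫ x₀) ≫ W.hom)).hom :=
          (Category.assoc _ _ _).symm
        let gg : Over.mk ((g ≫ x₀) ≫ W.hom) ⟶ Over.mk (x₀ ≫ W.hom) := Over.homMk g hg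
        have e0 : liftHom w g' (g ≫ x₀) (g ≫ x₀) rfl v' = gg ≫ liftHom w g' x₀ x₀ rfl v := by
          apply Over.OverMorphism.ext
          simp only [Over.comp_left, Over.homMk_left, gg]
          exact hv'
        have e1 : liftHom w g' (g ≫ x₀) (g ≫ x₁) hh
            ⟨g ≫ (phiFun H π w a g' sq x₀ x₁ h v).1, hl⟩ =
            gg ≫ liftHom w g' x₀ x₁ h (phiFun H π w a g' sq x₀ x₁ h v) := by
          apply Over.OverMorphism.ext
          simp only [Over.comp_left, Over.homMk_left, gg]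
        rw [e0, e1]
        exact rel_pre H a gg (rel_liftHom_phiFun H π w a g' sq x₀ x₁ h v))
    exact congrArg Subtype.val key
  φ_self T' x v := phiFun_eq H π w a g' sq x x x rfl rfl v v (rel_refl H a _)
  φ_comp T' x₀ x₁ x₂ h₀₁ h₁₂ v := by
    have h₀₂ : x₀ ≫ w.left = x₂ ≫ w.left := h₀₁.trans h₁₂
    exact phiFun_eq H π w a g' sq x₀ x₁ x₂ h₀₁ h₀₂ _ _
      (rel_trans H a (rel_symm H a (rel_liftHom_phiFun H π w a g' sq x₀ x₁ h₀₁ v))
        (rel_liftHom_phiFun H π w a g' sq x₀ x₂ h₀₂ v))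

end DD

section Eff

variable (Z₀ : Over T.left) (ι : (toDD w.left).obj Z₀ ≅ dd H π w a g' sq)

/-- the descended scheme, over `S`. -/
noncomputable abbrev Zs : Over S := Over.mk (Z₀.hom ≫ T.hom)

/-- its structure map to `T`. -/
noncomputable abbrev zT : Zs Z₀ ⟶ T := Over.homMk Z₀.hom rfl

/-- the pullback of the descended scheme to `W`, over `S`. -/
noncomputable abbrev ZW : Over S := Over.mk (pullback.snd w.left Z₀.hom ≫ Z₀.hom ≫ T.hom)

/-- the covering `Z ×_T W ⟶ Z`. -/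
noncomputable abbrev dZ : ZW w Z₀ ⟶ Zs Z₀ := Over.homMk (pullback.snd w.left Z₀.hom) rfl

/-- the comparison isomorphism, forwards. -/
noncomputable abbrev θ : pullback w.left Z₀.hom ⟶ V'.left := ι.hom.hom.left

/-- the comparison isomorphism, backwards. -/
noncomputable abbrev θi : V'.left ⟶ pullback w.left Z₀.hom := ι.inv.hom.left

theorem θ_comp : θ H π w a g' sq Z₀ ι ≫ g'.left = pullback.fst w.left Z₀.hom :=
  Over.w ι.hom.hom

theorem θi_comp : θi H π w a g' sq Z₀ ι ≫ pullback.fst w.left Z₀.hom = g'.left :=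
  Over.w ι.inv.hom

theorem θ_θi : θ H π w a g' sq Z₀ ι ≫ θi H π w a g' sq Z₀ ι = 𝟙 _ := by
  have h1 : ι.hom ≫ ι.inv = 𝟙 _ := ι.hom_inv_id
  exact congrArg (fun m => m.hom.left) h1

theorem θi_θ : θi H π w a g' sq Z₀ ι ≫ θ H π w a g' sq Z₀ ι = 𝟙 _ := by
  have h1 : ι.inv ≫ ι.hom = 𝟙 _ := ι.inv_hom_id
  exact congrArg (fun m => m.hom.left) h1

theorem θ_hom : θ H π w a g' sq Z₀ ι ≫ V'.hom = (ZW w Z₀).hom := by
  change _ = pullback.snd w.left Z₀.hom ≫ Z₀.hom ≫ T.hom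
  rw [← Over.w g', ← Category.assoc, θ_comp, ← Over.w w, ← Category.assoc, pullback.condition,
    Category.assoc]

/-- the comparison map over `S`. -/
noncomputable abbrev θS : ZW w Z₀ ⟶ V' :=
  Over.homMk (θ H π w a g' sq Z₀ ι) (θ_hom H π w a g' sq Z₀ ι)

theorem θS_left : (θS H π w a g' sq Z₀ ι).left = θ H π w a g' sq Z₀ ι := rfl

theorem θS_comp_left {Z' : Over S} (g₀ : Z' ⟶ ZW w Z₀) :
    (g₀ ≫ θS H π w a g' sq Z₀ ι).left ≫ g'.left = g₀.left ≫ pullback.fst w.left Z₀.hom := by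
  rw [Over.comp_left, θS_left, Category.assoc, θ_comp]

/-- two points of `Z ×_T W` with the same image in `Z` have related images in `V'`. -/
theorem rel_θS {Z' : Over S} (g₀ g₁ : Z' ⟶ ZW w Z₀) (hg : g₀ ≫ dZ w Z₀ = g₁ ≫ dZ w Z₀) :
    Rel H a (g₀ ≫ θS H π w a g' sq Z₀ ι) (g₁ ≫ θS H π w a g' sq Z₀ ι) := by
  have hg' : g₀.left ≫ pullback.snd w.left Z₀.hom = g₁.left ≫ pullback.snd w.left Z₀.hom :=
    congrArg (fun m => m.left) hg
  have h : (g₀.left ≫ pullback.fst w.left Z₀.hom) ≫ w.left =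
      (g₁.left ≫ pullback.fst w.left Z₀.hom) ≫ w.left := by
    rw [Category.assoc, Category.assoc, pullback.condition, ← Category.assoc, hg', Category.assoc]
  have hx₀ : (g₀ ≫ θS H π w a g' sq Z₀ ι).left ≫ g'.left =
      g₀.left ≫ pullback.fst w.left Z₀.hom := θS_comp_left H π w a g' sq Z₀ ι g₀
  refine rel_phiFun H π w a g' sq _ _ (g₀.left ≫ pullback.fst w.left Z₀.hom)
    (g₁.left ≫ pullback.fst w.left Z₀.hom) hx₀ h ?_
  have hc := ι.hom.comm (g₀.left ≫ pullback.fst w.left Z₀.hom)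
    (g₁.left ≫ pullback.fst w.left Z₀.hom) h ⟨g₀.left, rfl⟩
    ⟨(g₀ ≫ θS H π w a g' sq Z₀ ι).left, hx₀⟩ rfl
  have hcan : (((toDD w.left).obj Z₀).φ (g₀.left ≫ pullback.fst w.left Z₀.hom)
      (g₁.left ≫ pullback.fst w.left Z₀.hom) h ⟨g₀.left, rfl⟩).1 = g₁.left := by
    apply pullback.hom_ext
    · exact pullback.lift_fst _ _ _
    · refine (pullback.lift_snd _ _ _).trans hg'
  rw [hcan] at hc
  exact hc.symm

section Cover

variable [Flat w.left] [Surjective w.left] [LocallyOfFinitePresentation w.left]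

instance flat_dZ : Flat (dZ w Z₀).left :=
  inferInstanceAs (Flat (pullback.snd w.left Z₀.hom))

instance lfp_dZ : LocallyOfFinitePresentation (dZ w Z₀).left :=
  MorphismProperty.pullback_snd (P := @LocallyOfFinitePresentation) _ _ inferInstance

theorem surj_dZ (t : (Zs Z₀).left) : t ∈ Set.range (dZ w Z₀).left :=
  (inferInstance : Surjective (pullback.snd w.left Z₀.hom)).surj t

/-- the comparison map `h_Z ⟶ H`. -/
theorem exists_Φ : ∃ Φ : (AlgSp.yon S).obj (Zs Z₀) ⟶ H,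
    (AlgSp.yon S).map (dZ w Z₀) ≫ Φ = (AlgSp.yon S).map (θS H π w a g' sq Z₀ ι) ≫ a := by
  obtain ⟨Φ, hΦ⟩ := sheaf_glue H (Zs Z₀) (fun _ : PUnit.{u + 1} => ZW w Z₀) (fun _ => dZ w Z₀)
    (fun _ => inferInstance) (fun _ => inferInstance) (fun t => ⟨PUnit.unit, surj_dZ w Z₀ t⟩)
    (fun _ => (AlgSp.yon S).map (θS H π w a g' sq Z₀ ι) ≫ a) (by
      intro i j Z' gi gj hg
      have h := rel_θS H π w a g' sq Z₀ ι gi gj hg
      unfold Rel at h
      rw [Functor.map_comp, Functor.map_comp, Category.assoc, Category.assoc] at h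
      exact h)
  exact ⟨Φ, hΦ PUnit.unit⟩

variable (Φ : (AlgSp.yon S).obj (Zs Z₀) ⟶ H)
  (hΦ : (AlgSp.yon S).map (dZ w Z₀) ≫ Φ = (AlgSp.yon S).map (θS H π w a g' sq Z₀ ι) ≫ a)

include sq hΦ in
theorem Φ_π : Φ ≫ π = (AlgSp.yon S).map (zT Z₀) := by
  apply sheaf_hom_ext _ (Zs Z₀) (fun _ : PUnit.{u + 1} => ZW w Z₀) (fun _ => dZ w Z₀)
    (fun _ => inferInstance) (fun _ => inferInstance) (fun t => ⟨PUnit.unit, surj_dZ w Z₀ t⟩)
  intro _
  rw [← Category.assoc, hΦ, Category.assoc, sq.w, ← Functor.map_comp, ← Functor.map_comp,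
    ← Functor.map_comp]
  congr 1
  apply Over.OverMorphism.ext
  simp only [Over.comp_left, Over.homMk_left]
  rw [← Category.assoc, θ_comp, pullback.condition]

section Test

variable {T'' : Over S} (y : T'' ⟶ T)

/-- the pullback of a test scheme to `W`, over `S`. -/
noncomputable abbrev TW : Over S := Over.mk (pullback.fst y.left w.left ≫ T''.hom)

/-- the covering `T'' ×_T W ⟶ T''`. -/
noncomputable abbrev dT : TW w y ⟶ T'' := Over.homMk (pullback.fst y.left w.left) rfl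

theorem xW_hom : pullback.snd y.left w.left ≫ W.hom = (TW w y).hom := by
  change _ = pullback.fst y.left w.left ≫ T''.hom
  rw [← Over.w w, ← Category.assoc, ← pullback.condition, Category.assoc, Over.w y]

/-- the projection `T'' ×_T W ⟶ W`. -/
noncomputable abbrev xW : TW w y ⟶ W := Over.homMk (pullback.snd y.left w.left) (xW_hom w y)

theorem dT_comp : dT w y ≫ y = xW w y ≫ w := by
  apply Over.OverMorphism.ext
  simp only [Over.comp_left, Over.homMk_left]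
  exact pullback.condition

instance flat_dT : Flat (dT w y).left :=
  inferInstanceAs (Flat (pullback.fst y.left w.left))

instance lfp_dT : LocallyOfFinitePresentation (dT w y).left :=
  MorphismProperty.pullback_fst (P := @LocallyOfFinitePresentation) _ _ inferInstance

theorem surj_dT (t : T''.left) : t ∈ Set.range (dT w y).left :=
  (inferInstance : Surjective (pullback.fst y.left w.left)).surj t

theorem liftW_cond (ζ : T'' ⟶ Zs Z₀) (h : ζ ≫ zT Z₀ = y) :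
    pullback.snd y.left w.left ≫ w.left = (pullback.fst y.left w.left ≫ ζ.left) ≫ Z₀.hom := by
  have h1 : ζ.left ≫ Z₀.hom = y.left := congrArg (fun m => m.left) h
  rw [Category.assoc, h1, pullback.condition]

theorem liftW_hom (ζ : T'' ⟶ Zs Z₀) (h : ζ ≫ zT Z₀ = y) :
    pullback.lift (pullback.snd y.left w.left) (pullback.fst y.left w.left ≫ ζ.left)
      (liftW_cond w Z₀ y ζ h) ≫ (ZW w Z₀).hom = (TW w y).hom := by
  change _ ≫ pullback.snd w.left Z₀.hom ≫ Z₀.hom ≫ T.hom = pullback.fst y.left w.left ≫ T''.hom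
  rw [pullback.lift_snd_assoc, Category.assoc]
  congr 1
  exact Over.w ζ

/-- the lift of a test point of `Z` to `Z ×_T W`. -/
noncomputable abbrev liftW (ζ : T'' ⟶ Zs Z₀) (h : ζ ≫ zT Z₀ = y) : TW w y ⟶ ZW w Z₀ :=
  Over.homMk (pullback.lift (pullback.snd y.left w.left) (pullback.fst y.left w.left ≫ ζ.left)
    (liftW_cond w Z₀ y ζ h)) (liftW_hom w Z₀ y ζ h)

theorem liftW_dZ (ζ : T'' ⟶ Zs Z₀) (h : ζ ≫ zT Z₀ = y) :
    liftW w Z₀ y ζ h ≫ dZ w Z₀ = dT w y ≫ ζ := by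
  apply Over.OverMorphism.ext
  simp only [Over.comp_left, Over.homMk_left]
  exact pullback.lift_snd _ _ _

theorem liftW_fst (ζ : T'' ⟶ Zs Z₀) (h : ζ ≫ zT Z₀ = y) :
    (liftW w Z₀ y ζ h).left ≫ pullback.fst w.left Z₀.hom = pullback.snd y.left w.left :=
  pullback.lift_fst _ _ _

include sq hΦ in
/-- the comparison map is injective on points. -/
theorem Φ_inj (ζ ζ' : T'' ⟶ Zs Z₀) (hz : ζ ≫ zT Z₀ = ζ' ≫ zT Z₀)
    (hζ : (AlgSp.yon S).map ζ ≫ Φ = (AlgSp.yon S).map ζ' ≫ Φ) : ζ = ζ' := by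
  have key : ∀ ζ₁ : T'' ⟶ Zs Z₀, ∀ h₁ : ζ₁ ≫ zT Z₀ = ζ ≫ zT Z₀,
      (AlgSp.yon S).map (liftW w Z₀ (ζ ≫ zT Z₀) ζ₁ h₁ ≫ θS H π w a g' sq Z₀ ι) ≫ a =
        (AlgSp.yon S).map (dT w (ζ ≫ zT Z₀)) ≫ (AlgSp.yon S).map ζ₁ ≫ Φ := by
    intro ζ₁ h₁
    rw [Functor.map_comp, Category.assoc, ← hΦ, ← Category.assoc, ← Functor.map_comp, liftW_dZ,
      Functor.map_comp, Category.assoc]
  have hr : Rel H a (liftW w Z₀ (ζ ≫ zT Z₀) ζ rfl ≫ θS H π w a g' sq Z₀ ι)
      (liftW w Z₀ (ζ ≫ zT Z₀) ζ' hz.symm ≫ θS H π w a g' sq Z₀ ι) := by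
    unfold Rel
    rw [key ζ rfl, key ζ' hz.symm, hζ]
  have hv := eq_of_rel H π w a g' sq hr (by
    apply Over.OverMorphism.ext
    simp only [Over.comp_left, θS_left, Category.assoc, θ_comp]
    rw [liftW_fst, liftW_fst])
  have h1 : (liftW w Z₀ (ζ ≫ zT Z₀) ζ rfl).left ≫ θ H π w a g' sq Z₀ ι =
      (liftW w Z₀ (ζ ≫ zT Z₀) ζ' hz.symm).left ≫ θ H π w a g' sq Z₀ ι :=
    congrArg (fun m => m.left) hv
  have h2 : (liftW w Z₀ (ζ ≫ zT Z₀) ζ rfl).left = (liftW w Z₀ (ζ ≫ zT Z₀) ζ' hz.symm).left := by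
    have e : ∀ m : (TW w (ζ ≫ zT Z₀)).left ⟶ pullback w.left Z₀.hom,
        (m ≫ θ H π w a g' sq Z₀ ι) ≫ θi H π w a g' sq Z₀ ι = m := by
      intro m
      rw [Category.assoc, θ_θi]
      exact Category.comp_id m
    exact (e _).symm.trans ((congrArg (fun m => m ≫ θi H π w a g' sq Z₀ ι) h1).trans (e _))
  apply fppf_hom_ext (Zs Z₀) T'' (fun _ : PUnit.{u + 1} => TW w (ζ ≫ zT Z₀))
    (fun _ => dT w (ζ ≫ zT Z₀)) (fun _ => inferInstance) (fun _ => inferInstance)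
    (fun t => ⟨PUnit.unit, surj_dT w _ t⟩)
  intro _
  rw [← liftW_dZ w Z₀ (ζ ≫ zT Z₀) ζ rfl, ← liftW_dZ w Z₀ (ζ ≫ zT Z₀) ζ' hz.symm]
  apply Over.OverMorphism.ext
  rw [Over.comp_left, Over.comp_left, h2]

theorem θi_hom {Z' : Over S} (v : Z' ⟶ V') :
    (v.left ≫ θi H π w a g' sq Z₀ ι) ≫ (ZW w Z₀).hom = Z'.hom := by
  change (v.left ≫ θi H π w a g' sq Z₀ ι) ≫ pullback.snd w.left Z₀.hom ≫ Z₀.hom ≫ T.hom = Z'.hom
  rw [← pullback.condition_assoc, Category.assoc, reassoc_of% (θi_comp H π w a g' sq Z₀ ι),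
    Over.w w, Over.w g', Over.w v]

/-- a point of `V'` as a point of `Z ×_T W`. -/
noncomputable abbrev toZW {Z' : Over S} (v : Z' ⟶ V') : Z' ⟶ ZW w Z₀ :=
  Over.homMk (v.left ≫ θi H π w a g' sq Z₀ ι) (θi_hom H π w a g' sq Z₀ ι v)

theorem toZW_θS {Z' : Over S} (v : Z' ⟶ V') :
    toZW H π w a g' sq Z₀ ι v ≫ θS H π w a g' sq Z₀ ι = v := by
  apply Over.OverMorphism.ext
  simp only [Over.comp_left, Over.homMk_left, Category.assoc, θi_θ]
  exact Category.comp_id _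

/-- related points of `V'` have the same image in `Z`. -/
theorem toZW_dZ_of_rel {Z' : Over S} (v₀ v₁ : Z' ⟶ V') (hr : Rel H a v₀ v₁)
    (hw : (v₀ ≫ g') ≫ w = (v₁ ≫ g') ≫ w) :
    toZW H π w a g' sq Z₀ ι v₀ ≫ dZ w Z₀ = toZW H π w a g' sq Z₀ ι v₁ ≫ dZ w Z₀ := by
  have h : (v₀.left ≫ g'.left) ≫ w.left = (v₁.left ≫ g'.left) ≫ w.left :=
    congrArg (fun m => m.left) hw
  have h1 := phiFun_eq_of_rel H π w a g' sq v₀ v₁ (v₀.left ≫ g'.left) (v₁.left ≫ g'.left)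
    rfl rfl h hr
  have hl : (v₀.left ≫ θi H π w a g' sq Z₀ ι) ≫ pullback.fst w.left Z₀.hom =
      v₀.left ≫ g'.left := by
    rw [Category.assoc, θi_comp]
  have hc := ι.inv.comm (v₀.left ≫ g'.left) (v₁.left ≫ g'.left) h ⟨v₀.left, rfl⟩
    ⟨v₀.left ≫ θi H π w a g' sq Z₀ ι, hl⟩ rfl
  have h2 : ((dd H π w a g' sq).φ (v₀.left ≫ g'.left) (v₁.left ≫ g'.left) h ⟨v₀.left, rfl⟩).1 =
      v₁.left := congrArg Subtype.val h1
  rw [h2] at hc
  apply Over.OverMorphism.ext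
  simp only [Over.comp_left, Over.homMk_left]
  have h3 := congrArg (fun m => m ≫ pullback.snd w.left Z₀.hom) hc
  refine Eq.trans ?_ h3
  exact (pullback.lift_snd _ _ _).symm

include sq hΦ in
/-- the comparison map is surjective on points. -/
theorem Φ_surj (b : (AlgSp.yon S).obj T'' ⟶ H) (hb : b ≫ π = (AlgSp.yon S).map y) :
    ∃ ζ : T'' ⟶ Zs Z₀, (AlgSp.yon S).map ζ ≫ Φ = b := by
  obtain ⟨v, hv1, hv2⟩ := exists_lift H π w a g' sq ((AlgSp.yon S).map (dT w y) ≫ b) (xW w y) (by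
    rw [Category.assoc, hb, ← Functor.map_comp, dT_comp])
  obtain ⟨ζ, hζ, -⟩ := fppf_glue (Zs Z₀) T'' (fun _ : PUnit.{u + 1} => TW w y)
    (fun _ => dT w y) (fun _ => inferInstance) (fun _ => inferInstance)
    (fun t => ⟨PUnit.unit, surj_dT w _ t⟩)
    (fun _ => toZW H π w a g' sq Z₀ ι v ≫ dZ w Z₀) (by
      intro _ _ Z' g₀ g₁ hg
      have hr : Rel H a (g₀ ≫ v) (g₁ ≫ v) := by
        unfold Rel
        rw [Functor.map_comp, Functor.map_comp, Category.assoc, Category.assoc, hv2,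
          ← Category.assoc, ← Category.assoc, ← Functor.map_comp, ← Functor.map_comp, hg]
      have hw : ((g₀ ≫ v) ≫ g') ≫ w = ((g₁ ≫ v) ≫ g') ≫ w := by
        have e1 : ∀ g : Z' ⟶ TW w y, ((g ≫ v) ≫ g') ≫ w = (g ≫ dT w y) ≫ y := by
          intro g
          rw [Category.assoc g v g', hv1, Category.assoc, ← dT_comp, Category.assoc]
        rw [e1, e1, hg]
      have := toZW_dZ_of_rel H π w a g' sq Z₀ ι (g₀ ≫ v) (g₁ ≫ v) hr hw
      have e : ∀ g : Z' ⟶ TW w y, g ≫ toZW H π w a g' sq Z₀ ι v ≫ dZ w Z₀ =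
          toZW H π w a g' sq Z₀ ι (g ≫ v) ≫ dZ w Z₀ := by
        intro g
        apply Over.OverMorphism.ext
        simp only [Over.comp_left, Over.homMk_left, Category.assoc]
      rw [e g₀, e g₁, this])
  refine ⟨ζ, ?_⟩
  apply sheaf_hom_ext _ T'' (fun _ : PUnit.{u + 1} => TW w y) (fun _ => dT w y)
    (fun _ => inferInstance) (fun _ => inferInstance) (fun t => ⟨PUnit.unit, surj_dT w _ t⟩)
  intro _
  rw [← Category.assoc, ← Functor.map_comp, hζ PUnit.unit, Functor.map_comp, Category.assoc, hΦ,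
    ← Category.assoc, ← Functor.map_comp, toZW_θS, hv2]

end Test

include sq hΦ in
/-- the descended scheme represents `H`. -/
theorem isPullback_Φ : IsPullback Φ ((AlgSp.yon S).map (zT Z₀)) π (𝟙 _) := by
  have hπ := Φ_π H π w a g' sq Z₀ ι Φ hΦ
  apply isPullback_of_yon (by rw [hπ, Category.comp_id])
  intro T'' b c hbc
  obtain ⟨y, rfl⟩ := (AlgSp.yon S).map_surjective c
  rw [Category.comp_id] at hbc
  obtain ⟨ζ, hζ⟩ := Φ_surj H π w a g' sq Z₀ ι Φ hΦ y b hbc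
  have hzy : ζ ≫ zT Z₀ = y := by
    apply (AlgSp.yon S).map_injective
    rw [Functor.map_comp, ← hπ, ← Category.assoc, hζ, hbc]
  refine ⟨(AlgSp.yon S).map ζ, ⟨hζ, by rw [← Functor.map_comp, hzy]⟩, ?_⟩
  rintro α ⟨h1, h2⟩
  obtain ⟨ζ', rfl⟩ := (AlgSp.yon S).map_surjective α
  congr 1
  refine Φ_inj H π w a g' sq Z₀ ι Φ hΦ ζ' ζ ?_ (h1.trans hζ.symm)
  apply (AlgSp.yon S).map_injective
  rw [Functor.map_comp, h2, hzy]

end Cover

end Eff

include sq in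
/-- **Representability from an fppf chart and effective descent.** -/
theorem exists_isPullback [Flat w.left] [Surjective w.left] [LocallyOfFinitePresentation w.left]
    (heff : (toDD w.left).essImage (dd H π w a g' sq)) :
    ∃ (Z : Over S) (z : Z ⟶ T) (Φ : (AlgSp.yon S).obj Z ⟶ H),
      IsPullback Φ ((AlgSp.yon S).map z) π (𝟙 _) := by
  obtain ⟨Z₀, ⟨ι⟩⟩ := heff
  obtain ⟨Φ, hΦ⟩ := exists_Φ H π w a g' sq Z₀ ι
  exact ⟨Zs Z₀, zT Z₀, Φ, isPullback_Φ H π w a g' sq Z₀ ι Φ hΦ⟩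

include sq in
/-- variant of `exists_isPullback` which also records that the base change of the representing
scheme to the chart is the given local representing scheme. -/
theorem exists_isPullback' [Flat w.left] [Surjective w.left] [LocallyOfFinitePresentation w.left]
    (heff : (toDD w.left).essImage (dd H π w a g' sq)) :
    ∃ (Z : Over S) (z : Z ⟶ T) (Φ : (AlgSp.yon S).obj Z ⟶ H),
      IsPullback Φ ((AlgSp.yon S).map z) π (𝟙 _) ∧
      ∃ e : pullback w.left z.left ≅ V'.left, e.hom ≫ g'.left = pullback.fst w.left z.left := by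
  obtain ⟨Z₀, ⟨ι⟩⟩ := heff
  obtain ⟨Φ, hΦ⟩ := exists_Φ H π w a g' sq Z₀ ι
  exact ⟨Zs Z₀, zT Z₀, Φ, isPullback_Φ H π w a g' sq Z₀ ι Φ hΦ,
    ⟨θ H π w a g' sq Z₀ ι, θi H π w a g' sq Z₀ ι, θ_θi H π w a g' sq Z₀ ι,
      θi_θ H π w a g' sq Z₀ ι⟩, θ_comp H π w a g' sq Z₀ ι⟩

end Main

end Groth.Agent.Lib.T2H7.LocRep
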