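import Mathlib
import Groth.Prelude.Def_AlgSpRep
import Groth.Prelude.Def_AlgSp4
import Groth.Agent.Lib.T2H1BootEt
import Groth.Agent.Lib.T2H7LocRep
import Groth.Agent.Lib.Helper9QuotSh
import Groth.Agent.Lib.Helper12Descent
import Groth.Agent.Lib.Helper12QuasiFiniteDescent
import Groth.Agent.S9726
import Groth.Agent.S9884

set_option autoImplicit false
universe u
open CategoryTheory CategoryTheory.Limits AlgebraicGeometry Opposite
open AlgSp

namespace Groth.Agent.Lib.T2H1.BootDesc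

variable {S : Scheme.{u}}

/-- sheaf-level form of "representable by algebraic spaces, surjective, flat, locally of finite
presentation". -/
def FppfRep {F G : AlgSp.Sp S} (g : F ⟶ G) : Prop :=
  ∀ ⦃T : Over S⦄ (ξ : (AlgSp.yon S).obj T ⟶ G) ⦃F' : AlgSp.Sp S⦄ (fst : F' ⟶ F)
    (snd : F' ⟶ (AlgSp.yon S).obj T), IsPullback fst snd g ξ → AlgSp.IsAlgSpace F' ∧
      (AlgSp.IsSurjectiveMor ⊓ AlgSp.LocP @Flat ⊓ AlgSp.LocP @LocallyOfFinitePresentation) snd

/-- fppf charts: every `T`-point of `G` lifts to `F` over an fppf cover `W ⟶ T`. -/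
theorem exists_fppf_chart {F G : AlgSp.Sp S} (g : F ⟶ G) (hg : FppfRep g) {T : Over S}
    (ξ : (AlgSp.yon S).obj T ⟶ G) :
    ∃ (W : Over S) (w : W ⟶ T) (η : (AlgSp.yon S).obj W ⟶ F),
      η ≫ g = (AlgSp.yon S).map w ≫ ξ ∧ Flat w.left ∧ Surjective w.left ∧
        LocallyOfFinitePresentation w.left := by
  obtain ⟨hFT, ⟨hs, hfl⟩, hfp⟩ := hg ξ _ _ (IsPullback.of_hasPullback g ξ)
  obtain ⟨W, c, hce, hcs⟩ := hFT.atlas
  have hw : c ≫ pullback.snd g ξ =
      (AlgSp.yon S).map ((AlgSp.yon S).preimage (c ≫ pullback.snd g ξ)) :=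
    (Functor.map_preimage _ _).symm
  refine ⟨W, (AlgSp.yon S).preimage (c ≫ pullback.snd g ξ), c ≫ pullback.fst g ξ, ?_, ?_, ?_, ?_⟩
  · rw [Category.assoc, pullback.condition, ← Category.assoc, Functor.map_preimage]
  · exact hfl c (𝟙 _) _ hce (AlgSp.repWith_id _ T) (by rw [Category.comp_id]; exact hw)
  · have h1 : AlgSp.IsSurjectiveMor c :=
      Groth.Agent.Lib.Helper15SmLoc.isSurjectiveMor_atlas ⟨_, hFT⟩ c hce hcs
    have h2 : AlgSp.IsSurjectiveMor ((AlgSp.yon S).map
        ((AlgSp.yon S).preimage (c ≫ pullback.snd g ξ))) := by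
      rw [← hw]
      intro y
      obtain ⟨x, hx⟩ := hs y
      obtain ⟨v, hv⟩ := h1 x
      exact ⟨v, by rw [AlgSp.Points.map_comp, hv, hx]⟩
    exact ⟨Groth.Agent.Lib.Helper15SmLoc.surjective_of_isSurjectiveMor_yon_map _ h2⟩
  · exact hfp c (𝟙 _) _ hce (AlgSp.repWith_id _ T) (by rw [Category.comp_id]; exact hw)

open Groth.Agent.S13210 in
theorem isLocallySurjective_of_fppfRep {F G : AlgSp.Sp S} (g : F ⟶ G) (hg : FppfRep g) :
    Sheaf.IsLocallySurjective g := by
  constructor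
  intro T ξ₀
  obtain ⟨W, w, η, hη, hfl, hs, hfp⟩ := exists_fppf_chart g hg ((yEquiv T G).symm ξ₀)
  refine (AlgSp.J S).superset_covering ?_ (Groth.Agent.Lib.Helper9.generate_singleton_mem_J_fppf w)
  rintro Z k ⟨Z', a, b, ⟨⟩, rfl⟩
  refine ⟨yEquiv Z F ((AlgSp.yon S).map a ≫ η), ?_⟩
  have h1 : g.hom.app (op Z) (yEquiv Z F ((AlgSp.yon S).map a ≫ η)) =
      yEquiv Z G (((AlgSp.yon S).map a ≫ η) ≫ g) := (yEquiv_comp _ g).symm
  rw [h1, Category.assoc, hη, ← Category.assoc, ← Functor.map_comp,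
    ← Groth.Agent.Lib.Helper12.ZarGlue.map_yEquiv, Equiv.apply_symm_apply]

/-- sheaf-level form of "representable by algebraic spaces, separated, locally quasi-finite". -/
def SepLqfRep {E F : AlgSp.Sp S} (a : E ⟶ F) : Prop :=
  ∀ ⦃T : Over S⦄ (ξ : (AlgSp.yon S).obj T ⟶ F) ⦃F' : AlgSp.Sp S⦄ (fst : F' ⟶ E)
    (snd : F' ⟶ (AlgSp.yon S).obj T), IsPullback fst snd a ξ → AlgSp.IsAlgSpace F' ∧
      (AlgSp.IsSeparatedMor ⊓ AlgSp.LocP (@LocallyQuasiFinite ⊓ @LocallyOfFiniteType)) snd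

/-- a map representable by algebraic spaces, separated and locally quasi-finite is representable
by schemes. -/
theorem repWith_of_sepLqfRep {E F : AlgSp.Sp S} (a : E ⟶ F) (ha : SepLqfRep a) :
    AlgSp.RepWith @IsSeparated a ∧
      AlgSp.RepWith (@LocallyQuasiFinite ⊓ @LocallyOfFiniteType) a := by
  have key : ∀ ⦃W : Over S⦄ (η : (AlgSp.yon S).obj W ⟶ F), ∃ (V' : Over S)
      (fst' : (AlgSp.yon S).obj V' ⟶ E) (g' : V' ⟶ W),
      IsPullback fst' ((AlgSp.yon S).map g') a η ∧ IsSeparated g'.left ∧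
        (@LocallyQuasiFinite ⊓ @LocallyOfFiniteType : MorphismProperty Scheme.{u}) g'.left := by
    intro W η
    obtain ⟨hEW, hsep, hlqf⟩ := ha η _ _ (IsPullback.of_hasPullback a η)
    have hrep : AlgSp.Representable (pullback.snd a η) :=
      Groth.Agent.S10260.result (X := ⟨_, hEW⟩) (Y := (AlgSp.ofScheme S).obj W)
        (ObjectProperty.homMk (pullback.snd a η)) hlqf hsep
    obtain ⟨V', g', fst', sq'⟩ := hrep (𝟙 _)
    haveI : IsIso fst' := sq'.isIso_fst_of_isIso
    have hfe : AlgSp.RepWith @Etale fst' := MorphismProperty.of_isIso _ fst'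
    refine ⟨V', fst' ≫ pullback.fst a η, g', ?_, ?_, ?_⟩
    · have := sq'.paste_horiz (IsPullback.of_hasPullback a η)
      rwa [Category.id_comp] at this
    · have h1 : AlgSp.IsSeparatedMor ((AlgSp.yon S).map g') :=
        Groth.Agent.Lib.Helper12.Proper.isSeparatedMor_baseChange sq' hsep
      exact (AlgSp.isSeparatedMor_yon_map_iff g').1 h1
    · exact hlqf fst' (𝟙 _) g' hfe (AlgSp.repWith_id _ W) sq'.w
  constructor
  · refine MorphismProperty.relative.of_exists fun W η => ?_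
    obtain ⟨V', fst', g', sq, h1, -⟩ := key η
    exact ⟨V', fst', g', sq, h1⟩
  · refine MorphismProperty.relative.of_exists fun W η => ?_
    obtain ⟨V', fst', g', sq, -, h2⟩ := key η
    exact ⟨V', fst', g', sq, h2⟩

/-- descent of representability: if the base change `a` of `b` along an fppf cover `g`
(representable by algebraic spaces) is representable by schemes, separated and locally quasi-finite,
then `b` is representable by schemes. -/
theorem representable_of_descent {E F G H : AlgSp.Sp S} (a : E ⟶ F) (f : E ⟶ H) (g : F ⟶ G)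
    (b : H ⟶ G) (sq : IsPullback a f g b) (hg : FppfRep g)
    (ha1 : AlgSp.RepWith @IsSeparated a)
    (ha2 : AlgSp.RepWith (@LocallyQuasiFinite ⊓ @LocallyOfFiniteType) a) :
    AlgSp.Representable b := by
  intro T ξ
  obtain ⟨W, w, η, hη, hfl, hs, hfp⟩ := exists_fppf_chart g hg ξ
  obtain ⟨V', g', fst', sq'⟩ := ha1.rep η
  haveI hsep : IsSeparated g'.left := ha1.property η fst' g' sq'
  obtain ⟨hq, hft⟩ := ha2.property η fst' g' sq'
  have big : IsPullback (fst' ≫ f) ((AlgSp.yon S).map g') b (η ≫ g) := sq'.paste_horiz sq.flip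
  rw [hη] at big
  have hc : (fst' ≫ f) ≫ b = ((AlgSp.yon S).map g' ≫ (AlgSp.yon S).map w) ≫ ξ := by
    rw [big.w, Category.assoc]
  let a' : (AlgSp.yon S).obj V' ⟶ pullback b ξ :=
    pullback.lift (fst' ≫ f) ((AlgSp.yon S).map g' ≫ (AlgSp.yon S).map w) hc
  have ha1' : a' ≫ pullback.fst b ξ = fst' ≫ f := pullback.lift_fst _ _ _
  have ha2' : a' ≫ pullback.snd b ξ = (AlgSp.yon S).map g' ≫ (AlgSp.yon S).map w :=
    pullback.lift_snd _ _ _
  have sqH : IsPullback a' ((AlgSp.yon S).map g') (pullback.snd b ξ) ((AlgSp.yon S).map w) := by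
    refine IsPullback.of_right ?_ ha2' (IsPullback.of_hasPullback b ξ)
    rw [ha1']
    exact big
  haveI := hfl
  haveI := hs
  haveI := hfp
  haveI : IsSeparated (Groth.Agent.Lib.T2H7.LocRep.dd (pullback b ξ) (pullback.snd b ξ) w a' g'
      sqH).obj.hom := hsep
  haveI : LocallyQuasiFinite (Groth.Agent.Lib.T2H7.LocRep.dd (pullback b ξ) (pullback.snd b ξ) w
      a' g' sqH).obj.hom := hq
  haveI : LocallyOfFiniteType (Groth.Agent.Lib.T2H7.LocRep.dd (pullback b ξ) (pullback.snd b ξ) w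
      a' g' sqH).obj.hom := hft
  have heff : (Desc.toDD w.left).essImage
      (Groth.Agent.Lib.T2H7.LocRep.dd (pullback b ξ) (pullback.snd b ξ) w a' g' sqH) :=
    Groth.Agent.S9726.result w.left _
  obtain ⟨Z, z, Φ, sqZ⟩ := Groth.Agent.Lib.T2H7.LocRep.exists_isPullback (pullback b ξ)
    (pullback.snd b ξ) w a' g' sqH heff
  have sqF := sqZ.paste_horiz (IsPullback.of_hasPullback b ξ)
  rw [Category.id_comp] at sqF
  exact ⟨Z, z, Φ ≫ pullback.fst b ξ, sqF⟩

theorem isLocalAtTarget_fppf_isSeparated :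
    MorphismProperty.IsLocalAtTarget (@IsSeparated : MorphismProperty Scheme.{u})
      Scheme.fppfPrecoverage :=
  Groth.Agent.Lib.T2H1.RepIso.isLocalAtTarget_fppf _
    Groth.Agent.Lib.Helper12.descendsAlong_isSeparated

theorem isLocalAtTarget_fppf_lqf :
    MorphismProperty.IsLocalAtTarget
      (@LocallyQuasiFinite ⊓ @LocallyOfFiniteType : MorphismProperty Scheme.{u})
      Scheme.fppfPrecoverage :=
  Groth.Agent.Lib.T2H1.RepIso.isLocalAtTarget_fppf _
    Groth.Agent.Lib.Helper12.descendsAlong_locallyQuasiFinite_inf_locallyOfFiniteType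

/-- the bootstrap descent lemma at sheaf level. -/
theorem repWith_of_descent {E F G H : AlgSp.Sp S} (a : E ⟶ F) (f : E ⟶ H) (g : F ⟶ G)
    (b : H ⟶ G) (sq : IsPullback a f g b) (hg : FppfRep g) (ha : SepLqfRep a) :
    AlgSp.RepWith @IsSeparated b ∧
      AlgSp.RepWith (@LocallyQuasiFinite ⊓ @LocallyOfFiniteType) b := by
  obtain ⟨ha1, ha2⟩ := repWith_of_sepLqfRep a ha
  have hrep := representable_of_descent a f g b sq hg ha1 ha2
  haveI := isLocallySurjective_of_fppfRep g hg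
  haveI := isLocalAtTarget_fppf_isSeparated.{u}
  haveI := isLocalAtTarget_fppf_lqf.{u}
  exact ⟨Groth.Agent.S9884.result S H G F b hrep g E f a sq.flip @IsSeparated ha1,
    Groth.Agent.S9884.result S H G F b hrep g E f a sq.flip _ ha2⟩

end Groth.Agent.Lib.T2H1.BootDesc
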