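import Mathlib
import Groth.Agent.S10265
import Groth.Agent.Lib.Helper12QuasiFiniteDescent
import Groth.Prelude.Def_AlgSp3

set_option autoImplicit false
universe u
open CategoryTheory CategoryTheory.Limits AlgebraicGeometry Opposite

namespace Groth.Agent.Lib.T2H1.MonoLqf

/-- a flat surjective quasi-compact morphism between spectra of fields. -/
theorem fieldCover {K L : CommRingCat.{u}} (hK : IsField K) (hL : IsField L) (ψ : K ⟶ L) :
    (@Surjective ⊓ @Flat ⊓ @QuasiCompact : MorphismProperty Scheme.{u}) (Spec.map ψ) := by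
  letI := hK.toField
  letI := hL.toField
  refine ⟨⟨?_, ?_⟩, inferInstance⟩
  · haveI : Subsingleton (Spec K) := inferInstanceAs (Subsingleton (PrimeSpectrum K))
    haveI : Nonempty (Spec L) := inferInstanceAs (Nonempty (PrimeSpectrum L))
    exact ⟨fun x => ⟨Classical.arbitrary _, Subsingleton.elim _ _⟩⟩
  · rw [HasRingHomProperty.Spec_iff (P := @Flat)]
    algebraize [ψ.hom]
    show Module.Flat K L
    infer_instance

theorem fieldCover' {R S : CommRingCat.{u}} (hR : IsField R) (hS : IsField S)
    (f : Spec S ⟶ Spec R) :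
    (@Surjective ⊓ @Flat ⊓ @QuasiCompact : MorphismProperty Scheme.{u}) f := by
  obtain ⟨φ, rfl⟩ := Spec.map_surjective f
  exact fieldCover hR hS φ

/-- A morphism locally of finite type whose kernel pair projection is étale is locally
quasi-finite. -/
theorem locallyQuasiFinite_of_etale_snd {A B : Scheme.{u}} (κ : A ⟶ B) [LocallyOfFiniteType κ]
    (h : Etale (pullback.snd κ κ)) : LocallyQuasiFinite κ := by
  refine LocallyQuasiFinite.of_fiberToSpecResidueField κ fun y => ?_
  let ι := B.fromSpecResidueField y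
  let φ : pullback κ ι ⟶ Spec (B.residueField y) := pullback.snd κ ι
  change LocallyQuasiFinite φ
  by_cases hne : Nonempty ↥(pullback κ ι)
  · obtain ⟨x⟩ := hne
    let σ := (pullback κ ι).fromSpecResidueField x
    let τ := σ ≫ φ
    have hτ := fieldCover' (Field.toIsField _) (Field.toIsField _) τ
    let ρ : Spec ((pullback κ ι).residueField x) ⟶ A := σ ≫ pullback.fst κ ι
    have hρ : τ ≫ ι = ρ ≫ κ := by
      simp only [τ, ρ, φ, Category.assoc, pullback.condition]
    have big : IsPullback (pullback.fst φ τ ≫ pullback.fst κ ι) (pullback.snd φ τ) κ (τ ≫ ι) :=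
      (IsPullback.of_hasPullback φ τ).paste_horiz (IsPullback.of_hasPullback κ ι)
    rw [hρ] at big
    let l : pullback φ τ ⟶ pullback κ κ :=
      pullback.lift (pullback.fst φ τ ≫ pullback.fst κ ι) (pullback.snd φ τ ≫ ρ) big.w
    have hl1 : l ≫ pullback.fst κ κ = pullback.fst φ τ ≫ pullback.fst κ ι := pullback.lift_fst _ _ _
    have hl2 : l ≫ pullback.snd κ κ = pullback.snd φ τ ≫ ρ := pullback.lift_snd _ _ _
    have left : IsPullback l (pullback.snd φ τ) (pullback.snd κ κ) ρ := by
      refine IsPullback.of_right ?_ hl2 (IsPullback.of_hasPullback κ κ)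
      rw [hl1]
      exact big
    haveI : Etale (pullback.snd φ τ) := MorphismProperty.of_isPullback left h
    haveI : LocallyQuasiFinite (pullback.snd φ τ) :=
      Groth.Agent.S10265.locallyQuasiFinite_of_unramified _
    haveI := Groth.Agent.Lib.Helper12.descendsAlong_locallyQuasiFinite.{u}
    exact MorphismProperty.of_pullback_snd_of_descendsAlong (P := @LocallyQuasiFinite)
      (Q := (@Surjective ⊓ @Flat ⊓ @QuasiCompact : MorphismProperty Scheme.{u})) (f := φ) (g := τ)
      hτ inferInstance
  · haveI : LocallyOfFiniteType φ := inferInstance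
    refine LocallyQuasiFinite.of_injective ?_
    intro a
    exact absurd ⟨a⟩ hne

theorem isPullback_comp_mono {C : Type*} [Category C] {P X Y Z Z' : C} {fst : P ⟶ X}
    {snd : P ⟶ Y} {f : X ⟶ Z} {g : Y ⟶ Z} (h : IsPullback fst snd f g) (j : Z ⟶ Z') [Mono j] :
    IsPullback fst snd (f ≫ j) (g ≫ j) := by
  refine ⟨⟨by rw [reassoc_of% h.w]⟩, ⟨PullbackCone.IsLimit.mk _
    (fun s => h.lift s.fst s.snd ((cancel_mono j).1 (by simpa using s.condition)))
    (fun s => h.lift_fst _ _ _) (fun s => h.lift_snd _ _ _)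
    (fun s m h1 h2 => h.hom_ext (by simpa using h1) (by simpa using h2))⟩⟩

open AlgSp in
/-- A monomorphism, locally of finite type, from a sheaf to a scheme is locally quasi-finite
(in the chart sense). -/
theorem locP_lqf_of_mono_lft {S : Scheme.{u}} {R : AlgSp.Sp S} {B : Over S}
    (j : R ⟶ (AlgSp.yon S).obj B) [Mono j] (hj : AlgSp.LocP @LocallyOfFiniteType j) :
    AlgSp.LocP (@LocallyQuasiFinite ⊓ @LocallyOfFiniteType) j := by
  intro A B' a b h ha hb hcomm
  refine ⟨?_, hj a b h ha hb hcomm⟩
  obtain ⟨β, rfl⟩ := (AlgSp.yon S).map_surjective b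
  have hκ : a ≫ j = (AlgSp.yon S).map (h ≫ β) := by rw [hcomm, Functor.map_comp]
  haveI hlft : LocallyOfFiniteType (h ≫ β).left :=
    hj a (𝟙 _) (h ≫ β) ha (AlgSp.repWith_id _ B) (by rw [Category.comp_id, hκ])
  obtain ⟨P, snd, fst, sqa⟩ := ha.rep a
  obtain ⟨π1, rfl⟩ := (AlgSp.yon S).map_surjective fst
  have hsnd : Etale snd.left := ha.property a _ snd sqa
  have sq2 := isPullback_comp_mono sqa j
  rw [hκ] at sq2
  have sq3 : IsPullback π1 snd (h ≫ β) (h ≫ β) := IsPullback.of_map_of_faithful (AlgSp.yon S) sq2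
  have sq4 : IsPullback π1.left snd.left (h ≫ β).left (h ≫ β).left := sq3.map (Over.forget S)
  have h5 : pullback.snd (h ≫ β).left (h ≫ β).left = sq4.isoPullback.inv ≫ snd.left := by
    rw [Iso.eq_inv_comp, IsPullback.isoPullback_hom_snd]
  have h6 : Etale (pullback.snd (h ≫ β).left (h ≫ β).left) := by
    rw [h5]; infer_instance
  haveI : LocallyQuasiFinite (h ≫ β).left := locallyQuasiFinite_of_etale_snd _ h6
  haveI : LocallyQuasiFinite (h.left ≫ β.left) := by rwa [← Over.comp_left]
  exact LocallyQuasiFinite.of_comp h.left β.left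

end Groth.Agent.Lib.T2H1.MonoLqf
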