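import Mathlib
import Groth.Agent.Lib.T2H1BootDesc
import Groth.Agent.Lib.T2H1MonoLqf
import Groth.Agent.Lib.T2H7DiagRep
import Groth.Agent.S9927
import Groth.Agent.S9947

set_option autoImplicit false
universe u
open CategoryTheory CategoryTheory.Limits AlgebraicGeometry Opposite
open AlgSp

namespace Groth.Agent.Lib.T2H1.BootDiag

open Groth.Agent.Lib.T2H1.Bootstrap Groth.Agent.Lib.T2H1.BootDesc Groth.Agent.Lib.T2H1.MonoLqf

variable {S : Scheme.{u}}

/-- `LocP` cancellation for locally of finite type. -/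
theorem locP_lft_of_comp {V' B : AlgSp.Sp S} {T : Over S} (j : V' ⟶ B)
    (π : B ⟶ (AlgSp.yon S).obj T)
    (h : AlgSp.LocP @LocallyOfFiniteType (j ≫ π)) :
    AlgSp.LocP @LocallyOfFiniteType j := by
  intro A B' a b k ha hb hcomm
  obtain ⟨β, hβ⟩ := (AlgSp.yon S).map_surjective (b ≫ π)
  have h1 := h a (𝟙 _) (k ≫ β) ha (AlgSp.repWith_id _ T) (by
    rw [Category.comp_id, Functor.map_comp, hβ, ← Category.assoc, hcomm, Category.assoc])
  rw [Over.comp_left] at h1
  haveI := h1
  exact locallyOfFiniteType_of_comp k.left β.left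

/-- the diagonal of a sheaf with an fppf cover, representable by algebraic spaces, from an
algebraic space is representable by schemes. -/
theorem representable_diag_of_fppfRep {F : AlgSp.Sp S} (X : AlgSp.Space S) (p : X.obj ⟶ F)
    (hp : FppfRep p) : AlgSp.Representable (Limits.diag F) := by
  obtain ⟨U, a, hae, has⟩ := X.property.atlas
  let p' : (AlgSp.yon S).obj U ⟶ F := a ≫ p
  obtain ⟨hW, ⟨-, -⟩, hw2fp⟩ := hp p' _ _ (IsPullback.of_hasPullback p p')
  let W := pullback p p'
  let w1 : W ⟶ X.obj := pullback.fst p p'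
  let w2 : W ⟶ (AlgSp.yon S).obj U := pullback.snd p p'
  let R := pullback w1 a
  let r1 : R ⟶ W := pullback.fst w1 a
  let r2 : R ⟶ (AlgSp.yon S).obj U := pullback.snd w1 a
  have hR : AlgSp.IsAlgSpace R :=
    Groth.Agent.S9874.isAlgSpace_of_isPullback X.property.diag hW (AlgSp.IsAlgSpace.yon_obj U)
      (IsPullback.of_hasPullback w1 a)
  have big : IsPullback (r1 ≫ w2) r2 p' p' :=
    (IsPullback.of_hasPullback w1 a).paste_horiz (IsPullback.of_hasPullback p p').flip
  have hr1 : AlgSp.RepWith @Etale r1 :=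
    MorphismProperty.of_isPullback (IsPullback.of_hasPullback w1 a).flip hae
  have hr1lft : AlgSp.LocP @LocallyOfFiniteType r1 :=
    Groth.Agent.S9947.locP_of_repWith_etale _ (fun g hg => by haveI := hg; infer_instance) r1 hr1
  have hw2lft : AlgSp.LocP @LocallyOfFiniteType w2 := by
    intro A B' a' b' k ha' hb' hc
    haveI := hw2fp a' b' k ha' hb' hc
    infer_instance
  have htlft : AlgSp.LocP @LocallyOfFiniteType (r1 ≫ w2) :=
    Groth.Agent.Lib.Helper12.Proper.locP_lft_comp hW (AlgSp.IsAlgSpace.yon_obj U) r1 w2 hr1lft hw2lft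
  -- the map to the product
  let e : (AlgSp.yon S).obj (U ⨯ U) ≅ (AlgSp.yon S).obj U ⨯ (AlgSp.yon S).obj U :=
    asIso (prodComparison (AlgSp.yon S) U U)
  let j : R ⟶ (AlgSp.yon S).obj (U ⨯ U) := prod.lift (r1 ≫ w2) r2 ≫ e.inv
  have hj1 : j ≫ (AlgSp.yon S).map prod.fst = r1 ≫ w2 := by
    have : e.inv ≫ (AlgSp.yon S).map (prod.fst : U ⨯ U ⟶ U) = prod.fst := by
      rw [Iso.inv_comp_eq]; exact (prodComparison_fst (AlgSp.yon S) U U).symm
    rw [Category.assoc, this, Limits.prod.lift_fst]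
  have hj2 : j ≫ (AlgSp.yon S).map prod.snd = r2 := by
    have : e.inv ≫ (AlgSp.yon S).map (prod.snd : U ⨯ U ⟶ U) = prod.snd := by
      rw [Iso.inv_comp_eq]; exact (prodComparison_snd (AlgSp.yon S) U U).symm
    rw [Category.assoc, this, Limits.prod.lift_snd]
  haveI : Mono j := by
    constructor
    intro Z g h hgh
    apply big.hom_ext
    · rw [← hj1, ← Category.assoc, hgh, Category.assoc]
    · rw [← hj2, ← Category.assoc, hgh, Category.assoc]
  have hjlft : AlgSp.LocP @LocallyOfFiniteType j :=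
    locP_lft_of_comp j ((AlgSp.yon S).map prod.fst) (by rw [hj1]; exact htlft)
  have hjlqf := locP_lqf_of_mono_lft j hjlft
  obtain ⟨V, ⟨i⟩⟩ := exists_iso_yon_of_mono hR (AlgSp.IsAlgSpace.yon_obj (U ⨯ U)) (Iso.refl _) j hjlqf
  let t : V ⟶ U := (AlgSp.yon S).preimage (i.hom ≫ r1 ≫ w2)
  let s : V ⟶ U := (AlgSp.yon S).preimage (i.hom ≫ r2)
  have ht : (AlgSp.yon S).map t = i.hom ≫ r1 ≫ w2 := Functor.map_preimage _ _
  have hs : (AlgSp.yon S).map s = i.hom ≫ r2 := Functor.map_preimage _ _
  have sq : IsPullback ((AlgSp.yon S).map t) ((AlgSp.yon S).map s) p' p' := by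
    rw [ht, hs]
    exact IsPullback.of_iso big i.symm (Iso.refl _) (Iso.refl _) (Iso.refl _)
      (by simp) (by simp) (by simp) (by simp)
  haveI : LocallyOfFiniteType t.left := by
    haveI : IsIso i.hom := inferInstance
    have hie : AlgSp.RepWith @Etale i.hom := MorphismProperty.of_isIso _ i.hom
    exact htlft i.hom (𝟙 _) t hie (AlgSp.repWith_id _ U) (by rw [Category.comp_id, ht])
  haveI : Epi a := Groth.Agent.S9927.epi_of_repWith a hae has
  haveI : Sheaf.IsLocallySurjective p := isLocallySurjective_of_fppfRep p hp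
  haveI : Epi p := inferInstance
  haveI : Epi p' := epi_comp a p
  haveI : Sheaf.IsLocallySurjective p' := (Sheaf.isLocallySurjective_iff_epi p').2 inferInstance
  exact Groth.Agent.Lib.T2H7.DiagRep.representable_diag F p' s t sq

end Groth.Agent.Lib.T2H1.BootDiag
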