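import Mathlib
import Groth.Agent.Lib.T2H1BootEt

set_option autoImplicit false
universe u
open CategoryTheory CategoryTheory.Limits AlgebraicGeometry Opposite
open AlgSp

namespace Groth.Agent.Lib.T2H1.BootLqf

open Groth.Agent.Lib.T2H1.Bootstrap

variable {S : Scheme.{u}}

theorem relativelyRepresentable_of_lqf (F : AlgSp.PSp S) (X : Over S)
    (p : (AlgSp.pyon S).obj X ⟶ F)
    (hp : AlgSp.RepBySpWith (AlgSp.LocP (@LocallyQuasiFinite ⊓ @LocallyOfFiniteType)) p) :
    (AlgSp.pyon S).relativelyRepresentable p := by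
  intro T ξ
  have sqW := IsPullback.of_hasPullback p ξ
  obtain ⟨hsh, hW, hlqf⟩ := hp ξ _ _ sqW
  let W : AlgSp.Sp S := ⟨pullback p ξ, hsh⟩
  let w1 : W ⟶ (AlgSp.yon S).obj X := ObjectProperty.homMk (pullback.fst p ξ)
  let w2 : W ⟶ (AlgSp.yon S).obj T := ObjectProperty.homMk (pullback.snd p ξ)
  let B : AlgSp.Sp S := (AlgSp.yon S).obj X ⨯ (AlgSp.yon S).obj T
  let e : (AlgSp.yon S).obj (X ⨯ T) ≅ B := asIso (prodComparison (AlgSp.yon S) X T)
  have hB : AlgSp.IsAlgSpace B := (AlgSp.IsAlgSpace.yon_obj (X ⨯ T)).of_iso e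
  let j : W ⟶ B := prod.lift w1 w2
  have hj1 : j ≫ prod.fst = w1 := Limits.prod.lift_fst _ _
  have hj2 : j ≫ prod.snd = w2 := Limits.prod.lift_snd _ _
  haveI : Mono j := by
    constructor
    intro Z g h hgh
    have h1 : g ≫ w1 = h ≫ w1 := by rw [← hj1, ← Category.assoc, hgh, Category.assoc]
    have h2 : g ≫ w2 = h ≫ w2 := by rw [← hj2, ← Category.assoc, hgh, Category.assoc]
    apply ObjectProperty.hom_ext
    apply sqW.hom_ext
    · exact congrArg (fun k => k.hom) h1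
    · exact congrArg (fun k => k.hom) h2
  have hj : AlgSp.LocP (@LocallyQuasiFinite ⊓ @LocallyOfFiniteType) j := by
    apply locP_lqf_of_comp j (prod.snd : B ⟶ (AlgSp.yon S).obj T)
    rw [hj2]
    exact hlqf
  obtain ⟨V, ⟨i⟩⟩ := exists_iso_yon_of_mono hW hB e j hj
  refine ⟨V, (AlgSp.yon S).preimage (i.hom ≫ w2), i.hom.hom ≫ pullback.fst p ξ, ?_⟩
  have h1 : (AlgSp.pyon S).map ((AlgSp.yon S).preimage (i.hom ≫ w2)) =
      i.hom.hom ≫ pullback.snd p ξ := by
    have := Functor.map_preimage (AlgSp.yon S) (i.hom ≫ w2)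
    exact congrArg (fun k => k.hom) this
  rw [h1]
  let i' : (AlgSp.pyon S).obj V ≅ pullback p ξ := (sheafToPresheaf (AlgSp.J S) (Type (u + 1))).mapIso i
  have hid : i.inv.hom ≫ i.hom.hom = 𝟙 _ := i'.inv_hom_id
  exact IsPullback.of_iso sqW i'.symm (Iso.refl _) (Iso.refl _) (Iso.refl _)
    (by
      change pullback.fst p ξ ≫ 𝟙 _ = i.inv.hom ≫ i.hom.hom ≫ pullback.fst p ξ
      rw [← Category.assoc, hid, Category.comp_id, Category.id_comp])
    (by
      change pullback.snd p ξ ≫ 𝟙 _ = i.inv.hom ≫ i.hom.hom ≫ pullback.snd p ξ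
      rw [← Category.assoc, hid, Category.comp_id, Category.id_comp]) (by simp) (by simp)

end Groth.Agent.Lib.T2H1.BootLqf
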