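import Groth.Agent.Lib.Helper1RelPC2

/-!
# A localization away from one element is a pseudo-coherent quotient of the polynomial ring (helper1)

* `exists_bpc_away g L`: for `L` a localization of `R` away from `g` there is a surjection
  `σ : R[X] → L` of `R`-algebras with `L` pseudo-coherent over `R[X]` (resolution
  `0 → R[X] → R[X] → L → 0` by multiplication with `g X - 1`).
-/

set_option autoImplicit false
universe u
open CategoryTheory CategoryTheory.Limits
attribute [local instance] HasDerivedCategory.standard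

namespace Groth.Agent.Lib.T2H1.RelPCpt

open DerivedCategory Pretriangulated Groth.Agent.Lib.Helper1.Cone Groth.Agent.S7017
open Groth.Agent.S14388 ZeroObject Groth.Agent.Lib.Helper1.PC Groth.Agent.Lib.Helper1.PCTower
open Groth.Agent.Lib.Helper1.Restrict Groth.Agent.Lib.Helper1.Extend Groth.Agent.Lib.Helper1.RelPC

section Away

open Polynomial

variable {R : Type u} [CommRing R]

lemma mul_CX_sub_one_injective (g : R) (p : R[X]) (h : (C g * X - 1) * p = 0) : p = 0 := by
  have h1 : ((C g * X - 1 : R[X]) : PowerSeries R) * (p : PowerSeries R) = 0 := by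
    rw [← Polynomial.coe_mul, h, Polynomial.coe_zero]
  have hu : IsUnit ((C g * X - 1 : R[X]) : PowerSeries R) := by
    rw [PowerSeries.isUnit_iff_constantCoeff]
    simp
  have h2 : (p : PowerSeries R) = 0 := by
    rwa [hu.mul_right_eq_zero] at h1
  exact_mod_cast h2

lemma exists_adjoinRoot_equiv (g : R) (L : Type u) [CommRing L] [Algebra R L]
    [IsLocalization.Away g L] :
    Nonempty (AdjoinRoot (C g * X - 1 : R[X]) ≃ₐ[R] L) := by
  have e1 : Localization.Away g ≃ₐ[R] AdjoinRoot (C g * X - 1 : R[X]) :=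
    Localization.awayEquivAdjoin g
  have e2 : Localization.Away g ≃ₐ[R] L :=
    IsLocalization.algEquiv (Submonoid.powers g) (Localization.Away g) L
  exact ⟨e1.symm.trans e2⟩

lemma exists_surj_away (g : R) (L : Type u) [CommRing L] [Algebra R L]
    [IsLocalization.Away g L] :
    ∃ σ : R[X] →+* L, Function.Surjective σ ∧ σ.comp (C : R →+* R[X]) = algebraMap R L ∧
      ∀ p : R[X], σ p = 0 ↔ (C g * X - 1) ∣ p := by
  obtain ⟨e⟩ := exists_adjoinRoot_equiv g L
  refine ⟨(e : AdjoinRoot (C g * X - 1 : R[X]) →+* L).comp (AdjoinRoot.mk (C g * X - 1)),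
    e.surjective.comp AdjoinRoot.mk_surjective, ?_, ?_⟩
  · ext r
    change e (AdjoinRoot.mk _ (C r)) = _
    rw [AdjoinRoot.mk_C, ← AdjoinRoot.algebraMap_eq, e.commutes]
  · intro p
    change e (AdjoinRoot.mk _ p) = 0 ↔ _
    rw [map_eq_zero_iff e e.injective, AdjoinRoot.mk_eq_zero]

/-- a localization away from `g` is a pseudo-coherent quotient of the polynomial ring -/
theorem exists_bpc_away (g : R) (L : Type u) [CommRing L] [Algebra R L]
    [IsLocalization.Away g L] :
    ∃ σ : R[X] →+* L, Function.Surjective σ ∧ σ.comp (C : R →+* R[X]) = algebraMap R L ∧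
      BPC σ := by
  obtain ⟨σ, hσ, hσC, hker⟩ := exists_surj_away g L
  refine ⟨σ, hσ, hσC, ?_⟩
  intro j
  let M : ModuleCat.{u} R[X] := (ModuleCat.restrictScalars.{u} σ).obj (ModuleCat.of L L)
  let g₀ : R[X] →ₗ[R[X]] M :=
    { toFun := fun p => σ p
      map_add' := fun p q => map_add σ p q
      map_smul' := fun q p => by
        change σ (q * p) = σ q * σ p
        exact map_mul σ q p }
  let f₀ : R[X] →ₗ[R[X]] R[X] := LinearMap.mulLeft R[X] (C g * X - 1)
  have w : ModuleCat.ofHom f₀ ≫ ModuleCat.ofHom g₀ = 0 := by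
    ext
    change σ ((C g * X - 1) * 1) = 0
    rw [hker]
    exact Dvd.intro _ rfl
  let S : ShortComplex (ModuleCat.{u} R[X]) :=
    ShortComplex.mk (ModuleCat.ofHom f₀) (ModuleCat.ofHom g₀) w
  have hS : S.ShortExact := by
    refine ShortComplex.ShortExact.mk' ?_ ?_ ?_
    · rw [ShortComplex.moduleCat_exact_iff]
      intro (p : R[X]) hp
      have hp' : σ p = 0 := hp
      obtain ⟨q, hq⟩ := (hker p).1 hp'
      exact ⟨q, hq.symm⟩
    · rw [ModuleCat.mono_iff_injective]
      intro (p : R[X]) (q : R[X]) hpq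
      have hpq' : (C g * X - 1) * p = (C g * X - 1) * q := hpq
      have h0 : (C g * X - 1) * (p - q) = 0 := by rw [mul_sub, hpq', sub_self]
      exact sub_eq_zero.1 (mul_CX_sub_one_injective g _ h0)
    · rw [ModuleCat.epi_iff_surjective]
      exact hσ
  have hT := hS.singleTriangle_distinguished
  have h1 : DRing.IsPseudoCoherent R[X] (j + 1)
      ((singleFunctor (ModuleCat.{u} R[X]) 0).obj (ModuleCat.of R[X] R[X])) :=
    isPC_of_rep _ (rep_single _ (FF_self R[X]) 0)
  have h2 : DRing.IsPseudoCoherent R[X] j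
      ((singleFunctor (ModuleCat.{u} R[X]) 0).obj (ModuleCat.of R[X] R[X])) :=
    isPC_of_rep _ (rep_single _ (FF_self R[X]) 0)
  exact isPC_obj₃ _ hT j h1 h2

end Away

end Groth.Agent.Lib.T2H1.RelPCpt
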