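import Mathlib
import Groth.Prelude.Def_EssEt

/-!
# Stalk maps of étale morphisms are essentially étale (helper1)
-/

set_option autoImplicit false
universe u
open CategoryTheory AlgebraicGeometry IsLocalRing
open scoped TensorProduct

namespace Groth.Agent.Lib.T2H1.EssEtStalk

section Algebra

variable (B₀ B A A' : Type u) [CommRing B₀] [CommRing B] [CommRing A] [CommRing A']
  [Algebra B₀ B] (p₀ : Ideal B₀) [p₀.IsPrime] (p : Ideal B) [p.IsPrime]
  [Algebra B₀ A] [IsLocalization.AtPrime A p₀] [Algebra B A'] [IsLocalization.AtPrime A' p]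
  [Algebra A A'] [Algebra B₀ A'] [IsScalarTower B₀ A A'] [IsScalarTower B₀ B A']

/-- every element of `A ⊗ B` becomes a pure tensor `1 ⊗ b` after multiplying with a
denominator. -/
lemma exists_smul_eq_one_tmul (c : A ⊗[B₀] B) :
    ∃ (s₀ : p₀.primeCompl) (b : B), (algebraMap B₀ A s₀ ⊗ₜ[B₀] (1 : B)) * c = 1 ⊗ₜ[B₀] b := by
  induction c using TensorProduct.induction_on with
  | zero => exact ⟨1, 0, by simp⟩
  | tmul a b =>
    obtain ⟨⟨x, s⟩, hxs⟩ := IsLocalization.surj p₀.primeCompl a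
    refine ⟨s, x • b, ?_⟩
    rw [Algebra.TensorProduct.tmul_mul_tmul, one_mul, mul_comm, hxs, ← TensorProduct.smul_tmul,
      Algebra.smul_def, mul_one]
  | add c₁ c₂ h₁ h₂ =>
    obtain ⟨s₁, b₁, h₁⟩ := h₁
    obtain ⟨s₂, b₂, h₂⟩ := h₂
    refine ⟨s₁ * s₂, (s₂ : B₀) • b₁ + (s₁ : B₀) • b₂, ?_⟩
    have e1 : (algebraMap B₀ A ((s₁ * s₂ : p₀.primeCompl) : B₀) ⊗ₜ[B₀] (1 : B)) =
        (algebraMap B₀ A s₂ ⊗ₜ[B₀] (1 : B)) * (algebraMap B₀ A s₁ ⊗ₜ[B₀] (1 : B)) := by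
      rw [Algebra.TensorProduct.tmul_mul_tmul, one_mul, Submonoid.coe_mul, map_mul, mul_comm]
    have e2 : (algebraMap B₀ A ((s₁ * s₂ : p₀.primeCompl) : B₀) ⊗ₜ[B₀] (1 : B)) =
        (algebraMap B₀ A s₁ ⊗ₜ[B₀] (1 : B)) * (algebraMap B₀ A s₂ ⊗ₜ[B₀] (1 : B)) := by
      rw [Algebra.TensorProduct.tmul_mul_tmul, one_mul, Submonoid.coe_mul, map_mul]
    have e3 : ∀ (s : B₀) (b : B), (algebraMap B₀ A s ⊗ₜ[B₀] (1 : B)) * ((1 : A) ⊗ₜ[B₀] b) =
        (1 : A) ⊗ₜ[B₀] (s • b) := by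
      intro s b
      rw [Algebra.TensorProduct.tmul_mul_tmul, one_mul, mul_one, TensorProduct.tmul_smul,
        TensorProduct.smul_tmul', Algebra.smul_def, mul_one]
    have hc₁ : (algebraMap B₀ A ((s₁ * s₂ : p₀.primeCompl) : B₀) ⊗ₜ[B₀] (1 : B)) * c₁ =
        (1 : A) ⊗ₜ[B₀] ((s₂ : B₀) • b₁) := by rw [e1, mul_assoc, h₁, e3]
    have hc₂ : (algebraMap B₀ A ((s₁ * s₂ : p₀.primeCompl) : B₀) ⊗ₜ[B₀] (1 : B)) * c₂ =
        (1 : A) ⊗ₜ[B₀] ((s₁ : B₀) • b₂) := by rw [e2, mul_assoc, h₂, e3]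
    rw [mul_add, hc₁, hc₂, TensorProduct.tmul_add]

variable [Algebra.Etale B₀ B] [IsLocalRing A]

/-- the localization of an étale algebra at a prime is essentially étale over the localization of
the base at the prime below. -/
theorem isEssentiallyEtale_of_isLocalization (hp : p.comap (algebraMap B₀ B) = p₀) :
    EGA4loc.IsEssentiallyEtale A A' := by
  haveI : IsLocalRing A' := IsLocalization.AtPrime.isLocalRing A' p
  let ψ : A ⊗[B₀] B →ₐ[A] A' :=
    Algebra.TensorProduct.lift (Algebra.ofId A A') (IsScalarTower.toAlgHom B₀ B A')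
      (fun _ _ => Commute.all _ _)
  have hψ : ∀ (a : A) (b : B), ψ (a ⊗ₜ[B₀] b) = algebraMap A A' a * algebraMap B A' b := by
    intro a b
    exact Algebra.TensorProduct.lift_tmul _ _ _ _ _
  let q : Ideal (A ⊗[B₀] B) := (maximalIdeal A').comap ψ.toRingHom
  haveI : q.IsPrime := Ideal.comap_isPrime _ _
  -- the structure map is local
  have hloc : (maximalIdeal A').comap (algebraMap A A') = maximalIdeal A := by
    have h3 : (maximalIdeal A').comap (algebraMap B A') = p :=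
      IsLocalization.AtPrime.comap_maximalIdeal A' p
    have h1 : ((maximalIdeal A').comap (algebraMap A A')).comap (algebraMap B₀ A) = p₀ := by
      rw [Ideal.comap_comap, ← IsScalarTower.algebraMap_eq, IsScalarTower.algebraMap_eq B₀ B A',
        ← Ideal.comap_comap, h3, hp]
    have h2 : (maximalIdeal A).comap (algebraMap B₀ A) = p₀ :=
      IsLocalization.AtPrime.comap_maximalIdeal A p₀
    have h4 := IsLocalization.map_comap p₀.primeCompl A
      ((maximalIdeal A').comap (algebraMap A A'))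
    have h5 := IsLocalization.map_comap p₀.primeCompl A (maximalIdeal A)
    rw [← h4, ← h5]
    exact congrArg (Ideal.map (algebraMap B₀ A)) (h1.trans h2.symm)
  have hq : q.comap (algebraMap A (A ⊗[B₀] B)) = maximalIdeal A := by
    rw [← hloc]
    show ((maximalIdeal A').comap ψ.toRingHom).comap (algebraMap A (A ⊗[B₀] B)) = _
    rw [Ideal.comap_comap]
    congr 1
    ext a
    exact ψ.commutes a
  -- `A'` is the localization of `A ⊗ B` at `q`
  letI : Algebra (A ⊗[B₀] B) A' := ψ.toRingHom.toAlgebra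
  haveI : IsScalarTower A (A ⊗[B₀] B) A' :=
    IsScalarTower.of_algebraMap_eq (fun a => (ψ.commutes a).symm)
  have hunit : ∀ t : p.primeCompl, IsUnit (ψ ((1 : A) ⊗ₜ[B₀] (t : B))) := by
    intro t
    rw [hψ, map_one, one_mul]
    exact IsLocalization.map_units A' t
  have hunit₀ : ∀ s : p₀.primeCompl, IsUnit (ψ (algebraMap B₀ A s ⊗ₜ[B₀] (1 : B))) := by
    intro s
    rw [hψ, map_one, mul_one]
    exact (IsLocalization.map_units A s).map (algebraMap A A')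
  have hmem : ∀ c : A ⊗[B₀] B, IsUnit (ψ c) → c ∈ q.primeCompl := by
    intro c hc hcq
    exact (IsLocalRing.mem_maximalIdeal _).1 hcq hc
  haveI hL : IsLocalization.AtPrime A' q := by
    refine (isLocalization_iff _ _).2 ⟨?_, ?_, ?_⟩
    · rintro ⟨c, hc⟩
      have : ψ c ∉ maximalIdeal A' := hc
      rw [IsLocalRing.mem_maximalIdeal, mem_nonunits_iff, not_not] at this
      exact this
    · intro a'
      obtain ⟨⟨b, t⟩, hbt⟩ := IsLocalization.surj p.primeCompl a'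
      refine ⟨⟨(1 : A) ⊗ₜ[B₀] b, ⟨(1 : A) ⊗ₜ[B₀] (t : B), hmem _ (hunit t)⟩⟩, ?_⟩
      show a' * ψ ((1 : A) ⊗ₜ[B₀] (t : B)) = ψ ((1 : A) ⊗ₜ[B₀] b)
      rw [hψ, hψ, map_one, one_mul, one_mul]
      exact hbt
    · intro c₁ c₂ h12
      have h12' : ψ c₁ = ψ c₂ := h12
      obtain ⟨s₀, b, hb⟩ := exists_smul_eq_one_tmul B₀ B A p₀ (c₁ - c₂)
      have h0 : algebraMap B A' b = 0 := by
        have := congrArg ψ hb
        rw [map_mul, map_sub, h12', sub_self, mul_zero, hψ, map_one, one_mul] at this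
        exact this.symm
      obtain ⟨t, ht⟩ := (IsLocalization.map_eq_zero_iff p.primeCompl A' b).1 h0
      refine ⟨⟨((1 : A) ⊗ₜ[B₀] (t : B)) * (algebraMap B₀ A s₀ ⊗ₜ[B₀] (1 : B)),
        hmem _ (by rw [map_mul]; exact (hunit t).mul (hunit₀ s₀))⟩, ?_⟩
      rw [← sub_eq_zero, ← mul_sub]
      show ((1 : A) ⊗ₜ[B₀] (t : B)) * (algebraMap B₀ A s₀ ⊗ₜ[B₀] (1 : B)) * (c₁ - c₂) = 0
      rw [mul_assoc, hb, Algebra.TensorProduct.tmul_mul_tmul, one_mul, ht,
        TensorProduct.tmul_zero]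
  refine ⟨A ⊗[B₀] B, inferInstance, inferInstance, q, inferInstance, inferInstance, hq, ?_⟩
  exact ⟨(IsLocalization.algEquiv q.primeCompl A' (Localization.AtPrime q)).restrictScalars A⟩

end Algebra

set_option backward.isDefEq.respectTransparency.types false in
/-- **the stalk map of an étale morphism of schemes is essentially étale.** -/
theorem isEssentiallyEtale_stalkMap {X Y : Scheme.{u}} (f : X ⟶ Y) [Etale f] (x : X) :
    letI := (f.stalkMap x).hom.toAlgebra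
    EGA4loc.IsEssentiallyEtale (Y.presheaf.stalk (f x)) (X.presheaf.stalk x) := by
  obtain ⟨_, ⟨U₀, hU₀, rfl⟩, hxU₀, -⟩ := Y.isBasis_affineOpens.exists_subset_of_mem_open
    (Set.mem_univ (f x)) isOpen_univ
  obtain ⟨U, hUU₀⟩ : ∃ U : Y.Opens, U = U₀ := ⟨U₀, rfl⟩
  have hU : IsAffineOpen U := hUU₀ ▸ hU₀
  have hxU : f x ∈ U := hUU₀ ▸ hxU₀
  obtain ⟨_, ⟨V₀, hV₀, rfl⟩, hxV₀, hle₀⟩ := X.isBasis_affineOpens.exists_subset_of_mem_open
    (show x ∈ ((f ⁻¹ᵁ U : X.Opens) : Set X) from hxU) (f ⁻¹ᵁ U).2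
  obtain ⟨V, hVV₀⟩ : ∃ V : X.Opens, V = V₀ := ⟨V₀, rfl⟩
  have hV : IsAffineOpen V := hVV₀ ▸ hV₀
  have hxV : x ∈ V := hVV₀ ▸ hxV₀
  have e : V ≤ f ⁻¹ᵁ U := hVV₀ ▸ hle₀
  letI : Algebra Γ(Y, U) Γ(X, V) := (f.appLE U V e).hom.toAlgebra
  haveI : Algebra.Etale Γ(Y, U) Γ(X, V) := f.etale_appLE hU hV e
  letI : Algebra Γ(Y, U) (Y.presheaf.stalk (f x)) := Y.presheaf.algebra_section_stalk ⟨f x, hxU⟩
  haveI := hU.isLocalization_stalk ⟨f x, hxU⟩
  letI : Algebra Γ(X, V) (X.presheaf.stalk x) := X.presheaf.algebra_section_stalk ⟨x, hxV⟩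
  haveI := hV.isLocalization_stalk ⟨x, hxV⟩
  letI : Algebra (Y.presheaf.stalk (f x)) (X.presheaf.stalk x) := (f.stalkMap x).hom.toAlgebra
  letI : Algebra Γ(Y, U) (X.presheaf.stalk x) :=
    ((algebraMap (Y.presheaf.stalk (f x)) (X.presheaf.stalk x)).comp
      (algebraMap Γ(Y, U) (Y.presheaf.stalk (f x)))).toAlgebra
  haveI : IsScalarTower Γ(Y, U) (Y.presheaf.stalk (f x)) (X.presheaf.stalk x) :=
    IsScalarTower.of_algebraMap_eq (fun _ => rfl)
  haveI : IsScalarTower Γ(Y, U) Γ(X, V) (X.presheaf.stalk x) := by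
    refine IsScalarTower.of_algebraMap_eq (fun b => ?_)
    simp only [RingHom.algebraMap_toAlgebra, RingHom.coe_comp, Function.comp_apply,
      Scheme.Hom.germ_stalkMap_apply, Scheme.Hom.appLE,
      homOfLE_leOfHom, CommRingCat.hom_comp, X.presheaf.germ_res_apply]
  exact isEssentiallyEtale_of_isLocalization Γ(Y, U) Γ(X, V) (Y.presheaf.stalk (f x))
    (X.presheaf.stalk x) (hU.primeIdealOf ⟨f x, hxU⟩).asIdeal (hV.primeIdealOf ⟨x, hxV⟩).asIdeal
    (congrArg PrimeSpectrum.asIdeal (IsAffineOpen.comap_primeIdealOf_appLE U hU V hV e hxV))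

end Groth.Agent.Lib.T2H1.EssEtStalk
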