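import Mathlib
import Groth.Agent.Lib.Helper3HzN
import Groth.Agent.Lib.Helper3EssEt

/-!
# Spreading out the stages of the henselization to étale neighbourhoods (helper1)
-/

set_option autoImplicit false
universe u
open CategoryTheory AlgebraicGeometry IsLocalRing

namespace Groth.Agent.Lib.T2H1.Spread

open Groth.Agent.Lib.Helper3 Groth.Agent.Lib.Helper3.Hz

section Ring

attribute [local instance] MvPolynomial.algebraMvPolynomial

/-- descent of a finitely generated ideal of a polynomial ring over a localization -/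
lemma exists_fg_ideal_map_eq {C : Type u} [CommRing C] (M : Submonoid C) (A : Type u) [CommRing A]
    [Algebra C A] [IsLocalization M A] (n : ℕ) (J : Ideal (MvPolynomial (Fin n) A)) (hJ : J.FG) :
    ∃ J' : Ideal (MvPolynomial (Fin n) C), J'.FG ∧
      J'.map (MvPolynomial.map (algebraMap C A)) = J := by
  classical
  obtain ⟨s, rfl⟩ := hJ
  have hlift : ∀ h : MvPolynomial (Fin n) A, ∃ (h' : MvPolynomial (Fin n) C) (m : C),
      m ∈ M ∧ MvPolynomial.map (algebraMap C A) h' =
        h * MvPolynomial.C (algebraMap C A m) := by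
    intro h
    obtain ⟨⟨h', ⟨_, m, hm, rfl⟩⟩, e⟩ :=
      IsLocalization.surj (M.map (MvPolynomial.C (σ := Fin n))) h
    refine ⟨h', m, hm, ?_⟩
    have e' : h * (MvPolynomial.map (algebraMap C A)) (MvPolynomial.C m) =
        (MvPolynomial.map (algebraMap C A)) h' := e
    rw [MvPolynomial.map_C] at e'
    exact e'.symm
  choose lift den hden hlift using hlift
  refine ⟨Ideal.span (s.image lift), ⟨s.image lift, rfl⟩, ?_⟩
  rw [Ideal.map_span]
  apply le_antisymm
  · rw [Ideal.span_le]
    rintro _ ⟨x, hx, rfl⟩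
    rw [Finset.coe_image] at hx
    obtain ⟨h, hh, rfl⟩ := hx
    rw [hlift]
    exact Ideal.mul_mem_right _ _ (Ideal.subset_span hh)
  · rw [Ideal.span_le]
    intro h hh
    have hu : IsUnit (MvPolynomial.C (σ := Fin n) (algebraMap C A (den h))) :=
      (IsLocalization.map_units A ⟨den h, hden h⟩).map MvPolynomial.C
    have hmem : h * MvPolynomial.C (algebraMap C A (den h)) ∈
        Ideal.span ((MvPolynomial.map (algebraMap C A)) '' ((s.image lift : Finset _) : Set _)) := by
      rw [← hlift]
      refine Ideal.subset_span ⟨lift h, ?_, rfl⟩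
      rw [Finset.coe_image]
      exact ⟨h, hh, rfl⟩
    exact (Ideal.mul_unit_mem_iff_mem _ hu).1 hmem

/-- spreading out a stage of the henselization of a localization `A = C_𝔭` to an étale
`C`-algebra. -/
theorem exists_etale_descent {C : Type u} [CommRing C] (𝔭 : Ideal C) [𝔭.IsPrime] (A : Type u)
    [CommRing A] [IsLocalRing A] [Algebra C A] [IsLocalization.AtPrime A 𝔭] (i : Idx A) :
    ∃ (D : Type u) (_ : CommRing D) (_ : Algebra C D) (ψ : D →+* i.L), Algebra.Etale C D ∧
      ψ.comp (algebraMap C D) = (algebraMap A i.L).comp (algebraMap C A) ∧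
      (letI := ψ.toAlgebra; IsLocalization.AtPrime i.L ((maximalIdeal i.L).comap ψ)) := by
  classical
  -- the ideal of the presentation is finitely generated
  have hJfg : i.J.FG := by
    haveI : Algebra.Etale A (MvPolynomial (Fin i.n) A ⧸ i.J) := i.etale
    haveI : Algebra.FinitePresentation A (MvPolynomial (Fin i.n) A ⧸ i.J) :=
      Algebra.Etale.finitePresentation
    have := Algebra.FinitePresentation.ker_fG_of_surjective (Ideal.Quotient.mkₐ A i.J)
      (Ideal.Quotient.mkₐ_surjective A i.J)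
    have h2 : RingHom.ker (Ideal.Quotient.mkₐ A i.J).toRingHom = i.J := Ideal.mk_ker
    rwa [h2] at this
  obtain ⟨J', hJ'fg, hJ'⟩ := exists_fg_ideal_map_eq 𝔭.primeCompl A i.n i.J hJfg
  let φ : MvPolynomial (Fin i.n) C →+* MvPolynomial (Fin i.n) A :=
    MvPolynomial.map (algebraMap C A)
  have hle : J' ≤ i.J.comap φ := by rw [← Ideal.map_le_iff_le_comap, hJ']
  let θ₀ : (MvPolynomial (Fin i.n) C ⧸ J') →+* (MvPolynomial (Fin i.n) A ⧸ i.J) :=
    Ideal.quotientMap i.J φ hle
  -- `i.C` is a localization of `B'`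
  have hloc0 : @IsLocalization (MvPolynomial (Fin i.n) C ⧸ J') _
      ((𝔭.primeCompl.map (MvPolynomial.C (σ := Fin i.n))).map (Ideal.Quotient.mk J'))
      (MvPolynomial (Fin i.n) A ⧸ i.J) _ θ₀.toAlgebra := by
    letI := θ₀.toAlgebra
    refine IsLocalization.of_surjective (𝔭.primeCompl.map (MvPolynomial.C (σ := Fin i.n)))
      (MvPolynomial (Fin i.n) A) (Ideal.Quotient.mk J') Ideal.Quotient.mk_surjective
      (Ideal.Quotient.mk i.J) Ideal.Quotient.mk_surjective ?_ ?_
    · rfl
    · rw [Ideal.mk_ker, Ideal.mk_ker, MvPolynomial.algebraMap_def, hJ']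
  let θ : (MvPolynomial (Fin i.n) C ⧸ J') →+* i.C := θ₀
  letI algB'C : Algebra (MvPolynomial (Fin i.n) C ⧸ J') i.C := θ.toAlgebra
  haveI hloc1 : IsLocalization
      ((𝔭.primeCompl.map (MvPolynomial.C (σ := Fin i.n))).map (Ideal.Quotient.mk J')) i.C := hloc0
  -- `i.L` as an algebra over `B'`
  letI algB'L : Algebra (MvPolynomial (Fin i.n) C ⧸ J') i.L :=
    ((algebraMap i.C i.L).comp θ).toAlgebra
  haveI tow1 : IsScalarTower (MvPolynomial (Fin i.n) C ⧸ J') i.C i.L :=
    IsScalarTower.of_algebraMap_eq (fun _ => rfl)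
  let Q' : Ideal (MvPolynomial (Fin i.n) C ⧸ J') :=
    i.Q.comap (algebraMap (MvPolynomial (Fin i.n) C ⧸ J') i.C)
  haveI hQ' : Q'.IsPrime := Ideal.comap_isPrime _ _
  haveI hloc2 : IsLocalization.AtPrime i.L Q' :=
    IsLocalization.isLocalization_isLocalization_atPrime_isLocalization
      ((𝔭.primeCompl.map (MvPolynomial.C (σ := Fin i.n))).map (Ideal.Quotient.mk J')) i.L i.Q
  -- the `C`-algebra structure on `i.L`
  letI algCL : Algebra C i.L := ((algebraMap A i.L).comp (algebraMap C A)).toAlgebra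
  haveI tow2 : IsScalarTower C A i.L := IsScalarTower.of_algebraMap_eq (fun _ => rfl)
  haveI tow3 : IsScalarTower C (MvPolynomial (Fin i.n) C ⧸ J') i.L := by
    suffices key : ∀ c : C, algebraMap C i.L c =
        algebraMap (MvPolynomial (Fin i.n) C ⧸ J') i.L
          (algebraMap C (MvPolynomial (Fin i.n) C ⧸ J') c) from
      IsScalarTower.of_algebraMap_eq key
    intro c
    show algebraMap A i.L (algebraMap C A c) =
      algebraMap i.C i.L (θ (algebraMap C (MvPolynomial (Fin i.n) C ⧸ J') c))
    have h1 : θ (algebraMap C (MvPolynomial (Fin i.n) C ⧸ J') c) = algebraMap A i.C (algebraMap C A c) := by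
      show Ideal.quotientMap i.J φ hle (Ideal.Quotient.mk J' (MvPolynomial.C c)) = _
      rw [Ideal.quotientMap_mk]
      show Ideal.Quotient.mk i.J (MvPolynomial.map (algebraMap C A) (MvPolynomial.C c)) = _
      rw [MvPolynomial.map_C]
      rfl
    rw [h1, ← IsScalarTower.algebraMap_apply A i.C i.L]
  -- `B'` is étale over `C` at `Q'`
  haveI hfe : Algebra.FormallyEtale C i.L := by
    haveI : Algebra.FormallyEtale C A := Algebra.FormallyEtale.of_isLocalization 𝔭.primeCompl
    haveI : Algebra.FormallyEtale A i.L :=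
      EssEt.formallyEtale_of_isEssentiallyEtale A i.L i.isEssentiallyEtale
    exact Algebra.FormallyEtale.comp C A i.L
  haveI hEtAt : Algebra.IsEtaleAt C Q' := by
    let e₁ : Localization.AtPrime Q' ≃ₐ[MvPolynomial (Fin i.n) C ⧸ J'] i.L :=
      IsLocalization.algEquiv Q'.primeCompl _ _
    exact Algebra.FormallyEtale.of_equiv (e₁.symm.restrictScalars C)
  haveI : Algebra.FinitePresentation C (MvPolynomial (Fin i.n) C ⧸ J') :=
    Algebra.FinitePresentation.quotient hJ'fg
  obtain ⟨f, hfQ', hfet⟩ := Algebra.exists_etale_of_isEtaleAt (R := C) Q'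
  have hfu : IsUnit (algebraMap (MvPolynomial (Fin i.n) C ⧸ J') i.L f) :=
    IsLocalization.map_units i.L (⟨f, hfQ'⟩ : Q'.primeCompl)
  let ψ : Localization.Away f →+* i.L := IsLocalization.Away.lift f hfu
  have hψ : ψ.comp (algebraMap (MvPolynomial (Fin i.n) C ⧸ J') (Localization.Away f)) =
      algebraMap (MvPolynomial (Fin i.n) C ⧸ J') i.L := IsLocalization.Away.lift_comp f hfu
  refine ⟨Localization.Away f, inferInstance, inferInstance, ψ, hfet, ?_, ?_⟩
  · rw [IsScalarTower.algebraMap_eq C (MvPolynomial (Fin i.n) C ⧸ J') (Localization.Away f),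
      ← RingHom.comp_assoc, hψ]
    exact (IsScalarTower.algebraMap_eq C (MvPolynomial (Fin i.n) C ⧸ J') i.L).symm
  · letI algDL : Algebra (Localization.Away f) i.L := ψ.toAlgebra
    haveI tow4 : IsScalarTower (MvPolynomial (Fin i.n) C ⧸ J') (Localization.Away f) i.L :=
      IsScalarTower.of_algebraMap_eq (fun b => (congrArg (fun g => g b) hψ).symm)
    haveI h1 : IsLocalization (Q'.primeCompl.map
        (algebraMap (MvPolynomial (Fin i.n) C ⧸ J') (Localization.Away f))) i.L :=
      IsLocalization.isLocalization_of_submonoid_le (Localization.Away f) i.L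
        (Submonoid.powers f) Q'.primeCompl
        (by
          rw [Submonoid.powers_le]
          exact hfQ')
    have hcomap : ((maximalIdeal i.L).comap ψ).comap
        (algebraMap (MvPolynomial (Fin i.n) C ⧸ J') (Localization.Away f)) = Q' := by
      rw [Ideal.comap_comap, hψ]
      exact IsLocalization.AtPrime.comap_maximalIdeal i.L Q'
    haveI : ((maximalIdeal i.L).comap ψ).IsPrime := Ideal.comap_isPrime _ _
    refine IsLocalization.of_le (M := Q'.primeCompl.map
        (algebraMap (MvPolynomial (Fin i.n) C ⧸ J') (Localization.Away f))) (S := i.L)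
      ((maximalIdeal i.L).comap ψ).primeCompl ?_ ?_
    · rintro _ ⟨b, hb, rfl⟩ hmem
      apply hb
      rw [← hcomap]
      exact hmem
    · intro r hr
      have : ψ r ∉ maximalIdeal i.L := hr
      rw [IsLocalRing.mem_maximalIdeal, mem_nonunits_iff, not_not] at this
      exact this

end Ring

section Scheme

variable {X : Scheme.{u}} {W : X.Opens} (hW : IsAffineOpen W)

/-- the morphism `Spec D ⟶ X` of an algebra over the coordinate ring of an affine open. -/
noncomputable def nbhdMap (D : Type u) [CommRing D] [Algebra Γ(X, W) D] :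
    Spec (CommRingCat.of D) ⟶ X :=
  Spec.map (CommRingCat.ofHom (algebraMap Γ(X, W) D)) ≫ hW.fromSpec

instance etale_nbhdMap (D : Type u) [CommRing D] [Algebra Γ(X, W) D] [Algebra.Etale Γ(X, W) D] :
    Etale (nbhdMap hW D) := by
  haveI : Etale (Spec.map (CommRingCat.ofHom (algebraMap Γ(X, W) D))) := by
    rw [HasRingHomProperty.Spec_iff (P := @Etale)]
    exact RingHom.etale_algebraMap.mpr inferInstance
  unfold nbhdMap
  infer_instance

lemma germ_stalkMap_nbhdMap (D : Type u) [CommRing D] [Algebra Γ(X, W) D]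
    (u : Spec (CommRingCat.of D)) (h : (nbhdMap hW D) u ∈ W) :
    X.presheaf.germ W ((nbhdMap hW D) u) h ≫ (nbhdMap hW D).stalkMap u =
      CommRingCat.ofHom (algebraMap Γ(X, W) D) ≫ StructureSheaf.toStalk D u := by
  rw [Scheme.Hom.germ_stalkMap]
  have e1 : (nbhdMap hW D).app W = (Scheme.ΓSpecIso Γ(X, W)).inv ≫
      (Spec.map (CommRingCat.ofHom (algebraMap Γ(X, W) D))).appTop ≫
      (Spec (CommRingCat.of D)).presheaf.map (homOfLE le_top).op := by
    simp [nbhdMap, IsAffineOpen.fromSpec_app_self, Scheme.Hom.appTop]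
    rfl
  rw [e1, ← Scheme.ΓSpecIso_inv_naturality_assoc, Category.assoc, Category.assoc,
    TopCat.Presheaf.germ_res]
  rfl

set_option backward.isDefEq.respectTransparency.types false in
/-- identification of the local ring and the residue field of the étale neighbourhood `Spec D`. -/
theorem stalk_nbhdMap (D : Type u) [CommRing D] [Algebra Γ(X, W) D] (u : Spec (CommRingCat.of D))
    (x : X) (hxW : x ∈ W) (hgu : (nbhdMap hW D) u = x)
    (L : Type u) [CommRing L] [IsLocalRing L] [Algebra (X.presheaf.stalk x) L] (ψ : D →+* L)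
    (hψ : ψ.comp (algebraMap Γ(X, W) D) =
      (algebraMap (X.presheaf.stalk x) L).comp (X.presheaf.germ W x hxW).hom)
    (hloc : letI := ψ.toAlgebra; IsLocalization.AtPrime L u.asIdeal)
    (hres : ∀ l : L, ∃ a : X.presheaf.stalk x, l - algebraMap _ L a ∈ maximalIdeal L) :
    Function.Bijective ((nbhdMap hW D).residueFieldMap u).hom ∧
      Nonempty (L ≃+* (Spec (CommRingCat.of D)).presheaf.stalk u) := by
  subst hgu
  letI algDL : Algebra D L := ψ.toAlgebra
  haveI := hloc
  letI algDO : Algebra D ((Spec (CommRingCat.of D)).presheaf.stalk u) :=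
    StructureSheaf.stalkAlgebra (R := D) u
  haveI : IsLocalization.AtPrime ((Spec (CommRingCat.of D)).presheaf.stalk u) u.asIdeal :=
    StructureSheaf.IsLocalization.to_stalk (R := D) u
  let e : L ≃ₐ[D] (Spec (CommRingCat.of D)).presheaf.stalk u :=
    IsLocalization.algEquiv u.asIdeal.primeCompl _ _
  refine ⟨?_, ⟨e.toRingEquiv⟩⟩
  have hkey : ∀ a : X.presheaf.stalk ((nbhdMap hW D) u),
      ((nbhdMap hW D).stalkMap u).hom a = e (algebraMap _ L a) := by
    letI := X.presheaf.algebra_section_stalk ⟨(nbhdMap hW D) u, hxW⟩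
    haveI := hW.isLocalization_stalk ⟨(nbhdMap hW D) u, hxW⟩
    have h1 : ((nbhdMap hW D).stalkMap u).hom =
        (e : L →+* _).comp (algebraMap (X.presheaf.stalk ((nbhdMap hW D) u)) L) := by
      apply IsLocalization.ringHom_ext
        (hW.primeIdealOf ⟨(nbhdMap hW D) u, hxW⟩).asIdeal.primeCompl
      ext c
      have h2 := congrArg (fun φ => φ.hom c) (germ_stalkMap_nbhdMap hW D u hxW)
      have h3 := congrArg (fun φ => φ c) hψ
      simp only [RingHom.comp_apply] at h3
      simp only [RingHom.comp_apply]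
      have h4 : (algebraMap ↑Γ(X, W) ↑(X.presheaf.stalk ((nbhdMap hW D) u))) c =
          (X.presheaf.germ W _ hxW).hom c := rfl
      have h5 : e (ψ (algebraMap Γ(X, W) D c)) =
          algebraMap D ((Spec (CommRingCat.of D)).presheaf.stalk u) (algebraMap Γ(X, W) D c) :=
        e.commutes _
      rw [h4, ← h3]
      refine Eq.trans ?_ h5.symm
      exact h2
    intro a
    exact congrArg (fun φ => φ a) h1
  constructor
  · exact RingHom.injective _
  · intro b
    obtain ⟨b', rfl⟩ := (Spec (CommRingCat.of D)).residue_surjective u b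
    obtain ⟨a, ha⟩ := hres (e.symm b')
    refine ⟨X.residue _ a, ?_⟩
    have h6 := congrArg (fun φ => φ.hom a) (Scheme.residue_residueFieldMap (nbhdMap hW D) u)
    refine Eq.trans h6 ?_
    show (Spec (CommRingCat.of D)).residue u (((nbhdMap hW D).stalkMap u).hom a) = _
    rw [hkey a]
    have h7 : b' - e (algebraMap _ L a) ∈
        maximalIdeal ((Spec (CommRingCat.of D)).presheaf.stalk u) := by
      have h8 : b' - e (algebraMap _ L a) = e (e.symm b' - algebraMap _ L a) := by
        rw [map_sub, AlgEquiv.apply_symm_apply]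
      rw [h8, IsLocalRing.mem_maximalIdeal, mem_nonunits_iff]
      intro hu
      have hu' := hu.map e.symm
      rw [AlgEquiv.symm_apply_apply] at hu'
      exact ha hu'
    have h9 := (IsLocalRing.residue_eq_zero_iff _).2 h7
    rw [map_sub, sub_eq_zero] at h9
    exact h9.symm

/-- **every stage of the henselization of `O_{X,x}` is the local ring of an elementary étale
neighbourhood of `(X, x)`.** -/
theorem exists_etale_nbhd_of_idx (X : Scheme.{u}) (x : X) (i : Idx (X.presheaf.stalk x)) :
    ∃ (U : Scheme.{u}) (g : U ⟶ X) (u : U), Etale g ∧ g u = x ∧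
      Function.Bijective (g.residueFieldMap u).hom ∧ Nonempty (i.L ≃+* U.presheaf.stalk u) := by
  obtain ⟨_, ⟨W₀, hW₀, rfl⟩, hxW₀, -⟩ := X.isBasis_affineOpens.exists_subset_of_mem_open
    (Set.mem_univ x) isOpen_univ
  obtain ⟨W, hWW₀⟩ : ∃ W : X.Opens, W = W₀ := ⟨W₀, rfl⟩
  have hW : IsAffineOpen W := hWW₀ ▸ hW₀
  have hxW : x ∈ W := hWW₀ ▸ hxW₀
  letI algCA : Algebra Γ(X, W) (X.presheaf.stalk x) :=
    X.presheaf.algebra_section_stalk ⟨x, hxW⟩
  haveI hlocA := hW.isLocalization_stalk ⟨x, hxW⟩
  obtain ⟨D, _, _, ψ, hEt, hψ, hloc⟩ :=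
    exists_etale_descent (hW.primeIdealOf ⟨x, hxW⟩).asIdeal (X.presheaf.stalk x) i
  haveI := hEt
  haveI hprime : ((maximalIdeal i.L).comap ψ).IsPrime := Ideal.comap_isPrime _ _
  let u : Spec (CommRingCat.of D) := ⟨(maximalIdeal i.L).comap ψ, hprime⟩
  have hgu : (nbhdMap hW D) u = x := by
    have h1 : (Spec.map (CommRingCat.ofHom (algebraMap Γ(X, W) D))) u =
        hW.primeIdealOf ⟨x, hxW⟩ := by
      apply PrimeSpectrum.ext
      show ((maximalIdeal i.L).comap ψ).comap (algebraMap Γ(X, W) D) = _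
      rw [Ideal.comap_comap, hψ, ← Ideal.comap_comap]
      have h2 : (maximalIdeal i.L).comap (algebraMap (X.presheaf.stalk x) i.L) =
          maximalIdeal (X.presheaf.stalk x) :=
        ((IsLocalRing.local_hom_TFAE (algebraMap (X.presheaf.stalk x) i.L)).out 0 4).mp
          (Idx.isLocalHom i)
      rw [h2]
      exact IsLocalization.AtPrime.comap_maximalIdeal (X.presheaf.stalk x)
        (hW.primeIdealOf ⟨x, hxW⟩).asIdeal
    show hW.fromSpec ((Spec.map (CommRingCat.ofHom (algebraMap Γ(X, W) D))) u) = x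
    rw [h1]
    exact hW.fromSpec_primeIdealOf ⟨x, hxW⟩
  obtain ⟨h1, h2⟩ := stalk_nbhdMap hW D u x hxW hgu i.L ψ hψ hloc (fun l => i.exists_sub_mem l)
  exact ⟨Spec (CommRingCat.of D), nbhdMap hW D, u, inferInstance, hgu, h1, h2⟩

end Scheme

end Groth.Agent.Lib.T2H1.Spread
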