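import Mathlib
import Groth.Prelude
import Groth.Agent.Lib.Helper4VarDim10

/-!
# Pointwise birational morphisms (`RadPt.IsBirational`) and flat base change (helper3)
-/

set_option autoImplicit false
set_option linter.style.haveILetI false
universe u

namespace Groth.Agent.Lib.T2H3.Birat
open AlgebraicGeometry CategoryTheory CategoryTheory.Limits

/-- generic points of irreducible components are the points without proper generizations. -/
theorem mem_genericPoints_iff {α : Type*} [TopologicalSpace α] [QuasiSober α] [T0Space α]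
    (x : α) : x ∈ genericPoints α ↔ ∀ x' : α, x' ⤳ x → x' = x := by
  constructor
  · intro h x' hx'
    have h1 : closure {x} ⊆ closure {x'} := by
      apply closure_minimal _ isClosed_closure
      rintro _ rfl
      exact specializes_iff_mem_closure.mp hx'
    have h2 : IsIrreducible (closure ({x'} : Set α)) := isIrreducible_singleton.closure
    have h3 : closure ({x'} : Set α) ⊆ closure {x} := h.2 h2 h1
    have h4 : closure ({x'} : Set α) = closure {x} := le_antisymm h3 h1
    exact ((inseparable_iff_closure_eq).mpr h4).eq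
  · intro h
    refine ⟨isIrreducible_singleton.closure, ?_⟩
    intro S hS hxS
    obtain ⟨z, hz⟩ := QuasiSober.sober hS.closure isClosed_closure
    have hxz : z ⤳ x := by
      rw [specializes_iff_mem_closure, hz.def]
      exact subset_closure (hxS (subset_closure rfl))
    have hzx := h z hxz
    subst hzx
    intro a ha
    rw [hz.def]
    exact subset_closure ha

/-- a generalizing map sends maximal points to maximal points -/
theorem map_mem_genericPoints {X Y : Scheme.{u}} (g : X ⟶ Y) (hg : GeneralizingMap g)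
    {x : X} (hx : x ∈ genericPoints X) : g x ∈ genericPoints Y := by
  rw [mem_genericPoints_iff] at hx ⊢
  intro y hy
  obtain ⟨x', hx', rfl⟩ := hg hy
  rw [hx x' hx']

section CL

variable {X Y X' Y' : Scheme.{u}} {f : X ⟶ Y} {g : Y' ⟶ Y} {f' : X' ⟶ Y'} {g' : X' ⟶ X}

/-- the morphism from the base change of `X'` to the fibre of `g` to the fibre of `f`. -/
noncomputable def θ (sq : IsPullback g' f' f g) (y : Y) :
    pullback f' (g.fiberι y) ⟶ f.fiber y :=
  pullback.lift (pullback.fst f' (g.fiberι y) ≫ g')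
    (pullback.snd f' (g.fiberι y) ≫ g.fiberToSpecResidueField y) (by
      rw [Category.assoc, sq.w, ← Category.assoc, pullback.condition, Category.assoc,
        Category.assoc, g.fiber_fac y])

theorem isPullback_θ (sq : IsPullback g' f' f g) (y : Y) :
    IsPullback (θ sq y) (pullback.snd f' (g.fiberι y)) (f.fiberToSpecResidueField y)
      (g.fiberToSpecResidueField y) := by
  have big : IsPullback (pullback.fst f' (g.fiberι y) ≫ g') (pullback.snd f' (g.fiberι y)) f
      (g.fiberι y ≫ g) := (IsPullback.of_hasPullback f' (g.fiberι y)).paste_horiz sq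
  have h1 : θ sq y ≫ f.fiberι y = pullback.fst f' (g.fiberι y) ≫ g' := pullback.lift_fst _ _ _
  have h2 : θ sq y ≫ f.fiberToSpecResidueField y =
      pullback.snd f' (g.fiberι y) ≫ g.fiberToSpecResidueField y := pullback.lift_snd _ _ _
  rw [← h1, g.fiber_fac y] at big
  exact IsPullback.of_right big h2 (IsPullback.of_hasPullback f (Y.fromSpecResidueField y))

variable (sq : IsPullback g' f' f g) (x₀ : X) (h1 : ∀ x : X, f x = f x₀ → x = x₀)
  (h2 : Function.Bijective (f.residueFieldMap x₀).hom)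

/-- the rational point of the fibre of `f`. -/
noncomputable def σ₀ (h2 : Function.Bijective (f.residueFieldMap x₀).hom) :
    Spec (Y.residueField (f x₀)) ⟶ f.fiber (f x₀) :=
  haveI : IsIso (f.residueFieldMap x₀) := (ConcreteCategory.isIso_iff_bijective _).mpr h2
  Spec.map (inv (f.residueFieldMap x₀)) ≫ f.asFiberHom x₀

theorem σ₀_comp : σ₀ x₀ h2 ≫ f.fiberToSpecResidueField (f x₀) = 𝟙 _ := by
  haveI : IsIso (f.residueFieldMap x₀) := (ConcreteCategory.isIso_iff_bijective _).mpr h2
  rw [σ₀, Category.assoc, Scheme.Hom.asFiberHom_fiberToSpecResidueField, ← Spec.map_comp,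
    IsIso.hom_inv_id, Spec.map_id]

include h1 in
theorem σ₀_surjective : Function.Surjective (σ₀ x₀ h2) := by
  intro φ
  refine ⟨default, ?_⟩
  apply (f.fiberι (f x₀)).isEmbedding.injective
  have key : ∀ ψ : f.fiber (f x₀), f.fiberι (f x₀) ψ = x₀ := by
    intro ψ
    apply h1
    have : f.fiberι (f x₀) ψ ∈ Set.range (f.fiberι (f x₀)) := ⟨ψ, rfl⟩
    rw [f.range_fiberι] at this
    exact this
  rw [key, key]

/-- the section of the projection to the fibre of `g`. -/
noncomputable def s : g.fiber (f x₀) ⟶ pullback f' (g.fiberι (f x₀)) :=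
  (isPullback_θ sq (f x₀)).lift (g.fiberToSpecResidueField (f x₀) ≫ σ₀ x₀ h2) (𝟙 _) (by
    rw [Category.assoc, σ₀_comp, Category.comp_id, Category.id_comp])

theorem s_snd : s sq x₀ h2 ≫ pullback.snd f' (g.fiberι (f x₀)) = 𝟙 _ :=
  (isPullback_θ sq (f x₀)).lift_snd _ _ _

theorem s_θ : s sq x₀ h2 ≫ θ sq (f x₀) = g.fiberToSpecResidueField (f x₀) ≫ σ₀ x₀ h2 :=
  (isPullback_θ sq (f x₀)).lift_fst _ _ _

include h1 in
theorem s_surjective : Function.Surjective (s sq x₀ h2) := by
  have hpb : IsPullback (s sq x₀ h2) (g.fiberToSpecResidueField (f x₀)) (θ sq (f x₀))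
      (σ₀ x₀ h2) := by
    refine IsPullback.of_right ?_ (s_θ sq x₀ h2) (isPullback_θ sq (f x₀)).flip
    rw [s_snd, σ₀_comp]
    exact IsPullback.of_horiz_isIso ⟨by simp⟩
  haveI : Surjective (σ₀ x₀ h2) := ⟨σ₀_surjective x₀ h1 h2⟩
  have : Surjective (s sq x₀ h2) :=
    MorphismProperty.of_isPullback (P := @Surjective) hpb.flip inferInstance
  exact this.surj

include h1 in
theorem s_snd_apply (w : ↥(pullback f' (g.fiberι (f x₀)))) :
    s sq x₀ h2 (pullback.snd f' (g.fiberι (f x₀)) w) = w := by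
  obtain ⟨z, rfl⟩ := s_surjective sq x₀ h1 h2 w
  have := congr($(s_snd sq x₀ h2) z)
  rw [Scheme.Hom.comp_apply] at this
  rw [this]
  rfl

include sq h1 h2 in
/-- points over the fibre of `g` at `f x₀` are determined, together with their
specializations, by their images in `Y'`. -/
theorem specializes_of_map_specializes (x'₁ x'₂ : X') (e1 : g (f' x'₁) = f x₀)
    (e2 : g (f' x'₂) = f x₀) (hs : f' x'₁ ⤳ f' x'₂) : x'₁ ⤳ x'₂ := by
  have hz : ∀ x' : X', g (f' x') = f x₀ → ∃ z : g.fiber (f x₀), g.fiberι (f x₀) z = f' x' := by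
    intro x' e
    have : f' x' ∈ Set.range (g.fiberι (f x₀)) := by rw [g.range_fiberι]; exact e
    exact this
  obtain ⟨z₁, hz₁⟩ := hz x'₁ e1
  obtain ⟨z₂, hz₂⟩ := hz x'₂ e2
  obtain ⟨w₁, hw₁, hw₁'⟩ := Scheme.Pullback.exists_preimage_pullback x'₁ z₁ hz₁.symm
  obtain ⟨w₂, hw₂, hw₂'⟩ := Scheme.Pullback.exists_preimage_pullback x'₂ z₂ hz₂.symm
  have hzz : z₁ ⤳ z₂ := by
    rw [← (g.fiberι (f x₀)).isEmbedding.isInducing.specializes_iff, hz₁, hz₂]
    exact hs
  have hww : w₁ ⤳ w₂ := by
    rw [← s_snd_apply sq x₀ h1 h2 w₁, ← s_snd_apply sq x₀ h1 h2 w₂, hw₁', hw₂']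
    exact hzz.map (s sq x₀ h2).continuous
  rw [← hw₁, ← hw₂]
  exact hww.map (pullback.fst f' (g.fiberι (f x₀))).continuous

include sq h1 h2 in
theorem residueFieldMap_bijective (x' : X') (e : g (f' x') = f x₀) :
    Function.Bijective (f'.residueFieldMap x').hom := by
  have : f' x' ∈ Set.range (g.fiberι (f x₀)) := by rw [g.range_fiberι]; exact e
  obtain ⟨z, hz⟩ := this
  obtain ⟨w, hw, hw'⟩ := Scheme.Pullback.exists_preimage_pullback x' z hz.symm
  have hwz : s sq x₀ h2 z = w := by rw [← hw', s_snd_apply sq x₀ h1 h2]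
  subst hw
  subst hwz
  clear hw' hz
  -- the morphism `ψ : Z ⟶ X'`
  let ψ := s sq x₀ h2 ≫ pullback.fst f' (g.fiberι (f x₀))
  have hψ : ψ ≫ f' = g.fiberι (f x₀) := by
    rw [Category.assoc, pullback.condition, ← Category.assoc, s_snd, Category.id_comp]
  have hcomp := Scheme.residueFieldMap_comp ψ f' z
  have hcongr := Scheme.Hom.residueFieldMap_congr hψ z
  have hbij : Function.Bijective ((g.fiberι (f x₀)).residueFieldMap z).hom :=
    Groth.Agent.Lib.Helper4.VarDim.residueFieldMap_bijective_of_isPreimmersion _ z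
  -- the composite `κ(f' (ψ z)) → κ(ψ z) → κ(z)` is bijective
  have hbij2 : Function.Bijective (f'.residueFieldMap (ψ z) ≫ ψ.residueFieldMap z).hom := by
    rw [← hcomp, hcongr]
    exact hbij.comp (ConcreteCategory.bijective_of_isIso
      (Y'.residueFieldCongr (by rw [hψ])).hom)
  rw [CommRingCat.hom_comp] at hbij2
  have hinj : Function.Injective (ψ.residueFieldMap z).hom := RingHom.injective _
  have hsurj : Function.Surjective (ψ.residueFieldMap z).hom :=
    Function.Surjective.of_comp hbij2.2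
  refine ⟨RingHom.injective _, ?_⟩
  intro t
  obtain ⟨r, hr⟩ := hbij2.2 ((ψ.residueFieldMap z).hom t)
  exact ⟨r, hinj hr⟩

end CL

/-- points of a cartesian square. -/
theorem exists_preimage_of_isPullback {X Y X' Y' : Scheme.{u}} {f : X ⟶ Y} {g : Y' ⟶ Y}
    {f' : X' ⟶ Y'} {g' : X' ⟶ X} (sq : IsPullback g' f' f g) (x : X) (y' : Y')
    (h : f x = g y') : ∃ x' : X', g' x' = x ∧ f' x' = y' := by
  obtain ⟨z, hz1, hz2⟩ := Scheme.Pullback.exists_preimage_pullback x y' h
  refine ⟨sq.isoPullback.inv z, ?_, ?_⟩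
  · rw [← Scheme.Hom.comp_apply, sq.isoPullback_inv_fst]; exact hz1
  · rw [← Scheme.Hom.comp_apply, sq.isoPullback_inv_snd]; exact hz2

/-- **Flat base change of pointwise birational morphisms.** -/
theorem isBirational_baseChange {X Y X' Y' : Scheme.{u}} {f : X ⟶ Y} {g : Y' ⟶ Y} [Flat g]
    {f' : X' ⟶ Y'} {g' : X' ⟶ X} (sq : IsPullback g' f' f g) (hf : RadPt.IsBirational f) :
    RadPt.IsBirational f' := by
  haveI : Flat g' := MorphismProperty.of_isPullback (P := @Flat) sq.flip inferInstance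
  have hw : ∀ x' : X', f (g' x') = g (f' x') := fun x' => by
    rw [← Scheme.Hom.comp_apply, ← Scheme.Hom.comp_apply, sq.w]
  -- the data at a maximal point of `X`
  have K : ∀ x₁ ∈ genericPoints X, (∀ x : X, f x = f x₁ → x = x₁) ∧
      Function.Bijective (f.residueFieldMap x₁).hom := by
    intro x₁ hx₁
    have hy := hf.1.mapsTo hx₁
    exact ⟨fun x hx => (hf.2 _ hy).1 x x₁ hx rfl, (hf.2 _ hy).2 x₁ rfl⟩
  have spec : ∀ x₁ ∈ genericPoints X, ∀ x'₁ x'₂ : X', g (f' x'₁) = f x₁ → g (f' x'₂) = f x₁ →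
      f' x'₁ ⤳ f' x'₂ → x'₁ ⤳ x'₂ := fun x₁ hx₁ x'₁ x'₂ e1 e2 hs =>
    specializes_of_map_specializes sq x₁ (K x₁ hx₁).1 (K x₁ hx₁).2 x'₁ x'₂ e1 e2 hs
  have gen' : ∀ x' ∈ genericPoints X', g' x' ∈ genericPoints X := fun x' hx' =>
    map_mem_genericPoints g' (Flat.generalizingMap g') hx'
  have genY : ∀ y' ∈ genericPoints Y', g y' ∈ genericPoints Y := fun y' hy' =>
    map_mem_genericPoints g (Flat.generalizingMap g) hy'
  refine ⟨⟨?_, ?_, ?_⟩, ?_⟩
  · -- maps maximal points to maximal points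
    intro x' hx'
    have hx₁ := gen' x' hx'
    have hy := hf.1.mapsTo hx₁
    rw [mem_genericPoints_iff]
    intro y'' hy''
    have h1 : g y'' = f (g' x') := by
      have h2 : g y'' ⤳ g (f' x') := hy''.map g.continuous
      rw [← hw] at h2
      exact (mem_genericPoints_iff _).mp hy _ h2
    obtain ⟨x'', hx''1, hx''2⟩ := exists_preimage_of_isPullback sq (g' x') y'' h1.symm
    have h3 : x'' ⤳ x' := spec _ hx₁ x'' x' (by rw [hx''2, h1]) (hw x').symm
      (by rw [hx''2]; exact hy'')
    have h4 := (mem_genericPoints_iff _).mp hx' _ h3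
    rw [← hx''2, h4]
  · -- injective on maximal points
    intro x'₁ hx'₁ x'₂ hx'₂ he
    have hx₁ := gen' x'₁ hx'₁
    have e1 : g (f' x'₁) = f (g' x'₁) := (hw x'₁).symm
    have e2 : g (f' x'₂) = f (g' x'₁) := by rw [← he]; exact e1
    have h12 := spec _ hx₁ x'₁ x'₂ e1 e2 (by rw [he])
    have h21 := spec _ hx₁ x'₂ x'₁ e2 e1 (by rw [he])
    exact (h12.antisymm h21).eq
  · -- surjective onto maximal points
    intro y' hy'
    have hy := genY y' hy'
    obtain ⟨x₀, hx₀, hx₀y⟩ := hf.1.surjOn hy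
    obtain ⟨x', hx'1, hx'2⟩ := exists_preimage_of_isPullback sq x₀ y' hx₀y
    refine ⟨x', ?_, hx'2⟩
    rw [mem_genericPoints_iff]
    intro x'' hx''
    have h1 : f' x'' = y' := by
      have h2 : f' x'' ⤳ f' x' := hx''.map f'.continuous
      rw [hx'2] at h2
      exact (mem_genericPoints_iff _).mp hy' _ h2
    have e1 : g (f' x') = f x₀ := by rw [hx'2, hx₀y]
    have e2 : g (f' x'') = f x₀ := by rw [h1, hx₀y]
    have h3 : x' ⤳ x'' := spec x₀ hx₀ x' x'' e1 e2 (by rw [h1, hx'2])
    exact (hx''.antisymm h3).eq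
  · intro y' hy'
    have hy := genY y' hy'
    obtain ⟨x₀, hx₀, hx₀y⟩ := hf.1.surjOn hy
    constructor
    · intro x'₁ x'₂ h1 h2
      have e1 : g (f' x'₁) = f x₀ := by rw [h1, hx₀y]
      have e2 : g (f' x'₂) = f x₀ := by rw [h2, hx₀y]
      have h12 := spec x₀ hx₀ x'₁ x'₂ e1 e2 (by rw [h1, h2])
      have h21 := spec x₀ hx₀ x'₂ x'₁ e2 e1 (by rw [h1, h2])
      exact (h12.antisymm h21).eq
    · intro x' hx'
      exact residueFieldMap_bijective sq x₀ (K x₀ hx₀).1 (K x₀ hx₀).2 x' (by rw [hx', hx₀y])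

end Groth.Agent.Lib.T2H3.Birat
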