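import Mathlib
import Groth.Agent.Lib.T2H1Spread
import Groth.Agent.Lib.Helper4DimFormulaAE
import Groth.Agent.Lib.T2H3Birat
import Groth.Agent.S9237
import Groth.Agent.Lib.T2H1EssEtStalk

/-!
# Counting minimal primes in the stages of the henselization (helper1)
-/

set_option autoImplicit false
universe u
open CategoryTheory AlgebraicGeometry IsLocalRing

namespace Groth.Agent.Lib.T2H1.BranchCount

open Groth.Agent.Lib.Helper3 Groth.Agent.Lib.Helper3.Hz

section Ring

/-- contraction of a minimal prime along a flat ring map is a minimal prime -/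
lemma comap_mem_minimalPrimes_of_flat {R S : Type*} [CommRing R] [CommRing S] [Algebra R S]
    [Module.Flat R S] {q : Ideal S} (hq : q ∈ minimalPrimes S) :
    q.comap (algebraMap R S) ∈ minimalPrimes R := by
  haveI := hq.1.1
  refine ⟨⟨Ideal.comap_isPrime _ _, bot_le⟩, ?_⟩
  rintro p ⟨hp, -⟩ hle
  haveI := hp
  by_contra hnle
  have hlt : p < q.comap (algebraMap R S) := lt_of_le_not_ge hle hnle
  haveI : q.LiesOver (q.comap (algebraMap R S)) := ⟨rfl⟩
  obtain ⟨P, hPq, hP, -⟩ := Ideal.exists_ideal_lt_liesOver_of_lt (S := S) q hlt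
  exact absurd (hq.2 ⟨hP, bot_le⟩ hPq.le) (not_le_of_gt hPq)

/-- an injective ring map does not decrease the number of minimal primes -/
lemma encard_minimalPrimes_le_of_injective {R S : Type*} [CommRing R] [CommRing S] (f : R →+* S)
    (hf : Function.Injective f) : (minimalPrimes R).encard ≤ (minimalPrimes S).encard := by
  have h1 : minimalPrimes R ⊆ Ideal.comap f '' minimalPrimes S := by
    have := Ideal.minimalPrimes_comap_subset f (⊥ : Ideal S)
    rwa [Ideal.comap_bot_of_injective f hf] at this
  exact (Set.encard_le_encard h1).trans (Set.encard_image_le _ _)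

/-- a ring isomorphism preserves the number of minimal primes -/
lemma encard_minimalPrimes_eq_of_ringEquiv {R S : Type*} [CommRing R] [CommRing S] (e : R ≃+* S) :
    (minimalPrimes R).encard = (minimalPrimes S).encard :=
  le_antisymm (encard_minimalPrimes_le_of_injective e.toRingHom e.injective)
    (encard_minimalPrimes_le_of_injective e.symm.toRingHom e.symm.injective)

end Ring

section K

variable {A : Type u} [CommRing A] [IsLocalRing A]

/-- finitely many elements of `Rh A` come from a common stage (finset version) -/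
lemma exists_ofL_finset (S : Finset (Rh A)) :
    ∃ i : Idx A, ∀ z ∈ S, ∃ x : i.L, ofL i x = z := by
  classical
  obtain ⟨i, x', hx'⟩ :=
    exists_ofL_fin (fun k : Fin S.card => ((S.equivFin.symm k : S) : Rh A))
  refine ⟨i, fun z hz => ⟨x' (S.equivFin ⟨z, hz⟩), ?_⟩⟩
  rw [hx']
  simp

/-- if the henselization has at least `k` minimal primes, so does some stage. -/
theorem exists_idx_le_encard_minimalPrimes (k : ℕ)
    (hk : (k : ℕ∞) ≤ (minimalPrimes (Rh A)).encard) :
    ∃ i : Idx A, (k : ℕ∞) ≤ (minimalPrimes i.L).encard := by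
  classical
  obtain ⟨t, ht, htk⟩ := Set.exists_subset_encard_eq hk
  have htfin : t.Finite := Set.finite_of_encard_eq_coe htk
  have hsep : ∀ a ∈ t, ∀ b ∈ t, a ≠ b → ∃ f : Rh A, f ∈ a ∧ f ∉ b := by
    intro a ha b hb hab
    by_contra hcon
    push_neg at hcon
    have hle : a ≤ b := fun f hf => hcon f hf
    have hge := (ht hb).2 ⟨(ht ha).1.1, bot_le⟩ hle
    exact hab (le_antisymm hle hge)
  choose! F hF using hsep
  let S : Finset (Rh A) := (htfin.toFinset ×ˢ htfin.toFinset).image (fun p => F p.1 p.2)
  obtain ⟨i, hi⟩ := exists_ofL_finset S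
  refine ⟨i, ?_⟩
  letI := (ofL i).toAlgebra
  haveI : Module.Flat i.L (Rh A) := flat_over_L i
  have hmaps : ∀ a ∈ t, a.comap (ofL i) ∈ minimalPrimes i.L := fun a ha =>
    comap_mem_minimalPrimes_of_flat (R := i.L) (S := Rh A) (ht ha)
  have hinj : Set.InjOn (Ideal.comap (ofL i)) t := by
    intro a ha b hb hab
    by_contra hne
    obtain ⟨hfa, hfb⟩ := hF a ha b hb hne
    obtain ⟨x, hx⟩ := hi (F a b) (by
      simp only [S, Finset.mem_image, Finset.mem_product, Set.Finite.mem_toFinset]
      exact ⟨(a, b), ⟨ha, hb⟩, rfl⟩)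
    have hxa : x ∈ a.comap (ofL i) := by
      rw [Ideal.mem_comap, hx]
      exact hfa
    rw [hab, Ideal.mem_comap, hx] at hxa
    exact hfb hxa
  calc (k : ℕ∞) = t.encard := htk.symm
    _ = (Ideal.comap (ofL i) '' t).encard := (hinj.encard_image).symm
    _ ≤ (minimalPrimes i.L).encard :=
        Set.encard_le_encard (by rintro _ ⟨a, ha, rfl⟩; exact hmaps a ha)

end K

section Components

open Groth.Agent.Lib.Helper4.DimFormula

/-- the irreducible components of a scheme through a point correspond to the minimal primes of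
the local ring. -/
theorem encard_irreducibleComponents_mem (U : Scheme.{u}) (u : U) :
    {Z : Set U | Z ∈ irreducibleComponents U ∧ u ∈ Z}.encard =
      (minimalPrimes (U.presheaf.stalk u)).encard := by
  classical
  let f : Ideal (U.presheaf.stalk u) → Set U := fun 𝔭 =>
    if h : 𝔭.IsPrime then closure {U.fromSpecStalk u ⟨𝔭, h⟩} else ∅
  have hf : ∀ (𝔭 : Ideal (U.presheaf.stalk u)) (h : 𝔭.IsPrime),
      f 𝔭 = closure {U.fromSpecStalk u ⟨𝔭, h⟩} := fun 𝔭 h => dif_pos h
  have himg : f '' minimalPrimes (U.presheaf.stalk u) =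
      {Z | Z ∈ irreducibleComponents U ∧ u ∈ Z} := by
    ext Z
    constructor
    · rintro ⟨𝔭, h𝔭, rfl⟩
      haveI := h𝔭.1.1
      rw [hf 𝔭 h𝔭.1.1]
      have hmax := (mem_minimalPrimes_iff_fromSpecStalk_maximal u 𝔭).mp h𝔭
      have hgen : U.fromSpecStalk u ⟨𝔭, h𝔭.1.1⟩ ∈ genericPoints U :=
        (T2H3.Birat.mem_genericPoints_iff _).mpr hmax
      exact ⟨hgen, specializes_iff_mem_closure.mp (fromSpecStalk_specializes u ⟨𝔭, h𝔭.1.1⟩)⟩
    · rintro ⟨hZ, huZ⟩
      obtain ⟨ξ, hξ⟩ := QuasiSober.sober hZ.1 (isClosed_of_mem_irreducibleComponents _ hZ)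
      have hξu : ξ ⤳ u := by
        rw [specializes_iff_mem_closure, hξ.def]
        exact huZ
      obtain ⟨𝔭, h𝔭, rfl⟩ := exists_prime_fromSpecStalk_eq hξu
      have hgen : U.fromSpecStalk u ⟨𝔭, h𝔭⟩ ∈ genericPoints U := by
        show closure {U.fromSpecStalk u ⟨𝔭, h𝔭⟩} ∈ irreducibleComponents U
        rw [hξ.def]
        exact hZ
      have hmin := (mem_minimalPrimes_iff_fromSpecStalk_maximal u 𝔭).mpr
        ((T2H3.Birat.mem_genericPoints_iff _).mp hgen)
      exact ⟨𝔭, hmin, by rw [hf 𝔭 h𝔭, hξ.def]⟩
  have hinj : Set.InjOn f (minimalPrimes (U.presheaf.stalk u)) := by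
    intro 𝔭 h𝔭 𝔮 h𝔮 h
    haveI := h𝔭.1.1
    haveI := h𝔮.1.1
    rw [hf 𝔭 h𝔭.1.1, hf 𝔮 h𝔮.1.1] at h
    have h2 := (inseparable_iff_closure_eq.mpr h).eq
    exact fromSpecStalk_injective u 𝔭 𝔮 h2
  rw [← himg, hinj.encard_image]

end Components

section Branches

variable (A : Type u) [CommRing A] [IsLocalRing A]

/-- the number of branches is the number of minimal primes of the henselization. -/
theorem numBranches_eq_encard : Brnch.numBranches A = (minimalPrimes (Rh A)).encard :=
  (Groth.Agent.S9237.result A (Rh A)).symm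

/-- the number of branches of any henselization. -/
theorem numBranches_eq_encard_of_isHenselization (S : Type u) [CommRing S] [IsLocalRing S]
    [Algebra A S] [IsLocalHom (algebraMap A S)] [Hensel.IsHenselization A S] :
    Brnch.numBranches A = (minimalPrimes S).encard :=
  (Groth.Agent.S9237.result A S).symm

/-- every stage injects into the henselization. -/
lemma ofL_injective {A : Type u} [CommRing A] [IsLocalRing A] (i : Idx A) :
    Function.Injective (ofL i) := by
  letI := (ofL i).toAlgebra
  haveI : Module.Flat i.L (Rh A) := flat_over_L i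
  haveI : IsLocalHom (algebraMap i.L (Rh A)) := inferInstanceAs (IsLocalHom (ofL i))
  haveI : Module.FaithfullyFlat i.L (Rh A) := Module.FaithfullyFlat.of_flat_of_isLocalHom
  exact FaithfulSMul.algebraMap_injective i.L (Rh A)

/-- a local ring has at most as many minimal primes as branches. -/
theorem encard_minimalPrimes_le_numBranches :
    (minimalPrimes A).encard ≤ Brnch.numBranches A := by
  rw [numBranches_eq_encard]
  exact encard_minimalPrimes_le_of_injective (algebraMap A (Rh A))
    (FaithfulSMul.algebraMap_injective A (Rh A))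

/-- a strictly essentially étale local algebra has at most as many minimal primes as the base has
branches. -/
theorem encard_minimalPrimes_le_numBranches_of_isStrict (A' : Type u) [CommRing A']
    [IsLocalRing A'] [Algebra A A'] [IsLocalHom (algebraMap A A')]
    (h : EGA4loc.IsStrictlyEssentiallyEtale A A') :
    (minimalPrimes A').encard ≤ Brnch.numBranches A := by
  obtain ⟨i, ⟨e⟩⟩ := exists_idx A' h
  rw [numBranches_eq_encard, encard_minimalPrimes_eq_of_ringEquiv e.toRingEquiv]
  exact encard_minimalPrimes_le_of_injective (ofL i) (ofL_injective i)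

end Branches

section SchemeBranches

/-- an elementary étale neighbourhood has at most as many minimal primes in its local ring as the
base point has branches. -/
theorem encard_minimalPrimes_stalk_le_numBranchesAt {X U : Scheme.{u}} (g : U ⟶ X) [Etale g]
    (u : U) (hbij : Function.Bijective (g.residueFieldMap u).hom) :
    (minimalPrimes (U.presheaf.stalk u)).encard ≤ Brnch.numBranchesAt X (g u) := by
  letI algAA' : Algebra (X.presheaf.stalk (g u)) (U.presheaf.stalk u) :=
    (g.stalkMap u).hom.toAlgebra
  haveI hlocAA' : IsLocalHom (algebraMap (X.presheaf.stalk (g u)) (U.presheaf.stalk u)) :=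
    (inferInstance : IsLocalHom (g.stalkMap u).hom)
  have hess : EGA4loc.IsEssentiallyEtale (X.presheaf.stalk (g u)) (U.presheaf.stalk u) :=
    Groth.Agent.Lib.T2H1.EssEtStalk.isEssentiallyEtale_stalkMap g u
  exact encard_minimalPrimes_le_numBranches_of_isStrict (X.presheaf.stalk (g u))
    (U.presheaf.stalk u) ⟨hess, hbij⟩

/-- if `x` has at least `k` branches, some elementary étale neighbourhood has at least `k`
minimal primes in its local ring. -/
theorem exists_etale_nbhd_le_encard (X : Scheme.{u}) (x : X) (k : ℕ)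
    (hk : (k : ℕ∞) ≤ Brnch.numBranchesAt X x) :
    ∃ (U : Scheme.{u}) (g : U ⟶ X) (u : U), Etale g ∧ g u = x ∧
      Function.Bijective (g.residueFieldMap u).hom ∧
      (k : ℕ∞) ≤ (minimalPrimes (U.presheaf.stalk u)).encard := by
  have hk' : (k : ℕ∞) ≤ (minimalPrimes (Rh (X.presheaf.stalk x))).encard := by
    rw [← numBranches_eq_encard]
    exact hk
  obtain ⟨i, hi⟩ := exists_idx_le_encard_minimalPrimes k hk'
  obtain ⟨U, g, u, hg, hgu, hbij, ⟨e⟩⟩ :=
    Groth.Agent.Lib.T2H1.Spread.exists_etale_nbhd_of_idx X x i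
  exact ⟨U, g, u, hg, hgu, hbij, by rwa [← encard_minimalPrimes_eq_of_ringEquiv e]⟩

end SchemeBranches

end Groth.Agent.Lib.T2H1.BranchCount
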