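import Mathlib
import Groth.Prelude
import Groth.Agent.Lib.Helper3Branch
import Groth.Agent.Lib.Helper3IndEtHz
import Groth.Agent.Lib.Helper3TensorLocal
import Groth.Agent.Lib.Helper3MinLoc
import Groth.Agent.Lib.Helper4BranchSum
import Groth.Agent.Lib.Helper19ComplNoeth
import Groth.Agent.Lib.Helper7CplDom
import Groth.Agent.S9237
import Groth.Agent.S9238
import Groth.Agent.S2670

/-!
# Branches of the completion of a local ring with geometrically normal formal fibres (helper1)

`A` Noetherian local with geometrically normal formal fibres, `C` its completion.  Then `A` and `C`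
have the same number of branches and of geometric branches.  The proof counts: with
`N = normRed A`, the ring `N ⊗[A] C` is normal (normal base change), so its minimal primes
correspond to its maximal ideals, which correspond to those of `N`; for the geometric count one
replaces `C` by a strict henselization `Csh` of `C`, and `N ⊗[A] Csh` is ind-étale over the normal
ring `N ⊗[A] C`.
-/

set_option autoImplicit false
set_option linter.style.haveILetI false
set_option linter.unusedSectionVars false
universe u

namespace Groth.Agent.Lib.T2H1.BranchCpl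

open TensorProduct IsLocalRing Groth.Agent.Lib.Helper3

variable (A : Type u) [CommRing A] [IsLocalRing A] [IsNoetherianRing A]

theorem isIntegral_normRed : Algebra.IsIntegral A (CAlg2.normRed A) := by
  haveI : Algebra.IsIntegral A (CAlg2.red A) :=
    Algebra.isIntegral_of_surjective Ideal.Quotient.mk_surjective
  exact Algebra.IsIntegral.trans (CAlg2.red A)

theorem hres (s : AdicCompletion (maximalIdeal A) A) :
    ∃ a : A, s - algebraMap A (AdicCompletion (maximalIdeal A) A) a ∈
      maximalIdeal (AdicCompletion (maximalIdeal A) A) := by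
  obtain ⟨a, ha⟩ := Groth.Agent.Lib.Helper28.exists_sub_mem_map_adicCompletion (maximalIdeal A) s
  exact ⟨a, by rw [AdicCompletion.maximalIdeal_eq_map]; exact ha⟩

/-- `normRed A ⊗[A] Â` is a normal ring. -/
theorem isNormalRing_tensor (hA : EGA4.HasGeomNormalFormalFibres A) :
    EGA4.IsNormalRing ((CAlg2.normRed A) ⊗[A] AdicCompletion (maximalIdeal A) A) := by
  haveI : IsNoetherianRing (AdicCompletion (maximalIdeal A) A) :=
    Groth.Agent.Lib.Helper19.isNoetherianRing_adicCompletion (maximalIdeal A)
  have hfin : (minimalPrimes A).Finite := minimalPrimes.finite_of_isNoetherianRing A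
  have h1 : EGA4.IsNormalRing (AdicCompletion (maximalIdeal A) A ⊗[A] (CAlg2.normRed A)) :=
    Groth.Agent.S2670.result A (AdicCompletion (maximalIdeal A) A)
      (Groth.Agent.Lib.Helper7.CplDom.isNormalHom_cpl A hA) (CAlg2.normRed A)
      (fun p _ => Branch.normal_normRed A hfin p)
  exact Groth.Agent.Lib.Helper6.SepNorm.isNormalRing_of_ringEquiv
    (Algebra.TensorProduct.comm A (AdicCompletion (maximalIdeal A) A)
      (CAlg2.normRed A)).toRingEquiv h1

/-- the number of branches of the completion. -/
theorem numBranches_cpl (hA : EGA4.HasGeomNormalFormalFibres A) :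
    Brnch.numBranches (AdicCompletion (maximalIdeal A) A) = Brnch.numBranches A := by
  haveI hC : HenselianLocalRing (AdicCompletion (maximalIdeal A) A) :=
    Branch.henselianLocalRing_of_isAdicComplete _
  haveI := Branch.isHenselization_self (AdicCompletion (maximalIdeal A) A)
  haveI : IsNoetherianRing (AdicCompletion (maximalIdeal A) A) :=
    Groth.Agent.Lib.Helper19.isNoetherianRing_adicCompletion (maximalIdeal A)
  haveI := isIntegral_normRed A
  haveI : Module.FaithfullyFlat A (AdicCompletion (maximalIdeal A) A) :=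
    Groth.Agent.Lib.Helper28.faithfullyFlat_adicCompletion A
  have hfin : (minimalPrimes A).Finite := minimalPrimes.finite_of_isNoetherianRing A
  rw [← Groth.Agent.S9237.result (AdicCompletion (maximalIdeal A) A)
      (AdicCompletion (maximalIdeal A) A)]
  have e1 : ENat.card (minimalPrimes (AdicCompletion (maximalIdeal A) A)) =
      ENat.card (minimalPrimes ((CAlg2.normRed A) ⊗[A] AdicCompletion (maximalIdeal A) A)) :=
    (ENat.card_congr (Set.BijOn.equiv _
      (MinLoc.bijOn_minimalPrimes_normRed_tensor A (AdicCompletion (maximalIdeal A) A)))).symm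
  have hN := isNormalRing_tensor A hA
  have h1 : ∀ q ∈ minimalPrimes ((CAlg2.normRed A) ⊗[A] AdicCompletion (maximalIdeal A) A),
      ∃! m : Ideal ((CAlg2.normRed A) ⊗[A] AdicCompletion (maximalIdeal A) A),
        m.IsMaximal ∧ q ≤ m := by
    intro q hq
    haveI : q.IsPrime := hq.1.1
    exact Branch.existsUnique_maximal_ge _ TensorLocal.includeRight_isIntegral q
  have h2 : ∀ m : Ideal ((CAlg2.normRed A) ⊗[A] AdicCompletion (maximalIdeal A) A),
      m.IsMaximal → ∃! q : Ideal ((CAlg2.normRed A) ⊗[A] AdicCompletion (maximalIdeal A) A),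
        q ∈ minimalPrimes ((CAlg2.normRed A) ⊗[A] AdicCompletion (maximalIdeal A) A) ∧
          q ≤ m := by
    intro m hm
    haveI : m.IsPrime := hm.isPrime
    have hl : @Branch.LDP ((CAlg2.normRed A) ⊗[A] AdicCompletion (maximalIdeal A) A) _ m :=
      @Branch.ldp_of_isDomain_localization
        ((CAlg2.normRed A) ⊗[A] AdicCompletion (maximalIdeal A) A) _ m _ (hN m).1
    exact @Branch.existsUnique_minimalPrimes_le_of_ldp
      ((CAlg2.normRed A) ⊗[A] AdicCompletion (maximalIdeal A) A) _ m _ hl
  obtain ⟨e2⟩ := Branch.nonempty_equiv_minimalPrimes_maximalSpectrum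
    (T := (CAlg2.normRed A) ⊗[A] AdicCompletion (maximalIdeal A) A) h1 h2
  obtain ⟨e3⟩ := Branch.nonempty_equiv_maximalSpectrum_tensor (A := A) (B := CAlg2.normRed A)
    (S := AdicCompletion (maximalIdeal A) A) (hres A)
  rw [e1, ENat.card_congr e2, ENat.card_congr e3]
  unfold Brnch.numBranches
  rw [if_pos hfin]

section IndEt

attribute [local instance] Algebra.TensorProduct.rightAlgebra

/-- `N ⊗[A] Csh` is ind-étale over `N ⊗[A] C` when `Csh` is ind-étale over `C`. -/
theorem isIndEtale_map (A N C Csh : Type u) [CommRing A] [CommRing N] [CommRing C] [CommRing Csh]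
    [Algebra A N] [Algebra A C] [Algebra C Csh] [Algebra A Csh] [IsScalarTower A C Csh]
    (h : EtPBC.IsIndEtale C Csh) :
    letI : Algebra (N ⊗[A] C) (N ⊗[A] Csh) := (Algebra.TensorProduct.map (AlgHom.id A N)
      (IsScalarTower.toAlgHom A C Csh)).toRingHom.toAlgebra
    EtPBC.IsIndEtale (N ⊗[A] C) (N ⊗[A] Csh) := by
  letI : Algebra (N ⊗[A] C) (N ⊗[A] Csh) := (Algebra.TensorProduct.map (AlgHom.id A N)
      (IsScalarTower.toAlgHom A C Csh)).toRingHom.toAlgebra
  letI : Algebra C (N ⊗[A] Csh) := ((algebraMap Csh (N ⊗[A] Csh)).comp (algebraMap C Csh)).toAlgebra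
  haveI : IsScalarTower C Csh (N ⊗[A] Csh) := IsScalarTower.of_algebraMap_eq (fun _ => rfl)
  haveI : IsScalarTower C (N ⊗[A] C) (N ⊗[A] Csh) := IsScalarTower.of_algebraMap_eq (fun c => by
    show (1 : N) ⊗ₜ[A] (algebraMap C Csh c) = Algebra.TensorProduct.map (AlgHom.id A N)
      (IsScalarTower.toAlgHom A C Csh) ((1 : N) ⊗ₜ[A] c)
    simp)
  haveI : IsScalarTower A (N ⊗[A] C) (N ⊗[A] Csh) := IsScalarTower.of_algebraMap_eq (fun a =>
    ((Algebra.TensorProduct.map (AlgHom.id A N) (IsScalarTower.toAlgHom A C Csh)).commutes a).symm)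
  haveI : IsScalarTower N (N ⊗[A] C) (N ⊗[A] Csh) := IsScalarTower.of_algebraMap_eq (fun n => by
    show n ⊗ₜ[A] (1 : Csh) = Algebra.TensorProduct.map (AlgHom.id A N)
      (IsScalarTower.toAlgHom A C Csh) (n ⊗ₜ[A] (1 : C))
    simp)
  have h2 : Algebra.IsPushout A Csh N (N ⊗[A] Csh) := inferInstance
  have h3 : Algebra.IsPushout C Csh (N ⊗[A] C) (N ⊗[A] Csh) :=
    (Algebra.IsPushout.comp_iff A C N (N ⊗[A] C)).mp h2
  haveI : Algebra.IsPushout C (N ⊗[A] C) Csh (N ⊗[A] Csh) := h3.symm
  exact IndEt.isIndEtale_of_algEquiv (Groth.Agent.S0733.result C Csh (N ⊗[A] C) h)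
    (Algebra.IsPushout.equiv C (N ⊗[A] C) Csh (N ⊗[A] Csh))

end IndEt

/-- the number of geometric branches of the completion. -/
theorem numGeomBranches_cpl (hA : EGA4.HasGeomNormalFormalFibres A) :
    Brnch.numGeomBranches (AdicCompletion (maximalIdeal A) A) = Brnch.numGeomBranches A := by
  haveI hC : HenselianLocalRing (AdicCompletion (maximalIdeal A) A) :=
    Branch.henselianLocalRing_of_isAdicComplete _
  haveI : IsNoetherianRing (AdicCompletion (maximalIdeal A) A) :=
    Groth.Agent.Lib.Helper19.isNoetherianRing_adicCompletion (maximalIdeal A)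
  haveI := isIntegral_normRed A
  haveI : Module.FaithfullyFlat A (AdicCompletion (maximalIdeal A) A) :=
    Groth.Agent.Lib.Helper28.faithfullyFlat_adicCompletion A
  have hfin : (minimalPrimes A).Finite := minimalPrimes.finite_of_isNoetherianRing A
  obtain ⟨Csh, _, _, _, _, _⟩ :=
    Branch.exists_isStrictHenselization (AdicCompletion (maximalIdeal A) A)
  rw [← Groth.Agent.S9238.result (AdicCompletion (maximalIdeal A) A) Csh,
    Groth.Agent.Lib.Helper4.BranchSum.numGeomBranches_eq_card_pts A hfin]
  letI : Algebra A Csh := ((algebraMap (AdicCompletion (maximalIdeal A) A) Csh).comp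
    (algebraMap A (AdicCompletion (maximalIdeal A) A))).toAlgebra
  haveI : IsScalarTower A (AdicCompletion (maximalIdeal A) A) Csh :=
    IsScalarTower.of_algebraMap_eq (fun _ => rfl)
  haveI : Module.FaithfullyFlat (AdicCompletion (maximalIdeal A) A) Csh :=
    HzP.sh_faithfullyFlat _ _
  haveI : Module.Flat A Csh := Module.Flat.trans A (AdicCompletion (maximalIdeal A) A) Csh
  haveI hH : HenselianLocalRing Csh :=
    Hensel.IsStrictHenselization.henselian (AdicCompletion (maximalIdeal A) A)
  haveI hsc : IsSepClosure (ResidueField (AdicCompletion (maximalIdeal A) A)) (ResidueField Csh) :=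
    Hensel.IsStrictHenselization.isSepClosure
  haveI : IsSepClosed (ResidueField Csh) := hsc.sep_closed
  haveI : Algebra.IsSeparable (ResidueField (AdicCompletion (maximalIdeal A) A))
    (ResidueField Csh) := hsc.separable
  haveI : IsLocalHom (algebraMap A Csh) := by
    show IsLocalHom ((algebraMap (AdicCompletion (maximalIdeal A) A) Csh).comp
      (algebraMap A (AdicCompletion (maximalIdeal A) A)))
    exact RingHom.isLocalHom_comp _ _
  haveI : IsScalarTower (ResidueField A) (ResidueField (AdicCompletion (maximalIdeal A) A))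
      (ResidueField Csh) := IsScalarTower.of_algebraMap_eq (fun x => by
    obtain ⟨a, rfl⟩ := residue_surjective x
    rfl)
  haveI : Algebra.IsIntegral (ResidueField A)
      (ResidueField (AdicCompletion (maximalIdeal A) A)) := by
    apply Algebra.isIntegral_of_surjective
    intro x
    obtain ⟨c, rfl⟩ := residue_surjective x
    obtain ⟨a, ha⟩ := hres A c
    refine ⟨residue A a, ?_⟩
    symm
    show residue _ c = residue _ (algebraMap A _ a)
    rw [← sub_eq_zero, ← map_sub, residue_eq_zero_iff]
    exact ha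
  haveI : Algebra.IsIntegral (ResidueField (AdicCompletion (maximalIdeal A) A))
      (ResidueField Csh) := inferInstance
  haveI : Algebra.IsIntegral (ResidueField A) (ResidueField Csh) :=
    Algebra.IsIntegral.trans (ResidueField (AdicCompletion (maximalIdeal A) A))
  haveI : Algebra.IsAlgebraic (ResidueField A) (ResidueField Csh) := inferInstance
  -- the map ι : Csh → Ω
  let Ω := AlgebraicClosure (ResidueField A)
  let j : ResidueField Csh →ₐ[ResidueField A] Ω := IsAlgClosed.lift
  let ι : Csh →+* Ω := j.toRingHom.comp (residue Csh)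
  have hι : RingHom.ker ι = maximalIdeal Csh := by
    ext s
    rw [RingHom.mem_ker, ← IsLocalRing.residue_eq_zero_iff]
    show j (residue Csh s) = 0 ↔ _
    exact map_eq_zero_iff _ j.injective
  have hιA : ι.comp (algebraMap A Csh) = Brnch.toClosure A := by
    ext a
    show j (residue Csh (algebraMap A Csh a)) = _
    have : residue Csh (algebraMap A Csh a) =
        algebraMap (ResidueField A) (ResidueField Csh) (residue A a) := rfl
    rw [this, j.commutes]
    rfl
  -- step 1: minimal primes of Csh vs. of T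
  have e1 : ENat.card (minimalPrimes Csh) =
      ENat.card (minimalPrimes ((CAlg2.normRed A) ⊗[A] Csh)) :=
    (ENat.card_congr (Set.BijOn.equiv _ (MinLoc.bijOn_minimalPrimes_normRed_tensor A Csh))).symm
  -- step 2: minimal primes of T vs. maximal ideals of T
  have h1 : ∀ q ∈ minimalPrimes ((CAlg2.normRed A) ⊗[A] Csh),
      ∃! m : Ideal ((CAlg2.normRed A) ⊗[A] Csh), m.IsMaximal ∧ q ≤ m := by
    intro q hq
    haveI : q.IsPrime := hq.1.1
    exact Branch.existsUnique_maximal_ge _ TensorLocal.includeRight_isIntegral q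
  have h2 : ∀ m : Ideal ((CAlg2.normRed A) ⊗[A] Csh), m.IsMaximal →
      ∃! q : Ideal ((CAlg2.normRed A) ⊗[A] Csh),
        q ∈ minimalPrimes ((CAlg2.normRed A) ⊗[A] Csh) ∧ q ≤ m := by
    intro m hm
    haveI : m.IsPrime := hm.isPrime
    letI : Algebra ((CAlg2.normRed A) ⊗[A] AdicCompletion (maximalIdeal A) A)
        ((CAlg2.normRed A) ⊗[A] Csh) := (Algebra.TensorProduct.map (AlgHom.id A (CAlg2.normRed A))
      (IsScalarTower.toAlgHom A (AdicCompletion (maximalIdeal A) A) Csh)).toRingHom.toAlgebra
    have hind : EtPBC.IsIndEtale ((CAlg2.normRed A) ⊗[A] AdicCompletion (maximalIdeal A) A)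
        ((CAlg2.normRed A) ⊗[A] Csh) :=
      isIndEtale_map A (CAlg2.normRed A) (AdicCompletion (maximalIdeal A) A) Csh
        (IndEt.isIndEtale_of_isStrictHenselization (AdicCompletion (maximalIdeal A) A) Csh)
    have hL : @Branch.LDP ((CAlg2.normRed A) ⊗[A] Csh) _ m :=
      Branch.ldp_of_isIndEtale ((CAlg2.normRed A) ⊗[A] AdicCompletion (maximalIdeal A) A)
        (isNormalRing_tensor A hA) _ hind m
    exact @Branch.existsUnique_minimalPrimes_le_of_ldp ((CAlg2.normRed A) ⊗[A] Csh) _ m _ hL
  obtain ⟨e2⟩ := Branch.nonempty_equiv_minimalPrimes_maximalSpectrum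
    (T := (CAlg2.normRed A) ⊗[A] Csh) h1 h2
  -- step 3: maximal ideals of T vs. points
  obtain ⟨e3⟩ := Branch.nonempty_equiv_pts_maximalSpectrum (A := A) (B := CAlg2.normRed A)
    (S := Csh) ι hι
  obtain ⟨e4⟩ := Branch.nonempty_equiv_pts_pts (A := A) (B := CAlg2.normRed A) (S := Csh) ι
  rw [e1, ENat.card_congr e2, ← ENat.card_congr e3, ENat.card_congr e4]
  apply ENat.card_congr
  have hcan : algebraMap A (CAlg2.normRed A) = Groth.Agent.Lib.Helper4.Unibranch.canNorm A := rfl
  rw [hιA, hcan]

end Groth.Agent.Lib.T2H1.BranchCpl
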