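import Mathlib
import Groth.Prelude.Def_Brnch
import Groth.Prelude.Def_Hensel
import Groth.Agent.Lib.Helper4BranchCount
import Groth.Agent.Lib.Helper4BranchSum
import Groth.Agent.Lib.Helper4Unibranch
import Groth.Agent.Lib.Helper4Branches
import Groth.Agent.Lib.Helper3Branch
import Groth.Agent.Lib.Helper3ShQuot
import Groth.Agent.Lib.Helper3HzRed
import Groth.Agent.Lib.Helper3HzP
import Groth.Agent.S9237
import Groth.Agent.S9238

/-!
# Purely inseparable residue fields of the normalization and branches (helper1, team 2)

For a reduced local ring `A` with normalization `B` (integral closure in the total ring of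
fractions): the residue fields of `B` are purely inseparable over that of `A` iff the numbers of
branches and of geometric branches agree; and for a henselization `Ah → Ash` mapping to a strict
henselization, this holds iff every minimal prime of `Ash` is extended from `Ah`.
-/

set_option autoImplicit false
universe u
open IsLocalRing

namespace Groth.Agent.Lib.T2H1.BranchPI

open Groth.Agent.Lib.Helper4.Unibranch Groth.Agent.Lib.Helper4.Branches

attribute [local instance] fieldQuotMax

section Pts

variable (R : Type u) [CommRing R] [IsLocalRing R] (S : Type u) [CommRing S] [Algebra R S]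
  [Algebra.IsIntegral R S]

/-- Points of `S` with values in the algebraic closure of the residue field of `R`. -/
def Pts : Type u :=
  {τ : S →+* AlgebraicClosure (ResidueField R) // τ.comp (algebraMap R S) = Brnch.toClosure R}

theorem ker_isMaximal (τ : Pts R S) : (RingHom.ker τ.1).IsMaximal := by
  haveI : (RingHom.ker τ.1).IsPrime := RingHom.ker_isPrime τ.1
  apply Ideal.isMaximal_of_isIntegral_of_isMaximal_comap (R := R)
  rw [RingHom.comap_ker, τ.2, ker_toClosure]
  exact maximalIdeal.isMaximal R

/-- The kernel of a point, as a maximal ideal. -/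
noncomputable def kerMax (τ : Pts R S) : MaximalSpectrum S := ⟨RingHom.ker τ.1, ker_isMaximal R S τ⟩

theorem kerMax_surjective : Function.Surjective (kerMax R S) := by
  intro M
  haveI := M.isMaximal
  obtain ⟨τ, hτ, hk⟩ := exists_ringHom_ker_eq (R := R) M.asIdeal
  exact ⟨⟨τ, hτ⟩, MaximalSpectrum.ext hk⟩

theorem kerMax_injective_of_powMem (hP : PowMem (algebraMap R S)) :
    Function.Injective (kerMax R S) := by
  rintro ⟨τ₁, h₁⟩ ⟨τ₂, h₂⟩ h
  have hk : RingHom.ker τ₁ = RingHom.ker τ₂ := congrArg MaximalSpectrum.asIdeal h
  haveI hM : (RingHom.ker τ₁).IsMaximal := ker_isMaximal R S ⟨τ₁, h₁⟩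
  letI : Field (S ⧸ RingHom.ker τ₁) := Ideal.Quotient.field _
  let q := ringExpChar (S ⧸ RingHom.ker τ₁)
  let ι : S ⧸ RingHom.ker τ₁ →+* AlgebraicClosure (ResidueField R) :=
    Ideal.Quotient.lift _ τ₁ (fun a ha => ha)
  haveI : ExpChar (AlgebraicClosure (ResidueField R)) q :=
    expChar_of_injective_ringHom ι.injective q
  apply Subtype.ext
  ext c
  obtain ⟨n, b, hb⟩ := hP (RingHom.ker τ₁) (Ideal.Quotient.mk _ c)
  rw [RingHom.comp_apply, ← map_pow, Ideal.Quotient.eq] at hb
  have hb' : algebraMap R S b - c ^ q ^ n ∈ RingHom.ker τ₁ := hb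
  have e₁ : τ₁ (algebraMap R S b) = τ₁ c ^ q ^ n := by
    rw [RingHom.mem_ker, map_sub, map_pow, sub_eq_zero] at hb'
    exact hb'
  have e₂ : τ₂ (algebraMap R S b) = τ₂ c ^ q ^ n := by
    have m₂ : algebraMap R S b - c ^ q ^ n ∈ RingHom.ker τ₂ := hk ▸ hb'
    rw [RingHom.mem_ker, map_sub, map_pow, sub_eq_zero] at m₂
    exact m₂
  have e₃ : τ₁ (algebraMap R S b) = τ₂ (algebraMap R S b) := by
    have := h₁.trans h₂.symm
    exact congrArg (fun f : R →+* _ => f b) this
  apply iterateFrobenius_inj (AlgebraicClosure (ResidueField R)) q n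
  rw [iterateFrobenius_def, iterateFrobenius_def, ← e₁, ← e₂, e₃]

theorem powMem_of_kerMax_injective (H : Function.Injective (kerMax R S)) :
    PowMem (algebraMap R S) := by
  intro M hM x
  haveI := liesOver_of_isMaximal (R := R) M
  letI : Field (S ⧸ M) := Ideal.Quotient.field _
  haveI : IsPurelyInseparable (R ⧸ maximalIdeal R) (S ⧸ M) := by
    rw [isPurelyInseparable_iff_subsingleton_emb]
    refine (Field.embEquivOfIsAlgClosed (R ⧸ maximalIdeal R) (S ⧸ M)
      (AlgebraicClosure (R ⧸ maximalIdeal R))).subsingleton_congr.mpr ?_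
    refine ⟨fun σ₁ σ₂ => ?_⟩
    have hσ : ∀ σ : (S ⧸ M) →ₐ[R ⧸ maximalIdeal R] AlgebraicClosure (R ⧸ maximalIdeal R),
        (σ.toRingHom.comp (Ideal.Quotient.mk M)).comp (algebraMap R S) = toAlgClosure R := by
      intro σ
      ext b
      simp only [RingHom.comp_apply, toAlgClosure]
      rw [← Ideal.Quotient.algebraMap_mk_of_liesOver M (maximalIdeal R)]
      exact σ.commutes _
    have hker : ∀ σ : (S ⧸ M) →ₐ[R ⧸ maximalIdeal R] AlgebraicClosure (R ⧸ maximalIdeal R),
        RingHom.ker (σ.toRingHom.comp (Ideal.Quotient.mk M)) = M := by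
      intro σ
      ext c
      rw [RingHom.mem_ker, RingHom.comp_apply, map_eq_zero_iff _ σ.toRingHom.injective,
        Ideal.Quotient.eq_zero_iff_mem]
    have h12 : (⟨σ₁.toRingHom.comp (Ideal.Quotient.mk M), hσ σ₁⟩ : Pts R S) =
        ⟨σ₂.toRingHom.comp (Ideal.Quotient.mk M), hσ σ₂⟩ := by
      apply H
      apply MaximalSpectrum.ext
      exact (hker σ₁).trans (hker σ₂).symm
    have := congrArg Subtype.val h12
    apply AlgHom.ext
    intro y
    obtain ⟨c, rfl⟩ := Ideal.Quotient.mk_surjective y
    exact congrArg (fun f : S →+* _ => f c) this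
  let q := ringExpChar (R ⧸ maximalIdeal R)
  haveI : ExpChar (S ⧸ M) q :=
    expChar_of_injective_ringHom (algebraMap (R ⧸ maximalIdeal R) (S ⧸ M)).injective q
  have hq : ringExpChar (S ⧸ M) = q := ringExpChar.eq _ q
  obtain ⟨n, y, hy⟩ := IsPurelyInseparable.pow_mem (R ⧸ maximalIdeal R) q x
  obtain ⟨b, rfl⟩ := Ideal.Quotient.mk_surjective y
  refine ⟨n, b, ?_⟩
  rw [hq, ← hy, RingHom.comp_apply, Ideal.Quotient.algebraMap_mk_of_liesOver M (maximalIdeal R)]

theorem powMem_iff_kerMax_injective :
    PowMem (algebraMap R S) ↔ Function.Injective (kerMax R S) :=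
  ⟨kerMax_injective_of_powMem R S, powMem_of_kerMax_injective R S⟩

end Pts

section Transport

open Groth.Agent.Lib.Helper4.BranchSum

variable (A : Type u) [CommRing A] [IsLocalRing A] [IsReduced A]

/-- A reduced ring is its own reduction. -/
noncomputable def redEquiv : A ≃+* CAlg2.red A :=
  (RingEquiv.quotientBot A).symm.trans (Ideal.quotEquivOfEq (nilradical_eq_zero A).symm)

theorem redEquiv_apply (a : A) : redEquiv A a = Ideal.Quotient.mk _ a := rfl

/-- For a reduced ring, `normRed` is the integral closure in the total ring of fractions. -/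
noncomputable def normEquiv : CAlg2.normRed A ≃+* integralClosure A (FractionRing A) :=
  normalizationEquiv (redEquiv A).symm

theorem normEquiv_canNorm (a : A) :
    normEquiv A (canNorm A a) = algebraMap A (integralClosure A (FractionRing A)) a := by
  unfold normEquiv canNorm
  rw [RingHom.comp_apply, normalizationEquiv_algebraMap, ← redEquiv_apply,
    RingEquiv.symm_apply_apply]

theorem numBranches_eq_card (hfin : (minimalPrimes A).Finite) :
    Brnch.numBranches A = ENat.card (MaximalSpectrum (integralClosure A (FractionRing A))) := by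
  unfold Brnch.numBranches
  rw [if_pos hfin]
  apply ENat.card_congr
  let e := normEquiv A
  exact
    { toFun := fun M => ⟨M.asIdeal.comap (e.symm : _ →+* CAlg2.normRed A),
        haveI := M.isMaximal
        Ideal.comap_isMaximal_of_surjective _ e.symm.surjective⟩
      invFun := fun M => ⟨M.asIdeal.comap (e : CAlg2.normRed A →+* _),
        haveI := M.isMaximal
        Ideal.comap_isMaximal_of_surjective _ e.surjective⟩
      left_inv := fun M => by
        apply MaximalSpectrum.ext
        ext x
        change e.symm (e x) ∈ M.asIdeal ↔ _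
        rw [RingEquiv.symm_apply_apply]
      right_inv := fun M => by
        apply MaximalSpectrum.ext
        ext x
        change e (e.symm x) ∈ M.asIdeal ↔ _
        rw [RingEquiv.apply_symm_apply] }

theorem numGeomBranches_eq_card (hfin : (minimalPrimes A).Finite) :
    Brnch.numGeomBranches A = ENat.card (Pts A (integralClosure A (FractionRing A))) := by
  rw [numGeomBranches_eq_card_pts A hfin]
  apply ENat.card_congr
  let e := normEquiv A
  have he : ∀ a, e (canNorm A a) = algebraMap A _ a := normEquiv_canNorm A
  exact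
    { toFun := fun τ => ⟨τ.1.comp (e.symm : _ →+* CAlg2.normRed A), by
        have h2 := τ.2
        ext a
        have h3 := congrArg (fun f : A →+* _ => f a) h2
        simp only [RingHom.comp_apply, RingHom.coe_coe] at h3 ⊢
        rw [← he a, RingEquiv.symm_apply_apply]
        exact h3⟩
      invFun := fun τ => ⟨τ.1.comp (e : CAlg2.normRed A →+* _), by
        have h2 := τ.2
        ext a
        have h3 := congrArg (fun f : A →+* _ => f a) h2
        simp only [RingHom.comp_apply, RingHom.coe_coe] at h3 ⊢
        rw [he a]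
        exact h3⟩
      left_inv := fun τ => by
        apply Subtype.ext
        ext x
        simp
      right_inv := fun τ => by
        apply Subtype.ext
        ext x
        simp }

end Transport

section Equiv

variable (A : Type u) [CommRing A] [IsLocalRing A] [IsReduced A]

/-- The residue fields of the normalization are purely inseparable over that of `A` iff the
numbers of geometric branches and of branches agree (when the latter is finite). -/
theorem powMem_iff_numGeomBranches_eq (hfin : (minimalPrimes A).Finite)
    (hne : Brnch.numBranches A ≠ ⊤) :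
    PowMem (algebraMap A (integralClosure A (FractionRing A))) ↔
      Brnch.numGeomBranches A = Brnch.numBranches A := by
  classical
  rw [numBranches_eq_card A hfin] at hne
  rw [numGeomBranches_eq_card A hfin, numBranches_eq_card A hfin, powMem_iff_kerMax_injective]
  constructor
  · intro hinj
    exact ENat.card_congr (Equiv.ofBijective _ ⟨hinj, kerMax_surjective A _⟩)
  · intro hcard
    haveI hfM : Finite (MaximalSpectrum (integralClosure A (FractionRing A))) :=
      ENat.card_lt_top.mp (lt_top_iff_ne_top.mpr hne)
    haveI hfP : Finite (Pts A (integralClosure A (FractionRing A))) :=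
      ENat.card_lt_top.mp (lt_top_iff_ne_top.mpr (hcard ▸ hne))
    letI := Fintype.ofFinite (MaximalSpectrum (integralClosure A (FractionRing A)))
    letI := Fintype.ofFinite (Pts A (integralClosure A (FractionRing A)))
    rw [ENat.card_eq_coe_fintype_card, ENat.card_eq_coe_fintype_card, Nat.cast_inj] at hcard
    refine ((kerMax_surjective A _).bijective_of_nat_card_le ?_).1
    rw [Nat.card_eq_fintype_card, Nat.card_eq_fintype_card, hcard]

end Equiv

section Tower

open Groth.Agent.Lib.Helper3

variable (A Ah Ash : Type u) [CommRing A] [IsLocalRing A]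
  [CommRing Ah] [IsLocalRing Ah] [Algebra A Ah] [IsLocalHom (algebraMap A Ah)]
  [Hensel.IsHenselization A Ah]
  [CommRing Ash] [IsLocalRing Ash] [Algebra A Ash] [IsLocalHom (algebraMap A Ash)]
  [Hensel.IsStrictHenselization A Ash]
  [Algebra Ah Ash] [IsScalarTower A Ah Ash]

include A in
/-- The map from a henselization to a strict henselization is local. -/
theorem isLocalHom_tower : IsLocalHom (algebraMap Ah Ash) := by
  constructor
  intro x hx
  by_contra hnx
  have h1 : x ∈ maximalIdeal Ah := hnx
  rw [← HzP.hz_map_maximalIdeal A Ah] at h1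
  have h2 : algebraMap Ah Ash x ∈ ((maximalIdeal A).map (algebraMap A Ah)).map
      (algebraMap Ah Ash) := Ideal.mem_map_of_mem _ h1
  rw [Ideal.map_map, ← IsScalarTower.algebraMap_eq A Ah Ash, HzP.sh_map_maximalIdeal A Ash] at h2
  exact h2 hx

include A in
/-- A strict henselization of `A` is a strict henselization of a henselization of `A`. -/
theorem isStrictHenselization_tower [IsLocalHom (algebraMap Ah Ash)] :
    Hensel.IsStrictHenselization Ah Ash := by
  haveI hsc : IsSepClosure (ResidueField A) (ResidueField Ash) :=
    Hensel.IsStrictHenselization.isSepClosure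
  haveI := hsc.sep_closed
  haveI : Algebra.IsSeparable (ResidueField A) (ResidueField Ash) := hsc.separable
  refine ⟨Hensel.IsStrictHenselization.henselian A, ⟨inferInstance,
    Algebra.isSeparable_tower_top_of_isSeparable (ResidueField A) (ResidueField Ah)
      (ResidueField Ash)⟩, ?_⟩
  intro T _ _ f _ τ hτ
  let f₀ : A →+* T := f.comp (algebraMap A Ah)
  haveI : IsLocalHom f₀ := RingHom.isLocalHom_comp f (algebraMap A Ah)
  have hτ₀ : τ.comp (ResidueField.map (algebraMap A Ash)) = ResidueField.map f₀ := by
    have h1 : algebraMap A Ash = (algebraMap Ah Ash).comp (algebraMap A Ah) :=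
      IsScalarTower.algebraMap_eq A Ah Ash
    ext x
    obtain ⟨a, rfl⟩ := residue_surjective x
    have h2 := congrArg (fun g : ResidueField Ah →+* ResidueField T =>
      g (residue Ah (algebraMap A Ah a))) hτ
    simp only [RingHom.comp_apply, ResidueField.map_residue] at h2 ⊢
    rw [IsScalarTower.algebraMap_apply A Ah Ash]
    exact h2
  obtain ⟨g, ⟨hg1, hg2⟩, huniq⟩ :=
    Hensel.IsStrictHenselization.universal (R := A) (S := Ash) T f₀ τ hτ₀
  obtain ⟨g', -, huniq'⟩ := Hensel.IsHenselization.universal (R := A) (S := Ah) T f₀ inferInstance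
  have hgf : g.comp (algebraMap Ah Ash) = f := by
    have e1 : g.comp (algebraMap Ah Ash) = g' := by
      apply huniq'
      rw [RingHom.comp_assoc, ← IsScalarTower.algebraMap_eq A Ah Ash, hg1]
    have e2 : f = g' := huniq' f rfl
    rw [e1, e2]
  refine ⟨g, ⟨hgf, hg2⟩, ?_⟩
  rintro g₂ ⟨hg₂1, hg₂2⟩
  apply huniq
  refine ⟨?_, hg₂2⟩
  rw [IsScalarTower.algebraMap_eq A Ah Ash, ← RingHom.comp_assoc, hg₂1]

end Tower

section Contraction

open Groth.Agent.Lib.Helper3

variable (S T : Type u) [CommRing S] [IsLocalRing S] [CommRing T] [IsLocalRing T] [Algebra S T]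
  [IsLocalHom (algebraMap S T)] [Hensel.IsStrictHenselization S T]

/-- The extension of a prime ideal to a strict henselization is a radical ideal. -/
theorem map_isRadical_of_isPrime (q : Ideal S) [hq : q.IsPrime] :
    (q.map (algebraMap S T)).IsRadical := by
  have hqm : q ≤ maximalIdeal S := le_maximalIdeal hq.ne_top
  have hqT : q.map (algebraMap S T) ≤ maximalIdeal T := by
    rw [Ideal.map_le_iff_le_comap]
    intro x hx
    have h1 : x ∈ maximalIdeal S := hqm hx
    rw [Ideal.mem_comap, mem_maximalIdeal, mem_nonunits_iff]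
    intro hu
    exact ((mem_maximalIdeal _).mp h1) (isUnit_of_map_unit (algebraMap S T) x hu)
  haveI : Nontrivial (S ⧸ q) := Ideal.Quotient.nontrivial_iff.mpr hq.ne_top
  haveI : IsLocalRing (S ⧸ q) :=
    IsLocalRing.of_surjective' (Ideal.Quotient.mk q) Ideal.Quotient.mk_surjective
  haveI : Nontrivial (T ⧸ q.map (algebraMap S T)) :=
    Ideal.Quotient.nontrivial_iff.mpr (fun h => by
      have := (maximalIdeal.isMaximal T).ne_top
      exact this (top_le_iff.mp (h ▸ hqT)))
  haveI : IsLocalRing (T ⧸ q.map (algebraMap S T)) :=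
    IsLocalRing.of_surjective' (Ideal.Quotient.mk _) Ideal.Quotient.mk_surjective
  haveI : IsLocalHom (algebraMap (S ⧸ q) (T ⧸ q.map (algebraMap S T))) := by
    refine ⟨fun a ha => ?_⟩
    obtain ⟨a, rfl⟩ := Ideal.Quotient.mk_surjective a
    by_contra hcon
    have ha' : a ∈ maximalIdeal S := by
      rw [mem_maximalIdeal, mem_nonunits_iff]
      intro hu
      exact hcon (hu.map _)
    have h2 : algebraMap S T a ∈ maximalIdeal T := by
      rw [mem_maximalIdeal, mem_nonunits_iff]
      intro hu
      exact ((mem_maximalIdeal _).mp ha') (isUnit_of_map_unit (algebraMap S T) a hu)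
    have h3 : Ideal.Quotient.mk (q.map (algebraMap S T)) (algebraMap S T a) ∈
        maximalIdeal (T ⧸ q.map (algebraMap S T)) := by
      rw [mem_maximalIdeal, mem_nonunits_iff]
      intro hu
      obtain ⟨c, hc⟩ := hu.exists_right_inv
      obtain ⟨c, rfl⟩ := Ideal.Quotient.mk_surjective c
      rw [← map_mul, ← map_one (Ideal.Quotient.mk _), Ideal.Quotient.eq] at hc
      have h4 : algebraMap S T a * c - 1 ∈ maximalIdeal T := hqT hc
      have h5 : (1 : T) ∈ maximalIdeal T := by
        have := Ideal.sub_mem _ (Ideal.mul_mem_right c _ h2) h4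
        simpa using this
      exact (maximalIdeal.isMaximal T).ne_top ((Ideal.eq_top_iff_one _).mpr h5)
    exact ((mem_maximalIdeal _).mp h3) ha
  haveI : Hensel.IsStrictHenselization (S ⧸ q) (T ⧸ q.map (algebraMap S T)) :=
    ShQuot.isStrictHenselization_quotient q
  haveI : IsDomain (S ⧸ q) := Ideal.Quotient.isDomain q
  haveI : IsReduced (T ⧸ q.map (algebraMap S T)) :=
    (HzP.sh_isReduced_iff (S ⧸ q) (T ⧸ q.map (algebraMap S T))).mp inferInstance
  exact (Ideal.isRadical_iff_quotient_reduced _).mpr inferInstance

/-- Every minimal prime of a strict henselization `T` of `S` is extended from `S` iff `S` and `T`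
have the same number of minimal primes. -/
theorem forall_eq_map_comap_iff (hfin : (minimalPrimes T).Finite) :
    (∀ Q ∈ minimalPrimes T, Q = (Q.comap (algebraMap S T)).map (algebraMap S T)) ↔
      ENat.card (minimalPrimes S) = ENat.card (minimalPrimes T) := by
  haveI : Module.FaithfullyFlat S T := HzP.sh_faithfullyFlat S T
  rw [Branch.card_minimalPrimes_eq_iff S T hfin]
  constructor
  · intro h q hq
    haveI : q.IsPrime := hq.1.1
    obtain ⟨Q, hQ, hQq⟩ := Branch.exists_minimalPrimes_comap_eq (S := T) q hq
    have h1 := h Q hQ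
    rw [hQq] at h1
    rw [(map_isRadical_of_isPrime S T q).radical, ← h1]
    exact hQ.1.1
  · intro h Q hQ
    have hq := Branch.mapsTo_comap_minimalPrimes_of_flat S T hQ
    haveI : (Q.comap (algebraMap S T)).IsPrime := hq.1.1
    have h1 := h _ hq
    rw [(map_isRadical_of_isPrime S T _).radical] at h1
    exact le_antisymm (hQ.2 ⟨h1, bot_le⟩ Ideal.map_comap_le) Ideal.map_comap_le

end Contraction

section Main

open Groth.Agent.Lib.Helper3

/-- For a reduced Noetherian local ring `A` with henselization `Ah` mapping to a strict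
henselization `Ash`: the residue fields of the normalization of `A` are purely inseparable over
that of `A` iff every minimal prime of `Ash` is generated by its contraction to `Ah`. -/
theorem main (A Ah Ash : Type u) [CommRing A] [IsLocalRing A] [IsReduced A] [IsNoetherianRing A]
    [CommRing Ah] [IsLocalRing Ah] [Algebra A Ah] [IsLocalHom (algebraMap A Ah)]
    [Hensel.IsHenselization A Ah]
    [CommRing Ash] [IsLocalRing Ash] [Algebra A Ash] [IsLocalHom (algebraMap A Ash)]
    [Hensel.IsStrictHenselization A Ash] [Algebra Ah Ash] [IsScalarTower A Ah Ash] :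
    PowMem (algebraMap A (integralClosure A (FractionRing A))) ↔
      (∀ Q ∈ minimalPrimes Ash,
        Q = Ideal.map (algebraMap Ah Ash) (Q.comap (algebraMap Ah Ash))) := by
  haveI := isLocalHom_tower A Ah Ash
  haveI := isStrictHenselization_tower A Ah Ash
  haveI : IsNoetherianRing Ash := HzP.sh_isNoetherianRing A Ash
  haveI : IsNoetherianRing Ah := HzP.hz_isNoetherianRing A Ah
  have hfinT : (minimalPrimes Ash).Finite := minimalPrimes.finite_of_isNoetherianRing Ash
  have hfinH : (minimalPrimes Ah).Finite := minimalPrimes.finite_of_isNoetherianRing Ah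
  have hfinA : (minimalPrimes A).Finite := minimalPrimes.finite_of_isNoetherianRing A
  have hne : Brnch.numBranches A ≠ ⊤ := by
    rw [← Groth.Agent.S9237.result A Ah]
    haveI : Finite (minimalPrimes Ah) := hfinH.to_subtype
    exact (ENat.card_lt_top.mpr inferInstance).ne
  rw [forall_eq_map_comap_iff Ah Ash hfinT, Groth.Agent.S9237.result A Ah,
    Groth.Agent.S9238.result A Ash, powMem_iff_numGeomBranches_eq A hfinA hne, eq_comm]

end Main

end Groth.Agent.Lib.T2H1.BranchPI
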