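import Mathlib
import Groth.Agent.Lib.Helper12LocPNbhd
import Groth.Agent.Lib.Helper3FibDimEt
import Groth.Agent.Lib.Helper3LocDimBC
import Groth.Prelude.Def_AlgSpDec
import Groth.Prelude.Def_AlgSpMor5

/-!
# Pointwise properties of morphisms of algebraic spaces read on chart diagrams (helper1, team 2)

Common etale refinement of two chart diagrams through a point, and independence of the chart
for predicates invariant under etale squares (e.g. the local fibre dimension).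
-/

set_option autoImplicit false
universe u
open CategoryTheory CategoryTheory.Limits AlgebraicGeometry
open AlgSp

namespace Groth.Agent.Lib.T2H1.HasAt

variable {S : Scheme.{u}}

/-- common etale refinement of two chart diagrams through the same point. -/
lemma exists_refinement {X Y : AlgSp.Sp S} (f : X ⟶ Y)
    {U V : Over S} (a : (AlgSp.yon S).obj U ⟶ X) (b : (AlgSp.yon S).obj V ⟶ Y) (h : U ⟶ V)
    (ha : AlgSp.RepWith @Etale a) (hb : AlgSp.RepWith @Etale b)
    (hc : a ≫ f = (AlgSp.yon S).map h ≫ b) (u : ↥U.left)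
    {U1 V1 : Over S} (a1 : (AlgSp.yon S).obj U1 ⟶ X) (b1 : (AlgSp.yon S).obj V1 ⟶ Y) (h1 : U1 ⟶ V1)
    (ha1 : AlgSp.RepWith @Etale a1) (hb1 : AlgSp.RepWith @Etale b1)
    (hc1 : a1 ≫ f = (AlgSp.yon S).map h1 ≫ b1)
    (u1 : ↥U1.left) (e : AlgSp.Points.ofPt a u = AlgSp.Points.ofPt a1 u1) :
    ∃ (U2 V2 : Over S) (p : U2 ⟶ U) (p1 : U2 ⟶ U1) (q : V2 ⟶ V) (q1 : V2 ⟶ V1) (m : U2 ⟶ V2)
      (y : ↥U2.left), Etale p.left ∧ Etale p1.left ∧ Etale q.left ∧ Etale q1.left ∧
        m ≫ q = p ≫ h ∧ m ≫ q1 = p1 ≫ h1 ∧ p.left y = u ∧ p1.left y = u1 := by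
  obtain ⟨U2, pr1, pr2', sqU⟩ := ha.1 a1
  obtain ⟨pr2, rfl⟩ := (AlgSp.yon S).map_surjective pr2'
  haveI : Etale pr1.left := ha.2 _ _ pr1 sqU
  haveI : Etale pr2.left := ha1.2 _ _ pr2 sqU.flip
  obtain ⟨y, hy1, hy2⟩ := Groth.Agent.S10176.exists_point_of_isPullback_yon sqU u u1 e
  obtain ⟨V2, q1, q', sqV⟩ := hb.1 b1
  obtain ⟨q, rfl⟩ := (AlgSp.yon S).map_surjective q'
  haveI : Etale q1.left := hb.2 _ _ q1 sqV
  haveI : Etale q.left := hb1.2 _ _ q sqV.flip
  have hcomp : (AlgSp.yon S).map (pr2 ≫ h) ≫ b = (AlgSp.yon S).map (pr1 ≫ h1) ≫ b1 := by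
    rw [Functor.map_comp, Category.assoc, ← hc, ← Category.assoc, sqU.w, Category.assoc,
      hc1, Functor.map_comp, Category.assoc]
  obtain ⟨m', hm1, hm2⟩ := sqV.exists_lift _ _ hcomp
  obtain ⟨m, rfl⟩ := (AlgSp.yon S).map_surjective m'
  have hm1' : m ≫ q = pr2 ≫ h :=
    (AlgSp.yon S).map_injective (by rw [Functor.map_comp]; exact hm1)
  have hm2' : m ≫ q1 = pr1 ≫ h1 :=
    (AlgSp.yon S).map_injective (by rw [Functor.map_comp]; exact hm2)
  exact ⟨U2, V2, pr2, pr1, q, q1, m, y, inferInstance, inferInstance, inferInstance, inferInstance,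
    hm1', hm2', hy1, hy2⟩

/-- a pointwise predicate on morphisms of schemes invariant under etale squares. -/
def EtInv (Q : ∀ (U V : Scheme.{u}), (U ⟶ V) → ↥U → Prop) : Prop :=
  ∀ ⦃U U' V V' : Scheme.{u}⦄ (h : U ⟶ V) (h' : U' ⟶ V') (a : U' ⟶ U) (b : V' ⟶ V),
    Etale a → Etale b → h' ≫ b = a ≫ h → ∀ u' : ↥U', (Q U V h (a u') ↔ Q U' V' h' u')

/-- **independence of the chart**: a predicate invariant under etale squares which holds in one
chart diagram through a point holds in every chart diagram through that point. -/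
theorem of_hasAtMor {Q : ∀ (U V : Scheme.{u}), (U ⟶ V) → ↥U → Prop} (hQ : EtInv Q)
    {X Y : AlgSp.Sp S} (f : X ⟶ Y) (x : AlgSp.Points X) (H : AlgSp.HasAtMor Q f x)
    {U V : Over S} (a : (AlgSp.yon S).obj U ⟶ X) (b : (AlgSp.yon S).obj V ⟶ Y) (h : U ⟶ V)
    (ha : AlgSp.RepWith @Etale a) (hb : AlgSp.RepWith @Etale b)
    (hc : a ≫ f = (AlgSp.yon S).map h ≫ b) (u : ↥U.left) (hu : AlgSp.Points.ofPt a u = x) :
    Q U.left V.left h.left u := by
  obtain ⟨U1, V1, a1, b1, h1, u1, ha1, hb1, hc1, hu1, hQ1⟩ := H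
  obtain ⟨U2, V2, p, p1, q, q1, m, y, hp, hp1, hq, hq1, hm, hm1, hy, hy1⟩ :=
    exists_refinement f a b h ha hb hc u a1 b1 h1 ha1 hb1 hc1 u1 (hu.trans hu1.symm)
  have e1 := hQ h.left m.left p.left q.left hp hq
    (by rw [← Over.comp_left, hm, Over.comp_left]) y
  have e2 := hQ h1.left m.left p1.left q1.left hp1 hq1
    (by rw [← Over.comp_left, hm1, Over.comp_left]) y
  rw [hy] at e1
  rw [hy1] at e2
  exact e1.2 (e2.1 hQ1)

/-- `HasAtMor` and `LocPAt` agree for predicates invariant under etale squares. -/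
theorem hasAtMor_iff_locPAt {Q : ∀ (U V : Scheme.{u}), (U ⟶ V) → ↥U → Prop} (hQ : EtInv Q)
    {X Y : AlgSp.Sp S} (hX : AlgSp.IsAlgSpace X) (hY : AlgSp.IsAlgSpace Y) (f : X ⟶ Y)
    (x : AlgSp.Points X) :
    AlgSp.HasAtMor Q f x ↔ AlgSp.LocPAt (fun {U V} h u => Q U V h u) f x := by
  constructor
  · intro H U V a b h u ha hb hc hu
    exact of_hasAtMor hQ f x H a b h ha hb hc u hu
  · intro H
    obtain ⟨U, V, a, b, h, u, ha, hb, hc, hu⟩ :=
      Groth.Agent.Lib.Helper12.LocPNbhd.exists_chart hX hY f x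
    exact ⟨U, V, a, b, h, u, ha, hb, hc, hu, H a b h u ha hb hc hu⟩

/-- a relation on the local fibre dimension is invariant under etale squares. -/
theorem etInv_fibreDim (R : WithBot ℕ∞ → Prop) :
    EtInv (fun _ _ h u => R (FlatMor.fibreDimAt h u)) := by
  intro U U' V V' h h' a b ha hb comm u'
  haveI := ha
  haveI := hb
  show R (FlatMor.fibreDimAt h (a u')) ↔ R (FlatMor.fibreDimAt h' u')
  rw [Groth.Agent.Lib.Helper3.FibDimEt.fibreDimAt_eq_of_etale_square h h' a b comm u']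

end Groth.Agent.Lib.T2H1.HasAt
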