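import Mathlib
import Groth.Agent.Lib.T2H1HasAt
import Groth.Agent.S9874
import Groth.Agent.S10175

/-!
# Base change of a chart diagram through a point (helper1, team 2)
-/

set_option autoImplicit false
universe u
open CategoryTheory CategoryTheory.Limits AlgebraicGeometry
open AlgSp

namespace Groth.Agent.Lib.T2H1.ChartBC

variable {S : Scheme.{u}}

/-- Given a cartesian square `X' = X ×_Y Y'`, a chart diagram `(U, V, a, b, h)` of `f` and a point
`x'` of `X'` whose image in `X` is hit by `u`, there is a chart diagram `(W, V', aW, b', hW)` of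
`f'` through `x'` with `W = U ×_V V'`. -/
theorem exists_chart_baseChange {X Y Y' X' : AlgSp.Sp S} (hY : AlgSp.IsAlgSpace Y)
    (hY' : AlgSp.IsAlgSpace Y') {f : X ⟶ Y} {g : Y' ⟶ Y} {g' : X' ⟶ X} {f' : X' ⟶ Y'}
    (sq : IsPullback g' f' f g)
    {U V : Over S} (a : (AlgSp.yon S).obj U ⟶ X) (b : (AlgSp.yon S).obj V ⟶ Y) (h : U ⟶ V)
    (ha : AlgSp.RepWith @Etale a) (hb : AlgSp.RepWith @Etale b)
    (hc : a ≫ f = (AlgSp.yon S).map h ≫ b) (u : ↥U.left) (x' : AlgSp.Points X')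
    (hu : AlgSp.Points.ofPt a u = AlgSp.Points.map g' x') :
    ∃ (W V' : Over S) (pr : W ⟶ U) (c : V' ⟶ V) (hW : W ⟶ V')
      (aW : (AlgSp.yon S).obj W ⟶ X') (b' : (AlgSp.yon S).obj V' ⟶ Y') (w : ↥W.left),
      AlgSp.RepWith @Etale aW ∧ AlgSp.RepWith @Etale b' ∧
      aW ≫ f' = (AlgSp.yon S).map hW ≫ b' ∧ aW ≫ g' = (AlgSp.yon S).map pr ≫ a ∧
      b' ≫ g = (AlgSp.yon S).map c ≫ b ∧ IsPullback pr.left hW.left h.left c.left ∧
      AlgSp.Points.ofPt aW w = x' ∧ pr.left w = u := by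
  -- Z₂ = h_V ×_Y Y'
  have sq2 := IsPullback.of_hasPullback b g
  have hZ2 : AlgSp.IsAlgSpace (pullback b g) :=
    Groth.Agent.S9874.isAlgSpace_of_isPullback hY.diag (AlgSp.IsAlgSpace.yon_obj V) hY' sq2
  have hsnd2 : AlgSp.RepWith @Etale (pullback.snd b g) :=
    MorphismProperty.of_isPullback (P := AlgSp.RepWith @Etale) sq2 hb
  -- Z = h_U ×_X X'
  have sqZ := IsPullback.of_hasPullback a g'
  have hsndZ : AlgSp.RepWith @Etale (pullback.snd a g') :=
    MorphismProperty.of_isPullback (P := AlgSp.RepWith @Etale) sqZ ha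
  -- ζ : Z ⟶ Z₂
  have hζw : (pullback.fst a g' ≫ (AlgSp.yon S).map h) ≫ b = (pullback.snd a g' ≫ f') ≫ g := by
    rw [Category.assoc, ← hc, ← Category.assoc, sqZ.w, Category.assoc, sq.w, Category.assoc]
  let ζ : pullback a g' ⟶ pullback b g := pullback.lift _ _ hζw
  have hζ1 : ζ ≫ pullback.fst b g = pullback.fst a g' ≫ (AlgSp.yon S).map h :=
    pullback.lift_fst _ _ _
  have hζ2 : ζ ≫ pullback.snd b g = pullback.snd a g' ≫ f' := pullback.lift_snd _ _ _
  -- Z = h_U ×_{h_V} Z₂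
  have big : IsPullback (pullback.fst a g') (ζ ≫ pullback.snd b g) (a ≫ f) g := by
    rw [hζ2]
    exact sqZ.paste_vert sq
  rw [hc] at big
  have sqL : IsPullback (pullback.fst a g') ζ ((AlgSp.yon S).map h) (pullback.fst b g) :=
    IsPullback.of_bot big hζ1.symm sq2
  -- the point z of Z over (u, x')
  obtain ⟨z, hz1, hz2⟩ := Groth.Agent.S10175.exists_point_of_isPullback sqZ
    (AlgSp.Points.ofScheme U u) x' (by rw [← AlgSp.Points.ofPt_eq_map_ofScheme]; exact hu)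
  -- atlas of Z₂ through the image of z
  obtain ⟨V', c₀, hc₀e, hc₀s⟩ := hZ2.atlas
  obtain ⟨v', hv'⟩ := Groth.Agent.S10177.surjective_ofPt c₀ hc₀s (AlgSp.Points.map ζ z)
  obtain ⟨c, hcc⟩ := (AlgSp.yon S).map_surjective (c₀ ≫ pullback.fst b g)
  -- W = U ×_V V'
  have sqO := IsPullback.of_hasPullback h c
  have sqW := sqO.map (AlgSp.yon S)
  have hωw : (AlgSp.yon S).map (pullback.fst h c) ≫ (AlgSp.yon S).map h =
      ((AlgSp.yon S).map (pullback.snd h c) ≫ c₀) ≫ pullback.fst b g := by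
    rw [Category.assoc, ← hcc]
    exact sqW.w
  obtain ⟨ω, hω1, hω2⟩ := sqL.exists_lift _ _ hωw
  have bigW : IsPullback (ω ≫ pullback.fst a g') ((AlgSp.yon S).map (pullback.snd h c))
      ((AlgSp.yon S).map h) (c₀ ≫ pullback.fst b g) := by
    rw [hω1, ← hcc]
    exact sqW
  have sqω : IsPullback ω ((AlgSp.yon S).map (pullback.snd h c)) ζ c₀ :=
    IsPullback.of_right bigW hω2 sqL
  have hωe : AlgSp.RepWith @Etale ω :=
    MorphismProperty.of_isPullback (P := AlgSp.RepWith @Etale) sqω.flip hc₀e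
  -- the point w
  obtain ⟨w', hw1, hw2⟩ := Groth.Agent.S10175.exists_point_of_isPullback sqω.flip
    (AlgSp.Points.ofScheme V' v') z
    (by rw [← AlgSp.Points.ofPt_eq_map_ofScheme]; exact hv')
  obtain ⟨w, rfl⟩ := (AlgSp.Points.schemeHomeo (pullback h c)).surjective w'
  refine ⟨pullback h c, V', pullback.fst h c, c, pullback.snd h c, ω ≫ pullback.snd a g',
    c₀ ≫ pullback.snd b g, w, (AlgSp.RepWith @Etale).comp_mem _ _ hωe hsndZ,
    (AlgSp.RepWith @Etale).comp_mem _ _ hc₀e hsnd2, ?_, ?_, ?_, (sqO.map (Over.forget S)), ?_, ?_⟩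
  · rw [Category.assoc, ← hζ2, ← Category.assoc, hω2, Category.assoc]
  · rw [Category.assoc, ← sqZ.w, ← Category.assoc, hω1]
  · rw [Category.assoc, ← sq2.w, ← Category.assoc, hcc]
  · change AlgSp.Points.ofPt (ω ≫ pullback.snd a g') w = x'
    rw [AlgSp.Points.ofPt_eq_map_ofScheme, AlgSp.Points.map_comp]
    change AlgSp.Points.map _ (AlgSp.Points.map ω (AlgSp.Points.schemeHomeo _ w)) = x'
    rw [hw2, hz2]
  · have h1 : AlgSp.Points.map ((AlgSp.yon S).map (pullback.fst h c))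
        (AlgSp.Points.schemeHomeo _ w) = AlgSp.Points.ofScheme U u := by
      rw [← hω1, AlgSp.Points.map_comp, hw2, hz1]
    rw [AlgSp.Points.map_yon_map_apply] at h1
    exact (AlgSp.Points.schemeHomeo U).injective h1

/-- relations on the local fibre dimension at a point are compatible with base change. -/
theorem hasAtMor_fibreDim_baseChange_iff (R : WithBot ℕ∞ → Prop) {X Y Y' X' : AlgSp.Sp S}
    (hX : AlgSp.IsAlgSpace X) (hY : AlgSp.IsAlgSpace Y) (hY' : AlgSp.IsAlgSpace Y')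
    {f : X ⟶ Y} {g : Y' ⟶ Y} {g' : X' ⟶ X} {f' : X' ⟶ Y'} (sq : IsPullback g' f' f g)
    (hf : AlgSp.LocP @LocallyOfFiniteType f) (x' : AlgSp.Points X') :
    AlgSp.HasAtMor (fun _ _ h u => R (FlatMor.fibreDimAt h u)) f' x' ↔
      AlgSp.HasAtMor (fun _ _ h u => R (FlatMor.fibreDimAt h u)) f (AlgSp.Points.map g' x') := by
  have key : ∀ {U V : Over S} (a : (AlgSp.yon S).obj U ⟶ X) (b : (AlgSp.yon S).obj V ⟶ Y)
      (h : U ⟶ V) (ha : AlgSp.RepWith @Etale a) (hb : AlgSp.RepWith @Etale b)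
      (hc : a ≫ f = (AlgSp.yon S).map h ≫ b) (u : ↥U.left)
      (hu : AlgSp.Points.ofPt a u = AlgSp.Points.map g' x'),
      ∃ (W V' : Over S) (hW : W ⟶ V') (aW : (AlgSp.yon S).obj W ⟶ X')
        (b' : (AlgSp.yon S).obj V' ⟶ Y') (w : ↥W.left),
        AlgSp.RepWith @Etale aW ∧ AlgSp.RepWith @Etale b' ∧
        aW ≫ f' = (AlgSp.yon S).map hW ≫ b' ∧ AlgSp.Points.ofPt aW w = x' ∧
        FlatMor.fibreDimAt hW.left w = FlatMor.fibreDimAt h.left u := by
    intro U V a b h ha hb hc u hu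
    obtain ⟨W, V', pr, c, hW, aW, b', w, haW, hb', hcW, -, -, sqS, hw, hpr⟩ :=
      exists_chart_baseChange hY hY' sq a b h ha hb hc u x' hu
    haveI : LocallyOfFiniteType h.left := hf a b h ha hb hc
    refine ⟨W, V', hW, aW, b', w, haW, hb', hcW, hw, ?_⟩
    rw [Groth.Agent.Lib.Helper3.LocDimBC.fibreDimAt_eq_of_isPullback h.left c.left pr.left hW.left
      sqS w, hpr]
  constructor
  · intro H
    obtain ⟨U, V, a, b, h, u, ha, hb, hc, hu⟩ :=
      Groth.Agent.Lib.Helper12.LocPNbhd.exists_chart hX hY f (AlgSp.Points.map g' x')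
    obtain ⟨W, V', hW, aW, b', w, haW, hb', hcW, hw, hdim⟩ := key a b h ha hb hc u hu
    have := Groth.Agent.Lib.T2H1.HasAt.of_hasAtMor
      (Groth.Agent.Lib.T2H1.HasAt.etInv_fibreDim R) f' x' H aW b' hW haW hb' hcW w hw
    refine ⟨U, V, a, b, h, u, ha, hb, hc, hu, ?_⟩
    show R (FlatMor.fibreDimAt h.left u)
    rw [← hdim]
    exact this
  · rintro ⟨U, V, a, b, h, u, ha, hb, hc, hu, hQ⟩
    obtain ⟨W, V', hW, aW, b', w, haW, hb', hcW, hw, hdim⟩ := key a b h ha hb hc u hu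
    refine ⟨W, V', aW, b', hW, w, haW, hb', hcW, hw, ?_⟩
    show R (FlatMor.fibreDimAt hW.left w)
    rw [hdim]
    exact hQ

end Groth.Agent.Lib.T2H1.ChartBC
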