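import Groth.Agent.Lib.T2H2TildeLocD

/-!
# Pseudo-coherence of `M~` versus `M`; converse directions (T2H2)
-/

set_option autoImplicit false
set_option linter.style.haveILetI false
universe u
open CategoryTheory CategoryTheory.Limits AlgebraicGeometry Opposite

attribute [local instance] HasDerivedCategory.standard

namespace Groth.Agent.Lib.T2H2.TildeLoc

open Groth.Agent.Lib.Helper23.QCohLocal Groth.Agent.Lib.T2H8.PCohQCoh
  Groth.Agent.Lib.T2H8.SchLocHtpy Groth.Agent.Lib.T2H8.PerfLocal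
  Groth.Agent.Lib.T2H8.PCohTriangle
  Groth.Agent.Lib.Helper1.Extend DerivedCategory

variable (A : Type u) [CommRing A]

/-- if `M~` is `m`-pseudo-coherent then `M` is `m`-pseudo-coherent -/
theorem isPC_of_isPseudoCoherentD_tildeD (M : Dual.D A) (m : ℤ)
    (h : DCoh.IsPseudoCoherentD m ((DCoh.tildeD (CommRingCat.of A)).obj M)) :
    DRing.IsPseudoCoherent A m M := by
  rw [isPseudoCoherentD_iff] at h
  obtain ⟨r, g, hg, hPr⟩ := exists_fin_span_eq_top A
    (fun f => DRing.IsPseudoCoherent (Localization.Away f) m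
      ((extD A (Localization.Away f)).obj M))
    (fun x => by
      obtain ⟨U, j, hj, x', hx', E, α, hE, hα⟩ := h x
      obtain ⟨W, hxW, hfreeW⟩ := exists_free_nbhd E hE x'
      obtain ⟨f, i, hi, hij, hxf⟩ := exists_away_lift A (W.ι ≫ j) ⟨x', hxW⟩
      refine ⟨f, ?_, ?_⟩
      · rw [← hx']
        exact hxf
      · have hij' : (i ≫ W.ι) ≫ j = jAway A f := by rw [Category.assoc, hij]
        refine isPC_extD_of_approx A f M m ((rC (i ≫ W.ι)).obj E)
          (((Scheme.Modules.restrictFunctor (i ≫ W.ι)).mapDerivedCategoryFactors.app E).inv ≫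
            (rD (i ≫ W.ι)).map α ≫ ((rDComp (i ≫ W.ι) j (jAway A f) hij').app _).hom)
          (isStrictlyPerfect_restrict (i ≫ W.ι) E hE) (fun k => ?_) ?_
        · obtain ⟨n, ⟨e⟩⟩ := hfreeW k
          exact ⟨n, nonempty_restrict_iso_freeMod_comp (E.X k) W.ι i (i ≫ W.ι) rfl n e⟩
        · exact (isApprox_of_isIso m _).comp
            ((hα.map (Scheme.Modules.restrictFunctor (i ≫ W.ι))).comp (isApprox_of_isIso m _)))
  exact (Groth.Agent.Lib.Helper1.Tor.descFam_away g hg).isPC M m hPr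

variable {A}

/-- the tilde of a bounded complex of finite projective modules is strictly perfect -/
lemma isStrictlyPerfect_tildeCx (P : DRing.Cx A) (a b : ℤ) (hP : DRing.VanishesOutside P a b)
    (hfp : DRing.TermwiseFiniteProjective P) :
    DCoh.IsStrictlyPerfect (tildeCx (CommRingCat.of A) P) :=
  ⟨⟨a, b, fun i hi => (tilde.functor (CommRingCat.of A)).map_isZero (hP i hi)⟩,
    fun i => (Groth.Agent.Lib.Helper2.FPAff.isFinLocFree_tilde_iff (CommRingCat.of A) (P.X i)).2
      (hfp i)⟩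

variable (A)

/-- if `M` is perfect then `M~` is perfect -/
theorem isPerfect_tildeD_of_isPerfect (M : Dual.D A) (h : DRing.IsPerfect A M) :
    DCoh.IsPerfect ((DCoh.tildeD (CommRingCat.of A)).obj M) := by
  obtain ⟨P, a, b, hP, hfp, ⟨e⟩⟩ := h
  rw [isPerfect_iff]
  intro x
  refine ⟨_, (⊤ : (Spec (CommRingCat.of A)).Opens).ι, inferInstance, ⟨x, trivial⟩, rfl,
    (rC (⊤ : (Spec (CommRingCat.of A)).Opens).ι).obj (tildeCx (CommRingCat.of A) P),
    isStrictlyPerfect_restrict _ _ (isStrictlyPerfect_tildeCx P a b hP hfp), ⟨?_⟩⟩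
  exact (rD (⊤ : (Spec (CommRingCat.of A)).Opens).ι).mapIso
      ((DCoh.tildeD (CommRingCat.of A)).mapIso e.symm ≪≫
        (tilde.functor (CommRingCat.of A)).mapDerivedCategoryFactors.app P) ≪≫
    (Scheme.Modules.restrictFunctor (⊤ : (Spec (CommRingCat.of A)).Opens).ι).mapDerivedCategoryFactors.app
      (tildeCx (CommRingCat.of A) P)

/-- if `M` is `m`-pseudo-coherent then `M~` is `m`-pseudo-coherent -/
theorem isPseudoCoherentD_tildeD_of_isPC (M : Dual.D A) (m : ℤ)
    (h : DRing.IsPseudoCoherent A m M) :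
    DCoh.IsPseudoCoherentD m ((DCoh.tildeD (CommRingCat.of A)).obj M) := by
  obtain ⟨P, a, b, α, hP, hff, hiso, hepi⟩ := h
  have hα : IsApprox m α := ⟨hiso, hepi⟩
  rw [isPseudoCoherentD_iff]
  intro x
  refine ⟨_, (⊤ : (Spec (CommRingCat.of A)).Opens).ι, inferInstance, ⟨x, trivial⟩, rfl,
    (rC (⊤ : (Spec (CommRingCat.of A)).Opens).ι).obj (tildeCx (CommRingCat.of A) P),
    ((Scheme.Modules.restrictFunctor
        (⊤ : (Spec (CommRingCat.of A)).Opens).ι).mapDerivedCategoryFactors.app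
      (tildeCx (CommRingCat.of A) P)).inv ≫
      (rD (⊤ : (Spec (CommRingCat.of A)).Opens).ι).map
        (((tilde.functor (CommRingCat.of A)).mapDerivedCategoryFactors.app P).inv ≫
          (DCoh.tildeD (CommRingCat.of A)).map α),
    isStrictlyPerfect_restrict _ _ (isStrictlyPerfect_tildeCx P a b hP
      (fun i => ⟨(hff i).1, haveI := (hff i).2; inferInstance⟩)), ?_⟩
  refine (isApprox_of_isIso m _).comp ?_
  refine IsApprox.map (G := Scheme.Modules.restrictFunctor
    (⊤ : (Spec (CommRingCat.of A)).Opens).ι) ?_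
  exact (isApprox_of_isIso m _).comp (hα.map (tilde.functor (CommRingCat.of A)))

end Groth.Agent.Lib.T2H2.TildeLoc
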