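import Groth.Agent.Lib.Helper20OmegaAff

/-!
# Pushforward of `M~` along `Spec S ⟶ Spec R` is `(M_R)~`, naturally in `M` (T2H2)
-/

set_option autoImplicit false
set_option linter.style.haveILetI false
universe u
open CategoryTheory CategoryTheory.Limits AlgebraicGeometry

namespace Groth.Agent.Lib.T2H2.TildePush

open Groth.Agent.Lib.Helper20.OmegaAff

variable {R S : CommRingCat.{u}} (ψ : R ⟶ S)

instance isIso_counit_push (N : ModuleCat.{u} S) :
    IsIso ((tilde.adjunction (R := R)).counit.app
      ((Scheme.Modules.pushforward (Spec.map ψ)).obj ((tilde.functor S).obj N))) := by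
  haveI : IsIso (Scheme.Modules.fromTildeΓ ((tilde.functor S).obj N)) := inferInstance
  exact isIso_fromTildeΓ_pushforward ψ ((tilde.functor S).obj N)

/-- `(M~)` pushed forward along `Spec S ⟶ Spec R` is `(M_R)~`, naturally in `M`. -/
noncomputable def tildePushIso :
    tilde.functor S ⋙ Scheme.Modules.pushforward (Spec.map ψ) ≅
      ModuleCat.restrictScalars ψ.hom ⋙ tilde.functor R :=
  haveI : IsIso (Functor.whiskerLeft (tilde.functor S ⋙ Scheme.Modules.pushforward (Spec.map ψ))
      (tilde.adjunction (R := R)).counit) := by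
    haveI : ∀ N, IsIso ((Functor.whiskerLeft
        (tilde.functor S ⋙ Scheme.Modules.pushforward (Spec.map ψ))
        (tilde.adjunction (R := R)).counit).app N) := fun N => isIso_counit_push ψ N
    exact NatIso.isIso_of_isIso_app _
  (asIso (Functor.whiskerLeft (tilde.functor S ⋙ Scheme.Modules.pushforward (Spec.map ψ))
      (tilde.adjunction (R := R)).counit)).symm ≪≫
    (Functor.associator _ _ _).symm ≪≫
    Functor.isoWhiskerRight (Functor.associator _ _ _ ≪≫
      Functor.isoWhiskerLeft (tilde.functor S) (pushforwardΓIso ψ) ≪≫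
      (Functor.associator _ _ _).symm ≪≫
      Functor.isoWhiskerRight (tilde.toTildeΓNatIso (R := S)).symm
        (ModuleCat.restrictScalars ψ.hom) ≪≫ Functor.leftUnitor _) (tilde.functor R)

end Groth.Agent.Lib.T2H2.TildePush
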