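import Groth.Agent.Lib.T2H1ClImmPC2
import Groth.Agent.Lib.T2H2TildeLocE
import Groth.Agent.Lib.T2H2TildePushA
import Groth.Agent.Lib.Helper1RelPC2
import Groth.Prelude.Def_DerSch2

/-!
# Chart independence of relative pseudo-coherence on a fixed pair of opens (helper1)

* `hO_Spec_map`: for a surjection `ρ : T₂ → T₁` with `T₁` pseudo-coherent over `T₂`, the closed
  immersion `Spec ρ` has pseudo-coherent `i_* O`.
* `chartStep`: composing a chart `χ` with such a `ρ` (of polynomial rings) does not change the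
  `m`-pseudo-coherence of the direct image along the chart immersion.
* `chartPC_of_chartPC`: `DerSch.ChartPC m E U V φ → DerSch.ChartPC m E U V ψ` for two charts.
-/

set_option autoImplicit false
set_option linter.style.haveILetI false
universe u
open CategoryTheory CategoryTheory.Limits AlgebraicGeometry

attribute [local instance] HasDerivedCategory.standard

namespace Groth.Agent.Lib.T2H1.ChartIndep

open Groth.Agent.Lib.T2H8.PCohTriangle Groth.Agent.Lib.T2H8.PerfLocal
  Groth.Agent.Lib.T2H8.PCohBdd Groth.Agent.Lib.T2H1.ClImmPC Groth.Agent.Lib.T2H2.TildeLoc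
  Groth.Agent.Lib.Helper1.Restrict Groth.Agent.Lib.Helper1.RelPC
  Groth.Agent.Lib.T2H8.PCohRelBiprod Scheme.Modules DerivedCategory

section Affine

variable {T₁ T₂ : Type u} [CommRing T₁] [CommRing T₂] (ρ : T₂ →+* T₁)

/-- for a surjection `ρ : T₂ → T₁` with `T₁` a pseudo-coherent `T₂`-module, the closed immersion
`Spec ρ` has pseudo-coherent structure sheaf direct image -/
lemma hO_Spec_map (hρ : Function.Surjective ρ) (hB : BPC ρ) :
    haveI : IsClosedImmersion (Spec.map (CommRingCat.ofHom ρ)) :=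
      IsClosedImmersion.spec_of_surjective _ hρ
    HO (Spec.map (CommRingCat.ofHom ρ)) := by
  haveI : IsClosedImmersion (Spec.map (CommRingCat.ofHom ρ)) :=
    IsClosedImmersion.spec_of_surjective _ hρ
  intro m
  have e1 : (pushforward (Spec.map (CommRingCat.ofHom ρ))).obj
      (Coh.structureModule (Spec (CommRingCat.of T₁))) ≅
      (tilde.functor (CommRingCat.of T₂)).obj
        ((ModuleCat.restrictScalars ρ).obj (ModuleCat.of T₁ T₁)) :=
    (pushforward (Spec.map (CommRingCat.ofHom ρ))).mapIso tildeSelf.symm ≪≫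
      (Groth.Agent.Lib.T2H2.TildePush.tildePushIso (CommRingCat.ofHom ρ)).app (ModuleCat.of _ _)
  have e2 := ((tilde.functor (CommRingCat.of T₂)).mapDerivedCategorySingleFunctor 0).app
    ((ModuleCat.restrictScalars ρ).obj (ModuleCat.of T₁ T₁))
  exact isPseudoCoherentD_of_iso
    (e2 ≪≫ (DerivedCategory.singleFunctor _ 0).mapIso e1.symm)
    (isPseudoCoherentD_tildeD_of_isPC T₂ _ m (hB m))

end Affine

section Step

variable {X : Scheme.{u}} (U : X.Opens) {R₁ R₂ : Type u} [CommRing R₁] [CommRing R₂] {n₁ n₂ : ℕ}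
  (χ : MvPolynomial (Fin n₁) R₁ →+* Γ(X, U))
  (ρ : MvPolynomial (Fin n₂) R₂ →+* MvPolynomial (Fin n₁) R₁)

lemma chartImm_comp :
    DerSch.chartImm U χ ≫ Spec.map (CommRingCat.ofHom ρ) = DerSch.chartImm U (χ.comp ρ) := by
  unfold DerSch.chartImm
  rw [Category.assoc, ← Spec.map_comp]
  rfl

/-- one step of chart change: composing the chart with a surjection `ρ` of polynomial rings whose
target is pseudo-coherent over its source does not change chart pseudo-coherence -/
theorem chartStep (hρ : Function.Surjective ρ) (hB : BPC ρ) (m : ℤ)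
    (K : CochainComplex (U : Scheme.{u}).Modules ℤ) :
    DCoh.IsPseudoCoherentD m (DCoh.toD _ ((DerSch.pushCx (DerSch.chartImm U χ)).obj K)) ↔
      DCoh.IsPseudoCoherentD m
        (DCoh.toD _ ((DerSch.pushCx (DerSch.chartImm U (χ.comp ρ))).obj K)) := by
  haveI : IsClosedImmersion (Spec.map (CommRingCat.ofHom ρ)) :=
    IsClosedImmersion.spec_of_surjective _ hρ
  let s := Spec.map (CommRingCat.ofHom ρ)
  have h1 := isPseudoCoherentD_pD_iff s (hO_Spec_map ρ hρ hB)
    (DCoh.toD _ ((DerSch.pushCx (DerSch.chartImm U χ)).obj K)) m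
  rw [h1]
  have e : (pD s).obj (DCoh.toD _ ((DerSch.pushCx (DerSch.chartImm U χ)).obj K)) ≅
      DCoh.toD _ ((DerSch.pushCx (DerSch.chartImm U (χ.comp ρ))).obj K) :=
    (pushforward s).mapDerivedCategoryFactors.app _ ≪≫
      Q.mapIso (((Functor.mapHomologicalComplexCompIso
        (pushforwardComp (DerSch.chartImm U χ) s ≪≫ pushforwardCongr (chartImm_comp U χ ρ))
        (ComplexShape.up ℤ))).app K)
  exact ⟨fun h => isPseudoCoherentD_of_iso e h, fun h => isPseudoCoherentD_of_iso e.symm h⟩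

end Step

section Indep

variable {X S : Scheme.{u}} (f : X ⟶ S) (U : X.Opens) (V : S.Opens) (h : U ≤ f ⁻¹ᵁ V)

/-- chart independence on a fixed pair of opens -/
theorem chartPC_of_chartPC (m : ℤ) (E : DCoh.D X)
    {n : ℕ} (φ : MvPolynomial (Fin n) Γ(S, V) →+* Γ(X, U)) (hφ : DerSch.IsChart f U V h φ)
    (hE : DerSch.ChartPC m E U V φ)
    {k : ℕ} (ψ : MvPolynomial (Fin k) Γ(S, V) →+* Γ(X, U)) (hψ : DerSch.IsChart f U V h ψ) :
    DerSch.ChartPC m E U V ψ := by
  intro G hG
  have h1 := hE G hG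
  choose F hF using fun j : Fin k => hφ.1 (ψ (MvPolynomial.X j))
  choose Gl hGl using fun i : Fin n => hψ.1 (φ (MvPolynomial.X i))
  let ev : MvPolynomial (Fin k) (MvPolynomial (Fin n) Γ(S, V)) →+* MvPolynomial (Fin n) Γ(S, V) :=
    MvPolynomial.eval F
  let ev' : MvPolynomial (Fin n) (MvPolynomial (Fin k) Γ(S, V)) →+* MvPolynomial (Fin k) Γ(S, V) :=
    MvPolynomial.eval Gl
  let w : MvPolynomial (Fin n) (MvPolynomial (Fin k) Γ(S, V)) →+*
      MvPolynomial (Fin k) (MvPolynomial (Fin n) Γ(S, V)) :=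
    (MvPolynomial.commAlgEquiv Γ(S, V) (Fin n) (Fin k)).toRingEquiv.toRingHom
  have hw : Function.Bijective w := (MvPolynomial.commAlgEquiv Γ(S, V) (Fin n) (Fin k)).bijective
  have hev : Function.Surjective ev := fun r => ⟨MvPolynomial.C r, by simp [ev]⟩
  have hev' : Function.Surjective ev' := fun r => ⟨MvPolynomial.C r, by simp [ev']⟩
  have hC : ∀ a : Γ(S, V), φ (MvPolynomial.C a) = ψ (MvPolynomial.C a) := by
    intro a
    have e1 := congrArg (fun g : Γ(S, V) →+* Γ(X, U) => g a) hφ.2
    have e2 := congrArg (fun g : Γ(S, V) →+* Γ(X, U) => g a) hψ.2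
    simp only [RingHom.comp_apply] at e1 e2
    rw [e1, e2]
  have hcomp : (φ.comp ev).comp w = ψ.comp ev' := by
    refine MvPolynomial.ringHom_ext (fun p => ?_) (fun i => ?_)
    · have : ((φ.comp ev).comp w).comp MvPolynomial.C = (ψ.comp ev').comp MvPolynomial.C := by
        refine MvPolynomial.ringHom_ext (fun a => ?_) (fun j => ?_)
        · simp [w, ev, ev', hC]
        · simp [w, ev, ev', hF]
      exact congrArg (fun g : MvPolynomial (Fin k) Γ(S, V) →+* Γ(X, U) => g p) this
    · simp [w, ev, ev', hGl]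
  rw [chartStep U φ ev hev (bpc_mvEval k _ F) m] at h1
  rw [chartStep U (φ.comp ev) w hw.surjective (bpc_of_bijective w hw) m, hcomp] at h1
  rw [chartStep U ψ ev' hev' (bpc_mvEval n _ Gl) m]
  exact h1

end Indep

end Groth.Agent.Lib.T2H1.ChartIndep
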