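import Mathlib
import Groth.Prelude.Def_DCoh2
import Groth.Prelude.Def_CxOX
import Groth.Agent.S0934
import Groth.Agent.Lib.Helper20LocFree
import Groth.Agent.Lib.Helper23FinType
import Groth.Agent.Lib.Helper23FinPres
import Groth.Agent.Lib.Helper2FinPres
import Groth.Agent.Lib.T2H8PerfLocal
import Groth.Agent.Lib.T2H8PCohQCoh

/-!
# Top cohomology sheaves of pseudo-coherent objects are of finite type / finite presentation
-/

set_option autoImplicit false
universe u
open CategoryTheory CategoryTheory.Limits AlgebraicGeometry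

namespace Groth.Agent.Lib.T2H8.PCohFT

open Groth.Agent.Lib.T2H8.SchLocHtpy Groth.Agent.Lib.T2H8.PerfLocal
  Groth.Agent.Lib.Helper20.LocFree

attribute [local instance] Groth.Agent.Lib.Helper23.QCohLocal.restrictFunctor_isRightAdjoint

variable {X : Scheme.{u}}

/-- finite local freeness is local along open immersions -/
lemma isFinLocFree_of_locally (M : X.Modules)
    (h : ∀ x : X, ∃ (U : Scheme.{u}) (j : U ⟶ X) (_ : IsOpenImmersion j) (x' : U), j x' = x ∧
      FlatMod.IsFinLocFree (M.restrict j)) : FlatMod.IsFinLocFree M := by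
  intro x
  obtain ⟨U, j, hj, x', hx', hfl⟩ := h x
  obtain ⟨W, n, hxW, ⟨e⟩⟩ := hfl x'
  let k : (W : Scheme.{u}) ⟶ X := W.ι ≫ j
  have e1 : M.restrict k ≅ FlatMod.freeMod (↑W) n :=
    ((Scheme.Modules.restrictFunctorComp W.ι j).app M) ≪≫ e
  obtain ⟨e2⟩ := nonempty_restrict_iso_freeMod_comp M k k.isoOpensRange.inv k.opensRange.ι
    k.isoOpensRange_inv_comp n e1
  refine ⟨k.opensRange, n, ⟨⟨x', hxW⟩, ?_⟩, ⟨e2⟩⟩
  simp [k, hx']

lemma isFinLocFree_of_isZero {M : X.Modules} (h : IsZero M) : FlatMod.IsFinLocFree M :=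
  Groth.Agent.Lib.Helper2.LocFree.isFinLocFree_of_iso_freeMod M (h.iso isZero_freeMod_zero)

/-- the kernel of an epimorphism between finite locally free modules is finite locally free -/
theorem isFinLocFree_kernel {F G : X.Modules} (p : F ⟶ G) [Epi p]
    (hF : FlatMod.IsFinLocFree F) (hG : FlatMod.IsFinLocFree G) :
    FlatMod.IsFinLocFree (kernel p) := by
  apply isFinLocFree_of_locally
  intro x
  -- split `p` near `x`
  obtain ⟨V, ψ, hxV, hψ⟩ := Groth.Agent.S0934.result p (𝟙 G) hG x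
  -- trivialize `F` near `x`
  obtain ⟨W, n, hxW, ⟨e⟩⟩ := (isFinLocFree_restrict V.ι F hF) ⟨x, hxV⟩
  let k : (W : Scheme.{u}) ⟶ X := W.ι ≫ V.ι
  refine ⟨W, k, inferInstance, ⟨⟨x, hxV⟩, hxW⟩, rfl, ?_⟩
  let r := Scheme.Modules.restrictFunctor k
  let ε : Scheme.Modules.restrictFunctor V.ι ⋙ Scheme.Modules.restrictFunctor W.ι ≅ r :=
    ec W.ι V.ι
  -- the section of `r.map p`
  let σ : r.obj G ⟶ r.obj F :=
    ε.inv.app G ≫ (Scheme.Modules.restrictFunctor W.ι).map ψ ≫ ε.hom.app F
  have hσ : σ ≫ r.map p = 𝟙 _ := by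
    have h1 := ε.hom.naturality p
    simp only [Functor.comp_map] at h1
    simp only [σ, Category.assoc]
    rw [← h1, ← Functor.map_comp_assoc, hψ]
    simp
  -- `r (ker p)` is a retract of `r F ≅ O^n`
  let eF : r.obj F ≅ FlatMod.freeMod (↑W) n := (ε.app F).symm ≪≫ e
  let s : r.obj (kernel p) ⟶ FlatMod.freeMod (↑W) n := r.map (kernel.ι p) ≫ eF.hom
  have hlim : IsLimit (KernelFork.ofι (r.map (kernel.ι p))
      (show r.map (kernel.ι p) ≫ r.map p = 0 by rw [← r.map_comp, kernel.condition, r.map_zero])) :=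
    KernelFork.mapIsLimit _ (kernelIsKernel p) r
  have hq : (𝟙 (r.obj F) - r.map p ≫ σ) ≫ r.map p = 0 := by
    rw [Preadditive.sub_comp, Category.assoc, hσ]
    simp
  let q : r.obj F ⟶ r.obj (kernel p) := hlim.lift (KernelFork.ofι _ hq)
  have hq' : q ≫ r.map (kernel.ι p) = 𝟙 (r.obj F) - r.map p ≫ σ :=
    hlim.fac (KernelFork.ofι _ hq) WalkingParallelPair.zero
  have hmono : Mono (r.map (kernel.ι p)) := mono_of_isLimit_fork hlim
  have hsq : r.map (kernel.ι p) ≫ q = 𝟙 _ := by
    rw [← cancel_mono (r.map (kernel.ι p)), Category.assoc, hq', Preadditive.comp_sub,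
      ← r.map_comp_assoc, kernel.condition]
    simp
  refine isFinLocFree_of_retract s (eF.inv ≫ q) ?_
  simp only [s, Category.assoc, Iso.hom_inv_id_assoc]
  exact hsq

section Cycles

variable (E : CochainComplex X.Modules ℤ)

lemma epi_toCycles_of_isZero_homology (i j : ℤ) (hij : i + 1 = j) (h : IsZero (E.homology j)) :
    Epi (E.toCycles i j) :=
  Preadditive.epi_of_isZero_cokernel' _ (E.homologyIsCokernel i j (by simp [← hij])) h

/-- the cycles in degree `i` are the kernel of `E.X i ⟶ Z^{i+1}` -/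
noncomputable def cyclesIsKernelToCycles (i j : ℤ) (hij : i + 1 = j) :
    IsLimit (KernelFork.ofι (E.iCycles i) (show E.iCycles i ≫ E.toCycles i j = 0 by
      rw [← cancel_mono (E.iCycles j), Category.assoc, E.toCycles_i, E.iCycles_d, zero_comp])) :=
  KernelFork.IsLimit.ofι' _ _ (fun {A} k hk =>
    ⟨(E.cyclesIsKernel i j (by simp [← hij])).lift (KernelFork.ofι k (by
        rw [← E.toCycles_i i j, reassoc_of% hk, zero_comp])),
      (E.cyclesIsKernel i j (by simp [← hij])).fac _ WalkingParallelPair.zero⟩)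

lemma isFinLocFree_cycles_step (i j : ℤ) (hij : i + 1 = j) (h : IsZero (E.homology j))
    (hX : FlatMod.IsFinLocFree (E.X i)) (hZ : FlatMod.IsFinLocFree (E.cycles j)) :
    FlatMod.IsFinLocFree (E.cycles i) := by
  haveI := epi_toCycles_of_isZero_homology E i j hij h
  have h1 := isFinLocFree_kernel (E.toCycles i j) hX hZ
  exact isFinLocFree_of_iso
    (IsLimit.conePointUniqueUpToIso (kernelIsKernel (E.toCycles i j))
      (cyclesIsKernelToCycles E i j hij)) h1

/-- cycles of a strictly perfect complex which is exact above degree `m` are finite locally free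
in degrees `≥ m` -/
theorem isFinLocFree_cycles (hE : DCoh.IsStrictlyPerfect E) (m : ℤ)
    (hex : ∀ i : ℤ, m < i → IsZero (E.homology i)) (k : ℤ) (hk : m ≤ k) :
    FlatMod.IsFinLocFree (E.cycles k) := by
  obtain ⟨⟨a, b, hab⟩, hfl⟩ := hE
  have key : ∀ (n : ℕ) (k : ℤ), m ≤ k → b + 1 - n ≤ k → FlatMod.IsFinLocFree (E.cycles k) := by
    intro n
    induction n with
    | zero =>
      intro k _ hk2
      apply isFinLocFree_of_isZero
      exact IsZero.of_mono (E.iCycles k) (hab k (Or.inr (by push_cast at hk2; omega)))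
    | succ n ih =>
      intro k hk1 hk2
      exact isFinLocFree_cycles_step E k (k + 1) rfl (hex _ (by omega)) (hfl k)
        (ih (k + 1) (by omega) (by push_cast at hk2 ⊢; omega))
  exact key (b + 1 - k).toNat k hk (by omega)

end Cycles

section FT

open Groth.Agent.Lib.Helper23.FinType Groth.Agent.Lib.Helper23.QCohLocal

/-- generating sections from an epimorphism out of a free module -/
noncomputable def genOfEpi {Y : Scheme.{u}} {N : Y.Modules} (I : Type u)
    (p : SheafOfModules.free (R := Y.ringCatSheaf) I ⟶ N) [hp : Epi p] :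
    N.GeneratingSections where
  I := I
  s := N.freeHomEquiv p
  epi := by simpa using hp

/-- finite type is local along open immersions -/
theorem isFT_of_locally (M : X.Modules)
    (h : ∀ x : X, ∃ (U : Scheme.{u}) (j : U ⟶ X) (_ : IsOpenImmersion j) (x' : U), j x' = x ∧
      ∃ G : (M.restrict j).GeneratingSections, G.IsFiniteType) : CohB1.IsFT M := by
  choose U j hj x' hx' G hG using h
  refine isFiniteType_of_generatingSections M (fun x : X => (j x).opensRange) ?_ (fun x => ?_)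
  · rw [TopologicalSpace.IsOpenCover, eq_top_iff]
    intro x _
    exact TopologicalSpace.Opens.mem_iSup.2 ⟨x, ⟨x' x, hx' x⟩⟩
  · haveI := hG x
    exact ⟨generatingSectionsOfComp M (j x).isoOpensRange.inv (j x) (j x).opensRange.ι
      (j x).isoOpensRange_inv_comp (G x), inferInstance⟩

/-- a module which is locally a quotient of a finite locally free module is of finite type -/
theorem isFT_of_epi_locFree (M : X.Modules)
    (h : ∀ x : X, ∃ (U : Scheme.{u}) (j : U ⟶ X) (_ : IsOpenImmersion j) (x' : U), j x' = x ∧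
      ∃ (P : U.Modules) (π : P ⟶ M.restrict j), FlatMod.IsFinLocFree P ∧ Epi π) :
    CohB1.IsFT M := by
  apply isFT_of_locally
  intro x
  obtain ⟨U, j, hj, x', hx', P, π, hP, hπ⟩ := h x
  obtain ⟨W, n, hxW, ⟨e⟩⟩ := hP x'
  refine ⟨W, W.ι ≫ j, inferInstance, ⟨x', hxW⟩, by simpa using hx', ?_⟩
  let p1 : (Scheme.Modules.restrictFunctor W.ι).obj P ⟶ M.restrict (W.ι ≫ j) :=
    (Scheme.Modules.restrictFunctor W.ι).map π ≫
      ((Scheme.Modules.restrictFunctorComp W.ι j).app M).inv
  haveI : Epi ((Scheme.Modules.restrictFunctor W.ι).map π) :=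
    (Scheme.Modules.restrictFunctor W.ι).map_epi π
  have h1 : Epi p1 := epi_comp _ _
  let p2 : SheafOfModules.free (R := (W : Scheme.{u}).ringCatSheaf) (ULift.{u} (Fin n)) ⟶
      (Scheme.Modules.restrictFunctor W.ι).obj P := (freeModIsoFree _ n).inv ≫ e.inv
  have h2 : Epi p2 := epi_comp _ _
  have hp : Epi (p2 ≫ p1) := epi_comp' h2 h1
  exact ⟨genOfEpi _ (p2 ≫ p1), ⟨inferInstanceAs (Finite (ULift.{u} (Fin n)))⟩⟩

end FT

section FP

open Groth.Agent.Lib.Helper23.FinType Groth.Agent.Lib.Helper23.QCohLocal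

/-- finite presentation is local along open immersions -/
theorem isFP_of_locally (M : X.Modules)
    (h : ∀ x : X, ∃ (U : Scheme.{u}) (j : U ⟶ X) (_ : IsOpenImmersion j) (x' : U), j x' = x ∧
      ∃ P : (M.restrict j).Presentation, P.IsFinite) : CohB1.IsFP M := by
  choose U j hj x' hx' P hP using h
  refine isFinitePresentation_of_presentation M (fun x : X => (j x).opensRange) ?_ (fun x => ?_)
  · rw [TopologicalSpace.IsOpenCover, eq_top_iff]
    intro x _
    exact TopologicalSpace.Opens.mem_iSup.2 ⟨x, ⟨x' x, hx' x⟩⟩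
  · haveI := hP x
    exact ⟨presentationOfComp M (j x).isoOpensRange.inv (j x) (j x).opensRange.ι
      (j x).isoOpensRange_inv_comp (P x), presentationOfComp_isFinite M _ _ _ _ (P x)⟩

/-- a module which is locally the cokernel of a map of finite locally free modules is of finite
presentation -/
theorem isFP_of_coker_locFree (M : X.Modules)
    (h : ∀ x : X, ∃ (U : Scheme.{u}) (j : U ⟶ X) (_ : IsOpenImmersion j) (x' : U), j x' = x ∧
      ∃ (S : ShortComplex U.Modules) (_ : S.X₃ ≅ M.restrict j), FlatMod.IsFinLocFree S.X₁ ∧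
        FlatMod.IsFinLocFree S.X₂ ∧ S.Exact ∧ Epi S.g) :
    CohB1.IsFP M := by
  apply isFP_of_locally
  intro x
  obtain ⟨U, j, hj, x', hx', S, e₃, h₁, h₂, hex, hepi⟩ := h x
  obtain ⟨W₁, a, hxW₁, ⟨e₁⟩⟩ := h₁ x'
  obtain ⟨W₂, b, hxW₂, ⟨e₂⟩⟩ := h₂ x'
  let W : U.Opens := W₁ ⊓ W₂
  have hW₁ : W ≤ W₁ := inf_le_left
  have hW₂ : W ≤ W₂ := inf_le_right
  obtain ⟨e₁'⟩ := nonempty_restrict_iso_freeMod_comp S.X₁ W₁.ι (U.homOfLE hW₁) W.ι
    (U.homOfLE_ι hW₁) a e₁
  obtain ⟨e₂'⟩ := nonempty_restrict_iso_freeMod_comp S.X₂ W₂.ι (U.homOfLE hW₂) W.ι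
    (U.homOfLE_ι hW₂) b e₂
  refine ⟨W, W.ι ≫ j, inferInstance, ⟨x', ⟨hxW₁, hxW₂⟩⟩, by simpa using hx', ?_⟩
  let r := Scheme.Modules.restrictFunctor W.ι
  let Fa : (W : Scheme.{u}).Modules :=
    SheafOfModules.free (R := (W : Scheme.{u}).ringCatSheaf) (ULift.{u} (Fin a))
  let Fb : (W : Scheme.{u}).Modules :=
    SheafOfModules.free (R := (W : Scheme.{u}).ringCatSheaf) (ULift.{u} (Fin b))
  let ea : Fa ≅ r.obj S.X₁ := (freeModIsoFree _ a).symm ≪≫ e₁'.symm
  let eb : Fb ≅ r.obj S.X₂ := (freeModIsoFree _ b).symm ≪≫ e₂'.symm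
  let ec' : r.obj S.X₃ ≅ M.restrict (W.ι ≫ j) :=
    r.mapIso e₃ ≪≫ ((Scheme.Modules.restrictFunctorComp W.ι j).app M).symm
  let f' : Fa ⟶ Fb := ea.hom ≫ r.map S.f ≫ eb.inv
  let g' : Fb ⟶ M.restrict (W.ι ≫ j) := eb.hom ≫ r.map S.g ≫ ec'.hom
  have w' : f' ≫ g' = 0 := by
    simp only [f', g', Category.assoc, Iso.inv_hom_id_assoc]
    rw [← r.map_comp_assoc, S.zero, r.map_zero]
    simp
  let T : ShortComplex (W : Scheme.{u}).Modules := ShortComplex.mk f' g' w'
  let S' : ShortComplex (W : Scheme.{u}).Modules := ShortComplex.mk (r.map S.f) (r.map S.g)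
    (by rw [← r.map_comp, S.zero, r.map_zero])
  have hS' : S'.Exact := hex.map r
  have eT : T ≅ S' := ShortComplex.isoMk ea eb ec'.symm
    (by
      dsimp [T, f', S']
      rw [Category.assoc, Category.assoc, eb.inv_hom_id, Category.comp_id])
    (by
      dsimp [T, g', S']
      rw [Category.assoc, Category.assoc, ec'.hom_inv_id, Category.comp_id])
  have hT : T.Exact := ShortComplex.exact_of_iso eT.symm hS'
  haveI : Epi (r.map S.g) := r.map_epi S.g
  have hTg : Epi T.g := by
    have h1 : Epi (r.map S.g ≫ ec'.hom) := epi_comp _ _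
    exact epi_comp' (inferInstance : Epi eb.hom) h1
  obtain ⟨hc⟩ := T.exact_and_epi_g_iff_g_is_cokernel.1 ⟨hT, hTg⟩
  exact ⟨SheafOfModules.presentationOfIsCokernelFree f' g' w' hc,
    ⟨⟨inferInstanceAs (Finite (ULift.{u} (Fin b)))⟩, ⟨inferInstanceAs (Finite (ULift.{u} (Fin a)))⟩⟩⟩

end FP

section Main

open Groth.Agent.Lib.T2H8.PCohQCoh DerivedCategory

attribute [local instance] HasDerivedCategory.standard

theorem main_S0890 {X : Scheme.{u}} (m : ℤ) (K : DCoh.D X)
    (hK : DCoh.IsPseudoCoherentD m K) :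
    ((∀ i : ℤ, m < i → IsZero (DCoh.HD K i)) → CohB1.IsFT (DCoh.HD K m)) ∧
    ((∀ i : ℤ, m + 1 < i → IsZero (DCoh.HD K i)) → CohB1.IsFP (DCoh.HD K (m + 1))) := by
  let F := (DerivedCategory.Q : _ ⥤ DCoh.D X).objPreimage K
  let e : DerivedCategory.Q.obj F ≅ K := DerivedCategory.Q.objObjPreimageIso K
  -- the comparison isomorphism over a good open
  have key : ∀ (V : X.Opens) (i : ℤ),
      Nonempty (DCoh.HD (DerivedCategory.Q.obj ((DCoh.restrictCx V).obj F)) i ≅
        (Scheme.Modules.restrictFunctor V.ι).obj (DCoh.HD K i)) := fun V i =>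
    ⟨restrictHDIso V F i ≪≫ (Scheme.Modules.restrictFunctor V.ι).mapIso
      ((DerivedCategory.homologyFunctor X.Modules i).mapIso e)⟩
  -- vanishing of the homology of the local strictly perfect model
  have vanish : ∀ (n : ℤ), m ≤ n → (∀ i : ℤ, n < i → IsZero (DCoh.HD K i)) →
      ∀ (V : X.Opens) (P : CochainComplex (V : Scheme.{u}).Modules ℤ)
        (α : DerivedCategory.Q.obj P ⟶ DerivedCategory.Q.obj ((DCoh.restrictCx V).obj F)),
        (∀ i : ℤ, m < i → IsIso ((DerivedCategory.homologyFunctor _ i).map α)) →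
        ∀ i : ℤ, n < i → IsZero (P.homology i) := by
    intro n hn hz V P α hiso i hi
    haveI := hiso i (by omega)
    obtain ⟨κ⟩ := key V i
    exact IsZero.of_iso ((Scheme.Modules.restrictFunctor V.ι).map_isZero (hz i hi))
      (((DerivedCategory.homologyFunctorFactors _ i).app P).symm ≪≫
        asIso ((DerivedCategory.homologyFunctor _ i).map α) ≪≫ κ)
  constructor
  · intro hz
    apply isFT_of_epi_locFree
    intro x
    obtain ⟨V, hxV, H⟩ := hK x
    obtain ⟨P, α, hP, hiso, hepi⟩ := H F ⟨e⟩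
    obtain ⟨κ⟩ := key V m
    have hex := vanish m le_rfl hz V P α hiso
    refine ⟨V, V.ι, inferInstance, ⟨x, hxV⟩, rfl, P.cycles m,
      P.homologyπ m ≫ ((DerivedCategory.homologyFunctorFactors _ m).app P).inv ≫
        (DerivedCategory.homologyFunctor _ m).map α ≫ κ.hom,
      isFinLocFree_cycles P hP m hex m le_rfl, ?_⟩
    haveI := hepi
    infer_instance
  · intro hz
    apply isFP_of_coker_locFree
    intro x
    obtain ⟨V, hxV, H⟩ := hK x
    obtain ⟨P, α, hP, hiso, -⟩ := H F ⟨e⟩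
    obtain ⟨κ⟩ := key V (m + 1)
    have hex := vanish (m + 1) (by omega) hz V P α hiso
    haveI := hiso (m + 1) (by omega)
    refine ⟨V, V.ι, inferInstance, ⟨x, hxV⟩, rfl,
      ShortComplex.mk (P.toCycles m (m + 1)) (P.homologyπ (m + 1)) (by simp),
      ((DerivedCategory.homologyFunctorFactors _ (m + 1)).app P).symm ≪≫
        asIso ((DerivedCategory.homologyFunctor _ (m + 1)).map α) ≪≫ κ,
      hP.2 m, isFinLocFree_cycles P hP (m + 1) hex (m + 1) le_rfl, ?_⟩
    exact (ShortComplex.exact_and_epi_g_iff_g_is_cokernel _).2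
      ⟨P.homologyIsCokernel m (m + 1) (by simp)⟩

end Main

end Groth.Agent.Lib.T2H8.PCohFT
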