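import Mathlib
import Groth.Prelude.Def_DCoh3
import Groth.Prelude.Def_CxOX
import Groth.Agent.S6516
import Groth.Agent.Lib.T2H8SchLocHtpy
import Groth.Agent.Lib.T2H8PerfLocal
import Groth.Agent.Lib.T2H8BrutalTrunc
import Groth.Agent.Lib.T2H8PCohFT

/-!
# Pseudo-coherent objects of `D(O_X)` in distinguished triangles
-/

set_option autoImplicit false
universe u
open CategoryTheory CategoryTheory.Limits Opposite AlgebraicGeometry

namespace Groth.Agent.Lib.T2H8.PCohTriangle

section MapDHomology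

universe w₁ w₂ v₁ v₂ u₁ u₂

variable {A : Type u₁} [Category.{v₁} A] [Abelian A] [HasDerivedCategory.{w₁} A]
  {B : Type u₂} [Category.{v₂} B] [Abelian B] [HasDerivedCategory.{w₂} B]
  (G : A ⥤ B) [G.Additive] [PreservesFiniteLimits G] [PreservesFiniteColimits G]

/-- an exact functor commutes with the homology of complexes, naturally -/
noncomputable def homologyFunctorMapIso (n : ℤ) :
    G.mapHomologicalComplex (ComplexShape.up ℤ) ⋙
      HomologicalComplex.homologyFunctor B (ComplexShape.up ℤ) n ≅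
      HomologicalComplex.homologyFunctor A (ComplexShape.up ℤ) n ⋙ G :=
  NatIso.ofComponents (fun K => (K.sc n).mapHomologyIso G)
    (fun f => ShortComplex.mapHomologyIso_hom_naturality
      ((HomologicalComplex.shortComplexFunctor A (ComplexShape.up ℤ) n).map f) G)

/-- the functor induced on derived categories by an exact functor commutes with the homology
functors -/
noncomputable def mapDerivedCategoryHomologyIso (n : ℤ) :
    G.mapDerivedCategory ⋙ DerivedCategory.homologyFunctor B n ≅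
      DerivedCategory.homologyFunctor A n ⋙ G :=
  letI : Localization.Lifting DerivedCategory.Q
      (HomologicalComplex.quasiIso A (ComplexShape.up ℤ))
      (G.mapHomologicalComplex (ComplexShape.up ℤ) ⋙
        HomologicalComplex.homologyFunctor B (ComplexShape.up ℤ) n)
      (G.mapDerivedCategory ⋙ DerivedCategory.homologyFunctor B n) :=
    ⟨(Functor.associator _ _ _).symm ≪≫
      Functor.isoWhiskerRight G.mapDerivedCategoryFactors _ ≪≫ Functor.associator _ _ _ ≪≫
      Functor.isoWhiskerLeft _ (DerivedCategory.homologyFunctorFactors B n)⟩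
  letI : Localization.Lifting DerivedCategory.Q
      (HomologicalComplex.quasiIso A (ComplexShape.up ℤ))
      (HomologicalComplex.homologyFunctor A (ComplexShape.up ℤ) n ⋙ G)
      (DerivedCategory.homologyFunctor A n ⋙ G) :=
    ⟨(Functor.associator _ _ _).symm ≪≫
      Functor.isoWhiskerRight (DerivedCategory.homologyFunctorFactors A n) _⟩
  Localization.liftNatIso DerivedCategory.Q (HomologicalComplex.quasiIso A (ComplexShape.up ℤ))
    (G.mapHomologicalComplex (ComplexShape.up ℤ) ⋙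
        HomologicalComplex.homologyFunctor B (ComplexShape.up ℤ) n)
    (HomologicalComplex.homologyFunctor A (ComplexShape.up ℤ) n ⋙ G) _ _
    (homologyFunctorMapIso G n)

end MapDHomology

section Approx

universe w₁ w₂ v₁ v₂ u₁ u₂

variable {A : Type u₁} [Category.{v₁} A] [Abelian A] [HasDerivedCategory.{w₁} A]

open DerivedCategory

/-- `α` induces isomorphisms on `H^i` for `i > m` and an epimorphism on `H^m` -/
def IsApprox (m : ℤ) {K L : DerivedCategory A} (α : K ⟶ L) : Prop :=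
  (∀ i : ℤ, m < i → IsIso ((homologyFunctor A i).map α)) ∧ Epi ((homologyFunctor A m).map α)

lemma isApprox_of_isIso (m : ℤ) {K L : DerivedCategory A} (α : K ⟶ L) [IsIso α] :
    IsApprox m α :=
  ⟨fun _ _ => inferInstance, inferInstance⟩

lemma IsApprox.comp {m : ℤ} {K L M : DerivedCategory A} {α : K ⟶ L} {β : L ⟶ M}
    (hα : IsApprox m α) (hβ : IsApprox m β) : IsApprox m (α ≫ β) := by
  refine ⟨fun i hi => ?_, ?_⟩
  · haveI := hα.1 i hi
    haveI := hβ.1 i hi
    rw [Functor.map_comp]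
    infer_instance
  · haveI := hα.2
    haveI := hβ.2
    rw [Functor.map_comp]
    infer_instance

lemma IsApprox.of_comp_iso {m : ℤ} {K L M : DerivedCategory A} {α : K ⟶ L} (β : L ⟶ M)
    [IsIso β] (h : IsApprox m (α ≫ β)) : IsApprox m α := by
  have : α = (α ≫ β) ≫ inv β := by simp
  rw [this]
  exact h.comp (isApprox_of_isIso m _)

/-- the criterion on the level of complexes -/
lemma isApprox_Q_map_iff (m : ℤ) {E F : CochainComplex A ℤ} (f : E ⟶ F) :
    IsApprox m (Q.map f) ↔ (∀ i : ℤ, m < i → IsIso (HomologicalComplex.homologyMap f i)) ∧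
      Epi (HomologicalComplex.homologyMap f m) := by
  have key : ∀ i : ℤ, Arrow.mk ((homologyFunctor A i).map (Q.map f)) ≅
      Arrow.mk (HomologicalComplex.homologyMap f i) := fun i =>
    Arrow.isoMk ((homologyFunctorFactors A i).app E) ((homologyFunctorFactors A i).app F)
      ((homologyFunctorFactors A i).hom.naturality f).symm
  unfold IsApprox
  constructor
  · rintro ⟨h1, h2⟩
    exact ⟨fun i hi => ((MorphismProperty.isomorphisms A).arrow_mk_iso_iff (key i)).1 (h1 i hi),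
      ((MorphismProperty.epimorphisms A).arrow_mk_iso_iff (key m)).1 h2⟩
  · rintro ⟨h1, h2⟩
    exact ⟨fun i hi => ((MorphismProperty.isomorphisms A).arrow_mk_iso_iff (key i)).2 (h1 i hi),
      ((MorphismProperty.epimorphisms A).arrow_mk_iso_iff (key m)).2 h2⟩

variable {B : Type u₂} [Category.{v₂} B] [Abelian B] [HasDerivedCategory.{w₂} B]
  (G : A ⥤ B) [G.Additive] [PreservesFiniteLimits G] [PreservesFiniteColimits G]

lemma IsApprox.map {m : ℤ} {K L : DerivedCategory A} {α : K ⟶ L} (h : IsApprox m α) :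
    IsApprox m (G.mapDerivedCategory.map α) := by
  have key : ∀ i : ℤ, Arrow.mk ((homologyFunctor B i).map (G.mapDerivedCategory.map α)) ≅
      Arrow.mk (G.map ((homologyFunctor A i).map α)) := fun i =>
    Arrow.isoMk ((mapDerivedCategoryHomologyIso G i).app K)
      ((mapDerivedCategoryHomologyIso G i).app L)
      ((mapDerivedCategoryHomologyIso G i).hom.naturality α).symm
  refine ⟨fun i hi => ?_, ?_⟩
  · haveI := h.1 i hi
    exact ((MorphismProperty.isomorphisms B).arrow_mk_iso_iff (key i)).2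
      (inferInstanceAs (IsIso (G.map ((homologyFunctor A i).map α))))
  · haveI := h.2
    exact ((MorphismProperty.epimorphisms B).arrow_mk_iso_iff (key m)).2
      (inferInstanceAs (Epi (G.map ((homologyFunctor A m).map α))))

end Approx

section ApproxShift

universe w₁ v₁ u₁

variable {A : Type u₁} [Category.{v₁} A] [Abelian A] [HasDerivedCategory.{w₁} A]

open DerivedCategory

lemma IsApprox.shift {m : ℤ} {K L : DerivedCategory A} {α : K ⟶ L} (h : IsApprox m α) (n : ℤ) :
    IsApprox (m - n) (α⟦n⟧') := by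
  have key : ∀ i : ℤ, Arrow.mk ((homologyFunctor A i).map (α⟦n⟧')) ≅
      Arrow.mk ((homologyFunctor A (n + i)).map α) := fun i =>
    Arrow.isoMk (((homologyFunctor A 0).shiftIso n i (n + i) rfl).app K)
      (((homologyFunctor A 0).shiftIso n i (n + i) rfl).app L)
      (((homologyFunctor A 0).shiftIso n i (n + i) rfl).hom.naturality α).symm
  refine ⟨fun i hi => ?_, ?_⟩
  · exact ((MorphismProperty.isomorphisms A).arrow_mk_iso_iff (key i)).2 (h.1 (n + i) (by omega))
  · have h2 := h.2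
    have e : n + (m - n) = m := by omega
    exact ((MorphismProperty.epimorphisms A).arrow_mk_iso_iff (key (m - n))).2 (by rwa [e])

end ApproxShift

section Five

universe w₁ v₁ u₁

variable {A : Type u₁} [Category.{v₁} A] [Abelian A] [HasDerivedCategory.{w₁} A]

open DerivedCategory Pretriangulated ComposableArrows

lemma IsApprox.epi {m : ℤ} {K L : DerivedCategory A} {α : K ⟶ L} (h : IsApprox m α) (i : ℤ)
    (hi : m ≤ i) : Epi ((homologyFunctor A i).map α) := by
  rcases hi.lt_or_eq with h' | rfl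
  · haveI := h.1 i h'
    infer_instance
  · exact h.2

lemma IsApprox.mono {m : ℤ} {K L : DerivedCategory A} {α : K ⟶ L} (h : IsApprox m α) (i : ℤ)
    (hi : m < i) : Mono ((homologyFunctor A i).map α) := by
  haveI := h.1 i hi
  infer_instance

variable (T T' : Triangle (DerivedCategory A)) (hT : T ∈ distTriang _) (hT' : T' ∈ distTriang _)
  (φ : T ⟶ T')

include hT hT'

lemma epi_homology_hom₃ (i j : ℤ) (hij : i + 1 = j)
    (h₀ : Epi ((homologyFunctor A i).map φ.hom₂)) (h₂ : Epi ((homologyFunctor A j).map φ.hom₁))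
    (h₃ : Mono ((homologyFunctor A j).map φ.hom₂)) :
    Epi ((homologyFunctor A i).map φ.hom₃) := by
  let R₁ : ComposableArrows A 3 := mk₃ ((homologyFunctor A i).map T.mor₂)
    (HomologySequence.δ T i j hij) ((homologyFunctor A j).map T.mor₁)
  let R₂ : ComposableArrows A 3 := mk₃ ((homologyFunctor A i).map T'.mor₂)
    (HomologySequence.δ T' i j hij) ((homologyFunctor A j).map T'.mor₁)
  have hR₁ : R₁.Exact :=
    exact_of_δ₀ (HomologySequence.exact₃ T hT i j hij).exact_toComposableArrows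
      (HomologySequence.exact₁ T hT i j hij).exact_toComposableArrows
  have hR₂ : R₂.Exact :=
    exact_of_δ₀ (HomologySequence.exact₃ T' hT' i j hij).exact_toComposableArrows
      (HomologySequence.exact₁ T' hT' i j hij).exact_toComposableArrows
  let ψ : R₁ ⟶ R₂ := homMk₃ ((homologyFunctor A i).map φ.hom₂)
    ((homologyFunctor A i).map φ.hom₃) ((homologyFunctor A j).map φ.hom₁)
    ((homologyFunctor A j).map φ.hom₂)
    (by
      change (homologyFunctor A i).map T.mor₂ ≫ _ = _ ≫ (homologyFunctor A i).map T'.mor₂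
      rw [← Functor.map_comp, ← Functor.map_comp, φ.comm₂])
    ((homologyFunctor A 0).homologySequenceδ_naturality T T' φ i j hij).symm
    (by
      change (homologyFunctor A j).map T.mor₁ ≫ _ = _ ≫ (homologyFunctor A j).map T'.mor₁
      rw [← Functor.map_comp, ← Functor.map_comp, φ.comm₁])
  exact Abelian.epi_of_epi_of_epi_of_mono ψ hR₁ hR₂ h₀ h₂ h₃

lemma mono_homology_hom₃ (i j : ℤ) (hij : i + 1 = j)
    (h₀ : Epi ((homologyFunctor A i).map φ.hom₁)) (h₁ : Mono ((homologyFunctor A i).map φ.hom₂))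
    (h₃ : Mono ((homologyFunctor A j).map φ.hom₁)) :
    Mono ((homologyFunctor A i).map φ.hom₃) := by
  let R₁ : ComposableArrows A 3 := mk₃ ((homologyFunctor A i).map T.mor₁)
    ((homologyFunctor A i).map T.mor₂) (HomologySequence.δ T i j hij)
  let R₂ : ComposableArrows A 3 := mk₃ ((homologyFunctor A i).map T'.mor₁)
    ((homologyFunctor A i).map T'.mor₂) (HomologySequence.δ T' i j hij)
  have hR₁ : R₁.Exact :=
    exact_of_δ₀ (HomologySequence.exact₂ T hT i).exact_toComposableArrows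
      (HomologySequence.exact₃ T hT i j hij).exact_toComposableArrows
  have hR₂ : R₂.Exact :=
    exact_of_δ₀ (HomologySequence.exact₂ T' hT' i).exact_toComposableArrows
      (HomologySequence.exact₃ T' hT' i j hij).exact_toComposableArrows
  let ψ : R₁ ⟶ R₂ := homMk₃ ((homologyFunctor A i).map φ.hom₁)
    ((homologyFunctor A i).map φ.hom₂) ((homologyFunctor A i).map φ.hom₃)
    ((homologyFunctor A j).map φ.hom₁)
    (by
      change (homologyFunctor A i).map T.mor₁ ≫ _ = _ ≫ (homologyFunctor A i).map T'.mor₁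
      rw [← Functor.map_comp, ← Functor.map_comp, φ.comm₁])
    (by
      change (homologyFunctor A i).map T.mor₂ ≫ _ = _ ≫ (homologyFunctor A i).map T'.mor₂
      rw [← Functor.map_comp, ← Functor.map_comp, φ.comm₂])
    ((homologyFunctor A 0).homologySequenceδ_naturality T T' φ i j hij).symm
  exact Abelian.mono_of_epi_of_mono_of_mono ψ hR₁ hR₂ h₀ h₁ h₃

/-- the five lemma for approximations in a morphism of distinguished triangles -/
theorem isApprox_hom₃ (m : ℤ) (h₁ : IsApprox (m + 1) φ.hom₁) (h₂ : IsApprox m φ.hom₂) :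
    IsApprox m φ.hom₃ := by
  have hepi : ∀ i : ℤ, m ≤ i → Epi ((homologyFunctor A i).map φ.hom₃) := fun i hi =>
    epi_homology_hom₃ T T' hT hT' φ i (i + 1) rfl (h₂.epi i hi) (h₁.epi (i + 1) (by omega))
      (h₂.mono (i + 1) (by omega))
  refine ⟨fun i hi => ?_, hepi m le_rfl⟩
  haveI := hepi i hi.le
  haveI := mono_homology_hom₃ T T' hT hT' φ i (i + 1) rfl (h₁.epi i (by omega)) (h₂.mono i hi)
    (h₁.mono (i + 1) (by omega))
  exact isIso_of_mono_of_epi _

end Five

section Sch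

attribute [local instance] HasDerivedCategory.standard

open Groth.Agent.Lib.T2H8.SchLocHtpy Groth.Agent.Lib.T2H8.PerfLocal DerivedCategory

variable {X : Scheme.{u}}

/-- `K` has an `m`-approximation by a strictly perfect complex after restriction along `j` -/
def PCohAt (m : ℤ) (K : DCoh.D X) {U : Scheme.{u}} (j : U ⟶ X) [IsOpenImmersion j] : Prop :=
  ∃ (E : CochainComplex U.Modules ℤ) (α : Q.obj E ⟶ (rD j).obj K),
    DCoh.IsStrictlyPerfect E ∧ IsApprox m α

lemma PCohAt.refine {m : ℤ} {K : DCoh.D X} {U U' : Scheme.{u}} {j : U ⟶ X} [IsOpenImmersion j]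
    (h : PCohAt m K j) (i : U' ⟶ U) (j' : U' ⟶ X) [IsOpenImmersion i] [IsOpenImmersion j']
    (hij : i ≫ j = j') : PCohAt m K j' := by
  obtain ⟨E, α, hE, hα⟩ := h
  refine ⟨(rC i).obj E, ((Scheme.Modules.restrictFunctor i).mapDerivedCategoryFactors.app E).inv ≫
    (rD i).map α ≫ ((rDComp i j j' hij).app K).hom, isStrictlyPerfect_restrict i E hE, ?_⟩
  exact (isApprox_of_isIso m _).comp
    ((hα.map (Scheme.Modules.restrictFunctor i)).comp (isApprox_of_isIso m _))

lemma PCohAt.of_iso {m : ℤ} {K L : DCoh.D X} (e : K ≅ L) {U : Scheme.{u}} {j : U ⟶ X}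
    [IsOpenImmersion j] (h : PCohAt m K j) : PCohAt m L j := by
  obtain ⟨E, α, hE, hα⟩ := h
  exact ⟨E, α ≫ (rD j).map e.hom, hE, hα.comp (isApprox_of_isIso m _)⟩

lemma PCohAt.of_le_range {m : ℤ} {K : DCoh.D X} {U : Scheme.{u}} {j : U ⟶ X}
    [IsOpenImmersion j] (h : PCohAt m K j) (V : X.Opens) (hV : (V : Set X) ⊆ Set.range j) :
    PCohAt m K V.ι := by
  have hr : Set.range V.ι ⊆ Set.range j := by
    rw [Scheme.Opens.range_ι]
    exact hV
  haveI : IsOpenImmersion (IsOpenImmersion.lift j V.ι hr ≫ j) := by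
    rw [IsOpenImmersion.lift_fac]
    infer_instance
  haveI : IsOpenImmersion (IsOpenImmersion.lift j V.ι hr) := IsOpenImmersion.of_comp _ j
  exact h.refine (IsOpenImmersion.lift j V.ι hr) V.ι (IsOpenImmersion.lift_fac j V.ι hr)

/-- local pseudo-coherence at a point -/
def LocPCoh (m : ℤ) (K : DCoh.D X) (x : X) : Prop :=
  ∃ (U : Scheme.{u}) (j : U ⟶ X) (_ : IsOpenImmersion j) (x' : U), j x' = x ∧ PCohAt m K j

theorem isPseudoCoherentD_iff (m : ℤ) (K : DCoh.D X) :
    DCoh.IsPseudoCoherentD m K ↔ ∀ x : X, LocPCoh m K x := by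
  constructor
  · intro hK x
    obtain ⟨V, hxV, H⟩ := hK x
    obtain ⟨E, α, hE, hiso, hepi⟩ := H (Q.objPreimage K) ⟨Q.objObjPreimageIso K⟩
    refine ⟨↑V, V.ι, inferInstance, ⟨x, hxV⟩, rfl, E,
      α ≫ ((Scheme.Modules.restrictFunctor V.ι).mapDerivedCategoryFactors.app _).inv ≫
        (rD V.ι).map (Q.objObjPreimageIso K).hom, hE, ?_⟩
    exact IsApprox.comp ⟨hiso, hepi⟩ (isApprox_of_isIso m _)
  · intro h x
    obtain ⟨U, j, hj, x', hx', hP⟩ := h x
    have hP' : PCohAt m K j.opensRange.ι :=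
      hP.refine j.isoOpensRange.inv j.opensRange.ι j.isoOpensRange_inv_comp
    refine ⟨j.opensRange, ⟨x', hx'⟩, fun F ⟨eF⟩ => ?_⟩
    obtain ⟨E, α, hE, hα⟩ := hP'
    have h2 : IsApprox m (α ≫ (rD j.opensRange.ι).map eF.inv ≫
        ((Scheme.Modules.restrictFunctor j.opensRange.ι).mapDerivedCategoryFactors.app F).hom) :=
      hα.comp (isApprox_of_isIso m _)
    exact ⟨E, _, hE, h2.1, h2.2⟩

lemma LocPCoh.of_iso {m : ℤ} {K L : DCoh.D X} (e : K ≅ L) {x : X} (h : LocPCoh m K x) :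
    LocPCoh m L x := by
  obtain ⟨U, j, hj, x', hx', hP⟩ := h
  exact ⟨U, j, hj, x', hx', hP.of_iso e⟩

lemma PCohAt.shift {m : ℤ} {K : DCoh.D X} {U : Scheme.{u}} {j : U ⟶ X} [IsOpenImmersion j]
    (h : PCohAt m K j) (n : ℤ) : PCohAt (m - n) (K⟦n⟧) j := by
  obtain ⟨E, α, hE, hα⟩ := h
  refine ⟨E⟦n⟧, ((Q.commShiftIso n).app E).hom ≫ α⟦n⟧' ≫ (((rD j).commShiftIso n).app K).inv,
    isStrictlyPerfect_shift E hE n, ?_⟩
  exact (isApprox_of_isIso _ _).comp ((hα.shift n).comp (isApprox_of_isIso _ _))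

lemma LocPCoh.shift {m : ℤ} {K : DCoh.D X} {x : X} (h : LocPCoh m K x) (n : ℤ) :
    LocPCoh (m - n) (K⟦n⟧) x := by
  obtain ⟨U, j, hj, x', hx', hP⟩ := h
  exact ⟨U, j, hj, x', hx', hP.shift n⟩

end Sch

section Lift

attribute [local instance] HasDerivedCategory.standard

open Groth.Agent.Lib.T2H8.SchLocHtpy Groth.Agent.Lib.T2H8.PerfLocal DerivedCategory

variable {U : Scheme.{u}}

lemma rD_map_Q_map (V : U.Opens) {A A' : CochainComplex U.Modules ℤ} (h : A ⟶ A') :
    (rD V.ι).map (Q.map h) =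
      ((Scheme.Modules.restrictFunctor V.ι).mapDerivedCategoryFactors.app A).hom ≫
        Q.map ((rC V.ι).map h) ≫
        ((Scheme.Modules.restrictFunctor V.ι).mapDerivedCategoryFactors.app A').inv := by
  have := (Scheme.Modules.restrictFunctor V.ι).mapDerivedCategoryFactors_hom_naturality h
  rw [← cancel_mono ((Scheme.Modules.restrictFunctor V.ι).mapDerivedCategoryFactors.app A').hom]
  simp only [Category.assoc, Iso.inv_hom_id, Category.comp_id]
  exact this

/-- local lifting in the derived category: a map from a strictly perfect complex vanishing below `a`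
lifts locally, as a chain map, through an `a`-approximation by a strictly perfect complex -/
theorem exists_local_lift {E E' : CochainComplex U.Modules ℤ}
    (hE : DCoh.IsStrictlyPerfect E) (a : ℤ) (hEa : ∀ j : ℤ, j < a → IsZero (E.X j))
    {B : DCoh.D U} (β : Q.obj E' ⟶ B) (hβ : IsApprox a β) (γ : Q.obj E ⟶ B) (x : U) :
    ∃ (V : U.Opens) (c : (rC V.ι).obj E ⟶ (rC V.ι).obj E'), x ∈ V ∧
      ((Scheme.Modules.restrictFunctor V.ι).mapDerivedCategoryFactors.app E).hom ≫ Q.map c ≫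
        ((Scheme.Modules.restrictFunctor V.ι).mapDerivedCategoryFactors.app E').inv ≫
          (rD V.ι).map β = (rD V.ι).map γ := by
  let F := (Q : _ ⥤ DCoh.D U).objPreimage B
  let e : Q.obj F ≅ B := Q.objObjPreimageIso B
  obtain ⟨F₁, b, s₁, hs₁, hb⟩ := left_fac (β ≫ e.inv)
  obtain ⟨F₂, g, s₂, hs₂, hg⟩ := left_fac (γ ≫ e.inv ≫ Q.map s₁)
  let ι' : B ⟶ Q.obj F₂ := e.inv ≫ Q.map s₁ ≫ Q.map s₂
  haveI : IsIso ι' := by
    dsimp only [ι']
    infer_instance
  have hβι : β ≫ ι' = Q.map (b ≫ s₂) := by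
    dsimp only [ι']
    rw [← Category.assoc, hb, Functor.map_comp]
    simp
  have hγι : γ ≫ ι' = Q.map g := by
    dsimp only [ι']
    rw [← Category.assoc, ← Category.assoc, Category.assoc γ, hg]
    simp
  have hf : IsApprox a (Q.map (b ≫ s₂)) := by
    rw [← hβι]
    exact hβ.comp (isApprox_of_isIso a ι')
  rw [isApprox_Q_map_iff] at hf
  obtain ⟨V, c, hxV, ⟨H⟩⟩ := main_S0933 g (b ≫ s₂) hE a hEa hf.1 hf.2 x
  refine ⟨V, c, hxV, ?_⟩
  rw [← cancel_mono ((rD V.ι).map ι')]
  simp only [Category.assoc]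
  rw [← Functor.map_comp, ← Functor.map_comp, hβι, hγι, rD_map_Q_map, rD_map_Q_map]
  simp only [Iso.inv_hom_id_assoc]
  rw [← Functor.map_comp_assoc, Q_map_eq_of_homotopy _ H]

end Lift

section Main

attribute [local instance] HasDerivedCategory.standard

open Groth.Agent.Lib.T2H8.SchLocHtpy Groth.Agent.Lib.T2H8.PerfLocal DerivedCategory
  Groth.Agent.Lib.T2H8.BrutalTrunc Pretriangulated

variable {X : Scheme.{u}}

lemma isStrictlyPerfect_sigmaGE {U : Scheme.{u}} (E : CochainComplex U.Modules ℤ)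
    (hE : DCoh.IsStrictlyPerfect E) (a : ℤ) : DCoh.IsStrictlyPerfect (sigmaGE E a) := by
  obtain ⟨⟨a', b, hab⟩, hfl⟩ := hE
  refine ⟨⟨a', b, fun i hi => ?_⟩, fun i => ?_⟩
  · by_cases h : a ≤ i
    · exact IsZero.of_iso (hab i hi) (sigmaGEXIso E a i h)
    · exact isZero_sigmaGE_X E a i (by omega)
  · by_cases h : a ≤ i
    · exact isFinLocFree_of_iso (sigmaGEXIso E a i h).symm (hfl i)
    · exact Groth.Agent.Lib.T2H8.PCohFT.isFinLocFree_of_isZero (isZero_sigmaGE_X E a i (by omega))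

/-- in a distinguished triangle, if the first vertex is locally `(m+1)`-pseudo-coherent and the
second locally `m`-pseudo-coherent, the third is locally `m`-pseudo-coherent -/
theorem locPCoh_obj₃ (m : ℤ) (T : Triangle (DCoh.D X)) (hT : T ∈ distTriang (DCoh.D X)) (x : X)
    (h₁ : LocPCoh (m + 1) T.obj₁ x) (h₂ : LocPCoh m T.obj₂ x) : LocPCoh m T.obj₃ x := by
  obtain ⟨U₁, j₁, hj₁, x₁, hx₁, P₁⟩ := h₁
  obtain ⟨U₂, j₂, hj₂, x₂, hx₂, P₂⟩ := h₂
  let W : X.Opens := j₁.opensRange ⊓ j₂.opensRange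
  have hxW : x ∈ W := ⟨⟨x₁, hx₁⟩, ⟨x₂, hx₂⟩⟩
  obtain ⟨E₁, α₁, hE₁, hα₁⟩ := P₁.of_le_range W (fun y hy => hy.1)
  obtain ⟨E₂, α₂, hE₂, hα₂⟩ := P₂.of_le_range W (fun y hy => hy.2)
  -- truncate `E₁`
  let E₁' := sigmaGE E₁ (m + 1)
  have hE₁' : DCoh.IsStrictlyPerfect E₁' := isStrictlyPerfect_sigmaGE E₁ hE₁ (m + 1)
  let α₁' : Q.obj E₁' ⟶ (rD W.ι).obj T.obj₁ := Q.map (sigmaGEι E₁ (m + 1)) ≫ α₁
  have hα₁' : IsApprox (m + 1) α₁' :=
    ((isApprox_Q_map_iff _ _).2 ⟨fun i hi => isIso_homologyMap_sigmaGEι E₁ (m + 1) i hi,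
      epi_homologyMap_sigmaGEι E₁ (m + 1)⟩).comp hα₁
  -- lift
  obtain ⟨V, c, hxV, hc⟩ := exists_local_lift hE₁' m
    (fun j hj => isZero_sigmaGE_X E₁ (m + 1) j (by omega)) α₂ hα₂
    (α₁' ≫ (rD W.ι).map T.mor₁) ⟨x, hxW⟩
  refine ⟨↑V, V.ι ≫ W.ι, inferInstance, ⟨⟨x, hxW⟩, hxV⟩, rfl, ?_⟩
  -- the two distinguished triangles
  have hT₁ := DerivedCategory.mappingCone_triangle_distinguished c
  have hT₂ : (rD (V.ι ≫ W.ι)).mapTriangle.obj T ∈ distTriang _ :=
    (rD (V.ι ≫ W.ι)).map_distinguished T hT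
  let κ := rDComp V.ι W.ι (V.ι ≫ W.ι) rfl
  let f₁ := (Scheme.Modules.restrictFunctor V.ι).mapDerivedCategoryFactors.app E₁'
  let f₂ := (Scheme.Modules.restrictFunctor V.ι).mapDerivedCategoryFactors.app E₂
  let a₁ : Q.obj ((rC V.ι).obj E₁') ⟶ (rD (V.ι ≫ W.ι)).obj T.obj₁ :=
    f₁.inv ≫ (rD V.ι).map α₁' ≫ κ.hom.app T.obj₁
  let a₂ : Q.obj ((rC V.ι).obj E₂) ⟶ (rD (V.ι ≫ W.ι)).obj T.obj₂ :=
    f₂.inv ≫ (rD V.ι).map α₂ ≫ κ.hom.app T.obj₂
  have ha₁ : IsApprox (m + 1) a₁ :=
    (isApprox_of_isIso _ _).comp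
      ((hα₁'.map (Scheme.Modules.restrictFunctor V.ι)).comp (isApprox_of_isIso _ _))
  have ha₂ : IsApprox m a₂ :=
    (isApprox_of_isIso _ _).comp
      ((hα₂.map (Scheme.Modules.restrictFunctor V.ι)).comp (isApprox_of_isIso _ _))
  have comm : Q.map c ≫ a₂ = a₁ ≫ (rD (V.ι ≫ W.ι)).map T.mor₁ := by
    have hnat := κ.hom.naturality T.mor₁
    simp only [Functor.comp_map] at hnat
    have hc' : Q.map c ≫ f₂.inv ≫ (rD V.ι).map α₂ =
        f₁.inv ≫ (rD V.ι).map (α₁' ≫ (rD W.ι).map T.mor₁) := by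
      rw [← hc]
      simp only [f₁, f₂, Iso.inv_hom_id_assoc]
    simp only [a₁, a₂, Category.assoc]
    rw [← hnat, reassoc_of% hc', Functor.map_comp]
    simp only [Category.assoc]
  obtain ⟨a₃, ha₃, ha₃'⟩ := complete_distinguished_triangle_morphism _ _ hT₁ hT₂ a₁ a₂ comm
  let φ : DerivedCategory.Q.mapTriangle.obj (CochainComplex.mappingCone.triangle c) ⟶
      (rD (V.ι ≫ W.ι)).mapTriangle.obj T :=
    { hom₁ := a₁
      hom₂ := a₂
      hom₃ := a₃
      comm₁ := comm
      comm₂ := ha₃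
      comm₃ := ha₃' }
  have h₃ : IsApprox m a₃ := isApprox_hom₃ _ _ hT₁ hT₂ φ m ha₁ ha₂
  exact ⟨CochainComplex.mappingCone c, a₃,
    Groth.Agent.S6516.result c (isStrictlyPerfect_restrict V.ι E₁' hE₁')
      (isStrictlyPerfect_restrict V.ι E₂ hE₂), h₃⟩

theorem main_S0889 {X : Scheme.{u}} (m : ℤ) (T : Triangle (DCoh.D X))
    (hT : T ∈ distinguishedTriangles) :
    (DCoh.IsPseudoCoherentD (m + 1) T.obj₁ → DCoh.IsPseudoCoherentD m T.obj₂ →
      DCoh.IsPseudoCoherentD m T.obj₃) ∧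
    (DCoh.IsPseudoCoherentD m T.obj₁ → DCoh.IsPseudoCoherentD m T.obj₃ →
      DCoh.IsPseudoCoherentD m T.obj₂) ∧
    (DCoh.IsPseudoCoherentD (m + 1) T.obj₂ → DCoh.IsPseudoCoherentD m T.obj₃ →
      DCoh.IsPseudoCoherentD (m + 1) T.obj₁) := by
  simp only [isPseudoCoherentD_iff]
  refine ⟨fun h₁ h₂ x => locPCoh_obj₃ m T hT x (h₁ x) (h₂ x), fun h₁ h₃ x => ?_,
    fun h₂ h₃ x => ?_⟩
  · have h₃' : LocPCoh (m + 1) (T.obj₃⟦(-1 : ℤ)⟧) x := by
      have := (h₃ x).shift (-1)
      have e : m - (-1) = m + 1 := by ring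
      rwa [e] at this
    exact locPCoh_obj₃ m T.invRotate (inv_rot_of_distTriang T hT) x h₃' (h₁ x)
  · have h := locPCoh_obj₃ m T.rotate (rot_of_distTriang T hT) x (h₂ x) (h₃ x)
    have h' := (h.shift (-1)).of_iso ((shiftEquiv (DCoh.D X) (1 : ℤ)).unitIso.app T.obj₁).symm
    have e : m - (-1) = m + 1 := by ring
    rwa [e] at h'

end Main

end Groth.Agent.Lib.T2H8.PCohTriangle
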