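import Mathlib
import Groth.Prelude.Def_DCoh3
import Groth.Prelude.Def_CxOX
import Groth.Agent.Lib.T2H8PCohTriangle

/-!
# Direct summands of pseudo-coherent objects of `D(O_X)` are pseudo-coherent
-/

set_option autoImplicit false
universe u
open CategoryTheory CategoryTheory.Limits Opposite AlgebraicGeometry ZeroObject

namespace Groth.Agent.Lib.T2H8.PCohBiprod

open Groth.Agent.Lib.T2H8.PCohTriangle

section Approx

universe w₁ v₁ u₁

variable {A : Type u₁} [Category.{v₁} A] [Abelian A] [HasDerivedCategory.{w₁} A]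

open DerivedCategory

lemma IsApprox.of_le {m m' : ℤ} {K L : DerivedCategory A} {α : K ⟶ L} (h : IsApprox m α)
    (hm : m ≤ m') : IsApprox m' α :=
  ⟨fun i hi => h.1 i (by omega), h.epi m' hm⟩

end Approx

section Sch

attribute [local instance] HasDerivedCategory.standard

open Groth.Agent.Lib.T2H8.SchLocHtpy Groth.Agent.Lib.T2H8.PerfLocal DerivedCategory Pretriangulated

variable {X : Scheme.{u}}

lemma PCohAt.of_le {m m' : ℤ} {K : DCoh.D X} {U : Scheme.{u}} {j : U ⟶ X} [IsOpenImmersion j]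
    (h : PCohAt m K j) (hm : m ≤ m') : PCohAt m' K j := by
  obtain ⟨E, α, hE, hα⟩ := h
  exact ⟨E, α, hE, IsApprox.of_le hα hm⟩

lemma LocPCoh.of_le {m m' : ℤ} {K : DCoh.D X} {x : X} (h : LocPCoh m K x) (hm : m ≤ m') :
    LocPCoh m' K x := by
  obtain ⟨U, j, hj, x', hx', hP⟩ := h
  exact ⟨U, j, hj, x', hx', PCohAt.of_le hP hm⟩

lemma isStrictlyPerfect_zero (U : Scheme.{u}) :
    DCoh.IsStrictlyPerfect (0 : CochainComplex U.Modules ℤ) := by
  have hz : ∀ i : ℤ, IsZero ((0 : CochainComplex U.Modules ℤ).X i) := fun i =>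
    (HomologicalComplex.eval U.Modules (ComplexShape.up ℤ) i).map_isZero (isZero_zero _)
  exact ⟨⟨0, 0, fun i _ => hz i⟩,
    fun i => Groth.Agent.Lib.T2H8.PCohFT.isFinLocFree_of_isZero (hz i)⟩

/-- an object whose restriction has no cohomology in degrees `≥ n` is `n`-pseudo-coherent there -/
lemma PCohAt.of_isZero_homology (n : ℤ) (K : DCoh.D X) {U : Scheme.{u}} (j : U ⟶ X)
    [IsOpenImmersion j]
    (h : ∀ i : ℤ, n ≤ i → IsZero ((homologyFunctor U.Modules i).obj ((rD j).obj K))) :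
    PCohAt n K j := by
  have hz : ∀ i : ℤ, IsZero ((homologyFunctor U.Modules i).obj
      (Q.obj (0 : CochainComplex U.Modules ℤ))) := fun i =>
    (homologyFunctor U.Modules i).map_isZero (Q.map_isZero (isZero_zero _))
  refine ⟨0, 0, isStrictlyPerfect_zero U, fun i hi => ?_, ?_⟩
  · exact ⟨⟨0, (hz i).eq_of_src _ _, (h i hi.le).eq_of_src _ _⟩⟩
  · exact (h n le_rfl).epi _

/-- a retract of an `m`-pseudo-coherent object is `n`-pseudo-coherent for some `n` -/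
lemma PCohAt.exists_of_retract {m : ℤ} {K S : DCoh.D X} (i₁ : K ⟶ S) (p₁ : S ⟶ K)
    (h₁ : i₁ ≫ p₁ = 𝟙 K) {U : Scheme.{u}} {j : U ⟶ X} [IsOpenImmersion j] (h : PCohAt m S j) :
    ∃ n : ℤ, ∀ n' : ℤ, n ≤ n' → PCohAt n' K j := by
  obtain ⟨E, α, ⟨⟨a, b, hab⟩, -⟩, hα⟩ := h
  refine ⟨max m b + 1, fun n' hn' => PCohAt.of_isZero_homology n' K j (fun i hi => ?_)⟩
  have hEz : IsZero ((homologyFunctor U.Modules i).obj (Q.obj E)) := by
    refine IsZero.of_iso ?_ ((homologyFunctorFactors U.Modules i).app E)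
    exact (HomologicalComplex.exactAt_iff_isZero_homology _ _).1
      (ShortComplex.exact_of_isZero_X₂ _ (hab i (Or.inr (by omega))))
  haveI := hα.1 i (by omega)
  have hSz : IsZero ((homologyFunctor U.Modules i).obj ((rD j).obj S)) :=
    IsZero.of_iso hEz (asIso ((homologyFunctor U.Modules i).map α)).symm
  rw [IsZero.iff_id_eq_zero]
  have : 𝟙 ((homologyFunctor U.Modules i).obj ((rD j).obj K)) =
      (homologyFunctor U.Modules i).map ((rD j).map i₁) ≫
        (homologyFunctor U.Modules i).map ((rD j).map p₁) := by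
    rw [← Functor.map_comp, ← Functor.map_comp, h₁, CategoryTheory.Functor.map_id,
      CategoryTheory.Functor.map_id]
  rw [this, hSz.eq_of_tgt ((homologyFunctor U.Modules i).map ((rD j).map i₁)) 0, zero_comp]

/-- the key descending induction -/
theorem locPCoh_of_split (m : ℤ) {K L S : DCoh.D X} (i₁ : K ⟶ S) (p₁ : S ⟶ K) (i₂ : L ⟶ S)
    (p₂ : S ⟶ L) (h₁ : i₁ ≫ p₁ = 𝟙 K) (h₂ : i₂ ≫ p₂ = 𝟙 L)
    (hT₁ : Triangle.mk i₁ p₂ (0 : L ⟶ K⟦(1 : ℤ)⟧) ∈ distTriang (DCoh.D X))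
    (hT₂ : Triangle.mk i₂ p₁ (0 : K ⟶ L⟦(1 : ℤ)⟧) ∈ distTriang (DCoh.D X))
    (x : X) (hS : LocPCoh m S x) : LocPCoh m K x ∧ LocPCoh m L x := by
  obtain ⟨U, j, hj, x', hx', hP⟩ := hS
  obtain ⟨n₁, hn₁⟩ := PCohAt.exists_of_retract i₁ p₁ h₁ hP
  obtain ⟨n₂, hn₂⟩ := PCohAt.exists_of_retract i₂ p₂ h₂ hP
  let n := max m (max n₁ n₂)
  have key : ∀ k : ℕ, m ≤ n - k → LocPCoh (n - k) K x ∧ LocPCoh (n - k) L x := by
    intro k
    induction k with
    | zero =>
      intro _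
      exact ⟨⟨U, j, hj, x', hx', hn₁ _ (by simp only [n]; omega)⟩,
        ⟨U, j, hj, x', hx', hn₂ _ (by simp only [n]; omega)⟩⟩
    | succ k ih =>
      intro hk
      obtain ⟨hK, hL⟩ := ih (by push_cast at hk; omega)
      have hS' : LocPCoh (n - (k + 1 : ℕ)) S x :=
        LocPCoh.of_le ⟨U, j, hj, x', hx', hP⟩ hk
      have e : n - (k : ℤ) = (n - ((k + 1 : ℕ) : ℤ)) + 1 := by push_cast; ring
      rw [e] at hK hL
      exact ⟨locPCoh_obj₃ _ _ hT₂ x hL hS', locPCoh_obj₃ _ _ hT₁ x hK hS'⟩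
  have := key (n - m).toNat (by simp only [n]; omega)
  have e : n - ((n - m).toNat : ℤ) = m := by
    simp only [n]
    omega
  rwa [e] at this

theorem main_S0888 {X : Scheme.{u}} (m : ℤ) (K L : DCoh.D X) [HasBinaryBiproduct K L]
    (h : DCoh.IsPseudoCoherentD m (K ⊞ L)) :
    DCoh.IsPseudoCoherentD m K ∧ DCoh.IsPseudoCoherentD m L := by
  simp only [isPseudoCoherentD_iff] at h ⊢
  have hT₁ : Triangle.mk (biprod.inl : K ⟶ K ⊞ L) (biprod.snd : K ⊞ L ⟶ L)
      (0 : L ⟶ K⟦(1 : ℤ)⟧) ∈ distTriang (DCoh.D X) :=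
    binaryBiproductTriangle_distinguished K L
  have hT₂ : Triangle.mk (biprod.inr : L ⟶ K ⊞ L) (biprod.fst : K ⊞ L ⟶ K)
      (0 : K ⟶ L⟦(1 : ℤ)⟧) ∈ distTriang (DCoh.D X) := by
    refine isomorphic_distinguished _ (binaryBiproductTriangle_distinguished L K) _ ?_
    exact Triangle.isoMk _ _ (Iso.refl _) (biprod.braiding K L) (Iso.refl _)
      (by
        change (biprod.inr : L ⟶ K ⊞ L) ≫ (biprod.braiding K L).hom =
          𝟙 L ≫ (biprod.inl : L ⟶ L ⊞ K)
        rw [Category.id_comp]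
        apply biprod.hom_ext <;> simp)
      (by
        change (biprod.fst : K ⊞ L ⟶ K) ≫ 𝟙 K =
          (biprod.braiding K L).hom ≫ (biprod.snd : L ⊞ K ⟶ K)
        simp)
      (by
        change (0 : K ⟶ L⟦(1 : ℤ)⟧) ≫ (𝟙 L)⟦(1 : ℤ)⟧' = 𝟙 K ≫ 0
        simp)
  have key := fun x => locPCoh_of_split m (biprod.inl : K ⟶ K ⊞ L) biprod.fst biprod.inr biprod.snd
    (by simp) (by simp) hT₁ hT₂ x (h x)
  exact ⟨fun x => (key x).1, fun x => (key x).2⟩

end Sch

end Groth.Agent.Lib.T2H8.PCohBiprod
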