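import Mathlib
import Groth.Prelude.Def_DerSch2
import Groth.Agent.Lib.T2H8PCohBiprod
import Groth.Agent.Lib.T2H5ClosedLin
import Groth.Agent.Lib.Helper23ModLocal

/-!
# Pseudo-coherent objects on a quasi-compact scheme are bounded above (absolute and relative)
-/

set_option autoImplicit false
universe u
open CategoryTheory CategoryTheory.Limits Opposite AlgebraicGeometry ZeroObject

namespace Groth.Agent.Lib.T2H8.PCohBdd

open Groth.Agent.Lib.T2H8.PCohTriangle Groth.Agent.Lib.T2H8.PCohBiprod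
open Groth.Agent.Lib.T2H8.SchLocHtpy Groth.Agent.Lib.T2H8.PerfLocal DerivedCategory

attribute [local instance] HasDerivedCategory.standard

section Abs

variable {Z : Scheme.{u}}

lemma PCohAt.exists_bound {m : ℤ} {K : DCoh.D Z} {U : Scheme.{u}} {j : U ⟶ Z}
    [IsOpenImmersion j] (h : PCohAt m K j) :
    ∃ b : ℤ, ∀ i : ℤ, b < i →
      IsZero ((Scheme.Modules.restrictFunctor j).obj (DCoh.HD K i)) := by
  obtain ⟨E, α, ⟨⟨a, b, hab⟩, -⟩, hα⟩ := h
  refine ⟨max m b, fun i hi => ?_⟩
  have hEz : IsZero ((homologyFunctor U.Modules i).obj (Q.obj E)) := by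
    refine IsZero.of_iso ?_ ((homologyFunctorFactors U.Modules i).app E)
    exact (HomologicalComplex.exactAt_iff_isZero_homology _ _).1
      (ShortComplex.exact_of_isZero_X₂ _ (hab i (Or.inr (by omega))))
  haveI := hα.1 i (by omega)
  have hSz : IsZero ((homologyFunctor U.Modules i).obj ((rD j).obj K)) :=
    IsZero.of_iso hEz (asIso ((homologyFunctor U.Modules i).map α)).symm
  exact IsZero.of_iso hSz
    ((mapDerivedCategoryHomologyIso (Scheme.Modules.restrictFunctor j) i).app K).symm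

/-- an `m`-pseudo-coherent object on a quasi-compact scheme has cohomology bounded above -/
theorem exists_bound_of_isPseudoCoherentD [CompactSpace Z] (m : ℤ) (K : DCoh.D Z)
    (hK : DCoh.IsPseudoCoherentD m K) : ∃ b : ℤ, ∀ i : ℤ, b < i → IsZero (DCoh.HD K i) := by
  rw [isPseudoCoherentD_iff] at hK
  choose U j hj x' hx' hP using hK
  choose b hb using fun x => PCohAt.exists_bound (hP x)
  obtain ⟨t, ht⟩ := CompactSpace.elim_nhds_subcover (fun x => Set.range (j x))
    (fun x => (hj x).base_open.isOpen_range.mem_nhds ⟨x' x, hx' x⟩)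
  obtain ⟨B, hB⟩ := (t.image b).exists_le
  refine ⟨B, fun i hi => ?_⟩
  haveI : ∀ x : t, IsOpenImmersion (j x.1) := fun x => hj x.1
  refine Groth.Agent.Lib.Helper23.ModLocal.isZero_of_isZero_restrict
    (fun x : t => U x.1) (fun x : t => j x.1) (fun z => ?_) (fun x => ?_)
  · have hz : z ∈ ⋃ x ∈ t, Set.range (j x) := by rw [ht]; trivial
    simp only [Set.mem_iUnion] at hz
    obtain ⟨x, hx, y, hy⟩ := hz
    exact ⟨⟨x, hx⟩, y, hy⟩
  · exact hb x.1 i (lt_of_le_of_lt (hB _ (Finset.mem_image_of_mem b x.2)) hi)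

end Abs

section Rel

variable {X Y : Scheme.{u}}

/-- the direct image along a closed immersion reflects zero objects -/
lemma isZero_of_isZero_pushforward {A B : Scheme.{u}} (i : A ⟶ B) [IsClosedImmersion i]
    (M : A.Modules) (h : IsZero ((Scheme.Modules.pushforward i).obj M)) : IsZero M := by
  refine Groth.Agent.Lib.Helper23.ModLocal.isZero_of_forall_eq_zero fun W s => ?_
  obtain ⟨W', hW'o, hW'⟩ := i.isClosedEmbedding.isInducing.isOpen_iff.1 W.2
  obtain rfl : i ⁻¹ᵁ (⟨W', hW'o⟩ : B.Opens) = W := TopologicalSpace.Opens.ext hW'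
  exact Groth.Agent.Lib.Helper23.ModLocal.eq_zero_of_isZero h ⟨W', hW'o⟩ s

lemma isClosedImmersion_chartImm (U : X.Opens) (hU : IsAffineOpen U) {R : Type u} [CommRing R]
    {n : ℕ} (φ : MvPolynomial (Fin n) R →+* Γ(X, U)) (hφ : Function.Surjective φ) :
    IsClosedImmersion (DerSch.chartImm U φ) := by
  haveI : IsIso U.toSpecΓ := by
    rw [← hU.isoSpec_hom]
    infer_instance
  haveI : IsClosedImmersion (Spec.map (CommRingCat.ofHom φ)) :=
    IsClosedImmersion.spec_of_surjective _ hφ
  unfold DerSch.chartImm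
  infer_instance

/-- the direct image along a closed immersion is exact -/
lemma preservesFiniteColimits_pushforward {A B : Scheme.{u}} (i : A ⟶ B) [IsClosedImmersion i] :
    PreservesFiniteColimits (Scheme.Modules.pushforward i) := by
  haveI : PreservesLimitsOfSize.{0, 0} (Scheme.Modules.pushforward i) :=
    (Scheme.Modules.pullbackPushforwardAdjunction i).rightAdjoint_preservesLimits
  haveI : PreservesFiniteLimits (Scheme.Modules.pushforward i) :=
    PreservesLimitsOfSize.preservesFiniteLimits _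
  haveI : (Scheme.Modules.pushforward i).PreservesEpimorphisms :=
    ⟨fun g _ => Groth.Agent.Lib.T2H5.ClosedLin.epi_pushforward_map i g⟩
  haveI : (Scheme.Modules.pushforward i).PreservesHomology :=
    Functor.preservesHomology_of_preservesEpis_and_kernels _
  exact Functor.preservesFiniteColimits_of_preservesHomology _

lemma preservesFiniteLimits_pushforward {A B : Scheme.{u}} (i : A ⟶ B) :
    PreservesFiniteLimits (Scheme.Modules.pushforward i) := by
  haveI : PreservesLimitsOfSize.{0, 0} (Scheme.Modules.pushforward i) :=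
    (Scheme.Modules.pullbackPushforwardAdjunction i).rightAdjoint_preservesLimits
  exact PreservesLimitsOfSize.preservesFiniteLimits _

/-- on one chart: a bound for the cohomology of the restriction -/
lemma exists_bound_of_chartPC (m : ℤ) (G : CochainComplex X.Modules ℤ)
    (U : X.Opens) (hU : IsAffineOpen U) (V : Y.Opens) {n : ℕ}
    (φ : MvPolynomial (Fin n) Γ(Y, V) →+* Γ(X, U)) (hφ : Function.Surjective φ)
    (h : DerSch.ChartPC m (DCoh.toD X G) U V φ) :
    ∃ b : ℤ, ∀ i : ℤ, b < i →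
      IsZero ((Scheme.Modules.restrictFunctor U.ι).obj (G.homology i)) := by
  haveI := isClosedImmersion_chartImm U hU φ hφ
  haveI := preservesFiniteColimits_pushforward (DerSch.chartImm U φ)
  haveI := preservesFiniteLimits_pushforward (DerSch.chartImm U φ)
  obtain ⟨b, hb⟩ := exists_bound_of_isPseudoCoherentD m _ (h G ⟨Iso.refl _⟩)
  refine ⟨b, fun i hi => ?_⟩
  have h1 := hb i hi
  have h2 : IsZero (((DerSch.pushCx (DerSch.chartImm U φ)).obj
      ((DCoh.restrictCx U).obj G)).homology i) :=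
    IsZero.of_iso h1 ((homologyFunctorFactors _ i).app _).symm
  have h3 : IsZero ((Scheme.Modules.pushforward (DerSch.chartImm U φ)).obj
      (((DCoh.restrictCx U).obj G).homology i)) :=
    IsZero.of_iso h2 ((homologyFunctorMapIso
      (Scheme.Modules.pushforward (DerSch.chartImm U φ)) i).app _).symm
  have h4 := isZero_of_isZero_pushforward _ _ h3
  exact IsZero.of_iso h4 ((homologyFunctorMapIso (Scheme.Modules.restrictFunctor U.ι) i).app G).symm

theorem main_S6236 {X Y : Scheme.{u}} [CompactSpace X] (f : X ⟶ Y) (n : ℤ)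
    (E : DCoh.D X) (hE : DerSch.IsPseudoCoherentRel f n E) : ∃ b : ℤ, E.IsLE b := by
  obtain ⟨hf, 𝒱, h𝒱, h⟩ := hE
  let G := (Q (C := X.Modules)).objPreimage E
  let e : Q.obj G ≅ E := Q.objObjPreimageIso E
  have hloc : ∀ x : X, ∃ (U : X.Opens) (b : ℤ), x ∈ U ∧ ∀ i : ℤ, b < i →
      IsZero ((Scheme.Modules.restrictFunctor U.ι).obj (G.homology i)) := by
    intro x
    have hx : f x ∈ (⨆ V ∈ 𝒱, (V : Y.Opens)) := by rw [h𝒱]; trivial
    simp only [TopologicalSpace.Opens.mem_iSup] at hx
    obtain ⟨V, hV, hxV⟩ := hx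
    obtain ⟨𝒰, h𝒰, hch⟩ := h V hV
    have hx' : x ∈ (⨆ U ∈ 𝒰, (U : X.Opens)) := by rw [h𝒰]; exact hxV
    simp only [TopologicalSpace.Opens.mem_iSup] at hx'
    obtain ⟨U, hU, hxU⟩ := hx'
    have hUV : (U : X.Opens) ≤ f ⁻¹ᵁ (V : Y.Opens) := by
      rw [← h𝒰]
      exact le_iSup₂ (f := fun (U : X.affineOpens) (_ : U ∈ 𝒰) => (U : X.Opens)) U hU
    obtain ⟨k, φ, hφ, hpc⟩ := hch U hU hUV
    have hpc' : DerSch.ChartPC n (DCoh.toD X G) (U : X.Opens) (V : Y.Opens) φ :=
      fun G' ⟨e'⟩ => hpc G' ⟨e' ≪≫ e⟩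
    have hsurj : Function.Surjective φ := hφ.1
    have hUa : IsAffineOpen (U : X.Opens) := U.2
    obtain ⟨b, hb⟩ := exists_bound_of_chartPC (X := X) (Y := Y) n G (U : X.Opens) hUa
      (V : Y.Opens) φ hsurj hpc'
    exact ⟨(U : X.Opens), b, hxU, hb⟩
  choose U b hxU hb using hloc
  obtain ⟨t, ht⟩ := CompactSpace.elim_nhds_subcover (fun x => ((U x : X.Opens) : Set X))
    (fun x => (U x).2.mem_nhds (hxU x))
  obtain ⟨B, hB⟩ := (t.image b).exists_le
  refine ⟨B, ?_⟩
  rw [DerivedCategory.isLE_iff]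
  intro i hi
  refine IsZero.of_iso ?_ ((homologyFunctor X.Modules i).mapIso e.symm ≪≫
    (homologyFunctorFactors X.Modules i).app G)
  refine Groth.Agent.Lib.Helper23.ModLocal.isZero_of_isZero_restrict
    (fun x : t => ((U x.1 : X.Opens) : Scheme.{u})) (fun x : t => (U x.1).ι) (fun z => ?_)
    (fun x => ?_)
  · have hz : z ∈ ⋃ x ∈ t, ((U x : X.Opens) : Set X) := by rw [ht]; trivial
    simp only [Set.mem_iUnion] at hz
    obtain ⟨x, hx, hzx⟩ := hz
    exact ⟨⟨x, hx⟩, ⟨z, hzx⟩, rfl⟩
  · exact hb x.1 i (lt_of_le_of_lt (hB _ (Finset.mem_image_of_mem b x.2)) hi)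

end Rel

end Groth.Agent.Lib.T2H8.PCohBdd
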