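import Groth.Agent.Lib.T2H2FinPushB
import Groth.Agent.Lib.T2H8PCohBdd
import Groth.Prelude.Def_DerSch2

/-!
# Chart-form pseudo-coherence of the structure sheaf: dictionary with the ring level (T2H1)

For an affine open `U` of `X` and a surjection `φ : R[x₁..xₙ] → Γ(X, U)`, the direct image of
`O_U` along the closed immersion `chartImm U φ : U ⟶ 𝔸ⁿ_R` is `B~` for `B = Γ(X, U)` viewed as a
module over the polynomial ring; hence `ChartPC m O_X[0] U V φ` holds iff `B` is an
`m`-pseudo-coherent module over the polynomial ring.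
-/

set_option autoImplicit false
set_option linter.style.haveILetI false
universe u
open CategoryTheory CategoryTheory.Limits AlgebraicGeometry Opposite

attribute [local instance] HasDerivedCategory.standard

namespace Groth.Agent.Lib.T2H1.ChartPC

open Scheme.Modules Groth.Agent.Lib.T2H8.PerfLocal Groth.Agent.Lib.T2H2.AffRed
  Groth.Agent.Lib.T2H2.TildeLoc Groth.Agent.Lib.T2H2.IsoBC DerivedCategory
  Groth.Agent.Lib.T2H8.PCohBdd

variable {X Y : Scheme.{u}}

section Push

variable (U : X.Opens) (hU : IsAffineOpen U) {R : Type u} [CommRing R] {n : ℕ}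
  (φ : MvPolynomial (Fin n) R →+* Γ(X, U))

/-- the direct image of `O_U` along the chart immersion is `B~` -/
noncomputable def pushUnitIso :
    (pushforward (DerSch.chartImm U φ)).obj (Coh.structureModule (U : Scheme.{u})) ≅
      (tilde.functor (CommRingCat.of (MvPolynomial (Fin n) R))).obj
        ((ModuleCat.restrictScalars φ).obj (ModuleCat.of Γ(X, U) Γ(X, U))) :=
  ((pushforwardComp U.toSpecΓ (Spec.map (CommRingCat.ofHom φ))).symm.app _) ≪≫
    (pushforward (Spec.map (CommRingCat.ofHom φ))).mapIso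
      ((pushforwardCongr hU.isoSpec_hom.symm).app _ ≪≫
        ((restrictIsoPushforward hU.isoSpec.symm).symm.app _) ≪≫
        restrictUnitIso hU.isoSpec.symm.hom ≪≫ tildeSelf.symm) ≪≫
    (Groth.Agent.Lib.T2H2.TildePush.tildePushIso (CommRingCat.ofHom φ)).app (ModuleCat.of _ _)

end Push

section Derived

variable (U : X.Opens) {Z : Scheme.{u}} (i : (U : Scheme.{u}) ⟶ Z) [IsClosedImmersion i]

/-- `G ↦ Q (i_* (G|_U))` only depends on the class of `G` in `D(O_X)` -/
theorem nonempty_push_restrict_iso {G G' : CochainComplex X.Modules ℤ}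
    (e : DCoh.toD X G ≅ DCoh.toD X G') :
    Nonempty (DCoh.toD Z ((DerSch.pushCx i).obj ((DCoh.restrictCx U).obj G)) ≅
      DCoh.toD Z ((DerSch.pushCx i).obj ((DCoh.restrictCx U).obj G'))) := by
  haveI := preservesFiniteColimits_pushforward i
  haveI := preservesFiniteLimits_pushforward i
  let F₁ := Scheme.Modules.restrictFunctor U.ι
  let F₂ := Scheme.Modules.pushforward i
  have e1 : ∀ H : CochainComplex X.Modules ℤ,
      DCoh.toD Z ((DerSch.pushCx i).obj ((DCoh.restrictCx U).obj H)) ≅
        F₂.mapDerivedCategory.obj (F₁.mapDerivedCategory.obj (DCoh.toD X H)) := fun H =>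
    (F₂.mapDerivedCategoryFactors.app _).symm ≪≫
      F₂.mapDerivedCategory.mapIso (F₁.mapDerivedCategoryFactors.app H).symm
  exact ⟨e1 G ≪≫ F₂.mapDerivedCategory.mapIso (F₁.mapDerivedCategory.mapIso e) ≪≫ (e1 G').symm⟩

end Derived

section Unit

variable (U : X.Opens) (hU : IsAffineOpen U) {R : Type u} [CommRing R] {n : ℕ}
  (φ : MvPolynomial (Fin n) R →+* Γ(X, U))

/-- the object of `D(𝔸ⁿ_R)` attached to `O_X[0]` on the chart `φ` is `B~[0]` -/
noncomputable def chartUnitIso :
    DCoh.toD (Spec (CommRingCat.of (MvPolynomial (Fin n) R)))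
      ((DerSch.pushCx (DerSch.chartImm U φ)).obj ((DCoh.restrictCx U).obj (DerSch.unitCx X))) ≅
    (DCoh.tildeD (CommRingCat.of (MvPolynomial (Fin n) R))).obj
      ((Groth.Agent.Lib.Helper1.Restrict.G φ).obj (ModuleCat.of Γ(X, U) Γ(X, U))) :=
  DerivedCategory.Q.mapIso
    ((DerSch.pushCx (DerSch.chartImm U φ)).mapIso
      ((HomologicalComplex.singleMapHomologicalComplex (Scheme.Modules.restrictFunctor U.ι)
        (ComplexShape.up ℤ) 0).app (Coh.structureModule X) ≪≫
        (HomologicalComplex.single _ (ComplexShape.up ℤ) 0).mapIso (restrictUnitIso U.ι)) ≪≫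
      (HomologicalComplex.singleMapHomologicalComplex
        (Scheme.Modules.pushforward (DerSch.chartImm U φ)) (ComplexShape.up ℤ) 0).app _ ≪≫
      (HomologicalComplex.single _ (ComplexShape.up ℤ) 0).mapIso (pushUnitIso U hU φ)) ≪≫
    ((DerivedCategory.singleFunctorIsoCompQ _ 0).app _).symm ≪≫
    (((tilde.functor _).mapDerivedCategorySingleFunctor 0).app _).symm

end Unit

section Dict

variable (U : X.Opens) (hU : IsAffineOpen U) (V : Y.Opens) {n : ℕ}
  (φ : MvPolynomial (Fin n) Γ(Y, V) →+* Γ(X, U)) (hφ : Function.Surjective φ) (m : ℤ)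

include hU hφ in
/-- **Dictionary**: the chart test for `O_X[0]` is `m`-pseudo-coherence of `Γ(X, U)` over the
polynomial ring. -/
theorem chartPC_unit_iff :
    DerSch.ChartPC m (DCoh.toD X (DerSch.unitCx X)) U V φ ↔
      DRing.IsPseudoCoherent (MvPolynomial (Fin n) Γ(Y, V)) m
        ((Groth.Agent.Lib.Helper1.Restrict.G φ).obj (ModuleCat.of Γ(X, U) Γ(X, U))) := by
  constructor
  · intro h
    have h1 := h (DerSch.unitCx X) ⟨Iso.refl _⟩
    exact isPC_of_isPseudoCoherentD_tildeD _ _ m
      (isPseudoCoherentD_of_iso (chartUnitIso U hU φ) m h1)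
  · intro h G ⟨e⟩
    haveI := isClosedImmersion_chartImm U hU φ hφ
    obtain ⟨θ⟩ := nonempty_push_restrict_iso U (DerSch.chartImm U φ) e
    exact isPseudoCoherentD_of_iso (θ ≪≫ chartUnitIso U hU φ).symm m
      (isPseudoCoherentD_tildeD_of_isPC _ _ m h)

end Dict

end Groth.Agent.Lib.T2H1.ChartPC
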