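import Groth.Agent.Lib.T2H7PdPC2
import Groth.Agent.Lib.Helper1Restrict
import Groth.Agent.S6935

/-!
# Ring-level input for chart-form pseudo-coherence of the structure sheaf (T2H1)
-/

set_option autoImplicit false
set_option linter.style.haveILetI false
universe u
open CategoryTheory CategoryTheory.Limits

attribute [local instance] HasDerivedCategory.standard

namespace Groth.Agent.Lib.T2H1.ChartPCRing

open Groth.Agent.Lib.Helper1.Restrict Groth.Agent.Lib.Helper1.PC Groth.Agent.Lib.T2H7.PdPC

variable {A B : Type u} [CommRing A] [CommRing B] {n : ℕ}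
  (φ : MvPolynomial (Fin n) A →+* B)

/-- `B` is `(-1)`-pseudo-coherent over the polynomial ring iff `A → B` is of finite presentation -/
theorem isPC_negOne_iff_finitePresentation (hφ : Function.Surjective φ) :
    DRing.IsPseudoCoherent (MvPolynomial (Fin n) A) (-1) ((G φ).obj (ModuleCat.of B B)) ↔
      (φ.comp MvPolynomial.C).FinitePresentation := by
  have h35 := (Groth.Agent.S6935.result (MvPolynomial (Fin n) A)
    ((ModuleCat.restrictScalars.{u} φ).obj (ModuleCat.of B B))).2
  refine Iff.trans (Iff.trans Iff.rfl h35) ?_
  letI iAB : Algebra A B := (φ.comp MvPolynomial.C).toAlgebra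
  letI iPB : Module (MvPolynomial (Fin n) A) B := Module.compHom B φ
  let φa : MvPolynomial (Fin n) A →ₐ[A] B := { φ with commutes' := fun a => rfl }
  let l : MvPolynomial (Fin n) A →ₗ[MvPolynomial (Fin n) A] B :=
    { toFun := φ
      map_add' := map_add φ
      map_smul' := fun p q => by
        show φ (p * q) = φ p * φ q
        exact map_mul φ p q }
  have hl : Function.Surjective l := hφ
  have hker : (LinearMap.ker l : Submodule (MvPolynomial (Fin n) A) (MvPolynomial (Fin n) A)) =
      RingHom.ker φ := by
    ext p
    rfl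
  change Module.FinitePresentation (MvPolynomial (Fin n) A) B ↔ Algebra.FinitePresentation A B
  constructor
  · intro h
    have hfg : (LinearMap.ker l).FG := Module.FinitePresentation.fg_ker l hl
    rw [hker] at hfg
    exact Algebra.FinitePresentation.iff_quotient_mvPolynomial'.2
      ⟨Fin n, inferInstance, φa, hφ, hfg⟩
  · intro h
    have hfg : (RingHom.ker φa.toRingHom).FG :=
      Algebra.FinitePresentation.ker_fG_of_surjective φa hφ
    refine Module.finitePresentation_of_surjective l hl ?_
    rw [hker]
    exact hfg

/-- a pseudo-coherent ring map makes `B` a pseudo-coherent module over any polynomial ring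
surjecting onto it -/
theorem isPC_of_pcHom [Algebra A B] (hφ : Function.Surjective φ)
    (hC : φ.comp MvPolynomial.C = algebraMap A B) (h : MoreMor.IsPseudoCoherentHom A B) (m : ℤ) :
    DRing.IsPseudoCoherent (MvPolynomial (Fin n) A) m ((G φ).obj (ModuleCat.of B B)) := by
  have hcomm : ∀ a : A, φ (MvPolynomial.C a) = algebraMap A B a := fun a => by
    rw [← hC]; rfl
  let φa : MvPolynomial (Fin n) A →ₐ[A] B := { φ with commutes' := hcomm }
  have h1 := (isPseudoCoherentHom_iff_via φa hφ).1 h m
  exact isPC_of_iso (restrictDSingleIso (φa : MvPolynomial (Fin n) A →+* B) (ModuleCat.of B B) 0) h1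

/-- conversely -/
theorem pcHom_of_isPC [Algebra A B] (hφ : Function.Surjective φ)
    (hC : φ.comp MvPolynomial.C = algebraMap A B)
    (h : ∀ m : ℤ, DRing.IsPseudoCoherent (MvPolynomial (Fin n) A) m
      ((G φ).obj (ModuleCat.of B B))) : MoreMor.IsPseudoCoherentHom A B := by
  have hcomm : ∀ a : A, φ (MvPolynomial.C a) = algebraMap A B a := fun a => by
    rw [← hC]; rfl
  let φa : MvPolynomial (Fin n) A →ₐ[A] B := { φ with commutes' := hcomm }
  refine (isPseudoCoherentHom_iff_via φa hφ).2 fun m => ?_
  exact isPC_of_iso (restrictDSingleIso (φa : MvPolynomial (Fin n) A →+* B)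
    (ModuleCat.of B B) 0).symm (h m)

end Groth.Agent.Lib.T2H1.ChartPCRing
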