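import Groth.Agent.Lib.T2H1ChartPC
import Groth.Agent.Lib.T2H1ChartPCRing

/-!
# `n`-pseudo-coherent morphisms (chart form) and ring maps (T2H1)
-/

set_option autoImplicit false
set_option linter.style.haveILetI false
universe u
open CategoryTheory CategoryTheory.Limits AlgebraicGeometry Opposite

attribute [local instance] HasDerivedCategory.standard

namespace Groth.Agent.Lib.T2H1.ChartPC

open Groth.Agent.Lib.Helper1.Restrict Groth.Agent.Lib.T2H1.ChartPCRing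

variable {X Y : Scheme.{u}} (f : X ⟶ Y)

/-- charts exist on affine pairs for morphisms locally of finite type -/
theorem exists_chart [LocallyOfFiniteType f] {U : X.Opens} (hU : IsAffineOpen U) {V : Y.Opens}
    (hV : IsAffineOpen V) (h : U ≤ f ⁻¹ᵁ V) :
    ∃ (n : ℕ) (φ : MvPolynomial (Fin n) Γ(Y, V) →+* Γ(X, U)), DerSch.IsChart f U V h φ := by
  have hft : (f.appLE V U h).hom.FiniteType := f.finiteType_appLE hV hU h
  letI iAB : Algebra Γ(Y, V) Γ(X, U) := (f.appLE V U h).hom.toAlgebra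
  haveI : Algebra.FiniteType Γ(Y, V) Γ(X, U) := hft
  obtain ⟨n, π, hπ⟩ := Algebra.FiniteType.iff_quotient_mvPolynomial''.1
    (inferInstance : Algebra.FiniteType Γ(Y, V) Γ(X, U))
  refine ⟨n, π.toRingHom, hπ, ?_⟩
  refine RingHom.ext fun a => ?_
  show π (MvPolynomial.C a) = (f.appLE V U h).hom a
  rw [← MvPolynomial.algebraMap_eq, π.commutes]
  rfl

/-- the morphism is `m`-pseudo-coherent as soon as the ring-level condition holds on every chart of
every affine pair -/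
theorem isNPseudoCoherent_of_forall [LocallyOfFiniteType f] (m : ℤ)
    (H : ∀ (U : X.Opens) (V : Y.Opens), IsAffineOpen U → IsAffineOpen V → ∀ (h : U ≤ f ⁻¹ᵁ V)
      {n : ℕ} (φ : MvPolynomial (Fin n) Γ(Y, V) →+* Γ(X, U)), DerSch.IsChart f U V h φ →
      DRing.IsPseudoCoherent (MvPolynomial (Fin n) Γ(Y, V)) m
        ((G φ).obj (ModuleCat.of Γ(X, U) Γ(X, U)))) :
    DerSch.IsNPseudoCoherent f m := by
  refine ⟨inferInstance, Set.univ, ?_, fun V _ => ?_⟩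
  · rw [iSup_univ]
    exact iSup_affineOpens_eq_top Y
  · refine ⟨{U : X.affineOpens | (U : X.Opens) ≤ f ⁻¹ᵁ (V : Y.Opens)}, ?_, ?_⟩
    · apply le_antisymm
      · exact iSup₂_le fun U hU => hU
      · intro x hx
        obtain ⟨W, hW, hxW, hWV⟩ := exists_isAffineOpen_mem_and_subset (x := x)
          (U := f ⁻¹ᵁ (V : Y.Opens)) hx
        have hmem : x ∈ ((⟨W, hW⟩ : X.affineOpens) : X.Opens) := hxW
        exact (le_iSup₂ (f := fun (U : X.affineOpens)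
          (_ : U ∈ {U : X.affineOpens | (U : X.Opens) ≤ f ⁻¹ᵁ (V : Y.Opens)}) => (U : X.Opens))
          ⟨W, hW⟩ hWV) hmem
    · intro U _ h
      obtain ⟨n, φ, hφ⟩ := exists_chart f U.2 V.2 h
      exact ⟨n, φ, hφ, (chartPC_unit_iff (U : X.Opens) U.2 (V : Y.Opens) φ hφ.1 m).2
        (H U V U.2 V.2 h φ hφ)⟩

/-- conversely, an `m`-pseudo-coherent morphism has, around every point, a chart on which the
ring-level condition holds -/
theorem exists_chart_of_isNPseudoCoherent (m : ℤ) (hf : DerSch.IsNPseudoCoherent f m) (x : X) :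
    ∃ (U : X.Opens) (V : Y.Opens) (_ : IsAffineOpen U) (_ : IsAffineOpen V) (h : U ≤ f ⁻¹ᵁ V)
      (n : ℕ) (φ : MvPolynomial (Fin n) Γ(Y, V) →+* Γ(X, U)), x ∈ U ∧ DerSch.IsChart f U V h φ ∧
      DRing.IsPseudoCoherent (MvPolynomial (Fin n) Γ(Y, V)) m
        ((G φ).obj (ModuleCat.of Γ(X, U) Γ(X, U))) := by
  obtain ⟨-, 𝒱, h𝒱, H⟩ := hf
  have hfx : f x ∈ (⨆ V ∈ 𝒱, (V : Y.Opens)) := by rw [h𝒱]; trivial
  simp only [TopologicalSpace.Opens.mem_iSup] at hfx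
  obtain ⟨V, hV𝒱, hfxV⟩ := hfx
  obtain ⟨𝒰, h𝒰, H'⟩ := H V hV𝒱
  have hx : x ∈ (⨆ U ∈ 𝒰, (U : X.Opens)) := by rw [h𝒰]; exact hfxV
  simp only [TopologicalSpace.Opens.mem_iSup] at hx
  obtain ⟨U, hU𝒰, hxU⟩ := hx
  have hUV : (U : X.Opens) ≤ f ⁻¹ᵁ (V : Y.Opens) := by
    rw [← h𝒰]
    exact le_iSup₂ (f := fun (U : X.affineOpens) (_ : U ∈ 𝒰) => (U : X.Opens)) U hU𝒰
  obtain ⟨n, φ, hφ, hpc⟩ := H' U hU𝒰 hUV
  exact ⟨U, V, U.2, V.2, hUV, n, φ, hxU, hφ,
    (chartPC_unit_iff (U : X.Opens) U.2 (V : Y.Opens) φ hφ.1 m).1 hpc⟩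

end Groth.Agent.Lib.T2H1.ChartPC
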