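import Mathlib
import Groth.Prelude.Def_DerSch2
import Groth.Agent.Lib.T2H8PCohBiprod

/-!
# Relative pseudo-coherence (chart form) passes to direct summands
-/

set_option autoImplicit false
universe u
open CategoryTheory CategoryTheory.Limits Opposite AlgebraicGeometry ZeroObject

namespace Groth.Agent.Lib.T2H8.PCohRelBiprod

open Groth.Agent.Lib.T2H8.PCohTriangle Groth.Agent.Lib.T2H8.PCohBiprod

attribute [local instance] HasDerivedCategory.standard

variable {X Y : Scheme.{u}}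

lemma isPseudoCoherentD_of_iso {m : ℤ} {K L : DCoh.D X} (e : K ≅ L)
    (h : DCoh.IsPseudoCoherentD m K) : DCoh.IsPseudoCoherentD m L := by
  rw [isPseudoCoherentD_iff] at h ⊢
  exact fun x => (h x).of_iso e

lemma preservesBinaryBiproduct_of_additive {C D : Type*} [Category C] [Category D]
    [Preadditive C] [Preadditive D] (F : C ⥤ D) [F.Additive] (A B : C) :
    PreservesBinaryBiproduct A B F := by
  have : PreservesBinaryBiproducts F := preservesBinaryBiproducts_of_preservesBiproducts F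
  infer_instance

/-- an additive functor on complexes followed by `Q` turns a biproduct into a biproduct -/
lemma nonempty_Q_biprod_iso {Z : Scheme.{u}} (G G' : CochainComplex Z.Modules ℤ) :
    Nonempty (DCoh.toD Z (G ⊞ G') ≅ DCoh.toD Z G ⊞ DCoh.toD Z G') :=
  have := preservesBinaryBiproduct_of_additive (DerivedCategory.Q (C := Z.Modules)) G G'
  ⟨(DerivedCategory.Q (C := Z.Modules)).mapBiprod G G'⟩

theorem chartPC_of_biprod (m : ℤ) (E K : DCoh.D X) [HasBinaryBiproduct E K]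
    (U : X.Opens) (V : Y.Opens) {n : ℕ}
    (φ : MvPolynomial (Fin n) Γ(Y, V) →+* Γ(X, U))
    (h : DerSch.ChartPC m (E ⊞ K) U V φ) :
    DerSch.ChartPC m E U V φ ∧ DerSch.ChartPC m K U V φ := by
  let F : CochainComplex X.Modules ℤ ⥤
      CochainComplex (Spec (CommRingCat.of (MvPolynomial (Fin n) Γ(Y, V)))).Modules ℤ :=
    DCoh.restrictCx U ⋙ DerSch.pushCx (DerSch.chartImm U φ)
  have key : ∀ (G G' : CochainComplex X.Modules ℤ), Nonempty (DCoh.toD X G ≅ E) →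
      Nonempty (DCoh.toD X G' ≅ K) →
      DCoh.IsPseudoCoherentD m (DCoh.toD _ (F.obj G)) ∧
        DCoh.IsPseudoCoherentD m (DCoh.toD _ (F.obj G')) := by
    rintro G G' ⟨e⟩ ⟨e'⟩
    obtain ⟨i₁⟩ := nonempty_Q_biprod_iso G G'
    have h1 := h (G ⊞ G') ⟨i₁ ≪≫ biprod.mapIso e e'⟩
    change DCoh.IsPseudoCoherentD m (DCoh.toD _ (F.obj (G ⊞ G'))) at h1
    obtain ⟨i₂⟩ := nonempty_Q_biprod_iso (F.obj G) (F.obj G')
    have := preservesBinaryBiproduct_of_additive F G G'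
    have h2 := isPseudoCoherentD_of_iso
      ((DerivedCategory.Q).mapIso (F.mapBiprod G G') ≪≫ i₂) h1
    exact Groth.Agent.Lib.T2H8.PCohBiprod.main_S0888 m _ _ h2
  constructor
  · intro G hG
    exact (key G _ hG ⟨(DerivedCategory.Q).objObjPreimageIso K⟩).1
  · intro G hG
    exact (key _ G ⟨(DerivedCategory.Q).objObjPreimageIso E⟩ hG).2

theorem main_S7214 {X S : Scheme.{u}} (f : X ⟶ S) (m : ℤ) (E K : DCoh.D X)
    [HasBinaryBiproduct E K] (h : DerSch.IsPseudoCoherentRel f m (E ⊞ K)) :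
    DerSch.IsPseudoCoherentRel f m E ∧ DerSch.IsPseudoCoherentRel f m K := by
  obtain ⟨hf, 𝒱, h𝒱, h⟩ := h
  constructor
  · refine ⟨hf, 𝒱, h𝒱, fun V hV => ?_⟩
    obtain ⟨𝒰, h𝒰, h⟩ := h V hV
    refine ⟨𝒰, h𝒰, fun U hU hUV => ?_⟩
    obtain ⟨n, φ, hφ, hpc⟩ := h U hU hUV
    exact ⟨n, φ, hφ, (chartPC_of_biprod m E K _ _ φ hpc).1⟩
  · refine ⟨hf, 𝒱, h𝒱, fun V hV => ?_⟩
    obtain ⟨𝒰, h𝒰, h⟩ := h V hV
    refine ⟨𝒰, h𝒰, fun U hU hUV => ?_⟩
    obtain ⟨n, φ, hφ, hpc⟩ := h U hU hUV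
    exact ⟨n, φ, hφ, (chartPC_of_biprod m E K _ _ φ hpc).2⟩

end Groth.Agent.Lib.T2H8.PCohRelBiprod
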