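import Mathlib
import Groth.Prelude.Def_DCoh3
import Groth.Agent.Lib.T2H1RelFlatAmp
import Groth.Agent.Lib.T2H8PCohTriangle
import Groth.Agent.Lib.T2H8PCohBiprod
import Groth.Agent.Lib.T2H8PCohRelBiprod
set_option backward.isDefEq.respectTransparency.types false

/-!
# Relatively perfect objects form a thick triangulated subcategory (helper1, second team)
-/

set_option autoImplicit false
set_option linter.style.haveILetI false
universe u
open CategoryTheory CategoryTheory.Limits AlgebraicGeometry HomologicalComplex Pretriangulated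
  ZeroObject

attribute [local instance] HasDerivedCategory.standard

namespace Groth.Agent.Lib.T2H1.RelPerfTri

open Groth.Agent.Lib.T2H1.StalkTorAmp Groth.Agent.Lib.T2H1.TorAmpRestrict
  Groth.Agent.Lib.T2H1.RelPerfTilde Groth.Agent.Lib.T2H1.RelFlatAmp DTen
  Groth.Agent.Lib.T2H2.TorAmpComp Groth.Agent.Lib.Helper1.KBC

section TA

variable {U X S : Scheme.{u}} (f : X ⟶ S)

/-- tor amplitude at a point relative to the base, for objects of the derived category -/
def TAat (a b : ℤ) (E : DCoh.D X) (x : X) : Prop :=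
  DRing.HasTorAmplitudeIn (S.presheaf.stalk (f.base x)) a b
    ((DerSch.stalkOver f x).mapDerivedCategory.obj E)

lemma tAat_toD_iff (a b : ℤ) (F : CochainComplex X.Modules ℤ) (x : X) :
    TAat f a b (DCoh.toD X F) x ↔ DerSch.HasTorAmplitudeAt f a b F x :=
  ⟨fun h => Groth.Agent.Lib.Helper1.Tor.hasTorAmp_of_iso
      ((DerSch.stalkOver f x).mapDerivedCategoryFactors.app F) h,
    fun h => Groth.Agent.Lib.Helper1.Tor.hasTorAmp_of_iso
      ((DerSch.stalkOver f x).mapDerivedCategoryFactors.app F).symm h⟩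

lemma TAat.of_iso {a b : ℤ} {E E' : DCoh.D X} {x : X} (e : E ≅ E') (h : TAat f a b E x) :
    TAat f a b E' x :=
  Groth.Agent.Lib.Helper1.Tor.hasTorAmp_of_iso
    ((DerSch.stalkOver f x).mapDerivedCategory.mapIso e) h

lemma TAat.mono {a b a' b' : ℤ} {E : DCoh.D X} {x : X} (ha : a' ≤ a) (hb : b ≤ b')
    (h : TAat f a b E x) : TAat f a' b' E x :=
  hasTorAmp_mono ha hb h

/-- tor amplitude at a point of an open subscheme, from the ambient scheme -/
theorem hasTorAmplitudeAt_restrict (j : U ⟶ X) [IsOpenImmersion j]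
    (F : CochainComplex X.Modules ℤ) (a b : ℤ) (u : U)
    (h : DerSch.HasTorAmplitudeAt f a b F (j u)) :
    DerSch.HasTorAmplitudeAt (j ≫ f) a b
      (((Scheme.Modules.restrictFunctor j).mapHomologicalComplex (ComplexShape.up ℤ)).obj F) u := by
  have h1 : DRing.HasTorAmplitudeIn (S.presheaf.stalk ((j ≫ f).base u)) a b
      (DerivedCategory.Q.obj ((resCx (phi j f u)).obj
        (((DerSch.stalkFunctor X (j u)).mapHomologicalComplex (ComplexShape.up ℤ)).obj F))) := h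
  refine Groth.Agent.Lib.Helper1.Tor.hasTorAmp_of_iso ?_ h1
  exact DerivedCategory.Q.mapIso ((NatIso.mapHomologicalComplex (restrictStalkOverIso j f u)
    (ComplexShape.up ℤ)).app F).symm

/-- for a flat morphism, locally finite relative tor dimension is a stalkwise condition -/
theorem locHasFiniteRelTorDim_iff [Flat f] (E : DCoh.D X) :
    DCoh.LocHasFiniteRelTorDim f E ↔
      ∀ x : X, ∃ (V : X.Opens) (a b : ℤ), x ∈ V ∧ ∀ y : X, y ∈ V → TAat f a b E y := by
  constructor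
  · intro h x
    obtain ⟨V, a, b, hxV, H⟩ := h x
    refine ⟨V, a, b, hxV, fun y hy => ?_⟩
    let F' := (DerivedCategory.Q : _ ⥤ DCoh.D X).objPreimage E
    have eF' : DCoh.toD X F' ≅ E := (DerivedCategory.Q : _ ⥤ DCoh.D X).objObjPreimageIso E
    have h1 := H F' ⟨eF'⟩
    have h2 := hasTorAmplitude_of_hasRelFlatAmplitudeIn (V.ι ≫ f) _ a b h1 ⟨y, hy⟩
    have h3 : DerSch.HasTorAmplitudeAt f a b F' y :=
      hasTorAmplitudeAt_of_restrict f V.ι F' a b ⟨y, hy⟩ h2
    exact TAat.of_iso f eF' ((tAat_toD_iff f a b F' y).2 h3)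
  · intro h x
    obtain ⟨V, a, b, hxV, H⟩ := h x
    refine ⟨V, a, b, hxV, fun F' ⟨eF'⟩ => ?_⟩
    apply hasRelFlatAmplitudeIn_of_hasTorAmplitude (V.ι ≫ f)
    intro u
    apply hasTorAmplitudeAt_restrict f V.ι F' a b u
    exact (tAat_toD_iff f a b F' _).1 (TAat.of_iso f eF'.symm (H _ u.2))

end TA

section PC

open Groth.Agent.Lib.T2H8.PCohTriangle Groth.Agent.Lib.T2H8.PCohBiprod
  Groth.Agent.Lib.T2H8.PCohRelBiprod Groth.Agent.Lib.T2H8.PerfLocal

variable {X : Scheme.{u}}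

/-- zero objects are pseudo-coherent -/
lemma isPseudoCoherentD_of_isZero (m : ℤ) (K : DCoh.D X) (hK : IsZero K) :
    DCoh.IsPseudoCoherentD m K := by
  rw [isPseudoCoherentD_iff]
  intro x
  refine ⟨X, 𝟙 X, inferInstance, x, rfl, PCohAt.of_isZero_homology m K (𝟙 X) (fun i _ => ?_)⟩
  exact (DerivedCategory.homologyFunctor _ i).map_isZero ((rD (𝟙 X)).map_isZero hK)

/-- pseudo-coherence (in all degrees) is stable under the shift by `1` -/
lemma isPseudoCoherentD_shift_one (K : DCoh.D X) (h : ∀ m : ℤ, DCoh.IsPseudoCoherentD m K)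
    (m : ℤ) : DCoh.IsPseudoCoherentD m (K⟦(1 : ℤ)⟧) :=
  (main_S0889 m _ (contractible_distinguished₂ K)).1 (h (m + 1))
    (isPseudoCoherentD_of_isZero m _ (isZero_zero _))

/-- pseudo-coherence (in all degrees) is stable under the shift by `-1` -/
lemma isPseudoCoherentD_of_shift_one (K : DCoh.D X)
    (h : ∀ m : ℤ, DCoh.IsPseudoCoherentD m (K⟦(1 : ℤ)⟧)) (m : ℤ) :
    DCoh.IsPseudoCoherentD m K := by
  have := (main_S0889 (m - 1) _ (contractible_distinguished₂ K)).2.2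
    (isPseudoCoherentD_of_isZero _ _ (isZero_zero _)) (h (m - 1))
  simpa using this

/-- pseudo-coherence (in all degrees) is stable under all shifts -/
lemma isPseudoCoherentD_shift (K : DCoh.D X) (h : ∀ m : ℤ, DCoh.IsPseudoCoherentD m K)
    (n : ℤ) : ∀ m : ℤ, DCoh.IsPseudoCoherentD m (K⟦n⟧) := by
  induction n using Int.induction_on with
  | zero =>
    intro m
    exact isPseudoCoherentD_of_iso ((shiftFunctorZero (DCoh.D X) ℤ).app K).symm (h m)
  | succ n ih =>
    intro m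
    exact isPseudoCoherentD_of_iso ((shiftFunctorAdd' (DCoh.D X) (n : ℤ) 1 (n + 1) rfl).app K).symm
      (isPseudoCoherentD_shift_one _ ih m)
  | pred n ih =>
    intro m
    apply isPseudoCoherentD_of_shift_one
    intro m'
    exact isPseudoCoherentD_of_iso
      ((shiftFunctorAdd' (DCoh.D X) (-(n : ℤ) - 1) 1 (-(n : ℤ)) (by lia)).app K) (ih m')

/-- pseudo-coherence passes to retracts -/
lemma isPseudoCoherentD_of_retract {K Y : DCoh.D X} (r : Retract K Y) (m : ℤ)
    (h : DCoh.IsPseudoCoherentD m Y) : DCoh.IsPseudoCoherentD m K := by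
  obtain ⟨Z, g, h', hT⟩ := distinguished_cocone_triangle r.i
  have hz : h' = 0 := by
    have h1 : h' ≫ r.i⟦(1 : ℤ)⟧' = 0 := comp_distTriang_mor_zero₃₁ _ hT
    have h2 : r.i⟦(1 : ℤ)⟧' ≫ r.r⟦(1 : ℤ)⟧' = 𝟙 _ := by
      rw [← Functor.map_comp, r.retract, CategoryTheory.Functor.map_id]
    calc h' = h' ≫ (r.i⟦(1 : ℤ)⟧' ≫ r.r⟦(1 : ℤ)⟧') := by rw [h2, Category.comp_id]
      _ = 0 := by rw [← Category.assoc, h1, zero_comp]
  obtain ⟨e, -, -⟩ := exists_iso_binaryBiproduct_of_distTriang _ hT hz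
  exact (main_S0888 m K Z (isPseudoCoherentD_of_iso e h)).1

end PC

section Main

variable {X S : Scheme.{u}} (f : X ⟶ S)

/-- the stalkwise form of locally finite relative tor dimension -/
def LocTA (E : DCoh.D X) : Prop :=
  ∀ x : X, ∃ (V : X.Opens) (a b : ℤ), x ∈ V ∧ ∀ y : X, y ∈ V → TAat f a b E y

lemma locTA_of_isZero (E : DCoh.D X) (hE : IsZero E) : LocTA f E := fun x =>
  ⟨⊤, 0, 0, trivial, fun y _ => Groth.Agent.Lib.Helper1.Tor.hasTorAmp_of_isZero _
    ((DerSch.stalkOver f y).mapDerivedCategory.map_isZero hE) 0 0⟩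

lemma locTA_shift (E : DCoh.D X) (h : LocTA f E) (n : ℤ) : LocTA f (E⟦n⟧) := by
  intro x
  obtain ⟨V, a, b, hxV, H⟩ := h x
  refine ⟨V, a - n, b - n, hxV, fun y hy => ?_⟩
  exact Groth.Agent.Lib.Helper1.Tor.hasTorAmp_of_iso
    (((DerSch.stalkOver f y).mapDerivedCategory.commShiftIso n).app E).symm
    (Groth.Agent.Lib.Helper1.Tor.hasTorAmp_shift (H y hy) n (a - n) (b - n) (by lia) (by lia))

lemma locTA_ext₂ (T : Triangle (DCoh.D X)) (hT : T ∈ distTriang (DCoh.D X))
    (h₁ : LocTA f T.obj₁) (h₃ : LocTA f T.obj₃) : LocTA f T.obj₂ := by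
  intro x
  obtain ⟨V₁, a₁, b₁, hxV₁, H₁⟩ := h₁ x
  obtain ⟨V₃, a₃, b₃, hxV₃, H₃⟩ := h₃ x
  refine ⟨V₁ ⊓ V₃, min a₁ a₃, max b₁ b₃, ⟨hxV₁, hxV₃⟩, fun y hy => ?_⟩
  have hT' := (DerSch.stalkOver f y).mapDerivedCategory.map_distinguished T hT
  exact (Groth.Agent.Lib.Helper1.Tor.hasTorAmp_two_out_of_three (min a₁ a₃) (max b₁ b₃) _
    hT').2.1 (TAat.mono f (min_le_left _ _) (le_max_left _ _) (H₁ y hy.1))
    (TAat.mono f (min_le_right _ _) (le_max_right _ _) (H₃ y hy.2))

lemma locTA_of_retract {K Y : DCoh.D X} (r : Retract K Y) (h : LocTA f Y) : LocTA f K := by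
  intro x
  obtain ⟨V, a, b, hxV, H⟩ := h x
  refine ⟨V, a, b, hxV, fun y hy => ?_⟩
  exact Groth.Agent.Lib.Helper1.Tor.hasTorAmp_of_retract _ _
    ((DerSch.stalkOver f y).mapDerivedCategory.map r.i)
    ((DerSch.stalkOver f y).mapDerivedCategory.map r.r)
    (by rw [← Functor.map_comp, r.retract, CategoryTheory.Functor.map_id]) a b (H y hy)

/-- S7250 -/
theorem relPerfect_isTriangulated [Flat f] :
    ObjectProperty.IsTriangulated (fun E : DCoh.D X =>
      (∀ m : ℤ, DCoh.IsPseudoCoherentD m E) ∧ DCoh.LocHasFiniteRelTorDim f E) ∧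
    ObjectProperty.IsStableUnderRetracts (fun E : DCoh.D X =>
      (∀ m : ℤ, DCoh.IsPseudoCoherentD m E) ∧ DCoh.LocHasFiniteRelTorDim f E) := by
  refine ⟨{ exists_zero := ?_, isStableUnderShiftBy := fun n => ⟨?_⟩, ext₂' := ?_ }, ⟨?_⟩⟩
  · exact ⟨0, isZero_zero _, fun m => isPseudoCoherentD_of_isZero m _ (isZero_zero _),
      (locHasFiniteRelTorDim_iff f _).2 (locTA_of_isZero f _ (isZero_zero _))⟩
  · rintro E ⟨hpc, htor⟩
    exact ⟨isPseudoCoherentD_shift E hpc n,
      (locHasFiniteRelTorDim_iff f _).2 (locTA_shift f E ((locHasFiniteRelTorDim_iff f _).1 htor) n)⟩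
  · rintro T hT ⟨hpc₁, htor₁⟩ ⟨hpc₃, htor₃⟩
    apply ObjectProperty.le_isoClosure
    exact ⟨fun m => (Groth.Agent.Lib.T2H8.PCohTriangle.main_S0889 m T hT).2.1 (hpc₁ m) (hpc₃ m),
      (locHasFiniteRelTorDim_iff f _).2 (locTA_ext₂ f T hT
        ((locHasFiniteRelTorDim_iff f _).1 htor₁) ((locHasFiniteRelTorDim_iff f _).1 htor₃))⟩
  · rintro K Y r ⟨hpc, htor⟩
    exact ⟨fun m => isPseudoCoherentD_of_retract r m (hpc m),
      (locHasFiniteRelTorDim_iff f _).2 (locTA_of_retract f r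
        ((locHasFiniteRelTorDim_iff f _).1 htor))⟩

end Main

end Groth.Agent.Lib.T2H1.RelPerfTri
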