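import Groth.Agent.Lib.T2H1DerivedComp
import Groth.Agent.Lib.T2H5ExtZeroSch
import Groth.Agent.Lib.Helper16KInjAdj
import Groth.Agent.S0484
import Groth.Prelude.Def_CxOX
import Groth.Prelude.Def_DCoh3

/-!
# Restriction to opens commutes with (derived) direct images (helper1)

For `f : X ⟶ Y` and `V ⊆ Y` open: `(f_* M)|_V ≅ (f|_V)_* (M|_{f⁻¹V})` naturally in `M`, and the same
for the unbounded total derived direct images.
-/

set_option autoImplicit false
universe u
open CategoryTheory CategoryTheory.Limits AlgebraicGeometry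

attribute [local instance] HasDerivedCategory.standard

namespace Groth.Agent.Lib.T2H1.RestrictPush

open Scheme.Modules

variable {X Y : Scheme.{u}} (f : X ⟶ Y) (V : Y.Opens)

theorem isIso_presheaf_map_homOfLE (M : X.Modules) {W W' : X.Opens} (h : W ≤ W') (h' : W' ≤ W) :
    IsIso (M.presheaf.map (homOfLE h).op) := by
  have : IsIso (homOfLE h) := ⟨homOfLE h', Subsingleton.elim _ _, Subsingleton.elim _ _⟩
  infer_instance

instance isIso_whisker_unit :
    IsIso (Functor.whiskerRight (restrictAdjunction (f ⁻¹ᵁ V).ι).unit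
      (pushforward f ⋙ restrictFunctor V.ι)) := by
  rw [NatTrans.isIso_iff_isIso_app]
  intro M
  rw [Hom.isIso_iff_isIso_app]
  intro W
  change IsIso (((restrictAdjunction (f ⁻¹ᵁ V).ι).unit.app M).app (f ⁻¹ᵁ (V.ι ''ᵁ W)))
  rw [restrictAdjunction_unit_app_app]
  apply isIso_presheaf_map_homOfLE
  rw [Scheme.Hom.image_preimage_eq_opensRange_inf, Scheme.Opens.opensRange_ι]
  exact le_inf (Scheme.Hom.preimage_mono f (V.ι_image_le W)) le_rfl

/-- `(f_* M)|_V ≅ (f|_V)_* (M|_{f⁻¹V})`, naturally in `M`. -/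
noncomputable def pushRestrictIso :
    pushforward f ⋙ restrictFunctor V.ι ≅
      restrictFunctor (f ⁻¹ᵁ V).ι ⋙ pushforward (f ∣_ V) :=
  (Functor.leftUnitor _).symm ≪≫
    asIso (Functor.whiskerRight (restrictAdjunction (f ⁻¹ᵁ V).ι).unit
      (pushforward f ⋙ restrictFunctor V.ι)) ≪≫
    Functor.associator _ _ _ ≪≫
    Functor.isoWhiskerLeft (restrictFunctor (f ⁻¹ᵁ V).ι)
      ((Functor.associator _ _ _).symm ≪≫
        Functor.isoWhiskerRight (pushforwardComp (f ⁻¹ᵁ V).ι f ≪≫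
          pushforwardCongr (morphismRestrict_ι f V).symm ≪≫
          (pushforwardComp (f ∣_ V) V.ι).symm) (restrictFunctor V.ι) ≪≫
        Functor.associator _ _ _ ≪≫
        Functor.isoWhiskerLeft (pushforward (f ∣_ V)) (restrictFunctorAdjCounitIso V.ι) ≪≫
        Functor.rightUnitor _)

instance isGrothendieckAbelian_modules (X : Scheme.{u}) : IsGrothendieckAbelian.{u} X.Modules :=
  Groth.Agent.S0484.result (Opens.grothendieckTopology X) X.ringCatSheaf

/-- restriction to an open subscheme preserves K-injective complexes. -/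
theorem isKInjective_restrict {X : Scheme.{u}} (U : X.Opens) (I : CochainComplex X.Modules ℤ)
    [I.IsKInjective] :
    CochainComplex.IsKInjective
      (((restrictFunctor U.ι).mapHomologicalComplex (ComplexShape.up ℤ)).obj I) := by
  haveI := Groth.Agent.Lib.T2H5.ExtZeroSch.preservesFiniteLimits_extZero U
  exact Groth.Agent.Lib.Helper16.KInjAdj.isKInjective_map (CxOX.extZeroAdj U.ι) I

open Groth.Agent.Lib.Helper17.KInj Groth.Agent.Lib.T2H1.DerivedComp in
/-- `(Rf_* E)|_V ≅ R(f|_V)_* (E|_{f⁻¹V})` on unbounded derived categories. -/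
theorem nonempty_restrictD_Rpush_iso [DCoh.HasRpush f] [DCoh.HasRpush (f ∣_ V)] :
    Nonempty (DCoh.Rpush f ⋙ DCoh.restrictD V.ι ≅
      DCoh.restrictD (f ⁻¹ᵁ V).ι ⋙ DCoh.Rpush (f ∣_ V)) := by
  obtain ⟨β₁, hβ₁⟩ : ∃ β : (pushforward f).mapHomotopyCategory (ComplexShape.up ℤ) ⋙
      DerivedCategory.Qh ⟶ DerivedCategory.Qh ⋙ DCoh.Rpush f, β =
      ((DCoh.pushKh f).totalRightDerivedUnit DerivedCategory.Qh
        (HomotopyCategory.quasiIso X.Modules (ComplexShape.up ℤ))) := ⟨_, rfl⟩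
  have h₁ : (DCoh.Rpush f).IsRightDerivedFunctor β₁
      (HomotopyCategory.quasiIso X.Modules (ComplexShape.up ℤ)) := by
    rw [hβ₁]
    infer_instance
  obtain ⟨β₂, hβ₂⟩ : ∃ β : (pushforward (f ∣_ V)).mapHomotopyCategory (ComplexShape.up ℤ) ⋙
      DerivedCategory.Qh ⟶ DerivedCategory.Qh ⋙ DCoh.Rpush (f ∣_ V), β =
      ((DCoh.pushKh (f ∣_ V)).totalRightDerivedUnit DerivedCategory.Qh
        (HomotopyCategory.quasiIso (f ⁻¹ᵁ V).toScheme.Modules (ComplexShape.up ℤ))) := ⟨_, rfl⟩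
  have h₂ : (DCoh.Rpush (f ∣_ V)).IsRightDerivedFunctor β₂
      (HomotopyCategory.quasiIso (f ⁻¹ᵁ V).toScheme.Modules (ComplexShape.up ℤ)) := by
    rw [hβ₂]
    infer_instance
  haveI hpre := isRightDerivedFunctor_unitPre.{u, u} (restrictFunctor (f ⁻¹ᵁ V).ι)
    (pushforward (f ∣_ V)) (DCoh.Rpush (f ∣_ V))
    (unitOfK (pushforward (f ∣_ V)) (DCoh.Rpush (f ∣_ V)) β₂)
    (fun I _ => isKInjective_restrict (f ⁻¹ᵁ V) I)
  haveI hpost := isRightDerivedFunctor_unitPost.{u} (pushforward f) (DCoh.Rpush f)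
    (unitOfK (pushforward f) (DCoh.Rpush f) β₁) (restrictFunctor V.ι)
  exact ⟨derivedIso (pushRestrictIso f V) _ _
    (unitPost (pushforward f) (DCoh.Rpush f) (unitOfK (pushforward f) (DCoh.Rpush f) β₁)
      (restrictFunctor V.ι))
    (unitPre (restrictFunctor (f ⁻¹ᵁ V).ι)
      (pushforward (f ∣_ V)) (DCoh.Rpush (f ∣_ V))
      (unitOfK (pushforward (f ∣_ V)) (DCoh.Rpush (f ∣_ V)) β₂))⟩

end Groth.Agent.Lib.T2H1.RestrictPush
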