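import Groth.Agent.Lib.T2H2TildeLocE

/-!
# Reduction of local properties of objects of `D_QCoh(O_X)` to affine charts (T2H2)
-/

set_option autoImplicit false
set_option linter.style.haveILetI false
universe u
open CategoryTheory CategoryTheory.Limits AlgebraicGeometry Opposite

attribute [local instance] HasDerivedCategory.standard

namespace Groth.Agent.Lib.T2H2.AffRed

open Groth.Agent.Lib.T2H8.SchLocHtpy Groth.Agent.Lib.T2H8.PerfLocal
  Groth.Agent.Lib.T2H8.PCohTriangle Groth.Agent.Lib.T2H2.TildeLoc DerivedCategory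

variable {X : Scheme.{u}}

section Restrict

variable {U : Scheme.{u}} (j : U ⟶ X) [IsOpenImmersion j]

/-- a point of `U` has an open neighbourhood `V` in `U` such that `V ⟶ X` factors through a given
open immersion `j₁` whose range contains the image of the point. -/
theorem exists_lift_nbhd {U₁ : Scheme.{u}} (j₁ : U₁ ⟶ X) [IsOpenImmersion j₁] (x' : U) (x₁ : U₁)
    (h : j₁ x₁ = j x') :
    ∃ (V : U.Opens) (i : (V : Scheme.{u}) ⟶ U₁) (_ : IsOpenImmersion i),
      x' ∈ V ∧ i ≫ j₁ = V.ι ≫ j := by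
  let V : U.Opens := j ⁻¹ᵁ j₁.opensRange
  have hxV : x' ∈ V := ⟨x₁, h⟩
  have hr : Set.range (V.ι ≫ j) ⊆ Set.range j₁ := by
    rintro _ ⟨y, rfl⟩
    exact y.2
  haveI : IsOpenImmersion (IsOpenImmersion.lift j₁ (V.ι ≫ j) hr ≫ j₁) := by
    rw [IsOpenImmersion.lift_fac]
    infer_instance
  exact ⟨V, IsOpenImmersion.lift j₁ (V.ι ≫ j) hr, IsOpenImmersion.of_comp _ j₁, hxV,
    IsOpenImmersion.lift_fac j₁ (V.ι ≫ j) hr⟩

/-- perfectness restricts along open immersions -/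
theorem isPerfect_rD (K : DCoh.D X) (hK : DCoh.IsPerfect K) :
    DCoh.IsPerfect ((rD j).obj K) := by
  rw [isPerfect_iff] at hK ⊢
  intro x'
  obtain ⟨U₁, j₁, hj₁, x₁, hx₁, hP⟩ := hK (j x')
  obtain ⟨V, i, hi, hxV, hij⟩ := exists_lift_nbhd j j₁ x' x₁ hx₁
  obtain ⟨E, hE, ⟨e⟩⟩ := hP.refine i (V.ι ≫ j) hij
  exact ⟨V, V.ι, inferInstance, ⟨x', hxV⟩, rfl, E, hE,
    ⟨(rDComp V.ι j (V.ι ≫ j) rfl).app K ≪≫ e⟩⟩

/-- pseudo-coherence restricts along open immersions -/
theorem isPseudoCoherentD_rD (m : ℤ) (K : DCoh.D X) (hK : DCoh.IsPseudoCoherentD m K) :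
    DCoh.IsPseudoCoherentD m ((rD j).obj K) := by
  rw [isPseudoCoherentD_iff] at hK ⊢
  intro x'
  obtain ⟨U₁, j₁, hj₁, x₁, hx₁, hP⟩ := hK (j x')
  obtain ⟨V, i, hi, hxV, hij⟩ := exists_lift_nbhd j j₁ x' x₁ hx₁
  obtain ⟨E, α, hE, hα⟩ := hP.refine i (V.ι ≫ j) hij
  exact ⟨V, V.ι, inferInstance, ⟨x', hxV⟩, rfl, E,
    α ≫ ((rDComp V.ι j (V.ι ≫ j) rfl).app K).inv, hE, hα.comp (isApprox_of_isIso m _)⟩

/-- perfectness can be checked on an open cover -/
theorem locPerf_of_isPerfect_rD (K : DCoh.D X) (x' : U)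
    (h : DCoh.IsPerfect ((rD j).obj K)) : LocPerf K (j x') := by
  rw [isPerfect_iff] at h
  obtain ⟨U', j', hj', y, hy, E, hE, ⟨e⟩⟩ := h x'
  refine ⟨U', j' ≫ j, inferInstance, y, ?_, E, hE, ⟨((rDComp j' j (j' ≫ j) rfl).app K).symm ≪≫ e⟩⟩
  rw [← hy]
  rfl

/-- pseudo-coherence can be checked on an open cover -/
theorem locPCoh_of_isPseudoCoherentD_rD (m : ℤ) (K : DCoh.D X) (x' : U)
    (h : DCoh.IsPseudoCoherentD m ((rD j).obj K)) : LocPCoh m K (j x') := by
  rw [isPseudoCoherentD_iff] at h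
  obtain ⟨U', j', hj', y, hy, E, α, hE, hα⟩ := h x'
  refine ⟨U', j' ≫ j, inferInstance, y, ?_, E, α ≫ ((rDComp j' j (j' ≫ j) rfl).app K).hom, hE,
    hα.comp (isApprox_of_isIso m _)⟩
  rw [← hy]
  rfl

/-- restriction preserves `D_QCoh` -/
theorem isQCohD_rD (K : DCoh.D X) (hK : DCoh.IsQCohD K) : DCoh.IsQCohD ((rD j).obj K) := by
  intro i
  haveI : ((DerivedCategory.homologyFunctor X.Modules i).obj K).IsQuasicoherent := hK i
  exact (SheafOfModules.isQuasicoherent U.ringCatSheaf).prop_of_iso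
    ((mapDerivedCategoryHomologyIso (Scheme.Modules.restrictFunctor j) i).app K).symm
    (Scheme.Modules.isQuasicoherent_restrictFunctor j _)

end Restrict

/-- every point lies in an affine chart -/
theorem exists_affine_chart (x : X) :
    ∃ (A : Type u) (_ : CommRing A) (j : Spec (CommRingCat.of A) ⟶ X) (_ : IsOpenImmersion j)
      (x' : Spec (CommRingCat.of A)), j x' = x := by
  obtain ⟨W, hW, hxW, -⟩ := exists_isAffineOpen_mem_and_subset (x := x) (U := ⊤) trivial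
  have hr : x ∈ Set.range hW.fromSpec := by
    rw [hW.range_fromSpec]
    exact hxW
  obtain ⟨x', hx'⟩ := hr
  exact ⟨Γ(X, W), inferInstance, hW.fromSpec, inferInstance, x', hx'⟩

/-- an object of `D_QCoh` on `Spec A` is of the form `M~` -/
theorem exists_tildeD_iso (A : Type u) [CommRing A] (K : DCoh.D (Spec (CommRingCat.of A)))
    (hK : DCoh.IsQCohD K) :
    ∃ M : Dual.D A, Nonempty ((DCoh.tildeD (CommRingCat.of A)).obj M ≅ K) :=
  ((Groth.Agent.S0997.result (CommRingCat.of A)).2.2 K).1 hK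

end Groth.Agent.Lib.T2H2.AffRed
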