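import Mathlib
import Groth.Prelude.Def_DCoh3
import Groth.Agent.Lib.T2H8PCohTriangle
import Groth.Agent.Lib.T2H8PCohBiprod
import Groth.Agent.Lib.T2H8PCohBdd
import Groth.Agent.Lib.T2H8PCohFT
import Groth.Agent.Lib.T2H2AffRedA
import Groth.Agent.Lib.T2H1RestrictPush
import Groth.Agent.Lib.T2H1RelPerfTri
import Groth.Agent.Lib.Helper20LocFree
import Groth.Agent.Lib.Helper23FinType
import Groth.Agent.S0934

/-!
# Pseudo-coherence and direct images along closed immersions: generalities (helper1)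

* `bcIso`: `(i_* E)|_V ≅ (i|_V)_* (E|_{i⁻¹V})` on derived categories.
* `locPCoh_rD`, `locPCoh_of_rD`: pointwise locality of `m`-pseudo-coherence.
* `pcAll`: the triangulated subcategory of pseudo-coherent objects of `D(O_Y)`.
* `exists_freeAt`: if `H^b(K)` is of finite type and `H^j(K) = 0` for `j > b`, locally there is a
  `b`-approximation `O^n[-b] ⟶ K`.
* `isFT_of_isFT_pushforward`: finite type descends along `i_*` for a closed immersion `i`.
-/

set_option autoImplicit false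
universe u
open CategoryTheory CategoryTheory.Limits AlgebraicGeometry

attribute [local instance] HasDerivedCategory.standard

namespace Groth.Agent.Lib.T2H1.ClImmPC

open Groth.Agent.Lib.T2H8.PCohTriangle Groth.Agent.Lib.T2H8.PCohBiprod
  Groth.Agent.Lib.T2H8.PerfLocal Groth.Agent.Lib.T2H8.PCohBdd
  Groth.Agent.Lib.T2H1.RestrictPush Scheme.Modules DerivedCategory

scoped instance preservesFiniteColimits_push {A B : Scheme.{u}} (i : A ⟶ B) [IsClosedImmersion i] :
    PreservesFiniteColimits (pushforward i) := preservesFiniteColimits_pushforward i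

scoped instance preservesFiniteLimits_push {A B : Scheme.{u}} (i : A ⟶ B) :
    PreservesFiniteLimits (pushforward i) := preservesFiniteLimits_pushforward i

variable {Z X : Scheme.{u}} (i : Z ⟶ X) [IsClosedImmersion i]

instance isClosedImmersion_restrict (V : X.Opens) : IsClosedImmersion (i ∣_ V) :=
  inferInstance

/-- the direct image along a closed immersion, on derived categories -/
noncomputable abbrev pD : DCoh.D Z ⥤ DCoh.D X := (pushforward i).mapDerivedCategory

noncomputable def bcIso (V : X.Opens) :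
    pD i ⋙ rD V.ι ≅ rD (i ⁻¹ᵁ V).ι ⋙ pD (i ∣_ V) :=
  mapDerivedCategoryCompIso (pushforward i) (restrictFunctor V.ι)
    (restrictFunctor (i ⁻¹ᵁ V).ι ⋙ pushforward (i ∣_ V)) (pushRestrictIso i V) ≪≫
  (mapDerivedCategoryCompIso (restrictFunctor (i ⁻¹ᵁ V).ι) (pushforward (i ∣_ V)) _
    (Iso.refl _)).symm


section Local

open Groth.Agent.Lib.T2H2.AffRed

variable {Y : Scheme.{u}}

/-- pointwise: pseudo-coherence restricts along open immersions -/
lemma locPCoh_rD {U : Scheme.{u}} (j : U ⟶ Y) [IsOpenImmersion j] (m : ℤ) (K : DCoh.D Y) (x' : U)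
    (h : LocPCoh m K (j x')) : LocPCoh m ((rD j).obj K) x' := by
  obtain ⟨U₁, j₁, hj₁, x₁, hx₁, hP⟩ := h
  obtain ⟨V, k, hk, hxV, hkj⟩ := exists_lift_nbhd j j₁ x' x₁ hx₁
  obtain ⟨E, α, hE, hα⟩ := hP.refine k (V.ι ≫ j) hkj
  exact ⟨V, V.ι, inferInstance, ⟨x', hxV⟩, rfl, E,
    α ≫ ((rDComp V.ι j (V.ι ≫ j) rfl).app K).inv, hE, hα.comp (isApprox_of_isIso m _)⟩

/-- pointwise: pseudo-coherence can be checked after restriction along an open immersion -/
lemma locPCoh_of_rD {U : Scheme.{u}} (j : U ⟶ Y) [IsOpenImmersion j] (m : ℤ) (K : DCoh.D Y)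
    (x' : U) (h : LocPCoh m ((rD j).obj K) x') : LocPCoh m K (j x') := by
  obtain ⟨U', j', hj', y, hy, E, α, hE, hα⟩ := h
  refine ⟨U', j' ≫ j, inferInstance, y, ?_, E, α ≫ ((rDComp j' j (j' ≫ j) rfl).app K).hom, hE,
    hα.comp (isApprox_of_isIso m _)⟩
  rw [← hy]
  rfl

/-- a global approximation gives global pseudo-coherence of the restriction -/
lemma isPseudoCoherentD_rD_of_pCohAt {U : Scheme.{u}} (j : U ⟶ Y) [IsOpenImmersion j] (m : ℤ)
    (K : DCoh.D Y) (h : PCohAt m K j) : DCoh.IsPseudoCoherentD m ((rD j).obj K) := by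
  rw [isPseudoCoherentD_iff]
  intro x'
  exact locPCoh_rD j m K x' ⟨U, j, inferInstance, x', rfl, h⟩

end Local

section PcAll

open Groth.Agent.Lib.T2H1.RelPerfTri Pretriangulated Groth.Agent.Lib.T2H8.PCohRelBiprod ZeroObject

/-- pseudo-coherent objects (all degrees) -/
def pcAll (Y : Scheme.{u}) : ObjectProperty (DCoh.D Y) := fun K => ∀ m : ℤ, DCoh.IsPseudoCoherentD m K

instance (Y : Scheme.{u}) : (pcAll Y).IsClosedUnderIsomorphisms where
  of_iso e h := fun m => isPseudoCoherentD_of_iso e (h m)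

instance (Y : Scheme.{u}) : (pcAll Y).IsTriangulated where
  exists_zero := ⟨0, isZero_zero _, fun m => isPseudoCoherentD_of_isZero m _ (isZero_zero _)⟩
  isStableUnderShiftBy n := ⟨fun K hK => isPseudoCoherentD_shift K hK n⟩
  toIsTriangulatedClosed₂ := ObjectProperty.IsTriangulatedClosed₂.mk'
    (fun T hT h₁ h₃ m => (main_S0889 m T hT).2.1 (h₁ m) (h₃ m))


lemma pcAll_single_of_zero (Y : Scheme.{u}) (b : ℤ) (N : Y.Modules)
    (hN : pcAll Y ((DerivedCategory.singleFunctor Y.Modules 0).obj N)) :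
    pcAll Y ((DerivedCategory.singleFunctor Y.Modules b).obj N) :=
  (pcAll Y).prop_of_iso (((DerivedCategory.singleFunctors Y.Modules).shiftIso (-b) b 0 (by simp)).app N)
    ((pcAll Y).le_shift (-b) _ hN)

lemma pcAll_single_coprod (Y : Scheme.{u}) (b : ℤ) (N : Y.Modules)
    (hN : pcAll Y ((DerivedCategory.singleFunctor Y.Modules 0).obj N)) (n : ℕ) :
    pcAll Y ((DerivedCategory.singleFunctor Y.Modules b).obj (∐ fun _ : Fin n => N)) := by
  let g : Fin n → DCoh.D Y := fun _ => (DerivedCategory.singleFunctor Y.Modules b).obj N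
  have h1 : pcAll Y (∏ᶜ g) := (pcAll Y).prop_product (fun _ => pcAll_single_of_zero Y b N hN)
  have e : (DerivedCategory.singleFunctor Y.Modules b).obj (∐ fun _ : Fin n => N) ≅ ∏ᶜ g :=
    PreservesCoproduct.iso (DerivedCategory.singleFunctor Y.Modules b) (fun _ : Fin n => N) ≪≫
      (biproduct.isoCoproduct g).symm ≪≫ biproduct.isoProduct g
  exact (pcAll Y).prop_of_iso e.symm h1


lemma isStrictlyPerfect_single (Y : Scheme.{u}) (b : ℤ) (M : Y.Modules)
    (hM : FlatMod.IsFinLocFree M) :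
    DCoh.IsStrictlyPerfect ((HomologicalComplex.single Y.Modules (ComplexShape.up ℤ) b).obj M) := by
  refine ⟨⟨b, b, fun i hi => ?_⟩, fun i => ?_⟩
  · exact HomologicalComplex.isZero_single_obj_X _ _ _ _ (by omega)
  · by_cases h : i = b
    · subst h
      exact Groth.Agent.Lib.T2H8.SchLocHtpy.isFinLocFree_of_iso
        (HomologicalComplex.singleObjXSelf (ComplexShape.up ℤ) i M).symm hM
    · exact Groth.Agent.Lib.T2H8.PCohFT.isFinLocFree_of_isZero
        (HomologicalComplex.isZero_single_obj_X _ _ _ _ h)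

lemma pcAll_Q_of_isStrictlyPerfect (Y : Scheme.{u}) (E : CochainComplex Y.Modules ℤ)
    (hE : DCoh.IsStrictlyPerfect E) : pcAll Y (Q.obj E) := by
  intro m
  rw [isPseudoCoherentD_iff]
  intro x
  exact ⟨Y, 𝟙 Y, inferInstance, x, rfl, (rC (𝟙 Y)).obj E,
    ((Scheme.Modules.restrictFunctor (𝟙 Y)).mapDerivedCategoryFactors.app E).inv,
    isStrictlyPerfect_restrict _ E hE, isApprox_of_isIso m _⟩

lemma pcAll_single_flf (Y : Scheme.{u}) (b : ℤ) (M : Y.Modules) (hM : FlatMod.IsFinLocFree M) :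
    pcAll Y ((DerivedCategory.singleFunctor Y.Modules b).obj M) :=
  (pcAll Y).prop_of_iso ((DerivedCategory.singleFunctorIsoCompQ Y.Modules b).app M).symm
    (pcAll_Q_of_isStrictlyPerfect Y _ (isStrictlyPerfect_single Y b M hM))

end PcAll


section Tri

open Pretriangulated

lemma locPCoh_obj₂ {Y : Scheme.{u}} (m : ℤ) (T : Triangle (DCoh.D Y))
    (hT : T ∈ distTriang (DCoh.D Y)) (x : Y)
    (h₁ : LocPCoh m T.obj₁ x) (h₃ : LocPCoh m T.obj₃ x) : LocPCoh m T.obj₂ x := by
  have h₃' : LocPCoh (m + 1) (T.obj₃⟦(-1 : ℤ)⟧) x := by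
    have := h₃.shift (-1)
    have e : m - (-1) = m + 1 := by ring
    rwa [e] at this
  exact locPCoh_obj₃ m T.invRotate (inv_rot_of_distTriang T hT) x h₃' h₁

universe w₁ v₁ u₁

lemma isZero_homology_obj₃ {A : Type u₁} [Category.{v₁} A] [Abelian A] [HasDerivedCategory.{w₁} A]
    (T : Triangle (DerivedCategory A)) (hT : T ∈ distTriang _) (b : ℤ)
    (h₁ : ∀ j : ℤ, b < j → IsZero ((homologyFunctor A j).obj T.obj₁))
    (h₂ : ∀ j : ℤ, b < j → IsZero ((homologyFunctor A j).obj T.obj₂))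
    (hepi : Epi ((homologyFunctor A b).map T.mor₁)) (j : ℤ) (hj : b ≤ j) :
    IsZero ((homologyFunctor A j).obj T.obj₃) := by
  haveI : Epi ((homologyFunctor A j).map T.mor₂) := by
    rw [HomologySequence.epi_homologyMap_mor₂_iff T hT j (j + 1) rfl]
    exact (h₁ (j + 1) (by omega)).eq_of_tgt _ _
  rcases hj.eq_or_lt with rfl | hlt
  · exact IsZero.of_epi_eq_zero ((homologyFunctor A b).map T.mor₂)
      ((HomologySequence.epi_homologyMap_mor₁_iff T hT b).1 hepi)
  · exact IsZero.of_epi ((homologyFunctor A j).map T.mor₂) (h₂ j hlt)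

end Tri

section Abstract

variable {𝒜 ℬ : Type*} [Category 𝒜] [Abelian 𝒜] [Category ℬ] [Abelian ℬ] (F : 𝒜 ⥤ ℬ)
  [F.Additive] [PreservesFiniteLimits F] [PreservesFiniteColimits F]

lemma shortComplex_map_homologyπ (S : ShortComplex 𝒜) :
    ∃ θ : (S.map F).homology ≅ F.obj S.homology,
      (S.map F).homologyπ ≫ θ.hom = (S.mapCyclesIso F).hom ≫ F.map S.homologyπ := by
  refine ⟨(S.leftHomologyData.map F).homologyIso ≪≫ F.mapIso S.leftHomologyIso, ?_⟩
  have h1 := (S.leftHomologyData.map F).homologyπ_comp_homologyIso_hom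
  simp only [Iso.trans_hom, Functor.mapIso_hom, ← Category.assoc]
  rw [h1]
  simp only [Category.assoc]
  change (S.mapCyclesIso F).hom ≫ F.map S.leftHomologyπ ≫ F.map S.leftHomologyIso.hom = _
  rw [← F.map_comp]
  rfl

lemma exists_lift_cycles (K : CochainComplex 𝒜 ℤ) (b : ℤ) {P' : ℬ}
    (ψ : P' ⟶ F.obj (K.cycles b)) :
    ∃ (κ : P' ⟶ ((F.mapHomologicalComplex (ComplexShape.up ℤ)).obj K).cycles b)
      (θ : ((F.mapHomologicalComplex (ComplexShape.up ℤ)).obj K).homology b ≅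
        F.obj (K.homology b)),
      κ ≫ ((F.mapHomologicalComplex (ComplexShape.up ℤ)).obj K).iCycles b =
        ψ ≫ F.map (K.iCycles b) ∧
      κ ≫ ((F.mapHomologicalComplex (ComplexShape.up ℤ)).obj K).homologyπ b ≫ θ.hom =
        ψ ≫ F.map (K.homologyπ b) := by
  obtain ⟨θ, hθ⟩ := shortComplex_map_homologyπ F (K.sc b)
  refine ⟨ψ ≫ ((K.sc b).mapCyclesIso F).inv, θ, ?_, ?_⟩
  · have : ((K.sc b).mapCyclesIso F).inv ≫ ((K.sc b).map F).iCycles = F.map (K.sc b).iCycles := by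
      rw [Iso.inv_comp_eq]
      exact ((K.sc b).mapCyclesIso_hom_iCycles F).symm
    rw [Category.assoc]
    exact congrArg (ψ ≫ ·) this
  · rw [Category.assoc]
    have : ((K.sc b).mapCyclesIso F).inv ≫ ((K.sc b).map F).homologyπ ≫ θ.hom =
        F.map (K.sc b).homologyπ := by
      rw [hθ, Iso.inv_hom_id_assoc]
    exact congrArg (ψ ≫ ·) this

lemma exists_hom_from_single (K : CochainComplex 𝒜 ℤ) (b : ℤ) {P' : ℬ}
    (ψ : P' ⟶ F.obj (K.cycles b)) (hψ : Epi (ψ ≫ F.map (K.homologyπ b))) :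
    ∃ c : (HomologicalComplex.single ℬ (ComplexShape.up ℤ) b).obj P' ⟶
        (F.mapHomologicalComplex (ComplexShape.up ℤ)).obj K,
      Epi (HomologicalComplex.homologyMap c b) := by
  obtain ⟨κ, θ, h1, h2⟩ := exists_lift_cycles F K b ψ
  let K₂ := (F.mapHomologicalComplex (ComplexShape.up ℤ)).obj K
  have hρ : ∀ k : ℤ, (ComplexShape.up ℤ).Rel b k → (κ ≫ K₂.iCycles b) ≫ K₂.d b k = 0 := by
    intro k _
    rw [Category.assoc, K₂.iCycles_d, comp_zero]
  let c := HomologicalComplex.mkHomFromSingle (κ ≫ K₂.iCycles b) hρ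
  refine ⟨c, ?_⟩
  let Sg := (HomologicalComplex.single ℬ (ComplexShape.up ℤ) b).obj P'
  haveI : IsIso (Sg.iCycles b) :=
    Sg.isIso_iCycles b (b + 1) (by simp) (by simp [Sg])
  have hκ : HomologicalComplex.cyclesMap c b =
      Sg.iCycles b ≫ (HomologicalComplex.singleObjXSelf (ComplexShape.up ℤ) b P').hom ≫ κ := by
    rw [← cancel_mono (K₂.iCycles b), HomologicalComplex.cyclesMap_i]
    simp [c]
    rfl
  have key : Sg.homologyπ b ≫ HomologicalComplex.homologyMap c b ≫ θ.hom =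
      (Sg.iCycles b ≫ (HomologicalComplex.singleObjXSelf (ComplexShape.up ℤ) b P').hom) ≫
        ψ ≫ F.map (K.homologyπ b) := by
    rw [HomologicalComplex.homologyπ_naturality_assoc, hκ, ← h2]
    simp only [Category.assoc]
    rfl
  haveI : Epi (Sg.homologyπ b ≫ HomologicalComplex.homologyMap c b ≫ θ.hom) := by
    rw [key]
    exact epi_comp _ _
  haveI : Epi (HomologicalComplex.homologyMap c b ≫ θ.hom) := epi_of_epi (Sg.homologyπ b) _
  have : HomologicalComplex.homologyMap c b =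
      (HomologicalComplex.homologyMap c b ≫ θ.hom) ≫ θ.inv := by simp
  rw [this]
  infer_instance

end Abstract

section Lift

open Groth.Agent.Lib.Helper20.LocFree Groth.Agent.Lib.Helper2.LocFree

/-- local lifting of finitely many generators of a cohomology sheaf to a chain map -/
lemma exists_single_hom (Y : Scheme.{u}) (G : CochainComplex Y.Modules ℤ) (b : ℤ) (n : ℕ)
    (φ : FlatMod.freeMod Y n ⟶ G.homology b) [Epi φ] (y : Y) :
    ∃ (W : Y.Opens) (c : (HomologicalComplex.single (W : Scheme.{u}).Modules (ComplexShape.up ℤ) b).obj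
        (FlatMod.freeMod W n) ⟶ (rC W.ι).obj G), y ∈ W ∧
      Epi (HomologicalComplex.homologyMap c b) := by
  obtain ⟨W, ψ, hyW, hψ⟩ := Groth.Agent.S0934.result (G.homologyπ b) φ
    (isFinLocFree_of_iso_freeMod _ (Iso.refl _)) y
  let ψ' : FlatMod.freeMod W n ⟶ (restrictFunctor W.ι).obj (G.cycles b) :=
    (restrictFreeMod W.ι n).inv ≫ ψ
  haveI : Epi (ψ' ≫ (restrictFunctor W.ι).map (G.homologyπ b)) := by
    have : ψ' ≫ (restrictFunctor W.ι).map (G.homologyπ b) =
        (restrictFreeMod W.ι n).inv ≫ (restrictFunctor W.ι).map φ := by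
      simp only [ψ', Category.assoc]
      rw [hψ]
    rw [this]
    infer_instance
  obtain ⟨c, hc⟩ := exists_hom_from_single (restrictFunctor W.ι) G b ψ' inferInstance
  exact ⟨W, c, hyW, hc⟩


variable {Y : Scheme.{u}}

/-- after restriction along `j`, `K` receives a map from `O^n[-b]` which is a `b`-approximation -/
def FreeAt (b : ℤ) (K : DCoh.D Y) {U : Scheme.{u}} (j : U ⟶ Y) [IsOpenImmersion j] : Prop :=
  ∃ (n : ℕ) (α : (DerivedCategory.singleFunctor U.Modules b).obj (FlatMod.freeMod U n) ⟶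
    (rD j).obj K), IsApprox b α

lemma FreeAt.refine {b : ℤ} {K : DCoh.D Y} {U U' : Scheme.{u}} {j : U ⟶ Y} [IsOpenImmersion j]
    (h : FreeAt b K j) (k : U' ⟶ U) (j' : U' ⟶ Y) [IsOpenImmersion k] [IsOpenImmersion j']
    (hkj : k ≫ j = j') : FreeAt b K j' := by
  obtain ⟨n, α, hα⟩ := h
  let e : (rD k).obj ((DerivedCategory.singleFunctor U.Modules b).obj (FlatMod.freeMod U n)) ≅
      (DerivedCategory.singleFunctor U'.Modules b).obj (FlatMod.freeMod U' n) :=
    ((restrictFunctor k).mapDerivedCategorySingleFunctor b).app (FlatMod.freeMod U n) ≪≫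
      (DerivedCategory.singleFunctor U'.Modules b).mapIso (restrictFreeMod k n)
  refine ⟨n, e.inv ≫ (rD k).map α ≫ ((rDComp k j j' hkj).app K).hom, ?_⟩
  exact (isApprox_of_isIso b _).comp
    ((hα.map (Scheme.Modules.restrictFunctor k)).comp (isApprox_of_isIso b _))

lemma FreeAt.of_le_range {b : ℤ} {K : DCoh.D Y} {U : Scheme.{u}} {j : U ⟶ Y}
    [IsOpenImmersion j] (h : FreeAt b K j) (V : Y.Opens) (hV : (V : Set Y) ⊆ Set.range j) :
    FreeAt b K V.ι := by
  have hr : Set.range V.ι ⊆ Set.range j := by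
    rw [Scheme.Opens.range_ι]
    exact hV
  haveI : IsOpenImmersion (IsOpenImmersion.lift j V.ι hr ≫ j) := by
    rw [IsOpenImmersion.lift_fac]
    infer_instance
  haveI : IsOpenImmersion (IsOpenImmersion.lift j V.ι hr) := IsOpenImmersion.of_comp _ j
  exact h.refine (IsOpenImmersion.lift j V.ι hr) V.ι (IsOpenImmersion.lift_fac j V.ι hr)


open Groth.Agent.Lib.Helper23.FinType in
/-- if `H^b(K)` is of finite type and `H^j(K) = 0` for `j > b`, then locally `K` receives a
`b`-approximation from `O^n[-b]` -/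
theorem exists_freeAt (K : DCoh.D Y) (b : ℤ) (hvan : ∀ j : ℤ, b < j → IsZero (DCoh.HD K j))
    (hft : CohB1.IsFT (DCoh.HD K b)) (y : Y) :
    ∃ (U : Scheme.{u}) (j : U ⟶ Y) (_ : IsOpenImmersion j) (y' : U), j y' = y ∧ FreeAt b K j := by
  let G := (Q : _ ⥤ DCoh.D Y).objPreimage K
  let e : Q.obj G ≅ K := Q.objObjPreimageIso K
  have eH : ∀ i : ℤ, G.homology i ≅ DCoh.HD K i := fun i =>
    ((homologyFunctorFactors Y.Modules i).app G).symm ≪≫ (homologyFunctor Y.Modules i).mapIso e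
  haveI : SheafOfModules.IsFiniteType (R := Y.ringCatSheaf) (DCoh.HD K b) := hft
  haveI : SheafOfModules.IsFiniteType (R := Y.ringCatSheaf) (G.homology b) :=
    isFiniteType_of_iso (eH b).symm
  obtain ⟨ι, U, 𝒢, h𝒢, hU, -⟩ := exists_isOpenCover_generatingSections (G.homology b)
  have hy : y ∈ (⨆ i, U i : Y.Opens) := by rw [hU.iSup_eq_top]; trivial
  obtain ⟨i₀, hyi⟩ := TopologicalSpace.Opens.mem_iSup.1 hy
  haveI := (h𝒢 i₀).finite
  let n := Nat.card (𝒢 i₀).I
  let eI : (𝒢 i₀).I ≃ Fin n := Finite.equivFin _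
  let eF : SheafOfModules.free (R := (U i₀ : Scheme.{u}).ringCatSheaf) (𝒢 i₀).I ≅
      FlatMod.freeMod (U i₀) n :=
    Sigma.whiskerEquiv (f := fun _ : (𝒢 i₀).I => SheafOfModules.unit (U i₀ : Scheme.{u}).ringCatSheaf)
      (g := fun _ : Fin n => Coh.structureModule (U i₀)) eI (fun _ => Iso.refl _)
  let G₁ := (rC (U i₀).ι).obj G
  let θ₁ : (restrictFunctor (U i₀).ι).obj (G.homology b) ≅ G₁.homology b :=
    ((homologyFunctorMapIso (restrictFunctor (U i₀).ι) b).app G).symm
  let φ : FlatMod.freeMod (U i₀) n ⟶ G₁.homology b := eF.inv ≫ (𝒢 i₀).π ≫ θ₁.hom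
  haveI : Epi φ := by
    have h1 : Epi ((𝒢 i₀).π) := (𝒢 i₀).epi
    have h2 : Epi θ₁.hom := inferInstance
    have h3 : Epi ((𝒢 i₀).π ≫ θ₁.hom) := @epi_comp _ _ _ _ _ _ h1 _ h2
    exact @epi_comp _ _ _ _ _ _ inferInstance _ h3
  obtain ⟨W, c, hyW, hc⟩ := exists_single_hom (U i₀) G₁ b n φ ⟨y, hyi⟩
  refine ⟨W, W.ι ≫ (U i₀).ι, inferInstance, ⟨⟨y, hyi⟩, hyW⟩, rfl, n, ?_⟩
  -- homology vanishing for the target
  have hz : ∀ i : ℤ, b < i → IsZero (((rC W.ι).obj G₁).homology i) := by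
    intro i hi
    have h0 : IsZero (G.homology i) := IsZero.of_iso (hvan i hi) (eH i)
    have h1 : IsZero (G₁.homology i) :=
      IsZero.of_iso ((restrictFunctor (U i₀).ι).map_isZero h0)
        ((homologyFunctorMapIso (restrictFunctor (U i₀).ι) i).app G)
    exact IsZero.of_iso ((restrictFunctor W.ι).map_isZero h1)
      ((homologyFunctorMapIso (restrictFunctor W.ι) i).app G₁)
  have hc' : IsApprox b (Q.map c) := by
    rw [isApprox_Q_map_iff]
    refine ⟨fun i hi => ?_, hc⟩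
    have hs : IsZero (((HomologicalComplex.single (W : Scheme.{u}).Modules (ComplexShape.up ℤ) b).obj
        (FlatMod.freeMod W n)).homology i) := by
      apply HomologicalComplex.isZero_single_obj_homology
      omega
    exact ⟨⟨0, hs.eq_of_src _ _, (hz i hi).eq_of_src _ _⟩⟩
  let β : Q.obj ((rC W.ι).obj G₁) ⟶ (rD (W.ι ≫ (U i₀).ι)).obj K :=
    ((restrictFunctor W.ι).mapDerivedCategoryFactors.app G₁).inv ≫
      (rD W.ι).map ((restrictFunctor (U i₀).ι).mapDerivedCategoryFactors.app G).inv ≫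
      ((rDComp W.ι (U i₀).ι (W.ι ≫ (U i₀).ι) rfl).app (Q.obj G)).hom ≫
      (rD (W.ι ≫ (U i₀).ι)).map e.hom
  haveI : IsIso β := by
    dsimp only [β]
    infer_instance
  exact ⟨((DerivedCategory.singleFunctorIsoCompQ _ b).app _).hom ≫ Q.map c ≫ β,
    (isApprox_of_isIso b _).comp (hc'.comp (isApprox_of_isIso b β))⟩

end Lift

section FT

open Groth.Agent.Lib.Helper23.FinType Groth.Agent.Lib.Helper2.LocFree Groth.Agent.Lib.T2H8.PCohFT

lemma isFinLocFree_free' (Y : Scheme.{u}) (I : Type u) [Finite I] :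
    FlatMod.IsFinLocFree (SheafOfModules.free (R := Y.ringCatSheaf) I : Y.Modules) := by
  let e : I ≃ Fin (Nat.card I) := Finite.equivFin I
  exact isFinLocFree_of_iso_freeMod _
    (Sigma.whiskerEquiv (f := fun _ : I => SheafOfModules.unit Y.ringCatSheaf)
      (g := fun _ : Fin (Nat.card I) => Coh.structureModule Y) e (fun _ => Iso.refl _))

/-- the direct image along a closed immersion reflects epimorphisms -/
lemma epi_of_epi_pushforward {A B : Scheme.{u}} (i : A ⟶ B) [IsClosedImmersion i]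
    {M N : A.Modules} (f : M ⟶ N) [Epi ((pushforward i).map f)] : Epi f := by
  apply Preadditive.epi_of_isZero_cokernel
  apply isZero_of_isZero_pushforward i
  exact IsZero.of_iso (isZero_cokernel_of_epi ((pushforward i).map f))
    (PreservesCokernel.iso (pushforward i) f)

/-- finite type descends along the direct image of a closed immersion -/
theorem isFT_of_isFT_pushforward {Z X : Scheme.{u}} (i : Z ⟶ X) [IsClosedImmersion i]
    (M : Z.Modules) (h : CohB1.IsFT ((pushforward i).obj M)) : CohB1.IsFT M := by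
  apply isFT_of_epi_locFree
  intro z
  haveI : SheafOfModules.IsFiniteType (R := X.ringCatSheaf) ((pushforward i).obj M) := h
  obtain ⟨ι, U, 𝒢, h𝒢, hU, -⟩ := exists_isOpenCover_generatingSections ((pushforward i).obj M)
  have hz : i z ∈ (⨆ k, U k : X.Opens) := by rw [hU.iSup_eq_top]; trivial
  obtain ⟨k₀, hzk⟩ := TopologicalSpace.Opens.mem_iSup.1 hz
  haveI := (h𝒢 k₀).finite
  let V := U k₀
  refine ⟨(i ⁻¹ᵁ V : Z.Opens), (i ⁻¹ᵁ V).ι, inferInstance, ⟨z, hzk⟩, rfl, ?_⟩
  let adj := Scheme.Modules.pullbackPushforwardAdjunction (i ∣_ V)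
  let π' : SheafOfModules.free (R := (V : Scheme.{u}).ringCatSheaf) (𝒢 k₀).I ⟶
      (pushforward (i ∣_ V)).obj (M.restrict (i ⁻¹ᵁ V).ι) :=
    (𝒢 k₀).π ≫ (pushRestrictIso i V).hom.app M
  have hπ' : Epi π' := by
    have h1 : Epi ((𝒢 k₀).π) := (𝒢 k₀).epi
    exact @epi_comp _ _ _ _ _ _ h1 _ inferInstance
  let πZ := (adj.homEquiv _ _).symm π'
  have hπ : π' = adj.unit.app _ ≫ (pushforward (i ∣_ V)).map πZ := by
    have := adj.homEquiv_unit (f := πZ)
    rw [← this]
    exact ((adj.homEquiv _ _).apply_symm_apply π').symm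
  haveI : Epi ((pushforward (i ∣_ V)).map πZ) := by
    have : Epi (adj.unit.app _ ≫ (pushforward (i ∣_ V)).map πZ) := by
      rw [← hπ]
      exact hπ'
    exact epi_of_epi (adj.unit.app _) _
  refine ⟨_, πZ, ?_, epi_of_epi_pushforward (i ∣_ V) πZ⟩
  exact Groth.Agent.Lib.T2H8.SchLocHtpy.isFinLocFree_of_iso
    (SheafOfModules.pullbackObjFreeIso.{u} (i ∣_ V).toRingCatSheafHom (𝒢 k₀).I).symm
    (isFinLocFree_free' _ _)

end FT

section ClImm

open Groth.Agent.Lib.T2H2.AffRed Groth.Agent.Lib.T2H8.PCohRelBiprod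

/-- the hypothesis: `i_* O_Z` is pseudo-coherent -/
def HO : Prop := pcAll X (DCoh.inD X ((pushforward i).obj (Coh.structureModule Z)))

variable {i}

lemma pcAll_pD_single_free (hO : HO i) (b : ℤ) (n : ℕ) :
    pcAll X ((pD i).obj ((DerivedCategory.singleFunctor Z.Modules b).obj (FlatMod.freeMod Z n))) := by
  have e1 := ((pushforward i).mapDerivedCategorySingleFunctor b).app (FlatMod.freeMod Z n)
  have e2 : (pushforward i).obj (FlatMod.freeMod Z n) ≅
      ∐ fun _ : Fin n => (pushforward i).obj (Coh.structureModule Z) :=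
    PreservesCoproduct.iso (pushforward i) (fun _ : Fin n => Coh.structureModule Z)
  exact (pcAll X).prop_of_iso
    (e1 ≪≫ (DerivedCategory.singleFunctor X.Modules b).mapIso e2).symm
    (pcAll_single_coprod X b _ hO n)

lemma hO_restrict (hO : HO i) (V : X.Opens) : HO (i ∣_ V) := by
  have e1 : (pushforward (i ∣_ V)).obj (Coh.structureModule (i ⁻¹ᵁ V)) ≅
      (restrictFunctor V.ι).obj ((pushforward i).obj (Coh.structureModule Z)) :=
    (pushforward (i ∣_ V)).mapIso (restrictUnitIso (i ⁻¹ᵁ V).ι).symm ≪≫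
      ((pushRestrictIso i V).app (Coh.structureModule Z)).symm
  have e2 := ((restrictFunctor V.ι).mapDerivedCategorySingleFunctor 0).app
    ((pushforward i).obj (Coh.structureModule Z))
  refine (pcAll _).prop_of_iso
    (e2 ≪≫ (DerivedCategory.singleFunctor _ 0).mapIso e1.symm) ?_
  intro m
  exact isPseudoCoherentD_rD V.ι m _ (hO m)

variable (i)

lemma locPCoh_pD_of_restrict (V : X.Opens) (m : ℤ) (E : DCoh.D Z) (y : V)
    (h : LocPCoh m ((pD (i ∣_ V)).obj ((rD (i ⁻¹ᵁ V).ι).obj E)) y) :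
    LocPCoh m ((pD i).obj E) (V.ι y) :=
  locPCoh_of_rD V.ι m _ y (h.of_iso ((bcIso i V).app E).symm)

lemma isPseudoCoherentD_pD_restrict (V : X.Opens) (m : ℤ) (E : DCoh.D Z)
    (h : DCoh.IsPseudoCoherentD m ((pD i).obj E)) :
    DCoh.IsPseudoCoherentD m ((pD (i ∣_ V)).obj ((rD (i ⁻¹ᵁ V).ι).obj E)) :=
  isPseudoCoherentD_of_iso ((bcIso i V).app E) (isPseudoCoherentD_rD V.ι m _ h)


lemma exists_opens_preimage_subset {U : Scheme.{u}} (j : U ⟶ Z) [IsOpenImmersion j] (z' : U) :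
    ∃ V : X.Opens, i (j z') ∈ V ∧ ((i ⁻¹ᵁ V : Z.Opens) : Set Z) ⊆ Set.range j := by
  obtain ⟨t, hto, ht⟩ := i.isClosedEmbedding.isInducing.isOpen_iff.1 j.isOpenEmbedding.isOpen_range
  refine ⟨⟨t, hto⟩, ?_, ?_⟩
  · change j z' ∈ i ⁻¹' t
    rw [ht]
    exact ⟨z', rfl⟩
  · intro y hy
    change y ∈ i ⁻¹' t at hy
    rwa [ht] at hy

lemma ι_morphismRestrict_apply (V : X.Opens) (z : Z) (hz : i z ∈ V) :
    V.ι ((i ∣_ V) ⟨z, hz⟩) = i z := by
  have := congrArg (fun f : (i ⁻¹ᵁ V : Scheme.{u}) ⟶ X => f ⟨z, hz⟩) (morphismRestrict_ι i V)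
  simpa using this

lemma isPseudoCoherentD_of_isZero_HD {Y : Scheme.{u}} (m : ℤ) (K : DCoh.D Y)
    (h : ∀ j : ℤ, m ≤ j → IsZero (DCoh.HD K j)) : DCoh.IsPseudoCoherentD m K := by
  rw [isPseudoCoherentD_iff]
  intro x
  exact ⟨Y, 𝟙 Y, inferInstance, x, rfl, PCohAt.of_isZero_homology m K (𝟙 Y) (fun k hk =>
    IsZero.of_iso ((restrictFunctor (𝟙 Y)).map_isZero (h k hk))
      ((mapDerivedCategoryHomologyIso (restrictFunctor (𝟙 Y)) k).app K))⟩

lemma isPseudoCoherentD_of_le {Y : Scheme.{u}} {m m' : ℤ} (K : DCoh.D Y)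
    (h : DCoh.IsPseudoCoherentD m K) (hm : m ≤ m') : DCoh.IsPseudoCoherentD m' K := by
  rw [isPseudoCoherentD_iff] at h ⊢
  exact fun x => LocPCoh.of_le (h x) hm

lemma isZero_restrict_of_subset {Y : Scheme.{u}} (N : Y.Modules) {U : Scheme.{u}} (j : U ⟶ Y)
    [IsOpenImmersion j] (h : IsZero ((restrictFunctor j).obj N)) (V : Y.Opens)
    (hV : (V : Set Y) ⊆ Set.range j) : IsZero ((restrictFunctor V.ι).obj N) := by
  have hr : Set.range V.ι ⊆ Set.range j := by
    rw [Scheme.Opens.range_ι]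
    exact hV
  haveI : IsOpenImmersion (IsOpenImmersion.lift j V.ι hr ≫ j) := by
    rw [IsOpenImmersion.lift_fac]
    infer_instance
  haveI : IsOpenImmersion (IsOpenImmersion.lift j V.ι hr) := IsOpenImmersion.of_comp _ j
  exact IsZero.of_iso ((restrictFunctor (IsOpenImmersion.lift j V.ι hr)).map_isZero h)
    (((restrictFunctorCongr (IsOpenImmersion.lift_fac j V.ι hr)).symm ≪≫
      restrictFunctorComp (IsOpenImmersion.lift j V.ι hr) j).app N)

end ClImm

end Groth.Agent.Lib.T2H1.ClImmPC
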