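import Groth.Agent.Lib.T2H1ClImmPC

/-!
# Pseudo-coherence and direct images along closed immersions: the main theorem (helper1)

`isPseudoCoherentD_pD_iff`: for a closed immersion `i : Z ⟶ X` with `i_* O_Z` pseudo-coherent,
`E ∈ D(O_Z)` is `m`-pseudo-coherent iff `i_* E` is.  The proof is an induction on `b - m` where
`H^j(E) = 0` for `j > b` (`claim`): `H^b(E)` is of finite type, a local `b`-approximation
`O^n[-b] ⟶ E` is chosen and the induction hypothesis is applied to its cone.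
-/

set_option autoImplicit false
set_option linter.style.haveILetI false
universe u
open CategoryTheory CategoryTheory.Limits AlgebraicGeometry

attribute [local instance] HasDerivedCategory.standard

namespace Groth.Agent.Lib.T2H1.ClImmPC

open Groth.Agent.Lib.T2H8.PCohTriangle Groth.Agent.Lib.T2H8.PCohBiprod
  Groth.Agent.Lib.T2H8.PerfLocal Groth.Agent.Lib.T2H8.PCohBdd Groth.Agent.Lib.T2H8.PCohFT
  Groth.Agent.Lib.T2H1.RestrictPush Groth.Agent.Lib.T2H2.AffRed
  Groth.Agent.Lib.Helper23.FinType Scheme.Modules DerivedCategory Pretriangulated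

variable {Z X : Scheme.{u}} (i : Z ⟶ X) [IsClosedImmersion i]

lemma exists_freeAt_preimage (K : DCoh.D Z) (b : ℤ)
    (hvan : ∀ j : ℤ, b < j → IsZero (DCoh.HD K j)) (hft : CohB1.IsFT (DCoh.HD K b)) (z : Z) :
    ∃ V : X.Opens, i z ∈ V ∧ FreeAt b K (i ⁻¹ᵁ V).ι := by
  obtain ⟨U, j, hj, z', hz', hF⟩ := exists_freeAt K b hvan hft z
  obtain ⟨V, hzV, hV⟩ := exists_opens_preimage_subset i j z'
  rw [hz'] at hzV
  exact ⟨V, hzV, hF.of_le_range _ hV⟩

/-- the data of the induction step -/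
lemma exists_step_data (hO : HO i) (E : DCoh.D Z) (b : ℤ)
    (hvan : ∀ j : ℤ, b < j → IsZero (DCoh.HD E j)) (hft : CohB1.IsFT (DCoh.HD E b)) (z : Z) :
    ∃ (V : X.Opens) (_ : i z ∈ V) (T₁ C : DCoh.D (i ⁻¹ᵁ V))
      (α : T₁ ⟶ (rD (i ⁻¹ᵁ V).ι).obj E) (β : (rD (i ⁻¹ᵁ V).ι).obj E ⟶ C) (γ : C ⟶ T₁⟦(1 : ℤ)⟧),
      Triangle.mk α β γ ∈ distTriang _ ∧ pcAll _ T₁ ∧
      pcAll _ ((pD (i ∣_ V)).obj T₁) ∧ ∀ j : ℤ, b - 1 < j → IsZero (DCoh.HD C j) := by
  obtain ⟨V, hzV, n, α, hα⟩ := exists_freeAt_preimage i E b hvan hft z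
  obtain ⟨C, β, γ, hT⟩ := distinguished_cocone_triangle α
  refine ⟨V, hzV, _, C, α, β, γ, hT, ?_, ?_, ?_⟩
  · exact pcAll_single_flf _ b _
      (Groth.Agent.Lib.Helper2.LocFree.isFinLocFree_of_iso_freeMod _ (Iso.refl _))
  · exact pcAll_pD_single_free (hO_restrict hO V) b n
  · intro j hj
    refine isZero_homology_obj₃ _ hT b (fun k hk => ?_) (fun k hk => ?_) hα.2 j (by omega)
    · exact DerivedCategory.isZero_of_isLE
        ((DerivedCategory.singleFunctor _ b).obj (FlatMod.freeMod (i ⁻¹ᵁ V) n)) b k hk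
    · exact IsZero.of_iso ((restrictFunctor (i ⁻¹ᵁ V).ι).map_isZero (hvan k hk))
        ((mapDerivedCategoryHomologyIso (restrictFunctor (i ⁻¹ᵁ V).ι) k).app E)

/-- vanishing of the cohomology of `i_* E` -/
lemma isZero_HD_pD (E : DCoh.D Z) (k : ℤ) (h : IsZero (DCoh.HD E k)) :
    IsZero (DCoh.HD ((pD i).obj E) k) :=
  IsZero.of_iso ((pushforward i).map_isZero h)
    ((mapDerivedCategoryHomologyIso (pushforward i) k).app E)

lemma isZero_HD_of_pD (E : DCoh.D Z) (k : ℤ) (h : IsZero (DCoh.HD ((pD i).obj E) k)) :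
    IsZero (DCoh.HD E k) :=
  isZero_of_isZero_pushforward i _
    (IsZero.of_iso h ((mapDerivedCategoryHomologyIso (pushforward i) k).app E).symm)

variable {i} in
theorem claim (n : ℕ) : ∀ {Z X : Scheme.{u}} (i : Z ⟶ X) [IsClosedImmersion i] (_ : HO i)
    (E : DCoh.D Z) (m b : ℤ), b - m < n → (∀ j : ℤ, b < j → IsZero (DCoh.HD E j)) → ∀ z : Z,
    (DCoh.IsPseudoCoherentD m E → LocPCoh m ((pD i).obj E) (i z)) ∧
    (DCoh.IsPseudoCoherentD m ((pD i).obj E) → LocPCoh m E z) := by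
  induction n with
  | zero =>
    intro Z X i _ hO E m b hbm hvan z
    have hE : DCoh.IsPseudoCoherentD m E :=
      isPseudoCoherentD_of_isZero_HD m E (fun j hj => hvan j (by omega))
    have hiE : DCoh.IsPseudoCoherentD m ((pD i).obj E) :=
      isPseudoCoherentD_of_isZero_HD m _ (fun j hj => isZero_HD_pD i E j (hvan j (by omega)))
    exact ⟨fun _ => (isPseudoCoherentD_iff m _).1 hiE (i z),
      fun _ => (isPseudoCoherentD_iff m _).1 hE z⟩
  | succ n ih =>
    intro Z X i _ hO E m b hbm hvan z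
    by_cases hlt : b < m
    · have hE : DCoh.IsPseudoCoherentD m E :=
        isPseudoCoherentD_of_isZero_HD m E (fun j hj => hvan j (by omega))
      have hiE : DCoh.IsPseudoCoherentD m ((pD i).obj E) :=
        isPseudoCoherentD_of_isZero_HD m _ (fun j hj => isZero_HD_pD i E j (hvan j (by omega)))
      exact ⟨fun _ => (isPseudoCoherentD_iff m _).1 hiE (i z),
        fun _ => (isPseudoCoherentD_iff m _).1 hE z⟩
    · have hmb : m ≤ b := by omega
      -- the common part, given finite type of `H^b(E)`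
      have common : CohB1.IsFT (DCoh.HD E b) →
          (DCoh.IsPseudoCoherentD m E → LocPCoh m ((pD i).obj E) (i z)) ∧
          (DCoh.IsPseudoCoherentD m ((pD i).obj E) → LocPCoh m E z) := by
        intro hft
        obtain ⟨V, hzV, T₁, C, α, β, γ, hT, hT₁, hiT₁, hC⟩ := exists_step_data i hO E b hvan hft z
        have IH := ih (i ∣_ V) (hO_restrict hO V) C m (b - 1) (by omega) hC ⟨z, hzV⟩
        have hT' := (pD (i ∣_ V)).map_distinguished _ hT
        constructor
        · intro hE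
          have h2 : DCoh.IsPseudoCoherentD m ((rD (i ⁻¹ᵁ V).ι).obj E) :=
            isPseudoCoherentD_rD _ m E hE
          have h3 : DCoh.IsPseudoCoherentD m C := (main_S0889 m _ hT).1 (hT₁ (m + 1)) h2
          have h4 := IH.1 h3
          have h5 : LocPCoh m ((pD (i ∣_ V)).obj T₁) ((i ∣_ V) ⟨z, hzV⟩) :=
            (isPseudoCoherentD_iff m _).1 (hiT₁ m) _
          have h6 := locPCoh_obj₂ m _ hT' _ h5 h4
          have h7 := locPCoh_pD_of_restrict i V m E _ h6
          rwa [ι_morphismRestrict_apply] at h7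
        · intro hE
          have h2 : DCoh.IsPseudoCoherentD m ((pD (i ∣_ V)).obj ((rD (i ⁻¹ᵁ V).ι).obj E)) :=
            isPseudoCoherentD_pD_restrict i V m E hE
          have h3 : DCoh.IsPseudoCoherentD m ((pD (i ∣_ V)).obj C) :=
            (main_S0889 m _ hT').1 (hiT₁ (m + 1)) h2
          have h4 := IH.2 h3
          have h5 : LocPCoh m T₁ ⟨z, hzV⟩ := (isPseudoCoherentD_iff m _).1 (hT₁ m) _
          have h6 := locPCoh_obj₂ m _ hT _ h5 h4
          exact locPCoh_of_rD (i ⁻¹ᵁ V).ι m E ⟨z, hzV⟩ h6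
      constructor
      · intro hE
        exact (common ((main_S0890 b E (isPseudoCoherentD_of_le E hE hmb)).1 hvan)).1 hE
      · intro hE
        have h1 := (main_S0890 b _ (isPseudoCoherentD_of_le _ hE hmb)).1
          (fun j hj => isZero_HD_pD i E j (hvan j hj))
        haveI : SheafOfModules.IsFiniteType (R := X.ringCatSheaf)
          (((pushforward i).mapDerivedCategory ⋙ homologyFunctor X.Modules b).obj E) := h1
        have h2 : CohB1.IsFT ((pushforward i).obj (DCoh.HD E b)) :=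
          isFiniteType_of_iso ((mapDerivedCategoryHomologyIso (pushforward i) b).app E)
        exact (common (isFT_of_isFT_pushforward i _ h2)).2 hE

lemma isZero_of_isEmpty' {Y : Scheme.{u}} [IsEmpty Y] (M : Y.Modules) : IsZero M := by
  rw [IsZero.iff_id_eq_zero]
  ext U x
  have hU : U = ⊥ := by
    ext y
    exact isEmptyElim y
  have ht : IsTerminal (M.presheaf.obj (Opposite.op U)) :=
    TopCat.Sheaf.isTerminalOfEqEmpty ⟨M.presheaf, M.isSheaf⟩ hU
  have hz : IsZero (M.presheaf.obj (Opposite.op U)) := IsZero.of_iso (isZero_zero _)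
    (ht.uniqueUpToIso (isZero_zero Ab).isTerminal)
  haveI : Subsingleton (M.presheaf.obj (Opposite.op U)) :=
    AddCommGrpCat.subsingleton_of_isZero hz
  exact Subsingleton.elim (α := (M.presheaf.obj (Opposite.op U))) _ _

/-- **closed immersions and pseudo-coherence**: for a closed immersion `i` with `i_* O_Z`
pseudo-coherent, `E` is `m`-pseudo-coherent iff `i_* E` is -/
theorem isPseudoCoherentD_pD_iff (hO : HO i) (E : DCoh.D Z) (m : ℤ) :
    DCoh.IsPseudoCoherentD m E ↔ DCoh.IsPseudoCoherentD m ((pD i).obj E) := by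
  constructor
  · intro hE
    rw [isPseudoCoherentD_iff]
    intro x
    by_cases hx : x ∈ Set.range i
    · obtain ⟨z, rfl⟩ := hx
      obtain ⟨U, j, hj, z₁, hz₁, hP⟩ := (isPseudoCoherentD_iff m E).1 hE z
      obtain ⟨b, hb⟩ := PCohAt.exists_bound hP
      obtain ⟨V, hzV, hV⟩ := exists_opens_preimage_subset i j z₁
      rw [hz₁] at hzV
      have hvan : ∀ k : ℤ, b < k → IsZero (DCoh.HD ((rD (i ⁻¹ᵁ V).ι).obj E) k) := fun k hk =>
        IsZero.of_iso (isZero_restrict_of_subset _ j (hb k hk) _ hV)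
          ((mapDerivedCategoryHomologyIso (restrictFunctor (i ⁻¹ᵁ V).ι) k).app E)
      have h1 := (claim ((b - m).toNat + 1) (i ∣_ V) (hO_restrict hO V) _ m b (by omega) hvan
        ⟨z, hzV⟩).1 (isPseudoCoherentD_rD _ m E hE)
      have h2 := locPCoh_pD_of_restrict i V m E _ h1
      rwa [ι_morphismRestrict_apply] at h2
    · let V : X.Opens := ⟨(Set.range i)ᶜ, i.isClosedEmbedding.isClosed_range.isOpen_compl⟩
      haveI : IsEmpty (i ⁻¹ᵁ V : Z.Opens) := ⟨fun y => y.2 ⟨y.1, rfl⟩⟩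
      have h1 : DCoh.IsPseudoCoherentD m ((pD (i ∣_ V)).obj ((rD (i ⁻¹ᵁ V).ι).obj E)) :=
        isPseudoCoherentD_of_isZero_HD m _
          (fun k _ => isZero_HD_pD (i ∣_ V) _ k (isZero_of_isEmpty' _))
      have h2 := locPCoh_pD_of_restrict i V m E ⟨x, hx⟩ ((isPseudoCoherentD_iff m _).1 h1 _)
      exact h2
  · intro hE
    rw [isPseudoCoherentD_iff]
    intro z
    obtain ⟨U, j, hj, x₁, hx₁, hP⟩ := (isPseudoCoherentD_iff m _).1 hE (i z)
    obtain ⟨b, hb⟩ := PCohAt.exists_bound hP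
    let V : X.Opens := j.opensRange
    have hzV : i z ∈ V := ⟨x₁, hx₁⟩
    have hvan : ∀ k : ℤ, b < k → IsZero (DCoh.HD ((rD (i ⁻¹ᵁ V).ι).obj E) k) := by
      intro k hk
      apply isZero_HD_of_pD (i ∣_ V)
      refine IsZero.of_iso ?_ ((homologyFunctor _ k).mapIso ((bcIso i V).app E).symm)
      exact IsZero.of_iso (isZero_restrict_of_subset _ j (hb k hk) V (fun y hy => hy))
        ((mapDerivedCategoryHomologyIso (restrictFunctor V.ι) k).app _)
    have h1 := (claim ((b - m).toNat + 1) (i ∣_ V) (hO_restrict hO V) _ m b (by omega) hvan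
      ⟨z, hzV⟩).2 (isPseudoCoherentD_pD_restrict i V m E hE)
    exact locPCoh_of_rD (i ⁻¹ᵁ V).ι m E ⟨z, hzV⟩ h1

end Groth.Agent.Lib.T2H1.ClImmPC
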