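import Groth.Agent.Lib.T2H1KhUnit

/-!
# Right derived functors of composites with exact functors (helper1)

Unbounded total right derived functors of functors out of Grothendieck abelian categories,
composed on the left or on the right with exact functors.
-/

set_option autoImplicit false

universe w w' w₁ w₂ w₃ v v' v'' u u' u''

open CategoryTheory CategoryTheory.Limits HomologicalComplex MorphismProperty

namespace Groth.Agent.Lib.T2H1.DerivedComp

open Groth.Agent.Lib.Helper17.KInj

section Post

variable {A : Type u} [Category.{v} A] [Abelian A] [IsGrothendieckAbelian.{w} A]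
  {B : Type u'} [Category.{v'} B] [Abelian B] {C : Type u''} [Category.{v''} C] [Abelian C]
  [HasDerivedCategory.{w₁} A] [HasDerivedCategory.{w₂} B] [HasDerivedCategory.{w₃} C]
  (G : A ⥤ B) [G.Additive] (RG : DerivedCategory A ⥤ DerivedCategory B)
  (β : G.mapHomologicalComplex (ComplexShape.up ℤ) ⋙ DerivedCategory.Q ⟶ DerivedCategory.Q ⋙ RG)
  [RG.IsRightDerivedFunctor β (HomologicalComplex.quasiIso A (ComplexShape.up ℤ))]
  (E : B ⥤ C) [E.Additive] [PreservesFiniteLimits E] [PreservesFiniteColimits E]

/-- the unit of `RG ⋙ E` for an exact functor `E`. -/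
noncomputable def unitPost :
    (G ⋙ E).mapHomologicalComplex (ComplexShape.up ℤ) ⋙ DerivedCategory.Q ⟶
      DerivedCategory.Q ⋙ (RG ⋙ E.mapDerivedCategory) :=
  Functor.whiskerRight (Functor.mapHomologicalComplexCompIso (Iso.refl (G ⋙ E))
      (ComplexShape.up ℤ)).inv DerivedCategory.Q ≫
    (Functor.associator _ _ _).hom ≫
    Functor.whiskerLeft (G.mapHomologicalComplex (ComplexShape.up ℤ))
      E.mapDerivedCategoryFactors.inv ≫
    (Functor.associator _ _ _).inv ≫
    Functor.whiskerRight β E.mapDerivedCategory ≫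
    (Functor.associator _ _ _).hom

instance isRightDerivedFunctor_unitPost :
    (RG ⋙ E.mapDerivedCategory).IsRightDerivedFunctor (unitPost G RG β E)
      (HomologicalComplex.quasiIso A (ComplexShape.up ℤ)) := by
  refine (fibLocalizerMorphism_derives.{w} _
    (isInvertedBy_mapHomologicalComplex_comp_Q (G ⋙ E))).isRightDerivedFunctor_of_isIso _
    (fun I => ?_)
  haveI := isIso_app_of_fibrant'.{w} G RG β I.obj I.property
  simp only [unitPost, NatTrans.comp_app, Functor.whiskerRight_app, Functor.whiskerLeft_app,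
    Functor.associator_hom_app, Functor.associator_inv_app, Category.comp_id, Category.id_comp]
  haveI h1 : IsIso (E.mapDerivedCategory.map (β.app I.obj)) := inferInstance
  haveI h2 : IsIso (E.mapDerivedCategoryFactors.inv.app
      ((G.mapHomologicalComplex (ComplexShape.up ℤ)).obj I.obj)) := inferInstance
  haveI h3 : IsIso (DerivedCategory.Q.map
      ((Functor.mapHomologicalComplexCompIso (Iso.refl (G ⋙ E)) (ComplexShape.up ℤ)).inv.app
        I.obj)) := inferInstance
  exact IsIso.comp_isIso' h3 (IsIso.comp_isIso' h2 h1)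

end Post

section Pre

variable {A' : Type u} [Category.{v} A'] [Abelian A'] [IsGrothendieckAbelian.{w} A']
  {A : Type u'} [Category.{v'} A] [Abelian A] [IsGrothendieckAbelian.{w'} A]
  {B : Type u''} [Category.{v''} B] [Abelian B]
  [HasDerivedCategory.{w₁} A'] [HasDerivedCategory.{w₂} A] [HasDerivedCategory.{w₃} B]
  (E : A' ⥤ A) [E.Additive] [PreservesFiniteLimits E] [PreservesFiniteColimits E]
  (G : A ⥤ B) [G.Additive] (RG : DerivedCategory A ⥤ DerivedCategory B)
  (β : G.mapHomologicalComplex (ComplexShape.up ℤ) ⋙ DerivedCategory.Q ⟶ DerivedCategory.Q ⋙ RG)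
  [RG.IsRightDerivedFunctor β (HomologicalComplex.quasiIso A (ComplexShape.up ℤ))]

/-- the unit of `E ⋙ RG` for an exact functor `E`. -/
noncomputable def unitPre :
    (E ⋙ G).mapHomologicalComplex (ComplexShape.up ℤ) ⋙ DerivedCategory.Q ⟶
      DerivedCategory.Q ⋙ (E.mapDerivedCategory ⋙ RG) :=
  Functor.whiskerRight (Functor.mapHomologicalComplexCompIso (Iso.refl (E ⋙ G))
      (ComplexShape.up ℤ)).inv DerivedCategory.Q ≫
    (Functor.associator _ _ _).hom ≫
    Functor.whiskerLeft (E.mapHomologicalComplex (ComplexShape.up ℤ)) β ≫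
    (Functor.associator _ _ _).inv ≫
    Functor.whiskerRight E.mapDerivedCategoryFactors.inv RG ≫
    (Functor.associator _ _ _).hom

/-- if the exact functor `E` preserves K-injective complexes, `E ⋙ RG` is the right derived
functor of `E ⋙ G`. -/
theorem isRightDerivedFunctor_unitPre
    (hE : ∀ (I : CochainComplex A' ℤ) [I.IsKInjective],
      CochainComplex.IsKInjective ((E.mapHomologicalComplex (ComplexShape.up ℤ)).obj I)) :
    (E.mapDerivedCategory ⋙ RG).IsRightDerivedFunctor (unitPre E G RG β)
      (HomologicalComplex.quasiIso A' (ComplexShape.up ℤ)) := by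
  refine (fibLocalizerMorphism_derives.{w} _
    (isInvertedBy_mapHomologicalComplex_comp_Q (E ⋙ G))).isRightDerivedFunctor_of_isIso _
    (fun I => ?_)
  haveI := I.property.isKInjective
  haveI := hE I.obj
  haveI := isIso_app_of_isKInjective.{w'} G RG β
    ((E.mapHomologicalComplex (ComplexShape.up ℤ)).obj I.obj)
  simp only [unitPre, NatTrans.comp_app, Functor.whiskerRight_app, Functor.whiskerLeft_app,
    Functor.associator_hom_app, Functor.associator_inv_app, Category.comp_id, Category.id_comp]
  haveI h1 : IsIso (RG.map (E.mapDerivedCategoryFactors.inv.app I.obj)) := inferInstance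
  haveI h2 : IsIso (β.app ((E.mapHomologicalComplex (ComplexShape.up ℤ)).obj I.obj)) :=
    inferInstance
  haveI h3 : IsIso (DerivedCategory.Q.map
      ((Functor.mapHomologicalComplexCompIso (Iso.refl (E ⋙ G)) (ComplexShape.up ℤ)).inv.app
        I.obj)) := inferInstance
  exact IsIso.comp_isIso' h3 (IsIso.comp_isIso' h2 h1)

end Pre

section Unique

variable {A : Type u} [Category.{v} A] [Abelian A]
  {B : Type u'} [Category.{v'} B] [Abelian B]
  [HasDerivedCategory.{w₁} A] [HasDerivedCategory.{w₂} B]
  {Φ Ψ : A ⥤ B} [Φ.Additive] [Ψ.Additive] (θ : Φ ≅ Ψ)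
  (RΦ RΨ : DerivedCategory A ⥤ DerivedCategory B)
  (βΦ : Φ.mapHomologicalComplex (ComplexShape.up ℤ) ⋙ DerivedCategory.Q ⟶ DerivedCategory.Q ⋙ RΦ)
  (βΨ : Ψ.mapHomologicalComplex (ComplexShape.up ℤ) ⋙ DerivedCategory.Q ⟶ DerivedCategory.Q ⋙ RΨ)
  [RΦ.IsRightDerivedFunctor βΦ (HomologicalComplex.quasiIso A (ComplexShape.up ℤ))]
  [RΨ.IsRightDerivedFunctor βΨ (HomologicalComplex.quasiIso A (ComplexShape.up ℤ))]

/-- isomorphic functors have isomorphic right derived functors. -/
noncomputable def derivedIso : RΦ ≅ RΨ :=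
  Functor.rightDerivedNatIso RΦ RΨ βΦ βΨ (HomologicalComplex.quasiIso A (ComplexShape.up ℤ))
    (Functor.isoWhiskerRight (NatIso.mapHomologicalComplex θ (ComplexShape.up ℤ))
      DerivedCategory.Q)

end Unique

end Groth.Agent.Lib.T2H1.DerivedComp
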