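import Groth.Agent.Lib.T2H1MVTri
import Groth.Agent.Lib.T2H1DerivedComp
import Groth.Agent.Lib.T2H8PerfLocal

/-!
# `Rf_*` and isomorphisms of schemes (T2H2)

For a commutative square `a ≫ g = g' ≫ b` with `a`, `b` isomorphisms of schemes,
`Rg_* ⋙ b^* ≅ a^* ⋙ Rg'_*`.
-/

set_option autoImplicit false
set_option linter.style.haveILetI false
universe u
open CategoryTheory CategoryTheory.Limits AlgebraicGeometry Opposite

attribute [local instance] HasDerivedCategory.standard

namespace Groth.Agent.Lib.T2H2.IsoBC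

open Scheme.Modules Groth.Agent.Lib.T2H8.PerfLocal Groth.Agent.Lib.T2H1.DerivedComp
  Groth.Agent.Lib.T2H1.MVTri Groth.Agent.Lib.T2H1.RestrictPush

variable {P P' Q Q' : Scheme.{u}}

/-- restriction along an isomorphism of schemes is an equivalence -/
noncomputable def restrictEquiv (a : P' ≅ P) : P.Modules ≌ P'.Modules :=
  CategoryTheory.Equivalence.mk (restrictFunctor a.hom) (restrictFunctor a.inv)
    (restrictFunctorId.symm ≪≫ restrictFunctorCongr a.inv_hom_id.symm ≪≫
      restrictFunctorComp a.inv a.hom)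
    ((restrictFunctorComp a.hom a.inv).symm ≪≫ restrictFunctorCongr a.hom_inv_id ≪≫
      restrictFunctorId)

/-- pushforward along an isomorphism of schemes is an equivalence -/
noncomputable def pushEquiv (b : Q' ≅ Q) : Q.Modules ≌ Q'.Modules :=
  CategoryTheory.Equivalence.mk (pushforward b.inv) (pushforward b.hom)
    ((pushforwardId Q).symm ≪≫ pushforwardCongr b.inv_hom_id.symm ≪≫
      (pushforwardComp b.inv b.hom).symm)
    (pushforwardComp b.hom b.inv ≪≫ pushforwardCongr b.hom_inv_id ≪≫ pushforwardId Q')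

/-- restriction along an isomorphism is the pushforward along its inverse -/
noncomputable def restrictIsoPushforward (b : Q' ≅ Q) :
    restrictFunctor b.hom ≅ pushforward b.inv :=
  Adjunction.leftAdjointUniq (restrictAdjunction b.hom) (pushEquiv b).toAdjunction

/-- the (underived) base change isomorphism for a commutative square of isomorphisms -/
noncomputable def pushRestrictIsoOfIso (a : P' ≅ P) (b : Q' ≅ Q) (g : P ⟶ Q) (g' : P' ⟶ Q')
    (h : a.hom ≫ g = g' ≫ b.hom) :
    pushforward g ⋙ restrictFunctor b.hom ≅ restrictFunctor a.hom ⋙ pushforward g' :=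
  Functor.isoWhiskerLeft _ (restrictIsoPushforward b) ≪≫ pushforwardComp g b.inv ≪≫
    pushforwardCongr (show g ≫ b.inv = a.inv ≫ g' by
      rw [Iso.comp_inv_eq, Category.assoc, ← h, Iso.inv_hom_id_assoc]) ≪≫
    (pushforwardComp a.inv g').symm ≪≫
    Functor.isoWhiskerRight (restrictIsoPushforward a).symm _

/-- restriction along an isomorphism preserves K-injective complexes -/
theorem isKInjective_restrict_iso (a : P' ≅ P) (I : CochainComplex P.Modules ℤ)
    [I.IsKInjective] :
    CochainComplex.IsKInjective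
      (((restrictFunctor a.hom).mapHomologicalComplex (ComplexShape.up ℤ)).obj I) := by
  have adj : restrictFunctor a.inv ⊣ restrictFunctor a.hom := (restrictEquiv a).symm.toAdjunction
  exact Groth.Agent.Lib.Helper16.KInjAdj.isKInjective_map adj I

/-- `Rg_* ⋙ b^* ≅ a^* ⋙ Rg'_*` for a commutative square of isomorphisms. -/
theorem nonempty_Rpush_rD_iso (a : P' ≅ P) (b : Q' ≅ Q) (g : P ⟶ Q) (g' : P' ⟶ Q')
    (h : a.hom ≫ g = g' ≫ b.hom) [DCoh.HasRpush g] [DCoh.HasRpush g'] :
    Nonempty (DCoh.Rpush g ⋙ rD b.hom ≅ rD a.hom ⋙ DCoh.Rpush g') := by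
  obtain ⟨β₁, hβ₁⟩ := exists_unit_Rpush g
  obtain ⟨β₂, hβ₂⟩ := exists_unit_Rpush g'
  haveI hpre := isRightDerivedFunctor_unitPre.{u, u} (restrictFunctor a.hom)
    (pushforward g') (DCoh.Rpush g') β₂ (fun I _ => isKInjective_restrict_iso a I)
  haveI hpost := isRightDerivedFunctor_unitPost.{u} (pushforward g) (DCoh.Rpush g) β₁
    (restrictFunctor b.hom)
  exact ⟨derivedIso (pushRestrictIsoOfIso a b g g' h) _ _
    (unitPost (pushforward g) (DCoh.Rpush g) β₁ (restrictFunctor b.hom))
    (unitPre (restrictFunctor a.hom) (pushforward g') (DCoh.Rpush g') β₂)⟩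

end Groth.Agent.Lib.T2H2.IsoBC
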