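import Groth.Agent.Lib.T2H1ClImmPC2
import Groth.Agent.Lib.T2H2IsoBCA

/-!
# Closed immersions and pseudo-coherence: pointwise forms and abstract base change (helper1)

* `locPCoh_pD_iff`: pointwise form of `isPseudoCoherentD_pD_iff`.
* `locPCoh_pD_of_notMem_range`: `i_* E` is pseudo-coherent at points outside the image of `i`.
* `pushRestrictIsoAbs`, `bcIsoAbs`, `locPCoh_pD_bc_iff`: base change of `i_*` along a cartesian
  square whose other two sides are open immersions.
-/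

set_option autoImplicit false
set_option linter.style.haveILetI false
universe u
open CategoryTheory CategoryTheory.Limits AlgebraicGeometry

attribute [local instance] HasDerivedCategory.standard

namespace Groth.Agent.Lib.T2H1.ClImmPC

open Groth.Agent.Lib.T2H8.PCohTriangle Groth.Agent.Lib.T2H8.PCohBiprod
  Groth.Agent.Lib.T2H8.PerfLocal Groth.Agent.Lib.T2H8.PCohBdd Groth.Agent.Lib.T2H8.PCohFT
  Groth.Agent.Lib.T2H1.RestrictPush Groth.Agent.Lib.T2H2.AffRed Groth.Agent.Lib.T2H2.IsoBC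
  Groth.Agent.Lib.Helper23.FinType Scheme.Modules DerivedCategory Pretriangulated

variable {Z X : Scheme.{u}} (i : Z ⟶ X) [IsClosedImmersion i]

/-- pointwise form of `isPseudoCoherentD_pD_iff` -/
theorem locPCoh_pD_iff (hO : HO i) (E : DCoh.D Z) (m : ℤ) (z : Z) :
    LocPCoh m E z ↔ LocPCoh m ((pD i).obj E) (i z) := by
  constructor
  · rintro ⟨U, j, hj, z₁, hz₁, hP⟩
    obtain ⟨b, hb⟩ := PCohAt.exists_bound hP
    obtain ⟨V, hzV, hV⟩ := exists_opens_preimage_subset i j z₁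
    rw [hz₁] at hzV
    have hvan : ∀ k : ℤ, b < k → IsZero (DCoh.HD ((rD (i ⁻¹ᵁ V).ι).obj E) k) := fun k hk =>
      IsZero.of_iso (isZero_restrict_of_subset _ j (hb k hk) _ hV)
        ((mapDerivedCategoryHomologyIso (restrictFunctor (i ⁻¹ᵁ V).ι) k).app E)
    have h1 := (claim ((b - m).toNat + 1) (i ∣_ V) (hO_restrict hO V) _ m b (by omega) hvan
      ⟨z, hzV⟩).1 (isPseudoCoherentD_rD_of_pCohAt _ m E (hP.of_le_range _ hV))
    have h2 := locPCoh_pD_of_restrict i V m E _ h1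
    rwa [ι_morphismRestrict_apply] at h2
  · rintro ⟨U, j, hj, x₁, hx₁, hP⟩
    obtain ⟨b, hb⟩ := PCohAt.exists_bound hP
    let V : X.Opens := j.opensRange
    have hzV : i z ∈ V := ⟨x₁, hx₁⟩
    have hvan : ∀ k : ℤ, b < k → IsZero (DCoh.HD ((rD (i ⁻¹ᵁ V).ι).obj E) k) := by
      intro k hk
      apply isZero_HD_of_pD (i ∣_ V)
      refine IsZero.of_iso ?_ ((homologyFunctor _ k).mapIso ((bcIso i V).app E).symm)
      exact IsZero.of_iso (isZero_restrict_of_subset _ j (hb k hk) V (fun y hy => hy))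
        ((mapDerivedCategoryHomologyIso (restrictFunctor V.ι) k).app _)
    have h0 : DCoh.IsPseudoCoherentD m ((rD V.ι).obj ((pD i).obj E)) :=
      isPseudoCoherentD_rD_of_pCohAt _ m _ (hP.of_le_range V (fun y hy => hy))
    have h1 := (claim ((b - m).toNat + 1) (i ∣_ V) (hO_restrict hO V) _ m b (by omega) hvan
      ⟨z, hzV⟩).2 (Groth.Agent.Lib.T2H8.PCohRelBiprod.isPseudoCoherentD_of_iso
        ((bcIso i V).app E) h0)
    exact locPCoh_of_rD (i ⁻¹ᵁ V).ι m E ⟨z, hzV⟩ h1

/-- outside the (closed) image of `i`, the direct image `i_* E` is pseudo-coherent -/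
theorem locPCoh_pD_of_notMem_range (E : DCoh.D Z) (m : ℤ) (x : X) (hx : x ∉ Set.range i) :
    LocPCoh m ((pD i).obj E) x := by
  let V : X.Opens := ⟨(Set.range i)ᶜ, i.isClosedEmbedding.isClosed_range.isOpen_compl⟩
  haveI : IsEmpty (i ⁻¹ᵁ V : Z.Opens) := ⟨fun y => y.2 ⟨y.1, rfl⟩⟩
  have h1 : DCoh.IsPseudoCoherentD m ((pD (i ∣_ V)).obj ((rD (i ⁻¹ᵁ V).ι).obj E)) :=
    isPseudoCoherentD_of_isZero_HD m _
      (fun k _ => isZero_HD_pD (i ∣_ V) _ k (isZero_of_isEmpty' _))
  exact locPCoh_pD_of_restrict i V m E ⟨x, hx⟩ ((isPseudoCoherentD_iff m _).1 h1 _)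

section AbstractBC

variable {Z P Z' P' : Scheme.{u}} (i : Z ⟶ P) [IsClosedImmersion i] (jP : P' ⟶ P)
  [IsOpenImmersion jP] (jZ : Z' ⟶ Z) [IsOpenImmersion jZ] (i' : Z' ⟶ P') [IsClosedImmersion i']

/-- base change for the direct image along a closed immersion and a cartesian square of open
immersions (module level) -/
noncomputable def pushRestrictIsoAbs (comm : i' ≫ jP = jZ ≫ i)
    (cart : Set.range jZ = i ⁻¹' (Set.range jP)) :
    pushforward i ⋙ restrictFunctor jP ≅ restrictFunctor jZ ⋙ pushforward i' :=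
  let V : P.Opens := jP.opensRange
  let b : P' ≅ (V : Scheme.{u}) := jP.isoOpensRange
  have hr : Set.range jZ = Set.range (i ⁻¹ᵁ V).ι := by
    rw [Scheme.Opens.range_ι, cart]
    rfl
  let a : Z' ≅ ((i ⁻¹ᵁ V : Z.Opens) : Scheme.{u}) := IsOpenImmersion.isoOfRangeEq jZ (i ⁻¹ᵁ V).ι hr
  have ha : a.hom ≫ (i ⁻¹ᵁ V).ι = jZ := IsOpenImmersion.isoOfRangeEq_hom_fac _ _ _
  have hb : b.hom ≫ V.ι = jP := Scheme.Hom.isoOpensRange_hom_ι jP
  have hsq : a.hom ≫ (i ∣_ V) = i' ≫ b.hom := by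
    rw [← cancel_mono V.ι, Category.assoc, Category.assoc, morphismRestrict_ι, reassoc_of% ha, hb,
      comm]
  Functor.isoWhiskerLeft (pushforward i)
      (restrictFunctorCongr hb.symm ≪≫ restrictFunctorComp b.hom V.ι) ≪≫
    (Functor.associator _ _ _).symm ≪≫
    Functor.isoWhiskerRight (pushRestrictIso i V) (restrictFunctor b.hom) ≪≫
    Functor.associator _ _ _ ≪≫
    Functor.isoWhiskerLeft _ (pushRestrictIsoOfIso a b (i ∣_ V) i' hsq) ≪≫
    (Functor.associator _ _ _).symm ≪≫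
    Functor.isoWhiskerRight ((restrictFunctorComp a.hom (i ⁻¹ᵁ V).ι).symm ≪≫
      restrictFunctorCongr ha) (pushforward i')

/-- base change on derived categories -/
noncomputable def bcIsoAbs (comm : i' ≫ jP = jZ ≫ i)
    (cart : Set.range jZ = i ⁻¹' (Set.range jP)) :
    pD i ⋙ rD jP ≅ rD jZ ⋙ pD i' :=
  mapDerivedCategoryCompIso (pushforward i) (restrictFunctor jP)
    (restrictFunctor jZ ⋙ pushforward i') (pushRestrictIsoAbs i jP jZ i' comm cart) ≪≫
  (mapDerivedCategoryCompIso (restrictFunctor jZ) (pushforward i') _ (Iso.refl _)).symm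

/-- pointwise transport of pseudo-coherence through the base change square -/
theorem locPCoh_pD_bc_iff (comm : i' ≫ jP = jZ ≫ i)
    (cart : Set.range jZ = i ⁻¹' (Set.range jP)) (E : DCoh.D Z) (m : ℤ) (p' : P') :
    LocPCoh m ((pD i).obj E) (jP p') ↔ LocPCoh m ((pD i').obj ((rD jZ).obj E)) p' := by
  constructor
  · intro h
    exact (locPCoh_rD jP m _ p' h).of_iso ((bcIsoAbs i jP jZ i' comm cart).app E)
  · intro h
    exact locPCoh_of_rD jP m _ p' (h.of_iso ((bcIsoAbs i jP jZ i' comm cart).app E).symm)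

end AbstractBC

end Groth.Agent.Lib.T2H1.ClImmPC
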