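import Groth.Agent.Lib.T2H1ClImmPC3

/-!
# Level-refined descent of pseudo-coherence along a closed immersion (helper1)

* `pcLev Y ℓ`: `ℓ`-pseudo-coherent objects; closed under finite products.
* `HOlev i ℓ`: `i_* O_Z` is `ℓ`-pseudo-coherent.
* `claim_of_pD`, `locPCoh_of_pD_lev`: if `E ∈ D^{≤ b}(O_Z)`, `i_* O_Z` is `(m + 1 - b)`-pseudo-coherent
  and `i_* E` is `m`-pseudo-coherent at `i z`, then `E` is `m`-pseudo-coherent at `z`.
-/

set_option autoImplicit false
set_option linter.style.haveILetI false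
universe u
open CategoryTheory CategoryTheory.Limits AlgebraicGeometry

attribute [local instance] HasDerivedCategory.standard

namespace Groth.Agent.Lib.T2H1.ClImmPC

open Groth.Agent.Lib.T2H8.PCohTriangle Groth.Agent.Lib.T2H8.PCohBiprod
  Groth.Agent.Lib.T2H8.PerfLocal Groth.Agent.Lib.T2H8.PCohBdd Groth.Agent.Lib.T2H8.PCohFT
  Groth.Agent.Lib.T2H1.RestrictPush Groth.Agent.Lib.T2H2.AffRed Groth.Agent.Lib.T2H2.IsoBC
  Groth.Agent.Lib.Helper23.FinType Scheme.Modules DerivedCategory Pretriangulated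
  Groth.Agent.Lib.T2H8.PCohRelBiprod Groth.Agent.Lib.T2H1.RelPerfTri ZeroObject

section Lev

/-- `ℓ`-pseudo-coherent objects -/
def pcLev (Y : Scheme.{u}) (ℓ : ℤ) : ObjectProperty (DCoh.D Y) :=
  fun K => DCoh.IsPseudoCoherentD ℓ K

variable (Y : Scheme.{u}) (ℓ : ℤ)

instance : (pcLev Y ℓ).IsClosedUnderIsomorphisms where
  of_iso e h := isPseudoCoherentD_of_iso e h

instance : (pcLev Y ℓ).ContainsZero where
  exists_zero := ⟨0, isZero_zero _, isPseudoCoherentD_of_isZero ℓ _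
    (isZero_zero _)⟩

instance : (pcLev Y ℓ).IsClosedUnderBinaryProducts where
  limitsOfShape_le := by
    rintro K ⟨p⟩
    have h1 : pcLev Y ℓ (p.diag.obj (.mk .left)) := p.prop_diag_obj (.mk .left)
    have h2 : pcLev Y ℓ (p.diag.obj (.mk .right)) := p.prop_diag_obj (.mk .right)
    have h3 : pcLev Y ℓ (p.diag.obj (.mk .left) ⨯ p.diag.obj (.mk .right)) :=
      (main_S0889 ℓ _ (binaryProductTriangle_distinguished _ _)).2.1 h1 h2
    refine (pcLev Y ℓ).prop_of_iso ?_ h3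
    exact IsLimit.conePointUniqueUpToIso (prodIsProd _ _)
      ((IsLimit.postcomposeHomEquiv (diagramIsoPair p.diag) _).2 p.isLimit)

instance : (pcLev Y ℓ).IsClosedUnderFiniteProducts := .mk'

end Lev


section LevLemmas

variable (Y : Scheme.{u})

lemma pcLev_shift {ℓ : ℤ} {K : DCoh.D Y} (h : pcLev Y ℓ K) (k : ℤ) : pcLev Y (ℓ - k) (K⟦k⟧) := by
  unfold pcLev at h ⊢
  rw [isPseudoCoherentD_iff] at h ⊢
  exact fun x => (h x).shift k

lemma pcLev_of_le {ℓ ℓ' : ℤ} {K : DCoh.D Y} (h : pcLev Y ℓ K) (hl : ℓ ≤ ℓ') : pcLev Y ℓ' K :=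
  isPseudoCoherentD_of_le K h hl

lemma pcLev_single_of_zero (ℓ b : ℤ) (N : Y.Modules)
    (hN : pcLev Y ℓ ((DerivedCategory.singleFunctor Y.Modules 0).obj N)) :
    pcLev Y (ℓ + b) ((DerivedCategory.singleFunctor Y.Modules b).obj N) := by
  have h1 := pcLev_shift Y hN (-b)
  have e : ℓ - -b = ℓ + b := by ring
  rw [e] at h1
  exact (pcLev Y (ℓ + b)).prop_of_iso
    (((DerivedCategory.singleFunctors Y.Modules).shiftIso (-b) b 0 (by simp)).app N) h1

lemma pcLev_single_coprod (ℓ b : ℤ) (N : Y.Modules)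
    (hN : pcLev Y ℓ ((DerivedCategory.singleFunctor Y.Modules 0).obj N)) (n : ℕ) :
    pcLev Y (ℓ + b) ((DerivedCategory.singleFunctor Y.Modules b).obj (∐ fun _ : Fin n => N)) := by
  let g : Fin n → DCoh.D Y := fun _ => (DerivedCategory.singleFunctor Y.Modules b).obj N
  have h1 : pcLev Y (ℓ + b) (∏ᶜ g) :=
    (pcLev Y (ℓ + b)).prop_product (fun _ => pcLev_single_of_zero Y ℓ b N hN)
  have e : (DerivedCategory.singleFunctor Y.Modules b).obj (∐ fun _ : Fin n => N) ≅ ∏ᶜ g :=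
    PreservesCoproduct.iso (DerivedCategory.singleFunctor Y.Modules b) (fun _ : Fin n => N) ≪≫
      (biproduct.isoCoproduct g).symm ≪≫ biproduct.isoProduct g
  exact (pcLev Y (ℓ + b)).prop_of_iso e.symm h1

end LevLemmas

section LevClosed

variable {Z X : Scheme.{u}} (i : Z ⟶ X) [IsClosedImmersion i]

/-- the hypothesis: `i_* O_Z` is `ℓ`-pseudo-coherent -/
def HOlev (ℓ : ℤ) : Prop :=
  pcLev X ℓ (DCoh.inD X ((pushforward i).obj (Coh.structureModule Z)))

variable {i}

lemma HOlev.of_le {ℓ ℓ' : ℤ} (h : HOlev i ℓ) (hl : ℓ ≤ ℓ') : HOlev i ℓ' := pcLev_of_le X h hl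

lemma pcLev_pD_single_free {ℓ : ℤ} (hO : HOlev i ℓ) (b : ℤ) (n : ℕ) :
    pcLev X (ℓ + b)
      ((pD i).obj ((DerivedCategory.singleFunctor Z.Modules b).obj (FlatMod.freeMod Z n))) := by
  have e1 := ((pushforward i).mapDerivedCategorySingleFunctor b).app (FlatMod.freeMod Z n)
  have e2 : (pushforward i).obj (FlatMod.freeMod Z n) ≅
      ∐ fun _ : Fin n => (pushforward i).obj (Coh.structureModule Z) :=
    PreservesCoproduct.iso (pushforward i) (fun _ : Fin n => Coh.structureModule Z)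
  exact (pcLev X (ℓ + b)).prop_of_iso
    (e1 ≪≫ (DerivedCategory.singleFunctor X.Modules b).mapIso e2).symm
    (pcLev_single_coprod X ℓ b _ hO n)

lemma HOlev.restrict {ℓ : ℤ} (hO : HOlev i ℓ) (V : X.Opens) : HOlev (i ∣_ V) ℓ := by
  have e1 : (pushforward (i ∣_ V)).obj (Coh.structureModule (i ⁻¹ᵁ V)) ≅
      (restrictFunctor V.ι).obj ((pushforward i).obj (Coh.structureModule Z)) :=
    (pushforward (i ∣_ V)).mapIso (restrictUnitIso (i ⁻¹ᵁ V).ι).symm ≪≫
      ((pushRestrictIso i V).app (Coh.structureModule Z)).symm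
  have e2 := ((restrictFunctor V.ι).mapDerivedCategorySingleFunctor 0).app
    ((pushforward i).obj (Coh.structureModule Z))
  refine (pcLev _ ℓ).prop_of_iso
    (e2 ≪≫ (DerivedCategory.singleFunctor _ 0).mapIso e1.symm) ?_
  exact isPseudoCoherentD_rD V.ι ℓ _ hO

/-- the refined descent claim: only `(m + 1 - b)`-pseudo-coherence of `i_* O_Z` is needed -/
theorem claim_of_pD (n : ℕ) : ∀ {Z X : Scheme.{u}} (i : Z ⟶ X) [IsClosedImmersion i]
    (E : DCoh.D Z) (m b : ℤ), b - m < n → HOlev i (m + 1 - b) →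
    (∀ j : ℤ, b < j → IsZero (DCoh.HD E j)) → ∀ z : Z,
    DCoh.IsPseudoCoherentD m ((pD i).obj E) → LocPCoh m E z := by
  induction n with
  | zero =>
    intro Z X i _ E m b hbm hO hvan z _
    have hE : DCoh.IsPseudoCoherentD m E :=
      isPseudoCoherentD_of_isZero_HD m E (fun j hj => hvan j (by omega))
    exact (isPseudoCoherentD_iff m _).1 hE z
  | succ n ih =>
    intro Z X i _ E m b hbm hO hvan z hE
    by_cases hlt : b < m
    · have hE' : DCoh.IsPseudoCoherentD m E :=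
        isPseudoCoherentD_of_isZero_HD m E (fun j hj => hvan j (by omega))
      exact (isPseudoCoherentD_iff m _).1 hE' z
    · have hmb : m ≤ b := by omega
      have h1 := (main_S0890 b _ (isPseudoCoherentD_of_le _ hE hmb)).1
        (fun j hj => isZero_HD_pD i E j (hvan j hj))
      haveI : SheafOfModules.IsFiniteType (R := X.ringCatSheaf)
        (((pushforward i).mapDerivedCategory ⋙ homologyFunctor X.Modules b).obj E) := h1
      have h2 : CohB1.IsFT ((pushforward i).obj (DCoh.HD E b)) :=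
        isFiniteType_of_iso ((mapDerivedCategoryHomologyIso (pushforward i) b).app E)
      have hft : CohB1.IsFT (DCoh.HD E b) := isFT_of_isFT_pushforward i _ h2
      obtain ⟨V, hzV, k, α, hα⟩ := exists_freeAt_preimage i E b hvan hft z
      obtain ⟨C, β, γ, hT⟩ := distinguished_cocone_triangle α
      have hC : ∀ j : ℤ, b - 1 < j → IsZero (DCoh.HD C j) := by
        intro j hj
        refine isZero_homology_obj₃ _ hT b (fun k' hk => ?_) (fun k' hk => ?_) hα.2 j (by omega)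
        · exact DerivedCategory.isZero_of_isLE
            ((DerivedCategory.singleFunctor _ b).obj (FlatMod.freeMod (i ⁻¹ᵁ V) k)) b k' hk
        · exact IsZero.of_iso ((restrictFunctor (i ⁻¹ᵁ V).ι).map_isZero (hvan k' hk))
            ((mapDerivedCategoryHomologyIso (restrictFunctor (i ⁻¹ᵁ V).ι) k').app E)
      have hOV : HOlev (i ∣_ V) (m + 1 - b) := hO.restrict V
      have hT' := (pD (i ∣_ V)).map_distinguished _ hT
      have h3 : DCoh.IsPseudoCoherentD m ((pD (i ∣_ V)).obj ((rD (i ⁻¹ᵁ V).ι).obj E)) :=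
        isPseudoCoherentD_pD_restrict i V m E hE
      have h4 : DCoh.IsPseudoCoherentD (m + 1) ((pD (i ∣_ V)).obj
          ((DerivedCategory.singleFunctor _ b).obj (FlatMod.freeMod (i ⁻¹ᵁ V) k))) := by
        have := pcLev_pD_single_free hOV b k
        have e : m + 1 - b + b = m + 1 := by ring
        rwa [e] at this
      have h5 : DCoh.IsPseudoCoherentD m ((pD (i ∣_ V)).obj C) :=
        (main_S0889 m _ hT').1 h4 h3
      have IH := ih (i ∣_ V) C m (b - 1) (by omega) (hOV.of_le (by omega)) hC ⟨z, hzV⟩ h5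
      have h6 : LocPCoh m ((DerivedCategory.singleFunctor _ b).obj
          (FlatMod.freeMod (i ⁻¹ᵁ V) k)) ⟨z, hzV⟩ :=
        (isPseudoCoherentD_iff m _).1 (pcAll_single_flf _ b _
          (Groth.Agent.Lib.Helper2.LocFree.isFinLocFree_of_iso_freeMod _ (Iso.refl _)) m) _
      have h7 := locPCoh_obj₂ m _ hT _ h6 IH
      exact locPCoh_of_rD (i ⁻¹ᵁ V).ι m E ⟨z, hzV⟩ h7

variable (i)

/-- pointwise refined descent -/
theorem locPCoh_of_pD_lev (E : DCoh.D Z) (m b : ℤ) (hO : HOlev i (m + 1 - b))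
    (hvan : ∀ j : ℤ, b < j → IsZero (DCoh.HD E j)) (z : Z)
    (h : LocPCoh m ((pD i).obj E) (i z)) : LocPCoh m E z := by
  obtain ⟨U, j, hj, x₁, hx₁, hP⟩ := h
  let V : X.Opens := j.opensRange
  have hzV : i z ∈ V := ⟨x₁, hx₁⟩
  have hvan' : ∀ k : ℤ, b < k → IsZero (DCoh.HD ((rD (i ⁻¹ᵁ V).ι).obj E) k) := fun k hk =>
    IsZero.of_iso ((restrictFunctor (i ⁻¹ᵁ V).ι).map_isZero (hvan k hk))
      ((mapDerivedCategoryHomologyIso (restrictFunctor (i ⁻¹ᵁ V).ι) k).app E)
  have h0 : DCoh.IsPseudoCoherentD m ((rD V.ι).obj ((pD i).obj E)) :=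
    isPseudoCoherentD_rD_of_pCohAt _ m _ (hP.of_le_range V (fun y hy => hy))
  have h1 := claim_of_pD ((b - m).toNat + 1) (i ∣_ V) _ m b (by omega) (hO.restrict V) hvan'
    ⟨z, hzV⟩ (isPseudoCoherentD_of_iso ((bcIso i V).app E) h0)
  exact locPCoh_of_rD (i ⁻¹ᵁ V).ι m E ⟨z, hzV⟩ h1

end LevClosed

end Groth.Agent.Lib.T2H1.ClImmPC
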