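import Groth.Agent.Lib.T2H2FinPushB
import Groth.Agent.Lib.T2H7PCLocal
import Groth.Agent.Lib.T2H7PerfKos
import Groth.Agent.Lib.Helper1TorDim
import Groth.Agent.S6954
import Groth.Prelude.Def_MoreMor
import Groth.Prelude.Def_RegImm

/-!
# `i_* O_Z` is perfect for a perfect (e.g. Koszul-regular) closed immersion (T2H1)

Ring level: a finite perfect ring map `A → B` makes `B` a perfect `A`-module.  Scheme level: on an
affine chart `V = Spec A` of `X` the module `(i_* O_Z)|_V` is `B~` for `B = Γ(Z, i⁻¹V)` (helper2's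
`chartPushIso`, `tildePushIso`), so perfection of `i_* O_Z` is read off the charts.
-/

set_option autoImplicit false
set_option linter.style.haveILetI false
universe u
open CategoryTheory CategoryTheory.Limits AlgebraicGeometry Opposite

attribute [local instance] HasDerivedCategory.standard

namespace Groth.Agent.Lib.T2H1.ClosedPerf

open Scheme.Modules Groth.Agent.Lib.T2H8.PerfLocal Groth.Agent.Lib.T2H2.AffRed
  Groth.Agent.Lib.T2H2.TildeLoc Groth.Agent.Lib.T2H2.FinPush DerivedCategory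

section Ring

variable (A B : Type u) [CommRing A] [CommRing B] [Algebra A B]

/-- a finite perfect ring map makes `B` a perfect `A`-module -/
theorem isPerfect_inD_of_perfHom [Module.Finite A B] (h : MoreMor.IsPerfectHom A B) :
    DRing.IsPerfect A (Dual.inD A B) := by
  refine (Groth.Agent.S6954.result A _).2 ⟨?_, ?_⟩
  · exact (Groth.Agent.Lib.T2H7.PCLocal.pcHom_iff_pcModule_of_finite (R := A) (B := B)).1 h.1
  · obtain ⟨d, hd⟩ := h.2
    exact ⟨-(d : ℤ), 0, (Groth.Agent.Lib.Helper1.TorDim.hasTorDimLE_iff_hasTorAmp B d).1 hd⟩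

end Ring

section Sch

variable {Z X : Scheme.{u}} (f : Z ⟶ X)

/-- `f_* O_Z` is perfect as soon as, on every affine chart `V` of `X` (with affine preimage),
`Γ(Z, f⁻¹V)` is a perfect `Γ(X, V)`-module. -/
theorem isPerfect_push_of_charts [IsAffineHom f]
    (h : ∀ (V : X.Opens), IsAffineOpen V →
      DRing.IsPerfect Γ(X, V) ((Groth.Agent.Lib.Helper1.Restrict.G (f.app V).hom).obj
        (ModuleCat.of Γ(Z, f ⁻¹ᵁ V) Γ(Z, f ⁻¹ᵁ V)))) :
    DCoh.IsPerfect (DCoh.inD X ((pushforward f).obj (Coh.structureModule Z))) := by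
  rw [isPerfect_iff]
  intro x
  obtain ⟨V, hV, hxV, -⟩ := exists_isAffineOpen_mem_and_subset (x := x) (U := ⊤) trivial
  have hU : IsAffineOpen (f ⁻¹ᵁ V) := hV.preimage f
  have hr : x ∈ Set.range hV.fromSpec := by rw [hV.range_fromSpec]; exact hxV
  obtain ⟨x', rfl⟩ := hr
  refine locPerf_of_isPerfect_rD hV.fromSpec _ x' ?_
  refine isPerfect_of_iso ?_ (isPerfect_tildeD_of_isPerfect Γ(X, V) _ (h V hV))
  exact (((restrictFunctor hV.fromSpec).mapDerivedCategorySingleFunctor 0).app _ ≪≫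
    (singleFunctor _ 0).mapIso (chartPushIso f hV hU (Coh.structureModule Z) ≪≫
      (pushforward (Spec.map (f.app V))).mapIso (restrictUnitIso hU.fromSpec ≪≫ tildeSelf.symm) ≪≫
      (Groth.Agent.Lib.T2H2.TildePush.tildePushIso (f.app V)).app (ModuleCat.of _ _)) ≪≫
    (((tilde.functor _).mapDerivedCategorySingleFunctor 0).app _).symm).symm

lemma dring_isPerfect_of_iso {A : Type u} [CommRing A] {K L : Dual.D A} (e : K ≅ L)
    (h : DRing.IsPerfect A K) : DRing.IsPerfect A L := by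
  obtain ⟨E, a, b, hE, hfp, ⟨e'⟩⟩ := h
  exact ⟨E, a, b, hE, hfp, ⟨e' ≪≫ e⟩⟩

/-- For a perfect closed immersion `i : Z ⟶ X`, `i_* O_Z` is a perfect object of `D(O_X)`. -/
theorem isPerfect_push_of_perfMor (i : Z ⟶ X) [IsClosedImmersion i]
    (hi : MoreMor.IsPerfectMor i) :
    DCoh.IsPerfect (DCoh.inD X ((pushforward i).obj (Coh.structureModule Z))) := by
  refine isPerfect_push_of_charts i fun V hV => ?_
  have hU : IsAffineOpen (i ⁻¹ᵁ V) := hV.preimage i
  have hsurj : Function.Surjective (i.app V).hom := i.app_surjective V hV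
  letI alg : Algebra Γ(X, V) Γ(Z, i ⁻¹ᵁ V) := (i.app V).hom.toAlgebra
  have hperf : MoreMor.IsPerfectHom Γ(X, V) Γ(Z, i ⁻¹ᵁ V) := by
    have h0 := hi (i ⁻¹ᵁ V) V hU hV le_rfl
    have h2 : (i.appLE V (i ⁻¹ᵁ V) le_rfl).hom = (i.app V).hom := by
      rw [Scheme.Hom.appLE_eq_app]
    rw [h2] at h0
    exact h0
  haveI : Module.Finite Γ(X, V) Γ(Z, i ⁻¹ᵁ V) :=
    Module.Finite.of_surjective (Algebra.linearMap Γ(X, V) Γ(Z, i ⁻¹ᵁ V)) hsurj
  have h1 := isPerfect_inD_of_perfHom Γ(X, V) Γ(Z, i ⁻¹ᵁ V) hperf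
  refine dring_isPerfect_of_iso ((singleFunctor _ 0).mapIso ?_) h1
  exact LinearEquiv.toModuleIso
    { toFun := fun b => b
      invFun := fun b => b
      map_add' := fun _ _ => rfl
      map_smul' := fun _ _ => rfl
      left_inv := fun _ => rfl
      right_inv := fun _ => rfl }

/-- For a Koszul-regular closed immersion `i : Z ⟶ X`, `i_* O_Z` is a perfect object of `D(O_X)`. -/
theorem isPerfect_push_of_koszulRegular (i : Z ⟶ X) [IsClosedImmersion i]
    (hi : RegImm.IsRegularImmersion RegImm.Kind.koszul i) :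
    DCoh.IsPerfect (DCoh.inD X ((pushforward i).obj (Coh.structureModule Z))) :=
  isPerfect_push_of_perfMor i (Groth.Agent.Lib.T2H7.PerfKos.perfMor_of_koszulRegularImmersion i hi)

end Sch

end Groth.Agent.Lib.T2H1.ClosedPerf
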