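import Mathlib
import Groth.Agent.Lib.Helper12FibreSpec
import Groth.Agent.Lib.Helper12ResidualFactor2
import Groth.Agent.Lib.Helper11RedCl
import Groth.Agent.Lib.Helper9ShfGrp
import Groth.Agent.Lib.Helper12Reduced
import Groth.Agent.S9927
import Groth.Agent.S9885
import Groth.Agent.S10176

/-!
# Closed points and residual spaces of locally Noetherian algebraic spaces (helper1)
-/

set_option autoImplicit false
universe u
open CategoryTheory CategoryTheory.Limits AlgebraicGeometry Opposite TopologicalSpace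
open AlgSp

namespace Groth.Agent.Lib.T2H1.ClosedPtRes

open Groth.Agent.S13210

variable {S : Scheme.{u}}

/-- a closed subset of a Noetherian quasi-sober space without specializations between distinct
points is finite. -/
lemma finite_of_isClosed_of_no_specializes {α : Type*} [TopologicalSpace α] [NoetherianSpace α]
    [QuasiSober α] (T : Set α) (hT : IsClosed T)
    (h : ∀ a ∈ T, ∀ b ∈ T, a ⤳ b → a = b) : T.Finite := by
  obtain ⟨Sset, hfin, hcl, hirr, hU⟩ := NoetherianSpace.exists_finite_set_isClosed_irreducible hT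
  rw [hU]
  refine hfin.sUnion (fun t ht => ?_)
  obtain ⟨η, hη⟩ := QuasiSober.sober (hirr t ht) (hcl t ht)
  have htT : t ⊆ T := by rw [hU]; exact Set.subset_sUnion_of_mem ht
  have hηt : η ∈ t := hη.mem
  refine (Set.finite_singleton η).subset (fun c hc => ?_)
  exact (h η (htT hηt) c (htT hc) (hη.specializes hc)).symm

/-- the fibre over a closed point of an affine étale chart of a locally Noetherian algebraic space
is finite. -/
theorem finite_fibre_of_isClosed {X : AlgSp.Sp S} (hX : AlgSp.IsLocNoethSp X)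
    (x : AlgSp.Points X) (hx : IsClosed ({x} : Set (AlgSp.Points X))) {V : Over S}
    [IsAffine V.left] (b : (AlgSp.yon S).obj V ⟶ X) (hb : AlgSp.RepWith @Etale b) :
    (AlgSp.Points.ofPt b ⁻¹' {x}).Finite := by
  haveI : IsLocallyNoetherian V.left :=
    Groth.Agent.Lib.Helper12.FibreSpec.isLocallyNoetherian_of_chart hX b hb
  haveI : IsNoetherian V.left := {}
  refine finite_of_isClosed_of_no_specializes _ (hx.preimage (AlgSp.Points.continuous_ofPt b))
    (fun u' hu' u hu hs => ?_)
  exact (Groth.Agent.Lib.Helper12.FibreSpec.eq_of_specializes_of_isLocNoethSp hX b hb u u'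
    ((show AlgSp.Points.ofPt b u = x from hu).trans
      (show AlgSp.Points.ofPt b u' = x from hu').symm) hs).symm

/-- an fppf surjection from a scheme onto an algebraic space is an epimorphism of sheaves. -/
theorem epi_of_fppf {Z : AlgSp.Sp S} (hZ : AlgSp.IsAlgSpace Z) {K : Over S}
    (q : (AlgSp.yon S).obj K ⟶ Z) (h1 : AlgSp.LocP @LocallyOfFinitePresentation q)
    (h2 : AlgSp.LocP @Flat q) (h3 : AlgSp.IsSurjectiveMor q) : Epi q := by
  obtain ⟨VZ, a, hae, has⟩ := hZ.atlas
  obtain ⟨U', pr, fst, sq⟩ := hae.1 q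
  obtain ⟨h, rfl⟩ := (AlgSp.yon S).map_surjective fst
  haveI : Etale pr.left := hae.2 q _ pr sq
  have hpr : AlgSp.RepWith @Etale ((AlgSp.yon S).map pr) :=
    (AlgSp.repWith_yon_map_iff _ _).2 (inferInstance : Etale pr.left)
  haveI : Flat h.left := h2 ((AlgSp.yon S).map pr) a h hpr hae sq.w.symm
  haveI : LocallyOfFinitePresentation h.left := h1 ((AlgSp.yon S).map pr) a h hpr hae sq.w.symm
  haveI : Surjective h.left := by
    constructor
    intro v
    obtain ⟨y, hy⟩ := h3 (AlgSp.Points.ofPt a v)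
    obtain ⟨κ, rfl⟩ := (AlgSp.Points.schemeEquiv K).surjective y
    obtain ⟨w, hw1, -⟩ := Groth.Agent.S10176.exists_point_of_isPullback_yon sq v κ (by
      rw [← hy]; exact (AlgSp.Points.ofPt_eq_map_ofScheme q κ))
    exact ⟨w, hw1⟩
  haveI : Epi ((AlgSp.yon S).map h) := by
    haveI := Groth.Agent.S9885.isLocallySurjective_of_repWith ((AlgSp.yon S).map h)
      ((AlgSp.repWith_yon_map_iff _ _).2 (inferInstance : Flat h.left))
      ((AlgSp.repWith_yon_map_iff _ _).2 (inferInstance : LocallyOfFinitePresentation h.left))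
      ((AlgSp.repWith_yon_map_iff _ _).2 (inferInstance : Surjective h.left))
    exact (Sheaf.isLocallySurjective_iff_epi _).1 inferInstance
  haveI : Epi a := Groth.Agent.S9927.epi_of_repWith a hae has
  haveI : Epi ((AlgSp.yon S).map pr ≫ q) := by
    rw [← sq.w]; exact epi_comp _ _
  exact epi_of_epi ((AlgSp.yon S).map pr) q

/-- **the base change of a monomorphism with a reduced fppf chart to an étale chart is the reduced
closed subscheme on the fibre**, provided the latter maps to the source. -/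
theorem isPullback_of_reduced_closed {X Z : AlgSp.Sp S} (hX : AlgSp.IsAlgSpace X) (i : Z ⟶ X)
    [Mono i] {K V T₀ : Over S} [IsReduced K.left] (q : (AlgSp.yon S).obj K ⟶ Z) [Epi q]
    (p₀ : (AlgSp.yon S).obj V ⟶ X) (hp₀ : AlgSp.RepWith @Etale p₀) (j : T₀ ⟶ V) [Mono j]
    (k : (AlgSp.yon S).obj T₀ ⟶ Z) (hk : k ≫ i = (AlgSp.yon S).map j ≫ p₀)
    (hlift : ∀ (F : Over S) (g : F ⟶ V), IsReduced F.left →
      (∀ f : ↥F.left, AlgSp.Points.ofPt p₀ (g.left f) ∈ Set.range (AlgSp.Points.map i)) →
      ∃ l : F ⟶ T₀, l ≫ j = g) :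
    IsPullback k ((AlgSp.yon S).map j) i p₀ := by
  haveI : Mono ((AlgSp.yon S).map j) := (AlgSp.yon S).map_mono j
  obtain ⟨F, prV, fstF, sqF⟩ := hX.representable_from_yon (q ≫ i) p₀
  obtain ⟨prK, rfl⟩ := (AlgSp.yon S).map_surjective fstF
  haveI : Etale prK.left := hp₀.2 _ _ prK sqF.flip
  haveI : IsReduced F.left := Groth.Agent.Lib.Helper12.Reduced.isReduced_of_smooth prK.left
  obtain ⟨lF, hlF⟩ := hlift F prV inferInstance (fun f => by
    rw [← Groth.Agent.S10176.ofPt_map_comp, ← sqF.w, Groth.Agent.S10176.ofPt_map_comp,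
      ← AlgSp.Points.map_ofPt]
    exact ⟨_, rfl⟩)
  refine isPullback_of_yon hk (fun A b c' hbc => ?_)
  have sqE := IsPullback.of_hasPullback b q
  haveI : Epi (pullback.fst b q) :=
    Groth.Agent.Lib.Helper9.ToposLike.epi_of_isPullback sqE inferInstance
  let γ₀ : pullback b q ⟶ (AlgSp.yon S).obj F :=
    sqF.lift (pullback.snd b q) (pullback.fst b q ≫ c') (by
      rw [← Category.assoc, ← pullback.condition, Category.assoc, hbc, Category.assoc])
  have hγ : (γ₀ ≫ (AlgSp.yon S).map lF) ≫ (AlgSp.yon S).map j = pullback.fst b q ≫ c' := by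
    rw [Category.assoc, ← Functor.map_comp, hlF]
    exact sqF.lift_snd _ _ _
  obtain ⟨δ, hδ⟩ := Groth.Agent.Lib.Helper9.ToposLike.exists_desc_of_epi (pullback.fst b q)
    inferInstance (γ₀ ≫ (AlgSp.yon S).map lF) (fun W a₁ a₂ ha => by
      have e1 : ∀ a : W ⟶ pullback b q, (a ≫ γ₀ ≫ (AlgSp.yon S).map lF) ≫ (AlgSp.yon S).map j =
          (a ≫ pullback.fst b q) ≫ c' := by
        intro a
        rw [Category.assoc a, hγ, Category.assoc]
      rw [← cancel_mono ((AlgSp.yon S).map j), e1, e1, ha])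
  have hδj : δ ≫ (AlgSp.yon S).map j = c' := by
    rw [← cancel_epi (pullback.fst b q), ← Category.assoc, hδ, hγ]
  refine ⟨δ, ⟨?_, hδj⟩, fun a' ha' => ?_⟩
  · rw [← cancel_mono i, Category.assoc, hk, ← Category.assoc, hδj, hbc]
  · rw [← cancel_mono ((AlgSp.yon S).map j), ha'.2, hδj]

end Groth.Agent.Lib.T2H1.ClosedPtRes
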