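import Mathlib

/-!
# The point of a finite convex hull closest to the origin, over an ordered field
-/

set_option autoImplicit false

namespace Groth.Agent.Lib.T2H1.Closest

open Finset

variable {K V : Type*} [Field K] [LinearOrder K] [IsStrictOrderedRing K]
  [AddCommGroup V] [Module K V]
  {κ : Type*} [Fintype κ] [DecidableEq κ]

/-- The point with coordinates `c`. -/
noncomputable def pt (s : κ → V) (c : κ → K) : V := ∑ k, c k • s k

theorem pt_add (s : κ → V) (c c' : κ → K) : pt s (c + c') = pt s c + pt s c' := by
  simp only [pt, Pi.add_apply, add_smul, sum_add_distrib]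

theorem pt_smul (s : κ → V) (a : K) (c : κ → K) : pt s (a • c) = a • pt s c := by
  simp only [pt, Pi.smul_apply, smul_eq_mul, mul_smul, smul_sum]

theorem pt_single (s : κ → V) (k : κ) (a : K) : pt s (Pi.single k a) = a • s k := by
  rw [pt, sum_eq_single k]
  · rw [Pi.single_eq_same]
  · intro j _ hj
    rw [Pi.single_eq_of_ne hj, zero_smul]
  · intro h
    exact absurd (mem_univ k) h

variable (B : LinearMap.BilinForm K V)

theorem B_pt_left (s : κ → V) (c : κ → K) (v : V) : B (pt s c) v = ∑ k, c k * B (s k) v := by
  simp only [pt, map_sum, LinearMap.sum_apply, map_smul, LinearMap.smul_apply, smul_eq_mul]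

theorem B_pt_right (s : κ → V) (c : κ → K) (v : V) : B v (pt s c) = ∑ k, c k * B v (s k) := by
  simp only [pt, map_sum, map_smul, smul_eq_mul]

/-- Coordinates of a convex combination supported in `T`. -/
def IsComb (T : Finset κ) (c : κ → K) : Prop :=
  (∀ k, 0 ≤ c k) ∧ (∀ k, k ∉ T → c k = 0) ∧ ∑ k, c k = 1

/-- Coordinates of an affine combination supported in `T`. -/
def IsAff (T : Finset κ) (c : κ → K) : Prop :=
  (∀ k, k ∉ T → c k = 0) ∧ ∑ k, c k = 1

theorem IsComb.isAff {T : Finset κ} {c : κ → K} (h : IsComb T c) : IsAff T c := ⟨h.2.1, h.2.2⟩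

/-- If `B v (s k) ≥ r` on `T` then `B v (pt c) ≥ r` for a convex combination. -/
theorem le_B_pt (s : κ → V) (T : Finset κ) (c : κ → K) (hc : IsComb T c) (v : V) (r : K)
    (h : ∀ k ∈ T, r ≤ B v (s k)) : r ≤ B v (pt s c) := by
  rw [B_pt_right]
  calc r = ∑ k, c k * r := by rw [← sum_mul, hc.2.2, one_mul]
    _ ≤ ∑ k, c k * B v (s k) := by
        apply sum_le_sum
        intro k _
        by_cases hk : k ∈ T
        · exact mul_le_mul_of_nonneg_left (h k hk) (hc.1 k)
        · rw [hc.2.1 k hk, zero_mul, zero_mul]

theorem B_pt_eq (s : κ → V) (T : Finset κ) (c : κ → K) (hc : IsAff T c) (v : V) (r : K)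
    (h : ∀ k ∈ T, B v (s k) = r) : B v (pt s c) = r := by
  rw [B_pt_right]
  calc ∑ k, c k * B v (s k) = ∑ k, c k * r := by
        apply sum_congr rfl
        intro k _
        by_cases hk : k ∈ T
        · rw [h k hk]
        · rw [hc.1 k hk, zero_mul, zero_mul]
    _ = r := by rw [← sum_mul, hc.2, one_mul]

variable (hBs : ∀ x y, B x y = B y x) (hBp : ∀ x, x ≠ 0 → 0 < B x x)

include hBs hBp

theorem B_self_nonneg (x : V) : 0 ≤ B x x := by
  by_cases h : x = 0
  · rw [h]; simp
  · exact (hBp x h).le

/-- Expansion of the norm around a point. -/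
theorem norm_expand (y q : V) : B q q = B y y + 2 * (B y q - B y y) + B (q - y) (q - y) := by
  simp only [map_sub, LinearMap.sub_apply]
  rw [hBs q y]
  ring

/-- First-order condition implies minimality. -/
theorem norm_le_of_first_order (s : κ → V) (T : Finset κ) (y : V)
    (hy : ∀ k ∈ T, B y y ≤ B y (s k)) (c : κ → K) (hc : IsComb T c) :
    B y y ≤ B (pt s c) (pt s c) := by
  have h1 := le_B_pt B s T c hc y _ hy
  have h2 := norm_expand B hBs hBp y (pt s c)
  have h3 := B_self_nonneg B hBs hBp (pt s c - y)
  linarith

/-- The point of the affine hull of `s '' T` closest to the origin. -/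
theorem exists_affine_min (s : κ → V) (T : Finset κ) (hT : T.Nonempty) :
    ∃ μ : κ → K, IsAff T μ ∧ ∀ k ∈ T, B (pt s μ) (s k) = B (pt s μ) (pt s μ) := by
  classical
  obtain ⟨k0, hk0⟩ := hT
  set v : κ → V := fun k => if k ∈ T then s k - s k0 else 0 with hv
  set W := Submodule.span K (Set.range v) with hW
  haveI : FiniteDimensional K W := FiniteDimensional.span_of_finite K (Set.finite_range v)
  have hnd : (B.restrict W).Nondegenerate := by
    constructor
    · intro x hx
      have h0 : B (x : V) (x : V) = 0 := hx x
      by_contra hne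
      have : (x : V) ≠ 0 := fun h => hne (Subtype.ext h)
      exact (hBp _ this).ne' h0
    · intro x hx
      have h0 : B (x : V) (x : V) = 0 := hx x
      by_contra hne
      have : (x : V) ≠ 0 := fun h => hne (Subtype.ext h)
      exact (hBp _ this).ne' h0
  set f : Module.Dual K W := -((B (s k0)).domRestrict W) with hf
  set w : W := ((B.restrict W).toDual hnd).symm f with hwdef
  have hw : ∀ w' : W, B (w : V) (w' : V) = - B (s k0) (w' : V) := by
    intro w'
    have := LinearMap.BilinForm.apply_toDual_symm_apply (B := B.restrict W) (hB := hnd) f w'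
    rw [← hwdef] at this
    simpa [hf] using this
  obtain ⟨c, hc⟩ : ∃ c : κ → K, ∑ k, c k • v k = (w : V) :=
    (Submodule.mem_span_range_iff_exists_fun K).mp w.2
  set ν : κ → K := fun k => if k ∈ T then c k else 0 with hν
  have hνsum : ∑ k, ν k • (s k - s k0) = (w : V) := by
    rw [← hc]
    apply sum_congr rfl
    intro k _
    by_cases hk : k ∈ T
    · simp only [hν, hv, if_pos hk]
    · simp only [hν, hv, if_neg hk, zero_smul, smul_zero]
  set μ : κ → K := ν + Pi.single k0 (1 - ∑ k, ν k) with hμ
  have hμaff : IsAff T μ := by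
    constructor
    · intro k hk
      have hne : k ≠ k0 := fun h => hk (h ▸ hk0)
      simp only [hμ, Pi.add_apply, hν, if_neg hk, Pi.single_eq_of_ne hne, add_zero]
    · rw [hμ]
      simp only [Pi.add_apply, sum_add_distrib, sum_pi_single', mem_univ, if_true]
      ring
  have hpt : pt s μ = s k0 + (w : V) := by
    rw [hμ, pt_add, pt_single, ← hνsum]
    simp only [pt, smul_sub, sum_sub_distrib, ← sum_smul, sub_smul, one_smul]
    abel
  have horth : ∀ k ∈ T, B (pt s μ) (s k) = B (pt s μ) (s k0) := by
    intro k hk
    have hmem : s k - s k0 ∈ W := by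
      apply Submodule.subset_span
      exact ⟨k, by simp only [hv, if_pos hk]⟩
    have h1 := hw ⟨_, hmem⟩
    simp only at h1
    have h2 : B (pt s μ) (s k - s k0) = 0 := by
      rw [hpt, map_add, LinearMap.add_apply, h1]
      ring
    rw [map_sub] at h2
    exact sub_eq_zero.mp h2
  refine ⟨μ, hμaff, fun k hk => ?_⟩
  rw [horth k hk]
  exact (B_pt_eq B s T μ hμaff (pt s μ) _ horth).symm

theorem isComb_single (T : Finset κ) (k : κ) (hk : k ∈ T) :
    IsComb T (Pi.single k (1 : K)) := by
  refine ⟨fun j => ?_, fun j hj => ?_, ?_⟩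
  · by_cases h : j = k
    · rw [h, Pi.single_eq_same]; exact zero_le_one
    · rw [Pi.single_eq_of_ne h]
  · have : j ≠ k := fun h => hj (h ▸ hk)
    rw [Pi.single_eq_of_ne this]
  · rw [sum_pi_single']
    simp

theorem exists_step (e Q : K) (he : 0 < e) (hQ : 0 ≤ Q) :
    ∃ t : K, 0 < t ∧ t ≤ 1 ∧ -2 * t * e + t ^ 2 * Q < 0 := by
  by_cases h : Q ≤ e
  · exact ⟨1, one_pos, le_refl _, by nlinarith⟩
  · push_neg at h
    have hQpos : 0 < Q := lt_trans he h
    refine ⟨e / Q, div_pos he hQpos, (div_le_one hQpos).mpr h.le, ?_⟩
    have : -2 * (e / Q) * e + (e / Q) ^ 2 * Q = - (e ^ 2 / Q) := by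
      field_simp
      ring
    rw [this, neg_lt_zero]
    positivity

theorem exists_closest_aux (s : κ → V) : ∀ T : Finset κ, T.Nonempty →
    ∃ c : κ → K, IsComb T c ∧ ∀ k ∈ T, B (pt s c) (pt s c) ≤ B (pt s c) (s k) := by
  classical
  intro T
  induction T using Finset.strongInduction with
  | H T ih =>
  intro hT
  by_cases hcard : T.card = 1
  · obtain ⟨k, rfl⟩ := card_eq_one.mp hcard
    refine ⟨Pi.single k 1, isComb_single B hBs hBp _ k (mem_singleton_self k), ?_⟩
    intro j hj
    rw [mem_singleton.mp hj, pt_single, one_smul]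
  · have hcard2 : 2 ≤ T.card := by
      have := card_pos.mpr hT
      omega
    have ih' : ∀ k ∈ T, ∃ c : κ → K, IsComb (T.erase k) c ∧
        ∀ j ∈ T.erase k, B (pt s c) (pt s c) ≤ B (pt s c) (s j) := by
      intro k hk
      apply ih (T.erase k) (erase_ssubset hk)
      rw [← card_pos, card_erase_of_mem hk]
      omega
    choose! cf hcf using ih'
    obtain ⟨ks, hks, hmin⟩ := T.exists_min_image (fun k => B (pt s (cf k)) (pt s (cf k))) hT
    set ys := pt s (cf ks) with hys
    have hcs := hcf ks hks
    by_cases hgood : B ys ys ≤ B ys (s ks)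
    · refine ⟨cf ks, ⟨hcs.1.1, fun k hk => hcs.1.2.1 k (fun h => hk (mem_of_mem_erase h)),
        hcs.1.2.2⟩, ?_⟩
      intro k hk
      by_cases hkk : k = ks
      · rw [hkk]; exact hgood
      · exact hcs.2 k (mem_erase.mpr ⟨hkk, hk⟩)
    · push_neg at hgood
      obtain ⟨μ, hμaff, hμ⟩ := exists_affine_min B hBs hBp s T hT
      by_cases hμpos : ∀ k, 0 ≤ μ k
      · exact ⟨μ, ⟨hμpos, hμaff.1, hμaff.2⟩, fun k hk => (hμ k hk).ge⟩
      · exfalso
        push_neg at hμpos
        obtain ⟨k1, hk1⟩ := hμpos
        have hk1T : k1 ∈ T := by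
          by_contra h
          rw [hμaff.1 k1 h] at hk1
          exact lt_irrefl _ hk1
        -- Step A
        set e := B ys ys - B ys (s ks) with he
        have hepos : 0 < e := sub_pos.mpr hgood
        set Q := B (s ks - ys) (s ks - ys) with hQ
        have hQnn : 0 ≤ Q := B_self_nonneg B hBs hBp _
        obtain ⟨t, ht0, ht1, hlt⟩ := exists_step B hBs hBp e Q hepos hQnn
        set ν : κ → K := (1 - t) • cf ks + Pi.single ks t with hν
        have hνcomb : IsComb T ν := by
          refine ⟨fun k => ?_, fun k hk => ?_, ?_⟩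
          · simp only [hν, Pi.add_apply, Pi.smul_apply, smul_eq_mul]
            apply add_nonneg (mul_nonneg (by linarith) (hcs.1.1 k))
            by_cases h : k = ks
            · rw [h, Pi.single_eq_same]; exact ht0.le
            · rw [Pi.single_eq_of_ne h]
          · have hne : k ≠ ks := fun h => hk (h ▸ hks)
            simp only [hν, Pi.add_apply, Pi.smul_apply, smul_eq_mul, Pi.single_eq_of_ne hne,
              add_zero]
            rw [hcs.1.2.1 k (fun h => hk (mem_of_mem_erase h)), mul_zero]
          · simp only [hν, Pi.add_apply, Pi.smul_apply, smul_eq_mul, sum_add_distrib, ← mul_sum,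
              hcs.1.2.2, sum_pi_single', mem_univ, if_true]
            ring
        set x := pt s ν with hx
        have hxeq : x = ys + t • (s ks - ys) := by
          rw [hx, hν, pt_add, pt_smul, pt_single, ← hys]
          simp only [sub_smul, one_smul, smul_sub]
          abel
        have hxnorm : B x x < B ys ys := by
          have : B x x = B ys ys + (-2 * t * e + t ^ 2 * Q) := by
            rw [hxeq, he, hQ]
            simp only [map_add, map_sub, map_smul, LinearMap.add_apply, LinearMap.sub_apply,
              LinearMap.smul_apply, smul_eq_mul]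
            rw [hBs (s ks) ys]
            ring
          linarith
        -- Step B
        have hSne : (T.filter (fun k => μ k < 0)).Nonempty := ⟨k1, mem_filter.mpr ⟨hk1T, hk1⟩⟩
        obtain ⟨k', hk'S, hk'min⟩ :=
          (T.filter (fun k => μ k < 0)).exists_min_image (fun k => ν k / (ν k - μ k)) hSne
        obtain ⟨hk'T, hk'neg⟩ := mem_filter.mp hk'S
        have hden : ∀ k, μ k < 0 → 0 < ν k - μ k := by
          intro k hk
          have := hνcomb.1 k
          linarith
        set τ := ν k' / (ν k' - μ k') with hτ
        have hτ0 : 0 ≤ τ := div_nonneg (hνcomb.1 k') (hden k' hk'neg).le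
        have hτ1 : τ < 1 := by
          rw [hτ, div_lt_one (hden k' hk'neg)]
          linarith
        set θ : κ → K := (1 - τ) • ν + τ • μ with hθ
        have hθk : ∀ k, θ k = ν k - τ * (ν k - μ k) := by
          intro k
          simp only [hθ, Pi.add_apply, Pi.smul_apply, smul_eq_mul]
          ring
        have hθnn : ∀ k, 0 ≤ θ k := by
          intro k
          by_cases hk : μ k < 0
          · have hkT : k ∈ T := by
              by_contra h
              rw [hμaff.1 k h] at hk
              exact lt_irrefl _ hk
            have h1 : τ ≤ ν k / (ν k - μ k) := hk'min k (mem_filter.mpr ⟨hkT, hk⟩)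
            rw [hθk]
            have h2 : τ * (ν k - μ k) ≤ ν k := by
              have := mul_le_mul_of_nonneg_right h1 (hden k hk).le
              rwa [div_mul_cancel₀ _ (hden k hk).ne'] at this
            linarith
          · push_neg at hk
            simp only [hθ, Pi.add_apply, Pi.smul_apply, smul_eq_mul]
            exact add_nonneg (mul_nonneg (by linarith) (hνcomb.1 k)) (mul_nonneg hτ0 hk)
        have hθk' : θ k' = 0 := by
          rw [hθk, hτ, div_mul_cancel₀ _ (hden k' hk'neg).ne', sub_self]
        have hθcomb : IsComb (T.erase k') θ := by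
          refine ⟨hθnn, fun k hk => ?_, ?_⟩
          · by_cases hkk : k = k'
            · rw [hkk]; exact hθk'
            · have hkT : k ∉ T := fun h => hk (mem_erase.mpr ⟨hkk, h⟩)
              simp only [hθ, Pi.add_apply, Pi.smul_apply, smul_eq_mul, hνcomb.2.1 k hkT,
                hμaff.1 k hkT, mul_zero, add_zero]
          · simp only [hθ, Pi.add_apply, Pi.smul_apply, smul_eq_mul, sum_add_distrib, ← mul_sum,
              hνcomb.2.2, hμaff.2]
            ring
        set p := pt s μ with hp
        set q := pt s θ with hq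
        have hqeq : q = (1 - τ) • x + τ • p := by
          rw [hq, hθ, pt_add, pt_smul, pt_smul]
        have hpx : B p x = B p p := B_pt_eq B s T ν hνcomb.isAff p _ hμ
        have hpp : B p p ≤ B x x := by
          have h1 := norm_expand B hBs hBp p x
          have h2 := B_self_nonneg B hBs hBp (x - p)
          rw [hpx] at h1
          linarith
        have hqq : B q q ≤ B x x := by
          have : B q q = (1 - τ) ^ 2 * B x x + 2 * τ * (1 - τ) * B p x + τ ^ 2 * B p p := by
            rw [hqeq]
            simp only [map_add, map_smul, LinearMap.add_apply, LinearMap.smul_apply, smul_eq_mul]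
            rw [hBs x p]
            ring
          rw [this, hpx]
          have h1 : 0 ≤ 1 - τ := by linarith
          nlinarith [mul_nonneg hτ0 h1, mul_nonneg hτ0 hτ0]
        -- Step C
        have h1 := norm_le_of_first_order B hBs hBp s (T.erase k') (pt s (cf k'))
          (hcf k' hk'T).2 θ hθcomb
        have h2 : B ys ys ≤ B (pt s (cf k')) (pt s (cf k')) := hmin k' hk'T
        linarith

/-- The point of a finite convex hull closest to the origin. -/
theorem exists_closest [Nonempty κ] (s : κ → V) :
    ∃ y ∈ convexHull K (Set.range s), ∀ z ∈ convexHull K (Set.range s), B y y ≤ B z z := by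
  classical
  obtain ⟨c, hc, h⟩ := exists_closest_aux B hBs hBp s Finset.univ univ_nonempty
  refine ⟨pt s c, ?_, fun z hz => ?_⟩
  · apply (convex_convexHull K (Set.range s)).sum_mem
    · intro k _; exact hc.1 k
    · exact hc.2.2
    · intro k _; exact subset_convexHull K _ ⟨k, rfl⟩
  · have hconv : Convex K {z : V | B (pt s c) (pt s c) ≤ B (pt s c) z} :=
      convex_halfSpace_ge (B (pt s c)).isLinear _
    have hsub : Set.range s ⊆ {z : V | B (pt s c) (pt s c) ≤ B (pt s c) z} := by
      rintro _ ⟨k, rfl⟩
      exact h k (mem_univ k)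
    have h1 : B (pt s c) (pt s c) ≤ B (pt s c) z := convexHull_min hsub hconv hz
    have h2 := norm_expand B hBs hBp (pt s c) z
    have h3 := B_self_nonneg B hBs hBp (z - pt s c)
    linarith

end Groth.Agent.Lib.T2H1.Closest
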