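import Mathlib
import Groth.Prelude.Def_EGA41
import Groth.Agent.Lib.Helper19CohenExistA
import Groth.Agent.Lib.Helper19CohenRingLift
import Groth.Agent.Lib.Helper14GeomRed

/-!
# Cohen algebras over the prime local ring are the Cohen rings (helper1, team 2)

EGA 0_IV 19.8.5.
-/

set_option autoImplicit false
set_option linter.unusedSectionVars false
set_option linter.unusedVariables false
set_option linter.style.haveILetI false
set_option linter.deprecated false

universe u

namespace Groth.Agent.Lib.T2H1.CohenPrime

open IsLocalRing TensorProduct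

/-- A field extension of a perfect field is geometrically reduced. -/
theorem isGeometricallyReduced_of_perfectField {k K : Type u} [Field k] [PerfectField k] [Field K]
    [Algebra k K] : Algebra.IsGeometricallyReduced k K := by
  apply Groth.Agent.Lib.Helper14.GeomRed.isGeometricallyReduced_of_forall_finite_purelyInseparable
  intro k' _ _ _ _
  haveI : Algebra.IsSeparable k k' := Algebra.IsAlgebraic.isSeparable_of_perfectField
  have hbij := IsPurelyInseparable.bijective_algebraMap_of_isSeparable k k'
  let e : k ≃ₐ[k] k' := AlgEquiv.ofBijective (Algebra.ofId k k') hbij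
  exact isReduced_of_injective
    ((Algebra.TensorProduct.congr e.symm (AlgEquiv.refl (R := k) (A₁ := K))).trans
      (Algebra.TensorProduct.lid k K)) (AlgEquiv.injective _)

section prime

variable (p : ℕ) [hp : (Ideal.span {(p : ℤ)}).IsPrime]


theorem maximalIdeal_eq : maximalIdeal (Localization.AtPrime (Ideal.span {(p : ℤ)})) = Ideal.span {(p : (Localization.AtPrime (Ideal.span {(p : ℤ)})))} := by
  rw [← Localization.AtPrime.map_eq_maximalIdeal, Ideal.map_span, Set.image_singleton]
  simp

theorem eq_zero_or_prime : p = 0 ∨ p.Prime := by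
  by_cases h0 : p = 0
  · exact Or.inl h0
  · right
    have h1 : (p : ℤ) ≠ 0 := by exact_mod_cast h0
    have := (Ideal.span_singleton_prime h1).mp hp
    exact Nat.prime_iff_prime_int.mpr this

instance perfectField_residueField : PerfectField (ResidueField (Localization.AtPrime (Ideal.span {(p : ℤ)}))) := by
  rcases eq_zero_or_prime p with h0 | hprime
  · -- characteristic zero
    have hinj : Function.Injective (algebraMap ℤ (Localization.AtPrime (Ideal.span {(p : ℤ)}))) :=
      IsLocalization.injective (M := (Ideal.span {(p : ℤ)}).primeCompl) (Localization.AtPrime (Ideal.span {(p : ℤ)}))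
        (Ideal.primeCompl_le_nonZeroDivisors _)
    haveI : CharZero (Localization.AtPrime (Ideal.span {(p : ℤ)})) := charZero_of_injective_ringHom hinj
    have hbot : maximalIdeal (Localization.AtPrime (Ideal.span {(p : ℤ)})) = ⊥ := by
      rw [maximalIdeal_eq, Ideal.span_singleton_eq_bot]
      have : (p : (Localization.AtPrime (Ideal.span {(p : ℤ)}))) = ((0 : ℕ) : (Localization.AtPrime (Ideal.span {(p : ℤ)}))) := congrArg (fun n : ℕ => (n : (Localization.AtPrime (Ideal.span {(p : ℤ)})))) h0
      rw [this, Nat.cast_zero]
    have hinj2 : Function.Injective (IsLocalRing.residue (Localization.AtPrime (Ideal.span {(p : ℤ)}))) := by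
      rw [injective_iff_map_eq_zero]
      intro x hx
      rw [IsLocalRing.residue_eq_zero_iff, hbot] at hx
      exact hx
    haveI : CharZero (ResidueField (Localization.AtPrime (Ideal.span {(p : ℤ)}))) := charZero_of_injective_ringHom hinj2
    exact PerfectField.ofCharZero
  · haveI : NeZero p := ⟨hprime.ne_zero⟩
    have h1 : (p : ℤ) ≠ 0 := by exact_mod_cast hprime.ne_zero
    haveI hmax : (Ideal.span {(p : ℤ)}).IsMaximal :=
      Ideal.IsPrime.isMaximal hp (by rwa [Ne, Ideal.span_singleton_eq_bot])
    haveI : Finite (ℤ ⧸ Ideal.span {(p : ℤ)}) :=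
      Finite.of_equiv _ (Int.quotientSpanNatEquivZMod p).symm.toEquiv
    haveI : Finite (ResidueField (Localization.AtPrime (Ideal.span {(p : ℤ)}))) :=
      Finite.of_equiv _ (IsLocalization.AtPrime.equivQuotMaximalIdeal
        (Ideal.span {(p : ℤ)}) (Localization.AtPrime (Ideal.span {(p : ℤ)}))).toEquiv
    exact PerfectField.ofFinite

variable {A : Type} [CommRing A] [IsLocalRing A] [CharP (ResidueField A) p] [Algebra (Localization.AtPrime (Ideal.span {(p : ℤ)})) A]
  [IsLocalHom (algebraMap (Localization.AtPrime (Ideal.span {(p : ℤ)})) A)]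

theorem map_maximalIdeal_eq :
    (maximalIdeal (Localization.AtPrime (Ideal.span {(p : ℤ)}))).map (algebraMap (Localization.AtPrime (Ideal.span {(p : ℤ)})) A) = Ideal.span {(p : A)} := by
  rw [maximalIdeal_eq, Ideal.map_span, Set.image_singleton, map_natCast]

omit [CharP (ResidueField A) p] [IsLocalHom (algebraMap (Localization.AtPrime (Ideal.span {(p : ℤ)})) A)] in
/-- the structure map is injective when `A` has characteristic zero -/
theorem algebraMap_injective_of_charZero [CharZero A] :
    Function.Injective (algebraMap (Localization.AtPrime (Ideal.span {(p : ℤ)})) A) := by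
  rw [injective_iff_map_eq_zero]
  intro a ha
  obtain ⟨⟨m, s⟩, hms⟩ := IsLocalization.surj (Ideal.span {(p : ℤ)}).primeCompl a
  simp only at hms
  have h1 := congrArg (algebraMap (Localization.AtPrime (Ideal.span {(p : ℤ)})) A) hms
  rw [map_mul, ha, zero_mul, eq_intCast, map_intCast] at h1
  have hm : m = 0 := by exact_mod_cast h1.symm
  rw [hm, map_zero] at hms
  exact (IsUnit.mul_left_eq_zero (IsLocalization.map_units (Localization.AtPrime (Ideal.span {(p : ℤ)})) s)).mp hms

omit [CharP (ResidueField A) p] [IsLocalHom (algebraMap (Localization.AtPrime (Ideal.span {(p : ℤ)})) A)] in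
theorem flat_of_isDomain_of_charZero [IsDomain A] [CharZero A] : Module.Flat (Localization.AtPrime (Ideal.span {(p : ℤ)})) A := by
  rw [Module.Flat.flat_iff_torsion_eq_bot_of_isBezout, eq_bot_iff]
  rintro x ⟨⟨a, ha⟩, hax⟩
  change a • x = 0 at hax
  rw [Submodule.mem_bot]
  rw [Algebra.smul_def, mul_eq_zero] at hax
  rcases hax with h | h
  · exfalso
    have := algebraMap_injective_of_charZero p (A := A) (by rw [h, map_zero] : algebraMap (Localization.AtPrime (Ideal.span {(p : ℤ)})) A a = algebraMap (Localization.AtPrime (Ideal.span {(p : ℤ)})) A 0)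
    exact nonZeroDivisors.ne_zero ha this
  · exact h

theorem isCohenAlgebra_iff : EGA41.IsCohenAlgebra (Localization.AtPrime (Ideal.span {(p : ℤ)})) A ↔ EGA41.IsCohenRingEGA A := by
  have hgr : Algebra.IsGeometricallyReduced (ResidueField (Localization.AtPrime (Ideal.span {(p : ℤ)}))) (ResidueField A) :=
    isGeometricallyReduced_of_perfectField
  constructor
  · rintro ⟨hNP, hNA, hcompl, hflat, hmax, -⟩
    have hmaxA : maximalIdeal A = Ideal.span {(p : A)} := by
      rw [← hmax, map_maximalIdeal_eq]
    rcases eq_zero_or_prime p with h0 | hprime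
    · left
      have hbot : maximalIdeal A = ⊥ := by
        rw [hmaxA, Ideal.span_singleton_eq_bot]
        have : (p : A) = ((0 : ℕ) : A) := congrArg (fun n : ℕ => (n : A)) h0
        rw [this, Nat.cast_zero]
      refine ⟨IsLocalRing.isField_iff_maximalIdeal_eq.mpr hbot, ?_⟩
      have hinj2 : Function.Injective (IsLocalRing.residue A) := by
        rw [injective_iff_map_eq_zero]
        intro x hx
        rw [IsLocalRing.residue_eq_zero_iff, hbot] at hx
        exact hx
      haveI : CharP (ResidueField A) 0 := by
        have := ‹CharP (ResidueField A) p›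
        rwa [h0] at this
      haveI : CharZero (ResidueField A) := CharP.charP_to_charZero _
      exact (IsLocalRing.residue A).charZero
    · right
      have hsep : ∀ x : A, (∀ n : ℕ, x ∈ maximalIdeal A ^ n) → x = 0 := by
        intro x hx
        have hbot := Ideal.iInf_pow_eq_bot_of_isLocalRing (maximalIdeal A)
          (Ideal.IsPrime.ne_top inferInstance)
        have : x ∈ ⨅ n : ℕ, maximalIdeal A ^ n := by
          rw [Ideal.mem_iInf]
          exact hx
        rwa [hbot] at this
      have hp0 : (p : (Localization.AtPrime (Ideal.span {(p : ℤ)}))) ≠ 0 := by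
        intro h
        have hinj : Function.Injective (algebraMap ℤ (Localization.AtPrime (Ideal.span {(p : ℤ)}))) :=
          IsLocalization.injective (M := (Ideal.span {(p : ℤ)}).primeCompl) (Localization.AtPrime (Ideal.span {(p : ℤ)}))
            (Ideal.primeCompl_le_nonZeroDivisors _)
        have : algebraMap ℤ (Localization.AtPrime (Ideal.span {(p : ℤ)})) (p : ℤ) = algebraMap ℤ (Localization.AtPrime (Ideal.span {(p : ℤ)})) 0 := by
          rw [map_zero, eq_intCast, Int.cast_natCast]
          exact h
        have h2 := hinj this
        exact hprime.ne_zero (by exact_mod_cast h2)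
      have hnil : ∀ n : ℕ, (p : A) ^ n ≠ 0 := by
        intro n hn
        have hreg : IsSMulRegular A ((p : (Localization.AtPrime (Ideal.span {(p : ℤ)}))) ^ n) :=
          Module.Flat.isSMulRegular_of_nonZeroDivisors
            (mem_nonZeroDivisors_of_ne_zero (pow_ne_zero n hp0))
        have h1 : ((p : (Localization.AtPrime (Ideal.span {(p : ℤ)}))) ^ n) • (1 : A) = ((p : (Localization.AtPrime (Ideal.span {(p : ℤ)}))) ^ n) • (0 : A) := by
          rw [smul_zero, Algebra.smul_def, mul_one, map_pow, map_natCast]
          exact hn
        exact one_ne_zero (hreg h1)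
      haveI hdom := Groth.Agent.Lib.Helper19.CohenExist.isDomain_of_principal (p : A) hmaxA hsep hnil
      have hdvr := Groth.Agent.Lib.Helper19.CohenExist.isDiscreteValuationRing_of_principal
        (p : A) hmaxA hsep hnil
      exact ⟨hdom, hdvr, hcompl, p, hprime, hmaxA⟩
  · intro h
    haveI hchar : CharZero A := by
      rcases h with ⟨-, hc0⟩ | hc
      · exact hc0
      · exact Groth.Agent.Lib.Helper19.FlatLift.charZero_of_isCohenRing hc
    rcases h with ⟨hfield, -⟩ | ⟨hdom, hdvr, hcompl, q, hq, hmaxA⟩
    · -- a field of characteristic zero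
      have hbot : maximalIdeal A = ⊥ := IsLocalRing.isField_iff_maximalIdeal_eq.mp hfield
      have hinj2 : Function.Injective (IsLocalRing.residue A) := by
        rw [injective_iff_map_eq_zero]
        intro x hx
        rw [IsLocalRing.residue_eq_zero_iff, hbot] at hx
        exact hx
      haveI : CharZero (ResidueField A) := charZero_of_injective_ringHom hinj2
      have hp0 : p = 0 := CharP.eq (ResidueField A) ‹CharP (ResidueField A) p› (CharP.ofCharZero _)
      letI := hfield.toField
      refine ⟨inferInstance, inferInstance, ?_, flat_of_isDomain_of_charZero p, ?_, hgr⟩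
      · rw [hbot]
        infer_instance
      · rw [map_maximalIdeal_eq, hbot, Ideal.span_singleton_eq_bot]
        have : (p : A) = ((0 : ℕ) : A) := congrArg (fun n : ℕ => (n : A)) hp0
        rw [this, Nat.cast_zero]
    · haveI := hdom
      haveI := hdvr
      have hqp : q = p := by
        have hqm : (q : A) ∈ maximalIdeal A := by
          rw [hmaxA]
          exact Ideal.subset_span rfl
        have h1 : ((q : ℕ) : ResidueField A) = 0 := by
          rw [← map_natCast (IsLocalRing.residue A), IsLocalRing.residue_eq_zero_iff]
          exact hqm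
        have hdvd : p ∣ q := (CharP.cast_eq_zero_iff (ResidueField A) p q).mp h1
        have hne : p ≠ 1 := CharP.char_ne_one (ResidueField A) p
        exact ((Nat.Prime.eq_one_or_self_of_dvd hq p hdvd).resolve_left hne).symm
      refine ⟨inferInstance, inferInstance, hcompl, flat_of_isDomain_of_charZero p, ?_, hgr⟩
      rw [map_maximalIdeal_eq, hmaxA, hqp]

end prime

end Groth.Agent.Lib.T2H1.CohenPrime
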