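import Mathlib

/-!
# Transporting colimit cocones along natural transformations
-/

set_option autoImplicit false
open CategoryTheory CategoryTheory.Limits

namespace Groth.Agent.Lib.T2H1.ColimCocone

variable {J : Type*} [Category J] {𝒞 : Type*} [Category 𝒞] {𝒟 : Type*} [Category 𝒟]

/-- if `ν : Ψ ⟶ Φ` is an isomorphism at the objects of a diagram and at the vertex of a cocone `c`,
and `Ψ` maps `c` to a colimit cocone, then so does `Φ`. -/
noncomputable def isColimitMapCoconeOfNatTrans {Ψ Φ : 𝒞 ⥤ 𝒟} (ν : Ψ ⟶ Φ) {C : J ⥤ 𝒞}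
    (c : Cocone C) (hΨ : IsColimit (Ψ.mapCocone c)) (h1 : ∀ j, IsIso (ν.app (C.obj j)))
    (h2 : IsIso (ν.app c.pt)) : IsColimit (Φ.mapCocone c) := by
  haveI : ∀ j, IsIso ((Functor.whiskerLeft C ν).app j) := fun j => h1 j
  haveI : IsIso (Functor.whiskerLeft C ν) := NatIso.isIso_of_isIso_app _
  let w : C ⋙ Ψ ≅ C ⋙ Φ := asIso (Functor.whiskerLeft C ν)
  have e : Ψ.mapCocone c ≅ (Cocone.precompose w.hom).obj (Φ.mapCocone c) :=
    Cocone.ext (asIso (ν.app c.pt)) (fun j => by
      dsimp [w]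
      exact ν.naturality (c.ι.app j))
  exact (IsColimit.precomposeHomEquiv w _) (IsColimit.ofIsoColimit hΨ e)

/-- if `θ : C ⟶ C'` is a morphism of diagrams inverted by `Φ`, compatible with a morphism `m`
between the vertices of cocones `c`, `c'` which is also inverted by `Φ`, and `Φ` maps `c'`
to a colimit cocone, then it maps `c` to a colimit cocone. -/
noncomputable def isColimitMapCoconeOfIso (Φ : 𝒞 ⥤ 𝒟) {C C' : J ⥤ 𝒞} (θ : C ⟶ C')
    (c : Cocone C) (c' : Cocone C') (m : c.pt ⟶ c'.pt)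
    (hm : ∀ j, c.ι.app j ≫ m = θ.app j ≫ c'.ι.app j) (h1 : ∀ j, IsIso (Φ.map (θ.app j)))
    (h2 : IsIso (Φ.map m)) (hc' : IsColimit (Φ.mapCocone c')) : IsColimit (Φ.mapCocone c) := by
  haveI : ∀ j, IsIso ((Functor.whiskerRight θ Φ).app j) := fun j => h1 j
  haveI : IsIso (Functor.whiskerRight θ Φ) := NatIso.isIso_of_isIso_app _
  let w : C ⋙ Φ ≅ C' ⋙ Φ := asIso (Functor.whiskerRight θ Φ)
  have e : Φ.mapCocone c ≅ (Cocone.precompose w.hom).obj (Φ.mapCocone c') :=
    Cocone.ext (asIso (Φ.map m)) (fun j => by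
      dsimp [w]
      rw [← Φ.map_comp, hm, Φ.map_comp])
  exact IsColimit.ofIsoColimit ((IsColimit.precomposeHomEquiv w _).symm hc') e.symm

/-- a morphism between the vertices of two cocones which become colimit cocones after applying
`H` is inverted by `H` as soon as the underlying morphism of diagrams is. -/
lemma isIso_map_of_isColimit (H : 𝒞 ⥤ 𝒟) {C C' : J ⥤ 𝒞} (θ : C ⟶ C')
    (c : Cocone C) (c' : Cocone C') (m : c.pt ⟶ c'.pt)
    (hm : ∀ j, c.ι.app j ≫ m = θ.app j ≫ c'.ι.app j)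
    (hc : IsColimit (H.mapCocone c)) (hc' : IsColimit (H.mapCocone c'))
    (h1 : ∀ j, IsIso (H.map (θ.app j))) : IsIso (H.map m) := by
  haveI : ∀ j, IsIso ((Functor.whiskerRight θ H).app j) := fun j => h1 j
  haveI : IsIso (Functor.whiskerRight θ H) := NatIso.isIso_of_isIso_app _
  let w : C ⋙ H ≅ C' ⋙ H := asIso (Functor.whiskerRight θ H)
  have : H.map m = (IsColimit.coconePointsIsoOfNatIso hc hc' w).hom := by
    apply hc.hom_ext
    intro j
    rw [IsColimit.comp_coconePointsIsoOfNatIso_hom]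
    dsimp [w]
    rw [← H.map_comp, hm, H.map_comp]
  rw [this]
  infer_instance

end Groth.Agent.Lib.T2H1.ColimCocone
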