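import Mathlib
import Groth.Prelude
import Groth.Agent.Lib.Helper19ComplNoeth
import Groth.Agent.Lib.Helper19Jacobson
import Groth.Agent.Lib.Helper28IAdicLocal
import Groth.Agent.Lib.Helper28ComplQuot
import Groth.Agent.Lib.Helper5FBC

/-!
# Dimension of the `J`-adic completion for `J` in the Jacobson radical (helper1)

* `ringKrullDim_eq_of_maximal_corr`: a going-down extension `R → S` whose maximal ideals are
  exactly the extensions of the maximal ideals of `R` preserves Krull dimension;
* `ringKrullDim_adicCompletion_of_le_jacobson`: `dim Â = dim A` for `J ≤ rad A`, `A` Noetherian;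
* `supportDim_adicCompletion`: `dim_Â M̂ = dim_A M` for finite `M`.
-/

set_option autoImplicit false
set_option linter.style.haveILetI false
set_option linter.unusedSectionVars false
universe u

namespace Groth.Agent.Lib.T2H1.ComplDimJ

open TensorProduct

section Abstract

variable {R S : Type u} [CommRing R] [CommRing S] [Algebra R S] [IsNoetherianRing R] [IsNoetherianRing S]
  [Algebra.HasGoingDown R S]

theorem height_map_eq_of_isMaximal_map (n : Ideal R) [hn : n.IsMaximal]
    (hN : (n.map (algebraMap R S)).IsMaximal) :
    (n.map (algebraMap R S)).height = n.height := by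
  haveI := hN
  haveI : (n.map (algebraMap R S)).IsPrime := hN.isPrime
  haveI : (n.map (algebraMap R S)).LiesOver n := by
    refine ⟨?_⟩
    have h1 : n ≤ (n.map (algebraMap R S)).comap (algebraMap R S) := Ideal.le_comap_map
    have h2 : (n.map (algebraMap R S)).comap (algebraMap R S) ≠ ⊤ :=
      (Ideal.comap_isPrime _ _).ne_top
    exact hn.eq_of_le h2 h1
  rw [Ideal.height_eq_height_add_of_liesOver_of_hasGoingDown n (n.map (algebraMap R S)),
    Ideal.map_quotient_self]
  haveI : Nontrivial (S ⧸ n.map (algebraMap R S)) :=
    Ideal.Quotient.nontrivial_iff.mpr hN.ne_top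
  rw [Ideal.height_bot, add_zero]

/-- a going-down extension whose maximal ideals are exactly the extensions of the maximal ideals
of the base has the same Krull dimension. -/
theorem ringKrullDim_eq_of_maximal_corr [Nontrivial R] [Nontrivial S]
    (ha : ∀ n : Ideal R, n.IsMaximal → (n.map (algebraMap R S)).IsMaximal)
    (hb : ∀ N : Ideal S, N.IsMaximal → (N.comap (algebraMap R S)).IsMaximal ∧
      N = (N.comap (algebraMap R S)).map (algebraMap R S)) :
    ringKrullDim S = ringKrullDim R := by
  rw [← Ideal.sup_isMaximal_height_eq_ringKrullDim, ← Ideal.sup_isMaximal_height_eq_ringKrullDim,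
    WithBot.coe_inj]
  apply le_antisymm
  · refine iSup₂_le fun N hN => ?_
    obtain ⟨hn, hNeq⟩ := hb N hN
    haveI := hn
    have h1 := height_map_eq_of_isMaximal_map (S := S) (N.comap (algebraMap R S)) (hNeq ▸ hN)
    rw [← hNeq] at h1
    rw [h1]
    exact le_iSup₂_of_le (N.comap (algebraMap R S)) hn le_rfl
  · refine iSup₂_le fun n hn => ?_
    haveI := hn
    have h1 := height_map_eq_of_isMaximal_map (S := S) n (ha n hn)
    rw [← h1]
    exact le_iSup₂_of_le (n.map (algebraMap R S)) (ha n hn) le_rfl

end Abstract

section Completion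

variable (A : Type u) [CommRing A] [IsNoetherianRing A] (J : Ideal A)

/-- `dim Â = dim A` for the `J`-adic completion when `J` lies in the Jacobson radical. -/
theorem ringKrullDim_adicCompletion_of_le_jacobson (hJ : J ≤ (⊥ : Ideal A).jacobson) :
    ringKrullDim (AdicCompletion J A) = ringKrullDim A := by
  rcases subsingleton_or_nontrivial A with hA | hA
  · haveI : Subsingleton (AdicCompletion J A) := Module.subsingleton A _
    rw [ringKrullDim_eq_bot_of_subsingleton, ringKrullDim_eq_bot_of_subsingleton]
  have fg : J.FG := IsNoetherian.noetherian J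
  haveI : IsNoetherianRing (AdicCompletion J A) :=
    Groth.Agent.Lib.Helper19.isNoetherianRing_adicCompletion J
  haveI hff : Module.FaithfullyFlat A (AdicCompletion J A) :=
    Groth.Agent.Lib.Helper19.faithfullyFlat_adicCompletion_of_le_jacobson A J hJ
  haveI : Nontrivial (AdicCompletion J A) :=
    (FaithfulSMul.algebraMap_injective A (AdicCompletion J A)).nontrivial
  haveI hc := AdicCompletion.isAdicComplete_self J fg
  have hjac : J.map (algebraMap A (AdicCompletion J A)) ≤
      (⊥ : Ideal (AdicCompletion J A)).jacobson := IsAdicComplete.le_jacobson_bot _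
  apply ringKrullDim_eq_of_maximal_corr
  · intro n hn
    haveI := hn
    exact AdicCompletion.isMaximal_map_of_le J n
      (Groth.Agent.Lib.Helper19.le_of_le_jacobson_bot A hJ n) fg
  · intro N hN
    have hJN : J.map (algebraMap A (AdicCompletion J A)) ≤ N :=
      hjac.trans (sInf_le ⟨bot_le, hN⟩)
    have hsurj : Function.Surjective ((Ideal.Quotient.mk N).comp
        (algebraMap A (AdicCompletion J A))) := by
      intro y
      obtain ⟨s, rfl⟩ := Ideal.Quotient.mk_surjective y
      obtain ⟨a, ha⟩ := Groth.Agent.Lib.Helper28.exists_sub_mem_map_adicCompletion J s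
      refine ⟨a, ?_⟩
      symm
      rw [RingHom.comp_apply, Ideal.Quotient.mk_eq_mk_iff_sub_mem]
      exact hJN ha
    have hker : N.comap (algebraMap A (AdicCompletion J A)) = RingHom.ker
        ((Ideal.Quotient.mk N).comp (algebraMap A (AdicCompletion J A))) := by
      ext a
      rw [RingHom.mem_ker, Ideal.mem_comap, RingHom.comp_apply, Ideal.Quotient.eq_zero_iff_mem]
    have hmax : (N.comap (algebraMap A (AdicCompletion J A))).IsMaximal := by
      rw [hker]
      letI : Field (AdicCompletion J A ⧸ N) := Ideal.Quotient.field N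
      exact RingHom.ker_isMaximal_of_surjective _ hsurj
    refine ⟨hmax, le_antisymm ?_ (Ideal.map_comap_le)⟩
    intro s hs
    obtain ⟨a, ha⟩ := Groth.Agent.Lib.Helper28.exists_sub_mem_map_adicCompletion J s
    have haN : algebraMap A (AdicCompletion J A) a ∈ N := by
      have := N.sub_mem hs (hJN ha)
      simpa using this
    have hJle : J ≤ N.comap (algebraMap A (AdicCompletion J A)) :=
      Ideal.map_le_iff_le_comap.mp hJN
    have h1 : algebraMap A (AdicCompletion J A) a ∈
        (N.comap (algebraMap A (AdicCompletion J A))).map (algebraMap A (AdicCompletion J A)) :=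
      Ideal.mem_map_of_mem _ haN
    have h2 : s - algebraMap A (AdicCompletion J A) a ∈
        (N.comap (algebraMap A (AdicCompletion J A))).map (algebraMap A (AdicCompletion J A)) :=
      Ideal.map_mono hJle ha
    have := Ideal.add_mem _ h2 h1
    simpa using this

theorem map_mk_le_jacobson_bot (hJ : J ≤ (⊥ : Ideal A).jacobson) (K : Ideal A) :
    J.map (Ideal.Quotient.mk K) ≤ (⊥ : Ideal (A ⧸ K)).jacobson := by
  apply Groth.Agent.Lib.Helper19.le_jacobson_bot_of_forall_maximal
  intro m hm
  rw [Ideal.map_le_iff_le_comap]
  haveI := hm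
  haveI : (m.comap (Ideal.Quotient.mk K)).IsMaximal :=
    Ideal.comap_isMaximal_of_surjective _ Ideal.Quotient.mk_surjective
  exact Groth.Agent.Lib.Helper19.le_of_le_jacobson_bot A hJ _

/-- `dim_Â M̂ = dim_A M` for a finite module, `J ≤ rad A`. -/
theorem supportDim_adicCompletion (hJ : J ≤ (⊥ : Ideal A).jacobson) (M : Type u)
    [AddCommGroup M] [Module A M] [Module.Finite A M] :
    Module.supportDim (AdicCompletion J A) (AdicCompletion J M) = Module.supportDim A M := by
  haveI : IsNoetherianRing (AdicCompletion J A) :=
    Groth.Agent.Lib.Helper19.isNoetherianRing_adicCompletion J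
  haveI hff : Module.FaithfullyFlat A (AdicCompletion J A) :=
    Groth.Agent.Lib.Helper19.faithfullyFlat_adicCompletion_of_le_jacobson A J hJ
  rw [← Module.supportDim_eq_of_equiv
    (AdicCompletion.ofTensorProductEquivOfFiniteNoetherian J M),
    Module.supportDim_eq_ringKrullDim_quotient_annihilator,
    Module.supportDim_eq_ringKrullDim_quotient_annihilator A M,
    Groth.Agent.Lib.Helper5.FBC.annihilator_baseChange]
  obtain ⟨e, -⟩ := Groth.Agent.Lib.Helper28.exists_ringEquiv_adicCompletion_quotient J
    (Module.annihilator A M)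
  rw [ringKrullDim_eq_of_ringEquiv e]
  exact ringKrullDim_adicCompletion_of_le_jacobson (A ⧸ Module.annihilator A M) _
    (map_mk_le_jacobson_bot A J hJ _)

end Completion

end Groth.Agent.Lib.T2H1.ComplDimJ
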