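import Mathlib
import Groth.Agent.Lib.Helper28FlatNormal
import Groth.Agent.Lib.Helper28RegPow
import Groth.Agent.Lib.Helper28ComplQuot2
import Groth.Agent.Lib.Helper19GRLoc
import Groth.Agent.Lib.Helper19ComplNoeth

/-!
# The adic completion of a regular ring is regular; completions of quotients of regular rings
(helper1)
-/

set_option autoImplicit false
set_option linter.style.haveILetI false
set_option linter.unusedSectionVars false
universe u

namespace Groth.Agent.Lib.T2H1.ComplReg

open IsLocalRing Groth.Agent.Lib.Helper28

section Reg

variable (R : Type u) [CommRing R] [IsNoetherianRing R] (I : Ideal R)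

/-- a maximal ideal of the completion is extended from its contraction -/
theorem map_comap_eq_of_isMaximal (M : Ideal (AdicCompletion I R)) [hM : M.IsMaximal] :
    (M.comap (algebraMap R (AdicCompletion I R))).map (algebraMap R (AdicCompletion I R)) = M := by
  have fg : I.FG := IsNoetherian.noetherian I
  have hc := AdicCompletion.isAdicComplete_self I fg
  have hle := IsAdicComplete.le_jacobson_bot (I.map (algebraMap R (AdicCompletion I R)))
  have hIM : I.map (algebraMap R (AdicCompletion I R)) ≤ M :=
    hle.trans (sInf_le ⟨bot_le, hM⟩)
  apply le_antisymm Ideal.map_comap_le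
  intro x hx
  obtain ⟨a, ha⟩ := exists_sub_of_mem_pow_smul_top I fg 1 x
  rw [pow_one, Ideal.smul_top_eq_map, Submodule.restrictScalars_mem] at ha
  have hIp : I.map (algebraMap R (AdicCompletion I R)) ≤
      (M.comap (algebraMap R (AdicCompletion I R))).map (algebraMap R (AdicCompletion I R)) := by
    apply Ideal.map_mono
    rw [← Ideal.map_le_iff_le_comap]
    exact hIM
  have h1 : AdicCompletion.of I R a ∈ M := by
    have : AdicCompletion.of I R a = x - (x - AdicCompletion.of I R a) := by ring
    rw [this]
    exact M.sub_mem hx (hIM ha)
  have h2 : AdicCompletion.of I R a ∈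
      (M.comap (algebraMap R (AdicCompletion I R))).map (algebraMap R (AdicCompletion I R)) := by
    have h3 : algebraMap R (AdicCompletion I R) a = AdicCompletion.of I R a := by
      rw [AdicCompletion.algebraMap_apply, Algebra.algebraMap_self, RingHom.id_apply]
    rw [← h3]
    apply Ideal.mem_map_of_mem
    rw [Ideal.mem_comap, h3]
    exact h1
  have : x = AdicCompletion.of I R a + (x - AdicCompletion.of I R a) := by ring
  rw [this]
  exact Ideal.add_mem _ h2 (hIp ha)

omit [IsNoetherianRing R] in
/-- **The adic completion of a regular ring is regular.** -/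
theorem isRegularRing_adicCompletion [IsRegularRing R] : IsRegularRing (AdicCompletion I R) := by
  haveI : IsNoetherianRing (AdicCompletion I R) :=
    Groth.Agent.Lib.Helper19.isNoetherianRing_adicCompletion I
  haveI : Module.Flat R (AdicCompletion I R) := inferInstance
  apply Groth.Agent.Lib.Helper28.isRegularRing_of_forall_isMaximal
  intro M hM
  haveI := hM.isPrime
  apply isRegularLocalRing_localization_of_fibLocRing (A := R) (B := AdicCompletion I R) M
  · infer_instance
  · -- the fibre local ring is a field
    have h1 : (M.comap (algebraMap R (AdicCompletion I R))).map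
        (algebraMap R (Localization.AtPrime M)) = maximalIdeal (Localization.AtPrime M) := by
      rw [IsScalarTower.algebraMap_eq R (AdicCompletion I R) (Localization.AtPrime M),
        ← Ideal.map_map, map_comap_eq_of_isMaximal R I M,
        Localization.AtPrime.map_eq_maximalIdeal]
    letI : Field (Localization.AtPrime M ⧸ maximalIdeal (Localization.AtPrime M)) :=
      Ideal.Quotient.field _
    have h2 : IsRegularLocalRing (Localization.AtPrime M ⧸ maximalIdeal (Localization.AtPrime M)) :=
      inferInstance
    exact IsRegularLocalRing.of_ringEquiv (Ideal.quotEquivOfEq h1.symm)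

end Reg


section Quot

/-- the completion of a quotient of a regular ring is a quotient of a regular ring -/
theorem exists_regular_surjective_adicCompletion (R' S : Type u) [CommRing R'] [CommRing S]
    [IsRegularRing R'] (π : R' →+* S) (hπ : Function.Surjective π) (J : Ideal S) :
    ∃ (R'' : Type u) (_ : CommRing R'') (_ : IsRegularRing R'') (ψ : R'' →+* AdicCompletion J S),
      Function.Surjective ψ := by
  set I' : Ideal R' := J.comap π with hI'
  set K : Ideal R' := RingHom.ker π with hK
  have hmap : I'.map π = J := Ideal.map_comap_of_surjective π hπ J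
  obtain ⟨e₁, -⟩ := exists_ringEquiv_adicCompletion_quotient I' K
  let e₂ : R' ⧸ K ≃+* S := RingHom.quotientKerEquivOfSurjective hπ
  have h2 : (I'.map (Ideal.Quotient.mk K)).map (e₂ : R' ⧸ K →+* S) = J := by
    rw [Ideal.map_map]
    have : (e₂ : R' ⧸ K →+* S).comp (Ideal.Quotient.mk K) = π := by
      ext x
      rfl
    rw [this, hmap]
  have fg : (I'.map (Ideal.Quotient.mk K)).FG := Ideal.FG.map (IsNoetherian.noetherian I') _
  obtain ⟨ê₂, -⟩ := exists_ringEquiv_adicCompletion_of_ringEquiv
    (I'.map (Ideal.Quotient.mk K)) J fg e₂ h2
  refine ⟨AdicCompletion I' R', inferInstance, isRegularRing_adicCompletion R' I',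
    (ê₂.toRingHom.comp e₁.toRingHom).comp (Ideal.Quotient.mk _), ?_⟩
  exact (ê₂.surjective.comp e₁.surjective).comp Ideal.Quotient.mk_surjective

end Quot

end Groth.Agent.Lib.T2H1.ComplReg
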