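import Mathlib
import Groth.Prelude
import Groth.Agent.Lib.Helper10PunctJac
import Groth.Agent.Lib.Helper29Chevalley
import Groth.Agent.Lib.Helper28ComplNagata
import Groth.Agent.Lib.Helper28GeomRed1
import Groth.Agent.Lib.Helper14Japanese
import Groth.Agent.Lib.Helper3HenselK

/-!
# Complete reduced local rings are separated by finitely many finite DVRs modulo `m^n`
(helper1, team 2)

Namespace `Groth.Agent.Lib.T2H1.CompleteDVR`.
-/

set_option autoImplicit false
universe u
open IsLocalRing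

namespace Groth.Agent.Lib.T2H1.CompleteDVR

/-- the primes `p` with `dim A/p = 1`, in elementary terms. -/
def IsDimOne {A : Type*} [CommRing A] [IsLocalRing A] (p : Ideal A) : Prop :=
  p.IsPrime ∧ p ≠ maximalIdeal A ∧ ∀ q : Ideal A, q.IsPrime → p < q → q = maximalIdeal A

section Step1

variable {A : Type u} [CommRing A] [IsNoetherianRing A] [IsLocalRing A] [IsReduced A]

theorem exists_isDimOne_not_mem (hA : ¬ IsField A) {x : A} (hx : x ≠ 0) :
    ∃ p : Ideal A, IsDimOne p ∧ x ∉ p := by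
  -- a minimal prime not containing x
  obtain ⟨q₀, hq₀, hxq₀⟩ : ∃ q₀ ∈ minimalPrimes A, x ∉ q₀ := by
    by_contra hcon
    push_neg at hcon
    have hx' : x ∈ sInf (minimalPrimes A) := Submodule.mem_sInf.mpr hcon
    have h2 : x ∈ nilradical A := by
      have h3 : x ∈ sInf (⊥ : Ideal A).minimalPrimes := hx'
      rw [Ideal.sInf_minimalPrimes] at h3
      exact h3
    rw [nilradical_eq_zero] at h2
    exact hx h2
  haveI hq₀p : q₀.IsPrime := hq₀.1.1
  have hq₀m : q₀ ≠ maximalIdeal A := by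
    intro h
    apply hA
    rw [IsLocalRing.isField_iff_maximalIdeal_eq]
    have hnil : nilradical A = maximalIdeal A := by
      apply le_antisymm
      · exact nilradical_le_prime _
      · rw [nilradical_eq_sInf, le_sInf_iff]
        intro q hq
        have hq' : q.IsPrime := hq
        have hle : q ≤ q₀ := h ▸ IsLocalRing.le_maximalIdeal hq'.ne_top
        exact h ▸ hq₀.2 ⟨hq', bot_le⟩ hle
    rw [← hnil, nilradical_eq_zero]; rfl
  have hlt : q₀ < maximalIdeal A :=
    lt_of_le_of_ne (IsLocalRing.le_maximalIdeal hq₀p.ne_top) hq₀m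
  obtain ⟨y, hym, hyq₀⟩ := Set.exists_of_ssubset hlt
  have hfq₀ : x * y ∉ q₀ := fun h => (hq₀p.mem_or_mem h).elim hxq₀ hyq₀
  have hfm : x * y ∈ maximalIdeal A := Ideal.mul_mem_left _ _ hym
  -- a prime maximal among those not containing f
  obtain ⟨p, ⟨hp, hfp⟩, hpmax⟩ := set_has_maximal_iff_noetherian.mpr
    (inferInstance : IsNoetherian A A) {p : Ideal A | p.IsPrime ∧ x * y ∉ p} ⟨q₀, hq₀p, hfq₀⟩
  haveI := hp
  have hfq : ∀ q : Ideal A, q.IsPrime → p < q → x * y ∈ q := by
    intro q hq hpq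
    by_contra hfq
    exact hpmax q ⟨hq, hfq⟩ hpq
  have hpm : p ≠ maximalIdeal A := fun h => hfp (h ▸ hfm)
  refine ⟨p, ⟨hp, hpm, ?_⟩, fun hxp => hfp (Ideal.mul_mem_right _ _ hxp)⟩
  intro q hq hpq
  by_contra hqm
  haveI := hq
  have hqlt : q < maximalIdeal A :=
    lt_of_le_of_ne (IsLocalRing.le_maximalIdeal hq.ne_top) hqm
  have h2 : 2 ≤ ringKrullDim (A ⧸ p) :=
    Groth.Agent.Lib.Helper10.PunctJac.two_le_ringKrullDim_quotient hpq hqlt
  have hf0 : Ideal.Quotient.mk p (x * y) ≠ 0 := by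
    rw [Ne, Ideal.Quotient.eq_zero_iff_mem]; exact hfp
  have h1 : ringKrullDim (A ⧸ p) ≤ 1 := by
    apply Groth.Agent.Lib.Helper10.PunctJac.ringKrullDim_le_one_of_forall_mem hf0
    intro Q hQ hQ0
    have hlt' : p < Q.comap (Ideal.Quotient.mk p) := by
      refine lt_of_le_of_ne ?_ ?_
      · intro z hz
        rw [Ideal.mem_comap, Ideal.Quotient.eq_zero_iff_mem.mpr hz]; exact Q.zero_mem
      · intro heq
        apply hQ0
        rw [← Ideal.map_comap_of_surjective _ Ideal.Quotient.mk_surjective Q, ← heq,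
          Ideal.map_quotient_self]
    exact hfq _ (Ideal.comap_isPrime _ Q) hlt'
  have := h2.trans h1
  exact absurd this (by decide)

end Step1

section Step2

variable (A : Type u) [CommRing A] [IsNoetherianRing A] [IsLocalRing A]
  [IsAdicComplete (maximalIdeal A) A]

/-- For a prime `p` with `dim A/p = 1` of a complete Noetherian local ring, the normalization of
`A/p` is a discrete valuation ring, finite over `A`. -/
theorem exists_dvr_of_isDimOne (p : Ideal A) (hp : IsDimOne p) :
    ∃ (V : Type u) (_ : CommRing V) (_ : IsDomain V) (_ : IsDiscreteValuationRing V)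
      (φ : A →+* V), IsLocalHom φ ∧ φ.Finite ∧ RingHom.ker φ = p := by
  obtain ⟨hpp, hpm, hdim⟩ := hp
  haveI := hpp
  haveI : HenselianLocalRing A :=
    Groth.Agent.Lib.Helper28.GeomRed.henselianLocalRing_of_isAdicComplete A
  have hNag : CAlg.IsNagata A := Groth.Agent.Lib.Helper28.isNagata_of_isAdicComplete_local A
  have hN2 : CAlg.IsN2 (A ⧸ p) := hNag.2 p
  haveI hfinV : Module.Finite (A ⧸ p) (integralClosure (A ⧸ p) (FractionRing (A ⧸ p))) :=
    Groth.Agent.Lib.Helper14.IsN2.isN1 hN2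
  haveI : Module.Finite A (integralClosure (A ⧸ p) (FractionRing (A ⧸ p))) :=
    Module.Finite.trans (A ⧸ p) _
  haveI : IsLocalRing (integralClosure (A ⧸ p) (FractionRing (A ⧸ p))) :=
    Groth.Agent.Lib.Helper28.GeomRed.isLocalRing_of_finite_of_isDomain A _
  haveI : IsNoetherianRing (integralClosure (A ⧸ p) (FractionRing (A ⧸ p))) :=
    IsNoetherianRing.of_finite (A ⧸ p) _
  haveI : IsIntegrallyClosed (integralClosure (A ⧸ p) (FractionRing (A ⧸ p))) :=
    integralClosure.isIntegrallyClosedOfFiniteExtension (FractionRing (A ⧸ p))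
  haveI : Ring.DimensionLEOne (A ⧸ p) := by
    refine ⟨fun {Q} hQ0 hQ => ?_⟩
    have hlt' : p < Q.comap (Ideal.Quotient.mk p) := by
      refine lt_of_le_of_ne ?_ ?_
      · intro z hz
        rw [Ideal.mem_comap, Ideal.Quotient.eq_zero_iff_mem.mpr hz]; exact Q.zero_mem
      · intro heq
        apply hQ0
        rw [← Ideal.map_comap_of_surjective _ Ideal.Quotient.mk_surjective Q, ← heq,
          Ideal.map_quotient_self]
    have hm := hdim _ (Ideal.comap_isPrime _ Q) hlt'
    have hQeq : Q = (maximalIdeal A).map (Ideal.Quotient.mk p) := by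
      rw [← hm, Ideal.map_comap_of_surjective _ Ideal.Quotient.mk_surjective Q]
    rcases Ideal.map_eq_top_or_isMaximal_of_surjective (Ideal.Quotient.mk p)
      Ideal.Quotient.mk_surjective (inferInstance : (maximalIdeal A).IsMaximal) with h | h
    · exact absurd (hQeq.trans h) hQ.ne_top
    · rw [hQeq]; exact h
  haveI : Ring.DimensionLEOne (integralClosure (A ⧸ p) (FractionRing (A ⧸ p))) :=
    Ring.DimensionLEOne.of_isIntegral (A ⧸ p) _
  have hinjV : Function.Injective
      (algebraMap (A ⧸ p) (integralClosure (A ⧸ p) (FractionRing (A ⧸ p)))) :=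
    by
      intro a b hab
      have := congrArg (algebraMap (integralClosure (A ⧸ p) (FractionRing (A ⧸ p)))
        (FractionRing (A ⧸ p))) hab
      rw [← IsScalarTower.algebraMap_apply, ← IsScalarTower.algebraMap_apply] at this
      exact IsFractionRing.injective (A ⧸ p) (FractionRing (A ⧸ p)) this
  have hnotfield : ¬ IsField (integralClosure (A ⧸ p) (FractionRing (A ⧸ p))) := by
    intro h
    have h1 : IsField (A ⧸ p) := isField_of_isIntegral_of_isField hinjV h
    have h2 : p.IsMaximal := (Ideal.Quotient.maximal_ideal_iff_isField_quotient p).mpr h1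
    exact hpm (IsLocalRing.eq_maximalIdeal h2)
  have hdvr : IsDiscreteValuationRing (integralClosure (A ⧸ p) (FractionRing (A ⧸ p))) := by
    have h03 : IsDiscreteValuationRing (integralClosure (A ⧸ p) (FractionRing (A ⧸ p))) ↔
        (IsIntegrallyClosed (integralClosure (A ⧸ p) (FractionRing (A ⧸ p))) ∧
          ∃! P : Ideal (integralClosure (A ⧸ p) (FractionRing (A ⧸ p))), P ≠ ⊥ ∧ P.IsPrime) :=
      (IsDiscreteValuationRing.TFAE _ hnotfield).out 0 3
    refine h03.mpr ⟨inferInstance, ?_⟩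
    refine ⟨maximalIdeal _, ⟨?_, inferInstance⟩, ?_⟩
    · intro h
      exact hnotfield (IsLocalRing.isField_iff_maximalIdeal_eq.mpr h)
    · rintro P ⟨hP0, hP⟩
      exact IsLocalRing.eq_maximalIdeal (Ring.DimensionLEOne.maximalOfPrime hP0 hP)
  refine ⟨integralClosure (A ⧸ p) (FractionRing (A ⧸ p)), inferInstance, inferInstance, hdvr,
    algebraMap A _, Groth.Agent.Lib.Helper3.Hensel.isLocalHom_of_finite,
    RingHom.finite_algebraMap.mpr inferInstance, ?_⟩
  ext a
  rw [RingHom.mem_ker, IsScalarTower.algebraMap_apply A (A ⧸ p)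
    (integralClosure (A ⧸ p) (FractionRing (A ⧸ p))), map_eq_zero_iff _ hinjV,
    Ideal.Quotient.algebraMap_eq, Ideal.Quotient.eq_zero_iff_mem]

end Step2

section Step3

variable (A : Type u) [CommRing A] [IsNoetherianRing A] [IsLocalRing A] [IsReduced A]
  [IsAdicComplete (maximalIdeal A) A]

/-- finitely many primes with `dim A/p = 1` whose intersection lies in `m^n`. -/
theorem exists_finset_inf_le (hA : ¬ IsField A) (n : ℕ) :
    ∃ s : Finset (Ideal A), (∀ p ∈ s, IsDimOne p) ∧ s.inf id ≤ maximalIdeal A ^ n := by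
  classical
  -- minimal images modulo m^(N+1)
  have hmin : ∀ N : ℕ, ∃ s : Finset (Ideal A), (∀ p ∈ s, IsDimOne p) ∧
      ∀ s' : Finset (Ideal A), (∀ p ∈ s', IsDimOne p) → s ⊆ s' →
        s.inf id ≤ s'.inf id ⊔ maximalIdeal A ^ (N + 1) := by
    intro N
    have hmem : maximalIdeal A ∈ (maximalIdeal A ^ (N + 1)).minimalPrimes := by
      refine ⟨⟨inferInstance, Ideal.pow_le_self (Nat.succ_ne_zero N)⟩, ?_⟩
      rintro q ⟨hq, hle⟩ _
      exact hq.le_of_pow_le hle
    haveI : IsArtinianRing (A ⧸ maximalIdeal A ^ (N + 1)) :=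
      IsLocalRing.quotient_artinian_of_mem_minimalPrimes_of_isLocalRing _ hmem
    obtain ⟨I, ⟨s, hs, rfl⟩, hImin⟩ := IsArtinian.set_has_minimal
      {I : Ideal (A ⧸ maximalIdeal A ^ (N + 1)) | ∃ s : Finset (Ideal A),
        (∀ p ∈ s, IsDimOne p) ∧ I = (s.inf id).map (Ideal.Quotient.mk _)}
      ⟨_, ∅, by simp, rfl⟩
    refine ⟨s, hs, fun s' hs' hss' => ?_⟩
    have hle : (s'.inf id).map (Ideal.Quotient.mk (maximalIdeal A ^ (N + 1))) ≤
        (s.inf id).map (Ideal.Quotient.mk (maximalIdeal A ^ (N + 1))) :=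
      Ideal.map_mono (Finset.inf_mono hss')
    have heq : (s'.inf id).map (Ideal.Quotient.mk (maximalIdeal A ^ (N + 1))) =
        (s.inf id).map (Ideal.Quotient.mk (maximalIdeal A ^ (N + 1))) := by
      by_contra hne
      exact hImin _ ⟨s', hs', rfl⟩ (lt_of_le_of_ne hle hne)
    have h2 := congrArg (Ideal.comap (Ideal.Quotient.mk (maximalIdeal A ^ (N + 1)))) heq
    rw [Ideal.comap_map_of_surjective _ Ideal.Quotient.mk_surjective,
      Ideal.comap_map_of_surjective _ Ideal.Quotient.mk_surjective, ← RingHom.ker_eq_comap_bot,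
      Ideal.mk_ker] at h2
    calc s.inf id ≤ s.inf id ⊔ maximalIdeal A ^ (N + 1) := le_sup_left
      _ = s'.inf id ⊔ maximalIdeal A ^ (N + 1) := h2.symm
  choose s hs hsmin using hmin
  let t : ℕ → Finset (Ideal A) := fun N => (Finset.range (N + 1)).biUnion s
  have ht : ∀ N, ∀ p ∈ t N, IsDimOne p := by
    intro N p hp
    obtain ⟨i, -, hi⟩ := Finset.mem_biUnion.mp hp
    exact hs i p hi
  have hst : ∀ N, s N ⊆ t N := fun N =>
    Finset.subset_biUnion_of_mem s (Finset.mem_range.mpr (Nat.lt_succ_self N))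
  have htmono : ∀ N M, N ≤ M → t N ⊆ t M := by
    intro N M hNM
    exact Finset.biUnion_subset_biUnion_of_subset_left s
      (Finset.range_mono (Nat.succ_le_succ hNM))
  have hanti : Antitone (fun N => (t N).inf id) := fun N M hNM => Finset.inf_mono (htmono N M hNM)
  have hkey : ∀ (p : Ideal A), IsDimOne p → ∀ N, (t N).inf id ≤ p ⊔ maximalIdeal A ^ (N + 1) := by
    intro p hp N
    have h1 := hsmin N (insert p (t N)) (by
      intro q hq
      rcases Finset.mem_insert.mp hq with rfl | hq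
      · exact hp
      · exact ht N q hq) ((hst N).trans (Finset.subset_insert p (t N)))
    calc (t N).inf id ≤ (s N).inf id := Finset.inf_mono (hst N)
      _ ≤ (insert p (t N)).inf id ⊔ maximalIdeal A ^ (N + 1) := h1
      _ ≤ p ⊔ maximalIdeal A ^ (N + 1) :=
        sup_le_sup_right (Finset.inf_le (f := id) (Finset.mem_insert_self p (t N))) _
  have hinf : ⨅ N, (t N).inf id = ⊥ := by
    rw [eq_bot_iff]
    intro x hx
    rw [Ideal.mem_iInf] at hx
    by_contra hx0
    obtain ⟨p, hp, hxp⟩ := exists_isDimOne_not_mem hA (x := x) (by simpa using hx0)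
    apply hxp
    apply Groth.Agent.Lib.Helper29.Chevalley.mem_of_forall_mem_sup_pow
    intro k
    cases k with
    | zero => simp
    | succ k => exact hkey p hp k (hx k)
  obtain ⟨N, hN⟩ := Groth.Agent.Lib.Helper29.Chevalley.chevalley (fun N => (t N).inf id) hanti hinf n
  exact ⟨t N, ht N, hN⟩

/-- **Main statement.** -/
theorem main (hA : ¬ IsField A) (n : ℕ) :
    ∃ (k : ℕ) (V : Fin k → Type u) (_ : ∀ i, CommRing (V i)) (_ : ∀ i, IsDomain (V i))
      (_ : ∀ i, IsDiscreteValuationRing (V i)) (φ : ∀ i, A →+* V i),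
      (∀ i, IsLocalHom (φ i) ∧ (φ i).Finite) ∧
        ⨅ i, RingHom.ker (φ i) ≤ IsLocalRing.maximalIdeal A ^ n := by
  classical
  obtain ⟨s, hs, hsn⟩ := exists_finset_inf_le A hA n
  let e := s.equivFin
  have hex : ∀ i : Fin s.card, ∃ (V : Type u) (_ : CommRing V) (_ : IsDomain V)
      (_ : IsDiscreteValuationRing V) (φ : A →+* V), IsLocalHom φ ∧ φ.Finite ∧
        RingHom.ker φ = ((e.symm i : s) : Ideal A) := fun i =>
    exists_dvr_of_isDimOne A _ (hs _ (e.symm i).2)
  choose V hV1 hV2 hV3 φ hφ1 hφ2 hφ3 using hex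
  refine ⟨s.card, V, hV1, hV2, hV3, φ, fun i => ⟨hφ1 i, hφ2 i⟩, ?_⟩
  refine le_trans ?_ hsn
  rw [Finset.le_inf_iff]
  intro p hp
  have h1 : ⨅ i, RingHom.ker (φ i) ≤ RingHom.ker (φ (e ⟨p, hp⟩)) := iInf_le _ _
  rw [hφ3, Equiv.symm_apply_apply] at h1
  exact h1

end Step3

end Groth.Agent.Lib.T2H1.CompleteDVR
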