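import Mathlib
import Groth.Prelude.Def_AlgSpDec
import Groth.Agent.S10175
import Groth.Agent.S9908
import Groth.Agent.S9906

/-!
# Connected components of algebraic spaces and base change (helper1, team 2)

A morphism of sheaves which is open on points and whose fibres over field valued points are
connected induces a bijection on connected components of the spaces of points.
-/

set_option autoImplicit false
universe u
open CategoryTheory CategoryTheory.Limits AlgebraicGeometry
open AlgSp

namespace Groth.Agent.Lib.T2H1.ConnComp

variable {S : Scheme.{u}}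

/-- an open continuous map with connected fibres induces a bijection on connected components. -/
lemma bijective_of_open_connected_fibres {A B : Type*} [TopologicalSpace A] [TopologicalSpace B]
    {f : A → B} (hc : Continuous f) (ho : IsOpenMap f)
    (hfib : ∀ b, IsConnected (f ⁻¹' {b})) :
    Function.Bijective hc.connectedComponentsMap := by
  have hs : Function.Surjective f := fun b => by
    obtain ⟨a, ha⟩ := (hfib b).nonempty
    exact ⟨a, ha⟩
  exact (ho.isQuotientMap hc hs).isCoinducing.connectedComponentsMap_bijective hfib

/-- the image of the unique point of `Spec K` under a field valued point. -/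
lemma map_toHom_eq {B : AlgSp.Sp S} (p : AlgSp.FieldPt B)
    (z : AlgSp.Points ((AlgSp.yon S).obj p.pt)) :
    AlgSp.Points.map p.toHom z = AlgSp.Points.mk p := by
  obtain ⟨s, rfl⟩ := (AlgSp.Points.schemeEquiv p.pt).surjective z
  change AlgSp.Points.map p.toHom (AlgSp.Points.ofScheme p.pt s) = _
  rw [← AlgSp.Points.ofPt_eq_map_ofScheme]
  exact AlgSp.Points.ofPt_toHom p s

/-- **fibre criterion**: a morphism of sheaves, open on points, whose base changes to field
valued points have connected spaces of points, induces a bijection on connected components. -/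
theorem bijective_of_fibres {A B : AlgSp.Sp S} (f : A ⟶ B)
    (ho : IsOpenMap (AlgSp.Points.map f))
    (hfib : ∀ p : AlgSp.FieldPt B, ∃ (P : AlgSp.Sp S) (fst : P ⟶ A)
      (snd : P ⟶ (AlgSp.yon S).obj p.pt),
      IsPullback fst snd f p.toHom ∧ ConnectedSpace (AlgSp.Points P)) :
    Function.Bijective (AlgSp.Points.continuous_map f).connectedComponentsMap := by
  apply bijective_of_open_connected_fibres _ ho
  intro b
  induction b using AlgSp.Points.ind with | h p => ?_
  obtain ⟨P, fst, snd, sq, hconn⟩ := hfib p
  have heq : AlgSp.Points.map f ⁻¹' {AlgSp.Points.mk p} = Set.range (AlgSp.Points.map fst) := by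
    ext x
    constructor
    · intro hx
      have hx' : AlgSp.Points.map f x = AlgSp.Points.mk p := hx
      have z0 : AlgSp.Points ((AlgSp.yon S).obj p.pt) :=
        AlgSp.Points.ofScheme p.pt (default : Spec (CommRingCat.of p.K))
      obtain ⟨w, hw1, -⟩ := Groth.Agent.S10175.exists_point_of_isPullback sq x z0
        (by rw [hx', map_toHom_eq])
      exact ⟨w, hw1⟩
    · rintro ⟨w, rfl⟩
      show AlgSp.Points.map f (AlgSp.Points.map fst w) = AlgSp.Points.mk p
      rw [← AlgSp.Points.map_comp, sq.w, AlgSp.Points.map_comp, map_toHom_eq]
  rw [heq]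
  exact isConnected_range (AlgSp.Points.continuous_map fst)

/-- **base change of a geometrically connected universally open morphism of schemes**: any base
change (in sheaves) of `h_g`, for `g` universally open and geometrically connected, induces a
bijection on connected components of the spaces of points. -/
theorem bijective_of_isPullback_yon {B' B : Over S} (g : B' ⟶ B) [UniversallyOpen g.left]
    [GeometricallyConnected g.left] {A C : AlgSp.Sp S} (f : A ⟶ C)
    (a : A ⟶ (AlgSp.yon S).obj B') (c : C ⟶ (AlgSp.yon S).obj B)
    (sq : IsPullback a f ((AlgSp.yon S).map g) c) :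
    Function.Bijective (AlgSp.Points.continuous_map f).connectedComponentsMap := by
  apply bijective_of_fibres
  · apply Groth.Agent.S9908.isOpenMap_map_of_repWith
    exact MorphismProperty.of_isPullback (P := AlgSp.RepWith @UniversallyOpen) sq
      ((AlgSp.repWith_yon_map_iff @UniversallyOpen g).2 inferInstance)
  · intro p
    obtain ⟨y, hy⟩ := (AlgSp.yon S).map_surjective (p.toHom ≫ c)
    let WO : Over S := Over.mk (pullback.fst y.left g.left ≫ p.pt.hom)
    let w1 : WO ⟶ p.pt := Over.homMk (pullback.fst y.left g.left) rfl
    let w2 : WO ⟶ B' := Over.homMk (pullback.snd y.left g.left) (by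
      show pullback.snd y.left g.left ≫ B'.hom = pullback.fst y.left g.left ≫ p.pt.hom
      rw [← Over.w g, ← Category.assoc, ← pullback.condition, Category.assoc, Over.w y])
    have sqO : IsPullback w1 w2 y g :=
      IsPullback.of_map (Over.forget S) (by ext; exact pullback.condition)
        (IsPullback.of_hasPullback y.left g.left)
    have sqY := sqO.map (AlgSp.yon S)
    rw [hy] at sqY
    have hcomm : (AlgSp.yon S).map w2 ≫ (AlgSp.yon S).map g =
        ((AlgSp.yon S).map w1 ≫ p.toHom) ≫ c := by
      rw [Category.assoc, ← sqY.w]
    refine ⟨(AlgSp.yon S).obj WO, sq.lift ((AlgSp.yon S).map w2) ((AlgSp.yon S).map w1 ≫ p.toHom)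
      hcomm, (AlgSp.yon S).map w1, ?_, ?_⟩
    · refine IsPullback.of_right ?_ (sq.lift_snd _ _ _) sq
      rw [sq.lift_fst]
      exact sqY.flip
    · haveI : ConnectedSpace ↥WO.left :=
        pullback_of_geometrically' (P := (ConnectedSpace ·))
          (GeometricallyConnected.geometrically_connectedSpace (f := g.left)) p.K y.left
      exact (AlgSp.Points.schemeHomeo WO).surjective.connectedSpace
        (AlgSp.Points.schemeHomeo WO).continuous

/-- connectedness in terms of the set of connected components. -/
lemma connectedSpace_iff_connectedComponents (A : Type*) [TopologicalSpace A] :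
    ConnectedSpace A ↔ Nonempty (ConnectedComponents A) ∧ Subsingleton (ConnectedComponents A) := by
  constructor
  · intro h
    refine ⟨⟨ConnectedComponents.mk (Classical.arbitrary A)⟩, ⟨fun a b => ?_⟩⟩
    obtain ⟨x, rfl⟩ := ConnectedComponents.surjective_coe a
    obtain ⟨y, rfl⟩ := ConnectedComponents.surjective_coe b
    rw [ConnectedComponents.coe_eq_coe, PreconnectedSpace.connectedComponent_eq_univ,
      PreconnectedSpace.connectedComponent_eq_univ]
  · rintro ⟨⟨a⟩, hs⟩
    obtain ⟨x, rfl⟩ := ConnectedComponents.surjective_coe a
    rw [connectedSpace_iff_connectedComponent]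
    refine ⟨x, Set.eq_univ_of_forall fun y => ?_⟩
    have h1 : (ConnectedComponents.mk y) = ConnectedComponents.mk x := Subsingleton.elim _ _
    rw [ConnectedComponents.coe_eq_coe] at h1
    rw [← h1]
    exact mem_connectedComponent

/-- connectedness transfers along a continuous map inducing a bijection on connected
components. -/
lemma connectedSpace_iff_of_bijective {A B : Type*} [TopologicalSpace A] [TopologicalSpace B]
    {f : A → B} (hc : Continuous f) (hb : Function.Bijective hc.connectedComponentsMap) :
    ConnectedSpace A ↔ ConnectedSpace B := by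
  rw [connectedSpace_iff_connectedComponents, connectedSpace_iff_connectedComponents]
  let e := Equiv.ofBijective _ hb
  exact ⟨fun ⟨h1, h2⟩ => ⟨h1.map e, e.symm.subsingleton⟩,
    fun ⟨h1, h2⟩ => ⟨h1.map e.symm, e.subsingleton⟩⟩

/-- the terminal sheaf over `S`. -/
noncomputable def isTerminal_yon_mkId (S : Scheme.{u}) :
    IsTerminal ((AlgSp.yon S).obj (Over.mk (𝟙 S))) :=
  IsTerminal.isTerminalObj (AlgSp.yon S) _ Over.mkIdTerminal

/-- a product of sheaves over `S` is the fibre product over the terminal sheaf. -/
lemma isPullback_prod (A B : AlgSp.Sp S) :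
    IsPullback (prod.fst : A ⨯ B ⟶ A) prod.snd ((isTerminal_yon_mkId S).from _)
      ((isTerminal_yon_mkId S).from _) :=
  IsPullback.of_is_product' (prodIsProd _ _) (isTerminal_yon_mkId S)

/-- `X × A ⟶ X × B` is the base change of `A ⟶ B` along the projection. -/
lemma isPullback_prod_map (X : AlgSp.Sp S) {A B : AlgSp.Sp S} (q : A ⟶ B) :
    IsPullback (prod.map (𝟙 X) q) prod.snd prod.snd q := by
  refine IsPullback.of_right ?_ (prod.map_snd _ _) (isPullback_prod X B)
  rw [prod.map_fst, Category.comp_id,
    (isTerminal_yon_mkId S).hom_ext (q ≫ (isTerminal_yon_mkId S).from B)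
      ((isTerminal_yon_mkId S).from _)]
  exact isPullback_prod _ _

/-- a representable surjective morphism of sheaves with connected source has connected target. -/
lemma connectedSpace_of_repWith_surjective {A B : AlgSp.Sp S} (f : A ⟶ B)
    (hf : AlgSp.RepWith @Surjective f) [ConnectedSpace (AlgSp.Points A)] :
    ConnectedSpace (AlgSp.Points B) :=
  (Groth.Agent.S9906.surjective_map_of_repWith f hf).connectedSpace
    (AlgSp.Points.continuous_map f)

/-- a common extension field of two extensions of `k` -/
theorem exists_common_ext (k : Type u) [Field k] (K Ω : Type u) [Field K] [Algebra k K] [Field Ω]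
    [Algebra k Ω] :
    ∃ (L : Type u) (_ : Field L) (_ : Algebra k L) (_ : Algebra K L) (_ : Algebra Ω L),
      IsScalarTower k K L ∧ IsScalarTower k Ω L := by
  haveI : Nontrivial (TensorProduct k K Ω) := inferInstance
  obtain ⟨m, hm⟩ := Ideal.exists_maximal (TensorProduct k K Ω)
  letI : Field ((TensorProduct k K Ω) ⧸ m) := Ideal.Quotient.field m
  letI iK : Algebra K ((TensorProduct k K Ω) ⧸ m) := ((Ideal.Quotient.mk m).comp
    (Algebra.TensorProduct.includeLeft (R := k) (S := k) (A := K) (B := Ω)).toRingHom).toAlgebra
  letI iΩ : Algebra Ω ((TensorProduct k K Ω) ⧸ m) := ((Ideal.Quotient.mk m).comp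
    (Algebra.TensorProduct.includeRight (R := k) (A := K) (B := Ω)).toRingHom).toAlgebra
  refine ⟨(TensorProduct k K Ω) ⧸ m, inferInstance, inferInstance, iK, iΩ, ?_, ?_⟩
  · apply IsScalarTower.of_algebraMap_eq
    intro x
    change Ideal.Quotient.mk m (algebraMap k (TensorProduct k K Ω) x) =
      Ideal.Quotient.mk m (TensorProduct.tmul k (algebraMap k K x) 1)
    rw [Algebra.TensorProduct.algebraMap_apply]
  · apply IsScalarTower.of_algebraMap_eq
    intro x
    change Ideal.Quotient.mk m (algebraMap k (TensorProduct k K Ω) x) =
      Ideal.Quotient.mk m (TensorProduct.tmul k 1 (algebraMap k Ω x))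
    rw [Algebra.TensorProduct.algebraMap_apply, Algebra.algebraMap_eq_smul_one,
      Algebra.algebraMap_eq_smul_one, TensorProduct.smul_tmul]

end Groth.Agent.Lib.T2H1.ConnComp
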