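import Mathlib

set_option autoImplicit false
universe u

namespace Groth.Agent.Lib.T2H1.Copr

/-- A presented algebra: a quotient of a polynomial ring in finitely many variables. -/
structure Pres (R : Type u) [CommRing R] where
  n : ℕ
  I : Ideal (MvPolynomial (Fin n) R)

variable {R : Type u} [CommRing R]

/-- The algebra of a presentation. -/
abbrev Pres.Alg (p : Pres R) : Type u := MvPolynomial (Fin p.n) R ⧸ p.I

section copr

variable {ι : Type u} (p : ι → Pres R)

/-- The inclusion of the `i`-th block of variables. -/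
def sig (i : ι) : Fin (p i).n → Σ i, Fin (p i).n := fun k => ⟨i, k⟩

theorem sig_injective (i : ι) : Function.Injective (sig p i) := by
  intro k l h
  simpa [sig] using h

/-- The inclusion of the `i`-th polynomial ring. -/
noncomputable def ren (i : ι) :
    MvPolynomial (Fin (p i).n) R →ₐ[R] MvPolynomial (Σ i, Fin (p i).n) R :=
  MvPolynomial.rename (sig p i)

theorem ren_X (i : ι) (k : Fin (p i).n) : ren p i (MvPolynomial.X k) = MvPolynomial.X ⟨i, k⟩ :=
  MvPolynomial.rename_X _ _

/-- The ideal of relations of the coproduct. -/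
noncomputable def coprIdeal : Ideal (MvPolynomial (Σ i, Fin (p i).n) R) :=
  ⨆ i, ((p i).I).map (ren p i)

theorem map_le_coprIdeal (i : ι) : ((p i).I).map (ren p i) ≤ coprIdeal p :=
  le_iSup (fun i => ((p i).I).map (ren p i)) i

/-- The coproduct of a family of presented algebras. -/
abbrev Copr : Type u := MvPolynomial (Σ i, Fin (p i).n) R ⧸ coprIdeal p

/-- The coprojection. -/
noncomputable def inc (i : ι) : (p i).Alg →ₐ[R] Copr p :=
  Ideal.Quotient.liftₐ (p i).I
    ((Ideal.Quotient.mkₐ R (coprIdeal p)).comp (ren p i)) (by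
      intro x hx
      show Ideal.Quotient.mk _ (ren p i x) = 0
      rw [Ideal.Quotient.eq_zero_iff_mem]
      exact map_le_coprIdeal p i (Ideal.mem_map_of_mem _ hx))

theorem inc_mk (i : ι) (x : MvPolynomial (Fin (p i).n) R) :
    inc p i (Ideal.Quotient.mk _ x) = Ideal.Quotient.mk _ (ren p i x) := rfl

variable {p}

/-- The evaluation map underlying the universal property. -/
noncomputable def descAux {T : Type*} [CommRing T] [Algebra R T] (φ : ∀ i, (p i).Alg →ₐ[R] T) :
    MvPolynomial (Σ i, Fin (p i).n) R →ₐ[R] T :=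
  MvPolynomial.aeval fun x : Σ i, Fin (p i).n => φ x.1 (Ideal.Quotient.mk _ (MvPolynomial.X x.2))

theorem descAux_comp_ren {T : Type*} [CommRing T] [Algebra R T] (φ : ∀ i, (p i).Alg →ₐ[R] T)
    (i : ι) : (descAux φ).comp (ren p i) = (φ i).comp (Ideal.Quotient.mkₐ R (p i).I) := by
  apply MvPolynomial.algHom_ext
  intro k
  show descAux φ (ren p i (MvPolynomial.X k)) = _
  rw [ren_X, descAux, MvPolynomial.aeval_X]
  rfl

theorem descAux_mem {T : Type*} [CommRing T] [Algebra R T] (φ : ∀ i, (p i).Alg →ₐ[R] T) :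
    ∀ a ∈ coprIdeal p, descAux φ a = 0 := by
  have hle : coprIdeal p ≤ RingHom.ker (descAux φ).toRingHom := by
    refine iSup_le fun i => ?_
    rw [Ideal.map_le_iff_le_comap]
    intro x hx
    show descAux φ (ren p i x) = 0
    have h1 := congr($(descAux_comp_ren φ i) x)
    rw [AlgHom.comp_apply] at h1
    rw [h1, AlgHom.comp_apply]
    have : Ideal.Quotient.mkₐ R (p i).I x = 0 := Ideal.Quotient.eq_zero_iff_mem.mpr hx
    rw [this, map_zero]
  exact fun a ha => hle ha

/-- The universal property. -/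
noncomputable def desc {T : Type*} [CommRing T] [Algebra R T] (φ : ∀ i, (p i).Alg →ₐ[R] T) :
    Copr p →ₐ[R] T :=
  Ideal.Quotient.liftₐ (coprIdeal p) (descAux φ) (descAux_mem φ)

theorem desc_mk {T : Type*} [CommRing T] [Algebra R T] (φ : ∀ i, (p i).Alg →ₐ[R] T)
    (x : MvPolynomial (Σ i, Fin (p i).n) R) :
    desc φ (Ideal.Quotient.mk _ x) = descAux φ x := rfl

theorem hom_ext {T : Type*} [CommRing T] [Algebra R T] {f g : Copr p →ₐ[R] T}
    (h : ∀ i, f.comp (inc p i) = g.comp (inc p i)) : f = g := by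
  apply Ideal.Quotient.algHom_ext
  apply MvPolynomial.algHom_ext
  rintro ⟨i, k⟩
  have := congr($(h i) (Ideal.Quotient.mk _ (MvPolynomial.X k)))
  simp only [AlgHom.comp_apply, inc_mk, ren_X] at this
  exact this

theorem desc_comp_inc {T : Type*} [CommRing T] [Algebra R T] (φ : ∀ i, (p i).Alg →ₐ[R] T)
    (i : ι) : (desc φ).comp (inc p i) = φ i := by
  apply Ideal.Quotient.algHom_ext
  apply MvPolynomial.algHom_ext
  intro k
  show desc φ (inc p i (Ideal.Quotient.mk _ (MvPolynomial.X k))) = _
  rw [inc_mk, ren_X, desc_mk, descAux, MvPolynomial.aeval_X]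
  rfl

end copr

section etale

variable {ι : Type u} {p : ι → Pres R}

theorem formallyEtale [∀ i, Algebra.FormallyEtale R (p i).Alg] :
    Algebra.FormallyEtale R (Copr p) := by
  rw [Algebra.FormallyEtale.iff_comp_bijective]
  intro B _ _ I hI
  constructor
  · intro g₁ g₂ h
    apply hom_ext
    intro i
    apply (Algebra.FormallyEtale.iff_comp_bijective.mp
      (inferInstance : Algebra.FormallyEtale R (p i).Alg) I hI).1
    show (Ideal.Quotient.mkₐ R I).comp (g₁.comp (inc p i)) =
      (Ideal.Quotient.mkₐ R I).comp (g₂.comp (inc p i))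
    have h' : (Ideal.Quotient.mkₐ R I).comp g₁ = (Ideal.Quotient.mkₐ R I).comp g₂ := h
    rw [← AlgHom.comp_assoc, ← AlgHom.comp_assoc, h']
  · intro gb
    choose h hh using fun i => (Algebra.FormallyEtale.iff_comp_bijective.mp
      (inferInstance : Algebra.FormallyEtale R (p i).Alg) I hI).2 (gb.comp (inc p i))
    refine ⟨desc h, ?_⟩
    apply hom_ext
    intro i
    show ((Ideal.Quotient.mkₐ R I).comp (desc h)).comp (inc p i) = gb.comp (inc p i)
    rw [AlgHom.comp_assoc, desc_comp_inc]
    exact hh i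

theorem ideal_fg (q : Pres R) [Algebra.FinitePresentation R q.Alg] : (q.I).FG := by
  have := Algebra.FinitePresentation.ker_fG_of_surjective (Ideal.Quotient.mkₐ R q.I)
    (Ideal.Quotient.mkₐ_surjective R q.I)
  have h2 : RingHom.ker (Ideal.Quotient.mkₐ R q.I).toRingHom = q.I := Ideal.mk_ker
  rwa [h2] at this

theorem finitePresentation [Finite ι] [∀ i, Algebra.FinitePresentation R (p i).Alg] :
    Algebra.FinitePresentation R (Copr p) := by
  apply Algebra.FinitePresentation.quotient
  unfold coprIdeal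
  exact Submodule.fg_iSup _ (fun i => (ideal_fg (p i)).map _)

theorem etale [Finite ι] [∀ i, Algebra.Etale R (p i).Alg] : Algebra.Etale R (Copr p) := by
  haveI := formallyEtale (p := p)
  haveI := finitePresentation (p := p)
  exact { }

end etale

section functoriality

variable {ι κ : Type u} (p : ι → Pres R) (f : κ → ι)

/-- Reindexing the variables. -/
def sigMap (x : Σ k, Fin (p (f k)).n) : Σ i, Fin (p i).n := ⟨f x.1, x.2⟩

theorem sigMap_injective (hf : Function.Injective f) : Function.Injective (sigMap p f) := by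
  rintro ⟨k, l⟩ ⟨k', l'⟩ h
  simp only [sigMap, Sigma.mk.injEq] at h
  obtain ⟨h1, h2⟩ := h
  obtain rfl := hf h1
  simpa using h2

/-- Functoriality of the coproduct in the index set. -/
noncomputable def mapIdx : Copr (fun k => p (f k)) →ₐ[R] Copr p :=
  desc (fun k => inc p (f k))

theorem mapIdx_comp_inc (k : κ) :
    (mapIdx p f).comp (inc (fun k => p (f k)) k) = inc p (f k) :=
  desc_comp_inc _ k

theorem mapIdx_mk (q : MvPolynomial (Σ k, Fin (p (f k)).n) R) :
    mapIdx p f (Ideal.Quotient.mk _ q) =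
      Ideal.Quotient.mk _ (MvPolynomial.rename (sigMap p f) q) := by
  have : (mapIdx p f).comp (Ideal.Quotient.mkₐ R _) =
      (Ideal.Quotient.mkₐ R (coprIdeal p)).comp (MvPolynomial.rename (sigMap p f)) := by
    apply MvPolynomial.algHom_ext
    rintro ⟨k, l⟩
    have h1 : ((mapIdx p f).comp (Ideal.Quotient.mkₐ R _)) (MvPolynomial.X ⟨k, l⟩) =
        mapIdx p f (Ideal.Quotient.mk _ (MvPolynomial.X ⟨k, l⟩)) := rfl
    have h2 : ((Ideal.Quotient.mkₐ R (coprIdeal p)).comp (MvPolynomial.rename (sigMap p f)))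
        (MvPolynomial.X ⟨k, l⟩) =
        Ideal.Quotient.mk _ (MvPolynomial.rename (sigMap p f) (MvPolynomial.X ⟨k, l⟩)) := rfl
    rw [h1, h2, mapIdx, desc_mk, descAux, MvPolynomial.aeval_X, MvPolynomial.rename_X, inc_mk, ren_X]
    rfl
  exact congr($this q)

end functoriality

end Groth.Agent.Lib.T2H1.Copr
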