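import Mathlib
import Groth.Prelude.Def_PBC
import Groth.Agent.Lib.T2H1Copr
import Groth.Agent.Lib.Helper3IndEtFP

set_option autoImplicit false
universe u

namespace Groth.Agent.Lib.T2H1.Copr

open Groth.Agent.Lib.Helper3.IndEt

section directed

variable {R : Type u} [CommRing R] {ι : Type u} (p : ι → Pres R)

/-- The restriction of the family to a finite set of indices. -/
abbrev pF (F : Finset ι) : ↥F → Pres R := fun i => p i.1

/-- Transition maps of the directed system of finite coproducts. -/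
noncomputable def tau (F F' : Finset ι) (h : F ≤ F') : Copr (pF p F) →ₐ[R] Copr (pF p F') :=
  mapIdx (pF p F') (fun i : ↥F => (⟨i.1, h i.2⟩ : ↥F'))

/-- The maps to the full coproduct. -/
noncomputable def theta (F : Finset ι) : Copr (pF p F) →ₐ[R] Copr p :=
  mapIdx p (fun i : ↥F => i.1)

theorem theta_comp_tau (F F' : Finset ι) (h : F ≤ F') :
    (theta p F').comp (tau p F F' h) = theta p F := by
  apply hom_ext
  intro i
  rw [AlgHom.comp_assoc]
  unfold tau theta
  rw [mapIdx_comp_inc, mapIdx_comp_inc, mapIdx_comp_inc]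

theorem tau_comp_tau (F F' F'' : Finset ι) (h : F ≤ F') (h' : F' ≤ F'') :
    (tau p F' F'' h').comp (tau p F F' h) = tau p F F'' (h.trans h') := by
  apply hom_ext
  intro i
  rw [AlgHom.comp_assoc]
  unfold tau
  rw [mapIdx_comp_inc, mapIdx_comp_inc, mapIdx_comp_inc]

theorem theta_surj (x : Copr p) : ∃ (F : Finset ι) (y : Copr (pF p F)), theta p F y = x := by
  classical
  obtain ⟨q, rfl⟩ := Ideal.Quotient.mk_surjective x
  let F : Finset ι := q.vars.image Sigma.fst
  have hrange : (q.vars : Set (Σ i, Fin (p i).n)) ⊆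
      Set.range (sigMap p (fun i : ↥F => i.1)) := by
    intro x hx
    have hxF : x.1 ∈ F := Finset.mem_image_of_mem _ hx
    exact ⟨⟨⟨x.1, hxF⟩, x.2⟩, rfl⟩
  obtain ⟨q', hq'⟩ := MvPolynomial.exists_rename_eq_of_vars_subset_range q
    (sigMap p (fun i : ↥F => i.1)) (sigMap_injective p _ Subtype.val_injective) hrange
  refine ⟨F, Ideal.Quotient.mk _ q', ?_⟩
  unfold theta
  rw [mapIdx_mk, hq']

theorem theta_inj (F : Finset ι) (y : Copr (pF p F)) (hy : theta p F y = 0) :
    ∃ (F' : Finset ι) (h : F ≤ F'), tau p F F' h y = 0 := by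
  classical
  obtain ⟨q, rfl⟩ := Ideal.Quotient.mk_surjective y
  unfold theta at hy
  rw [mapIdx_mk, Ideal.Quotient.eq_zero_iff_mem] at hy
  unfold coprIdeal at hy
  obtain ⟨s, hs⟩ := Submodule.mem_iSup_iff_exists_finset.mp hy
  refine ⟨F ∪ s, Finset.subset_union_left, ?_⟩
  unfold tau
  rw [mapIdx_mk, Ideal.Quotient.eq_zero_iff_mem]
  set σ' := sigMap p (fun i : ↥(F ∪ s) => i.1) with hσ'
  have hσ'inj : Function.Injective σ' := sigMap_injective p _ Subtype.val_injective
  set q'' := MvPolynomial.rename (sigMap (pF p (F ∪ s))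
    (fun i : ↥F => (⟨i.1, Finset.subset_union_left i.2⟩ : ↥(F ∪ s)))) q with hq''
  have h1 : MvPolynomial.rename σ' q'' =
      MvPolynomial.rename (sigMap p (fun i : ↥F => i.1)) q := by
    rw [hq'', MvPolynomial.rename_rename]
    rfl
  have h2 : (⨆ i ∈ s, ((p i).I).map (ren p i)) ≤
      (coprIdeal (pF p (F ∪ s))).map (MvPolynomial.rename σ' :
        MvPolynomial (Σ i : ↥(F ∪ s), Fin (p i.1).n) R →ₐ[R] _) := by
    refine iSup₂_le fun i hi => ?_
    have hi' : i ∈ F ∪ s := Finset.mem_union_right F hi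
    have h3 : ren p i = (MvPolynomial.rename σ' :
        MvPolynomial (Σ i : ↥(F ∪ s), Fin (p i.1).n) R →ₐ[R] _).comp
        (ren (pF p (F ∪ s)) ⟨i, hi'⟩) := by
      apply MvPolynomial.algHom_ext
      intro k
      show ren p i (MvPolynomial.X k) = MvPolynomial.rename σ' (ren (pF p (F ∪ s)) ⟨i, hi'⟩
        (MvPolynomial.X k))
      rw [ren_X, ren_X, MvPolynomial.rename_X]
      rfl
    rw [Ideal.map_le_iff_le_comap]
    intro x hx
    rw [Ideal.mem_comap, h3, AlgHom.comp_apply]
    exact Ideal.mem_map_of_mem _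
      (map_le_coprIdeal (pF p (F ∪ s)) ⟨i, hi'⟩ (Ideal.mem_map_of_mem _ hx))
  have h4 : MvPolynomial.rename σ' q'' ∈ (coprIdeal (pF p (F ∪ s))).map
      (MvPolynomial.rename σ' : MvPolynomial (Σ i : ↥(F ∪ s), Fin (p i.1).n) R →ₐ[R] _) := by
    rw [h1]
    exact h2 hs
  have h5 : (coprIdeal (pF p (F ∪ s))).map
      (MvPolynomial.rename σ' : MvPolynomial (Σ i : ↥(F ∪ s), Fin (p i.1).n) R →ₐ[R] _) ≤
      (coprIdeal (pF p (F ∪ s))).comap (MvPolynomial.killCompl hσ'inj) := by
    rw [Ideal.map_le_iff_le_comap]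
    intro x hx
    rw [Ideal.mem_comap, Ideal.mem_comap, MvPolynomial.killCompl_rename_app]
    exact hx
  have h6 := h5 h4
  rw [Ideal.mem_comap, MvPolynomial.killCompl_rename_app] at h6
  exact h6

/-- Every map from a finitely presented algebra to the coproduct factors through a finite
sub-coproduct. -/
theorem exists_factor_finset {P : Type u} [CommRing P] [Algebra R P]
    [Algebra.FinitePresentation R P] (ψ : P →ₐ[R] Copr p) :
    ∃ (F : Finset ι) (ψF : P →ₐ[R] Copr (pF p F)), (theta p F).comp ψF = ψ := by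
  classical
  haveI : Nonempty (Finset ι) := ⟨∅⟩
  exact exists_factor_of_directed (K := Finset ι) (fun F => Copr (pF p F))
    (fun F F' h => tau p F F' h) (fun F => theta p F)
    (fun F F' h x => congr($(theta_comp_tau p F F' h) x))
    (fun F F' F'' h h' x => congr($(tau_comp_tau p F F' F'' h h') x))
    (theta_surj p) (theta_inj p) ψ

theorem factor [∀ i, Algebra.Etale R (p i).Alg] : Obj.Factor R (Copr p) := by
  intro P _ _ _ ψ
  obtain ⟨F, ψF, h⟩ := exists_factor_finset p ψ
  exact ⟨Copr (pF p F), inferInstance, inferInstance, etale, ψF, theta p F, h⟩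

theorem isIndEtale [∀ i, Algebra.Etale R (p i).Alg] : EtPBC.IsIndEtale R (Copr p) :=
  isIndEtale_of_factor (factor p)

end directed

end Groth.Agent.Lib.T2H1.Copr
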