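import Mathlib
import Groth.Prelude.Def_PBC
import Groth.Agent.Lib.T2H1CoprInd
import Groth.Agent.Lib.Helper3IndEtFlat

set_option autoImplicit false
universe u

open TensorProduct

namespace Groth.Agent.Lib.T2H1.Copr

open Groth.Agent.Lib.Helper3.IndEt

variable {R : Type u} [CommRing R]

theorem exists_algHom_of_finiteType (k L : Type u) [Field k] [Field L] [Algebra k L]
    [Algebra.FiniteType k L] : Nonempty (L →ₐ[k] AlgebraicClosure k) := by
  haveI : Module.Finite k L := finite_of_finite_type_of_isJacobsonRing k L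
  haveI : Algebra.IsAlgebraic k L := Algebra.IsAlgebraic.of_finite k L
  exact ⟨IsAlgClosed.lift⟩

/-- A finite type algebra with a point over `𝔭` maps to the algebraic closure of `κ(𝔭)`. -/
theorem exists_algHom_algClosure (B : Type u) [CommRing B] [Algebra R B] [Algebra.FiniteType R B]
    (𝔭 : PrimeSpectrum R) (h𝔭 : 𝔭 ∈ Set.range (PrimeSpectrum.comap (algebraMap R B))) :
    Nonempty (B →ₐ[R] AlgebraicClosure 𝔭.asIdeal.ResidueField) := by
  haveI : Nontrivial (𝔭.asIdeal.ResidueField ⊗[R] B) :=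
    (PrimeSpectrum.nontrivial_iff_mem_rangeComap 𝔭).mpr h𝔭
  obtain ⟨m, hm⟩ := Ideal.exists_maximal (𝔭.asIdeal.ResidueField ⊗[R] B)
  letI : Field ((𝔭.asIdeal.ResidueField ⊗[R] B) ⧸ m) := Ideal.Quotient.field m
  obtain ⟨φ⟩ := exists_algHom_of_finiteType 𝔭.asIdeal.ResidueField
    ((𝔭.asIdeal.ResidueField ⊗[R] B) ⧸ m)
  exact ⟨((φ.restrictScalars R).comp (Ideal.Quotient.mkₐ R m)).comp
    (Algebra.TensorProduct.includeRight)⟩

theorem comap_surjective {ι : Type u} (p : ι → Pres R)
    [∀ i, Algebra.FiniteType R (p i).Alg]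
    (h : ∀ i, Function.Surjective (PrimeSpectrum.comap (algebraMap R (p i).Alg))) :
    Function.Surjective (PrimeSpectrum.comap (algebraMap R (Copr p))) := by
  intro 𝔭
  have hne := fun i => exists_algHom_algClosure (p i).Alg 𝔭 (h i 𝔭)
  let φ := fun i => (hne i).some
  let Φ : Copr p →ₐ[R] AlgebraicClosure 𝔭.asIdeal.ResidueField := desc φ
  refine ⟨⟨RingHom.ker Φ.toRingHom, RingHom.ker_isPrime _⟩, ?_⟩
  apply PrimeSpectrum.ext
  ext a
  show Φ (algebraMap R (Copr p) a) = 0 ↔ a ∈ 𝔭.asIdeal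
  rw [Φ.commutes, IsScalarTower.algebraMap_apply R 𝔭.asIdeal.ResidueField
    (AlgebraicClosure 𝔭.asIdeal.ResidueField)]
  rw [map_eq_zero_iff (algebraMap 𝔭.asIdeal.ResidueField (AlgebraicClosure 𝔭.asIdeal.ResidueField))
    (algebraMap 𝔭.asIdeal.ResidueField (AlgebraicClosure 𝔭.asIdeal.ResidueField)).injective,
    Ideal.algebraMap_residueField_eq_zero]

theorem faithfullyFlat {ι : Type u} (p : ι → Pres R)
    [∀ i, Algebra.Etale R (p i).Alg] [∀ i, Module.FaithfullyFlat R (p i).Alg] :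
    Module.FaithfullyFlat R (Copr p) := by
  haveI : Module.Flat R (Copr p) := flat_of_factor' (factor p)
  exact Module.FaithfullyFlat.of_comap_surjective
    (comap_surjective p fun i => PrimeSpectrum.comap_surjective_of_faithfullyFlat)

end Groth.Agent.Lib.T2H1.Copr
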