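import Groth.Agent.Lib.T2H1Coprod
import Groth.Agent.Lib.Helper9SpQuot

/-!
# Universality of coproducts of fppf sheaves
-/

set_option autoImplicit false
universe u
open CategoryTheory CategoryTheory.Limits AlgebraicGeometry Opposite
open AlgSp

namespace Groth.Agent.Lib.T2H1.Coprod

open Groth.Agent.S13210 Groth.Agent.S9878 Groth.Agent.S9900 Groth.Agent.Lib.Helper1.Sig
  Groth.Agent.Lib.Helper12.ZarGlue Groth.Agent.Lib.Helper12.MonoFactor

variable {S : Scheme.{u}}

/-- maps out of `h_T` to a sheaf agreeing Zariski locally agree. -/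
lemma hom_ext_of_openCover {G : AlgSp.Sp S} {T : Over S} (a b : (AlgSp.yon S).obj T ⟶ G)
    (h : ∀ t : T.left, ∃ O : T.left.Opens, t ∈ O ∧
      (AlgSp.yon S).map (Over.homMk O.ι rfl : Over.mk (O.ι ≫ T.hom) ⟶ T) ≫ a =
        (AlgSp.yon S).map (Over.homMk O.ι rfl : Over.mk (O.ι ≫ T.hom) ⟶ T) ≫ b) : a = b := by
  obtain ⟨d, hd⟩ := exists_factor_of_openCover (equalizer.ι a b) (𝟙 _) (fun t => by
    obtain ⟨O, hO, hab⟩ := h t
    exact ⟨O, hO, equalizer.lift _ hab, by rw [equalizer.lift_ι, Category.comp_id]⟩)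
  have := equalizer.condition a b
  calc a = (d ≫ equalizer.ι a b) ≫ a := by rw [hd, Category.id_comp]
    _ = (d ≫ equalizer.ι a b) ≫ b := by rw [Category.assoc, this, Category.assoc]
    _ = b := by rw [hd, Category.id_comp]

section Universal

variable {ι : Type u} {F : ι → AlgSp.Sp S} (c : Cofan F) (hc : IsColimit c)

include hc in
/-- **coproducts of fppf sheaves are universal**: the comparison map from a coproduct of the
base changes of the summands is an isomorphism. -/
theorem isIso_desc_of_isPullback {Q : AlgSp.Sp S} (q : Q ⟶ c.pt) {Qi : ι → AlgSp.Sp S}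
    (k : ∀ i, Qi i ⟶ Q) (r : ∀ i, Qi i ⟶ F i) (sq : ∀ i, IsPullback (k i) (r i) q (c.inj i))
    (c' : Cofan Qi) (hc' : IsColimit c') (D : c'.pt ⟶ Q) (hD : ∀ i, c'.inj i ≫ D = k i) :
    IsIso D := by
  haveI hk : ∀ i, Mono (k i) := fun i => by
    haveI := mono_inj c hc i
    exact PullbackCone.mono_fst_of_is_pullback_of_mono (sq i).isLimit
  have key : ∀ (T : Over S) (a b : (AlgSp.yon S).obj T ⟶ c'.pt), a ≫ D = b ≫ D → a = b := by
    intro T a b hab
    obtain ⟨Wa, -, hcova, hWa⟩ := exists_clopen_decomposition c' hc' a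
    obtain ⟨Wb, -, hcovb, hWb⟩ := exists_clopen_decomposition c' hc' b
    choose α sqa using hWa
    choose β sqb using hWb
    refine hom_ext_of_openCover a b (fun t => ?_)
    have hta : t ∈ ⨆ j, Wa j := by rw [hcova]; trivial
    have htb : t ∈ ⨆ j, Wb j := by rw [hcovb]; trivial
    obtain ⟨i, hi⟩ := TopologicalSpace.Opens.mem_iSup.1 hta
    obtain ⟨j, hj⟩ := TopologicalSpace.Opens.mem_iSup.1 htb
    refine ⟨Wa i ⊓ Wb j, ⟨hi, hj⟩, ?_⟩
    let ra : Over.mk ((Wa i ⊓ Wb j).ι ≫ T.hom) ⟶ Over.mk ((Wa i).ι ≫ T.hom) :=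
      Over.homMk (T.left.homOfLE (inf_le_left : Wa i ⊓ Wb j ≤ Wa i)) (by simp)
    let rb : Over.mk ((Wa i ⊓ Wb j).ι ≫ T.hom) ⟶ Over.mk ((Wb j).ι ≫ T.hom) :=
      Over.homMk (T.left.homOfLE (inf_le_right : Wa i ⊓ Wb j ≤ Wb j)) (by simp)
    have hra : ra ≫ (Over.homMk (Wa i).ι rfl : Over.mk ((Wa i).ι ≫ T.hom) ⟶ T) =
        Over.homMk (Wa i ⊓ Wb j).ι rfl := by
      ext1
      simp [ra]
    have hrb : rb ≫ (Over.homMk (Wb j).ι rfl : Over.mk ((Wb j).ι ≫ T.hom) ⟶ T) =
        Over.homMk (Wa i ⊓ Wb j).ι rfl := by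
      ext1
      simp [rb]
    have ha : (AlgSp.yon S).map (Over.homMk (Wa i ⊓ Wb j).ι rfl :
        Over.mk ((Wa i ⊓ Wb j).ι ≫ T.hom) ⟶ T) ≫ a = ((AlgSp.yon S).map ra ≫ α i) ≫ c'.inj i := by
      rw [Category.assoc, (sqa i).w, ← Category.assoc, ← Functor.map_comp, hra]
    have hb : (AlgSp.yon S).map (Over.homMk (Wa i ⊓ Wb j).ι rfl :
        Over.mk ((Wa i ⊓ Wb j).ι ≫ T.hom) ⟶ T) ≫ b = ((AlgSp.yon S).map rb ≫ β j) ≫ c'.inj j := by
      rw [Category.assoc, (sqb j).w, ← Category.assoc, ← Functor.map_comp, hrb]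
    by_cases hij : j = i
    · subst hij
      rw [ha, hb]
      congr 1
      rw [← cancel_mono (k j), ← hD j, ← Category.assoc, ← ha, ← Category.assoc, ← hb,
        Category.assoc, Category.assoc, hab]
    · exfalso
      have h1 : IsEmpty ↥(Wa i ⊓ Wb j) := isEmpty_of_inj_eq c hc hij
        (P := Over.mk ((Wa i ⊓ Wb j).ι ≫ T.hom))
        (((AlgSp.yon S).map ra ≫ α i) ≫ r i) (((AlgSp.yon S).map rb ≫ β j) ≫ r j) (by
          have e1 : (((AlgSp.yon S).map ra ≫ α i) ≫ r i) ≫ c.inj i =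
              (((AlgSp.yon S).map ra ≫ α i) ≫ c'.inj i) ≫ D ≫ q := by
            simp only [Category.assoc]
            rw [← (sq i).w, ← hD i]
            simp only [Category.assoc]
          have e2 : (((AlgSp.yon S).map rb ≫ β j) ≫ r j) ≫ c.inj j =
              (((AlgSp.yon S).map rb ≫ β j) ≫ c'.inj j) ≫ D ≫ q := by
            simp only [Category.assoc]
            rw [← (sq j).w, ← hD j]
            simp only [Category.assoc]
          rw [e1, e2, ← ha, ← hb, Category.assoc, Category.assoc, ← Category.assoc a,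
            ← Category.assoc b, hab])
      exact h1.false ⟨t, hi, hj⟩
  haveI : Mono D := by
    refine ⟨fun {Z} a b hab => ?_⟩
    refine Groth.Agent.Lib.Helper9.SpQuot.jEpi_yon Z a b ?_
    rintro ⟨T, z⟩
    exact key T (z ≫ a) (z ≫ b) (by rw [Category.assoc, Category.assoc, hab])
  haveI : Epi D := by
    rw [← Sheaf.isLocallySurjective_iff_epi]
    constructor
    intro T s
    obtain ⟨x, hx⟩ : ∃ x : (AlgSp.yon S).obj T ⟶ Q, yEquiv T Q x = s :=
      ⟨(yEquiv T Q).symm s, Equiv.apply_symm_apply _ _⟩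
    obtain ⟨W, -, hcov, hW⟩ := exists_clopen_decomposition c hc (x ≫ q)
    choose b sqb using hW
    have hmem := ofArrows_opens_mem (W := T) W (fun t => by
      have ht : t ∈ ⨆ j, W j := by rw [hcov]; trivial
      exact TopologicalSpace.Opens.mem_iSup.1 ht)
    refine (AlgSp.J S).superset_covering ?_ hmem
    rw [Sieve.ofArrows, Sieve.generate_le_iff]
    rintro _ _ ⟨i⟩
    let l := (sq i).lift ((AlgSp.yon S).map (Over.homMk (W i).ι rfl :
      Over.mk ((W i).ι ≫ T.hom) ⟶ T) ≫ x) (b i) (by rw [Category.assoc, (sqb i).w])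
    refine ⟨yEquiv _ _ (l ≫ c'.inj i), ?_⟩
    rw [← hx]
    have h1 := yEquiv_comp (l ≫ c'.inj i) D
    rw [Category.assoc, hD i, (sq i).lift_fst] at h1
    rw [← h1]
    exact (map_yEquiv _ x).symm
  exact isIso_of_mono_of_epi D

include hc in
/-- **coproducts of fppf sheaves are universal**: the base changes of the summands form a
coproduct cofan of the base change. -/
theorem nonempty_isColimit_of_isPullback {Q : AlgSp.Sp S} (q : Q ⟶ c.pt) {Qi : ι → AlgSp.Sp S}
    (k : ∀ i, Qi i ⟶ Q) (r : ∀ i, Qi i ⟶ F i) (sq : ∀ i, IsPullback (k i) (r i) q (c.inj i)) :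
    Nonempty (IsColimit (Cofan.mk Q k)) := by
  have h3 : IsIso (Limits.Sigma.desc k) :=
    isIso_desc_of_isPullback c hc q k r sq (Cofan.mk (∐ Qi) (Sigma.ι Qi))
      (coproductIsCoproduct Qi) (Limits.Sigma.desc k) (fun i => Sigma.ι_desc _ _)
  refine ⟨IsColimit.ofIsoColimit (coproductIsCoproduct Qi) ?_⟩
  let e : (∐ Qi) ≅ Q := @asIso _ _ _ _ (Limits.Sigma.desc k) h3
  refine Cocones.ext e ?_
  rintro ⟨i⟩
  exact Sigma.ι_desc _ _

include hc in
/-- the base change of a map out of a coproduct along a point from a scheme, computed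
summandwise: it is represented by the coproduct of the schemes representing the base changes of
the summands. -/
theorem exists_isPullback_sig {Y : AlgSp.Sp S} (d : c.pt ⟶ Y) {T : Over S}
    (g : (AlgSp.yon S).obj T ⟶ Y) (V : ι → Over S) (v : ∀ i, V i ⟶ T)
    (x : ∀ i, (AlgSp.yon S).obj (V i) ⟶ F i)
    (sq : ∀ i, IsPullback (x i) ((AlgSp.yon S).map (v i)) (c.inj i ≫ d) g) :
    ∃ X : (AlgSp.yon S).obj (sig V) ⟶ c.pt,
      (∀ i, (AlgSp.yon S).map (inj V i) ≫ X = x i ≫ c.inj i) ∧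
      IsPullback X ((AlgSp.yon S).map (Groth.Agent.Lib.Helper1.Sig.desc V v)) d g := by
  obtain ⟨X, hX⟩ := exists_desc_sheaf V (fun i => x i ≫ c.inj i)
  have w : X ≫ d = (AlgSp.yon S).map (Groth.Agent.Lib.Helper1.Sig.desc V v) ≫ g := by
    refine sheaf_hom_ext V _ _ (fun i => ?_)
    rw [← Category.assoc, hX, ← Category.assoc, ← Functor.map_comp, inj_desc, Category.assoc,
      (sq i).w]
  let k : ∀ i, (AlgSp.yon S).obj (V i) ⟶ pullback d g := fun i =>
    pullback.lift (x i ≫ c.inj i) ((AlgSp.yon S).map (v i)) (by rw [Category.assoc, (sq i).w])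
  have sqk : ∀ i, IsPullback (k i) (x i) (pullback.fst d g) (c.inj i) := by
    intro i
    refine IsPullback.of_right (h₁₂ := pullback.snd d g) (v₁₃ := g) (h₂₂ := d) ?_ ?_
      (IsPullback.of_hasPullback d g).flip
    · have : k i ≫ pullback.snd d g = (AlgSp.yon S).map (v i) := pullback.lift_snd _ _ _
      rw [this]
      exact (sq i).flip
    · exact pullback.lift_fst _ _ _
  let D : (AlgSp.yon S).obj (sig V) ⟶ pullback d g :=
    pullback.lift X ((AlgSp.yon S).map (Groth.Agent.Lib.Helper1.Sig.desc V v)) w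
  have hD : ∀ i, (cofanSig V).inj i ≫ D = k i := by
    intro i
    change (AlgSp.yon S).map (inj V i) ≫ D = k i
    apply pullback.hom_ext
    · rw [Category.assoc, pullback.lift_fst, pullback.lift_fst]
      exact hX i
    · rw [Category.assoc, pullback.lift_snd, pullback.lift_snd, ← Functor.map_comp, inj_desc]
  haveI : IsIso D := isIso_desc_of_isPullback c hc (pullback.fst d g) k x sqk (cofanSig V)
    (isColimitCofanSig V) D hD
  refine ⟨X, hX, ?_⟩
  refine IsPullback.of_iso (IsPullback.of_hasPullback d g) (asIso D).symm (Iso.refl _)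
    (Iso.refl _) (Iso.refl _) ?_ ?_ ?_ ?_
  · simp only [Iso.symm_hom, asIso_inv, Iso.refl_hom, Category.comp_id]
    rw [eq_comm, IsIso.inv_comp_eq]
    exact (pullback.lift_fst _ _ _).symm
  · simp only [Iso.symm_hom, asIso_inv, Iso.refl_hom, Category.comp_id]
    rw [eq_comm, IsIso.inv_comp_eq]
    exact (pullback.lift_snd _ _ _).symm
  · simp
  · simp

end Universal

end Groth.Agent.Lib.T2H1.Coprod
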