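import Mathlib

/-!
# A finite coproduct of finite morphisms is finite
-/

set_option autoImplicit false
universe u
open CategoryTheory CategoryTheory.Limits AlgebraicGeometry

namespace Groth.Agent.Lib.T2H1.SigmaFinite

/-- the map out of a finite coproduct of schemes induced by finite morphisms is finite. -/
theorem isFinite_sigmaDesc {Z : Scheme.{u}} (α : Type u) [Finite α] :
    ∀ (W : α → Scheme.{u}) (w : ∀ a, W a ⟶ Z), (∀ a, IsFinite (w a)) → IsFinite (Sigma.desc w) := by
  refine Finite.induction_empty_option
    (P := fun α : Type u => ∀ (W : α → Scheme.{u}) (w : ∀ a, W a ⟶ Z),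
      (∀ a, IsFinite (w a)) → IsFinite (Sigma.desc w)) ?_ ?_ ?_ α
  · intro α β e h W w hw
    have h1 := h (fun a => W (e a)) (fun a => w (e a)) (fun a => hw (e a))
    have h2 : (Sigma.reindex e W).hom ≫ Sigma.desc w = Sigma.desc (fun a => w (e a)) := by
      apply Sigma.hom_ext
      intro a
      rw [← Category.assoc]
      erw [Sigma.ι_reindex_hom, Sigma.ι_desc, Sigma.ι_desc]
    rw [← h2] at h1
    exact (MorphismProperty.cancel_left_of_respectsIso @IsFinite _ _).1 h1
  · intro W w _
    haveI : IsEmpty ↥(∐ W) := by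
      refine ⟨fun x => ?_⟩
      obtain ⟨i, -⟩ := (sigmaOpenCover W).exists_eq x
      exact i.elim
    infer_instance
  · intro α _ h W w hw
    haveI := h (fun a => W (some a)) (fun a => w (some a)) (fun a => hw (some a))
    haveI := hw none
    let φ : ∐ W ⟶ (∐ fun a => W (some a)) ⨿ W none :=
      Sigma.desc (fun o => Option.rec (motive := fun o => W o ⟶ (∐ fun a => W (some a)) ⨿ W none)
        coprod.inr (fun a => Sigma.ι (fun a => W (some a)) a ≫ coprod.inl) o)
    let ψ : (∐ fun a => W (some a)) ⨿ W none ⟶ ∐ W :=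
      coprod.desc (Sigma.desc (fun a => Sigma.ι W (some a))) (Sigma.ι W none)
    have hφn : Sigma.ι W none ≫ φ = coprod.inr := Sigma.ι_desc _ _
    have hφs : ∀ a, Sigma.ι W (some a) ≫ φ = Sigma.ι (fun a => W (some a)) a ≫ coprod.inl :=
      fun a => Sigma.ι_desc _ _
    have hψl : coprod.inl ≫ ψ = Sigma.desc (fun a => Sigma.ι W (some a)) := coprod.inl_desc _ _
    have hψr : coprod.inr ≫ ψ = Sigma.ι W none := coprod.inr_desc _ _
    have hψs : ∀ a, Sigma.ι (fun a => W (some a)) a ≫ coprod.inl ≫ ψ = Sigma.ι W (some a) := by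
      intro a
      rw [hψl]
      exact Sigma.ι_desc _ _
    have h1 : φ ≫ ψ = 𝟙 _ := by
      apply Sigma.hom_ext
      rintro (_ | a)
      · rw [← Category.assoc, hφn, hψr, Category.comp_id]
      · rw [← Category.assoc, hφs, Category.assoc, hψs, Category.comp_id]
    have h2 : ψ ≫ φ = 𝟙 _ := by
      apply coprod.hom_ext
      · apply Sigma.hom_ext
        intro a
        rw [← Category.assoc, ← Category.assoc, Category.assoc _ coprod.inl, hψs, hφs,
          Category.comp_id]
      · rw [← Category.assoc, hψr, hφn, Category.comp_id]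
    haveI : IsIso φ := ⟨ψ, h1, h2⟩
    have h3 : ψ ≫ Sigma.desc w = coprod.desc (Sigma.desc fun a => w (some a)) (w none) := by
      apply coprod.hom_ext
      · apply Sigma.hom_ext
        intro a
        rw [← Category.assoc, ← Category.assoc, Category.assoc _ coprod.inl, hψs]
        erw [Sigma.ι_desc, coprod.inl_desc, Sigma.ι_desc]
      · rw [← Category.assoc, hψr]
        erw [Sigma.ι_desc, coprod.inr_desc]
    have h4 : Sigma.desc w = φ ≫ coprod.desc (Sigma.desc fun a => w (some a)) (w none) := by
      rw [← h3, ← Category.assoc, h1, Category.id_comp]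
    rw [h4]
    infer_instance

end Groth.Agent.Lib.T2H1.SigmaFinite
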