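import Groth.Agent.Lib.T2H1Coprod2
import Groth.Prelude.Def_AlgSpDec
import Groth.Agent.S10176
import Groth.Agent.S10505
import Groth.Agent.S10536
import Groth.Agent.S10325
import Groth.Agent.S10271
import Groth.Agent.S10267
import Groth.Agent.S10276
import Groth.Agent.S9947
import Groth.Agent.Lib.Helper12Proper
import Groth.Agent.Lib.Helper12OpenSub2

/-!
# Finite coproducts of proper morphisms of algebraic spaces (helper1)

* `exists_points_inj`: the points of a coproduct of sheaves come from the summands;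
* `isFppfCover_inj`: the coprojections form an fppf covering;
* `isProperMor_map`: a coproduct of proper morphisms is proper (over the coproduct of the targets);
* `isProperMor_desc`: a finite coproduct of algebraic spaces proper over `Y` is proper over `Y`.
-/

set_option autoImplicit false
universe u
open CategoryTheory CategoryTheory.Limits AlgebraicGeometry Opposite
open AlgSp

namespace Groth.Agent.Lib.T2H1.CoprodProper

open Groth.Agent.S9878 Groth.Agent.Lib.T2H1.Coprod

variable {S : Scheme.{u}}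

section Cofan

variable {ι : Type u} {F : ι → AlgSp.Sp S} (c : Cofan F) (hc : IsColimit c)

include hc in
/-- the points of a coproduct of fppf sheaves come from the summands. -/
theorem exists_points_inj (x : AlgSp.Points c.pt) :
    ∃ (i : ι) (y : AlgSp.Points (F i)), AlgSp.Points.map (c.inj i) y = x := by
  induction x using AlgSp.Points.ind with | h r => ?_
  obtain ⟨W, -, hcov, hW⟩ := exists_clopen_decomposition c hc r.toHom
  let s : ↥r.pt.left := ((⊥ : PrimeSpectrum r.K) : ↥r.pt.left)
  have hs : s ∈ ⨆ i, W i := by rw [hcov]; trivial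
  obtain ⟨i, hi⟩ := TopologicalSpace.Opens.mem_iSup.1 hs
  obtain ⟨a, sq⟩ := hW i
  refine ⟨i, AlgSp.Points.ofPt a ⟨s, hi⟩, ?_⟩
  rw [AlgSp.Points.map_ofPt, sq.w, Groth.Agent.S10176.ofPt_map_comp]
  exact AlgSp.Points.ofPt_toHom r _

include hc in
/-- the coprojections of a coproduct form an fppf covering. -/
theorem isFppfCover_inj : AlgSp.IsFppfCover F c.inj := by
  refine ⟨fun i => ?_, fun x => ?_⟩
  · have he : AlgSp.RepWith @Etale (c.inj i) :=
      Groth.Agent.Lib.Helper12.OpenSub.repWith_mono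
        (fun _ _ g hg => by haveI : IsOpenImmersion g := hg; infer_instance) (repWith_inj c hc i)
    exact ⟨Groth.Agent.S9947.locP_of_repWith_etale @Flat
        (fun g hg => by haveI := hg; infer_instance) _ he,
      Groth.Agent.S9947.locP_of_repWith_etale @LocallyOfFinitePresentation
        (fun g hg => by haveI := hg; infer_instance) _ he⟩
  · obtain ⟨i, y, hy⟩ := exists_points_inj c hc x
    exact ⟨i, y, hy⟩

include hc in
/-- a coproduct of proper morphisms is proper. -/
theorem isProperMor_map {A : ι → AlgSp.Sp S} (c' : Cofan A) (hc' : IsColimit c')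
    (hF : ∀ i, AlgSp.IsAlgSpace (F i)) (hA : ∀ i, AlgSp.IsAlgSpace (A i))
    (f : ∀ i, A i ⟶ F i) (hf : ∀ i, AlgSp.IsProperMor (f i))
    (m : c'.pt ⟶ c.pt) (hm : ∀ i, c'.inj i ≫ m = f i ≫ c.inj i) : AlgSp.IsProperMor m := by
  have hcpt : AlgSp.IsAlgSpace c.pt := isAlgSpace_cofan_pt F hF c hc
  have hc'pt : AlgSp.IsAlgSpace c'.pt := isAlgSpace_cofan_pt A hA c' hc'
  have hcov := Groth.Agent.S10505.result (⟨c.pt, hcpt⟩ : AlgSp.Space S)
    (fun i => (⟨F i, hF i⟩ : AlgSp.Space S)) (fun i => ObjectProperty.homMk (c.inj i))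
    (isFppfCover_inj c hc)
  exact (Groth.Agent.S10536.result S F c.inj hcpt hF hcov m hc'pt A f c'.inj hA
    (fun i => isPullback_inj c hc c' hc' f m hm i)).2 hf

end Cofan

section Fin

variable {n : ℕ}

/-- reindexing a cofan over `ULift (Fin n)` to `Fin n`. -/
noncomputable def reindex {G : Fin n → AlgSp.Sp S}
    (c : Cofan (fun i : ULift.{u} (Fin n) => G i.down)) : Cofan G :=
  Cofan.mk c.pt (fun k => c.inj ⟨k⟩)

/-- the reindexed cofan is a colimit. -/
noncomputable def reindexIsColimit {G : Fin n → AlgSp.Sp S}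
    (c : Cofan (fun i : ULift.{u} (Fin n) => G i.down)) (hc : IsColimit c) :
    IsColimit (reindex c) :=
  mkCofanColimit _ (fun s => Cofan.IsColimit.desc hc (fun i => s.inj i.down))
    (fun s k => Cofan.IsColimit.fac hc _ ⟨k⟩)
    (fun s m hm => Cofan.IsColimit.hom_ext hc _ _ (fun i => by
      rw [Cofan.IsColimit.fac]; exact hm i.down))

/-- a finite coproduct of algebraic spaces proper over `Y` is proper over `Y`. -/
theorem isProperMor_desc (Y : AlgSp.Space S) (Z : Fin n → AlgSp.Space S) (p : ∀ k, Z k ⟶ Y)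
    (hp : ∀ k, AlgSp.IsProperMor (p k).hom)
    (c' : Cofan (fun i : ULift.{u} (Fin n) => (Z i.down).obj)) (hc' : IsColimit c')
    (d : c'.pt ⟶ Y.obj) (hd : ∀ i, c'.inj i ≫ d = (p i.down).hom) : AlgSp.IsProperMor d := by
  -- the coproduct of `n` copies of `Y`
  let F : ULift.{u} (Fin n) → AlgSp.Sp S := fun _ => Y.obj
  let c : Cofan F := Cofan.mk (∐ F) (Sigma.ι F)
  have hc : IsColimit c := coproductIsCoproduct F
  have hcpt : AlgSp.IsAlgSpace c.pt := isAlgSpace_cofan_pt F (fun _ => Y.property) c hc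
  have hc'pt : AlgSp.IsAlgSpace c'.pt :=
    isAlgSpace_cofan_pt _ (fun i : ULift.{u} (Fin n) => (Z i.down).property) c' hc'
  let m : c'.pt ⟶ c.pt := Cofan.IsColimit.desc hc' (fun i => (p i.down).hom ≫ c.inj i)
  have hm : ∀ i, c'.inj i ≫ m = (p i.down).hom ≫ c.inj i := fun i => Cofan.IsColimit.fac hc' _ i
  have hmp : AlgSp.IsProperMor m :=
    isProperMor_map c hc c' hc' (fun _ => Y.property)
      (fun i : ULift.{u} (Fin n) => (Z i.down).property)
      (fun i : ULift.{u} (Fin n) => (p i.down).hom) (fun i => hp i.down) m hm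
  -- the fold map
  let fold : c.pt ⟶ Y.obj := Cofan.IsColimit.desc hc (fun _ => 𝟙 Y.obj)
  have hfold : ∀ i, c.inj i ≫ fold = 𝟙 Y.obj := fun i => Cofan.IsColimit.fac hc _ i
  have hidfin : AlgSp.IsFiniteMor (𝟙 Y : Y ⟶ Y).hom :=
    (Groth.Agent.S10267.result (𝟙 Y)).2.2 ((AlgSp.RepWith @IsFinite).id_mem Y.obj)
  have hfoldfin : AlgSp.IsFiniteMor fold :=
    Groth.Agent.S10325.result (fun _ : Fin n => Y) Y (fun _ => 𝟙 Y) (fun _ => hidfin)
      (reindex (G := fun _ : Fin n => Y.obj) c) (reindexIsColimit (G := fun _ : Fin n => Y.obj) c hc)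
      fold (fun k => hfold ⟨k⟩)
  let cS : AlgSp.Space S := ⟨c.pt, hcpt⟩
  let foldS : cS ⟶ Y := ObjectProperty.homMk fold
  have hfoldp : AlgSp.IsProperMor fold := ((Groth.Agent.S10271.result foldS).1 hfoldfin).2
  have hdm : d = m ≫ fold := by
    refine Cofan.IsColimit.hom_ext hc' _ _ (fun i => ?_)
    rw [hd, ← Category.assoc, hm, Category.assoc, hfold, Category.comp_id]
  rw [hdm]
  exact Groth.Agent.Lib.Helper12.Proper.isProperMor_comp hcpt Y.property m fold hmp hfoldp

end Fin

end Groth.Agent.Lib.T2H1.CoprodProper
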