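import Mathlib
import Groth.Agent.S9900
import Groth.Agent.S9874
import Groth.Agent.S9906
import Groth.Agent.S10211
import Groth.Agent.S10262
import Groth.Agent.S10509
import Groth.Agent.S10555
import Groth.Agent.Lib.Helper12SrcLocal
import Groth.Agent.Lib.Helper12EtSmST
import Groth.Agent.Lib.Helper12LargestOpen
import Groth.Agent.Lib.Helper12ZarGlue2

/-!
# Algebraic spaces étale over the spectrum of a field (helper1)

* `discreteTopology_points`: the space of points is discrete;
* `isSeparatedMor_of_isEtaleMor_field`: the structure morphism is separated.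
-/

set_option autoImplicit false
universe u
open CategoryTheory CategoryTheory.Limits AlgebraicGeometry Opposite
open AlgSp

namespace Groth.Agent.Lib.T2H1.EtField

open Groth.Agent.Lib.Helper12

variable {S : Scheme.{u}}

/-- a scheme locally quasi-finite over the spectrum of a field is discrete. -/
lemma discreteTopology_of_lqf_field {V : Scheme.{u}} (k : Type u) [Field k]
    (v : V ⟶ Spec (CommRingCat.of k)) [LocallyQuasiFinite v] : DiscreteTopology ↥V := by
  haveI : DiscreteTopology ↥(Spec (CommRingCat.of k)) :=
    inferInstanceAs (DiscreteTopology (PrimeSpectrum k))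
  have h := v.isDiscrete_preimage (s := Set.univ) (isDiscrete_univ_iff.2 inferInstance)
  rw [Set.preimage_univ] at h
  exact isDiscrete_univ_iff.1 h

/-- the space of points of an algebraic space étale over the spectrum of a field is discrete. -/
lemma discreteTopology_points {Z : AlgSp.Sp S} (hZ : AlgSp.IsAlgSpace Z) (k : Type u) [Field k]
    (str : Spec (CommRingCat.of k) ⟶ S) (g : Z ⟶ (AlgSp.yon S).obj (Over.mk str))
    (hg : AlgSp.IsEtaleMor g) : DiscreteTopology (AlgSp.Points Z) := by
  obtain ⟨V, b, hbe, hbs⟩ := hZ.atlas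
  obtain ⟨v, hv⟩ := (AlgSp.yon S).map_surjective (b ≫ g)
  have h1 : AlgSp.RepWith @Etale ((AlgSp.yon S).map v) := hv ▸ hg b hbe
  haveI : Etale v.left := (AlgSp.repWith_yon_map_iff @Etale v).1 h1
  haveI : LocallyQuasiFinite v.left := Groth.Agent.S10555.lqf_of_etale v.left
  haveI : DiscreteTopology ↥V.left := discreteTopology_of_lqf_field k v.left
  haveI : DiscreteTopology (AlgSp.Points ((AlgSp.yon S).obj V)) :=
    (AlgSp.Points.schemeHomeo V).symm.isEmbedding.discreteTopology
  have hopen : IsOpenMap (AlgSp.Points.map b) :=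
    Groth.Agent.S9908.isOpenMap_map_of_repWith b
      (Groth.Agent.S10211.repWith_universallyOpen_of_etale hbe)
  have hsurj := Groth.Agent.S9906.surjective_map_of_repWith b hbs
  refine discreteTopology_iff_forall_isOpen.2 (fun A => ?_)
  rw [← Set.image_preimage_eq A hsurj]
  exact hopen _ (isOpen_discrete _)

/-- **an algebraic space étale over the spectrum of a field is separated over it.** -/
theorem isSeparatedMor_of_isEtaleMor_field {X : AlgSp.Sp S} (hX : AlgSp.IsAlgSpace X)
    (k : Type u) [Field k] (str : Spec (CommRingCat.of k) ⟶ S)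
    (f : X ⟶ (AlgSp.yon S).obj (Over.mk str)) (hf : AlgSp.IsEtaleMor f) :
    AlgSp.IsSeparatedMor f := by
  have hK := AlgSp.IsAlgSpace.yon_obj (Over.mk str)
  have hZ : AlgSp.IsAlgSpace (pullback f f) :=
    Groth.Agent.S9874.isAlgSpace_of_isPullback hK.diag hX hX (IsPullback.of_hasPullback f f)
  have h1 : AlgSp.IsEtaleMor (pullback.snd f f) :=
    EtSmST.isEtaleMor_baseChange hX hK hX (IsPullback.of_hasPullback f f) hf
  have hg : AlgSp.IsEtaleMor (pullback.snd f f ≫ f) := fun U φ hφ => by
    rw [← Category.assoc]; exact hf _ (h1 φ hφ)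
  haveI := discreteTopology_points hZ k str _ hg
  have hunr : AlgSp.LocP (@LocallyOfFiniteType ⊓ @FormallyUnramified) f :=
    LargestOpen.locP_mono (fun _ _ g hg => by
      haveI : Etale g := hg
      exact ⟨inferInstance, inferInstance⟩) (SrcLocal.locP_etale_of_isEtaleMor f hf)
  have hopen : AlgSp.RepWith @IsOpenImmersion (pullback.diagonal f) :=
    (Groth.Agent.S10262.result (X := ⟨X, hX⟩) (Y := ⟨_, hK⟩) (ObjectProperty.homMk f)).1 hunr
  refine ⟨hopen.1, fun T W c pr w sq => ?_⟩
  haveI : IsOpenImmersion w.left := hopen.2 c pr w sq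
  have hrange : Set.range w.left =
      (AlgSp.Points.ofPt c) ⁻¹' (Set.range (AlgSp.Points.map (pullback.diagonal f))) := by
    ext t
    constructor
    · rintro ⟨y, rfl⟩
      refine ⟨AlgSp.Points.ofPt pr y, ?_⟩
      rw [AlgSp.Points.map_ofPt, sq.w, Groth.Agent.S10509.ofPt_yon_map_comp]
    · intro ht
      exact ZarGlue.mem_range_of_mem_range_map _ c pr w sq t ht
  have hclosed : IsClosed (Set.range w.left) := by
    rw [hrange]
    exact (isClosed_discrete _).preimage (AlgSp.Points.continuous_ofPt c)
  exact IsClosedImmersion.of_isPreimmersion w.left hclosed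

end Groth.Agent.Lib.T2H1.EtField
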