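import Mathlib
import Groth.Agent.S7486

/-!
# Quotient of the spectrum of a field by a finite equivalence relation: algebra (helper1)

Abstract "Hopf algebroid" data `σ τ : K → B`, `ε : B → K`, `p0 p1 c : B → D` over a field `K` with
`B` finite over `K` (through `σ`) and spanned by `τ K`.  Then `C = eqLocus σ τ` is a field, `K` is
finite over `C` and `K ⊗_C K ≅ B`.
-/

set_option autoImplicit false
universe u
open CategoryTheory CategoryTheory.Limits TensorProduct

namespace Groth.Agent.Lib.T2H1.FieldQuot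

section Alg

variable {K B D : Type u} [Field K] [CommRing B] [CommRing D]
  (σ τ : K →+* B) (ε : B →+* K) (p0 p1 c : B →+* D)

/-- the invariants of a field form a field. -/
lemma isField_eqLocus [Nontrivial B] : IsField (RingHom.eqLocus σ τ) := by
  refine ⟨⟨0, 1, fun h => zero_ne_one (congrArg Subtype.val h)⟩, mul_comm, fun {a} ha => ?_⟩
  have ha' : (a : K) ≠ 0 := fun h => ha (Subtype.ext h)
  have h1 : σ (a : K) * σ (a : K)⁻¹ = 1 := by rw [← map_mul, mul_inv_cancel₀ ha', map_one]
  have h2 : τ (a : K) * τ (a : K)⁻¹ = 1 := by rw [← map_mul, mul_inv_cancel₀ ha', map_one]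
  have h3 : σ (a : K) = τ (a : K) := a.2
  have h4 : σ (a : K)⁻¹ = τ (a : K)⁻¹ := by
    calc σ (a : K)⁻¹ = σ (a : K)⁻¹ * (τ (a : K) * τ (a : K)⁻¹) := by rw [h2, mul_one]
      _ = (σ (a : K) * σ (a : K)⁻¹) * τ (a : K)⁻¹ := by rw [← h3]; ring
      _ = τ (a : K)⁻¹ := by rw [h1, one_mul]
  exact ⟨⟨(a : K)⁻¹, h4⟩, Subtype.ext (mul_inv_cancel₀ ha')⟩

variable (hεσ : ∀ a, ε (σ a) = a) (hετ : ∀ a, ε (τ a) = a)
  (hcτ : ∀ a, c (τ a) = p0 (τ a)) (hcσ : ∀ a, c (σ a) = p1 (σ a)) (hp : ∀ a, p0 (σ a) = p1 (τ a))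
  (hpo : IsPushout (CommRingCat.ofHom σ) (CommRingCat.ofHom τ) (CommRingCat.ofHom p0)
    (CommRingCat.ofHom p1))
  (hfin : letI := σ.toAlgebra; Module.Finite K B)
  (hspan : letI := σ.toAlgebra; Submodule.span K (Set.range τ) = ⊤)

include hspan in
/-- a basis of `B` over `K` (through `σ`) of the form `τ (x i)`. -/
lemma exists_basis_tau :
    ∃ (I : Type u) (x : I → K), letI := σ.toAlgebra;
      ∃ b : Module.Basis I K B, ∀ i, b i = τ (x i) := by
  letI := σ.toAlgebra
  have hs : ⊤ ≤ Submodule.span K (Set.range τ) := hspan.ge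
  let b := Module.Basis.ofSpan hs
  have hmem : ∀ i, ∃ a : K, τ a = b i := fun i => Module.Basis.ofSpan_subset hs ⟨i, rfl⟩
  choose x hx using hmem
  exact ⟨_, x, b, fun i => (hx i).symm⟩

include hεσ hετ hcτ hcσ hp hpo hfin hspan in
/-- `K` is finite free over the invariants and `K ⊗_C K ≅ B`. -/
theorem main :
    Module.Finite (RingHom.eqLocus σ τ) K ∧
      ∀ φ : K ⊗[RingHom.eqLocus σ τ] K →+ B, (∀ a a' : K, φ (a ⊗ₜ a') = τ a * σ a') →
        Function.Bijective φ := by
  obtain ⟨I, x, hB⟩ := exists_basis_tau σ τ hspan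
  have LI_D : ∀ f g : I →₀ B, (f.sum fun i β => p1 β * p0 (τ (x i))) =
      (g.sum fun i β => p1 β * p0 (τ (x i))) → f = g := by
    intro f g hfg
    exact Groth.Agent.S7486.li_of_isPushout hpo (fun i => τ (x i)) hB f g hfg
  have hBB := hB
  letI := σ.toAlgebra
  obtain ⟨b, hb⟩ := hBB
  have hlc : ∀ f : I →₀ K, Finsupp.linearCombination K b f =
      f.sum fun i a => σ a * τ (x i) := by
    intro f
    rw [Finsupp.linearCombination_apply]
    refine Finsupp.sum_congr fun i _ => ?_
    rw [hb, Algebra.smul_def]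
    rfl
  have LI_B : ∀ f g : I →₀ K, (f.sum fun i a => σ a * τ (x i)) =
      (g.sum fun i a => σ a * τ (x i)) → f = g := by
    intro f g hfg
    rw [← hlc, ← hlc] at hfg
    have := congrArg b.repr hfg
    simpa using this
  have SP_B : ∀ β : B, ∃ f : I →₀ K, β = f.sum fun i a => σ a * τ (x i) := by
    intro β
    refine ⟨b.repr β, ?_⟩
    rw [← hlc, Module.Basis.linearCombination_repr]
  haveI : Finite I := by
    haveI : Module.Finite K B := hfin
    exact (Module.Finite.finite_basis b)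
  have hli := Groth.Agent.S7486.linearIndependent_x σ τ ε hεσ x LI_B
  have hsp := Groth.Agent.S7486.span_x σ τ ε p0 p1 c hεσ hετ hcτ hcσ hp x SP_B LI_D
  refine ⟨Module.Finite.of_basis (Module.Basis.mk hli hsp), fun φ hφ => ?_⟩
  exact Groth.Agent.S7486.bijective_phi σ τ ε p0 p1 c hεσ hετ hcτ hcσ hp x LI_B SP_B LI_D φ hφ

include hεσ hετ hcτ hcσ hp hpo hfin hspan in
/-- the square `C → K ⇉ B` is a pushout. -/
theorem isPushout_eqLocus :
    IsPushout (CommRingCat.ofHom (RingHom.eqLocus σ τ).subtype)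
      (CommRingCat.ofHom (RingHom.eqLocus σ τ).subtype) (CommRingCat.ofHom τ)
      (CommRingCat.ofHom σ) := by
  obtain ⟨-, hbij⟩ := main σ τ ε p0 p1 c hεσ hετ hcτ hcσ hp hpo hfin hspan
  letI : Algebra (RingHom.eqLocus σ τ) B := (σ.comp (RingHom.eqLocus σ τ).subtype).toAlgebra
  let τ' : K →ₐ[RingHom.eqLocus σ τ] B :=
    { τ with commutes' := fun r => (r.2).symm }
  let σ' : K →ₐ[RingHom.eqLocus σ τ] B :=
    { σ with commutes' := fun r => rfl }
  let Φ : K ⊗[RingHom.eqLocus σ τ] K →ₐ[RingHom.eqLocus σ τ] B :=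
    Algebra.TensorProduct.productMap τ' σ'
  have hΦ : Function.Bijective Φ :=
    hbij Φ.toLinearMap.toAddMonoidHom (fun a a' => by
      show Φ (a ⊗ₜ a') = _
      rw [Algebra.TensorProduct.productMap_apply_tmul]
      rfl)
  let e : K ⊗[RingHom.eqLocus σ τ] K ≃+* B := RingEquiv.ofBijective Φ hΦ
  refine (CommRingCat.isPushout_tensorProduct (RingHom.eqLocus σ τ) K K).of_iso (Iso.refl _)
    (Iso.refl _) (Iso.refl _) e.toCommRingCatIso (by simp; rfl) (by simp; rfl) ?_ ?_
  · ext a
    simp only [Iso.refl_hom, Category.id_comp, CommRingCat.hom_comp, CommRingCat.hom_ofHom,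
      RingHom.coe_comp, Function.comp_apply]
    show Φ (a ⊗ₜ 1) = τ a
    rw [Algebra.TensorProduct.productMap_apply_tmul, map_one, mul_one]
    rfl
  · ext a
    simp only [Iso.refl_hom, Category.id_comp, CommRingCat.hom_comp, CommRingCat.hom_ofHom,
      RingHom.coe_comp, Function.comp_apply]
    show Φ (1 ⊗ₜ a) = σ a
    rw [Algebra.TensorProduct.productMap_apply_tmul, map_one, one_mul]
    rfl

end Alg

section Span

variable {K B : Type u} [Field K] [CommRing B] (σ τ : K →+* B)

/-- if `σ, τ : K → B` are jointly epimorphic and `B` is finite over `K` through `σ`, then `B` is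
spanned over `K` (through `σ`) by `τ K`. -/
theorem span_range_eq_top (hfin : σ.Finite)
    (hepi : ∀ (T' : CommRingCat.{u}) (g h : CommRingCat.of B ⟶ T'),
      (∀ a, g.hom (σ a) = h.hom (σ a)) → (∀ a, g.hom (τ a) = h.hom (τ a)) → g = h) :
    letI := σ.toAlgebra; Submodule.span K (Set.range τ) = ⊤ := by
  letI := σ.toAlgebra
  let m : K ⊗[ℤ] K →ₐ[ℤ] B := Algebra.TensorProduct.productMap τ.toIntAlgHom σ.toIntAlgHom
  have hm : ∀ a a' : K, m (a ⊗ₜ a') = τ a * σ a' := fun a a' => by
    simp [m, Algebra.TensorProduct.productMap_apply_tmul]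
  haveI : Epi (CommRingCat.ofHom m.toRingHom) := by
    refine ⟨fun {T'} g h hgh => hepi T' g h (fun a => ?_) (fun a => ?_)⟩
    · have := congr($(hgh).hom (1 ⊗ₜ a))
      simpa [hm] using this
    · have := congr($(hgh).hom (a ⊗ₜ 1))
      simpa [hm] using this
  have hfin' : m.toRingHom.Finite := by
    have h1 : m.toRingHom.comp
        (Algebra.TensorProduct.includeRight : K →ₐ[ℤ] K ⊗[ℤ] K).toRingHom = σ := by
      ext a
      simp [hm]
    exact RingHom.Finite.of_comp_finite (h1 ▸ hfin)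
  have hsurj : Function.Surjective m :=
    RingHom.surjective_of_epi_of_finite (CommRingCat.ofHom m.toRingHom) hfin'
  rw [eq_top_iff]
  intro b _
  obtain ⟨z, rfl⟩ := hsurj b
  induction z using TensorProduct.induction_on with
  | zero => rw [map_zero]; exact Submodule.zero_mem _
  | tmul a a' =>
    rw [hm, mul_comm]
    have : σ a' * τ a = a' • τ a := (Algebra.smul_def a' (τ a)).symm
    rw [this]
    exact Submodule.smul_mem _ _ (Submodule.subset_span ⟨a, rfl⟩)
  | add z w hz hw => rw [map_add]; exact Submodule.add_mem _ (hz trivial) (hw trivial)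

end Span

end Groth.Agent.Lib.T2H1.FieldQuot
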