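import Mathlib
import Groth.Agent.S13210
import Groth.Agent.Lib.T2H1FieldQuotA
import Groth.Agent.Lib.T2H1MonoGlue
import Groth.Agent.Lib.Helper12Cart

/-!
# Quotient of the spectrum of a field by a finite equivalence relation: geometry (helper1)

`exists_mono_factor_aux`: a morphism `q : h_{Spec K} ⟶ X` to an fppf sheaf whose self fibre product
is (represented by) an affine scheme `Spec B` finite over `Spec K` factors as
`Spec K ⟶ Spec C ⟶ X` with `Spec K ⟶ Spec C` finite flat surjective, the second map a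
monomorphism, and `Spec B = Spec K ×_{Spec C} Spec K`.
-/

set_option autoImplicit false
universe u
open CategoryTheory CategoryTheory.Limits AlgebraicGeometry Opposite
open AlgSp

namespace Groth.Agent.Lib.T2H1.FieldQuot

open Groth.Agent.S13210

variable {S : Scheme.{u}}

/-- a morphism of sheaves is a monomorphism as soon as it is injective on `h_Z`-points. -/
lemma mono_of_forall_yon {F G : AlgSp.Sp S} (p : F ⟶ G)
    (H : ∀ (Z : Over S) (a b : (AlgSp.yon S).obj Z ⟶ F), a ≫ p = b ≫ p → a = b) : Mono p := by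
  have hpb : IsPullback (𝟙 F) (𝟙 F) p p := by
    refine isPullback_of_yon rfl (fun Z b c hbc => ?_)
    have := H Z b c hbc
    subst this
    exact ⟨b, ⟨Category.comp_id _, Category.comp_id _⟩, fun a ha => by
      rw [← ha.1, Category.comp_id]⟩
  exact IsKernelPair.mono_of_isIso_fst hpb

section Aux

variable {X : AlgSp.Sp S} (K : Type u) [Field K] (str : Spec (CommRingCat.of K) ⟶ S)
  (q : (AlgSp.yon S).obj (Over.mk str) ⟶ X)
  (B : CommRingCat.{u}) (r : Spec B ⟶ S) (s t : Over.mk r ⟶ Over.mk str)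
  (hsq : IsPullback ((AlgSp.yon S).map t) ((AlgSp.yon S).map s) q q)

include hsq in
/-- lifting a pair of points of `Spec K` with the same image in `X` to `Spec B`. -/
lemma exists_lift_R {Z : Over S} (a b : Z ⟶ Over.mk str)
    (h : (AlgSp.yon S).map a ≫ q = (AlgSp.yon S).map b ≫ q) :
    ∃ l : Z ⟶ Over.mk r, l ≫ t = a ∧ l ≫ s = b := by
  obtain ⟨l, hl⟩ := (AlgSp.yon S).map_surjective (hsq.lift _ _ h)
  refine ⟨l, (AlgSp.yon S).map_injective ?_, (AlgSp.yon S).map_injective ?_⟩
  · rw [Functor.map_comp, hl, hsq.lift_fst]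
  · rw [Functor.map_comp, hl, hsq.lift_snd]

include hsq in
lemma lift_R_ext {Z : Over S} (l l' : Z ⟶ Over.mk r) (h1 : l ≫ t = l' ≫ t)
    (h2 : l ≫ s = l' ≫ s) : l = l' := by
  apply (AlgSp.yon S).map_injective
  apply hsq.hom_ext
  · rw [← Functor.map_comp, ← Functor.map_comp, h1]
  · rw [← Functor.map_comp, ← Functor.map_comp, h2]

include hsq in
/-- **the ring-theoretic output**: with `σ, τ : K → B` the ring maps of `s, t`, the invariants
`C = eqLocus σ τ` form a field over which `K` is finite, and `C → K ⇉ B` is a pushout. -/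
theorem ring_data [IsFinite s.left] :
    let σ : K →+* B := (Spec.preimage s.left).hom
    let τ : K →+* B := (Spec.preimage t.left).hom
    IsField (RingHom.eqLocus σ τ) ∧ Module.Finite (RingHom.eqLocus σ τ) K ∧
      IsPushout (CommRingCat.ofHom (RingHom.eqLocus σ τ).subtype)
        (CommRingCat.ofHom (RingHom.eqLocus σ τ).subtype) (CommRingCat.ofHom τ)
        (CommRingCat.ofHom σ) := by
  intro σ τ
  let σc : CommRingCat.of K ⟶ B := Spec.preimage s.left
  let τc : CommRingCat.of K ⟶ B := Spec.preimage t.left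
  have hσ : Spec.map σc = s.left := Spec.map_preimage _
  have hτ : Spec.map τc = t.left := Spec.map_preimage _
  have hws : s.left ≫ str = r := Over.w s
  have hwt : t.left ≫ str = r := Over.w t
  -- the diagonal
  obtain ⟨δ, hδt, hδs⟩ := exists_lift_R K str q B r s t hsq (𝟙 _) (𝟙 _) rfl
  let εc : B ⟶ CommRingCat.of K := Spec.preimage δ.left
  have hε : Spec.map εc = δ.left := Spec.map_preimage _
  have hεσ : σc ≫ εc = 𝟙 _ := by
    apply Spec.map_injective
    rw [Spec.map_comp, hε, hσ, ← Over.comp_left, hδs]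
    simp
  have hετ : τc ≫ εc = 𝟙 _ := by
    apply Spec.map_injective
    rw [Spec.map_comp, hε, hτ, ← Over.comp_left, hδt]
    simp
  -- the composition
  let p0c := pushout.inl σc τc
  let p1c := pushout.inr σc τc
  have hcondc : σc ≫ p0c = τc ≫ p1c := pushout.condition
  have hcondS : Spec.map p0c ≫ s.left = Spec.map p1c ≫ t.left := by
    rw [← hσ, ← hτ, ← Spec.map_comp, ← Spec.map_comp, hcondc]
  let W : Over S := Over.mk (Spec.map p0c ≫ r)
  let pr0 : W ⟶ Over.mk r := Over.homMk (Spec.map p0c) rfl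
  let pr1 : W ⟶ Over.mk r := Over.homMk (Spec.map p1c) (by
    show Spec.map p1c ≫ r = Spec.map p0c ≫ r
    calc Spec.map p1c ≫ r = Spec.map p1c ≫ t.left ≫ str := by rw [hwt]
      _ = Spec.map p0c ≫ s.left ≫ str := by rw [← Category.assoc, ← hcondS, Category.assoc]
      _ = Spec.map p0c ≫ r := by rw [hws])
  have hcond : pr0 ≫ s = pr1 ≫ t := by
    ext
    exact hcondS
  obtain ⟨γ, hγt, hγs⟩ := exists_lift_R K str q B r s t hsq (pr0 ≫ t) (pr1 ≫ s) (by
    rw [Functor.map_comp, Category.assoc, hsq.w, ← Category.assoc, ← Functor.map_comp, hcond,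
      Functor.map_comp, Category.assoc, hsq.w, ← Category.assoc, ← Functor.map_comp])
  let cc : B ⟶ pushout σc τc := Spec.preimage γ.left
  have hc : Spec.map cc = γ.left := Spec.map_preimage _
  have hcτ : τc ≫ cc = τc ≫ p0c := by
    apply Spec.map_injective
    rw [Spec.map_comp, Spec.map_comp, hc, hτ, ← Over.comp_left, hγt]
    rfl
  have hcσ : σc ≫ cc = σc ≫ p1c := by
    apply Spec.map_injective
    rw [Spec.map_comp, Spec.map_comp, hc, hσ, ← Over.comp_left, hγs]
    rfl
  have hpo : IsPushout (CommRingCat.ofHom σ) (CommRingCat.ofHom τ) (CommRingCat.ofHom p0c.hom)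
      (CommRingCat.ofHom p1c.hom) := IsPushout.of_hasPushout σc τc
  have hfinσ : σ.Finite := (IsFinite.SpecMap_iff σc).1 (hσ ▸ inferInstance)
  have hspan := span_range_eq_top σ τ hfinσ (fun T' g h h1 h2 => by
    let a : Over.mk (Spec.map g ≫ r) ⟶ Over.mk r := Over.homMk (Spec.map g) rfl
    have e1 : Spec.map h ≫ t.left = Spec.map g ≫ t.left := by
      rw [← hτ, ← Spec.map_comp, ← Spec.map_comp]
      congr 1
      ext x
      exact (h2 x).symm
    have e2 : Spec.map h ≫ s.left = Spec.map g ≫ s.left := by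
      rw [← hσ, ← Spec.map_comp, ← Spec.map_comp]
      congr 1
      ext x
      exact (h1 x).symm
    let b : Over.mk (Spec.map g ≫ r) ⟶ Over.mk r := Over.homMk (Spec.map h) (by
      show Spec.map h ≫ r = Spec.map g ≫ r
      calc Spec.map h ≫ r = Spec.map h ≫ t.left ≫ str := by rw [hwt]
        _ = Spec.map g ≫ t.left ≫ str := by rw [← Category.assoc, e1, Category.assoc]
        _ = Spec.map g ≫ r := by rw [hwt])
    have hab : a = b := lift_R_ext K str q B r s t hsq a b (by ext; exact e1.symm)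
      (by ext; exact e2.symm)
    have := congrArg (fun m => m.left) hab
    exact Spec.map_injective this)
  haveI : Nontrivial B := RingHom.domain_nontrivial εc.hom
  have h1 : ∀ a, εc.hom (σ a) = a := fun a => congr($(hεσ).hom a)
  have h2 : ∀ a, εc.hom (τ a) = a := fun a => congr($(hετ).hom a)
  have h3 : ∀ a, cc.hom (τ a) = p0c.hom (τ a) := fun a => congr($(hcτ).hom a)
  have h4 : ∀ a, cc.hom (σ a) = p1c.hom (σ a) := fun a => congr($(hcσ).hom a)
  have h5 : ∀ a, p0c.hom (σ a) = p1c.hom (τ a) := fun a => congr($(hcondc).hom a)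
  exact ⟨isField_eqLocus σ τ,
    (main σ τ εc.hom p0c.hom p1c.hom cc.hom h1 h2 h3 h4 h5 hpo hfinσ hspan).1,
    isPushout_eqLocus σ τ εc.hom p0c.hom p1c.hom cc.hom h1 h2 h3 h4 h5 hpo hfinσ hspan⟩

include hsq in
/-- **the quotient of `Spec K` by a finite equivalence relation coming from a sheaf.** -/
theorem exists_mono_factor_aux [IsFinite s.left] :
    ∃ (C : Type u) (_ : Field C) (str' : Spec (CommRingCat.of C) ⟶ S)
      (c₀ : Over.mk str ⟶ Over.mk str') (p : (AlgSp.yon S).obj (Over.mk str') ⟶ X),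
      (AlgSp.yon S).map c₀ ≫ p = q ∧ Mono p ∧ IsFinite c₀.left ∧ Flat c₀.left ∧
        Surjective c₀.left ∧ IsPullback t.left s.left c₀.left c₀.left := by
  obtain ⟨hfield, hfin, hpush⟩ := ring_data K str q B r s t hsq
  have hws : s.left ≫ str = r := Over.w s
  have hwt : t.left ≫ str = r := Over.w t
  generalize hσdef : (Spec.preimage s.left).hom = σ at hfield hfin hpush
  generalize hτdef : (Spec.preimage t.left).hom = τ at hfield hfin hpush
  have hσ : Spec.map (CommRingCat.ofHom σ) = s.left := by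
    rw [← hσdef]; exact Spec.map_preimage _
  have hτ : Spec.map (CommRingCat.ofHom τ) = t.left := by
    rw [← hτdef]; exact Spec.map_preimage _
  let ι : CommRingCat.of (RingHom.eqLocus σ τ) ⟶ CommRingCat.of K :=
    CommRingCat.ofHom (RingHom.eqLocus σ τ).subtype
  let π : Spec (CommRingCat.of K) ⟶ Spec (CommRingCat.of (RingHom.eqLocus σ τ)) := Spec.map ι
  have hpb : IsPullback t.left s.left π π := by
    have := isPullback_SpecMap_of_isPushout _ _ _ _ hpush
    rwa [hσ, hτ] at this
  -- properties of π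
  haveI : IsFinite π := (IsFinite.SpecMap_iff ι).2 hfin
  haveI hflat : Flat π := by
    letI : Field (RingHom.eqLocus σ τ) := hfield.toField
    rw [Flat.SpecMap_iff]
    show Module.Flat (RingHom.eqLocus σ τ) K
    infer_instance
  haveI hsurj : Surjective π := by
    letI : Field (RingHom.eqLocus σ τ) := hfield.toField
    refine ⟨fun y => ⟨default, Subsingleton.elim _ _⟩⟩
  haveI : EffectiveEpi π := inferInstance
  -- the structure morphism of the quotient
  have hdesc : ∀ {Z : Scheme.{u}} (g₁ g₂ : Z ⟶ Spec (CommRingCat.of K)), g₁ ≫ π = g₂ ≫ π →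
      g₁ ≫ str = g₂ ≫ str := by
    intro Z g₁ g₂ hg
    calc g₁ ≫ str = (hpb.lift g₁ g₂ hg ≫ t.left) ≫ str := by rw [hpb.lift_fst]
      _ = (hpb.lift g₁ g₂ hg ≫ s.left) ≫ str := by rw [Category.assoc, Category.assoc, hwt, hws]
      _ = g₂ ≫ str := by rw [hpb.lift_snd]
  let str' : Spec (CommRingCat.of (RingHom.eqLocus σ τ)) ⟶ S := EffectiveEpi.desc π str hdesc
  have hfac : π ≫ str' = str := EffectiveEpi.fac π str hdesc
  let c₀ : Over.mk str ⟶ Over.mk str' := Over.homMk π hfac
  -- lifting pairs with the same image in the quotient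
  have hliftR : ∀ {Z : Over S} (a b : Z ⟶ Over.mk str), a ≫ c₀ = b ≫ c₀ →
      ∃ l : Z ⟶ Over.mk r, l ≫ t = a ∧ l ≫ s = b := by
    intro Z a b hab
    have hab' : a.left ≫ π = b.left ≫ π := congrArg (fun m => m.left) hab
    refine ⟨Over.homMk (hpb.lift a.left b.left hab') ?_, ?_, ?_⟩
    · show hpb.lift a.left b.left hab' ≫ r = Z.hom
      calc hpb.lift a.left b.left hab' ≫ r
          = hpb.lift a.left b.left hab' ≫ t.left ≫ str := by rw [hwt]
        _ = a.left ≫ str := by rw [← Category.assoc, hpb.lift_fst]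
        _ = Z.hom := Over.w a
    · ext
      exact hpb.lift_fst _ _ _
    · ext
      exact hpb.lift_snd _ _ _
  have htsc : t ≫ c₀ = s ≫ c₀ := by
    ext
    exact hpb.w
  -- descending q
  haveI : LocallyOfFinitePresentation π := by
    letI : Field (RingHom.eqLocus σ τ) := hfield.toField
    rw [HasRingHomProperty.Spec_iff (P := @LocallyOfFinitePresentation)]
    show Algebra.FinitePresentation (RingHom.eqLocus σ τ) K
    haveI : Module.Finite (RingHom.eqLocus σ τ) K := hfin
    exact Algebra.FinitePresentation.of_finiteType.1 inferInstance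
  have hmem : Sieve.ofArrows (fun _ : PUnit.{u + 1} => Over.mk str) (fun _ => c₀) ∈
      AlgSp.J S (Over.mk str') :=
    Groth.Agent.Lib.T2H1.MonoGlue.ofArrows_mem _ _ (fun _ => hflat)
      (fun _ => (show LocallyOfFinitePresentation π from inferInstance))
      (fun w => ⟨PUnit.unit, hsurj.surj w⟩)
  have hshX : Presieve.IsSheaf (AlgSp.J S) X.obj := (isSheaf_iff_isSheaf_of_type _ _).1 X.property
  have h1 := hshX.isSheafFor _ hmem
  rw [Presieve.isSheafFor_arrows_iff] at h1
  obtain ⟨t₀, ht₀, -⟩ := h1 (fun _ => yEquiv _ X q) (by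
    intro _ _ Z gi gj hg
    rw [Groth.Agent.Lib.Helper12.ZarGlue.map_yEquiv, Groth.Agent.Lib.Helper12.ZarGlue.map_yEquiv]
    congr 1
    obtain ⟨l, hl1, hl2⟩ := hliftR gi gj hg
    rw [← hl1, ← hl2, Functor.map_comp, Functor.map_comp, Category.assoc, Category.assoc, hsq.w])
  let p : (AlgSp.yon S).obj (Over.mk str') ⟶ X := (yEquiv _ X).symm t₀
  have hp : (AlgSp.yon S).map c₀ ≫ p = q := by
    apply (yEquiv _ X).injective
    rw [← Groth.Agent.Lib.Helper12.ZarGlue.map_yEquiv, Equiv.apply_symm_apply]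
    exact ht₀ PUnit.unit
  -- p is a monomorphism
  have hmono : Mono p := by
    refine mono_of_forall_yon p (fun Z a b hab => ?_)
    obtain ⟨a₀, rfl⟩ := (AlgSp.yon S).map_surjective a
    obtain ⟨b₀, rfl⟩ := (AlgSp.yon S).map_surjective b
    congr 1
    -- the cover of Z on which a₀ and b₀ lift
    let Z₁ : Over S := Over.mk (pullback.fst a₀.left π ≫ Z.hom)
    let z₁ : Z₁ ⟶ Z := Over.homMk (pullback.fst a₀.left π) rfl
    let a₁ : Z₁ ⟶ Over.mk str := Over.homMk (pullback.snd a₀.left π) (by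
      show pullback.snd a₀.left π ≫ str = pullback.fst a₀.left π ≫ Z.hom
      rw [← hfac, ← Category.assoc, ← pullback.condition, Category.assoc]
      congr 1
      exact Over.w a₀)
    have ha₁ : a₁ ≫ c₀ = z₁ ≫ a₀ := by
      ext
      exact pullback.condition.symm
    let Z₂ : Over S := Over.mk (pullback.fst (z₁ ≫ b₀).left π ≫ Z₁.hom)
    let z₂ : Z₂ ⟶ Z₁ := Over.homMk (pullback.fst (z₁ ≫ b₀).left π) rfl
    let b₂ : Z₂ ⟶ Over.mk str := Over.homMk (pullback.snd (z₁ ≫ b₀).left π) (by
      show pullback.snd (z₁ ≫ b₀).left π ≫ str = pullback.fst (z₁ ≫ b₀).left π ≫ Z₁.hom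
      rw [← hfac, ← Category.assoc, ← pullback.condition, Category.assoc]
      congr 1
      exact Over.w (z₁ ≫ b₀))
    have hb₂ : b₂ ≫ c₀ = z₂ ≫ z₁ ≫ b₀ := by
      ext
      exact pullback.condition.symm
    have hq2 : (AlgSp.yon S).map (z₂ ≫ a₁) ≫ q = (AlgSp.yon S).map b₂ ≫ q := by
      rw [← hp, ← Category.assoc, ← Category.assoc, ← Functor.map_comp, ← Functor.map_comp,
        Category.assoc, ha₁, hb₂, Functor.map_comp, Functor.map_comp, Functor.map_comp,
        Functor.map_comp, Category.assoc, Category.assoc, Category.assoc, Category.assoc, hab]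
    obtain ⟨l, hl1, hl2⟩ := exists_lift_R K str q B r s t hsq _ _ hq2
    have heq : (z₂ ≫ z₁) ≫ a₀ = (z₂ ≫ z₁) ≫ b₀ := by
      rw [Category.assoc, Category.assoc, ← ha₁, ← hb₂, ← Category.assoc, ← hl1, ← hl2,
        Category.assoc, Category.assoc, htsc]
    haveI : Flat (z₂ ≫ z₁).left := by
      show Flat (pullback.fst (z₁ ≫ b₀).left π ≫ pullback.fst a₀.left π)
      infer_instance
    haveI : Surjective (z₂ ≫ z₁).left := by
      show Surjective (pullback.fst (z₁ ≫ b₀).left π ≫ pullback.fst a₀.left π)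
      infer_instance
    haveI : Epi (z₂ ≫ z₁) := Groth.Agent.Lib.Helper12.epi_of_flat_of_surjective_left _
    exact (cancel_epi (z₂ ≫ z₁)).1 heq
  exact ⟨RingHom.eqLocus σ τ, hfield.toField, str', c₀, p, hp, hmono, ‹IsFinite π›, hflat, hsurj, hpb⟩

end Aux

/-- **the quotient of `Spec K` by a finite equivalence relation coming from a sheaf**, for a
general representing scheme `R`. -/
theorem exists_mono_factor {X : AlgSp.Sp S} (K : Type u) [Field K]
    (str : Spec (CommRingCat.of K) ⟶ S) (q : (AlgSp.yon S).obj (Over.mk str) ⟶ X)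
    {R : Over S} (s t : R ⟶ Over.mk str)
    (hsq : IsPullback ((AlgSp.yon S).map t) ((AlgSp.yon S).map s) q q) [IsFinite s.left] :
    ∃ (C : Type u) (_ : Field C) (str' : Spec (CommRingCat.of C) ⟶ S)
      (c₀ : Over.mk str ⟶ Over.mk str') (p : (AlgSp.yon S).obj (Over.mk str') ⟶ X),
      (AlgSp.yon S).map c₀ ≫ p = q ∧ Mono p ∧ IsFinite c₀.left ∧ Flat c₀.left ∧
        Surjective c₀.left ∧ IsPullback t.left s.left c₀.left c₀.left := by
  haveI : IsAffine (Over.mk str).left := (inferInstance : IsAffine (Spec (CommRingCat.of K)))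
  haveI : IsAffine R.left := isAffine_of_isAffineHom s.left
  let iso : R.left ≅ Spec Γ(R.left, ⊤) := R.left.isoSpec
  let R' : Over S := Over.mk (iso.inv ≫ R.hom)
  let e : R' ≅ R := Over.isoMk iso.symm (by simp [R'])
  let s' : R' ⟶ Over.mk str := e.hom ≫ s
  let t' : R' ⟶ Over.mk str := e.hom ≫ t
  have hsq' : IsPullback ((AlgSp.yon S).map t') ((AlgSp.yon S).map s') q q := by
    refine IsPullback.of_iso hsq ((AlgSp.yon S).mapIso e.symm) (Iso.refl _) (Iso.refl _)
      (Iso.refl _) ?_ ?_ (by simp) (by simp)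
    · simp only [Iso.refl_hom, Category.comp_id, Functor.mapIso_hom, Iso.symm_hom, t',
        ← Functor.map_comp, Iso.inv_hom_id_assoc]
    · simp only [Iso.refl_hom, Category.comp_id, Functor.mapIso_hom, Iso.symm_hom, s',
        ← Functor.map_comp, Iso.inv_hom_id_assoc]
  haveI : IsFinite s'.left := by
    show IsFinite (iso.inv ≫ s.left)
    infer_instance
  obtain ⟨C, hC, str', c₀, p, h1, h2, h3, h4, h5, h6⟩ :=
    exists_mono_factor_aux K str q _ _ s' t' hsq'
  refine ⟨C, hC, str', c₀, p, h1, h2, h3, h4, h5, ?_⟩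
  have ht' : t'.left = iso.inv ≫ t.left := rfl
  have hs' : s'.left = iso.inv ≫ s.left := rfl
  refine IsPullback.of_iso h6 iso.symm (Iso.refl _) (Iso.refl _) (Iso.refl _) ?_ ?_ (by simp)
    (by simp)
  · simp [ht']
  · simp [hs']

end Groth.Agent.Lib.T2H1.FieldQuot
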