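import Mathlib
import Groth.Prelude.Def_AlgSpDec
import Groth.Agent.S10555
import Groth.Agent.Lib.T2H1FieldQuotB

/-!
# Field-valued points with finite self fibre product are represented by monomorphisms (helper1)
-/

set_option autoImplicit false
universe u
open CategoryTheory CategoryTheory.Limits AlgebraicGeometry Opposite
open AlgSp

namespace Groth.Agent.Lib.T2H1.FieldQuot

open Groth.Agent.S13210

variable {S : Scheme.{u}}

/-- the field-valued point defined by a morphism from the spectrum of a field. -/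
noncomputable def fieldPtOfHom {F : AlgSp.Sp S} (K : Type u) [Field K] (str : Spec (CommRingCat.of K) ⟶ S)
    (g : (AlgSp.yon S).obj (Over.mk str) ⟶ F) : AlgSp.FieldPt F :=
  ⟨K, str, yEquiv _ F g⟩

@[simp] lemma fieldPtOfHom_toHom {F : AlgSp.Sp S} (K : Type u) [Field K]
    (str : Spec (CommRingCat.of K) ⟶ S) (g : (AlgSp.yon S).obj (Over.mk str) ⟶ F) :
    (fieldPtOfHom K str g).toHom = g :=
  Equiv.symm_apply_apply _ _

lemma fieldPtOfHom_toHom_self {F : AlgSp.Sp S} (q : AlgSp.FieldPt F) :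
    fieldPtOfHom q.K q.str q.toHom = q := by
  cases q
  simp only [fieldPtOfHom]
  congr 1
  exact Equiv.apply_symm_apply _ _

/-- a factorisation of field-valued points gives the same point. -/
lemma mk_fieldPtOfHom_eq {F : AlgSp.Sp S} (K₁ K₂ : Type u) [Field K₁] [Field K₂]
    (str₁ : Spec (CommRingCat.of K₁) ⟶ S) (str₂ : Spec (CommRingCat.of K₂) ⟶ S)
    (c₀ : Over.mk str₁ ⟶ Over.mk str₂) (g₁ : (AlgSp.yon S).obj (Over.mk str₁) ⟶ F)
    (g₂ : (AlgSp.yon S).obj (Over.mk str₂) ⟶ F) (h : (AlgSp.yon S).map c₀ ≫ g₂ = g₁) :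
    AlgSp.Points.mk (fieldPtOfHom K₂ str₂ g₂) = AlgSp.Points.mk (fieldPtOfHom K₁ str₁ g₁) := by
  refine AlgSp.Points.sound ⟨K₁, inferInstance, str₁, c₀, 𝟙 _, ?_⟩
  show F.obj.map c₀.op (yEquiv _ F g₂) = F.obj.map (𝟙 _).op (yEquiv _ F g₁)
  rw [Groth.Agent.Lib.Helper12.ZarGlue.map_yEquiv, h, op_id, F.obj.map_id]
  rfl

/-- **a field-valued point whose self fibre product is étale and quasi-compact over it is
represented by a monomorphism.** -/
theorem exists_mono_of_etale_quasiCompact {X : AlgSp.Sp S} (q : AlgSp.FieldPt X) {P : AlgSp.Sp S}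
    (fst snd : P ⟶ (AlgSp.yon S).obj q.pt) (hsq : IsPullback fst snd q.toHom q.toHom)
    (he : AlgSp.RepWith @Etale fst) (hqc : AlgSp.RepWith @QuasiCompact fst) :
    ∃ (C : Type u) (_ : Field C) (str' : Spec (CommRingCat.of C) ⟶ S)
      (c₀ : q.pt ⟶ Over.mk str') (p : (AlgSp.yon S).obj (Over.mk str') ⟶ X),
      (AlgSp.yon S).map c₀ ≫ p = q.toHom ∧ Mono p ∧ IsFinite c₀.left ∧ Flat c₀.left ∧
        Surjective c₀.left ∧ Etale c₀.left := by
  obtain ⟨R, t, pr, sq⟩ := he.1 (𝟙 ((AlgSp.yon S).obj q.pt))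
  haveI : Etale t.left := he.2 _ _ _ sq
  haveI : QuasiCompact t.left := hqc.2 _ _ _ sq
  haveI : IsIso pr := sq.isIso_fst_of_isIso
  obtain ⟨s, hs⟩ := (AlgSp.yon S).map_surjective (pr ≫ snd)
  have ht : (AlgSp.yon S).map t = pr ≫ fst := by
    have := sq.w
    rw [Category.comp_id] at this
    exact this.symm
  have hsq' : IsPullback ((AlgSp.yon S).map s) ((AlgSp.yon S).map t) q.toHom q.toHom := by
    refine IsPullback.of_iso hsq.flip (asIso pr).symm (Iso.refl _) (Iso.refl _) (Iso.refl _)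
      ?_ ?_ (by simp) (by simp)
    · simp [hs]
    · simp [ht]
  haveI : LocallyQuasiFinite t.left := Groth.Agent.S10555.lqf_of_etale t.left
  haveI : IsLocallyArtinian q.pt.left :=
    Scheme.isLocallyArtinianScheme_Spec.mpr (inferInstance : IsArtinianRing q.K)
  haveI : IsFinite t.left := IsFinite.of_locallyQuasiFinite t.left
  obtain ⟨C, hC, str', c₀, p, h1, h2, h3, h4, h5, h6⟩ :=
    exists_mono_factor q.K q.str q.toHom t s hsq'
  refine ⟨C, hC, str', c₀, p, h1, h2, h3, h4, h5, ?_⟩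
  haveI := h3
  haveI := h4
  haveI := h5
  exact MorphismProperty.of_isPullback_of_descendsAlong (P := @Etale)
    (Q := @Surjective ⊓ @Flat ⊓ @QuasiCompact) h6.flip ⟨⟨h5, h4⟩, inferInstance⟩ ‹Etale t.left›

end Groth.Agent.Lib.T2H1.FieldQuot
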