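import Mathlib
import Groth.Agent.Lib.T2H1FieldQuotC

/-!
# Field quotients: quasi-separated sheaves (helper1)
-/

set_option autoImplicit false
universe u
open CategoryTheory CategoryTheory.Limits AlgebraicGeometry Opposite
open AlgSp

namespace Groth.Agent.Lib.T2H1.FieldQuot

open Groth.Agent.S13210

variable {S : Scheme.{u}}

/-- if the diagonal of `X` is quasi-compact, the self fibre product of a morphism from a
quasi-compact scheme (quasi-compact over `S`) is quasi-compact. -/
theorem compactSpace_of_isQuasiSeparatedSp {X : AlgSp.Sp S} (hX : AlgSp.IsQuasiSeparatedSp X)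
    {T R : Over S} (p : (AlgSp.yon S).obj T ⟶ X) (s t : R ⟶ T)
    (hsq : IsPullback ((AlgSp.yon S).map s) ((AlgSp.yon S).map t) p p) [QuasiCompact T.hom]
    [CompactSpace ↥T.left] : CompactSpace ↥R.left := by
  let U : Over S := Over.mk (pullback.fst T.hom T.hom ≫ T.hom)
  let pr₁ : U ⟶ T := Over.homMk (pullback.fst T.hom T.hom) rfl
  let pr₂ : U ⟶ T := Over.homMk (pullback.snd T.hom T.hom) pullback.condition.symm
  have hU : ∀ {Z : Over S} (a b : Z ⟶ U), a ≫ pr₁ = b ≫ pr₁ → a ≫ pr₂ = b ≫ pr₂ → a = b := by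
    intro Z a b h1 h2
    ext
    apply pullback.hom_ext
    · exact congrArg (fun m => m.left) h1
    · exact congrArg (fun m => m.left) h2
  let w : R ⟶ U := Over.homMk (pullback.lift s.left t.left (by rw [Over.w s, Over.w t])) (by
    show pullback.lift s.left t.left _ ≫ pullback.fst T.hom T.hom ≫ T.hom = R.hom
    rw [← Category.assoc, pullback.lift_fst]
    exact Over.w s)
  have hw1 : w ≫ pr₁ = s := by
    ext
    exact pullback.lift_fst _ _ _
  have hw2 : w ≫ pr₂ = t := by
    ext
    exact pullback.lift_snd _ _ _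
  let g : (AlgSp.yon S).obj U ⟶ X ⨯ X :=
    prod.lift ((AlgSp.yon S).map pr₁ ≫ p) ((AlgSp.yon S).map pr₂ ≫ p)
  have hcomm : ((AlgSp.yon S).map s ≫ p) ≫ Limits.diag X = (AlgSp.yon S).map w ≫ g := by
    apply Limits.prod.hom_ext
    · simp only [Category.assoc, Limits.diag, prod.lift_fst, Category.comp_id, g]
      rw [← Category.assoc, ← Functor.map_comp, hw1]
    · simp only [Category.assoc, Limits.diag, prod.lift_snd, Category.comp_id, g]
      rw [← Category.assoc, ← Functor.map_comp, hw2, hsq.w]
  have sqd : IsPullback ((AlgSp.yon S).map s ≫ p) ((AlgSp.yon S).map w) (Limits.diag X) g := by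
    refine isPullback_of_yon hcomm (fun Z b c hbc => ?_)
    obtain ⟨c₀, rfl⟩ := (AlgSp.yon S).map_surjective c
    have h1 : b = (AlgSp.yon S).map (c₀ ≫ pr₁) ≫ p := by
      have := congrArg (fun m => m ≫ prod.fst) hbc
      simpa only [Category.assoc, Limits.diag, prod.lift_fst, Category.comp_id, g,
        Functor.map_comp] using this
    have h2 : b = (AlgSp.yon S).map (c₀ ≫ pr₂) ≫ p := by
      have := congrArg (fun m => m ≫ prod.snd) hbc
      simpa only [Category.assoc, Limits.diag, prod.lift_snd, Category.comp_id, g,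
        Functor.map_comp] using this
    obtain ⟨l, hl⟩ := (AlgSp.yon S).map_surjective (hsq.lift _ _ (h1.symm.trans h2))
    have hl1 : l ≫ s = c₀ ≫ pr₁ := by
      apply (AlgSp.yon S).map_injective
      rw [Functor.map_comp, hl, hsq.lift_fst]
    have hl2 : l ≫ t = c₀ ≫ pr₂ := by
      apply (AlgSp.yon S).map_injective
      rw [Functor.map_comp, hl, hsq.lift_snd]
    have hlw : l ≫ w = c₀ := hU _ _ (by rw [Category.assoc, hw1, hl1])
      (by rw [Category.assoc, hw2, hl2])
    refine ⟨(AlgSp.yon S).map l, ⟨?_, ?_⟩, ?_⟩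
    · rw [← Category.assoc, ← Functor.map_comp, hl1, h1]
    · rw [← Functor.map_comp, hlw]
    · rintro a' ⟨-, ha'⟩
      obtain ⟨l', rfl⟩ := (AlgSp.yon S).map_surjective a'
      have hl'w : l' ≫ w = c₀ := by
        apply (AlgSp.yon S).map_injective
        rw [Functor.map_comp]
        exact ha'
      congr 1
      apply (AlgSp.yon S).map_injective
      apply hsq.hom_ext
      · rw [← Functor.map_comp, ← Functor.map_comp, hl1, ← hw1, ← Category.assoc, hl'w]
      · rw [← Functor.map_comp, ← Functor.map_comp, hl2, ← hw2, ← Category.assoc, hl'w]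
  haveI : QuasiCompact w.left := hX.2 g _ w sqd
  haveI : CompactSpace ↥U.left := by
    show CompactSpace ↥(pullback T.hom T.hom)
    infer_instance
  exact QuasiCompact.compactSpace_of_compactSpace w.left

/-- the structure morphism of the spectrum of a field is quasi-compact. -/
instance quasiCompact_of_field (K : Type u) [Field K] (str : Spec (CommRingCat.of K) ⟶ S) :
    QuasiCompact str := by
  haveI : Subsingleton ↥(Spec (CommRingCat.of K)) :=
    inferInstanceAs (Subsingleton (PrimeSpectrum K))
  refine ⟨fun U _ _ => ?_⟩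
  exact (Set.toFinite _).isCompact

/-- **variant of `exists_mono_of_etale_quasiCompact` with an explicit representing scheme.** -/
theorem exists_mono_of_etale_compact {X : AlgSp.Sp S} (K : Type u) [Field K]
    (str : Spec (CommRingCat.of K) ⟶ S) (q : (AlgSp.yon S).obj (Over.mk str) ⟶ X)
    {R : Over S} (s t : R ⟶ Over.mk str)
    (hsq : IsPullback ((AlgSp.yon S).map s) ((AlgSp.yon S).map t) q q) [Etale t.left]
    [CompactSpace ↥R.left] :
    ∃ (C : Type u) (_ : Field C) (str' : Spec (CommRingCat.of C) ⟶ S)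
      (c₀ : Over.mk str ⟶ Over.mk str') (p : (AlgSp.yon S).obj (Over.mk str') ⟶ X),
      (AlgSp.yon S).map c₀ ≫ p = q ∧ Mono p ∧ IsFinite c₀.left ∧ Flat c₀.left ∧
        Surjective c₀.left ∧ Etale c₀.left := by
  haveI : LocallyQuasiFinite t.left := Groth.Agent.S10555.lqf_of_etale t.left
  haveI : IsAffine (Over.mk str).left := (inferInstance : IsAffine (Spec (CommRingCat.of K)))
  haveI : QuasiCompact t.left :=
    (HasAffineProperty.iff_of_isAffine (P := @QuasiCompact)).2 ‹CompactSpace ↥R.left›
  haveI : IsLocallyArtinian (Over.mk str).left :=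
    Scheme.isLocallyArtinianScheme_Spec.mpr (inferInstance : IsArtinianRing K)
  haveI : IsFinite t.left := IsFinite.of_locallyQuasiFinite t.left
  obtain ⟨C, hC, str', c₀, p, h1, h2, h3, h4, h5, h6⟩ := exists_mono_factor K str q t s hsq
  refine ⟨C, hC, str', c₀, p, h1, h2, h3, h4, h5, ?_⟩
  haveI := h3
  haveI := h4
  haveI := h5
  exact MorphismProperty.of_isPullback_of_descendsAlong (P := @Etale)
    (Q := @Surjective ⊓ @Flat ⊓ @QuasiCompact) h6.flip ⟨⟨h5, h4⟩, inferInstance⟩ ‹Etale t.left›

end Groth.Agent.Lib.T2H1.FieldQuot
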