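import Mathlib

/-!
# Monomorphisms into the spectrum of a field (helper1, team 2)

* `surjective_of_isEpi_field` : an epimorphism of commutative rings between fields is surjective.
* `isIso_of_mono_of_nonempty` : a monomorphism from a nonempty scheme to the spectrum of a field is
  an isomorphism.
-/

set_option autoImplicit false
universe u
open CategoryTheory CategoryTheory.Limits AlgebraicGeometry TensorProduct

namespace Groth.Agent.Lib.T2H1.MonoField

/-- an epimorphism of commutative rings between fields is surjective. -/
lemma surjective_of_isEpi_field (K L : Type*) [Field K] [Field L] [Algebra K L]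
    [Algebra.IsEpi K L] : Function.Surjective (algebraMap K L) := by
  intro a
  by_contra ha
  let W : Submodule K L := LinearMap.range (Algebra.linearMap K L)
  have haW : a ∉ W := fun ⟨c, hc⟩ => ha ⟨c, hc⟩
  obtain ⟨f, hfa, hfW⟩ := Submodule.exists_le_ker_of_notMem haW
  have hf1 : f 1 = 0 := by
    have : (1 : L) ∈ W := ⟨1, by simp⟩
    exact hfW this
  -- the bilinear map `(x, y) ↦ f y • x`
  let B : L →ₗ[K] L →ₗ[K] L := LinearMap.mk₂ K (fun x y => f y • x)
    (fun x x' y => smul_add _ _ _)
    (fun c x y => smul_comm _ _ _)
    (fun x y y' => by rw [map_add, add_smul])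
    (fun c x y => by rw [map_smul, smul_eq_mul, mul_smul])
  have h1 := (Algebra.isEpi_iff_forall_one_tmul_eq K L).1 inferInstance a
  have h2 := congrArg (TensorProduct.lift B) h1
  simp only [TensorProduct.lift.tmul, B, LinearMap.mk₂_apply, hf1, zero_smul] at h2
  have h3 : f a = 0 := by
    by_contra h
    have : (1 : L) = 0 := by
      have := congrArg (fun t => (f a)⁻¹ • t) h2
      simpa [smul_smul, inv_mul_cancel₀ h] using this
    exact one_ne_zero this
  exact hfa h3

/-- a ring map between fields which is an epimorphism of commutative rings is bijective. -/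
lemma bijective_of_epi_field {K L : Type u} [Field K] [Field L]
    (φ : CommRingCat.of K ⟶ CommRingCat.of L) [Epi φ] : Function.Bijective φ.hom := by
  refine ⟨φ.hom.injective, ?_⟩
  letI : Algebra K L := φ.hom.toAlgebra
  haveI : Algebra.IsEpi K L := by
    rw [← CommRingCat.epi_iff_epi]
    exact (inferInstance : Epi φ)
  exact surjective_of_isEpi_field K L

/-- if `Spec.map φ` is a monomorphism then `φ` is an epimorphism. -/
lemma epi_of_mono_specMap {A B : CommRingCat.{u}} (φ : A ⟶ B) [Mono (Spec.map φ)] : Epi φ := by
  refine ⟨fun {C} α β h => ?_⟩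
  apply Spec.map_injective
  rw [← cancel_mono (Spec.map φ), ← Spec.map_comp, ← Spec.map_comp, h]

/-- a monomorphism `Spec L ⟶ Spec K` of spectra of fields is an isomorphism. -/
lemma isIso_of_mono_field {K L : Type u} [Field K] [Field L]
    (g : Spec (CommRingCat.of L) ⟶ Spec (CommRingCat.of K)) [Mono g] : IsIso g := by
  obtain ⟨φ, rfl⟩ := Spec.map_surjective g
  haveI : Epi φ := epi_of_mono_specMap φ
  have hb := bijective_of_epi_field φ
  haveI : IsIso φ := by
    rw [ConcreteCategory.isIso_iff_bijective]
    exact hb
  infer_instance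

/-- a monomorphism from a nonempty scheme to the spectrum of a field is an isomorphism. -/
theorem isIso_of_mono_of_nonempty {K : Type u} [Field K] (T : Scheme.{u}) [Nonempty ↥T]
    (m : T ⟶ Spec (CommRingCat.of K)) [Mono m] : IsIso m := by
  obtain ⟨t⟩ := (inferInstance : Nonempty ↥T)
  let g : Spec (T.residueField t) ⟶ Spec (CommRingCat.of K) := T.fromSpecResidueField t ≫ m
  haveI : Mono g := mono_comp _ _
  haveI : IsIso g := isIso_of_mono_field (L := T.residueField t) g
  refine ⟨inv g ≫ T.fromSpecResidueField t, ?_, ?_⟩
  · rw [← cancel_mono m, Category.assoc, Category.assoc]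
    show m ≫ inv g ≫ g = 𝟙 T ≫ m
    rw [IsIso.inv_hom_id, Category.comp_id, Category.id_comp]
  · rw [Category.assoc]
    show inv g ≫ g = 𝟙 _
    exact IsIso.inv_hom_id g

end Groth.Agent.Lib.T2H1.MonoField
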