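import Mathlib
import Groth.Agent.Lib.T2H1FieldQuotD
import Groth.Agent.Lib.T2H1MonoField
import Groth.Agent.Lib.T2H1EtField
import Groth.Agent.Lib.Helper12ZarGlue

/-!
# Field quotients: monomorphisms into schemes étale over a field (helper1)
-/

set_option autoImplicit false
universe u
open CategoryTheory CategoryTheory.Limits AlgebraicGeometry Opposite
open AlgSp

namespace Groth.Agent.Lib.T2H1.FieldQuot

open Groth.Agent.S13210

/-- a one-point scheme étale over a field is the spectrum of a field. -/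
lemma exists_iso_spec_field {K : Type u} [Field K] (Y : Scheme.{u}) [Subsingleton ↥Y]
    [Nonempty ↥Y] (f : Y ⟶ Spec (CommRingCat.of K)) [Etale f] :
    ∃ (L : Type u) (_ : Field L), Nonempty (Y ≅ Spec (CommRingCat.of L)) := by
  haveI : Finite ↥Y := Finite.of_subsingleton
  haveI : IsAffine Y := inferInstance
  let iso : Y ≅ Spec Γ(Y, ⊤) := Y.isoSpec
  let φ : CommRingCat.of K ⟶ Γ(Y, ⊤) := Spec.preimage (iso.inv ≫ f)
  have hφ : Spec.map φ = iso.inv ≫ f := Spec.map_preimage _
  haveI : Etale (Spec.map φ) := by rw [hφ]; infer_instance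
  have het : φ.hom.Etale := (HasRingHomProperty.Spec_iff (P := @Etale)).1 inferInstance
  letI : Algebra K Γ(Y, ⊤) := φ.hom.toAlgebra
  haveI : Algebra.Etale K Γ(Y, ⊤) := het
  haveI : IsReduced Γ(Y, ⊤) := Algebra.FormallyUnramified.isReduced_of_field K Γ(Y, ⊤)
  haveI : Subsingleton (PrimeSpectrum Γ(Y, ⊤)) :=
    (Scheme.homeoOfIso iso).symm.injective.subsingleton
  haveI : Nonempty (PrimeSpectrum Γ(Y, ⊤)) := (Scheme.homeoOfIso iso).symm.surjective.nonempty
  haveI : Nontrivial Γ(Y, ⊤) := (PrimeSpectrum.nonempty_iff_nontrivial).1 inferInstance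
  have hfield : IsField Γ(Y, ⊤) :=
    PrimeSpectrum.subsingleton_iff_isField_of_isReduced.1 inferInstance
  exact ⟨Γ(Y, ⊤), hfield.toField, ⟨iso⟩⟩

/-- **a monomorphism into a scheme étale over a field is an open immersion.** -/
theorem isOpenImmersion_of_mono_of_etale_field {K : Type u} [Field K] {Z E : Scheme.{u}}
    (e₁ : E ⟶ Spec (CommRingCat.of K)) [Etale e₁] (m : Z ⟶ E) [Mono m] : IsOpenImmersion m := by
  haveI : LocallyQuasiFinite e₁ := Groth.Agent.S10555.lqf_of_etale e₁
  haveI : DiscreteTopology ↥E := Groth.Agent.Lib.T2H1.EtField.discreteTopology_of_lqf_field K e₁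
  let O : ↥E → E.Opens := fun e => ⟨{e}, isOpen_discrete _⟩
  have hO : ⨆ e, O e = ⊤ := by
    rw [eq_top_iff]
    intro e _
    exact TopologicalSpace.Opens.mem_iSup.2 ⟨e, rfl⟩
  rw [IsZariskiLocalAtTarget.iff_of_iSup_eq_top (P := @IsOpenImmersion) O hO]
  intro e
  haveI : Mono (m ∣_ O e) := (isPullback_morphismRestrict m (O e)).mono_fst_of_mono
  by_cases hne : Nonempty ↥(m ⁻¹ᵁ O e)
  · haveI : Nonempty ↥((m ⁻¹ᵁ O e).toScheme) := hne
    haveI : Subsingleton ↥((O e).toScheme) := by
      refine ⟨fun x y => Subtype.ext ?_⟩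
      have hx : x.1 = e := x.2
      have hy : y.1 = e := y.2
      rw [hx, hy]
    haveI : Nonempty ↥((O e).toScheme) := ⟨⟨e, rfl⟩⟩
    obtain ⟨L, hL, ⟨i⟩⟩ := exists_iso_spec_field ((O e).toScheme) ((O e).ι ≫ e₁)
    haveI : Mono ((m ∣_ O e) ≫ i.hom) := mono_comp _ _
    haveI : IsIso ((m ∣_ O e) ≫ i.hom) :=
      Groth.Agent.Lib.T2H1.MonoField.isIso_of_mono_of_nonempty _ _
    have : m ∣_ O e = ((m ∣_ O e) ≫ i.hom) ≫ i.inv := by simp
    rw [this]
    infer_instance
  · haveI : IsEmpty ↥((m ⁻¹ᵁ O e).toScheme) := not_nonempty_iff.1 hne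
    infer_instance

variable {S : Scheme.{u}}

/-- **the self fibre product of `Spec K ⟶ U ⟶ X`, with `U ⟶ X` étale and `Spec K ⟶ U` a
monomorphism, is étale over `Spec K`.** -/
theorem etale_of_mono_factor {X : AlgSp.Sp S} {U : Over S} (a : (AlgSp.yon S).obj U ⟶ X)
    (ha : AlgSp.RepWith @Etale a) (K : Type u) [Field K] (str : Spec (CommRingCat.of K) ⟶ S)
    (ι : Over.mk str ⟶ U) [Mono ι.left] {R : Over S} (s t : R ⟶ Over.mk str)
    (hsq : IsPullback ((AlgSp.yon S).map s) ((AlgSp.yon S).map t) ((AlgSp.yon S).map ι ≫ a)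
      ((AlgSp.yon S).map ι ≫ a)) : Etale s.left := by
  obtain ⟨E, e₁, pr, sqE⟩ := ha.1 ((AlgSp.yon S).map ι ≫ a)
  obtain ⟨e₂, rfl⟩ := (AlgSp.yon S).map_surjective pr
  haveI : Etale e₁.left := ha.2 _ _ e₁ sqE
  have hw : (AlgSp.yon S).map (t ≫ ι) ≫ a = (AlgSp.yon S).map s ≫ (AlgSp.yon S).map ι ≫ a := by
    rw [Functor.map_comp, Category.assoc, hsq.w]
  obtain ⟨m, hm⟩ := (AlgSp.yon S).map_surjective (sqE.lift _ _ hw)
  have hm1 : m ≫ e₂ = t ≫ ι := by
    apply (AlgSp.yon S).map_injective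
    rw [Functor.map_comp, hm, sqE.lift_fst]
  have hm2 : m ≫ e₁ = s := by
    apply (AlgSp.yon S).map_injective
    rw [Functor.map_comp, hm, sqE.lift_snd]
  haveI : Mono ι := (Over.forget S).mono_of_mono_map (inferInstanceAs (Mono ι.left))
  haveI : Mono m := by
    refine ⟨fun {Z} l₁ l₂ h => ?_⟩
    have h1 : l₁ ≫ s = l₂ ≫ s := by rw [← hm2, ← Category.assoc, h, Category.assoc]
    have h2 : l₁ ≫ t = l₂ ≫ t := by
      rw [← cancel_mono ι, Category.assoc, Category.assoc, ← hm1, ← Category.assoc, h,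
        Category.assoc]
    apply (AlgSp.yon S).map_injective
    apply hsq.hom_ext
    · rw [← Functor.map_comp, ← Functor.map_comp, h1]
    · rw [← Functor.map_comp, ← Functor.map_comp, h2]
  haveI : Mono m.left := inferInstance
  haveI : IsOpenImmersion m.left := isOpenImmersion_of_mono_of_etale_field e₁.left m.left
  have : s.left = m.left ≫ e₁.left := by rw [← Over.comp_left, hm2]
  rw [this]
  infer_instance

/-- the fibre product of two morphisms from schemes to a sheaf with quasi-compact diagonal is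
quasi-compact, when one scheme is quasi-compact over `S` and the other is quasi-compact. -/
theorem compactSpace_pullback_of_isQuasiSeparatedSp {X : AlgSp.Sp S}
    (hX : AlgSp.IsQuasiSeparatedSp X) {U V P : Over S} (a : (AlgSp.yon S).obj U ⟶ X)
    (b : (AlgSp.yon S).obj V ⟶ X) (fst : P ⟶ U) (snd : P ⟶ V)
    (hsq : IsPullback ((AlgSp.yon S).map fst) ((AlgSp.yon S).map snd) a b) [QuasiCompact U.hom]
    [CompactSpace ↥V.left] : CompactSpace ↥P.left := by
  let W : Over S := Over.mk (pullback.fst U.hom V.hom ≫ U.hom)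
  let pr₁ : W ⟶ U := Over.homMk (pullback.fst U.hom V.hom) rfl
  let pr₂ : W ⟶ V := Over.homMk (pullback.snd U.hom V.hom) pullback.condition.symm
  have hW : ∀ {Z : Over S} (x y : Z ⟶ W), x ≫ pr₁ = y ≫ pr₁ → x ≫ pr₂ = y ≫ pr₂ → x = y := by
    intro Z x y h1 h2
    ext
    apply pullback.hom_ext
    · exact congrArg (fun m => m.left) h1
    · exact congrArg (fun m => m.left) h2
  let w : P ⟶ W := Over.homMk (pullback.lift fst.left snd.left (by rw [Over.w fst, Over.w snd])) (by
    show pullback.lift fst.left snd.left _ ≫ pullback.fst U.hom V.hom ≫ U.hom = P.hom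
    rw [← Category.assoc, pullback.lift_fst]
    exact Over.w fst)
  have hw1 : w ≫ pr₁ = fst := by
    ext
    exact pullback.lift_fst _ _ _
  have hw2 : w ≫ pr₂ = snd := by
    ext
    exact pullback.lift_snd _ _ _
  let g : (AlgSp.yon S).obj W ⟶ X ⨯ X :=
    prod.lift ((AlgSp.yon S).map pr₁ ≫ a) ((AlgSp.yon S).map pr₂ ≫ b)
  have hcomm : ((AlgSp.yon S).map fst ≫ a) ≫ Limits.diag X = (AlgSp.yon S).map w ≫ g := by
    apply Limits.prod.hom_ext
    · simp only [Category.assoc, Limits.diag, prod.lift_fst, Category.comp_id, g]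
      rw [← Category.assoc, ← Functor.map_comp, hw1]
    · simp only [Category.assoc, Limits.diag, prod.lift_snd, Category.comp_id, g]
      rw [← Category.assoc, ← Functor.map_comp, hw2, hsq.w]
  have sqd : IsPullback ((AlgSp.yon S).map fst ≫ a) ((AlgSp.yon S).map w) (Limits.diag X) g := by
    refine isPullback_of_yon hcomm (fun Z b' c hbc => ?_)
    obtain ⟨c₀, rfl⟩ := (AlgSp.yon S).map_surjective c
    have h1 : b' = (AlgSp.yon S).map (c₀ ≫ pr₁) ≫ a := by
      have := congrArg (fun m => m ≫ prod.fst) hbc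
      simpa only [Category.assoc, Limits.diag, prod.lift_fst, Category.comp_id, g,
        Functor.map_comp] using this
    have h2 : b' = (AlgSp.yon S).map (c₀ ≫ pr₂) ≫ b := by
      have := congrArg (fun m => m ≫ prod.snd) hbc
      simpa only [Category.assoc, Limits.diag, prod.lift_snd, Category.comp_id, g,
        Functor.map_comp] using this
    obtain ⟨l, hl⟩ := (AlgSp.yon S).map_surjective (hsq.lift _ _ (h1.symm.trans h2))
    have hl1 : l ≫ fst = c₀ ≫ pr₁ := by
      apply (AlgSp.yon S).map_injective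
      rw [Functor.map_comp, hl, hsq.lift_fst]
    have hl2 : l ≫ snd = c₀ ≫ pr₂ := by
      apply (AlgSp.yon S).map_injective
      rw [Functor.map_comp, hl, hsq.lift_snd]
    have hlw : l ≫ w = c₀ := hW _ _ (by rw [Category.assoc, hw1, hl1])
      (by rw [Category.assoc, hw2, hl2])
    refine ⟨(AlgSp.yon S).map l, ⟨?_, ?_⟩, ?_⟩
    · rw [← Category.assoc, ← Functor.map_comp, hl1, h1]
    · rw [← Functor.map_comp, hlw]
    · rintro a' ⟨-, ha'⟩
      obtain ⟨l', rfl⟩ := (AlgSp.yon S).map_surjective a'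
      have hl'w : l' ≫ w = c₀ := by
        apply (AlgSp.yon S).map_injective
        rw [Functor.map_comp]
        exact ha'
      congr 1
      apply (AlgSp.yon S).map_injective
      apply hsq.hom_ext
      · rw [← Functor.map_comp, ← Functor.map_comp, hl1, ← hw1, ← Category.assoc, hl'w]
      · rw [← Functor.map_comp, ← Functor.map_comp, hl2, ← hw2, ← Category.assoc, hl'w]
  haveI : QuasiCompact w.left := hX.2 g _ w sqd
  haveI : CompactSpace ↥W.left := by
    show CompactSpace ↥(pullback U.hom V.hom)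
    infer_instance
  exact QuasiCompact.compactSpace_of_compactSpace w.left

/-- a morphism from a scheme quasi-compact over `S` to a quasi-separated algebraic space is
quasi-compact. -/
theorem repWith_quasiCompact_of_isQuasiSeparatedSp {X : AlgSp.Sp S} (hXa : AlgSp.IsAlgSpace X)
    (hX : AlgSp.IsQuasiSeparatedSp X) {U : Over S} (a : (AlgSp.yon S).obj U ⟶ X)
    [QuasiCompact U.hom] : AlgSp.RepWith @QuasiCompact a := by
  refine Groth.Agent.Lib.Helper12.ZarGlue.repWith_of_affine @QuasiCompact a (fun Z hZ g => ?_)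
  obtain ⟨W, i, fst, sq⟩ := hXa.representable_from_yon a g
  obtain ⟨f₀, rfl⟩ := (AlgSp.yon S).map_surjective fst
  haveI := hZ
  haveI : CompactSpace ↥Z.left := inferInstance
  haveI : CompactSpace ↥W.left := compactSpace_pullback_of_isQuasiSeparatedSp hX a g f₀ i sq
  exact ⟨W, i, _, sq, (HasAffineProperty.iff_of_isAffine (P := @QuasiCompact)).2 inferInstance⟩

end Groth.Agent.Lib.T2H1.FieldQuot
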