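import Mathlib
import Groth.Agent.Lib.T2H1FieldQuotE
import Groth.Agent.S10177

/-!
# Field quotients: relative quasi-separatedness (helper1)

Relative versions (over a scheme `T₀` over `S`) of the compactness lemmas of
`T2H1FieldQuotD`/`T2H1FieldQuotE`, and decency of algebraic spaces quasi-separated over a scheme.
-/

set_option autoImplicit false
universe u
open CategoryTheory CategoryTheory.Limits AlgebraicGeometry Opposite
open AlgSp

namespace Groth.Agent.Lib.T2H1.FieldQuot

open Groth.Agent.S13210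

variable {S : Scheme.{u}}

/-- the fibre product of two morphisms from schemes to a sheaf `X` quasi-separated over a scheme
`T₀` is quasi-compact, when one scheme is quasi-compact over `T₀` and the other is quasi-compact. -/
theorem compactSpace_pullback_of_isQuasiSeparatedMor {X : AlgSp.Sp S} {T₀ : Over S}
    (π : X ⟶ (AlgSp.yon S).obj T₀) (hπ : AlgSp.IsQuasiSeparatedMor π) {U V P : Over S}
    (a : (AlgSp.yon S).obj U ⟶ X) (b : (AlgSp.yon S).obj V ⟶ X) (fst : P ⟶ U) (snd : P ⟶ V)
    (hsq : IsPullback ((AlgSp.yon S).map fst) ((AlgSp.yon S).map snd) a b)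
    (u₀ : U ⟶ T₀) (v₀ : V ⟶ T₀) (hu : a ≫ π = (AlgSp.yon S).map u₀)
    (hv : b ≫ π = (AlgSp.yon S).map v₀) [QuasiCompact u₀.left]
    [CompactSpace ↥V.left] : CompactSpace ↥P.left := by
  have hfs : fst ≫ u₀ = snd ≫ v₀ := by
    apply (AlgSp.yon S).map_injective
    rw [Functor.map_comp, Functor.map_comp, ← hu, ← hv, ← Category.assoc, ← Category.assoc, hsq.w]
  let W : Over S := Over.mk (pullback.fst u₀.left v₀.left ≫ U.hom)
  let pr₁ : W ⟶ U := Over.homMk (pullback.fst u₀.left v₀.left) rfl
  let pr₂ : W ⟶ V := Over.homMk (pullback.snd u₀.left v₀.left) (by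
    show pullback.snd u₀.left v₀.left ≫ V.hom = pullback.fst u₀.left v₀.left ≫ U.hom
    rw [← Over.w u₀, ← Over.w v₀, ← Category.assoc, ← Category.assoc, pullback.condition])
  have hpr : pr₁ ≫ u₀ = pr₂ ≫ v₀ := by
    ext
    exact pullback.condition
  have hW : ∀ {Z : Over S} (x y : Z ⟶ W), x ≫ pr₁ = y ≫ pr₁ → x ≫ pr₂ = y ≫ pr₂ → x = y := by
    intro Z x y h1 h2
    ext
    apply pullback.hom_ext
    · exact congrArg (fun m => m.left) h1
    · exact congrArg (fun m => m.left) h2
  let w : P ⟶ W := Over.homMk (pullback.lift fst.left snd.left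
      (by rw [← Over.comp_left, ← Over.comp_left, hfs])) (by
    show pullback.lift fst.left snd.left _ ≫ pullback.fst u₀.left v₀.left ≫ U.hom = P.hom
    rw [← Category.assoc, pullback.lift_fst]
    exact Over.w fst)
  have hw1 : w ≫ pr₁ = fst := by
    ext
    exact pullback.lift_fst _ _ _
  have hw2 : w ≫ pr₂ = snd := by
    ext
    exact pullback.lift_snd _ _ _
  let g : (AlgSp.yon S).obj W ⟶ pullback π π :=
    pullback.lift ((AlgSp.yon S).map pr₁ ≫ a) ((AlgSp.yon S).map pr₂ ≫ b) (by
      rw [Category.assoc, Category.assoc, hu, hv, ← Functor.map_comp, ← Functor.map_comp, hpr])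
  have hcomm : ((AlgSp.yon S).map fst ≫ a) ≫ pullback.diagonal π = (AlgSp.yon S).map w ≫ g := by
    apply pullback.hom_ext
    · simp only [Category.assoc, pullback.diagonal_fst, pullback.lift_fst, Category.comp_id, g]
      rw [← Category.assoc, ← Functor.map_comp, hw1]
    · simp only [Category.assoc, pullback.diagonal_snd, pullback.lift_snd, Category.comp_id, g]
      rw [← Category.assoc, ← Functor.map_comp, hw2, hsq.w]
  have sqd : IsPullback ((AlgSp.yon S).map fst ≫ a) ((AlgSp.yon S).map w)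
      (pullback.diagonal π) g := by
    refine isPullback_of_yon hcomm (fun Z b' c hbc => ?_)
    obtain ⟨c₀, rfl⟩ := (AlgSp.yon S).map_surjective c
    have h1 : b' = (AlgSp.yon S).map (c₀ ≫ pr₁) ≫ a := by
      have := congrArg (fun m => m ≫ pullback.fst π π) hbc
      simpa only [Category.assoc, pullback.diagonal_fst, pullback.lift_fst, Category.comp_id, g,
        Functor.map_comp] using this
    have h2 : b' = (AlgSp.yon S).map (c₀ ≫ pr₂) ≫ b := by
      have := congrArg (fun m => m ≫ pullback.snd π π) hbc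
      simpa only [Category.assoc, pullback.diagonal_snd, pullback.lift_snd, Category.comp_id, g,
        Functor.map_comp] using this
    obtain ⟨l, hl⟩ := (AlgSp.yon S).map_surjective (hsq.lift _ _ (h1.symm.trans h2))
    have hl1 : l ≫ fst = c₀ ≫ pr₁ := by
      apply (AlgSp.yon S).map_injective
      rw [Functor.map_comp, hl, hsq.lift_fst]
    have hl2 : l ≫ snd = c₀ ≫ pr₂ := by
      apply (AlgSp.yon S).map_injective
      rw [Functor.map_comp, hl, hsq.lift_snd]
    have hlw : l ≫ w = c₀ := hW _ _ (by rw [Category.assoc, hw1, hl1])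
      (by rw [Category.assoc, hw2, hl2])
    refine ⟨(AlgSp.yon S).map l, ⟨?_, ?_⟩, ?_⟩
    · rw [← Category.assoc, ← Functor.map_comp, hl1, h1]
    · rw [← Functor.map_comp, hlw]
    · rintro a' ⟨-, ha'⟩
      obtain ⟨l', rfl⟩ := (AlgSp.yon S).map_surjective a'
      have hl'w : l' ≫ w = c₀ := by
        apply (AlgSp.yon S).map_injective
        rw [Functor.map_comp]
        exact ha'
      congr 1
      apply (AlgSp.yon S).map_injective
      apply hsq.hom_ext
      · rw [← Functor.map_comp, ← Functor.map_comp, hl1, ← hw1, ← Category.assoc, hl'w]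
      · rw [← Functor.map_comp, ← Functor.map_comp, hl2, ← hw2, ← Category.assoc, hl'w]
  haveI : QuasiCompact w.left := hπ.2 g _ w sqd
  haveI : CompactSpace ↥W.left := by
    show CompactSpace ↥(pullback u₀.left v₀.left)
    infer_instance
  exact QuasiCompact.compactSpace_of_compactSpace w.left

/-- a morphism from a scheme quasi-compact over `T₀` to an algebraic space quasi-separated over
`T₀` is quasi-compact. -/
theorem repWith_quasiCompact_of_isQuasiSeparatedMor {X : AlgSp.Sp S} (hXa : AlgSp.IsAlgSpace X)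
    {T₀ : Over S} (π : X ⟶ (AlgSp.yon S).obj T₀) (hπ : AlgSp.IsQuasiSeparatedMor π)
    {U : Over S} (a : (AlgSp.yon S).obj U ⟶ X) (u₀ : U ⟶ T₀)
    (hu : a ≫ π = (AlgSp.yon S).map u₀) [QuasiCompact u₀.left] :
    AlgSp.RepWith @QuasiCompact a := by
  refine Groth.Agent.Lib.Helper12.ZarGlue.repWith_of_affine @QuasiCompact a (fun Z hZ g => ?_)
  obtain ⟨W, i, fst, sq⟩ := hXa.representable_from_yon a g
  obtain ⟨f₀, rfl⟩ := (AlgSp.yon S).map_surjective fst
  obtain ⟨z₀, hz₀⟩ := (AlgSp.yon S).map_surjective (g ≫ π)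
  haveI := hZ
  haveI : CompactSpace ↥Z.left := inferInstance
  haveI : CompactSpace ↥W.left :=
    compactSpace_pullback_of_isQuasiSeparatedMor π hπ a g f₀ i sq u₀ z₀ hu hz₀.symm
  exact ⟨W, i, _, sq, (HasAffineProperty.iff_of_isAffine (P := @QuasiCompact)).2 inferInstance⟩

/-- **an algebraic space quasi-separated over a scheme is decent.** -/
theorem isDecent_of_isQuasiSeparatedMor {X : AlgSp.Sp S} (hXa : AlgSp.IsAlgSpace X)
    {T₀ : Over S} (π : X ⟶ (AlgSp.yon S).obj T₀) (hπ : AlgSp.IsQuasiSeparatedMor π) :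
    AlgSp.IsDecent X := by
  intro x
  obtain ⟨U, a, hae, has⟩ := hXa.atlas
  obtain ⟨u, rfl⟩ := Groth.Agent.S10177.surjective_ofPt a has x
  let q : AlgSp.FieldPt X := AlgSp.FieldPt.ofPt a u
  let ι : q.pt ⟶ U := Over.homMk (U.left.fromSpecResidueField u) rfl
  have hq : q.toHom = (AlgSp.yon S).map ι ≫ a := AlgSp.FieldPt.toHom_ofPt a u
  obtain ⟨R, t, pr, sq⟩ := hXa.representable_from_yon q.toHom q.toHom
  obtain ⟨s, rfl⟩ := (AlgSp.yon S).map_surjective pr
  haveI : Mono ι.left := (inferInstance : Mono (U.left.fromSpecResidueField u))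
  haveI : Etale t.left := by
    have sq' := sq.flip
    rw [hq] at sq'
    exact etale_of_mono_factor a hae q.K q.str ι t s sq'
  haveI : CompactSpace ↥q.pt.left := (inferInstance : CompactSpace ↥(Spec (CommRingCat.of q.K)))
  obtain ⟨q₀, hq₀⟩ := (AlgSp.yon S).map_surjective (q.toHom ≫ π)
  haveI : QuasiCompact q₀.left := quasiCompact_of_field q.K q₀.left
  haveI : CompactSpace ↥R.left :=
    compactSpace_pullback_of_isQuasiSeparatedMor π hπ q.toHom q.toHom s t sq q₀ q₀ hq₀.symm
      hq₀.symm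
  obtain ⟨C, hC, str', c₀, p, h1, h2, -⟩ := exists_mono_of_etale_compact q.K q.str q.toHom s t sq
  refine ⟨fieldPtOfHom C str' p, ?_, ?_, ?_⟩
  · rw [mk_fieldPtOfHom_eq q.K C q.str str' c₀ q.toHom p h1, fieldPtOfHom_toHom_self]
    rfl
  · rw [fieldPtOfHom_toHom]
    exact h2
  · rw [fieldPtOfHom_toHom]
    obtain ⟨p₀, hp₀⟩ := (AlgSp.yon S).map_surjective (p ≫ π)
    haveI : QuasiCompact p₀.left := quasiCompact_of_field C p₀.left
    exact repWith_quasiCompact_of_isQuasiSeparatedMor hXa π hπ p p₀ hp₀.symm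

/-- **every scheme is decent.** -/
theorem isDecent_yon (W : Over S) : AlgSp.IsDecent ((AlgSp.yon S).obj W) := by
  intro x
  obtain ⟨w₀, rfl⟩ := (AlgSp.Points.schemeHomeo W).surjective x
  refine ⟨AlgSp.FieldPt.ofPt (𝟙 _) w₀, ?_, ?_, ?_⟩
  · have := AlgSp.Points.ofPt_eq_map_ofScheme (𝟙 ((AlgSp.yon S).obj W)) w₀
    rw [AlgSp.Points.map_id] at this
    exact this
  · rw [AlgSp.FieldPt.toHom_ofPt, Category.comp_id]
    have hmono : Mono (W.left.fromSpecResidueField w₀) := inferInstance
    have hm : ∀ {A : Over S} (m : A ⟶ W), Mono m.left → Mono ((AlgSp.yon S).map m) := by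
      intro A m hm
      haveI : Mono m := @Over.mono_of_mono_left _ _ _ _ _ _ hm
      exact (AlgSp.yon S).map_mono m
    exact hm _ hmono
  · rw [AlgSp.FieldPt.toHom_ofPt, Category.comp_id]
    refine (AlgSp.repWith_yon_map_iff _ _).2 ?_
    exact quasiCompact_of_field _ (W.left.fromSpecResidueField w₀)

end Groth.Agent.Lib.T2H1.FieldQuot
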