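import Mathlib
import Groth.Agent.Lib.T2H1FieldQuotF
import Groth.Agent.S9913

/-!
# Field quotients: descending quasi-compactness along a quasi-compact morphism (helper1)
-/

set_option autoImplicit false
universe u
open CategoryTheory CategoryTheory.Limits AlgebraicGeometry Opposite
open AlgSp

namespace Groth.Agent.Lib.T2H1.FieldQuot

open Groth.Agent.S13210

variable {S : Scheme.{u}}

/-- if `p : A ⟶ X` is quasi-compact, `f : X ⟶ Y` is quasi-compact, and `p ≫ f` factors as a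
surjection `A ⟶ B` followed by `p' : B ⟶ Y`, then `p'` is quasi-compact. -/
theorem repWith_quasiCompact_of_comp {X Y : AlgSp.Sp S} (hXa : AlgSp.IsAlgSpace X)
    (hYa : AlgSp.IsAlgSpace Y) (f : X ⟶ Y) (hq : AlgSp.IsQuasiCompactMor f) {A B : Over S}
    (c₀ : A ⟶ B) [Surjective c₀.left] (p : (AlgSp.yon S).obj A ⟶ X)
    (hp : AlgSp.RepWith @QuasiCompact p) (p' : (AlgSp.yon S).obj B ⟶ Y)
    (h : (AlgSp.yon S).map c₀ ≫ p' = p ≫ f) : AlgSp.RepWith @QuasiCompact p' := by
  refine Groth.Agent.Lib.Helper12.ZarGlue.repWith_of_affine @QuasiCompact p' (fun Z hZ g => ?_)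
  haveI := hZ
  haveI : CompactSpace ↥Z.left := inferInstance
  obtain ⟨W, i, fst, sq⟩ := hYa.representable_from_yon p' g
  obtain ⟨f₀, rfl⟩ := (AlgSp.yon S).map_surjective fst
  -- `W' = A ×_Y Z`
  obtain ⟨W', w₂, fst', sq2⟩ := hYa.representable_from_yon (p ≫ f) g
  obtain ⟨w₁, rfl⟩ := (AlgSp.yon S).map_surjective fst'
  -- `P = X ×_Y Z`
  have sqP := IsPullback.of_hasPullback f g
  have hPa : AlgSp.IsAlgSpace (pullback f g) :=
    Groth.Agent.S9874.isAlgSpace_of_isPullback hYa.diag hXa (AlgSp.IsAlgSpace.yon_obj _) sqP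
  obtain ⟨V, a, hae, has, hV⟩ := hq (AlgSp.IsAlgSpace.yon_obj Z)
    (Groth.Agent.S9913.isQuasiCompactSp_yon_of_compact Z) g _ _ sqP
  haveI : CompactSpace ↥V.left := hV
  -- `V' = A ×_X V`
  obtain ⟨V', v₂, fst'', sq1⟩ := hXa.representable_from_yon p (a ≫ pullback.fst f g)
  obtain ⟨v₁, rfl⟩ := (AlgSp.yon S).map_surjective fst''
  haveI : QuasiCompact v₂.left := hp.2 _ _ v₂ sq1
  haveI : CompactSpace ↥V'.left := QuasiCompact.compactSpace_of_compactSpace v₂.left
  -- step A: `W' = A ×_X P`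
  let b : (AlgSp.yon S).obj W' ⟶ pullback f g :=
    pullback.lift ((AlgSp.yon S).map w₁ ≫ p) ((AlgSp.yon S).map w₂) (by
      rw [Category.assoc]; exact sq2.w)
  have hb1 : b ≫ pullback.fst f g = (AlgSp.yon S).map w₁ ≫ p := pullback.lift_fst _ _ _
  have hb2 : b ≫ pullback.snd f g = (AlgSp.yon S).map w₂ := pullback.lift_snd _ _ _
  have sqA : IsPullback b ((AlgSp.yon S).map w₁) (pullback.fst f g) p := by
    refine IsPullback.of_right ?_ hb1 sqP.flip
    rw [hb2]
    exact sq2.flip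
  -- step B: `V' = W' ×_P V`
  obtain ⟨c, hc⟩ := (AlgSp.yon S).map_surjective
    (sqA.lift ((AlgSp.yon S).map v₂ ≫ a) ((AlgSp.yon S).map v₁) (by
      rw [Category.assoc]; exact sq1.w.symm))
  have hc1 : (AlgSp.yon S).map c ≫ b = (AlgSp.yon S).map v₂ ≫ a := by rw [hc, sqA.lift_fst]
  have hc2 : (AlgSp.yon S).map c ≫ (AlgSp.yon S).map w₁ = (AlgSp.yon S).map v₁ := by
    rw [hc, sqA.lift_snd]
  have sqB : IsPullback ((AlgSp.yon S).map c) ((AlgSp.yon S).map v₂) b a := by
    refine IsPullback.of_right ?_ hc1 sqA.flip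
    rw [hc2]
    exact sq1
  haveI : Surjective c.left := has.2 b _ c sqB.flip
  haveI : CompactSpace ↥W'.left := by
    have hs : Function.Surjective c.left := ‹Surjective c.left›.surj
    exact hs.compactSpace c.left.continuous
  -- step C: `W' = A ×_B W`
  obtain ⟨d, hd⟩ := (AlgSp.yon S).map_surjective
    (sq.lift ((AlgSp.yon S).map (w₁ ≫ c₀)) ((AlgSp.yon S).map w₂) (by
      rw [Functor.map_comp, Category.assoc, h]; exact sq2.w))
  have hd1 : (AlgSp.yon S).map d ≫ (AlgSp.yon S).map f₀ = (AlgSp.yon S).map w₁ ≫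
      (AlgSp.yon S).map c₀ := by
    rw [hd, sq.lift_fst, Functor.map_comp]
  have hd2 : (AlgSp.yon S).map d ≫ (AlgSp.yon S).map i = (AlgSp.yon S).map w₂ := by
    rw [hd, sq.lift_snd]
  have sqC : IsPullback ((AlgSp.yon S).map d) ((AlgSp.yon S).map w₁) ((AlgSp.yon S).map f₀)
      ((AlgSp.yon S).map c₀) := by
    refine IsPullback.of_right ?_ hd1 sq.flip
    rw [hd2, h]
    exact sq2.flip
  have hc₀ : AlgSp.RepWith @Surjective ((AlgSp.yon S).map c₀) :=
    (AlgSp.repWith_yon_map_iff _ _).2 ‹Surjective c₀.left›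
  haveI : Surjective d.left := hc₀.2 _ _ d sqC.flip
  haveI : CompactSpace ↥W.left := by
    have hs : Function.Surjective d.left := ‹Surjective d.left›.surj
    exact hs.compactSpace d.left.continuous
  exact ⟨W, i, _, sq, (HasAffineProperty.iff_of_isAffine (P := @QuasiCompact)).2 inferInstance⟩

end Groth.Agent.Lib.T2H1.FieldQuot
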