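import Mathlib
import Groth.Agent.Lib.T2H1FieldQuotG
import Groth.Agent.S10176

/-!
# Field quotients: base change of one factor; points with a quasi-compact representative (helper1)
-/

set_option autoImplicit false
universe u
open CategoryTheory CategoryTheory.Limits AlgebraicGeometry Opposite
open AlgSp

namespace Groth.Agent.Lib.T2H1.FieldQuot

open Groth.Agent.S13210

variable {S : Scheme.{u}}

/-- base change of the second factor of a fibre product of schemes over a sheaf. -/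
theorem exists_baseChange_snd {X : AlgSp.Sp S} {A₁ A₂ A₂' P P' : Over S}
    (a₁ : (AlgSp.yon S).obj A₁ ⟶ X) (a₂ : (AlgSp.yon S).obj A₂ ⟶ X) (d : A₂' ⟶ A₂)
    (π₁ : P ⟶ A₁) (π₂ : P ⟶ A₂)
    (sq : IsPullback ((AlgSp.yon S).map π₁) ((AlgSp.yon S).map π₂) a₁ a₂)
    (π₁' : P' ⟶ A₁) (π₂' : P' ⟶ A₂')
    (sq' : IsPullback ((AlgSp.yon S).map π₁') ((AlgSp.yon S).map π₂') a₁
      ((AlgSp.yon S).map d ≫ a₂)) :
    ∃ e : P' ⟶ P, e ≫ π₁ = π₁' ∧ e ≫ π₂ = π₂' ≫ d ∧
      IsPullback ((AlgSp.yon S).map e) ((AlgSp.yon S).map π₂') ((AlgSp.yon S).map π₂)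
        ((AlgSp.yon S).map d) := by
  obtain ⟨e, he⟩ := (AlgSp.yon S).map_surjective
    (sq.lift ((AlgSp.yon S).map π₁') ((AlgSp.yon S).map (π₂' ≫ d)) (by
      rw [Functor.map_comp, Category.assoc]; exact sq'.w))
  have he1 : (AlgSp.yon S).map e ≫ (AlgSp.yon S).map π₁ = (AlgSp.yon S).map π₁' := by
    rw [he, sq.lift_fst]
  have he2 : (AlgSp.yon S).map e ≫ (AlgSp.yon S).map π₂ =
      (AlgSp.yon S).map π₂' ≫ (AlgSp.yon S).map d := by
    rw [he, sq.lift_snd, Functor.map_comp]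
  refine ⟨e, ?_, ?_, ?_⟩
  · apply (AlgSp.yon S).map_injective
    rw [Functor.map_comp, he1]
  · apply (AlgSp.yon S).map_injective
    rw [Functor.map_comp, he2, Functor.map_comp]
  · refine IsPullback.of_right ?_ he2 sq
    rw [he1]
    exact sq'

/-- a property of morphisms of schemes stable under base change passes from `d` to the base
change of the second factor. -/
theorem baseChange_snd_property (Pr : MorphismProperty Scheme.{u}) [Pr.IsStableUnderBaseChange]
    {A₂ A₂' P P' : Over S} (d : A₂' ⟶ A₂) (π₂ : P ⟶ A₂) (π₂' : P' ⟶ A₂') (e : P' ⟶ P)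
    (sq : IsPullback ((AlgSp.yon S).map e) ((AlgSp.yon S).map π₂') ((AlgSp.yon S).map π₂)
      ((AlgSp.yon S).map d)) (hd : Pr d.left) : Pr e.left :=
  ((AlgSp.repWith_yon_map_iff Pr d).2 hd).2 _ _ e sq.flip

/-- compactness passes down along a surjective base change of the second factor. -/
theorem compactSpace_of_surjective_snd {X : AlgSp.Sp S} {A₁ A₂ A₂' P P' : Over S}
    (a₁ : (AlgSp.yon S).obj A₁ ⟶ X) (a₂ : (AlgSp.yon S).obj A₂ ⟶ X) (d : A₂' ⟶ A₂)
    [Surjective d.left] (π₁ : P ⟶ A₁) (π₂ : P ⟶ A₂)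
    (sq : IsPullback ((AlgSp.yon S).map π₁) ((AlgSp.yon S).map π₂) a₁ a₂)
    (π₁' : P' ⟶ A₁) (π₂' : P' ⟶ A₂')
    (sq' : IsPullback ((AlgSp.yon S).map π₁') ((AlgSp.yon S).map π₂') a₁
      ((AlgSp.yon S).map d ≫ a₂)) [CompactSpace ↥P'.left] : CompactSpace ↥P.left := by
  obtain ⟨e, -, -, hsq⟩ := exists_baseChange_snd a₁ a₂ d π₁ π₂ sq π₁' π₂' sq'
  haveI : Surjective e.left :=
    baseChange_snd_property @Surjective d π₂ π₂' e hsq ‹Surjective d.left›
  have hs : Function.Surjective e.left := ‹Surjective e.left›.surj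
  exact hs.compactSpace e.left.continuous

/-- compactness passes down along a surjective base change of the first factor. -/
theorem compactSpace_of_surjective_fst {X : AlgSp.Sp S} {A₁ A₁' A₂ P P' : Over S}
    (a₁ : (AlgSp.yon S).obj A₁ ⟶ X) (a₂ : (AlgSp.yon S).obj A₂ ⟶ X) (d : A₁' ⟶ A₁)
    [Surjective d.left] (π₁ : P ⟶ A₁) (π₂ : P ⟶ A₂)
    (sq : IsPullback ((AlgSp.yon S).map π₁) ((AlgSp.yon S).map π₂) a₁ a₂)
    (π₁' : P' ⟶ A₁') (π₂' : P' ⟶ A₂)
    (sq' : IsPullback ((AlgSp.yon S).map π₁') ((AlgSp.yon S).map π₂')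
      ((AlgSp.yon S).map d ≫ a₁) a₂) [CompactSpace ↥P'.left] : CompactSpace ↥P.left :=
  compactSpace_of_surjective_snd a₂ a₁ d π₂ π₁ sq.flip π₂' π₁' sq'.flip

/-- compactness passes up along a quasi-compact base change of the second factor. -/
theorem compactSpace_of_quasiCompact_snd {X : AlgSp.Sp S} {A₁ A₂ A₂' P P' : Over S}
    (a₁ : (AlgSp.yon S).obj A₁ ⟶ X) (a₂ : (AlgSp.yon S).obj A₂ ⟶ X) (d : A₂' ⟶ A₂)
    [QuasiCompact d.left] (π₁ : P ⟶ A₁) (π₂ : P ⟶ A₂)
    (sq : IsPullback ((AlgSp.yon S).map π₁) ((AlgSp.yon S).map π₂) a₁ a₂)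
    (π₁' : P' ⟶ A₁) (π₂' : P' ⟶ A₂')
    (sq' : IsPullback ((AlgSp.yon S).map π₁') ((AlgSp.yon S).map π₂') a₁
      ((AlgSp.yon S).map d ≫ a₂)) [CompactSpace ↥P.left] : CompactSpace ↥P'.left := by
  obtain ⟨e, -, -, hsq⟩ := exists_baseChange_snd a₁ a₂ d π₁ π₂ sq π₁' π₂' sq'
  haveI : QuasiCompact e.left :=
    baseChange_snd_property @QuasiCompact d π₂ π₂' e hsq ‹QuasiCompact d.left›
  exact QuasiCompact.compactSpace_of_compactSpace e.left

/-- if `A ⟶ B` is surjective and `A ⟶ B ⟶ X` is quasi-compact, then `B ⟶ X` is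
quasi-compact. -/
theorem repWith_quasiCompact_of_surjective {X : AlgSp.Sp S} (hXa : AlgSp.IsAlgSpace X)
    {A B : Over S} (c₀ : A ⟶ B) [Surjective c₀.left] (p' : (AlgSp.yon S).obj B ⟶ X)
    (h : AlgSp.RepWith @QuasiCompact ((AlgSp.yon S).map c₀ ≫ p')) :
    AlgSp.RepWith @QuasiCompact p' := by
  refine Groth.Agent.Lib.Helper12.ZarGlue.repWith_of_affine @QuasiCompact p' (fun Z hZ g => ?_)
  haveI := hZ
  haveI : CompactSpace ↥Z.left := inferInstance
  obtain ⟨W, i, fst, sq⟩ := hXa.representable_from_yon p' g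
  obtain ⟨f₀, rfl⟩ := (AlgSp.yon S).map_surjective fst
  obtain ⟨W', w₂, fst', sq2⟩ := hXa.representable_from_yon ((AlgSp.yon S).map c₀ ≫ p') g
  obtain ⟨w₁, rfl⟩ := (AlgSp.yon S).map_surjective fst'
  haveI : QuasiCompact w₂.left := h.2 g _ w₂ sq2
  haveI : CompactSpace ↥W'.left := QuasiCompact.compactSpace_of_compactSpace w₂.left
  haveI : CompactSpace ↥W.left := compactSpace_of_surjective_fst p' g c₀ f₀ i sq w₁ w₂ sq2
  exact ⟨W, i, _, sq, (HasAffineProperty.iff_of_isAffine (P := @QuasiCompact)).2 inferInstance⟩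

/-- **a point represented by a quasi-compact morphism from the spectrum of a field is
represented by a quasi-compact monomorphism from the spectrum of a field.** -/
theorem exists_decent_of_quasiCompact {X : AlgSp.Sp S} (hXa : AlgSp.IsAlgSpace X)
    (q : AlgSp.FieldPt X) (hq : AlgSp.RepWith @QuasiCompact q.toHom) :
    ∃ p : AlgSp.FieldPt X, AlgSp.Points.mk p = AlgSp.Points.mk q ∧ Mono p.toHom ∧
      AlgSp.RepWith @QuasiCompact p.toHom := by
  obtain ⟨U, a, hae, has⟩ := hXa.atlas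
  obtain ⟨F, c₂, fst, sqF⟩ := hXa.representable_from_yon q.toHom a
  obtain ⟨c₁, rfl⟩ := (AlgSp.yon S).map_surjective fst
  obtain ⟨u, hu⟩ := Groth.Agent.S10177.surjective_ofPt a has (AlgSp.Points.mk q)
  have hpt : AlgSp.Points.ofPt q.toHom (IsLocalRing.closedPoint q.K) = AlgSp.Points.ofPt a u :=
    (Groth.Agent.S10177.ofPt_closedPoint q).trans hu.symm
  obtain ⟨f₀, -, hf2⟩ := Groth.Agent.S10176.exists_point_of_isPullback_yon sqF _ u hpt
  subst hf2
  -- the residue field of `F` at `f₀`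
  let strL : Spec (F.left.residueField f₀) ⟶ S := F.left.fromSpecResidueField f₀ ≫ F.hom
  let ιF : Over.mk strL ⟶ F := Over.homMk (F.left.fromSpecResidueField f₀) rfl
  let ℓ : (AlgSp.yon S).obj (Over.mk strL) ⟶ X := (AlgSp.yon S).map (ιF ≫ c₁) ≫ q.toHom
  have hℓ : AlgSp.RepWith @QuasiCompact ℓ := by
    refine MorphismProperty.comp_mem _ _ _ ((AlgSp.repWith_yon_map_iff _ _).2 ?_) hq
    exact quasiCompact_of_field (F.left.residueField f₀) (ιF ≫ c₁).left
  -- the point `u` of the chart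
  let qu : AlgSp.FieldPt X := AlgSp.FieldPt.ofPt a (c₂.left f₀)
  let ι : qu.pt ⟶ U := Over.homMk (U.left.fromSpecResidueField (c₂.left f₀)) rfl
  have hqu : qu.toHom = (AlgSp.yon S).map ι ≫ a := AlgSp.FieldPt.toHom_ofPt a (c₂.left f₀)
  have hdw : Spec.map (c₂.left.residueFieldMap f₀) ≫ U.left.fromSpecResidueField (c₂.left f₀) =
      F.left.fromSpecResidueField f₀ ≫ c₂.left :=
    Scheme.Hom.SpecMap_residueFieldMap_fromSpecResidueField c₂.left f₀
  let d : Over.mk strL ⟶ qu.pt := Over.homMk (Spec.map (c₂.left.residueFieldMap f₀)) (by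
    show Spec.map (c₂.left.residueFieldMap f₀) ≫ U.left.fromSpecResidueField (c₂.left f₀) ≫ U.hom =
      F.left.fromSpecResidueField f₀ ≫ F.hom
    rw [← Category.assoc, hdw, Category.assoc, Over.w c₂])
  have hd : d ≫ ι = ιF ≫ c₂ := by
    ext
    exact hdw
  have hdℓ : (AlgSp.yon S).map d ≫ qu.toHom = ℓ := by
    rw [hqu, ← Category.assoc, ← Functor.map_comp, hd, Functor.map_comp, Category.assoc, ← sqF.w,
      ← Category.assoc, ← Functor.map_comp]
  haveI : Surjective d.left := by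
    refine ⟨fun y => ?_⟩
    haveI : Subsingleton ↥qu.pt.left :=
      inferInstanceAs (Subsingleton (PrimeSpectrum (U.left.residueField (c₂.left f₀))))
    haveI : Nonempty ↥(Over.mk strL).left :=
      inferInstanceAs (Nonempty (PrimeSpectrum (F.left.residueField f₀)))
    obtain ⟨z⟩ := ‹Nonempty ↥(Over.mk strL).left›
    exact ⟨z, Subsingleton.elim _ _⟩
  -- the self fibre product of `Spec κ(u) ⟶ X`
  obtain ⟨R, t, pr, sq⟩ := hXa.representable_from_yon qu.toHom qu.toHom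
  obtain ⟨s, rfl⟩ := (AlgSp.yon S).map_surjective pr
  haveI : Mono ι.left := (inferInstance : Mono (U.left.fromSpecResidueField (c₂.left f₀)))
  haveI : Etale t.left := by
    have sq' := sq.flip
    rw [hqu] at sq'
    exact etale_of_mono_factor a hae qu.K qu.str ι t s sq'
  -- compactness
  obtain ⟨G₁, g₁₂, pr₁, sqG₁⟩ := hXa.representable_from_yon ℓ ℓ
  obtain ⟨g₁₁, rfl⟩ := (AlgSp.yon S).map_surjective pr₁
  haveI : QuasiCompact g₁₂.left := hℓ.2 ℓ _ g₁₂ sqG₁
  haveI : CompactSpace ↥(Over.mk strL).left :=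
    (inferInstance : CompactSpace ↥(Spec (F.left.residueField f₀)))
  haveI : CompactSpace ↥G₁.left := QuasiCompact.compactSpace_of_compactSpace g₁₂.left
  obtain ⟨G₂, g₂₂, pr₂, sqG₂⟩ := hXa.representable_from_yon qu.toHom ℓ
  obtain ⟨g₂₁, rfl⟩ := (AlgSp.yon S).map_surjective pr₂
  haveI : CompactSpace ↥G₂.left := by
    refine compactSpace_of_surjective_fst qu.toHom ℓ d g₂₁ g₂₂ sqG₂ g₁₁ g₁₂ ?_
    rw [hdℓ]
    exact sqG₁
  haveI : CompactSpace ↥R.left := by
    refine compactSpace_of_surjective_snd qu.toHom qu.toHom d s t sq g₂₁ g₂₂ ?_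
    rw [hdℓ]
    exact sqG₂
  obtain ⟨C, hC, str', c₀, p, h1, h2, -, -, h5, -⟩ :=
    exists_mono_of_etale_compact qu.K qu.str qu.toHom s t sq
  refine ⟨fieldPtOfHom C str' p, ?_, ?_, ?_⟩
  · rw [mk_fieldPtOfHom_eq qu.K C qu.str str' c₀ qu.toHom p h1, fieldPtOfHom_toHom_self, ← hu]
    rfl
  · rw [fieldPtOfHom_toHom]
    exact h2
  · rw [fieldPtOfHom_toHom]
    haveI := h5
    haveI : Surjective (d ≫ c₀).left := by
      rw [Over.comp_left]
      infer_instance
    refine repWith_quasiCompact_of_surjective hXa (d ≫ c₀) p ?_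
    rw [Functor.map_comp, Category.assoc, h1, hdℓ]
    exact hℓ

end Groth.Agent.Lib.T2H1.FieldQuot
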