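import Mathlib
import Groth.Agent.Lib.T2H1FieldQuotH

/-!
# Field quotients: two points of a chart over the same point (helper1)
-/

set_option autoImplicit false
universe u
open CategoryTheory CategoryTheory.Limits AlgebraicGeometry Opposite
open AlgSp

namespace Groth.Agent.Lib.T2H1.FieldQuot

open Groth.Agent.S13210

variable {S : Scheme.{u}}

/-- **the fibre product of `A' ⟶ U ⟶ X` and `Spec K ⟶ U ⟶ X`, with `U ⟶ X` étale and
`A' ⟶ U` a monomorphism, is étale over `Spec K`.** -/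
theorem etale_of_mono_factor₂ {X : AlgSp.Sp S} {U : Over S} (a : (AlgSp.yon S).obj U ⟶ X)
    (ha : AlgSp.RepWith @Etale a) (K : Type u) [Field K] (str : Spec (CommRingCat.of K) ⟶ S)
    (ι : Over.mk str ⟶ U) {A' : Over S} (ι' : A' ⟶ U) [Mono ι'.left] {G : Over S}
    (g₁ : G ⟶ A') (g₂ : G ⟶ Over.mk str)
    (hsq : IsPullback ((AlgSp.yon S).map g₁) ((AlgSp.yon S).map g₂) ((AlgSp.yon S).map ι' ≫ a)
      ((AlgSp.yon S).map ι ≫ a)) : Etale g₂.left := by
  obtain ⟨E, e₁, pr, sqE⟩ := ha.1 ((AlgSp.yon S).map ι ≫ a)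
  obtain ⟨e₂, rfl⟩ := (AlgSp.yon S).map_surjective pr
  haveI : Etale e₁.left := ha.2 _ _ e₁ sqE
  have hw : (AlgSp.yon S).map (g₁ ≫ ι') ≫ a = (AlgSp.yon S).map g₂ ≫ (AlgSp.yon S).map ι ≫ a := by
    rw [Functor.map_comp, Category.assoc, hsq.w]
  obtain ⟨m, hm⟩ := (AlgSp.yon S).map_surjective (sqE.lift _ _ hw)
  have hm1 : m ≫ e₂ = g₁ ≫ ι' := by
    apply (AlgSp.yon S).map_injective
    rw [Functor.map_comp, hm, sqE.lift_fst]
  have hm2 : m ≫ e₁ = g₂ := by
    apply (AlgSp.yon S).map_injective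
    rw [Functor.map_comp, hm, sqE.lift_snd]
  haveI : Mono ι' := (Over.forget S).mono_of_mono_map (inferInstanceAs (Mono ι'.left))
  haveI : Mono m := by
    refine ⟨fun {Z} l₁ l₂ h => ?_⟩
    have h2 : l₁ ≫ g₂ = l₂ ≫ g₂ := by rw [← hm2, ← Category.assoc, h, Category.assoc]
    have h1 : l₁ ≫ g₁ = l₂ ≫ g₁ := by
      rw [← cancel_mono ι', Category.assoc, Category.assoc, ← hm1, ← Category.assoc, h,
        Category.assoc]
    apply (AlgSp.yon S).map_injective
    apply hsq.hom_ext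
    · rw [← Functor.map_comp, ← Functor.map_comp, h1]
    · rw [← Functor.map_comp, ← Functor.map_comp, h2]
  haveI : Mono m.left := inferInstance
  haveI : IsOpenImmersion m.left := isOpenImmersion_of_mono_of_etale_field e₁.left m.left
  have : g₂.left = m.left ≫ e₁.left := by rw [← Over.comp_left, hm2]
  rw [this]
  infer_instance

/-- **two points `u`, `u'` of an étale chart over the same point such that the fibre of
`R = U ×_X U` over `(u, u')` is finite: the point is represented by a monomorphism.** -/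
theorem exists_mono_of_finite_fibre {X : AlgSp.Sp S} (hXa : AlgSp.IsAlgSpace X) {U : Over S}
    (φ : (AlgSp.yon S).obj U ⟶ X) (hφ : AlgSp.RepWith @Etale φ) (u u' : ↥U.left)
    (he : AlgSp.Points.ofPt φ u = AlgSp.Points.ofPt φ u') {R : Over S} (s t : R ⟶ U)
    (hR : IsPullback ((AlgSp.yon S).map t) ((AlgSp.yon S).map s) φ φ)
    (hfin : {r : ↥R.left | s.left r = u ∧ t.left r = u'}.Finite) :
    ∃ p : AlgSp.FieldPt X, AlgSp.Points.mk p = AlgSp.Points.ofPt φ u ∧ Mono p.toHom := by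
  let qu : AlgSp.FieldPt X := AlgSp.FieldPt.ofPt φ u
  let ι : qu.pt ⟶ U := Over.homMk (U.left.fromSpecResidueField u) rfl
  have hqu : qu.toHom = (AlgSp.yon S).map ι ≫ φ := AlgSp.FieldPt.toHom_ofPt φ u
  let qu' : AlgSp.FieldPt X := AlgSp.FieldPt.ofPt φ u'
  let ι' : qu'.pt ⟶ U := Over.homMk (U.left.fromSpecResidueField u') rfl
  have hqu' : qu'.toHom = (AlgSp.yon S).map ι' ≫ φ := AlgSp.FieldPt.toHom_ofPt φ u'
  haveI : Mono ι.left := (inferInstance : Mono (U.left.fromSpecResidueField u))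
  haveI : Mono ι'.left := (inferInstance : Mono (U.left.fromSpecResidueField u'))
  haveI : Mono ι := (Over.forget S).mono_of_mono_map (inferInstanceAs (Mono ι.left))
  haveI : Mono ι' := (Over.forget S).mono_of_mono_map (inferInstanceAs (Mono ι'.left))
  -- `G = Spec κ(u') ×_X Spec κ(u)`
  obtain ⟨G, g₂, pr, sqG⟩ := hXa.representable_from_yon qu'.toHom qu.toHom
  obtain ⟨g₁, rfl⟩ := (AlgSp.yon S).map_surjective pr
  -- `G ⟶ R`
  have hw : (AlgSp.yon S).map (g₁ ≫ ι') ≫ φ = (AlgSp.yon S).map (g₂ ≫ ι) ≫ φ := by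
    rw [Functor.map_comp, Functor.map_comp, Category.assoc, Category.assoc, ← hqu, ← hqu', sqG.w]
  obtain ⟨m, hm⟩ := (AlgSp.yon S).map_surjective (hR.lift _ _ hw)
  have hm1 : m ≫ t = g₁ ≫ ι' := by
    apply (AlgSp.yon S).map_injective
    rw [Functor.map_comp, hm, hR.lift_fst]
  have hm2 : m ≫ s = g₂ ≫ ι := by
    apply (AlgSp.yon S).map_injective
    rw [Functor.map_comp, hm, hR.lift_snd]
  haveI : Mono m := by
    refine ⟨fun {Z} l₁ l₂ h => ?_⟩
    have h1 : l₁ ≫ g₁ = l₂ ≫ g₁ := by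
      rw [← cancel_mono ι', Category.assoc, Category.assoc, ← hm1, ← Category.assoc, h,
        Category.assoc]
    have h2 : l₁ ≫ g₂ = l₂ ≫ g₂ := by
      rw [← cancel_mono ι, Category.assoc, Category.assoc, ← hm2, ← Category.assoc, h,
        Category.assoc]
    apply (AlgSp.yon S).map_injective
    apply sqG.hom_ext
    · rw [← Functor.map_comp, ← Functor.map_comp, h1]
    · rw [← Functor.map_comp, ← Functor.map_comp, h2]
  haveI : Mono m.left := inferInstance
  have hmem : ∀ g : ↥G.left, m.left g ∈ {r : ↥R.left | s.left r = u ∧ t.left r = u'} := by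
    intro g
    constructor
    · have h3 : (m ≫ s).left g = (g₂ ≫ ι).left g := by rw [hm2]
      rw [Over.comp_left, Over.comp_left, Scheme.Hom.comp_apply, Scheme.Hom.comp_apply] at h3
      exact h3.trans (Scheme.fromSpecResidueField_apply _ _)
    · have h3 : (m ≫ t).left g = (g₁ ≫ ι').left g := by rw [hm1]
      rw [Over.comp_left, Over.comp_left, Scheme.Hom.comp_apply, Scheme.Hom.comp_apply] at h3
      exact h3.trans (Scheme.fromSpecResidueField_apply _ _)
  haveI : Finite ↥G.left := by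
    haveI := hfin.to_subtype
    exact Finite.of_injective (fun g => (⟨m.left g, hmem g⟩ :
      {r : ↥R.left | s.left r = u ∧ t.left r = u'}))
      (fun g g' h => m.left.injective (congrArg Subtype.val h))
  haveI : CompactSpace ↥G.left := inferInstance
  -- a point of `G`
  have hpt : AlgSp.Points.ofPt qu'.toHom (IsLocalRing.closedPoint qu'.K) =
      AlgSp.Points.ofPt qu.toHom (IsLocalRing.closedPoint qu.K) := by
    rw [hqu, hqu', Groth.Agent.S10176.ofPt_map_comp, Groth.Agent.S10176.ofPt_map_comp]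
    have h1 : ι.left (IsLocalRing.closedPoint qu.K) = u :=
      Scheme.fromSpecResidueField_apply _ _
    have h2 : ι'.left (IsLocalRing.closedPoint qu'.K) = u' :=
      Scheme.fromSpecResidueField_apply _ _
    rw [h1, h2, he]
  obtain ⟨g₀, -, -⟩ := Groth.Agent.S10176.exists_point_of_isPullback_yon sqG _ _ hpt
  let strL : Spec (G.left.residueField g₀) ⟶ S := G.left.fromSpecResidueField g₀ ≫ G.hom
  let ιG : Over.mk strL ⟶ G := Over.homMk (G.left.fromSpecResidueField g₀) rfl
  have hdd : (AlgSp.yon S).map (ιG ≫ g₁) ≫ qu'.toHom = (AlgSp.yon S).map (ιG ≫ g₂) ≫ qu.toHom := by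
    rw [Functor.map_comp, Functor.map_comp, Category.assoc, Category.assoc, sqG.w]
  -- the self fibre product of `Spec κ(u) ⟶ X`
  obtain ⟨Ru, tu, pr, sq⟩ := hXa.representable_from_yon qu.toHom qu.toHom
  obtain ⟨su, rfl⟩ := (AlgSp.yon S).map_surjective pr
  haveI : Etale tu.left := by
    have sq' := sq.flip
    rw [hqu] at sq'
    exact etale_of_mono_factor φ hφ qu.K qu.str ι tu su sq'
  -- `H = Spec L ×_X Spec κ(u)`
  obtain ⟨H, h₂, pr, sqH⟩ := hXa.representable_from_yon
    ((AlgSp.yon S).map (ιG ≫ g₂) ≫ qu.toHom) qu.toHom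
  obtain ⟨h₁, rfl⟩ := (AlgSp.yon S).map_surjective pr
  haveI : QuasiCompact (ιG ≫ g₁).left := quasiCompact_of_field (G.left.residueField g₀) _
  haveI : CompactSpace ↥H.left := by
    refine compactSpace_of_quasiCompact_snd qu.toHom qu'.toHom (ιG ≫ g₁) g₂ g₁ sqG.flip h₂ h₁ ?_
    rw [hdd]
    exact sqH.flip
  haveI : Surjective (ιG ≫ g₂).left := by
    refine ⟨fun y => ?_⟩
    haveI : Subsingleton ↥qu.pt.left :=
      inferInstanceAs (Subsingleton (PrimeSpectrum (U.left.residueField u)))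
    haveI : Nonempty ↥(Over.mk strL).left :=
      inferInstanceAs (Nonempty (PrimeSpectrum (G.left.residueField g₀)))
    obtain ⟨z⟩ := ‹Nonempty ↥(Over.mk strL).left›
    exact ⟨z, Subsingleton.elim _ _⟩
  haveI : CompactSpace ↥Ru.left :=
    compactSpace_of_surjective_fst qu.toHom qu.toHom (ιG ≫ g₂) su tu sq h₁ h₂ sqH
  obtain ⟨C, hC, str', c₀, p, h1, h2, -⟩ :=
    exists_mono_of_etale_compact qu.K qu.str qu.toHom su tu sq
  refine ⟨fieldPtOfHom C str' p, ?_, ?_⟩
  · rw [mk_fieldPtOfHom_eq qu.K C qu.str str' c₀ qu.toHom p h1, fieldPtOfHom_toHom_self]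
    rfl
  · rw [fieldPtOfHom_toHom]
    exact h2

end Groth.Agent.Lib.T2H1.FieldQuot
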