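import Mathlib
import Groth.Agent.Lib.T2H1FieldQuotI

/-!
# Field quotients: fibres of charts over a point (helper1)
-/

set_option autoImplicit false
universe u
open CategoryTheory CategoryTheory.Limits AlgebraicGeometry Opposite
open AlgSp

namespace Groth.Agent.Lib.T2H1.FieldQuot

open Groth.Agent.S13210

variable {S : Scheme.{u}}

/-- points of a fibre product of schemes over `S`, given as a cartesian square of sheaves. -/
lemma exists_point_of_isPullback_yon_map {A B C P : Over S} {f : A ⟶ C} {g : B ⟶ C} {p₁ : P ⟶ A}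
    {p₂ : P ⟶ B}
    (sq : IsPullback ((AlgSp.yon S).map p₁) ((AlgSp.yon S).map p₂) ((AlgSp.yon S).map f)
      ((AlgSp.yon S).map g)) (a : ↥A.left) (b : ↥B.left) (h : f.left a = g.left b) :
    ∃ y : ↥P.left, p₁.left y = a ∧ p₂.left y = b := by
  refine Groth.Agent.S10176.exists_point_of_isPullback_yon sq a b ?_
  have h1 := Groth.Agent.S10176.ofPt_map_comp f (𝟙 ((AlgSp.yon S).obj C)) a
  have h2 := Groth.Agent.S10176.ofPt_map_comp g (𝟙 ((AlgSp.yon S).obj C)) b
  rw [Category.comp_id] at h1 h2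
  rw [h1, h2, h]

/-- a scheme finite over a one-point scheme has finitely many points. -/
lemma finite_of_isFinite_of_subsingleton {T Y : Scheme.{u}} (c : T ⟶ Y) [IsFinite c]
    [Subsingleton ↥Y] : Finite ↥T := by
  by_cases hne : Nonempty ↥T
  · obtain ⟨τ⟩ := hne
    have h1 : (c ⁻¹' {c τ}).Finite := Scheme.Hom.finite_preimage_singleton c (c τ)
    have h2 : c ⁻¹' {c τ} = Set.univ := by
      ext y
      simp only [Set.mem_preimage, Set.mem_singleton_iff, Set.mem_univ, iff_true]
      exact Subsingleton.elim _ _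
    rw [h2] at h1
    exact Set.finite_univ_iff.1 h1
  · haveI : IsEmpty ↥T := not_nonempty_iff.1 hne
    infer_instance

/-- the fibre of a chart over the point defined by a field point is the image of the fibre
product. -/
theorem fibre_eq_range {X : AlgSp.Sp S} (p : AlgSp.FieldPt X) {U T : Over S}
    (φ : (AlgSp.yon S).obj U ⟶ X) (c : T ⟶ p.pt) (τ : T ⟶ U)
    (sq : IsPullback ((AlgSp.yon S).map c) ((AlgSp.yon S).map τ) p.toHom φ) :
    AlgSp.Points.ofPt φ ⁻¹' {AlgSp.Points.mk p} = Set.range τ.left := by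
  haveI : Subsingleton ↥p.pt.left := inferInstanceAs (Subsingleton (PrimeSpectrum p.K))
  ext u
  constructor
  · intro hu
    have hpt : AlgSp.Points.ofPt p.toHom (IsLocalRing.closedPoint p.K) = AlgSp.Points.ofPt φ u :=
      (Groth.Agent.S10177.ofPt_closedPoint p).trans (Eq.symm hu)
    obtain ⟨y, -, hy⟩ := Groth.Agent.S10176.exists_point_of_isPullback_yon sq _ u hpt
    exact ⟨y, hy⟩
  · rintro ⟨y, rfl⟩
    show AlgSp.Points.ofPt φ (τ.left y) = AlgSp.Points.mk p
    rw [← Groth.Agent.S10176.ofPt_map_comp, ← sq.w, Groth.Agent.S10176.ofPt_map_comp,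
      ← Groth.Agent.S10177.ofPt_closedPoint p]
    congr 1
    exact Subsingleton.elim _ _

/-- if the fibre product `Spec k ×_X U` is finite over `k`, then the fibre of `U ×_X U` over the
point is finite. -/
theorem finite_fibre_R {X : AlgSp.Sp S} (hXa : AlgSp.IsAlgSpace X) (p : AlgSp.FieldPt X)
    {U T R : Over S} (φ : (AlgSp.yon S).obj U ⟶ X) (c : T ⟶ p.pt) (τ : T ⟶ U)
    (sq : IsPullback ((AlgSp.yon S).map c) ((AlgSp.yon S).map τ) p.toHom φ) [IsFinite c.left]
    (s t : R ⟶ U) (hR : IsPullback ((AlgSp.yon S).map t) ((AlgSp.yon S).map s) φ φ) :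
    (AlgSp.Points.ofPt ((AlgSp.yon S).map t ≫ φ) ⁻¹' {AlgSp.Points.mk p}).Finite := by
  haveI : Subsingleton ↥p.pt.left := inferInstanceAs (Subsingleton (PrimeSpectrum p.K))
  obtain ⟨P', π₂', pr, sqP'⟩ := hXa.representable_from_yon ((AlgSp.yon S).map τ ≫ φ) φ
  obtain ⟨π₁', rfl⟩ := (AlgSp.yon S).map_surjective pr
  -- `P' ⟶ T` is a base change of `c`
  have sqP'' : IsPullback ((AlgSp.yon S).map π₂') ((AlgSp.yon S).map π₁') φ
      ((AlgSp.yon S).map c ≫ p.toHom) := by
    rw [sq.w]
    exact sqP'.flip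
  obtain ⟨e, -, -, hsqe⟩ := exists_baseChange_snd φ p.toHom c τ c sq.flip π₂' π₁' sqP''
  haveI : IsFinite e.left := baseChange_snd_property @IsFinite c c π₁' e hsqe ‹IsFinite c.left›
  haveI : IsFinite (e ≫ c).left := by
    rw [Over.comp_left]
    infer_instance
  haveI : Finite ↥P'.left := finite_of_isFinite_of_subsingleton (e ≫ c).left
  -- `P' ⟶ R` is a base change of `τ`
  obtain ⟨e', -, -, hsqe'⟩ := exists_baseChange_snd φ φ τ s t hR.flip π₂' π₁' sqP'.flip
  refine (Set.finite_range e'.left).subset ?_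
  intro r hr
  have hr' : AlgSp.Points.ofPt φ (t.left r) = AlgSp.Points.mk p := by
    rw [← Groth.Agent.S10176.ofPt_map_comp]
    exact hr
  have hmem : t.left r ∈ AlgSp.Points.ofPt φ ⁻¹' {AlgSp.Points.mk p} := hr'
  rw [fibre_eq_range p φ c τ sq] at hmem
  obtain ⟨y, hy⟩ := hmem
  obtain ⟨z, hz, -⟩ := exists_point_of_isPullback_yon_map hsqe' r y hy.symm
  exact ⟨z, hz⟩

/-- if `p` is a monomorphism and the fibre of the étale chart `U` over the point is finite, then
`Spec k ×_X U` is finite over `k`. -/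
theorem isFinite_of_finite_fibre {X : AlgSp.Sp S} (p : AlgSp.FieldPt X) [Mono p.toHom]
    {U T : Over S} (φ : (AlgSp.yon S).obj U ⟶ X) (hφ : AlgSp.RepWith @Etale φ) (c : T ⟶ p.pt)
    (τ : T ⟶ U) (sq : IsPullback ((AlgSp.yon S).map c) ((AlgSp.yon S).map τ) p.toHom φ)
    (hfin : (AlgSp.Points.ofPt φ ⁻¹' {AlgSp.Points.mk p}).Finite) : IsFinite c.left := by
  haveI : Mono ((AlgSp.yon S).map τ) := PullbackCone.mono_snd_of_is_pullback_of_mono sq.isLimit
  haveI : Mono τ := (AlgSp.yon S).mono_of_mono_map ‹_›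
  haveI : Mono τ.left := inferInstance
  haveI : Finite ↥T.left := by
    rw [fibre_eq_range p φ c τ sq] at hfin
    haveI := hfin.to_subtype
    exact Finite.of_injective (fun y => (⟨τ.left y, y, rfl⟩ : Set.range τ.left))
      (fun y y' h => τ.left.injective (congrArg Subtype.val h))
  haveI : Etale c.left := hφ.2 _ _ c sq.flip
  haveI : LocallyQuasiFinite c.left := Groth.Agent.S10555.lqf_of_etale c.left
  haveI : IsAffine p.pt.left := (inferInstance : IsAffine (Spec (CommRingCat.of p.K)))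
  haveI : CompactSpace ↥T.left := inferInstance
  haveI : QuasiCompact c.left :=
    (HasAffineProperty.iff_of_isAffine (P := @QuasiCompact)).2 ‹CompactSpace ↥T.left›
  haveI : IsLocallyArtinian p.pt.left :=
    Scheme.isLocallyArtinianScheme_Spec.mpr (inferInstance : IsArtinianRing p.K)
  exact IsFinite.of_locallyQuasiFinite c.left

end Groth.Agent.Lib.T2H1.FieldQuot
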