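import Mathlib
import Groth.Agent.Lib.T2H1FieldQuotJ

/-!
# Field quotients: quasi-compactness of a monomorphism with finite fibres in affine charts
(helper1)
-/

set_option autoImplicit false
universe u
open CategoryTheory CategoryTheory.Limits AlgebraicGeometry Opposite
open AlgSp

namespace Groth.Agent.Lib.T2H1.FieldQuot

open Groth.Agent.S13210

variable {S : Scheme.{u}}

/-- **a monomorphism `Spec k ⟶ X` whose point has finite fibres in all affine étale charts is
quasi-compact.** -/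
theorem repWith_quasiCompact_of_finite_fibres {X : AlgSp.Sp S} (hXa : AlgSp.IsAlgSpace X)
    (p : AlgSp.FieldPt X) [Mono p.toHom]
    (H : ∀ (U : Over S) (φ : (AlgSp.yon S).obj U ⟶ X), IsAffine U.left → AlgSp.RepWith @Etale φ →
      (AlgSp.Points.ofPt φ ⁻¹' {AlgSp.Points.mk p}).Finite) :
    AlgSp.RepWith @QuasiCompact p.toHom := by
  refine Groth.Agent.Lib.Helper12.ZarGlue.repWith_of_affine @QuasiCompact p.toHom
    (fun V hV g => ?_)
  haveI := hV
  haveI : CompactSpace ↥V.left := inferInstance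
  obtain ⟨Q, i, fst, sqQ⟩ := hXa.representable_from_yon p.toHom g
  obtain ⟨q₁, rfl⟩ := (AlgSp.yon S).map_surjective fst
  suffices hQ : CompactSpace ↥Q.left from
    ⟨Q, i, _, sqQ, (HasAffineProperty.iff_of_isAffine (P := @QuasiCompact)).2 hQ⟩
  obtain ⟨U₀, a, hae, has⟩ := hXa.atlas
  obtain ⟨V', v₂, pr, sqV⟩ := hXa.representable_from_yon g a
  obtain ⟨v₁, rfl⟩ := (AlgSp.yon S).map_surjective pr
  haveI : Etale v₁.left := hae.2 g _ v₁ sqV.flip
  haveI : Surjective v₁.left := has.2 g _ v₁ sqV.flip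
  -- choose affine opens
  have hch : ∀ v' : ↥V'.left, ∃ (Uo : U₀.left.Opens) (W : V'.left.Opens), IsAffineOpen Uo ∧
      IsAffineOpen W ∧ v' ∈ W ∧ W ≤ v₂.left ⁻¹ᵁ Uo := by
    intro v'
    obtain ⟨_, ⟨Uo, hUo, rfl⟩, hmem, -⟩ := U₀.left.isBasis_affineOpens.exists_subset_of_mem_open
      (Set.mem_univ (v₂.left v')) isOpen_univ
    obtain ⟨_, ⟨W, hW, rfl⟩, hmemW, hWle⟩ := V'.left.isBasis_affineOpens.exists_subset_of_mem_open
      (show v' ∈ ((v₂.left ⁻¹ᵁ Uo : V'.left.Opens) : Set ↥V'.left) from hmem) (v₂.left ⁻¹ᵁ Uo).2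
    exact ⟨Uo, W, hUo, hW, hmemW, hWle⟩
  choose Uo W hUo hW hmemW hWle using hch
  -- finite subcover
  have hcover : (Set.univ : Set ↥V.left) ⊆ ⋃ v', v₁.left '' (W v' : Set ↥V'.left) := by
    intro v _
    obtain ⟨v', rfl⟩ := v₁.left.surjective v
    exact Set.mem_iUnion.2 ⟨v', v', hmemW v', rfl⟩
  obtain ⟨J, hJ⟩ := isCompact_univ.elim_finite_subcover
    (fun v' => v₁.left '' (W v' : Set ↥V'.left)) (fun v' => v₁.left.isOpenMap _ (W v').2) hcover
  -- each piece is covered by a compact set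
  have hpiece : ∀ v', ∃ K : Set ↥Q.left, IsCompact K ∧
      i.left ⁻¹' (v₁.left '' (W v' : Set ↥V'.left)) ⊆ K := by
    intro v'
    let Wj : Over S := Over.mk ((W v').ι ≫ V'.hom)
    let Uj : Over S := Over.mk ((Uo v').ι ≫ U₀.hom)
    let ιW : Wj ⟶ V' := Over.homMk (W v').ι rfl
    let ιU : Uj ⟶ U₀ := Over.homMk (Uo v').ι rfl
    let d : Wj ⟶ Uj := Over.homMk (v₂.left.resLE (Uo v') (W v') (hWle v')) (by
      show v₂.left.resLE (Uo v') (W v') (hWle v') ≫ (Uo v').ι ≫ U₀.hom = (W v').ι ≫ V'.hom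
      rw [← Category.assoc, Scheme.Hom.resLE_comp_ι, Category.assoc, Over.w v₂])
    have hd : d ≫ ιU = ιW ≫ v₂ := by
      ext
      exact Scheme.Hom.resLE_comp_ι _ _
    haveI : IsAffine Uj.left := hUo v'
    haveI : IsAffine Wj.left := hW v'
    have hφj : AlgSp.RepWith @Etale ((AlgSp.yon S).map ιU ≫ a) := by
      refine MorphismProperty.comp_mem _ _ _ ((AlgSp.repWith_yon_map_iff _ _).2 ?_) hae
      exact (inferInstance : Etale (Uo v').ι)
    obtain ⟨Fj, τ, pr, sqF⟩ := hXa.representable_from_yon p.toHom ((AlgSp.yon S).map ιU ≫ a)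
    obtain ⟨c, rfl⟩ := (AlgSp.yon S).map_surjective pr
    haveI : IsFinite c.left := isFinite_of_finite_fibre p _ hφj c τ sqF (H Uj _ inferInstance hφj)
    haveI : Subsingleton ↥p.pt.left := inferInstanceAs (Subsingleton (PrimeSpectrum p.K))
    haveI : Finite ↥Fj.left := finite_of_isFinite_of_subsingleton c.left
    haveI : CompactSpace ↥Fj.left := inferInstance
    obtain ⟨Qj, π₂, pr, sqQj⟩ := hXa.representable_from_yon p.toHom
      ((AlgSp.yon S).map d ≫ (AlgSp.yon S).map ιU ≫ a)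
    obtain ⟨π₁, rfl⟩ := (AlgSp.yon S).map_surjective pr
    haveI : CompactSpace ↥Wj.left := inferInstance
    haveI : QuasiCompact d.left :=
      (HasAffineProperty.iff_of_isAffine (P := @QuasiCompact)).2 ‹CompactSpace ↥Wj.left›
    haveI : CompactSpace ↥Qj.left :=
      compactSpace_of_quasiCompact_snd p.toHom ((AlgSp.yon S).map ιU ≫ a) d c τ sqF π₁ π₂ sqQj
    have hcompat : (AlgSp.yon S).map d ≫ (AlgSp.yon S).map ιU ≫ a =
        (AlgSp.yon S).map (ιW ≫ v₁) ≫ g := by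
      rw [← Category.assoc, ← Functor.map_comp, hd, Functor.map_comp, Functor.map_comp,
        Category.assoc, Category.assoc, sqV.w]
    rw [hcompat] at sqQj
    obtain ⟨e, -, -, hsqe⟩ := exists_baseChange_snd p.toHom g (ιW ≫ v₁) q₁ i sqQ π₁ π₂ sqQj
    refine ⟨Set.range e.left, isCompact_range e.left.continuous, ?_⟩
    rintro q ⟨w, hw, hwq⟩
    have hq : i.left q = (ιW ≫ v₁).left (⟨w, hw⟩ : ↥(W v')) := by
      rw [Over.comp_left, Scheme.Hom.comp_apply]
      exact hwq.symm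
    obtain ⟨z, hz, -⟩ := exists_point_of_isPullback_yon_map hsqe q _ hq
    exact ⟨z, hz⟩
  choose K hKc hK using hpiece
  have huniv : (⋃ v' ∈ J, K v') = Set.univ := by
    apply Set.eq_univ_of_univ_subset
    intro q _
    have hq := hJ (Set.mem_univ (i.left q))
    simp only [Set.mem_iUnion] at hq ⊢
    obtain ⟨v', hv'J, hv'⟩ := hq
    exact ⟨v', hv'J, hK v' hv'⟩
  refine ⟨?_⟩
  rw [← huniv]
  exact J.isCompact_biUnion (fun v' _ => hKc v')

end Groth.Agent.Lib.T2H1.FieldQuot
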