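import Mathlib
import Groth.Agent.Lib.T2H1FieldQuotK
import Groth.Agent.Lib.T2H1QOpenSchC
import Groth.Agent.Lib.Helper12LargestOpen

/-!
# Decency is local on a base scheme (helper1)
-/

set_option autoImplicit false
universe u
open CategoryTheory CategoryTheory.Limits AlgebraicGeometry Opposite
open AlgSp

namespace Groth.Agent.Lib.T2H1.FieldQuot

open Groth.Agent.S13210

variable {S : Scheme.{u}}

/-- in a decent algebraic space, affine étale charts have finite fibres. -/
theorem finite_fibre_of_decent {P : AlgSp.Sp S} (hPa : AlgSp.IsAlgSpace P)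
    (hPd : AlgSp.IsDecent P) {N : Over S} [IsAffine N.left] (φ : (AlgSp.yon S).obj N ⟶ P)
    (hφ : AlgSp.RepWith @Etale φ) (y : AlgSp.Points P) :
    (AlgSp.Points.ofPt φ ⁻¹' {y}).Finite := by
  obtain ⟨p, rfl, hpm, hpqc⟩ := hPd y
  obtain ⟨T, τ, pr, sq⟩ := hPa.representable_from_yon p.toHom φ
  obtain ⟨c, rfl⟩ := (AlgSp.yon S).map_surjective pr
  haveI : QuasiCompact τ.left := hpqc.2 φ _ τ sq
  haveI : CompactSpace ↥N.left := inferInstance
  haveI : CompactSpace ↥T.left := QuasiCompact.compactSpace_of_compactSpace τ.left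
  haveI : Etale c.left := hφ.2 _ _ c sq.flip
  haveI : LocallyQuasiFinite c.left := Groth.Agent.S10555.lqf_of_etale c.left
  haveI : IsAffine p.pt.left := (inferInstance : IsAffine (Spec (CommRingCat.of p.K)))
  haveI : QuasiCompact c.left :=
    (HasAffineProperty.iff_of_isAffine (P := @QuasiCompact)).2 ‹CompactSpace ↥T.left›
  haveI : IsLocallyArtinian p.pt.left :=
    Scheme.isLocallyArtinianScheme_Spec.mpr (inferInstance : IsArtinianRing p.K)
  haveI : IsFinite c.left := IsFinite.of_locallyQuasiFinite c.left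
  haveI : Subsingleton ↥p.pt.left := inferInstanceAs (Subsingleton (PrimeSpectrum p.K))
  haveI : Finite ↥T.left := finite_of_isFinite_of_subsingleton c.left
  rw [fibre_eq_range p φ c τ sq]
  exact Set.finite_range _

/-- **decency is local on a base scheme**: an algebraic space over a scheme `T` whose
restrictions to the members of an open cover of `T` are decent is decent. -/
theorem isDecent_of_local {F' : AlgSp.Sp S} (hF : AlgSp.IsAlgSpace F') {T : Over S}
    (π : F' ⟶ (AlgSp.yon S).obj T)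
    (H : ∀ t : ↥T.left, ∃ To : T.left.Opens, t ∈ To ∧ AlgSp.IsDecent
      (pullback π ((AlgSp.yon S).map (Over.homMk To.ι rfl : Over.mk (To.ι ≫ T.hom) ⟶ T)))) :
    AlgSp.IsDecent F' := by
  -- general facts about the restriction to an open
  have hopen : ∀ To : T.left.Opens, AlgSp.RepWith @IsOpenImmersion
      (pullback.fst π ((AlgSp.yon S).map (Over.homMk To.ι rfl : Over.mk (To.ι ≫ T.hom) ⟶ T))) := by
    intro To
    refine MorphismProperty.of_isPullback (P := AlgSp.RepWith @IsOpenImmersion)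
      (IsPullback.of_hasPullback π _).flip ((AlgSp.repWith_yon_map_iff _ _).2 ?_)
    exact (inferInstance : IsOpenImmersion To.ι)
  have halg : ∀ To : T.left.Opens, AlgSp.IsAlgSpace
      (pullback π ((AlgSp.yon S).map (Over.homMk To.ι rfl : Over.mk (To.ι ≫ T.hom) ⟶ T))) := by
    intro To
    exact Groth.Agent.S9874.isAlgSpace_of_isPullback (AlgSp.IsAlgSpace.yon_obj T).diag hF
      (AlgSp.IsAlgSpace.yon_obj _) (IsPullback.of_hasPullback π _)
  intro x'
  -- step 1: a monomorphism representing `x'`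
  obtain ⟨t, ht⟩ := (AlgSp.Points.schemeHomeo T).surjective (AlgSp.Points.map π x')
  obtain ⟨To, htTo, hPd⟩ := H t
  have hj := hopen To
  haveI hjm : Mono (pullback.fst π
      ((AlgSp.yon S).map (Over.homMk To.ι rfl : Over.mk (To.ι ≫ T.hom) ⟶ T))) :=
    Groth.Agent.Lib.Helper12.LargestOpen.mono_of_open _ hj
  have hx'' : ∃ x'', AlgSp.Points.map (pullback.fst π
      ((AlgSp.yon S).map (Over.homMk To.ι rfl : Over.mk (To.ι ≫ T.hom) ⟶ T))) x'' = x' := by
    have e : AlgSp.Points.map π x' = AlgSp.Points.map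
        ((AlgSp.yon S).map (Over.homMk To.ι rfl : Over.mk (To.ι ≫ T.hom) ⟶ T))
        (AlgSp.Points.schemeHomeo (Over.mk (To.ι ≫ T.hom)) (⟨t, htTo⟩ : ↥To)) :=
      ht.symm.trans (AlgSp.Points.map_yon_map_apply
        (Over.homMk To.ι rfl : Over.mk (To.ι ≫ T.hom) ⟶ T) (⟨t, htTo⟩ : ↥To)).symm
    obtain ⟨x'', h1, -⟩ := Groth.Agent.S10175.exists_point_of_isPullback
      (IsPullback.of_hasPullback π _) x' _ e
    exact ⟨x'', h1⟩
  obtain ⟨x'', rfl⟩ := hx''
  obtain ⟨p'', rfl, hpm, -⟩ := hPd x''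
  haveI := hpm
  haveI : Mono (p''.map (pullback.fst π
      ((AlgSp.yon S).map (Over.homMk To.ι rfl : Over.mk (To.ι ≫ T.hom) ⟶ T)))).toHom := by
    rw [AlgSp.FieldPt.toHom_map]
    exact @mono_comp _ _ _ _ _ _ hpm _ hjm
  refine ⟨p''.map _, rfl, inferInstance, ?_⟩
  -- step 2: quasi-compactness
  refine repWith_quasiCompact_of_finite_fibres hF _ (fun U φ hU hφ => ?_)
  haveI := hU
  haveI : CompactSpace ↥U.left := inferInstance
  obtain ⟨ψ, hψ⟩ := (AlgSp.yon S).map_surjective (φ ≫ π)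
  have hch : ∀ u : ↥U.left, ∃ (To : T.left.Opens) (N : U.left.Opens), IsAffineOpen N ∧ u ∈ N ∧
      N ≤ ψ.left ⁻¹ᵁ To ∧ AlgSp.IsDecent
        (pullback π ((AlgSp.yon S).map (Over.homMk To.ι rfl : Over.mk (To.ι ≫ T.hom) ⟶ T))) := by
    intro u
    obtain ⟨To, hTo, hd⟩ := H (ψ.left u)
    obtain ⟨_, ⟨N, hN, rfl⟩, hmemN, hNle⟩ := U.left.isBasis_affineOpens.exists_subset_of_mem_open
      (show u ∈ ((ψ.left ⁻¹ᵁ To : U.left.Opens) : Set ↥U.left) from hTo) (ψ.left ⁻¹ᵁ To).2
    exact ⟨To, N, hN, hmemN, hNle, hd⟩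
  choose To' N hN hmemN hNle hd using hch
  obtain ⟨J, hJ⟩ := isCompact_univ.elim_finite_subcover (fun u => (N u : Set ↥U.left))
    (fun u => (N u).2) (fun u _ => Set.mem_iUnion.2 ⟨u, hmemN u⟩)
  have hpiece : ∀ u, ((N u : Set ↥U.left) ∩ AlgSp.Points.ofPt φ ⁻¹'
      {AlgSp.Points.mk (p''.map (pullback.fst π
        ((AlgSp.yon S).map (Over.homMk To.ι rfl : Over.mk (To.ι ≫ T.hom) ⟶ T))))}).Finite := by
    intro u
    set x' := AlgSp.Points.mk (p''.map (pullback.fst π
        ((AlgSp.yon S).map (Over.homMk To.ι rfl : Over.mk (To.ι ≫ T.hom) ⟶ T)))) with hx'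
    let Nj : Over S := Over.mk ((N u).ι ≫ U.hom)
    let ιN : Nj ⟶ U := Over.homMk (N u).ι rfl
    let ιT : Over.mk ((To' u).ι ≫ T.hom) ⟶ T := Over.homMk (To' u).ι rfl
    let d : Nj ⟶ Over.mk ((To' u).ι ≫ T.hom) :=
      Over.homMk (ψ.left.resLE (To' u) (N u) (hNle u)) (by
        show ψ.left.resLE (To' u) (N u) (hNle u) ≫ (To' u).ι ≫ T.hom = (N u).ι ≫ U.hom
        rw [← Category.assoc, Scheme.Hom.resLE_comp_ι, Category.assoc, Over.w ψ])
    have hdd : d ≫ ιT = ιN ≫ ψ := by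
      ext
      exact Scheme.Hom.resLE_comp_ι _ _
    haveI : IsAffine Nj.left := hN u
    let φN : (AlgSp.yon S).obj Nj ⟶ pullback π ((AlgSp.yon S).map ιT) :=
      pullback.lift ((AlgSp.yon S).map ιN ≫ φ) ((AlgSp.yon S).map d) (by
        rw [Category.assoc, ← hψ, ← Functor.map_comp, ← Functor.map_comp, hdd])
    have hφN1 : φN ≫ pullback.fst π ((AlgSp.yon S).map ιT) = (AlgSp.yon S).map ιN ≫ φ :=
      pullback.lift_fst _ _ _
    haveI : Mono (pullback.fst π ((AlgSp.yon S).map ιT)) :=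
      Groth.Agent.Lib.Helper12.LargestOpen.mono_of_open _ (hopen (To' u))
    have hφN : AlgSp.RepWith @Etale φN := by
      refine Groth.Agent.Lib.T2H1.QOpenSch.repWith_of_comp_mono @Etale φN
        (pullback.fst π ((AlgSp.yon S).map ιT)) ?_
      rw [hφN1]
      refine MorphismProperty.comp_mem _ _ _ ((AlgSp.repWith_yon_map_iff _ _).2 ?_) hφ
      exact (inferInstance : Etale (N u).ι)
    have hinj := Groth.Agent.Lib.Helper12.LargestOpen.injective_map_of_open _ (hopen (To' u))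
    have hkey : ∀ n' : ↥Nj.left, AlgSp.Points.ofPt φ (ιN.left n') =
        AlgSp.Points.map (pullback.fst π ((AlgSp.yon S).map ιT)) (AlgSp.Points.ofPt φN n') := by
      intro n'
      rw [AlgSp.Points.map_ofPt, hφN1, Groth.Agent.S10176.ofPt_map_comp]
    by_cases hx : ∃ y, AlgSp.Points.map (pullback.fst π ((AlgSp.yon S).map ιT)) y = x'
    · obtain ⟨y, hy⟩ := hx
      have hfin := finite_fibre_of_decent (halg (To' u)) (hd u) φN hφN y
      refine (hfin.image ιN.left).subset ?_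
      rintro n ⟨hnN, hn⟩
      refine ⟨(⟨n, hnN⟩ : ↥(N u)), ?_, rfl⟩
      show AlgSp.Points.ofPt φN (⟨n, hnN⟩ : ↥(N u)) = y
      apply hinj
      rw [← hkey, hy]
      exact hn
    · convert Set.finite_empty
      rw [Set.eq_empty_iff_forall_notMem]
      rintro n ⟨hnN, hn⟩
      refine hx ⟨AlgSp.Points.ofPt φN (⟨n, hnN⟩ : ↥(N u)), ?_⟩
      rw [← hkey]
      exact hn
  refine (J.finite_toSet.biUnion (fun u _ => hpiece u)).subset ?_
  intro n hn
  have := hJ (Set.mem_univ n)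
  simp only [Set.mem_iUnion] at this ⊢
  obtain ⟨u, huJ, hnu⟩ := this
  exact ⟨u, huJ, hnu, hn⟩

end Groth.Agent.Lib.T2H1.FieldQuot
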