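import Mathlib
import Groth.Agent.Lib.T2H1BranchCount
import Groth.Agent.S10440
import Groth.Agent.S10420
import Groth.Agent.S9235

/-!
# Branches at a point of a decent algebraic space (helper1)
-/

set_option autoImplicit false
universe u
open CategoryTheory CategoryTheory.Limits AlgebraicGeometry IsLocalRing
open AlgSp

namespace Groth.Agent.Lib.T2H1.DecentBranch

open Groth.Agent.Lib.Helper3 Groth.Agent.Lib.Helper3.Hz Groth.Agent.Lib.T2H1.BranchCount

variable {S : Scheme.{u}}

/-- the number of branches of the local ring of any elementary étale neighbourhood of `x` is the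
number of minimal primes of a fixed model of the henselian local ring at `x`. -/
theorem numBranches_eq_encard_of_isElemEtaleNbhd (X : AlgSp.Space S)
    (hX : AlgSp.IsDecent X.obj) (x : AlgSp.Points X.obj) {U₀ : Over S}
    (a₀ : (AlgSp.yon S).obj U₀ ⟶ X.obj) (u₀ : ↥U₀.left) (h₀ : AlgSp.IsElemEtaleNbhd a₀ u₀ x)
    (R : Type u) [CommRing R] [IsLocalRing R] [Algebra ↥(U₀.left.presheaf.stalk u₀) R]
    [IsLocalHom (algebraMap ↥(U₀.left.presheaf.stalk u₀) R)]
    [Hensel.IsHenselization ↥(U₀.left.presheaf.stalk u₀) R]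
    (U : Over S) (a : (AlgSp.yon S).obj U ⟶ X.obj) (u : ↥U.left)
    (hn : AlgSp.IsElemEtaleNbhd a u x) :
    Brnch.numBranches ↥(U.left.presheaf.stalk u) = (minimalPrimes R).encard := by
  obtain ⟨U'', a'', v, h₁, h₂, hn'', e₁, e₂, hv₁, hv₂⟩ :=
    (Groth.Agent.S10420.result X hX x).1 U₀ U a₀ a u₀ u h₀ hn
  subst hv₁
  subst hv₂
  have h1 : Brnch.numBranches ↥(U₀.left.presheaf.stalk (h₁.left.base v)) =
      (minimalPrimes (Rh ↥(U''.left.presheaf.stalk v))).encard := by
    obtain ⟨hloc, hhens⟩ := Groth.Agent.S10440.result X hX x a₀ a'' h₁ v e₁ h₀ hn''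
      (Rh ↥(U''.left.presheaf.stalk v))
    letI : Algebra ↥(U₀.left.presheaf.stalk (h₁.left.base v)) (Rh ↥(U''.left.presheaf.stalk v)) :=
      ((algebraMap ↥(U''.left.presheaf.stalk v) (Rh ↥(U''.left.presheaf.stalk v))).comp
        (h₁.left.stalkMap v).hom).toAlgebra
    haveI := hloc
    haveI := hhens
    exact numBranches_eq_encard_of_isHenselization _ _
  have h2 : Brnch.numBranches ↥(U.left.presheaf.stalk (h₂.left.base v)) =
      (minimalPrimes (Rh ↥(U''.left.presheaf.stalk v))).encard := by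
    obtain ⟨hloc, hhens⟩ := Groth.Agent.S10440.result X hX x a a'' h₂ v e₂ hn hn''
      (Rh ↥(U''.left.presheaf.stalk v))
    letI : Algebra ↥(U.left.presheaf.stalk (h₂.left.base v)) (Rh ↥(U''.left.presheaf.stalk v)) :=
      ((algebraMap ↥(U''.left.presheaf.stalk v) (Rh ↥(U''.left.presheaf.stalk v))).comp
        (h₂.left.stalkMap v).hom).toAlgebra
    haveI := hloc
    haveI := hhens
    exact numBranches_eq_encard_of_isHenselization _ _
  have h3 : Brnch.numBranches ↥(U₀.left.presheaf.stalk (h₁.left.base v)) =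
      (minimalPrimes R).encard := numBranches_eq_encard_of_isHenselization _ R
  exact h2.trans (h1.symm.trans h3)

open Groth.Agent.S10420 in
/-- an étale neighbourhood, with trivial residue field extension, of an elementary étale
neighbourhood is an elementary étale neighbourhood. -/
theorem isElemEtaleNbhd_comp {X : AlgSp.Sp S} {x : AlgSp.Points X} {U₀ : Over S}
    (a₀ : (AlgSp.yon S).obj U₀ ⟶ X) (u₀ : ↥U₀.left) (h₀ : AlgSp.IsElemEtaleNbhd a₀ u₀ x)
    {U' : Scheme.{u}} (g : U' ⟶ U₀.left) [Etale g] (u' : U') (hgu : g u' = u₀)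
    (hbij : Function.Bijective (g.residueFieldMap u').hom) :
    AlgSp.IsElemEtaleNbhd (U := Over.mk (g ≫ U₀.hom))
      ((AlgSp.yon S).map (Over.homMk g rfl : Over.mk (g ≫ U₀.hom) ⟶ U₀) ≫ a₀) u' x := by
  subst hgu
  let U : Over S := Over.mk (g ≫ U₀.hom)
  let h : U ⟶ U₀ := Over.homMk g rfl
  have hhl : h.left = g := rfl
  refine ⟨?_, ?_, ?_⟩
  · exact MorphismProperty.comp_mem _ _ _ ((AlgSp.repWith_yon_map_iff _ _).2
      (by rw [hhl]; infer_instance)) h₀.etale
  · rw [Groth.Agent.S10176.ofPt_map_comp]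
    exact h₀.ofPt_eq
  · refine mono_toHom_ofPt (U := U) ((AlgSp.yon S).map h ≫ a₀) u' (fun Z s t hst => ?_)
    have e1 : s ≫ ptι U u' ≫ h = t ≫ ptι U u' ≫ h := by
      refine key h h a₀ u' (g u') rfl rfl h₀.mono s t ?_
      simpa only [Functor.map_comp, Category.assoc] using hst
    let r : Over.mk (U.left.fromSpecResidueField u' ≫ U.hom) ⟶
        Over.mk (U₀.left.fromSpecResidueField (g u') ≫ U₀.hom) :=
      Over.homMk (Spec.map (g.residueFieldMap u')) (by
        show Spec.map (g.residueFieldMap u') ≫ U₀.left.fromSpecResidueField (g u') ≫ U₀.hom =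
          U'.fromSpecResidueField u' ≫ g ≫ U₀.hom
        rw [← Category.assoc, Scheme.Hom.SpecMap_residueFieldMap_fromSpecResidueField,
          Category.assoc])
    have hr : r ≫ ptι U₀ (g u') = ptι U u' ≫ h := by
      ext
      exact Scheme.Hom.SpecMap_residueFieldMap_fromSpecResidueField _ _
    haveI : IsIso (g.residueFieldMap u') :=
      (ConcreteCategory.isIso_iff_bijective _).2 hbij
    haveI : IsIso r.left := (inferInstance : IsIso (Spec.map (g.residueFieldMap u')))
    haveI : Mono r := Over.mono_of_mono_left _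
    rw [← hr, ← Category.assoc, ← Category.assoc] at e1
    have e2 := (cancel_mono (ptι U₀ (g u'))).1 e1
    have e3 := (cancel_mono r).1 e2
    rw [e3]

/-- if the local ring of an elementary étale neighbourhood has at least `k` branches, some
elementary étale neighbourhood has at least `k` minimal primes in its local ring. -/
theorem exists_isElemEtaleNbhd_le_encard {X : AlgSp.Sp S} {x : AlgSp.Points X} {U₀ : Over S}
    (a₀ : (AlgSp.yon S).obj U₀ ⟶ X) (u₀ : ↥U₀.left) (h₀ : AlgSp.IsElemEtaleNbhd a₀ u₀ x) (k : ℕ)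
    (hk : (k : ℕ∞) ≤ Brnch.numBranches ↥(U₀.left.presheaf.stalk u₀)) :
    ∃ (U : Over S) (a : (AlgSp.yon S).obj U ⟶ X) (u : ↥U.left), AlgSp.IsElemEtaleNbhd a u x ∧
      (k : ℕ∞) ≤ (minimalPrimes ↥(U.left.presheaf.stalk u)).encard := by
  obtain ⟨U', g, u', hg, hgu, hbij, hle⟩ := exists_etale_nbhd_le_encard U₀.left u₀ k hk
  haveI := hg
  exact ⟨Over.mk (g ≫ U₀.hom), _, u', isElemEtaleNbhd_comp a₀ u₀ h₀ g u' hgu hbij, hle⟩

/-- the three facts relating the elementary étale neighbourhoods of a point of a decent space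
with a model `R` of its henselian local ring. -/
theorem package (X : AlgSp.Space S) (hX : AlgSp.IsDecent X.obj) (x : AlgSp.Points X.obj)
    {U₀ : Over S} (a₀ : (AlgSp.yon S).obj U₀ ⟶ X.obj) (u₀ : ↥U₀.left)
    (h₀ : AlgSp.IsElemEtaleNbhd a₀ u₀ x)
    (R : Type u) [CommRing R] [IsLocalRing R] [Algebra ↥(U₀.left.presheaf.stalk u₀) R]
    [IsLocalHom (algebraMap ↥(U₀.left.presheaf.stalk u₀) R)]
    [Hensel.IsHenselization ↥(U₀.left.presheaf.stalk u₀) R] :
    (∀ (U : Over S) (a : (AlgSp.yon S).obj U ⟶ X.obj) (u : ↥U.left),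
      AlgSp.IsElemEtaleNbhd a u x →
        Brnch.numBranches ↥(U.left.presheaf.stalk u) = (minimalPrimes R).encard) ∧
    (∀ (U : Over S) (a : (AlgSp.yon S).obj U ⟶ X.obj) (u : ↥U.left),
      AlgSp.IsElemEtaleNbhd a u x →
        (minimalPrimes ↥(U.left.presheaf.stalk u)).encard ≤ (minimalPrimes R).encard) ∧
    (∀ k : ℕ, (k : ℕ∞) ≤ (minimalPrimes R).encard →
      ∃ (U : Over S) (a : (AlgSp.yon S).obj U ⟶ X.obj) (u : ↥U.left),
        AlgSp.IsElemEtaleNbhd a u x ∧
          (k : ℕ∞) ≤ (minimalPrimes ↥(U.left.presheaf.stalk u)).encard) := by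
  have F1 := numBranches_eq_encard_of_isElemEtaleNbhd X hX x a₀ u₀ h₀ R
  refine ⟨F1, fun U a u hn => ?_, fun k hk => ?_⟩
  · rw [← F1 U a u hn]
    exact encard_minimalPrimes_le_numBranches _
  · exact exists_isElemEtaleNbhd_le_encard a₀ u₀ h₀ k (by rw [F1 U₀ a₀ u₀ h₀]; exact hk)

end Groth.Agent.Lib.T2H1.DecentBranch
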