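import Mathlib

set_option autoImplicit false
universe u
open TensorProduct

namespace Groth.Agent.Lib.T2H2.NowhereDenseAlg

section alg1
variable {O P : Type*} [CommRing O] [IsLocalRing O] [AddCommGroup P] [Module O P] [Module.Finite O P]

/-- from a generating set `G` of a finite module over a local ring one can pick
`dim_k (k ⊗ P)` elements which still generate. (copied from `Helper2RankLoc`) -/
theorem exists_fin_span_eq_top (G : Set P) (hG : Submodule.span O G = ⊤) :
    ∃ f : Fin (Module.finrank (IsLocalRing.ResidueField O)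
        (IsLocalRing.ResidueField O ⊗[O] P)) → P,
      (∀ i, f i ∈ G) ∧ Submodule.span O (Set.range f) = ⊤ := by
  classical
  set k := IsLocalRing.ResidueField O with hk
  set T : Set (k ⊗[O] P) := (TensorProduct.mk O k P 1) '' G with hT
  have hspan : Submodule.span k T = ⊤ := by
    rw [← IsLocalRing.map_tensorProduct_mk_eq_top, Submodule.map_span,
      ← Submodule.restrictScalars_span O k Ideal.Quotient.mk_surjective,
      Submodule.restrictScalars_eq_top_iff] at hG
    exact hG
  obtain ⟨b, hbT, hbspan, hbli⟩ := exists_linearIndependent k T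
  have hbtop : ⊤ ≤ Submodule.span k (Set.range (Subtype.val : b → k ⊗[O] P)) := by
    rw [Subtype.range_coe_subtype, Set.ofPred_mem_eq, hbspan, hspan]
  let B : Module.Basis b k (k ⊗[O] P) := Module.Basis.mk hbli hbtop
  have : Fintype b := FiniteDimensional.fintypeBasisIndex B
  have hcard : Module.finrank k (k ⊗[O] P) = Fintype.card b := Module.finrank_eq_card_basis B
  let e : Fin (Module.finrank k (k ⊗[O] P)) ≃ b := (Fintype.equivFinOfCardEq hcard.symm).symm
  have hch : ∀ i, ∃ p ∈ G, TensorProduct.mk O k P 1 p = (e i : k ⊗[O] P) := fun i => hbT (e i).2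
  choose f hfG hf using hch
  refine ⟨f, hfG, ?_⟩
  refine IsLocalRing.span_eq_top_of_tmul_eq_basis f (B.reindex e.symm) (fun i => ?_)
  rw [Module.Basis.reindex_apply, Equiv.symm_symm, Module.Basis.mk_apply]
  exact hf i

end alg1

section alg2
variable {A N : Type*} [CommRing A] [AddCommGroup N] [Module A N] [Module.Finite A N]
  (S : Submonoid A) {A' N' : Type*} [CommRing A'] [Algebra A A'] [IsLocalization S A']
  [AddCommGroup N'] [Module A N'] [Module A' N'] [IsScalarTower A A' N']
  (g : N →ₗ[A] N') [IsLocalizedModule S g]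

/-- if the images of `m i` generate the localization, then some `f ∈ S` multiplies `N` into the span
of the `m i`. (copied from `Helper2RankLoc`) -/
theorem exists_smul_mem_span_of_span_eq_top {ι : Type*} (m : ι → N)
    (h : Submodule.span A' (Set.range (g ∘ m)) = ⊤) :
    ∃ f ∈ S, ∀ y : N, f • y ∈ Submodule.span A (Set.range m) := by
  classical
  set N₀ := Submodule.span A (Set.range m) with hN₀
  have hloc : N₀.localized' A' S g = ⊤ := by
    rw [hN₀, Submodule.localized'_span, ← Set.range_comp]
    exact h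
  have key : ∀ y : N, ∃ t ∈ S, t • y ∈ N₀ := by
    intro y
    have hy : g y ∈ N₀.localized' A' S g := by rw [hloc]; trivial
    rw [Submodule.mem_localized'] at hy
    obtain ⟨n₀, hn₀, s, hs⟩ := hy
    rw [IsLocalizedModule.mk'_eq_iff] at hs
    have hs' : g n₀ = g ((s : A) • y) := by rw [map_smul]; exact hs
    obtain ⟨t, ht⟩ := IsLocalizedModule.exists_of_eq (S := S) hs'
    refine ⟨t * s, S.mul_mem t.2 s.2, ?_⟩
    rw [mul_smul]
    change (t : A) • ((s : A) • y) ∈ N₀
    have : (t : A) • ((s : A) • y) = (t : A) • n₀ := ht.symm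
    rw [this]
    exact N₀.smul_mem _ hn₀
  obtain ⟨Gs, hGs⟩ := (Module.Finite.fg_top : (⊤ : Submodule A N).FG)
  choose t htS ht using key
  refine ⟨∏ y ∈ Gs, t y, S.prod_mem (fun y _ => htS y), fun y => ?_⟩
  have hy : y ∈ Submodule.span A (Gs : Set N) := by rw [hGs]; trivial
  induction hy using Submodule.span_induction with
  | mem z hz =>
    rw [← Finset.mul_prod_erase Gs t hz, mul_comm, mul_smul]
    exact N₀.smul_mem _ (ht z)
  | zero => rw [smul_zero]; exact N₀.zero_mem
  | add a b _ _ ha hb => rw [smul_add]; exact N₀.add_mem ha hb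
  | smul c a _ ha => rw [smul_comm]; exact N₀.smul_mem _ ha

end alg2

section genbasis
variable (R : Type*) [CommRing R] (M : Type*) [AddCommGroup M] [Module R M]

/-- fibre dimension at a prime, via the localized module. -/
noncomputable def fibDim (q : PrimeSpectrum R) : ℕ :=
  Module.finrank (IsLocalRing.ResidueField (Localization.AtPrime q.asIdeal))
    (IsLocalRing.ResidueField (Localization.AtPrime q.asIdeal) ⊗[Localization.AtPrime q.asIdeal]
      LocalizedModule q.asIdeal.primeCompl M)

variable {R M}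

/-- If `r • M ⊆ span (m i)` with `r ∉ q`, then the images of the `m i` span the localization at `q`. -/
theorem span_localized_eq_top (q : PrimeSpectrum R) {n : ℕ} (m : Fin n → M) (r : R)
    (hr : r ∉ q.asIdeal) (hspan : ∀ x : M, r • x ∈ Submodule.span R (Set.range m)) :
    Submodule.span (Localization.AtPrime q.asIdeal)
      (Set.range (LocalizedModule.mkLinearMap q.asIdeal.primeCompl M ∘ m)) = ⊤ := by
  set S := q.asIdeal.primeCompl
  set g := LocalizedModule.mkLinearMap S M
  have h1 : Submodule.span (Localization.AtPrime q.asIdeal) (g '' (Set.univ : Set M)) = ⊤ :=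
    span_eq_top_of_isLocalizedModule (Localization.AtPrime q.asIdeal) S g (v := Set.univ)
      (by simp)
  rw [eq_top_iff, ← h1, Submodule.span_le]
  rintro _ ⟨x, -, rfl⟩
  have hu : IsUnit (algebraMap R (Localization.AtPrime q.asIdeal) r) :=
    IsLocalization.map_units (M := S) _ ⟨r, hr⟩
  have h2 : g (r • x) ∈ Submodule.span (Localization.AtPrime q.asIdeal) (Set.range (g ∘ m)) := by
    have := hspan x
    have h3 : Submodule.span R (Set.range m) ≤
        ((Submodule.span (Localization.AtPrime q.asIdeal) (Set.range (g ∘ m))).restrictScalars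
          R).comap g := by
      rw [Submodule.span_le]
      rintro _ ⟨i, rfl⟩
      exact Submodule.subset_span ⟨i, rfl⟩
    exact h3 this
  rw [map_smul, ← algebraMap_smul (Localization.AtPrime q.asIdeal) r (g x)] at h2
  have := Submodule.smul_mem _ (hu.unit⁻¹ : (Localization.AtPrime q.asIdeal)ˣ).1 h2
  rwa [smul_smul, IsUnit.val_inv_mul, one_smul] at this

end genbasis


section genbasis2
variable {O P : Type*} [CommRing O] [IsLocalRing O] [AddCommGroup P] [Module O P]
  [Module.Finite O P]

theorem span_tmul_eq_top (G : Set P) (hG : Submodule.span O G = ⊤) :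
    Submodule.span (IsLocalRing.ResidueField O)
      ((TensorProduct.mk O (IsLocalRing.ResidueField O) P 1) '' G) = ⊤ := by
  rw [← IsLocalRing.map_tensorProduct_mk_eq_top, Submodule.map_span,
    ← Submodule.restrictScalars_span O (IsLocalRing.ResidueField O) Ideal.Quotient.mk_surjective,
    Submodule.restrictScalars_eq_top_iff] at hG
  exact hG

end genbasis2

section genbasis3
variable (R : Type*) [CommRing R] [Nontrivial R] (M : Type*) [AddCommGroup M] [Module R M]
  [Module.Finite R M]

/-- **Generic freeness modulo nilpotents** for a finite module over an arbitrary nonzero ring: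
there are a non-nilpotent `r` and elements `m i` which generate `M` after inverting `r` and
such that every linear relation between them has coefficients in every prime not containing `r`. -/
theorem exists_generic_basis :
    ∃ (r : R) (n : ℕ) (m : Fin n → M), r ∉ nilradical R ∧
      (∀ x : M, r • x ∈ Submodule.span R (Set.range m)) ∧
      ∀ (q : Ideal R), q.IsPrime → r ∉ q → ∀ a : Fin n → R, ∑ i, a i • m i = 0 → ∀ i, a i ∈ q := by
  classical
  obtain ⟨p₀, hp₀⟩ : ∃ p₀ : PrimeSpectrum R, ∀ q, fibDim R M p₀ ≤ fibDim R M q := by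
    have hne : (Set.range (fibDim R M)).Nonempty := ⟨_, ⟨Classical.arbitrary _, rfl⟩⟩
    obtain ⟨_, ⟨p₀, rfl⟩, h⟩ := WellFounded.has_min Nat.lt_wfRel.wf _ hne
    exact ⟨p₀, fun q => not_lt.1 (h _ ⟨q, rfl⟩)⟩
  set S := p₀.asIdeal.primeCompl with hS
  set O := Localization.AtPrime p₀.asIdeal with hO
  set g := LocalizedModule.mkLinearMap S M with hg
  have hG : Submodule.span O (Set.range g) = ⊤ := by
    have := span_eq_top_of_isLocalizedModule O S g (v := Set.univ) (by simp)
    rwa [Set.image_univ] at this
  have : Module.Finite O (LocalizedModule S M) := Module.Finite.of_isLocalizedModule S g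
  obtain ⟨f, hfG, hf⟩ := exists_fin_span_eq_top (Set.range g) hG
  change Fin (fibDim R M p₀) → LocalizedModule S M at f
  choose m hm using hfG
  have hgm : g ∘ m = f := funext hm
  obtain ⟨r, hrS, hr⟩ := exists_smul_mem_span_of_span_eq_top S (A' := O) g m (by rw [hgm]; exact hf)
  refine ⟨r, fibDim R M p₀, m, fun h => hrS (nilradical_le_prime p₀.asIdeal h), hr, ?_⟩
  intro q hq hrq a ha i
  set q' : PrimeSpectrum R := ⟨q, hq⟩
  set Oq := Localization.AtPrime q with hOq
  set k := IsLocalRing.ResidueField Oq with hk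
  set gq := LocalizedModule.mkLinearMap q.primeCompl M with hgq
  have h1 := span_localized_eq_top q' m r hrq hr
  have : Module.Finite Oq (LocalizedModule q.primeCompl M) :=
    Module.Finite.of_isLocalizedModule q.primeCompl gq
  have h2 := span_tmul_eq_top (O := Oq) _ h1
  rw [← Set.range_comp] at h2
  set v : Fin (fibDim R M p₀) → k ⊗[Oq] LocalizedModule q.primeCompl M :=
    (TensorProduct.mk Oq k (LocalizedModule q.primeCompl M) 1) ∘ (gq ∘ m) with hv
  have h2' : Submodule.span k (Set.range v) = ⊤ := h2
  have hcard : Fintype.card (Fin (fibDim R M p₀)) =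
      Module.finrank k (k ⊗[Oq] LocalizedModule q.primeCompl M) := by
    rw [Fintype.card_fin]
    refine le_antisymm (hp₀ q') ?_
    have := finrank_range_le_card (R := k) v
    change Module.finrank k (Submodule.span k (Set.range v)) ≤ _ at this
    rw [h2', finrank_top, Fintype.card_fin] at this
    exact this
  have hli : LinearIndependent k v :=
    linearIndependent_of_top_le_span_of_card_eq_finrank h2'.ge hcard
  have h3 : ∑ j, (algebraMap R k (a j)) • v j = 0 := by
    have h4 : (TensorProduct.mk Oq k (LocalizedModule q.primeCompl M) 1) (gq (∑ j, a j • m j)) = 0 := by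
      rw [ha, map_zero, map_zero]
    rw [map_sum, map_sum] at h4
    rw [← h4]
    refine Finset.sum_congr rfl fun j _ => ?_
    rw [map_smul, ← algebraMap_smul Oq (a j) (gq (m j)), map_smul,
      ← algebraMap_smul k (algebraMap R Oq (a j)), ← IsScalarTower.algebraMap_apply]
    rfl
  have h5 := (Fintype.linearIndependent_iff.1 hli) _ h3 i
  rw [IsScalarTower.algebraMap_apply R Oq k, IsLocalRing.ResidueField.algebraMap_eq,
    IsLocalRing.residue_eq_zero_iff] at h5
  exact (IsLocalization.AtPrime.to_map_mem_maximal_iff Oq q (a i)).1 h5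

end genbasis3


section KL
variable {R B : Type*} [CommRing R] [CommRing B] [Algebra R B]

/-- An element of `B` lying in all primes over a minimal prime `p` of `R` is nilpotent after
inverting some element outside `p`. -/
theorem exists_smul_pow_eq_zero (p : Ideal R) (hp : p ∈ minimalPrimes R) (y : B)
    (hy : ∀ t : Ideal B, t.IsPrime → t.comap (algebraMap R B) = p → y ∈ t) :
    ∃ u : R, u ∉ p ∧ ∃ N : ℕ, algebraMap R B u * y ^ N = 0 := by
  have hpp : p.IsPrime := hp.1.1
  by_contra hcon
  push Not at hcon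
  let S' : Submonoid B := (Submonoid.map (algebraMap R B) p.primeCompl) ⊔ Submonoid.powers y
  have hdisj : Disjoint ((⊥ : Ideal B) : Set B) S' := by
    rw [Set.disjoint_left]
    intro x hx hxS
    have hx0 : x = 0 := hx
    obtain ⟨a, ha, b, hb, hab⟩ := Submonoid.mem_sup.1 hxS
    obtain ⟨u, hu, rfl⟩ := ha
    obtain ⟨N, rfl⟩ := hb
    exact hcon u hu N (by rw [hab, hx0])
  obtain ⟨t, ht, -, htS⟩ := Ideal.exists_le_prime_disjoint ⊥ S' hdisj
  have hle : t.comap (algebraMap R B) ≤ p := by
    intro u hu
    by_contra hup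
    have : algebraMap R B u ∈ S' :=
      (le_sup_left : _ ≤ S') ⟨u, hup, rfl⟩
    exact Set.disjoint_left.1 htS hu this
  have heq : t.comap (algebraMap R B) = p :=
    le_antisymm hle (hp.2 ⟨Ideal.IsPrime.comap _, bot_le⟩ hle)
  have hyt := hy t ht heq
  have : y ∈ S' := (le_sup_right : _ ≤ S') (Submonoid.mem_powers y)
  exact Set.disjoint_left.1 htS hyt this

variable [Module.Finite R B]

/-- **Key lemma.** Let `B` be a finite `R`-algebra, `R ≠ 0`, and `I` an ideal of `B` such that
`V(I) → Spec R` is surjective. Then `V(I)` contains a nonempty basic open of `Spec B`. -/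
theorem exists_notMem_nilradical_mul_mem [Nontrivial R] (I : Ideal B)
    (hsurj : ∀ p : Ideal R, p.IsPrime →
      ∃ t : Ideal B, t.IsPrime ∧ I ≤ t ∧ t.comap (algebraMap R B) = p) :
    ∃ b : B, b ∉ nilradical B ∧ ∀ x ∈ I, b * x ∈ nilradical B := by
  classical
  have : Module.Finite R (B ⧸ I) :=
    Module.Finite.of_surjective (I.mkQ.restrictScalars R) (Submodule.mkQ_surjective I)
  obtain ⟨r, n, m, hrnil, hspan, hrel⟩ := exists_generic_basis R (B ⧸ I)
  have hlift : ∀ i, ∃ b : B, Ideal.Quotient.mk I b = m i := fun i => Ideal.Quotient.mk_surjective _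
  choose bb hbb using hlift
  -- a minimal prime not containing r
  obtain ⟨p, hpmin, hrp⟩ : ∃ p ∈ minimalPrimes R, r ∉ p := by
    rw [nilradical_eq_sInf, Ideal.mem_sInf] at hrnil
    push Not at hrnil
    obtain ⟨J, hJ, hrJ⟩ := hrnil
    have hJ' : J.IsPrime := hJ
    obtain ⟨p, hp, hpJ⟩ := Ideal.exists_minimalPrimes_le (I := ⊥) (J := J) bot_le
    exact ⟨p, hp, fun h => hrJ (hpJ h)⟩
  have hpp : p.IsPrime := hpmin.1.1
  obtain ⟨t, htp, hIt, htc⟩ := hsurj p hpp
  -- separate t from the other primes over p
  have hfin : (p.primesOver B).Finite := Algebra.QuasiFinite.finite_primesOver p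
  obtain ⟨b₀, hb₀t, hb₀⟩ : ∃ b₀ : B, b₀ ∉ t ∧ ∀ t' : Ideal B, t'.IsPrime →
      t'.comap (algebraMap R B) = p → t' ≠ t → b₀ ∈ t' := by
    set F : Finset (Ideal B) := hfin.toFinset.erase t with hF
    have hnot : ¬ (F.inf id ≤ t) := by
      intro hle
      obtain ⟨t', ht'F, ht't⟩ := (Ideal.IsPrime.inf_le' htp).1 hle
      rw [hF, Finset.mem_erase, Set.Finite.mem_toFinset] at ht'F
      obtain ⟨hne, ht'p, ht'o⟩ := ht'F
      have hlt : t' < t := lt_of_le_of_ne ht't hne
      have := Ideal.IsIntegral.comap_lt_comap (R := R) hlt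
      have h1 : t'.comap (algebraMap R B) = p := (ht'o.over).symm
      rw [h1, htc] at this
      exact lt_irrefl _ this
    obtain ⟨b₀, hb₀F, hb₀t⟩ := SetLike.not_le_iff_exists.1 hnot
    refine ⟨b₀, hb₀t, fun t' ht' ht'c hne => ?_⟩
    have hmem : t' ∈ F := by
      rw [hF, Finset.mem_erase, Set.Finite.mem_toFinset]
      exact ⟨hne, ht', ⟨ht'c.symm⟩⟩
    exact (Finset.inf_le hmem : F.inf id ≤ id t') hb₀F
  -- generators of B
  obtain ⟨Gs, hGs⟩ := (Module.Finite.fg_top : (⊤ : Submodule R B).FG)
  have hcoef : ∀ β : B, ∃ a : Fin n → R, r • Ideal.Quotient.mk I β = ∑ i, a i • m i := by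
    intro β
    have := hspan (Ideal.Quotient.mk I β)
    rw [Submodule.mem_span_range_iff_exists_fun] at this
    obtain ⟨a, ha⟩ := this
    exact ⟨a, ha.symm⟩
  choose aa haa using hcoef
  set gg : B → B := fun β => r • β - ∑ i, aa β i • bb i with hgg
  have hggI : ∀ β, gg β ∈ I := by
    intro β
    rw [← Ideal.Quotient.eq_zero_iff_mem, hgg]
    simp only [map_sub, map_sum]
    rw [sub_eq_zero]
    have h1 : Ideal.Quotient.mk I (r • β) = r • Ideal.Quotient.mk I β := by
      rw [Algebra.smul_def, Algebra.smul_def, map_mul]; rfl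
    rw [h1, haa β]
    refine Finset.sum_congr rfl fun i _ => ?_
    rw [← hbb i, Algebra.smul_def, Algebra.smul_def, map_mul]; rfl
  -- nilpotence data for the finitely many `gg β`
  have hnilp : ∀ β : B, ∃ u : R, u ∉ p ∧ ∃ N : ℕ, algebraMap R B u * (gg β * b₀) ^ N = 0 := by
    intro β
    refine exists_smul_pow_eq_zero p hpmin _ (fun t' ht' ht'c => ?_)
    by_cases h : t' = t
    · rw [h]; exact Ideal.mul_mem_right _ _ (hIt (hggI β))
    · exact Ideal.mul_mem_left _ _ (hb₀ t' ht' ht'c h)
  choose uu huu NN hNN using hnilp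
  set u : R := ∏ β ∈ Gs, uu β with hu
  have hup : u ∉ p := by
    rw [hu]
    intro h
    obtain ⟨β, -, hβ⟩ := (Ideal.IsPrime.prod_mem_iff (hp := hpp)).1 h
    exact huu β hβ
  set b : B := algebraMap R B (u * r) * b₀ with hb
  have hbt : b ∉ t := by
    rw [hb]
    intro h
    rcases htp.mem_or_mem h with h | h
    · have h1 : u * r ∈ t.comap (algebraMap R B) := h
      rw [htc] at h1
      rcases hpp.mem_or_mem h1 with h2 | h2
      · exact hup h2
      · exact hrp h2
    · exact hb₀t h
  refine ⟨b, fun h => hbt (nilradical_le_prime t h), ?_⟩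
  -- `b * gg β` nilpotent for `β ∈ Gs`
  have hbg : ∀ β ∈ Gs, b * gg β ∈ nilradical B := by
    intro β hβ
    rw [mem_nilradical]
    refine ⟨NN β + 1, ?_⟩
    obtain ⟨c, hc⟩ : uu β ∣ u := Finset.dvd_prod_of_mem _ hβ
    have : (b * gg β) ^ (NN β + 1) =
        (algebraMap R B (uu β) * (gg β * b₀) ^ NN β) *
          (algebraMap R B c * algebraMap R B r * (gg β * b₀) *
            (algebraMap R B (u * r)) ^ NN β) := by
      rw [hb, hc]
      generalize gg β = G
      simp only [map_mul]
      ring
    rw [this, hNN β, zero_mul]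
  -- decomposition of `r • x`
  have hdec : ∀ x : B, ∃ y ∈ Submodule.span R (gg '' (Gs : Set B)), ∃ c : Fin n → R,
      r • x = y + ∑ i, c i • bb i := by
    intro x
    have hx : x ∈ Submodule.span R (Gs : Set B) := by rw [hGs]; trivial
    induction hx using Submodule.span_induction with
    | mem β hβ =>
      refine ⟨gg β, Submodule.subset_span ⟨β, hβ, rfl⟩, aa β, ?_⟩
      rw [hgg]; simp
    | zero => exact ⟨0, Submodule.zero_mem _, 0, by simp⟩
    | add x₁ x₂ _ _ h₁ h₂ =>
      obtain ⟨y₁, hy₁, c₁, e₁⟩ := h₁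
      obtain ⟨y₂, hy₂, c₂, e₂⟩ := h₂
      refine ⟨y₁ + y₂, Submodule.add_mem _ hy₁ hy₂, c₁ + c₂, ?_⟩
      rw [smul_add, e₁, e₂]
      simp only [Pi.add_apply, add_smul, Finset.sum_add_distrib]
      abel
    | smul s x₁ _ h₁ =>
      obtain ⟨y₁, hy₁, c₁, e₁⟩ := h₁
      refine ⟨s • y₁, Submodule.smul_mem _ _ hy₁, s • c₁, ?_⟩
      rw [smul_comm, e₁, smul_add, Finset.smul_sum]
      simp only [Pi.smul_apply, smul_eq_mul, mul_smul]
  intro x hxI
  obtain ⟨y, hy, c, hxy⟩ := hdec x
  have hyI : y ∈ I := by
    have hle : Submodule.span R (gg '' (Gs : Set B)) ≤ I.restrictScalars R := by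
      rw [Submodule.span_le]
      rintro _ ⟨β, -, rfl⟩
      exact hggI β
    exact hle hy
  have hby : b * y ∈ nilradical B := by
    have hle : Submodule.span R (gg '' (Gs : Set B)) ≤
        ((nilradical B).restrictScalars R).comap (LinearMap.mulLeft R b) := by
      rw [Submodule.span_le]
      rintro _ ⟨β, hβ, rfl⟩
      exact hbg β hβ
    exact hle hy
  -- the relation in `B ⧸ I`
  have hrelc : ∑ i, c i • m i = 0 := by
    have h1 : ∑ i, c i • bb i ∈ I := by
      have : ∑ i, c i • bb i = r • x - y := by rw [hxy, add_sub_cancel_left]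
      rw [this]
      refine I.sub_mem ?_ hyI
      rw [Algebra.smul_def]
      exact I.mul_mem_left _ hxI
    rw [← Ideal.Quotient.eq_zero_iff_mem, map_sum] at h1
    rw [← h1]
    refine Finset.sum_congr rfl fun i _ => ?_
    rw [← hbb i, Algebra.smul_def, Algebra.smul_def, map_mul]; rfl
  have hrc : ∀ i, r * c i ∈ nilradical R := by
    intro i
    rw [nilradical_eq_sInf, Ideal.mem_sInf]
    intro q hq
    have hq' : q.IsPrime := hq
    by_cases hrq : r ∈ q
    · exact q.mul_mem_right _ hrq
    · exact q.mul_mem_left _ (hrel q hq' hrq c hrelc i)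
  have hbc : ∀ i, b * (c i • bb i) ∈ nilradical B := by
    intro i
    have h1 : b * (c i • bb i) = algebraMap R B (r * c i) * (algebraMap R B u * b₀ * bb i) := by
      rw [hb, Algebra.smul_def]
      simp only [map_mul]
      ring
    rw [h1]
    refine Ideal.mul_mem_right _ _ ?_
    have := hrc i
    rw [mem_nilradical] at this ⊢
    exact this.map _
  have hbrx : b * (r • x) ∈ nilradical B := by
    rw [hxy, mul_add, Finset.mul_sum]
    exact Ideal.add_mem _ hby (Ideal.sum_mem _ fun i _ => hbc i)
  have hsq : (b * x) ^ 2 ∈ nilradical B := by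
    have : (b * x) ^ 2 = b * (r • x) * (algebraMap R B u * b₀ * x) := by
      rw [hb, Algebra.smul_def]
      simp only [map_mul]
      ring
    rw [this]
    exact Ideal.mul_mem_right _ _ hbrx
  rw [mem_nilradical] at hsq ⊢
  exact IsNilpotent.of_pow hsq

end KL

end Groth.Agent.Lib.T2H2.NowhereDenseAlg
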