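import Mathlib
import Groth.Agent.Lib.T2H2NowhereDenseAlg
import Groth.Agent.Lib.Helper4GenFinite2
import Groth.Agent.Lib.Helper4GenFinite3

set_option autoImplicit false
universe u
open CategoryTheory CategoryTheory.Limits AlgebraicGeometry TopologicalSpace Opposite

namespace Groth.Agent.Lib.T2H2.NowhereDenseSch

open Groth.Agent.Lib.T2H2.NowhereDenseAlg

/-- A finite morphism maps closed nowhere dense subsets to (closed) nowhere dense subsets. -/
theorem isNowhereDense_image_of_isFinite {X Y : Scheme.{u}} (f : Y ⟶ X) [IsFinite f]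
    (T : Set Y) (hT : IsClosed T) (hT' : IsNowhereDense T) : IsNowhereDense (f '' T) := by
  have hcl : IsClosed (f '' T) := f.isClosedMap _ hT
  rw [hcl.isNowhereDense_iff]
  by_contra hne
  obtain ⟨x, hx⟩ := Set.nonempty_iff_ne_empty.2 hne
  obtain ⟨V, hV, hxV, hVT⟩ : ∃ V : X.Opens, IsAffineOpen V ∧ x ∈ V ∧ (V : Set X) ⊆ f '' T := by
    obtain ⟨_, ⟨V, hV, rfl⟩, hxV, hVi⟩ :=
      X.isBasis_affineOpens.exists_subset_of_mem_open hx isOpen_interior
    exact ⟨V, hV, hxV, hVi.trans interior_subset⟩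
  set U := f ⁻¹ᵁ V with hUdef
  have hU : IsAffineOpen U := hV.preimage f
  let _ : Algebra Γ(X, V) Γ(Y, U) := (f.app V).hom.toAlgebra
  have hfin : Module.Finite Γ(X, V) Γ(Y, U) := f.finite_app V hV
  have : Nonempty V := ⟨⟨x, hxV⟩⟩
  have : Nontrivial Γ(X, V) := inferInstance
  -- the ideal of `T`
  set T' : Set (PrimeSpectrum Γ(Y, U)) := hU.fromSpec ⁻¹' T with hT'def
  have hT'cl : IsClosed T' := hT.preimage hU.fromSpec.continuous
  set I : Ideal Γ(Y, U) := PrimeSpectrum.vanishingIdeal T' with hI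
  have hVI : PrimeSpectrum.zeroLocus (I : Set Γ(Y, U)) = T' := by
    rw [hI, PrimeSpectrum.zeroLocus_vanishingIdeal_eq_closure, hT'cl.closure_eq]
  have hcomm : Spec.map (f.app V) ≫ hV.fromSpec = hU.fromSpec ≫ f := by
    rw [Scheme.Hom.app_eq_appLE]
    exact hV.SpecMap_appLE_fromSpec f hU le_rfl
  have hsurj : ∀ p : Ideal Γ(X, V), p.IsPrime →
      ∃ t : Ideal Γ(Y, U), t.IsPrime ∧ I ≤ t ∧ t.comap (algebraMap Γ(X, V) Γ(Y, U)) = p := by
    intro p hp
    set v : X := hV.fromSpec ⟨p, hp⟩ with hv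
    have hvV : v ∈ V := by
      have : v ∈ Set.range hV.fromSpec := ⟨_, rfl⟩
      rwa [hV.range_fromSpec] at this
    obtain ⟨t, htT, hft⟩ := hVT hvV
    have htU : t ∈ U := by
      change f t ∈ V
      rw [hft]; exact hvV
    set t' := hU.primeIdealOf ⟨t, htU⟩ with ht'
    have ht'T : t' ∈ T' := by
      change hU.fromSpec t' ∈ T
      rw [ht', hU.fromSpec_primeIdealOf]; exact htT
    refine ⟨t'.asIdeal, t'.isPrime, ?_, ?_⟩
    · rw [← hVI] at ht'T
      exact (PrimeSpectrum.mem_zeroLocus _ _).1 ht'T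
    · have h1 : hV.fromSpec (Spec.map (f.app V) t') = hV.fromSpec ⟨p, hp⟩ := by
        rw [← Scheme.Hom.comp_apply, hcomm, Scheme.Hom.comp_apply, ht', hU.fromSpec_primeIdealOf,
          hft]
      have h2 := hV.fromSpec.isOpenEmbedding.injective h1
      have h3 : (Spec.map (f.app V) t').asIdeal = p := congrArg PrimeSpectrum.asIdeal h2
      rw [← h3]
      rfl
  obtain ⟨b, hbnil, hbI⟩ := exists_notMem_nilradical_mul_mem I hsurj
  -- the basic open of `b` is a nonempty open inside `T`
  have hne' : Y.basicOpen b ≠ ⊥ := by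
    intro h
    rw [← Scheme.isNilpotent_iff_basicOpen_eq_bot_of_isCompact hU.isCompact] at h
    exact hbnil ((mem_nilradical).2 h)
  have hsub : (Y.basicOpen b : Set Y) ⊆ T := by
    intro y hy
    have hyU : y ∈ U := Y.basicOpen_le b hy
    set y' := hU.primeIdealOf ⟨y, hyU⟩ with hy'
    have hby : b ∉ y'.asIdeal := by
      have h1 : y' ∈ hU.fromSpec ⁻¹ᵁ (Y.basicOpen b) := by
        change hU.fromSpec y' ∈ Y.basicOpen b
        rw [hy', hU.fromSpec_primeIdealOf]; exact hy
      rw [hU.fromSpec_preimage_basicOpen] at h1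
      exact h1
    have hy'T : y' ∈ T' := by
      rw [← hVI, PrimeSpectrum.mem_zeroLocus]
      intro a ha
      have h1 : b * a ∈ y'.asIdeal := nilradical_le_prime y'.asIdeal (hbI a ha)
      exact (y'.isPrime.mem_or_mem h1).resolve_left hby
    have : hU.fromSpec y' ∈ T := hy'T
    rwa [hy', hU.fromSpec_primeIdealOf] at this
  have hint : interior T = ∅ := (hT.isNowhereDense_iff).1 hT'
  have h2 : (Y.basicOpen b : Set Y) ⊆ interior T :=
    interior_maximal hsub (Y.basicOpen b).2
  rw [hint, Set.subset_empty_iff] at h2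
  exact hne' (Opens.ext h2)

section topology
variable {α β : Type*} [TopologicalSpace α] [TopologicalSpace β]

theorem isNowhereDense_union {A B : Set α} (hA : IsNowhereDense A) (hB : IsNowhereDense B) :
    IsNowhereDense (A ∪ B) := by
  have h1 : Dense (closure A)ᶜ := interior_eq_empty_iff_dense_compl.1 hA
  have h2 : Dense (closure B)ᶜ := interior_eq_empty_iff_dense_compl.1 hB
  have h3 : Dense ((closure A)ᶜ ∩ (closure B)ᶜ) :=
    h1.inter_of_isOpen_left h2 isClosed_closure.isOpen_compl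
  rw [IsNowhereDense, closure_union, interior_eq_empty_iff_dense_compl, Set.compl_union]
  exact h3

theorem isNowhereDense_biUnion_finset {ι : Type*} (s : Finset ι) (A : ι → Set α)
    (h : ∀ i ∈ s, IsNowhereDense (A i)) : IsNowhereDense (⋃ i ∈ s, A i) := by
  classical
  induction s using Finset.induction_on with
  | empty => simp
  | insert a s _ ih =>
    rw [Finset.set_biUnion_insert]
    exact isNowhereDense_union (h a (Finset.mem_insert_self a s))
      (ih fun i hi => h i (Finset.mem_insert_of_mem hi))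

theorem isNowhereDense_preimage_of_isOpenEmbedding {j : α → β} (hj : Topology.IsOpenEmbedding j)
    {T : Set β} (hT : IsClosed T) (hT' : IsNowhereDense T) : IsNowhereDense (j ⁻¹' T) := by
  rw [(hT.preimage hj.continuous).isNowhereDense_iff,
    ← hj.isOpenMap.preimage_interior_eq_interior_preimage hj.continuous,
    (hT.isNowhereDense_iff).1 hT', Set.preimage_empty]

end topology

/-- Every point of a scheme is a specialization of the generic point of an irreducible
component. -/
theorem exists_specializes_irreducibleComponent {X : Scheme.{u}} (ξ : X) :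
    ∃ η : X, closure {η} ∈ irreducibleComponents (X : Type u) ∧ η ⤳ ξ := by
  have h1 : IsIrreducible (irreducibleComponent ξ) := isIrreducible_irreducibleComponent
  have h2 : IsClosed (irreducibleComponent ξ) := isClosed_irreducibleComponent
  refine ⟨h1.genericPoint, ?_, ?_⟩
  · rw [h1.closure_genericPoint h2]
    exact irreducibleComponent_mem_irreducibleComponents ξ
  · rw [specializes_iff_mem_closure, h1.closure_genericPoint h2]
    exact mem_irreducibleComponent

open Groth.Agent.Lib.Helper4.GenFinite in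
/-- A quasi-finite morphism maps closed nowhere dense subsets to nowhere dense subsets. -/
theorem isNowhereDense_image_of_locallyQuasiFinite {X Y : Scheme.{u}} (f : Y ⟶ X)
    [LocallyQuasiFinite f] [LocallyOfFiniteType f] [QuasiCompact f]
    (T : Set Y) (hT : IsClosed T) (hT' : IsNowhereDense T) : IsNowhereDense (f '' T) := by
  classical
  by_contra hnd
  obtain ⟨x, hx⟩ : (interior (closure (f '' T))).Nonempty := Set.nonempty_iff_ne_empty.2 hnd
  obtain ⟨V, hV, hxV, hVT⟩ : ∃ V : X.Opens, IsAffineOpen V ∧ x ∈ V ∧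
      (V : Set X) ⊆ closure (f '' T) := by
    obtain ⟨_, ⟨V, hV, rfl⟩, hxV, hVi⟩ :=
      X.isBasis_affineOpens.exists_subset_of_mem_open hx isOpen_interior
    exact ⟨V, hV, hxV, hVi.trans interior_subset⟩
  have hc : IsCompact ((f ⁻¹ᵁ V : Y.Opens) : Set Y) := f.isCompact_preimage hV.isCompact
  obtain ⟨s, hs, hsU⟩ := isCompact_iff_finite_and_eq_biUnion_affineOpens.1 hc
  have hle : ∀ W ∈ s, (W : Y.Opens) ≤ f ⁻¹ᵁ V := by
    intro W hW
    rw [hsU]
    exact le_iSup₂ (f := fun (i : Y.affineOpens) (_ : i ∈ s) => (i : Y.Opens)) W hW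
  -- `V` lies in the closure of the union of the images of the pieces
  have hVsub : (V : Set X) ⊆ closure (⋃ i ∈ hs.toFinset, f '' (T ∩ ((i : Y.Opens) : Set Y))) := by
    intro v hv
    rw [mem_closure_iff]
    intro o ho hvo
    have hv' : v ∈ closure (f '' T) := hVT hv
    rw [mem_closure_iff] at hv'
    obtain ⟨_, ⟨hao, haV⟩, t, htT, rfl⟩ := hv' (o ∩ V) (ho.inter V.2) ⟨hvo, hv⟩
    have htV : t ∈ f ⁻¹ᵁ V := haV
    rw [hsU] at htV
    obtain ⟨i, hti⟩ := Opens.mem_iSup.1 htV
    obtain ⟨hi, hti⟩ := Opens.mem_iSup.1 hti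
    refine ⟨f t, hao, ?_⟩
    simp only [Set.mem_iUnion]
    exact ⟨i, hs.mem_toFinset.2 hi, t, ⟨htT, hti⟩, rfl⟩
  -- some piece has an image which is not nowhere dense
  obtain ⟨i, hi, hAi⟩ : ∃ i ∈ s, ¬ IsNowhereDense (f '' (T ∩ ((i : Y.Opens) : Set Y))) := by
    by_contra hcon
    push Not at hcon
    have h1 := isNowhereDense_biUnion_finset hs.toFinset
      (fun i : Y.affineOpens => f '' (T ∩ ((i : Y.Opens) : Set Y)))
      (fun i hi => hcon i (hs.mem_toFinset.1 hi))
    have h2 : (V : Set X) ⊆ interior (closure (⋃ i ∈ hs.toFinset,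
        f '' (T ∩ ((i : Y.Opens) : Set Y)))) := interior_maximal hVsub V.2
    rw [h1] at h2
    exact h2 hxV
  set U : Y.Opens := i.1 with hUdef
  have hU : IsAffineOpen U := i.2
  have e : U ≤ f ⁻¹ᵁ V := hle i hi
  set A : Set X := f '' (T ∩ (U : Set Y)) with hA
  set O : Set X := interior (closure A) with hO
  have hOo : IsOpen O := isOpen_interior
  obtain ⟨o, ho⟩ : O.Nonempty := Set.nonempty_iff_ne_empty.2 hAi
  have ho' : o ∈ closure A := interior_subset ho
  rw [mem_closure_iff] at ho'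
  obtain ⟨ξ, hξO, t₀, ⟨ht₀T, ht₀U⟩, hξ⟩ := ho' O hOo ho
  have hξV : ξ ∈ V := by rw [← hξ]; exact e ht₀U
  obtain ⟨η, hη, hηξ⟩ := exists_specializes_irreducibleComponent ξ
  have hηO : η ∈ O := hηξ.mem_open hOo hξO
  have hηV : η ∈ V := hηξ.mem_open V.2 hξV
  have hfib : ((U : Set Y) ∩ f.base ⁻¹' {η}).Finite :=
    (f.finite_preimage_singleton η).subset Set.inter_subset_right
  obtain ⟨r₀, hηr₀, hfin⟩ := exists_isFinite_resLE_basicOpen f hV hU e η hηV hη hfib
  set r : Γ(X, V) := r₀ * 1 with hr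
  have hηr : η ∈ X.basicOpen r := by rw [hr, mul_one]; exact hηr₀
  set D' : Y.Opens := Y.basicOpen (f.appLE V U e r) with hD'
  have hD'eq : D' = U ⊓ f ⁻¹ᵁ (X.basicOpen r) := basicOpen_appLE_eq f V U e r
  have hle' : D' ≤ f ⁻¹ᵁ (X.basicOpen r) := by rw [hD'eq]; exact inf_le_right
  have hg : IsFinite (f.resLE (X.basicOpen r) D' hle') := hfin 1 hle'
  set g := f.resLE (X.basicOpen r) D' hle' with hgdef
  set Tr : Set D'.toScheme := D'.ι ⁻¹' T with hTr
  have hTrcl : IsClosed Tr := hT.preimage D'.ι.continuous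
  have hTrnd : IsNowhereDense Tr :=
    isNowhereDense_preimage_of_isOpenEmbedding D'.ι.isOpenEmbedding hT hT'
  have hnd' := isNowhereDense_image_of_isFinite g Tr hTrcl hTrnd
  -- the contradiction
  set Or : Set (X.basicOpen r).toScheme := (X.basicOpen r).ι ⁻¹' O with hOr
  have hOro : IsOpen Or := hOo.preimage (X.basicOpen r).ι.continuous
  have hOrsub : Or ⊆ closure (g '' Tr) := by
    intro w hw
    rw [mem_closure_iff]
    intro N hN hwN
    have hN' : IsOpen ((X.basicOpen r).ι '' N) := (X.basicOpen r).ι.isOpenEmbedding.isOpenMap N hN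
    have hw' : (X.basicOpen r).ι w ∈ closure A := interior_subset hw
    rw [mem_closure_iff] at hw'
    obtain ⟨_, ⟨n, hnN, rfl⟩, t, ⟨htT, htU⟩, hft⟩ := hw' _ hN' ⟨w, hwN, rfl⟩
    have htD' : t ∈ D' := by
      rw [hD'eq]
      refine ⟨htU, ?_⟩
      change f t ∈ X.basicOpen r
      rw [hft]; exact n.2
    refine ⟨n, hnN, ⟨t, htD'⟩, htT, ?_⟩
    apply (X.basicOpen r).ι.isOpenEmbedding.injective
    rw [← Scheme.Hom.comp_apply, hgdef, Scheme.Hom.resLE_comp_ι, Scheme.Hom.comp_apply]
    exact hft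
  have hne : Or.Nonempty := ⟨⟨η, hηr⟩, hηO⟩
  have : Or ⊆ interior (closure (g '' Tr)) := interior_maximal hOrsub hOro
  rw [hnd'] at this
  obtain ⟨w, hw⟩ := hne
  exact this hw

end Groth.Agent.Lib.T2H2.NowhereDenseSch
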