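import Mathlib
import Groth.Agent.Lib.T2H2NowhereDenseSch

set_option autoImplicit false
universe u
open CategoryTheory CategoryTheory.Limits AlgebraicGeometry TopologicalSpace Opposite

namespace Groth.Agent.Lib.T2H2.GenFiniteDense

open Groth.Agent.Lib.T2H2.NowhereDenseSch Groth.Agent.Lib.Helper4.GenFinite

/-- An open subset of an affine open `P` which is closed in `P` is affine. -/
theorem isAffineOpen_of_eq_inter_isClosed {Y : Scheme.{u}} {P Z : Y.Opens} (hP : IsAffineOpen P)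
    (K : Set Y) (hK : IsClosed K) (hZ : (Z : Set Y) = (P : Set Y) ∩ K) : IsAffineOpen Z := by
  have hZP : Z ≤ P := by
    intro y hy
    have : y ∈ (Z : Set Y) := hy
    rw [hZ] at this
    exact this.1
  set Z' : Set (PrimeSpectrum Γ(Y, P)) := hP.fromSpec ⁻¹' (Z : Set Y) with hZ'
  have hZ'o : IsOpen Z' := Z.2.preimage hP.fromSpec.continuous
  have hZ'c : IsClosed Z' := by
    have : Z' = hP.fromSpec ⁻¹' K := by
      ext y
      change hP.fromSpec y ∈ (Z : Set Y) ↔ hP.fromSpec y ∈ K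
      rw [hZ]
      have hy : hP.fromSpec y ∈ (P : Set Y) := by
        have : hP.fromSpec y ∈ Set.range hP.fromSpec := ⟨y, rfl⟩
        rwa [hP.range_fromSpec] at this
      exact ⟨fun h => h.2, fun h => ⟨hy, h⟩⟩
    rw [this]
    exact hK.preimage hP.fromSpec.continuous
  obtain ⟨e, -, he⟩ := PrimeSpectrum.isClopen_iff.1 ⟨hZ'c, hZ'o⟩
  have : Z = Y.basicOpen e := by
    ext y
    constructor
    · intro hy
      have hyP : y ∈ P := hZP hy
      have h1 : hP.primeIdealOf ⟨y, hyP⟩ ∈ Z' := by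
        change hP.fromSpec (hP.primeIdealOf ⟨y, hyP⟩) ∈ (Z : Set Y)
        rw [hP.fromSpec_primeIdealOf]; exact hy
      rw [he] at h1
      have h2 : hP.primeIdealOf ⟨y, hyP⟩ ∈ hP.fromSpec ⁻¹ᵁ (Y.basicOpen e) := by
        rw [hP.fromSpec_preimage_basicOpen]; exact h1
      have h3 : hP.fromSpec (hP.primeIdealOf ⟨y, hyP⟩) ∈ Y.basicOpen e := h2
      rwa [hP.fromSpec_primeIdealOf] at h3
    · intro hy
      have hyP : y ∈ P := Y.basicOpen_le e hy
      have h1 : hP.primeIdealOf ⟨y, hyP⟩ ∈ hP.fromSpec ⁻¹ᵁ (Y.basicOpen e) := by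
        change hP.fromSpec (hP.primeIdealOf ⟨y, hyP⟩) ∈ Y.basicOpen e
        rw [hP.fromSpec_primeIdealOf]; exact hy
      rw [hP.fromSpec_preimage_basicOpen] at h1
      have h2 : hP.primeIdealOf ⟨y, hyP⟩ ∈ Z' := by rw [he]; exact h1
      have h3 : hP.fromSpec (hP.primeIdealOf ⟨y, hyP⟩) ∈ (Z : Set Y) := h2
      rwa [hP.fromSpec_primeIdealOf] at h3
  rw [this]
  exact hP.basicOpen e

/-- Restricting a finite `f.resLE V P` to an open `Z ≤ P` which is closed in `P` stays finite. -/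
theorem isFinite_resLE_of_eq_inter_isClosed {X Y : Scheme.{u}} (f : Y ⟶ X) {V : X.Opens}
    {P Z : Y.Opens} (hPV : P ≤ f ⁻¹ᵁ V) (hfin : IsFinite (f.resLE V P hPV))
    (K : Set Y) (hK : IsClosed K) (hZ : (Z : Set Y) = (P : Set Y) ∩ K) (hZV : Z ≤ f ⁻¹ᵁ V) :
    IsFinite (f.resLE V Z hZV) := by
  have hZP : Z ≤ P := by
    intro y hy
    have : y ∈ (Z : Set Y) := hy
    rw [hZ] at this
    exact this.1
  have h1 : f.resLE V Z hZV = Y.homOfLE hZP ≫ f.resLE V P hPV := by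
    rw [Scheme.Hom.map_resLE]
  have h2 : IsClosedImmersion (Y.homOfLE hZP) := by
    apply IsClosedImmersion.of_isPreimmersion
    have : Set.range (Y.homOfLE hZP) = P.ι ⁻¹' K := by
      ext p
      constructor
      · rintro ⟨z, rfl⟩
        change P.ι (Y.homOfLE hZP z) ∈ K
        rw [← Scheme.Hom.comp_apply, Scheme.homOfLE_ι]
        have : (Z.ι z) ∈ (Z : Set Y) := z.2
        rw [hZ] at this
        exact this.2
      · intro hp
        have hpZ : P.ι p ∈ (Z : Set Y) := by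
          rw [hZ]; exact ⟨p.2, hp⟩
        refine ⟨⟨P.ι p, hpZ⟩, ?_⟩
        apply P.ι.isOpenEmbedding.injective
        rw [← Scheme.Hom.comp_apply, Scheme.homOfLE_ι]
        rfl
    rw [this]
    exact hK.preimage P.ι.continuous
  rw [h1]
  infer_instance

theorem isNowhereDense_frontier_of_isOpen {α : Type*} [TopologicalSpace α] {S : Set α}
    (hS : IsOpen S) : IsNowhereDense (frontier S) := by
  rw [isClosed_frontier.isNowhereDense_iff, ← frontier_compl]
  exact interior_frontier hS.isClosed_compl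

/-- Core claim: over some nonempty basic open of a given nonempty affine open, a quasi-finite
morphism is finite. -/
theorem exists_basicOpen_isFinite {X Y : Scheme.{u}} (f : Y ⟶ X) [LocallyQuasiFinite f]
    [LocallyOfFiniteType f] [QuasiCompact f] {V : X.Opens} (hV : IsAffineOpen V) (x₀ : X)
    (hx₀ : x₀ ∈ V) :
    ∃ ρ : Γ(X, V), (X.basicOpen ρ : Set X).Nonempty ∧ IsFinite (f ∣_ X.basicOpen ρ) := by
  classical
  have hc : IsCompact ((f ⁻¹ᵁ V : Y.Opens) : Set Y) := f.isCompact_preimage hV.isCompact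
  obtain ⟨s, hs, hsU⟩ := isCompact_iff_finite_and_eq_biUnion_affineOpens.1 hc
  have : Finite s := hs.to_subtype
  have : Fintype s := Fintype.ofFinite s
  let U : s → Y.Opens := fun i => i.1.1
  have hU : ∀ i, IsAffineOpen (U i) := fun i => i.1.2
  have hle : ∀ i, U i ≤ f ⁻¹ᵁ V := by
    intro i
    rw [hsU]
    exact le_iSup₂ (f := fun (i : Y.affineOpens) (_ : i ∈ s) => (i : Y.Opens)) i.1 i.2
  have hcovU : ∀ y, y ∈ f ⁻¹ᵁ V → ∃ i, y ∈ U i := by
    intro y hy
    rw [hsU] at hy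
    obtain ⟨i, hyi⟩ := Opens.mem_iSup.1 hy
    obtain ⟨hi, hyi⟩ := Opens.mem_iSup.1 hyi
    exact ⟨⟨i, hi⟩, hyi⟩
  -- a maximal point of `V`
  obtain ⟨η, hη, hηx⟩ := exists_specializes_irreducibleComponent x₀
  have hηV : η ∈ V := hηx.mem_open V.2 hx₀
  have h0 := fun i => exists_isFinite_resLE_basicOpen f hV (hU i) (hle i) η hηV hη
    ((f.finite_preimage_singleton η).subset Set.inter_subset_right)
  choose r₀ hr₀η hr₀fin using h0
  set R₀ : Γ(X, V) := ∏ i, r₀ i with hR₀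
  have hηR₀ : η ∈ X.basicOpen R₀ := by
    rw [mem_basicOpen_iff_not_mem_primeIdealOf hV η hηV, hR₀]
    intro h
    obtain ⟨i, -, hi⟩ :=
      (Ideal.IsPrime.prod_mem_iff (hp := (hV.primeIdealOf ⟨η, hηV⟩).isPrime)).1 h
    exact (mem_basicOpen_iff_not_mem_primeIdealOf hV η hηV _).1 (hr₀η i) hi
  -- the bad closed nowhere dense set
  set N : Set X := closure (⋃ p ∈ (Finset.univ : Finset (s × s)),
    f '' frontier ((U p.1 ⊓ U p.2 : Y.Opens) : Set Y)) with hNdef
  have hN : IsNowhereDense N :=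
    (isNowhereDense_biUnion_finset _ _ (fun p _ =>
      isNowhereDense_image_of_locallyQuasiFinite f _ isClosed_frontier
        (isNowhereDense_frontier_of_isOpen (U p.1 ⊓ U p.2 : Y.Opens).2))).closure
  have hNc : IsClosed N := isClosed_closure
  obtain ⟨ξ, hξR₀, hξN⟩ : ∃ ξ, ξ ∈ X.basicOpen R₀ ∧ ξ ∉ N := by
    by_contra hcon
    push Not at hcon
    have h1 : (X.basicOpen R₀ : Set X) ⊆ interior N :=
      interior_maximal (fun z hz => hcon z hz) (X.basicOpen R₀).2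
    rw [hNc.isNowhereDense_iff.1 hN] at h1
    exact h1 hηR₀
  let O' : X.Opens := ⟨(X.basicOpen R₀ : Set X) ∩ Nᶜ, (X.basicOpen R₀).2.inter hNc.isOpen_compl⟩
  have hξV : ξ ∈ V := X.basicOpen_le R₀ hξR₀
  obtain ⟨r, hr, hξr⟩ := hV.exists_basicOpen_le (V := O') ⟨ξ, ⟨hξR₀, hξN⟩⟩ hξV
  set ρ : Γ(X, V) := R₀ * r with hρ
  have hρle : X.basicOpen ρ ≤ X.basicOpen r := by
    rw [hρ, Scheme.basicOpen_mul]; exact inf_le_right
  have hξρ : ξ ∈ X.basicOpen ρ := by
    rw [hρ, Scheme.basicOpen_mul]; exact ⟨hξR₀, hξr⟩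
  have hρN : ∀ z ∈ X.basicOpen ρ, z ∉ N := fun z hz => (hr (hρle hz)).2
  refine ⟨ρ, ⟨ξ, hξρ⟩, ?_⟩
  -- the pieces
  set P : s → Y.Opens := fun i => Y.basicOpen (f.appLE V (U i) (hle i) ρ) with hPdef
  have hP : ∀ i, P i = U i ⊓ f ⁻¹ᵁ (X.basicOpen ρ) := fun i => basicOpen_appLE_eq f V (U i) (hle i) ρ
  have hPaff : ∀ i, IsAffineOpen (P i) := fun i => (hU i).basicOpen _
  have hPle : ∀ i, P i ≤ f ⁻¹ᵁ (X.basicOpen ρ) := fun i => by rw [hP]; exact inf_le_right
  have hPU : ∀ i, P i ≤ U i := fun i => by rw [hP]; exact inf_le_left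
  have key : ∀ (ρ' : Γ(X, V)) (i : s) (r' : Γ(X, V)) (_ : ρ' = r₀ i * r')
      (hle' : Y.basicOpen (f.appLE V (U i) (hle i) ρ') ≤ f ⁻¹ᵁ (X.basicOpen ρ')),
      IsFinite (f.resLE (X.basicOpen ρ') (Y.basicOpen (f.appLE V (U i) (hle i) ρ')) hle') := by
    intro ρ' i r' h hle'
    subst h
    exact hr₀fin i r' hle'
  have hPfin : ∀ i, IsFinite (f.resLE (X.basicOpen ρ) (P i) (hPle i)) := by
    intro i
    refine key ρ i ((∏ j ∈ Finset.univ.erase i, r₀ j) * r) ?_ (hPle i)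
    rw [hρ, hR₀, ← Finset.mul_prod_erase Finset.univ r₀ (Finset.mem_univ i), mul_assoc]
  -- closures of the overlaps
  set C : s → s → Set Y := fun i j => closure ((U i ⊓ U j : Y.Opens) : Set Y) with hC
  have hclaim : ∀ i j y, y ∈ P i → y ∈ C i j → y ∈ U j := by
    intro i j y hyP hyC
    by_contra hyj
    have h1 : y ∈ frontier ((U i ⊓ U j : Y.Opens) : Set Y) := by
      rw [(U i ⊓ U j : Y.Opens).isOpen.frontier_eq]
      exact ⟨hyC, fun h => hyj h.2⟩
    have h2 : f y ∈ N := by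
      rw [hNdef]
      apply subset_closure
      simp only [Set.mem_iUnion]
      exact ⟨(i, j), Finset.mem_univ _, y, h1, rfl⟩
    exact hρN (f y) (hPle i hyP) h2
  -- an ordering of the index set
  let e : s ≃ Fin (Fintype.card s) := Fintype.equivFin s
  set K : s → Set Y := fun i => ⋂ j ∈ Finset.univ.filter (fun j => e j < e i), ((U j : Set Y))ᶜ
    with hK
  have hKcl : ∀ i, IsClosed (K i) := fun i =>
    isClosed_biInter fun j _ => (U j).2.isClosed_compl
  let Z : s → Y.Opens := fun i =>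
    ⟨(P i : Set Y) ∩ ⋂ j ∈ Finset.univ.filter (fun j => e j < e i), (C i j)ᶜ,
      (P i).2.inter (isOpen_biInter_finset fun j _ => isClosed_closure.isOpen_compl)⟩
  have hZeq : ∀ i, (Z i : Set Y) = (P i : Set Y) ∩ K i := by
    intro i
    ext y
    change (y ∈ (P i : Set Y) ∧ y ∈ ⋂ j ∈ Finset.univ.filter (fun j => e j < e i), (C i j)ᶜ) ↔
      (y ∈ (P i : Set Y) ∧ y ∈ K i)
    refine and_congr_right fun hyP => ?_
    simp only [hK, Set.mem_iInter, Set.mem_compl_iff]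
    refine forall₂_congr fun j _ => ?_
    constructor
    · intro h hyj
      exact h (subset_closure ⟨hPU i hyP, hyj⟩)
    · intro h hyC
      exact h (hclaim i j y hyP hyC)
  have hZP : ∀ i, Z i ≤ P i := fun i y hy => hy.1
  have hZle : ∀ i, Z i ≤ f ⁻¹ᵁ (X.basicOpen ρ) := fun i => (hZP i).trans (hPle i)
  have hZaff : ∀ i, IsAffineOpen (Z i) := fun i =>
    isAffineOpen_of_eq_inter_isClosed (hPaff i) (K i) (hKcl i) (hZeq i)
  have hZfin : ∀ i, IsFinite (f.resLE (X.basicOpen ρ) (Z i) (hZle i)) := fun i =>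
    isFinite_resLE_of_eq_inter_isClosed f (hPle i) (hPfin i) (K i) (hKcl i) (hZeq i) (hZle i)
  have hcov : f ⁻¹ᵁ (X.basicOpen ρ) ≤ ⨆ i, Z i := by
    intro y hy
    have hyV : y ∈ f ⁻¹ᵁ V := X.basicOpen_le ρ hy
    obtain ⟨i₁, hi₁⟩ := hcovU y hyV
    set Iy : Finset s := Finset.univ.filter (fun i => y ∈ U i) with hIy
    have hne : Iy.Nonempty := ⟨i₁, by rw [hIy, Finset.mem_filter]; exact ⟨Finset.mem_univ _, hi₁⟩⟩
    obtain ⟨i, hi, hmin⟩ := Finset.exists_min_image Iy e hne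
    rw [hIy, Finset.mem_filter] at hi
    refine Opens.mem_iSup.2 ⟨i, ?_⟩
    change y ∈ (Z i : Set Y)
    rw [hZeq i]
    refine ⟨?_, ?_⟩
    · change y ∈ P i
      rw [hP i]; exact ⟨hi.2, hy⟩
    · simp only [hK, Set.mem_iInter, Set.mem_compl_iff, Finset.mem_filter, Finset.mem_univ,
        true_and]
      intro j hj hyj
      have : e i ≤ e j := hmin j (by rw [hIy, Finset.mem_filter]; exact ⟨Finset.mem_univ _, hyj⟩)
      exact absurd hj (not_lt.2 this)
  have hdisj' : ∀ i j, e j < e i → Disjoint (Z i) (Z j) := by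
    intro i j hji
    rw [disjoint_iff, eq_bot_iff]
    rintro y ⟨hyi, hyj⟩
    have h1 : y ∈ (Z i : Set Y) := hyi
    rw [hZeq i] at h1
    have h2 : y ∈ K i := h1.2
    simp only [hK, Set.mem_iInter, Set.mem_compl_iff, Finset.mem_filter, Finset.mem_univ,
      true_and] at h2
    exact (h2 j hji (hPU j (hZP j hyj))).elim
  have hdisj : Pairwise (Function.onFun Disjoint Z) := by
    intro i j hij
    rcases lt_trichotomy (e i) (e j) with h | h | h
    · exact (hdisj' j i h).symm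
    · exact (hij (e.injective h)).elim
    · exact hdisj' i j h
  exact isFinite_morphismRestrict_of_disjoint_cover f (hV.basicOpen ρ) Z hZaff hZle hcov hdisj hZfin

/-- **A quasi-finite morphism is finite over a dense open of the target.** -/
theorem exists_dense_isFinite_morphismRestrict {X Y : Scheme.{u}} (f : Y ⟶ X)
    [LocallyQuasiFinite f] [LocallyOfFiniteType f] [QuasiCompact f] :
    ∃ U : X.Opens, Dense (U : Set X) ∧ IsFinite (f ∣_ U) := by
  let 𝒰 := {W : X.Opens // IsFinite (f ∣_ W)}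
  refine ⟨⨆ W : 𝒰, W.1, ?_, isFinite_morphismRestrict_iSup f (fun W : 𝒰 => W.1) (fun W => W.2)⟩
  rw [dense_iff_inter_open]
  intro O hO hOne
  obtain ⟨x, hx⟩ := hOne
  obtain ⟨_, ⟨V, hV, rfl⟩, hxV, hVO⟩ :=
    X.isBasis_affineOpens.exists_subset_of_mem_open hx hO
  obtain ⟨ρ, ⟨ξ, hξ⟩, hfin⟩ := exists_basicOpen_isFinite f hV x hxV
  refine ⟨ξ, hVO (X.basicOpen_le ρ hξ), ?_⟩
  exact Opens.mem_iSup.2 ⟨⟨X.basicOpen ρ, hfin⟩, hξ⟩

end Groth.Agent.Lib.T2H2.GenFiniteDense
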