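import Mathlib
import Groth.Agent.Lib.T2H2GenFiniteDense
import Groth.Agent.S10555
import Groth.Agent.Lib.Helper11RedCl

/-!
# Étale separated morphisms with finite fibres over a Noetherian base are quasi-compact

Noetherian induction, with the generic step provided by generic finiteness of quasi-finite
morphisms.
-/

set_option autoImplicit false
universe u
open CategoryTheory CategoryTheory.Limits AlgebraicGeometry TopologicalSpace Opposite

namespace Groth.Agent.Lib.T2H1.EtSepNoeth

/-- **Generic step.** For an étale separated morphism to an irreducible Noetherian scheme whose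
generic fibre is finite, the preimage of some nonempty open is compact. -/
theorem exists_open_isCompact_preimage {T U : Scheme.{u}} (g : T ⟶ U) [Etale g] [IsSeparated g]
    [IsNoetherian U] [IrreducibleSpace U] (hfib : (g ⁻¹' {genericPoint U}).Finite) :
    ∃ D : U.Opens, (D : Set U).Nonempty ∧ IsCompact (g ⁻¹' (D : Set U)) := by
  classical
  set ζ := genericPoint U with hζ
  -- a compact open containing the generic fibre
  have hA : ∀ t : T, ∃ A : T.Opens, IsAffineOpen A ∧ t ∈ A := by
    intro t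
    obtain ⟨_, ⟨A, hA, rfl⟩, htA, -⟩ :=
      T.isBasis_affineOpens.exists_subset_of_mem_open (Set.mem_univ t) isOpen_univ
    exact ⟨A, hA, htA⟩
  choose A hAaff hAmem using hA
  haveI : Finite (g ⁻¹' {ζ}) := hfib.to_subtype
  let W : T.Opens := ⨆ t : (g ⁻¹' {ζ}), A t.1
  have hWc : IsCompact (W : Set T) := by
    have : (W : Set T) = ⋃ t : (g ⁻¹' {ζ}), (A t.1 : Set T) := by
      simp [W]
    rw [this]
    exact isCompact_iUnion (fun t => (hAaff t.1).isCompact)
  have hWfib : ∀ t, g t = ζ → t ∈ W := by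
    intro t ht
    exact Opens.mem_iSup.2 ⟨⟨t, ht⟩, hAmem t⟩
  haveI : CompactSpace ↥(W : Scheme.{u}) := isCompact_iff_compactSpace.1 hWc
  let f : (W : Scheme.{u}) ⟶ U := W.ι ≫ g
  haveI : Etale f := inferInstance
  haveI : LocallyQuasiFinite f := Groth.Agent.S10555.lqf_of_etale f
  haveI : QuasiCompact f := quasiCompact_of_compactSpace f
  obtain ⟨D₀, hD₀dense, hfin⟩ :=
    Groth.Agent.Lib.T2H2.GenFiniteDense.exists_dense_isFinite_morphismRestrict f
  have hζD : ζ ∈ D₀ := by
    obtain ⟨x, hx⟩ := hD₀dense.nonempty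
    exact (genericPoint_specializes x).mem_open D₀.2 hx
  refine ⟨D₀, ⟨ζ, hζD⟩, ?_⟩
  -- main claim: the preimage of `D₀` lies in `W`
  have key : ∀ t, g t ∈ D₀ → t ∈ W := by
    intro t ht
    have hspec : ζ ⤳ g t := genericPoint_specializes (g t)
    obtain ⟨t', ht't, hgt'⟩ := (Flat.generalizingMap g) hspec
    have ht'W : t' ∈ W := hWfib t' hgt'
    have ht'D : g t' ∈ D₀ := by rw [hgt']; exact hζD
    let j := W.ι ∣_ (g ⁻¹ᵁ D₀)
    have hprop : IsProper (f ∣_ D₀) := (IsFinite.iff_isProper_and_isAffineHom.mp hfin).1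
    have hcomp : f ∣_ D₀ = j ≫ g ∣_ D₀ := morphismRestrict_comp W.ι g D₀
    haveI : IsProper (j ≫ g ∣_ D₀) := by rw [← hcomp]; exact hprop
    haveI : IsProper j := IsProper.of_comp j (g ∣_ D₀)
    have hcl : IsClosed (Set.range j) := j.isClosedMap.isClosed_range
    have h1 : (⟨t', ht'D⟩ : ↥(g ⁻¹ᵁ D₀)) ∈ Set.range j := by
      refine ⟨⟨⟨t', ht'W⟩, ?_⟩, ?_⟩
      · exact ht'D
      · apply Subtype.ext
        rw [morphismRestrict_base_coe]
        rfl
    have h2 : (⟨t', ht'D⟩ : ↥(g ⁻¹ᵁ D₀)) ⤳ ⟨t, ht⟩ := (subtype_specializes_iff _ _).2 ht't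
    obtain ⟨x, hx⟩ := h2.mem_closed hcl h1
    have h3 : (j x).1 = t := by rw [hx]
    rw [morphismRestrict_base_coe] at h3
    rw [← h3]
    exact x.1.2
  have heq : g ⁻¹' (D₀ : Set U) = W.ι '' (f ⁻¹' (D₀ : Set U)) := by
    ext t
    constructor
    · intro ht
      exact ⟨⟨t, key t ht⟩, ht, rfl⟩
    · rintro ⟨w, hw, rfl⟩
      exact hw
  rw [heq]
  exact (QuasiCompact.isCompact_preimage (f := f) _ D₀.2
    (NoetherianSpace.isCompact _)).image W.ι.continuous

/-- the generic step over an irreducible closed subset `Z` of a Noetherian scheme. -/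
theorem exists_open_isCompact_preimage_inter {T U : Scheme.{u}} (g : T ⟶ U) [Etale g]
    [IsSeparated g] [IsNoetherian U] (hfib : ∀ u : U, (g ⁻¹' {u}).Finite) (Z : Closeds U)
    (hZ : IsIrreducible (Z : Set U)) :
    ∃ V : U.Opens, ((Z : Set U) ∩ V).Nonempty ∧ IsCompact (g ⁻¹' ((Z : Set U) ∩ V)) := by
  let I := Scheme.IdealSheafData.vanishingIdeal Z
  let ι : I.subscheme ⟶ U := I.subschemeι
  have hrange : Set.range ι = (Z : Set U) :=
    Groth.Agent.Lib.Helper11RedCl.range_subschemeι_vanishingIdeal Z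
  haveI : IsLocallyNoetherian I.subscheme := LocallyOfFiniteType.isLocallyNoetherian ι
  haveI : CompactSpace ↥I.subscheme := ι.isClosedEmbedding.compactSpace
  haveI : IsNoetherian I.subscheme := {}
  haveI : IrreducibleSpace ↥I.subscheme := by
    have e : ↥I.subscheme ≃ₜ Set.range ι := ι.isEmbedding.toHomeomorph
    rw [e.irreducibleSpace_iff]
    rw [hrange]
    exact Subtype.irreducibleSpace hZ
  let gZ : pullback g ι ⟶ I.subscheme := pullback.snd g ι
  have hfib' : (gZ ⁻¹' {genericPoint ↥I.subscheme}).Finite := by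
    refine Set.Finite.of_injOn (f := (pullback.fst g ι)) (t := g ⁻¹' {ι (genericPoint ↥I.subscheme)})
      ?_ ?_ (hfib _)
    · intro p hp
      change g (pullback.fst g ι p) = _
      rw [← Scheme.Hom.comp_apply, pullback.condition, Scheme.Hom.comp_apply]
      exact congrArg ι hp
    · exact (pullback.fst g ι).isClosedEmbedding.injective.injOn
  obtain ⟨D, hDne, hDc⟩ := exists_open_isCompact_preimage gZ hfib'
  obtain ⟨V, hVo, hVD⟩ := ι.isEmbedding.isInducing.isOpen_iff.1 D.2
  refine ⟨⟨V, hVo⟩, ?_, ?_⟩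
  · obtain ⟨z, hz⟩ := hDne
    refine ⟨ι z, ?_, ?_⟩
    · rw [← hrange]; exact ⟨z, rfl⟩
    · have : z ∈ ι ⁻¹' V := by rw [hVD]; exact hz
      exact this
  · have heq : g ⁻¹' ((Z : Set U) ∩ V) = (pullback.fst g ι) '' (gZ ⁻¹' (D : Set I.subscheme)) := by
      ext t
      constructor
      · rintro ⟨htZ, htV⟩
        rw [← hrange] at htZ
        obtain ⟨z, hz⟩ := htZ
        obtain ⟨p, hp1, hp2⟩ := Scheme.Pullback.exists_preimage_pullback t z hz.symm
        refine ⟨p, ?_, hp1⟩
        have : gZ p ∈ ι ⁻¹' V := by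
          change ι (pullback.snd g ι p) ∈ V
          rw [hp2, hz]
          exact htV
        rw [hVD] at this
        exact this
      · rintro ⟨p, hp, rfl⟩
        have h1 : g (pullback.fst g ι p) = ι (gZ p) := by
          rw [← Scheme.Hom.comp_apply, pullback.condition, Scheme.Hom.comp_apply]
        refine ⟨?_, ?_⟩
        · change g (pullback.fst g ι p) ∈ (Z : Set U)
          rw [h1, ← hrange]
          exact ⟨_, rfl⟩
        · change g (pullback.fst g ι p) ∈ V
          rw [h1]
          have : gZ p ∈ ι ⁻¹' V := by rw [hVD]; exact hp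
          exact this
    change IsCompact (g ⁻¹' ((Z : Set U) ∩ V))
    rw [heq]
    exact hDc.image (pullback.fst g ι).continuous

/-- **An étale separated morphism with finite fibres to a Noetherian scheme has compact source.** -/
theorem compactSpace_of_finite_fibres {T U : Scheme.{u}} (g : T ⟶ U) [Etale g] [IsSeparated g]
    [IsNoetherian U] (hfib : ∀ u : U, (g ⁻¹' {u}).Finite) : CompactSpace ↥T := by
  suffices h : ∀ Z : Closeds U, IsCompact (g ⁻¹' (Z : Set U)) by
    have := h ⊤
    rw [Closeds.coe_top, Set.preimage_univ] at this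
    exact isCompact_univ_iff.1 this
  intro Z
  induction Z using WellFoundedLT.induction with
  | ind Z ih =>
    obtain ⟨S, hSirr, hZS⟩ := NoetherianSpace.exists_finset_irreducible Z
    by_cases hall : ∀ Z' ∈ S, Z' < Z
    · have : g ⁻¹' (Z : Set U) = ⋃ Z' ∈ S, g ⁻¹' ((Z' : Closeds U) : Set U) := by
        conv_lhs => rw [hZS]
        rw [Closeds.coe_finset_sup, Finset.sup_set_eq_biUnion]
        simp only [Set.preimage_iUnion, Function.comp, id]
      rw [this]
      exact S.finite_toSet.isCompact_biUnion (fun Z' hZ' => ih Z' (hall Z' hZ'))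
    · push_neg at hall
      obtain ⟨Z', hZ'S, hZ'⟩ := hall
      have hle : Z' ≤ Z := by
        conv_rhs => rw [hZS]
        exact Finset.le_sup (f := id) hZ'S
      have hZ'Z : Z' = Z := by
        rcases hle.lt_or_eq with h | h
        · exact (hZ' h).elim
        · exact h
      have hirr : IsIrreducible (Z : Set U) := hZ'Z ▸ hSirr ⟨Z', hZ'S⟩
      obtain ⟨V, hVne, hVc⟩ := exists_open_isCompact_preimage_inter g hfib Z hirr
      let Z₁ : Closeds U := Z ⊓ ⟨(V : Set U)ᶜ, V.2.isClosed_compl⟩
      have hZ₁ : Z₁ < Z := by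
        refine lt_of_le_of_ne inf_le_left ?_
        intro h
        obtain ⟨x, hxZ, hxV⟩ := hVne
        have : x ∈ (Z₁ : Set U) := by rw [h]; exact hxZ
        exact this.2 hxV
      have hdec : g ⁻¹' (Z : Set U) = g ⁻¹' ((Z : Set U) ∩ V) ∪ g ⁻¹' (Z₁ : Set U) := by
        ext t
        constructor
        · intro ht
          by_cases htV : g t ∈ V
          · exact Or.inl ⟨ht, htV⟩
          · exact Or.inr ⟨ht, htV⟩
        · rintro (h | h)
          · exact h.1
          · exact h.1
      rw [hdec]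
      exact hVc.union (ih Z₁ hZ₁)

end Groth.Agent.Lib.T2H1.EtSepNoeth
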