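import Groth.Agent.Lib.Helper12FibreSpec
import Groth.Agent.Lib.Helper12Proper
import Groth.Agent.Lib.Helper10MonoField
import Groth.Agent.S9874
import Groth.Prelude.Def_AlgSpDec
import Groth.Agent.S10265
import Groth.Agent.S10176

/-!
# Locally Noetherian fibres of morphisms of algebraic spaces
-/

set_option autoImplicit false
universe u
open CategoryTheory CategoryTheory.Limits AlgebraicGeometry
open AlgSp

namespace Groth.Agent.Lib.T2H1.FibreNoeth

/-- local Noetherianity descends along affine, flat, surjective morphisms of schemes. -/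
theorem isLocallyNoetherian_of_affine_flat_surjective {A B : Scheme.{u}} (g : A ⟶ B)
    [IsAffineHom g] [Flat g] [Surjective g] [IsLocallyNoetherian A] : IsLocallyNoetherian B := by
  rw [isLocallyNoetherian_iff_openCover B.affineCover]
  intro i
  haveI : IsLocallyNoetherian (pullback g (B.affineCover.f i)) :=
    isLocallyNoetherian_of_isOpenImmersion (pullback.fst g (B.affineCover.f i))
  haveI : IsAffine (B.affineCover.X i) := by
    dsimp [Scheme.affineCover]; infer_instance
  haveI : IsAffine (pullback g (B.affineCover.f i)) :=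
    isAffine_of_isAffineHom (pullback.snd g (B.affineCover.f i))
  haveI : IsNoetherianRing Γ(pullback g (B.affineCover.f i), ⊤) :=
    IsLocallyNoetherian.component_noetherian ⟨⊤, isAffineOpen_top _⟩
  have hff : (pullback.snd g (B.affineCover.f i)).appTop.hom.FaithfullyFlat :=
    (Flat.flat_and_surjective_iff_faithfullyFlat_of_isAffine _).1 ⟨inferInstance, inferInstance⟩
  algebraize [(pullback.snd g (B.affineCover.f i)).appTop.hom]
  haveI : Module.FaithfullyFlat Γ(B.affineCover.X i, ⊤) Γ(pullback g (B.affineCover.f i), ⊤) := hff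
  haveI : IsNoetherianRing Γ(B.affineCover.X i, ⊤) :=
    Groth.Agent.Lib.Helper28.isNoetherianRing_of_faithfullyFlat
      (R := Γ(B.affineCover.X i, ⊤)) (S := Γ(pullback g (B.affineCover.f i), ⊤))
  exact isLocallyNoetherian_of_isOpenImmersion (B.affineCover.X i).isoSpec.hom

variable {S : Scheme.{u}}

/-- the base change of a chart along the base change of a morphism of schemes. -/
theorem exists_chart_pullback {P' P : Sp S} {B' B : Over S} {fst : P' ⟶ P}
    {snd : P' ⟶ (yon S).obj B'} {π : P ⟶ (yon S).obj B} {h : B' ⟶ B}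
    (sq : IsPullback fst snd π ((yon S).map h)) {U : Over S} (a : (yon S).obj U ⟶ P) :
    ∃ (U' : Over S) (a' : (yon S).obj U' ⟶ P') (fst' : U' ⟶ U) (snd' : U' ⟶ B') (c₀ : U ⟶ B),
      IsPullback a' ((yon S).map fst') fst a ∧ IsPullback fst'.left snd'.left c₀.left h.left := by
  obtain ⟨c₀, hc₀⟩ := (yon S).map_surjective (a ≫ π)
  have sqO := IsPullback.of_hasPullback c₀ h
  have sqY := sqO.map (yon S)
  have hw : ((yon S).map (pullback.fst c₀ h) ≫ a) ≫ π =
      (yon S).map (pullback.snd c₀ h) ≫ (yon S).map h := by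
    rw [Category.assoc, ← hc₀]
    exact sqY.w
  let a' := sq.lift _ _ hw
  have ha'1 : a' ≫ fst = (yon S).map (pullback.fst c₀ h) ≫ a := sq.lift_fst _ _ hw
  have ha'2 : a' ≫ snd = (yon S).map (pullback.snd c₀ h) := sq.lift_snd _ _ hw
  have outer : IsPullback (a' ≫ snd) ((yon S).map (pullback.fst c₀ h)) ((yon S).map h)
      (a ≫ π) := by
    rw [ha'2, ← hc₀]
    exact sqY.flip
  exact ⟨pullback c₀ h, a', pullback.fst c₀ h, pullback.snd c₀ h, c₀,
    IsPullback.of_right outer ha'1 sq.flip, sqO.map (Over.forget S)⟩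

/-- a base change of a locally Noetherian algebraic space along a morphism of schemes that is
locally of finite type is locally Noetherian. -/
theorem isLocNoethSp_baseChange_lft {P' P : Sp S} {B' B : Over S} {fst : P' ⟶ P}
    {snd : P' ⟶ (yon S).obj B'} {π : P ⟶ (yon S).obj B} {h : B' ⟶ B}
    (sq : IsPullback fst snd π ((yon S).map h)) [LocallyOfFiniteType h.left]
    (hP : IsLocNoethSp P) : IsLocNoethSp P' := by
  obtain ⟨U, a, hae, has, hU⟩ := hP
  obtain ⟨U', a', fst', snd', c₀, sqL, sqS⟩ := exists_chart_pullback sq a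
  haveI : IsLocallyNoetherian U.left := hU
  haveI : LocallyOfFiniteType fst'.left :=
    MorphismProperty.of_isPullback (P := @LocallyOfFiniteType) sqS.flip inferInstance
  exact ⟨U', a', MorphismProperty.of_isPullback (P := RepWith @Etale) sqL.flip hae,
    MorphismProperty.of_isPullback (P := RepWith @Surjective) sqL.flip has,
    LocallyOfFiniteType.isLocallyNoetherian fst'.left⟩

/-- local Noetherianity of an algebraic space descends along the base change of an affine, flat,
surjective morphism of schemes. -/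
theorem isLocNoethSp_of_baseChange_affine_flat_surjective {P' P : Sp S} {B' B : Over S}
    {fst : P' ⟶ P} {snd : P' ⟶ (yon S).obj B'} {π : P ⟶ (yon S).obj B} {h : B' ⟶ B}
    (sq : IsPullback fst snd π ((yon S).map h)) [IsAffineHom h.left] [Flat h.left]
    [Surjective h.left] (hP : IsAlgSpace P) (hP' : IsLocNoethSp P') : IsLocNoethSp P := by
  obtain ⟨U, a, hae, has⟩ := hP.atlas
  obtain ⟨U', a', fst', snd', c₀, sqL, sqS⟩ := exists_chart_pullback sq a
  have ha'e : RepWith @Etale a' :=
    MorphismProperty.of_isPullback (P := RepWith @Etale) sqL.flip hae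
  haveI : IsLocallyNoetherian U'.left :=
    Groth.Agent.Lib.Helper12.FibreSpec.isLocallyNoetherian_of_chart hP' a' ha'e
  haveI : IsAffineHom fst'.left :=
    MorphismProperty.of_isPullback (P := @IsAffineHom) sqS.flip inferInstance
  haveI : Flat fst'.left :=
    MorphismProperty.of_isPullback (P := @Flat) sqS.flip inferInstance
  haveI : Surjective fst'.left :=
    MorphismProperty.of_isPullback (P := @Surjective) sqS.flip inferInstance
  exact ⟨U, a, hae, has, isLocallyNoetherian_of_affine_flat_surjective fst'.left⟩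

end Groth.Agent.Lib.T2H1.FibreNoeth

namespace Groth.Agent.Lib.T2H1.FibreNoeth

variable {S : Scheme.{u}}

/-- the fibre over a point that factors through another point is the base change of the fibre. -/
theorem exists_fibre_square {X Y : Sp S} (f : X ⟶ Y) {B' B : Over S} (g : B' ⟶ B)
    (p : (yon S).obj B ⟶ Y) {P : Sp S} {fst : P ⟶ X} {snd : P ⟶ (yon S).obj B}
    (hP : IsPullback fst snd f p) {P' : Sp S} {fst' : P' ⟶ X} {snd' : P' ⟶ (yon S).obj B'}
    (hP' : IsPullback fst' snd' f ((yon S).map g ≫ p)) :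
    ∃ m : P' ⟶ P, IsPullback m snd' snd ((yon S).map g) := by
  have hw : fst' ≫ f = (snd' ≫ (yon S).map g) ≫ p := by rw [hP'.w, Category.assoc]
  let m := hP.lift _ _ hw
  have hm1 : m ≫ fst = fst' := hP.lift_fst _ _ hw
  have hm2 : m ≫ snd = snd' ≫ (yon S).map g := hP.lift_snd _ _ hw
  rw [← hm1] at hP'
  exact ⟨m, IsPullback.of_right hP' hm2 hP⟩

/-- the spectrum of a field extension is affine, flat and surjective. -/
theorem specMap_field_props {K L : Type u} [Field K] [Field L] (φ : K →+* L) :
    IsAffineHom (Spec.map (CommRingCat.ofHom φ)) ∧ Flat (Spec.map (CommRingCat.ofHom φ)) ∧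
      Surjective (Spec.map (CommRingCat.ofHom φ)) := by
  refine ⟨inferInstance, ?_, ?_⟩
  · rw [HasRingHomProperty.Spec_iff (P := @Flat)]
    algebraize [φ]
    change (algebraMap K L).Flat
    rw [RingHom.flat_algebraMap_iff]
    infer_instance
  · constructor
    intro x
    exact ⟨default, Subsingleton.elim _ _⟩

/-- the fibre over a point of an étale chart lying over the class of a field-valued point with
locally Noetherian fibre is locally Noetherian. -/
theorem fibre_chart_of_fieldPt {X Y : Sp S} (hX : IsAlgSpace X) (hY : IsAlgSpace Y) (f : X ⟶ Y)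
    (p : FieldPt Y)
    (hNoeth : ∀ ⦃P : Sp S⦄ (fst : P ⟶ X) (snd : P ⟶ (yon S).obj p.pt),
      IsPullback fst snd f p.toHom → IsLocNoethSp P)
    (V : Over S) (b : (yon S).obj V ⟶ Y) (hb : RepWith @Etale b) (v : ↥V.left)
    (hv : Points.ofPt b v = Points.mk p)
    {Q : Sp S} (qfst : Q ⟶ X) (qsnd : Q ⟶ (yon S).obj (FieldPt.ofPt b v).pt)
    (hQ : IsPullback qfst qsnd f (FieldPt.ofPt b v).toHom) : IsLocNoethSp Q := by
  obtain ⟨T, qk, qV', sqT⟩ := hb.1 p.toHom
  haveI : Etale qk.left := hb.2 p.toHom qV' qk sqT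
  obtain ⟨qV, rfl⟩ := (yon S).map_surjective qV'
  obtain ⟨t, htv, -⟩ := Groth.Agent.S10176.exists_point_of_isPullback_yon sqT v
    (IsLocalRing.closedPoint p.K) (by rw [hv, Points.ofPt_toHom])
  subst htv
  -- `T` is discrete, so `Spec κ(t) ⟶ T` is locally of finite type
  haveI : IsLocallyArtinian p.pt.left := by
    change IsLocallyArtinian (Spec (CommRingCat.of p.K))
    rw [Scheme.isLocallyArtinianScheme_Spec]
    infer_instance
  haveI : LocallyQuasiFinite qk.left := Groth.Agent.S10265.locallyQuasiFinite_of_unramified qk.left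
  haveI : IsLocallyArtinian T.left := IsLocallyArtinian.of_locallyQuasiFinite qk.left
  have hcl : IsClosed ({t} : Set T.left) := isClosed_discrete _
  haveI : IsClosedImmersion (T.left.fromSpecResidueField t) :=
    isClosed_singleton_iff_isClosedImmersion.mp hcl
  -- the point `Spec κ(t) ⟶ T ⟶ Spec k ⟶ Y`
  let ιt : Over.mk (T.left.fromSpecResidueField t ≫ T.hom) ⟶ T :=
    Over.homMk (T.left.fromSpecResidueField t) rfl
  obtain ⟨Pℓ, fℓ, sℓ, sqℓ⟩ : ∃ (Pℓ : Sp S) (fℓ : Pℓ ⟶ X)
      (sℓ : Pℓ ⟶ (yon S).obj (Over.mk (T.left.fromSpecResidueField t ≫ T.hom))),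
      IsPullback fℓ sℓ f ((yon S).map (ιt ≫ qk) ≫ p.toHom) :=
    ⟨_, _, _, IsPullback.of_hasPullback f ((yon S).map (ιt ≫ qk) ≫ p.toHom)⟩
  have sqp := IsPullback.of_hasPullback f p.toHom
  obtain ⟨m, sqm⟩ := exists_fibre_square f (ιt ≫ qk) p.toHom sqp sqℓ
  haveI : LocallyOfFiniteType (ιt ≫ qk).left := by
    change LocallyOfFiniteType (T.left.fromSpecResidueField t ≫ qk.left)
    infer_instance
  have hℓ : IsLocNoethSp Pℓ := isLocNoethSp_baseChange_lft sqm (hNoeth _ _ sqp)
  -- the same point through `V`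
  let ρ : Over.mk (T.left.fromSpecResidueField t ≫ T.hom) ⟶ (FieldPt.ofPt b (qV.left t)).pt :=
    Over.homMk (Spec.map (qV.left.residueFieldMap t)) (by
      change Spec.map (qV.left.residueFieldMap t) ≫
        (V.left.fromSpecResidueField (qV.left t) ≫ V.hom) = T.left.fromSpecResidueField t ≫ T.hom
      rw [← Category.assoc, Scheme.Hom.SpecMap_residueFieldMap_fromSpecResidueField,
        Category.assoc, Over.w qV])
  have hρ : (yon S).map (ιt ≫ qk) ≫ p.toHom =
      (yon S).map ρ ≫ (FieldPt.ofPt b (qV.left t)).toHom := by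
    rw [FieldPt.toHom_ofPt, Functor.map_comp, Category.assoc, ← sqT.w, ← Category.assoc,
      ← Category.assoc, ← Functor.map_comp, ← Functor.map_comp]
    congr 2
    ext
    exact (Scheme.Hom.SpecMap_residueFieldMap_fromSpecResidueField qV.left t).symm
  rw [hρ] at sqℓ
  obtain ⟨m', sqm'⟩ := exists_fibre_square f ρ _ hQ sqℓ
  obtain ⟨h1, h2, h3⟩ := specMap_field_props (qV.left.residueFieldMap t).hom
  haveI : IsAffineHom ρ.left := h1
  haveI : Flat ρ.left := h2
  haveI : Surjective ρ.left := h3
  have hQalg : IsAlgSpace Q :=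
    Groth.Agent.S9874.isAlgSpace_of_isPullback hY.diag hX (IsAlgSpace.yon_obj _) hQ
  exact isLocNoethSp_of_baseChange_affine_flat_surjective sqm' hQalg hℓ

end Groth.Agent.Lib.T2H1.FibreNoeth

namespace Groth.Agent.Lib.T2H1.FibreNoeth

variable {S : Scheme.{u}}

/-- a field-valued point in the class of a monomorphic field-valued point factors through it. -/
theorem exists_factor_of_mono {Y : Sp S} (hY : IsAlgSpace Y) (p p₀ : FieldPt Y)
    (hpp : Points.mk p = Points.mk p₀) (hmono : Mono p₀.toHom) :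
    ∃ g : p.pt ⟶ p₀.pt, (yon S).map g ≫ p₀.toHom = p.toHom := by
  obtain ⟨W, snd, fst', sq⟩ := hY.representable_from_yon p₀.toHom p.toHom
  obtain ⟨fst, rfl⟩ := (yon S).map_surjective fst'
  haveI : Mono ((yon S).map snd) :=
    PullbackCone.mono_snd_of_is_pullback_of_mono sq.isLimit
  haveI : Mono snd := (yon S).mono_of_mono_map inferInstance
  haveI : Mono snd.left := inferInstance
  obtain ⟨w, -, -⟩ := Groth.Agent.S10176.exists_point_of_isPullback_yon sq
    (IsLocalRing.closedPoint p₀.K) (IsLocalRing.closedPoint p.K) (by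
      rw [Points.ofPt_toHom, Points.ofPt_toHom, hpp])
  haveI : Nonempty W.left := ⟨w⟩
  haveI : IsIso snd.left :=
    Groth.Agent.Lib.Helper10.MonoField.isIso_of_mono_of_nonempty p.K snd.left
  haveI : IsIso snd := by
    haveI : IsIso ((Over.forget S).map snd) := inferInstanceAs (IsIso snd.left)
    exact isIso_of_reflects_iso snd (Over.forget S)
  refine ⟨inv snd ≫ fst, ?_⟩
  rw [Functor.map_comp, Category.assoc, sq.w, ← Category.assoc, ← Functor.map_comp,
    IsIso.inv_hom_id, CategoryTheory.Functor.map_id, Category.id_comp]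

/-- the fibre over a monomorphic field-valued point is locally Noetherian if the fibre over some
field-valued point in its class is. -/
theorem fibre_of_mono_fieldPt {X Y : Sp S} (hX : IsAlgSpace X) (hY : IsAlgSpace Y) (f : X ⟶ Y)
    (p p₀ : FieldPt Y) (hpp : Points.mk p = Points.mk p₀) (hmono : Mono p₀.toHom)
    (hNoeth : ∀ ⦃P : Sp S⦄ (fst : P ⟶ X) (snd : P ⟶ (yon S).obj p.pt),
      IsPullback fst snd f p.toHom → IsLocNoethSp P)
    {Q : Sp S} (qfst : Q ⟶ X) (qsnd : Q ⟶ (yon S).obj p₀.pt)
    (hQ : IsPullback qfst qsnd f p₀.toHom) : IsLocNoethSp Q := by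
  obtain ⟨g, hg⟩ := exists_factor_of_mono hY p p₀ hpp hmono
  obtain ⟨P, fP, sP, sqP⟩ : ∃ (P : Sp S) (fP : P ⟶ X) (sP : P ⟶ (yon S).obj p.pt),
      IsPullback fP sP f p.toHom := ⟨_, _, _, IsPullback.of_hasPullback f p.toHom⟩
  have hP : IsLocNoethSp P := hNoeth _ _ sqP
  rw [← hg] at sqP
  obtain ⟨m, sqm⟩ := exists_fibre_square f g _ hQ sqP
  obtain ⟨φ, hφ⟩ := Spec.map_surjective g.left
  have hgl : g.left = Spec.map (CommRingCat.ofHom φ.hom) := by
    rw [CommRingCat.ofHom_hom]; exact hφ.symm
  obtain ⟨h1, h2, h3⟩ := specMap_field_props φ.hom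
  rw [← hgl] at h1 h2 h3
  haveI : IsAffineHom g.left := h1
  haveI : Flat g.left := h2
  haveI : Surjective g.left := h3
  have hQalg : IsAlgSpace Q :=
    Groth.Agent.S9874.isAlgSpace_of_isPullback hY.diag hX (IsAlgSpace.yon_obj _) hQ
  exact isLocNoethSp_of_baseChange_affine_flat_surjective sqm hQalg hP

end Groth.Agent.Lib.T2H1.FibreNoeth
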