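import Mathlib
import Groth.Agent.Lib.T2H1EtSepNoeth
import Groth.Agent.Lib.T2H1FieldQuotL
import Groth.Agent.Lib.T2H1FieldQuotH
import Groth.Agent.Lib.T2H1FibreNoeth
import Groth.Agent.Lib.T2H1EtField
import Groth.Agent.Lib.Helper12FibreSpec
import Groth.Agent.S10181

/-!
# Locally Noetherian decent algebraic spaces are quasi-separated (helper1)
-/

set_option autoImplicit false
universe u
open CategoryTheory CategoryTheory.Limits AlgebraicGeometry Opposite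
open AlgSp

namespace Groth.Agent.Lib.T2H1.DecentQS

open Groth.Agent.Lib.T2H1.FieldQuot

variable {S : Scheme.{u}}

/-- the fibres of the projection `W₁ ×_X W₂ ⟶ W₁` are finite, for `W₂` an affine étale chart of a
decent algebraic space. -/
theorem finite_fibre_fst {X : AlgSp.Sp S} (hXa : AlgSp.IsAlgSpace X)
    (hD : AlgSp.IsDecent X) {W₁ W₂ Q : Over S} [IsAffine W₂.left]
    (a₁ : (AlgSp.yon S).obj W₁ ⟶ X) (a₂ : (AlgSp.yon S).obj W₂ ⟶ X)
    (ha₂ : AlgSp.RepWith @Etale a₂) (π₁ : Q ⟶ W₁) (π₂ : Q ⟶ W₂)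
    (sq : IsPullback ((AlgSp.yon S).map π₁) ((AlgSp.yon S).map π₂) a₁ a₂) (w₁ : ↥W₁.left) :
    (π₁.left ⁻¹' {w₁}).Finite := by
  let q₁ : AlgSp.FieldPt X := AlgSp.FieldPt.ofPt a₁ w₁
  let ι₁ : q₁.pt ⟶ W₁ := Over.homMk (W₁.left.fromSpecResidueField w₁) rfl
  have hq₁ : q₁.toHom = (AlgSp.yon S).map ι₁ ≫ a₁ := AlgSp.FieldPt.toHom_ofPt a₁ w₁
  -- the fibre product `G = Spec κ(w₁) ×_X W₂`
  obtain ⟨G, γ₂, fst, sqG⟩ := hXa.representable_from_yon q₁.toHom a₂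
  obtain ⟨c, rfl⟩ := (AlgSp.yon S).map_surjective fst
  -- `G` is compact, by decency
  obtain ⟨p₀, hp₀, hmono, hqc⟩ := hD (AlgSp.Points.mk q₁)
  obtain ⟨g, hg⟩ := Groth.Agent.Lib.T2H1.FibreNoeth.exists_factor_of_mono hXa q₁ p₀ hp₀.symm hmono
  obtain ⟨E, ε₂, fstE, sqE⟩ := hXa.representable_from_yon p₀.toHom a₂
  obtain ⟨c₀, rfl⟩ := (AlgSp.yon S).map_surjective fstE
  haveI : QuasiCompact ε₂.left := hqc.2 a₂ _ ε₂ sqE
  haveI : CompactSpace ↥W₂.left := inferInstance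
  haveI : CompactSpace ↥E.left := QuasiCompact.compactSpace_of_compactSpace ε₂.left
  haveI : IsAffine q₁.pt.left := (inferInstance : IsAffine (Spec (CommRingCat.of q₁.K)))
  haveI : IsAffine p₀.pt.left := (inferInstance : IsAffine (Spec (CommRingCat.of p₀.K)))
  haveI : QuasiCompact g.left := inferInstance
  have sqG' : IsPullback ((AlgSp.yon S).map γ₂) ((AlgSp.yon S).map c) a₂
      ((AlgSp.yon S).map g ≫ p₀.toHom) := by
    rw [hg]; exact sqG.flip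
  haveI : CompactSpace ↥G.left :=
    compactSpace_of_quasiCompact_snd a₂ p₀.toHom g ε₂ c₀ sqE.flip γ₂ c sqG'
  -- `G` is discrete
  haveI : Etale c.left := ha₂.2 _ _ c sqG.flip
  haveI : LocallyQuasiFinite c.left := Groth.Agent.S10555.lqf_of_etale c.left
  haveI : DiscreteTopology ↥G.left :=
    Groth.Agent.Lib.T2H1.EtField.discreteTopology_of_lqf_field q₁.K c.left
  haveI : Finite ↥G.left := finite_of_compact_of_discrete
  -- the fibre is in the image of `G`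
  have sqG'' : IsPullback ((AlgSp.yon S).map γ₂) ((AlgSp.yon S).map c) a₂
      ((AlgSp.yon S).map ι₁ ≫ a₁) := by
    rw [← hq₁]; exact sqG.flip
  obtain ⟨e, -, he₁, hsq⟩ := exists_baseChange_snd a₂ a₁ ι₁ π₂ π₁ sq.flip γ₂ c sqG''
  refine (Set.finite_range e.left).subset ?_
  intro y hy
  have hy' : π₁.left y = ι₁.left (IsLocalRing.closedPoint _) := by
    rw [hy]
    exact (Scheme.fromSpecResidueField_apply _ _).symm
  obtain ⟨z, hz, -⟩ := exists_point_of_isPullback_yon_map hsq y _ hy'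
  exact ⟨z, hz⟩

/-- **Lemma Q**: the fibre product of two affine étale charts of a locally Noetherian decent
algebraic space is quasi-compact. -/
theorem compactSpace_of_affine_etale_charts {X : AlgSp.Sp S} (hXa : AlgSp.IsAlgSpace X)
    (hN : AlgSp.IsLocNoethSp X) (hD : AlgSp.IsDecent X) {W₁ W₂ Q : Over S}
    [IsAffine W₁.left] [IsAffine W₂.left]
    (a₁ : (AlgSp.yon S).obj W₁ ⟶ X) (a₂ : (AlgSp.yon S).obj W₂ ⟶ X)
    (ha₁ : AlgSp.RepWith @Etale a₁) (ha₂ : AlgSp.RepWith @Etale a₂)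
    (π₁ : Q ⟶ W₁) (π₂ : Q ⟶ W₂)
    (sq : IsPullback ((AlgSp.yon S).map π₁) ((AlgSp.yon S).map π₂) a₁ a₂) :
    CompactSpace ↥Q.left := by
  haveI : Etale π₁.left := ha₂.2 a₁ _ π₁ sq.flip
  haveI : IsSeparated W₂.hom := inferInstance
  haveI : IsSeparated π₁.left :=
    (Groth.Agent.S10181.repWith_isSeparated_of_separated a₂ ha₂.1).2 a₁ _ π₁ sq.flip
  haveI : IsLocallyNoetherian W₁.left :=
    Groth.Agent.Lib.Helper12.FibreSpec.isLocallyNoetherian_of_chart hN a₁ ha₁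
  haveI : CompactSpace ↥W₁.left := inferInstance
  haveI : IsNoetherian W₁.left := {}
  exact Groth.Agent.Lib.T2H1.EtSepNoeth.compactSpace_of_finite_fibres π₁.left
    (fun w₁ => finite_fibre_fst hXa hD a₁ a₂ ha₂ π₁ π₂ sq w₁)

/-- compactness of a fibre product can be checked locally on the (compact) first factor, along
open maps. -/
theorem compactSpace_of_local_fst {X : AlgSp.Sp S} (hXa : AlgSp.IsAlgSpace X) {A₁ A₂ P : Over S}
    [CompactSpace ↥A₁.left] (a₁ : (AlgSp.yon S).obj A₁ ⟶ X) (a₂ : (AlgSp.yon S).obj A₂ ⟶ X)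
    (π₁ : P ⟶ A₁) (π₂ : P ⟶ A₂)
    (sq : IsPullback ((AlgSp.yon S).map π₁) ((AlgSp.yon S).map π₂) a₁ a₂)
    (H : ∀ x : ↥A₁.left, ∃ (A' : Over S) (d : A' ⟶ A₁), IsOpenMap d.left ∧ x ∈ Set.range d.left ∧
      ∀ (P' : Over S) (π₁' : P' ⟶ A') (π₂' : P' ⟶ A₂),
        IsPullback ((AlgSp.yon S).map π₁') ((AlgSp.yon S).map π₂') ((AlgSp.yon S).map d ≫ a₁) a₂ →
          CompactSpace ↥P'.left) : CompactSpace ↥P.left := by
  choose A' d hopen hmem hcomp using H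
  have hpiece : ∀ x : ↥A₁.left, ∃ K : Set ↥P.left, IsCompact K ∧
      π₁.left ⁻¹' (Set.range (d x).left) ⊆ K := by
    intro x
    obtain ⟨P', π₂', fst, sq'⟩ := hXa.representable_from_yon ((AlgSp.yon S).map (d x) ≫ a₁) a₂
    obtain ⟨π₁', rfl⟩ := (AlgSp.yon S).map_surjective fst
    haveI : CompactSpace ↥P'.left := hcomp x P' π₁' π₂' sq'
    obtain ⟨e, -, -, hsq⟩ := exists_baseChange_snd a₂ a₁ (d x) π₂ π₁ sq.flip π₂' π₁' sq'.flip
    refine ⟨Set.range e.left, isCompact_range e.left.continuous, ?_⟩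
    rintro y ⟨z, hz⟩
    obtain ⟨y', hy', -⟩ := exists_point_of_isPullback_yon_map hsq y z hz.symm
    exact ⟨y', hy'⟩
  choose K hKc hK using hpiece
  obtain ⟨t, ht⟩ := isCompact_univ.elim_finite_subcover (fun x => Set.range (d x).left)
    (fun x => (hopen x).isOpen_range) (fun x _ => Set.mem_iUnion.2 ⟨x, hmem x⟩)
  have huniv : (⋃ x ∈ t, K x) = Set.univ := by
    apply Set.eq_univ_of_univ_subset
    intro y _
    have hy := ht (Set.mem_univ (π₁.left y))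
    simp only [Set.mem_iUnion] at hy ⊢
    obtain ⟨x, hxt, hx⟩ := hy
    exact ⟨x, hxt, hK x hx⟩
  refine ⟨?_⟩
  rw [← huniv]
  exact t.isCompact_biUnion (fun x _ => hKc x)

/-- every map from a scheme to an algebraic space factors, étale locally on the source, through
affine étale charts. -/
theorem exists_refinement {X : AlgSp.Sp S} (hXa : AlgSp.IsAlgSpace X) {U : Over S}
    (a : (AlgSp.yon S).obj U ⟶ X) (u : ↥U.left) :
    ∃ (A' : Over S) (d : A' ⟶ U) (W : Over S) (p : (AlgSp.yon S).obj W ⟶ X) (h : A' ⟶ W),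
      IsAffine A'.left ∧ IsAffine W.left ∧ AlgSp.RepWith @Etale p ∧ IsOpenMap d.left ∧
        u ∈ Set.range d.left ∧ (AlgSp.yon S).map d ≫ a = (AlgSp.yon S).map h ≫ p := by
  obtain ⟨W₀, p₀, hp₀e, hp₀s⟩ := hXa.atlas
  obtain ⟨U₀, w₀, fst, sq⟩ := hXa.representable_from_yon a p₀
  obtain ⟨u₀, rfl⟩ := (AlgSp.yon S).map_surjective fst
  haveI : Etale u₀.left := hp₀e.2 a _ u₀ sq.flip
  haveI : Surjective u₀.left := hp₀s.2 a _ u₀ sq.flip
  obtain ⟨t, rfl⟩ := u₀.left.surjective u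
  obtain ⟨_, ⟨Wt₀, hWt, rfl⟩, htW, -⟩ :=
    W₀.left.isBasis_affineOpens.exists_subset_of_mem_open (Set.mem_univ (w₀.left t)) isOpen_univ
  obtain ⟨Wt, hWt₀⟩ : ∃ Wt : W₀.left.Opens, Wt = Wt₀ := ⟨Wt₀, rfl⟩
  subst hWt₀
  obtain ⟨_, ⟨Ut₀, hUt, rfl⟩, htU, hUW⟩ :=
    U₀.left.isBasis_affineOpens.exists_subset_of_mem_open
      (show t ∈ ((w₀.left ⁻¹ᵁ Wt : U₀.left.Opens) : Set U₀.left) from htW)
      (w₀.left ⁻¹ᵁ Wt).2
  obtain ⟨Ut, hUt₀⟩ : ∃ Ut : U₀.left.Opens, Ut = Ut₀ := ⟨Ut₀, rfl⟩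
  subst hUt₀
  let A' : Over S := Over.mk (Ut.ι ≫ U₀.hom)
  let ιU : A' ⟶ U₀ := Over.homMk Ut.ι rfl
  let W : Over S := Over.mk (Wt.ι ≫ W₀.hom)
  let ιW : W ⟶ W₀ := Over.homMk Wt.ι rfl
  have hrange : Set.range (Ut.ι ≫ w₀.left) ⊆ Set.range Wt.ι := by
    rintro _ ⟨x, rfl⟩
    rw [Scheme.Opens.range_ι]
    exact hUW x.2
  let h₀ : (Ut : Scheme.{u}) ⟶ (Wt : Scheme.{u}) := IsOpenImmersion.lift Wt.ι (Ut.ι ≫ w₀.left) hrange
  have hh₀ : h₀ ≫ Wt.ι = Ut.ι ≫ w₀.left := IsOpenImmersion.lift_fac _ _ _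
  let h : A' ⟶ W := Over.homMk h₀ (by
    change h₀ ≫ Wt.ι ≫ W₀.hom = Ut.ι ≫ U₀.hom
    rw [reassoc_of% hh₀, Over.w w₀])
  have hhι : h ≫ ιW = ιU ≫ w₀ := by
    ext
    exact hh₀
  refine ⟨A', ιU ≫ u₀, W, (AlgSp.yon S).map ιW ≫ p₀, h, hUt, hWt, ?_, ?_, ?_, ?_⟩
  · refine MorphismProperty.comp_mem _ _ _ ((AlgSp.repWith_yon_map_iff _ _).2 ?_) hp₀e
    exact (inferInstance : Etale Wt.ι)
  · rw [Over.comp_left]
    exact (Ut.ι ≫ u₀.left).isOpenMap
  · exact ⟨⟨t, htU⟩, rfl⟩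
  · rw [Functor.map_comp, Category.assoc, sq.w, ← Category.assoc, ← Functor.map_comp, ← hhι,
      Functor.map_comp, Category.assoc]

/-- **the fibre product of two affine schemes over a locally Noetherian decent algebraic space is
quasi-compact.** -/
theorem compactSpace_of_affine {X : AlgSp.Sp S} (hXa : AlgSp.IsAlgSpace X)
    (hN : AlgSp.IsLocNoethSp X) (hD : AlgSp.IsDecent X) {U V P : Over S}
    [IsAffine U.left] [IsAffine V.left]
    (a : (AlgSp.yon S).obj U ⟶ X) (b : (AlgSp.yon S).obj V ⟶ X) (fst : P ⟶ U) (snd : P ⟶ V)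
    (sq : IsPullback ((AlgSp.yon S).map fst) ((AlgSp.yon S).map snd) a b) :
    CompactSpace ↥P.left := by
  haveI : CompactSpace ↥U.left := inferInstance
  haveI : CompactSpace ↥V.left := inferInstance
  refine compactSpace_of_local_fst hXa a b fst snd sq (fun u => ?_)
  obtain ⟨A', d, W, p, h, hA', hW, hp, hd, hu, hcomm⟩ := exists_refinement hXa a u
  refine ⟨A', d, hd, hu, fun P' π₁' π₂' sq' => ?_⟩
  refine compactSpace_of_local_fst hXa b ((AlgSp.yon S).map d ≫ a) π₂' π₁' sq'.flip (fun v => ?_)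
  obtain ⟨B', d', W', p', h', hB', hW', hp', hd', hv, hcomm'⟩ := exists_refinement hXa b v
  refine ⟨B', d', hd', hv, fun P'' ρ₁ ρ₂ sq'' => ?_⟩
  haveI := hA'
  haveI := hW
  haveI := hB'
  haveI := hW'
  rw [hcomm, hcomm'] at sq''
  -- `Q = W' ×_X W`
  obtain ⟨Q, q₂, fstQ, sqQ⟩ := hXa.representable_from_yon p' p
  obtain ⟨q₁, rfl⟩ := (AlgSp.yon S).map_surjective fstQ
  haveI : CompactSpace ↥Q.left := compactSpace_of_affine_etale_charts hXa hN hD p' p hp' hp q₁ q₂ sqQ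
  -- `Q₁ = W' ×_X A'`
  obtain ⟨Q₁, r₂, fstQ₁, sqQ₁⟩ := hXa.representable_from_yon p' ((AlgSp.yon S).map h ≫ p)
  obtain ⟨r₁, rfl⟩ := (AlgSp.yon S).map_surjective fstQ₁
  haveI : QuasiCompact h.left := inferInstance
  haveI : CompactSpace ↥Q₁.left := compactSpace_of_quasiCompact_snd p' p h q₁ q₂ sqQ r₁ r₂ sqQ₁
  -- `P'' = B' ×_X A'`
  haveI : QuasiCompact h'.left := inferInstance
  exact compactSpace_of_quasiCompact_snd ((AlgSp.yon S).map h ≫ p) p' h' r₂ r₁ sqQ₁.flip ρ₂ ρ₁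
    sq''.flip

end Groth.Agent.Lib.T2H1.DecentQS
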