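import Mathlib
import Groth.Prelude.Def_AlgSp4
import Groth.Prelude.Def_AlgSpDec
import Groth.Agent.S10555
import Groth.Agent.S10176
import Groth.Agent.S10177
import Groth.Agent.Lib.T2H1FieldQuotL

/-! # Fibres of étale charts of decent spaces have no specializations (helper1, team 2) -/

set_option autoImplicit false
universe u
open CategoryTheory CategoryTheory.Limits AlgebraicGeometry Opposite
open AlgSp

namespace Groth.Agent.Lib.T2H1.DecentSpec

open Groth.Agent.Lib.T2H1.FieldQuot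

variable {S : Scheme.{u}}

/-- the fibre of an étale chart of a decent space over a point, inside the generizations of a
point of the chart, is finite. -/
theorem finite_generizations_fibre {X : AlgSp.Sp S} (hXa : AlgSp.IsAlgSpace X)
    (hd : AlgSp.IsDecent X) {U : Over S} (φ : (AlgSp.yon S).obj U ⟶ X)
    (hφ : AlgSp.RepWith @Etale φ) (u' : ↥U.left) (x : AlgSp.Points X) :
    {v : ↥U.left | v ⤳ u' ∧ AlgSp.Points.ofPt φ v = x}.Finite := by
  obtain ⟨_, ⟨V₀, hV', rfl⟩, hu'V₀, -⟩ := U.left.isBasis_affineOpens.exists_subset_of_mem_open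
    (Set.mem_univ u') isOpen_univ
  obtain ⟨V, hVV₀⟩ : ∃ V : U.left.Opens, V = V₀ := ⟨V₀, rfl⟩
  have hV : IsAffineOpen V := hVV₀ ▸ hV'
  have hu'V : u' ∈ V := hVV₀ ▸ hu'V₀
  let Vo : Over S := Over.mk (V.ι ≫ U.hom)
  let ιV : Vo ⟶ U := Over.homMk V.ι rfl
  haveI : IsAffine Vo.left := hV
  have hfin : (AlgSp.Points.ofPt ((AlgSp.yon S).map ιV ≫ φ) ⁻¹' {x}).Finite :=
    finite_fibre_of_decent hXa hd _
      ((AlgSp.RepWith @Etale).comp_mem _ _
        ((AlgSp.repWith_yon_map_iff @Etale ιV).2 (inferInstance : Etale V.ι)) hφ) x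
  refine (hfin.image V.ι).subset ?_
  rintro v ⟨hv, hvx⟩
  have hvV : v ∈ V := hv.mem_open V.2 hu'V
  refine ⟨⟨v, hvV⟩, ?_, rfl⟩
  show AlgSp.Points.ofPt ((AlgSp.yon S).map ιV ≫ φ) ⟨v, hvV⟩ = x
  rw [Groth.Agent.S10176.ofPt_map_comp]
  exact hvx

/-- **in a decent space, two points of an étale chart over the same point with one specializing
to the other are equal.** -/
theorem eq_of_specializes_of_ofPt_eq {X : AlgSp.Sp S} (hXa : AlgSp.IsAlgSpace X)
    (hd : AlgSp.IsDecent X) {U : Over S} (φ : (AlgSp.yon S).obj U ⟶ X)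
    (hφ : AlgSp.RepWith @Etale φ) (u u' : ↥U.left) (hs : u ⤳ u')
    (he : AlgSp.Points.ofPt φ u = AlgSp.Points.ofPt φ u') : u = u' := by
  set x := AlgSp.Points.ofPt φ u' with hx
  let G : Set ↥U.left := {v | v ⤳ u ∧ AlgSp.Points.ofPt φ v = x}
  have hGfin : G.Finite :=
    (finite_generizations_fibre hXa hd φ hφ u' x).subset (fun v hv => ⟨hv.1.trans hs, hv.2⟩)
  have hGne : G.Nonempty := ⟨u, specializes_rfl, he⟩
  obtain ⟨m, hmG, hmin⟩ := hGfin.exists_minimalFor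
    (fun m => (G ∩ {g | g ⤳ m}).ncard) G hGne
  have hmax : ∀ g ∈ G, g ⤳ m → g = m := by
    intro g hg hgm
    have hsub : G ∩ {g' | g' ⤳ g} ⊆ G ∩ {g' | g' ⤳ m} :=
      fun g' hg' => ⟨hg'.1, hg'.2.trans hgm⟩
    have hfin2 : (G ∩ {g' | g' ⤳ m}).Finite := hGfin.subset Set.inter_subset_left
    have h1 : (G ∩ {g' | g' ⤳ g}).ncard ≤ (G ∩ {g' | g' ⤳ m}).ncard :=
      Set.ncard_le_ncard hsub hfin2
    have h2 := hmin hg h1
    have h3 := Set.eq_of_subset_of_ncard_le hsub h2 hfin2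
    have h4 : m ∈ G ∩ {g' | g' ⤳ g} := by rw [h3]; exact ⟨hmG, specializes_rfl⟩
    exact (hgm.antisymm h4.2).eq
  -- the equivalence relation
  obtain ⟨R, t, pr, sq⟩ := hXa.representable_from_yon φ φ
  obtain ⟨s, rfl⟩ := (AlgSp.yon S).map_surjective pr
  haveI : Etale t.left := hφ.2 _ _ t sq
  haveI : Etale s.left := hφ.2 _ _ s sq.flip
  obtain ⟨r, hrs, hrt⟩ := Groth.Agent.S10176.exists_point_of_isPullback_yon sq u' m
    (hx.symm ▸ hmG.2.symm)
  have hmu' : m ⤳ s.left r := by rw [hrs]; exact hmG.1.trans hs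
  obtain ⟨r', hr'r, hr's⟩ := (Flat.generalizingMap (f := s.left)) hmu'
  have htr' : t.left r' ⤳ m := by rw [← hrt]; exact hr'r.map t.left.continuous
  have htr'x : AlgSp.Points.ofPt φ (t.left r') = x := by
    rw [← Groth.Agent.S10176.ofPt_map_comp, ← sq.w, Groth.Agent.S10176.ofPt_map_comp, hr's]
    exact hmG.2
  have htr'm : t.left r' = m := hmax _ ⟨htr'.trans hmG.1, htr'x⟩ htr'
  -- the fibre of `t` over `m` is discrete
  haveI : LocallyQuasiFinite t.left := Groth.Agent.S10555.lqf_of_etale t.left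
  have hdisc := t.left.isDiscrete_preimage_singleton m
  haveI : DiscreteTopology ↥(t.left ⁻¹' {m}) := hdisc.to_subtype
  have hsp : (⟨r', htr'm⟩ : ↥(t.left ⁻¹' {m})) ⤳ ⟨r, hrt⟩ :=
    (subtype_specializes_iff _ _).mpr hr'r
  have hrr' : r' = r := congrArg Subtype.val hsp.eq
  have hmu : m = u' := by rw [← hr's, hrr', hrs]
  have h5 : u' ⤳ u := hmu ▸ hmG.1
  exact (hs.antisymm h5).eq

/-- **an affine étale chart of a decent space whose space of points is Jacobson is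
Jacobson.** -/
theorem jacobsonSpace_chart {X : AlgSp.Sp S} (hXa : AlgSp.IsAlgSpace X)
    (hd : AlgSp.IsDecent X) (hJ : JacobsonSpace (AlgSp.Points X)) {V : Over S}
    [IsAffine V.left] (φ : (AlgSp.yon S).obj V ⟶ X) (hφ : AlgSp.RepWith @Etale φ) :
    JacobsonSpace ↥V.left := by
  rw [jacobsonSpace_iff_locallyClosed]
  rintro T ⟨t, ht⟩ ⟨O, C, hO, hC, rfl⟩
  have hfo : IsOpenMap (AlgSp.Points.ofPt φ) := Groth.Agent.S10176.isOpenMap_ofPt φ hφ
  have hfc : Continuous (AlgSp.Points.ofPt φ) := AlgSp.Points.continuous_ofPt φ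
  set x := AlgSp.Points.ofPt φ t with hx
  have hF : (AlgSp.Points.ofPt φ ⁻¹' {x}).Finite := finite_fibre_of_decent hXa hd φ hφ x
  -- shrink `O`
  let O' : Set ↥V.left := O ∩ ⋂ t' ∈ (AlgSp.Points.ofPt φ ⁻¹' {x}) \ {t}, (closure {t'})ᶜ
  have hO' : IsOpen O' :=
    hO.inter ((hF.subset Set.diff_subset).isOpen_biInter
      (fun t' _ => isClosed_closure.isOpen_compl))
  have htO' : t ∈ O' := by
    refine ⟨ht.1, Set.mem_iInter₂.2 (fun t' ht' htc => ?_)⟩
    have hsp : t' ⤳ t := specializes_iff_mem_closure.mpr htc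
    exact ht'.2 (eq_of_specializes_of_ofPt_eq hXa hd φ hφ t' t hsp ht'.1)
  -- a closed point of `|X|` in the image
  have hL : IsLocallyClosed (closure {x} ∩ AlgSp.Points.ofPt φ '' O') :=
    isClosed_closure.isLocallyClosed.inter (hfo _ hO').isLocallyClosed
  obtain ⟨y, ⟨hyx, v, hvO', rfl⟩, hyc⟩ := nonempty_inter_closedPoints
    (⟨x, subset_closure rfl, t, htO', rfl⟩ : (closure {x} ∩ AlgSp.Points.ofPt φ '' O').Nonempty)
    hL
  have hyc' : IsClosed ({AlgSp.Points.ofPt φ v} : Set (AlgSp.Points X)) := hyc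
  -- `v` lies in the closure of `t`
  have hv1 : v ∈ closure (AlgSp.Points.ofPt φ ⁻¹' {x}) := by
    rw [← hfo.preimage_closure_eq_closure_preimage hfc]
    exact hyx
  rw [← Set.biUnion_of_singleton (AlgSp.Points.ofPt φ ⁻¹' {x}), hF.closure_biUnion,
    Set.mem_iUnion₂] at hv1
  obtain ⟨t', ht', hvt'⟩ := hv1
  have ht't : t' = t := by
    by_contra hne
    exact (Set.mem_iInter₂.1 hvO'.2 t' ⟨ht', hne⟩) hvt'
  subst ht't
  refine ⟨v, ⟨hvO'.1, ?_⟩, ?_⟩
  · exact (hC.closure_subset_iff.2 (Set.singleton_subset_iff.2 ht.2)) hvt'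
  · show IsClosed ({v} : Set ↥V.left)
    refine isClosed_of_closure_subset (fun v₁ hv₁ => ?_)
    have hsp : v ⤳ v₁ := specializes_iff_mem_closure.mpr hv₁
    have hmem : v₁ ∈ AlgSp.Points.ofPt φ ⁻¹' {AlgSp.Points.ofPt φ v} :=
      (hyc'.preimage hfc).closure_subset_iff.2 (Set.singleton_subset_iff.2 rfl) hv₁
    exact (eq_of_specializes_of_ofPt_eq hXa hd φ hφ v v₁ hsp hmem.symm).symm

end Groth.Agent.Lib.T2H1.DecentSpec
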