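import Mathlib
import Groth.Agent.Lib.T2H1DecentSpec

/-! # Generizations lift along étale charts of decent spaces; the space of points of a decent
space is Kolmogorov (helper1, team 2) -/

set_option autoImplicit false
universe u
open CategoryTheory CategoryTheory.Limits AlgebraicGeometry Opposite
open AlgSp

namespace Groth.Agent.Lib.T2H1.DecentSpec

open Groth.Agent.Lib.T2H1.FieldQuot

variable {S : Scheme.{u}}

/-- **generizations lift along étale charts of decent spaces.** -/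
theorem exists_generization_lift {X : AlgSp.Sp S} (hXa : AlgSp.IsAlgSpace X)
    (hd : AlgSp.IsDecent X) {U : Over S} (φ : (AlgSp.yon S).obj U ⟶ X)
    (hφ : AlgSp.RepWith @Etale φ) (u : ↥U.left) (x' : AlgSp.Points X)
    (h : x' ⤳ AlgSp.Points.ofPt φ u) : ∃ u' : ↥U.left, u' ⤳ u ∧ AlgSp.Points.ofPt φ u' = x' := by
  obtain ⟨_, ⟨V₀, hV', rfl⟩, huV₀, -⟩ := U.left.isBasis_affineOpens.exists_subset_of_mem_open
    (Set.mem_univ u) isOpen_univ
  obtain ⟨V, hVV₀⟩ : ∃ V : U.left.Opens, V = V₀ := ⟨V₀, rfl⟩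
  have hV : IsAffineOpen V := hVV₀ ▸ hV'
  have huV : u ∈ V := hVV₀ ▸ huV₀
  let Vo : Over S := Over.mk (V.ι ≫ U.hom)
  let ιV : Vo ⟶ U := Over.homMk V.ι rfl
  haveI : IsAffine Vo.left := hV
  have hψ : AlgSp.RepWith @Etale ((AlgSp.yon S).map ιV ≫ φ) :=
    (AlgSp.RepWith @Etale).comp_mem _ _
      ((AlgSp.repWith_yon_map_iff @Etale ιV).2 (inferInstance : Etale V.ι)) hφ
  have hfin : (AlgSp.Points.ofPt ((AlgSp.yon S).map ιV ≫ φ) ⁻¹' {x'}).Finite :=
    finite_fibre_of_decent hXa hd _ hψ x'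
  have hfo : IsOpenMap (AlgSp.Points.ofPt ((AlgSp.yon S).map ιV ≫ φ)) :=
    Groth.Agent.S10176.isOpenMap_ofPt _ hψ
  have hfc : Continuous (AlgSp.Points.ofPt ((AlgSp.yon S).map ιV ≫ φ)) :=
    AlgSp.Points.continuous_ofPt _
  have hu0 : AlgSp.Points.ofPt ((AlgSp.yon S).map ιV ≫ φ) (⟨u, huV⟩ : ↥Vo.left) =
      AlgSp.Points.ofPt φ u := Groth.Agent.S10176.ofPt_map_comp ιV φ _
  have h1 : (⟨u, huV⟩ : ↥Vo.left) ∈
      closure (AlgSp.Points.ofPt ((AlgSp.yon S).map ιV ≫ φ) ⁻¹' {x'}) := by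
    rw [← hfo.preimage_closure_eq_closure_preimage hfc]
    show AlgSp.Points.ofPt ((AlgSp.yon S).map ιV ≫ φ) (⟨u, huV⟩ : ↥Vo.left) ∈ closure {x'}
    rw [hu0]
    exact specializes_iff_mem_closure.mp h
  rw [← Set.biUnion_of_singleton (AlgSp.Points.ofPt ((AlgSp.yon S).map ιV ≫ φ) ⁻¹' {x'}),
    hfin.closure_biUnion] at h1
  obtain ⟨t, ht, hut⟩ := Set.mem_iUnion₂.1 h1
  have hsp : t ⤳ (⟨u, huV⟩ : ↥Vo.left) := specializes_iff_mem_closure.mpr hut
  refine ⟨V.ι t, hsp.map V.ι.continuous, ?_⟩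
  exact (Groth.Agent.S10176.ofPt_map_comp ιV φ t).symm.trans ht

/-- the space of points of a decent algebraic space is Kolmogorov. -/
theorem eq_of_specializes_of_specializes {X : AlgSp.Sp S} (hXa : AlgSp.IsAlgSpace X)
    (hd : AlgSp.IsDecent X) (x y : AlgSp.Points X) (h₁ : x ⤳ y) (h₂ : y ⤳ x) : x = y := by
  obtain ⟨U, p, hpe, hps⟩ := hXa.atlas
  obtain ⟨u, rfl⟩ := Groth.Agent.S10177.surjective_ofPt p hps x
  obtain ⟨uy, huy, rfl⟩ := exists_generization_lift hXa hd p hpe u y h₂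
  obtain ⟨ux, hux, hx⟩ := exists_generization_lift hXa hd p hpe uy _ h₁
  have h3 : ux = u := eq_of_specializes_of_ofPt_eq hXa hd p hpe ux u (hux.trans huy) hx
  rw [h3] at hux
  rw [(hux.antisymm huy).eq]

end Groth.Agent.Lib.T2H1.DecentSpec
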