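import Mathlib
import Groth.Agent.Lib.T2H1FieldQuotL
import Groth.Agent.Lib.Helper12OpenSub2
import Groth.Agent.S10194

/-!
# Decency is Zariski local on the space (helper1)
-/

set_option autoImplicit false
universe u
open CategoryTheory CategoryTheory.Limits AlgebraicGeometry Opposite
open AlgSp

namespace Groth.Agent.Lib.T2H1.DecentZar

open Groth.Agent.S13210 Groth.Agent.Lib.T2H1.FieldQuot

variable {S : Scheme.{u}}

/-- an affine étale chart of `X` landing in a decent open subspace has finite fibres. -/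
theorem finite_fibre_of_open {X X' : AlgSp.Sp S} (hX' : AlgSp.IsAlgSpace X')
    (hd : AlgSp.IsDecent X') (j : X' ⟶ X) (hj : AlgSp.RepWith @IsOpenImmersion j)
    {N : Over S} [IsAffine N.left] (ψ : (AlgSp.yon S).obj N ⟶ X) (hψ : AlgSp.RepWith @Etale ψ)
    (hr : ∀ n : ↥N.left, AlgSp.Points.ofPt ψ n ∈ Set.range (AlgSp.Points.map j))
    (x : AlgSp.Points X) : (AlgSp.Points.ofPt ψ ⁻¹' {x}).Finite := by
  haveI : Mono j := Groth.Agent.Lib.Helper12.LargestOpen.mono_of_open j hj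
  have hsub : Set.range (AlgSp.Points.map ψ) ⊆ Set.range (AlgSp.Points.map j) := by
    rintro _ ⟨y, rfl⟩
    obtain ⟨n, rfl⟩ := (AlgSp.Points.schemeEquiv N).surjective y
    have := hr n
    rwa [AlgSp.Points.ofPt_eq_map_ofScheme] at this
  obtain ⟨φN, hφN1⟩ := (Groth.Agent.S10194.exists_factor_iff j hj ψ).2 hsub
  have hφN : AlgSp.RepWith @Etale φN := by
    refine Groth.Agent.Lib.T2H1.QOpenSch.repWith_of_comp_mono @Etale φN j ?_
    rw [hφN1]; exact hψ
  have hinj := Groth.Agent.Lib.Helper12.LargestOpen.injective_map_of_open j hj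
  have hkey : ∀ n : ↥N.left, AlgSp.Points.ofPt ψ n =
      AlgSp.Points.map j (AlgSp.Points.ofPt φN n) := by
    intro n
    rw [AlgSp.Points.map_ofPt, hφN1]
  by_cases hx : ∃ y, AlgSp.Points.map j y = x
  · obtain ⟨y, hy⟩ := hx
    have hfin := finite_fibre_of_decent hX' hd φN hφN y
    refine hfin.subset ?_
    intro n hn
    show AlgSp.Points.ofPt φN n = y
    apply hinj
    rw [← hkey, hy]
    exact hn
  · convert Set.finite_empty
    rw [Set.eq_empty_iff_forall_notMem]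
    intro n hn
    refine hx ⟨AlgSp.Points.ofPt φN n, ?_⟩
    rw [← hkey]
    exact hn

/-- **decency is Zariski local**: an algebraic space covered by decent open subspaces is
decent. -/
theorem isDecent_of_open_cover {X : AlgSp.Sp S} (hXa : AlgSp.IsAlgSpace X) {ι : Type*}
    (Xi : ι → AlgSp.Sp S) (hXi : ∀ i, AlgSp.IsAlgSpace (Xi i)) (j : ∀ i, Xi i ⟶ X)
    (hj : ∀ i, AlgSp.RepWith @IsOpenImmersion (j i))
    (hcov : ∀ x : AlgSp.Points X, ∃ i, x ∈ Set.range (AlgSp.Points.map (j i)))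
    (hd : ∀ i, AlgSp.IsDecent (Xi i)) : AlgSp.IsDecent X := by
  intro x
  obtain ⟨i, xi, rfl⟩ := hcov x
  obtain ⟨p, rfl, hpm, -⟩ := hd i xi
  haveI hjm : Mono (j i) := Groth.Agent.Lib.Helper12.LargestOpen.mono_of_open _ (hj i)
  haveI : Mono (p.map (j i)).toHom := by
    rw [AlgSp.FieldPt.toHom_map]
    exact @mono_comp _ _ _ _ _ _ hpm _ hjm
  refine ⟨p.map (j i), rfl, inferInstance, ?_⟩
  refine repWith_quasiCompact_of_finite_fibres hXa _ (fun U φ hU hφ => ?_)
  haveI := hU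
  haveI : CompactSpace ↥U.left := inferInstance
  have hch : ∀ u : ↥U.left, ∃ (k : ι) (N : U.left.Opens), IsAffineOpen N ∧ u ∈ N ∧
      (N : Set ↥U.left) ⊆ AlgSp.Points.ofPt φ ⁻¹' Set.range (AlgSp.Points.map (j k)) := by
    intro u
    obtain ⟨k, hk⟩ := hcov (AlgSp.Points.ofPt φ u)
    have hop : IsOpen (AlgSp.Points.ofPt φ ⁻¹' Set.range (AlgSp.Points.map (j k))) :=
      (Groth.Agent.Lib.Helper12.OpenSub.isOpen_range_of_open (j k) (hj k)).preimage
        (AlgSp.Points.continuous_ofPt φ)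
    obtain ⟨_, ⟨N, hN, rfl⟩, hmemN, hNle⟩ := U.left.isBasis_affineOpens.exists_subset_of_mem_open
      (show u ∈ AlgSp.Points.ofPt φ ⁻¹' Set.range (AlgSp.Points.map (j k)) from hk) hop
    exact ⟨k, N, hN, hmemN, hNle⟩
  choose k N hN hmemN hNle using hch
  obtain ⟨J, hJ⟩ := isCompact_univ.elim_finite_subcover (fun u => (N u : Set ↥U.left))
    (fun u => (N u).2) (fun u _ => Set.mem_iUnion.2 ⟨u, hmemN u⟩)
  have hpiece : ∀ u, ((N u : Set ↥U.left) ∩ AlgSp.Points.ofPt φ ⁻¹'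
      {AlgSp.Points.mk (p.map (j i))}).Finite := by
    intro u
    let Nj : Over S := Over.mk ((N u).ι ≫ U.hom)
    let ιN : Nj ⟶ U := Over.homMk (N u).ι rfl
    haveI : IsAffine Nj.left := hN u
    have hψ : AlgSp.RepWith @Etale ((AlgSp.yon S).map ιN ≫ φ) := by
      refine MorphismProperty.comp_mem _ _ _ ((AlgSp.repWith_yon_map_iff _ _).2 ?_) hφ
      exact (inferInstance : Etale (N u).ι)
    have hkey : ∀ n' : ↥Nj.left, AlgSp.Points.ofPt ((AlgSp.yon S).map ιN ≫ φ) n' =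
        AlgSp.Points.ofPt φ (ιN.left n') := fun n' => Groth.Agent.S10176.ofPt_map_comp _ _ _
    have hfin := finite_fibre_of_open (hXi (k u)) (hd (k u)) (j (k u)) (hj (k u))
      ((AlgSp.yon S).map ιN ≫ φ) hψ (fun n' => by
        rw [hkey]; exact hNle u n'.2) (AlgSp.Points.mk (p.map (j i)))
    refine (hfin.image ιN.left).subset ?_
    rintro n ⟨hnN, hn⟩
    refine ⟨(⟨n, hnN⟩ : ↥(N u)), ?_, rfl⟩
    show AlgSp.Points.ofPt ((AlgSp.yon S).map ιN ≫ φ) (⟨n, hnN⟩ : ↥(N u)) = _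
    rw [hkey]
    exact hn
  refine (J.finite_toSet.biUnion (fun u _ => hpiece u)).subset ?_
  intro n hn
  have := hJ (Set.mem_univ n)
  simp only [Set.mem_iUnion] at this ⊢
  obtain ⟨u, huJ, hnu⟩ := this
  exact ⟨u, huJ, hnu, hn⟩

end Groth.Agent.Lib.T2H1.DecentZar
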