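import Mathlib
import Groth.Agent.Lib.T2H1ChartBC

/-!
# Towers of chart diagrams for a composable pair of morphisms (helper1, team 2)
-/

set_option autoImplicit false
universe u
open CategoryTheory CategoryTheory.Limits AlgebraicGeometry
open AlgSp

namespace Groth.Agent.Lib.T2H1.Tower

variable {S : Scheme.{u}}

/-- a chart of `f` through a point, over a given etale chart of the target. -/
lemma exists_chart_over {X Y : AlgSp.Sp S} (hX : AlgSp.IsAlgSpace X) (hY : AlgSp.IsAlgSpace Y)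
    (f : X ⟶ Y) (x : AlgSp.Points X) {V : Over S} (b : (AlgSp.yon S).obj V ⟶ Y)
    (hb : AlgSp.RepWith @Etale b) (v : ↥V.left)
    (hv : AlgSp.Points.ofPt b v = AlgSp.Points.map f x) :
    ∃ (U : Over S) (a : (AlgSp.yon S).obj U ⟶ X) (h : U ⟶ V) (u : ↥U.left),
      AlgSp.RepWith @Etale a ∧ a ≫ f = (AlgSp.yon S).map h ≫ b ∧ AlgSp.Points.ofPt a u = x ∧
        h.left u = v := by
  have sqP := IsPullback.of_hasPullback f b
  have hP : AlgSp.IsAlgSpace (pullback f b) :=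
    Groth.Agent.S9874.isAlgSpace_of_isPullback hY.diag hX (AlgSp.IsAlgSpace.yon_obj V) sqP
  have hfst : AlgSp.RepWith @Etale (pullback.fst f b) :=
    MorphismProperty.of_isPullback (P := AlgSp.RepWith @Etale) sqP.flip hb
  obtain ⟨p, hp1, hp2⟩ := Groth.Agent.S10175.exists_point_of_isPullback sqP.flip
    (AlgSp.Points.ofScheme V v) x (by rw [← AlgSp.Points.ofPt_eq_map_ofScheme]; exact hv)
  obtain ⟨U, a₀, hae, has⟩ := hP.atlas
  obtain ⟨u, hu⟩ := Groth.Agent.S10177.surjective_ofPt a₀ has p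
  obtain ⟨h, hh⟩ := (AlgSp.yon S).map_surjective (a₀ ≫ pullback.snd f b)
  refine ⟨U, a₀ ≫ pullback.fst f b, h, u, (AlgSp.RepWith @Etale).comp_mem _ _ hae hfst, ?_, ?_, ?_⟩
  · rw [Category.assoc, pullback.condition, ← Category.assoc, hh]
  · rw [← AlgSp.Points.map_ofPt, hu, hp2]
  · have h1 : AlgSp.Points.map ((AlgSp.yon S).map h) (AlgSp.Points.schemeHomeo U u) =
        AlgSp.Points.ofScheme V v := by
      rw [hh, AlgSp.Points.map_comp]
      change AlgSp.Points.map _ (AlgSp.Points.map a₀ (AlgSp.Points.ofScheme U u)) = _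
      rw [← AlgSp.Points.ofPt_eq_map_ofScheme, hu, hp1]
    rw [AlgSp.Points.map_yon_map_apply] at h1
    exact (AlgSp.Points.schemeHomeo V).injective h1

/-- a tower of chart diagrams through a point, with affine bottom chart. -/
theorem exists_tower {X Y Z : AlgSp.Sp S} (hX : AlgSp.IsAlgSpace X) (hY : AlgSp.IsAlgSpace Y)
    (hZ : AlgSp.IsAlgSpace Z) (f : X ⟶ Y) (g : Y ⟶ Z) (x : AlgSp.Points X) :
    ∃ (U V W : Over S) (a : (AlgSp.yon S).obj U ⟶ X) (b : (AlgSp.yon S).obj V ⟶ Y)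
      (c : (AlgSp.yon S).obj W ⟶ Z) (h : U ⟶ V) (k : V ⟶ W) (u : ↥U.left),
      AlgSp.RepWith @Etale a ∧ AlgSp.RepWith @Etale b ∧ AlgSp.RepWith @Etale c ∧
      a ≫ f = (AlgSp.yon S).map h ≫ b ∧ b ≫ g = (AlgSp.yon S).map k ≫ c ∧
      AlgSp.Points.ofPt a u = x ∧ IsAffine W.left := by
  obtain ⟨V, W, b, c, k, v, hb, hc, hbc, hv⟩ :=
    Groth.Agent.Lib.Helper12.LocPNbhd.exists_chart hY hZ g (AlgSp.Points.map f x)
  -- shrink to an affine open of `W`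
  obtain ⟨_, ⟨(W₀ : W.left.Opens), hW₀, rfl⟩, hkW₀, -⟩ :=
    W.left.isBasis_affineOpens.exists_subset_of_mem_open (Set.mem_univ (k.left v)) isOpen_univ
  let Wo : Over S := Over.mk (W₀.ι ≫ W.hom)
  let ιW : Wo ⟶ W := Over.homMk W₀.ι rfl
  let Vo : Over S := Over.mk ((k.left ⁻¹ᵁ W₀).ι ≫ V.hom)
  let ιV : Vo ⟶ V := Over.homMk (k.left ⁻¹ᵁ W₀).ι rfl
  let k₀ : Vo ⟶ Wo := Over.homMk (k.left ∣_ W₀) (by
    change (k.left ∣_ W₀) ≫ W₀.ι ≫ W.hom = (k.left ⁻¹ᵁ W₀).ι ≫ V.hom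
    rw [← Category.assoc, morphismRestrict_ι, Category.assoc, Over.w k])
  have hk₀ : k₀ ≫ ιW = ιV ≫ k := by
    apply Over.OverMorphism.ext
    change (k.left ∣_ W₀) ≫ W₀.ι = (k.left ⁻¹ᵁ W₀).ι ≫ k.left
    exact morphismRestrict_ι _ _
  have hιW : AlgSp.RepWith @Etale ((AlgSp.yon S).map ιW) :=
    (AlgSp.repWith_yon_map_iff _ _).2 (inferInstance : Etale W₀.ι)
  have hιV : AlgSp.RepWith @Etale ((AlgSp.yon S).map ιV) :=
    (AlgSp.repWith_yon_map_iff _ _).2 (inferInstance : Etale (k.left ⁻¹ᵁ W₀).ι)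
  have hb₀ : AlgSp.RepWith @Etale ((AlgSp.yon S).map ιV ≫ b) :=
    (AlgSp.RepWith @Etale).comp_mem _ _ hιV hb
  have hc₀ : AlgSp.RepWith @Etale ((AlgSp.yon S).map ιW ≫ c) :=
    (AlgSp.RepWith @Etale).comp_mem _ _ hιW hc
  have hv₀ : AlgSp.Points.ofPt ((AlgSp.yon S).map ιV ≫ b)
      (⟨v, hkW₀⟩ : ↥(k.left ⁻¹ᵁ W₀)) = AlgSp.Points.map f x := by
    rw [Groth.Agent.S10176.ofPt_map_comp]
    exact hv
  obtain ⟨U, a, h, u, ha, hac, hu, -⟩ :=
    exists_chart_over hX hY f x ((AlgSp.yon S).map ιV ≫ b) hb₀ (⟨v, hkW₀⟩ : ↥(k.left ⁻¹ᵁ W₀)) hv₀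
  refine ⟨U, Vo, Wo, a, (AlgSp.yon S).map ιV ≫ b, (AlgSp.yon S).map ιW ≫ c, h, k₀, u, ha, hb₀, hc₀,
    hac, ?_, hu, hW₀⟩
  rw [Category.assoc, hbc, ← Category.assoc, ← Functor.map_comp, ← hk₀, Functor.map_comp,
    Category.assoc]

end Groth.Agent.Lib.T2H1.Tower
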