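import Mathlib
import Groth.Agent.Lib.T2H1Tower
import Groth.Agent.Lib.Helper1Thick
import Groth.Prelude.Def_AlgSpInf

/-!
# Chart diagrams of morphisms of thickenings of algebraic spaces (helper1, team 2)
-/

set_option autoImplicit false
universe u
open CategoryTheory CategoryTheory.Limits AlgebraicGeometry
open AlgSp

namespace Groth.Agent.Lib.T2H1.Deform

variable {S : Scheme.{u}}

/-- the chart-level cartesian square of a cartesian morphism of thickenings, for given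
represented restrictions of the charts. -/
lemma chart_square {X X' Y Y' : AlgSp.Sp S} {i : X ⟶ X'} {j : Y ⟶ Y'} {f : X ⟶ Y} {f' : X' ⟶ Y'}
    (hcart : IsPullback i f f' j)
    {U' V' U V : Over S} {a' : (yon S).obj U' ⟶ X'} {b' : (yon S).obj V' ⟶ Y'} {h' : U' ⟶ V'}
    (comm : a' ≫ f' = (yon S).map h' ≫ b')
    {a : (yon S).obj U ⟶ X} {u : U ⟶ U'} (sqU : IsPullback a ((yon S).map u) i a')
    {b : (yon S).obj V ⟶ Y} {v : V ⟶ V'} (sqV : IsPullback b ((yon S).map v) j b') :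
    ∃ h : U ⟶ V, a ≫ f = (yon S).map h ≫ b ∧ IsPullback u h h' v := by
  have houter : IsPullback (a ≫ f) ((yon S).map u) j (a' ≫ f') := sqU.paste_horiz hcart.flip
  rw [comm] at houter
  have hw : (a ≫ f) ≫ j = ((yon S).map (u ≫ h')) ≫ b' := by
    rw [houter.w, Functor.map_comp, Category.assoc]
  obtain ⟨h, hh⟩ := (yon S).map_surjective (sqV.lift _ _ hw)
  have h1 : (yon S).map h ≫ b = a ≫ f := by
    rw [hh]; exact sqV.lift_fst _ _ _
  have h2 : (yon S).map h ≫ (yon S).map v = (yon S).map (u ≫ h') := by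
    rw [hh]; exact sqV.lift_snd _ _ _
  rw [← h1] at houter
  have sqL : IsPullback ((yon S).map h) ((yon S).map u) ((yon S).map v) ((yon S).map h') :=
    IsPullback.of_right houter (by rw [h2, Functor.map_comp]) sqV
  have sqO : IsPullback h u v h' :=
    IsPullback.of_map (AlgSp.yon S) (by
      apply (AlgSp.yon S).map_injective
      rw [Functor.map_comp, Functor.map_comp]
      exact sqL.w) sqL
  exact ⟨h, h1.symm, sqO.flip⟩

/-- the data of a deformation situation: `X = X' ×_{B'} B`, `Y = Y' ×_{B'} B`. -/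
structure Data {X X' Y Y' B B' : AlgSp.Sp S} (iX : X ⟶ X') (iY : Y ⟶ Y') (iB : B ⟶ B')
    (f : X ⟶ Y) (f' : X' ⟶ Y') (g : Y ⟶ B) (g' : Y' ⟶ B') : Prop where
  hcX : IsPullback iX (f ≫ g) (f' ≫ g') iB
  hcY : IsPullback iY g g' iB
  w : iX ≫ f' = f ≫ iY
  hB : AlgSp.IsThickMor iB

namespace Data

variable {X X' Y Y' B B' : AlgSp.Sp S} {iX : X ⟶ X'} {iY : Y ⟶ Y'} {iB : B ⟶ B'}
  {f : X ⟶ Y} {f' : X' ⟶ Y'} {g : Y ⟶ B} {g' : Y' ⟶ B'}

lemma hcXY (D : Data iX iY iB f f' g g') : IsPullback iX f f' iY :=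
  IsPullback.of_bot D.hcX D.w D.hcY

lemma thickY (D : Data iX iY iB f f' g g') : AlgSp.IsThickMor iY :=
  MorphismProperty.of_isPullback (P := AlgSp.RepWith AlgSp.thick) D.hcY.flip D.hB

lemma thickX (D : Data iX iY iB f f' g g') : AlgSp.IsThickMor iX :=
  MorphismProperty.of_isPullback (P := AlgSp.RepWith AlgSp.thick) D.hcXY.flip D.thickY

/-- restriction of a tower of chart diagrams of `(f', g')` to a tower of chart diagrams of
`(f, g)`, with all the chart-level cartesian squares. -/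
theorem exists_restricted_tower (D : Data iX iY iB f f' g g')
    {U' V' W' : Over S} (a' : (yon S).obj U' ⟶ X') (b' : (yon S).obj V' ⟶ Y')
    (c' : (yon S).obj W' ⟶ B') (h' : U' ⟶ V') (k' : V' ⟶ W')
    (ha' : RepWith @Etale a') (hb' : RepWith @Etale b') (hc' : RepWith @Etale c')
    (hab : a' ≫ f' = (yon S).map h' ≫ b') (hbc : b' ≫ g' = (yon S).map k' ≫ c') :
    ∃ (U V W : Over S) (u₀ : U ⟶ U') (v₀ : V ⟶ V') (w₀ : W ⟶ W') (h : U ⟶ V) (k : V ⟶ W)
      (a : (yon S).obj U ⟶ X) (b : (yon S).obj V ⟶ Y) (c : (yon S).obj W ⟶ B),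
      RepWith @Etale a ∧ RepWith @Etale b ∧ RepWith @Etale c ∧
      a ≫ f = (yon S).map h ≫ b ∧ b ≫ g = (yon S).map k ≫ c ∧
      IsPullback u₀.left h.left h'.left v₀.left ∧ IsPullback v₀.left k.left k'.left w₀.left ∧
      IsPullback u₀.left (h.left ≫ k.left) (h'.left ≫ k'.left) w₀.left ∧
      IsPullback a ((yon S).map u₀) iX a' ∧ IsPullback b ((yon S).map v₀) iY b' ∧
      IsPullback c ((yon S).map w₀) iB c' := by
  have sqW := D.hB.rep.isPullback c'
  have sqV := D.thickY.rep.isPullback b'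
  have sqU := D.thickX.rep.isPullback a'
  have hc : RepWith @Etale (D.hB.rep.fst c') :=
    MorphismProperty.of_isPullback (P := RepWith @Etale) sqW.flip hc'
  have hb : RepWith @Etale (D.thickY.rep.fst b') :=
    MorphismProperty.of_isPullback (P := RepWith @Etale) sqV.flip hb'
  have ha : RepWith @Etale (D.thickX.rep.fst a') :=
    MorphismProperty.of_isPullback (P := RepWith @Etale) sqU.flip ha'
  obtain ⟨k, hk1, hk2⟩ := chart_square D.hcY hbc sqV sqW
  obtain ⟨h, hh1, hh2⟩ := chart_square D.hcXY hab sqU sqV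
  have s1 := hh2.map (Over.forget S)
  have s2 := hk2.map (Over.forget S)
  exact ⟨_, _, _, D.thickX.rep.snd a', D.thickY.rep.snd b', D.hB.rep.snd c', h, k, _, _, _,
    ha, hb, hc, hh1, hk1, s1, s2, s1.paste_vert s2, sqU, sqV, sqW⟩

end Data

/-- a tower of chart diagrams of `(f', g')` with affine bottom chart, together with its
restriction to a tower of chart diagrams of `(f, g)`. -/
structure RTower {X X' Y Y' B B' : AlgSp.Sp S} (iX : X ⟶ X') (iY : Y ⟶ Y') (iB : B ⟶ B')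
    (f : X ⟶ Y) (f' : X' ⟶ Y') (g : Y ⟶ B) (g' : Y' ⟶ B') where
  U' : Over S
  V' : Over S
  W' : Over S
  U : Over S
  V : Over S
  W : Over S
  a' : (yon S).obj U' ⟶ X'
  b' : (yon S).obj V' ⟶ Y'
  c' : (yon S).obj W' ⟶ B'
  h' : U' ⟶ V'
  k' : V' ⟶ W'
  a : (yon S).obj U ⟶ X
  b : (yon S).obj V ⟶ Y
  c : (yon S).obj W ⟶ B
  h : U ⟶ V
  k : V ⟶ W
  u₀ : U ⟶ U'
  v₀ : V ⟶ V'
  w₀ : W ⟶ W'
  ha' : RepWith @Etale a'
  hb' : RepWith @Etale b'
  hc' : RepWith @Etale c'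
  ha : RepWith @Etale a
  hb : RepWith @Etale b
  hc : RepWith @Etale c
  hab' : a' ≫ f' = (yon S).map h' ≫ b'
  hbc' : b' ≫ g' = (yon S).map k' ≫ c'
  hab : a ≫ f = (yon S).map h ≫ b
  hbc : b ≫ g = (yon S).map k ≫ c
  sqh : IsPullback u₀.left h.left h'.left v₀.left
  sqk : IsPullback v₀.left k.left k'.left w₀.left
  sqhk : IsPullback u₀.left (h.left ≫ k.left) (h'.left ≫ k'.left) w₀.left
  sqU : IsPullback a ((yon S).map u₀) iX a'
  sqV : IsPullback b ((yon S).map v₀) iY b'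
  sqW : IsPullback c ((yon S).map w₀) iB c'
  affW : IsAffine W'.left

namespace RTower

variable {X X' Y Y' B B' : AlgSp.Sp S} {iX : X ⟶ X'} {iY : Y ⟶ Y'} {iB : B ⟶ B'}
  {f : X ⟶ Y} {f' : X' ⟶ Y'} {g : Y ⟶ B} {g' : Y' ⟶ B'}

lemma chart_comp' (T : RTower iX iY iB f f' g g') :
    T.a' ≫ (f' ≫ g') = (yon S).map (T.h' ≫ T.k') ≫ T.c' := by
  rw [← Category.assoc, T.hab', Category.assoc, T.hbc', Functor.map_comp, Category.assoc]

lemma chart_comp (T : RTower iX iY iB f f' g g') :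
    T.a ≫ (f ≫ g) = (yon S).map (T.h ≫ T.k) ≫ T.c := by
  rw [← Category.assoc, T.hab, Category.assoc, T.hbc, Functor.map_comp, Category.assoc]

lemma thick_w (T : RTower iX iY iB f f' g g') (hB : AlgSp.IsThickMor iB) :
    MoreMor.IsThickening T.w₀.left := hB.2 _ _ _ T.sqW

lemma thick_v (T : RTower iX iY iB f f' g g') (hB : AlgSp.IsThickMor iB) :
    MoreMor.IsThickening T.v₀.left :=
  ⟨MorphismProperty.of_isPullback (P := @IsClosedImmersion) T.sqk.flip (T.thick_w hB).1,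
    MorphismProperty.of_isPullback (P := @Surjective) T.sqk.flip (T.thick_w hB).2⟩

lemma thick_u (T : RTower iX iY iB f f' g g') (hB : AlgSp.IsThickMor iB) :
    MoreMor.IsThickening T.u₀.left :=
  ⟨MorphismProperty.of_isPullback (P := @IsClosedImmersion) T.sqh.flip (T.thick_v hB).1,
    MorphismProperty.of_isPullback (P := @Surjective) T.sqh.flip (T.thick_v hB).2⟩

lemma finOrder_w (T : RTower iX iY iB f f' g g') (hB : AlgSp.IsFinThickMor iB) :
    MoreMor.IsFiniteOrderThickening T.w₀.left := by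
  obtain ⟨n, hn1, hn2⟩ := hB
  refine ⟨T.thick_w hn1, n + 1, ?_⟩
  exact hn2 T.c' T.c T.w₀ T.affW T.hc' T.sqW

end RTower

namespace Data

variable {X X' Y Y' B B' : AlgSp.Sp S} {iX : X ⟶ X'} {iY : Y ⟶ Y'} {iB : B ⟶ B'}
  {f : X ⟶ Y} {f' : X' ⟶ Y'} {g : Y ⟶ B} {g' : Y' ⟶ B'}

/-- a restricted tower through every point of `X'`. -/
theorem exists_rtower (D : Data iX iY iB f f' g g') (hX' : AlgSp.IsAlgSpace X')
    (hY' : AlgSp.IsAlgSpace Y') (hB' : AlgSp.IsAlgSpace B') (x' : AlgSp.Points X') :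
    ∃ (T : RTower iX iY iB f f' g g') (u' : ↥T.U'.left), AlgSp.Points.ofPt T.a' u' = x' := by
  obtain ⟨U', V', W', a', b', c', h', k', u', ha', hb', hc', hab', hbc', hu', hW'⟩ :=
    Groth.Agent.Lib.T2H1.Tower.exists_tower hX' hY' hB' f' g' x'
  obtain ⟨U, V, W, u₀, v₀, w₀, h, k, a, b, c, ha, hb, hc, hab, hbc, s1, s2, s3, sqU, sqV, sqW⟩ :=
    D.exists_restricted_tower a' b' c' h' k' ha' hb' hc' hab' hbc'
  exact ⟨⟨U', V', W', U, V, W, a', b', c', h', k', a, b, c, h, k, u₀, v₀, w₀, ha', hb', hc', ha, hb,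
    hc, hab', hbc', hab, hbc, s1, s2, s3, sqU, sqV, sqW, hW'⟩, u', hu'⟩

open Groth.Agent.Lib.Helper12.LocPCases in
/-- transfer of a class of morphisms etale local on source and target from `f` to `f'`, given
the transfer on restricted towers. -/
theorem locP_of_rtower {P : MorphismProperty Scheme.{u}} (hP : Good P) [IsZariskiLocalAtSource P]
    (D : Data iX iY iB f f' g g') (hX' : AlgSp.IsAlgSpace X')
    (hY' : AlgSp.IsAlgSpace Y') (hB' : AlgSp.IsAlgSpace B')
    (key : ∀ T : RTower iX iY iB f f' g g', P T.h.left → P T.h'.left)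
    (hf : AlgSp.LocP P f) : AlgSp.LocP P f' := by
  haveI := hP.comp
  rw [Groth.Agent.Lib.Helper12.LocPNbhd.locP_iff_forall_hasAtMor hP hX' hY']
  intro x'
  obtain ⟨T, u', hu'⟩ := D.exists_rtower hX' hY' hB' x'
  refine ⟨T.U', T.V', T.a', T.b', T.h', u', T.ha', T.hb', T.hab', hu', ⊤, trivial, ?_⟩
  exact P.comp_mem _ _ (hP.hEt _ inferInstance) (key T (hf T.a T.b T.h T.ha T.hb T.hab))

end Data

end Groth.Agent.Lib.T2H1.Deform
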