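import Mathlib
import Groth.Agent.Lib.T2H1Tower

/-!
# Towers of chart diagrams over a given chart diagram of the second morphism (helper1, team 2)
-/

set_option autoImplicit false
universe u
open CategoryTheory CategoryTheory.Limits AlgebraicGeometry
open AlgSp

namespace Groth.Agent.Lib.T2H1.Tower

variable {S : Scheme.{u}}

/-- a tower of chart diagrams through a point, with affine bottom chart, whose lower part is an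
open part of a given chart diagram of the second morphism. -/
theorem exists_tower_over {X Y Z : AlgSp.Sp S} (hX : AlgSp.IsAlgSpace X) (hY : AlgSp.IsAlgSpace Y)
    (f : X ⟶ Y) (g : Y ⟶ Z) (x : AlgSp.Points X)
    {V₁ W₁ : Over S} (b₁ : (AlgSp.yon S).obj V₁ ⟶ Y) (c₁ : (AlgSp.yon S).obj W₁ ⟶ Z) (k₁ : V₁ ⟶ W₁)
    (hb₁ : AlgSp.RepWith @Etale b₁) (hc₁ : AlgSp.RepWith @Etale c₁)
    (hbc : b₁ ≫ g = (AlgSp.yon S).map k₁ ≫ c₁) (v₁ : ↥V₁.left)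
    (hv₁ : AlgSp.Points.ofPt b₁ v₁ = AlgSp.Points.map f x) :
    ∃ (U V W : Over S) (ιV : V ⟶ V₁) (ιW : W ⟶ W₁) (a : (AlgSp.yon S).obj U ⟶ X)
      (h : U ⟶ V) (k : V ⟶ W) (u : ↥U.left),
      IsOpenImmersion ιV.left ∧ IsOpenImmersion ιW.left ∧ k ≫ ιW = ιV ≫ k₁ ∧
      AlgSp.RepWith @Etale a ∧ AlgSp.RepWith @Etale ((AlgSp.yon S).map ιV ≫ b₁) ∧
      AlgSp.RepWith @Etale ((AlgSp.yon S).map ιW ≫ c₁) ∧
      a ≫ f = (AlgSp.yon S).map h ≫ ((AlgSp.yon S).map ιV ≫ b₁) ∧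
      ((AlgSp.yon S).map ιV ≫ b₁) ≫ g = (AlgSp.yon S).map k ≫ ((AlgSp.yon S).map ιW ≫ c₁) ∧
      AlgSp.Points.ofPt a u = x ∧ ιV.left (h.left u) = v₁ ∧ IsAffine W.left := by
  obtain ⟨_, ⟨(W₀ : W₁.left.Opens), hW₀, rfl⟩, hkW₀, -⟩ :=
    W₁.left.isBasis_affineOpens.exists_subset_of_mem_open (Set.mem_univ (k₁.left v₁)) isOpen_univ
  let Wo : Over S := Over.mk (W₀.ι ≫ W₁.hom)
  let ιW : Wo ⟶ W₁ := Over.homMk W₀.ι rfl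
  let Vo : Over S := Over.mk ((k₁.left ⁻¹ᵁ W₀).ι ≫ V₁.hom)
  let ιV : Vo ⟶ V₁ := Over.homMk (k₁.left ⁻¹ᵁ W₀).ι rfl
  let k₀ : Vo ⟶ Wo := Over.homMk (k₁.left ∣_ W₀) (by
    change (k₁.left ∣_ W₀) ≫ W₀.ι ≫ W₁.hom = (k₁.left ⁻¹ᵁ W₀).ι ≫ V₁.hom
    rw [← Category.assoc, morphismRestrict_ι, Category.assoc, Over.w k₁])
  have hk₀ : k₀ ≫ ιW = ιV ≫ k₁ := by
    apply Over.OverMorphism.ext
    change (k₁.left ∣_ W₀) ≫ W₀.ι = (k₁.left ⁻¹ᵁ W₀).ι ≫ k₁.left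
    exact morphismRestrict_ι _ _
  have hιW : AlgSp.RepWith @Etale ((AlgSp.yon S).map ιW) :=
    (AlgSp.repWith_yon_map_iff _ _).2 (inferInstance : Etale W₀.ι)
  have hιV : AlgSp.RepWith @Etale ((AlgSp.yon S).map ιV) :=
    (AlgSp.repWith_yon_map_iff _ _).2 (inferInstance : Etale (k₁.left ⁻¹ᵁ W₀).ι)
  have hb₀ : AlgSp.RepWith @Etale ((AlgSp.yon S).map ιV ≫ b₁) :=
    (AlgSp.RepWith @Etale).comp_mem _ _ hιV hb₁
  have hc₀ : AlgSp.RepWith @Etale ((AlgSp.yon S).map ιW ≫ c₁) :=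
    (AlgSp.RepWith @Etale).comp_mem _ _ hιW hc₁
  have hv₀ : AlgSp.Points.ofPt ((AlgSp.yon S).map ιV ≫ b₁)
      (⟨v₁, hkW₀⟩ : ↥(k₁.left ⁻¹ᵁ W₀)) = AlgSp.Points.map f x := by
    rw [Groth.Agent.S10176.ofPt_map_comp]
    exact hv₁
  obtain ⟨U, a, h, u, ha, hac, hu, hhu⟩ :=
    exists_chart_over hX hY f x ((AlgSp.yon S).map ιV ≫ b₁) hb₀
      (⟨v₁, hkW₀⟩ : ↥(k₁.left ⁻¹ᵁ W₀)) hv₀
  refine ⟨U, Vo, Wo, ιV, ιW, a, h, k₀, u, (inferInstance : IsOpenImmersion (k₁.left ⁻¹ᵁ W₀).ι),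
    (inferInstance : IsOpenImmersion W₀.ι), hk₀, ha, hb₀, hc₀, hac, ?_, hu, ?_, hW₀⟩
  · rw [Category.assoc, hbc, ← Category.assoc, ← Functor.map_comp, ← hk₀, Functor.map_comp,
      Category.assoc]
  · rw [hhu]
    rfl

end Groth.Agent.Lib.T2H1.Tower
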