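import Mathlib
import Groth.Agent.Lib.T2H1Deform
import Groth.Agent.Lib.T2H1Tower2
import Groth.Agent.Lib.Helper12Flat
import Groth.Prelude.Def_AlgSpMor5

/-!
# Flatness of the base at image points, on chart diagrams (helper1, team 2)
-/

set_option autoImplicit false
universe u
open CategoryTheory CategoryTheory.Limits AlgebraicGeometry
open AlgSp

namespace Groth.Agent.Lib.T2H1.Deform

/-- flatness of a stalk map only depends on the morphism. -/
lemma flat_stalkMap_congr {X Y : Scheme.{u}} {f g : X ⟶ Y} (e : f = g) (x : X) :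
    (f.stalkMap x).hom.Flat ↔ (g.stalkMap x).hom.Flat := by
  subst e
  rfl

/-- if `p` and `p ≫ q` are flat, then `q` is flat at the points of the image of `p`. -/
lemma flat_stalkMap_of_comp {X Y Z : Scheme.{u}} (p : X ⟶ Y) (q : Y ⟶ Z) [Flat p] [Flat (p ≫ q)]
    (x : X) : (q.stalkMap (p x)).hom.Flat := by
  have h2 : (p.stalkMap x).hom.Flat := Flat.stalkMap p x
  set φ := (q.stalkMap (p x)).hom with hφ
  set ψ := (p.stalkMap x).hom with hψ
  have h1 : (ψ.comp φ).Flat := by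
    have := Flat.stalkMap (p ≫ q) x
    rw [Scheme.Hom.stalkMap_comp] at this
    exact this
  have hloc : IsLocalHom ψ := inferInstance
  algebraize [φ, ψ, ψ.comp φ]
  have : IsLocalHom (algebraMap (Y.presheaf.stalk (p x)) (X.presheaf.stalk x)) := hloc
  have : Module.FaithfullyFlat (Y.presheaf.stalk (p x)) (X.presheaf.stalk x) :=
    Module.FaithfullyFlat.of_flat_of_isLocalHom
  exact Groth.Agent.Lib.Helper12.flat_of_faithfullyFlat_of_flat_comp _ (Y.presheaf.stalk (p x))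
    (X.presheaf.stalk x)

/-- flatness of stalk maps passes from an open part of a morphism to the morphism. -/
lemma flat_stalkMap_of_open_square {V V₁ W W₁ : Scheme.{u}} (k : V ⟶ W) (k₁ : V₁ ⟶ W₁)
    (ιV : V ⟶ V₁) (ιW : W ⟶ W₁) [IsOpenImmersion ιV] [IsOpenImmersion ιW]
    (e : k ≫ ιW = ιV ≫ k₁) (v : V) (hk : (k.stalkMap v).hom.Flat) :
    (k₁.stalkMap (ιV v)).hom.Flat := by
  have h1 : ((k ≫ ιW).stalkMap v).hom.Flat := by
    rw [Scheme.Hom.stalkMap_comp]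
    exact RingHom.Flat.comp
      (RingHom.Flat.of_bijective (ConcreteCategory.bijective_of_isIso (ιW.stalkMap (k v)))) hk
  have h2 : ((ιV ≫ k₁).stalkMap v).hom.Flat := (flat_stalkMap_congr e v).1 h1
  rw [Scheme.Hom.stalkMap_comp] at h2
  exact (RingHom.Flat.comp_iff_of_bijective_left
    (ConcreteCategory.bijective_of_isIso (ιV.stalkMap v))).1 h2

variable {S : Scheme.{u}}

namespace Data

variable {X X' Y Y' B B' : AlgSp.Sp S} {iX : X ⟶ X'} {iY : Y ⟶ Y'} {iB : B ⟶ B'}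
  {f : X ⟶ Y} {f' : X' ⟶ Y'} {g : Y ⟶ B} {g' : Y' ⟶ B'}

/-- a restricted tower through a point of `X'` over a given chart diagram of `g'`. -/
theorem exists_rtower_over (D : Data iX iY iB f f' g g') (hX' : AlgSp.IsAlgSpace X')
    (hY' : AlgSp.IsAlgSpace Y') (x' : AlgSp.Points X')
    {V₁ W₁ : Over S} (b₁ : (yon S).obj V₁ ⟶ Y') (c₁ : (yon S).obj W₁ ⟶ B') (k₁ : V₁ ⟶ W₁)
    (hb₁ : RepWith @Etale b₁) (hc₁ : RepWith @Etale c₁)
    (hbc : b₁ ≫ g' = (yon S).map k₁ ≫ c₁) (v₁ : ↥V₁.left)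
    (hv₁ : AlgSp.Points.ofPt b₁ v₁ = AlgSp.Points.map f' x') :
    ∃ (T : RTower iX iY iB f f' g g') (u' : ↥T.U'.left) (ιV : T.V' ⟶ V₁) (ιW : T.W' ⟶ W₁),
      AlgSp.Points.ofPt T.a' u' = x' ∧ IsOpenImmersion ιV.left ∧ IsOpenImmersion ιW.left ∧
      T.k' ≫ ιW = ιV ≫ k₁ ∧ ιV.left (T.h'.left u') = v₁ := by
  obtain ⟨U', V', W', ιV, ιW, a', h', k', u', hιV, hιW, hk, ha', hb', hc', hab', hbc', hu', hv, hW'⟩ :=
    Groth.Agent.Lib.T2H1.Tower.exists_tower_over hX' hY' f' g' x' b₁ c₁ k₁ hb₁ hc₁ hbc v₁ hv₁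
  obtain ⟨U, V, W, u₀, v₀, w₀, h, k, a, b, c, ha, hb, hc, hab, hbc, s1, s2, s3, sqU, sqV, sqW⟩ :=
    D.exists_restricted_tower a' _ _ h' k' ha' hb' hc' hab' hbc'
  exact ⟨⟨U', V', W', U, V, W, a', _, _, h', k', a, b, c, h, k, u₀, v₀, w₀, ha', hb', hc', ha, hb,
    hc, hab', hbc', hab, hbc, s1, s2, s3, sqU, sqV, sqW, hW'⟩, u', ιV, ιW, hu', hιV, hιW, hk, hv⟩

/-- `g'` is flat at the image points of `f'` as soon as `f'` is flat on restricted towers and
`f' ≫ g'` is flat. -/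
theorem isFlatAtMor_of_rtower (D : Data iX iY iB f f' g g') (hX' : AlgSp.IsAlgSpace X')
    (hY' : AlgSp.IsAlgSpace Y')
    (key : ∀ T : RTower iX iY iB f f' g g', Flat T.h'.left)
    (hflat : AlgSp.LocP @Flat (f' ≫ g')) (x' : AlgSp.Points X') :
    AlgSp.IsFlatAtMor g' (AlgSp.Points.map f' x') := by
  intro V₁ W₁ b₁ c₁ k₁ v₁ hb₁ hc₁ hbc hv₁
  obtain ⟨T, u', ιV, ιW, hu', hιV, hιW, hk, hv⟩ :=
    D.exists_rtower_over hX' hY' x' b₁ c₁ k₁ hb₁ hc₁ hbc v₁ hv₁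
  haveI : Flat T.h'.left := key T
  haveI : Flat (T.h'.left ≫ T.k'.left) := hflat T.a' T.c' (T.h' ≫ T.k') T.ha' T.hc' T.chart_comp'
  have h1 := flat_stalkMap_of_comp T.h'.left T.k'.left u'
  haveI := hιV
  haveI := hιW
  have h2 := flat_stalkMap_of_open_square T.k'.left k₁.left ιV.left ιW.left
    (by rw [← Over.comp_left, hk, Over.comp_left]) (T.h'.left u') h1
  rw [hv] at h2
  exact h2

end Data

end Groth.Agent.Lib.T2H1.Deform
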