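import Mathlib
import Groth.Agent.Lib.T2H1Deform2
import Groth.Agent.Lib.Helper12SrcLocal
import Groth.Agent.S10554

/-!
# Transfer of local properties along deformations: generic iff statements (helper1, team 2)
-/

set_option autoImplicit false
universe u
open CategoryTheory CategoryTheory.Limits AlgebraicGeometry
open AlgSp

namespace Groth.Agent.Lib.T2H1.Deform

variable {S : Scheme.{u}}

namespace Data

variable {X X' Y Y' B B' : AlgSp.Sp S} {iX : X ⟶ X'} {iY : Y ⟶ Y'} {iB : B ⟶ B'}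
  {f : X ⟶ Y} {f' : X' ⟶ Y'} {g : Y ⟶ B} {g' : Y' ⟶ B'}

open Groth.Agent.Lib.Helper12.LocPCases in
/-- a class etale local on source and target passes between `f` and `f'` as soon as it passes
from `f` to `f'` on restricted towers. -/
theorem locP_iff_of_rtower {P : MorphismProperty Scheme.{u}} (hP : Good P)
    [IsZariskiLocalAtSource P]
    (D : Data iX iY iB f f' g g') (hY : AlgSp.IsAlgSpace Y) (hX' : AlgSp.IsAlgSpace X')
    (hY' : AlgSp.IsAlgSpace Y') (hB' : AlgSp.IsAlgSpace B')
    (key : ∀ T : RTower iX iY iB f f' g g', P T.h.left → P T.h'.left) :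
    AlgSp.LocP P f ↔ AlgSp.LocP P f' :=
  ⟨D.locP_of_rtower hP hX' hY' hB' key, fun h => hP.locP_baseChange hX' hY' hY D.hcXY h⟩

/-- relations on the relative dimension at all points pass between `f` and `f'`. -/
theorem relDim_iff (D : Data iX iY iB f f' g g') (hY : AlgSp.IsAlgSpace Y)
    (hX' : AlgSp.IsAlgSpace X') (hY' : AlgSp.IsAlgSpace Y')
    (hlft : AlgSp.LocP @LocallyOfFiniteType f') (R : WithBot ℕ∞ → Prop) :
    (∀ x, AlgSp.HasAtMor (fun _ _ h u => R (FlatMor.fibreDimAt h u)) f x) ↔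
      (∀ x', AlgSp.HasAtMor (fun _ _ h u => R (FlatMor.fibreDimAt h u)) f' x') := by
  have key := fun x => Groth.Agent.Lib.T2H1.ChartBC.hasAtMor_fibreDim_baseChange_iff R hX' hY' hY
    D.hcXY hlft x
  constructor
  · intro H x'
    obtain ⟨x, rfl⟩ := (Groth.Agent.Lib.Helper12.OpenSub.thick_points iX D.thickX).1.2 x'
    exact (key x).1 (H x)
  · intro H x
    exact (key x).2 (H _)

/-- etale morphisms and `LocP @Etale`. -/
theorem isEtaleMor_iff_locP (hY : AlgSp.IsAlgSpace Y) (f : X ⟶ Y) :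
    AlgSp.IsEtaleMor f ↔ AlgSp.LocP @Etale f :=
  ⟨Groth.Agent.Lib.Helper12.SrcLocal.locP_etale_of_isEtaleMor f,
    Groth.Agent.S10554.isEtaleMor_of_locP hY f⟩

end Data

end Groth.Agent.Lib.T2H1.Deform
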