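import Mathlib
import Groth.Prelude.Def_AlgSp4
import Groth.Prelude.Def_AlgSpDec
import Groth.Prelude.Def_Flat
import Groth.Agent.Lib.T2H1HasAt
import Groth.Agent.Lib.Helper12LocPNbhd
import Groth.Agent.S10175
import Groth.Agent.S10176
import Groth.Agent.S10177
import Groth.Agent.S9913
import Groth.Agent.S1240

/-!
# Properties of flat morphisms of algebraic spaces over a dense open of the target (helper1)
-/

set_option autoImplicit false
set_option linter.unusedVariables false
set_option linter.unusedSectionVars false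
set_option linter.style.haveILetI false
universe u
open CategoryTheory CategoryTheory.Limits AlgebraicGeometry
open AlgSp

namespace Groth.Agent.Lib.T2H1.DenseOpen

variable {S : Scheme.{u}}

/-- the pullback of a subsheaf to a chart: the points of the chart in the range of the pullback are
those mapping into the image of the points of the subsheaf. -/
lemma mem_range_iff {Y V : AlgSp.Sp S} (j : V ⟶ Y) {W W' : Over S}
    (b : (AlgSp.yon S).obj W ⟶ Y) (fst' : (AlgSp.yon S).obj W' ⟶ V) (ι : W' ⟶ W)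
    (sq : IsPullback fst' ((AlgSp.yon S).map ι) j b) (w : ↥W.left) :
    w ∈ Set.range ι.left ↔ AlgSp.Points.ofPt b w ∈ Set.range (AlgSp.Points.map j) := by
  constructor
  · rintro ⟨w', rfl⟩
    refine ⟨AlgSp.Points.ofPt fst' w', ?_⟩
    rw [AlgSp.Points.map_ofPt, sq.w, Groth.Agent.S10176.ofPt_map_comp]
  · rintro ⟨v, hv⟩
    obtain ⟨p, hp1, hp2⟩ := Groth.Agent.S10175.exists_point_of_isPullback sq v
      (AlgSp.Points.ofScheme W w) (by
        rw [← AlgSp.Points.ofPt_eq_map_ofScheme]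
        exact hv)
    obtain ⟨w', rfl⟩ := (AlgSp.Points.schemeHomeo W').surjective p
    refine ⟨w', ?_⟩
    apply (AlgSp.Points.schemeHomeo W).injective
    rw [← AlgSp.Points.map_yon_map_apply]
    exact hp2

/-- the pullback of a dense open subspace to an etale chart is dense. -/
lemma dense_range_chart {Y V : AlgSp.Sp S} (j : V ⟶ Y) {W W' : Over S}
    (b : (AlgSp.yon S).obj W ⟶ Y) (hb : AlgSp.RepWith @Etale b)
    (fst' : (AlgSp.yon S).obj W' ⟶ V) (ι : W' ⟶ W)
    (sq : IsPullback fst' ((AlgSp.yon S).map ι) j b)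
    (hj : Dense (Set.range (AlgSp.Points.map j))) : Dense (Set.range ι.left) := by
  rw [dense_iff_inter_open]
  intro G hG hGne
  have hopen : IsOpen (AlgSp.Points.ofPt b '' G) := Groth.Agent.S10176.isOpenMap_ofPt b hb G hG
  obtain ⟨y, ⟨w, hwG, rfl⟩, hy⟩ := hj.inter_open_nonempty _ hopen (hGne.image _)
  exact ⟨w, hwG, (mem_range_iff j b fst' ι sq w).2 hy⟩

/-- the pullback of a quasi-compact open subspace to a chart is retrocompact. -/
lemma isRetrocompact_range_chart {Y V : AlgSp.Sp S} (j : V ⟶ Y)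
    (hj1 : AlgSp.RepWith @IsOpenImmersion j) (hj : AlgSp.IsQuasiCompactMor j) {W W' : Over S}
    (b : (AlgSp.yon S).obj W ⟶ Y) (fst' : (AlgSp.yon S).obj W' ⟶ V) (ι : W' ⟶ W)
    (sq : IsPullback fst' ((AlgSp.yon S).map ι) j b) :
    IsRetrocompact (Set.range ι.left) := by
  intro K hKc hKo
  -- the open subscheme `K` of `W`
  let Ko : W.left.Opens := ⟨K, hKo⟩
  let T : Over S := Over.mk (Ko.ι ≫ W.hom)
  let κ : T ⟶ W := Over.homMk Ko.ι rfl
  haveI : CompactSpace ↥T.left := isCompact_iff_compactSpace.1 hKc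
  -- the pullback of `j` to `K`
  obtain ⟨T', ι', fst'', sq'⟩ := hj1.1 ((AlgSp.yon S).map κ ≫ b)
  have hqc : AlgSp.IsQuasiCompactSp ((AlgSp.yon S).obj T') :=
    hj (AlgSp.IsAlgSpace.yon_obj T) (Groth.Agent.S9913.isQuasiCompactSp_yon_of_compact T)
      ((AlgSp.yon S).map κ ≫ b) fst'' ((AlgSp.yon S).map ι') sq'
  -- `T'` is quasi-compact
  obtain ⟨Q, q, hqe, hqs, hQ⟩ := hqc
  obtain ⟨q₀, rfl⟩ := (AlgSp.yon S).map_surjective q
  haveI : Surjective q₀.left := (AlgSp.repWith_yon_map_iff @Surjective q₀).1 hqs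
  haveI : CompactSpace ↥Q.left := hQ
  have hT'c : IsCompact (Set.univ : Set ↥T'.left) := by
    have := (isCompact_univ (X := ↥Q.left)).image q₀.left.continuous
    rwa [Set.image_univ, Set.range_eq_univ.2 q₀.left.surjective] at this
  -- the image of `T'` in `W` is `range ι ∩ K`
  have himg : Set.range ι.left ∩ K = (ι'.left ≫ κ.left) '' Set.univ := by
    ext w
    simp only [Set.image_univ, Set.mem_inter_iff, Set.mem_range]
    constructor
    · rintro ⟨hw1, hw2⟩
      have h1 := (mem_range_iff j b fst' ι sq w).1 hw1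
      have h2 : AlgSp.Points.ofPt ((AlgSp.yon S).map κ ≫ b) (⟨w, hw2⟩ : ↥Ko) ∈
          Set.range (AlgSp.Points.map j) := by
        rw [Groth.Agent.S10176.ofPt_map_comp]
        exact h1
      obtain ⟨t', ht'⟩ := (mem_range_iff j _ fst'' ι' sq' (⟨w, hw2⟩ : ↥Ko)).2 h2
      refine ⟨t', ?_⟩
      rw [Scheme.Hom.comp_apply, ht']
      rfl
    · rintro ⟨t', rfl⟩
      have h2 := (mem_range_iff j _ fst'' ι' sq' (ι'.left t')).1 ⟨t', rfl⟩
      rw [Groth.Agent.S10176.ofPt_map_comp] at h2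
      refine ⟨(mem_range_iff j b fst' ι sq _).2 ?_, ?_⟩
      · rw [Scheme.Hom.comp_apply]
        exact h2
      · rw [Scheme.Hom.comp_apply]
        exact (ι'.left t').2
  rw [himg]
  exact hT'c.image (ι'.left ≫ κ.left).continuous

/-- relative dimension at most `d` over a dense open subspace of the target spreads out, for flat
morphisms locally of finite type. -/
theorem fibreDim_le_of_dense {X Y V P : AlgSp.Sp S} (hX : AlgSp.IsAlgSpace X)
    (hY : AlgSp.IsAlgSpace Y) (f : X ⟶ Y) (j : V ⟶ Y) (d : ℕ)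
    (hf1 : AlgSp.LocP @Flat f) (hf2 : AlgSp.LocP @LocallyOfFiniteType f)
    (hj1 : AlgSp.RepWith @IsOpenImmersion j) (hj2 : Dense (Set.range (AlgSp.Points.map j)))
    (fst : P ⟶ X) (snd : P ⟶ V) (hP : IsPullback fst snd f j)
    (hV : ∀ x, AlgSp.HasAtMor (fun _ _ h u => FlatMor.fibreDimAt h u ≤ (d : WithBot ℕ∞)) snd x)
    (h : AlgSp.LocP @LocallyOfFinitePresentation f ∨ AlgSp.IsQuasiCompactMor j) :
    ∀ x, AlgSp.HasAtMor (fun _ _ h u => FlatMor.fibreDimAt h u ≤ (d : WithBot ℕ∞)) f x := by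
  intro x
  obtain ⟨U, W, a, b, hh, u, ha, hb, hc, hu⟩ :=
    Groth.Agent.Lib.Helper12.LocPNbhd.exists_chart hX hY f x
  obtain ⟨W', ι, fst', sq⟩ := hj1.1 b
  haveI : IsOpenImmersion ι.left := hj1.2 b fst' ι sq
  haveI : Flat hh.left := hf1 a b hh ha hb hc
  haveI : LocallyOfFiniteType hh.left := hf2 a b hh ha hb hc
  have hdense : Dense ((Scheme.Hom.opensRange ι.left : W.left.Opens) : Set ↥W.left) :=
    dense_range_chart j b hb fst' ι sq hj2
  have hetOI : ∀ {F G : AlgSp.Sp S} {g : F ⟶ G}, AlgSp.RepWith @IsOpenImmersion g →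
      AlgSp.RepWith @Etale g := fun hg =>
    ⟨hg.1, fun _ _ g' fst'' snd'' sq'' => by
      haveI : IsOpenImmersion snd''.left := hg.2 g' fst'' snd'' sq''
      show Etale snd''.left
      infer_instance⟩
  have hfst : AlgSp.RepWith @Etale fst :=
    hetOI (MorphismProperty.of_isPullback (P := AlgSp.RepWith @IsOpenImmersion) hP.flip hj1)
  have hje : AlgSp.RepWith @Etale j := hetOI hj1
  have hle : ∀ u' : ↥U.left, hh.left u' ∈ (Scheme.Hom.opensRange ι.left : W.left.Opens) →
      FlatMor.fibreDimAt hh.left u' ≤ (d : WithBot ℕ∞) := by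
    intro u' hu'
    obtain ⟨v, hv⟩ := (mem_range_iff j b fst' ι sq (hh.left u')).1 hu'
    obtain ⟨p, hp1, hp2⟩ := Groth.Agent.S10175.exists_point_of_isPullback hP
      (AlgSp.Points.ofPt a u') v (by
        rw [AlgSp.Points.map_ofPt, hc, Groth.Agent.S10176.ofPt_map_comp, hv])
    obtain ⟨U1, W1, a1, b1, h1, u1, ha1, hb1, hc1, hu1, hQ1⟩ := hV p
    have H : AlgSp.HasAtMor (fun _ _ h u => FlatMor.fibreDimAt h u ≤ (d : WithBot ℕ∞)) f
        (AlgSp.Points.ofPt a u') := by
      refine ⟨U1, W1, a1 ≫ fst, b1 ≫ j, h1, u1, (AlgSp.RepWith @Etale).comp_mem _ _ ha1 hfst,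
        (AlgSp.RepWith @Etale).comp_mem _ _ hb1 hje, ?_, ?_, hQ1⟩
      · rw [Category.assoc, hP.w, ← Category.assoc, hc1, Category.assoc]
      · rw [← AlgSp.Points.map_ofPt, hu1, hp1]
    exact Groth.Agent.Lib.T2H1.HasAt.of_hasAtMor
      (Groth.Agent.Lib.T2H1.HasAt.etInv_fibreDim (fun r => r ≤ (d : WithBot ℕ∞))) f _ H a b hh
      ha hb hc u' rfl
  have hcase : LocallyOfFinitePresentation hh.left ∨
      IsRetrocompact ((Scheme.Hom.opensRange ι.left : W.left.Opens) : Set ↥W.left) := by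
    rcases h with h | h
    · exact Or.inl (h a b hh ha hb hc)
    · exact Or.inr (isRetrocompact_range_chart j hj1 h b fst' ι sq)
  have key := Groth.Agent.S1240.result hh.left (Scheme.Hom.opensRange ι.left) hdense d hle hcase u
  exact ⟨U, W, a, b, hh, u, ha, hb, hc, hu, key⟩

end Groth.Agent.Lib.T2H1.DenseOpen
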