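import Mathlib
import Groth.Agent.Lib.Helper5FiberBC
import Groth.Agent.Lib.Helper3GrpFlat
import Groth.Agent.Lib.Helper3LocusBC
import Groth.Agent.Lib.Helper12LocPCases
import Groth.Agent.Lib.Helper3FibCritSch
import Groth.Agent.Lib.Helper6LfpComp

/-!
# The flat locus of a morphism: chart independence and base change, scheme level (helper1)
-/

set_option autoImplicit false
set_option linter.unusedVariables false
set_option linter.unusedSectionVars false
set_option linter.style.haveILetI false
universe u
open CategoryTheory CategoryTheory.Limits AlgebraicGeometry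

namespace Groth.Agent.Lib.T2H1.FlatLocus

open Groth.Agent.Lib.Helper5.FiberMor Groth.Agent.Lib.Helper5.FlatPreimm

/-- transport of pointwise flatness along an equality of morphisms. -/
lemma flat_stalkMap_congr {A B : Scheme.{u}} {a a' : A ⟶ B} (e : a = a') (q : A) :
    (a.stalkMap q).hom.Flat ↔ (a'.stalkMap q).hom.Flat := by
  subst e; rfl

/-- pointwise flatness is insensitive to an etale refinement of source and target. -/
theorem flat_stalkMap_refine_iff {U V U'' V'' : Scheme.{u}} (h : U ⟶ V) (h'' : U'' ⟶ V'')
    (α : U'' ⟶ U) (β : V'' ⟶ V) [Etale α] [Etale β] (w : h'' ≫ β = α ≫ h) (x : U'') :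
    (h''.stalkMap x).hom.Flat ↔ (h.stalkMap (α x)).hom.Flat := by
  constructor
  · intro hf
    have h1 : ((h'' ≫ β).stalkMap x).hom.Flat := flat_comp h'' β x hf (Flat.stalkMap β _)
    have h2 : ((α ≫ h).stalkMap x).hom.Flat := (flat_stalkMap_congr w x).1 h1
    exact flat_of_comp α h x h2 (Flat.stalkMap α x)
  · intro hf
    let γ : U'' ⟶ pullback h β := pullback.lift α h'' w.symm
    have hγ1 : γ ≫ pullback.fst h β = α := pullback.lift_fst _ _ _
    have hγ2 : γ ≫ pullback.snd h β = h'' := pullback.lift_snd _ _ _
    haveI : Etale (pullback.fst h β) := MorphismProperty.pullback_fst _ _ inferInstance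
    haveI : Etale γ := Groth.Agent.Lib.Helper12.LocPCases.good_etale.hcancel γ (pullback.fst h β)
      inferInstance (by rw [hγ1]; infer_instance)
    have hpt : pullback.fst h β (γ x) = α x := by
      rw [← Scheme.Hom.comp_apply, hγ1]
    have h1 : ((pullback.snd h β).stalkMap (γ x)).hom.Flat :=
      Groth.Agent.Lib.Helper5.FiberBC.flat_stalkMap_of_isPullback
        (IsPullback.of_hasPullback h β) (γ x) (flat_stalkMap_of_eq h hpt.symm hf)
    have h2 : ((γ ≫ pullback.snd h β).stalkMap x).hom.Flat :=
      flat_comp γ (pullback.snd h β) x (Flat.stalkMap γ x) h1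
    exact (flat_stalkMap_congr hγ2 x).1 h2

open Groth.Agent.Lib.Helper3.LocusBC in
/-- **the flat locus commutes with base change**: for `X ⟶ Y ⟶ S` with `X` flat and locally of
finite presentation over `S` and `Y` locally of finite type over `S`, the base change of `f` along
`S' ⟶ S` is flat at `x'` if and only if `f` is flat at the image of `x'`. -/
theorem flat_stalkMap_baseChange_iff {X Y S X' Y' S' : Scheme.{u}} {f : X ⟶ Y} {g : Y ⟶ S}
    {f' : X' ⟶ Y'} {g' : Y' ⟶ S'} {a : S' ⟶ S} {pX : X' ⟶ X} {pY : Y' ⟶ Y}
    [LocallyOfFinitePresentation (f ≫ g)] [LocallyOfFiniteType g] [Flat (f ≫ g)]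
    (hY : IsPullback pY g' g a) (hX : IsPullback pX f' f pY) (x' : X') :
    (f'.stalkMap x').hom.Flat ↔ (f.stalkMap (pX x')).hom.Flat := by
  constructor
  · intro hf'
    haveI : LocallyOfFinitePresentation f :=
      Groth.Agent.Lib.Helper6.locallyOfFinitePresentation_of_comp (g := g) inferInstance
        inferInstance
    haveI : LocallyOfFinitePresentation f' :=
      MorphismProperty.of_isPullback (P := @LocallyOfFinitePresentation) hX inferInstance
    let s' : S' := (f' ≫ g') x'
    let z' : (f' ≫ g').fiber s' := (f' ≫ g').asFiber x'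
    have hz' : (f' ≫ g').fiberι s' z' = x' := Scheme.Hom.fiberι_asFiber _ _
    have h1 : ((MoreMor.fiberMap f' g' s').stalkMap z').hom.Flat :=
      Groth.Agent.Lib.Helper3.FibCritSch.flat_stalkMap_fiberMap_of_flat f' g' s' z'
        (flat_stalkMap_of_eq f' hz'.symm hf')
    have hXY : IsPullback pX (f' ≫ g') (f ≫ g) a := hX.paste_vert hY
    obtain ⟨eY, hY1, hY2, hpbY⟩ := exists_fiber_lift hY s'
    obtain ⟨eX, hX1, hX2, hpbX⟩ := exists_fiber_lift hXY s'
    have hsq : IsPullback eX (MoreMor.fiberMap f' g' s') (MoreMor.fiberMap f g (a s')) eY := by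
      refine IsPullback.of_bot ?_ ?_ hpbY
      · rw [fiberMap_fiberToSpecResidueField, fiberMap_fiberToSpecResidueField]
        exact hpbX
      · refine fiber_hom_ext ?_ ?_
        · rw [Category.assoc, Category.assoc, fiberMap_fiberι, reassoc_of% hX1, hY1,
            fiberMap_fiberι_assoc, hX.w]
        · rw [Category.assoc, Category.assoc, fiberMap_fiberToSpecResidueField, hX2, hY2,
            fiberMap_fiberToSpecResidueField_assoc]
    have hfield : (a.residueFieldMap s').hom.Flat := by
      letI := (a.residueFieldMap s').hom.toAlgebra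
      exact (inferInstance : Module.Flat (S.residueField (a s')) (S'.residueField s'))
    haveI : Flat (Spec.map (a.residueFieldMap s')) := Flat.SpecMap_iff.mpr hfield
    haveI : Flat eY := MorphismProperty.of_isPullback (P := @Flat) hpbY.flip inferInstance
    have h2 : ((MoreMor.fiberMap f g (a s')).stalkMap (eX z')).hom.Flat :=
      Groth.Agent.Lib.Helper5.FiberBC.flat_stalkMap_of_isPullback_of_flat hsq z' h1
        (Flat.stalkMap eY _)
    have h3 := Groth.Agent.Lib.Helper3.GrpFlat.flat_stalkMap_of_flat_of_fiberMap' f g (a s')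
      (eX z') (Flat.stalkMap _ _) h2
    have hpt : (f ≫ g).fiberι (a s') (eX z') = pX x' := by
      rw [← Scheme.Hom.comp_apply, hX1, Scheme.Hom.comp_apply, hz']
    exact flat_stalkMap_of_eq f hpt h3
  · intro hf
    exact Groth.Agent.Lib.Helper5.FiberBC.flat_stalkMap_of_isPullback hX x' hf

end Groth.Agent.Lib.T2H1.FlatLocus
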