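import Mathlib
import Groth.Prelude.Def_AlgSpMor5
import Groth.Agent.Lib.T2H1FlatLocus
import Groth.Agent.Lib.T2H1Tower
import Groth.Agent.S10176
import Groth.Agent.S10175
import Groth.Agent.S10177
import Groth.Agent.S1386

/-!
# The flat locus of a morphism of algebraic spaces (helper1)
-/

set_option autoImplicit false
set_option linter.unusedVariables false
set_option linter.unusedSectionVars false
set_option linter.style.haveILetI false
universe u
open CategoryTheory CategoryTheory.Limits AlgebraicGeometry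
open AlgSp

namespace Groth.Agent.Lib.T2H1.FlatLocusSp

open Groth.Agent.Lib.T2H1.FlatLocus Groth.Agent.Lib.Helper5.FiberMor

variable {S : Scheme.{u}}

/-- pointwise flatness of the top arrow of a chart diagram depends only on the point. -/
theorem flat_stalkMap_chart_iff {X Y : AlgSp.Sp S} (f : X ⟶ Y) {U V U' V' : Over S}
    (a : (AlgSp.yon S).obj U ⟶ X) (b : (AlgSp.yon S).obj V ⟶ Y) (h : U ⟶ V) (u : ↥U.left)
    (a' : (AlgSp.yon S).obj U' ⟶ X) (b' : (AlgSp.yon S).obj V' ⟶ Y) (h' : U' ⟶ V')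
    (u' : ↥U'.left)
    (ha : AlgSp.RepWith @Etale a) (hb : AlgSp.RepWith @Etale b)
    (hab : a ≫ f = (AlgSp.yon S).map h ≫ b)
    (ha' : AlgSp.RepWith @Etale a') (hb' : AlgSp.RepWith @Etale b')
    (hab' : a' ≫ f = (AlgSp.yon S).map h' ≫ b')
    (hpt : AlgSp.Points.ofPt a u = AlgSp.Points.ofPt a' u') :
    (h.left.stalkMap u).hom.Flat ↔ (h'.left.stalkMap u').hom.Flat := by
  obtain ⟨U'', sU, fU, sqU⟩ := ha.1 a'
  obtain ⟨α, rfl⟩ := (AlgSp.yon S).map_surjective fU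
  obtain ⟨V'', sV, fV, sqV⟩ := hb.1 b'
  obtain ⟨β, rfl⟩ := (AlgSp.yon S).map_surjective fV
  haveI : Etale sU.left := ha.2 a' _ sU sqU
  haveI : Etale α.left := ha'.2 a _ α sqU.flip
  haveI : Etale sV.left := hb.2 b' _ sV sqV
  haveI : Etale β.left := hb'.2 b _ β sqV.flip
  have compat : (AlgSp.yon S).map (α ≫ h) ≫ b = (AlgSp.yon S).map (sU ≫ h') ≫ b' := by
    rw [Functor.map_comp, Functor.map_comp, Category.assoc, Category.assoc, ← hab, ← hab',
      ← Category.assoc, ← Category.assoc, sqU.w]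
  obtain ⟨h'', hh''⟩ := (AlgSp.yon S).map_surjective (sqV.lift _ _ compat)
  have e1 : h'' ≫ β = α ≫ h := by
    apply (AlgSp.yon S).map_injective
    rw [Functor.map_comp, hh'']
    exact sqV.lift_fst _ _ _
  have e2 : h'' ≫ sV = sU ≫ h' := by
    apply (AlgSp.yon S).map_injective
    rw [Functor.map_comp, hh'']
    exact sqV.lift_snd _ _ _
  obtain ⟨u'', hu1, hu2⟩ := Groth.Agent.S10176.exists_point_of_isPullback_yon sqU u u' hpt
  have r1 := flat_stalkMap_refine_iff h.left h''.left α.left β.left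
    (by rw [← Over.comp_left, ← Over.comp_left, e1]) u''
  have r2 := flat_stalkMap_refine_iff h'.left h''.left sU.left sV.left
    (by rw [← Over.comp_left, ← Over.comp_left, e2]) u''
  rw [hu1] at r1
  rw [hu2] at r2
  exact r1.symm.trans r2

/-- flatness at a point can be tested on one chart diagram. -/
theorem isFlatAtMor_iff_chart {X Y : AlgSp.Sp S} (f : X ⟶ Y) {U V : Over S}
    (a : (AlgSp.yon S).obj U ⟶ X) (b : (AlgSp.yon S).obj V ⟶ Y) (h : U ⟶ V) (u : ↥U.left)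
    (ha : AlgSp.RepWith @Etale a) (hb : AlgSp.RepWith @Etale b)
    (hab : a ≫ f = (AlgSp.yon S).map h ≫ b) :
    AlgSp.IsFlatAtMor f (AlgSp.Points.ofPt a u) ↔ (h.left.stalkMap u).hom.Flat := by
  constructor
  · intro H
    exact H a b h u ha hb hab rfl
  · intro H U' V' a' b' h' u' ha' hb' hab' hu'
    exact (flat_stalkMap_chart_iff f a b h u a' b' h' u' ha hb hab ha' hb' hab' hu'.symm).1 H

/-- the flat locus is open. -/
theorem isOpen_flatLocus {X Y Z : AlgSp.Sp S} (hX : AlgSp.IsAlgSpace X) (hY : AlgSp.IsAlgSpace Y)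
    (hZ : AlgSp.IsAlgSpace Z) (f : X ⟶ Y) (h : Y ⟶ Z)
    (hfp : AlgSp.LocP @LocallyOfFinitePresentation (f ≫ h)) (hfl : AlgSp.LocP @Flat (f ≫ h))
    (hft : AlgSp.LocP @LocallyOfFiniteType h) :
    IsOpen {x : AlgSp.Points X | AlgSp.IsFlatAtMor f x} := by
  rw [isOpen_iff_forall_mem_open]
  intro x hx
  obtain ⟨U, V, W, a, b, c, hh, k, u₀, ha, hb, hc, hab, hbc, hu₀, -⟩ :=
    Groth.Agent.Lib.T2H1.Tower.exists_tower hX hY hZ f h x
  have hak : a ≫ (f ≫ h) = (AlgSp.yon S).map (hh ≫ k) ≫ c := by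
    rw [← Category.assoc, hab, Category.assoc, hbc, Functor.map_comp, Category.assoc]
  haveI h1 : LocallyOfFinitePresentation (hh.left ≫ k.left) := hfp a c (hh ≫ k) ha hc hak
  haveI h2 : Flat (hh.left ≫ k.left) := hfl a c (hh ≫ k) ha hc hak
  haveI h3 : LocallyOfFiniteType k.left := hft b c k hb hc hbc
  have hO := (Groth.Agent.S1386.result hh.left k.left).2
  refine ⟨AlgSp.Points.ofPt a '' {u | (k.left.stalkMap (hh.left u)).hom.Flat ∧
    (hh.left.stalkMap u).hom.Flat}, ?_, Groth.Agent.S10176.isOpenMap_ofPt a ha _ hO, ?_⟩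
  · rintro _ ⟨u, hu, rfl⟩
    exact (isFlatAtMor_iff_chart f a b hh u ha hb hab).2 hu.2
  · refine ⟨u₀, ⟨?_, ?_⟩, hu₀⟩
    · exact flat_of_comp hh.left k.left u₀ (Flat.stalkMap _ _) (hx a b hh u₀ ha hb hab hu₀)
    · exact hx a b hh u₀ ha hb hab hu₀

/-- compatible (cartesian) towers of chart diagrams for a base change. -/
theorem exists_cartesian_towers {X Y Z X' Y' Z' : AlgSp.Sp S} (hX : AlgSp.IsAlgSpace X)
    (hY : AlgSp.IsAlgSpace Y) (hZ : AlgSp.IsAlgSpace Z) (hZ' : AlgSp.IsAlgSpace Z')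
    (f : X ⟶ Y) (h : Y ⟶ Z) (g : Z' ⟶ Z) (f' : X' ⟶ Y') (h' : Y' ⟶ Z') (pX : X' ⟶ X)
    (pY : Y' ⟶ Y) (sqY : IsPullback pY h' h g) (sqX : IsPullback pX f' f pY)
    (x' : AlgSp.Points X') :
    ∃ (U V W U' V' W' : Over S) (a : (AlgSp.yon S).obj U ⟶ X) (b : (AlgSp.yon S).obj V ⟶ Y)
      (c : (AlgSp.yon S).obj W ⟶ Z) (a' : (AlgSp.yon S).obj U' ⟶ X')
      (b' : (AlgSp.yon S).obj V' ⟶ Y') (hh : U ⟶ V) (k : V ⟶ W) (hh' : U' ⟶ V') (k' : V' ⟶ W')
      (qU : U' ⟶ U) (qV : V' ⟶ V) (qW : W' ⟶ W) (u' : ↥U'.left),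
      AlgSp.RepWith @Etale a ∧ AlgSp.RepWith @Etale b ∧ AlgSp.RepWith @Etale c ∧
      AlgSp.RepWith @Etale a' ∧ AlgSp.RepWith @Etale b' ∧
      a ≫ f = (AlgSp.yon S).map hh ≫ b ∧ b ≫ h = (AlgSp.yon S).map k ≫ c ∧
      a' ≫ f' = (AlgSp.yon S).map hh' ≫ b' ∧
      IsPullback qV k' k qW ∧ IsPullback qU hh' hh qV ∧
      a' ≫ pX = (AlgSp.yon S).map qU ≫ a ∧ AlgSp.Points.ofPt a' u' = x' := by
  obtain ⟨U, V, W, a, b, c, hh, k, u₀, ha, hb, hc, hab, hbc, hu₀, -⟩ :=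
    Groth.Agent.Lib.T2H1.Tower.exists_tower hX hY hZ f h (AlgSp.Points.map pX x')
  obtain ⟨Z₀, e, hee, hes⟩ := hZ'.atlas
  obtain ⟨z₀, hz₀⟩ := Groth.Agent.S10177.surjective_ofPt e hes (AlgSp.Points.map (f' ≫ h') x')
  obtain ⟨W', sW, fW, sqW⟩ := hc.1 (e ≫ g)
  obtain ⟨qW, rfl⟩ := (AlgSp.yon S).map_surjective fW
  -- the schemes `V'` and `U'`
  have sqV' := (IsPullback.of_hasPullback k qW).map (AlgSp.yon S)
  have sqU' := (IsPullback.of_hasPullback hh (pullback.fst k qW)).map (AlgSp.yon S)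
  set qV := pullback.fst k qW with hqV
  set k' := pullback.snd k qW with hk'
  set qU := pullback.fst hh qV with hqU
  set hh' := pullback.snd hh qV with hhh'
  have bigV := sqV'.paste_vert sqW
  -- the auxiliary sheaf `Q = h_V ×_Y Y'`
  have sqQ := IsPullback.of_hasPullback b pY
  set q₁ := pullback.fst b pY with hq₁
  set q₂ := pullback.snd b pY with hq₂
  have hq₂e : AlgSp.RepWith @Etale q₂ :=
    MorphismProperty.of_isPullback (P := AlgSp.RepWith @Etale) sqQ hb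
  have sqQZ := sqQ.paste_vert sqY
  have compatb : ((AlgSp.yon S).map qV ≫ b) ≫ h =
      ((AlgSp.yon S).map k' ≫ (AlgSp.yon S).map sW ≫ e) ≫ g := by
    have := bigV.w
    rw [Category.assoc, hbc]
    simpa only [Category.assoc] using this
  let b' : (AlgSp.yon S).obj (pullback k qW) ⟶ Y' := sqY.lift _ _ compatb
  have b'pY : b' ≫ pY = (AlgSp.yon S).map qV ≫ b := sqY.lift_fst _ _ _
  have b'h' : b' ≫ h' = (AlgSp.yon S).map k' ≫ (AlgSp.yon S).map sW ≫ e := sqY.lift_snd _ _ _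
  let m : (AlgSp.yon S).obj (pullback k qW) ⟶ pullback b pY :=
    sqQ.lift ((AlgSp.yon S).map qV) b' b'pY.symm
  have mq₁ : m ≫ q₁ = (AlgSp.yon S).map qV := sqQ.lift_fst _ _ _
  have mq₂ : m ≫ q₂ = b' := sqQ.lift_snd _ _ _
  have sqm : IsPullback m ((AlgSp.yon S).map k' ≫ (AlgSp.yon S).map sW) (q₂ ≫ h') e := by
    refine IsPullback.of_right ?_ ?_ sqQZ
    · rw [mq₁, hbc]
      exact bigV
    · rw [← Category.assoc, mq₂, b'h', Category.assoc]
  have hme : AlgSp.RepWith @Etale m :=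
    MorphismProperty.of_isPullback (P := AlgSp.RepWith @Etale) sqm.flip hee
  have hb'e : AlgSp.RepWith @Etale b' := by
    rw [← mq₂]
    exact (AlgSp.RepWith @Etale).comp_mem _ _ hme hq₂e
  -- the auxiliary sheaf `R = h_U ×_X X'`
  have sqR := IsPullback.of_hasPullback a pX
  set r₁ := pullback.fst a pX with hr₁
  set r₂ := pullback.snd a pX with hr₂
  have hr₂e : AlgSp.RepWith @Etale r₂ :=
    MorphismProperty.of_isPullback (P := AlgSp.RepWith @Etale) sqR ha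
  have sqRY := sqR.paste_vert sqX
  have compatn : (r₁ ≫ (AlgSp.yon S).map hh) ≫ b = (r₂ ≫ f') ≫ pY := by
    rw [Category.assoc, ← hab]
    exact sqRY.w
  let n : pullback a pX ⟶ pullback b pY := sqQ.lift _ _ compatn
  have nq₁ : n ≫ q₁ = r₁ ≫ (AlgSp.yon S).map hh := sqQ.lift_fst _ _ _
  have nq₂ : n ≫ q₂ = r₂ ≫ f' := sqQ.lift_snd _ _ _
  have sqRQ : IsPullback r₁ n ((AlgSp.yon S).map hh) q₁ := by
    refine IsPullback.of_bot ?_ nq₁.symm sqQ
    rw [nq₂, ← hab]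
    exact sqRY
  have compata : ((AlgSp.yon S).map qU ≫ a) ≫ f = ((AlgSp.yon S).map hh' ≫ b') ≫ pY := by
    rw [Category.assoc, hab, ← Category.assoc, sqU'.w, Category.assoc, Category.assoc, b'pY]
  let a' : (AlgSp.yon S).obj (pullback hh qV) ⟶ X' := sqX.lift _ _ compata
  have a'pX : a' ≫ pX = (AlgSp.yon S).map qU ≫ a := sqX.lift_fst _ _ _
  have a'f' : a' ≫ f' = (AlgSp.yon S).map hh' ≫ b' := sqX.lift_snd _ _ _
  let l : (AlgSp.yon S).obj (pullback hh qV) ⟶ pullback a pX :=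
    sqR.lift ((AlgSp.yon S).map qU) a' a'pX.symm
  have lr₁ : l ≫ r₁ = (AlgSp.yon S).map qU := sqR.lift_fst _ _ _
  have lr₂ : l ≫ r₂ = a' := sqR.lift_snd _ _ _
  have hln : l ≫ n = (AlgSp.yon S).map hh' ≫ m := by
    apply sqQ.hom_ext
    · rw [Category.assoc, nq₁, ← Category.assoc, lr₁, Category.assoc, mq₁]
      exact sqU'.w
    · rw [Category.assoc, nq₂, ← Category.assoc, lr₂, a'f', Category.assoc, mq₂]
  have sql : IsPullback l ((AlgSp.yon S).map hh') n m := by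
    refine IsPullback.of_right ?_ hln sqRQ
    rw [lr₁, mq₁]
    exact sqU'
  have hle : AlgSp.RepWith @Etale l :=
    MorphismProperty.of_isPullback (P := AlgSp.RepWith @Etale) sql.flip hme
  have ha'e : AlgSp.RepWith @Etale a' := by
    rw [← lr₂]
    exact (AlgSp.RepWith @Etale).comp_mem _ _ hle hr₂e
  -- the point
  obtain ⟨ρ, hρ1, hρ2⟩ := Groth.Agent.S10175.exists_point_of_isPullback sqR
    (AlgSp.Points.ofScheme U u₀) x' (by rw [← AlgSp.Points.ofPt_eq_map_ofScheme]; exact hu₀)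
  obtain ⟨π, hπ1, hπ2⟩ := Groth.Agent.S10175.exists_point_of_isPullback sqm
    (AlgSp.Points.map n ρ) (AlgSp.Points.ofScheme Z₀ z₀) (by
      rw [← AlgSp.Points.ofPt_eq_map_ofScheme, hz₀, ← AlgSp.Points.map_comp,
        ← Category.assoc, nq₂, Category.assoc, AlgSp.Points.map_comp, hρ2])
  obtain ⟨μ, hμ1, hμ2⟩ := Groth.Agent.S10175.exists_point_of_isPullback sql ρ π hπ1.symm
  obtain ⟨u', rfl⟩ := (AlgSp.Points.schemeHomeo (pullback hh qV)).surjective μ
  refine ⟨U, V, W, pullback hh qV, pullback k qW, W', a, b, c, a', b', hh, k, hh', k', qU, qV, qW,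
    u', ha, hb, hc, ha'e, hb'e, hab, hbc, a'f', IsPullback.of_hasPullback k qW,
    IsPullback.of_hasPullback hh qV, a'pX, ?_⟩
  rw [AlgSp.Points.ofPt_eq_map_ofScheme, ← lr₂, AlgSp.Points.map_comp]
  change AlgSp.Points.map r₂ (AlgSp.Points.map l (AlgSp.Points.schemeHomeo _ u')) = x'
  rw [hμ1, hρ2]

/-- the formation of the flat locus commutes with base change. -/
theorem flatLocus_baseChange {X Y Z X' Y' Z' : AlgSp.Sp S} (hX : AlgSp.IsAlgSpace X)
    (hY : AlgSp.IsAlgSpace Y) (hZ : AlgSp.IsAlgSpace Z) (hZ' : AlgSp.IsAlgSpace Z')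
    (f : X ⟶ Y) (h : Y ⟶ Z) (g : Z' ⟶ Z) (f' : X' ⟶ Y') (h' : Y' ⟶ Z') (pX : X' ⟶ X)
    (pY : Y' ⟶ Y) (sqY : IsPullback pY h' h g) (sqX : IsPullback pX f' f pY)
    (hfp : AlgSp.LocP @LocallyOfFinitePresentation (f ≫ h)) (hfl : AlgSp.LocP @Flat (f ≫ h))
    (hft : AlgSp.LocP @LocallyOfFiniteType h) :
    {x' : AlgSp.Points X' | AlgSp.IsFlatAtMor f' x'} =
      AlgSp.Points.map pX ⁻¹' {x : AlgSp.Points X | AlgSp.IsFlatAtMor f x} := by
  ext x'
  obtain ⟨U, V, W, U', V', W', a, b, c, a', b', hh, k, hh', k', qU, qV, qW, u', ha, hb, hc, ha', hb',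
    hab, hbc, hab', sqV, sqU, ha'pX, hu'⟩ :=
    exists_cartesian_towers hX hY hZ hZ' f h g f' h' pX pY sqY sqX x'
  have hak : a ≫ (f ≫ h) = (AlgSp.yon S).map (hh ≫ k) ≫ c := by
    rw [← Category.assoc, hab, Category.assoc, hbc, Functor.map_comp, Category.assoc]
  haveI h1 : LocallyOfFinitePresentation (hh.left ≫ k.left) := hfp a c (hh ≫ k) ha hc hak
  haveI h2 : Flat (hh.left ≫ k.left) := hfl a c (hh ≫ k) ha hc hak
  haveI h3 : LocallyOfFiniteType k.left := hft b c k hb hc hbc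
  have e1 : AlgSp.IsFlatAtMor f' x' ↔ (hh'.left.stalkMap u').hom.Flat := by
    rw [← hu']
    exact isFlatAtMor_iff_chart f' a' b' hh' u' ha' hb' hab'
  have hpt : AlgSp.Points.ofPt a (qU.left u') = AlgSp.Points.map pX x' := by
    rw [← hu', AlgSp.Points.map_ofPt, ha'pX, Groth.Agent.S10176.ofPt_map_comp]
  have e2 : AlgSp.IsFlatAtMor f (AlgSp.Points.map pX x') ↔
      (hh.left.stalkMap (qU.left u')).hom.Flat := by
    rw [← hpt]
    exact isFlatAtMor_iff_chart f a b hh (qU.left u') ha hb hab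
  have sqVs : IsPullback qV.left k'.left k.left qW.left := sqV.map (Over.forget S)
  have sqUs : IsPullback qU.left hh'.left hh.left qV.left := sqU.map (Over.forget S)
  have e3 := flat_stalkMap_baseChange_iff sqVs sqUs u'
  exact e1.trans (e3.trans e2.symm)

/-- flatness of a morphism is flatness at all points. -/
theorem locP_flat_iff_isFlatAtMor {X Y : AlgSp.Sp S} (f : X ⟶ Y) :
    AlgSp.LocP @Flat f ↔ ∀ x : AlgSp.Points X, AlgSp.IsFlatAtMor f x := by
  constructor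
  · intro H x U V a b h u ha hb hab hu
    haveI : Flat h.left := H a b h ha hb hab
    exact Flat.stalkMap _ _
  · intro H U V a b h ha hb hab
    rw [Flat.iff_flat_stalkMap]
    intro u
    exact H _ a b h u ha hb hab rfl

/-- flatness of a base change in terms of the flat locus. -/
theorem locP_flat_baseChange_iff {X Y Z X' Y' Z' : AlgSp.Sp S} (hX : AlgSp.IsAlgSpace X)
    (hY : AlgSp.IsAlgSpace Y) (hZ : AlgSp.IsAlgSpace Z) (hZ' : AlgSp.IsAlgSpace Z')
    (f : X ⟶ Y) (h : Y ⟶ Z) (g : Z' ⟶ Z) (f' : X' ⟶ Y') (h' : Y' ⟶ Z') (pX : X' ⟶ X)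
    (pY : Y' ⟶ Y) (sqY : IsPullback pY h' h g) (sqX : IsPullback pX f' f pY)
    (hfp : AlgSp.LocP @LocallyOfFinitePresentation (f ≫ h)) (hfl : AlgSp.LocP @Flat (f ≫ h))
    (hft : AlgSp.LocP @LocallyOfFiniteType h) :
    AlgSp.LocP @Flat f' ↔
      ∀ x' : AlgSp.Points X', AlgSp.Points.map pX x' ∈ {x : AlgSp.Points X | AlgSp.IsFlatAtMor f x} := by
  rw [locP_flat_iff_isFlatAtMor]
  have hBC := flatLocus_baseChange hX hY hZ hZ' f h g f' h' pX pY sqY sqX hfp hfl hft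
  constructor
  · intro H x'
    have : x' ∈ {x' : AlgSp.Points X' | AlgSp.IsFlatAtMor f' x'} := H x'
    rw [hBC] at this
    exact this
  · intro H x'
    have : x' ∈ {x' : AlgSp.Points X' | AlgSp.IsFlatAtMor f' x'} := by
      rw [hBC]
      exact H x'
    exact this

end Groth.Agent.Lib.T2H1.FlatLocusSp
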