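import Mathlib
import Groth.Agent.Lib.T2H1FlatLocusSp
import Groth.Agent.Lib.Helper12LocPNbhd
import Groth.Agent.Lib.Helper20FiberSq

/-!
# The locus where a morphism of algebraic spaces has a property near a point (helper1)
-/

set_option autoImplicit false
set_option linter.unusedVariables false
set_option linter.unusedSectionVars false
set_option linter.style.haveILetI false
universe u
open CategoryTheory CategoryTheory.Limits AlgebraicGeometry
open AlgSp

namespace Groth.Agent.Lib.T2H1.NearLocus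

open Groth.Agent.Lib.Helper12 Groth.Agent.Lib.Helper12.LocPCases

variable {S : Scheme.{u}}

/-- `P` holds for `h` on an open neighbourhood of `u`. -/
def Near (P : MorphismProperty Scheme.{u}) : ∀ (U V : Scheme.{u}), (U ⟶ V) → ↥U → Prop :=
  fun U _ h u => ∃ W : U.Opens, u ∈ W ∧ P (W.ι ≫ h)

/-- the set of points near which `f` has `P` (in some chart diagram). -/
def locus (P : MorphismProperty Scheme.{u}) {X Y : AlgSp.Sp S} (f : X ⟶ Y) :
    Set (AlgSp.Points X) := {x | AlgSp.HasAtMor (Near P) f x}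

theorem mem_locus_iff_chart {P : MorphismProperty Scheme.{u}} (hP : Good P) {X Y : AlgSp.Sp S}
    (f : X ⟶ Y) {U V : Over S} (a : (AlgSp.yon S).obj U ⟶ X) (b : (AlgSp.yon S).obj V ⟶ Y)
    (h : U ⟶ V) (ha : AlgSp.RepWith @Etale a) (hb : AlgSp.RepWith @Etale b)
    (hab : a ≫ f = (AlgSp.yon S).map h ≫ b) (u : ↥U.left) :
    AlgSp.Points.ofPt a u ∈ locus P f ↔ Near P U.left V.left h.left u := by
  constructor
  · rintro ⟨U1, V1, a1, b1, h1, u1, ha1, hb1, hc1, hu1, W1, hW1, hPW1⟩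
    exact LocPNbhd.exists_open_of_chart hP f a b h ha hb hab u a1 b1 h1 ha1 hb1 hc1 u1 hu1.symm
      W1 hW1 hPW1
  · intro H
    exact ⟨U, V, a, b, h, u, ha, hb, hab, rfl, H⟩

theorem isOpen_locus (P : MorphismProperty Scheme.{u}) {X Y : AlgSp.Sp S} (f : X ⟶ Y) :
    IsOpen (locus P f) := by
  rw [isOpen_iff_forall_mem_open]
  rintro x ⟨U, V, a, b, h, u, ha, hb, hab, hu, W, hW, hPW⟩
  refine ⟨AlgSp.Points.ofPt a '' (W : Set U.left), ?_,
    Groth.Agent.S10176.isOpenMap_ofPt a ha _ W.2, ⟨u, hW, hu⟩⟩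
  rintro _ ⟨u₁, hu₁, rfl⟩
  exact ⟨U, V, a, b, h, u₁, ha, hb, hab, rfl, W, hu₁, hPW⟩

theorem locP_iff_forall_mem_locus {P : MorphismProperty Scheme.{u}} (hP : Good P)
    [IsZariskiLocalAtSource P] {X Y : AlgSp.Sp S} (hX : AlgSp.IsAlgSpace X)
    (hY : AlgSp.IsAlgSpace Y) (f : X ⟶ Y) :
    AlgSp.LocP P f ↔ ∀ x : AlgSp.Points X, x ∈ locus P f :=
  LocPNbhd.locP_iff_forall_hasAtMor hP hX hY f

/-- the locus commutes with base change, given the scheme-level statement. -/
theorem locus_baseChange {P Q : MorphismProperty Scheme.{u}} (hP : Good P)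
    (hBC : ∀ {U V U' V' : Scheme.{u}} (hh : U ⟶ V) (hh' : U' ⟶ V') (qU : U' ⟶ U) (qV : V' ⟶ V),
      IsPullback qU hh' hh qV → Q hh → ∀ u' : U', Near P U' V' hh' u' ↔ Near P U V hh (qU u'))
    {X Y X' Y' : AlgSp.Sp S} (hX : AlgSp.IsAlgSpace X) (hY : AlgSp.IsAlgSpace Y)
    (hY' : AlgSp.IsAlgSpace Y') (f : X ⟶ Y) (f' : X' ⟶ Y') (pX : X' ⟶ X) (pY : Y' ⟶ Y)
    (sqX : IsPullback pX f' f pY) (hQ : AlgSp.LocP Q f) :
    locus P f' = AlgSp.Points.map pX ⁻¹' locus P f := by
  ext x'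
  obtain ⟨U, V, W, U', V', W', a, b, c, a', b', hh, k, hh', k', qU, qV, qW, u', ha, hb, hc, ha', hb',
    hab, hbc, hab', sqV, sqU, ha'pX, hu'⟩ :=
    Groth.Agent.Lib.T2H1.FlatLocusSp.exists_cartesian_towers hX hY hY hY' f (𝟙 Y) pY f' (𝟙 Y')
      pX pY IsPullback.of_id_snd sqX x'
  have e1 : x' ∈ locus P f' ↔ Near P U'.left V'.left hh'.left u' := by
    rw [← hu']
    exact mem_locus_iff_chart hP f' a' b' hh' ha' hb' hab' u'
  have hpt : AlgSp.Points.ofPt a (qU.left u') = AlgSp.Points.map pX x' := by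
    rw [← hu', AlgSp.Points.map_ofPt, ha'pX, Groth.Agent.S10176.ofPt_map_comp]
  have e2 : AlgSp.Points.map pX x' ∈ locus P f ↔ Near P U.left V.left hh.left (qU.left u') := by
    rw [← hpt]
    exact mem_locus_iff_chart hP f a b hh ha hb hab (qU.left u')
  have sqUs : IsPullback qU.left hh'.left hh.left qV.left := sqU.map (Over.forget S)
  have e3 := hBC hh.left hh'.left qU.left qV.left sqUs (hQ a b hh ha hb hab) u'
  exact e1.trans (e3.trans e2.symm)

/-- scheme-level base change of "unramified near a point". -/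
theorem near_unram_baseChange {U V U' V' : Scheme.{u}} (hh : U ⟶ V) (hh' : U' ⟶ V') (qU : U' ⟶ U)
    (qV : V' ⟶ V) (sq : IsPullback qU hh' hh qV) (hlft : LocallyOfFiniteType hh) (u' : U') :
    Near (@LocallyOfFiniteType ⊓ @FormallyUnramified) U' V' hh' u' ↔
      Near (@LocallyOfFiniteType ⊓ @FormallyUnramified) U V hh (qU u') := by
  haveI := hlft
  constructor
  · rintro ⟨W', hu', -, hW'⟩
    haveI : FormallyUnramified (W'.ι ≫ hh') := hW'
    have h1 : (hh'.stalkMap u').hom.FormallyUnramified :=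
      Groth.Agent.Lib.Helper20.EtLocal.formallyUnramified_stalkMap_of_nbhd hh' u' W' hu'
    have h2 : (hh.stalkMap (qU u')).hom.FormallyUnramified :=
      Groth.Agent.Lib.Helper20.FlatDesc.formallyUnramified_stalkMap_of_isPullback sq u' h1
    obtain ⟨W, hW, hWu⟩ :=
      Groth.Agent.Lib.Helper20.EtLocal.exists_formallyUnramified_nbhd hh (qU u') h2
    exact ⟨W, hW, inferInstance, hWu⟩
  · rintro ⟨W, hu, hW1, hW2⟩
    refine ⟨qU ⁻¹ᵁ W, hu, ?_⟩
    have htop : IsPullback (qU ∣_ W) (qU ⁻¹ᵁ W).ι W.ι qU := isPullback_morphismRestrict qU W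
    have hbig := htop.paste_vert sq
    exact MorphismProperty.of_isPullback
      (P := (@LocallyOfFiniteType ⊓ @FormallyUnramified : MorphismProperty Scheme.{u})) hbig
      ⟨hW1, hW2⟩

end Groth.Agent.Lib.T2H1.NearLocus
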