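import Mathlib
import Groth.Agent.Lib.T2H1NearLocus
import Groth.Agent.Lib.Helper12OpenSub2
import Groth.Agent.S10262

/-!
# The image of the unramified locus under the diagonal is open (helper1)
-/

set_option autoImplicit false
set_option linter.unusedVariables false
set_option linter.unusedSectionVars false
set_option linter.style.haveILetI false
universe u
open CategoryTheory CategoryTheory.Limits AlgebraicGeometry
open AlgSp

namespace Groth.Agent.Lib.T2H1.NearLocus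

open Groth.Agent.Lib.Helper12 Groth.Agent.Lib.Helper12.LocPCases

variable {S : Scheme.{u}}

/-- the restriction of `f` to an open subspace inside the `P`-locus has `P`. -/
theorem locP_of_range_subset_locus {P : MorphismProperty Scheme.{u}} (hP : Good P)
    [IsZariskiLocalAtSource P] {X₀ X Y : AlgSp.Sp S} (ι : X₀ ⟶ X)
    (hι : AlgSp.RepWith @IsOpenImmersion ι) (f : X ⟶ Y)
    (hr : Set.range (AlgSp.Points.map ι) ⊆ locus P f) : AlgSp.LocP P (ι ≫ f) := by
  have hιe : AlgSp.RepWith @Etale ι :=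
    OpenSub.repWith_mono (fun _ _ g hg => by haveI : IsOpenImmersion g := hg; infer_instance) hι
  intro U V a b h ha hb hab
  have key : ∀ u : ↥U.left, ∃ W : U.left.Opens, u ∈ W ∧ P (W.ι ≫ h.left) := fun u =>
    (mem_locus_iff_chart hP f (a ≫ ι) b h ((AlgSp.RepWith @Etale).comp_mem _ _ ha hιe) hb
      (by rw [Category.assoc]; exact hab) u).1 (hr ⟨AlgSp.Points.ofPt a u, rfl⟩)
  choose W hW hPW using key
  have hsup : iSup W = ⊤ := by
    rw [eq_top_iff]
    intro u _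
    exact TopologicalSpace.Opens.mem_iSup.2 ⟨u, hW u⟩
  exact (IsZariskiLocalAtSource.iff_of_iSup_eq_top (P := P) W hsup).2 hPW

/-- the image of the unramified locus under the diagonal is open. -/
theorem isOpen_image_diag_locus {X Y : AlgSp.Space S} (f : X ⟶ Y) {XX : AlgSp.Sp S}
    (pr0 pr1 : XX ⟶ X.obj) (hXX : IsPullback pr0 pr1 f.hom f.hom) (Δ : X.obj ⟶ XX)
    (hΔ0 : Δ ≫ pr0 = 𝟙 _) (hΔ1 : Δ ≫ pr1 = 𝟙 _) :
    IsOpen (AlgSp.Points.map Δ ''
      locus (@LocallyOfFiniteType ⊓ @FormallyUnramified) f.hom) := by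
  have hopen := isOpen_locus (@LocallyOfFiniteType ⊓ @FormallyUnramified) f.hom
  let X₀ : AlgSp.Space S := ⟨OpenSub.obj X.obj _, OpenSub.isAlgSpace_obj X.property hopen⟩
  let ι : X₀ ⟶ X := ObjectProperty.homMk (OpenSub.incl X.obj _)
  have hι : AlgSp.RepWith @IsOpenImmersion ι.hom := OpenSub.repWith_incl hopen
  have hrange : Set.range (AlgSp.Points.map ι.hom) =
      locus (@LocallyOfFiniteType ⊓ @FormallyUnramified) f.hom := OpenSub.range_map_incl _
  have h1 : AlgSp.LocP (@LocallyOfFiniteType ⊓ @FormallyUnramified) (ι ≫ f).hom :=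
    locP_of_range_subset_locus good_unram ι.hom hι f.hom hrange.le
  have h2 := (Groth.Agent.S10262.result (ι ≫ f)).1 h1
  -- the intermediate fibre product `A = X₀ ×_Y X`
  have sqA := IsPullback.of_hasPullback (ι ≫ f).hom f.hom
  set a₁ := pullback.fst (ι ≫ f).hom f.hom with ha₁
  set a₂ := pullback.snd (ι ≫ f).hom f.hom with ha₂
  have sqB := IsPullback.of_hasPullback (ι ≫ f).hom (ι ≫ f).hom
  set b₁ := pullback.fst (ι ≫ f).hom (ι ≫ f).hom with hb₁
  set b₂ := pullback.snd (ι ≫ f).hom (ι ≫ f).hom with hb₂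
  have cA : (a₁ ≫ ι.hom) ≫ f.hom = a₂ ≫ f.hom := by
    rw [Category.assoc]
    exact sqA.w
  let j₁ : pullback (ι ≫ f).hom f.hom ⟶ XX := hXX.lift (a₁ ≫ ι.hom) a₂ cA
  have j₁0 : j₁ ≫ pr0 = a₁ ≫ ι.hom := hXX.lift_fst _ _ _
  have j₁1 : j₁ ≫ pr1 = a₂ := hXX.lift_snd _ _ _
  have sqj₁ : IsPullback j₁ a₁ pr0 ι.hom := by
    refine IsPullback.of_right ?_ j₁0 hXX.flip
    rw [j₁1]
    exact sqA.flip
  have hj₁ : AlgSp.RepWith @IsOpenImmersion j₁ :=
    MorphismProperty.of_isPullback (P := AlgSp.RepWith @IsOpenImmersion) sqj₁.flip hι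
  have cB : b₁ ≫ (ι ≫ f).hom = (b₂ ≫ ι.hom) ≫ f.hom := by
    rw [Category.assoc]
    exact sqB.w
  let j₂ : pullback (ι ≫ f).hom (ι ≫ f).hom ⟶ pullback (ι ≫ f).hom f.hom := sqA.lift b₁ (b₂ ≫ ι.hom) cB
  have j₂1 : j₂ ≫ a₁ = b₁ := sqA.lift_fst _ _ _
  have j₂2 : j₂ ≫ a₂ = b₂ ≫ ι.hom := sqA.lift_snd _ _ _
  have sqj₂ : IsPullback j₂ b₂ a₂ ι.hom := by
    refine IsPullback.of_right ?_ j₂2 sqA
    rw [j₂1]
    exact sqB
  have hj₂ : AlgSp.RepWith @IsOpenImmersion j₂ :=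
    MorphismProperty.of_isPullback (P := AlgSp.RepWith @IsOpenImmersion) sqj₂.flip hι
  have hcomp : AlgSp.RepWith @IsOpenImmersion (pullback.diagonal (ι ≫ f).hom ≫ j₂ ≫ j₁) :=
    (AlgSp.RepWith @IsOpenImmersion).comp_mem _ _ h2
      ((AlgSp.RepWith @IsOpenImmersion).comp_mem _ _ hj₂ hj₁)
  have heq : pullback.diagonal (ι ≫ f).hom ≫ j₂ ≫ j₁ = ι.hom ≫ Δ := by
    apply hXX.hom_ext
    · rw [Category.assoc, Category.assoc, j₁0, ← Category.assoc j₂, j₂1, Category.assoc, hΔ0,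
        Category.comp_id, ← Category.assoc]
      change (pullback.diagonal (ι ≫ f).hom ≫ pullback.fst _ _) ≫ ι.hom = ι.hom
      rw [pullback.diagonal_fst, Category.id_comp]
    · rw [Category.assoc, Category.assoc, j₁1, j₂2, Category.assoc, hΔ1, Category.comp_id,
        ← Category.assoc]
      change (pullback.diagonal (ι ≫ f).hom ≫ pullback.snd _ _) ≫ ι.hom = ι.hom
      rw [pullback.diagonal_snd, Category.id_comp]
  have h3 := OpenSub.isOpen_range_of_open _ hcomp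
  rw [heq] at h3
  have h4 : Set.range (AlgSp.Points.map (ι.hom ≫ Δ)) = AlgSp.Points.map Δ ''
      locus (@LocallyOfFiniteType ⊓ @FormallyUnramified) f.hom := by
    rw [← hrange]
    ext y
    constructor
    · rintro ⟨x, rfl⟩
      exact ⟨AlgSp.Points.map ι.hom x, ⟨x, rfl⟩, (AlgSp.Points.map_comp _ _ _).symm⟩
    · rintro ⟨_, ⟨x, rfl⟩, rfl⟩
      exact ⟨x, AlgSp.Points.map_comp _ _ _⟩
  rw [← h4]
  exact h3

end Groth.Agent.Lib.T2H1.NearLocus
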