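import Mathlib
import Groth.Prelude.Def_AlgSp4
import Groth.Agent.Lib.Helper12OpenSub
import Groth.Agent.S10194
import Groth.Agent.S10175
import Groth.Agent.S9874

/-!
# "Where is a morphism ...": open subspaces of the base cut out by closed maps (helper1)
-/

set_option autoImplicit false
set_option linter.unusedVariables false
set_option linter.unusedSectionVars false
set_option linter.style.haveILetI false
universe u
open CategoryTheory CategoryTheory.Limits AlgebraicGeometry
open AlgSp

namespace Groth.Agent.Lib.T2H1.Where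

open Groth.Agent.Lib.Helper12

variable {S : Scheme.{u}}

/-- the open subspace of `Z` whose points are those not in the image of the complement of an open
set `T` under a closed map. -/
theorem exists_open_where {X Z : AlgSp.Space S} (p : X ⟶ Z) (hp : AlgSp.IsClosedMor p.hom)
    (T : Set (AlgSp.Points X.obj)) (hT : IsOpen T) :
    ∃ (W : AlgSp.Space S) (w : W ⟶ Z), AlgSp.RepWith @IsOpenImmersion w.hom ∧
      Set.range (AlgSp.Points.map w.hom) = (AlgSp.Points.map p.hom '' Tᶜ)ᶜ := by
  have hO : IsOpen (AlgSp.Points.map p.hom '' Tᶜ)ᶜ :=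
    (hp _ hT.isClosed_compl).isOpen_compl
  exact ⟨⟨OpenSub.obj Z.obj _, OpenSub.isAlgSpace_obj Z.property hO⟩,
    ObjectProperty.homMk (OpenSub.incl Z.obj _), OpenSub.repWith_incl hO,
    OpenSub.range_map_incl _⟩

/-- the image of `g` avoids the image under `p` of the complement of `T` iff the base change of the
source along `g` maps into `T`. -/
theorem range_subset_iff {X Z Z' X' : AlgSp.Sp S} (p : X ⟶ Z) (g : Z' ⟶ Z)
    (gX : X' ⟶ X) (p' : X' ⟶ Z') (sq : IsPullback gX p' p g) (T : Set (AlgSp.Points X)) :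
    Set.range (AlgSp.Points.map g) ⊆ (AlgSp.Points.map p '' Tᶜ)ᶜ ↔
      ∀ x' : AlgSp.Points X', AlgSp.Points.map gX x' ∈ T := by
  constructor
  · intro H x'
    by_contra hx
    have h1 : AlgSp.Points.map p (AlgSp.Points.map gX x') ∈
        AlgSp.Points.map p '' Tᶜ := ⟨_, hx, rfl⟩
    have h2 : AlgSp.Points.map p (AlgSp.Points.map gX x') =
        AlgSp.Points.map g (AlgSp.Points.map p' x') := by
      rw [← AlgSp.Points.map_comp, ← AlgSp.Points.map_comp, sq.w]
    rw [h2] at h1
    exact H ⟨_, rfl⟩ h1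
  · rintro H _ ⟨z', rfl⟩ ⟨x, hx, hxz⟩
    obtain ⟨x', hx'1, hx'2⟩ := Groth.Agent.S10175.exists_point_of_isPullback sq.flip z' x hxz.symm
    apply hx
    rw [← hx'2]
    exact H x'

/-- the factorization criterion for the open subspace `exists_open_where`. -/
theorem factor_iff {X Z Z' W : AlgSp.Space S} {X' : AlgSp.Sp S} (p : X ⟶ Z) (g : Z' ⟶ Z)
    (gX : X' ⟶ X.obj) (p' : X' ⟶ Z'.obj) (sq : IsPullback gX p' p.hom g.hom)
    (T : Set (AlgSp.Points X.obj)) (w : W ⟶ Z) (hw : AlgSp.RepWith @IsOpenImmersion w.hom)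
    (hrange : Set.range (AlgSp.Points.map w.hom) = (AlgSp.Points.map p.hom '' Tᶜ)ᶜ) :
    (∃ k : Z' ⟶ W, k ≫ w = g) ↔ ∀ x' : AlgSp.Points X', AlgSp.Points.map gX x' ∈ T := by
  rw [Groth.Agent.S10194.result w hw g, hrange]
  exact range_subset_iff p.hom g.hom gX p' sq T

/-- an open subspace with prescribed open set of points. -/
theorem exists_open_of_isOpen (Z : AlgSp.Space S) (O : Set (AlgSp.Points Z.obj)) (hO : IsOpen O) :
    ∃ (W : AlgSp.Space S) (w : W ⟶ Z), AlgSp.RepWith @IsOpenImmersion w.hom ∧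
      Set.range (AlgSp.Points.map w.hom) = O :=
  ⟨⟨OpenSub.obj Z.obj _, OpenSub.isAlgSpace_obj Z.property hO⟩,
    ObjectProperty.homMk (OpenSub.incl Z.obj _), OpenSub.repWith_incl hO,
    OpenSub.range_map_incl _⟩

/-- surjectivity of a base change in terms of the image. -/
theorem surjective_baseChange_iff {X Y X' Y' : AlgSp.Sp S} (f : X ⟶ Y) (gY : Y' ⟶ Y)
    (gX : X' ⟶ X) (f' : X' ⟶ Y') (sq : IsPullback gX f' f gY) (T : Set (AlgSp.Points X))
    (hT : ∀ x' : AlgSp.Points X', AlgSp.Points.map gX x' ∈ T) :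
    Function.Surjective (AlgSp.Points.map f') ↔
      ∀ y' : AlgSp.Points Y', AlgSp.Points.map gY y' ∈ AlgSp.Points.map f '' T := by
  constructor
  · intro H y'
    obtain ⟨x', rfl⟩ := H y'
    refine ⟨AlgSp.Points.map gX x', hT x', ?_⟩
    rw [← AlgSp.Points.map_comp, ← AlgSp.Points.map_comp, sq.w]
  · intro H y'
    obtain ⟨x, -, hx⟩ := H y'
    obtain ⟨x', hx'1, -⟩ := Groth.Agent.S10175.exists_point_of_isPullback sq.flip y' x hx.symm
    exact ⟨x', hx'1⟩

end Groth.Agent.Lib.T2H1.Where
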