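import Mathlib
import Groth.Agent.Lib.T2H1DiagLocus
import Groth.Agent.Lib.T2H1Where
import Groth.Agent.S9938

/-!
# Where a morphism is unramified and universally injective: the key equivalence (helper1)
-/

set_option autoImplicit false
set_option linter.unusedVariables false
set_option linter.unusedSectionVars false
set_option linter.style.haveILetI false
universe u
open CategoryTheory CategoryTheory.Limits AlgebraicGeometry
open AlgSp

namespace Groth.Agent.Lib.T2H1.NearLocus

open Groth.Agent.Lib.Helper12 Groth.Agent.Lib.Helper12.LocPCases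

variable {S : Scheme.{u}}

theorem unram_univInj_iff {X Y Z Z' Y' X' XX : AlgSp.Space S} (f : X ⟶ Y) (q : Y ⟶ Z)
    (g : Z' ⟶ Z) (gY : Y' ⟶ Y) (q' : Y' ⟶ Z') (sqY : IsPullback gY.hom q'.hom q.hom g.hom)
    (gX : X' ⟶ X) (f' : X' ⟶ Y') (sqX : IsPullback gX.hom f'.hom f.hom gY.hom)
    (pr0 pr1 : XX ⟶ X) (hXX : IsPullback pr0.hom pr1.hom f.hom f.hom)
    (hlft : AlgSp.LocP @LocallyOfFiniteType f.hom) (Δ : X.obj ⟶ XX.obj)
    (hΔ0 : Δ ≫ pr0.hom = 𝟙 _) (hΔ1 : Δ ≫ pr1.hom = 𝟙 _) :
    Set.range (AlgSp.Points.map g.hom) ⊆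
        (AlgSp.Points.map (pr1.hom ≫ f.hom ≫ q.hom) '' (AlgSp.Points.map Δ ''
          locus (@LocallyOfFiniteType ⊓ @FormallyUnramified) f.hom)ᶜ)ᶜ ↔
      (AlgSp.LocP (@LocallyOfFiniteType ⊓ @FormallyUnramified) f'.hom ∧
        AlgSp.IsUnivInjectiveMor f'.hom) := by
  have sqXX' := IsPullback.of_hasPullback f'.hom f'.hom
  set pr0' := pullback.fst f'.hom f'.hom with hpr0'
  set pr1' := pullback.snd f'.hom f'.hom with hpr1'
  have cXX : (pr0' ≫ gX.hom) ≫ f.hom = (pr1' ≫ gX.hom) ≫ f.hom := by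
    rw [Category.assoc, Category.assoc, sqX.w, ← Category.assoc, ← Category.assoc, sqXX'.w]
  let gXX : pullback f'.hom f'.hom ⟶ XX.obj := hXX.lift _ _ cXX
  have gXX0 : gXX ≫ pr0.hom = pr0' ≫ gX.hom := hXX.lift_fst _ _ _
  have gXX1 : gXX ≫ pr1.hom = pr1' ≫ gX.hom := hXX.lift_snd _ _ _
  have sq1 : IsPullback gXX pr1' pr1.hom gX.hom := by
    refine IsPullback.of_right ?_ gXX1 hXX
    rw [gXX0, sqX.w]
    exact sqXX'.paste_horiz sqX
  have sq2 : IsPullback gXX (pr1' ≫ f'.hom ≫ q'.hom) (pr1.hom ≫ f.hom ≫ q.hom) g.hom :=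
    sq1.paste_vert (sqX.paste_vert sqY)
  rw [Groth.Agent.Lib.T2H1.Where.range_subset_iff _ g.hom gXX _ sq2]
  -- the diagonal square
  have hΔ' : pullback.diagonal f'.hom ≫ gXX = gX.hom ≫ Δ := by
    apply hXX.hom_ext
    · rw [Category.assoc, gXX0, ← Category.assoc, pullback.diagonal_fst, Category.id_comp,
        Category.assoc, hΔ0, Category.comp_id]
    · rw [Category.assoc, gXX1, ← Category.assoc, pullback.diagonal_snd, Category.id_comp,
        Category.assoc, hΔ1, Category.comp_id]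
  have sqΔ : IsPullback (pullback.diagonal f'.hom) gX.hom gXX Δ := by
    refine IsPullback.of_right ?_ hΔ' sq1.flip
    rw [pullback.diagonal_snd, hΔ1]
    exact IsPullback.of_id_fst
  have e1 := locP_iff_forall_mem_locus good_unram X'.property Y'.property f'.hom
  have e2 := locus_baseChange good_unram
    (fun hh hh' qU qV sq hQ u' => near_unram_baseChange hh hh' qU qV sq hQ u')
    X.property Y.property Y'.property f.hom f'.hom gX.hom gY.hom sqX hlft
  have e3 := (Groth.Agent.S9938.result f').2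
  have hinj : ∀ x : AlgSp.Points X.obj,
      AlgSp.Points.map Δ x ∈ AlgSp.Points.map Δ ''
        locus (@LocallyOfFiniteType ⊓ @FormallyUnramified) f.hom →
      x ∈ locus (@LocallyOfFiniteType ⊓ @FormallyUnramified) f.hom := by
    rintro x ⟨y, hy, hxy⟩
    have := congrArg (AlgSp.Points.map pr0.hom) hxy
    rw [← AlgSp.Points.map_comp, ← AlgSp.Points.map_comp, hΔ0, AlgSp.Points.map_id,
      AlgSp.Points.map_id] at this
    rw [← this]
    exact hy
  constructor
  · intro H
    have hUL : ∀ x' : AlgSp.Points X'.obj, AlgSp.Points.map gX.hom x' ∈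
        locus (@LocallyOfFiniteType ⊓ @FormallyUnramified) f.hom := by
      intro x'
      apply hinj
      have := H (AlgSp.Points.map (pullback.diagonal f'.hom) x')
      rw [← AlgSp.Points.map_comp, hΔ', AlgSp.Points.map_comp] at this
      exact this
    refine ⟨e1.2 (fun x' => ?_), e3.2 ?_⟩
    · rw [e2]
      exact hUL x'
    · intro ξ'
      obtain ⟨x, -, hx⟩ := H ξ'
      obtain ⟨x'', -, hx''2⟩ :=
        Groth.Agent.S10175.exists_point_of_isPullback sqΔ.flip x ξ' hx
      exact ⟨x'', hx''2⟩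
  · rintro ⟨h1, h2⟩ ξ'
    obtain ⟨x', rfl⟩ := e3.1 h2 ξ'
    rw [← AlgSp.Points.map_comp, hΔ', AlgSp.Points.map_comp]
    refine ⟨_, ?_, rfl⟩
    have := e1.1 h1 x'
    rw [e2] at this
    exact this

end Groth.Agent.Lib.T2H1.NearLocus
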