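import Mathlib
import Groth.Prelude.Def_RelSpec2
import Groth.Agent.Lib.T2H1PushCoprod

set_option autoImplicit false
universe u
open CategoryTheory CategoryTheory.Limits AlgebraicGeometry TopologicalSpace

namespace Groth.Agent.Lib.T2H1.DirImgCoprod

open Groth.Agent.Lib.T2H1.PushCoprod

variable {X S : Scheme.{u}} (f : X ⟶ S) [QuasiCompact f] [QuasiSeparated f]

/-- the direct image, as a module over the direct image algebra, commutes with coproducts. -/
theorem preservesColimitsOfShape_discrete_dirImg (ι : Type u) :
    PreservesColimitsOfShape (Discrete ι) (AMod.dirImg f) := by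
  haveI h1 : PreservesColimitsOfShape (Discrete ι) (SheafOfModules.toSheaf.{u} X.ringCatSheaf) :=
    Groth.Agent.S0484.preservesColimitsOfShape_toSheaf (Opens.grothendieckTopology X)
      X.ringCatSheaf (Discrete ι)
  haveI h2 : PreservesColimitsOfShape (Discrete ι)
      (SheafOfModules.toSheaf.{u} (AMod.ringSheaf (RelSpec.QCAlg.directImage f))) :=
    Groth.Agent.S0484.preservesColimitsOfShape_toSheaf (Opens.grothendieckTopology S)
      (AMod.ringSheaf (RelSpec.QCAlg.directImage f)) (Discrete ι)
  haveI h4 : PreservesColimitsOfShape (Discrete ι) (Coh.pushAb f) :=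
    preservesColimitsOfShape_discrete_pushAb f ι
  haveI h5 : (SheafOfModules.toSheaf.{u}
      (AMod.ringSheaf (RelSpec.QCAlg.directImage f))).ReflectsIsomorphisms :=
    reflectsIsomorphisms_of_reflectsMonomorphisms_of_reflectsEpimorphisms _
  haveI h6 : ReflectsColimitsOfShape (Discrete ι)
      (SheafOfModules.toSheaf.{u} (AMod.ringSheaf (RelSpec.QCAlg.directImage f))) :=
    reflectsColimitsOfShape_of_reflectsIsomorphisms
  haveI h7 : PreservesColimitsOfShape (Discrete ι)
      (AMod.dirImg f ⋙ SheafOfModules.toSheaf.{u}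
        (AMod.ringSheaf (RelSpec.QCAlg.directImage f))) := by
    change PreservesColimitsOfShape (Discrete ι)
      (SheafOfModules.toSheaf.{u} X.ringCatSheaf ⋙ Coh.pushAb f)
    infer_instance
  exact @preservesColimitsOfShape_of_reflects_of_preserves _ _ _ _ (Discrete ι) _ _ _
    (AMod.dirImg f) (SheafOfModules.toSheaf.{u}
      (AMod.ringSheaf (RelSpec.QCAlg.directImage f))) h7 h6

end Groth.Agent.Lib.T2H1.DirImgCoprod
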