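import Mathlib
import Groth.Agent.Lib.Helper4DVRSch
import Groth.Agent.Lib.Helper4DVREx

/-!
# Discrete valuation rings detecting points in the closure of an image (helper1)
-/

set_option autoImplicit false
universe u
open CategoryTheory CategoryTheory.Limits AlgebraicGeometry IsLocalRing TopologicalSpace

namespace Groth.Agent.Lib.T2H1.DvrClosure

open Groth.Agent.Lib.Helper4.DVRSch Groth.Agent.Lib.Helper4.DVREx

/-- scheme-level core: a specialization `h u ⤳ v` on a locally Noetherian scheme is witnessed by a
discrete valuation ring whose generic point lifts to `U`. -/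
theorem exists_dvr_of_specializes {U V : Scheme.{u}} [IsLocallyNoetherian V] (h : U ⟶ V)
    [LocallyOfFiniteType h] (u : U) (v : V) (hs : h u ⤳ v) :
    ∃ (A : Type u) (_ : CommRing A) (_ : IsDomain A) (_ : IsDiscreteValuationRing A)
      (g : Spec (CommRingCat.of A) ⟶ V) (k : Spec (CommRingCat.of (FractionRing A)) ⟶ U),
      k ≫ h = Spec.map (CommRingCat.ofHom (algebraMap A (FractionRing A))) ≫ g ∧
      g (closedPoint A) = v := by
  by_cases hne : h u = v
  · -- constant family over a power series ring
    let K := U.residueField u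
    let A := PowerSeries K
    refine ⟨A, inferInstance, inferInstance, inferInstance,
      Spec.map (CommRingCat.ofHom (PowerSeries.C (R := K))) ≫ U.fromSpecResidueField u ≫ h,
      Spec.map (CommRingCat.ofHom (algebraMap A (FractionRing A))) ≫
        Spec.map (CommRingCat.ofHom (PowerSeries.C (R := K))) ≫ U.fromSpecResidueField u, ?_, ?_⟩
    · simp only [Category.assoc]
    · rw [Scheme.Hom.comp_apply, Scheme.Hom.comp_apply, Scheme.fromSpecResidueField_apply, hne]
  · have hφ : (h.residueFieldMap u).hom.EssFiniteType :=
      RingHom.EssFiniteType.residueFieldMap (LocallyOfFiniteType.stalkMap h u)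
    obtain ⟨Vd, hVd, g, hg1, hg2⟩ := exists_dvr_hom hs hne (h.residueFieldMap u) hφ
    haveI := hVd
    obtain ⟨a, b, hab, hba, ha, hb⟩ := dvr_bridge Vd
    refine ⟨Vd, inferInstance, inferInstance, hVd, g, Spec.map a ≫ U.fromSpecResidueField u, ?_, hg2⟩
    rw [Category.assoc, ← ha, Spec.map_comp, Category.assoc, hg1]
    congr 1
    exact (Scheme.Hom.SpecMap_residueFieldMap_fromSpecResidueField h u).symm

end Groth.Agent.Lib.T2H1.DvrClosure
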