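import Mathlib
import Groth.Agent.Lib.T2H1DvrClosure
import Groth.Agent.Lib.Helper12FibreSpec
import Groth.Agent.S10175
import Groth.Agent.S10176
import Groth.Agent.S10177

/-!
# Discrete valuation rings and closed maps of algebraic spaces (helper1)
-/

set_option autoImplicit false
universe u
open CategoryTheory CategoryTheory.Limits AlgebraicGeometry TopologicalSpace
open AlgSp

namespace Groth.Agent.Lib.T2H1.DvrClosed

variable {S : Scheme.{u}}

/-- **points in the closure of the image of a closed set are reached by discrete valuation rings**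
whose generic point lies in the closed set. -/
theorem exists_dvr_diagram_of_mem_closure_image {X Y : AlgSp.Sp S} (hYa : AlgSp.IsAlgSpace Y)
    (f : X ⟶ Y) (hft : AlgSp.IsFiniteTypeMor f) (hY : AlgSp.IsLocNoethSp Y)
    (C : Set (AlgSp.Points X)) (hC : IsClosed C) (y : AlgSp.Points Y)
    (hy : y ∈ closure (AlgSp.Points.map f '' C)) :
    ∃ (A : Type u) (_ : CommRing A) (_ : IsDomain A) (_ : IsDiscreteValuationRing A)
      (a : Spec (CommRingCat.of A) ⟶ S)
      (α : (AlgSp.yon S).obj (Over.mk a) ⟶ Y)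
      (κ : (AlgSp.yon S).obj
        (Over.mk (Spec.map (CommRingCat.ofHom (algebraMap A (FractionRing A))) ≫ a)) ⟶ X),
      κ ≫ f = (AlgSp.yon S).map
        (Over.homMk (Spec.map (CommRingCat.ofHom (algebraMap A (FractionRing A))))) ≫ α ∧
      AlgSp.Points.ofPt α (IsLocalRing.closedPoint A) = y ∧
      ∀ t, AlgSp.Points.ofPt κ t ∈ C := by
  obtain ⟨hlft, hqc⟩ := hft
  -- an affine étale chart of `Y` through `y`
  obtain ⟨V₀, b₀, hb₀e, hb₀s⟩ := hYa.atlas
  obtain ⟨v₀, rfl⟩ := Groth.Agent.S10177.surjective_ofPt b₀ hb₀s y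
  obtain ⟨_, ⟨Vo₀, hVo, rfl⟩, hv₀, -⟩ :=
    V₀.left.isBasis_affineOpens.exists_subset_of_mem_open (Set.mem_univ v₀) isOpen_univ
  obtain ⟨Vo, hVo₀⟩ : ∃ Vo : V₀.left.Opens, Vo = Vo₀ := ⟨Vo₀, rfl⟩
  subst hVo₀
  let V : Over S := Over.mk (Vo.ι ≫ V₀.hom)
  let ιV : V ⟶ V₀ := Over.homMk Vo.ι rfl
  haveI : IsAffine V.left := hVo
  let b : (AlgSp.yon S).obj V ⟶ Y := (AlgSp.yon S).map ιV ≫ b₀
  have hb : AlgSp.RepWith @Etale b := by
    refine MorphismProperty.comp_mem _ _ _ ((AlgSp.repWith_yon_map_iff _ _).2 ?_) hb₀e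
    exact (inferInstance : Etale Vo.ι)
  let v : ↥V.left := ⟨v₀, hv₀⟩
  have hbv : AlgSp.Points.ofPt b v = AlgSp.Points.ofPt b₀ v₀ :=
    Groth.Agent.S10176.ofPt_map_comp ιV b₀ v
  haveI : IsLocallyNoetherian V.left :=
    Groth.Agent.Lib.Helper12.FibreSpec.isLocallyNoetherian_of_chart hY b hb
  -- the base change of `X` to `V` is quasi-compact
  have sq : IsPullback (pullback.fst f b) (pullback.snd f b) f b := IsPullback.of_hasPullback f b
  have hVqc : AlgSp.IsQuasiCompactSp ((AlgSp.yon S).obj V) :=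
    ⟨V, 𝟙 _, AlgSp.repWith_id _ V, AlgSp.repWith_id _ V, (inferInstance : CompactSpace ↥V.left)⟩
  obtain ⟨U, c, hce, hcs, hUc⟩ :=
    hqc (AlgSp.IsAlgSpace.yon_obj V) hVqc b (pullback.fst f b) (pullback.snd f b) sq
  obtain ⟨h, hh⟩ := (AlgSp.yon S).map_surjective (c ≫ pullback.snd f b)
  have hfste : AlgSp.RepWith @Etale (pullback.fst f b) :=
    MorphismProperty.of_isPullback (P := AlgSp.RepWith @Etale) sq.flip hb
  have ha : AlgSp.RepWith @Etale (c ≫ pullback.fst f b) :=
    MorphismProperty.comp_mem _ _ _ hce hfste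
  have hcomm : (c ≫ pullback.fst f b) ≫ f = (AlgSp.yon S).map h ≫ b := by
    rw [Category.assoc, pullback.condition, ← Category.assoc, hh]
  haveI : LocallyOfFiniteType h.left := hlft _ _ h ha hb hcomm
  haveI : CompactSpace ↥U.left := hUc
  haveI : IsLocallyNoetherian U.left := LocallyOfFiniteType.isLocallyNoetherian h.left
  -- the closed subscheme of `U` over `C`
  let CU : Closeds ↥U.left :=
    ⟨AlgSp.Points.ofPt (c ≫ pullback.fst f b) ⁻¹' C, hC.preimage (AlgSp.Points.continuous_ofPt _)⟩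
  let I := Scheme.IdealSheafData.vanishingIdeal CU
  let i : I.subscheme ⟶ U.left := I.subschemeι
  have hri : Set.range i = (CU : Set ↥U.left) := by
    rw [Scheme.IdealSheafData.range_subschemeι]
    simp [I]
  haveI : CompactSpace ↥I.subscheme := by
    have : IsCompact (Set.range i) := by
      rw [hri]; exact CU.isClosed.isCompact
    exact (i.isEmbedding.isCompact_iff (s := Set.univ)).2 (by rwa [Set.image_univ]) |>
      isCompact_univ_iff.1
  haveI : IsLocallyNoetherian I.subscheme := LocallyOfFiniteType.isLocallyNoetherian i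
  haveI : QuasiCompact (i ≫ h.left) := inferInstance
  -- `v` lies in the closure of the image
  have hcl : v ∈ closure (Set.range (i ≫ h.left)) := by
    rw [mem_closure_iff]
    intro N hN hvN
    have hopen : IsOpen (AlgSp.Points.ofPt b '' N) := Groth.Agent.S10176.isOpenMap_ofPt b hb N hN
    have hmem : AlgSp.Points.ofPt b₀ v₀ ∈ AlgSp.Points.ofPt b '' N := ⟨v, hvN, hbv⟩
    obtain ⟨_, ⟨v', hv'N, hv'⟩, ⟨x, hxC, rfl⟩⟩ := mem_closure_iff.1 hy _ hopen hmem
    have e : AlgSp.Points.map f x = AlgSp.Points.map b (AlgSp.Points.ofScheme V v') := by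
      rw [← AlgSp.Points.ofPt_eq_map_ofScheme]; exact hv'.symm
    obtain ⟨p, hp1, hp2⟩ := Groth.Agent.S10175.exists_point_of_isPullback sq x _ e
    obtain ⟨u, rfl⟩ := Groth.Agent.S10177.surjective_ofPt c hcs p
    have h1 : AlgSp.Points.ofPt ((AlgSp.yon S).map h) u = AlgSp.Points.ofScheme V v' := by
      rw [hh, ← AlgSp.Points.map_ofPt]; exact hp2
    have h2 := AlgSp.Points.toScheme_ofPt h u
    rw [h1, AlgSp.Points.toScheme_ofScheme] at h2
    have huC : u ∈ Set.range i := by
      rw [hri]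
      change AlgSp.Points.ofPt (c ≫ pullback.fst f b) u ∈ C
      rw [← AlgSp.Points.map_ofPt, hp1]
      exact hxC
    obtain ⟨t, rfl⟩ := huC
    exact ⟨v', hv'N, t, by rw [Scheme.Hom.comp_apply]; exact h2.symm⟩
  obtain ⟨t, hs⟩ := Groth.Agent.Lib.Helper4.DVRSch.exists_specializes_of_mem_closure_range
    (i ≫ h.left) hcl
  obtain ⟨A, iA, iD, iDVR, g, k, hk, hg⟩ :=
    Groth.Agent.Lib.T2H1.DvrClosure.exists_dvr_of_specializes (i ≫ h.left) t v hs
  have hkw : (k ≫ i) ≫ U.hom =
      Spec.map (CommRingCat.ofHom (algebraMap A (FractionRing A))) ≫ g ≫ V.hom := by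
    rw [← Over.w h, ← Category.assoc, Category.assoc k, hk, Category.assoc]
  let gO : Over.mk (g ≫ V.hom) ⟶ V := Over.homMk g rfl
  let kO : Over.mk (Spec.map (CommRingCat.ofHom (algebraMap A (FractionRing A))) ≫ g ≫ V.hom) ⟶ U :=
    Over.homMk (k ≫ i) hkw
  refine ⟨A, iA, iD, iDVR, g ≫ V.hom, (AlgSp.yon S).map gO ≫ b,
    (AlgSp.yon S).map kO ≫ c ≫ pullback.fst f b, ?_, ?_, ?_⟩
  · have e1 : kO ≫ h = (Over.homMk (Spec.map (CommRingCat.ofHom (algebraMap A (FractionRing A)))) rfl :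
        Over.mk (Spec.map (CommRingCat.ofHom (algebraMap A (FractionRing A))) ≫ g ≫ V.hom) ⟶
          Over.mk (g ≫ V.hom)) ≫ gO := by
      ext
      change (k ≫ i) ≫ h.left = _
      rw [Category.assoc]
      exact hk
    rw [Category.assoc, Category.assoc, pullback.condition, ← Category.assoc c, ← hh]
    have e2 := congrArg (fun m => (AlgSp.yon S).map m ≫ b) e1
    simp only [Functor.map_comp, Category.assoc] at e2
    exact e2
  · rw [Groth.Agent.S10176.ofPt_map_comp]
    change AlgSp.Points.ofPt b (g (IsLocalRing.closedPoint A)) = _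
    rw [hg, hbv]
  · intro t'
    rw [Groth.Agent.S10176.ofPt_map_comp]
    have : kO.left t' ∈ (CU : Set ↥U.left) := by
      rw [← hri]
      exact ⟨k t', by rw [← Scheme.Hom.comp_apply]; rfl⟩
    exact this

end Groth.Agent.Lib.T2H1.DvrClosed
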