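import Mathlib
import Groth.Prelude.Def_AlgSp4
import Groth.Prelude.Def_MoreMor
import Groth.Agent.Lib.Helper12BaseLocal
import Groth.Agent.Lib.Helper12LocPNbhd
import Groth.Agent.Lib.T2H1Tower
import Groth.Agent.S1386

/-!
# The fibrewise criterion of flatness for algebraic spaces (helper1)
-/

set_option autoImplicit false
universe u
open CategoryTheory CategoryTheory.Limits AlgebraicGeometry Opposite
open AlgSp

namespace Groth.Agent.Lib.T2H1.FibCrit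

variable {S : Scheme.{u}}

section FibreChart

variable {X Z : AlgSp.Sp S} (g : X ⟶ Z) {U W κ Us : Over S} (c : (AlgSp.yon S).obj W ⟶ Z)
  (a : (AlgSp.yon S).obj U ⟶ X) (k : U ⟶ W) (hak : a ≫ g = (AlgSp.yon S).map k ≫ c)
  (ι : κ ⟶ W) (p₁ : Us ⟶ U) (p₂ : Us ⟶ κ)
  {Xz : AlgSp.Sp S} (pX : Xz ⟶ X) (qX : Xz ⟶ (AlgSp.yon S).obj κ)

/-- the chart of the fibre induced by a chart diagram. -/
noncomputable def fibreChart (sqX : IsPullback pX qX g ((AlgSp.yon S).map ι ≫ c))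
    (hp : p₁ ≫ k = p₂ ≫ ι) : (AlgSp.yon S).obj Us ⟶ Xz :=
  sqX.lift ((AlgSp.yon S).map p₁ ≫ a) ((AlgSp.yon S).map p₂) (by
    rw [Category.assoc, hak, ← Category.assoc, ← Functor.map_comp, hp, Functor.map_comp,
      Category.assoc])

lemma fibreChart_fst (sqX : IsPullback pX qX g ((AlgSp.yon S).map ι ≫ c))
    (hp : p₁ ≫ k = p₂ ≫ ι) :
    fibreChart g c a k hak ι p₁ p₂ pX qX sqX hp ≫ pX = (AlgSp.yon S).map p₁ ≫ a :=
  sqX.lift_fst _ _ _

lemma fibreChart_snd (sqX : IsPullback pX qX g ((AlgSp.yon S).map ι ≫ c))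
    (hp : p₁ ≫ k = p₂ ≫ ι) :
    fibreChart g c a k hak ι p₁ p₂ pX qX sqX hp ≫ qX = (AlgSp.yon S).map p₂ :=
  sqX.lift_snd _ _ _

/-- the chart of the fibre is étale when the chart of the base change is. -/
theorem repWith_etale_fibreChart (sqX : IsPullback pX qX g ((AlgSp.yon S).map ι ≫ c))
    (sqU : IsPullback p₁ p₂ k ι)
    (hφ : AlgSp.RepWith @Etale (pullback.lift a ((AlgSp.yon S).map k) hak)) :
    AlgSp.RepWith @Etale (fibreChart g c a k hak ι p₁ p₂ pX qX sqX sqU.w) := by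
  have hψc : pX ≫ g = (qX ≫ (AlgSp.yon S).map ι) ≫ c := by rw [sqX.w, Category.assoc]
  let ψ : Xz ⟶ pullback g c := pullback.lift pX (qX ≫ (AlgSp.yon S).map ι) hψc
  have hψ1 : ψ ≫ pullback.fst g c = pX := pullback.lift_fst _ _ _
  have hψ2 : ψ ≫ pullback.snd g c = qX ≫ (AlgSp.yon S).map ι := pullback.lift_snd _ _ _
  have big : IsPullback (ψ ≫ pullback.fst g c) qX g ((AlgSp.yon S).map ι ≫ c) := by
    rw [hψ1]
    exact sqX
  have R : IsPullback ψ qX (pullback.snd g c) ((AlgSp.yon S).map ι) :=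
    IsPullback.of_right big hψ2 (IsPullback.of_hasPullback g c)
  have outer : IsPullback ((AlgSp.yon S).map p₁)
      (fibreChart g c a k hak ι p₁ p₂ pX qX sqX sqU.w ≫ qX)
      (pullback.lift a ((AlgSp.yon S).map k) hak ≫ pullback.snd g c) ((AlgSp.yon S).map ι) := by
    rw [fibreChart_snd, pullback.lift_snd]
    exact sqU.map (AlgSp.yon S)
  have hcomm : (AlgSp.yon S).map p₁ ≫ pullback.lift a ((AlgSp.yon S).map k) hak =
      fibreChart g c a k hak ι p₁ p₂ pX qX sqX sqU.w ≫ ψ := by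
    apply pullback.hom_ext
    · rw [Category.assoc, pullback.lift_fst, Category.assoc, hψ1, fibreChart_fst]
    · rw [Category.assoc, pullback.lift_snd, Category.assoc, hψ2, ← Category.assoc, fibreChart_snd,
        ← Functor.map_comp, ← Functor.map_comp, sqU.w]
  have L := IsPullback.of_bot outer hcomm R
  exact MorphismProperty.of_isPullback (P := AlgSp.RepWith @Etale) L hφ

end FibreChart



section Compat

variable {X Y Z : AlgSp.Sp S} (f : X ⟶ Y) (h : Y ⟶ Z) {U V W κ Us Vs : Over S}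
  (c : (AlgSp.yon S).obj W ⟶ Z) (a : (AlgSp.yon S).obj U ⟶ X) (b : (AlgSp.yon S).obj V ⟶ Y)
  (u : U ⟶ V) (v : V ⟶ W) (hab : a ≫ f = (AlgSp.yon S).map u ≫ b)
  (hbc : b ≫ h = (AlgSp.yon S).map v ≫ c) (hak : a ≫ (f ≫ h) = (AlgSp.yon S).map (u ≫ v) ≫ c)
  (ι : κ ⟶ W) (p₁U : Us ⟶ U) (p₂U : Us ⟶ κ) (p₁V : Vs ⟶ V) (p₂V : Vs ⟶ κ) (m : Us ⟶ Vs)
  {Xz Yz : AlgSp.Sp S} (pX : Xz ⟶ X) (qX : Xz ⟶ (AlgSp.yon S).obj κ)
  (pY : Yz ⟶ Y) (qY : Yz ⟶ (AlgSp.yon S).obj κ) (fz : Xz ⟶ Yz)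

include hab in
/-- the charts of the fibres are compatible with the maps of fibres. -/
lemma fibreChart_comp (sqX : IsPullback pX qX (f ≫ h) ((AlgSp.yon S).map ι ≫ c))
    (sqY : IsPullback pY qY h ((AlgSp.yon S).map ι ≫ c))
    (hpU : p₁U ≫ (u ≫ v) = p₂U ≫ ι) (hpV : p₁V ≫ v = p₂V ≫ ι)
    (hm1 : m ≫ p₁V = p₁U ≫ u) (hm2 : m ≫ p₂V = p₂U)
    (hf1 : fz ≫ pY = pX ≫ f) (hf2 : fz ≫ qY = qX) :
    fibreChart (f ≫ h) c a (u ≫ v) hak ι p₁U p₂U pX qX sqX hpU ≫ fz =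
      (AlgSp.yon S).map m ≫ fibreChart h c b v hbc ι p₁V p₂V pY qY sqY hpV := by
  apply sqY.hom_ext
  · have e1 : (fibreChart (f ≫ h) c a (u ≫ v) hak ι p₁U p₂U pX qX sqX hpU ≫ fz) ≫ pY =
        (AlgSp.yon S).map p₁U ≫ a ≫ f := by
      rw [Category.assoc, hf1, ← Category.assoc, fibreChart_fst, Category.assoc]
    have e2 : ((AlgSp.yon S).map m ≫ fibreChart h c b v hbc ι p₁V p₂V pY qY sqY hpV) ≫ pY =
        (AlgSp.yon S).map p₁U ≫ a ≫ f := by
      rw [Category.assoc, fibreChart_fst, ← Category.assoc, ← Functor.map_comp, hm1,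
        Functor.map_comp, Category.assoc, hab]
    rw [e1, e2]
  · have e1 : (fibreChart (f ≫ h) c a (u ≫ v) hak ι p₁U p₂U pX qX sqX hpU ≫ fz) ≫ qY =
        (AlgSp.yon S).map p₂U := by
      rw [Category.assoc, hf2, fibreChart_snd]
    have e2 : ((AlgSp.yon S).map m ≫ fibreChart h c b v hbc ι p₁V p₂V pY qY sqY hpV) ≫ qY =
        (AlgSp.yon S).map p₂U := by
      rw [Category.assoc, fibreChart_snd, ← Functor.map_comp, hm2]
    rw [e1, e2]

end Compat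

end Groth.Agent.Lib.T2H1.FibCrit
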