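import Mathlib
import Groth.Agent.Lib.T2H1FibCrit
import Groth.Agent.Lib.Helper9SpPoint5

/-!
# The fibrewise criterion of flatness for algebraic spaces, main part (helper1)
-/

set_option autoImplicit false
universe u
open CategoryTheory CategoryTheory.Limits AlgebraicGeometry Opposite
open AlgSp

namespace Groth.Agent.Lib.T2H1.FibCrit

variable {S : Scheme.{u}}

section Main

variable {X Y Z : AlgSp.Sp S} (f : X ⟶ Y) (h : Y ⟶ Z)

/-- the hypothesis on fibres. -/
def FibresFlat : Prop :=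
  ∀ (K : Type u) [Field K] (sK : Spec (CommRingCat.of K) ⟶ S)
    (z : (AlgSp.yon S).obj (Over.mk sK) ⟶ Z) (Xz Yz : AlgSp.Sp S)
    (pX : Xz ⟶ X) (qX : Xz ⟶ (AlgSp.yon S).obj (Over.mk sK))
    (pY : Yz ⟶ Y) (qY : Yz ⟶ (AlgSp.yon S).obj (Over.mk sK)) (fz : Xz ⟶ Yz),
    IsPullback pX qX (f ≫ h) z → IsPullback pY qY h z → fz ≫ pY = pX ≫ f → fz ≫ qY = qX →
    AlgSp.LocP @Flat fz

variable {f h}

/-- flatness of the fibre maps of a tower of charts. -/
theorem flat_fiberMap_of_tower (hX : AlgSp.IsAlgSpace X) (hY : AlgSp.IsAlgSpace Y)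
    (hZ : AlgSp.IsAlgSpace Z) (hfib : FibresFlat f h)
    {U V W : Over S} (a : (AlgSp.yon S).obj U ⟶ X) (b : (AlgSp.yon S).obj V ⟶ Y)
    (c : (AlgSp.yon S).obj W ⟶ Z) (u : U ⟶ V) (v : V ⟶ W)
    (ha : AlgSp.RepWith @Etale a) (hb : AlgSp.RepWith @Etale b) (hc : AlgSp.RepWith @Etale c)
    (hab : a ≫ f = (AlgSp.yon S).map u ≫ b) (hbc : b ≫ h = (AlgSp.yon S).map v ≫ c)
    (s : W.left) : Flat (MoreMor.fiberMap u.left v.left s) := by
  have hak : a ≫ (f ≫ h) = (AlgSp.yon S).map (u ≫ v) ≫ c := by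
    rw [← Category.assoc, hab, Category.assoc, hbc, Functor.map_comp, Category.assoc]
  let sK : Spec (CommRingCat.of (W.left.residueField s)) ⟶ S :=
    W.left.fromSpecResidueField s ≫ W.hom
  let ι : Over.mk sK ⟶ W := Over.homMk (W.left.fromSpecResidueField s) rfl
  have hLoc := hfib (W.left.residueField s) sK ((AlgSp.yon S).map ι ≫ c)
    (pullback (f ≫ h) ((AlgSp.yon S).map ι ≫ c)) (pullback h ((AlgSp.yon S).map ι ≫ c))
    (pullback.fst _ _) (pullback.snd _ _) (pullback.fst _ _) (pullback.snd _ _)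
    (pullback.lift (pullback.fst _ _ ≫ f) (pullback.snd _ _) (by
      rw [Category.assoc]
      exact pullback.condition))
    (IsPullback.of_hasPullback _ _) (IsPullback.of_hasPullback _ _)
    (pullback.lift_fst _ _ _) (pullback.lift_snd _ _ _)
  -- the fibres as schemes over `S`
  let Us : Over S := Over.mk ((u.left ≫ v.left).fiberι s ≫ U.hom)
  let Vs : Over S := Over.mk (v.left.fiberι s ≫ V.hom)
  let p₁U : Us ⟶ U := Over.homMk ((u.left ≫ v.left).fiberι s) rfl
  let p₁V : Vs ⟶ V := Over.homMk (v.left.fiberι s) rfl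
  have hwU : (u.left ≫ v.left).fiberToSpecResidueField s ≫ sK =
      (u.left ≫ v.left).fiberι s ≫ U.hom := by
    change _ ≫ (_ ≫ W.hom) = _
    rw [← Category.assoc, ← (u.left ≫ v.left).fiber_fac s, Category.assoc, Category.assoc,
      Over.w v, Over.w u]
  have hwV : v.left.fiberToSpecResidueField s ≫ sK = v.left.fiberι s ≫ V.hom := by
    change _ ≫ (_ ≫ W.hom) = _
    rw [← Category.assoc, ← v.left.fiber_fac s, Category.assoc, Over.w v]
  let p₂U : Us ⟶ Over.mk sK := Over.homMk ((u.left ≫ v.left).fiberToSpecResidueField s) hwU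
  let p₂V : Vs ⟶ Over.mk sK := Over.homMk (v.left.fiberToSpecResidueField s) hwV
  have cU : p₁U ≫ (u ≫ v) = p₂U ≫ ι := by
    apply Over.OverMorphism.ext
    exact (u.left ≫ v.left).fiber_fac s
  have cV : p₁V ≫ v = p₂V ≫ ι := by
    apply Over.OverMorphism.ext
    exact v.left.fiber_fac s
  have sqU : IsPullback p₁U p₂U (u ≫ v) ι :=
    IsPullback.of_map (Over.forget S) cU
      (IsPullback.of_hasPullback (u.left ≫ v.left) (W.left.fromSpecResidueField s))
  have sqV : IsPullback p₁V p₂V v ι :=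
    IsPullback.of_map (Over.forget S) cV
      (IsPullback.of_hasPullback v.left (W.left.fromSpecResidueField s))
  have hm : MoreMor.fiberMap u.left v.left s ≫ Vs.hom = Us.hom := by
    change _ ≫ (v.left.fiberι s ≫ V.hom) = (u.left ≫ v.left).fiberι s ≫ U.hom
    have h1 : MoreMor.fiberMap u.left v.left s ≫ v.left.fiberι s =
        (u.left ≫ v.left).fiberι s ≫ u.left := pullback.lift_fst _ _ _
    rw [← Category.assoc, h1, Category.assoc, Over.w u]
  let m : Us ⟶ Vs := Over.homMk (MoreMor.fiberMap u.left v.left s) hm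
  have hm1 : m ≫ p₁V = p₁U ≫ u := by
    apply Over.OverMorphism.ext
    exact pullback.lift_fst _ _ _
  have hm2 : m ≫ p₂V = p₂U := by
    apply Over.OverMorphism.ext
    exact pullback.lift_snd _ _ _
  -- the charts of the fibres
  have hφU := Groth.Agent.Lib.Helper12.BaseLocal.repWith_etale_lift hX hZ (f ≫ h) a c (u ≫ v) ha hc hak
  have hφV := Groth.Agent.Lib.Helper12.BaseLocal.repWith_etale_lift hY hZ h b c v hb hc hbc
  have haS := repWith_etale_fibreChart (f ≫ h) c a (u ≫ v) hak ι p₁U p₂U _ _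
    (IsPullback.of_hasPullback _ _) sqU hφU
  have hbS := repWith_etale_fibreChart h c b v hbc ι p₁V p₂V _ _
    (IsPullback.of_hasPullback _ _) sqV hφV
  refine hLoc _ _ m haS hbS ?_
  exact fibreChart_comp f h c a b u v hab hbc hak ι p₁U p₂U p₁V p₂V m _ _ _ _ _
    (IsPullback.of_hasPullback _ _) (IsPullback.of_hasPullback _ _) cU cV hm1 hm2
    (pullback.lift_fst _ _ _) (pullback.lift_snd _ _ _)


/-- in a tower of charts, the top map is flat and the bottom map is flat at the image points. -/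
lemma tower_flat (hX : AlgSp.IsAlgSpace X) (hY : AlgSp.IsAlgSpace Y)
    (hZ : AlgSp.IsAlgSpace Z) (hfp : AlgSp.LocP @LocallyOfFinitePresentation (f ≫ h))
    (hfl : AlgSp.LocP @Flat (f ≫ h)) (hft : AlgSp.LocP @LocallyOfFiniteType h)
    (hfib : FibresFlat f h)
    {U V W : Over S} (a : (AlgSp.yon S).obj U ⟶ X) (b : (AlgSp.yon S).obj V ⟶ Y)
    (c : (AlgSp.yon S).obj W ⟶ Z) (u : U ⟶ V) (v : V ⟶ W)
    (ha : AlgSp.RepWith @Etale a) (hb : AlgSp.RepWith @Etale b) (hc : AlgSp.RepWith @Etale c)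
    (hab : a ≫ f = (AlgSp.yon S).map u ≫ b) (hbc : b ≫ h = (AlgSp.yon S).map v ≫ c) :
    Flat u.left ∧ LocallyOfFinitePresentation u.left ∧
      ∀ x : U.left, (v.left.stalkMap (u.left x)).hom.Flat := by
  have hak : a ≫ (f ≫ h) = (AlgSp.yon S).map (u ≫ v) ≫ c := by
    rw [← Category.assoc, hab, Category.assoc, hbc, Functor.map_comp, Category.assoc]
  haveI h1 : LocallyOfFinitePresentation (u.left ≫ v.left) := hfp a c (u ≫ v) ha hc hak
  haveI h2 : Flat (u.left ≫ v.left) := hfl a c (u ≫ v) ha hc hak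
  haveI h3 : LocallyOfFiniteType v.left := hft b c v hb hc hbc
  have key := (Groth.Agent.S1386.result u.left v.left).1
  have hall : ∀ x : U.left, (v.left.stalkMap (u.left x)).hom.Flat ∧
      (u.left.stalkMap x).hom.Flat := fun x =>
    (key x).1 ⟨Flat.stalkMap _ x, by
      haveI := flat_fiberMap_of_tower hX hY hZ hfib a b c u v ha hb hc hab hbc
        (v.left (u.left x))
      exact Flat.stalkMap _ _⟩
  exact ⟨(Flat.iff_flat_stalkMap _).2 (fun x => (hall x).2),
    Groth.Agent.Lib.Helper6.locallyOfFinitePresentation_of_comp (g := v.left) h3 h1,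
    fun x => (hall x).1⟩

open Groth.Agent.Lib.Helper12.LocPCases in
/-- the fibrewise criterion of flatness for algebraic spaces. -/
theorem flat_of_flat_fibres (hX : AlgSp.IsAlgSpace X) (hY : AlgSp.IsAlgSpace Y)
    (hZ : AlgSp.IsAlgSpace Z) (hfp : AlgSp.LocP @LocallyOfFinitePresentation (f ≫ h))
    (hfl : AlgSp.LocP @Flat (f ≫ h)) (hft : AlgSp.LocP @LocallyOfFiniteType h)
    (hfib : FibresFlat f h) :
    AlgSp.LocP @Flat f ∧ (Function.Surjective (AlgSp.Points.map f) → AlgSp.LocP @Flat h) := by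
  constructor
  · rw [Groth.Agent.Lib.Helper12.LocPNbhd.locP_iff_forall_hasAtMor good_flat hX hY]
    intro x
    obtain ⟨U, V, W, a, b, c, u, v, u₀, ha, hb, hc, hab, hbc, hu₀, -⟩ :=
      Groth.Agent.Lib.T2H1.Tower.exists_tower hX hY hZ f h x
    obtain ⟨hfl', -, -⟩ := tower_flat hX hY hZ hfp hfl hft hfib a b c u v ha hb hc hab hbc
    refine ⟨U, V, a, b, u, u₀, ha, hb, hab, hu₀, ⊤, trivial, ?_⟩
    haveI := hfl'
    infer_instance
  · intro hsurj
    rw [Groth.Agent.Lib.Helper12.LocPNbhd.locP_iff_forall_hasAtMor good_flat hY hZ]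
    intro y
    obtain ⟨x, rfl⟩ := hsurj y
    obtain ⟨U, V, W, a, b, c, u, v, u₀, ha, hb, hc, hab, hbc, hu₀, -⟩ :=
      Groth.Agent.Lib.T2H1.Tower.exists_tower hX hY hZ f h x
    obtain ⟨hfl', hlfp', hv⟩ := tower_flat hX hY hZ hfp hfl hft hfib a b c u v ha hb hc hab hbc
    haveI := hfl'
    haveI := hlfp'
    have hopen : IsOpen (Set.range u.left) := u.left.isOpenMap.isOpen_range
    let N : V.left.Opens := ⟨Set.range u.left, hopen⟩
    refine ⟨V, W, b, c, v, u.left u₀, hb, hc, hbc, ?_, N, ⟨u₀, rfl⟩, ?_⟩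
    · rw [← Groth.Agent.Lib.Helper9.SpPoint.ofPt_yon_map_comp, ← hab, ← AlgSp.Points.map_ofPt, hu₀]
    · rw [Flat.iff_flat_stalkMap]
      intro n
      rw [Groth.Agent.Lib.Helper3.FibCritSch.flat_stalkMap_ι_comp_iff]
      obtain ⟨x', hx'⟩ := n.2
      have := hv x'
      rw [hx'] at this
      exact this

end Main

end Groth.Agent.Lib.T2H1.FibCrit
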