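import Mathlib
import Groth.Prelude.Def_AlgSpMor5
import Groth.Prelude.Def_AlgSpDec
import Groth.Prelude.Def_Dual3
import Groth.Agent.Lib.T2H1FibCrit2
import Groth.Agent.Lib.T2H1FlatLocusSp
import Groth.Agent.Lib.Helper12FibreSpec
import Groth.Agent.Lib.Helper5FiberMor
import Groth.Agent.Lib.Helper5GorRing
import Groth.Agent.S3625
import Groth.Agent.S3627
import Groth.Agent.S10176

/-!
# Gorenstein morphisms of algebraic spaces at a point (helper1)
-/

set_option autoImplicit false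
set_option linter.unusedVariables false
set_option linter.unusedSectionVars false
set_option linter.style.haveILetI false
universe u
open CategoryTheory CategoryTheory.Limits AlgebraicGeometry
open AlgSp

namespace Groth.Agent.Lib.T2H1.GorSp

open Groth.Agent.Lib.T2H1.FlatLocus Groth.Agent.Lib.Helper5.FiberMor

/-- an etale morphism is Gorenstein at every point. -/
theorem gorAt_of_etale {U V : Scheme.{u}} (e : U ⟶ V) [Etale e] (x : U) :
    Dual3.IsGorensteinAt e x := by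
  refine ⟨Flat.stalkMap e x, ?_⟩
  rw [fiber_stalk_iff e x isoInv_gor]
  algebraize [(e.stalkMap x).hom]
  haveI : IsLocalHom (algebraMap (V.presheaf.stalk (e x)) (U.presheaf.stalk x)) :=
    inferInstanceAs <| IsLocalHom (e.stalkMap x).hom
  haveI : Algebra.EssFiniteType (V.presheaf.stalk (e x)) (U.presheaf.stalk x) := by
    rw [← RingHom.essFiniteType_algebraMap, RingHom.algebraMap_toAlgebra]
    exact LocallyOfFiniteType.stalkMap e x
  haveI : Algebra.FormallyUnramified (V.presheaf.stalk (e x)) (U.presheaf.stalk x) := by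
    rw [← RingHom.formallyUnramified_algebraMap, RingHom.algebraMap_toAlgebra]
    exact FormallyUnramified.stalkMap e x
  have hF := Algebra.FormallyUnramified.isField_quotient_map_maximalIdeal
    (R := V.presheaf.stalk (e x)) (S := U.presheaf.stalk x)
  letI := hF.toField
  exact Groth.Agent.Lib.Helper5.GorRing.gorLocal_of_field _

/-- the fibres of an etale morphism are locally Noetherian. -/
theorem isLocallyNoetherian_fiber_of_etale {U V : Scheme.{u}} (e : U ⟶ V) [Etale e] (y : V) :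
    IsLocallyNoetherian (e.fiber y) := by
  haveI : Etale (e.fiberToSpecResidueField y) :=
    MorphismProperty.pullback_snd (P := @Etale) e (V.fromSpecResidueField y) inferInstance
  exact LocallyOfFiniteType.isLocallyNoetherian (e.fiberToSpecResidueField y)

/-- Gorensteinness at a point is insensitive to an etale refinement of source and target. -/
theorem gor_refine_iff {U V U'' V'' : Scheme.{u}} (h : U ⟶ V) (h'' : U'' ⟶ V'')
    (α : U'' ⟶ U) (β : V'' ⟶ V) [Etale α] [Etale β] (w : h'' ≫ β = α ≫ h)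
    (hfh : ∀ y, IsLocallyNoetherian (h.fiber y))
    (hfh'' : ∀ y, IsLocallyNoetherian (h''.fiber y))
    (hfαh : ∀ y, IsLocallyNoetherian ((α ≫ h).fiber y)) (x : U'') :
    Dual3.IsGorensteinAt h'' x ↔ Dual3.IsGorensteinAt h (α x) := by
  have hfh''β : ∀ y, IsLocallyNoetherian ((h'' ≫ β).fiber y) := by
    rw [w]
    exact hfαh
  have A := Groth.Agent.S3627.result U'' V'' V h'' β hfh''
    (isLocallyNoetherian_fiber_of_etale β) hfh''β x
  have B := Groth.Agent.S3627.result U'' U V α h (isLocallyNoetherian_fiber_of_etale α) hfh hfαh x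
  have key : Dual3.IsGorensteinAt (h'' ≫ β) x ↔ Dual3.IsGorensteinAt (α ≫ h) x := by
    rw [w]
  constructor
  · intro H
    have h1 := A.1 H (gorAt_of_etale β _)
    exact (B.2 (key.1 h1) (Flat.stalkMap α x)).2
  · intro H
    have h1 := B.1 (gorAt_of_etale α x) H
    have hfl : (h''.stalkMap x).hom.Flat := (flat_stalkMap_refine_iff h h'' α β w x).2 H.1
    exact (A.2 (key.2 h1) hfl).1

variable {S : Scheme.{u}}

/-- the fibres of the top arrow of a chart diagram are locally Noetherian if the fibres of the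
morphism are. -/
theorem isLocallyNoetherian_fiber_of_chart {X Y : AlgSp.Sp S} (hX : AlgSp.IsAlgSpace X)
    (hY : AlgSp.IsAlgSpace Y) (f : X ⟶ Y)
    (hf : ∀ (k : AlgSp.FieldPt Y) (Xk : AlgSp.Sp S) (a : Xk ⟶ X)
      (b : Xk ⟶ (AlgSp.yon S).obj k.pt), IsPullback a b f k.toHom → AlgSp.IsLocNoethSp Xk)
    {U V : Over S} (a : (AlgSp.yon S).obj U ⟶ X) (b : (AlgSp.yon S).obj V ⟶ Y) (h : U ⟶ V)
    (ha : AlgSp.RepWith @Etale a) (hb : AlgSp.RepWith @Etale b)
    (hab : a ≫ f = (AlgSp.yon S).map h ≫ b) (v : ↥V.left) :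
    IsLocallyNoetherian (h.left.fiber v) := by
  let sK : Spec (CommRingCat.of (V.left.residueField v)) ⟶ S :=
    V.left.fromSpecResidueField v ≫ V.hom
  let ι : Over.mk sK ⟶ V := Over.homMk (V.left.fromSpecResidueField v) rfl
  have hk : (AlgSp.FieldPt.ofPt b v).toHom = (AlgSp.yon S).map ι ≫ b :=
    AlgSp.FieldPt.toHom_ofPt b v
  have hXk : AlgSp.IsLocNoethSp (pullback f ((AlgSp.yon S).map ι ≫ b)) :=
    hf (AlgSp.FieldPt.ofPt b v) (pullback f ((AlgSp.yon S).map ι ≫ b)) (pullback.fst _ _)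
      (pullback.snd _ _) (by rw [hk]; exact IsPullback.of_hasPullback _ _)
  let Us : Over S := Over.mk (h.left.fiberι v ≫ U.hom)
  let p₁ : Us ⟶ U := Over.homMk (h.left.fiberι v) rfl
  have hw : h.left.fiberToSpecResidueField v ≫ sK = h.left.fiberι v ≫ U.hom := by
    change _ ≫ (_ ≫ V.hom) = _
    rw [← Category.assoc, ← h.left.fiber_fac v, Category.assoc, Over.w h]
  let p₂ : Us ⟶ Over.mk sK := Over.homMk (h.left.fiberToSpecResidueField v) hw
  have cU : p₁ ≫ h = p₂ ≫ ι := by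
    apply Over.OverMorphism.ext
    exact h.left.fiber_fac v
  have sqU : IsPullback p₁ p₂ h ι :=
    IsPullback.of_map (Over.forget S) cU
      (IsPullback.of_hasPullback h.left (V.left.fromSpecResidueField v))
  have hφ := Groth.Agent.Lib.Helper12.BaseLocal.repWith_etale_lift hX hY f a b h ha hb hab
  have haS := Groth.Agent.Lib.T2H1.FibCrit.repWith_etale_fibreChart f b a h hab ι p₁ p₂ _ _
    (IsPullback.of_hasPullback _ _) sqU hφ
  exact Groth.Agent.Lib.Helper12.FibreSpec.isLocallyNoetherian_of_chart hXk _ haS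

/-- the hypothesis that the fibres of `f` are locally Noetherian. -/
def FibresLocNoeth {X Y : AlgSp.Sp S} (f : X ⟶ Y) : Prop :=
  ∀ (k : AlgSp.FieldPt Y) (Xk : AlgSp.Sp S) (a : Xk ⟶ X)
    (b : Xk ⟶ (AlgSp.yon S).obj k.pt), IsPullback a b f k.toHom → AlgSp.IsLocNoethSp Xk

/-- Gorensteinness of the top arrow of a chart diagram at a point depends only on the point. -/
theorem gor_chart_iff {X Y : AlgSp.Sp S} (hX : AlgSp.IsAlgSpace X) (hY : AlgSp.IsAlgSpace Y)
    (f : X ⟶ Y) (hf : FibresLocNoeth f) {U V U' V' : Over S}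
    (a : (AlgSp.yon S).obj U ⟶ X) (b : (AlgSp.yon S).obj V ⟶ Y) (h : U ⟶ V) (u : ↥U.left)
    (a' : (AlgSp.yon S).obj U' ⟶ X) (b' : (AlgSp.yon S).obj V' ⟶ Y) (h' : U' ⟶ V')
    (u' : ↥U'.left)
    (ha : AlgSp.RepWith @Etale a) (hb : AlgSp.RepWith @Etale b)
    (hab : a ≫ f = (AlgSp.yon S).map h ≫ b)
    (ha' : AlgSp.RepWith @Etale a') (hb' : AlgSp.RepWith @Etale b')
    (hab' : a' ≫ f = (AlgSp.yon S).map h' ≫ b')
    (hpt : AlgSp.Points.ofPt a u = AlgSp.Points.ofPt a' u') :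
    Dual3.IsGorensteinAt h.left u ↔ Dual3.IsGorensteinAt h'.left u' := by
  obtain ⟨U'', sU, fU, sqU⟩ := ha.1 a'
  obtain ⟨α, rfl⟩ := (AlgSp.yon S).map_surjective fU
  obtain ⟨V'', sV, fV, sqV⟩ := hb.1 b'
  obtain ⟨β, rfl⟩ := (AlgSp.yon S).map_surjective fV
  haveI : Etale sU.left := ha.2 a' _ sU sqU
  haveI : Etale α.left := ha'.2 a _ α sqU.flip
  haveI : Etale sV.left := hb.2 b' _ sV sqV
  haveI : Etale β.left := hb'.2 b _ β sqV.flip
  have compat : (AlgSp.yon S).map (α ≫ h) ≫ b = (AlgSp.yon S).map (sU ≫ h') ≫ b' := by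
    rw [Functor.map_comp, Functor.map_comp, Category.assoc, Category.assoc, ← hab, ← hab',
      ← Category.assoc, ← Category.assoc, sqU.w]
  obtain ⟨h'', hh''⟩ := (AlgSp.yon S).map_surjective (sqV.lift _ _ compat)
  have e1 : h'' ≫ β = α ≫ h := by
    apply (AlgSp.yon S).map_injective
    rw [Functor.map_comp, hh'']
    exact sqV.lift_fst _ _ _
  have e2 : h'' ≫ sV = sU ≫ h' := by
    apply (AlgSp.yon S).map_injective
    rw [Functor.map_comp, hh'']
    exact sqV.lift_snd _ _ _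
  obtain ⟨u'', hu1, hu2⟩ := Groth.Agent.S10176.exists_point_of_isPullback_yon sqU u u' hpt
  -- the chart diagrams
  have hαa : AlgSp.RepWith @Etale ((AlgSp.yon S).map α ≫ a) :=
    (AlgSp.RepWith @Etale).comp_mem _ _ ((AlgSp.repWith_yon_map_iff @Etale α).2 inferInstance) ha
  have hβb : AlgSp.RepWith @Etale ((AlgSp.yon S).map β ≫ b) :=
    (AlgSp.RepWith @Etale).comp_mem _ _ ((AlgSp.repWith_yon_map_iff @Etale β).2 inferInstance) hb
  have hsUa' : AlgSp.RepWith @Etale ((AlgSp.yon S).map sU ≫ a') :=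
    (AlgSp.RepWith @Etale).comp_mem _ _ ((AlgSp.repWith_yon_map_iff @Etale sU).2 inferInstance) ha'
  have d1 : ((AlgSp.yon S).map α ≫ a) ≫ f = (AlgSp.yon S).map (α ≫ h) ≫ b := by
    rw [Category.assoc, hab, Functor.map_comp, Category.assoc]
  have d2 : ((AlgSp.yon S).map α ≫ a) ≫ f = (AlgSp.yon S).map h'' ≫ (AlgSp.yon S).map β ≫ b := by
    rw [d1, ← e1, Functor.map_comp, Category.assoc]
  have d3 : ((AlgSp.yon S).map sU ≫ a') ≫ f = (AlgSp.yon S).map (sU ≫ h') ≫ b' := by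
    rw [Category.assoc, hab', Functor.map_comp, Category.assoc]
  have r1 := gor_refine_iff h.left h''.left α.left β.left
    (by rw [← Over.comp_left, ← Over.comp_left, e1])
    (isLocallyNoetherian_fiber_of_chart hX hY f hf a b h ha hb hab)
    (isLocallyNoetherian_fiber_of_chart hX hY f hf _ _ h'' hαa hβb d2)
    (isLocallyNoetherian_fiber_of_chart hX hY f hf _ b (α ≫ h) hαa hb d1) u''
  have r2 := gor_refine_iff h'.left h''.left sU.left sV.left
    (by rw [← Over.comp_left, ← Over.comp_left, e2])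
    (isLocallyNoetherian_fiber_of_chart hX hY f hf a' b' h' ha' hb' hab')
    (isLocallyNoetherian_fiber_of_chart hX hY f hf _ _ h'' hαa hβb d2)
    (isLocallyNoetherian_fiber_of_chart hX hY f hf _ b' (sU ≫ h') hsUa' hb' d3) u''
  rw [hu1] at r1
  rw [hu2] at r2
  exact r1.symm.trans r2

/-- Gorensteinness at a point can be tested on one chart diagram. -/
theorem locPAt_gor_iff_chart {X Y : AlgSp.Sp S} (hX : AlgSp.IsAlgSpace X)
    (hY : AlgSp.IsAlgSpace Y) (f : X ⟶ Y) (hf : FibresLocNoeth f) {U V : Over S}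
    (a : (AlgSp.yon S).obj U ⟶ X) (b : (AlgSp.yon S).obj V ⟶ Y) (h : U ⟶ V) (u : ↥U.left)
    (ha : AlgSp.RepWith @Etale a) (hb : AlgSp.RepWith @Etale b)
    (hab : a ≫ f = (AlgSp.yon S).map h ≫ b) :
    AlgSp.LocPAt (fun h u => Dual3.IsGorensteinAt h u) f (AlgSp.Points.ofPt a u) ↔
      Dual3.IsGorensteinAt h.left u := by
  constructor
  · intro H
    exact H a b h u ha hb hab rfl
  · intro H U' V' a' b' h' u' ha' hb' hab' hu'
    exact (gor_chart_iff hX hY f hf a b h u a' b' h' u' ha hb hab ha' hb' hab' hu'.symm).1 H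

/-- Gorensteinness at a point and composition, for algebraic spaces. -/
theorem gor_comp {X Y Z : AlgSp.Sp S} (hX : AlgSp.IsAlgSpace X) (hY : AlgSp.IsAlgSpace Y)
    (hZ : AlgSp.IsAlgSpace Z) (f : X ⟶ Y) (g : Y ⟶ Z) (hf : FibresLocNoeth f)
    (hg : FibresLocNoeth g) (hfg : FibresLocNoeth (f ≫ g)) (x : AlgSp.Points X) :
    (AlgSp.LocPAt (fun h u => Dual3.IsGorensteinAt h u) f x →
      AlgSp.LocPAt (fun h u => Dual3.IsGorensteinAt h u) g (AlgSp.Points.map f x) →
        AlgSp.LocPAt (fun h u => Dual3.IsGorensteinAt h u) (f ≫ g) x) ∧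
      (AlgSp.LocPAt (fun h u => Dual3.IsGorensteinAt h u) (f ≫ g) x → AlgSp.IsFlatAtMor f x →
        AlgSp.LocPAt (fun h u => Dual3.IsGorensteinAt h u) f x ∧
          AlgSp.LocPAt (fun h u => Dual3.IsGorensteinAt h u) g (AlgSp.Points.map f x)) := by
  obtain ⟨U, V, W, a, b, c, hh, k, u₀, ha, hb, hc, hab, hbc, hu₀, -⟩ :=
    Groth.Agent.Lib.T2H1.Tower.exists_tower hX hY hZ f g x
  subst hu₀
  have hak : a ≫ (f ≫ g) = (AlgSp.yon S).map (hh ≫ k) ≫ c := by
    rw [← Category.assoc, hab, Category.assoc, hbc, Functor.map_comp, Category.assoc]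
  have hpt : AlgSp.Points.map f (AlgSp.Points.ofPt a u₀) = AlgSp.Points.ofPt b (hh.left u₀) := by
    rw [AlgSp.Points.map_ofPt, hab, Groth.Agent.S10176.ofPt_map_comp]
  rw [hpt, locPAt_gor_iff_chart hX hY f hf a b hh u₀ ha hb hab,
    locPAt_gor_iff_chart hY hZ g hg b c k (hh.left u₀) hb hc hbc,
    locPAt_gor_iff_chart hX hZ (f ≫ g) hfg a c (hh ≫ k) u₀ ha hc hak,
    Groth.Agent.Lib.T2H1.FlatLocusSp.isFlatAtMor_iff_chart f a b hh u₀ ha hb hab]
  exact Groth.Agent.S3627.result U.left V.left W.left hh.left k.left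
    (isLocallyNoetherian_fiber_of_chart hX hY f hf a b hh ha hb hab)
    (isLocallyNoetherian_fiber_of_chart hY hZ g hg b c k hb hc hbc)
    (isLocallyNoetherian_fiber_of_chart hX hZ (f ≫ g) hfg a c (hh ≫ k) ha hc hak) u₀

/-- compatible (cartesian) towers of chart diagrams for a base change (with the compatibility of the
middle charts). -/
theorem exists_cartesian_towers' {X Y Z X' Y' Z' : AlgSp.Sp S} (hX : AlgSp.IsAlgSpace X)
    (hY : AlgSp.IsAlgSpace Y) (hZ : AlgSp.IsAlgSpace Z) (hZ' : AlgSp.IsAlgSpace Z')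
    (f : X ⟶ Y) (h : Y ⟶ Z) (g : Z' ⟶ Z) (f' : X' ⟶ Y') (h' : Y' ⟶ Z') (pX : X' ⟶ X)
    (pY : Y' ⟶ Y) (sqY : IsPullback pY h' h g) (sqX : IsPullback pX f' f pY)
    (x' : AlgSp.Points X') :
    ∃ (U V W U' V' W' : Over S) (a : (AlgSp.yon S).obj U ⟶ X) (b : (AlgSp.yon S).obj V ⟶ Y)
      (c : (AlgSp.yon S).obj W ⟶ Z) (a' : (AlgSp.yon S).obj U' ⟶ X')
      (b' : (AlgSp.yon S).obj V' ⟶ Y') (hh : U ⟶ V) (k : V ⟶ W) (hh' : U' ⟶ V') (k' : V' ⟶ W')
      (qU : U' ⟶ U) (qV : V' ⟶ V) (qW : W' ⟶ W) (u' : ↥U'.left),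
      AlgSp.RepWith @Etale a ∧ AlgSp.RepWith @Etale b ∧ AlgSp.RepWith @Etale c ∧
      AlgSp.RepWith @Etale a' ∧ AlgSp.RepWith @Etale b' ∧
      a ≫ f = (AlgSp.yon S).map hh ≫ b ∧ b ≫ h = (AlgSp.yon S).map k ≫ c ∧
      a' ≫ f' = (AlgSp.yon S).map hh' ≫ b' ∧
      IsPullback qV k' k qW ∧ IsPullback qU hh' hh qV ∧
      a' ≫ pX = (AlgSp.yon S).map qU ≫ a ∧ b' ≫ pY = (AlgSp.yon S).map qV ≫ b ∧
      AlgSp.Points.ofPt a' u' = x' := by
  obtain ⟨U, V, W, a, b, c, hh, k, u₀, ha, hb, hc, hab, hbc, hu₀, -⟩ :=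
    Groth.Agent.Lib.T2H1.Tower.exists_tower hX hY hZ f h (AlgSp.Points.map pX x')
  obtain ⟨Z₀, e, hee, hes⟩ := hZ'.atlas
  obtain ⟨z₀, hz₀⟩ := Groth.Agent.S10177.surjective_ofPt e hes (AlgSp.Points.map (f' ≫ h') x')
  obtain ⟨W', sW, fW, sqW⟩ := hc.1 (e ≫ g)
  obtain ⟨qW, rfl⟩ := (AlgSp.yon S).map_surjective fW
  -- the schemes `V'` and `U'`
  have sqV' := (IsPullback.of_hasPullback k qW).map (AlgSp.yon S)
  have sqU' := (IsPullback.of_hasPullback hh (pullback.fst k qW)).map (AlgSp.yon S)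
  set qV := pullback.fst k qW with hqV
  set k' := pullback.snd k qW with hk'
  set qU := pullback.fst hh qV with hqU
  set hh' := pullback.snd hh qV with hhh'
  have bigV := sqV'.paste_vert sqW
  -- the auxiliary sheaf `Q = h_V ×_Y Y'`
  have sqQ := IsPullback.of_hasPullback b pY
  set q₁ := pullback.fst b pY with hq₁
  set q₂ := pullback.snd b pY with hq₂
  have hq₂e : AlgSp.RepWith @Etale q₂ :=
    MorphismProperty.of_isPullback (P := AlgSp.RepWith @Etale) sqQ hb
  have sqQZ := sqQ.paste_vert sqY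
  have compatb : ((AlgSp.yon S).map qV ≫ b) ≫ h =
      ((AlgSp.yon S).map k' ≫ (AlgSp.yon S).map sW ≫ e) ≫ g := by
    have := bigV.w
    rw [Category.assoc, hbc]
    simpa only [Category.assoc] using this
  let b' : (AlgSp.yon S).obj (pullback k qW) ⟶ Y' := sqY.lift _ _ compatb
  have b'pY : b' ≫ pY = (AlgSp.yon S).map qV ≫ b := sqY.lift_fst _ _ _
  have b'h' : b' ≫ h' = (AlgSp.yon S).map k' ≫ (AlgSp.yon S).map sW ≫ e := sqY.lift_snd _ _ _
  let m : (AlgSp.yon S).obj (pullback k qW) ⟶ pullback b pY :=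
    sqQ.lift ((AlgSp.yon S).map qV) b' b'pY.symm
  have mq₁ : m ≫ q₁ = (AlgSp.yon S).map qV := sqQ.lift_fst _ _ _
  have mq₂ : m ≫ q₂ = b' := sqQ.lift_snd _ _ _
  have sqm : IsPullback m ((AlgSp.yon S).map k' ≫ (AlgSp.yon S).map sW) (q₂ ≫ h') e := by
    refine IsPullback.of_right ?_ ?_ sqQZ
    · rw [mq₁, hbc]
      exact bigV
    · rw [← Category.assoc, mq₂, b'h', Category.assoc]
  have hme : AlgSp.RepWith @Etale m :=
    MorphismProperty.of_isPullback (P := AlgSp.RepWith @Etale) sqm.flip hee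
  have hb'e : AlgSp.RepWith @Etale b' := by
    rw [← mq₂]
    exact (AlgSp.RepWith @Etale).comp_mem _ _ hme hq₂e
  -- the auxiliary sheaf `R = h_U ×_X X'`
  have sqR := IsPullback.of_hasPullback a pX
  set r₁ := pullback.fst a pX with hr₁
  set r₂ := pullback.snd a pX with hr₂
  have hr₂e : AlgSp.RepWith @Etale r₂ :=
    MorphismProperty.of_isPullback (P := AlgSp.RepWith @Etale) sqR ha
  have sqRY := sqR.paste_vert sqX
  have compatn : (r₁ ≫ (AlgSp.yon S).map hh) ≫ b = (r₂ ≫ f') ≫ pY := by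
    rw [Category.assoc, ← hab]
    exact sqRY.w
  let n : pullback a pX ⟶ pullback b pY := sqQ.lift _ _ compatn
  have nq₁ : n ≫ q₁ = r₁ ≫ (AlgSp.yon S).map hh := sqQ.lift_fst _ _ _
  have nq₂ : n ≫ q₂ = r₂ ≫ f' := sqQ.lift_snd _ _ _
  have sqRQ : IsPullback r₁ n ((AlgSp.yon S).map hh) q₁ := by
    refine IsPullback.of_bot ?_ nq₁.symm sqQ
    rw [nq₂, ← hab]
    exact sqRY
  have compata : ((AlgSp.yon S).map qU ≫ a) ≫ f = ((AlgSp.yon S).map hh' ≫ b') ≫ pY := by
    rw [Category.assoc, hab, ← Category.assoc, sqU'.w, Category.assoc, Category.assoc, b'pY]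
  let a' : (AlgSp.yon S).obj (pullback hh qV) ⟶ X' := sqX.lift _ _ compata
  have a'pX : a' ≫ pX = (AlgSp.yon S).map qU ≫ a := sqX.lift_fst _ _ _
  have a'f' : a' ≫ f' = (AlgSp.yon S).map hh' ≫ b' := sqX.lift_snd _ _ _
  let l : (AlgSp.yon S).obj (pullback hh qV) ⟶ pullback a pX :=
    sqR.lift ((AlgSp.yon S).map qU) a' a'pX.symm
  have lr₁ : l ≫ r₁ = (AlgSp.yon S).map qU := sqR.lift_fst _ _ _
  have lr₂ : l ≫ r₂ = a' := sqR.lift_snd _ _ _
  have hln : l ≫ n = (AlgSp.yon S).map hh' ≫ m := by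
    apply sqQ.hom_ext
    · rw [Category.assoc, nq₁, ← Category.assoc, lr₁, Category.assoc, mq₁]
      exact sqU'.w
    · rw [Category.assoc, nq₂, ← Category.assoc, lr₂, a'f', Category.assoc, mq₂]
  have sql : IsPullback l ((AlgSp.yon S).map hh') n m := by
    refine IsPullback.of_right ?_ hln sqRQ
    rw [lr₁, mq₁]
    exact sqU'
  have hle : AlgSp.RepWith @Etale l :=
    MorphismProperty.of_isPullback (P := AlgSp.RepWith @Etale) sql.flip hme
  have ha'e : AlgSp.RepWith @Etale a' := by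
    rw [← lr₂]
    exact (AlgSp.RepWith @Etale).comp_mem _ _ hle hr₂e
  -- the point
  obtain ⟨ρ, hρ1, hρ2⟩ := Groth.Agent.S10175.exists_point_of_isPullback sqR
    (AlgSp.Points.ofScheme U u₀) x' (by rw [← AlgSp.Points.ofPt_eq_map_ofScheme]; exact hu₀)
  obtain ⟨π, hπ1, hπ2⟩ := Groth.Agent.S10175.exists_point_of_isPullback sqm
    (AlgSp.Points.map n ρ) (AlgSp.Points.ofScheme Z₀ z₀) (by
      rw [← AlgSp.Points.ofPt_eq_map_ofScheme, hz₀, ← AlgSp.Points.map_comp,
        ← Category.assoc, nq₂, Category.assoc, AlgSp.Points.map_comp, hρ2])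
  obtain ⟨μ, hμ1, hμ2⟩ := Groth.Agent.S10175.exists_point_of_isPullback sql ρ π hπ1.symm
  obtain ⟨u', rfl⟩ := (AlgSp.Points.schemeHomeo (pullback hh qV)).surjective μ
  refine ⟨U, V, W, pullback hh qV, pullback k qW, W', a, b, c, a', b', hh, k, hh', k', qU, qV, qW,
    u', ha, hb, hc, ha'e, hb'e, hab, hbc, a'f', IsPullback.of_hasPullback k qW,
    IsPullback.of_hasPullback hh qV, a'pX, b'pY, ?_⟩
  rw [AlgSp.Points.ofPt_eq_map_ofScheme, ← lr₂, AlgSp.Points.map_comp]
  change AlgSp.Points.map r₂ (AlgSp.Points.map l (AlgSp.Points.schemeHomeo _ u')) = x'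
  rw [hμ1, hρ2]


/-- the fibres of a base change are locally Noetherian if those of the morphism are. -/
theorem fibresLocNoeth_baseChange {X Y X' Y' : AlgSp.Sp S} (f : X ⟶ Y) (g : Y' ⟶ Y)
    (g' : X' ⟶ X) (f' : X' ⟶ Y') (hsq : IsPullback g' f' f g) (hf : FibresLocNoeth f) :
    FibresLocNoeth f' := by
  intro k' Xk a b sq
  have big := sq.paste_horiz hsq
  refine hf (k'.map g) Xk (a ≫ g') b ?_
  rw [AlgSp.FieldPt.toHom_map]
  exact big

/-- Gorensteinness at a point and base change, for algebraic spaces. -/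
theorem gor_baseChange {X Y X' Y' : AlgSp.Sp S} (hX : AlgSp.IsAlgSpace X)
    (hY : AlgSp.IsAlgSpace Y) (hX' : AlgSp.IsAlgSpace X') (hY' : AlgSp.IsAlgSpace Y')
    (f : X ⟶ Y) (g : Y' ⟶ Y) (g' : X' ⟶ X) (f' : X' ⟶ Y') (hsq : IsPullback g' f' f g)
    (hf : FibresLocNoeth f) (hg : AlgSp.LocP @LocallyOfFiniteType g) (x' : AlgSp.Points X') :
    (AlgSp.LocPAt (fun h u => Dual3.IsGorensteinAt h u) f (AlgSp.Points.map g' x') →
      AlgSp.LocPAt (fun h u => Dual3.IsGorensteinAt h u) f' x') ∧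
      (AlgSp.IsFlatAtMor f (AlgSp.Points.map g' x') →
        AlgSp.LocPAt (fun h u => Dual3.IsGorensteinAt h u) f' x' →
        AlgSp.LocPAt (fun h u => Dual3.IsGorensteinAt h u) f (AlgSp.Points.map g' x')) ∧
      (AlgSp.IsFlatAtMor g (AlgSp.Points.map f' x') →
        AlgSp.LocPAt (fun h u => Dual3.IsGorensteinAt h u) f' x' →
        AlgSp.LocPAt (fun h u => Dual3.IsGorensteinAt h u) f (AlgSp.Points.map g' x')) := by
  have hf' : FibresLocNoeth f' := fibresLocNoeth_baseChange f g g' f' hsq hf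
  obtain ⟨U, V, W, U', V', W', a, b, c, a', b', hh, k, hh', k', qU, qV, qW, u', ha, hb, hc, ha', hb',
    hab, hbc, hab', sqV, sqU, ha'pX, hb'pY, hu'⟩ :=
    exists_cartesian_towers' hX hY hY hY' f (𝟙 Y) g f' (𝟙 Y') g' g (IsPullback.id_vert g) hsq x'
  subst hu'
  have hpt : AlgSp.Points.map g' (AlgSp.Points.ofPt a' u') = AlgSp.Points.ofPt a (qU.left u') := by
    rw [AlgSp.Points.map_ofPt, ha'pX, Groth.Agent.S10176.ofPt_map_comp]
  have hpt2 : AlgSp.Points.map f' (AlgSp.Points.ofPt a' u') =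
      AlgSp.Points.ofPt b' (hh'.left u') := by
    rw [AlgSp.Points.map_ofPt, hab', Groth.Agent.S10176.ofPt_map_comp]
  haveI : LocallyOfFiniteType qV.left := hg b' b qV hb' hb hb'pY
  rw [hpt, hpt2, locPAt_gor_iff_chart hX hY f hf a b hh (qU.left u') ha hb hab,
    locPAt_gor_iff_chart hX' hY' f' hf' a' b' hh' u' ha' hb' hab',
    Groth.Agent.Lib.T2H1.FlatLocusSp.isFlatAtMor_iff_chart f a b hh (qU.left u') ha hb hab,
    Groth.Agent.Lib.T2H1.FlatLocusSp.isFlatAtMor_iff_chart g b' b qV (hh'.left u') hb' hb hb'pY]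
  have sqUs : IsPullback qU.left hh'.left hh.left qV.left := sqU.map (Over.forget S)
  exact Groth.Agent.S3625.result U.left V.left U'.left V'.left hh.left qV.left hh'.left qU.left
    sqUs (isLocallyNoetherian_fiber_of_chart hX hY f hf a b hh ha hb hab) u'

end Groth.Agent.Lib.T2H1.GorSp
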