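import Mathlib
import Groth.Agent.Lib.T2H1GorSp
import Groth.Agent.Lib.Helper12NoethDescent
import Groth.Agent.Lib.Helper12LocPNbhd
import Groth.Agent.S3624
import Groth.Agent.S10177
import Groth.Agent.S9874

/-!
# Gorenstein morphisms of algebraic spaces: characterisation through fibres (helper1)
-/

set_option autoImplicit false
set_option linter.unusedVariables false
set_option linter.unusedSectionVars false
set_option linter.style.haveILetI false
universe u
open CategoryTheory CategoryTheory.Limits AlgebraicGeometry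
open AlgSp

namespace Groth.Agent.Lib.T2H1.GorSp

open Groth.Agent.Lib.T2H1.FlatLocus Groth.Agent.Lib.Helper5.FiberMor

/-- a scheme etale over a Gorenstein scheme is Gorenstein. -/
theorem isGorenstein_of_etale {U V : Scheme.{u}} (e : U ⟶ V) [Etale e]
    (hV : Dual3.IsGorenstein V) : Dual3.IsGorenstein U := by
  haveI := hV.1
  haveI : IsLocallyNoetherian U := LocallyOfFiniteType.isLocallyNoetherian e
  refine ⟨inferInstance, fun x => ?_⟩
  exact (flat_iff e x Groth.Agent.Lib.Helper5.FiberRing.flatLocalIff_gor isoInv_gor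
    (Flat.stalkMap e x)).2 ⟨hV.2 (e x), (gorAt_of_etale e x).2⟩

/-- Gorensteinness descends along etale surjective morphisms. -/
theorem isGorenstein_of_etale_surjective {U V : Scheme.{u}} (e : U ⟶ V) [Etale e] [Surjective e]
    (hU : Dual3.IsGorenstein U) : Dual3.IsGorenstein V := by
  haveI := hU.1
  haveI : IsLocallyNoetherian V :=
    Groth.Agent.Lib.Helper12.NoethDescent.isLocallyNoetherian_of_flat_lfp_surjective e
  refine ⟨inferInstance, fun y => ?_⟩
  obtain ⟨x, rfl⟩ := e.surjective y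
  exact (Groth.Agent.S3624.result U V e hU).2 x

variable {S : Scheme.{u}}

/-- every etale chart of an etale locally Gorenstein sheaf is Gorenstein. -/
theorem isGorenstein_of_chart {F : AlgSp.Sp S} (hF : AlgSp.EtaleLocally Dual3.IsGorenstein F)
    {U : Over S} (a : (AlgSp.yon S).obj U ⟶ F) (ha : AlgSp.RepWith @Etale a) :
    Dual3.IsGorenstein U.left := by
  obtain ⟨V, q, hqe, hqs, hV⟩ := hF
  obtain ⟨W, snd, fst', sq⟩ := hqe.1 a
  obtain ⟨fst, rfl⟩ := (AlgSp.yon S).map_surjective fst'
  haveI : Etale snd.left := hqe.2 _ _ snd sq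
  haveI : Surjective snd.left := hqs.2 _ _ snd sq
  haveI : Etale fst.left := ha.2 _ _ fst sq.flip
  exact isGorenstein_of_etale_surjective snd.left (isGorenstein_of_etale fst.left hV)

/-- transport of the local ring of a fibre. -/
theorem gor_stalk_fiber_of_eq {W V : Scheme.{u}} (h : W ⟶ V) (v : V) (z : h.fiber v) (w : W)
    (hw : h w = v) (hz : h.fiberι v z = w) :
    LocCoh.IsGorensteinLocalRing ((h.fiber v).presheaf.stalk z) ↔
      LocCoh.IsGorensteinLocalRing ((h.fiber (h w)).presheaf.stalk (h.asFiber w)) := by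
  subst hw
  have : z = h.asFiber w :=
    (h.fiberι (h w)).isEmbedding.injective (hz.trans (h.fiberι_asFiber w).symm)
  subst this
  rfl

/-- a fibre is a Gorenstein scheme iff the local rings of the fibre at all points over it are
Gorenstein. -/
theorem isGorenstein_fiber_iff {W V : Scheme.{u}} (h : W ⟶ V) (v : V)
    (hN : IsLocallyNoetherian (h.fiber v)) :
    Dual3.IsGorenstein (h.fiber v) ↔ ∀ w : W, h w = v →
      LocCoh.IsGorensteinLocalRing ((h.fiber (h w)).presheaf.stalk (h.asFiber w)) := by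
  constructor
  · intro H w hw
    have hz : h.fiberι v ((h.fiberHomeo v).symm ⟨w, hw⟩) = w := h.fiberι_fiberHomeo_symm v ⟨w, hw⟩
    exact (gor_stalk_fiber_of_eq h v _ w hw hz).1 (H.2 _)
  · intro H
    refine ⟨hN, fun z => ?_⟩
    have hw : h (h.fiberι v z) = v := (h.fiberHomeo v z).2
    exact (gor_stalk_fiber_of_eq h v z _ hw rfl).2 (H _ hw)

section FibreChart

open Groth.Agent.Lib.T2H1.FibCrit

variable {X Z : AlgSp.Sp S} (g : X ⟶ Z) {U W κ Us : Over S} (c : (AlgSp.yon S).obj W ⟶ Z)
  (a : (AlgSp.yon S).obj U ⟶ X) (k : U ⟶ W) (hak : a ≫ g = (AlgSp.yon S).map k ≫ c)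
  (ι : κ ⟶ W) (p₁ : Us ⟶ U) (p₂ : Us ⟶ κ)
  {Xz : AlgSp.Sp S} (pX : Xz ⟶ X) (qX : Xz ⟶ (AlgSp.yon S).obj κ)

/-- the chart of the fibre is surjective when the chart of the base change is. -/
theorem repWith_surjective_fibreChart (sqX : IsPullback pX qX g ((AlgSp.yon S).map ι ≫ c))
    (sqU : IsPullback p₁ p₂ k ι)
    (hφ : AlgSp.RepWith @Surjective (pullback.lift a ((AlgSp.yon S).map k) hak)) :
    AlgSp.RepWith @Surjective (fibreChart g c a k hak ι p₁ p₂ pX qX sqX sqU.w) := by
  have hψc : pX ≫ g = (qX ≫ (AlgSp.yon S).map ι) ≫ c := by rw [sqX.w, Category.assoc]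
  let ψ : Xz ⟶ pullback g c := pullback.lift pX (qX ≫ (AlgSp.yon S).map ι) hψc
  have hψ1 : ψ ≫ pullback.fst g c = pX := pullback.lift_fst _ _ _
  have hψ2 : ψ ≫ pullback.snd g c = qX ≫ (AlgSp.yon S).map ι := pullback.lift_snd _ _ _
  have big : IsPullback (ψ ≫ pullback.fst g c) qX g ((AlgSp.yon S).map ι ≫ c) := by
    rw [hψ1]
    exact sqX
  have R : IsPullback ψ qX (pullback.snd g c) ((AlgSp.yon S).map ι) :=
    IsPullback.of_right big hψ2 (IsPullback.of_hasPullback g c)
  have outer : IsPullback ((AlgSp.yon S).map p₁)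
      (fibreChart g c a k hak ι p₁ p₂ pX qX sqX sqU.w ≫ qX)
      (pullback.lift a ((AlgSp.yon S).map k) hak ≫ pullback.snd g c) ((AlgSp.yon S).map ι) := by
    rw [fibreChart_snd, pullback.lift_snd]
    exact sqU.map (AlgSp.yon S)
  have hcomm : (AlgSp.yon S).map p₁ ≫ pullback.lift a ((AlgSp.yon S).map k) hak =
      fibreChart g c a k hak ι p₁ p₂ pX qX sqX sqU.w ≫ ψ := by
    apply pullback.hom_ext
    · rw [Category.assoc, pullback.lift_fst, Category.assoc, hψ1, fibreChart_fst]
    · rw [Category.assoc, pullback.lift_snd, Category.assoc, hψ2, ← Category.assoc, fibreChart_snd,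
        ← Functor.map_comp, ← Functor.map_comp, sqU.w]
  have L := IsPullback.of_bot outer hcomm R
  exact MorphismProperty.of_isPullback (P := AlgSp.RepWith @Surjective) L hφ

end FibreChart

/-- for a chart diagram whose comparison map to the base change is etale surjective, a fibre of
the base change is etale locally Gorenstein iff the fibre of the top arrow is Gorenstein. -/
theorem etaleLocally_gor_fibre_iff {X Y : AlgSp.Sp S} (hX : AlgSp.IsAlgSpace X)
    (hY : AlgSp.IsAlgSpace Y) (f : X ⟶ Y) {U V : Over S} (a : (AlgSp.yon S).obj U ⟶ X)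
    (b : (AlgSp.yon S).obj V ⟶ Y) (h : U ⟶ V) (ha : AlgSp.RepWith @Etale a)
    (hb : AlgSp.RepWith @Etale b) (hab : a ≫ f = (AlgSp.yon S).map h ≫ b)
    (hs : AlgSp.RepWith @Surjective (pullback.lift a ((AlgSp.yon S).map h) hab))
    (v : ↥V.left) (Xv : AlgSp.Sp S) (a' : Xv ⟶ X)
    (c : Xv ⟶ (AlgSp.yon S).obj (Over.mk (V.left.fromSpecResidueField v ≫ V.hom)))
    (sq : IsPullback a' c f ((AlgSp.yon S).map (Over.homMk (V.left.fromSpecResidueField v) rfl :
      Over.mk (V.left.fromSpecResidueField v ≫ V.hom) ⟶ V) ≫ b)) :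
    AlgSp.EtaleLocally Dual3.IsGorenstein Xv ↔ Dual3.IsGorenstein (h.left.fiber v) := by
  let sK : Spec (CommRingCat.of (V.left.residueField v)) ⟶ S :=
    V.left.fromSpecResidueField v ≫ V.hom
  let ι : Over.mk sK ⟶ V := Over.homMk (V.left.fromSpecResidueField v) rfl
  let Us : Over S := Over.mk (h.left.fiberι v ≫ U.hom)
  let p₁ : Us ⟶ U := Over.homMk (h.left.fiberι v) rfl
  have hw : h.left.fiberToSpecResidueField v ≫ sK = h.left.fiberι v ≫ U.hom := by
    change _ ≫ (_ ≫ V.hom) = _
    rw [← Category.assoc, ← h.left.fiber_fac v, Category.assoc, Over.w h]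
  let p₂ : Us ⟶ Over.mk sK := Over.homMk (h.left.fiberToSpecResidueField v) hw
  have cU : p₁ ≫ h = p₂ ≫ ι := by
    apply Over.OverMorphism.ext
    exact h.left.fiber_fac v
  have sqU : IsPullback p₁ p₂ h ι :=
    IsPullback.of_map (Over.forget S) cU
      (IsPullback.of_hasPullback h.left (V.left.fromSpecResidueField v))
  have hφ := Groth.Agent.Lib.Helper12.BaseLocal.repWith_etale_lift hX hY f a b h ha hb hab
  have haS := Groth.Agent.Lib.T2H1.FibCrit.repWith_etale_fibreChart f b a h hab ι p₁ p₂ a' c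
    sq sqU hφ
  have haSs := repWith_surjective_fibreChart f b a h hab ι p₁ p₂ a' c sq sqU hs
  constructor
  · intro H
    exact isGorenstein_of_chart H _ haS
  · intro H
    exact ⟨Us, _, haS, haSs, H⟩

/-- a chart diagram over a given etale chart of the target, covering the base change. -/
theorem exists_chart_over {X Y : AlgSp.Sp S} (hX : AlgSp.IsAlgSpace X) (hY : AlgSp.IsAlgSpace Y)
    (f : X ⟶ Y) {V : Over S} (b : (AlgSp.yon S).obj V ⟶ Y) (hb : AlgSp.RepWith @Etale b) :
    ∃ (U : Over S) (a : (AlgSp.yon S).obj U ⟶ X) (h : U ⟶ V)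
      (hab : a ≫ f = (AlgSp.yon S).map h ≫ b), AlgSp.RepWith @Etale a ∧
      AlgSp.RepWith @Surjective (pullback.lift a ((AlgSp.yon S).map h) hab) ∧
      (AlgSp.RepWith @Surjective b → AlgSp.RepWith @Surjective a) := by
  have hXV : AlgSp.IsAlgSpace (pullback f b) :=
    Groth.Agent.S9874.isAlgSpace_of_isPullback hY.diag hX (AlgSp.IsAlgSpace.yon_obj V)
      (IsPullback.of_hasPullback f b)
  obtain ⟨U, a0, hae, has⟩ := hXV.atlas
  have hpr1 : AlgSp.RepWith @Etale (pullback.fst f b) :=
    MorphismProperty.of_isPullback (P := AlgSp.RepWith @Etale)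
      (IsPullback.of_hasPullback f b).flip hb
  obtain ⟨h, hh⟩ := (AlgSp.yon S).map_surjective (a0 ≫ pullback.snd f b)
  have hae' : AlgSp.RepWith @Etale (a0 ≫ pullback.fst f b) :=
    (AlgSp.RepWith @Etale).comp_mem _ _ hae hpr1
  have hab : (a0 ≫ pullback.fst f b) ≫ f = (AlgSp.yon S).map h ≫ b := by
    rw [Category.assoc, pullback.condition, ← Category.assoc, hh]
  have hl : pullback.lift (a0 ≫ pullback.fst f b) ((AlgSp.yon S).map h) hab = a0 := by
    apply pullback.hom_ext
    · rw [pullback.lift_fst]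
    · rw [pullback.lift_snd, hh]
  refine ⟨U, a0 ≫ pullback.fst f b, h, hab, hae', ?_, ?_⟩
  · rw [hl]
    exact has
  · intro hbs
    have hpr1s : AlgSp.RepWith @Surjective (pullback.fst f b) :=
      MorphismProperty.of_isPullback (P := AlgSp.RepWith @Surjective)
        (IsPullback.of_hasPullback f b).flip hbs
    exact (AlgSp.RepWith @Surjective).comp_mem _ _ has hpr1s

/-- the characterisation of Gorenstein morphisms of algebraic spaces through fibres. -/
theorem gor_tfae {X Y : AlgSp.Sp S} (hX : AlgSp.IsAlgSpace X) (hY : AlgSp.IsAlgSpace Y)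
    (f : X ⟶ Y) (hf : FibresLocNoeth f) :
    [∀ x : AlgSp.Points X, AlgSp.LocPAt (fun h u => Dual3.IsGorensteinAt h u) f x,
      AlgSp.LocP @Flat f ∧ ∃ (V : Over S) (b : (AlgSp.yon S).obj V ⟶ Y),
        AlgSp.RepWith @Etale b ∧ AlgSp.RepWith @Surjective b ∧
          ∀ (v : ↥V.left) (Xv : AlgSp.Sp S) (a : Xv ⟶ X)
            (c : Xv ⟶ (AlgSp.yon S).obj (Over.mk (V.left.fromSpecResidueField v ≫ V.hom))),
            IsPullback a c f ((AlgSp.yon S).map (Over.homMk (V.left.fromSpecResidueField v) rfl :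
              Over.mk (V.left.fromSpecResidueField v ≫ V.hom) ⟶ V) ≫ b) →
            AlgSp.EtaleLocally Dual3.IsGorenstein Xv,
      AlgSp.LocP @Flat f ∧ ∀ (V : Over S) (b : (AlgSp.yon S).obj V ⟶ Y), AlgSp.RepWith @Etale b →
          ∀ (v : ↥V.left) (Xv : AlgSp.Sp S) (a : Xv ⟶ X)
            (c : Xv ⟶ (AlgSp.yon S).obj (Over.mk (V.left.fromSpecResidueField v ≫ V.hom))),
            IsPullback a c f ((AlgSp.yon S).map (Over.homMk (V.left.fromSpecResidueField v) rfl :
              Over.mk (V.left.fromSpecResidueField v ≫ V.hom) ⟶ V) ≫ b) →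
            AlgSp.EtaleLocally Dual3.IsGorenstein Xv].TFAE := by
  tfae_have 1 → 3 := by
    intro H
    refine ⟨?_, fun V b hb v Xv a' c sq => ?_⟩
    · intro U V a b h ha hb hab
      rw [Flat.iff_flat_stalkMap]
      intro u
      exact (H _ a b h u ha hb hab rfl).1
    · obtain ⟨U, a, h, hab, ha, hs, -⟩ := exists_chart_over hX hY f b hb
      rw [etaleLocally_gor_fibre_iff hX hY f a b h ha hb hab hs v Xv a' c sq,
        isGorenstein_fiber_iff h.left v
          (isLocallyNoetherian_fiber_of_chart hX hY f hf a b h ha hb hab v)]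
      intro w hw
      exact (H _ a b h w ha hb hab rfl).2
  tfae_have 3 → 2 := by
    rintro ⟨hfl, H⟩
    obtain ⟨V, b, hbe, hbs⟩ := hY.atlas
    exact ⟨hfl, V, b, hbe, hbs, H V b hbe⟩
  tfae_have 2 → 1 := by
    rintro ⟨hfl, V, b, hbe, hbs, H⟩ x
    obtain ⟨U, a, h, hab, ha, hs, hsa⟩ := exists_chart_over hX hY f b hbe
    obtain ⟨u, rfl⟩ := Groth.Agent.S10177.surjective_ofPt a (hsa hbs) x
    rw [locPAt_gor_iff_chart hX hY f hf a b h u ha hbe hab]
    refine ⟨?_, ?_⟩
    · haveI : Flat h.left := hfl a b h ha hbe hab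
      exact Flat.stalkMap _ _
    · have key := H (h.left u) (pullback f ((AlgSp.yon S).map
        (Over.homMk (V.left.fromSpecResidueField (h.left u)) rfl :
          Over.mk (V.left.fromSpecResidueField (h.left u) ≫ V.hom) ⟶ V) ≫ b))
        (pullback.fst _ _) (pullback.snd _ _) (IsPullback.of_hasPullback _ _)
      rw [etaleLocally_gor_fibre_iff hX hY f a b h ha hbe hab hs (h.left u) _ _ _
        (IsPullback.of_hasPullback _ _), isGorenstein_fiber_iff h.left (h.left u)
          (isLocallyNoetherian_fiber_of_chart hX hY f hf a b h ha hbe hab (h.left u))] at key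
      exact key u rfl
  tfae_finish

end Groth.Agent.Lib.T2H1.GorSp
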