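import Groth.Agent.Lib.T2H6BlowUpWideSep
import Groth.Agent.Lib.Helper20EffCartier

/-!
# Flat base change of blowing ups (universal-property form)
-/

set_option autoImplicit false
universe u

open CategoryTheory AlgebraicGeometry TopologicalSpace Topology Limits
open AlgebraicGeometry.Scheme.IdealSheafData

namespace Groth.Agent.Lib.T2H6.BlowUpFlatBC

/-- The inverse image of an effective Cartier ideal under a flat morphism is effective Cartier. -/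
theorem isEffCartier_comap_of_flat {Y Z : Scheme.{u}} (g : Y ⟶ Z) [Flat g] (L : Z.IdealSheafData)
    (hL : BlowUp.IsEffCartierIdeal L) : BlowUp.IsEffCartierIdeal (L.comap g) := by
  intro y
  obtain ⟨V, hyV, t, ht, hLt⟩ := hL (g y)
  obtain ⟨_, ⟨W, hW, rfl⟩, hyW, hWV⟩ :=
    Y.isBasis_affineOpens.exists_subset_of_mem_open (show y ∈ (g ⁻¹ᵁ V.1 : Set Y) from hyV)
      (g ⁻¹ᵁ V.1).isOpen
  refine ⟨⟨W, hW⟩, hyW, (g.appLE V.1 W hWV).hom t, ?_, ?_⟩
  · have hflat : (g.appLE V.1 W hWV).hom.Flat :=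
      HasRingHomProperty.appLE (P := @Flat) g inferInstance V ⟨W, hW⟩ hWV
    letI := (g.appLE V.1 W hWV).hom.toAlgebra
    haveI : Module.Flat Γ(Z, V.1) Γ(Y, W) := hflat
    have hreg := Module.Flat.isSMulRegular_of_nonZeroDivisors (M := Γ(Y, W)) ht
    rw [mem_nonZeroDivisors_iff_right]
    intro x hx
    apply hreg
    change (algebraMap Γ(Z, V.1) Γ(Y, W) t) * x = (algebraMap Γ(Z, V.1) Γ(Y, W) t) * 0
    rw [mul_zero, mul_comm]
    exact hx
  · rw [Groth.Agent.Lib.Helper20.EffCartier.ideal_comap_eq_map g L hW V.2 hWV]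
    have : L.ideal ⟨V.1, V.2⟩ = Ideal.span {t} := hLt
    rw [this, Ideal.map_span, Set.image_singleton]

/-- Flat base change of a blowing up is a blowing up (of the inverse image ideal). -/
theorem isBlowUp_snd_of_flat {X X' T : Scheme.{u}} (b : X' ⟶ X) (𝓘 : X.IdealSheafData)
    (hb : BlowUp.IsBlowUp b 𝓘) (f : T ⟶ X) [Flat f] :
    BlowUp.IsBlowUp (pullback.snd b f) (𝓘.comap f) := by
  refine ⟨?_, fun W h hh => ?_⟩
  · rw [← comap_comp, ← pullback.condition, comap_comp]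
    exact isEffCartier_comap_of_flat _ _ hb.1
  · have hh' : BlowUp.IsEffCartierIdeal (𝓘.comap (h ≫ f)) := by
      rw [comap_comp]; exact hh
    obtain ⟨k, hk, hku⟩ := hb.2 W (h ≫ f) hh'
    refine ⟨pullback.lift k h hk, pullback.lift_snd _ _ _, ?_⟩
    intro k' hk'
    apply pullback.hom_ext
    · rw [pullback.lift_fst]
      apply hku
      rw [Category.assoc, pullback.condition, ← Category.assoc, hk']
    · rw [pullback.lift_snd, hk']

/-- Two blowing ups of the same ideal are canonically isomorphic. -/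
theorem exists_iso_of_isBlowUp {X X₁ X₂ : Scheme.{u}} (b₁ : X₁ ⟶ X) (b₂ : X₂ ⟶ X)
    (𝓘 : X.IdealSheafData) (h₁ : BlowUp.IsBlowUp b₁ 𝓘) (h₂ : BlowUp.IsBlowUp b₂ 𝓘) :
    ∃ e : X₁ ≅ X₂, e.hom ≫ b₂ = b₁ := by
  obtain ⟨φ, hφ, -⟩ := h₂.2 X₁ b₁ h₁.1
  obtain ⟨ψ, hψ, -⟩ := h₁.2 X₂ b₂ h₂.1
  refine ⟨⟨φ, ψ, ?_, ?_⟩, hφ⟩
  · obtain ⟨_, _, hu⟩ := h₁.2 X₁ b₁ h₁.1
    rw [hu (φ ≫ ψ) (by change (φ ≫ ψ) ≫ b₁ = b₁; rw [Category.assoc, hψ, hφ]), hu (𝟙 _) (Category.id_comp _)]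
  · obtain ⟨_, _, hu⟩ := h₂.2 X₂ b₂ h₂.1
    rw [hu (ψ ≫ φ) (by change (ψ ≫ φ) ≫ b₂ = b₂; rw [Category.assoc, hφ, hψ]), hu (𝟙 _) (Category.id_comp _)]

end Groth.Agent.Lib.T2H6.BlowUpFlatBC
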