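import Groth.Prelude.Def_AlgSpSub
import Groth.Agent.Lib.T2H1GorSp2
import Groth.Agent.Lib.T2H6BlowUpFlatBC
import Groth.Agent.Lib.T2H1ChartBC
import Groth.Agent.S1662

/-!
# Effective Cartier divisors on algebraic spaces: chart plumbing
-/

set_option autoImplicit false
universe u
open CategoryTheory CategoryTheory.Limits AlgebraicGeometry
open AlgSp

namespace Groth.Agent.Lib.T2H1.EffCart

variable {S : Scheme.{u}}

/-- the closed subscheme of an ideal sheaf on a scheme over `S`, as an object over `S`. -/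
noncomputable abbrev sub (V : Over S) (I : V.left.IdealSheafData) : Over S := Over.mk (I.subschemeι ≫ V.hom)

/-- its inclusion. -/
noncomputable abbrev subι (V : Over S) (I : V.left.IdealSheafData) : sub V I ⟶ V := Over.homMk I.subschemeι rfl

/-- the closed subscheme of the inverse image ideal is the fibre product, in sheaves. -/
theorem sq_comap {U V : Over S} (h : U ⟶ V) (I : V.left.IdealSheafData) :
    ∃ m : sub U (I.comap h.left) ⟶ sub V I,
      IsPullback ((yon S).map m) ((yon S).map (subι U (I.comap h.left)))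
        ((yon S).map (subι V I)) ((yon S).map h) := by
  have hw : Scheme.IdealSheafData.subschemeMap (I.comap h.left) I h.left (I.le_map_comap h.left) ≫
      I.subschemeι = (I.comap h.left).subschemeι ≫ h.left :=
    Scheme.IdealSheafData.subschemeMap_subschemeι _ _ _ _
  have sqS : IsPullback (I.comap h.left).subschemeι
      (Scheme.IdealSheafData.subschemeMap (I.comap h.left) I h.left (I.le_map_comap h.left))
      h.left I.subschemeι :=
    IsPullback.of_iso_pullback ⟨hw.symm⟩ (I.comapIso h.left) (I.comapIso_hom_fst h.left)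
      (I.comapIso_hom_snd h.left)
  let m : sub U (I.comap h.left) ⟶ sub V I :=
    Over.homMk (Scheme.IdealSheafData.subschemeMap (I.comap h.left) I h.left (I.le_map_comap h.left))
      (by
        change _ ≫ I.subschemeι ≫ V.hom = (I.comap h.left).subschemeι ≫ U.hom
        rw [reassoc_of% hw, Over.w h])
  have sqO : IsPullback m (subι U (I.comap h.left)) (subι V I) h :=
    IsPullback.of_map (Over.forget S) (by ext; exact hw) sqS.flip
  exact ⟨m, sqO.map (yon S)⟩

/-- flat pullback of an effective Cartier divisor. -/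
theorem effCart_pullback_of_flat {X Y D P : Sp S} (hX : IsAlgSpace X) (hY : IsAlgSpace Y)
    (f : X ⟶ Y) (hf : LocP @Flat f) (i : D ⟶ Y) (hD : IsEffCartierSub i)
    (fst : P ⟶ D) (snd : P ⟶ X) (hP : IsPullback fst snd i f) :
    IsEffCartierSub snd := by
  obtain ⟨hcl, V, φ, I, fstD, hφe, hφs, sqD, hI⟩ := hD
  refine ⟨MorphismProperty.of_isPullback (P := RepWith @IsClosedImmersion) hP hcl, ?_⟩
  obtain ⟨U, ψ, h, hab, hψe, -, hψs⟩ :=
    Groth.Agent.Lib.T2H1.GorSp.exists_chart_over hX hY f φ hφe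
  haveI : Flat h.left := hf ψ φ h hψe hφe hab
  obtain ⟨m, sqm⟩ := sq_comap h I
  -- the outer rectangle
  have outer : IsPullback ((yon S).map m ≫ fstD) ((yon S).map (subι U (I.comap h.left))) i
      ((yon S).map h ≫ φ) := sqm.paste_horiz sqD
  rw [← hab] at outer
  -- lift to P
  have hw : ((yon S).map m ≫ fstD) ≫ i = ((yon S).map (subι U (I.comap h.left)) ≫ ψ) ≫ f := by
    rw [outer.w, Category.assoc]
  let l : (yon S).obj (sub U (I.comap h.left)) ⟶ P := hP.lift _ _ hw
  have hl1 : l ≫ fst = (yon S).map m ≫ fstD := hP.lift_fst _ _ hw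
  have hl2 : l ≫ snd = (yon S).map (subι U (I.comap h.left)) ≫ ψ := hP.lift_snd _ _ hw
  rw [← hl1] at outer
  have sqL : IsPullback l ((yon S).map (subι U (I.comap h.left))) snd ψ :=
    IsPullback.of_right outer hl2 hP
  exact ⟨U, ψ, I.comap h.left, l, hψe, hψs hφs, sqL,
    Groth.Agent.Lib.T2H6.BlowUpFlatBC.isEffCartier_comap_of_flat h.left I hI⟩

end Groth.Agent.Lib.T2H1.EffCart

namespace Groth.Agent.Lib.T2H1.EffCart

variable {S : Scheme.{u}}

/-- Given a cartesian square `X' = X ×_Y Y'` and a chart diagram `(U, V, a, b, h)` of `f`, there is a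
chart diagram `(W, V', aW, b', hW)` of `f'` with `W = U ×_V V'`, and `aW` is surjective if `a` is. -/
theorem exists_chart_baseChange_surj {X Y Y' X' : AlgSp.Sp S} (hY : AlgSp.IsAlgSpace Y)
    (hY' : AlgSp.IsAlgSpace Y') {f : X ⟶ Y} {g : Y' ⟶ Y} {g' : X' ⟶ X} {f' : X' ⟶ Y'}
    (sq : IsPullback g' f' f g)
    {U V : Over S} (a : (AlgSp.yon S).obj U ⟶ X) (b : (AlgSp.yon S).obj V ⟶ Y) (h : U ⟶ V)
    (ha : AlgSp.RepWith @Etale a) (hb : AlgSp.RepWith @Etale b)
    (hc : a ≫ f = (AlgSp.yon S).map h ≫ b) :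
    ∃ (W V' : Over S) (pr : W ⟶ U) (c : V' ⟶ V) (hW : W ⟶ V')
      (aW : (AlgSp.yon S).obj W ⟶ X') (b' : (AlgSp.yon S).obj V' ⟶ Y'),
      AlgSp.RepWith @Etale aW ∧ AlgSp.RepWith @Etale b' ∧
      aW ≫ f' = (AlgSp.yon S).map hW ≫ b' ∧ aW ≫ g' = (AlgSp.yon S).map pr ≫ a ∧
      b' ≫ g = (AlgSp.yon S).map c ≫ b ∧ IsPullback pr.left hW.left h.left c.left ∧
      (AlgSp.RepWith @Surjective a → AlgSp.RepWith @Surjective aW) := by
  have sq2 := IsPullback.of_hasPullback b g
  have hZ2 : AlgSp.IsAlgSpace (pullback b g) :=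
    Groth.Agent.S9874.isAlgSpace_of_isPullback hY.diag (AlgSp.IsAlgSpace.yon_obj V) hY' sq2
  have hsnd2 : AlgSp.RepWith @Etale (pullback.snd b g) :=
    MorphismProperty.of_isPullback (P := AlgSp.RepWith @Etale) sq2 hb
  have sqZ := IsPullback.of_hasPullback a g'
  have hsndZ : AlgSp.RepWith @Etale (pullback.snd a g') :=
    MorphismProperty.of_isPullback (P := AlgSp.RepWith @Etale) sqZ ha
  have hζw : (pullback.fst a g' ≫ (AlgSp.yon S).map h) ≫ b = (pullback.snd a g' ≫ f') ≫ g := by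
    rw [Category.assoc, ← hc, ← Category.assoc, sqZ.w, Category.assoc, sq.w, Category.assoc]
  let ζ : pullback a g' ⟶ pullback b g := pullback.lift _ _ hζw
  have hζ1 : ζ ≫ pullback.fst b g = pullback.fst a g' ≫ (AlgSp.yon S).map h :=
    pullback.lift_fst _ _ _
  have hζ2 : ζ ≫ pullback.snd b g = pullback.snd a g' ≫ f' := pullback.lift_snd _ _ _
  have big : IsPullback (pullback.fst a g') (ζ ≫ pullback.snd b g) (a ≫ f) g := by
    rw [hζ2]
    exact sqZ.paste_vert sq
  rw [hc] at big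
  have sqL : IsPullback (pullback.fst a g') ζ ((AlgSp.yon S).map h) (pullback.fst b g) :=
    IsPullback.of_bot big hζ1.symm sq2
  obtain ⟨V', c₀, hc₀e, hc₀s⟩ := hZ2.atlas
  obtain ⟨c, hcc⟩ := (AlgSp.yon S).map_surjective (c₀ ≫ pullback.fst b g)
  have sqO := IsPullback.of_hasPullback h c
  have sqW := sqO.map (AlgSp.yon S)
  have hωw : (AlgSp.yon S).map (pullback.fst h c) ≫ (AlgSp.yon S).map h =
      ((AlgSp.yon S).map (pullback.snd h c) ≫ c₀) ≫ pullback.fst b g := by
    rw [Category.assoc, ← hcc]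
    exact sqW.w
  obtain ⟨ω, hω1, hω2⟩ := sqL.exists_lift _ _ hωw
  have bigW : IsPullback (ω ≫ pullback.fst a g') ((AlgSp.yon S).map (pullback.snd h c))
      ((AlgSp.yon S).map h) (c₀ ≫ pullback.fst b g) := by
    rw [hω1, ← hcc]
    exact sqW
  have sqω : IsPullback ω ((AlgSp.yon S).map (pullback.snd h c)) ζ c₀ :=
    IsPullback.of_right bigW hω2 sqL
  have hωe : AlgSp.RepWith @Etale ω :=
    MorphismProperty.of_isPullback (P := AlgSp.RepWith @Etale) sqω.flip hc₀e
  have hωs : AlgSp.RepWith @Surjective ω :=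
    MorphismProperty.of_isPullback (P := AlgSp.RepWith @Surjective) sqω.flip hc₀s
  refine ⟨pullback h c, V', pullback.fst h c, c, pullback.snd h c, ω ≫ pullback.snd a g',
    c₀ ≫ pullback.snd b g, (AlgSp.RepWith @Etale).comp_mem _ _ hωe hsndZ,
    (AlgSp.RepWith @Etale).comp_mem _ _ hc₀e hsnd2, ?_, ?_, ?_, (sqO.map (Over.forget S)), ?_⟩
  · rw [Category.assoc, ← hζ2, ← Category.assoc, hω2, Category.assoc]
  · rw [Category.assoc, ← sqZ.w, ← Category.assoc, hω1]
  · rw [Category.assoc, ← sq2.w, ← Category.assoc, hcc]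
  · intro has
    have hsndZs : AlgSp.RepWith @Surjective (pullback.snd a g') :=
      MorphismProperty.of_isPullback (P := AlgSp.RepWith @Surjective) sqZ has
    exact (AlgSp.RepWith @Surjective).comp_mem _ _ hωs hsndZs

/-- refinement of a chart of an effective Cartier divisor. -/
theorem chart_refine {X D : Sp S} {i : D ⟶ X} {U U₁ : Over S} (p : U₁ ⟶ U)
    {φ : (yon S).obj U ⟶ X} {I : U.left.IdealSheafData}
    {fstD : (yon S).obj (sub U I) ⟶ D}
    (sqD : IsPullback fstD ((yon S).map (subι U I)) i φ) :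
    ∃ l : (yon S).obj (sub U₁ (I.comap p.left)) ⟶ D,
      IsPullback l ((yon S).map (subι U₁ (I.comap p.left))) i ((yon S).map p ≫ φ) := by
  obtain ⟨m, sqm⟩ := sq_comap p I
  exact ⟨_, sqm.paste_horiz sqD⟩

/-- base change of an effective Cartier divisor that is flat over the base. -/
theorem effCart_baseChange {X Y D Y' X' D' : Sp S} (hX : IsAlgSpace X) (hY : IsAlgSpace Y)
    (hY' : IsAlgSpace Y')
    (f : X ⟶ Y) (i : D ⟶ X) (hD : IsEffCartierSub i) (hflat : LocP @Flat (i ≫ f))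
    (g : Y' ⟶ Y) (g' : X' ⟶ X) (f' : X' ⟶ Y') (hX' : IsPullback g' f' f g)
    (k : D' ⟶ D) (i' : D' ⟶ X') (hD' : IsPullback k i' i g') :
    IsEffCartierSub i' := by
  obtain ⟨hcl, U, φ, I, fstD, hφe, hφs, sqD, hI⟩ := hD
  refine ⟨MorphismProperty.of_isPullback (P := RepWith @IsClosedImmersion) hD' hcl, ?_⟩
  obtain ⟨V, b, hbe, hbs⟩ := hY.atlas
  obtain ⟨U₁, a₁, h₁, hab₁, ha₁e, -, ha₁s⟩ :=
    Groth.Agent.Lib.T2H1.GorSp.exists_chart_over (IsAlgSpace.yon_obj U) hY (φ ≫ f) b hbe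
  obtain ⟨p₁, rfl⟩ := (yon S).map_surjective a₁
  haveI hp₁ : Etale p₁.left := (repWith_yon_map_iff _ _).1 ha₁e
  have hφ₁e : RepWith @Etale ((yon S).map p₁ ≫ φ) := (RepWith @Etale).comp_mem _ _ ha₁e hφe
  have hφ₁s : RepWith @Surjective ((yon S).map p₁ ≫ φ) :=
    (RepWith @Surjective).comp_mem _ _ (ha₁s hbs) hφs
  obtain ⟨fstD₁, sqD₁⟩ := chart_refine p₁ sqD
  have hI₁ : BlowUp.IsEffCartierIdeal (I.comap p₁.left) :=
    Groth.Agent.Lib.T2H6.BlowUpFlatBC.isEffCartier_comap_of_flat p₁.left I hI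
  have hfstD₁e : RepWith @Etale fstD₁ :=
    MorphismProperty.of_isPullback (P := RepWith @Etale) sqD₁.flip hφ₁e
  have hcomm : fstD₁ ≫ (i ≫ f) = (yon S).map (subι U₁ (I.comap p₁.left) ≫ h₁) ≫ b := by
    rw [← Category.assoc, sqD₁.w, Functor.map_comp, Category.assoc, Category.assoc,
      Category.assoc, ← hab₁]
  haveI hfl : Flat ((I.comap p₁.left).subschemeι ≫ h₁.left) :=
    hflat fstD₁ b (subι U₁ (I.comap p₁.left) ≫ h₁) hfstD₁e hbe hcomm
  obtain ⟨W, V', pr, c, hW, aW, b', haWe, -, -, haWg', -, sqW, haWs⟩ :=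
    exists_chart_baseChange_surj hY hY' hX' ((yon S).map p₁ ≫ φ) b h₁ hφ₁e hbe
      (by rw [Category.assoc]; exact hab₁)
  -- the ideal on `W`
  have hIW : BlowUp.IsEffCartierIdeal ((I.comap p₁.left).comap pr.left) := by
    have h1 := Groth.Agent.S1662.result h₁.left (I.comap p₁.left) hI₁ c.left
    have he : sqW.isoPullback.hom ≫ pullback.fst h₁.left c.left = pr.left :=
      sqW.isoPullback_hom_fst
    rw [← he, Scheme.IdealSheafData.comap_comp]
    exact Groth.Agent.Lib.T2H6.BlowUpFlatBC.isEffCartier_comap_of_flat sqW.isoPullback.hom _ h1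
  obtain ⟨fstW, sqDW⟩ := chart_refine pr sqD₁
  rw [← haWg'] at sqDW
  have hw : fstW ≫ i = ((yon S).map (subι W ((I.comap p₁.left).comap pr.left)) ≫ aW) ≫ g' := by
    rw [sqDW.w, Category.assoc]
  let l := hD'.lift _ _ hw
  have hl1 : l ≫ k = fstW := hD'.lift_fst _ _ hw
  have hl2 : l ≫ i' = (yon S).map (subι W ((I.comap p₁.left).comap pr.left)) ≫ aW :=
    hD'.lift_snd _ _ hw
  rw [← hl1] at sqDW
  exact ⟨W, aW, (I.comap p₁.left).comap pr.left, l, haWe, haWs hφ₁s,
    IsPullback.of_right sqDW hl2 hD', hIW⟩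

end Groth.Agent.Lib.T2H1.EffCart
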