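import Groth.Agent.Lib.T2H1EffCart
import Groth.Agent.Lib.T2H1DenseOpen
import Groth.Agent.Lib.Helper1SchDense
import Groth.Agent.Lib.Helper12SchDense
import Groth.Agent.S1571
import Groth.Agent.S12496
import Groth.Agent.S0082
import Groth.Agent.S8853
import Groth.Prelude.Def_W4stk3spdivLocPr

/-!
# The complement of an effective Cartier divisor on an algebraic space
-/

set_option autoImplicit false
universe u
open CategoryTheory CategoryTheory.Limits AlgebraicGeometry
open AlgSp

namespace Groth.Agent.Lib.T2H1.EffCartCompl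

variable {S : Scheme.{u}}

/-- a property that is Zariski local on the target and descends along fpqc morphisms descends
along surjective flat morphisms locally of finite presentation. -/
theorem descends_of_fppf (P : MorphismProperty Scheme.{u}) [IsZariskiLocalAtTarget P]
    (hP : P.DescendsAlong (@Surjective ⊓ @Flat ⊓ @QuasiCompact : MorphismProperty Scheme.{u}))
    {A T Y Z : Scheme.{u}} {fst : A ⟶ T} {snd : A ⟶ Y} {q : T ⟶ Z} {g : Y ⟶ Z}
    (sq : IsPullback fst snd q g) [Flat q] [Surjective q] [LocallyOfFinitePresentation q]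
    (h : P fst) : P g := by
  have hmem : Presieve.singleton q ∈ Scheme.fpqcPrecoverage Z :=
    Scheme.fppfPrecoverage_le_fpqcPrecoverage _ (Scheme.Hom.singleton_mem_fppfPrecoverage q)
  let 𝒰 : Scheme.Cover.{0, u} Scheme.fpqcPrecoverage Z :=
    Precoverage.ZeroHypercover.singleton q hmem
  refine Groth.Agent.S12496.result P hP g 𝒰 (fun _ => ?_)
  change P (pullback.snd g q)
  have he : sq.flip.isoPullback.hom ≫ pullback.snd g q = fst := sq.flip.isoPullback_hom_snd
  rw [← he] at h
  exact (P.cancel_left_of_respectsIso _ _).1 h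

open Groth.Agent.Lib.T2H1.EffCart in
/-- in a chart, the inverse image of the open complement of a closed subspace is the complement of
the support of the ideal. -/
theorem opens_eq_support_compl {X D U : Sp S} (i : D ⟶ X) (j : U ⟶ X)
    (hU : Set.range (Points.map j) = (Set.range (Points.map i))ᶜ) {T : Over S}
    (ψ : (yon S).obj T ⟶ X) (W : T.left.Opens)
    (fstj : (yon S).obj (Over.mk (W.ι ≫ T.hom)) ⟶ U)
    (sqj : IsPullback fstj ((yon S).map (Over.homMk W.ι rfl : Over.mk (W.ι ≫ T.hom) ⟶ T)) j ψ)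
    (J : T.left.IdealSheafData) (l : (yon S).obj (sub T J) ⟶ D)
    (sql : IsPullback l ((yon S).map (subι T J)) i ψ) : W = J.support.compl := by
  ext t
  have h1 := Groth.Agent.Lib.T2H1.DenseOpen.mem_range_iff j ψ fstj _ sqj t
  have h2 := Groth.Agent.Lib.T2H1.DenseOpen.mem_range_iff i ψ l _ sql t
  have h1' : t ∈ W ↔ Points.ofPt ψ t ∈ Set.range (Points.map j) := by
    rw [← h1]
    change t ∈ W ↔ t ∈ Set.range W.ι
    rw [Scheme.Opens.range_ι]
    rfl
  have h2' : t ∈ J.support ↔ Points.ofPt ψ t ∈ Set.range (Points.map i) := by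
    rw [← h2]
    change t ∈ J.support ↔ t ∈ Set.range J.subschemeι
    rw [Scheme.IdealSheafData.range_subschemeι]
    rfl
  change t ∈ W ↔ t ∈ (J.support.compl : Set T.left)
  rw [h1', hU]
  exact not_congr h2'.symm

/-- the inverse image of a locally principal ideal is locally principal. -/
theorem isLocPrincipal_comap {Y Z : Scheme.{u}} (g : Y ⟶ Z) (L : Z.IdealSheafData)
    (hL : Curv2.IsLocPrincipal L) : Curv2.IsLocPrincipal (L.comap g) := by
  intro y hy
  have hgy : g y ∈ L.support := by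
    rw [Scheme.IdealSheafData.support_comap] at hy
    exact hy
  obtain ⟨V, hyV, t, hLt⟩ := hL (g y) hgy
  obtain ⟨_, ⟨W, hW, rfl⟩, hyW, hWV⟩ :=
    Y.isBasis_affineOpens.exists_subset_of_mem_open (show y ∈ (g ⁻¹ᵁ V.1 : Set Y) from hyV)
      (g ⁻¹ᵁ V.1).isOpen
  refine ⟨⟨W, hW⟩, hyW, (g.appLE V.1 W hWV).hom t, ?_⟩
  rw [Groth.Agent.Lib.Helper20.EffCartier.ideal_comap_eq_map g L hW V.2 hWV]
  have : L.ideal ⟨V.1, V.2⟩ = Ideal.span {t} := hLt
  rw [this, Ideal.map_span, Set.image_singleton]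

/-- an effective Cartier ideal is locally principal. -/
theorem isLocPrincipal_of_isEffCartier {Z : Scheme.{u}} (L : Z.IdealSheafData)
    (hL : BlowUp.IsEffCartierIdeal L) : Curv2.IsLocPrincipal L := by
  intro x _
  obtain ⟨U, hxU, f, -, hf⟩ := hL x
  exact ⟨U, hxU, f, hf⟩

open Groth.Agent.Lib.T2H1.EffCart in
/-- the complement of a locally principal closed subspace is affine over the space. -/
theorem compl_affine {X D U : Sp S} (i : D ⟶ X) (hD : IsLocPrincipalSub i) (j : U ⟶ X)
    (hj : RepWith @IsOpenImmersion j)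
    (hU : Set.range (Points.map j) = (Set.range (Points.map i))ᶜ) :
    IsAffineMor j := by
  obtain ⟨hcl, V, φ, I, fstD, hφe, hφs, sqD, hI⟩ := hD
  intro Z hZ g
  obtain ⟨W, fstj, sqj⟩ := Groth.Agent.Lib.Helper1.SchDense.exists_opens_pullback j hj g
  refine ⟨_, _, fstj, sqj, ?_⟩
  obtain ⟨T, q, pTs, sqT⟩ := hφe.1 g
  obtain ⟨pT, rfl⟩ := (yon S).map_surjective pTs
  haveI hqe : Etale q.left := hφe.2 g _ q sqT
  haveI hqs : Surjective q.left := hφs.2 g _ q sqT
  obtain ⟨l, sql⟩ := chart_refine pT sqD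
  rw [sqT.w] at sql
  have hJ : Curv2.IsLocPrincipal (I.comap pT.left) := isLocPrincipal_comap pT.left I hI
  -- the pullback of `W` to `T`
  have sqr := isPullback_morphismRestrict q.left W
  -- its identification with the complement of the support
  let κ : Over.mk ((q.left ⁻¹ᵁ W).ι ≫ T.hom) ⟶ Over.mk (W.ι ≫ Z.hom) :=
    Over.homMk (q.left ∣_ W) (by
      change (q.left ∣_ W) ≫ W.ι ≫ Z.hom = (q.left ⁻¹ᵁ W).ι ≫ T.hom
      rw [← Category.assoc, sqr.w, Category.assoc, Over.w q])
  have sqO : IsPullback (Over.homMk (q.left ⁻¹ᵁ W).ι rfl :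
      Over.mk ((q.left ⁻¹ᵁ W).ι ≫ T.hom) ⟶ T) κ q
      (Over.homMk W.ι rfl : Over.mk (W.ι ≫ Z.hom) ⟶ Z) :=
    IsPullback.of_map (Over.forget S) (by ext; exact sqr.w.symm) sqr.flip
  have sqY := sqO.map (yon S)
  have sqbig : IsPullback ((yon S).map κ ≫ fstj)
      ((yon S).map (Over.homMk (q.left ⁻¹ᵁ W).ι rfl : Over.mk ((q.left ⁻¹ᵁ W).ι ≫ T.hom) ⟶ T)) j
      ((yon S).map q ≫ g) := sqY.flip.paste_horiz sqj
  have hopens : q.left ⁻¹ᵁ W = (I.comap pT.left).support.compl :=
    opens_eq_support_compl i j hU ((yon S).map q ≫ g) (q.left ⁻¹ᵁ W) _ sqbig _ l sql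
  have haffT : IsAffineHom (q.left ⁻¹ᵁ W).ι := by
    rw [hopens]
    exact Groth.Agent.S8853.result (I.comap pT.left) hJ
  haveI : IsAffineHom W.ι :=
    descends_of_fppf @IsAffineHom Groth.Agent.S0082.result sqr.flip haffT
  haveI : IsAffine Z.left := hZ
  exact isAffine_of_isAffineHom W.ι

open Groth.Agent.Lib.T2H1.EffCart in
/-- an effective Cartier divisor is a locally principal closed subspace. -/
theorem isLocPrincipalSub_of_isEffCartierSub {X D : Sp S} (i : D ⟶ X) (hD : IsEffCartierSub i) :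
    IsLocPrincipalSub i := by
  obtain ⟨hcl, V, φ, I, fstD, hφe, hφs, sqD, hI⟩ := hD
  exact ⟨hcl, V, φ, I, fstD, hφe, hφs, sqD, isLocPrincipal_of_isEffCartier I hI⟩

open Groth.Agent.Lib.T2H1.EffCart in
/-- the complement of an effective Cartier divisor is an affine, schematically dense open. -/
theorem compl_affine_dense {X D U : Sp S} (i : D ⟶ X) (hD : IsEffCartierSub i) (j : U ⟶ X)
    (hj : RepWith @IsOpenImmersion j)
    (hU : Set.range (Points.map j) = (Set.range (Points.map i))ᶜ) :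
    IsAffineMor j ∧ IsSchDense j := by
  refine ⟨compl_affine i (isLocPrincipalSub_of_isEffCartierSub i hD) j hj hU, hj, ?_⟩
  obtain ⟨hcl, V, φ, I, fstD, hφe, hφs, sqD, hI⟩ := hD
  obtain ⟨W, fstj, sqj⟩ := Groth.Agent.Lib.Helper1.SchDense.exists_opens_pullback j hj φ
  have hopens : W = I.support.compl := opens_eq_support_compl i j hU φ W fstj sqj I fstD sqD
  refine ⟨V, φ, W, fstj, hφe, hφs, sqj, ?_⟩
  rw [hopens]
  obtain ⟨h1, h2⟩ := Groth.Agent.S1571.result V.left I hI
  haveI := h1
  exact (Groth.Agent.Lib.Helper12.SchDense.isSchematicallyDense_iff I.support.compl).2 h2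

end Groth.Agent.Lib.T2H1.EffCartCompl
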