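import Groth.Agent.Lib.T2H1EffCart

/-!
# Descent of effective Cartier ideals along flat open surjective morphisms
-/

set_option autoImplicit false
universe u
open CategoryTheory CategoryTheory.Limits AlgebraicGeometry
open nonZeroDivisors

namespace Groth.Agent.Lib.T2H1.EffCartDescent

/-- surjectivity on spectra of the ring map of a morphism between affine opens, from
surjectivity on points. -/
theorem comap_surjective_of_appLE {W U : Scheme.{u}} (p : W ⟶ U) {U₁ : U.Opens} {W₂ : W.Opens}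
    (hU₁ : IsAffineOpen U₁) (hW₂ : IsAffineOpen W₂) (e : W₂ ≤ p ⁻¹ᵁ U₁)
    (hs : ∀ y ∈ U₁, ∃ z ∈ W₂, p z = y) :
    Function.Surjective (PrimeSpectrum.comap (p.appLE U₁ W₂ e).hom) := by
  intro P
  have hy : hU₁.fromSpec P ∈ U₁ := by
    have : hU₁.fromSpec P ∈ Set.range hU₁.fromSpec := ⟨P, rfl⟩
    rw [hU₁.range_fromSpec] at this
    exact this
  obtain ⟨z, hz, hpz⟩ := hs _ hy
  have hz' : z ∈ Set.range hW₂.fromSpec := by rw [hW₂.range_fromSpec]; exact hz
  obtain ⟨Q, rfl⟩ := hz'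
  refine ⟨Q, ?_⟩
  have h1 := congrArg (fun f => f Q) (congrArg (fun f : _ ⟶ U => (f : _ → _))
    (IsAffineOpen.SpecMap_appLE_fromSpec p hU₁ hW₂ e))
  simp only [Scheme.Hom.comp_apply] at h1
  rw [hpz] at h1
  exact hU₁.fromSpec.isOpenEmbedding.injective h1

/-- the algebraic core of the choice of a generator: if the extension of `J` along `φ` is generated
by a nonzerodivisor `g`, the elements `c` with `φ x = c * g` for some `x ∈ J` span the unit
ideal. -/
theorem span_coeff_eq_top {A B : Type*} [CommRing A] [CommRing B] (φ : A →+* B) (J : Ideal A)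
    (g : B) (hg : g ∈ B⁰) (hJ : J.map φ = Ideal.span {g}) :
    Ideal.span {c : B | ∃ x ∈ J, φ x = c * g} = ⊤ := by
  set M := Ideal.span {c : B | ∃ x ∈ J, φ x = c * g} with hM
  have hle : J.map φ ≤ Ideal.span {g} * M := by
    rw [Ideal.map_le_iff_le_comap]
    intro x hx
    rw [Ideal.mem_comap]
    have h1 : φ x ∈ Ideal.span {g} := by rw [← hJ]; exact Ideal.mem_map_of_mem φ hx
    obtain ⟨c, hc⟩ := Ideal.mem_span_singleton'.mp h1
    rw [Ideal.mem_span_singleton_mul]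
    exact ⟨c, Ideal.subset_span ⟨x, hx, hc.symm⟩, by rw [mul_comm]; exact hc⟩
  have hgm : g ∈ Ideal.span {g} * M := hle (by rw [hJ]; exact Ideal.mem_span_singleton_self g)
  obtain ⟨t, ht, htg⟩ := Ideal.mem_span_singleton_mul.mp hgm
  have h0 : (1 - t) * g = 0 := by rw [sub_mul, one_mul, mul_comm t g, htg, sub_self]
  have h1 : 1 - t = 0 := (mem_nonZeroDivisors_iff_right.mp hg) _ h0
  rw [Ideal.eq_top_iff_one]
  have : (1 : B) = t := by rw [← sub_eq_zero]; exact h1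
  rw [this]
  exact ht

/-- descent of a principal generator along a faithfully flat ring map. -/
theorem eq_span_of_faithfullyFlat {A B : Type u} [CommRing A] [CommRing B] (ψ : A →+* B)
    (hψ : ψ.FaithfullyFlat) (J : Ideal A) (x : A) (hx : x ∈ J) (hJ : J.map ψ = Ideal.span {ψ x})
    (hreg : ψ x ∈ B⁰) : x ∈ A⁰ ∧ J = Ideal.span {x} := by
  algebraize [ψ]
  haveI : Module.FaithfullyFlat A B := hψ
  constructor
  · rw [mem_nonZeroDivisors_iff_right]
    intro a ha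
    have h1 : ψ a * ψ x = 0 := by rw [← map_mul, ha, map_zero]
    have h2 : ψ a = 0 := (mem_nonZeroDivisors_iff_right.mp hreg) _ h1
    exact hψ.injective (by rw [h2, map_zero])
  · have h1 : (Ideal.span {x}).map ψ = J.map ψ := by
      rw [hJ, Ideal.map_span, Set.image_singleton]
    have h2 := Ideal.comap_map_eq_self_of_faithfullyFlat (A := A) (B := B) J
    have h3 := Ideal.comap_map_eq_self_of_faithfullyFlat (A := A) (B := B) (Ideal.span {x})
    have h4 : algebraMap A B = ψ := rfl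
    rw [h4] at h2 h3
    rw [← h2, ← h3, h1]

/-- effective Cartier ideals descend along flat, open, surjective morphisms. -/
theorem isEffCartier_descent {W U : Scheme.{u}} (p : W ⟶ U) [Flat p] (hp : IsOpenMap p)
    [Surjective p] (I : U.IdealSheafData) (h : BlowUp.IsEffCartierIdeal (I.comap p)) :
    BlowUp.IsEffCartierIdeal I := by
  intro u
  obtain ⟨w, rfl⟩ := p.surjective u
  obtain ⟨_, ⟨U₀, hU₀, rfl⟩, huU₀, -⟩ :=
    U.isBasis_affineOpens.exists_subset_of_mem_open (Set.mem_univ (p w)) isOpen_univ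
  obtain ⟨W₀, hW₀, hwW₀, hW₀U₀, g, hg, hIg⟩ :=
    Groth.Agent.Lib.Helper20.EffCartier.exists_le_of_isEffCartierIdeal h w (p ⁻¹ᵁ U₀) huU₀
  have hmap : (I.ideal ⟨U₀, hU₀⟩).map (p.appLE U₀ W₀ hW₀U₀).hom = Ideal.span {g} := by
    rw [← Groth.Agent.Lib.Helper20.EffCartier.ideal_comap_eq_map p I hW₀ hU₀ hW₀U₀]
    exact hIg
  have hspan := span_coeff_eq_top (p.appLE U₀ W₀ hW₀U₀).hom (I.ideal ⟨U₀, hU₀⟩) g hg hmap
  have hcov := iSup_basicOpen_of_span_eq_top W₀ _ hspan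
  have hw' : w ∈ ⨆ c ∈ {c : Γ(W, W₀) | ∃ x ∈ I.ideal ⟨U₀, hU₀⟩,
      (p.appLE U₀ W₀ hW₀U₀).hom x = c * g}, W.basicOpen c := by
    rw [hcov]; exact hwW₀
  simp only [TopologicalSpace.Opens.mem_iSup] at hw'
  obtain ⟨c, ⟨x, hx, hxc⟩, hwc⟩ := hw'
  -- the open image of `D(c)`
  let O : U.Opens := ⟨p '' (W.basicOpen c : Set W), hp _ (W.basicOpen c).isOpen⟩
  have huO : p w ∈ O := ⟨w, hwc, rfl⟩
  obtain ⟨s, hsO, hus⟩ := hU₀.exists_basicOpen_le ⟨p w, huO⟩ huU₀
  have hU₁ : IsAffineOpen (U.basicOpen s) := hU₀.basicOpen s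
  have hW₂ : IsAffineOpen (W.basicOpen (c * (p.appLE U₀ W₀ hW₀U₀).hom s)) := hW₀.basicOpen _
  have hW₂eq : W.basicOpen (c * (p.appLE U₀ W₀ hW₀U₀).hom s) =
      W.basicOpen c ⊓ (W₀ ⊓ p ⁻¹ᵁ U.basicOpen s) := by
    rw [Scheme.basicOpen_mul]
    congr 1
    exact Scheme.basicOpen_appLE p W₀ U₀ hW₀U₀ s
  have e₂ : W.basicOpen (c * (p.appLE U₀ W₀ hW₀U₀).hom s) ≤ p ⁻¹ᵁ U.basicOpen s := by
    rw [hW₂eq]; exact inf_le_right.trans inf_le_right
  have hW₂W₀ : W.basicOpen (c * (p.appLE U₀ W₀ hW₀U₀).hom s) ≤ W₀ := W.basicOpen_le _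
  have hψ : (p.appLE (U.basicOpen s) (W.basicOpen (c * (p.appLE U₀ W₀ hW₀U₀).hom s))
      e₂).hom.FaithfullyFlat := by
    rw [RingHom.FaithfullyFlat.iff_flat_and_comap_surjective]
    refine ⟨HasRingHomProperty.appLE (P := @Flat) p inferInstance ⟨_, hU₁⟩ ⟨_, hW₂⟩ e₂,
      comap_surjective_of_appLE p hU₁ hW₂ e₂ ?_⟩
    intro y hy
    obtain ⟨z, hz, rfl⟩ := hsO hy
    refine ⟨z, ?_, rfl⟩
    rw [hW₂eq]
    exact ⟨hz, W.basicOpen_le c hz, hy⟩
  -- compatibility of the ring maps with restriction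
  have hnat : ∀ a : Γ(U, U₀),
      (p.appLE (U.basicOpen s) (W.basicOpen (c * (p.appLE U₀ W₀ hW₀U₀).hom s)) e₂).hom
        ((U.presheaf.map (homOfLE (U.basicOpen_le s)).op).hom a) =
      (W.presheaf.map (homOfLE hW₂W₀).op).hom ((p.appLE U₀ W₀ hW₀U₀).hom a) := by
    intro a
    have h1 := Scheme.Hom.map_appLE p e₂ (homOfLE (U.basicOpen_le s)).op
    have h2 := Scheme.Hom.appLE_map p hW₀U₀ (homOfLE hW₂W₀).op
    have h3 := congrArg (fun f => f.hom a) h1
    have h4 := congrArg (fun f => f.hom a) h2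
    simp only [CommRingCat.hom_comp, RingHom.comp_apply] at h3 h4
    rw [h3, h4]
  -- the restriction of `c` is a unit, that of `g` a nonzerodivisor
  have hcu : IsUnit ((W.presheaf.map (homOfLE hW₂W₀).op).hom c) := by
    have hle : W.basicOpen (c * (p.appLE U₀ W₀ hW₀U₀).hom s) ≤ W.basicOpen c := by
      rw [hW₂eq]; exact inf_le_left
    have h1 := RingedSpace.isUnit_res_basicOpen W.toRingedSpace c
    have h2 : (W.presheaf.map (homOfLE hW₂W₀).op).hom c =
        (W.presheaf.map (homOfLE hle).op).hom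
          ((W.presheaf.map (homOfLE (W.basicOpen_le c)).op).hom c) := by
      rw [← RingHom.comp_apply, ← CommRingCat.hom_comp, ← Functor.map_comp]
      rfl
    rw [h2]
    exact h1.map _
  have hgr : (W.presheaf.map (homOfLE hW₂W₀).op).hom g ∈
      Γ(W, W.basicOpen (c * (p.appLE U₀ W₀ hW₀U₀).hom s))⁰ := by
    have inst := hW₀.isLocalization_basicOpen (c * (p.appLE U₀ W₀ hW₀U₀).hom s)
    have h1 : (W.presheaf.map (homOfLE hW₂W₀).op).hom = algebraMap _ _ := rfl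
    rw [h1]
    exact IsLocalization.map_nonZeroDivisors_le (.powers (c * (p.appLE U₀ W₀ hW₀U₀).hom s)) _
      (Submonoid.mem_map_of_mem _ hg)
  have hIU₁ : (I.ideal ⟨U₀, hU₀⟩).map (U.presheaf.map (homOfLE (U.basicOpen_le s)).op).hom =
      I.ideal ⟨U.basicOpen s, hU₁⟩ :=
    I.map_ideal (U := ⟨U.basicOpen s, hU₁⟩) (V := ⟨U₀, hU₀⟩) (U.basicOpen_le s)
  have hIW₂ : ((I.comap p).ideal ⟨W₀, hW₀⟩).map (W.presheaf.map (homOfLE hW₂W₀).op).hom =
      (I.comap p).ideal ⟨_, hW₂⟩ :=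
    (I.comap p).map_ideal (U := ⟨_, hW₂⟩) (V := ⟨W₀, hW₀⟩) hW₂W₀
  have key := eq_span_of_faithfullyFlat _ hψ (I.ideal ⟨U.basicOpen s, hU₁⟩)
    ((U.presheaf.map (homOfLE (U.basicOpen_le s)).op).hom x)
    (by rw [← hIU₁]; exact Ideal.mem_map_of_mem _ hx)
    (by
      rw [← Groth.Agent.Lib.Helper20.EffCartier.ideal_comap_eq_map p I hW₂ hU₁ e₂, ← hIW₂, hIg,
        Ideal.map_span, Set.image_singleton, hnat, hxc, map_mul,
        Ideal.span_singleton_mul_left_unit hcu])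
    (by
      rw [hnat, hxc, map_mul]
      exact mul_mem hcu.mem_nonZeroDivisors hgr)
  exact ⟨⟨U.basicOpen s, hU₁⟩, hus, _, key.1, key.2⟩

end Groth.Agent.Lib.T2H1.EffCartDescent
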