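import Groth.Agent.Lib.T2H1EffCartDescent
import Groth.Agent.Lib.T2H1DenseOpen

/-!
# Effective Cartier divisors on algebraic spaces: one chart versus all charts
-/

set_option autoImplicit false
universe u
open CategoryTheory CategoryTheory.Limits AlgebraicGeometry
open AlgSp
open Groth.Agent.Lib.T2H1.EffCart

namespace Groth.Agent.Lib.T2H1.EffCartEquiv

variable {S : Scheme.{u}}

/-- the ideal sheaf cutting out the inverse image of a subspace in a chart is unique. -/
theorem ideal_eq_of_isPullback {X D : Sp S} {i : D ⟶ X} {U : Over S} {ψ : (yon S).obj U ⟶ X}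
    {J₁ J₂ : U.left.IdealSheafData}
    {l₁ : (yon S).obj (sub U J₁) ⟶ D} {l₂ : (yon S).obj (sub U J₂) ⟶ D}
    (sq₁ : IsPullback l₁ ((yon S).map (subι U J₁)) i ψ)
    (sq₂ : IsPullback l₂ ((yon S).map (subι U J₂)) i ψ) : J₁ = J₂ := by
  let e := sq₁.isoIsPullback _ _ sq₂
  have he : e.hom ≫ (yon S).map (subι U J₂) = (yon S).map (subι U J₁) :=
    sq₁.isoIsPullback_hom_snd _ _ sq₂
  obtain ⟨e₀, he₀⟩ := (yon S).map_surjective e.hom
  haveI : IsIso ((yon S).map e₀) := by rw [he₀]; infer_instance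
  haveI : IsIso e₀ := isIso_of_fully_faithful (yon S) e₀
  have h1 : e₀ ≫ subι U J₂ = subι U J₁ := by
    apply (yon S).map_injective
    rw [Functor.map_comp, he₀, he]
  have h2 : e₀.left ≫ J₂.subschemeι = J₁.subschemeι := congrArg CommaMorphism.left h1
  haveI : IsIso e₀.left := inferInstanceAs (IsIso ((Over.forget S).map e₀))
  rw [← J₁.ker_subschemeι, ← h2, Scheme.Hom.ker_comp_of_isIso, J₂.ker_subschemeι]

/-- the inverse image of a closed subspace in a chart is the closed subscheme of an ideal sheaf. -/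
theorem exists_ideal_chart {X D : Sp S} {i : D ⟶ X} (hi : RepWith @IsClosedImmersion i)
    {V : Over S} (φ : (yon S).obj V ⟶ X) :
    ∃ (I : V.left.IdealSheafData) (fst : (yon S).obj (sub V I) ⟶ D),
      IsPullback fst ((yon S).map (subι V I)) i φ := by
  obtain ⟨Z, snd, fst, sq⟩ := hi.1 φ
  haveI : IsClosedImmersion snd.left := hi.2 φ fst snd sq
  let I := snd.left.ker
  have h1 : snd.left.toImage ≫ I.subschemeι = snd.left := snd.left.toImage_imageι
  let e₀ : Z ⟶ sub V I := Over.homMk snd.left.toImage (by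
    change _ ≫ I.subschemeι ≫ V.hom = Z.hom
    rw [reassoc_of% h1, Over.w snd])
  haveI : IsIso snd.left.toImage := inferInstance
  haveI : IsIso e₀ := by
    haveI : IsIso ((Over.forget S).map e₀) := inferInstanceAs (IsIso snd.left.toImage)
    exact isIso_of_reflects_iso e₀ (Over.forget S)
  have h2 : e₀ ≫ subι V I = snd := by
    ext
    exact h1
  refine ⟨I, (yon S).map (inv e₀) ≫ fst, ?_⟩
  refine IsPullback.of_iso sq ((yon S).mapIso (asIso e₀)) (Iso.refl _) (Iso.refl _) (Iso.refl _)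
    ?_ ?_ ?_ ?_
  · simp only [Functor.mapIso_hom, asIso_hom, Iso.refl_hom, Category.comp_id]
    rw [← Category.assoc, ← Functor.map_comp, IsIso.hom_inv_id, CategoryTheory.Functor.map_id,
      Category.id_comp]
  · simp only [Functor.mapIso_hom, asIso_hom, Iso.refl_hom, Category.comp_id]
    rw [← Functor.map_comp, h2]
  · simp
  · simp

/-- an effective Cartier divisor is cut out by an effective Cartier ideal in every étale chart. -/
theorem effCart_chart {X D : Sp S} {i : D ⟶ X} (hD : IsEffCartierSub i)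
    {U : Over S} (φU : (yon S).obj U ⟶ X) (hφU : RepWith @Etale φU)
    (I : U.left.IdealSheafData) (fst : (yon S).obj (sub U I) ⟶ D)
    (sqU : IsPullback fst ((yon S).map (subι U I)) i φU) :
    BlowUp.IsEffCartierIdeal I := by
  obtain ⟨hcl, V, φ, IV, fstV, hφe, hφs, sqV, hIV⟩ := hD
  obtain ⟨W, pU, fstW, sqW⟩ := hφe.1 φU
  haveI : Etale pU.left := hφe.2 φU fstW pU sqW
  haveI : Surjective pU.left := hφs.2 φU fstW pU sqW
  obtain ⟨pV, rfl⟩ := (yon S).map_surjective fstW
  haveI : Etale pV.left := hφU.2 φ ((yon S).map pU) pV sqW.flip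
  obtain ⟨lV, sqlV⟩ := chart_refine pV sqV
  obtain ⟨lU, sqlU⟩ := chart_refine pU sqU
  rw [sqW.w] at sqlV
  have hJ : IV.comap pV.left = I.comap pU.left := ideal_eq_of_isPullback sqlV sqlU
  have h1 : BlowUp.IsEffCartierIdeal (IV.comap pV.left) :=
    Groth.Agent.Lib.T2H6.BlowUpFlatBC.isEffCartier_comap_of_flat pV.left IV hIV
  rw [hJ] at h1
  exact Groth.Agent.Lib.T2H1.EffCartDescent.isEffCartier_descent pU.left pU.left.isOpenMap I h1

end Groth.Agent.Lib.T2H1.EffCartEquiv

namespace Groth.Agent.Lib.T2H1.EffCartEquiv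

variable {S : Scheme.{u}}

open nonZeroDivisors

/-- an isomorphism of rings preserves nonzerodivisors. -/
theorem nzd_of_isIso {A B : CommRingCat.{u}} (e : A ⟶ B) [IsIso e] (f : A) (hf : f ∈ A⁰) :
    e.hom f ∈ B⁰ := by
  rw [mem_nonZeroDivisors_iff_right]
  intro b hb
  have hb' : e.hom ((inv e).hom b) = b := by
    rw [← RingHom.comp_apply, ← CommRingCat.hom_comp, IsIso.inv_hom_id]
    rfl
  have h1 : e.hom ((inv e).hom b * f) = e.hom 0 := by
    rw [map_mul, hb', hb, map_zero]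
  have hinj : Function.Injective e.hom := by
    intro a a' h
    have := congrArg (inv e).hom h
    rwa [← RingHom.comp_apply, ← RingHom.comp_apply, ← CommRingCat.hom_comp, IsIso.hom_inv_id]
      at this
  have h2 : (inv e).hom b = 0 := (mem_nonZeroDivisors_iff_right.mp hf) _ (hinj h1)
  rw [← hb', h2, map_zero]

/-- the points of the fibre product of two charts. -/
theorem exists_point_of_chart_pullback {X : Sp S} {U V W : Over S} {φ : (yon S).obj V ⟶ X}
    {a : (yon S).obj U ⟶ X} {pV : W ⟶ V} {pU : W ⟶ U}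
    (sq : IsPullback ((yon S).map pV) ((yon S).map pU) φ a) (v : V.left) (u : U.left)
    (e : Points.ofPt φ v = Points.ofPt a u) : ∃ w : W.left, pV.left w = v ∧ pU.left w = u := by
  obtain ⟨p, hp1, hp2⟩ := Groth.Agent.S10175.exists_point_of_isPullback sq
    (Points.ofScheme V v) (Points.ofScheme U u) (by
      rw [← Points.ofPt_eq_map_ofScheme, ← Points.ofPt_eq_map_ofScheme]
      exact e)
  obtain ⟨w, rfl⟩ := (Points.schemeHomeo W).surjective p
  refine ⟨w, ?_, ?_⟩
  · apply (Points.schemeHomeo V).injective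
    rw [← Points.map_yon_map_apply]
    exact hp1
  · apply (Points.schemeHomeo U).injective
    rw [← Points.map_yon_map_apply]
    exact hp2

/-- away from its support an ideal sheaf is the unit ideal on a small affine open. -/
theorem exists_unit_of_not_mem_support {V : Scheme.{u}} (I : V.IdealSheafData) (v : V)
    (hv : v ∉ I.support) :
    ∃ U : V.affineOpens, v ∈ U.1 ∧ ∃ f : Γ(V, U.1), f ∈ Γ(V, U.1)⁰ ∧ I.ideal U = Ideal.span {f} := by
  obtain ⟨_, ⟨U₀, hU₀, rfl⟩, hvU₀, -⟩ :=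
    V.isBasis_affineOpens.exists_subset_of_mem_open (Set.mem_univ v) isOpen_univ
  have h1 : v ∉ V.zeroLocus (U := U₀) (I.ideal ⟨U₀, hU₀⟩) := by
    rw [← Scheme.IdealSheafData.mem_support_iff_of_mem (U := ⟨U₀, hU₀⟩) hvU₀]
    exact hv
  rw [Scheme.mem_zeroLocus_iff] at h1
  push_neg at h1
  obtain ⟨s, hs, hvs⟩ := h1
  refine ⟨⟨V.basicOpen s, hU₀.basicOpen s⟩, hvs, 1, one_mem _, ?_⟩
  have h2 := I.map_ideal_basicOpen ⟨U₀, hU₀⟩ s
  have hu : IsUnit ((V.presheaf.map (homOfLE (V.basicOpen_le s)).op).hom s) :=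
    RingedSpace.isUnit_res_basicOpen V.toRingedSpace s
  have h3 : (I.ideal ⟨U₀, hU₀⟩).map (V.presheaf.map (homOfLE (V.basicOpen_le s)).op).hom = ⊤ :=
    Ideal.eq_top_of_isUnit_mem _ (Ideal.mem_map_of_mem _ hs) hu
  rw [Ideal.span_singleton_one]
  exact h2.symm.trans h3

/-- the effective Cartier condition at a point can be checked on an open neighbourhood. -/
theorem exists_of_isEffCartier_comap_ι {V : Scheme.{u}} (I : V.IdealSheafData) (O : V.Opens)
    (h : BlowUp.IsEffCartierIdeal (I.comap O.ι)) (v : V) (hv : v ∈ O) :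
    ∃ U : V.affineOpens, v ∈ U.1 ∧ ∃ f : Γ(V, U.1), f ∈ Γ(V, U.1)⁰ ∧ I.ideal U = Ideal.span {f} := by
  obtain ⟨U', hvU', f', hf', hIf'⟩ := h ⟨v, hv⟩
  have hU : IsAffineOpen (O.ι ''ᵁ U'.1) := U'.2.image_of_isOpenImmersion O.ι
  refine ⟨⟨O.ι ''ᵁ U'.1, hU⟩, ⟨⟨v, hv⟩, hvU', rfl⟩, (O.ι.appIso U'.1).inv.hom f', ?_, ?_⟩
  · exact nzd_of_isIso (O.ι.appIso U'.1).inv f' hf'
  · have h1 := Scheme.IdealSheafData.ideal_comap_of_isOpenImmersion I O.ι U'
    rw [hIf'] at h1
    have h2 := Groth.Agent.Lib.Helper20.EffCartier.comap_iso_hom_eq_map_inv (O.ι.appIso U'.1)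
      (I.ideal ⟨O.ι ''ᵁ U'.1, hU⟩)
    rw [← h1] at h2
    have h3 := congrArg (Ideal.map (O.ι.appIso U'.1).inv.hom) h2
    rw [Ideal.map_map, ← CommRingCat.hom_comp, Iso.hom_inv_id, Ideal.map_span,
      Set.image_singleton] at h3
    rw [h3]
    exact (Ideal.map_id _).symm

end Groth.Agent.Lib.T2H1.EffCartEquiv

namespace Groth.Agent.Lib.T2H1.EffCartEquiv

variable {S : Scheme.{u}}

open nonZeroDivisors

/-- around every point of an effective Cartier divisor there is an affine étale chart in which the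
divisor is cut out by one nonzerodivisor. -/
theorem exists_affine_chart {X D : Sp S} {i : D ⟶ X} (hD : IsEffCartierSub i) (x : Points D) :
    ∃ (U : Over S) (_ : IsAffine U.left) (a : (yon S).obj U ⟶ X) (u : ↥U.left)
      (f : Γ(U.left, ⊤)) (I : U.left.IdealSheafData)
      (fst : (yon S).obj (sub U I) ⟶ D),
      RepWith @Etale a ∧ Points.ofPt a u = Points.map i x ∧
        f ∈ Γ(U.left, ⊤)⁰ ∧
        I.ideal ⟨⊤, isAffineOpen_top U.left⟩ = Ideal.span {f} ∧
        IsPullback fst ((yon S).map (subι U I)) i a := by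
  obtain ⟨hcl, V, φ, I, fstV, hφe, hφs, sqV, hI⟩ := hD
  obtain ⟨v, hv⟩ := Groth.Agent.S10177.surjective_ofPt φ hφs (Points.map i x)
  obtain ⟨U₀, hvU₀, f, hf, hIf⟩ := hI v
  let U : Over S := Over.mk (U₀.1.ι ≫ V.hom)
  let κ : U ⟶ V := Over.homMk U₀.1.ι rfl
  obtain ⟨l, sql⟩ := chart_refine κ sqV
  have hκe : RepWith @Etale ((yon S).map κ) :=
    (repWith_yon_map_iff _ _).2 (inferInstanceAs (Etale U₀.1.ι))
  refine ⟨U, U₀.2, (yon S).map κ ≫ φ, ⟨v, hvU₀⟩,
    (U₀.1.ι.appLE U₀.1 ⊤ U₀.1.ι_preimage_self.ge).hom f, I.comap κ.left, l,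
    (RepWith @Etale).comp_mem _ _ hκe hφe, ?_, ?_, ?_, sql⟩
  · rw [Groth.Agent.Lib.Helper9.SpPoint.ofPt_yon_map_comp]
    exact hv
  · exact nzd_of_isIso (U₀.1.ι.appLE U₀.1 ⊤ U₀.1.ι_preimage_self.ge) f hf
  · have h1 := Groth.Agent.Lib.Helper20.EffCartier.ideal_comap_eq_map U₀.1.ι I
      (isAffineOpen_top U₀.1.toScheme) U₀.2 U₀.1.ι_preimage_self.ge
    have hIf' : I.ideal ⟨U₀.1, U₀.2⟩ = Ideal.span {f} := hIf
    rw [hIf', Ideal.map_span, Set.image_singleton] at h1
    exact h1

/-- conversely, pointed affine charts in which the closed subspace is cut out by one nonzerodivisor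
make it an effective Cartier divisor. -/
theorem effCart_of_affine_charts {X D : Sp S} (hX : IsAlgSpace X) {i : D ⟶ X}
    (hi : RepWith @IsClosedImmersion i)
    (h : ∀ x : Points D,
      ∃ (U : Over S) (_ : IsAffine U.left) (a : (yon S).obj U ⟶ X) (u : ↥U.left)
        (f : Γ(U.left, ⊤)) (I : U.left.IdealSheafData)
        (fst : (yon S).obj (sub U I) ⟶ D),
        RepWith @Etale a ∧ Points.ofPt a u = Points.map i x ∧
          f ∈ Γ(U.left, ⊤)⁰ ∧
          I.ideal ⟨⊤, isAffineOpen_top U.left⟩ = Ideal.span {f} ∧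
          IsPullback fst ((yon S).map (subι U I)) i a) :
    IsEffCartierSub i := by
  obtain ⟨V, φ, hφe, hφs⟩ := hX.atlas
  obtain ⟨I, fst, sq⟩ := exists_ideal_chart hi φ
  refine ⟨hi, V, φ, I, fst, hφe, hφs, sq, ?_⟩
  intro v
  by_cases hv : v ∈ I.support
  · have hv' : v ∈ Set.range (subι V I).left := by
      change v ∈ Set.range I.subschemeι
      rw [Scheme.IdealSheafData.range_subschemeι]
      exact hv
    obtain ⟨x, hx⟩ := (Groth.Agent.Lib.T2H1.DenseOpen.mem_range_iff i φ fst (subι V I) sq v).1 hv'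
    obtain ⟨U, hUaff, a, u, f, IU, fstU, hae, hau, hf, hIU, sqU⟩ := h x
    obtain ⟨W, pU, fstW, sqW⟩ := hφe.1 a
    haveI : Etale pU.left := hφe.2 a fstW pU sqW
    obtain ⟨pV, rfl⟩ := (yon S).map_surjective fstW
    haveI : Etale pV.left := hae.2 φ ((yon S).map pU) pV sqW.flip
    obtain ⟨w, hwv, hwu⟩ := exists_point_of_chart_pullback sqW v u (by rw [hau, hx])
    obtain ⟨lV, sqlV⟩ := chart_refine pV sq
    obtain ⟨lU, sqlU⟩ := chart_refine pU sqU
    rw [sqW.w] at sqlV
    have hJ : I.comap pV.left = IU.comap pU.left := ideal_eq_of_isPullback sqlV sqlU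
    have hIUc : BlowUp.IsEffCartierIdeal IU := fun _ =>
      ⟨⟨⊤, isAffineOpen_top U.left⟩, trivial, f, hf, hIU⟩
    have h1 : BlowUp.IsEffCartierIdeal (I.comap pV.left) := by
      rw [hJ]
      exact Groth.Agent.Lib.T2H6.BlowUpFlatBC.isEffCartier_comap_of_flat pU.left IU hIUc
    -- the open image of `pV`
    let O : V.left.Opens := ⟨Set.range pV.left, pV.left.isOpenMap.isOpen_range⟩
    have hOr : Set.range pV.left ⊆ Set.range O.ι := by
      rw [Scheme.Opens.range_ι]
      exact subset_rfl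
    let q : W.left ⟶ O.toScheme := IsOpenImmersion.lift O.ι pV.left hOr
    have hq : q ≫ O.ι = pV.left := IsOpenImmersion.lift_fac _ _ _
    haveI : Etale (q ≫ O.ι) := by rw [hq]; infer_instance
    haveI : Etale q := MorphismProperty.of_postcomp (W := @Etale) (W' := @Etale) q O.ι
      inferInstance inferInstance
    haveI : Surjective q := by
      constructor
      rintro ⟨o, w', rfl⟩
      refine ⟨w', ?_⟩
      apply O.ι.isOpenEmbedding.injective
      rw [← Scheme.Hom.comp_apply, hq]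
      rfl
    have h2 : BlowUp.IsEffCartierIdeal ((I.comap O.ι).comap q) := by
      rw [← Scheme.IdealSheafData.comap_comp, hq]
      exact h1
    have h3 : BlowUp.IsEffCartierIdeal (I.comap O.ι) :=
      Groth.Agent.Lib.T2H1.EffCartDescent.isEffCartier_descent q q.isOpenMap _ h2
    exact exists_of_isEffCartier_comap_ι I O h3 v ⟨w, hwv⟩
  · exact exists_unit_of_not_mem_support I v hv

end Groth.Agent.Lib.T2H1.EffCartEquiv
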