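import Mathlib
import Groth.Agent.Lib.T2H1HasAt
import Groth.Agent.Lib.Helper6EtDim

/-!
# Pointwise properties of algebraic spaces read on etale charts (helper1, team 2)
-/

set_option autoImplicit false
universe u
open CategoryTheory CategoryTheory.Limits AlgebraicGeometry
open AlgSp

namespace Groth.Agent.Lib.T2H1.HasAt

variable {S : Scheme.{u}}

/-- a pointwise predicate on schemes invariant under etale morphisms. -/
def EtInv1 (Q : ∀ U : Scheme.{u}, ↥U → Prop) : Prop :=
  ∀ ⦃U U' : Scheme.{u}⦄ (a : U' ⟶ U), Etale a → ∀ u' : ↥U', (Q U (a u') ↔ Q U' u')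

/-- **independence of the chart** for predicates on pointed schemes invariant under etale
morphisms. -/
theorem of_hasAt {Q : ∀ U : Scheme.{u}, ↥U → Prop} (hQ : EtInv1 Q) {F : AlgSp.Sp S}
    (x : AlgSp.Points F) (H : AlgSp.HasAt Q F x) {U : Over S} (a : (AlgSp.yon S).obj U ⟶ F)
    (ha : AlgSp.RepWith @Etale a) (u : ↥U.left) (hu : AlgSp.Points.ofPt a u = x) :
    Q U.left u := by
  obtain ⟨U1, a1, u1, ha1, hu1, hQ1⟩ := H
  obtain ⟨U2, pr1, pr2', sqU⟩ := ha.1 a1
  obtain ⟨pr2, rfl⟩ := (AlgSp.yon S).map_surjective pr2'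
  have e1 : Etale pr1.left := ha.2 _ _ pr1 sqU
  have e2 : Etale pr2.left := ha1.2 _ _ pr2 sqU.flip
  obtain ⟨y, hy1, hy2⟩ := Groth.Agent.S10176.exists_point_of_isPullback_yon sqU u u1
    (hu.trans hu1.symm)
  have h1 := hQ pr2.left e2 y
  have h2 := hQ pr1.left e1 y
  rw [hy1] at h1
  rw [hy2] at h2
  exact h1.2 (h2.1 hQ1)

/-- relations on the local dimension of a scheme at a point are invariant under etale
morphisms. -/
theorem etInv1_localDim (R : WithBot ℕ∞ → Prop) :
    EtInv1 (fun U u => R (FlatMor.localDim ↥U u)) := by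
  intro U U' a ha u'
  haveI := ha
  show R (FlatMor.localDim ↥U (a u')) ↔ R (FlatMor.localDim ↥U' u')
  rw [Groth.Agent.Lib.Helper6.EtDim.localDim_eq_of_etale a u']

end Groth.Agent.Lib.T2H1.HasAt
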