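import Mathlib
import Groth.Agent.Lib.T2H1HasAt1
import Groth.Agent.Lib.Helper3HzDim
import Groth.Agent.Lib.Helper6SmQF

/-!
# The dimension of local rings is invariant under etale morphisms (helper1, team 2)
-/

set_option autoImplicit false
universe u
open CategoryTheory CategoryTheory.Limits AlgebraicGeometry
open AlgSp

namespace Groth.Agent.Lib.T2H1.HasAt

/-- etale morphisms preserve the dimension of local rings. -/
theorem ringKrullDim_stalk_eq_of_etale {U V : Scheme.{u}} (f : U ⟶ V) [Etale f] (x : U) :
    ringKrullDim (U.presheaf.stalk x) = ringKrullDim (V.presheaf.stalk (f x)) := by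
  haveI : LocallyQuasiFinite f :=
    ((Groth.Agent.Lib.Helper6.SmQF.etale_iff_smooth_and_locallyQuasiFinite f).mp inferInstance).2
  have hqf : (f.stalkMap x).hom.QuasiFinite := f.quasiFiniteAt x
  have hflat : (f.stalkMap x).hom.Flat := Flat.stalkMap f x
  have hloc : IsLocalHom (f.stalkMap x).hom := inferInstance
  algebraize [(f.stalkMap x).hom]
  haveI : IsLocalHom (algebraMap (V.presheaf.stalk (f x)) (U.presheaf.stalk x)) := hloc
  haveI : Module.FaithfullyFlat (V.presheaf.stalk (f x)) (U.presheaf.stalk x) :=
    Module.FaithfullyFlat.of_flat_of_isLocalHom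
  exact Groth.Agent.Lib.Helper3.HzDim.ringKrullDim_eq_of_faithfullyFlat_of_incomparable
    (fun P Q _ _ hPQ h => Algebra.QuasiFinite.eq_of_le_of_under_eq
      (R := V.presheaf.stalk (f x)) P Q hPQ h)

/-- relations on the dimension of the local ring at a point are invariant under etale
morphisms. -/
theorem etInv1_stalkDim (R : WithBot ℕ∞ → Prop) :
    EtInv1 (fun U u => R (ringKrullDim ↥(U.presheaf.stalk u))) := by
  intro U U' a ha u'
  haveI := ha
  show R (ringKrullDim ↥(U.presheaf.stalk (a u'))) ↔ R (ringKrullDim ↥(U'.presheaf.stalk u'))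
  rw [ringKrullDim_stalk_eq_of_etale a u']

end Groth.Agent.Lib.T2H1.HasAt
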