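import Groth.Agent.Lib.T2H1EffCart
import Groth.Agent.Lib.T2H1StalkDim
import Groth.Agent.Lib.Helper3HzFib2
import Groth.Agent.Lib.Helper28Normal
import Groth.Agent.Lib.Helper5Depth
import Groth.Agent.S1685
import Groth.Prelude.Def_Pi1

/-!
# Serre's conditions on effective Cartier divisors of algebraic spaces
-/

set_option autoImplicit false
universe u
open CategoryTheory CategoryTheory.Limits AlgebraicGeometry
open AlgSp

namespace Groth.Agent.Lib.T2H1.EffCartSk

variable {S : Scheme.{u}}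

/-- etale morphisms of locally Noetherian schemes preserve the depth of local rings. -/
theorem depth_stalk_eq_of_etale {U V : Scheme.{u}} [IsLocallyNoetherian U] [IsLocallyNoetherian V]
    (f : U ⟶ V) [Etale f] (x : U) :
    LocCoh.depth (U.presheaf.stalk x) (U.presheaf.stalk x) =
      LocCoh.depth (V.presheaf.stalk (f x)) (V.presheaf.stalk (f x)) := by
  have hflat : (f.stalkMap x).hom.Flat := Flat.stalkMap f x
  have hloc : IsLocalHom (f.stalkMap x).hom := inferInstance
  have hunr : (f.stalkMap x).hom.FormallyUnramified := FormallyUnramified.stalkMap f x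
  have heft : (f.stalkMap x).hom.EssFiniteType := LocallyOfFiniteType.stalkMap f x
  algebraize [(f.stalkMap x).hom]
  haveI : IsLocalHom (algebraMap (V.presheaf.stalk (f x)) (U.presheaf.stalk x)) := hloc
  exact Groth.Agent.Lib.Helper3.HzFib.depth_eq_of_flat_of_map_eq
    (Algebra.FormallyUnramified.map_maximalIdeal)

/-- the pointwise form of Serre's condition is invariant under etale morphisms. -/
theorem sk_stalk_of_etale {U V : Scheme.{u}} [IsLocallyNoetherian U] [IsLocallyNoetherian V]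
    (f : U ⟶ V) [Etale f] (k : ℕ) (x : U)
    (h : min (k : WithBot ℕ∞) (ringKrullDim (V.presheaf.stalk (f x))) ≤
      ((LocCoh.depth (V.presheaf.stalk (f x)) (V.presheaf.stalk (f x)) : ℕ∞) : WithBot ℕ∞)) :
    min (k : WithBot ℕ∞) (ringKrullDim (U.presheaf.stalk x)) ≤
      ((LocCoh.depth (U.presheaf.stalk x) (U.presheaf.stalk x) : ℕ∞) : WithBot ℕ∞) := by
  rw [Groth.Agent.Lib.T2H1.HasAt.ringKrullDim_stalk_eq_of_etale f x, depth_stalk_eq_of_etale f x]
  exact h

open Groth.Agent.Lib.T2H1.EffCart in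
/-- a common refinement: the chart of an effective Cartier divisor can be taken etale over a
given chart of the ambient space. -/
theorem exists_chart_over_chart {X D : Sp S} {i : D ⟶ X} (hD : IsEffCartierSub i)
    {U₀ : Over S} (a₀ : (yon S).obj U₀ ⟶ X) (ha₀e : RepWith @Etale a₀)
    (ha₀s : RepWith @Surjective a₀) :
    ∃ (W : Over S) (pU : W ⟶ U₀) (ψ : (yon S).obj W ⟶ X) (J : W.left.IdealSheafData)
      (l : (yon S).obj (sub W J) ⟶ D), Etale pU.left ∧ RepWith @Etale ψ ∧ RepWith @Surjective ψ ∧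
      RepWith @Etale l ∧ RepWith @Surjective l ∧
      IsPullback l ((yon S).map (subι W J)) i ψ ∧ BlowUp.IsEffCartierIdeal J := by
  obtain ⟨hcl, V, φ, I, fstD, hφe, hφs, sqD, hI⟩ := hD
  obtain ⟨W, pU, pVs, sqW⟩ := hφe.1 a₀
  obtain ⟨pV, rfl⟩ := (yon S).map_surjective pVs
  have hpUe : Etale pU.left := hφe.2 a₀ _ pU sqW
  haveI hpVe : Etale pV.left := ha₀e.2 φ _ pV sqW.flip
  have hpVs : Surjective pV.left := ha₀s.2 φ _ pV sqW.flip
  have hψe : RepWith @Etale ((yon S).map pV ≫ φ) :=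
    (RepWith @Etale).comp_mem _ _ ((repWith_yon_map_iff _ _).2 hpVe) hφe
  have hψs : RepWith @Surjective ((yon S).map pV ≫ φ) :=
    (RepWith @Surjective).comp_mem _ _ ((repWith_yon_map_iff _ _).2 hpVs) hφs
  obtain ⟨l, sql⟩ := chart_refine pV sqD
  exact ⟨W, pU, (yon S).map pV ≫ φ, I.comap pV.left, l, hpUe, hψe, hψs,
    MorphismProperty.of_isPullback (P := RepWith @Etale) sql.flip hψe,
    MorphismProperty.of_isPullback (P := RepWith @Surjective) sql.flip hψs, sql,
    Groth.Agent.Lib.T2H6.BlowUpFlatBC.isEffCartier_comap_of_flat pV.left I hI⟩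

open Groth.Agent.Lib.T2H1.EffCart in
/-- an effective Cartier divisor on a locally Noetherian `(S_k)` algebraic space is locally
Noetherian and `(S_{k-1})`. -/
theorem effCart_Sk {X D : Sp S} (k : ℕ)
    (hX : EtaleLocally (fun U => IsLocallyNoetherian U ∧ ∀ x : ↥U,
        min ((k : ℕ) : WithBot ℕ∞) (ringKrullDim ↥(U.presheaf.stalk x)) ≤
          ((LocCoh.depth ↥(U.presheaf.stalk x) ↥(U.presheaf.stalk x) : ℕ∞) : WithBot ℕ∞)) X)
    (i : D ⟶ X) (hD : IsEffCartierSub i) :
    EtaleLocally (fun V => IsLocallyNoetherian V ∧ ∀ v : ↥V,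
        min ((k - 1 : ℕ) : WithBot ℕ∞) (ringKrullDim ↥(V.presheaf.stalk v)) ≤
          ((LocCoh.depth ↥(V.presheaf.stalk v) ↥(V.presheaf.stalk v) : ℕ∞) : WithBot ℕ∞)) D := by
  obtain ⟨U₀, a₀, ha₀e, ha₀s, hN, hSk⟩ := hX
  obtain ⟨W, pU, ψ, J, l, hpUe, -, -, hle, hls, -, hJ⟩ := exists_chart_over_chart hD a₀ ha₀e ha₀s
  haveI := hN
  haveI := hpUe
  haveI hNW : IsLocallyNoetherian W.left := LocallyOfFiniteType.isLocallyNoetherian pU.left
  have hSkW : ∀ w : ↥W.left, min ((k : ℕ) : WithBot ℕ∞) (ringKrullDim ↥(W.left.presheaf.stalk w)) ≤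
      ((LocCoh.depth ↥(W.left.presheaf.stalk w) ↥(W.left.presheaf.stalk w) : ℕ∞) : WithBot ℕ∞) :=
    fun w => sk_stalk_of_etale pU.left k w (hSk (pU.left w))
  haveI hNZ : IsLocallyNoetherian J.subscheme := LocallyOfFiniteType.isLocallyNoetherian J.subschemeι
  exact ⟨sub W J, l, hle, hls, hNZ, fun v => Groth.Agent.S1685.result W.left k hSkW J hJ v⟩

/-- the pointwise `(S_2)` condition for a normal Noetherian local domain. -/
theorem s2_of_normal {A : Type u} [CommRing A] [IsLocalRing A] [IsNoetherianRing A] [IsDomain A]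
    [IsIntegrallyClosed A] :
    min ((2 : ℕ) : WithBot ℕ∞) (ringKrullDim A) ≤ ((LocCoh.depth A A : ℕ∞) : WithBot ℕ∞) := by
  rcases le_or_gt (2 : WithBot ℕ∞) (ringKrullDim A) with h2 | h2
  · have hd := Groth.Agent.Lib.Helper28.two_le_depth_of_isIntegrallyClosed_of_two_le_dim h2
    refine (min_le_left _ _).trans ?_
    have := WithBot.coe_le_coe.mpr hd
    simpa using this
  · refine (min_le_right _ _).trans ?_
    rw [← IsLocalRing.maximalIdeal_height_eq_ringKrullDim] at h2 ⊢
    apply WithBot.coe_le_coe.mpr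
    have h2' : (IsLocalRing.maximalIdeal A).height < 2 := by
      have : (((IsLocalRing.maximalIdeal A).height : ℕ∞) : WithBot ℕ∞) < ((2 : ℕ∞) : WithBot ℕ∞) := h2
      exact WithBot.coe_lt_coe.mp this
    have hle1 : (IsLocalRing.maximalIdeal A).height ≤ 1 := by
      have : (IsLocalRing.maximalIdeal A).height < 1 + 1 := by rwa [one_add_one_eq_two]
      exact (ENat.lt_add_one_iff (by simp)).mp this
    rcases eq_or_ne (IsLocalRing.maximalIdeal A).height 0 with h0 | h0
    · rw [h0]; exact zero_le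
    · have h1 : (IsLocalRing.maximalIdeal A).height = 1 :=
        le_antisymm hle1 (Order.one_le_iff_pos.mpr (pos_iff_ne_zero.mpr h0))
      rw [h1, Order.one_le_iff_pos, pos_iff_ne_zero]
      intro hd0
      have hf : IsField A := Groth.Agent.Lib.Helper5.depth_self_eq_zero_iff_isField.mp hd0
      have hk : ringKrullDim A = 0 := ringKrullDim_eq_zero_of_isField hf
      rw [← IsLocalRing.maximalIdeal_height_eq_ringKrullDim, h1] at hk
      exact absurd hk (by norm_num)

/-- an effective Cartier divisor on a locally Noetherian normal algebraic space is `(S_1)`. -/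
theorem effCart_S1_of_normal {X D : Sp S}
    (hX : EtaleLocally (fun U => IsLocallyNoetherian U ∧ Pi1.IsNormalScheme U) X)
    (i : D ⟶ X) (hD : IsEffCartierSub i) :
    EtaleLocally (fun V => IsLocallyNoetherian V ∧ ∀ v : ↥V,
        min ((1 : ℕ) : WithBot ℕ∞) (ringKrullDim ↥(V.presheaf.stalk v)) ≤
          ((LocCoh.depth ↥(V.presheaf.stalk v) ↥(V.presheaf.stalk v) : ℕ∞) : WithBot ℕ∞)) D := by
  obtain ⟨U₀, a₀, ha₀e, ha₀s, hN, hnorm⟩ := hX
  refine effCart_Sk 2 ⟨U₀, a₀, ha₀e, ha₀s, hN, fun x => ?_⟩ i hD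
  haveI := hN
  haveI := (hnorm x).1
  haveI := (hnorm x).2
  exact s2_of_normal

end Groth.Agent.Lib.T2H1.EffCartSk
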