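-- helper6 (team 2): generators of effective Cartier ideals are nonzerodivisors; the product of the
-- interiors is schematically dense in `X ×_S T` when the pulled-back moduli are effective Cartier.
import Mathlib
import Groth.Prelude.Def_BlowUp2
import Groth.Prelude.Def_W4c6modpairsegaMP
import Groth.Agent.Lib.Helper20EffCartier
import Groth.Agent.Lib.Helper20BlowUp

set_option autoImplicit false
set_option backward.isDefEq.respectTransparency false
set_option backward.isDefEq.respectTransparency.types false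
open CategoryTheory CategoryTheory.Limits AlgebraicGeometry

universe u

namespace Groth.Agent.Lib.T2H6.ModulusProd

open nonZeroDivisors

/-- Any generator of an effective Cartier ideal over an affine open is a nonzerodivisor. -/
theorem mem_nonZeroDivisors_of_ideal_eq {X : Scheme.{u}} (I : X.IdealSheafData)
    (hI : BlowUp.IsEffCartierIdeal I) (U : X.affineOpens) (f : Γ(X, U.1))
    (hf : I.ideal U = Ideal.span {f}) : f ∈ Γ(X, U.1)⁰ := by
  rw [mem_nonZeroDivisors_iff_right]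
  intro b hb
  have key : ∀ x : U.1, ∃ (V : X.Opens) (hVU : V ≤ U.1), x.1 ∈ V ∧
      (X.presheaf.map (homOfLE hVU).op).hom b = 0 := by
    rintro ⟨x, hx⟩
    obtain ⟨V, hV, hxV, hVU, g, hg, hIg⟩ :=
      Groth.Agent.Lib.Helper20.EffCartier.exists_le_of_isEffCartierIdeal hI x U.1 hx
    refine ⟨V, hVU, hxV, ?_⟩
    let ρ := (X.presheaf.map (homOfLE hVU).op).hom
    have h1 : I.ideal ⟨V, hV⟩ = Ideal.span {ρ f} := by
      rw [← I.map_ideal (U := ⟨V, hV⟩) (V := U) hVU, hf, Ideal.map_span, Set.image_singleton]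
      rfl
    have h2 : g ∈ Ideal.span {ρ f} := by
      rw [← h1, hIg]
      exact Ideal.subset_span (Set.mem_singleton _)
    obtain ⟨c, hc⟩ := Ideal.mem_span_singleton'.1 h2
    apply (mem_nonZeroDivisors_iff_right.1 hg)
    change ρ b * g = 0
    rw [← hc, mul_comm c, ← mul_assoc, ← map_mul, hb, map_zero, zero_mul]
  choose V hVU hxV hV0 using key
  have := X.sheaf.eq_of_locally_eq' V U.1 (fun x => homOfLE (hVU x))
    (fun x hx => TopologicalSpace.Opens.mem_iSup.2 ⟨⟨x, hx⟩, hxV ⟨x, hx⟩⟩) b 0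
    (fun x => by
      rw [map_zero]
      exact hV0 x)
  exact this

/-- a factor of a nonzerodivisor is a nonzerodivisor -/
theorem mem_nonZeroDivisors_of_mul {A : Type*} [CommRing A] {a b : A} (h : a * b ∈ A⁰) :
    b ∈ A⁰ := by
  rw [mem_nonZeroDivisors_iff_right]
  intro c hc
  apply (mem_nonZeroDivisors_iff_right.1 h)
  rw [mul_comm a, ← mul_assoc, hc, zero_mul]

open Groth.Agent.Lib.Helper20.EffCartier in
theorem isEffCartierIdeal_comap_comp {X S P : Scheme.{u}} (IS : S.IdealSheafData)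
    (IX : X.IdealSheafData) (hS : BlowUp.IsEffCartierIdeal IS) (hX : BlowUp.IsEffCartierIdeal IX)
    (f : X ⟶ S) (q : P ⟶ X) (hf : IX ≤ IS.comap f)
    (h₁ : BlowUp.IsEffCartierIdeal (IX.comap q)) :
    BlowUp.IsEffCartierIdeal (IS.comap (q ≫ f)) := by
  intro z
  obtain ⟨S', hS', σ, -, hISσ⟩ := hS (f (q z))
  obtain ⟨X', hX', hxX', hX'le, ξ, -, hIXξ⟩ :=
    exists_le_of_isEffCartierIdeal hX (q z) (f ⁻¹ᵁ S'.1) hS'
  obtain ⟨P', hP', hzP', hP'le, -⟩ := exists_le_of_isEffCartierIdeal h₁ z (q ⁻¹ᵁ X') hxX'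
  let φ := (f.appLE S'.1 X' hX'le).hom
  let ψ := (q.appLE X' P' hP'le).hom
  refine ⟨⟨P', hP'⟩, hzP', ψ (φ σ), ?_, ?_⟩
  · have h1 : (IX.comap q).ideal ⟨P', hP'⟩ = Ideal.span {ψ ξ} := by
      rw [ideal_comap_eq_map q IX hP' hX' hP'le]
      change (IX.ideal ⟨X', hX'⟩).map _ = _
      rw [hIXξ, Ideal.map_span, Set.image_singleton]
    have h2 := mem_nonZeroDivisors_of_ideal_eq _ h₁ ⟨P', hP'⟩ _ h1
    have h3 : ξ ∈ Ideal.span {φ σ} := by
      have : (IS.comap f).ideal ⟨X', hX'⟩ = Ideal.span {φ σ} := by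
        rw [ideal_comap_eq_map f IS hX' S'.2 hX'le]
        change (IS.ideal S').map _ = _
        rw [hISσ, Ideal.map_span, Set.image_singleton]
      rw [← this]
      apply hf
      rw [hIXξ]
      exact Ideal.subset_span (Set.mem_singleton _)
    obtain ⟨a, ha⟩ := Ideal.mem_span_singleton'.1 h3
    rw [← ha, map_mul] at h2
    exact mem_nonZeroDivisors_of_mul h2
  · rw [Scheme.IdealSheafData.comap_comp, ideal_comap_eq_map q (IS.comap f) hP' hX' hP'le]
    change ((IS.comap f).ideal ⟨X', hX'⟩).map _ = _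
    rw [ideal_comap_eq_map f IS hX' S'.2 hX'le]
    change ((IS.ideal S').map _).map _ = _
    rw [hISσ, Ideal.map_span, Set.image_singleton, Ideal.map_span, Set.image_singleton]

/-- An open containing, locally, the nonvanishing locus of a nonzerodivisor is schematically
dense. -/
theorem ker_ι_eq_bot_of_dense {P : Scheme.{u}} (U : P.Opens)
    (h : ∀ z : P, ∃ (P' : P.affineOpens) (t : Γ(P, P'.1)), z ∈ P'.1 ∧ t ∈ Γ(P, P'.1)⁰ ∧
      P.basicOpen t ≤ U) :
    U.ι.ker = ⊥ := by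
  choose P' t hz ht htU using h
  rw [← le_bot_iff]
  refine Scheme.IdealSheafData.le_of_iSup_eq_top P' ?_ ?_
  · rw [eq_top_iff]
    intro z _
    exact TopologicalSpace.Opens.mem_iSup.2 ⟨z, hz z⟩
  · intro z
    refine (U.ι.ideal_ker_le (P' z)).trans ?_
    rw [Scheme.IdealSheafData.ideal_bot]
    intro r hr
    rw [RingHom.mem_ker] at hr
    have inst := (P' z).2.isLocalization_basicOpen (t z)
    have hinj : Function.Injective (P.presheaf.map (homOfLE (P.basicOpen_le (t z))).op).hom :=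
      IsLocalization.injective (M := Submonoid.powers (t z)) _ (Submonoid.powers_le.2 (ht z))
    apply hinj
    rw [map_zero]
    have hle : P.basicOpen (t z) ≤ U.ι ''ᵁ U.ι ⁻¹ᵁ (P' z).1 := by
      rw [Scheme.Hom.image_preimage_eq_opensRange_inf, Scheme.Opens.opensRange_ι]
      exact le_inf (htU z) (P.basicOpen_le (t z))
    have h1 : P.presheaf.map (homOfLE (P.basicOpen_le (t z))).op =
        U.ι.app (P' z).1 ≫ P.presheaf.map (homOfLE hle).op := by
      rw [Scheme.Opens.ι_app, ← Functor.map_comp]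
      rfl
    rw [h1, CommRingCat.hom_comp, RingHom.comp_apply, hr, map_zero]

open Groth.Agent.Lib.Helper20.EffCartier in
theorem isIso_mprodι {X T S : Scheme.{u}} (IX : X.IdealSheafData) (IT : T.IdealSheafData)
    (hX : BlowUp.IsEffCartierIdeal IX) (hT : BlowUp.IsEffCartierIdeal IT) (f : X ⟶ S) (g : T ⟶ S)
    (h₁ : BlowUp.IsEffCartierIdeal (IX.comap (pullback.fst f g)))
    (h₂ : BlowUp.IsEffCartierIdeal (IT.comap (pullback.snd f g))) :
    IsIso (ModPair.mprodι f g IX IT) := by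
  change IsIso (Scheme.IdealSheafData.subschemeι _)
  rw [Scheme.isIso_subschemeι_iff_eq_bot]
  apply ker_ι_eq_bot_of_dense
  intro z
  obtain ⟨X', hzX', ξ, -, hξ⟩ := hX (pullback.fst f g z)
  obtain ⟨T', hzT', τ, -, hτ⟩ := hT (pullback.snd f g z)
  obtain ⟨P', hP', hzP', hP'le, -⟩ := exists_le_of_isEffCartierIdeal h₁ z
    (pullback.fst f g ⁻¹ᵁ X'.1 ⊓ pullback.snd f g ⁻¹ᵁ T'.1) ⟨hzX', hzT'⟩
  let ψ₁ := ((pullback.fst f g).appLE X'.1 P' (hP'le.trans inf_le_left)).hom
  let ψ₂ := ((pullback.snd f g).appLE T'.1 P' (hP'le.trans inf_le_right)).hom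
  have e1 : (IX.comap (pullback.fst f g)).ideal ⟨P', hP'⟩ = Ideal.span {ψ₁ ξ} := by
    rw [ideal_comap_eq_map (pullback.fst f g) IX hP' X'.2 (hP'le.trans inf_le_left)]
    change (IX.ideal X').map _ = _
    rw [hξ, Ideal.map_span, Set.image_singleton]
  have e2 : (IT.comap (pullback.snd f g)).ideal ⟨P', hP'⟩ = Ideal.span {ψ₂ τ} := by
    rw [ideal_comap_eq_map (pullback.snd f g) IT hP' T'.2 (hP'le.trans inf_le_right)]
    change (IT.ideal T').map _ = _
    rw [hτ, Ideal.map_span, Set.image_singleton]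
  refine ⟨⟨P', hP'⟩, ψ₁ ξ * ψ₂ τ, hzP',
    mul_mem (mem_nonZeroDivisors_of_ideal_eq _ h₁ ⟨P', hP'⟩ _ e1)
      (mem_nonZeroDivisors_of_ideal_eq _ h₂ ⟨P', hP'⟩ _ e2), ?_⟩
  rw [Scheme.basicOpen_mul]
  intro w hw
  exact ⟨Groth.Agent.Lib.Helper20.BlowUpBasic.basicOpen_le_preimage_compl IX _ hP' _ e1 hw.1,
    Groth.Agent.Lib.Helper20.BlowUpBasic.basicOpen_le_preimage_compl IT _ hP' _ e2 hw.2⟩

end Groth.Agent.Lib.T2H6.ModulusProd
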