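-- helper6 (team 2): the scheme-theoretic closure of the product of interiors in `X ×_S T`:
-- local description of its ideal, effective Cartier-ness of the pulled-back moduli.
import Mathlib
import Groth.Prelude.Def_BlowUp2
import Groth.Prelude.Def_W4c6modpairsegaMP
import Groth.Agent.Lib.Helper20EffCartier
import Groth.Agent.Lib.Helper20BlowUp
import Groth.Agent.Lib.T2H6ModulusProd

set_option autoImplicit false
set_option backward.isDefEq.respectTransparency false
set_option backward.isDefEq.respectTransparency.types false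
open CategoryTheory CategoryTheory.Limits AlgebraicGeometry

universe u

namespace Groth.Agent.Lib.T2H6.ModulusClosure

open nonZeroDivisors

/-- On an affine open where `L = (t)`, the interior of `L` is the basic open of `t`. -/
theorem interior_inf {P : Scheme.{u}} (L : P.IdealSheafData) (P' : P.affineOpens)
    (t : Γ(P, P'.1)) (hL : L.ideal P' = Ideal.span {t}) :
    ModPair.interior L ⊓ P'.1 = P.basicOpen t := by
  ext z
  constructor
  · rintro ⟨hz, hzP'⟩
    by_contra hzt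
    apply hz
    change z ∈ L.support
    rw [Scheme.IdealSheafData.mem_support_iff_of_mem (U := P') hzP', Scheme.mem_zeroLocus_iff]
    intro s hs hzs
    rw [hL] at hs
    obtain ⟨c, rfl⟩ := Ideal.mem_span_singleton'.1 hs
    rw [Scheme.basicOpen_mul] at hzs
    exact hzt hzs.2
  · intro hz
    have hzP' : z ∈ P'.1 := P.basicOpen_le t hz
    refine ⟨?_, hzP'⟩
    intro hmem
    have hmem' : z ∈ L.support := hmem
    rw [Scheme.IdealSheafData.mem_support_iff_of_mem (U := P') hzP', Scheme.mem_zeroLocus_iff]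
      at hmem'
    exact hmem' t (by rw [hL]; exact Ideal.subset_span (Set.mem_singleton _)) hz

theorem interior_comap {P X : Scheme.{u}} (I : X.IdealSheafData) (q : P ⟶ X) :
    ModPair.interior (I.comap q) = q ⁻¹ᵁ ModPair.interior I := by
  ext z
  change z ∉ ((I.comap q).support : Set P) ↔ q z ∉ (I.support : Set X)
  rw [Scheme.IdealSheafData.support_comap]
  rfl

/-- An open which locally is a basic open has quasi-compact inclusion. -/
theorem quasiCompact_ι_of_cover {P : Scheme.{u}} (U : P.Opens)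
    (h : ∀ z : P, ∃ (P' : P.affineOpens) (t : Γ(P, P'.1)), z ∈ P'.1 ∧ U ⊓ P'.1 = P.basicOpen t) :
    QuasiCompact U.ι := by
  choose W t hz ht using h
  have hcov : ⨆ y, (W y).1 = ⊤ := by
    rw [eq_top_iff]
    intro y _
    exact TopologicalSpace.Opens.mem_iSup.2 ⟨y, hz y⟩
  rw [HasAffineProperty.iff_of_iSup_eq_top (P := @QuasiCompact) W hcov]
  intro y
  change CompactSpace ↥(U.ι ⁻¹ᵁ (W y).1)
  refine isCompact_iff_compactSpace.1 ?_
  rw [U.ι.isOpenEmbedding.isInducing.isCompact_iff]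
  have h2 : U.ι '' (U.ι ⁻¹ᵁ (W y).1 : Set _) = (P.basicOpen (t y) : Set P) := by
    rw [← ht y]
    change U.ι '' (U.ι ⁻¹' ((W y).1 : Set P)) = _
    rw [Set.image_preimage_eq_inter_range, Scheme.Opens.range_ι, Set.inter_comm]
    rfl
  rw [h2]
  exact ((W y).2.basicOpen (t y)).isCompact

/-- The ideal of the scheme-theoretic closure of an open which on `P'` is the basic open `D(t)`:
the `t`-power torsion. -/
theorem mem_ideal_ker_ι_iff {P : Scheme.{u}} (U : P.Opens) [QuasiCompact U.ι]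
    (P' : P.affineOpens) (t : Γ(P, P'.1)) (ht : U ⊓ P'.1 = P.basicOpen t) (b : Γ(P, P'.1)) :
    b ∈ U.ι.ker.ideal P' ↔ ∃ n : ℕ, t ^ n * b = 0 := by
  rw [Scheme.Hom.ker_apply, RingHom.mem_ker]
  have hEq : U.ι ''ᵁ U.ι ⁻¹ᵁ P'.1 = P.basicOpen t := by
    rw [Scheme.Hom.image_preimage_eq_opensRange_inf, Scheme.Opens.opensRange_ι, ht]
  have inst := P'.2.isLocalization_basicOpen t
  have hloc : (P.presheaf.map (homOfLE (P.basicOpen_le t)).op).hom b = 0 ↔
      ∃ n : ℕ, t ^ n * b = 0 := by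
    have h1 : (P.presheaf.map (homOfLE (P.basicOpen_le t)).op).hom b =
      algebraMap Γ(P, P'.1) Γ(P, P.basicOpen t) b := rfl
    rw [h1, IsLocalization.map_eq_zero_iff (Submonoid.powers t)]
    constructor
    · rintro ⟨⟨_, n, rfl⟩, hm⟩
      exact ⟨n, hm⟩
    · rintro ⟨n, hn⟩
      exact ⟨⟨_, n, rfl⟩, hn⟩
  rw [← hloc]
  have h1 : P.presheaf.map (homOfLE (P.basicOpen_le t)).op =
      U.ι.app P'.1 ≫ P.presheaf.map (homOfLE hEq.ge).op := by
    rw [Scheme.Opens.ι_app, ← Functor.map_comp]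
    rfl
  have h2 : U.ι.app P'.1 = P.presheaf.map (homOfLE (P.basicOpen_le t)).op ≫
      P.presheaf.map (homOfLE hEq.le).op := by
    rw [Scheme.Opens.ι_app, ← Functor.map_comp]
    rfl
  constructor
  · intro h
    rw [h1, CommRingCat.hom_comp, RingHom.comp_apply, h, map_zero]
  · intro h
    rw [h2, CommRingCat.hom_comp, RingHom.comp_apply, h, map_zero]

open Groth.Agent.Lib.Helper20.EffCartier in
/-- On the scheme-theoretic closure of an open `U` with `U ∩ P' = D(t' t'')`, an ideal sheaf with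
`L(P') = (t')` pulls back to an ideal generated by a nonzerodivisor over the preimage of `P'`. -/
theorem exists_gen_comap_imageι {P : Scheme.{u}} (U : P.Opens) [QuasiCompact U.ι]
    (L : P.IdealSheafData) (P' : P.affineOpens) (t' t'' : Γ(P, P'.1))
    (ht : U ⊓ P'.1 = P.basicOpen (t' * t'')) (hL : L.ideal P' = Ideal.span {t'}) :
    ∃ (hY' : IsAffineOpen (U.ι.imageι ⁻¹ᵁ P'.1)) (y : Γ(U.ι.image, U.ι.imageι ⁻¹ᵁ P'.1)),
      y ∈ Γ(U.ι.image, U.ι.imageι ⁻¹ᵁ P'.1)⁰ ∧
      (L.comap U.ι.imageι).ideal ⟨U.ι.imageι ⁻¹ᵁ P'.1, hY'⟩ = Ideal.span {y} := by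
  have hY' : IsAffineOpen (U.ι.imageι ⁻¹ᵁ P'.1) := P'.2.preimage U.ι.imageι
  let θ := (U.ι.imageι.app P'.1).hom
  have hsurj : Function.Surjective θ := U.ι.ker.subschemeι_app_surjective P'
  have hker : RingHom.ker θ = U.ι.ker.ideal P' := U.ι.ker.ker_subschemeι_app P'
  refine ⟨hY', θ t', ?_, ?_⟩
  · rw [mem_nonZeroDivisors_iff_right]
    intro y hy
    obtain ⟨b, rfl⟩ := hsurj y
    have h1 : b * t' ∈ U.ι.ker.ideal P' := by
      rw [← hker, RingHom.mem_ker, map_mul, hy]
    rw [mem_ideal_ker_ι_iff U P' (t' * t'') ht] at h1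
    obtain ⟨n, hn⟩ := h1
    have h2 : b ∈ U.ι.ker.ideal P' := by
      rw [mem_ideal_ker_ι_iff U P' (t' * t'') ht]
      refine ⟨n + 1, ?_⟩
      calc (t' * t'') ^ (n + 1) * b = t'' * ((t' * t'') ^ n * (b * t')) := by ring
        _ = 0 := by rw [hn, mul_zero]
    rw [← hker, RingHom.mem_ker] at h2
    exact h2
  · rw [ideal_comap_eq_map U.ι.imageι L hY' P'.2 le_rfl]
    change (L.ideal P').map _ = _
    rw [hL, Ideal.map_span, Set.image_singleton, Scheme.Hom.appLE_eq_app]

/-- Local description of the product of the interiors. -/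
theorem prodInterior_local {X T S : Scheme.{u}} (IX : X.IdealSheafData) (IT : T.IdealSheafData)
    (hX : BlowUp.IsEffCartierIdeal IX) (hT : BlowUp.IsEffCartierIdeal IT) (f : X ⟶ S) (g : T ⟶ S)
    (z : ↥(pullback f g)) :
    ∃ (P' : (pullback f g).affineOpens) (t₁ t₂ : Γ(pullback f g, P'.1)), z ∈ P'.1 ∧
      (IX.comap (pullback.fst f g)).ideal P' = Ideal.span {t₁} ∧
      (IT.comap (pullback.snd f g)).ideal P' = Ideal.span {t₂} ∧
      ModPair.prodInterior f g IX IT ⊓ P'.1 = (pullback f g).basicOpen (t₁ * t₂) := by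
  obtain ⟨X', hzX', ξ, -, hξ⟩ := hX (pullback.fst f g z)
  obtain ⟨T', hzT', τ, -, hτ⟩ := hT (pullback.snd f g z)
  obtain ⟨P', hP', hzP', hP'le⟩ := exists_isAffineOpen_mem_and_subset
    (x := z) (U := pullback.fst f g ⁻¹ᵁ X'.1 ⊓ pullback.snd f g ⁻¹ᵁ T'.1) ⟨hzX', hzT'⟩
  have hle1 : P' ≤ pullback.fst f g ⁻¹ᵁ X'.1 := fun w hw => (hP'le hw).1
  have hle2 : P' ≤ pullback.snd f g ⁻¹ᵁ T'.1 := fun w hw => (hP'le hw).2
  let ψ₁ := ((pullback.fst f g).appLE X'.1 P' hle1).hom
  let ψ₂ := ((pullback.snd f g).appLE T'.1 P' hle2).hom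
  have e1 : (IX.comap (pullback.fst f g)).ideal ⟨P', hP'⟩ = Ideal.span {ψ₁ ξ} := by
    rw [Groth.Agent.Lib.Helper20.EffCartier.ideal_comap_eq_map (pullback.fst f g) IX hP' X'.2 hle1]
    change (IX.ideal X').map _ = _
    rw [hξ, Ideal.map_span, Set.image_singleton]
  have e2 : (IT.comap (pullback.snd f g)).ideal ⟨P', hP'⟩ = Ideal.span {ψ₂ τ} := by
    rw [Groth.Agent.Lib.Helper20.EffCartier.ideal_comap_eq_map (pullback.snd f g) IT hP' T'.2 hle2]
    change (IT.ideal T').map _ = _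
    rw [hτ, Ideal.map_span, Set.image_singleton]
  refine ⟨⟨P', hP'⟩, ψ₁ ξ, ψ₂ τ, hzP', e1, e2, ?_⟩
  have h1 := interior_inf _ ⟨P', hP'⟩ _ e1
  have h2 := interior_inf _ ⟨P', hP'⟩ _ e2
  rw [interior_comap] at h1 h2
  rw [Scheme.basicOpen_mul, ← h1, ← h2]
  change (_ ⊓ _) ⊓ P' = _
  ext w
  simp only [TopologicalSpace.Opens.coe_inf, Set.mem_inter_iff, SetLike.mem_coe]
  tauto

theorem quasiCompact_prodInterior_ι {X T S : Scheme.{u}} (IX : X.IdealSheafData)
    (IT : T.IdealSheafData) (hX : BlowUp.IsEffCartierIdeal IX) (hT : BlowUp.IsEffCartierIdeal IT)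
    (f : X ⟶ S) (g : T ⟶ S) : QuasiCompact (ModPair.prodInterior f g IX IT).ι := by
  apply quasiCompact_ι_of_cover
  intro z
  obtain ⟨P', t₁, t₂, hz, -, -, h⟩ := prodInterior_local IX IT hX hT f g z
  exact ⟨P', t₁ * t₂, hz, h⟩

/-- **Both pulled-back moduli are effective Cartier on the closure of the product of interiors.** -/
theorem isEffCartierIdeal_comap_mprodι {X T S : Scheme.{u}} (IX : X.IdealSheafData)
    (IT : T.IdealSheafData) (hX : BlowUp.IsEffCartierIdeal IX) (hT : BlowUp.IsEffCartierIdeal IT)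
    (f : X ⟶ S) (g : T ⟶ S) :
    BlowUp.IsEffCartierIdeal (IX.comap (ModPair.mprodι f g IX IT ≫ pullback.fst f g)) ∧
      BlowUp.IsEffCartierIdeal (IT.comap (ModPair.mprodι f g IX IT ≫ pullback.snd f g)) := by
  have := quasiCompact_prodInterior_ι IX IT hX hT f g
  constructor
  · intro y
    obtain ⟨P', t₁, t₂, hz, e1, -, h⟩ :=
      prodInterior_local IX IT hX hT f g (ModPair.mprodι f g IX IT y)
    obtain ⟨hY', s, hs, hIs⟩ := exists_gen_comap_imageι (ModPair.prodInterior f g IX IT)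
      (IX.comap (pullback.fst f g)) P' t₁ t₂ h e1
    refine ⟨⟨_, hY'⟩, hz, s, hs, ?_⟩
    rw [Scheme.IdealSheafData.comap_comp]
    exact hIs
  · intro y
    obtain ⟨P', t₁, t₂, hz, -, e2, h⟩ :=
      prodInterior_local IX IT hX hT f g (ModPair.mprodι f g IX IT y)
    rw [mul_comm] at h
    obtain ⟨hY', s, hs, hIs⟩ := exists_gen_comap_imageι (ModPair.prodInterior f g IX IT)
      (IT.comap (pullback.snd f g)) P' t₂ t₁ h e2
    refine ⟨⟨_, hY'⟩, hz, s, hs, ?_⟩
    rw [Scheme.IdealSheafData.comap_comp]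
    exact hIs

end Groth.Agent.Lib.T2H6.ModulusClosure
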