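-- helper6 (team 2): lifting morphisms of modulus pairs into the scheme-theoretic closure of the
-- product of interiors; universal property of the minimal-case product.
import Mathlib
import Groth.Prelude.Def_BlowUp2
import Groth.Prelude.Def_W4c6modpairsegaMP
import Groth.Agent.Lib.Helper20EffCartier
import Groth.Agent.Lib.T2H6ModulusClosure

set_option autoImplicit false
set_option backward.isDefEq.respectTransparency false
set_option backward.isDefEq.respectTransparency.types false
open CategoryTheory CategoryTheory.Limits AlgebraicGeometry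

universe u

namespace Groth.Agent.Lib.T2H6.ModulusLift

open nonZeroDivisors Groth.Agent.Lib.T2H6.ModulusClosure

/-- The interior of a modulus pair is schematically dense: a section vanishing on the interior
(inside an open `O`) vanishes. -/
theorem section_eq_zero_of_interior {W : Scheme.{u}} (IW : W.IdealSheafData)
    (hW : BlowUp.IsEffCartierIdeal IW) (O O' : W.Opens) (hO'O : O' ≤ O)
    (hint : ModPair.interior IW ⊓ O ≤ O') (s : Γ(W, O))
    (hs : (W.presheaf.map (homOfLE hO'O).op).hom s = 0) : s = 0 := by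
  have key : ∀ x : O, ∃ (V : W.Opens) (hVO : V ≤ O), x.1 ∈ V ∧
      (W.presheaf.map (homOfLE hVO).op).hom s = 0 := by
    rintro ⟨x, hx⟩
    obtain ⟨V, hV, hxV, hVO, w, hw, hIw⟩ :=
      Groth.Agent.Lib.Helper20.EffCartier.exists_le_of_isEffCartierIdeal hW x O hx
    refine ⟨V, hVO, hxV, ?_⟩
    have hD : W.basicOpen w ≤ O' := by
      refine le_trans ?_ hint
      have := interior_inf IW ⟨V, hV⟩ w hIw
      rw [← this]
      exact inf_le_inf le_rfl hVO
    have inst := hV.isLocalization_basicOpen w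
    have hinj : Function.Injective (W.presheaf.map (homOfLE (W.basicOpen_le w)).op).hom :=
      IsLocalization.injective (M := Submonoid.powers w) _ (Submonoid.powers_le.2 hw)
    apply hinj
    rw [map_zero]
    have h1 : W.presheaf.map (homOfLE hVO).op ≫ W.presheaf.map (homOfLE (W.basicOpen_le w)).op =
        W.presheaf.map (homOfLE hO'O).op ≫ W.presheaf.map (homOfLE hD).op := by
      rw [← Functor.map_comp, ← Functor.map_comp]
      rfl
    have h2 := congrArg (fun φ => φ.hom s) h1
    simp only [CommRingCat.hom_comp, RingHom.comp_apply] at h2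
    rw [h2, hs, map_zero]
  choose V hVO hxV hV0 using key
  exact W.sheaf.eq_of_locally_eq' V O (fun x => homOfLE (hVO x))
    (fun x hx => TopologicalSpace.Opens.mem_iSup.2 ⟨⟨x, hx⟩, hxV ⟨x, hx⟩⟩) s 0
    (fun x => by
      rw [map_zero]
      exact hV0 x)

/-- A morphism from a modulus pair mapping the interior into an open `U` kills the ideal of the
scheme-theoretic closure of `U`. -/
theorem ker_le_ker_of_interior_le {W P : Scheme.{u}} (IW : W.IdealSheafData)
    (hW : BlowUp.IsEffCartierIdeal IW) (U : P.Opens) (c₀ : W ⟶ P)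
    (hint : ModPair.interior IW ≤ c₀ ⁻¹ᵁ U) : U.ι.ker ≤ c₀.ker := by
  unfold Scheme.Hom.ker
  rw [Scheme.IdealSheafData.le_ofIdeals_iff]
  intro P' k hk
  have hk' := U.ι.ideal_ker_le P' hk
  rw [RingHom.mem_ker] at hk' ⊢
  have hle : U.ι ''ᵁ U.ι ⁻¹ᵁ P'.1 ≤ P'.1 := by
    rw [Scheme.Hom.image_preimage_eq_opensRange_inf]
    exact inf_le_right
  have hO'O : c₀ ⁻¹ᵁ (U.ι ''ᵁ U.ι ⁻¹ᵁ P'.1) ≤ c₀ ⁻¹ᵁ P'.1 := fun w hw => hle hw
  apply section_eq_zero_of_interior IW hW (c₀ ⁻¹ᵁ P'.1) (c₀ ⁻¹ᵁ (U.ι ''ᵁ U.ι ⁻¹ᵁ P'.1)) hO'O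
  · rintro w ⟨hw1, hw2⟩
    change c₀ w ∈ U.ι ''ᵁ U.ι ⁻¹ᵁ P'.1
    rw [Scheme.Hom.image_preimage_eq_opensRange_inf, Scheme.Opens.opensRange_ι]
    exact ⟨hint hw1, hw2⟩
  · have hnat := c₀.naturality (homOfLE hle).op
    have h2 := congrArg (fun φ => φ.hom k) hnat
    simp only [CommRingCat.hom_comp, RingHom.comp_apply] at h2
    have h3 : (P.presheaf.map (homOfLE hle).op).hom k = 0 := hk'
    rw [h3, map_zero] at h2
    exact h2.symm

/-- The lift of a morphism into the closure of `U`. -/
theorem exists_lift_imageι {W P : Scheme.{u}} (IW : W.IdealSheafData)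
    (hW : BlowUp.IsEffCartierIdeal IW) (U : P.Opens) (c₀ : W ⟶ P)
    (hint : ModPair.interior IW ≤ c₀ ⁻¹ᵁ U) : ∃ c : W ⟶ U.ι.image, c ≫ U.ι.imageι = c₀ := by
  have H : U.ι.imageι.ker ≤ c₀.ker := by
    rw [Scheme.IdealSheafData.ker_subschemeι]
    exact ker_le_ker_of_interior_le IW hW U c₀ hint
  exact ⟨IsClosedImmersion.lift U.ι.imageι c₀ H, IsClosedImmersion.lift_fac _ _ _⟩

theorem interior_le_of_le_comap {W X : Scheme.{u}} (IW : W.IdealSheafData) (IX : X.IdealSheafData)
    (b : W ⟶ X) (hb : IW ≤ IX.comap b) : ModPair.interior IW ≤ b ⁻¹ᵁ ModPair.interior IX := by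
  rw [← interior_comap]
  intro w hw hmem
  exact hw (Scheme.IdealSheafData.support_antitone hb hmem)

theorem mprod_universal {S T X : Scheme.{u}} (IS : S.IdealSheafData)
    (IT : T.IdealSheafData) (IX : X.IdealSheafData) (hS : BlowUp.IsEffCartierIdeal IS)
    (hT : BlowUp.IsEffCartierIdeal IT) (hX : BlowUp.IsEffCartierIdeal IX)
    (p : X ⟶ S) (hp : ModPair.IsAmbient IX IS p) (f : T ⟶ S) (hf : ModPair.IsMinimal IT IS f) :
    BlowUp.IsEffCartierIdeal (IX.comap (ModPair.mprodι p f IX IT ≫ pullback.fst p f)) ∧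
      ModPair.IsAmbient (IX.comap (ModPair.mprodι p f IX IT ≫ pullback.fst p f)) IT
        (ModPair.mprodι p f IX IT ≫ pullback.snd p f) ∧
      ∀ (W : Scheme.{u}) (IW : W.IdealSheafData), BlowUp.IsEffCartierIdeal IW →
        ∀ (a : W ⟶ T) (b : W ⟶ X), ModPair.IsAmbient IW IT a → ModPair.IsAmbient IW IX b →
          a ≫ f = b ≫ p →
          ∃! c : W ⟶ ModPair.mprod p f IX IT,
            c ≫ ModPair.mprodι p f IX IT ≫ pullback.snd p f = a ∧
              c ≫ ModPair.mprodι p f IX IT ≫ pullback.fst p f = b ∧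
              ModPair.IsAmbient IW (IX.comap (ModPair.mprodι p f IX IT ≫ pullback.fst p f)) c := by
  refine ⟨(isEffCartierIdeal_comap_mprodι IX IT hX hT p f).1, ?_, ?_⟩
  · change _ ≤ _
    have h1 : IT.comap (ModPair.mprodι p f IX IT ≫ pullback.snd p f) =
        (IS.comap p).comap (ModPair.mprodι p f IX IT ≫ pullback.fst p f) := by
      have hf' : IT = IS.comap f := hf
      rw [hf', ← Scheme.IdealSheafData.comap_comp, ← Scheme.IdealSheafData.comap_comp,
        Category.assoc, Category.assoc, pullback.condition]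
    rw [h1]
    exact Scheme.IdealSheafData.comap_mono _ hp
  · intro W IW hIW a b ha hb hab
    let c₀ : W ⟶ pullback p f := pullback.lift b a hab.symm
    have hint : ModPair.interior IW ≤ c₀ ⁻¹ᵁ ModPair.prodInterior p f IX IT := by
      intro w hw
      constructor
      · have h1 := interior_le_of_le_comap IW IX b hb hw
        change (pullback.fst p f) (c₀ w) ∈ ModPair.interior IX
        rw [← Scheme.Hom.comp_apply, pullback.lift_fst]
        exact h1
      · have h1 := interior_le_of_le_comap IW IT a ha hw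
        change (pullback.snd p f) (c₀ w) ∈ ModPair.interior IT
        rw [← Scheme.Hom.comp_apply, pullback.lift_snd]
        exact h1
    obtain ⟨c, hc⟩ := exists_lift_imageι IW hIW (ModPair.prodInterior p f IX IT) c₀ hint
    have hc' : c ≫ ModPair.mprodι p f IX IT = c₀ := hc
    refine ⟨c, ⟨?_, ?_, ?_⟩, ?_⟩
    · rw [← Category.assoc, hc', pullback.lift_snd]
    · rw [← Category.assoc, hc', pullback.lift_fst]
    · change IW ≤ _
      rw [← Scheme.IdealSheafData.comap_comp, ← Category.assoc, hc', pullback.lift_fst]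
      exact hb
    · rintro c' ⟨h1, h2, -⟩
      rw [← cancel_mono (ModPair.mprodι p f IX IT), hc']
      apply pullback.hom_ext
      · rw [Category.assoc, h2, pullback.lift_fst]
      · rw [Category.assoc, h1, pullback.lift_snd]

end Groth.Agent.Lib.T2H6.ModulusLift
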