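-- helper6 (team 2): an effective Cartier divisor which is empty on all valuation rings is empty.
import Mathlib
import Groth.Prelude.Def_BlowUp2
import Groth.Agent.Lib.Helper20EffCartier

set_option autoImplicit false
set_option backward.isDefEq.respectTransparency false
set_option backward.isDefEq.respectTransparency.types false
open CategoryTheory CategoryTheory.Limits AlgebraicGeometry

universe u

namespace Groth.Agent.Lib.T2H6.ModulusVal

open nonZeroDivisors

/-- A nonzerodivisor nonunit of a ring maps to a nonzero nonunit of some valuation ring. -/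
theorem exists_valuationRing_map (A : Type u) [CommRing A] (f : A) (hf : f ∈ A⁰)
    (hfu : ¬ IsUnit f) :
    ∃ (R : Type u) (_ : CommRing R) (_ : IsDomain R) (_ : ValuationRing R) (θ : A →+* R),
      θ f ≠ 0 ∧ ¬ IsUnit (θ f) := by
  obtain ⟨P, hP, hfP⟩ := exists_max_ideal_of_mem_nonunits (show f ∈ nonunits A from hfu)
  have hPp : P.IsPrime := hP.isPrime
  let L := Localization.AtPrime P
  have hfL : algebraMap A L f ∈ L⁰ :=
    IsLocalization.map_nonZeroDivisors_le P.primeCompl L (Submonoid.mem_map_of_mem _ hf)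
  obtain ⟨q, hq, -⟩ := Ideal.exists_minimalPrimes_le
    (I := (⊥ : Ideal L)) (J := IsLocalRing.maximalIdeal L) bot_le
  have hqp : q.IsPrime := hq.1.1
  have hfq : algebraMap A L f ∉ q := fun h =>
    Set.disjoint_left.1 (Ideal.disjoint_nonZeroDivisors_of_mem_minimalPrimes hq) h hfL
  let D := L ⧸ q
  have : IsDomain D := Ideal.Quotient.isDomain q
  have hqne : q ≠ ⊤ := hqp.ne_top
  have : Nontrivial D := Ideal.Quotient.nontrivial_iff.2 hqne
  have : IsLocalRing D := IsLocalRing.of_surjective' (Ideal.Quotient.mk q)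
    Ideal.Quotient.mk_surjective
  let K := FractionRing D
  obtain ⟨V, hV, hloc⟩ := IsLocalRing.exists_factor_valuationRing (algebraMap D K)
  let θ : A →+* V := ((algebraMap D K).codRestrict V.toSubring hV).comp
    ((Ideal.Quotient.mk q).comp (algebraMap A L))
  refine ⟨V, inferInstance, inferInstance, inferInstance, θ, ?_, ?_⟩
  · intro h0
    have h1 : algebraMap D K (Ideal.Quotient.mk q (algebraMap A L f)) = 0 :=
      congrArg Subtype.val h0
    rw [map_eq_zero_iff _ (IsFractionRing.injective D K), Ideal.Quotient.eq_zero_iff_mem] at h1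
    exact hfq h1
  · intro hu
    have h1 : IsUnit (Ideal.Quotient.mk q (algebraMap A L f)) := hloc.map_nonunit _ hu
    have hloc2 : IsLocalHom (Ideal.Quotient.mk q) :=
      .of_surjective _ Ideal.Quotient.mk_surjective
    have h2 : IsUnit (algebraMap A L f) := hloc2.map_nonunit _ h1
    have h3 : algebraMap A L f ∈ IsLocalRing.maximalIdeal L := by
      rw [← Localization.AtPrime.map_eq_maximalIdeal]
      exact Ideal.mem_map_of_mem _ hfP
    exact (IsLocalRing.mem_maximalIdeal _).1 h3 h2

theorem ringEquiv_mem_nonZeroDivisors {R S : Type*} [CommRing R] [CommRing S] (e : R ≃+* S)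
    {x : R} (hx : x ∈ R⁰) : e x ∈ S⁰ := by
  rw [mem_nonZeroDivisors_iff_right]
  intro s hs
  have h1 : e.symm s * x = 0 := by
    apply e.injective
    rw [map_mul, e.apply_symm_apply, map_zero, hs]
  have h2 := (mem_nonZeroDivisors_iff_right.1 hx) _ h1
  rw [← e.apply_symm_apply s, h2, map_zero]

theorem eq_top_of_valuationRings {X : Scheme.{u}} (I : X.IdealSheafData)
    (hI : BlowUp.IsEffCartierIdeal I)
    (h : ∀ (R : Type u) [CommRing R] [IsDomain R] [ValuationRing R]
      (p : Spec (CommRingCat.of R) ⟶ X), BlowUp.IsEffCartierIdeal (I.comap p) → I.comap p = ⊤) :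
    I = ⊤ := by
  have key : ∀ (U : X.affineOpens) (f : Γ(X, U.1)), f ∈ Γ(X, U.1)⁰ →
      I.ideal U = Ideal.span {f} → IsUnit f := by
    intro U f hf hIf
    by_contra hfu
    obtain ⟨R, _, _, _, θ, hθ0, hθu⟩ := exists_valuationRing_map Γ(X, U.1) f hf hfu
    let p : Spec (CommRingCat.of R) ⟶ X := Spec.map (CommRingCat.ofHom θ) ≫ U.2.fromSpec
    have hle : (⊤ : (Spec (CommRingCat.of R)).Opens) ≤ p ⁻¹ᵁ U.1 := by
      intro y _
      change p y ∈ (U.1 : Set X)
      rw [← U.2.range_fromSpec, Scheme.Hom.comp_apply]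
      exact ⟨_, rfl⟩
    have happ : p.appLE U.1 ⊤ hle =
        CommRingCat.ofHom θ ≫ (Scheme.ΓSpecIso (CommRingCat.of R)).inv := by
      apply Spec.map_injective
      have h1 := IsAffineOpen.SpecMap_appLE_fromSpec p U.2 (isAffineOpen_top _) hle
      rw [IsAffineOpen.fromSpec_top, Scheme.isoSpec_Spec_inv] at h1
      rw [← cancel_mono U.2.fromSpec, h1, Spec.map_comp, Category.assoc]
    have hid := Groth.Agent.Lib.Helper20.EffCartier.ideal_comap_eq_map p I (isAffineOpen_top _)
      U.2 hle
    let e : R ≃+* Γ(Spec (CommRingCat.of R), ⊤) :=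
      (Scheme.ΓSpecIso (CommRingCat.of R)).symm.commRingCatIsoToRingEquiv
    have hgθ : (p.appLE U.1 ⊤ hle).hom f = e (θ f) := by
      rw [happ]
      rfl
    have hg : (I.comap p).ideal ⟨⊤, isAffineOpen_top _⟩ = Ideal.span {e (θ f)} := by
      rw [hid]
      change (I.ideal U).map _ = _
      rw [hIf, Ideal.map_span, Set.image_singleton, hgθ]
    have hcart : BlowUp.IsEffCartierIdeal (I.comap p) := fun y =>
      ⟨⟨⊤, isAffineOpen_top _⟩, trivial, e (θ f),
        ringEquiv_mem_nonZeroDivisors e (mem_nonZeroDivisors_of_ne_zero hθ0), hg⟩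
    have htop := h R p hcart
    rw [htop, Scheme.IdealSheafData.ideal_top] at hg
    have hu : IsUnit (e (θ f)) := Ideal.span_singleton_eq_top.1 hg.symm
    apply hθu
    have := hu.map e.symm
    rwa [RingEquiv.symm_apply_apply] at this
  rw [← Scheme.IdealSheafData.support_eq_bot_iff]
  ext x
  simp only [TopologicalSpace.Closeds.coe_bot, Set.mem_empty_iff_false, iff_false]
  intro hx
  obtain ⟨U, hxU, f, hf, hIf⟩ := hI x
  have hu := key U f hf hIf
  have h1 : x ∈ (I.support : Set X) ∩ U.1 := ⟨hx, hxU⟩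
  rw [Scheme.IdealSheafData.coe_support_inter, hIf, Ideal.span_singleton_eq_top.2 hu] at h1
  have h2 := h1.1
  rw [Scheme.mem_zeroLocus_iff] at h2
  have h3 := h2 1 (by trivial)
  apply h3
  rw [Scheme.basicOpen_of_isUnit _ isUnit_one]
  exact hxU

end Groth.Agent.Lib.T2H6.ModulusVal
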