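-- helper6 (team 2): splitting the interior of a modulus pair into two opens: the coproduct of the two
-- closures is an abstract admissible blow-up.
import Mathlib
import Groth.Prelude.Def_BlowUp2
import Groth.Prelude.Def_W4c6modpairsegaMP
import Groth.Agent.Lib.Helper20EffCartier
import Groth.Agent.Lib.T2H6ModulusProd
import Groth.Agent.Lib.T2H6ModulusVal
import Groth.Agent.Lib.T2H6ModulusClosure
import Groth.Agent.Lib.T2H6ModulusLift
import Groth.Agent.Lib.T2H6ModulusAdm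

set_option autoImplicit false
set_option backward.isDefEq.respectTransparency false
set_option backward.isDefEq.respectTransparency.types false
open CategoryTheory CategoryTheory.Limits AlgebraicGeometry

universe u

namespace Groth.Agent.Lib.T2H6.ModulusCoprod

open nonZeroDivisors Groth.Agent.Lib.T2H6.ModulusClosure Groth.Agent.Lib.T2H6.ModulusLift
open Groth.Agent.Lib.T2H6.ModulusProd Groth.Agent.Lib.T2H6.ModulusAdm

/-- Effective Cartier-ness at a point can be checked after restricting to an open subscheme. -/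
theorem exists_gen_of_comap_isOpenImmersion {Y' Y : Scheme.{u}} (j : Y' ⟶ Y) [IsOpenImmersion j]
    (L : Y.IdealSheafData) (y' : Y')
    (h : ∃ U' : Y'.affineOpens, y' ∈ U'.1 ∧
      ∃ t : Γ(Y', U'.1), t ∈ Γ(Y', U'.1)⁰ ∧ (L.comap j).ideal U' = Ideal.span {t}) :
    ∃ U : Y.affineOpens, j y' ∈ U.1 ∧
      ∃ t : Γ(Y, U.1), t ∈ Γ(Y, U.1)⁰ ∧ L.ideal U = Ideal.span {t} := by
  obtain ⟨U', hy', t, ht, hLt⟩ := h
  have hU : IsAffineOpen (j ''ᵁ U'.1) := U'.2.image_of_isOpenImmersion j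
  have hle : U'.1 ≤ j ⁻¹ᵁ (j ''ᵁ U'.1) := by
    rw [Scheme.Hom.preimage_image_eq]
  have hiso : IsIso (j.appLE (j ''ᵁ U'.1) U'.1 hle) := by
    rw [Scheme.Hom.appLE]
    have h1 : IsIso (j.app (j ''ᵁ U'.1)) := inferInstance
    have h2 : IsIso (Y'.presheaf.map (homOfLE hle).op) := by
      have : IsIso (homOfLE hle) :=
        ⟨homOfLE (by rw [Scheme.Hom.preimage_image_eq]), Subsingleton.elim _ _,
          Subsingleton.elim _ _⟩
      infer_instance
    infer_instance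
  let e : Γ(Y, j ''ᵁ U'.1) ≃+* Γ(Y', U'.1) :=
    (asIso (j.appLE (j ''ᵁ U'.1) U'.1 hle)).commRingCatIsoToRingEquiv
  have hmap := Groth.Agent.Lib.Helper20.EffCartier.ideal_comap_eq_map j L U'.2 hU hle
  refine ⟨⟨j ''ᵁ U'.1, hU⟩, ⟨y', hy', rfl⟩, e.symm t, ?_, ?_⟩
  · exact Groth.Agent.Lib.T2H6.ModulusVal.ringEquiv_mem_nonZeroDivisors e.symm ht
  · have h3 : (L.ideal ⟨j ''ᵁ U'.1, hU⟩).map (e : Γ(Y, j ''ᵁ U'.1) →+* Γ(Y', U'.1)) =
        Ideal.span {t} := by
      rw [← hLt, hmap]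
      rfl
    have h4 := congrArg (Ideal.map (e.symm : Γ(Y', U'.1) →+* Γ(Y, j ''ᵁ U'.1))) h3
    rw [Ideal.map_map, Ideal.map_span, Set.image_singleton] at h4
    have h5 : (e.symm : Γ(Y', U'.1) →+* Γ(Y, j ''ᵁ U'.1)).comp
        (e : Γ(Y, j ''ᵁ U'.1) →+* Γ(Y', U'.1)) = RingHom.id _ := by
      ext x
      exact e.symm_apply_apply x
    rw [h5, Ideal.map_id] at h4
    exact h4

/-- A clopen part of a basic open `D(f)` of an affine open `W` is again a basic open `D(f a)`. -/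
theorem exists_basicOpen_of_clopen {X : Scheme.{u}} (W : X.affineOpens) (f : Γ(X, W.1))
    (U₀ U₁ : X.Opens) (hsup : (U₀ ⊔ U₁) ⊓ W.1 = X.basicOpen f) (hd : Disjoint U₀ U₁) :
    ∃ a : Γ(X, W.1), U₀ ⊓ W.1 = X.basicOpen (f * a) := by
  have hD : IsAffineOpen (X.basicOpen f) := W.2.basicOpen f
  let s : Set (PrimeSpectrum Γ(X, X.basicOpen f)) := hD.fromSpec ⁻¹' (U₀ : Set X)
  have hmemD : ∀ y : PrimeSpectrum Γ(X, X.basicOpen f), hD.fromSpec y ∈ X.basicOpen f := by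
    intro y
    have : hD.fromSpec y ∈ Set.range hD.fromSpec := ⟨y, rfl⟩
    rw [hD.range_fromSpec] at this
    exact this
  have hs : IsClopen s := by
    constructor
    · have hc : sᶜ = hD.fromSpec ⁻¹' (U₁ : Set X) := by
        ext y
        have hy' : hD.fromSpec y ∈ (U₀ ⊔ U₁) ⊓ W.1 := by
          rw [hsup]
          exact hmemD y
        constructor
        · intro h0
          rcases hy'.1 with h | h
          · exact absurd h h0
          · exact h
        · intro h1 h0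
          have : hD.fromSpec y ∈ U₀ ⊓ U₁ := ⟨h0, h1⟩
          rw [disjoint_iff.1 hd] at this
          exact this
      rw [← isOpen_compl_iff, hc]
      exact U₁.2.preimage hD.fromSpec.continuous
    · exact U₀.2.preimage hD.fromSpec.continuous
  obtain ⟨e, -, he⟩ := PrimeSpectrum.isClopen_iff.1 hs
  have hpre := hD.fromSpec_preimage_basicOpen e
  have h1 : U₀ ⊓ W.1 = X.basicOpen e := by
    ext x
    constructor
    · rintro ⟨hx0, hxW⟩
      have hxD : x ∈ X.basicOpen f := by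
        rw [← hsup]
        exact ⟨Or.inl hx0, hxW⟩
      obtain ⟨y, rfl⟩ : x ∈ Set.range hD.fromSpec := by
        rw [hD.range_fromSpec]
        exact hxD
      have h2 : y ∈ s := hx0
      rw [he] at h2
      have h3 : y ∈ hD.fromSpec ⁻¹ᵁ X.basicOpen e := by
        rw [hpre]
        exact h2
      exact h3
    · intro hxe
      have hxD : x ∈ X.basicOpen f := X.basicOpen_le e hxe
      obtain ⟨y, rfl⟩ : x ∈ Set.range hD.fromSpec := by
        rw [hD.range_fromSpec]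
        exact hxD
      have h3 : y ∈ hD.fromSpec ⁻¹ᵁ X.basicOpen e := hxe
      rw [hpre] at h3
      have h2 : y ∈ s := by
        rw [he]
        exact h3
      exact ⟨h2, X.basicOpen_le f hxD⟩
  have inst := W.2.isLocalization_basicOpen f
  obtain ⟨⟨a', ⟨_, n, rfl⟩⟩, ha'⟩ := IsLocalization.surj (Submonoid.powers f) e
  refine ⟨a', ?_⟩
  rw [h1]
  have h3 : X.basicOpen (algebraMap Γ(X, W.1) Γ(X, X.basicOpen f) a') =
      X.basicOpen f ⊓ X.basicOpen a' := X.basicOpen_res a' (homOfLE (X.basicOpen_le f)).op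
  have hu : IsUnit (algebraMap Γ(X, W.1) Γ(X, X.basicOpen f) (f ^ n)) :=
    IsLocalization.map_units _ (⟨f ^ n, n, rfl⟩ : Submonoid.powers f)
  rw [Scheme.basicOpen_mul, ← h3, ← ha', Scheme.basicOpen_mul, Scheme.basicOpen_of_isUnit _ hu]
  exact (inf_eq_left.2 (X.basicOpen_le e)).symm

/-- Restricting `p : C ⟶ X` over `V` only sees an open subscheme `inj : A ⟶ C` containing
`p⁻¹(V)`. -/
theorem isIso_restrict_of_isOpenImmersion {A C X : Scheme.{u}} (p : C ⟶ X) (inj : A ⟶ C)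
    [IsOpenImmersion inj] (α : A ⟶ X) (hα : inj ≫ p = α) (V : X.Opens) [IsIso (α ∣_ V)]
    (hcov : ∀ c : C, p c ∈ V → c ∈ Set.range inj) : IsIso (p ∣_ V) := by
  subst hα
  have hr : Set.range (((inj ≫ p) ⁻¹ᵁ V).ι ≫ inj) ⊆ Set.range (p ⁻¹ᵁ V).ι := by
    rintro _ ⟨a, rfl⟩
    rw [Scheme.Opens.range_ι]
    change p ((((inj ≫ p) ⁻¹ᵁ V).ι ≫ inj) a) ∈ V
    rw [← Scheme.Hom.comp_apply, Category.assoc, Scheme.Hom.comp_apply]
    exact a.2
  let k := IsOpenImmersion.lift (p ⁻¹ᵁ V).ι (((inj ≫ p) ⁻¹ᵁ V).ι ≫ inj) hr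
  have hk : k ≫ (p ⁻¹ᵁ V).ι = ((inj ≫ p) ⁻¹ᵁ V).ι ≫ inj := IsOpenImmersion.lift_fac _ _ _
  have hkoi : IsOpenImmersion k := by
    have : IsOpenImmersion (k ≫ (p ⁻¹ᵁ V).ι) := by
      rw [hk]
      infer_instance
    exact IsOpenImmersion.of_comp k (p ⁻¹ᵁ V).ι
  have hksurj : Function.Surjective k := by
    rintro ⟨c, hc⟩
    obtain ⟨a, rfl⟩ := hcov c hc
    have ha : a ∈ (inj ≫ p) ⁻¹ᵁ V := by
      change (inj ≫ p) a ∈ V
      rw [Scheme.Hom.comp_apply]
      exact hc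
    refine ⟨⟨a, ha⟩, ?_⟩
    apply (p ⁻¹ᵁ V).ι.isOpenEmbedding.injective
    rw [← Scheme.Hom.comp_apply, hk, Scheme.Hom.comp_apply]
    rfl
  have hkiso : IsIso k := by
    have : Surjective k := ⟨hksurj⟩
    exact isIso_of_isOpenImmersion_of_opensRange_eq_top k
      (by
        ext x
        simp only [Scheme.Hom.coe_opensRange, TopologicalSpace.Opens.coe_top, Set.mem_univ,
          iff_true]
        exact hksurj x)
  have hfac : k ≫ (p ∣_ V) = (inj ≫ p) ∣_ V := by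
    rw [← cancel_mono V.ι, Category.assoc, morphismRestrict_ι, ← Category.assoc, hk,
      Category.assoc, morphismRestrict_ι]
  have : p ∣_ V = inv k ≫ ((inj ≫ p) ∣_ V) := by
    rw [IsIso.eq_inv_comp, hfac]
  rw [this]
  infer_instance

/-- gluing isomorphisms over two opens -/
theorem isIso_restrict_sup {C X : Scheme.{u}} (p : C ⟶ X) (U₀ U₁ U : X.Opens)
    (hU : U₀ ⊔ U₁ = U) [IsIso (p ∣_ U₀)] [IsIso (p ∣_ U₁)] : IsIso (p ∣_ U) := by
  subst hU
  let V : Bool → (U₀ ⊔ U₁).toScheme.Opens := fun b => (U₀ ⊔ U₁).ι ⁻¹ᵁ (cond b U₀ U₁)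
  have hV : iSup V = ⊤ := by
    rw [eq_top_iff]
    rintro ⟨x, hx⟩ -
    rcases hx with h | h
    · exact TopologicalSpace.Opens.mem_iSup.2 ⟨true, h⟩
    · exact TopologicalSpace.Opens.mem_iSup.2 ⟨false, h⟩
  change MorphismProperty.isomorphisms Scheme (p ∣_ (U₀ ⊔ U₁))
  rw [IsZariskiLocalAtTarget.iff_of_iSup_eq_top (P := MorphismProperty.isomorphisms Scheme) V hV]
  intro b
  rw [(MorphismProperty.isomorphisms Scheme).arrow_mk_iso_iff
    (morphismRestrictRestrict p (U₀ ⊔ U₁) (V b))]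
  have hE : (U₀ ⊔ U₁).ι ''ᵁ V b = cond b U₀ U₁ := by
    rw [Scheme.Hom.image_preimage_eq_opensRange_inf, Scheme.Opens.opensRange_ι]
    cases b
    · exact inf_eq_right.2 le_sup_right
    · exact inf_eq_right.2 le_sup_left
  rw [(MorphismProperty.isomorphisms Scheme).arrow_mk_iso_iff (morphismRestrictEq p hE)]
  cases b
  · change IsIso (p ∣_ U₁)
    infer_instance
  · change IsIso (p ∣_ U₀)
    infer_instance

theorem local_split {X : Scheme.{u}} (I : X.IdealSheafData) (hI : BlowUp.IsEffCartierIdeal I)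
    (U₀ U₁ : X.Opens) (hU : U₀ ⊔ U₁ = ModPair.interior I) (hd : Disjoint U₀ U₁) (z : X) :
    ∃ (W : X.affineOpens) (f a : Γ(X, W.1)), z ∈ W.1 ∧ I.ideal W = Ideal.span {f} ∧
      U₀ ⊓ W.1 = X.basicOpen (f * a) := by
  obtain ⟨W, hz, f, -, hf⟩ := hI z
  have h1 : (U₀ ⊔ U₁) ⊓ W.1 = X.basicOpen f := by
    rw [hU]
    exact interior_inf I W f hf
  obtain ⟨a, ha⟩ := exists_basicOpen_of_clopen W f U₀ U₁ h1 hd
  exact ⟨W, f, a, hz, hf, ha⟩

theorem quasiCompact_ι₀ {X : Scheme.{u}} (I : X.IdealSheafData) (hI : BlowUp.IsEffCartierIdeal I)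
    (U₀ U₁ : X.Opens) (hU : U₀ ⊔ U₁ = ModPair.interior I) (hd : Disjoint U₀ U₁) :
    QuasiCompact U₀.ι :=
  quasiCompact_ι_of_cover U₀ (fun z => by
    obtain ⟨W, f, a, hz, -, h⟩ := local_split I hI U₀ U₁ hU hd z
    exact ⟨W, f * a, hz, h⟩)

theorem isEffCartier_comap_imageι₀ {X : Scheme.{u}} (I : X.IdealSheafData)
    (hI : BlowUp.IsEffCartierIdeal I) (U₀ U₁ : X.Opens) (hU : U₀ ⊔ U₁ = ModPair.interior I)
    (hd : Disjoint U₀ U₁) : BlowUp.IsEffCartierIdeal (I.comap U₀.ι.imageι) := by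
  have := quasiCompact_ι₀ I hI U₀ U₁ hU hd
  intro y
  obtain ⟨W, f, a, hz, hf, h⟩ := local_split I hI U₀ U₁ hU hd (U₀.ι.imageι y)
  obtain ⟨hY', s, hs, hIs⟩ := exists_gen_comap_imageι U₀ I W f a h hf
  exact ⟨⟨_, hY'⟩, hz, s, hs, hIs⟩

theorem imageι_not_mem {X : Scheme.{u}} (I : X.IdealSheafData)
    (hI : BlowUp.IsEffCartierIdeal I) (U₀ U₁ : X.Opens) (hU : U₀ ⊔ U₁ = ModPair.interior I)
    (hd : Disjoint U₀ U₁) (y₁ : ↥U₁.ι.image) : U₁.ι.imageι y₁ ∉ U₀ := by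
  have := quasiCompact_ι₀ I hI U₁ U₀ (by rw [sup_comm]; exact hU) hd.symm
  intro h0
  have h1 : U₁.ι.imageι y₁ ∈ (U₁.ι.ker.support : Set X) := by
    rw [← Scheme.IdealSheafData.range_subschemeι]
    exact ⟨y₁, rfl⟩
  rw [Scheme.Hom.support_ker, Scheme.Opens.range_ι] at h1
  obtain ⟨x, hx0, hx1⟩ := mem_closure_iff.1 h1 U₀ U₀.2 h0
  have : x ∈ U₀ ⊓ U₁ := ⟨hx0, hx1⟩
  rw [disjoint_iff.1 hd] at this
  exact this

theorem main {X : Scheme.{u}}
    (I : X.IdealSheafData) (hI : BlowUp.IsEffCartierIdeal I) (U₀ U₁ : X.Opens)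
    (hU : U₀ ⊔ U₁ = ModPair.interior I) (hd : Disjoint U₀ U₁) :
    BlowUp.IsEffCartierIdeal (I.comap (coprod.desc U₀.ι.imageι U₁.ι.imageι)) ∧
      ModPair.IsAdmBlowup (I.comap (coprod.desc U₀.ι.imageι U₁.ι.imageι)) I
        (coprod.desc U₀.ι.imageι U₁.ι.imageι) := by
  have hU' : U₁ ⊔ U₀ = ModPair.interior I := by
    rw [sup_comm]
    exact hU
  have hE₀ := isEffCartier_comap_imageι₀ I hI U₀ U₁ hU hd
  have hE₁ := isEffCartier_comap_imageι₀ I hI U₁ U₀ hU' hd.symm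
  have hrange : ∀ y : ↥(U₀.ι.image ⨿ U₁.ι.image),
      y ∈ Set.range (coprod.inl : U₀.ι.image ⟶ U₀.ι.image ⨿ U₁.ι.image) ∨
      y ∈ Set.range (coprod.inr : U₁.ι.image ⟶ U₀.ι.image ⨿ U₁.ι.image) := by
    intro y
    have h1 := (isCompl_range_inl_inr U₀.ι.image U₁.ι.image).sup_eq_top
    have h2 : y ∈ Set.range (coprod.inl : U₀.ι.image ⟶ U₀.ι.image ⨿ U₁.ι.image) ⊔
        Set.range (coprod.inr : U₁.ι.image ⟶ U₀.ι.image ⨿ U₁.ι.image) := by
      rw [h1]
      trivial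
    exact h2
  refine ⟨?_, rfl, inferInstance, ?_⟩
  · intro y
    rcases hrange y with ⟨y₀, rfl⟩ | ⟨y₁, rfl⟩
    · apply exists_gen_of_comap_isOpenImmersion coprod.inl
        (I.comap (coprod.desc U₀.ι.imageι U₁.ι.imageι)) y₀
      rw [← Scheme.IdealSheafData.comap_comp, coprod.inl_desc]
      exact hE₀ y₀
    · apply exists_gen_of_comap_isOpenImmersion coprod.inr
        (I.comap (coprod.desc U₀.ι.imageι U₁.ι.imageι)) y₁
      rw [← Scheme.IdealSheafData.comap_comp, coprod.inr_desc]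
      exact hE₁ y₁
  · have i0 : IsIso (U₀.ι.imageι ∣_ U₀) := isIso_imageι_restrict U₀ U₀ rfl
    have i1 : IsIso (U₁.ι.imageι ∣_ U₁) := isIso_imageι_restrict U₁ U₁ rfl
    have h0 : IsIso (coprod.desc U₀.ι.imageι U₁.ι.imageι ∣_ U₀) :=
      isIso_restrict_of_isOpenImmersion _ coprod.inl U₀.ι.imageι (coprod.inl_desc _ _) U₀
        (fun c hc => by
          rcases hrange c with h | ⟨y₁, rfl⟩
          · exact h
          · exfalso
            rw [← Scheme.Hom.comp_apply, coprod.inr_desc] at hc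
            exact imageι_not_mem I hI U₀ U₁ hU hd y₁ hc)
    have h1 : IsIso (coprod.desc U₀.ι.imageι U₁.ι.imageι ∣_ U₁) :=
      isIso_restrict_of_isOpenImmersion _ coprod.inr U₁.ι.imageι (coprod.inr_desc _ _) U₁
        (fun c hc => by
          rcases hrange c with ⟨y₀, rfl⟩ | h
          · exfalso
            rw [← Scheme.Hom.comp_apply, coprod.inl_desc] at hc
            exact imageι_not_mem I hI U₁ U₀ hU' hd.symm y₀ hc
          · exact h)
    exact isIso_restrict_sup _ U₀ U₁ _ hU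

end Groth.Agent.Lib.T2H6.ModulusCoprod
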