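-- helper6 (team 2): blowing up two disjoint centres: the blow-up in `I₁ ⊓ I₂` (with `I₁ ⊔ I₂ = ⊤`)
-- is the fibre product of the two blow-ups.
import Mathlib
import Groth.Prelude.Def_BlowUp2
import Groth.Agent.Lib.Helper20EffCartier
import Groth.Agent.Lib.Helper20BlowUp
import Groth.Agent.Lib.T2H6ModulusVal
import Groth.Agent.Lib.T2H6ModulusCoprod

set_option autoImplicit false
set_option backward.isDefEq.respectTransparency false
set_option backward.isDefEq.respectTransparency.types false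
open CategoryTheory CategoryTheory.Limits AlgebraicGeometry

universe u

namespace Groth.Agent.Lib.T2H6.BlowUpCoprime

open nonZeroDivisors Scheme.IdealSheafData
open Groth.Agent.Lib.Helper20.BlowUpBasic Groth.Agent.Lib.Helper20.EffCartier

theorem inf_eq_mul_of_sup_eq_top {X : Scheme.{u}} (I₁ I₂ : X.IdealSheafData) (h : I₁ ⊔ I₂ = ⊤) :
    I₁ ⊓ I₂ = I₁ * I₂ := by
  apply Scheme.IdealSheafData.ext
  funext U
  have h1 : I₁.ideal U ⊔ I₂.ideal U = ⊤ := by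
    have := congrArg (fun L => L.ideal U) h
    simpa using this
  change I₁.ideal U ⊓ I₂.ideal U = I₁.ideal U * I₂.ideal U
  exact (Ideal.mul_eq_inf_of_coprime h1).symm

/-- comap along an open immersion preserves effective Cartier ideals. -/
theorem isEffCartierIdeal_comap_of_isOpenImmersion {Y' Y : Scheme.{u}} (j : Y' ⟶ Y)
    [IsOpenImmersion j] (L : Y.IdealSheafData) (hL : BlowUp.IsEffCartierIdeal L) :
    BlowUp.IsEffCartierIdeal (L.comap j) := by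
  intro y'
  obtain ⟨U, hU, hyU, hUle, f, hf, hLf⟩ :=
    exists_le_of_isEffCartierIdeal hL (j y') j.opensRange ⟨y', rfl⟩
  have hU' : IsAffineOpen (j ⁻¹ᵁ U) := hU.preimage_of_isOpenImmersion j hUle
  have key := ideal_comap_eq_map j L hU' hU le_rfl
  have hiso : IsIso (j.appLE U (j ⁻¹ᵁ U) le_rfl) := by
    rw [← Scheme.Hom.app_eq_appLE]
    exact j.isIso_app U hUle
  let e : Γ(Y, U) ≃+* Γ(Y', j ⁻¹ᵁ U) :=
    (asIso (j.appLE U (j ⁻¹ᵁ U) le_rfl)).commRingCatIsoToRingEquiv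
  refine ⟨⟨j ⁻¹ᵁ U, hU'⟩, hyU, e f, ?_, ?_⟩
  · exact Groth.Agent.Lib.T2H6.ModulusVal.ringEquiv_mem_nonZeroDivisors e hf
  · rw [key, hLf, Ideal.map_span, Set.image_singleton]
    rfl

/-- If `A ⊔ B = ⊤` and `A * B` is effective Cartier then so is `A`. -/
theorem isEffCartierIdeal_of_mul_of_sup_eq_top {Y : Scheme.{u}} (A B : Y.IdealSheafData)
    (hsup : A ⊔ B = ⊤) (hAB : BlowUp.IsEffCartierIdeal (A * B)) : BlowUp.IsEffCartierIdeal A := by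
  intro y
  by_cases hy : y ∈ B.support
  · -- then `y ∉ A.support`, so `A = ⊤` near `y`
    have hyA : y ∉ A.support := by
      intro hyA
      have h1 : y ∈ (A ⊔ B).support := by
        rw [support_sup]
        exact ⟨hyA, hy⟩
      rw [hsup, support_top] at h1
      exact h1
    have hc : A.comap (compl A).ι = ⊤ := comap_ι_compl A
    have := Groth.Agent.Lib.T2H6.ModulusCoprod.exists_gen_of_comap_isOpenImmersion (compl A).ι A
      ⟨y, hyA⟩ (by rw [hc]; exact isEffCartierIdeal_top _)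
    exact this
  · -- `B = ⊤` near `y`, so `A = A * B` near `y`
    have hc : B.comap (compl B).ι = ⊤ := comap_ι_compl B
    have h2 : A.comap (compl B).ι = (A * B).comap (compl B).ι := by
      rw [comap_mul, hc, mul_top]
    have h3 : BlowUp.IsEffCartierIdeal (A.comap (compl B).ι) := by
      rw [h2]
      exact isEffCartierIdeal_comap_of_isOpenImmersion _ _ hAB
    exact Groth.Agent.Lib.T2H6.ModulusCoprod.exists_gen_of_comap_isOpenImmersion (compl B).ι A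
      ⟨y, hy⟩ (h3 _)

/-- In a fibre square of two blow-ups with disjoint centres, the first centre pulls back to an
effective Cartier ideal on the fibre product. -/
theorem isEffCartierIdeal_comap_of_isPullback {X B₁ B₂ P : Scheme.{u}} (I₁ I₂ : X.IdealSheafData)
    (hdisj : I₁ ⊔ I₂ = ⊤) (σ₁ : B₁ ⟶ X) (hσ₁ : BlowUp.IsBlowUp σ₁ I₁) (σ₂ : B₂ ⟶ X)
    (hσ₂ : BlowUp.IsBlowUp σ₂ I₂) (p₁ : P ⟶ B₁) (p₂ : P ⟶ B₂) (h : IsPullback p₁ p₂ σ₁ σ₂) :
    BlowUp.IsEffCartierIdeal (I₁.comap (p₁ ≫ σ₁)) := by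
  intro p
  by_cases hp : (p₁ ≫ σ₁) p ∈ I₂.support
  · have hpA : (p₁ ≫ σ₁) p ∉ I₁.support := by
      intro hpA
      have h1 : (p₁ ≫ σ₁) p ∈ (I₁ ⊔ I₂).support := by
        rw [support_sup]
        exact ⟨hpA, hp⟩
      rw [hdisj, support_top] at h1
      exact h1
    let W : P.Opens := (p₁ ≫ σ₁) ⁻¹ᵁ compl I₁
    have hc : (I₁.comap (p₁ ≫ σ₁)).comap W.ι = ⊤ := by
      rw [← comap_comp]
      exact comap_eq_top_of_le I₁ _ (fun w => w.2)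
    exact Groth.Agent.Lib.T2H6.ModulusCoprod.exists_gen_of_comap_isOpenImmersion W.ι
      (I₁.comap (p₁ ≫ σ₁)) ⟨p, hpA⟩ (by rw [hc]; exact isEffCartierIdeal_top _)
  · let W₁ : B₁.Opens := σ₁ ⁻¹ᵁ compl I₂
    let W : P.Opens := p₁ ⁻¹ᵁ W₁
    -- the section
    have hE₁ : BlowUp.IsEffCartierIdeal (I₂.comap (W₁.ι ≫ σ₁)) := by
      rw [comap_eq_top_of_le I₂ (W₁.ι ≫ σ₁) (fun w => w.2)]
      exact isEffCartierIdeal_top
    obtain ⟨s, hs, -⟩ := hσ₂.2 W₁ (W₁.ι ≫ σ₁) hE₁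
    let r : W₁.toScheme ⟶ P := h.lift W₁.ι s hs.symm
    have hr₁ : r ≫ p₁ = W₁.ι := h.lift_fst _ _ _
    have hr₂ : r ≫ p₂ = s := h.lift_snd _ _ _
    have hrange : Set.range r ⊆ Set.range W.ι := by
      rintro _ ⟨w, rfl⟩
      rw [Scheme.Opens.range_ι]
      change p₁ (r w) ∈ W₁
      rw [← Scheme.Hom.comp_apply, hr₁]
      exact w.2
    let r' : W₁.toScheme ⟶ W.toScheme := IsOpenImmersion.lift W.ι r hrange
    have hr' : r' ≫ W.ι = r := IsOpenImmersion.lift_fac _ _ _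
    have h1 : r' ≫ (p₁ ∣_ W₁) = 𝟙 _ := by
      rw [← cancel_mono W₁.ι, Category.assoc, morphismRestrict_ι, ← Category.assoc, hr', hr₁,
        Category.id_comp]
    have hE₂ : BlowUp.IsEffCartierIdeal (I₂.comap (W.ι ≫ p₁ ≫ σ₁)) := by
      rw [comap_eq_top_of_le I₂ (W.ι ≫ p₁ ≫ σ₁) (fun w => w.2)]
      exact isEffCartierIdeal_top
    have h2 : (p₁ ∣_ W₁) ≫ r' = 𝟙 _ := by
      rw [← cancel_mono W.ι, Category.assoc, hr', Category.id_comp]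
      apply h.hom_ext
      · rw [Category.assoc, hr₁, morphismRestrict_ι]
      · rw [Category.assoc, hr₂]
        obtain ⟨k, -, hk⟩ := hσ₂.2 _ (W.ι ≫ p₁ ≫ σ₁) hE₂
        rw [hk ((p₁ ∣_ W₁) ≫ s) (by
            change ((p₁ ∣_ W₁) ≫ s) ≫ σ₂ = _
            rw [Category.assoc, hs, ← Category.assoc, morphismRestrict_ι, Category.assoc]),
          hk (W.ι ≫ p₂) (by
            change (W.ι ≫ p₂) ≫ σ₂ = _
            rw [Category.assoc, ← h.w])]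
    have hiso : IsIso (p₁ ∣_ W₁) := ⟨r', h2, h1⟩
    have hc : (I₁.comap (p₁ ≫ σ₁)).comap W.ι = ((I₁.comap σ₁).comap W₁.ι).comap (p₁ ∣_ W₁) := by
      rw [← comap_comp, ← comap_comp, ← comap_comp, ← Category.assoc W.ι, ← morphismRestrict_ι,
        Category.assoc]
    have h3 : BlowUp.IsEffCartierIdeal ((I₁.comap (p₁ ≫ σ₁)).comap W.ι) := by
      rw [hc]
      exact isEffCartierIdeal_comap_of_isOpenImmersion _ _
        (isEffCartierIdeal_comap_of_isOpenImmersion _ _ hσ₁.1)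
    exact Groth.Agent.Lib.T2H6.ModulusCoprod.exists_gen_of_comap_isOpenImmersion W.ι
      (I₁.comap (p₁ ≫ σ₁)) ⟨p, hp⟩ (h3 _)

/-- The fibre product of two blow-ups with disjoint centres is a blow-up in the intersection. -/
theorem isBlowUp_pullback {X B₁ B₂ : Scheme.{u}} (I₁ I₂ : X.IdealSheafData)
    (hdisj : I₁ ⊔ I₂ = ⊤) (σ₁ : B₁ ⟶ X) (hσ₁ : BlowUp.IsBlowUp σ₁ I₁) (σ₂ : B₂ ⟶ X)
    (hσ₂ : BlowUp.IsBlowUp σ₂ I₂) :
    BlowUp.IsBlowUp (pullback.fst σ₁ σ₂ ≫ σ₁) (I₁ ⊓ I₂) := by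
  have hpb : IsPullback (pullback.fst σ₁ σ₂) (pullback.snd σ₁ σ₂) σ₁ σ₂ := IsPullback.of_hasPullback _ _
  have hdisj' : I₂ ⊔ I₁ = ⊤ := by rw [sup_comm]; exact hdisj
  refine ⟨?_, ?_⟩
  · rw [inf_eq_mul_of_sup_eq_top I₁ I₂ hdisj, comap_mul]
    refine isEffCartierIdeal_mul
      (isEffCartierIdeal_comap_of_isPullback I₁ I₂ hdisj σ₁ hσ₁ σ₂ hσ₂ _ _ hpb) ?_
    rw [pullback.condition]
    exact isEffCartierIdeal_comap_of_isPullback I₂ I₁ hdisj' σ₂ hσ₂ σ₁ hσ₁ _ _ hpb.flip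
  · intro Y g hg
    rw [inf_eq_mul_of_sup_eq_top I₁ I₂ hdisj, comap_mul] at hg
    have hsup : I₁.comap g ⊔ I₂.comap g = ⊤ := by
      rw [← comap_sup, hdisj, comap_top]
    have hg₁ : BlowUp.IsEffCartierIdeal (I₁.comap g) :=
      isEffCartierIdeal_of_mul_of_sup_eq_top _ _ hsup hg
    have hg₂ : BlowUp.IsEffCartierIdeal (I₂.comap g) := by
      rw [mul_comm] at hg
      rw [sup_comm] at hsup
      exact isEffCartierIdeal_of_mul_of_sup_eq_top _ _ hsup hg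
    obtain ⟨h₁, hh₁, hu₁⟩ := hσ₁.2 Y g hg₁
    obtain ⟨h₂, hh₂, hu₂⟩ := hσ₂.2 Y g hg₂
    refine ⟨pullback.lift h₁ h₂ (hh₁.trans hh₂.symm), ?_, ?_⟩
    · change pullback.lift h₁ h₂ _ ≫ pullback.fst σ₁ σ₂ ≫ σ₁ = g
      rw [pullback.lift_fst_assoc, hh₁]
    · intro k hk
      have hk' : k ≫ pullback.fst σ₁ σ₂ ≫ σ₁ = g := hk
      apply pullback.hom_ext
      · rw [pullback.lift_fst]
        exact hu₁ _ (by
          change (k ≫ pullback.fst σ₁ σ₂) ≫ σ₁ = g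
          rw [Category.assoc]; exact hk')
      · rw [pullback.lift_snd]
        exact hu₂ _ (by
          change (k ≫ pullback.snd σ₁ σ₂) ≫ σ₂ = g
          rw [Category.assoc, ← pullback.condition]; exact hk')

/-- Two blow-ups in the same ideal are isomorphic over the base. -/
theorem exists_isIso_of_isBlowUp {X B B' : Scheme.{u}} (I : X.IdealSheafData) (σ : B ⟶ X)
    (hσ : BlowUp.IsBlowUp σ I) (τ : B' ⟶ X) (hτ : BlowUp.IsBlowUp τ I) :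
    ∃ ι : B ⟶ B', IsIso ι ∧ ι ≫ τ = σ := by
  obtain ⟨ι, hι, -⟩ := hτ.2 B σ hσ.1
  obtain ⟨κ, hκ, -⟩ := hσ.2 B' τ hτ.1
  obtain ⟨a, -, ha⟩ := hσ.2 B σ hσ.1
  obtain ⟨b, -, hb⟩ := hτ.2 B' τ hτ.1
  have h1 : ι ≫ κ = 𝟙 B := by
    rw [ha (ι ≫ κ) (by change (ι ≫ κ) ≫ σ = σ; rw [Category.assoc, hκ, hι]),
      ha (𝟙 B) (Category.id_comp _)]
  have h2 : κ ≫ ι = 𝟙 B' := by
    rw [hb (κ ≫ ι) (by change (κ ≫ ι) ≫ τ = τ; rw [Category.assoc, hι, hκ]),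
      hb (𝟙 B') (Category.id_comp _)]
  exact ⟨ι, ⟨κ, h1, h2⟩, hι⟩

theorem main {X B B₁ B₂ : Scheme.{u}} (I₁ I₂ : X.IdealSheafData) (hdisj : I₁ ⊔ I₂ = ⊤)
    (σ : B ⟶ X) (hσ : BlowUp.IsBlowUp σ (I₁ ⊓ I₂))
    (σ₁ : B₁ ⟶ X) (hσ₁ : BlowUp.IsBlowUp σ₁ I₁) (σ₂ : B₂ ⟶ X) (hσ₂ : BlowUp.IsBlowUp σ₂ I₂) :
    ∃ ι : B ⟶ pullback σ₁ σ₂, IsClosedImmersion ι ∧ ι ≫ pullback.fst σ₁ σ₂ ≫ σ₁ = σ := by
  obtain ⟨ι, hι, hfac⟩ := exists_isIso_of_isBlowUp (I₁ ⊓ I₂) σ hσ _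
    (isBlowUp_pullback I₁ I₂ hdisj σ₁ hσ₁ σ₂ hσ₂)
  exact ⟨ι, inferInstance, hfac⟩

end Groth.Agent.Lib.T2H6.BlowUpCoprime
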