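-- helper6 (team 2): the charts of `Proj` of the Rees algebra of an ideal (ring-level lemmas for the
-- existence of blow-ups).
import Mathlib
import Groth.Prelude.Def_Rees

set_option autoImplicit false
open Polynomial nonZeroDivisors HomogeneousLocalization

universe u

namespace Groth.Agent.Lib.T2H6.ReesChart

variable {A : Type u} [CommRing A] (I : Ideal A)

/-- the element `c Xⁿ` of the Rees algebra, `c ∈ Iⁿ`. -/
noncomputable def mon (n : ℕ) (c : A) (hc : c ∈ I ^ n) : reesAlgebra I :=
  ⟨monomial n c, reesAlgebra.monomial_mem.mpr hc⟩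

theorem coe_mon (n : ℕ) (c : A) (hc : c ∈ I ^ n) : ((mon I n c hc : reesAlgebra I) : A[X]) = monomial n c :=
  rfl

theorem mon_mem_deg (n : ℕ) (c : A) (hc : c ∈ I ^ n) : mon I n c hc ∈ Rees.deg (reesAlgebra I) n := by
  intro m hm
  change (monomial n c).coeff m = 0
  rw [coeff_monomial]
  exact if_neg fun h => hm h.symm

theorem exists_eq_mon (n : ℕ) (x : reesAlgebra I) (hx : x ∈ Rees.deg (reesAlgebra I) n) :
    ∃ (c : A) (hc : c ∈ I ^ n), x = mon I n c hc := by
  refine ⟨(x : A[X]).coeff n, x.2 n, ?_⟩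
  apply Subtype.ext
  apply Polynomial.ext
  intro m
  rw [coe_mon, coeff_monomial]
  split_ifs with h
  · cases h; rfl
  · exact hx m (Ne.symm h)

theorem mon_mul (n m : ℕ) (c d : A) (hc : c ∈ I ^ n) (hd : d ∈ I ^ m) :
    mon I n c hc * mon I m d hd = mon I (n + m) (c * d) (by rw [pow_add]; exact Ideal.mul_mem_mul hc hd) := by
  apply Subtype.ext
  change monomial n c * monomial m d = monomial (n + m) (c * d)
  rw [monomial_mul_monomial]

theorem mon_add (n : ℕ) (c d : A) (hc : c ∈ I ^ n) (hd : d ∈ I ^ n) :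
    mon I n c hc + mon I n d hd = mon I n (c + d) (add_mem hc hd) := by
  apply Subtype.ext
  change monomial n c + monomial n d = monomial n (c + d)
  rw [map_add]

theorem mon_zero_eq (c : A) (hc : c ∈ I ^ 0) : mon I 0 c hc = algebraMap A (reesAlgebra I) c := by
  apply Subtype.ext
  rfl

/-- the degree-one element `a X`. -/
noncomputable def gen (a : A) (ha : a ∈ I) : reesAlgebra I :=
  mon I 1 a (by simpa using ha)

theorem gen_mem_deg (a : A) (ha : a ∈ I) : gen I a ha ∈ Rees.deg (reesAlgebra I) 1 :=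
  mon_mem_deg I 1 a _

theorem gen_pow (a : A) (ha : a ∈ I) (n : ℕ) :
    gen I a ha ^ n = mon I n (a ^ n) (Ideal.pow_mem_pow ha n) := by
  apply Subtype.ext
  change (monomial 1 a) ^ n = monomial n (a ^ n)
  rw [monomial_pow, one_mul]

theorem mem_span_gen_of_mem_deg (n : ℕ) (hn : 0 < n) (x : reesAlgebra I)
    (hx : x ∈ Rees.deg (reesAlgebra I) n) :
    x ∈ Ideal.span (Set.range fun a : I => gen I a.1 a.2) := by
  obtain ⟨c, hc, rfl⟩ := exists_eq_mon I n x hx
  obtain ⟨k, rfl⟩ : ∃ k, n = k + 1 := ⟨n - 1, by omega⟩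
  have hc' : c ∈ I * I ^ k := by rw [← pow_succ']; exact hc
  have key : ∀ c ∈ I * I ^ k, ∃ hc : c ∈ I ^ (k + 1),
      mon I (k + 1) c hc ∈ Ideal.span (Set.range fun a : I => gen I a.1 a.2) := by
    intro c hc'
    refine Submodule.mul_induction_on hc' ?_ ?_
    · intro a ha d hd
      have hc : a * d ∈ I ^ (k + 1) := by rw [pow_succ']; exact Ideal.mul_mem_mul ha hd
      refine ⟨hc, ?_⟩
      have h1 : mon I (k + 1) (a * d) hc = gen I a ha * mon I k d hd := by
        rw [gen, mon_mul]
        apply Subtype.ext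
        change monomial (k + 1) (a * d) = monomial (1 + k) (a * d)
        rw [add_comm]
      rw [h1]
      exact Ideal.mul_mem_right _ _ (Ideal.subset_span ⟨⟨a, ha⟩, rfl⟩)
    · rintro x y ⟨hx', hx⟩ ⟨hy', hy⟩
      refine ⟨add_mem hx' hy', ?_⟩
      rw [← mon_add I (k + 1) x y hx' hy']
      exact add_mem hx hy
  exact (key c hc').2

/-- the irrelevant ideal of the Rees algebra is generated by the `a X`, `a ∈ I`. -/
theorem irrelevant_le_span :
    (HomogeneousIdeal.irrelevant (Rees.deg (reesAlgebra I))).toIdeal ≤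
      Ideal.span (Set.range fun a : I => gen I a.1 a.2) := by
  classical
  intro x hx
  rw [← DirectSum.sum_support_decompose (Rees.deg (reesAlgebra I)) x]
  refine Ideal.sum_mem _ fun i hi => ?_
  by_cases hi0 : i = 0
  · subst hi0
    have h0 : (DirectSum.decompose (Rees.deg (reesAlgebra I)) x 0 : reesAlgebra I) = 0 := by
      have := (HomogeneousIdeal.mem_irrelevant_iff _ x).mp hx
      simpa [GradedRing.proj_apply] using this
    rw [h0]
    exact zero_mem _
  · exact mem_span_gen_of_mem_deg I i (Nat.pos_of_ne_zero hi0) _ (SetLike.coe_mem _)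

section Chart

variable (a : A) (ha : a ∈ I)

/-- the chart ring `R(I)_{(aX)}`. -/
abbrev B : Type u := Away (Rees.deg (reesAlgebra I)) (gen I a ha)

/-- the structure map `A → R(I)_{(aX)}`. -/
noncomputable def φ : A →+* B I a ha :=
  (fromZeroRingHom (Rees.deg (reesAlgebra I)) (Submonoid.powers (gen I a ha))).comp
    (algebraMap A (Rees.deg (reesAlgebra I) 0))

/-- evaluation `R(I) → A_a`, `X ↦ 1/a`. -/
noncomputable def ev : reesAlgebra I →+* Localization.Away a :=
  (Polynomial.eval₂RingHom (algebraMap A (Localization.Away a))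
    (IsLocalization.Away.invSelf a)).comp (reesAlgebra I).val.toRingHom

theorem ev_mon (n : ℕ) (c : A) (hc : c ∈ I ^ n) :
    ev I a (mon I n c hc) =
      algebraMap A (Localization.Away a) c * (IsLocalization.Away.invSelf a) ^ n := by
  change Polynomial.eval₂ _ _ (monomial n c) = _
  rw [eval₂_monomial]

theorem ev_gen : ev I a (gen I a ha) = 1 := by
  rw [gen, ev_mon, pow_one]
  exact IsLocalization.Away.mul_invSelf a

theorem ev_algebraMap (r : A) : ev I a (algebraMap A (reesAlgebra I) r) = algebraMap A _ r := by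
  change Polynomial.eval₂ _ _ (C r) = _
  rw [eval₂_C]

/-- the induced map `R(I)_{aX} → A_a`. -/
noncomputable def evLoc : Localization.Away (gen I a ha) →+* Localization.Away a :=
  IsLocalization.Away.lift (gen I a ha) (g := ev I a) (by rw [ev_gen]; exact isUnit_one)

theorem evLoc_algebraMap (x : reesAlgebra I) :
    evLoc I a ha (algebraMap (reesAlgebra I) (Localization.Away (gen I a ha)) x) = ev I a x :=
  IsLocalization.Away.lift_eq _ _ _

/-- the comparison map `R(I)_{(aX)} → A_a`. -/
noncomputable def θ : B I a ha →+* Localization.Away a :=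
  (evLoc I a ha).comp (algebraMap (B I a ha) (Localization.Away (gen I a ha)))

theorem θ_apply (z : B I a ha) : θ I a ha z = evLoc I a ha z.val := rfl

theorem θ_mk (n : ℕ) (x : reesAlgebra I) (hx : x ∈ Rees.deg (reesAlgebra I) (n • 1)) :
    θ I a ha (Away.mk (Rees.deg (reesAlgebra I)) (gen_mem_deg I a ha) n x hx) = ev I a x := by
  have h1 : (Away.mk (Rees.deg (reesAlgebra I)) (gen_mem_deg I a ha) n x hx).val *
      algebraMap (reesAlgebra I) (Localization.Away (gen I a ha)) (gen I a ha ^ n) =
      algebraMap (reesAlgebra I) (Localization.Away (gen I a ha)) x := by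
    rw [Away.val_mk, Localization.mk_eq_mk']
    exact IsLocalization.mk'_spec _ _ _
  have h2 := congrArg (evLoc I a ha) h1
  rw [map_mul, evLoc_algebraMap, evLoc_algebraMap, map_pow, ev_gen, one_pow, mul_one] at h2
  rw [θ_apply]
  exact h2

theorem θ_φ (r : A) : θ I a ha (φ I a ha r) = algebraMap A (Localization.Away a) r := by
  have h1 : (φ I a ha r).val =
      algebraMap (reesAlgebra I) (Localization.Away (gen I a ha))
        (algebraMap A (reesAlgebra I) r) := by
    have h0 : (φ I a ha r).val = Localization.mk (algebraMap A (reesAlgebra I) r)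
        (1 : Submonoid.powers (gen I a ha)) := rfl
    rw [h0, Localization.mk_one_eq_algebraMap]
  rw [θ_apply, h1, evLoc_algebraMap, ev_algebraMap]

theorem θ_injective : Function.Injective (θ I a ha) := by
  rw [injective_iff_map_eq_zero]
  intro z hz
  obtain ⟨n, x, hx, rfl⟩ := Away.mk_surjective (Rees.deg (reesAlgebra I)) (gen_mem_deg I a ha) z
  rw [θ_mk] at hz
  have hx' : x ∈ Rees.deg (reesAlgebra I) n := by simpa using hx
  obtain ⟨c, hc, rfl⟩ := exists_eq_mon I n x hx'
  rw [ev_mon] at hz
  have h1 : algebraMap A (Localization.Away a) c = 0 := by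
    have h2 := congrArg (· * algebraMap A (Localization.Away a) (a ^ n)) hz
    simp only [zero_mul] at h2
    rw [mul_assoc, map_pow, ← mul_pow, mul_comm (IsLocalization.Away.invSelf a),
      IsLocalization.Away.mul_invSelf, one_pow, mul_one] at h2
    exact h2
  obtain ⟨⟨m, k, rfl⟩, hm⟩ := (IsLocalization.map_eq_zero_iff (Submonoid.powers a) _ _).1 h1
  apply HomogeneousLocalization.val_injective
  rw [Away.val_mk, HomogeneousLocalization.val_zero, Localization.mk_eq_mk',
    IsLocalization.mk'_eq_zero_iff]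
  refine ⟨⟨gen I a ha ^ k, k, rfl⟩, ?_⟩
  change gen I a ha ^ k * mon I n c hc = 0
  rw [gen_pow, mon_mul]
  apply Subtype.ext
  change monomial (k + n) (a ^ k * c) = 0
  have hm' : a ^ k * c = 0 := hm
  rw [hm', map_zero]

/-- `a` is a nonzerodivisor in the chart ring. -/
theorem φ_mem_nonZeroDivisors : φ I a ha a ∈ (B I a ha)⁰ := by
  refine (mem_nonZeroDivisors_iff_right (r := φ I a ha a)).2 ?_
  intro z hz
  apply θ_injective I a ha
  have h1 := congrArg (θ I a ha) hz
  rw [RingHom.map_mul, θ_φ, RingHom.map_zero] at h1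
  have hu : IsUnit (algebraMap A (Localization.Away a) a) :=
    IsLocalization.Away.algebraMap_isUnit a
  rw [RingHom.map_zero]
  exact (hu.mul_left_eq_zero).1 h1

/-- the key relation `aⁿ · (c Xⁿ / (aX)ⁿ) = c`. -/
theorem φ_pow_mul_mk (n : ℕ) (c : A) (hc : c ∈ I ^ n)
    (hx : mon I n c hc ∈ Rees.deg (reesAlgebra I) (n • 1)) :
    φ I a ha a ^ n * Away.mk (Rees.deg (reesAlgebra I)) (gen_mem_deg I a ha) n (mon I n c hc) hx =
      φ I a ha c := by
  apply θ_injective I a ha
  rw [RingHom.map_mul, RingHom.map_pow, θ_φ, θ_mk, ev_mon, θ_φ, mul_comm (algebraMap A _ c),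
    ← mul_assoc, ← mul_pow, IsLocalization.Away.mul_invSelf, one_pow, one_mul]

/-- the fraction `xX / aX`. -/
noncomputable def frac (x : A) (hx : x ∈ I) : B I a ha :=
  Away.mk (Rees.deg (reesAlgebra I)) (gen_mem_deg I a ha) 1 (gen I x hx)
    (gen_mem_deg I x hx)

theorem φ_mul_frac (x : A) (hx : x ∈ I) : φ I a ha a * frac I a ha x hx = φ I a ha x := by
  have := φ_pow_mul_mk I a ha 1 x (by simpa using hx) (gen_mem_deg I x hx)
  rw [pow_one (φ I a ha a)] at this
  exact this

/-- `I` generates the principal ideal `(a)` in the chart ring. -/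
theorem map_φ_eq_span : Ideal.map (φ I a ha) I = Ideal.span {φ I a ha a} := by
  apply le_antisymm
  · rw [Ideal.map_le_iff_le_comap]
    intro x hx
    rw [Ideal.mem_comap, ← φ_mul_frac I a ha x hx]
    exact Ideal.mul_mem_right _ _ (Ideal.subset_span (Set.mem_singleton _))
  · rw [Ideal.span_le, Set.singleton_subset_iff]
    exact Ideal.mem_map_of_mem _ ha

/-- ring homomorphisms out of the chart ring are determined by their restriction to `A`, provided
the image of `a` is a nonzerodivisor. -/
theorem ringHom_ext {C : Type*} [CommRing C] (χ₁ χ₂ : B I a ha →+* C)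
    (h : χ₁.comp (φ I a ha) = χ₂.comp (φ I a ha)) (hnzd : χ₁ (φ I a ha a) ∈ C⁰) : χ₁ = χ₂ := by
  ext z
  obtain ⟨n, x, hx, rfl⟩ := Away.mk_surjective (Rees.deg (reesAlgebra I)) (gen_mem_deg I a ha) z
  have hx' : x ∈ Rees.deg (reesAlgebra I) n := by simpa using hx
  obtain ⟨c, hc, rfl⟩ := exists_eq_mon I n x hx'
  have key := φ_pow_mul_mk I a ha n c hc hx
  have h1 := congrArg χ₁ key
  have h2 := congrArg χ₂ key
  rw [RingHom.map_mul, RingHom.map_pow] at h1 h2
  have h3 : ∀ r, χ₁ (φ I a ha r) = χ₂ (φ I a ha r) := fun r => RingHom.congr_fun h r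
  rw [← h3 a, ← h3 c, ← h1] at h2
  exact ((mul_cancel_left_mem_nonZeroDivisors (pow_mem hnzd n)).1 h2).symm

variable (a' : A) (ha' : a' ∈ I)

/-- the transition element `a'X / aX` cutting out `D₊(a'X)` in the chart `D₊(aX)`. -/
theorem φ_mul_isLocalizationElem :
    φ I a ha a * Away.isLocalizationElem (gen_mem_deg I a ha) (gen_mem_deg I a' ha') =
      φ I a ha a' := by
  apply θ_injective I a ha
  rw [RingHom.map_mul, θ_φ, θ_φ, Away.isLocalizationElem, θ_mk, pow_one, gen, ev_mon, pow_one,
    mul_comm (algebraMap A _ a'), ← mul_assoc, IsLocalization.Away.mul_invSelf, one_mul]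

end Chart

section Lift

variable {C : Type u} [CommRing C] (g : A →+* C) (c : C)

/-- evaluation `R(I) → C_c`, `X ↦ 1/c`. -/
noncomputable def evC : reesAlgebra I →+* Localization.Away c :=
  (Polynomial.eval₂RingHom ((algebraMap C (Localization.Away c)).comp g)
    (IsLocalization.Away.invSelf c)).comp (reesAlgebra I).val.toRingHom

theorem evC_mon (n : ℕ) (x : A) (hx : x ∈ I ^ n) :
    evC I g c (mon I n x hx) =
      algebraMap C (Localization.Away c) (g x) * (IsLocalization.Away.invSelf c) ^ n := by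
  change Polynomial.eval₂ _ _ (monomial n x) = _
  rw [eval₂_monomial]
  rfl

variable (hgen : Ideal.map g I = Ideal.span {c})

include hgen in
theorem exists_mul_pow_eq (n : ℕ) (x : A) (hx : x ∈ I ^ n) : ∃ d : C, d * c ^ n = g x := by
  have h1 : g x ∈ Ideal.map g (I ^ n) := Ideal.mem_map_of_mem _ hx
  rw [Ideal.map_pow, hgen, Ideal.span_singleton_pow] at h1
  exact Ideal.mem_span_singleton'.1 h1

include hgen in
theorem evC_mem_range (x : reesAlgebra I) :
    evC I g c x ∈ (algebraMap C (Localization.Away c)).range := by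
  change Polynomial.eval₂ _ _ (x : A[X]) ∈ _
  rw [Polynomial.eval₂_eq_sum, Polynomial.sum]
  refine Subring.sum_mem _ fun n _ => ?_
  obtain ⟨d, hd⟩ := exists_mul_pow_eq I g c hgen n _ (x.2 n)
  refine ⟨d, ?_⟩
  change algebraMap C (Localization.Away c) d =
    algebraMap C (Localization.Away c) (g ((x : A[X]).coeff n)) * _
  rw [← hd, map_mul, map_pow, mul_assoc, ← mul_pow, IsLocalization.Away.mul_invSelf, one_pow,
    mul_one]

variable (hc : c ∈ C⁰)

include hc in
theorem algebraMap_injective : Function.Injective (algebraMap C (Localization.Away c)) :=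
  IsLocalization.injective (Localization.Away c) (Submonoid.powers_le.2 hc)

/-- the ring homomorphism `R(I) → C`, `x Xⁿ ↦ g(x)/cⁿ`. -/
noncomputable def ψ : reesAlgebra I →+* C where
  toFun x := (evC_mem_range I g c hgen x).choose
  map_one' := by
    apply algebraMap_injective c hc
    rw [(evC_mem_range I g c hgen 1).choose_spec, map_one, map_one]
  map_mul' x y := by
    apply algebraMap_injective c hc
    rw [(evC_mem_range I g c hgen (x * y)).choose_spec, map_mul, map_mul,
      (evC_mem_range I g c hgen x).choose_spec, (evC_mem_range I g c hgen y).choose_spec]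
  map_zero' := by
    apply algebraMap_injective c hc
    rw [(evC_mem_range I g c hgen 0).choose_spec, map_zero, map_zero]
  map_add' x y := by
    apply algebraMap_injective c hc
    rw [(evC_mem_range I g c hgen (x + y)).choose_spec, map_add, map_add,
      (evC_mem_range I g c hgen x).choose_spec, (evC_mem_range I g c hgen y).choose_spec]

theorem algebraMap_ψ (x : reesAlgebra I) :
    algebraMap C (Localization.Away c) (ψ I g c hgen hc x) = evC I g c x :=
  (evC_mem_range I g c hgen x).choose_spec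

theorem ψ_algebraMap (r : A) : ψ I g c hgen hc (algebraMap A (reesAlgebra I) r) = g r := by
  apply algebraMap_injective c hc
  rw [algebraMap_ψ]
  change Polynomial.eval₂ _ _ (Polynomial.C r) = _
  rw [eval₂_C]
  rfl

theorem ψ_gen_mul (x : A) (hx : x ∈ I) : ψ I g c hgen hc (gen I x hx) * c = g x := by
  apply algebraMap_injective c hc
  rw [map_mul, algebraMap_ψ, gen, evC_mon, pow_one, mul_assoc, mul_comm _ (algebraMap C _ c),
    IsLocalization.Away.mul_invSelf, mul_one]

/-- the irrelevant ideal generates the unit ideal of `C`. -/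
theorem map_ψ_irrelevant :
    Ideal.map (ψ I g c hgen hc)
      (HomogeneousIdeal.irrelevant (Rees.deg (reesAlgebra I))).toIdeal = ⊤ := by
  set J := Ideal.map (ψ I g c hgen hc)
    (HomogeneousIdeal.irrelevant (Rees.deg (reesAlgebra I))).toIdeal with hJ
  have key : ∀ y ∈ Ideal.map g I, ∃ j ∈ J, y = j * c := by
    intro y hy
    refine Submodule.span_induction ?_ ?_ ?_ ?_ hy
    · rintro _ ⟨x, hx, rfl⟩
      refine ⟨ψ I g c hgen hc (gen I x hx), ?_, (ψ_gen_mul I g c hgen hc x hx).symm⟩
      exact Ideal.mem_map_of_mem _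
        (HomogeneousIdeal.mem_irrelevant_of_mem _ Nat.one_pos (gen_mem_deg I x hx))
    · exact ⟨0, zero_mem _, by rw [zero_mul]⟩
    · rintro x y _ _ ⟨j₁, hj₁, rfl⟩ ⟨j₂, hj₂, rfl⟩
      exact ⟨j₁ + j₂, add_mem hj₁ hj₂, by rw [add_mul]⟩
    · rintro r x _ ⟨j, hj, rfl⟩
      exact ⟨r * j, Ideal.mul_mem_left _ _ hj, by rw [smul_eq_mul, mul_assoc]⟩
  obtain ⟨j, hj, hjc⟩ := key c (by rw [hgen]; exact Ideal.subset_span (Set.mem_singleton _))
  have h1 : (1 - j) * c = 0 := by rw [sub_mul, one_mul, ← hjc, sub_self]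
  have h2 : 1 - j = 0 := (mem_nonZeroDivisors_iff_right.1 hc) _ h1
  have h3 : j = 1 := (sub_eq_zero.1 h2).symm
  rw [Ideal.eq_top_iff_one, ← h3]
  exact hj

end Lift

end Groth.Agent.Lib.T2H6.ReesChart
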