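-- helper6 (team 2): `Proj` of the Rees algebra is a blowing up (existence of blow-ups of affine
-- schemes).
import Mathlib
import Groth.Prelude.Def_Rees
import Groth.Prelude.Def_BlowUp2
import Groth.Prelude.Def_ega3
import Groth.Agent.Lib.Helper20EffCartier
import Groth.Agent.Lib.T2H6ModulusVal
import Groth.Agent.Lib.T2H6ModulusProd
import Groth.Agent.Lib.T2H6ModulusCoprod
import Groth.Agent.Lib.T2H6BlowUpCoprime
import Groth.Agent.Lib.T2H6BlowUpLocal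
import Groth.Agent.Lib.T2H6ReesChart

set_option autoImplicit false
set_option backward.isDefEq.respectTransparency false
set_option backward.isDefEq.respectTransparency.types false
open CategoryTheory CategoryTheory.Limits AlgebraicGeometry

universe u

namespace Groth.Agent.Lib.T2H6.BlowUpAffine

open nonZeroDivisors Scheme.IdealSheafData
open Groth.Agent.Lib.T2H6.ReesChart

section Sharp

variable {Y : Scheme.{u}} {R : CommRingCat.{u}}

/-- the ring map `R → Γ(Y, ⊤)` corresponding to `g : Y ⟶ Spec R`. -/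
noncomputable def sharp (g : Y ⟶ Spec R) : R ⟶ Γ(Y, ⊤) :=
  (Scheme.ΓSpecIso R).inv ≫ g.appTop

theorem eq_toSpecΓ_sharp (g : Y ⟶ Spec R) : g = Y.toSpecΓ ≫ Spec.map (sharp g) := by
  rw [sharp, Spec.map_comp, ← Scheme.toSpecΓ_naturality_assoc, toSpecΓ_SpecMap_ΓSpecIso_inv,
    Category.comp_id]

theorem sharp_comp_SpecMap {B : CommRingCat.{u}} (l : Y ⟶ Spec B) (φ : R ⟶ B) :
    sharp (l ≫ Spec.map φ) = φ ≫ sharp l := by
  rw [sharp, sharp, Scheme.Hom.comp_appTop, ← Category.assoc, ← Scheme.ΓSpecIso_inv_naturality,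
    Category.assoc]

theorem sharp_toSpecΓ_SpecMap (χ : R ⟶ Γ(Y, ⊤)) : sharp (Y.toSpecΓ ≫ Spec.map χ) = χ := by
  rw [sharp_comp_SpecMap, sharp, Scheme.toSpecΓ_appTop, Iso.inv_hom_id, Category.comp_id]

theorem sharp_injective {g₁ g₂ : Y ⟶ Spec R} (h : sharp g₁ = sharp g₂) : g₁ = g₂ := by
  rw [eq_toSpecΓ_sharp g₁, eq_toSpecΓ_sharp g₂, h]

end Sharp

section Ideal

variable {A : Type u} [CommRing A] (I : Ideal A)

/-- the ideal sheaf on `Spec A` defined by `I`. -/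
noncomputable abbrev idl : (Spec (CommRingCat.of A)).IdealSheafData :=
  ofIdealTop (I.map (Scheme.ΓSpecIso (CommRingCat.of A)).inv.hom)

theorem idl_ideal_top :
    (idl I).ideal ⟨⊤, isAffineOpen_top _⟩ = I.map (Scheme.ΓSpecIso (CommRingCat.of A)).inv.hom := by
  rw [ofIdealTop_ideal]
  have h : (Spec (CommRingCat.of A)).presheaf.map (homOfLE (le_top :
      (⊤ : (Spec (CommRingCat.of A)).Opens) ≤ ⊤)).op = 𝟙 _ := by
    rw [← CategoryTheory.Functor.map_id]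
    rfl
  change Ideal.map ((Spec (CommRingCat.of A)).presheaf.map (homOfLE (le_top :
      (⊤ : (Spec (CommRingCat.of A)).Opens) ≤ ⊤)).op).hom _ = _
  rw [h]
  exact Ideal.map_id _

theorem ideal_comap_top {Y : Scheme.{u}} [IsAffine Y] (g : Y ⟶ Spec (CommRingCat.of A)) :
    ((idl I).comap g).ideal ⟨⊤, isAffineOpen_top Y⟩ = I.map (sharp g).hom := by
  have h := Groth.Agent.Lib.Helper20.EffCartier.ideal_comap_eq_map g (idl I) (isAffineOpen_top Y)
    (isAffineOpen_top _) le_top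
  have h3 : g.appLE ⊤ ⊤ le_top = g.appTop := (Scheme.Hom.app_eq_appLE g (U := ⊤)).symm
  rw [h, idl_ideal_top, Ideal.map_map, h3]
  rfl

theorem sharp_SpecMap {R B : CommRingCat.{u}} (φ : R ⟶ B) :
    sharp (Spec.map φ) = φ ≫ (Scheme.ΓSpecIso B).inv := by
  have h := sharp_comp_SpecMap (𝟙 (Spec B)) φ
  rw [Category.id_comp] at h
  rw [h, sharp, Scheme.Hom.id_appTop, Category.comp_id]

/-- the pullback of `idl I` to `Spec C` along `γ : A → C` is principal if `I C` is. -/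
theorem exists_gen_top_SpecMap {C : Type u} [CommRing C] (γ : A →+* C) (c : C) (hc : c ∈ C⁰)
    (hgen : I.map γ = Ideal.span {c}) :
    ∃ t : Γ(Spec (CommRingCat.of C), ⊤), t ∈ Γ(Spec (CommRingCat.of C), ⊤)⁰ ∧
      ((idl I).comap (Spec.map (CommRingCat.ofHom γ))).ideal ⟨⊤, isAffineOpen_top _⟩ =
        Ideal.span {t} := by
  let e : C ≃+* Γ(Spec (CommRingCat.of C), ⊤) :=
    (Scheme.ΓSpecIso (CommRingCat.of C)).symm.commRingCatIsoToRingEquiv
  refine ⟨e c, Groth.Agent.Lib.T2H6.ModulusVal.ringEquiv_mem_nonZeroDivisors e hc, ?_⟩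
  rw [ideal_comap_top, sharp_SpecMap]
  change Ideal.map ((Scheme.ΓSpecIso (CommRingCat.of C)).inv.hom.comp γ) I = _
  rw [← Ideal.map_map, hgen, Ideal.map_span, Set.image_singleton]
  rfl

end Ideal

section Restrict

/-- a principal ideal on an affine open `V` stays principal on the scheme `V`. -/
theorem exists_gen_restrict {Y : Scheme.{u}} (L : Y.IdealSheafData) (V : Y.affineOpens)
    (t : Γ(Y, V.1)) (ht : t ∈ Γ(Y, V.1)⁰) (hL : L.ideal V = Ideal.span {t}) :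
    ∃ c : Γ((V.1 : Scheme.{u}), ⊤), c ∈ Γ((V.1 : Scheme.{u}), ⊤)⁰ ∧
      (L.comap V.1.ι).ideal ⟨⊤, isAffineOpen_top _⟩ = Ideal.span {c} := by
  have hle : (⊤ : (V.1 : Scheme.{u}).Opens) ≤ V.1.ι ⁻¹ᵁ V.1 := by
    rw [Scheme.Opens.ι_preimage_self]
  have hiso : IsIso (V.1.ι.appLE V.1 ⊤ hle) := by
    rw [Scheme.Hom.appLE]
    have h1 : IsIso (V.1.ι.app V.1) :=
      V.1.ι.isIso_app V.1 (by rw [Scheme.Opens.opensRange_ι])
    have h2 : IsIso ((V.1 : Scheme.{u}).presheaf.map (homOfLE hle).op) := by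
      have : IsIso (homOfLE hle) :=
        ⟨homOfLE le_top, Subsingleton.elim _ _, Subsingleton.elim _ _⟩
      infer_instance
    infer_instance
  let e : Γ(Y, V.1) ≃+* Γ((V.1 : Scheme.{u}), ⊤) :=
    (asIso (V.1.ι.appLE V.1 ⊤ hle)).commRingCatIsoToRingEquiv
  have hmap := Groth.Agent.Lib.Helper20.EffCartier.ideal_comap_eq_map V.1.ι L
    (isAffineOpen_top (V.1 : Scheme.{u})) V.2 hle
  refine ⟨e t, Groth.Agent.Lib.T2H6.ModulusVal.ringEquiv_mem_nonZeroDivisors e ht, ?_⟩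
  rw [hmap]
  change Ideal.map _ (L.ideal V) = _
  rw [hL, Ideal.map_span, Set.image_singleton]
  rfl

end Restrict

section RingAux

theorem mem_nonZeroDivisors_of_span_eq {C : Type*} [CommRing C] {c d : C} (hc : c ∈ C⁰)
    (h : Ideal.span {c} = Ideal.span {d}) : d ∈ C⁰ := by
  have h1 : c ∈ Ideal.span {d} := h ▸ Ideal.subset_span (Set.mem_singleton c)
  obtain ⟨v, hv⟩ := Ideal.mem_span_singleton'.1 h1
  rw [mem_nonZeroDivisors_iff_right]
  intro w hw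
  apply (mem_nonZeroDivisors_iff_right.1 hc)
  rw [← hv, ← mul_assoc, mul_comm w v, mul_assoc, hw, mul_zero]

theorem exists_isUnit_mul_eq {C : Type*} [CommRing C] {d₁ d₂ : C} (h₁ : d₁ ∈ C⁰)
    (h : Ideal.span {d₁} = Ideal.span {d₂}) : ∃ u : C, IsUnit u ∧ d₁ * u = d₂ := by
  have h1 : d₂ ∈ Ideal.span {d₁} := h ▸ Ideal.subset_span (Set.mem_singleton d₂)
  have h2 : d₁ ∈ Ideal.span {d₂} := h ▸ Ideal.subset_span (Set.mem_singleton d₁)
  obtain ⟨u, hu⟩ := Ideal.mem_span_singleton'.1 h1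
  obtain ⟨v, hv⟩ := Ideal.mem_span_singleton'.1 h2
  have h3 : (v * u - 1) * d₁ = 0 := by
    rw [sub_mul, one_mul, mul_assoc, hu, hv, sub_self]
  have h4 : v * u - 1 = 0 := (mem_nonZeroDivisors_iff_right.1 h₁) _ h3
  have h5 : v * u = 1 := sub_eq_zero.1 h4
  exact ⟨u, IsUnit.of_mul_eq_one v (by rw [mul_comm]; exact h5), by rw [mul_comm]; exact hu⟩

end RingAux

section ProjRees

variable {A : Type u} [CommRing A] (I : Ideal A)

/-- the structure morphism `Proj R(I) ⟶ Spec A`. -/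
noncomputable def b : Proj (Rees.deg (reesAlgebra I)) ⟶ Spec (CommRingCat.of A) :=
  Proj.toSpecZero (Rees.deg (reesAlgebra I)) ≫
    Spec.map (CommRingCat.ofHom (algebraMap A (Rees.deg (reesAlgebra I) 0)))

variable (a : A) (ha : a ∈ I)

/-- the chart `Spec R(I)_{(aX)} ⟶ Proj R(I)`. -/
noncomputable def chart : Spec (CommRingCat.of (B I a ha)) ⟶ Proj (Rees.deg (reesAlgebra I)) :=
  Proj.awayι (Rees.deg (reesAlgebra I)) (gen I a ha) (gen_mem_deg I a ha) Nat.one_pos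

instance : IsOpenImmersion (chart I a ha) := by
  unfold chart
  infer_instance

theorem chart_b : chart I a ha ≫ b I = Spec.map (CommRingCat.ofHom (φ I a ha)) := by
  rw [chart, b, Proj.awayι_toSpecZero_assoc, ← Spec.map_comp]
  rfl

theorem opensRange_chart :
    (chart I a ha).opensRange = Proj.basicOpen (Rees.deg (reesAlgebra I)) (gen I a ha) :=
  Proj.opensRange_awayι _ _ _ _

theorem exists_mem_chart (x : Proj (Rees.deg (reesAlgebra I))) :
    ∃ (a : A) (ha : a ∈ I), x ∈ (chart I a ha).opensRange := by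
  have h := Proj.iSup_basicOpen_eq_top (Rees.deg (reesAlgebra I))
    (fun a : I => gen I a.1 a.2) (irrelevant_le_span I)
  have hx : x ∈ ⨆ a : I, Proj.basicOpen (Rees.deg (reesAlgebra I)) (gen I a.1 a.2) := by
    rw [h]; trivial
  obtain ⟨⟨a, ha⟩, hxa⟩ := TopologicalSpace.Opens.mem_iSup.1 hx
  exact ⟨a, ha, by rw [opensRange_chart]; exact hxa⟩

/-- the inverse image of `I` on `Proj R(I)` is effective Cartier. -/
theorem isEffCartier_comap_b : BlowUp.IsEffCartierIdeal ((idl I).comap (b I)) := by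
  intro x
  obtain ⟨a, ha, x', rfl⟩ := exists_mem_chart I x
  apply Groth.Agent.Lib.T2H6.ModulusCoprod.exists_gen_of_comap_isOpenImmersion (chart I a ha)
    ((idl I).comap (b I)) x'
  obtain ⟨t, ht, hgen⟩ := exists_gen_top_SpecMap I (φ I a ha) (φ I a ha a)
    (φ_mem_nonZeroDivisors I a ha) (map_φ_eq_span I a ha)
  refine ⟨⟨⊤, isAffineOpen_top _⟩, trivial, t, ht, ?_⟩
  rw [← comap_comp, chart_b]
  exact hgen

/-- existence of a lift when `I Γ(Y, ⊤)` is generated by one nonzerodivisor. -/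
theorem exists_lift_of_principal {Y : Scheme.{u}} (g : Y ⟶ Spec (CommRingCat.of A))
    (c : Γ(Y, ⊤)) (hc : c ∈ Γ(Y, ⊤)⁰) (hgen : I.map (sharp g).hom = Ideal.span {c}) :
    ∃ h : Y ⟶ Proj (Rees.deg (reesAlgebra I)), h ≫ b I = g := by
  have hirr := map_ψ_irrelevant I (sharp g).hom c hgen hc
  refine ⟨Proj.fromOfGlobalSections _ (ψ I (sharp g).hom c hgen hc) hirr, ?_⟩
  rw [b, Proj.fromOfGlobalSections_toSpecZero_assoc, ← Spec.map_comp]
  conv_rhs => rw [eq_toSpecΓ_sharp g]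
  congr 2
  ext r
  exact ψ_algebraMap I (sharp g).hom c hgen hc r

/-- local existence of lifts. -/
theorem exists_local_lift {Y : Scheme.{u}} (g : Y ⟶ Spec (CommRingCat.of A))
    (hg : BlowUp.IsEffCartierIdeal ((idl I).comap g)) (y : Y) :
    ∃ (V : Y.Opens) (h : (V : Scheme.{u}) ⟶ Proj (Rees.deg (reesAlgebra I))),
      y ∈ V ∧ h ≫ b I = V.ι ≫ g := by
  obtain ⟨V, hyV, t, ht, hVt⟩ := hg y
  obtain ⟨c, hc, hgen⟩ := exists_gen_restrict ((idl I).comap g) V t ht hVt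
  haveI : IsAffine (V.1 : Scheme.{u}) := V.2
  rw [← comap_comp, ideal_comap_top] at hgen
  obtain ⟨h, hh⟩ := exists_lift_of_principal I (V.1.ι ≫ g) c hc hgen
  exact ⟨V.1, h, hyV, hh⟩

/-- a morphism into a chart is given by a ring homomorphism out of the chart ring. -/
theorem exists_chart_hom {Y : Scheme.{u}} (k : Y ⟶ Proj (Rees.deg (reesAlgebra I)))
    (hk : Set.range k ⊆ Set.range (chart I a ha)) :
    ∃ χ : CommRingCat.of (B I a ha) ⟶ Γ(Y, ⊤),
      k = (Y.toSpecΓ ≫ Spec.map χ) ≫ chart I a ha ∧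
      CommRingCat.ofHom (φ I a ha) ≫ χ = sharp (k ≫ b I) := by
  let l : Y ⟶ Spec (CommRingCat.of (B I a ha)) := IsOpenImmersion.lift (chart I a ha) k hk
  have hl : l ≫ chart I a ha = k := IsOpenImmersion.lift_fac _ _ _
  refine ⟨sharp l, ?_, ?_⟩
  · rw [← eq_toSpecΓ_sharp l, hl]
  · rw [← hl, Category.assoc, chart_b, sharp_comp_SpecMap]

/-- the image of `a` generates `I Γ(Y, ⊤)` for a morphism into the chart of `a`. -/
theorem map_sharp_eq_span_of_chart {Y : Scheme.{u}} (k : Y ⟶ Proj (Rees.deg (reesAlgebra I)))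
    (hk : Set.range k ⊆ Set.range (chart I a ha)) :
    I.map (sharp (k ≫ b I)).hom = Ideal.span {(sharp (k ≫ b I)).hom a} := by
  obtain ⟨χ, -, hχ⟩ := exists_chart_hom I a ha k hk
  rw [← hχ]
  change Ideal.map (χ.hom.comp (φ I a ha)) I = Ideal.span {χ.hom (φ I a ha a)}
  rw [← Ideal.map_map, map_φ_eq_span, Ideal.map_span, Set.image_singleton]

/-- two lifts into the same chart agree. -/
theorem eq_of_chart {Y : Scheme.{u}} (k₁ k₂ : Y ⟶ Proj (Rees.deg (reesAlgebra I)))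
    (hb : k₁ ≫ b I = k₂ ≫ b I) (h₁ : Set.range k₁ ⊆ Set.range (chart I a ha))
    (h₂ : Set.range k₂ ⊆ Set.range (chart I a ha))
    (hnzd : (sharp (k₁ ≫ b I)).hom a ∈ Γ(Y, ⊤)⁰) : k₁ = k₂ := by
  obtain ⟨χ₁, hk₁, hχ₁⟩ := exists_chart_hom I a ha k₁ h₁
  obtain ⟨χ₂, hk₂, hχ₂⟩ := exists_chart_hom I a ha k₂ h₂
  have h : χ₁.hom.comp (φ I a ha) = χ₂.hom.comp (φ I a ha) := by
    have h3 : CommRingCat.ofHom (φ I a ha) ≫ χ₁ = CommRingCat.ofHom (φ I a ha) ≫ χ₂ := by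
      rw [hχ₁, hχ₂, hb]
    exact congrArg CommRingCat.Hom.hom h3
  have hn : χ₁.hom (φ I a ha a) ∈ Γ(Y, ⊤)⁰ := by
    have h4 : χ₁.hom (φ I a ha a) = (sharp (k₁ ≫ b I)).hom a := by
      rw [← hχ₁]; rfl
    rw [h4]; exact hnzd
  have h5 : χ₁ = χ₂ := CommRingCat.hom_ext (ringHom_ext I a ha χ₁.hom χ₂.hom h hn)
  rw [hk₁, hk₂, h5]

variable (a' : A) (ha' : a' ∈ I)

/-- changing the chart: if `a'` is a unit multiple of `a` on `Y`, a morphism into the chart of `a`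
also lands in the chart of `a'`. -/
theorem range_subset_chart_of_isUnit {Y : Scheme.{u}}
    (k : Y ⟶ Proj (Rees.deg (reesAlgebra I)))
    (hk : Set.range k ⊆ Set.range (chart I a ha)) (u : Γ(Y, ⊤)) (hu : IsUnit u)
    (hnzd : (sharp (k ≫ b I)).hom a ∈ Γ(Y, ⊤)⁰)
    (hrel : (sharp (k ≫ b I)).hom a * u = (sharp (k ≫ b I)).hom a') :
    Set.range k ⊆ Set.range (chart I a' ha') := by
  obtain ⟨χ, hkχ, hχ⟩ := exists_chart_hom I a ha k hk
  set e : B I a ha := HomogeneousLocalization.Away.isLocalizationElem (gen_mem_deg I a ha)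
    (gen_mem_deg I a' ha') with he
  have h1 : ∀ r, χ.hom (φ I a ha r) = (sharp (k ≫ b I)).hom r := by
    intro r; rw [← hχ]; rfl
  have h2 : χ.hom e = u := by
    have h3 := congrArg χ.hom (φ_mul_isLocalizationElem I a ha a' ha')
    rw [RingHom.map_mul, h1, h1, ← hrel] at h3
    exact (mul_cancel_left_mem_nonZeroDivisors hnzd).1 h3
  rintro _ ⟨y, rfl⟩
  change k y ∈ (chart I a' ha').opensRange
  rw [opensRange_chart, hkχ, Scheme.Hom.comp_apply]
  change (Y.toSpecΓ ≫ Spec.map χ) y ∈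
    (chart I a ha) ⁻¹ᵁ Proj.basicOpen (Rees.deg (reesAlgebra I)) (gen I a' ha')
  rw [chart, Proj.awayι_preimage_basicOpen (Rees.deg (reesAlgebra I)) (gen_mem_deg I a ha)
    Nat.one_pos (gen_mem_deg I a' ha') Nat.one_pos, Scheme.Hom.comp_apply]
  change e ∉ Ideal.comap χ.hom (Y.toSpecΓ y).asIdeal
  rw [Ideal.mem_comap, h2]
  intro hmem
  exact (Y.toSpecΓ y).2.ne_top (Ideal.eq_top_of_isUnit_mem _ hmem hu)

/-- uniqueness of lifts. -/
theorem lift_unique {Y : Scheme.{u}} (k₁ k₂ : Y ⟶ Proj (Rees.deg (reesAlgebra I)))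
    (hb : k₁ ≫ b I = k₂ ≫ b I)
    (hE : BlowUp.IsEffCartierIdeal ((idl I).comap (k₁ ≫ b I))) : k₁ = k₂ := by
  apply Scheme.hom_ext_of_forall
  intro y
  obtain ⟨a₁, ha₁, hy₁⟩ := exists_mem_chart I (k₁ y)
  obtain ⟨a₂, ha₂, hy₂⟩ := exists_mem_chart I (k₂ y)
  obtain ⟨V, hV, hyV, hVW, t, ht, hVt⟩ :=
    Groth.Agent.Lib.Helper20.EffCartier.exists_le_of_isEffCartierIdeal hE y
      (k₁ ⁻¹ᵁ (chart I a₁ ha₁).opensRange ⊓ k₂ ⁻¹ᵁ (chart I a₂ ha₂).opensRange) ⟨hy₁, hy₂⟩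
  refine ⟨V, hyV, ?_⟩
  have : IsAffine (V : Scheme.{u}) := hV
  obtain ⟨c, hc, hgen⟩ := exists_gen_restrict _ ⟨V, hV⟩ t ht hVt
  rw [← comap_comp, ideal_comap_top] at hgen
  have hb' : (V.ι ≫ k₁) ≫ b I = (V.ι ≫ k₂) ≫ b I := by
    rw [Category.assoc, Category.assoc, hb]
  have hgen' : I.map (sharp ((V.ι ≫ k₁) ≫ b I)).hom = Ideal.span {c} := by
    rw [Category.assoc]; exact hgen
  have hr₁ : Set.range (V.ι ≫ k₁) ⊆ Set.range (chart I a₁ ha₁) := by
    rintro _ ⟨v, rfl⟩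
    exact (hVW v.2).1
  have hr₂ : Set.range (V.ι ≫ k₂) ⊆ Set.range (chart I a₂ ha₂) := by
    rintro _ ⟨v, rfl⟩
    exact (hVW v.2).2
  have hg₁ := map_sharp_eq_span_of_chart I a₁ ha₁ (V.ι ≫ k₁) hr₁
  have hg₂ := map_sharp_eq_span_of_chart I a₂ ha₂ (V.ι ≫ k₂) hr₂
  rw [← hb'] at hg₂
  have hn₁ : (sharp ((V.ι ≫ k₁) ≫ b I)).hom a₁ ∈ Γ((V : Scheme.{u}), ⊤)⁰ :=
    mem_nonZeroDivisors_of_span_eq hc (hgen'.symm.trans hg₁)
  have hn₂ : (sharp ((V.ι ≫ k₁) ≫ b I)).hom a₂ ∈ Γ((V : Scheme.{u}), ⊤)⁰ :=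
    mem_nonZeroDivisors_of_span_eq hc (hgen'.symm.trans hg₂)
  obtain ⟨u, hu, hrel⟩ := exists_isUnit_mul_eq hn₁ (hg₁.symm.trans hg₂)
  have hr₁' : Set.range (V.ι ≫ k₁) ⊆ Set.range (chart I a₂ ha₂) :=
    range_subset_chart_of_isUnit I a₁ ha₁ a₂ ha₂ (V.ι ≫ k₁) hr₁ u hu hn₁ hrel
  exact eq_of_chart I a₂ ha₂ (V.ι ≫ k₁) (V.ι ≫ k₂) hb' hr₁' hr₂ hn₂

/-- `Proj` of the Rees algebra of `I` is a blowing up of `Spec A` in `I`. -/
theorem isBlowUp_b : BlowUp.IsBlowUp (b I) (idl I) :=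
  Groth.Agent.Lib.T2H6.BlowUpLocal.isBlowUp_of_local (b I) (idl I) (isEffCartier_comap_b I)
    (fun _ k₁ k₂ hb hE => lift_unique I k₁ k₂ hb hE)
    (fun _ g hg y => exists_local_lift I g hg y)

end ProjRees

end Groth.Agent.Lib.T2H6.BlowUpAffine
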