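-- helper6 (team 2): the chart ring `R(I)_{(aX)}` of `Proj` of the Rees algebra is the affine
-- blow-up algebra `A[I/a]`.
import Mathlib
import Groth.Prelude.Def_Rees
import Groth.Prelude.Def_BlowUp2
import Groth.Agent.Lib.T2H6ReesChart

set_option autoImplicit false
open Polynomial nonZeroDivisors HomogeneousLocalization

universe u

namespace Groth.Agent.Lib.T2H6.BlowUpChartAlg

open Groth.Agent.Lib.T2H6.ReesChart

variable {A : Type u} [CommRing A] (I : Ideal A) (a : A) (ha : a ∈ I)

theorem mk'_eq (x : A) :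
    IsLocalization.mk' (Localization.Away a) x ⟨a, Submonoid.mem_powers a⟩ =
      algebraMap A (Localization.Away a) x * IsLocalization.Away.invSelf a := by
  rw [IsLocalization.Away.invSelf, IsLocalization.mk'_eq_mul_mk'_one]

theorem mul_invSelf_pow_mem (n : ℕ) (c : A) (hc : c ∈ I ^ n) :
    algebraMap A (Localization.Away a) c * (IsLocalization.Away.invSelf a) ^ n ∈
      BlowUp.affineAlgebra A I a := by
  induction n generalizing c with
  | zero =>
    rw [pow_zero, mul_one]
    exact Subalgebra.algebraMap_mem _ _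
  | succ n ih =>
    rw [pow_succ] at hc
    refine Submodule.mul_induction_on hc ?_ ?_
    · intro x hx y hy
      have h1 : algebraMap A (Localization.Away a) (x * y) *
          (IsLocalization.Away.invSelf a) ^ (n + 1) =
          (algebraMap A (Localization.Away a) x * (IsLocalization.Away.invSelf a) ^ n) *
          (algebraMap A (Localization.Away a) y * IsLocalization.Away.invSelf a) := by
        rw [map_mul, pow_succ]; ring
      rw [h1]
      refine Subalgebra.mul_mem _ (ih x hx) ?_
      rw [← mk'_eq]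
      exact Algebra.subset_adjoin ⟨y, hy, rfl⟩
    · intro x y hx hy
      rw [map_add, add_mul]
      exact Subalgebra.add_mem _ hx hy

theorem θ_mem (z : B I a ha) : θ I a ha z ∈ BlowUp.affineAlgebra A I a := by
  obtain ⟨n, x, hx, rfl⟩ := Away.mk_surjective (Rees.deg (reesAlgebra I)) (gen_mem_deg I a ha) z
  have hx' : x ∈ Rees.deg (reesAlgebra I) n := by simpa using hx
  obtain ⟨c, hc, rfl⟩ := exists_eq_mon I n x hx'
  rw [θ_mk, ev_mon]
  exact mul_invSelf_pow_mem I a n c hc

theorem mem_range_θ (q : Localization.Away a) (hq : q ∈ BlowUp.affineAlgebra A I a) :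
    q ∈ Set.range (θ I a ha) := by
  refine Algebra.adjoin_induction ?_ ?_ ?_ ?_ hq
  · rintro _ ⟨x, hx, rfl⟩
    refine ⟨frac I a ha x hx, ?_⟩
    rw [frac, θ_mk, gen, ev_mon, pow_one, mk'_eq]
  · intro r
    exact ⟨φ I a ha r, θ_φ I a ha r⟩
  · rintro _ _ _ _ ⟨z₁, rfl⟩ ⟨z₂, rfl⟩
    exact ⟨z₁ + z₂, map_add _ _ _⟩
  · rintro _ _ _ _ ⟨z₁, rfl⟩ ⟨z₂, rfl⟩
    exact ⟨z₁ * z₂, map_mul _ _ _⟩

/-- the chart ring is the affine blow-up algebra. -/
noncomputable def chartEquiv : B I a ha ≃+* BlowUp.affineAlgebra A I a :=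
  RingEquiv.ofBijective
    ((θ I a ha).codRestrict (BlowUp.affineAlgebra A I a).toSubring (θ_mem I a ha))
    ⟨fun z₁ z₂ h => θ_injective I a ha (congrArg Subtype.val h),
     fun q => by
      obtain ⟨z, hz⟩ := mem_range_θ I a ha q.1 q.2
      exact ⟨z, Subtype.ext hz⟩⟩

theorem chartEquiv_φ (r : A) :
    chartEquiv I a ha (φ I a ha r) = algebraMap A (BlowUp.affineAlgebra A I a) r := by
  apply Subtype.ext
  exact θ_φ I a ha r

theorem chartEquiv_comp_φ :
    (chartEquiv I a ha).toRingHom.comp (φ I a ha) = algebraMap A (BlowUp.affineAlgebra A I a) :=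
  RingHom.ext (chartEquiv_φ I a ha)

end Groth.Agent.Lib.T2H6.BlowUpChartAlg
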