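-- helper6 (team 2): a blowing up of `Spec A` in `I` is covered by the spectra of the affine blow-up
-- algebras `A[I/a]`, `a ∈ I`.
import Mathlib
import Groth.Prelude.Def_BlowUp2
import Groth.Agent.Lib.T2H6BlowUpCoprime
import Groth.Agent.Lib.T2H6BlowUpAffine
import Groth.Agent.Lib.T2H6BlowUpChartAlg

set_option autoImplicit false
set_option backward.isDefEq.respectTransparency false
set_option backward.isDefEq.respectTransparency.types false
open CategoryTheory CategoryTheory.Limits AlgebraicGeometry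

universe u

namespace Groth.Agent.Lib.T2H6.BlowUpCharts

open Groth.Agent.Lib.T2H6.ReesChart Groth.Agent.Lib.T2H6.BlowUpAffine
open Groth.Agent.Lib.T2H6.BlowUpChartAlg Groth.Agent.Lib.T2H6.BlowUpCoprime

theorem main (A : Type u) [CommRing A] (I : Ideal A) {X' : Scheme.{u}}
    (b : X' ⟶ Spec (CommRingCat.of A)) (hb : BlowUp.IsBlowUp b (idl I)) (x' : ↥X') :
    ∃ (a : A) (_ : a ∈ I) (V : X'.Opens)
      (e : (V : Scheme.{u}) ≅ Spec (CommRingCat.of ↥(BlowUp.affineAlgebra A I a))),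
      x' ∈ V ∧ e.hom ≫ Spec.map (CommRingCat.ofHom
        (algebraMap A ↥(BlowUp.affineAlgebra A I a))) = V.ι ≫ b := by
  obtain ⟨ι, hι, hιb⟩ := exists_isIso_of_isBlowUp (idl I) b hb
    (Groth.Agent.Lib.T2H6.BlowUpAffine.b I) (isBlowUp_b I)
  obtain ⟨a, ha, z, hz⟩ := exists_mem_chart I (ι x')
  let ε : CommRingCat.of (B I a ha) ⟶ CommRingCat.of ↥(BlowUp.affineAlgebra A I a) :=
    CommRingCat.ofHom (chartEquiv I a ha).toRingHom
  have hε : IsIso ε := by
    have : ε = (chartEquiv I a ha).toCommRingCatIso.hom := rfl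
    rw [this]; infer_instance
  let c : Spec (CommRingCat.of ↥(BlowUp.affineAlgebra A I a)) ⟶ X' :=
    Spec.map ε ≫ chart I a ha ≫ inv ι
  have hc : IsOpenImmersion c := inferInstance
  have hcb : c ≫ b = Spec.map (CommRingCat.ofHom
      (algebraMap A ↥(BlowUp.affineAlgebra A I a))) := by
    have h1 : inv ι ≫ b = Groth.Agent.Lib.T2H6.BlowUpAffine.b I := by
      rw [IsIso.inv_comp_eq, hιb]
    change (Spec.map ε ≫ chart I a ha ≫ inv ι) ≫ b = _
    rw [Category.assoc, Category.assoc, h1, chart_b, ← Spec.map_comp]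
    congr 1
    ext r
    exact congrArg Subtype.val (chartEquiv_φ I a ha r)
  refine ⟨a, ha, c.opensRange, c.isoOpensRange.symm, ?_, ?_⟩
  · obtain ⟨w, hw⟩ : ∃ w, Spec.map ε w = z := (Spec.map ε).surjective z
    refine ⟨w, ?_⟩
    change (Spec.map ε ≫ chart I a ha ≫ inv ι) w = x'
    rw [Scheme.Hom.comp_apply, Scheme.Hom.comp_apply, hw, hz, ← Scheme.Hom.comp_apply,
      IsIso.hom_inv_id]
    rfl
  · rw [Iso.symm_hom, Iso.inv_comp_eq, ← hcb, ← Category.assoc, Scheme.Hom.isoOpensRange_hom_ι]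

end Groth.Agent.Lib.T2H6.BlowUpCharts
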