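-- helper6 (team 2): a local criterion for the universal property of a blowing up.
import Mathlib
import Groth.Prelude.Def_BlowUp2
import Groth.Agent.Lib.T2H6BlowUpCoprime

set_option autoImplicit false
set_option backward.isDefEq.respectTransparency false
set_option backward.isDefEq.respectTransparency.types false
open CategoryTheory CategoryTheory.Limits AlgebraicGeometry

universe u

namespace Groth.Agent.Lib.T2H6.BlowUpLocal

open Scheme.IdealSheafData
open Groth.Agent.Lib.T2H6.BlowUpCoprime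

/-- A morphism `b : P ⟶ X` is a blowing up of `𝓘` as soon as the inverse image of `𝓘` is effective
Cartier, lifts are unique, and lifts exist locally on the source. -/
theorem isBlowUp_of_local {X P : Scheme.{u}} (b : P ⟶ X) (𝓘 : X.IdealSheafData)
    (h1 : BlowUp.IsEffCartierIdeal (𝓘.comap b))
    (h2 : ∀ (Y : Scheme.{u}) (k₁ k₂ : Y ⟶ P), k₁ ≫ b = k₂ ≫ b →
      BlowUp.IsEffCartierIdeal (𝓘.comap (k₁ ≫ b)) → k₁ = k₂)
    (h3 : ∀ (Y : Scheme.{u}) (g : Y ⟶ X), BlowUp.IsEffCartierIdeal (𝓘.comap g) → ∀ y : Y,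
      ∃ (V : Y.Opens) (h : (V : Scheme.{u}) ⟶ P), y ∈ V ∧ h ≫ b = V.ι ≫ g) :
    BlowUp.IsBlowUp b 𝓘 := by
  refine ⟨h1, fun Y g hg => ?_⟩
  choose V h hyV hh using h3 Y g hg
  let 𝒰 : Y.OpenCover :=
    { I₀ := Y, X := fun i => (V i), f := fun i => (V i).ι,
      mem₀ := by
        rw [Scheme.presieve₀_mem_precoverage_iff]
        refine ⟨fun x => ⟨x, by simpa using hyV x⟩, inferInstance⟩ }
  have hcompat : ∀ x y : Y, pullback.fst (𝒰.f x) (𝒰.f y) ≫ h x = pullback.snd _ _ ≫ h y := by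
    intro x y
    have hb : (pullback.fst (𝒰.f x) (𝒰.f y) ≫ h x) ≫ b =
        (pullback.snd (𝒰.f x) (𝒰.f y) ≫ h y) ≫ b := by
      rw [Category.assoc, Category.assoc, hh, hh]
      change pullback.fst (V x).ι (V y).ι ≫ (V x).ι ≫ g = pullback.snd (V x).ι (V y).ι ≫ (V y).ι ≫ g
      rw [← Category.assoc, pullback.condition, Category.assoc]
    refine h2 _ _ _ hb ?_
    rw [Category.assoc, hh]
    change BlowUp.IsEffCartierIdeal (𝓘.comap (pullback.fst (V x).ι (V y).ι ≫ (V x).ι ≫ g))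
    rw [← Category.assoc, comap_comp]
    exact isEffCartierIdeal_comap_of_isOpenImmersion _ _ hg
  refine ⟨𝒰.glueMorphisms h hcompat, ?_, ?_⟩
  · change 𝒰.glueMorphisms h hcompat ≫ b = g
    refine 𝒰.hom_ext _ _ fun x => ?_
    rw [Scheme.Cover.ι_glueMorphisms_assoc, hh]
  · intro k hk
    have hk' : k ≫ b = g := hk
    have hglue : 𝒰.glueMorphisms h hcompat ≫ b = g := by
      refine 𝒰.hom_ext _ _ fun x => ?_
      rw [Scheme.Cover.ι_glueMorphisms_assoc, hh]
    exact h2 Y k _ (hk'.trans hglue.symm) (by rw [hk']; exact hg)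

end Groth.Agent.Lib.T2H6.BlowUpLocal
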