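-- helper6 (team 2): existence of blowing ups of arbitrary schemes (gluing the affine case).
import Mathlib
import Groth.Prelude.Def_BlowUp2
import Groth.Agent.Lib.T2H6ModulusCoprod
import Groth.Agent.Lib.T2H6BlowUpCoprime
import Groth.Agent.Lib.T2H6BlowUpLocal
import Groth.Agent.Lib.T2H6BlowUpAffine

set_option autoImplicit false
set_option backward.isDefEq.respectTransparency false
set_option backward.isDefEq.respectTransparency.types false
open CategoryTheory CategoryTheory.Limits AlgebraicGeometry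

universe u

namespace Groth.Agent.Lib.T2H6.BlowUpGlue

open Scheme.IdealSheafData
open Groth.Agent.Lib.T2H6.BlowUpCoprime Groth.Agent.Lib.T2H6.BlowUpLocal

/-- transporting a blowing up along an isomorphism of the base. -/
theorem isBlowUp_comp_iso {P Z' Z : Scheme.{u}} (b' : P ⟶ Z') (e : Z' ≅ Z) (J : Z.IdealSheafData)
    (hb : BlowUp.IsBlowUp b' (J.comap e.hom)) : BlowUp.IsBlowUp (b' ≫ e.hom) J := by
  refine ⟨?_, fun Y g hg => ?_⟩
  · rw [comap_comp]; exact hb.1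
  · have hg' : BlowUp.IsEffCartierIdeal ((J.comap e.hom).comap (g ≫ e.inv)) := by
      rw [← comap_comp, Category.assoc, e.inv_hom_id, Category.comp_id]; exact hg
    obtain ⟨h, hh, hu⟩ := hb.2 Y (g ≫ e.inv) hg'
    refine ⟨h, ?_, ?_⟩
    · change h ≫ b' ≫ e.hom = g
      rw [← Category.assoc, hh, Category.assoc, e.inv_hom_id, Category.comp_id]
    · intro k hk
      have hk' : k ≫ b' ≫ e.hom = g := hk
      apply hu
      change k ≫ b' = g ≫ e.inv
      rw [← hk', Category.assoc, Category.assoc, e.hom_inv_id, Category.comp_id]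

/-- blowing ups of affine schemes exist. -/
theorem exists_isBlowUp_of_isAffine (Z : Scheme.{u}) [IsAffine Z] (J : Z.IdealSheafData) :
    ∃ (P : Scheme.{u}) (b : P ⟶ Z), BlowUp.IsBlowUp b J := by
  let e : Spec Γ(Z, ⊤) ≅ Z := Z.isoSpec.symm
  let J' : (Spec Γ(Z, ⊤)).IdealSheafData := J.comap e.hom
  let I' : Ideal Γ(Z, ⊤) :=
    (J'.ideal ⟨⊤, isAffineOpen_top _⟩).map (Scheme.ΓSpecIso Γ(Z, ⊤)).hom.hom
  have hJ' : J' = Groth.Agent.Lib.T2H6.BlowUpAffine.idl (A := Γ(Z, ⊤)) I' := by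
    apply Scheme.IdealSheafData.ext_of_isAffine
    rw [Groth.Agent.Lib.T2H6.BlowUpAffine.idl_ideal_top, Ideal.map_map]
    have h1 : (Scheme.ΓSpecIso Γ(Z, ⊤)).inv.hom.comp (Scheme.ΓSpecIso Γ(Z, ⊤)).hom.hom =
        RingHom.id _ := by
      rw [← CommRingCat.hom_comp, Iso.hom_inv_id]; rfl
    erw [h1]
    rw [Ideal.map_id]
  have hb := Groth.Agent.Lib.T2H6.BlowUpAffine.isBlowUp_b (A := Γ(Z, ⊤)) I'
  rw [← hJ'] at hb
  exact ⟨_, _, isBlowUp_comp_iso _ e J hb⟩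

/-- base change of a blowing up along an open immersion is a blowing up. -/
theorem isBlowUp_of_isPullback_of_isOpenImmersion {P Z U P' : Scheme.{u}} (b : P ⟶ Z)
    (J : Z.IdealSheafData) (hb : BlowUp.IsBlowUp b J) (j : U ⟶ Z) [IsOpenImmersion j]
    (b' : P' ⟶ U) (j' : P' ⟶ P) (h : IsPullback b' j' j b) :
    BlowUp.IsBlowUp b' (J.comap j) := by
  have hj' : IsOpenImmersion j' := MorphismProperty.of_isPullback h ‹_›
  refine ⟨?_, fun Y g hg => ?_⟩
  · rw [← comap_comp, h.w, comap_comp]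
    exact isEffCartierIdeal_comap_of_isOpenImmersion _ _ hb.1
  · rw [← comap_comp] at hg
    obtain ⟨k, hk, hu⟩ := hb.2 Y (g ≫ j) hg
    refine ⟨h.lift g k hk.symm, h.lift_fst _ _ _, ?_⟩
    intro m hm
    have hm' : m ≫ b' = g := hm
    apply h.hom_ext
    · rw [h.lift_fst]; exact hm'
    · rw [h.lift_snd]
      apply hu
      change (m ≫ j') ≫ b = g ≫ j
      rw [Category.assoc, ← h.w, ← Category.assoc, hm']

/-- being a blowing up is local on the base. -/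
theorem isBlowUp_of_local_base {P X : Scheme.{u}} (b : P ⟶ X) (𝓘 : X.IdealSheafData)
    (H : ∀ x : X, ∃ (U BU : Scheme.{u}) (j : U ⟶ X) (_ : IsOpenImmersion j) (bU : BU ⟶ U)
      (ι : BU ⟶ P), x ∈ Set.range j ∧ IsPullback bU ι j b ∧ BlowUp.IsBlowUp bU (𝓘.comap j)) :
    BlowUp.IsBlowUp b 𝓘 := by
  apply isBlowUp_of_local
  · intro p
    obtain ⟨U, BU, j, hj, bU, ι, ⟨u, hu⟩, hpb, hbU⟩ := H (b p)
    have hι : IsOpenImmersion ι := MorphismProperty.of_isPullback hpb hj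
    obtain ⟨q, hq1, hq2⟩ := Scheme.exists_preimage_of_isPullback hpb u p hu
    have h1 : (𝓘.comap b).comap ι = (𝓘.comap j).comap bU := by
      rw [← comap_comp, ← comap_comp, hpb.w]
    have := Groth.Agent.Lib.T2H6.ModulusCoprod.exists_gen_of_comap_isOpenImmersion ι (𝓘.comap b) q
      (by rw [h1]; exact hbU.1 q)
    rw [hq2] at this
    exact this
  · intro Y k₁ k₂ hk hE
    refine Scheme.hom_ext_of_forall _ _ fun y => ?_
    obtain ⟨U, BU, j, hj, bU, ι, hx, hpb, hbU⟩ := H ((k₁ ≫ b) y)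
    let V : Y.Opens := (k₁ ≫ b) ⁻¹ᵁ j.opensRange
    have hrange : Set.range (V.ι ≫ k₁ ≫ b) ⊆ Set.range j := by
      rintro _ ⟨v, rfl⟩
      exact v.2
    let l : (V : Scheme.{u}) ⟶ U := IsOpenImmersion.lift j (V.ι ≫ k₁ ≫ b) hrange
    have hl : l ≫ j = V.ι ≫ k₁ ≫ b := IsOpenImmersion.lift_fac _ _ _
    have hl₂ : l ≫ j = V.ι ≫ k₂ ≫ b := by rw [hl, hk]
    have hE' : BlowUp.IsEffCartierIdeal ((𝓘.comap j).comap l) := by
      rw [← comap_comp, hl, comap_comp]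
      exact isEffCartierIdeal_comap_of_isOpenImmersion _ _ hE
    obtain ⟨m, -, hm⟩ := hbU.2 V l hE'
    have e₁ : hpb.lift l (V.ι ≫ k₁) (by rw [hl, Category.assoc]) = m :=
      hm _ (hpb.lift_fst _ _ _)
    have e₂ : hpb.lift l (V.ι ≫ k₂) (by rw [hl₂, Category.assoc]) = m :=
      hm _ (hpb.lift_fst _ _ _)
    refine ⟨V, hx, ?_⟩
    rw [← hpb.lift_snd l (V.ι ≫ k₁) (by rw [hl, Category.assoc]), e₁, ← e₂, hpb.lift_snd]
  · intro Y g hg y
    obtain ⟨U, BU, j, hj, bU, ι, hx, hpb, hbU⟩ := H (g y)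
    let V : Y.Opens := g ⁻¹ᵁ j.opensRange
    have hrange : Set.range (V.ι ≫ g) ⊆ Set.range j := by
      rintro _ ⟨v, rfl⟩
      exact v.2
    let l : (V : Scheme.{u}) ⟶ U := IsOpenImmersion.lift j (V.ι ≫ g) hrange
    have hl : l ≫ j = V.ι ≫ g := IsOpenImmersion.lift_fac _ _ _
    have hE' : BlowUp.IsEffCartierIdeal ((𝓘.comap j).comap l) := by
      rw [← comap_comp, hl, comap_comp]
      exact isEffCartierIdeal_comap_of_isOpenImmersion _ _ hg
    obtain ⟨m, hm, -⟩ := hbU.2 V l hE'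
    have hm' : m ≫ bU = l := hm
    refine ⟨V, m ≫ ι, hx, ?_⟩
    rw [Category.assoc, ← hpb.w, ← Category.assoc, hm', hl]

section Glue

variable (X : Scheme.{u}) (𝓘 : X.IdealSheafData)

theorem exists_isBlowUp_affineOpen (U : X.affineOpens) :
    ∃ (P : Scheme.{u}) (b : P ⟶ (U.1 : Scheme.{u})), BlowUp.IsBlowUp b (𝓘.comap U.1.ι) := by
  haveI : IsAffine (U.1 : Scheme.{u}) := U.2
  exact exists_isBlowUp_of_isAffine _ _

/-- chosen blowing up of the affine open `U`. -/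
noncomputable def BU (U : X.affineOpens) : Scheme.{u} :=
  (exists_isBlowUp_affineOpen X 𝓘 U).choose

noncomputable def bU (U : X.affineOpens) : BU X 𝓘 U ⟶ (U.1 : Scheme.{u}) :=
  (exists_isBlowUp_affineOpen X 𝓘 U).choose_spec.choose

theorem hbU (U : X.affineOpens) : BlowUp.IsBlowUp (bU X 𝓘 U) (𝓘.comap U.1.ι) :=
  (exists_isBlowUp_affineOpen X 𝓘 U).choose_spec.choose_spec

theorem isEffCartier_tr {U V : X.affineOpens} (h : U ≤ V) :
    BlowUp.IsEffCartierIdeal ((𝓘.comap V.1.ι).comap (bU X 𝓘 U ≫ X.homOfLE h)) := by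
  rw [← comap_comp, Category.assoc, Scheme.homOfLE_ι, comap_comp]
  exact (hbU X 𝓘 U).1

noncomputable def tr {U V : X.affineOpens} (h : U ≤ V) : BU X 𝓘 U ⟶ BU X 𝓘 V :=
  ((hbU X 𝓘 V).2 _ _ (isEffCartier_tr X 𝓘 h)).choose

theorem tr_bU {U V : X.affineOpens} (h : U ≤ V) :
    tr X 𝓘 h ≫ bU X 𝓘 V = bU X 𝓘 U ≫ X.homOfLE h :=
  ((hbU X 𝓘 V).2 _ _ (isEffCartier_tr X 𝓘 h)).choose_spec.1

theorem tr_unique {U V : X.affineOpens} (h : U ≤ V) (k : BU X 𝓘 U ⟶ BU X 𝓘 V)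
    (hk : k ≫ bU X 𝓘 V = bU X 𝓘 U ≫ X.homOfLE h) : k = tr X 𝓘 h :=
  ((hbU X 𝓘 V).2 _ _ (isEffCartier_tr X 𝓘 h)).choose_spec.2 k hk

theorem tr_rfl (U : X.affineOpens) : tr X 𝓘 (le_refl U) = 𝟙 _ := by
  symm
  apply tr_unique
  rw [Category.id_comp]
  have : X.homOfLE (le_refl U) = 𝟙 _ := X.homOfLE_rfl U.1
  rw [this, Category.comp_id]

theorem tr_tr {U V W : X.affineOpens} (h₁ : U ≤ V) (h₂ : V ≤ W) :
    tr X 𝓘 h₁ ≫ tr X 𝓘 h₂ = tr X 𝓘 (h₁.trans h₂) := by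
  apply tr_unique
  rw [Category.assoc, tr_bU, ← Category.assoc, tr_bU, Category.assoc]
  congr 1
  exact X.homOfLE_homOfLE _ _

theorem isPullback_tr {U V : X.affineOpens} (h : U ≤ V) :
    IsPullback (tr X 𝓘 h) (bU X 𝓘 U) (bU X 𝓘 V) (X.homOfLE h) := by
  have hpb : IsPullback (pullback.snd (bU X 𝓘 V) (X.homOfLE h))
      (pullback.fst (bU X 𝓘 V) (X.homOfLE h)) (X.homOfLE h) (bU X 𝓘 V) :=
    (IsPullback.of_hasPullback _ _).flip
  have h1 := isBlowUp_of_isPullback_of_isOpenImmersion (bU X 𝓘 V) (𝓘.comap V.1.ι) (hbU X 𝓘 V)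
    (X.homOfLE h) _ _ hpb
  rw [← comap_comp, Scheme.homOfLE_ι] at h1
  obtain ⟨ι, hι, hι2⟩ := exists_isIso_of_isBlowUp _ _ (hbU X 𝓘 U) _ h1
  refine IsPullback.of_iso_pullback ⟨tr_bU X 𝓘 h⟩ (asIso ι) ?_ hι2
  apply tr_unique
  change (ι ≫ pullback.fst _ _) ≫ _ = _
  rw [Category.assoc, pullback.condition, ← Category.assoc, hι2]

/-- the functor of the chosen blowing ups of the affine opens. -/
noncomputable def functor : X.affineOpens ⥤ Scheme.{u} where
  obj U := BU X 𝓘 U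
  map f := tr X 𝓘 (leOfHom f)
  map_id U := tr_rfl X 𝓘 U
  map_comp f g := (tr_tr X 𝓘 (leOfHom f) (leOfHom g)).symm

/-- the relative gluing datum of the chosen blowing ups. -/
noncomputable def gluingData : Scheme.Cover.RelativeGluingData X.directedAffineCover where
  functor :=
    { obj := fun U => BU X 𝓘 U
      map := fun f => tr X 𝓘 (leOfHom f)
      map_id := fun U => tr_rfl X 𝓘 U
      map_comp := fun f g => (tr_tr X 𝓘 (leOfHom f) (leOfHom g)).symm }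
  natTrans :=
    { app := fun U => bU X 𝓘 U
      naturality := fun _ _ f => tr_bU X 𝓘 (leOfHom f) }
  equifibered := fun _ _ f => isPullback_tr X 𝓘 (leOfHom f)

theorem exists_isBlowUp : ∃ (X' : Scheme.{u}) (b : X' ⟶ X), BlowUp.IsBlowUp b 𝓘 := by
  refine ⟨(gluingData X 𝓘).glued, (gluingData X 𝓘).toBase, ?_⟩
  apply isBlowUp_of_local_base
  intro x
  obtain ⟨U, y, hy⟩ := X.directedAffineCover.exists_eq x
  exact ⟨_, _, X.directedAffineCover.f U, inferInstance, bU X 𝓘 U,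
    colimit.ι (gluingData X 𝓘).functor U, ⟨y, hy⟩,
    (gluingData X 𝓘).isPullback_natTrans_ι_toBase U, hbU X 𝓘 U⟩

end Glue

end Groth.Agent.Lib.T2H6.BlowUpGlue
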