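-- helper6 (team 2): factors of an effective Cartier product ideal are effective Cartier; the inverse
-- image of an effective Cartier divisor under a blowing up is effective Cartier; composition of
-- blowing ups `Bl_{b⁻¹𝓛}(Bl_𝓘 X) = Bl_{𝓘𝓛} X`.
import Mathlib
import Groth.Prelude.Def_BlowUp2
import Groth.Agent.Lib.Helper20EffCartier
import Groth.Agent.Lib.Helper20BlowUp
import Groth.Agent.Lib.Helper14FtPts
import Groth.Agent.Lib.T2H6ModulusCoprod
import Groth.Agent.Lib.T2H6BlowUpCoprime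
import Groth.Agent.Lib.T2H6BlowUpAffine
import Groth.Agent.Lib.T2H6BlowUpCharts
import Groth.Agent.Lib.T2H6BlowUpGlue

set_option autoImplicit false
set_option backward.isDefEq.respectTransparency false
set_option backward.isDefEq.respectTransparency.types false
open CategoryTheory CategoryTheory.Limits AlgebraicGeometry nonZeroDivisors

universe u

namespace Groth.Agent.Lib.T2H6.BlowUpMul

section Ring

variable {R : Type*} [CommRing R] (I J : Ideal R) (f : R) (hf : f ∈ R⁰)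
  (hIJ : I * J = Ideal.span {f})

include hf hIJ in
theorem span_T_eq_top :
    Ideal.span {a : R | ∃ x ∈ I, ∃ y ∈ J, x * y = f * a} = ⊤ := by
  have key : ∀ z ∈ I * J, ∃ v ∈ Ideal.span {a : R | ∃ x ∈ I, ∃ y ∈ J, x * y = f * a},
      z = f * v := by
    intro z hz
    refine Submodule.mul_induction_on hz ?_ ?_
    · intro x hx y hy
      have h1 : x * y ∈ Ideal.span {f} := by
        rw [← hIJ]; exact Ideal.mul_mem_mul hx hy
      obtain ⟨a, ha⟩ := Ideal.mem_span_singleton'.1 h1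
      exact ⟨a, Ideal.subset_span ⟨x, hx, y, hy, by rw [← ha, mul_comm]⟩, by rw [← ha, mul_comm]⟩
    · rintro _ _ ⟨v₁, hv₁, rfl⟩ ⟨v₂, hv₂, rfl⟩
      exact ⟨v₁ + v₂, Ideal.add_mem _ hv₁ hv₂, by rw [mul_add]⟩
  have hfmem : f ∈ I * J := by
    rw [hIJ]; exact Ideal.subset_span (Set.mem_singleton f)
  obtain ⟨v, hv, hfv⟩ := key f hfmem
  have h1 : v = 1 := by
    have h2 : f * v = f * 1 := by rw [← hfv, mul_one]
    exact (mul_cancel_left_mem_nonZeroDivisors hf).1 h2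
  rw [Ideal.eq_top_iff_one, ← h1]
  exact hv

include hf hIJ in
/-- near every prime, `f` is a product `x y` up to a local unit. -/
theorem exists_factor (p : Ideal R) (hp : p ≠ ⊤) :
    ∃ s : R, s ∉ p ∧ ∃ x ∈ I, ∃ y ∈ J, x * y = f * s := by
  by_contra hcon
  push Not at hcon
  have hle : Ideal.span {a : R | ∃ x ∈ I, ∃ y ∈ J, x * y = f * a} ≤ p := by
    rw [Ideal.span_le]
    rintro a ⟨x, hx, y, hy, hxy⟩
    by_contra hap
    exact hcon a hap x hx y hy hxy
  rw [span_T_eq_top I J f hf hIJ, top_le_iff] at hle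
  exact hp hle

include hIJ in
/-- after inverting `s` the ideal `I` becomes principal, generated by a nonzerodivisor. -/
theorem map_eq_span_of_factor {R' : Type*} [CommRing R'] (ρ : R →+* R') (s x y : R)
    (hx : x ∈ I) (hy : y ∈ J) (hxy : x * y = f * s) (hs : IsUnit (ρ s)) (hρf : ρ f ∈ R'⁰) :
    ρ x ∈ R'⁰ ∧ Ideal.map ρ I = Ideal.span {ρ x} := by
  have hprod : ρ x * ρ y ∈ R'⁰ := by
    rw [← map_mul, hxy, map_mul]
    exact mul_mem hρf hs.mem_nonZeroDivisors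
  have hxn : ρ x ∈ R'⁰ := by
    rw [mem_nonZeroDivisors_iff_right]
    intro w hw
    apply (mem_nonZeroDivisors_iff_right.1 hprod)
    rw [mul_comm (ρ x) (ρ y), ← mul_assoc, mul_comm w, mul_assoc, hw, mul_zero]
  have hyn : ρ y ∈ R'⁰ := by
    rw [mem_nonZeroDivisors_iff_right]
    intro w hw
    apply (mem_nonZeroDivisors_iff_right.1 hprod)
    rw [← mul_assoc, mul_comm w, mul_assoc, hw, mul_zero]
  refine ⟨hxn, le_antisymm ?_ ?_⟩
  · rw [Ideal.map_le_iff_le_comap]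
    intro x' hx'
    rw [Ideal.mem_comap]
    have h1 : x' * y ∈ Ideal.span {f} := by
      rw [← hIJ]; exact Ideal.mul_mem_mul hx' hy
    obtain ⟨a', ha'⟩ := Ideal.mem_span_singleton'.1 h1
    obtain ⟨u, hu⟩ := hs.exists_left_inv
    -- ρ x' * ρ y = ρ f * ρ a' = ρ x * ρ y * u * ρ a'
    have h2 : ρ y * ρ x' = ρ y * (ρ x * (u * ρ a')) := by
      have e1 : ρ x' * ρ y = ρ a' * ρ f := by rw [← map_mul, ← map_mul, ha']
      have e2 : ρ x * ρ y = ρ f * ρ s := by rw [← map_mul, hxy, map_mul]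
      calc ρ y * ρ x' = ρ a' * ρ f := by rw [mul_comm, e1]
        _ = ρ a' * (ρ f * (u * ρ s)) := by rw [hu, mul_one]
        _ = ρ a' * u * (ρ f * ρ s) := by ring
        _ = ρ a' * u * (ρ x * ρ y) := by rw [e2]
        _ = ρ y * (ρ x * (u * ρ a')) := by ring
    have h3 : ρ x' = ρ x * (u * ρ a') := (mul_cancel_left_mem_nonZeroDivisors hyn).1 h2
    rw [h3]
    exact Ideal.mul_mem_right _ _ (Ideal.subset_span (Set.mem_singleton _))
  · rw [Ideal.span_le, Set.singleton_subset_iff]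
    exact Ideal.mem_map_of_mem _ hx

end Ring

section Factor

open Scheme.IdealSheafData

/-- a factor of an effective Cartier product ideal is effective Cartier. -/
theorem isEffCartierIdeal_of_mul {Y : Scheme.{u}} (A B : Y.IdealSheafData)
    (hAB : BlowUp.IsEffCartierIdeal (A * B)) : BlowUp.IsEffCartierIdeal A := by
  intro y
  obtain ⟨V, hyV, f, hf, hABf⟩ := hAB y
  rw [ideal_mul] at hABf
  change A.ideal V * B.ideal V = _ at hABf
  have hp : (V.2.primeIdealOf ⟨y, hyV⟩).asIdeal ≠ ⊤ := (V.2.primeIdealOf ⟨y, hyV⟩).2.ne_top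
  obtain ⟨s, hsp, x, hx, y', hy', hxy⟩ :=
    exists_factor (A.ideal V) (B.ideal V) f hf hABf _ hp
  have hys : y ∈ Y.basicOpen s :=
    (Groth.Agent.Lib.Helper14.mem_basicOpen_iff_notMem_primeIdealOf V.2 y hyV s).2 hsp
  have inst := V.2.isLocalization_basicOpen s
  have hρ : (Y.presheaf.map (homOfLE (Y.basicOpen_le s)).op).hom = algebraMap _ _ := rfl
  have hρf : (Y.presheaf.map (homOfLE (Y.basicOpen_le s)).op).hom f ∈ Γ(Y, Y.basicOpen s)⁰ := by
    rw [hρ]
    exact IsLocalization.map_nonZeroDivisors_le (.powers s) _ (Submonoid.mem_map_of_mem _ hf)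
  have hsu : IsUnit ((Y.presheaf.map (homOfLE (Y.basicOpen_le s)).op).hom s) := by
    rw [hρ]
    exact IsLocalization.Away.algebraMap_isUnit s
  obtain ⟨hxn, hgen⟩ := map_eq_span_of_factor (A.ideal V) (B.ideal V) f hABf
    (Y.presheaf.map (homOfLE (Y.basicOpen_le s)).op).hom s x y' hx hy' hxy hsu hρf
  refine ⟨⟨Y.basicOpen s, V.2.basicOpen s⟩, hys, _, hxn, ?_⟩
  rw [← hgen]
  exact (A.map_ideal_basicOpen V s).symm

end Factor

section Pull

open Scheme.IdealSheafData Groth.Agent.Lib.T2H6.BlowUpAffine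
open Groth.Agent.Lib.T2H6.BlowUpCoprime Groth.Agent.Lib.T2H6.BlowUpGlue

/-- an ideal sheaf on `Spec A` is the one of its ideal of global sections. -/
theorem eq_idl (A : Type u) [CommRing A] (𝓓 : (Spec (CommRingCat.of A)).IdealSheafData) :
    𝓓 = idl ((𝓓.ideal ⟨⊤, isAffineOpen_top _⟩).map (Scheme.ΓSpecIso (CommRingCat.of A)).hom.hom) := by
  apply Scheme.IdealSheafData.ext_of_isAffine
  rw [idl_ideal_top, Ideal.map_map]
  have h1 : (Scheme.ΓSpecIso (CommRingCat.of A)).inv.hom.comp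
      (Scheme.ΓSpecIso (CommRingCat.of A)).hom.hom = RingHom.id _ := by
    rw [← CommRingCat.hom_comp, Iso.hom_inv_id]; rfl
  rw [h1, Ideal.map_id]

theorem isEffCartierIdeal_comap_of_isBlowUp_affine (A : Type u) [CommRing A] (I : Ideal A)
    {X' : Scheme.{u}} (b : X' ⟶ Spec (CommRingCat.of A)) (hb : BlowUp.IsBlowUp b (idl I))
    (𝓓 : (Spec (CommRingCat.of A)).IdealSheafData) (t : Γ(Spec (CommRingCat.of A), ⊤))
    (ht : t ∈ Γ(Spec (CommRingCat.of A), ⊤)⁰)
    (h𝓓 : 𝓓.ideal ⟨⊤, isAffineOpen_top _⟩ = Ideal.span {t}) :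
    BlowUp.IsEffCartierIdeal (𝓓.comap b) := by
  let e : Γ(Spec (CommRingCat.of A), ⊤) ≃+* A :=
    (Scheme.ΓSpecIso (CommRingCat.of A)).commRingCatIsoToRingEquiv
  have hf : e t ∈ A⁰ := Groth.Agent.Lib.T2H6.ModulusVal.ringEquiv_mem_nonZeroDivisors e ht
  have h𝓓' : 𝓓 = idl (Ideal.span {e t}) := by
    rw [eq_idl A 𝓓, h𝓓, Ideal.map_span, Set.image_singleton]
    rfl
  intro x'
  obtain ⟨a, ha, V, ε, hxV, hε⟩ := Groth.Agent.Lib.T2H6.BlowUpCharts.main A I b hb x'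
  have hnzd : algebraMap A ↥(BlowUp.affineAlgebra A I a) (e t) ∈
      (↥(BlowUp.affineAlgebra A I a))⁰ := by
    have h1 : algebraMap A (Localization.Away a) (e t) ∈ (Localization.Away a)⁰ :=
      IsLocalization.map_nonZeroDivisors_le (.powers a) _ (Submonoid.mem_map_of_mem _ hf)
    rw [mem_nonZeroDivisors_iff_right]
    intro w hw
    apply Subtype.ext
    apply (mem_nonZeroDivisors_iff_right.1 h1)
    exact congrArg Subtype.val hw
  have hgen0 : (Ideal.span {e t}).map (algebraMap A ↥(BlowUp.affineAlgebra A I a)) =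
      Ideal.span {algebraMap A ↥(BlowUp.affineAlgebra A I a) (e t)} := by
    rw [Ideal.map_span, Set.image_singleton]
  obtain ⟨t', ht', hgen⟩ := exists_gen_top_SpecMap (Ideal.span {e t})
    (algebraMap A ↥(BlowUp.affineAlgebra A I a)) _ hnzd hgen0
  have hE0 : BlowUp.IsEffCartierIdeal ((idl (Ideal.span {e t})).comap
      (Spec.map (CommRingCat.ofHom (algebraMap A ↥(BlowUp.affineAlgebra A I a))))) :=
    fun _ => ⟨⟨⊤, isAffineOpen_top _⟩, trivial, t', ht', hgen⟩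
  have hE1 := isEffCartierIdeal_comap_of_isOpenImmersion ε.hom _ hE0
  rw [← comap_comp, hε, comap_comp, ← h𝓓'] at hE1
  exact Groth.Agent.Lib.T2H6.ModulusCoprod.exists_gen_of_comap_isOpenImmersion V.ι (𝓓.comap b)
    ⟨x', hxV⟩ (hE1 _)

/-- the inverse image of an effective Cartier divisor under a blowing up (in any centre) is
effective Cartier. -/
theorem isEffCartierIdeal_comap_of_isBlowUp {X X' : Scheme.{u}} (b : X' ⟶ X)
    (𝓘 : X.IdealSheafData) (hb : BlowUp.IsBlowUp b 𝓘) (𝓓 : X.IdealSheafData)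
    (h𝓓 : BlowUp.IsEffCartierIdeal 𝓓) : BlowUp.IsEffCartierIdeal (𝓓.comap b) := by
  intro x'
  obtain ⟨W, hxW, f, hf, h𝓓f⟩ := h𝓓 (b x')
  let j : Spec Γ(X, W.1) ⟶ X := W.2.fromSpec
  have hpb : IsPullback (pullback.snd b j) (pullback.fst b j) j b :=
    (IsPullback.of_hasPullback b j).flip
  have hb'' := isBlowUp_of_isPullback_of_isOpenImmersion b 𝓘 hb j _ _ hpb
  rw [eq_idl Γ(X, W.1) (𝓘.comap j)] at hb''
  have e : (⊤ : (Spec Γ(X, W.1)).Opens) ≤ j ⁻¹ᵁ W.1 := by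
    rw [W.2.fromSpec_preimage_self]
  have h2 : j.appLE W.1 ⊤ e = (Scheme.ΓSpecIso Γ(X, W.1)).inv := by
    rw [Scheme.Hom.appLE, W.2.fromSpec_app_self, Category.assoc, ← Functor.map_comp]
    convert Category.comp_id _
    exact CategoryTheory.Functor.map_id _ _
  have htop : (𝓓.comap j).ideal ⟨⊤, isAffineOpen_top _⟩ =
      Ideal.span {(Scheme.ΓSpecIso Γ(X, W.1)).inv.hom f} := by
    rw [Groth.Agent.Lib.Helper20.EffCartier.ideal_comap_eq_map j 𝓓 (isAffineOpen_top _) W.2 e, h2]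
    change Ideal.map _ (𝓓.ideal W) = _
    rw [h𝓓f, Ideal.map_span, Set.image_singleton]
  have ht : (Scheme.ΓSpecIso Γ(X, W.1)).inv.hom f ∈ Γ(Spec Γ(X, W.1), ⊤)⁰ :=
    Groth.Agent.Lib.T2H6.ModulusVal.ringEquiv_mem_nonZeroDivisors
      (Scheme.ΓSpecIso Γ(X, W.1)).symm.commRingCatIsoToRingEquiv hf
  have hE := isEffCartierIdeal_comap_of_isBlowUp_affine Γ(X, W.1) _ (pullback.snd b j) hb''
    (𝓓.comap j) _ ht htop
  rw [← comap_comp, ← pullback.condition, comap_comp] at hE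
  have hxr : b x' ∈ Set.range j := by
    rw [W.2.range_fromSpec]; exact hxW
  obtain ⟨w, hw⟩ := hxr
  obtain ⟨p, hp1, -⟩ := Scheme.Pullback.exists_preimage_pullback x' w hw.symm
  have := Groth.Agent.Lib.T2H6.ModulusCoprod.exists_gen_of_comap_isOpenImmersion
    (pullback.fst b j) (𝓓.comap b) p (hE p)
  rw [hp1] at this
  exact this

end Pull

section Comp

open Scheme.IdealSheafData Groth.Agent.Lib.Helper20.BlowUpBasic

/-- `Bl_{b⁻¹𝓛}(Bl_𝓘 X) = Bl_{𝓘𝓛} X`. -/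
theorem isBlowUp_comp_of_mul {X X₁ X₂ : Scheme.{u}} (b : X₁ ⟶ X) (𝓘 𝓛 : X.IdealSheafData)
    (hb : BlowUp.IsBlowUp b 𝓘) (b' : X₂ ⟶ X₁) (hb' : BlowUp.IsBlowUp b' (𝓛.comap b)) :
    BlowUp.IsBlowUp (b' ≫ b) (𝓘 * 𝓛) := by
  refine ⟨?_, fun Y g hg => ?_⟩
  · rw [comap_mul, comap_comp, comap_comp]
    exact isEffCartierIdeal_mul
      (isEffCartierIdeal_comap_of_isBlowUp b' _ hb' _ hb.1) hb'.1
  · rw [comap_mul] at hg
    have hg₁ : BlowUp.IsEffCartierIdeal (𝓘.comap g) := isEffCartierIdeal_of_mul _ _ hg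
    have hg₂ : BlowUp.IsEffCartierIdeal (𝓛.comap g) := by
      rw [mul_comm] at hg
      exact isEffCartierIdeal_of_mul _ _ hg
    obtain ⟨h₁, hh₁, hu₁⟩ := hb.2 Y g hg₁
    have hh₁' : h₁ ≫ b = g := hh₁
    have hg₂' : BlowUp.IsEffCartierIdeal ((𝓛.comap b).comap h₁) := by
      rw [← comap_comp, hh₁']; exact hg₂
    obtain ⟨h₂, hh₂, hu₂⟩ := hb'.2 Y h₁ hg₂'
    have hh₂' : h₂ ≫ b' = h₁ := hh₂
    refine ⟨h₂, ?_, ?_⟩
    · change h₂ ≫ b' ≫ b = g
      rw [← Category.assoc, hh₂', hh₁']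
    · intro k hk
      have hk' : k ≫ b' ≫ b = g := hk
      apply hu₂
      apply hu₁
      change (k ≫ b') ≫ b = g
      rw [Category.assoc]; exact hk'

/-- precomposing a blowing up with an isomorphism. -/
theorem isBlowUp_iso_comp {X P P' : Scheme.{u}} (ι : P' ⟶ P) [IsIso ι] (b : P ⟶ X)
    (𝓘 : X.IdealSheafData) (hb : BlowUp.IsBlowUp b 𝓘) : BlowUp.IsBlowUp (ι ≫ b) 𝓘 := by
  refine ⟨?_, fun Y g hg => ?_⟩
  · rw [comap_comp]
    exact Groth.Agent.Lib.T2H6.BlowUpCoprime.isEffCartierIdeal_comap_of_isOpenImmersion ι _ hb.1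
  · obtain ⟨h, hh, hu⟩ := hb.2 Y g hg
    have hh' : h ≫ b = g := hh
    refine ⟨h ≫ inv ι, ?_, ?_⟩
    · change (h ≫ inv ι) ≫ ι ≫ b = g
      rw [Category.assoc, IsIso.inv_hom_id_assoc, hh']
    · intro k hk
      have hk' : k ≫ ι ≫ b = g := hk
      have : k ≫ ι = h := hu _ (by change (k ≫ ι) ≫ b = g; rw [Category.assoc]; exact hk')
      rw [← this, Category.assoc, IsIso.hom_inv_id, Category.comp_id]

end Comp

end Groth.Agent.Lib.T2H6.BlowUpMul
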