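import Groth.Prelude.Def_AlgSpModX
import Groth.Agent.Lib.T2H1EffCartEquiv
import Groth.Agent.Lib.Helper20BlowUp
import Groth.Agent.Lib.T2H6BlowUpMul

/-!
# Sums of effective Cartier divisors on algebraic spaces
-/

set_option autoImplicit false
universe u
open CategoryTheory CategoryTheory.Limits AlgebraicGeometry
open AlgSp
open Groth.Agent.Lib.T2H1.EffCart Groth.Agent.Lib.T2H1.EffCartEquiv

namespace Groth.Agent.Lib.T2H1.EffCartSum

variable {S : Scheme.{u}}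

/-- the kernel of any represented pullback of a closed subspace to a chart is the ideal sheaf
cutting out its inverse image. -/
theorem ker_eq_of_isPullback {X D : Sp S} {i : D ⟶ X} {U B : Over S} {ψ : (yon S).obj U ⟶ X}
    {π : B ⟶ U} {b : (yon S).obj B ⟶ D} {J : U.left.IdealSheafData}
    {l : (yon S).obj (sub U J) ⟶ D}
    (sqB : IsPullback b ((yon S).map π) i ψ)
    (sq : IsPullback l ((yon S).map (subι U J)) i ψ) : π.left.ker = J := by
  let e := sqB.isoIsPullback _ _ sq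
  have he : e.hom ≫ (yon S).map (subι U J) = (yon S).map π := sqB.isoIsPullback_hom_snd _ _ sq
  obtain ⟨e₀, he₀⟩ := (yon S).map_surjective e.hom
  haveI : IsIso ((yon S).map e₀) := by rw [he₀]; infer_instance
  haveI : IsIso e₀ := isIso_of_fully_faithful (yon S) e₀
  have h1 : e₀ ≫ subι U J = π := by
    apply (yon S).map_injective
    rw [Functor.map_comp, he₀, he]
  have h2 : e₀.left ≫ J.subschemeι = π.left := congrArg CommaMorphism.left h1
  haveI : IsIso e₀.left := inferInstanceAs (IsIso ((Over.forget S).map e₀))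
  rw [← h2, Scheme.Hom.ker_comp_of_isIso, J.ker_subschemeι]

/-- the value of the ideal family of a closed subspace on an affine object of the site is the
ideal of global sections of the ideal sheaf cutting out its inverse image. -/
theorem idealOfRep_ideal_eq {X D : Sp S} {i : D ⟶ X} (hi : RepWith @IsClosedImmersion i)
    (E : EtOver X) (hE : IsAffine E.obj.left.left) (J : E.obj.left.left.IdealSheafData)
    (l : (yon S).obj (sub E.obj.left J) ⟶ D)
    (sq : IsPullback l ((yon S).map (subι E.obj.left J)) i E.obj.hom) :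
    (idealOfRep hi.1).ideal E hE = J.ideal ⟨⊤, isAffineOpen_top _⟩ := by
  have sqB := EtOver.isPullback_bcObj hi.1 E
  haveI : IsClosedImmersion (EtOver.bcπ hi.1 E).left := hi.2 E.obj.hom _ _ sqB
  have h1 : (EtOver.bcπ hi.1 E).left.ker = J := ker_eq_of_isPullback sqB sq
  rw [← h1, Scheme.Hom.ker_apply]
  rfl

end Groth.Agent.Lib.T2H1.EffCartSum

namespace Groth.Agent.Lib.T2H1.EffCartSum

variable {S : Scheme.{u}}

/-- the value of the ideal family of a closed subspace on an affine open of a chart. -/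
theorem idealOfRep_ideal_affineOpen {X D : Sp S} {i : D ⟶ X} (hi : RepWith @IsClosedImmersion i)
    {V : Over S} (φ : (yon S).obj V ⟶ X) (hφe : RepWith @Etale φ)
    {J : V.left.IdealSheafData} {l : (yon S).obj (sub V J) ⟶ D}
    (sq : IsPullback l ((yon S).map (subι V J)) i φ) (U₀ : V.left.affineOpens) :
    (idealOfRep hi.1).ideal
        (EtOver.mk ((yon S).map (Over.homMk U₀.1.ι rfl : Over.mk (U₀.1.ι ≫ V.hom) ⟶ V) ≫ φ)
          ((RepWith @Etale).comp_mem _ _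
            ((repWith_yon_map_iff _ _).2 (inferInstanceAs (Etale U₀.1.ι))) hφe)) U₀.2 =
      (J.ideal U₀).map (U₀.1.ι.appLE U₀.1 ⊤ U₀.1.ι_preimage_self.ge).hom := by
  obtain ⟨l', sq'⟩ := chart_refine (Over.homMk U₀.1.ι rfl : Over.mk (U₀.1.ι ≫ V.hom) ⟶ V) sq
  have h1 := idealOfRep_ideal_eq hi
    (EtOver.mk ((yon S).map (Over.homMk U₀.1.ι rfl : Over.mk (U₀.1.ι ≫ V.hom) ⟶ V) ≫ φ)
      ((RepWith @Etale).comp_mem _ _
        ((repWith_yon_map_iff _ _).2 (inferInstanceAs (Etale U₀.1.ι))) hφe)) U₀.2 _ l' sq'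
  rw [h1]
  exact Groth.Agent.Lib.Helper20.EffCartier.ideal_comap_eq_map U₀.1.ι J
    (isAffineOpen_top U₀.1.toScheme) U₀.2 U₀.1.ι_preimage_self.ge

/-- on an étale chart, the ideal sheaf of the closed subspace cut out by a product of ideal families
is the product of the ideal sheaves of the factors. -/
theorem ideal_mul_of_cutOut {X Z Y D : Sp S} {iZ : Z ⟶ X} {iY : Y ⟶ X} {iD : D ⟶ X}
    {I J : IdealEt X} (hZ : IsCutOutBy I iZ) (hY : IsCutOutBy J iY) (hD : IsCutOutBy (I * J) iD)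
    {V : Over S} (φ : (yon S).obj V ⟶ X) (hφe : RepWith @Etale φ)
    {JZ JY JD : V.left.IdealSheafData}
    {lZ : (yon S).obj (sub V JZ) ⟶ Z} {lY : (yon S).obj (sub V JY) ⟶ Y}
    {lD : (yon S).obj (sub V JD) ⟶ D}
    (sqZ : IsPullback lZ ((yon S).map (subι V JZ)) iZ φ)
    (sqY : IsPullback lY ((yon S).map (subι V JY)) iY φ)
    (sqD : IsPullback lD ((yon S).map (subι V JD)) iD φ) : JD = JZ * JY := by
  obtain ⟨hiZ, rfl⟩ := hZ
  obtain ⟨hiY, rfl⟩ := hY
  obtain ⟨hiD, hD⟩ := hD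
  refine Scheme.IdealSheafData.ext (funext fun U₀ => ?_)
  have hZ' := idealOfRep_ideal_affineOpen hiZ φ hφe sqZ U₀
  have hY' := idealOfRep_ideal_affineOpen hiY φ hφe sqY U₀
  have hD' := idealOfRep_ideal_affineOpen hiD φ hφe sqD U₀
  rw [hD, IdealEt.mul_ideal, hZ', hY', ← Ideal.map_mul] at hD'
  have hbij : Function.Bijective (U₀.1.ι.appLE U₀.1 ⊤ U₀.1.ι_preimage_self.ge).hom :=
    ConcreteCategory.bijective_of_isIso (U₀.1.ι.appLE U₀.1 ⊤ U₀.1.ι_preimage_self.ge)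
  have h2 := congrArg (Ideal.comap (U₀.1.ι.appLE U₀.1 ⊤ U₀.1.ι_preimage_self.ge).hom) hD'
  rw [Ideal.comap_map_of_bijective _ hbij, Ideal.comap_map_of_bijective _ hbij] at h2
  rw [Scheme.IdealSheafData.ideal_mul]
  exact h2.symm

end Groth.Agent.Lib.T2H1.EffCartSum

namespace Groth.Agent.Lib.T2H1.EffCartSum

variable {S : Scheme.{u}}

/-- the sum of two effective Cartier divisors is an effective Cartier divisor. -/
theorem effCart_sum {X D₁ D₂ D : Sp S} (hX : IsAlgSpace X) {i₁ : D₁ ⟶ X} {i₂ : D₂ ⟶ X}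
    {i : D ⟶ X} {I₁ I₂ : IdealEt X} (h₁ : IsCutOutBy I₁ i₁) (h₂ : IsCutOutBy I₂ i₂)
    (hD : IsCutOutBy (I₁ * I₂) i) (e₁ : IsEffCartierSub i₁) (e₂ : IsEffCartierSub i₂) :
    IsEffCartierSub i := by
  obtain ⟨V, φ, hφe, hφs⟩ := hX.atlas
  obtain ⟨J₁, l₁, sq₁⟩ := exists_ideal_chart e₁.1 φ
  obtain ⟨J₂, l₂, sq₂⟩ := exists_ideal_chart e₂.1 φ
  obtain ⟨J, l, sq⟩ := exists_ideal_chart hD.1 φ
  have hJ : J = J₁ * J₂ := ideal_mul_of_cutOut h₁ h₂ hD φ hφe sq₁ sq₂ sq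
  have hJ₁ := effCart_chart e₁ φ hφe J₁ l₁ sq₁
  have hJ₂ := effCart_chart e₂ φ hφe J₂ l₂ sq₂
  refine ⟨hD.1, V, φ, J, l, hφe, hφs, sq, ?_⟩
  rw [hJ]
  exact Groth.Agent.Lib.Helper20.BlowUpBasic.isEffCartierIdeal_mul hJ₁ hJ₂

/-- if the closed subspace cut out by a product is an effective Cartier divisor, so are the
factors. -/
theorem effCart_of_mul {X Z Y D : Sp S} (hX : IsAlgSpace X) {iZ : Z ⟶ X} {iY : Y ⟶ X}
    {iD : D ⟶ X} {I J : IdealEt X} (hZ : IsCutOutBy I iZ) (hY : IsCutOutBy J iY)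
    (hD : IsCutOutBy (I * J) iD) (hDc : IsEffCartierSub iD) :
    IsEffCartierSub iZ ∧ IsEffCartierSub iY := by
  obtain ⟨V, φ, hφe, hφs⟩ := hX.atlas
  obtain ⟨JZ, lZ, sqZ⟩ := exists_ideal_chart hZ.1 φ
  obtain ⟨JY, lY, sqY⟩ := exists_ideal_chart hY.1 φ
  obtain ⟨JD, lD, sqD⟩ := exists_ideal_chart hD.1 φ
  have hJ : JD = JZ * JY := ideal_mul_of_cutOut hZ hY hD φ hφe sqZ sqY sqD
  have hJD := effCart_chart hDc φ hφe JD lD sqD
  rw [hJ] at hJD
  refine ⟨⟨hZ.1, V, φ, JZ, lZ, hφe, hφs, sqZ, ?_⟩, ⟨hY.1, V, φ, JY, lY, hφe, hφs, sqY, ?_⟩⟩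
  · exact Groth.Agent.Lib.T2H6.BlowUpMul.isEffCartierIdeal_of_mul _ _ hJD
  · rw [mul_comm] at hJD
    exact Groth.Agent.Lib.T2H6.BlowUpMul.isEffCartierIdeal_of_mul _ _ hJD

end Groth.Agent.Lib.T2H1.EffCartSum
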