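import Mathlib
import Groth.Prelude.Def_AlgSpInf
import Groth.Agent.Lib.T2H1Descend

/-!
# Gluing morphisms of fppf sheaves along covering families of sheaves (helper1)
-/

set_option autoImplicit false
universe w u
open CategoryTheory CategoryTheory.Limits AlgebraicGeometry Opposite
open AlgSp

namespace Groth.Agent.Lib.T2H1.GlueFam

open Groth.Agent.Lib.T2H1.Descend

variable {S : Scheme.{u}}

section Family

variable {G X : AlgSp.Sp S} {K : Type w} (Gk : K → AlgSp.Sp S) (b : ∀ k, Gk k ⟶ G)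

/-- the sieve of maps along which a point of `G` lifts to one of the members of the family. -/
def ptSieve {Z : Over S} (t : (AlgSp.yon S).obj Z ⟶ G) : Sieve Z where
  arrows Z' g := ∃ (k : K) (v : (AlgSp.yon S).obj Z' ⟶ Gk k), (AlgSp.yon S).map g ≫ t = v ≫ b k
  downward_closed := by
    rintro Z1 Z2 g ⟨k, v, h⟩ g'
    exact ⟨k, (AlgSp.yon S).map g' ≫ v, by
      rw [Functor.map_comp, Category.assoc, h, Category.assoc]⟩

/-- the family of sheaves is a covering of `G`. -/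
def IsCovSp : Prop :=
  ∀ (Z : Over S) (t : (AlgSp.yon S).obj Z ⟶ G), ptSieve Gk b t ∈ AlgSp.J S Z

variable {Gk b}

lemma isCovFam_of_isCovSp (hc : IsCovSp Gk b) :
    IsCovFam (G := G) (K := Σ k : K, Σ Z : Over S, ((AlgSp.yon S).obj Z ⟶ Gk k))
      (fun i => i.2.1) (fun i => i.2.2 ≫ b i.1) := by
  intro Z t
  refine (AlgSp.J S).superset_covering ?_ (hc Z t)
  rintro Z' g ⟨k, v, hv⟩
  exact ⟨⟨k, Z', v⟩, 𝟙 _, by rw [CategoryTheory.Functor.map_id, Category.id_comp]; exact hv⟩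

lemma hom_ext_of_isCovSp (hc : IsCovSp Gk b) (l l' : G ⟶ X)
    (h : ∀ k, b k ≫ l = b k ≫ l') : l = l' := by
  refine hom_ext_of_isCovFam (isCovFam_of_isCovSp hc) l l' ?_
  rintro ⟨k, Z, v⟩
  change (v ≫ b k) ≫ l = (v ≫ b k) ≫ l'
  rw [Category.assoc, Category.assoc, h k]

/-- **descent of morphisms along a covering family of sheaves.** -/
theorem exists_desc_of_isCovSp (hc : IsCovSp Gk b) (l : ∀ k, Gk k ⟶ X)
    (hl : ∀ (Z : Over S) (k m : K) (v1 : (AlgSp.yon S).obj Z ⟶ Gk k)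
      (v2 : (AlgSp.yon S).obj Z ⟶ Gk m), v1 ≫ b k = v2 ≫ b m → v1 ≫ l k = v2 ≫ l m) :
    ∃ L : G ⟶ X, ∀ k, b k ≫ L = l k := by
  obtain ⟨L, hL⟩ := exists_desc_of_isCovFam (X := X) (isCovFam_of_isCovSp hc)
    (fun i => i.2.2 ≫ l i.1) (by
      rintro Z ⟨k, Z1, w1⟩ ⟨m, Z2, w2⟩ v1 v2 h
      change (AlgSp.yon S).map v1 ≫ w1 ≫ l k = (AlgSp.yon S).map v2 ≫ w2 ≫ l m
      rw [← Category.assoc, ← Category.assoc]
      apply hl
      rw [Category.assoc, Category.assoc]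
      exact h)
  refine ⟨L, fun k => ?_⟩
  refine hom_ext_of_points _ _ (fun Z t => ?_)
  have := hL ⟨k, Z, t⟩
  rw [← Category.assoc]
  exact this

end Family

end Groth.Agent.Lib.T2H1.GlueFam
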