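import Mathlib
import Groth.Prelude.Def_AlgSpSub
import Groth.Prelude.Def_AlgSpDec
import Groth.Agent.Lib.T2H1GlueFam
import Groth.Agent.Lib.T2H1MonoGlue
import Groth.Agent.Lib.Helper10MonoField
import Groth.Agent.Lib.Helper12SrcLocal
import Groth.Agent.Lib.Helper12LargestOpen
import Groth.Agent.S10175
import Groth.Agent.S10176
import Groth.Agent.S10177
import Groth.Agent.S10262

/-!
# Elementary distinguished squares are pushouts (helper1)
-/

set_option autoImplicit false
universe u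
open CategoryTheory CategoryTheory.Limits AlgebraicGeometry Opposite
open AlgSp

namespace Groth.Agent.Lib.T2H1.ElemDist

open Groth.Agent.Lib.T2H1.GlueFam Groth.Agent.Lib.T2H1.Descend

variable {S : Scheme.{u}}

/-- points of a fibre product `h_W = A ×_F h_T` with `A` any sheaf. -/
lemma exists_point_of_isPullback_sp {F A : AlgSp.Sp S} {T W : Over S}
    {a : A ⟶ F} {g : (AlgSp.yon S).obj T ⟶ F} {c : (AlgSp.yon S).obj W ⟶ A} {w : W ⟶ T}
    (sq : IsPullback c ((AlgSp.yon S).map w) a g) (α : AlgSp.Points A) (t : ↥T.left)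
    (e : AlgSp.Points.map a α = AlgSp.Points.ofPt g t) :
    ∃ y : ↥W.left, w.left y = t ∧ AlgSp.Points.ofPt c y = α := by
  rw [AlgSp.Points.ofPt_eq_map_ofScheme g] at e
  obtain ⟨p, hp1, hp2⟩ := Groth.Agent.S10175.exists_point_of_isPullback sq _ _ e
  obtain ⟨y, rfl⟩ := (AlgSp.Points.schemeHomeo W).surjective p
  refine ⟨y, ?_, ?_⟩
  · apply (AlgSp.Points.schemeHomeo T).injective
    rw [← AlgSp.Points.map_yon_map_apply]
    exact hp2
  · rw [AlgSp.Points.ofPt_eq_map_ofScheme]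
    exact hp1

/-- a field-valued point whose class lies in the image of a closed immersion factors through
it. -/
theorem exists_factor_of_mem_range {T W : AlgSp.Sp S} (i : T ⟶ W)
    (hi : AlgSp.RepWith @IsClosedImmersion i) (p : AlgSp.FieldPt W)
    (hp : AlgSp.Points.mk p ∈ Set.range (AlgSp.Points.map i)) :
    ∃ d : (AlgSp.yon S).obj p.pt ⟶ T, d ≫ i = p.toHom := by
  obtain ⟨τ, hτ⟩ := hp
  obtain ⟨C, snd, fst, sq⟩ := hi.1 p.toHom
  haveI : IsClosedImmersion snd.left := hi.2 _ _ snd sq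
  obtain ⟨y, -, -⟩ := exists_point_of_isPullback_sp sq τ (IsLocalRing.closedPoint p.K) (by
    rw [hτ, AlgSp.Points.ofPt_toHom])
  haveI : Nonempty C.left := ⟨y⟩
  haveI : Mono snd.left := inferInstance
  haveI : IsIso snd.left :=
    Groth.Agent.Lib.Helper10.MonoField.isIso_of_mono_of_nonempty p.K snd.left
  haveI : IsIso snd := by
    haveI : IsIso ((Over.forget S).map snd) := inferInstanceAs (IsIso snd.left)
    exact isIso_of_reflects_iso snd (Over.forget S)
  refine ⟨(AlgSp.yon S).map (inv snd) ≫ fst, ?_⟩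
  rw [Category.assoc, sq.w, ← Category.assoc, ← Functor.map_comp, IsIso.inv_hom_id,
    CategoryTheory.Functor.map_id, Category.id_comp]

/-- the two members of an elementary distinguished square are jointly surjective. -/
theorem mem_range_or_of_isElemDistSq {U V W : AlgSp.Sp S} (j : U ⟶ W) (f : V ⟶ W)
    (hsq : AlgSp.IsElemDistSq j f) (x : AlgSp.Points W) :
    x ∈ Set.range (AlgSp.Points.map j) ∨ x ∈ Set.range (AlgSp.Points.map f) := by
  by_cases hx : x ∈ Set.range (AlgSp.Points.map j)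
  · exact Or.inl hx
  · right
    obtain ⟨-, -, T, P, i, p₁, p₂, hi, sq, hiso⟩ := hsq
    haveI := hiso
    have hx' : x ∈ Set.range (AlgSp.Points.map i) := by rw [hi.2.1]; exact hx
    obtain ⟨τ, rfl⟩ := hx'
    refine ⟨AlgSp.Points.map p₂ (AlgSp.Points.map (inv p₁) τ), ?_⟩
    rw [← AlgSp.Points.map_comp, ← AlgSp.Points.map_comp, ← sq.w, ← Category.assoc,
      IsIso.inv_hom_id, Category.id_comp]

section Pair

variable {G X A B : AlgSp.Sp S}

/-- a family of two sheaves. -/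
def pairObj (A B : AlgSp.Sp S) : Bool → AlgSp.Sp S
  | true => A
  | false => B

/-- a family of two morphisms. -/
def pairMap (a : A ⟶ G) (b : B ⟶ G) : ∀ k, pairObj A B k ⟶ G
  | true => a
  | false => b

/-- a pair of morphisms is covering when every point of a test scheme has a flat neighbourhood,
locally of finite presentation, over which the test morphism lifts to one of the two. -/
theorem isCovSp_pair (a : A ⟶ G) (b : B ⟶ G)
    (H : ∀ (Z : Over S) (t : (AlgSp.yon S).obj Z ⟶ G) (z : ↥Z.left),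
      ∃ (Z' : Over S) (g : Z' ⟶ Z), Flat g.left ∧ LocallyOfFinitePresentation g.left ∧
        z ∈ Set.range g.left ∧
        ((∃ v : (AlgSp.yon S).obj Z' ⟶ A, (AlgSp.yon S).map g ≫ t = v ≫ a) ∨
          (∃ v : (AlgSp.yon S).obj Z' ⟶ B, (AlgSp.yon S).map g ≫ t = v ≫ b))) :
    IsCovSp (pairObj A B) (pairMap a b) := by
  intro Z t
  choose Z' g h1 h2 h3 h4 using H Z t
  have hmem := Groth.Agent.Lib.T2H1.MonoGlue.ofArrows_mem (S := S) (W := Z) Z' g h1 h2
    (fun z => ⟨z, h3 z⟩)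
  refine (AlgSp.J S).superset_covering ?_ hmem
  rw [Sieve.ofArrows, Sieve.generate_le_iff]
  rintro _ _ ⟨z⟩
  rcases h4 z with ⟨v, hv⟩ | ⟨v, hv⟩
  · exact ⟨true, v, hv⟩
  · exact ⟨false, v, hv⟩

/-- gluing a pair of morphisms along a covering pair. -/
theorem exists_desc_pair (a : A ⟶ G) (b : B ⟶ G) (hc : IsCovSp (pairObj A B) (pairMap a b))
    (la : A ⟶ X) (lb : B ⟶ X)
    (haa : ∀ (Z : Over S) (v1 v2 : (AlgSp.yon S).obj Z ⟶ A), v1 ≫ a = v2 ≫ a → v1 ≫ la = v2 ≫ la)
    (hab : ∀ (Z : Over S) (v1 : (AlgSp.yon S).obj Z ⟶ A) (v2 : (AlgSp.yon S).obj Z ⟶ B),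
      v1 ≫ a = v2 ≫ b → v1 ≫ la = v2 ≫ lb)
    (hbb : ∀ (Z : Over S) (v1 v2 : (AlgSp.yon S).obj Z ⟶ B), v1 ≫ b = v2 ≫ b → v1 ≫ lb = v2 ≫ lb) :
    ∃ L : G ⟶ X, a ≫ L = la ∧ b ≫ L = lb := by
  obtain ⟨L, hL⟩ := exists_desc_of_isCovSp (X := X) hc (pairMap la lb) (by
    rintro Z (_ | _) (_ | _) v1 v2 h
    · exact hbb Z v1 v2 h
    · exact (hab Z v2 v1 h.symm).symm
    · exact hab Z v1 v2 h
    · exact haa Z v1 v2 h)
  exact ⟨L, hL true, hL false⟩

theorem hom_ext_pair (a : A ⟶ G) (b : B ⟶ G) (hc : IsCovSp (pairObj A B) (pairMap a b))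
    (l l' : G ⟶ X) (h1 : a ≫ l = a ≫ l') (h2 : b ≫ l = b ≫ l') : l = l' := by
  refine hom_ext_of_isCovSp hc l l' ?_
  rintro (_ | _)
  · exact h2
  · exact h1

end Pair

end Groth.Agent.Lib.T2H1.ElemDist

namespace Groth.Agent.Lib.T2H1.ElemDist

open Groth.Agent.Lib.T2H1.GlueFam Groth.Agent.Lib.T2H1.Descend

variable {S : Scheme.{u}}

/-- two test morphisms with the same composite at the residue field of a point define the same
point. -/
lemma ofPt_eq_of_comp_eq {F : AlgSp.Sp S} {T : Over S} (g g' : (AlgSp.yon S).obj T ⟶ F)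
    (t : ↥T.left)
    (h : (AlgSp.yon S).map (Over.homMk (T.left.fromSpecResidueField t) rfl :
        Over.mk (T.left.fromSpecResidueField t ≫ T.hom) ⟶ T) ≫ g =
      (AlgSp.yon S).map (Over.homMk (T.left.fromSpecResidueField t) rfl :
        Over.mk (T.left.fromSpecResidueField t ≫ T.hom) ⟶ T) ≫ g') :
    AlgSp.Points.ofPt g t = AlgSp.Points.ofPt g' t := by
  have hh : (AlgSp.FieldPt.ofPt g t).toHom = (AlgSp.FieldPt.ofPt g' t).toHom :=
    ((AlgSp.FieldPt.toHom_ofPt g t).trans h).trans (AlgSp.FieldPt.toHom_ofPt g' t).symm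
  have hv : (AlgSp.FieldPt.ofPt g t).val = (AlgSp.FieldPt.ofPt g' t).val :=
    (AlgSp.FieldPt.uliftYonedaEquiv_toHom _).symm.trans
      ((congrArg (AlgSp.J S).uliftYonedaEquiv hh).trans (AlgSp.FieldPt.uliftYonedaEquiv_toHom _))
  unfold AlgSp.Points.ofPt
  congr 1
  unfold AlgSp.FieldPt.ofPt at hv ⊢
  congr 1

/-- the two members of an elementary distinguished square form a covering pair. -/
theorem isCovSp_of_isElemDistSq {U V W : AlgSp.Sp S} (hV : AlgSp.IsAlgSpace V) (j : U ⟶ W)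
    (f : V ⟶ W) (hsq : AlgSp.IsElemDistSq j f) : IsCovSp (pairObj U V) (pairMap j f) := by
  refine isCovSp_pair j f (fun Z t z => ?_)
  rcases mem_range_or_of_isElemDistSq j f hsq (AlgSp.Points.ofPt t z) with ⟨α, hα⟩ | ⟨β, hβ⟩
  · obtain ⟨Z1, e1, c, sq⟩ := hsq.1.1 t
    haveI : IsOpenImmersion e1.left := hsq.1.2 _ _ e1 sq
    obtain ⟨y, hy, -⟩ := exists_point_of_isPullback_sp sq α z hα
    exact ⟨Z1, e1, inferInstance, inferInstance, ⟨y, hy⟩, Or.inl ⟨c, sq.w.symm⟩⟩
  · obtain ⟨V0, p₀, hp₀e, hp₀s⟩ := hV.atlas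
    have het := hsq.2.1 p₀ hp₀e
    obtain ⟨Z2, e2, c, sq⟩ := het.1 t
    haveI : Etale e2.left := het.2 _ _ e2 sq
    obtain ⟨v0, rfl⟩ := Groth.Agent.S10177.surjective_ofPt p₀ hp₀s β
    obtain ⟨y, hy, -⟩ := exists_point_of_isPullback_sp sq (AlgSp.Points.ofScheme V0 v0) z (by
      rw [← AlgSp.Points.ofPt_eq_map_ofScheme, ← hβ, AlgSp.Points.map_ofPt])
    exact ⟨Z2, e2, inferInstance, inferInstance, ⟨y, hy⟩,
      Or.inr ⟨c ≫ p₀, by rw [Category.assoc, sq.w]⟩⟩

/-- maps out of an elementary distinguished square glue. -/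
theorem exists_desc_of_isElemDistSq {U V W P : AlgSp.Sp S} (hV : AlgSp.IsAlgSpace V)
    (hW : AlgSp.IsAlgSpace W) (j : U ⟶ W) (f : V ⟶ W) (hsq : AlgSp.IsElemDistSq j f)
    (p : P ⟶ U) (q : P ⟶ V) (hP : IsPullback p q j f) {X : AlgSp.Sp S} (a : U ⟶ X) (b : V ⟶ X)
    (hab : p ≫ a = q ≫ b) : ∃ L : W ⟶ X, j ≫ L = a ∧ f ≫ L = b := by
  have hj := hsq.1
  haveI : Mono j := Groth.Agent.Lib.Helper12.LargestOpen.mono_of_open j hj
  refine exists_desc_pair j f (isCovSp_of_isElemDistSq hV j f hsq) a b ?_ ?_ ?_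
  · intro Z v1 v2 h
    rw [(cancel_mono j).1 h]
  · intro Z v1 v2 h
    have h1 : hP.lift v1 v2 h ≫ p = v1 := hP.lift_fst _ _ _
    have h2 : hP.lift v1 v2 h ≫ q = v2 := hP.lift_snd _ _ _
    rw [← h1, Category.assoc, hab, ← Category.assoc, h2]
  · intro Z v1 v2 h
    -- the diagonal of `f` is an open immersion
    have hunr : AlgSp.LocP (@LocallyOfFiniteType ⊓ @FormallyUnramified) f := by
      intro A B α β g hα hβ hc
      haveI : Etale g.left :=
        Groth.Agent.Lib.Helper12.SrcLocal.locP_etale_of_isEtaleMor f hsq.2.1 α β g hα hβ hc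
      exact ⟨inferInstance, inferInstance⟩
    have hδ : AlgSp.RepWith @IsOpenImmersion (pullback.diagonal f) :=
      (Groth.Agent.S10262.result (X := ⟨V, hV⟩) (Y := ⟨W, hW⟩) (ObjectProperty.homMk f)).1 hunr
    obtain ⟨-, -, T, P', i, p₁, p₂, hi, sqT, hiso⟩ := hsq
    haveI := hiso
    have key : ∀ z : ↥Z.left, ∃ (Z' : Over S) (g : Z' ⟶ Z), Flat g.left ∧
        LocallyOfFinitePresentation g.left ∧ z ∈ Set.range g.left ∧
        (AlgSp.yon S).map g ≫ v1 ≫ b = (AlgSp.yon S).map g ≫ v2 ≫ b := by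
      intro z
      by_cases hx : AlgSp.Points.ofPt (v1 ≫ f) z ∈ Set.range (AlgSp.Points.map j)
      · obtain ⟨α, hα⟩ := hx
        obtain ⟨Z2, e2, c, sq⟩ := hj.1 (v1 ≫ f)
        haveI : IsOpenImmersion e2.left := hj.2 _ _ e2 sq
        obtain ⟨y, hy, -⟩ := exists_point_of_isPullback_sp sq α z hα
        refine ⟨Z2, e2, inferInstance, inferInstance, ⟨y, hy⟩, ?_⟩
        have w1 : c ≫ j = ((AlgSp.yon S).map e2 ≫ v1) ≫ f := by rw [Category.assoc]; exact sq.w
        have w2 : c ≫ j = ((AlgSp.yon S).map e2 ≫ v2) ≫ f := by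
          rw [Category.assoc, ← h]; exact sq.w
        have e1 : (AlgSp.yon S).map e2 ≫ v1 ≫ b = c ≫ a := by
          rw [← Category.assoc, ← hP.lift_snd _ _ w1, Category.assoc, ← hab, ← Category.assoc,
            hP.lift_fst]
        have e2' : (AlgSp.yon S).map e2 ≫ v2 ≫ b = c ≫ a := by
          rw [← Category.assoc, ← hP.lift_snd _ _ w2, Category.assoc, ← hab, ← Category.assoc,
            hP.lift_fst]
        rw [e1, e2']
      · have hx' : AlgSp.Points.ofPt (v1 ≫ f) z ∈ Set.range (AlgSp.Points.map i) := by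
          rw [hi.2.1]; exact hx
        let ιz : Over.mk (Z.left.fromSpecResidueField z ≫ Z.hom) ⟶ Z :=
          Over.homMk (Z.left.fromSpecResidueField z) rfl
        obtain ⟨d, hd⟩ := exists_factor_of_mem_range i hi.1 (AlgSp.FieldPt.ofPt (v1 ≫ f) z) hx'
        rw [AlgSp.FieldPt.toHom_ofPt] at hd
        have hd1 : d ≫ i = ((AlgSp.yon S).map ιz ≫ v1) ≫ f := by rw [Category.assoc]; exact hd
        have hd2 : d ≫ i = ((AlgSp.yon S).map ιz ≫ v2) ≫ f := by
          rw [Category.assoc, ← h]; exact hd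
        have hπ : sqT.lift d _ hd1 = sqT.lift d _ hd2 := by
          rw [← cancel_mono p₁, sqT.lift_fst, sqT.lift_fst]
        have hv12 : (AlgSp.yon S).map ιz ≫ v1 = (AlgSp.yon S).map ιz ≫ v2 := by
          rw [← sqT.lift_snd d _ hd1, hπ, sqT.lift_snd]
        -- the point lies in the diagonal
        let vv : (AlgSp.yon S).obj Z ⟶ pullback f f := pullback.lift v1 v2 h
        obtain ⟨Z1, e1, c, sq⟩ := hδ.1 vv
        haveI : IsOpenImmersion e1.left := hδ.2 _ _ e1 sq
        have hpt : AlgSp.Points.map (pullback.diagonal f) (AlgSp.Points.ofPt v1 z) =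
            AlgSp.Points.ofPt vv z := by
          rw [AlgSp.Points.map_ofPt]
          apply ofPt_eq_of_comp_eq
          apply pullback.hom_ext
          · rw [Category.assoc, Category.assoc, Category.assoc, pullback.diagonal_fst,
              Category.comp_id, pullback.lift_fst]
          · rw [Category.assoc, Category.assoc, Category.assoc, pullback.diagonal_snd,
              Category.comp_id, pullback.lift_snd]
            exact hv12
        obtain ⟨y, hy, -⟩ := exists_point_of_isPullback_sp sq _ z hpt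
        refine ⟨Z1, e1, inferInstance, inferInstance, ⟨y, hy⟩, ?_⟩
        have c1 : (AlgSp.yon S).map e1 ≫ v1 = c := by
          rw [← pullback.lift_fst v1 v2 h, ← Category.assoc, ← sq.w, Category.assoc,
            pullback.diagonal_fst, Category.comp_id]
        have c2 : (AlgSp.yon S).map e1 ≫ v2 = c := by
          rw [← pullback.lift_snd v1 v2 h, ← Category.assoc, ← sq.w, Category.assoc,
            pullback.diagonal_snd, Category.comp_id]
        rw [← Category.assoc, c1, ← Category.assoc, c2]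
    choose Z' g h1 h2 h3 h4 using key
    have hmem := Groth.Agent.Lib.T2H1.MonoGlue.ofArrows_mem (S := S) (W := Z) Z' g h1 h2
      (fun z => ⟨z, h3 z⟩)
    refine hom_ext_of_sieve _ _ _ hmem ?_
    rintro Y k ⟨Y', k', _, ⟨z⟩, rfl⟩
    rw [Functor.map_comp, Category.assoc, Category.assoc, h4 z]

end Groth.Agent.Lib.T2H1.ElemDist
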