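import Mathlib
import Groth.Prelude.Def_AlgSpSub
import Groth.Prelude.Def_AlgSpCov
import Groth.Agent.S10209
import Groth.Agent.S10265
import Groth.Agent.S9874
import Groth.Agent.S10175
import Groth.Agent.S9934
import Groth.Agent.S10534
import Groth.Agent.S10505
import Groth.Agent.Lib.Helper12Proper

set_option autoImplicit false
universe u
open CategoryTheory CategoryTheory.Limits AlgebraicGeometry Opposite
open AlgSp

namespace Groth.Agent.Lib.T2H1.ElemSep

section Cat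

variable {C : Type*} [Category C] [HasPullbacks C] {A B X Y : C} (a : A ⟶ X) (b : B ⟶ X)
  (g : X ⟶ Y)

/-- the map `A ×_Y B ⟶ A ×_Y X`. -/
noncomputable abbrev mR : pullback (a ≫ g) (b ≫ g) ⟶ pullback (a ≫ g) g :=
  pullback.map (a ≫ g) (b ≫ g) (a ≫ g) g (𝟙 A) b (𝟙 Y) (by simp) (by simp)

/-- the map `A ×_Y X ⟶ X ×_Y X`. -/
noncomputable abbrev mL : pullback (a ≫ g) g ⟶ pullback g g :=
  pullback.map (a ≫ g) g g g a (𝟙 X) (𝟙 Y) (by simp) (by simp)

/-- the map `A ×_Y B ⟶ X ×_Y X`. -/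
noncomputable abbrev mAB : pullback (a ≫ g) (b ≫ g) ⟶ pullback g g :=
  pullback.map (a ≫ g) (b ≫ g) g g a b (𝟙 Y) (by simp) (by simp)

theorem mR_fst : mR a b g ≫ pullback.fst (a ≫ g) g = pullback.fst (a ≫ g) (b ≫ g) := by
  rw [pullback.lift_fst, Category.comp_id]

theorem mR_snd : mR a b g ≫ pullback.snd (a ≫ g) g = pullback.snd (a ≫ g) (b ≫ g) ≫ b := by
  rw [pullback.lift_snd]

theorem mL_fst : mL a g ≫ pullback.fst g g = pullback.fst (a ≫ g) g ≫ a := by
  rw [pullback.lift_fst]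

theorem mL_snd : mL a g ≫ pullback.snd g g = pullback.snd (a ≫ g) g := by
  rw [pullback.lift_snd, Category.comp_id]

theorem mAB_fst : mAB a b g ≫ pullback.fst g g = pullback.fst (a ≫ g) (b ≫ g) ≫ a := by
  rw [pullback.lift_fst]

theorem mAB_snd : mAB a b g ≫ pullback.snd g g = pullback.snd (a ≫ g) (b ≫ g) ≫ b := by
  rw [pullback.lift_snd]

theorem mR_mL : mR a b g ≫ mL a g = mAB a b g := by
  apply pullback.hom_ext
  · rw [Category.assoc, mL_fst, ← Category.assoc, mR_fst, mAB_fst]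
  · rw [Category.assoc, mL_snd, mR_snd, mAB_snd]

theorem isPullback_mR :
    IsPullback (pullback.snd (a ≫ g) (b ≫ g)) (mR a b g) b (pullback.snd (a ≫ g) g) := by
  refine IsPullback.of_bot ?_ (mR_snd a b g).symm (IsPullback.of_hasPullback (a ≫ g) g).flip
  rw [mR_fst]
  exact (IsPullback.of_hasPullback (a ≫ g) (b ≫ g)).flip

theorem isPullback_mL :
    IsPullback (pullback.fst (a ≫ g) g) (mL a g) a (pullback.fst g g) := by
  refine IsPullback.of_bot ?_ (mL_fst a g).symm (IsPullback.of_hasPullback g g)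
  rw [mL_snd]
  exact IsPullback.of_hasPullback (a ≫ g) g

end Cat

section Sp

variable {S : Scheme.{u}} {A B X Y : AlgSp.Sp S}

theorem isEtaleMor_comp {F G H : AlgSp.Sp S} (f : F ⟶ G) (g : G ⟶ H) (hf : AlgSp.IsEtaleMor f)
    (hg : AlgSp.IsEtaleMor g) : AlgSp.IsEtaleMor (f ≫ g) := by
  intro U φ hφ
  rw [← Category.assoc]
  exact hg _ (hf φ hφ)

theorem isAlgSpace_pb (hA : AlgSp.IsAlgSpace A) (hB : AlgSp.IsAlgSpace B) (hY : AlgSp.IsAlgSpace Y)
    (a : A ⟶ Y) (b : B ⟶ Y) : AlgSp.IsAlgSpace (pullback a b) :=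
  Groth.Agent.S9874.isAlgSpace_of_isPullback hY.diag hA hB (IsPullback.of_hasPullback _ _)

variable (hA : AlgSp.IsAlgSpace A) (hB : AlgSp.IsAlgSpace B) (hX : AlgSp.IsAlgSpace X)
  (hY : AlgSp.IsAlgSpace Y) (a : A ⟶ X) (b : B ⟶ X) (g : X ⟶ Y)

include hA hB hX hY in
theorem isEtaleMor_mAB (ha : AlgSp.IsEtaleMor a) (hb : AlgSp.IsEtaleMor b) :
    AlgSp.IsEtaleMor (mAB a b g) := by
  rw [← mR_mL]
  have h1 : AlgSp.IsEtaleMor (mR a b g) :=
    Groth.Agent.S10209.result (X := ⟨B, hB⟩) (Y := ⟨X, hX⟩)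
      (Z := ⟨pullback (a ≫ g) g, isAlgSpace_pb hA hX hY _ _⟩)
      (P := ⟨pullback (a ≫ g) (b ≫ g), isAlgSpace_pb hA hB hY _ _⟩)
      (ObjectProperty.homMk b) (ObjectProperty.homMk (pullback.snd (a ≫ g) g))
      (ObjectProperty.homMk (mR a b g)) (ObjectProperty.homMk (pullback.snd (a ≫ g) (b ≫ g)))
      (isPullback_mR a b g).flip hb
  have h2 : AlgSp.IsEtaleMor (mL a g) :=
    Groth.Agent.S10209.result (X := ⟨A, hA⟩) (Y := ⟨X, hX⟩)
      (Z := ⟨pullback g g, isAlgSpace_pb hX hX hY _ _⟩)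
      (P := ⟨pullback (a ≫ g) g, isAlgSpace_pb hA hX hY _ _⟩)
      (ObjectProperty.homMk a) (ObjectProperty.homMk (pullback.fst g g))
      (ObjectProperty.homMk (mL a g)) (ObjectProperty.homMk (pullback.fst (a ≫ g) g))
      (isPullback_mL a g).flip ha
  exact isEtaleMor_comp _ _ h1 h2

theorem mem_range_mAB (z : AlgSp.Points (pullback g g)) (x1 : AlgSp.Points A)
    (x2 : AlgSp.Points B) (h1 : AlgSp.Points.map (pullback.fst g g) z = AlgSp.Points.map a x1)
    (h2 : AlgSp.Points.map (pullback.snd g g) z = AlgSp.Points.map b x2) :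
    z ∈ Set.range (AlgSp.Points.map (mAB a b g)) := by
  obtain ⟨p, hp1, hp2⟩ :=
    Groth.Agent.S10175.exists_point_of_isPullback (isPullback_mL a g).flip z x1 h1
  have h3 : AlgSp.Points.map (pullback.snd (a ≫ g) g) p = AlgSp.Points.map b x2 := by
    rw [← mL_snd a g, AlgSp.Points.map_comp, hp1, h2]
  obtain ⟨p', hp1', -⟩ :=
    Groth.Agent.S10175.exists_point_of_isPullback (isPullback_mR a b g).flip p x2 h3
  refine ⟨p', ?_⟩
  rw [← mR_mL, AlgSp.Points.map_comp, hp1', hp1]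

theorem repWith_mono {P Q : MorphismProperty Scheme.{u}} (h : P ≤ Q) {F G : AlgSp.Sp S}
    (f : F ⟶ G) (hf : AlgSp.RepWith P f) : AlgSp.RepWith Q f :=
  ⟨hf.1, fun U V ξ fst snd sq => h _ (hf.2 ξ fst snd sq)⟩

/-- cancellation: if `α ≫ β` is an immersion and `β` is separated then `α` is an immersion. -/
theorem repWith_isImmersion_of_comp {A' B' C' : AlgSp.Sp S} (α : A' ⟶ B') (β : B' ⟶ C')
    (hβ : AlgSp.IsSeparatedMor β) (hαβ : AlgSp.RepWith @IsImmersion (α ≫ β)) :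
    AlgSp.RepWith @IsImmersion α := by
  have h1 : AlgSp.RepWith @IsClosedImmersion (pullback.lift (𝟙 A') α (by simp) :
      A' ⟶ pullback (α ≫ β) β) :=
    MorphismProperty.of_isPullback (pullback_lift_diagonal_isPullback α β) hβ
  have h1' : AlgSp.RepWith @IsImmersion (pullback.lift (𝟙 A') α (by simp) :
      A' ⟶ pullback (α ≫ β) β) :=
    repWith_mono (fun _ _ f hf => by haveI : IsClosedImmersion f := hf; exact inferInstance) _ h1
  have h2 : AlgSp.RepWith @IsImmersion (pullback.snd (α ≫ β) β) :=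
    MorphismProperty.of_isPullback (IsPullback.of_hasPullback (α ≫ β) β) hαβ
  have h3 : α = pullback.lift (𝟙 A') α (by simp) ≫ pullback.snd (α ≫ β) β := by
    rw [pullback.lift_snd]
  rw [h3]
  exact (AlgSp.RepWith @IsImmersion).comp_mem _ _ h1' h2

/-- the mixed piece: `U ×_X V ⟶ U ×_Y V` is a closed immersion. -/
theorem repWith_closedImm_c {U V PX PY : AlgSp.Sp S} (hPX : AlgSp.IsAlgSpace PX)
    (hPY : AlgSp.IsAlgSpace PY) (j : U ⟶ X) (f : V ⟶ X)
    (hj : AlgSp.RepWith @IsOpenImmersion j) (hU : AlgSp.IsSeparatedMor (j ≫ g))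
    (pX : PX ⟶ U) (qX : PX ⟶ V) (sqX : IsPullback pX qX j f)
    (pY : PY ⟶ U) (qY : PY ⟶ V) (sqY : IsPullback pY qY (j ≫ g) (f ≫ g))
    (c : PX ⟶ PY) (hc₂ : c ≫ qY = qX) (hcl : AlgSp.IsClosedMor c) :
    AlgSp.RepWith @IsClosedImmersion c := by
  have hqY : AlgSp.IsSeparatedMor qY :=
    Groth.Agent.Lib.Helper12.Proper.isSeparatedMor_baseChange sqY hU
  have hqX : AlgSp.RepWith @IsOpenImmersion qX := MorphismProperty.of_isPullback sqX hj
  have hqX' : AlgSp.RepWith @IsImmersion (c ≫ qY) := by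
    rw [hc₂]
    exact repWith_mono (fun _ _ f hf => by haveI : IsOpenImmersion f := hf; exact inferInstance)
      _ hqX
  have hc : AlgSp.RepWith @IsImmersion c := repWith_isImmersion_of_comp c qY hqY hqX'
  exact (Groth.Agent.S9934.result (Z := ⟨PX, hPX⟩) (X := ⟨PY, hPY⟩) (ObjectProperty.homMk c) hc).2
    hcl.isClosed_range

/-- transfer of the closed immersion property to the canonical comparison map. -/
theorem repWith_mapDesc {A' B' P Q : AlgSp.Sp S} (a' : A' ⟶ X) (b' : B' ⟶ X)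
    (p1 : P ⟶ A') (p2 : P ⟶ B') (sqP : IsPullback p1 p2 a' b')
    (q1 : Q ⟶ A') (q2 : Q ⟶ B') (sqQ : IsPullback q1 q2 (a' ≫ g) (b' ≫ g))
    (c : P ⟶ Q) (h1 : c ≫ q1 = p1) (h2 : c ≫ q2 = p2)
    (hc : AlgSp.RepWith @IsClosedImmersion c) :
    AlgSp.RepWith @IsClosedImmersion (pullback.mapDesc a' b' g) := by
  have e : pullback.mapDesc a' b' g = sqP.isoPullback.inv ≫ c ≫ sqQ.isoPullback.hom := by
    rw [Iso.eq_inv_comp]
    apply pullback.hom_ext
    · rw [Category.assoc, Category.assoc, pullback.lift_fst, Category.comp_id,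
        IsPullback.isoPullback_hom_fst, IsPullback.isoPullback_hom_fst, h1]
    · rw [Category.assoc, Category.assoc, pullback.lift_snd, Category.comp_id,
        IsPullback.isoPullback_hom_snd, IsPullback.isoPullback_hom_snd, h2]
  rw [e]
  exact (MorphismProperty.cancel_left_of_respectsIso _ _ _).2
    ((MorphismProperty.cancel_right_of_respectsIso _ _ _).2 hc)

end Sp

/-- the four pieces of the étale cover of `X ×_Y X`. -/
inductive Piece : Type u
  | UU | UV | VU | VV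

section Main

variable {S : Scheme.{u}} {U V X Y : AlgSp.Sp S} (g : X ⟶ Y) (j : U ⟶ X) (f : V ⟶ X)

/-- the pieces `A ×_Y B`. -/
noncomputable def Yi : Piece.{u} → AlgSp.Sp S
  | .UU => pullback (j ≫ g) (j ≫ g)
  | .UV => pullback (j ≫ g) (f ≫ g)
  | .VU => pullback (f ≫ g) (j ≫ g)
  | .VV => pullback (f ≫ g) (f ≫ g)

/-- the covering maps. -/
noncomputable def gi : ∀ k : Piece.{u}, Yi g j f k ⟶ pullback g g
  | .UU => mAB j j g
  | .UV => mAB j f g
  | .VU => mAB f j g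
  | .VV => mAB f f g

/-- the pieces `A ×_X B`. -/
noncomputable def Xi : Piece.{u} → AlgSp.Sp S
  | .UU => pullback j j
  | .UV => pullback j f
  | .VU => pullback f j
  | .VV => pullback f f

/-- the base changes of the diagonal. -/
noncomputable def pi : ∀ k : Piece.{u}, Xi j f k ⟶ Yi g j f k
  | .UU => pullback.mapDesc j j g
  | .UV => pullback.mapDesc j f g
  | .VU => pullback.mapDesc f j g
  | .VV => pullback.mapDesc f f g

/-- the projections to `X`. -/
noncomputable def qi : ∀ k : Piece.{u}, Xi j f k ⟶ X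
  | .UU => pullback.fst j j ≫ j
  | .UV => pullback.fst j f ≫ j
  | .VU => pullback.fst f j ≫ f
  | .VV => pullback.fst f f ≫ f

theorem isPullback_piece (k : Piece.{u}) :
    IsPullback (qi j f k) (pi g j f k) (pullback.diagonal g) (gi g j f k) := by
  cases k
  · exact pullback_map_diagonal_isPullback j j g
  · exact pullback_map_diagonal_isPullback j f g
  · exact pullback_map_diagonal_isPullback f j g
  · exact pullback_map_diagonal_isPullback f f g

variable (hU' : AlgSp.IsAlgSpace U) (hV' : AlgSp.IsAlgSpace V) (hX' : AlgSp.IsAlgSpace X)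
  (hY' : AlgSp.IsAlgSpace Y)

include hU' hV' hY' in
theorem isAlgSpace_Yi (k : Piece.{u}) : AlgSp.IsAlgSpace (Yi g j f k) := by
  cases k
  · exact isAlgSpace_pb hU' hU' hY' _ _
  · exact isAlgSpace_pb hU' hV' hY' _ _
  · exact isAlgSpace_pb hV' hU' hY' _ _
  · exact isAlgSpace_pb hV' hV' hY' _ _

include hU' hV' hX' in
theorem isAlgSpace_Xi (k : Piece.{u}) : AlgSp.IsAlgSpace (Xi j f k) := by
  cases k
  · exact isAlgSpace_pb hU' hU' hX' _ _
  · exact isAlgSpace_pb hU' hV' hX' _ _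
  · exact isAlgSpace_pb hV' hU' hX' _ _
  · exact isAlgSpace_pb hV' hV' hX' _ _

include hU' hV' hX' hY' in
theorem isEtaleMor_gi (hj : AlgSp.IsEtaleMor j) (hf : AlgSp.IsEtaleMor f) (k : Piece.{u}) :
    AlgSp.IsEtaleMor (gi g j f k) := by
  cases k
  · exact isEtaleMor_mAB hU' hU' hX' hY' j j g hj hj
  · exact isEtaleMor_mAB hU' hV' hX' hY' j f g hj hf
  · exact isEtaleMor_mAB hV' hU' hX' hY' f j g hf hj
  · exact isEtaleMor_mAB hV' hV' hX' hY' f f g hf hf

theorem exists_piece (hsurj : ∀ x : AlgSp.Points X,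
    x ∈ Set.range (AlgSp.Points.map j) ∨ x ∈ Set.range (AlgSp.Points.map f))
    (z : AlgSp.Points (pullback g g)) :
    ∃ k : Piece.{u}, z ∈ Set.range (AlgSp.Points.map (gi g j f k)) := by
  rcases hsurj (AlgSp.Points.map (pullback.fst g g) z) with ⟨x1, h1⟩ | ⟨x1, h1⟩ <;>
  rcases hsurj (AlgSp.Points.map (pullback.snd g g) z) with ⟨x2, h2⟩ | ⟨x2, h2⟩
  · exact ⟨.UU, mem_range_mAB j j g z x1 x2 h1.symm h2.symm⟩
  · exact ⟨.UV, mem_range_mAB j f g z x1 x2 h1.symm h2.symm⟩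
  · exact ⟨.VU, mem_range_mAB f j g z x1 x2 h1.symm h2.symm⟩
  · exact ⟨.VV, mem_range_mAB f f g z x1 x2 h1.symm h2.symm⟩

include hU' hV' hX' hY' in
/-- **Separatedness from an elementary distinguished square.** -/
theorem isSeparatedMor_of_elemDistSq {PX PY QX QY : AlgSp.Sp S} (hPX' : AlgSp.IsAlgSpace PX)
    (hPY' : AlgSp.IsAlgSpace PY)
    (hsq : AlgSp.IsElemDistSq j f) (hU : AlgSp.IsSeparatedMor (j ≫ g))
    (pX : PX ⟶ U) (qX : PX ⟶ V) (hPX : IsPullback pX qX j f)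
    (pY : PY ⟶ U) (qY : PY ⟶ V) (hPY : IsPullback pY qY (j ≫ g) (f ≫ g))
    (c : PX ⟶ PY) (hc₁ : c ≫ pY = pX) (hc₂ : c ≫ qY = qX) (hcl : AlgSp.IsClosedMor c)
    (rX₁ rX₂ : QX ⟶ V) (hQX : IsPullback rX₁ rX₂ f f)
    (rY₁ rY₂ : QY ⟶ V) (hQY : IsPullback rY₁ rY₂ (f ≫ g) (f ≫ g))
    (d : QX ⟶ QY) (hd₁ : d ≫ rY₁ = rX₁) (hd₂ : d ≫ rY₂ = rX₂)
    (hdcl : AlgSp.RepWith @IsClosedImmersion d) : AlgSp.IsSeparatedMor g := by
  obtain ⟨hj, hf, T, P, i, p₁, p₂, hred, sqT, hiso⟩ := hsq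
  haveI := hiso
  have hje : AlgSp.IsEtaleMor j := by
    have h1 : AlgSp.RepWith @Etale j :=
      repWith_mono (fun _ _ k hk => by haveI : IsOpenImmersion k := hk; exact inferInstance) _ hj
    exact fun W φ hφ => (AlgSp.RepWith @Etale).comp_mem _ _ hφ h1
  haveI : Mono j := Groth.Agent.S9928.mono_of_repWith @IsOpenImmersion
    (fun _ _ k hk => by haveI : IsOpenImmersion k := hk; infer_instance) j hj
  have hsurj : ∀ x : AlgSp.Points X,
      x ∈ Set.range (AlgSp.Points.map j) ∨ x ∈ Set.range (AlgSp.Points.map f) := by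
    intro x
    by_cases hx : x ∈ Set.range (AlgSp.Points.map j)
    · exact Or.inl hx
    · right
      have hx' : x ∈ Set.range (AlgSp.Points.map i) := by rw [hred.2.1]; exact hx
      obtain ⟨t, rfl⟩ := hx'
      refine ⟨AlgSp.Points.map p₂ (AlgSp.Points.map (inv p₁) t), ?_⟩
      rw [← AlgSp.Points.map_comp, ← AlgSp.Points.map_comp, ← sqT.w, ← Category.assoc,
        IsIso.inv_hom_id, Category.id_comp]
  -- the cover
  have hcov : AlgSp.IsFpqcCover (Yi g j f) (gi g j f) := by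
    refine Groth.Agent.S10505.result ⟨pullback g g, isAlgSpace_pb hX' hX' hY' _ _⟩
      (fun k => ⟨Yi g j f k, isAlgSpace_Yi g j f hU' hV' hY' k⟩)
      (fun k => ObjectProperty.homMk (gi g j f k)) ⟨fun k => ?_, fun z => ?_⟩
    · have h := Groth.Agent.S10265.result
        (X := ⟨Yi g j f k, isAlgSpace_Yi g j f hU' hV' hY' k⟩)
        (Y := ⟨pullback g g, isAlgSpace_pb hX' hX' hY' _ _⟩)
        (ObjectProperty.homMk (gi g j f k)) (isEtaleMor_gi g j f hU' hV' hX' hY' hje hf k)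
      exact ⟨h.2.2.1, h.2.2.2.1⟩
    · exact exists_piece g j f hsurj z
  have key := Groth.Agent.S10534.result S (Yi g j f) (gi g j f)
    (isAlgSpace_pb hX' hX' hY' _ _) (isAlgSpace_Yi g j f hU' hV' hY') hcov (pullback.diagonal g) hX'
    (Xi j f) (pi g j f) (qi j f) (isAlgSpace_Xi j f hU' hV' hX') (isPullback_piece g j f)
  refine key.2 fun k => ?_
  have hcCI : AlgSp.RepWith @IsClosedImmersion c :=
    repWith_closedImm_c g hPX' hPY' j f hj hU pX qX hPX pY qY hPY c hc₂ hcl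
  cases k
  · exact repWith_mapDesc g j j (𝟙 U) (𝟙 U) (IsKernelPair.id_of_mono j)
      (pullback.fst (j ≫ g) (j ≫ g)) (pullback.snd (j ≫ g) (j ≫ g))
      (IsPullback.of_hasPullback _ _) (pullback.diagonal (j ≫ g))
      (pullback.diagonal_fst _) (pullback.diagonal_snd _) hU
  · exact repWith_mapDesc g j f pX qX hPX pY qY hPY c hc₁ hc₂ hcCI
  · exact repWith_mapDesc g f j qX pX hPX.flip qY pY hPY.flip c hc₂ hc₁ hcCI
  · exact repWith_mapDesc g f f rX₁ rX₂ hQX rY₁ rY₂ hQY d hd₁ hd₂ hdcl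

end Main

end Groth.Agent.Lib.T2H1.ElemSep
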