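import Mathlib
import Groth.Prelude.Def_EssEt
import Groth.Agent.Lib.Helper4TotalFracFin

/-!
# Total rings of fractions of essentially étale local algebras (helper1, team 2)
-/

set_option autoImplicit false
universe u
open IsLocalRing

namespace Groth.Agent.Lib.T2H1.EssEtFrac

section Basic

variable (A E : Type u) [CommRing A] [IsLocalRing A] [CommRing E] [Algebra A E]
  (hE : EGA4loc.IsEssentiallyEtale A E)

include hE

theorem flat : Module.Flat A E := by
  obtain ⟨C, _, _, q, _, hEt, hq, ⟨e⟩⟩ := hE
  haveI : Module.Flat A (Localization.AtPrime q) := Module.Flat.trans A C _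
  exact Module.Flat.of_linearEquiv e.toLinearEquiv

theorem quasiFinite : Algebra.QuasiFinite A E := by
  obtain ⟨C, _, _, q, _, hEt, hq, ⟨e⟩⟩ := hE
  haveI : Algebra.QuasiFinite A (Localization.AtPrime q) := inferInstance
  exact (Algebra.QuasiFinite.iff_of_algEquiv e).2 inferInstance

end Basic

section Frac

variable (A E : Type u) [CommRing A] [CommRing E] [Algebra A E]

/-- The images in `E` of the nonzero-divisors of `A`. -/
abbrev M : Submonoid E := (nonZeroDivisors A).map (algebraMap A E)

theorem M_le [Module.Flat A E] : M A E ≤ nonZeroDivisors E := by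
  rintro _ ⟨a, ha, rfl⟩
  have hreg := Module.Flat.isSMulRegular_of_nonZeroDivisors (M := E) ha
  rw [mem_nonZeroDivisors_iff_right]
  intro x hx
  apply hreg
  simp only [Algebra.smul_def, mul_zero]
  rw [mul_comm]; exact hx

variable {A E}

/-- A prime of `A` consisting of zero-divisors is a minimal prime (reduced, finitely many minimal
primes). -/
theorem mem_minimalPrimes_of_disjoint [IsReduced A] (hmin : (minimalPrimes A).Finite)
    (𝔭 : Ideal A) [h𝔭 : 𝔭.IsPrime] (hd : ∀ a ∈ 𝔭, a ∉ nonZeroDivisors A) :
    𝔭 ∈ minimalPrimes A := by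
  classical
  have hsub : (𝔭 : Set A) ⊆ ⋃ q ∈ (hmin.toFinset : Set (Ideal A)), ((id q : Ideal A) : Set A) := by
    intro a ha
    have h1 := hd a ha
    by_contra hcon
    apply h1
    apply Groth.Agent.Lib.Helper4.TotalFracFin.mem_nonZeroDivisors_of_forall_notMem
    intro q hq haq
    apply hcon
    simp only [Set.mem_iUnion]
    exact ⟨q, by simpa using hq, haq⟩
  by_cases hne : (minimalPrimes A).Nonempty
  · obtain ⟨q₀, hq₀⟩ := hne
    rw [Ideal.subset_union_prime (R := A) (f := id) q₀ q₀
      (fun i hi _ _ => ((Set.Finite.mem_toFinset hmin).1 hi).1.1)] at hsub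
    obtain ⟨q, hq, hle⟩ := hsub
    have hq' : q ∈ minimalPrimes A := (Set.Finite.mem_toFinset hmin).1 hq
    have : q = 𝔭 := le_antisymm (hq'.2 ⟨h𝔭, bot_le⟩ hle) hle
    exact this ▸ hq'
  · exfalso
    obtain ⟨q, hq, -⟩ := Ideal.exists_minimalPrimes_le (I := (⊥ : Ideal A)) (J := 𝔭) bot_le
    exact hne ⟨q, hq⟩

theorem exists_dvd [IsReduced A] [Module.Flat A E] [Algebra.QuasiFinite A E]
    (hmin : (minimalPrimes A).Finite)
    (t : E) (ht : t ∈ nonZeroDivisors E) : ∃ m ∈ M A E, t ∣ m := by
  classical
  rw [← IsLocalization.algebraMap_isUnit_iff (M := M A E) (S := Localization (M A E))]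
  by_contra hnu
  obtain ⟨Q, hQmax, hQ⟩ := exists_max_ideal_of_mem_nonunits hnu
  let P : Ideal E := Q.comap (algebraMap E (Localization (M A E)))
  haveI hPprime : P.IsPrime := Ideal.comap_isPrime _ _
  have htP : t ∈ P := hQ
  have hPM : ∀ m ∈ M A E, m ∉ P := by
    intro m hm hmP
    exact hQmax.ne_top (Ideal.eq_top_of_isUnit_mem _ hmP
      (IsLocalization.map_units (Localization (M A E)) ⟨m, hm⟩))
  let 𝔭 : Ideal A := P.comap (algebraMap A E)
  haveI h𝔭prime : 𝔭.IsPrime := Ideal.comap_isPrime _ _
  have h𝔭min : 𝔭 ∈ minimalPrimes A := by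
    apply mem_minimalPrimes_of_disjoint hmin
    intro a ha hnz
    exact hPM _ ⟨a, hnz, rfl⟩ ha
  obtain ⟨P₀, hP₀, hle⟩ := Ideal.exists_minimalPrimes_le (I := (⊥ : Ideal E)) (J := P) bot_le
  haveI hP₀prime : P₀.IsPrime := hP₀.1.1
  have hunder : P₀.under A = P.under A := by
    have h1 : P₀.under A ≤ 𝔭 := Ideal.comap_mono hle
    have h2 : 𝔭 ≤ P₀.under A :=
      h𝔭min.2 ⟨(inferInstance : (P₀.comap (algebraMap A E)).IsPrime), bot_le⟩ h1
    exact le_antisymm h1 h2
  have hPP : P₀ = P := Algebra.QuasiFinite.eq_of_le_of_under_eq (R := A) P₀ P hle hunder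
  have hPmin : P ∈ minimalPrimes E := hPP ▸ hP₀
  exact (Set.disjoint_left.mp (Ideal.disjoint_nonZeroDivisors_of_mem_minimalPrimes hPmin)) htP ht

variable (A E)

theorem isLocalization_fractionRing [IsReduced A] [Module.Flat A E] [Algebra.QuasiFinite A E]
    (hmin : (minimalPrimes A).Finite) :
    IsLocalization (M A E) (FractionRing E) := by
  haveI h1 : IsLocalization (nonZeroDivisors E) (Localization (M A E)) :=
    IsLocalization.of_le_of_exists_dvd (M A E) (nonZeroDivisors E) (M_le A E)
      (fun t ht => exists_dvd hmin t ht)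
  let e : Localization (M A E) ≃ₐ[E] FractionRing E :=
    IsLocalization.algEquiv (nonZeroDivisors E) _ _
  exact IsLocalization.isLocalization_of_algEquiv (M A E) e

end Frac

section Finite

variable (A E : Type u) [CommRing A] [CommRing E] [Algebra A E]

theorem isArtinianRing_fractionRing [IsReduced A] (hmin : (minimalPrimes A).Finite) :
    IsArtinianRing (FractionRing A) := by
  haveI : Finite (minimalPrimes A) := hmin.to_subtype
  haveI := Groth.Agent.Lib.Helper4.TotalFracFin.isFractionRing_piFrac hmin
  let e : Groth.Agent.Lib.Helper4.TotalFracFin.PiFrac A ≃ₐ[A] FractionRing A :=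
    IsLocalization.algEquiv (nonZeroDivisors A) _ _
  exact e.toRingEquiv.isArtinianRing

theorem isUnit_algebraMap [Module.Flat A E] (a : nonZeroDivisors A) :
    IsUnit (algebraMap A (FractionRing E) a) := by
  rw [IsScalarTower.algebraMap_apply A E (FractionRing E)]
  exact IsLocalization.map_units (FractionRing E)
    (⟨algebraMap A E a, M_le A E ⟨a, a.2, rfl⟩⟩ : nonZeroDivisors E)

/-- The `K_A`-algebra structure on `K_E` (for `E` flat over `A`). -/
@[reducible] noncomputable def fracAlgebra [Module.Flat A E] : Algebra (FractionRing A) (FractionRing E) :=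
  (IsLocalization.lift (isUnit_algebraMap A E)).toAlgebra

attribute [local instance] fracAlgebra

theorem isScalarTower_frac [Module.Flat A E] :
    IsScalarTower A (FractionRing A) (FractionRing E) :=
  IsScalarTower.of_algebraMap_eq
    (fun a => (IsLocalization.lift_eq (isUnit_algebraMap A E) a).symm)

theorem finite_frac [IsReduced A] [Module.Flat A E] [Algebra.QuasiFinite A E]
    (hmin : (minimalPrimes A).Finite) : Module.Finite (FractionRing A) (FractionRing E) := by
  haveI := isArtinianRing_fractionRing A hmin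
  haveI := isScalarTower_frac A E
  haveI : Algebra.QuasiFinite A (FractionRing E) := Algebra.QuasiFinite.trans A E (FractionRing E)
  haveI : Algebra.QuasiFinite (FractionRing A) (FractionRing E) :=
    Algebra.QuasiFinite.of_restrictScalars A (FractionRing A) (FractionRing E)
  exact Module.Finite.of_quasiFinite

theorem exists_finset_span [IsReduced A] [Module.Flat A E] [Algebra.QuasiFinite A E]
    (hmin : (minimalPrimes A).Finite) :
    ∃ t : Finset (FractionRing E), ∀ x : FractionRing E, ∃ a ∈ nonZeroDivisors A,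
      algebraMap A (FractionRing E) a * x ∈ Submodule.span A (t : Set (FractionRing E)) := by
  classical
  haveI := isScalarTower_frac A E
  haveI := finite_frac A E hmin
  obtain ⟨t, ht⟩ := (Module.Finite.fg_top : (⊤ : Submodule (FractionRing A) (FractionRing E)).FG)
  refine ⟨t, fun x => ?_⟩
  have hx : x ∈ Submodule.span (FractionRing A) (t : Set (FractionRing E)) := ht ▸ Submodule.mem_top
  rw [Submodule.mem_span_finset] at hx
  obtain ⟨c, -, hc⟩ := hx
  obtain ⟨b, hb⟩ := IsLocalization.exist_integer_multiples (nonZeroDivisors A) t c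
  refine ⟨b, b.2, ?_⟩
  rw [← hc, ← Algebra.smul_def, Finset.smul_sum]
  refine Submodule.sum_mem _ (fun i hi => ?_)
  obtain ⟨a, ha⟩ := hb i hi
  rw [← smul_assoc, ← ha, algebraMap_smul]
  exact Submodule.smul_mem _ _ (Submodule.subset_span hi)

/-- In a finite algebra over an artinian ring, a subalgebra contains the inverses of those of its
elements which are units of the big algebra. -/
theorem exists_inv_mem_of_isUnit {R K : Type*} [CommRing R] [IsArtinianRing R] [CommRing K]
    [Algebra R K] [Module.Finite R K] (L : Subalgebra R K) (l : K) (hl : l ∈ L) (hu : IsUnit l) :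
    ∃ y ∈ L, l * y = 1 := by
  haveI : IsNoetherian R K := isNoetherian_of_isNoetherianRing_of_finite R K
  haveI : Module.Finite R L := Module.Finite.of_injective L.val.toLinearMap Subtype.val_injective
  haveI : IsArtinianRing L := IsArtinianRing.of_finite R L
  have hnz : (⟨l, hl⟩ : L) ∈ nonZeroDivisors L := by
    rw [mem_nonZeroDivisors_iff_right]
    intro x hx
    have h1 : (x : K) * l = 0 := congrArg Subtype.val hx
    exact Subtype.ext (hu.mul_left_eq_zero.mp h1)
  obtain ⟨v, hv⟩ := IsArtinianRing.isUnit_of_mem_nonZeroDivisors hnz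
  refine ⟨(↑(v⁻¹) : L), (↑(v⁻¹) : L).2, ?_⟩
  have h2 : (⟨l, hl⟩ : L) * ↑(v⁻¹) = 1 := by rw [← hv]; exact v.mul_inv
  exact congrArg Subtype.val h2

theorem exists_inv_mem [IsReduced A] [Module.Flat A E] [Algebra.QuasiFinite A E]
    (hmin : (minimalPrimes A).Finite) (L : Subalgebra A (FractionRing E))
    (hL : ∀ s ∈ nonZeroDivisors A, ∃ y ∈ L, algebraMap A (FractionRing E) s * y = 1)
    (l : FractionRing E) (hl : l ∈ L) (hu : IsUnit l) : ∃ y ∈ L, l * y = 1 := by
  haveI := isArtinianRing_fractionRing A hmin
  haveI := isScalarTower_frac A E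
  haveI := finite_frac A E hmin
  let L' : Subalgebra (FractionRing A) (FractionRing E) :=
    { L.toSubsemiring with
      algebraMap_mem' := by
        intro x
        obtain ⟨a, s, rfl⟩ := IsLocalization.exists_mk'_eq (nonZeroDivisors A) x
        obtain ⟨y, hy, hsy⟩ := hL s s.2
        have h1 : algebraMap (FractionRing A) (FractionRing E)
            (IsLocalization.mk' (FractionRing A) a s) = algebraMap A (FractionRing E) a * y := by
          have h2 : algebraMap (FractionRing A) (FractionRing E)
              (IsLocalization.mk' (FractionRing A) a s) * algebraMap A (FractionRing E) s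
                = algebraMap A (FractionRing E) a := by
            rw [IsScalarTower.algebraMap_apply A (FractionRing A) (FractionRing E) s,
              ← map_mul, IsLocalization.mk'_spec,
              ← IsScalarTower.algebraMap_apply A (FractionRing A) (FractionRing E)]
          rw [← h2, mul_assoc, hsy, mul_one]
        show algebraMap (FractionRing A) (FractionRing E) _ ∈ L
        rw [h1]
        exact L.mul_mem (L.algebraMap_mem a) hy }
  exact exists_inv_mem_of_isUnit L' l hl hu

end Finite

section Preimage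

variable (A E : Type u) [CommRing A] [CommRing E] [Algebra A E]

/-- The preimage in `E` of an `A`-subalgebra of the total ring of fractions. -/
noncomputable def preimage (L : Subalgebra A (FractionRing E)) : Subalgebra A E :=
  L.comap (IsScalarTower.toAlgHom A E (FractionRing E))

theorem coe_preimage (L : Subalgebra A (FractionRing E)) :
    (preimage A E L : Set E) = (algebraMap E (FractionRing E)) ⁻¹' (L : Set (FractionRing E)) :=
  rfl

theorem mem_preimage (L : Subalgebra A (FractionRing E)) (e : E) :
    e ∈ preimage A E L ↔ algebraMap E (FractionRing E) e ∈ L := Iff.rfl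

variable [IsReduced A] [Module.Flat A E] [Algebra.QuasiFinite A E]
  (hmin : (minimalPrimes A).Finite) (L : Subalgebra A (FractionRing E))
  (hL : ∀ s ∈ nonZeroDivisors A, ∃ y ∈ L, algebraMap A (FractionRing E) s * y = 1)

include hmin hL

theorem isUnit_preimage_of_isUnit (d : preimage A E L) (hd : IsUnit (d : E)) : IsUnit d := by
  obtain ⟨y, hy, hly⟩ := exists_inv_mem A E hmin L hL (algebraMap E (FractionRing E) d) d.2
    (hd.map _)
  obtain ⟨u, hu⟩ := hd
  have hy' : y = algebraMap E (FractionRing E) (↑(u⁻¹) : E) := by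
    have h1 : algebraMap E (FractionRing E) (d : E) * algebraMap E (FractionRing E) (↑(u⁻¹) : E)
        = 1 := by
      rw [← map_mul, ← hu, Units.mul_inv, map_one]
    calc y = y * (algebraMap E (FractionRing E) (d : E) *
          algebraMap E (FractionRing E) (↑(u⁻¹) : E)) := by rw [h1, mul_one]
      _ = (algebraMap E (FractionRing E) (d : E) * y) *
          algebraMap E (FractionRing E) (↑(u⁻¹) : E) := by ring
      _ = _ := by rw [hly, one_mul]
  have hmem : (↑(u⁻¹) : E) ∈ preimage A E L := by
    rw [mem_preimage, ← hy']; exact hy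
  refine isUnit_iff_exists_inv.mpr ⟨⟨_, hmem⟩, Subtype.ext ?_⟩
  show (d : E) * ↑(u⁻¹) = 1
  rw [← hu, Units.mul_inv]

theorem isLocalHom_preimage : IsLocalHom (algebraMap (preimage A E L) E) :=
  ⟨fun d hd => isUnit_preimage_of_isUnit A E hmin L hL d hd⟩

theorem isLocalRing_preimage [IsLocalRing E] : IsLocalRing (preimage A E L) := by
  haveI : Nontrivial (preimage A E L) :=
    ⟨⟨0, 1, fun h => zero_ne_one (α := E) (congrArg Subtype.val h)⟩⟩
  refine IsLocalRing.of_nonunits_add ?_
  intro a b ha hb
  have ha' : (a : E) ∈ nonunits E := fun h => ha (isUnit_preimage_of_isUnit A E hmin L hL a h)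
  have hb' : (b : E) ∈ nonunits E := fun h => hb (isUnit_preimage_of_isUnit A E hmin L hL b h)
  intro hab
  exact IsLocalRing.nonunits_add ha' hb' (hab.map (preimage A E L).val)

theorem exists_eq_mul_inv (l : FractionRing E) (hl : l ∈ L) :
    ∃ d ∈ preimage A E L, ∃ s ∈ nonZeroDivisors A, ∃ y ∈ L,
      algebraMap A (FractionRing E) s * y = 1 ∧ l = algebraMap E (FractionRing E) d * y := by
  haveI := isLocalization_fractionRing A E hmin
  obtain ⟨⟨e, ⟨_, s, hs, rfl⟩⟩, he⟩ := IsLocalization.surj (M A E) l
  simp only at he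
  obtain ⟨y, hy, hsy⟩ := hL s hs
  have hs' : algebraMap E (FractionRing E) (algebraMap A E s) = algebraMap A (FractionRing E) s :=
    (IsScalarTower.algebraMap_apply A E (FractionRing E) s).symm
  refine ⟨e, ?_, s, hs, y, hy, hsy, ?_⟩
  · rw [mem_preimage, ← he, hs']
    exact L.mul_mem hl (L.algebraMap_mem s)
  · rw [← he, hs', mul_assoc, hsy, mul_one]

end Preimage

end Groth.Agent.Lib.T2H1.EssEtFrac
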