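import Mathlib
import Groth.Agent.Lib.Helper3HzRed
import Groth.Agent.Lib.Helper3ShN

/-!
# Reducedness of flat base changes of the strict henselization (T2 helper2)
-/

namespace Groth.Agent.Lib.T2H2.ShRed

open IsLocalRing TensorProduct Groth.Agent.Lib.Helper3 Groth.Agent.Lib.Helper3.Sh

universe u

section stage

variable {A : Type u} [CommRing A] (T : Type u) [CommRing T] [Algebra A T]

/-- étale base change of a reduced ring is reduced -/
theorem isReduced_tensor_of_etale [IsReduced T] (C : Type u) [CommRing C] [Algebra A C]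
    [Algebra.Etale A C] : IsReduced (T ⊗[A] C) :=
  EtRed.isReduced_of_etale T (T ⊗[A] C)

/-- localization: `T ⊗ L` is reduced if `T ⊗ C` is. -/
theorem isReduced_tensor_of_isLocalization (C : Type u) [CommRing C] [Algebra A C]
    (M : Submonoid C) (L : Type u) [CommRing L] [Algebra A L] [Algebra C L] [IsScalarTower A C L]
    [IsLocalization M L] [IsReduced (T ⊗[A] C)] : IsReduced (T ⊗[A] L) := by
  letI : Algebra (T ⊗[A] C) (T ⊗[A] L) :=
    (Algebra.TensorProduct.map (AlgHom.id T T) (IsScalarTower.toAlgHom A C L)).toRingHom.toAlgebra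
  haveI : IsScalarTower T (T ⊗[A] C) (T ⊗[A] L) :=
    IsScalarTower.of_algebraMap_eq (fun t => by
      change t ⊗ₜ[A] (1 : L) = Algebra.TensorProduct.map (AlgHom.id T T)
        (IsScalarTower.toAlgHom A C L) (t ⊗ₜ[A] (1 : C))
      simp)
  have H : (algebraMap (T ⊗[A] C) (T ⊗[A] L)).comp
      Algebra.TensorProduct.includeRight.toRingHom =
      Algebra.TensorProduct.includeRight.toRingHom.comp (algebraMap C L) := by
    ext c
    change Algebra.TensorProduct.map (AlgHom.id T T)
        (IsScalarTower.toAlgHom A C L) ((1 : T) ⊗ₜ[A] c) = (1 : T) ⊗ₜ[A] algebraMap C L c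
    simp
  haveI := IsLocalization.tensorProduct_tensorProduct_right A T M L H
  exact isReduced_localizationPreserves
    (M.map (Algebra.TensorProduct.includeRight (R := A) (A := T))) (T ⊗[A] L)
    (inferInstance : IsReduced (T ⊗[A] C))

end stage

section model

variable {A : Type u} [CommRing A] [IsLocalRing A] {Ω : Type u} [Field Ω] [Algebra A Ω]
  [Algebra (ResidueField A) Ω] [IsScalarTower A (ResidueField A) Ω]
  (T : Type u) [CommRing T] [Algebra A T]

theorem isReduced_tensor_L [IsReduced T] (i : Idx A Ω) : IsReduced (T ⊗[A] i.L) := by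
  haveI : IsReduced (T ⊗[A] i.C) := isReduced_tensor_of_etale T i.C
  exact isReduced_tensor_of_isLocalization T i.C i.Q.primeCompl i.L

/-- the stage maps after tensoring -/
noncomputable def stageMap (i : Idx A Ω) : T ⊗[A] i.L →ₐ[A] T ⊗[A] Rsh A Ω :=
  Algebra.TensorProduct.map (AlgHom.id A T) (ofLₐ i)

theorem stageMap_tmul (i : Idx A Ω) (t : T) (x : i.L) :
    stageMap T i (t ⊗ₜ x) = t ⊗ₜ ofL i x := by
  simp [stageMap, ofLₐ_apply]

theorem stageMap_fmap {i j : Idx A Ω} (hij : i ≤ j) (z : T ⊗[A] i.L) :
    stageMap T j (Algebra.TensorProduct.map (AlgHom.id A T) (fmap i j hij) z) = stageMap T i z := by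
  induction z using TensorProduct.induction_on with
  | zero => simp
  | tmul t x =>
    simp only [Algebra.TensorProduct.map_tmul, AlgHom.coe_id, id_eq, stageMap_tmul]
    congr 1
    exact ofL_fmap hij x
  | add a b ha hb => simp only [map_add, ha, hb]

theorem exists_stage (z : T ⊗[A] Rsh A Ω) : ∃ (i : Idx A Ω) (z' : T ⊗[A] i.L), stageMap T i z' = z := by
  induction z using TensorProduct.induction_on with
  | zero => exact ⟨Classical.arbitrary _, 0, map_zero _⟩
  | tmul t r =>
    obtain ⟨i, x, rfl⟩ := exists_ofL r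
    exact ⟨i, t ⊗ₜ x, stageMap_tmul T i t x⟩
  | add a b ha hb =>
    obtain ⟨i, a', rfl⟩ := ha
    obtain ⟨j, b', rfl⟩ := hb
    obtain ⟨l, hil, hjl⟩ := exists_ge_ge i j
    refine ⟨l, Algebra.TensorProduct.map (AlgHom.id A T) (fmap i l hil) a' +
      Algebra.TensorProduct.map (AlgHom.id A T) (fmap j l hjl) b', ?_⟩
    rw [map_add, stageMap_fmap, stageMap_fmap]

theorem ofL_injective [IsSepClosure (ResidueField A) Ω] (i : Idx A Ω) :
    Function.Injective (ofL (R := A) (Ω := Ω) i) := by
  letI := (ofL i).toAlgebra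
  haveI : IsLocalHom (algebraMap i.L (Rsh A Ω)) := inferInstanceAs (IsLocalHom (ofL i))
  haveI : Module.Flat i.L (Rsh A Ω) := flat_over_L i
  haveI : Module.FaithfullyFlat i.L (Rsh A Ω) := Module.FaithfullyFlat.of_flat_of_isLocalHom
  exact FaithfulSMul.algebraMap_injective i.L (Rsh A Ω)

theorem stageMap_injective [IsSepClosure (ResidueField A) Ω] [Module.Flat A T] (i : Idx A Ω) :
    Function.Injective (stageMap T i) := by
  have h := Module.Flat.lTensor_preserves_injective_linearMap (M := T) (ofLₐ i).toLinearMap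
    (ofL_injective i)
  intro a b hab
  apply h
  have key : ∀ z, (ofLₐ (R := A) (Ω := Ω) i).toLinearMap.lTensor T z = stageMap T i z := by
    intro z
    induction z using TensorProduct.induction_on with
    | zero => simp
    | tmul t x => simp [stageMap]
    | add a b ha hb => simp only [map_add, ha, hb]
  rw [key, key, hab]

theorem isReduced_tensor_Rsh [IsSepClosure (ResidueField A) Ω] [Module.Flat A T] [IsReduced T] :
    IsReduced (T ⊗[A] Rsh A Ω) := by
  constructor
  intro z hz
  obtain ⟨n, hn⟩ := hz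
  obtain ⟨i, z', rfl⟩ := exists_stage T z
  rw [← map_pow] at hn
  have h0 : z' ^ n = 0 := stageMap_injective T i (by rw [hn, map_zero])
  haveI := isReduced_tensor_L T i
  have : z' = 0 := IsReduced.eq_zero _ ⟨n, h0⟩
  rw [this, map_zero]

end model

/-- A flat reduced algebra stays reduced after base change to a strict henselization. -/
theorem isReduced_tensor_of_isStrictHenselization (A : Type u) [CommRing A] [IsLocalRing A]
    (S : Type u) [CommRing S] [IsLocalRing S] [Algebra A S] [IsLocalHom (algebraMap A S)]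
    [Hensel.IsStrictHenselization A S] (T : Type u) [CommRing T] [Algebra A T] [Module.Flat A T]
    [IsReduced T] : IsReduced (T ⊗[A] S) := by
  obtain ⟨Ω, _, _, _, _, _, ⟨e⟩⟩ := HzP.sh_exists_model A S
  haveI := isReduced_tensor_Rsh (A := A) (Ω := Ω) T
  let e' : T ⊗[A] S ≃ₐ[A] T ⊗[A] Rsh A Ω := Algebra.TensorProduct.congr AlgEquiv.refl e
  exact isReduced_of_injective e'.toRingEquiv e'.injective

end Groth.Agent.Lib.T2H2.ShRed
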