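import Mathlib
import Groth.Prelude.Def_EssEt
import Groth.Prelude.Def_Hensel
import Groth.Agent.Lib.Helper3EssEt
import Groth.Agent.Lib.Helper3ShG
import Groth.Agent.Lib.Helper3HzP
import Groth.Agent.Lib.T2H2ShRed

/-!
# Local maps from essentially étale local algebras into the strict henselization are injective;
unramified essentially-finite-type local algebras are quotients of essentially étale ones
(helper1, team 2)
-/

set_option autoImplicit false
universe u
open IsLocalRing

namespace Groth.Agent.Lib.T2H1.ShInj

open Groth.Agent.Lib.Helper3 Groth.Agent.Lib.Helper3.Sh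

section Inj

variable (A : Type u) [CommRing A] [IsLocalRing A]

/-- A local `A`-algebra map from an essentially étale local `A`-algebra into `Rsh A Ω` is
injective. -/
theorem injective_of_local_Rsh (Ω : Type u) [Field Ω] [Algebra A Ω]
    [Algebra (ResidueField A) Ω] [IsScalarTower A (ResidueField A) Ω]
    [IsSepClosure (ResidueField A) Ω]
    (E : Type u) [CommRing E] [IsLocalRing E] [Algebra A E]
    (hE : EGA4loc.IsEssentiallyEtale A E) (h : E →ₐ[A] Rsh A Ω) [IsLocalHom h.toRingHom] :
    Function.Injective h := by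
  obtain ⟨C, _, _, q, _, hEt, hq, ⟨e₀⟩⟩ := hE
  let β : ResidueField E →ₐ[A] Ω := (embΩ (R := A) (Ω := Ω)).comp (resMap h)
  obtain ⟨i, e', he'⟩ := exists_idx (R := A) (Ω := Ω) E C q hq e₀ β
  have hEE : EGA4loc.IsEssentiallyEtale A E := ⟨C, _, _, q, _, hEt, hq, ⟨e₀⟩⟩
  have heq : h = (ofLₐ i).comp e'.toAlgHom := by
    apply EssEt.algHom_ext_of_residue A E (Rsh A Ω) hEE
    intro x
    apply toΩ_injective_residue (R := A) (Ω := Ω)
    rw [embΩ_residue, embΩ_residue]
    change _ = toΩ (ofL i (e' x))
    rw [toΩ_ofL, he' x]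
    change _ = embΩ (resMap h (residue E x))
    rw [resMap_residue, embΩ_residue]
  rw [heq]
  exact (Groth.Agent.Lib.T2H2.ShRed.ofL_injective i).comp e'.injective

/-- A local `A`-algebra map from an essentially étale local `A`-algebra into a strict
henselization of `A` is injective. -/
theorem injective_of_local (S : Type u) [CommRing S] [IsLocalRing S] [Algebra A S]
    [IsLocalHom (algebraMap A S)] [Hensel.IsStrictHenselization A S]
    (E : Type u) [CommRing E] [IsLocalRing E] [Algebra A E]
    (hE : EGA4loc.IsEssentiallyEtale A E) (h : E →ₐ[A] S) [hloc : IsLocalHom h.toRingHom] :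
    Function.Injective h := by
  obtain ⟨Ω, _, _, _, _, _, ⟨e⟩⟩ := Groth.Agent.Lib.Helper3.HzP.sh_exists_model A S
  haveI : IsLocalHom (e.toAlgHom.comp h).toRingHom := by
    constructor
    intro x hx
    have h1 : IsUnit (e.symm ((e.toAlgHom.comp h) x)) := hx.map e.symm
    have h2 : e.symm ((e.toAlgHom.comp h) x) = h x := e.symm_apply_apply _
    rw [h2] at h1
    exact hloc.map_nonunit x h1
  have hinj := injective_of_local_Rsh A Ω E hE (e.toAlgHom.comp h)
  intro x y hxy
  apply hinj
  change e (h x) = e (h y)
  rw [hxy]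

end Inj

section Unram

variable (A D : Type u) [CommRing A] [IsLocalRing A] [CommRing D] [IsLocalRing D] [Algebra A D]
  [IsLocalHom (algebraMap A D)] [Algebra.EssFiniteType A D] [Algebra.FormallyUnramified A D]

/-- A local `A`-algebra essentially of finite type and formally unramified is the image of a local
map from the localization of an étale `A`-algebra at a prime over the maximal ideal. -/
theorem exists_essEtale_surjection :
    ∃ (C : Type u) (_ : CommRing C) (_ : Algebra A C) (q : Ideal C) (_ : q.IsPrime),
      Algebra.Etale A C ∧ q.comap (algebraMap A C) = maximalIdeal A ∧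
      ∃ g : Localization.AtPrime q →ₐ[A] D, Function.Surjective g ∧ IsLocalHom g.toRingHom := by
  classical
  let D₀ : Subalgebra A D := Algebra.EssFiniteType.subalgebra A D
  let Q₀ : Ideal D₀ := (maximalIdeal D).comap (algebraMap D₀ D)
  haveI hQ₀ : Q₀.IsPrime := Ideal.comap_isPrime _ _
  have hsub : Algebra.EssFiniteType.submonoid A D = Q₀.primeCompl := by
    ext x
    change IsUnit (algebraMap D₀ D x) ↔ ¬ (algebraMap D₀ D x ∈ maximalIdeal D)
    rw [mem_maximalIdeal, mem_nonunits_iff, not_not]
  haveI hloc : IsLocalization.AtPrime D Q₀ := by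
    have := Algebra.EssFiniteType.isLocalization (R := A) (S := D)
    rw [hsub] at this
    exact this
  let e₀ : Localization.AtPrime Q₀ ≃ₐ[D₀] D := IsLocalization.algEquiv Q₀.primeCompl _ _
  haveI hun : Algebra.IsUnramifiedAt A Q₀ :=
    Algebra.FormallyUnramified.of_equiv (e₀.symm.restrictScalars A)
  obtain ⟨f, hfQ, P, φ, hφ⟩ :=
    Algebra.IsUnramifiedAt.exists_hasStandardEtaleSurjectionOn (R := A) Q₀
  have hfu : ∀ y : Submonoid.powers f, IsUnit ((IsScalarTower.toAlgHom A D₀ D) y) := by
    rintro ⟨_, n, rfl⟩
    change IsUnit (algebraMap D₀ D (f ^ n))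
    rw [map_pow]
    refine IsUnit.pow n ?_
    by_contra hnu
    exact hfQ hnu
  let ψ : Localization.Away f →ₐ[A] D :=
    IsLocalization.liftAlgHom (M := Submonoid.powers f) (f := IsScalarTower.toAlgHom A D₀ D) hfu
  have hψ : ∀ x : D₀, ψ (algebraMap D₀ (Localization.Away f) x) = algebraMap D₀ D x := by
    intro x
    exact IsLocalization.lift_eq _ x
  let g₀ : P.Ring →ₐ[A] D := ψ.comp φ
  let q : Ideal P.Ring := (maximalIdeal D).comap g₀.toRingHom
  haveI hq : q.IsPrime := Ideal.comap_isPrime _ _
  have hqA : q.comap (algebraMap A P.Ring) = maximalIdeal A := by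
    ext a
    change g₀ (algebraMap A P.Ring a) ∈ maximalIdeal D ↔ _
    rw [g₀.commutes, mem_maximalIdeal, mem_maximalIdeal, mem_nonunits_iff, mem_nonunits_iff,
      isUnit_map_iff]
  have hgu : ∀ y : q.primeCompl, IsUnit (g₀ y) := by
    rintro ⟨y, hy⟩
    by_contra hnu
    exact hy hnu
  let g : Localization.AtPrime q →ₐ[A] D :=
    IsLocalization.liftAlgHom (M := q.primeCompl) (f := g₀) hgu
  have hg : ∀ c : P.Ring, g (algebraMap P.Ring (Localization.AtPrime q) c) = g₀ c := by
    intro c
    exact IsLocalization.lift_eq _ c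
  refine ⟨P.Ring, inferInstance, inferInstance, q, hq, inferInstance, hqA, g, ?_, ?_⟩
  · intro d
    obtain ⟨⟨x, t⟩, hxt⟩ := IsLocalization.surj Q₀.primeCompl d
    simp only at hxt
    obtain ⟨c₁, hc₁⟩ := hφ (algebraMap D₀ (Localization.Away f) x)
    obtain ⟨c₂, hc₂⟩ := hφ (algebraMap D₀ (Localization.Away f) (t : D₀))
    have h1 : g₀ c₁ = algebraMap D₀ D x := by
      change ψ (φ c₁) = _
      rw [hc₁, hψ]
    have h2 : g₀ c₂ = algebraMap D₀ D (t : D₀) := by
      change ψ (φ c₂) = _
      rw [hc₂, hψ]
    have htu : IsUnit (algebraMap D₀ D (t : D₀)) := IsLocalization.map_units D t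
    have hc₂q : c₂ ∈ q.primeCompl := by
      intro hmem
      have : g₀ c₂ ∈ maximalIdeal D := hmem
      rw [h2] at this
      exact this htu
    refine ⟨IsLocalization.mk' (Localization.AtPrime q) c₁ ⟨c₂, hc₂q⟩, ?_⟩
    have h3 : g (IsLocalization.mk' (Localization.AtPrime q) c₁ ⟨c₂, hc₂q⟩) *
        algebraMap D₀ D (t : D₀) = d * algebraMap D₀ D (t : D₀) := by
      rw [hxt, ← h2, ← hg c₂, ← map_mul, IsLocalization.mk'_spec, hg, h1]
    exact htu.mul_left_injective h3
  · constructor
    intro x hx
    obtain ⟨c, s, rfl⟩ := IsLocalization.exists_mk'_eq q.primeCompl x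
    have h3 : g (IsLocalization.mk' (Localization.AtPrime q) c s) * g₀ s = g₀ c := by
      rw [← hg (s : P.Ring), ← map_mul, IsLocalization.mk'_spec, hg]
    have hcu : IsUnit (g₀ c) := by
      rw [← h3]
      exact IsUnit.mul hx (hgu s)
    have hcq : c ∈ q.primeCompl := by
      intro hmem
      exact hmem hcu
    have h4 : IsUnit (algebraMap P.Ring (Localization.AtPrime q) c) :=
      IsLocalization.map_units (Localization.AtPrime q) ⟨c, hcq⟩
    have h5 : IsLocalization.mk' (Localization.AtPrime q) c s *
        algebraMap P.Ring (Localization.AtPrime q) s = algebraMap P.Ring _ c :=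
      IsLocalization.mk'_spec _ c s
    exact isUnit_of_mul_isUnit_left (h5 ▸ h4)

end Unram

section Main

variable (A S : Type u) [CommRing A] [IsLocalRing A]
    [CommRing S] [IsLocalRing S] [Algebra A S] [IsLocalHom (algebraMap A S)]
    [Hensel.IsStrictHenselization A S] (D : Subalgebra A S) [IsLocalRing D]
    [IsLocalHom (algebraMap D S)] [Algebra.EssFiniteType A D]

theorem isLocalHom_algebraMap_subalgebra : IsLocalHom (algebraMap A D) := by
  constructor
  intro a ha
  have h1 : IsUnit (algebraMap D S (algebraMap A D a)) := ha.map _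
  rw [← IsScalarTower.algebraMap_apply A D S] at h1
  exact isUnit_of_map_unit (algebraMap A S) a h1

/-- A local subalgebra of the strict henselization, dominated by it, essentially of finite type
and with `m_A D = m_D`, is essentially étale. -/
theorem isEssentiallyEtale_subalgebra
    (hm : Ideal.map (algebraMap A D) (maximalIdeal A) = maximalIdeal D) :
    EGA4loc.IsEssentiallyEtale A D := by
  haveI := isLocalHom_algebraMap_subalgebra A S D
  haveI hsepc : IsSepClosure (ResidueField A) (ResidueField S) :=
    Hensel.IsStrictHenselization.isSepClosure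
  haveI : Algebra.IsSeparable (ResidueField A) (ResidueField S) := hsepc.separable
  haveI : Algebra.IsSeparable (ResidueField A) (ResidueField D) :=
    Algebra.isSeparable_tower_bot_of_isSeparable (ResidueField A) (ResidueField D)
      (ResidueField S)
  haveI : Algebra.FormallyUnramified A D := Algebra.FormallyUnramified.of_map_maximalIdeal hm
  obtain ⟨C, _, _, q, _, hEt, hq, g, hgs, hgl⟩ := exists_essEtale_surjection A D
  have hE : EGA4loc.IsEssentiallyEtale A (Localization.AtPrime q) :=
    ⟨C, _, _, q, _, hEt, hq, ⟨AlgEquiv.refl⟩⟩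
  let h : Localization.AtPrime q →ₐ[A] S := D.val.comp g
  haveI : IsLocalHom h.toRingHom := by
    constructor
    intro x hx
    have h1 : IsUnit (algebraMap D S (g x)) := hx
    have h2 : IsUnit (g x) := isUnit_of_map_unit (algebraMap D S) _ h1
    exact hgl.map_nonunit x h2
  have hinj := injective_of_local A S (Localization.AtPrime q) hE h
  have hginj : Function.Injective g := by
    intro x y hxy
    apply hinj
    change (g x : S) = g y
    rw [hxy]
  exact ⟨C, _, _, q, _, hEt, hq, ⟨(AlgEquiv.ofBijective g ⟨hginj, hgs⟩).symm⟩⟩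

end Main

end Groth.Agent.Lib.T2H1.ShInj
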