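import Mathlib
import Groth.Prelude.Def_EssEt
import Groth.Prelude.Def_Hensel
import Groth.Agent.Lib.T2H1EssEtFrac
import Groth.Agent.Lib.T2H1ShInj

/-!
# Intermediate rings of the strict henselization with finitely generated total ring of fractions
(helper1, team 2)
-/

set_option autoImplicit false
universe u
open IsLocalRing

namespace Groth.Agent.Lib.T2H1.EssEtInter

open Groth.Agent.Lib.T2H1.EssEtFrac

attribute [local instance] Groth.Agent.Lib.T2H1.EssEtFrac.fracAlgebra

section NZD

variable (A E : Type u) [CommRing A] [IsReduced A] [CommRing E] [Algebra A E]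
  [Module.Flat A E] [Algebra.QuasiFinite A E] (hmin : (minimalPrimes A).Finite)
  {D : Type u} [CommRing D] [Algebra A D] (ι : D →ₐ[A] E) (hι : Function.Injective ι)

include hmin hι

/-- A non-zero-divisor of a subring `D` (containing `A`) of a flat quasi-finite algebra `E` over
a reduced ring `A` with finitely many minimal primes is a non-zero-divisor of `E`. -/
theorem map_mem_nonZeroDivisors (d : D) (hd : d ∈ nonZeroDivisors D) :
    ι d ∈ nonZeroDivisors E := by
  classical
  haveI := isArtinianRing_fractionRing A hmin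
  haveI := isScalarTower_frac A E
  haveI := finite_frac A E hmin
  let K := FractionRing E
  let img : D →+* K := (algebraMap E K).comp ι.toRingHom
  have himg_inj : Function.Injective img :=
    (IsFractionRing.injective E K).comp hι
  have himgA : ∀ a : A, img (algebraMap A D a) = algebraMap A K a := by
    intro a
    change algebraMap E K (ι (algebraMap A D a)) = _
    rw [ι.commutes, ← IsScalarTower.algebraMap_apply]
  -- the `K_A`-subalgebra generated by the image of `D`
  let L : Subalgebra (FractionRing A) K :=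
    { carrier := {z | ∃ b ∈ nonZeroDivisors A, ∃ y : D, algebraMap A K b * z = img y}
      mul_mem' := by
        rintro z z' ⟨b, hb, y, hy⟩ ⟨b', hb', y', hy'⟩
        refine ⟨b * b', mul_mem hb hb', y * y', ?_⟩
        rw [map_mul, map_mul, ← hy, ← hy']
        ring
      add_mem' := by
        rintro z z' ⟨b, hb, y, hy⟩ ⟨b', hb', y', hy'⟩
        refine ⟨b * b', mul_mem hb hb', algebraMap A D b' * y + algebraMap A D b * y', ?_⟩
        simp only [map_add, map_mul, himgA]
        rw [← hy, ← hy']
        ring
      algebraMap_mem' := by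
        intro c
        obtain ⟨a, s, rfl⟩ := IsLocalization.exists_mk'_eq (nonZeroDivisors A) c
        refine ⟨s, s.2, algebraMap A D a, ?_⟩
        rw [himgA, IsScalarTower.algebraMap_apply A (FractionRing A) K s,
          ← map_mul, mul_comm, IsLocalization.mk'_spec,
          ← IsScalarTower.algebraMap_apply A (FractionRing A) K] }
  haveI : IsNoetherian (FractionRing A) K := isNoetherian_of_isNoetherianRing_of_finite _ K
  haveI : Module.Finite (FractionRing A) L :=
    Module.Finite.of_injective L.val.toLinearMap Subtype.val_injective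
  haveI : IsArtinianRing L := IsArtinianRing.of_finite (FractionRing A) L
  have hδL : img d ∈ L := ⟨1, one_mem _, d, by rw [map_one, one_mul]⟩
  have hnz : (⟨img d, hδL⟩ : L) ∈ nonZeroDivisors L := by
    rw [mem_nonZeroDivisors_iff_right]
    rintro ⟨z, b, hb, y, hy⟩ hz
    have h1 : z * img d = 0 := congrArg Subtype.val hz
    have h2 : img (y * d) = 0 := by
      rw [map_mul, ← hy, mul_assoc, h1, mul_zero]
    have h3 : y * d = 0 := himg_inj (by rw [h2, map_zero])
    have h4 : y = 0 := (mem_nonZeroDivisors_iff_right.mp hd) y h3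
    have h5 : algebraMap A K b * z = 0 := by rw [hy, h4, map_zero]
    have h6 : z = 0 := (isUnit_algebraMap A E ⟨b, hb⟩).mul_right_eq_zero.mp h5
    exact Subtype.ext h6
  have hunit : IsUnit (⟨img d, hδL⟩ : L) := IsArtinianRing.isUnit_of_mem_nonZeroDivisors hnz
  have hunitK : IsUnit (img d) := hunit.map L.val
  rw [mem_nonZeroDivisors_iff_right]
  intro x hx
  have h1 : algebraMap E K x * img d = 0 := by
    change algebraMap E K x * algebraMap E K (ι d) = 0
    rw [← map_mul, hx, map_zero]
  have h2 : algebraMap E K x = 0 := hunitK.mul_left_eq_zero.mp h1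
  exact IsFractionRing.injective E K (by rw [h2, map_zero])

end NZD

section FiniteGen

/-- Finite generation "up to denominators" of a finite module over the total ring of fractions. -/
theorem exists_finset_span_of_finite (A K : Type*) [CommRing A] [CommRing K] [Algebra A K]
    [Algebra (FractionRing A) K] [IsScalarTower A (FractionRing A) K]
    [Module.Finite (FractionRing A) K] :
    ∃ t : Finset K, ∀ x : K, ∃ a ∈ nonZeroDivisors A,
      algebraMap A K a * x ∈ Submodule.span A (t : Set K) := by
  classical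
  obtain ⟨t, ht⟩ := (Module.Finite.fg_top : (⊤ : Submodule (FractionRing A) K).FG)
  refine ⟨t, fun x => ?_⟩
  have hx : x ∈ Submodule.span (FractionRing A) (t : Set K) := ht ▸ Submodule.mem_top
  rw [Submodule.mem_span_finset] at hx
  obtain ⟨c, -, hc⟩ := hx
  obtain ⟨b, hb⟩ := IsLocalization.exist_integer_multiples (nonZeroDivisors A) t c
  refine ⟨b, b.2, ?_⟩
  rw [← hc, ← Algebra.smul_def, Finset.smul_sum]
  refine Submodule.sum_mem _ (fun i hi => ?_)
  obtain ⟨a, ha⟩ := hb i hi
  rw [← smul_assoc, ← ha, algebraMap_smul]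
  exact Submodule.smul_mem _ _ (Submodule.subset_span hi)

variable (A E : Type u) [CommRing A] [IsReduced A] [CommRing E] [Algebra A E]
  [Module.Flat A E] [Algebra.QuasiFinite A E] (hmin : (minimalPrimes A).Finite)
  {D : Type u} [CommRing D] [Algebra A D] (ι : D →ₐ[A] E) (hι : Function.Injective ι)

include hmin hι

set_option maxHeartbeats 800000 in
/-- The total ring of fractions of a subring `D ⊇ A` of `E` is finitely generated over that of
`A`, up to denominators. -/
theorem exists_finset_span_of_injective :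
    ∃ t : Finset (FractionRing D), ∀ x : FractionRing D, ∃ a ∈ nonZeroDivisors A,
      algebraMap A (FractionRing D) a * x ∈ Submodule.span A (t : Set (FractionRing D)) := by
  classical
  haveI := isArtinianRing_fractionRing A hmin
  haveI := isScalarTower_frac A E
  haveI := finite_frac A E hmin
  have hle : nonZeroDivisors D ≤ (nonZeroDivisors E).comap ι.toRingHom :=
    fun d hd => map_mem_nonZeroDivisors A E hmin ι hι d hd
  let φ : FractionRing D →+* FractionRing E := IsLocalization.map (FractionRing E) ι.toRingHom hle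
  have hφ : ∀ d : D, φ (algebraMap D (FractionRing D) d) = algebraMap E (FractionRing E) (ι d) :=
    fun d => IsLocalization.map_eq hle d
  have hφinj : Function.Injective φ := by
    rw [injective_iff_map_eq_zero]
    intro x hx
    obtain ⟨d, s, rfl⟩ := IsLocalization.exists_mk'_eq (nonZeroDivisors D) x
    have h1 : φ (IsLocalization.mk' (FractionRing D) d s) * φ (algebraMap D (FractionRing D) s) =
        φ (algebraMap D (FractionRing D) d) := by
      rw [← map_mul, IsLocalization.mk'_spec]
    rw [hx, zero_mul, hφ] at h1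
    have h2 : ι d = 0 := IsFractionRing.injective E (FractionRing E) (by rw [← h1, map_zero])
    have h3 : d = 0 := hι (by rw [h2, map_zero])
    rw [h3, IsLocalization.mk'_zero]
  have hφA : ∀ a : A, φ (algebraMap A (FractionRing D) a) = algebraMap A (FractionRing E) a := by
    intro a
    rw [IsScalarTower.algebraMap_apply A D (FractionRing D), hφ, ι.commutes,
      ← IsScalarTower.algebraMap_apply]
  have hunits : ∀ a : nonZeroDivisors A, IsUnit (algebraMap A (FractionRing D) a) := by
    intro a
    rw [IsScalarTower.algebraMap_apply A D (FractionRing D)]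
    refine IsLocalization.map_units (FractionRing D) (⟨algebraMap A D a, ?_⟩ : nonZeroDivisors D)
    rw [mem_nonZeroDivisors_iff_right]
    intro x hx
    have h1 : ι x * algebraMap A E a = 0 := by
      rw [← ι.commutes, ← map_mul, hx, map_zero]
    have h2 : ι x = 0 :=
      (mem_nonZeroDivisors_iff_right.mp (M_le A E ⟨a, a.2, rfl⟩)) _ h1
    exact hι (by rw [h2, map_zero])
  letI algKD : Algebra (FractionRing A) (FractionRing D) := (IsLocalization.lift hunits).toAlgebra
  haveI : IsScalarTower A (FractionRing A) (FractionRing D) :=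
    IsScalarTower.of_algebraMap_eq (fun a => (IsLocalization.lift_eq hunits a).symm)
  have hφK : ∀ c : FractionRing A,
      φ (algebraMap (FractionRing A) (FractionRing D) c) =
        algebraMap (FractionRing A) (FractionRing E) c := by
    intro c
    have : (φ.comp (algebraMap (FractionRing A) (FractionRing D))) =
        algebraMap (FractionRing A) (FractionRing E) := by
      apply IsLocalization.ringHom_ext (nonZeroDivisors A)
      ext a
      rw [RingHom.comp_apply, RingHom.comp_apply, RingHom.comp_apply,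
        ← IsScalarTower.algebraMap_apply A (FractionRing A) (FractionRing D), hφA,
        ← IsScalarTower.algebraMap_apply A (FractionRing A) (FractionRing E)]
    exact RingHom.congr_fun this c
  let φl : FractionRing D →ₗ[FractionRing A] FractionRing E :=
    { toFun := φ
      map_add' := map_add φ
      map_smul' := by
        intro c x
        rw [Algebra.smul_def, Algebra.smul_def, map_mul, hφK]
        rfl }
  haveI : IsNoetherian (FractionRing A) (FractionRing E) :=
    isNoetherian_of_isNoetherianRing_of_finite _ _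
  haveI : Module.Finite (FractionRing A) (FractionRing D) := Module.Finite.of_injective φl hφinj
  exact exists_finset_span_of_finite A (FractionRing D)

end FiniteGen

section Stage

open Groth.Agent.Lib.Helper3 Groth.Agent.Lib.Helper3.Sh

variable {A : Type u} [CommRing A] [IsLocalRing A] {Ω : Type u} [Field Ω] [Algebra A Ω]
  [Algebra (ResidueField A) Ω] [IsScalarTower A (ResidueField A) Ω]
  [IsSepClosure (ResidueField A) Ω]
  {S : Type u} [CommRing S] [Algebra A S] (e : S ≃ₐ[A] Rsh A Ω) (i : Idx A Ω)

/-- The stage map into (a model `S` of) the strict henselization. -/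
noncomputable def ρ : i.L →ₐ[A] S := (e.symm : Rsh A Ω →ₐ[A] S).comp (ofLₐ i)

theorem ρ_apply (l : i.L) : ρ e i l = e.symm (ofL i l) := rfl

theorem e_ρ (l : i.L) : e (ρ e i l) = ofL i l := by
  rw [ρ_apply, AlgEquiv.apply_symm_apply]

theorem ρ_injective : Function.Injective (ρ e i) := by
  intro l₁ l₂ h
  rw [ρ_apply, ρ_apply] at h
  exact Groth.Agent.Lib.T2H2.ShRed.ofL_injective i (e.symm.injective h)

theorem isUnit_of_isUnit_ρ (l : i.L) (h : IsUnit (ρ e i l)) : IsUnit l := by
  have h1 : IsUnit (e (ρ e i l)) := h.map e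
  rw [e_ρ] at h1
  exact (isUnit_map_iff (ofL i) l).1 h1

theorem ρ_mem_nonZeroDivisors (l : i.L) (hl : l ∈ nonZeroDivisors i.L) :
    ρ e i l ∈ nonZeroDivisors S := by
  letI := (ofL (R := A) (Ω := Ω) i).toAlgebra
  haveI : Module.Flat i.L (Rsh A Ω) := flat_over_L i
  have hreg : IsSMulRegular (Rsh A Ω) l := Module.Flat.isSMulRegular_of_nonZeroDivisors hl
  rw [mem_nonZeroDivisors_iff_right]
  intro x hx
  have h1 : e x * ofL i l = 0 := by rw [← e_ρ e i l, ← map_mul, hx, map_zero]
  have h2 : l • e x = l • (0 : Rsh A Ω) := by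
    rw [smul_zero, Algebra.smul_def, mul_comm]
    exact h1
  have h3 : e x = 0 := hreg h2
  exact e.injective (by rw [h3, map_zero])

theorem exists_of_mul_eq (u x : i.L) (z : S) (hu : ρ e i u ∈ nonZeroDivisors S)
    (h : ρ e i u * z = ρ e i x) : ∃ x' : i.L, ρ e i x' = z := by
  letI := (ofL (R := A) (Ω := Ω) i).toAlgebra
  haveI : Module.Flat i.L (Rsh A Ω) := flat_over_L i
  haveI : IsLocalHom (algebraMap i.L (Rsh A Ω)) := inferInstanceAs (IsLocalHom (ofL i))
  haveI : Module.FaithfullyFlat i.L (Rsh A Ω) := Module.FaithfullyFlat.of_flat_of_isLocalHom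
  have h1 : ofL i u * e z = ofL i x := by rw [← e_ρ e i u, ← map_mul, h, e_ρ]
  have h2 : x ∈ ((Ideal.span {u}).map (algebraMap i.L (Rsh A Ω))).comap
      (algebraMap i.L (Rsh A Ω)) := by
    rw [Ideal.mem_comap, Ideal.map_span, Set.image_singleton, Ideal.mem_span_singleton]
    exact ⟨e z, h1.symm⟩
  rw [Ideal.comap_map_eq_self_of_faithfullyFlat, Ideal.mem_span_singleton] at h2
  obtain ⟨x', rfl⟩ := h2
  refine ⟨x', ?_⟩
  have h3 : ρ e i u * (z - ρ e i x') = 0 := by
    rw [mul_sub, h, map_mul, sub_self]
  have h4 : z - ρ e i x' = 0 := by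
    rw [mul_comm] at h3
    exact (mem_nonZeroDivisors_iff_right.mp hu) _ h3
  exact (sub_eq_zero.mp h4).symm

theorem exists_stage (F : Finset S) : ∃ i : Idx A Ω, ∀ x ∈ F, x ∈ (ρ e i).range := by
  classical
  obtain ⟨i, x', hx'⟩ := exists_ofL_fin (fun k : Fin F.card => e ((F.equivFin.symm k : F) : S))
  refine ⟨i, fun x hx => ⟨x' (F.equivFin ⟨x, hx⟩), ?_⟩⟩
  change ρ e i (x' (F.equivFin ⟨x, hx⟩)) = x
  rw [ρ_apply, hx', Equiv.symm_apply_apply, AlgEquiv.symm_apply_apply]

/-- The range of a stage map is a local essentially étale subalgebra. -/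
theorem range_isEssentiallyEtale :
    ∃ _ : IsLocalRing (ρ e i).range, EGA4loc.IsEssentiallyEtale A (ρ e i).range := by
  let eE : i.L ≃ₐ[A] (ρ e i).range := AlgEquiv.ofInjective (ρ e i) (ρ_injective e i)
  refine ⟨eE.toRingEquiv.isLocalRing, ?_⟩
  obtain ⟨C, _, _, q, _, hEt, hq, ⟨e'⟩⟩ := i.isEssentiallyEtale
  exact ⟨C, inferInstance, inferInstance, q, inferInstance, hEt, hq, ⟨eE.symm.trans e'⟩⟩

end Stage

section Main

open Groth.Agent.Lib.Helper3 Groth.Agent.Lib.Helper3.Sh

variable {A S : Type u} [CommRing A] [IsLocalRing A] [IsReduced A]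
  (hmin : (minimalPrimes A).Finite)
  [CommRing S] [Algebra A S] (D : Subalgebra A S)
  {Ω : Type u} [Field Ω] [Algebra A Ω]
  [Algebra (ResidueField A) Ω] [IsScalarTower A (ResidueField A) Ω]
  [IsSepClosure (ResidueField A) Ω] (e : S ≃ₐ[A] Rsh A Ω)

include hmin e

/-- A non-zero-divisor of an intermediate ring `A ⊆ D ⊆ S` is a non-zero-divisor of the strict
henselization `S`. -/
theorem coe_mem_nonZeroDivisors (d : D) (hd : d ∈ nonZeroDivisors D) :
    (d : S) ∈ nonZeroDivisors S := by
  classical
  obtain ⟨i, hi⟩ := exists_stage e {(d : S)}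
  obtain ⟨l₀, hl₀⟩ := hi _ (Finset.mem_singleton_self _)
  have hl₀' : ρ e i l₀ = (d : S) := hl₀
  haveI : Algebra.QuasiFinite A i.L := quasiFinite A i.L i.isEssentiallyEtale
  let D₀ : Subalgebra A i.L := D.comap (ρ e i)
  have hmem : l₀ ∈ D₀ := by
    change ρ e i l₀ ∈ D
    rw [hl₀']
    exact d.2
  have hnz : (⟨l₀, hmem⟩ : D₀) ∈ nonZeroDivisors D₀ := by
    rw [mem_nonZeroDivisors_iff_right]
    rintro ⟨y, hy⟩ hyl
    have h1 : y * l₀ = 0 := congrArg Subtype.val hyl
    have h2 : (⟨ρ e i y, hy⟩ : D) * d = 0 := by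
      apply Subtype.ext
      change ρ e i y * (d : S) = 0
      rw [← hl₀', ← map_mul, h1, map_zero]
    have h3 : (⟨ρ e i y, hy⟩ : D) = 0 := (mem_nonZeroDivisors_iff_right.mp hd) _ h2
    have h4 : ρ e i y = 0 := congrArg Subtype.val h3
    have h5 : y = 0 := ρ_injective e i (by rw [h4, map_zero])
    exact Subtype.ext h5
  have h6 : l₀ ∈ nonZeroDivisors i.L :=
    map_mem_nonZeroDivisors A i.L hmin D₀.val Subtype.val_injective ⟨l₀, hmem⟩ hnz
  rw [← hl₀']
  exact ρ_mem_nonZeroDivisors e i l₀ h6

set_option maxHeartbeats 800000 in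
theorem le_range_of_fg [Module.Flat A S] (t : Finset (FractionRing D))
    (ht : ∀ x : FractionRing D, ∃ a ∈ nonZeroDivisors A,
      algebraMap A (FractionRing D) a * x ∈ Algebra.adjoin A (t : Set (FractionRing D))) :
    ∃ i : Idx A Ω, D ≤ (ρ e i).range := by
  classical
  obtain ⟨b, hb⟩ := IsLocalization.exist_integer_multiples_of_finset (nonZeroDivisors D) t
  choose! δ hδ using hb
  let F : Finset S := insert ((b : D) : S) (t.image (fun x => ((δ x : D) : S)))
  obtain ⟨i, hi⟩ := exists_stage e F
  refine ⟨i, ?_⟩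
  have hbE : ((b : D) : S) ∈ (ρ e i).range := hi _ (Finset.mem_insert_self _ _)
  have hδE : ∀ x ∈ t, ((δ x : D) : S) ∈ (ρ e i).range := fun x hx =>
    hi _ (Finset.mem_insert_of_mem (Finset.mem_image_of_mem _ hx))
  have hbpow : ∀ N : ℕ, (((b : D) ^ N : D) : S) ∈ (ρ e i).range := by
    intro N
    rw [Subalgebra.coe_pow]
    exact pow_mem hbE N
  have hW : ∀ x ∈ Algebra.adjoin A (t : Set (FractionRing D)),
      ∃ (N : ℕ) (y : D), (y : S) ∈ (ρ e i).range ∧
        ((b : D) ^ N) • x = algebraMap D (FractionRing D) y := by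
    intro x hx
    induction hx using Algebra.adjoin_induction with
    | mem x hx => exact ⟨1, δ x, hδE x hx, by rw [pow_one, hδ x hx]⟩
    | algebraMap a =>
      refine ⟨0, algebraMap A D a, (ρ e i).range.algebraMap_mem a, ?_⟩
      rw [pow_zero, one_smul, ← IsScalarTower.algebraMap_apply A D (FractionRing D)]
    | add x y _ _ hx hy =>
      obtain ⟨N, y1, h1, h1'⟩ := hx
      obtain ⟨M, y2, h2, h2'⟩ := hy
      refine ⟨N + M, (b : D) ^ M * y1 + (b : D) ^ N * y2, ?_, ?_⟩
      · rw [Subalgebra.coe_add, Subalgebra.coe_mul, Subalgebra.coe_mul]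
        exact add_mem (mul_mem (hbpow M) h1) (mul_mem (hbpow N) h2)
      · rw [map_add, map_mul, map_mul, ← h1', ← h2', smul_add, Algebra.smul_def,
          Algebra.smul_def, Algebra.smul_def, Algebra.smul_def, pow_add, map_mul]
        ring
    | mul x y _ _ hx hy =>
      obtain ⟨N, y1, h1, h1'⟩ := hx
      obtain ⟨M, y2, h2, h2'⟩ := hy
      refine ⟨N + M, y1 * y2, ?_, ?_⟩
      · rw [Subalgebra.coe_mul]
        exact mul_mem h1 h2
      · rw [map_mul, ← h1', ← h2', Algebra.smul_def, Algebra.smul_def, Algebra.smul_def,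
          pow_add, map_mul]
        ring
  intro d hd
  obtain ⟨a, ha, hax⟩ := ht (algebraMap D (FractionRing D) ⟨d, hd⟩)
  obtain ⟨N, y, hyE, hy⟩ := hW _ hax
  have h1 : (b : D) ^ N * (algebraMap A D a * ⟨d, hd⟩) = y := by
    apply IsFractionRing.injective D (FractionRing D)
    rw [map_mul, map_mul, ← hy, Algebra.smul_def,
      ← IsScalarTower.algebraMap_apply A D (FractionRing D)]
  have h2 : (((b : D) ^ N : D) : S) * algebraMap A S a * d = (y : S) := by
    have := congrArg (fun z : D => (z : S)) h1
    simp only [Subalgebra.coe_mul] at this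
    rw [mul_assoc]
    exact this
  obtain ⟨lu, hlu⟩ : (((b : D) ^ N : D) : S) * algebraMap A S a ∈ (ρ e i).range :=
    mul_mem (hbpow N) ((ρ e i).range.algebraMap_mem a)
  obtain ⟨ly, hly⟩ := hyE
  have hlu' : ρ e i lu = (((b : D) ^ N : D) : S) * algebraMap A S a := hlu
  have hly' : ρ e i ly = (y : S) := hly
  have hnz : ρ e i lu ∈ nonZeroDivisors S := by
    rw [hlu']
    refine mul_mem ?_ (M_le A S ⟨a, ha, rfl⟩)
    exact coe_mem_nonZeroDivisors hmin D e _ (pow_mem b.2 N)
  obtain ⟨x', hx'⟩ := exists_of_mul_eq e i lu ly d hnz (by rw [hlu', hly', h2])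
  exact ⟨x', hx'⟩

end Main

end Groth.Agent.Lib.T2H1.EssEtInter
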