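import Mathlib
import Groth.Prelude.Def_PBC
import Groth.Prelude.Def_ProEtW
import Groth.Agent.Lib.T2H1CoprFF
import Groth.Agent.Lib.Helper3IndEtComp

set_option autoImplicit false
universe u

open TensorProduct CategoryTheory Limits

namespace Groth.Agent.Lib.T2H1.EtTower

open Groth.Agent.Lib.T2H1.Copr Groth.Agent.Lib.Helper3.IndEt

section TT

variable (R : Type u) [CommRing R]

/-- Presentations of faithfully flat étale algebras. -/
def S : Type u := {q : Pres R // Algebra.Etale R q.Alg ∧ Module.FaithfullyFlat R q.Alg}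

instance (q : S R) : Algebra.Etale R q.1.Alg := q.2.1

instance (q : S R) : Module.FaithfullyFlat R q.1.Alg := q.2.2

/-- The coproduct of all faithfully flat étale algebras. -/
abbrev TT : Type u := Copr (fun q : S R => q.1)

theorem TT_isIndEtale : EtPBC.IsIndEtale R (TT R) := Copr.isIndEtale _

theorem TT_faithfullyFlat : Module.FaithfullyFlat R (TT R) := Copr.faithfullyFlat _

variable {R}

theorem exists_algHom_TT (B : Type u) [CommRing B] [Algebra R B] [Algebra.Etale R B]
    [Module.FaithfullyFlat R B] : Nonempty (B →ₐ[R] TT R) := by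
  obtain ⟨n, f, hf, -⟩ := Algebra.FinitePresentation.out (R := R) (A := B)
  let e := Ideal.quotientKerAlgEquivOfSurjective hf
  let q : Pres R := ⟨n, RingHom.ker f⟩
  have h1 : Algebra.Etale R q.Alg := Algebra.Etale.of_equiv e.symm
  have h2 : Module.FaithfullyFlat R q.Alg :=
    Module.FaithfullyFlat.of_linearEquiv R B e.toLinearEquiv
  exact ⟨(inc (fun q : S R => q.1) ⟨q, h1, h2⟩).comp (e.symm : B →ₐ[R] q.Alg)⟩

end TT

section Good

/-- A ring map is good if it is faithfully flat and ind-étale. -/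
def Good {R S : Type u} [CommRing R] [CommRing S] (f : R →+* S) : Prop :=
  @EtPBC.IsIndEtale R S _ _ f.toAlgebra ∧ @Module.FaithfullyFlat R S _ _ f.toAlgebra.toModule

theorem good_algebraMap (R S : Type u) [CommRing R] [CommRing S] [Algebra R S]
    (h : EtPBC.IsIndEtale R S) (h' : Module.FaithfullyFlat R S) : Good (algebraMap R S) := by
  have : (algebraMap R S).toAlgebra = ‹Algebra R S› := Algebra.algebra_ext _ _ (fun _ => rfl)
  unfold Good
  rw [this]
  exact ⟨h, h'⟩

theorem good_id (R : Type u) [CommRing R] : Good (RingHom.id R) := by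
  have h := good_algebraMap R R (isIndEtale_of_etale R R) inferInstance
  exact h

theorem good_comp {R S T : Type u} [CommRing R] [CommRing S] [CommRing T] {f : R →+* S}
    {g : S →+* T} (hf : Good f) (hg : Good g) : Good (g.comp f) := by
  letI := f.toAlgebra
  letI := g.toAlgebra
  letI := (g.comp f).toAlgebra
  haveI : IsScalarTower R S T := IsScalarTower.of_algebraMap_eq (fun _ => rfl)
  haveI : Module.FaithfullyFlat R S := hf.2
  haveI : Module.FaithfullyFlat S T := hg.2
  exact ⟨isIndEtale_comp R S T hf.1 hg.1, Module.FaithfullyFlat.trans R S T⟩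

theorem Good.injective {R S : Type u} [CommRing R] [CommRing S] {f : R →+* S} (hf : Good f) :
    Function.Injective f := by
  letI := f.toAlgebra
  haveI : Module.FaithfullyFlat R S := hf.2
  exact FaithfulSMul.algebraMap_injective R S

end Good

section Tower

variable (A : Type u) [CommRing A]

/-- The tower of rings. -/
noncomputable def seqObj : ℕ → CommRingCat.{u}
  | 0 => CommRingCat.of A
  | n+1 => CommRingCat.of (TT (seqObj n))

/-- The transition maps. -/
noncomputable def seqMap (n : ℕ) : seqObj A n ⟶ seqObj A (n+1) :=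
  CommRingCat.ofHom (algebraMap (seqObj A n) (TT (seqObj A n)))

/-- The tower as a functor. -/
noncomputable def seqFunctor : ℕ ⥤ CommRingCat.{u} := Functor.ofSequence (seqMap A)

/-- The colimit of the tower. -/
noncomputable abbrev colim : CommRingCat.{u} := colimit (seqFunctor A)

/-- Transition maps between arbitrary stages. -/
noncomputable def tr (m n : ℕ) (h : m ≤ n) : seqObj A m →+* seqObj A n :=
  ((seqFunctor A).map (homOfLE h)).hom

theorem tr_self (n : ℕ) : tr A n n le_rfl = RingHom.id _ := by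
  unfold tr
  have : (homOfLE (le_refl n)) = 𝟙 n := rfl
  rw [this, (seqFunctor A).map_id]
  rfl

theorem tr_trans (l m n : ℕ) (h : l ≤ m) (h' : m ≤ n) :
    (tr A m n h').comp (tr A l m h) = tr A l n (h.trans h') := by
  unfold tr
  have : homOfLE (h.trans h') = homOfLE h ≫ homOfLE h' := rfl
  rw [this, (seqFunctor A).map_comp]
  rfl

theorem tr_succ (n : ℕ) : tr A n (n+1) (Nat.le_succ n) = algebraMap (seqObj A n) (TT (seqObj A n)) := by
  unfold tr
  have h2 : (seqFunctor A).map (homOfLE (Nat.le_add_right n 1)) = seqMap A n :=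
    Functor.ofSequence_map_homOfLE_succ _ n
  exact congrArg CommRingCat.Hom.hom h2

theorem good_tr (m n : ℕ) (h : m ≤ n) : Good (tr A m n h) := by
  induction n, h using Nat.le_induction with
  | base =>
    rw [tr_self]
    exact good_id _
  | succ n h ih =>
    rw [← tr_trans A m n (n+1) h (Nat.le_succ n), tr_succ]
    exact good_comp ih (good_algebraMap (seqObj A n) (TT (seqObj A n)) (TT_isIndEtale _)
      (TT_faithfullyFlat _))

instance : PreservesColimit (seqFunctor A) (forget CommRingCat.{u}) := by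
  have : PreservesFilteredColimitsOfSize.{0, 0} (forget CommRingCat.{u}) :=
    preservesSmallestFilteredColimits_of_preservesFilteredColimits _
  infer_instance

/-- The canonical maps to the colimit. -/
noncomputable def ι' (n : ℕ) : seqObj A n →+* colim A := (colimit.ι (seqFunctor A) n).hom

theorem ι'_tr (m n : ℕ) (h : m ≤ n) : (ι' A n).comp (tr A m n h) = ι' A m := by
  have h1 := colimit.w (seqFunctor A) (homOfLE h)
  exact congrArg CommRingCat.Hom.hom h1

theorem ι'_tr_apply (m n : ℕ) (h : m ≤ n) (x : seqObj A m) :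
    ι' A n (tr A m n h x) = ι' A m x := congr($(ι'_tr A m n h) x)

theorem ι'_injective (n : ℕ) : Function.Injective (ι' A n) := by
  intro x y hxy
  obtain ⟨k, f, g, hfg⟩ := Concrete.colimit_exists_of_rep_eq (seqFunctor A) x y hxy
  have : f = g := Subsingleton.elim _ _
  subst this
  exact (good_tr A n k (leOfHom f)).injective hfg

theorem ι'_exists_rep (x : colim A) : ∃ (n : ℕ) (y : seqObj A n), ι' A n y = x :=
  Concrete.colimit_exists_rep (seqFunctor A) x

theorem ι'_exists_rep_ge (N : ℕ) (x : colim A) : ∃ (n : ℕ) (_ : N ≤ n) (y : seqObj A n),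
    ι' A n y = x := by
  obtain ⟨n, y, hy⟩ := ι'_exists_rep A x
  refine ⟨max N n, le_max_left _ _, tr A n (max N n) (le_max_right _ _) y, ?_⟩
  rw [ι'_tr_apply, hy]

end Tower

section Colim

variable (A : Type u) [CommRing A]

theorem map_tr_mem (n m m' : ℕ) (h : n ≤ m) (h' : m ≤ m') (J : Ideal (seqObj A n))
    (y : seqObj A m) (hy : y ∈ J.map (tr A n m h)) :
    tr A m m' h' y ∈ J.map (tr A n m' (h.trans h')) := by
  have := Ideal.mem_map_of_mem (tr A m m' h') hy
  rwa [Ideal.map_map, tr_trans] at this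

/-- Membership in an extended ideal of the colimit is witnessed at a finite stage. -/
theorem exists_stage_of_mem_map (n : ℕ) (J : Ideal (seqObj A n)) (c : colim A)
    (hc : c ∈ J.map (ι' A n)) :
    ∃ (m : ℕ) (h : n ≤ m) (y : seqObj A m), y ∈ J.map (tr A n m h) ∧ ι' A m y = c := by
  unfold Ideal.map at hc
  induction hc using Submodule.span_induction with
  | mem x hx =>
    obtain ⟨x₀, hx₀, rfl⟩ := hx
    exact ⟨n, le_rfl, tr A n n le_rfl x₀, Ideal.mem_map_of_mem _ hx₀, ι'_tr_apply A n n le_rfl x₀⟩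
  | zero => exact ⟨n, le_rfl, 0, Ideal.zero_mem _, map_zero _⟩
  | add x y _ _ hx hy =>
    obtain ⟨m₁, h₁, y₁, hy₁, rfl⟩ := hx
    obtain ⟨m₂, h₂, y₂, hy₂, rfl⟩ := hy
    refine ⟨max m₁ m₂, h₁.trans (le_max_left _ _),
      tr A m₁ _ (le_max_left _ _) y₁ + tr A m₂ _ (le_max_right _ _) y₂, ?_, ?_⟩
    · exact Ideal.add_mem _ (map_tr_mem A n m₁ _ h₁ _ J y₁ hy₁) (map_tr_mem A n m₂ _ h₂ _ J y₂ hy₂)
    · rw [map_add, ι'_tr_apply, ι'_tr_apply]
  | smul a x _ hx =>
    obtain ⟨m₁, h₁, y₁, hy₁, rfl⟩ := hx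
    obtain ⟨k, hk, z, rfl⟩ := ι'_exists_rep_ge A m₁ a
    refine ⟨k, h₁.trans hk, z * tr A m₁ k hk y₁, ?_, ?_⟩
    · exact Ideal.mul_mem_left _ _ (map_tr_mem A n m₁ k h₁ hk J y₁ hy₁)
    · rw [map_mul, ι'_tr_apply]
      rfl

/-- If an ideal of a stage generates the unit ideal in the colimit, it does so at a finite
stage. -/
theorem exists_stage_map_eq_top (n : ℕ) (J : Ideal (seqObj A n)) (h : J.map (ι' A n) = ⊤) :
    ∃ (m : ℕ) (h : n ≤ m), J.map (tr A n m h) = ⊤ := by
  have h1 : (1 : colim A) ∈ J.map (ι' A n) := by rw [h]; trivial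
  obtain ⟨m, hm, y, hy, hy1⟩ := exists_stage_of_mem_map A n J 1 h1
  have : y = 1 := ι'_injective A m (by rw [hy1, map_one])
  rw [this] at hy
  exact ⟨m, hm, (Ideal.eq_top_iff_one _).mpr hy⟩

end Colim

section G1

variable (A : Type u) [CommRing A]

/-- The structure map of the `n`-th stage. -/
noncomputable def a0 (n : ℕ) : A →+* seqObj A n := tr A 0 n (Nat.zero_le n)

/-- The structure map of the colimit. -/
noncomputable def aC : A →+* colim A := ι' A 0

theorem ι'_a0 (n : ℕ) (x : A) : ι' A n (a0 A n x) = aC A x :=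
  ι'_tr_apply A 0 n (Nat.zero_le n) x

theorem good_a0 (n : ℕ) : Good (a0 A n) := good_tr A 0 n (Nat.zero_le n)

/-- The `A`-algebra structure of the stages. -/
noncomputable local instance instAlgStage (n : ℕ) : Algebra A (seqObj A n) := (a0 A n).toAlgebra

/-- The `A`-algebra structure of the colimit. -/
noncomputable local instance instAlgColim : Algebra A (colim A) := (aC A).toAlgebra

/-- The canonical maps as algebra maps. -/
noncomputable def ιₐ (n : ℕ) : seqObj A n →ₐ[A] colim A :=
  { ι' A n with commutes' := ι'_a0 A n }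

theorem ιₐ_apply (n : ℕ) (x : seqObj A n) : ιₐ A n x = ι' A n x := rfl

theorem map_aC_ne_top (𝔪 : Ideal A) [h𝔪 : 𝔪.IsMaximal] : 𝔪.map (aC A) ≠ ⊤ := by
  intro h
  obtain ⟨m, hm, htop⟩ := exists_stage_map_eq_top A 0 𝔪 h
  haveI : Module.FaithfullyFlat A (seqObj A m) := (good_a0 A m).2
  obtain ⟨q, hq⟩ := PrimeSpectrum.comap_surjective_of_faithfullyFlat (B := seqObj A m)
    (⟨𝔪, h𝔪.isPrime⟩ : PrimeSpectrum A)
  have hle : 𝔪.map (algebraMap A (seqObj A m)) ≤ q.asIdeal := by
    rw [Ideal.map_le_iff_le_comap]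
    have := congrArg PrimeSpectrum.asIdeal hq
    exact this.ge
  have htop' : 𝔪.map (algebraMap A (seqObj A m)) = ⊤ := htop
  rw [htop'] at hle
  exact q.isPrime.ne_top (top_le_iff.mp hle)

set_option maxHeartbeats 1000000 in
theorem exists_factor_stage {P : Type u} [CommRing P] [Algebra A P]
    [Algebra.FinitePresentation A P] (ψ : P →ₐ[A] colim A) :
    ∃ (n : ℕ) (ψn : P →ₐ[A] seqObj A n), (ιₐ A n).comp ψn = ψ := by
  classical
  obtain ⟨k, π, hπ, -⟩ := Algebra.FinitePresentation.out (R := A) (A := P)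
  choose n y hy using fun i : Fin k => ι'_exists_rep A (ψ (π (MvPolynomial.X i)))
  let N := Finset.univ.sup n
  have hN : ∀ i, n i ≤ N := fun i => Finset.le_sup (Finset.mem_univ i)
  let y' : Fin k → seqObj A N := fun i => tr A (n i) N (hN i) (y i)
  let ev : MvPolynomial (Fin k) A →ₐ[A] seqObj A N := MvPolynomial.aeval y'
  have hev : (ιₐ A N).comp ev = ψ.comp π := by
    apply MvPolynomial.algHom_ext
    intro i
    show ι' A N (MvPolynomial.aeval y' (MvPolynomial.X i)) = ψ (π (MvPolynomial.X i))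
    rw [MvPolynomial.aeval_X, ← hy i]
    exact ι'_tr_apply A (n i) N (hN i) (y i)
  have hker : ∀ a ∈ RingHom.ker π, ev a = 0 := by
    intro a ha
    apply ι'_injective A N
    have h1 := congr($hev a)
    rw [AlgHom.comp_apply, AlgHom.comp_apply] at h1
    have ha' : π a = 0 := ha
    rw [ha', map_zero] at h1
    rw [map_zero]
    exact h1
  let e := Ideal.quotientKerAlgEquivOfSurjective hπ
  let ψN : P →ₐ[A] seqObj A N :=
    (Ideal.Quotient.liftₐ (RingHom.ker π) ev hker).comp (e.symm : P →ₐ[A] _)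
  refine ⟨N, ψN, ?_⟩
  apply AlgHom.ext
  intro p
  obtain ⟨q, rfl⟩ := hπ p
  have h1 : (e.symm : P →ₐ[A] _) (π q) = Ideal.Quotient.mk (RingHom.ker π) q := by
    apply e.injective
    show e (e.symm (π q)) = e (Ideal.Quotient.mk _ q)
    rw [e.apply_symm_apply]
    rfl
  show ιₐ A N (Ideal.Quotient.liftₐ (RingHom.ker π) ev hker ((e.symm : P →ₐ[A] _) (π q))) = ψ (π q)
  rw [h1]
  exact congr($hev q)

theorem factor_colim : Obj.Factor A (colim A) := by
  intro P _ _ _ ψ
  obtain ⟨n, ψn, h⟩ := exists_factor_stage A ψ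
  obtain ⟨E, _, _, _, u, v, huv⟩ := factor_of_isIndEtale (good_a0 A n).1 P ψn
  exact ⟨E, inferInstance, inferInstance, inferInstance, u, (ιₐ A n).comp v, by
    rw [AlgHom.comp_assoc, huv, h]⟩

theorem isIndEtale_colim : EtPBC.IsIndEtale A (colim A) := isIndEtale_of_factor (factor_colim A)

theorem faithfullyFlat_colim : Module.FaithfullyFlat A (colim A) := by
  haveI : Module.Flat A (colim A) := flat_of_factor' (factor_colim A)
  refine ⟨fun 𝔪 h𝔪 => ?_⟩
  rw [Ideal.smul_top_eq_map]
  exact (Submodule.restrictScalars_eq_top_iff _ _ _).ne.mpr (map_aC_ne_top A 𝔪)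

end G1

end Groth.Agent.Lib.T2H1.EtTower
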