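import Mathlib
import Groth.Prelude.Def_PBC
import Groth.Prelude.Def_ProEtW
import Groth.Agent.Lib.T2H1EtTower

set_option autoImplicit false
universe u

open TensorProduct CategoryTheory Limits AlgebraicGeometry

namespace Groth.Agent.Lib.T2H1.EtTower

open Groth.Agent.Lib.T2H1.Copr Groth.Agent.Lib.Helper3.IndEt

/-- The image of a base change contains the preimage of the image. -/
theorem mem_range_comap_baseChange {R R' B : Type u} [CommRing R] [CommRing R'] [CommRing B]
    [Algebra R R'] [Algebra R B] (x' : PrimeSpectrum R')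
    (hx : PrimeSpectrum.comap (algebraMap R R') x' ∈
      Set.range (PrimeSpectrum.comap (algebraMap R B))) :
    x' ∈ Set.range (PrimeSpectrum.comap (algebraMap R' (R' ⊗[R] B))) := by
  obtain ⟨q, hq⟩ := hx
  have h1 := CommRingCat.isPushout_tensorProduct R R' B
  have h2 := isPullback_SpecMap_of_isPushout _ _ _ _ h1
  obtain ⟨p, hp1, hp2⟩ := Scheme.exists_preimage_of_isPullback h2 x' q hq.symm
  exact ⟨p, hp1⟩

section G2

variable (A : Type u) [CommRing A]

noncomputable local instance instAlgStage' (n : ℕ) : Algebra A (seqObj A n) := (a0 A n).toAlgebra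

noncomputable local instance instAlgColim' : Algebra A (colim A) := (aC A).toAlgebra

noncomputable local instance instAlgStageColim (n : ℕ) : Algebra (seqObj A n) (colim A) :=
  (ι' A n).toAlgebra

/-- The identification of `TT` of a stage with the next stage. -/
noncomputable def toNext (n : ℕ) : TT (seqObj A n) →+* seqObj A (n+1) := RingHom.id _

theorem toNext_algebraMap (n : ℕ) (x : seqObj A n) :
    toNext A n (algebraMap (seqObj A n) (TT (seqObj A n)) x) = tr A n (n+1) (Nat.le_succ n) x := by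
  rw [tr_succ]
  rfl

set_option maxHeartbeats 2000000 in
theorem hasEtaleRetractions_colim : ProEtW.HasEtaleRetractions (colim A) := by
  intro B _ _ hff het
  -- Step 1: descend to a finite stage
  obtain ⟨B₁, _, _, _, _, _, E₁, _, _, _, ⟨θ⟩⟩ := exists_descent_etale (factor_colim A) B
  obtain ⟨N, ψN, hψN⟩ := exists_factor_stage A (IsScalarTower.toAlgHom A B₁ (colim A))
  letI : Algebra B₁ (seqObj A N) := ψN.toRingHom.toAlgebra
  haveI : IsScalarTower B₁ (seqObj A N) (colim A) := IsScalarTower.of_algebraMap_eq (fun b => by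
    have := congr($hψN b)
    exact this.symm)
  let θ' : colim A ⊗[seqObj A N] (seqObj A N ⊗[B₁] E₁) ≃ₐ[colim A] B :=
    (Algebra.TensorProduct.cancelBaseChange B₁ (seqObj A N) (colim A) (colim A) E₁).trans θ
  -- Step 2: the image of the descended algebra is open
  have hopen : IsOpen (Set.range (PrimeSpectrum.comap
      (algebraMap (seqObj A N) (seqObj A N ⊗[B₁] E₁)))) :=
    (PrimeSpectrum.isOpenMap_comap_of_hasGoingDown_of_finitePresentation).isOpen_range
  set J := PrimeSpectrum.vanishingIdeal (Set.range (PrimeSpectrum.comap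
      (algebraMap (seqObj A N) (seqObj A N ⊗[B₁] E₁))))ᶜ with hJ
  have hV : PrimeSpectrum.zeroLocus (J : Set (seqObj A N)) = (Set.range (PrimeSpectrum.comap
      (algebraMap (seqObj A N) (seqObj A N ⊗[B₁] E₁))))ᶜ := by
    rw [hJ, PrimeSpectrum.zeroLocus_vanishingIdeal_eq_closure]
    exact hopen.isClosed_compl.closure_eq
  have hJtop : J.map (ι' A N) = ⊤ := by
    by_contra hne
    obtain ⟨𝔪, h𝔪, hle⟩ := Ideal.exists_le_maximal _ hne
    obtain ⟨b, hb⟩ := PrimeSpectrum.comap_surjective_of_faithfullyFlat (B := B)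
      (⟨𝔪, h𝔪.isPrime⟩ : PrimeSpectrum (colim A))
    let b' : PrimeSpectrum (colim A ⊗[seqObj A N] (seqObj A N ⊗[B₁] E₁)) :=
      PrimeSpectrum.comap (θ' : _ →+* B) b
    let q : PrimeSpectrum (seqObj A N ⊗[B₁] E₁) :=
      PrimeSpectrum.comap (Algebra.TensorProduct.includeRight :
        (seqObj A N ⊗[B₁] E₁) →ₐ[seqObj A N] colim A ⊗[seqObj A N] (seqObj A N ⊗[B₁] E₁)).toRingHom b'
    have hq : PrimeSpectrum.comap (algebraMap (seqObj A N) (seqObj A N ⊗[B₁] E₁)) q =
        PrimeSpectrum.comap (ι' A N) ⟨𝔪, h𝔪.isPrime⟩ := by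
      rw [← hb]
      apply PrimeSpectrum.ext
      ext r
      show θ' ((1 : colim A) ⊗ₜ[seqObj A N] (algebraMap (seqObj A N) (seqObj A N ⊗[B₁] E₁) r)) ∈
        b.asIdeal ↔ algebraMap (colim A) B (ι' A N r) ∈ b.asIdeal
      have : (1 : colim A) ⊗ₜ[seqObj A N] (algebraMap (seqObj A N) (seqObj A N ⊗[B₁] E₁) r) =
          algebraMap (colim A) (colim A ⊗[seqObj A N] (seqObj A N ⊗[B₁] E₁)) (ι' A N r) := by
        rw [Algebra.TensorProduct.algebraMap_apply (A := colim A),
          ← Algebra.TensorProduct.tmul_one_eq_one_tmul]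
        rfl
      rw [this, θ'.commutes]
    have hmem : PrimeSpectrum.comap (ι' A N) ⟨𝔪, h𝔪.isPrime⟩ ∈
        PrimeSpectrum.zeroLocus (J : Set (seqObj A N)) := by
      rw [PrimeSpectrum.mem_zeroLocus, SetLike.coe_subset_coe]
      exact Ideal.map_le_iff_le_comap.mp hle
    rw [hV, ← hq] at hmem
    exact hmem (Set.mem_range_self q)
  obtain ⟨M, hNM, hM⟩ := exists_stage_map_eq_top A N J hJtop
  letI : Algebra (seqObj A N) (seqObj A M) := (tr A N M hNM).toAlgebra
  have hsurj : Function.Surjective (PrimeSpectrum.comap (algebraMap (seqObj A M)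
      (seqObj A M ⊗[seqObj A N] (seqObj A N ⊗[B₁] E₁)))) := by
    intro x'
    apply mem_range_comap_baseChange
    by_contra hx
    have hx' : PrimeSpectrum.comap (algebraMap (seqObj A N) (seqObj A M)) x' ∈
        PrimeSpectrum.zeroLocus (J : Set (seqObj A N)) := by
      rw [hV]
      exact hx
    rw [PrimeSpectrum.mem_zeroLocus, SetLike.coe_subset_coe] at hx'
    have h1 : J.map (tr A N M hNM) ≤ x'.asIdeal := Ideal.map_le_iff_le_comap.mpr hx'
    rw [hM] at h1
    exact x'.isPrime.ne_top (top_le_iff.mp h1)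
  haveI : Module.FaithfullyFlat (seqObj A M)
      (seqObj A M ⊗[seqObj A N] (seqObj A N ⊗[B₁] E₁)) :=
    Module.FaithfullyFlat.of_comap_surjective hsurj
  obtain ⟨g⟩ := exists_algHom_TT (R := seqObj A M)
    (seqObj A M ⊗[seqObj A N] (seqObj A N ⊗[B₁] E₁))
  -- Step 3: the map to the colimit
  let g₀ : (seqObj A N ⊗[B₁] E₁) →+* colim A :=
    (ι' A (M+1)).comp ((toNext A M).comp (g.toRingHom.comp
      (Algebra.TensorProduct.includeRight : (seqObj A N ⊗[B₁] E₁) →ₐ[seqObj A N]
        seqObj A M ⊗[seqObj A N] (seqObj A N ⊗[B₁] E₁)).toRingHom))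
  let g' : (seqObj A N ⊗[B₁] E₁) →ₐ[seqObj A N] colim A :=
    { g₀ with
      commutes' := fun r => by
        show ι' A (M+1) (toNext A M (g ((1 : seqObj A M) ⊗ₜ[seqObj A N]
          (algebraMap (seqObj A N) (seqObj A N ⊗[B₁] E₁) r)))) = ι' A N r
        have : (1 : seqObj A M) ⊗ₜ[seqObj A N]
            (algebraMap (seqObj A N) (seqObj A N ⊗[B₁] E₁) r) =
            algebraMap (seqObj A M) (seqObj A M ⊗[seqObj A N] (seqObj A N ⊗[B₁] E₁))
              (tr A N M hNM r) := by
          rw [Algebra.TensorProduct.algebraMap_apply (A := seqObj A M),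
            ← Algebra.TensorProduct.tmul_one_eq_one_tmul]
          rfl
        rw [this, g.commutes, toNext_algebraMap, ι'_tr_apply, ι'_tr_apply] }
  let r : colim A ⊗[seqObj A N] (seqObj A N ⊗[B₁] E₁) →ₐ[colim A] colim A :=
    Algebra.TensorProduct.lift (AlgHom.id (colim A) (colim A)) g' (fun _ _ => Commute.all _ _)
  exact ⟨r.comp (θ'.symm : B →ₐ[colim A] _)⟩

end G2

end Groth.Agent.Lib.T2H1.EtTower
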