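import Mathlib

/-!
# Standard étale algebras lift along square zero quotients (helper1)
-/

set_option autoImplicit false
universe u
open Polynomial TensorProduct

namespace Groth.Agent.Lib.T2H1.EtaleLift

/-- a polynomial with coefficients in a square zero ideal has square zero. -/
lemma sq_eq_zero_of_map_eq_zero {A : Type u} [CommRing A] (I : Ideal A) (hI : I ^ 2 = ⊥)
    (δ : A[X]) (hδ : δ.map (Ideal.Quotient.mk I) = 0) : δ * δ = 0 := by
  have hc : ∀ n, δ.coeff n ∈ I := fun n => by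
    have := congrArg (fun p => p.coeff n) hδ
    simp only [coeff_map, coeff_zero] at this
    exact Ideal.Quotient.eq_zero_iff_mem.1 this
  ext n
  rw [coeff_mul, coeff_zero]
  refine Finset.sum_eq_zero (fun x _ => ?_)
  have : δ.coeff x.1 * δ.coeff x.2 ∈ I ^ 2 := by
    rw [pow_two]
    exact Ideal.mul_mem_mul (hc _) (hc _)
  rw [hI] at this
  exact this

/-- a standard étale pair over `A ⧸ I` with `I ^ 2 = ⊥` lifts to a standard étale pair over `A`. -/
theorem exists_pair_lift {A : Type u} [CommRing A] (I : Ideal A) (hI : I ^ 2 = ⊥)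
    (P₀ : StandardEtalePair (A ⧸ I)) :
    ∃ P : StandardEtalePair A, P.map (algebraMap A (A ⧸ I)) = P₀ := by
  obtain ⟨f₀, hm, g₀, p₁, p₂, n, hc⟩ := P₀
  have hsurj := Polynomial.map_surjective (Ideal.Quotient.mk I) Ideal.Quotient.mk_surjective
  obtain ⟨f, rfl, -, hf⟩ := lifts_and_natDegree_eq_and_monic
    (mem_lifts_of_surjective Ideal.Quotient.mk_surjective f₀) hm
  obtain ⟨g, rfl⟩ := hsurj g₀
  obtain ⟨q₁, rfl⟩ := hsurj p₁
  obtain ⟨q₂, rfl⟩ := hsurj p₂
  let δ : A[X] := derivative f * q₁ + f * q₂ - g ^ n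
  have hδ : δ.map (Ideal.Quotient.mk I) = 0 := by
    simp only [δ, Polynomial.map_sub, Polynomial.map_add, Polynomial.map_mul, Polynomial.map_pow,
      ← derivative_map]
    rw [hc, sub_self]
  have hδ2 : δ * δ = 0 := sq_eq_zero_of_map_eq_zero I hI δ hδ
  refine ⟨⟨f, hf, g, q₁ * (g ^ n - δ), q₂ * (g ^ n - δ), 2 * n, ?_⟩, rfl⟩
  have : derivative f * q₁ + f * q₂ = g ^ n + δ := by simp only [δ]; ring
  calc derivative f * (q₁ * (g ^ n - δ)) + f * (q₂ * (g ^ n - δ))
      = (derivative f * q₁ + f * q₂) * (g ^ n - δ) := by ring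
    _ = (g ^ n + δ) * (g ^ n - δ) := by rw [this]
    _ = g ^ (2 * n) - δ * δ := by ring
    _ = g ^ (2 * n) := by rw [hδ2, sub_zero]

/-- a standard étale algebra over `A ⧸ I` with `I ^ 2 = ⊥` lifts to an étale algebra over `A`. -/
theorem exists_etale_lift (A : Type u) [CommRing A] (I : Ideal A) (hI : I ^ 2 = ⊥)
    (B₀ : Type u) [CommRing B₀] [Algebra (A ⧸ I) B₀] [Algebra.IsStandardEtale (A ⧸ I) B₀] :
    ∃ (B : Type u) (_ : CommRing B) (_ : Algebra A B), Algebra.Etale A B ∧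
      Nonempty ((B ⧸ I.map (algebraMap A B)) ≃ₐ[A ⧸ I] B₀) := by
  obtain ⟨Pres₀⟩ := Algebra.IsStandardEtale.nonempty_standardEtalePresentation (R := A ⧸ I) (S := B₀)
  obtain ⟨P, hP⟩ := exists_pair_lift I hI Pres₀.P
  let Pres : StandardEtalePresentation A P.Ring :=
    ⟨P, P.X, P.hasMap_X, by
      simpa [StandardEtalePair.lift_X_left] using Function.bijective_id⟩
  let e1 : (P.Ring ⧸ I.map (algebraMap A P.Ring)) ≃ₐ[A ⧸ I] (A ⧸ I) ⊗[A] P.Ring :=
    Algebra.TensorProduct.quotIdealMapEquivQuotTensor P.Ring I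
  let e2 : (A ⧸ I) ⊗[A] P.Ring ≃ₐ[A ⧸ I] (P.map (algebraMap A (A ⧸ I))).Ring :=
    (Pres.baseChange (T := A ⧸ I)).equivRing
  refine ⟨P.Ring, inferInstance, inferInstance, inferInstance, ⟨?_⟩⟩
  refine (e1.trans e2).trans ?_
  rw [hP]
  exact Pres₀.equivRing.symm

end Groth.Agent.Lib.T2H1.EtaleLift
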