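import Mathlib
import Groth.Agent.Lib.T2H1EtaleLift

/-!
# Local lifting of étale schemes along affine square zero thickenings (helper1)
-/

set_option autoImplicit false
universe u
open CategoryTheory CategoryTheory.Limits AlgebraicGeometry

namespace Groth.Agent.Lib.T2H1.EtaleLift

/-- `B ⧸ I B` is the pushout of `A ⧸ I` and `B` over `A`. -/
lemma isPushout_quotient {A B : Type u} [CommRing A] [CommRing B] (φ : A →+* B) (I : Ideal A) :
    IsPushout (CommRingCat.ofHom (Ideal.Quotient.mk I)) (CommRingCat.ofHom φ)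
      (CommRingCat.ofHom (Ideal.quotientMap (I.map φ) φ Ideal.le_comap_map))
      (CommRingCat.ofHom (Ideal.Quotient.mk (I.map φ))) := by
  refine ⟨⟨?_⟩, ⟨PushoutCocone.IsColimit.mk _ (fun s => ?_) (fun s => ?_) (fun s => ?_)
    (fun s m h1 h2 => ?_)⟩⟩
  · ext x
    rfl
  · refine CommRingCat.ofHom (Ideal.Quotient.lift (I.map φ) s.inr.hom ?_)
    intro b hb
    have : I.map φ ≤ RingHom.ker s.inr.hom := by
      rw [Ideal.map_le_iff_le_comap]
      intro a ha
      rw [Ideal.mem_comap, RingHom.mem_ker]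
      have := congr($(s.condition).hom a)
      simp only [CommRingCat.hom_comp, CommRingCat.hom_ofHom, RingHom.comp_apply] at this
      rw [← this, Ideal.Quotient.eq_zero_iff_mem.2 ha, map_zero]
    exact this hb
  · ext a
    have := congr($(s.condition).hom a)
    simp only [CommRingCat.hom_comp, CommRingCat.hom_ofHom, RingHom.comp_apply] at this
    simp only [CommRingCat.hom_comp, CommRingCat.hom_ofHom, RingHom.comp_apply,
      Ideal.quotientMap_mk]
    exact this.symm
  · ext x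
    simp only [CommRingCat.hom_comp, CommRingCat.hom_ofHom, RingHom.comp_apply]
    exact Ideal.Quotient.lift_mk _ _ _
  · ext b
    have := congr($(h2).hom b)
    simp only [CommRingCat.hom_comp, CommRingCat.hom_ofHom, RingHom.comp_apply] at this
    exact this

/-- the corresponding cartesian square of spectra. -/
lemma isPullback_Spec_quotient {A B : Type u} [CommRing A] [CommRing B] (φ : A →+* B)
    (I : Ideal A) :
    IsPullback (Spec.map (CommRingCat.ofHom (Ideal.quotientMap (I.map φ) φ Ideal.le_comap_map)))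
      (Spec.map (CommRingCat.ofHom (Ideal.Quotient.mk (I.map φ))))
      (Spec.map (CommRingCat.ofHom (Ideal.Quotient.mk I))) (Spec.map (CommRingCat.ofHom φ)) :=
  isPullback_SpecMap_of_isPushout _ _ _ _ (isPushout_quotient φ I)

/-- étale schemes over `Spec (A ⧸ I)` lift locally to étale affine schemes over `Spec A`
when `I ^ 2 = ⊥`. -/
theorem exists_etale_chart_lift (A : Type u) [CommRing A] (I : Ideal A) (hI : I ^ 2 = ⊥)
    {T₁ : Scheme.{u}} (p₁ : T₁ ⟶ Spec (.of (A ⧸ I))) [Etale p₁] (x : T₁) :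
    ∃ (B : Type u) (_ : CommRing B) (φ : A →+* B), φ.Etale ∧
      ∃ (u : Spec (.of (B ⧸ I.map φ)) ⟶ T₁), IsOpenImmersion u ∧ x ∈ Set.range u ∧
        u ≫ p₁ = Spec.map (CommRingCat.ofHom
          (Ideal.quotientMap (I.map φ) φ Ideal.le_comap_map)) := by
  obtain ⟨_, ⟨U₀, hU₀, rfl⟩, hxU, -⟩ :=
    T₁.isBasis_affineOpens.exists_subset_of_mem_open (Set.mem_univ x) isOpen_univ
  let C := Γ(T₁, U₀)
  let ψ : CommRingCat.of (A ⧸ I) ⟶ C := Spec.preimage (hU₀.fromSpec ≫ p₁)
  have hψ : Spec.map ψ = hU₀.fromSpec ≫ p₁ := Spec.map_preimage _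
  have hψe : ψ.hom.Etale := by
    rw [← HasRingHomProperty.Spec_iff (P := @Etale), hψ]
    infer_instance
  algebraize [ψ.hom]
  haveI : Algebra.Etale (A ⧸ I) C := hψe
  let Q : PrimeSpectrum C := hU₀.primeIdealOf ⟨x, hxU⟩
  have hQ : hU₀.fromSpec Q = x := hU₀.fromSpec_primeIdealOf ⟨x, hxU⟩
  haveI : Algebra.IsEtaleAt (A ⧸ I) Q.asIdeal := by
    haveI : Algebra.FormallyEtale C (Localization.AtPrime Q.asIdeal) :=
      Algebra.FormallyEtale.of_isLocalization Q.asIdeal.primeCompl
    exact Algebra.FormallyEtale.comp (A ⧸ I) C (Localization.AtPrime Q.asIdeal)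
  obtain ⟨r, hrQ, hr⟩ := Algebra.IsEtaleAt.exists_isStandardEtale (R := A ⧸ I) Q.asIdeal
  let B₀ := Localization.Away r
  obtain ⟨B, _, _, hBe, ⟨e⟩⟩ := exists_etale_lift A I hI B₀
  let φ : A →+* B := algebraMap A B
  have hφ : φ.Etale := RingHom.etale_algebraMap.2 hBe
  let ε : CommRingCat.of B₀ ⟶ CommRingCat.of (B ⧸ I.map φ) :=
    CommRingCat.ofHom e.symm.toAlgHom.toRingHom
  haveI : IsIso ε := by
    refine ⟨CommRingCat.ofHom e.toAlgHom.toRingHom, ?_, ?_⟩
    · ext b
      exact e.apply_symm_apply b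
    · ext b
      exact e.symm_apply_apply _
  let ρ : C ⟶ CommRingCat.of B₀ := CommRingCat.ofHom (algebraMap C B₀)
  let u : Spec (.of (B ⧸ I.map φ)) ⟶ T₁ := Spec.map ε ≫ Spec.map ρ ≫ hU₀.fromSpec
  refine ⟨B, inferInstance, φ, hφ, u, inferInstance, ?_, ?_⟩
  · have h1 : Q ∈ Set.range (PrimeSpectrum.comap (algebraMap C B₀)) := by
      rw [PrimeSpectrum.localization_away_comap_range B₀ r]
      exact hrQ
    obtain ⟨q, hq⟩ := h1
    obtain ⟨q', hq'⟩ := (Spec.map ε).homeomorph.surjective q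
    refine ⟨q', ?_⟩
    have hq2 : (Spec.map ρ) q = Q := hq
    have hq3 : (Spec.map ε) q' = q := hq'
    simp only [u, Scheme.Hom.comp_apply]
    rw [hq3, hq2, hQ]
  · simp only [u, Category.assoc]
    rw [← hψ, ← Spec.map_comp, ← Spec.map_comp]
    congr 1
    ext a
    have h1 : ∀ z : A ⧸ I, e.symm (algebraMap (A ⧸ I) B₀ z) =
        algebraMap (A ⧸ I) (B ⧸ I.map φ) z := fun z => e.symm.commutes z
    have h2 : ∀ z : A ⧸ I, algebraMap (A ⧸ I) B₀ z =
        algebraMap C B₀ (algebraMap (A ⧸ I) C z) :=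
      fun z => IsScalarTower.algebraMap_apply _ _ _ z
    have h3 := h1 (Ideal.Quotient.mk I a)
    rw [h2] at h3
    exact h3

end Groth.Agent.Lib.T2H1.EtaleLift
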