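import Groth.Agent.Lib.T2H1ExtTensorTorAmp
import Groth.Agent.Lib.T2H4TorRes3
import Groth.Agent.Lib.Helper1Fibres
set_option backward.isDefEq.respectTransparency.types false

/-!
# Cohomological bounds for the external derived tensor product, first factor flat (T2H1)
-/

set_option autoImplicit false
set_option linter.style.haveILetI false
universe u
open CategoryTheory CategoryTheory.Limits AlgebraicGeometry HomologicalComplex MonoidalCategory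
  TensorProduct

attribute [local instance] HasDerivedCategory.standard

namespace Groth.Agent.Lib.T2H1.ExtTensorBounds

open Groth.Agent.Lib.Helper1.KF Groth.Agent.Lib.Helper1.DT DerivedCategory DTen
  Groth.Agent.Lib.Helper1.Tor Groth.Agent.Lib.T2H4.TorRes Groth.Agent.Lib.T2H4.LDerExist
  Groth.Agent.Lib.Helper1.TorL Groth.Agent.Lib.T2H1.LpullTensorTorAmp
  Groth.Agent.Lib.Helper1.CI Groth.Agent.Lib.T2H1.LpullTorAmp

section Ring

variable {A B : Type u} [CommRing A] [CommRing B] (ρ : A →+* B)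

/-- ring-level core: `N` a K-flat complex of `B`-modules of tor amplitude `[a, b]` over `A`, `G` a
K-flat complex of `A`-modules, exact outside `[c, d]`, `M` a complex of `B`-modules isomorphic to
`B ⊗_A G` in the derived category; then `N ⊗_B M` is exact outside `[a + c, b + d]`. -/
theorem exactAt_tensor_of_hasTorAmp (N : Cx B) (hN : KFlat N) (a b : ℤ)
    (hNA : DRing.HasTorAmplitudeIn A a b (Q.obj ((resCx ρ).obj N)))
    (G : Cx A) (hG : KFlat G) (c d : ℤ) (hGe : ∀ i : ℤ, (i < c ∨ d < i) → G.ExactAt i)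
    (M : Cx B) (e : Q.obj M ≅ Q.obj ((extCx ρ).obj G)) (n : ℤ) (hn : n < a + c ∨ b + d < n) :
    (N ⊗ M : Cx B).ExactAt n := by
  haveI := hasLTensorCx N
  haveI := hasLTensorCx G
  obtain ⟨u1⟩ := nonempty_LTensorCx_iso_of_kflat N hN M
  obtain ⟨u2⟩ := nonempty_LTensorCx_iso_of_kflat N hN ((extCx ρ).obj G)
  have e1 : Q.obj (M ⊗ N) ≅ Q.obj ((extCx ρ).obj G ⊗ N) :=
    u1.symm ≪≫ (DRing.LTensorCx B N).mapIso e ≪≫ u2
  obtain ⟨E, hE, hEf, ⟨eE⟩⟩ := hNA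
  obtain ⟨v1⟩ := nonempty_LTensorCx_iso_of_kflat G hG ((resCx ρ).obj N)
  obtain ⟨v2⟩ := nonempty_LTensorCx_iso_of_kflat G hG E
  have e2 : Q.obj (E ⊗ G) ≅ Q.obj ((resCx ρ).obj N ⊗ G) :=
    v2.symm ≪≫ (DRing.LTensorCx A G).mapIso eE ≪≫ v1
  have h1 : (E ⊗ G : Cx A).ExactAt n := exactAt_tensor_of_bounds E G a b c d hE hEf hGe n hn
  have h2 : ((resCx ρ).obj N ⊗ G : Cx A).ExactAt n := exactAt_of_Q_iso e2 n h1
  have h3 : (N ⊗ (extCx ρ).obj G : Cx B).ExactAt n := by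
    rw [← exactAt_resCx_iff ρ, ← exactAt_iff_of_iso (pfCx ρ N G)]
    exact h2
  have h4 : ((extCx ρ).obj G ⊗ N : Cx B).ExactAt n :=
    (exactAt_iff_of_iso (swapIso N ((extCx ρ).obj G)) n).1 h3
  have h5 : (M ⊗ N : Cx B).ExactAt n := exactAt_of_Q_iso e1.symm n h4
  exact (exactAt_iff_of_iso (swapIso N M) n).2 h5

end Ring

section Sch

open Groth.Agent.Lib.Helper1.Sky Groth.Agent.Lib.Helper1.KBC Groth.Agent.Lib.Helper1.BKF
  Groth.Agent.Lib.T2H1.StalkTorAmp Groth.Agent.Lib.T2H1.RelPerfTri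
  Groth.Agent.Lib.T2H1.ExtTensorTorAmp Groth.Agent.Lib.T2H2.TorAmpComp
  Groth.Agent.Lib.Helper1.LocalCx

section Stalks

variable {X : Scheme.{u}}

/-- stalks detect exactness -/
lemma exactAt_of_forall_stalk (T : CochainComplex X.Modules ℤ) (i : ℤ)
    (h : ∀ x : X, ((stalkC x).obj T).ExactAt i) : T.ExactAt i := by
  rw [exactAt_iff_isZero_homology]
  apply isZero_of_forall_isZero_stalk
  intro y
  have h1 := (exactAt_iff_isZero_homology _ _).1 (h y)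
  exact IsZero.of_iso h1 ((T.sc i).mapHomologyIso (stalkFun y)).symm

/-- stalks preserve exactness -/
lemma exactAt_stalk (T : CochainComplex X.Modules ℤ) (i : ℤ) (h : T.ExactAt i) (x : X) :
    ((stalkC x).obj T).ExactAt i := by
  rw [HomologicalComplex.exactAt_iff] at h ⊢
  exact h.map (stalkFun x)

/-- isomorphic objects of `D(O_X)` have isomorphic complexes of stalks -/
theorem nonempty_Q_stalkC_iso (x : X) {E F : CochainComplex X.Modules ℤ}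
    (e : DCoh.toD X E ≅ DCoh.toD X F) :
    Nonempty (Q.obj ((stalkC x).obj E) ≅ Q.obj ((stalkC x).obj F)) :=
  ⟨((stalkFun x).mapDerivedCategoryFactors.app E).symm ≪≫
    (stalkFun x).mapDerivedCategory.mapIso e ≪≫ (stalkFun x).mapDerivedCategoryFactors.app F⟩

end Stalks

set_option maxHeartbeats 1600000 in
/-- the external derived tensor product, first factor flat over the base: cohomological bounds -/
theorem exactAt_externalTensor {S X₁ Y₁ X₂ X : Scheme.{u}} (f₁ : X₁ ⟶ Y₁)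
    (q₁ : Y₁ ⟶ S) (r₂ : X₂ ⟶ S) [Flat q₁] [Flat (f₁ ≫ q₁)]
    (pX₁ : X ⟶ X₁) (pX₂ : X ⟶ X₂) (hX : IsPullback pX₁ pX₂ (f₁ ≫ q₁) r₂)
    (E₁ : CochainComplex X₁.Modules ℤ) (a₁ b₁ : ℤ) (h₁ : DerSch.HasTorAmplitude f₁ a₁ b₁ E₁)
    (E₂ : CochainComplex X₂.Modules ℤ) (a₂ b₂ : ℤ)
    (hE₂ : ∀ i : ℤ, (i < a₂ ∨ b₂ < i) → E₂.ExactAt i)
    [DCoh.HasLpull pX₁] [DCoh.HasLpull pX₂]
    (K₂ : CochainComplex X.Modules ℤ) [DCoh.HasLTensorCx K₂]
    (eK : DCoh.toD X K₂ ≅ (DCoh.Lpull pX₂).obj (DCoh.toD X₂ E₂)) :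
    ∃ T : CochainComplex X.Modules ℤ,
      Nonempty ((DCoh.LTensorCx K₂).obj ((DCoh.Lpull pX₁).obj (DCoh.toD X₁ E₁)) ≅ DCoh.toD X T) ∧
      ∀ n : ℤ, (n < a₁ + a₂ ∨ b₁ + b₂ < n) → T.ExactAt n := by
  -- the intermediate scheme `Z = Y₁ ×_S X₂`
  let s₁ : pullback q₁ r₂ ⟶ Y₁ := pullback.fst _ _
  let s₂ : pullback q₁ r₂ ⟶ X₂ := pullback.snd _ _
  have hZ : IsPullback s₁ s₂ q₁ r₂ := IsPullback.of_hasPullback _ _
  let φ : X ⟶ pullback q₁ r₂ :=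
    pullback.lift (pX₁ ≫ f₁) pX₂ (by rw [Category.assoc]; exact hX.w)
  have hφ₁ : φ ≫ s₁ = pX₁ ≫ f₁ := pullback.lift_fst _ _ _
  have hφ₂ : φ ≫ s₂ = pX₂ := pullback.lift_snd _ _ _
  haveI : Flat s₂ := MorphismProperty.of_isPullback (P := @Flat) hZ inferInstance
  haveI : DCoh.HasLpull s₂ := hasLpull s₂
  haveI : DCoh.HasLpull φ := hasLpull φ
  haveI : DCoh.HasLpull (φ ≫ s₂) := hasLpull _
  -- a K-flat resolution of `E₁`
  obtain ⟨P, q, hP, -, hq, -⟩ : ∃ (P : CochainComplex X₁.Modules ℤ) (q : P ⟶ E₁),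
      DCoh.IsKFlat P ∧ (∀ n : ℤ, ModSite.IsFlat (O := X₁.sheaf) (P.X n)) ∧ QuasiIso q ∧
        ∀ n : ℤ, Epi (q.f n) := exists_kflat_flat_resolution X₁.sheaf E₁
  haveI hqi : IsIso (DerivedCategory.Q.map q) := by
    rw [DerivedCategory.isIso_Q_map_iff_quasiIso]; exact hq
  have eP : DCoh.toD X₁ P ≅ DCoh.toD X₁ E₁ := asIso (DerivedCategory.Q.map q)
  have hP' : DCoh.IsKFlat ((pullC pX₁).obj P) := Groth.Agent.S0960.isKFlat_pullC pX₁ P hP
  have eP' : (DCoh.Lpull pX₁).obj (DCoh.toD X₁ E₁) ≅ DCoh.toD X ((pullC pX₁).obj P) :=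
    (DCoh.Lpull pX₁).mapIso eP.symm ≪≫ lpullIsoK pX₁ P hP
  haveI hI1 : ModSite.HasLTensorCx (O := X.sheaf) K₂ := (inferInstance : DCoh.HasLTensorCx K₂)
  have i : (DCoh.LTensorCx K₂).obj (DerivedCategory.Q.obj ((pullC pX₁).obj P)) ≅
      DerivedCategory.Q.obj ((DCoh.tensorCx.obj ((pullC pX₁).obj P)).obj K₂) :=
    lTensorCxIsoOfIsKFlat (O := X.sheaf) K₂ ((pullC pX₁).obj P) hP'
  refine ⟨(DCoh.tensorCx.obj ((pullC pX₁).obj P)).obj K₂,
    ⟨(DCoh.LTensorCx K₂).mapIso eP' ≪≫ i⟩, fun n hn => ?_⟩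
  -- a K-flat resolution of `E₂`
  obtain ⟨P₂, q₂, hP₂, -, hq₂, -⟩ : ∃ (P₂ : CochainComplex X₂.Modules ℤ) (q₂ : P₂ ⟶ E₂),
      DCoh.IsKFlat P₂ ∧ (∀ n : ℤ, ModSite.IsFlat (O := X₂.sheaf) (P₂.X n)) ∧ QuasiIso q₂ ∧
        ∀ n : ℤ, Epi (q₂.f n) := exists_kflat_flat_resolution X₂.sheaf E₂
  haveI hqi₂ : IsIso (DerivedCategory.Q.map q₂) := by
    rw [DerivedCategory.isIso_Q_map_iff_quasiIso]; exact hq₂
  have eP₂ : DCoh.toD X₂ P₂ ≅ DCoh.toD X₂ E₂ := asIso (DerivedCategory.Q.map q₂)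
  have hP₂e : ∀ i : ℤ, (i < a₂ ∨ b₂ < i) → P₂.ExactAt i := by
    intro i hi
    haveI := hq₂
    rw [exactAt_iff_isZero_homology]
    have h1 := (exactAt_iff_isZero_homology _ _).1 (hE₂ i hi)
    haveI : IsIso (homologyMap q₂ i) :=
      (quasiIsoAt_iff_isIso_homologyMap q₂ i).1 inferInstance
    exact h1.of_iso (asIso (homologyMap q₂ i))
  have hG : DCoh.IsKFlat ((pullC s₂).obj P₂) := Groth.Agent.S0960.isKFlat_pullC s₂ P₂ hP₂
  obtain ⟨c⟩ := nonempty_lpull_comp_iso φ s₂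
  obtain ⟨c'⟩ := nonempty_Lpull_iso_of_eq hφ₂
  have eK' : DCoh.toD X K₂ ≅ DCoh.toD X ((pullC φ).obj ((pullC s₂).obj P₂)) :=
    eK ≪≫ (c'.app (DCoh.toD X₂ E₂)).symm ≪≫ (c.app (DCoh.toD X₂ E₂)).symm ≪≫
      (DCoh.Lpull φ).mapIso ((DCoh.Lpull s₂).mapIso eP₂.symm ≪≫ lpullIsoK s₂ P₂ hP₂) ≪≫
      lpullIsoK φ _ hG
  apply exactAt_of_forall_stalk
  intro x
  obtain ⟨t⟩ := nonempty_stalkTotIso x ((pullC pX₁).obj P) K₂
  refine (exactAt_iff_of_iso t n).2 ?_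
  -- the first factor: tor amplitude over the local ring of `Z`
  have hTA : TAat φ a₁ b₁ ((DCoh.Lpull pX₁).obj (DCoh.toD X₁ E₁)) x :=
    tAat_Lpull_torIndep r₂ q₁ f₁ s₂ s₁ hZ.flip pX₂ pX₁ hX.flip φ hφ₂ hφ₁
      (DCoh.toD X₁ E₁) a₁ b₁ x ((tAat_toD_iff f₁ a₁ b₁ E₁ _).2 (h₁ (pX₁ x)))
  have h2 : DerSch.HasTorAmplitudeAt φ a₁ b₁ ((pullC pX₁).obj P) x :=
    (tAat_toD_iff φ a₁ b₁ _ x).1 (TAat.of_iso φ eP' hTA)
  have h2' : DRing.HasTorAmplitudeIn ((pullback q₁ r₂).presheaf.stalk (φ.base x)) a₁ b₁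
      (Q.obj ((resCx (φ.stalkMap x).hom).obj
        (((DerSch.stalkFunctor X x).mapHomologicalComplex
          (ComplexShape.up ℤ)).obj ((pullC pX₁).obj P)))) := h2
  have hNA : DRing.HasTorAmplitudeIn ((pullback q₁ r₂).presheaf.stalk (φ.base x)) a₁ b₁
      (Q.obj ((resCx (φ.stalkMap x).hom).obj ((stalkC x).obj ((pullC pX₁).obj P)))) :=
    hasTorAmp_of_iso
      (Q.mapIso ((resCx (φ.stalkMap x).hom).mapIso
        ((NatIso.mapHomologicalComplex (stalkFunctorIso x)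
          (ComplexShape.up ℤ)).app ((pullC pX₁).obj P)))) h2'
  have hN : KFlat ((stalkC x).obj ((pullC pX₁).obj P)) :=
    fun L hL => rKFlat_stalk_of_isKFlat x _ hP' L hL
  -- the second factor
  have hGz : KFlat ((stalkC (φ x)).obj ((pullC s₂).obj P₂)) :=
    fun L hL => rKFlat_stalk_of_isKFlat (φ x) _ hG L hL
  have hGe : ∀ i : ℤ, (i < a₂ ∨ b₂ < i) →
      ((stalkC (φ x)).obj ((pullC s₂).obj P₂)).ExactAt i := by
    intro i hi
    have e3 : (stalkC (φ x)).obj ((pullC s₂).obj P₂) ≅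
        (extCx (s₂.stalkMap (φ x)).hom).obj ((stalkC (s₂ (φ x))).obj P₂) :=
      (NatIso.mapHomologicalComplex (stalkPullbackIso s₂ (φ x)) (ComplexShape.up ℤ)).app P₂
    refine (exactAt_iff_of_iso e3 i).2 ?_
    exact exactAt_bc_of_flat_hom _ (Flat.stalkMap s₂ (φ x)) _ i
      (exactAt_stalk P₂ i (hP₂e i hi) _)
  obtain ⟨e4⟩ := nonempty_Q_stalkC_iso x eK'
  have e5 : (stalkC x).obj ((pullC φ).obj ((pullC s₂).obj P₂)) ≅
      (extCx (φ.stalkMap x).hom).obj ((stalkC (φ x)).obj ((pullC s₂).obj P₂)) :=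
    (NatIso.mapHomologicalComplex (stalkPullbackIso φ x) (ComplexShape.up ℤ)).app _
  exact exactAt_tensor_of_hasTorAmp (φ.stalkMap x).hom _ hN a₁ b₁ hNA _ hGz a₂ b₂ hGe _
    (e4 ≪≫ Q.mapIso e5) n hn

end Sch

end Groth.Agent.Lib.T2H1.ExtTensorBounds
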