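import Groth.Agent.Lib.T2H1TorDimBC
import Groth.Agent.Lib.T2H1LpullTensorTorAmp
import Groth.Agent.Lib.Helper1DT5
import Groth.Agent.Lib.Helper1Sky8
import Groth.Agent.Lib.Helper1Sky5
set_option backward.isDefEq.respectTransparency.types false

/-!
# Tor-independent base change of relative tor amplitude, and the external tensor product (T2H1)
-/

set_option autoImplicit false
set_option linter.style.haveILetI false
universe u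
open CategoryTheory CategoryTheory.Limits AlgebraicGeometry HomologicalComplex MonoidalCategory
  TensorProduct

attribute [local instance] HasDerivedCategory.standard

namespace Groth.Agent.Lib.T2H1.ExtTensorTorAmp

open Groth.Agent.Lib.T2H1.TorAmpBC Groth.Agent.Lib.Helper1.RelBC
  Groth.Agent.Lib.Helper1.KF Groth.Agent.Lib.Helper1.DT DerivedCategory DTen
  Groth.Agent.Lib.Helper1.Tor Groth.Agent.Lib.T2H1.TildeTorAmp
  Groth.Agent.Lib.Helper1.Restrict Groth.Agent.Lib.T2H4 Groth.Agent.Lib.T2H1.TorIndepBC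
  Groth.Agent.Lib.T2H1.TorDimBC

section Ring

variable {R R' A A' B B' : Type u} [CommRing R] [CommRing R'] [CommRing A] [CommRing A']
  [CommRing B] [CommRing B'] [Algebra R R'] [Algebra R B]

attribute [local instance] Algebra.TensorProduct.rightAlgebra

/-- derived base change of a K-flat complex is computed termwise -/
theorem isIso_lbcCounit_of_kflat {A B : Type u} [CommRing A] [CommRing B] (φ : A →+* B)
    [DRing.HasLBaseChange φ] (K : Cx A) (hK : KFlat K) :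
    IsIso ((Groth.Agent.Lib.Helper1.LDer.lbcCounit φ).app K) := by
  obtain ⟨P, π, hP, -, hπ, -⟩ := exists_kprojective_resolution K
  haveI := hP
  haveI : QuasiIso π := hπ
  have hPf : KFlat P := kflat_of_isKProjective P
  exact TorIndep.isIso_lbcCounit_of_quasiIso_ext φ K P π
    (quasiIso_extCx_map_of_kflat φ π hPf hK)

/-- the pushout step: tor amplitude of a K-flat complex under tor-independent base change -/
theorem hasTorAmp_pushout_torIndep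
    (htor : ∀ p : ℕ, 1 ≤ p → Subsingleton (DRing.Tor R p B R')) (K : Cx B) (hK : KFlat K)
    (a b : ℤ)
    (h0 : DRing.HasTorAmplitudeIn R a b (Q.obj ((resCx (algebraMap R B)).obj K))) :
    DRing.HasTorAmplitudeIn R' a b
      (Q.obj ((resCx (algebraMap R' (R' ⊗[R] B))).obj ((extCx (inr R R' B)).obj K))) := by
  haveI : DRing.HasLBaseChange (algebraMap R R') := LDerExist.hasLBaseChange _
  haveI : DRing.HasLBaseChange (algebraMap B (R' ⊗[R] B)) := LDerExist.hasLBaseChange _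
  have hsq : (algebraMap B (R' ⊗[R] B)).comp (algebraMap R B) =
      (algebraMap R' (R' ⊗[R] B)).comp (algebraMap R R') := by
    refine RingHom.ext fun r => ?_
    change (1 : R') ⊗ₜ[R] (algebraMap R B r) = (algebraMap R R' r) ⊗ₜ[R] (1 : B)
    rw [Algebra.algebraMap_eq_smul_one, Algebra.algebraMap_eq_smul_one, TensorProduct.smul_tmul]
  let K' : Dual.D B := Q.obj K
  have hK0 : DRing.HasTorAmplitudeIn R a b ((DRing.restrictD (algebraMap R B)).obj K') :=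
    hasTorAmp_of_iso (restrictQIso (algebraMap R B) _).symm h0
  have hK1 := Groth.Agent.S6948.result (algebraMap R R') _ a b hK0
  haveI := TorIndep.isIso_cmp R B R' (R' ⊗[R] B) htor (TorIndep.lbcAdj _) (TorIndep.lbcAdj _) hsq K'
  have e := asIso (TrivBC.cmp (TorIndep.lbcAdj (algebraMap R R'))
    (TorIndep.lbcAdj (algebraMap B (R' ⊗[R] B))) hsq K')
  have hK2 := hasTorAmp_of_iso e hK1
  haveI := isIso_lbcCounit_of_kflat (algebraMap B (R' ⊗[R] B)) K hK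
  have e1 : (DRing.LBaseChange (algebraMap B (R' ⊗[R] B))).obj K' ≅
      Q.obj ((extCx (algebraMap B (R' ⊗[R] B))).obj K) :=
    asIso ((Groth.Agent.Lib.Helper1.LDer.lbcCounit (algebraMap B (R' ⊗[R] B))).app K)
  exact hasTorAmp_of_iso ((DRing.restrictD (algebraMap R' (R' ⊗[R] B))).mapIso e1 ≪≫
      restrictQIso (algebraMap R' (R' ⊗[R] B)) _) hK2

/-- base change of tor amplitude along a square of rings which is, up to flat localizations,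
a tor-independent pushout square. -/
theorem hasTorAmp_baseChange_torIndep (σ : R →+* A) (σ' : R' →+* A') (φ : A →+* B)
    (β : A' →+* B') (γ : B →+* B') (δ : R' ⊗[R] B →+* B')
    (hRB : algebraMap R B = φ.comp σ)
    (hδ₁ : δ.comp (algebraMap R' (R' ⊗[R] B)) = β.comp σ')
    (hδ₂ : δ.comp (inr R R' B) = γ)
    (hσ : σ.Flat) (hσ' : σ'.Flat)
    (hloc' : ∀ N' : ModuleCat.{u} A', Nonempty ((ModuleCat.extendScalars.{u, u, u} σ').obj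
      ((ModuleCat.restrictScalars.{u} σ').obj N') ≅ N'))
    (hδ : δ.Flat)
    (htor : ∀ p : ℕ, 1 ≤ p → Subsingleton (DRing.Tor R p B R'))
    (K : Cx B) (hK : KFlat K) (a b : ℤ)
    (h : DRing.HasTorAmplitudeIn A a b (Q.obj ((resCx φ).obj K))) :
    DRing.HasTorAmplitudeIn A' a b (Q.obj ((resCx β).obj ((extCx γ).obj K))) := by
  subst hδ₂
  have h0 : DRing.HasTorAmplitudeIn R a b (Q.obj ((resCx (algebraMap R B)).obj K)) :=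
    hasTorAmp_of_iso (Q.mapIso (resResCxIso σ φ hRB K))
      (hasTorAmp_resCx_of_flat σ hσ _ a b h)
  have h1 := hasTorAmp_pushout_torIndep (R := R) (R' := R') (B := B) htor K hK a b h0
  have h2 := hasTorAmp_localize (algebraMap R' (R' ⊗[R] B)) δ σ' β hδ₁ hδ hσ' hloc'
    ((extCx (inr R R' B)).obj K) a b h1
  exact hasTorAmp_of_iso
    (Q.mapIso ((resCx β).mapIso ((extCompCx (inr R R' B) δ).app K))) h2

end Ring

section Stalk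

open Groth.Agent.Lib.T2H1.TorAmpBCSch Groth.Agent.Lib.Helper1.Sky Groth.Agent.Lib.Helper1.KBC
  Groth.Agent.Lib.Helper1.BKF Groth.Agent.Lib.T2H1.StalkTorAmp Groth.Agent.Lib.T2H1.RelPerfTri

variable {X S X' S' : Scheme.{u}} {f : X ⟶ S} {g : S' ⟶ S} {g' : X' ⟶ X} {f' : X' ⟶ S'}

set_option maxHeartbeats 1600000 in
/-- chart data at a point of a fibre product, for prescribed affine charts -/
theorem exists_delta_of_isPullback (H : IsPullback g' f' f g) (x' : X')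
    {W : S.Opens} (hW : IsAffineOpen W) {V : X.Opens} (hV : IsAffineOpen V)
    {W' : S'.Opens} (hW' : IsAffineOpen W')
    (hVW : V ≤ f ⁻¹ᵁ W) (hW'W : W' ≤ g ⁻¹ᵁ W) (hxV : g' x' ∈ V) (hyW' : f' x' ∈ W') :
    letI : Algebra Γ(S, W) Γ(S', W') := (g.appLE W W' hW'W).hom.toAlgebra
    letI : Algebra Γ(S, W) (X.presheaf.stalk (g' x')) :=
      ((f.stalkMap (g' x')).hom.comp
        (S.presheaf.germ W (f (g' x')) (hVW hxV)).hom).toAlgebra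
    ∃ δ : Γ(S', W') ⊗[Γ(S, W)] X.presheaf.stalk (g' x') →+* X'.presheaf.stalk x',
      δ.comp (algebraMap Γ(S', W') (Γ(S', W') ⊗[Γ(S, W)] X.presheaf.stalk (g' x'))) =
        (f'.stalkMap x').hom.comp (S'.presheaf.germ W' (f' x') hyW').hom ∧
      δ.comp (inr Γ(S, W) Γ(S', W') (X.presheaf.stalk (g' x'))) = (g'.stalkMap x').hom ∧
      δ.Flat := by
  have hxW : f (g' x') ∈ W := hVW hxV
  have hxU' : x' ∈ g' ⁻¹ᵁ V ⊓ f' ⁻¹ᵁ W' := ⟨hxV, hyW'⟩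
  have hU' : IsAffineOpen (g' ⁻¹ᵁ V ⊓ f' ⁻¹ᵁ W') := by
    haveI : IsAffine (W : Scheme.{u}) := hW
    haveI : IsAffine (W' : Scheme.{u}) := hW'
    haveI : IsAffine (V : Scheme.{u}) := hV
    exact .of_isIso (Scheme.Hom.isPullback_resLE H hW'W hVW rfl).isoPullback.hom
  have hiso := isIso_pushoutSection_of_isAffineOpen H hW'W hVW
    (rfl : g' ⁻¹ᵁ V ⊓ f' ⁻¹ᵁ W' = _) hW hW' hV
  have hPO := (isIso_pushoutSection_iff H hW'W hVW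
    (rfl : g' ⁻¹ᵁ V ⊓ f' ⁻¹ᵁ W' = _)).mp hiso
  -- the rings
  letI algRR' : Algebra Γ(S, W) Γ(S', W') := (g.appLE W W' hW'W).hom.toAlgebra
  letI algRS : Algebra Γ(S, W) Γ(X, V) := (f.appLE W V hVW).hom.toAlgebra
  let σ : Γ(S, W) →+* S.presheaf.stalk (f (g' x')) :=
    (S.presheaf.germ W (f (g' x')) hxW).hom
  let σ' : Γ(S', W') →+* S'.presheaf.stalk (f' x') :=
    (S'.presheaf.germ W' (f' x') hyW').hom
  letI algRB : Algebra Γ(S, W) (X.presheaf.stalk (g' x')) :=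
    ((f.stalkMap (g' x')).hom.comp σ).toAlgebra
  let e : Γ(S', W') ⊗[Γ(S, W)] Γ(X, V) ≃+*
      Γ(X', g' ⁻¹ᵁ V ⊓ f' ⁻¹ᵁ W') :=
    ((CommRingCat.isPushout_tensorProduct Γ(S, W) Γ(S', W') Γ(X, V)).isoIsPushout _ _
      hPO.flip).commRingCatIsoToRingEquiv
  have he₁ : ∀ r' : Γ(S', W'), e (r' ⊗ₜ 1) =
      (f'.appLE W' (g' ⁻¹ᵁ V ⊓ f' ⁻¹ᵁ W')
        (by simp)).hom r' := by
    intro r'
    exact congr($((CommRingCat.isPushout_tensorProduct Γ(S, W) Γ(S', W')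
      Γ(X, V)).inl_isoIsPushout_hom _ _ hPO.flip).hom r')
  have he₂ : ∀ s : Γ(X, V), e (1 ⊗ₜ s) =
      (g'.appLE V (g' ⁻¹ᵁ V ⊓ f' ⁻¹ᵁ W')
        (by simp)).hom s := by
    intro s
    exact congr($((CommRingCat.isPushout_tensorProduct Γ(S, W) Γ(S', W')
      Γ(X, V)).inr_isoIsPushout_hom _ _ hPO.flip).hom s)
  have hSB : algebraMap Γ(S, W) (X.presheaf.stalk (g' x')) =
      (X.presheaf.germ V (g' x') hxV).hom.comp
        (algebraMap Γ(S, W) Γ(X, V)) :=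
    congrArg CommRingCat.Hom.hom (germ_stalkMap_appLE f W V hVW (g' x') hxV)
  have hγ : (g'.stalkMap x').hom.comp
      (X.presheaf.germ V (g' x') hxV).hom =
      (X'.presheaf.germ _ x' hxU').hom.comp
        (g'.appLE V (g' ⁻¹ᵁ V ⊓ f' ⁻¹ᵁ W')
          (by simp)).hom :=
    congrArg CommRingCat.Hom.hom (germ_stalkMap_appLE g' V _ (by simp) x' hxU')
  have hρ : (f'.stalkMap x').hom.comp σ' =
      (X'.presheaf.germ _ x' hxU').hom.comp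
        (f'.appLE W' (g' ⁻¹ᵁ V ⊓ f' ⁻¹ᵁ W')
          (by simp)).hom :=
    congrArg CommRingCat.Hom.hom (germ_stalkMap_appLE f' W' _ (by simp) x' hxU')
  exact exists_flat_delta
    (R := Γ(S, W)) (R' := Γ(S', W')) (S := Γ(X, V))
    (f'.appLE W' (g' ⁻¹ᵁ V ⊓ f' ⁻¹ᵁ W')
      (by simp)).hom
    (g'.appLE V (g' ⁻¹ᵁ V ⊓ f' ⁻¹ᵁ W')
      (by simp)).hom
    (X.presheaf.germ V (g' x') hxV).hom
    (X'.presheaf.germ _ x' hxU').hom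
    (g'.stalkMap x').hom
    ((f'.stalkMap x').hom.comp σ')
    e he₁ he₂ hSB (hV.primeIdealOf ⟨g' x', hxV⟩).asIdeal.primeCompl
    (hV.isLocalization_stalk ⟨g' x', hxV⟩)
    (flat_germ hU' x' hxU') hγ hρ

set_option maxHeartbeats 1600000 in
/-- base change of tor amplitude at a point, along a base change which is tor independent on a
chart -/
theorem tAat_Lpull_of_isPullback (H : IsPullback g' f' f g) (x' : X')
    {W : S.Opens} (hW : IsAffineOpen W) {V : X.Opens} (hV : IsAffineOpen V)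
    {W' : S'.Opens} (hW' : IsAffineOpen W')
    (hVW : V ≤ f ⁻¹ᵁ W) (hW'W : W' ≤ g ⁻¹ᵁ W) (hxV : g' x' ∈ V) (hyW' : f' x' ∈ W')
    (htor : letI : Algebra Γ(S, W) Γ(S', W') := (g.appLE W W' hW'W).hom.toAlgebra
      letI : Algebra Γ(S, W) (X.presheaf.stalk (g' x')) :=
        ((f.stalkMap (g' x')).hom.comp
          (S.presheaf.germ W (f (g' x')) (hVW hxV)).hom).toAlgebra
      ∀ p : ℕ, 1 ≤ p → Subsingleton (DRing.Tor Γ(S, W) p (X.presheaf.stalk (g' x')) Γ(S', W')))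
    [DCoh.HasLpull g'] (E : DCoh.D X) (a b : ℤ) (hE : TAat f a b E (g' x')) :
    TAat f' a b ((DCoh.Lpull g').obj E) x' := by
  have hxW : f (g' x') ∈ W := hVW hxV
  letI algRR' : Algebra Γ(S, W) Γ(S', W') := (g.appLE W W' hW'W).hom.toAlgebra
  let σ : Γ(S, W) →+* S.presheaf.stalk (f (g' x')) :=
    (S.presheaf.germ W (f (g' x')) hxW).hom
  let σ' : Γ(S', W') →+* S'.presheaf.stalk (f' x') :=
    (S'.presheaf.germ W' (f' x') hyW').hom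
  letI algRB : Algebra Γ(S, W) (X.presheaf.stalk (g' x')) :=
    ((f.stalkMap (g' x')).hom.comp σ).toAlgebra
  obtain ⟨δ, hδ₁, hδ₂, hδ⟩ := exists_delta_of_isPullback H x' hW hV hW' hVW hW'W hxV hyW'
  have hσ : σ.Flat := flat_germ hW _ hxW
  have hσ' : σ'.Flat := flat_germ hW' _ hyW'
  have hloc' := Groth.Agent.Lib.T2H1.TorAmpQCoh.nonempty_extendScalars_restrictScalars_iso σ'
      (hW'.primeIdealOf ⟨f' x', hyW'⟩).asIdeal.primeCompl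
      (hW'.isLocalization_stalk ⟨f' x', hyW'⟩)
  -- a K-flat resolution
  let F₀ : CochainComplex X.Modules ℤ := (Q : _ ⥤ DCoh.D X).objPreimage E
  have e₀ : DCoh.toD X F₀ ≅ E := (Q : _ ⥤ DCoh.D X).objObjPreimageIso E
  obtain ⟨P, q, hP, -, hq, -⟩ : ∃ (P : CochainComplex X.Modules ℤ) (q : P ⟶ F₀),
      DCoh.IsKFlat P ∧ (∀ n : ℤ, ModSite.IsFlat (O := X.sheaf) (P.X n)) ∧ QuasiIso q ∧
        ∀ n : ℤ, Epi (q.f n) := exists_kflat_flat_resolution X.sheaf F₀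
  haveI hqi : IsIso (DerivedCategory.Q.map q) := by
    rw [DerivedCategory.isIso_Q_map_iff_quasiIso]; exact hq
  have eP : DCoh.toD X P ≅ E := asIso (DerivedCategory.Q.map q) ≪≫ e₀
  have e1 : (DCoh.Lpull g').obj E ≅ DCoh.toD X' ((pullC g').obj P) :=
    (DCoh.Lpull g').mapIso eP.symm ≪≫ lpullIsoK g' P hP
  refine TAat.of_iso f' e1.symm ((tAat_toD_iff f' a b _ x').2 ?_)
  have hK : KFlat ((stalkC (g' x')).obj P) :=
    fun L hL => rKFlat_stalk_of_isKFlat (g' x') P hP L hL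
  have h2 : DerSch.HasTorAmplitudeAt f a b P (g' x') :=
    (tAat_toD_iff f a b P _).1 (TAat.of_iso f eP.symm hE)
  have h2' : DRing.HasTorAmplitudeIn (S.presheaf.stalk (f.base (g' x'))) a b
      (Q.obj ((resCx (f.stalkMap (g' x')).hom).obj
        (((DerSch.stalkFunctor X (g' x')).mapHomologicalComplex
          (ComplexShape.up ℤ)).obj P))) := h2
  have hKA : DRing.HasTorAmplitudeIn (S.presheaf.stalk (f.base (g' x'))) a b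
      (Q.obj ((resCx (f.stalkMap (g' x')).hom).obj ((stalkC (g' x')).obj P))) :=
    hasTorAmp_of_iso
      (Q.mapIso ((resCx (f.stalkMap (g' x')).hom).mapIso
        ((NatIso.mapHomologicalComplex (stalkFunctorIso (g' x'))
          (ComplexShape.up ℤ)).app P))) h2'
  have h3 := hasTorAmp_baseChange_torIndep σ σ' (f.stalkMap (g' x')).hom
    (f'.stalkMap x').hom (g'.stalkMap x').hom δ rfl hδ₁ hδ₂
    hσ hσ' hloc' hδ htor ((stalkC (g' x')).obj P) hK a b hKA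
  refine hasTorAmp_of_iso ?_ h3
  exact Q.mapIso ((NatIso.mapHomologicalComplex
    (stalkOverPullbackIso' g' f' x') (ComplexShape.up ℤ)).app P).symm

end Stalk

section Sch

open Groth.Agent.Lib.T2H1.SmoothTorSch Groth.Agent.Lib.T2H1.TorAmpBCSch TopologicalSpace
  Groth.Agent.Lib.T2H4.RelPC Groth.Agent.Lib.T2H1.RelPerfTri

/-- tor amplitude at a point relative to the base is stable under flat base change -/
theorem tAat_Lpull_of_isPullback_of_flat {X S X' S' : Scheme.{u}} (f : X ⟶ S) (f' : X' ⟶ S')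
    (g' : X' ⟶ X) (g : S' ⟶ S) [Flat g] (H : IsPullback g' f' f g) [DCoh.HasLpull g']
    (E : DCoh.D X) (a b : ℤ) (x' : X') (hE : TAat f a b E (g' x')) :
    TAat f' a b ((DCoh.Lpull g').obj E) x' := by
  have hxy : f (g' x') = g (f' x') := by
    have h1 := congrArg (fun φ : X' ⟶ S => φ x') H.w
    simpa using h1
  obtain ⟨W, hW, hxW, -⟩ := Opens.isBasis_iff_nbhd.mp S.isBasis_affineOpens
    (Opens.mem_top (f (g' x')))
  obtain ⟨V, hV, hxV, hVW⟩ := Opens.isBasis_iff_nbhd.mp X.isBasis_affineOpens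
    (show g' x' ∈ f ⁻¹ᵁ W from hxW)
  obtain ⟨W', hW', hyW', hW'W⟩ := Opens.isBasis_iff_nbhd.mp S'.isBasis_affineOpens
    (show f' x' ∈ g ⁻¹ᵁ W from by change g (f' x') ∈ W; rw [← hxy]; exact hxW)
  refine tAat_Lpull_of_isPullback H x' hW hV hW' hVW hW'W hxV hyW' ?_ E a b hE
  letI : Algebra Γ(S, W) Γ(S', W') := (g.appLE W W' hW'W).hom.toAlgebra
  letI : Algebra Γ(S, W) (X.presheaf.stalk (g' x')) :=
    ((f.stalkMap (g' x')).hom.comp (S.presheaf.germ W (f (g' x')) (hVW hxV)).hom).toAlgebra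
  haveI : Module.Flat Γ(S, W) Γ(S', W') := Scheme.Hom.flat_appLE g hW hW' hW'W
  intro p hp
  exact ModuleCat.subsingleton_of_isZero
    (Groth.Agent.Helper13Tor.isZero_tor_of_flat_right
      (ModuleCat.of Γ(S, W) (X.presheaf.stalk (g' x'))) (ModuleCat.of Γ(S, W) Γ(S', W')) p hp)

set_option maxHeartbeats 1600000 in
/-- tor-independent base change of relative tor amplitude: `Y₂` and `X₂` flat over `S`, `Y₁` any
`S`-scheme, `g : Y₁ ×_S X₂ ⟶ Y₁ ×_S Y₂` the base change of `f₂`. -/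
theorem tAat_Lpull_torIndep {S Y₁ Y₂ X₂ Y Z : Scheme.{u}} (q₁ : Y₁ ⟶ S) (q₂ : Y₂ ⟶ S)
    (f₂ : X₂ ⟶ Y₂) [Flat q₂] [Flat (f₂ ≫ q₂)]
    (pY₁ : Y ⟶ Y₁) (pY₂ : Y ⟶ Y₂) (hY : IsPullback pY₁ pY₂ q₁ q₂)
    (pZ₁ : Z ⟶ Y₁) (pZ₂ : Z ⟶ X₂) (hZ : IsPullback pZ₁ pZ₂ q₁ (f₂ ≫ q₂))
    (g : Z ⟶ Y) (hg₁ : g ≫ pY₁ = pZ₁) (hg₂ : g ≫ pY₂ = pZ₂ ≫ f₂)
    [DCoh.HasLpull pZ₂] (E : DCoh.D X₂) (a b : ℤ) (z : Z) (hE : TAat f₂ a b E (pZ₂ z)) :
    TAat g a b ((DCoh.Lpull pZ₂).obj E) z := by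
  subst hg₁
  have H : IsPullback pZ₂ g f₂ pY₂ := (IsPullback.of_right hZ hg₂ hY).flip
  obtain ⟨S₀, hS₀, hzS₀, -⟩ := Opens.isBasis_iff_nbhd.mp S.isBasis_affineOpens
    (Opens.mem_top (q₁ ((g ≫ pY₁) z)))
  obtain ⟨W₁, hW₁, hzW₁, eW₁⟩ := Opens.isBasis_iff_nbhd.mp Y₁.isBasis_affineOpens
    (show (g ≫ pY₁) z ∈ q₁ ⁻¹ᵁ S₀ from hzS₀)
  have hz2 : q₂ (f₂ (pZ₂ z)) = q₁ ((g ≫ pY₁) z) := by
    have h1 := congrArg (fun φ : Z ⟶ S => φ z) hZ.w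
    simpa using h1.symm
  obtain ⟨V, hV, hzV, eV⟩ := Opens.isBasis_iff_nbhd.mp Y₂.isBasis_affineOpens
    (show f₂ (pZ₂ z) ∈ q₂ ⁻¹ᵁ S₀ from by
      change q₂ (f₂ (pZ₂ z)) ∈ S₀; rw [hz2]; exact hzS₀)
  obtain ⟨U, hU, hzU, eU⟩ := Opens.isBasis_iff_nbhd.mp X₂.isBasis_affineOpens
    (show pZ₂ z ∈ f₂ ⁻¹ᵁ V from hzV)
  have hV' : IsAffineOpen (pY₁ ⁻¹ᵁ W₁ ⊓ pY₂ ⁻¹ᵁ V) := by
    haveI : IsAffine (S₀ : Scheme.{u}) := hS₀
    haveI : IsAffine (W₁ : Scheme.{u}) := hW₁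
    haveI : IsAffine (V : Scheme.{u}) := hV
    exact .of_isIso (Scheme.Hom.isPullback_resLE hY eV eW₁ rfl).isoPullback.hom
  have hgz : g z ∈ pY₁ ⁻¹ᵁ W₁ ⊓ pY₂ ⁻¹ᵁ V := by
    refine ⟨?_, ?_⟩
    · have h1 : (g ≫ pY₁) z ∈ W₁ := hzW₁
      simpa using h1
    · have h3 := congrArg (fun φ : Z ⟶ Y₂ => φ z) hg₂
      change pY₂ (g z) ∈ V
      simp only [Scheme.Hom.comp_apply] at h3
      rw [h3]
      exact hzV
  have eV' : pY₁ ⁻¹ᵁ W₁ ⊓ pY₂ ⁻¹ᵁ V ≤ pY₂ ⁻¹ᵁ V := inf_le_right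
  refine tAat_Lpull_of_isPullback H z hV hU hV' eU eV' hzU hgz ?_ E a b hE
  have hiso := isIso_pushoutSection_of_isAffineOpen hY eV eW₁
    (rfl : pY₁ ⁻¹ᵁ W₁ ⊓ pY₂ ⁻¹ᵁ V = _) hS₀ hV hW₁
  have hPO := (isIso_pushoutSection_iff hY eV eW₁
    (rfl : pY₁ ⁻¹ᵁ W₁ ⊓ pY₂ ⁻¹ᵁ V = _)).mp hiso
  letI : Algebra Γ(Y₂, V) Γ(Y, pY₁ ⁻¹ᵁ W₁ ⊓ pY₂ ⁻¹ᵁ V) :=
    (pY₂.appLE V (pY₁ ⁻¹ᵁ W₁ ⊓ pY₂ ⁻¹ᵁ V) eV').hom.toAlgebra
  letI : Algebra Γ(Y₂, V) (X₂.presheaf.stalk (pZ₂ z)) :=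
    ((f₂.stalkMap (pZ₂ z)).hom.comp (Y₂.presheaf.germ V (f₂ (pZ₂ z)) (eU hzU)).hom).toAlgebra
  letI : Algebra Γ(S, S₀) Γ(Y₂, V) := (q₂.appLE S₀ V eV).hom.toAlgebra
  letI : Algebra Γ(S, S₀) Γ(Y₁, W₁) := (q₁.appLE S₀ W₁ eW₁).hom.toAlgebra
  letI : Algebra Γ(Y₁, W₁) Γ(Y, pY₁ ⁻¹ᵁ W₁ ⊓ pY₂ ⁻¹ᵁ V) :=
    (pY₁.appLE W₁ (pY₁ ⁻¹ᵁ W₁ ⊓ pY₂ ⁻¹ᵁ V) inf_le_left).hom.toAlgebra
  letI : Algebra Γ(S, S₀) Γ(Y, pY₁ ⁻¹ᵁ W₁ ⊓ pY₂ ⁻¹ᵁ V) :=
    ((algebraMap Γ(Y₂, V) Γ(Y, pY₁ ⁻¹ᵁ W₁ ⊓ pY₂ ⁻¹ᵁ V)).comp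
      (algebraMap Γ(S, S₀) Γ(Y₂, V))).toAlgebra
  letI : Algebra Γ(S, S₀) (X₂.presheaf.stalk (pZ₂ z)) :=
    ((algebraMap Γ(Y₂, V) (X₂.presheaf.stalk (pZ₂ z))).comp
      (algebraMap Γ(S, S₀) Γ(Y₂, V))).toAlgebra
  haveI : IsScalarTower Γ(S, S₀) Γ(Y₂, V) (X₂.presheaf.stalk (pZ₂ z)) :=
    .of_algebraMap_eq' rfl
  haveI : IsScalarTower Γ(S, S₀) Γ(Y₂, V) Γ(Y, pY₁ ⁻¹ᵁ W₁ ⊓ pY₂ ⁻¹ᵁ V) :=
    .of_algebraMap_eq' rfl
  haveI : IsScalarTower Γ(S, S₀) Γ(Y₁, W₁) Γ(Y, pY₁ ⁻¹ᵁ W₁ ⊓ pY₂ ⁻¹ᵁ V) :=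
    .of_algebraMap_eq' (congrArg CommRingCat.Hom.hom hPO.w.symm)
  haveI : Algebra.IsPushout Γ(S, S₀) Γ(Y₂, V) Γ(Y₁, W₁) Γ(Y, pY₁ ⁻¹ᵁ W₁ ⊓ pY₂ ⁻¹ᵁ V) :=
    (CommRingCat.isPushout_iff_isPushout (R := Γ(S, S₀)) (R' := Γ(Y₂, V)) (S := Γ(Y₁, W₁))
      (S' := Γ(Y, pY₁ ⁻¹ᵁ W₁ ⊓ pY₂ ⁻¹ᵁ V))).1 hPO.flip
  haveI : Module.Flat Γ(S, S₀) Γ(Y₂, V) := Scheme.Hom.flat_appLE q₂ hS₀ hV eV
  haveI : Module.Flat Γ(S, S₀) (X₂.presheaf.stalk (pZ₂ z)) := by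
    have h1 : algebraMap Γ(S, S₀) (X₂.presheaf.stalk (pZ₂ z)) =
        ((f₂ ≫ q₂).stalkMap (pZ₂ z)).hom.comp
          (S.presheaf.germ S₀ ((f₂ ≫ q₂) (pZ₂ z)) (eV (eU hzU))).hom := by
      have h2 := germ_stalkMap_appLE q₂ S₀ V eV (f₂ (pZ₂ z)) (eU hzU)
      rw [Scheme.Hom.stalkMap_comp]
      change ((f₂.stalkMap (pZ₂ z)).hom.comp
        (Y₂.presheaf.germ V (f₂ (pZ₂ z)) (eU hzU)).hom).comp (q₂.appLE S₀ V eV).hom = _
      rw [RingHom.comp_assoc, ← CommRingCat.hom_comp, ← h2]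
      rfl
    have h3 : (algebraMap Γ(S, S₀) (X₂.presheaf.stalk (pZ₂ z))).Flat := by
      rw [h1]
      exact RingHom.Flat.comp (flat_germ hS₀ _ _) (Flat.stalkMap (f₂ ≫ q₂) (pZ₂ z))
    exact h3
  intro p hp
  exact subsingleton_tor_of_pushout Γ(S, S₀) Γ(Y₂, V) (X₂.presheaf.stalk (pZ₂ z)) Γ(Y₁, W₁)
    Γ(Y, pY₁ ⁻¹ᵁ W₁ ⊓ pY₂ ⁻¹ᵁ V) p hp
    (ModuleCat.subsingleton_of_isZero
      (Groth.Agent.Helper13Tor.isZero_tor_of_flat (ModuleCat.of Γ(S, S₀) Γ(Y₁, W₁))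
        (ModuleCat.of Γ(S, S₀) (X₂.presheaf.stalk (pZ₂ z))) p hp))

end Sch

section Ext

open Groth.Agent.Lib.T2H1.RelPerfTri Groth.Agent.Lib.T2H1.LpullTensorTorAmp
  Groth.Agent.Lib.Helper1.Sky

/-- derived pullback along equal morphisms -/
theorem nonempty_Lpull_iso_of_eq {X Y : Scheme.{u}} {p p' : X ⟶ Y} (h : p = p')
    [DCoh.HasLpull p] [DCoh.HasLpull p'] : Nonempty (DCoh.Lpull p ≅ DCoh.Lpull p') := by
  subst h
  exact ⟨Iso.refl _⟩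

/-- tor amplitude of objects of the derived category, transported along an isomorphism -/
theorem hasTorAmplitudeD_of_iso {X Y : Scheme.{u}} (f : X ⟶ Y) (a b : ℤ) {K K' : DCoh.D X}
    (e : K ≅ K') (h : DerSch.HasTorAmplitudeD f a b K) : DerSch.HasTorAmplitudeD f a b K' := by
  rintro F ⟨eF⟩
  exact h F ⟨eF ≪≫ e.symm⟩

set_option maxHeartbeats 1600000 in
/-- the external derived tensor product, second factor flat over the base: tor amplitude relative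
to `f₁ ×_S f₂` -/
theorem hasTorAmplitudeD_externalTensor {S X₁ Y₁ X₂ Y₂ X Y : Scheme.{u}} (f₁ : X₁ ⟶ Y₁)
    (q₁ : Y₁ ⟶ S) (f₂ : X₂ ⟶ Y₂) (q₂ : Y₂ ⟶ S) [Flat q₂] [Flat (f₂ ≫ q₂)]
    (pX₁ : X ⟶ X₁) (pX₂ : X ⟶ X₂) (hX : IsPullback pX₁ pX₂ (f₁ ≫ q₁) (f₂ ≫ q₂))
    (pY₁ : Y ⟶ Y₁) (pY₂ : Y ⟶ Y₂) (hY : IsPullback pY₁ pY₂ q₁ q₂)
    (f : X ⟶ Y) (hf₁ : f ≫ pY₁ = pX₁ ≫ f₁) (hf₂ : f ≫ pY₂ = pX₂ ≫ f₂)
    (E₁ : CochainComplex X₁.Modules ℤ) (a₁ b₁ : ℤ) (h₁ : DerSch.HasTorAmplitude f₁ a₁ b₁ E₁)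
    (E₂ : CochainComplex X₂.Modules ℤ) (a₂ b₂ : ℤ) (h₂ : DerSch.HasTorAmplitude f₂ a₂ b₂ E₂)
    [DCoh.HasLpull pX₁] [DCoh.HasLpull pX₂]
    (K₂ : CochainComplex X.Modules ℤ) [DCoh.HasLTensorCx K₂]
    (eK : DCoh.toD X K₂ ≅ (DCoh.Lpull pX₂).obj (DCoh.toD X₂ E₂)) :
    DerSch.HasTorAmplitudeD f (a₁ + a₂) (b₁ + b₂)
      ((DCoh.LTensorCx K₂).obj ((DCoh.Lpull pX₁).obj (DCoh.toD X₁ E₁))) := by
  -- the intermediate scheme `Z' = X₁ ×_S Y₂`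
  let r₁ : pullback (f₁ ≫ q₁) q₂ ⟶ X₁ := pullback.fst _ _
  let r₂ : pullback (f₁ ≫ q₁) q₂ ⟶ Y₂ := pullback.snd _ _
  have hZ' : IsPullback r₁ r₂ (f₁ ≫ q₁) q₂ := IsPullback.of_hasPullback _ _
  let φ : X ⟶ pullback (f₁ ≫ q₁) q₂ :=
    pullback.lift pX₁ (pX₂ ≫ f₂) (by rw [Category.assoc]; exact hX.w)
  have hφ₁ : φ ≫ r₁ = pX₁ := pullback.lift_fst _ _ _
  have hφ₂ : φ ≫ r₂ = pX₂ ≫ f₂ := pullback.lift_snd _ _ _
  let ψ : pullback (f₁ ≫ q₁) q₂ ⟶ Y :=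
    hY.lift (r₁ ≫ f₁) r₂ (by rw [Category.assoc]; exact hZ'.w)
  have hψ₁ : ψ ≫ pY₁ = r₁ ≫ f₁ := hY.lift_fst _ _ _
  have hψ₂ : ψ ≫ pY₂ = r₂ := hY.lift_snd _ _ _
  have hφψ : φ ≫ ψ = f := by
    apply hY.hom_ext
    · rw [Category.assoc, hψ₁, ← Category.assoc, hφ₁, hf₁]
    · rw [Category.assoc, hψ₂, hφ₂, hf₂]
  haveI : DCoh.HasLpull r₁ := hasLpull r₁
  haveI : DCoh.HasLpull φ := hasLpull φ
  haveI : DCoh.HasLpull (φ ≫ r₁) := hasLpull _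
  -- `K₂` relative to `φ`
  have hK₂ : DerSch.HasTorAmplitude φ a₂ b₂ K₂ := by
    intro x
    refine (tAat_toD_iff φ a₂ b₂ K₂ x).1 (TAat.of_iso φ eK.symm ?_)
    exact tAat_Lpull_torIndep (f₁ ≫ q₁) q₂ f₂ r₁ r₂ hZ' pX₁ pX₂ hX φ hφ₁ hφ₂
      (DCoh.toD X₂ E₂) a₂ b₂ x ((tAat_toD_iff f₂ a₂ b₂ E₂ _).2 (h₂ (pX₂ x)))
  -- the pullback of `E₁` relative to `ψ`
  let G : CochainComplex (pullback (f₁ ≫ q₁) q₂).Modules ℤ :=
    (DerivedCategory.Q : _ ⥤ DCoh.D (pullback (f₁ ≫ q₁) q₂)).objPreimage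
      ((DCoh.Lpull r₁).obj (DCoh.toD X₁ E₁))
  have eG : DCoh.toD _ G ≅ (DCoh.Lpull r₁).obj (DCoh.toD X₁ E₁) :=
    (DerivedCategory.Q : _ ⥤ DCoh.D (pullback (f₁ ≫ q₁) q₂)).objObjPreimageIso _
  haveI : Flat pY₁ := MorphismProperty.of_isPullback (P := @Flat) hY.flip inferInstance
  have H1 : IsPullback r₁ ψ f₁ pY₁ := by
    have t : IsPullback (ψ ≫ pY₂) r₁ q₂ (f₁ ≫ q₁) := by rw [hψ₂]; exact hZ'.flip
    exact (IsPullback.of_right t hψ₁ hY.flip).flip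
  have hG : DerSch.HasTorAmplitude ψ a₁ b₁ G := by
    intro z
    refine (tAat_toD_iff ψ a₁ b₁ G z).1 (TAat.of_iso ψ eG.symm ?_)
    exact tAat_Lpull_of_isPullback_of_flat f₁ ψ r₁ pY₁ H1 (DCoh.toD X₁ E₁) a₁ b₁ z
      ((tAat_toD_iff f₁ a₁ b₁ E₁ _).2 (h₁ (r₁ z)))
  have h3 := hasTorAmplitudeD_LTensorCx_Lpull φ ψ K₂ a₂ b₂ hK₂ G a₁ b₁ hG
  obtain ⟨c⟩ := nonempty_lpull_comp_iso φ r₁
  obtain ⟨c'⟩ := nonempty_Lpull_iso_of_eq hφ₁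
  subst hφψ
  rw [add_comm a₁ a₂, add_comm b₁ b₂]
  refine hasTorAmplitudeD_of_iso _ _ _ ((DCoh.LTensorCx K₂).mapIso ?_) h3
  exact (DCoh.Lpull φ).mapIso eG ≪≫ c.app (DCoh.toD X₁ E₁) ≪≫ c'.app (DCoh.toD X₁ E₁)

end Ext

end Groth.Agent.Lib.T2H1.ExtTensorTorAmp
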