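import Mathlib
import Groth.Prelude.Def_CohCx
import Groth.Agent.Lib.Helper17Hyp25
import Groth.Agent.Lib.Helper17Hyp17
import Groth.Agent.Lib.Helper17KInjD4
import Groth.Agent.Lib.Helper17DBrown1
import Groth.Agent.Lib.Helper21PushAcyc
import Groth.Agent.S0931

/-!
# Negative vanishing on a basis and the sheaf of `H^0` (T2H2)

For a morphism of sites `F : D ⥤ C` with exact inverse image, the total derived direct image
`RG : D(Sh C) ⥤ D(Sh D)` is right adjoint to `F⁻¹` (`adjRG`), and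
`Hom(ℤ_V, (RG K)[m]) ≃ Hom(ℤ_{F V}, K[m])` naturally in `V` (`hEquiv`, `hEquiv_res`).
If `H^i(F V, K) = 0` for `i < 0` and `V` in a basis, then `RG K ∈ D^{≥ 0}` (`isGE_of_basis`),
whence the vanishing for all `V` and the sheaf property of `V ↦ H^0(F V, K)` (`site_main`,
`top_main`).
-/

set_option autoImplicit false
set_option linter.style.haveILetI false
universe w w₁ w₂ v₁ v₂ u₁ u₂ v' u' u
open CategoryTheory CategoryTheory.Limits Opposite

namespace Groth.Agent.Lib.T2H2.NegVan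

open Groth.Agent.Lib.Helper17.Hyp Groth.Agent.Lib.Helper17.KInj DerivedCategory Pretriangulated
  Groth.Agent.S14388

section TS

variable {A : Type u₁} [Category.{v₁} A] [Abelian A] [HasDerivedCategory.{w₁} A]

lemma c₀_single_map {P H : A} (g : P ⟶ H) :
    c₀ (K := dsgl H) (Q.map ((HomologicalComplex.single A (ComplexShape.up ℤ) 0).map g)) =
      g ≫ (e₀ H).inv := by
  have h := c₀_precomp g (𝟙 (dsgl H))
  rw [Category.comp_id] at h
  rw [h]
  simp [c₀]

lemma bijective_c₀_single (P H : A) :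
    Function.Bijective (fun ξ : dsgl P ⟶ dsgl H => c₀ ξ) := by
  have h1 : Function.Bijective (fun g : P ⟶ H =>
      (Q.map ((HomologicalComplex.single A (ComplexShape.up ℤ) 0).map g) : dsgl P ⟶ dsgl H)) :=
    ⟨(singleFunctor A 0).map_injective, (singleFunctor A 0).map_surjective⟩
  have h2 : Function.Bijective (fun g : P ⟶ H => g ≫ (e₀ H).inv) := by
    constructor
    · intro g g' hg
      exact (cancel_mono _).1 hg
    · intro y
      exact ⟨y ≫ (e₀ H).hom, by simp⟩
  have h3 : (fun g : P ⟶ H => g ≫ (e₀ H).inv) =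
      (fun ξ : dsgl P ⟶ dsgl H => c₀ ξ) ∘ (fun g : P ⟶ H =>
        (Q.map ((HomologicalComplex.single A (ComplexShape.up ℤ) 0).map g) : dsgl P ⟶ dsgl H)) := by
    funext g
    exact (c₀_single_map g).symm
  rw [h3] at h2
  exact (Function.Bijective.of_comp_iff _ h1).1 h2

/-- for `L ∈ D^{≥ 0}`, `Hom(P[0], L) ≃ Hom(P, H^0 L)`. -/
theorem bijective_c₀_of_isGE (P : A) (L : DerivedCategory A) [L.IsGE 0] :
    Function.Bijective (fun ξ : dsgl P ⟶ L => c₀ ξ) := by
  let T := (tt.truncLE 0).obj L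
  let ι : T ⟶ L := (tt.truncLEι 0).app L
  have hT := tt.triangleLEGT_distinguished 0 L
  haveI : tt.IsLE (dsgl P) 0 := by
    change tt.IsLE ((singleFunctor A 0).obj P) 0
    infer_instance
  -- post-composition with `ι` is bijective
  have hpost : Function.Bijective (fun y : dsgl P ⟶ T => y ≫ ι) := by
    constructor
    · intro y y' hyy
      have hT' := inv_rot_of_distTriang _ hT
      have h0 : (y - y') ≫ ((tt.triangleLEGT 0).obj L).invRotate.mor₂ = 0 := by
        change (y - y') ≫ ι = 0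
        rw [Preadditive.sub_comp]
        exact sub_eq_zero.2 hyy
      obtain ⟨g, hg⟩ := Triangle.coyoneda_exact₂ _ hT' (y - y') h0
      haveI : tt.IsGE ((tt.truncGT 0).obj L) 1 := tt.isGE_truncGT_obj L 0 1
      haveI : tt.IsGE (((tt.triangleLEGT 0).obj L).invRotate.obj₁) 2 := by
        change tt.IsGE (((tt.truncGT 0).obj L)⟦(-1 : ℤ)⟧) 2
        exact tt.isGE_shift ((tt.truncGT 0).obj L) 1 (-1) 2 (by omega)
      have hg0 : g = 0 := tt.zero g 0 2 (by omega)
      rw [hg0, zero_comp] at hg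
      exact sub_eq_zero.1 hg
    · intro z
      haveI : tt.IsGE ((tt.truncGT 0).obj L) 1 := tt.isGE_truncGT_obj L 0 1
      have hz : z ≫ ((tt.triangleLEGT 0).obj L).mor₂ = 0 := by
        change z ≫ (tt.truncGTπ 0).app L = 0
        exact tt.zero _ 0 1 (by omega)
      obtain ⟨g, hg⟩ := Triangle.coyoneda_exact₂ _ hT z hz
      exact ⟨g, hg.symm⟩
  -- `T` is a single object
  obtain ⟨H, ⟨e₁⟩⟩ := exists_iso_singleFunctor_obj_of_isGE_of_isLE T 0
  let e : T ≅ dsgl H := e₁
  -- `H^0(ι)` is an isomorphism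
  haveI hι : IsIso ((homologyFunctor A 0).map ι) :=
    isIso_homology_truncLTι (0 + 1) 0 (by omega) L
  have h1 : Function.Bijective (fun y : dsgl P ⟶ dsgl H => y ≫ e.inv ≫ ι) := by
    have : (fun y : dsgl P ⟶ dsgl H => y ≫ e.inv ≫ ι) =
        (fun y : dsgl P ⟶ T => y ≫ ι) ∘ (fun y : dsgl P ⟶ dsgl H => y ≫ e.inv) := by
      funext y
      simp
    rw [this]
    refine hpost.comp ⟨fun y y' h => (cancel_mono _).1 h, fun z => ⟨z ≫ e.hom, by simp⟩⟩
  have hiso : IsIso ((homologyFunctor A 0).map (e.inv ≫ ι)) := by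
    rw [Functor.map_comp]
    infer_instance
  have h2 : Function.Bijective (fun s : P ⟶ (homologyFunctor A 0).obj (dsgl H) =>
      s ≫ (homologyFunctor A 0).map (e.inv ≫ ι)) :=
    ⟨fun y y' h => (cancel_mono _).1 h,
      fun z => ⟨z ≫ inv ((homologyFunctor A 0).map (e.inv ≫ ι)), by simp⟩⟩
  have h3 : (fun ξ : dsgl P ⟶ L => c₀ ξ) ∘ (fun y : dsgl P ⟶ dsgl H => y ≫ e.inv ≫ ι) =
      (fun s : P ⟶ (homologyFunctor A 0).obj (dsgl H) =>
        s ≫ (homologyFunctor A 0).map (e.inv ≫ ι)) ∘ (fun ξ : dsgl P ⟶ dsgl H => c₀ ξ) := by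
    funext y
    exact c₀_comp y (e.inv ≫ ι)
  have h4 := h2.comp (bijective_c₀_single P H)
  rw [← h3] at h4
  exact (Function.Bijective.of_comp_iff _ h1).1 h4

end TS

section Adj

variable {T : Type u₁} [Category.{v₁} T] [Preadditive T] [HasShift T ℤ]
  {T' : Type u₂} [Category.{v₂} T'] [Preadditive T'] [HasShift T' ℤ]
  {G : T ⥤ T'} {R : T' ⥤ T} (adj : G ⊣ R) [R.CommShift ℤ]

omit [Preadditive T] [Preadditive T'] in
lemma adjShiftEquiv_precomp {P P' : T} (g : P' ⟶ P) (X : T') (m : ℤ) (y : P ⟶ (R.obj X)⟦m⟧) :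
    adjShiftEquiv adj P' X m (g ≫ y) = G.map g ≫ adjShiftEquiv adj P X m y := by
  change (adj.homEquiv P' (X⟦m⟧)).symm ((g ≫ y) ≫ (R.commShiftIso m).inv.app X) =
    G.map g ≫ (adj.homEquiv P (X⟦m⟧)).symm (y ≫ (R.commShiftIso m).inv.app X)
  rw [Category.assoc, Adjunction.homEquiv_naturality_left_symm]

end Adj

section DerAdj

variable {A : Type u₁} [Category.{v₁} A] [Abelian A] {B : Type u₂} [Category.{v₂} B] [Abelian B]
  [IsGrothendieckAbelian.{v₂} B] [HasDerivedCategory.{w₁} A] [HasDerivedCategory.{w₂} B]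
  (Fp : A ⥤ B) (G : B ⥤ A) (adj : Fp ⊣ G) [Fp.Additive] [G.Additive]
  [PreservesFiniteLimits Fp] [PreservesFiniteColimits Fp]

/-- `G` on complexes followed by localization. -/
noncomputable abbrev pushQ : CochainComplex B ℤ ⥤ DerivedCategory A :=
  G.mapHomologicalComplex (ComplexShape.up ℤ) ⋙ DerivedCategory.Q

instance hasPointwiseRightDerivedFunctor_pushQ :
    (pushQ G).HasPointwiseRightDerivedFunctor
      (HomologicalComplex.quasiIso B (ComplexShape.up ℤ)) :=
  (fibLocalizerMorphism_derives.{v₂} _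
    (isInvertedBy_mapHomologicalComplex_comp_Q.{v₂} G)).hasPointwiseRightDerivedFunctor

/-- the total right derived functor `RG : D(B) ⥤ D(A)`. -/
noncomputable def RG : DerivedCategory B ⥤ DerivedCategory A :=
  (pushQ G).totalRightDerived DerivedCategory.Q
    (HomologicalComplex.quasiIso B (ComplexShape.up ℤ))

/-- the unit of the right derived functor. -/
noncomputable def βRG : pushQ G ⟶ DerivedCategory.Q ⋙ RG G :=
  (pushQ G).totalRightDerivedUnit DerivedCategory.Q
    (HomologicalComplex.quasiIso B (ComplexShape.up ℤ))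

instance isRightDerivedFunctor_RG : (RG G).IsRightDerivedFunctor (βRG G)
    (HomologicalComplex.quasiIso B (ComplexShape.up ℤ)) := by
  unfold RG βRG
  infer_instance

/-- the derived adjunction `Fp ⊣ RG`. -/
noncomputable def adjRG : Fp.mapDerivedCategory ⊣ RG G :=
  derivedAdjunction.{v₂} Fp G adj (RG G) (βRG G)

end DerAdj

section Main

variable {A : Type u₁} [Category.{v₁} A] [Abelian A] [HasDerivedCategory.{w₁} A]
  {D : Type u'} [Category.{v'} D] {K : GrothendieckTopology D} {frA : D ⥤ A}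

/-- `Bs` is a "basis" of the site: every object has a covering sieve all of whose members factor
through a member of `Bs` over the object. -/
def IsBasisFor (K : GrothendieckTopology D) (Bs : Set D) : Prop :=
  ∀ U : D, ∃ T ∈ K U, ∀ ⦃V : D⦄ (g : V ⟶ U), T g →
    ∃ (W : D) (a : V ⟶ W) (b : W ⟶ U), W ∈ Bs ∧ a ≫ b = g

theorem isZero_homology_of_basis (hfr : LocFr K frA) (L : DerivedCategory A) (Bs : Set D)
    (hB : IsBasisFor K Bs) (q : ℤ)
    (hv : ∀ W ∈ Bs, Subsingleton (dsgl (frA.obj W) ⟶ L⟦q⟧)) :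
    IsZero ((homologyFunctor A q).obj L) := by
  rw [IsZero.iff_id_eq_zero]
  apply hfr.gen
  intro U s
  rw [Category.comp_id]
  obtain ⟨T, hT, hT'⟩ := exists_lift_cm hfr L q U s
  let S : Sieve U :=
    { arrows := fun V h => frA.map h ≫ s = 0
      downward_closed := by
        intro V V' h hh g
        rw [Functor.map_comp, Category.assoc, hh, comp_zero] }
  refine hfr.sep U s S ?_ (fun V f hf => hf)
  apply K.transitive hT S
  intro V f hf
  obtain ⟨ξ, hξ⟩ := hT' f hf
  obtain ⟨T', hT'mem, hT''⟩ := hB V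
  apply K.superset_covering ?_ hT'mem
  intro V' g hg
  obtain ⟨W, a, b, hW, hab⟩ := hT'' g hg
  change frA.map (g ≫ f) ≫ s = 0
  rw [Functor.map_comp, Category.assoc, ← hξ, ← cm_res, ← hab, ← res_res]
  haveI := hv W hW
  rw [Subsingleton.elim (res frA b ξ) 0, res_zero, cm_zero]

theorem isGE_of_basis (hfr : LocFr K frA) (L : DerivedCategory A) (Bs : Set D)
    (hB : IsBasisFor K Bs)
    (hv : ∀ W ∈ Bs, ∀ q : ℤ, q < 0 → Subsingleton (dsgl (frA.obj W) ⟶ L⟦q⟧)) :
    L.IsGE 0 :=
  (DerivedCategory.isGE_iff L 0).2 (fun q hq =>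
    isZero_homology_of_basis hfr L Bs hB q (fun W hW => hv W hW q hq))

theorem subsingleton_hom_of_isGE (P : A) (L : DerivedCategory A) [L.IsGE 0] (i : ℤ) (hi : i < 0) :
    Subsingleton (dsgl P ⟶ L⟦i⟧) := by
  haveI : tt.IsLE (dsgl P) 0 := by
    change tt.IsLE ((singleFunctor A 0).obj P) 0
    infer_instance
  haveI : tt.IsGE (L⟦i⟧) (-i) := tt.isGE_shift L 0 i (-i) (by omega)
  exact ⟨fun y y' => by rw [tt.zero y 0 (-i) (by omega), tt.zero y' 0 (-i) (by omega)]⟩

theorem bijective_cm_of_isGE (P : A) (L : DerivedCategory A) [L.IsGE 0] :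
    Function.Bijective (fun ξ : dsgl P ⟶ L⟦(0 : ℤ)⟧ => cm ξ) := by
  haveI : (L⟦(0 : ℤ)⟧).IsGE 0 := tt.isGE_shift L 0 0 0 (by omega)
  have h1 := bijective_c₀_of_isGE P (L⟦(0 : ℤ)⟧)
  have h2 : Function.Bijective (fun s : P ⟶ (homologyFunctor A 0).obj (L⟦(0 : ℤ)⟧) =>
      s ≫ (shIso L 0).hom) :=
    ⟨fun y y' h => (cancel_mono _).1 h, fun z => ⟨z ≫ (shIso L 0).inv, by simp⟩⟩
  exact h2.comp h1

end Main

section Comb

variable {A : Type u₁} [Category.{v₁} A] [Abelian A] {B : Type u₂} [Category.{v₂} B] [Abelian B]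
  [IsGrothendieckAbelian.{v₂} B] [HasDerivedCategory.{w₁} A] [HasDerivedCategory.{w₂} B]
  (Fp : A ⥤ B) (G : B ⥤ A) (adj : Fp ⊣ G) [Fp.Additive] [G.Additive]
  [PreservesFiniteLimits Fp] [PreservesFiniteColimits Fp]
  {D : Type u'} [Category.{v'} D] {frA : D ⥤ A} {frB : D ⥤ B} (φ : frA ⋙ Fp ≅ frB)

/-- `Fp (frA V)[0] ≅ (frB V)[0]`, naturally in `V`. -/
noncomputable def thetaIso :
    frA ⋙ singleFunctor A 0 ⋙ Fp.mapDerivedCategory ≅ frB ⋙ singleFunctor B 0 :=
  Functor.isoWhiskerLeft frA (Fp.mapDerivedCategorySingleFunctor 0) ≪≫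
    (Functor.associator _ _ _).symm ≪≫ Functor.isoWhiskerRight φ (singleFunctor B 0)

/-- `Hom(ℤ_V, (RG K)[m]) ≃ Hom(ℤ_{F V}, K[m])`. -/
noncomputable def hEquiv (V : D) (Kx : DerivedCategory B) (m : ℤ) :
    (dsgl (frA.obj V) ⟶ ((RG G).obj Kx)⟦m⟧) ≃ (dsgl (frB.obj V) ⟶ Kx⟦m⟧) :=
  letI : (RG G).CommShift ℤ := (adjRG Fp G adj).rightAdjointCommShift ℤ
  (adjShiftEquiv (adjRG Fp G adj) (dsgl (frA.obj V)) Kx m).trans
    (Iso.homFromEquiv ((thetaIso Fp φ).app V))

lemma hEquiv_res {V V' : D} (g : V' ⟶ V) (Kx : DerivedCategory B) (m : ℤ)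
    (y : dsgl (frA.obj V) ⟶ ((RG G).obj Kx)⟦m⟧) :
    hEquiv Fp G adj φ V' Kx m (res frA g y) = res frB g (hEquiv Fp G adj φ V Kx m y) := by
  letI : (RG G).CommShift ℤ := (adjRG Fp G adj).rightAdjointCommShift ℤ
  have hnat := (thetaIso Fp φ).inv.naturality g
  change ((thetaIso Fp φ).app V').inv ≫ adjShiftEquiv (adjRG Fp G adj) (dsgl (frA.obj V')) Kx m
      (Q.map ((HomologicalComplex.single A (ComplexShape.up ℤ) 0).map (frA.map g)) ≫ y) =
    Q.map ((HomologicalComplex.single B (ComplexShape.up ℤ) 0).map (frB.map g)) ≫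
      ((thetaIso Fp φ).app V).inv ≫ adjShiftEquiv (adjRG Fp G adj) (dsgl (frA.obj V)) Kx m y
  rw [adjShiftEquiv_precomp]
  exact ((Category.assoc _ _ _).symm.trans
    (congrArg (fun t => t ≫ adjShiftEquiv (adjRG Fp G adj) (dsgl (frA.obj V)) Kx m y)
      hnat.symm)).trans (Category.assoc _ _ _)

end Comb

section PullFree

variable {C D : Type u} [SmallCategory C] [SmallCategory D]
    (J : GrothendieckTopology C) (K : GrothendieckTopology D) (F : D ⥤ C) [F.IsContinuous K J]

open Groth.Agent.Lib.Helper21.PushAcyc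

/-- the section over `F V` attached to a map out of `F⁻¹ ℤ_V`. -/
noncomputable def secOf (V : D) {G : Sheaf J AddCommGrpCat.{u}}
    (φ : (pull J K F).obj (CohCx.freeSheaf K V) ⟶ G) : G.obj.obj (op (F.obj V)) :=
  CohFree.evalGen K V ((CohSite.push J K F).obj G) ((adjP J K F).homEquiv _ _ φ)

lemma secOf_injective (V : D) (G : Sheaf J AddCommGrpCat.{u}) :
    Function.Injective (secOf J K F V (G := G)) := by
  intro φ φ' h
  apply ((adjP J K F).homEquiv _ _).injective
  exact (CohFree.homEquivSect K V ((CohSite.push J K F).obj G)).injective h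

lemma secOf_surjective (V : D) (G : Sheaf J AddCommGrpCat.{u}) :
    Function.Surjective (secOf J K F V (G := G)) := by
  intro s
  refine ⟨((adjP J K F).homEquiv _ _).symm
    (CohFree.ofSect K V ((CohSite.push J K F).obj G) s), ?_⟩
  dsimp only [secOf]
  rw [Equiv.apply_symm_apply]
  exact CohFree.evalGen_ofSect K V ((CohSite.push J K F).obj G) s

lemma secOf_comp (V : D) {G G' : Sheaf J AddCommGrpCat.{u}}
    (φ : (pull J K F).obj (CohCx.freeSheaf K V) ⟶ G) (a : G ⟶ G') :
    secOf J K F V (φ ≫ a) = (a.hom.app (op (F.obj V))).hom (secOf J K F V φ) := by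
  dsimp only [secOf]
  rw [Adjunction.homEquiv_naturality_right]
  rfl

lemma secOf_precomp {V V' : D} (g : V' ⟶ V) {G : Sheaf J AddCommGrpCat.{u}}
    (φ : (pull J K F).obj (CohCx.freeSheaf K V) ⟶ G) :
    secOf J K F V' ((pull J K F).map (CohCx.freeSheafMap K g) ≫ φ) =
      (G.obj.map (F.map g).op).hom (secOf J K F V φ) := by
  dsimp only [secOf]
  rw [Adjunction.homEquiv_naturality_left, CohFree.evalGen_freeSheafMap_comp]
  rfl

/-- `F⁻¹ ℤ_V ⟶ ℤ_{F V}`. -/
noncomputable def pullFr (V : D) :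
    (pull J K F).obj (CohCx.freeSheaf K V) ⟶ CohCx.freeSheaf J (F.obj V) :=
  ((adjP J K F).homEquiv _ _).symm
    (CohFree.ofSect K V ((CohSite.push J K F).obj (CohCx.freeSheaf J (F.obj V)))
      (CohFree.gen J (F.obj V)))

lemma secOf_pullFr (V : D) : secOf J K F V (pullFr J K F V) = CohFree.gen J (F.obj V) := by
  dsimp only [secOf, pullFr]
  rw [Equiv.apply_symm_apply]
  exact CohFree.evalGen_ofSect K V _ _

instance isIso_pullFr (V : D) : IsIso (pullFr J K F V) := by
  rw [isIso_iff_coyoneda_map_bijective]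
  intro G
  have h1 : (secOf J K F V (G := G)) ∘ (fun ψ : CohCx.freeSheaf J (F.obj V) ⟶ G =>
      pullFr J K F V ≫ ψ) = fun ψ => CohFree.evalGen J (F.obj V) G ψ := by
    funext ψ
    dsimp only [Function.comp]
    rw [secOf_comp, secOf_pullFr]
    rfl
  have h2 : Function.Bijective ((secOf J K F V (G := G)) ∘
      (fun ψ : CohCx.freeSheaf J (F.obj V) ⟶ G => pullFr J K F V ≫ ψ)) := by
    rw [h1]
    exact (CohFree.homEquivSect J (F.obj V) G).bijective
  exact (Function.Bijective.of_comp_iff' ⟨secOf_injective J K F V G, secOf_surjective J K F V G⟩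
    _).1 h2

lemma pullFr_naturality {V V' : D} (g : V' ⟶ V) :
    (pull J K F).map (CohCx.freeSheafMap K g) ≫ pullFr J K F V =
      pullFr J K F V' ≫ CohCx.freeSheafMap J (F.map g) := by
  apply secOf_injective
  rw [secOf_precomp, secOf_comp, secOf_pullFr, secOf_pullFr, CohFree.freeSheafMap_gen]

/-- the natural isomorphism `F⁻¹ ℤ_V ≅ ℤ_{F V}`. -/
noncomputable def pullFrIso : frSh K ⋙ pull J K F ≅ F ⋙ frSh J :=
  NatIso.ofComponents (fun V => @asIso _ _ _ _ (pullFr J K F V) (isIso_pullFr J K F V))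
    (fun g => pullFr_naturality J K F g)

end PullFree

section Sheaf

variable {D : Type u} [SmallCategory D] {K : GrothendieckTopology D}

/-- a presheaf of abelian groups which is, naturally in the object, in bijection with a sheaf,
is a sheaf. -/
theorem isSheaf_of_bijection {P Q : Dᵒᵖ ⥤ AddCommGrpCat.{u}} (hQ : Presheaf.IsSheaf K Q)
    (e : ∀ V : Dᵒᵖ, P.obj V → Q.obj V) (he : ∀ V, Function.Bijective (e V))
    (nat : ∀ {V V' : Dᵒᵖ} (g : V ⟶ V') (x : P.obj V),
      e V' ((P.map g).hom x) = (Q.map g).hom (e V x)) :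
    Presheaf.IsSheaf K P := by
  rw [Presheaf.isSheaf_iff_isSheaf_forget K P (forget AddCommGrpCat.{u})]
  rw [Presheaf.isSheaf_iff_isSheaf_forget K Q (forget AddCommGrpCat.{u})] at hQ
  let iso : P ⋙ forget AddCommGrpCat.{u} ≅ Q ⋙ forget AddCommGrpCat.{u} :=
    NatIso.ofComponents (fun V => (Equiv.ofBijective (e V) (he V)).toIso) (by
      intro V V' g
      ext x
      exact nat g x)
  exact (Presheaf.isSheaf_of_iso_iff iso).2 hQ

end Sheaf

section Site

open Groth.Agent.Lib.Helper21.PushAcyc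

variable {C D : Type u} [SmallCategory C] [SmallCategory D]
    (J : GrothendieckTopology C) (K : GrothendieckTopology D) (F : D ⥤ C) [F.IsContinuous K J]
    [PreservesFiniteLimits (pull J K F)]
    [HasDerivedCategory.{u} (Sheaf J AddCommGrpCat.{u})]
    [HasDerivedCategory.{w₁} (Sheaf K AddCommGrpCat.{u})]

theorem site_main (Kx : DerivedCategory (Sheaf J AddCommGrpCat.{u})) (Bs : Set D)
    (hB : IsBasisFor K Bs)
    (h : ∀ V ∈ Bs, ∀ i : ℤ, i < 0 → Subsingleton (CohCx.HDU Kx i (F.obj V))) :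
    (∀ (V : D) (i : ℤ), i < 0 → Subsingleton (CohCx.HDU Kx i (F.obj V))) ∧
      Presheaf.IsSheaf K (F.op ⋙ CohCx.HDUPresheaf Kx 0) := by
  haveI : (pull J K F).Additive := (adjP J K F).left_adjoint_additive
  haveI : PreservesFiniteColimits (pull J K F) :=
    haveI : PreservesColimitsOfSize.{0, 0} (pull J K F) :=
      (adjP J K F).leftAdjoint_preservesColimits
    PreservesColimitsOfSize.preservesFiniteColimits.{0, 0} _
  let L : DerivedCategory (Sheaf K AddCommGrpCat.{u}) := (RG (CohSite.push J K F)).obj Kx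
  let E := fun (V : D) (m : ℤ) => hEquiv (frA := frSh K) (frB := F ⋙ frSh J) (pull J K F)
    (CohSite.push J K F) (adjP J K F) (pullFrIso J K F) V Kx m
  haveI hGE : L.IsGE 0 := isGE_of_basis (locFr_frSh K) L Bs hB (fun W hW q hq => by
    haveI : Subsingleton (dsgl ((F ⋙ frSh J).obj W) ⟶ Kx⟦q⟧) := h W hW q hq
    exact (E W q).subsingleton)
  refine ⟨fun V i hi => ?_, ?_⟩
  · haveI : Subsingleton (dsgl ((frSh K).obj V) ⟶ L⟦i⟧) :=
      subsingleton_hom_of_isGE ((frSh K).obj V) L i hi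
    exact (E V i).symm.subsingleton
  · refine isSheaf_of_bijection (CohCx.HD L 0).property
      (fun V x => canonU L 0 V.unop ((E V.unop 0).symm x)) (fun V => ?_) ?_
    · have h1 := bijective_cm_of_isGE (CohCx.freeSheaf K V.unop) L
      have h2 := (CohFree.homEquivSect K V.unop (CohCx.HD L 0)).bijective
      exact (h2.comp h1).comp (E V.unop 0).symm.bijective
    · intro V V' g x
      have hx : (E V'.unop 0).symm (res (F ⋙ frSh J) g.unop x) =
          res (frSh K) g.unop ((E V.unop 0).symm x) := by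
        apply (E V'.unop 0).injective
        rw [Equiv.apply_symm_apply]
        have h3 := hEquiv_res (frA := frSh K) (frB := F ⋙ frSh J) (pull J K F)
          (CohSite.push J K F) (adjP J K F) (pullFrIso J K F) g.unop Kx 0 ((E V.unop 0).symm x)
        refine Eq.trans ?_ h3.symm
        congr 1
        exact ((E V.unop 0).apply_symm_apply x).symm
      have h2 := canonU_res L 0 g.unop ((E V.unop 0).symm x)
      exact (congrArg (canonU L 0 V'.unop) hx).trans h2

end Site

section Top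

open TopologicalSpace

theorem isBasisFor_of_isBasis {Y : TopCat.{u}} {B : Set (Opens Y)} (hB : Opens.IsBasis B) :
    IsBasisFor (Opens.grothendieckTopology Y) B := by
  intro U
  let T : Sieve U :=
    { arrows := fun V _ => ∃ W ∈ B, V ≤ W ∧ W ≤ U
      downward_closed := by
        rintro V V' g ⟨W, hW, hVW, hWU⟩ g'
        exact ⟨W, hW, le_trans (leOfHom g') hVW, hWU⟩ }
  refine ⟨T, ?_, ?_⟩
  · intro x hx
    obtain ⟨W, hW, hxW, hWU⟩ := Opens.isBasis_iff_nbhd.1 hB hx
    exact ⟨W, homOfLE hWU, ⟨W, hW, le_rfl, hWU⟩, hxW⟩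
  · rintro V g ⟨W, hW, hVW, hWU⟩
    exact ⟨W, homOfLE hVW, homOfLE hWU, hW, Subsingleton.elim _ _⟩

theorem top_main {X Y : TopCat.{u}} (f : X ⟶ Y)
    [HasDerivedCategory.{u} (CohTop.Ab X)] (B : Set (Opens Y)) (hB : Opens.IsBasis B)
    (K : DerivedCategory (CohTop.Ab X))
    (h : ∀ V ∈ B, ∀ i : ℤ, i < 0 → Subsingleton (CohCx.HDU K i ((Opens.map f).obj V))) :
    (∀ (V : Opens Y) (i : ℤ), i < 0 → Subsingleton (CohCx.HDU K i ((Opens.map f).obj V))) ∧
    Presheaf.IsSheaf (Opens.grothendieckTopology Y)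
      ((Opens.map f).op ⋙ CohCx.HDUPresheaf K 0) := by
  letI : HasDerivedCategory.{u + 1} (Sheaf (Opens.grothendieckTopology Y) AddCommGrpCat.{u}) :=
    HasDerivedCategory.standard _
  haveI : PreservesFiniteLimits (Groth.Agent.Lib.Helper21.PushAcyc.pull
      (Opens.grothendieckTopology X) (Opens.grothendieckTopology Y) (Opens.map f)) :=
    CategoryTheory.Functor.SmallCategories.instPreservesFiniteLimitsSheafSheafPullbackOfRepresentablyFlat
      (Opens.map f) AddCommGrpCat.{u} (Opens.grothendieckTopology ↑Y)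
      (Opens.grothendieckTopology ↑X)
  exact site_main (Opens.grothendieckTopology X) (Opens.grothendieckTopology Y) (Opens.map f) K B
    (isBasisFor_of_isBasis hB) h

end Top

end Groth.Agent.Lib.T2H2.NegVan
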