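import Groth.Agent.Lib.T2H2DAdjB

/-!
# Unit and counit of a derived adjunction `L = F.mapDerivedCategory ⊣ Rr` (T2H2)
-/

set_option autoImplicit false
set_option linter.style.haveILetI false
universe w₁ w₂ v₁ v₂ u₁ u₂
open CategoryTheory CategoryTheory.Limits

namespace Groth.Agent.Lib.T2H2.DAdj

open Groth.Agent.Lib.Helper17.Hyp DerivedCategory Groth.Agent.Lib.T2H8.PCohTriangle

variable {A : Type u₁} [Category.{v₁} A] [Abelian A] [HasDerivedCategory.{w₁} A]
  {B : Type u₂} [Category.{v₂} B] [Abelian B] [HasDerivedCategory.{w₂} B]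
  (F : A ⥤ B) [F.Additive] [PreservesFiniteLimits F] [PreservesFiniteColimits F]
  {Rr : DerivedCategory B ⥤ DerivedCategory A} (adj : F.mapDerivedCategory ⊣ Rr)

/-- `H^n(φ)` is an isomorphism as soon as `H^0(φ[n])` is. -/
lemma isIso_homology_of_shift {T : Type u₁} [Category.{v₁} T] [Abelian T]
    [HasDerivedCategory.{w₁} T] {K K' : DerivedCategory T} (φ : K ⟶ K') (n : ℤ)
    (h : IsIso ((homologyFunctor T 0).map (φ⟦n⟧'))) : IsIso ((homologyFunctor T n).map φ) := by
  have h1 := shIso_hom_naturality φ n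
  have h2 : (homologyFunctor T n).map φ =
      (shIso K n).inv ≫ (homologyFunctor T 0).map (φ⟦n⟧') ≫ (shIso K' n).hom := by
    rw [h1, Iso.inv_hom_id_assoc]
  rw [h2]
  infer_instance

include adj in
/-- the unit is an isomorphism on `H^0` as soon as `L` is bijective on `Hom(P[0], -)`. -/
theorem isIso_homology_zero_unit_app {P : A}
    (hG1 : ∀ {K K' : DerivedCategory A} (ψ : K ⟶ K'),
      Function.Bijective (fun ξ : dsgl P ⟶ K => ξ ≫ ψ) → IsIso ((homologyFunctor A 0).map ψ))
    (hL : ∀ K : DerivedCategory A,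
      Function.Bijective (fun ξ : dsgl P ⟶ K => F.mapDerivedCategory.map ξ))
    (N : DerivedCategory A) : IsIso ((homologyFunctor A 0).map (adj.unit.app N)) := by
  refine hG1 (K := N) (K' := Rr.obj (F.mapDerivedCategory.obj N)) (adj.unit.app N) ?_
  have hb := (Equiv.bijective (adj.homEquiv (dsgl P) (F.mapDerivedCategory.obj N))).comp (hL N)
  have e : (fun ξ : dsgl P ⟶ N =>
      ξ ≫ (adj.unit.app N : N ⟶ Rr.obj (F.mapDerivedCategory.obj N))) =
      (adj.homEquiv (dsgl P) (F.mapDerivedCategory.obj N)) ∘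
        (fun ξ : dsgl P ⟶ N => F.mapDerivedCategory.map ξ) := by
    funext ξ
    dsimp only [Function.comp]
    rw [Adjunction.homEquiv_unit]
    exact (adj.unit.naturality ξ)
  exact e ▸ hb

variable [Rr.CommShift ℤ] [adj.CommShift ℤ]

/-- the unit is an isomorphism. -/
theorem isIso_unit_app {P : A}
    (hG1 : ∀ {K K' : DerivedCategory A} (ψ : K ⟶ K'),
      Function.Bijective (fun ξ : dsgl P ⟶ K => ξ ≫ ψ) → IsIso ((homologyFunctor A 0).map ψ))
    (hL : ∀ K : DerivedCategory A,
      Function.Bijective (fun ξ : dsgl P ⟶ K => F.mapDerivedCategory.map ξ))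
    (N : DerivedCategory A) : IsIso (adj.unit.app N) := by
  rw [DerivedCategory.isIso_iff]
  intro n
  apply isIso_homology_of_shift
  rw [Adjunction.shift_unit_app adj n N, Functor.map_comp, Functor.map_comp]
  haveI := isIso_homology_zero_unit_app F adj hG1 hL (N⟦n⟧)
  infer_instance

/-- the counit is an isomorphism on objects of a shift-stable class `𝒬` containing the image
of `L`, on which `P₁[0]` computes `H^0`. -/
theorem isIso_counit_app {P : A} {P₁ : B} (θ : P₁ ≅ F.obj P)
    (𝒬 : ObjectProperty (DerivedCategory B))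
    (h𝒬 : ∀ (K : DerivedCategory B) (n : ℤ), 𝒬 K → 𝒬 (K⟦n⟧))
    (hL𝒬 : ∀ K : DerivedCategory A, 𝒬 (F.mapDerivedCategory.obj K))
    (hG1' : ∀ {K K' : DerivedCategory B} (ψ : K ⟶ K'), 𝒬 K → 𝒬 K' →
      Function.Bijective (fun ξ : dsgl P₁ ⟶ K => ξ ≫ ψ) → IsIso ((homologyFunctor B 0).map ψ))
    (hunit : ∀ N : DerivedCategory A, IsIso (adj.unit.app N))
    (K : DerivedCategory B) (hK : 𝒬 K) : IsIso (adj.counit.app K) := by
  have h0 : ∀ K : DerivedCategory B, 𝒬 K →
      IsIso ((homologyFunctor B 0).map (adj.counit.app K)) := by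
    intro K hK
    refine hG1' (K := F.mapDerivedCategory.obj (Rr.obj K)) (K' := K) (adj.counit.app K)
      (hL𝒬 _) hK ?_
    haveI := isIso_transfer_pre F θ
    haveI := hunit (Rr.obj K)
    haveI : IsIso (Rr.map (adj.counit.app K)) := by
      have ht := adj.right_triangle_components K
      exact IsIso.of_isIso_fac_left ht
    have hb : Function.Bijective (
        (fun ζ : F.mapDerivedCategory.obj (dsgl P) ⟶ K =>
          (Q.map ((HomologicalComplex.single B (ComplexShape.up ℤ) 0).map θ.hom) ≫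
            (sglMapIso F P).hom) ≫ ζ) ∘
        (adj.homEquiv (dsgl P) K).symm ∘
        (fun y : dsgl P ⟶ Rr.obj (F.mapDerivedCategory.obj (Rr.obj K)) =>
          y ≫ Rr.map (adj.counit.app K)) ∘
        (adj.homEquiv (dsgl P) (F.mapDerivedCategory.obj (Rr.obj K))) ∘
        (fun ξ : dsgl P₁ ⟶ F.mapDerivedCategory.obj (Rr.obj K) =>
          inv (Q.map ((HomologicalComplex.single B (ComplexShape.up ℤ) 0).map θ.hom) ≫
            (sglMapIso F P).hom) ≫ ξ)) := by
      refine Function.Bijective.comp ?_ (Function.Bijective.comp (Equiv.bijective _)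
        (Function.Bijective.comp ?_ (Function.Bijective.comp (Equiv.bijective _) ?_)))
      · exact ⟨fun a b h => (cancel_epi _).1 h, fun c => ⟨inv (Q.map
          ((HomologicalComplex.single B (ComplexShape.up ℤ) 0).map θ.hom) ≫
            (sglMapIso F P).hom) ≫ c, by simp⟩⟩
      · exact ⟨fun a b h => (cancel_mono _).1 h,
          fun c => ⟨c ≫ inv (Rr.map (adj.counit.app K)), by simp⟩⟩
      · exact ⟨fun a b h => (cancel_epi _).1 h, fun c => ⟨(Q.map
          ((HomologicalComplex.single B (ComplexShape.up ℤ) 0).map θ.hom) ≫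
            (sglMapIso F P).hom) ≫ c, by simp⟩⟩
    have e : (fun ξ : dsgl P₁ ⟶ F.mapDerivedCategory.obj (Rr.obj K) =>
        ξ ≫ (adj.counit.app K : F.mapDerivedCategory.obj (Rr.obj K) ⟶ K)) =
        (fun ξ : dsgl P₁ ⟶ F.mapDerivedCategory.obj (Rr.obj K) =>
          (Q.map ((HomologicalComplex.single B (ComplexShape.up ℤ) 0).map θ.hom) ≫
            (sglMapIso F P).hom) ≫ (adj.homEquiv (dsgl P) K).symm
          ((adj.homEquiv (dsgl P) (F.mapDerivedCategory.obj (Rr.obj K)))
            (inv (Q.map ((HomologicalComplex.single B (ComplexShape.up ℤ) 0).map θ.hom) ≫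
              (sglMapIso F P).hom) ≫ ξ) ≫ Rr.map (adj.counit.app K))) := by
      funext ξ
      rw [← Adjunction.homEquiv_naturality_right, Equiv.symm_apply_apply, ← Category.assoc,
        IsIso.hom_inv_id_assoc]
    rw [e]
    exact hb
  rw [DerivedCategory.isIso_iff]
  intro n
  apply isIso_homology_of_shift
  rw [Adjunction.shift_counit_app adj n K, Functor.map_comp, Functor.map_comp]
  haveI := h0 (K⟦n⟧) (h𝒬 K n hK)
  infer_instance

end Groth.Agent.Lib.T2H2.DAdj
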