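import Groth.Agent.Lib.T2H2AffPushD
import Groth.Agent.Lib.T2H2DAdjC
import Groth.Agent.S6153

/-!
# Ingredients for `D(A) ≃ D_QCoh(Spec A)` (T2H2)
-/

set_option autoImplicit false
set_option linter.style.haveILetI false
universe w u
open CategoryTheory CategoryTheory.Limits Opposite AlgebraicGeometry TopologicalSpace

namespace Groth.Agent.Lib.T2H2.TildeEq

open Groth.Agent.Lib.Helper17.Hyp DerivedCategory Groth.Agent.S14388
  Groth.Agent.Lib.T2H2.ModLim Groth.Agent.Lib.T2H2.ModLim2 Groth.Agent.Lib.T2H2.AffPush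
  Groth.Agent.Lib.Helper23.QCohLocal Groth.Agent.Lib.T2H8.QCohDCoprod
  Groth.Agent.Lib.T2H8.PCohTriangle

section Gen

variable {X : Scheme.{u}}

/-- a morphism of quasi-coherent modules on an affine scheme which is bijective on
`Hom(O_X-free, -)` is an isomorphism. -/
theorem isIso_of_bijective_hom_top (hX : IsAffineOpen (⊤ : X.Opens)) {G G' : X.Modules}
    [G.IsQuasicoherent] [G'.IsQuasicoherent] (ψ : G ⟶ G')
    (h : Function.Bijective (fun a : (frX X).obj ⊤ ⟶ G => a ≫ ψ)) : IsIso ψ := by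
  haveI : (kernel ψ).IsQuasicoherent := isQuasicoherent_kernel ψ
  haveI : (cokernel ψ).IsQuasicoherent := isQuasicoherent_cokernel ψ
  have hk : IsZero (kernel ψ) := by
    apply isZero_of_subsingleton_hom
    intro x
    refine ⟨⊤, hX, trivial, ⟨fun a b => ?_⟩⟩
    have h0 : ∀ a : (frX X).obj ⊤ ⟶ kernel ψ, a = 0 := by
      intro a
      have h1 : (a ≫ kernel.ι ψ) ≫ ψ = (0 : (frX X).obj ⊤ ⟶ G) ≫ ψ := by
        rw [Category.assoc, kernel.condition, comp_zero, zero_comp]
      have h2 : a ≫ kernel.ι ψ = 0 := h.1 h1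
      rw [← cancel_mono (kernel.ι ψ), h2, zero_comp]
    rw [h0 a, h0 b]
  have hc : IsZero (cokernel ψ) := by
    apply isZero_of_subsingleton_hom
    intro x
    refine ⟨⊤, hX, trivial, ⟨fun a b => ?_⟩⟩
    have h0 : ∀ c : (frX X).obj ⊤ ⟶ cokernel ψ, c = 0 := by
      intro c
      haveI : Epi (cokernel.π ψ) := coequalizer.π_epi
      obtain ⟨t, ht⟩ := exists_lift_affine hX (cokernel.π ψ) c
      obtain ⟨b, hb⟩ := h.2 t
      dsimp only at hb
      rw [← ht, ← hb, Category.assoc, cokernel.condition, comp_zero]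
    rw [h0 a, h0 b]
  haveI : Mono ψ := Preadditive.mono_of_kernel_zero (hk.eq_of_src _ _)
  haveI : Epi ψ := Preadditive.epi_of_cokernel_zero (hc.eq_of_tgt _ _)
  exact isIso_of_mono_of_epi ψ

variable [HasDerivedCategory.{w} X.Modules]

/-- `Hom_{D(O_X)}(O_U-free[0], E) ≃ Hom(O_U-free, H^0 E)` for `E ∈ D_QCoh`, `U` affine. -/
theorem bijective_c₀_affine (E : DerivedCategory X.Modules)
    (hE : ∀ i : ℤ, ((homologyFunctor X.Modules i).obj E).IsQuasicoherent)
    {U : X.Opens} (hU : IsAffineOpen U) :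
    Function.Bijective (fun ξ : dsgl ((frX X).obj U) ⟶ E => c₀ ξ) := by
  have hb := bijective_cm_affine E hE hU 0
  let i : E⟦(0 : ℤ)⟧ ≅ E := (shiftFunctorZero (DerivedCategory X.Modules) ℤ).app E
  have e : (fun ξ : dsgl ((frX X).obj U) ⟶ E => c₀ ξ) =
      (fun a : (frX X).obj U ⟶ (homologyFunctor X.Modules 0).obj E =>
        a ≫ (shIso E 0).inv ≫ (homologyFunctor X.Modules 0).map i.hom) ∘
      (fun ξ : dsgl ((frX X).obj U) ⟶ E⟦(0 : ℤ)⟧ => cm ξ) ∘
      (fun ξ : dsgl ((frX X).obj U) ⟶ E => ξ ≫ i.inv) := by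
    funext ξ
    dsimp only [Function.comp, cm]
    rw [Category.assoc, Iso.hom_inv_id_assoc, ← c₀_comp, Category.assoc, Iso.inv_hom_id,
      Category.comp_id]
  rw [e]
  refine Function.Bijective.comp ?_ (hb.comp ?_)
  · exact ⟨fun a b h => (cancel_mono _).1 h, fun c => ⟨c ≫
      (homologyFunctor X.Modules 0).map i.inv ≫ (shIso E 0).hom, by
        dsimp only
        simp only [Category.assoc, Iso.hom_inv_id_assoc]
        rw [← Functor.map_comp, Iso.inv_hom_id, CategoryTheory.Functor.map_id,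
          Category.comp_id]⟩⟩
  · exact ⟨fun a b h => (cancel_mono _).1 h, fun c => ⟨c ≫ i.hom, by simp⟩⟩

/-- a morphism of `D_QCoh` of an affine scheme which is bijective on `Hom(O_X-free[0], -)`
induces an isomorphism on `H^0`. -/
theorem isIso_homology_zero_of_bijective_top (hX : IsAffineOpen (⊤ : X.Opens))
    {K K' : DerivedCategory X.Modules}
    (hK : ∀ i : ℤ, ((homologyFunctor X.Modules i).obj K).IsQuasicoherent)
    (hK' : ∀ i : ℤ, ((homologyFunctor X.Modules i).obj K').IsQuasicoherent) (ψ : K ⟶ K')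
    (h : Function.Bijective (fun ξ : dsgl ((frX X).obj ⊤) ⟶ K => ξ ≫ ψ)) :
    IsIso ((homologyFunctor X.Modules 0).map ψ) := by
  haveI := hK 0
  haveI := hK' 0
  apply isIso_of_bijective_hom_top hX
  have h1 := bijective_c₀_affine K hK hX
  have h2 := bijective_c₀_affine K' hK' hX
  have hcomp : (fun a : (frX X).obj ⊤ ⟶ (homologyFunctor X.Modules 0).obj K =>
      a ≫ (homologyFunctor X.Modules 0).map ψ) ∘
      (fun ξ : dsgl ((frX X).obj ⊤) ⟶ K => c₀ ξ) =
      (fun ξ : dsgl ((frX X).obj ⊤) ⟶ K' => c₀ ξ) ∘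
      (fun ξ : dsgl ((frX X).obj ⊤) ⟶ K => ξ ≫ ψ) := by
    funext ξ
    dsimp only [Function.comp]
    rw [c₀_comp]
  have h3 : Function.Bijective
      ((fun a : (frX X).obj ⊤ ⟶ (homologyFunctor X.Modules 0).obj K =>
      a ≫ (homologyFunctor X.Modules 0).map ψ) ∘
      (fun ξ : dsgl ((frX X).obj ⊤) ⟶ K => c₀ ξ)) := by
    rw [hcomp]
    exact h2.comp h
  exact (Function.Bijective.of_comp_iff _ h1).1 h3

/-- `D_QCoh` is stable under shifts. -/
theorem isQuasicoherent_homology_shift (K : DerivedCategory X.Modules)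
    (hK : ∀ i : ℤ, ((homologyFunctor X.Modules i).obj K).IsQuasicoherent) (n i : ℤ) :
    ((homologyFunctor X.Modules i).obj (K⟦n⟧)).IsQuasicoherent :=
  isQCoh_of_iso (((homologyFunctor X.Modules 0).shiftIso n i (n + i) rfl).app K).symm
    (hK (n + i))

end Gen

section Spec

variable (R : CommRingCat.{u})

/-- `Hom_R(R, N) ≃ N`. -/
noncomputable def homSelfEquiv (N : ModuleCat.{u} R) : (ModuleCat.of R R ⟶ N) ≃ N where
  toFun f := f.hom (1 : R)
  invFun x := ModuleCat.ofHom (LinearMap.toSpanSingleton R N x)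
  left_inv f := by
    ext
    simp
  right_inv x := by simp

/-- `Hom(O_X-free, M) ≃ Hom(R~, M)`. -/
noncomputable def eqv (M : (Spec (CommRingCat.of R)).Modules) :
    ((frX (Spec (CommRingCat.of R))).obj ⊤ ⟶ M) ≃
      ((tilde.functor R).obj (ModuleCat.of R R) ⟶ M) :=
  (secR (Spec (CommRingCat.of R)).ringCatSheaf ⊤ M).trans
    ((homSelfEquiv R ((moduleSpecΓFunctor (R := R)).obj M)).symm.trans
      ((tilde.adjunction (R := R)).homEquiv (ModuleCat.of R R) M).symm)

lemma eqv_apply (M : (Spec (CommRingCat.of R)).Modules)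
    (h : (frX (Spec (CommRingCat.of R))).obj ⊤ ⟶ M) :
    eqv R M h = ((tilde.adjunction (R := R)).homEquiv (ModuleCat.of R R) M).symm
      ((homSelfEquiv R ((moduleSpecΓFunctor (R := R)).obj M)).symm
        (secR (Spec (CommRingCat.of R)).ringCatSheaf ⊤ M h)) := rfl

lemma eqv_comp {M M' : (Spec (CommRingCat.of R)).Modules}
    (h : (frX (Spec (CommRingCat.of R))).obj ⊤ ⟶ M) (p : M ⟶ M') :
    eqv R M' (h ≫ p) = eqv R M h ≫ p := by
  rw [eqv_apply, eqv_apply, ← Adjunction.homEquiv_naturality_right_symm]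
  congr 1
  apply (homSelfEquiv R ((moduleSpecΓFunctor (R := R)).obj M')).injective
  rw [Equiv.apply_symm_apply]
  refine (secR_comp (Spec (CommRingCat.of R)).ringCatSheaf ⊤ p h).trans ?_
  change _ = ((moduleSpecΓFunctor (R := R)).map p).hom
    ((homSelfEquiv R ((moduleSpecΓFunctor (R := R)).obj M))
      ((homSelfEquiv R ((moduleSpecΓFunctor (R := R)).obj M)).symm
        (secR (Spec (CommRingCat.of R)).ringCatSheaf ⊤ M h)))
  rw [Equiv.apply_symm_apply]
  rfl

/-- the free module on the whole space is `R~`. -/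
theorem nonempty_frX_top_iso_tilde :
    Nonempty ((frX (Spec (CommRingCat.of R))).obj ⊤ ≅
      (tilde.functor R).obj (ModuleCat.of R R)) :=
  Groth.Agent.S6153.iso_of_natural_equiv (eqv R) (fun h p => eqv_comp R h p)

/-- `tildeD` takes values in `D_QCoh`. -/
theorem isQuasicoherent_homology_tildeD [PreservesFiniteLimits (tilde.functor R)]
    [HasDerivedCategory.{w} (ModuleCat.{u} R)]
    [HasDerivedCategory.{w} (Spec (CommRingCat.of R)).Modules]
    (K : DerivedCategory (ModuleCat.{u} R)) (i : ℤ) :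
    ((homologyFunctor (Spec (CommRingCat.of R)).Modules i).obj
      ((tilde.functor R).mapDerivedCategory.obj K)).IsQuasicoherent := by
  haveI : PreservesFiniteColimits (tilde.functor R) := by
    haveI := (tilde.adjunction (R := R)).leftAdjoint_preservesColimits
    infer_instance
  exact isQCoh_of_iso ((mapDerivedCategoryHomologyIso (tilde.functor R) i).app K).symm
    (inferInstance : ((tilde.functor R).obj _).IsQuasicoherent)

end Spec

end Groth.Agent.Lib.T2H2.TildeEq
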