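import Mathlib
import Groth.Agent.Lib.Helper1FLF2
import Groth.Agent.Lib.T2H8PCohQCoh
import Groth.Agent.Lib.Helper23QCohLocal
import Groth.Agent.Lib.Helper23QCohAbelian
import Groth.Agent.Lib.Helper23TildeTensor
import Groth.Agent.Lib.Helper1KF8
import Groth.Agent.Lib.Helper1KF9
import Groth.Agent.Lib.Helper1KBC5
import Groth.Agent.S0997
import Groth.Agent.S9498
set_option backward.isDefEq.respectTransparency.types false

/-!
# The derived tensor product preserves `D_QCoh` (helper1, second team)

* `exists_tilde_kflat`: on `Spec R`, an object of `D_QCoh` is represented by `K~` for a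
  K-projective complex `K` of `R`-modules.
* `isQCoh_homology_tensor_tilde`: the total tensor complex of two complexes of the form `K~` has
  quasi-coherent cohomology.
* `isQCohD_LTensorCx`: `E ⊗^L F ∈ D_QCoh` for `E, F ∈ D_QCoh`.
-/

set_option autoImplicit false
set_option linter.style.haveILetI false
universe u
open CategoryTheory CategoryTheory.Limits AlgebraicGeometry HomologicalComplex

attribute [local instance] HasDerivedCategory.standard

namespace Groth.Agent.Lib.T2H1.LTensorQCoh

open Groth.Agent.Lib.Helper1.KBC Groth.Agent.Lib.Helper1.KF Groth.Agent.Lib.Helper1.BKF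
  Groth.Agent.Lib.Helper1.Sky Groth.Agent.Lib.Helper1.PT Groth.Agent.Lib.Helper1.FLF

section Affine

variable (R : CommRingCat.{u})

/-- termwise tilde -/
noncomputable abbrev TC :
    CochainComplex (ModuleCat.{u} R) ℤ ⥤ CochainComplex (Spec R).Modules ℤ :=
  (tilde.functor R).mapHomologicalComplex (ComplexShape.up ℤ)

/-- on `Spec R`, a complex with quasi-coherent cohomology is isomorphic in the derived category
to `K~` for a K-flat complex `K` of `R`-modules. -/
theorem exists_tilde_kflat (G : CochainComplex (Spec R).Modules ℤ)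
    (hG : DCoh.IsQCohD (DerivedCategory.Q.obj G)) :
    ∃ K : CochainComplex (ModuleCat.{u} R) ℤ, RKFlat K ∧
      Nonempty (DerivedCategory.Q.obj G ≅ DerivedCategory.Q.obj ((TC R).obj K)) := by
  haveI : PreservesFiniteLimits (tilde.functor R) := (Groth.Agent.S9498.aux R).1
  obtain ⟨M, ⟨e⟩⟩ := ((Groth.Agent.S0997.result R).2.2 (DerivedCategory.Q.obj G)).1 hG
  let M0 := (DerivedCategory.Q (C := ModuleCat.{u} R)).objPreimage M
  have e0 : DerivedCategory.Q.obj M0 ≅ M :=
    (DerivedCategory.Q (C := ModuleCat.{u} R)).objObjPreimageIso M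
  obtain ⟨P, π, hP, -, hπ, -⟩ := exists_kprojective_resolution M0
  haveI := hP
  haveI : IsIso (DerivedCategory.Q.map π) := by
    rw [DerivedCategory.isIso_Q_map_iff_quasiIso]; exact hπ
  have h1 : KFlat P := kflat_of_isKProjective P
  refine ⟨P, fun L hL => h1 L hL, ⟨?_⟩⟩
  exact e.symm ≪≫ (DCoh.tildeD R).mapIso (e0.symm ≪≫ (asIso (DerivedCategory.Q.map π)).symm) ≪≫
    ((tilde.functor R).mapDerivedCategoryFactors).app P

end Affine

section Coprod

variable {X : Scheme.{u}}

/-- coproducts of quasi-coherent modules indexed by a set in `Type` are quasi-coherent -/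
theorem isQCoh_of_isColimit_cofan_zero {I : Type} (M : I → X.Modules) (c : Cofan M)
    (hc : IsColimit c) (h : ∀ i, (M i).IsQuasicoherent) : c.pt.IsQuasicoherent := by
  let c' : Cofan (fun j : ULift.{u} I => M j.down) := Cofan.mk c.pt (fun j => c.inj j.down)
  have hc' : IsColimit c' := mkCofanColimit c'
    (fun s => Cofan.IsColimit.desc hc (fun i => s.inj ⟨i⟩))
    (fun s j => by
      have := Cofan.IsColimit.fac hc (fun i => s.inj ⟨i⟩) j.down
      exact this)
    (fun s m hm => Cofan.IsColimit.hom_ext hc _ _ (fun i => by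
      rw [Cofan.IsColimit.fac]
      exact hm ⟨i⟩))
  have h1 : (colimit (Discrete.functor (fun j : ULift.{u} I => M j.down))).IsQuasicoherent :=
    Groth.Agent.Lib.Helper23.QCohLocal.isQuasicoherent_colimit _ (fun ⟨j⟩ => h j.down)
  exact Groth.Agent.Lib.T2H8.PCohQCoh.isQCoh_of_iso
    (colimit.isoColimitCocone ⟨c', hc'⟩) h1

end Coprod

section Affine2

variable (R : CommRingCat.{u})

/-- `M~ ⊗ N~` is quasi-coherent -/
theorem isQCoh_tensorBi_tilde (M N : ModuleCat.{u} R) :
    (((DCoh.tensorBi (X := Spec R)).obj ((tilde.functor R).obj M)).obj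
      ((tilde.functor R).obj N)).IsQuasicoherent :=
  Groth.Agent.Lib.T2H8.PCohQCoh.isQCoh_of_iso
    (Groth.Agent.Lib.Helper23.TildeTensor.tildeTensorIso R N M) inferInstance

/-- the total tensor complex of two complexes of the form `K~` has quasi-coherent cohomology -/
theorem isQCoh_homology_tensor_tilde (K L : CochainComplex (ModuleCat.{u} R) ℤ) (n : ℤ) :
    (((DCoh.tensorCx.obj ((TC R).obj K)).obj ((TC R).obj L)).homology n).IsQuasicoherent := by
  apply Groth.Agent.Lib.T2H8.PCohQCoh.isQCoh_homology
  intro k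
  exact prop_mapBifunctor_X (DCoh.tensorBi (X := Spec R)) (fun M => M.IsQuasicoherent)
    (fun I M c hc h => isQCoh_of_isColimit_cofan_zero M c hc h) ((TC R).obj K) ((TC R).obj L) k
    (fun p q _ => isQCoh_tensorBi_tilde R (K.X p) (L.X q))

end Affine2

section Affine3

variable (R : CommRingCat.{u})

/-- transport of quasi-coherence of the cohomology along an isomorphism in the derived category -/
theorem isQCoh_homology_of_iso {X : Scheme.{u}} {A B : CochainComplex X.Modules ℤ}
    (e : DerivedCategory.Q.obj A ≅ DerivedCategory.Q.obj B) (n : ℤ)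
    (h : (B.homology n).IsQuasicoherent) : (A.homology n).IsQuasicoherent :=
  Groth.Agent.Lib.T2H8.PCohQCoh.isQCoh_of_iso
    (((DerivedCategory.homologyFunctorFactors X.Modules n).app B).symm ≪≫
      (DerivedCategory.homologyFunctor X.Modules n).mapIso e.symm ≪≫
      (DerivedCategory.homologyFunctorFactors X.Modules n).app A) h

/-- on an affine scheme, the tensor product of two complexes with quasi-coherent cohomology, one
of which is K-flat, has quasi-coherent cohomology. -/
theorem isQCoh_homology_tensor_of_isQCohD (A B : CochainComplex (Spec R).Modules ℤ)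
    (hA : DCoh.IsQCohD (DerivedCategory.Q.obj A)) (hB : DCoh.IsQCohD (DerivedCategory.Q.obj B))
    (hBflat : DCoh.IsKFlat B) (n : ℤ) :
    (((DCoh.tensorCx.obj A).obj B).homology n).IsQuasicoherent := by
  obtain ⟨K, hK, ⟨eA⟩⟩ := exists_tilde_kflat R A hA
  obtain ⟨L, hL, ⟨eB⟩⟩ := exists_tilde_kflat R B hB
  obtain ⟨c⟩ := nonempty_Q_tensor_iso (O := (Spec R).sheaf) A ((TC R).obj K) B ((TC R).obj L)
    hBflat (isKFlat_tilde R K hK) eA eB
  exact isQCoh_homology_of_iso c n (isQCoh_homology_tensor_tilde R K L n)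

end Affine3

section Global

variable {X : Scheme.{u}}

section OpenImm

variable {U : Scheme.{u}} (j : U ⟶ X) [IsOpenImmersion j]

instance preservesFiniteLimits_pullback_of_isOpenImmersion :
    PreservesFiniteLimits (Scheme.Modules.pullback j) :=
  preservesFiniteLimits_of_natIso (Scheme.Modules.restrictFunctorIsoPullback j)

/-- the pullback along an open immersion commutes with the cohomology of complexes -/
noncomputable def pullCHomologyIso (G : CochainComplex X.Modules ℤ) (n : ℤ) :
    ((pullC j).obj G).homology n ≅ (Scheme.Modules.restrictFunctor j).obj (G.homology n) :=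
  Groth.Agent.Lib.T2H8.HomologyCoprod.homologyMapIso (Scheme.Modules.pullback j) G n ≪≫
    ((Scheme.Modules.restrictFunctorIsoPullback j).app (G.homology n)).symm

/-- the pullback along an open immersion preserves `D_QCoh` -/
theorem isQCohD_pullC (G : CochainComplex X.Modules ℤ)
    (hG : DCoh.IsQCohD (DerivedCategory.Q.obj G)) :
    DCoh.IsQCohD (DerivedCategory.Q.obj ((pullC j).obj G)) := by
  intro n
  have h1 : (G.homology n).IsQuasicoherent :=
    Groth.Agent.Lib.T2H8.PCohQCoh.isQCoh_of_iso
      ((DerivedCategory.homologyFunctorFactors X.Modules n).app G) (hG n)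
  have h2 : ((Scheme.Modules.restrictFunctor j).obj (G.homology n)).IsQuasicoherent :=
    Scheme.Modules.isQuasicoherent_restrictFunctor j (G.homology n)
  exact Groth.Agent.Lib.T2H8.PCohQCoh.isQCoh_of_iso
    ((pullCHomologyIso j G n).symm ≪≫
      ((DerivedCategory.homologyFunctorFactors U.Modules n).app _).symm) h2

end OpenImm

/-- the tensor product of two complexes with quasi-coherent cohomology, the first of which is
K-flat, has quasi-coherent cohomology. -/
theorem isQCoh_homology_tensor (P F : CochainComplex X.Modules ℤ) (hP : DCoh.IsKFlat P)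
    (hPq : DCoh.IsQCohD (DerivedCategory.Q.obj P)) (hF : DCoh.IsQCohD (DerivedCategory.Q.obj F))
    (n : ℤ) : (((DCoh.tensorCx.obj P).obj F).homology n).IsQuasicoherent := by
  refine Groth.Agent.Lib.Helper23.QCohLocal.isQuasicoherent_of_forall_affine _ (fun V hV => ?_)
  let j := hV.fromSpec
  obtain ⟨t⟩ := nonempty_pullTotIso j P F
  have hPj : DCoh.IsKFlat ((pullC j).obj P) := Groth.Agent.S0960.isKFlat_pullC j P hP
  have h1 := isQCoh_homology_tensor_of_isQCohD Γ(X, V) ((pullC j).obj F) ((pullC j).obj P)
    (isQCohD_pullC j F hF) (isQCohD_pullC j P hPq) hPj n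
  let s := symIso (ModSite.tensorBi (Spec Γ(X, V)).sheaf)
    (Groth.Agent.Lib.Helper21.ModTensor5.brd (Spec Γ(X, V)).sheaf)
    ((pullC j).obj P) ((pullC j).obj F)
  have e1 : ((pullC j).obj ((DCoh.tensorCx.obj P).obj F)) ≅
      (DCoh.tensorCx.obj ((pullC j).obj F)).obj ((pullC j).obj P) := t ≪≫ s
  have e2 : ((DCoh.tensorCx.obj ((pullC j).obj F)).obj ((pullC j).obj P)).homology n ≅
      ((pullC j).obj ((DCoh.tensorCx.obj P).obj F)).homology n :=
    (HomologicalComplex.homologyFunctor (Spec Γ(X, V)).Modules (ComplexShape.up ℤ) n).mapIso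
      e1.symm
  exact Groth.Agent.Lib.T2H8.PCohQCoh.isQCoh_of_iso
    (e2 ≪≫ pullCHomologyIso j ((DCoh.tensorCx.obj P).obj F) n) h1

end Global

section Main

variable (X : Scheme.{u})

/-- S1062: the derived tensor product preserves `D_QCoh`. -/
theorem isQCohD_LTensorCx (F : CochainComplex X.Modules ℤ)
    (hF : DCoh.IsQCohD (DCoh.toD X F)) [DCoh.HasLTensorCx F]
    (E : DCoh.D X) (hE : DCoh.IsQCohD E) : DCoh.IsQCohD ((DCoh.LTensorCx F).obj E) := by
  let F0 := (DerivedCategory.Q (C := X.Modules)).objPreimage E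
  have e0 : DerivedCategory.Q.obj F0 ≅ E := (DerivedCategory.Q (C := X.Modules)).objObjPreimageIso E
  obtain ⟨P, q, hP, -, hq, -⟩ := exists_kflat_flat_resolution (O := X.sheaf) F0
  haveI : QuasiIso q := hq
  have hP' : DCoh.IsKFlat P := hP
  haveI : IsIso (DerivedCategory.Q.map q) := by
    rw [DerivedCategory.isIso_Q_map_iff_quasiIso]; exact hq
  have eK : E ≅ DerivedCategory.Q.obj P := e0.symm ≪≫ (asIso (DerivedCategory.Q.map q)).symm
  haveI hI1 : ModSite.HasLTensorCx (O := X.sheaf) F := (inferInstance : DCoh.HasLTensorCx F)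
  have i : (DCoh.LTensorCx F).obj (DerivedCategory.Q.obj P) ≅
      DerivedCategory.Q.obj ((DCoh.tensorCx.obj P).obj F) :=
    lTensorCxIsoOfIsKFlat (O := X.sheaf) F P hP
  have hPq : DCoh.IsQCohD (DerivedCategory.Q.obj P) := fun m =>
    Groth.Agent.Lib.T2H8.PCohQCoh.isQCoh_of_iso
      ((DerivedCategory.homologyFunctor X.Modules m).mapIso eK) (hE m)
  intro n
  have h1 := isQCoh_homology_tensor P F hP' hPq hF n
  exact Groth.Agent.Lib.T2H8.PCohQCoh.isQCoh_of_iso
    (((DerivedCategory.homologyFunctorFactors X.Modules n).app _).symm ≪≫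
      (DerivedCategory.homologyFunctor X.Modules n).mapIso
        ((DCoh.LTensorCx F).mapIso eK ≪≫ i).symm) h1

end Main

end Groth.Agent.Lib.T2H1.LTensorQCoh
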