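import Groth.Agent.Lib.T2H2AffRedB
import Groth.Agent.Lib.T2H8PCohBdd
import Groth.Agent.Lib.Helper23FinType2
import Groth.Agent.Lib.Helper23FinTypeLocal
import Groth.Agent.S6942

/-!
# Pseudo-coherence on Noetherian schemes via coherent cohomology (T2H2)
-/

set_option autoImplicit false
set_option linter.style.haveILetI false
universe u
open CategoryTheory CategoryTheory.Limits AlgebraicGeometry Opposite

attribute [local instance] HasDerivedCategory.standard

namespace Groth.Agent.Lib.T2H2.AffRed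

open Groth.Agent.Lib.T2H8.SchLocHtpy Groth.Agent.Lib.T2H8.PerfLocal
  Groth.Agent.Lib.T2H8.PCohTriangle Groth.Agent.Lib.T2H2.TildeLoc DerivedCategory
  Groth.Agent.Lib.Helper23.QCohLocal

variable {X : Scheme.{u}}

/-- the cohomology sheaves of `(rD j) K ≅ M~` are the tildes of the cohomology modules of `M` -/
noncomputable def tildeHDIso {A : Type u} [CommRing A] (j : Spec (CommRingCat.of A) ⟶ X)
    [IsOpenImmersion j] (K : DCoh.D X) (M : Dual.D A)
    (eM : (DCoh.tildeD (CommRingCat.of A)).obj M ≅ (rD j).obj K) (i : ℤ) :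
    tilde ((homologyFunctor (ModuleCat.{u} A) i).obj M) ≅ (DCoh.HD K i).restrict j :=
  ((mapDerivedCategoryHomologyIso (tilde.functor (CommRingCat.of A)) i).app M).symm ≪≫
    (homologyFunctor _ i).mapIso eM ≪≫
    (mapDerivedCategoryHomologyIso (Scheme.Modules.restrictFunctor j) i).app K

/-- the tilde functor reflects zero objects -/
lemma isZero_of_isZero_tilde (R : CommRingCat.{u}) (N : ModuleCat.{u} R) (h : IsZero (tilde N)) :
    IsZero N := by
  rw [IsZero.iff_id_eq_zero]
  apply (tilde.functor R).map_injective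
  rw [CategoryTheory.Functor.map_id, Functor.map_zero]
  exact (IsZero.iff_id_eq_zero _).1 h

/-- every point of a locally Noetherian scheme lies in a Noetherian affine chart -/
theorem exists_noetherian_affine_chart [IsLocallyNoetherian X] (x : X) :
    ∃ (A : Type u) (_ : CommRing A) (_ : IsNoetherianRing A) (j : Spec (CommRingCat.of A) ⟶ X)
      (_ : IsOpenImmersion j) (x' : Spec (CommRingCat.of A)), j x' = x := by
  obtain ⟨W, hW, hxW, -⟩ := exists_isAffineOpen_mem_and_subset (x := x) (U := ⊤) trivial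
  have hr : x ∈ Set.range hW.fromSpec := by
    rw [hW.range_fromSpec]
    exact hxW
  obtain ⟨x', hx'⟩ := hr
  exact ⟨Γ(X, W), inferInstance, IsLocallyNoetherian.component_noetherian ⟨W, hW⟩, hW.fromSpec,
    inferInstance, x', hx'⟩

/-- on a locally Noetherian scheme, an object of `D_QCoh` with coherent cohomology in degrees
`≥ m` and cohomology bounded above is `m`-pseudo-coherent. -/
theorem isPseudoCoherentD_of_coherent [IsLocallyNoetherian X] (E : DCoh.D X)
    (hE : DCoh.IsQCohD E) (m : ℤ) (hcoh : ∀ i : ℤ, m ≤ i → Coh.IsCoh (DCoh.HD E i))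
    (b : ℤ) (hb : ∀ i : ℤ, b < i → IsZero (DCoh.HD E i)) : DCoh.IsPseudoCoherentD m E := by
  rw [isPseudoCoherentD_iff]
  intro x
  obtain ⟨A, _, _, j, _, x', hx'⟩ := exists_noetherian_affine_chart x
  obtain ⟨M, ⟨eM⟩⟩ := exists_tildeD_iso A ((rD j).obj E) (isQCohD_rD j E hE)
  have hM : DRing.IsPseudoCoherent A m M := by
    refine ((Groth.Agent.S6942.result A m M A).1).2 ⟨⟨b, fun i hi => ?_⟩, fun i hi => ?_⟩
    · have h1 : IsZero (tilde ((homologyFunctor (ModuleCat.{u} A) i).obj M)) :=
        IsZero.of_iso ((Scheme.Modules.restrictFunctor j).map_isZero (hb i hi))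
          (tildeHDIso j E M eM i)
      exact ModuleCat.subsingleton_of_isZero (isZero_of_isZero_tilde _ _ h1)
    · haveI : (DCoh.HD E i).IsQuasicoherent := hE i
      haveI : SheafOfModules.IsFiniteType (R := X.ringCatSheaf) (DCoh.HD E i) := (hcoh i hi).2
      have h1 : SheafOfModules.IsFiniteType (R := (Spec (CommRingCat.of A)).ringCatSheaf)
          ((DCoh.HD E i).restrict j) :=
        Groth.Agent.Lib.Helper23.FinType.isFiniteType_restrict j (DCoh.HD E i)
      have h2 := Groth.Agent.Lib.Helper23.FinType.isFiniteType_of_iso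
        (tildeHDIso j E M eM i).symm (hM := h1)
      exact (Groth.Agent.Lib.Helper23.FinType.isFiniteType_tilde_iff (CommRingCat.of A) _).1 h2
  have h1 : DCoh.IsPseudoCoherentD m ((rD j).obj E) :=
    isPseudoCoherentD_of_iso eM m (isPseudoCoherentD_tildeD_of_isPC A M m hM)
  rw [← hx']
  exact locPCoh_of_isPseudoCoherentD_rD j m E x' h1

/-- on a locally Noetherian scheme, the cohomology sheaves in degrees `≥ m` of an
`m`-pseudo-coherent object of `D_QCoh` are of finite type -/
theorem isFiniteType_HD_of_isPseudoCoherentD [IsLocallyNoetherian X] (E : DCoh.D X)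
    (hE : DCoh.IsQCohD E) (m : ℤ) (hpc : DCoh.IsPseudoCoherentD m E) (i : ℤ) (hi : m ≤ i) :
    SheafOfModules.IsFiniteType (R := X.ringCatSheaf) (DCoh.HD E i) := by
  haveI : (DCoh.HD E i).IsQuasicoherent := hE i
  refine Groth.Agent.Lib.Helper23.FinType.isFiniteType_of_finite_ΓU (DCoh.HD E i)
    (fun W : X.affineOpens => (W : X.Opens)) (iSup_affineOpens_eq_top X) (fun W => W.2)
    (fun W => ?_)
  haveI : IsNoetherianRing Γ(X, W.1) := IsLocallyNoetherian.component_noetherian W
  let A : Type u := Γ(X, W.1)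
  let j : Spec (CommRingCat.of A) ⟶ X := W.2.fromSpec
  haveI : IsOpenImmersion j := inferInstanceAs (IsOpenImmersion W.2.fromSpec)
  obtain ⟨M, ⟨eM⟩⟩ := exists_tildeD_iso A ((rD j).obj E) (isQCohD_rD j E hE)
  have hM : DRing.IsPseudoCoherent A m M :=
    isPC_of_isPseudoCoherentD_tildeD A M m
      (isPseudoCoherentD_of_iso eM.symm m (isPseudoCoherentD_rD j m E hpc))
  haveI hfin : Module.Finite A (Dual.HD A M i) :=
    (((Groth.Agent.S6942.result A m M A).1).1 hM).2 i hi
  let e : (homologyFunctor (ModuleCat.{u} A) i).obj M ≅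
      Groth.Agent.Lib.Helper23.FinType.ΓU (DCoh.HD E i) W.2 :=
    (tilde.toTildeΓNatIso (R := CommRingCat.of A)).app _ ≪≫
      (ΓF (CommRingCat.of A)).mapIso (tildeHDIso j E M eM i)
  exact Module.Finite.equiv e.toLinearEquiv

/-- pseudo-coherence on a Noetherian scheme in terms of coherent cohomology -/
theorem isPseudoCoherentD_iff_coherent [IsNoetherian X] (E : DCoh.D X) (hE : DCoh.IsQCohD E)
    (m : ℤ) :
    DCoh.IsPseudoCoherentD m E ↔
      (∀ i : ℤ, m ≤ i → Coh.IsCoh (DCoh.HD E i)) ∧ ∃ b : ℤ, E.IsLE b := by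
  constructor
  · intro hpc
    refine ⟨fun i hi => ⟨hE i, isFiniteType_HD_of_isPseudoCoherentD E hE m hpc i hi⟩, ?_⟩
    obtain ⟨b, hb⟩ := Groth.Agent.Lib.T2H8.PCohBdd.exists_bound_of_isPseudoCoherentD m E hpc
    exact ⟨b, (DerivedCategory.isLE_iff E b).2 hb⟩
  · rintro ⟨hcoh, b, hb⟩
    exact isPseudoCoherentD_of_coherent E hE m hcoh b ((DerivedCategory.isLE_iff E b).1 hb)

end Groth.Agent.Lib.T2H2.AffRed
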