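import Mathlib
import Groth.Prelude.Def_PerfD
import Groth.Agent.Lib.T2H8PCohQCoh
import Groth.Agent.Lib.Helper23FinType
import Groth.Agent.Lib.Helper23FinTypeLocal
import Groth.Agent.Lib.Helper23ModLocal
import Groth.Agent.Lib.Helper2LocFree

/-!
# Perfect objects on Noetherian schemes have coherent, bounded cohomology (helper8)
-/

set_option autoImplicit false
universe u
open CategoryTheory CategoryTheory.Limits AlgebraicGeometry Opposite

namespace Groth.Agent.Lib.T2H8.PerfCoh

open DerivedCategory Groth.Agent.Lib.T2H8.PCohQCoh Groth.Agent.Lib.Helper23.FinType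
  Groth.Agent.Lib.Helper23.QCohLocal

attribute [local instance] HasDerivedCategory.standard

variable {X : Scheme.{u}}

/-- a finite locally free module is coherent -/
lemma isCoh_of_isFinLocFree (M : X.Modules) (h : FlatMod.IsFinLocFree M) : Coh.IsCoh M := by
  haveI hfp : SheafOfModules.IsFinitePresentation (R := X.ringCatSheaf) M :=
    Groth.Agent.Lib.Helper2.LocFree.isFP_of_isFinLocFree M h
  exact ⟨inferInstance, inferInstance⟩

/-- the homology of a short complex of quasi-coherent modules with coherent middle term on a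
locally Noetherian scheme is coherent -/
theorem isCoh_homology_sc [IsLocallyNoetherian X] (S : ShortComplex X.Modules)
    (h₁ : S.X₁.IsQuasicoherent) (h₂ : Coh.IsCoh S.X₂) (h₃ : S.X₃.IsQuasicoherent) :
    Coh.IsCoh S.homology := by
  haveI := h₁
  haveI := h₃
  haveI : S.X₂.IsQuasicoherent := h₂.1
  haveI : SheafOfModules.IsFiniteType (R := X.ringCatSheaf) S.X₂ := h₂.2
  haveI h1 : (kernel S.g).IsQuasicoherent := isQuasicoherent_kernel S.g
  have hm : Mono (kernel.ι S.g) := inferInstance
  haveI h1' : SheafOfModules.IsFiniteType (R := X.ringCatSheaf) (kernel S.g) :=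
    @isFiniteType_of_mono X _ (kernel S.g) S.X₂ (kernel.ι S.g) hm _ _ _
  have h2 : (cokernel (kernel.lift S.g S.f S.zero)).IsQuasicoherent :=
    isQuasicoherent_cokernel (kernel.lift S.g S.f S.zero)
  have he : Epi (cokernel.π (kernel.lift S.g S.f S.zero)) := inferInstance
  haveI h2' : SheafOfModules.IsFiniteType (R := X.ringCatSheaf)
      (cokernel (kernel.lift S.g S.f S.zero)) :=
    @isFiniteType_of_epi X (kernel S.g) (cokernel (kernel.lift S.g S.f S.zero)) h1 h2
      (cokernel.π (kernel.lift S.g S.f S.zero)) he h1'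
  exact ⟨isQCoh_of_iso S.homologyIsoCokernelLift.symm h2,
    @isFiniteType_of_iso X _ _ S.homologyIsoCokernelLift.symm h2'⟩

/-- the cohomology sheaves of a complex with coherent terms on a locally Noetherian scheme are
coherent -/
theorem isCoh_homology [IsLocallyNoetherian X] (P : CochainComplex X.Modules ℤ)
    (hP : ∀ i, Coh.IsCoh (P.X i)) (i : ℤ) : Coh.IsCoh (P.homology i) :=
  isCoh_homology_sc (P.sc i) (hP _).1 (hP _) (hP _).1

/-- the cohomology sheaves of a strictly perfect complex on a locally Noetherian scheme are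
coherent -/
theorem isCoh_homology_of_isStrictlyPerfect [IsLocallyNoetherian X]
    (P : CochainComplex X.Modules ℤ) (hP : DCoh.IsStrictlyPerfect P) (i : ℤ) :
    Coh.IsCoh (P.homology i) :=
  isCoh_homology P (fun j => isCoh_of_isFinLocFree _ (hP.2 j)) i

lemma isCoh_of_iso {M N : X.Modules} (e : M ≅ N) (hM : Coh.IsCoh M) : Coh.IsCoh N :=
  ⟨isQCoh_of_iso e hM.1, @isFiniteType_of_iso X _ _ e hM.2⟩

/-- coherence is local for the Zariski topology -/
theorem isCoh_of_locally (M : X.Modules)
    (h : ∀ x : X, ∃ V : X.Opens, x ∈ V ∧ Coh.IsCoh (M.restrict V.ι)) : Coh.IsCoh M := by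
  haveI : M.IsQuasicoherent := isQCoh_of_locally M fun x => by
    obtain ⟨V, hx, hV⟩ := h x
    exact ⟨V, hx, hV.1⟩
  choose V hxV hV using h
  refine ⟨inferInstance, isFiniteType_of_open_cover M V ?_ (fun x => (hV x).2)⟩
  rw [TopologicalSpace.IsOpenCover, eq_top_iff]
  intro x _
  exact TopologicalSpace.Opens.mem_iSup.2 ⟨x, hxV x⟩

/-- S1006: perfect objects on a Noetherian scheme have coherent cohomology and are bounded -/
theorem main_S1006 (X : Scheme.{u}) [IsNoetherian X] (E : DCoh.D X) (hE : DCoh.IsPerfect E) :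
    DCoh.IsCohD E ∧ ∃ a b : ℤ, E.IsGE a ∧ E.IsLE b := by
  let F := (Q (C := X.Modules)).objPreimage E
  let e₀ : Q.obj F ≅ E := Q.objObjPreimageIso E
  have key : ∀ x : X, ∃ (V : X.Opens) (P : CochainComplex (V : Scheme.{u}).Modules ℤ), x ∈ V ∧
      DCoh.IsStrictlyPerfect P ∧ ∀ q, Nonempty ((DCoh.HD E q).restrict V.ι ≅ P.homology q) := by
    intro x
    obtain ⟨V, hxV, H⟩ := hE x
    obtain ⟨P, hP, ⟨eP⟩⟩ := H F ⟨e₀⟩
    exact ⟨V, P, hxV, hP, fun q => ⟨(Scheme.Modules.restrictFunctor V.ι).mapIso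
        ((homologyFunctor X.Modules q).mapIso e₀.symm) ≪≫ (restrictHDIso V F q).symm ≪≫
      (homologyFunctor _ q).mapIso eP ≪≫ (homologyFunctorFactors _ q).app P⟩⟩
  choose V P hxV hP hiso using key
  constructor
  · intro q
    refine isCoh_of_locally _ fun x => ⟨V x, hxV x, ?_⟩
    obtain ⟨e⟩ := hiso x q
    exact isCoh_of_iso e.symm (isCoh_homology_of_isStrictlyPerfect (P x) (hP x) q)
  · choose a b hab using fun x => (hP x).1
    obtain ⟨t, ht⟩ := CompactSpace.elim_nhds_subcover (fun x => ((V x : X.Opens) : Set X))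
      (fun x => (V x).isOpen.mem_nhds (hxV x))
    have hcov : ∀ y : X, ∃ (i : t) (z : ((V i.1 : X.Opens) : Scheme.{u})), (V i.1).ι z = y := by
      intro y
      have hy : y ∈ ⋃ x ∈ t, ((V x : X.Opens) : Set X) := by
        rw [ht]
        trivial
      simp only [Set.mem_iUnion] at hy
      obtain ⟨x, hxt, hyx⟩ := hy
      exact ⟨⟨x, hxt⟩, ⟨y, hyx⟩, rfl⟩
    have hzero : ∀ q : ℤ, (∀ x ∈ t, q < a x ∨ b x < q) → IsZero (DCoh.HD E q) := by
      intro q hq
      refine Groth.Agent.Lib.Helper23.ModLocal.isZero_of_isZero_restrict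
        (fun i : t => ((V i.1 : X.Opens) : Scheme.{u})) (fun i => (V i.1).ι) hcov (fun i => ?_)
      obtain ⟨e⟩ := hiso i.1 q
      exact IsZero.of_iso (((P i.1).sc q).isZero_homology_of_isZero_X₂
        (hab i.1 q (hq i.1 i.2))) e
    have hle : ∀ x ∈ t, |a x| ≤ ∑ y ∈ t, |a y| := fun x hx =>
      Finset.single_le_sum (f := fun y => |a y|) (fun y _ => abs_nonneg (a y)) hx
    have hle' : ∀ x ∈ t, |b x| ≤ ∑ y ∈ t, |b y| := fun x hx =>
      Finset.single_le_sum (f := fun y => |b y|) (fun y _ => abs_nonneg (b y)) hx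
    refine ⟨-(∑ y ∈ t, |a y|), ∑ y ∈ t, |b y|, ?_, ?_⟩
    · rw [DerivedCategory.isGE_iff]
      intro q hq
      refine hzero q fun x hx => Or.inl ?_
      have h1 := hle x hx
      have h2 := neg_abs_le (a x)
      omega
    · rw [DerivedCategory.isLE_iff]
      intro q hq
      refine hzero q fun x hx => Or.inr ?_
      have h1 := hle' x hx
      have h2 := le_abs_self (b x)
      omega

end Groth.Agent.Lib.T2H8.PerfCoh
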