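import Mathlib
import Groth.Agent.Lib.T2H1LTensorQCoh
import Groth.Agent.Lib.T2H2AffRedD
import Groth.Agent.Lib.T2H8PerfCoh
import Groth.Agent.Lib.T2H5GenIsoA
import Groth.Agent.Lib.Helper1KF12
import Groth.Agent.S6939
import Groth.Agent.S6942
set_option backward.isDefEq.respectTransparency.types false

/-!
# The derived tensor product preserves `D^-_Coh` on locally Noetherian schemes
(helper1, second team)
-/

set_option autoImplicit false
set_option linter.style.haveILetI false
universe u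
open CategoryTheory CategoryTheory.Limits AlgebraicGeometry HomologicalComplex

attribute [local instance] HasDerivedCategory.standard

namespace Groth.Agent.Lib.T2H1.LTensorCoh

open Groth.Agent.Lib.Helper1.KBC Groth.Agent.Lib.Helper1.KF Groth.Agent.Lib.Helper1.BKF
  Groth.Agent.Lib.Helper1.Sky Groth.Agent.Lib.Helper1.PT Groth.Agent.Lib.Helper1.FLF
  Groth.Agent.Lib.T2H1.LTensorQCoh

section Coprod

variable {C : Type*} [Category C] [HasZeroMorphisms C]

/-- a coproduct is also the coproduct of any subfamily containing all the nonzero terms -/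
noncomputable def isColimitCofanRestrict {J I : Type*} (ι : J → I) (hι : Function.Injective ι)
    (M : I → C) (c : Cofan M) (hc : IsColimit c)
    (hz : ∀ i, i ∉ Set.range ι → IsZero (M i)) :
    IsColimit (Cofan.mk c.pt (fun j => c.inj (ι j))) := by
  classical
  have key : ∀ (t : Cofan (fun j => M (ι j))) (j j' : J) (hj : ι j' = ι j),
      eqToHom (congrArg M hj.symm) ≫ t.inj j' = t.inj j := by
    intro t j j' hj
    obtain rfl := hι hj
    simp
  refine mkCofanColimit _
    (fun t => Cofan.IsColimit.desc hc (fun i =>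
      if h : ∃ j, ι j = i then eqToHom (congrArg M h.choose_spec.symm) ≫ t.inj h.choose else 0))
    (fun t j => ?_) (fun t m hm => ?_)
  · change c.inj (ι j) ≫ _ = _
    rw [Cofan.IsColimit.fac]
    have h : ∃ j', ι j' = ι j := ⟨j, rfl⟩
    rw [dif_pos h]
    exact key t j h.choose h.choose_spec
  · refine Cofan.IsColimit.hom_ext hc _ _ (fun i => ?_)
    rw [Cofan.IsColimit.fac]
    by_cases h : ∃ j, ι j = i
    · rw [dif_pos h]
      obtain ⟨j, rfl⟩ := h
      have h' : ∃ j', ι j' = ι j := ⟨j, rfl⟩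
      rw [key t j h'.choose h'.choose_spec]
      exact hm j
    · rw [dif_neg h]
      exact (hz i (fun ⟨j, hj⟩ => h ⟨j, hj⟩)).eq_of_src _ _

end Coprod

section CohCoprod

variable {X : Scheme.{u}}

/-- a coproduct of coherent modules, all but finitely many of which vanish, is coherent -/
theorem isCoh_of_isColimit_cofan_finite {I : Type} (M : I → X.Modules) (c : Cofan M)
    (hc : IsColimit c) (h : ∀ i, Coh.IsCoh (M i)) (hfin : {i | ¬ IsZero (M i)}.Finite) :
    Coh.IsCoh c.pt := by
  classical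
  let S : Finset I := hfin.toFinset
  let e : Fin S.card ≃ S := S.equivFin.symm
  let ι : Fin S.card → I := fun k => (e k).1
  have hι : Function.Injective ι := fun a b hab => e.injective (Subtype.ext hab)
  have hz : ∀ i, i ∉ Set.range ι → IsZero (M i) := by
    intro i hi
    by_contra hn
    have hiS : i ∈ S := hfin.mem_toFinset.2 hn
    exact hi ⟨e.symm ⟨i, hiS⟩, by simp [ι]⟩
  have hc' := isColimitCofanRestrict ι hι M c hc hz
  have e' : (∐ fun k => M (ι k)) ≅ c.pt :=
    (coproductIsCoproduct (fun k => M (ι k))).coconePointUniqueUpToIso hc'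
  exact Groth.Agent.Lib.T2H8.PerfCoh.isCoh_of_iso e'
    (Groth.Agent.Lib.T2H5.GenIsoA.isCoh_sigma (fun k => M (ι k)) (fun k => h (ι k)))

end CohCoprod

section totalX

variable {A₁ A₂ D : Type*} [Category A₁] [Category A₂] [Category D] [Preadditive A₁]
  [Preadditive A₂] [Preadditive D]
  (G : A₁ ⥤ A₂ ⥤ D) [G.PreservesZeroMorphisms] [∀ X, (G.obj X).PreservesZeroMorphisms]

/-- a property of objects stable under coproducts with finitely many nonzero terms holds for the
terms of a total complex as soon as it holds for all the summands and only finitely many of them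
are nonzero -/
lemma prop_mapBifunctor_X_fin (Pr : D → Prop)
    (hPr : ∀ (I : Type) (X : I → D) (c : Cofan X), IsColimit c → (∀ i, Pr (X i)) →
      {i | ¬ IsZero (X i)}.Finite → Pr c.pt)
    (K : CochainComplex A₁ ℤ) (L : CochainComplex A₂ ℤ)
    [HasMapBifunctor K L G (ComplexShape.up ℤ)] (n : ℤ)
    (h : ∀ p q : ℤ, p + q = n → Pr ((G.obj (K.X p)).obj (L.X q)))
    (hfin : {pq : ℤ × ℤ | pq.1 + pq.2 = n ∧
      ¬ IsZero ((G.obj (K.X pq.1)).obj (L.X pq.2))}.Finite) :
    Pr ((mapBifunctor K L G (ComplexShape.up ℤ)).X n) := by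
  let B : HomologicalComplex₂ D (ComplexShape.up ℤ) (ComplexShape.up ℤ) :=
    ((G.mapBifunctorHomologicalComplex _ _).obj K).obj L
  let π := ComplexShape.π (ComplexShape.up ℤ) (ComplexShape.up ℤ) (ComplexShape.up ℤ)
  refine hPr (π ⁻¹' {n}) (fun i => (G.obj (K.X i.1.1)).obj (L.X i.1.2))
    (B.toGradedObject.cofanMapObj π n) (B.toGradedObject.isColimitCofanMapObj π n)
    (fun i => h i.1.1 i.1.2 i.2) ?_
  exact (hfin.preimage (Subtype.val_injective.injOn)).subset (fun i hi => ⟨i.2, hi⟩)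

/-- finiteness of the support of the summands of the total complex of two bounded above
complexes -/
lemma finite_support_of_vanishesAbove (K : CochainComplex A₁ ℤ) (L : CochainComplex A₂ ℤ)
    (a b n : ℤ) (hK : ∀ p, a < p → IsZero (K.X p)) (hL : ∀ q, b < q → IsZero (L.X q)) :
    {pq : ℤ × ℤ | pq.1 + pq.2 = n ∧ ¬ IsZero ((G.obj (K.X pq.1)).obj (L.X pq.2))}.Finite := by
  refine ((Finset.Icc (n - b) a).image (fun p => (p, n - p))).finite_toSet.subset ?_
  rintro ⟨p, q⟩ ⟨hpq, hnz⟩
  simp only [Finset.coe_image, Finset.coe_Icc, Set.mem_image, Set.mem_Icc, Prod.mk.injEq]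
  have hpq' : p + q = n := hpq
  have hp : p ≤ a := by
    by_contra hp
    exact hnz ((G.flip.obj (L.X q)).map_isZero (hK p (by omega)))
  have hq : q ≤ b := by
    by_contra hq
    exact hnz ((G.obj (K.X p)).map_isZero (hL q (by omega)))
  exact ⟨p, ⟨by omega, hp⟩, rfl, by omega⟩

end totalX

section Affine

open MonoidalCategory

variable (R : CommRingCat.{u})

/-- `M~ ⊗ N~` is coherent for finite modules `M`, `N` -/
theorem isCoh_tensorBi_tilde (M N : ModuleCat.{u} R) [Module.Finite R M] [Module.Finite R N] :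
    Coh.IsCoh (((DCoh.tensorBi (X := Spec R)).obj ((tilde.functor R).obj M)).obj
      ((tilde.functor R).obj N)) := by
  have e := Groth.Agent.Lib.Helper23.TildeTensor.tildeTensorIso R N M
  haveI : Module.Finite R (M ⊗ N : ModuleCat.{u} R) :=
    inferInstanceAs (Module.Finite R (TensorProduct R M N))
  have h1 : Coh.IsCoh (tilde (M ⊗ N : ModuleCat.{u} R)) :=
    ⟨inferInstance, (Groth.Agent.Lib.Helper23.FinType.isFiniteType_tilde_iff R _).2 inferInstance⟩
  exact Groth.Agent.Lib.T2H8.PerfCoh.isCoh_of_iso e h1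

/-- the terms of the total tensor complex of `K~` and `L~` are coherent, for `K`, `L` bounded
above with finite terms -/
theorem isCoh_tensor_tilde_X (K L : CochainComplex (ModuleCat.{u} R) ℤ) (a b : ℤ)
    (hK : ∀ p, a < p → IsZero (K.X p)) (hL : ∀ q, b < q → IsZero (L.X q))
    (hKf : ∀ i, Module.Finite R (K.X i)) (hLf : ∀ i, Module.Finite R (L.X i)) (n : ℤ) :
    Coh.IsCoh (((DCoh.tensorCx.obj ((TC R).obj K)).obj ((TC R).obj L)).X n) :=
  prop_mapBifunctor_X_fin (DCoh.tensorBi (X := Spec R)) Coh.IsCoh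
    (fun I M c hc h hfin => isCoh_of_isColimit_cofan_finite M c hc h hfin)
    ((TC R).obj K) ((TC R).obj L) n
    (fun p q _ => by
      haveI := hKf p
      haveI := hLf q
      exact isCoh_tensorBi_tilde R (K.X p) (L.X q))
    (finite_support_of_vanishesAbove (DCoh.tensorBi (X := Spec R)) ((TC R).obj K) ((TC R).obj L)
      a b n (fun p hp => (tilde.functor R).map_isZero (hK p hp))
      (fun q hq => (tilde.functor R).map_isZero (hL q hq)))

/-- the total tensor complex of `K~` and `L~` vanishes above `a + b` -/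
theorem isZero_tensor_tilde_X (K L : CochainComplex (ModuleCat.{u} R) ℤ) (a b : ℤ)
    (hK : ∀ p, a < p → IsZero (K.X p)) (hL : ∀ q, b < q → IsZero (L.X q)) (n : ℤ)
    (hn : a + b < n) :
    IsZero (((DCoh.tensorCx.obj ((TC R).obj K)).obj ((TC R).obj L)).X n) :=
  prop_mapBifunctor_X (DCoh.tensorBi (X := Spec R)) IsZero
    (fun I M c hc h => isZero_of_isColimit_cofan M c hc h) ((TC R).obj K) ((TC R).obj L) n
    (fun p q hpq => by
      by_cases hp : a < p
      · exact ((DCoh.tensorBi (X := Spec R)).flip.obj (((TC R).obj L).X q)).map_isZero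
          ((tilde.functor R).map_isZero (hK p hp))
      · exact ((DCoh.tensorBi (X := Spec R)).obj (((TC R).obj K).X p)).map_isZero
          ((tilde.functor R).map_isZero (hL q (by omega))))

/-- on `Spec R`, an object of `D_QCoh` comes from an object `M` of `D(R)`: representatives and
cohomology -/
theorem exists_tildeD_rep (G : CochainComplex (Spec R).Modules ℤ)
    (hG : DCoh.IsQCohD (DerivedCategory.Q.obj G)) :
    ∃ M : DerivedCategory (ModuleCat.{u} R),
      (∀ K : CochainComplex (ModuleCat.{u} R) ℤ, (DerivedCategory.Q.obj K ≅ M) →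
        Nonempty (DerivedCategory.Q.obj G ≅ DerivedCategory.Q.obj ((TC R).obj K))) ∧
      (∀ i : ℤ, Nonempty (tilde ((DerivedCategory.homologyFunctor (ModuleCat.{u} R) i).obj M) ≅
        DCoh.HD (DerivedCategory.Q.obj G) i)) := by
  haveI : PreservesFiniteLimits (tilde.functor R) := (Groth.Agent.S9498.aux R).1
  obtain ⟨M, ⟨e⟩⟩ := ((Groth.Agent.S0997.result R).2.2 (DerivedCategory.Q.obj G)).1 hG
  refine ⟨M, fun K eK => ⟨e.symm ≪≫ (DCoh.tildeD R).mapIso eK.symm ≪≫
    ((tilde.functor R).mapDerivedCategoryFactors).app K⟩, fun i => ⟨?_⟩⟩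
  exact ((Groth.Agent.Lib.T2H8.PCohTriangle.mapDerivedCategoryHomologyIso
    (tilde.functor R) i).app M).symm ≪≫ (DerivedCategory.homologyFunctor _ i).mapIso e

/-- on a Noetherian affine scheme, a complex with coherent cohomology, bounded above, is
isomorphic in the derived category to `K~` for a bounded above complex `K` of finite free
modules. -/
theorem exists_tilde_finite [IsNoetherianRing R] (G : CochainComplex (Spec R).Modules ℤ)
    (hG : DCoh.IsCohD (DerivedCategory.Q.obj G)) (a : ℤ)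
    (ha : ∀ i : ℤ, a < i → IsZero (DCoh.HD (DerivedCategory.Q.obj G) i)) :
    ∃ (K : CochainComplex (ModuleCat.{u} R) ℤ) (b : ℤ), (∀ p, b < p → IsZero (K.X p)) ∧
      (∀ i, Module.Finite R (K.X i)) ∧ (∀ i, Module.Flat R (K.X i)) ∧
      Nonempty (DerivedCategory.Q.obj G ≅ DerivedCategory.Q.obj ((TC R).obj K)) := by
  obtain ⟨M, hM1, hM2⟩ := exists_tildeD_rep R G (fun i => (hG i).1)
  have hfin : ∀ i : ℤ, Module.Finite R (Dual.HD R M i) := by
    intro i
    obtain ⟨e⟩ := hM2 i
    haveI : SheafOfModules.IsFiniteType (R := (Spec R).ringCatSheaf)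
        (DCoh.HD (DerivedCategory.Q.obj G) i) := (hG i).2
    have h2 := Groth.Agent.Lib.Helper23.FinType.isFiniteType_of_iso e.symm
    exact (Groth.Agent.Lib.Helper23.FinType.isFiniteType_tilde_iff R _).1 h2
  have hb : ∃ b : ℤ, ∀ i : ℤ, b < i → Subsingleton (Dual.HD R M i) := by
    refine ⟨a, fun i hi => ?_⟩
    obtain ⟨e⟩ := hM2 i
    exact ModuleCat.subsingleton_of_isZero
      (Groth.Agent.Lib.T2H2.AffRed.isZero_of_isZero_tilde R _ (IsZero.of_iso (ha i hi) e))
  have hpc : DRing.IsPseudoCoherent' R M :=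
    (Groth.Agent.S6939.result R 0 M hb).2 (fun i =>
      ((Groth.Agent.S6942.result R 0 M (Dual.HD R M i)).2).2 (hfin i))
  obtain ⟨E, b, hEb, hEf, ⟨eE⟩⟩ := hpc
  refine ⟨E, b, hEb, fun i => (hEf i).1, fun i => ?_, hM1 E eE⟩
  haveI := (hEf i).2
  infer_instance

/-- on an affine scheme, a complex with quasi-coherent cohomology vanishing above `a` is
isomorphic in the derived category to `K~` for a complex `K` of projective modules vanishing
above `a`. -/
theorem exists_tilde_proj (G : CochainComplex (Spec R).Modules ℤ)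
    (hG : DCoh.IsQCohD (DerivedCategory.Q.obj G)) (a : ℤ)
    (ha : ∀ i : ℤ, a < i → IsZero (DCoh.HD (DerivedCategory.Q.obj G) i)) :
    ∃ (K : CochainComplex (ModuleCat.{u} R) ℤ), (∀ p, a < p → IsZero (K.X p)) ∧
      (∀ i, Module.Flat R (K.X i)) ∧
      Nonempty (DerivedCategory.Q.obj G ≅ DerivedCategory.Q.obj ((TC R).obj K)) := by
  obtain ⟨M, hM1, hM2⟩ := exists_tildeD_rep R G hG
  haveI : M.IsLE a := by
    rw [DerivedCategory.isLE_iff]
    intro i hi
    obtain ⟨e⟩ := hM2 i
    exact Groth.Agent.Lib.T2H2.AffRed.isZero_of_isZero_tilde R _ (IsZero.of_iso (ha i hi) e)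
  obtain ⟨P, hPle, hPproj, ⟨eP⟩⟩ := Groth.Agent.Lib.Helper1.ProjRes.exists_iso_Q_proj M a
  exact ⟨P, fun p hp => P.isZero_of_isStrictlyLE a p hp,
    Groth.Agent.Lib.Helper1.Tor.termwiseFlat_of_projective P hPproj, hM1 P eP⟩

/-- a bounded above complex of flat modules gives a K-flat complex `K~` -/
theorem isKFlat_tilde_of_boundedAbove_flat (K : CochainComplex (ModuleCat.{u} R) ℤ) (b : ℤ)
    (hb : ∀ p, b < p → IsZero (K.X p)) (hfl : ∀ i, Module.Flat R (K.X i)) :
    DCoh.IsKFlat ((TC R).obj K) := by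
  have h1 : KFlat K := kflat_of_boundedAbove_flat K b hb hfl
  exact isKFlat_tilde R K (fun L hL => h1 L hL)

end Affine

section Global

variable {X : Scheme.{u}}

/-- on an affine open, the cohomology of `P ⊗ F` is computed by any representatives `K₁~`, `K₂~`
of the restrictions of `F` and `P`, the first one being K-flat -/
theorem nonempty_restrict_homology_iso (P F : CochainComplex X.Modules ℤ) (hP : DCoh.IsKFlat P)
    {V : X.Opens} (hV : IsAffineOpen V)
    (K1 K2 : CochainComplex (ModuleCat.{u} Γ(X, V)) ℤ)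
    (hK1 : DCoh.IsKFlat ((TC Γ(X, V)).obj K1))
    (e1 : DerivedCategory.Q.obj ((pullC hV.fromSpec).obj F) ≅
      DerivedCategory.Q.obj ((TC Γ(X, V)).obj K1))
    (e2 : DerivedCategory.Q.obj ((pullC hV.fromSpec).obj P) ≅
      DerivedCategory.Q.obj ((TC Γ(X, V)).obj K2)) (n : ℤ) :
    Nonempty ((Scheme.Modules.restrictFunctor hV.fromSpec).obj
        (((DCoh.tensorCx.obj P).obj F).homology n) ≅
      ((DCoh.tensorCx.obj ((TC Γ(X, V)).obj K1)).obj ((TC Γ(X, V)).obj K2)).homology n) := by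
  let j := hV.fromSpec
  obtain ⟨t⟩ := nonempty_pullTotIso j P F
  have hPj : DCoh.IsKFlat ((pullC j).obj P) := Groth.Agent.S0960.isKFlat_pullC j P hP
  let s := symIso (ModSite.tensorBi (Spec Γ(X, V)).sheaf)
    (Groth.Agent.Lib.Helper21.ModTensor5.brd (Spec Γ(X, V)).sheaf)
    ((pullC j).obj P) ((pullC j).obj F)
  have e1' : ((pullC j).obj ((DCoh.tensorCx.obj P).obj F)) ≅
      (DCoh.tensorCx.obj ((pullC j).obj F)).obj ((pullC j).obj P) := t ≪≫ s
  obtain ⟨c⟩ := nonempty_Q_tensor_iso (O := (Spec Γ(X, V)).sheaf) ((pullC j).obj F)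
    ((TC Γ(X, V)).obj K1) ((pullC j).obj P) ((TC Γ(X, V)).obj K2) hPj hK1 e1 e2
  exact ⟨(pullCHomologyIso j ((DCoh.tensorCx.obj P).obj F) n).symm ≪≫
    (HomologicalComplex.homologyFunctor (Spec Γ(X, V)).Modules (ComplexShape.up ℤ) n).mapIso e1' ≪≫
    ((DerivedCategory.homologyFunctorFactors (Spec Γ(X, V)).Modules n).app _).symm ≪≫
    (DerivedCategory.homologyFunctor (Spec Γ(X, V)).Modules n).mapIso c ≪≫
    (DerivedCategory.homologyFunctorFactors (Spec Γ(X, V)).Modules n).app _⟩

/-- restriction to an affine open preserves coherence and vanishing of the cohomology -/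
theorem isCohD_pullC [IsLocallyNoetherian X] {Y : Scheme.{u}} (j : Y ⟶ X) [IsOpenImmersion j]
    (G : CochainComplex X.Modules ℤ)
    (hG : DCoh.IsCohD (DerivedCategory.Q.obj G)) :
    DCoh.IsCohD (DerivedCategory.Q.obj ((pullC j).obj G)) := by
  intro n
  have h1 : Coh.IsCoh (G.homology n) :=
    Groth.Agent.Lib.T2H8.PerfCoh.isCoh_of_iso
      ((DerivedCategory.homologyFunctorFactors X.Modules n).app G) (hG n)
  haveI : (G.homology n).IsQuasicoherent := h1.1
  haveI : SheafOfModules.IsFiniteType (R := X.ringCatSheaf) (G.homology n) := h1.2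
  have h2 : Coh.IsCoh ((Scheme.Modules.restrictFunctor j).obj (G.homology n)) :=
    ⟨Scheme.Modules.isQuasicoherent_restrictFunctor j (G.homology n),
      Groth.Agent.Lib.Helper23.FinType.isFiniteType_restrict j (G.homology n)⟩
  exact Groth.Agent.Lib.T2H8.PerfCoh.isCoh_of_iso
    ((pullCHomologyIso j G n).symm ≪≫
      ((DerivedCategory.homologyFunctorFactors Y.Modules n).app _).symm) h2

theorem isZero_HD_pullC {Y : Scheme.{u}} (j : Y ⟶ X) [IsOpenImmersion j]
    (G : CochainComplex X.Modules ℤ) (n : ℤ)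
    (hG : IsZero (DCoh.HD (DerivedCategory.Q.obj G) n)) :
    IsZero (DCoh.HD (DerivedCategory.Q.obj ((pullC j).obj G)) n) := by
  have h1 : IsZero (G.homology n) :=
    IsZero.of_iso hG ((DerivedCategory.homologyFunctorFactors X.Modules n).app G).symm
  have h2 : IsZero ((Scheme.Modules.restrictFunctor j).obj (G.homology n)) :=
    (Scheme.Modules.restrictFunctor j).map_isZero h1
  exact IsZero.of_iso h2
    ((DerivedCategory.homologyFunctorFactors Y.Modules n).app _ ≪≫ pullCHomologyIso j G n)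

open Groth.Agent.Lib.Helper23.FinType Groth.Agent.Lib.Helper23.QCohLocal in
/-- on a locally Noetherian scheme, the tensor product of two complexes with coherent cohomology
bounded above, the first of which is K-flat, has coherent cohomology bounded above. -/
theorem isCoh_homology_tensor [IsLocallyNoetherian X] (P F : CochainComplex X.Modules ℤ)
    (hP : DCoh.IsKFlat P)
    (hPc : DCoh.IsCohD (DerivedCategory.Q.obj P)) (a : ℤ)
    (hPa : ∀ i : ℤ, a < i → IsZero (DCoh.HD (DerivedCategory.Q.obj P) i))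
    (hFc : DCoh.IsCohD (DerivedCategory.Q.obj F)) (b : ℤ)
    (hFb : ∀ i : ℤ, b < i → IsZero (DCoh.HD (DerivedCategory.Q.obj F) i)) (n : ℤ) :
    Coh.IsCoh (((DCoh.tensorCx.obj P).obj F).homology n) ∧
      (b + a < n → IsZero (((DCoh.tensorCx.obj P).obj F).homology n)) := by
  haveI hq : (((DCoh.tensorCx.obj P).obj F).homology n).IsQuasicoherent :=
    isQCoh_homology_tensor P F hP (fun i => (hPc i).1) (fun i => (hFc i).1) n
  refine ⟨⟨hq, ?_⟩, fun hn => ?_⟩
  · refine isFiniteType_of_finite_ΓU (((DCoh.tensorCx.obj P).obj F).homology n)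
      (fun W : X.affineOpens => (W : X.Opens)) (iSup_affineOpens_eq_top X) (fun W => W.2)
      (fun W => ?_)
    haveI : IsNoetherianRing Γ(X, W.1) := IsLocallyNoetherian.component_noetherian W
    obtain ⟨K1, b1, hK1b, hK1f, hK1fl, ⟨e1⟩⟩ := exists_tilde_finite Γ(X, W.1)
      ((pullC W.2.fromSpec).obj F) (isCohD_pullC W.2.fromSpec F hFc) b
      (fun i hi => isZero_HD_pullC W.2.fromSpec F i (hFb i hi))
    obtain ⟨K2, b2, hK2b, hK2f, hK2fl, ⟨e2⟩⟩ := exists_tilde_finite Γ(X, W.1)
      ((pullC W.2.fromSpec).obj P) (isCohD_pullC W.2.fromSpec P hPc) a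
      (fun i hi => isZero_HD_pullC W.2.fromSpec P i (hPa i hi))
    obtain ⟨e⟩ := nonempty_restrict_homology_iso P F hP W.2 K1 K2
      (isKFlat_tilde_of_boundedAbove_flat _ K1 b1 hK1b hK1fl) e1 e2 n
    have hc : Coh.IsCoh (((DCoh.tensorCx.obj ((TC Γ(X, W.1)).obj K1)).obj
        ((TC Γ(X, W.1)).obj K2)).homology n) :=
      Groth.Agent.Lib.T2H8.PerfCoh.isCoh_homology _
        (fun k => isCoh_tensor_tilde_X _ K1 K2 b1 b2 hK1b hK2b hK1f hK2f k) n
    haveI := hc.1
    haveI := hc.2
    have h1 : Module.Finite Γ(Spec Γ(X, W.1), ⊤)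
        Γ(((DCoh.tensorCx.obj ((TC Γ(X, W.1)).obj K1)).obj
          ((TC Γ(X, W.1)).obj K2)).homology n, ⊤) :=
      finite_of_isFiniteType _ (isAffineOpen_top _)
    haveI h2 := (finite_Γtop_iff Γ(X, W.1) _).1 h1
    exact Module.Finite.equiv ((ΓF Γ(X, W.1)).mapIso e.symm).toLinearEquiv
  · refine Groth.Agent.Lib.Helper23.ModLocal.isZero_of_isZero_restrict
      (fun W : X.affineOpens => Spec Γ(X, W.1)) (fun W => W.2.fromSpec) (fun x => ?_)
      (fun W => ?_)
    · obtain ⟨U, hU, hxU, -⟩ := exists_isAffineOpen_mem_and_subset (x := x) (U := ⊤) trivial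
      exact ⟨⟨U, hU⟩, hU.primeIdealOf ⟨x, hxU⟩, hU.fromSpec_primeIdealOf ⟨x, hxU⟩⟩
    · obtain ⟨K1, hK1b, hK1fl, ⟨e1⟩⟩ := exists_tilde_proj Γ(X, W.1)
        ((pullC W.2.fromSpec).obj F)
        (fun i => ((isCohD_pullC W.2.fromSpec F hFc) i).1) b
        (fun i hi => isZero_HD_pullC W.2.fromSpec F i (hFb i hi))
      obtain ⟨K2, hK2b, hK2fl, ⟨e2⟩⟩ := exists_tilde_proj Γ(X, W.1)
        ((pullC W.2.fromSpec).obj P)
        (fun i => ((isCohD_pullC W.2.fromSpec P hPc) i).1) a
        (fun i hi => isZero_HD_pullC W.2.fromSpec P i (hPa i hi))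
      obtain ⟨e⟩ := nonempty_restrict_homology_iso P F hP W.2 K1 K2
        (isKFlat_tilde_of_boundedAbove_flat _ K1 b hK1b hK1fl) e1 e2 n
      exact IsZero.of_iso (Groth.Agent.Lib.Helper1.CI.isZero_homology_of_isZero_X _ n
        (isZero_tensor_tilde_X _ K1 K2 b a hK1b hK2b n hn)) e

end Global

section Main

variable (X : Scheme.{u})

/-- S6498: on a locally Noetherian scheme, the derived tensor product preserves `D^-_Coh`. -/
theorem isCohD_LTensorCx [IsLocallyNoetherian X] (E : CochainComplex X.Modules ℤ)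
    [DCoh.HasLTensorCx E] (L : DCoh.D X) (hL : DCoh.IsCohD L)
    (hLb : ∃ a : ℤ, ∀ i, a < i → IsZero (DCoh.HD L i)) (hE : DCoh.IsCohD (DCoh.toD X E))
    (hEb : ∃ b : ℤ, ∀ i, b < i → IsZero (DCoh.HD (DCoh.toD X E) i)) :
    DCoh.IsCohD ((DCoh.LTensorCx E).obj L) ∧
      ∃ n : ℤ, ∀ i, n < i → IsZero (DCoh.HD ((DCoh.LTensorCx E).obj L) i) := by
  obtain ⟨a, ha⟩ := hLb
  obtain ⟨b, hb⟩ := hEb
  let F0 := (DerivedCategory.Q (C := X.Modules)).objPreimage L
  have e0 : DerivedCategory.Q.obj F0 ≅ L := (DerivedCategory.Q (C := X.Modules)).objObjPreimageIso L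
  obtain ⟨P, q, hP, -, hq, -⟩ := exists_kflat_flat_resolution (O := X.sheaf) F0
  haveI : QuasiIso q := hq
  have hP' : DCoh.IsKFlat P := hP
  haveI : IsIso (DerivedCategory.Q.map q) := by
    rw [DerivedCategory.isIso_Q_map_iff_quasiIso]; exact hq
  have eK : L ≅ DerivedCategory.Q.obj P := e0.symm ≪≫ (asIso (DerivedCategory.Q.map q)).symm
  haveI hI1 : ModSite.HasLTensorCx (O := X.sheaf) E := (inferInstance : DCoh.HasLTensorCx E)
  have i : (DCoh.LTensorCx E).obj (DerivedCategory.Q.obj P) ≅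
      DerivedCategory.Q.obj ((DCoh.tensorCx.obj P).obj E) :=
    lTensorCxIsoOfIsKFlat (O := X.sheaf) E P hP
  have hPc : DCoh.IsCohD (DerivedCategory.Q.obj P) := fun m =>
    Groth.Agent.Lib.T2H8.PerfCoh.isCoh_of_iso
      ((DerivedCategory.homologyFunctor X.Modules m).mapIso eK) (hL m)
  have hPa : ∀ i : ℤ, a < i → IsZero (DCoh.HD (DerivedCategory.Q.obj P) i) := fun m hm =>
    IsZero.of_iso (ha m hm) ((DerivedCategory.homologyFunctor X.Modules m).mapIso eK.symm)
  have key : ∀ n : ℤ, ((DCoh.tensorCx.obj P).obj E).homology n ≅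
      DCoh.HD ((DCoh.LTensorCx E).obj L) n := fun n =>
    ((DerivedCategory.homologyFunctorFactors X.Modules n).app _).symm ≪≫
      (DerivedCategory.homologyFunctor X.Modules n).mapIso
        ((DCoh.LTensorCx E).mapIso eK ≪≫ i).symm
  refine ⟨fun n => ?_, b + a, fun n hn => ?_⟩
  · exact Groth.Agent.Lib.T2H8.PerfCoh.isCoh_of_iso (key n)
      (isCoh_homology_tensor P E hP' hPc a hPa hE b hb n).1
  · exact IsZero.of_iso ((isCoh_homology_tensor P E hP' hPc a hPa hE b hb n).2 hn) (key n).symm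

end Main

end Groth.Agent.Lib.T2H1.LTensorCoh
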