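import Mathlib
import Groth.Prelude.Def_DCoh3
import Groth.Prelude.Def_DCoh4
import Groth.Agent.Lib.T2H1RelPerfTri
import Groth.Agent.Lib.Helper1FLF2
import Groth.Agent.Lib.Helper17PCoh10
import Groth.Agent.Lib.T2H4TorRes3
set_option backward.isDefEq.respectTransparency.types false

/-!
# The derived tensor product of a perfect object with a relatively perfect one (helper1)
-/

set_option autoImplicit false
set_option linter.style.haveILetI false
universe u
open CategoryTheory CategoryTheory.Limits AlgebraicGeometry HomologicalComplex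

attribute [local instance] HasDerivedCategory.standard

namespace Groth.Agent.Lib.T2H1.PerfTensorRel

section les

variable {C : Type*} [Category C] [Abelian C]

/-- a morphism of short exact sequences of cochain complexes, the first with acyclic middle term,
the second with middle term acyclic in degrees `≥ m`, which is a quasi-isomorphism on the third
terms, is an `m`-quasi-isomorphism on the first terms -/
lemma approx_τ₁_of_acyclic_middle {S₁ S₂ : ShortComplex (CochainComplex C ℤ)} (φ : S₁ ⟶ S₂)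
    (hS₁ : S₁.ShortExact) (hS₂ : S₂.ShortExact)
    (h₁ : ∀ i, IsZero (S₁.X₂.homology i)) (m : ℤ)
    (h₂ : ∀ i, m ≤ i → IsZero (S₂.X₂.homology i)) [QuasiIso φ.τ₃] :
    (∀ j : ℤ, m < j → IsIso (homologyMap φ.τ₁ j)) ∧ Epi (homologyMap φ.τ₁ m) := by
  have hi₁ : ∀ j : ℤ, IsIso (hS₁.δ (j - 1) j (by simp)) := fun j =>
    hS₁.isIso_δ (j - 1) j (by simp) (h₁ _) (h₁ _)
  have key : ∀ j : ℤ, hS₁.δ (j - 1) j (by simp) ≫ homologyMap φ.τ₁ j =
      homologyMap φ.τ₃ (j - 1) ≫ hS₂.δ (j - 1) j (by simp) := fun j =>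
    HomologySequence.δ_naturality φ hS₁ hS₂ (j - 1) j (by simp)
  have hi₃ : ∀ j : ℤ, IsIso (homologyMap φ.τ₃ j) := fun j =>
    (quasiIsoAt_iff_isIso_homologyMap _ _).1 inferInstance
  constructor
  · intro j hj
    have hr : (ComplexShape.up ℤ).Rel (j - 1) j := by simp
    haveI := hS₂.isIso_δ (j - 1) j hr (h₂ _ (by lia)) (h₂ _ (by lia))
    haveI : IsIso (hS₁.δ (j - 1) j hr) := hi₁ j
    haveI := hi₃ (j - 1)
    haveI : IsIso (hS₁.δ (j - 1) j hr ≫ homologyMap φ.τ₁ j) := by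
      rw [key j]; infer_instance
    exact IsIso.of_isIso_comp_left (hS₁.δ (j - 1) j hr) _
  · have hr : (ComplexShape.up ℤ).Rel (m - 1) m := by simp
    haveI := hS₂.epi_δ (m - 1) m hr (h₂ _ le_rfl)
    haveI := hi₃ (m - 1)
    haveI : Epi (hS₁.δ (m - 1) m hr ≫ homologyMap φ.τ₁ m) := by
      rw [key m]; infer_instance
    exact epi_of_epi (hS₁.δ (m - 1) m hr) _

open Groth.Agent.Lib.Helper1.BKF CochainComplex in
/-- a cone functor sends a map whose cone it makes acyclic in degrees `≥ m` to an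
`m`-quasi-isomorphism -/
theorem ConeFunctor.approx_map {A B : Type*} [Category A] [Category B] [Abelian A] [Abelian B]
    {G : CochainComplex A ℤ ⥤ CochainComplex B ℤ} [G.PreservesZeroMorphisms]
    (hG : ConeFunctor G) {X Y : CochainComplex A ℤ} (f : X ⟶ Y) (m : ℤ)
    (h : ∀ i : ℤ, m ≤ i → IsZero ((G.obj (mappingCone f)).homology i)) :
    (∀ j : ℤ, m < j → IsIso (homologyMap (G.map f) j)) ∧ Epi (homologyMap (G.map f) m) := by
  let ψ := G.mapShortComplex.map (coneMap f)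
  have hτ₃ : QuasiIso ψ.τ₃ := by
    have e : ψ.τ₃ = 𝟙 (G.obj (X⟦(1 : ℤ)⟧)) := by
      show G.map (coneMap f).τ₃ = 𝟙 _
      rw [coneMap_τ₃]
      exact G.map_id _
    have h : QuasiIso (𝟙 (G.obj (X⟦(1 : ℤ)⟧))) := inferInstance
    rw [e]; exact h
  exact approx_τ₁_of_acyclic_middle ψ (hG.cone_shortExact (𝟙 X)) (hG.cone_shortExact f)
    (hG.coneId X) m h

end les

section Sheaf

open Groth.Agent.Lib.Helper1.BKF Groth.Agent.Lib.Helper21.ModTensor3
  Groth.Agent.Lib.Helper21.ModTensor5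

variable {X : Scheme.{u}}

/-- `E ⊗ Y` is exact in degrees `≥ n + d` if `E` is K-flat and zero above `d` and `Y` is exact in
degrees `≥ n` -/
theorem isZero_homology_tensor_of_bounds (E Y : CochainComplex X.Modules ℤ)
    (hE : DCoh.IsKFlat E) (d n : ℤ) (hEd : ∀ p : ℤ, d < p → IsZero (E.X p))
    (hY : ∀ i : ℤ, n ≤ i → IsZero (Y.homology i)) (i : ℤ) (hi : n + d ≤ i) :
    IsZero (((DCoh.tensorCx.obj E).obj Y).homology i) := by
  haveI : Y.IsLE (n - 1) := by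
    rw [CochainComplex.isLE_iff]
    intro j hj
    rw [exactAt_iff_isZero_homology]
    exact hY j (by lia)
  have q0 : QuasiIso (Y.ιTruncLE (n - 1)) := inferInstance
  have q : QuasiIso ((TL (ModSite.tensorBi X.sheaf) E).map (Y.ιTruncLE (n - 1))) :=
    @quasiIso_TL_map_of_isKFlat _ _ _ X.sheaf E hE _ _ (Y.ιTruncLE (n - 1)) q0
  have hz : IsZero (((DCoh.tensorCx.obj E).obj (Y.truncLE (n - 1))).X i) := by
    refine prop_mapBifunctor_X (DCoh.tensorBi (X := X)) IsZero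
      (fun I Xf c hc h => isZero_of_isColimit_cofan Xf c hc h) E (Y.truncLE (n - 1)) i
      (fun p q hpq => ?_)
    by_cases hp : d < p
    · exact ((DCoh.tensorBi (X := X)).flip.obj ((Y.truncLE (n - 1)).X q)).map_isZero (hEd p hp)
    · exact ((DCoh.tensorBi (X := X)).obj (E.X p)).map_isZero
        ((Y.truncLE (n - 1)).isZero_of_isStrictlyLE (n - 1) q (by lia))
  have hz' : IsZero (((DCoh.tensorCx.obj E).obj (Y.truncLE (n - 1))).homology i) :=
    Groth.Agent.Lib.Helper1.CI.isZero_homology_of_isZero_X _ i hz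
  haveI : IsIso (homologyMap ((TL (ModSite.tensorBi X.sheaf) E).map (Y.ιTruncLE (n - 1))) i) :=
    (quasiIsoAt_iff_isIso_homologyMap _ i).1 (q.quasiIsoAt i)
  exact IsZero.of_iso hz'
    (asIso (homologyMap ((TL (ModSite.tensorBi X.sheaf) E).map (Y.ιTruncLE (n - 1))) i)).symm

/-- tensoring an `m'`-quasi-isomorphism with a K-flat complex vanishing above `d` gives an
`(m' + d)`-quasi-isomorphism -/
theorem approx_tensor_map (E : CochainComplex X.Modules ℤ) (hE : DCoh.IsKFlat E) (d : ℤ)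
    (hEd : ∀ p : ℤ, d < p → IsZero (E.X p)) {Y₁ Y₂ : CochainComplex X.Modules ℤ} (g : Y₁ ⟶ Y₂)
    (m' : ℤ) (hg : ∀ j : ℤ, m' < j → IsIso (homologyMap g j)) (hg' : Epi (homologyMap g m')) :
    (∀ j : ℤ, m' + d < j → IsIso (homologyMap ((DCoh.tensorCx.obj E).map g) j)) ∧
      Epi (homologyMap ((DCoh.tensorCx.obj E).map g) (m' + d)) := by
  have hc : ∀ i : ℤ, m' ≤ i → IsZero ((CochainComplex.mappingCone g).homology i) := fun i hi =>
    Groth.Agent.Lib.Helper17.PCoh10.isZero_homology_mappingCone g m' ⟨hg, hg'⟩ i hi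
  exact ConeFunctor.approx_map (coneFunctor_TL_site X.sheaf E) g (m' + d)
    (fun i hi => isZero_homology_tensor_of_bounds E _ hE d m' hEd hc i hi)

/-- the class of `A ⊗ B` in the derived category only depends on the class of the K-flat
complex `A` (among K-flat complexes) -/
theorem nonempty_Q_tensor_iso_left (A A' B : CochainComplex X.Modules ℤ)
    (hA : DCoh.IsKFlat A) (hA' : DCoh.IsKFlat A')
    (eA : DerivedCategory.Q.obj A ≅ DerivedCategory.Q.obj A') :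
    Nonempty (DerivedCategory.Q.obj ((DCoh.tensorCx.obj A).obj B) ≅
      DerivedCategory.Q.obj ((DCoh.tensorCx.obj A').obj B)) := by
  obtain ⟨B', q, hB', -, hq, -⟩ := exists_kflat_flat_resolution X.sheaf B
  have q1 : QuasiIso ((TL (ModSite.tensorBi X.sheaf) A).map q) :=
    @quasiIso_TL_map_of_isKFlat _ _ _ X.sheaf A hA _ _ q hq
  have q2 : QuasiIso ((TL (ModSite.tensorBi X.sheaf) A').map q) :=
    @quasiIso_TL_map_of_isKFlat _ _ _ X.sheaf A' hA' _ _ q hq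
  haveI i1 : IsIso (DerivedCategory.Q.map ((TL (ModSite.tensorBi X.sheaf) A).map q)) := by
    rw [DerivedCategory.isIso_Q_map_iff_quasiIso]; exact q1
  haveI i2 : IsIso (DerivedCategory.Q.map ((TL (ModSite.tensorBi X.sheaf) A').map q)) := by
    rw [DerivedCategory.isIso_Q_map_iff_quasiIso]; exact q2
  obtain ⟨c⟩ := Groth.Agent.Lib.Helper1.FLF.nonempty_Q_tensor_iso (O := X.sheaf) A A' B' B' hB' hA'
    eA (Iso.refl _)
  exact ⟨(@asIso _ _ _ _ _ i1).symm ≪≫ c ≪≫ @asIso _ _ _ _ _ i2⟩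

open Groth.Agent.Lib.Helper1.KBC Groth.Agent.Lib.Helper1.Sky Groth.Agent.Lib.Helper1.PT
  Groth.Agent.Lib.Helper1.FLF in
/-- local structure of `K ⊗^L M` for perfect `K`: locally it is `E ⊗ M` with `E` strictly
perfect -/
theorem exists_local_tensor_iso (K : DCoh.D X) (hK : DCoh.IsPerfect K)
    (M : CochainComplex X.Modules ℤ) [DCoh.HasLTensorCx M] (x : X) :
    ∃ (V1 : X.Opens) (c d : ℤ), x ∈ V1 ∧ ∀ V : X.Opens, V ≤ V1 →
      ∃ E1 : CochainComplex (V : Scheme.{u}).Modules ℤ, DCoh.IsStrictlyPerfect E1 ∧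
        DCoh.VanishesOutside E1 c d ∧
        ∀ F : CochainComplex X.Modules ℤ, Nonempty (DCoh.toD X F ≅ (DCoh.LTensorCx M).obj K) →
          Nonempty (DerivedCategory.Q.obj ((DCoh.restrictCx V).obj F) ≅
            DerivedCategory.Q.obj ((DCoh.tensorCx.obj E1).obj ((pullC V.ι).obj M))) := by
  let F0 := (DerivedCategory.Q (C := X.Modules)).objPreimage K
  have e0 : DerivedCategory.Q.obj F0 ≅ K := (DerivedCategory.Q (C := X.Modules)).objObjPreimageIso K
  obtain ⟨P, q, hP, -, hq, -⟩ := exists_kflat_flat_resolution (O := X.sheaf) F0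
  haveI : QuasiIso q := hq
  have hP' : DCoh.IsKFlat P := hP
  haveI : IsIso (DerivedCategory.Q.map q) := by
    rw [DerivedCategory.isIso_Q_map_iff_quasiIso]; exact hq
  have eK : K ≅ DerivedCategory.Q.obj P := e0.symm ≪≫ (asIso (DerivedCategory.Q.map q)).symm
  obtain ⟨V1, hx1, h1⟩ := hK x
  obtain ⟨E1, hE1, ⟨i1⟩⟩ := h1 P ⟨eK.symm⟩
  obtain ⟨⟨c, d, hcd⟩, -⟩ := id hE1
  refine ⟨V1, c, d, hx1, fun V hV1 => ?_⟩
  obtain ⟨a⟩ := nonempty_restrict_iso P hV1 E1 (kffs_of_isStrictlyPerfect E1 hE1).1 i1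
  have hE1' := isStrictlyPerfect_pullC (X.homOfLE hV1) E1 hE1
  refine ⟨(pullC (X.homOfLE hV1)).obj E1, hE1',
    fun i hi => (Scheme.Modules.pullback (X.homOfLE hV1)).map_isZero (hcd i hi), fun F ⟨eF⟩ => ?_⟩
  haveI hI1 : ModSite.HasLTensorCx (O := X.sheaf) M := (inferInstance : DCoh.HasLTensorCx M)
  have i : (DCoh.LTensorCx M).obj (DerivedCategory.Q.obj P) ≅
      DerivedCategory.Q.obj ((DCoh.tensorCx.obj P).obj M) :=
    lTensorCxIsoOfIsKFlat (O := X.sheaf) M P hP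
  have eF' : DerivedCategory.Q.obj F ≅ DerivedCategory.Q.obj ((DCoh.tensorCx.obj P).obj M) :=
    eF ≪≫ (DCoh.LTensorCx M).mapIso eK ≪≫ i
  haveI : DCoh.HasLpull V.ι := hasLpull _
  have r1 : DerivedCategory.Q.obj ((DCoh.restrictCx V).obj F) ≅
      DerivedCategory.Q.obj ((DCoh.restrictCx V).obj ((DCoh.tensorCx.obj P).obj M)) :=
    (lpullOpenIso V F).symm ≪≫ (DCoh.Lpull V.ι).mapIso eF' ≪≫ lpullOpenIso V _
  obtain ⟨t⟩ := nonempty_pullTotIso V.ι P M
  have hfP : DCoh.IsKFlat ((pullC V.ι).obj P) := Groth.Agent.S0960.isKFlat_pullC V.ι P hP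
  obtain ⟨c'⟩ := nonempty_Q_tensor_iso_left ((pullC V.ι).obj P)
    ((pullC (X.homOfLE hV1)).obj E1) ((pullC V.ι).obj M) hfP
    (kffs_of_isStrictlyPerfect _ hE1').1 a
  exact ⟨r1 ≪≫ DerivedCategory.Q.mapIso ((restrictCxIso V).app _) ≪≫
    DerivedCategory.Q.mapIso t ≪≫ c'⟩

end Sheaf

section Main

open Groth.Agent.Lib.T2H8.PCohTriangle Groth.Agent.Lib.T2H8.PCohBiprod
  Groth.Agent.Lib.T2H8.PerfLocal Groth.Agent.Lib.Helper1.KBC Groth.Agent.Lib.Helper1.Sky
  Groth.Agent.Lib.Helper1.FLF Groth.Agent.Lib.Helper1.BKF DerivedCategory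

variable {X S : Scheme.{u}}

/-- perfect `⊗^L` pseudo-coherent is pseudo-coherent -/
theorem isPseudoCoherentD_LTensorCx (K : DCoh.D X) (hK : DCoh.IsPerfect K)
    (M : CochainComplex X.Modules ℤ)
    (hMpc : ∀ m : ℤ, DCoh.IsPseudoCoherentD m (DCoh.toD X M)) [DCoh.HasLTensorCx M] (m : ℤ) :
    DCoh.IsPseudoCoherentD m ((DCoh.LTensorCx M).obj K) := by
  rw [isPseudoCoherentD_iff]
  intro x
  obtain ⟨V1, c, d, hx1, H1⟩ := exists_local_tensor_iso K hK M x
  obtain ⟨U2, j2, hj2, x2, hx2, P2⟩ := (isPseudoCoherentD_iff (m - d) _).1 (hMpc (m - d)) x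
  let V : X.Opens := V1 ⊓ j2.opensRange
  have hxV : x ∈ V := ⟨hx1, ⟨x2, hx2⟩⟩
  obtain ⟨E2, α, hE2, hα⟩ := P2.of_le_range V (fun y hy => hy.2)
  obtain ⟨E1, hE1, hE1cd, H⟩ := H1 V inf_le_left
  have hE1K : DCoh.IsKFlat E1 := (kffs_of_isStrictlyPerfect E1 hE1).1
  have eN : (rD V.ι).obj (DCoh.toD X M) ≅ Q.obj ((pullC V.ι).obj M) :=
    (Scheme.Modules.restrictFunctor V.ι).mapDerivedCategoryFactors.app M ≪≫
      Q.mapIso ((restrictCxIso V).app M)
  obtain ⟨Y', g, s, hs, hfac⟩ := DerivedCategory.left_fac (α ≫ eN.hom)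
  have hsq : QuasiIso s := (DerivedCategory.isIso_Q_map_iff_quasiIso (φ := s)).1 hs
  have hg : IsApprox (m - d) (Q.map g) := by
    have h1 : Q.map g = (α ≫ eN.hom) ≫ Q.map s := by
      rw [hfac, Category.assoc, IsIso.inv_hom_id, Category.comp_id]
    rw [h1]
    exact (hα.comp (isApprox_of_isIso _ _)).comp (isApprox_of_isIso _ _)
  rw [isApprox_Q_map_iff] at hg
  have hg2 := approx_tensor_map E1 hE1K d (fun p hp => hE1cd p (Or.inr hp)) g (m - d) hg.1 hg.2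
  rw [show m - d + d = m by lia] at hg2
  have hg3 : IsApprox m (Q.map ((DCoh.tensorCx.obj E1).map g)) :=
    (isApprox_Q_map_iff m _).2 hg2
  have qs : QuasiIso ((TL (ModSite.tensorBi (V : Scheme.{u}).sheaf) E1).map s) :=
    @quasiIso_TL_map_of_isKFlat _ _ _ (V : Scheme.{u}).sheaf E1 hE1K _ _ s hsq
  haveI is : IsIso (Q.map ((TL (ModSite.tensorBi (V : Scheme.{u}).sheaf) E1).map s)) := by
    rw [DerivedCategory.isIso_Q_map_iff_quasiIso]; exact qs
  let F0 := (Q (C := X.Modules)).objPreimage ((DCoh.LTensorCx M).obj K)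
  have eF0 : Q.obj F0 ≅ (DCoh.LTensorCx M).obj K :=
    (Q (C := X.Modules)).objObjPreimageIso _
  obtain ⟨eH⟩ := H F0 ⟨eF0⟩
  have eR : (rD V.ι).obj ((DCoh.LTensorCx M).obj K) ≅
      Q.obj ((DCoh.tensorCx.obj E1).obj ((pullC V.ι).obj M)) :=
    (rD V.ι).mapIso eF0.symm ≪≫
      (Scheme.Modules.restrictFunctor V.ι).mapDerivedCategoryFactors.app F0 ≪≫ eH
  refine ⟨↑V, V.ι, inferInstance, ⟨x, hxV⟩, rfl, (DCoh.tensorCx.obj E1).obj E2,
    Q.map ((DCoh.tensorCx.obj E1).map g) ≫ (@asIso _ _ _ _ _ is).inv ≫ eR.inv,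
    isStrictlyPerfect_tensorCx E1 E2 hE1 hE2, ?_⟩
  exact hg3.comp ((isApprox_of_isIso _ _).comp (isApprox_of_isIso _ _))

end Main

section RingT

open Groth.Agent.Lib.Helper1.BKF Groth.Agent.Lib.Helper1.KBC Groth.Agent.Lib.Helper1.KF
  Groth.Agent.Lib.Helper1.Tor Groth.Agent.Lib.Helper1.DT DTen DerivedCategory
  Groth.Agent.Lib.Helper1.TorO Groth.Agent.Lib.Helper1.TorL Groth.Agent.Lib.T2H4.TorRes
  MonoidalCategory

variable {A B : Type u} [CommRing A] [CommRing B] (φ : A →+* B)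

/-- tensoring with a flat complex in `[a, b]` shifts the tor amplitude over the base by
`[a, b]` -/
theorem hasTorAmp_res_tensor (E L : Cx B) (a b c d : ℤ) (hE : DRing.VanishesOutside E a b)
    (hEf : DRing.TermwiseFlat E)
    (hL : DRing.HasTorAmplitudeIn A c d (Q.obj ((resCx φ).obj L))) :
    DRing.HasTorAmplitudeIn A (a + c) (b + d) (Q.obj ((resCx φ).obj (E ⊗ L : Cx B))) := by
  apply hasTorAmp_of_mix'
  intro M
  obtain ⟨F, π, hF, hπ⟩ := exists_kflat_resolution M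
  refine ⟨F, π, hF, hπ, fun i hi => ?_⟩
  rw [exactAt_iff_of_iso (α_ E L ((extCx φ).obj F))]
  exact exactAt_tensor_of_bounds E (L ⊗ (extCx φ).obj F) a b c d hE hEf
    (fun j hj => mix_of_hasTorAmp' φ L c d hL M F hF π j hj) i hi

end RingT

section Tor

open Groth.Agent.Lib.Helper1.KBC Groth.Agent.Lib.Helper1.Sky
  Groth.Agent.Lib.Helper1.FLF Groth.Agent.Lib.Helper1.BKF DerivedCategory
  Groth.Agent.Lib.T2H1.RelFlatAmp Groth.Agent.Lib.T2H1.RelPerfTri
  Groth.Agent.Lib.T2H1.StalkTorAmp Groth.Agent.Lib.T2H1.RelPerfTilde DTen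

variable {U X S : Scheme.{u}}

/-- tensoring with a strictly perfect complex in `[c, d]` shifts the stalkwise tor amplitude
relative to the base by `[c, d]` -/
theorem hasTorAmplitudeAt_tensor (g : U ⟶ S) (E1 N : CochainComplex U.Modules ℤ)
    (hE1 : DCoh.IsStrictlyPerfect E1) (c d : ℤ) (hcd : DCoh.VanishesOutside E1 c d)
    (a b : ℤ) (y : U) (hN : DerSch.HasTorAmplitudeAt g a b N y) :
    DerSch.HasTorAmplitudeAt g (c + a) (d + b) ((DCoh.tensorCx.obj E1).obj N) y := by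
  obtain ⟨t⟩ := nonempty_stalkTotIso y E1 N
  have h1 : DRing.HasTorAmplitudeIn (S.presheaf.stalk (g.base y)) a b
      (Q.obj ((resCx (g.stalkMap y).hom).obj ((stalkC y).obj N))) :=
    Groth.Agent.Lib.Helper1.Tor.hasTorAmp_of_iso (Q.mapIso (stalkCxOverIso g y N)) hN
  have hfl : DRing.TermwiseFlat ((stalkC y).obj E1) := fun n =>
    Groth.Agent.Lib.Helper1.StalkTensor.isFlat_of_modSite_isFlat _
      ((kffs_of_isStrictlyPerfect E1 hE1).2 n) y
  have h2 := hasTorAmp_res_tensor (g.stalkMap y).hom ((stalkC y).obj E1) ((stalkC y).obj N)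
    c d a b (fun i hi => (stalkFun y).map_isZero (hcd i hi)) hfl h1
  exact Groth.Agent.Lib.Helper1.Tor.hasTorAmp_of_iso
    (Q.mapIso ((stalkCxOverIso g y _) ≪≫ (resCx (g.stalkMap y).hom).mapIso t).symm) h2

/-- the stalkwise tor amplitude of `K ⊗^L M` for perfect `K` -/
theorem locTA_LTensorCx (f : X ⟶ S) (K : DCoh.D X) (hK : DCoh.IsPerfect K)
    (M : CochainComplex X.Modules ℤ) [DCoh.HasLTensorCx M] (hM : LocTA f (DCoh.toD X M)) :
    LocTA f ((DCoh.LTensorCx M).obj K) := by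
  intro x
  obtain ⟨V1, c, d, hx1, H1⟩ := exists_local_tensor_iso K hK M x
  obtain ⟨V3, a, b, hxV3, H3⟩ := hM x
  refine ⟨V1 ⊓ V3, c + a, d + b, ⟨hx1, hxV3⟩, fun y hy => ?_⟩
  obtain ⟨E1, hE1, hE1cd, H⟩ := H1 (V1 ⊓ V3) inf_le_left
  let F0 := (Q (C := X.Modules)).objPreimage ((DCoh.LTensorCx M).obj K)
  have eF0 : Q.obj F0 ≅ (DCoh.LTensorCx M).obj K :=
    (Q (C := X.Modules)).objObjPreimageIso _
  obtain ⟨eH⟩ := H F0 ⟨eF0⟩
  refine TAat.of_iso f eF0 ((tAat_toD_iff f _ _ F0 y).2 ?_)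
  refine hasTorAmplitudeAt_of_restrict f (V1 ⊓ V3).ι F0 _ _ ⟨y, hy⟩ ?_
  obtain ⟨e'⟩ := nonempty_toD_stalkCxOver_iso ((V1 ⊓ V3).ι ≫ f) ⟨y, hy⟩ eH
  refine Groth.Agent.Lib.Helper1.Tor.hasTorAmp_of_iso e'.symm ?_
  apply hasTorAmplitudeAt_tensor ((V1 ⊓ V3).ι ≫ f) E1 _ hE1 c d hE1cd a b ⟨y, hy⟩
  have h3 := hasTorAmplitudeAt_restrict f (V1 ⊓ V3).ι M a b ⟨y, hy⟩
    ((tAat_toD_iff f a b M y).1 (H3 y hy.2))
  obtain ⟨e''⟩ := nonempty_toD_stalkCxOver_iso ((V1 ⊓ V3).ι ≫ f) ⟨y, hy⟩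
    (Q.mapIso ((restrictCxIso (V1 ⊓ V3)).app M))
  exact Groth.Agent.Lib.Helper1.Tor.hasTorAmp_of_iso e'' h3

/-- S7249 -/
theorem relPerfect_LTensorCx (f : X ⟶ S) [Flat f] (K : DCoh.D X) (hK : DCoh.IsPerfect K)
    (M : CochainComplex X.Modules ℤ)
    (hMpc : ∀ m : ℤ, DCoh.IsPseudoCoherentD m (DCoh.toD X M))
    (hMtor : DCoh.LocHasFiniteRelTorDim f (DCoh.toD X M)) [DCoh.HasLTensorCx M] :
    (∀ m : ℤ, DCoh.IsPseudoCoherentD m ((DCoh.LTensorCx M).obj K)) ∧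
      DCoh.LocHasFiniteRelTorDim f ((DCoh.LTensorCx M).obj K) :=
  ⟨fun m => isPseudoCoherentD_LTensorCx K hK M hMpc m,
    (locHasFiniteRelTorDim_iff f _).2
      (locTA_LTensorCx f K hK M ((locHasFiniteRelTorDim_iff f _).1 hMtor))⟩

end Tor

end Groth.Agent.Lib.T2H1.PerfTensorRel
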