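import Groth.Agent.Lib.T2H1RestrictPush
import Groth.Agent.Lib.Helper17AdjWay1
import Groth.Agent.Lib.Helper23Support
import Groth.Agent.S1032

/-!
# Existence of `Rf_*`, zero objects, and supports of `H^i(Rf_* E)` (helper1)
-/

set_option autoImplicit false
universe w w₁ w₂ v v' u u'
open CategoryTheory CategoryTheory.Limits AlgebraicGeometry ZeroObject

attribute [local instance] HasDerivedCategory.standard

namespace Groth.Agent.Lib.T2H1.RpushSupport

open Groth.Agent.Lib.Helper17.KInj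

section General

variable {A : Type u} [Category.{v} A] [Abelian A] [IsGrothendieckAbelian.{w} A]

/-- K-injective resolutions in a Grothendieck abelian category. -/
theorem exists_kInjective_resolution (K : CochainComplex A ℤ) :
    ∃ (I : CochainComplex A ℤ) (f : K ⟶ I), I.IsKInjective ∧ QuasiIso f :=
  ⟨(fibRepl₀.{w} A).obj K, (fibReplι₀.{w} A).app K, (fibrant_fibRepl₀ A K).isKInjective,
    (trivCof_fibReplι₀ A K).2⟩

variable [HasDerivedCategory.{w₁} A]

/-- an object of the derived category with vanishing cohomology is zero. -/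
theorem isZero_of_forall_isZero_homology (K : DerivedCategory A)
    (h : ∀ i : ℤ, IsZero ((DerivedCategory.homologyFunctor A i).obj K)) : IsZero K := by
  haveI : K.IsLE 0 := (DerivedCategory.isLE_iff K 0).2 (fun i _ => h i)
  haveI : K.IsGE 1 := (DerivedCategory.isGE_iff K 1).2 (fun i _ => h i)
  exact DerivedCategory.TStructure.t.isZero K 0 1 (by simp)

end General

open Scheme.Modules

/-- `Rf_*` exists for every morphism of schemes. -/
theorem hasRpush {X Y : Scheme.{u}} (g : X ⟶ Y) : DCoh.HasRpush g :=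
  (Groth.Agent.S1032.result (A := X.Modules) (exists_kInjective_resolution.{u})
    (DCoh.pushKh g)).1

section ZeroObj

variable {A : Type u} [Category.{v} A] [Abelian A] {B : Type u'} [Category.{v'} B] [Abelian B]
  [IsGrothendieckAbelian.{w} B] [HasDerivedCategory.{w₁} A] [HasDerivedCategory.{w₂} B]
  (G : B ⥤ A) [G.Additive]
  (RG : DerivedCategory B ⥤ DerivedCategory A)
  (βK : G.mapHomotopyCategory (ComplexShape.up ℤ) ⋙ DerivedCategory.Qh ⟶
    DerivedCategory.Qh ⋙ RG)
  [RG.IsRightDerivedFunctor βK (HomotopyCategory.quasiIso B (ComplexShape.up ℤ))]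

instance isKInjective_zero : (0 : CochainComplex B ℤ).IsKInjective :=
  ⟨fun _ _ => ⟨Homotopy.ofEq ((isZero_zero _).eq_of_tgt _ _)⟩⟩

include βK in
/-- a total right derived functor of an additive functor preserves zero objects. -/
theorem isZero_obj_of_isZero (K : DerivedCategory B) (hK : IsZero K) : IsZero (RG.obj K) := by
  haveI := Groth.Agent.Lib.T2H1.KhUnit.isIso_app_quotient_of_isKInjective.{w} G RG βK
    (0 : CochainComplex B ℤ)
  have hq : IsZero ((HomotopyCategory.quotient B (ComplexShape.up ℤ)).obj 0) :=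
    Functor.map_isZero _ (isZero_zero _)
  have hz : IsZero ((G.mapHomotopyCategory (ComplexShape.up ℤ) ⋙ DerivedCategory.Qh).obj
      ((HomotopyCategory.quotient B (ComplexShape.up ℤ)).obj 0)) :=
    Functor.map_isZero _ hq
  have hz' : IsZero (RG.obj (DerivedCategory.Qh.obj
      ((HomotopyCategory.quotient B (ComplexShape.up ℤ)).obj 0))) :=
    hz.of_iso (asIso (βK.app ((HomotopyCategory.quotient B (ComplexShape.up ℤ)).obj 0))).symm
  exact hz'.of_iso (RG.mapIso (hK.iso (Functor.map_isZero _ hq)))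

end ZeroObj

section Support

variable {X Y : Scheme.{u}} (f : X ⟶ Y)

theorem isZero_restrict_of_disjoint_support (M : X.Modules) (U : X.Opens)
    (h : ∀ x ∈ U, x ∉ CohB1.support M) : IsZero ((restrictFunctor U.ι).obj M) := by
  refine Groth.Agent.Lib.Helper23.ModLocal.isZero_of_forall_eq_zero (fun W s => ?_)
  exact Groth.Agent.Lib.Helper23.Support.eq_zero_of_disjoint_support M (U.ι ''ᵁ W)
    (fun x hx => h x (U.ι_image_le W hx)) s

theorem not_mem_support_of_isZero_restrict (M : X.Modules) (U : X.Opens)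
    (h : IsZero ((restrictFunctor U.ι).obj M)) (x : X) (hx : x ∈ U) : x ∉ CohB1.support M := by
  simp only [CohB1.support, Set.mem_ofPred_eq, not_not]
  refine Groth.Agent.Lib.Helper23.Support.subsingleton_stalk_of_forall_res_eq_zero M x
    (fun W hxW s => ?_)
  refine ⟨U.ι ''ᵁ (U.ι ⁻¹ᵁ W), ?_, ?_, ?_⟩
  · rw [Scheme.Hom.image_preimage_eq_opensRange_inf]
    exact inf_le_right
  · rw [Scheme.Hom.image_preimage_eq_opensRange_inf, Scheme.Opens.opensRange_ι]
    exact ⟨hx, hxW⟩
  · exact Groth.Agent.Lib.Helper23.ModLocal.eq_zero_of_isZero h (U.ι ⁻¹ᵁ W) _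

/-- `H^i(Rf_* E)` vanishes at the points of an open `V` as soon as the cohomology sheaves of `E`
vanish on `f⁻¹ V`. -/
theorem not_mem_support_HD_Rpush [DCoh.HasRpush f] (V : Y.Opens) (E : DCoh.D X)
    (hE : ∀ (i : ℤ) (x : X), x ∈ f ⁻¹ᵁ V → x ∉ CohB1.support (DCoh.HD E i)) (i : ℤ) (y : Y)
    (hy : y ∈ V) : y ∉ CohB1.support (DCoh.HD ((DCoh.Rpush f).obj E) i) := by
  haveI := hasRpush (f ∣_ V)
  obtain ⟨e⟩ := Groth.Agent.Lib.T2H1.RestrictPush.nonempty_restrictD_Rpush_iso f V
  have h1 : IsZero ((DCoh.restrictD (f ⁻¹ᵁ V).ι).obj E) := by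
    refine isZero_of_forall_isZero_homology _ (fun j => ?_)
    refine IsZero.of_iso (isZero_restrict_of_disjoint_support (DCoh.HD E j) (f ⁻¹ᵁ V)
      (fun x hx => hE j x hx))
      (Groth.Agent.Lib.Helper17.AdjWay.homologyIso (restrictFunctor (f ⁻¹ᵁ V).ι) E j)
  obtain ⟨β₂, hβ₂⟩ : ∃ β : (pushforward (f ∣_ V)).mapHomotopyCategory (ComplexShape.up ℤ) ⋙
      DerivedCategory.Qh ⟶ DerivedCategory.Qh ⋙ DCoh.Rpush (f ∣_ V), β =
      ((DCoh.pushKh (f ∣_ V)).totalRightDerivedUnit DerivedCategory.Qh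
        (HomotopyCategory.quasiIso (f ⁻¹ᵁ V).toScheme.Modules (ComplexShape.up ℤ))) := ⟨_, rfl⟩
  have h₂ : (DCoh.Rpush (f ∣_ V)).IsRightDerivedFunctor β₂
      (HomotopyCategory.quasiIso (f ⁻¹ᵁ V).toScheme.Modules (ComplexShape.up ℤ)) := by
    rw [hβ₂]
    infer_instance
  have h2 : IsZero ((DCoh.Rpush (f ∣_ V)).obj ((DCoh.restrictD (f ⁻¹ᵁ V).ι).obj E)) :=
    isZero_obj_of_isZero.{u} (pushforward (f ∣_ V)) (DCoh.Rpush (f ∣_ V)) β₂ _ h1
  have h3 : IsZero ((DCoh.restrictD V.ι).obj ((DCoh.Rpush f).obj E)) := h2.of_iso (e.app E)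
  have h4 : IsZero ((restrictFunctor V.ι).obj (DCoh.HD ((DCoh.Rpush f).obj E) i)) :=
    IsZero.of_iso (Functor.map_isZero _ h3)
      (Groth.Agent.Lib.Helper17.AdjWay.homologyIso (restrictFunctor V.ι)
        ((DCoh.Rpush f).obj E) i).symm
  exact not_mem_support_of_isZero_restrict _ V h4 y hy

end Support

end Groth.Agent.Lib.T2H1.RpushSupport
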