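import Mathlib
import Groth.Prelude.Def_DCoh4
import Groth.Prelude.Def_DDual2
import Groth.Prelude.Def_ClSub2
import Groth.Agent.Lib.T2H1PerfTensorRel
import Groth.Agent.Lib.T2H1LTensorCoh
import Groth.Agent.Lib.T2H1RpushSupport
set_option backward.isDefEq.respectTransparency.types false

/-!
# Cohomological bounds and supports for `K ⊗^L M` with `K` perfect (helper1)
-/

set_option autoImplicit false
set_option linter.style.haveILetI false
universe u
open CategoryTheory CategoryTheory.Limits AlgebraicGeometry HomologicalComplex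

attribute [local instance] HasDerivedCategory.standard

namespace Groth.Agent.Lib.T2H1.FMCoh

section Sheaf

open Groth.Agent.Lib.Helper1.BKF Groth.Agent.Lib.Helper21.ModTensor3
  Groth.Agent.Lib.Helper21.ModTensor5

variable {X : Scheme.{u}}

/-- `E ⊗ Y` is exact in degrees `< n + c` if `E` is K-flat and zero below `c` and `Y` is exact in
degrees `< n` -/
theorem isZero_homology_tensor_of_lower_bounds (E Y : CochainComplex X.Modules ℤ)
    (hE : DCoh.IsKFlat E) (c n : ℤ) (hEc : ∀ p : ℤ, p < c → IsZero (E.X p))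
    (hY : ∀ i : ℤ, i < n → IsZero (Y.homology i)) (i : ℤ) (hi : i < n + c) :
    IsZero (((DCoh.tensorCx.obj E).obj Y).homology i) := by
  haveI : Y.IsGE n := by
    rw [CochainComplex.isGE_iff]
    intro j hj
    rw [exactAt_iff_isZero_homology]
    exact hY j hj
  have q0 : QuasiIso (Y.πTruncGE n) := inferInstance
  have q : QuasiIso ((TL (ModSite.tensorBi X.sheaf) E).map (Y.πTruncGE n)) :=
    @quasiIso_TL_map_of_isKFlat _ _ _ X.sheaf E hE _ _ (Y.πTruncGE n) q0
  have hz : IsZero (((DCoh.tensorCx.obj E).obj (Y.truncGE n)).X i) := by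
    refine prop_mapBifunctor_X (DCoh.tensorBi (X := X)) IsZero
      (fun I Xf c hc h => isZero_of_isColimit_cofan Xf c hc h) E (Y.truncGE n) i
      (fun p q hpq => ?_)
    by_cases hp : p < c
    · exact ((DCoh.tensorBi (X := X)).flip.obj ((Y.truncGE n).X q)).map_isZero (hEc p hp)
    · exact ((DCoh.tensorBi (X := X)).obj (E.X p)).map_isZero
        ((Y.truncGE n).isZero_of_isStrictlyGE n q (by lia))
  have hz' : IsZero (((DCoh.tensorCx.obj E).obj (Y.truncGE n)).homology i) :=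
    Groth.Agent.Lib.Helper1.CI.isZero_homology_of_isZero_X _ i hz
  haveI : IsIso (homologyMap ((TL (ModSite.tensorBi X.sheaf) E).map (Y.πTruncGE n)) i) :=
    (quasiIsoAt_iff_isIso_homologyMap _ i).1 (q.quasiIsoAt i)
  have e := asIso (homologyMap ((TL (ModSite.tensorBi X.sheaf) E).map (Y.πTruncGE n)) i)
  exact IsZero.of_iso hz' e

end Sheaf

section Local

open Groth.Agent.Lib.T2H1.PerfTensorRel Groth.Agent.Lib.T2H1.LTensorQCoh
  Groth.Agent.Lib.T2H8.PCohQCoh Groth.Agent.Lib.Helper1.KBC Groth.Agent.Lib.Helper1.Sky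
  Groth.Agent.Lib.Helper1.FLF Groth.Agent.Lib.Helper1.BKF DerivedCategory

variable {X : Scheme.{u}}

/-- local lower bounds for the cohomology sheaves of `K ⊗^L M` with `K` perfect -/
theorem exists_nhd_isZero_restrict_HD (K : DCoh.D X) (hK : DCoh.IsPerfect K)
    (M : CochainComplex X.Modules ℤ) [DCoh.HasLTensorCx M] (x : X) :
    ∃ (V1 : X.Opens) (c : ℤ), x ∈ V1 ∧ ∀ V : X.Opens, V ≤ V1 → ∀ n : ℤ,
      (∀ i : ℤ, i < n → IsZero ((Scheme.Modules.restrictFunctor V.ι).obj (M.homology i))) →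
      ∀ i : ℤ, i < n + c →
        IsZero ((Scheme.Modules.restrictFunctor V.ι).obj
          (DCoh.HD ((DCoh.LTensorCx M).obj K) i)) := by
  obtain ⟨V1, c, d, hx1, H1⟩ := exists_local_tensor_iso K hK M x
  refine ⟨V1, c, hx1, fun V hV n hM i hi => ?_⟩
  obtain ⟨E1, hE1, hE1cd, H⟩ := H1 V hV
  have hE1K : DCoh.IsKFlat E1 := (kffs_of_isStrictlyPerfect E1 hE1).1
  let F0 := (Q (C := X.Modules)).objPreimage ((DCoh.LTensorCx M).obj K)
  have eF0 : Q.obj F0 ≅ (DCoh.LTensorCx M).obj K :=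
    (Q (C := X.Modules)).objObjPreimageIso _
  obtain ⟨eH⟩ := H F0 ⟨eF0⟩
  have hY : ∀ j : ℤ, j < n → IsZero (((pullC V.ι).obj M).homology j) := fun j hj =>
    IsZero.of_iso (hM j hj) (pullCHomologyIso V.ι M j)
  have hz := isZero_homology_tensor_of_lower_bounds E1 ((pullC V.ι).obj M) hE1K c n
    (fun p hp => hE1cd p (Or.inl hp)) hY i hi
  refine IsZero.of_iso hz ?_
  exact (Scheme.Modules.restrictFunctor V.ι).mapIso
      ((homologyFunctor X.Modules i).mapIso eF0.symm) ≪≫ (restrictHDIso V F0 i).symm ≪≫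
    (homologyFunctor _ i).mapIso eH ≪≫ (homologyFunctorFactors _ i).app _

end Local

section Global

open Groth.Agent.Lib.T2H1.RpushSupport Groth.Agent.Lib.Helper23.ModLocal DerivedCategory

variable {X : Scheme.{u}}

/-- on a quasi-compact scheme, `K ⊗^L M` is bounded below for `K` perfect and `M` bounded below -/
theorem exists_isGE_LTensorCx [CompactSpace X] (K : DCoh.D X) (hK : DCoh.IsPerfect K)
    (M : CochainComplex X.Modules ℤ) [DCoh.HasLTensorCx M] (n : ℤ)
    (hM : ∀ i : ℤ, i < n → IsZero (DCoh.HD (DCoh.toD X M) i)) :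
    ∃ a : ℤ, ((DCoh.LTensorCx M).obj K).IsGE a := by
  choose V1 c hx H using exists_nhd_isZero_restrict_HD K hK M
  obtain ⟨t, ht⟩ := isCompact_univ.elim_nhds_subcover (fun z => (V1 z : Set X))
    (fun z _ => (V1 z).isOpen.mem_nhds (hx z))
  let c₀ : ℤ := -(∑ z ∈ t, |c z|)
  have hc₀ : ∀ z ∈ t, c₀ ≤ c z := fun z hz => by
    have h1 : |c z| ≤ ∑ z ∈ t, |c z| :=
      Finset.single_le_sum (f := fun z => |c z|) (fun i _ => abs_nonneg _) hz
    have h2 := neg_abs_le (c z)
    show -(∑ z ∈ t, |c z|) ≤ c z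
    lia
  refine ⟨n + c₀, ?_⟩
  rw [DerivedCategory.isGE_iff]
  intro i hi
  refine isZero_of_isZero_restrict (fun z : t => ((V1 z.1 : X.Opens) : Scheme.{u}))
    (fun z => (V1 z.1).ι) (fun x => ?_) (fun z => ?_)
  · have h1 := ht.2 (Set.mem_univ x)
    simp only [Set.mem_iUnion] at h1
    obtain ⟨z, hz, hxz⟩ := h1
    exact ⟨⟨z, hz⟩, ⟨x, hxz⟩, rfl⟩
  · refine H z.1 (V1 z.1) le_rfl n (fun j hj => ?_) i (by have := hc₀ z.1 z.2; lia)
    exact (Scheme.Modules.restrictFunctor _).map_isZero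
      (IsZero.of_iso (hM j hj) ((homologyFunctorFactors X.Modules j).app M).symm)

/-- the cohomology sheaves of `K ⊗^L M`, for `K` perfect, are supported on any closed set
supporting the cohomology sheaves of `M` -/
theorem support_HD_LTensorCx_subset (K : DCoh.D X) (hK : DCoh.IsPerfect K)
    (M : CochainComplex X.Modules ℤ) [DCoh.HasLTensorCx M] (T : Set X) (hT : IsClosed T)
    (hM : ∀ i : ℤ, CohB1.support (DCoh.HD (DCoh.toD X M) i) ⊆ T) (n : ℤ) :
    CohB1.support (DCoh.HD ((DCoh.LTensorCx M).obj K) n) ⊆ T := by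
  intro z hz
  by_contra hzT
  obtain ⟨V1, c, hz1, H⟩ := exists_nhd_isZero_restrict_HD K hK M z
  let W : X.Opens := ⟨Tᶜ, hT.isOpen_compl⟩
  have h0 := H (V1 ⊓ W) inf_le_left (n + 1 - c) (fun i _ => by
    have h1 := isZero_restrict_of_disjoint_support (DCoh.HD (DCoh.toD X M) i) (V1 ⊓ W)
      (fun x hx hxs => hx.2 (hM i hxs))
    exact IsZero.of_iso h1 ((Scheme.Modules.restrictFunctor _).mapIso
      ((homologyFunctorFactors X.Modules i).app M).symm)) n (by lia)
  exact not_mem_support_of_isZero_restrict _ (V1 ⊓ W) h0 z ⟨hz1, hzT⟩ hz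

end Global

end Groth.Agent.Lib.T2H1.FMCoh
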