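import Mathlib
import Groth.Prelude.Def_DDual2
import Groth.Prelude.Def_FlatMod2
import Groth.Agent.Lib.T2H1TorAmpQCoh
import Groth.Agent.Lib.Helper1Sky4
import Groth.Agent.Lib.Helper1KBC6
import Groth.Agent.Lib.Helper21FlatCalc
import Groth.Agent.Lib.Helper1StalkTensorB
import Groth.Agent.S0960
set_option backward.isDefEq.respectTransparency.types false

/-!
# `F ↦ f^* F ⊗ K` is exact for `K` flat over the base (helper1)

and the cohomology sheaves of `Lf^* M ⊗^L K`.
-/

set_option autoImplicit false
set_option linter.style.haveILetI false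
universe u
open CategoryTheory CategoryTheory.Limits AlgebraicGeometry HomologicalComplex MonoidalCategory
  TensorProduct

attribute [local instance] HasDerivedCategory.standard

namespace Groth.Agent.Lib.T2H1.FMFlat

section Ring

variable {R A : Type u} [CommRing R] [CommRing A] (φ : R →+* A) (N : ModuleCat.{u} A)

/-- if the `A`-module `N` is flat over `R`, then `Q ↦ (A ⊗_R Q) ⊗_A N` preserves injections -/
theorem injective_whiskerRight_ext
    (hN : Module.Flat R ((ModuleCat.restrictScalars.{u} φ).obj N))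
    {Q' Q : ModuleCat.{u} R} (i : Q' ⟶ Q) (hi : Function.Injective i.hom) :
    Function.Injective (((ModuleCat.extendScalars.{u,u,u} φ).map i) ▷ N).hom := by
  letI : Algebra R A := φ.toAlgebra
  letI : Module R N := Module.compHom N φ
  haveI : IsScalarTower R A N := IsScalarTower.of_algebraMap_smul (fun r n => rfl)
  haveI hfl : Module.Flat R N := hN
  let e : ∀ (Q : ModuleCat.{u} R), ((A ⊗[R] Q) ⊗[A] N) ≃ₗ[A] N ⊗[R] Q := fun Q =>
    (TensorProduct.comm A (A ⊗[R] Q) N) ≪≫ₗ
      TensorProduct.AlgebraTensorModule.cancelBaseChange R A A N Q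
  have hl : Function.Injective (LinearMap.lTensor N i.hom) :=
    Module.Flat.lTensor_preserves_injective_linearMap i.hom hi
  let g : (A ⊗[R] Q') ⊗[A] N →ₗ[A] (A ⊗[R] Q) ⊗[A] N :=
    LinearMap.rTensor N (LinearMap.baseChange A i.hom)
  have hg : (((ModuleCat.extendScalars.{u,u,u} φ).map i) ▷ N).hom = g := rfl
  have key : ∀ t : (A ⊗[R] Q') ⊗[A] N,
      e Q (g t) = LinearMap.lTensor N i.hom (e Q' t) := by
    intro t
    induction t using TensorProduct.induction_on with
    | zero => simp
    | add x y hx hy =>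
      rw [map_add, map_add, map_add, map_add, hx, hy]
    | tmul x n =>
      induction x using TensorProduct.induction_on with
      | zero => simp
      | add x y hx hy =>
        rw [TensorProduct.add_tmul, map_add, map_add, map_add, map_add, hx, hy]
      | tmul a q =>
        simp [e, g]
  have hinj : Function.Injective g := by
    intro s t hst
    apply (e Q').injective
    apply hl
    rw [← key, ← key, hst]
  rw [hg]
  exact hinj

end Ring

section Aux

variable {C : Type*} [Category C] [MonoidalCategory C]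

lemma sq_aux {T T' S S' E E' W : C} {m : T ⟶ T'} {a : T ≅ S ⊗ W} {a' : T' ≅ S' ⊗ W}
    {s : S ⟶ S'} {b : S ≅ E} {b' : S' ≅ E'} {e : E ⟶ E'}
    (h1 : m ≫ a'.hom = a.hom ≫ s ▷ W) (h2 : s ≫ b'.hom = b.hom ≫ e) :
    m ≫ (a' ≪≫ whiskerRightIso b' W).hom = (a ≪≫ whiskerRightIso b W).hom ≫ e ▷ W := by
  simp only [Iso.trans_hom, whiskerRightIso_hom]
  rw [reassoc_of% h1, Category.assoc, ← comp_whiskerRight, ← comp_whiskerRight, h2]

end Aux

section Sheaf

open Groth.Agent.Lib.Helper1.Sky Groth.Agent.Lib.Helper1.KBC Groth.Agent.Lib.Helper1.StalkTensor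
  Groth.Agent.Lib.Helper21.ModTensor3 Groth.Agent.Lib.Helper21.FlatCalc

variable {Z X : Scheme.{u}} (f : Z ⟶ X) (K : Z.Modules)

/-- `F ↦ f^* F ⊗ K` -/
noncomputable abbrev GK : X.Modules ⥤ Z.Modules :=
  Scheme.Modules.pullback f ⋙ DCoh.tensorRightMod K

instance : PreservesFiniteColimits (DCoh.tensorRightMod K) :=
  (inferInstance : PreservesFiniteColimits (tR Z.sheaf K))

instance : PreservesFiniteColimits (GK f K) := by
  haveI : PreservesFiniteColimits (Scheme.Modules.pullback f) :=
    ⟨fun J _ _ => (Scheme.Modules.pullbackPushforwardAdjunction f).leftAdjoint_preservesColimits.preservesColimitsOfShape⟩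
  infer_instance

instance additive_GK : (GK f K).Additive := inferInstance

/-- the stalk of `f^* F ⊗ K` -/
noncomputable def stalkGKApp (z : Z) (F : X.Modules) :
    (stalkFun z).obj ((GK f K).obj F) ≅
      ((ModuleCat.extendScalars.{u, u, u} (f.stalkMap z).hom).obj ((stalkFun (f z)).obj F)) ⊗
        (stalkFun z).obj K :=
  stalkTensorApp z ((Scheme.Modules.pullback f).obj F) K ≪≫
    whiskerRightIso ((stalkPullbackIso f z).app F) ((stalkFun z).obj K)

lemma stalkGKApp_naturality (z : Z) {F F' : X.Modules} (φ : F ⟶ F') :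
    (stalkFun z).map ((GK f K).map φ) ≫ (stalkGKApp f K z F').hom =
      (stalkGKApp f K z F).hom ≫
        ((ModuleCat.extendScalars.{u, u, u} (f.stalkMap z).hom).map ((stalkFun (f z)).map φ)) ▷
          (stalkFun z).obj K := by
  have h1 : (stalkFun z).map ((GK f K).map φ) ≫
      (stalkTensorApp z ((Scheme.Modules.pullback f).obj F') K).hom =
      (stalkTensorApp z ((Scheme.Modules.pullback f).obj F) K).hom ≫
        (stalkFun z).map ((Scheme.Modules.pullback f).map φ) ▷ (stalkFun z).obj K :=
    stalkTensor_naturality_left z ((Scheme.Modules.pullback f).map φ) K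
  have h2 : (stalkFun z).map ((Scheme.Modules.pullback f).map φ) ≫
      (stalkPullbackIso f z).hom.app F' = (stalkPullbackIso f z).hom.app F ≫
      (ModuleCat.extendScalars.{u, u, u} (f.stalkMap z).hom).map ((stalkFun (f z)).map φ) :=
    (stalkPullbackIso f z).hom.naturality φ
  exact sq_aux h1 h2

/-- `F ↦ f^* F ⊗ K` preserves monomorphisms when `K` is flat over `X` -/
theorem mono_GK_map (hfl : FlatMod.IsFlatOver f K) {F' F : X.Modules} (i : F' ⟶ F) [Mono i] :
    Mono ((GK f K).map i) := by
  apply mono_of_sm_injective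
  intro z
  have hflz : Module.Flat (Groth.Agent.Lib.Helper1.Sky.Ox (f z))
      ((ModuleCat.restrictScalars.{u} (f.stalkMap z).hom).obj ((stalkFun z).obj K)) := hfl z
  have h1 := injective_whiskerRight_ext (f.stalkMap z).hom ((stalkFun z).obj K) hflz
    ((stalkFun (f z)).map i) (sm_injective_of_mono i (f z))
  haveI hm : Mono (((ModuleCat.extendScalars.{u, u, u} (f.stalkMap z).hom).map
      ((stalkFun (f z)).map i)) ▷ (stalkFun z).obj K) := (ModuleCat.mono_iff_injective _).2 h1
  have hnat := stalkGKApp_naturality f K z i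
  haveI : Mono ((stalkFun z).map ((GK f K).map i) ≫ (stalkGKApp f K z F).hom) := by
    rw [hnat]; infer_instance
  haveI : Mono ((stalkFun z).map ((GK f K).map i)) := mono_of_mono _ (stalkGKApp f K z F).hom
  exact (ModuleCat.mono_iff_injective _).1 this

/-- `F ↦ f^* F ⊗ K` is exact when `K` is flat over `X` -/
theorem preservesFiniteLimits_GK (hfl : FlatMod.IsFlatOver f K) :
    PreservesFiniteLimits (GK f K) :=
  preservesFiniteLimits_of_mono (GK f K) (fun i hi => by
    haveI := hi
    exact mono_GK_map f K hfl i)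

/-- the support of `f^* F ⊗ K` is contained in the support of `K` -/
theorem support_GK_subset (F : X.Modules) :
    CohB1.support ((GK f K).obj F) ⊆ CohB1.support K := by
  intro z hz
  by_contra hK
  simp only [CohB1.support, Set.mem_ofPred_eq, not_not] at hK
  apply hz
  haveI : Subsingleton ((stalkFun z).obj K) := hK
  have h0 : IsZero ((stalkFun z).obj K) := ModuleCat.isZero_of_subsingleton _
  have h1 : IsZero (((ModuleCat.extendScalars.{u, u, u} (f.stalkMap z).hom).obj
      ((stalkFun (f z)).obj F)) ⊗ (stalkFun z).obj K) :=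
    (tensorLeft _).map_isZero h0
  have h2 : IsZero ((stalkFun z).obj ((GK f K).obj F)) := IsZero.of_iso h1 (stalkGKApp f K z F)
  exact (ModuleCat.subsingleton_of_isZero h2 : Subsingleton ((stalkFun z).obj ((GK f K).obj F)))

end Sheaf

section Derived

open Groth.Agent.Lib.Helper1.Sky Groth.Agent.Lib.Helper1.KBC Groth.Agent.Lib.Helper1.BKF
  Groth.Agent.Lib.Helper1.CI DerivedCategory

variable {Z X : Scheme.{u}} (f : Z ⟶ X) (K : Z.Modules)

/-- the cohomology sheaves of `Lf^* M ⊗^L K` for `K` flat over `X` -/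
theorem nonempty_HD_LTensorMod_Lpull_iso (hfl : FlatMod.IsFlatOver f K) [DCoh.HasLpull f]
    [DCoh.HasLTensorMod K] (M : DCoh.D X) (i : ℤ) :
    Nonempty (DCoh.HD ((DCoh.LTensorMod K).obj ((DCoh.Lpull f).obj M)) i ≅
      (GK f K).obj (DCoh.HD M i)) := by
  let F0 := (DerivedCategory.Q (C := X.Modules)).objPreimage M
  have e0 : DerivedCategory.Q.obj F0 ≅ M := (DerivedCategory.Q (C := X.Modules)).objObjPreimageIso M
  obtain ⟨P, q, hP, -, hq, -⟩ : ∃ (P : CochainComplex X.Modules ℤ) (q : P ⟶ F0),
      DCoh.IsKFlat P ∧ (∀ n : ℤ, ModSite.IsFlat (O := X.sheaf) (P.X n)) ∧ QuasiIso q ∧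
        ∀ n : ℤ, Epi (q.f n) := exists_kflat_flat_resolution X.sheaf _
  have hP' : DCoh.IsKFlat P := hP
  haveI : IsIso (DerivedCategory.Q.map q) := by
    rw [DerivedCategory.isIso_Q_map_iff_quasiIso]; exact hq
  have eK : M ≅ DCoh.toD X P := e0.symm ≪≫ (asIso (DerivedCategory.Q.map q)).symm
  have hPf : DCoh.IsKFlat ((pullC f).obj P) := Groth.Agent.S0960.isKFlat_pullC f P hP'
  haveI := preservesFiniteLimits_GK f K hfl
  have e1 : DCoh.HD ((DCoh.LTensorMod K).obj ((DCoh.Lpull f).obj M)) i ≅
      ((Ttw K).obj ((pullC f).obj P)).homology i :=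
    (DerivedCategory.homologyFunctor Z.Modules i).mapIso
      ((DCoh.LTensorMod K).mapIso ((DCoh.Lpull f).mapIso eK ≪≫ lpullIsoK f P hP')) ≪≫
      HDltmIso K ((pullC f).obj P) hPf i
  haveI hadd : (GK f K).Additive := additive_GK f K
  haveI hpz : (GK f K).PreservesZeroMorphisms := inferInstance
  haveI hph : (GK f K).PreservesHomology := inferInstance
  have e2 : ((Ttw K).obj ((pullC f).obj P)).homology i ≅ (GK f K).obj (P.homology i) :=
    (P.sc i).mapHomologyIso (GK f K)
  have e3 : P.homology i ≅ DCoh.HD M i :=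
    ((DerivedCategory.homologyFunctorFactors X.Modules i).app P).symm ≪≫
      (DerivedCategory.homologyFunctor X.Modules i).mapIso eK.symm
  exact ⟨e1 ≪≫ e2 ≪≫ (GK f K).mapIso e3⟩

end Derived

end Groth.Agent.Lib.T2H1.FMFlat
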