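import Mathlib
import Groth.Prelude.Def_AlgSpInf
import Groth.Agent.Lib.Helper2Thick

/-!
# First order thickenings of schemes give first order thickenings of sheaves (helper1)
-/

set_option autoImplicit false
universe u
open CategoryTheory CategoryTheory.Limits AlgebraicGeometry Opposite TopologicalSpace
open AlgSp

namespace Groth.Agent.Lib.T2H1.FOThickSch

open Groth.Agent.Lib.Helper2.Thick

/-- the order of a thickening does not increase under base change. -/
theorem pow_ker_eq_bot_baseChange {X X' Y Y' : Scheme.{u}} (iX : X ⟶ X') (iY : Y ⟶ Y') (f : X ⟶ Y)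
    (f' : X' ⟶ Y') (hY : MoreMor.IsThickening iY) (n : ℕ) (hn : iY.ker ^ n = ⊥)
    (hc : IsPullback iX f f' iY) : iX.ker ^ n = ⊥ := by
  have hY' : MoreMor.IsFiniteOrderThickening iY := ⟨hY, ⟨n, hn⟩⟩
  have : IsClosedImmersion iY := hY.1
  have : IsClosedImmersion iX :=
    MorphismProperty.of_isPullback (P := @IsClosedImmersion) hc.flip hY.1
  rw [eq_bot_iff]
  let ι := {V' : X'.affineOpens // ∃ U' : Y'.affineOpens, V'.1 ≤ f' ⁻¹ᵁ U'.1}
  refine Scheme.IdealSheafData.le_of_iSup_eq_top (ι := ι) (fun i => i.1) ?_ ?_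
  · rw [eq_top_iff]
    intro x _
    obtain ⟨_, ⟨U, hU, rfl⟩, hxU, -⟩ :=
      Y'.isBasis_affineOpens.exists_subset_of_mem_open (Set.mem_univ (f' x)) isOpen_univ
    obtain ⟨_, ⟨V, hV, rfl⟩, hxV, hVU : V ≤ f' ⁻¹ᵁ U⟩ :=
      X'.isBasis_affineOpens.exists_subset_of_mem_open hxU (f' ⁻¹ᵁ U).isOpen
    exact Opens.mem_iSup.mpr ⟨⟨⟨V, hV⟩, ⟨U, hU⟩, hVU⟩, hxV⟩
  · rintro ⟨⟨V', hV'⟩, ⟨U', hU'⟩, e⟩
    obtain ⟨hUT, hUY, hπ, -, hpo⟩ := fthick_data iX iY f f' hY' hc U' hU' V' hV' e
    have hker := ker_le_map hpo hπ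
    have hn' : RingHom.ker (iY.appLE U' (iY ⁻¹ᵁ U') le_rfl).hom ^ n = ⊥ := by
      have := congr(($hn).ideal ⟨U', hU'⟩)
      rw [← Scheme.Hom.app_eq_appLE]
      simpa using this
    show (iX.ker ^ n).ideal ⟨V', hV'⟩ ≤ (⊥ : X'.IdealSheafData).ideal ⟨V', hV'⟩
    rw [Scheme.IdealSheafData.ideal_pow, Scheme.IdealSheafData.ideal_bot, Pi.pow_apply,
      Scheme.Hom.ker_apply]
    have h1 : RingHom.ker (iX.app V').hom ≤
        (RingHom.ker (iY.appLE U' (iY ⁻¹ᵁ U') le_rfl).hom).map (f'.appLE U' V' e).hom := by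
      intro x hx
      apply hker
      rw [RingHom.mem_ker] at hx ⊢
      rw [Scheme.Hom.appLE, CommRingCat.hom_comp, RingHom.comp_apply, hx, map_zero]
    calc RingHom.ker (iX.app V').hom ^ n
        ≤ ((RingHom.ker (iY.appLE U' (iY ⁻¹ᵁ U') le_rfl).hom).map (f'.appLE U' V' e).hom) ^ n :=
          Ideal.pow_right_mono h1 n
      _ = ⊥ := by rw [← Ideal.map_pow, hn', Ideal.map_bot]
      _ ≤ _ := le_rfl

/-- first order thickenings of schemes are stable under base change. -/
theorem isFirstOrderThickening_baseChange {X X' Y Y' : Scheme.{u}} (iX : X ⟶ X') (iY : Y ⟶ Y')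
    (f : X ⟶ Y) (f' : X' ⟶ Y') (hY : MoreMor.IsFirstOrderThickening iY)
    (hc : IsPullback iX f f' iY) : MoreMor.IsFirstOrderThickening iX := by
  refine ⟨⟨MorphismProperty.of_isPullback (P := @IsClosedImmersion) hc.flip hY.1.1,
    MorphismProperty.of_isPullback (P := @Surjective) hc.flip hY.1.2⟩, ?_⟩
  have := pow_ker_eq_bot_baseChange iX iY f f' hY.1 2 (by rw [pow_two]; exact hY.2) hc
  rw [pow_two] at this
  exact this

variable {S : Scheme.{u}}

/-- a first order thickening of schemes over `S` is a first order thickening of sheaves. -/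
theorem isFOThickMor_yon_map {U V : Over S} (g : U ⟶ V)
    (hg : MoreMor.IsFirstOrderThickening g.left) : AlgSp.IsFOThickMor ((AlgSp.yon S).map g) := by
  refine ⟨(AlgSp.isThickMor_yon_map_iff g).2 hg.1, ?_⟩
  intro V' W' b fst snd hV' hb psq
  obtain ⟨v, rfl⟩ := (AlgSp.yon S).map_surjective b
  obtain ⟨fst₀, rfl⟩ := (AlgSp.yon S).map_surjective fst
  have hOver : IsPullback fst₀ snd g v := IsPullback.of_map (AlgSp.yon S) (by
    apply (AlgSp.yon S).map_injective
    simp only [Functor.map_comp]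
    exact psq.w) psq
  have hSch : IsPullback fst₀.left snd.left g.left v.left := hOver.map (Over.forget S)
  exact (isFirstOrderThickening_baseChange snd.left g.left fst₀.left v.left hg hSch.flip).2

end Groth.Agent.Lib.T2H1.FOThickSch
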