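import Mathlib

/-!
# Flat descent for the vanishing of the square of the kernel of a closed immersion (helper1)
-/

set_option autoImplicit false
universe u
open CategoryTheory CategoryTheory.Limits AlgebraicGeometry

namespace Groth.Agent.Lib.T2H1.KerDescent

/-- an element of a ring vanishing on a flat covering is zero. -/
lemma eq_zero_of_flat_cover {A : Type u} [CommRing A] (a : A)
    (h : ∀ p : PrimeSpectrum A, ∃ (B : Type u) (_ : CommRing B) (φ : A →+* B), φ.Flat ∧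
      p ∈ Set.range (PrimeSpectrum.comap φ) ∧ φ a = 0) : a = 0 := by
  by_contra ha
  let N : Ideal A := (Ideal.span {a}).annihilator
  have hN : N ≠ ⊤ := by
    intro hN
    have h1 : (1 : A) ∈ N := by rw [hN]; trivial
    rw [Submodule.mem_annihilator_span_singleton] at h1
    exact ha (by simpa using h1)
  obtain ⟨M, hM, hNM⟩ := Ideal.exists_le_maximal N hN
  obtain ⟨B, _, φ, hφ, ⟨q, hq⟩, hφa⟩ := h ⟨M, hM.isPrime⟩
  have hqM : M = Ideal.comap φ q.asIdeal := by
    have := congrArg PrimeSpectrum.asIdeal hq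
    exact this.symm
  haveI := hM.isPrime
  have hψ : (Localization.localRingHom M q.asIdeal φ hqM).Flat :=
    RingHom.Flat.localRingHom hφ q.asIdeal M hqM
  have hloc : IsLocalHom (Localization.localRingHom M q.asIdeal φ hqM) :=
    Localization.isLocalHom_localRingHom M q.asIdeal φ hqM
  algebraize [Localization.localRingHom M q.asIdeal φ hqM]
  haveI : Module.Flat (Localization.AtPrime M) (Localization.AtPrime q.asIdeal) := hψ
  haveI : IsLocalHom (algebraMap (Localization.AtPrime M) (Localization.AtPrime q.asIdeal)) :=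
    hloc
  haveI : Module.FaithfullyFlat (Localization.AtPrime M) (Localization.AtPrime q.asIdeal) :=
    Module.FaithfullyFlat.of_flat_of_isLocalHom
  have hinj : Function.Injective (Localization.localRingHom M q.asIdeal φ hqM) :=
    FaithfulSMul.algebraMap_injective (Localization.AtPrime M) (Localization.AtPrime q.asIdeal)
  have h1 : (Localization.localRingHom M q.asIdeal φ hqM)
      (algebraMap A (Localization.AtPrime M) a) = 0 := by
    rw [Localization.localRingHom_to_map, hφa, map_zero]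
  have h2 : algebraMap A (Localization.AtPrime M) a = 0 := hinj (by rw [h1, map_zero])
  obtain ⟨s, hs⟩ := (IsLocalization.map_eq_zero_iff M.primeCompl (Localization.AtPrime M) a).1 h2
  have h3 : (s : A) ∈ N := by
    rw [Submodule.mem_annihilator_span_singleton]
    exact hs
  exact s.2 (hNM h3)

/-- a global function on an affine scheme vanishing on affine opens of a flat covering is zero. -/
lemma eq_zero_of_flat_cover_scheme {V : Scheme.{u}} [IsAffine V] (x : Γ(V, ⊤))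
    (h : ∀ v : V, ∃ (V₁ : Scheme.{u}) (c : V₁ ⟶ V) (O : V₁.Opens) (_ : IsAffineOpen O),
      Flat c ∧ v ∈ c '' (O : Set V₁) ∧ (c.appLE ⊤ O le_top).hom x = 0) : x = 0 := by
  apply eq_zero_of_flat_cover
  intro p
  obtain ⟨V₁, c, O, hO, hc, ⟨v₁, hv₁, hv⟩, hx⟩ := h (V.isoSpec.inv p)
  refine ⟨Γ(V₁, O), inferInstance, (c.appLE ⊤ O le_top).hom, ?_, ?_, hx⟩
  · exact HasRingHomProperty.appLE (P := @Flat) c hc ⟨⊤, isAffineOpen_top V⟩ ⟨O, hO⟩ le_top
  · refine ⟨hO.primeIdealOf ⟨v₁, hv₁⟩, ?_⟩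
    have h1 := IsAffineOpen.SpecMap_appLE_fromSpec c (isAffineOpen_top V) hO le_top
    rw [IsAffineOpen.fromSpec_top] at h1
    have h2 := congrArg (fun f => f (hO.primeIdealOf ⟨v₁, hv₁⟩)) h1
    simp only [Scheme.Hom.comp_apply] at h2
    rw [hO.fromSpec_primeIdealOf, hv] at h2
    have h3 : Function.Injective V.isoSpec.inv := by
      intro a b hab
      have := congrArg V.isoSpec.hom hab
      simpa using this
    exact h3 h2

/-- flat descent of `ker * ker = ⊥` for a morphism to an affine scheme: only commutativity of the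
squares is needed. -/
theorem ker_mul_ker_eq_bot_of_flat_cover {W V : Scheme.{u}} [IsAffine V] (ι : W ⟶ V)
    [QuasiCompact ι]
    (h : ∀ v : V, ∃ (V₁ W₁ : Scheme.{u}) (c : V₁ ⟶ V) (ι₁ : W₁ ⟶ V₁) (g : W₁ ⟶ W),
      Flat c ∧ v ∈ Set.range c ∧ ι₁ ≫ c = g ≫ ι ∧ QuasiCompact ι₁ ∧ ι₁.ker * ι₁.ker = ⊥) :
    ι.ker * ι.ker = ⊥ := by
  rw [eq_bot_iff]
  apply Scheme.IdealSheafData.le_of_isAffine
  rw [Scheme.IdealSheafData.ideal_mul, Pi.mul_apply, Scheme.Hom.ker_apply,
    Scheme.IdealSheafData.ideal_bot, Pi.bot_apply]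
  intro x hx
  rw [Ideal.mem_bot]
  apply eq_zero_of_flat_cover_scheme
  intro v
  obtain ⟨V₁, W₁, c, ι₁, g, hc, ⟨v₁, hv₁⟩, hcomm, hqc, hsq⟩ := h v
  obtain ⟨_, ⟨O, hO, rfl⟩, hv₁O, -⟩ :=
    V₁.isBasis_affineOpens.exists_subset_of_mem_open (Set.mem_univ v₁) isOpen_univ
  refine ⟨V₁, c, O, hO, hc, ⟨v₁, hv₁O, hv₁⟩, ?_⟩
  have hsqO := congr(($hsq).ideal ⟨O, hO⟩)
  rw [Scheme.IdealSheafData.ideal_mul, Pi.mul_apply, Scheme.Hom.ker_apply,
    Scheme.IdealSheafData.ideal_bot, Pi.bot_apply] at hsqO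
  have hmap : (RingHom.ker (ι.app ⊤).hom).map (c.appLE ⊤ O le_top).hom ≤
      RingHom.ker (ι₁.app O).hom := by
    rw [Ideal.map_le_iff_le_comap]
    intro y hy
    rw [Ideal.mem_comap, RingHom.mem_ker]
    rw [RingHom.mem_ker] at hy
    have e1 : c.appLE ⊤ O le_top ≫ ι₁.app O = (ι₁ ≫ c).appLE ⊤ (ι₁ ⁻¹ᵁ O) le_top := by
      rw [Scheme.Hom.app_eq_appLE, Scheme.Hom.appLE_comp_appLE]
    have e2 : ι.app ⊤ ≫ g.appLE (ι ⁻¹ᵁ ⊤) (ι₁ ⁻¹ᵁ O) le_top =
        (g ≫ ι).appLE ⊤ (ι₁ ⁻¹ᵁ O) le_top := by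
      rw [Scheme.Hom.app_eq_appLE, Scheme.Hom.appLE_comp_appLE]
    have e3 : (ι₁ ≫ c).appLE ⊤ (ι₁ ⁻¹ᵁ O) le_top = (g ≫ ι).appLE ⊤ (ι₁ ⁻¹ᵁ O) le_top := by
      simp only [hcomm]
    have e4 := congr(($(e1.trans (e3.trans e2.symm))).hom y)
    simp only [CommRingCat.hom_comp, RingHom.comp_apply] at e4
    rw [e4, hy, map_zero]
  have h5 : (c.appLE ⊤ O le_top).hom x ∈
      RingHom.ker (ι₁.app O).hom * RingHom.ker (ι₁.app O).hom := by
    have := Ideal.mem_map_of_mem (c.appLE ⊤ O le_top).hom hx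
    rw [Ideal.map_mul] at this
    exact Ideal.mul_mono hmap hmap this
  rw [hsqO] at h5
  exact h5

end Groth.Agent.Lib.T2H1.KerDescent
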