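import Mathlib
import Groth.Agent.Lib.T2H1EtaleLiftSch

/-!
# Lifting étale and smooth algebras along nil ideals (helper1)
-/

set_option autoImplicit false
universe u
open Polynomial TensorProduct CategoryTheory CategoryTheory.Limits AlgebraicGeometry

namespace Groth.Agent.Lib.T2H1.NilLift

open Groth.Agent.Lib.T2H1.EtaleLift

/-- a polynomial with coefficients in a nil ideal is nilpotent. -/
lemma isNilpotent_of_map_eq_zero {A : Type u} [CommRing A] (I : Ideal A)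
    (hI : ∀ x ∈ I, IsNilpotent x) (δ : A[X]) (hδ : δ.map (Ideal.Quotient.mk I) = 0) :
    IsNilpotent δ := by
  rw [Polynomial.isNilpotent_iff]
  intro n
  have := congrArg (fun p => p.coeff n) hδ
  simp only [coeff_map, coeff_zero] at this
  exact hI _ (Ideal.Quotient.eq_zero_iff_mem.1 this)

/-- a standard étale pair over `A ⧸ I` with `I` nil lifts to a standard étale pair over `A`. -/
theorem exists_pair_lift {A : Type u} [CommRing A] (I : Ideal A) (hI : ∀ x ∈ I, IsNilpotent x)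
    (P₀ : StandardEtalePair (A ⧸ I)) :
    ∃ P : StandardEtalePair A, P.map (algebraMap A (A ⧸ I)) = P₀ := by
  obtain ⟨f₀, hm, g₀, p₁, p₂, n, hc⟩ := P₀
  have hsurj := Polynomial.map_surjective (Ideal.Quotient.mk I) Ideal.Quotient.mk_surjective
  obtain ⟨f, rfl, -, hf⟩ := lifts_and_natDegree_eq_and_monic
    (mem_lifts_of_surjective Ideal.Quotient.mk_surjective f₀) hm
  obtain ⟨g, rfl⟩ := hsurj g₀
  obtain ⟨q₁, rfl⟩ := hsurj p₁
  obtain ⟨q₂, rfl⟩ := hsurj p₂
  let δ : A[X] := derivative f * q₁ + f * q₂ - g ^ n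
  have hδ : δ.map (Ideal.Quotient.mk I) = 0 := by
    simp only [δ, Polynomial.map_sub, Polynomial.map_add, Polynomial.map_mul, Polynomial.map_pow,
      ← derivative_map]
    rw [hc, sub_self]
  obtain ⟨N, hN⟩ := isNilpotent_of_map_eq_zero I hI δ hδ
  have hdvd : (g ^ n + δ) ∣ (g ^ n) ^ N := by
    have h1 : (g ^ n - (-δ)) ∣ (g ^ n) ^ N - (-δ) ^ N := sub_dvd_pow_sub_pow _ _ N
    rw [neg_pow, hN, mul_zero, sub_zero, sub_neg_eq_add] at h1
    exact h1
  obtain ⟨c, hc'⟩ := hdvd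
  refine ⟨⟨f, hf, g, q₁ * c, q₂ * c, n * N, ?_⟩, rfl⟩
  have : derivative f * q₁ + f * q₂ = g ^ n + δ := by simp only [δ]; ring
  calc derivative f * (q₁ * c) + f * (q₂ * c)
      = (derivative f * q₁ + f * q₂) * c := by ring
    _ = (g ^ n + δ) * c := by rw [this]
    _ = g ^ (n * N) := by rw [← hc', pow_mul]

/-- a standard étale algebra over `A ⧸ I` with `I` nil lifts to an étale algebra over `A`. -/
theorem exists_etale_lift (A : Type u) [CommRing A] (I : Ideal A) (hI : ∀ x ∈ I, IsNilpotent x)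
    (B₀ : Type u) [CommRing B₀] [Algebra (A ⧸ I) B₀] [Algebra.IsStandardEtale (A ⧸ I) B₀] :
    ∃ (B : Type u) (_ : CommRing B) (_ : Algebra A B), Algebra.Etale A B ∧
      Nonempty ((B ⧸ I.map (algebraMap A B)) ≃ₐ[A ⧸ I] B₀) := by
  obtain ⟨Pres₀⟩ := Algebra.IsStandardEtale.nonempty_standardEtalePresentation (R := A ⧸ I) (S := B₀)
  obtain ⟨P, hP⟩ := exists_pair_lift I hI Pres₀.P
  let Pres : StandardEtalePresentation A P.Ring :=
    ⟨P, P.X, P.hasMap_X, by
      simpa [StandardEtalePair.lift_X_left] using Function.bijective_id⟩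
  let e1 : (P.Ring ⧸ I.map (algebraMap A P.Ring)) ≃ₐ[A ⧸ I] (A ⧸ I) ⊗[A] P.Ring :=
    Algebra.TensorProduct.quotIdealMapEquivQuotTensor P.Ring I
  let e2 : (A ⧸ I) ⊗[A] P.Ring ≃ₐ[A ⧸ I] (P.map (algebraMap A (A ⧸ I))).Ring :=
    (Pres.baseChange (T := A ⧸ I)).equivRing
  refine ⟨P.Ring, inferInstance, inferInstance, inferInstance, ⟨?_⟩⟩
  refine (e1.trans e2).trans ?_
  rw [hP]
  exact Pres₀.equivRing.symm

/-- étale schemes over `Spec (A ⧸ I)` lift locally to étale affine schemes over `Spec A`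
when `I` is nil. -/
theorem exists_etale_chart_lift (A : Type u) [CommRing A] (I : Ideal A)
    (hI : ∀ x ∈ I, IsNilpotent x)
    {T₁ : Scheme.{u}} (p₁ : T₁ ⟶ Spec (.of (A ⧸ I))) [Etale p₁] (x : T₁) :
    ∃ (B : Type u) (_ : CommRing B) (φ : A →+* B), φ.Etale ∧
      ∃ (u : Spec (.of (B ⧸ I.map φ)) ⟶ T₁), IsOpenImmersion u ∧ x ∈ Set.range u ∧
        u ≫ p₁ = Spec.map (CommRingCat.ofHom
          (Ideal.quotientMap (I.map φ) φ Ideal.le_comap_map)) := by
  obtain ⟨_, ⟨U₀, hU₀, rfl⟩, hxU, -⟩ :=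
    T₁.isBasis_affineOpens.exists_subset_of_mem_open (Set.mem_univ x) isOpen_univ
  let C := Γ(T₁, U₀)
  let ψ : CommRingCat.of (A ⧸ I) ⟶ C := Spec.preimage (hU₀.fromSpec ≫ p₁)
  have hψ : Spec.map ψ = hU₀.fromSpec ≫ p₁ := Spec.map_preimage _
  have hψe : ψ.hom.Etale := by
    rw [← HasRingHomProperty.Spec_iff (P := @Etale), hψ]
    infer_instance
  algebraize [ψ.hom]
  haveI : Algebra.Etale (A ⧸ I) C := hψe
  let Q : PrimeSpectrum C := hU₀.primeIdealOf ⟨x, hxU⟩
  have hQ : hU₀.fromSpec Q = x := hU₀.fromSpec_primeIdealOf ⟨x, hxU⟩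
  haveI : Algebra.IsEtaleAt (A ⧸ I) Q.asIdeal := by
    haveI : Algebra.FormallyEtale C (Localization.AtPrime Q.asIdeal) :=
      Algebra.FormallyEtale.of_isLocalization Q.asIdeal.primeCompl
    exact Algebra.FormallyEtale.comp (A ⧸ I) C (Localization.AtPrime Q.asIdeal)
  obtain ⟨r, hrQ, hr⟩ := Algebra.IsEtaleAt.exists_isStandardEtale (R := A ⧸ I) Q.asIdeal
  let B₀ := Localization.Away r
  obtain ⟨B, _, _, hBe, ⟨e⟩⟩ := exists_etale_lift A I hI B₀
  let φ : A →+* B := algebraMap A B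
  have hφ : φ.Etale := RingHom.etale_algebraMap.2 hBe
  let ε : CommRingCat.of B₀ ⟶ CommRingCat.of (B ⧸ I.map φ) :=
    CommRingCat.ofHom e.symm.toAlgHom.toRingHom
  haveI : IsIso ε := by
    refine ⟨CommRingCat.ofHom e.toAlgHom.toRingHom, ?_, ?_⟩
    · ext b
      exact e.apply_symm_apply b
    · ext b
      exact e.symm_apply_apply _
  let ρ : C ⟶ CommRingCat.of B₀ := CommRingCat.ofHom (algebraMap C B₀)
  let u : Spec (.of (B ⧸ I.map φ)) ⟶ T₁ := Spec.map ε ≫ Spec.map ρ ≫ hU₀.fromSpec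
  refine ⟨B, inferInstance, φ, hφ, u, inferInstance, ?_, ?_⟩
  · have h1 : Q ∈ Set.range (PrimeSpectrum.comap (algebraMap C B₀)) := by
      rw [PrimeSpectrum.localization_away_comap_range B₀ r]
      exact hrQ
    obtain ⟨q, hq⟩ := h1
    obtain ⟨q', hq'⟩ := (Spec.map ε).homeomorph.surjective q
    refine ⟨q', ?_⟩
    have hq2 : (Spec.map ρ) q = Q := hq
    have hq3 : (Spec.map ε) q' = q := hq'
    simp only [u, Scheme.Hom.comp_apply]
    rw [hq3, hq2, hQ]
  · simp only [u, Category.assoc]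
    rw [← hψ, ← Spec.map_comp, ← Spec.map_comp]
    congr 1
    ext a
    have h1 : ∀ z : A ⧸ I, e.symm (algebraMap (A ⧸ I) B₀ z) =
        algebraMap (A ⧸ I) (B ⧸ I.map φ) z := fun z => e.symm.commutes z
    have h2 : ∀ z : A ⧸ I, algebraMap (A ⧸ I) B₀ z =
        algebraMap C B₀ (algebraMap (A ⧸ I) C z) :=
      fun z => IsScalarTower.algebraMap_apply _ _ _ z
    have h3 := h1 (Ideal.Quotient.mk I a)
    rw [h2] at h3
    exact h3

/-- formally smooth finitely presented algebras lift along nil ideals. -/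
theorem exists_smooth_lift_alg {R C B : Type u} [CommRing R] [CommRing C] [CommRing B]
    [Algebra R C] [Algebra R B] [Algebra.FormallySmooth R C] [Algebra.FinitePresentation R C]
    (J : Ideal B) (hJ : ∀ x ∈ J, IsNilpotent x) (g : C →ₐ[R] B ⧸ J) :
    ∃ f : C →ₐ[R] B, (Ideal.Quotient.mkₐ R J).comp f = g := by
  obtain ⟨n, π, hπ, hfg⟩ := Algebra.FinitePresentation.out (R := R) (A := C)
  have hmk : Function.Surjective (Ideal.Quotient.mk J) := Ideal.Quotient.mk_surjective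
  choose bi hbi using fun i : Fin n => hmk (g (π (MvPolynomial.X i)))
  let ψ : MvPolynomial (Fin n) R →ₐ[R] B := MvPolynomial.aeval bi
  have hψ : (Ideal.Quotient.mkₐ R J).comp ψ = g.comp π := by
    apply MvPolynomial.algHom_ext
    intro i
    simp [ψ, hbi]
  let J₀ : Ideal B := (RingHom.ker π.toRingHom).map ψ.toRingHom
  have hJ₀fg : J₀.FG := hfg.map _
  have hJ₀le : J₀ ≤ J := by
    rw [Ideal.map_le_iff_le_comap]
    intro x hx
    rw [Ideal.mem_comap, ← Ideal.Quotient.eq_zero_iff_mem]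
    have h1 := congr($hψ x)
    have h2 : π x = 0 := hx
    simp only [AlgHom.comp_apply, h2, map_zero] at h1
    exact h1
  have hnil : IsNilpotent J₀ :=
    hJ₀fg.isNilpotent_iff_le_nilradical.2 (fun x hx => mem_nilradical.2 (hJ x (hJ₀le hx)))
  let e := Ideal.quotientKerAlgEquivOfSurjective hπ
  let g₀' : (MvPolynomial (Fin n) R ⧸ RingHom.ker π) →ₐ[R] B ⧸ J₀ :=
    Ideal.Quotient.liftₐ _ ((Ideal.Quotient.mkₐ R J₀).comp ψ) (by
      intro a ha
      rw [AlgHom.comp_apply, Ideal.Quotient.mkₐ_eq_mk, Ideal.Quotient.eq_zero_iff_mem]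
      exact Ideal.mem_map_of_mem _ ha)
  let g₀ : C →ₐ[R] B ⧸ J₀ := g₀'.comp e.symm.toAlgHom
  obtain ⟨f, hf⟩ := Algebra.FormallySmooth.exists_lift J₀ hnil g₀
  refine ⟨f, ?_⟩
  ext c
  obtain ⟨p, rfl⟩ := hπ c
  have h1 := congr($hf (π p))
  have h2 : e.symm (π p) = Ideal.Quotient.mk _ p := by
    rw [AlgEquiv.symm_apply_eq]
    rfl
  have h3 : g₀ (π p) = Ideal.Quotient.mk J₀ (ψ p) := by
    change g₀' (e.symm (π p)) = _
    rw [h2]
    rfl
  rw [h3] at h1
  have h4 : Ideal.Quotient.mk J₀ (f (π p)) = Ideal.Quotient.mk J₀ (ψ p) := h1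
  have h5 : f (π p) - ψ p ∈ J := hJ₀le (Ideal.Quotient.eq.1 h4)
  have h6 : Ideal.Quotient.mk J (f (π p)) = Ideal.Quotient.mk J (ψ p) := Ideal.Quotient.eq.2 h5
  have h7 := congr($hψ p)
  change Ideal.Quotient.mk J (f (π p)) = g (π p)
  rw [h6]
  exact h7

/-- ring homomorphism version. -/
theorem exists_smooth_lift_ringHom {R C B : Type u} [CommRing R] [CommRing C] [CommRing B]
    (ρ : R →+* C) (hρ : ρ.Smooth) (β : R →+* B) (J : Ideal B) (hJ : ∀ x ∈ J, IsNilpotent x)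
    (γ : C →+* B ⧸ J) (hγ : γ.comp ρ = (Ideal.Quotient.mk J).comp β) :
    ∃ l : C →+* B, l.comp ρ = β ∧ (Ideal.Quotient.mk J).comp l = γ := by
  let _ := ρ.toAlgebra
  let _ := β.toAlgebra
  have : Algebra.Smooth R C := hρ
  let g : C →ₐ[R] B ⧸ J :=
    { γ with
      commutes' := fun r => by
        have := congr($hγ r)
        exact this }
  obtain ⟨f, hf⟩ := exists_smooth_lift_alg J hJ g
  refine ⟨f.toRingHom, ?_, ?_⟩
  · ext r
    exact f.commutes r
  · ext c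
    exact congr($hf c)

/-- affine scheme version. -/
theorem exists_smooth_lift_affine {W V : Scheme.{u}} [IsAffine W] [IsAffine V] (h : W ⟶ V)
    [Smooth h] {B : Type u} [CommRing B] (J : Ideal B) (hJ : ∀ x ∈ J, IsNilpotent x)
    (α : Spec (.of (B ⧸ J)) ⟶ W) (β : Spec (.of B) ⟶ V)
    (hαβ : α ≫ h = Spec.map (CommRingCat.ofHom (Ideal.Quotient.mk J)) ≫ β) :
    ∃ l : Spec (.of B) ⟶ W, l ≫ h = β ∧
      Spec.map (CommRingCat.ofHom (Ideal.Quotient.mk J)) ≫ l = α := by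
  have hnat : W.isoSpec.hom ≫ Spec.map h.appTop = h ≫ V.isoSpec.hom :=
    Scheme.isoSpec_hom_naturality h
  have hnat' : W.isoSpec.inv ≫ h = Spec.map h.appTop ≫ V.isoSpec.inv := by
    rw [Iso.inv_comp_eq, ← Category.assoc, hnat, Category.assoc, Iso.hom_inv_id, Category.comp_id]
  have hsm : Smooth (Spec.map h.appTop) := by
    have : Spec.map h.appTop = W.isoSpec.inv ≫ h ≫ V.isoSpec.hom := by
      rw [← Category.assoc, hnat', Category.assoc, Iso.inv_hom_id, Category.comp_id]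
    rw [this]
    infer_instance
  have hρ : h.appTop.hom.Smooth := (HasRingHomProperty.Spec_iff (P := @Smooth)).1 hsm
  let β₀ : Γ(V, ⊤) ⟶ CommRingCat.of B := Spec.preimage (β ≫ V.isoSpec.hom)
  have hβ₀ : Spec.map β₀ = β ≫ V.isoSpec.hom := Spec.map_preimage _
  let γ₀ : Γ(W, ⊤) ⟶ CommRingCat.of (B ⧸ J) := Spec.preimage (α ≫ W.isoSpec.hom)
  have hγ₀ : Spec.map γ₀ = α ≫ W.isoSpec.hom := Spec.map_preimage _
  have hcomm : h.appTop ≫ γ₀ = β₀ ≫ CommRingCat.ofHom (Ideal.Quotient.mk J) := by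
    apply Spec.map_injective
    rw [Spec.map_comp, Spec.map_comp, hγ₀, hβ₀, Category.assoc, hnat, ← Category.assoc, hαβ,
      Category.assoc]
  obtain ⟨l₀, hl1, hl2⟩ := exists_smooth_lift_ringHom h.appTop.hom hρ β₀.hom J hJ γ₀.hom (by
    have := congr(($hcomm).hom)
    exact this)
  refine ⟨Spec.map (CommRingCat.ofHom l₀) ≫ W.isoSpec.inv, ?_, ?_⟩
  · rw [Category.assoc, hnat', ← Category.assoc, ← Spec.map_comp]
    have : h.appTop ≫ CommRingCat.ofHom l₀ = β₀ := by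
      ext x
      exact congr($hl1 x)
    rw [this, hβ₀, Category.assoc, Iso.hom_inv_id, Category.comp_id]
  · rw [← Category.assoc, ← Spec.map_comp]
    have : CommRingCat.ofHom l₀ ≫ CommRingCat.ofHom (Ideal.Quotient.mk J) = γ₀ := by
      ext x
      exact congr($hl2 x)
    rw [this, hγ₀, Category.assoc, Iso.hom_inv_id, Category.comp_id]

/-- the extension of a nil ideal is nil. -/
lemma isNilpotent_of_mem_map {A B : Type u} [CommRing A] [CommRing B] (φ : A →+* B) (I : Ideal A)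
    (hI : ∀ x ∈ I, IsNilpotent x) : ∀ y ∈ I.map φ, IsNilpotent y := by
  have : I.map φ ≤ nilradical B := by
    rw [Ideal.map_le_iff_le_comap]
    intro x hx
    rw [Ideal.mem_comap, mem_nilradical]
    exact (hI x hx).map φ
  exact fun y hy => mem_nilradical.1 (this hy)

/-- the scheme level core of étale local lifting along a thickening for a smooth morphism:
an étale scheme over `Spec (A ⧸ I)` with a map to a smooth affine `W₀ ⟶ VY` lifts locally to an
étale `Spec B ⟶ Spec A` with a map to `W₀`. -/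
theorem exists_local_smooth_lift (A : Type u) [CommRing A] (I : Ideal A)
    (hI : ∀ x ∈ I, IsNilpotent x) {T₁ W₀ VY : Scheme.{u}} [IsAffine W₀] [IsAffine VY]
    (p₁ : T₁ ⟶ Spec (.of (A ⧸ I))) [Etale p₁] (x : T₁) (h₀ : W₀ ⟶ VY) [Smooth h₀]
    (m₀ : T₁ ⟶ W₀) (k₀ : Spec (.of A) ⟶ VY)
    (hm : m₀ ≫ h₀ = p₁ ≫ Spec.map (CommRingCat.ofHom (Ideal.Quotient.mk I)) ≫ k₀) :
    ∃ (B : Type u) (_ : CommRing B) (φ : A →+* B), φ.Etale ∧
      ∃ (υ : Spec (.of (B ⧸ I.map φ)) ⟶ T₁) (l : Spec (.of B) ⟶ W₀), x ∈ Set.range υ ∧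
        υ ≫ p₁ = Spec.map (CommRingCat.ofHom
          (Ideal.quotientMap (I.map φ) φ Ideal.le_comap_map)) ∧
        l ≫ h₀ = Spec.map (CommRingCat.ofHom φ) ≫ k₀ ∧
        Spec.map (CommRingCat.ofHom (Ideal.Quotient.mk (I.map φ))) ≫ l = υ ≫ m₀ := by
  obtain ⟨B, _, φ, hφ, υ, -, hx, hυ⟩ := exists_etale_chart_lift A I hI p₁ x
  have hJ := isNilpotent_of_mem_map φ I hI
  have hsq := (isPullback_Spec_quotient φ I).w
  obtain ⟨l, hl1, hl2⟩ := exists_smooth_lift_affine h₀ (I.map φ) hJ (υ ≫ m₀)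
    (Spec.map (CommRingCat.ofHom φ) ≫ k₀) (by
      rw [Category.assoc, hm, ← Category.assoc, hυ, ← Category.assoc, hsq, Category.assoc])
  exact ⟨B, inferInstance, φ, hφ, υ, l, hx, hυ, hl1, hl2⟩

end Groth.Agent.Lib.T2H1.NilLift
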