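import Mathlib
import Groth.Prelude.Def_AlgSpInf
import Groth.Prelude.Def_AlgSp4
import Groth.Agent.Lib.T2H1NilLift
import Groth.Agent.Lib.T2H1Tower
import Groth.Agent.Lib.Helper9SpPoint5
import Groth.Agent.S9874

/-!
# Étale local lifting along thickenings for smooth morphisms of algebraic spaces (helper1)
-/

set_option autoImplicit false
universe u
open CategoryTheory CategoryTheory.Limits AlgebraicGeometry Opposite
open AlgSp

namespace Groth.Agent.Lib.T2H1.SmoothLift

open Groth.Agent.Lib.T2H1.EtaleLift Groth.Agent.Lib.T2H1.NilLift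

variable {S : Scheme.{u}}

/-- a chart diagram through a point with affine target chart. -/
theorem exists_chart_affTarget {X Y : AlgSp.Sp S} (hX : AlgSp.IsAlgSpace X)
    (hY : AlgSp.IsAlgSpace Y) (f : X ⟶ Y) (x : AlgSp.Points X) :
    ∃ (U V : Over S) (a : (AlgSp.yon S).obj U ⟶ X) (b : (AlgSp.yon S).obj V ⟶ Y) (h : U ⟶ V)
      (u : ↥U.left), AlgSp.RepWith @Etale a ∧ AlgSp.RepWith @Etale b ∧
        a ≫ f = (AlgSp.yon S).map h ≫ b ∧ AlgSp.Points.ofPt a u = x ∧ IsAffine V.left := by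
  obtain ⟨U, V, W, a, b, c, h, k, u, ha, -, hc, hab, hbc, hu, hW⟩ :=
    Groth.Agent.Lib.T2H1.Tower.exists_tower hX hY hY f (𝟙 Y) x
  refine ⟨U, W, a, c, h ≫ k, u, ha, hc, ?_, hu, hW⟩
  rw [hab, Functor.map_comp, Category.assoc, ← hbc, Category.comp_id]

/-- a chart diagram through a point with affine target chart and source chart a spectrum. -/
theorem exists_std_chart {X Y : AlgSp.Sp S} (hX : AlgSp.IsAlgSpace X)
    (hY : AlgSp.IsAlgSpace Y) (f : X ⟶ Y) (x : AlgSp.Points X) :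
    ∃ (A : Type u) (_ : CommRing A) (str : Spec (.of A) ⟶ S) (V : Over S)
      (a : (AlgSp.yon S).obj (Over.mk str) ⟶ X) (b : (AlgSp.yon S).obj V ⟶ Y)
      (h : Over.mk str ⟶ V) (q : ↥(Spec (.of A))), AlgSp.RepWith @Etale a ∧
        AlgSp.RepWith @Etale b ∧ a ≫ f = (AlgSp.yon S).map h ≫ b ∧
        AlgSp.Points.ofPt a q = x ∧ IsAffine V.left := by
  obtain ⟨U, V, a, b, h, u, ha, hb, hab, hu, hV⟩ := exists_chart_affTarget hX hY f x
  obtain ⟨_, ⟨(O : U.left.Opens), hO, rfl⟩, huO, -⟩ :=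
    U.left.isBasis_affineOpens.exists_subset_of_mem_open (Set.mem_univ u) isOpen_univ
  have hO' : IsAffineOpen O := hO
  let str : Spec (.of Γ(U.left, O)) ⟶ S := hO'.fromSpec ≫ U.hom
  let ι : Over.mk str ⟶ U := Over.homMk hO'.fromSpec rfl
  have hι : AlgSp.RepWith @Etale ((AlgSp.yon S).map ι) :=
    (AlgSp.repWith_yon_map_iff _ _).2 (inferInstance : Etale hO'.fromSpec)
  refine ⟨Γ(U.left, O), inferInstance, str, V, (AlgSp.yon S).map ι ≫ a, b, ι ≫ h,
    hO'.primeIdealOf ⟨u, huO⟩, (AlgSp.RepWith @Etale).comp_mem _ _ hι ha, hb, ?_, ?_, hV⟩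
  · rw [Category.assoc, hab, Functor.map_comp, Category.assoc]
  · rw [Groth.Agent.Lib.Helper9.SpPoint.ofPt_yon_map_comp]
    have : ι.left (hO'.primeIdealOf ⟨u, huO⟩) = u := hO'.fromSpec_primeIdealOf ⟨u, huO⟩
    rw [this, hu]

section Std

variable {A : Type u} [CommRing A] (I : Ideal A) (str : Spec (.of A) ⟶ S)
  {B : Type u} [CommRing B] (φ : A →+* B)

/-- `Spec A` over `S`. -/
noncomputable abbrev ptA : Over S := Over.mk str

/-- `Spec (A ⧸ I)` over `S`. -/
noncomputable abbrev ptAI : Over S :=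
  Over.mk (Spec.map (CommRingCat.ofHom (Ideal.Quotient.mk I)) ≫ str)

/-- the closed immersion `Spec (A ⧸ I) ⟶ Spec A` over `S`. -/
noncomputable abbrev jA : ptAI I str ⟶ ptA str :=
  Over.homMk (Spec.map (CommRingCat.ofHom (Ideal.Quotient.mk I))) rfl

/-- `Spec B` over `S`. -/
noncomputable abbrev ptB : Over S := Over.mk (Spec.map (CommRingCat.ofHom φ) ≫ str)

/-- the chart `Spec B ⟶ Spec A` over `S`. -/
noncomputable abbrev βB : ptB str φ ⟶ ptA str := Over.homMk (Spec.map (CommRingCat.ofHom φ)) rfl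

/-- the induced map `Spec (B ⧸ I B) ⟶ Spec (A ⧸ I)` over `S`. -/
noncomputable def γB : ptAI (I.map φ) (Spec.map (CommRingCat.ofHom φ) ≫ str) ⟶ ptAI I str :=
  Over.homMk (Spec.map (CommRingCat.ofHom (Ideal.quotientMap (I.map φ) φ Ideal.le_comap_map))) (by
    have := (isPullback_Spec_quotient φ I).w
    change _ ≫ (_ ≫ str) = _ ≫ (_ ≫ str)
    rw [← Category.assoc, this, Category.assoc])

lemma γB_left : (γB I str φ).left =
    Spec.map (CommRingCat.ofHom (Ideal.quotientMap (I.map φ) φ Ideal.le_comap_map)) := rfl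

lemma std_comm : γB I str φ ≫ jA I str =
    jA (I.map φ) (Spec.map (CommRingCat.ofHom φ) ≫ str) ≫ βB str φ := by
  apply Over.OverMorphism.ext
  exact (isPullback_Spec_quotient φ I).w

lemma isPullback_std : IsPullback ((AlgSp.yon S).map (γB I str φ))
    ((AlgSp.yon S).map (jA (I.map φ) (Spec.map (CommRingCat.ofHom φ) ≫ str)))
    ((AlgSp.yon S).map (jA I str)) ((AlgSp.yon S).map (βB str φ)) := by
  have hOver : IsPullback (γB I str φ) (jA (I.map φ) (Spec.map (CommRingCat.ofHom φ) ≫ str))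
      (jA I str) (βB str φ) :=
    IsPullback.of_map (Over.forget S) (std_comm I str φ) (isPullback_Spec_quotient φ I)
  exact hOver.map (AlgSp.yon S)

end Std

/-- a thickening of `Spec A` over `S` is `Spec (A ⧸ I)` for a nil ideal `I`. -/
theorem exists_std_thick {A : Type u} [CommRing A] (str : Spec (.of A) ⟶ S) {U : Over S}
    (u₀ : U ⟶ Over.mk str) (hcl : IsClosedImmersion u₀.left) (hs : Surjective u₀.left) :
    ∃ (I : Ideal A) (_ : ∀ x ∈ I, IsNilpotent x) (eW : ptAI I str ≅ U),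
      eW.hom ≫ u₀ = jA I str := by
  obtain ⟨I, e, he⟩ := (IsClosedImmersion.Spec_iff (R := .of A) (f := u₀.left)).1 hcl
  have hsurj : Function.Surjective (PrimeSpectrum.comap (Ideal.Quotient.mk I)) := by
    intro p
    obtain ⟨y, hy⟩ := u₀.left.surjective p
    refine ⟨e.hom y, ?_⟩
    rw [← hy, he]
    rfl
  have hI : ∀ x ∈ I, IsNilpotent x := by
    have h1 := (PrimeSpectrum.denseRange_comap_iff_ker_le_nilRadical
      (f := Ideal.Quotient.mk I)).1 hsurj.denseRange
    rw [Ideal.mk_ker] at h1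
    exact fun x hx => mem_nilradical.1 (h1 hx)
  have hw : e.inv ≫ u₀.left = Spec.map (CommRingCat.ofHom (Ideal.Quotient.mk I)) := by
    rw [he, ← Category.assoc, Iso.inv_hom_id, Category.id_comp]
  let eW : ptAI I str ≅ U := Over.isoMk e.symm (by
    change e.inv ≫ U.hom = Spec.map (CommRingCat.ofHom (Ideal.Quotient.mk I)) ≫ str
    rw [← Over.w u₀, ← Category.assoc, hw]
    rfl)
  refine ⟨I, hI, eW, ?_⟩
  apply Over.OverMorphism.ext
  exact hw


/-- étale local lifting along a thickening for a smooth morphism of algebraic spaces. -/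
theorem smooth_lift {X Y T T' : AlgSp.Sp S} (hX : AlgSp.IsAlgSpace X) (hY : AlgSp.IsAlgSpace Y)
    (hT' : AlgSp.IsAlgSpace T')
    (f : X ⟶ Y) (hf : AlgSp.LocP @Smooth f) (i : T ⟶ T') (hi : AlgSp.IsThickMor i)
    (a : T ⟶ X) (b : T' ⟶ Y) (w : a ≫ f = i ≫ b) (t' : AlgSp.Points T') :
    ∃ (V : Over S) (e : (AlgSp.yon S).obj V ⟶ T') (ℓ : (AlgSp.yon S).obj V ⟶ X),
      AlgSp.RepWith @Etale e ∧ t' ∈ Set.range (AlgSp.Points.ofPt e) ∧ ℓ ≫ f = e ≫ b ∧
      ∀ (P : AlgSp.Sp S) (p₁ : P ⟶ T) (p₂ : P ⟶ (AlgSp.yon S).obj V),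
        IsPullback p₁ p₂ i e → p₂ ≫ ℓ = p₁ ≫ a := by
  -- a chart of `b` through `t'`
  obtain ⟨A, _, str, VY, a', c, k, q, ha', hc, hk, hq, hVY⟩ := exists_std_chart hT' hY b t'
  -- the thickening of the chart
  obtain ⟨U, u₀, aU, sqU⟩ := hi.1 a'
  have hth := hi.2 a' aU u₀ sqU
  obtain ⟨I, hI, eW, heW⟩ := exists_std_thick str u₀ hth.1 hth.2
  have heW' : eW.inv ≫ jA I str = u₀ := by rw [Iso.inv_comp_eq, heW]
  let aT : (AlgSp.yon S).obj (ptAI I str) ⟶ T := (AlgSp.yon S).map eW.hom ≫ aU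
  have sqT : IsPullback aT ((AlgSp.yon S).map (jA I str)) i a' := by
    refine IsPullback.of_iso sqU ((AlgSp.yon S).mapIso eW.symm) (Iso.refl _) (Iso.refl _)
      (Iso.refl _) ?_ ?_ ?_ ?_
    · simp only [Iso.refl_hom, Category.comp_id, Functor.mapIso_hom, Iso.symm_hom, aT]
      simp
    · simp only [Iso.refl_hom, Category.comp_id, Functor.mapIso_hom, Iso.symm_hom]
      rw [← Functor.map_comp, heW']
    · simp
    · simp
  -- the point of `Spec (A ⧸ I)` over `q`
  obtain ⟨qbar, hqbar⟩ : ∃ qbar : ↥(ptAI I str).left, (jA I str).left qbar = q := by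
    haveI : Surjective u₀.left := hth.2
    obtain ⟨y, hy⟩ := u₀.left.surjective q
    refine ⟨eW.inv.left y, ?_⟩
    rw [← hy, ← heW']
    rfl
  -- the fibre product `X ×_Y VY` and the map from `Spec (A ⧸ I)` to it
  have hQ : AlgSp.IsAlgSpace (pullback f c) :=
    Groth.Agent.S9874.isAlgSpace_of_isPullback hY.diag hX (AlgSp.IsAlgSpace.yon_obj VY)
      (IsPullback.of_hasPullback f c)
  have hfst : AlgSp.RepWith @Etale (pullback.fst f c) :=
    MorphismProperty.of_isPullback (P := AlgSp.RepWith @Etale)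
      (IsPullback.of_hasPullback f c).flip hc
  have hcomm : (aT ≫ a) ≫ f = (AlgSp.yon S).map (jA I str ≫ k) ≫ c := by
    rw [Category.assoc, w, ← Category.assoc, sqT.w, Category.assoc, hk, Functor.map_comp,
      Category.assoc]
  let qmap : (AlgSp.yon S).obj (ptAI I str) ⟶ pullback f c :=
    pullback.lift (aT ≫ a) ((AlgSp.yon S).map (jA I str ≫ k)) hcomm
  obtain ⟨U₁, W, a₁, aW, m, u₁, ha₁, haW, hm, hu₁, hW⟩ :=
    exists_chart_affTarget (AlgSp.IsAlgSpace.yon_obj _) hQ qmap (AlgSp.Points.ofScheme _ qbar)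
  obtain ⟨e₁, rfl⟩ := (AlgSp.yon S).map_surjective a₁
  have he₁ : Etale e₁.left := (AlgSp.repWith_yon_map_iff _ _).1 ha₁
  have hu₁' : e₁.left u₁ = qbar := by
    have h1 := AlgSp.Points.toScheme_ofPt e₁ u₁
    rw [hu₁, AlgSp.Points.toScheme_ofScheme] at h1
    exact h1.symm
  obtain ⟨hW', hhW⟩ := (AlgSp.yon S).map_surjective (aW ≫ pullback.snd f c)
  have hsm : Smooth hW'.left :=
    hf (aW ≫ pullback.fst f c) c hW' ((AlgSp.RepWith @Etale).comp_mem _ _ haW hfst) hc (by
      rw [Category.assoc, pullback.condition, ← Category.assoc, hhW])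
  have hmk : m ≫ hW' = e₁ ≫ jA I str ≫ k := by
    apply (AlgSp.yon S).map_injective
    rw [Functor.map_comp, hhW, ← Category.assoc, ← hm, Category.assoc, pullback.lift_snd,
      ← Functor.map_comp]
  -- the scheme level lifting
  haveI := hW
  haveI := hVY
  obtain ⟨B, _, φ, hφ, υ, l, hx, hυ, hl1, hl2⟩ :=
    exists_local_smooth_lift A I hI e₁.left u₁ hW'.left m.left k.left (by
      have := congrArg (fun z => z.left) hmk
      simpa using this)
  let lW : ptB str φ ⟶ W := Over.homMk l (by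
    change l ≫ W.hom = Spec.map (CommRingCat.ofHom φ) ≫ str
    rw [← Over.w hW', ← Category.assoc, hl1, Category.assoc, Over.w k]
    rfl)
  let υ' : ptAI (I.map φ) (Spec.map (CommRingCat.ofHom φ) ≫ str) ⟶ U₁ := Over.homMk υ (by
    rw [← Over.w e₁, ← Category.assoc, hυ]
    exact Over.w (γB I str φ))
  have E1 : lW ≫ hW' = βB str φ ≫ k := by
    apply Over.OverMorphism.ext
    exact hl1
  have E2 : jA (I.map φ) (Spec.map (CommRingCat.ofHom φ) ≫ str) ≫ lW = υ' ≫ m := by
    apply Over.OverMorphism.ext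
    exact hl2
  have E3 : υ' ≫ e₁ = γB I str φ := by
    apply Over.OverMorphism.ext
    exact hυ
  refine ⟨ptB str φ, (AlgSp.yon S).map (βB str φ) ≫ a',
    (AlgSp.yon S).map lW ≫ aW ≫ pullback.fst f c, ?_, ?_, ?_, ?_⟩
  · have h1 : Etale (Spec.map (CommRingCat.ofHom φ)) :=
      (HasRingHomProperty.Spec_iff (P := @Etale)).2 hφ
    exact (AlgSp.RepWith @Etale).comp_mem _ _ ((AlgSp.repWith_yon_map_iff _ _).2 h1) ha'
  · obtain ⟨z, hz⟩ := hx
    refine ⟨(jA (I.map φ) (Spec.map (CommRingCat.ofHom φ) ≫ str)).left z, ?_⟩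
    rw [Groth.Agent.Lib.Helper9.SpPoint.ofPt_yon_map_comp]
    have h1 : (βB str φ).left ((jA (I.map φ) (Spec.map (CommRingCat.ofHom φ) ≫ str)).left z) =
        q := by
      have h2 := congrArg (fun r => r.left z) (std_comm I str φ)
      simp only [Over.comp_left, Scheme.Hom.comp_apply] at h2
      rw [← h2, ← E3]
      simp only [Over.comp_left, Scheme.Hom.comp_apply]
      have h3 : υ'.left z = u₁ := hz
      rw [h3, hu₁', hqbar]
    rw [h1, hq]
  · rw [Category.assoc, Category.assoc, pullback.condition, ← Category.assoc aW, ← hhW,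
      ← Category.assoc, ← Functor.map_comp, E1, Functor.map_comp, Category.assoc, Category.assoc, hk]
  · intro P p₁ p₂ hP
    have big := (isPullback_std I str φ).paste_horiz sqT
    have key : (AlgSp.yon S).map (jA (I.map φ) (Spec.map (CommRingCat.ofHom φ) ≫ str)) ≫
        ((AlgSp.yon S).map lW ≫ aW ≫ pullback.fst f c) =
        ((AlgSp.yon S).map (γB I str φ) ≫ aT) ≫ a := by
      rw [← Category.assoc, ← Functor.map_comp, E2, Functor.map_comp, Category.assoc,
        ← Category.assoc ((AlgSp.yon S).map m), ← hm, ← E3, Functor.map_comp]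
      simp only [Category.assoc]
      congr 2
      exact pullback.lift_fst _ _ _
    have h1 := big.lift_fst p₁ p₂ hP.w
    have h2 := big.lift_snd p₁ p₂ hP.w
    calc p₂ ≫ (AlgSp.yon S).map lW ≫ aW ≫ pullback.fst f c
        = (big.lift p₁ p₂ hP.w ≫ (AlgSp.yon S).map
            (jA (I.map φ) (Spec.map (CommRingCat.ofHom φ) ≫ str))) ≫
            (AlgSp.yon S).map lW ≫ aW ≫ pullback.fst f c := by rw [h2]
      _ = big.lift p₁ p₂ hP.w ≫ (((AlgSp.yon S).map (γB I str φ) ≫ aT) ≫ a) := by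
          rw [Category.assoc, key]
      _ = p₁ ≫ a := by rw [← Category.assoc, h1]

end Groth.Agent.Lib.T2H1.SmoothLift
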