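import Mathlib
import Groth.Prelude.Def_AlgSpInf
import Groth.Agent.Lib.T2H1KerDescent
import Groth.Agent.Lib.T2H1FOThickSch
import Groth.Agent.Lib.T2H1SmoothLift

/-!
# First order thickenings of algebraic spaces are stable under arbitrary base change (helper1)
-/

set_option autoImplicit false
universe u
open CategoryTheory CategoryTheory.Limits AlgebraicGeometry Opposite
open AlgSp

namespace Groth.Agent.Lib.T2H1.FOThickBC

open Groth.Agent.Lib.T2H1.KerDescent Groth.Agent.Lib.T2H1.FOThickSch
  Groth.Agent.Lib.T2H1.SmoothLift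

variable {S : Scheme.{u}}

/-- the represented pullback of a first order thickening of algebraic spaces along an arbitrary
map from an affine scheme has square zero kernel. -/
theorem sqZero_of_isPullback {F G : AlgSp.Sp S} (hG : AlgSp.IsAlgSpace G) (i : F ⟶ G)
    (hi : AlgSp.IsFOThickMor i) {V W : Over S} (hV : IsAffine V.left)
    (g : (AlgSp.yon S).obj V ⟶ G) (fst : (AlgSp.yon S).obj W ⟶ F) (snd : W ⟶ V)
    (psq : IsPullback fst ((AlgSp.yon S).map snd) i g) :
    snd.left.ker * snd.left.ker = ⊥ := by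
  haveI := hV
  have hth : AlgSp.thick snd.left := hi.1.2 g fst snd psq
  haveI : IsClosedImmersion snd.left := hth.1
  apply ker_mul_ker_eq_bot_of_flat_cover
  intro v
  obtain ⟨U₀, O, a₀, b₀, h₀, u₀, ha₀, hb₀, hab, hu₀, hO⟩ :=
    exists_chart_affTarget (AlgSp.IsAlgSpace.yon_obj V) hG g (AlgSp.Points.ofScheme V v)
  obtain ⟨c, rfl⟩ := (AlgSp.yon S).map_surjective a₀
  have hc : Etale c.left := (AlgSp.repWith_yon_map_iff _ _).1 ha₀
  have hcv : c.left u₀ = v := by
    have h1 := AlgSp.Points.toScheme_ofPt c u₀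
    rw [hu₀, AlgSp.Points.toScheme_ofScheme] at h1
    exact h1.symm
  obtain ⟨WO, sO, fO, sqO⟩ := hi.1.1 b₀
  have hsO : AlgSp.sqZero sO.left := hi.2 b₀ fO sO hO hb₀ sqO
  have hthO : AlgSp.thick sO.left := hi.1.2 b₀ fO sO sqO
  have sq1 := (IsPullback.of_hasPullback snd c).map (AlgSp.yon S)
  have big := sq1.paste_horiz psq
  rw [hab] at big
  let r : (AlgSp.yon S).obj (pullback snd c) ⟶ (AlgSp.yon S).obj WO :=
    sqO.lift ((AlgSp.yon S).map (pullback.fst snd c) ≫ fst)
      ((AlgSp.yon S).map (pullback.snd snd c) ≫ (AlgSp.yon S).map h₀)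
      (by rw [Category.assoc]; exact big.w)
  have e1 : r ≫ fO = (AlgSp.yon S).map (pullback.fst snd c) ≫ fst := sqO.lift_fst _ _ _
  have e2 : r ≫ (AlgSp.yon S).map sO =
      (AlgSp.yon S).map (pullback.snd snd c) ≫ (AlgSp.yon S).map h₀ := sqO.lift_snd _ _ _
  rw [← e1] at big
  have small : IsPullback r ((AlgSp.yon S).map (pullback.snd snd c)) ((AlgSp.yon S).map sO)
      ((AlgSp.yon S).map h₀) := IsPullback.of_right big e2 sqO
  obtain ⟨r₀, hr₀⟩ := (AlgSp.yon S).map_surjective r
  rw [← hr₀] at small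
  have hOver : IsPullback r₀ (pullback.snd snd c) sO h₀ :=
    IsPullback.of_map (AlgSp.yon S) (by
      apply (AlgSp.yon S).map_injective
      rw [Functor.map_comp, Functor.map_comp]
      exact small.w) small
  have hSch := hOver.map (Over.forget S)
  have hFO := isFirstOrderThickening_baseChange (pullback.snd snd c).left sO.left r₀.left h₀.left
    ⟨hthO, hsO⟩ hSch.flip
  haveI : IsClosedImmersion (pullback.snd snd c).left := hFO.1.1
  refine ⟨U₀.left, (pullback snd c).left, c.left, (pullback.snd snd c).left,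
    (pullback.fst snd c).left, inferInstance, ⟨u₀, hcv⟩, ?_, inferInstance, hFO.2⟩
  rw [← Over.comp_left, ← Over.comp_left, pullback.condition]

/-- first order thickenings of algebraic spaces are stable under arbitrary base change. -/
theorem isFOThickMor_of_isPullback {F G F' G' : AlgSp.Sp S} (hG : AlgSp.IsAlgSpace G) {i : F ⟶ G}
    (hi : AlgSp.IsFOThickMor i) {i' : F' ⟶ G'} {p : F' ⟶ F} {g : G' ⟶ G}
    (sq : IsPullback p i' i g) : AlgSp.IsFOThickMor i' := by
  refine ⟨MorphismProperty.of_isPullback (P := AlgSp.RepWith AlgSp.thick) sq hi.1, ?_⟩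
  intro V W b fst snd hV _ psq
  exact sqZero_of_isPullback hG i hi hV (b ≫ g) (fst ≫ p) snd (psq.paste_horiz sq)

end Groth.Agent.Lib.T2H1.FOThickBC
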