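import Groth.Agent.Lib.T2H1SmoothTorSch2
import Groth.Agent.Lib.T2H7BlowPerf

/-!
# Factoring a finite type morphism of finite tor dimension, on affine charts, as a closed
immersion of finite tor dimension followed by a smooth morphism (T2H1)
-/

set_option autoImplicit false
set_option linter.style.haveILetI false
universe u
open CategoryTheory CategoryTheory.Limits AlgebraicGeometry

attribute [local instance] HasDerivedCategory.standard

namespace Groth.Agent.Lib.T2H1.FactorSmooth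

open Groth.Agent.Lib.T2H1.SmoothTor Groth.Agent.Lib.T2H1.SmoothTorSch

variable {X Y : Scheme.{u}}

/-- finite tor dimension gives a bound on the tor dimension -/
theorem exists_hasTorDimLE_of_hasFiniteTorDim (f : X ⟶ Y) (hf : DerSch.HasFiniteTorDim f) :
    ∃ d : ℕ, DerSch.HasTorDimLE f d := by
  obtain ⟨a, b, hab⟩ := hf
  refine ⟨(-a).toNat, ?_⟩
  rw [hasTorDimLE_iff]
  intro x
  letI : Algebra (Y.presheaf.stalk (f.base x)) (X.presheaf.stalk x) :=
    (f.stalkMap x).hom.toAlgebra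
  exact Groth.Agent.Lib.T2H7.PerfHom.hasTorDimLE_of_hasTorAmp _ a b
    (Groth.Agent.Lib.Helper1.Tor.hasTorAmp_of_iso (unitStalkIso f x) (hab x))

/-- tor dimension is not changed by restricting to an open subscheme of the source -/
theorem hasTorDimLE_comp_of_isOpenImmersion {U : Scheme.{u}} (j : U ⟶ X) [IsOpenImmersion j]
    (f : X ⟶ Y) (d : ℕ) (h : DerSch.HasTorDimLE f d) : DerSch.HasTorDimLE (j ≫ f) d := by
  rw [hasTorDimLE_iff] at h ⊢
  intro x'
  have h1 := h (j x')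
  have key : ((j ≫ f).stalkMap x').hom = (f.stalkMap (j x') ≫ j.stalkMap x').hom :=
    congrArg CommRingCat.Hom.hom (Scheme.Hom.stalkMap_comp j f x')
  refine hasTorDimLE_congr_hom _ _ key.symm d ?_
  letI i1 : Algebra (Y.presheaf.stalk (f.base (j x'))) (X.presheaf.stalk (j x')) :=
    (f.stalkMap (j x')).hom.toAlgebra
  letI i2 : Algebra (Y.presheaf.stalk (f.base (j x'))) (U.presheaf.stalk x') :=
    (f.stalkMap (j x') ≫ j.stalkMap x').hom.toAlgebra
  let e : X.presheaf.stalk (j x') ≃+* U.presheaf.stalk x' :=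
    (asIso (j.stalkMap x')).commRingCatIsoToRingEquiv
  let e' : X.presheaf.stalk (j x') ≃ₗ[Y.presheaf.stalk (f.base (j x'))] U.presheaf.stalk x' :=
    { e with
      map_smul' := fun r m => by
        show e ((f.stalkMap (j x')).hom r * m) =
          (f.stalkMap (j x') ≫ j.stalkMap x').hom r * e m
        rw [map_mul]
        rfl }
  exact Groth.Agent.Lib.T2H7.FtdOpen.hasTorDimLE_of_linearEquiv e' d h1

/-- the structure map of affine space over an affine open `V` of `Y`, composed with the inclusion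
of `V`, has charts along which tor dimension shifts by at most `n` -/
theorem chartTorShift_affineSpace {V : Y.Opens} (hV : IsAffineOpen V) (n : ℕ) :
    ChartTorShift (Spec.map (CommRingCat.ofHom
      (MvPolynomial.C : Γ(Y, V) →+* MvPolynomial (Fin n) Γ(Y, V))) ≫ hV.fromSpec) n := by
  intro w
  set c : Γ(Y, V) ⟶ CommRingCat.of (MvPolynomial (Fin n) Γ(Y, V)) :=
    CommRingCat.ofHom (MvPolynomial.C : Γ(Y, V) →+* MvPolynomial (Fin n) Γ(Y, V)) with hc
  have e1 : (⊤ : (Spec Γ(Y, V)).Opens) ≤ hV.fromSpec ⁻¹ᵁ V := by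
    rw [hV.fromSpec_preimage_self]
  have e2 : (⊤ : (Spec (CommRingCat.of (MvPolynomial (Fin n) Γ(Y, V)))).Opens) ≤
      (Spec.map c) ⁻¹ᵁ ⊤ := le_rfl
  have e : (⊤ : (Spec (CommRingCat.of (MvPolynomial (Fin n) Γ(Y, V)))).Opens) ≤
      (Spec.map c ≫ hV.fromSpec) ⁻¹ᵁ V := fun x _ => by
    show (Spec.map c ≫ hV.fromSpec) x ∈ V
    rw [Scheme.Hom.comp_apply]
    exact e1 (Set.mem_univ _)
  refine ⟨V, hV, ⊤, isAffineOpen_top _, trivial, e, ?_⟩
  have happ : (Spec.map c ≫ hV.fromSpec).appLE V ⊤ e =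
      c ≫ (Scheme.ΓSpecIso (CommRingCat.of (MvPolynomial (Fin n) Γ(Y, V)))).inv := by
    rw [← Scheme.Hom.appLE_comp_appLE _ _ V ⊤ ⊤ e1 e2,
      Groth.Agent.Lib.T2H7.BlowPerf.fromSpec_appLE_top hV e1, Scheme.ΓSpecIso_inv_naturality]
    congr 1
  letI iAB' : Algebra Γ(Y, V) Γ(Spec (CommRingCat.of (MvPolynomial (Fin n) Γ(Y, V))), ⊤) :=
    ((Spec.map c ≫ hV.fromSpec).appLE V ⊤ e).hom.toAlgebra
  letI iBB' : Algebra (MvPolynomial (Fin n) Γ(Y, V))
      Γ(Spec (CommRingCat.of (MvPolynomial (Fin n) Γ(Y, V))), ⊤) :=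
    (Scheme.ΓSpecIso (CommRingCat.of (MvPolynomial (Fin n) Γ(Y, V)))).inv.hom.toAlgebra
  haveI : IsScalarTower Γ(Y, V) (MvPolynomial (Fin n) Γ(Y, V))
      Γ(Spec (CommRingCat.of (MvPolynomial (Fin n) Γ(Y, V))), ⊤) := by
    refine IsScalarTower.of_algebraMap_eq (fun a => ?_)
    exact congrArg (fun φ => φ.hom a) happ
  refine torShift_of_bijective (B := MvPolynomial (Fin n) Γ(Y, V)) ?_ n (torShift_mvPolynomial _ n)
  exact (ConcreteCategory.isIso_iff_bijective
    (Scheme.ΓSpecIso (CommRingCat.of (MvPolynomial (Fin n) Γ(Y, V)))).inv).1 inferInstance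

/-- **Factorisation**: on affine charts a finite type morphism of finite tor dimension factors
as a closed immersion of finite tor dimension followed by a smooth morphism. -/
theorem exists_factor (f : X ⟶ Y) [LocallyOfFiniteType f] (hf : DerSch.HasFiniteTorDim f)
    (U : X.Opens) (hU : IsAffineOpen U) (V : Y.Opens) (hV : IsAffineOpen V) (hUV : U ≤ f ⁻¹ᵁ V) :
    ∃ (W : Scheme.{u}) (g : (U : Scheme.{u}) ⟶ W) (h : W ⟶ Y),
      IsClosedImmersion g ∧ DerSch.HasFiniteTorDim g ∧ Smooth h ∧ g ≫ h = U.ι ≫ f := by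
  have hft : (f.appLE V U hUV).hom.FiniteType := f.finiteType_appLE hV hU hUV
  letI iAB : Algebra Γ(Y, V) Γ(X, U) := (f.appLE V U hUV).hom.toAlgebra
  haveI : Algebra.FiniteType Γ(Y, V) Γ(X, U) := hft
  obtain ⟨n, π, hπ⟩ := Algebra.FiniteType.iff_quotient_mvPolynomial''.1
    (inferInstance : Algebra.FiniteType Γ(Y, V) Γ(X, U))
  let c : Γ(Y, V) ⟶ CommRingCat.of (MvPolynomial (Fin n) Γ(Y, V)) :=
    CommRingCat.ofHom (MvPolynomial.C : Γ(Y, V) →+* MvPolynomial (Fin n) Γ(Y, V))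
  let π' : CommRingCat.of (MvPolynomial (Fin n) Γ(Y, V)) ⟶ Γ(X, U) :=
    CommRingCat.ofHom π.toRingHom
  have hcπ : c ≫ π' = f.appLE V U hUV := by
    ext a
    show π (MvPolynomial.C a) = (f.appLE V U hUV).hom a
    rw [← MvPolynomial.algebraMap_eq, π.commutes]
    rfl
  let g : (U : Scheme.{u}) ⟶ Spec (CommRingCat.of (MvPolynomial (Fin n) Γ(Y, V))) :=
    hU.isoSpec.hom ≫ Spec.map π'
  let h : Spec (CommRingCat.of (MvPolynomial (Fin n) Γ(Y, V))) ⟶ Y := Spec.map c ≫ hV.fromSpec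
  have hgh : g ≫ h = U.ι ≫ f := by
    show (hU.isoSpec.hom ≫ Spec.map π') ≫ Spec.map c ≫ hV.fromSpec = U.ι ≫ f
    rw [Category.assoc, ← Category.assoc (Spec.map π'), ← Spec.map_comp, hcπ,
      IsAffineOpen.SpecMap_appLE_fromSpec f hV hU hUV, ← Category.assoc, hU.isoSpec_hom_fromSpec]
  haveI : IsClosedImmersion (Spec.map π') := IsClosedImmersion.spec_of_surjective π' hπ
  have hcl : IsClosedImmersion g := inferInstance
  haveI : Smooth (Spec.map c) := by
    rw [HasRingHomProperty.Spec_iff (P := @Smooth)]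
    show (algebraMap Γ(Y, V) (MvPolynomial (Fin n) Γ(Y, V))).Smooth
    rw [RingHom.smooth_algebraMap]
    exact ⟨inferInstance, inferInstance⟩
  have hsm : Smooth h := inferInstance
  obtain ⟨d, hd⟩ := exists_hasTorDimLE_of_hasFiniteTorDim f hf
  have hd' : DerSch.HasTorDimLE (g ≫ h) d := by
    rw [hgh]
    exact hasTorDimLE_comp_of_isOpenImmersion U.ι f d hd
  have hg : DerSch.HasTorDimLE g (d + n) :=
    hasTorDimLE_of_comp g h n d (chartTorShift_affineSpace hV n) hd'
  exact ⟨_, g, h, hcl, ⟨_, _, hg⟩, hsm, hgh⟩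

end Groth.Agent.Lib.T2H1.FactorSmooth
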