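import Mathlib
import Groth.Agent.Lib.T2H1Spread
import Groth.Agent.Lib.Helper3ShN
import Groth.Agent.Lib.Helper3HzP

/-!
# Spreading out the stages of the strict henselization to étale neighbourhoods (helper1)
-/

set_option autoImplicit false
universe u
open CategoryTheory AlgebraicGeometry IsLocalRing

namespace Groth.Agent.Lib.T2H1.SpreadSh

open Groth.Agent.Lib.Helper3 Groth.Agent.Lib.T2H1.Spread

section Ring

attribute [local instance] MvPolynomial.algebraMvPolynomial

/-- spreading out the localization `L` at a prime of an étale algebra (given by a presentation)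
over a localization `A = C_𝔭` to an étale `C`-algebra. -/
theorem exists_etale_descent_gen {C : Type u} [CommRing C] (𝔭 : Ideal C) [𝔭.IsPrime] (A : Type u)
    [CommRing A] [Algebra C A] [IsLocalization.AtPrime A 𝔭] (n : ℕ)
    (J : Ideal (MvPolynomial (Fin n) A)) [hJet : Algebra.Etale A (MvPolynomial (Fin n) A ⧸ J)]
    (q : Ideal (MvPolynomial (Fin n) A ⧸ J)) [hqp : q.IsPrime]
    (L : Type u) [CommRing L] [IsLocalRing L] [Algebra (MvPolynomial (Fin n) A ⧸ J) L]
    [Algebra A L] [IsScalarTower A (MvPolynomial (Fin n) A ⧸ J) L] [IsLocalization.AtPrime L q] :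
    ∃ (D : Type u) (_ : CommRing D) (_ : Algebra C D) (ψ : D →+* L),
      Algebra.Etale C D ∧
      ψ.comp (algebraMap C D) = (algebraMap A L).comp (algebraMap C A) ∧
      (letI := ψ.toAlgebra; IsLocalization.AtPrime L ((maximalIdeal L).comap ψ)) := by
  classical
  -- the ideal of the presentation is finitely generated
  have hJfg : J.FG := by
    haveI : Algebra.FinitePresentation A (MvPolynomial (Fin n) A ⧸ J) :=
      Algebra.Etale.finitePresentation
    have := Algebra.FinitePresentation.ker_fG_of_surjective (Ideal.Quotient.mkₐ A J)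
      (Ideal.Quotient.mkₐ_surjective A J)
    have h2 : RingHom.ker (Ideal.Quotient.mkₐ A J).toRingHom = J := Ideal.mk_ker
    rwa [h2] at this
  obtain ⟨J', hJ'fg, hJ'⟩ := exists_fg_ideal_map_eq 𝔭.primeCompl A n J hJfg
  let φ : MvPolynomial (Fin n) C →+* MvPolynomial (Fin n) A :=
    MvPolynomial.map (algebraMap C A)
  have hle : J' ≤ J.comap φ := by rw [← Ideal.map_le_iff_le_comap, hJ']
  let θ₀ : (MvPolynomial (Fin n) C ⧸ J') →+* (MvPolynomial (Fin n) A ⧸ J) :=
    Ideal.quotientMap J φ hle
  -- `(MvPolynomial (Fin n) A ⧸ J)` is a localization of `B'`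
  have hloc0 : @IsLocalization (MvPolynomial (Fin n) C ⧸ J') _
      ((𝔭.primeCompl.map (MvPolynomial.C (σ := Fin n))).map (Ideal.Quotient.mk J'))
      (MvPolynomial (Fin n) A ⧸ J) _ θ₀.toAlgebra := by
    letI := θ₀.toAlgebra
    refine IsLocalization.of_surjective (𝔭.primeCompl.map (MvPolynomial.C (σ := Fin n)))
      (MvPolynomial (Fin n) A) (Ideal.Quotient.mk J') Ideal.Quotient.mk_surjective
      (Ideal.Quotient.mk J) Ideal.Quotient.mk_surjective ?_ ?_
    · rfl
    · rw [Ideal.mk_ker, Ideal.mk_ker, MvPolynomial.algebraMap_def, hJ']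
  let θ : (MvPolynomial (Fin n) C ⧸ J') →+* (MvPolynomial (Fin n) A ⧸ J) := θ₀
  letI algB'C : Algebra (MvPolynomial (Fin n) C ⧸ J') (MvPolynomial (Fin n) A ⧸ J) := θ.toAlgebra
  haveI hloc1 : IsLocalization
      ((𝔭.primeCompl.map (MvPolynomial.C (σ := Fin n))).map (Ideal.Quotient.mk J')) (MvPolynomial (Fin n) A ⧸ J) := hloc0
  -- `L` as an algebra over `B'`
  letI algB'L : Algebra (MvPolynomial (Fin n) C ⧸ J') L :=
    ((algebraMap (MvPolynomial (Fin n) A ⧸ J) L).comp θ).toAlgebra
  haveI tow1 : IsScalarTower (MvPolynomial (Fin n) C ⧸ J') (MvPolynomial (Fin n) A ⧸ J) L :=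
    IsScalarTower.of_algebraMap_eq (fun _ => rfl)
  let Q' : Ideal (MvPolynomial (Fin n) C ⧸ J') :=
    q.comap (algebraMap (MvPolynomial (Fin n) C ⧸ J') (MvPolynomial (Fin n) A ⧸ J))
  haveI hQ' : Q'.IsPrime := Ideal.comap_isPrime _ _
  haveI hloc2 : IsLocalization.AtPrime L Q' :=
    IsLocalization.isLocalization_isLocalization_atPrime_isLocalization
      ((𝔭.primeCompl.map (MvPolynomial.C (σ := Fin n))).map (Ideal.Quotient.mk J')) L q
  -- the `C`-algebra structure on `L`
  letI algCL : Algebra C L := ((algebraMap A L).comp (algebraMap C A)).toAlgebra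
  haveI tow2 : IsScalarTower C A L := IsScalarTower.of_algebraMap_eq (fun _ => rfl)
  haveI tow3 : IsScalarTower C (MvPolynomial (Fin n) C ⧸ J') L := by
    suffices key : ∀ c : C, algebraMap C L c =
        algebraMap (MvPolynomial (Fin n) C ⧸ J') L
          (algebraMap C (MvPolynomial (Fin n) C ⧸ J') c) from
      IsScalarTower.of_algebraMap_eq key
    intro c
    show algebraMap A L (algebraMap C A c) =
      algebraMap (MvPolynomial (Fin n) A ⧸ J) L (θ (algebraMap C (MvPolynomial (Fin n) C ⧸ J') c))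
    have h1 : θ (algebraMap C (MvPolynomial (Fin n) C ⧸ J') c) = algebraMap A (MvPolynomial (Fin n) A ⧸ J) (algebraMap C A c) := by
      show Ideal.quotientMap J φ hle (Ideal.Quotient.mk J' (MvPolynomial.C c)) = _
      rw [Ideal.quotientMap_mk]
      show Ideal.Quotient.mk J (MvPolynomial.map (algebraMap C A) (MvPolynomial.C c)) = _
      rw [MvPolynomial.map_C]
      rfl
    rw [h1, ← IsScalarTower.algebraMap_apply A (MvPolynomial (Fin n) A ⧸ J) L]
  -- `B'` is étale over `C` at `Q'`
  haveI hfe : Algebra.FormallyEtale C L := by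
    haveI : Algebra.FormallyEtale C A := Algebra.FormallyEtale.of_isLocalization 𝔭.primeCompl
    haveI : Algebra.FormallyEtale (MvPolynomial (Fin n) A ⧸ J) L :=
      Algebra.FormallyEtale.of_isLocalization q.primeCompl
    haveI : Algebra.FormallyEtale A L :=
      Algebra.FormallyEtale.comp A (MvPolynomial (Fin n) A ⧸ J) L
    exact Algebra.FormallyEtale.comp C A L
  haveI hEtAt : Algebra.IsEtaleAt C Q' := by
    let e₁ : Localization.AtPrime Q' ≃ₐ[MvPolynomial (Fin n) C ⧸ J'] L :=
      IsLocalization.algEquiv Q'.primeCompl _ _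
    exact Algebra.FormallyEtale.of_equiv (e₁.symm.restrictScalars C)
  haveI : Algebra.FinitePresentation C (MvPolynomial (Fin n) C ⧸ J') :=
    Algebra.FinitePresentation.quotient hJ'fg
  obtain ⟨f, hfQ', hfet⟩ := Algebra.exists_etale_of_isEtaleAt (R := C) Q'
  have hfu : IsUnit (algebraMap (MvPolynomial (Fin n) C ⧸ J') L f) :=
    IsLocalization.map_units L (⟨f, hfQ'⟩ : Q'.primeCompl)
  let ψ : Localization.Away f →+* L := IsLocalization.Away.lift f hfu
  have hψ : ψ.comp (algebraMap (MvPolynomial (Fin n) C ⧸ J') (Localization.Away f)) =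
      algebraMap (MvPolynomial (Fin n) C ⧸ J') L := IsLocalization.Away.lift_comp f hfu
  refine ⟨Localization.Away f, inferInstance, inferInstance, ψ, hfet, ?_, ?_⟩
  · rw [IsScalarTower.algebraMap_eq C (MvPolynomial (Fin n) C ⧸ J') (Localization.Away f),
      ← RingHom.comp_assoc, hψ]
    exact (IsScalarTower.algebraMap_eq C (MvPolynomial (Fin n) C ⧸ J') L).symm
  · letI algDL : Algebra (Localization.Away f) L := ψ.toAlgebra
    haveI tow4 : IsScalarTower (MvPolynomial (Fin n) C ⧸ J') (Localization.Away f) L :=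
      IsScalarTower.of_algebraMap_eq (fun b => (congrArg (fun g => g b) hψ).symm)
    haveI h1 : IsLocalization (Q'.primeCompl.map
        (algebraMap (MvPolynomial (Fin n) C ⧸ J') (Localization.Away f))) L :=
      IsLocalization.isLocalization_of_submonoid_le (Localization.Away f) L
        (Submonoid.powers f) Q'.primeCompl
        (by
          rw [Submonoid.powers_le]
          exact hfQ')
    have hcomap : ((maximalIdeal L).comap ψ).comap
        (algebraMap (MvPolynomial (Fin n) C ⧸ J') (Localization.Away f)) = Q' := by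
      rw [Ideal.comap_comap, hψ]
      exact IsLocalization.AtPrime.comap_maximalIdeal L Q'
    haveI : ((maximalIdeal L).comap ψ).IsPrime := Ideal.comap_isPrime _ _
    refine IsLocalization.of_le (M := Q'.primeCompl.map
        (algebraMap (MvPolynomial (Fin n) C ⧸ J') (Localization.Away f))) (S := L)
      ((maximalIdeal L).comap ψ).primeCompl ?_ ?_
    · rintro _ ⟨b, hb, rfl⟩ hmem
      apply hb
      rw [← hcomap]
      exact hmem
    · intro r hr
      have : ψ r ∉ maximalIdeal L := hr
      rw [IsLocalRing.mem_maximalIdeal, mem_nonunits_iff, not_not] at this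
      exact this

end Ring

noncomputable section Scheme

set_option backward.isDefEq.respectTransparency.types false in
/-- the local ring of `Spec D` at a prime `u` is any localization of `D` at `u`. -/
theorem stalk_spec_ringEquiv (D : Type u) [CommRing D] (u : Spec (CommRingCat.of D))
    (L : Type u) [CommRing L] (ψ : D →+* L)
    (hloc : letI := ψ.toAlgebra; IsLocalization.AtPrime L u.asIdeal) :
    Nonempty (L ≃+* (Spec (CommRingCat.of D)).presheaf.stalk u) := by
  letI algDL : Algebra D L := ψ.toAlgebra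
  haveI := hloc
  letI algDO : Algebra D ((Spec (CommRingCat.of D)).presheaf.stalk u) :=
    StructureSheaf.stalkAlgebra (R := D) u
  haveI : IsLocalization.AtPrime ((Spec (CommRingCat.of D)).presheaf.stalk u) u.asIdeal :=
    StructureSheaf.IsLocalization.to_stalk (R := D) u
  let e : L ≃ₐ[D] (Spec (CommRingCat.of D)).presheaf.stalk u :=
    IsLocalization.algEquiv u.asIdeal.primeCompl _ _
  exact ⟨e.toRingEquiv⟩

/-- **every stage of the strict henselization of `O_{X,x}` is the local ring of an étale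
neighbourhood of `(X, x)`.** -/
theorem exists_etale_nbhd_of_shIdx (X : Scheme.{u}) (x : X) {Ω : Type u} [Field Ω]
    [Algebra (X.presheaf.stalk x) Ω] (i : Sh.Idx (X.presheaf.stalk x) Ω) :
    ∃ (U : Scheme.{u}) (g : U ⟶ X) (u : U), Etale g ∧ g u = x ∧
      Nonempty (i.L ≃+* U.presheaf.stalk u) := by
  obtain ⟨_, ⟨W₀, hW₀, rfl⟩, hxW₀, -⟩ := X.isBasis_affineOpens.exists_subset_of_mem_open
    (Set.mem_univ x) isOpen_univ
  obtain ⟨W, hWW₀⟩ : ∃ W : X.Opens, W = W₀ := ⟨W₀, rfl⟩
  have hW : IsAffineOpen W := hWW₀ ▸ hW₀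
  have hxW : x ∈ W := hWW₀ ▸ hxW₀
  letI algCA : Algebra Γ(X, W) (X.presheaf.stalk x) :=
    X.presheaf.algebra_section_stalk ⟨x, hxW⟩
  haveI hlocA := hW.isLocalization_stalk ⟨x, hxW⟩
  haveI : Algebra.Etale (X.presheaf.stalk x)
      (MvPolynomial (Fin i.n) (X.presheaf.stalk x) ⧸ i.J) := i.etale
  haveI : i.q.IsPrime := i.prime
  letI : Algebra (MvPolynomial (Fin i.n) (X.presheaf.stalk x) ⧸ i.J) i.L :=
    inferInstanceAs (Algebra i.C i.L)
  haveI : IsScalarTower (X.presheaf.stalk x)
      (MvPolynomial (Fin i.n) (X.presheaf.stalk x) ⧸ i.J) i.L :=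
    inferInstanceAs (IsScalarTower (X.presheaf.stalk x) i.C i.L)
  haveI : IsLocalization.AtPrime i.L i.q :=
    inferInstanceAs (IsLocalization.AtPrime i.L i.Q)
  obtain ⟨D, _, _, ψ, hEt, hψ, hloc⟩ :=
    exists_etale_descent_gen (hW.primeIdealOf ⟨x, hxW⟩).asIdeal (X.presheaf.stalk x)
      i.n i.J i.q i.L
  haveI := hEt
  haveI hprime : ((maximalIdeal i.L).comap ψ).IsPrime := Ideal.comap_isPrime _ _
  let u : Spec (CommRingCat.of D) := ⟨(maximalIdeal i.L).comap ψ, hprime⟩
  have hgu : (nbhdMap hW D) u = x := by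
    have h1 : (Spec.map (CommRingCat.ofHom (algebraMap Γ(X, W) D))) u =
        hW.primeIdealOf ⟨x, hxW⟩ := by
      apply PrimeSpectrum.ext
      show ((maximalIdeal i.L).comap ψ).comap (algebraMap Γ(X, W) D) = _
      rw [Ideal.comap_comap, hψ, ← Ideal.comap_comap]
      have h2 : (maximalIdeal i.L).comap (algebraMap (X.presheaf.stalk x) i.L) =
          maximalIdeal (X.presheaf.stalk x) :=
        ((IsLocalRing.local_hom_TFAE (algebraMap (X.presheaf.stalk x) i.L)).out 0 4).mp
          (Sh.Idx.isLocalHom i)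
      rw [h2]
      exact IsLocalization.AtPrime.comap_maximalIdeal (X.presheaf.stalk x)
        (hW.primeIdealOf ⟨x, hxW⟩).asIdeal
    show hW.fromSpec ((Spec.map (CommRingCat.ofHom (algebraMap Γ(X, W) D))) u) = x
    rw [h1]
    exact hW.fromSpec_primeIdealOf ⟨x, hxW⟩
  exact ⟨Spec (CommRingCat.of D), nbhdMap hW D, u, inferInstance, hgu,
    stalk_spec_ringEquiv D u i.L ψ hloc⟩

end Scheme

end Groth.Agent.Lib.T2H1.SpreadSh
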