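import Mathlib
import Groth.Agent.Lib.T2H1SpreadSh
import Groth.Agent.Lib.T2H1BranchCount
import Groth.Agent.Lib.Helper3ShF
import Groth.Agent.S9238

/-!
# Counting minimal primes in the stages of the strict henselization (helper1)
-/

set_option autoImplicit false
universe u
open CategoryTheory AlgebraicGeometry IsLocalRing

namespace Groth.Agent.Lib.T2H1.GeomBranchCount

open Groth.Agent.Lib.Helper3 Groth.Agent.Lib.Helper3.Sh Groth.Agent.Lib.T2H1.BranchCount

section K

variable {A : Type u} [CommRing A] [IsLocalRing A] {Ω : Type u} [Field Ω] [Algebra A Ω]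
  [Algebra (ResidueField A) Ω] [IsScalarTower A (ResidueField A) Ω]

/-- finitely many elements of `Rsh A Ω` come from a common stage (finset version) -/
lemma exists_ofL_finset (S : Finset (Rsh A Ω)) :
    ∃ i : Idx A Ω, ∀ z ∈ S, ∃ x : i.L, ofL i x = z := by
  classical
  obtain ⟨i, x', hx'⟩ :=
    exists_ofL_fin (fun k : Fin S.card => ((S.equivFin.symm k : S) : Rsh A Ω))
  refine ⟨i, fun z hz => ⟨x' (S.equivFin ⟨z, hz⟩), ?_⟩⟩
  rw [hx']
  simp

variable [IsSepClosure (ResidueField A) Ω]

/-- every stage injects into the strict henselization. -/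
lemma ofL_injective (i : Idx A Ω) : Function.Injective (ofL i) := by
  letI := (ofL i).toAlgebra
  haveI : Module.Flat i.L (Rsh A Ω) := flat_over_L i
  haveI : IsLocalHom (algebraMap i.L (Rsh A Ω)) := inferInstanceAs (IsLocalHom (ofL i))
  haveI : Module.FaithfullyFlat i.L (Rsh A Ω) := Module.FaithfullyFlat.of_flat_of_isLocalHom
  exact FaithfulSMul.algebraMap_injective i.L (Rsh A Ω)

/-- if the strict henselization has at least `k` minimal primes, so does some stage. -/
theorem exists_idx_le_encard_minimalPrimes (k : ℕ)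
    (hk : (k : ℕ∞) ≤ (minimalPrimes (Rsh A Ω)).encard) :
    ∃ i : Idx A Ω, (k : ℕ∞) ≤ (minimalPrimes i.L).encard := by
  classical
  obtain ⟨t, ht, htk⟩ := Set.exists_subset_encard_eq hk
  have htfin : t.Finite := Set.finite_of_encard_eq_coe htk
  have hsep : ∀ a ∈ t, ∀ b ∈ t, a ≠ b → ∃ f : Rsh A Ω, f ∈ a ∧ f ∉ b := by
    intro a ha b hb hab
    by_contra hcon
    push_neg at hcon
    have hle : a ≤ b := fun f hf => hcon f hf
    have hge := (ht hb).2 ⟨(ht ha).1.1, bot_le⟩ hle
    exact hab (le_antisymm hle hge)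
  choose! F hF using hsep
  let S : Finset (Rsh A Ω) := (htfin.toFinset ×ˢ htfin.toFinset).image (fun p => F p.1 p.2)
  obtain ⟨i, hi⟩ := exists_ofL_finset S
  refine ⟨i, ?_⟩
  letI := (ofL i).toAlgebra
  haveI : Module.Flat i.L (Rsh A Ω) := flat_over_L i
  have hmaps : ∀ a ∈ t, a.comap (ofL i) ∈ minimalPrimes i.L := fun a ha =>
    comap_mem_minimalPrimes_of_flat (R := i.L) (S := Rsh A Ω) (ht ha)
  have hinj : Set.InjOn (Ideal.comap (ofL i)) t := by
    intro a ha b hb hab
    by_contra hne
    obtain ⟨hfa, hfb⟩ := hF a ha b hb hne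
    obtain ⟨x, hx⟩ := hi (F a b) (by
      simp only [S, Finset.mem_image, Finset.mem_product, Set.Finite.mem_toFinset]
      exact ⟨(a, b), ⟨ha, hb⟩, rfl⟩)
    have hxa : x ∈ a.comap (ofL i) := by
      rw [Ideal.mem_comap, hx]
      exact hfa
    rw [hab, Ideal.mem_comap, hx] at hxa
    exact hfb hxa
  calc (k : ℕ∞) = t.encard := htk.symm
    _ = (Ideal.comap (ofL i) '' t).encard := (hinj.encard_image).symm
    _ ≤ (minimalPrimes i.L).encard :=
        Set.encard_le_encard (by rintro _ ⟨a, ha, rfl⟩; exact hmaps a ha)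

variable (A Ω) in
/-- the number of geometric branches is the number of minimal primes of the strict
henselization. -/
theorem numGeomBranches_eq_encard :
    Brnch.numGeomBranches A = (minimalPrimes (Rsh A Ω)).encard :=
  (Groth.Agent.S9238.result A (Rsh A Ω)).symm

end K

section Branches

variable (A : Type u) [CommRing A] [IsLocalRing A]

/-- an essentially étale local algebra has at most as many minimal primes as the base has
geometric branches. -/
theorem encard_minimalPrimes_le_numGeomBranches_of_isEssentiallyEtale (A' : Type u) [CommRing A']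
    [IsLocalRing A'] [Algebra A A'] [IsLocalHom (algebraMap A A')]
    (h : EGA4loc.IsEssentiallyEtale A A') :
    (minimalPrimes A').encard ≤ Brnch.numGeomBranches A := by
  let Ω := SeparableClosure (ResidueField A)
  letI : Algebra A Ω := ((algebraMap (ResidueField A) Ω).comp (residue A)).toAlgebra
  haveI : IsScalarTower A (ResidueField A) Ω := IsScalarTower.of_algebraMap_eq (fun _ => rfl)
  haveI : Algebra.EssFiniteType A A' := EssEt.essFiniteType_of_isEssentiallyEtale A A' h
  haveI : Algebra.FormallyEtale A A' := EssEt.formallyEtale_of_isEssentiallyEtale A A' h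
  haveI : Algebra.IsSeparable (ResidueField A) (ResidueField A') := inferInstance
  let β₀ : ResidueField A' →ₐ[ResidueField A] Ω := IsSepClosed.lift
  let β : ResidueField A' →ₐ[A] Ω := β₀.restrictScalars A
  obtain ⟨C, _, _, q, _, hEt, hq, ⟨e⟩⟩ := h
  obtain ⟨i, e', -⟩ := Sh.exists_idx A' C q hq e β
  rw [numGeomBranches_eq_encard A Ω, encard_minimalPrimes_eq_of_ringEquiv e'.toRingEquiv]
  exact encard_minimalPrimes_le_of_injective (ofL i) (ofL_injective i)

end Branches

section SchemeBranches

/-- an étale neighbourhood has at most as many minimal primes in its local ring as the base point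
has geometric branches. -/
theorem encard_minimalPrimes_stalk_le_numGeomBranchesAt {X U : Scheme.{u}} (g : U ⟶ X) [Etale g]
    (u : U) :
    (minimalPrimes (U.presheaf.stalk u)).encard ≤ Brnch.numGeomBranchesAt X (g u) := by
  letI algAA' : Algebra (X.presheaf.stalk (g u)) (U.presheaf.stalk u) :=
    (g.stalkMap u).hom.toAlgebra
  haveI hlocAA' : IsLocalHom (algebraMap (X.presheaf.stalk (g u)) (U.presheaf.stalk u)) :=
    (inferInstance : IsLocalHom (g.stalkMap u).hom)
  have hess : EGA4loc.IsEssentiallyEtale (X.presheaf.stalk (g u)) (U.presheaf.stalk u) :=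
    Groth.Agent.Lib.T2H1.EssEtStalk.isEssentiallyEtale_stalkMap g u
  exact encard_minimalPrimes_le_numGeomBranches_of_isEssentiallyEtale (X.presheaf.stalk (g u))
    (U.presheaf.stalk u) hess

/-- if `x` has at least `k` geometric branches, some étale neighbourhood has at least `k`
minimal primes in its local ring. -/
theorem exists_etale_nbhd_le_encard (X : Scheme.{u}) (x : X) (k : ℕ)
    (hk : (k : ℕ∞) ≤ Brnch.numGeomBranchesAt X x) :
    ∃ (U : Scheme.{u}) (g : U ⟶ X) (u : U), Etale g ∧ g u = x ∧
      (k : ℕ∞) ≤ (minimalPrimes (U.presheaf.stalk u)).encard := by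
  let Ω := SeparableClosure (ResidueField (X.presheaf.stalk x))
  letI : Algebra (X.presheaf.stalk x) Ω :=
    ((algebraMap (ResidueField (X.presheaf.stalk x)) Ω).comp
      (residue (X.presheaf.stalk x))).toAlgebra
  haveI : IsScalarTower (X.presheaf.stalk x) (ResidueField (X.presheaf.stalk x)) Ω :=
    IsScalarTower.of_algebraMap_eq (fun _ => rfl)
  have hk' : (k : ℕ∞) ≤ (minimalPrimes (Rsh (X.presheaf.stalk x) Ω)).encard := by
    rw [← numGeomBranches_eq_encard]
    exact hk
  obtain ⟨i, hi⟩ := exists_idx_le_encard_minimalPrimes k hk'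
  obtain ⟨U, g, u, hg, hgu, ⟨e⟩⟩ :=
    Groth.Agent.Lib.T2H1.SpreadSh.exists_etale_nbhd_of_shIdx X x i
  exact ⟨U, g, u, hg, hgu, by rwa [← encard_minimalPrimes_eq_of_ringEquiv e]⟩

end SchemeBranches

end Groth.Agent.Lib.T2H1.GeomBranchCount
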