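import Mathlib
import Groth.Prelude.Def_EssEt
import Groth.Prelude.Def_Hensel
import Groth.Prelude.Def_Brnch
import Groth.Prelude.Def_CAlg2
import Groth.Agent.Lib.T2H1GeomBranchCount
import Groth.Agent.Lib.T2H1EssEtStalk
import Groth.Agent.Lib.Helper3GeomUnibranch
import Groth.Agent.Lib.Helper3ShN
import Groth.Agent.S9238
import Groth.Agent.S9236
import Groth.Agent.Lib.Helper4Unibranch

/-!
# Geometric unibranchness and connectedness of the punctured spectrum of the strict henselization
(helper1, team 2)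
-/

set_option autoImplicit false
universe u
open IsLocalRing PrimeSpectrum

namespace Groth.Agent.Lib.T2H1.UnibranchConn

section Top

/-- In a Noetherian local ring with preconnected punctured spectrum and at least two minimal
primes, two distinct minimal primes are contained in a common non-maximal prime. -/
theorem exists_prime_of_preconnected (L : Type*) [CommRing L] [IsLocalRing L] [IsNoetherianRing L]
    (hconn : IsPreconnected ({closedPoint L}ᶜ : Set (PrimeSpectrum L)))
    (h2 : 1 < (minimalPrimes L).encard) :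
    ∃ (P₁ P₂ 𝔮 : Ideal L), P₁ ∈ minimalPrimes L ∧ P₂ ∈ minimalPrimes L ∧ P₁ ≠ P₂ ∧
      𝔮.IsPrime ∧ 𝔮 ≠ maximalIdeal L ∧ P₁ ≤ 𝔮 ∧ P₂ ≤ 𝔮 := by
  classical
  obtain ⟨P₁, P₂', hP₁, hP₂', hne⟩ := Set.one_lt_encard_iff.mp h2
  have hfin : (minimalPrimes L).Finite := minimalPrimes.finite_of_isNoetherianRing L
  haveI := hP₁.1.1
  haveI := hP₂'.1.1
  have hne_max : ∀ P ∈ minimalPrimes L, ∀ P' ∈ minimalPrimes L, P ≠ P' → P ≠ maximalIdeal L := by
    intro P hP P' hP' hPP' hPm
    have h1 : P' ≤ P := hPm ▸ le_maximalIdeal hP'.1.1.ne_top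
    exact hPP' (le_antisymm (hP.2 ⟨hP'.1.1, bot_le⟩ h1) h1)
  let t : Set (PrimeSpectrum L) := zeroLocus (P₁ : Set L)
  let t' : Set (PrimeSpectrum L) := ⋃ P ∈ (minimalPrimes L \ {P₁}), zeroLocus (P : Set L)
  have ht : IsClosed t := isClosed_zeroLocus _
  have ht' : IsClosed t' :=
    Set.Finite.isClosed_biUnion (hfin.subset Set.diff_subset) (fun P _ => isClosed_zeroLocus _)
  have hcover : ({closedPoint L}ᶜ : Set (PrimeSpectrum L)) ⊆ t ∪ t' := by
    intro x _
    obtain ⟨P, hP, hPx⟩ := Ideal.exists_minimalPrimes_le (I := (⊥ : Ideal L)) (J := x.asIdeal) bot_le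
    by_cases hPP : P = P₁
    · left
      subst hPP
      exact (PrimeSpectrum.mem_zeroLocus _ _).mpr (SetLike.coe_subset_coe.mpr hPx)
    · right
      simp only [t', Set.mem_iUnion]
      exact ⟨P, ⟨hP, hPP⟩, (PrimeSpectrum.mem_zeroLocus _ _).mpr (SetLike.coe_subset_coe.mpr hPx)⟩
  have hpt_ne : ∀ (P : Ideal L) (hP : P.IsPrime), P ≠ maximalIdeal L →
      (⟨P, hP⟩ : PrimeSpectrum L) ∈ ({closedPoint L}ᶜ : Set (PrimeSpectrum L)) := by
    intro P hP hPm h
    apply hPm
    have := congrArg PrimeSpectrum.asIdeal (Set.mem_singleton_iff.mp h)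
    exact this
  have hn1 : (({closedPoint L}ᶜ : Set (PrimeSpectrum L)) ∩ t).Nonempty :=
    ⟨⟨P₁, hP₁.1.1⟩, hpt_ne _ _ (hne_max P₁ hP₁ P₂' hP₂' hne),
      (PrimeSpectrum.mem_zeroLocus _ _).mpr (le_refl _)⟩
  have hn2 : (({closedPoint L}ᶜ : Set (PrimeSpectrum L)) ∩ t').Nonempty := by
    refine ⟨⟨P₂', hP₂'.1.1⟩, hpt_ne _ _ (hne_max P₂' hP₂' P₁ hP₁ hne.symm), ?_⟩
    simp only [t', Set.mem_iUnion]
    exact ⟨P₂', ⟨hP₂', fun h => hne h.symm⟩, (PrimeSpectrum.mem_zeroLocus _ _).mpr (le_refl _)⟩
  obtain ⟨x, hxs, hxt, hxt'⟩ := (isPreconnected_closed_iff.mp hconn) t t' ht ht' hcover hn1 hn2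
  simp only [t', Set.mem_iUnion] at hxt'
  obtain ⟨P₂, ⟨hP₂, hP₂ne⟩, hP₂x⟩ := hxt'
  refine ⟨P₁, P₂, x.asIdeal, hP₁, hP₂, fun h => hP₂ne h.symm, x.2, ?_,
    SetLike.coe_subset_coe.mp ((PrimeSpectrum.mem_zeroLocus _ _).mp hxt),
    SetLike.coe_subset_coe.mp ((PrimeSpectrum.mem_zeroLocus _ _).mp hP₂x)⟩
  intro hxm
  apply hxs
  rw [Set.mem_singleton_iff]
  exact PrimeSpectrum.ext hxm

/-- Preconnectedness of the punctured spectrum descends along a faithfully flat local algebra
whose maximal ideal is generated by that of the base. -/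
theorem isPreconnected_punctured_of_faithfullyFlat (L T : Type*) [CommRing L] [IsLocalRing L]
    [CommRing T] [IsLocalRing T] [Algebra L T] [Module.FaithfullyFlat L T]
    (hm : (maximalIdeal L).map (algebraMap L T) = maximalIdeal T)
    (h : IsPreconnected ({closedPoint T}ᶜ : Set (PrimeSpectrum T))) :
    IsPreconnected ({closedPoint L}ᶜ : Set (PrimeSpectrum L)) := by
  have hcomap : (maximalIdeal T).comap (algebraMap L T) = maximalIdeal L := by
    rw [← hm]
    exact Ideal.comap_map_eq_self_of_faithfullyFlat _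
  have himg : (PrimeSpectrum.comap (algebraMap L T)) '' ({closedPoint T}ᶜ) =
      ({closedPoint L}ᶜ : Set (PrimeSpectrum L)) := by
    ext x
    constructor
    · rintro ⟨y, hy, rfl⟩
      intro hx
      apply hy
      rw [Set.mem_singleton_iff] at hx ⊢
      have h1 : y.asIdeal.comap (algebraMap L T) = maximalIdeal L :=
        congrArg PrimeSpectrum.asIdeal hx
      have h2 : maximalIdeal T ≤ y.asIdeal := by
        rw [← hm, Ideal.map_le_iff_le_comap, h1]
      exact PrimeSpectrum.ext
        ((IsLocalRing.maximalIdeal.isMaximal T).eq_of_le y.2.ne_top h2).symm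
    · intro hx
      obtain ⟨y, rfl⟩ := PrimeSpectrum.comap_surjective_of_faithfullyFlat (A := L) (B := T) x
      refine ⟨y, ?_, rfl⟩
      intro hy
      apply hx
      rw [Set.mem_singleton_iff] at hy ⊢
      rw [hy]
      exact PrimeSpectrum.ext hcomap
  rw [← himg]
  exact h.image _ (PrimeSpectrum.continuous_comap _).continuousOn

end Top

section Ring

open Groth.Agent.Lib.Helper3 Groth.Agent.Lib.Helper3.Sh

/-- the number of geometric branches is invariant under ring isomorphisms. -/
theorem numGeomBranches_eq_of_ringEquiv {A A' : Type u} [CommRing A] [IsLocalRing A]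
    [CommRing A'] [IsLocalRing A'] (e : A ≃+* A') :
    Brnch.numGeomBranches A' = Brnch.numGeomBranches A := by
  let Ω := SeparableClosure (ResidueField A)
  letI : Algebra A Ω := ((algebraMap (ResidueField A) Ω).comp (residue A)).toAlgebra
  haveI : IsScalarTower A (ResidueField A) Ω := IsScalarTower.of_algebraMap_eq (fun _ => rfl)
  haveI hSH : Hensel.IsStrictHenselization A (Rsh A Ω) := inferInstance
  letI algA'T : Algebra A' (Rsh A Ω) :=
    ((algebraMap A (Rsh A Ω)).comp (e.symm : A' →+* A)).toAlgebra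
  have halg : ∀ a', algebraMap A' (Rsh A Ω) a' = algebraMap A (Rsh A Ω) (e.symm a') := fun _ => rfl
  haveI hloc : IsLocalHom (algebraMap A' (Rsh A Ω)) := by
    constructor
    intro a' ha'
    rw [halg] at ha'
    have h1 : IsUnit (e.symm a') := isUnit_of_map_unit (algebraMap A (Rsh A Ω)) _ ha'
    have := h1.map (e : A →+* A')
    simpa using this
  haveI : Hensel.IsStrictHenselization A' (Rsh A Ω) :=
    GeomUnibranch.isStrictHenselization_of_ringEquiv (R := A) (R₂ := A') (S := Rsh A Ω) e
      (fun r => by rw [halg, RingEquiv.symm_apply_apply])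
  rw [← Groth.Agent.S9238.result A (Rsh A Ω), ← Groth.Agent.S9238.result A' (Rsh A Ω)]

variable (R : Type u) [CommRing R] [IsNoetherianRing R]

/-- The hypothesis: at every non-minimal prime, the punctured spectrum of every strict
henselization of the local ring is preconnected. -/
def Hyp : Prop :=
  ∀ (𝔭 : Ideal R) [𝔭.IsPrime], 𝔭 ∉ minimalPrimes R →
    ∀ (T : Type u) [CommRing T] [IsLocalRing T] [Algebra (Localization.AtPrime 𝔭) T]
      [IsLocalHom (algebraMap (Localization.AtPrime 𝔭) T)]
      [Hensel.IsStrictHenselization (Localization.AtPrime 𝔭) T],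
      IsPreconnected ({closedPoint T}ᶜ : Set (PrimeSpectrum T))

variable {R}

/-- If `𝔭` is a minimal prime, the strict henselization of `R_𝔭` has a single prime. -/
theorem encard_minimalPrimes_le_one_of_minimal (𝔭 : Ideal R) [𝔭.IsPrime]
    (h𝔭 : 𝔭 ∈ minimalPrimes R) (T : Type u) [CommRing T] [IsLocalRing T]
    [Algebra (Localization.AtPrime 𝔭) T]
    (hm : (maximalIdeal (Localization.AtPrime 𝔭)).map (algebraMap (Localization.AtPrime 𝔭) T) =
      maximalIdeal T) :
    (minimalPrimes T).encard ≤ 1 := by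
  have hone : ∀ P ∈ minimalPrimes T, P = maximalIdeal T := by
    intro P hP
    haveI := hP.1.1
    let P' : Ideal (Localization.AtPrime 𝔭) := P.comap (algebraMap (Localization.AtPrime 𝔭) T)
    haveI : P'.IsPrime := Ideal.comap_isPrime _ _
    have h1 : P'.under R = 𝔭 := by
      have h0 := IsLocalization.AtPrime.under_maximalIdeal (Localization.AtPrime 𝔭) 𝔭
      have hle : P'.under R ≤ 𝔭 :=
        (Ideal.comap_mono (le_maximalIdeal (Ideal.IsPrime.ne_top inferInstance))).trans h0.le
      exact le_antisymm hle (h𝔭.2 ⟨Ideal.comap_isPrime _ _, bot_le⟩ hle)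
    have h2 : P' = maximalIdeal (Localization.AtPrime 𝔭) := by
      rw [← IsLocalization.map_comap 𝔭.primeCompl (Localization.AtPrime 𝔭) P', h1,
        IsLocalization.AtPrime.map_eq_maximalIdeal]
    have h3 : maximalIdeal T ≤ P := by
      rw [← hm, Ideal.map_le_iff_le_comap]
      exact h2.ge
    exact ((IsLocalRing.maximalIdeal.isMaximal T).eq_of_le hP.1.1.ne_top h3).symm
  have hsub : minimalPrimes T ⊆ {maximalIdeal T} := fun P hP => hone P hP
  calc (minimalPrimes T).encard ≤ ({maximalIdeal T} : Set (Ideal T)).encard :=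
        Set.encard_le_encard hsub
    _ = 1 := Set.encard_singleton _

end Ring

section Induction

open Groth.Agent.Lib.Helper3 Groth.Agent.Lib.Helper3.Sh Groth.Agent.Lib.T2H1

variable {R : Type u} [CommRing R] [IsNoetherianRing R]

set_option maxHeartbeats 1600000 in
/-- Under the hypothesis `Hyp R`, every localization of `R` at a prime is geometrically
unibranch. -/
theorem numGeomBranches_localization_eq_one (hR : Hyp R) (𝔭 : Ideal R) [𝔭.IsPrime] :
    Brnch.numGeomBranches (Localization.AtPrime 𝔭) = 1 := by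
  obtain ⟨n, hn⟩ : ∃ n : ℕ, 𝔭.height = n :=
    (ENat.ne_top_iff_exists.mp (Ideal.height_ne_top_of_isPrime (I := 𝔭))).imp (fun n h => h.symm)
  induction n using Nat.strong_induction_on generalizing 𝔭 with
  | _ n ih =>
  classical
  let Ω := SeparableClosure (ResidueField (Localization.AtPrime 𝔭))
  letI : Algebra (Localization.AtPrime 𝔭) Ω :=
    ((algebraMap (ResidueField (Localization.AtPrime 𝔭)) Ω).comp
      (residue (Localization.AtPrime 𝔭))).toAlgebra
  haveI : IsScalarTower (Localization.AtPrime 𝔭) (ResidueField (Localization.AtPrime 𝔭)) Ω :=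
    IsScalarTower.of_algebraMap_eq (fun _ => rfl)
  rw [GeomBranchCount.numGeomBranches_eq_encard (A := Localization.AtPrime 𝔭) (Ω := Ω)]
  have hge : 1 ≤ (minimalPrimes (Rsh (Localization.AtPrime 𝔭) Ω)).encard := by
    rw [Set.one_le_encard_iff_nonempty]
    obtain ⟨P, hP, -⟩ := Ideal.exists_minimalPrimes_le (I := (⊥ : Ideal _))
      (J := maximalIdeal (Rsh (Localization.AtPrime 𝔭) Ω)) bot_le
    exact ⟨P, hP⟩
  refine le_antisymm ?_ hge
  by_cases hmin : 𝔭 ∈ minimalPrimes R
  · exact encard_minimalPrimes_le_one_of_minimal 𝔭 hmin (Rsh (Localization.AtPrime 𝔭) Ω)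
      Sh.maximalIdeal_eq_map.symm
  · by_contra hnot
    have h2 : 1 < (minimalPrimes (Rsh (Localization.AtPrime 𝔭) Ω)).encard := not_le.mp hnot
    have hconnT := hR 𝔭 hmin (Rsh (Localization.AtPrime 𝔭) Ω)
    have h2' : ((2 : ℕ) : ℕ∞) ≤ (minimalPrimes (Rsh (Localization.AtPrime 𝔭) Ω)).encard := by
      have := Order.add_one_le_of_lt h2
      simpa [one_add_one_eq_two] using this
    obtain ⟨i, hi⟩ := GeomBranchCount.exists_idx_le_encard_minimalPrimes
      (A := Localization.AtPrime 𝔭) (Ω := Ω) 2 h2'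
    letI algLT : Algebra i.L (Rsh (Localization.AtPrime 𝔭) Ω) := (ofL i).toAlgebra
    haveI : Module.Flat i.L (Rsh (Localization.AtPrime 𝔭) Ω) := flat_over_L i
    haveI : IsLocalHom (algebraMap i.L (Rsh (Localization.AtPrime 𝔭) Ω)) :=
      inferInstanceAs (IsLocalHom (ofL i))
    haveI : Module.FaithfullyFlat i.L (Rsh (Localization.AtPrime 𝔭) Ω) :=
      Module.FaithfullyFlat.of_flat_of_isLocalHom
    have hconnL : IsPreconnected ({closedPoint i.L}ᶜ : Set (PrimeSpectrum i.L)) :=
      isPreconnected_punctured_of_faithfullyFlat i.L (Rsh (Localization.AtPrime 𝔭) Ω)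
        (map_maximalIdeal_L i) hconnT
    haveI : IsNoetherianRing (Localization.AtPrime 𝔭) :=
      IsLocalization.isNoetherianRing 𝔭.primeCompl _ inferInstance
    haveI : IsNoetherianRing i.L := inferInstance
    have h2L : 1 < (minimalPrimes i.L).encard := lt_of_lt_of_le (by norm_num) hi
    obtain ⟨P₁, P₂, 𝔮, hP₁, hP₂, hne, h𝔮, h𝔮m, h1𝔮, h2𝔮⟩ :=
      exists_prime_of_preconnected i.L hconnL h2L
    haveI := h𝔮
    let 𝔮C : Ideal i.C := 𝔮.comap (algebraMap i.C i.L)
    haveI : 𝔮C.IsPrime := Ideal.comap_isPrime _ _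
    let 𝔮B : Ideal (Localization.AtPrime 𝔭) := 𝔮C.comap (algebraMap (Localization.AtPrime 𝔭) i.C)
    haveI : 𝔮B.IsPrime := Ideal.comap_isPrime _ _
    let 𝔮₀ : Ideal R := 𝔮B.comap (algebraMap R (Localization.AtPrime 𝔭))
    haveI : 𝔮₀.IsPrime := Ideal.comap_isPrime _ _
    have h𝔮B_eq : 𝔮B = 𝔮.comap (algebraMap (Localization.AtPrime 𝔭) i.L) := by
      rw [IsScalarTower.algebraMap_eq (Localization.AtPrime 𝔭) i.C i.L, ← Ideal.comap_comap]
    have h𝔮B_ne : 𝔮B ≠ maximalIdeal (Localization.AtPrime 𝔭) := by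
      intro h
      apply h𝔮m
      have h3 : maximalIdeal i.L ≤ 𝔮 := by
        rw [← EssEt.map_maximalIdeal (Localization.AtPrime 𝔭) i.L i.isEssentiallyEtale,
          Ideal.map_le_iff_le_comap, ← h𝔮B_eq, h]
      exact ((IsLocalRing.maximalIdeal.isMaximal i.L).eq_of_le h𝔮.ne_top h3).symm
    have h𝔮₀_lt : 𝔮₀ < 𝔭 := by
      have h0 := IsLocalization.AtPrime.under_maximalIdeal (Localization.AtPrime 𝔭) 𝔭
      have hle : 𝔮₀ ≤ 𝔭 :=
        (Ideal.comap_mono (le_maximalIdeal (Ideal.IsPrime.ne_top inferInstance))).trans h0.le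
      refine lt_of_le_of_ne hle ?_
      intro heq
      apply h𝔮B_ne
      rw [← IsLocalization.map_comap 𝔭.primeCompl (Localization.AtPrime 𝔭) 𝔮B]
      change Ideal.map _ 𝔮₀ = _
      rw [heq, IsLocalization.AtPrime.map_eq_maximalIdeal]
    have hht : 𝔮₀.height < 𝔭.height := Ideal.height_strict_mono_of_isPrime_of_isPrime h𝔮₀_lt
    obtain ⟨m, hm⟩ : ∃ m : ℕ, 𝔮₀.height = m :=
      (ENat.ne_top_iff_exists.mp (Ideal.height_ne_top_of_isPrime (I := 𝔮₀))).imp
        (fun n h => h.symm)
    have hmn : m < n := by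
      rw [hn, hm] at hht
      exact_mod_cast hht
    have ih𝔮₀ := ih m hmn 𝔮₀ hm
    -- `A₁ = B_{𝔮B}` is a localization of `R` at `𝔮₀`
    haveI hlocA₁ : IsLocalization.AtPrime (Localization.AtPrime 𝔮B) 𝔮₀ :=
      IsLocalization.isLocalization_atPrime_localization_atPrime 𝔭.primeCompl 𝔮B
    let eA₁ : Localization.AtPrime 𝔮₀ ≃ₐ[R] Localization.AtPrime 𝔮B :=
      IsLocalization.algEquiv 𝔮₀.primeCompl _ _
    have hA₁ : Brnch.numGeomBranches (Localization.AtPrime 𝔮B) = 1 := by
      rw [numGeomBranches_eq_of_ringEquiv eA₁.toRingEquiv]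
      exact ih𝔮₀
    letI algA₁A₁' : Algebra (Localization.AtPrime 𝔮B) (Localization.AtPrime 𝔮C) :=
      (Localization.localRingHom 𝔮B 𝔮C (algebraMap (Localization.AtPrime 𝔭) i.C) rfl).toAlgebra
    haveI : IsScalarTower (Localization.AtPrime 𝔭) i.C (Localization.AtPrime 𝔮C) :=
      inferInstance
    haveI : IsScalarTower (Localization.AtPrime 𝔭) (Localization.AtPrime 𝔮B)
        (Localization.AtPrime 𝔮C) :=
      IsScalarTower.of_algebraMap_eq (fun b => by
        rw [IsScalarTower.algebraMap_apply (Localization.AtPrime 𝔭) i.C (Localization.AtPrime 𝔮C)]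
        exact (Localization.localRingHom_to_map 𝔮B 𝔮C (algebraMap (Localization.AtPrime 𝔭) i.C)
          rfl b).symm)
    haveI : IsLocalHom (algebraMap (Localization.AtPrime 𝔮B) (Localization.AtPrime 𝔮C)) :=
      Localization.isLocalHom_localRingHom 𝔮B 𝔮C (algebraMap (Localization.AtPrime 𝔭) i.C) rfl
    have hess : EGA4loc.IsEssentiallyEtale (Localization.AtPrime 𝔮B) (Localization.AtPrime 𝔮C) :=
      EssEtStalk.isEssentiallyEtale_of_isLocalization (Localization.AtPrime 𝔭) i.C
        (Localization.AtPrime 𝔮B) (Localization.AtPrime 𝔮C) 𝔮B 𝔮C rfl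
    have hle1 := GeomBranchCount.encard_minimalPrimes_le_numGeomBranches_of_isEssentiallyEtale
      (Localization.AtPrime 𝔮B) (Localization.AtPrime 𝔮C) hess
    rw [hA₁] at hle1
    -- two minimal primes of `C_{𝔮C}`
    haveI : Module.Flat i.C i.L := IsLocalization.flat i.L i.Q.primeCompl
    have hP₁C : P₁.comap (algebraMap i.C i.L) ∈ minimalPrimes i.C :=
      BranchCount.comap_mem_minimalPrimes_of_flat hP₁
    have hP₂C : P₂.comap (algebraMap i.C i.L) ∈ minimalPrimes i.C :=
      BranchCount.comap_mem_minimalPrimes_of_flat hP₂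
    have hneC : P₁.comap (algebraMap i.C i.L) ≠ P₂.comap (algebraMap i.C i.L) := by
      intro h
      apply hne
      rw [← IsLocalization.map_comap i.Q.primeCompl i.L P₁,
        ← IsLocalization.map_comap i.Q.primeCompl i.L P₂]
      exact congrArg (Ideal.map (algebraMap i.C i.L)) h
    have hle1C : P₁.comap (algebraMap i.C i.L) ≤ 𝔮C := Ideal.comap_mono h1𝔮
    have hle2C : P₂.comap (algebraMap i.C i.L) ≤ 𝔮C := Ideal.comap_mono h2𝔮
    have key : ∀ P : Ideal i.C, P ∈ minimalPrimes i.C → P ≤ 𝔮C →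
        P.map (algebraMap i.C (Localization.AtPrime 𝔮C)) ∈
          minimalPrimes (Localization.AtPrime 𝔮C) ∧
        (P.map (algebraMap i.C (Localization.AtPrime 𝔮C))).under i.C = P := by
      intro P hP hle
      have hdisj : Disjoint (𝔮C.primeCompl : Set i.C) P := by
        rw [Set.disjoint_left]
        intro x hx hxP
        exact hx (hle hxP)
      have hcm : (P.map (algebraMap i.C (Localization.AtPrime 𝔮C))).under i.C = P :=
        IsLocalization.under_map_of_isPrime_disjoint 𝔮C.primeCompl (Localization.AtPrime 𝔮C)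
          hP.1.1 hdisj
      refine ⟨?_, hcm⟩
      have := IsLocalization.minimalPrimes_map 𝔮C.primeCompl (Localization.AtPrime 𝔮C)
        (⊥ : Ideal i.C)
      rw [Ideal.map_bot] at this
      change _ ∈ (⊥ : Ideal (Localization.AtPrime 𝔮C)).minimalPrimes
      rw [this, Set.mem_preimage, hcm]
      exact hP
    obtain ⟨hm1, hc1⟩ := key _ hP₁C hle1C
    obtain ⟨hm2, hc2⟩ := key _ hP₂C hle2C
    have h2A₁' : 1 < (minimalPrimes (Localization.AtPrime 𝔮C)).encard :=
      Set.one_lt_encard_iff.mpr ⟨_, _, hm1, hm2, fun h => hneC (by rw [← hc1, ← hc2, h])⟩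
    exact absurd hle1 (not_le.mpr h2A₁')

end Induction

section Forward

/-- A local ring with a unique minimal prime and a non-closed point has connected punctured
spectrum. -/
theorem connectedSpace_punctured_of_unique (T : Type*) [CommRing T] [IsLocalRing T]
    (h1 : (minimalPrimes T).encard = 1) (hne : ∃ 𝔫 : PrimeSpectrum T, 𝔫 ≠ closedPoint T) :
    ConnectedSpace ↥({closedPoint T}ᶜ : Set (PrimeSpectrum T)) := by
  obtain ⟨P, hP⟩ := Set.encard_eq_one.mp h1
  have hPmin : P ∈ minimalPrimes T := hP ▸ Set.mem_singleton P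
  haveI := hPmin.1.1
  have hall : ∀ 𝔫 : PrimeSpectrum T, P ≤ 𝔫.asIdeal := by
    intro 𝔫
    obtain ⟨P', hP', hle⟩ := Ideal.exists_minimalPrimes_le (I := (⊥ : Ideal T)) (J := 𝔫.asIdeal) bot_le
    have : P' = P := by
      have : P' ∈ ({P} : Set (Ideal T)) := hP ▸ hP'
      exact this
    exact this ▸ hle
  obtain ⟨𝔫, h𝔫⟩ := hne
  have hPne : (⟨P, inferInstance⟩ : PrimeSpectrum T) ≠ closedPoint T := by
    intro h
    apply h𝔫
    have h2 : P = maximalIdeal T := congrArg PrimeSpectrum.asIdeal h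
    have h3 : maximalIdeal T ≤ 𝔫.asIdeal := h2 ▸ hall 𝔫
    exact PrimeSpectrum.ext
      ((IsLocalRing.maximalIdeal.isMaximal T).eq_of_le 𝔫.2.ne_top h3).symm
  have hpre : IsPreconnected ({closedPoint T}ᶜ : Set (PrimeSpectrum T)) := by
    refine IsPreconnected.subset_closure (isPreconnected_singleton (x := ⟨P, inferInstance⟩)) ?_ ?_
    · rw [Set.singleton_subset_iff]
      exact hPne
    · intro x _
      rw [PrimeSpectrum.closure_singleton, PrimeSpectrum.mem_zeroLocus]
      exact SetLike.coe_subset_coe.mpr (hall x)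
  exact isConnected_iff_connectedSpace.mp ⟨⟨⟨P, inferInstance⟩, hPne⟩, hpre⟩

end Forward

section Scheme

open AlgebraicGeometry CategoryTheory TopologicalSpace Groth.Agent.Lib.Helper3

/-- In a quasi-sober space, a point whose closure is not an irreducible component has a proper
generization. -/
theorem exists_specializes_ne {X : Type*} [TopologicalSpace X] [QuasiSober X] (x : X)
    (h : closure ({x} : Set X) ∉ irreducibleComponents X) : ∃ z : X, z ⤳ x ∧ z ≠ x := by
  have hirr : IsIrreducible (irreducibleComponent x) := isIrreducible_irreducibleComponent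
  have hcl : IsClosed (irreducibleComponent x) := isClosed_irreducibleComponent
  have hz : closure ({hirr.genericPoint} : Set X) = irreducibleComponent x :=
    hirr.closure_genericPoint hcl
  refine ⟨hirr.genericPoint, ?_, ?_⟩
  · rw [specializes_iff_mem_closure, hz]
    exact mem_irreducibleComponent
  · intro hzx
    apply h
    rw [← hzx, hz]
    exact irreducibleComponent_mem_irreducibleComponents x

/-- A proper generization shows the closure is not an irreducible component (in a `T0` space). -/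
theorem closure_not_mem_irreducibleComponents {X : Type*} [TopologicalSpace X] [T0Space X]
    (x z : X) (hzx : z ⤳ x) (hne : z ≠ x) :
    closure ({x} : Set X) ∉ irreducibleComponents X := by
  intro h
  apply hne
  have h1 : closure ({x} : Set X) ≤ closure ({z} : Set X) := by
    apply closure_minimal _ isClosed_closure
    rw [Set.singleton_subset_iff]
    exact specializes_iff_mem_closure.mp hzx
  have h2 : closure ({z} : Set X) ≤ closure ({x} : Set X) :=
    h.2 isIrreducible_singleton.closure h1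
  have h3 : closure ({z} : Set X) = closure ({x} : Set X) := le_antisymm h2 h1
  exact ((specializes_iff_closure_subset.mpr h3.ge).antisymm
    (specializes_iff_closure_subset.mpr h3.le)).eq

variable (X : Scheme.{u})

/-- forward direction. -/
theorem connectedSpace_of_isGeomUnibranch (x : X)
    (hU : CAlg2.IsGeomUnibranch (X.presheaf.stalk x))
    (hx : closure ({x} : Set X) ∉ irreducibleComponents X)
    (Ash : Type u) [CommRing Ash] [IsLocalRing Ash] [Algebra (X.presheaf.stalk x) Ash]
    [IsLocalHom (algebraMap (X.presheaf.stalk x) Ash)]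
    [Hensel.IsStrictHenselization (X.presheaf.stalk x) Ash] :
    ConnectedSpace ↥({IsLocalRing.closedPoint Ash}ᶜ : Set (PrimeSpectrum Ash)) := by
  have h1 : (minimalPrimes Ash).encard = 1 := by
    have := Groth.Agent.S9238.result (X.presheaf.stalk x) Ash
    rw [(Groth.Agent.S9236.result (X.presheaf.stalk x)).mpr hU] at this
    exact this
  apply connectedSpace_punctured_of_unique Ash h1
  obtain ⟨z, hzx, hne⟩ := exists_specializes_ne x hx
  have hzr : z ∈ Set.range (X.fromSpecStalk x) := by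
    rw [Scheme.range_fromSpecStalk]
    exact hzx
  obtain ⟨𝔮, h𝔮⟩ := hzr
  haveI : Module.FaithfullyFlat (X.presheaf.stalk x) Ash :=
    HzP.sh_faithfullyFlat (X.presheaf.stalk x) Ash
  obtain ⟨𝔫, h𝔫⟩ := PrimeSpectrum.comap_surjective_of_faithfullyFlat
    (A := X.presheaf.stalk x) (B := Ash) 𝔮
  refine ⟨𝔫, ?_⟩
  intro h
  apply hne
  rw [← h𝔮, ← h𝔫, h, IsLocalRing.comap_closedPoint]
  exact Scheme.fromSpecStalk_closedPoint

set_option maxHeartbeats 800000 in
/-- backward direction. -/
theorem isGeomUnibranch_of_connectedSpace [IsLocallyNoetherian X]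
    (h : ∀ (x : X), closure ({x} : Set X) ∉ irreducibleComponents X →
        ∀ (Ash : Type u) [CommRing Ash] [IsLocalRing Ash] [Algebra (X.presheaf.stalk x) Ash]
          [IsLocalHom (algebraMap (X.presheaf.stalk x) Ash)]
          [Hensel.IsStrictHenselization (X.presheaf.stalk x) Ash],
          ConnectedSpace ↥({IsLocalRing.closedPoint Ash}ᶜ : Set (PrimeSpectrum Ash)))
    (x : X) : CAlg2.IsGeomUnibranch (X.presheaf.stalk x) := by
  obtain ⟨_, ⟨W, hW, rfl⟩, hxW, -⟩ := X.isBasis_affineOpens.exists_subset_of_mem_open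
    (Set.mem_univ x) isOpen_univ
  haveI : IsNoetherianRing Γ(X, W) := IsLocallyNoetherian.component_noetherian ⟨W, hW⟩
  have hHyp : Hyp Γ(X, W) := by
    intro 𝔭 _ hmin T _ _ _ _ _
    let y : PrimeSpectrum Γ(X, W) := ⟨𝔭, inferInstance⟩
    have hy : hW.fromSpec y ∈ (W : Set X) := by
      rw [← hW.range_fromSpec]; exact ⟨y, rfl⟩
    letI := TopCat.Presheaf.algebra_section_stalk X.presheaf ⟨hW.fromSpec y, hy⟩
    haveI : IsLocalization 𝔭.primeCompl (X.presheaf.stalk (hW.fromSpec y)) :=
      hW.isLocalization_stalk' y hy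
    let e : Localization.AtPrime 𝔭 ≃ₐ[Γ(X, W)] X.presheaf.stalk (hW.fromSpec y) :=
      IsLocalization.algEquiv 𝔭.primeCompl _ _
    letI algT : Algebra (X.presheaf.stalk (hW.fromSpec y)) T :=
      ((algebraMap (Localization.AtPrime 𝔭) T).comp
        (e.symm.toRingEquiv : X.presheaf.stalk (hW.fromSpec y) →+* Localization.AtPrime 𝔭)).toAlgebra
    have halg : ∀ s, algebraMap (X.presheaf.stalk (hW.fromSpec y)) T s =
        algebraMap (Localization.AtPrime 𝔭) T (e.symm s) := fun _ => rfl
    haveI hloc : IsLocalHom (algebraMap (X.presheaf.stalk (hW.fromSpec y)) T) := by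
      constructor
      intro s hs
      rw [halg] at hs
      have h1 : IsUnit (e.symm s) := isUnit_of_map_unit (algebraMap (Localization.AtPrime 𝔭) T) _ hs
      have := h1.map (e.toRingEquiv : Localization.AtPrime 𝔭 →+*
        X.presheaf.stalk (hW.fromSpec y))
      simpa using this
    haveI : Hensel.IsStrictHenselization (X.presheaf.stalk (hW.fromSpec y)) T :=
      GeomUnibranch.isStrictHenselization_of_ringEquiv (R := Localization.AtPrime 𝔭)
        (R₂ := X.presheaf.stalk (hW.fromSpec y)) (S := T) e.toRingEquiv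
        (fun r => by rw [halg]; simp)
    have hnc : closure ({hW.fromSpec y} : Set X) ∉ irreducibleComponents X := by
      obtain ⟨𝔭', h𝔭', hle⟩ := Ideal.exists_minimalPrimes_le (I := (⊥ : Ideal Γ(X, W))) (J := 𝔭)
        bot_le
      haveI := h𝔭'.1.1
      let y' : PrimeSpectrum Γ(X, W) := ⟨𝔭', inferInstance⟩
      apply closure_not_mem_irreducibleComponents _ (hW.fromSpec y')
      · have hsp : y' ⤳ y := (PrimeSpectrum.le_iff_specializes y' y).mp hle
        exact hsp.map hW.fromSpec.continuous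
      · intro heq
        have h2 : y' = y := hW.fromSpec.isOpenEmbedding.injective heq
        apply hmin
        have h3 : 𝔭' = 𝔭 := congrArg PrimeSpectrum.asIdeal h2
        exact h3 ▸ h𝔭'
    have hc := h _ hnc T
    exact (isConnected_iff_connectedSpace.mpr hc).isPreconnected
  have h1 := numGeomBranches_localization_eq_one hHyp (hW.primeIdealOf ⟨x, hxW⟩).asIdeal
  letI := TopCat.Presheaf.algebra_section_stalk X.presheaf ⟨x, hxW⟩
  haveI := hW.isLocalization_stalk ⟨x, hxW⟩
  let e : Localization.AtPrime (hW.primeIdealOf ⟨x, hxW⟩).asIdeal ≃ₐ[Γ(X, W)] X.presheaf.stalk x :=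
    IsLocalization.algEquiv (hW.primeIdealOf ⟨x, hxW⟩).asIdeal.primeCompl _ _
  rw [← Groth.Agent.S9236.result, numGeomBranches_eq_of_ringEquiv e.toRingEquiv]
  exact h1

end Scheme

end Groth.Agent.Lib.T2H1.UnibranchConn
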