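import Mathlib
import Groth.Agent.Lib.T2H1BranchCount
import Groth.Agent.Lib.T2H1GeomBranchCount
import Groth.Agent.Lib.T2H1UnibranchConn
import Groth.Agent.Lib.Helper3ShQuot
import Groth.Agent.S13598

/-!
# Branch counts of a quotient of a local ring through the stages of the (strict) henselization
(helper1)
-/

set_option autoImplicit false
universe u
open IsLocalRing

namespace Groth.Agent.Lib.T2H1.FibBranchAlg

open Groth.Agent.Lib.Helper3 Groth.Agent.Lib.T2H1.BranchCount

section Generic

/-- contraction of a minimal prime over `J S` along a flat ring map is a minimal prime over `J`. -/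
lemma comap_mem_minimalPrimes_of_flat {R S : Type*} [CommRing R] [CommRing S] [Algebra R S]
    [Module.Flat R S] (J : Ideal R) {q : Ideal S}
    (hq : q ∈ (J.map (algebraMap R S)).minimalPrimes) :
    q.comap (algebraMap R S) ∈ J.minimalPrimes := by
  haveI := hq.1.1
  refine ⟨⟨Ideal.comap_isPrime _ _, Ideal.map_le_iff_le_comap.mp hq.1.2⟩, ?_⟩
  rintro p ⟨hp, hJp⟩ hle
  haveI := hp
  by_contra hnle
  have hlt : p < q.comap (algebraMap R S) := lt_of_le_not_ge hle hnle
  haveI : q.LiesOver (q.comap (algebraMap R S)) := ⟨rfl⟩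
  obtain ⟨P, hPq, hP, hPo⟩ := Ideal.exists_ideal_lt_liesOver_of_lt (S := S) q hlt
  have hJP : J.map (algebraMap R S) ≤ P := by
    rw [Ideal.map_le_iff_le_comap]
    have := hPo.over
    rw [Ideal.under_def] at this
    rw [← this]
    exact hJp
  exact absurd (hq.2 ⟨hP, hJP⟩ hPq.le) (not_le_of_gt hPq)

/-- the number of minimal primes over an ideal and over its preimage along a surjection. -/
lemma encard_minimalPrimes_comap_of_surjective {R S : Type*} [CommRing R] [CommRing S]
    (f : R →+* S) (hf : Function.Surjective f) (K : Ideal S) :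
    (K.comap f).minimalPrimes.encard = K.minimalPrimes.encard := by
  rw [Ideal.comap_minimalPrimes_eq_of_surjective hf]
  exact (Ideal.comap_injective_of_surjective f hf).injOn.encard_image

/-- the number of minimal primes of the target of a surjection. -/
lemma encard_minimalPrimes_of_surjective {R S : Type*} [CommRing R] [CommRing S]
    (f : R →+* S) (hf : Function.Surjective f) :
    (minimalPrimes S).encard = (RingHom.ker f).minimalPrimes.encard := by
  rw [← encard_minimalPrimes_comap_of_surjective f hf ⊥]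
  rfl

/-- ring isomorphisms preserve the number of minimal primes over an ideal. -/
lemma encard_minimalPrimes_map_ringEquiv {R S : Type*} [CommRing R] [CommRing S]
    (e : R ≃+* S) (J : Ideal R) :
    (J.map (e : R →+* S)).minimalPrimes.encard = J.minimalPrimes.encard := by
  rw [← encard_minimalPrimes_comap_of_surjective (e : R →+* S) e.surjective,
    Ideal.comap_map_of_bijective (e : R →+* S) e.bijective]

/-- a faithfully flat ring map does not decrease the number of minimal primes over an ideal. -/
lemma encard_minimalPrimes_le_map_of_faithfullyFlat {R S : Type*} [CommRing R] [CommRing S]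
    [Algebra R S] [Module.FaithfullyFlat R S] (J : Ideal R) :
    J.minimalPrimes.encard ≤ (J.map (algebraMap R S)).minimalPrimes.encard := by
  have h1 := Ideal.minimalPrimes_comap_subset (algebraMap R S) (J.map (algebraMap R S))
  rw [Ideal.comap_map_eq_self_of_faithfullyFlat] at h1
  exact (Set.encard_le_encard h1).trans (Set.encard_image_le _ _)

/-- **stages**: if `H` is the union of flat stages `L i`, many minimal primes over `I H` are seen
at some stage. -/
theorem exists_stage_le_encard {A H : Type*} [CommRing A] [CommRing H] [Algebra A H]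
    (I : Ideal A) {ι : Type*} (L : ι → Type*) [∀ i, CommRing (L i)] [∀ i, Algebra A (L i)]
    (φ : ∀ i, L i →+* H) (hφ : ∀ i, (φ i).comp (algebraMap A (L i)) = algebraMap A H)
    (hflat : ∀ i, letI := (φ i).toAlgebra; Module.Flat (L i) H)
    (hfin : ∀ S : Finset H, ∃ i, ∀ z ∈ S, ∃ x : L i, φ i x = z)
    (k : ℕ) (hk : (k : ℕ∞) ≤ (I.map (algebraMap A H)).minimalPrimes.encard) :
    ∃ i, (k : ℕ∞) ≤ (I.map (algebraMap A (L i))).minimalPrimes.encard := by
  classical
  obtain ⟨t, ht, htk⟩ := Set.exists_subset_encard_eq hk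
  have htfin : t.Finite := Set.finite_of_encard_eq_coe htk
  have hsep : ∀ a ∈ t, ∀ b ∈ t, a ≠ b → ∃ f : H, f ∈ a ∧ f ∉ b := by
    intro a ha b hb hab
    by_contra hcon
    push_neg at hcon
    have hle : a ≤ b := fun f hf => hcon f hf
    have hge := (ht hb).2 (ht ha).1 hle
    exact hab (le_antisymm hle hge)
  choose! F hF using hsep
  let S : Finset H := (htfin.toFinset ×ˢ htfin.toFinset).image (fun p => F p.1 p.2)
  obtain ⟨i, hi⟩ := hfin S
  refine ⟨i, ?_⟩
  letI := (φ i).toAlgebra
  haveI : Module.Flat (L i) H := hflat i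
  have hmapmap : (I.map (algebraMap A (L i))).map (algebraMap (L i) H) =
      I.map (algebraMap A H) := by
    rw [Ideal.map_map]
    congr 1
    exact hφ i
  have hmaps : ∀ a ∈ t, a.comap (φ i) ∈ (I.map (algebraMap A (L i))).minimalPrimes := fun a ha =>
    comap_mem_minimalPrimes_of_flat (R := L i) (S := H) _ (by rw [hmapmap]; exact ht ha)
  have hinj : Set.InjOn (Ideal.comap (φ i)) t := by
    intro a ha b hb hab
    by_contra hne
    obtain ⟨hfa, hfb⟩ := hF a ha b hb hne
    obtain ⟨x, hx⟩ := hi (F a b) (by
      simp only [S, Finset.mem_image, Finset.mem_product, Set.Finite.mem_toFinset]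
      exact ⟨(a, b), ⟨ha, hb⟩, rfl⟩)
    have hxa : x ∈ a.comap (φ i) := by
      rw [Ideal.mem_comap, hx]
      exact hfa
    rw [hab, Ideal.mem_comap, hx] at hxa
    exact hfb hxa
  calc (k : ℕ∞) = t.encard := htk.symm
    _ = (Ideal.comap (φ i) '' t).encard := (hinj.encard_image).symm
    _ ≤ (I.map (algebraMap A (L i))).minimalPrimes.encard :=
        Set.encard_le_encard (by rintro _ ⟨a, ha, rfl⟩; exact hmaps a ha)

end Generic

section Quot

/-- a quotient of a local ring by a proper ideal is local. -/
lemma isLocalRing_quot {R : Type*} [CommRing R] [IsLocalRing R] {J : Ideal R}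
    (hJ : J ≤ maximalIdeal R) : IsLocalRing (R ⧸ J) := by
  haveI : Nontrivial (R ⧸ J) := Ideal.Quotient.nontrivial_iff.mpr (fun h =>
    (maximalIdeal.isMaximal R).ne_top (top_le_iff.mp (h ▸ hJ)))
  exact IsLocalRing.of_surjective' (Ideal.Quotient.mk _) Ideal.Quotient.mk_surjective

variable {A S : Type u} [CommRing A] [IsLocalRing A] [CommRing S] [IsLocalRing S] [Algebra A S]
  [IsLocalHom (algebraMap A S)] {I : Ideal A}

lemma map_le (hI : I ≤ maximalIdeal A) : I.map (algebraMap A S) ≤ maximalIdeal S :=
  (Ideal.map_mono hI).trans (map_maximalIdeal_le _)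

lemma isLocalHom_quot (hI : I ≤ maximalIdeal A) [IsLocalRing (A ⧸ I)]
    [IsLocalRing (S ⧸ I.map (algebraMap A S))] :
    IsLocalHom (algebraMap (A ⧸ I) (S ⧸ I.map (algebraMap A S))) := by
  have hN' : I.map (algebraMap A S) ≤ maximalIdeal S := map_le hI
  refine ⟨fun a ha => ?_⟩
  obtain ⟨a, rfl⟩ := Ideal.Quotient.mk_surjective a
  by_contra hcon
  have ha' : a ∈ maximalIdeal A := by
    rw [mem_maximalIdeal, mem_nonunits_iff]
    intro hu
    exact hcon (hu.map _)
  have h2 : algebraMap A S a ∈ maximalIdeal S := by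
    rw [mem_maximalIdeal, mem_nonunits_iff]
    intro hu
    exact ((mem_maximalIdeal _).mp ha') (isUnit_of_map_unit (algebraMap A S) a hu)
  have h3 : Ideal.Quotient.mk (I.map (algebraMap A S)) (algebraMap A S a) ∈
      maximalIdeal (S ⧸ I.map (algebraMap A S)) := by
    rw [mem_maximalIdeal, mem_nonunits_iff]
    intro hu
    obtain ⟨c, hc⟩ := hu.exists_right_inv
    obtain ⟨c, rfl⟩ := Ideal.Quotient.mk_surjective c
    rw [← map_mul, ← map_one (Ideal.Quotient.mk _), Ideal.Quotient.eq] at hc
    have h4 : algebraMap A S a * c - 1 ∈ maximalIdeal S := hN' hc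
    have h5 : (1 : S) ∈ maximalIdeal S := by
      have := Ideal.sub_mem _ (Ideal.mul_mem_right c _ h2) h4
      simpa using this
    exact (maximalIdeal.isMaximal S).ne_top ((Ideal.eq_top_iff_one _).mpr h5)
  exact ((mem_maximalIdeal _).mp h3) ha

end Quot

section Hz

open Groth.Agent.Lib.Helper3.Hz

variable {A : Type u} [CommRing A] [IsLocalRing A] (I : Ideal A) (hI : I ≤ maximalIdeal A)

include hI in
/-- the number of branches of `A ⧸ I` is the number of minimal primes over `I · A^h`. -/
theorem numBranches_quot [IsLocalRing (A ⧸ I)] :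
    Brnch.numBranches (A ⧸ I) = (I.map (algebraMap A (Rh A))).minimalPrimes.encard := by
  haveI : IsLocalRing (Rh A ⧸ I.map (algebraMap A (Rh A))) := isLocalRing_quot (map_le hI)
  haveI : IsLocalHom (algebraMap (A ⧸ I) (Rh A ⧸ I.map (algebraMap A (Rh A)))) :=
    isLocalHom_quot hI
  haveI : Hensel.IsHenselization (A ⧸ I) (Rh A ⧸ I.map (algebraMap A (Rh A))) :=
    Groth.Agent.S13598.result I hI
  rw [numBranches_eq_encard_of_isHenselization (A ⧸ I) (Rh A ⧸ I.map (algebraMap A (Rh A))),
    encard_minimalPrimes_of_surjective (Ideal.Quotient.mk (I.map (algebraMap A (Rh A))))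
      Ideal.Quotient.mk_surjective, Ideal.mk_ker]

include hI in
/-- many branches of `A ⧸ I` are seen at some stage of the henselization of `A`. -/
theorem exists_idx_le_encard [IsLocalRing (A ⧸ I)] (k : ℕ)
    (hk : (k : ℕ∞) ≤ Brnch.numBranches (A ⧸ I)) :
    ∃ i : Idx A, (k : ℕ∞) ≤ (I.map (algebraMap A i.L)).minimalPrimes.encard := by
  rw [numBranches_quot I hI] at hk
  refine exists_stage_le_encard I (fun i : Idx A => i.L) (fun i => ofL i) ?_ ?_ ?_ k hk
  · intro i
    ext r
    exact (algebraMap_eq i r).symm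
  · intro i
    exact flat_over_L i
  · intro S
    exact BranchCount.exists_ofL_finset S

include hI in
/-- a stage of the henselization sees at most as many minimal primes over `I` as `A ⧸ I` has
branches. -/
theorem encard_le_numBranches_idx [IsLocalRing (A ⧸ I)] (i : Idx A) :
    (I.map (algebraMap A i.L)).minimalPrimes.encard ≤ Brnch.numBranches (A ⧸ I) := by
  rw [numBranches_quot I hI]
  letI := (ofL i).toAlgebra
  haveI : Module.Flat i.L (Rh A) := flat_over_L i
  haveI : IsLocalHom (algebraMap i.L (Rh A)) := inferInstanceAs (IsLocalHom (ofL i))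
  haveI : Module.FaithfullyFlat i.L (Rh A) := Module.FaithfullyFlat.of_flat_of_isLocalHom
  have h := encard_minimalPrimes_le_map_of_faithfullyFlat (R := i.L) (S := Rh A)
    (I.map (algebraMap A i.L))
  rw [Ideal.map_map] at h
  have hc : (algebraMap i.L (Rh A)).comp (algebraMap A i.L) = algebraMap A (Rh A) := by
    ext r
    exact (algebraMap_eq i r).symm
  rwa [hc] at h

include hI in
/-- a strictly essentially étale local algebra sees at most as many minimal primes over `I` as
`A ⧸ I` has branches. -/
theorem encard_le_numBranches_of_isStrict [IsLocalRing (A ⧸ I)] (A' : Type u) [CommRing A']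
    [IsLocalRing A'] [Algebra A A'] [IsLocalHom (algebraMap A A')]
    (h : EGA4loc.IsStrictlyEssentiallyEtale A A') :
    (I.map (algebraMap A A')).minimalPrimes.encard ≤ Brnch.numBranches (A ⧸ I) := by
  obtain ⟨i, ⟨e⟩⟩ := exists_idx A' h
  refine le_trans (le_of_eq ?_) (encard_le_numBranches_idx I hI i)
  have hc : (e.toRingEquiv : A' →+* i.L).comp (algebraMap A A') = algebraMap A i.L := by
    ext r
    exact e.commutes r
  rw [← encard_minimalPrimes_map_ringEquiv e.toRingEquiv (I.map (algebraMap A A')), Ideal.map_map,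
    hc]

end Hz

section Sh

open Groth.Agent.Lib.Helper3.Sh Groth.Agent.Lib.T2H1.GeomBranchCount

variable {A : Type u} [CommRing A] [IsLocalRing A] {Ω : Type u} [Field Ω] [Algebra A Ω]
  [Algebra (ResidueField A) Ω] [IsScalarTower A (ResidueField A) Ω]
  [IsSepClosure (ResidueField A) Ω] (I : Ideal A) (hI : I ≤ maximalIdeal A)

include hI in
variable (Ω) in
/-- the number of geometric branches of `A ⧸ I` is the number of minimal primes over
`I · A^sh`. -/
theorem numGeomBranches_quot [IsLocalRing (A ⧸ I)] :
    Brnch.numGeomBranches (A ⧸ I) =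
      (I.map (algebraMap A (Rsh A Ω))).minimalPrimes.encard := by
  haveI : IsLocalRing (Rsh A Ω ⧸ I.map (algebraMap A (Rsh A Ω))) := isLocalRing_quot (map_le hI)
  haveI : IsLocalHom (algebraMap (A ⧸ I) (Rsh A Ω ⧸ I.map (algebraMap A (Rsh A Ω)))) :=
    isLocalHom_quot hI
  haveI : Hensel.IsStrictHenselization (A ⧸ I) (Rsh A Ω ⧸ I.map (algebraMap A (Rsh A Ω))) :=
    ShQuot.isStrictHenselization_quotient I
  rw [← Groth.Agent.S9238.result (A ⧸ I) (Rsh A Ω ⧸ I.map (algebraMap A (Rsh A Ω)))]
  exact (encard_minimalPrimes_of_surjective (Ideal.Quotient.mk (I.map (algebraMap A (Rsh A Ω))))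
      Ideal.Quotient.mk_surjective).trans (by rw [Ideal.mk_ker])

include hI in
/-- many geometric branches of `A ⧸ I` are seen at some stage of the strict henselization. -/
theorem exists_shIdx_le_encard [IsLocalRing (A ⧸ I)] (k : ℕ)
    (hk : (k : ℕ∞) ≤ Brnch.numGeomBranches (A ⧸ I)) :
    ∃ i : Idx A Ω, (k : ℕ∞) ≤ (I.map (algebraMap A i.L)).minimalPrimes.encard := by
  rw [numGeomBranches_quot Ω I hI] at hk
  refine exists_stage_le_encard I (fun i : Idx A Ω => i.L) (fun i => ofL i) ?_ ?_ ?_ k hk
  · intro i
    ext r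
    exact (algebraMap_eq i r).symm
  · intro i
    exact flat_over_L i
  · intro S
    exact GeomBranchCount.exists_ofL_finset S

include hI in
/-- a stage of the strict henselization sees at most as many minimal primes over `I` as
`A ⧸ I` has geometric branches. -/
theorem encard_le_numGeomBranches_shIdx [IsLocalRing (A ⧸ I)] (i : Idx A Ω) :
    (I.map (algebraMap A i.L)).minimalPrimes.encard ≤ Brnch.numGeomBranches (A ⧸ I) := by
  rw [numGeomBranches_quot Ω I hI]
  letI := (ofL i).toAlgebra
  haveI : Module.Flat i.L (Rsh A Ω) := flat_over_L i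
  haveI : IsLocalHom (algebraMap i.L (Rsh A Ω)) := inferInstanceAs (IsLocalHom (ofL i))
  haveI : Module.FaithfullyFlat i.L (Rsh A Ω) := Module.FaithfullyFlat.of_flat_of_isLocalHom
  have h := encard_minimalPrimes_le_map_of_faithfullyFlat (R := i.L) (S := Rsh A Ω)
    (I.map (algebraMap A i.L))
  rw [Ideal.map_map] at h
  have hc : (algebraMap i.L (Rsh A Ω)).comp (algebraMap A i.L) = algebraMap A (Rsh A Ω) := by
    ext r
    exact (algebraMap_eq i r).symm
  rwa [hc] at h

end Sh

section ShEss

open Groth.Agent.Lib.Helper3.Sh Groth.Agent.Lib.T2H1.GeomBranchCount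

variable {A : Type u} [CommRing A] [IsLocalRing A] (I : Ideal A) (hI : I ≤ maximalIdeal A)

include hI in
/-- an essentially étale local algebra sees at most as many minimal primes over `I` as `A ⧸ I`
has geometric branches. -/
theorem encard_le_numGeomBranches_of_isEssentiallyEtale [IsLocalRing (A ⧸ I)] (A' : Type u)
    [CommRing A'] [IsLocalRing A'] [Algebra A A'] [IsLocalHom (algebraMap A A')]
    (h : EGA4loc.IsEssentiallyEtale A A') :
    (I.map (algebraMap A A')).minimalPrimes.encard ≤ Brnch.numGeomBranches (A ⧸ I) := by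
  let Ω := SeparableClosure (ResidueField A)
  letI : Algebra A Ω := ((algebraMap (ResidueField A) Ω).comp (residue A)).toAlgebra
  haveI : IsScalarTower A (ResidueField A) Ω := IsScalarTower.of_algebraMap_eq (fun _ => rfl)
  haveI : Algebra.EssFiniteType A A' := EssEt.essFiniteType_of_isEssentiallyEtale A A' h
  haveI : Algebra.FormallyEtale A A' := EssEt.formallyEtale_of_isEssentiallyEtale A A' h
  haveI : Algebra.IsSeparable (ResidueField A) (ResidueField A') := inferInstance
  let β₀ : ResidueField A' →ₐ[ResidueField A] Ω := IsSepClosed.lift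
  let β : ResidueField A' →ₐ[A] Ω := β₀.restrictScalars A
  obtain ⟨C, _, _, q, _, hEt, hq, ⟨e⟩⟩ := h
  obtain ⟨i, e', -⟩ := Sh.exists_idx A' C q hq e β
  refine le_trans (le_of_eq ?_) (encard_le_numGeomBranches_shIdx (Ω := Ω) I hI i)
  have hc : (e'.toRingEquiv : A' →+* i.L).comp (algebraMap A A') = algebraMap A i.L := by
    ext r
    exact e'.commutes r
  rw [← encard_minimalPrimes_map_ringEquiv e'.toRingEquiv (I.map (algebraMap A A')),
    Ideal.map_map, hc]

end ShEss

end Groth.Agent.Lib.T2H1.FibBranchAlg
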