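import Mathlib
import Groth.Agent.Lib.T2H1FibBranchAlg
import Groth.Agent.Lib.T2H1Spread
import Groth.Agent.Lib.T2H1SpreadSh
import Groth.Agent.Lib.Helper10FibStalk
import Groth.Agent.Lib.T2H1EssEtStalk

/-!
# Branch counts of the fibres of a morphism through étale neighbourhoods (helper1)
-/

set_option autoImplicit false
universe u
open CategoryTheory AlgebraicGeometry IsLocalRing

namespace Groth.Agent.Lib.T2H1.FibBranch

open Groth.Agent.Lib.Helper3 Groth.Agent.Lib.T2H1.Spread Groth.Agent.Lib.T2H1.SpreadSh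
  Groth.Agent.Lib.T2H1.FibBranchAlg

section Compat

variable {X : Scheme.{u}} {W : X.Opens} (hW : IsAffineOpen W)

set_option backward.isDefEq.respectTransparency.types false in
/-- identification of the local ring of the étale neighbourhood `Spec D`, compatibly with the
map from the local ring of `X`. -/
theorem stalk_nbhdMap_compat (D : Type u) [CommRing D] [Algebra Γ(X, W) D]
    (u : Spec (CommRingCat.of D))
    (x : X) (hxW : x ∈ W) (hgu : (nbhdMap hW D) u = x)
    (L : Type u) [CommRing L] [Algebra (X.presheaf.stalk x) L] (ψ : D →+* L)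
    (hψ : ψ.comp (algebraMap Γ(X, W) D) =
      (algebraMap (X.presheaf.stalk x) L).comp (X.presheaf.germ W x hxW).hom)
    (hloc : letI := ψ.toAlgebra; IsLocalization.AtPrime L u.asIdeal) :
    ∃ e : L ≃+* (Spec (CommRingCat.of D)).presheaf.stalk u, ∀ a : X.presheaf.stalk x,
      e (algebraMap _ L a) = ((nbhdMap hW D).stalkMap u).hom
        ((X.presheaf.stalkSpecializes (specializes_of_eq hgu)).hom a) := by
  subst hgu
  letI algDL : Algebra D L := ψ.toAlgebra
  haveI := hloc
  letI algDO : Algebra D ((Spec (CommRingCat.of D)).presheaf.stalk u) :=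
    StructureSheaf.stalkAlgebra (R := D) u
  haveI : IsLocalization.AtPrime ((Spec (CommRingCat.of D)).presheaf.stalk u) u.asIdeal :=
    StructureSheaf.IsLocalization.to_stalk (R := D) u
  let e : L ≃ₐ[D] (Spec (CommRingCat.of D)).presheaf.stalk u :=
    IsLocalization.algEquiv u.asIdeal.primeCompl _ _
  refine ⟨e.toRingEquiv, ?_⟩
  letI := X.presheaf.algebra_section_stalk ⟨(nbhdMap hW D) u, hxW⟩
  haveI := hW.isLocalization_stalk ⟨(nbhdMap hW D) u, hxW⟩
  have h1 : ((nbhdMap hW D).stalkMap u).hom =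
      (e : L →+* _).comp (algebraMap (X.presheaf.stalk ((nbhdMap hW D) u)) L) := by
    apply IsLocalization.ringHom_ext
      (hW.primeIdealOf ⟨(nbhdMap hW D) u, hxW⟩).asIdeal.primeCompl
    ext c
    have h2 := congrArg (fun φ => φ.hom c) (germ_stalkMap_nbhdMap hW D u hxW)
    have h3 := congrArg (fun φ => φ c) hψ
    simp only [RingHom.comp_apply] at h3
    simp only [RingHom.comp_apply]
    have h4 : (algebraMap ↑Γ(X, W) ↑(X.presheaf.stalk ((nbhdMap hW D) u))) c =
        (X.presheaf.germ W _ hxW).hom c := rfl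
    have h5 : e (ψ (algebraMap Γ(X, W) D c)) =
        algebraMap D ((Spec (CommRingCat.of D)).presheaf.stalk u) (algebraMap Γ(X, W) D c) :=
      e.commutes _
    rw [h4, ← h3]
    refine Eq.trans ?_ h5.symm
    exact h2
  intro a
  have h6 : (X.presheaf.stalkSpecializes (specializes_of_eq (rfl : (nbhdMap hW D) u = _))).hom a
      = a := by
    have := TopCat.Presheaf.stalkSpecializes_refl (C := CommRingCat) X.presheaf ((nbhdMap hW D) u)
    exact congrArg (fun φ => φ.hom a) this
  rw [h6]
  exact (congrArg (fun φ => φ a) h1).symm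

end Compat

noncomputable section Nbhd

open Groth.Agent.Lib.Helper3.Hz in
/-- every stage of the henselization of `O_{X,x}` is the local ring of an elementary étale
neighbourhood of `(X, x)`, compatibly with the maps from `O_{X,x}`. -/
theorem exists_etale_nbhd_of_idx' (X : Scheme.{u}) (x : X) (i : Idx (X.presheaf.stalk x)) :
    ∃ (U : Scheme.{u}) (g : U ⟶ X) (u : U), Etale g ∧
      Function.Bijective (g.residueFieldMap u).hom ∧ ∃ (hgu : g u = x)
      (e : i.L ≃+* U.presheaf.stalk u), ∀ a : X.presheaf.stalk x,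
        e (algebraMap _ i.L a) = (g.stalkMap u).hom
          ((X.presheaf.stalkSpecializes (specializes_of_eq hgu)).hom a) := by
  obtain ⟨_, ⟨W₀, hW₀, rfl⟩, hxW₀, -⟩ := X.isBasis_affineOpens.exists_subset_of_mem_open
    (Set.mem_univ x) isOpen_univ
  obtain ⟨W, hWW₀⟩ : ∃ W : X.Opens, W = W₀ := ⟨W₀, rfl⟩
  have hW : IsAffineOpen W := hWW₀ ▸ hW₀
  have hxW : x ∈ W := hWW₀ ▸ hxW₀
  letI algCA : Algebra Γ(X, W) (X.presheaf.stalk x) :=
    X.presheaf.algebra_section_stalk ⟨x, hxW⟩
  haveI hlocA := hW.isLocalization_stalk ⟨x, hxW⟩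
  obtain ⟨D, _, _, ψ, hEt, hψ, hloc⟩ :=
    exists_etale_descent (hW.primeIdealOf ⟨x, hxW⟩).asIdeal (X.presheaf.stalk x) i
  haveI := hEt
  haveI hprime : ((maximalIdeal i.L).comap ψ).IsPrime := Ideal.comap_isPrime _ _
  let u : Spec (CommRingCat.of D) := ⟨(maximalIdeal i.L).comap ψ, hprime⟩
  have hgu : (nbhdMap hW D) u = x := by
    have h1 : (Spec.map (CommRingCat.ofHom (algebraMap Γ(X, W) D))) u =
        hW.primeIdealOf ⟨x, hxW⟩ := by
      apply PrimeSpectrum.ext
      show ((maximalIdeal i.L).comap ψ).comap (algebraMap Γ(X, W) D) = _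
      rw [Ideal.comap_comap, hψ, ← Ideal.comap_comap]
      have h2 : (maximalIdeal i.L).comap (algebraMap (X.presheaf.stalk x) i.L) =
          maximalIdeal (X.presheaf.stalk x) :=
        ((IsLocalRing.local_hom_TFAE (algebraMap (X.presheaf.stalk x) i.L)).out 0 4).mp
          (Hz.Idx.isLocalHom i)
      rw [h2]
      exact IsLocalization.AtPrime.comap_maximalIdeal (X.presheaf.stalk x)
        (hW.primeIdealOf ⟨x, hxW⟩).asIdeal
    show hW.fromSpec ((Spec.map (CommRingCat.ofHom (algebraMap Γ(X, W) D))) u) = x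
    rw [h1]
    exact hW.fromSpec_primeIdealOf ⟨x, hxW⟩
  obtain ⟨h1, -⟩ := stalk_nbhdMap hW D u x hxW hgu i.L ψ hψ hloc (fun l => i.exists_sub_mem l)
  obtain ⟨e, he⟩ := stalk_nbhdMap_compat hW D u x hxW hgu i.L ψ hψ hloc
  exact ⟨Spec (CommRingCat.of D), nbhdMap hW D, u, inferInstance, h1, hgu, e, he⟩

/-- every stage of the strict henselization of `O_{X,x}` is the local ring of an étale
neighbourhood of `(X, x)`, compatibly with the maps from `O_{X,x}`. -/
theorem exists_etale_nbhd_of_shIdx' (X : Scheme.{u}) (x : X) {Ω : Type u} [Field Ω]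
    [Algebra (X.presheaf.stalk x) Ω] (i : Sh.Idx (X.presheaf.stalk x) Ω) :
    ∃ (U : Scheme.{u}) (g : U ⟶ X) (u : U), Etale g ∧ ∃ (hgu : g u = x)
      (e : i.L ≃+* U.presheaf.stalk u), ∀ a : X.presheaf.stalk x,
        e (algebraMap _ i.L a) = (g.stalkMap u).hom
          ((X.presheaf.stalkSpecializes (specializes_of_eq hgu)).hom a) := by
  obtain ⟨_, ⟨W₀, hW₀, rfl⟩, hxW₀, -⟩ := X.isBasis_affineOpens.exists_subset_of_mem_open
    (Set.mem_univ x) isOpen_univ
  obtain ⟨W, hWW₀⟩ : ∃ W : X.Opens, W = W₀ := ⟨W₀, rfl⟩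
  have hW : IsAffineOpen W := hWW₀ ▸ hW₀
  have hxW : x ∈ W := hWW₀ ▸ hxW₀
  letI algCA : Algebra Γ(X, W) (X.presheaf.stalk x) :=
    X.presheaf.algebra_section_stalk ⟨x, hxW⟩
  haveI hlocA := hW.isLocalization_stalk ⟨x, hxW⟩
  haveI : Algebra.Etale (X.presheaf.stalk x)
      (MvPolynomial (Fin i.n) (X.presheaf.stalk x) ⧸ i.J) := i.etale
  haveI : i.q.IsPrime := i.prime
  letI : Algebra (MvPolynomial (Fin i.n) (X.presheaf.stalk x) ⧸ i.J) i.L :=
    inferInstanceAs (Algebra i.C i.L)
  haveI : IsScalarTower (X.presheaf.stalk x)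
      (MvPolynomial (Fin i.n) (X.presheaf.stalk x) ⧸ i.J) i.L :=
    inferInstanceAs (IsScalarTower (X.presheaf.stalk x) i.C i.L)
  haveI : IsLocalization.AtPrime i.L i.q :=
    inferInstanceAs (IsLocalization.AtPrime i.L i.Q)
  obtain ⟨D, _, _, ψ, hEt, hψ, hloc⟩ :=
    exists_etale_descent_gen (hW.primeIdealOf ⟨x, hxW⟩).asIdeal (X.presheaf.stalk x)
      i.n i.J i.q i.L
  haveI := hEt
  haveI hprime : ((maximalIdeal i.L).comap ψ).IsPrime := Ideal.comap_isPrime _ _
  let u : Spec (CommRingCat.of D) := ⟨(maximalIdeal i.L).comap ψ, hprime⟩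
  have hgu : (nbhdMap hW D) u = x := by
    have h1 : (Spec.map (CommRingCat.ofHom (algebraMap Γ(X, W) D))) u =
        hW.primeIdealOf ⟨x, hxW⟩ := by
      apply PrimeSpectrum.ext
      show ((maximalIdeal i.L).comap ψ).comap (algebraMap Γ(X, W) D) = _
      rw [Ideal.comap_comap, hψ, ← Ideal.comap_comap]
      have h2 : (maximalIdeal i.L).comap (algebraMap (X.presheaf.stalk x) i.L) =
          maximalIdeal (X.presheaf.stalk x) :=
        ((IsLocalRing.local_hom_TFAE (algebraMap (X.presheaf.stalk x) i.L)).out 0 4).mp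
          (Sh.Idx.isLocalHom i)
      rw [h2]
      exact IsLocalization.AtPrime.comap_maximalIdeal (X.presheaf.stalk x)
        (hW.primeIdealOf ⟨x, hxW⟩).asIdeal
    show hW.fromSpec ((Spec.map (CommRingCat.ofHom (algebraMap Γ(X, W) D))) u) = x
    rw [h1]
    exact hW.fromSpec_primeIdealOf ⟨x, hxW⟩
  obtain ⟨e, he⟩ := stalk_nbhdMap_compat hW D u x hxW hgu i.L ψ hψ hloc
  exact ⟨Spec (CommRingCat.of D), nbhdMap hW D, u, inferInstance, hgu, e, he⟩

end Nbhd

section Ring

open Groth.Agent.Lib.Helper3.Hz Groth.Agent.Lib.T2H1.BranchCount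

/-- the number of branches is invariant under ring isomorphisms. -/
theorem numBranches_eq_of_ringEquiv {A A' : Type u} [CommRing A] [IsLocalRing A]
    [CommRing A'] [IsLocalRing A'] (e : A ≃+* A') :
    Brnch.numBranches A' = Brnch.numBranches A := by
  letI algA' : Algebra A' (Rh A) :=
    ((algebraMap A (Rh A)).comp (e.symm : A' →+* A)).toAlgebra
  have halg : ∀ a', algebraMap A' (Rh A) a' = algebraMap A (Rh A) (e.symm a') := fun _ => rfl
  haveI hloc : IsLocalHom (algebraMap A' (Rh A)) := by
    constructor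
    intro a' ha'
    rw [halg] at ha'
    have h1 : IsUnit (e.symm a') := isUnit_of_map_unit (algebraMap A (Rh A)) _ ha'
    have := h1.map (e : A →+* A')
    simpa using this
  haveI hH : Hensel.IsHenselization A (Rh A) := inferInstance
  haveI : Hensel.IsHenselization A' (Rh A) :=
    { henselian := hH.henselian
      universal := by
        intro T _ _ f hf
        haveI : IsLocalHom (f.comp (e : A →+* A')) := by
          constructor
          intro a ha
          have h1 : IsUnit (e a) := isUnit_of_map_unit f _ ha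
          have := h1.map (e.symm : A' →+* A)
          simpa using this
        obtain ⟨g, hg, huniq⟩ := hH.universal T (f.comp (e : A →+* A')) inferInstance
        refine ⟨g, ?_, ?_⟩
        · ext a'
          have := congrArg (fun φ => φ (e.symm a')) hg
          simpa [halg] using this
        · intro g' hg'
          apply huniq
          ext a
          have := congrArg (fun φ => φ (e a)) hg'
          simpa [halg] using this }
  rw [numBranches_eq_encard_of_isHenselization A' (Rh A),
    numBranches_eq_encard_of_isHenselization A (Rh A)]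

end Ring

noncomputable section Fib

variable {X S : Scheme.{u}} (f : X ⟶ S)

/-- the ideal of the local ring of `X` at `x` generated by the maximal ideal of the local ring of
`S` at `f x`; it cuts out the local ring of the fibre. -/
def Ifib (x : X) : Ideal (X.presheaf.stalk x) :=
  (maximalIdeal (S.presheaf.stalk (f x))).map (f.stalkMap x).hom

lemma Ifib_le (x : X) : Ifib f x ≤ maximalIdeal (X.presheaf.stalk x) :=
  map_maximalIdeal_le (f.stalkMap x).hom

lemma Ifib_comp {U : Scheme.{u}} (g : U ⟶ X) (u : U) :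
    Ifib (g ≫ f) u = (Ifib f (g u)).map (g.stalkMap u).hom := by
  unfold Ifib
  rw [Ideal.map_map]
  congr 1
  rw [Scheme.Hom.stalkMap_comp]
  rfl

instance isLocalRing_quot_Ifib (x : X) : IsLocalRing (X.presheaf.stalk x ⧸ Ifib f x) :=
  isLocalRing_quot (Ifib_le f x)

/-- the number of branches of the fibre, as a function of the point of `X`. -/
def Nfib (x : X) : ℕ∞ := Brnch.numBranches (X.presheaf.stalk x ⧸ Ifib f x)

/-- the number of geometric branches of the fibre, as a function of the point of `X`. -/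
def NGfib (x : X) : ℕ∞ := Brnch.numGeomBranches (X.presheaf.stalk x ⧸ Ifib f x)

variable (s : S) (y : f.fiber s)

lemma ker_stalkMap_fiberι :
    RingHom.ker ((f.fiberι s).stalkMap y).hom = Ifib f (f.fiberι s y) :=
  Groth.Agent.Lib.Helper10.FibStalk.ker_eq_map f s y

lemma stalkMap_fiberι_surjective : Function.Surjective ((f.fiberι s).stalkMap y).hom :=
  (f.fiberι s).stalkMap_surjective y

/-- the minimal primes of the local ring of the fibre. -/
theorem encard_minimalPrimes_fiber_stalk :
    (minimalPrimes ((f.fiber s).presheaf.stalk y)).encard =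
      (Ifib f (f.fiberι s y)).minimalPrimes.encard := by
  rw [encard_minimalPrimes_of_surjective _ (stalkMap_fiberι_surjective f s y),
    ker_stalkMap_fiberι]

/-- the local ring of the fibre as a quotient of the local ring of `X`. -/
def fiberStalkEquiv :
    (X.presheaf.stalk (f.fiberι s y) ⧸ Ifib f (f.fiberι s y)) ≃+*
      (f.fiber s).presheaf.stalk y :=
  (Ideal.quotEquivOfEq (ker_stalkMap_fiberι f s y).symm).trans
    (RingHom.quotientKerEquivOfSurjective (stalkMap_fiberι_surjective f s y))

theorem numBranchesAt_fiber :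
    Brnch.numBranchesAt (f.fiber s) y = Nfib f (f.fiberι s y) :=
  numBranches_eq_of_ringEquiv (fiberStalkEquiv f s y)

theorem numGeomBranchesAt_fiber :
    Brnch.numGeomBranchesAt (f.fiber s) y = NGfib f (f.fiberι s y) :=
  Groth.Agent.Lib.T2H1.UnibranchConn.numGeomBranches_eq_of_ringEquiv (fiberStalkEquiv f s y)

end Fib

noncomputable section Main

open Groth.Agent.Lib.T2H1.BranchCount

variable {X S : Scheme.{u}} (f : X ⟶ S)

/-- transporting the ideal of the fibre along an identification of local rings compatible with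
the stalk map. -/
lemma encard_Ifib_of_compat {U : Scheme.{u}} (g : U ⟶ X) (u : U) {L : Type u} [CommRing L]
    [Algebra (X.presheaf.stalk (g u)) L] (e : L ≃+* U.presheaf.stalk u)
    (he : ∀ a : X.presheaf.stalk (g u), e (algebraMap _ L a) = (g.stalkMap u).hom a) :
    (Ifib (g ≫ f) u).minimalPrimes.encard =
      ((Ifib f (g u)).map (algebraMap (X.presheaf.stalk (g u)) L)).minimalPrimes.encard := by
  have hc : (e : L →+* U.presheaf.stalk u).comp (algebraMap (X.presheaf.stalk (g u)) L) =
      (g.stalkMap u).hom := by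
    ext a
    exact he a
  rw [← encard_minimalPrimes_map_ringEquiv e, Ideal.map_map, hc, Ifib_comp]

/-- if the fibre through `x` has at least `k` branches at `x`, some elementary étale
neighbourhood has at least `k` minimal primes over the ideal of its fibre. -/
theorem exists_etale_nbhd_le_encard_fib (x : X) (k : ℕ) (hk : (k : ℕ∞) ≤ Nfib f x) :
    ∃ (U : Scheme.{u}) (g : U ⟶ X) (u : U), Etale g ∧ g u = x ∧
      Function.Bijective (g.residueFieldMap u).hom ∧
      (k : ℕ∞) ≤ (Ifib (g ≫ f) u).minimalPrimes.encard := by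
  obtain ⟨i, hi⟩ := exists_idx_le_encard (Ifib f x) (Ifib_le f x) k hk
  obtain ⟨U, g, u, hg, hbij, hgu, e, he⟩ := exists_etale_nbhd_of_idx' X x i
  subst hgu
  refine ⟨U, g, u, hg, rfl, hbij, ?_⟩
  rw [encard_Ifib_of_compat f g u e]
  · exact hi
  · intro a
    rw [he a]
    congr 1
    have := TopCat.Presheaf.stalkSpecializes_refl (C := CommRingCat) X.presheaf (g u)
    exact congrArg (fun φ => φ.hom a) this

/-- geometric version. -/
theorem exists_etale_nbhd_le_encard_fib_geom (x : X) (k : ℕ) (hk : (k : ℕ∞) ≤ NGfib f x) :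
    ∃ (U : Scheme.{u}) (g : U ⟶ X) (u : U), Etale g ∧ g u = x ∧
      (k : ℕ∞) ≤ (Ifib (g ≫ f) u).minimalPrimes.encard := by
  let Ω := SeparableClosure (ResidueField (X.presheaf.stalk x))
  letI : Algebra (X.presheaf.stalk x) Ω :=
    ((algebraMap (ResidueField (X.presheaf.stalk x)) Ω).comp
      (residue (X.presheaf.stalk x))).toAlgebra
  haveI : IsScalarTower (X.presheaf.stalk x) (ResidueField (X.presheaf.stalk x)) Ω :=
    IsScalarTower.of_algebraMap_eq (fun _ => rfl)
  obtain ⟨i, hi⟩ := exists_shIdx_le_encard (Ω := Ω) (Ifib f x) (Ifib_le f x) k hk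
  obtain ⟨U, g, u, hg, hgu, e, he⟩ := exists_etale_nbhd_of_shIdx' X x i
  subst hgu
  refine ⟨U, g, u, hg, rfl, ?_⟩
  rw [encard_Ifib_of_compat f g u e]
  · exact hi
  · intro a
    rw [he a]
    congr 1
    have := TopCat.Presheaf.stalkSpecializes_refl (C := CommRingCat) X.presheaf (g u)
    exact congrArg (fun φ => φ.hom a) this

/-- an elementary étale neighbourhood sees at most as many minimal primes over the ideal of its
fibre as the fibre has branches. -/
theorem encard_Ifib_le_Nfib {U : Scheme.{u}} (g : U ⟶ X) [Etale g] (u : U)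
    (hbij : Function.Bijective (g.residueFieldMap u).hom) :
    (Ifib (g ≫ f) u).minimalPrimes.encard ≤ Nfib f (g u) := by
  letI algAA' : Algebra (X.presheaf.stalk (g u)) (U.presheaf.stalk u) :=
    (g.stalkMap u).hom.toAlgebra
  haveI hlocAA' : IsLocalHom (algebraMap (X.presheaf.stalk (g u)) (U.presheaf.stalk u)) :=
    (inferInstance : IsLocalHom (g.stalkMap u).hom)
  have hess : EGA4loc.IsEssentiallyEtale (X.presheaf.stalk (g u)) (U.presheaf.stalk u) :=
    Groth.Agent.Lib.T2H1.EssEtStalk.isEssentiallyEtale_stalkMap g u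
  rw [Ifib_comp]
  exact encard_le_numBranches_of_isStrict (Ifib f (g u)) (Ifib_le f (g u))
    (U.presheaf.stalk u) ⟨hess, hbij⟩

/-- geometric version. -/
theorem encard_Ifib_le_NGfib {U : Scheme.{u}} (g : U ⟶ X) [Etale g] (u : U) :
    (Ifib (g ≫ f) u).minimalPrimes.encard ≤ NGfib f (g u) := by
  letI algAA' : Algebra (X.presheaf.stalk (g u)) (U.presheaf.stalk u) :=
    (g.stalkMap u).hom.toAlgebra
  haveI hlocAA' : IsLocalHom (algebraMap (X.presheaf.stalk (g u)) (U.presheaf.stalk u)) :=
    (inferInstance : IsLocalHom (g.stalkMap u).hom)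
  have hess : EGA4loc.IsEssentiallyEtale (X.presheaf.stalk (g u)) (U.presheaf.stalk u) :=
    Groth.Agent.Lib.T2H1.EssEtStalk.isEssentiallyEtale_stalkMap g u
  rw [Ifib_comp]
  exact encard_le_numGeomBranches_of_isEssentiallyEtale (Ifib f (g u)) (Ifib_le f (g u))
    (U.presheaf.stalk u) hess

/-- the irreducible components of the fibre through the point over `u`. -/
theorem encard_components_fiber {W : Scheme.{u}} (h : W ⟶ S) (s : S) (w' : h.fiber s) :
    {Z : Set ↑(h.fiber s) | Z ∈ irreducibleComponents ↑(h.fiber s) ∧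
      ∃ u' ∈ Z, h.fiberι s u' = h.fiberι s w'}.encard =
      (Ifib h (h.fiberι s w')).minimalPrimes.encard := by
  have hset : {Z : Set ↑(h.fiber s) | Z ∈ irreducibleComponents ↑(h.fiber s) ∧
      ∃ u' ∈ Z, h.fiberι s u' = h.fiberι s w'} =
      {Z : Set ↑(h.fiber s) | Z ∈ irreducibleComponents ↑(h.fiber s) ∧ w' ∈ Z} := by
    ext Z
    constructor
    · rintro ⟨hZ, u', hu', hu⟩
      have := (h.fiberι s).isEmbedding.injective hu
      exact ⟨hZ, this ▸ hu'⟩
    · rintro ⟨hZ, hw⟩
      exact ⟨hZ, w', hw, rfl⟩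
  rw [hset, encard_irreducibleComponents_mem, encard_minimalPrimes_fiber_stalk]

/-- a point of `U` over a point of the fibre of `X` lies in the fibre of `U`. -/
lemma exists_fiber_point {U : Scheme.{u}} (g : U ⟶ X) (u : U) (s : S) (y : f.fiber s)
    (hgu : g u = f.fiberι s y) : ∃ u' : (g ≫ f).fiber s, (g ≫ f).fiberι s u' = u := by
  have hmem : u ∈ Set.range ((g ≫ f).fiberι s) := by
    rw [(g ≫ f).range_fiberι]
    show f (g u) = s
    rw [hgu]
    exact Groth.Agent.Lib.Helper10.FibStalk.fiberι_apply_eq f s y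
  exact hmem

/-- **branch count of a fibre through elementary étale neighbourhoods.** -/
theorem numBranchesAt_fiber_eq_iSup (s : S) (y : f.fiber s) :
    Brnch.numBranchesAt (f.fiber s) y =
      ⨆ (U : Scheme.{u}) (g : U ⟶ X) (u : U) (_ : Hens2.IsEtaleNbhd g u (f.fiberι s y)),
      {Z : Set ↑((g ≫ f).fiber s) | Z ∈ irreducibleComponents ↑((g ≫ f).fiber s) ∧
        ∃ u' ∈ Z, (g ≫ f).fiberι s u' = u}.encard := by
  rw [numBranchesAt_fiber]
  apply le_antisymm
  · rw [← ENat.forall_natCast_le_iff_le]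
    intro k hk
    obtain ⟨U, g, u, hg, hgu, hbij, hle⟩ := exists_etale_nbhd_le_encard_fib f _ k hk
    obtain ⟨u', rfl⟩ := exists_fiber_point f g u s y hgu
    refine le_trans ?_ (le_iSup_of_le U <| le_iSup_of_le g <|
      le_iSup_of_le ((g ≫ f).fiberι s u') <| le_iSup_of_le ⟨hg, hgu, hbij⟩ le_rfl)
    rw [encard_components_fiber]
    exact hle
  · refine iSup_le fun U => iSup_le fun g => iSup_le fun u => iSup_le fun hn => ?_
    obtain ⟨het, hbase, hres⟩ := hn
    obtain ⟨u', rfl⟩ := exists_fiber_point f g u s y hbase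
    haveI := het
    rw [encard_components_fiber]
    have h1 := encard_Ifib_le_Nfib f g ((g ≫ f).fiberι s u') hres
    have h2 : g ((g ≫ f).fiberι s u') = f.fiberι s y := hbase
    rwa [h2] at h1

/-- **geometric branch count of a fibre through étale neighbourhoods.** -/
theorem numGeomBranchesAt_fiber_eq_iSup (s : S) (y : f.fiber s) :
    Brnch.numGeomBranchesAt (f.fiber s) y =
      ⨆ (U : Scheme.{u}) (g : U ⟶ X) (u : U) (_ : Etale g ∧ g u = f.fiberι s y),
      {Z : Set ↑((g ≫ f).fiber s) | Z ∈ irreducibleComponents ↑((g ≫ f).fiber s) ∧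
        ∃ u' ∈ Z, (g ≫ f).fiberι s u' = u}.encard := by
  rw [numGeomBranchesAt_fiber]
  apply le_antisymm
  · rw [← ENat.forall_natCast_le_iff_le]
    intro k hk
    obtain ⟨U, g, u, hg, hgu, hle⟩ := exists_etale_nbhd_le_encard_fib_geom f _ k hk
    obtain ⟨u', rfl⟩ := exists_fiber_point f g u s y hgu
    refine le_trans ?_ (le_iSup_of_le U <| le_iSup_of_le g <|
      le_iSup_of_le ((g ≫ f).fiberι s u') <| le_iSup_of_le ⟨hg, hgu⟩ le_rfl)
    rw [encard_components_fiber]
    exact hle
  · refine iSup_le fun U => iSup_le fun g => iSup_le fun u => iSup_le fun hn => ?_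
    obtain ⟨het, hbase⟩ := hn
    obtain ⟨u', rfl⟩ := exists_fiber_point f g u s y hbase
    haveI := het
    rw [encard_components_fiber]
    have h1 := encard_Ifib_le_NGfib f g ((g ≫ f).fiberι s u')
    have h2 : g ((g ≫ f).fiberι s u') = f.fiberι s y := hbase
    rwa [h2] at h1

end Main

end Groth.Agent.Lib.T2H1.FibBranch
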