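import Mathlib
import Groth.Agent.Lib.T2H1FibCrit2
import Groth.Agent.Lib.Helper12FibreSpec
import Groth.Agent.Lib.Helper3FibCritSch

/-!
# The fibrewise criterion of flatness for locally Noetherian algebraic spaces (helper1)
-/

set_option autoImplicit false
set_option linter.unusedVariables false
set_option linter.unusedSectionVars false
set_option linter.style.haveILetI false
universe u
open CategoryTheory CategoryTheory.Limits AlgebraicGeometry Opposite TensorProduct
open AlgSp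

namespace Groth.Agent.Lib.T2H1.FibCrit

open Groth.Agent.Lib.Helper3.EtGUSch Groth.Agent.Lib.Helper3.FibEtSch
  Groth.Agent.Lib.Helper3.FibChart Groth.Agent.Lib.Helper3.FibCritA
  Groth.Agent.Lib.Helper3.FibCritD

set_option maxHeartbeats 3200000 in
/-- **Flat fibre criterion, pointwise form, locally Noetherian schemes.** -/
theorem flat_stalkMap_of_flat_of_fibre_noeth {X Y S : Scheme.{u}} (f : X ⟶ Y) (g : Y ⟶ S)
    [IsLocallyNoetherian X] [IsLocallyNoetherian Y] [IsLocallyNoetherian S]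
    (x : X) (hflat : ((f ≫ g).stalkMap x).hom.Flat)
    (hfib0 : Flat (MoreMor.fiberMap f g ((f ≫ g) x))) :
    (f.stalkMap x).hom.Flat := by
  have hfib : Flat ((((f ≫ g).fiberι ((f ≫ g) x)) ⁻¹ᵁ (⊤ : X.Opens)).ι ≫
      CohIII.fiberMapOver f (f ≫ g) g rfl ((f ≫ g) x)) := by
    rw [← Groth.Agent.Lib.Helper3.FibCritSch.fiberMap_eq_fiberMapOver]
    infer_instance
  -- charts
  obtain ⟨S₀, hS₀, W, hW, hWS, hfxW, -⟩ := exists_affine_nhds g (f x) ⊤ trivial
  obtain ⟨V, hV, hxV, hVle⟩ := TopologicalSpace.Opens.isBasis_iff_nbhd.mp X.isBasis_affineOpens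
    (show x ∈ f ⁻¹ᵁ W from hfxW)
  have hVW : V ≤ f ⁻¹ᵁ W := hVle
  have hVS : V ≤ (f ≫ g) ⁻¹ᵁ S₀ := fun z hz => hWS (hVW hz)
  let A := Γ(S, S₀)
  let B := Γ(Y, W)
  let C := Γ(X, V)
  letI algAB : Algebra A B := (g.appLE S₀ W hWS).hom.toAlgebra
  letI algBC : Algebra B C := (f.appLE W V hVW).hom.toAlgebra
  letI algAC : Algebra A C := ((f ≫ g).appLE S₀ V hVS).hom.toAlgebra
  haveI : IsScalarTower A B C := by
    refine IsScalarTower.of_algebraMap_eq' ?_
    show ((f ≫ g).appLE S₀ V hVS).hom = (f.appLE W V hVW).hom.comp (g.appLE S₀ W hWS).hom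
    rw [← CommRingCat.hom_comp, Scheme.Hom.appLE_comp_appLE]
  have hsS₀ : (f ≫ g) x ∈ S₀ := hVS hxV
  let p : Spec Γ(S, S₀) := hS₀.primeIdealOf ⟨(f ≫ g) x, hsS₀⟩
  let q : Spec Γ(X, V) := hV.primeIdealOf ⟨x, hxV⟩
  have hP : q.asIdeal.under A = p.asIdeal :=
    congr($(IsAffineOpen.comap_primeIdealOf_appLE S₀ hS₀ V hV hVS hxV).1)
  -- Noetherianity
  haveI : IsNoetherianRing A := IsLocallyNoetherian.component_noetherian ⟨S₀, hS₀⟩
  haveI : IsNoetherianRing B := IsLocallyNoetherian.component_noetherian ⟨W, hW⟩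
  haveI : IsNoetherianRing C := IsLocallyNoetherian.component_noetherian ⟨V, hV⟩
  -- flatness
  have hflat' : Module.Flat A (LocalizedModule q.asIdeal.primeCompl C) :=
    (Groth.Agent.S0386.flat_stalkMap_iff_localizedModule S₀ hS₀ V hV hVS hxV).mp hflat
  -- the chart of the fibre map
  have h4 := ringHom_fibre_chart (P := @Flat) (Q := @RingHom.Flat) f g hS₀ hW hV hWS hVW hVS
    x hxV ⊤ le_top hfib
  let ρ₁ : B ⊗[A] p.asIdeal.ResidueField →ₐ[A] C ⊗[A] p.asIdeal.ResidueField :=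
    Algebra.TensorProduct.map (IsScalarTower.toAlgHom A B C) (AlgHom.id A p.asIdeal.ResidueField)
  have h4' : ρ₁.toRingHom.Flat := h4
  -- convert to the `κ`-left convention
  have h5 : (fiberMap (B := B) (C := C) p.asIdeal).toRingHom.Flat := by
    have hc : (fiberMap (B := B) (C := C) p.asIdeal).toRingHom =
        ((Algebra.TensorProduct.comm A C p.asIdeal.ResidueField).toAlgHom.toRingHom.comp
          ρ₁.toRingHom).comp
          (Algebra.TensorProduct.comm A p.asIdeal.ResidueField B).toAlgHom.toRingHom := by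
      apply RingHom.ext
      intro z
      induction z using TensorProduct.induction_on with
      | zero => simp
      | add a b ha hb => rw [map_add, map_add, ha, hb]
      | tmul a b => rfl
    rw [hc]
    refine RingHom.Flat.comp ?_ (RingHom.Flat.comp h4' ?_)
    · exact RingHom.Flat.of_bijective
        (Algebra.TensorProduct.comm A p.asIdeal.ResidueField B).bijective
    · exact RingHom.Flat.of_bijective
        (Algebra.TensorProduct.comm A C p.asIdeal.ResidueField).bijective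
  -- ring lemma
  have h6 : Module.Flat B (LocalizedModule q.asIdeal.primeCompl C) :=
    flat_localizedModule_of_fiberMap_flat_noeth (A := A) (B := B) (C := C) p.asIdeal h5
      q.asIdeal hP hflat'
  exact (Groth.Agent.S0386.flat_stalkMap_iff_localizedModule W hW V hV hVW hxV).mpr h6

variable {S : Scheme.{u}}

section Main

variable {X Y Z : AlgSp.Sp S} {f : X ⟶ Y} {h : Y ⟶ Z}

/-- in a tower of charts of locally Noetherian spaces, the top map is flat and the bottom map is
flat at the image points. -/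
lemma tower_flat_noeth (hX : AlgSp.IsAlgSpace X) (hY : AlgSp.IsAlgSpace Y)
    (hZ : AlgSp.IsAlgSpace Z) (hXn : AlgSp.IsLocNoethSp X) (hYn : AlgSp.IsLocNoethSp Y)
    (hZn : AlgSp.IsLocNoethSp Z)
    (hfl : AlgSp.LocP @Flat (f ≫ h)) (hfib : FibresFlat f h)
    {U V W : Over S} (a : (AlgSp.yon S).obj U ⟶ X) (b : (AlgSp.yon S).obj V ⟶ Y)
    (c : (AlgSp.yon S).obj W ⟶ Z) (u : U ⟶ V) (v : V ⟶ W)
    (ha : AlgSp.RepWith @Etale a) (hb : AlgSp.RepWith @Etale b) (hc : AlgSp.RepWith @Etale c)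
    (hab : a ≫ f = (AlgSp.yon S).map u ≫ b) (hbc : b ≫ h = (AlgSp.yon S).map v ≫ c) :
    Flat u.left ∧ ∀ x : U.left, (v.left.stalkMap (u.left x)).hom.Flat := by
  have hak : a ≫ (f ≫ h) = (AlgSp.yon S).map (u ≫ v) ≫ c := by
    rw [← Category.assoc, hab, Category.assoc, hbc, Functor.map_comp, Category.assoc]
  haveI h2 : Flat (u.left ≫ v.left) := hfl a c (u ≫ v) ha hc hak
  haveI := Groth.Agent.Lib.Helper12.FibreSpec.isLocallyNoetherian_of_chart hXn a ha
  haveI := Groth.Agent.Lib.Helper12.FibreSpec.isLocallyNoetherian_of_chart hYn b hb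
  haveI := Groth.Agent.Lib.Helper12.FibreSpec.isLocallyNoetherian_of_chart hZn c hc
  have hall : ∀ x : U.left, (u.left.stalkMap x).hom.Flat := fun x => by
    haveI := flat_fiberMap_of_tower hX hY hZ hfib a b c u v ha hb hc hab hbc
      ((u.left ≫ v.left) x)
    exact flat_stalkMap_of_flat_of_fibre_noeth u.left v.left x (Flat.stalkMap _ x) inferInstance
  exact ⟨(Flat.iff_flat_stalkMap _).2 hall, fun x =>
    Groth.Agent.Lib.Helper5.FiberMor.flat_of_comp u.left v.left x (Flat.stalkMap _ x) (hall x)⟩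

/-- **Fibrewise criterion of flatness for locally Noetherian algebraic spaces.** -/
theorem flat_of_flat_fibres_noeth (hX : AlgSp.IsAlgSpace X) (hY : AlgSp.IsAlgSpace Y)
    (hZ : AlgSp.IsAlgSpace Z) (hXn : AlgSp.IsLocNoethSp X) (hYn : AlgSp.IsLocNoethSp Y)
    (hZn : AlgSp.IsLocNoethSp Z)
    (hfl : AlgSp.LocP @Flat (f ≫ h)) (hfib : FibresFlat f h) :
    AlgSp.LocP @Flat f ∧ (Function.Surjective (AlgSp.Points.map f) → AlgSp.LocP @Flat h) := by
  constructor
  · rw [Groth.Agent.Lib.Helper12.LocPNbhd.locP_iff_forall_hasAtMor Groth.Agent.Lib.Helper12.LocPCases.good_flat hX hY]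
    intro x
    obtain ⟨U, V, W, a, b, c, u, v, u₀, ha, hb, hc, hab, hbc, hu₀, -⟩ :=
      Groth.Agent.Lib.T2H1.Tower.exists_tower hX hY hZ f h x
    obtain ⟨hfl', -⟩ := tower_flat_noeth hX hY hZ hXn hYn hZn hfl hfib a b c u v ha hb hc hab hbc
    refine ⟨U, V, a, b, u, u₀, ha, hb, hab, hu₀, ⊤, trivial, ?_⟩
    haveI := hfl'
    infer_instance
  · intro hsurj V W b c v hb hc hbc
    rw [Flat.iff_flat_stalkMap]
    intro v₁
    obtain ⟨x, hx⟩ := hsurj (AlgSp.Points.ofPt b v₁)
    obtain ⟨U, a, u, u₁, ha, hab, -, hu₁⟩ :=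
      Groth.Agent.Lib.T2H1.Tower.exists_chart_over hX hY f x b hb v₁ hx.symm
    obtain ⟨-, hv⟩ := tower_flat_noeth hX hY hZ hXn hYn hZn hfl hfib a b c u v ha hb hc hab hbc
    have := hv u₁
    rwa [hu₁] at this

end Main

end Groth.Agent.Lib.T2H1.FibCrit
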