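import Mathlib
import Groth.Agent.Lib.T2H1MonoField

/-!
# Base change of a monomorphism concentrated over one point (helper1, team 2)

If `e₁ : E ⟶ V` is a monomorphism of schemes all of whose points lie over one point `v` (and `E` is
nonempty) then `U ×_V E ⟶ U` is a topological embedding, for every `h : U ⟶ V`: indeed
`U ×_V E` is the scheme theoretic fibre of `h` over `v`.
-/

set_option autoImplicit false
universe u
open CategoryTheory CategoryTheory.Limits AlgebraicGeometry

namespace Groth.Agent.Lib.T2H1.FibreEmb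

theorem isInducing_of_mono_fibre {U V E P : Scheme.{u}} {h : U ⟶ V} {e₁ : E ⟶ V} {p₁ : P ⟶ U}
    {p₂ : P ⟶ E} (sq : IsPullback p₁ p₂ h e₁) [Mono e₁] (v : V) (hE : ∀ ε : E, e₁ ε = v)
    (ε₀ : E) : Topology.IsInducing p₁ := by
  -- `T = Spec κ(v) ×_V E` is isomorphic to `Spec κ(v)`
  let m : pullback (V.fromSpecResidueField v) e₁ ⟶ Spec (V.residueField v) := pullback.fst _ _
  have sq3 : IsPullback m (pullback.snd (V.fromSpecResidueField v) e₁)
      (V.fromSpecResidueField v) e₁ := IsPullback.of_hasPullback _ _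
  haveI : Mono m := sq3.mono_fst_of_mono
  haveI : Nonempty ↥(pullback (V.fromSpecResidueField v) e₁) := by
    obtain ⟨s, hs⟩ : ∃ s, V.fromSpecResidueField v s = v := by
      have : v ∈ Set.range (V.fromSpecResidueField v) := by
        rw [Scheme.range_fromSpecResidueField]; rfl
      exact this
    obtain ⟨t, -, -⟩ := Scheme.Pullback.exists_preimage_pullback s ε₀ (hs.trans (hE ε₀).symm)
    exact ⟨t⟩
  haveI : IsIso m := Groth.Agent.Lib.T2H1.MonoField.isIso_of_mono_of_nonempty
    (K := V.residueField v) _ m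
  -- `Q = P ×_U U_v`
  let πP : pullback p₁ (h.fiberι v) ⟶ P := pullback.fst _ _
  let πU : pullback p₁ (h.fiberι v) ⟶ h.fiber v := pullback.snd _ _
  have sq1 : IsPullback πP πU p₁ (h.fiberι v) := IsPullback.of_hasPullback _ _
  have big : IsPullback πU (πP ≫ p₂) (h.fiberι v ≫ h) e₁ := sq1.flip.paste_vert sq
  rw [h.fiber_fac v] at big
  let τ : pullback p₁ (h.fiberι v) ⟶ pullback (V.fromSpecResidueField v) e₁ :=
    pullback.lift (πU ≫ h.fiberToSpecResidueField v) (πP ≫ p₂) (by
      rw [Category.assoc]; exact big.w)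
  have hτ1 : τ ≫ m = πU ≫ h.fiberToSpecResidueField v := pullback.lift_fst _ _ _
  have hτ2 : τ ≫ pullback.snd (V.fromSpecResidueField v) e₁ = πP ≫ p₂ := pullback.lift_snd _ _ _
  have sqU : IsPullback πU τ (h.fiberToSpecResidueField v) m := by
    refine IsPullback.of_bot ?_ hτ1.symm sq3
    rw [hτ2]
    exact big
  haveI : IsIso πU := sqU.isIso_fst_of_isIso
  -- topology
  have hcomp : ∀ q, p₁ (πP q) = h.fiberι v (πU q) := by
    intro q
    have := congrArg (fun φ : pullback p₁ (h.fiberι v) ⟶ U => φ q) sq1.w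
    simpa using this
  have hind : Topology.IsInducing (fun q => h.fiberι v (πU q)) :=
    (h.fiberι v).isEmbedding.isInducing.comp πU.homeomorph.isInducing
  have hsurj : Function.Surjective πP := by
    intro p'
    have hp' : p₁ p' ∈ Set.range (h.fiberι v) := by
      rw [Scheme.Hom.range_fiberι]
      show h (p₁ p') = v
      have := congrArg (fun φ : P ⟶ V => φ p') sq.w
      simp only [Scheme.Hom.comp_apply] at this
      rw [this]
      exact hE _
    obtain ⟨w, hw⟩ := hp'
    obtain ⟨q, hq, -⟩ := Scheme.Pullback.exists_preimage_pullback p' w hw.symm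
    exact ⟨q, hq⟩
  constructor
  apply le_antisymm
  · exact continuous_iff_le_induced.1 p₁.continuous
  · intro O hO
    have h1 : IsOpen (πP ⁻¹' O) := hO.preimage πP.continuous
    rw [hind.isOpen_iff] at h1
    obtain ⟨N, hN, hNO⟩ := h1
    rw [isOpen_induced_iff]
    refine ⟨N, hN, ?_⟩
    ext p'
    obtain ⟨q, rfl⟩ := hsurj p'
    have : q ∈ (fun q => h.fiberι v (πU q)) ⁻¹' N ↔ q ∈ πP ⁻¹' O := by rw [hNO]
    simp only [Set.mem_preimage] at this ⊢
    rw [hcomp]
    exact this

end Groth.Agent.Lib.T2H1.FibreEmb
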