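import Mathlib
import Groth.Agent.Lib.T2H1HasAt
import Groth.Agent.Lib.T2H1Tower
import Groth.Agent.Lib.Helper4DimFormulaT
import Groth.Agent.S10555
import Groth.Prelude.Def_Dual3

/-!
# Transcendence degree of residue field extensions on chart diagrams (helper1, team 2)

* `resTrdeg_comp`: tower law for `Dual3.resTrdeg`.
* `resTrdeg_eq_zero_of_lqf`: locally quasi-finite morphisms have algebraic residue field extensions.
* `etInv_resTrdeg`: a relation on `resTrdeg` is invariant under etale squares, so it may be read on
  any chart diagram.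
* `resTrdeg_eq_ptTrdeg`: comparison with helper4's natural-number valued `ptTrdeg`.
-/

set_option autoImplicit false
universe u
open CategoryTheory CategoryTheory.Limits AlgebraicGeometry
open AlgSp

namespace Groth.Agent.Lib.T2H1.ResTrdeg

/-- tower law for the transcendence degree of residue field extensions. -/
theorem resTrdeg_comp {X Y Z : Scheme.{u}} (f : X ⟶ Y) (g : Y ⟶ Z) (x : X) :
    Dual3.resTrdeg (f ≫ g) x = Dual3.resTrdeg g (f x) + Dual3.resTrdeg f x := by
  unfold Dual3.resTrdeg
  letI a1 : Algebra (Z.residueField (g (f x))) (Y.residueField (f x)) :=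
    (g.residueFieldMap (f x)).hom.toAlgebra
  letI a2 : Algebra (Y.residueField (f x)) (X.residueField x) :=
    (f.residueFieldMap x).hom.toAlgebra
  letI a3 : Algebra (Z.residueField (g (f x))) (X.residueField x) :=
    ((f ≫ g).residueFieldMap x).hom.toAlgebra
  haveI : IsScalarTower (Z.residueField (g (f x))) (Y.residueField (f x)) (X.residueField x) :=
    IsScalarTower.of_algebraMap_eq' (by
      show ((f ≫ g).residueFieldMap x).hom =
        (f.residueFieldMap x).hom.comp (g.residueFieldMap (f x)).hom
      rw [Scheme.residueFieldMap_comp]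
      rfl)
  exact (trdeg_add_eq (Z.residueField (g (f x))) (Y.residueField (f x))
    (A := X.residueField x)).symm

/-- a locally quasi-finite morphism has algebraic residue field extensions. -/
theorem resTrdeg_eq_zero_of_lqf {X Y : Scheme.{u}} (f : X ⟶ Y) [LocallyQuasiFinite f] (x : X) :
    Dual3.resTrdeg f x = 0 := by
  unfold Dual3.resTrdeg
  letI a2 : Algebra (Y.residueField (f x)) (X.residueField x) :=
    (f.residueFieldMap x).hom.toAlgebra
  have h1 : LocallyQuasiFinite (Spec.map (f.residueFieldMap x) ≫ Y.fromSpecResidueField (f x)) := by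
    rw [Scheme.Hom.SpecMap_residueFieldMap_fromSpecResidueField]
    infer_instance
  have h2 : LocallyQuasiFinite (Spec.map (f.residueFieldMap x)) :=
    LocallyQuasiFinite.of_comp _ (Y.fromSpecResidueField (f x))
  have h3 : (f.residueFieldMap x).hom.QuasiFinite :=
    (HasRingHomProperty.Spec_iff (P := @LocallyQuasiFinite)).mp h2
  have h4 : Algebra.QuasiFinite (Y.residueField (f x)) (X.residueField x) := h3
  haveI : Module.Finite (Y.residueField (f x)) (X.residueField x) := Module.Finite.of_quasiFinite
  exact trdeg_eq_zero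

theorem resTrdeg_eq_zero_of_etale {X Y : Scheme.{u}} (f : X ⟶ Y) [Etale f] (x : X) :
    Dual3.resTrdeg f x = 0 := by
  haveI := Groth.Agent.S10555.lqf_of_etale f
  exact resTrdeg_eq_zero_of_lqf f x

theorem resTrdeg_congr {X Y : Scheme.{u}} {f g : X ⟶ Y} (h : f = g) (x : X) :
    Dual3.resTrdeg f x = Dual3.resTrdeg g x := by subst h; rfl

/-- the transcendence degree of the residue field extension is invariant under etale squares. -/
theorem resTrdeg_eq_of_etale_square {U U' V V' : Scheme.{u}} (h : U ⟶ V) (h' : U' ⟶ V')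
    (a : U' ⟶ U) (b : V' ⟶ V) [Etale a] [Etale b] (comm : h' ≫ b = a ≫ h) (u' : U') :
    Dual3.resTrdeg h (a u') = Dual3.resTrdeg h' u' := by
  have e1 := resTrdeg_comp a h u'
  have e2 := resTrdeg_comp h' b u'
  rw [resTrdeg_eq_zero_of_etale a, add_zero] at e1
  rw [resTrdeg_eq_zero_of_etale b, zero_add] at e2
  rw [← e1, ← e2, resTrdeg_congr comm]

/-- a relation on the residue transcendence degree is invariant under etale squares. -/
theorem etInv_resTrdeg (R : Cardinal.{u} → Prop) :
    Groth.Agent.Lib.T2H1.HasAt.EtInv (fun _ _ h u => R (Dual3.resTrdeg h u)) := by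
  intro U U' V V' h h' a b ha hb comm u'
  haveI := ha
  haveI := hb
  show R (Dual3.resTrdeg h (a u')) ↔ R (Dual3.resTrdeg h' u')
  rw [resTrdeg_eq_of_etale_square h h' a b comm u']

open Groth.Agent.Lib.Helper4.DimFormula in
theorem resTrdeg_eq_ptTrdeg {X Y : Scheme.{u}} (f : X ⟶ Y) [LocallyOfFiniteType f] (x : X) :
    Dual3.resTrdeg f x = (ptTrdeg f x : Cardinal.{u}) :=
  trdeg_eq_ptTrdeg f x

end Groth.Agent.Lib.T2H1.ResTrdeg
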