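import Mathlib
import Groth.Agent.S10456
import Groth.Agent.S10190
import Groth.Agent.S10176
import Groth.Agent.S10177
import Groth.Agent.Lib.T2H1StalkDim
import Groth.Agent.Lib.Helper7TopDim
import Groth.Agent.Lib.Helper3GrpHomQF
import Groth.Agent.Lib.Helper3RelDimFlat
import Groth.Prelude.Def_AlgSpDec
import Groth.Prelude.Def_AlgSp3

/-!
# Points of algebraic spaces locally of finite type over a field (helper1, team 2)

Topological lemmas used for "isolated point / dimension zero" statements.
-/

set_option autoImplicit false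
universe u
open CategoryTheory CategoryTheory.Limits AlgebraicGeometry TopologicalSpace
open AlgSp

namespace Groth.Agent.Lib.T2H1.FieldSp

variable {S : Scheme.{u}}

/-- closedness in `|X|` can be tested on an etale surjective chart. -/
lemma isClosed_of_preimage_atlas {X : AlgSp.Sp S} {U₀ : Over S} (a₀ : (AlgSp.yon S).obj U₀ ⟶ X)
    (he : AlgSp.RepWith @Etale a₀) (hs : AlgSp.RepWith @Surjective a₀) (Z : Set (AlgSp.Points X))
    (hc : IsClosed (AlgSp.Points.ofPt a₀ ⁻¹' Z)) : IsClosed Z := by
  rw [← isOpen_compl_iff]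
  have ho := Groth.Agent.S10176.isOpenMap_ofPt a₀ he _ hc.isOpen_compl
  convert ho using 1
  ext z
  constructor
  · intro hz
    obtain ⟨w, rfl⟩ := Groth.Agent.S10177.surjective_ofPt a₀ hs z
    exact ⟨w, hz, rfl⟩
  · rintro ⟨w, hw, rfl⟩
    exact hw

/-- a T0 space of Krull dimension `≤ 0` has no nontrivial specializations. -/
lemma eq_of_specializes_of_dim_le_zero {T : Type*} [TopologicalSpace T] [T0Space T]
    (h : topologicalKrullDim T ≤ 0) {z z' : T} (hs : z' ⤳ z) : z' = z := by
  by_contra hne
  let A : IrreducibleCloseds T := ⟨closure {z}, isIrreducible_singleton.closure, isClosed_closure⟩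
  let B : IrreducibleCloseds T := ⟨closure {z'}, isIrreducible_singleton.closure, isClosed_closure⟩
  have hle : A ≤ B := by
    show closure {z} ⊆ closure {z'}
    exact closure_minimal (Set.singleton_subset_iff.2 hs.mem_closure) isClosed_closure
  have hne' : A ≠ B := by
    intro hAB
    have h1 : closure ({z} : Set T) = closure {z'} := congrArg IrreducibleCloseds.carrier hAB
    have h2 : z ⤳ z' := by
      rw [specializes_iff_mem_closure, h1]; exact subset_closure rfl
    exact hne (hs.antisymm h2).eq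
  have hlt : A < B := lt_of_le_of_ne hle hne'
  have h1 : (1 : WithBot ℕ∞) ≤ topologicalKrullDim T :=
    Order.one_le_krullDim_iff.mpr ⟨A, B, hlt⟩
  have h2 : (1 : WithBot ℕ∞) ≤ 0 := h1.trans h
  exact absurd h2 (by decide)

/-- a specialization between points with local rings of the same (finite) dimension is trivial. -/
lemma eq_of_specializes_of_dim_eq (U : Scheme.{u}) [IsLocallyNoetherian U] (u τ : U) (hs : τ ⤳ u)
    (hd : ringKrullDim ↥(U.presheaf.stalk τ) = ringKrullDim ↥(U.presheaf.stalk u)) : τ = u := by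
  by_contra hne
  have hfin : ringKrullDim ↥(U.presheaf.stalk u) < ⊤ := ringKrullDim_lt_top
  rw [ringKrullDim_stalk_eq_coheight, ringKrullDim_stalk_eq_coheight] at hd
  rw [ringKrullDim_stalk_eq_coheight] at hfin
  have hd' : Order.coheight τ = Order.coheight u := by exact_mod_cast hd
  have hfin' : Order.coheight u ≠ ⊤ := by
    intro h
    rw [h] at hfin
    exact absurd hfin (lt_irrefl _)
  have hlt : u < τ := by
    refine lt_iff_le_not_ge.2 ⟨(show u ≤ τ from hs), fun h => ?_⟩
    have h' : u ⤳ τ := h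
    exact hne (hs.antisymm h').eq
  have h1 := Order.coheight_add_one_le hlt
  rw [hd'] at h1
  exact absurd h1 (not_le_of_gt ((ENat.lt_add_one_iff hfin').2 le_rfl))

/-- if `F` is closed in the open set `O` and consists of maximal points, every point of `F` is
open. -/
lemma isOpen_singleton_of_fibre (U : Scheme.{u}) [IsLocallyNoetherian U] (O F : Set U)
    (hO : IsOpen O) (hFO : F ⊆ O) (hF : ∀ z ∈ O, z ∈ closure F → z ∈ F)
    (hmax : ∀ z ∈ F, ∀ τ : U, τ ⤳ z → τ = z) (u : U) (hu : u ∈ F) : IsOpen ({u} : Set U) := by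
  obtain ⟨N, huN, hN⟩ := Groth.Agent.S10456.exists_opens_subset_closure U u (hmax u hu)
  have heq : ({u} : Set U) = (N : Set U) ∩ O := by
    ext z
    constructor
    · rintro rfl
      exact ⟨huN, hFO hu⟩
    · rintro ⟨hzN, hzO⟩
      have hzc : z ∈ closure ({u} : Set U) := hN hzN
      have hzF : z ∈ F := hF z hzO (closure_mono (Set.singleton_subset_iff.2 hu) hzc)
      have huz : u ⤳ z := specializes_iff_mem_closure.2 hzc
      exact (hmax z hzF u huz).symm
  rw [heq]
  exact N.isOpen.inter hO

variable {k : Type u} [Field k]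

/-- charts of a space locally of finite type over a field are locally Noetherian and Jacobson. -/
lemma chart_props (X : AlgSp.Space (Spec (CommRingCat.of k)))
    (p : X.obj ⟶ (AlgSp.yon (Spec (CommRingCat.of k))).obj (Over.mk (𝟙 _)))
    (hp : AlgSp.LocP @LocallyOfFiniteType p) {U : Over (Spec (CommRingCat.of k))}
    (a : (AlgSp.yon (Spec (CommRingCat.of k))).obj U ⟶ X.obj) (ha : AlgSp.RepWith @Etale a) :
    IsLocallyNoetherian U.left ∧ JacobsonSpace ↥U.left := by
  obtain ⟨h, hh⟩ := (AlgSp.yon (Spec (CommRingCat.of k))).map_surjective (a ≫ p)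
  haveI : LocallyOfFiniteType h.left :=
    hp a (𝟙 _) h ha (AlgSp.repWith_id _ _) (by rw [hh, Category.comp_id])
  haveI : IsLocallyNoetherian (Over.mk (𝟙 (Spec (CommRingCat.of k)))).left :=
    inferInstanceAs (IsLocallyNoetherian (Spec (CommRingCat.of k)))
  haveI : JacobsonSpace ↥(Over.mk (𝟙 (Spec (CommRingCat.of k)))).left :=
    inferInstanceAs (JacobsonSpace ↥(Spec (CommRingCat.of k)))
  exact ⟨LocallyOfFiniteType.isLocallyNoetherian h.left, LocallyOfFiniteType.jacobsonSpace h.left⟩

/-- two points of a chart over the same point of `|X|` have local rings of the same dimension. -/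
lemma dim_stalk_eq_of_ofPt_eq (X : AlgSp.Space S) {U : Over S}
    (a : (AlgSp.yon S).obj U ⟶ X.obj) (ha : AlgSp.RepWith @Etale a) (u u' : ↥U.left)
    (h : AlgSp.Points.ofPt a u = AlgSp.Points.ofPt a u') :
    ringKrullDim ↥(U.left.presheaf.stalk u) = ringKrullDim ↥(U.left.presheaf.stalk u') :=
  Groth.Agent.Lib.T2H1.HasAt.of_hasAt
    (Groth.Agent.Lib.T2H1.HasAt.etInv1_stalkDim
      (fun s => s = ringKrullDim ↥(U.left.presheaf.stalk u')))
    _ ⟨U, a, u', ha, rfl, rfl⟩ a ha u h

/-- if `x` has no proper generization, the points of a locally Noetherian chart over `x` are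
maximal. -/
lemma maximal_of_no_generization (X : AlgSp.Space S) {U : Over S} [IsLocallyNoetherian U.left]
    (a : (AlgSp.yon S).obj U ⟶ X.obj) (ha : AlgSp.RepWith @Etale a) (x : AlgSp.Points X.obj)
    (hx : ∀ x' : AlgSp.Points X.obj, x' ⤳ x → x' = x) (z : ↥U.left)
    (hz : AlgSp.Points.ofPt a z = x) (τ : ↥U.left) (hτ : τ ⤳ z) : τ = z := by
  have h1 : AlgSp.Points.ofPt a τ = x :=
    hx _ (by rw [← hz]; exact hτ.map (AlgSp.Points.continuous_ofPt a))
  exact eq_of_specializes_of_dim_eq U.left z τ hτ
    (dim_stalk_eq_of_ofPt_eq X a ha τ z (h1.trans hz.symm))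

/-- if `{x}` is open, the points of a chart over `x` have zero-dimensional local rings. -/
lemma dim_zero_of_isOpen (X : AlgSp.Space S) {U : Over S}
    (a : (AlgSp.yon S).obj U ⟶ X.obj) (ha : AlgSp.RepWith @Etale a) (x : AlgSp.Points X.obj)
    (hx : IsOpen ({x} : Set (AlgSp.Points X.obj))) (z : ↥U.left)
    (hz : AlgSp.Points.ofPt a z = x) : ringKrullDim ↥(U.left.presheaf.stalk z) = 0 := by
  obtain ⟨η, hη, hdim⟩ := Groth.Agent.S10190.exists_generalization_dim_zero U.left z
  have hFo : IsOpen (AlgSp.Points.ofPt a ⁻¹' {x}) := hx.preimage (AlgSp.Points.continuous_ofPt a)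
  have hηF : η ∈ AlgSp.Points.ofPt a ⁻¹' {x} := hη.mem_open hFo hz
  rw [dim_stalk_eq_of_ofPt_eq X a ha z η (hz.trans hηF.symm), hdim]

/-- a point with zero-dimensional local ring is maximal. -/
lemma maximal_of_dim_zero (U : Scheme.{u}) (z : U)
    (h : ringKrullDim ↥(U.presheaf.stalk z) = 0) (τ : U) (hτ : τ ⤳ z) : τ = z := by
  rw [ringKrullDim_stalk_eq_coheight] at h
  have h0 : Order.coheight z = 0 := by exact_mod_cast h
  have hmax : IsMax z := Order.coheight_eq_zero.1 h0
  have h' : z ⤳ τ := hmax (b := τ) hτ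
  exact (hτ.antisymm h').eq

end Groth.Agent.Lib.T2H1.FieldSp
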