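import Mathlib
import Groth.Agent.S10391

/-!
# Isolated points of algebraic spaces whose charts are locally Noetherian and Jacobson
(helper1, team 2)

Generalisation of `S10391` : instead of "locally of finite type over a field" we only assume that
all etale charts are locally Noetherian Jacobson schemes.  Also the global version.
-/

set_option autoImplicit false
universe u
open CategoryTheory CategoryTheory.Limits AlgebraicGeometry TopologicalSpace
open AlgSp

namespace Groth.Agent.Lib.T2H1.FieldSp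

variable {S : Scheme.{u}}

/-- all etale charts of `X` are locally Noetherian and Jacobson. -/
def GoodCharts (X : AlgSp.Space S) : Prop :=
  ∀ (U : Over S) (a : (AlgSp.yon S).obj U ⟶ X.obj), AlgSp.RepWith @Etale a →
    IsLocallyNoetherian U.left ∧ JacobsonSpace ↥U.left

lemma goodCharts_of_field {k : Type u} [Field k] (X : AlgSp.Space (Spec (CommRingCat.of k)))
    (p : X.obj ⟶ (AlgSp.yon (Spec (CommRingCat.of k))).obj (Over.mk (𝟙 _)))
    (hp : AlgSp.LocP @LocallyOfFiniteType p) : GoodCharts X :=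
  fun _ a ha => chart_props X p hp a ha

/-- the image of an open point of a chart is an open point. -/
lemma isOpen_singleton_ofPt (X : AlgSp.Space S) {U : Over S} (a : (AlgSp.yon S).obj U ⟶ X.obj)
    (ha : AlgSp.RepWith @Etale a) (u : ↥U.left) (h : IsOpen ({u} : Set ↥U.left)) :
    IsOpen ({AlgSp.Points.ofPt a u} : Set (AlgSp.Points X.obj)) := by
  have := Groth.Agent.S10176.isOpenMap_ofPt a ha _ h
  rwa [Set.image_singleton] at this

/-- if `{x}` is open, all points of charts over `x` are open. -/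
lemma isOpen_singleton_chart (X : AlgSp.Space S) (hch : GoodCharts X) (x : AlgSp.Points X.obj)
    (hx : IsOpen ({x} : Set (AlgSp.Points X.obj))) {U : Over S}
    (a : (AlgSp.yon S).obj U ⟶ X.obj) (ha : AlgSp.RepWith @Etale a) (z : ↥U.left)
    (hz : AlgSp.Points.ofPt a z = x) : IsOpen ({z} : Set ↥U.left) := by
  obtain ⟨hLN, -⟩ := hch U a ha
  haveI := hLN
  refine isOpen_singleton_of_fibre U.left
    (AlgSp.Points.ofPt a ⁻¹' {x}) (AlgSp.Points.ofPt a ⁻¹' {x})
    (hx.preimage (AlgSp.Points.continuous_ofPt a)) subset_rfl (fun z hz _ => hz) ?_ z hz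
  intro z' hz' τ hτ
  exact maximal_of_dim_zero U.left z' (dim_zero_of_isOpen X a ha x hx z' hz') τ hτ

/-- the pointwise statement : for `x ∈ |X|`, isolated ⇔ closed without generizations ⇔
`dim_x X = 0`, and for decent `X` also ⇔ `dim_x |X| = 0`. -/
theorem pointwise (X : AlgSp.Space S) (hch : GoodCharts X) (x : AlgSp.Points X.obj) :
    (IsOpen ({x} : Set (AlgSp.Points X.obj)) ↔
        (IsClosed ({x} : Set (AlgSp.Points X.obj)) ∧
          ∀ x' : AlgSp.Points X.obj, x' ⤳ x → x' = x)) ∧
      (IsOpen ({x} : Set (AlgSp.Points X.obj)) ↔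
        AlgSp.HasAt (fun U u => FlatMor.localDim ↥U u = 0) X.obj x) ∧
      (AlgSp.IsDecent X.obj →
        (FlatMor.localDim (AlgSp.Points X.obj) x = 0 ↔
          IsOpen ({x} : Set (AlgSp.Points X.obj)))) := by
  obtain ⟨U₀, a₀, he, hs⟩ := X.property.atlas
  obtain ⟨u₀, hu₀⟩ := Groth.Agent.S10177.surjective_ofPt a₀ hs x
  obtain ⟨hLN, hJ⟩ := hch U₀ a₀ he
  haveI := hLN
  haveI := hJ
  have himg : IsOpen ({u₀} : Set ↥U₀.left) → IsOpen ({x} : Set (AlgSp.Points X.obj)) := by
    intro h
    have := isOpen_singleton_ofPt X a₀ he u₀ h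
    rwa [hu₀] at this
  have hopen : IsOpen ({x} : Set (AlgSp.Points X.obj)) →
      ∀ z : ↥U₀.left, AlgSp.Points.ofPt a₀ z = x → IsOpen ({z} : Set ↥U₀.left) :=
    fun hx z hz => isOpen_singleton_chart X hch x hx a₀ he z hz
  have hclosed : ∀ O : Set ↥U₀.left, IsOpen O → AlgSp.Points.ofPt a₀ ⁻¹' {x} ⊆ O →
      (∀ z ∈ O, z ∈ closure (AlgSp.Points.ofPt a₀ ⁻¹' {x}) → z ∈ AlgSp.Points.ofPt a₀ ⁻¹' {x}) →
      (∀ x' : AlgSp.Points X.obj, x' ⤳ x → x' = x) →
      IsOpen ({x} : Set (AlgSp.Points X.obj)) := by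
    intro O hO hFO hF hgen
    apply himg
    refine isOpen_singleton_of_fibre U₀.left O
      (AlgSp.Points.ofPt a₀ ⁻¹' {x}) hO hFO hF ?_ u₀ hu₀
    intro z hz τ hτ
    exact maximal_of_no_generization X a₀ he x hgen z hz τ hτ
  refine ⟨⟨fun hx => ⟨?_, ?_⟩, ?_⟩, ⟨?_, ?_⟩, ?_⟩
  · apply isClosed_of_preimage_atlas a₀ he hs
    exact Groth.Agent.S10391.isClosed_of_forall_isOpen_singleton U₀.left _
      (fun z hz => hopen hx z hz)
  · intro x' hx'
    exact hx'.mem_open hx rfl
  · rintro ⟨hcl, hgen⟩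
    have hFc : IsClosed (AlgSp.Points.ofPt a₀ ⁻¹' {x}) :=
      hcl.preimage (AlgSp.Points.continuous_ofPt a₀)
    refine hclosed Set.univ isOpen_univ (Set.subset_univ _) (fun z _ hz => ?_) hgen
    rwa [hFc.closure_eq] at hz
  · intro hx
    refine ⟨U₀, a₀, u₀, he, hu₀, ?_⟩
    exact le_antisymm
      ((Groth.Agent.Lib.Helper3.GrpHomQF.isOpen_singleton_iff_localDim_le_zero U₀.left u₀).1
        (hopen hx u₀ hu₀))
      (Groth.Agent.Lib.Helper7.TopDim.localDim_nonneg u₀)
  · rintro ⟨U, a, u, ha, hu, hdim⟩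
    obtain ⟨hLN', -⟩ := hch U a ha
    haveI := hLN'
    have h1 : IsOpen ({u} : Set ↥U.left) :=
      (Groth.Agent.Lib.Helper3.GrpHomQF.isOpen_singleton_iff_localDim_le_zero U.left u).2 hdim.le
    have := isOpen_singleton_ofPt X a ha u h1
    rwa [hu] at this
  · intro hdec
    haveI : T0Space (AlgSp.Points X.obj) := Groth.Agent.S10338.result X hdec
    constructor
    · intro hdim
      obtain ⟨O, hxO, hO⟩ := Groth.Agent.Lib.Helper7.TopDim.exists_opens_dim_eq_localDim x
      rw [hdim] at hO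
      have hspec : ∀ y y' : AlgSp.Points X.obj, y ∈ O → y' ∈ O → y' ⤳ y → y' = y := by
        intro y y' hy hy' hyy'
        have h1 : (⟨y', hy'⟩ : ((O : Set (AlgSp.Points X.obj)) : Type _)) ⤳ ⟨y, hy⟩ :=
          Topology.IsInducing.subtypeVal.specializes_iff.1 hyy'
        have := eq_of_specializes_of_dim_le_zero hO.le h1
        exact congrArg Subtype.val this
      have hgen : ∀ x' : AlgSp.Points X.obj, x' ⤳ x → x' = x := fun x' hx' =>
        hspec x x' hxO (hx'.mem_open O.isOpen hxO) hx'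
      refine hclosed (AlgSp.Points.ofPt a₀ ⁻¹' (O : Set (AlgSp.Points X.obj)))
        (O.isOpen.preimage (AlgSp.Points.continuous_ofPt a₀)) ?_ ?_ hgen
      · intro z hz
        have : AlgSp.Points.ofPt a₀ z = x := hz
        show AlgSp.Points.ofPt a₀ z ∈ O
        rw [this]; exact hxO
      · intro z hzO hz
        have h1 : AlgSp.Points.ofPt a₀ z ∈ closure ({x} : Set (AlgSp.Points X.obj)) := by
          have h2 := image_closure_subset_closure_image (AlgSp.Points.continuous_ofPt a₀)
            (Set.mem_image_of_mem _ hz)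
          refine closure_mono ?_ h2
          rintro _ ⟨w, hw, rfl⟩
          exact hw
        have h3 : x ⤳ AlgSp.Points.ofPt a₀ z := specializes_iff_mem_closure.2 h1
        exact (hspec _ _ hzO hxO h3).symm
    · intro hx
      refine le_antisymm ?_ (Groth.Agent.Lib.Helper7.TopDim.localDim_nonneg x)
      haveI : DiscreteTopology (((⟨{x}, hx⟩ : Opens (AlgSp.Points X.obj)) :
          Set (AlgSp.Points X.obj)) : Type _) := by
        haveI : Subsingleton (((⟨{x}, hx⟩ : Opens (AlgSp.Points X.obj)) :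
          Set (AlgSp.Points X.obj)) : Type _) :=
          ⟨fun a b => Subtype.ext (a.2.trans b.2.symm)⟩
        infer_instance
      exact (Groth.Agent.Lib.Helper7.TopDim.localDim_le x ⟨{x}, hx⟩ rfl).trans
        (topologicalKrullDim_zero_of_discreteTopology _)

/-- `|X|` is discrete iff all charts are discrete. -/
lemma discrete_iff_charts (X : AlgSp.Space S) (hch : GoodCharts X) :
    DiscreteTopology (AlgSp.Points X.obj) ↔
      ∀ (U : Over S) (a : (AlgSp.yon S).obj U ⟶ X.obj), AlgSp.RepWith @Etale a →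
        DiscreteTopology ↥U.left := by
  constructor
  · intro h U a ha
    rw [discreteTopology_iff_isOpen_singleton]
    intro z
    exact isOpen_singleton_chart X hch _ (isOpen_discrete _) a ha z rfl
  · intro h
    obtain ⟨U₀, a₀, he, hs⟩ := X.property.atlas
    haveI := h U₀ a₀ he
    rw [discreteTopology_iff_isOpen_singleton]
    intro x
    obtain ⟨u₀, rfl⟩ := Groth.Agent.S10177.surjective_ofPt a₀ hs x
    exact isOpen_singleton_ofPt X a₀ he u₀ (isOpen_discrete _)

/-- a locally Noetherian scheme of dimension `≤ 0` is discrete. -/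
lemma discrete_of_dim_le_zero (U : Scheme.{u}) [IsLocallyNoetherian U]
    (h : topologicalKrullDim ↥U ≤ 0) : DiscreteTopology ↥U := by
  rw [discreteTopology_iff_isOpen_singleton]
  intro z
  rw [Groth.Agent.Lib.Helper3.GrpHomQF.isOpen_singleton_iff_localDim_le_zero]
  exact (Groth.Agent.Lib.Helper7.TopDim.localDim_le_dim z).trans h

/-- `dim X ≤ 0` iff all charts have dimension `≤ 0`. -/
lemma dim_le_iff (X : AlgSp.Sp S) (d : WithBot ℕ∞) :
    AlgSp.dim X ≤ d ↔ ∀ (U : Over S) (a : (AlgSp.yon S).obj U ⟶ X), AlgSp.RepWith @Etale a →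
        topologicalKrullDim ↥U.left ≤ d := by
  unfold AlgSp.dim
  simp only [iSup_le_iff]

/-- a nonempty space has nonnegative dimension. -/
lemma dim_nonneg (X : AlgSp.Space S) [Nonempty (AlgSp.Points X.obj)] : 0 ≤ AlgSp.dim X.obj := by
  obtain ⟨U₀, a₀, he, hs⟩ := X.property.atlas
  obtain ⟨u₀, -⟩ := Groth.Agent.S10177.surjective_ofPt a₀ hs (Classical.arbitrary _)
  haveI : Nonempty ↥U₀.left := ⟨u₀⟩
  have h1 : (0 : WithBot ℕ∞) ≤ topologicalKrullDim ↥U₀.left :=
    Groth.Agent.Lib.Helper7.TopDim.topologicalKrullDim_nonneg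
  refine h1.trans ?_
  unfold AlgSp.dim
  exact le_iSup_of_le U₀ (le_iSup_of_le a₀ (le_iSup_of_le he le_rfl))

/-- a finite Jacobson space is discrete. -/
lemma discrete_of_finite_jacobson (T : Type*) [TopologicalSpace T] [Finite T] [JacobsonSpace T] :
    DiscreteTopology T := by
  have hcl : ∀ z : T, IsClosed ({z} : Set T) := by
    intro z
    have h1 : IsClosed (closure ({z} : Set T) ∩ closedPoints T) := by
      have := (Set.toFinite (closure ({z} : Set T) ∩ closedPoints T)).isClosed_biUnion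
        (f := fun w => ({w} : Set T)) (fun w hw => hw.2)
      rwa [Set.biUnion_of_singleton] at this
    have h2 := JacobsonSpace.closure_inter_closedPoints (isClosed_closure (s := ({z} : Set T)))
    rw [h1.closure_eq] at h2
    have h3 : z ∈ closure ({z} : Set T) ∩ closedPoints T := by
      rw [h2]; exact subset_closure rfl
    exact h3.2
  haveI : T1Space T := ⟨hcl⟩
  infer_instance

/-- the global statement. -/
theorem global (X : AlgSp.Space S) (hch : GoodCharts X) [Nonempty (AlgSp.Points X.obj)] :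
    (DiscreteTopology (AlgSp.Points X.obj) ↔ AlgSp.dim X.obj = 0) ∧
      (DiscreteTopology (AlgSp.Points X.obj) → topologicalKrullDim (AlgSp.Points X.obj) = 0) ∧
      (AlgSp.IsDecent X.obj → topologicalKrullDim (AlgSp.Points X.obj) = 0 →
        DiscreteTopology (AlgSp.Points X.obj)) ∧
      (AlgSp.IsDecent X.obj → Finite (AlgSp.Points X.obj) → AlgSp.dim X.obj = 0) := by
  have hA : DiscreteTopology (AlgSp.Points X.obj) ↔ AlgSp.dim X.obj = 0 := by
    rw [discrete_iff_charts X hch]
    constructor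
    · intro h
      refine le_antisymm ?_ (dim_nonneg X)
      rw [dim_le_iff]
      intro U a ha
      haveI := h U a ha
      exact topologicalKrullDim_zero_of_discreteTopology _
    · intro h U a ha
      obtain ⟨hLN, -⟩ := hch U a ha
      haveI := hLN
      exact discrete_of_dim_le_zero U.left ((dim_le_iff X.obj 0).1 h.le U a ha)
  refine ⟨hA, ?_, ?_, ?_⟩
  · intro h
    exact le_antisymm (topologicalKrullDim_zero_of_discreteTopology _)
      Groth.Agent.Lib.Helper7.TopDim.topologicalKrullDim_nonneg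
  · intro hdec hdim
    rw [discreteTopology_iff_isOpen_singleton]
    intro x
    refine ((pointwise X hch x).2.2 hdec).1 ?_
    exact le_antisymm ((Groth.Agent.Lib.Helper7.TopDim.localDim_le_dim x).trans hdim.le)
      (Groth.Agent.Lib.Helper7.TopDim.localDim_nonneg x)
  · intro hdec hfin
    rw [← hA, discrete_iff_charts X hch]
    intro U a ha
    rw [discreteTopology_iff_isOpen_singleton]
    intro z
    obtain ⟨_, ⟨W₀, hW₀, rfl⟩, hzW₀, -⟩ := U.left.isBasis_affineOpens.exists_subset_of_mem_open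
      (Set.mem_univ z) isOpen_univ
    obtain ⟨W, hW, hzW⟩ : ∃ W : U.left.Opens, IsAffineOpen W ∧ z ∈ W := ⟨W₀, hW₀, hzW₀⟩
    let Vo : Over S := Over.mk (W.ι ≫ U.hom)
    let ι : Vo ⟶ U := Over.homMk W.ι rfl
    haveI : IsAffine Vo.left := hW
    have hι : AlgSp.RepWith @Etale ((AlgSp.yon S).map ι) :=
      (AlgSp.repWith_yon_map_iff _ _).2 (inferInstance : Etale W.ι)
    have ha' : AlgSp.RepWith @Etale ((AlgSp.yon S).map ι ≫ a) :=
      (AlgSp.RepWith @Etale).comp_mem _ _ hι ha
    obtain ⟨-, hJ⟩ := hch Vo _ ha'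
    haveI : JacobsonSpace ↥(W : Scheme.{u}) := hJ
    haveI : Finite ↥(W : Scheme.{u}) := by
      have : (Set.univ : Set ↥Vo.left).Finite := by
        refine Set.Finite.of_finite_fibers (AlgSp.Points.ofPt ((AlgSp.yon S).map ι ≫ a))
          (Set.toFinite _) ?_
        intro x _
        rw [Set.univ_inter]
        exact Groth.Agent.S10338.finite_fibre_of_isDecent hdec x Vo _ hW ha'
      exact Set.finite_univ_iff.1 this
    haveI : DiscreteTopology ↥(W : Scheme.{u}) := discrete_of_finite_jacobson _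
    have h1 : IsOpen ({(⟨z, hzW⟩ : ↥(W : Scheme.{u}))} : Set ↥(W : Scheme.{u})) :=
      isOpen_discrete _
    have h2 := W.ι.isOpenEmbedding.isOpenMap _ h1
    convert h2 using 1
    ext w
    constructor
    · intro hw
      exact ⟨⟨z, hzW⟩, rfl, hw.symm⟩
    · rintro ⟨w', hw', rfl⟩
      have : w' = ⟨z, hzW⟩ := hw'
      rw [this]
      rfl

end Groth.Agent.Lib.T2H1.FieldSp
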