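import Mathlib
import Groth.Agent.Lib.T2H1FieldSp2
import Groth.Agent.Lib.T2H1ChartBC
import Groth.Agent.Lib.Helper12Proper
import Groth.Agent.Lib.Helper4FibDimE
import Groth.Agent.S10390
import Groth.Agent.S10455
import Groth.Agent.S10380
import Groth.Agent.S5341
import Groth.Agent.S9874

/-!
# Fibres of a morphism locally of finite type over a field valued point (helper1, team 2)

For `f : X ⟶ Y` locally of finite type, a field valued point `r` of `Y` and `X_k = Spec k ×_Y X` :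
isolated points of `|X_k|` are exactly the points over which `f` is quasi-finite; for decent `Y`
the fibre `|f|⁻¹(y)` is homeomorphic to `|X_{k'}|` for a suitable representative `k'` of `y`.
-/

set_option autoImplicit false
universe u
open CategoryTheory CategoryTheory.Limits AlgebraicGeometry TopologicalSpace
open AlgSp

namespace Groth.Agent.Lib.T2H1.FibreQF

open Groth.Agent.Lib.T2H1.FieldSp

variable {S : Scheme.{u}}

/-- the "quasi-finite at a point" predicate. -/
abbrev QfPred : ∀ (U V : Scheme.{u}), (U ⟶ V) → ↥U → Prop :=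
  fun U _ h u => ∃ W : U.Opens, u ∈ W ∧ LocallyQuasiFinite (W.ι ≫ h) ∧ LocallyOfFiniteType (W.ι ≫ h)

section

variable {X Y : AlgSp.Space S} (f : X ⟶ Y) (r : AlgSp.FieldPt Y.obj) (Xk : AlgSp.Space S)
  (fst : Xk ⟶ X) (snd : Xk.obj ⟶ (AlgSp.yon S).obj r.pt)
  (hsq : IsPullback fst.hom snd f.hom r.toHom)

include hsq

/-- all points of `Spec k` map to `y`. -/
lemma map_toHom (t : AlgSp.Points ((AlgSp.yon S).obj r.pt)) :
    AlgSp.Points.map r.toHom t = AlgSp.Points.mk r := by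
  obtain ⟨s, rfl⟩ := (AlgSp.Points.schemeHomeo r.pt).surjective t
  have : AlgSp.Points.schemeHomeo r.pt s = AlgSp.Points.ofScheme r.pt s := rfl
  rw [this, ← AlgSp.Points.ofPt_eq_map_ofScheme]
  exact AlgSp.Points.ofPt_toHom r s

omit hsq in
lemma map_toHom' (r : AlgSp.FieldPt Y.obj) (t : AlgSp.Points ((AlgSp.yon S).obj r.pt)) :
    AlgSp.Points.map r.toHom t = AlgSp.Points.mk r := by
  obtain ⟨s, rfl⟩ := (AlgSp.Points.schemeHomeo r.pt).surjective t
  have : AlgSp.Points.schemeHomeo r.pt s = AlgSp.Points.ofScheme r.pt s := rfl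
  rw [this, ← AlgSp.Points.ofPt_eq_map_ofScheme]
  exact AlgSp.Points.ofPt_toHom r s

/-- points of `X_k` lie over `y`. -/
lemma map_fst_mem (z : AlgSp.Points Xk.obj) :
    AlgSp.Points.map f.hom (AlgSp.Points.map fst.hom z) = AlgSp.Points.mk r := by
  rw [← AlgSp.Points.map_comp, hsq.w, AlgSp.Points.map_comp, map_toHom' r]

/-- every point over `y` lifts to `X_k`. -/
lemma exists_lift_point (x : AlgSp.Points X.obj)
    (hx : AlgSp.Points.map f.hom x = AlgSp.Points.mk r) :
    ∃ z : AlgSp.Points Xk.obj, AlgSp.Points.map fst.hom z = x := by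
  let t : AlgSp.Points ((AlgSp.yon S).obj r.pt) :=
    AlgSp.Points.schemeHomeo r.pt (((⊥ : PrimeSpectrum r.K) : ↥r.pt.left))
  obtain ⟨p, hp1, -⟩ := Groth.Agent.S10175.exists_point_of_isPullback hsq x t
    (by rw [map_toHom' r]; exact hx)
  exact ⟨p, hp1⟩

variable (hf : AlgSp.LocP @LocallyOfFiniteType f.hom)

include hf

/-- the charts of `X_k` are locally of finite type over `k`. -/
lemma goodCharts_fibre : GoodCharts Xk := by
  have hsnd : AlgSp.LocP @LocallyOfFiniteType snd :=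
    Groth.Agent.Lib.Helper12.Proper.locP_lft_baseChange X.property Y.property
      (AlgSp.IsAlgSpace.yon_obj r.pt) hsq hf
  intro U a ha
  obtain ⟨h, hh⟩ := (AlgSp.yon S).map_surjective (a ≫ snd)
  haveI : LocallyOfFiniteType h.left :=
    hsnd a (𝟙 _) h ha (AlgSp.repWith_id _ _) (by rw [hh, Category.comp_id])
  haveI : IsLocallyNoetherian r.pt.left :=
    inferInstanceAs (IsLocallyNoetherian (Spec (CommRingCat.of r.K)))
  haveI : JacobsonSpace ↥r.pt.left :=
    inferInstanceAs (JacobsonSpace ↥(Spec (CommRingCat.of r.K)))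
  exact ⟨LocallyOfFiniteType.isLocallyNoetherian h.left, LocallyOfFiniteType.jacobsonSpace h.left⟩

omit hsq in
/-- vanishing of the local fibre dimension is "quasi-finite at the point". -/
lemma hasAtMor_qf_iff (x : AlgSp.Points X.obj) :
    AlgSp.HasAtMor (fun _ _ h u => FlatMor.fibreDimAt h u = 0) f.hom x ↔
      AlgSp.HasAtMor QfPred f.hom x := by
  constructor
  · rintro ⟨U, V, a, b, h, u, ha, hb, hc, hu, hd⟩
    haveI : LocallyOfFiniteType h.left := hf a b h ha hb hc
    exact ⟨U, V, a, b, h, u, ha, hb, hc, hu, (Groth.Agent.S10455.qf_pred_iff h.left u).2 hd.le⟩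
  · rintro ⟨U, V, a, b, h, u, ha, hb, hc, hu, hd⟩
    haveI : LocallyOfFiniteType h.left := hf a b h ha hb hc
    refine ⟨U, V, a, b, h, u, ha, hb, hc, hu, le_antisymm ?_ ?_⟩
    · exact (Groth.Agent.S10455.qf_pred_iff h.left u).1 hd
    · exact Groth.Agent.Lib.Helper7.TopDim.localDim_nonneg _

omit hf in
/-- dimension zero of a chart of `X_k` is vanishing of the fibre dimension of `X_k ⟶ Spec k`. -/
lemma hasAt_iff_hasAtMor_snd (xt : AlgSp.Points Xk.obj) :
    AlgSp.HasAt (fun U u => FlatMor.localDim ↥U u = 0) Xk.obj xt ↔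
      AlgSp.HasAtMor (fun _ _ h u => FlatMor.fibreDimAt h u = 0) snd xt := by
  haveI hsub0 : Subsingleton ↥(Spec (CommRingCat.of r.K)) :=
    inferInstanceAs (Subsingleton (PrimeSpectrum r.K))
  haveI hsub1 : Subsingleton ↥r.pt.left := hsub0
  have hid : AlgSp.RepWith @Etale (𝟙 ((AlgSp.yon S).obj r.pt)) := AlgSp.repWith_id _ _
  have chart : ∀ {U : Over S} (a : (AlgSp.yon S).obj U ⟶ Xk.obj) (u : ↥U.left),
      ∃ h : U ⟶ r.pt, a ≫ snd = (AlgSp.yon S).map h ≫ 𝟙 _ ∧
        FlatMor.fibreDimAt h.left u = FlatMor.localDim ↥U.left u := by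
    intro U a u
    obtain ⟨h, hh⟩ := (AlgSp.yon S).map_surjective (a ≫ snd)
    refine ⟨h, by rw [hh, Category.comp_id], ?_⟩
    exact Groth.Agent.S5341.fibreDimAt_eq_localDim_of_subsingleton h.left u
  constructor
  · rintro ⟨U, a, u, ha, hu, hd⟩
    obtain ⟨h, hc, hd'⟩ := chart a u
    exact ⟨U, r.pt, a, 𝟙 _, h, u, ha, hid, hc, hu, hd'.trans hd⟩
  · intro H
    obtain ⟨U₀, a₀, ha₀, hs₀⟩ := Xk.property.atlas
    obtain ⟨u₀, hu₀⟩ := Groth.Agent.S10177.surjective_ofPt a₀ hs₀ xt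
    obtain ⟨h₀, hc₀, hd₀⟩ := chart a₀ u₀
    have h3 := Groth.Agent.Lib.T2H1.HasAt.of_hasAtMor
      (Groth.Agent.Lib.T2H1.HasAt.etInv_fibreDim (fun t => t = 0))
      snd xt H a₀ (𝟙 _) h₀ ha₀ hid hc₀ u₀ hu₀
    exact ⟨U₀, a₀, u₀, ha₀, hu₀, hd₀.symm.trans h3⟩

/-- a point of `X_k` is isolated iff `f` is quasi-finite at its image. -/
theorem isOpen_iff_qf (xt : AlgSp.Points Xk.obj) :
    IsOpen ({xt} : Set (AlgSp.Points Xk.obj)) ↔
      AlgSp.HasAtMor QfPred f.hom (AlgSp.Points.map fst.hom xt) := by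
  rw [(pointwise Xk (goodCharts_fibre f r Xk fst snd hsq hf) xt).2.1,
    hasAt_iff_hasAtMor_snd f r Xk fst snd hsq xt,
    Groth.Agent.Lib.T2H1.ChartBC.hasAtMor_fibreDim_baseChange_iff (fun t => t = 0)
      X.property Y.property (AlgSp.IsAlgSpace.yon_obj r.pt) hsq hf xt,
    hasAtMor_qf_iff f hf]

/-- `dim_x(X_k) = 0` iff `f` is quasi-finite at the image. -/
theorem hasAt_iff_qf (xt : AlgSp.Points Xk.obj) :
    AlgSp.HasAt (fun U u => FlatMor.localDim ↥U u = 0) Xk.obj xt ↔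
      AlgSp.HasAtMor QfPred f.hom (AlgSp.Points.map fst.hom xt) := by
  rw [← (pointwise Xk (goodCharts_fibre f r Xk fst snd hsq hf) xt).2.1]
  exact isOpen_iff_qf f r Xk fst snd hsq hf xt

/-- `|X_k|` is discrete iff `f` is quasi-finite at all points over `y`. -/
theorem discrete_iff_qf :
    DiscreteTopology (AlgSp.Points Xk.obj) ↔
      ∀ x : AlgSp.Points X.obj, AlgSp.Points.map f.hom x = AlgSp.Points.mk r →
        AlgSp.HasAtMor QfPred f.hom x := by
  rw [discreteTopology_iff_isOpen_singleton]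
  constructor
  · intro h x hx
    obtain ⟨z, rfl⟩ := exists_lift_point f r Xk fst snd hsq x hx
    exact (isOpen_iff_qf f r Xk fst snd hsq hf z).1 (h z)
  · intro h z
    exact (isOpen_iff_qf f r Xk fst snd hsq hf z).2
      (h _ (map_fst_mem f r Xk fst snd hsq z))

end

/-- for decent `Y` the fibre over `y` is homeomorphic to the points of `X_{k'}` for a
representative `k'` of `y`. -/
theorem exists_fibre_homeo {X Y : AlgSp.Space S} (f : X ⟶ Y) (hY : AlgSp.IsDecent Y.obj)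
    (r : AlgSp.FieldPt Y.obj) :
    ∃ (r' : AlgSp.FieldPt Y.obj) (Xk' : AlgSp.Space S) (fst' : Xk' ⟶ X)
      (snd' : Xk'.obj ⟶ (AlgSp.yon S).obj r'.pt),
      IsPullback fst'.hom snd' f.hom r'.toHom ∧ AlgSp.Points.mk r' = AlgSp.Points.mk r ∧
      ∃ φ : AlgSp.Points Xk'.obj ≃ₜ ↥(AlgSp.Points.map f.hom ⁻¹' {AlgSp.Points.mk r}),
        ∀ z, (φ z : AlgSp.Points X.obj) = AlgSp.Points.map fst'.hom z := by
  obtain ⟨r', hr', hm, hq⟩ := hY (AlgSp.Points.mk r)
  have sq := IsPullback.of_hasPullback f.hom r'.toHom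
  have hP : AlgSp.IsAlgSpace (pullback f.hom r'.toHom) :=
    Groth.Agent.S9874.isAlgSpace_of_isPullback Y.property.diag X.property
      (AlgSp.IsAlgSpace.yon_obj r'.pt) sq
  let Xk' : AlgSp.Space S := ⟨pullback f.hom r'.toHom, hP⟩
  let fst' : Xk' ⟶ X := ObjectProperty.homMk (pullback.fst f.hom r'.toHom)
  have hsq' : IsPullback fst'.hom (pullback.snd f.hom r'.toHom) f.hom r'.toHom := sq
  obtain ⟨hemb, hrange⟩ := Groth.Agent.S10390.result f r' hm hq Xk' fst' _ hsq'
  rw [hr'] at hrange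
  refine ⟨r', Xk', fst', pullback.snd f.hom r'.toHom, hsq', hr',
    hemb.toHomeomorph.trans (Homeomorph.setCongr hrange), fun z => rfl⟩

end Groth.Agent.Lib.T2H1.FibreQF
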