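import Mathlib
import Groth.Agent.Lib.Helper12Descent

/-!
# Separation properties descend along finite flat surjective covers of the source
-/

set_option autoImplicit false
universe u

open CategoryTheory Limits AlgebraicGeometry MorphismProperty

namespace Groth.Agent.Lib.T2H1.FinQuotSep

variable {U M B : Scheme.{u}}

lemma cover_map (m : U ⟶ M) (i : M ⟶ B) [Surjective m] [Flat m] [QuasiCompact m] :
    (@Surjective ⊓ @Flat ⊓ @QuasiCompact : MorphismProperty Scheme.{u})
      (pullback.map (m ≫ i) (m ≫ i) i i m m (𝟙 _) (Category.comp_id _) (Category.comp_id _)) := by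
  have hm : (@Surjective ⊓ @Flat ⊓ @QuasiCompact : MorphismProperty Scheme.{u}) m :=
    ⟨⟨inferInstance, inferInstance⟩, inferInstance⟩
  exact MorphismProperty.pullbackMap hm hm rfl rfl

theorem quasiSeparated_of_comp (m : U ⟶ M) (i : M ⟶ B) [Surjective m] [Flat m] [IsFinite m]
    [QuasiSeparated (m ≫ i)] : QuasiSeparated i := by
  have hpb := (pullback_map_diagonal_isPullback m m i).flip
  have hc := cover_map m i
  have hqc : QuasiCompact (pullback.map m m (m ≫ i) (m ≫ i) (𝟙 _) (𝟙 _) i
      (Category.id_comp _).symm (Category.id_comp _).symm) := by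
    have h1 : pullback.map m m (m ≫ i) (m ≫ i) (𝟙 _) (𝟙 _) i
      (Category.id_comp _).symm (Category.id_comp _).symm ≫ pullback.fst (m ≫ i) (m ≫ i) =
        pullback.fst m m := by
      rw [pullback.lift_fst, Category.comp_id]
    have : QuasiCompact (pullback.map m m (m ≫ i) (m ≫ i) (𝟙 _) (𝟙 _) i
      (Category.id_comp _).symm (Category.id_comp _).symm ≫ pullback.fst (m ≫ i) (m ≫ i)) := by
      rw [h1]; infer_instance
    exact QuasiCompact.of_comp _ (pullback.fst (m ≫ i) (m ≫ i))
  have := Groth.Agent.Lib.Helper12.descendsAlong_quasiCompact.{u}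
  have hd : QuasiCompact (pullback.diagonal i) :=
    MorphismProperty.of_isPullback_of_descendsAlong (P := @QuasiCompact)
      (Q := (@Surjective ⊓ @Flat ⊓ @QuasiCompact : MorphismProperty Scheme.{u})) hpb hc hqc
  exact ⟨hd⟩

theorem isSeparated_of_comp (m : U ⟶ M) (i : M ⟶ B) [Surjective m] [Flat m] [IsFinite m]
    [IsSeparated (m ≫ i)] : IsSeparated i := by
  have hpb := (pullback_map_diagonal_isPullback m m i).flip
  have hc := cover_map m i
  have hmono : Mono (pullback.map m m (m ≫ i) (m ≫ i) (𝟙 _) (𝟙 _) i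
      (Category.id_comp _).symm (Category.id_comp _).symm) :=
    MorphismProperty.of_isPullback (P := MorphismProperty.monomorphisms Scheme.{u})
      hpb.flip (MorphismProperty.monomorphisms.infer_property (pullback.diagonal i))
  have hfin : IsFinite (pullback.map m m (m ≫ i) (m ≫ i) (𝟙 _) (𝟙 _) i
      (Category.id_comp _).symm (Category.id_comp _).symm) := by
    have h1 : pullback.map m m (m ≫ i) (m ≫ i) (𝟙 _) (𝟙 _) i
      (Category.id_comp _).symm (Category.id_comp _).symm ≫ pullback.fst (m ≫ i) (m ≫ i) =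
        pullback.fst m m := by
      rw [pullback.lift_fst, Category.comp_id]
    have : IsFinite (pullback.map m m (m ≫ i) (m ≫ i) (𝟙 _) (𝟙 _) i
      (Category.id_comp _).symm (Category.id_comp _).symm ≫ pullback.fst (m ≫ i) (m ≫ i)) := by
      rw [h1]; infer_instance
    exact IsFinite.of_comp _ (pullback.fst (m ≫ i) (m ≫ i))
  have hci : IsClosedImmersion (pullback.map m m (m ≫ i) (m ≫ i) (𝟙 _) (𝟙 _) i
      (Category.id_comp _).symm (Category.id_comp _).symm) :=
    (IsClosedImmersion.iff_isFinite_and_mono _).mpr ⟨hfin, hmono⟩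
  have := Groth.Agent.Lib.Helper12.descendsAlong_isClosedImmersion.{u}
  have hd : IsClosedImmersion (pullback.diagonal i) :=
    MorphismProperty.of_isPullback_of_descendsAlong (P := @IsClosedImmersion)
      (Q := (@Surjective ⊓ @Flat ⊓ @QuasiCompact : MorphismProperty Scheme.{u})) hpb hc hci
  exact ⟨hd⟩

end Groth.Agent.Lib.T2H1.FinQuotSep
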