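import Mathlib
import Groth.Prelude.Def_EssEt
import Groth.Prelude.Def_Hensel
import Groth.Agent.Lib.Helper3IndEtDesc
import Groth.Agent.Lib.Helper24G0
import Groth.Agent.Lib.Helper24LocEt
import Groth.Agent.Lib.T2H1FinEtTensor
import Groth.Agent.Lib.T2H1EssEtInter
import Groth.Agent.Lib.Helper3HzP

/-!
# Galois theory of finite étale local algebras over a henselian local domain (helper1, team 2)

For a henselian local domain `A` and a finite étale local `A`-algebra `E` which is a domain and
whose residue field extension is Galois, the extension of fraction fields is Galois with the same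
group, and every intermediate field is the fraction field of a finite étale local subalgebra.
-/

set_option autoImplicit false
universe u
open IsLocalRing

namespace Groth.Agent.Lib.T2H1.GaloisStage

open Groth.Agent.Lib.Helper3

section Lift

variable (A : Type u) [CommRing A] [HenselianLocalRing A]
  (E₁ E₂ E₃ : Type u)
  [CommRing E₁] [IsLocalRing E₁] [Algebra A E₁] [IsLocalHom (algebraMap A E₁)] [Algebra.Etale A E₁]
  [CommRing E₂] [IsLocalRing E₂] [Algebra A E₂] [IsLocalHom (algebraMap A E₂)]
  [Module.Finite A E₂] [Algebra.Etale A E₂]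
  [CommRing E₃] [IsLocalRing E₃] [Algebra A E₃] [IsLocalHom (algebraMap A E₃)]
  [Module.Finite A E₃]

theorem existsUnique_liftHom
    (τ : ResidueField E₁ →ₐ[ResidueField A] ResidueField E₂) :
    ∃! f : E₁ →ₐ[A] E₂, ∀ x, residue E₂ (f x) = τ (residue E₁ x) := by
  haveI : HenselianLocalRing E₂ := Groth.Agent.Lib.Helper24G0.henselian_of_finite A E₂
  let w : E₁ →ₐ[A] ResidueField E₂ :=
    (τ.restrictScalars A).comp (IsScalarTower.toAlgHom A E₁ (ResidueField E₁))
  exact IndEt.existsUnique_lift_residue (R := A) (T := E₂) (E := E₁) w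

/-- The lift of a map of residue fields to a map of finite étale local algebras. -/
noncomputable def liftHom (τ : ResidueField E₁ →ₐ[ResidueField A] ResidueField E₂) :
    E₁ →ₐ[A] E₂ :=
  (existsUnique_liftHom A E₁ E₂ τ).exists.choose

theorem liftHom_residue (τ : ResidueField E₁ →ₐ[ResidueField A] ResidueField E₂) (x : E₁) :
    residue E₂ (liftHom A E₁ E₂ τ x) = τ (residue E₁ x) :=
  (existsUnique_liftHom A E₁ E₂ τ).exists.choose_spec x

theorem liftHom_unique (τ : ResidueField E₁ →ₐ[ResidueField A] ResidueField E₂)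
    (f : E₁ →ₐ[A] E₂) (hf : ∀ x, residue E₂ (f x) = τ (residue E₁ x)) :
    f = liftHom A E₁ E₂ τ :=
  (existsUnique_liftHom A E₁ E₂ τ).unique hf (liftHom_residue A E₁ E₂ τ)

end Lift

section Comp

variable (A : Type u) [CommRing A] [HenselianLocalRing A]
  (E₁ E₂ E₃ : Type u)
  [CommRing E₁] [IsLocalRing E₁] [Algebra A E₁] [IsLocalHom (algebraMap A E₁)] [Algebra.Etale A E₁]
  [CommRing E₂] [IsLocalRing E₂] [Algebra A E₂] [IsLocalHom (algebraMap A E₂)]
  [Module.Finite A E₂] [Algebra.Etale A E₂]
  [CommRing E₃] [IsLocalRing E₃] [Algebra A E₃] [IsLocalHom (algebraMap A E₃)]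
  [Module.Finite A E₃] [Algebra.Etale A E₃]

theorem liftHom_comp (τ₁ : ResidueField E₁ →ₐ[ResidueField A] ResidueField E₂)
    (τ₂ : ResidueField E₂ →ₐ[ResidueField A] ResidueField E₃) :
    liftHom A E₁ E₃ (τ₂.comp τ₁) = (liftHom A E₂ E₃ τ₂).comp (liftHom A E₁ E₂ τ₁) := by
  symm
  apply liftHom_unique
  intro x
  rw [AlgHom.comp_apply, liftHom_residue, liftHom_residue, AlgHom.comp_apply]

theorem liftHom_id : liftHom A E₂ E₂ (AlgHom.id _ _) = AlgHom.id A E₂ := by
  symm
  apply liftHom_unique
  intro x
  rfl

end Comp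

section Equiv

variable (A : Type u) [CommRing A] [HenselianLocalRing A]
  (E : Type u) [CommRing E] [IsLocalRing E] [Algebra A E] [IsLocalHom (algebraMap A E)]
  [Module.Finite A E] [Algebra.Etale A E]

/-- Lifting automorphisms of the residue field. -/
noncomputable def liftEquiv :
    (ResidueField E ≃ₐ[ResidueField A] ResidueField E) →* (E ≃ₐ[A] E) where
  toFun τ := AlgEquiv.ofAlgHom (liftHom A E E τ) (liftHom A E E τ.symm)
    (by rw [← liftHom_comp, ← liftHom_id]; congr 1; ext x; simp)
    (by rw [← liftHom_comp, ← liftHom_id]; congr 1; ext x; simp)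
  map_one' := by
    ext x
    change liftHom A E E (AlgHom.id _ _) x = x
    rw [liftHom_id]
    rfl
  map_mul' τ₁ τ₂ := by
    ext x
    change liftHom A E E ((τ₁ : ResidueField E →ₐ[ResidueField A] ResidueField E).comp
      (τ₂ : ResidueField E →ₐ[ResidueField A] ResidueField E)) x = _
    rw [liftHom_comp]
    rfl

theorem liftEquiv_apply (τ : ResidueField E ≃ₐ[ResidueField A] ResidueField E) (x : E) :
    liftEquiv A E τ x = liftHom A E E τ x := rfl

theorem liftEquiv_residue (τ : ResidueField E ≃ₐ[ResidueField A] ResidueField E) (x : E) :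
    residue E (liftEquiv A E τ x) = τ (residue E x) := by
  rw [liftEquiv_apply, liftHom_residue]
  rfl

theorem liftEquiv_injective : Function.Injective (liftEquiv A E) := by
  intro τ₁ τ₂ h
  ext y
  obtain ⟨x, rfl⟩ := residue_surjective y
  rw [← liftEquiv_residue, ← liftEquiv_residue, h]

end Equiv

section Galois

variable (A : Type u) [CommRing A] [HenselianLocalRing A] [IsDomain A]
  (E : Type u) [CommRing E] [IsLocalRing E] [IsDomain E] [Algebra A E]
  [IsLocalHom (algebraMap A E)] [Module.Finite A E] [Algebra.Etale A E] [FaithfulSMul A E]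
  (K F : Type u) [Field K] [Field F] [Algebra A K] [IsFractionRing A K] [Algebra E F]
  [IsFractionRing E F] [Algebra A F] [IsScalarTower A E F] [Algebra K F] [IsScalarTower A K F]

/-- The action of the Galois group of the residue field extension on the fraction field. -/
noncomputable def Φ : (ResidueField E ≃ₐ[ResidueField A] ResidueField E) →* (F ≃ₐ[K] F) :=
  (IsFractionRing.fieldEquivOfAlgEquivHom K F).comp (liftEquiv A E)

theorem Φ_algebraMap (τ : ResidueField E ≃ₐ[ResidueField A] ResidueField E) (x : E) :
    Φ A E K F τ (algebraMap E F x) = algebraMap E F (liftEquiv A E τ x) := by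
  change IsFractionRing.fieldEquivOfAlgEquiv K F F (liftEquiv A E τ) (algebraMap E F x) = _
  rw [IsFractionRing.fieldEquivOfAlgEquiv_algebraMap]

theorem Φ_injective : Function.Injective (Φ A E K F) :=
  (IsFractionRing.fieldEquivOfAlgEquivHom_injective A E K F).comp (liftEquiv_injective A E)

theorem finrank_eq : Module.finrank K F = Module.finrank (ResidueField A) (ResidueField E) := by
  rw [IsFractionRing.finrank_eq A K E F, IsLocalRing.finrank_eq_finrank_residueField]

include A E in
theorem finiteDimensional : FiniteDimensional K F := by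
  apply FiniteDimensional.of_finrank_pos
  rw [finrank_eq A E K F]
  exact Module.finrank_pos

variable [IsGalois (ResidueField A) (ResidueField E)]

include A E in
theorem card_eq : Nat.card (F ≃ₐ[K] F) = Module.finrank K F := by
  haveI := finiteDimensional A E K F
  apply le_antisymm
  · rw [Nat.card_eq_fintype_card]
    exact AlgEquiv.card_le
  · rw [finrank_eq A E K F, ← IsGalois.card_aut_eq_finrank]
    exact Nat.card_le_card_of_injective _ (Φ_injective A E K F)

include A E in
theorem isGalois : IsGalois K F := by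
  haveI := finiteDimensional A E K F
  exact IsGalois.of_card_aut_eq_finrank K F (card_eq A E K F)

theorem Φ_bijective : Function.Bijective (Φ A E K F) := by
  haveI := finiteDimensional A E K F
  rw [Nat.bijective_iff_injective_and_card]
  refine ⟨Φ_injective A E K F, ?_⟩
  rw [card_eq A E K F, finrank_eq A E K F, IsGalois.card_aut_eq_finrank]

end Galois

section Main

variable (A : Type u) [CommRing A] [HenselianLocalRing A] [IsDomain A]
  (E : Type u) [CommRing E] [IsLocalRing E] [IsDomain E] [Algebra A E]
  [IsLocalHom (algebraMap A E)] [Module.Finite A E] [Algebra.Etale A E] [FaithfulSMul A E]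
  (K F : Type u) [Field K] [Field F] [Algebra A K] [IsFractionRing A K] [Algebra E F]
  [IsFractionRing E F] [Algebra A F] [IsScalarTower A E F] [Algebra K F] [IsScalarTower A K F]
  [IsGalois (ResidueField A) (ResidueField E)]

set_option maxHeartbeats 800000 in
/-- Every intermediate field of the extension of fraction fields of a Galois finite étale local
algebra is the fraction field of a finite étale local subalgebra. -/
theorem exists_finite_etale_of_intermediateField (L : IntermediateField K F) :
    ∃ (EH : Type u) (_ : CommRing EH) (_ : IsLocalRing EH) (_ : Algebra A EH)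
      (_ : IsLocalHom (algebraMap A EH)) (η : EH →ₐ[A] E),
      Module.Finite A EH ∧ Algebra.Etale A EH ∧ IsLocalHom η.toRingHom ∧
      (∀ a, algebraMap E F (η a) ∈ L) ∧
      (∀ y ∈ L, ∃ (a : EH) (s : A), s ≠ 0 ∧ y * algebraMap A F s = algebraMap E F (η a)) := by
  classical
  haveI := finiteDimensional A E K F
  haveI := isGalois A E K F
  let Hk : Subgroup (ResidueField E ≃ₐ[ResidueField A] ResidueField E) :=
    L.fixingSubgroup.comap (Φ A E K F)
  let kH : IntermediateField (ResidueField A) (ResidueField E) := IntermediateField.fixedField Hk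
  obtain ⟨EH, _, _, _, _, hfin, het, ⟨ε⟩⟩ :=
    Groth.Agent.Lib.Helper24LocEt.exists_local_finite_etale A kH
  haveI := hfin
  haveI := het
  let τ : ResidueField EH →ₐ[ResidueField A] ResidueField E :=
    kH.val.comp (ε : ResidueField EH →ₐ[ResidueField A] kH)
  have hτ : ∀ r, τ r = ((ε r : kH) : ResidueField E) := fun r => rfl
  let η : EH →ₐ[A] E := liftHom A EH E τ
  have hη : ∀ a, residue E (η a) = τ (residue EH a) := liftHom_residue A EH E τ
  have hloc : IsLocalHom η.toRingHom := by
    constructor
    intro a ha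
    by_contra hna
    have h1 : residue EH a = 0 := (residue_eq_zero_iff a).mpr hna
    have h2 : residue E (η a) = 0 := by rw [hη, h1, map_zero]
    exact (residue_eq_zero_iff _).mp h2 ha
  -- elements of `Hk` fix the image of `η`
  have hfix : ∀ σ ∈ Hk, ∀ a, liftEquiv A E σ (η a) = η a := by
    intro σ hσ a
    have h1 : ((liftEquiv A E σ : E ≃ₐ[A] E) : E →ₐ[A] E).comp η = η := by
      apply liftHom_unique A EH E τ
      intro x
      rw [AlgHom.comp_apply]
      change residue E (liftEquiv A E σ (η x)) = _
      rw [liftEquiv_residue, hη, hτ]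
      exact (IntermediateField.mem_fixedField_iff Hk _).mp (ε (residue EH x)).2 σ hσ
    exact AlgHom.congr_fun h1 a
  have hi : ∀ a, algebraMap E F (η a) ∈ L := by
    intro a
    rw [← IsGalois.fixedField_fixingSubgroup L, IntermediateField.mem_fixedField_iff]
    intro g hg
    obtain ⟨σ, rfl⟩ := (Φ_bijective A E K F).2 g
    rw [Φ_algebraMap, hfix σ hg a]
  refine ⟨EH, inferInstance, inferInstance, inferInstance, inferInstance, η, hfin, het, hloc,
    hi, ?_⟩
  -- the field generated by the image of `η`
  let FH : IntermediateField K F :=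
    IntermediateField.adjoin K (Set.range fun a => algebraMap E F (η a))
  have hle : FH.fixingSubgroup ≤ L.fixingSubgroup := by
    intro g hg
    obtain ⟨σ, rfl⟩ := (Φ_bijective A E K F).2 g
    change σ ∈ Hk
    rw [← IntermediateField.fixingSubgroup_fixedField Hk,
      IntermediateField.mem_fixingSubgroup_iff]
    intro y hy
    obtain ⟨r, hr⟩ := ε.surjective ⟨y, hy⟩
    obtain ⟨a, rfl⟩ := residue_surjective r
    have h1 : Φ A E K F σ (algebraMap E F (η a)) = algebraMap E F (η a) :=
      (IntermediateField.mem_fixingSubgroup_iff FH _).mp hg _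
        (IntermediateField.subset_adjoin K _ ⟨a, rfl⟩)
    rw [Φ_algebraMap] at h1
    have h2 : liftEquiv A E σ (η a) = η a := IsFractionRing.injective E F h1
    have h3 := congrArg (residue E) h2
    rw [liftEquiv_residue, hη, hτ, hr] at h3
    exact h3
  have hLle : L ≤ FH := by
    rw [← IsGalois.fixedField_fixingSubgroup L, ← IsGalois.fixedField_fixingSubgroup FH]
    exact IntermediateField.fixedField_le hle
  intro y hy
  have hy' : y ∈ Algebra.adjoin K (Set.range fun a => algebraMap E F (η a)) := by
    rw [← IntermediateField.adjoin_toSubalgebra]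
    exact hLle hy
  clear hy
  induction hy' using Algebra.adjoin_induction with
  | mem x hx =>
    obtain ⟨a, rfl⟩ := hx
    exact ⟨a, 1, one_ne_zero, by rw [map_one, mul_one]⟩
  | algebraMap c =>
    obtain ⟨a, s, rfl⟩ := IsLocalization.exists_mk'_eq (nonZeroDivisors A) c
    refine ⟨algebraMap A EH a, s, nonZeroDivisors.ne_zero s.2, ?_⟩
    rw [η.commutes, ← IsScalarTower.algebraMap_apply A E F,
      IsScalarTower.algebraMap_apply A K F s, ← map_mul, IsLocalization.mk'_spec,
      ← IsScalarTower.algebraMap_apply A K F]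
  | add x y _ _ hx hy =>
    obtain ⟨a, s, hs, h⟩ := hx
    obtain ⟨b, t, ht, h'⟩ := hy
    refine ⟨algebraMap A EH t * a + algebraMap A EH s * b, s * t, mul_ne_zero hs ht, ?_⟩
    simp only [map_add, map_mul, η.commutes, ← IsScalarTower.algebraMap_apply A E F]
    rw [← h, ← h']
    ring
  | mul x y _ _ hx hy =>
    obtain ⟨a, s, hs, h⟩ := hx
    obtain ⟨b, t, ht, h'⟩ := hy
    refine ⟨a * b, s * t, mul_ne_zero hs ht, ?_⟩
    rw [map_mul, map_mul, map_mul, ← h, ← h']
    ring

end Main

section Stage

open Groth.Agent.Lib.Helper3.Sh Groth.Agent.Lib.T2H1.EssEtInter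

variable {A : Type u} [CommRing A] [IsLocalRing A] {Ω : Type u} [Field Ω] [Algebra A Ω]
  [Algebra (ResidueField A) Ω] [IsScalarTower A (ResidueField A) Ω]
  [IsSepClosure (ResidueField A) Ω]
  {S : Type u} [CommRing S] [IsLocalRing S] [Algebra A S] (e : S ≃ₐ[A] Rsh A Ω)

/-- Every local map from an essentially étale local algebra to (a model of) the strict
henselization is a stage map. -/
theorem exists_stage_of_local (E : Type u) [CommRing E] [IsLocalRing E] [Algebra A E]
    (hE : EGA4loc.IsEssentiallyEtale A E) (h : E →ₐ[A] S) [hloc : IsLocalHom h.toRingHom] :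
    ∃ (i : Idx A Ω) (e' : E ≃ₐ[A] i.L), h = (ρ e i).comp (e' : E →ₐ[A] i.L) := by
  obtain ⟨C, _, _, q, _, hEt, hq, ⟨e₀⟩⟩ := hE
  let h' : E →ₐ[A] Rsh A Ω := (e : S →ₐ[A] Rsh A Ω).comp h
  haveI : IsLocalHom h'.toRingHom := by
    constructor
    intro x hx
    have h1 : IsUnit (e.symm (h' x)) := hx.map e.symm
    have h2 : e.symm (h' x) = h x := e.symm_apply_apply _
    rw [h2] at h1
    exact hloc.map_nonunit x h1
  let β : ResidueField E →ₐ[A] Ω := (embΩ (R := A) (Ω := Ω)).comp (resMap h')
  obtain ⟨i, e', he'⟩ := exists_idx (R := A) (Ω := Ω) E C q hq e₀ β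
  have hEE : EGA4loc.IsEssentiallyEtale A E := ⟨C, _, _, q, _, hEt, hq, ⟨e₀⟩⟩
  have heq : h' = (ofLₐ i).comp e'.toAlgHom := by
    apply EssEt.algHom_ext_of_residue A E (Rsh A Ω) hEE
    intro x
    apply toΩ_injective_residue (R := A) (Ω := Ω)
    rw [embΩ_residue, embΩ_residue]
    change _ = toΩ (ofL i (e' x))
    rw [toΩ_ofL, he' x]
    change _ = embΩ (resMap h' (residue E x))
    rw [resMap_residue, embΩ_residue]
  refine ⟨i, e', ?_⟩
  ext x
  have h1 : e (h x) = ofL i (e' x) := AlgHom.congr_fun heq x
  change h x = e.symm (ofL i (e' x))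
  rw [← h1, AlgEquiv.symm_apply_apply]

end Stage

section EtaleOfEss

open TensorProduct

/-- An essentially étale local algebra over a henselian local ring is finite étale. -/
theorem finite_etale_of_isEssentiallyEtale (A E : Type u) [CommRing A] [HenselianLocalRing A]
    [CommRing E] [IsLocalRing E] [Algebra A E] [IsLocalHom (algebraMap A E)]
    (hE : EGA4loc.IsEssentiallyEtale A E) : Module.Finite A E ∧ Algebra.Etale A E := by
  haveI : IsLocalHom (algebraMap A A) := by
    constructor
    intro a ha
    exact ha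
  have hres : Function.Bijective (ResidueField.map (algebraMap A A)) := by
    have : ResidueField.map (algebraMap A A) = RingHom.id _ := by
      ext x
      obtain ⟨a, rfl⟩ := residue_surjective x
      rfl
    rw [this]
    exact Function.bijective_id
  obtain ⟨S, _, _, _, hfin, het, ⟨ε⟩⟩ :=
    Groth.Agent.Lib.T2H1.FinEtTensor.exists_finite_etale_tensor A A E hres hE
  let ε' : E ≃ₐ[A] S := ε.trans (Algebra.TensorProduct.lid A S)
  exact ⟨Module.Finite.equiv ε'.symm.toLinearEquiv, Algebra.Etale.of_equiv ε'.symm⟩

end EtaleOfEss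

section GaloisStage

open Groth.Agent.Lib.Helper3.Sh

variable {A : Type u} [CommRing A] [HenselianLocalRing A] {Ω : Type u} [Field Ω] [Algebra A Ω]
  [Algebra (ResidueField A) Ω] [IsScalarTower A (ResidueField A) Ω]
  [IsSepClosure (ResidueField A) Ω]

set_option maxHeartbeats 800000 in
/-- Every stage of the strict henselization of a henselian local ring is dominated by a stage
with Galois residue field extension. -/
theorem exists_galois_stage (i₀ : Idx A Ω) :
    ∃ i' : Idx A Ω, i₀ ≤ i' ∧ IsGalois (ResidueField A) (ResidueField i'.L) := by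
  classical
  obtain ⟨hfin₀, het₀⟩ := finite_etale_of_isEssentiallyEtale A i₀.L i₀.isEssentiallyEtale
  haveI := hfin₀
  haveI := het₀
  let b₀ : ResidueField i₀.L →ₐ[ResidueField A] Ω :=
    i₀.embL.extendScalarsOfSurjective residue_surjective
  have hb₀ : ∀ x, b₀ x = i₀.embL x := fun x => rfl
  let N : IntermediateField (ResidueField A) Ω :=
    IntermediateField.normalClosure (ResidueField A) (ResidueField i₀.L) Ω
  haveI : FiniteDimensional (ResidueField A) N := normalClosure.is_finiteDimensional _ _ _
  haveI : Normal (ResidueField A) N := normalClosure.normal _ _ _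
  haveI : Algebra.IsSeparable (ResidueField A) N :=
    Algebra.isSeparable_tower_bot_of_isSeparable (ResidueField A) N Ω
  haveI : IsGalois (ResidueField A) N := ⟨⟩
  obtain ⟨E', _, _, _, _, hfin, het, ⟨ε⟩⟩ :=
    Groth.Agent.Lib.Helper24LocEt.exists_local_finite_etale A N
  haveI := hfin
  haveI := het
  let β : ResidueField E' →ₐ[A] Ω :=
    (N.val.comp (ε : ResidueField E' →ₐ[ResidueField A] N)).restrictScalars A
  have hβ : ∀ r, β r = ((ε r : N) : Ω) := fun r => rfl
  haveI : Algebra.IsIntegral A E' := Algebra.IsIntegral.of_finite A E'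
  obtain ⟨C, _, _, q, _, hEt, hq, ⟨e₀⟩⟩ :=
    Groth.Agent.Lib.T2H1.FinEtTensor.isEssentiallyEtale_of_etale A E'
  obtain ⟨i', e', he'⟩ := exists_idx (R := A) (Ω := Ω) E' C q hq e₀ β
  haveI : Module.Finite A i'.L := Module.Finite.equiv e'.toLinearEquiv
  haveI : Algebra.Etale A i'.L := Algebra.Etale.of_equiv e'
  let ε' : ResidueField E' ≃ₐ[ResidueField A] ResidueField i'.L := ResidueField.mapAlgEquiv' e'
  have hε' : ∀ z, ε' (residue E' z) = residue i'.L (e' z) := fun z => rfl
  refine ⟨i', ?_, IsGalois.of_algEquiv (ε.symm.trans ε')⟩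
  let α₀ : ResidueField i₀.L →ₐ[ResidueField A] N :=
    b₀.codRestrict N.toSubalgebra (fun x => b₀.fieldRange_le_normalClosure ⟨x, rfl⟩)
  have hα₀ : ∀ x, ((α₀ x : N) : Ω) = b₀ x := fun x => rfl
  let α : ResidueField i₀.L →ₐ[ResidueField A] ResidueField i'.L :=
    (ε' : ResidueField E' →ₐ[ResidueField A] ResidueField i'.L).comp
      ((ε.symm : N →ₐ[ResidueField A] ResidueField E').comp α₀)
  refine ⟨liftHom A i₀.L i'.L α, ?_⟩
  intro x
  rw [Idx.toΩ_apply, Idx.toΩ_apply, liftHom_residue]
  change i'.embL (ε' (ε.symm (α₀ (residue i₀.L x)))) = _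
  obtain ⟨z, hz⟩ := residue_surjective (ε.symm (α₀ (residue i₀.L x)))
  rw [← hz, hε', ← Idx.toΩ_apply, he' z, hβ, hz, AlgEquiv.apply_symm_apply, hα₀, hb₀]

end GaloisStage

section Final

open Groth.Agent.Lib.Helper3 Groth.Agent.Lib.Helper3.Sh Groth.Agent.Lib.T2H1.EssEtInter

set_option maxHeartbeats 1600000 in
/-- For a henselian local domain `A` whose strict henselization `S` is a domain, the intersection
of `S` with a finitely generated subextension of `Frac S / Frac A` is an essentially étale local
`A`-algebra dominated by `S`. -/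
theorem main (A S : Type u) [CommRing A] [HenselianLocalRing A] [IsDomain A]
    [CommRing S] [IsLocalRing S] [Algebra A S] [IsLocalHom (algebraMap A S)]
    [Hensel.IsStrictHenselization A S] [IsDomain S] (t : Finset (FractionRing S)) :
    ∃ D : Subalgebra A S, (D : Set S) = (algebraMap S (FractionRing S)) ⁻¹'
        (Subfield.closure (Set.range (algebraMap A (FractionRing S)) ∪
          (t : Set (FractionRing S))) : Set (FractionRing S)) ∧
      ∃ _ : IsLocalRing D, IsLocalHom (algebraMap D S) ∧ EGA4loc.IsEssentiallyEtale A D := by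
  classical
  obtain ⟨Ω, _, _, _, _, _, ⟨e⟩⟩ := HzP.sh_exists_model A S
  haveI : Module.FaithfullyFlat A S := HzP.sh_faithfullyFlat A S
  have hAS : Function.Injective (algebraMap A S) := FaithfulSMul.algebraMap_injective A S
  -- numerators and denominators
  obtain ⟨b, hb⟩ := IsLocalization.exist_integer_multiples_of_finset (nonZeroDivisors S) t
  choose! δ hδ using hb
  obtain ⟨i₀, hi₀⟩ := exists_stage e (insert (b : S) (t.image δ))
  obtain ⟨i', hle, hgal⟩ := exists_galois_stage i₀
  haveI := hgal
  obtain ⟨hfin', het'⟩ := finite_etale_of_isEssentiallyEtale A i'.L i'.isEssentiallyEtale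
  haveI := hfin'
  haveI := het'
  have hρinj := ρ_injective e i'
  haveI : IsDomain i'.L := hρinj.isDomain (ρ e i').toRingHom
  have hAL : Function.Injective (algebraMap A i'.L) := by
    intro a₁ a₂ h
    apply hAS
    rw [← (ρ e i').commutes, ← (ρ e i').commutes, h]
  haveI : FaithfulSMul A i'.L := (faithfulSMul_iff_algebraMap_injective A i'.L).mpr hAL
  have hrange : (ρ e i₀).range ≤ (ρ e i').range := by
    rintro _ ⟨l, rfl⟩
    refine ⟨fmap' i₀ i' hle l, ?_⟩
    change e.symm (ofL i' (fmap' i₀ i' hle l)) = e.symm (ofL i₀ l)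
    rw [ofL_fmap]
  -- fraction fields
  haveI : FaithfulSMul A (FractionRing i'.L) := by
    rw [faithfulSMul_iff_algebraMap_injective,
      IsScalarTower.algebraMap_eq A i'.L (FractionRing i'.L)]
    exact (IsFractionRing.injective i'.L (FractionRing i'.L)).comp hAL
  letI : Algebra (FractionRing A) (FractionRing i'.L) :=
    FractionRing.liftAlgebra A (FractionRing i'.L)
  haveI : IsScalarTower A (FractionRing A) (FractionRing i'.L) :=
    FractionRing.isScalarTower_liftAlgebra A (FractionRing i'.L)
  let g : i'.L →+* FractionRing S := (algebraMap S (FractionRing S)).comp (ρ e i').toRingHom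
  have hg : Function.Injective g := (IsFractionRing.injective S (FractionRing S)).comp hρinj
  let φ : FractionRing i'.L →+* FractionRing S := IsFractionRing.lift hg
  have hφ : ∀ x, φ (algebraMap i'.L (FractionRing i'.L) x) =
      algebraMap S (FractionRing S) (ρ e i' x) := fun x => IsFractionRing.lift_algebraMap hg x
  have hφA : ∀ a : A, φ (algebraMap A (FractionRing i'.L) a) =
      algebraMap A (FractionRing S) a := by
    intro a
    rw [IsScalarTower.algebraMap_apply A i'.L (FractionRing i'.L), hφ, (ρ e i').commutes,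
      ← IsScalarTower.algebraMap_apply]
  let LK : Subfield (FractionRing S) :=
    Subfield.closure (Set.range (algebraMap A (FractionRing S)) ∪ (t : Set (FractionRing S)))
  have hLKA : ∀ a : A, algebraMap A (FractionRing S) a ∈ LK := fun a =>
    Subfield.subset_closure (Or.inl ⟨a, rfl⟩)
  let L' : IntermediateField (FractionRing A) (FractionRing i'.L) :=
    (LK.comap φ).toIntermediateField (by
      intro c
      obtain ⟨a, s, rfl⟩ := IsLocalization.exists_mk'_eq (nonZeroDivisors A) c
      change φ _ ∈ LK
      rw [IsFractionRing.mk'_eq_div, map_div₀, map_div₀,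
        ← IsScalarTower.algebraMap_apply A (FractionRing A) (FractionRing i'.L),
        ← IsScalarTower.algebraMap_apply A (FractionRing A) (FractionRing i'.L), hφA, hφA]
      exact LK.div_mem (hLKA a) (hLKA s))
  have hL' : ∀ y, y ∈ L' ↔ φ y ∈ LK := fun y => Iff.rfl
  obtain ⟨EH, _, _, _, _, η, hfinH, hetH, hlocη, hi, hii⟩ :=
    exists_finite_etale_of_intermediateField A i'.L (FractionRing A) (FractionRing i'.L) L'
  haveI := hfinH
  haveI := hetH
  haveI : Algebra.IsIntegral A EH := Algebra.IsIntegral.of_finite A EH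
  have hEH : EGA4loc.IsEssentiallyEtale A EH :=
    Groth.Agent.Lib.T2H1.FinEtTensor.isEssentiallyEtale_of_etale A EH
  let h : EH →ₐ[A] S := (ρ e i').comp η
  haveI hloch : IsLocalHom h.toRingHom := by
    constructor
    intro a ha
    exact hlocη.map_nonunit a (isUnit_of_isUnit_ρ e i' (η a) ha)
  obtain ⟨iH, eH, hh⟩ := exists_stage_of_local e EH hEH h
  have hh' : ∀ a, ρ e iH (eH a) = ρ e i' (η a) := fun a => (AlgHom.congr_fun hh a).symm
  have hset : ((ρ e iH).range : Set S) = (algebraMap S (FractionRing S)) ⁻¹' (LK : Set _) := by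
    ext z
    constructor
    · rintro ⟨l, rfl⟩
      obtain ⟨a, rfl⟩ := eH.surjective l
      change algebraMap S (FractionRing S) (ρ e iH (eH a)) ∈ LK
      rw [hh', ← hφ, ← hL']
      exact hi a
    · intro hz
      have hz' : algebraMap S (FractionRing S) z ∈ LK := hz
      have hLKle : LK ≤ φ.fieldRange := by
        rw [Subfield.closure_le]
        rintro x (⟨a, rfl⟩ | hx)
        · exact ⟨algebraMap A (FractionRing i'.L) a, hφA a⟩
        · have hx' : x ∈ t := hx
          obtain ⟨b', hb'⟩ := hrange (hi₀ _ (Finset.mem_insert_self _ _))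
          obtain ⟨d', hd'⟩ := hrange (hi₀ _ (Finset.mem_insert_of_mem
            (Finset.mem_image_of_mem δ hx')))
          have hb'' : ρ e i' b' = (b : S) := hb'
          have hd'' : ρ e i' d' = δ x := hd'
          have hbne : algebraMap S (FractionRing S) (b : S) ≠ 0 := by
            intro h0
            exact nonZeroDivisors.ne_zero b.2
              (IsFractionRing.injective S (FractionRing S) (by rw [h0, map_zero]))
          refine ⟨algebraMap i'.L (FractionRing i'.L) d' / algebraMap i'.L (FractionRing i'.L) b',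
            ?_⟩
          rw [map_div₀, hφ, hφ, hb'', hd'', hδ x hx', Algebra.smul_def, mul_comm,
            mul_div_assoc, div_self hbne, mul_one]
      obtain ⟨y, hy⟩ := hLKle hz'
      have hyL : y ∈ L' := by
        rw [hL', hy]
        exact hz'
      obtain ⟨a, s, hs, hys⟩ := hii y hyL
      have h1 : z * algebraMap A S s = ρ e iH (eH a) := by
        apply IsFractionRing.injective S (FractionRing S)
        rw [hh', ← hφ, ← hys, map_mul, map_mul, hy, hφA, ← IsScalarTower.algebraMap_apply]
      have hu : ρ e iH (algebraMap A iH.L s) ∈ nonZeroDivisors S := by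
        rw [(ρ e iH).commutes]
        exact mem_nonZeroDivisors_of_ne_zero
          (fun h0 => hs (hAS (by rw [h0, map_zero])))
      obtain ⟨x', hx'⟩ := exists_of_mul_eq e iH (algebraMap A iH.L s) (eH a) z hu
        (by rw [(ρ e iH).commutes, mul_comm, h1])
      exact ⟨x', hx'⟩
  obtain ⟨hlocD, hessD⟩ := range_isEssentiallyEtale e iH
  refine ⟨(ρ e iH).range, hset, hlocD, ?_, hessD⟩
  constructor
  rintro ⟨_, l, rfl⟩ hx
  have h1 : IsUnit l := isUnit_of_isUnit_ρ e iH l hx
  exact h1.map (AlgEquiv.ofInjective (ρ e iH) (ρ_injective e iH))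

end Final

end Groth.Agent.Lib.T2H1.GaloisStage
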