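import Mathlib
import Groth.Agent.Lib.T2H1BranchPI
import Groth.Agent.Lib.T2H1GaloisStage
import Groth.Agent.Lib.T2H1ShInj
import Groth.Agent.Lib.Helper24LocEt
import Groth.Agent.Lib.Helper24G0
import Groth.Agent.Lib.Helper3HenselC
import Groth.Agent.Lib.T2H1FinEtTensor

/-!
# Finite subalgebras of a strict henselization (helper1, tranche 2)

`A` henselian local, `S` a strict henselization of `A`, `D ⊆ S` an `A`-subalgebra finite over `A`.
-/

set_option autoImplicit false
universe u
open IsLocalRing

namespace Groth.Agent.Lib.T2H1.FiniteSub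

open Groth.Agent.Lib.Helper3

section Basics

variable (A : Type u) [CommRing A] [HenselianLocalRing A]
  (S : Type u) [CommRing S] [IsLocalRing S] [Algebra A S] [IsLocalHom (algebraMap A S)]
  (D : Subalgebra A S) [Module.Finite A D]

/-- A finite subalgebra of a local algebra over a henselian local ring is local. -/
theorem isLocalRing_sub : IsLocalRing D := by
  classical
  obtain ⟨ι, _, R, _, hloc, ⟨e⟩⟩ :=
    Groth.Agent.Lib.Helper3.Hensel.exists_pi_isLocalRing_of_finite A D
  haveI : Nontrivial D := inferInstance
  have hidem : ∀ x : D, IsIdempotentElem x → x = 0 ∨ x = 1 := by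
    intro x hx
    have hx' : IsIdempotentElem (x : S) := by
      have := congrArg (Subtype.val) hx.eq
      exact this
    rcases Groth.Agent.Lib.Helper24G0.idem_local (x : S) hx' with h | h
    · left; exact Subtype.ext h
    · right; exact Subtype.ext h
  haveI : Nonempty ι := by
    by_contra hne
    rw [not_nonempty_iff] at hne
    have : (1 : D) = 0 := e.injective (Subsingleton.elim _ _)
    exact one_ne_zero this
  obtain ⟨i₀⟩ := ‹Nonempty ι›
  haveI := hloc
  have hsingle : IsIdempotentElem (Pi.single i₀ (1 : R i₀) : ∀ i, R i) := by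
    change Pi.single i₀ (1 : R i₀) * Pi.single i₀ (1 : R i₀) = Pi.single i₀ (1 : R i₀)
    rw [← Pi.single_mul, one_mul]
  have h1 : e.symm (Pi.single i₀ (1 : R i₀)) = 1 := by
    rcases hidem _ (hsingle.map e.symm) with h | h
    · exfalso
      have h2 : (Pi.single i₀ (1 : R i₀) : ∀ i, R i) = 0 := by
        have := congrArg e h
        simpa using this
      have h3 := congrFun h2 i₀
      simp at h3
    · exact h
  have h2 : (Pi.single i₀ (1 : R i₀) : ∀ i, R i) = 1 := by
    have := congrArg e h1
    simpa using this
  have huniq : ∀ j, j = i₀ := fun j => by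
    by_contra hj
    have h3 := congrFun h2 j
    rw [Pi.single_eq_of_ne hj] at h3
    exact zero_ne_one h3
  haveI : Unique ι := ⟨⟨i₀⟩, huniq⟩
  let e' : D ≃+* R default := e.trans (RingEquiv.piUnique R)
  exact e'.symm.isLocalRing

include A in
theorem isLocalHom_algebraMap_sub : IsLocalHom (algebraMap A D) := by
  constructor
  intro a ha
  have h1 : IsUnit (algebraMap A S a) := by
    have := ha.map D.val
    simpa using this
  exact isUnit_of_map_unit (algebraMap A S) a h1

theorem isLocalHom_val_sub [IsLocalRing D] : IsLocalHom (algebraMap D S) := by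
  haveI : Algebra.IsIntegral A D := Algebra.IsIntegral.of_finite A D
  set P : Ideal D := (maximalIdeal S).comap (algebraMap D S) with hP
  haveI : P.IsPrime := Ideal.comap_isPrime _ _
  have hPA : P.comap (algebraMap A D) = maximalIdeal A := by
    rw [hP, Ideal.comap_comap, ← IsScalarTower.algebraMap_eq]
    exact ((IsLocalRing.local_hom_TFAE (algebraMap A S)).out 0 4).mp ‹_›
  have hPmax : P.IsMaximal :=
    Ideal.isMaximal_of_isIntegral_of_isMaximal_comap P (hPA ▸ maximalIdeal.isMaximal A)
  have hPeq : P = maximalIdeal D := IsLocalRing.eq_maximalIdeal hPmax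
  constructor
  intro x hx
  by_contra hnx
  have h1 : x ∈ maximalIdeal D := hnx
  rw [← hPeq, hP, Ideal.mem_comap] at h1
  exact ((mem_maximalIdeal _).mp h1) hx

theorem isReduced_sub [IsReduced S] : IsReduced D :=
  isReduced_of_injective D.val Subtype.val_injective

end Basics

section EtaleTower

variable (A : Type u) [CommRing A] [IsLocalRing A]
  (D : Type u) [CommRing D] [IsLocalRing D] [Algebra A D] [IsLocalHom (algebraMap A D)]
  (S : Type u) [CommRing S] [IsLocalRing S] [Algebra A S] [IsLocalHom (algebraMap A S)]
  [Algebra D S] [IsLocalHom (algebraMap D S)] [IsScalarTower A D S]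

omit [IsLocalRing A] [Algebra A D] [IsLocalHom (algebraMap A D)] [Algebra A S]
  [IsLocalHom (algebraMap A S)] [IsScalarTower A D S] in
theorem algebraMap_residueField_eq :
    algebraMap (ResidueField D) (ResidueField S) = ResidueField.map (algebraMap D S) := by
  ext x
  obtain ⟨x, rfl⟩ := residue_surjective x
  rfl

theorem isSepClosure_residue [IsSepClosure (ResidueField A) (ResidueField S)] :
    IsSepClosure (ResidueField D) (ResidueField S) :=
  ⟨IsSepClosure.sep_closed (ResidueField A),
    Algebra.isSeparable_tower_top_of_isSeparable (ResidueField A) (ResidueField D)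
      (ResidueField S)⟩

/-- A strict henselization of `A` is a strict henselization of any étale local `A`-algebra mapping
locally to it. -/
theorem isStrictHenselization_of_etale [Algebra.Etale A D] [Hensel.IsStrictHenselization A S] :
    Hensel.IsStrictHenselization D S := by
  haveI : HenselianLocalRing S := Hensel.IsStrictHenselization.henselian (R := A)
  haveI : IsSepClosure (ResidueField A) (ResidueField S) :=
    Hensel.IsStrictHenselization.isSepClosure
  refine ⟨inferInstance, isSepClosure_residue A D S, ?_⟩
  intro T _ _ f _ τ hτ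
  haveI : IsLocalHom (f.comp (algebraMap A D)) := RingHom.isLocalHom_comp _ _
  have hτ' : τ.comp (ResidueField.map (algebraMap A S)) =
      ResidueField.map (f.comp (algebraMap A D)) := by
    ext x
    obtain ⟨a, rfl⟩ := residue_surjective x
    have h1 := congrArg (fun h : ResidueField D →+* ResidueField T =>
      h (residue D (algebraMap A D a))) hτ
    simp only [RingHom.comp_apply, ResidueField.map_residue] at h1 ⊢
    rw [IsScalarTower.algebraMap_apply A D S a]
    exact h1
  obtain ⟨g, ⟨hg1, hg2⟩, hguniq⟩ := Hensel.IsStrictHenselization.universal (R := A) (S := S) T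
    (f.comp (algebraMap A D)) τ hτ'
  refine ⟨g, ⟨?_, hg2⟩, ?_⟩
  · letI : Algebra A T := (f.comp (algebraMap A D)).toAlgebra
    let u : D →ₐ[A] T := ⟨g.comp (algebraMap D S), fun a => by
      have := congrArg (fun h : A →+* T => h a) hg1
      simp only [RingHom.comp_apply] at this
      change g (algebraMap D S (algebraMap A D a)) = f (algebraMap A D a)
      rw [← IsScalarTower.algebraMap_apply A D S a]
      exact this⟩
    let v : D →ₐ[A] T := ⟨f, fun a => rfl⟩
    let w : D →ₐ[A] ResidueField T := (IsScalarTower.toAlgHom A T (ResidueField T)).comp v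
    obtain ⟨f₀, hf₀, huniq⟩ := IndEt.existsUnique_lift_residue (R := A) (T := T) (E := D) w
    have hu : u = f₀ := huniq u (fun a => by
      change residue T (g (algebraMap D S a)) = residue T (f a)
      rw [hg2]
      have h1 := congrArg (fun h : ResidueField D →+* ResidueField T => h (residue D a)) hτ
      simpa only [RingHom.comp_apply, ResidueField.map_residue] using h1)
    have hv : v = f₀ := huniq v (fun a => rfl)
    have huv := hu.trans hv.symm
    ext d
    exact congrArg (fun h : D →ₐ[A] T => h d) huv
  · rintro g' ⟨hg'1, hg'2⟩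
    apply hguniq
    refine ⟨?_, hg'2⟩
    rw [IsScalarTower.algebraMap_eq A D S, ← RingHom.comp_assoc, hg'1]

end EtaleTower

section TopTransport

variable (D : Type u) [CommRing D] [IsLocalRing D]
  (T : Type u) [CommRing T] [IsLocalRing T] [Algebra D T] [IsLocalHom (algebraMap D T)]
  [Hensel.IsStrictHenselization D T]
  (S : Type u) [CommRing S] [IsLocalRing S] [Algebra D S] [IsLocalHom (algebraMap D S)]

/-- Transport of a strict henselization along a ring isomorphism of the top ring. -/
theorem isStrictHenselization_of_ringEquiv_top [HenselianLocalRing S]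
    [IsSepClosure (ResidueField D) (ResidueField S)]
    (e : T ≃+* S) (he : ∀ d, e (algebraMap D T d) = algebraMap D S d) :
    Hensel.IsStrictHenselization D S := by
  refine ⟨inferInstance, inferInstance, ?_⟩
  intro T' _ _ f _ τ hτ
  haveI : IsLocalHom (e : T →+* S) := inferInstance
  let ē : ResidueField T →+* ResidueField S := ResidueField.map (e : T →+* S)
  have hē : ∀ t, ē (residue T t) = residue S (e t) := fun t => rfl
  have hτ' : (τ.comp ē).comp (ResidueField.map (algebraMap D T)) = ResidueField.map f := by
    ext x
    obtain ⟨d, rfl⟩ := residue_surjective x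
    have h1 := congrArg (fun h : ResidueField D →+* ResidueField T' => h (residue D d)) hτ
    simp only [RingHom.comp_apply, ResidueField.map_residue] at h1 ⊢
    rw [hē, he]
    exact h1
  obtain ⟨g₀, ⟨hg1, hg2⟩, huniq⟩ := Hensel.IsStrictHenselization.universal (R := D) (S := T) T' f
    (τ.comp ē) hτ'
  refine ⟨g₀.comp (e.symm : S →+* T), ⟨?_, ?_⟩, ?_⟩
  · ext d
    simp only [RingHom.comp_apply, RingHom.coe_coe]
    rw [← he d, e.symm_apply_apply]
    exact congrArg (fun h : D →+* T' => h d) hg1
  · intro s
    simp only [RingHom.comp_apply, RingHom.coe_coe]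
    rw [hg2, RingHom.comp_apply, hē, e.apply_symm_apply]
  · rintro g' ⟨hg'1, hg'2⟩
    have h3 := huniq (g'.comp (e : T →+* S)) ⟨by
      ext d
      simp only [RingHom.comp_apply, RingHom.coe_coe]
      rw [he]
      exact congrArg (fun h : D →+* T' => h d) hg'1, by
      intro t
      simp only [RingHom.comp_apply, RingHom.coe_coe]
      rw [hg'2, hē]⟩
    rw [← h3]
    ext s
    simp

end TopTransport

section Core

variable (A : Type u) [CommRing A] [IsLocalRing A]
  (D : Type u) [CommRing D] [IsLocalRing D] [Algebra A D] [IsLocalHom (algebraMap A D)]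
  (S : Type u) [CommRing S] [IsLocalRing S] [Algebra A S] [IsLocalHom (algebraMap A S)]
  [Algebra D S] [IsLocalHom (algebraMap D S)] [IsScalarTower A D S]
  [Hensel.IsStrictHenselization A S]
  (T : Type u) [CommRing T] [IsLocalRing T] [Algebra D T] [IsLocalHom (algebraMap D T)]
  [Hensel.IsStrictHenselization D T]

include A in
/-- A strict henselization `T` of an intermediate local ring `D` retracts onto the strict
henselization `S` of `A`. -/
theorem exists_retraction : ∃ (φ : T →+* S) (ψ : S →+* T),
    φ.comp (algebraMap D T) = algebraMap D S ∧ φ.comp ψ = RingHom.id S := by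
  haveI : HenselianLocalRing S := Hensel.IsStrictHenselization.henselian (R := A)
  haveI : HenselianLocalRing T := Hensel.IsStrictHenselization.henselian (R := D)
  haveI : IsSepClosure (ResidueField A) (ResidueField S) :=
    Hensel.IsStrictHenselization.isSepClosure
  haveI : IsSepClosure (ResidueField D) (ResidueField S) := isSepClosure_residue A D S
  haveI : IsSepClosure (ResidueField D) (ResidueField T) :=
    Hensel.IsStrictHenselization.isSepClosure
  let τ : ResidueField T ≃ₐ[ResidueField D] ResidueField S :=
    IsSepClosure.equiv (ResidueField D) (ResidueField T) (ResidueField S)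
  have hτ : ((τ : ResidueField T →ₐ[ResidueField D] ResidueField S) :
        ResidueField T →+* ResidueField S).comp (ResidueField.map (algebraMap D T)) =
      ResidueField.map (algebraMap D S) := by
    rw [← algebraMap_residueField_eq, ← algebraMap_residueField_eq]
    ext x
    exact τ.commutes x
  obtain ⟨φ, ⟨hφ1, hφ2⟩, -⟩ := Hensel.IsStrictHenselization.universal (R := D) (S := T) S
    (algebraMap D S) _ hτ
  haveI : IsLocalHom ((algebraMap D T).comp (algebraMap A D)) := RingHom.isLocalHom_comp _ _
  have hτs : ((τ.symm : ResidueField S →ₐ[ResidueField D] ResidueField T) :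
        ResidueField S →+* ResidueField T).comp (ResidueField.map (algebraMap A S)) =
      ResidueField.map ((algebraMap D T).comp (algebraMap A D)) := by
    ext x
    obtain ⟨a, rfl⟩ := residue_surjective x
    simp only [RingHom.comp_apply, ResidueField.map_residue]
    rw [IsScalarTower.algebraMap_apply A D S a]
    have h1 : residue S (algebraMap D S (algebraMap A D a)) =
        τ (residue T (algebraMap D T (algebraMap A D a))) :=
      (τ.commutes (residue D (algebraMap A D a))).symm
    rw [h1]
    exact τ.symm_apply_apply _
  obtain ⟨ψ, ⟨hψ1, hψ2⟩, -⟩ := Hensel.IsStrictHenselization.universal (R := A) (S := S) T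
    ((algebraMap D T).comp (algebraMap A D)) _ hτs
  refine ⟨φ, ψ, hφ1, ?_⟩
  have hid : (RingHom.id (ResidueField S)).comp (ResidueField.map (algebraMap A S)) =
      ResidueField.map (algebraMap A S) := RingHom.id_comp _
  obtain ⟨g, -, huniq⟩ := Hensel.IsStrictHenselization.universal (R := A) (S := S) S
    (algebraMap A S) (RingHom.id _) hid
  have h1 : φ.comp ψ = g := huniq _ ⟨by
    rw [RingHom.comp_assoc, hψ1, ← RingHom.comp_assoc, hφ1, ← IsScalarTower.algebraMap_eq], by
    intro x
    rw [RingHom.comp_apply, hφ2, hψ2]
    exact τ.apply_symm_apply _⟩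
  have h2 : RingHom.id S = g := huniq _ ⟨RingHom.id_comp _, fun x => rfl⟩
  rw [h1, h2]

omit [IsLocalRing S] [IsLocalHom (algebraMap D S)] in
/-- If the minimal primes of `T = Dˢʰ` are extended from `D`, then the kernel of any `D`-map from
`T` to an extension `S ⊇ D` lies in all minimal primes. -/
theorem ker_le_minimalPrimes (φ : T →+* S) (hφ : φ.comp (algebraMap D T) = algebraMap D S)
    (hinj : Function.Injective (algebraMap D S))
    (H : ∀ Q ∈ minimalPrimes T, Q = (Q.comap (algebraMap D T)).map (algebraMap D T)) :
    ∀ Q ∈ minimalPrimes T, RingHom.ker φ ≤ Q := by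
  intro Q hQ
  haveI : Module.FaithfullyFlat D T := HzP.sh_faithfullyFlat D T
  have hq := Branch.mapsTo_comap_minimalPrimes_of_flat D T hQ
  obtain ⟨Q₁, hQ₁, hQ₁q⟩ :=
    Ideal.exists_comap_eq_of_mem_minimalPrimes_of_injective hinj _ hq
  haveI : (Q₁.comap φ).IsPrime := Ideal.comap_isPrime _ _
  haveI : Q.IsPrime := hQ.1.1
  have hPD : (Q₁.comap φ).comap (algebraMap D T) = Q.comap (algebraMap D T) := by
    rw [Ideal.comap_comap, hφ, hQ₁q]
  have hQP : Q ≤ Q₁.comap φ := by
    rw [H Q hQ, Ideal.map_le_iff_le_comap, hPD]
  have h1 := HzP.sh_incomparable D T Q (Q₁.comap φ) hQP hPD.symm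
  rw [h1]
  exact Ideal.ker_le_comap φ

omit [IsLocalRing S] [IsLocalHom (algebraMap D S)] in
theorem injective_of_forall [IsReduced D] (φ : T →+* S)
    (hφ : φ.comp (algebraMap D T) = algebraMap D S)
    (hinj : Function.Injective (algebraMap D S))
    (H : ∀ Q ∈ minimalPrimes T, Q = (Q.comap (algebraMap D T)).map (algebraMap D T)) :
    Function.Injective φ := by
  haveI : IsReduced T := (HzP.sh_isReduced_iff D T).mp inferInstance
  rw [injective_iff_map_eq_zero]
  intro x hx
  have h1 : x ∈ nilradical T := by
    rw [nilradical_eq_sInf, Ideal.mem_sInf]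
    intro P hP
    haveI : P.IsPrime := hP
    obtain ⟨Q, hQ, hQP⟩ := Ideal.exists_minimalPrimes_le (bot_le : (⊥ : Ideal T) ≤ P)
    exact hQP (ker_le_minimalPrimes D S T φ hφ hinj H Q hQ hx)
  rw [nilradical_eq_zero] at h1
  exact h1

include A in
/-- If the minimal primes of a strict henselization of `D` are extended from `D`, where `D` is a
reduced local ring between `A` and `S = Aˢʰ`, then `S` is a strict henselization of `D`. -/
theorem isStrictHenselization_of_forall [IsReduced D]
    (hinj : Function.Injective (algebraMap D S))
    (H : ∀ Q ∈ minimalPrimes T, Q = (Q.comap (algebraMap D T)).map (algebraMap D T)) :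
    Hensel.IsStrictHenselization D S := by
  obtain ⟨φ, ψ, hφ, hφψ⟩ := exists_retraction A D S T
  have hφinj := injective_of_forall D S T φ hφ hinj H
  have hφsurj : Function.Surjective φ := fun s =>
    ⟨ψ s, congrArg (fun h : S →+* S => h s) hφψ⟩
  haveI : HenselianLocalRing S := Hensel.IsStrictHenselization.henselian (R := A)
  haveI : IsSepClosure (ResidueField A) (ResidueField S) :=
    Hensel.IsStrictHenselization.isSepClosure
  haveI : IsSepClosure (ResidueField D) (ResidueField S) := isSepClosure_residue A D S
  exact isStrictHenselization_of_ringEquiv_top D T S (RingEquiv.ofBijective φ ⟨hφinj, hφsurj⟩)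
    (fun d => congrArg (fun h : D →+* S => h d) hφ)

end Core

section Etale

variable (A : Type u) [CommRing A] [HenselianLocalRing A]
  (D : Type u) [CommRing D] [IsLocalRing D] [Algebra A D] [IsLocalHom (algebraMap A D)]
  [Module.Finite A D]
  (S : Type u) [CommRing S] [IsLocalRing S] [Algebra A S] [IsLocalHom (algebraMap A S)]
  [Algebra D S] [IsLocalHom (algebraMap D S)] [IsScalarTower A D S]
  [Hensel.IsStrictHenselization A S] [Hensel.IsStrictHenselization D S]

include S in
theorem map_maximalIdeal_eq :
    (maximalIdeal A).map (algebraMap A D) = maximalIdeal D := by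
  haveI : Module.FaithfullyFlat D S := HzP.sh_faithfullyFlat D S
  have h1 : ((maximalIdeal A).map (algebraMap A D)).map (algebraMap D S) = maximalIdeal S := by
    rw [Ideal.map_map, ← IsScalarTower.algebraMap_eq]
    exact HzP.sh_map_maximalIdeal A S
  have h2 := Ideal.comap_map_eq_self_of_faithfullyFlat (B := S)
    ((maximalIdeal A).map (algebraMap A D))
  rw [h1] at h2
  rw [← h2]
  exact ((IsLocalRing.local_hom_TFAE (algebraMap D S)).out 0 4).mp ‹_›

include S in
/-- A finite local algebra `D` over a henselian local ring `A`, such that the strict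
henselization of `A` is also a strict henselization of `D`, is étale. -/
theorem etale_of_isStrictHenselization : Algebra.Etale A D := by
  haveI : IsSepClosure (ResidueField A) (ResidueField S) :=
    Hensel.IsStrictHenselization.isSepClosure
  haveI : Algebra.IsSeparable (ResidueField A) (ResidueField D) :=
    Algebra.isSeparable_tower_bot_of_isSeparable (ResidueField A) (ResidueField D)
      (ResidueField S)
  obtain ⟨E₀, _, _, _, _, hfin, het, ⟨ε⟩⟩ :=
    Groth.Agent.Lib.Helper24LocEt.exists_local_finite_etale A (ResidueField D)
  haveI := hfin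
  haveI := het
  haveI : HenselianLocalRing D := Groth.Agent.Lib.Helper24G0.henselian_of_finite A D
  let w : E₀ →ₐ[A] ResidueField D :=
    ((ε : ResidueField E₀ →ₐ[ResidueField A] ResidueField D).restrictScalars A).comp
      (IsScalarTower.toAlgHom A E₀ (ResidueField E₀))
  obtain ⟨h, hh, -⟩ := IndEt.existsUnique_lift_residue (R := A) (T := D) (E := E₀) w
  have hh' : ∀ x, residue D (h x) = ε (residue E₀ x) := hh
  -- surjectivity by Nakayama
  have hsurj : Function.Surjective h := by
    have hmD := map_maximalIdeal_eq A D S
    have h1 : (⊤ : Submodule A D) ≤ LinearMap.range h.toLinearMap := by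
      apply Submodule.le_of_le_smul_of_le_jacobson_bot (I := maximalIdeal A)
        (Module.Finite.fg_top) (IsLocalRing.maximalIdeal_le_jacobson _)
      intro d _
      obtain ⟨y, hy⟩ := ε.surjective (residue D d)
      obtain ⟨x, rfl⟩ := residue_surjective y
      have h2 : d - h x ∈ maximalIdeal D := by
        rw [← Ideal.Quotient.eq_zero_iff_mem]
        change residue D (d - h x) = 0
        rw [map_sub, hh', hy, sub_self]
      rw [← hmD] at h2
      have h3 : d - h x ∈ maximalIdeal A • (⊤ : Submodule A D) := by
        rw [Ideal.smul_top_eq_map]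
        exact h2
      have h4 : d = h x + (d - h x) := by ring
      rw [h4]
      exact Submodule.add_mem_sup ⟨x, rfl⟩ h3
    intro d
    obtain ⟨x, hx⟩ := h1 (Submodule.mem_top : d ∈ ⊤)
    exact ⟨x, hx⟩
  -- injectivity via the strict henselization
  have hinj : Function.Injective h := by
    haveI : Algebra.IsIntegral A E₀ := Algebra.IsIntegral.of_finite A E₀
    have hE₀ : EGA4loc.IsEssentiallyEtale A E₀ :=
      Groth.Agent.Lib.T2H1.FinEtTensor.isEssentiallyEtale_of_etale A E₀
    let h' : E₀ →ₐ[A] S := (IsScalarTower.toAlgHom A D S).comp h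
    haveI : IsLocalHom h'.toRingHom := by
      constructor
      intro x hx
      have h5 : IsUnit (h x) := isUnit_of_map_unit (algebraMap D S) (h x) hx
      by_contra hnx
      have h6 : residue E₀ x = 0 := (residue_eq_zero_iff x).mpr hnx
      have h7 : residue D (h x) = 0 := by rw [hh', h6, map_zero]
      exact ((residue_eq_zero_iff (h x)).mp h7) h5
    have h8 := Groth.Agent.Lib.T2H1.ShInj.injective_of_local A S E₀ hE₀ h'
    exact fun x y hxy => h8 (congrArg (algebraMap D S) hxy)
  exact Algebra.Etale.of_equiv (AlgEquiv.ofBijective h ⟨hinj, hsurj⟩)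

end Etale

section Translate

variable (D : Type u) [CommRing D] [IsLocalRing D]
  (B : Type u) [CommRing B] [Algebra D B] [Algebra.IsIntegral D B]
  (M : Ideal B) [M.IsMaximal]

/-- the composite `D → B → κ(M)` -/
noncomputable abbrev toRes : D →+* M.ResidueField :=
  (algebraMap B M.ResidueField).comp (algebraMap D B)

theorem isUnit_of_toRes_ne_zero (d : D) (hd : toRes D B M d ≠ 0) : IsUnit d := by
  by_contra hnu
  have h1 : d ∈ maximalIdeal D := hnu
  have hmax : (M.comap (algebraMap D B)).IsMaximal :=
    Ideal.isMaximal_comap_of_isIntegral_of_isMaximal (R := D) M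
  rw [← IsLocalRing.eq_maximalIdeal hmax, Ideal.mem_comap] at h1
  exact hd (Ideal.algebraMap_residueField_eq_zero.mpr h1)

theorem mem_closure_range_iff (y : M.ResidueField) :
    y ∈ Subfield.closure (Set.range (toRes D B M)) ↔ y ∈ Set.range (toRes D B M) := by
  constructor
  · intro hy
    let F₀ : Subfield M.ResidueField :=
      { (toRes D B M).range with
        inv_mem' := by
          rintro _ ⟨d, rfl⟩
          by_cases hd : toRes D B M d = 0
          · rw [hd, inv_zero]
            exact ⟨0, map_zero _⟩
          · obtain ⟨u, rfl⟩ := isUnit_of_toRes_ne_zero D B M d hd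
            refine ⟨((u⁻¹ : Dˣ) : D), ?_⟩
            apply eq_inv_of_mul_eq_one_left
            rw [← map_mul, Units.inv_mul, map_one] }
    have hle : Subfield.closure (Set.range (toRes D B M)) ≤ F₀ :=
      Subfield.closure_le.mpr (fun z hz => hz)
    exact hle hy
  · exact fun hy => Subfield.subset_closure hy

theorem isAlgebraic_closure_range :
    Algebra.IsAlgebraic (Subfield.closure (Set.range (toRes D B M))) M.ResidueField := by
  haveI : Algebra.IsIntegral (Subfield.closure (Set.range (toRes D B M))) M.ResidueField := by
    constructor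
    intro y
    obtain ⟨b, rfl⟩ := M.algebraMap_residueField_surjective y
    obtain ⟨P, hPm, hP⟩ := Algebra.IsIntegral.isIntegral (R := D) b
    let g' : D →+* Subfield.closure (Set.range (toRes D B M)) :=
      (toRes D B M).codRestrict _ (fun d => Subfield.subset_closure ⟨d, rfl⟩)
    refine ⟨P.map g', hPm.map g', ?_⟩
    rw [Polynomial.eval₂_map]
    have h1 : (algebraMap (Subfield.closure (Set.range (toRes D B M))) M.ResidueField).comp g' =
        (algebraMap B M.ResidueField).comp (algebraMap D B) := by
      ext d
      rfl
    rw [h1, ← Polynomial.hom_eval₂, hP, map_zero]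
  infer_instance

open Groth.Agent.Lib.Helper4.Unibranch in
/-- Translation: the image of `D` is separably closed in `κ(M)` iff `κ(M)` is purely inseparable
over it, in the `x ^ p ^ n` form. -/
theorem sepClosure_eq_bot_iff :
    separableClosure (Subfield.closure (Set.range
      ((algebraMap B M.ResidueField).comp (algebraMap D B)))) M.ResidueField = ⊥ ↔
    ∀ x : B ⧸ M, ∃ n : ℕ, x ^ (ringExpChar (B ⧸ M)) ^ n ∈
      ((Ideal.Quotient.mk M).comp (algebraMap D B)).range := by
  haveI := isAlgebraic_closure_range D B M
  rw [separableClosure.eq_bot_iff]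
  haveI : IsDomain (B ⧸ M) := Ideal.Quotient.isDomain M
  haveI hp : ExpChar (B ⧸ M) (ringExpChar (B ⧸ M)) := ringExpChar.expChar _
  have hbij := M.bijective_algebraMap_quotient_residueField
  haveI : ExpChar M.ResidueField (ringExpChar (B ⧸ M)) :=
    expChar_of_injective_ringHom hbij.1 _
  rw [isPurelyInseparable_iff_pow_mem (Subfield.closure (Set.range (toRes D B M)))
    (ringExpChar (B ⧸ M))]
  constructor
  · intro h x
    obtain ⟨n, hn⟩ := h (algebraMap (B ⧸ M) M.ResidueField x)
    refine ⟨n, ?_⟩
    obtain ⟨⟨z, hz⟩, hz'⟩ := hn
    obtain ⟨d, hd⟩ := (mem_closure_range_iff D B M z).mp hz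
    refine ⟨d, ?_⟩
    apply hbij.1
    rw [map_pow, ← hz']
    exact hd
  · intro h y
    obtain ⟨x, rfl⟩ := hbij.2 y
    obtain ⟨n, d, hd⟩ := h x
    refine ⟨n, ⟨⟨toRes D B M d, Subfield.subset_closure ⟨d, rfl⟩⟩, ?_⟩⟩
    rw [← map_pow, ← hd]
    rfl

end Translate

section Main

open Groth.Agent.Lib.Helper4.Unibranch

/-- EGA-style criterion: a finite subalgebra `D` of the strict henselization `S` of a henselian
reduced Noetherian local ring `A` is étale over `A` with all minimal primes of `S` extended from
`D` iff the residue fields of the normalization of `D` are purely inseparable over that of `D`. -/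
theorem main (A S : Type u) [CommRing A] [HenselianLocalRing A] [IsReduced A]
    [IsNoetherianRing A]
    [CommRing S] [IsLocalRing S] [Algebra A S] [IsLocalHom (algebraMap A S)]
    [Hensel.IsStrictHenselization A S] (D : Subalgebra A S) [Module.Finite A D] :
    (Algebra.Etale A D ∧
        ∀ Q ∈ minimalPrimes S, Q = Ideal.map (algebraMap D S) (Q.comap (algebraMap D S))) ↔
      ∀ (M : Ideal (integralClosure D (FractionRing D))) [M.IsMaximal],
        separableClosure (Subfield.closure (Set.range
          ((algebraMap (integralClosure D (FractionRing D)) M.ResidueField).comp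
            (algebraMap D (integralClosure D (FractionRing D)))))) M.ResidueField = ⊥ := by
  haveI : IsLocalRing D := isLocalRing_sub A S D
  haveI : IsLocalHom (algebraMap A D) := isLocalHom_algebraMap_sub A S D
  haveI : IsLocalHom (algebraMap D S) := isLocalHom_val_sub A S D
  haveI : IsReduced S := (HzP.sh_isReduced_iff A S).mp inferInstance
  haveI : IsReduced D := isReduced_sub A S D
  haveI : HenselianLocalRing D := Groth.Agent.Lib.Helper24G0.henselian_of_finite A D
  haveI : IsNoetherianRing D := IsNoetherianRing.of_finite A D
  haveI : Hensel.IsHenselization D D := Branch.isHenselization_self D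
  have hRHS : (∀ (M : Ideal (integralClosure D (FractionRing D))) [M.IsMaximal],
        separableClosure (Subfield.closure (Set.range
          ((algebraMap (integralClosure D (FractionRing D)) M.ResidueField).comp
            (algebraMap D (integralClosure D (FractionRing D)))))) M.ResidueField = ⊥) ↔
      PowMem (algebraMap D (integralClosure D (FractionRing D))) := by
    unfold PowMem
    constructor
    · intro h M hM x
      exact (sepClosure_eq_bot_iff D (integralClosure D (FractionRing D)) M).mp (h M) x
    · intro h M hM
      exact (sepClosure_eq_bot_iff D (integralClosure D (FractionRing D)) M).mpr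
        (fun x => h M x)
  rw [hRHS]
  have hinj : Function.Injective (algebraMap D S) := Subtype.val_injective
  constructor
  · rintro ⟨het, hS⟩
    haveI := het
    haveI : Hensel.IsStrictHenselization D S := isStrictHenselization_of_etale A D S
    exact (Groth.Agent.Lib.T2H1.BranchPI.main D D S).mpr hS
  · intro hP
    obtain ⟨T, _, _, _, _, hT⟩ := Branch.exists_isStrictHenselization D
    haveI := hT
    have hTc := (Groth.Agent.Lib.T2H1.BranchPI.main D D T).mp hP
    haveI : Hensel.IsStrictHenselization D S :=
      isStrictHenselization_of_forall A D S T hinj hTc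
    exact ⟨etale_of_isStrictHenselization A D S,
      (Groth.Agent.Lib.T2H1.BranchPI.main D D S).mp hP⟩

end Main

end Groth.Agent.Lib.T2H1.FiniteSub
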