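import Mathlib
import Groth.Prelude.Def_Wider

/-!
# Essential extensions of a residue field (helper5, team 2)

Let `A` be a Noetherian ring, `p` an ideal and `g : K → E` an essential injection of `A`-modules, where the elements
of `p` kill `K` and the elements outside `p` act bijectively on `K` (e.g. `K = κ(p)`), and `E` is injective.  Then

* `smul_bijective`: the elements outside `p` act bijectively on `E`;
* `exists_pow_smul_eq_zero`: every element of `E` is killed by a power of any given element of `p`.
-/
set_option autoImplicit false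
set_option linter.style.haveILetI false
set_option linter.unusedSectionVars false
universe u

namespace Groth.Agent.Lib.T2H5.HullLocal

variable {A : Type u} [CommRing A] {K : Type u} {E : Type u} [AddCommGroup K] [Module A K]
  [AddCommGroup E] [Module A E] {g : K →ₗ[A] E} (hg : InjHull.IsEssentialInj g)

include hg

theorem smul_injective (f : A) (hf : Function.Injective (fun c : K => f • c)) :
    Function.Injective (fun e : E => f • e) := by
  let φ : E →ₗ[A] E := LinearMap.lsmul A E f
  have hker : LinearMap.ker φ = ⊥ := by
    by_contra hne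
    have h1 := hg.essential _ hne
    apply h1
    rw [eq_bot_iff]
    rintro y ⟨hy1, ⟨c, rfl⟩⟩
    have h2 : f • g c = 0 := hy1
    rw [← map_smul] at h2
    have h3 : f • c = 0 := hg.injective (h2.trans (map_zero g).symm)
    have h4 : c = 0 := hf (h3.trans (smul_zero f).symm)
    rw [h4, map_zero]
    exact Submodule.zero_mem _
  exact LinearMap.ker_eq_bot.1 hker

theorem smul_bijective [Module.Injective A E] (f : A) (hf : Function.Bijective (fun c : K => f • c)) :
    Function.Bijective (fun e : E => f • e) := by
  have hinj := smul_injective hg f hf.1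
  refine ⟨hinj, ?_⟩
  let φ : E →ₗ[A] E := LinearMap.lsmul A E f
  -- a retraction `h` of `φ`
  obtain ⟨h, hh⟩ := Module.Injective.extension_property A E E E φ hinj LinearMap.id
  have hh' : ∀ e : E, h (f • e) = e := fun e => LinearMap.congr_fun hh e
  -- `h` is injective
  have hker : LinearMap.ker h = ⊥ := by
    by_contra hne
    have h1 := hg.essential _ hne
    apply h1
    rw [eq_bot_iff]
    rintro y ⟨hy1, ⟨c, rfl⟩⟩
    obtain ⟨c', hc'⟩ := hf.2 c
    have hc'' : f • c' = c := hc'
    have h2 : h (g c) = 0 := hy1
    rw [← hc'', map_smul, hh'] at h2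
    have h3 : c' = 0 := hg.injective (h2.trans (map_zero g).symm)
    rw [← hc'', h3, smul_zero, map_zero]
    exact Submodule.zero_mem _
  have hhinj : Function.Injective h := LinearMap.ker_eq_bot.1 hker
  intro e
  refine ⟨h e, ?_⟩
  apply hhinj
  exact hh' (h e)

theorem exists_pow_smul_eq_zero [IsNoetherianRing A] (f : A) (hf : ∀ c : K, f • c = 0) (e : E) :
    ∃ n : ℕ, f ^ n • e = 0 := by
  -- the ascending chain of annihilators of `f ^ n • e`
  let a : ℕ →o Ideal A :=
    ⟨fun n => (Submodule.span A {f ^ n • e}).annihilator, by
      intro n m hnm r hr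
      rw [Submodule.mem_annihilator_span_singleton] at hr ⊢
      obtain ⟨k, rfl⟩ := Nat.exists_eq_add_of_le hnm
      rw [pow_add, mul_comm, mul_smul, smul_comm, hr, smul_zero]⟩
  obtain ⟨n, hn⟩ := monotone_stabilizes_iff_noetherian.2 inferInstance a
  refine ⟨n, ?_⟩
  by_contra hne
  have hN : Submodule.span A {f ^ n • e} ≠ ⊥ := by
    intro h0
    apply hne
    have : f ^ n • e ∈ Submodule.span A {f ^ n • e} := Submodule.mem_span_singleton_self _
    rw [h0] at this
    exact (Submodule.mem_bot A).1 this
  apply hg.essential _ hN
  rw [eq_bot_iff]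
  rintro y ⟨hy1, ⟨c, rfl⟩⟩
  obtain ⟨r, hr⟩ := Submodule.mem_span_singleton.1 hy1
  have h1 : f • g c = 0 := by rw [← map_smul, hf, map_zero]
  have h2 : r ∈ a (n + 1) := by
    change r ∈ (Submodule.span A {f ^ (n + 1) • e}).annihilator
    rw [Submodule.mem_annihilator_span_singleton, pow_succ, mul_comm, mul_smul, smul_comm, hr, h1]
  have h3 : r ∈ a n := by rw [hn (n + 1) (Nat.le_succ n)]; exact h2
  have h4 : r • f ^ n • e = 0 := (Submodule.mem_annihilator_span_singleton _ _).1 h3
  rw [← hr, h4]
  exact Submodule.zero_mem _

end Groth.Agent.Lib.T2H5.HullLocal
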