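import Mathlib
import Groth.Agent.Lib.Helper1Sky2
import Groth.Agent.Lib.Helper1KBC2

/-!
# Modules which are skyscrapers (helper5, team 2)

* `toSky M x`: the canonical morphism from an `O_X`-module `M` to the skyscraper at `x` with value the stalk `M_x`;
* `isIso_toSky`: it is an isomorphism as soon as the sections of `M` over the opens not containing `x` vanish and
  the germ maps at `x` are bijective;
* `injective_of_sky`: then `M` is an injective `O_X`-module as soon as `M_x` is an injective `O_{X,x}`-module.
-/
set_option autoImplicit false
set_option linter.style.haveILetI false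
set_option linter.unusedSectionVars false
universe u
open CategoryTheory Limits AlgebraicGeometry TopologicalSpace Opposite

namespace Groth.Agent.Lib.T2H5.SkyIso

open Groth.Agent.Lib.Helper1.Sky Groth.Agent.Lib.Helper1.StalkTensor Groth.Agent.Lib.Helper1.KBC

variable {X : Scheme.{u}} (M : X.Modules) (x : X)

/-- the canonical map to the skyscraper at `x` with value the stalk at `x` -/
noncomputable def toSky : M ⟶ skyMod x ((stalkFun x).obj M) :=
  ⟨ofStalk (R := X.presheaf) (x := x) (N := (stalkFun x).obj M) (P := toPM M) LinearMap.id⟩

theorem isIso_toSky (h0 : ∀ U : X.Opens, x ∉ U → Subsingleton (M.val.obj (op U)))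
    (h1 : ∀ (U : X.Opens) (hx : x ∈ U), Function.Bijective (gm (toPM M) x U hx)) :
    IsIso (toSky M x) := by
  rw [Scheme.Modules.Hom.isIso_iff_isIso_app]
  intro U
  refine (ConcreteCategory.isIso_iff_bijective _).2 ?_
  by_cases hx : x ∈ U
  · constructor
    · intro s t hst
      apply (h1 U hx).1
      have h := congrArg (fun w : SkyT X.presheaf x ((stalkFun x).obj M) U => SkyT.ev X.presheaf U w hx) hst
      exact h
    · intro w
      obtain ⟨s, hs⟩ := (h1 U hx).2 (SkyT.ev X.presheaf U w hx)
      refine ⟨s, ?_⟩
      apply SkyT.ext (R := X.presheaf) (U := U)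
      intro hx'
      exact hs
  · have hsub := h0 U hx
    constructor
    · intro s t _
      exact hsub.elim s t
    · intro w
      refine ⟨0, ?_⟩
      apply SkyT.ext (R := X.presheaf) (U := U)
      intro hx'
      exact absurd hx' hx

theorem injective_of_sky (h0 : ∀ U : X.Opens, x ∉ U → Subsingleton (M.val.obj (op U)))
    (h1 : ∀ (U : X.Opens) (hx : x ∈ U), Function.Bijective (gm (toPM M) x U hx))
    (hinj : Injective ((stalkFun x).obj M)) : Injective M := by
  haveI := isIso_toSky M x h0 h1
  haveI := hinj
  have hsky : Injective ((skyFun x).obj ((stalkFun x).obj M)) :=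
    Injective.injective_of_adjoint (stalkSkyAdj x) ((stalkFun x).obj M)
  exact Injective.of_iso (asIso (toSky M x)).symm hsky

end Groth.Agent.Lib.T2H5.SkyIso
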