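import Mathlib
import Groth.Agent.Lib.T2H5SkyIso

/-!
# `E~` is a skyscraper for `E` an injective hull of a residue field (helper5, team 2)

Let `A` be a Noetherian ring, `x` a prime of `A` and `E` an injective `A`-module such that the elements outside `x`
act bijectively on `E` and every element of `E` is killed by a power of each element of `x`.  Then the sections of
`E~` over the opens not containing `x` vanish, the germ maps at `x` are bijective, and `E~` is an injective
`O_{Spec A}`-module (`injective_tilde_of_local`).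
-/
set_option autoImplicit false
set_option linter.style.haveILetI false
set_option linter.unusedSectionVars false
universe u
open CategoryTheory Limits AlgebraicGeometry TopologicalSpace Opposite

namespace Groth.Agent.Lib.T2H5.TildeSky

open Groth.Agent.Lib.Helper1.Sky Groth.Agent.Lib.Helper1.StalkTensor Groth.Agent.Lib.Helper1.KBC

variable (A : Type u) [CommRing A] (E : Type u) [AddCommGroup E] [Module A E]

/-- the scheme `Spec A` -/
noncomputable abbrev X : Scheme.{u} := Spec (CommRingCat.of A)

/-- the module `E~` -/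
noncomputable abbrev T : (X A).Modules := tilde (R := CommRingCat.of A) (ModuleCat.of A E)

variable {A E}

/-- value of a section at a point -/
def ev {U : (X A).Opens} (s : (T A E).val.obj (op U)) (y : U) :
    LocalizedModule (y.1 : PrimeSpectrum A).asIdeal.primeCompl E := s.1 y

theorem ext_ev {U : (X A).Opens} (s t : (T A E).val.obj (op U)) (h : ∀ y : U, ev s y = ev t y) : s = t :=
  Subtype.ext (funext h)

theorem ev_rs {U V : (X A).Opens} (i : V ⟶ U) (s : (T A E).val.obj (op U)) (y : V) :
    ev (rs (toPM (T A E)) i s) y = ev s ⟨y.1, i.le y.2⟩ := rfl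

theorem injective_stalk [IsNoetherianRing A] [Module.Injective A E] (x : X A) :
    Injective ((stalkFun x).obj (T A E)) := by
  have h : Module.Injective ((structurePresheafInCommRingCat A).stalk x)
      ↑(TopCat.Presheaf.stalk (moduleStructurePresheaf A E).presheaf x) :=
    Module.injective_of_isLocalizedModule (S := (x : PrimeSpectrum A).asIdeal.primeCompl)
      (StructureSheaf.toStalkₗ A E x)
  have h' : Module.Injective (Ox x) (St (toPM (T A E)) x) := h
  exact Module.injective_object_of_injective_module (R := Ox x) (M := St (toPM (T A E)) x)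

variable (x : PrimeSpectrum A)
  (ha : ∀ f : A, f ∉ x.asIdeal → Function.Bijective (fun e : E => f • e))
  (hb : ∀ f : A, f ∈ x.asIdeal → ∀ e : E, ∃ n : ℕ, f ^ n • e = 0)

include hb in
theorem subsingleton_localized (y : PrimeSpectrum A) (hy : ¬ x.asIdeal ≤ y.asIdeal) :
    Subsingleton (LocalizedModule y.asIdeal.primeCompl E) := by
  obtain ⟨f, hfx, hfy⟩ := Set.not_subset.1 hy
  have key : ∀ w : LocalizedModule y.asIdeal.primeCompl E, w = 0 := by
    intro w
    induction w using LocalizedModule.induction_on with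
    | h e s =>
      obtain ⟨n, hn⟩ := hb f hfx e
      rw [← LocalizedModule.zero_mk 1, LocalizedModule.mk_eq]
      refine ⟨⟨f ^ n, y.asIdeal.primeCompl.pow_mem hfy n⟩, ?_⟩
      rw [smul_zero, smul_zero, one_smul]
      exact hn
  exact ⟨fun a b => (key a).trans (key b).symm⟩

theorem not_le_of_not_mem {U : (X A).Opens} (hx : (x : X A) ∉ U) (y : U) :
    ¬ x.asIdeal ≤ (y.1 : PrimeSpectrum A).asIdeal := by
  intro hle
  have h1 : x ⤳ (y.1 : PrimeSpectrum A) := (PrimeSpectrum.le_iff_specializes x y.1).1 hle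
  exact hx (h1.mem_open U.2 y.2)

include hb in
theorem h0 (U : (X A).Opens) (hx : (x : X A) ∉ U) : Subsingleton ((T A E).val.obj (op U)) := by
  refine ⟨fun s t => ext_ev s t fun y => ?_⟩
  haveI := subsingleton_localized x hb y.1 (not_le_of_not_mem x hx y)
  exact Subsingleton.elim _ _

include ha hb in
theorem ev_injective (V : (X A).Opens) (hx : (x : X A) ∈ V) (s : (T A E).val.obj (op V))
    (hs : ev s ⟨x, hx⟩ = 0) : s = 0 := by
  apply ext_ev
  intro y
  change ev s y = 0
  by_cases hle : x.asIdeal ≤ (y.1 : PrimeSpectrum A).asIdeal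
  · obtain ⟨W, hyW, i, r, g, hrg⟩ := s.2 y
    have h1 : x ⤳ (y.1 : PrimeSpectrum A) := (PrimeSpectrum.le_iff_specializes x y.1).1 hle
    have hxW : x ∈ W := h1.mem_open W.2 hyW
    obtain ⟨hg1, hg1'⟩ := hrg ⟨x, hxW⟩
    obtain ⟨hg2, hg2'⟩ := hrg ⟨y.1, hyW⟩
    have e1 : LocalizedModule.mk r ⟨g, hg1⟩ = (0 : LocalizedModule x.asIdeal.primeCompl E) :=
      hg1'.symm.trans hs
    rw [← LocalizedModule.zero_mk 1, LocalizedModule.mk_eq] at e1
    obtain ⟨u, hu⟩ := e1
    rw [smul_zero, smul_zero, one_smul] at hu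
    have hr : r = 0 := (ha u.1 u.2).1 (hu.trans (smul_zero u.1).symm)
    have e2 : ev s y = LocalizedModule.mk r ⟨g, hg2⟩ := hg2'
    rw [e2, hr, LocalizedModule.zero_mk]
  · haveI := subsingleton_localized x hb y.1 hle
    exact Subsingleton.elim _ _

include ha in
theorem ev_surjective (U : (X A).Opens) (hx : (x : X A) ∈ U)
    (w : LocalizedModule x.asIdeal.primeCompl E) :
    ∃ s : (T A E).val.obj (op U), ev s ⟨x, hx⟩ = w := by
  induction w using LocalizedModule.induction_on with
  | h e t =>
    obtain ⟨e', he'⟩ := (ha t.1 t.2).2 e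
    have he'' : t.1 • e' = e := he'
    refine ⟨StructureSheaf.toOpenₗ A E U e', ?_⟩
    change LocalizedModule.mk e' _ = _
    rw [LocalizedModule.mk_eq]
    refine ⟨1, ?_⟩
    simp only [Submonoid.smul_def, one_smul]
    exact he''

include ha hb in
theorem h1 (U : (X A).Opens) (hx : (x : X A) ∈ U) :
    Function.Bijective (gm (toPM (T A E)) (x : X A) U hx) := by
  constructor
  · rw [injective_iff_map_eq_zero]
    intro s hs
    have hs' : gm (toPM (T A E)) (x : X A) U hx s = gm (toPM (T A E)) (x : X A) U hx 0 := by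
      rw [hs, map_zero]
    obtain ⟨W, hxW, iU, iV, hres⟩ := gm_eq hx hx s 0 hs'
    rw [map_zero] at hres
    apply ev_injective x ha hb U hx s
    have h2 : ev (rs (toPM (T A E)) iU s) ⟨x, hxW⟩ = 0 := by rw [hres]; rfl
    exact h2
  · intro a
    obtain ⟨W, hxW, t, rfl⟩ := exists_gm_eq a
    obtain ⟨s, hs⟩ := ev_surjective x ha U hx (ev t ⟨x, hxW⟩)
    refine ⟨s, ?_⟩
    have hxUW : (x : X A) ∈ U ⊓ W := ⟨hx, hxW⟩
    have e1 : gm (toPM (T A E)) (x : X A) (U ⊓ W) hxUW
        (rs (toPM (T A E)) (homOfLE inf_le_left : U ⊓ W ⟶ U) s) = gm (toPM (T A E)) (x : X A) U hx s :=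
      gm_rs _ hxUW s
    have e2 : gm (toPM (T A E)) (x : X A) (U ⊓ W) hxUW
        (rs (toPM (T A E)) (homOfLE inf_le_right : U ⊓ W ⟶ W) t) = gm (toPM (T A E)) (x : X A) W hxW t :=
      gm_rs _ hxUW t
    have e3 : rs (toPM (T A E)) (homOfLE inf_le_left : U ⊓ W ⟶ U) s =
        rs (toPM (T A E)) (homOfLE inf_le_right : U ⊓ W ⟶ W) t := by
      rw [← sub_eq_zero]
      apply ev_injective x ha hb (U ⊓ W) hxUW
      change ev (rs (toPM (T A E)) (homOfLE inf_le_left) s) ⟨x, hxUW⟩ -
        ev (rs (toPM (T A E)) (homOfLE inf_le_right) t) ⟨x, hxUW⟩ = 0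
      rw [ev_rs, ev_rs, hs, sub_self]
    exact e1.symm.trans ((congrArg _ e3).trans e2)

include ha hb in
/-- `E~` is an injective `O_{Spec A}`-module -/
theorem injective_tilde_of_local [IsNoetherianRing A] [Module.Injective A E] : Injective (T A E) :=
  Groth.Agent.Lib.T2H5.SkyIso.injective_of_sky (T A E) (x : X A) (h0 x hb) (h1 x ha hb)
    (injective_stalk (x : X A))

end Groth.Agent.Lib.T2H5.TildeSky
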