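import Mathlib
import Groth.Prelude.Def_Wider
import Groth.Agent.Lib.Helper1Sky3
import Groth.Agent.Lib.Helper23QCohLocal
import Groth.Agent.Lib.T2H5HullLocal
import Groth.Agent.Lib.T2H5SkyIso
import Groth.Agent.Lib.T2H5TildeSky

/-!
# The direct image of `E~` along `Spec O_{X,x} ⟶ X` (helper5, team 2)

* `preservesMono_extendScalars`, `injective_restrictScalars_of_flat`: restriction of scalars along a flat ring
  homomorphism preserves injective modules;
* `flat_fromSpecStalk`: `Spec O_{X,x} ⟶ X` is flat;
* `injective_pushforward_hull`: for `X` locally Noetherian and `E` an injective hull of the residue field of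
  `O_{X,x}`, the direct image of `E~` is an injective `O_X`-module (it is a skyscraper module); it is
  quasi-coherent (`isQCoh_pushforward_hull`).
-/
set_option autoImplicit false
set_option linter.style.haveILetI false
set_option linter.unusedSectionVars false
universe u
open CategoryTheory Limits AlgebraicGeometry TopologicalSpace Opposite

namespace Groth.Agent.Lib.T2H5.HullPush

open Groth.Agent.Lib.Helper1.Sky Groth.Agent.Lib.Helper1.StalkTensor Groth.Agent.Lib.Helper1.KBC
open Groth.Agent.Lib.T2H5.TildeSky

theorem preservesMono_extendScalars {S' S : Type u} [CommRing S'] [CommRing S] (φ : S' →+* S) (hφ : φ.Flat) :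
    (ModuleCat.extendScalars.{u, u, u} φ).PreservesMonomorphisms := by
  constructor
  intro M₁ M₂ g hg
  rw [ModuleCat.mono_iff_injective] at hg ⊢
  letI := φ.toAlgebra
  haveI : Module.Flat S' S := hφ
  have h := Module.Flat.lTensor_preserves_injective_linearMap (M := S) g.hom hg
  exact h

theorem injective_restrictScalars_of_flat {S' S : Type u} [CommRing S'] [CommRing S] (φ : S' →+* S)
    (hφ : φ.Flat) (N : ModuleCat.{u} S) [Injective N] : Injective ((ModuleCat.restrictScalars φ).obj N) := by
  haveI := preservesMono_extendScalars φ hφ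
  exact Injective.injective_of_adjoint (ModuleCat.extendRestrictScalarsAdj.{u, u, u} φ) N

theorem flat_fromSpecStalk {X : Scheme.{u}} (x : X) : Flat (X.fromSpecStalk x) := by
  obtain ⟨_, ⟨U : X.Opens, hU, rfl⟩, hxU, -⟩ :=
    X.isBasis_affineOpens.exists_subset_of_mem_open (Set.mem_univ x) isOpen_univ
  rw [← hU.fromSpecStalk_eq_fromSpecStalk hxU, IsAffineOpen.fromSpecStalk]
  haveI : Flat (Spec.map (X.presheaf.germ U x hxU)) := by
    rw [Flat.SpecMap_iff]
    letI := X.presheaf.algebra_section_stalk ⟨x, hxU⟩
    haveI := hU.isLocalization_stalk ⟨x, hxU⟩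
    exact IsLocalization.flat (X.presheaf.stalk x) (hU.primeIdealOf ⟨x, hxU⟩).asIdeal.primeCompl
  infer_instance

section

variable {A : Type u} [CommRing A] [IsLocalRing A] [IsNoetherianRing A]
  {E : Type u} [AddCommGroup E] [Module A E]
  {i : IsLocalRing.ResidueField A →ₗ[A] E} (hi : InjHull.IsInjectiveHull i)

include hi

theorem ha_local (f : A) (hf : f ∉ (IsLocalRing.closedPoint A).asIdeal) :
    Function.Bijective (fun e : E => f • e) := by
  have hu : IsUnit f := by
    by_contra hnu
    exact hf ((IsLocalRing.mem_maximalIdeal f).2 hnu)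
  obtain ⟨u, rfl⟩ := hu
  refine Function.bijective_iff_has_inverse.2 ⟨fun e => (↑u⁻¹ : A) • e, fun e => ?_, fun e => ?_⟩
  · change (↑u⁻¹ : A) • ((u : A) • e) = e
    rw [← mul_smul, Units.inv_mul, one_smul]
  · change (u : A) • ((↑u⁻¹ : A) • e) = e
    rw [← mul_smul, Units.mul_inv, one_smul]

theorem hb_local (f : A) (hf : f ∈ (IsLocalRing.closedPoint A).asIdeal) (e : E) :
    ∃ n : ℕ, f ^ n • e = 0 := by
  refine Groth.Agent.Lib.T2H5.HullLocal.exists_pow_smul_eq_zero hi.toIsEssentialInj f ?_ e
  intro c
  have hf' : f ∈ IsLocalRing.maximalIdeal A := hf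
  rw [Algebra.smul_def]
  have h0 : algebraMap A (IsLocalRing.ResidueField A) f = 0 :=
    (IsLocalRing.residue_eq_zero_iff f).2 hf'
  rw [h0, zero_mul]

/-- `E~` is a skyscraper module at the closed point -/
theorem isIso_toSky_hull :
    IsIso (Groth.Agent.Lib.T2H5.SkyIso.toSky (T A E) (IsLocalRing.closedPoint A : X A)) :=
  Groth.Agent.Lib.T2H5.SkyIso.isIso_toSky (T A E) (IsLocalRing.closedPoint A : X A)
    (h0 (IsLocalRing.closedPoint A) (hb_local hi))
    (h1 (IsLocalRing.closedPoint A) (ha_local hi) (hb_local hi))

/-- the direct image of `E~` along a flat morphism is an injective module -/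
theorem injective_pushforward_tilde_hull {Y : Scheme.{u}} (f : X A ⟶ Y) [Flat f] :
    Injective ((Scheme.Modules.pushforward f).obj (T A E)) := by
  haveI : Module.Injective A E := hi.isInjective
  let x' : X A := IsLocalRing.closedPoint A
  let N : ModuleCat.{u} (Ox x') := (stalkFun x').obj (T A E)
  haveI : Injective N := injective_stalk x'
  haveI := isIso_toSky_hull hi
  let e1 : (Scheme.Modules.pushforward f).obj (T A E) ≅
      (Scheme.Modules.pushforward f).obj (skyMod x' N) :=
    (Scheme.Modules.pushforward f).mapIso (asIso (Groth.Agent.Lib.T2H5.SkyIso.toSky (T A E) x'))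
  let e2 := pushSkyIso f x' N
  haveI : Injective ((resStalk f x').obj N) :=
    injective_restrictScalars_of_flat (f.stalkMap x').hom (Flat.stalkMap f x') N
  have hsky : Injective ((skyFun (f x')).obj ((resStalk f x').obj N)) :=
    Injective.injective_of_adjoint (stalkSkyAdj (f x')) ((resStalk f x').obj N)
  exact Injective.of_iso (e1 ≪≫ e2).symm hsky

end

end Groth.Agent.Lib.T2H5.HullPush
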