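import Mathlib
import Groth.Agent.Lib.Helper1Sky3
import Groth.Agent.Lib.Helper1KBC2
import Groth.Agent.Lib.T2H5StalkIso
import Groth.Agent.Lib.T2H5HullPush

/-!
# Pullback of modules along a flat morphism is exact (helper5, team 2)

For a flat morphism of schemes `f : X ⟶ Y` the pullback functor `f^* : Mod(O_Y) ⥤ Mod(O_X)` (on all modules)
preserves monomorphisms (`mono_pullback_map`) and hence finite limits (`preservesFiniteLimits_pullback`).  The proof
is stalkwise, using `(f^* M)_x ≅ O_{X,x} ⊗_{O_{Y,f x}} M_{f x}` (helper1's `stalkPullbackIso`).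
-/
set_option autoImplicit false
set_option linter.style.haveILetI false
set_option linter.unusedSectionVars false
universe u
open CategoryTheory Limits AlgebraicGeometry TopologicalSpace Opposite

namespace Groth.Agent.Lib.T2H5.FlatPullback

open Groth.Agent.Lib.Helper1.Sky Groth.Agent.Lib.Helper1.StalkTensor Groth.Agent.Lib.Helper1.KBC

theorem mono_of_iso_conj {C : Type*} [Category C] {A A' B B' : C} (eA : A ≅ A') (eB : B ≅ B')
    (L : A ⟶ B) (R : A' ⟶ B') [Mono R] (h : L ≫ eB.hom = eA.hom ≫ R) : Mono L := by
  constructor
  intro Z g k w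
  have h1 : (g ≫ eA.hom) ≫ R = (k ≫ eA.hom) ≫ R := by
    rw [Category.assoc, Category.assoc, ← h, ← Category.assoc, ← Category.assoc, w]
  have h2 := (cancel_mono R).1 h1
  exact (cancel_mono eA.hom).1 h2

variable {X Y : Scheme.{u}} (f : X ⟶ Y) [Flat f]

theorem mono_pullback_map {A B : Y.Modules} (ψ : A ⟶ B) [Mono ψ] :
    Mono ((Scheme.Modules.pullback f).map ψ) := by
  apply Groth.Agent.Lib.T2H5.StalkIso.mono_of_forall_stalk
  intro x
  have hpm := Groth.Agent.Lib.T2H5.HullPush.preservesMono_extendScalars (f.stalkMap x).hom (Flat.stalkMap f x)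
  have hsm : (stalkFun (f x)).PreservesMonomorphisms := inferInstance
  have m1 : Mono ((stalkFun (f x)).map ψ) := hsm.preserves ψ
  have m2 : Mono ((ModuleCat.extendScalars.{u, u, u} (f.stalkMap x).hom).map ((stalkFun (f x)).map ψ)) :=
    hpm.preserves _
  haveI := m2
  exact mono_of_iso_conj ((stalkPullbackIso f x).app A) ((stalkPullbackIso f x).app B)
    ((stalkFun x).map ((Scheme.Modules.pullback f).map ψ))
    ((ModuleCat.extendScalars.{u, u, u} (f.stalkMap x).hom).map ((stalkFun (f x)).map ψ))
    ((stalkPullbackIso f x).hom.naturality ψ)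

instance preservesMonomorphisms_pullback : (Scheme.Modules.pullback f).PreservesMonomorphisms :=
  ⟨fun ψ _ => mono_pullback_map f ψ⟩

instance preservesFiniteColimits_pullback : PreservesFiniteColimits (Scheme.Modules.pullback f) := by
  haveI : PreservesColimitsOfSize.{0, 0} (Scheme.Modules.pullback f) :=
    (Scheme.Modules.pullbackPushforwardAdjunction f).leftAdjoint_preservesColimits
  exact ⟨fun _ _ _ => inferInstance⟩

attribute [local instance] preservesBinaryBiproducts_of_preservesBinaryCoproducts in
instance additive_pullback : (Scheme.Modules.pullback f).Additive :=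
  Functor.additive_of_preservesBinaryBiproducts _

theorem preservesFiniteLimits_pullback : PreservesFiniteLimits (Scheme.Modules.pullback f) := by
  refine ((Scheme.Modules.pullback f).preservesFiniteLimits_tfae.out 0 3).1 ?_
  intro S hS
  haveI := hS.mono_f
  haveI := hS.epi_g
  refine ⟨?_, inferInstanceAs (Mono ((Scheme.Modules.pullback f).map S.f))⟩
  exact (hS.exact.map_of_epi_of_preservesCokernel (Scheme.Modules.pullback f) inferInstance inferInstance)

end Groth.Agent.Lib.T2H5.FlatPullback
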