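import Mathlib
import Groth.Prelude.Def_DTor2
import Groth.Agent.Lib.T2H1TorAmpQCoh
import Groth.Agent.Lib.T2H5FlatPullback
import Groth.Agent.Lib.Helper1CI7
import Groth.Agent.Lib.Helper1CI4
import Groth.Agent.Lib.Helper1KBC6
import Groth.Agent.Lib.Helper1PT4
import Groth.Agent.S0960
set_option backward.isDefEq.respectTransparency.types false

/-!
# Tor amplitude descends along flat surjective morphisms (helper1, second team)
-/

set_option autoImplicit false
set_option linter.style.haveILetI false
universe u
open CategoryTheory CategoryTheory.Limits AlgebraicGeometry HomologicalComplex ZeroObject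

attribute [local instance] HasDerivedCategory.standard

namespace Groth.Agent.Lib.T2H1.FlatAmpDescend

open Groth.Agent.Lib.Helper1.BKF Groth.Agent.Lib.Helper1.CI Groth.Agent.Lib.Helper1.Sky
  Groth.Agent.Lib.Helper1.KBC Groth.Agent.Lib.Helper1.StalkTensor Groth.Agent.Lib.Helper1.PT
  Groth.Agent.Lib.T2H1.TorAmpQCoh

section Algebra

/-- extension of scalars along a flat local homomorphism of local rings reflects zero objects -/
theorem isZero_of_isZero_extendScalars {S' S : Type u} [CommRing S'] [CommRing S]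
    [IsLocalRing S'] [IsLocalRing S] (φ : S' →+* S) (hφ : φ.Flat) [IsLocalHom φ]
    (M : ModuleCat.{u} S') (h : IsZero ((ModuleCat.extendScalars.{u, u, u} φ).obj M)) :
    IsZero M := by
  letI := φ.toAlgebra
  haveI : Module.Flat S' S := hφ
  haveI : IsLocalHom (algebraMap S' S) := ‹IsLocalHom φ›
  haveI : Module.FaithfullyFlat S' S := Module.FaithfullyFlat.of_flat_of_isLocalHom
  haveI hs : Subsingleton (TensorProduct S' S M) := ModuleCat.subsingleton_of_isZero h
  haveI : Subsingleton M := Module.FaithfullyFlat.lTensor_reflects_triviality S' S M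
  exact ModuleCat.isZero_of_subsingleton M

end Algebra

section Conservative

variable {X Y : Scheme.{u}} (f : X ⟶ Y) [Flat f] [Surjective f]

/-- pullback along a flat surjective morphism reflects zero objects -/
theorem isZero_of_isZero_pullback (M : Y.Modules)
    (h : IsZero ((Scheme.Modules.pullback f).obj M)) : IsZero M := by
  apply isZero_of_forall_isZero_stalk
  intro y
  obtain ⟨x, rfl⟩ := f.surjective y
  have h1 : IsZero ((ModuleCat.extendScalars.{u, u, u} (f.stalkMap x).hom).obj
      ((stalkFun (f x)).obj M)) :=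
    IsZero.of_iso ((stalkFun x).map_isZero h) ((stalkPullbackIso f x).app M).symm
  exact isZero_of_isZero_extendScalars (f.stalkMap x).hom (Flat.stalkMap f x) _ h1

end Conservative

section Main

variable {X Y : Scheme.{u}} (f : X ⟶ Y)

/-- the pullback of a termwise tensor product -/
noncomputable def pullTtwIso (G : Y.Modules) (P : CochainComplex Y.Modules ℤ) :
    (pullC f).obj ((Ttw G).obj P) ≅ (Ttw ((plb f).obj G)).obj ((pullC f).obj P) :=
  HomologicalComplex.Hom.isoOfComponents (fun n => ((pullTensorIso f).app (P.X n)).app G)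
    (fun n m _ => (congr_app ((pullTensorIso f).hom.naturality (P.d n m)) G).symm)

variable [Flat f] [Surjective f] [DCoh.HasLpull f]

/-- a K-flat representative -/
lemma exists_kflat_rep (E : DCoh.D Y) :
    ∃ P : CochainComplex Y.Modules ℤ, DCoh.IsKFlat P ∧ Nonempty (E ≅ DCoh.toD Y P) := by
  let F0 := (DerivedCategory.Q (C := Y.Modules)).objPreimage E
  have e0 : DerivedCategory.Q.obj F0 ≅ E := (DerivedCategory.Q (C := Y.Modules)).objObjPreimageIso E
  obtain ⟨P, q, hP, -, hq, -⟩ := exists_kflat_flat_resolution (O := Y.sheaf) F0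
  haveI : IsIso (DerivedCategory.Q.map q) := by
    rw [DerivedCategory.isIso_Q_map_iff_quasiIso]; exact hq
  exact ⟨P, hP, ⟨e0.symm ≪≫ (asIso (DerivedCategory.Q.map q)).symm⟩⟩

/-- tor amplitude (derived tensor form) descends along flat surjective morphisms -/
theorem hasTorAmplitudeIn_of_Lpull (E : DCoh.D Y) (a b : ℤ)
    (h : DCoh.HasTorAmplitudeIn a b ((DCoh.Lpull f).obj E)) : DCoh.HasTorAmplitudeIn a b E := by
  intro G _ i hi
  obtain ⟨P, hP, ⟨eK⟩⟩ := exists_kflat_rep E
  have key1 : DCoh.HD ((DCoh.LTensorMod G).obj E) i ≅ ((Ttw G).obj P).homology i :=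
    (DerivedCategory.homologyFunctor Y.Modules i).mapIso ((DCoh.LTensorMod G).mapIso eK) ≪≫
      HDltmIso G P hP i
  refine IsZero.of_iso ?_ key1
  apply isZero_of_isZero_pullback f
  haveI := Groth.Agent.Lib.T2H5.FlatPullback.preservesFiniteLimits_pullback f
  have e1 : (plb f).obj (((Ttw G).obj P).homology i) ≅
      ((pullC f).obj ((Ttw G).obj P)).homology i :=
    ((((Ttw G).obj P).sc i).mapHomologyIso (plb f)).symm
  refine IsZero.of_iso ?_ (e1 ≪≫
    (HomologicalComplex.homologyFunctor _ _ i).mapIso (pullTtwIso f G P))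
  have hfP : DCoh.IsKFlat ((pullC f).obj P) := Groth.Agent.S0960.isKFlat_pullC f P hP
  haveI : DCoh.HasLTensorMod ((plb f).obj G) := hasLTensorMod _
  have e2 : (DCoh.Lpull f).obj E ≅ DCoh.toD X ((pullC f).obj P) :=
    (DCoh.Lpull f).mapIso eK ≪≫ lpullIsoK f P hP
  have h0 := h ((plb f).obj G) i hi
  exact IsZero.of_iso h0 ((HDltmIso ((plb f).obj G) _ hfP i).symm ≪≫
    (DerivedCategory.homologyFunctor X.Modules i).mapIso
      ((DCoh.LTensorMod ((plb f).obj G)).mapIso e2.symm))

/-- an object whose derived pullback along a flat surjective morphism vanishes is zero -/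
theorem isZero_of_isZero_Lpull (E : DCoh.D Y)
    (h : ∀ i : ℤ, IsZero (DCoh.HD ((DCoh.Lpull f).obj E) i)) : IsZero E := by
  obtain ⟨P, hP, ⟨eK⟩⟩ := exists_kflat_rep E
  haveI := Groth.Agent.Lib.T2H5.FlatPullback.preservesFiniteLimits_pullback f
  have e2 : (DCoh.Lpull f).obj E ≅ DCoh.toD X ((pullC f).obj P) :=
    (DCoh.Lpull f).mapIso eK ≪≫ lpullIsoK f P hP
  have hac : ∀ i : ℤ, IsZero (P.homology i) := fun i => by
    apply isZero_of_isZero_pullback f
    have e1 : (plb f).obj (P.homology i) ≅ ((pullC f).obj P).homology i :=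
      ((P.sc i).mapHomologyIso (plb f)).symm
    refine IsZero.of_iso (h i) (e1 ≪≫
      ((DerivedCategory.homologyFunctorFactors X.Modules i).app ((pullC f).obj P)).symm ≪≫
      (DerivedCategory.homologyFunctor X.Modules i).mapIso e2.symm)
  haveI : QuasiIso (0 : (0 : CochainComplex Y.Modules ℤ) ⟶ P) := ⟨fun i => by
    rw [quasiIsoAt_iff_isIso_homologyMap]
    exact isIso_of_source_target_iso_zero _
      (IsZero.isoZero (Functor.map_isZero (HomologicalComplex.homologyFunctor _ _ i) (isZero_zero _)))
      (hac i).isoZero⟩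
  haveI : IsIso (DerivedCategory.Q.map (0 : (0 : CochainComplex Y.Modules ℤ) ⟶ P)) := by
    rw [DerivedCategory.isIso_Q_map_iff_quasiIso]; infer_instance
  exact IsZero.of_iso (Functor.map_isZero DerivedCategory.Q (isZero_zero _))
    (eK ≪≫ (asIso (DerivedCategory.Q.map (0 : (0 : CochainComplex Y.Modules ℤ) ⟶ P))).symm)

/-- tor amplitude (flat representative form) descends along flat surjective morphisms -/
theorem hasFlatAmplitudeIn_of_Lpull (E : DCoh.D Y) (a b : ℤ)
    (h : DCoh.HasFlatAmplitudeIn a b ((DCoh.Lpull f).obj E)) : DCoh.HasFlatAmplitudeIn a b E := by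
  by_cases hab : a ≤ b
  · exact hasFlatAmplitudeIn_of_hasTorAmplitudeIn E a b hab (fun G => hasLTensorMod G)
      (hasTorAmplitudeIn_of_Lpull f E a b (hasTorAmplitudeIn_of_hasFlatAmplitudeIn a b h))
  · have hE : IsZero E := by
      apply isZero_of_isZero_Lpull f
      intro i
      obtain ⟨E', hE', -, ⟨e⟩⟩ := h
      refine IsZero.of_iso ?_ ((DerivedCategory.homologyFunctor X.Modules i).mapIso e.symm ≪≫
        (DerivedCategory.homologyFunctorFactors X.Modules i).app E')
      exact isZero_homology_of_isZero_X E' i (hE' i (by omega))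
    refine ⟨0, fun i _ => Functor.map_isZero (HomologicalComplex.eval _ _ i) (isZero_zero _),
      fun i => flatMod_isFlat_of_isZero _
        (Functor.map_isZero (HomologicalComplex.eval _ _ i) (isZero_zero _)), ⟨?_⟩⟩
    exact (Functor.map_isZero DerivedCategory.Q (isZero_zero _)).iso hE

end Main

end Groth.Agent.Lib.T2H1.FlatAmpDescend
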