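import Mathlib
import Groth.Agent.Lib.T2H1FlatLocusSp
import Groth.Agent.Lib.Helper12OpenSub
import Groth.Agent.Lib.Helper12OpenSub2
import Groth.Agent.S9959
import Groth.Agent.S9961
import Groth.Agent.S9962

/-!
# The image of the flat locus is open (helper1)
-/

set_option autoImplicit false
set_option linter.unusedVariables false
set_option linter.unusedSectionVars false
set_option linter.style.haveILetI false
universe u
open CategoryTheory CategoryTheory.Limits AlgebraicGeometry
open AlgSp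

namespace Groth.Agent.Lib.T2H1.FlatLocusSp

open Groth.Agent.Lib.Helper12 Groth.Agent.Lib.Helper12.LocPCases

variable {S : Scheme.{u}}

/-- the restriction of `f` to an open subspace contained in the flat locus is flat. -/
theorem locP_flat_of_range_subset {X₀ X Y : AlgSp.Sp S} (ι : X₀ ⟶ X)
    (hι : AlgSp.RepWith @IsOpenImmersion ι) (f : X ⟶ Y)
    (hr : Set.range (AlgSp.Points.map ι) ⊆ {x | AlgSp.IsFlatAtMor f x}) :
    AlgSp.LocP @Flat (ι ≫ f) := by
  have hιe : AlgSp.RepWith @Etale ι :=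
    OpenSub.repWith_mono (fun _ _ g hg => by haveI : IsOpenImmersion g := hg; infer_instance) hι
  intro U V a b h ha hb hab
  rw [Flat.iff_flat_stalkMap]
  intro u
  have hmem : AlgSp.Points.ofPt (a ≫ ι) u ∈ {x | AlgSp.IsFlatAtMor f x} :=
    hr ⟨AlgSp.Points.ofPt a u, rfl⟩
  exact hmem (a ≫ ι) b h u ((AlgSp.RepWith @Etale).comp_mem _ _ ha hιe) hb
    (by rw [Category.assoc]; exact hab) rfl

/-- the image of the flat locus is open. -/
theorem isOpen_image_flatLocus {X Y Z : AlgSp.Space S} (f : X ⟶ Y) (q : Y ⟶ Z)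
    (hfp : AlgSp.LocP @LocallyOfFinitePresentation (f ≫ q).hom)
    (hfl : AlgSp.LocP @Flat (f ≫ q).hom) (hft : AlgSp.LocP @LocallyOfFiniteType q.hom) :
    IsOpen (AlgSp.Points.map f.hom '' {x | AlgSp.IsFlatAtMor f.hom x}) := by
  have hopen := isOpen_flatLocus X.property Y.property Z.property f.hom q.hom hfp hfl hft
  let X₀ : AlgSp.Space S := ⟨OpenSub.obj X.obj _, OpenSub.isAlgSpace_obj X.property hopen⟩
  let ι : X₀ ⟶ X := ObjectProperty.homMk (OpenSub.incl X.obj _)
  have hι : AlgSp.RepWith @IsOpenImmersion ι.hom := OpenSub.repWith_incl hopen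
  have hrange : Set.range (AlgSp.Points.map ι.hom) = {x | AlgSp.IsFlatAtMor f.hom x} :=
    OpenSub.range_map_incl _
  have h1 : AlgSp.LocP @Flat (ι ≫ f).hom :=
    locP_flat_of_range_subset ι.hom hι f.hom hrange.le
  have h2 : AlgSp.LocP @LocallyOfFinitePresentation f.hom := Groth.Agent.S9959.result f q hfp hft
  have h3 : AlgSp.LocP @LocallyOfFinitePresentation (ι ≫ f).hom :=
    good_lfp.locP_comp X.property Y.property ι.hom f.hom (Groth.Agent.S9961.result ι hι) h2
  have h4 : AlgSp.IsUnivOpenMor (ι ≫ f).hom := Groth.Agent.S9962.result (ι ≫ f) h1 h3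
  have h5 : IsOpenMap (AlgSp.Points.map (ι ≫ f).hom) :=
    h4 Y.property (𝟙 Y.obj) (𝟙 X₀.obj) (ι ≫ f).hom IsPullback.of_id_fst
  have h6 := h5.isOpen_range
  have h7 : Set.range (AlgSp.Points.map (ι ≫ f).hom) =
      AlgSp.Points.map f.hom '' {x | AlgSp.IsFlatAtMor f.hom x} := by
    rw [← hrange]
    ext y
    constructor
    · rintro ⟨x, rfl⟩
      exact ⟨AlgSp.Points.map ι.hom x, ⟨x, rfl⟩, (AlgSp.Points.map_comp _ _ _).symm⟩
    · rintro ⟨_, ⟨x, rfl⟩, rfl⟩
      exact ⟨x, AlgSp.Points.map_comp _ _ _⟩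
  rw [← h7]
  exact h6

end Groth.Agent.Lib.T2H1.FlatLocusSp
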