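import Mathlib
import Groth.Prelude.Def_AlgSpInf
import Groth.Agent.Lib.T2H1AffCharts

/-!
# Gluing lifts along a representable map into an algebraic space, chart by chart (helper1)
-/

set_option autoImplicit false
universe u
open CategoryTheory CategoryTheory.Limits AlgebraicGeometry Opposite
open AlgSp

namespace Groth.Agent.Lib.T2H1.Descend

variable {S : Scheme.{u}}

/-- maps from a representable sheaf to a sheaf agreeing on an affine open cover agree. -/
lemma hom_ext_of_affineCover {X : AlgSp.Sp S} {R : Over S} (x y : (AlgSp.yon S).obj R ⟶ X)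
    (h : ∀ i : R.left.affineCover.I₀,
      (AlgSp.yon S).map (Over.homMk (R.left.affineCover.f i) rfl :
        Over.mk (R.left.affineCover.f i ≫ R.hom) ⟶ R) ≫ x =
      (AlgSp.yon S).map (Over.homMk (R.left.affineCover.f i) rfl :
        Over.mk (R.left.affineCover.f i ≫ R.hom) ⟶ R) ≫ y) : x = y := by
  let 𝒰 := R.left.affineCover
  let W : 𝒰.I₀ → Over S := fun i => Over.mk (𝒰.f i ≫ R.hom)
  let w : ∀ i, W i ⟶ R := fun i => Over.homMk (𝒰.f i) rfl
  have hcov : Sieve.generate (Presieve.ofArrows W w) ∈ AlgSp.J S R := by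
    apply generate_ofArrows_mem_J
    exact Scheme.zariskiPrecoverage_le_fppfPrecoverage _ 𝒰.mem₀
  refine hom_ext_of_sieve x y _ hcov ?_
  rintro Z' g ⟨Z'', g', _, ⟨i⟩, rfl⟩
  rw [Functor.map_comp, Category.assoc, Category.assoc]
  congr 1
  exact h i

section Lift

variable {T T' X Y : AlgSp.Sp S} (j : T ⟶ T') (f : X ⟶ Y) (a : T ⟶ X) (b : T' ⟶ Y)

/-- `l` is a lift of the square `(j, f, a, b)` over the chart `β`. -/
def IsLocLift {V : Over S} (β : (AlgSp.yon S).obj V ⟶ T') (l : (AlgSp.yon S).obj V ⟶ X) : Prop :=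
  l ≫ f = β ≫ b ∧ ∀ ⦃Q : AlgSp.Sp S⦄ (q1 : Q ⟶ T) (q2 : Q ⟶ (AlgSp.yon S).obj V),
    q1 ≫ j = q2 ≫ β → q2 ≫ l = q1 ≫ a

variable {j f a b}

lemma IsLocLift.restrict {V V' : Over S} {β : (AlgSp.yon S).obj V ⟶ T'}
    {l : (AlgSp.yon S).obj V ⟶ X} (h : IsLocLift j f a b β l) (g : V' ⟶ V) :
    IsLocLift j f a b ((AlgSp.yon S).map g ≫ β) ((AlgSp.yon S).map g ≫ l) := by
  refine ⟨by rw [Category.assoc, h.1, Category.assoc], fun Q q1 q2 hq => ?_⟩
  rw [← Category.assoc]
  exact h.2 q1 (q2 ≫ (AlgSp.yon S).map g) (by rw [hq, Category.assoc])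

lemma IsLocLift.of_global {L : T' ⟶ X} (h1 : j ≫ L = a) (h2 : L ≫ f = b) {V : Over S}
    (β : (AlgSp.yon S).obj V ⟶ T') : IsLocLift j f a b β (β ≫ L) := by
  refine ⟨by rw [Category.assoc, h2], fun Q q1 q2 hq => ?_⟩
  rw [← Category.assoc, ← hq, Category.assoc, h1]

lemma isLocLift_iff_of_isPullback {V : Over S} {β : (AlgSp.yon S).obj V ⟶ T'} {P : AlgSp.Sp S}
    {fst : P ⟶ T} {snd : P ⟶ (AlgSp.yon S).obj V} (sq : IsPullback fst snd j β)
    (l : (AlgSp.yon S).obj V ⟶ X) :
    IsLocLift j f a b β l ↔ snd ≫ l = fst ≫ a ∧ l ≫ f = β ≫ b := by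
  constructor
  · intro h
    exact ⟨h.2 fst snd sq.w, h.1⟩
  · rintro ⟨h1, h2⟩
    refine ⟨h2, fun Q q1 q2 hq => ?_⟩
    have e1 : sq.lift q1 q2 hq ≫ fst = q1 := sq.lift_fst _ _ _
    have e2 : sq.lift q1 q2 hq ≫ snd = q2 := sq.lift_snd _ _ _
    rw [← e2, Category.assoc, h1, ← Category.assoc, e1]

include j f a b in
/-- uniqueness of global lifts from uniqueness on affine étale charts. -/
theorem lift_unique_of_charts (hT' : AlgSp.IsAlgSpace T')
    (hu : ∀ (c : AffChart T') (l l' : (AlgSp.yon S).obj c.V ⟶ X),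
      IsLocLift j f a b c.β l → IsLocLift j f a b c.β l' → l = l')
    (L L' : T' ⟶ X) (h1 : j ≫ L = a) (h2 : L ≫ f = b) (h3 : j ≫ L' = a) (h4 : L' ≫ f = b) :
    L = L' :=
  hom_ext_of_isCovFam (isCovFam_affChart hT') L L' (fun c =>
    hu c _ _ (IsLocLift.of_global h1 h2 c.β) (IsLocLift.of_global h3 h4 c.β))

include j f a b in
/-- existence and uniqueness of global lifts from existence and uniqueness on affine étale
charts. -/
theorem lift_existsUnique_of_charts (hT' : AlgSp.IsAlgSpace T')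
    (he : ∀ c : AffChart T', ∃! l : (AlgSp.yon S).obj c.V ⟶ X, IsLocLift j f a b c.β l) :
    ∃! L : T' ⟶ X, j ≫ L = a ∧ L ≫ f = b := by
  have hu : ∀ (c : AffChart T') (l l' : (AlgSp.yon S).obj c.V ⟶ X),
      IsLocLift j f a b c.β l → IsLocLift j f a b c.β l' → l = l' :=
    fun c l l' h h' => (he c).unique h h'
  choose l hl using fun c => (he c).exists
  have hcov := isCovFam_affChart hT'
  have hcompat : ∀ (Z : Over S) (c1 c2 : AffChart T') (v1 : Z ⟶ c1.V) (v2 : Z ⟶ c2.V),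
      (AlgSp.yon S).map v1 ≫ c1.β = (AlgSp.yon S).map v2 ≫ c2.β →
        (AlgSp.yon S).map v1 ≫ l c1 = (AlgSp.yon S).map v2 ≫ l c2 := by
    intro Z c1 c2 v1 v2 hv
    obtain ⟨R, r1, p2', sq⟩ := c2.et.1 c1.β
    obtain ⟨r2, rfl⟩ := (AlgSp.yon S).map_surjective p2'
    haveI : Etale r1.left := c2.et.2 _ _ r1 sq
    have key : (AlgSp.yon S).map r1 ≫ l c1 = (AlgSp.yon S).map r2 ≫ l c2 := by
      refine hom_ext_of_affineCover _ _ (fun i => ?_)
      let ι : Over.mk (R.left.affineCover.f i ≫ R.hom) ⟶ R :=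
        Over.homMk (R.left.affineCover.f i) rfl
      let c : AffChart T' :=
        { V := Over.mk (R.left.affineCover.f i ≫ R.hom)
          β := (AlgSp.yon S).map (ι ≫ r1) ≫ c1.β
          aff := inferInstanceAs (IsAffine (Spec _))
          et := (AlgSp.RepWith @Etale).comp_mem _ _
            ((AlgSp.repWith_yon_map_iff @Etale _).2 (by
              change Etale (R.left.affineCover.f i ≫ r1.left)
              infer_instance)) c1.et }
      have hβ : c.β = (AlgSp.yon S).map (ι ≫ r2) ≫ c2.β := by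
        change (AlgSp.yon S).map (ι ≫ r1) ≫ c1.β = _
        rw [Functor.map_comp, Functor.map_comp, Category.assoc, Category.assoc, sq.w]
      have e1 : IsLocLift j f a b c.β ((AlgSp.yon S).map (ι ≫ r1) ≫ l c1) := (hl c1).restrict _
      have e2 : IsLocLift j f a b c.β ((AlgSp.yon S).map (ι ≫ r2) ≫ l c2) := by
        rw [hβ]
        exact (hl c2).restrict _
      have := hu c _ _ e1 e2
      rw [Functor.map_comp, Functor.map_comp, Category.assoc, Category.assoc] at this
      exact this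
    have e1 : sq.lift ((AlgSp.yon S).map v2) ((AlgSp.yon S).map v1) hv.symm ≫ (AlgSp.yon S).map r2 =
        (AlgSp.yon S).map v2 := sq.lift_fst _ _ _
    have e2 : sq.lift ((AlgSp.yon S).map v2) ((AlgSp.yon S).map v1) hv.symm ≫ (AlgSp.yon S).map r1 =
        (AlgSp.yon S).map v1 := sq.lift_snd _ _ _
    calc (AlgSp.yon S).map v1 ≫ l c1
        = (sq.lift ((AlgSp.yon S).map v2) ((AlgSp.yon S).map v1) hv.symm ≫
            (AlgSp.yon S).map r1) ≫ l c1 := by rw [e2]
      _ = (sq.lift ((AlgSp.yon S).map v2) ((AlgSp.yon S).map v1) hv.symm ≫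
            (AlgSp.yon S).map r2) ≫ l c2 := by rw [Category.assoc, key, Category.assoc]
      _ = (AlgSp.yon S).map v2 ≫ l c2 := by rw [e1]
  obtain ⟨L, hL⟩ := exists_desc_of_isCovFam hcov l hcompat
  have hL1 : j ≫ L = a := by
    refine hom_ext_of_points _ _ (fun Z t => ?_)
    refine hom_ext_of_sieve _ _ _ (hcov Z (t ≫ j)) ?_
    rintro Z' g ⟨c, v, hv⟩
    have h5 := (hl c).2 ((AlgSp.yon S).map g ≫ t) ((AlgSp.yon S).map v)
      (by rw [Category.assoc]; exact hv)
    calc (AlgSp.yon S).map g ≫ t ≫ j ≫ L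
        = ((AlgSp.yon S).map g ≫ t ≫ j) ≫ L := by simp only [Category.assoc]
      _ = ((AlgSp.yon S).map v ≫ c.β) ≫ L := by rw [hv]
      _ = (AlgSp.yon S).map v ≫ l c := by rw [Category.assoc, hL c]
      _ = (AlgSp.yon S).map g ≫ t ≫ a := by rw [h5, Category.assoc]
  have hL2 : L ≫ f = b := by
    refine hom_ext_of_isCovFam hcov _ _ (fun c => ?_)
    rw [← Category.assoc, hL c, (hl c).1]
  exact ⟨L, ⟨hL1, hL2⟩, fun L' h' => lift_unique_of_charts hT' hu L' L h'.1 h'.2 hL1 hL2⟩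

end Lift

end Groth.Agent.Lib.T2H1.Descend

namespace Groth.Agent.Lib.T2H1.Descend

universe w

variable {S : Scheme.{u}}

section LiftCov

variable {T T' X Y : AlgSp.Sp S} {j : T ⟶ T'} {f : X ⟶ Y} {a : T ⟶ X} {b : T' ⟶ Y}

include j f a b in
/-- existence of a global lift from local lifts on a covering family of étale charts, given
uniqueness of local lifts on affine étale charts. -/
theorem lift_exists_of_covFam
    (hu : ∀ (c : AffChart T') (l l' : (AlgSp.yon S).obj c.V ⟶ X),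
      IsLocLift j f a b c.β l → IsLocLift j f a b c.β l' → l = l')
    {K : Type w} (V : K → Over S) (β : ∀ k, (AlgSp.yon S).obj (V k) ⟶ T')
    (hβ : ∀ k, AlgSp.RepWith @Etale (β k)) (hcov : IsCovFam V β)
    (l : ∀ k, (AlgSp.yon S).obj (V k) ⟶ X) (hl : ∀ k, IsLocLift j f a b (β k) (l k)) :
    ∃ L : T' ⟶ X, j ≫ L = a ∧ L ≫ f = b := by
  have hcompat : ∀ (Z : Over S) (c1 c2 : K) (v1 : Z ⟶ V c1) (v2 : Z ⟶ V c2),
      (AlgSp.yon S).map v1 ≫ β c1 = (AlgSp.yon S).map v2 ≫ β c2 →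
        (AlgSp.yon S).map v1 ≫ l c1 = (AlgSp.yon S).map v2 ≫ l c2 := by
    intro Z c1 c2 v1 v2 hv
    obtain ⟨R, r1, p2', sq⟩ := (hβ c2).1 (β c1)
    obtain ⟨r2, rfl⟩ := (AlgSp.yon S).map_surjective p2'
    haveI : Etale r1.left := (hβ c2).2 _ _ r1 sq
    have key : (AlgSp.yon S).map r1 ≫ l c1 = (AlgSp.yon S).map r2 ≫ l c2 := by
      refine hom_ext_of_affineCover _ _ (fun i => ?_)
      let ι : Over.mk (R.left.affineCover.f i ≫ R.hom) ⟶ R :=
        Over.homMk (R.left.affineCover.f i) rfl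
      let c : AffChart T' :=
        { V := Over.mk (R.left.affineCover.f i ≫ R.hom)
          β := (AlgSp.yon S).map (ι ≫ r1) ≫ β c1
          aff := inferInstanceAs (IsAffine (Spec _))
          et := (AlgSp.RepWith @Etale).comp_mem _ _
            ((AlgSp.repWith_yon_map_iff @Etale _).2 (by
              change Etale (R.left.affineCover.f i ≫ r1.left)
              infer_instance)) (hβ c1) }
      have hβ' : c.β = (AlgSp.yon S).map (ι ≫ r2) ≫ β c2 := by
        change (AlgSp.yon S).map (ι ≫ r1) ≫ β c1 = _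
        rw [Functor.map_comp, Functor.map_comp, Category.assoc, Category.assoc, sq.w]
      have e1 : IsLocLift j f a b c.β ((AlgSp.yon S).map (ι ≫ r1) ≫ l c1) := (hl c1).restrict _
      have e2 : IsLocLift j f a b c.β ((AlgSp.yon S).map (ι ≫ r2) ≫ l c2) := by
        rw [hβ']
        exact (hl c2).restrict _
      have := hu c _ _ e1 e2
      rw [Functor.map_comp, Functor.map_comp, Category.assoc, Category.assoc] at this
      exact this
    have e1 : sq.lift ((AlgSp.yon S).map v2) ((AlgSp.yon S).map v1) hv.symm ≫ (AlgSp.yon S).map r2 =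
        (AlgSp.yon S).map v2 := sq.lift_fst _ _ _
    have e2 : sq.lift ((AlgSp.yon S).map v2) ((AlgSp.yon S).map v1) hv.symm ≫ (AlgSp.yon S).map r1 =
        (AlgSp.yon S).map v1 := sq.lift_snd _ _ _
    calc (AlgSp.yon S).map v1 ≫ l c1
        = (sq.lift ((AlgSp.yon S).map v2) ((AlgSp.yon S).map v1) hv.symm ≫
            (AlgSp.yon S).map r1) ≫ l c1 := by rw [e2]
      _ = (sq.lift ((AlgSp.yon S).map v2) ((AlgSp.yon S).map v1) hv.symm ≫
            (AlgSp.yon S).map r2) ≫ l c2 := by rw [Category.assoc, key, Category.assoc]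
      _ = (AlgSp.yon S).map v2 ≫ l c2 := by rw [e1]
  obtain ⟨L, hL⟩ := exists_desc_of_isCovFam hcov l hcompat
  refine ⟨L, ?_, ?_⟩
  · refine hom_ext_of_points _ _ (fun Z t => ?_)
    refine hom_ext_of_sieve _ _ _ (hcov Z (t ≫ j)) ?_
    rintro Z' g ⟨c, v, hv⟩
    have h5 := (hl c).2 ((AlgSp.yon S).map g ≫ t) ((AlgSp.yon S).map v)
      (by rw [Category.assoc]; exact hv)
    calc (AlgSp.yon S).map g ≫ t ≫ j ≫ L
        = ((AlgSp.yon S).map g ≫ t ≫ j) ≫ L := by simp only [Category.assoc]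
      _ = ((AlgSp.yon S).map v ≫ β c) ≫ L := by rw [hv]
      _ = (AlgSp.yon S).map v ≫ l c := by rw [Category.assoc, hL c]
      _ = (AlgSp.yon S).map g ≫ t ≫ a := by rw [h5, Category.assoc]
  · refine hom_ext_of_isCovFam hcov _ _ (fun c => ?_)
    rw [← Category.assoc, hL c, (hl c).1]

end LiftCov

/-- a jointly surjective family of flat, locally finitely presented maps of schemes over `S`
gives a covering family of the represented sheaf. -/
theorem isCovFam_yon_map {T' : Over S} {K : Type u} (V : K → Over S) (β : ∀ k, V k ⟶ T')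
    (hfl : ∀ k, Flat (β k).left) (hfp : ∀ k, LocallyOfFinitePresentation (β k).left)
    (hsurj : ∀ x : T'.left, ∃ k y, (β k).left y = x) :
    IsCovFam V (fun k => (AlgSp.yon S).map (β k)) := by
  intro Z t
  obtain ⟨t₀, rfl⟩ := (AlgSp.yon S).map_surjective t
  let 𝒱 : Scheme.Cover (Scheme.precoverage (@Flat ⊓ @LocallyOfFinitePresentation)) T'.left :=
    Scheme.Cover.mkOfCovers K (fun k => (V k).left) (fun k => (β k).left) hsurj
      (fun k => ⟨hfl k, hfp k⟩)
  let 𝒲 := 𝒱.pullback₁ t₀.left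
  let W : K → Over S := fun k => Over.mk (𝒲.f k ≫ Z.hom)
  let w : ∀ k, W k ⟶ Z := fun k => Over.homMk (𝒲.f k) rfl
  have hcov : Sieve.generate (Presieve.ofArrows W w) ∈ AlgSp.J S Z := by
    apply generate_ofArrows_mem_J
    exact 𝒲.mem₀
  refine (AlgSp.J S).superset_covering ?_ hcov
  rw [Sieve.generate_le_iff]
  rintro _ _ ⟨k⟩
  refine ⟨k, Over.homMk (pullback.snd t₀.left (β k).left) ?_, ?_⟩
  · change pullback.snd t₀.left (β k).left ≫ (V k).hom = 𝒲.f k ≫ Z.hom
    rw [← Over.w (β k), ← Category.assoc, ← pullback.condition, Category.assoc, Over.w t₀]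
    rfl
  · rw [← Functor.map_comp, ← Functor.map_comp]
    congr 1
    apply Over.OverMorphism.ext
    simp only [Over.comp_left, Over.homMk_left]
    exact pullback.condition

end Groth.Agent.Lib.T2H1.Descend
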