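import Mathlib
import Groth.Prelude.Def_AlgSpInf
import Groth.Agent.Lib.T2H1ThickGlue
import Groth.Agent.Lib.T2H1AffThick

/-!
# Infinitesimal lifting on affine étale charts of a first order thickening (helper1)
-/

set_option autoImplicit false
universe u
open CategoryTheory CategoryTheory.Limits AlgebraicGeometry Opposite
open AlgSp

namespace Groth.Agent.Lib.T2H1.Descend

variable {S : Scheme.{u}}

section

variable {T T' X Y : AlgSp.Sp S} {j : T ⟶ T'} {f : X ⟶ Y} {a : T ⟶ X} {b : T' ⟶ Y}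

/-- on an affine étale chart of a first order thickening, the local lifting problem is an
`InfSq` lifting problem. -/
theorem exists_infSq_of_chart (hj : AlgSp.IsFOThickMor j) (w : a ≫ f = j ≫ b) (c : AffChart T') :
    ∃ (sq : AlgSp.InfSq f) (e : sq.ptT' ≅ c.V),
      (∀ l : (AlgSp.yon S).obj c.V ⟶ X, IsLocLift j f a b c.β l →
        (AlgSp.yon S).map sq.j ≫ ((AlgSp.yon S).map e.hom ≫ l) = sq.top ∧
          ((AlgSp.yon S).map e.hom ≫ l) ≫ f = sq.bot) ∧
      (∀ l₀ : (AlgSp.yon S).obj sq.ptT' ⟶ X, (AlgSp.yon S).map sq.j ≫ l₀ = sq.top →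
        l₀ ≫ f = sq.bot → IsLocLift j f a b c.β ((AlgSp.yon S).map e.inv ≫ l₀)) := by
  obtain ⟨W, snd, fst, psq⟩ := hj.1.1 c.β
  have hcl : IsClosedImmersion snd.left := (hj.1.2 c.β fst snd psq).1
  have hsq : snd.left.ker * snd.left.ker = ⊥ := hj.2 c.β fst snd c.aff c.et psq
  obtain ⟨A, _, I, hI, str, eV, eW, hcomp⟩ := AffThick.exists_infSq_data snd c.aff hcl hsq
  have hcomm : ((AlgSp.yon S).map eW.hom ≫ fst ≫ a) ≫ f =
      (AlgSp.yon S).map (Over.homMk (Spec.map (CommRingCat.ofHom (Ideal.Quotient.mk I))) rfl :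
        Over.mk (Spec.map (CommRingCat.ofHom (Ideal.Quotient.mk I)) ≫ str) ⟶ Over.mk str) ≫
        ((AlgSp.yon S).map eV.hom ≫ c.β ≫ b) := by
    rw [← Category.assoc ((AlgSp.yon S).map _) ((AlgSp.yon S).map eV.hom), ← Functor.map_comp,
      ← hcomp, Functor.map_comp]
    simp only [Category.assoc]
    rw [w, ← Category.assoc fst, psq.w]
    simp only [Category.assoc]
  let sq : AlgSp.InfSq f :=
    { A := A
      I := I
      sq_zero := hI
      str := str
      top := (AlgSp.yon S).map eW.hom ≫ fst ≫ a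
      bot := (AlgSp.yon S).map eV.hom ≫ c.β ≫ b
      comm := hcomm }
  have hcomp' : eW.hom ≫ snd = sq.j ≫ eV.hom := hcomp
  refine ⟨sq, eV, fun l hl => ?_, fun l₀ h1 h2 => ?_⟩
  · rw [isLocLift_iff_of_isPullback psq] at hl
    refine ⟨?_, ?_⟩
    · change (AlgSp.yon S).map sq.j ≫ ((AlgSp.yon S).map eV.hom ≫ l) =
        (AlgSp.yon S).map eW.hom ≫ fst ≫ a
      rw [← Category.assoc, ← Functor.map_comp, ← hcomp', Functor.map_comp, Category.assoc, hl.1]
    · change ((AlgSp.yon S).map eV.hom ≫ l) ≫ f = (AlgSp.yon S).map eV.hom ≫ c.β ≫ b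
      rw [Category.assoc, hl.2]
  · rw [isLocLift_iff_of_isPullback psq]
    have h1' : (AlgSp.yon S).map sq.j ≫ l₀ = (AlgSp.yon S).map eW.hom ≫ fst ≫ a := h1
    have h2' : l₀ ≫ f = (AlgSp.yon S).map eV.hom ≫ c.β ≫ b := h2
    have hinv : snd ≫ eV.inv = eW.inv ≫ sq.j := by
      rw [Iso.eq_inv_comp, ← Category.assoc, hcomp', Category.assoc, Iso.hom_inv_id,
        Category.comp_id]
    refine ⟨?_, ?_⟩
    · rw [← Category.assoc, ← Functor.map_comp, hinv, Functor.map_comp, Category.assoc, h1',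
        ← Category.assoc, ← Functor.map_comp, Iso.inv_hom_id, CategoryTheory.Functor.map_id,
        Category.id_comp]
    · rw [Category.assoc, h2', ← Category.assoc, ← Functor.map_comp, Iso.inv_hom_id,
        CategoryTheory.Functor.map_id, Category.id_comp]

/-- uniqueness of local lifts on affine étale charts for a formally unramified map. -/
theorem isLocLift_unique (hf : AlgSp.IsFormallyUnramifiedMor f) (hj : AlgSp.IsFOThickMor j)
    (w : a ≫ f = j ≫ b) (c : AffChart T') (l l' : (AlgSp.yon S).obj c.V ⟶ X)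
    (h : IsLocLift j f a b c.β l) (h' : IsLocLift j f a b c.β l') : l = l' := by
  obtain ⟨sq, e, h1, -⟩ := exists_infSq_of_chart hj w c
  have := hf sq _ _ (h1 l h).1 (h1 l h).2 (h1 l' h').1 (h1 l' h').2
  have h3 := congrArg (fun x => (AlgSp.yon S).map e.inv ≫ x) this
  simp only [← Category.assoc, ← Functor.map_comp, Iso.inv_hom_id, CategoryTheory.Functor.map_id,
    Category.id_comp] at h3
  exact h3

/-- existence and uniqueness of local lifts on affine étale charts for a formally étale map. -/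
theorem isLocLift_existsUnique (hf : AlgSp.IsFormallyEtaleMor f) (hj : AlgSp.IsFOThickMor j)
    (w : a ≫ f = j ≫ b) (c : AffChart T') :
    ∃! l : (AlgSp.yon S).obj c.V ⟶ X, IsLocLift j f a b c.β l := by
  obtain ⟨sq, e, h1, h2⟩ := exists_infSq_of_chart hj w c
  obtain ⟨l₀, hl₀, hu⟩ := hf sq
  refine ⟨(AlgSp.yon S).map e.inv ≫ l₀, h2 l₀ hl₀.1 hl₀.2, fun l hl => ?_⟩
  have := hu _ (h1 l hl)
  rw [← this, ← Category.assoc, ← Functor.map_comp, Iso.inv_hom_id, CategoryTheory.Functor.map_id,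
    Category.id_comp]

end

end Groth.Agent.Lib.T2H1.Descend

namespace Groth.Agent.Lib.T2H1.Descend

variable {S : Scheme.{u}}

/-- the base change of a first order thickening along a representable étale map from a scheme is
a first order thickening. -/
theorem isFOThickMor_of_isPullback {T T' : AlgSp.Sp S} {j : T ⟶ T'} (hj : AlgSp.IsFOThickMor j)
    {V W : Over S} {β : (AlgSp.yon S).obj V ⟶ T'} (hβ : AlgSp.RepWith @Etale β)
    {fst : (AlgSp.yon S).obj W ⟶ T} {snd : W ⟶ V}
    (psq : IsPullback fst ((AlgSp.yon S).map snd) j β) :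
    AlgSp.IsFOThickMor ((AlgSp.yon S).map snd) := by
  refine ⟨MorphismProperty.of_isPullback (P := AlgSp.RepWith AlgSp.thick) psq hj.1, ?_⟩
  intro V' W' b' fst' snd' hV' hb' psq'
  exact hj.2 (b' ≫ β) (fst' ≫ fst) snd' hV' ((AlgSp.RepWith @Etale).comp_mem _ _ hb' hβ)
    (psq'.paste_horiz psq)

end Groth.Agent.Lib.T2H1.Descend
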