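import Mathlib
import Groth.Prelude.Def_AlgSpInf
import Groth.Agent.S1489

/-!
# Representable étale maps of sheaves are formally étale (helper1)
-/

set_option autoImplicit false
universe u
open CategoryTheory CategoryTheory.Limits AlgebraicGeometry Opposite
open AlgSp

namespace Groth.Agent.Lib.T2H1.RepEtale

variable {S : Scheme.{u}}

/-- a representable étale map of fppf sheaves is formally étale. -/
theorem isFormallyEtaleMor_of_repWith {F G : AlgSp.Sp S} (a : F ⟶ G)
    (ha : AlgSp.RepWith @Etale a) : AlgSp.IsFormallyEtaleMor a := by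
  intro sq
  obtain ⟨P, pr, fstP, psq⟩ := ha.1 sq.bot
  haveI : Etale pr.left := ha.2 _ _ pr psq
  have hfe : MoreMor.IsFormallyEtaleHom pr.left :=
    ((Groth.Agent.S1489.result pr.left).1 inferInstance).2
  obtain ⟨s₀, hs₀⟩ := (AlgSp.yon S).map_surjective
    (psq.lift sq.top ((AlgSp.yon S).map sq.j) sq.comm)
  have hs1 : (AlgSp.yon S).map s₀ ≫ fstP = sq.top := by rw [hs₀]; exact psq.lift_fst _ _ _
  have hs2 : s₀ ≫ pr = sq.j := by
    apply (AlgSp.yon S).map_injective
    rw [Functor.map_comp, hs₀]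
    exact psq.lift_snd _ _ _
  have hs2' : s₀.left ≫ pr.left = Spec.map (CommRingCat.ofHom (Ideal.Quotient.mk sq.I)) :=
    congrArg (fun m => m.left) hs2
  obtain ⟨σ₀, ⟨hσ1, hσ2⟩, hσu⟩ := hfe sq.A sq.I sq.sq_zero s₀.left (𝟙 _)
    (by rw [Category.comp_id, hs2'])
  have hσw : σ₀ ≫ P.hom = sq.str := by
    rw [← Over.w pr, ← Category.assoc, hσ2]
    exact Category.id_comp _
  let σ : sq.ptT' ⟶ P := Over.homMk σ₀ hσw
  have hσpr : σ ≫ pr = 𝟙 _ := by
    apply Over.OverMorphism.ext
    exact hσ2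
  have hjσ : sq.j ≫ σ = s₀ := by
    apply Over.OverMorphism.ext
    exact hσ1
  refine ⟨(AlgSp.yon S).map σ ≫ fstP, ⟨?_, ?_⟩, ?_⟩
  · rw [← Category.assoc, ← Functor.map_comp, hjσ, hs1]
  · rw [Category.assoc, psq.w, ← Category.assoc, ← Functor.map_comp, hσpr,
      CategoryTheory.Functor.map_id, Category.id_comp]
  · rintro l' ⟨hl1, hl2⟩
    obtain ⟨τ, hτ⟩ := (AlgSp.yon S).map_surjective
      (psq.lift l' (𝟙 _) (by rw [hl2, Category.id_comp]))
    have hτ1 : (AlgSp.yon S).map τ ≫ fstP = l' := by rw [hτ]; exact psq.lift_fst _ _ _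
    have hτ2 : τ ≫ pr = 𝟙 _ := by
      apply (AlgSp.yon S).map_injective
      rw [Functor.map_comp, hτ, CategoryTheory.Functor.map_id]
      exact psq.lift_snd _ _ _
    have hjτ : sq.j ≫ τ = s₀ := by
      apply (AlgSp.yon S).map_injective
      apply psq.hom_ext
      · rw [Functor.map_comp, Category.assoc, hτ1, hl1, hs1]
      · rw [← Functor.map_comp, ← Functor.map_comp, Category.assoc, hτ2, hs2, Category.comp_id]
    have hτσ : τ.left = σ₀ := hσu τ.left
      ⟨congrArg (fun m => m.left) hjτ, congrArg (fun m => m.left) hτ2⟩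
    have : τ = σ := by
      apply Over.OverMorphism.ext
      exact hτσ
    rw [← hτ1, this]

end Groth.Agent.Lib.T2H1.RepEtale
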