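import Mathlib
import Groth.Prelude.Def_AlgSpInf
import Groth.Agent.Lib.T2H1FormalCharts
import Groth.Agent.Lib.T2H1FOThickSch
import Groth.Agent.Lib.T2H1RepEtale
import Groth.Agent.Lib.T2H1EtaleLiftSch

/-!
# Formal étaleness and unramifiedness descend along representable étale surjections (helper1)
-/

set_option autoImplicit false
universe u
open CategoryTheory CategoryTheory.Limits AlgebraicGeometry Opposite
open AlgSp

namespace Groth.Agent.Lib.T2H1.FormalDescent

open Groth.Agent.Lib.T2H1.Descend Groth.Agent.Lib.T2H1.EtaleLift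

variable {S : Scheme.{u}}

/-- `Spec (A ⧸ I) ⟶ Spec A` is a first order thickening when `I ^ 2 = ⊥`. -/
theorem isFirstOrderThickening_Spec_mk (A : Type u) [CommRing A] (I : Ideal A) (hI : I ^ 2 = ⊥) :
    MoreMor.IsFirstOrderThickening (Spec.map (CommRingCat.ofHom (Ideal.Quotient.mk I))) := by
  refine ⟨⟨IsClosedImmersion.spec_of_quotient_mk (R := CommRingCat.of A) I,
    ⟨fun y => Groth.Agent.Lib.Helper2.FormalEt.surj_specMap_mk A I hI y⟩⟩, ?_⟩
  apply Scheme.IdealSheafData.ext_of_isAffine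
  rw [Scheme.IdealSheafData.ideal_mul, Scheme.IdealSheafData.ideal_bot, Pi.mul_apply,
    Scheme.Hom.ker_apply, Pi.bot_apply, eq_bot_iff, Ideal.mul_le]
  intro x hx y hy
  rw [RingHom.mem_ker] at hx hy
  have nat := Scheme.ΓSpecIso_naturality (CommRingCat.ofHom (Ideal.Quotient.mk I))
  have hx' : (Ideal.Quotient.mk I) ((Scheme.ΓSpecIso (CommRingCat.of A)).hom x) = 0 := by
    have := congr($(nat).hom x)
    simp only [CommRingCat.hom_comp, RingHom.comp_apply] at this
    erw [hx, map_zero] at this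
    exact this.symm
  have hy' : (Ideal.Quotient.mk I) ((Scheme.ΓSpecIso (CommRingCat.of A)).hom y) = 0 := by
    have := congr($(nat).hom y)
    simp only [CommRingCat.hom_comp, RingHom.comp_apply] at this
    erw [hy, map_zero] at this
    exact this.symm
  rw [Ideal.Quotient.eq_zero_iff_mem] at hx' hy'
  have hxy : (Scheme.ΓSpecIso (CommRingCat.of A)).hom (x * y) = 0 := by
    rw [map_mul]
    have : (Scheme.ΓSpecIso (CommRingCat.of A)).hom x * (Scheme.ΓSpecIso (CommRingCat.of A)).hom y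
        ∈ I ^ 2 := by rw [pow_two]; exact Ideal.mul_mem_mul hx' hy'
    rw [hI] at this
    exact this
  rw [Ideal.mem_bot]
  have hinj : Function.Injective (Scheme.ΓSpecIso (CommRingCat.of A)).hom :=
    (ConcreteCategory.bijective_of_isIso (Scheme.ΓSpecIso (CommRingCat.of A)).hom).1
  exact hinj (by rw [hxy, map_zero])

/-- the left side of an infinitesimal lifting square is a first order thickening of sheaves. -/
theorem isFOThickMor_infSq_j {F G : AlgSp.Sp S} {f : F ⟶ G} (sq : AlgSp.InfSq f) :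
    AlgSp.IsFOThickMor ((AlgSp.yon S).map sq.j) :=
  Groth.Agent.Lib.T2H1.FOThickSch.isFOThickMor_yon_map sq.j
    (isFirstOrderThickening_Spec_mk sq.A sq.I sq.sq_zero)


/-- an affine étale chart `Spec B ⟶ Spec A` of the bottom of an infinitesimal lifting square. -/
structure ChartData {F G : AlgSp.Sp S} {f : F ⟶ G} (sq : AlgSp.InfSq f) where
  B : Type u
  [cr : CommRing B]
  φ : sq.A →+* B

attribute [instance] ChartData.cr

namespace ChartData

variable {F G : AlgSp.Sp S} {f : F ⟶ G} {sq : AlgSp.InfSq f} (d : ChartData sq)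

/-- the ideal `I B`. -/
abbrev J : Ideal d.B := sq.I.map d.φ

lemma sq_zero : d.J ^ 2 = ⊥ := by
  rw [← Ideal.map_pow, sq.sq_zero, Ideal.map_bot]

/-- the structure map of `Spec B`. -/
noncomputable abbrev str : Spec (.of d.B) ⟶ S := Spec.map (CommRingCat.ofHom d.φ) ≫ sq.str

/-- `Spec B` over `S`. -/
noncomputable abbrev V : Over S := Over.mk d.str

/-- `Spec (B ⧸ I B)` over `S`. -/
noncomputable abbrev W : Over S :=
  Over.mk (Spec.map (CommRingCat.ofHom (Ideal.Quotient.mk d.J)) ≫ d.str)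

/-- the thickening `Spec (B ⧸ I B) ⟶ Spec B`. -/
noncomputable abbrev jV : d.W ⟶ d.V :=
  Over.homMk (Spec.map (CommRingCat.ofHom (Ideal.Quotient.mk d.J))) rfl

/-- the chart `Spec B ⟶ Spec A`. -/
noncomputable abbrev β : d.V ⟶ sq.ptT' := Over.homMk (Spec.map (CommRingCat.ofHom d.φ)) rfl

/-- the induced map `Spec (B ⧸ I B) ⟶ Spec (A ⧸ I)`. -/
noncomputable def γ : d.W ⟶ sq.ptT :=
  Over.homMk (Spec.map (CommRingCat.ofHom (Ideal.quotientMap d.J d.φ Ideal.le_comap_map))) (by
    have := (isPullback_Spec_quotient d.φ sq.I).w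
    change _ ≫ (_ ≫ sq.str) = _ ≫ (_ ≫ sq.str)
    rw [← Category.assoc, this, Category.assoc])

lemma γ_left : d.γ.left =
    Spec.map (CommRingCat.ofHom (Ideal.quotientMap d.J d.φ Ideal.le_comap_map)) := rfl

lemma comm : d.γ ≫ sq.j = d.jV ≫ d.β := by
  apply Over.OverMorphism.ext
  exact (isPullback_Spec_quotient d.φ sq.I).w

lemma isPullback : IsPullback ((AlgSp.yon S).map d.γ) ((AlgSp.yon S).map d.jV)
    ((AlgSp.yon S).map sq.j) ((AlgSp.yon S).map d.β) := by
  have hOver : IsPullback d.γ d.jV sq.j d.β :=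
    IsPullback.of_map (Over.forget S) d.comm (isPullback_Spec_quotient d.φ sq.I)
  exact hOver.map (AlgSp.yon S)

/-- the infinitesimal lifting square on the chart. -/
noncomputable abbrev infSq {F' G' : AlgSp.Sp S} (g : F' ⟶ G') (top : (AlgSp.yon S).obj d.W ⟶ F')
    (bot : (AlgSp.yon S).obj d.V ⟶ G') (comm : top ≫ g = (AlgSp.yon S).map d.jV ≫ bot) :
    AlgSp.InfSq g :=
  { A := d.B
    I := d.J
    sq_zero := d.sq_zero
    str := d.str
    top := top
    bot := bot
    comm := comm }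

end ChartData


/-- along a representable étale surjection `a`, the top of an infinitesimal lifting square for `b`
lifts through `a` on a covering family of affine étale charts of the bottom. -/
theorem exists_chartLifts {F G H : AlgSp.Sp S} (a : F ⟶ G) (ha : AlgSp.RepWith @Etale a)
    (ha' : AlgSp.RepWith @Surjective a) {b : G ⟶ H} (sq : AlgSp.InfSq b) :
    ∃ (K : Type u) (d : K → ChartData sq), (∀ k, (d k).φ.Etale) ∧
      (∀ y : Spec (.of sq.A), ∃ k z, (Spec.map (CommRingCat.ofHom (d k).φ)) z = y) ∧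
      ∀ k, ∃ τ : (AlgSp.yon S).obj (d k).W ⟶ F, τ ≫ a = (AlgSp.yon S).map (d k).γ ≫ sq.top := by
  obtain ⟨T₁, pr, fst', psq⟩ := ha.1 sq.top
  haveI : Etale pr.left := ha.2 _ _ pr psq
  haveI : Surjective pr.left := ha'.2 _ _ pr psq
  have hex := fun x : T₁.left => exists_etale_chart_lift sq.A sq.I sq.sq_zero pr.left x
  choose B cr φ hφ u hu hxu huw using hex
  let d : T₁.left → ChartData sq := fun x => @ChartData.mk _ _ _ _ sq (B x) (cr x) (φ x)
  refine ⟨T₁.left, d, hφ, ?_, ?_⟩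
  · intro y
    obtain ⟨y₀, rfl⟩ := Groth.Agent.Lib.Helper2.FormalEt.surj_specMap_mk sq.A sq.I sq.sq_zero y
    obtain ⟨x, rfl⟩ := pr.left.surjective y₀
    obtain ⟨w, hw⟩ := hxu x
    refine ⟨x, (Spec.map (CommRingCat.ofHom (Ideal.Quotient.mk (d x).J))) w, ?_⟩
    have h1 := (isPullback_Spec_quotient (d x).φ sq.I).w
    have h2 := congrArg (fun m => m w) h1
    simp only [Scheme.Hom.comp_apply] at h2
    rw [← h2]
    have h3 := congrArg (fun m => m w) (huw x)
    simp only [Scheme.Hom.comp_apply] at h3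
    rw [hw] at h3
    rw [← h3]
  · intro x
    have hw : u x ≫ T₁.hom = (d x).W.hom := by
      rw [← Over.w pr, ← Category.assoc, huw x]
      have h1 := (isPullback_Spec_quotient (d x).φ sq.I).w
      change _ ≫ (_ ≫ sq.str) = _ ≫ (_ ≫ sq.str)
      rw [← Category.assoc, h1, Category.assoc]
    let ũ : (d x).W ⟶ T₁ := Over.homMk (u x) hw
    have hũ : ũ ≫ pr = (d x).γ := by
      apply Over.OverMorphism.ext
      exact huw x
    refine ⟨(AlgSp.yon S).map ũ ≫ fst', ?_⟩
    rw [Category.assoc, psq.w, ← Category.assoc, ← Functor.map_comp, hũ]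


section Descent

variable {F G H : AlgSp.Sp S} (a : F ⟶ G) (ha : AlgSp.RepWith @Etale a)
  (ha' : AlgSp.RepWith @Surjective a) (b : G ⟶ H)

/-- the charts of `exists_chartLifts` form a covering family. -/
lemma isCovFam_chartData {f : G ⟶ H} (sq : AlgSp.InfSq f) {K : Type u} (d : K → ChartData sq)
    (hd : ∀ k, (d k).φ.Etale)
    (hs : ∀ y : Spec (.of sq.A), ∃ k z, (Spec.map (CommRingCat.ofHom (d k).φ)) z = y) :
    IsCovFam (fun k => (d k).V) (fun k => (AlgSp.yon S).map (d k).β) := by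
  have het : ∀ k, Etale (d k).β.left := fun k =>
    (HasRingHomProperty.Spec_iff (P := @Etale)).2 (hd k)
  exact isCovFam_yon_map (fun k => (d k).V) (fun k => (d k).β)
    (fun k => by haveI := het k; infer_instance) (fun k => by haveI := het k; infer_instance) hs

include ha ha' in
/-- if `a ≫ b` is formally unramified and `a` is a representable étale surjection then `b` is
formally unramified. -/
theorem isFormallyUnramifiedMor_of_comp (hab : AlgSp.IsFormallyUnramifiedMor (a ≫ b)) :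
    AlgSp.IsFormallyUnramifiedMor b := by
  intro sq l l' h1 h2 h3 h4
  obtain ⟨K, d, hd, hs, hτ⟩ := exists_chartLifts a ha ha' sq
  have hae := Groth.Agent.Lib.T2H1.RepEtale.isFormallyEtaleMor_of_repWith a ha
  refine hom_ext_of_isCovFam (isCovFam_chartData sq d hd hs) l l' (fun k => ?_)
  obtain ⟨τ, hτa⟩ := hτ k
  have key : ∀ l₀ : (AlgSp.yon S).obj sq.ptT' ⟶ G, (AlgSp.yon S).map sq.j ≫ l₀ = sq.top →
      l₀ ≫ b = sq.bot → ∃ m : (AlgSp.yon S).obj (d k).V ⟶ F,
        (AlgSp.yon S).map (d k).jV ≫ m = τ ∧ m ≫ a = (AlgSp.yon S).map (d k).β ≫ l₀ := by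
    intro l₀ e1 e2
    have hc : τ ≫ a = (AlgSp.yon S).map (d k).jV ≫ (AlgSp.yon S).map (d k).β ≫ l₀ := by
      rw [hτa, ← e1, ← Category.assoc, ← Category.assoc, ← Functor.map_comp, ← Functor.map_comp,
        (d k).comm]
    obtain ⟨m, ⟨hm1, hm2⟩, -⟩ := hae ((d k).infSq a τ ((AlgSp.yon S).map (d k).β ≫ l₀) hc)
    exact ⟨m, hm1, hm2⟩
  obtain ⟨m, hm1, hm2⟩ := key l h1 h2
  obtain ⟨m', hm1', hm2'⟩ := key l' h3 h4
  have hc : τ ≫ a ≫ b = (AlgSp.yon S).map (d k).jV ≫ (AlgSp.yon S).map (d k).β ≫ sq.bot := by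
    rw [← Category.assoc, hτa, Category.assoc, sq.comm, ← Category.assoc, ← Category.assoc,
      ← Functor.map_comp, ← Functor.map_comp, (d k).comm]
  have e1 : m ≫ a ≫ b = (AlgSp.yon S).map (d k).β ≫ sq.bot := by
    rw [← Category.assoc, hm2, Category.assoc, h2]
  have e2 : m' ≫ a ≫ b = (AlgSp.yon S).map (d k).β ≫ sq.bot := by
    rw [← Category.assoc, hm2', Category.assoc, h4]
  have hmm : m = m' := hab ((d k).infSq (a ≫ b) τ ((AlgSp.yon S).map (d k).β ≫ sq.bot) hc) m m'
    hm1 e1 hm1' e2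
  rw [← hm2, ← hm2', hmm]

include ha ha' in
/-- if `a ≫ b` is formally étale and `a` is a representable étale surjection then `b` is
formally étale. -/
theorem isFormallyEtaleMor_of_comp (hab : AlgSp.IsFormallyEtaleMor (a ≫ b)) :
    AlgSp.IsFormallyEtaleMor b := by
  have hbu : AlgSp.IsFormallyUnramifiedMor b :=
    isFormallyUnramifiedMor_of_comp a ha ha' b (fun sq l l' h1 h2 h3 h4 =>
      (hab sq).unique ⟨h1, h2⟩ ⟨h3, h4⟩)
  intro sq
  obtain ⟨K, d, hd, hs, hτ⟩ := exists_chartLifts a ha ha' sq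
  have hj := isFOThickMor_infSq_j sq
  have hu : ∀ (c : AffChart ((AlgSp.yon S).obj sq.ptT')) (l l' : (AlgSp.yon S).obj c.V ⟶ G),
      IsLocLift ((AlgSp.yon S).map sq.j) b sq.top sq.bot c.β l →
      IsLocLift ((AlgSp.yon S).map sq.j) b sq.top sq.bot c.β l' → l = l' :=
    fun c l l' h h' => isLocLift_unique hbu hj sq.comm c l l' h h'
  have hloc : ∀ k, ∃ l : (AlgSp.yon S).obj (d k).V ⟶ G,
      IsLocLift ((AlgSp.yon S).map sq.j) b sq.top sq.bot ((AlgSp.yon S).map (d k).β) l := by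
    intro k
    obtain ⟨τ, hτa⟩ := hτ k
    have hc : τ ≫ a ≫ b = (AlgSp.yon S).map (d k).jV ≫ (AlgSp.yon S).map (d k).β ≫ sq.bot := by
      rw [← Category.assoc, hτa, Category.assoc, sq.comm, ← Category.assoc, ← Category.assoc,
        ← Functor.map_comp, ← Functor.map_comp, (d k).comm]
    obtain ⟨m, ⟨hm1, hm2⟩, -⟩ :=
      hab ((d k).infSq (a ≫ b) τ ((AlgSp.yon S).map (d k).β ≫ sq.bot) hc)
    have hm1' : (AlgSp.yon S).map (d k).jV ≫ m = τ := hm1
    have hm2' : m ≫ a ≫ b = (AlgSp.yon S).map (d k).β ≫ sq.bot := hm2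
    refine ⟨m ≫ a, (isLocLift_iff_of_isPullback (d k).isPullback (m ≫ a)).2 ⟨?_, ?_⟩⟩
    · rw [← Category.assoc, hm1', hτa]
    · rw [Category.assoc]
      exact hm2'
  choose l hl using hloc
  have het : ∀ k, AlgSp.RepWith @Etale ((AlgSp.yon S).map (d k).β) := fun k =>
    (AlgSp.repWith_yon_map_iff @Etale _).2
      ((HasRingHomProperty.Spec_iff (P := @Etale)).2 (hd k))
  obtain ⟨L, hL1, hL2⟩ := lift_exists_of_covFam hu (fun k => (d k).V)
    (fun k => (AlgSp.yon S).map (d k).β) het (isCovFam_chartData sq d hd hs) l hl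
  exact ⟨L, ⟨hL1, hL2⟩, fun L' hL' => hbu sq L' L hL'.1 hL'.2 hL1 hL2⟩

end Descent

end Groth.Agent.Lib.T2H1.FormalDescent
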