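import Mathlib
import Groth.Prelude.Def_AlgSpInf

/-!
# Formal smoothness / étaleness of `h_g` versus the scheme-level lifting properties (helper1)
-/

set_option autoImplicit false
universe u
open CategoryTheory CategoryTheory.Limits AlgebraicGeometry Opposite
open AlgSp

namespace Groth.Agent.Lib.T2H1.FormalYon

variable {S : Scheme.{u}} {U V : Over S} (h : U ⟶ V)

/-- the infinitesimal lifting square of `h_h` attached to a scheme-level lifting problem. -/
noncomputable abbrev infSqOf (A : Type u) [CommRing A] (I : Ideal A) (hI : I ^ 2 = ⊥)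
    (a₀ : Spec (CommRingCat.of (A ⧸ I)) ⟶ U.left) (b₀ : Spec (CommRingCat.of A) ⟶ V.left)
    (w : Spec.map (CommRingCat.ofHom (Ideal.Quotient.mk I)) ≫ b₀ = a₀ ≫ h.left) :
    AlgSp.InfSq ((AlgSp.yon S).map h) :=
  { A := A
    I := I
    sq_zero := hI
    str := b₀ ≫ V.hom
    top := (AlgSp.yon S).map (Over.homMk a₀ (by
      change a₀ ≫ U.hom = _ ≫ b₀ ≫ V.hom
      rw [← Over.w h, ← Category.assoc, ← w, Category.assoc]) :
        Over.mk (Spec.map (CommRingCat.ofHom (Ideal.Quotient.mk I)) ≫ b₀ ≫ V.hom) ⟶ U)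
    bot := (AlgSp.yon S).map (Over.homMk b₀ rfl : Over.mk (b₀ ≫ V.hom) ⟶ V)
    comm := by
      rw [← Functor.map_comp, ← Functor.map_comp]
      congr 1
      apply Over.OverMorphism.ext
      exact w.symm }

/-- lifts of `infSqOf` are scheme-level lifts. -/
lemma lift_iff (A : Type u) [CommRing A] (I : Ideal A) (hI : I ^ 2 = ⊥)
    (a₀ : Spec (CommRingCat.of (A ⧸ I)) ⟶ U.left) (b₀ : Spec (CommRingCat.of A) ⟶ V.left)
    (w : Spec.map (CommRingCat.ofHom (Ideal.Quotient.mk I)) ≫ b₀ = a₀ ≫ h.left)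
    (l : (infSqOf h A I hI a₀ b₀ w).ptT' ⟶ U) :
    ((AlgSp.yon S).map (infSqOf h A I hI a₀ b₀ w).j ≫ (AlgSp.yon S).map l =
        (infSqOf h A I hI a₀ b₀ w).top ∧
      (AlgSp.yon S).map l ≫ (AlgSp.yon S).map h = (infSqOf h A I hI a₀ b₀ w).bot) ↔
    (Spec.map (CommRingCat.ofHom (Ideal.Quotient.mk I)) ≫ l.left = a₀ ∧ l.left ≫ h.left = b₀) := by
  constructor
  · rintro ⟨h1, h2⟩
    rw [← Functor.map_comp] at h1 h2
    exact ⟨congrArg (fun m => m.left) ((AlgSp.yon S).map_injective h1),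
      congrArg (fun m => m.left) ((AlgSp.yon S).map_injective h2)⟩
  · rintro ⟨h1, h2⟩
    rw [← Functor.map_comp, ← Functor.map_comp]
    constructor
    · congr 1
      apply Over.OverMorphism.ext
      exact h1
    · congr 1
      apply Over.OverMorphism.ext
      exact h2

/-- `h_h` formally étale implies `h.left` formally étale in the scheme sense. -/
theorem isFormallyEtaleHom_of_yon_map (hh : AlgSp.IsFormallyEtaleMor ((AlgSp.yon S).map h)) :
    MoreMor.IsFormallyEtaleHom h.left := by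
  intro A _ I hI a₀ b₀ w
  obtain ⟨l', hl', hu⟩ := hh (infSqOf h A I hI a₀ b₀ w)
  obtain ⟨l, rfl⟩ := (AlgSp.yon S).map_surjective l'
  have h1 := (lift_iff h A I hI a₀ b₀ w l).1 hl'
  refine ⟨l.left, h1, fun m hm => ?_⟩
  have hmw : m ≫ U.hom = b₀ ≫ V.hom := by
    rw [← Over.w h, ← Category.assoc, hm.2]
  let m' : (infSqOf h A I hI a₀ b₀ w).ptT' ⟶ U := Over.homMk m hmw
  have := hu ((AlgSp.yon S).map m') ((lift_iff h A I hI a₀ b₀ w m').2 hm)
  exact congrArg (fun x => x.left) ((AlgSp.yon S).map_injective this)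

/-- `h_h` formally smooth implies `h.left` formally smooth in the scheme sense. -/
theorem isFormallySmoothHom_of_yon_map (hh : AlgSp.IsFormallySmoothMor ((AlgSp.yon S).map h)) :
    MoreMor.IsFormallySmoothHom h.left := by
  intro A _ I hI a₀ b₀ w
  obtain ⟨l', hl'⟩ := hh (infSqOf h A I hI a₀ b₀ w)
  obtain ⟨l, rfl⟩ := (AlgSp.yon S).map_surjective l'
  exact ⟨l.left, (lift_iff h A I hI a₀ b₀ w l).1 hl'⟩

/-- scheme-level data of an infinitesimal lifting square of `h_h`. -/
lemma exists_scheme_square (sq : AlgSp.InfSq ((AlgSp.yon S).map h)) :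
    ∃ (a₀ : sq.ptT ⟶ U) (b₀ : sq.ptT' ⟶ V), (AlgSp.yon S).map a₀ = sq.top ∧
      (AlgSp.yon S).map b₀ = sq.bot ∧
      Spec.map (CommRingCat.ofHom (Ideal.Quotient.mk sq.I)) ≫ b₀.left = a₀.left ≫ h.left := by
  obtain ⟨a₀, ha₀⟩ := (AlgSp.yon S).map_surjective sq.top
  obtain ⟨b₀, hb₀⟩ := (AlgSp.yon S).map_surjective sq.bot
  refine ⟨a₀, b₀, ha₀, hb₀, ?_⟩
  have := sq.comm
  rw [← ha₀, ← hb₀, ← Functor.map_comp, ← Functor.map_comp] at this
  exact (congrArg (fun m => m.left) ((AlgSp.yon S).map_injective this)).symm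

/-- `h.left` formally étale in the scheme sense implies `h_h` formally étale. -/
theorem isFormallyEtaleMor_yon_map (hh : MoreMor.IsFormallyEtaleHom h.left) :
    AlgSp.IsFormallyEtaleMor ((AlgSp.yon S).map h) := by
  intro sq
  obtain ⟨a₀, b₀, ha₀, hb₀, w⟩ := exists_scheme_square h sq
  obtain ⟨l₀, ⟨hl1, hl2⟩, hu⟩ := hh sq.A sq.I sq.sq_zero a₀.left b₀.left w
  have hlw : l₀ ≫ U.hom = sq.str := by
    rw [← Over.w h, ← Category.assoc, hl2]
    exact Over.w b₀
  let l : sq.ptT' ⟶ U := Over.homMk l₀ hlw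
  refine ⟨(AlgSp.yon S).map l, ⟨?_, ?_⟩, ?_⟩
  · rw [← ha₀, ← Functor.map_comp]
    congr 1
    apply Over.OverMorphism.ext
    exact hl1
  · rw [← hb₀, ← Functor.map_comp]
    congr 1
    apply Over.OverMorphism.ext
    exact hl2
  · rintro m' ⟨hm1, hm2⟩
    obtain ⟨m, rfl⟩ := (AlgSp.yon S).map_surjective m'
    rw [← ha₀, ← Functor.map_comp] at hm1
    rw [← hb₀, ← Functor.map_comp] at hm2
    have e1 := congrArg (fun x => x.left) ((AlgSp.yon S).map_injective hm1)
    have e2 := congrArg (fun x => x.left) ((AlgSp.yon S).map_injective hm2)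
    have := hu m.left ⟨e1, e2⟩
    congr 1
    apply Over.OverMorphism.ext
    exact this

/-- `h.left` formally smooth in the scheme sense implies `h_h` formally smooth. -/
theorem isFormallySmoothMor_yon_map (hh : MoreMor.IsFormallySmoothHom h.left) :
    AlgSp.IsFormallySmoothMor ((AlgSp.yon S).map h) := by
  intro sq
  obtain ⟨a₀, b₀, ha₀, hb₀, w⟩ := exists_scheme_square h sq
  obtain ⟨l₀, hl1, hl2⟩ := hh sq.A sq.I sq.sq_zero a₀.left b₀.left w
  have hlw : l₀ ≫ U.hom = sq.str := by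
    rw [← Over.w h, ← Category.assoc, hl2]
    exact Over.w b₀
  let l : sq.ptT' ⟶ U := Over.homMk l₀ hlw
  refine ⟨(AlgSp.yon S).map l, ?_, ?_⟩
  · rw [← ha₀, ← Functor.map_comp]
    congr 1
    apply Over.OverMorphism.ext
    exact hl1
  · rw [← hb₀, ← Functor.map_comp]
    congr 1
    apply Over.OverMorphism.ext
    exact hl2

end Groth.Agent.Lib.T2H1.FormalYon

namespace Groth.Agent.Lib.T2H1.FormalYon

variable {S : Scheme.{u}} {U V : Over S} (h : U ⟶ V)

/-- `h.left` formally unramified (Mathlib) implies `h_h` formally unramified. -/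
theorem isFormallyUnramifiedMor_yon_map [FormallyUnramified h.left] :
    AlgSp.IsFormallyUnramifiedMor ((AlgSp.yon S).map h) := by
  intro sq l' m' hl1 hl2 hm1 hm2
  obtain ⟨l, rfl⟩ := (AlgSp.yon S).map_surjective l'
  obtain ⟨m, rfl⟩ := (AlgSp.yon S).map_surjective m'
  have e1 : sq.j ≫ l = sq.j ≫ m := by
    apply (AlgSp.yon S).map_injective
    rw [Functor.map_comp, Functor.map_comp, hl1, hm1]
  have e2 : l ≫ h = m ≫ h := by
    apply (AlgSp.yon S).map_injective
    rw [Functor.map_comp, Functor.map_comp, hl2, hm2]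
  haveI : IsClosedImmersion (Spec.map (CommRingCat.ofHom (Ideal.Quotient.mk sq.I))) :=
    IsClosedImmersion.spec_of_quotient_mk (R := CommRingCat.of sq.A) sq.I
  have hnil : IsNilpotent (Spec.map (CommRingCat.ofHom (Ideal.Quotient.mk sq.I))).ker := by
    refine ⟨2, ?_⟩
    rw [Scheme.IdealSheafData.zero_eq_bot]
    apply Scheme.IdealSheafData.ext_of_isAffine
    rw [Scheme.IdealSheafData.ideal_pow, Scheme.IdealSheafData.ideal_bot, Pi.pow_apply,
      Scheme.Hom.ker_apply, Pi.bot_apply, eq_bot_iff, pow_two, Ideal.mul_le]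
    intro x hx y hy
    rw [RingHom.mem_ker] at hx hy
    have nat := Scheme.ΓSpecIso_naturality (CommRingCat.ofHom (Ideal.Quotient.mk sq.I))
    have hx' : (Ideal.Quotient.mk sq.I) ((Scheme.ΓSpecIso (CommRingCat.of sq.A)).hom x) = 0 := by
      have := congr($(nat).hom x)
      simp only [CommRingCat.hom_comp, RingHom.comp_apply] at this
      erw [hx, map_zero] at this
      exact this.symm
    have hy' : (Ideal.Quotient.mk sq.I) ((Scheme.ΓSpecIso (CommRingCat.of sq.A)).hom y) = 0 := by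
      have := congr($(nat).hom y)
      simp only [CommRingCat.hom_comp, RingHom.comp_apply] at this
      erw [hy, map_zero] at this
      exact this.symm
    rw [Ideal.Quotient.eq_zero_iff_mem] at hx' hy'
    have hxy : (Scheme.ΓSpecIso (CommRingCat.of sq.A)).hom (x * y) = 0 := by
      rw [map_mul]
      have : (Scheme.ΓSpecIso (CommRingCat.of sq.A)).hom x *
          (Scheme.ΓSpecIso (CommRingCat.of sq.A)).hom y ∈ sq.I ^ 2 := by
        rw [pow_two]; exact Ideal.mul_mem_mul hx' hy'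
      rw [sq.sq_zero] at this
      exact this
    rw [Ideal.mem_bot]
    have hinj : Function.Injective (Scheme.ΓSpecIso (CommRingCat.of sq.A)).hom :=
      (ConcreteCategory.bijective_of_isIso (Scheme.ΓSpecIso (CommRingCat.of sq.A)).hom).1
    exact hinj (by rw [hxy, map_zero])
  have key : l.left = m.left :=
    FormallyUnramified.hom_ext (Spec.map (CommRingCat.ofHom (Ideal.Quotient.mk sq.I))) hnil h.left
      (congrArg (fun x => x.left) e1) (congrArg (fun x => x.left) e2)
  congr 1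
  apply Over.OverMorphism.ext
  exact key

/-- `h_h` formally unramified implies `h.left` formally unramified (Mathlib). -/
theorem formallyUnramified_of_yon_map (hh : AlgSp.IsFormallyUnramifiedMor ((AlgSp.yon S).map h)) :
    FormallyUnramified h.left := by
  refine FormallyUnramified.of_hom_ext h.left ?_
  intro R T φ hφ hker g₁ g₂ e1 e2
  let I : Ideal R := RingHom.ker φ.hom
  have hI : I ^ 2 = ⊥ := hker
  let ε : (R ⧸ I) ≃+* T := RingHom.quotientKerEquivOfSurjective hφ
  have hφε : φ = CommRingCat.ofHom (Ideal.Quotient.mk I) ≫ ε.toCommRingCatIso.hom := by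
    ext x
    rfl
  have e1' : Spec.map (CommRingCat.ofHom (Ideal.Quotient.mk I)) ≫ g₁ =
      Spec.map (CommRingCat.ofHom (Ideal.Quotient.mk I)) ≫ g₂ := by
    rw [hφε, Spec.map_comp, Category.assoc, Category.assoc] at e1
    haveI : IsIso (Spec.map ε.toCommRingCatIso.hom) := inferInstance
    exact (cancel_epi _).1 e1
  have w : Spec.map (CommRingCat.ofHom (Ideal.Quotient.mk I)) ≫ (g₁ ≫ h.left) =
      (Spec.map (CommRingCat.ofHom (Ideal.Quotient.mk I)) ≫ g₁) ≫ h.left := by
    rw [Category.assoc]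
  let sq := infSqOf h R I hI (Spec.map (CommRingCat.ofHom (Ideal.Quotient.mk I)) ≫ g₁)
    (g₁ ≫ h.left) w
  have hg₁w : g₁ ≫ U.hom = (g₁ ≫ h.left) ≫ V.hom := by rw [Category.assoc, Over.w h]
  have hg₂w : g₂ ≫ U.hom = (g₁ ≫ h.left) ≫ V.hom := by rw [e2, Category.assoc, Over.w h]
  let l₁ : sq.ptT' ⟶ U := Over.homMk g₁ hg₁w
  let l₂ : sq.ptT' ⟶ U := Over.homMk g₂ hg₂w
  have h1 := (lift_iff h R I hI _ _ w l₁).2 ⟨rfl, rfl⟩
  have h2 := (lift_iff h R I hI _ _ w l₂).2 ⟨e1'.symm, e2.symm⟩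
  have := hh sq _ _ h1.1 h1.2 h2.1 h2.2
  exact congrArg (fun x => x.left) ((AlgSp.yon S).map_injective this)

end Groth.Agent.Lib.T2H1.FormalYon
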