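import Mathlib
import Groth.Prelude.Def_AlgSpInf
import Groth.Agent.Lib.T2H1FormalDescent
import Groth.Agent.Lib.T2H1FormalYon
import Groth.Agent.S10618
import Groth.Agent.S10619

/-!
# Formal étaleness of morphisms of algebraic spaces on chart diagrams (helper1)
-/

set_option autoImplicit false
universe u
open CategoryTheory CategoryTheory.Limits AlgebraicGeometry Opposite
open AlgSp

namespace Groth.Agent.Lib.T2H1.FormalCharts2

open Groth.Agent.Lib.T2H1.RepEtale Groth.Agent.Lib.T2H1.FormalDescent Groth.Agent.Lib.T2H1.FormalYon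

variable {S : Scheme.{u}}

lemma isFormallyUnramifiedMor_of_etale {F G : AlgSp.Sp S} {a : F ⟶ G}
    (h : AlgSp.IsFormallyEtaleMor a) : AlgSp.IsFormallyUnramifiedMor a :=
  fun sq _ _ h1 h2 h3 h4 => (h sq).unique ⟨h1, h2⟩ ⟨h3, h4⟩

lemma isFormallySmoothMor_of_etale {F G : AlgSp.Sp S} {a : F ⟶ G}
    (h : AlgSp.IsFormallyEtaleMor a) : AlgSp.IsFormallySmoothMor a := fun sq => by
  obtain ⟨l, hl, -⟩ := h sq
  exact ⟨l, hl⟩

/-- a morphism of algebraic spaces has a chart diagram with surjective étale charts. -/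
theorem exists_surj_chart_diagram {X Y : AlgSp.Sp S} (hX : AlgSp.IsAlgSpace X)
    (hY : AlgSp.IsAlgSpace Y) (f : X ⟶ Y) :
    ∃ (U V : Over S) (a : (AlgSp.yon S).obj U ⟶ X) (b : (AlgSp.yon S).obj V ⟶ Y) (h : U ⟶ V),
      AlgSp.RepWith @Etale a ∧ AlgSp.RepWith @Surjective a ∧ AlgSp.RepWith @Etale b ∧
        AlgSp.RepWith @Surjective b ∧ a ≫ f = (AlgSp.yon S).map h ≫ b := by
  obtain ⟨U₀, p, hpe, hps⟩ := hX.atlas
  obtain ⟨V, q, hqe, hqs⟩ := hY.atlas
  obtain ⟨U, snd, fst', sq⟩ := hqe.1 (p ≫ f)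
  obtain ⟨h, rfl⟩ := (AlgSp.yon S).map_surjective fst'
  have he : AlgSp.RepWith @Etale ((AlgSp.yon S).map snd) :=
    MorphismProperty.of_isPullback (P := AlgSp.RepWith @Etale) sq hqe
  have hs : AlgSp.RepWith @Surjective ((AlgSp.yon S).map snd) :=
    MorphismProperty.of_isPullback (P := AlgSp.RepWith @Surjective) sq hqs
  refine ⟨U, V, (AlgSp.yon S).map snd ≫ p, q, h,
    (AlgSp.RepWith @Etale).comp_mem _ _ he hpe,
    (AlgSp.RepWith @Surjective).comp_mem _ _ hs hps, hqe, hqs, ?_⟩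
  rw [Category.assoc, sq.w]

/-- formal étaleness on one chart diagram with surjective source chart. -/
theorem isFormallyEtaleMor_of_chart {X Y : AlgSp.Sp S} (f : X ⟶ Y) {U V : Over S}
    (a : (AlgSp.yon S).obj U ⟶ X) (b : (AlgSp.yon S).obj V ⟶ Y) (h : U ⟶ V)
    (ha : AlgSp.RepWith @Etale a) (has : AlgSp.RepWith @Surjective a)
    (hb : AlgSp.RepWith @Etale b) (w : a ≫ f = (AlgSp.yon S).map h ≫ b)
    (hh : MoreMor.IsFormallyEtaleHom h.left) : AlgSp.IsFormallyEtaleMor f := by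
  have h1 : AlgSp.IsFormallyEtaleMor ((AlgSp.yon S).map h ≫ b) :=
    (Groth.Agent.S10619.result _ _).2.1 (isFormallyEtaleMor_yon_map h hh)
      (isFormallyEtaleMor_of_repWith b hb)
  rw [← w] at h1
  exact isFormallyEtaleMor_of_comp a ha has f h1

/-- a formally étale morphism is formally étale on every chart diagram. -/
theorem isFormallyEtaleHom_of_chart {X Y : AlgSp.Sp S} (f : X ⟶ Y)
    (hf : AlgSp.IsFormallyEtaleMor f) {U V : Over S}
    (a : (AlgSp.yon S).obj U ⟶ X) (b : (AlgSp.yon S).obj V ⟶ Y) (h : U ⟶ V)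
    (ha : AlgSp.RepWith @Etale a) (hb : AlgSp.RepWith @Etale b)
    (w : a ≫ f = (AlgSp.yon S).map h ≫ b) : MoreMor.IsFormallyEtaleHom h.left := by
  have h1 : AlgSp.IsFormallyEtaleMor (a ≫ f) :=
    (Groth.Agent.S10619.result _ _).2.1 (isFormallyEtaleMor_of_repWith a ha) hf
  rw [w] at h1
  have h2 := (Groth.Agent.S10618.result ((AlgSp.yon S).map h) b
    (isFormallyUnramifiedMor_of_etale (isFormallyEtaleMor_of_repWith b hb))).2.1 h1
  exact isFormallyEtaleHom_of_yon_map h h2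

end Groth.Agent.Lib.T2H1.FormalCharts2
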