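import Groth.Agent.Lib.T2H1Coprod2

/-!
# Free group actions on schemes give étale equivalence relations
-/

set_option autoImplicit false
universe u
open CategoryTheory CategoryTheory.Limits AlgebraicGeometry Opposite
open AlgSp

namespace Groth.Agent.Lib.T2H1.FreeAct

open Groth.Agent.S13210 Groth.Agent.S9878 Groth.Agent.Lib.Helper1.Sig
  Groth.Agent.Lib.Helper12.ZarGlue Groth.Agent.Lib.Helper12.MonoFactor Groth.Agent.Lib.T2H1.Coprod

variable {S : Scheme.{u}}

section Glue

/-- gluing maps to a sheaf along a pairwise disjoint open cover. -/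
theorem exists_glue_sheaf {T : Over S} {κ : Type u} (W : κ → T.left.Opens)
    (hd : ∀ i j, i ≠ j → Disjoint (W i) (W j)) (hcov : ∀ t : T.left, ∃ k, t ∈ W k)
    {G : AlgSp.Sp S} (α : ∀ k, (AlgSp.yon S).obj (Over.mk ((W k).ι ≫ T.hom)) ⟶ G) :
    ∃ a : (AlgSp.yon S).obj T ⟶ G, ∀ k,
      (AlgSp.yon S).map (Over.homMk (W k).ι rfl : Over.mk ((W k).ι ≫ T.hom) ⟶ T) ≫ a = α k := by
  have hsh : Presieve.IsSheaf (AlgSp.J S) G.obj := (isSheaf_iff_isSheaf_of_type _ _).1 G.property
  have hmem := ofArrows_opens_mem (W := T) W hcov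
  have h1 := hsh.isSheafFor _ hmem
  rw [Presieve.isSheafFor_arrows_iff] at h1
  obtain ⟨t, ht, -⟩ := h1 (fun k => yEquiv _ G (α k)) (by
    intro i j Z gi gj hg
    by_cases hij : i = j
    · subst hij
      haveI : Mono (Over.homMk (W i).ι rfl : Over.mk ((W i).ι ≫ T.hom) ⟶ T) :=
        le_mono _ (inferInstance : IsOpenImmersion (W i).ι)
      rw [(cancel_mono _).1 hg]
    · haveI : IsEmpty Z.left := ⟨fun z => by
        have h1 : (W i).ι (gi.left z) = (W j).ι (gj.left z) := congrArg (fun m => m.left z) hg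
        have h2 : (W i).ι (gi.left z) ∈ W i := (gi.left z).2
        have h3 : (W i).ι (gi.left z) ∈ W j := by rw [h1]; exact (gj.left z).2
        have h4 := (hd i j hij).le_bot
        exact h4 ⟨h2, h3⟩⟩
      exact eq_of_isEmpty _ _)
  refine ⟨(yEquiv _ G).symm t, fun k => ?_⟩
  apply (yEquiv _ G).injective
  rw [← map_yEquiv, Equiv.apply_symm_apply]
  exact ht k

/-- gluing morphisms of schemes over `S` along a pairwise disjoint open cover. -/
theorem exists_glue {T : Over S} {κ : Type u} (W : κ → T.left.Opens)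
    (hd : ∀ i j, i ≠ j → Disjoint (W i) (W j)) (hcov : ∀ t : T.left, ∃ k, t ∈ W k)
    {Z : Over S} (α : ∀ k, Over.mk ((W k).ι ≫ T.hom) ⟶ Z) :
    ∃ a : T ⟶ Z, ∀ k, (Over.homMk (W k).ι rfl : Over.mk ((W k).ι ≫ T.hom) ⟶ T) ≫ a = α k := by
  obtain ⟨a', ha'⟩ := exists_glue_sheaf W hd hcov (fun k => (AlgSp.yon S).map (α k))
  obtain ⟨a, rfl⟩ := (AlgSp.yon S).map_surjective a'
  exact ⟨a, fun k => (AlgSp.yon S).map_injective (by rw [Functor.map_comp]; exact ha' k)⟩

/-- morphisms of schemes over `S` agreeing Zariski locally agree. -/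
theorem hom_ext_cover {T Z : Over S} (a b : T ⟶ Z)
    (h : ∀ t : T.left, ∃ O : T.left.Opens, t ∈ O ∧
      (Over.homMk O.ι rfl : Over.mk (O.ι ≫ T.hom) ⟶ T) ≫ a = Over.homMk O.ι rfl ≫ b) : a = b := by
  apply (AlgSp.yon S).map_injective
  refine hom_ext_of_openCover _ _ (fun t => ?_)
  obtain ⟨O, hO, hab⟩ := h t
  exact ⟨O, hO, by rw [← Functor.map_comp, ← Functor.map_comp, hab]⟩

/-- a morphism to a coproduct of schemes decomposes the source into clopen pieces. -/
theorem exists_decomp {K : Type u} (A : K → Over S) {T : Over S} (r : T ⟶ sig A) :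
    ∃ W : K → T.left.Opens, (∀ i j, i ≠ j → Disjoint (W i) (W j)) ∧ (∀ t : T.left, ∃ k, t ∈ W k) ∧
      ∀ k, ∃ x : Over.mk ((W k).ι ≫ T.hom) ⟶ A k,
        x ≫ inj A k = (Over.homMk (W k).ι rfl : Over.mk ((W k).ι ≫ T.hom) ⟶ T) ≫ r := by
  obtain ⟨W, hd, hcov, hW⟩ := exists_clopen_decomposition (cofanSig A) (isColimitCofanSig A)
    ((AlgSp.yon S).map r)
  refine ⟨W, hd, fun t => ?_, fun k => ?_⟩
  · have ht : t ∈ ⨆ j, W j := by rw [hcov]; trivial
    exact TopologicalSpace.Opens.mem_iSup.1 ht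
  · obtain ⟨a, sq⟩ := hW k
    obtain ⟨x, rfl⟩ := (AlgSp.yon S).map_surjective a
    refine ⟨x, (AlgSp.yon S).map_injective ?_⟩
    rw [Functor.map_comp, Functor.map_comp]
    exact sq.w

/-- the coproduct of schemes over `S` is a coproduct in `Over S`. -/
noncomputable def isColimitSig {K : Type u} (A : K → Over S) :
    IsColimit (Cofan.mk (sig A) (inj A)) :=
  mkCofanColimit _ (fun s => Groth.Agent.Lib.Helper1.Sig.desc A s.inj)
    (fun s k => inj_desc A _ k)
    (fun s m hm => Groth.Agent.Lib.Helper1.Sig.hom_ext A _ _ (fun k => by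
      rw [inj_desc]
      exact hm k))

end Glue

section Epi

/-- the map on spectra induced by a residue field extension is an epimorphism of schemes. -/
lemma epi_specMap_residueFieldMap {X Y : Scheme.{u}} (f : X ⟶ Y) (x : X) :
    Epi (Spec.map (f.residueFieldMap x)) := by
  have hflat : Flat (Spec.map (f.residueFieldMap x)) := by
    rw [Flat.SpecMap_iff]
    letI := (f.residueFieldMap x).hom.toAlgebra
    show Module.Flat _ _
    infer_instance
  have hsurj : Surjective (Spec.map (f.residueFieldMap x)) :=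
    ⟨fun y => ⟨IsLocalRing.closedPoint _, Subsingleton.elim _ _⟩⟩
  exact Flat.epi_of_flat_of_surjective _

end Epi

section Action

variable (U : Over S) (G : Type u) [Group G] (ρ : G →* Aut U)

lemma rho_mul (g h : G) : (ρ (g * h)).hom = (ρ h).hom ≫ (ρ g).hom := by
  rw [map_mul]
  rfl

lemma rho_one : (ρ 1).hom = 𝟙 U := by
  rw [map_one]
  rfl

lemma rho_inv_cancel (g : G) : (ρ g).hom ≫ (ρ g⁻¹).hom = 𝟙 U := by
  rw [← rho_mul, inv_mul_cancel, rho_one]

variable {U G ρ}

/-- a free action has no fixed `T`-points on non-empty `T`. -/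
lemma isEmpty_of_fixed
    (hfree : ∀ (g : G) (x : U.left), g ≠ 1 →
      U.left.fromSpecResidueField x ≫ (ρ g).hom.left ≠ U.left.fromSpecResidueField x)
    {k : G} (hk : k ≠ 1) {T : Over S} (y : T ⟶ U) (hy : y ≫ (ρ k).hom = y) : IsEmpty T.left := by
  refine ⟨fun p => ?_⟩
  have h1 := Scheme.Hom.SpecMap_residueFieldMap_fromSpecResidueField y.left p
  refine hfree k (y.left p) hk ?_
  haveI := epi_specMap_residueFieldMap y.left p
  rw [← cancel_epi (Spec.map (y.left.residueFieldMap p)), ← Category.assoc, h1, Category.assoc]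
  congr 1
  exact congrArg (fun m => m.left) hy

/-- restriction between open pieces. -/
noncomputable def res {T : Over S} {O O' : T.left.Opens} (h : O ≤ O') :
    Over.mk (O.ι ≫ T.hom) ⟶ Over.mk (O'.ι ≫ T.hom) :=
  Over.homMk (T.left.homOfLE h) (by simp)

lemma res_comp {T : Over S} {O O' : T.left.Opens} (h : O ≤ O') :
    res h ≫ (Over.homMk O'.ι rfl : Over.mk (O'.ι ≫ T.hom) ⟶ T) = Over.homMk O.ι rfl := by
  ext1
  simp [res]

/-- restricting a decomposition to a smaller open. -/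
lemma restrict_eq {K : Type u} {A : K → Over S} {T : Over S} {r : T ⟶ sig A}
    {W : K → T.left.Opens} {x : ∀ k, Over.mk ((W k).ι ≫ T.hom) ⟶ A k}
    (hx : ∀ k, x k ≫ inj A k = (Over.homMk (W k).ι rfl : Over.mk ((W k).ι ≫ T.hom) ⟶ T) ≫ r)
    {O : T.left.Opens} {k : K} (h : O ≤ W k) :
    (Over.homMk O.ι rfl : Over.mk (O.ι ≫ T.hom) ⟶ T) ≫ r = (res h ≫ x k) ≫ inj A k := by
  rw [Category.assoc, hx, ← Category.assoc, res_comp]

section

variable (s t : sig (fun _ : G => U) ⟶ U) (hs : ∀ g, inj (fun _ : G => U) g ≫ s = 𝟙 U)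
  (ht : ∀ g, inj (fun _ : G => U) g ≫ t = (ρ g).hom)

include hs in
lemma restrict_s {T : Over S} {r : T ⟶ sig (fun _ : G => U)}
    {W : G → T.left.Opens} {x : ∀ k, Over.mk ((W k).ι ≫ T.hom) ⟶ U}
    (hx : ∀ k, x k ≫ inj (fun _ : G => U) k =
      (Over.homMk (W k).ι rfl : Over.mk ((W k).ι ≫ T.hom) ⟶ T) ≫ r)
    {O : T.left.Opens} {k : G} (h : O ≤ W k) :
    (Over.homMk O.ι rfl : Over.mk (O.ι ≫ T.hom) ⟶ T) ≫ r ≫ s = res h ≫ x k := by
  rw [← Category.assoc, restrict_eq hx h, Category.assoc, hs, Category.comp_id]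

include ht in
lemma restrict_t {T : Over S} {r : T ⟶ sig (fun _ : G => U)}
    {W : G → T.left.Opens} {x : ∀ k, Over.mk ((W k).ι ≫ T.hom) ⟶ U}
    (hx : ∀ k, x k ≫ inj (fun _ : G => U) k =
      (Over.homMk (W k).ι rfl : Over.mk ((W k).ι ≫ T.hom) ⟶ T) ≫ r)
    {O : T.left.Opens} {k : G} (h : O ≤ W k) :
    (Over.homMk O.ι rfl : Over.mk (O.ι ≫ T.hom) ⟶ T) ≫ r ≫ t = (res h ≫ x k) ≫ (ρ k).hom := by
  rw [← Category.assoc, restrict_eq hx h, Category.assoc, ht]

include hs ht in
/-- the equivalence relation `∐_{g ∈ G} U ⇉ U` of a free action. -/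
theorem isEqvRel_sig
    (hfree : ∀ (g : G) (x : U.left), g ≠ 1 →
      U.left.fromSpecResidueField x ≫ (ρ g).hom.left ≠ U.left.fromSpecResidueField x) :
    AlgSp.IsEqvRel s t := by
  constructor
  · intro T r r' htt hss
    obtain ⟨W, -, hcov, hW⟩ := exists_decomp (fun _ : G => U) r
    obtain ⟨W', -, hcov', hW'⟩ := exists_decomp (fun _ : G => U) r'
    choose x hx using hW
    choose x' hx' using hW'
    refine hom_ext_cover r r' (fun p => ?_)
    obtain ⟨g, hg⟩ := hcov p
    obtain ⟨h, hh⟩ := hcov' p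
    refine ⟨W g ⊓ W' h, ⟨hg, hh⟩, ?_⟩
    have e3 : res (inf_le_left : W g ⊓ W' h ≤ W g) ≫ x g =
        res (inf_le_right : W g ⊓ W' h ≤ W' h) ≫ x' h := by
      rw [← restrict_s s hs hx, ← restrict_s s hs hx', hss]
    have e4 : (res (inf_le_left : W g ⊓ W' h ≤ W g) ≫ x g) ≫ (ρ g).hom =
        (res (inf_le_right : W g ⊓ W' h ≤ W' h) ≫ x' h) ≫ (ρ h).hom := by
      rw [← restrict_t t ht hx, ← restrict_t t ht hx', htt]
    by_cases hgh : g = h
    · subst hgh
      rw [restrict_eq hx inf_le_left, restrict_eq hx' inf_le_right, e3]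
    · exfalso
      have hfix : (res (inf_le_left : W g ⊓ W' h ≤ W g) ≫ x g) ≫ (ρ (h⁻¹ * g)).hom =
          res (inf_le_left : W g ⊓ W' h ≤ W g) ≫ x g := by
        rw [rho_mul, ← Category.assoc, e4, ← e3, Category.assoc, rho_inv_cancel, Category.comp_id]
      have hk : h⁻¹ * g ≠ 1 := fun h1 => hgh (inv_mul_eq_one.1 h1).symm
      have hE := isEmpty_of_fixed hfree hk _ hfix
      exact hE.false ⟨p, hg, hh⟩
  · intro T
    refine ⟨fun a => ?_, fun {a b} hab => ?_, fun {a b c} hab hbc => ?_⟩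
    · exact ⟨a ≫ inj (fun _ : G => U) 1, by rw [Category.assoc, ht, rho_one, Category.comp_id],
        by rw [Category.assoc, hs, Category.comp_id]⟩
    · obtain ⟨r, hrt, hrs⟩ := hab
      obtain ⟨W, hd, hcov, hW⟩ := exists_decomp (fun _ : G => U) r
      choose x hx using hW
      obtain ⟨r', hr'⟩ := exists_glue W hd hcov
        (fun g => (x g ≫ (ρ g).hom) ≫ inj (fun _ : G => U) g⁻¹)
      have hres : ∀ g, res (le_refl (W g)) ≫ x g = x g := by
        intro g
        have : res (le_refl (W g)) = 𝟙 (Over.mk ((W g).ι ≫ T.hom)) := by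
          ext1
          simp [res]
        rw [this, Category.id_comp]
      refine ⟨r', ?_, ?_⟩
      · refine hom_ext_cover _ _ (fun p => ?_)
        obtain ⟨g, hg⟩ := hcov p
        refine ⟨W g, hg, ?_⟩
        rw [← hrs, restrict_s s hs hx (le_refl _), hres, ← Category.assoc, hr', Category.assoc, ht,
          Category.assoc, rho_inv_cancel, Category.comp_id]
      · refine hom_ext_cover _ _ (fun p => ?_)
        obtain ⟨g, hg⟩ := hcov p
        refine ⟨W g, hg, ?_⟩
        rw [← hrt, restrict_t t ht hx (le_refl _), hres, ← Category.assoc, hr', Category.assoc, hs,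
          Category.comp_id]
    · obtain ⟨r1, h1t, h1s⟩ := hab
      obtain ⟨r2, h2t, h2s⟩ := hbc
      obtain ⟨W1, hd1, hcov1, hW1⟩ := exists_decomp (fun _ : G => U) r1
      obtain ⟨W2, hd2, hcov2, hW2⟩ := exists_decomp (fun _ : G => U) r2
      choose x hx using hW1
      choose y hy using hW2
      have hdO : ∀ k k' : G × G, k ≠ k' →
          Disjoint (W1 k.1 ⊓ W2 k.2) (W1 k'.1 ⊓ W2 k'.2) := by
        rintro ⟨g, h⟩ ⟨g', h'⟩ hne
        by_cases hg : g = g'
        · have hh : h ≠ h' := fun hh => hne (by rw [hg, hh])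
          exact (hd2 h h' hh).mono inf_le_right inf_le_right
        · exact (hd1 g g' hg).mono inf_le_left inf_le_left
      have hcovO : ∀ p : T.left, ∃ k : G × G, p ∈ W1 k.1 ⊓ W2 k.2 := by
        intro p
        obtain ⟨g, hg⟩ := hcov1 p
        obtain ⟨h, hh⟩ := hcov2 p
        exact ⟨(g, h), hg, hh⟩
      obtain ⟨r3, hr3⟩ := exists_glue (fun k : G × G => W1 k.1 ⊓ W2 k.2) hdO hcovO
        (fun k => (res inf_le_right ≫ y k.2) ≫ inj (fun _ : G => U) (k.1 * k.2))
      have hb : ∀ k : G × G, res (inf_le_left : W1 k.1 ⊓ W2 k.2 ≤ W1 k.1) ≫ x k.1 =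
          (res (inf_le_right : W1 k.1 ⊓ W2 k.2 ≤ W2 k.2) ≫ y k.2) ≫ (ρ k.2).hom := by
        intro k
        rw [← restrict_s s hs hx, ← restrict_t t ht hy, h1s, h2t]
      refine ⟨r3, ?_, ?_⟩
      · refine hom_ext_cover _ _ (fun p => ?_)
        obtain ⟨k, hk⟩ := hcovO p
        refine ⟨W1 k.1 ⊓ W2 k.2, hk, ?_⟩
        rw [← h1t, restrict_t t ht hx (inf_le_left : W1 k.1 ⊓ W2 k.2 ≤ W1 k.1), hb,
          ← Category.assoc, hr3, Category.assoc, ht, rho_mul]
        simp only [Category.assoc]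
      · refine hom_ext_cover _ _ (fun p => ?_)
        obtain ⟨k, hk⟩ := hcovO p
        refine ⟨W1 k.1 ⊓ W2 k.2, hk, ?_⟩
        rw [← h2s, restrict_s s hs hy (inf_le_right : W1 k.1 ⊓ W2 k.2 ≤ W2 k.2),
          ← Category.assoc, hr3, Category.assoc, hs, Category.comp_id]

include hs in
lemma etale_s : Etale s.left := by
  refine (IsZariskiLocalAtSource.iff_of_openCover (P := @Etale) (f := s.left)
    (sigmaOpenCover (fun _ : G => U.left))).2 ?_
  intro g
  have h2 : Etale (inj (fun _ : G => U) g ≫ s).left := by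
    rw [hs]
    exact inferInstanceAs (Etale (𝟙 U.left))
  exact h2

include ht in
lemma etale_t : Etale t.left := by
  refine (IsZariskiLocalAtSource.iff_of_openCover (P := @Etale) (f := t.left)
    (sigmaOpenCover (fun _ : G => U.left))).2 ?_
  intro g
  have h2 : Etale (inj (fun _ : G => U) g ≫ t).left := by
    rw [ht]
    haveI : IsIso (ρ g).hom.left := inferInstanceAs (IsIso ((Over.forget S).map (ρ g).hom))
    infer_instance
  exact h2

end

/-- étale equivalence relations transport along isomorphisms of the relation object. -/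
theorem isEtaleEqvRel_of_iso {R R' U : Over S} (e : R ≅ R') {s' t' : R' ⟶ U}
    (h : AlgSp.IsEtaleEqvRel s' t') : AlgSp.IsEtaleEqvRel (e.hom ≫ s') (e.hom ≫ t') := by
  refine ⟨⟨?_, ?_⟩, ?_, ?_⟩
  · intro T r r' h1 h2
    rw [← cancel_mono e.hom]
    exact h.injective T _ _ (by simpa only [Category.assoc] using h1)
      (by simpa only [Category.assoc] using h2)
  · intro T
    have : (fun a b : T ⟶ U => ∃ r : T ⟶ R, r ≫ e.hom ≫ t' = a ∧ r ≫ e.hom ≫ s' = b) =
        (fun a b : T ⟶ U => ∃ r : T ⟶ R', r ≫ t' = a ∧ r ≫ s' = b) := by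
      funext a b
      apply propext
      constructor
      · rintro ⟨r, h1, h2⟩
        exact ⟨r ≫ e.hom, by rw [Category.assoc, h1], by rw [Category.assoc, h2]⟩
      · rintro ⟨r, h1, h2⟩
        exact ⟨r ≫ e.inv, by rw [Category.assoc, e.inv_hom_id_assoc, h1],
          by rw [Category.assoc, e.inv_hom_id_assoc, h2]⟩
    rw [this]
    exact h.equivalence T
  · haveI := h.etale_left
    haveI : IsIso e.hom.left := inferInstanceAs (IsIso ((Over.forget S).map e.hom))
    exact inferInstanceAs (Etale (e.hom.left ≫ s'.left))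
  · haveI := h.etale_right
    haveI : IsIso e.hom.left := inferInstanceAs (IsIso ((Over.forget S).map e.hom))
    exact inferInstanceAs (Etale (e.hom.left ≫ t'.left))

/-- **a free action of a group on a scheme gives an étale equivalence relation**. -/
theorem isEtaleEqvRel_of_free
    (hfree : ∀ (g : G) (x : U.left), g ≠ 1 →
      U.left.fromSpecResidueField x ≫ (ρ g).hom.left ≠ U.left.fromSpecResidueField x)
    (c : Cofan (fun _ : G => U)) (hc : IsColimit c) (s t : c.pt ⟶ U)
    (hs : ∀ g, c.inj g ≫ s = 𝟙 U) (ht : ∀ g, c.inj g ≫ t = (ρ g).hom) :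
    AlgSp.IsEtaleEqvRel s t := by
  let e : c.pt ≅ sig (fun _ : G => U) :=
    hc.coconePointUniqueUpToIso (isColimitSig (fun _ : G => U))
  have he : ∀ g, inj (fun _ : G => U) g ≫ e.inv = c.inj g := fun g =>
    IsColimit.comp_coconePointUniqueUpToIso_inv hc (isColimitSig (fun _ : G => U)) ⟨g⟩
  have hs' : ∀ g, inj (fun _ : G => U) g ≫ e.inv ≫ s = 𝟙 U := fun g => by
    rw [← Category.assoc, he, hs]
  have ht' : ∀ g, inj (fun _ : G => U) g ≫ e.inv ≫ t = (ρ g).hom := fun g => by
    rw [← Category.assoc, he, ht]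
  have h1 : AlgSp.IsEtaleEqvRel (e.inv ≫ s) (e.inv ≫ t) :=
    ⟨isEqvRel_sig _ _ hs' ht' hfree, etale_s _ hs', etale_t _ ht'⟩
  have h2 := isEtaleEqvRel_of_iso e h1
  rwa [e.hom_inv_id_assoc, e.hom_inv_id_assoc] at h2

end Action

end Groth.Agent.Lib.T2H1.FreeAct
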