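import Mathlib
import Groth.Prelude
import Groth.Agent.Lib.T2H1GUGenFibre

/-!
# Connectedness of complements over a geometrically unibranch base: the scheme version
(helper1, team 2)

Namespace `Groth.Agent.Lib.T2H1.GUGenFibreSch`.
-/

set_option autoImplicit false
universe u
open TensorProduct IsLocalRing

namespace Groth.Agent.Lib.T2H1.GUGenFibreSch

section RingLevel

/-- the local theorem with a ring-theoretic hypothesis on the fibres. -/
theorem isConnected_compl_of_hred (A B : Type u) [CommRing A] [IsLocalRing A]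
    [IsNoetherianRing A] [CommRing B] [IsLocalRing B] [Algebra A B]
    [IsLocalHom (algebraMap A B)] [Module.Flat A B]
    (hred : ∀ (F : Type u) [Field F] [Algebra A F], IsReduced (F ⊗[A] B))
    (hA : CAlg2.IsGeomUnibranch A)
    (T : Set (PrimeSpectrum B))
    (hT' : interior (closure (PrimeSpectrum.comap (algebraMap A B) '' T)) = ∅) :
    IsConnected Tᶜ := by
  haveI : Module.FaithfullyFlat A B := Module.FaithfullyFlat.of_flat_of_isLocalHom
  haveI hdom : IsDomain (CAlg2.red A) := hA.1.1
  haveI hprime : (nilradical A).IsPrime := (Ideal.Quotient.isDomain_iff_prime _).mp hdom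
  haveI : IsLocalRing (CAlg2.red A) :=
    IsLocalRing.of_surjective' (Ideal.Quotient.mk (nilradical A)) Ideal.Quotient.mk_surjective
  have htriv : ∀ e : FractionRing (CAlg2.red A) ⊗[A] B, IsIdempotentElem e → e = 0 ∨ e = 1 := by
    intro e he
    refine Groth.Agent.Lib.T2H1.IdemCore.idem_trivial_of_fraction A B (CAlg2.red A)
      (FractionRing (CAlg2.red A)) hred ?_ e he
    intro Λ hΛ t ht
    haveI := hΛ
    haveI : IsLocalRing (Λ ⊗[A] B) :=
      Groth.Agent.Lib.T2H1.GUGenFibre.isLocalRing_tensor_of_isGeomUnibranch A B hA Λ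
    exact Groth.Agent.Lib.T2H1.IdemNormal.eq_zero_or_eq_one_of_isIdempotentElem
      (R := Λ ⊗[A] B) ht
  let p₀ : PrimeSpectrum A := ⟨nilradical A, hprime⟩
  let ε₀ : FractionRing (CAlg2.red A) ≃ₐ[A] p₀.asIdeal.ResidueField :=
    (FractionRing.algEquiv (A ⧸ nilradical A) p₀.asIdeal.ResidueField).restrictScalars A
  let ε : FractionRing (CAlg2.red A) ⊗[A] B ≃ₐ[A] p₀.asIdeal.Fiber B :=
    Algebra.TensorProduct.congr ε₀ AlgEquiv.refl
  haveI : Nontrivial (p₀.asIdeal.Fiber B) :=
    Module.FaithfullyFlat.rTensor_nontrivial A B p₀.asIdeal.ResidueField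
  haveI : ConnectedSpace (PrimeSpectrum (p₀.asIdeal.Fiber B)) := by
    apply Groth.Agent.Lib.Helper14Idem.connected_of_idem_trivial
    intro e he
    have h1 : IsIdempotentElem (ε.symm e) := by rw [IsIdempotentElem, ← map_mul, he.eq]
    rcases htriv _ h1 with h2 | h2
    · left; exact ε.symm.injective (by rw [h2, map_zero])
    · right; exact ε.symm.injective (by rw [h2, map_one])
  refine Groth.Agent.Lib.T2H1.GUGenFibre.isConnected_compl_of_connectedSpace_fiber p₀ ?_ T hT'
  intro q
  rw [← PrimeSpectrum.le_iff_specializes]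
  exact nilradical_le_prime q.asIdeal

/-- reducedness of fibres passes to localizations of source and target. -/
theorem isReduced_tensor_of_isLocalization {R S A B : Type u} [CommRing R] [CommRing S]
    [CommRing A] [CommRing B] [Algebra R S] [Algebra R A] [Algebra S B] [Algebra A B] [Algebra R B]
    [IsScalarTower R S B] [IsScalarTower R A B]
    (M : Submonoid R) [IsLocalization M A] (N : Submonoid S) [IsLocalization N B]
    (F : Type u) [Field F] [Algebra A F] [Algebra R F] [IsScalarTower R A F]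
    (hRS : IsReduced (F ⊗[R] S)) : IsReduced (F ⊗[A] B) := by
  -- `S ⊗[R] F` is reduced
  haveI h1 : IsReduced (S ⊗[R] F) :=
    isReduced_of_injective (Algebra.TensorProduct.comm R S F)
      (Algebra.TensorProduct.comm R S F).injective
  -- its localization `(S ⊗[R] F) ⊗[S] B` is reduced
  haveI h2 : IsReduced ((S ⊗[R] F) ⊗[S] B) :=
    isReduced_localizationPreserves (Algebra.algebraMapSubmonoid (S ⊗[R] F) N) _ h1
  -- chain of isomorphisms
  let e1 : F ⊗[A] B ≃ₐ[A] F ⊗[R] B := IsLocalization.algebraTensorEquiv M A F B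
  let e2 : F ⊗[R] B ≃ₐ[R] B ⊗[R] F := Algebra.TensorProduct.comm R F B
  let e3 : B ⊗[S] (S ⊗[R] F) ≃ₐ[S] B ⊗[R] F := Algebra.TensorProduct.cancelBaseChange R S S B F
  let e4 : B ⊗[S] (S ⊗[R] F) ≃ₐ[S] (S ⊗[R] F) ⊗[S] B := Algebra.TensorProduct.comm S B (S ⊗[R] F)
  let ψ : F ⊗[A] B →+* (S ⊗[R] F) ⊗[S] B :=
    (e4.toRingEquiv.toRingHom.comp e3.symm.toRingEquiv.toRingHom).comp
      (e2.toRingEquiv.toRingHom.comp e1.toRingEquiv.toRingHom)
  have hψ : Function.Injective ψ := by
    intro a b hab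
    apply e1.injective
    apply e2.injective
    apply e3.symm.injective
    apply e4.injective
    exact hab
  exact isReduced_of_injective ψ hψ

end RingLevel

section GeomRed

open AlgebraicGeometry CategoryTheory Limits

/-- precomposing a geometrically reduced morphism with an open immersion. -/
theorem geometricallyReduced_comp_of_isOpenImmersion {U X Y : Scheme.{u}} (j : U ⟶ X) (g : X ⟶ Y)
    [IsOpenImmersion j] [hg : GeometricallyReduced g] : GeometricallyReduced (j ≫ g) := by
  refine ⟨?_⟩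
  intro K _ y Z fst snd h
  have hW : AlgebraicGeometry.IsReduced (pullback g y) := pullback_of_geometrically hg.1 K y
  let t : Z ⟶ pullback g y := pullback.lift (fst ≫ j) snd (by rw [Category.assoc]; exact h.w)
  have hsq : IsPullback t fst (pullback.fst g y) j := by
    refine IsPullback.of_right (h₁₂ := pullback.snd g y) (h₂₂ := g) (v₁₃ := y) ?_ ?_
      (IsPullback.of_hasPullback g y).flip
    · have : t ≫ pullback.snd g y = snd := pullback.lift_snd _ _ _
      rw [this]
      exact h.flip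
    · exact pullback.lift_fst _ _ _
  haveI : IsOpenImmersion t := MorphismProperty.of_isPullback (P := @IsOpenImmersion) hsq.flip
    inferInstance
  exact isReduced_of_isOpenImmersion t

/-- cancelling a monomorphism on the right. -/
theorem geometricallyReduced_of_comp_mono {X V Y : Scheme.{u}} (a : X ⟶ V) (j : V ⟶ Y) [Mono j]
    [h : GeometricallyReduced (a ≫ j)] : GeometricallyReduced a := by
  have sq : IsPullback (𝟙 X) a (a ≫ j) j := IsPullback.of_horiz_isIso_mono ⟨by simp⟩
  exact MorphismProperty.of_isPullback (P := @GeometricallyReduced) sq h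

/-- the fibres of the stalk maps of a geometrically reduced morphism are geometrically reduced,
in ring-theoretic form. -/
theorem isReduced_tensor_stalk {X Y : Scheme.{u}} (f : X ⟶ Y) [GeometricallyReduced f] (x : X)
    (F : Type u) [Field F] [Algebra (Y.presheaf.stalk (f x)) F] :
    letI := (f.stalkMap x).hom.toAlgebra
    IsReduced (F ⊗[Y.presheaf.stalk (f x)] X.presheaf.stalk x) := by
  obtain ⟨V, hV, hfx, -⟩ := exists_isAffineOpen_mem_and_subset (show f x ∈ (⊤ : Y.Opens) from trivial)
  obtain ⟨U, hU, hx, hUV⟩ := exists_isAffineOpen_mem_and_subset (show x ∈ f ⁻¹ᵁ V from hfx)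
  have e : U ≤ f ⁻¹ᵁ V := hUV
  letI algRS : Algebra Γ(Y, V) Γ(X, U) := (f.appLE V U e).hom.toAlgebra
  haveI hgr : GeometricallyReduced (Spec.map (CommRingCat.ofHom (algebraMap Γ(Y, V) Γ(X, U)))) := by
    haveI : GeometricallyReduced (hU.fromSpec ≫ f) :=
      geometricallyReduced_comp_of_isOpenImmersion _ _
    have e1 : Spec.map (f.appLE V U e) ≫ hV.fromSpec = hU.fromSpec ≫ f :=
      IsAffineOpen.SpecMap_appLE_fromSpec f hV hU e
    haveI : GeometricallyReduced (Spec.map (f.appLE V U e) ≫ hV.fromSpec) := e1 ▸ inferInstance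
    exact geometricallyReduced_of_comp_mono (Spec.map (f.appLE V U e)) hV.fromSpec
  letI algRA : Algebra Γ(Y, V) (Y.presheaf.stalk (f x)) :=
    Y.presheaf.algebra_section_stalk ⟨f x, hfx⟩
  letI algSB : Algebra Γ(X, U) (X.presheaf.stalk x) := X.presheaf.algebra_section_stalk ⟨x, hx⟩
  letI algAB : Algebra (Y.presheaf.stalk (f x)) (X.presheaf.stalk x) := (f.stalkMap x).hom.toAlgebra
  letI algRB : Algebra Γ(Y, V) (X.presheaf.stalk x) :=
    ((algebraMap Γ(X, U) (X.presheaf.stalk x)).comp (algebraMap Γ(Y, V) Γ(X, U))).toAlgebra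
  haveI : IsScalarTower Γ(Y, V) Γ(X, U) (X.presheaf.stalk x) := IsScalarTower.of_algebraMap_eq' rfl
  haveI : IsScalarTower Γ(Y, V) (Y.presheaf.stalk (f x)) (X.presheaf.stalk x) := by
    refine IsScalarTower.of_algebraMap_eq' ?_
    ext a
    simp only [RingHom.algebraMap_toAlgebra, RingHom.coe_comp, Function.comp_apply,
      TopCat.Presheaf.stalk_open_algebraMap, Scheme.Hom.germ_stalkMap_apply, Scheme.Hom.appLE,
      homOfLE_leOfHom, CommRingCat.hom_comp, X.presheaf.germ_res_apply]
  letI algRF : Algebra Γ(Y, V) F :=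
    ((algebraMap (Y.presheaf.stalk (f x)) F).comp
      (algebraMap Γ(Y, V) (Y.presheaf.stalk (f x)))).toAlgebra
  haveI : IsScalarTower Γ(Y, V) (Y.presheaf.stalk (f x)) F := IsScalarTower.of_algebraMap_eq' rfl
  haveI := hV.isLocalization_stalk ⟨f x, hfx⟩
  haveI := hU.isLocalization_stalk ⟨x, hx⟩
  have hRS : IsReduced (F ⊗[Γ(Y, V)] Γ(X, U)) :=
    Groth.Agent.Lib.T2H1.IdemHens.isReduced_tensor_of_geometricallyReduced Γ(Y, V) Γ(X, U) F
  exact isReduced_tensor_of_isLocalization (R := Γ(Y, V)) (S := Γ(X, U))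
    (hV.primeIdealOf ⟨f x, hfx⟩).asIdeal.primeCompl (hU.primeIdealOf ⟨x, hx⟩).asIdeal.primeCompl
    F hRS

end GeomRed

section Top

open TopologicalSpace

/-- In a Noetherian quasi-sober space, a point in the closure of an open set is a specialization
of a point of the open set. -/
theorem exists_mem_specializes_of_mem_closure_noeth {W : Type*} [TopologicalSpace W]
    [NoetherianSpace W] [QuasiSober W]
    {U : Set W} (hU : IsOpen U) {x : W} (hx : x ∈ closure U) : ∃ ξ ∈ U, ξ ⤳ x := by
  have hfin : (irreducibleComponents W).Finite := NoetherianSpace.finite_irreducibleComponents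
  have hUeq : U = ⋃ Z ∈ irreducibleComponents W, (U ∩ Z) := by
    ext w
    simp only [Set.mem_iUnion, Set.mem_inter_iff, exists_and_left, exists_prop]
    constructor
    · intro hw
      exact ⟨hw, irreducibleComponent w, irreducibleComponent_mem_irreducibleComponents w,
        mem_irreducibleComponent⟩
    · rintro ⟨hw, -⟩
      exact hw
  rw [hUeq, hfin.closure_biUnion] at hx
  simp only [Set.mem_iUnion, exists_prop] at hx
  obtain ⟨Z, hZ, hxZ⟩ := hx
  have hZc : IsClosed Z := isClosed_of_mem_irreducibleComponents Z hZ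
  have hZi : IsIrreducible Z := hZ.1
  obtain ⟨ξ, hξ⟩ := QuasiSober.sober hZi hZc
  have hne : (Z ∩ U).Nonempty := by
    have : (closure (U ∩ Z)).Nonempty := ⟨x, hxZ⟩
    obtain ⟨w, hw⟩ := closure_nonempty_iff.mp this
    exact ⟨w, hw.2, hw.1⟩
  refine ⟨ξ, (hξ.mem_open_set_iff hU).mpr hne, ?_⟩
  rw [specializes_iff_mem_closure, hξ.def]
  exact (closure_minimal Set.inter_subset_right hZc) hxZ

/-- In a Noetherian quasi-sober space, a point without proper generizations lies in the interior
of its closure. -/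
theorem mem_interior_closure_singleton_noeth {W : Type*} [TopologicalSpace W]
    [NoetherianSpace W] [QuasiSober W] {η : W}
    (hη : ∀ ζ : W, ζ ⤳ η → η ⤳ ζ) : η ∈ interior (closure {η}) := by
  have hfin : (irreducibleComponents W).Finite := NoetherianSpace.finite_irreducibleComponents
  set Z := irreducibleComponent η with hZdef
  have hZ : Z ∈ irreducibleComponents W := irreducibleComponent_mem_irreducibleComponents η
  have hZc : IsClosed Z := isClosed_irreducibleComponent
  have hZi : IsIrreducible Z := isIrreducible_irreducibleComponent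
  have hηZ : η ∈ Z := mem_irreducibleComponent
  obtain ⟨ξ, hξ⟩ := QuasiSober.sober hZi hZc
  have h1 : ξ ⤳ η := by
    rw [specializes_iff_mem_closure, hξ.def]
    exact hηZ
  have h2 : η ⤳ ξ := hη ξ h1
  have hcl : closure ({η} : Set W) = Z := by
    apply le_antisymm
    · exact closure_minimal (Set.singleton_subset_iff.mpr hηZ) hZc
    · rw [← hξ.def]
      exact closure_minimal (Set.singleton_subset_iff.mpr (specializes_iff_mem_closure.mp h2))
        isClosed_closure
  have hDc : IsClosed (⋃₀ (irreducibleComponents W \ {Z})) := by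
    rw [Set.sUnion_eq_biUnion]
    exact (hfin.subset Set.diff_subset).isClosed_biUnion
      (fun s hs => isClosed_of_mem_irreducibleComponents s hs.1)
  rw [mem_interior]
  refine ⟨(⋃₀ (irreducibleComponents W \ {Z}))ᶜ, ?_, hDc.isOpen_compl, ?_⟩
  · intro w hw
    rw [hcl]
    by_contra hwZ
    apply hw
    refine ⟨irreducibleComponent w, ⟨irreducibleComponent_mem_irreducibleComponents w, ?_⟩,
      mem_irreducibleComponent⟩
    intro heq
    rw [Set.mem_singleton_iff] at heq
    apply hwZ
    rw [← heq]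
    exact mem_irreducibleComponent
  · rintro ⟨Z', ⟨hZ', hne⟩, hηZ'⟩
    apply hne
    rw [Set.mem_singleton_iff]
    have hsub : Z ⊆ Z' := by
      rw [← hcl]
      exact closure_minimal (Set.singleton_subset_iff.mpr hηZ')
        (isClosed_of_mem_irreducibleComponents Z' hZ')
    exact (hZ.eq_of_subset hZ'.1 hsub).symm

variable {X : Type*} [TopologicalSpace X]

theorem exists_mem_specializes_of_mem_closure
    (hloc : ∀ x : X, ∃ W : Set X, IsOpen W ∧ x ∈ W ∧ NoetherianSpace W ∧ QuasiSober W)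
    {U : Set X} (hU : IsOpen U) {x : X} (hx : x ∈ closure U) : ∃ ξ ∈ U, ξ ⤳ x := by
  obtain ⟨W, hWo, hxW, hN, hQ⟩ := hloc x
  haveI := hN
  haveI := hQ
  have h1 : x ∈ closure (W ∩ U) := hWo.inter_closure ⟨hxW, hx⟩
  have h2 : (⟨x, hxW⟩ : W) ∈ closure ((Subtype.val : W → X) ⁻¹' U) := by
    apply closure_subtype.mpr
    rw [Subtype.image_preimage_coe]
    exact h1
  obtain ⟨ξ, hξU, hξx⟩ := exists_mem_specializes_of_mem_closure_noeth
    (hU.preimage continuous_subtype_val) h2
  exact ⟨ξ.1, hξU, hξx.map continuous_subtype_val⟩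

theorem mem_interior_closure_singleton
    (hloc : ∀ x : X, ∃ W : Set X, IsOpen W ∧ x ∈ W ∧ NoetherianSpace W ∧ QuasiSober W)
    {η : X} (hη : ∀ ζ : X, ζ ⤳ η → η ⤳ ζ) : η ∈ interior (closure {η}) := by
  obtain ⟨W, hWo, hηW, hN, hQ⟩ := hloc η
  haveI := hN
  haveI := hQ
  have hη' : ∀ ζ : W, ζ ⤳ (⟨η, hηW⟩ : W) → (⟨η, hηW⟩ : W) ⤳ ζ := by
    intro ζ hζ
    rw [subtype_specializes_iff] at hζ ⊢
    exact hη ζ.1 hζ
  have h1 := mem_interior_closure_singleton_noeth hη'
  rw [mem_interior] at h1 ⊢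
  obtain ⟨D, hDsub, hDo, hηD⟩ := h1
  refine ⟨Subtype.val '' D, ?_, hWo.isOpenMap_subtype_val D hDo, ⟨_, hηD, rfl⟩⟩
  rintro _ ⟨w, hw, rfl⟩
  have h2 := closure_subtype.mp (hDsub hw)
  rw [Set.image_singleton] at h2
  exact h2

end Top

section Main

open AlgebraicGeometry CategoryTheory TopologicalSpace

theorem hloc_of_isLocallyNoetherian (X : Scheme.{u}) [IsLocallyNoetherian X] :
    ∀ x : X, ∃ W : Set X, IsOpen W ∧ x ∈ W ∧ NoetherianSpace W ∧ QuasiSober W := by
  intro x
  obtain ⟨W, hW, hxW, -⟩ := exists_isAffineOpen_mem_and_subset (show x ∈ (⊤ : X.Opens) from trivial)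
  haveI : IsNoetherianRing Γ(X, W) := IsLocallyNoetherian.component_noetherian ⟨W, hW⟩
  refine ⟨W, W.isOpen, hxW, noetherianSpace_of_isAffineOpen W hW, ?_⟩
  exact W.isOpen.isOpenEmbedding_subtypeVal.quasiSober

/-- the image of the generic point of `Spec 𝒪_{Y,y}` avoids every nowhere dense closed subset. -/
theorem genericPoint_notMem {Y : Scheme.{u}} [IsLocallyNoetherian Y] (y : Y)
    (hprime : (nilradical (Y.presheaf.stalk y)).IsPrime) (C : Set Y) (hC : IsClosed C)
    (hCi : interior C = ∅) :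
    (Y.fromSpecStalk y) (⟨nilradical (Y.presheaf.stalk y), hprime⟩ :
      PrimeSpectrum (Y.presheaf.stalk y)) ∉ C := by
  set p₀ : PrimeSpectrum (Y.presheaf.stalk y) := ⟨nilradical (Y.presheaf.stalk y), hprime⟩
  intro hη
  have hmax : ∀ ζ : Y, ζ ⤳ (Y.fromSpecStalk y) p₀ → (Y.fromSpecStalk y) p₀ ⤳ ζ := by
    intro ζ hζ
    have hηy : (Y.fromSpecStalk y) p₀ ⤳ y := by
      have h1 : (Y.fromSpecStalk y) p₀ ∈ Set.range (Y.fromSpecStalk y) := ⟨p₀, rfl⟩
      rw [Scheme.range_fromSpecStalk] at h1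
      exact h1
    have hζy : ζ ∈ Set.range (Y.fromSpecStalk y) := by
      rw [Scheme.range_fromSpecStalk]
      exact hζ.trans hηy
    obtain ⟨p', rfl⟩ := hζy
    have h2 : p' ⤳ p₀ :=
      ((Y.fromSpecStalk y).isEmbedding.isInducing.specializes_iff).mp hζ
    have hle : PrimeSpectrum.asIdeal p' ≤ p₀.asIdeal :=
      (PrimeSpectrum.le_iff_specializes (R := Y.presheaf.stalk y) p' p₀).mpr h2
    have heq : (p' : PrimeSpectrum (Y.presheaf.stalk y)) = p₀ :=
      PrimeSpectrum.ext (le_antisymm hle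
        (@nilradical_le_prime _ _ (PrimeSpectrum.asIdeal p') (PrimeSpectrum.isPrime p')))
    rw [heq]
  have h3 := mem_interior_closure_singleton (hloc_of_isLocallyNoetherian Y) hmax
  have hsub : closure {(Y.fromSpecStalk y) p₀} ⊆ C :=
    closure_minimal (Set.singleton_subset_iff.mpr hη) hC
  have h4 := interior_mono hsub h3
  rw [hCi] at h4
  exact h4

/-- **Main theorem** (EGA IV 15.6.x, scheme form). -/
theorem isConnected_compl {X Y : Scheme.{u}} [IsLocallyNoetherian X]
    [IsLocallyNoetherian Y] [ConnectedSpace ↥X]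
    (hY : ∀ y : Y, CAlg2.IsGeomUnibranch (Y.presheaf.stalk y))
    (f : X ⟶ Y) [Flat f] [GeometricallyReduced f]
    (T : Set ↥X) (hT : IsClosed T) (hT' : interior (closure (f.base '' T)) = ∅) :
    IsConnected Tᶜ := by
  -- local data at a point
  have hprime : ∀ y : Y, (nilradical (Y.presheaf.stalk y)).IsPrime := fun y =>
    (Ideal.Quotient.isDomain_iff_prime _).mp (hY y).1.1
  have hK : ∀ y : Y, (Y.fromSpecStalk y) (⟨nilradical (Y.presheaf.stalk y), hprime y⟩ :
      PrimeSpectrum (Y.presheaf.stalk y)) ∉ closure (f.base '' T) := fun y =>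
    genericPoint_notMem y (hprime y) _ isClosed_closure hT'
  have hsq : ∀ (x : X) (Q : PrimeSpectrum (X.presheaf.stalk x)),
      f ((X.fromSpecStalk x) Q) =
        (Y.fromSpecStalk (f x)) (PrimeSpectrum.comap (f.stalkMap x).hom Q) := by
    intro x Q
    have h1 := Scheme.SpecMap_stalkMap_fromSpecStalk (f := f) (x := x)
    have h2 := congrArg (fun φ => φ.base Q) h1
    simp only [Scheme.Hom.comp_base, TopCat.hom_comp, ContinuousMap.comp_apply] at h2
    exact h2.symm
  -- the local theorem at a point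
  have hlocal : ∀ (x : X), _root_.IsPreconnected
      ({Q : PrimeSpectrum (X.presheaf.stalk x) | (X.fromSpecStalk x) Q ∈ T}ᶜ) := by
    intro x
    letI : Algebra (Y.presheaf.stalk (f x)) (X.presheaf.stalk x) := (f.stalkMap x).hom.toAlgebra
    haveI : IsLocalHom (algebraMap (Y.presheaf.stalk (f x)) (X.presheaf.stalk x)) :=
      inferInstanceAs (IsLocalHom (f.stalkMap x).hom)
    haveI : Module.Flat (Y.presheaf.stalk (f x)) (X.presheaf.stalk x) := Flat.stalkMap f x
    have hred := fun (F : Type u) [Field F] [Algebra (Y.presheaf.stalk (f x)) F] =>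
      isReduced_tensor_stalk f x F
    refine (isConnected_compl_of_hred (Y.presheaf.stalk (f x)) (X.presheaf.stalk x) hred
      (hY (f x)) _ ?_).isPreconnected
    -- nowhere density of the image
    set p₀ : PrimeSpectrum (Y.presheaf.stalk (f x)) :=
      ⟨nilradical (Y.presheaf.stalk (f x)), hprime (f x)⟩
    set S : Set (PrimeSpectrum (Y.presheaf.stalk (f x))) :=
      PrimeSpectrum.comap (algebraMap (Y.presheaf.stalk (f x)) (X.presheaf.stalk x)) ''
        {Q : PrimeSpectrum (X.presheaf.stalk x) | (X.fromSpecStalk x) Q ∈ T}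
    have hp₀ : p₀ ∉ closure S := by
      have hcl : IsClosed ((fun p : PrimeSpectrum (Y.presheaf.stalk (f x)) =>
          (Y.fromSpecStalk (f x)) p) ⁻¹' closure (f.base '' T)) :=
        isClosed_closure.preimage (Y.fromSpecStalk (f x)).continuous
      have hsub : S ⊆ (fun p : PrimeSpectrum (Y.presheaf.stalk (f x)) =>
          (Y.fromSpecStalk (f x)) p) ⁻¹' closure (f.base '' T) := by
        rintro _ ⟨Q, hQ, rfl⟩
        apply subset_closure
        refine ⟨(X.fromSpecStalk x) Q, hQ, ?_⟩
        exact hsq x Q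
      intro h
      exact hK (f x) (closure_minimal hsub hcl h)
    rw [Set.eq_empty_iff_forall_notMem]
    intro q hq
    apply hp₀
    have hspec : p₀ ⤳ q := by
      rw [← PrimeSpectrum.le_iff_specializes]
      exact nilradical_le_prime q.asIdeal
    exact interior_subset (hspec.mem_open isOpen_interior hq)
  -- density of the complement
  have hdense : ∀ x : X, x ∈ closure Tᶜ := by
    intro x
    by_contra hx
    rw [mem_closure_iff] at hx
    push_neg at hx
    obtain ⟨O, hO, hxO, hOT⟩ := hx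
    letI : Algebra (Y.presheaf.stalk (f x)) (X.presheaf.stalk x) := (f.stalkMap x).hom.toAlgebra
    haveI : IsLocalHom (algebraMap (Y.presheaf.stalk (f x)) (X.presheaf.stalk x)) :=
      inferInstanceAs (IsLocalHom (f.stalkMap x).hom)
    haveI : Module.Flat (Y.presheaf.stalk (f x)) (X.presheaf.stalk x) := Flat.stalkMap f x
    haveI : Module.FaithfullyFlat (Y.presheaf.stalk (f x)) (X.presheaf.stalk x) :=
      Module.FaithfullyFlat.of_flat_of_isLocalHom
    obtain ⟨Q, hQ⟩ := PrimeSpectrum.comap_surjective_of_faithfullyFlat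
      (A := Y.presheaf.stalk (f x)) (B := X.presheaf.stalk x)
      ⟨nilradical (Y.presheaf.stalk (f x)), hprime (f x)⟩
    have hQx : (X.fromSpecStalk x) Q ⤳ x := by
      have h1 : (X.fromSpecStalk x) Q ∈ Set.range (X.fromSpecStalk x) := ⟨Q, rfl⟩
      rw [Scheme.range_fromSpecStalk] at h1
      exact h1
    have hQO : (X.fromSpecStalk x) Q ∈ O := hQx.mem_open hO hxO
    have hQT : (X.fromSpecStalk x) Q ∈ T := by
      by_contra hn
      exact (Set.eq_empty_iff_forall_notMem.mp hOT _) ⟨hQO, hn⟩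
    apply hK (f x)
    apply subset_closure
    refine ⟨(X.fromSpecStalk x) Q, hQT, ?_⟩
    rw [← hQ]
    exact hsq x Q
  refine ⟨?_, ?_⟩
  · obtain ⟨x⟩ := (inferInstance : Nonempty X)
    have : (closure Tᶜ).Nonempty := ⟨x, hdense x⟩
    exact closure_nonempty_iff.mp this
  · intro u v hu hv huv hnu hnv
    by_contra hcon
    rw [Set.not_nonempty_iff_eq_empty] at hcon
    have hU₁ : IsOpen (Tᶜ ∩ u) := hT.isOpen_compl.inter hu
    have hU₂ : IsOpen (Tᶜ ∩ v) := hT.isOpen_compl.inter hv
    have hcover : (Set.univ : Set X) ⊆ closure (Tᶜ ∩ u) ∪ closure (Tᶜ ∩ v) := by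
      intro x _
      rw [← closure_union]
      have h1 : Tᶜ ⊆ (Tᶜ ∩ u) ∪ (Tᶜ ∩ v) := by
        intro z hz
        rcases huv hz with h | h
        · exact Or.inl ⟨hz, h⟩
        · exact Or.inr ⟨hz, h⟩
      exact closure_mono h1 (hdense x)
    have hpre : _root_.IsPreconnected (Set.univ : Set X) := isPreconnected_univ
    rw [isPreconnected_closed_iff] at hpre
    obtain ⟨x, -, hx1, hx2⟩ := hpre _ _ isClosed_closure isClosed_closure hcover
      (by obtain ⟨z, hz⟩ := hnu; exact ⟨z, trivial, subset_closure hz⟩)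
      (by obtain ⟨z, hz⟩ := hnv; exact ⟨z, trivial, subset_closure hz⟩)
    obtain ⟨ξ₁, hξ₁, hξ₁x⟩ := exists_mem_specializes_of_mem_closure
      (hloc_of_isLocallyNoetherian X) hU₁ hx1
    obtain ⟨ξ₂, hξ₂, hξ₂x⟩ := exists_mem_specializes_of_mem_closure
      (hloc_of_isLocallyNoetherian X) hU₂ hx2
    obtain ⟨Q₁, rfl⟩ : ξ₁ ∈ Set.range (X.fromSpecStalk x) := by
      rw [Scheme.range_fromSpecStalk]; exact hξ₁x
    obtain ⟨Q₂, rfl⟩ : ξ₂ ∈ Set.range (X.fromSpecStalk x) := by
      rw [Scheme.range_fromSpecStalk]; exact hξ₂x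
    have hl := hlocal x
    obtain ⟨Q, hQT, hQu, hQv⟩ := hl
      ((fun Q : PrimeSpectrum (X.presheaf.stalk x) => (X.fromSpecStalk x) Q) ⁻¹' u)
      ((fun Q : PrimeSpectrum (X.presheaf.stalk x) => (X.fromSpecStalk x) Q) ⁻¹' v)
      (hu.preimage (X.fromSpecStalk x).continuous) (hv.preimage (X.fromSpecStalk x).continuous)
      (fun Q hQ => huv hQ) ⟨Q₁, hξ₁.1, hξ₁.2⟩ ⟨Q₂, hξ₂.1, hξ₂.2⟩
    exact (Set.eq_empty_iff_forall_notMem.mp hcon _) ⟨hQT, hQu, hQv⟩

end Main

end Groth.Agent.Lib.T2H1.GUGenFibreSch
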