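import Groth.Agent.Lib.T2H1RgammaLoc

/-!
# The localization triangle with its canonical first map `RΓ_Z G ⟶ G` (helper1)

* `RgammaZβ`: the explicit unit of `RΓ_Z` on complexes; `RgammaZβ_comp_toId`: its composite with
  `CxOX.RgammaZToId` is the image of the termwise inclusion `Γ_Z I ⟶ I`.
* `exists_loc_triangle_can`: a distinguished triangle `RΓ_Z G ⟶ G ⟶ Rj_*(G|_W) ⟶` whose first
  map is `CxOX.RgammaZToId`.
* `bijective_comp_RgammaZToId`: for `S` with `S|_W = 0`, composition with `RΓ_Z G ⟶ G` is a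
  bijection `Hom(S, RΓ_Z G) ≃ Hom(S, G)`.
-/

set_option autoImplicit false
universe u
open CategoryTheory CategoryTheory.Limits CategoryTheory.Pretriangulated AlgebraicGeometry

attribute [local instance] HasDerivedCategory.standard

namespace Groth.Agent.Lib.T2H1.LocCan

open Scheme.Modules Groth.Agent.Lib.T2H1.MVTri Groth.Agent.Lib.T2H1.RpushSupport
  Groth.Agent.Lib.T2H1.SESTriangle Groth.Agent.Lib.Helper17.KInj Groth.Agent.Lib.T2H1.MVMod
  Groth.Agent.Lib.T2H1.RgammaSupp Groth.Agent.Lib.T2H1.RgammaLoc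
  Groth.Agent.Lib.T2H1.RestrictPush

section Unit

variable {X U : Scheme.{u}} (j : U ⟶ X) [IsOpenImmersion j] [CxOX.HasRgammaZ j]

/-- the explicit unit of `RΓ_Z` on complexes. -/
noncomputable def RgammaZβ :
    (DCoh.gammaZ j).mapHomologicalComplex (ComplexShape.up ℤ) ⋙ DerivedCategory.Q ⟶
      DerivedCategory.Q ⋙ CxOX.RgammaZ j :=
  unitOfK (DCoh.gammaZ j) (CxOX.RgammaZ j)
    ((CxOX.gammaZKh j).totalRightDerivedUnit DerivedCategory.Qh
      (HomotopyCategory.quasiIso X.Modules (ComplexShape.up ℤ)))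

instance isRightDerivedFunctor_RgammaZβ :
    (CxOX.RgammaZ j).IsRightDerivedFunctor (RgammaZβ j)
      (HomologicalComplex.quasiIso X.Modules (ComplexShape.up ℤ)) :=
  isRightDerivedFunctor_unitOfK _ _ _

theorem gammaZKhι_app (I : CochainComplex X.Modules ℤ) :
    (CxOX.gammaZKhι j).app ((HomotopyCategory.quotient X.Modules (ComplexShape.up ℤ)).obj I) =
      DerivedCategory.Qh.map (((DCoh.gammaZ j).mapHomotopyCategoryFactors
        (ComplexShape.up ℤ)).hom.app I) ≫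
      DerivedCategory.Qh.map ((HomotopyCategory.quotient X.Modules (ComplexShape.up ℤ)).map
        ((NatTrans.mapHomologicalComplex (CxOX.gammaZι j) (ComplexShape.up ℤ)).app I ≫
        (Functor.mapHomologicalComplexIdIso X.Modules (ComplexShape.up ℤ)).hom.app I)) := by
  dsimp [CxOX.gammaZKhι]
  erw [Quotient.natTransLift_app]
  dsimp
  rw [Functor.map_comp, Functor.map_comp, Category.id_comp, Category.id_comp]
  congr 2

/-- the unit followed by the canonical map `RΓ_Z ⟶ 𝟭` is the termwise inclusion. -/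
theorem RgammaZβ_comp_toId (I : CochainComplex X.Modules ℤ) :
    (RgammaZβ j).app I ≫ (CxOX.RgammaZToId j).app (DerivedCategory.Q.obj I) =
      DerivedCategory.Q.map ((NatTrans.mapHomologicalComplex (CxOX.gammaZι j)
        (ComplexShape.up ℤ)).app I ≫
        (Functor.mapHomologicalComplexIdIso X.Modules (ComplexShape.up ℤ)).hom.app I) := by
  dsimp [RgammaZβ, unitOfK, γOfK, isoF₀]
  simp only [Category.id_comp, Category.comp_id, Category.assoc]
  have hnat := (CxOX.RgammaZToId j).naturality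
    ((DerivedCategory.quotientCompQhIso X.Modules).hom.app I)
  dsimp at hnat
  rw [hnat]
  have hfac := Functor.rightDerived_fac_app (CxOX.RgammaZ j)
    ((CxOX.gammaZKh j).totalRightDerivedUnit DerivedCategory.Qh
      (HomotopyCategory.quasiIso X.Modules (ComplexShape.up ℤ)))
    (HomotopyCategory.quasiIso X.Modules (ComplexShape.up ℤ)) (𝟭 (DCoh.D X))
    (CxOX.gammaZKhι j ≫ (Functor.rightUnitor _).inv)
    ((HomotopyCategory.quotient X.Modules (ComplexShape.up ℤ)).obj I)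
  change _ ≫ (CxOX.RgammaZToId j).app _ = _ at hfac
  rw [reassoc_of% hfac, NatTrans.comp_app, gammaZKhι_app]
  dsimp
  simp only [Category.id_comp, Category.comp_id, Category.assoc]
  rw [← DerivedCategory.Qh.map_comp_assoc, Iso.inv_hom_id_app,
    DerivedCategory.quotientCompQhIso_hom_naturality]
  erw [CategoryTheory.Functor.map_id]
  rw [Category.id_comp, Iso.inv_hom_id_app_assoc]

end Unit

variable {X : Scheme.{u}}

/-- the localization triangle `RΓ_Z G → G → Rj_*(G|_W) → RΓ_Z G[1]` with its canonical first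
map. -/
theorem exists_loc_triangle_can (W : X.Opens) [CxOX.HasRgammaZ W.ι] [DCoh.HasRpush W.ι]
    (G : DCoh.D X) :
    ∃ (b : G ⟶ (DCoh.Rpush W.ι).obj ((DCoh.restrictD W.ι).obj G))
      (c : (DCoh.Rpush W.ι).obj ((DCoh.restrictD W.ι).obj G) ⟶
        ((CxOX.RgammaZ W.ι).obj G)⟦(1 : ℤ)⟧),
      Triangle.mk ((CxOX.RgammaZToId W.ι).app G) b c ∈ distTriang (DCoh.D X) := by
  obtain ⟨I, hI, hinj, ⟨e⟩⟩ := exists_rep G
  obtain ⟨βW, hβW⟩ := exists_unit_Rpush W.ι
  haveI := hI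
  haveI := isKInjective_restrict W I
  haveI := isIso_app_of_isKInjective.{u} (DCoh.gammaZ W.ι) (CxOX.RgammaZ W.ι) (RgammaZβ W.ι) I
  let e₁ : (CxOX.RgammaZ W.ι).obj G ≅ DerivedCategory.Q.obj
      (((DCoh.gammaZ W.ι).mapHomologicalComplex (ComplexShape.up ℤ)).obj I) :=
    (CxOX.RgammaZ W.ι).mapIso e ≪≫ (asIso ((RgammaZβ W.ι).app I)).symm
  let e₂ : G ≅ DerivedCategory.Q.obj
      (((𝟭 X.Modules).mapHomologicalComplex (ComplexShape.up ℤ)).obj I) :=
    e ≪≫ DerivedCategory.Q.mapIso ((Functor.mapHomologicalComplexIdIso X.Modules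
      (ComplexShape.up ℤ)).app I).symm
  let e₃ := objIso.{u} (pushforward W.ι) (DCoh.Rpush W.ι) βW (restrictFunctor W.ι) (T W)
    (Iso.refl _) I e
  have hS' := sc_shortExact (DCoh.gammaZ W.ι) (𝟭 X.Modules) (T W) (CxOX.gammaZι W.ι) (η W) I
    (fun i => kernel.condition _)
    (fun i => shortExact_loc W (I.X i)
      (Groth.Agent.Lib.T2H4.LocCohQC.isFlasque_of_injective (I.X i) (hinj i)))
  have hT := DerivedCategory.triangleOfSES_distinguished hS'
  have ha : (CxOX.RgammaZToId W.ι).app G ≫ e₂.hom =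
      e₁.hom ≫ (DerivedCategory.triangleOfSES hS').mor₁ := by
    have h1 := (CxOX.RgammaZToId W.ι).naturality e.hom
    dsimp at h1
    have h2 := RgammaZβ_comp_toId W.ι I
    change (CxOX.RgammaZToId W.ι).app G ≫ e.hom ≫ DerivedCategory.Q.map
        ((Functor.mapHomologicalComplexIdIso X.Modules (ComplexShape.up ℤ)).inv.app I) =
      ((CxOX.RgammaZ W.ι).map e.hom ≫ inv ((RgammaZβ W.ι).app I)) ≫
        DerivedCategory.Q.map ((NatTrans.mapHomologicalComplex (CxOX.gammaZι W.ι)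
          (ComplexShape.up ℤ)).app I)
    rw [← reassoc_of% h1, Category.assoc]
    congr 1
    rw [IsIso.eq_inv_comp, reassoc_of% h2,
      ← Functor.map_comp, Category.assoc, Iso.hom_inv_id_app, Category.comp_id]
  refine ⟨e₂.hom ≫ (DerivedCategory.triangleOfSES hS').mor₂ ≫ e₃.inv,
    e₃.hom ≫ (DerivedCategory.triangleOfSES hS').mor₃ ≫ e₁.inv⟦(1 : ℤ)⟧', ?_⟩
  refine isomorphic_distinguished _ hT _ (Triangle.isoMk _ _ e₁ e₂ e₃ ?_ ?_ ?_)
  · exact ha
  · change (e₂.hom ≫ _ ≫ e₃.inv) ≫ e₃.hom = e₂.hom ≫ _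
    rw [Category.assoc, Category.assoc, Iso.inv_hom_id, Category.comp_id]
  · change (e₃.hom ≫ _ ≫ e₁.inv⟦(1 : ℤ)⟧') ≫ e₁.hom⟦(1 : ℤ)⟧' = e₃.hom ≫ _
    rw [Category.assoc, Category.assoc, ← Functor.map_comp, Iso.inv_hom_id,
      CategoryTheory.Functor.map_id, Category.comp_id]

/-- for `S` vanishing on `W`, composition with `RΓ_Z G ⟶ G` is a bijection
`Hom(S, RΓ_Z G) ≃ Hom(S, G)`. -/
theorem bijective_comp_RgammaZToId (W : X.Opens) [CxOX.HasRgammaZ W.ι] (G S : DCoh.D X)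
    (hS : IsZero ((DCoh.restrictD W.ι).obj S)) :
    Function.Bijective (fun φ : S ⟶ (CxOX.RgammaZ W.ι).obj G =>
      φ ≫ (CxOX.RgammaZToId W.ι).app G) := by
  haveI := hasRpush W.ι
  obtain ⟨b, c, hT⟩ := exists_loc_triangle_can W G
  constructor
  · intro φ₁ φ₂ h
    dsimp only at h
    have h0 : (φ₁ - φ₂) ≫ (CxOX.RgammaZToId W.ι).app G = 0 := by
      rw [Preadditive.sub_comp, h, sub_self]
    obtain ⟨g, hg⟩ := Triangle.coyoneda_exact₁ _ hT ((φ₁ - φ₂)⟦(1 : ℤ)⟧') (by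
      change (φ₁ - φ₂)⟦(1 : ℤ)⟧' ≫ ((CxOX.RgammaZToId W.ι).app G)⟦(1 : ℤ)⟧' = 0
      rw [← Functor.map_comp, h0, Functor.map_zero])
    have hg0 : g = 0 := hom_Rpush_eq_zero W.ι (S⟦(1 : ℤ)⟧)
      (isZero_restrictD_shift W.ι S hS 1) _ g
    rw [hg0, zero_comp] at hg
    have h1 : φ₁ - φ₂ = 0 := (shiftFunctor (DCoh.D X) (1 : ℤ)).map_injective
      (hg.trans (Functor.map_zero _ _ _).symm)
    exact sub_eq_zero.1 h1
  · intro θ
    have h0 : θ ≫ b = 0 := hom_Rpush_eq_zero W.ι S hS _ _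
    obtain ⟨φ, hφ⟩ := Triangle.coyoneda_exact₂ _ hT θ h0
    exact ⟨φ, hφ.symm⟩

end Groth.Agent.Lib.T2H1.LocCan
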