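import Groth.Agent.Lib.T2H1SuppPush
import Groth.Agent.Lib.Helper23ModLocal
import Groth.Agent.Lib.Helper17AdjWay1
import Groth.Prelude.Def_CxOX

/-!
# `RΓ_Z` is supported on `Z`; units of `j^* ⊣ Rj_*` on objects supported inside `j(X)` (helper1)

* `isZero_restrictD_RgammaZ`: `(RΓ_Z G)|_U = 0` for `Z = X ∖ j(U)`.
* `isZero_of_isZero_restrictD₂`: an object of `D(O_X)` vanishing on two open immersions covering
  `X` is zero.
* `isIso_unit_app_of_isZero_restrictD`: for an open immersion `j : X' ⟶ X`, an open `W` with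
  `X ∖ W ⊆ j(X')` and `E ∈ D(O_X)` with `E|_W = 0`, the unit `E ⟶ Rj_* j^* E` of any adjunction
  `j^* ⊣ Rj_*` is an isomorphism.
-/

set_option autoImplicit false
universe u
open CategoryTheory CategoryTheory.Limits CategoryTheory.Pretriangulated AlgebraicGeometry

attribute [local instance] HasDerivedCategory.standard

namespace Groth.Agent.Lib.T2H1.RgammaSupp

open Scheme.Modules Groth.Agent.Lib.T2H1.MVTri Groth.Agent.Lib.T2H1.RpushSupport
  Groth.Agent.Lib.T2H1.RestrictPush Groth.Agent.Lib.T2H1.SuppPush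
  Groth.Agent.Lib.T2H1.SESTriangle Groth.Agent.Lib.Helper17.KInj

variable {X : Scheme.{u}}

section Conservative

/-- an object of `D(O_X)` is zero if its restrictions along a jointly surjective family of open
immersions vanish. -/
theorem isZero_of_isZero_restrictD {ι : Type*} (W : ι → Scheme.{u}) (j : ∀ i, W i ⟶ X)
    [∀ i, IsOpenImmersion (j i)] (hj : ∀ x : X, ∃ (i : ι) (y : W i), j i y = x) (C : DCoh.D X)
    (h : ∀ i, IsZero ((DCoh.restrictD (j i)).obj C)) : IsZero C := by
  refine isZero_of_forall_isZero_homology _ (fun k => ?_)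
  refine Groth.Agent.Lib.Helper23.ModLocal.isZero_of_isZero_restrict W j hj (fun i => ?_)
  exact IsZero.of_iso (Functor.map_isZero _ (h i))
    (Groth.Agent.Lib.Helper17.AdjWay.homologyIso (restrictFunctor (j i)) C k).symm

/-- the case of two open immersions. -/
theorem isZero_of_isZero_restrictD₂ {Y₁ Y₂ : Scheme.{u}} (j₁ : Y₁ ⟶ X) (j₂ : Y₂ ⟶ X)
    [IsOpenImmersion j₁] [IsOpenImmersion j₂]
    (hj : ∀ x : X, (∃ y : Y₁, j₁ y = x) ∨ (∃ y : Y₂, j₂ y = x)) (C : DCoh.D X)
    (h₁ : IsZero ((DCoh.restrictD j₁).obj C)) (h₂ : IsZero ((DCoh.restrictD j₂).obj C)) :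
    IsZero C := by
  let W : Bool → Scheme.{u} := fun b => Bool.rec Y₂ Y₁ b
  let j : ∀ b, W b ⟶ X := fun b => Bool.rec (motive := fun b => W b ⟶ X) j₂ j₁ b
  haveI : ∀ b, IsOpenImmersion (j b) := by
    rintro (_ | _)
    · exact inferInstanceAs (IsOpenImmersion j₂)
    · exact inferInstanceAs (IsOpenImmersion j₁)
  refine isZero_of_isZero_restrictD W j (fun x => ?_) C ?_
  · rcases hj x with ⟨y, hy⟩ | ⟨y, hy⟩
    · exact ⟨true, y, hy⟩
    · exact ⟨false, y, hy⟩
  · rintro (_ | _)
    · exact h₂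
    · exact h₁

end Conservative

section Rgamma

variable {U : Scheme.{u}} (j : U ⟶ X) [IsOpenImmersion j]

/-- `Γ_Z(M)|_U = 0`. -/
theorem isZero_restrict_gammaZ (M : X.Modules) :
    IsZero ((restrictFunctor j).obj ((DCoh.gammaZ j).obj M)) := by
  have hmono : Mono ((restrictFunctor j).map ((restrictAdjunction j).unit.app M)) :=
    mono_of_mono_fac ((restrictAdjunction j).left_triangle_components M)
  have h0 : (restrictFunctor j).map (kernel.ι ((restrictAdjunction j).unit.app M)) ≫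
      (restrictFunctor j).map ((restrictAdjunction j).unit.app M) = 0 := by
    rw [← Functor.map_comp, kernel.condition, Functor.map_zero]
  have h1 : (restrictFunctor j).map (kernel.ι ((restrictAdjunction j).unit.app M)) = 0 := by
    rw [← cancel_mono ((restrictFunctor j).map ((restrictAdjunction j).unit.app M)), h0, zero_comp]
  have h2 := IsZero.of_mono_eq_zero _ h1
  exact h2

theorem exists_unit_RgammaZ [CxOX.HasRgammaZ j] :
    ∃ β : (DCoh.gammaZ j).mapHomologicalComplex (ComplexShape.up ℤ) ⋙ DerivedCategory.Q ⟶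
      DerivedCategory.Q ⋙ CxOX.RgammaZ j,
      (CxOX.RgammaZ j).IsRightDerivedFunctor β
        (HomologicalComplex.quasiIso X.Modules (ComplexShape.up ℤ)) := by
  obtain ⟨β₁, hβ₁⟩ : ∃ β : CxOX.gammaZKh j ⟶ DerivedCategory.Qh ⋙ CxOX.RgammaZ j, β =
      ((CxOX.gammaZKh j).totalRightDerivedUnit DerivedCategory.Qh
        (HomotopyCategory.quasiIso X.Modules (ComplexShape.up ℤ))) := ⟨_, rfl⟩
  have h₁ : (CxOX.RgammaZ j).IsRightDerivedFunctor β₁
      (HomotopyCategory.quasiIso X.Modules (ComplexShape.up ℤ)) := by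
    rw [hβ₁]
    infer_instance
  exact ⟨unitOfK (DCoh.gammaZ j) (CxOX.RgammaZ j) β₁, inferInstance⟩

/-- `(RΓ_Z G)|_U = 0`. -/
theorem isZero_restrictD_RgammaZ [CxOX.HasRgammaZ j] (G : DCoh.D X) :
    IsZero ((DCoh.restrictD j).obj ((CxOX.RgammaZ j).obj G)) := by
  obtain ⟨I, hI, -, ⟨e⟩⟩ := exists_rep G
  obtain ⟨β, hβ⟩ := exists_unit_RgammaZ j
  haveI := hI
  have e₁ := objIso₀.{u} (DCoh.gammaZ j) (CxOX.RgammaZ j) β I e
  have e₂ := (DCoh.restrictD j).mapIso e₁ ≪≫ (restrictFunctor j).mapDerivedCategoryFactors.app _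
  refine IsZero.of_iso ?_ e₂
  change IsZero (DerivedCategory.Q.obj (((restrictFunctor j).mapHomologicalComplex
    (ComplexShape.up ℤ)).obj (((DCoh.gammaZ j).mapHomologicalComplex (ComplexShape.up ℤ)).obj I)))
  refine Functor.map_isZero _ ?_
  rw [IsZero.iff_id_eq_zero]
  refine HomologicalComplex.hom_ext _ _ (fun i => ?_)
  exact (isZero_restrict_gammaZ j (I.X i)).eq_of_src _ _

end Rgamma

section Unit

variable {X' : Scheme.{u}} (j : X' ⟶ X) [IsOpenImmersion j] [DCoh.HasRpush j]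

/-- `Rj_*` is fully faithful: the counit of any adjunction `j^* ⊣ Rj_*` is an isomorphism. -/
theorem isIso_counit (adj : DCoh.restrictD j ⊣ DCoh.Rpush j) : IsIso adj.counit := by
  obtain ⟨β, hβ⟩ := exists_unit_Rpush j
  let dadj := derivedAdjunction.{u} (restrictFunctor j) (pushforward j) (restrictAdjunction j)
    (DCoh.Rpush j) β
  haveI : IsIso dadj.counit := inferInstance
  haveI : (DCoh.Rpush j).Full := dadj.fullyFaithfulROfIsIsoCounit.full
  haveI : (DCoh.Rpush j).Faithful := dadj.fullyFaithfulROfIsIsoCounit.faithful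
  infer_instance

/-- `(Rj_* j^* E)|_W = 0` when `E|_W = 0`. -/
theorem isZero_restrictD_Rpush_restrictD (W : X.Opens) (E : DCoh.D X)
    (hE : IsZero ((DCoh.restrictD W.ι).obj E)) :
    IsZero ((DCoh.restrictD W.ι).obj ((DCoh.Rpush j).obj ((DCoh.restrictD j).obj E))) := by
  refine isZero_restrictD W _ (fun i y hyW => ?_)
  refine not_mem_support_HD_Rpush j W _ (fun k x hx => ?_) i y hyW
  refine not_mem_support_of_isZero_restrict _ (j ⁻¹ᵁ W) ?_ x hx
  refine IsZero.of_iso ?_ ((restrictFunctor (j ⁻¹ᵁ W).ι).mapIso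
    (Groth.Agent.Lib.Helper17.AdjWay.homologyIso (restrictFunctor j) E k))
  refine IsZero.of_iso ?_ ((restrictFunctorComp (j ⁻¹ᵁ W).ι j).app (DCoh.HD E k)).symm
  refine isZero_restrictFunctor_of_disjoint_support _ _ (fun w => ?_)
  refine not_mem_support_of_isZero_restrict (DCoh.HD E k) W ?_ _ ?_
  · exact IsZero.of_iso (Functor.map_isZero _ hE)
      (Groth.Agent.Lib.Helper17.AdjWay.homologyIso (restrictFunctor W.ι) E k).symm
  · exact w.2

/-- the unit `E ⟶ Rj_* j^* E` is an isomorphism when `E` vanishes on an open `W` whose complement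
lies in the image of `j`. -/
theorem isIso_unit_app_of_isZero_restrictD (adj : DCoh.restrictD j ⊣ DCoh.Rpush j) (W : X.Opens)
    (hW : (W : Set X)ᶜ ⊆ Set.range j.base) (E : DCoh.D X)
    (hE : IsZero ((DCoh.restrictD W.ι).obj E)) : IsIso (adj.unit.app E) := by
  haveI := isIso_counit j adj
  have h1 : IsIso ((DCoh.restrictD j).map (adj.unit.app E)) := by
    rw [IsIso.eq_inv_of_inv_hom_id (adj.left_triangle_components E)]
    infer_instance
  obtain ⟨C, g, h, hT⟩ := Pretriangulated.distinguished_cocone_triangle (adj.unit.app E)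
  have hCj : IsZero ((DCoh.restrictD j).obj C) :=
    (Triangle.isZero₃_iff_isIso₁ _ ((DCoh.restrictD j).map_distinguished _ hT)).2 h1
  have hCW : IsZero ((DCoh.restrictD W.ι).obj C) :=
    Triangle.isZero₃_of_isZero₁₂ _ ((DCoh.restrictD W.ι).map_distinguished _ hT) hE
      (isZero_restrictD_Rpush_restrictD j W E hE)
  have hC : IsZero C := by
    refine isZero_of_isZero_restrictD₂ j W.ι (fun x => ?_) C hCj hCW
    by_cases hx : x ∈ W
    · exact Or.inr ⟨⟨x, hx⟩, rfl⟩
    · obtain ⟨y, hy⟩ := hW hx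
      exact Or.inl ⟨y, hy⟩
  exact (Triangle.isZero₃_iff_isIso₁ _ hT).1 hC

end Unit

end Groth.Agent.Lib.T2H1.RgammaSupp
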