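import Groth.Agent.Lib.T2H1RgammaLoc
import Groth.Agent.Lib.Helper17MV1

/-!
# Gluing objects of `D(O_U)` and `D(O_V)` along `U ∩ V` (helper1)

`exists_glue`: for `X = U ∪ V`, `A ∈ D(O_U)`, `B ∈ D(O_V)` with `A|_{U∩V} ≅ B|_{U∩V}` there is
`F ∈ D(O_X)` with `F|_U ≅ A` and `F|_V ≅ B`.  `F` is a fibre of
`Rj_{U*}A ⊕ Rj_{V*}B ⟶ Rj_{U*} j_U^* Rj_{V*}B`.
-/

set_option autoImplicit false
universe u
open CategoryTheory CategoryTheory.Limits CategoryTheory.Pretriangulated AlgebraicGeometry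

attribute [local instance] HasDerivedCategory.standard

namespace Groth.Agent.Lib.T2H1.GlueOpens

open Scheme.Modules Groth.Agent.Lib.T2H1.MVTri Groth.Agent.Lib.T2H1.RpushSupport
  Groth.Agent.Lib.T2H1.RestrictPush Groth.Agent.Lib.T2H1.SuppPush
  Groth.Agent.Lib.Helper17.KInj Groth.Agent.Lib.T2H1.RgammaSupp Groth.Agent.Lib.T2H1.RgammaLoc

section General

variable {X : Scheme.{u}}

/-- `RΓ_Z` exists for every open immersion. -/
theorem hasRgammaZ {U : Scheme.{u}} (j : U ⟶ X) [IsOpenImmersion j] : CxOX.HasRgammaZ j :=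
  (Groth.Agent.S1032.result (A := X.Modules) (exists_kInjective_resolution.{u})
    (CxOX.gammaZKh j)).1

variable {X' : Scheme.{u}} (j : X' ⟶ X) [IsOpenImmersion j] [DCoh.HasRpush j]

/-- there is an adjunction `j^* ⊣ Rj_*`. -/
theorem exists_adj : Nonempty (DCoh.restrictD j ⊣ DCoh.Rpush j) := by
  obtain ⟨β, hβ⟩ := exists_unit_Rpush j
  exact ⟨derivedAdjunction.{u} (restrictFunctor j) (pushforward j) (restrictAdjunction j)
    (DCoh.Rpush j) β⟩

/-- `j^*` of the unit `E ⟶ Rj_* j^* E` is an isomorphism. -/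
theorem isIso_restrictD_map_unit (adj : DCoh.restrictD j ⊣ DCoh.Rpush j) (E : DCoh.D X) :
    IsIso ((DCoh.restrictD j).map (adj.unit.app E)) := by
  haveI := isIso_counit j adj
  rw [IsIso.eq_inv_of_inv_hom_id (adj.left_triangle_components E)]
  infer_instance

omit [DCoh.HasRpush j] in
/-- if `i^*(a)` is an isomorphism and the image of `i'` lies in that of `i` then `i'^*(a)` is an
isomorphism. -/
theorem isIso_restrictD_map_of_range_subset {X'' : Scheme.{u}} (j' : X'' ⟶ X) [IsOpenImmersion j']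
    (hrange : Set.range j'.base ⊆ Set.range j.base) {A A' : DCoh.D X} (a : A ⟶ A')
    (h : IsIso ((DCoh.restrictD j).map a)) : IsIso ((DCoh.restrictD j').map a) := by
  obtain ⟨K, g, h', hT⟩ := Pretriangulated.distinguished_cocone_triangle a
  have hK : IsZero ((DCoh.restrictD j).obj K) :=
    (Triangle.isZero₃_iff_isIso₁ _ ((DCoh.restrictD j).map_distinguished _ hT)).2 h
  have hK' : IsZero ((DCoh.restrictD j').obj K) := by
    refine isZero_of_forall_isZero_homology _ (fun k => ?_)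
    refine IsZero.of_iso ?_
      (Groth.Agent.Lib.Helper17.AdjWay.homologyIso (restrictFunctor j') K k)
    refine isZero_restrictFunctor_of_disjoint_support j' _ (fun w => ?_)
    obtain ⟨w₀, hw₀⟩ := hrange ⟨w, rfl⟩
    rw [← hw₀]
    refine not_mem_support_of_isZero_restrictFunctor j (DCoh.HD K k) ?_ w₀
    exact IsZero.of_iso (Functor.map_isZero _ hK)
      (Groth.Agent.Lib.Helper17.AdjWay.homologyIso (restrictFunctor j) K k).symm
  exact (Triangle.isZero₃_iff_isIso₁ _ ((DCoh.restrictD j').map_distinguished _ hT)).1 hK'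

/-- the unit of `j^* ⊣ Rj_*` is an isomorphism on an object isomorphic to `Rj'_* N` for an open
immersion `j'` whose image lies in that of `j`. -/
theorem isIso_unit_app_of_iso_Rpush (adj : DCoh.restrictD j ⊣ DCoh.Rpush j) {X'' : Scheme.{u}}
    (j' : X'' ⟶ X) [IsOpenImmersion j'] [DCoh.HasRpush j']
    (hrange : Set.range j'.base ⊆ Set.range j.base) (N : DCoh.D X'') (E : DCoh.D X)
    (e : E ≅ (DCoh.Rpush j').obj N) : IsIso (adj.unit.app E) := by
  haveI := hasRgammaZ (j.opensRange).ι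
  refine isIso_unit_app_of_isZero_RgammaZ j adj ⊥ j.opensRange ?_ E ?_ ?_
  · ext x
    simp
  · exact isZero_restrictD ⊥ E (fun i x hx => hx.elim)
  · refine IsZero.of_iso (isZero_RgammaZ_Rpush j' j.opensRange ?_ N)
      ((CxOX.RgammaZ (j.opensRange).ι).mapIso e)
    intro x hx
    exact hrange hx

end General

section Comp

variable {X W U V : Scheme.{u}} (i : W ⟶ U) (j : U ⟶ X) (i' : W ⟶ V) (j' : V ⟶ X)
  [IsOpenImmersion i] [IsOpenImmersion j] [IsOpenImmersion i'] [IsOpenImmersion j']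

/-- `i^* j^* E ≅ Q((j^* ⋙ i^*) K)` for a complex `K` representing `E`. -/
noncomputable def compObjIso (K : CochainComplex X.Modules ℤ) {E : DCoh.D X}
    (e : E ≅ DerivedCategory.Q.obj K) :
    (DCoh.restrictD i).obj ((DCoh.restrictD j).obj E) ≅
      DerivedCategory.Q.obj (((restrictFunctor j ⋙ restrictFunctor i).mapHomologicalComplex
        (ComplexShape.up ℤ)).obj K) :=
  (DCoh.restrictD i).mapIso ((DCoh.restrictD j).mapIso e ≪≫
      (restrictFunctor j).mapDerivedCategoryFactors.app K) ≪≫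
    (restrictFunctor i).mapDerivedCategoryFactors.app _

/-- `i^* j^* E ≅ i'^* j'^* E` when `i ≫ j = i' ≫ j'`. -/
noncomputable def restrictDCompIso (h : i ≫ j = i' ≫ j') (E : DCoh.D X) :
    (DCoh.restrictD i).obj ((DCoh.restrictD j).obj E) ≅
      (DCoh.restrictD i').obj ((DCoh.restrictD j').obj E) :=
  compObjIso i j (DerivedCategory.Q.objPreimage E) (DerivedCategory.Q.objObjPreimageIso E).symm ≪≫
    DerivedCategory.Q.mapIso ((NatIso.mapHomologicalComplex
      ((restrictFunctorComp i j).symm ≪≫ restrictFunctorCongr h ≪≫ restrictFunctorComp i' j')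
      (ComplexShape.up ℤ)).app (DerivedCategory.Q.objPreimage E)) ≪≫
    (compObjIso i' j' (DerivedCategory.Q.objPreimage E)
      (DerivedCategory.Q.objObjPreimageIso E).symm).symm

end Comp

section Glue

variable {X : Scheme.{u}} (U V : X.Opens)

lemma mem_range_homOfLE (x : (U : Scheme.{u})) (hx : U.ι.base x ∈ V) :
    x ∈ Set.range (X.homOfLE (inf_le_left : U ⊓ V ≤ U)).base := by
  refine ⟨⟨U.ι.base x, ⟨x.2, hx⟩⟩, ?_⟩
  apply U.ι.isOpenEmbedding.injective
  have h := congrArg (fun φ : ((U ⊓ V : X.Opens) : Scheme.{u}) ⟶ X =>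
    φ.base ⟨U.ι.base x, ⟨x.2, hx⟩⟩) (X.homOfLE_ι (inf_le_left : U ⊓ V ≤ U))
  exact h

include U V in
/-- gluing two objects along the intersection of two opens covering `X`. -/
theorem exists_glue (A : DCoh.D (U : Scheme.{u})) (B : DCoh.D (V : Scheme.{u}))
    (c : (DCoh.restrictD (X.homOfLE (inf_le_left : U ⊓ V ≤ U))).obj A ≅
      (DCoh.restrictD (X.homOfLE (inf_le_right : U ⊓ V ≤ V))).obj B) :
    ∃ F : DCoh.D X, Nonempty ((DCoh.restrictD U.ι).obj F ≅ A) ∧
      Nonempty ((DCoh.restrictD V.ι).obj F ≅ B) := by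
  haveI := hasRpush U.ι
  haveI := hasRpush V.ι
  haveI := hasRpush (X.homOfLE (inf_le_left : U ⊓ V ≤ U))
  haveI := hasRpush (V.ι ∣_ U)
  haveI := hasRpush (U.ι ∣_ V)
  obtain ⟨adjU⟩ := exists_adj U.ι
  obtain ⟨adjV⟩ := exists_adj V.ι
  obtain ⟨adjI⟩ := exists_adj (X.homOfLE (inf_le_left : U ⊓ V ≤ U))
  haveI := isIso_counit U.ι adjU
  haveI := isIso_counit V.ι adjV
  obtain ⟨eV⟩ := nonempty_restrictD_Rpush_iso V.ι U
  obtain ⟨eU⟩ := nonempty_restrictD_Rpush_iso U.ι V
  -- the unit of `iU` at `A' = (Rj_{V*} B)|_U` is an isomorphism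
  have hA' : IsIso (adjI.unit.app ((DCoh.restrictD U.ι).obj ((DCoh.Rpush V.ι).obj B))) := by
    refine isIso_unit_app_of_iso_Rpush _ adjI (V.ι ∣_ U) ?_ _ _ (eV.app B)
    rintro _ ⟨z, rfl⟩
    refine mem_range_homOfLE U V _ ?_
    have h := congrArg (fun φ : ((V.ι ⁻¹ᵁ U : (V : Scheme.{u}).Opens) : Scheme.{u}) ⟶ X =>
      φ.base z) (morphismRestrict_ι V.ι U)
    change U.ι.base ((V.ι ∣_ U).base z) = V.ι.base ((V.ι ⁻¹ᵁ U).ι.base z) at h
    rw [h]
    exact ((V.ι ⁻¹ᵁ U).ι.base z).2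
  -- the isomorphism on the intersection
  have hcomp : X.homOfLE (inf_le_left : U ⊓ V ≤ U) ≫ U.ι =
      X.homOfLE (inf_le_right : U ⊓ V ≤ V) ≫ V.ι := by
    rw [X.homOfLE_ι, X.homOfLE_ι]
  let ψ : (DCoh.restrictD (X.homOfLE (inf_le_left : U ⊓ V ≤ U))).obj A ≅
      (DCoh.restrictD (X.homOfLE (inf_le_left : U ⊓ V ≤ U))).obj
        ((DCoh.restrictD U.ι).obj ((DCoh.Rpush V.ι).obj B)) :=
    c ≪≫ (DCoh.restrictD (X.homOfLE (inf_le_right : U ⊓ V ≤ V))).mapIso
        (asIso (adjV.counit.app B)).symm ≪≫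
      (restrictDCompIso _ U.ι _ V.ι hcomp ((DCoh.Rpush V.ι).obj B)).symm
  let a : A ⟶ (DCoh.restrictD U.ι).obj ((DCoh.Rpush V.ι).obj B) :=
    adjI.unit.app A ≫ (DCoh.Rpush (X.homOfLE (inf_le_left : U ⊓ V ≤ U))).map ψ.hom ≫
      inv (adjI.unit.app ((DCoh.restrictD U.ι).obj ((DCoh.Rpush V.ι).obj B)))
  have ha : IsIso ((DCoh.restrictD (X.homOfLE (inf_le_left : U ⊓ V ≤ U))).map a) := by
    haveI := isIso_restrictD_map_unit _ adjI A
    dsimp only [a]
    rw [Functor.map_comp, Functor.map_comp]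
    infer_instance
  -- `a` is an isomorphism on `U ∩ V` seen inside `U`
  have ha' : IsIso ((DCoh.restrictD (U.ι ⁻¹ᵁ V).ι).map a) := by
    refine isIso_restrictD_map_of_range_subset _ (U.ι ⁻¹ᵁ V).ι ?_ a ha
    rintro _ ⟨z, rfl⟩
    exact mem_range_homOfLE U V _ z.2
  -- hence `Rj_{U*}(a)` is an isomorphism over `V`
  have hp : IsIso ((DCoh.restrictD V.ι).map ((DCoh.Rpush U.ι).map a)) := by
    have hnat := eU.hom.naturality a
    have h1 : (DCoh.restrictD V.ι).map ((DCoh.Rpush U.ι).map a) =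
        eU.hom.app A ≫ (DCoh.Rpush (U.ι ∣_ V)).map ((DCoh.restrictD (U.ι ⁻¹ᵁ V).ι).map a) ≫
          eU.inv.app _ := by
      rw [← Category.assoc, ← Functor.comp_map, ← Functor.comp_map, ← hnat, Category.assoc,
        Iso.hom_inv_id_app, Category.comp_id]
    rw [h1]
    infer_instance
  -- the fibre
  obtain ⟨F, f, h, hT⟩ := Pretriangulated.distinguished_cocone_triangle₁
    (biprod.desc ((DCoh.Rpush U.ι).map a) (adjU.unit.app ((DCoh.Rpush V.ι).obj B)))
  refine ⟨F, ⟨?_⟩, ⟨?_⟩⟩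
  · have hT' := (DCoh.restrictD U.ι).map_distinguished _ hT
    have hv : IsIso ((DCoh.restrictD U.ι).map biprod.inr ≫ (DCoh.restrictD U.ι).map
        (biprod.desc ((DCoh.Rpush U.ι).map a) (adjU.unit.app ((DCoh.Rpush V.ι).obj B)))) := by
      rw [← Functor.map_comp, biprod.inr_desc]
      exact isIso_restrictD_map_unit U.ι adjU _
    have h11 : (DCoh.restrictD U.ι).map (biprod.inl : (DCoh.Rpush U.ι).obj A ⟶
        (DCoh.Rpush U.ι).obj A ⊞ (DCoh.Rpush V.ι).obj B) ≫
        (DCoh.restrictD U.ι).map biprod.fst = 𝟙 _ := by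
      rw [← Functor.map_comp, biprod.inl_fst, CategoryTheory.Functor.map_id]
    have h21 : (DCoh.restrictD U.ι).map (biprod.inr : (DCoh.Rpush V.ι).obj B ⟶
        (DCoh.Rpush U.ι).obj A ⊞ (DCoh.Rpush V.ι).obj B) ≫
        (DCoh.restrictD U.ι).map biprod.fst = 0 := by
      rw [← Functor.map_comp, biprod.inr_fst, Functor.map_zero]
    have hsum : (DCoh.restrictD U.ι).map (biprod.fst : (DCoh.Rpush U.ι).obj A ⊞
        (DCoh.Rpush V.ι).obj B ⟶ _) ≫ (DCoh.restrictD U.ι).map biprod.inl +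
        (DCoh.restrictD U.ι).map biprod.snd ≫ (DCoh.restrictD U.ι).map biprod.inr = 𝟙 _ := by
      rw [← Functor.map_comp, ← Functor.map_comp, ← Functor.map_add, biprod.total,
        CategoryTheory.Functor.map_id]
    have hiso := Groth.Agent.Lib.Helper17.MV1.isIso_comp_fst _ hT'
      ((DCoh.restrictD U.ι).map biprod.inl) ((DCoh.restrictD U.ι).map biprod.inr)
      ((DCoh.restrictD U.ι).map biprod.fst) ((DCoh.restrictD U.ι).map biprod.snd)
      h11 h21 hsum hv
    exact @asIso _ _ _ _ _ hiso ≪≫ asIso (adjU.counit.app A)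
  · have hT' := (DCoh.restrictD V.ι).map_distinguished _ hT
    have hv : IsIso ((DCoh.restrictD V.ι).map biprod.inl ≫ (DCoh.restrictD V.ι).map
        (biprod.desc ((DCoh.Rpush U.ι).map a) (adjU.unit.app ((DCoh.Rpush V.ι).obj B)))) := by
      rw [← Functor.map_comp, biprod.inl_desc]
      exact hp
    have h11 : (DCoh.restrictD V.ι).map (biprod.inr : (DCoh.Rpush V.ι).obj B ⟶
        (DCoh.Rpush U.ι).obj A ⊞ (DCoh.Rpush V.ι).obj B) ≫
        (DCoh.restrictD V.ι).map biprod.snd = 𝟙 _ := by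
      rw [← Functor.map_comp, biprod.inr_snd, CategoryTheory.Functor.map_id]
    have h21 : (DCoh.restrictD V.ι).map (biprod.inl : (DCoh.Rpush U.ι).obj A ⟶
        (DCoh.Rpush U.ι).obj A ⊞ (DCoh.Rpush V.ι).obj B) ≫
        (DCoh.restrictD V.ι).map biprod.snd = 0 := by
      rw [← Functor.map_comp, biprod.inl_snd, Functor.map_zero]
    have hsum : (DCoh.restrictD V.ι).map (biprod.snd : (DCoh.Rpush U.ι).obj A ⊞
        (DCoh.Rpush V.ι).obj B ⟶ _) ≫ (DCoh.restrictD V.ι).map biprod.inr +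
        (DCoh.restrictD V.ι).map biprod.fst ≫ (DCoh.restrictD V.ι).map biprod.inl = 𝟙 _ := by
      rw [← Functor.map_comp, ← Functor.map_comp, ← Functor.map_add, add_comm, biprod.total,
        CategoryTheory.Functor.map_id]
    have hiso := Groth.Agent.Lib.Helper17.MV1.isIso_comp_fst _ hT'
      ((DCoh.restrictD V.ι).map biprod.inr) ((DCoh.restrictD V.ι).map biprod.inl)
      ((DCoh.restrictD V.ι).map biprod.snd) ((DCoh.restrictD V.ι).map biprod.fst)
      h11 h21 hsum hv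
    exact @asIso _ _ _ _ _ hiso ≪≫ asIso (adjV.counit.app B)

end Glue

end Groth.Agent.Lib.T2H1.GlueOpens
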