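import Groth.Agent.Lib.T2H1KhUnit
import Mathlib.Algebra.Homology.DerivedCategory.ShortExact

/-!
# Distinguished triangles from termwise short exact sequences of functors (helper1)

Given additive functors `Φ₁ Φ₂ Φ₃ : A ⥤ C`, natural transformations `f : Φ₁ ⟶ Φ₂`, `g : Φ₂ ⟶ Φ₃`,
a decomposition of `Φ₂` as a biproduct of `Ψ₁` and `Ψ₂`, and a complex `I` on whose terms
`0 → Φ₁ → Φ₂ → Φ₃ → 0` is short exact, we get a distinguished triangle in `D(C)` with vertices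
isomorphic to `Q(Φ₁ I)`, `Q(Ψ₁ I) ⊞ Q(Ψ₂ I)`, `Q(Φ₃ I)`.
-/

set_option autoImplicit false

universe w w₁ w₂ v v' u u'

open CategoryTheory CategoryTheory.Limits CategoryTheory.Pretriangulated HomologicalComplex

namespace Groth.Agent.Lib.T2H1.SESTriangle

section Triangle

variable {A : Type u} [Category.{v} A] [Abelian A] {C : Type u'} [Category.{v'} C] [Abelian C]
  [HasDerivedCategory.{w₂} C]
  (Φ₁ Φ₂ Φ₃ Ψ₁ Ψ₂ : A ⥤ C) [Φ₁.Additive] [Φ₂.Additive] [Φ₃.Additive] [Ψ₁.Additive] [Ψ₂.Additive]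
  (f : Φ₁ ⟶ Φ₂) (g : Φ₂ ⟶ Φ₃)
  (fst : Φ₂ ⟶ Ψ₁) (snd : Φ₂ ⟶ Ψ₂) (inl : Ψ₁ ⟶ Φ₂) (inr : Ψ₂ ⟶ Φ₂)
  (I : CochainComplex A ℤ)

/-- the short complex of complexes. -/
noncomputable def sc (w : ∀ i, f.app (I.X i) ≫ g.app (I.X i) = 0) :
    ShortComplex (CochainComplex C ℤ) :=
  ShortComplex.mk ((NatTrans.mapHomologicalComplex f (ComplexShape.up ℤ)).app I)
    ((NatTrans.mapHomologicalComplex g (ComplexShape.up ℤ)).app I) (by
      ext i
      exact w i)

lemma sc_shortExact (w : ∀ i, f.app (I.X i) ≫ g.app (I.X i) = 0)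
    (hS : ∀ i, (ShortComplex.mk (f.app (I.X i)) (g.app (I.X i)) (w i)).ShortExact) :
    (sc Φ₁ Φ₂ Φ₃ f g I w).ShortExact :=
  HomologicalComplex.shortExact_of_degreewise_shortExact _ (fun i => hS i)

/-- the bicone in the derived category. -/
noncomputable def bicone (h1 : ∀ M, inl.app M ≫ fst.app M = 𝟙 _)
    (h2 : ∀ M, inr.app M ≫ snd.app M = 𝟙 _)
    (h3 : ∀ M, inl.app M ≫ snd.app M = 0) (h4 : ∀ M, inr.app M ≫ fst.app M = 0) :
    BinaryBicone (DerivedCategory.Q.obj ((Ψ₁.mapHomologicalComplex (ComplexShape.up ℤ)).obj I))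
      (DerivedCategory.Q.obj ((Ψ₂.mapHomologicalComplex (ComplexShape.up ℤ)).obj I)) where
  pt := DerivedCategory.Q.obj ((Φ₂.mapHomologicalComplex (ComplexShape.up ℤ)).obj I)
  fst := DerivedCategory.Q.map ((NatTrans.mapHomologicalComplex fst (ComplexShape.up ℤ)).app I)
  snd := DerivedCategory.Q.map ((NatTrans.mapHomologicalComplex snd (ComplexShape.up ℤ)).app I)
  inl := DerivedCategory.Q.map ((NatTrans.mapHomologicalComplex inl (ComplexShape.up ℤ)).app I)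
  inr := DerivedCategory.Q.map ((NatTrans.mapHomologicalComplex inr (ComplexShape.up ℤ)).app I)
  inl_fst := by
    rw [← Functor.map_comp, ← CategoryTheory.Functor.map_id]
    congr 1
    ext i
    exact h1 _
  inr_snd := by
    rw [← Functor.map_comp, ← CategoryTheory.Functor.map_id]
    congr 1
    ext i
    exact h2 _
  inl_snd := by
    rw [← Functor.map_comp, ← Functor.map_zero DerivedCategory.Q]
    congr 1
    ext i
    exact h3 _
  inr_fst := by
    rw [← Functor.map_comp, ← Functor.map_zero DerivedCategory.Q]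
    congr 1
    ext i
    exact h4 _

/-- the bicone is a bilimit. -/
noncomputable def isBilimit (h1 : ∀ M, inl.app M ≫ fst.app M = 𝟙 _)
    (h2 : ∀ M, inr.app M ≫ snd.app M = 𝟙 _)
    (h3 : ∀ M, inl.app M ≫ snd.app M = 0) (h4 : ∀ M, inr.app M ≫ fst.app M = 0)
    (h5 : ∀ M, fst.app M ≫ inl.app M + snd.app M ≫ inr.app M = 𝟙 _) :
    (bicone Φ₂ Ψ₁ Ψ₂ fst snd inl inr I h1 h2 h3 h4).IsBilimit :=
  isBinaryBilimitOfTotal _ (by
    change DerivedCategory.Q.map ((NatTrans.mapHomologicalComplex fst (ComplexShape.up ℤ)).app I) ≫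
        DerivedCategory.Q.map ((NatTrans.mapHomologicalComplex inl (ComplexShape.up ℤ)).app I) +
      DerivedCategory.Q.map ((NatTrans.mapHomologicalComplex snd (ComplexShape.up ℤ)).app I) ≫
        DerivedCategory.Q.map ((NatTrans.mapHomologicalComplex inr (ComplexShape.up ℤ)).app I) =
      𝟙 (DerivedCategory.Q.obj ((Φ₂.mapHomologicalComplex (ComplexShape.up ℤ)).obj I))
    rw [← Functor.map_comp, ← Functor.map_comp, ← Functor.map_add,
      ← CategoryTheory.Functor.map_id]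
    congr 1
    ext i
    exact h5 _)

/-- the Mayer–Vietoris type triangle attached to a termwise short exact sequence of functors. -/
theorem exists_triangle (h1 : ∀ M, inl.app M ≫ fst.app M = 𝟙 _)
    (h2 : ∀ M, inr.app M ≫ snd.app M = 𝟙 _)
    (h3 : ∀ M, inl.app M ≫ snd.app M = 0) (h4 : ∀ M, inr.app M ≫ fst.app M = 0)
    (h5 : ∀ M, fst.app M ≫ inl.app M + snd.app M ≫ inr.app M = 𝟙 _)
    (w : ∀ i, f.app (I.X i) ≫ g.app (I.X i) = 0)
    (hS : ∀ i, (ShortComplex.mk (f.app (I.X i)) (g.app (I.X i)) (w i)).ShortExact)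
    {E₁ A₁ A₂ E₃ : DerivedCategory C}
    (e₁ : E₁ ≅ DerivedCategory.Q.obj ((Φ₁.mapHomologicalComplex (ComplexShape.up ℤ)).obj I))
    (a₁ : A₁ ≅ DerivedCategory.Q.obj ((Ψ₁.mapHomologicalComplex (ComplexShape.up ℤ)).obj I))
    (a₂ : A₂ ≅ DerivedCategory.Q.obj ((Ψ₂.mapHomologicalComplex (ComplexShape.up ℤ)).obj I))
    (e₃ : E₃ ≅ DerivedCategory.Q.obj ((Φ₃.mapHomologicalComplex (ComplexShape.up ℤ)).obj I)) :
    ∃ (a : E₁ ⟶ A₁ ⊞ A₂) (b : A₁ ⊞ A₂ ⟶ E₃) (c : E₃ ⟶ E₁⟦(1 : ℤ)⟧),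
      Triangle.mk a b c ∈ distTriang (DerivedCategory C) := by
  have hS' := sc_shortExact Φ₁ Φ₂ Φ₃ f g I w hS
  have hT := DerivedCategory.triangleOfSES_distinguished hS'
  let e₂ : A₁ ⊞ A₂ ≅
      DerivedCategory.Q.obj ((Φ₂.mapHomologicalComplex (ComplexShape.up ℤ)).obj I) :=
    biprod.mapIso a₁ a₂ ≪≫
      (biprod.uniqueUpToIso _ _ (isBilimit Φ₂ Ψ₁ Ψ₂ fst snd inl inr I h1 h2 h3 h4 h5)).symm
  refine ⟨e₁.hom ≫ (DerivedCategory.triangleOfSES hS').mor₁ ≫ e₂.inv,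
    e₂.hom ≫ (DerivedCategory.triangleOfSES hS').mor₂ ≫ e₃.inv,
    e₃.hom ≫ (DerivedCategory.triangleOfSES hS').mor₃ ≫ e₁.inv⟦(1 : ℤ)⟧', ?_⟩
  refine isomorphic_distinguished _ hT _ (Triangle.isoMk _ _ e₁ e₂ e₃ ?_ ?_ ?_)
  · change (e₁.hom ≫ _ ≫ e₂.inv) ≫ e₂.hom = e₁.hom ≫ _
    rw [Category.assoc, Category.assoc, Iso.inv_hom_id, Category.comp_id]
  · change (e₂.hom ≫ _ ≫ e₃.inv) ≫ e₃.hom = e₂.hom ≫ _
    rw [Category.assoc, Category.assoc, Iso.inv_hom_id, Category.comp_id]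
  · change (e₃.hom ≫ _ ≫ e₁.inv⟦(1 : ℤ)⟧') ≫ e₁.hom⟦(1 : ℤ)⟧' = e₃.hom ≫ _
    rw [Category.assoc, Category.assoc, ← Functor.map_comp, Iso.inv_hom_id,
      CategoryTheory.Functor.map_id, Category.comp_id]

end Triangle

section ObjIso

open Groth.Agent.Lib.Helper17.KInj

variable {A' : Type u} [Category.{v} A'] [Abelian A'] [IsGrothendieckAbelian.{w} A']
  {C : Type u'} [Category.{v'} C] [Abelian C]
  [HasDerivedCategory.{w₁} A'] [HasDerivedCategory.{w₂} C]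
  (G : A' ⥤ C) [G.Additive] (RG : DerivedCategory A' ⥤ DerivedCategory C)
  (β : G.mapHomologicalComplex (ComplexShape.up ℤ) ⋙ DerivedCategory.Q ⟶ DerivedCategory.Q ⋙ RG)
  [RG.IsRightDerivedFunctor β (HomologicalComplex.quasiIso A' (ComplexShape.up ℤ))]

/-- `RG E ≅ Q (G I)` for a K-injective complex `I` representing `E`. -/
noncomputable def objIso₀ (I : CochainComplex A' ℤ) [I.IsKInjective] {E : DerivedCategory A'}
    (e : E ≅ DerivedCategory.Q.obj I) :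
    RG.obj E ≅ DerivedCategory.Q.obj ((G.mapHomologicalComplex (ComplexShape.up ℤ)).obj I) :=
  haveI := isIso_app_of_isKInjective.{w} G RG β I
  RG.mapIso e ≪≫ (asIso (β.app I)).symm

variable {A : Type u} [Category.{v} A] [Abelian A] [HasDerivedCategory.{w₁} A]
  (R : A ⥤ A') [R.Additive] [PreservesFiniteLimits R] [PreservesFiniteColimits R]
  (Ψ : A ⥤ C) [Ψ.Additive] (θ : Ψ ≅ R ⋙ G)

/-- `RG (R E) ≅ Q (Ψ I)` for `Ψ ≅ R ⋙ G` with `R` exact, when `R I` is K-injective. -/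
noncomputable def objIso (I : CochainComplex A ℤ)
    [CochainComplex.IsKInjective ((R.mapHomologicalComplex (ComplexShape.up ℤ)).obj I)]
    {E : DerivedCategory A} (e : E ≅ DerivedCategory.Q.obj I) :
    RG.obj (R.mapDerivedCategory.obj E) ≅
      DerivedCategory.Q.obj ((Ψ.mapHomologicalComplex (ComplexShape.up ℤ)).obj I) :=
  objIso₀ G RG β ((R.mapHomologicalComplex (ComplexShape.up ℤ)).obj I)
      (R.mapDerivedCategory.mapIso e ≪≫ R.mapDerivedCategoryFactors.app I) ≪≫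
    DerivedCategory.Q.mapIso
      ((NatIso.mapHomologicalComplex θ (ComplexShape.up ℤ)).app I).symm

end ObjIso

end Groth.Agent.Lib.T2H1.SESTriangle
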