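import Groth.Agent.Lib.T2H1MVMod
import Groth.Agent.Lib.T2H1SESTriangle
import Groth.Agent.Lib.T2H1RestrictPush
import Groth.Agent.Lib.Helper17KInj12

/-!
# Mayer–Vietoris triangles in `D(O_X)` (helper1)
-/

set_option autoImplicit false
universe u v' u'
open CategoryTheory CategoryTheory.Limits CategoryTheory.Pretriangulated AlgebraicGeometry

attribute [local instance] HasDerivedCategory.standard

namespace Groth.Agent.Lib.T2H1.MVTri

open Scheme.Modules Groth.Agent.Lib.T2H1.MVMod Groth.Agent.Lib.T2H1.SESTriangle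
  Groth.Agent.Lib.Helper17.KInj Groth.Agent.Lib.T2H1.RestrictPush

variable {X : Scheme.{u}}

/-- every object of `D(O_X)` is represented by a K-injective complex with injective terms. -/
theorem exists_rep (E : DCoh.D X) :
    ∃ (I : CochainComplex X.Modules ℤ), I.IsKInjective ∧ (∀ n, Injective (I.X n)) ∧
      Nonempty (E ≅ DerivedCategory.Q.obj I) := by
  let K := DerivedCategory.Q.objPreimage E
  have e₀ : DerivedCategory.Q.obj K ≅ E := DerivedCategory.Q.objObjPreimageIso E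
  obtain ⟨I, f, hI, hf, -, hinj⟩ := exists_kInjective_resolution.{u} X.Modules K
  haveI := hf
  haveI : IsIso (DerivedCategory.Q.map f) := by
    rw [DerivedCategory.isIso_Q_map_iff_quasiIso]
    infer_instance
  exact ⟨I, hI, hinj, ⟨e₀.symm ≪≫ asIso (DerivedCategory.Q.map f)⟩⟩

theorem exists_unit_Rpush {Y : Scheme.{u}} (g : X ⟶ Y) [DCoh.HasRpush g] :
    ∃ β : (pushforward g).mapHomologicalComplex (ComplexShape.up ℤ) ⋙ DerivedCategory.Q ⟶
      DerivedCategory.Q ⋙ DCoh.Rpush g,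
      (DCoh.Rpush g).IsRightDerivedFunctor β
        (HomologicalComplex.quasiIso X.Modules (ComplexShape.up ℤ)) := by
  obtain ⟨β₁, hβ₁⟩ : ∃ β : (pushforward g).mapHomotopyCategory (ComplexShape.up ℤ) ⋙
      DerivedCategory.Qh ⟶ DerivedCategory.Qh ⋙ DCoh.Rpush g, β =
      ((DCoh.pushKh g).totalRightDerivedUnit DerivedCategory.Qh
        (HomotopyCategory.quasiIso X.Modules (ComplexShape.up ℤ))) := ⟨_, rfl⟩
  have h₁ : (DCoh.Rpush g).IsRightDerivedFunctor β₁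
      (HomotopyCategory.quasiIso X.Modules (ComplexShape.up ℤ)) := by
    rw [hβ₁]
    infer_instance
  exact ⟨unitOfK (pushforward g) (DCoh.Rpush g) β₁, inferInstance⟩

theorem exists_unit_RΓ (X : Scheme.{u}) [DCoh.HasRΓ X] :
    ∃ β : (DCoh.gammaAb X).mapHomologicalComplex (ComplexShape.up ℤ) ⋙ DerivedCategory.Q ⟶
      DerivedCategory.Q ⋙ DCoh.RΓ X,
      (DCoh.RΓ X).IsRightDerivedFunctor β
        (HomologicalComplex.quasiIso X.Modules (ComplexShape.up ℤ)) := by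
  obtain ⟨β₁, hβ₁⟩ : ∃ β : (DCoh.gammaAb X).mapHomotopyCategory (ComplexShape.up ℤ) ⋙
      DerivedCategory.Qh ⟶ DerivedCategory.Qh ⋙ DCoh.RΓ X, β =
      ((DCoh.gammaKh X).totalRightDerivedUnit DerivedCategory.Qh
        (HomotopyCategory.quasiIso X.Modules (ComplexShape.up ℤ))) := ⟨_, rfl⟩
  have h₁ : (DCoh.RΓ X).IsRightDerivedFunctor β₁
      (HomotopyCategory.quasiIso X.Modules (ComplexShape.up ℤ)) := by
    rw [hβ₁]
    infer_instance
  exact ⟨unitOfK (DCoh.gammaAb X) (DCoh.RΓ X) β₁, inferInstance⟩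

section General

variable {C : Type u'} [Category.{v'} C] [Abelian C] [HasDerivedCategory.{max u' v'} C]
  (P : X.Modules ⥤ C) [P.Additive] (U V : X.Opens)

/-- the Mayer–Vietoris triangle after applying an additive functor `P` which keeps the
Mayer–Vietoris sequences of injective modules short exact. -/
theorem exists_triangle_of (I : CochainComplex X.Modules ℤ) (hinj : ∀ n, Injective (I.X n))
    (hP : ∀ (M : X.Modules), Injective M →
      (ShortComplex.mk (P.map ((mvf U V).app M)) (P.map ((mvg U V).app M))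
        (by rw [← Functor.map_comp, mvf_mvg, Functor.map_zero])).ShortExact)
    {E₁ A₁ A₂ E₃ : DerivedCategory C}
    (e₁ : E₁ ≅ DerivedCategory.Q.obj ((P.mapHomologicalComplex (ComplexShape.up ℤ)).obj I))
    (a₁ : A₁ ≅ DerivedCategory.Q.obj
      (((T U ⋙ P).mapHomologicalComplex (ComplexShape.up ℤ)).obj I))
    (a₂ : A₂ ≅ DerivedCategory.Q.obj
      (((T V ⋙ P).mapHomologicalComplex (ComplexShape.up ℤ)).obj I))
    (e₃ : E₃ ≅ DerivedCategory.Q.obj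
      (((T (U ⊓ V) ⋙ P).mapHomologicalComplex (ComplexShape.up ℤ)).obj I)) :
    ∃ (a : E₁ ⟶ A₁ ⊞ A₂) (b : A₁ ⊞ A₂ ⟶ E₃) (c : E₃ ⟶ E₁⟦(1 : ℤ)⟧),
      Triangle.mk a b c ∈ distTriang (DerivedCategory C) := by
  refine exists_triangle (𝟭 _ ⋙ P) (B U V ⋙ P) (T (U ⊓ V) ⋙ P) (T U ⋙ P) (T V ⋙ P)
    (Functor.whiskerRight (mvf U V) P) (Functor.whiskerRight (mvg U V) P)
    (Functor.whiskerRight (bfst U V) P) (Functor.whiskerRight (bsnd U V) P)
    (Functor.whiskerRight (binl U V) P) (Functor.whiskerRight (binr U V) P) I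
    ?_ ?_ ?_ ?_ ?_ ?_ ?_
    (e₁ ≪≫ DerivedCategory.Q.mapIso ((NatIso.mapHomologicalComplex
      (Functor.leftUnitor P) (ComplexShape.up ℤ)).app I).symm) a₁ a₂ e₃
  · intro M
    rw [Functor.whiskerRight_app, Functor.whiskerRight_app, ← Functor.map_comp]
    exact (congrArg P.map biprod.inl_fst).trans (P.map_id _)
  · intro M
    rw [Functor.whiskerRight_app, Functor.whiskerRight_app, ← Functor.map_comp]
    exact (congrArg P.map biprod.inr_snd).trans (P.map_id _)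
  · intro M
    rw [Functor.whiskerRight_app, Functor.whiskerRight_app, ← Functor.map_comp]
    exact (congrArg P.map biprod.inl_snd).trans (P.map_zero _ _)
  · intro M
    rw [Functor.whiskerRight_app, Functor.whiskerRight_app, ← Functor.map_comp]
    exact (congrArg P.map biprod.inr_fst).trans (P.map_zero _ _)
  · intro M
    rw [Functor.whiskerRight_app, Functor.whiskerRight_app, Functor.whiskerRight_app,
      Functor.whiskerRight_app, ← Functor.map_comp, ← Functor.map_comp, ← Functor.map_add]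
    exact (congrArg P.map (b_total U V M)).trans (P.map_id _)
  · intro i
    rw [Functor.whiskerRight_app, Functor.whiskerRight_app, ← Functor.map_comp, mvf_mvg,
      Functor.map_zero]
  · intro i
    exact hP (I.X i) (hinj i)

end General

section Opens

variable (U V : X.Opens) (hUV : U ⊔ V = ⊤)

include hUV in
/-- Mayer–Vietoris: `E → Rj_{U*}E|_U ⊕ Rj_{V*}E|_V → Rj_{U∩V*}E|_{U∩V} → E[1]`. -/
theorem exists_mv_triangle [DCoh.HasRpush U.ι] [DCoh.HasRpush V.ι] [DCoh.HasRpush (U ⊓ V).ι]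
    (E : DCoh.D X) :
    ∃ (a : E ⟶ ((DCoh.Rpush U.ι).obj ((DCoh.restrictD U.ι).obj E) ⊞
        (DCoh.Rpush V.ι).obj ((DCoh.restrictD V.ι).obj E)))
      (b : ((DCoh.Rpush U.ι).obj ((DCoh.restrictD U.ι).obj E) ⊞
        (DCoh.Rpush V.ι).obj ((DCoh.restrictD V.ι).obj E)) ⟶
        (DCoh.Rpush (U ⊓ V).ι).obj ((DCoh.restrictD (U ⊓ V).ι).obj E))
      (c : (DCoh.Rpush (U ⊓ V).ι).obj ((DCoh.restrictD (U ⊓ V).ι).obj E) ⟶ E⟦(1 : ℤ)⟧),
      Triangle.mk a b c ∈ distTriang (DCoh.D X) := by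
  obtain ⟨I, hI, hinj, ⟨e⟩⟩ := exists_rep E
  obtain ⟨βU, hβU⟩ := exists_unit_Rpush U.ι
  obtain ⟨βV, hβV⟩ := exists_unit_Rpush V.ι
  obtain ⟨βW, hβW⟩ := exists_unit_Rpush (U ⊓ V).ι
  haveI := isKInjective_restrict U I
  haveI := isKInjective_restrict V I
  haveI := isKInjective_restrict (U ⊓ V) I
  refine exists_triangle_of (𝟭 X.Modules) U V I hinj
    (fun M hM => shortExact U V hUV M
      (Groth.Agent.Lib.T2H4.LocCohQC.isFlasque_of_injective M hM))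
    (e ≪≫ DerivedCategory.Q.mapIso ((Functor.mapHomologicalComplexIdIso X.Modules
      (ComplexShape.up ℤ)).app I).symm)
    (objIso.{u} (pushforward U.ι) (DCoh.Rpush U.ι) βU (restrictFunctor U.ι)
      (T U ⋙ 𝟭 X.Modules) (Functor.rightUnitor _) I e)
    (objIso.{u} (pushforward V.ι) (DCoh.Rpush V.ι) βV (restrictFunctor V.ι)
      (T V ⋙ 𝟭 X.Modules) (Functor.rightUnitor _) I e)
    (objIso.{u} (pushforward (U ⊓ V).ι) (DCoh.Rpush (U ⊓ V).ι) βW (restrictFunctor (U ⊓ V).ι)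
      (T (U ⊓ V) ⋙ 𝟭 X.Modules) (Functor.rightUnitor _) I e)

include hUV in
/-- relative Mayer–Vietoris:
`Rf_*E → R(f|_U)_*E|_U ⊕ R(f|_V)_*E|_V → R(f|_{U∩V})_*E|_{U∩V} → Rf_*E[1]`. -/
theorem exists_relative_mv_triangle {Y : Scheme.{u}} (f : X ⟶ Y) [DCoh.HasRpush f]
    [DCoh.HasRpush (U.ι ≫ f)] [DCoh.HasRpush (V.ι ≫ f)] [DCoh.HasRpush ((U ⊓ V).ι ≫ f)]
    (E : DCoh.D X) :
    ∃ (a : (DCoh.Rpush f).obj E ⟶ ((DCoh.Rpush (U.ι ≫ f)).obj ((DCoh.restrictD U.ι).obj E) ⊞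
        (DCoh.Rpush (V.ι ≫ f)).obj ((DCoh.restrictD V.ι).obj E)))
      (b : ((DCoh.Rpush (U.ι ≫ f)).obj ((DCoh.restrictD U.ι).obj E) ⊞
        (DCoh.Rpush (V.ι ≫ f)).obj ((DCoh.restrictD V.ι).obj E)) ⟶
        (DCoh.Rpush ((U ⊓ V).ι ≫ f)).obj ((DCoh.restrictD (U ⊓ V).ι).obj E))
      (c : (DCoh.Rpush ((U ⊓ V).ι ≫ f)).obj ((DCoh.restrictD (U ⊓ V).ι).obj E) ⟶
        ((DCoh.Rpush f).obj E)⟦(1 : ℤ)⟧),
      Triangle.mk a b c ∈ distTriang (DCoh.D Y) := by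
  obtain ⟨I, hI, hinj, ⟨e⟩⟩ := exists_rep E
  obtain ⟨βf, hβf⟩ := exists_unit_Rpush f
  obtain ⟨βU, hβU⟩ := exists_unit_Rpush (U.ι ≫ f)
  obtain ⟨βV, hβV⟩ := exists_unit_Rpush (V.ι ≫ f)
  obtain ⟨βW, hβW⟩ := exists_unit_Rpush ((U ⊓ V).ι ≫ f)
  haveI := isKInjective_restrict U I
  haveI := isKInjective_restrict V I
  haveI := isKInjective_restrict (U ⊓ V) I
  refine exists_triangle_of (pushforward f) U V I hinj
    (fun M hM => shortExact_push U V hUV M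
      (Groth.Agent.Lib.T2H4.LocCohQC.isFlasque_of_injective M hM) f)
    (objIso₀.{u} (pushforward f) (DCoh.Rpush f) βf I e)
    (objIso.{u} (pushforward (U.ι ≫ f)) (DCoh.Rpush (U.ι ≫ f)) βU (restrictFunctor U.ι)
      (T U ⋙ pushforward f)
      (Functor.associator _ _ _ ≪≫ Functor.isoWhiskerLeft _ (pushforwardComp U.ι f)) I e)
    (objIso.{u} (pushforward (V.ι ≫ f)) (DCoh.Rpush (V.ι ≫ f)) βV (restrictFunctor V.ι)
      (T V ⋙ pushforward f)
      (Functor.associator _ _ _ ≪≫ Functor.isoWhiskerLeft _ (pushforwardComp V.ι f)) I e)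
    (objIso.{u} (pushforward ((U ⊓ V).ι ≫ f)) (DCoh.Rpush ((U ⊓ V).ι ≫ f)) βW
      (restrictFunctor (U ⊓ V).ι) (T (U ⊓ V) ⋙ pushforward f)
      (Functor.associator _ _ _ ≪≫ Functor.isoWhiskerLeft _ (pushforwardComp (U ⊓ V).ι f)) I e)

/-- `Γ(X, j_* N) = Γ(U, N)`. -/
noncomputable def pushGammaIso {W : Scheme.{u}} (j : W ⟶ X) :
    pushforward j ⋙ DCoh.gammaAb X ≅ DCoh.gammaAb W :=
  NatIso.ofComponents (fun N => Iso.refl _) (fun _ => rfl)

include hUV in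
/-- Mayer–Vietoris for `RΓ`. -/
theorem exists_mv_triangle_RΓ [DCoh.HasRΓ X] [DCoh.HasRΓ (U : Scheme.{u})]
    [DCoh.HasRΓ (V : Scheme.{u})] [DCoh.HasRΓ (U ⊓ V : X.Opens)] (E : DCoh.D X) :
    ∃ (a : (DCoh.RΓ X).obj E ⟶ ((DCoh.RΓ (U : Scheme.{u})).obj ((DCoh.restrictD U.ι).obj E) ⊞
        (DCoh.RΓ (V : Scheme.{u})).obj ((DCoh.restrictD V.ι).obj E)))
      (b : ((DCoh.RΓ (U : Scheme.{u})).obj ((DCoh.restrictD U.ι).obj E) ⊞
        (DCoh.RΓ (V : Scheme.{u})).obj ((DCoh.restrictD V.ι).obj E)) ⟶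
        (DCoh.RΓ (U ⊓ V : X.Opens)).obj ((DCoh.restrictD (U ⊓ V).ι).obj E))
      (c : (DCoh.RΓ (U ⊓ V : X.Opens)).obj ((DCoh.restrictD (U ⊓ V).ι).obj E) ⟶
        ((DCoh.RΓ X).obj E)⟦(1 : ℤ)⟧),
      Triangle.mk a b c ∈ distTriang (DerivedCategory AddCommGrpCat.{u}) := by
  obtain ⟨I, hI, hinj, ⟨e⟩⟩ := exists_rep E
  obtain ⟨βX, hβX⟩ := exists_unit_RΓ X
  obtain ⟨βU, hβU⟩ := exists_unit_RΓ (U : Scheme.{u})
  obtain ⟨βV, hβV⟩ := exists_unit_RΓ (V : Scheme.{u})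
  obtain ⟨βW, hβW⟩ := exists_unit_RΓ ((U ⊓ V : X.Opens) : Scheme.{u})
  haveI := isKInjective_restrict U I
  haveI := isKInjective_restrict V I
  haveI := isKInjective_restrict (U ⊓ V) I
  refine exists_triangle_of (DCoh.gammaAb X) U V I hinj
    (fun M hM => shortExact_gamma U V hUV M
      (Groth.Agent.Lib.T2H4.LocCohQC.isFlasque_of_injective M hM))
    (objIso₀.{u} (DCoh.gammaAb X) (DCoh.RΓ X) βX I e)
    (objIso.{u} (DCoh.gammaAb (U : Scheme.{u})) (DCoh.RΓ (U : Scheme.{u})) βU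
      (restrictFunctor U.ι) (T U ⋙ DCoh.gammaAb X)
      (Functor.associator _ _ _ ≪≫ Functor.isoWhiskerLeft _ (pushGammaIso U.ι)) I e)
    (objIso.{u} (DCoh.gammaAb (V : Scheme.{u})) (DCoh.RΓ (V : Scheme.{u})) βV
      (restrictFunctor V.ι) (T V ⋙ DCoh.gammaAb X)
      (Functor.associator _ _ _ ≪≫ Functor.isoWhiskerLeft _ (pushGammaIso V.ι)) I e)
    (objIso.{u} (DCoh.gammaAb ((U ⊓ V : X.Opens) : Scheme.{u}))
      (DCoh.RΓ ((U ⊓ V : X.Opens) : Scheme.{u})) βW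
      (restrictFunctor (U ⊓ V).ι) (T (U ⊓ V) ⋙ DCoh.gammaAb X)
      (Functor.associator _ _ _ ≪≫ Functor.isoWhiskerLeft _ (pushGammaIso (U ⊓ V).ι)) I e)

end Opens

end Groth.Agent.Lib.T2H1.MVTri
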