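import Groth.Agent.Lib.T2H2QcRpushE
import Groth.Agent.Lib.T2H1MVTri

/-!
# `Rf_*` commutes with shifts (objectwise), shifted cohomological bounds, and
truncations in `D_QCoh` (helper1)

* `exists_Rpush_shift_iso`: `Rf_*(E⟦n⟧) ≅ (Rf_* E)⟦n⟧`.
* `isQCohD_shift`.
* `isLE_Rpush_of_bdd`: if `Rf_*` maps `D_QCoh^{≤ 0}` into `D^{< N}` then it maps `D_QCoh^{≤ n}`
  into `D^{≤ n + N - 1}`.
* `isQCohD_truncLT`: `τ_{<n}` preserves `D_QCoh`.
* `relMV`: the relative Mayer–Vietoris statement used by `T2H2.QcRpush`.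
-/

set_option autoImplicit false
universe u
open CategoryTheory CategoryTheory.Limits CategoryTheory.Pretriangulated AlgebraicGeometry

attribute [local instance] HasDerivedCategory.standard

namespace Groth.Agent.Lib.T2H1.RpushShift

open Scheme.Modules Groth.Agent.Lib.T2H1.MVTri Groth.Agent.Lib.T2H1.RpushSupport
  Groth.Agent.Lib.T2H1.SESTriangle Groth.Agent.Lib.T2H2.QcRpush

attribute [local instance] Groth.Agent.Lib.T2H1.RpushSupport.hasRpush

/-- the relative Mayer–Vietoris triangle, in the form used by `T2H2.QcRpush`. -/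
theorem relMV : Groth.Agent.Lib.T2H2.QcRpush.RelMV.{u} :=
  fun f U V hUV E => Groth.Agent.Lib.T2H1.MVTri.exists_relative_mv_triangle U V hUV f E

variable {X Y : Scheme.{u}}

/-- `Rg_*` commutes with shifts, objectwise. -/
theorem exists_Rpush_shift_iso (g : X ⟶ Y) (E : DCoh.D X) (n : ℤ) :
    Nonempty ((DCoh.Rpush g).obj (E⟦n⟧) ≅ ((DCoh.Rpush g).obj E)⟦n⟧) := by
  obtain ⟨I, hI, -, ⟨e⟩⟩ := exists_rep E
  obtain ⟨β, hβ⟩ := exists_unit_Rpush g
  haveI := hI
  have e₀ := objIso₀.{u} (pushforward g) (DCoh.Rpush g) β I e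
  have e₁ : E⟦n⟧ ≅ DerivedCategory.Q.obj (I⟦n⟧) :=
    (shiftFunctor _ n).mapIso e ≪≫ ((DerivedCategory.Q.commShiftIso n).app I).symm
  have e₂ := objIso₀.{u} (pushforward g) (DCoh.Rpush g) β (I⟦n⟧) e₁
  exact ⟨e₂ ≪≫ DerivedCategory.Q.mapIso
      ((((pushforward g).mapHomologicalComplex (ComplexShape.up ℤ)).commShiftIso n).app I) ≪≫
    (DerivedCategory.Q.commShiftIso n).app _ ≪≫ (shiftFunctor _ n).mapIso e₀.symm⟩

/-- the cohomology sheaves of a shift. -/
noncomputable def HDShiftIso (E : DCoh.D X) (n i j : ℤ) (h : n + i = j) :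
    DCoh.HD (E⟦n⟧) i ≅ DCoh.HD E j :=
  ((DerivedCategory.homologyFunctor X.Modules 0).shiftIso n i j h).app E

theorem isQCohD_shift (E : DCoh.D X) (hE : DCoh.IsQCohD E) (n : ℤ) : DCoh.IsQCohD (E⟦n⟧) :=
  fun i => Groth.Agent.Lib.T2H8.PCohQCoh.isQCoh_of_iso (HDShiftIso E n i (n + i) rfl).symm
    (hE (n + i))

/-- a bound for `D_QCoh^{≤ 0}` gives the shifted bounds. -/
theorem isLE_Rpush_of_bdd (g : X ⟶ Y) (N : ℤ) (hB : Bdd g N) (E : DCoh.D X)
    (hE : DCoh.IsQCohD E) (n : ℤ) [E.IsLE n] : ((DCoh.Rpush g).obj E).IsLE (n + N - 1) := by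
  rw [DerivedCategory.isLE_iff]
  intro k hk
  obtain ⟨e⟩ := exists_Rpush_shift_iso g E n
  haveI : (E⟦n⟧).IsLE 0 := DerivedCategory.TStructure.t.isLE_shift E n n 0 (by lia)
  have h1 := hB (E⟦n⟧) (isQCohD_shift E hE n) inferInstance (k - n) (by lia)
  exact IsZero.of_iso h1 ((HDShiftIso _ n (k - n) k (by lia)).symm ≪≫
    (DerivedCategory.homologyFunctor Y.Modules (k - n)).mapIso e.symm)

/-- `τ_{<n}` preserves `D_QCoh`. -/
theorem isQCohD_truncLT (A : DCoh.D X) (hA : DCoh.IsQCohD A) (n : ℤ) :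
    DCoh.IsQCohD ((DerivedCategory.TStructure.t.truncLT n).obj A) := by
  intro i
  let t := (DerivedCategory.TStructure.t : Triangulated.TStructure (DCoh.D X))
  let T := (t.triangleLTGE n).obj A
  have hT : T ∈ distTriang _ := t.triangleLTGE_distinguished n A
  haveI : t.IsLE T.obj₁ (n - 1) := by dsimp [T]; infer_instance
  haveI : t.IsGE T.obj₃ n := by dsimp [T]; infer_instance
  by_cases hi : i < n
  · -- `H^i(τ_{<n} A) ≅ H^i(A)`
    have hz1 : IsZero ((DerivedCategory.homologyFunctor X.Modules (i - 1)).obj T.obj₃) :=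
      DerivedCategory.isZero_of_isGE T.obj₃ n (i - 1) (by lia)
    have hz2 : IsZero ((DerivedCategory.homologyFunctor X.Modules i).obj T.obj₃) :=
      DerivedCategory.isZero_of_isGE T.obj₃ n i hi
    haveI : Mono ((DerivedCategory.homologyFunctor X.Modules i).map T.mor₁) :=
      (DerivedCategory.HomologySequence.exact₁ T hT (i - 1) i (by lia)).mono_g
        (hz1.eq_of_src _ _)
    haveI : Epi ((DerivedCategory.homologyFunctor X.Modules i).map T.mor₁) :=
      (DerivedCategory.HomologySequence.exact₂ T hT i).epi_f (hz2.eq_of_tgt _ _)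
    haveI : IsIso ((DerivedCategory.homologyFunctor X.Modules i).map T.mor₁) :=
      isIso_of_mono_of_epi _
    exact Groth.Agent.Lib.T2H8.PCohQCoh.isQCoh_of_iso
      (asIso ((DerivedCategory.homologyFunctor X.Modules i).map T.mor₁)).symm (hA i)
  · exact isQCoh_of_isZero (DerivedCategory.isZero_of_isLE T.obj₁ (n - 1) i (by lia))

end Groth.Agent.Lib.T2H1.RpushShift
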