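import Mathlib
import Groth.Prelude.Def_DCoh2
import Groth.Agent.S0484
import Groth.Agent.Lib.Helper17DBrown2
import Groth.Agent.Lib.Helper23QCohAbelian
import Groth.Agent.Lib.T2H8HomologyCoprod

/-!
# Coproducts in `D(O_X)` of objects with quasi-coherent cohomology
-/

set_option autoImplicit false
universe u
open CategoryTheory CategoryTheory.Limits AlgebraicGeometry

namespace Groth.Agent.Lib.T2H8.QCohDCoprod

open Groth.Agent.Lib.T2H8.HomologyCoprod Groth.Agent.Lib.Helper17.DBrown
  Groth.Agent.Lib.Helper23.QCohLocal DerivedCategory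

attribute [local instance] HasDerivedCategory.standard

variable {X : Scheme.{u}}

/-- the category of `O_X`-modules is Grothendieck abelian -/
local instance instGrothendieck : IsGrothendieckAbelian.{u} X.Modules :=
  Groth.Agent.S0484.result (Opens.grothendieckTopology X) X.ringCatSheaf

lemma isQCoh_of_iso {M N : X.Modules} (e : M ≅ N) (hM : M.IsQuasicoherent) : N.IsQuasicoherent :=
  (SheafOfModules.isQuasicoherent X.ringCatSheaf).prop_of_iso e hM

/-- the homology of a coproduct of complexes with quasi-coherent homology is quasi-coherent -/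
theorem isQCoh_homology_sigma {ι : Type u} (F : ι → CochainComplex X.Modules ℤ) (j : ℤ)
    (hF : ∀ i, ((F i).homology j).IsQuasicoherent) :
    ((∐ F : CochainComplex X.Modules ℤ).homology j).IsQuasicoherent := by
  have h1 : (colimit ((famCx F).homology j)).IsQuasicoherent :=
    isQuasicoherent_colimit _ (fun ⟨i⟩ => isQCoh_of_iso (famHomologyIso F j i).symm (hF i))
  exact isQCoh_of_iso ((sigmaHomologyIso F j).symm ≪≫
    (HomologicalComplex.homologyFunctor _ _ j).mapIso (sigmaIso F).symm) h1

theorem main_S1040 (X : Scheme.{u}) {ι : Type u} (K : ι → DCoh.D X)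
    (hK : ∀ i, DCoh.IsQCohD (K i)) [HasCoproduct K] : DCoh.IsQCohD (∐ K) := by
  intro j
  let F : ι → CochainComplex X.Modules ℤ := fun i => Q.objPreimage (K i)
  let e : ∀ i, Q.obj (F i) ≅ K i := fun i => Q.objObjPreimageIso (K i)
  let φ : ∐ K ≅ Q.obj (∐ F : CochainComplex X.Modules ℤ) :=
    IsColimit.coconePointsIsoOfNatIso (coproductIsCoproduct K) (isColimitQSigma F)
      (Discrete.natIso (fun i => (e i.as).symm))
  have hF : ∀ i, ((F i).homology j).IsQuasicoherent := fun i =>
    isQCoh_of_iso ((DerivedCategory.homologyFunctor X.Modules j).mapIso (e i).symm ≪≫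
      (DerivedCategory.homologyFunctorFactors X.Modules j).app (F i)) (hK i j)
  exact isQCoh_of_iso (((DerivedCategory.homologyFunctorFactors X.Modules j).app _).symm ≪≫
    (DerivedCategory.homologyFunctor X.Modules j).mapIso φ.symm) (isQCoh_homology_sigma F j hF)

end Groth.Agent.Lib.T2H8.QCohDCoprod
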