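import Mathlib
import Groth.Agent.Lib.T2H1RDerTri
import Groth.Agent.Lib.T2H1RpushShift
import Groth.Agent.Lib.T2H8QCohDCoprod
import Groth.Agent.S6593
import Groth.Agent.S11116
import Groth.Agent.Lib.T2H1GlueOpens
import Groth.Agent.Lib.T2H1RestrictPush
import Groth.Agent.Lib.Helper23ModLocal
import Groth.Agent.Lib.Helper17AdjWay1

/-!
# `Rf_*` is triangulated and commutes with coproducts on `D_QCoh` (helper1)

* `isIso_homologyMap_mor₂`, `isLE_sigma`: generalities on `D(C)`.
* `commShiftRpush f`, `isTriangulated_Rpush f`: the triangulated structure on `DCoh.Rpush f`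
  (from `T2H1RDerTri`).
* `isIso_homologyMap_Rpush_mor₂`: cohomological boundedness of `Rf_*` on `D_QCoh` along triangles.
* `isIso_sigmaComparison_of_bdd`: `Rf_*` commutes with coproducts in `D_QCoh` (bounded `f`).
* `isZero_of_isZero_restrictD_cover`, `isIso_of_isIso_restrictD_cover`: locality on the base.
* `isIso_sigmaComparison_of_isQCohD`: `Rf_*` commutes with coproducts in `D_QCoh`, `f` qcqs.
-/

set_option autoImplicit false
universe w v u' u
open CategoryTheory CategoryTheory.Limits CategoryTheory.Pretriangulated AlgebraicGeometry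

attribute [local instance] HasDerivedCategory.standard

namespace Groth.Agent.Lib.T2H1.RpushQCCoprod

section General

variable {C : Type u'} [Category.{v} C] [Abelian C] [HasDerivedCategory.{w} C]

open DerivedCategory in
/-- in a distinguished triangle with `H^p` and `H^{p+1}` of the first vertex zero, the second
morphism is an isomorphism on `H^p`. -/
lemma isIso_homologyMap_mor₂ (T : Triangle (DerivedCategory C)) (hT : T ∈ distTriang _) (p : ℤ)
    (h₁ : IsZero ((homologyFunctor C p).obj T.obj₁))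
    (h₂ : IsZero ((homologyFunctor C (p + 1)).obj T.obj₁)) :
    IsIso ((homologyFunctor C p).map T.mor₂) := by
  haveI : Mono ((homologyFunctor C p).map T.mor₂) :=
    (HomologySequence.mono_homologyMap_mor₂_iff T hT p).2 (h₁.eq_of_src _ _)
  haveI : Epi ((homologyFunctor C p).map T.mor₂) :=
    (HomologySequence.epi_homologyMap_mor₂_iff T hT p (p + 1) rfl).2 (h₂.eq_of_tgt _ _)
  exact isIso_of_mono_of_epi _

/-- `D^{≤ n}` is stable under coproducts. -/
lemma isLE_sigma {ι : Type*} (X : ι → DerivedCategory C) [HasCoproduct X] (n : ℤ)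
    (h : ∀ i, (X i).IsLE n) : (∐ X).IsLE n := by
  change DerivedCategory.TStructure.t.IsLE (∐ X) n
  rw [DerivedCategory.TStructure.t.isLE_iff_orthogonal n (n + 1) rfl]
  intro Y g hY
  refine Sigma.hom_ext _ _ (fun i => ?_)
  haveI : DerivedCategory.TStructure.t.IsLE (X i) n := h i
  rw [comp_zero]
  exact DerivedCategory.TStructure.t.zero (Sigma.ι X i ≫ g) n (n + 1) (by lia)

end General

section Scheme

open Groth.Agent.Lib.T2H1.RpushShift Groth.Agent.Lib.T2H2.QcRpush

variable {X S : Scheme.{u}} (f : X ⟶ S) [DCoh.HasRpush f]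

/-- `Rf_*` commutes with shifts. -/
noncomputable def commShiftRpush : (DCoh.Rpush f).CommShift ℤ :=
  Groth.Agent.Lib.T2H1.RDerTri.commShift.{u} (Scheme.Modules.pushforward f) (DCoh.Rpush f)
    ((DCoh.pushKh f).totalRightDerivedUnit DerivedCategory.Qh
      (HomotopyCategory.quasiIso X.Modules (ComplexShape.up ℤ)))

/-- `Rf_*` is a triangulated functor. -/
lemma isTriangulated_Rpush :
    letI := commShiftRpush f
    (DCoh.Rpush f).IsTriangulated :=
  Groth.Agent.Lib.T2H1.RDerTri.isTriangulated.{u} (Scheme.Modules.pushforward f) (DCoh.Rpush f)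
    ((DCoh.pushKh f).totalRightDerivedUnit DerivedCategory.Qh
      (HomotopyCategory.quasiIso X.Modules (ComplexShape.up ℤ)))

/-- if the first vertex of a distinguished triangle is in `D_QCoh^{< a}`, then `Rf_*` of the second
morphism is an isomorphism on `H^p` for `p ≥ a + N - 1` (`N` a cohomological bound for `f`). -/
theorem isIso_homologyMap_Rpush_mor₂ (N : ℤ) (hB : Bdd f N) (T : Triangle (DCoh.D X))
    (hT : T ∈ distTriang _) (a : ℤ) (h₁ : DCoh.IsQCohD T.obj₁) [T.obj₁.IsLE (a - 1)]
    (p : ℤ) (hp : a + N - 1 ≤ p) :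
    IsIso ((DerivedCategory.homologyFunctor S.Modules p).map ((DCoh.Rpush f).map T.mor₂)) := by
  letI := commShiftRpush f
  haveI := isTriangulated_Rpush f
  have hT' := (DCoh.Rpush f).map_distinguished T hT
  haveI := isLE_Rpush_of_bdd f N hB T.obj₁ h₁ (a - 1)
  exact isIso_homologyMap_mor₂ _ hT' p
    (DerivedCategory.isZero_of_isLE ((DCoh.Rpush f).obj T.obj₁) (a - 1 + N - 1) p (by lia))
    (DerivedCategory.isZero_of_isLE ((DCoh.Rpush f).obj T.obj₁) (a - 1 + N - 1) (p + 1) (by lia))

open Groth.Agent.Lib.Helper17.DBrown in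
/-- `Rf_*` commutes with coproducts in `D_QCoh`, when `f` is qcqs with a cohomological bound. -/
theorem isIso_sigmaComparison_of_bdd [QuasiCompact f] [QuasiSeparated f] (N : ℤ) (hB : Bdd f N)
    {ι : Type u} (K : ι → DCoh.D X) (hK : ∀ i, DCoh.IsQCohD (K i))
    [HasCoproduct K] [HasCoproduct fun i => (DCoh.Rpush f).obj (K i)] :
    IsIso (sigmaComparison (DCoh.Rpush f) K) := by
  letI := commShiftRpush f
  haveI := isTriangulated_Rpush f
  haveI : HasCoproducts.{u} (DCoh.D X) := hasCoproducts_derivedCategory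
  haveI : HasCoproducts.{u} (DCoh.D S) := hasCoproducts_derivedCategory
  rw [DerivedCategory.isIso_iff]
  intro p
  let t := (DerivedCategory.TStructure.t : Triangulated.TStructure (DCoh.D X))
  obtain ⟨a, ha⟩ : ∃ a : ℤ, a + N - 1 ≤ p := ⟨p - N + 1, by lia⟩
  let T : ι → Triangle (DCoh.D X) := fun i => (t.triangleLTGE a).obj (K i)
  have hT : ∀ i, T i ∈ distTriang _ := fun i => t.triangleLTGE_distinguished a (K i)
  have hq : ∀ i, DCoh.IsQCohD (T i).obj₁ := fun i => isQCohD_truncLT (K i) (hK i) a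
  have hle : ∀ i, (T i).obj₁.IsLE (a - 1) := fun i => t.isLE_truncLT_obj (K i) a (a - 1)
  let G : ι → DCoh.D X := fun i => (t.truncGE a).obj (K i)
  let v : ∀ i, K i ⟶ G i := fun i => (t.truncGEπ a).app (K i)
  have hge : ∀ i, (G i).IsGE a := fun i => t.isGE_truncGE_obj (K i) a a
  -- the coproduct triangle in `D(X)`
  let ST : Triangle (DCoh.D X) := Triangle.mk (Limits.Sigma.map (fun j => (T j).mor₁))
    (Limits.Sigma.map (fun j => (T j).mor₂))
    (Sigma.desc (fun j => (T j).mor₃ ≫
      (shiftFunctor (DCoh.D X) (1 : ℤ)).map (Sigma.ι (fun j => (T j).obj₁) j)))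
  have hST : ST ∈ distTriang _ := Groth.Agent.S6593.result T hT
  haveI : ST.obj₁.IsLE (a - 1) := isLE_sigma (fun i => (T i).obj₁) _ hle
  have h_right : IsIso ((DerivedCategory.homologyFunctor S.Modules p).map
      ((DCoh.Rpush f).map (Limits.Sigma.map v))) :=
    isIso_homologyMap_Rpush_mor₂ f N hB ST hST a
      (Groth.Agent.Lib.T2H8.QCohDCoprod.main_S1040 X (fun i => (T i).obj₁) hq) p ha
  -- the coproduct triangle in `D(S)`
  let T' : ι → Triangle (DCoh.D S) := fun i => (DCoh.Rpush f).mapTriangle.obj (T i)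
  have hT' : ∀ i, T' i ∈ distTriang _ := fun i => (DCoh.Rpush f).map_distinguished _ (hT i)
  let ST' : Triangle (DCoh.D S) := Triangle.mk (Limits.Sigma.map (fun j => (T' j).mor₁))
    (Limits.Sigma.map (fun j => (T' j).mor₂))
    (Sigma.desc (fun j => (T' j).mor₃ ≫
      (shiftFunctor (DCoh.D S) (1 : ℤ)).map (Sigma.ι (fun j => (T' j).obj₁) j)))
  have hST' : ST' ∈ distTriang _ := Groth.Agent.S6593.result T' hT'
  have hle' : ∀ i, (T' i).obj₁.IsLE (a - 1 + N - 1) := fun i =>
    haveI := hle i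
    isLE_Rpush_of_bdd f N hB (T i).obj₁ (hq i) (a - 1)
  haveI : ST'.obj₁.IsLE (a - 1 + N - 1) := isLE_sigma (fun i => (T' i).obj₁) _ hle'
  have h_left : IsIso ((DerivedCategory.homologyFunctor S.Modules p).map
      (Limits.Sigma.map (fun i => (DCoh.Rpush f).map (v i)))) :=
    isIso_homologyMap_mor₂ ST' hST' p
      (DerivedCategory.isZero_of_isLE ST'.obj₁ (a - 1 + N - 1) p (by lia))
      (DerivedCategory.isZero_of_isLE ST'.obj₁ (a - 1 + N - 1) (p + 1) (by lia))
  -- the bounded below case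
  have h_G : IsIso (sigmaComparison (DCoh.Rpush f) G) :=
    Groth.Agent.S11116.result f G a hge
  -- the commutative square
  have sq : sigmaComparison (DCoh.Rpush f) K ≫ (DCoh.Rpush f).map (Limits.Sigma.map v) =
      Limits.Sigma.map (fun i => (DCoh.Rpush f).map (v i)) ≫
        sigmaComparison (DCoh.Rpush f) G := by
    refine Sigma.hom_ext _ _ (fun i => ?_)
    rw [ι_comp_sigmaComparison_assoc, ← Functor.map_comp, Sigma.ι_map, Sigma.ι_map_assoc,
      ι_comp_sigmaComparison, Functor.map_comp]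
  have sq' : (DerivedCategory.homologyFunctor S.Modules p).map
      (sigmaComparison (DCoh.Rpush f) K) ≫
      (DerivedCategory.homologyFunctor S.Modules p).map
        ((DCoh.Rpush f).map (Limits.Sigma.map v)) =
      (DerivedCategory.homologyFunctor S.Modules p).map
        (Limits.Sigma.map (fun i => (DCoh.Rpush f).map (v i))) ≫
      (DerivedCategory.homologyFunctor S.Modules p).map (sigmaComparison (DCoh.Rpush f) G) := by
    rw [← Functor.map_comp, ← Functor.map_comp, sq]
  haveI := h_right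
  haveI := h_left
  haveI := h_G
  haveI : IsIso ((DerivedCategory.homologyFunctor S.Modules p).map
      (sigmaComparison (DCoh.Rpush f) K) ≫
      (DerivedCategory.homologyFunctor S.Modules p).map
        ((DCoh.Rpush f).map (Limits.Sigma.map v))) := by
    rw [sq']
    infer_instance
  exact IsIso.of_isIso_comp_right _ ((DerivedCategory.homologyFunctor S.Modules p).map
        ((DCoh.Rpush f).map (Limits.Sigma.map v)))

end Scheme

section Local

open Groth.Agent.Lib.T2H1.RpushSupport Scheme.Modules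

variable {S : Scheme.{u}}

/-- an object of `D(O_S)` vanishing on an open cover is zero. -/
theorem isZero_of_isZero_restrictD_cover (C : DCoh.D S) {κ : Type*} (W : κ → Scheme.{u})
    (j : ∀ i, W i ⟶ S) [∀ i, IsOpenImmersion (j i)] (hj : ∀ x : S, ∃ (i : κ) (y : W i), j i y = x)
    (h : ∀ i, IsZero ((DCoh.restrictD (j i)).obj C)) : IsZero C := by
  refine isZero_of_forall_isZero_homology _ (fun k => ?_)
  refine Groth.Agent.Lib.Helper23.ModLocal.isZero_of_isZero_restrict W j hj (fun i => ?_)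
  exact IsZero.of_iso (Functor.map_isZero _ (h i))
    (Groth.Agent.Lib.Helper17.AdjWay.homologyIso (restrictFunctor (j i)) C k).symm

/-- isomorphisms in `D(O_S)` are detected on an open cover. -/
theorem isIso_of_isIso_restrictD_cover {A B : DCoh.D S} (φ : A ⟶ B) {κ : Type*}
    (W : κ → Scheme.{u}) (j : ∀ i, W i ⟶ S) [∀ i, IsOpenImmersion (j i)]
    (hj : ∀ x : S, ∃ (i : κ) (y : W i), j i y = x)
    (h : ∀ i, IsIso ((DCoh.restrictD (j i)).map φ)) : IsIso φ := by
  obtain ⟨C, g, d, hT⟩ := distinguished_cocone_triangle φ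
  refine (Triangle.isZero₃_iff_isIso₁ _ hT).1 ?_
  refine isZero_of_isZero_restrictD_cover C W j hj (fun i => ?_)
  have hT' := (DCoh.restrictD (j i)).map_distinguished _ hT
  exact (Triangle.isZero₃_iff_isIso₁ _ hT').2 (h i)

end Local

section Main

open Groth.Agent.Lib.T2H1.RpushShift Groth.Agent.Lib.T2H2.QcRpush Groth.Agent.Lib.Helper17.DBrown
  Groth.Agent.Lib.T2H1.GlueOpens Groth.Agent.Lib.T2H1.RgammaLoc

attribute [local instance] Groth.Agent.Lib.T2H1.RpushSupport.hasRpush

variable {X S : Scheme.{u}} (f : X ⟶ S) [DCoh.HasRpush f] [QuasiCompact f] [QuasiSeparated f]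

/-- `Rf_*` commutes with coproducts in `D_QCoh`, for `f` quasi-compact and quasi-separated. -/
theorem isIso_sigmaComparison_of_isQCohD {ι : Type u} (K : ι → DCoh.D X)
    (hK : ∀ i, DCoh.IsQCohD (K i))
    [HasCoproduct K] [HasCoproduct fun i => (DCoh.Rpush f).obj (K i)] :
    IsIso (sigmaComparison (DCoh.Rpush f) K) := by
  haveI : HasCoproducts.{u} (DCoh.D X) := hasCoproducts_derivedCategory
  haveI : HasCoproducts.{u} (DCoh.D S) := hasCoproducts_derivedCategory
  refine isIso_of_isIso_restrictD_cover _ (fun V : S.affineOpens => (V.1 : Scheme.{u}))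
    (fun V => V.1.ι) (fun x => ?_) (fun V => ?_)
  · obtain ⟨V, hV, hxV, -⟩ :=
      (TopologicalSpace.Opens.isBasis_iff_nbhd.1 S.isBasis_affineOpens)
        (TopologicalSpace.Opens.mem_top x)
    exact ⟨⟨V, hV⟩, ⟨x, hxV⟩, rfl⟩
  · haveI : HasCoproducts.{u} (DCoh.D (V.1 : Scheme.{u})) := hasCoproducts_derivedCategory
    haveI : HasCoproducts.{u} (DCoh.D ((f ⁻¹ᵁ V.1 : X.Opens) : Scheme.{u})) :=
      hasCoproducts_derivedCategory
    obtain ⟨adj⟩ := exists_adj V.1.ι
    haveI : PreservesColimitsOfSize.{u, u} (DCoh.restrictD V.1.ι) :=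
      adj.leftAdjoint_preservesColimits
    obtain ⟨adj'⟩ := exists_adj (f ⁻¹ᵁ V.1).ι
    haveI : PreservesColimitsOfSize.{u, u} (DCoh.restrictD (f ⁻¹ᵁ V.1).ι) :=
      adj'.leftAdjoint_preservesColimits
    obtain ⟨e⟩ := Groth.Agent.Lib.T2H1.RestrictPush.nonempty_restrictD_Rpush_iso f V.1
    haveI : CompactSpace (V.1 : Scheme.{u}) := isCompact_iff_compactSpace.1 V.2.isCompact
    obtain ⟨N, hN⟩ := exists_bdd_of_qcqs relMV (f ∣_ V.1)
    haveI h1 : PreservesColimit
        (Discrete.functor (fun i => (DCoh.restrictD (f ⁻¹ᵁ V.1).ι).obj (K i)))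
        (DCoh.Rpush (f ∣_ V.1)) :=
      PreservesCoproduct.of_iso_comparison (i := isIso_sigmaComparison_of_bdd (f ∣_ V.1) N hN _
        (fun i => isQCohD_restrictD _ (K i) (hK i)))
    haveI h1' : PreservesColimit (Discrete.functor K ⋙ DCoh.restrictD (f ⁻¹ᵁ V.1).ι)
        (DCoh.Rpush (f ∣_ V.1)) :=
      @preservesColimit_of_iso_diagram _ _ _ _ _ _ _ _ (DCoh.Rpush (f ∣_ V.1))
        (Discrete.compNatIsoDiscrete K (DCoh.restrictD (f ⁻¹ᵁ V.1).ι)).symm h1
    haveI h2 : PreservesColimit (Discrete.functor K)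
        (DCoh.restrictD (f ⁻¹ᵁ V.1).ι ⋙ DCoh.Rpush (f ∣_ V.1)) := inferInstance
    haveI h3 : PreservesColimit (Discrete.functor K) (DCoh.Rpush f ⋙ DCoh.restrictD V.1.ι) :=
      preservesColimit_of_natIso _ e.symm
    have key : sigmaComparison (DCoh.restrictD V.1.ι) (fun i => (DCoh.Rpush f).obj (K i)) ≫
        (DCoh.restrictD V.1.ι).map (sigmaComparison (DCoh.Rpush f) K) =
        sigmaComparison (DCoh.Rpush f ⋙ DCoh.restrictD V.1.ι) K := by
      refine Sigma.hom_ext _ _ (fun i => ?_)
      rw [ι_comp_sigmaComparison_assoc, ← Functor.map_comp, ι_comp_sigmaComparison]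
      exact (ι_comp_sigmaComparison (DCoh.Rpush f ⋙ DCoh.restrictD V.1.ι) K i).symm
    haveI : IsIso (sigmaComparison (DCoh.Rpush f ⋙ DCoh.restrictD V.1.ι) K) := inferInstance
    exact IsIso.of_isIso_fac_left key

end Main

end Groth.Agent.Lib.T2H1.RpushQCCoprod
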