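import Mathlib
import Groth.Agent.Lib.T2H1RpushQCCoprod
import Groth.Agent.Lib.T2H1LocCan
import Groth.Agent.Lib.T2H1RgammaSupp

set_option autoImplicit false
universe u
open CategoryTheory CategoryTheory.Limits CategoryTheory.Pretriangulated AlgebraicGeometry

attribute [local instance] HasDerivedCategory.standard

namespace Groth.Agent.Lib.T2H1.RgammaCoprod

open Scheme.Modules Groth.Agent.Lib.T2H1.RgammaLoc Groth.Agent.Lib.T2H1.RgammaSupp
  Groth.Agent.Lib.T2H1.LocCan Groth.Agent.Lib.T2H1.RpushQCCoprod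
  Groth.Agent.Lib.Helper17.DBrown Groth.Agent.Lib.T2H1.GlueOpens

attribute [local instance] Groth.Agent.Lib.T2H1.RpushSupport.hasRpush

variable {X : Scheme.{u}}

section Bij

variable {X' : Scheme.{u}} (j : X' ⟶ X) [IsOpenImmersion j] [DCoh.HasRpush j]

/-- in a distinguished triangle `A → B → Rj_* M →`, composition with `A → B` is a bijection
`Hom(S, A) ≃ Hom(S, B)` for every `S` vanishing on `j`. -/
theorem bijective_comp_mor₁ (T : Triangle (DCoh.D X)) (hT : T ∈ distTriang _) (M : DCoh.D X')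
    (e : T.obj₃ ≅ (DCoh.Rpush j).obj M) (S : DCoh.D X)
    (hS : IsZero ((DCoh.restrictD j).obj S)) :
    Function.Bijective (fun φ : S ⟶ T.obj₁ => φ ≫ T.mor₁) := by
  have hz : ∀ (S' : DCoh.D X), IsZero ((DCoh.restrictD j).obj S') → ∀ g : S' ⟶ T.obj₃, g = 0 := by
    intro S' hS' g
    have h := hom_Rpush_eq_zero j S' hS' M (g ≫ e.hom)
    rw [← cancel_mono e.hom, h, zero_comp]
  constructor
  · intro φ₁ φ₂ h
    dsimp only at h
    have h0 : (φ₁ - φ₂) ≫ T.mor₁ = 0 := by
      rw [Preadditive.sub_comp, h, sub_self]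
    obtain ⟨g, hg⟩ := Triangle.coyoneda_exact₁ _ hT ((φ₁ - φ₂)⟦(1 : ℤ)⟧') (by
      rw [← Functor.map_comp, h0, Functor.map_zero])
    have hg0 : g = 0 := hz (S⟦(1 : ℤ)⟧) (isZero_restrictD_shift j S hS 1) g
    rw [hg0, zero_comp] at hg
    have h1 : φ₁ - φ₂ = 0 := (shiftFunctor (DCoh.D X) (1 : ℤ)).map_injective
      (hg.trans (Functor.map_zero _ _ _).symm)
    exact sub_eq_zero.1 h1
  · intro θ
    have h0 : θ ≫ T.mor₂ = 0 := hz S hS _
    obtain ⟨φ, hφ⟩ := Triangle.coyoneda_exact₂ _ hT θ h0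
    exact ⟨φ, hφ.symm⟩

end Bij

section Opens

variable (W : X.Opens) [QuasiCompact W.ι] [CxOX.HasRgammaZ W.ι]

lemma isZero_sigma'' {C : Type*} [Category C] [HasZeroMorphisms C] {ι : Type*} (M : ι → C)
    [HasCoproduct M] (h : ∀ i, IsZero (M i)) : IsZero (∐ M) := by
  rw [IsZero.iff_id_eq_zero]
  exact Sigma.hom_ext _ _ (fun i => (h i).eq_of_src _ _)

/-- `RΓ_Z` commutes with coproducts in `D_QCoh` (`Z` the complement of a retrocompact open `W`). -/
theorem isIso_sigmaComparison_RgammaZ {ι : Type u} (E : ι → DCoh.D X)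
    (hE : ∀ i, DCoh.IsQCohD (E i)) [HasCoproduct E]
    [HasCoproduct fun i => (CxOX.RgammaZ W.ι).obj (E i)] :
    IsIso (sigmaComparison (CxOX.RgammaZ W.ι) E) := by
  haveI : HasCoproducts.{u} (DCoh.D X) := hasCoproducts_derivedCategory
  haveI : HasCoproducts.{u} (DCoh.D (W : Scheme.{u})) := hasCoproducts_derivedCategory
  obtain ⟨adj⟩ := exists_adj W.ι
  haveI : PreservesColimitsOfSize.{u, u} (DCoh.restrictD W.ι) := adj.leftAdjoint_preservesColimits
  have hloc := fun i => exists_loc_triangle_can W (E i)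
  choose b c hT using hloc
  let T : ι → Triangle (DCoh.D X) := fun i =>
    Triangle.mk ((CxOX.RgammaZToId W.ι).app (E i)) (b i) (c i)
  let ST : Triangle (DCoh.D X) := Triangle.mk (Limits.Sigma.map (fun j => (T j).mor₁))
    (Limits.Sigma.map (fun j => (T j).mor₂))
    (Sigma.desc (fun j => (T j).mor₃ ≫
      (shiftFunctor (DCoh.D X) (1 : ℤ)).map (Sigma.ι (fun j => (T j).obj₁) j)))
  have hST : ST ∈ distTriang _ := Groth.Agent.S6593.result T hT
  -- the third vertex is a derived direct image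
  haveI : QuasiSeparated W.ι := inferInstance
  have hiso := isIso_sigmaComparison_of_isQCohD W.ι _ (fun i => isQCohD_restrictD W.ι (E i) (hE i))
  let e : ST.obj₃ ≅ (DCoh.Rpush W.ι).obj (∐ fun i => (DCoh.restrictD W.ι).obj (E i)) :=
    @asIso _ _ _ _ _ hiso
  -- both sides vanish on `W`
  have hA : IsZero ((DCoh.restrictD W.ι).obj (∐ fun i => (CxOX.RgammaZ W.ι).obj (E i))) :=
    IsZero.of_iso (isZero_sigma'' _ (fun i => isZero_restrictD_RgammaZ W.ι (E i)))
      (PreservesCoproduct.iso (DCoh.restrictD W.ι) (fun i => (CxOX.RgammaZ W.ι).obj (E i)))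
  have hR : IsZero ((DCoh.restrictD W.ι).obj ((CxOX.RgammaZ W.ι).obj (∐ E))) :=
    isZero_restrictD_RgammaZ W.ι (∐ E)
  have bijA := fun S hS => bijective_comp_mor₁ W.ι ST hST _ e S hS
  have bijR := fun S hS => bijective_comp_RgammaZToId W (∐ E) S hS
  have hα : sigmaComparison (CxOX.RgammaZ W.ι) E ≫ (CxOX.RgammaZToId W.ι).app (∐ E) =
      Limits.Sigma.map (fun i => (CxOX.RgammaZToId W.ι).app (E i)) := by
    refine Sigma.hom_ext _ _ (fun i => ?_)
    rw [ι_comp_sigmaComparison_assoc, Sigma.ι_map]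
    exact (CxOX.RgammaZToId W.ι).naturality (Sigma.ι E i)
  obtain ⟨β, hβ⟩ : ∃ β : (CxOX.RgammaZ W.ι).obj (∐ E) ⟶ ∐ fun i => (CxOX.RgammaZ W.ι).obj (E i),
      β ≫ Limits.Sigma.map (fun i => (CxOX.RgammaZToId W.ι).app (E i)) =
        (CxOX.RgammaZToId W.ι).app (∐ E) := (bijA _ hR).2 ((CxOX.RgammaZToId W.ι).app (∐ E))
  refine ⟨β, ?_, ?_⟩
  · refine (bijA _ hA).1 ?_
    show (sigmaComparison (CxOX.RgammaZ W.ι) E ≫ β) ≫
        Limits.Sigma.map (fun i => (CxOX.RgammaZToId W.ι).app (E i)) =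
      𝟙 (∐ fun i => (CxOX.RgammaZ W.ι).obj (E i)) ≫
        Limits.Sigma.map (fun i => (CxOX.RgammaZToId W.ι).app (E i))
    rw [Category.assoc, hβ, Category.id_comp]
    exact hα
  · refine (bijR _ hR).1 ?_
    show (β ≫ sigmaComparison (CxOX.RgammaZ W.ι) E) ≫ (CxOX.RgammaZToId W.ι).app (∐ E) =
      𝟙 _ ≫ (CxOX.RgammaZToId W.ι).app (∐ E)
    rw [Category.assoc, hα, Category.id_comp]
    exact hβ

end Opens

section Transport

variable {U U' : Scheme.{u}} (j : U ⟶ X) (j' : U' ⟶ X) [IsOpenImmersion j] [IsOpenImmersion j']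

lemma comp_unit_eq_zero_of_opensRange_eq (h : j.opensRange = j'.opensRange) {G F : X.Modules}
    (g : G ⟶ F) (hg : g ≫ (restrictAdjunction j).unit.app F = 0) :
    g ≫ (restrictAdjunction j').unit.app F = 0 := by
  ext V : 1
  have hV := congrArg (fun φ => Scheme.Modules.Hom.app φ V) hg
  simp only [Functor.id_obj, Functor.comp_obj, Hom.comp_app, restrictAdjunction_unit_app_app,
    Hom.zero_app] at hV ⊢
  have hopen : j' ''ᵁ j' ⁻¹ᵁ V = j ''ᵁ j ⁻¹ᵁ V := by
    rw [Scheme.Hom.image_preimage_eq_opensRange_inf, Scheme.Hom.image_preimage_eq_opensRange_inf, h]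
  have hV' : Hom.app g V ≫ F.presheaf.map (homOfLE (j.image_preimage_le V)).op = 0 := hV
  show Hom.app g V ≫ F.presheaf.map (homOfLE (j'.image_preimage_le V)).op = 0
  calc Hom.app g V ≫ F.presheaf.map (homOfLE (j'.image_preimage_le V)).op
      = (Hom.app g V ≫ F.presheaf.map (homOfLE (j.image_preimage_le V)).op) ≫
          F.presheaf.map (eqToHom hopen).op := by
        rw [Category.assoc, ← Functor.map_comp]
        rfl
    _ = 0 := by rw [hV', zero_comp]

/-- `Γ_Z` only depends on the image of the open immersion. -/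
noncomputable def gammaZIso (h : j.opensRange = j'.opensRange) : DCoh.gammaZ j ≅ DCoh.gammaZ j' :=
  NatIso.ofComponents (fun F =>
    { hom := kernel.lift _ (kernel.ι ((restrictAdjunction j).unit.app F))
        (comp_unit_eq_zero_of_opensRange_eq j j' h _ (kernel.condition _))
      inv := kernel.lift _ (kernel.ι ((restrictAdjunction j').unit.app F))
        (comp_unit_eq_zero_of_opensRange_eq j' j h.symm _ (kernel.condition _))
      hom_inv_id := by
        apply equalizer.hom_ext
        simp [DCoh.gammaZ]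
      inv_hom_id := by
        apply equalizer.hom_ext
        simp [DCoh.gammaZ] })
    (by
      intro F G φ
      apply equalizer.hom_ext
      simp [DCoh.gammaZ])

/-- `RΓ_Z` only depends on the image of the open immersion. -/
noncomputable def RgammaZIso (h : j.opensRange = j'.opensRange) [CxOX.HasRgammaZ j]
    [CxOX.HasRgammaZ j'] : CxOX.RgammaZ j ≅ CxOX.RgammaZ j' :=
  Functor.rightDerivedNatIso _ _
    ((CxOX.gammaZKh j).totalRightDerivedUnit DerivedCategory.Qh
      (HomotopyCategory.quasiIso X.Modules (ComplexShape.up ℤ)))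
    ((CxOX.gammaZKh j').totalRightDerivedUnit DerivedCategory.Qh
      (HomotopyCategory.quasiIso X.Modules (ComplexShape.up ℤ)))
    (HomotopyCategory.quasiIso X.Modules (ComplexShape.up ℤ))
    (Functor.isoWhiskerRight
      { hom := NatTrans.mapHomotopyCategory (gammaZIso j j' h).hom (ComplexShape.up ℤ)
        inv := NatTrans.mapHomotopyCategory (gammaZIso j j' h).inv (ComplexShape.up ℤ)
        hom_inv_id := by
          rw [← NatTrans.mapHomotopyCategory_comp, Iso.hom_inv_id,
            NatTrans.mapHomotopyCategory_id]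
        inv_hom_id := by
          rw [← NatTrans.mapHomotopyCategory_comp, Iso.inv_hom_id,
            NatTrans.mapHomotopyCategory_id] } DerivedCategory.Qh)

/-- `RΓ_Z` commutes with coproducts in `D_QCoh` (`Z` the complement of the image of a
quasi-compact open immersion). -/
theorem isIso_sigmaDesc_RgammaZ [QuasiCompact j] [CxOX.HasRgammaZ j] {ι : Type u}
    (E : ι → DCoh.D X) (hE : ∀ i, DCoh.IsQCohD (E i)) [HasCoproduct E]
    [HasCoproduct (fun i => (CxOX.RgammaZ j).obj (E i))] :
    IsIso (Sigma.desc (fun i => (CxOX.RgammaZ j).map (Sigma.ι E i))) := by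
  haveI : HasCoproducts.{u} (DCoh.D X) := hasCoproducts_derivedCategory
  haveI := hasRgammaZ (j.opensRange).ι
  haveI : QuasiCompact (j.opensRange).ι := by
    have hq : QuasiCompact ((Scheme.Hom.isoOpensRange j).inv ≫ j) := inferInstance
    rwa [Scheme.Hom.isoOpensRange_inv_comp] at hq
  have hiso := isIso_sigmaComparison_RgammaZ j.opensRange E hE
  have iso := RgammaZIso j (j.opensRange).ι (by simp)
  haveI : PreservesColimit (Discrete.functor E) (CxOX.RgammaZ (j.opensRange).ι) :=
    PreservesCoproduct.of_iso_comparison _ _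
  haveI : PreservesColimit (Discrete.functor E) (CxOX.RgammaZ j) :=
    preservesColimit_of_natIso _ iso.symm
  exact inferInstanceAs (IsIso (sigmaComparison (CxOX.RgammaZ j) E))

end Transport

end Groth.Agent.Lib.T2H1.RgammaCoprod
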