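import Mathlib
import Groth.Agent.Lib.T2H1RgammaCoprod
import Groth.Agent.Lib.T2H5ExtZeroSch

set_option autoImplicit false
universe v₁ v₂ u₁ u₂ u
open CategoryTheory CategoryTheory.Limits AlgebraicGeometry

namespace Groth.Agent.Lib.T2H1.GammaZInj

section Abstract

variable {𝒜 : Type u₁} [Category.{v₁} 𝒜] {ℬ : Type u₂} [Category.{v₂} ℬ] [Preadditive ℬ]
  {L : 𝒜 ⥤ ℬ} {R : ℬ ⥤ 𝒜} {P : 𝒜 ⥤ ℬ} (adjL : L ⊣ R) (adjR : R ⊣ P) [IsIso adjR.counit]
  (hε : ∀ M : ℬ, Mono (adjL.counit.app M))

include adjL hε in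
/-- for `j_! ⊣ j^* ⊣ j_*` with `j_*` fully faithful and `j_! j^* M ⟶ M` monic, the unit
`I ⟶ j_* j^* I` is a split epimorphism for injective `I`. -/
theorem exists_section_unit (I : ℬ) [Injective I] :
    ∃ s : P.obj (R.obj I) ⟶ I, s ≫ adjR.unit.app I = 𝟙 _ := by
  let ε : R.obj (P.obj (R.obj I)) ⟶ R.obj I := adjR.counit.app (R.obj I)
  let a : L.obj (R.obj I) ⟶ P.obj (R.obj I) := L.map (inv ε) ≫ adjL.counit.app (P.obj (R.obj I))
  haveI := hε (P.obj (R.obj I))
  haveI : Mono a := mono_comp _ _
  let s : P.obj (R.obj I) ⟶ I := Injective.factorThru (adjL.counit.app I) a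
  have hs : a ≫ s = adjL.counit.app I := Injective.comp_factorThru _ _
  have h1 : adjL.unit.app (R.obj I) ≫ R.map a = inv ε := by
    dsimp only [a]
    rw [R.map_comp, ← Category.assoc]
    have := adjL.unit.naturality (inv ε)
    dsimp at this
    rw [← this, Category.assoc, adjL.right_triangle_components, Category.comp_id]
  have h2 : inv ε ≫ R.map s = 𝟙 _ := by
    rw [← h1, Category.assoc, ← R.map_comp, hs]
    exact adjL.right_triangle_components I
  have hRs : R.map s = ε := by
    rw [← cancel_epi (inv ε), h2, IsIso.inv_hom_id]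
  refine ⟨s, ?_⟩
  apply (adjR.homEquiv _ _).symm.injective
  rw [Adjunction.homEquiv_counit, Adjunction.homEquiv_counit, R.map_comp, Category.assoc,
    adjR.left_triangle_components, Category.comp_id, hRs, R.map_id, Category.id_comp]

include adjL hε in
theorem injective_kernel_unit [HasKernels ℬ] (I : ℬ) [Injective I] :
    Injective (kernel (adjR.unit.app I)) := by
  obtain ⟨s, hs⟩ := exists_section_unit adjL adjR hε I
  let η : I ⟶ P.obj (R.obj I) := adjR.unit.app I
  have hs' : s ≫ η = 𝟙 _ := hs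
  show Injective (kernel η)
  have hp : (𝟙 I - η ≫ s) ≫ η = 0 := by
    rw [Preadditive.sub_comp, Category.assoc, hs', Category.id_comp, Category.comp_id, sub_self]
  let r : I ⟶ kernel η := kernel.lift η (𝟙 I - η ≫ s) hp
  have hr : kernel.ι η ≫ r = 𝟙 _ := by
    rw [← cancel_mono (kernel.ι η), Category.assoc, kernel.lift_ι, Preadditive.comp_sub,
      Category.comp_id, kernel.condition_assoc, zero_comp, sub_zero, Category.id_comp]
  exact Retract.injective (Y := I) ⟨kernel.ι η, r, hr⟩

end Abstract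

section Scheme

open Scheme.Modules Groth.Agent.Lib.T2H1.RgammaCoprod

variable {X : Scheme.{u}}

/-- `Γ_Z` preserves injective `O_X`-modules. -/
theorem injective_gammaZ {U : Scheme.{u}} (j : U ⟶ X) [IsOpenImmersion j] (I : X.Modules)
    [Injective I] : Injective ((DCoh.gammaZ j).obj I) := by
  have h := injective_kernel_unit (CxOX.extZeroAdj (j.opensRange).ι)
    (restrictAdjunction (j.opensRange).ι)
    (Groth.Agent.Lib.T2H5.ExtZeroSch.mono_counit j.opensRange) I
  have h' : Injective ((DCoh.gammaZ (j.opensRange).ι).obj I) := h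
  exact Injective.of_iso ((gammaZIso (j.opensRange).ι j (by simp)).app I) h'

end Scheme

end Groth.Agent.Lib.T2H1.GammaZInj
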