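import Mathlib
import Groth.Prelude.Def_AlgSpOX3
import Groth.Agent.Lib.Helper9SpPoint6

/-!
# Lifting geometric points through etale charts, with prescribed image point (helper1, team 2)
-/

set_option autoImplicit false
set_option linter.style.haveILetI false
set_option backward.isDefEq.respectTransparency false
open CategoryTheory CategoryTheory.Limits AlgebraicGeometry Opposite
universe u

namespace Groth.Agent.Lib.T2H1.GeomLift

open AlgSp

variable {S : Scheme.{u}}

/-- a geometric point whose image in `|X|` is the image of a point `v` of an etale chart lifts to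
the chart through `v`. -/
theorem exists_lift_through {X : Sp S} (p : FieldPt X) (hp : p.IsGeometric) {V : Over S}
    (b : (yon S).obj V ⟶ X) (hb : RepWith @Etale b) (v : ↥V.left)
    (h : Points.ofPt b v = Points.mk p) :
    ∃ l : p.pt ⟶ V, (yon S).map l ≫ b = p.toHom ∧
      l.left (default : Spec (CommRingCat.of p.K)) = v := by
  haveI : IsAlgClosed p.K := hp
  haveI : IsSepClosed p.K := inferInstance
  obtain ⟨Ω, hΩ, w, a, b', hab⟩ :=
    Groth.Agent.Lib.Helper9.SpPoint.rel_toHom (Points.mk_eq_mk_iff.1 h)
  rw [FieldPt.toHom_ofPt, ← Category.assoc, ← Functor.map_comp] at hab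
  have hrep := hb.1
  have hpb := hrep.isPullback p.toHom
  have het : Etale (hrep.snd p.toHom).left := hb.2 p.toHom _ _ hpb
  let c := hrep.lift' (a ≫ Over.homMk (V.left.fromSpecResidueField v) rfl) b' hab
  have hc : c ≫ hrep.fst' p.toHom = a ≫ Over.homMk (V.left.fromSpecResidueField v) rfl :=
    hrep.lift'_fst _ _ _
  let y : (hrep.pullback p.toHom).left := c.left (IsLocalRing.closedPoint Ω)
  have hy : (hrep.fst' p.toHom).left y = v := by
    have h1 : (c ≫ hrep.fst' p.toHom).left (IsLocalRing.closedPoint Ω) = v := by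
      rw [hc]
      change (V.left.fromSpecResidueField v) (a.left (IsLocalRing.closedPoint Ω)) = v
      exact Scheme.fromSpecResidueField_apply v _
    exact h1
  obtain ⟨l₀, hl₀, hl₁⟩ := Scheme.exists_fac_of_etale_of_isSepClosed
    (hrep.snd p.toHom).left (𝟙 (Spec (CommRingCat.of p.K))) y
    (Subsingleton.elim (α := Spec (CommRingCat.of p.K)) _ _)
  have h3 : l₀ ≫ (hrep.pullback p.toHom).hom = p.str := by
    have h1 : (hrep.snd p.toHom).left ≫ p.pt.hom = (hrep.pullback p.toHom).hom :=
      Over.w (hrep.snd p.toHom)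
    rw [← h1, ← Category.assoc, hl₀, Category.id_comp]
    rfl
  let σ : p.pt ⟶ hrep.pullback p.toHom := Over.homMk l₀ h3
  have hσ : σ ≫ hrep.snd p.toHom = 𝟙 _ := by
    apply Over.OverMorphism.ext
    exact hl₀
  refine ⟨σ ≫ hrep.fst' p.toHom, ?_, ?_⟩
  · rw [Functor.map_comp, Category.assoc, hrep.map_fst', hpb.w, ← Category.assoc,
      ← Functor.map_comp, hσ, CategoryTheory.Functor.map_id, Category.id_comp]
  · change (hrep.fst' p.toHom).left (l₀ (default : Spec (CommRingCat.of p.K))) = v
    rw [hl₁]
    exact hy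

end Groth.Agent.Lib.T2H1.GeomLift
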