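import Mathlib
import Groth.Agent.Lib.T2H1GorSp2
import Groth.Agent.Lib.Helper3HzP
import Groth.Agent.S10175

/-!
# Gorenstein morphisms of algebraic spaces and strict henselizations (helper1)
-/

set_option autoImplicit false
set_option linter.unusedVariables false
set_option linter.unusedSectionVars false
set_option linter.style.haveILetI false
universe u
open CategoryTheory CategoryTheory.Limits AlgebraicGeometry
open AlgSp

namespace Groth.Agent.Lib.T2H1.GorSp

open Groth.Agent.Lib.T2H1.FlatLocus Groth.Agent.Lib.Helper5.FiberMor IsLocalRing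

/-- a strict henselization of a Noetherian local ring is Gorenstein iff the ring is. -/
theorem gor_sh_iff (R : Type u) [CommRing R] [IsLocalRing R] [IsNoetherianRing R] (T : Type u)
    [CommRing T] [IsLocalRing T] [Algebra R T] [IsLocalHom (algebraMap R T)]
    [Hensel.IsStrictHenselization R T] :
    LocCoh.IsGorensteinLocalRing T ↔ LocCoh.IsGorensteinLocalRing R := by
  haveI : IsNoetherianRing T := Groth.Agent.Lib.Helper3.HzP.sh_isNoetherianRing R T
  haveI : Module.FaithfullyFlat R T := Groth.Agent.Lib.Helper3.HzP.sh_faithfullyFlat R T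
  have key := Groth.Agent.Lib.Helper5.FiberRing.flatLocalIff_gor R T (ResidueField T)
    (residue T) (residue_surjective) (by
      rw [Groth.Agent.Lib.Helper3.HzP.sh_map_maximalIdeal R T]
      exact IsLocalRing.ker_residue)
  exact ⟨fun h => (key.1 h).1,
    fun h => key.2 ⟨h, Groth.Agent.Lib.Helper5.GorRing.gorLocal_of_field _⟩⟩

variable {S : Scheme.{u}}

/-- a chart diagram over a given etale chart of the target through given points. -/
theorem exists_chart_over_point {X Y : AlgSp.Sp S} (hX : AlgSp.IsAlgSpace X)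
    (hY : AlgSp.IsAlgSpace Y) (f : X ⟶ Y) {V : Over S} (b : (AlgSp.yon S).obj V ⟶ Y)
    (hb : AlgSp.RepWith @Etale b) (x : AlgSp.Points X) (v : ↥V.left)
    (hv : AlgSp.Points.ofPt b v = AlgSp.Points.map f x) :
    ∃ (U : Over S) (a : (AlgSp.yon S).obj U ⟶ X) (h : U ⟶ V) (u : ↥U.left),
      a ≫ f = (AlgSp.yon S).map h ≫ b ∧ AlgSp.RepWith @Etale a ∧
      AlgSp.Points.ofPt a u = x ∧ h.left u = v := by
  obtain ⟨U, a, h, hab, ha, hs, -⟩ := exists_chart_over hX hY f b hb
  obtain ⟨ρ, hρ1, hρ2⟩ := Groth.Agent.S10175.exists_point_of_isPullback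
    (IsPullback.of_hasPullback f b).flip (AlgSp.Points.ofScheme V v) x (by
      rw [← AlgSp.Points.ofPt_eq_map_ofScheme]
      exact hv)
  obtain ⟨u, hu⟩ := Groth.Agent.S10177.surjective_ofPt _ hs ρ
  refine ⟨U, a, h, u, hab, ha, ?_, ?_⟩
  · rw [← hρ2, ← hu, AlgSp.Points.map_ofPt, pullback.lift_fst]
  · have h1 : AlgSp.Points.ofScheme V (h.left u) = AlgSp.Points.ofScheme V v := by
      rw [← hρ1, ← hu, AlgSp.Points.map_ofPt, pullback.lift_snd]
      have := Groth.Agent.S10176.ofPt_map_comp h (𝟙 ((AlgSp.yon S).obj V)) u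
      rw [Category.comp_id] at this
      exact this.symm
    exact (AlgSp.Points.schemeHomeo V).injective h1

/-- a flat morphism from a Gorenstein algebraic space to a locally Noetherian one is Gorenstein, and
the etale local rings of the target at the image points are Gorenstein. -/
theorem gor_of_flat_of_gorenstein {X Y : AlgSp.Sp S} (hX : AlgSp.IsAlgSpace X)
    (hY : AlgSp.IsAlgSpace Y) (f : X ⟶ Y) (hf : AlgSp.LocP @Flat f)
    (hX1 : AlgSp.IsLocNoethSp X) (hY1 : AlgSp.IsLocNoethSp Y)
    (hX2 : AlgSp.EtaleLocally Dual3.IsGorenstein X) :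
    (∀ x : AlgSp.Points X, AlgSp.LocPAt (fun h u => Dual3.IsGorensteinAt h u) f x) ∧
      ∀ (x : AlgSp.Points X) (V : Over S) (b : (AlgSp.yon S).obj V ⟶ Y), AlgSp.RepWith @Etale b →
        ∀ (v : ↥V.left), AlgSp.Points.ofPt b v = AlgSp.Points.map f x →
          ∀ (R : Type u) [CommRing R] [IsLocalRing R] [Algebra ↥(V.left.presheaf.stalk v) R]
            [IsLocalHom (algebraMap ↥(V.left.presheaf.stalk v) R)]
            [Hensel.IsStrictHenselization ↥(V.left.presheaf.stalk v) R],
            LocCoh.IsGorensteinLocalRing R := by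
  have key : ∀ {U V : Over S} (a : (AlgSp.yon S).obj U ⟶ X) (b : (AlgSp.yon S).obj V ⟶ Y)
      (h : U ⟶ V), AlgSp.RepWith @Etale a → AlgSp.RepWith @Etale b →
      a ≫ f = (AlgSp.yon S).map h ≫ b → Dual3.IsGorensteinMor h.left ∧
        ∀ u : ↥U.left, LocCoh.IsGorensteinLocalRing (V.left.presheaf.stalk (h.left u)) := by
    intro U V a b h ha hb hab
    haveI : IsLocallyNoetherian V.left :=
      Groth.Agent.Lib.Helper12.FibreSpec.isLocallyNoetherian_of_chart hY1 b hb
    haveI : Flat h.left := hf a b h ha hb hab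
    exact Groth.Agent.S3624.result U.left V.left h.left (isGorenstein_of_chart hX2 a ha)
  refine ⟨?_, ?_⟩
  · intro x U V a b h u ha hb hab hu
    exact (key a b h ha hb hab).1 u
  · intro x V b hb v hv R _ _ _ _ _
    obtain ⟨U, a, h, u, hab, ha, hu, rfl⟩ := exists_chart_over_point hX hY f b hb x v hv
    haveI : IsLocallyNoetherian V.left :=
      Groth.Agent.Lib.Helper12.FibreSpec.isLocallyNoetherian_of_chart hY1 b hb
    exact (gor_sh_iff (V.left.presheaf.stalk (h.left u)) R).2 ((key a b h ha hb hab).2 u)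

end Groth.Agent.Lib.T2H1.GorSp
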