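import Mathlib
import Groth.Agent.Lib.T2H1GorSp3
import Groth.Agent.Lib.T2H1ShFlat
import Groth.Agent.Lib.Helper3ShQuot

/-!
# Gorenstein morphisms of algebraic spaces at a point through strict henselizations (helper1)
-/

set_option autoImplicit false
set_option linter.unusedVariables false
set_option linter.unusedSectionVars false
set_option linter.style.haveILetI false
universe u
open CategoryTheory CategoryTheory.Limits AlgebraicGeometry
open AlgSp

namespace Groth.Agent.Lib.T2H1.GorSp

open Groth.Agent.Lib.T2H1.FlatLocus Groth.Agent.Lib.Helper5.FiberMor IsLocalRing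
open Groth.Agent.Lib.Helper3

section Alg

variable {A B A' B' : Type u} [CommRing A] [IsLocalRing A] [CommRing B] [IsLocalRing B]
  [CommRing A'] [IsLocalRing A'] [CommRing B'] [IsLocalRing B']
  [Algebra A A'] [IsLocalHom (algebraMap A A')] [Hensel.IsStrictHenselization A A']
  [Algebra B B'] [IsLocalHom (algebraMap B B')] [Hensel.IsStrictHenselization B B']
  (ψ : A →+* B) [IsLocalHom ψ] (φ : A' →+* B') [IsLocalHom φ]
  (hφ : φ.comp (algebraMap A A') = (algebraMap B B').comp ψ)

include hφ in
/-- flatness of a local homomorphism can be tested on strict henselizations. -/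
theorem flat_iff_flat_sh : ψ.Flat ↔ φ.Flat := by
  letI i1 : Algebra A B := ψ.toAlgebra
  letI i2 : Algebra A' B' := φ.toAlgebra
  haveI : IsLocalHom (algebraMap A B) := inferInstanceAs (IsLocalHom ψ)
  haveI : IsLocalHom (algebraMap A' B') := inferInstanceAs (IsLocalHom φ)
  constructor
  · intro h
    haveI : Module.Flat A B := h
    exact Groth.Agent.Lib.T2H1.ShFlat.flat_sh_local A B A' B' hφ
  · intro h
    haveI : Module.Flat A' B' := h
    haveI : Module.FaithfullyFlat A A' := HzP.sh_faithfullyFlat A A'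
    haveI : Module.FaithfullyFlat B B' := HzP.sh_faithfullyFlat B B'
    letI i3 : Algebra A B' := ((algebraMap B B').comp ψ).toAlgebra
    haveI : IsScalarTower A B B' := IsScalarTower.of_algebraMap_eq (fun _ => rfl)
    haveI : IsScalarTower A A' B' := IsScalarTower.of_algebraMap_eq (fun r =>
      (RingHom.congr_fun hφ r).symm)
    haveI : Module.Flat A B' := Module.Flat.trans A A' B'
    exact Groth.Agent.Lib.Helper28.flat_of_faithfullyFlat_of_flat_comp A B B'

/-- the quotient of a strict henselization by an extended ideal is Gorenstein iff the quotient of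
the ring is. -/
theorem gor_quot_sh_iff (I : Ideal B) (hI : I ≠ ⊤) [IsNoetherianRing (B ⧸ I)] :
    LocCoh.IsGorensteinLocalRing (B' ⧸ I.map (algebraMap B B')) ↔
      LocCoh.IsGorensteinLocalRing (B ⧸ I) := by
  have hJtop : I.map (algebraMap B B') ≠ ⊤ := by
    intro h
    have h1 : I.map (algebraMap B B') ≤ maximalIdeal B' :=
      (Ideal.map_mono (IsLocalRing.le_maximalIdeal hI)).trans
        (IsLocalRing.map_maximalIdeal_le (algebraMap B B'))
    rw [h] at h1
    exact (IsLocalRing.maximalIdeal.isMaximal B').ne_top (top_le_iff.1 h1)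
  haveI : Nontrivial (B ⧸ I) := Ideal.Quotient.nontrivial_iff.mpr hI
  haveI : Nontrivial (B' ⧸ I.map (algebraMap B B')) := Ideal.Quotient.nontrivial_iff.mpr hJtop
  haveI : IsLocalRing (B ⧸ I) :=
    IsLocalRing.of_surjective' (Ideal.Quotient.mk I) Ideal.Quotient.mk_surjective
  haveI : IsLocalRing (B' ⧸ I.map (algebraMap B B')) :=
    IsLocalRing.of_surjective' (Ideal.Quotient.mk _) Ideal.Quotient.mk_surjective
  haveI : IsLocalHom (algebraMap (B ⧸ I) (B' ⧸ I.map (algebraMap B B'))) := by
    refine ⟨fun a ha => ?_⟩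
    obtain ⟨r, rfl⟩ := Ideal.Quotient.mk_surjective a
    have h1 : algebraMap (B ⧸ I) (B' ⧸ I.map (algebraMap B B')) (Ideal.Quotient.mk I r) =
        Ideal.Quotient.mk _ (algebraMap B B' r) := rfl
    rw [h1] at ha
    haveI := ShQuot.isLocalHom_mk (I.map (algebraMap B B'))
    have h2 : IsUnit (algebraMap B B' r) := isUnit_of_map_unit (Ideal.Quotient.mk _) _ ha
    exact (isUnit_of_map_unit (algebraMap B B') r h2).map _
  haveI : Hensel.IsStrictHenselization (B ⧸ I) (B' ⧸ I.map (algebraMap B B')) :=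
    ShQuot.isStrictHenselization_quotient I
  exact gor_sh_iff (B ⧸ I) (B' ⧸ I.map (algebraMap B B'))

include hφ in
/-- being Gorenstein at a point, through strict henselizations. -/
theorem gorAt_sh_iff [IsNoetherianRing (B ⧸ (maximalIdeal A).map ψ)] :
    (ψ.Flat ∧ LocCoh.IsGorensteinLocalRing (B ⧸ (maximalIdeal A).map ψ)) ↔
      (φ.Flat ∧ LocCoh.IsGorensteinLocalRing (B' ⧸ (maximalIdeal A').map φ)) := by
  have hI : (maximalIdeal A).map ψ ≠ ⊤ := (IsLocalRing.map_maximalIdeal_lt_top ψ).ne
  have hid : (maximalIdeal A').map φ = ((maximalIdeal A).map ψ).map (algebraMap B B') := by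
    rw [← HzP.sh_map_maximalIdeal A A', Ideal.map_map, hφ, ← Ideal.map_map]
  have e := Ideal.quotEquivOfEq hid
  have h2 : LocCoh.IsGorensteinLocalRing (B' ⧸ (maximalIdeal A').map φ) ↔
      LocCoh.IsGorensteinLocalRing (B ⧸ (maximalIdeal A).map ψ) :=
    ⟨fun h => (gor_quot_sh_iff _ hI).1 (isoInv_gor _ _ e h),
      fun h => isoInv_gor _ _ e.symm ((gor_quot_sh_iff _ hI).2 h)⟩
  rw [flat_iff_flat_sh ψ φ hφ, h2]

end Alg

variable {S : Scheme.{u}}

/-- being Gorenstein at a point of an algebraic space, through strict henselizations of the local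
rings of a chart diagram. -/
theorem locPAt_gor_iff_sh {X Y : AlgSp.Sp S} (hX : AlgSp.IsAlgSpace X) (hY : AlgSp.IsAlgSpace Y)
    (f : X ⟶ Y) (hf : FibresLocNoeth f) (x : AlgSp.Points X) {U V : Over S}
    (a : (AlgSp.yon S).obj U ⟶ X) (b : (AlgSp.yon S).obj V ⟶ Y)
    (h : U ⟶ V) (ha : AlgSp.RepWith @Etale a) (hb : AlgSp.RepWith @Etale b)
    (hc : a ≫ f = (AlgSp.yon S).map h ≫ b)
    (u : ↥U.left) (hu : AlgSp.Points.ofPt a u = x)
    (R : Type u) [CommRing R] [IsLocalRing R] [Algebra ↥(U.left.presheaf.stalk u) R]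
    [IsLocalHom (algebraMap ↥(U.left.presheaf.stalk u) R)]
    [Hensel.IsStrictHenselization ↥(U.left.presheaf.stalk u) R]
    (R' : Type u) [CommRing R'] [IsLocalRing R'] [Algebra ↥(V.left.presheaf.stalk (h.left u)) R']
    [IsLocalHom (algebraMap ↥(V.left.presheaf.stalk (h.left u)) R')]
    [Hensel.IsStrictHenselization ↥(V.left.presheaf.stalk (h.left u)) R']
    (φ : R' →+* R) [IsLocalHom φ]
    (hφ : φ.comp (algebraMap ↥(V.left.presheaf.stalk (h.left u)) R') =
      (algebraMap ↥(U.left.presheaf.stalk u) R).comp (h.left.stalkMap u).hom) :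
    AlgSp.LocPAt (fun h u => Dual3.IsGorensteinAt h u) f x ↔
      φ.Flat ∧ LocCoh.IsGorensteinLocalRing (R ⧸ (IsLocalRing.maximalIdeal R').map φ) := by
  subst hu
  rw [locPAt_gor_iff_chart hX hY f hf a b h u ha hb hc]
  unfold Dual3.IsGorensteinAt
  rw [fiber_stalk_iff h.left u isoInv_gor]
  haveI : IsLocallyNoetherian (h.left.fiber (h.left u)) :=
    isLocallyNoetherian_fiber_of_chart hX hY f hf a b h ha hb hc (h.left u)
  haveI : IsNoetherianRing (U.left.presheaf.stalk u ⧸
      (maximalIdeal (V.left.presheaf.stalk (h.left u))).map (h.left.stalkMap u).hom) := by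
    obtain ⟨e⟩ := Groth.Agent.Lib.Helper5.FiberStalk.nonempty_stalk_asFiber_equiv h.left u
    exact isNoetherianRing_of_ringEquiv _ e
  exact gorAt_sh_iff (h.left.stalkMap u).hom φ hφ

end Groth.Agent.Lib.T2H1.GorSp
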