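import Mathlib

/-!
# Gordan's alternative and separation of a point from a finite convex hull over an ordered field
-/

set_option autoImplicit false

namespace Groth.Agent.Lib.T2H1.Gordan

variable {K V : Type*} [Field K] [LinearOrder K] [IsStrictOrderedRing K]
  [AddCommGroup V] [Module K V]

theorem exists_pos_lt {n : ℕ} (a : Fin n → K) (ha : ∀ k, 0 < a k) :
    ∃ ε : K, 0 < ε ∧ ∀ k, ε < a k := by
  induction n with
  | zero => exact ⟨1, one_pos, fun k => k.elim0⟩
  | succ n ih =>
    obtain ⟨ε, hε, h⟩ := ih (fun k => a k.succ) (fun k => ha _)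
    refine ⟨min ε (a 0 / 2), lt_min hε (half_pos (ha 0)), ?_⟩
    intro k
    refine Fin.cases ?_ (fun k => ?_) k
    · exact lt_of_le_of_lt (min_le_right _ _) (half_lt_self (ha 0))
    · exact lt_of_le_of_lt (min_le_left _ _) (h k)

theorem exists_gt {n : ℕ} (a : Fin n → K) : ∃ s : K, ∀ k, a k < s := by
  refine ⟨∑ k, |a k| + 1, fun k => ?_⟩
  have h1 : |a k| ≤ ∑ k, |a k| :=
    Finset.single_le_sum (f := fun k => |a k|) (fun _ _ => abs_nonneg _) (Finset.mem_univ k)
  have h2 := le_abs_self (a k)
  linarith

/-- Gordan's alternative over an ordered field. -/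
theorem gordan : ∀ (n : ℕ) (w : Fin n → V),
    (∃ c : Fin n → K, (∀ k, 0 ≤ c k) ∧ (∃ k, c k ≠ 0) ∧ ∑ k, c k • w k = 0) ∨
    (∃ f : V →ₗ[K] K, ∀ k, 0 < f (w k)) := by
  intro n
  induction n with
  | zero =>
    intro w
    exact Or.inr ⟨0, fun k => k.elim0⟩
  | succ n ih =>
    intro w
    rcases ih (fun k => w k.succ) with ⟨c', hc'0, ⟨k0, hk0⟩, hsum⟩ | ⟨f, hf⟩
    · left
      refine ⟨Fin.cons 0 c', ?_, ⟨k0.succ, by simpa using hk0⟩, ?_⟩
      · intro k
        refine Fin.cases ?_ (fun k => ?_) k
        · simp
        · simpa using hc'0 k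
      · rw [Fin.sum_univ_succ]
        simpa using hsum
    · rcases lt_trichotomy (f (w 0)) 0 with hneg | hzero | hpos
      · -- f (w 0) < 0 : project to the kernel of f
        set a := f (w 0) with ha
        rcases ih (fun k => w k.succ - (f (w k.succ) / a) • w 0) with
          ⟨μ, hμ0, ⟨k0, hk0⟩, hsum⟩ | ⟨g, hg⟩
        · left
          refine ⟨Fin.cons (-(∑ k, μ k * f (w k.succ)) / a) μ, ?_, ⟨k0.succ, by simpa using hk0⟩, ?_⟩
          · intro k
            refine Fin.cases ?_ (fun k => ?_) k
            · simp only [Fin.cons_zero]
              apply div_nonneg_of_nonpos _ hneg.le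
              rw [neg_nonpos]
              exact Finset.sum_nonneg (fun k _ => mul_nonneg (hμ0 k) (hf k).le)
            · simpa using hμ0 k
          · rw [Fin.sum_univ_succ]
            simp only [Fin.cons_zero, Fin.cons_succ]
            have : ∑ k : Fin n, μ k • (w k.succ - (f (w k.succ) / a) • w 0)
                = ∑ k : Fin n, μ k • w k.succ - (∑ k : Fin n, μ k * f (w k.succ) / a) • w 0 := by
              simp only [smul_sub, Finset.sum_sub_distrib, Finset.sum_smul, smul_smul, mul_div_assoc]
            rw [this] at hsum
            rw [← hsum]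
            rw [neg_div, neg_smul, Finset.sum_div]
            abel
        · right
          set c0 := g (w 0) with hc0
          set s0 := -c0 / a with hs0
          have hgap : ∀ k : Fin n, 0 < s0 - (-g (w k.succ) / f (w k.succ)) := by
            intro k
            have h1 := hg k
            simp only [map_sub, map_smul, smul_eq_mul] at h1
            have hfk := hf k
            rw [sub_pos, div_lt_iff₀ hfk, hs0]
            have : -c0 / a * f (w k.succ) = - (f (w k.succ) / a * c0) := by
              field_simp
            rw [this]
            linarith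
          obtain ⟨ε, hε, hεlt⟩ := exists_pos_lt _ hgap
          refine ⟨g + (s0 - ε) • f, ?_⟩
          intro k
          refine Fin.cases ?_ (fun k => ?_) k
          · simp only [LinearMap.add_apply, LinearMap.smul_apply, smul_eq_mul]
            rw [← ha, ← hc0]
            have : (s0 - ε) * a = -c0 - ε * a := by
              rw [hs0, sub_mul, div_mul_cancel₀ _ hneg.ne]
            rw [this]
            have : 0 < -(ε * a) := by
              rw [neg_pos]
              exact mul_neg_of_pos_of_neg hε hneg
            linarith
          · simp only [LinearMap.add_apply, LinearMap.smul_apply, smul_eq_mul]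
            have h1 := hεlt k
            have hfk := hf k
            have h2 : -g (w k.succ) / f (w k.succ) < s0 - ε := by linarith
            rw [div_lt_iff₀ hfk] at h2
            linarith
      · -- f (w 0) = 0
        by_cases hw0 : w 0 = 0
        · left
          refine ⟨Fin.cons 1 0, ?_, ⟨0, by simp⟩, ?_⟩
          · intro k
            refine Fin.cases ?_ (fun k => ?_) k
            · simp
            · simp
          · rw [Fin.sum_univ_succ]
            simp [hw0]
        · right
          obtain ⟨g0, hg0⟩ : ∃ g : Module.Dual K V, g (w 0) ≠ 0 := by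
            by_contra hcon
            push_neg at hcon
            exact hw0 ((Module.forall_dual_apply_eq_zero_iff K (w 0)).mp hcon)
          obtain ⟨g, hg⟩ : ∃ g : V →ₗ[K] K, 0 < g (w 0) := by
            rcases lt_or_gt_of_ne hg0 with h | h
            · exact ⟨-g0, by simpa using h⟩
            · exact ⟨g0, h⟩
          obtain ⟨s, hs⟩ := exists_gt (fun k : Fin n => -g (w k.succ) / f (w k.succ))
          refine ⟨g + s • f, ?_⟩
          intro k
          refine Fin.cases ?_ (fun k => ?_) k
          · simp only [LinearMap.add_apply, LinearMap.smul_apply, smul_eq_mul, hzero, mul_zero,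
              add_zero]
            exact hg
          · simp only [LinearMap.add_apply, LinearMap.smul_apply, smul_eq_mul]
            have h2 := hs k
            rw [div_lt_iff₀ (hf k)] at h2
            linarith
      · right
        refine ⟨f, fun k => ?_⟩
        refine Fin.cases ?_ (fun k => ?_) k
        · exact hpos
        · exact hf k

/-- A point outside the convex hull of a finite family is strictly separated from it by a linear
functional. -/
theorem exists_separating {κ : Type*} [Finite κ] (v : κ → V) (x : V)
    (hx : x ∉ convexHull K (Set.range v)) : ∃ f : V →ₗ[K] K, ∀ k, f x < f (v k) := by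
  classical
  haveI : Fintype κ := Fintype.ofFinite κ
  let e := Fintype.equivFin κ
  rcases gordan (K := K) (Fintype.card κ) (fun k => v (e.symm k) - x) with ⟨c, hc0, ⟨k0, hk0⟩, hsum⟩ | ⟨f, hf⟩
  · exfalso
    apply hx
    have hC : 0 < ∑ k, c k := by
      refine lt_of_lt_of_le ?_ (Finset.single_le_sum (fun k _ => hc0 k) (Finset.mem_univ k0))
      exact lt_of_le_of_ne (hc0 k0) (Ne.symm hk0)
    have hxeq : x = ∑ k, (c k / ∑ k, c k) • v (e.symm k) := by
      have h1 : ∑ k, c k • (v (e.symm k) - x) = ∑ k, c k • v (e.symm k) - (∑ k, c k) • x := by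
        rw [Finset.sum_smul, ← Finset.sum_sub_distrib]
        exact Finset.sum_congr rfl (fun k _ => smul_sub _ _ _)
      rw [h1, sub_eq_zero] at hsum
      have h2 : ∑ k, (c k / ∑ k, c k) • v (e.symm k)
          = (∑ k, c k)⁻¹ • ∑ k, c k • v (e.symm k) := by
        rw [Finset.smul_sum]
        exact Finset.sum_congr rfl (fun k _ => by rw [smul_smul, div_eq_inv_mul])
      rw [h2, hsum, smul_smul, inv_mul_cancel₀ hC.ne', one_smul]
    rw [hxeq]
    apply (convex_convexHull K (Set.range v)).sum_mem
    · intro k _
      exact div_nonneg (hc0 k) hC.le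
    · rw [← Finset.sum_div, div_self hC.ne']
    · intro k _
      exact subset_convexHull K _ ⟨_, rfl⟩
  · refine ⟨f, fun k => ?_⟩
    have := hf (e k)
    simp only [Equiv.symm_apply_apply, map_sub, sub_pos] at this
    exact this

end Groth.Agent.Lib.T2H1.Gordan
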