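import Mathlib
import Groth.Agent.Lib.Helper15Groupoid
import Groth.Agent.S10125
import Groth.Agent.S9911
import Groth.Agent.Lib.Helper12LocPCases

/-!
# T2H1Gpd: groupoids in algebraic spaces (helper1)

The composition square `(c, pr₂) : R ×_{s,t} R ≅ R ×_{s,s} R`, flatness and universal openness of
morphisms to the spectrum of a field.
-/

set_option autoImplicit false
universe u
open CategoryTheory CategoryTheory.Limits AlgebraicGeometry
open AlgSp

namespace Groth.Agent.Lib.T2H1.Gpd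

open Groth.Agent.Lib.Helper15Groupoid Groth.Agent.Lib.Helper12.LocPCases

variable {S : Scheme.{u}} {B : AlgSp.Sp S} (G : AlgSp.GroupoidSp B)

lemma c_s : G.c ≫ G.s = pullback.snd G.s G.t ≫ G.s := by
  rw [c_eq G]; exact comp_src G _ _ _

lemma c_t : G.c ≫ G.t = pullback.fst G.s G.t ≫ G.t := by
  rw [c_eq G]; exact comp_tgt G _ _ _

/-- the composition square: `(c, pr₂) : R ×_{s,t} R ≅ R ×_{s,s} R`. -/
lemma isPullback_c : IsPullback G.c (pullback.snd G.s G.t) G.s G.s := by
  refine ⟨⟨c_s G⟩, ⟨PullbackCone.IsLimit.mk _ (fun c => ?_) ?_ ?_ ?_⟩⟩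
  · have h₁ : c.fst ≫ G.s = (c.snd ≫ G.i) ≫ G.t := by
      rw [Category.assoc, G.i_t, c.condition]
    have h₂ : comp G c.fst (c.snd ≫ G.i) h₁ ≫ G.s = c.snd ≫ G.t := by
      rw [comp_src, Category.assoc, G.i_s]
    exact pullback.lift (comp G c.fst (c.snd ≫ G.i) h₁) c.snd h₂
  · intro c
    exact comp_inv_comp G c.fst c.snd c.condition _ _
  · intro c
    exact pullback.lift_snd _ _ _
  · intro c m hm1 hm2
    apply pullback.hom_ext
    · rw [pullback.lift_fst]
      have h : (m ≫ pullback.fst _ _) ≫ G.s = (m ≫ pullback.snd _ _) ≫ G.t := by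
        rw [Category.assoc, Category.assoc, pullback.condition]
      have e1 : c.fst = comp G (m ≫ pullback.fst _ _) (m ≫ pullback.snd _ _) h := by
        rw [← hm1]; exact lift_c G m
      have h₂ : comp G (m ≫ pullback.fst _ _) (m ≫ pullback.snd _ _) h ≫ G.s =
          ((m ≫ pullback.snd _ _) ≫ G.i) ≫ G.t := by
        rw [comp_src, Category.assoc _ G.i, G.i_t]
      rw [← comp_comp_inv G (m ≫ pullback.fst _ _) (m ≫ pullback.snd _ _) h h₂]
      apply comp_congr
      · exact e1.symm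
      · rw [hm2]
    · rw [pullback.lift_snd]; exact hm2


/-- `LocP` is invariant under postcomposition with an isomorphism (flat case via charts). -/
lemma isUnivOpenMor_comp_iso {X Y Y' : AlgSp.Sp S} (f : X ⟶ Y) (e : Y ⟶ Y') [IsIso e]
    (hf : AlgSp.IsUnivOpenMor (f ≫ e)) : AlgSp.IsUnivOpenMor f := by
  intro Z Z' hZ c fst' snd' sq'
  refine hf hZ (c ≫ e) fst' snd' ?_
  exact IsPullback.of_iso sq' (Iso.refl _) (Iso.refl _) (Iso.refl _) (asIso e)
    (by simp) (by simp) (by simp) (by simp)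

/-- a morphism from an algebraic space to the spectrum of a field is flat and universally open -/
lemma flat_univOpen_to_field {X U : AlgSp.Sp S} (hX : AlgSp.IsAlgSpace X) (f : X ⟶ U)
    (k : Type u) [Field k] (σ : Spec (CommRingCat.of k) ⟶ S)
    (eU : U ≅ (AlgSp.yon S).obj (Over.mk σ)) :
    AlgSp.LocP @Flat f ∧ AlgSp.IsUnivOpenMor f := by
  constructor
  · intro V W a b h ha hb hc
    -- compose the chart `b` with `eU.hom`
    obtain ⟨b₀, hb₀⟩ := (AlgSp.yon S).map_surjective (b ≫ eU.hom)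
    have hb' : AlgSp.RepWith @Etale ((AlgSp.yon S).map b₀) := by
      rw [hb₀]
      exact MorphismProperty.RespectsIso.postcomp _ eU.hom b hb
    haveI : Etale b₀.left := (AlgSp.repWith_yon_map_iff _ _).1 hb'
    haveI : Subsingleton ↥(Over.mk σ).left :=
      inferInstanceAs (Subsingleton (PrimeSpectrum k))
    haveI : IsIntegral (Over.mk σ).left :=
      inferInstanceAs (IsIntegral (Spec (CommRingCat.of k)))
    have h1 : Flat (h.left ≫ b₀.left) := inferInstance
    exact good_flat.hcancel h.left b₀.left inferInstance h1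
  · apply isUnivOpenMor_comp_iso f eU.hom
    exact Groth.Agent.S9911.result (⟨X, hX⟩ : AlgSp.Space S) σ (ObjectProperty.homMk (f ≫ eU.hom))

end Groth.Agent.Lib.T2H1.Gpd

/-! ## restriction of a groupoid -/

namespace Groth.Agent.Lib.T2H1.Gpd

open Groth.Agent.Lib.Helper15Groupoid Groth.Agent.Lib.Helper12.LocPCases

variable {S : Scheme.{u}} {B : AlgSp.Sp S} {G G' : AlgSp.GroupoidSp B}
  (φ : AlgSp.GroupoidSp.Hom G' G)

/-- `R' ⟶ R ×_{s,U} U'` -/
noncomputable def restrS : G'.R ⟶ pullback G.s φ.fU := pullback.lift φ.fR G'.s φ.comm_s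

/-- `R' ⟶ R ×_{t,U} U'` -/
noncomputable def restrT : G'.R ⟶ pullback G.t φ.fU := pullback.lift φ.fR G'.t φ.comm_t

lemma restrS_snd : restrS φ ≫ pullback.snd _ _ = G'.s := pullback.lift_snd _ _ _
lemma restrT_snd : restrT φ ≫ pullback.snd _ _ = G'.t := pullback.lift_snd _ _ _
lemma restrS_fst : restrS φ ≫ pullback.fst _ _ = φ.fR := pullback.lift_fst _ _ _
lemma restrT_fst : restrT φ ≫ pullback.fst _ _ = φ.fR := pullback.lift_fst _ _ _

variable {φ}

/-- `R' = U' ×_{U,t} (R ×_{s,U} U')` -/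
lemma isPullback_restrS (hφ : φ.IsRestriction) :
    IsPullback (restrS φ) G'.t (pullback.fst G.s φ.fU ≫ G.t) φ.fU := by
  have hw : restrS φ ≫ pullback.fst G.s φ.fU ≫ G.t = G'.t ≫ φ.fU := by
    rw [← Category.assoc, restrS_fst, φ.comm_t]
  refine ⟨⟨hw⟩, ⟨PullbackCone.IsLimit.mk _ (fun c => ?_) ?_ ?_ ?_⟩⟩
  · have e1 : c.snd ≫ φ.fU = c.fst ≫ pullback.fst _ _ ≫ G.t := c.condition.symm
    have e2 : pullback.snd G.s φ.fU ≫ φ.fU = pullback.fst _ _ ≫ G.s := pullback.condition.symm
    have h1 : c.snd ≫ G'.pU = (c.fst ≫ pullback.snd _ _) ≫ G'.pU := by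
      rw [← φ.fU_over]
      simp only [Category.assoc, reassoc_of% e1, reassoc_of% e2, G.t_over, G.s_over]
    refine hφ.lift (c.fst ≫ pullback.fst _ _) (pullback.lift c.snd (c.fst ≫ pullback.snd _ _) h1) ?_
    apply pullback.hom_ext
    · simp only [Category.assoc]
      rw [G.j_fst, AlgSp.GroupoidSp.Hom.prodMap,
        pullback.lift_fst, pullback.lift_fst_assoc, e1]
    · simp only [Category.assoc]
      rw [G.j_snd, AlgSp.GroupoidSp.Hom.prodMap,
        pullback.lift_snd, pullback.lift_snd_assoc, Category.assoc, e2]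
  · intro c
    apply pullback.hom_ext
    · rw [Category.assoc, restrS_fst, hφ.lift_fst]
    · rw [Category.assoc, restrS_snd, ← G'.j_snd, hφ.lift_snd_assoc, pullback.lift_snd]
  · intro c
    rw [← G'.j_fst, hφ.lift_snd_assoc, pullback.lift_fst]
  · intro c m hm1 hm2
    apply hφ.hom_ext
    · rw [hφ.lift_fst, ← hm1, Category.assoc, restrS_fst]
    · rw [hφ.lift_snd]
      apply pullback.hom_ext
      · rw [Category.assoc, G'.j_fst, pullback.lift_fst, hm2]
      · rw [Category.assoc, G'.j_snd, pullback.lift_snd, ← hm1, Category.assoc, restrS_snd]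

/-- `R' = U' ×_{U,s} (R ×_{t,U} U')` -/
lemma isPullback_restrT (hφ : φ.IsRestriction) :
    IsPullback (restrT φ) G'.s (pullback.fst G.t φ.fU ≫ G.s) φ.fU := by
  have hw : restrT φ ≫ pullback.fst G.t φ.fU ≫ G.s = G'.s ≫ φ.fU := by
    rw [← Category.assoc, restrT_fst, φ.comm_s]
  refine ⟨⟨hw⟩, ⟨PullbackCone.IsLimit.mk _ (fun c => ?_) ?_ ?_ ?_⟩⟩
  · have e1 : c.snd ≫ φ.fU = c.fst ≫ pullback.fst _ _ ≫ G.s := c.condition.symm
    have e2 : pullback.snd G.t φ.fU ≫ φ.fU = pullback.fst _ _ ≫ G.t := pullback.condition.symm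
    have h1 : (c.fst ≫ pullback.snd _ _) ≫ G'.pU = c.snd ≫ G'.pU := by
      rw [← φ.fU_over]
      simp only [Category.assoc, reassoc_of% e1, reassoc_of% e2, G.t_over, G.s_over]
    refine hφ.lift (c.fst ≫ pullback.fst _ _) (pullback.lift (c.fst ≫ pullback.snd _ _) c.snd h1) ?_
    apply pullback.hom_ext
    · simp only [Category.assoc]
      rw [G.j_fst, AlgSp.GroupoidSp.Hom.prodMap,
        pullback.lift_fst, pullback.lift_fst_assoc, Category.assoc, e2]
    · simp only [Category.assoc]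
      rw [G.j_snd, AlgSp.GroupoidSp.Hom.prodMap,
        pullback.lift_snd, pullback.lift_snd_assoc, e1]
  · intro c
    apply pullback.hom_ext
    · rw [Category.assoc, restrT_fst, hφ.lift_fst]
    · rw [Category.assoc, restrT_snd, ← G'.j_fst, hφ.lift_snd_assoc, pullback.lift_fst]
  · intro c
    rw [← G'.j_snd, hφ.lift_snd_assoc, pullback.lift_snd]
  · intro c m hm1 hm2
    apply hφ.hom_ext
    · rw [hφ.lift_fst, ← hm1, Category.assoc, restrT_fst]
    · rw [hφ.lift_snd]
      apply pullback.hom_ext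
      · rw [Category.assoc, G'.j_fst, pullback.lift_fst, ← hm1, Category.assoc, restrT_snd]
      · rw [Category.assoc, G'.j_snd, pullback.lift_snd, hm2]

/-- restriction preserves a good property of `s`, `t` -/
lemma locP_restrict {P : MorphismProperty Scheme.{u}} (hP : Good P)
    (hU : AlgSp.IsAlgSpace G.U) (hR : AlgSp.IsAlgSpace G.R)
    (hU' : AlgSp.IsAlgSpace G'.U) (hφ : φ.IsRestriction)
    (hs : AlgSp.LocP P G.s) (ht : AlgSp.LocP P G.t) (hg : AlgSp.LocP P φ.fU) :
    AlgSp.LocP P G'.s ∧ AlgSp.LocP P G'.t := by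
  have hPs : AlgSp.IsAlgSpace (pullback G.s φ.fU) :=
    Groth.Agent.S9874.isAlgSpace_of_isPullback hU.diag hR hU' (IsPullback.of_hasPullback _ _)
  have hPt : AlgSp.IsAlgSpace (pullback G.t φ.fU) :=
    Groth.Agent.S9874.isAlgSpace_of_isPullback hU.diag hR hU' (IsPullback.of_hasPullback _ _)
  constructor
  · rw [← restrS_snd φ]
    refine hP.locP_comp hPs hU' _ _ ?_ ?_
    · exact hP.locP_baseChange hU' hU hPs (isPullback_restrS hφ).flip hg
    · exact hP.locP_baseChange hR hU hU' (IsPullback.of_hasPullback _ _) hs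
  · rw [← restrT_snd φ]
    refine hP.locP_comp hPt hU' _ _ ?_ ?_
    · exact hP.locP_baseChange hU' hU hPt (isPullback_restrT hφ).flip hg
    · exact hP.locP_baseChange hR hU hU' (IsPullback.of_hasPullback _ _) ht

end Groth.Agent.Lib.T2H1.Gpd
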