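import Mathlib
import Groth.Agent.Lib.T2H1Gpd
import Groth.Agent.S9944
import Groth.Agent.S9907

/-!
# T2H1Gpd2: restriction of a groupoid over a field along a field extension (helper1)

Composition of universally open / surjective morphisms, affine-ness of `h_f` for `f` affine, and
`restrict_field` (S10132).
-/

set_option autoImplicit false
universe u
open CategoryTheory CategoryTheory.Limits AlgebraicGeometry
open AlgSp

namespace Groth.Agent.Lib.T2H1.Gpd2

open Groth.Agent.Lib.Helper15Groupoid Groth.Agent.Lib.Helper12.LocPCases Groth.Agent.Lib.T2H1.Gpd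

variable {S : Scheme.{u}}

/-- universally open morphisms compose (middle and target algebraic spaces). -/
lemma isUnivOpenMor_comp {X Y Z : AlgSp.Sp S} (hY : AlgSp.IsAlgSpace Y) (hZ : AlgSp.IsAlgSpace Z)
    (f : X ⟶ Y) (g : Y ⟶ Z) (hf : AlgSp.IsUnivOpenMor f) (hg : AlgSp.IsUnivOpenMor g) :
    AlgSp.IsUnivOpenMor (f ≫ g) := by
  intro T T' hT c fst snd sq
  have hYT : AlgSp.IsAlgSpace (pullback g c) :=
    Groth.Agent.S9874.isAlgSpace_of_isPullback hZ.diag hY hT (IsPullback.of_hasPullback _ _)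
  let m : T' ⟶ pullback g c := pullback.lift (fst ≫ f) snd (by rw [Category.assoc, sq.w])
  have hm2 : m ≫ pullback.snd g c = snd := pullback.lift_snd _ _ _
  have hm1 : fst ≫ f = m ≫ pullback.fst g c := (pullback.lift_fst _ _ _).symm
  have sq' : IsPullback fst (m ≫ pullback.snd g c) (f ≫ g) c := by rw [hm2]; exact sq
  have sq1 : IsPullback fst m f (pullback.fst g c) :=
    IsPullback.of_bot sq' hm1 (IsPullback.of_hasPullback g c)
  have h1 : AlgSp.IsOpenMor m := hf hYT (pullback.fst g c) fst m sq1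
  have h2 : AlgSp.IsOpenMor (pullback.snd g c) :=
    hg hT c (pullback.fst g c) (pullback.snd g c) (IsPullback.of_hasPullback g c)
  rw [← hm2]
  change IsOpenMap (AlgSp.Points.map (m ≫ pullback.snd g c))
  have : AlgSp.Points.map (m ≫ pullback.snd g c) =
      AlgSp.Points.map (pullback.snd g c) ∘ AlgSp.Points.map m := by
    funext x; exact AlgSp.Points.map_comp _ _ x
  rw [this]
  exact h2.comp h1

lemma isSurjectiveMor_comp {X Y Z : AlgSp.Sp S} (f : X ⟶ Y) (g : Y ⟶ Z)
    (hf : AlgSp.IsSurjectiveMor f) (hg : AlgSp.IsSurjectiveMor g) :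
    AlgSp.IsSurjectiveMor (f ≫ g) := by
  change Function.Surjective (AlgSp.Points.map (f ≫ g))
  have : AlgSp.Points.map (f ≫ g) = AlgSp.Points.map g ∘ AlgSp.Points.map f := by
    funext x; exact AlgSp.Points.map_comp _ _ x
  rw [this]
  exact hg.comp hf

/-- a split epimorphism is surjective on points -/
lemma isSurjectiveMor_of_section {X Y : AlgSp.Sp S} (f : X ⟶ Y) (e : Y ⟶ X) (h : e ≫ f = 𝟙 Y) :
    AlgSp.IsSurjectiveMor f := by
  intro y
  refine ⟨AlgSp.Points.map e y, ?_⟩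
  rw [← AlgSp.Points.map_comp, h, AlgSp.Points.map_id]

lemma isSurjectiveMor_of_isIso {X Y : AlgSp.Sp S} (f : X ⟶ Y) [IsIso f] :
    AlgSp.IsSurjectiveMor f := isSurjectiveMor_of_section f (inv f) (by simp)

/-- isomorphisms are affine -/
lemma isAffineMor_of_isIso {X Y : AlgSp.Sp S} (f : X ⟶ Y) [IsIso f] : AlgSp.IsAffineMor f := by
  intro Z hZ g
  refine ⟨Z, 𝟙 Z, g ≫ inv f, ?_, hZ⟩
  rw [(AlgSp.yon S).map_id]
  exact IsPullback.of_vert_isIso ⟨by simp⟩

/-- an affine morphism of schemes is an affine morphism of sheaves -/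
lemma isAffineMor_yon_map {V W : Over S} (h : V ⟶ W) [IsAffineHom h.left] :
    AlgSp.IsAffineMor ((AlgSp.yon S).map h) := by
  have hr : AlgSp.RepWith @IsAffineHom ((AlgSp.yon S).map h) :=
    (AlgSp.repWith_yon_map_iff _ _).2 inferInstance
  intro Z hZ c
  obtain ⟨W', i, a, sq⟩ := hr.1 c
  haveI : IsAffineHom i.left := hr.2 _ _ i sq
  haveI : IsAffine Z.left := hZ
  exact ⟨W', i, a, sq, isAffine_of_isAffineHom i.left⟩

/-- a surjective morphism of schemes is surjective on points of sheaves -/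
lemma isSurjectiveMor_yon_map {V W : Over S} (h : V ⟶ W) (hs : Function.Surjective h.left) :
    AlgSp.IsSurjectiveMor ((AlgSp.yon S).map h) := by
  intro y
  obtain ⟨w, rfl⟩ := (AlgSp.Points.schemeEquiv W).surjective y
  obtain ⟨v, rfl⟩ := hs w
  refine ⟨AlgSp.Points.ofScheme V v, ?_⟩
  change AlgSp.Points.map ((AlgSp.yon S).map h) (AlgSp.Points.ofScheme V v) =
    AlgSp.Points.ofScheme W (h.left v)
  have h1 : AlgSp.Points.map ((AlgSp.yon S).map h) (AlgSp.Points.ofScheme V v) =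
      AlgSp.Points.ofPt ((AlgSp.yon S).map h) v := by
    rw [AlgSp.Points.map_ofPt, Category.id_comp]
  rw [h1, ← AlgSp.Points.ofScheme_toScheme W (AlgSp.Points.ofPt ((AlgSp.yon S).map h) v),
    AlgSp.Points.toScheme_ofPt]

/-- the restriction of a groupoid with `U = Spec k` along a field extension: everything in sight
is surjective, flat, universally open, and `R' ⟶ R` is affine. -/
lemma restrict_field {B : AlgSp.Sp S} {G G' : AlgSp.GroupoidSp B}
    (hR : AlgSp.IsAlgSpace G.R) (hR' : AlgSp.IsAlgSpace G'.R)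
    (k k' : Type u) [Field k] [Field k'] [Algebra k k'] (σ : Spec (CommRingCat.of k) ⟶ S)
    (eU : G.U ≅ ((AlgSp.yon S).obj (Over.mk σ)))
    (eU' : G'.U ≅ ((AlgSp.yon S).obj
      (Over.mk (Spec.map (CommRingCat.ofHom (algebraMap k k')) ≫ σ))))
    (φ : AlgSp.GroupoidSp.Hom G' G) (hφ : φ.IsRestriction)
    (hfU : φ.fU = eU'.hom ≫ (AlgSp.yon S).map
      (Over.homMk (Spec.map (CommRingCat.ofHom (algebraMap k k'))) rfl :
      Over.mk (Spec.map (CommRingCat.ofHom (algebraMap k k')) ≫ σ) ⟶ Over.mk σ) ≫ eU.inv) :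
    (∀ f ∈ [G.s, G.t], AlgSp.IsSurjectiveMor f ∧ AlgSp.LocP @Flat f ∧ AlgSp.IsUnivOpenMor f) ∧
      (∀ f ∈ [G'.s, G'.t],
        AlgSp.IsSurjectiveMor f ∧ AlgSp.LocP @Flat f ∧ AlgSp.IsUnivOpenMor f) ∧
      (AlgSp.IsSurjectiveMor φ.fU ∧ AlgSp.LocP @Flat φ.fU ∧ AlgSp.IsUnivOpenMor φ.fU) ∧
      (AlgSp.IsSurjectiveMor φ.fR ∧ AlgSp.LocP @Flat φ.fR ∧ AlgSp.IsUnivOpenMor φ.fR ∧
        AlgSp.IsAffineMor φ.fR) := by
  have hU : AlgSp.IsAlgSpace G.U := (AlgSp.IsAlgSpace.yon_obj _).of_iso eU.symm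
  have hU' : AlgSp.IsAlgSpace G'.U := (AlgSp.IsAlgSpace.yon_obj _).of_iso eU'.symm
  -- the morphism `U' ⟶ U`
  have hg1 : AlgSp.IsSurjectiveMor φ.fU := by
    rw [hfU]
    refine isSurjectiveMor_comp _ _ (isSurjectiveMor_of_isIso _)
      (isSurjectiveMor_comp _ _ ?_ (isSurjectiveMor_of_isIso _))
    apply isSurjectiveMor_yon_map
    intro x
    haveI : Subsingleton ↥(Over.mk σ).left := inferInstanceAs (Subsingleton (PrimeSpectrum k))
    haveI : Nonempty ↥(Over.mk (Spec.map (CommRingCat.ofHom (algebraMap k k')) ≫ σ)).left :=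
      inferInstanceAs (Nonempty (PrimeSpectrum k'))
    exact ⟨Classical.arbitrary _, Subsingleton.elim _ _⟩
  obtain ⟨hg2, hg3⟩ := flat_univOpen_to_field hU' φ.fU k σ eU
  have hg4 : AlgSp.IsAffineMor φ.fU := by
    rw [hfU]
    refine Groth.Agent.S9944.isAffineMor_comp _ _ (isAffineMor_of_isIso _)
      (Groth.Agent.S9944.isAffineMor_comp _ _ ?_ (isAffineMor_of_isIso _))
    haveI : IsAffineHom (Over.homMk (Spec.map (CommRingCat.ofHom (algebraMap k k'))) rfl :
      Over.mk (Spec.map (CommRingCat.ofHom (algebraMap k k')) ≫ σ) ⟶ Over.mk σ).left :=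
      inferInstanceAs (IsAffineHom (Spec.map (CommRingCat.ofHom (algebraMap k k'))))
    exact isAffineMor_yon_map _
  refine ⟨?_, ?_, ⟨hg1, hg2, hg3⟩, ?_⟩
  · intro f hf
    simp only [List.mem_cons, List.not_mem_nil, or_false] at hf
    rcases hf with rfl | rfl
    · exact ⟨isSurjectiveMor_of_section _ G.e G.e_s, flat_univOpen_to_field hR G.s k σ eU⟩
    · exact ⟨isSurjectiveMor_of_section _ G.e G.e_t, flat_univOpen_to_field hR G.t k σ eU⟩
  · intro f hf
    simp only [List.mem_cons, List.not_mem_nil, or_false] at hf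
    rcases hf with rfl | rfl
    · exact ⟨isSurjectiveMor_of_section _ G'.e G'.e_s, flat_univOpen_to_field hR' G'.s k' _ eU'⟩
    · exact ⟨isSurjectiveMor_of_section _ G'.e G'.e_t, flat_univOpen_to_field hR' G'.t k' _ eU'⟩
  · -- `R' ⟶ R` is a composite of two base changes of `U' ⟶ U`
    have hPs : AlgSp.IsAlgSpace (pullback G.s φ.fU) :=
      Groth.Agent.S9874.isAlgSpace_of_isPullback hU.diag hR hU' (IsPullback.of_hasPullback _ _)
    have sq1 := (isPullback_restrS hφ).flip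
    have sq2 := (IsPullback.of_hasPullback G.s φ.fU).flip
    rw [← restrS_fst φ]
    refine ⟨?_, ?_, ?_, ?_⟩
    · refine isSurjectiveMor_comp _ _ ?_ ?_
      · exact Groth.Agent.S9907.result (X := ⟨G'.U, hU'⟩) (Y := ⟨G.U, hU⟩)
          (Y' := ⟨pullback G.s φ.fU, hPs⟩) (ObjectProperty.homMk φ.fU)
          (ObjectProperty.homMk (pullback.fst G.s φ.fU ≫ G.t)) _ _ sq1 hg1
      · exact Groth.Agent.S9907.result (X := ⟨G'.U, hU'⟩) (Y := ⟨G.U, hU⟩)
          (Y' := ⟨G.R, hR⟩) (ObjectProperty.homMk φ.fU)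
          (ObjectProperty.homMk G.s) _ _ sq2 hg1
    · refine good_flat.locP_comp hPs hR _ _ ?_ ?_
      · exact good_flat.locP_baseChange hU' hU hPs sq1 hg2
      · exact good_flat.locP_baseChange hU' hU hR sq2 hg2
    · refine isUnivOpenMor_comp hPs hR _ _ ?_ ?_
      · exact Groth.Agent.S10125.isUnivOpenMor_baseChange sq1 hg3
      · exact Groth.Agent.S10125.isUnivOpenMor_baseChange sq2 hg3
    · refine Groth.Agent.S9944.isAffineMor_comp _ _ ?_ ?_
      · exact Groth.Agent.S9944.isAffineMor_of_isPullback sq1 hg4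
      · exact Groth.Agent.S9944.isAffineMor_of_isPullback sq2 hg4

end Groth.Agent.Lib.T2H1.Gpd2
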