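import Mathlib
import Groth.Agent.Lib.Helper12LargestOpen
import Groth.Agent.Lib.Helper12OpenSub2
import Groth.Agent.Lib.T2H1Gpd
import Groth.Prelude.Def_AlgSpCov

/-!
# T2H1GpdInv: invariance of largest open subspaces under a groupoid (helper1)

The largest open subspace `W ⊂ U` over which (a base change of) `s` has a property local on the base
for coverings containing `s` and `t` is `R`-invariant (S12197).
-/

set_option autoImplicit false
universe u
open CategoryTheory CategoryTheory.Limits AlgebraicGeometry Opposite TopologicalSpace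
open AlgSp

namespace Groth.Agent.Lib.T2H1.GpdInv

open Groth.Agent.Lib.Helper12 Groth.Agent.Lib.Helper12.LargestOpen Groth.Agent.Lib.T2H1.Gpd
  Groth.Agent.Lib.Helper15Groupoid

variable {S : Scheme.{u}} {Q P : MorphismProperty (AlgSp.Sp S)}

/-- the image of a `Q`-morphism over which `f` has `P` lies in the largest open subspace over which
`f` has `P`. -/
lemma range_subset_of_hmax (hQ : CovProp Q)
    (hP : AlgSp.IsLocalOnBase (fun _ _ Y g => AlgSp.IsCover Q Y g) P)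
    {X U : AlgSp.Sp S} (hX : AlgSp.IsAlgSpace X) (hU : AlgSp.IsAlgSpace U) (f : X ⟶ U)
    {W : AlgSp.Sp S} (w : W ⟶ U)
    (hmax : ∀ (W' : AlgSp.Sp S) (w' : W' ⟶ U), AlgSp.IsAlgSpace W' →
      AlgSp.RepWith @IsOpenImmersion w' → P (pullback.snd f w') → ∃ k : W' ⟶ W, k ≫ w = w')
    {V X' : AlgSp.Sp S} (hV : AlgSp.IsAlgSpace V) (hX' : AlgSp.IsAlgSpace X')
    (g : V ⟶ U) (g' : X' ⟶ X) (f' : X' ⟶ V) (hg : Q g) (sq : IsPullback g' f' f g)
    (hPf' : P f') :
    Set.range (AlgSp.Points.map g) ⊆ Set.range (AlgSp.Points.map w) := by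
  obtain ⟨𝒲, h1, -, h3, -⟩ := LargestOpen.main hQ hP
    (X := ⟨X, hX⟩) (Y := ⟨U, hU⟩) (ObjectProperty.homMk f)
  have hsub : Set.range (AlgSp.Points.map g) ⊆ (𝒲 : Set (AlgSp.Points U)) :=
    h3 ⟨V, hV⟩ ⟨X', hX'⟩ (ObjectProperty.homMk g) (ObjectProperty.homMk g')
      (ObjectProperty.homMk f') hg sq hPf'
  refine hsub.trans ?_
  have hW₁ : AlgSp.IsAlgSpace (OpenSub.obj U (𝒲 : Set (AlgSp.Points U))) :=
    OpenSub.isAlgSpace_obj hU 𝒲.2
  have hj₁ : AlgSp.RepWith @IsOpenImmersion (OpenSub.incl U (𝒲 : Set (AlgSp.Points U))) :=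
    OpenSub.repWith_incl 𝒲.2
  have hr₁ : Set.range (AlgSp.Points.map (OpenSub.incl U (𝒲 : Set (AlgSp.Points U)))) =
      (𝒲 : Set (AlgSp.Points U)) := OpenSub.range_map_incl _
  have sq₁ := IsPullback.of_hasPullback f (OpenSub.incl U (𝒲 : Set (AlgSp.Points U)))
  have hX₁ : AlgSp.IsAlgSpace (pullback f (OpenSub.incl U (𝒲 : Set (AlgSp.Points U)))) :=
    Groth.Agent.S9874.isAlgSpace_of_isPullback hU.diag hX hW₁ sq₁
  have hP₁ : P (pullback.snd f (OpenSub.incl U (𝒲 : Set (AlgSp.Points U)))) :=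
    h1 ⟨_, hW₁⟩ ⟨_, hX₁⟩ (ObjectProperty.homMk (OpenSub.incl U (𝒲 : Set (AlgSp.Points U))))
      (ObjectProperty.homMk (pullback.fst f _)) (ObjectProperty.homMk (pullback.snd f _))
      hj₁ hr₁ sq₁
  obtain ⟨k, hk⟩ := hmax _ _ hW₁ hj₁ hP₁
  rw [← hr₁, ← hk]
  rintro _ ⟨x, rfl⟩
  exact ⟨AlgSp.Points.map k x, (AlgSp.Points.map_comp _ _ _).symm⟩


/-- pointwise criterion for invariance of an open subspace. -/
lemma isInvariant_of_points {B : AlgSp.Sp S} (G : AlgSp.GroupoidSp B) {W : AlgSp.Sp S}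
    (w : W ⟶ G.U) (hw : AlgSp.RepWith @IsOpenImmersion w)
    (H : ∀ ρ : AlgSp.Points G.R, AlgSp.Points.map G.t ρ ∈ Set.range (AlgSp.Points.map w) →
      AlgSp.Points.map G.s ρ ∈ Set.range (AlgSp.Points.map w)) :
    G.IsInvariant w := by
  have H' : ∀ ρ : AlgSp.Points G.R, AlgSp.Points.map G.s ρ ∈ Set.range (AlgSp.Points.map w) →
      AlgSp.Points.map G.t ρ ∈ Set.range (AlgSp.Points.map w) := by
    intro ρ hρ
    have h1 := H (AlgSp.Points.map G.i ρ)
    rw [← AlgSp.Points.map_comp, ← AlgSp.Points.map_comp, G.i_t, G.i_s] at h1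
    exact h1 hρ
  intro T r
  rw [Groth.Agent.S10194.exists_factor_iff w hw (r ≫ G.t),
    Groth.Agent.S10194.exists_factor_iff w hw (r ≫ G.s)]
  constructor
  · rintro h _ ⟨x, rfl⟩
    rw [AlgSp.Points.map_comp]
    apply H
    rw [← AlgSp.Points.map_comp]
    exact h ⟨x, rfl⟩
  · rintro h _ ⟨x, rfl⟩
    rw [AlgSp.Points.map_comp]
    apply H'
    rw [← AlgSp.Points.map_comp]
    exact h ⟨x, rfl⟩

variable {B : AlgSp.Sp S} (G : AlgSp.GroupoidSp B)

/-- `R ×_{s,U,t∘v} V ⟶ R ×_{s,U,t} R` -/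
noncomputable def mV {V : AlgSp.Sp S} (v : V ⟶ G.R) : pullback G.s (v ≫ G.t) ⟶ pullback G.s G.t :=
  pullback.lift (pullback.fst _ _) (pullback.snd _ _ ≫ v)
    (by rw [Category.assoc, pullback.condition])

/-- the base change of `s` along `t ∘ v` is also its base change along `s ∘ v`. -/
lemma isPullback_mV_c {V : AlgSp.Sp S} (v : V ⟶ G.R) :
    IsPullback (mV G v ≫ G.c) (pullback.snd G.s (v ≫ G.t)) G.s (v ≫ G.s) := by
  have big : IsPullback (mV G v ≫ pullback.fst G.s G.t) (pullback.snd G.s (v ≫ G.t)) G.s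
      (v ≫ G.t) := by
    have : mV G v ≫ pullback.fst G.s G.t = pullback.fst G.s (v ≫ G.t) := pullback.lift_fst _ _ _
    rw [this]
    exact IsPullback.of_hasPullback _ _
  have left : IsPullback (mV G v) (pullback.snd G.s (v ≫ G.t)) (pullback.snd G.s G.t) v :=
    IsPullback.of_right big (pullback.lift_snd _ _ _) (IsPullback.of_hasPullback G.s G.t)
  exact left.paste_horiz (isPullback_c G)

/-- the base change of `f⁻¹ W ⟶ W` along `tW : V ⟶ W` is the base change of `f` along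
`a = tW ≫ w`. -/
lemma isPullback_over_open {X U W V : AlgSp.Sp S} (f : X ⟶ U) (w : W ⟶ U) (a : V ⟶ U)
    (tW : V ⟶ W) (ha : a = tW ≫ w) :
    ∃ l : pullback f a ⟶ pullback f w,
      IsPullback l (pullback.snd f a) (pullback.snd f w) tW := by
  have hwl : pullback.fst f a ≫ f = (pullback.snd f a ≫ tW) ≫ w := by
    rw [Category.assoc, ← ha, pullback.condition]
  refine ⟨pullback.lift _ _ hwl, ?_⟩
  refine IsPullback.of_right ?_ (pullback.lift_snd _ _ _) (IsPullback.of_hasPullback f w)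
  rw [pullback.lift_fst, ← ha]
  exact IsPullback.of_hasPullback _ _

theorem invariant_source (hQ : CovProp Q)
    (hP : AlgSp.IsLocalOnBase (fun _ _ Y g => AlgSp.IsCover Q Y g) P)
    (hU : AlgSp.IsAlgSpace G.U) (hR : AlgSp.IsAlgSpace G.R)
    (hs : Q G.s) (ht : Q G.t)
    {W : AlgSp.Sp S} (hWsp : AlgSp.IsAlgSpace W) (w : W ⟶ G.U)
    (hw : AlgSp.RepWith @IsOpenImmersion w)
    (hmax : ∀ (W' : AlgSp.Sp S) (w' : W' ⟶ G.U), AlgSp.IsAlgSpace W' →
      AlgSp.RepWith @IsOpenImmersion w' →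
      (P (pullback.snd G.s w') ↔ ∃ k : W' ⟶ W, k ≫ w = w')) :
    G.IsInvariant w := by
  apply isInvariant_of_points G w hw
  -- the open subspace `V = t⁻¹ W` of `R`
  have sqV := IsPullback.of_hasPullback G.t w
  have hV : AlgSp.IsAlgSpace (pullback G.t w) :=
    Groth.Agent.S9874.isAlgSpace_of_isPullback hU.diag hR hWsp sqV
  have hv : AlgSp.RepWith @IsOpenImmersion (pullback.fst G.t w) :=
    MorphismProperty.of_isPullback (P := AlgSp.RepWith @IsOpenImmersion) sqV.flip hw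
  have hrV : Set.range (AlgSp.Points.map (pullback.fst G.t w)) =
      AlgSp.Points.map G.t ⁻¹' Set.range (AlgSp.Points.map w) :=
    OpenSub.range_map_fst_of_isPullback sqV
  have hid : ∀ A : AlgSp.Sp S, AlgSp.IsAlgSpace A → Q (𝟙 A) := fun A hA =>
    hQ.of_open hA hA (𝟙 A) (Groth.Agent.S9937.repWith_of_isIso @IsOpenImmersion (𝟙 A))
  -- `t_W : V ⟶ W` is a `Q`-morphism
  have hQtW : Q (pullback.snd G.t w) := by
    refine hQ.cancel_open hV hWsp hU _ w hw ?_
    rw [← pullback.condition]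
    exact hQ.comp_open hV hR hU _ _ hv ht
  have hQvs : Q (pullback.fst G.t w ≫ G.s) := hQ.comp_open hV hR hU _ _ hv hs
  -- `s⁻¹ W ⟶ W` has `P`
  have hPW : P (pullback.snd G.s w) := (hmax W w hWsp hw).2 ⟨𝟙 _, Category.id_comp _⟩
  have hsW : AlgSp.IsAlgSpace (pullback G.s w) :=
    Groth.Agent.S9874.isAlgSpace_of_isPullback hU.diag hR hWsp (IsPullback.of_hasPullback _ _)
  -- the base change to `V`
  have hX₁ : AlgSp.IsAlgSpace (pullback G.s (pullback.fst G.t w ≫ G.t)) :=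
    Groth.Agent.S9874.isAlgSpace_of_isPullback hU.diag hR hV (IsPullback.of_hasPullback _ _)
  obtain ⟨l, sqL⟩ := isPullback_over_open G.s w (pullback.fst G.t w ≫ G.t) (pullback.snd G.t w)
    pullback.condition
  have hP₁ : P (pullback.snd G.s (pullback.fst G.t w ≫ G.t)) :=
    baseChange_of_local hid hP hsW hWsp hX₁ hV _ _ _ _ sqL hQtW hPW
  have hsub := range_subset_of_hmax hQ hP hR hU G.s w
    (fun W' w' hW' hw' h => (hmax W' w' hW' hw').1 h) hV hX₁ _ _ _ hQvs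
    (isPullback_mV_c G (pullback.fst G.t w)) hP₁
  intro ρ hρ
  have h1 : ρ ∈ Set.range (AlgSp.Points.map (pullback.fst G.t w)) := by rw [hrV]; exact hρ
  obtain ⟨ν, rfl⟩ := h1
  rw [← AlgSp.Points.map_comp]
  exact hsub ⟨ν, rfl⟩

end Groth.Agent.Lib.T2H1.GpdInv
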