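import Mathlib
import Groth.Prelude.Def_AlgSpGpd
import Groth.Prelude.Def_AlgSp4
import Groth.Agent.S9912
import Groth.Agent.S9900

/-!
# T2H1GrpUnit: unit section vs diagonal of a group algebraic space (helper1)

In any cartesian monoidal category the diagonal of a group object is a base change of its unit and
conversely; consequences for separation axioms (S10116).
-/

set_option autoImplicit false
universe v u
open CategoryTheory CategoryTheory.Limits AlgebraicGeometry MonoidalCategory
  CartesianMonoidalCategory MonObj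
open AlgSp

namespace Groth.Agent.Lib.T2H1.GrpUnit

section Abstract

variable {C : Type u} [Category.{v} C] [CartesianMonoidalCategory C] {G : C} [GrpObj G]

/-- the diagonal of a group object is the base change of the unit along `(g, h) ↦ g h⁻¹`. -/
lemma isPullback_diag_unit :
    IsPullback (toUnit G) (lift (𝟙 G) (𝟙 G)) η[G] (fst G G * (snd G G)⁻¹) := by
  have hw : toUnit G ≫ η[G] = lift (𝟙 G) (𝟙 G) ≫ (fst G G * (snd G G)⁻¹) := by
    rw [MonObj.comp_mul, GrpObj.comp_inv, lift_fst, lift_snd, mul_inv_cancel, Hom.one_def]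
  refine ⟨⟨hw⟩, ⟨PullbackCone.IsLimit.mk _ (fun c => c.snd ≫ fst G G) ?_ ?_ ?_⟩⟩
  · intro c
    exact toUnit_unique _ _
  · intro c
    have h1 := c.condition
    rw [MonObj.comp_mul, GrpObj.comp_inv] at h1
    have h2 : c.snd ≫ fst G G = c.snd ≫ snd G G := by
      have h3 : c.fst ≫ η[G] = 1 := by
        rw [Hom.one_def]; congr 1; exact toUnit_unique _ _
      rw [h3] at h1
      exact (mul_inv_eq_one.1 h1.symm)
    apply CartesianMonoidalCategory.hom_ext
    · simp
    · simp [h2]
  · intro c m _ hm2
    rw [← hm2]; simp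

/-- the unit of a group object is the base change of the diagonal along `g ↦ (g, 1)`. -/
lemma isPullback_unit_diag :
    IsPullback η[G] η[G] (lift (𝟙 G) (𝟙 G)) (lift (𝟙 G) (toUnit G ≫ η[G])) := by
  have hw : η[G] ≫ lift (𝟙 G) (𝟙 G) = η[G] ≫ lift (𝟙 G) (toUnit G ≫ η[G]) := by
    apply CartesianMonoidalCategory.hom_ext
    · simp
    · simp only [Category.assoc, lift_snd, Category.comp_id]
      rw [← Category.assoc, toUnit_unique (η[G] ≫ toUnit G) (𝟙 _), Category.id_comp]
  refine ⟨⟨hw⟩, ⟨PullbackCone.IsLimit.mk _ (fun c => toUnit _) ?_ ?_ ?_⟩⟩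
  · intro c
    have h1 := congrArg (· ≫ snd G G) c.condition
    have h0 := congrArg (· ≫ fst G G) c.condition
    simp only [Category.assoc, lift_snd, lift_fst, Category.comp_id] at h1 h0
    rw [h1, ← h0, ← Category.assoc]
    congr 1
    exact toUnit_unique _ _
  · intro c
    have h1 := congrArg (· ≫ snd G G) c.condition
    have h0 := congrArg (· ≫ fst G G) c.condition
    simp only [Category.assoc, lift_snd, lift_fst, Category.comp_id] at h1 h0
    rw [← h0, h1, ← Category.assoc]
    congr 1
    exact toUnit_unique _ _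
  · intro c m _ _
    exact toUnit_unique _ _

end Abstract

variable {S : Scheme.{u}}

/-- quasi-compact morphisms of sheaves are stable under base change -/
lemma isQuasiCompactMor_baseChange {X Y X' Y' : AlgSp.Sp S} {f : X ⟶ Y} {g : Y' ⟶ Y}
    {fst : X' ⟶ X} {f' : X' ⟶ Y'} (sq : IsPullback fst f' f g) (hf : AlgSp.IsQuasiCompactMor f) :
    AlgSp.IsQuasiCompactMor f' := by
  intro Z Z' hZ hZc c fst' snd' sq'
  exact hf hZ hZc (c ≫ g) (fst' ≫ fst) snd' (sq'.paste_horiz sq)

theorem main (B : AlgSp.Sp S) (hB : AlgSp.IsAlgSpace B)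
    (G : Over B) [GrpObj G] (hG : AlgSp.IsAlgSpace G.left) :
    (AlgSp.IsSeparatedMor G.hom ↔ AlgSp.RepWith @IsClosedImmersion (η[G]).left) ∧
      (AlgSp.IsQuasiSeparatedMor G.hom ↔ AlgSp.IsQuasiCompactMor (η[G]).left) ∧
      (AlgSp.IsLocallySeparatedMor G.hom → AlgSp.RepWith @IsImmersion (η[G]).left) := by
  have sq1 : IsPullback (toUnit G).left (pullback.diagonal G.hom) (η[G]).left
      (fst G G * (snd G G)⁻¹).left :=
    (isPullback_diag_unit (G := G)).map (Over.forget B)
  have sq2 : IsPullback (η[G]).left (η[G]).left (pullback.diagonal G.hom)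
      (lift (𝟙 G) (toUnit G ≫ η[G])).left :=
    (isPullback_unit_diag (G := G)).map (Over.forget B)
  refine ⟨⟨fun h => ?_, fun h => ?_⟩, ⟨fun h => ?_, fun h => ?_⟩, fun h => ?_⟩
  · exact MorphismProperty.of_isPullback (P := AlgSp.RepWith @IsClosedImmersion) sq2 h
  · exact MorphismProperty.of_isPullback (P := AlgSp.RepWith @IsClosedImmersion) sq1 h
  · have h1 : AlgSp.RepWith @QuasiCompact (η[G]).left :=
      MorphismProperty.of_isPullback (P := AlgSp.RepWith @QuasiCompact) sq2 h
    exact Groth.Agent.S9912.isQuasiCompactMor_of_repWith hB hG.diag _ h1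
  · have h1 : AlgSp.IsQuasiCompactMor (pullback.diagonal G.hom) :=
      isQuasiCompactMor_baseChange sq1 h
    have hrep : AlgSp.Representable (pullback.diagonal G.hom) :=
      (Groth.Agent.S9900.result (X := ⟨G.left, hG⟩) (Y := ⟨B, hB⟩)
        (ObjectProperty.homMk G.hom)).1
    exact Groth.Agent.S9912.repWith_quasiCompact_of_isQuasiCompactMor _ hrep h1
  · exact MorphismProperty.of_isPullback (P := AlgSp.RepWith @IsImmersion) sq2 h

end Groth.Agent.Lib.T2H1.GrpUnit
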