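import Mathlib
import Groth.Agent.Lib.Helper15Groupoid
import Groth.Agent.Lib.T2H1GrpUnit

/-!
# T2H1GpdStab: separation of `j` vs the stabilizer vs its unit section (helper1)

The diagonal of `j : R ⟶ U ×_B U` and the unit section `e : U ⟶ G` of the stabilizer are base
changes of each other; a section is a base change of the diagonal (S10122).
-/

set_option autoImplicit false
universe v u
open CategoryTheory CategoryTheory.Limits AlgebraicGeometry
open AlgSp

namespace Groth.Agent.Lib.T2H1.GpdStab

open Groth.Agent.Lib.Helper15Groupoid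

section General

variable {C : Type u} [Category.{v} C] [HasPullbacks C]

/-- a section of `p` is a base change of the diagonal of `p`. -/
lemma isPullback_section_diagonal {X Y : C} (p : X ⟶ Y) (σ : Y ⟶ X) (h : σ ≫ p = 𝟙 Y)
    (hc : 𝟙 X ≫ p = (p ≫ σ) ≫ p) :
    IsPullback σ σ (pullback.diagonal p) (pullback.lift (𝟙 X) (p ≫ σ) hc) := by
  have hw : σ ≫ pullback.diagonal p = σ ≫ pullback.lift (𝟙 X) (p ≫ σ) hc := by
    apply pullback.hom_ext
    · simp only [Category.assoc, pullback.diagonal_fst, pullback.lift_fst]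
    · simp only [Category.assoc, pullback.diagonal_snd, pullback.lift_snd, Category.comp_id]
      rw [← Category.assoc, h, Category.id_comp]
  refine ⟨⟨hw⟩, ⟨PullbackCone.IsLimit.mk _ (fun c => c.snd ≫ p) ?_ ?_ ?_⟩⟩
  · intro c
    have h1 := congrArg (· ≫ pullback.snd p p) c.condition
    simp only [Category.assoc, pullback.diagonal_snd, pullback.lift_snd, Category.comp_id] at h1
    rw [h1, Category.assoc]
  · intro c
    have h0 := congrArg (· ≫ pullback.fst p p) c.condition
    have h1 := congrArg (· ≫ pullback.snd p p) c.condition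
    simp only [Category.assoc, pullback.diagonal_snd, pullback.lift_snd, Category.comp_id,
      pullback.diagonal_fst, pullback.lift_fst] at h0 h1
    rw [Category.assoc, ← h1, h0]
  · intro c m hm1 hm2
    have : m = (m ≫ σ) ≫ p := by rw [Category.assoc, h, Category.comp_id]
    rw [this, hm2]

end General

variable {S : Scheme.{u}} {B : AlgSp.Sp S} (G : AlgSp.GroupoidSp B)

lemma diag_fst : G.diag ≫ pullback.fst G.pU G.pU = 𝟙 _ := pullback.lift_fst _ _ _
lemma diag_snd : G.diag ≫ pullback.snd G.pU G.pU = 𝟙 _ := pullback.lift_snd _ _ _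

lemma e_j : G.e ≫ G.j = G.diag := by
  apply pullback.hom_ext
  · rw [Category.assoc, G.j_fst, G.e_t, diag_fst]
  · rw [Category.assoc, G.j_snd, G.e_s, diag_snd]

variable {G}
variable (eG : G.U ⟶ G.stabilizer) (heG : eG ≫ G.stabilizerι = G.e)

include heG in
lemma eG_toU : eG ≫ G.stabilizerToU = 𝟙 G.U := by
  have h1 : G.stabilizerι ≫ G.j = G.stabilizerToU ≫ G.diag := pullback.condition
  have h2 : eG ≫ G.stabilizerToU ≫ G.diag = G.diag := by
    rw [← h1, ← Category.assoc, heG, e_j]
  have h3 := congrArg (· ≫ pullback.fst G.pU G.pU) h2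
  simpa only [Category.assoc, diag_fst, Category.comp_id] using h3

/-- `g ↦ (ι g, e (p g))`, a morphism `G ⟶ R ×_{U × U} R`. -/
noncomputable def kappa : G.stabilizer ⟶ pullback G.j G.j :=
  pullback.lift G.stabilizerι (G.stabilizerToU ≫ G.e) (by
    rw [Category.assoc, e_j]; exact pullback.condition)

include heG in
/-- the unit section of the stabilizer is a base change of the diagonal of `j`. -/
lemma isPullback_e_diagJ :
    IsPullback G.e eG (pullback.diagonal G.j) (kappa (G := G)) := by
  have hp := eG_toU eG heG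
  have hw : G.e ≫ pullback.diagonal G.j = eG ≫ kappa (G := G) := by
    apply pullback.hom_ext
    · simp only [Category.assoc, pullback.diagonal_fst, Category.comp_id, kappa,
        pullback.lift_fst, heG]
    · simp only [Category.assoc, pullback.diagonal_snd, Category.comp_id, kappa,
        pullback.lift_snd]
      rw [← Category.assoc, hp, Category.id_comp]
  refine ⟨⟨hw⟩, ⟨PullbackCone.IsLimit.mk _ (fun c => c.snd ≫ G.stabilizerToU) ?_ ?_ ?_⟩⟩
  · intro c
    have h1 := congrArg (· ≫ pullback.snd G.j G.j) c.condition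
    simp only [Category.assoc, pullback.diagonal_snd, kappa, pullback.lift_snd,
      Category.comp_id] at h1
    rw [h1, Category.assoc]
  · intro c
    have h0 := congrArg (· ≫ pullback.fst G.j G.j) c.condition
    have h1 := congrArg (· ≫ pullback.snd G.j G.j) c.condition
    simp only [Category.assoc, pullback.diagonal_snd, kappa, pullback.lift_snd,
      Category.comp_id, pullback.diagonal_fst, pullback.lift_fst] at h0 h1
    apply pullback.hom_ext
    · change ((c.snd ≫ G.stabilizerToU) ≫ eG) ≫ G.stabilizerι = c.snd ≫ G.stabilizerι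
      rw [Category.assoc, heG, Category.assoc, ← h1, h0]
    · change ((c.snd ≫ G.stabilizerToU) ≫ eG) ≫ G.stabilizerToU = c.snd ≫ G.stabilizerToU
      rw [Category.assoc, hp, Category.comp_id]
  · intro c m hm1 hm2
    rw [← hm2, Category.assoc, hp, Category.comp_id]


lemma pj_t : pullback.fst G.j G.j ≫ G.t = pullback.snd G.j G.j ≫ G.t := by
  have := congrArg (· ≫ pullback.fst G.pU G.pU) (pullback.condition (f := G.j) (g := G.j))
  simpa only [Category.assoc, G.j_fst] using this

lemma pj_s : pullback.fst G.j G.j ≫ G.s = pullback.snd G.j G.j ≫ G.s := by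
  have := congrArg (· ≫ pullback.snd G.pU G.pU) (pullback.condition (f := G.j) (g := G.j))
  simpa only [Category.assoc, G.j_snd] using this

lemma delta_aux : (pullback.fst G.j G.j ≫ G.i) ≫ G.s = pullback.snd G.j G.j ≫ G.t := by
  rw [Category.assoc, G.i_s, pj_t]

/-- `(r, r') ↦ r⁻¹ ∘ r'` as a morphism to `R`. -/
noncomputable def delta0 : pullback G.j G.j ⟶ G.R :=
  comp G (pullback.fst G.j G.j ≫ G.i) (pullback.snd G.j G.j) delta_aux

lemma delta0_j : delta0 (G := G) ≫ G.j = (pullback.snd G.j G.j ≫ G.s) ≫ G.diag := by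
  apply pullback.hom_ext
  · rw [Category.assoc, G.j_fst, Category.assoc, diag_fst, Category.comp_id, delta0, comp_tgt,
      Category.assoc, G.i_t, pj_s]
  · rw [Category.assoc, G.j_snd, Category.assoc, diag_snd, Category.comp_id, delta0, comp_src]

/-- `(r, r') ↦ r⁻¹ ∘ r'` as a morphism to the stabilizer. -/
noncomputable def delta : pullback G.j G.j ⟶ G.stabilizer :=
  pullback.lift (delta0 (G := G)) (pullback.snd G.j G.j ≫ G.s) delta0_j

lemma delta_ι : delta (G := G) ≫ G.stabilizerι = delta0 (G := G) := pullback.lift_fst _ _ _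
lemma delta_toU : delta (G := G) ≫ G.stabilizerToU = pullback.snd G.j G.j ≫ G.s :=
  pullback.lift_snd _ _ _

omit eG in
/-- if `α⁻¹ ∘ β` is a unit then `α = β`. -/
lemma eq_of_inv_comp_eq_unit {T : AlgSp.Sp S} (α β : T ⟶ G.R) (ht : α ≫ G.t = β ≫ G.t)
    (hs : α ≫ G.s = β ≫ G.s) (a : T ⟶ G.U) (ha : a = β ≫ G.s)
    (h₁ : (α ≫ G.i) ≫ G.s = β ≫ G.t) (h : comp G (α ≫ G.i) β h₁ = a ≫ G.e) : α = β := by
  have h₂ : α ≫ G.s = comp G (α ≫ G.i) β h₁ ≫ G.t := by
    rw [comp_tgt, Category.assoc, G.i_t]
  have key := comp_inv_comp' G α β ht h₁ h₂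
  rw [← key]
  symm
  apply comp_unit
  rw [h, ha, ← hs, Category.assoc]

include heG in
/-- the diagonal of `j` is a base change of the unit section of the stabilizer. -/
lemma isPullback_diagJ_e :
    IsPullback G.s (pullback.diagonal G.j) eG (delta (G := G)) := by
  have hp := eG_toU eG heG
  have hw : G.s ≫ eG = pullback.diagonal G.j ≫ delta (G := G) := by
    apply pullback.hom_ext
    · change (G.s ≫ eG) ≫ G.stabilizerι = (pullback.diagonal G.j ≫ delta (G := G)) ≫ G.stabilizerι
      rw [Category.assoc, heG, Category.assoc, delta_ι, delta0, precomp]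
      have h1 : G.i ≫ G.s = 𝟙 G.R ≫ G.t := by rw [G.i_s, Category.id_comp]
      have h2 : comp G G.i (𝟙 G.R) h1 = G.s ≫ G.e := by
        have := inv_comp G (𝟙 G.R) G.i (Category.id_comp _).symm h1
        rw [this, Category.id_comp]
      rw [← h2]
      apply comp_congr
      · rw [pullback.diagonal_fst_assoc]
      · rw [pullback.diagonal_snd]
    · change (G.s ≫ eG) ≫ G.stabilizerToU =
        (pullback.diagonal G.j ≫ delta (G := G)) ≫ G.stabilizerToU
      rw [Category.assoc, hp, Category.comp_id, Category.assoc, delta_toU,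
        pullback.diagonal_snd_assoc]
  refine ⟨⟨hw⟩, ⟨PullbackCone.IsLimit.mk _ (fun c => c.snd ≫ pullback.fst G.j G.j) ?_ ?_ ?_⟩⟩
  · intro c
    have h1 := congrArg (· ≫ G.stabilizerToU) c.condition
    simp only [Category.assoc, hp, Category.comp_id, delta_toU] at h1
    rw [Category.assoc, pj_s, h1]
  · intro c
    have h1 := congrArg (· ≫ G.stabilizerToU) c.condition
    simp only [Category.assoc, hp, Category.comp_id, delta_toU] at h1
    have h2 := congrArg (· ≫ G.stabilizerι) c.condition
    simp only [Category.assoc, heG, delta_ι] at h2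
    rw [delta0, precomp] at h2
    have h4 : c.snd ≫ pullback.fst G.j G.j = c.snd ≫ pullback.snd G.j G.j := by
      refine eq_of_inv_comp_eq_unit _ _ ?_ ?_ c.fst ?_ ?_ ?_
      · rw [Category.assoc, Category.assoc, pj_t]
      · rw [Category.assoc, Category.assoc, pj_s]
      · rw [h1, Category.assoc]
      · rw [Category.assoc, Category.assoc, G.i_s, Category.assoc, pj_t]
      · rw [h2]
        apply comp_congr
        · rw [Category.assoc]
        · rfl
    apply pullback.hom_ext
    · rw [Category.assoc, pullback.diagonal_fst, Category.comp_id]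
    · rw [Category.assoc, pullback.diagonal_snd, Category.comp_id]
      exact h4
  · intro c m hm1 hm2
    rw [← hm2, Category.assoc, pullback.diagonal_fst, Category.comp_id]


include heG in
theorem main (hB : AlgSp.IsAlgSpace B) (hU : AlgSp.IsAlgSpace G.U) (hR : AlgSp.IsAlgSpace G.R) :
    ((AlgSp.IsSeparatedMor G.j ↔ AlgSp.IsSeparatedMor G.stabilizerToU) ∧
        (AlgSp.IsSeparatedMor G.j ↔ AlgSp.RepWith @IsClosedImmersion eG)) ∧
      ((AlgSp.IsQuasiSeparatedMor G.j ↔ AlgSp.IsQuasiSeparatedMor G.stabilizerToU) ∧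
        (AlgSp.IsQuasiSeparatedMor G.j ↔ AlgSp.IsQuasiCompactMor eG)) ∧
      ((AlgSp.IsLocallySeparatedMor G.j → AlgSp.RepWith @IsImmersion eG) ∧
        (AlgSp.IsLocallySeparatedMor G.stabilizerToU → AlgSp.RepWith @IsImmersion eG)) := by
  have hp := eG_toU eG heG
  have hUU : AlgSp.IsAlgSpace (pullback G.pU G.pU) :=
    Groth.Agent.S9874.isAlgSpace_of_isPullback hB.diag hU hU (IsPullback.of_hasPullback _ _)
  have hSt : AlgSp.IsAlgSpace G.stabilizer :=
    Groth.Agent.S9874.isAlgSpace_of_isPullback hUU.diag hR hU (IsPullback.of_hasPullback _ _)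
  -- the three squares
  have sq1 := isPullback_diagJ_e eG heG
  have sq2 := isPullback_e_diagJ eG heG
  have sq4 := isPullback_section_diagonal G.stabilizerToU eG hp
    (by rw [Category.id_comp, Category.assoc, hp, Category.comp_id])
  have sqG : IsPullback G.stabilizerι G.stabilizerToU G.j G.diag := IsPullback.of_hasPullback _ _
  -- a general transfer principle
  have key : ∀ (P : MorphismProperty Scheme.{u}) [P.IsStableUnderBaseChange],
      ((AlgSp.RepWith P (pullback.diagonal G.j) ↔
          AlgSp.RepWith P (pullback.diagonal G.stabilizerToU)) ∧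
        (AlgSp.RepWith P (pullback.diagonal G.j) ↔ AlgSp.RepWith P eG)) ∧
        (AlgSp.RepWith P (pullback.diagonal G.stabilizerToU) → AlgSp.RepWith P eG) := by
    intro P _
    have h12 : AlgSp.RepWith P (pullback.diagonal G.j) → AlgSp.RepWith P eG := fun h =>
      MorphismProperty.of_isPullback (P := AlgSp.RepWith P) sq2 h
    have h21 : AlgSp.RepWith P eG → AlgSp.RepWith P (pullback.diagonal G.j) := fun h =>
      MorphismProperty.of_isPullback (P := AlgSp.RepWith P) sq1 h
    have h13 : AlgSp.RepWith P (pullback.diagonal G.j) →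
        AlgSp.RepWith P (pullback.diagonal G.stabilizerToU) := fun h =>
      MorphismProperty.of_isPullback (P := (AlgSp.RepWith P).diagonal) sqG h
    have h32 : AlgSp.RepWith P (pullback.diagonal G.stabilizerToU) → AlgSp.RepWith P eG :=
      fun h => MorphismProperty.of_isPullback (P := AlgSp.RepWith P) sq4 h
    exact ⟨⟨⟨h13, fun h => h21 (h32 h)⟩, ⟨h12, h21⟩⟩, h32⟩
  refine ⟨(key @IsClosedImmersion).1, ⟨(key @QuasiCompact).1.1, ?_⟩,
    ⟨(key @IsImmersion).1.2.1, (key @IsImmersion).2⟩⟩
  constructor
  · intro h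
    have h1 : AlgSp.RepWith @QuasiCompact eG := (key @QuasiCompact).1.2.1 h
    exact Groth.Agent.S9912.isQuasiCompactMor_of_repWith hU hSt.diag _ h1
  · intro h
    have h1 : AlgSp.IsQuasiCompactMor (pullback.diagonal G.j) :=
      Groth.Agent.Lib.T2H1.GrpUnit.isQuasiCompactMor_baseChange sq1 h
    have hrep : AlgSp.Representable (pullback.diagonal G.j) :=
      (Groth.Agent.S9900.result (X := ⟨G.R, hR⟩) (Y := ⟨pullback G.pU G.pU, hUU⟩)
        (ObjectProperty.homMk G.j)).1
    exact Groth.Agent.S9912.repWith_quasiCompact_of_isQuasiCompactMor _ hrep h1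

end Groth.Agent.Lib.T2H1.GpdStab
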