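import Mathlib
import Groth.Agent.Lib.T2H1GpdInv
import Groth.Agent.Lib.T2H1GpdStab

/-!
# T2H1GpdInv2: conjugation on the stabilizer of a groupoid (helper1)

`t^* Stab ≅ s^* Stab` over `R` by conjugation; the largest open of `U` over which the stabilizer has
a property local on the base is `R`-invariant (S12198).
-/

set_option autoImplicit false
universe u
open CategoryTheory CategoryTheory.Limits AlgebraicGeometry Opposite TopologicalSpace
open AlgSp

namespace Groth.Agent.Lib.T2H1.GpdInv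

open Groth.Agent.Lib.Helper12 Groth.Agent.Lib.Helper12.LargestOpen Groth.Agent.Lib.T2H1.Gpd
  Groth.Agent.Lib.Helper15Groupoid Groth.Agent.Lib.T2H1.GpdStab

variable {S : Scheme.{u}} {B : AlgSp.Sp S} (G : AlgSp.GroupoidSp B)

section Conj

variable {T : AlgSp.Sp S}

/-- `r⁻¹ ∘ γ ∘ r` -/
noncomputable def conj (r γ : T ⟶ G.R) (hs : γ ≫ G.s = r ≫ G.t) (ht : γ ≫ G.t = r ≫ G.t) :
    T ⟶ G.R :=
  comp G (comp G (r ≫ G.i) γ (by rw [Category.assoc, G.i_s, ht])) r (by rw [comp_src, hs])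

lemma conj_s (r γ : T ⟶ G.R) (hs : γ ≫ G.s = r ≫ G.t) (ht : γ ≫ G.t = r ≫ G.t) :
    conj G r γ hs ht ≫ G.s = r ≫ G.s := comp_src G _ _ _

lemma conj_t (r γ : T ⟶ G.R) (hs : γ ≫ G.s = r ≫ G.t) (ht : γ ≫ G.t = r ≫ G.t) :
    conj G r γ hs ht ≫ G.t = r ≫ G.s := by
  rw [conj, comp_tgt, comp_tgt, Category.assoc, G.i_t]

/-- `r ∘ γ' ∘ r⁻¹` -/
noncomputable def conj' (r γ' : T ⟶ G.R) (hs : γ' ≫ G.s = r ≫ G.s) (ht : γ' ≫ G.t = r ≫ G.s) :
    T ⟶ G.R :=
  comp G r (comp G γ' (r ≫ G.i) (by rw [Category.assoc, G.i_t, hs])) (by rw [comp_tgt, ht])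

lemma conj'_s (r γ' : T ⟶ G.R) (hs : γ' ≫ G.s = r ≫ G.s) (ht : γ' ≫ G.t = r ≫ G.s) :
    conj' G r γ' hs ht ≫ G.s = r ≫ G.t := by
  rw [conj', comp_src, comp_src, Category.assoc, G.i_s]

lemma conj'_t (r γ' : T ⟶ G.R) (hs : γ' ≫ G.s = r ≫ G.s) (ht : γ' ≫ G.t = r ≫ G.s) :
    conj' G r γ' hs ht ≫ G.t = r ≫ G.t := comp_tgt G _ _ _

lemma conj_congr {r r' γ γ' : T ⟶ G.R} (hs : γ ≫ G.s = r ≫ G.t) (ht : γ ≫ G.t = r ≫ G.t)
    (hr : r = r') (hγ : γ = γ') (hs' : γ' ≫ G.s = r' ≫ G.t) (ht' : γ' ≫ G.t = r' ≫ G.t) :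
    conj G r γ hs ht = conj G r' γ' hs' ht' := by
  subst hr; subst hγ; rfl

lemma conj'_congr {r r' γ γ' : T ⟶ G.R} (hs : γ ≫ G.s = r ≫ G.s) (ht : γ ≫ G.t = r ≫ G.s)
    (hr : r = r') (hγ : γ = γ') (hs' : γ' ≫ G.s = r' ≫ G.s) (ht' : γ' ≫ G.t = r' ≫ G.s) :
    conj' G r γ hs ht = conj' G r' γ' hs' ht' := by
  subst hr; subst hγ; rfl

lemma conj'_conj (r γ : T ⟶ G.R) (hs : γ ≫ G.s = r ≫ G.t) (ht : γ ≫ G.t = r ≫ G.t) :
    conj' G r (conj G r γ hs ht) (conj_s G r γ hs ht) (conj_t G r γ hs ht) = γ := by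
  unfold conj' conj
  have h0 : (r ≫ G.i) ≫ G.s = γ ≫ G.t := by rw [Category.assoc, G.i_s, ht]
  have h1 : comp G (r ≫ G.i) γ h0 ≫ G.s = r ≫ G.t := by rw [comp_src, hs]
  have h2 : comp G (comp G (r ≫ G.i) γ h0) r h1 ≫ G.s = (r ≫ G.i) ≫ G.t := by
    rw [comp_src, Category.assoc, G.i_t]
  have e1 := comp_comp_inv G (comp G (r ≫ G.i) γ h0) r h1 h2
  have h3 : r ≫ G.s = comp G (r ≫ G.i) γ h0 ≫ G.t := by rw [comp_tgt, Category.assoc, G.i_t]
  have e2 := comp_inv_comp' G r γ ht.symm h0 h3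
  exact (comp_congr G _ rfl e1 _).trans e2

lemma conj_conj' (r γ' : T ⟶ G.R) (hs : γ' ≫ G.s = r ≫ G.s) (ht : γ' ≫ G.t = r ≫ G.s) :
    conj G r (conj' G r γ' hs ht) (conj'_s G r γ' hs ht) (conj'_t G r γ' hs ht) = γ' := by
  unfold conj' conj
  have h0 : γ' ≫ G.s = (r ≫ G.i) ≫ G.t := by rw [Category.assoc, G.i_t, hs]
  have h1 : r ≫ G.s = comp G γ' (r ≫ G.i) h0 ≫ G.t := by rw [comp_tgt, ht]
  have h2 : (r ≫ G.i) ≫ G.s = comp G r (comp G γ' (r ≫ G.i) h0) h1 ≫ G.t := by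
    rw [comp_tgt, Category.assoc, G.i_s]
  have e1 := inv_comp_comp G r (comp G γ' (r ≫ G.i) h0) h1 h2
  have h3 : comp G γ' (r ≫ G.i) h0 ≫ G.s = r ≫ G.t := by
    rw [comp_src, Category.assoc, G.i_s]
  have e2 := comp_inv_comp G γ' r hs h0 h3
  exact (comp_congr G _ e1 rfl _).trans e2

lemma precomp_conj {T' : AlgSp.Sp S} (f : T' ⟶ T) (r γ : T ⟶ G.R) (hs : γ ≫ G.s = r ≫ G.t)
    (ht : γ ≫ G.t = r ≫ G.t) :
    f ≫ conj G r γ hs ht = conj G (f ≫ r) (f ≫ γ)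
      (by rw [Category.assoc, Category.assoc, hs]) (by rw [Category.assoc, Category.assoc, ht]) := by
  unfold conj
  rw [precomp]
  apply comp_congr
  · rw [precomp]
    apply comp_congr
    · rw [Category.assoc]
    · rfl
  · rfl

end Conj


section Stab

lemma stab_ι_s : G.stabilizerι ≫ G.s = G.stabilizerToU := by
  have h1 : G.stabilizerι ≫ G.j = G.stabilizerToU ≫ G.diag := pullback.condition
  have h2 := congrArg (· ≫ pullback.snd G.pU G.pU) h1
  simpa only [Category.assoc, G.j_snd, diag_snd, Category.comp_id] using h2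

lemma stab_ι_t : G.stabilizerι ≫ G.t = G.stabilizerToU := by
  have h1 : G.stabilizerι ≫ G.j = G.stabilizerToU ≫ G.diag := pullback.condition
  have h2 := congrArg (· ≫ pullback.fst G.pU G.pU) h1
  simpa only [Category.assoc, G.j_fst, diag_fst, Category.comp_id] using h2

variable {G}

/-- a point of the stabilizer from an automorphism -/
noncomputable def stabLift {T : AlgSp.Sp S} (γ : T ⟶ G.R) (u : T ⟶ G.U) (hs : γ ≫ G.s = u)
    (ht : γ ≫ G.t = u) : T ⟶ G.stabilizer :=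
  pullback.lift γ u (by
    apply pullback.hom_ext
    · rw [Category.assoc, G.j_fst, Category.assoc, diag_fst, Category.comp_id, ht]
    · rw [Category.assoc, G.j_snd, Category.assoc, diag_snd, Category.comp_id, hs])

lemma stabLift_ι {T : AlgSp.Sp S} (γ : T ⟶ G.R) (u : T ⟶ G.U) (hs : γ ≫ G.s = u)
    (ht : γ ≫ G.t = u) : stabLift γ u hs ht ≫ G.stabilizerι = γ := pullback.lift_fst _ _ _

lemma stabLift_toU {T : AlgSp.Sp S} (γ : T ⟶ G.R) (u : T ⟶ G.U) (hs : γ ≫ G.s = u)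
    (ht : γ ≫ G.t = u) : stabLift γ u hs ht ≫ G.stabilizerToU = u := pullback.lift_snd _ _ _

lemma stab_ext {T : AlgSp.Sp S} (a b : T ⟶ G.stabilizer)
    (h : a ≫ G.stabilizerι = b ≫ G.stabilizerι) : a = b := by
  apply pullback.hom_ext
  · exact h
  · change a ≫ G.stabilizerToU = b ≫ G.stabilizerToU
    rw [← stab_ι_s, ← Category.assoc, h, Category.assoc]

variable {V : AlgSp.Sp S} (ρ : V ⟶ G.R)

lemma conjMap_aux_s :
    (pullback.fst G.stabilizerToU (ρ ≫ G.t) ≫ G.stabilizerι) ≫ G.s =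
      (pullback.snd G.stabilizerToU (ρ ≫ G.t) ≫ ρ) ≫ G.t := by
  rw [Category.assoc, stab_ι_s, pullback.condition, Category.assoc]

lemma conjMap_aux_t :
    (pullback.fst G.stabilizerToU (ρ ≫ G.t) ≫ G.stabilizerι) ≫ G.t =
      (pullback.snd G.stabilizerToU (ρ ≫ G.t) ≫ ρ) ≫ G.t := by
  rw [Category.assoc, stab_ι_t, pullback.condition, Category.assoc]

/-- `(γ, ν) ↦ ρ(ν)⁻¹ ∘ γ ∘ ρ(ν)`, from `t^* Stab` to `Stab`. -/
noncomputable def conjMap : pullback G.stabilizerToU (ρ ≫ G.t) ⟶ G.stabilizer :=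
  stabLift (conj G (pullback.snd _ _ ≫ ρ) (pullback.fst _ _ ≫ G.stabilizerι)
      (conjMap_aux_s ρ) (conjMap_aux_t ρ))
    ((pullback.snd _ _ ≫ ρ) ≫ G.s) (conj_s G _ _ _ _) (conj_t G _ _ _ _)

/-- `t^* Stab ≅ s^* Stab` by conjugation: the base change of `Stab ⟶ U` along `t ∘ ρ` is also its
base change along `s ∘ ρ`. -/
lemma isPullback_conjMap :
    IsPullback (conjMap ρ) (pullback.snd G.stabilizerToU (ρ ≫ G.t)) G.stabilizerToU (ρ ≫ G.s) := by
  have hw : conjMap ρ ≫ G.stabilizerToU = pullback.snd G.stabilizerToU (ρ ≫ G.t) ≫ ρ ≫ G.s := by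
    rw [conjMap, stabLift_toU, Category.assoc]
  refine ⟨⟨hw⟩, ⟨PullbackCone.IsLimit.mk _ (fun c => ?_) ?_ ?_ ?_⟩⟩
  · -- the lift
    have hs : (c.fst ≫ G.stabilizerι) ≫ G.s = (c.snd ≫ ρ) ≫ G.s := by
      rw [Category.assoc, stab_ι_s, c.condition, Category.assoc]
    have ht : (c.fst ≫ G.stabilizerι) ≫ G.t = (c.snd ≫ ρ) ≫ G.s := by
      rw [Category.assoc, stab_ι_t, c.condition, Category.assoc]
    refine pullback.lift (stabLift (conj' G (c.snd ≫ ρ) (c.fst ≫ G.stabilizerι) hs ht)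
      ((c.snd ≫ ρ) ≫ G.t) (conj'_s G _ _ _ _) (conj'_t G _ _ _ _)) c.snd ?_
    rw [stabLift_toU, Category.assoc]
  · intro c
    apply stab_ext
    rw [Category.assoc, conjMap, stabLift_ι, precomp_conj]
    have hs : (c.fst ≫ G.stabilizerι) ≫ G.s = (c.snd ≫ ρ) ≫ G.s := by
      rw [Category.assoc, stab_ι_s, c.condition, Category.assoc]
    have ht : (c.fst ≫ G.stabilizerι) ≫ G.t = (c.snd ≫ ρ) ≫ G.s := by
      rw [Category.assoc, stab_ι_t, c.condition, Category.assoc]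
    refine (conj_congr G _ _ ?_ ?_ (conj'_s G _ _ hs ht) (conj'_t G _ _ hs ht)).trans
      (conj_conj' G _ _ hs ht)
    · rw [← Category.assoc, pullback.lift_snd]
    · rw [← Category.assoc, pullback.lift_fst, stabLift_ι]
  · intro c
    exact pullback.lift_snd _ _ _
  · intro c m hm1 hm2
    have hs : (c.fst ≫ G.stabilizerι) ≫ G.s = (c.snd ≫ ρ) ≫ G.s := by
      rw [Category.assoc, stab_ι_s, c.condition, Category.assoc]
    have ht : (c.fst ≫ G.stabilizerι) ≫ G.t = (c.snd ≫ ρ) ≫ G.s := by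
      rw [Category.assoc, stab_ι_t, c.condition, Category.assoc]
    apply pullback.hom_ext
    · rw [pullback.lift_fst]
      apply stab_ext
      rw [stabLift_ι]
      -- `γ₁ := m ≫ fst ≫ ι` satisfies `conj r γ₁ = c.fst ≫ ι`
      have hs1 : (m ≫ pullback.fst _ _ ≫ G.stabilizerι) ≫ G.s = (c.snd ≫ ρ) ≫ G.t := by
        rw [← hm2, Category.assoc, Category.assoc, Category.assoc, Category.assoc,
          ← Category.assoc (pullback.fst _ _), conjMap_aux_s ρ, Category.assoc]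
      have ht1 : (m ≫ pullback.fst _ _ ≫ G.stabilizerι) ≫ G.t = (c.snd ≫ ρ) ≫ G.t := by
        rw [← hm2, Category.assoc, Category.assoc, Category.assoc, Category.assoc,
          ← Category.assoc (pullback.fst _ _), conjMap_aux_t ρ, Category.assoc]
      have e1 : conj G (c.snd ≫ ρ) (m ≫ pullback.fst _ _ ≫ G.stabilizerι) hs1 ht1 =
          c.fst ≫ G.stabilizerι := by
        rw [← hm1, Category.assoc, conjMap, stabLift_ι, precomp_conj]
        apply conj_congr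
        · rw [← hm2, Category.assoc]
        · rfl
      have e2 := conj'_conj G (c.snd ≫ ρ) (m ≫ pullback.fst _ _ ≫ G.stabilizerι) hs1 ht1
      rw [Category.assoc, ← e2]
      exact conj'_congr G _ _ rfl e1 _ _
    · rw [pullback.lift_snd]; exact hm2

end Stab


variable {Q P : MorphismProperty (AlgSp.Sp S)}

theorem invariant_stabilizer (hQ : CovProp Q)
    (hP : AlgSp.IsLocalOnBase (fun _ _ Y g => AlgSp.IsCover Q Y g) P)
    (hB : AlgSp.IsAlgSpace B) (hU : AlgSp.IsAlgSpace G.U) (hR : AlgSp.IsAlgSpace G.R)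
    (hs : Q G.s) (ht : Q G.t)
    {W : AlgSp.Sp S} (hWsp : AlgSp.IsAlgSpace W) (w : W ⟶ G.U)
    (hw : AlgSp.RepWith @IsOpenImmersion w)
    (hmax : ∀ (W' : AlgSp.Sp S) (w' : W' ⟶ G.U), AlgSp.IsAlgSpace W' →
      AlgSp.RepWith @IsOpenImmersion w' →
      (P (pullback.snd G.stabilizerToU w') ↔ ∃ k : W' ⟶ W, k ≫ w = w')) :
    G.IsInvariant w := by
  apply isInvariant_of_points G w hw
  have hUU : AlgSp.IsAlgSpace (pullback G.pU G.pU) :=
    Groth.Agent.S9874.isAlgSpace_of_isPullback hB.diag hU hU (IsPullback.of_hasPullback _ _)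
  have hSt : AlgSp.IsAlgSpace G.stabilizer :=
    Groth.Agent.S9874.isAlgSpace_of_isPullback hUU.diag hR hU (IsPullback.of_hasPullback _ _)
  -- the open subspace `V = t⁻¹ W` of `R`
  have sqV := IsPullback.of_hasPullback G.t w
  have hV : AlgSp.IsAlgSpace (pullback G.t w) :=
    Groth.Agent.S9874.isAlgSpace_of_isPullback hU.diag hR hWsp sqV
  have hv : AlgSp.RepWith @IsOpenImmersion (pullback.fst G.t w) :=
    MorphismProperty.of_isPullback (P := AlgSp.RepWith @IsOpenImmersion) sqV.flip hw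
  have hrV : Set.range (AlgSp.Points.map (pullback.fst G.t w)) =
      AlgSp.Points.map G.t ⁻¹' Set.range (AlgSp.Points.map w) :=
    OpenSub.range_map_fst_of_isPullback sqV
  have hid : ∀ A : AlgSp.Sp S, AlgSp.IsAlgSpace A → Q (𝟙 A) := fun A hA =>
    hQ.of_open hA hA (𝟙 A) (Groth.Agent.S9937.repWith_of_isIso @IsOpenImmersion (𝟙 A))
  have hQtW : Q (pullback.snd G.t w) := by
    refine hQ.cancel_open hV hWsp hU _ w hw ?_
    rw [← pullback.condition]
    exact hQ.comp_open hV hR hU _ _ hv ht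
  have hQvs : Q (pullback.fst G.t w ≫ G.s) := hQ.comp_open hV hR hU _ _ hv hs
  have hPW : P (pullback.snd G.stabilizerToU w) :=
    (hmax W w hWsp hw).2 ⟨𝟙 _, Category.id_comp _⟩
  have hsW : AlgSp.IsAlgSpace (pullback G.stabilizerToU w) :=
    Groth.Agent.S9874.isAlgSpace_of_isPullback hU.diag hSt hWsp (IsPullback.of_hasPullback _ _)
  have hX₁ : AlgSp.IsAlgSpace (pullback G.stabilizerToU (pullback.fst G.t w ≫ G.t)) :=
    Groth.Agent.S9874.isAlgSpace_of_isPullback hU.diag hSt hV (IsPullback.of_hasPullback _ _)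
  obtain ⟨l, sqL⟩ := isPullback_over_open G.stabilizerToU w (pullback.fst G.t w ≫ G.t)
    (pullback.snd G.t w) pullback.condition
  have hP₁ : P (pullback.snd G.stabilizerToU (pullback.fst G.t w ≫ G.t)) :=
    baseChange_of_local hid hP hsW hWsp hX₁ hV _ _ _ _ sqL hQtW hPW
  have hsub := range_subset_of_hmax hQ hP hSt hU G.stabilizerToU w
    (fun W' w' hW' hw' h => (hmax W' w' hW' hw').1 h) hV hX₁ _ _ _ hQvs
    (isPullback_conjMap (pullback.fst G.t w)) hP₁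
  intro ρ hρ
  have h1 : ρ ∈ Set.range (AlgSp.Points.map (pullback.fst G.t w)) := by rw [hrV]; exact hρ
  obtain ⟨ν, rfl⟩ := h1
  rw [← AlgSp.Points.map_comp]
  exact hsub ⟨ν, rfl⟩

end Groth.Agent.Lib.T2H1.GpdInv
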