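import Mathlib
import Groth.Prelude.Def_AlgSpGpd
import Groth.Prelude.Def_AlgSp3
import Groth.Prelude.Def_AlgSpDec
import Groth.Agent.Lib.Helper12LocPCases
import Groth.Agent.Lib.Helper12LocPNbhd
import Groth.Agent.Lib.Helper12OpenSub
import Groth.Agent.Lib.Helper12OpenSub2
import Groth.Agent.S10194
import Groth.Agent.S10175
import Groth.Agent.S10176
import Groth.Agent.S9874
import Groth.Agent.S9876

/-!
# Loci of group algebraic spaces (helper1, team 2)

For a group algebraic space `G` over an algebraic space `B` and a property of pointed morphisms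
whose locus commutes with arbitrary base change, the locus in `|G|` is the preimage of its
intersection with the unit section (homogeneity under translations).  Consequently there is a
largest open subspace of `B` over which `G` has the property, and its formation commutes with base
change.
-/

set_option autoImplicit false
universe v u
open CategoryTheory CategoryTheory.Limits AlgebraicGeometry MonoidalCategory
  CartesianMonoidalCategory MonObj
open AlgSp

namespace Groth.Agent.Lib.T2H1.GrpLocus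

section Transl

variable {C : Type u} [Category.{v} C] [CartesianMonoidalCategory C] {G K : C} [GrpObj G]

/-- left translation of `G × K` by a `K`-point of `G`. -/
noncomputable def transl (c : K ⟶ G) : G ⊗ K ≅ G ⊗ K where
  hom := lift ((snd G K ≫ c) * fst G K) (snd G K)
  inv := lift ((snd G K ≫ c)⁻¹ * fst G K) (snd G K)
  hom_inv_id := by
    apply CartesianMonoidalCategory.hom_ext
    · simp [comp_lift, MonObj.comp_mul, GrpObj.comp_inv]
    · simp
  inv_hom_id := by
    apply CartesianMonoidalCategory.hom_ext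
    · simp [comp_lift, MonObj.comp_mul, GrpObj.comp_inv]
    · simp

lemma transl_hom_snd (c : K ⟶ G) : (transl c).hom ≫ snd G K = snd G K := by
  simp [transl]

lemma unit_transl (c : K ⟶ G) :
    lift (toUnit K ≫ η[G]) (𝟙 K) ≫ (transl c).hom = lift c (𝟙 K) := by
  apply CartesianMonoidalCategory.hom_ext
  · simp [transl, comp_lift, MonObj.comp_mul, ← Hom.one_def]
  · simp [transl]

end Transl

variable {S : Scheme.{u}}

/-- the source of a representable morphism to an algebraic space is an algebraic space. -/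
lemma isAlgSpace_of_representable {W' B : AlgSp.Sp S} (hB : AlgSp.IsAlgSpace B) (w' : W' ⟶ B)
    (hw' : AlgSp.Representable w') : AlgSp.IsAlgSpace W' := by
  rw [← AlgSp.isAlgSpaceP_obj_iff]
  refine Groth.Agent.S9876.result S ⟨B, hB⟩ W'.obj w'.hom ?_
  intro U ξ
  obtain ⟨b, snd, fst, sq⟩ := hw' (ObjectProperty.homMk ξ : (AlgSp.yon S).obj U ⟶ B)
  exact ⟨b, snd, fst.hom, sq.map (sheafToPresheaf _ _)⟩

/-- `HasAtMor` and isomorphisms of the source. -/
lemma hasAtMor_map_iso {Q : ∀ (U V : Scheme.{u}), (U ⟶ V) → ↥U → Prop} {X X' Y : AlgSp.Sp S}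
    (t : X' ⟶ X) [IsIso t] (f : X ⟶ Y) (x : AlgSp.Points X') :
    AlgSp.HasAtMor Q f (AlgSp.Points.map t x) ↔ AlgSp.HasAtMor Q (t ≫ f) x := by
  constructor
  · rintro ⟨U, V, a, b, h, u, ha, hb, hc, hu, hQ⟩
    refine ⟨U, V, a ≫ inv t, b, h, u, MorphismProperty.RespectsIso.postcomp _ (inv t) a ha, hb,
      ?_, ?_, hQ⟩
    · rw [Category.assoc, IsIso.inv_hom_id_assoc]; exact hc
    · rw [← AlgSp.Points.map_ofPt, hu, ← AlgSp.Points.map_comp, IsIso.hom_inv_id,
        AlgSp.Points.map_id]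
  · rintro ⟨U, V, a, b, h, u, ha, hb, hc, hu, hQ⟩
    refine ⟨U, V, a ≫ t, b, h, u, MorphismProperty.RespectsIso.postcomp _ t a ha, hb,
      by rw [Category.assoc]; exact hc, ?_, hQ⟩
    rw [← AlgSp.Points.map_ofPt, hu]

/-- the locus of "`P` near the point" is open. -/
lemma isOpen_locus (P : MorphismProperty Scheme.{u}) {X Y : AlgSp.Sp S} (f : X ⟶ Y) :
    IsOpen {x : AlgSp.Points X |
      AlgSp.HasAtMor (fun U _ h u => ∃ W : U.Opens, u ∈ W ∧ P (W.ι ≫ h)) f x} := by
  rw [isOpen_iff_forall_mem_open]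
  rintro x ⟨U, V, a, b, h, u, ha, hb, hc, hu, W, huW, hW⟩
  refine ⟨AlgSp.Points.ofPt a '' (W : Set ↥U.left), ?_,
    Groth.Agent.S10176.isOpenMap_ofPt a ha _ W.isOpen, ⟨u, huW, hu⟩⟩
  rintro _ ⟨w, hw, rfl⟩
  exact ⟨U, V, a, b, h, w, ha, hb, hc, rfl, W, hw, hW⟩

section Group

variable {B : AlgSp.Sp S} (G : Over B) [GrpObj G]

/-- the unit section. -/
noncomputable def unitSec : B ⟶ G.left := η[G].left

lemma unitSec_hom : unitSec G ≫ G.hom = 𝟙 B := Over.w η[G]

/-- the base change hypothesis on a pointed property `Q` for the structure morphism of `G`. -/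
def BC (Q : ∀ (U V : Scheme.{u}), (U ⟶ V) → ↥U → Prop) : Prop :=
  ∀ {Y'' X'' : AlgSp.Sp S}, AlgSp.IsAlgSpace Y'' → AlgSp.IsAlgSpace X'' →
    ∀ (g : Y'' ⟶ B) (b : X'' ⟶ G.left) (f'' : X'' ⟶ Y''), IsPullback b f'' G.hom g →
      ∀ x'' : AlgSp.Points X'', AlgSp.HasAtMor Q f'' x'' ↔ AlgSp.HasAtMor Q G.hom (AlgSp.Points.map b x'')

/-- **homogeneity**: a point of `G` has `Q` exactly when the unit point of its fibre has. -/
theorem homogeneous {Q : ∀ (U V : Scheme.{u}), (U ⟶ V) → ↥U → Prop} (hB : AlgSp.IsAlgSpace B)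
    (hG : AlgSp.IsAlgSpace G.left) (hBC : BC G Q) (g : AlgSp.Points G.left) :
    AlgSp.HasAtMor Q G.hom g ↔
      AlgSp.HasAtMor Q G.hom (AlgSp.Points.map (unitSec G) (AlgSp.Points.map G.hom g)) := by
  induction g using AlgSp.Points.ind with | h q => ?_
  -- the point as an object over `B`
  let β : (AlgSp.yon S).obj q.pt ⟶ B := q.toHom ≫ G.hom
  let Kb : Over B := Over.mk β
  let c : Kb ⟶ G := Over.homMk q.toHom rfl
  have sqK : IsPullback (fst G Kb).left (snd G Kb).left G.hom β :=
    IsPullback.of_hasPullback G.hom β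
  have hGK : AlgSp.IsAlgSpace (G ⊗ Kb).left :=
    Groth.Agent.S9874.isAlgSpace_of_isPullback hB.diag hG (AlgSp.IsAlgSpace.yon_obj _) sqK
  let τ := transl c
  haveI : IsIso τ.hom.left := (inferInstance : IsIso ((Over.forget B).map τ.hom))
  have hτ : τ.hom.left ≫ (snd G Kb).left = (snd G Kb).left := by
    rw [← Over.comp_left, transl_hom_snd]
  let eK : Kb ⟶ G ⊗ Kb := lift (toUnit Kb ≫ η[G]) (𝟙 Kb)
  let gK : Kb ⟶ G ⊗ Kb := lift c (𝟙 Kb)
  have heg : eK ≫ τ.hom = gK := unit_transl c
  let pt₀ : AlgSp.Points ((AlgSp.yon S).obj q.pt) :=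
    AlgSp.Points.ofScheme q.pt (IsLocalRing.closedPoint q.K)
  have hpt₀ : AlgSp.Points.map q.toHom pt₀ = AlgSp.Points.mk q := by
    rw [← AlgSp.Points.ofPt_eq_map_ofScheme, AlgSp.Points.ofPt_toHom]
  let xe : AlgSp.Points (G ⊗ Kb).left := AlgSp.Points.map eK.left pt₀
  let xg : AlgSp.Points (G ⊗ Kb).left := AlgSp.Points.map gK.left pt₀
  have hτx : AlgSp.Points.map τ.hom.left xe = xg := by
    show AlgSp.Points.map τ.hom.left (AlgSp.Points.map eK.left pt₀) = AlgSp.Points.map gK.left pt₀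
    rw [← AlgSp.Points.map_comp, ← Over.comp_left, heg]
  have hxg : AlgSp.Points.map (fst G Kb).left xg = AlgSp.Points.mk q := by
    show AlgSp.Points.map (fst G Kb).left (AlgSp.Points.map gK.left pt₀) = _
    rw [← AlgSp.Points.map_comp, ← Over.comp_left, lift_fst]
    exact hpt₀
  have hxe : AlgSp.Points.map (fst G Kb).left xe =
      AlgSp.Points.map (unitSec G) (AlgSp.Points.map G.hom (AlgSp.Points.mk q)) := by
    show AlgSp.Points.map (fst G Kb).left (AlgSp.Points.map eK.left pt₀) = _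
    rw [← AlgSp.Points.map_comp, ← Over.comp_left, lift_fst, ← hpt₀, ← AlgSp.Points.map_comp,
      ← AlgSp.Points.map_comp]
    rfl
  have s1 : AlgSp.HasAtMor Q G.hom (AlgSp.Points.mk q) ↔
      AlgSp.HasAtMor Q (snd G Kb).left xg := by
    rw [hBC (AlgSp.IsAlgSpace.yon_obj _) hGK β _ _ sqK xg, hxg]
  have s2 : AlgSp.HasAtMor Q (snd G Kb).left xg ↔ AlgSp.HasAtMor Q (snd G Kb).left xe := by
    rw [← hτx, hasAtMor_map_iso, hτ]
  have s3 : AlgSp.HasAtMor Q (snd G Kb).left xe ↔ AlgSp.HasAtMor Q G.hom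
      (AlgSp.Points.map (unitSec G) (AlgSp.Points.map G.hom (AlgSp.Points.mk q))) := by
    rw [hBC (AlgSp.IsAlgSpace.yon_obj _) hGK β _ _ sqK xe, hxe]
  exact s1.trans (s2.trans s3)

variable (P : MorphismProperty Scheme.{u})

/-- the pointed property "`P` on a neighbourhood". -/
abbrev near : ∀ (U V : Scheme.{u}), (U ⟶ V) → ↥U → Prop :=
  fun U _ h u => ∃ W : U.Opens, u ∈ W ∧ P (W.ι ≫ h)

/-- the open subset of `|B|` over which `G` has `P`. -/
def goodSet : Set (AlgSp.Points B) :=
  AlgSp.Points.map (unitSec G) ⁻¹' {x | AlgSp.HasAtMor (near P) G.hom x}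

lemma isOpen_goodSet : IsOpen (goodSet G P) :=
  (isOpen_locus P G.hom).preimage (AlgSp.Points.continuous_map _)

open Groth.Agent.Lib.Helper12.LocPCases in
/-- a base change of `G ⟶ B` has `P` exactly when it lies over the good open set. -/
theorem locP_iff_range_subset (hP : Good P) [IsZariskiLocalAtSource P] (hB : AlgSp.IsAlgSpace B)
    (hG : AlgSp.IsAlgSpace G.left) (hBC : BC G (near P))
    {Y'' X'' : AlgSp.Sp S} (hY'' : AlgSp.IsAlgSpace Y'') (hX'' : AlgSp.IsAlgSpace X'')
    (g : Y'' ⟶ B) (b : X'' ⟶ G.left) (f'' : X'' ⟶ Y'') (sq : IsPullback b f'' G.hom g) :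
    AlgSp.LocP P f'' ↔ Set.range (AlgSp.Points.map g) ⊆ goodSet G P := by
  rw [Groth.Agent.Lib.Helper12.LocPNbhd.locP_iff_forall_hasAtMor hP hX'' hY'' f'']
  constructor
  · rintro H _ ⟨y, rfl⟩
    obtain ⟨x'', hx1, -⟩ := Groth.Agent.S10175.exists_point_of_isPullback sq
      (AlgSp.Points.map (unitSec G) (AlgSp.Points.map g y)) y
      (by rw [← AlgSp.Points.map_comp, unitSec_hom, AlgSp.Points.map_id])
    have := (hBC hY'' hX'' g b f'' sq x'').1 (H x'')
    rw [hx1] at this
    exact this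
  · intro H x''
    rw [hBC hY'' hX'' g b f'' sq x'', homogeneous G hB hG hBC]
    have h1 : AlgSp.Points.map G.hom (AlgSp.Points.map b x'') =
        AlgSp.Points.map g (AlgSp.Points.map f'' x'') := by
      rw [← AlgSp.Points.map_comp, ← AlgSp.Points.map_comp, sq.w]
    rw [h1]
    exact H ⟨_, rfl⟩

open Groth.Agent.Lib.Helper12 Groth.Agent.Lib.Helper12.LocPCases in
/-- the largest open subspace of `B` over which `G` has `P`, compatibly with base change. -/
theorem main (hP : Good P) [IsZariskiLocalAtSource P] (hB : AlgSp.IsAlgSpace B)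
    (hG : AlgSp.IsAlgSpace G.left) (hBC : BC G (near P)) :
    ∃ (W : AlgSp.Sp S) (w : W ⟶ B), AlgSp.RepWith @IsOpenImmersion w ∧
      (∀ (W' : AlgSp.Sp S) (w' : W' ⟶ B), AlgSp.RepWith @IsOpenImmersion w' →
        (AlgSp.LocP P (pullback.snd G.hom w') ↔ ∃ k : W' ⟶ W, k ≫ w = w')) ∧
      (∀ (B' : AlgSp.Sp S), AlgSp.IsAlgSpace B' → ∀ (f : B' ⟶ B) (W'' : AlgSp.Sp S) (w'' : W'' ⟶ B'),
        AlgSp.RepWith @IsOpenImmersion w'' →
        (AlgSp.LocP P (pullback.snd (pullback.snd G.hom f) w'') ↔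
          ∃ k : W'' ⟶ pullback w f, k ≫ pullback.snd w f = w'')) := by
  have hopen := isOpen_goodSet G P
  have hw : AlgSp.RepWith @IsOpenImmersion (OpenSub.incl B (goodSet G P)) :=
    OpenSub.repWith_incl hopen
  have hrange : Set.range (AlgSp.Points.map (OpenSub.incl B (goodSet G P))) = goodSet G P :=
    OpenSub.range_map_incl _
  refine ⟨OpenSub.obj B (goodSet G P), OpenSub.incl B (goodSet G P), hw, ?_, ?_⟩
  · intro W' w' hw'
    have hW' : AlgSp.IsAlgSpace W' := isAlgSpace_of_representable hB w' hw'.1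
    have sq := IsPullback.of_hasPullback G.hom w'
    have hG' : AlgSp.IsAlgSpace (pullback G.hom w') :=
      Groth.Agent.S9874.isAlgSpace_of_isPullback hB.diag hG hW' sq
    rw [locP_iff_range_subset G P hP hB hG hBC hW' hG' w' _ _ sq,
      Groth.Agent.S10194.exists_factor_iff _ hw w', hrange]
  · intro B' hB' f W'' w'' hw''
    have hW'' : AlgSp.IsAlgSpace W'' := isAlgSpace_of_representable hB' w'' hw''.1
    have sq1 := IsPullback.of_hasPullback G.hom f
    have hG' : AlgSp.IsAlgSpace (pullback G.hom f) :=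
      Groth.Agent.S9874.isAlgSpace_of_isPullback hB.diag hG hB' sq1
    have sq2 := IsPullback.of_hasPullback (pullback.snd G.hom f) w''
    have hG'' : AlgSp.IsAlgSpace (pullback (pullback.snd G.hom f) w'') :=
      Groth.Agent.S9874.isAlgSpace_of_isPullback hB'.diag hG' hW'' sq2
    have sq := sq2.paste_horiz sq1
    have sqw := IsPullback.of_hasPullback (OpenSub.incl B (goodSet G P)) f
    have hw2 : AlgSp.RepWith @IsOpenImmersion (pullback.snd (OpenSub.incl B (goodSet G P)) f) :=
      MorphismProperty.of_isPullback (P := AlgSp.RepWith @IsOpenImmersion) sqw hw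
    have hr2 : Set.range (AlgSp.Points.map (pullback.snd (OpenSub.incl B (goodSet G P)) f)) =
        AlgSp.Points.map f ⁻¹' goodSet G P := by
      rw [OpenSub.range_map_fst_of_isPullback sqw.flip, hrange]
    rw [locP_iff_range_subset G P hP hB hG hBC hW'' hG'' (w'' ≫ f) _ _ sq,
      Groth.Agent.S10194.exists_factor_iff _ hw2 w'', hr2]
    constructor
    · rintro H _ ⟨y, rfl⟩
      show AlgSp.Points.map f (AlgSp.Points.map w'' y) ∈ goodSet G P
      rw [← AlgSp.Points.map_comp]
      exact H ⟨y, rfl⟩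
    · rintro H _ ⟨y, rfl⟩
      rw [AlgSp.Points.map_comp]
      exact H ⟨y, rfl⟩

end Group

end Groth.Agent.Lib.T2H1.GrpLocus
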