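import Mathlib
import Groth.Agent.Lib.T2H1RDerCoprod
import Groth.Agent.Lib.Helper1NatCompact
import Groth.Agent.Lib.Helper17AbHom
import Groth.Agent.Lib.Helper23ExtRDNat

/-!
# `Hom_{D(A)}(P[0], -)` and coproducts of uniformly bounded below families

If `Ext^q(P, -)` commutes with coproducts for all `q`, then every map from `P[0]` to the coproduct
(in `D(A)`, `A` Grothendieck abelian) of a uniformly bounded below family factors through a
finite subcoproduct.
-/

set_option autoImplicit false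
universe w w' v u
open CategoryTheory CategoryTheory.Limits Opposite

namespace Groth.Agent.Lib.T2H1.HomCoprod

open Groth.Agent.Lib.Helper1.Compact

section Ab

variable {ι : Type w} {X : ι → AddCommGrpCat.{v}} (c : Cofan X) (hc : IsColimit c)

include hc in
/-- a coproduct of abelian groups is generated by the images of the summands. -/
lemma iSup_range_inj_eq_top : (⨆ i, (c.inj i).hom.range) = ⊤ := by
  set S : AddSubgroup c.pt := ⨆ i, (c.inj i).hom.range with hS
  let q : c.pt ⟶ AddCommGrpCat.of (c.pt ⧸ S) := AddCommGrpCat.ofHom (QuotientAddGroup.mk' S)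
  have h : q = 0 := by
    refine Cofan.IsColimit.hom_ext hc _ _ (fun i => ?_)
    ext x
    have hx : (c.inj i).hom x ∈ S :=
      (le_iSup (fun i => (c.inj i).hom.range) i) ⟨x, rfl⟩
    have : (QuotientAddGroup.mk' S) ((c.inj i).hom x) = 0 :=
      (QuotientAddGroup.eq_zero_iff _).2 hx
    simpa [q] using this
  rw [eq_top_iff]
  intro x _
  have hx : q.hom x = 0 := by rw [h]; rfl
  exact (QuotientAddGroup.eq_zero_iff x).1 hx

end Ab

section Kill

variable {A : Type u} [Category.{v} A] [Preadditive A] (P₀ : A) {ι : Type w} (X : ι → A)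
  [HasCoproduct X]

/-- if `Hom(P₀, -)` commutes with the coproduct of `X`, every map `P₀ ⟶ ∐ X` is killed by
`kill X s` for a finite set `s`. -/
lemma exists_kill_of_preserves
    [PreservesColimit (Discrete.functor X) (preadditiveCoyoneda.obj (op P₀))] (f : P₀ ⟶ ∐ X) :
    ∃ s : Finset ι, f ≫ kill X s = 0 := by
  classical
  let G := preadditiveCoyoneda.obj (op P₀)
  have hc : IsColimit (Cofan.mk (G.obj (∐ X)) (fun i => G.map (Sigma.ι X i))) :=
    isColimitCofanMkObjOfIsColimit G X _ (coproductIsCoproduct X)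
  have htop := iSup_range_inj_eq_top _ hc
  have hf : (f : (G.obj (∐ X) : Type v)) ∈ (⨆ i, (G.map (Sigma.ι X i)).hom.range) := by
    have : (f : (G.obj (∐ X) : Type v)) ∈ (⊤ : AddSubgroup (G.obj (∐ X))) := AddSubgroup.mem_top _
    rw [← htop] at this
    exact this
  refine AddSubgroup.iSup_induction (fun i => (G.map (Sigma.ι X i)).hom.range)
    (C := fun g : (G.obj (∐ X) : Type v) => ∃ s : Finset ι, (g : P₀ ⟶ ∐ X) ≫ kill X s = 0)
    hf ?_ ?_ ?_
  · rintro i x ⟨g, rfl⟩
    refine ⟨{i}, ?_⟩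
    change (g ≫ Sigma.ι X i) ≫ kill X {i} = 0
    rw [Category.assoc, ι_kill_of_mem X (Finset.mem_singleton_self i), comp_zero]
  · exact ⟨∅, zero_comp⟩
  · rintro x y ⟨s, hs⟩ ⟨t, ht⟩
    refine ⟨s ∪ t, ?_⟩
    let x' : P₀ ⟶ ∐ X := x
    let y' : P₀ ⟶ ∐ X := y
    have hs' : x' ≫ kill X s = 0 := hs
    have ht' : y' ≫ kill X t = 0 := ht
    show (x' + y') ≫ kill X (s ∪ t) = 0
    rw [Preadditive.add_comp,
      comp_kill_eq_zero_of_subset X _ Finset.subset_union_left hs',
      comp_kill_eq_zero_of_subset X _ Finset.subset_union_right ht', add_zero]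

end Kill

section AbQuasiIso

open Groth.Agent.Lib.Helper17.AbHom

variable {C C' : CochainComplex AddCommGrpCat.{v} ℤ} (g : C ⟶ C')

/-- element-level surjectivity on `H^0` for a quasi-isomorphism of complexes of abelian groups. -/
lemma exists_cycle_of_quasiIsoAt (n m k : ℤ) (hnm : n + 1 = m) (hkn : k + 1 = n)
    [QuasiIsoAt g n] (x' : C'.X n) (hx' : C'.d n m x' = 0) :
    ∃ (x : C.X n) (y : C'.X k), C.d n m x = 0 ∧ g.f n x - x' = C'.d k n y := by
  obtain ⟨z', hz'⟩ := exists_cycle C' n m (by simp [← hnm]) x' hx'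
  haveI : IsIso (HomologicalComplex.homologyMap g n) :=
    (quasiIsoAt_iff_isIso_homologyMap g n).1 inferInstance
  have hbij := (ConcreteCategory.isIso_iff_bijective (HomologicalComplex.homologyMap g n)).1
    inferInstance
  obtain ⟨h, hh⟩ := hbij.2 (C'.homologyπ n z')
  obtain ⟨z, rfl⟩ := homologyπ_surjective C n h
  rw [homologyMap_homologyπ] at hh
  have h0 : C'.homologyπ n (HomologicalComplex.cyclesMap g n z - z') = 0 := by
    rw [map_sub, hh, sub_self]
  obtain ⟨y, hy⟩ := exists_of_homologyπ_eq_zero C' k n (by simp [← hkn]) _ h0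
  refine ⟨C.iCycles n z, y, d_iCycles C n m z, ?_⟩
  have := congrArg (C'.iCycles n) hy
  rw [iCycles_toCycles, map_sub, iCycles_cyclesMap, hz'] at this
  exact this.symm

end AbQuasiIso

section Finset

variable {A : Type u} [Category.{v} A] [Preadditive A] (P₀ : A) {ι : Type w} {X : ι → A}

/-- if `Hom(P₀, -)` commutes with the coproduct of `X`, every map from `P₀` to the coproduct is
supported on a finite set of summands. -/
lemma exists_finset_of_preserves {P : A} (inj : ∀ i, X i ⟶ P) (hc : IsColimit (Cofan.mk P inj))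
    [PreservesColimit (Discrete.functor X) (preadditiveCoyoneda.obj (op P₀))] (f : P₀ ⟶ P) :
    ∃ s : Finset ι, ∀ ⦃Y : A⦄ (g : P ⟶ Y), (∀ k ∈ s, inj k ≫ g = 0) → f ≫ g = 0 := by
  classical
  let G := preadditiveCoyoneda.obj (op P₀)
  have hc' : IsColimit (Cofan.mk (G.obj P) (fun i => G.map (inj i))) :=
    isColimitCofanMkObjOfIsColimit G X inj hc
  have htop := iSup_range_inj_eq_top _ hc'
  have hf : (f : (G.obj P : Type v)) ∈ (⨆ i, (G.map (inj i)).hom.range) := by
    have : (f : (G.obj P : Type v)) ∈ (⊤ : AddSubgroup (G.obj P)) := AddSubgroup.mem_top _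
    rw [← htop] at this
    exact this
  refine AddSubgroup.iSup_induction (fun i => (G.map (inj i)).hom.range)
    (C := fun x : (G.obj P : Type v) => ∃ s : Finset ι, ∀ ⦃Y : A⦄ (g : P ⟶ Y),
      (∀ k ∈ s, inj k ≫ g = 0) → (x : P₀ ⟶ P) ≫ g = 0)
    hf ?_ ?_ ?_
  · rintro i x ⟨y, rfl⟩
    refine ⟨{i}, fun Y g hg => ?_⟩
    change (y ≫ inj i) ≫ g = 0
    rw [Category.assoc, hg i (Finset.mem_singleton_self i), comp_zero]
  · exact ⟨∅, fun Y g _ => zero_comp⟩
  · rintro x y ⟨s, hs⟩ ⟨t, ht⟩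
    refine ⟨s ∪ t, fun Y g hg => ?_⟩
    let x' : P₀ ⟶ P := x
    let y' : P₀ ⟶ P := y
    have hs' : x' ≫ g = 0 := hs g (fun k hk => hg k (Finset.mem_union_left _ hk))
    have ht' : y' ≫ g = 0 := ht g (fun k hk => hg k (Finset.mem_union_right _ hk))
    show (x' + y') ≫ g = 0
    rw [Preadditive.add_comp, hs', ht', add_zero]

end Finset

section Leray

open Groth.Agent.Lib.Helper17.KInj Groth.Agent.S12229 Groth.Agent.Lib.Helper23Bridge
  Groth.Agent.Lib.Helper23Acyclic

attribute [local instance] HasDerivedCategory.standard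

variable {A : Type u} [Category.{v} A] [Abelian A] [IsGrothendieckAbelian.{w} A]
  {B : Type*} [Category B] [Abelian B]
  (G : A ⥤ B) [G.Additive] [PreservesFiniteLimits G]

/-- Leray: a bounded below complex with `G`-acyclic terms admits a quasi-isomorphism to a bounded
below complex of injectives which `G` maps to a quasi-isomorphism. -/
theorem exists_quasiIso_injective_of_acyclic (C : CochainComplex A ℤ) (d : ℤ) [C.IsStrictlyGE d]
    (hC : ∀ (m : ℤ) (i : ℕ), 0 < i → IsZero ((G.rightDerived i).obj (C.X m))) :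
    ∃ (J : CochainComplex A ℤ) (a : C ⟶ J), QuasiIso a ∧ (∀ k, Injective (J.X k)) ∧
      J.IsStrictlyGE d ∧ QuasiIso ((G.mapHomologicalComplex (ComplexShape.up ℤ)).map a) := by
  haveI : EnoughInjectives A := inferInstance
  let K : CochainComplex.Plus A := ⟨C, d, inferInstance⟩
  have h1 := Groth.Agent.S0996.result G K hC
  rw [isIso_unit_iff_isIso_τ] at h1
  obtain ⟨J, a, ha, hJ, hJd⟩ :=
    CochainComplex.Plus.modelCategoryQuillen.exists_quasiIso_injective C d
  exact ⟨J, a, ha, hJ, hJd,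
    (isIso_τ_iff_quasiIso G J d hJd hJ (K := K) (ObjectProperty.homMk a) ha).1 h1⟩

end Leray

section Single

open Groth.Agent.Lib.Helper17.KInj CochainComplex HomComplex DerivedCategory

variable {A : Type u} [Category.{v} A] [Abelian A] [IsGrothendieckAbelian.{v} A]
  [HasDerivedCategory.{w} A] (P₀ : A)

/-- every morphism in `D(A)` from `P₀[0]` to a bounded below complex with `Hom(P₀, -)`-acyclic
terms is represented by a morphism of complexes. -/
theorem exists_Q_map_eq_of_acyclic (S : CochainComplex A ℤ) (d : ℤ) [S.IsStrictlyGE d]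
    (hS : ∀ (m : ℤ) (i : ℕ), 0 < i →
      IsZero (((preadditiveCoyoneda.obj (op P₀)).rightDerived i).obj (S.X m)))
    (φ : (Q : _ ⥤ DerivedCategory A).obj ((CochainComplex.singleFunctor A 0).obj P₀) ⟶ Q.obj S) :
    ∃ ψ : (CochainComplex.singleFunctor A 0).obj P₀ ⟶ S, Q.map ψ = φ := by
  obtain ⟨J, a, ha, hJ, hJd, hGa⟩ :=
    exists_quasiIso_injective_of_acyclic.{v} (preadditiveCoyoneda.obj (op P₀)) S d hS
  haveI := hJd
  haveI : J.IsKInjective := CochainComplex.isKInjective_of_injective J d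
  haveI : IsIso ((Q : _ ⥤ DerivedCategory A).map a) := by
    rw [isIso_Q_map_iff_quasiIso]; exact ha
  obtain ⟨θ, hθ⟩ := exists_Q_map_eq (φ ≫ Q.map a)
  -- the degree `0` component of `θ`
  obtain ⟨θ₀, hθ₀⟩ := Cochain.fromSingleMk_surjective (Cochain.ofHom θ) 0 (zero_add 0)
  have hdθ : θ₀ ≫ J.d 0 1 = 0 := by
    have h1 : δ 0 1 (Cochain.ofHom θ) = 0 := δ_ofHom θ
    rw [← hθ₀, Cochain.δ_fromSingleMk θ₀ (zero_add 0) 1 1 (zero_add 1)] at h1
    have h2 := congrArg (Cochain.fromSingleEquiv (zero_add 1)) h1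
    rw [Cochain.fromSingleEquiv_fromSingleMk] at h2
    rw [h2, map_zero]
  let g := ((preadditiveCoyoneda.obj (op P₀)).mapHomologicalComplex (ComplexShape.up ℤ)).map a
  haveI : QuasiIso g := hGa
  obtain ⟨ψ₀, ρ, hψ₀, hρ⟩ := exists_cycle_of_quasiIsoAt g 0 1 (-1) rfl rfl θ₀ hdθ
  -- `ψ₀ : P₀ ⟶ S.X 0`, `ρ : P₀ ⟶ J.X (-1)`
  let ψ₀' : P₀ ⟶ S.X 0 := ψ₀
  let ρ' : P₀ ⟶ J.X (-1) := ρ
  have hψ₀' : ψ₀' ≫ S.d 0 1 = 0 := hψ₀
  have hρ' : ψ₀' ≫ a.f 0 - θ₀ = ρ' ≫ J.d (-1) 0 := hρ
  let ψ : (CochainComplex.singleFunctor A 0).obj P₀ ⟶ S :=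
    Cocycle.homOf (Cocycle.fromSingleMk ψ₀' (zero_add 0) 1 (zero_add 1) hψ₀')
  have hψ : Cochain.ofHom ψ = Cochain.fromSingleMk ψ₀' (zero_add 0) :=
    Cocycle.cochain_ofHom_homOf_eq_coe _
  refine ⟨ψ, ?_⟩
  have hH : Nonempty (Homotopy (ψ ≫ a) θ) := by
    refine ⟨(Cochain.equivHomotopy (ψ ≫ a) θ).symm
      ⟨Cochain.fromSingleMk ρ' (by simp : (0 : ℤ) + (-1) = -1), ?_⟩⟩
    rw [Cochain.δ_fromSingleMk ρ' _ 0 0 (zero_add 0), ← hθ₀, Cochain.ofHom_comp, hψ,
      ← Cochain.fromSingleMk_postcomp, ← Cochain.fromSingleMk_add, ← hρ']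
    congr 1
    abel
  obtain ⟨H⟩ := hH
  have h3 : (Q : _ ⥤ DerivedCategory A).map (ψ ≫ a) = Q.map θ :=
    DerivedCategory.Q_map_eq_of_homotopy A H
  rw [Functor.map_comp, hθ] at h3
  exact (cancel_mono (Q.map a)).1 h3

end Single

section Main

open Groth.Agent.Lib.Helper17.KInj Groth.Agent.Lib.Helper17.DBrown Groth.Agent.Lib.T2H1.RDerCoprod
  CochainComplex HomComplex DerivedCategory

variable {A : Type u} [Category.{v} A] [Abelian A] [IsGrothendieckAbelian.{v} A]
  [HasDerivedCategory.{w} A] (P₀ : A) {ι : Type v}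

omit [HasDerivedCategory.{w} A] in
/-- a morphism of complexes from `P₀[0]` to a coproduct of complexes is supported on finitely many
summands, if `Hom(P₀, -)` commutes with the coproduct of the degree `0` terms. -/
theorem exists_kill_of_hom_single' (I : ι → CochainComplex A ℤ)
    [PreservesColimit (Discrete.functor (fun i => (I i).X 0)) (preadditiveCoyoneda.obj (op P₀))]
    (ψ : (HomologicalComplex.single A (ComplexShape.up ℤ) 0).obj P₀ ⟶ ∐ I) :
    ∃ s : Finset ι, ψ ≫ kill I s = 0 := by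
  have hc0 : IsColimit (Cofan.mk ((∐ I).X 0) (fun i => (Sigma.ι I i).f 0)) :=
    isColimitCofanMkObjOfIsColimit (HomologicalComplex.eval A (ComplexShape.up ℤ) 0) I _
      (coproductIsCoproduct I)
  let ψ₀ : P₀ ⟶ (∐ I).X 0 := (HomologicalComplex.singleObjXSelf (ComplexShape.up ℤ) 0 P₀).inv ≫ ψ.f 0
  obtain ⟨s, hs⟩ := exists_finset_of_preserves P₀ (fun i => (Sigma.ι I i).f 0) hc0 ψ₀
  refine ⟨s, ?_⟩
  apply HomologicalComplex.from_single_hom_ext
  have h1 : ψ₀ ≫ (kill I s).f 0 = 0 := hs _ (fun k hk => by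
    rw [← HomologicalComplex.comp_f, ι_kill_of_mem I hk]
    rfl)
  have h3 : (ψ ≫ kill I s).f 0 =
      (HomologicalComplex.singleObjXSelf (ComplexShape.up ℤ) 0 P₀).hom ≫ ψ₀ ≫ (kill I s).f 0 := by
    simp [ψ₀]
  rw [h3, h1, comp_zero]
  rfl

omit [HasDerivedCategory.{w} A] in
theorem exists_kill_of_hom_single (I : ι → CochainComplex A ℤ)
    [PreservesColimit (Discrete.functor (fun i => (I i).X 0)) (preadditiveCoyoneda.obj (op P₀))]
    (ψ : (CochainComplex.singleFunctor A 0).obj P₀ ⟶ ∐ I) :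
    ∃ s : Finset ι, ψ ≫ kill I s = 0 :=
  exists_kill_of_hom_single' P₀ I ψ

variable [HasExt.{v} A]

/-- if all the `Ext^q(P₀, -)` commute with coproducts indexed by `ι`, every morphism in `D(A)` from
`P₀[0]` to the coproduct of a uniformly bounded below family is supported on finitely many
summands. -/
theorem exists_kill_of_isGE
    (hExt : ∀ q : ℕ, PreservesColimitsOfShape (Discrete ι) ((Abelian.extFunctor.{v} q).obj (op P₀)))
    (M : ι → DerivedCategory A) [HasCoproduct M] (a : ℤ) (hM : ∀ i, (M i).IsGE a)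
    (φ : (DerivedCategory.singleFunctor A 0).obj P₀ ⟶ ∐ M) :
    ∃ s : Finset ι, φ ≫ kill M s = 0 := by
  classical
  let G : A ⥤ AddCommGrpCat.{v} := preadditiveCoyoneda.obj (op P₀)
  -- models by bounded below complexes of injectives
  have h1 : ∀ i, ∃ (I : CochainComplex A ℤ), I.IsStrictlyGE a ∧ (∀ p, Injective (I.X p)) ∧
      Nonempty (M i ≅ DerivedCategory.Q.obj I) := fun i => by
    haveI := hM i
    obtain ⟨L, hL, ⟨eL⟩⟩ := (M i).exists_iso_Q_obj_of_isGE a
    obtain ⟨I, b, hb, hI, hIn⟩ :=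
      CochainComplex.Plus.modelCategoryQuillen.exists_quasiIso_injective L a
    haveI : IsIso ((DerivedCategory.Q : _ ⥤ DerivedCategory A).map b) := by
      rw [DerivedCategory.isIso_Q_map_iff_quasiIso]; exact hb
    exact ⟨I, hIn, hI, ⟨eL ≪≫ asIso (DerivedCategory.Q.map b)⟩⟩
  choose I hI hinj e using h1
  have e' : ∀ i, M i ≅ DerivedCategory.Q.obj (I i) := fun i => (e i).some
  haveI : (∐ I).IsStrictlyGE a := isStrictlyGE_sigma I a hI
  -- the comparison `∐ M ⟶ Q (∐ I)` is a split monomorphism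
  have hQ := isColimitQSigma I
  let E : ∐ M ⟶ (Q : _ ⥤ DerivedCategory A).obj (∐ I) :=
    Sigma.desc (fun i => (e' i).hom ≫ Q.map (Sigma.ι I i))
  let E' : (Q : _ ⥤ DerivedCategory A).obj (∐ I) ⟶ ∐ M :=
    Cofan.IsColimit.desc hQ (fun i => (e' i).inv ≫ Sigma.ι M i)
  have hEE' : E ≫ E' = 𝟙 _ := by
    refine Sigma.hom_ext _ _ (fun i => ?_)
    have hf := Cofan.IsColimit.fac hQ (fun i => (e' i).inv ≫ Sigma.ι M i) i
    dsimp at hf
    rw [Sigma.ι_desc_assoc, Category.assoc, hf, Iso.hom_inv_id_assoc, Category.comp_id]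
  haveI : Mono E := mono_of_mono_fac hEE'
  have hkill : ∀ s : Finset ι, kill M s ≫ E = E ≫ Q.map (kill I s) := by
    intro s
    refine Sigma.hom_ext _ _ (fun i => ?_)
    by_cases hi : i ∈ s
    · rw [reassoc_of% (ι_kill_of_mem M hi), zero_comp, Sigma.ι_desc_assoc, Category.assoc,
        ← Functor.map_comp, ι_kill_of_mem I hi, Functor.map_zero, comp_zero]
    · rw [reassoc_of% (ι_kill_of_notMem M hi), Sigma.ι_desc_assoc, Category.assoc,
        ← Functor.map_comp, ι_kill_of_notMem I hi, Sigma.ι_desc]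
  -- acyclicity of the terms of `∐ I`
  have hS : ∀ (m : ℤ) (q : ℕ), 0 < q → IsZero ((G.rightDerived q).obj ((∐ I).X m)) := by
    intro m q hq
    haveI := hExt q
    let Eq := (Abelian.extFunctor.{v} q).obj (op P₀)
    have i1 : G.rightDerived q ≅ Eq :=
      Groth.Agent.Lib.Helper23ExtRDNat.rightDerivedCoyonedaIso P₀ q
    refine IsZero.of_iso ?_ ((G.rightDerived q).mapIso (sigmaXIso I m) ≪≫
      i1.app _ ≪≫ (PreservesCoproduct.iso Eq (fun i => (I i).X m)))
    refine isZero_sigma _ (fun i => ?_)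
    refine IsZero.of_iso ?_ (i1.app _).symm
    obtain ⟨q, rfl⟩ : ∃ k, q = k + 1 := ⟨q - 1, by omega⟩
    haveI := hinj i m
    exact Functor.isZero_rightDerived_obj_injective_succ G q _
  -- `Hom(P₀, -)` commutes with coproducts
  haveI : PreservesColimitsOfShape (Discrete ι) G := by
    haveI := hExt 0
    exact preservesColimitsOfShape_of_natIso
      ((Groth.Agent.Lib.Helper23ExtRDNat.rightDerivedCoyonedaIso P₀ 0).symm ≪≫
        G.rightDerivedZeroIsoSelf)
  let eP := (DerivedCategory.singleFunctorIsoCompQ A 0).app P₀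
  obtain ⟨ψ, hψ⟩ := exists_Q_map_eq_of_acyclic P₀ (∐ I) a hS (eP.inv ≫ φ ≫ E)
  obtain ⟨s, hs⟩ := exists_kill_of_hom_single P₀ I ψ
  refine ⟨s, ?_⟩
  rw [← cancel_mono E, zero_comp, Category.assoc, hkill, ← cancel_epi eP.inv, comp_zero]
  have h4 : eP.inv ≫ φ ≫ E ≫ Q.map (kill I s) = Q.map (ψ ≫ kill I s) := by
    rw [Functor.map_comp, hψ]
    simp only [Category.assoc]
  rw [h4, hs, Functor.map_zero]

end Main

section Bijective

variable {D : Type u} [Category.{v} D] [Preadditive D]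

open Classical in
lemma homSumToHomCoprod_comp_π' (K : D) {ι : Type v} (X : ι → D) [HasCoproduct X]
    (x : DirectSum ι (fun i => K ⟶ X i)) (j : ι) :
    CohDer.homSumToHomCoprod K X x ≫ Sigma.π X j = x j := by
  induction x using DirectSum.induction_on with
  | zero => simp
  | of i f =>
    rw [Groth.Agent.Lib.Helper1.NatCompact.homSumToHomCoprod_of', Category.assoc]
    by_cases h : i = j
    · subst h
      rw [Sigma.ι_π_eq_id, Category.comp_id, DirectSum.of_eq_same]
    · rw [Sigma.ι_π_of_ne X h, comp_zero, DirectSum.of_eq_of_ne _ _ _ (Ne.symm h)]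
  | add x y hx hy =>
    rw [map_add, Preadditive.add_comp, hx, hy]
    rfl

open Classical in
/-- the canonical map `⊕ Hom(K, X i) → Hom(K, ∐ X)` is bijective as soon as every map to the
coproduct is killed by some `kill X s`. -/
theorem bijective_homSumToHomCoprod_of_kill (K : D) {ι : Type v} (X : ι → D) [HasCoproduct X]
    (h : ∀ φ : K ⟶ ∐ X, ∃ s : Finset ι, φ ≫ kill X s = 0) :
    Function.Bijective (CohDer.homSumToHomCoprod K X) := by
  constructor
  · rw [injective_iff_map_eq_zero]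
    intro x hx
    refine DFinsupp.ext (fun j => ?_)
    rw [← homSumToHomCoprod_comp_π' K X x j, hx, zero_comp]
    rfl
  · intro φ
    obtain ⟨s, hs⟩ := h φ
    refine ⟨∑ k ∈ s, DirectSum.of (fun i => K ⟶ X i) k (φ ≫ Sigma.π X k), ?_⟩
    rw [map_sum]
    simp_rw [Groth.Agent.Lib.Helper1.NatCompact.homSumToHomCoprod_of']
    exact (eq_sum_of_comp_kill_eq_zero X φ s hs).symm

end Bijective

section Final

variable {A : Type u} [Category.{v} A] [Abelian A] [IsGrothendieckAbelian.{v} A]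
  [HasDerivedCategory.{v} A] [HasExt.{v} A] (P₀ : A) {ι : Type v}

/-- if all the `Ext^q(P₀, -)` commute with coproducts indexed by `ι`, then `Hom(P₀[0], -)` commutes
with the coproduct of every uniformly bounded below family indexed by `ι`. -/
theorem bijective_homSumToHomCoprod_of_isGE
    (hExt : ∀ q : ℕ, PreservesColimitsOfShape (Discrete ι) ((Abelian.extFunctor.{v} q).obj (op P₀)))
    (M : ι → DerivedCategory A) [HasCoproduct M] (a : ℤ) (hM : ∀ i, (M i).IsGE a) :
    Function.Bijective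
      (CohDer.homSumToHomCoprod ((DerivedCategory.singleFunctor A 0).obj P₀) M) :=
  bijective_homSumToHomCoprod_of_kill _ M (fun φ => exists_kill_of_isGE P₀ hExt M a hM φ)

end Final

end Groth.Agent.Lib.T2H1.HomCoprod
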