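import Mathlib
import Groth.Agent.Lib.T2H1HomCoprod
import Groth.Agent.Lib.T2H8BrutalTrunc
import Groth.Agent.S6593

/-!
# Compactness of `P₀[0]` in `D(A)` for `P₀` of finite `Ext`-dimension (helper1)

* `hom_single_single_eq_zero`: `Hom(P₀[0], Z[n]) = 0` if `Ext^n(P₀, Z) = 0`.
* `exists_factor_sigmaGE`: morphisms of complexes from `P₀[0]` factor through the brutal
  truncations `σ_{≥ m}`, `m ≤ 0`.
* `hom_single_eq_zero_of_isLE`: if `Ext^{d+1}(P₀, -) = 0`, then `Hom(P₀[0], N) = 0` for every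
  (possibly unbounded) `N ∈ D^{≤ -d-1}`.
* `exists_kill_of_extDim`, `isCompactObject_single_of_extDim`: if moreover the `Ext^q(P₀, -)` commute
  with coproducts, `P₀[0]` is a compact object of `D(A)`.
-/

set_option autoImplicit false
universe w w' v u
open CategoryTheory CategoryTheory.Limits CategoryTheory.Pretriangulated Opposite

namespace Groth.Agent.Lib.T2H1.HomCoprodCompact

open Groth.Agent.Lib.Helper1.Compact Groth.Agent.Lib.T2H8.BrutalTrunc DerivedCategory

section Vanishing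

variable {A : Type u} [Category.{v} A] [Abelian A] [HasDerivedCategory.{w} A] [HasExt.{w'} A]
  (P₀ : A)

/-- `Hom(P₀[0], Z[n]) = 0` if `Ext^n(P₀, Z) = 0`. -/
lemma hom_single_single_eq_zero (Z : A) (n : ℕ) (m : ℤ) (hnm : (n : ℤ) + m = 0)
    [Subsingleton (Abelian.Ext.{w'} P₀ Z n)]
    (η : (singleFunctor A 0).obj P₀ ⟶ (singleFunctor A m).obj Z) : η = 0 := by
  let e := ((singleFunctors A).shiftIso (n : ℤ) m 0 hnm).app Z
  haveI : Subsingleton (ShiftedHom ((singleFunctor A 0).obj P₀) ((singleFunctor A 0).obj Z)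
      (n : ℤ)) := (Abelian.Ext.homEquiv (X := P₀) (Y := Z) (n := n)).symm.subsingleton
  have h : η ≫ e.inv = 0 := Subsingleton.elim (α := ShiftedHom ((singleFunctor A 0).obj P₀)
    ((singleFunctor A 0).obj Z) (n : ℤ)) _ _
  rw [← cancel_mono e.inv, h, zero_comp]

omit [HasDerivedCategory.{w} A] [HasExt.{w'} A] in
lemma exists_factor_sigmaGE' (L : CochainComplex A ℤ) (m : ℤ) (hm : m ≤ 0)
    (g : (HomologicalComplex.single A (ComplexShape.up ℤ) 0).obj P₀ ⟶ L) :
    ∃ g' : (HomologicalComplex.single A (ComplexShape.up ℤ) 0).obj P₀ ⟶ sigmaGE L m,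
      g' ≫ sigmaGEι L m = g := by
  let g₀ : P₀ ⟶ L.X 0 := (HomologicalComplex.singleObjXSelf (ComplexShape.up ℤ) 0 P₀).inv ≫ g.f 0
  have hg₀ : ∀ k, g₀ ≫ L.d 0 k = 0 := by
    intro k
    change ((HomologicalComplex.singleObjXSelf (ComplexShape.up ℤ) 0 P₀).inv ≫ g.f 0) ≫ L.d 0 k = 0
    rw [Category.assoc, g.comm 0 k, HomologicalComplex.single_obj_d, zero_comp, comp_zero]
  let g' : (HomologicalComplex.single A (ComplexShape.up ℤ) 0).obj P₀ ⟶ sigmaGE L m :=
    HomologicalComplex.mkHomFromSingle (g₀ ≫ sπ L m 0) (fun k hk => by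
      change (g₀ ≫ sπ L m 0) ≫ sι L m 0 ≫ L.d 0 k ≫ sπ L m k = 0
      rw [Category.assoc, sπ_sι_assoc L m 0 hm, reassoc_of% (hg₀ k), zero_comp])
  refine ⟨g', ?_⟩
  apply HomologicalComplex.from_single_hom_ext
  rw [HomologicalComplex.comp_f, HomologicalComplex.mkHomFromSingle_f]
  change ((HomologicalComplex.singleObjXSelf (ComplexShape.up ℤ) 0 P₀).hom ≫
    ((HomologicalComplex.singleObjXSelf (ComplexShape.up ℤ) 0 P₀).inv ≫ g.f 0) ≫ sπ L m 0) ≫
      sι L m 0 = g.f 0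
  simp only [Category.assoc]
  rw [sπ_sι L m 0 hm, Category.comp_id, Iso.hom_inv_id_assoc]

omit [HasDerivedCategory.{w} A] [HasExt.{w'} A] in
/-- morphisms of complexes from `P₀[0]` factor through the brutal truncations `σ_{≥ m}`, `m ≤ 0`. -/
lemma exists_factor_sigmaGE (L : CochainComplex A ℤ) (m : ℤ) (hm : m ≤ 0)
    (g : (CochainComplex.singleFunctor A 0).obj P₀ ⟶ L) :
    ∃ g' : (CochainComplex.singleFunctor A 0).obj P₀ ⟶ sigmaGE L m, g' ≫ sigmaGEι L m = g :=
  exists_factor_sigmaGE' P₀ L m hm g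

omit [HasExt.{w'} A] in
lemma isGE_Q_sigmaGE (L : CochainComplex A ℤ) (m : ℤ) :
    ((Q : _ ⥤ DerivedCategory A).obj (sigmaGE L m)).IsGE m := by
  haveI : (sigmaGE L m).IsStrictlyGE m := by
    rw [CochainComplex.isStrictlyGE_iff]
    exact fun i hi => isZero_sigmaGE_X L m i hi
  infer_instance

omit [HasExt.{w'} A] in
lemma isLE_Q_sigmaGE (L : CochainComplex A ℤ) (m : ℤ)
    (hL : ((Q : _ ⥤ DerivedCategory A).obj L).IsLE m) :
    ((Q : _ ⥤ DerivedCategory A).obj (sigmaGE L m)).IsLE m := by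
  rw [isLE_Q_obj_iff] at hL ⊢
  rw [CochainComplex.isLE_iff] at hL ⊢
  intro i hi
  haveI := quasiIsoAt_sigmaGEι L m i hi
  exact (quasiIsoAt_iff_exactAt' (sigmaGEι L m) i (hL i hi)).1 inferInstance

/-- if `Ext^{d+1}(P₀, -) = 0`, there is no nonzero morphism from `P₀[0]` to an object of
`D^{≤ -d-1}`. -/
theorem hom_single_eq_zero_of_isLE (n : ℕ) (m : ℤ) (hnm : (n : ℤ) + m = 0)
    (hd : ∀ F : A, Subsingleton (Abelian.Ext.{w'} P₀ F n))
    (N : DerivedCategory A) (hN : N.IsLE m)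
    (ξ : (singleFunctor A 0).obj P₀ ⟶ N) : ξ = 0 := by
  have hm : m ≤ 0 := by omega
  let e : N ≅ Q.obj (Q.objPreimage N) := (Q.objObjPreimageIso N).symm
  let eP := (singleFunctorIsoCompQ A 0).app P₀
  obtain ⟨L', g, s, hs, hfac⟩ := left_fac (eP.inv ≫ ξ ≫ e.hom)
  haveI := hs
  have hL' : ((Q : _ ⥤ DerivedCategory A).obj L').IsLE m :=
    haveI : DerivedCategory.TStructure.t.IsLE N m := hN
    DerivedCategory.TStructure.t.isLE_of_iso (e ≪≫ asIso (Q.map s)) m
  obtain ⟨g', hg'⟩ := exists_factor_sigmaGE P₀ L' m hm g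
  haveI := isGE_Q_sigmaGE L' m
  haveI := isLE_Q_sigmaGE L' m hL'
  obtain ⟨Z, ⟨eZ⟩⟩ := exists_iso_singleFunctor_obj_of_isGE_of_isLE
    ((Q : _ ⥤ DerivedCategory A).obj (sigmaGE L' m)) m
  haveI := hd Z
  have h1 : eP.hom ≫ Q.map g' ≫ eZ.hom = 0 := hom_single_single_eq_zero P₀ Z n m hnm _
  have h2 : (Q : _ ⥤ DerivedCategory A).map g' = 0 := by
    rw [← cancel_mono eZ.hom, ← cancel_epi eP.hom, h1, zero_comp, comp_zero]
  have h3 : (Q : _ ⥤ DerivedCategory A).map g = 0 := by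
    rw [← hg', Functor.map_comp, h2, zero_comp]
  rw [h3, zero_comp] at hfac
  rw [← cancel_mono e.hom, ← cancel_epi eP.inv, hfac, zero_comp, comp_zero]

end Vanishing

section Main

variable {A : Type u} [Category.{v} A] [Abelian A] [IsGrothendieckAbelian.{v} A]
  [HasDerivedCategory.{w} A] [HasExt.{v} A] (P₀ : A) {ι : Type v}
  [HasCoproductsOfShape ι (DerivedCategory A)]

open DerivedCategory.TStructure in
/-- if the `Ext^q(P₀, -)` commute with coproducts indexed by `ι` and `Ext^n(P₀, -) = 0` for some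
`n`, every morphism in `D(A)` from `P₀[0]` to a coproduct indexed by `ι` is supported on finitely
many summands. -/
theorem exists_kill_of_extDim
    (hExt : ∀ q : ℕ, PreservesColimitsOfShape (Discrete ι) ((Abelian.extFunctor.{v} q).obj (op P₀)))
    (n : ℕ) (hd : ∀ F : A, Subsingleton (Abelian.Ext.{v} P₀ F n))
    (M : ι → DerivedCategory A)
    (φ : (DerivedCategory.singleFunctor A 0).obj P₀ ⟶ ∐ M) :
    ∃ s : Finset ι, φ ≫ kill M s = 0 := by
  classical
  let a : ℤ := 1 - (n : ℤ)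
  let T : ι → Triangle (DerivedCategory A) := fun i => (t.triangleLTGE a).obj (M i)
  have hT : ∀ i, T i ∈ distTriang _ := fun i => t.triangleLTGE_distinguished a (M i)
  have hle : ∀ i, (T i).obj₁.IsLE (a - 1) := fun i => t.isLE_truncLT_obj (M i) a (a - 1)
  let G : ι → DerivedCategory A := fun i => (t.truncGE a).obj (M i)
  let v : ∀ i, M i ⟶ G i := fun i => (t.truncGEπ a).app (M i)
  have hge : ∀ i, (G i).IsGE a := fun i => t.isGE_truncGE_obj (M i) a a
  let ST : Triangle (DerivedCategory A) := Triangle.mk (Limits.Sigma.map (fun j => (T j).mor₁))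
    (Limits.Sigma.map (fun j => (T j).mor₂))
    (Sigma.desc (fun j => (T j).mor₃ ≫
      (shiftFunctor (DerivedCategory A) (1 : ℤ)).map (Sigma.ι (fun j => (T j).obj₁) j)))
  have hST : ST ∈ distTriang _ := Groth.Agent.S6593.result T hT
  have hST₁ : ST.obj₁.IsLE (a - 1) := by
    change DerivedCategory.TStructure.t.IsLE (∐ fun i => (T i).obj₁) (a - 1)
    rw [DerivedCategory.TStructure.t.isLE_iff_orthogonal (a - 1) (a - 1 + 1) rfl]
    intro Y g hY
    refine Sigma.hom_ext _ _ (fun i => ?_)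
    haveI : DerivedCategory.TStructure.t.IsLE ((T i).obj₁) (a - 1) := hle i
    rw [comp_zero]
    exact DerivedCategory.TStructure.t.zero (Sigma.ι _ i ≫ g) (a - 1) (a - 1 + 1) (by lia)
  obtain ⟨s, hs⟩ := Groth.Agent.Lib.T2H1.HomCoprod.exists_kill_of_isGE P₀ hExt G a hge
    (φ ≫ Limits.Sigma.map v)
  refine ⟨s, ?_⟩
  have hnat : Limits.Sigma.map v ≫ kill G s = kill M s ≫ Limits.Sigma.map v := by
    refine Sigma.hom_ext _ _ (fun i => ?_)
    by_cases hi : i ∈ s
    · rw [Sigma.ι_map_assoc, ι_kill_of_mem G hi, comp_zero, ι_kill_of_mem_assoc M hi, zero_comp]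
    · rw [Sigma.ι_map_assoc, ι_kill_of_notMem G hi, ι_kill_of_notMem_assoc M hi, Sigma.ι_map]
  have h0 : (φ ≫ kill M s) ≫ ST.mor₂ = 0 := by
    change (φ ≫ kill M s) ≫ Limits.Sigma.map v = 0
    rw [Category.assoc, ← hnat, ← Category.assoc, hs]
  obtain ⟨ζ, hζ⟩ := Triangle.coyoneda_exact₂ ST hST (φ ≫ kill M s) h0
  have hζ0 : ζ = 0 :=
    Groth.Agent.Lib.T2H1.HomCoprodCompact.hom_single_eq_zero_of_isLE.{w, v} P₀ n (a - 1)
      (by simp [a]) hd ST.obj₁ hST₁ ζ
  exact hζ.trans (by rw [hζ0, zero_comp]; rfl)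

end Main

section Final

variable {A : Type u} [Category.{v} A] [Abelian A] [IsGrothendieckAbelian.{v} A]
  [HasDerivedCategory.{v} A] [HasExt.{v} A] (P₀ : A)
  [HasCoproducts.{v} (DerivedCategory A)]

/-- if the `Ext^q(P₀, -)` commute with coproducts and vanish for `q = n`, then `P₀[0]` is a compact
object of `D(A)`. -/
theorem isCompactObject_single_of_extDim
    (hExt : ∀ (q : ℕ) (ι : Type v),
      PreservesColimitsOfShape (Discrete ι) ((Abelian.extFunctor.{v} q).obj (op P₀)))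
    (n : ℕ) (hd : ∀ F : A, Subsingleton (Abelian.Ext.{v} P₀ F n)) :
    CohDer.IsCompactObject ((DerivedCategory.singleFunctor A 0).obj P₀) := by
  rw [isCompactObject_iff]
  intro ι M φ
  exact exists_kill_of_extDim P₀ (fun q => hExt q ι) n hd M φ

end Final

end Groth.Agent.Lib.T2H1.HomCoprodCompact
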