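import Mathlib
import Groth.Prelude.Def_PBC
import Groth.Agent.Lib.Helper3IndEt

set_option autoImplicit false

open CategoryTheory CategoryTheory.Limits TensorProduct

universe u

namespace Groth.Agent.Lib.T2H1.IndEtLiftA

open Groth.Agent.Lib.Helper3.IndEt

/-- The coequalizer of two maps between étale algebras is étale. -/
theorem etale_quotient_of_coeq {A E F : Type u} [CommRing A] [CommRing E] [CommRing F]
    [Algebra A E] [Algebra A F] [Algebra.Etale A E] [Algebra.Etale A F] (f g : E →ₐ[A] F)
    (K : Ideal F) (hK : K.FG)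
    (hfg : (Ideal.Quotient.mkₐ A K).comp f = (Ideal.Quotient.mkₐ A K).comp g)
    (hmin : ∀ (T : Type u) [CommRing T] [Algebra A T] (u : F →ₐ[A] T), u.comp f = u.comp g →
      ∀ x ∈ K, u x = 0) :
    Algebra.Etale A (F ⧸ K) := by
  haveI : Algebra.FinitePresentation A (F ⧸ K) := Algebra.FinitePresentation.quotient hK
  refine ⟨?_, inferInstance⟩
  rw [Algebra.FormallyEtale.iff_comp_bijective]
  intro T _ _ N hN
  constructor
  · intro u₁ u₂ h12
    have h1 : (Ideal.Quotient.mkₐ A N).comp (u₁.comp (Ideal.Quotient.mkₐ A K)) =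
        (Ideal.Quotient.mkₐ A N).comp (u₂.comp (Ideal.Quotient.mkₐ A K)) := by
      have := congrArg (fun w => w.comp (Ideal.Quotient.mkₐ A K)) h12
      exact this
    have h2 := Algebra.FormallyUnramified.comp_injective (R := A) (A := F) N hN h1
    apply Ideal.Quotient.algHom_ext
    exact h2
  · intro v
    obtain ⟨ũ, hũ⟩ := Algebra.FormallySmooth.comp_surjective A F N hN
      (v.comp (Ideal.Quotient.mkₐ A K))
    have h3 : ũ.comp f = ũ.comp g := by
      apply Algebra.FormallyUnramified.comp_injective (R := A) (A := E) N hN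
      show (Ideal.Quotient.mkₐ A N).comp (ũ.comp f) = (Ideal.Quotient.mkₐ A N).comp (ũ.comp g)
      rw [← AlgHom.comp_assoc, ← AlgHom.comp_assoc, hũ, AlgHom.comp_assoc, AlgHom.comp_assoc, hfg]
    have hker : ∀ x ∈ K, ũ x = 0 := hmin T ũ h3
    refine ⟨Ideal.Quotient.liftₐ K ũ hker, ?_⟩
    apply Ideal.Quotient.algHom_ext
    rw [← hũ]
    rfl

section filtered

variable {A B : Type u} [CommRing A] [CommRing B] [Algebra A B]

/-- The category of étale algebras with a map to `B` is always filtered. -/
theorem isFiltered_obj : IsFiltered (Obj A B) := by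
  haveI : Nonempty (Obj A B) := by
    obtain ⟨j, -, -⟩ := Obj.exists_obj A (Algebra.ofId A B)
    exact ⟨j⟩
  haveI : IsFilteredOrEmpty (Obj A B) := by
    refine ⟨fun j k => ?_, fun j k f g => ?_⟩
    · haveI := etale_tensor A j.E k.E
      obtain ⟨l, e, he⟩ := Obj.exists_obj A (E := j.E ⊗[A] k.E)
        (Algebra.TensorProduct.productMap j.φ k.φ)
      refine ⟨l, ⟨(e.symm : j.E ⊗[A] k.E →ₐ[A] l.E).comp Algebra.TensorProduct.includeLeft, ?_⟩,
        ⟨(e.symm : j.E ⊗[A] k.E →ₐ[A] l.E).comp Algebra.TensorProduct.includeRight, ?_⟩, trivial⟩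
      · rw [← he]
        ext x
        simp
      · rw [← he]
        ext x
        simp
    · classical
      let K : Ideal k.E := Ideal.span (Set.range fun i : Fin j.n =>
        f.1 (Ideal.Quotient.mk j.I (MvPolynomial.X i)) -
          g.1 (Ideal.Quotient.mk j.I (MvPolynomial.X i)))
      have hK : K.FG := Submodule.fg_span (Set.finite_range _)
      have hker : ∀ x ∈ K, k.φ x = 0 := by
        intro x hx
        have hle : K ≤ RingHom.ker k.φ.toRingHom := by
          rw [Ideal.span_le]
          rintro _ ⟨i, rfl⟩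
          show k.φ _ = 0
          rw [map_sub, sub_eq_zero]
          have h1 := congr($(f.2) (Ideal.Quotient.mk j.I (MvPolynomial.X i)))
          have h2 := congr($(g.2) (Ideal.Quotient.mk j.I (MvPolynomial.X i)))
          rw [AlgHom.comp_apply] at h1 h2
          rw [h1, h2]
        exact hle hx
      have hfg : (Ideal.Quotient.mkₐ A K).comp f.1 = (Ideal.Quotient.mkₐ A K).comp g.1 := by
        apply Ideal.Quotient.algHom_ext
        apply MvPolynomial.algHom_ext
        intro i
        show Ideal.Quotient.mk K (f.1 (Ideal.Quotient.mk j.I (MvPolynomial.X i))) =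
          Ideal.Quotient.mk K (g.1 (Ideal.Quotient.mk j.I (MvPolynomial.X i)))
        rw [Ideal.Quotient.eq]
        exact Ideal.subset_span ⟨i, rfl⟩
      haveI : Algebra.Etale A (k.E ⧸ K) := by
        refine etale_quotient_of_coeq f.1 g.1 K hK hfg ?_
        intro T _ _ u hu x hx
        have hle : K ≤ RingHom.ker u.toRingHom := by
          rw [Ideal.span_le]
          rintro _ ⟨i, rfl⟩
          show u _ = 0
          rw [map_sub, sub_eq_zero]
          exact congr($hu (Ideal.Quotient.mk j.I (MvPolynomial.X i)))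
        exact hle hx
      let ψ : (k.E ⧸ K) →ₐ[A] B := Ideal.Quotient.liftₐ K k.φ hker
      obtain ⟨l, e, he⟩ := Obj.exists_obj A (E := k.E ⧸ K) ψ
      let h : k ⟶ l := ⟨(e.symm : (k.E ⧸ K) →ₐ[A] l.E).comp (Ideal.Quotient.mkₐ A K), by
        rw [← he]
        apply AlgHom.ext
        intro x
        show ψ (e (e.symm (Ideal.Quotient.mk K x))) = k.φ x
        rw [e.apply_symm_apply]
        rfl⟩
      refine ⟨l, h, Subtype.ext ?_⟩
      rw [Obj.comp_val, Obj.comp_val]
      show ((e.symm : (k.E ⧸ K) →ₐ[A] l.E).comp (Ideal.Quotient.mkₐ A K)).comp f.1 =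
        ((e.symm : (k.E ⧸ K) →ₐ[A] l.E).comp (Ideal.Quotient.mkₐ A K)).comp g.1
      rw [AlgHom.comp_assoc, AlgHom.comp_assoc, hfg]
  exact {}

end filtered

end Groth.Agent.Lib.T2H1.IndEtLiftA
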