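import Mathlib
import Groth.Prelude.Def_PBC
import Groth.Agent.Lib.T2H1IndEtLiftA

set_option autoImplicit false

open CategoryTheory CategoryTheory.Limits TensorProduct

universe u

namespace Groth.Agent.Lib.T2H1.IndEtLiftB

open Groth.Agent.Lib.Helper3.IndEt Groth.Agent.Lib.T2H1.IndEtLiftA

variable (A B : Type u) [CommRing A] [CommRing B] [Algebra A B]

/-- The diagram of all étale `A`-algebras with a map to `B`. -/
noncomputable def F : Obj A B ⥤ CommRingCat.{u} where
  obj j := CommRingCat.of j.E
  map g := CommRingCat.ofHom g.1.toRingHom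
  map_id _ := rfl
  map_comp _ _ := rfl

/-- Its colimit. -/
noncomputable abbrev Cl : CommRingCat.{u} := colimit (F A B)

instance : IsFiltered (Obj A B) := isFiltered_obj

instance : PreservesColimit (F A B) (forget CommRingCat.{u}) :=
  (PreservesFilteredColimitsOfSize.preserves_filtered_colimits
    (F := forget CommRingCat.{u}) (Obj A B)).preservesColimit

/-- The canonical maps to the colimit. -/
noncomputable def ι (j : Obj A B) : j.E →+* Cl A B := (colimit.ι (F A B) j).hom

theorem ι_map {j k : Obj A B} (g : j ⟶ k) (x : j.E) : ι A B k (g.1 x) = ι A B j x := by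
  have h1 := colimit.w (F A B) g
  exact congr($(congrArg CommRingCat.Hom.hom h1) x)

theorem ι_exists_rep (x : Cl A B) : ∃ (j : Obj A B) (y : j.E), ι A B j y = x :=
  Concrete.colimit_exists_rep (F A B) x

theorem ι_eq_zero {j : Obj A B} (x : j.E) (hx : ι A B j x = 0) :
    ∃ (k : Obj A B) (g : j ⟶ k), g.1 x = 0 := by
  have hx' : ι A B j x = ι A B j 0 := by rw [hx, map_zero]
  obtain ⟨k, f, g, hfg⟩ := Concrete.colimit_exists_of_rep_eq (F A B) x 0 hx'
  refine ⟨k, f, ?_⟩
  have h0 : g.1 (0 : j.E) = 0 := map_zero _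
  exact hfg.trans h0

/-- A base object. -/
noncomputable def j₀ : Obj A B := (Obj.exists_obj A (Algebra.ofId A B)).choose

noncomputable instance instAlgCl : Algebra A (Cl A B) :=
  ((ι A B (j₀ A B)).comp (algebraMap A (j₀ A B).E)).toAlgebra

theorem ι_algebraMap (j : Obj A B) (a : A) :
    ι A B j (algebraMap A j.E a) = algebraMap A (Cl A B) a := by
  obtain ⟨l, f, g, -⟩ := IsFilteredOrEmpty.cocone_objs j (j₀ A B)
  show _ = ι A B (j₀ A B) (algebraMap A (j₀ A B).E a)
  rw [← ι_map A B f, ← ι_map A B g, f.1.commutes, g.1.commutes]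

/-- The canonical maps as algebra maps. -/
noncomputable def ιₐ (j : Obj A B) : j.E →ₐ[A] Cl A B :=
  { ι A B j with commutes' := ι_algebraMap A B j }

theorem ιₐ_apply (j : Obj A B) (x : j.E) : ιₐ A B j x = ι A B j x := rfl

/-- The colimit is ind-étale. -/
theorem isIndEtale_Cl : EtPBC.IsIndEtale A (Cl A B) := by
  refine isIndEtale_of_filtered (J := Obj A B) (fun j => j.E)
    (fun {j k} (g : j ⟶ k) => g.1) (fun _ => rfl)
    (fun _ _ => rfl) (fun j => ιₐ A B j) (fun {j k} (g : j ⟶ k) x => ι_map A B g x) ?_ ?_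
  · intro b
    obtain ⟨j, y, hy⟩ := ι_exists_rep A B b
    exact ⟨j, y, hy⟩
  · intro j x hx
    exact ι_eq_zero A B x hx

/-- The canonical map to `B`. -/
noncomputable def Ψ₀ : Cl A B ⟶ CommRingCat.of B :=
  colimit.desc (F A B)
    { pt := CommRingCat.of B
      ι :=
        { app := fun j => CommRingCat.ofHom j.φ.toRingHom
          naturality := fun j k g => by
            apply CommRingCat.hom_ext
            apply RingHom.ext
            intro x
            exact congr($(g.2) x) } }

theorem Ψ₀_ι (j : Obj A B) (x : j.E) : (Ψ₀ A B).hom (ι A B j x) = j.φ x := by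
  have h1 := colimit.ι_desc
    ({ pt := CommRingCat.of B
       ι :=
        { app := fun j => CommRingCat.ofHom j.φ.toRingHom
          naturality := fun j k g => by
            apply CommRingCat.hom_ext
            apply RingHom.ext
            intro x
            exact congr($(g.2) x) } } : Cocone (F A B)) j
  exact congr($(congrArg CommRingCat.Hom.hom h1) x)

/-- The canonical map to `B` as an algebra map. -/
noncomputable def Ψ : Cl A B →ₐ[A] B :=
  { (Ψ₀ A B).hom with
    commutes' := fun a => by
      show (Ψ₀ A B).hom (ι A B (j₀ A B) (algebraMap A (j₀ A B).E a)) = algebraMap A B a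
      rw [Ψ₀_ι, AlgHom.commutes] }

theorem Ψ_ι (j : Obj A B) (x : j.E) : Ψ A B (ι A B j x) = j.φ x := Ψ₀_ι A B j x

/-- Membership in `I C` is witnessed at a finite stage. -/
theorem ι_mem_map (I : Ideal A) {j : Obj A B} (x : j.E) (hx : x ∈ I.map (algebraMap A j.E)) :
    ι A B j x ∈ I.map (algebraMap A (Cl A B)) := by
  have h1 : (I.map (algebraMap A j.E)).map (ι A B j) = I.map (algebraMap A (Cl A B)) := by
    rw [Ideal.map_map]
    congr 1
    apply RingHom.ext
    intro a
    exact ι_algebraMap A B j a
  rw [← h1]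
  exact Ideal.mem_map_of_mem _ hx

end Groth.Agent.Lib.T2H1.IndEtLiftB
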