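import Mathlib

/-!
# T2H7: lifting étale algebras along a surjection

* `exists_etale_lift`: for `R → Rb` surjective and `Bb` étale over `Rb` there is an étale `R`-algebra `B` with a
  surjection `B → Bb` whose kernel is generated by the kernel of `R → Rb` (so `Bb = B ⊗_R Rb`).
* `exists_etale_pushout`: the same as a pushout square in `CommRingCat`.
* `exists_etale_isPullback`: an affine étale scheme over a closed subscheme of an affine scheme is the base change
  of an affine étale scheme over the ambient scheme.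
-/

set_option autoImplicit false
set_option linter.unusedSectionVars false
set_option linter.unusedVariables false
set_option linter.style.haveILetI false
universe u
open CategoryTheory AlgebraicGeometry

namespace Groth.Agent.Lib.T2H7.EtLift

theorem exists_etale_lift {R Rb Bb : Type u} [CommRing R] [CommRing Rb] [CommRing Bb]
    [Algebra R Rb] [Algebra Rb Bb] [Algebra R Bb] [IsScalarTower R Rb Bb]
    (hπ : Function.Surjective (algebraMap R Rb)) [Algebra.Etale Rb Bb] :
    ∃ (B : Type u) (_ : CommRing B) (_ : Algebra R B), Algebra.Etale R B ∧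
      ∃ ψ : B →ₐ[R] Bb, Function.Surjective ψ ∧
        RingHom.ker ψ.toRingHom ≤ (RingHom.ker (algebraMap R Rb)).map (algebraMap R B) := by
  classical
  obtain ⟨n, m, hm, hn, P, hP⟩ :=
    (Algebra.Etale.iff_isStandardSmoothOfRelativeDimension_zero.1
      (inferInstance : Algebra.Etale Rb Bb)).out
  have hsurj : Function.Surjective
      (MvPolynomial.map (algebraMap R Rb) : MvPolynomial n R → MvPolynomial n Rb) :=
    MvPolynomial.map_surjective _ hπ
  choose v hv using fun s : m => hsurj (P.relation s)
  let Q : Algebra.PreSubmersivePresentation R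
      (MvPolynomial n R ⧸ Ideal.span (Set.range v)) n m :=
    Algebra.PreSubmersivePresentation.naive P.map P.map_inj
  let L : Algebra.SubmersivePresentation (MvPolynomial n R ⧸ Ideal.span (Set.range v))
      (Localization.Away Q.jacobian) Unit Unit :=
    Algebra.SubmersivePresentation.localizationAway (Localization.Away Q.jacobian) Q.jacobian
  let SP : Algebra.SubmersivePresentation R (Localization.Away Q.jacobian)
      (Unit ⊕ n) (Unit ⊕ m) :=
    { toPreSubmersivePresentation := L.toPreSubmersivePresentation.comp Q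
      jacobian_isUnit := by
        rw [Algebra.PreSubmersivePresentation.comp_jacobian_eq_jacobian_smul_jacobian,
          Algebra.smul_def, IsUnit.mul_iff]
        exact ⟨IsLocalization.Away.algebraMap_isUnit _, L.jacobian_isUnit⟩ }
  have hdim : SP.dimension = 0 := by
    have h1 : SP.dimension = L.dimension + Q.dimension :=
      Algebra.PreSubmersivePresentation.dimension_comp_eq_dimension_add_dimension _ _
    have h2 : Q.dimension = P.dimension := rfl
    have h3 : L.dimension = 0 := by
      simp [Algebra.Presentation.dimension]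
    rw [h1, h2, h3, hP]
  have hEt : Algebra.Etale R (Localization.Away Q.jacobian) :=
    Algebra.Etale.iff_isStandardSmoothOfRelativeDimension_zero.2
      (SP.isStandardSmoothOfRelativeDimension hdim)
  -- the map to `Bb`
  let ψ₀ : MvPolynomial n R →ₐ[R] Bb := MvPolynomial.aeval P.val
  have hψ₀ : ∀ p : MvPolynomial n R,
      ψ₀ p = MvPolynomial.aeval (R := Rb) P.val (MvPolynomial.map (algebraMap R Rb) p) :=
    fun p => (MvPolynomial.aeval_map_algebraMap Rb P.val p).symm
  have h0 : ∀ s, ψ₀ (v s) = 0 := by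
    intro s
    rw [hψ₀, hv]
    exact P.aeval_val_relation s
  have hker0 : Ideal.span (Set.range v) ≤ RingHom.ker ψ₀.toRingHom := by
    rw [Ideal.span_le]
    rintro _ ⟨s, rfl⟩
    exact h0 s
  let ψ₁ : (MvPolynomial n R ⧸ Ideal.span (Set.range v)) →ₐ[R] Bb :=
    Ideal.Quotient.liftₐ (Ideal.span (Set.range v)) ψ₀ (fun a ha => hker0 ha)
  have hψ₁mk : ∀ p, ψ₁ (Ideal.Quotient.mk _ p) = ψ₀ p := fun p => rfl
  letI : Fintype m := Fintype.ofFinite m
  have hjac : ψ₁ Q.jacobian = P.jacobian := by
    have hQj : Q.jacobian = Ideal.Quotient.mk _ Q.jacobiMatrix.det :=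
      Q.jacobian_eq_jacobiMatrix_det
    have hPj : P.jacobian = MvPolynomial.aeval P.val P.jacobiMatrix.det := by
      rw [P.jacobian_eq_jacobiMatrix_det, Algebra.Generators.algebraMap_apply]
    rw [hQj, hPj, hψ₁mk, hψ₀, RingHom.map_det]
    congr 2
    refine Matrix.ext fun i j => ?_
    rw [RingHom.mapMatrix_apply, Matrix.map_apply,
      Algebra.PreSubmersivePresentation.jacobiMatrix_apply,
      Algebra.PreSubmersivePresentation.jacobiMatrix_apply]
    change MvPolynomial.map (algebraMap R Rb) (MvPolynomial.pderiv (P.map i) (v j)) = _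
    rw [← MvPolynomial.pderiv_map, hv]
  have hunit : ∀ y : Submonoid.powers Q.jacobian, IsUnit (ψ₁ y) := by
    rintro ⟨_, k, rfl⟩
    rw [map_pow, hjac]
    exact P.jacobian_isUnit.pow k
  let ψ : Localization.Away Q.jacobian →ₐ[R] Bb := IsLocalization.liftAlgHom hunit
  have hψ : ∀ b, ψ (algebraMap _ (Localization.Away Q.jacobian) b) = ψ₁ b := by
    intro b
    exact IsLocalization.lift_eq hunit b
  refine ⟨Localization.Away Q.jacobian, inferInstance, inferInstance, hEt, ψ, ?_, ?_⟩
  · intro y
    obtain ⟨q, rfl⟩ := P.algebraMap_surjective y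
    obtain ⟨p, rfl⟩ := hsurj q
    refine ⟨algebraMap (MvPolynomial n R ⧸ Ideal.span (Set.range v))
      (Localization.Away Q.jacobian) (Ideal.Quotient.mk (Ideal.span (Set.range v)) p), ?_⟩
    rw [hψ, hψ₁mk, hψ₀, Algebra.Generators.algebraMap_apply]
  · intro b hb
    obtain ⟨⟨b', ⟨_, k, rfl⟩⟩, hbb'⟩ := IsLocalization.surj (Submonoid.powers Q.jacobian) b
    simp only at hbb'
    obtain ⟨p, rfl⟩ := Ideal.Quotient.mk_surjective b'
    have h1 : ψ₀ p = 0 := by
      have h2 := congrArg ψ hbb'
      have hb0 : ψ b = 0 := hb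
      rw [map_mul, hb0, zero_mul, hψ, hψ₁mk] at h2
      exact h2.symm
    rw [hψ₀] at h1
    have h3 : MvPolynomial.map (algebraMap R Rb) p ∈ P.ker := by
      rw [Algebra.Generators.ker_eq_ker_aeval_val]
      exact h1
    rw [← P.span_range_relation_eq_ker, Ideal.mem_span_range_iff_exists_fun] at h3
    obtain ⟨c, hc⟩ := h3
    choose c' hc' using fun s => hsurj (c s)
    have h4 : p - ∑ s, c' s * v s ∈ RingHom.ker
        (MvPolynomial.map (algebraMap R Rb) : MvPolynomial n R →+* MvPolynomial n Rb) := by
      rw [RingHom.mem_ker, map_sub, map_sum, ← hc, sub_eq_zero]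
      refine Finset.sum_congr rfl fun s _ => ?_
      rw [map_mul, hc', hv]
    rw [MvPolynomial.ker_map] at h4
    have h5 : (Ideal.Quotient.mk (Ideal.span (Set.range v))) p ∈
        (RingHom.ker (algebraMap R Rb)).map
          (algebraMap R (MvPolynomial n R ⧸ Ideal.span (Set.range v))) := by
      have h6 : (Ideal.Quotient.mk (Ideal.span (Set.range v))) p =
          (Ideal.Quotient.mk (Ideal.span (Set.range v))) (p - ∑ s, c' s * v s) := by
        rw [map_sub, map_sum]
        have : ∑ s, (Ideal.Quotient.mk (Ideal.span (Set.range v))) (c' s * v s) = 0 := by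
          refine Finset.sum_eq_zero fun s _ => ?_
          rw [map_mul, Ideal.Quotient.eq_zero_iff_mem.2 (Ideal.subset_span (Set.mem_range_self s)), mul_zero]
        rw [this, sub_zero]
      rw [h6]
      have h7 : algebraMap R (MvPolynomial n R ⧸ Ideal.span (Set.range v)) =
          (Ideal.Quotient.mk (Ideal.span (Set.range v))).comp MvPolynomial.C := rfl
      rw [h7, ← Ideal.map_map]
      exact Ideal.mem_map_of_mem _ h4
    have h8 : algebraMap (MvPolynomial n R ⧸ Ideal.span (Set.range v))
        (Localization.Away Q.jacobian) (Ideal.Quotient.mk (Ideal.span (Set.range v)) p) ∈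
        (RingHom.ker (algebraMap R Rb)).map (algebraMap R (Localization.Away Q.jacobian)) := by
      rw [IsScalarTower.algebraMap_eq R (MvPolynomial n R ⧸ Ideal.span (Set.range v))
        (Localization.Away Q.jacobian), ← Ideal.map_map]
      exact Ideal.mem_map_of_mem _ h5
    rw [← hbb'] at h8
    have hu : IsUnit (algebraMap (MvPolynomial n R ⧸ Ideal.span (Set.range v))
        (Localization.Away Q.jacobian) (Q.jacobian ^ k)) :=
      IsLocalization.map_units _ (⟨Q.jacobian ^ k, k, rfl⟩ : Submonoid.powers Q.jacobian)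
    obtain ⟨w, hw⟩ := hu.exists_right_inv
    have h9 := Ideal.mul_mem_right w _ h8
    rwa [mul_assoc, hw, mul_one] at h9

open CategoryTheory.Limits in
/-- lifting an étale algebra along a surjection, as a pushout square of commutative rings -/
theorem exists_etale_pushout {R Rb Bb : CommRingCat.{u}} (π : R ⟶ Rb)
    (hπ : Function.Surjective π.hom) (gb : Rb ⟶ Bb) (hgb : gb.hom.Etale) :
    ∃ (B : CommRingCat.{u}) (g : R ⟶ B) (ψ : B ⟶ Bb), g.hom.Etale ∧ IsPushout π g gb ψ := by
  algebraize [π.hom, gb.hom, gb.hom.comp π.hom]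
  obtain ⟨B, hB1, hB2, hEt, ψ, hψs, hψk⟩ := exists_etale_lift (R := R) (Rb := Rb) (Bb := Bb) hπ
  have hw : π ≫ gb = CommRingCat.ofHom (algebraMap R B) ≫ CommRingCat.ofHom ψ.toRingHom := by
    ext r
    exact (ψ.commutes r).symm
  have hkerle : ∀ (T : CommRingCat.{u}) (a : Rb ⟶ T) (b : CommRingCat.of B ⟶ T),
      π ≫ a = CommRingCat.ofHom (algebraMap R B) ≫ b →
      RingHom.ker ψ.toRingHom ≤ RingHom.ker b.hom := by
    intro T a b hab
    refine hψk.trans ?_
    rw [Ideal.map_le_iff_le_comap]
    intro r hr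
    rw [Ideal.mem_comap, RingHom.mem_ker]
    have h1 : b.hom (algebraMap R B r) = a.hom (π.hom r) := by
      have := congrArg (fun k : R ⟶ T => k.hom r) hab
      exact this.symm
    rw [h1]
    have h2 : π.hom r = 0 := hr
    rw [h2, map_zero]
  refine ⟨CommRingCat.of B, CommRingCat.ofHom (algebraMap R B), CommRingCat.ofHom ψ.toRingHom,
    RingHom.etale_algebraMap.2 hEt, ⟨⟨hw⟩, ⟨PushoutCocone.IsColimit.mk _
      (fun s => CommRingCat.ofHom (RingHom.liftOfSurjective ψ.toRingHom hψs
        ⟨s.inr.hom, hkerle s.pt s.inl s.inr s.condition⟩)) ?_ ?_ ?_⟩⟩⟩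
  · intro s
    ext x
    obtain ⟨r, rfl⟩ := hπ x
    have h1 : gb.hom (π.hom r) = ψ.toRingHom (algebraMap R B r) := (ψ.commutes r).symm
    change (RingHom.liftOfSurjective ψ.toRingHom hψs
      ⟨s.inr.hom, hkerle s.pt s.inl s.inr s.condition⟩) (gb.hom (π.hom r)) = s.inl.hom (π.hom r)
    rw [h1, RingHom.liftOfRightInverse_comp_apply]
    have := congrArg (fun k : R ⟶ s.pt => k.hom r) s.condition
    exact this.symm
  · intro s
    ext b
    change (RingHom.liftOfSurjective ψ.toRingHom hψs
      ⟨s.inr.hom, hkerle s.pt s.inl s.inr s.condition⟩) (ψ.toRingHom b) = s.inr.hom b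
    rw [RingHom.liftOfRightInverse_comp_apply]
  · intro s m hm1 hm2
    ext y
    obtain ⟨b, rfl⟩ := hψs y
    change m.hom (ψ.toRingHom b) = (RingHom.liftOfSurjective ψ.toRingHom hψs
      ⟨s.inr.hom, hkerle s.pt s.inl s.inr s.condition⟩) (ψ.toRingHom b)
    rw [RingHom.liftOfRightInverse_comp_apply]
    have := congrArg (fun k : CommRingCat.of B ⟶ s.pt => k.hom b) hm2
    exact this

open CategoryTheory.Limits in
/-- lifting an affine étale scheme over a closed subscheme of an affine scheme to an affine étale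
scheme over the ambient scheme -/
theorem exists_etale_isPullback {V Z X : Scheme.{u}} [IsAffine X] (i : Z ⟶ X)
    [IsClosedImmersion i] (φ : V ⟶ Z) [Etale φ] [IsAffine V] :
    ∃ (U : Scheme.{u}) (_ : IsAffine U) (f : U ⟶ X) (_ : Etale f) (j : V ⟶ U),
      IsPullback j φ f i := by
  obtain ⟨hZ, hsurj⟩ := IsClosedImmersion.isAffine_surjective_of_isAffine i
  haveI := hZ
  have hgb : φ.appTop.hom.Etale := (HasRingHomProperty.iff_of_isAffine (P := @Etale)).1 ‹_›
  obtain ⟨B, g, ψ, hg, hpo⟩ := exists_etale_pushout i.appTop hsurj φ.appTop hgb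
  have hpb : IsPullback (Spec.map ψ) (Spec.map φ.appTop) (Spec.map g) (Spec.map i.appTop) :=
    (isPullback_SpecMap_of_isPushout _ _ _ _ hpo).flip
  haveI : Etale (Spec.map g) := (HasRingHomProperty.Spec_iff (P := @Etale)).2 hg
  refine ⟨Spec B, inferInstance, Spec.map g ≫ X.isoSpec.inv, inferInstance,
    V.isoSpec.hom ≫ Spec.map ψ, ?_⟩
  refine hpb.of_iso V.isoSpec.symm (Iso.refl _) Z.isoSpec.symm X.isoSpec.symm ?_ ?_ ?_ ?_
  · simp
  · simp only [Iso.symm_hom]
    exact Scheme.isoSpec_inv_naturality φ
  · simp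
  · simp only [Iso.symm_hom]
    exact Scheme.isoSpec_inv_naturality i

end Groth.Agent.Lib.T2H7.EtLift
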