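import Mathlib
import Groth.Prelude.Def_PBC
import Groth.Agent.Lib.T2H1IndEtLiftB
import Groth.Agent.Lib.Helper3IndEtField
import Groth.Agent.Lib.T2H7EtLift

set_option autoImplicit false

open CategoryTheory CategoryTheory.Limits TensorProduct

universe u

namespace Groth.Agent.Lib.T2H1.IndEtLiftC

open Groth.Agent.Lib.Helper3.IndEt Groth.Agent.Lib.T2H1.IndEtLiftA Groth.Agent.Lib.T2H1.IndEtLiftB

variable (A : Type u) [CommRing A] (I : Ideal A) (Cb : Type u) [CommRing Cb] [Algebra (A ⧸ I) Cb]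
  [Algebra A Cb] [IsScalarTower A (A ⧸ I) Cb]

/-- The canonical map from the colimit of étale lifts is surjective. -/
theorem Ψ_surjective (hF : Obj.Factor (A ⧸ I) Cb) : Function.Surjective (Ψ A Cb) := by
  intro x
  obtain ⟨Eb, _, _, _, gb, eb, rfl⟩ := exists_etale_of_factor hF x
  letI : Algebra A Eb := ((algebraMap (A ⧸ I) Eb).comp (algebraMap A (A ⧸ I))).toAlgebra
  haveI : IsScalarTower A (A ⧸ I) Eb := IsScalarTower.of_algebraMap_eq (fun _ => rfl)
  obtain ⟨E, _, _, hE, ψ, hψs, -⟩ := Groth.Agent.Lib.T2H7.EtLift.exists_etale_lift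
    (R := A) (Rb := A ⧸ I) (Bb := Eb) Ideal.Quotient.mk_surjective
  let φ : E →ₐ[A] Cb := (gb.restrictScalars A).comp ψ
  obtain ⟨j, e, he⟩ := Obj.exists_obj A φ
  obtain ⟨y, hy⟩ := hψs eb
  refine ⟨ι A Cb j (e.symm y), ?_⟩
  rw [Ψ_ι, ← he]
  show φ (e (e.symm y)) = gb eb
  rw [e.apply_symm_apply]
  show gb (ψ y) = gb eb
  rw [hy]

/-- The reduction of a stage. -/
noncomputable abbrev Qj (j : Obj A Cb) : Type u := j.E ⧸ I.map (algebraMap A j.E)

set_option maxHeartbeats 1600000 in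
/-- The kernel of the canonical map is `I C`. -/
theorem Ψ_ker (hF : Obj.Factor (A ⧸ I) Cb) (c : Cl A Cb) (hc : Ψ A Cb c = 0) :
    c ∈ I.map (algebraMap A (Cl A Cb)) := by
  obtain ⟨j, y, rfl⟩ := ι_exists_rep A Cb c
  rw [Ψ_ι] at hc
  -- the reduction of `j.E`
  haveI : Algebra.Etale (A ⧸ I) (Qj A I Cb j) :=
    Algebra.Etale.of_equiv (Algebra.TensorProduct.quotIdealMapEquivQuotTensor j.E I).symm
  have hkill : ∀ x ∈ I.map (algebraMap A j.E), j.φ x = 0 := by
    intro x hx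
    have hle : I.map (algebraMap A j.E) ≤ RingHom.ker j.φ.toRingHom := by
      rw [Ideal.map_le_iff_le_comap]
      intro a ha
      show j.φ (algebraMap A j.E a) = 0
      rw [j.φ.commutes, IsScalarTower.algebraMap_apply A (A ⧸ I) Cb,
        Ideal.Quotient.algebraMap_eq, Ideal.Quotient.eq_zero_iff_mem.mpr ha, map_zero]
    exact hle hx
  let φb₀ : Qj A I Cb j →ₐ[A] Cb := Ideal.Quotient.liftₐ _ j.φ hkill
  let φb : Qj A I Cb j →ₐ[A ⧸ I] Cb := AlgHom.extendScalarsOfSurjective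
    (Ideal.Quotient.mk_surjective (I := I)) φb₀
  have hφb : ∀ x : j.E, φb (Ideal.Quotient.mk _ x) = j.φ x := fun x => rfl
  let yb : Qj A I Cb j := Ideal.Quotient.mk _ y
  obtain ⟨k, ek, hek⟩ := Obj.exists_obj (A ⧸ I) (E := Qj A I Cb j) φb
  have hkφ : ∀ x : Qj A I Cb j, k.φ (ek.symm x) = φb x := by
    intro x
    rw [← hek]
    show φb (ek (ek.symm x)) = φb x
    rw [ek.apply_symm_apply]
  have hkerK : ∀ x ∈ Ideal.span {ek.symm yb}, k.φ x = 0 := by
    intro x hx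
    obtain ⟨z, rfl⟩ := Ideal.mem_span_singleton'.mp hx
    rw [map_mul, hkφ, hφb, hc, mul_zero]
  obtain ⟨l', h', hh'⟩ := Obj.exists_hom_of_span hF k _ ⟨{ek.symm yb}, by simp⟩ hkerK
  let ρ : Qj A I Cb j →ₐ[A ⧸ I] l'.E := h'.1.comp (ek.symm : Qj A I Cb j →ₐ[A ⧸ I] k.E)
  have hρy : ρ yb = 0 := hh' _ (Ideal.subset_span rfl)
  have hgρ : ∀ x : Qj A I Cb j, l'.φ (ρ x) = φb x := by
    intro x
    have h1 := congr($(h'.2) (ek.symm x))
    rw [AlgHom.comp_apply] at h1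
    exact h1.trans (hkφ x)
  letI : Algebra (Qj A I Cb j) l'.E := ρ.toRingHom.toAlgebra
  haveI : IsScalarTower (A ⧸ I) (Qj A I Cb j) l'.E := ⟨fun r q e => by
    show ρ (r • q) * e = r • (ρ q * e)
    rw [map_smul, smul_mul_assoc]⟩
  haveI : Algebra.Etale (Qj A I Cb j) l'.E := Algebra.Etale.of_restrictScalars (A ⧸ I) _ _
  letI : Algebra j.E l'.E := ((ρ : Qj A I Cb j →+* l'.E).comp
    (Ideal.Quotient.mk (I.map (algebraMap A j.E)))).toAlgebra
  haveI : IsScalarTower j.E (Qj A I Cb j) l'.E := ⟨fun r q e => by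
    show ρ (Ideal.Quotient.mk _ r * q) * e = ρ (Ideal.Quotient.mk _ r) * (ρ q * e)
    rw [map_mul, mul_assoc]⟩
  obtain ⟨E', _, _, hE', ψ, hψs, hψk⟩ := Groth.Agent.Lib.T2H7.EtLift.exists_etale_lift
    (R := j.E) (Rb := Qj A I Cb j) (Bb := l'.E) Ideal.Quotient.mk_surjective
  letI : Algebra A E' := ((algebraMap j.E E').comp (algebraMap A j.E)).toAlgebra
  haveI : IsScalarTower A j.E E' := ⟨fun a x e => by
    rw [Algebra.smul_def (a • x) e, Algebra.smul_def x e, Algebra.smul_def a x, map_mul,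
      mul_assoc]
    rfl⟩
  haveI : Algebra.Etale A E' := Algebra.Etale.comp A j.E E'
  -- the map to `Cb`
  let φ'₀ : E' →+* Cb := (l'.φ : l'.E →+* Cb).comp (ψ : E' →+* l'.E)
  have hφ'alg : ∀ x : j.E, φ'₀ (algebraMap j.E E' x) = j.φ x := by
    intro x
    show l'.φ (ψ (algebraMap j.E E' x)) = j.φ x
    rw [ψ.commutes]
    show l'.φ (ρ (Ideal.Quotient.mk _ x)) = j.φ x
    rw [hgρ, hφb]
  let φ' : E' →ₐ[A] Cb :=
    { φ'₀ with
      commutes' := fun a => by
        show φ'₀ (algebraMap j.E E' (algebraMap A j.E a)) = algebraMap A Cb a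
        rw [hφ'alg, j.φ.commutes] }
  obtain ⟨l, e, he⟩ := Obj.exists_obj A φ'
  let h : j ⟶ l := ⟨(e.symm : E' →ₐ[A] l.E).comp (IsScalarTower.toAlgHom A j.E E'), by
    rw [← he]
    apply AlgHom.ext
    intro x
    show φ' (e (e.symm (algebraMap j.E E' x))) = j.φ x
    rw [e.apply_symm_apply]
    exact hφ'alg x⟩
  rw [← ι_map A Cb h y]
  apply ι_mem_map
  -- `algebraMap y` lies in `I E'`
  have hy1 : ψ (algebraMap j.E E' y) = 0 := by
    rw [ψ.commutes]
    exact hρy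
  have hy2 : algebraMap j.E E' y ∈
      (RingHom.ker (algebraMap j.E (Qj A I Cb j))).map (algebraMap j.E E') := hψk hy1
  have hker : RingHom.ker (algebraMap j.E (Qj A I Cb j)) = I.map (algebraMap A j.E) := Ideal.mk_ker
  rw [hker, Ideal.map_map] at hy2
  have hy3 : (e.symm : E' →+* l.E) (algebraMap j.E E' y) ∈
      (I.map ((algebraMap j.E E').comp (algebraMap A j.E))).map (e.symm : E' →+* l.E) :=
    Ideal.mem_map_of_mem _ hy2
  rw [Ideal.map_map] at hy3
  have hcomp : ((e.symm : E' →+* l.E).comp ((algebraMap j.E E').comp (algebraMap A j.E))) =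
      algebraMap A l.E := by
    apply RingHom.ext
    intro a
    exact e.symm.commutes a
  rw [hcomp] at hy3
  exact hy3

end Groth.Agent.Lib.T2H1.IndEtLiftC

namespace Groth.Agent.Lib.T2H1.IndEtLiftC

open Groth.Agent.Lib.Helper3.IndEt Groth.Agent.Lib.T2H1.IndEtLiftA Groth.Agent.Lib.T2H1.IndEtLiftB

/-- Ind-étale algebras lift along quotients. -/
theorem main (A : Type u) [CommRing A] (I : Ideal A) (Cb : Type u) [CommRing Cb]
    [Algebra (A ⧸ I) Cb] (h : EtPBC.IsIndEtale (A ⧸ I) Cb) :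
    ∃ (C : Type u) (_ : CommRing C) (_ : Algebra A C),
      EtPBC.IsIndEtale A C ∧ Nonempty ((C ⧸ I.map (algebraMap A C)) ≃ₐ[A ⧸ I] Cb) := by
  letI : Algebra A Cb := ((algebraMap (A ⧸ I) Cb).comp (algebraMap A (A ⧸ I))).toAlgebra
  haveI : IsScalarTower A (A ⧸ I) Cb := IsScalarTower.of_algebraMap_eq (fun _ => rfl)
  have hF := factor_of_isIndEtale h
  refine ⟨Cl A Cb, inferInstance, inferInstance, isIndEtale_Cl A Cb, ?_⟩
  have hsurj := Ψ_surjective A I Cb hF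
  have hker : RingHom.ker (Ψ A Cb).toRingHom = I.map (algebraMap A (Cl A Cb)) := by
    apply le_antisymm
    · intro c hc
      exact Ψ_ker A I Cb hF c hc
    · rw [Ideal.map_le_iff_le_comap]
      intro a ha
      show Ψ A Cb (algebraMap A (Cl A Cb) a) = 0
      rw [AlgHom.commutes, IsScalarTower.algebraMap_apply A (A ⧸ I) Cb,
        Ideal.Quotient.algebraMap_eq, Ideal.Quotient.eq_zero_iff_mem.mpr ha, map_zero]
  let e1 : (Cl A Cb ⧸ RingHom.ker (Ψ A Cb).toRingHom) ≃ₐ[A] Cb :=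
    Ideal.quotientKerAlgEquivOfSurjective hsurj
  let e2 : (Cl A Cb ⧸ I.map (algebraMap A (Cl A Cb))) ≃ₐ[A]
      (Cl A Cb ⧸ RingHom.ker (Ψ A Cb).toRingHom) := Ideal.quotientEquivAlgOfEq A hker.symm
  exact ⟨AlgEquiv.extendScalarsOfSurjective (Ideal.Quotient.mk_surjective (I := I))
    (e2.trans e1)⟩

end Groth.Agent.Lib.T2H1.IndEtLiftC
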