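import Mathlib
import Groth.Prelude.Def_PBC
import Groth.Agent.Lib.Helper3IndEt
import Groth.Agent.Lib.Helper10Pi0

set_option autoImplicit false
universe u
open CategoryTheory CategoryTheory.Limits TensorProduct

namespace Groth.Agent.Lib.T2H1.IndZar

open Groth.Agent.Lib.Helper3.IndEt

/-- Constructing `IsIndZariski` from elementary filtered data. -/
theorem isIndZariski_of_filtered {A B : Type u} [CommRing A] [CommRing B] [Algebra A B]
    {J : Type u} [SmallCategory J] [IsFiltered J]
    (R : J → Type u) [∀ j, CommRing (R j)] [∀ j, Algebra A (R j)]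
    [∀ j, Algebra.IsLocalIso A (R j)]
    (t : ∀ {j k : J}, (j ⟶ k) → (R j →ₐ[A] R k))
    (t_id : ∀ j, t (𝟙 j) = AlgHom.id A (R j))
    (t_comp : ∀ {j k l : J} (f : j ⟶ k) (g : k ⟶ l), t (f ≫ g) = (t g).comp (t f))
    (ι : ∀ j, R j →ₐ[A] B)
    (compat : ∀ {j k : J} (g : j ⟶ k) (x : R j), ι k (t g x) = ι j x)
    (surj : ∀ b : B, ∃ j x, ι j x = b)
    (inj : ∀ j (x : R j), ι j x = 0 → ∃ k, ∃ g : j ⟶ k, t g x = 0) :
    EtPBC.IsIndZariski A B := by
  letI instR : ∀ j, Algebra (CommRingCat.of A) (R j) := fun j => inferInstanceAs (Algebra A (R j))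
  letI instB : Algebra (CommRingCat.of A) B := inferInstanceAs (Algebra A B)
  let D : J ⥤ Under (CommRingCat.of A) :=
    { obj := fun j => CommRingCat.mkUnder (CommRingCat.of A) (R j)
      map := fun {j k} g => AlgHom.toUnder (R := CommRingCat.of A) (t g)
      map_id := fun j => by
        rw [t_id]
        rfl
      map_comp := fun {j k l} f g => by
        rw [t_comp]
        rfl }
  let c : Cocone D :=
    { pt := CommRingCat.mkUnder (CommRingCat.of A) B
      ι :=
        { app := fun j => AlgHom.toUnder (R := CommRingCat.of A) (ι j)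
          naturality := fun j k g => by
            apply CommRingCat.mkUnder_ext
            intro x
            exact compat g x } }
  obtain ⟨hc⟩ := nonempty_isColimit_under D c
    (fun x => by
      obtain ⟨j, y, hy⟩ := surj x
      exact ⟨j, y, hy⟩)
    (fun j y hy => by
      obtain ⟨k, g, hg⟩ := inj j y hy
      exact ⟨k, g, hg⟩)
  refine ⟨J, inferInstance, inferInstance, D, c, hc, fun j => ?_, ⟨Iso.refl _⟩⟩
  show @Algebra.IsLocalIso A (R j) _ _ (RingHom.toAlgebra (algebraMap A (R j)))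
  convert (inferInstance : Algebra.IsLocalIso A (R j))
  exact Algebra.algebra_ext _ _ (fun r => rfl)

/-- The quotient by an idempotent is a local isomorphism. -/
theorem isLocalIso_quotient_idem {A : Type u} [CommRing A] (e : A) (he : IsIdempotentElem e) :
    Algebra.IsLocalIso A (A ⧸ Ideal.span {e}) := by
  haveI : IsLocalization.Away (1 - e) (A ⧸ Ideal.span {e}) := by
    apply IsLocalization.away_of_isIdempotentElem he.one_sub
    · rw [sub_sub_cancel]
      exact Ideal.mk_ker
    · exact Ideal.Quotient.mk_surjective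
  haveI : Algebra.IsStandardOpenImmersion A (A ⧸ Ideal.span {e}) := ⟨1 - e, inferInstance⟩
  infer_instance

/-- Closed subsets of `π₀` of a quasi-compact spectral-like space are cut out by clopens. -/
theorem exists_isClopen_of_closed_pi0 {X : Type u} [TopologicalSpace X] [CompactSpace X]
    [PrespectralSpace X] [QuasiSeparatedSpace X]
    (T : Set (ConnectedComponents X)) (hT : IsClosed T) (x : X)
    (hx : (ConnectedComponents.mk x : ConnectedComponents X) ∉ T) :
    ∃ U : Set X, IsClopen U ∧ ConnectedComponents.mk ⁻¹' T ⊆ U ∧ x ∉ U := by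
  haveI := Groth.Agent.Lib.Helper10.Pi0.t2Space_connectedComponents (X := X)
  obtain ⟨V, hV, hxV, hVT⟩ := compact_exists_isClopen_in_isOpen hT.isOpen_compl
    (show (ConnectedComponents.mk x : ConnectedComponents X) ∈ Tᶜ from hx)
  refine ⟨ConnectedComponents.mk ⁻¹' Vᶜ, hV.compl.preimage ConnectedComponents.continuous_coe,
    ?_, ?_⟩
  · intro y hy hyV
    exact hVT hyV hy
  · intro h
    exact h hxV

section quotient

variable {A : Type u} [CommRing A]

/-- idempotents vanishing on `Z` -/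
def idemSet (Z : Set (PrimeSpectrum A)) : Set A :=
  {e | IsIdempotentElem e ∧ Z ⊆ PrimeSpectrum.zeroLocus {e}}

theorem zero_mem_idemSet (Z : Set (PrimeSpectrum A)) : (0 : A) ∈ idemSet Z :=
  ⟨IsIdempotentElem.zero, fun x _ => by simp⟩

theorem sup_mem_idemSet {Z : Set (PrimeSpectrum A)} {e e' : A} (he : e ∈ idemSet Z)
    (he' : e' ∈ idemSet Z) : e + e' - e * e' ∈ idemSet Z := by
  refine ⟨?_, fun x hx => ?_⟩
  · have h1 := he.1.eq
    have h2 := he'.1.eq
    show (e + e' - e * e') * (e + e' - e * e') = e + e' - e * e'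
    linear_combination (1 - 2 * e' + e' * e') * h1 + (1 - 2 * e + e) * h2
  · have h1 : e ∈ x.asIdeal := by simpa using he.2 hx
    have h2 : e' ∈ x.asIdeal := by simpa using he'.2 hx
    simp only [PrimeSpectrum.mem_zeroLocus, Set.singleton_subset_iff, SetLike.mem_coe]
    exact x.asIdeal.sub_mem (x.asIdeal.add_mem h1 h2) (x.asIdeal.mul_mem_right _ h1)

theorem span_le_sup_left {e e' : A} (he : IsIdempotentElem e) :
    Ideal.span {e} ≤ Ideal.span {e + e' - e * e'} := by
  rw [Ideal.span_singleton_le_iff_mem, Ideal.mem_span_singleton']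
  refine ⟨e, ?_⟩
  have h1 := he.eq
  linear_combination (1 - e') * h1

theorem span_le_sup_right {e e' : A} (he' : IsIdempotentElem e') :
    Ideal.span {e'} ≤ Ideal.span {e + e' - e * e'} := by
  rw [Ideal.span_singleton_le_iff_mem, Ideal.mem_span_singleton']
  refine ⟨e', ?_⟩
  have h1 := he'.eq
  linear_combination (1 - e) * h1

theorem exists_mem_span_singleton {Z : Set (PrimeSpectrum A)} {a : A}
    (ha : a ∈ Ideal.span (idemSet Z)) : ∃ k ∈ idemSet Z, a ∈ Ideal.span {k} := by
  induction ha using Submodule.span_induction with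
  | mem x hx => exact ⟨x, hx, Ideal.mem_span_singleton_self x⟩
  | zero => exact ⟨0, zero_mem_idemSet Z, Ideal.zero_mem _⟩
  | add x y _ _ hx hy =>
    obtain ⟨k₁, hk₁, h1⟩ := hx
    obtain ⟨k₂, hk₂, h2⟩ := hy
    exact ⟨_, sup_mem_idemSet hk₁ hk₂,
      Ideal.add_mem _ (span_le_sup_left hk₁.1 h1) (span_le_sup_right hk₂.1 h2)⟩
  | smul r x _ hx =>
    obtain ⟨k, hk, h1⟩ := hx
    exact ⟨k, hk, Ideal.mul_mem_left _ r h1⟩

theorem zeroLocus_idemSet (Z : Set (PrimeSpectrum A))
    (hZ : ∀ x ∉ Z, ∃ U, IsClopen U ∧ Z ⊆ U ∧ x ∉ U) :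
    PrimeSpectrum.zeroLocus (idemSet Z) = Z := by
  ext x
  constructor
  · intro hx
    by_contra hxZ
    obtain ⟨U, hU, hZU, hxU⟩ := hZ x hxZ
    obtain ⟨e, he, rfl⟩ := PrimeSpectrum.isClopen_iff_zeroLocus.mp hU
    have : e ∈ idemSet Z := ⟨he, hZU⟩
    apply hxU
    simp only [PrimeSpectrum.mem_zeroLocus, Set.singleton_subset_iff, SetLike.mem_coe]
    exact hx this
  · intro hx e he
    have := he.2 hx
    simpa using this

/-- The preorder on idempotents vanishing on `Z` by inclusion of principal ideals. -/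
@[reducible] def idemPreorder (Z : Set (PrimeSpectrum A)) : Preorder ↥(idemSet Z) :=
  Preorder.lift (fun e => Ideal.span {(e : A)})

set_option maxHeartbeats 800000 in
theorem isIndZariski_quotient_idemSet (Z : Set (PrimeSpectrum A)) :
    EtPBC.IsIndZariski A (A ⧸ Ideal.span (idemSet Z)) := by
  letI : Preorder ↥(idemSet Z) := idemPreorder Z
  haveI : Nonempty ↥(idemSet Z) := ⟨⟨0, zero_mem_idemSet Z⟩⟩
  haveI : IsDirected ↥(idemSet Z) (· ≤ ·) :=
    ⟨fun e e' => ⟨⟨_, sup_mem_idemSet e.2 e'.2⟩, span_le_sup_left e.2.1, span_le_sup_right e'.2.1⟩⟩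
  haveI : ∀ j : ↥(idemSet Z), Algebra.IsLocalIso A (A ⧸ Ideal.span {(j : A)}) :=
    fun j => isLocalIso_quotient_idem _ j.2.1
  have hle : ∀ j : ↥(idemSet Z), Ideal.span {(j : A)} ≤ Ideal.span (idemSet Z) :=
    fun j => Ideal.span_mono (Set.singleton_subset_iff.mpr j.2)
  refine isIndZariski_of_filtered (J := ↥(idemSet Z)) (fun j => A ⧸ Ideal.span {(j : A)})
    (fun {j k} g => Ideal.Quotient.factorₐ A (leOfHom g))
    ?_ ?_ (fun j => Ideal.Quotient.factorₐ A (hle j)) ?_ ?_ ?_
  · intro j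
    apply Ideal.Quotient.algHom_ext
    ext x
  · intro j k l f g
    apply Ideal.Quotient.algHom_ext
    ext x
  · intro j k g x
    obtain ⟨a, rfl⟩ := Ideal.Quotient.mk_surjective x
    rfl
  · intro b
    obtain ⟨a, rfl⟩ := Ideal.Quotient.mk_surjective b
    exact ⟨⟨0, zero_mem_idemSet Z⟩, Ideal.Quotient.mk _ a, rfl⟩
  · intro j x hx
    obtain ⟨a, rfl⟩ := Ideal.Quotient.mk_surjective x
    have ha : a ∈ Ideal.span (idemSet Z) := by
      rw [← Ideal.Quotient.eq_zero_iff_mem]
      exact hx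
    obtain ⟨k, hk, hak⟩ := exists_mem_span_singleton ha
    refine ⟨⟨_, sup_mem_idemSet j.2 hk⟩, homOfLE (span_le_sup_left j.2.1), ?_⟩
    show Ideal.Quotient.mk _ a = 0
    rw [Ideal.Quotient.eq_zero_iff_mem]
    exact span_le_sup_right hk.1 hak

end quotient

end Groth.Agent.Lib.T2H1.IndZar
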