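import Mathlib
import Groth.Prelude.Def_PBC
import Groth.Agent.Lib.T2H1IndZarCrit

set_option autoImplicit false
universe u

open CategoryTheory CategoryTheory.Limits TensorProduct

namespace Groth.Agent.Lib.T2H1.IndZarBC

open Groth.Agent.Lib.T2H1.IndZarCrit

/-- Ind-Zariski maps are stable under base change. -/
theorem isIndZariski_baseChange (A B A' : Type u) [CommRing A] [CommRing B] [CommRing A']
    [Algebra A B] [Algebra A A'] (h : EtPBC.IsIndZariski A B) :
    EtPBC.IsIndZariski A' (A' ⊗[A] B) := by
  obtain ⟨J, _, _, D, c, hc, hD, ⟨e⟩⟩ := h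
  letI : Algebra (CommRingCat.of A) (CommRingCat.of A') := inferInstanceAs (Algebra A A')
  let F : Under (CommRingCat.of A) ⥤ Under (CommRingCat.of A') :=
    CommRingCat.tensorProd (CommRingCat.of A) (CommRingCat.of A')
  haveI : PreservesColimitsOfSize.{u, u} F :=
    preservesColimits_of_natIso (CommRingCat.tensorProdIsoPushout _ _).symm
  refine ⟨J, inferInstance, inferInstance, D ⋙ F, F.mapCocone c, isColimitOfPreserves F hc, ?_,
    ⟨F.mapIso e ≪≫ ?_⟩⟩
  · intro j
    letI := (D.obj j).hom.hom.toAlgebra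
    have := hD j
    show @Algebra.IsLocalIso A' (A' ⊗[A] (D.obj j).right) _ _
      (RingHom.toAlgebra (algebraMap A' (A' ⊗[A] (D.obj j).right)))
    convert (inferInstance : Algebra.IsLocalIso A' (A' ⊗[A] (D.obj j).right))
    exact Algebra.algebra_ext _ _ (fun r => rfl)
  · let X : Under (CommRingCat.of A) := Under.mk (CommRingCat.ofHom (algebraMap A B))
    let inst0 : Algebra A B := inferInstance
    let instX : Algebra A B := CommRingCat.instAlgebraCarrierRight X
    let e' : @AlgEquiv A B B _ _ _ instX inst0 :=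
      @AlgEquiv.ofRingEquiv A B B _ _ _ instX inst0 (RingEquiv.refl B) (fun a => rfl)
    refine AlgEquiv.toUnder (R := CommRingCat.of A') ?_
    exact @Algebra.TensorProduct.congr A A' A' B A' B _ _ _ _ _ _ _ _ instX _ _ _ _ _ inst0
      (AlgEquiv.refl (R := A') (A₁ := A')) e'

/-- Ind-Zariski maps are stable under passing to quotients. -/
theorem isIndZariski_quotient (A B : Type u) [CommRing A] [CommRing B] [Algebra A B]
    (I : Ideal A) (h : EtPBC.IsIndZariski A B) :
    EtPBC.IsIndZariski (A ⧸ I) (B ⧸ I.map (algebraMap A B)) :=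
  isIndZariski_of_algEquiv (isIndZariski_baseChange A B (A ⧸ I) h)
    (Algebra.TensorProduct.quotIdealMapEquivQuotTensor B I).symm

end Groth.Agent.Lib.T2H1.IndZarBC
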