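import Mathlib
import Groth.Prelude.Def_PBC
import Groth.Agent.Lib.T2H1IndZarCrit

set_option autoImplicit false
universe u

open TensorProduct

namespace Groth.Agent.Lib.T2H1.IndZarComp

open Groth.Agent.Lib.T2H1.IndZar Groth.Agent.Lib.T2H1.IndZarCrit

section LC

variable (T : Type u) [TopologicalSpace T] [CompactSpace T]
variable (A : Type u) [CommRing A]

/-- Pullback of functions on a finite quotient to locally constant functions. -/
def pullLC {F : Type u} (φ : T → F) (hφ : IsLocallyConstant φ) :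
    (F → A) →ₐ[A] LocallyConstant T A where
  toFun h := ⟨h ∘ φ, hφ.comp h⟩
  map_one' := rfl
  map_mul' _ _ := rfl
  map_zero' := rfl
  map_add' _ _ := rfl
  commutes' _ := rfl

theorem pullLC_apply {F : Type u} (φ : T → F) (hφ : IsLocallyConstant φ) (h : F → A) (t : T) :
    pullLC T A φ hφ h t = h (φ t) := rfl

/-- `LocallyConstant T A` is ind-Zariski over `A` (in the factorization form). -/
theorem factor_locallyConstant : ObjZ.Factor A (LocallyConstant T A) := by
  intro P _ _ _ ψ
  obtain ⟨n, π, hπ, -⟩ := Algebra.FinitePresentation.out (R := A) (A := P)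
  let φ₀ : T → (Fin n → A) := fun t k => ψ (π (MvPolynomial.X k)) t
  have hφ₀ : IsLocallyConstant φ₀ := by
    rw [IsLocallyConstant.iff_exists_open]
    intro t
    refine ⟨⋂ k : Fin n, {s | ψ (π (MvPolynomial.X k)) s = ψ (π (MvPolynomial.X k)) t}, ?_, ?_, ?_⟩
    · exact isOpen_iInter_of_finite fun k =>
        ((ψ (π (MvPolynomial.X k))).isLocallyConstant.isClopen_fiber _).isOpen
    · exact Set.mem_iInter.mpr fun k => rfl
    · intro s hs
      funext k
      exact Set.mem_iInter.mp hs k
  let F : Type u := Set.range φ₀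
  haveI : Finite F := hφ₀.range_finite.to_subtype
  let φ : T → F := fun t => ⟨φ₀ t, Set.mem_range_self t⟩
  have hφ : IsLocallyConstant φ := by
    rw [IsLocallyConstant.iff_exists_open]
    intro t
    obtain ⟨U, hU, htU, hconst⟩ := (IsLocallyConstant.iff_exists_open _).mp hφ₀ t
    exact ⟨U, hU, htU, fun s hs => Subtype.ext (hconst s hs)⟩
  have key : ∀ (s t : T), φ₀ s = φ₀ t → ∀ p : P, ψ p s = ψ p t := by
    intro s t hst p
    have h1 : ((LocallyConstant.evalₐ A s : LocallyConstant T A →ₐ[A] A).comp ψ).comp π =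
        ((LocallyConstant.evalₐ A t : LocallyConstant T A →ₐ[A] A).comp ψ).comp π := by
      apply MvPolynomial.algHom_ext
      intro k
      exact congrFun hst k
    obtain ⟨q, rfl⟩ := hπ p
    exact congr($h1 q)
  choose tt htt using fun y : F => y.2
  let u : P →ₐ[A] (F → A) := Pi.algHom A (fun _ : F => A)
    (fun y => (LocallyConstant.evalₐ A (tt y) : LocallyConstant T A →ₐ[A] A).comp ψ)
  refine ⟨F → A, inferInstance, inferInstance, Algebra.IsLocalIso.pi_of_finite A (fun _ : F => A),
    u, pullLC T A φ hφ, ?_⟩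
  apply AlgHom.ext
  intro p
  ext t
  show ψ p (tt (φ t)) = ψ p t
  exact key _ _ (htt (φ t)) p

end LC

section quot

variable {A B : Type u} [CommRing A] [CommRing B] [Algebra A B]

theorem exists_common_idem (Z : Set (PrimeSpectrum B)) {ι : Type*} (s : Finset ι) (a : ι → B)
    (h : ∀ i ∈ s, a i ∈ Ideal.span (idemSet Z)) :
    ∃ e ∈ idemSet Z, ∀ i ∈ s, a i ∈ Ideal.span {e} := by
  classical
  induction s using Finset.induction_on with
  | empty => exact ⟨0, zero_mem_idemSet Z, by simp⟩
  | insert j s _ ih =>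
    obtain ⟨e₁, he₁, h1⟩ := ih (fun i hi => h i (Finset.mem_insert_of_mem hi))
    obtain ⟨e₂, he₂, h2⟩ := exists_mem_span_singleton (h j (Finset.mem_insert_self j s))
    refine ⟨e₁ + e₂ - e₁ * e₂, sup_mem_idemSet he₁ he₂, ?_⟩
    intro i hi
    rcases Finset.mem_insert.mp hi with rfl | hi
    · exact span_le_sup_right he₂.1 h2
    · exact span_le_sup_left he₁.1 (h1 i hi)

set_option maxHeartbeats 1000000 in
/-- Quotients by ideals generated by idempotents preserve the factorization property. -/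
theorem factor_quotient_idemSet (H : ObjZ.Factor A B) (Z : Set (PrimeSpectrum B)) :
    ObjZ.Factor A (B ⧸ Ideal.span (idemSet Z)) := by
  classical
  intro P _ _ _ ψ
  obtain ⟨n, π, hπ, s, hs⟩ := Algebra.FinitePresentation.out (R := A) (A := P)
  choose b hb using fun k : Fin n =>
    Ideal.Quotient.mk_surjective (I := Ideal.span (idemSet Z)) (ψ (π (MvPolynomial.X k)))
  have hcomp : (Ideal.Quotient.mkₐ A (Ideal.span (idemSet Z))).comp (MvPolynomial.aeval b) =
      ψ.comp π := by
    apply MvPolynomial.algHom_ext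
    intro k
    simp only [AlgHom.comp_apply, MvPolynomial.aeval_X, Ideal.Quotient.mkₐ_eq_mk]
    exact hb k
  have hrel : ∀ f ∈ s, MvPolynomial.aeval b f ∈ Ideal.span (idemSet Z) := by
    intro f hf
    have h1 : π f = 0 := by
      have : f ∈ RingHom.ker π.toRingHom := by rw [← hs]; exact Ideal.subset_span hf
      exact this
    have := congr($hcomp f)
    rw [AlgHom.comp_apply, AlgHom.comp_apply, h1, map_zero] at this
    exact Ideal.Quotient.eq_zero_iff_mem.mp this
  obtain ⟨e, he, hrel'⟩ := exists_common_idem Z s (fun f => MvPolynomial.aeval b f) hrel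
  -- the auxiliary finitely presented algebra
  let Zv : MvPolynomial (Option (Fin n)) A := MvPolynomial.X none
  let ren : MvPolynomial (Fin n) A →ₐ[A] MvPolynomial (Option (Fin n)) A :=
    MvPolynomial.rename some
  let rels : Finset (MvPolynomial (Option (Fin n)) A) :=
    insert (Zv * Zv - Zv) (s.image (fun f => (1 - Zv) * ren f))
  let J : Ideal (MvPolynomial (Option (Fin n)) A) := Ideal.span (rels : Set _)
  haveI : Algebra.FinitePresentation A (MvPolynomial (Option (Fin n)) A ⧸ J) :=
    Algebra.FinitePresentation.quotient ⟨rels, rfl⟩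
  let β : MvPolynomial (Option (Fin n)) A →ₐ[A] B := MvPolynomial.aeval (fun o => o.elim e b)
  have hβZ : β Zv = e := by simp [β, Zv]
  have hβren : ∀ q, β (ren q) = MvPolynomial.aeval b q := by
    intro q
    have : β.comp ren = MvPolynomial.aeval b := by
      apply MvPolynomial.algHom_ext
      intro k
      simp [β, ren]
    exact congr($this q)
  have hJker : J ≤ RingHom.ker β.toRingHom := by
    rw [Ideal.span_le]
    intro x hx
    rw [Finset.coe_insert, Set.mem_insert_iff] at hx
    rcases hx with rfl | hx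
    · show β (Zv * Zv - Zv) = 0
      rw [map_sub, map_mul, hβZ, he.1.eq, sub_self]
    · rw [Finset.coe_image] at hx
      obtain ⟨f, hf, rfl⟩ := hx
      show β ((1 - Zv) * ren f) = 0
      rw [map_mul, map_sub, map_one, hβZ, hβren]
      obtain ⟨c, hc⟩ := Ideal.mem_span_singleton'.mp (hrel' f hf)
      rw [← hc]
      have := he.1.eq
      linear_combination (-c) * this
  have hβJ : ∀ x ∈ J, β x = 0 := fun x hx => hJker hx
  let ψ' : (MvPolynomial (Option (Fin n)) A ⧸ J) →ₐ[A] B := Ideal.Quotient.liftₐ J β hβJ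
  obtain ⟨E, _, _, _, f', g', hfg⟩ := H _ ψ'
  have hg'f' : ∀ x, g' (f' (Ideal.Quotient.mk J x)) = β x := by
    intro x
    have := congr($hfg (Ideal.Quotient.mk J x))
    rw [AlgHom.comp_apply] at this
    rw [this]
    rfl
  let ε : E := f' (Ideal.Quotient.mk J Zv)
  have hε : IsIdempotentElem ε := by
    show ε * ε = ε
    have h1 : Ideal.Quotient.mk J (Zv * Zv - Zv) = 0 :=
      Ideal.Quotient.eq_zero_iff_mem.mpr (Ideal.subset_span (Finset.mem_insert_self _ _))
    rw [map_sub, map_mul, sub_eq_zero] at h1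
    show f' _ * f' _ = f' _
    rw [← map_mul, h1]
  have hgε : g' ε = e := by rw [hg'f', hβZ]
  haveI : Algebra.IsLocalIso E (E ⧸ Ideal.span {ε}) := isLocalIso_quotient_idem ε hε
  haveI : Algebra.IsLocalIso A (E ⧸ Ideal.span {ε}) :=
    Algebra.IsLocalIso.trans A E (E ⧸ Ideal.span {ε})
  let u₀ : MvPolynomial (Fin n) A →ₐ[A] (E ⧸ Ideal.span {ε}) :=
    (Ideal.Quotient.mkₐ A (Ideal.span {ε})).comp (f'.comp ((Ideal.Quotient.mkₐ A J).comp ren))
  have hu₀ : ∀ a ∈ RingHom.ker π, u₀ a = 0 := by
    have hle : RingHom.ker π.toRingHom ≤ RingHom.ker u₀.toRingHom := by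
      rw [← hs, Ideal.span_le]
      intro f hf
      show Ideal.Quotient.mk (Ideal.span {ε}) (f' (Ideal.Quotient.mk J (ren f))) = 0
      rw [Ideal.Quotient.eq_zero_iff_mem, Ideal.mem_span_singleton']
      refine ⟨f' (Ideal.Quotient.mk J (ren f)), ?_⟩
      have h1 : Ideal.Quotient.mk J ((1 - Zv) * ren f) = 0 :=
        Ideal.Quotient.eq_zero_iff_mem.mpr (Ideal.subset_span
          (Finset.mem_insert_of_mem (Finset.mem_image_of_mem _ hf)))
      rw [map_mul, map_sub, map_one, sub_mul, one_mul, sub_eq_zero] at h1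
      show f' (Ideal.Quotient.mk J (ren f)) * f' (Ideal.Quotient.mk J Zv) = _
      rw [← map_mul, mul_comm, ← h1]
    exact fun a ha => hle ha
  let eP := Ideal.quotientKerAlgEquivOfSurjective hπ
  let u : P →ₐ[A] (E ⧸ Ideal.span {ε}) :=
    (Ideal.Quotient.liftₐ (RingHom.ker π) u₀ hu₀).comp (eP.symm : P →ₐ[A] _)
  have hv : ∀ x ∈ Ideal.span {ε},
      ((Ideal.Quotient.mkₐ A (Ideal.span (idemSet Z))).comp g') x = 0 := by
    intro x hx
    obtain ⟨c, rfl⟩ := Ideal.mem_span_singleton'.mp hx
    show Ideal.Quotient.mk _ (g' (c * ε)) = 0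
    rw [map_mul, hgε, Ideal.Quotient.eq_zero_iff_mem]
    exact Ideal.mul_mem_left _ _ (Ideal.subset_span he)
  let v : (E ⧸ Ideal.span {ε}) →ₐ[A] (B ⧸ Ideal.span (idemSet Z)) :=
    Ideal.Quotient.liftₐ (Ideal.span {ε}) ((Ideal.Quotient.mkₐ A _).comp g') hv
  refine ⟨E ⧸ Ideal.span {ε}, inferInstance, inferInstance, inferInstance, u, v, ?_⟩
  apply AlgHom.ext
  intro p
  obtain ⟨q, rfl⟩ := hπ p
  have h1 : (eP.symm : P →ₐ[A] _) (π q) = Ideal.Quotient.mk (RingHom.ker π) q := by
    apply eP.injective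
    show eP (eP.symm (π q)) = eP (Ideal.Quotient.mk _ q)
    rw [eP.apply_symm_apply]
    rfl
  show v (Ideal.Quotient.liftₐ (RingHom.ker π) u₀ hu₀ ((eP.symm : P →ₐ[A] _) (π q))) = ψ (π q)
  rw [h1]
  show Ideal.Quotient.mk _ (g' (f' (Ideal.Quotient.mk J (ren q)))) = ψ (π q)
  rw [hg'f', hβren]
  exact congr($hcomp q)

end quot

end Groth.Agent.Lib.T2H1.IndZarComp
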