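import Mathlib
import Groth.Prelude.Def_PBC
import Groth.Agent.Lib.T2H1IndZarCrit

set_option autoImplicit false
universe u

namespace Groth.Agent.Lib.T2H1.IndZarIdent

open Groth.Agent.Lib.T2H1.IndZarCrit

theorem bijective_localRingHom_congr {R S : Type*} [CommRing R] [CommRing S]
    (I I' : Ideal R) [I.IsPrime] [I'.IsPrime] (J J' : Ideal S) [J.IsPrime] [J'.IsPrime]
    (f : R →+* S) (h : I = J.comap f) (h' : I' = J'.comap f) (hJ : J = J')
    (hb : Function.Bijective (Localization.localRingHom I J f h)) :
    Function.Bijective (Localization.localRingHom I' J' f h') := by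
  subst hJ
  obtain rfl : I = I' := h.trans h'.symm
  exact hb

/-- If `L` is simultaneously the localization of `E` at `𝔮` and of `A` at `p = 𝔮 ∩ A`, then
`A_p → E_𝔮` is bijective. -/
theorem bijective_localRingHom_of_common {A E L : Type*} [CommRing A] [CommRing E] [CommRing L]
    [Algebra A E] [Algebra E L] [Algebra A L] [IsScalarTower A E L] (𝔮 : Ideal E) [𝔮.IsPrime]
    (p : Ideal A) [p.IsPrime] (hp : p = 𝔮.comap (algebraMap A E)) [IsLocalization.AtPrime L 𝔮]
    [IsLocalization.AtPrime L p] :
    Function.Bijective (Localization.localRingHom p 𝔮 (algebraMap A E) hp) := by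
  let ψ : Localization.AtPrime 𝔮 ≃ₐ[E] L := IsLocalization.algEquiv 𝔮.primeCompl _ _
  let χ : Localization.AtPrime p ≃ₐ[A] L := IsLocalization.algEquiv p.primeCompl _ _
  have key : ((ψ : Localization.AtPrime 𝔮 ≃+* L) : Localization.AtPrime 𝔮 →+* L).comp
      (Localization.localRingHom p 𝔮 (algebraMap A E) hp) =
      ((χ : Localization.AtPrime p ≃+* L) : Localization.AtPrime p →+* L) := by
    apply IsLocalization.ringHom_ext p.primeCompl
    ext a
    simp only [RingHom.comp_apply, Localization.localRingHom_to_map, RingHom.coe_coe]
    show ψ (algebraMap E _ (algebraMap A E a)) = χ (algebraMap A _ a)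
    rw [ψ.commutes, χ.commutes, ← IsScalarTower.algebraMap_apply]
  have hb : Function.Bijective (ψ ∘ (Localization.localRingHom p 𝔮 (algebraMap A E) hp)) := by
    have : ⇑ψ ∘ ⇑(Localization.localRingHom p 𝔮 (algebraMap A E) hp) = ⇑χ := by
      funext x
      exact congr($key x)
    rw [this]
    exact χ.bijective
  exact (Function.Bijective.of_comp_iff' ψ.bijective _).mp hb

/-- A local isomorphism identifies local rings. -/
theorem bijective_localRingHom_of_isLocalIso (A E : Type u) [CommRing A] [CommRing E]
    [Algebra A E] [Algebra.IsLocalIso A E] (𝔮 : Ideal E) [h𝔮 : 𝔮.IsPrime] :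
    Function.Bijective
      (Localization.localRingHom (𝔮.comap (algebraMap A E)) 𝔮 (algebraMap A E) rfl) := by
  obtain ⟨g, hg, hstd⟩ := Algebra.IsLocalIso.exists_notMem_isStandardOpenImmersion (R := A) 𝔮
  obtain ⟨r, hr⟩ := hstd.exists_away
  have hdisj : Disjoint (Submonoid.powers g : Set E) (𝔮 : Set E) := by
    rw [Set.disjoint_left]
    rintro x ⟨n, rfl⟩ hx
    exact hg (h𝔮.mem_of_pow_mem n hx)
  haveI h𝔮' : (𝔮.map (algebraMap E (Localization.Away g))).IsPrime :=
    IsLocalization.isPrime_of_isPrime_disjoint (Submonoid.powers g) _ 𝔮 h𝔮 hdisj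
  have hcomap : (𝔮.map (algebraMap E (Localization.Away g))).comap
      (algebraMap E (Localization.Away g)) = 𝔮 :=
    IsLocalization.under_map_of_isPrime_disjoint (Submonoid.powers g) _ h𝔮 hdisj
  haveI h1 : IsLocalization.AtPrime
      (Localization.AtPrime (𝔮.map (algebraMap E (Localization.Away g))))
      ((𝔮.map (algebraMap E (Localization.Away g))).comap
        (algebraMap E (Localization.Away g))) :=
    IsLocalization.isLocalization_isLocalization_atPrime_isLocalization (Submonoid.powers g) _ _
  haveI h2 : IsLocalization.AtPrime
      (Localization.AtPrime (𝔮.map (algebraMap E (Localization.Away g))))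
      ((𝔮.map (algebraMap E (Localization.Away g))).comap
        (algebraMap A (Localization.Away g))) :=
    IsLocalization.isLocalization_isLocalization_atPrime_isLocalization (Submonoid.powers r) _ _
  have hp : (𝔮.map (algebraMap E (Localization.Away g))).comap
        (algebraMap A (Localization.Away g)) =
      ((𝔮.map (algebraMap E (Localization.Away g))).comap
        (algebraMap E (Localization.Away g))).comap (algebraMap A E) := by
    rw [Ideal.comap_comap, ← IsScalarTower.algebraMap_eq]
  have hb := bijective_localRingHom_of_common
    (L := Localization.AtPrime (𝔮.map (algebraMap E (Localization.Away g))))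
    ((𝔮.map (algebraMap E (Localization.Away g))).comap (algebraMap E (Localization.Away g)))
    ((𝔮.map (algebraMap E (Localization.Away g))).comap (algebraMap A (Localization.Away g))) hp
  exact bijective_localRingHom_congr _ _ _ _ _ _ rfl hcomap hb

section colim

variable {A B : Type u} [CommRing A] [CommRing B] [Algebra A B]

/-- Transport along an algebra map `v : E → B`: the local ring hom of `A → B` at `q` factors
through that of `A → E` at `q ∩ E`. -/
theorem localRingHom_factor {E : Type u} [CommRing E] [Algebra A E] (v : E →ₐ[A] B)
    (q : Ideal B) [q.IsPrime] (x : Localization.AtPrime (q.comap (algebraMap A B))) :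
    Localization.localRingHom (q.comap (algebraMap A B)) q (algebraMap A B) rfl x =
      Localization.localRingHom (q.comap v.toRingHom) q v.toRingHom rfl
        (Localization.localRingHom (q.comap (algebraMap A B)) (q.comap v.toRingHom)
          (algebraMap A E) (by
            rw [Ideal.comap_comap]
            congr 1
            ext a
            exact (v.commutes a).symm) x) := by
  obtain ⟨a, s, rfl⟩ := IsLocalization.exists_mk'_eq (q.comap (algebraMap A B)).primeCompl x
  rw [Localization.localRingHom_mk', Localization.localRingHom_mk', Localization.localRingHom_mk']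
  congr 1
  · exact (v.commutes a).symm
  · apply Subtype.ext
    exact (v.commutes s).symm

/-- An ind-Zariski map (in the factorization form) identifies local rings. -/
theorem identifies_of_factor (H : ObjZ.Factor A B) : EtPBC.IdentifiesLocalRings A B := by
  intro q
  constructor
  · rw [injective_iff_map_eq_zero]
    intro x hx
    obtain ⟨a, s, rfl⟩ :=
      IsLocalization.exists_mk'_eq (q.asIdeal.comap (algebraMap A B)).primeCompl x
    rw [Localization.localRingHom_mk', IsLocalization.mk'_eq_zero_iff] at hx
    obtain ⟨t, ht⟩ := hx
    -- the finitely presented algebra `A[T]/(T a)`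
    let rel : MvPolynomial (Fin 1) A := MvPolynomial.X 0 * MvPolynomial.C a
    haveI : Algebra.FinitePresentation A (MvPolynomial (Fin 1) A ⧸ Ideal.span {rel}) :=
      Algebra.FinitePresentation.quotient ⟨{rel}, by simp⟩
    let ψ : (MvPolynomial (Fin 1) A ⧸ Ideal.span {rel}) →ₐ[A] B :=
      Ideal.Quotient.liftₐ _ (MvPolynomial.aeval (fun _ => (t : B))) (by
        intro y hy
        obtain ⟨c, rfl⟩ := Ideal.mem_span_singleton'.mp hy
        rw [map_mul]
        have : MvPolynomial.aeval (fun _ : Fin 1 => (t : B)) rel = 0 := by
          simp only [rel, map_mul, MvPolynomial.aeval_X, MvPolynomial.aeval_C]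
          exact ht
        rw [this, mul_zero])
    obtain ⟨E, _, _, _, u, v, huv⟩ := H _ ψ
    let tE : E := u (Ideal.Quotient.mk _ (MvPolynomial.X 0))
    have htE : v tE = t := by
      have := congr($huv (Ideal.Quotient.mk _ (MvPolynomial.X 0)))
      rw [AlgHom.comp_apply] at this
      rw [this]
      show MvPolynomial.aeval (fun _ : Fin 1 => (t : B)) (MvPolynomial.X 0) = t
      rw [MvPolynomial.aeval_X]
    have hkill : tE * algebraMap A E a = 0 := by
      have h1 : Ideal.Quotient.mk (Ideal.span {rel}) rel = 0 :=
        Ideal.Quotient.eq_zero_iff_mem.mpr (Ideal.subset_span rfl)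
      have h2 := congr(u $h1)
      rw [map_zero] at h2
      rw [← h2]
      show _ = u (Ideal.Quotient.mk _ (MvPolynomial.X 0 * MvPolynomial.C a))
      rw [map_mul, map_mul]
      congr 1
      show algebraMap A E a = u (algebraMap A _ a)
      rw [u.commutes]
    have htE' : tE ∉ q.asIdeal.comap v.toRingHom := by
      intro h
      have : v tE ∈ q.asIdeal := h
      rw [htE] at this
      exact t.2 this
    have hfac := localRingHom_factor v q.asIdeal
      (IsLocalization.mk' _ a s)
    have hE := bijective_localRingHom_of_isLocalIso A E (q.asIdeal.comap v.toRingHom)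
    have hcomap : (q.asIdeal.comap v.toRingHom).comap (algebraMap A E) =
        q.asIdeal.comap (algebraMap A B) := by
      rw [Ideal.comap_comap]
      congr 1
      ext a
      exact v.commutes a
    have hE' : Function.Injective (Localization.localRingHom (q.asIdeal.comap (algebraMap A B))
        (q.asIdeal.comap v.toRingHom) (algebraMap A E) hcomap.symm) :=
      (bijective_localRingHom_congr _ _ _ _ _ rfl hcomap.symm rfl hE).1
    apply hE'
    rw [map_zero, Localization.localRingHom_mk', IsLocalization.mk'_eq_zero_iff]
    exact ⟨⟨tE, htE'⟩, hkill⟩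
  · intro y
    obtain ⟨b, t, rfl⟩ := IsLocalization.exists_mk'_eq q.asIdeal.primeCompl y
    let ψ : MvPolynomial (Fin 2) A →ₐ[A] B := MvPolynomial.aeval ![b, (t : B)]
    obtain ⟨E, _, _, _, u, v, huv⟩ := H _ ψ
    let bE : E := u (MvPolynomial.X 0)
    let tE : E := u (MvPolynomial.X 1)
    have hbE : v bE = b := by
      have := congr($huv (MvPolynomial.X 0))
      rw [AlgHom.comp_apply] at this
      rw [this]
      simp [ψ]
    have htE : v tE = t := by
      have := congr($huv (MvPolynomial.X 1))
      rw [AlgHom.comp_apply] at this
      rw [this]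
      simp [ψ]
    have htE' : tE ∈ (q.asIdeal.comap v.toRingHom).primeCompl := by
      intro h
      have : v tE ∈ q.asIdeal := h
      rw [htE] at this
      exact t.2 this
    have hE := bijective_localRingHom_of_isLocalIso A E (q.asIdeal.comap v.toRingHom)
    have hcomap : (q.asIdeal.comap v.toRingHom).comap (algebraMap A E) =
        q.asIdeal.comap (algebraMap A B) := by
      rw [Ideal.comap_comap]
      congr 1
      ext a
      exact v.commutes a
    have hE' : Function.Surjective (Localization.localRingHom (q.asIdeal.comap (algebraMap A B))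
        (q.asIdeal.comap v.toRingHom) (algebraMap A E) hcomap.symm) :=
      (bijective_localRingHom_congr _ _ _ _ _ rfl hcomap.symm rfl hE).2
    obtain ⟨x, hx⟩ := hE' (IsLocalization.mk' _ bE ⟨tE, htE'⟩)
    refine ⟨x, ?_⟩
    rw [localRingHom_factor v q.asIdeal x, hx, Localization.localRingHom_mk']
    congr 1
    apply Subtype.ext
    exact htE

/-- An ind-Zariski map identifies local rings. -/
theorem identifies_of_isIndZariski (h : EtPBC.IsIndZariski A B) :
    EtPBC.IdentifiesLocalRings A B :=
  identifies_of_factor (factor_of_isIndZariski h)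

end colim

end Groth.Agent.Lib.T2H1.IndZarIdent
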