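import Mathlib
import Groth.Prelude.Def_PBC
import Groth.Agent.Lib.Helper3IndEtFP
import Groth.Agent.Lib.T2H1IndZarCrit

set_option autoImplicit false
universe u
open TensorProduct

namespace Groth.Agent.Lib.T2H1.IndZarLocal

open Groth.Agent.Lib.Helper3.IndEt

variable {A B : Type u} [CommRing A] [CommRing B] [Algebra A B]

set_option maxHeartbeats 1000000 in
/-- Local factorization: near a prime `y` at which local rings are identified, a map from a
finitely presented algebra factors through a principal localization of `A`. -/
theorem exists_local_factor (y : Ideal B) [y.IsPrime]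
    (hφ : Function.Bijective
      (Localization.localRingHom (y.comap (algebraMap A B)) y (algebraMap A B) rfl))
    (P : Type u) [CommRing P] [Algebra A P] [Algebra.FinitePresentation A P] (ψ : P →ₐ[A] B) :
    ∃ (s : A) (b : B) (ψs : P →ₐ[A] Localization.Away s), b ∉ y ∧
      ∀ (C : Type u) [CommRing C] [Algebra B C] [Algebra A C] [IsScalarTower A B C],
        IsUnit (algebraMap B C b) → ∃ hs : IsUnit (algebraMap A C s),
          ∀ p : P, IsLocalization.Away.lift s hs (ψs p) = algebraMap B C (ψ p) := by
  classical
  set x := y.comap (algebraMap A B) with hx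
  set φ := Localization.localRingHom x y (algebraMap A B) rfl with hφdef
  let φe := RingEquiv.ofBijective φ hφ
  have hφA : ∀ a : A, φ (algebraMap A (Localization.AtPrime x) a) =
      algebraMap A (Localization.AtPrime y) a := by
    intro a
    rw [hφdef, Localization.localRingHom_to_map, ← IsScalarTower.algebraMap_apply]
  -- the inverse as an `A`-algebra map
  let φinv : Localization.AtPrime y →ₐ[A] Localization.AtPrime x :=
    { (φe.symm : Localization.AtPrime y →+* Localization.AtPrime x) with
      commutes' := fun a => by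
        show φe.symm (algebraMap A (Localization.AtPrime y) a) = _
        rw [← hφA a]
        exact φe.symm_apply_apply _ }
  let ψy : P →ₐ[A] Localization.AtPrime x :=
    (φinv.comp (IsScalarTower.toAlgHom A B (Localization.AtPrime y))).comp ψ
  obtain ⟨s, ψs, hs⟩ := exists_factor_localization (R := A) (C := A)
    (L := Localization.AtPrime x) x.primeCompl ψy
  -- the agreement in `B_y`
  have hagree : ∀ p : P, φ (awayTo (R := A) (L := Localization.AtPrime x) x.primeCompl s (ψs p)) =
      algebraMap B (Localization.AtPrime y) (ψ p) := by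
    intro p
    have h1 := congr($hs p)
    rw [AlgHom.comp_apply] at h1
    rw [h1]
    show φe (φe.symm (algebraMap B (Localization.AtPrime y) (ψ p))) = _
    exact φe.apply_symm_apply _
  -- generators
  obtain ⟨G, hG⟩ := (Algebra.FiniteType.of_finitePresentation (R := A) (A := P)).out
  -- for each generator, a witness
  have hwit : ∀ g : P, ∃ (n : ℕ) (a : A) (t : B), t ∉ y ∧
      ψs g * algebraMap A (Localization.Away (s : A)) (s : A) ^ n =
        algebraMap A (Localization.Away (s : A)) a ∧
      t * (ψ g * algebraMap A B (s : A) ^ n) = t * algebraMap A B a := by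
    intro g
    obtain ⟨n, a, hna⟩ := IsLocalization.Away.surj (s : A) (ψs g)
    have h2 := congrArg (fun z => φ (awayTo (R := A) (L := Localization.AtPrime x) x.primeCompl s z)) hna
    simp only [map_mul, map_pow, AlgHom.commutes, hagree, hφA] at h2
    rw [IsScalarTower.algebraMap_apply A B (Localization.AtPrime y),
      IsScalarTower.algebraMap_apply A B (Localization.AtPrime y), ← map_pow, ← map_mul,
      IsLocalization.eq_iff_exists y.primeCompl] at h2
    obtain ⟨t, ht⟩ := h2
    exact ⟨n, a, t, t.2, hna, ht⟩
  choose n a t ht hna heq using hwit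
  refine ⟨s, algebraMap A B (s : A) * ∏ g ∈ G, t g, ψs, ?_, ?_⟩
  · intro hmem
    rcases (inferInstance : y.IsPrime).mem_or_mem hmem with h | h
    · exact s.2 h
    · obtain ⟨g, -, hg⟩ := ((inferInstance : y.IsPrime).prod_mem_iff).mp h
      exact ht g hg
  · intro C _ _ _ _ hb
    rw [map_mul] at hb
    have hsB : IsUnit (algebraMap B C (algebraMap A B (s : A))) := isUnit_of_mul_isUnit_left hb
    have hs' : IsUnit (algebraMap A C (s : A)) := by
      rw [IsScalarTower.algebraMap_apply A B C]
      exact hsB
    have htu : ∀ g ∈ G, IsUnit (algebraMap B C (t g)) := by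
      intro g hg
      have h1 : IsUnit (algebraMap B C (∏ g ∈ G, t g)) := isUnit_of_mul_isUnit_right hb
      rw [map_prod] at h1
      exact (IsUnit.prod_iff.mp h1) g hg
    refine ⟨hs', ?_⟩
    -- two algebra maps agreeing on generators
    let α₁ : P →ₐ[A] C := (IsScalarTower.toAlgHom A B C).comp ψ
    let α₂ : P →ₐ[A] C :=
      { (IsLocalization.Away.lift (s : A) hs').comp ψs.toRingHom with
        commutes' := fun r => by
          show IsLocalization.Away.lift (s : A) hs' (ψs (algebraMap A P r)) = _
          rw [ψs.commutes, IsLocalization.Away.lift_eq] }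
    have hα : α₂ = α₁ := by
      apply AlgHom.ext_of_adjoin_eq_top hG
      intro g hg
      show IsLocalization.Away.lift (s : A) hs' (ψs g) = algebraMap B C (ψ g)
      have e1 := congrArg (IsLocalization.Away.lift (s : A) hs') (hna g)
      rw [map_mul, map_pow, IsLocalization.Away.lift_eq, IsLocalization.Away.lift_eq] at e1
      have e2 := congrArg (algebraMap B C) (heq g)
      rw [map_mul, map_mul, map_mul, map_pow] at e2
      have e3 := (htu g hg).mul_left_cancel e2
      rw [← IsScalarTower.algebraMap_apply A B C, ← IsScalarTower.algebraMap_apply A B C] at e3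
      have hu : IsUnit (algebraMap A C (s : A) ^ n g) := hs'.pow _
      exact hu.mul_right_cancel (e1.trans e3.symm)
    intro p
    exact congr($hα p)

/-- Every open cover has a finite refinement by pairwise disjoint clopens. -/
def HasClopenRefinements (X : Type u) [TopologicalSpace X] : Prop :=
  ∀ (ι : Type u) (U : ι → Set X), (∀ i, IsOpen (U i)) → (⋃ i, U i) = Set.univ →
    ∃ (n : ℕ) (V : Fin n → Set X), (∀ k, IsClopen (V k)) ∧
      Pairwise (fun k l => Disjoint (V k) (V l)) ∧ (⋃ k, V k) = Set.univ ∧ ∀ k, ∃ i, V k ⊆ U i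

open Groth.Agent.Lib.T2H1.IndZarCrit

set_option maxHeartbeats 1600000 in
/-- If `A → B` identifies local rings and `Spec B` has clopen refinements, then every map
from a finitely presented `A`-algebra to `B` factors through a local isomorphism. -/
theorem factor_of_identifies (h1 : EtPBC.IdentifiesLocalRings A B)
    (hcov : HasClopenRefinements (PrimeSpectrum B)) : ObjZ.Factor A B := by
  classical
  intro P _ _ _ ψ
  choose s b ψs hb hC using fun y : PrimeSpectrum B => exists_local_factor y.asIdeal (h1 y) P ψ
  obtain ⟨n, V, hVc, hVd, hVu, hVsub⟩ := hcov (PrimeSpectrum B)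
    (fun y => (PrimeSpectrum.basicOpen (b y) : Set (PrimeSpectrum B)))
    (fun y => (PrimeSpectrum.basicOpen (b y)).2)
    (Set.eq_univ_of_forall fun y => Set.mem_iUnion.mpr ⟨y, hb y⟩)
  choose yk hyk using hVsub
  have hidem : ∀ k, ∃ e : B, IsIdempotentElem e ∧
      V k = (PrimeSpectrum.basicOpen e : Set (PrimeSpectrum B)) := fun k =>
    PrimeSpectrum.isClopen_iff.mp (hVc k)
  choose e he heV using hidem
  let I : Fin n → Ideal B := fun k => Ideal.span {1 - e k}
  -- orthogonality
  have horth : ∀ k l, k ≠ l → e k * e l = 0 := by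
    intro k l hkl
    have hnil : IsNilpotent (e k * e l) := by
      rw [← PrimeSpectrum.basicOpen_eq_bot_iff, PrimeSpectrum.basicOpen_mul]
      apply TopologicalSpace.Opens.ext
      rw [TopologicalSpace.Opens.coe_inf, ← heV k, ← heV l]
      exact (hVd hkl).inter_eq
    exact ((he k).mul (he l)).eq_zero_of_isNilpotent hnil
  have hcop : Pairwise (Function.onFun IsCoprime I) := by
    intro k l hkl
    show IsCoprime (I k) (I l)
    rw [Ideal.isCoprime_iff_sup_eq, Ideal.eq_top_iff_one]
    have h1 : (1 : B) = (1 - e k) + e k * (1 - e l) := by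
      have := horth k l hkl
      linear_combination this
    rw [h1]
    exact Ideal.add_mem _ (Ideal.mem_sup_left (Ideal.mem_span_singleton_self _))
      (Ideal.mem_sup_right (Ideal.mul_mem_left _ _ (Ideal.mem_span_singleton_self _)))
  have hspan : Ideal.span (Set.range e) = ⊤ := by
    rw [← PrimeSpectrum.iSup_basicOpen_eq_top_iff]
    apply TopologicalSpace.Opens.ext
    rw [TopologicalSpace.Opens.coe_iSup, TopologicalSpace.Opens.coe_top, ← hVu]
    exact Set.iUnion_congr fun k => (heV k).symm
  have hinf : ⨅ k, I k = ⊥ := by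
    rw [eq_bot_iff]
    intro x hx
    rw [Ideal.mem_iInf] at hx
    have hann : ∀ k, e k * x = 0 := by
      intro k
      obtain ⟨c, hc⟩ := Ideal.mem_span_singleton'.mp (hx k)
      rw [← hc]
      have := (he k).eq
      linear_combination (-c) * this
    have hle : Ideal.span (Set.range e) ≤ (Ideal.span {x}).annihilator := by
      rw [Ideal.span_le]
      rintro _ ⟨k, rfl⟩
      rw [SetLike.mem_coe, Submodule.mem_annihilator_span_singleton]
      exact hann k
    rw [hspan, top_le_iff] at hle
    have h1 : (1 : B) ∈ (Ideal.span {x}).annihilator := by rw [hle]; trivial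
    rw [Submodule.mem_annihilator_span_singleton, one_smul] at h1
    exact h1
  -- the CRT isomorphism over `A`
  let Φ : B →ₐ[A] (∀ k, B ⧸ I k) := Pi.algHom A _ (fun k => Ideal.Quotient.mkₐ A (I k))
  have hΦbij : Function.Bijective Φ := by
    constructor
    · rw [injective_iff_map_eq_zero]
      intro x hx
      have hx' : x ∈ ⨅ k, I k := by
        rw [Ideal.mem_iInf]
        intro k
        rw [← Ideal.Quotient.eq_zero_iff_mem]
        exact congrFun hx k
      rw [hinf] at hx'
      exact hx'
    · intro z
      obtain ⟨r, hr⟩ := Ideal.pi_quotient_surjective hcop z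
      exact ⟨r, funext fun k => hr k⟩
  let Φe : B ≃ₐ[A] (∀ k, B ⧸ I k) := AlgEquiv.ofBijective Φ hΦbij
  -- units
  have hunit : ∀ k, IsUnit (algebraMap B (B ⧸ I k) (b (yk k))) := by
    intro k
    have hsup : I k ⊔ Ideal.span {b (yk k)} = ⊤ := by
      by_contra hne
      obtain ⟨m, hm, hle⟩ := Ideal.exists_le_maximal _ hne
      have h1 : 1 - e k ∈ m := hle (Ideal.mem_sup_left (Ideal.mem_span_singleton_self _))
      have h2 : b (yk k) ∈ m := hle (Ideal.mem_sup_right (Ideal.mem_span_singleton_self _))
      have h3 : e k ∉ m := by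
        intro h
        have : (1 : B) ∈ m := by
          have := m.add_mem h1 h
          simpa using this
        exact hm.ne_top ((Ideal.eq_top_iff_one _).mpr this)
      have h4 : (⟨m, hm.isPrime⟩ : PrimeSpectrum B) ∈ V k := by
        rw [heV k]
        exact h3
      exact hyk k h4 h2
    obtain ⟨i, hi, c, hc, hic⟩ := Submodule.mem_sup.mp ((Ideal.eq_top_iff_one _).mp hsup)
    obtain ⟨d, rfl⟩ := Ideal.mem_span_singleton'.mp hc
    refine IsUnit.of_mul_eq_one (Ideal.Quotient.mk (I k) d) ?_
    show Ideal.Quotient.mk (I k) (b (yk k)) * Ideal.Quotient.mk (I k) d = 1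
    rw [← map_mul, ← map_one (Ideal.Quotient.mk (I k)), Ideal.Quotient.eq]
    have : b (yk k) * d - 1 = -i := by linear_combination hic
    rw [this]
    exact (I k).neg_mem hi
  choose hs hlift using fun k => hC (yk k) (B ⧸ I k) (hunit k)
  let gk : ∀ k, Localization.Away (s (yk k)) →ₐ[A] (B ⧸ I k) := fun k =>
    { IsLocalization.Away.lift (s (yk k)) (hs k) with
      commutes' := fun r => IsLocalization.Away.lift_eq _ _ _ }
  haveI : Algebra.IsLocalIso A (∀ k : Fin n, Localization.Away (s (yk k))) :=
    Algebra.IsLocalIso.pi_of_finite A _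
  let f : P →ₐ[A] (∀ k : Fin n, Localization.Away (s (yk k))) := Pi.algHom A _ (fun k => ψs (yk k))
  let g' : (∀ k : Fin n, Localization.Away (s (yk k))) →ₐ[A] (∀ k, B ⧸ I k) :=
    Pi.algHom A _ (fun k => (gk k).comp (Pi.evalAlgHom A _ k))
  refine ⟨(∀ k : Fin n, Localization.Away (s (yk k))), inferInstance, inferInstance, inferInstance,
    f, (Φe.symm : (∀ k, B ⧸ I k) →ₐ[A] B).comp g', ?_⟩
  apply AlgHom.ext
  intro p
  apply Φe.injective
  show Φe (Φe.symm (g' (f p))) = Φe (ψ p)
  rw [Φe.apply_symm_apply]
  funext k
  exact hlift k p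

end Groth.Agent.Lib.T2H1.IndZarLocal
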