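import Mathlib

set_option autoImplicit false
universe u

namespace Groth.Agent.Lib.T2H1.LCSpec

open Topology

variable {T : Type u} [TopologicalSpace T]
variable {A : Type u} [CommRing A]

/-- Evaluation at a point as a ring hom. -/
def ev (t : T) : LocallyConstant T A →+* A := (LocallyConstant.evalₐ A t : LocallyConstant T A →ₐ[A] A)

@[simp] theorem ev_apply (t : T) (f : LocallyConstant T A) : ev t f = f t := rfl

theorem ev_algebraMap (t : T) (a : A) : ev t (algebraMap A (LocallyConstant T A) a) = a := rfl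

theorem charFn_apply_of_mem {U : Set T} (hU : IsClopen U) {t : T} (ht : t ∈ U) :
    LocallyConstant.charFn A hU t = 1 := by
  rw [LocallyConstant.coe_charFn, Set.indicator_of_mem ht]
  rfl

theorem charFn_apply_of_not_mem {U : Set T} (hU : IsClopen U) {t : T} (ht : t ∉ U) :
    LocallyConstant.charFn A hU t = 0 := by
  rw [LocallyConstant.coe_charFn, Set.indicator_of_notMem ht]

theorem charFn_union {U V : Set T} (hU : IsClopen U) (hV : IsClopen V) :
    LocallyConstant.charFn A (hU.union hV) =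
      LocallyConstant.charFn A hU + LocallyConstant.charFn A hV -
        LocallyConstant.charFn A hU * LocallyConstant.charFn A hV := by
  ext t
  simp only [LocallyConstant.coe_add, LocallyConstant.coe_sub, LocallyConstant.coe_mul,
    Pi.add_apply, Pi.sub_apply, Pi.mul_apply]
  by_cases h1 : t ∈ U
  · by_cases h2 : t ∈ V
    · rw [charFn_apply_of_mem hU h1, charFn_apply_of_mem hV h2,
        charFn_apply_of_mem _ (Set.mem_union_left V h1)]
      ring
    · rw [charFn_apply_of_mem hU h1, charFn_apply_of_not_mem hV h2,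
        charFn_apply_of_mem _ (Set.mem_union_left V h1)]
      ring
  · by_cases h2 : t ∈ V
    · rw [charFn_apply_of_not_mem hU h1, charFn_apply_of_mem hV h2,
        charFn_apply_of_mem _ (Set.mem_union_right U h2)]
      ring
    · rw [charFn_apply_of_not_mem hU h1, charFn_apply_of_not_mem hV h2,
        charFn_apply_of_not_mem _ (fun h => h.elim h1 h2)]
      ring

theorem charFn_univ : LocallyConstant.charFn A (isClopen_univ (X := T)) = 1 := by
  ext t
  exact charFn_apply_of_mem _ (Set.mem_univ t)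

theorem charFn_mul_compl {U : Set T} (hU : IsClopen U) :
    LocallyConstant.charFn A hU * LocallyConstant.charFn A hU.compl = 0 := by
  ext t
  simp only [LocallyConstant.coe_mul, Pi.mul_apply, LocallyConstant.coe_zero, Pi.zero_apply]
  by_cases h : t ∈ U
  · rw [charFn_apply_of_not_mem hU.compl (fun h' => h' h), mul_zero]
  · rw [charFn_apply_of_not_mem hU h, zero_mul]

/-- `f` agrees with the constant `f t` on the fibre through `t`. -/
theorem mul_charFn_fiber (f : LocallyConstant T A) (t : T) :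
    f * LocallyConstant.charFn A (f.isLocallyConstant.isClopen_fiber (f t)) =
      algebraMap A (LocallyConstant T A) (f t) *
        LocallyConstant.charFn A (f.isLocallyConstant.isClopen_fiber (f t)) := by
  ext s
  simp only [LocallyConstant.coe_mul, Pi.mul_apply]
  by_cases h : s ∈ {x | f x = f t}
  · rw [charFn_apply_of_mem _ h, mul_one, mul_one]
    exact h
  · rw [charFn_apply_of_not_mem _ h, mul_zero, mul_zero]

section prime

variable (𝔮 : Ideal (LocallyConstant T A)) [h𝔮 : 𝔮.IsPrime]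

/-- The clopens whose indicator lies in `𝔮`. -/
def InQ (U : Set T) : Prop := ∃ hU : IsClopen U, LocallyConstant.charFn A hU ∈ 𝔮

theorem InQ.union {U V : Set T} (hU : InQ 𝔮 U) (hV : InQ 𝔮 V) : InQ 𝔮 (U ∪ V) := by
  obtain ⟨hU, hU'⟩ := hU
  obtain ⟨hV, hV'⟩ := hV
  refine ⟨hU.union hV, ?_⟩
  rw [charFn_union hU hV]
  exact 𝔮.sub_mem (𝔮.add_mem hU' hV') (𝔮.mul_mem_left _ hV')

theorem inQ_empty : InQ 𝔮 (∅ : Set T) := by
  refine ⟨isClopen_empty, ?_⟩
  have : LocallyConstant.charFn A (isClopen_empty (X := T)) = 0 := by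
    ext t
    exact charFn_apply_of_not_mem _ (Set.notMem_empty t)
  rw [this]
  exact 𝔮.zero_mem

theorem inQ_biUnion {ι : Type*} (s : Finset ι) (U : ι → Set T) (h : ∀ i ∈ s, InQ 𝔮 (U i)) :
    InQ 𝔮 (⋃ i ∈ s, U i) := by
  classical
  induction s using Finset.induction_on with
  | empty => simpa using inQ_empty 𝔮
  | insert a s _ ih =>
    rw [Finset.set_biUnion_insert]
    exact (h a (Finset.mem_insert_self a s)).union 𝔮
      (ih fun i hi => h i (Finset.mem_insert_of_mem hi))

include h𝔮 in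
theorem not_inQ_univ : ¬ InQ 𝔮 (Set.univ : Set T) := by
  rintro ⟨h, hmem⟩
  have : LocallyConstant.charFn A h = 1 := by
    ext t
    exact charFn_apply_of_mem _ (Set.mem_univ t)
  rw [this] at hmem
  exact 𝔮.ne_top_iff_one.mp h𝔮.ne_top hmem

variable [CompactSpace T]

include h𝔮 in
/-- There is a point all of whose clopen neighbourhoods have indicator outside `𝔮`. -/
theorem exists_good : ∃ t : T, ∀ U : Set T, t ∈ U → ¬ InQ 𝔮 U := by
  by_contra hcon
  push_neg at hcon
  choose U htU hU using hcon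
  obtain ⟨s, hs⟩ := isCompact_univ.elim_finite_subcover U (fun t => (hU t).1.isOpen)
    (fun t _ => Set.mem_iUnion.mpr ⟨t, htU t⟩)
  have h1 : InQ 𝔮 (⋃ i ∈ s, U i) := inQ_biUnion 𝔮 s U (fun i _ => hU i)
  have h2 : (⋃ i ∈ s, U i) = Set.univ := Set.eq_univ_of_univ_subset hs
  rw [h2] at h1
  exact not_inQ_univ 𝔮 h1

include h𝔮 in
theorem mem_iff_of_good (t : T) (ht : ∀ U : Set T, t ∈ U → ¬ InQ 𝔮 U)
    (f : LocallyConstant T A) :
    f ∈ 𝔮 ↔ f t ∈ 𝔮.comap (algebraMap A (LocallyConstant T A)) := by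
  have hU := f.isLocallyConstant.isClopen_fiber (f t)
  have h1 : LocallyConstant.charFn A hU ∉ 𝔮 := fun h => ht {x | f x = f t} rfl ⟨hU, h⟩
  have h2 := mul_charFn_fiber f t
  rw [Ideal.mem_comap]
  constructor
  · intro hf
    have : algebraMap A (LocallyConstant T A) (f t) * LocallyConstant.charFn A hU ∈ 𝔮 := by
      rw [← h2]
      exact 𝔮.mul_mem_right _ hf
    exact (h𝔮.mem_or_mem this).resolve_right h1
  · intro hf
    have : f * LocallyConstant.charFn A hU ∈ 𝔮 := by
      rw [h2]
      exact 𝔮.mul_mem_right _ hf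
    exact (h𝔮.mem_or_mem this).resolve_right h1

end prime

/-- The map `Spec A × T → Spec (LocallyConstant T A)`. -/
def Phi (x : PrimeSpectrum A × T) : PrimeSpectrum (LocallyConstant T A) :=
  PrimeSpectrum.comap (ev x.2) x.1

theorem mem_Phi {x : PrimeSpectrum A × T} {f : LocallyConstant T A} :
    f ∈ (Phi x).asIdeal ↔ f x.2 ∈ x.1.asIdeal := Iff.rfl

theorem comap_Phi (x : PrimeSpectrum A × T) :
    PrimeSpectrum.comap (algebraMap A (LocallyConstant T A)) (Phi x) = x.1 := by
  apply PrimeSpectrum.ext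
  ext a
  rfl

theorem continuous_Phi : Continuous (Phi (T := T) (A := A)) := by
  rw [PrimeSpectrum.isTopologicalBasis_basic_opens.continuous_iff]
  rintro _ ⟨f, rfl⟩
  rw [isOpen_iff_forall_mem_open]
  rintro ⟨p, t⟩ hpt
  have hpt' : f t ∉ p.asIdeal := hpt
  refine ⟨(PrimeSpectrum.basicOpen (f t) : Set (PrimeSpectrum A)) ×ˢ {x | f x = f t}, ?_,
    (PrimeSpectrum.basicOpen (f t)).2.prod (f.isLocallyConstant.isClopen_fiber (f t)).isOpen,
    ⟨hpt', rfl⟩⟩
  rintro ⟨p', t'⟩ ⟨h1, h2⟩
  show f t' ∉ p'.asIdeal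
  have h2' : f t' = f t := h2
  rw [h2']
  exact h1

variable [T2Space T] [TotallyDisconnectedSpace T] [CompactSpace T]

theorem Phi_injective : Function.Injective (Phi (T := T) (A := A)) := by
  rintro ⟨p, t⟩ ⟨p', t'⟩ h
  have h1 : p = p' := by
    have := congrArg (PrimeSpectrum.comap (algebraMap A (LocallyConstant T A))) h
    rwa [comap_Phi, comap_Phi] at this
  subst h1
  by_cases htt : t = t'
  · rw [htt]
  · exfalso
    obtain ⟨U, hU, htU, ht'U⟩ := exists_isClopen_of_totally_separated htt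
    have h2 : LocallyConstant.charFn A hU ∈ (Phi (p, t')).asIdeal := by
      rw [mem_Phi]
      show LocallyConstant.charFn A hU t' ∈ p.asIdeal
      rw [charFn_apply_of_not_mem hU ht'U]
      exact p.asIdeal.zero_mem
    rw [← h, mem_Phi] at h2
    have h3 : LocallyConstant.charFn A hU t ∈ p.asIdeal := h2
    rw [charFn_apply_of_mem hU htU] at h3
    exact p.asIdeal.ne_top_iff_one.mp p.isPrime.ne_top h3

theorem Phi_surjective : Function.Surjective (Phi (T := T) (A := A)) := by
  intro 𝔮
  obtain ⟨t, ht⟩ := exists_good 𝔮.asIdeal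
  refine ⟨(PrimeSpectrum.comap (algebraMap A (LocallyConstant T A)) 𝔮, t), ?_⟩
  apply PrimeSpectrum.ext
  ext f
  rw [mem_Phi]
  exact (mem_iff_of_good 𝔮.asIdeal t ht f).symm

theorem Phi_image (a : A) {U : Set T} (hU : IsClopen U) :
    Phi '' ((PrimeSpectrum.basicOpen a : Set (PrimeSpectrum A)) ×ˢ U) =
      (PrimeSpectrum.basicOpen
        (algebraMap A (LocallyConstant T A) a * LocallyConstant.charFn A hU) : Set _) := by
  ext 𝔮
  constructor
  · rintro ⟨⟨p, t⟩, ⟨h1, h2⟩, rfl⟩
    show _ ∉ (Phi (p, t)).asIdeal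
    rw [mem_Phi]
    show a * LocallyConstant.charFn A hU t ∉ p.asIdeal
    rw [charFn_apply_of_mem hU h2, mul_one]
    exact h1
  · intro h𝔮
    obtain ⟨⟨p, t⟩, rfl⟩ := Phi_surjective 𝔮
    refine ⟨(p, t), ?_, rfl⟩
    have h1 : a * LocallyConstant.charFn A hU t ∉ p.asIdeal := h𝔮
    have htU : t ∈ U := by
      by_contra htU
      rw [charFn_apply_of_not_mem hU htU, mul_zero] at h1
      exact h1 p.asIdeal.zero_mem
    rw [charFn_apply_of_mem hU htU, mul_one] at h1
    exact ⟨h1, htU⟩

theorem isOpenMap_Phi : IsOpenMap (Phi (T := T) (A := A)) := by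
  rw [(PrimeSpectrum.isTopologicalBasis_basic_opens.prod
    (isTopologicalBasis_isClopen (X := T))).isOpenMap_iff]
  rintro _ ⟨_, ⟨a, rfl⟩, U, hU, rfl⟩
  have hU' : IsClopen U := hU
  rw [Phi_image a hU']
  exact (PrimeSpectrum.basicOpen _).2

variable (T A) in
/-- `Spec A × T ≃ₜ Spec (LocallyConstant T A)`. -/
noncomputable def PhiHomeo : PrimeSpectrum A × T ≃ₜ PrimeSpectrum (LocallyConstant T A) :=
  (Equiv.ofBijective Phi ⟨Phi_injective, Phi_surjective⟩).toHomeomorphOfContinuousOpen
    continuous_Phi isOpenMap_Phi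

@[simp] theorem PhiHomeo_apply (x : PrimeSpectrum A × T) : PhiHomeo T A x = Phi x := rfl

theorem PhiHomeo_symm_fst (𝔮 : PrimeSpectrum (LocallyConstant T A)) :
    ((PhiHomeo T A).symm 𝔮).1 = PrimeSpectrum.comap (algebraMap A (LocallyConstant T A)) 𝔮 := by
  obtain ⟨x, rfl⟩ := (PhiHomeo T A).surjective 𝔮
  rw [Homeomorph.symm_apply_apply, PhiHomeo_apply, comap_Phi]

end Groth.Agent.Lib.T2H1.LCSpec
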