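import Mathlib
import Groth.Prelude.Def_PBC
import Groth.Prelude.Def_ProEtW
import Groth.Agent.Lib.T2H1LCSpec
import Groth.Agent.Lib.T2H1IndZarComp
import Groth.Agent.Lib.Helper10Pi0
import Groth.Agent.S0703

set_option autoImplicit false
universe u

namespace Groth.Agent.Lib.T2H1.ProfReal

open Groth.Agent.Lib.T2H1.IndZar Groth.Agent.Lib.T2H1.IndZarCrit Groth.Agent.Lib.T2H1.IndZarComp
open Groth.Agent.Lib.T2H1.LCSpec Topology

/-- The homeomorphism on `π₀` induced by a homeomorphism. -/
def ccHomeo {X Y : Type*} [TopologicalSpace X] [TopologicalSpace Y] (h : X ≃ₜ Y) :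
    ConnectedComponents X ≃ₜ ConnectedComponents Y where
  toFun := h.continuous.connectedComponentsMap
  invFun := h.symm.continuous.connectedComponentsMap
  left_inv := by
    intro c
    obtain ⟨x, rfl⟩ := ConnectedComponents.surjective_coe c
    rw [Continuous.connectedComponentsMap_mk, Continuous.connectedComponentsMap_mk,
      Homeomorph.symm_apply_apply]
  right_inv := by
    intro c
    obtain ⟨x, rfl⟩ := ConnectedComponents.surjective_coe c
    rw [Continuous.connectedComponentsMap_mk, Continuous.connectedComponentsMap_mk,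
      Homeomorph.apply_symm_apply]
  continuous_toFun := h.continuous.connectedComponentsMap_continuous
  continuous_invFun := h.symm.continuous.connectedComponentsMap_continuous

theorem ccHomeo_mk {X Y : Type*} [TopologicalSpace X] [TopologicalSpace Y] (h : X ≃ₜ Y) (x : X) :
    ccHomeo h (ConnectedComponents.mk x) = ConnectedComponents.mk (h x) :=
  rfl

variable (A : Type u) [CommRing A] (T : Type u) [TopologicalSpace T] [CompactSpace T] [T2Space T]
  [TotallyDisconnectedSpace T] (g : C(T, ConnectedComponents (PrimeSpectrum A)))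

/-- The fibre product `Spec A ×_{π₀} T` inside `Spec A × T`. -/
def W : Set (PrimeSpectrum A × T) := {p | ConnectedComponents.mk p.1 = g p.2}

/-- The corresponding closed subset of `Spec (LocallyConstant T A)`. -/
def ZZ : Set (PrimeSpectrum (LocallyConstant T A)) := (PhiHomeo T A).symm ⁻¹' W A T g

theorem ZZ_sep (x : PrimeSpectrum (LocallyConstant T A)) (hx : x ∉ ZZ A T g) :
    ∃ U, IsClopen U ∧ ZZ A T g ⊆ U ∧ x ∉ U := by
  haveI : T2Space (ConnectedComponents (PrimeSpectrum A)) :=
    Groth.Agent.Lib.Helper10.Pi0.t2Space_connectedComponents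
  have hne : ConnectedComponents.mk ((PhiHomeo T A).symm x).1 ≠ g ((PhiHomeo T A).symm x).2 := hx
  obtain ⟨V, hV, h1, h2⟩ := exists_isClopen_of_totally_separated hne
  let U' : Set (PrimeSpectrum A × T) :=
    (ConnectedComponents.mk ⁻¹' V) ×ˢ (g ⁻¹' Vᶜ)
  have hU' : IsClopen U' :=
    (hV.preimage ConnectedComponents.continuous_coe).prod (hV.compl.preimage g.continuous)
  refine ⟨(PhiHomeo T A).symm ⁻¹' U'ᶜ, hU'.compl.preimage (PhiHomeo T A).symm.continuous, ?_, ?_⟩
  · intro z hz hzU
    have hz' : ConnectedComponents.mk ((PhiHomeo T A).symm z).1 = g ((PhiHomeo T A).symm z).2 := hz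
    have h3 : ConnectedComponents.mk ((PhiHomeo T A).symm z).1 ∈ V := hzU.1
    have h4 : g ((PhiHomeo T A).symm z).2 ∉ V := hzU.2
    rw [hz'] at h3
    exact h4 h3
  · intro hxU
    exact hxU ⟨h1, h2⟩

/-- The ring realizing `T → π₀(Spec A)`. -/
abbrev BB : Type u := LocallyConstant T A ⧸ Ideal.span (idemSet (ZZ A T g))

theorem isIndZariski_BB : EtPBC.IsIndZariski A (BB A T g) :=
  isIndZariski_of_factor (factor_quotient_idemSet (factor_locallyConstant T A) (ZZ A T g))

/-- The map `Spec B → Spec A × T`. -/
noncomputable def rho (y : PrimeSpectrum (BB A T g)) : PrimeSpectrum A × T :=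
  (PhiHomeo T A).symm (PrimeSpectrum.comap (Ideal.Quotient.mk _) y)

theorem isEmbedding_rho : IsEmbedding (rho A T g) :=
  (PhiHomeo T A).symm.isEmbedding.comp
    (PrimeSpectrum.isClosedEmbedding_comap_of_surjective _ _
      Ideal.Quotient.mk_surjective).isEmbedding

theorem range_rho : Set.range (rho A T g) = W A T g := by
  have h1 : Set.range (rho A T g) = (PhiHomeo T A).symm '' (Set.range
      (PrimeSpectrum.comap (Ideal.Quotient.mk (Ideal.span (idemSet (ZZ A T g)))))) := by
    rw [← Set.range_comp]
    rfl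
  rw [h1, _root_.range_comap_of_surjective _ _ Ideal.Quotient.mk_surjective,
    Ideal.mk_ker, PrimeSpectrum.zeroLocus_span, zeroLocus_idemSet _ (ZZ_sep A T g)]
  exact Set.image_preimage_eq _ (PhiHomeo T A).symm.surjective

theorem rho_fst (y : PrimeSpectrum (BB A T g)) :
    (rho A T g y).1 = PrimeSpectrum.comap (algebraMap A (BB A T g)) y := by
  unfold rho
  rw [PhiHomeo_symm_fst]
  rfl

theorem rho_mem (y : PrimeSpectrum (BB A T g)) :
    ConnectedComponents.mk (rho A T g y).1 = g (rho A T g y).2 := by
  have : rho A T g y ∈ W A T g := by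
    rw [← range_rho]
    exact Set.mem_range_self y
  exact this

/-- `Spec B` is homeomorphic to the fibre product. -/
noncomputable def hB : PrimeSpectrum (BB A T g) ≃ₜ
    {p : PrimeSpectrum A × T // ConnectedComponents.mk p.1 = g p.2} :=
  (isEmbedding_rho A T g).toHomeomorph.trans (Homeomorph.setCongr (range_rho A T g))

theorem hB_apply (y : PrimeSpectrum (BB A T g)) : (hB A T g y).1 = rho A T g y := rfl

theorem main : ∃ (e : ConnectedComponents (PrimeSpectrum (BB A T g)) ≃ₜ T),
      EtPBC.IsIndZariski A (BB A T g) ∧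
      (∀ y : PrimeSpectrum (BB A T g),
        g (e (ConnectedComponents.mk y)) =
          ConnectedComponents.mk (PrimeSpectrum.comap (algebraMap A (BB A T g)) y)) ∧
      Topology.IsEmbedding (fun y : PrimeSpectrum (BB A T g) =>
        (PrimeSpectrum.comap (algebraMap A (BB A T g)) y, e (ConnectedComponents.mk y))) ∧
      Set.range (fun y : PrimeSpectrum (BB A T g) =>
        (PrimeSpectrum.comap (algebraMap A (BB A T g)) y, e (ConnectedComponents.mk y))) =
        {p : PrimeSpectrum A × T | ConnectedComponents.mk p.1 = g p.2} := by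
  obtain ⟨-, eW, heW⟩ := Groth.Agent.S0703.result (PrimeSpectrum A) T g
  let e := (ccHomeo (hB A T g)).trans eW
  have he : ∀ y, e (ConnectedComponents.mk y) = (rho A T g y).2 := by
    intro y
    show eW (ccHomeo (hB A T g) (ConnectedComponents.mk y)) = _
    rw [ccHomeo_mk, heW, hB_apply]
  have hfun : (fun y : PrimeSpectrum (BB A T g) =>
      (PrimeSpectrum.comap (algebraMap A (BB A T g)) y, e (ConnectedComponents.mk y))) =
      rho A T g := by
    funext y
    rw [he, ← rho_fst]
  refine ⟨e, isIndZariski_BB A T g, ?_, ?_, ?_⟩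
  · intro y
    rw [he, ← rho_fst]
    exact (rho_mem A T g y).symm
  · rw [hfun]
    exact isEmbedding_rho A T g
  · rw [hfun]
    exact range_rho A T g

end Groth.Agent.Lib.T2H1.ProfReal
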