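import Mathlib
import Groth.Prelude.Def_ProEtW

set_option autoImplicit false
universe u

namespace Groth.Agent.Lib.T2H1.WLoc

variable (A : Type u) [CommRing A]

/-- The product of all local rings of `A`. -/
abbrev PiLoc : Type u := ∀ p : PrimeSpectrum A, Localization.AtPrime p.asIdeal

variable {A}

/-- The stratum of `Spec A` on which exactly the elements of `E'` (among `E`) are nonzero. -/
def stratum (E E' : Finset A) : Set (PrimeSpectrum A) :=
  {p | ∀ f ∈ E, (f ∉ p.asIdeal ↔ f ∈ E')}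

theorem stratum_mono {E F : Finset A} (h : E ⊆ F) (F' : Finset A) :
    stratum F F' ⊆ stratum E F' := fun _ hp f hf => hp f (h hf)

theorem mem_stratum_filter [DecidableEq A] (E : Finset A) (p : PrimeSpectrum A)
    [DecidablePred (· ∉ p.asIdeal)] :
    p ∈ stratum E (E.filter (· ∉ p.asIdeal)) := by
  intro f hf
  simp [Finset.mem_filter, hf]

/-- `s` is given by a single fraction on each stratum of some finite stratification. -/
def IsLocConst (s : PiLoc A) : Prop :=
  ∃ E : Finset A, ∀ E' : Finset A, ∃ a b : A, ∀ p ∈ stratum E E',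
    b ∉ p.asIdeal ∧ s p * algebraMap A (Localization.AtPrime p.asIdeal) b =
      algebraMap A (Localization.AtPrime p.asIdeal) a

theorem IsLocConst.mono {s : PiLoc A} {E F : Finset A} (h : E ⊆ F)
    (hs : ∀ E' : Finset A, ∃ a b : A, ∀ p ∈ stratum E E',
      b ∉ p.asIdeal ∧ s p * algebraMap A (Localization.AtPrime p.asIdeal) b =
        algebraMap A (Localization.AtPrime p.asIdeal) a) :
    ∀ F' : Finset A, ∃ a b : A, ∀ p ∈ stratum F F',
      b ∉ p.asIdeal ∧ s p * algebraMap A (Localization.AtPrime p.asIdeal) b =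
        algebraMap A (Localization.AtPrime p.asIdeal) a := by
  intro F'
  obtain ⟨a, b, hab⟩ := hs F'
  exact ⟨a, b, fun p hp => hab p (stratum_mono h F' hp)⟩

variable (A) in
/-- The w-localization of `A`, as a subalgebra of the product of all local rings. -/
def Aw : Subalgebra A (PiLoc A) where
  carrier := {s | IsLocConst s}
  algebraMap_mem' r := ⟨∅, fun _ => ⟨r, 1, fun p _ => ⟨p.asIdeal.primeCompl.one_mem, by
    rw [map_one, mul_one]; rfl⟩⟩⟩
  add_mem' := by
    classical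
    rintro s₁ s₂ ⟨E₁, h₁⟩ ⟨E₂, h₂⟩
    refine ⟨E₁ ∪ E₂, fun E' => ?_⟩
    obtain ⟨a₁, b₁, h1⟩ := IsLocConst.mono (Finset.subset_union_left (s₂ := E₂)) h₁ E'
    obtain ⟨a₂, b₂, h2⟩ := IsLocConst.mono (Finset.subset_union_right (s₁ := E₁)) h₂ E'
    refine ⟨a₁ * b₂ + a₂ * b₁, b₁ * b₂, fun p hp => ⟨?_, ?_⟩⟩
    · exact p.asIdeal.primeCompl.mul_mem (h1 p hp).1 (h2 p hp).1
    · have e1 := (h1 p hp).2
      have e2 := (h2 p hp).2
      simp only [Pi.add_apply, map_add, map_mul]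
      rw [← e1, ← e2]
      ring
  mul_mem' := by
    classical
    rintro s₁ s₂ ⟨E₁, h₁⟩ ⟨E₂, h₂⟩
    refine ⟨E₁ ∪ E₂, fun E' => ?_⟩
    obtain ⟨a₁, b₁, h1⟩ := IsLocConst.mono (Finset.subset_union_left (s₂ := E₂)) h₁ E'
    obtain ⟨a₂, b₂, h2⟩ := IsLocConst.mono (Finset.subset_union_right (s₁ := E₁)) h₂ E'
    refine ⟨a₁ * a₂, b₁ * b₂, fun p hp => ⟨?_, ?_⟩⟩
    · exact p.asIdeal.primeCompl.mul_mem (h1 p hp).1 (h2 p hp).1
    · have e1 := (h1 p hp).2
      have e2 := (h2 p hp).2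
      simp only [Pi.mul_apply, map_mul]
      rw [← e1, ← e2]
      ring

theorem mem_Aw {s : PiLoc A} : s ∈ Aw A ↔ IsLocConst s := Iff.rfl

open Classical in
/-- The indicator of `D(f)`. -/
noncomputable def chiFun (f : A) : PiLoc A := fun p => if f ∈ p.asIdeal then 0 else 1

open Classical in
theorem chiFun_mem (f : A) : chiFun f ∈ Aw A := by
  refine ⟨{f}, fun E' => ?_⟩
  by_cases hf : f ∈ E'
  · refine ⟨1, 1, fun p hp => ⟨p.asIdeal.primeCompl.one_mem, ?_⟩⟩
    have : f ∉ p.asIdeal := (hp f (Finset.mem_singleton_self f)).mpr hf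
    simp [chiFun, this]
  · refine ⟨0, 1, fun p hp => ⟨p.asIdeal.primeCompl.one_mem, ?_⟩⟩
    have : f ∈ p.asIdeal := by
      by_contra h
      exact hf ((hp f (Finset.mem_singleton_self f)).mp h)
    simp [chiFun, this]

/-- The indicator of `D(f)` as an element of `A_w`. -/
noncomputable def chi (f : A) : Aw A := ⟨chiFun f, chiFun_mem f⟩

theorem chi_apply_of_mem {f : A} {p : PrimeSpectrum A} (h : f ∈ p.asIdeal) :
    (chi f).1 p = 0 := by
  simp [chi, chiFun, h]

theorem chi_apply_of_not_mem {f : A} {p : PrimeSpectrum A} (h : f ∉ p.asIdeal) :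
    (chi f).1 p = 1 := by
  simp [chi, chiFun, h]

theorem chi_idem (f : A) : IsIdempotentElem (chi f) := by
  apply Subtype.ext
  funext p
  show (chi f).1 p * (chi f).1 p = (chi f).1 p
  by_cases h : f ∈ p.asIdeal
  · rw [chi_apply_of_mem h, mul_zero]
  · rw [chi_apply_of_not_mem h, mul_one]

open Classical in
/-- The fraction `a / b` on `D(b)`, extended by zero. -/
noncomputable def bumpFun (a b : A) : PiLoc A := fun p =>
  if h : b ∈ p.asIdeal then 0 else IsLocalization.mk' _ a (⟨b, h⟩ : p.asIdeal.primeCompl)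

open Classical in
theorem bumpFun_mem (a b : A) : bumpFun a b ∈ Aw A := by
  refine ⟨{b}, fun E' => ?_⟩
  by_cases hf : b ∈ E'
  · refine ⟨a, b, fun p hp => ?_⟩
    have hb : b ∉ p.asIdeal := (hp b (Finset.mem_singleton_self b)).mpr hf
    refine ⟨hb, ?_⟩
    simp only [bumpFun, hb, dite_false]
    exact IsLocalization.mk'_spec _ a (⟨b, hb⟩ : p.asIdeal.primeCompl)
  · refine ⟨0, 1, fun p hp => ⟨p.asIdeal.primeCompl.one_mem, ?_⟩⟩
    have : b ∈ p.asIdeal := by
      by_contra h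
      exact hf ((hp b (Finset.mem_singleton_self b)).mp h)
    simp [bumpFun, this]

/-- The fraction `a / b` on `D(b)`, extended by zero, as an element of `A_w`. -/
noncomputable def bump (a b : A) : Aw A := ⟨bumpFun a b, bumpFun_mem a b⟩

theorem bump_apply_of_mem {a b : A} {p : PrimeSpectrum A} (h : b ∈ p.asIdeal) :
    (bump a b).1 p = 0 := by
  simp [bump, bumpFun, h]

theorem bump_apply_of_not_mem {a b : A} {p : PrimeSpectrum A} (h : b ∉ p.asIdeal) :
    (bump a b).1 p = IsLocalization.mk' _ a (⟨b, h⟩ : p.asIdeal.primeCompl) := by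
  simp [bump, bumpFun, h]

/-- The projection to the local ring at `z`. -/
def proj (z : PrimeSpectrum A) : Aw A →ₐ[A] Localization.AtPrime z.asIdeal :=
  (Pi.evalAlgHom A _ z).comp (Aw A).val

theorem proj_apply (z : PrimeSpectrum A) (s : Aw A) : proj z s = s.1 z := rfl

theorem proj_surjective (z : PrimeSpectrum A) : Function.Surjective (proj z) := by
  intro x
  obtain ⟨a, b, rfl⟩ := IsLocalization.exists_mk'_eq z.asIdeal.primeCompl x
  exact ⟨bump a b, bump_apply_of_not_mem b.2⟩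

section identities

theorem chi_zero : chi (0 : A) = 0 := by
  apply Subtype.ext
  funext p
  exact chi_apply_of_mem p.asIdeal.zero_mem

theorem chi_one : chi (1 : A) = 1 := by
  apply Subtype.ext
  funext p
  exact chi_apply_of_not_mem (p.asIdeal.ne_top_iff_one.mp p.isPrime.ne_top)

theorem chi_mul (f g : A) : chi (f * g) = chi f * chi g := by
  apply Subtype.ext
  funext p
  show (chi (f * g)).1 p = (chi f).1 p * (chi g).1 p
  by_cases hf : f ∈ p.asIdeal
  · rw [chi_apply_of_mem hf, chi_apply_of_mem (p.asIdeal.mul_mem_right g hf), zero_mul]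
  · by_cases hg : g ∈ p.asIdeal
    · rw [chi_apply_of_mem hg, chi_apply_of_mem (p.asIdeal.mul_mem_left f hg), mul_zero]
    · rw [chi_apply_of_not_mem hf, chi_apply_of_not_mem hg, chi_apply_of_not_mem, mul_one]
      exact fun h => (p.isPrime.mem_or_mem h).elim hf hg

theorem chi_add (f g : A) :
    chi (f + g) = chi (f + g) * (chi f + chi g - chi f * chi g) := by
  apply Subtype.ext
  funext p
  show (chi (f + g)).1 p =
    (chi (f + g)).1 p * ((chi f).1 p + (chi g).1 p - (chi f).1 p * (chi g).1 p)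
  by_cases hfg : f + g ∈ p.asIdeal
  · rw [chi_apply_of_mem hfg, zero_mul]
  · by_cases hf : f ∈ p.asIdeal
    · have hg : g ∉ p.asIdeal := fun hg => hfg (p.asIdeal.add_mem hf hg)
      rw [chi_apply_of_mem hf, chi_apply_of_not_mem hg]
      ring
    · rw [chi_apply_of_not_mem hf]
      ring

end identities

section primes

variable (𝔮 : Ideal (Aw A)) [h𝔮 : 𝔮.IsPrime]

/-- The point of `Spec A` singled out by the idempotents outside `𝔮`. -/
def zIdeal : Ideal A where
  carrier := {f | chi f ∈ 𝔮}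
  zero_mem' := by
    show chi (0 : A) ∈ 𝔮
    rw [chi_zero]
    exact 𝔮.zero_mem
  add_mem' := by
    intro f g hf hg
    show chi (f + g) ∈ 𝔮
    rw [chi_add]
    exact 𝔮.mul_mem_left _ (𝔮.sub_mem (𝔮.add_mem hf hg) (𝔮.mul_mem_left _ hg))
  smul_mem' := by
    intro a f hf
    show chi (a * f) ∈ 𝔮
    rw [chi_mul]
    exact 𝔮.mul_mem_left _ hf

theorem mem_zIdeal {f : A} : f ∈ zIdeal 𝔮 ↔ chi f ∈ 𝔮 := Iff.rfl

instance zIdeal_isPrime : (zIdeal 𝔮).IsPrime where
  ne_top' := by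
    rw [Ideal.ne_top_iff_one, mem_zIdeal, chi_one]
    exact 𝔮.ne_top_iff_one.mp h𝔮.ne_top
  mem_or_mem' := by
    intro f g hfg
    rw [mem_zIdeal, chi_mul] at hfg
    exact h𝔮.mem_or_mem hfg

/-- The point of `Spec A` attached to `𝔮`. -/
def zPt : PrimeSpectrum A := ⟨zIdeal 𝔮, inferInstance⟩

theorem one_sub_chi_mem {f : A} (hf : f ∉ zIdeal 𝔮) : 1 - chi f ∈ 𝔮 := by
  have h0 : chi f * (1 - chi f) = 0 := by
    rw [mul_sub, mul_one, (chi_idem f).eq, sub_self]
  have h1 : chi f * (1 - chi f) ∈ 𝔮 := by rw [h0]; exact 𝔮.zero_mem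
  exact (h𝔮.mem_or_mem h1).resolve_left hf

theorem one_sub_chi_not_mem {f : A} (hf : f ∈ zIdeal 𝔮) : 1 - chi f ∉ 𝔮 := by
  intro h
  have : (1 : Aw A) ∈ 𝔮 := by
    have := 𝔮.add_mem h hf
    rwa [sub_add_cancel] at this
  exact 𝔮.ne_top_iff_one.mp h𝔮.ne_top this

open Classical in
/-- The indicator of a stratum. -/
noncomputable def strChi (E E' : Finset A) : Aw A :=
  ∏ f ∈ E, (if f ∈ E' then chi f else 1 - chi f)

open Classical in
theorem strChi_apply_of_not_mem {E E' : Finset A} {p : PrimeSpectrum A}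
    (hp : p ∉ stratum E E') : (strChi E E').1 p = 0 := by
  simp only [stratum, Set.mem_ofPred_eq, not_forall] at hp
  obtain ⟨f, hfE, hf⟩ := hp
  have h1 : (strChi E E').1 p = ∏ f ∈ E, ((if f ∈ E' then chi f else 1 - chi f) : Aw A).1 p := by
    have := map_prod (proj p) (fun f => (if f ∈ E' then chi f else 1 - chi f : Aw A)) E
    exact this
  rw [h1]
  apply Finset.prod_eq_zero hfE
  by_cases hE' : f ∈ E'
  · have hfp : f ∈ p.asIdeal := by
      by_contra h
      exact hf ⟨fun _ => hE', fun _ => h⟩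
    simp only [hE', if_true]
    exact chi_apply_of_mem hfp
  · have hfp : f ∉ p.asIdeal := by
      intro h
      exact hf ⟨fun h' => absurd h h', fun h' => absurd h' hE'⟩
    simp only [hE', if_false]
    show (1 : Aw A).1 p - (chi f).1 p = 0
    rw [chi_apply_of_not_mem hfp]
    exact sub_self _

open Classical in
theorem strChi_idem (E E' : Finset A) : IsIdempotentElem (strChi E E') := by
  unfold strChi
  refine Finset.prod_induction _ IsIdempotentElem (fun a b ha hb => ha.mul hb)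
    IsIdempotentElem.one (fun f _ => ?_)
  split_ifs
  · exact chi_idem f
  · exact (chi_idem f).one_sub

open Classical in
theorem strChi_not_mem (E : Finset A) :
    strChi E (E.filter (· ∉ zIdeal 𝔮)) ∉ 𝔮 := by
  unfold strChi
  rw [h𝔮.prod_mem_iff]
  push_neg
  intro f hfE
  by_cases hf : f ∈ zIdeal 𝔮
  · have : f ∉ E.filter (· ∉ zIdeal 𝔮) := by simp [hf]
    simp only [this, if_false]
    exact one_sub_chi_not_mem 𝔮 hf
  · have : f ∈ E.filter (· ∉ zIdeal 𝔮) := by simp [hf, hfE]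
    simp only [this, if_true]
    exact hf

end primes

section primes2

variable (𝔮 : Ideal (Aw A)) [h𝔮 : 𝔮.IsPrime]

open Classical in
theorem zPt_mem_stratum (E : Finset A) :
    zPt 𝔮 ∈ stratum E (E.filter (· ∉ zIdeal 𝔮)) := by
  intro f hf
  show f ∉ zIdeal 𝔮 ↔ _
  simp [Finset.mem_filter, hf]

open Classical in
theorem one_sub_strChi_mem (E : Finset A) :
    1 - strChi E (E.filter (· ∉ zIdeal 𝔮)) ∈ 𝔮 := by
  have h0 : strChi E (E.filter (· ∉ zIdeal 𝔮)) * (1 - strChi E (E.filter (· ∉ zIdeal 𝔮))) = 0 := by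
    rw [mul_sub, mul_one, (strChi_idem _ _).eq, sub_self]
  have h1 : strChi E (E.filter (· ∉ zIdeal 𝔮)) * (1 - strChi E (E.filter (· ∉ zIdeal 𝔮))) ∈ 𝔮 := by
    rw [h0]; exact 𝔮.zero_mem
  exact (h𝔮.mem_or_mem h1).resolve_left (strChi_not_mem 𝔮 E)

open Classical in
/-- Elements vanishing at the point attached to `𝔮` are killed by an element outside `𝔮`. -/
theorem exists_kill (s : Aw A) (hs : proj (zPt 𝔮) s = 0) : ∃ t : Aw A, t ∉ 𝔮 ∧ s * t = 0 := by
  obtain ⟨E, hE⟩ := s.2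
  obtain ⟨a, b, hab⟩ := hE (E.filter (· ∉ zIdeal 𝔮))
  obtain ⟨hbz, hsz⟩ := hab (zPt 𝔮) (zPt_mem_stratum 𝔮 E)
  rw [proj_apply] at hs
  rw [hs, zero_mul] at hsz
  obtain ⟨c, hc⟩ := (IsLocalization.map_eq_zero_iff (zPt 𝔮).asIdeal.primeCompl _ a).mp hsz.symm
  have hcz : (c : A) ∉ zIdeal 𝔮 := c.2
  have hkill : s * (strChi E (E.filter (· ∉ zIdeal 𝔮)) * chi (c : A)) = 0 := by
    apply Subtype.ext
    funext p
    show s.1 p * ((strChi E (E.filter (· ∉ zIdeal 𝔮))).1 p * (chi (c : A)).1 p) = 0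
    by_cases hp : p ∈ stratum E (E.filter (· ∉ zIdeal 𝔮))
    · by_cases hcp : (c : A) ∈ p.asIdeal
      · rw [chi_apply_of_mem hcp, mul_zero, mul_zero]
      · obtain ⟨hbp, hsp⟩ := hab p hp
        have hcu : IsUnit (algebraMap A (Localization.AtPrime p.asIdeal) (c : A)) :=
          IsLocalization.map_units _ (⟨c, hcp⟩ : p.asIdeal.primeCompl)
        have hbu : IsUnit (algebraMap A (Localization.AtPrime p.asIdeal) b) :=
          IsLocalization.map_units _ (⟨b, hbp⟩ : p.asIdeal.primeCompl)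
        have ha0 : algebraMap A (Localization.AtPrime p.asIdeal) a = 0 := by
          apply hcu.mul_left_cancel
          rw [← map_mul, hc, map_zero, mul_zero]
        rw [ha0] at hsp
        have : s.1 p = 0 := by
          apply hbu.mul_right_cancel
          rw [hsp, zero_mul]
        rw [this, zero_mul]
    · rw [strChi_apply_of_not_mem hp, zero_mul, mul_zero]
  refine ⟨_, ?_, hkill⟩
  intro h
  rcases h𝔮.mem_or_mem h with h' | h'
  · exact absurd h' (strChi_not_mem 𝔮 E)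
  · exact absurd h' hcz

/-- Elements vanishing at the point attached to `𝔮` lie in `𝔮`. -/
theorem mem_of_proj_eq_zero (s : Aw A) (hs : proj (zPt 𝔮) s = 0) : s ∈ 𝔮 := by
  obtain ⟨t, ht, hst⟩ := exists_kill 𝔮 s hs
  have hmem : s * t ∈ 𝔮 := by rw [hst]; exact 𝔮.zero_mem
  exact (h𝔮.mem_or_mem hmem).resolve_right ht

end primes2

section maximal

/-- The closed point of `Spec A_w` over `z`. -/
def mIdeal (z : PrimeSpectrum A) : Ideal (Aw A) :=
  (IsLocalRing.maximalIdeal (Localization.AtPrime z.asIdeal)).comap (proj z)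

theorem mem_mIdeal {z : PrimeSpectrum A} {s : Aw A} :
    s ∈ mIdeal z ↔ s.1 z ∈ IsLocalRing.maximalIdeal (Localization.AtPrime z.asIdeal) := Iff.rfl

instance mIdeal_isMaximal (z : PrimeSpectrum A) : (mIdeal z).IsMaximal :=
  Ideal.comap_isMaximal_of_surjective (proj z) (proj_surjective z)

theorem zIdeal_mIdeal (z : PrimeSpectrum A) : zIdeal (mIdeal z) = z.asIdeal := by
  ext f
  rw [mem_zIdeal, mem_mIdeal]
  by_cases hf : f ∈ z.asIdeal
  · rw [chi_apply_of_mem hf]
    exact iff_of_true (Ideal.zero_mem _) hf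
  · rw [chi_apply_of_not_mem hf]
    refine iff_of_false ?_ hf
    exact (Ideal.ne_top_iff_one _).mp (IsLocalRing.maximalIdeal.isMaximal _).ne_top

theorem comap_mIdeal (z : PrimeSpectrum A) :
    (mIdeal z).comap (algebraMap A (Aw A)) = z.asIdeal := by
  ext a
  rw [Ideal.mem_comap, mem_mIdeal]
  show algebraMap A (Localization.AtPrime z.asIdeal) a ∈ _ ↔ _
  exact IsLocalization.AtPrime.to_map_mem_maximal_iff _ z.asIdeal a

variable (𝔮 : Ideal (Aw A)) [h𝔮 : 𝔮.IsPrime]

theorem le_mIdeal : 𝔮 ≤ mIdeal (zPt 𝔮) := by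
  intro s hs
  by_contra hns
  rw [mem_mIdeal, IsLocalRing.mem_maximalIdeal, mem_nonunits_iff, not_not] at hns
  obtain ⟨u, hu⟩ := hns
  obtain ⟨t, ht⟩ := proj_surjective (zPt 𝔮) (↑u⁻¹ : Localization.AtPrime (zPt 𝔮).asIdeal)
  have h0 : proj (zPt 𝔮) (s * t - 1) = 0 := by
    rw [map_sub, map_mul, map_one, ht, proj_apply, ← hu, Units.mul_inv, sub_self]
  have h1 := mem_of_proj_eq_zero 𝔮 _ h0
  have h2 : (1 : Aw A) ∈ 𝔮 := by
    have := 𝔮.sub_mem (𝔮.mul_mem_right t hs) h1
    rwa [sub_sub_cancel] at this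
  exact 𝔮.ne_top_iff_one.mp h𝔮.ne_top h2

theorem zIdeal_eq_of_le (𝔮₂ : Ideal (Aw A)) [h𝔮₂ : 𝔮₂.IsPrime] (hle : 𝔮 ≤ 𝔮₂) :
    zIdeal 𝔮 = zIdeal 𝔮₂ := by
  ext f
  constructor
  · intro hf
    exact hle hf
  · intro hf
    by_contra hnf
    have h1 := hle (one_sub_chi_mem 𝔮 hnf)
    exact one_sub_chi_not_mem 𝔮₂ hf h1

theorem eq_mIdeal_of_isMaximal (𝔪 : Ideal (Aw A)) [h𝔪 : 𝔪.IsMaximal] :
    𝔪 = mIdeal (zPt 𝔪) :=
  h𝔪.eq_of_le (mIdeal_isMaximal _).ne_top (le_mIdeal 𝔪)

/-- The Jacobson-type ideal cutting out the closed points. -/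
def jIdeal : Ideal (Aw A) := ⨅ z : PrimeSpectrum A, mIdeal z

theorem mem_jIdeal {s : Aw A} : s ∈ jIdeal (A := A) ↔
    ∀ z : PrimeSpectrum A, s.1 z ∈ IsLocalRing.maximalIdeal (Localization.AtPrime z.asIdeal) := by
  unfold jIdeal
  rw [Ideal.mem_iInf]
  rfl

open Classical in
/-- A prime containing `jIdeal` is one of the `mIdeal z`. -/
theorem eq_mIdeal_of_jIdeal_le (hJ : jIdeal ≤ 𝔮) : 𝔮 = mIdeal (zPt 𝔮) := by
  refine le_antisymm (le_mIdeal 𝔮) ?_
  intro s hs
  obtain ⟨E, hE⟩ := s.2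
  obtain ⟨a, b, hab⟩ := hE (E.filter (· ∉ zIdeal 𝔮))
  obtain ⟨hbz, hsz⟩ := hab (zPt 𝔮) (zPt_mem_stratum 𝔮 E)
  rw [mem_mIdeal] at hs
  have haz : a ∈ zIdeal 𝔮 := by
    have : algebraMap A (Localization.AtPrime (zPt 𝔮).asIdeal) a ∈
        IsLocalRing.maximalIdeal (Localization.AtPrime (zPt 𝔮).asIdeal) := by
      rw [← hsz]
      exact Ideal.mul_mem_right _ _ hs
    exact (IsLocalization.AtPrime.to_map_mem_maximal_iff _ (zPt 𝔮).asIdeal a).mp this
  set χ := strChi E (E.filter (· ∉ zIdeal 𝔮)) with hχ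
  have ht : s * χ * (1 - chi a) ∈ jIdeal (A := A) := by
    rw [mem_jIdeal]
    intro z'
    show s.1 z' * χ.1 z' * ((1 : Aw A).1 z' - (chi a).1 z') ∈ _
    by_cases hz' : z' ∈ stratum E (E.filter (· ∉ zIdeal 𝔮))
    · by_cases haz' : a ∈ z'.asIdeal
      · obtain ⟨hbz', hsz'⟩ := hab z' hz'
        have hbu : IsUnit (algebraMap A (Localization.AtPrime z'.asIdeal) b) :=
          IsLocalization.map_units _ (⟨b, hbz'⟩ : z'.asIdeal.primeCompl)
        have h1 : algebraMap A (Localization.AtPrime z'.asIdeal) a ∈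
            IsLocalRing.maximalIdeal (Localization.AtPrime z'.asIdeal) :=
          (IsLocalization.AtPrime.to_map_mem_maximal_iff _ z'.asIdeal a).mpr haz'
        rw [← hsz'] at h1
        have h2 : s.1 z' ∈ IsLocalRing.maximalIdeal (Localization.AtPrime z'.asIdeal) := by
          obtain ⟨v, hv⟩ := hbu
          have := Ideal.mul_mem_right (↑v⁻¹ : Localization.AtPrime z'.asIdeal) _ h1
          rwa [← hv, mul_assoc, Units.mul_inv, mul_one] at this
        exact Ideal.mul_mem_right _ _ (Ideal.mul_mem_right _ _ h2)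
      · rw [chi_apply_of_not_mem haz']
        have : (1 : Aw A).1 z' = 1 := rfl
        rw [this, sub_self, mul_zero]
        exact Ideal.zero_mem _
    · rw [hχ, strChi_apply_of_not_mem hz', mul_zero, zero_mul]
      exact Ideal.zero_mem _
  have h1 : s * ((1 - χ) + χ * chi a) ∈ 𝔮 :=
    𝔮.mul_mem_left _ (𝔮.add_mem (one_sub_strChi_mem 𝔮 E) (𝔮.mul_mem_left _ haz))
  have h2 : s = s * χ * (1 - chi a) + s * ((1 - χ) + χ * chi a) := by ring
  rw [h2]
  exact 𝔮.add_mem (hJ ht) h1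

end maximal

section wlocal

/-- The closed point over `z`, as a point of the spectrum. -/
def mPt (z : PrimeSpectrum A) : PrimeSpectrum (Aw A) := ⟨mIdeal z, (mIdeal_isMaximal z).isPrime⟩

theorem isClosed_mPt (z : PrimeSpectrum A) : IsClosed ({mPt z} : Set (PrimeSpectrum (Aw A))) :=
  (PrimeSpectrum.isClosed_singleton_iff_isMaximal _).mpr (mIdeal_isMaximal z)

theorem eq_mPt_of_isClosed (x : PrimeSpectrum (Aw A))
    (hx : IsClosed ({x} : Set (PrimeSpectrum (Aw A)))) : x = mPt (zPt x.asIdeal) := by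
  haveI := (PrimeSpectrum.isClosed_singleton_iff_isMaximal _).mp hx
  exact PrimeSpectrum.ext (eq_mIdeal_of_isMaximal x.asIdeal)

theorem zPt_mIdeal (z : PrimeSpectrum A) :
    haveI := (mIdeal_isMaximal z).isPrime
    zPt (mIdeal z) = z :=
  PrimeSpectrum.ext (zIdeal_mIdeal z)

theorem closedPoints_eq :
    {x : PrimeSpectrum (Aw A) | IsClosed ({x} : Set (PrimeSpectrum (Aw A)))} =
      PrimeSpectrum.zeroLocus (jIdeal (A := A) : Set (Aw A)) := by
  ext x
  simp only [Set.mem_setOf_eq, PrimeSpectrum.mem_zeroLocus, SetLike.coe_subset_coe]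
  constructor
  · intro hx
    rw [eq_mPt_of_isClosed x hx]
    exact iInf_le _ _
  · intro hx
    have := eq_mIdeal_of_jIdeal_le x.asIdeal hx
    have h2 : x = mPt (zPt x.asIdeal) := PrimeSpectrum.ext this
    rw [h2]
    exact isClosed_mPt _

theorem isWLocal : ProEtW.IsWLocal (PrimeSpectrum (Aw A)) := by
  refine ⟨inferInstance, ?_, ?_⟩
  · rw [closedPoints_eq]
    exact PrimeSpectrum.isClosed_zeroLocus _
  · intro x
    refine ⟨mPt (zPt x.asIdeal), ⟨isClosed_mPt _, ?_⟩, ?_⟩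
    · rw [← PrimeSpectrum.le_iff_specializes]
      exact le_mIdeal x.asIdeal
    · rintro y ⟨hyc, hxy⟩
      rw [← PrimeSpectrum.le_iff_specializes] at hxy
      have h1 := eq_mPt_of_isClosed y hyc
      have h2 : zIdeal x.asIdeal = zIdeal y.asIdeal := zIdeal_eq_of_le x.asIdeal y.asIdeal hxy
      have h3 : zPt x.asIdeal = zPt y.asIdeal := PrimeSpectrum.ext h2
      rw [h1, h3]

theorem comap_mPt (z : PrimeSpectrum A) :
    PrimeSpectrum.comap (algebraMap A (Aw A)) (mPt z) = z :=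
  PrimeSpectrum.ext (comap_mIdeal z)

theorem bijOn_closedPoints :
    Set.BijOn (PrimeSpectrum.comap (algebraMap A (Aw A)))
      (ProEtW.closedPoints (PrimeSpectrum (Aw A))) Set.univ := by
  refine ⟨fun _ _ => Set.mem_univ _, ?_, ?_⟩
  · intro x hx y hy hxy
    rw [eq_mPt_of_isClosed x hx, eq_mPt_of_isClosed y hy] at hxy ⊢
    rw [comap_mPt, comap_mPt] at hxy
    rw [hxy]
  · intro z _
    exact ⟨mPt z, isClosed_mPt z, comap_mPt z⟩

end wlocal

section identifies

variable (𝔮 : Ideal (Aw A)) [h𝔮 : 𝔮.IsPrime]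

theorem comap_le_zIdeal : 𝔮.comap (algebraMap A (Aw A)) ≤ zIdeal 𝔮 := by
  intro a ha
  have h1 : algebraMap A (Aw A) a ∈ mIdeal (zPt 𝔮) := le_mIdeal 𝔮 ha
  rw [mem_mIdeal] at h1
  exact (IsLocalization.AtPrime.to_map_mem_maximal_iff _ (zPt 𝔮).asIdeal a).mp h1

theorem mem_iff_of_proj_eq (u : Aw A) (a b : A) (hb : b ∉ zIdeal 𝔮)
    (h : proj (zPt 𝔮) u * algebraMap A (Localization.AtPrime (zPt 𝔮).asIdeal) b =
      algebraMap A (Localization.AtPrime (zPt 𝔮).asIdeal) a) :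
    u ∈ 𝔮 ↔ algebraMap A (Aw A) a ∈ 𝔮 := by
  have h0 : proj (zPt 𝔮) (u * algebraMap A (Aw A) b - algebraMap A (Aw A) a) = 0 := by
    rw [map_sub, map_mul, AlgHom.commutes, AlgHom.commutes, h, sub_self]
  have h1 := mem_of_proj_eq_zero 𝔮 _ h0
  have hb' : algebraMap A (Aw A) b ∉ 𝔮 := fun hb' => hb (comap_le_zIdeal 𝔮 hb')
  constructor
  · intro hu
    have := 𝔮.sub_mem (𝔮.mul_mem_right (algebraMap A (Aw A) b) hu) h1
    rwa [sub_sub_cancel] at this
  · intro ha
    have := 𝔮.add_mem h1 ha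
    rw [sub_add_cancel] at this
    exact (h𝔮.mem_or_mem this).resolve_right hb'

theorem localRingHom_bijective :
    Function.Bijective (Localization.localRingHom (𝔮.comap (algebraMap A (Aw A))) 𝔮
      (algebraMap A (Aw A)) rfl) := by
  constructor
  · rw [injective_iff_map_eq_zero]
    intro y hy
    obtain ⟨a, s, rfl⟩ := IsLocalization.exists_mk'_eq (𝔮.comap (algebraMap A (Aw A))).primeCompl y
    rw [Localization.localRingHom_mk', IsLocalization.mk'_eq_zero_iff] at hy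
    obtain ⟨t, ht⟩ := hy
    rw [IsLocalization.mk'_eq_zero_iff]
    obtain ⟨c, d, hcd⟩ :=
      IsLocalization.exists_mk'_eq (zPt 𝔮).asIdeal.primeCompl (proj (zPt 𝔮) (t : Aw A))
    have h1 : proj (zPt 𝔮) (t : Aw A) * algebraMap A (Localization.AtPrime (zPt 𝔮).asIdeal) d =
        algebraMap A (Localization.AtPrime (zPt 𝔮).asIdeal) c := by
      rw [← hcd, IsLocalization.mk'_spec]
    have hc : algebraMap A (Aw A) c ∉ 𝔮 :=
      fun hc => t.2 ((mem_iff_of_proj_eq 𝔮 (t : Aw A) c d d.2 h1).mpr hc)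
    have h2 : proj (zPt 𝔮) (t : Aw A) * algebraMap A (Localization.AtPrime (zPt 𝔮).asIdeal) a = 0 := by
      have := congrArg (proj (zPt 𝔮)) ht
      rwa [map_mul, AlgHom.commutes, map_zero] at this
    have h3 : algebraMap A (Localization.AtPrime (zPt 𝔮).asIdeal) (c * a) = 0 := by
      rw [map_mul, ← h1, mul_right_comm, h2, zero_mul]
    obtain ⟨e, he⟩ := (IsLocalization.map_eq_zero_iff (zPt 𝔮).asIdeal.primeCompl _ _).mp h3
    refine ⟨⟨e * c, ?_⟩, ?_⟩
    · intro hec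
      rcases (Ideal.IsPrime.comap (algebraMap A (Aw A)) (K := 𝔮)).mem_or_mem hec with h | h
      · exact e.2 (comap_le_zIdeal 𝔮 h)
      · exact hc h
    · show e * c * a = 0
      rw [mul_assoc]
      exact he
  · intro y
    obtain ⟨s, u, rfl⟩ := IsLocalization.exists_mk'_eq 𝔮.primeCompl y
    obtain ⟨a₁, b₁, h1⟩ :=
      IsLocalization.exists_mk'_eq (zPt 𝔮).asIdeal.primeCompl (proj (zPt 𝔮) s)
    obtain ⟨a₂, b₂, h2⟩ :=
      IsLocalization.exists_mk'_eq (zPt 𝔮).asIdeal.primeCompl (proj (zPt 𝔮) (u : Aw A))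
    have h1' : proj (zPt 𝔮) s * algebraMap A (Localization.AtPrime (zPt 𝔮).asIdeal) b₁ =
        algebraMap A (Localization.AtPrime (zPt 𝔮).asIdeal) a₁ := by
      rw [← h1, IsLocalization.mk'_spec]
    have h2' : proj (zPt 𝔮) (u : Aw A) * algebraMap A (Localization.AtPrime (zPt 𝔮).asIdeal) b₂ =
        algebraMap A (Localization.AtPrime (zPt 𝔮).asIdeal) a₂ := by
      rw [← h2, IsLocalization.mk'_spec]
    have ha₂ : algebraMap A (Aw A) a₂ ∉ 𝔮 :=
      fun hc => u.2 ((mem_iff_of_proj_eq 𝔮 (u : Aw A) a₂ b₂ b₂.2 h2').mpr hc)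
    have hden : (b₁ : A) * a₂ ∈ (𝔮.comap (algebraMap A (Aw A))).primeCompl := by
      intro hec
      rcases (Ideal.IsPrime.comap (algebraMap A (Aw A)) (K := 𝔮)).mem_or_mem hec with h | h
      · exact b₁.2 (comap_le_zIdeal 𝔮 h)
      · exact ha₂ h
    refine ⟨IsLocalization.mk' _ (a₁ * b₂) ⟨(b₁ : A) * a₂, hden⟩, ?_⟩
    rw [Localization.localRingHom_mk', IsLocalization.eq]
    have h0 : proj (zPt 𝔮) ((u : Aw A) * algebraMap A (Aw A) (a₁ * b₂) -
        algebraMap A (Aw A) ((b₁ : A) * a₂) * s) = 0 := by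
      simp only [map_sub, map_mul, AlgHom.commutes]
      rw [← h1', ← h2']
      ring
    obtain ⟨t, ht, hkill⟩ := exists_kill 𝔮 _ h0
    refine ⟨⟨t, ht⟩, ?_⟩
    show t * ((u : Aw A) * algebraMap A (Aw A) (a₁ * b₂)) =
      t * (algebraMap A (Aw A) ((b₁ : A) * a₂) * s)
    rw [← sub_eq_zero, ← mul_sub, mul_comm]
    exact hkill

theorem identifiesLocalRings : EtPBC.IdentifiesLocalRings A (Aw A) :=
  fun q => localRingHom_bijective q.asIdeal

end identifies

end Groth.Agent.Lib.T2H1.WLoc
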