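import Mathlib
import Groth.Prelude.Def_ProEtW
import Groth.Prelude.Def_PBC
import Groth.Agent.Lib.T2H1WLoc
import Groth.Agent.Lib.T2H1IndZarLocal
import Groth.Agent.Lib.Helper3IndEtFlat
import Groth.Agent.S0179
import Groth.Agent.S0180

set_option autoImplicit false
universe u

namespace Groth.Agent.Lib.T2H1.WLocMain

open Groth.Agent.Lib.T2H1.WLoc Groth.Agent.Lib.T2H1.IndZarCrit Groth.Agent.Lib.T2H1.IndZarLocal
open Groth.Agent.Lib.Helper3.IndEt

/-- A w-local spectral space has clopen refinements of open covers. -/
theorem hasClopenRefinements_of_isWLocal (X : Type u) [TopologicalSpace X]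
    (h : ProEtW.IsWLocal X) : HasClopenRefinements X := by
  haveI := h.1
  exact (Groth.Agent.S0179.result X).mpr (Groth.Agent.S0180.result X h.2.1 h.2.2)

/-- A map identifying local rings with w-local target spectrum is ind-Zariski. -/
theorem isIndZariski_of_identifies_of_isWLocal {A B : Type u} [CommRing A] [CommRing B]
    [Algebra A B] (h1 : EtPBC.IdentifiesLocalRings A B)
    (h2 : ProEtW.IsWLocal (PrimeSpectrum B)) : EtPBC.IsIndZariski A B :=
  isIndZariski_of_factor (factor_of_identifies h1 (hasClopenRefinements_of_isWLocal _ h2))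

/-- Ind-Zariski algebras are flat. -/
theorem flat_of_isIndZariski {A B : Type u} [CommRing A] [CommRing B] [Algebra A B]
    (h : EtPBC.IsIndZariski A B) : Module.Flat A B :=
  flat_of_factor' (factor_of_isIndEtale (isIndEtale_of_isIndZariski h))

variable (A : Type u) [CommRing A]

theorem isIndZariski_Aw : EtPBC.IsIndZariski A (Aw A) :=
  isIndZariski_of_identifies_of_isWLocal identifiesLocalRings isWLocal

theorem faithfullyFlat_Aw : Module.FaithfullyFlat A (Aw A) := by
  haveI : Module.Flat A (Aw A) := flat_of_isIndZariski (isIndZariski_Aw A)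
  refine Module.FaithfullyFlat.of_comap_surjective fun z => ⟨mPt z, comap_mPt z⟩

section comp

theorem bijective_localRingHom_of_eq {R S : Type u} [CommRing R] [CommRing S]
    (I I' : Ideal R) [hI : I.IsPrime] [hI' : I'.IsPrime] (J : Ideal S) [J.IsPrime]
    (f g : R →+* S) (hfg : f = g) (h : I = J.comap f) (h' : I' = J.comap g)
    (hb : Function.Bijective (Localization.localRingHom I J f h)) :
    Function.Bijective (Localization.localRingHom I' J g h') := by
  subst hfg
  obtain rfl : I = I' := h.trans h'.symm
  exact hb

/-- Maps identifying local rings compose. -/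
theorem identifies_comp {A B C : Type u} [CommRing A] [CommRing B] [CommRing C] [Algebra A B]
    [Algebra B C] [Algebra A C] [IsScalarTower A B C] (h1 : EtPBC.IdentifiesLocalRings A B)
    (h2 : EtPBC.IdentifiesLocalRings B C) : EtPBC.IdentifiesLocalRings A C := by
  intro q
  have hb1 := h1 (PrimeSpectrum.comap (algebraMap B C) q)
  have hb2 := h2 q
  have key := Localization.localRingHom_comp
    (I := ((PrimeSpectrum.comap (algebraMap B C) q).asIdeal).comap (algebraMap A B))
    (PrimeSpectrum.comap (algebraMap B C) q).asIdeal q.asIdeal (algebraMap A B) rfl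
    (algebraMap B C) rfl
  have hb : Function.Bijective (Localization.localRingHom
      (((PrimeSpectrum.comap (algebraMap B C) q).asIdeal).comap (algebraMap A B)) q.asIdeal
      ((algebraMap B C).comp (algebraMap A B)) (by rw [← Ideal.comap_comap]; rfl)) := by
    rw [key]
    exact hb2.comp hb1
  exact bijective_localRingHom_of_eq _ _ _ _ _ (IsScalarTower.algebraMap_eq A B C).symm _ _ hb

end comp

section S0183

/-- If `A → B` identifies local rings, then `B_w` is ind-Zariski over `A`. -/
theorem isIndZariski_Aw_of_identifies {A B : Type u} [CommRing A] [CommRing B] [Algebra A B]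
    [Algebra A (Aw B)] [IsScalarTower A B (Aw B)] (h : EtPBC.IdentifiesLocalRings A B) :
    EtPBC.IsIndZariski A (Aw B) :=
  isIndZariski_of_identifies_of_isWLocal (identifies_comp h identifiesLocalRings) isWLocal

end S0183

end Groth.Agent.Lib.T2H1.WLocMain
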