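import Mathlib
import Groth.Prelude.Def_PBC
import Groth.Prelude.Def_ProEtW
import Groth.Agent.Lib.T2H1ProfReal
import Groth.Agent.Lib.T2H1IndZarIdent
import Groth.Agent.Lib.T2H1WLocMain
import Groth.Agent.S0704

set_option autoImplicit false
universe u

namespace Groth.Agent.Lib.T2H1.WLocED

open Groth.Agent.Lib.T2H1.ProfReal Groth.Agent.Lib.T2H1.IndZarIdent
open Groth.Agent.Lib.T2H1.WLocMain Groth.Agent.Lib.T2H1.WLoc Topology

/-- A type synonym carrying the discrete topology. -/
structure Disc (K : Type u) where
  val : K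

instance (K : Type u) : TopologicalSpace (Disc K) := ⊥

instance (K : Type u) : DiscreteTopology (Disc K) := ⟨rfl⟩

/-- Every compact Hausdorff space is the image of an extremally disconnected profinite space. -/
theorem exists_extrDisc_cover (K : Type u) [TopologicalSpace K] [CompactSpace K] [T2Space K] :
    ∃ (T : Type u) (_ : TopologicalSpace T) (_ : CompactSpace T) (_ : T2Space T)
      (_ : TotallyDisconnectedSpace T) (_ : ExtremallyDisconnected T) (g : C(T, K)),
      Function.Surjective g := by
  have hf : Continuous (Disc.val : Disc K → K) := continuous_of_discreteTopology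
  haveI : ExtremallyDisconnected (StoneCech (Disc K)) :=
    CompactT2.Projective.extremallyDisconnected (StoneCech.projective (X := Disc K))
  refine ⟨StoneCech (Disc K), inferInstance, inferInstance, inferInstance, inferInstance,
    inferInstance, ⟨stoneCechExtend hf, continuous_stoneCechExtend hf⟩, ?_⟩
  intro k
  exact ⟨stoneCechUnit ⟨k⟩, stoneCechExtend_stoneCechUnit hf ⟨k⟩⟩

/-- w-locality transports along homeomorphisms (the target being known to be spectral). -/
theorem isWLocal_of_homeomorph {X Y : Type u} [TopologicalSpace X] [TopologicalSpace Y]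
    [SpectralSpace Y] (h : X ≃ₜ Y) (hX : ProEtW.IsWLocal X) : ProEtW.IsWLocal Y := by
  have hcl : ∀ x : X, IsClosed ({h x} : Set Y) ↔ IsClosed ({x} : Set X) := by
    intro x
    rw [← h.isClosed_image, Set.image_singleton]
  refine ⟨inferInstance, ?_, ?_⟩
  · have : {y : Y | IsClosed ({y} : Set Y)} = h.symm ⁻¹' {x : X | IsClosed ({x} : Set X)} := by
      ext y
      show IsClosed ({y} : Set Y) ↔ IsClosed ({h.symm y} : Set X)
      rw [← hcl, h.apply_symm_apply]
    rw [this]
    exact hX.2.1.preimage h.symm.continuous
  · intro y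
    obtain ⟨x, ⟨hx1, hx2⟩, hx3⟩ := hX.2.2 (h.symm y)
    refine ⟨h x, ⟨(hcl x).mpr hx1, ?_⟩, ?_⟩
    · have := hx2.map h.continuous
      rwa [h.apply_symm_apply] at this
    · rintro y' ⟨hy1, hy2⟩
      have h1 : IsClosed ({h.symm y'} : Set X) := by
        rw [← hcl, h.apply_symm_apply]
        exact hy1
      have h2 : h.symm y ⤳ h.symm y' := hy2.map h.symm.continuous
      rw [← hx3 (h.symm y') ⟨h1, h2⟩, h.apply_symm_apply]

section main

variable (A : Type u) [CommRing A] (T : Type u) [TopologicalSpace T] [CompactSpace T] [T2Space T]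
  [TotallyDisconnectedSpace T] (g : C(T, ConnectedComponents (PrimeSpectrum A)))

theorem isWLocal_BB (hA : ProEtW.IsWLocal (PrimeSpectrum A)) :
    ProEtW.IsWLocal (PrimeSpectrum (BB A T g)) :=
  isWLocal_of_homeomorph (hB A T g).symm (Groth.Agent.S0704.result (PrimeSpectrum A) T hA g).1

theorem comap_surjective_BB (hg : Function.Surjective g) :
    Function.Surjective (PrimeSpectrum.comap (algebraMap A (BB A T g))) := by
  intro x
  obtain ⟨t, ht⟩ := hg (ConnectedComponents.mk x)
  have hmem : (x, t) ∈ W A T g := ht.symm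
  rw [← range_rho] at hmem
  obtain ⟨y, hy⟩ := hmem
  refine ⟨y, ?_⟩
  rw [← rho_fst, hy]

theorem faithfullyFlat_BB (hg : Function.Surjective g) : Module.FaithfullyFlat A (BB A T g) := by
  haveI : Module.Flat A (BB A T g) := flat_of_isIndZariski (isIndZariski_BB A T g)
  exact Module.FaithfullyFlat.of_comap_surjective (comap_surjective_BB A T g hg)

end main

/-- A w-local ring has a faithfully flat ind-Zariski extension which is w-local with extremally
disconnected `π₀`, the map on spectra being w-local. -/
theorem exists_wLocal_extrDisc_of_isWLocal (A : Type u) [CommRing A]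
    (hA : ProEtW.IsWLocal (PrimeSpectrum A)) :
    ∃ (B : Type u) (_ : CommRing B) (_ : Algebra A B),
      Module.FaithfullyFlat A B ∧ EtPBC.IsIndZariski A B ∧ ProEtW.IsWLocal (PrimeSpectrum B) ∧
        ExtremallyDisconnected (ConnectedComponents (PrimeSpectrum B)) := by
  haveI : T2Space (ConnectedComponents (PrimeSpectrum A)) :=
    Groth.Agent.Lib.Helper10.Pi0.t2Space_connectedComponents
  obtain ⟨T, _, _, _, _, _, g, hg⟩ :=
    exists_extrDisc_cover (ConnectedComponents (PrimeSpectrum A))
  obtain ⟨e, -, -, -, -⟩ := main A T g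
  exact ⟨BB A T g, inferInstance, inferInstance, faithfullyFlat_BB A T g hg,
    isIndZariski_BB A T g, isWLocal_BB A T g hA, extremallyDisconnected_of_homeo e.symm⟩

/-- Every ring has a faithfully flat ind-Zariski extension which is w-local with extremally
disconnected `π₀`. -/
theorem exists_wLocal_extrDisc (A : Type u) [CommRing A] :
    ∃ (B : Type u) (_ : CommRing B) (_ : Algebra A B),
      Module.FaithfullyFlat A B ∧ EtPBC.IsIndZariski A B ∧ ProEtW.IsWLocal (PrimeSpectrum B) ∧
        ExtremallyDisconnected (ConnectedComponents (PrimeSpectrum B)) := by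
  obtain ⟨B, _, _, h1, h2, h3, h4⟩ := exists_wLocal_extrDisc_of_isWLocal (Aw A) isWLocal
  letI : Algebra A B := ((algebraMap (Aw A) B).comp (algebraMap A (Aw A))).toAlgebra
  haveI : IsScalarTower A (Aw A) B := IsScalarTower.of_algebraMap_eq (fun _ => rfl)
  haveI := faithfullyFlat_Aw A
  refine ⟨B, inferInstance, inferInstance, Module.FaithfullyFlat.trans A (Aw A) B, ?_, h3, h4⟩
  exact isIndZariski_of_identifies_of_isWLocal
    (identifies_comp identifiesLocalRings (identifies_of_isIndZariski h2)) h3

end Groth.Agent.Lib.T2H1.WLocED
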