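import Mathlib
import Groth.Prelude.Def_ProEtW
import Groth.Agent.S0180

set_option autoImplicit false
universe u
open TensorProduct

namespace Groth.Agent.Lib.T2H1.WLocalRing

variable {A B : Type u} [CommRing A] [CommRing B] [Algebra A B]

/-- Lifting generizations when the local rings at `q₀` are identified. -/
theorem exists_prime_of_le (q₀ : Ideal B) [q₀.IsPrime]
    (hφ : Function.Bijective
      (Localization.localRingHom (q₀.comap (algebraMap A B)) q₀ (algebraMap A B) rfl))
    (P : Ideal A) [hPp : P.IsPrime] (hP : P ≤ q₀.comap (algebraMap A B)) :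
    ∃ Q : Ideal B, Q.IsPrime ∧ Q ≤ q₀ ∧ Q.comap (algebraMap A B) = P := by
  set p₀ := q₀.comap (algebraMap A B) with hp₀
  set φ := Localization.localRingHom p₀ q₀ (algebraMap A B) rfl with hφdef
  have hdisj : Disjoint (p₀.primeCompl : Set A) (P : Set A) := by
    rw [Set.disjoint_left]
    intro x hx hxP
    exact hx (hP hxP)
  set P' := P.map (algebraMap A (Localization.AtPrime p₀)) with hP'
  haveI hP'p : P'.IsPrime :=
    IsLocalization.isPrime_of_isPrime_disjoint p₀.primeCompl _ P hPp hdisj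
  have hcomapP' : P'.comap (algebraMap A (Localization.AtPrime p₀)) = P :=
    IsLocalization.comap_map_of_isPrime_disjoint p₀.primeCompl _ hPp hdisj
  let ψ := RingEquiv.ofBijective φ hφ
  set Q' : Ideal (Localization.AtPrime q₀) :=
    P'.comap (ψ.symm : Localization.AtPrime q₀ →+* Localization.AtPrime p₀) with hQ'
  haveI hQ'p : Q'.IsPrime := Ideal.comap_isPrime _ _
  refine ⟨Q'.comap (algebraMap B (Localization.AtPrime q₀)), Ideal.comap_isPrime _ _, ?_, ?_⟩
  · have h1 : Q' ≤ IsLocalRing.maximalIdeal (Localization.AtPrime q₀) :=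
      IsLocalRing.le_maximalIdeal hQ'p.ne_top
    have h2 := Ideal.comap_mono (f := algebraMap B (Localization.AtPrime q₀)) h1
    have h3 := IsLocalization.AtPrime.comap_maximalIdeal (Localization.AtPrime q₀) q₀
    rw [Ideal.under_def] at h3
    rwa [h3] at h2
  · ext x
    rw [Ideal.mem_comap, Ideal.mem_comap, hQ', Ideal.mem_comap]
    have h1 : algebraMap B (Localization.AtPrime q₀) (algebraMap A B x) =
        ψ (algebraMap A (Localization.AtPrime p₀) x) := by
      show _ = φ _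
      rw [hφdef, Localization.localRingHom_to_map]
    rw [h1]
    show ψ.symm (ψ _) ∈ P' ↔ _
    rw [RingEquiv.symm_apply_apply, ← Ideal.mem_comap, hcomapP']

/-- Generizations of `q₀` are determined by their images when local rings are identified. -/
theorem eq_of_comap_eq (q₀ : Ideal B) [q₀.IsPrime]
    (hφ : Function.Surjective
      (Localization.localRingHom (q₀.comap (algebraMap A B)) q₀ (algebraMap A B) rfl))
    (Q₁ Q₂ : Ideal B) [h1p : Q₁.IsPrime] [h2p : Q₂.IsPrime] (h₁ : Q₁ ≤ q₀) (h₂ : Q₂ ≤ q₀)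
    (h : Q₁.comap (algebraMap A B) = Q₂.comap (algebraMap A B)) : Q₁ = Q₂ := by
  set p₀ := q₀.comap (algebraMap A B) with hp₀
  set φ := Localization.localRingHom p₀ q₀ (algebraMap A B) rfl with hφdef
  have hd : ∀ Q : Ideal B, Q ≤ q₀ → Disjoint (q₀.primeCompl : Set B) (Q : Set B) := by
    intro Q hQ
    rw [Set.disjoint_left]
    intro x hx hxQ
    exact hx (hQ hxQ)
  have hc : ∀ Q : Ideal B, Q.IsPrime → Q ≤ q₀ →
      (Q.map (algebraMap B (Localization.AtPrime q₀))).comap
        (algebraMap B (Localization.AtPrime q₀)) = Q := fun Q hQp hQ =>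
    IsLocalization.comap_map_of_isPrime_disjoint q₀.primeCompl _ hQp (hd Q hQ)
  have key : ∀ Q : Ideal B, Q.IsPrime → Q ≤ q₀ →
      ((Q.map (algebraMap B (Localization.AtPrime q₀))).comap φ).comap
        (algebraMap A (Localization.AtPrime p₀)) = Q.comap (algebraMap A B) := by
    intro Q hQp hQ
    ext x
    rw [Ideal.mem_comap, Ideal.mem_comap, Ideal.mem_comap, hφdef,
      Localization.localRingHom_to_map, ← Ideal.mem_comap, hc Q hQp hQ]
  have h3 : (Q₁.map (algebraMap B (Localization.AtPrime q₀))).comap φ =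
      (Q₂.map (algebraMap B (Localization.AtPrime q₀))).comap φ := by
    have e1 := IsLocalization.map_comap p₀.primeCompl (Localization.AtPrime p₀)
        ((Q₁.map (algebraMap B (Localization.AtPrime q₀))).comap φ)
    have e2 := IsLocalization.map_comap p₀.primeCompl (Localization.AtPrime p₀)
        ((Q₂.map (algebraMap B (Localization.AtPrime q₀))).comap φ)
    rw [Ideal.under_def, key Q₁ h1p h₁] at e1
    rw [Ideal.under_def, key Q₂ h2p h₂] at e2
    rw [← e1, ← e2, h]
  have h4 := Ideal.comap_injective_of_surjective φ hφ h3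
  rw [← hc Q₁ h1p h₁, ← hc Q₂ h2p h₂, h4]

section main

variable (A B)
variable (h1 : EtPBC.IdentifiesLocalRings A B) (h2 : ProEtW.IsWLocal (PrimeSpectrum A))
    (h3 : ProEtW.IsWLocal (PrimeSpectrum B))
    (h4 : ProEtW.IsWLocalMap (PrimeSpectrum.comap (algebraMap A B)))
    (h5 : Function.Bijective
      (PrimeSpectrum.continuous_comap (algebraMap A B)).connectedComponentsMap)

include h1 h2 h3 h4 h5 in
theorem comap_surjective : Function.Surjective (PrimeSpectrum.comap (algebraMap A B)) := by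
  intro x
  obtain ⟨x₀, ⟨hx₀c, hxx₀⟩, -⟩ := h2.2.2 x
  have FX := Groth.Agent.S0180.result (PrimeSpectrum A) h2.2.1 h2.2.2
  have FY := Groth.Agent.S0180.result (PrimeSpectrum B) h3.2.1 h3.2.2
  obtain ⟨c, hc⟩ := h5.2 (ConnectedComponents.mk x₀)
  obtain ⟨⟨y₀, hy₀⟩, hy₀c⟩ := FY.2 c
  have hfy₀ : IsClosed ({PrimeSpectrum.comap (algebraMap A B) y₀} : Set (PrimeSpectrum A)) :=
    h4.2 y₀ hy₀
  have hmk : (ConnectedComponents.mk (PrimeSpectrum.comap (algebraMap A B) y₀) :
      ConnectedComponents (PrimeSpectrum A)) = ConnectedComponents.mk x₀ := by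
    rw [← hc, ← hy₀c]
    rfl
  have heq : PrimeSpectrum.comap (algebraMap A B) y₀ = x₀ :=
    congrArg Subtype.val (FX.1 (a₁ := ⟨_, hfy₀⟩) (a₂ := ⟨x₀, hx₀c⟩) hmk)
  have hle : x.asIdeal ≤ y₀.asIdeal.comap (algebraMap A B) := by
    rw [← PrimeSpectrum.le_iff_specializes, ← heq] at hxx₀
    exact hxx₀
  obtain ⟨Q, hQp, -, hQc⟩ := exists_prime_of_le y₀.asIdeal (h1 y₀) x.asIdeal hle
  exact ⟨⟨Q, hQp⟩, PrimeSpectrum.ext hQc⟩

include h1 h2 h3 h4 h5 in
theorem comap_injective : Function.Injective (PrimeSpectrum.comap (algebraMap A B)) := by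
  intro y₁ y₂ h
  have FY := Groth.Agent.S0180.result (PrimeSpectrum B) h3.2.1 h3.2.2
  obtain ⟨z₁, ⟨hz₁c, hy₁z₁⟩, -⟩ := h3.2.2 y₁
  obtain ⟨z₂, ⟨hz₂c, hy₂z₂⟩, -⟩ := h3.2.2 y₂
  have hcont := PrimeSpectrum.continuous_comap (algebraMap A B)
  have s1 := hy₁z₁.map hcont
  have s2 := hy₂z₂.map hcont
  rw [← h] at s2
  obtain ⟨w, -, huniq⟩ := h2.2.2 (PrimeSpectrum.comap (algebraMap A B) y₁)
  have e1 := huniq _ ⟨h4.2 z₁ hz₁c, s1⟩
  have e2 := huniq _ ⟨h4.2 z₂ hz₂c, s2⟩
  have hmk : (ConnectedComponents.mk z₁ : ConnectedComponents (PrimeSpectrum B)) =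
      ConnectedComponents.mk z₂ := by
    apply h5.1
    show ConnectedComponents.mk (PrimeSpectrum.comap (algebraMap A B) z₁) =
      ConnectedComponents.mk (PrimeSpectrum.comap (algebraMap A B) z₂)
    rw [e1, e2]
  have hz : z₁ = z₂ := congrArg Subtype.val (FY.1 (a₁ := ⟨z₁, hz₁c⟩) (a₂ := ⟨z₂, hz₂c⟩) hmk)
  subst hz
  rw [← PrimeSpectrum.le_iff_specializes] at hy₁z₁ hy₂z₂
  exact PrimeSpectrum.ext (eq_of_comap_eq z₁.asIdeal (h1 z₁).2 y₁.asIdeal y₂.asIdeal hy₁z₁ hy₂z₂
    (congrArg PrimeSpectrum.asIdeal h))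

include h1 h2 h3 h4 h5 in
/-- An element outside the prime over a maximal ideal `J` divides an element of `A ∖ J`. -/
theorem exists_mul_eq_algebraMap (q : PrimeSpectrum B)
    (hJ : (q.asIdeal.comap (algebraMap A B)).IsMaximal) (t : B) (ht : t ∉ q.asIdeal) :
    ∃ m, m ∉ q.asIdeal.comap (algebraMap A B) ∧ ∃ t'', t * t'' = algebraMap A B m := by
  by_contra hcon
  push_neg at hcon
  set J := q.asIdeal.comap (algebraMap A B) with hJdef
  have hdisj : Disjoint ((Ideal.span {t} : Ideal B) : Set B)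
      (Algebra.algebraMapSubmonoid B J.primeCompl : Set B) := by
    rw [Set.disjoint_left]
    rintro x hx ⟨m, hm, rfl⟩
    obtain ⟨a, ha⟩ := Ideal.mem_span_singleton'.mp hx
    exact hcon m hm a (by rw [mul_comm, ha])
  obtain ⟨Q, hQp, hQle, hQd⟩ := Ideal.exists_le_prime_disjoint (Ideal.span {t}) _ hdisj
  have hQJ : Q.comap (algebraMap A B) ≤ J := by
    intro a ha
    by_contra haJ
    exact Set.disjoint_left.mp hQd ha ⟨a, haJ, rfl⟩
  obtain ⟨z, ⟨hzc, hyz⟩, -⟩ := h3.2.2 (⟨Q, hQp⟩ : PrimeSpectrum B)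
  have hcont := PrimeSpectrum.continuous_comap (algebraMap A B)
  have s1 := hyz.map hcont
  obtain ⟨w, -, huniq⟩ := h2.2.2 (PrimeSpectrum.comap (algebraMap A B) ⟨Q, hQp⟩)
  have e1 := huniq _ ⟨h4.2 z hzc, s1⟩
  have hJc : IsClosed ({(⟨J, hJ.isPrime⟩ : PrimeSpectrum A)} : Set (PrimeSpectrum A)) :=
    (PrimeSpectrum.isClosed_singleton_iff_isMaximal _).mpr hJ
  have s2 : PrimeSpectrum.comap (algebraMap A B) ⟨Q, hQp⟩ ⤳ (⟨J, hJ.isPrime⟩ : PrimeSpectrum A) := by
    rw [← PrimeSpectrum.le_iff_specializes]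
    exact hQJ
  have e2 := huniq _ ⟨hJc, s2⟩
  have hzq : z = q := by
    apply comap_injective A B h1 h2 h3 h4 h5
    rw [e1, ← e2]
    exact PrimeSpectrum.ext rfl
  rw [hzq, ← PrimeSpectrum.le_iff_specializes] at hyz
  exact ht (hyz (hQle (Ideal.mem_span_singleton_self t)))

include h1 h2 h3 h4 h5 in
theorem algebraMap_bijective : Function.Bijective (algebraMap A B) := by
  constructor
  · rw [injective_iff_map_eq_zero]
    intro a ha
    apply eq_zero_of_localization
    intro J hJ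
    obtain ⟨q, hq⟩ := comap_surjective A B h1 h2 h3 h4 h5 ⟨J, hJ.isPrime⟩
    have hJq : q.asIdeal.comap (algebraMap A B) = J := congrArg PrimeSpectrum.asIdeal hq
    subst hJq
    apply (h1 q).1
    rw [map_zero, Localization.localRingHom_to_map, ha, map_zero]
  · intro b
    set 𝔞 : Ideal A := (LinearMap.range (Algebra.linearMap A B)).colon {b} with h𝔞
    have htop : 𝔞 = ⊤ := by
      by_contra hne
      obtain ⟨J, hJ, hle⟩ := Ideal.exists_le_maximal _ hne
      obtain ⟨q, hq⟩ := comap_surjective A B h1 h2 h3 h4 h5 ⟨J, hJ.isPrime⟩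
      have hJq : q.asIdeal.comap (algebraMap A B) = J := congrArg PrimeSpectrum.asIdeal hq
      subst hJq
      obtain ⟨r, hr⟩ := (h1 q).2 (algebraMap B (Localization.AtPrime q.asIdeal) b)
      obtain ⟨a, s, rfl⟩ := IsLocalization.exists_mk'_eq
        (q.asIdeal.comap (algebraMap A B)).primeCompl r
      rw [Localization.localRingHom_mk', IsLocalization.mk'_eq_iff_eq_mul, ← map_mul,
        IsLocalization.eq_iff_exists q.asIdeal.primeCompl] at hr
      obtain ⟨t, ht⟩ := hr
      obtain ⟨m, hm, t'', ht''⟩ :=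
        exists_mul_eq_algebraMap A B h1 h2 h3 h4 h5 q hJ (t : B) t.2
      have hmem : m * (s : A) ∈ 𝔞 := by
        rw [h𝔞, Submodule.mem_colon_singleton]
        refine ⟨m * a, ?_⟩
        show algebraMap A B (m * a) = (m * (s : A)) • b
        rw [Algebra.smul_def, map_mul, map_mul, ← ht'']
        have := congrArg (fun x => t'' * x) ht
        simp only at this
        linear_combination this
      have := hle hmem
      rcases (hJ.isPrime.mem_or_mem this) with h | h
      · exact hm h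
      · exact s.2 h
    have h1mem : (1 : A) ∈ 𝔞 := by rw [htop]; trivial
    rw [h𝔞, Submodule.mem_colon_singleton, one_smul] at h1mem
    obtain ⟨a, ha⟩ := h1mem
    exact ⟨a, ha⟩

end main

end Groth.Agent.Lib.T2H1.WLocalRing
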