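import Mathlib
import Groth.Prelude.Def_PBC
import Groth.Prelude.Def_ProEtW
import Groth.Agent.Lib.T2H1WLocED
import Groth.Agent.Lib.T2H1WLocalRing
import Groth.Agent.Lib.Helper10ProCons
import Groth.Agent.S0698
import Groth.Agent.S0699
import Groth.Agent.S0738
import Groth.Agent.S0180

set_option autoImplicit false
universe u

namespace Groth.Agent.Lib.T2H1.IndZarRetr

open Groth.Agent.Lib.T2H1.ProfReal Groth.Agent.Lib.T2H1.IndZarIdent
open Groth.Agent.Lib.T2H1.WLocMain Groth.Agent.Lib.T2H1.WLoc Groth.Agent.Lib.T2H1.WLocED Topology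

section forward

variable {A : Type u} [CommRing A]

theorem isWLocal_of_retractions (h : ProEtW.HasIndZariskiRetractions A) :
    ProEtW.IsWLocal (PrimeSpectrum A) := by
  obtain ⟨r⟩ := h (Aw A) (faithfullyFlat_Aw A) (isIndZariski_Aw A)
  have hr : Function.Surjective r.toRingHom := fun a => ⟨algebraMap A (Aw A) a, r.commutes a⟩
  have hemb := PrimeSpectrum.isClosedEmbedding_comap_of_surjective _ r.toRingHom hr
  have := Groth.Agent.S0738.result (PrimeSpectrum (Aw A)) isWLocal
    (Set.range (PrimeSpectrum.comap r.toRingHom)) hemb.isClosed_range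
  exact isWLocal_of_homeomorph hemb.isEmbedding.toHomeomorph.symm this

/-- A retract of an extremally disconnected compact Hausdorff space is extremally disconnected. -/
theorem extrDisc_of_retract {K T : Type u} [TopologicalSpace K] [TopologicalSpace T]
    [CompactSpace K] [T2Space K] [CompactSpace T] [T2Space T] [ExtremallyDisconnected T]
    (g : C(T, K)) (s : C(K, T)) (h : ∀ k, g (s k) = k) : ExtremallyDisconnected K := by
  apply CompactT2.Projective.extremallyDisconnected
  intro Y Z _ _ _ _ _ _ f p hf hp hsurj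
  obtain ⟨h', hh', hcomp⟩ :=
    CompactT2.ExtremallyDisconnected.projective (A := T) (hf.comp g.continuous) hp hsurj
  refine ⟨h' ∘ s, hh'.comp s.continuous, ?_⟩
  funext k
  have := congrFun hcomp (s k)
  simp only [Function.comp_apply] at this ⊢
  rw [this, h]

theorem extrDisc_of_retractions (h : ProEtW.HasIndZariskiRetractions A) :
    ExtremallyDisconnected (ConnectedComponents (PrimeSpectrum A)) := by
  haveI : T2Space (ConnectedComponents (PrimeSpectrum A)) :=
    Groth.Agent.Lib.Helper10.Pi0.t2Space_connectedComponents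
  obtain ⟨T, _, _, _, _, _, g, hg⟩ :=
    exists_extrDisc_cover (ConnectedComponents (PrimeSpectrum A))
  obtain ⟨e, -, hcompat, -, -⟩ := main A T g
  obtain ⟨r⟩ := h (BB A T g) (faithfullyFlat_BB A T g hg) (isIndZariski_BB A T g)
  have hcont : Continuous (PrimeSpectrum.comap r.toRingHom) := PrimeSpectrum.continuous_comap _
  have hσ : ∀ x, PrimeSpectrum.comap (algebraMap A (BB A T g)) (PrimeSpectrum.comap r.toRingHom x)
      = x := by
    intro x
    rw [← PrimeSpectrum.comap_comp_apply]
    have : r.toRingHom.comp (algebraMap A (BB A T g)) = RingHom.id A := by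
      ext a
      exact r.commutes a
    rw [this, PrimeSpectrum.comap_id]
  let s : C(ConnectedComponents (PrimeSpectrum A), T) :=
    ⟨e ∘ hcont.connectedComponentsMap,
      e.continuous.comp hcont.connectedComponentsMap_continuous⟩
  refine extrDisc_of_retract g s ?_
  intro k
  obtain ⟨x, rfl⟩ := ConnectedComponents.surjective_coe k
  show g (e (ConnectedComponents.mk (PrimeSpectrum.comap r.toRingHom x))) = ConnectedComponents.mk x
  rw [hcompat, hσ]

end forward

section lemmaR

/-- The closed points of a w-local space are homeomorphic to its `π₀`. -/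
noncomputable def closedPtsHomeo {X : Type u} [TopologicalSpace X] (hX : ProEtW.IsWLocal X) :
    {x : X // IsClosed ({x} : Set X)} ≃ₜ ConnectedComponents X := by
  haveI := hX.1
  haveI : CompactSpace {x : X // IsClosed ({x} : Set X)} :=
    isCompact_iff_compactSpace.mp hX.2.1.isCompact
  haveI : T2Space (ConnectedComponents X) :=
    Groth.Agent.Lib.Helper10.Pi0.t2Space_connectedComponents
  exact Continuous.homeoOfEquivCompactToT2
    (f := Equiv.ofBijective _ (Groth.Agent.S0180.result X hX.2.1 hX.2.2))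
    (ConnectedComponents.continuous_coe.comp continuous_subtype_val)

theorem closedPtsHomeo_apply {X : Type u} [TopologicalSpace X] (hX : ProEtW.IsWLocal X)
    (x : {x : X // IsClosed ({x} : Set X)}) :
    closedPtsHomeo hX x = ConnectedComponents.mk x.1 := rfl

theorem eq_of_mk_eq_of_isClosed {X : Type u} [TopologicalSpace X] (hX : ProEtW.IsWLocal X)
    {x y : X} (hx : IsClosed ({x} : Set X)) (hy : IsClosed ({y} : Set X))
    (h : (ConnectedComponents.mk x : ConnectedComponents X) = ConnectedComponents.mk y) :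
    x = y := by
  have := (closedPtsHomeo hX).injective (a₁ := ⟨x, hx⟩) (a₂ := ⟨y, hy⟩) h
  exact congrArg Subtype.val this

variable {A C : Type u} [CommRing A] [CommRing C] [Algebra A C]

/-- Points over closed points are closed, when local rings are identified and the source is
w-local. -/
theorem isClosed_of_isClosed_comap (h1 : EtPBC.IdentifiesLocalRings A C)
    (hC : ProEtW.IsWLocal (PrimeSpectrum C)) (y : PrimeSpectrum C)
    (hy : IsClosed ({PrimeSpectrum.comap (algebraMap A C) y} : Set (PrimeSpectrum A))) :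
    IsClosed ({y} : Set (PrimeSpectrum C)) := by
  obtain ⟨y', ⟨hy'c, hyy'⟩, -⟩ := hC.2.2 y
  have hf : PrimeSpectrum.comap (algebraMap A C) y ⤳ PrimeSpectrum.comap (algebraMap A C) y' :=
    hyy'.map (PrimeSpectrum.continuous_comap _)
  have heq : PrimeSpectrum.comap (algebraMap A C) y' = PrimeSpectrum.comap (algebraMap A C) y :=
    hf.mem_closed hy rfl
  have hle : y.asIdeal ≤ y'.asIdeal := (PrimeSpectrum.le_iff_specializes y y').mpr hyy'
  have h2 : y.asIdeal = y'.asIdeal :=
    Groth.Agent.Lib.T2H1.WLocalRing.eq_of_comap_eq y'.asIdeal (h1 y').2 y.asIdeal y'.asIdeal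
      hle le_rfl (congrArg PrimeSpectrum.asIdeal heq.symm)
  have h3 : y = y' := PrimeSpectrum.ext h2
  rw [h3]
  exact hy'c

set_option maxHeartbeats 1000000 in
/-- **Lemma R**: a surjective (on spectra) map identifying local rings, from a w-local ring with
extremally disconnected `π₀` to a w-local ring, has a retraction. -/
theorem exists_retraction_of_identifies (h1 : EtPBC.IdentifiesLocalRings A C)
    (hA : ProEtW.IsWLocal (PrimeSpectrum A))
    (hED : ExtremallyDisconnected (ConnectedComponents (PrimeSpectrum A)))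
    (hC : ProEtW.IsWLocal (PrimeSpectrum C))
    (hsurj : Function.Surjective (PrimeSpectrum.comap (algebraMap A C))) :
    Nonempty (C →ₐ[A] A) := by
  haveI : T2Space (ConnectedComponents (PrimeSpectrum A)) :=
    Groth.Agent.Lib.Helper10.Pi0.t2Space_connectedComponents
  haveI : T2Space (ConnectedComponents (PrimeSpectrum C)) :=
    Groth.Agent.Lib.Helper10.Pi0.t2Space_connectedComponents
  -- the closed points of `Spec A`
  haveI hXc_compact : CompactSpace {x : PrimeSpectrum A // IsClosed ({x} : Set (PrimeSpectrum A))} :=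
    isCompact_iff_compactSpace.mp hA.2.1.isCompact
  haveI hXc_t2 : T2Space {x : PrimeSpectrum A // IsClosed ({x} : Set (PrimeSpectrum A))} :=
    (closedPtsHomeo hA).isEmbedding.t2Space
  haveI hXc_ed :
      ExtremallyDisconnected {x : PrimeSpectrum A // IsClosed ({x} : Set (PrimeSpectrum A))} :=
    extremallyDisconnected_of_homeo (closedPtsHomeo hA).symm
  -- the points of `Spec C` over closed points
  have hY₀closed : IsClosed {y : PrimeSpectrum C |
      IsClosed ({PrimeSpectrum.comap (algebraMap A C) y} : Set (PrimeSpectrum A))} :=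
    hA.2.1.preimage (PrimeSpectrum.continuous_comap (algebraMap A C))
  haveI hY₀_compact : CompactSpace {y : PrimeSpectrum C //
      IsClosed ({PrimeSpectrum.comap (algebraMap A C) y} : Set (PrimeSpectrum A))} :=
    isCompact_iff_compactSpace.mp hY₀closed.isCompact
  let ι : {y : PrimeSpectrum C //
      IsClosed ({PrimeSpectrum.comap (algebraMap A C) y} : Set (PrimeSpectrum A))} →
      {y : PrimeSpectrum C // IsClosed ({y} : Set (PrimeSpectrum C))} :=
    fun y => ⟨y.1, isClosed_of_isClosed_comap h1 hC y.1 y.2⟩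
  have hι : IsEmbedding ι := by
    refine IsEmbedding.of_comp (f := ι) (g := Subtype.val) ?_ continuous_subtype_val
      IsEmbedding.subtypeVal
    exact Continuous.subtype_mk continuous_subtype_val _
  haveI hYc_t2 : T2Space {y : PrimeSpectrum C // IsClosed ({y} : Set (PrimeSpectrum C))} :=
    (closedPtsHomeo hC).isEmbedding.t2Space
  haveI hY₀_t2 : T2Space {y : PrimeSpectrum C //
      IsClosed ({PrimeSpectrum.comap (algebraMap A C) y} : Set (PrimeSpectrum A))} :=
    hι.t2Space
  let f₀ : {y : PrimeSpectrum C //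
      IsClosed ({PrimeSpectrum.comap (algebraMap A C) y} : Set (PrimeSpectrum A))} →
      {x : PrimeSpectrum A // IsClosed ({x} : Set (PrimeSpectrum A))} :=
    fun y => ⟨PrimeSpectrum.comap (algebraMap A C) y.1, y.2⟩
  have hf₀ : Continuous f₀ :=
    Continuous.subtype_mk ((PrimeSpectrum.continuous_comap _).comp continuous_subtype_val) _
  have hf₀s : Function.Surjective f₀ := by
    rintro ⟨x, hx⟩
    obtain ⟨y, rfl⟩ := hsurj x
    exact ⟨⟨y, hx⟩, rfl⟩
  obtain ⟨σ, hσc, hσ⟩ := CompactT2.ExtremallyDisconnected.projective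
    (A := {x : PrimeSpectrum A // IsClosed ({x} : Set (PrimeSpectrum A))})
    (continuous_id) hf₀ hf₀s
  have hσ' : ∀ x, PrimeSpectrum.comap (algebraMap A C) (σ x).1 = x.1 := fun x =>
    congrArg Subtype.val (congrFun hσ x)
  have hσcl : ∀ x, IsClosed ({(σ x).1} : Set (PrimeSpectrum C)) := fun x =>
    isClosed_of_isClosed_comap h1 hC (σ x).1 (σ x).2
  -- the closed subset of `π₀(Spec C)`
  have hZ' : IsClosed (Set.range (fun x => (ConnectedComponents.mk (σ x).1 :
      ConnectedComponents (PrimeSpectrum C)))) :=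
    (isCompact_range (ConnectedComponents.continuous_coe.comp
      (continuous_subtype_val.comp hσc))).isClosed
  obtain ⟨B₂, _, _, hB₂ind, hB₂surj, hB₂emb, hB₂range⟩ :=
    Groth.Agent.S0698.result C _ hZ'
  letI : Algebra A B₂ := ((algebraMap C B₂).comp (algebraMap A C)).toAlgebra
  haveI : IsScalarTower A C B₂ := IsScalarTower.of_algebraMap_eq (fun _ => rfl)
  have hcomapfac : ∀ y₂ : PrimeSpectrum B₂, PrimeSpectrum.comap (algebraMap A B₂) y₂ =
      PrimeSpectrum.comap (algebraMap A C) (PrimeSpectrum.comap (algebraMap C B₂) y₂) :=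
    fun y₂ => rfl
  have hcemb := PrimeSpectrum.isClosedEmbedding_comap_of_surjective _ (algebraMap C B₂) hB₂surj
  -- w-locality
  have hB₂wl : ProEtW.IsWLocal (PrimeSpectrum B₂) := by
    have := Groth.Agent.S0738.result (PrimeSpectrum C) hC
      (Set.range (PrimeSpectrum.comap (algebraMap C B₂))) hcemb.isClosed_range
    exact isWLocal_of_homeomorph hcemb.isEmbedding.toHomeomorph.symm this
  have hcl_iff : ∀ y₂ : PrimeSpectrum B₂, IsClosed ({y₂} : Set (PrimeSpectrum B₂)) →
      IsClosed ({PrimeSpectrum.comap (algebraMap C B₂) y₂} : Set (PrimeSpectrum C)) := by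
    intro y₂ h
    have := hcemb.isClosedMap _ h
    rwa [Set.image_singleton] at this
  have hcl_of : ∀ y₂ : PrimeSpectrum B₂,
      IsClosed ({PrimeSpectrum.comap (algebraMap C B₂) y₂} : Set (PrimeSpectrum C)) →
      IsClosed ({y₂} : Set (PrimeSpectrum B₂)) := by
    intro y₂ h
    have h2 := h.preimage (PrimeSpectrum.continuous_comap (algebraMap C B₂))
    have h3 : (PrimeSpectrum.comap (algebraMap C B₂)) ⁻¹'
        {PrimeSpectrum.comap (algebraMap C B₂) y₂} = {y₂} := by
      ext z
      simp only [Set.mem_preimage, Set.mem_singleton_iff]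
      exact ⟨fun hz => hcemb.injective hz, fun hz => by rw [hz]⟩
    rwa [h3] at h2
  -- closed points of `Spec B₂` come from the section
  have key : ∀ y₂ : PrimeSpectrum B₂, IsClosed ({y₂} : Set (PrimeSpectrum B₂)) →
      ∃ x, PrimeSpectrum.comap (algebraMap C B₂) y₂ = (σ x).1 := by
    intro y₂ hy₂
    have hmem : PrimeSpectrum.comap (algebraMap C B₂) y₂ ∈
        Set.range (PrimeSpectrum.comap (algebraMap C B₂)) := Set.mem_range_self y₂
    rw [hB₂range] at hmem
    obtain ⟨x, hx⟩ := hmem
    exact ⟨x, (eq_of_mk_eq_of_isClosed hC (hσcl x) (hcl_iff y₂ hy₂) hx).symm⟩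
  have key2 : ∀ x, ∃ y₂ : PrimeSpectrum B₂, IsClosed ({y₂} : Set (PrimeSpectrum B₂)) ∧
      PrimeSpectrum.comap (algebraMap C B₂) y₂ = (σ x).1 := by
    intro x
    have hmem : (σ x).1 ∈ Set.range (PrimeSpectrum.comap (algebraMap C B₂)) := by
      rw [hB₂range]
      exact ⟨x, rfl⟩
    obtain ⟨y₂, hy₂⟩ := hmem
    refine ⟨y₂, hcl_of y₂ ?_, hy₂⟩
    rw [hy₂]
    exact hσcl x
  -- the hypotheses of S0699
  have hid : EtPBC.IdentifiesLocalRings A B₂ :=
    identifies_comp h1 (identifies_of_isIndZariski hB₂ind)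
  have hwlm : ProEtW.IsWLocalMap (PrimeSpectrum.comap (algebraMap A B₂)) := by
    refine ⟨Groth.Agent.Lib.Helper10.ProCons.isSpectralMap_comap _, ?_⟩
    intro y₂ hy₂
    obtain ⟨x, hx⟩ := key y₂ hy₂
    rw [hcomapfac, hx, hσ']
    exact x.2
  have hbij : Function.Bijective
      (PrimeSpectrum.continuous_comap (algebraMap A B₂)).connectedComponentsMap := by
    constructor
    · intro c₁ c₂ hc
      obtain ⟨⟨y₁, hy₁⟩, rfl⟩ := (closedPtsHomeo hB₂wl).surjective c₁
      obtain ⟨⟨y₂, hy₂⟩, rfl⟩ := (closedPtsHomeo hB₂wl).surjective c₂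
      rw [closedPtsHomeo_apply, closedPtsHomeo_apply] at hc ⊢
      have hc' : (ConnectedComponents.mk (PrimeSpectrum.comap (algebraMap A B₂) y₁) :
          ConnectedComponents (PrimeSpectrum A)) =
          ConnectedComponents.mk (PrimeSpectrum.comap (algebraMap A B₂) y₂) := hc
      obtain ⟨x₁, hx₁⟩ := key y₁ hy₁
      obtain ⟨x₂, hx₂⟩ := key y₂ hy₂
      have e1 : PrimeSpectrum.comap (algebraMap A B₂) y₁ = x₁.1 := by
        rw [hcomapfac, hx₁, hσ']
      have e2 : PrimeSpectrum.comap (algebraMap A B₂) y₂ = x₂.1 := by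
        rw [hcomapfac, hx₂, hσ']
      rw [e1, e2] at hc'
      have hx : x₁ = x₂ := Subtype.ext (eq_of_mk_eq_of_isClosed hA x₁.2 x₂.2 hc')
      have : y₁ = y₂ := hcemb.injective (by rw [hx₁, hx₂, hx])
      subst this
      rfl
    · intro c
      obtain ⟨x, rfl⟩ := (closedPtsHomeo hA).surjective c
      obtain ⟨y₂, hy₂, hy₂x⟩ := key2 x
      refine ⟨ConnectedComponents.mk y₂, ?_⟩
      show ConnectedComponents.mk (PrimeSpectrum.comap (algebraMap A B₂) y₂) = _
      rw [hcomapfac, hy₂x, hσ', closedPtsHomeo_apply]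
  have hfinal := Groth.Agent.S0699.result A B₂ hid hA hB₂wl hwlm hbij
  let eq : A ≃ₐ[A] B₂ := AlgEquiv.ofBijective (Algebra.ofId A B₂) hfinal
  exact ⟨(eq.symm : B₂ →ₐ[A] A).comp (IsScalarTower.toAlgHom A C B₂)⟩

end lemmaR

section main

variable {A : Type u} [CommRing A]

theorem retractions_of_isWLocal_extrDisc (hA : ProEtW.IsWLocal (PrimeSpectrum A))
    (hED : ExtremallyDisconnected (ConnectedComponents (PrimeSpectrum A))) :
    ProEtW.HasIndZariskiRetractions A := by
  intro B _ _ hff hind
  letI : Algebra A (Aw B) := ((algebraMap B (Aw B)).comp (algebraMap A B)).toAlgebra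
  haveI : IsScalarTower A B (Aw B) := IsScalarTower.of_algebraMap_eq (fun _ => rfl)
  have h1 : EtPBC.IdentifiesLocalRings A (Aw B) :=
    identifies_comp (identifies_of_isIndZariski hind) identifiesLocalRings
  have hsurj : Function.Surjective (PrimeSpectrum.comap (algebraMap A (Aw B))) := by
    haveI := faithfullyFlat_Aw B
    haveI : Module.FaithfullyFlat A (Aw B) := Module.FaithfullyFlat.trans A B (Aw B)
    exact PrimeSpectrum.comap_surjective_of_faithfullyFlat
  obtain ⟨ρ⟩ := exists_retraction_of_identifies h1 hA hED isWLocal hsurj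
  exact ⟨ρ.comp (IsScalarTower.toAlgHom A B (Aw B))⟩

theorem hasIndZariskiRetractions_iff :
    ProEtW.HasIndZariskiRetractions A ↔
      (ProEtW.IsWLocal (PrimeSpectrum A) ∧
        ExtremallyDisconnected (ConnectedComponents (PrimeSpectrum A))) :=
  ⟨fun h => ⟨isWLocal_of_retractions h, extrDisc_of_retractions h⟩,
    fun h => retractions_of_isWLocal_extrDisc h.1 h.2⟩

end main

end Groth.Agent.Lib.T2H1.IndZarRetr
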