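import Mathlib
import Groth.Prelude.Def_AlgSpInf
import Groth.Agent.Lib.T2H1KerDescent
import Groth.Agent.Lib.T2H1FOThickSch
import Groth.Agent.Lib.T2H1SmoothLift
import Groth.Agent.Lib.Helper2Thick
import Groth.Agent.Lib.Helper12ZarGlue
import Groth.Agent.S9928

/-!
# Infinitesimal neighbourhoods and arbitrary base change; universality (helper1)
-/

set_option autoImplicit false
set_option linter.unusedVariables false
set_option linter.unusedSectionVars false
set_option linter.style.haveILetI false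
universe u
open CategoryTheory CategoryTheory.Limits AlgebraicGeometry Opposite
open AlgSp

namespace Groth.Agent.Lib.T2H1.InfNbhd

open Groth.Agent.Lib.T2H1.KerDescent Groth.Agent.Lib.T2H1.FOThickSch
  Groth.Agent.Lib.T2H1.SmoothLift

/-- an inclusion of ideals can be checked on a flat covering. -/
lemma ideal_le_of_flat_cover {A : Type u} [CommRing A] (K K' : Ideal A)
    (h : ∀ p : PrimeSpectrum A, ∃ (B : Type u) (_ : CommRing B) (φ : A →+* B), φ.Flat ∧
      p ∈ Set.range (PrimeSpectrum.comap φ) ∧ K.map φ ≤ K'.map φ) : K ≤ K' := by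
  intro x hx
  by_contra hx'
  let N : Ideal A := Submodule.colon K' ({x} : Set A)
  have hN : N ≠ ⊤ := by
    intro hN
    have h1 : (1 : A) ∈ N := by rw [hN]; trivial
    have h1' : (1 : A) • x ∈ K' := Submodule.mem_colon_singleton.1 h1
    exact hx' (by simpa using h1')
  obtain ⟨M, hM, hNM⟩ := Ideal.exists_le_maximal N hN
  obtain ⟨B, _, φ, hφ, ⟨q, hq⟩, hKK'⟩ := h ⟨M, hM.isPrime⟩
  have hqM : M = Ideal.comap φ q.asIdeal := by
    have := congrArg PrimeSpectrum.asIdeal hq
    exact this.symm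
  haveI := hM.isPrime
  have hψ : (Localization.localRingHom M q.asIdeal φ hqM).Flat :=
    RingHom.Flat.localRingHom hφ q.asIdeal M hqM
  have hloc : IsLocalHom (Localization.localRingHom M q.asIdeal φ hqM) :=
    Localization.isLocalHom_localRingHom M q.asIdeal φ hqM
  algebraize [Localization.localRingHom M q.asIdeal φ hqM]
  haveI : Module.Flat (Localization.AtPrime M) (Localization.AtPrime q.asIdeal) := hψ
  haveI : IsLocalHom (algebraMap (Localization.AtPrime M) (Localization.AtPrime q.asIdeal)) :=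
    hloc
  haveI : Module.FaithfullyFlat (Localization.AtPrime M) (Localization.AtPrime q.asIdeal) :=
    Module.FaithfullyFlat.of_flat_of_isLocalHom
  -- the image of `x` lies in the extension of `K'`
  have h1 : algebraMap (Localization.AtPrime M) (Localization.AtPrime q.asIdeal)
      (algebraMap A (Localization.AtPrime M) x) ∈
      ((K'.map (algebraMap A (Localization.AtPrime M))).map
        (algebraMap (Localization.AtPrime M) (Localization.AtPrime q.asIdeal))) := by
    have e1 : algebraMap (Localization.AtPrime M) (Localization.AtPrime q.asIdeal)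
        (algebraMap A (Localization.AtPrime M) x) =
        algebraMap B (Localization.AtPrime q.asIdeal) (φ x) :=
      Localization.localRingHom_to_map M q.asIdeal φ hqM x
    rw [e1, Ideal.map_map]
    have e2 : (algebraMap (Localization.AtPrime M) (Localization.AtPrime q.asIdeal)).comp
        (algebraMap A (Localization.AtPrime M)) =
        (algebraMap B (Localization.AtPrime q.asIdeal)).comp φ := by
      ext a
      exact Localization.localRingHom_to_map M q.asIdeal φ hqM a
    rw [e2, ← Ideal.map_map]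
    exact Ideal.mem_map_of_mem _ (hKK' (Ideal.mem_map_of_mem φ hx))
  have h2 : algebraMap A (Localization.AtPrime M) x ∈
      K'.map (algebraMap A (Localization.AtPrime M)) := by
    rw [← Ideal.comap_map_eq_self_of_faithfullyFlat (B := Localization.AtPrime q.asIdeal)
      (K'.map (algebraMap A (Localization.AtPrime M)))]
    exact h1
  rw [IsLocalization.mem_map_algebraMap_iff M.primeCompl] at h2
  obtain ⟨⟨k', s⟩, hs⟩ := h2
  -- `s * x ∈ K'` up to a further unit
  have h3 : algebraMap A (Localization.AtPrime M) (x * s) =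
      algebraMap A (Localization.AtPrime M) k' := by
    rw [map_mul]; exact hs
  obtain ⟨t, ht⟩ := (IsLocalization.eq_iff_exists M.primeCompl (Localization.AtPrime M)).1 h3
  have h4 : (t : A) * s ∈ N := by
    apply Submodule.mem_colon_singleton.2
    have : ((t : A) * s) • x = t * (x * s) := by rw [smul_eq_mul]; ring
    rw [this, ht]
    exact K'.mul_mem_left _ k'.2
  have h5 : (t : A) * s ∈ M := hNM h4
  rcases hM.isPrime.mem_or_mem h5 with h6 | h6
  · exact t.2 h6
  · exact s.2 h6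

/-- an equality of ideals can be checked on a flat covering. -/
lemma ideal_eq_of_flat_cover {A : Type u} [CommRing A] (K K' : Ideal A)
    (h : ∀ p : PrimeSpectrum A, ∃ (B : Type u) (_ : CommRing B) (φ : A →+* B), φ.Flat ∧
      p ∈ Set.range (PrimeSpectrum.comap φ) ∧ K.map φ = K'.map φ) : K = K' := by
  apply le_antisymm
  · apply ideal_le_of_flat_cover
    intro p
    obtain ⟨B, i, φ, h1, h2, h3⟩ := h p
    exact ⟨B, i, φ, h1, h2, h3.le⟩
  · apply ideal_le_of_flat_cover
    intro p
    obtain ⟨B, i, φ, h1, h2, h3⟩ := h p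
    exact ⟨B, i, φ, h1, h2, h3.ge⟩

open Groth.Agent.Lib.Helper2.Thick in
/-- the kernel of a base change of a closed immersion, on affine opens, is the extension of the
kernel. -/
theorem ker_app_eq_map {X X' Y Y' : Scheme.{u}} (iX : X ⟶ X') (iY : Y ⟶ Y') (f : X ⟶ Y)
    (f' : X' ⟶ Y') [IsClosedImmersion iY] (hc : IsPullback iX f f' iY)
    (U' : Y'.Opens) (hU' : IsAffineOpen U') (V' : X'.Opens) (hV' : IsAffineOpen V')
    (e : V' ≤ f' ⁻¹ᵁ U') :
    RingHom.ker (iX.app V').hom = (RingHom.ker (iY.app U').hom).map (f'.appLE U' V' e).hom := by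
  have : IsClosedImmersion iX :=
    MorphismProperty.of_isPullback (P := @IsClosedImmersion) hc.flip inferInstance
  let UT : Y.Opens := iY ⁻¹ᵁ U'
  have hUT : IsAffineOpen UT := hU'.preimage iY
  have hUST : UT ≤ iY ⁻¹ᵁ U' := le_rfl
  have hiso := isIso_pushoutSection_of_isAffineOpen hc hUST e rfl hU' hUT hV'
  have hpo := (isIso_pushoutSection_iff hc hUST e rfl).mp hiso
  have hπ : Function.Surjective (iY.appLE U' UT hUST).hom := by
    have := iY.app_surjective U' hU'
    rwa [Scheme.Hom.app_eq_appLE] at this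
  have hker := ker_le_map hpo hπ
  apply le_antisymm
  · intro x hx
    have h1 : x ∈ (RingHom.ker (iY.appLE U' (iY ⁻¹ᵁ U') le_rfl).hom).map
        (f'.appLE U' V' e).hom := by
      apply hker
      rw [RingHom.mem_ker] at hx ⊢
      rw [Scheme.Hom.appLE, CommRingCat.hom_comp, RingHom.comp_apply, hx, map_zero]
    rwa [← Scheme.Hom.app_eq_appLE] at h1
  · rw [Ideal.map_le_iff_le_comap]
    intro y hy
    rw [Ideal.mem_comap, RingHom.mem_ker]
    rw [RingHom.mem_ker] at hy
    have hle : iX ⁻¹ᵁ V' ≤ f ⁻¹ᵁ (iY ⁻¹ᵁ U') := by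
      intro x hx
      show iY (f x) ∈ U'
      have : iY (f x) = f' (iX x) := (congr($(hc.w) x)).symm
      rw [this]; exact e hx
    have e1 : f'.appLE U' V' e ≫ iX.app V' = (iX ≫ f').appLE U' (iX ⁻¹ᵁ V') (by
        intro x hx; exact e hx) := by
      rw [Scheme.Hom.app_eq_appLE, Scheme.Hom.appLE_comp_appLE]
    have e2 : iY.app U' ≫ f.appLE (iY ⁻¹ᵁ U') (iX ⁻¹ᵁ V') hle =
        (f ≫ iY).appLE U' (iX ⁻¹ᵁ V') hle := by
      rw [Scheme.Hom.app_eq_appLE, Scheme.Hom.appLE_comp_appLE]
    have e3 : (iX ≫ f').appLE U' (iX ⁻¹ᵁ V') (by intro x hx; exact e hx) =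
        (f ≫ iY).appLE U' (iX ⁻¹ᵁ V') hle := by
      simp only [hc.w]
    have e4 := congr(($(e1.trans (e3.trans e2.symm))).hom y)
    simp only [CommRingCat.hom_comp, RingHom.comp_apply] at e4
    rw [e4, hy, map_zero]

variable {S : Scheme.{u}}

/-- comparison of the kernels of the pullbacks of a representable closed immersion along two
charts related by a chart diagram. -/
theorem ker_map_chart_eq {F G : AlgSp.Sp S} (i : F ⟶ G) {V W U₀ O WO : Over S}
    (b : (AlgSp.yon S).obj V ⟶ G) (fst : (AlgSp.yon S).obj W ⟶ F) (snd : W ⟶ V)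
    (psq : IsPullback fst ((AlgSp.yon S).map snd) i b) [IsClosedImmersion snd.left]
    (b₀ : (AlgSp.yon S).obj O ⟶ G) (fO : (AlgSp.yon S).obj WO ⟶ F) (sO : WO ⟶ O)
    (sqO : IsPullback fO ((AlgSp.yon S).map sO) i b₀) [IsClosedImmersion sO.left]
    (c₀ : U₀ ⟶ V) (h₀ : U₀ ⟶ O)
    (hab : (AlgSp.yon S).map c₀ ≫ b = (AlgSp.yon S).map h₀ ≫ b₀)
    (O' : U₀.left.Opens) (hO' : IsAffineOpen O') [IsAffine V.left] [IsAffine O.left] :
    (RingHom.ker (snd.left.app ⊤).hom).map (c₀.left.appLE ⊤ O' le_top).hom =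
      (RingHom.ker (sO.left.app ⊤).hom).map (h₀.left.appLE ⊤ O' le_top).hom := by
  have sq1 := (IsPullback.of_hasPullback snd c₀).map (AlgSp.yon S)
  have big := sq1.paste_horiz psq
  rw [hab] at big
  let r : (AlgSp.yon S).obj (pullback snd c₀) ⟶ (AlgSp.yon S).obj WO :=
    sqO.lift ((AlgSp.yon S).map (pullback.fst snd c₀) ≫ fst)
      ((AlgSp.yon S).map (pullback.snd snd c₀) ≫ (AlgSp.yon S).map h₀)
      (by rw [Category.assoc]; exact big.w)
  have e1 : r ≫ fO = (AlgSp.yon S).map (pullback.fst snd c₀) ≫ fst := sqO.lift_fst _ _ _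
  have e2 : r ≫ (AlgSp.yon S).map sO =
      (AlgSp.yon S).map (pullback.snd snd c₀) ≫ (AlgSp.yon S).map h₀ := sqO.lift_snd _ _ _
  rw [← e1] at big
  have small : IsPullback r ((AlgSp.yon S).map (pullback.snd snd c₀)) ((AlgSp.yon S).map sO)
      ((AlgSp.yon S).map h₀) := IsPullback.of_right big e2 sqO
  obtain ⟨r₀, hr₀⟩ := (AlgSp.yon S).map_surjective r
  rw [← hr₀] at small
  have hOver : IsPullback r₀ (pullback.snd snd c₀) sO h₀ :=
    IsPullback.of_map (AlgSp.yon S) (by
      apply (AlgSp.yon S).map_injective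
      rw [Functor.map_comp, Functor.map_comp]
      exact small.w) small
  have hSch := hOver.map (Over.forget S)
  have hSch1 := (IsPullback.of_hasPullback snd c₀).map (Over.forget S)
  have k1 := ker_app_eq_map (pullback.snd snd c₀).left snd.left (pullback.fst snd c₀).left c₀.left
    hSch1.flip ⊤ (isAffineOpen_top _) O' hO' le_top
  have k2 := ker_app_eq_map (pullback.snd snd c₀).left sO.left r₀.left h₀.left
    hSch.flip ⊤ (isAffineOpen_top _) O' hO' le_top
  rw [← k1, ← k2]

/-- the ideal comparison defining the `n`th infinitesimal neighbourhood of a closed subspace of an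
algebraic space holds on all (not only etale) affine charts. -/
theorem ker_eq_pow_of_isInfNbhd {n : ℕ} {Z Zn U : AlgSp.Sp S} (hU : AlgSp.IsAlgSpace U)
    {c : Z ⟶ U} {j : Z ⟶ Zn} {k : Zn ⟶ U} (hN : AlgSp.IsInfNbhd n c j k)
    {V W Wn : Over S} (hV : IsAffine V.left) (b : (AlgSp.yon S).obj V ⟶ U)
    (fst : (AlgSp.yon S).obj W ⟶ Z) (snd : W ⟶ V) (fstn : (AlgSp.yon S).obj Wn ⟶ Zn)
    (sndn : Wn ⟶ V) (psq : IsPullback fst ((AlgSp.yon S).map snd) c b)
    (psqn : IsPullback fstn ((AlgSp.yon S).map sndn) k b) :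
    sndn.left.ker = snd.left.ker ^ (n + 1) := by
  haveI := hV
  haveI : IsClosedImmersion snd.left := hN.2.1.2 b fst snd psq
  haveI : IsClosedImmersion sndn.left := hN.2.2.1.2 b fstn sndn psqn
  apply Scheme.IdealSheafData.ext_of_isAffine
  rw [Scheme.IdealSheafData.ideal_pow, Pi.pow_apply, Scheme.Hom.ker_apply, Scheme.Hom.ker_apply]
  apply ideal_eq_of_flat_cover
  intro p
  obtain ⟨U₀, O, a₀, b₀, h₀, u₀, ha₀, hb₀, hab, hu₀, hO⟩ :=
    exists_chart_affTarget (AlgSp.IsAlgSpace.yon_obj V) hU b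
      (AlgSp.Points.ofScheme V (V.left.isoSpec.inv p))
  haveI := hO
  obtain ⟨c₀, rfl⟩ := (AlgSp.yon S).map_surjective a₀
  have hc : Etale c₀.left := (AlgSp.repWith_yon_map_iff _ _).1 ha₀
  have hcv : c₀.left u₀ = V.left.isoSpec.inv p := by
    have h1 := AlgSp.Points.toScheme_ofPt c₀ u₀
    rw [hu₀, AlgSp.Points.toScheme_ofScheme] at h1
    exact h1.symm
  obtain ⟨_, ⟨(O' : U₀.left.Opens), hO', rfl⟩, huO', -⟩ :=
    U₀.left.isBasis_affineOpens.exists_subset_of_mem_open (Set.mem_univ u₀) isOpen_univ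
  have hO'' : IsAffineOpen O' := hO'
  obtain ⟨WO, sO, fO, sqO⟩ := hN.2.1.1 b₀
  obtain ⟨WnO, snO, fnO, sqnO⟩ := hN.2.2.1.1 b₀
  haveI : IsClosedImmersion sO.left := hN.2.1.2 b₀ fO sO sqO
  haveI : IsClosedImmersion snO.left := hN.2.2.1.2 b₀ fnO snO sqnO
  have hchart : snO.left.ker = sO.left.ker ^ (n + 1) :=
    hN.2.2.2 b₀ fO sO fnO snO hO hb₀ sqO sqnO
  have hchart' := congr(($hchart).ideal ⟨⊤, isAffineOpen_top _⟩)
  rw [Scheme.IdealSheafData.ideal_pow, Pi.pow_apply, Scheme.Hom.ker_apply,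
    Scheme.Hom.ker_apply] at hchart'
  have k1 := ker_map_chart_eq c b fst snd psq b₀ fO sO sqO c₀ h₀ hab O' hO''
  have k2 := ker_map_chart_eq k b fstn sndn psqn b₀ fnO snO sqnO c₀ h₀ hab O' hO''
  refine ⟨Γ(U₀.left, O'), inferInstance, (c₀.left.appLE ⊤ O' le_top).hom, ?_, ?_, ?_⟩
  · exact HasRingHomProperty.appLE (P := @Flat) c₀.left inferInstance
      ⟨⊤, isAffineOpen_top _⟩ ⟨O', hO''⟩ le_top
  · refine ⟨hO''.primeIdealOf ⟨u₀, huO'⟩, ?_⟩
    have h1 := IsAffineOpen.SpecMap_appLE_fromSpec c₀.left (isAffineOpen_top V.left) hO'' le_top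
    rw [IsAffineOpen.fromSpec_top] at h1
    have h2 := congrArg (fun f => f (hO''.primeIdealOf ⟨u₀, huO'⟩)) h1
    simp only [Scheme.Hom.comp_apply] at h2
    rw [hO''.fromSpec_primeIdealOf, hcv] at h2
    have h3 : Function.Injective V.left.isoSpec.inv := by
      intro a b hab
      have := congrArg V.left.isoSpec.hom hab
      simpa using this
    exact h3 h2
  · rw [k2, hchart', Ideal.map_pow, Ideal.map_pow, k1]

section Cat

variable {C : Type*} [Category C]

/-- for a monomorphism `k`, the square with sides `𝟙`, `j`, `j ≫ k`, `k` is cartesian. -/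
lemma isPullback_id_of_mono {Z Zn U : C} (j : Z ⟶ Zn) (k : Zn ⟶ U) [Mono k] :
    IsPullback (𝟙 Z) j (j ≫ k) k :=
  ⟨⟨by simp⟩, ⟨PullbackCone.IsLimit.mk _ (fun s => s.fst) (fun s => by simp)
    (fun s => by
      rw [← cancel_mono k]
      simpa using s.condition)
    (fun s m h1 h2 => by simpa using h1)⟩⟩

/-- the pullback of a monomorphism `k` along `g ≫ k` is the identity. -/
lemma isPullback_of_mono_comp {T Zn U : C} (g : T ⟶ Zn) (k : Zn ⟶ U) [Mono k] :
    IsPullback g (𝟙 T) k (g ≫ k) :=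
  ⟨⟨by simp⟩, ⟨PullbackCone.IsLimit.mk _ (fun s => s.snd)
    (fun s => by
      rw [← cancel_mono k]
      simpa using s.condition.symm)
    (fun s => by simp)
    (fun s m h1 h2 => by simpa using h2)⟩⟩

end Cat

/-- a closed immersion with nilpotent kernel is surjective. -/
lemma surjective_of_pow_ker_eq_bot {X Y : Scheme.{u}} (f : X ⟶ Y) [IsClosedImmersion f] (n : ℕ)
    (h : f.ker ^ (n + 1) = ⊥) : Surjective f := by
  have h1 : (f.ker ^ (n + 1)).support = f.ker.support :=
    Scheme.IdealSheafData.support_pow_succ _ n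
  rw [h, Scheme.IdealSheafData.support_bot] at h1
  have h2 := Scheme.Hom.support_ker f
  rw [← h1, f.isClosedEmbedding.isClosed_range.closure_eq] at h2
  refine ⟨fun y => ?_⟩
  have : y ∈ ((⊤ : TopologicalSpace.Closeds Y) : Set Y) := trivial
  rw [h2] at this
  exact this

/-- the kernel of an isomorphism vanishes. -/
lemma ker_eq_bot_of_isIso {X Y : Scheme.{u}} (f : X ⟶ Y) [IsIso f] : f.ker = ⊥ :=
  (IsClosedImmersion.isIso_iff_ker_eq_bot (f := f)).1 inferInstance

/-- the map to the `n`th infinitesimal neighbourhood is an `n`th order thickening. -/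
theorem isNThickMor_of_isInfNbhd {n : ℕ} {Z Zn U : AlgSp.Sp S} (hU : AlgSp.IsAlgSpace U)
    {c : Z ⟶ U} {j : Z ⟶ Zn} {k : Zn ⟶ U} (hN : AlgSp.IsInfNbhd n c j k) :
    AlgSp.IsNThickMor n j := by
  haveI : Mono k := Groth.Agent.S9928.mono_of_repWith @IsClosedImmersion
    (fun _ _ f hf => by haveI : IsClosedImmersion f := hf; infer_instance) k hN.2.2.1
  have hw : j ≫ k = c := hN.1
  -- a pullback square of `j` is a pullback square of `c`
  have key : ∀ {T W : Over S} (g : (AlgSp.yon S).obj T ⟶ Zn) (fst : (AlgSp.yon S).obj W ⟶ Z)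
      (snd : W ⟶ T), IsPullback fst ((AlgSp.yon S).map snd) j g →
      IsPullback fst ((AlgSp.yon S).map snd) c (g ≫ k) := by
    intro T W g fst snd psq
    have := psq.paste_horiz (isPullback_id_of_mono j k)
    rw [hw, Category.comp_id] at this
    exact this
  have key' : ∀ {T W : Over S} (g : (AlgSp.yon S).obj T ⟶ Zn) (fst : (AlgSp.yon S).obj W ⟶ Z)
      (snd : W ⟶ T), IsPullback fst ((AlgSp.yon S).map snd) c (g ≫ k) →
      IsPullback fst ((AlgSp.yon S).map snd) j g := by
    intro T W g fst snd psq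
    have t := isPullback_id_of_mono j k
    rw [hw] at t
    refine IsPullback.of_right (by rwa [Category.comp_id]) ?_ t
    rw [← cancel_mono k, Category.assoc, Category.assoc, hw]
    exact psq.w
  -- the affine case
  have aff : ∀ {T W : Over S} (g : (AlgSp.yon S).obj T ⟶ Zn) (fst : (AlgSp.yon S).obj W ⟶ Z)
      (snd : W ⟶ T), IsAffine T.left → IsPullback fst ((AlgSp.yon S).map snd) j g →
      snd.left.ker ^ (n + 1) = ⊥ := by
    intro T W g fst snd hT psq
    have h1 : IsPullback g ((AlgSp.yon S).map (𝟙 T)) k (g ≫ k) := by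
      rw [(AlgSp.yon S).map_id]
      exact isPullback_of_mono_comp g k
    have h2 := ker_eq_pow_of_isInfNbhd hU hN hT (g ≫ k) fst snd g (𝟙 T) (key g fst snd psq) h1
    rw [← h2]
    exact ker_eq_bot_of_isIso _
  refine ⟨?_, ?_⟩
  · haveI : IsZariskiLocalAtTarget (AlgSp.thick.{u}) := by
      unfold AlgSp.thick
      infer_instance
    apply Groth.Agent.Lib.Helper12.ZarGlue.repWith_of_affine
    intro T hT g
    obtain ⟨W, snd, fst, sq⟩ := hN.2.1.1 (g ≫ k)
    have psq := key' g fst snd sq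
    haveI : IsClosedImmersion snd.left := hN.2.1.2 (g ≫ k) fst snd sq
    exact ⟨W, snd, fst, psq, ‹IsClosedImmersion snd.left›,
      surjective_of_pow_ker_eq_bot snd.left n (aff g fst snd hT psq)⟩
  · intro T W g fst snd hT _ psq
    exact aff g fst snd hT psq

/-- the universal property of the first order infinitesimal neighbourhood of a closed subspace,
against first order thickenings of schemes with affine target. -/
theorem existsUnique_lift_of_isInfNbhd {Z Z₁ U : AlgSp.Sp S} (hU : AlgSp.IsAlgSpace U)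
    {c : Z ⟶ U} {j : Z ⟶ Z₁} {k : Z₁ ⟶ U} (hN : AlgSp.IsInfNbhd 1 c j k)
    {T T' : Over S} (jT : T ⟶ T') (hT' : IsAffine T'.left)
    (hjT : AlgSp.IsFOThickMor ((AlgSp.yon S).map jT))
    (a : (AlgSp.yon S).obj T ⟶ Z) (b : (AlgSp.yon S).obj T' ⟶ U)
    (hab : (AlgSp.yon S).map jT ≫ b = a ≫ c) :
    ∃! a' : (AlgSp.yon S).obj T' ⟶ Z₁, (AlgSp.yon S).map jT ≫ a' = a ≫ j ∧ a' ≫ k = b := by
  haveI : Mono k := Groth.Agent.S9928.mono_of_repWith @IsClosedImmersion
    (fun _ _ f hf => by haveI : IsClosedImmersion f := hf; infer_instance) k hN.2.2.1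
  have hw : j ≫ k = c := hN.1
  obtain ⟨W, snd, fst, sq⟩ := hN.2.1.1 b
  obtain ⟨W₁, snd₁, fst₁, sq₁⟩ := hN.2.2.1.1 b
  haveI : IsClosedImmersion snd.left := hN.2.1.2 b fst snd sq
  haveI : IsClosedImmersion snd₁.left := hN.2.2.1.2 b fst₁ snd₁ sq₁
  have hker : snd₁.left.ker = snd.left.ker ^ (1 + 1) :=
    ker_eq_pow_of_isInfNbhd hU hN hT' b fst snd fst₁ snd₁ sq sq₁
  -- `jT` factors through `snd`
  obtain ⟨t₀, ht₀⟩ := (AlgSp.yon S).map_surjective (sq.lift a ((AlgSp.yon S).map jT) hab.symm)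
  have ht : t₀ ≫ snd = jT := by
    apply (AlgSp.yon S).map_injective
    rw [Functor.map_comp, ht₀]
    exact sq.lift_snd _ _ _
  have hsq : jT.left.ker * jT.left.ker = ⊥ := AlgSp.AffLocT.yon_map hT' hjT.2
  have hle : snd.left.ker ≤ jT.left.ker := by
    rw [← ht, Over.comp_left]
    exact Scheme.Hom.le_ker_comp _ _
  have hbot : snd₁.left.ker = ⊥ := by
    rw [hker, eq_bot_iff, ← hsq, pow_two]
    exact mul_le_mul' hle hle
  haveI : IsIso snd₁.left := (IsClosedImmersion.isIso_iff_ker_eq_bot (f := snd₁.left)).2 hbot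
  haveI : IsIso ((Over.forget S).map snd₁) := ‹IsIso snd₁.left›
  haveI : IsIso snd₁ := isIso_of_reflects_iso snd₁ (Over.forget S)
  have hk : ((AlgSp.yon S).map (inv snd₁) ≫ fst₁) ≫ k = b := by
    rw [Category.assoc, sq₁.w, ← Category.assoc, ← Functor.map_comp, IsIso.inv_hom_id,
      (AlgSp.yon S).map_id, Category.id_comp]
  refine ⟨(AlgSp.yon S).map (inv snd₁) ≫ fst₁, ⟨?_, hk⟩, ?_⟩
  · rw [← cancel_mono k, Category.assoc, hk, Category.assoc, hw]
    exact hab
  · rintro a'' ⟨-, h2⟩
    rw [← cancel_mono k, h2, hk]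

end Groth.Agent.Lib.T2H1.InfNbhd
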