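import Mathlib

/-!
# Affine-space separation for fibre products of affine schemes

Scheme-level input for "universally closed can be tested on affine spaces over the base":
a compact subset and a disjoint closed subset of a fibre product `U ×_V Z` of affine schemes
are separated by the preimage of an open subset of `U ×_V 𝔸ⁿ_V` for a suitable `Z ⟶ 𝔸ⁿ_V`.
-/

set_option autoImplicit false
universe u
open CategoryTheory CategoryTheory.Limits AlgebraicGeometry TensorProduct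

namespace Groth.Agent.Lib.T2H1.UCAlg

/-- every element of a pushout of commutative rings is a finite sum of products. -/
lemma exists_finset_sum_of_isPushout {R A B X : CommRingCat.{u}} {f : R ⟶ A} {g : R ⟶ B}
    {a : A ⟶ X} {b : B ⟶ X} (H : IsPushout f g a b) (x : X) :
    ∃ T : Finset (A × B), x = ∑ m ∈ T, a m.1 * b m.2 := by
  algebraize [f.hom, g.hom]
  let e := ((CommRingCat.isPushout_tensorProduct R A B).isoIsPushout A B H)
  have h1 : ∀ y : A, e.hom (y ⊗ₜ[R] (1 : B)) = a y := fun y =>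
    ConcreteCategory.congr_hom
      ((CommRingCat.isPushout_tensorProduct R A B).inl_isoIsPushout_hom A B H) y
  have h2 : ∀ z : B, e.hom ((1 : A) ⊗ₜ[R] z) = b z := fun z =>
    ConcreteCategory.congr_hom
      ((CommRingCat.isPushout_tensorProduct R A B).inr_isoIsPushout_hom A B H) z
  obtain ⟨T, hT⟩ := TensorProduct.exists_finset (R := R) (e.inv x)
  refine ⟨T, ?_⟩
  have hx : x = e.hom (e.inv x) := by
    have := congr($(e.inv_hom_id).hom x)
    simpa using this.symm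
  rw [hx, hT, map_sum]
  refine Finset.sum_congr rfl (fun m _ => ?_)
  have : m.1 ⊗ₜ[R] m.2 = (m.1 ⊗ₜ[R] (1 : B)) * ((1 : A) ⊗ₜ[R] m.2) := by
    rw [Algebra.TensorProduct.tmul_mul_tmul, mul_one, one_mul]
  rw [this, map_mul, h1, h2]

/-- finitely many basic opens covering a compact set inside an open set of an affine scheme. -/
lemma exists_finset_basicOpen_cover {X : Scheme.{u}} [IsAffine X] (F C : Set ↥X)
    (hF : IsCompact F) (hC : IsClosed C) (hFC : Disjoint F C) :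
    ∃ G : Finset Γ(X, ⊤), F ⊆ ⋃ g ∈ G, (X.basicOpen g : Set X) ∧
      ∀ g ∈ G, (X.basicOpen g : Set X) ⊆ Cᶜ := by
  classical
  have hx : ∀ x : X, ∃ g : Γ(X, ⊤), x ∈ F → (x ∈ X.basicOpen g ∧ (X.basicOpen g : Set X) ⊆ Cᶜ) := by
    intro x
    by_cases hxF : x ∈ F
    · have hxC : x ∈ Cᶜ := fun hxC => Set.disjoint_left.1 hFC hxF hxC
      obtain ⟨_, ⟨_, ⟨g, rfl⟩, rfl⟩, hxg, hgC⟩ :=
        (isBasis_basicOpen X).exists_subset_of_mem_open hxC hC.isOpen_compl
      exact ⟨g, fun _ => ⟨hxg, hgC⟩⟩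
    · exact ⟨0, fun h => (hxF h).elim⟩
  choose g hg using hx
  obtain ⟨t, htF, ht⟩ := hF.elim_nhds_subcover (fun x => (X.basicOpen (g x) : Set X))
    (fun x hx => (X.basicOpen (g x)).2.mem_nhds (hg x hx).1)
  refine ⟨t.image g, ?_, ?_⟩
  · intro x hx
    obtain ⟨y, hy, hxy⟩ := Set.mem_iUnion₂.1 (ht hx)
    exact Set.mem_iUnion₂.2 ⟨g y, Finset.mem_image_of_mem g hy, hxy⟩
  · intro g' hg'
    obtain ⟨y, hy, rfl⟩ := Finset.mem_image.1 hg'
    exact (hg y (htF y hy)).2

/-- **affine-space separation.** For a fibre product `UZ = U ×_V Z` of affine schemes, a compact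
set `F` and a disjoint closed set `C` of `UZ` are separated by the preimage of an open subset of
any `U₀` receiving compatible maps from `UZ`, to `U` and to `𝔸ⁿ_V`, for a suitable `Z ⟶ 𝔸ⁿ_V`. -/
theorem exists_affineSpace_separation {U V Z UZ : Scheme.{u}} [IsAffine U] [IsAffine V]
    [IsAffine Z] {h : U ⟶ V} {t : Z ⟶ V} {p₁ : UZ ⟶ U} {p₂ : UZ ⟶ Z} (sq : IsPullback p₁ p₂ h t)
    (F C : Set ↥UZ) (hF : IsCompact F) (hC : IsClosed C) (hFC : Disjoint F C) :
    ∃ (n : ℕ) (s : Z ⟶ 𝔸(ULift.{u} (Fin n); V)), s ≫ (𝔸(ULift.{u} (Fin n); V) ↘ V) = t ∧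
      ∀ (U₀ : Scheme.{u}) (q₁ : U₀ ⟶ U) (q₂ : U₀ ⟶ 𝔸(ULift.{u} (Fin n); V)) (m : UZ ⟶ U₀),
        m ≫ q₁ = p₁ → m ≫ q₂ = p₂ ≫ s →
        ∃ W₀ : U₀.Opens, F ⊆ m ⁻¹' (W₀ : Set U₀) ∧ m ⁻¹' (W₀ : Set U₀) ⊆ Cᶜ := by
  classical
  haveI : IsAffine UZ := IsAffine.of_isPullback sq
  have hpo := isPushout_appTop_of_isPullback sq
  obtain ⟨G, hGF, hGC⟩ := exists_finset_basicOpen_cover F C hF hC hFC
  choose T hT using fun g : Γ(UZ, ⊤) => exists_finset_sum_of_isPushout hpo g
  let TT : Finset (Γ(U, ⊤) × Γ(Z, ⊤)) := G.biUnion T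
  let n := TT.card
  let eqv : TT ≃ Fin n := TT.equivFin
  let idx : ULift.{u} (Fin n) → TT := fun i => eqv.symm i.down
  let β : ULift.{u} (Fin n) → Γ(Z, ⊤) := fun i => (idx i).1.2
  refine ⟨n, AffineSpace.homOfVector t β, AffineSpace.homOfVector_over t β, ?_⟩
  intro U₀ q₁ q₂ m hm₁ hm₂
  let c : Γ(UZ, ⊤) → ULift.{u} (Fin n) → Γ(U, ⊤) := fun g i =>
    if (idx i).1 ∈ T g then (idx i).1.1 else 0
  let g' : Γ(UZ, ⊤) → Γ(U₀, ⊤) := fun g =>
    ∑ i : ULift.{u} (Fin n), q₁.appTop (c g i) * q₂.appTop (AffineSpace.coord V i)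
  have hg' : ∀ g ∈ G, m.appTop (g' g) = g := by
    intro g hg
    have e1 : ∀ x : Γ(U, ⊤), m.appTop (q₁.appTop x) = p₁.appTop x := by
      intro x
      rw [← hm₁, Scheme.Hom.comp_appTop, CommRingCat.comp_apply]
    have e2 : ∀ i, m.appTop (q₂.appTop (AffineSpace.coord V i)) = p₂.appTop (β i) := by
      intro i
      have : (m ≫ q₂).appTop (AffineSpace.coord V i) = (p₂ ≫ AffineSpace.homOfVector t β).appTop
          (AffineSpace.coord V i) := by rw [hm₂]
      rw [Scheme.Hom.comp_appTop, CommRingCat.comp_apply, Scheme.Hom.comp_appTop,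
        CommRingCat.comp_apply, AffineSpace.homOfVector_appTop_coord] at this
      exact this
    simp only [g', map_sum, map_mul, e1, e2]
    let φ : TT → Γ(UZ, ⊤) := fun x =>
      if x.1 ∈ T g then p₁.appTop x.1.1 * p₂.appTop x.1.2 else 0
    have e3 : ∀ i : ULift.{u} (Fin n), p₁.appTop (c g i) * p₂.appTop (β i) = φ (idx i) := by
      intro i
      simp only [c, β, φ]
      split_ifs <;> simp
    rw [Finset.sum_congr rfl (fun i _ => e3 i)]
    have e4 : ∑ i : ULift.{u} (Fin n), φ (idx i) = ∑ x : TT, φ x :=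
      Fintype.sum_equiv (Equiv.ulift.trans eqv.symm) (fun i => φ (idx i)) φ (fun i => rfl)
    rw [e4]
    have e5 : ∑ x : TT, φ x =
        ∑ x ∈ TT, if x ∈ T g then p₁.appTop x.1 * p₂.appTop x.2 else 0 :=
      Finset.sum_coe_sort TT (fun x => if x ∈ T g then p₁.appTop x.1 * p₂.appTop x.2 else 0)
    rw [e5, ← Finset.sum_filter]
    have hfil : TT.filter (fun x => x ∈ T g) = T g := by
      ext x
      simp only [Finset.mem_filter, and_iff_right_iff_imp]
      intro hx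
      exact Finset.mem_biUnion.2 ⟨g, hg, hx⟩
    rw [hfil]
    exact (hT g).symm
  refine ⟨⨆ g ∈ G, U₀.basicOpen (g' g), ?_, ?_⟩
  · intro x hx
    obtain ⟨g, hg, hxg⟩ := Set.mem_iUnion₂.1 (hGF hx)
    rw [Set.mem_preimage, SetLike.mem_coe]
    simp only [TopologicalSpace.Opens.mem_iSup]
    refine ⟨g, hg, ?_⟩
    have : x ∈ m ⁻¹ᵁ U₀.basicOpen (g' g) := by
      rw [Scheme.preimage_basicOpen_top, hg' g hg]
      exact hxg
    exact this
  · intro x hx
    rw [Set.mem_preimage, SetLike.mem_coe] at hx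
    simp only [TopologicalSpace.Opens.mem_iSup] at hx
    obtain ⟨g, hg, hxg⟩ := hx
    refine hGC g hg ?_
    have : x ∈ m ⁻¹ᵁ U₀.basicOpen (g' g) := hxg
    rw [Scheme.preimage_basicOpen_top, hg' g hg] at this
    exact this

end Groth.Agent.Lib.T2H1.UCAlg
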