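import Mathlib
import Groth.Agent.Lib.T2H1UCAlg
import Groth.Agent.S10175
import Groth.Agent.S10176
import Groth.Agent.S10177

/-!
# Universal closedness can be tested on affine spaces: the core argument (helper1)
-/

set_option autoImplicit false
universe u
open CategoryTheory CategoryTheory.Limits AlgebraicGeometry TopologicalSpace
open AlgSp

namespace Groth.Agent.Lib.T2H1.UCCore

/-- the topological core of the argument. -/
lemma topological_core {UZ P Z U₀ P₁ Z₁ : Type*} [TopologicalSpace UZ] [TopologicalSpace P]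
    [TopologicalSpace Z] [TopologicalSpace U₀] [TopologicalSpace P₁] [TopologicalSpace Z₁]
    (πZ : UZ → P) (sndZ : P → Z) (π₁ : U₀ → P₁) (snd₁ : P₁ → Z₁) (aU : UZ → U₀) (aP : P → P₁)
    (aZ : Z → Z₁)
    (hπZ : Function.Surjective πZ) (hπ₁ : IsOpenMap π₁) (hsnd₁ : IsClosedMap snd₁)
    (haZ : Continuous aZ)
    (comm1 : ∀ u, aP (πZ u) = π₁ (aU u)) (comm2 : ∀ c, aZ (sndZ c) = snd₁ (aP c))
    (cart1 : ∀ w c, π₁ w = aP c → ∃ u, aU u = w ∧ πZ u = c)
    (cart2 : ∀ c₁ z, snd₁ c₁ = aZ z → ∃ c, aP c = c₁ ∧ sndZ c = z)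
    (C : Set P) (z : Z) (W₀ : Set U₀) (hW₀ : IsOpen W₀)
    (h1 : ∀ u, sndZ (πZ u) = z → aU u ∈ W₀)
    (h2 : ∀ u, aU u ∈ W₀ → πZ u ∉ C) :
    ∃ O : Set Z, IsOpen O ∧ z ∈ O ∧ Disjoint O (sndZ '' C) := by
  refine ⟨aZ ⁻¹' (snd₁ '' (π₁ '' W₀)ᶜ)ᶜ, ?_, ?_, ?_⟩
  · exact (hsnd₁ _ (hπ₁ _ hW₀).isClosed_compl).isOpen_compl.preimage haZ
  · rintro ⟨c₁, hc₁, hc₁z⟩
    obtain ⟨c, hc, hcz⟩ := cart2 c₁ z hc₁z
    obtain ⟨u, rfl⟩ := hπZ c
    exact hc₁ ⟨aU u, h1 u hcz, by rw [← comm1, hc]⟩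
  · rw [Set.disjoint_left]
    rintro _ hz' ⟨c, hcC, rfl⟩
    have hc₁ : aP c ∈ π₁ '' W₀ := by
      by_contra hcon
      exact hz' ⟨aP c, hcon, (comm2 c).symm⟩
    obtain ⟨w, hw, hwc⟩ := hc₁
    obtain ⟨u, rfl, rfl⟩ := cart1 w c hwc
    exact h2 u hw hcC

variable {S : Scheme.{u}}

/-- pullbacks in `Over S` exist and are pullbacks of schemes. -/
lemma exists_over_pullback {U V Z : Over S} (h : U ⟶ V) (t : Z ⟶ V) :
    ∃ (UZ : Over S) (p₁ : UZ ⟶ U) (p₂ : UZ ⟶ Z), IsPullback p₁ p₂ h t ∧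
      IsPullback p₁.left p₂.left h.left t.left := by
  have := IsPullback.of_hasPullback h t
  exact ⟨_, _, _, this, this.map (Over.forget S)⟩

/-- the base change of a chart `π : h_U ⟶ X'` of the source of `f' : X' ⟶ h_V` along `t : Z ⟶ V`. -/
lemma exists_chart_lift {V' U Z UZ : Over S} {X' P : AlgSp.Sp S} (f' : X' ⟶ (AlgSp.yon S).obj V')
    (π : (AlgSp.yon S).obj U ⟶ X') (h : U ⟶ V') (hh : π ≫ f' = (AlgSp.yon S).map h) (t : Z ⟶ V')
    (a : P ⟶ X') (snd : P ⟶ (AlgSp.yon S).obj Z) (sq : IsPullback a snd f' ((AlgSp.yon S).map t))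
    (p₁ : UZ ⟶ U) (p₂ : UZ ⟶ Z) (sqU : IsPullback p₁ p₂ h t) :
    ∃ πZ : (AlgSp.yon S).obj UZ ⟶ P, πZ ≫ a = (AlgSp.yon S).map p₁ ≫ π ∧
      πZ ≫ snd = (AlgSp.yon S).map p₂ ∧ IsPullback πZ ((AlgSp.yon S).map p₁) a π := by
  have hw : ((AlgSp.yon S).map p₁ ≫ π) ≫ f' = (AlgSp.yon S).map p₂ ≫ (AlgSp.yon S).map t := by
    rw [Category.assoc, hh, ← Functor.map_comp, sqU.w, Functor.map_comp]
  refine ⟨sq.lift _ _ hw, sq.lift_fst _ _ hw, sq.lift_snd _ _ hw, ?_⟩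
  refine IsPullback.of_right ?_ (sq.lift_fst _ _ hw) sq.flip
  rw [sq.lift_snd, hh]
  exact (sqU.map (AlgSp.yon S)).flip

/-- `ofPt` of a representable map is the map of schemes. -/
lemma ofPt_yon_map {T T' : Over S} (φ : T ⟶ T') (t : ↥T.left) :
    AlgSp.Points.ofPt ((AlgSp.yon S).map φ) t = AlgSp.Points.schemeHomeo T' (φ.left t) := by
  have := Groth.Agent.S10176.ofPt_map_comp φ (𝟙 ((AlgSp.yon S).obj T')) t
  rw [Category.comp_id] at this
  exact this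

/-- **the core statement.** Over an affine base `V'`, for `f' : X' ⟶ h_{V'}` whose source has an
affine étale surjective chart: if the base changes of `f'` to the affine spaces `𝔸ⁿ_{V'}` are closed
on points, then so are the base changes of `f'` to all affine schemes over `V'`. -/
theorem isClosedMap_of_affine_chart {V' U Z : Over S} [IsAffine V'.left] [IsAffine U.left]
    [IsAffine Z.left] {X' : AlgSp.Sp S} (f' : X' ⟶ (AlgSp.yon S).obj V')
    (π : (AlgSp.yon S).obj U ⟶ X') (hπe : AlgSp.RepWith @Etale π)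
    (hπs : AlgSp.RepWith @Surjective π)
    (H : ∀ (n : ℕ) (P : AlgSp.Sp S) (fst : P ⟶ X')
        (snd : P ⟶ (AlgSp.yon S).obj
          (Over.mk ((𝔸(ULift.{u} (Fin n); V'.left) ↘ V'.left) ≫ V'.hom))),
        IsPullback fst snd f'
          ((AlgSp.yon S).map (Over.homMk (𝔸(ULift.{u} (Fin n); V'.left) ↘ V'.left))) →
        IsClosedMap (AlgSp.Points.map snd))
    (t : Z ⟶ V') {P : AlgSp.Sp S} (a : P ⟶ X') (snd : P ⟶ (AlgSp.yon S).obj Z)
    (sq : IsPullback a snd f' ((AlgSp.yon S).map t)) :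
    IsClosedMap (AlgSp.Points.map snd) := by
  obtain ⟨h, hh⟩ := (AlgSp.yon S).map_surjective (π ≫ f')
  obtain ⟨UZ, p₁, p₂, sqU, sqU'⟩ := exists_over_pullback h t
  obtain ⟨πZ, hπZ₁, hπZ₂, sqπZ⟩ := exists_chart_lift f' π h hh.symm t a snd sq p₁ p₂ sqU
  have hπZs : AlgSp.RepWith @Surjective πZ :=
    MorphismProperty.of_isPullback (P := AlgSp.RepWith @Surjective) sqπZ.flip hπs
  haveI : IsAffine UZ.left := IsAffine.of_isPullback sqU'
  intro C hC
  rw [← isOpen_compl_iff, isOpen_iff_forall_mem_open]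
  intro z hz
  obtain ⟨z₀, rfl⟩ := (AlgSp.Points.schemeHomeo Z).surjective z
  have hsndπ : ∀ u : ↥UZ.left, AlgSp.Points.map snd (AlgSp.Points.ofPt πZ u) =
      AlgSp.Points.schemeHomeo Z (p₂.left u) := by
    intro u
    rw [AlgSp.Points.map_ofPt, hπZ₂, ofPt_yon_map]
  let F : Set ↥UZ.left := p₂.left ⁻¹' {z₀}
  have hF : IsCompact F := QuasiCompact.isCompact_preimage_singleton p₂.left z₀
  let C' : Set ↥UZ.left := AlgSp.Points.ofPt πZ ⁻¹' C
  have hC' : IsClosed C' := hC.preimage (AlgSp.Points.continuous_ofPt πZ)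
  have hFC : Disjoint F C' := by
    rw [Set.disjoint_left]
    intro u huF huC
    refine hz ⟨AlgSp.Points.ofPt πZ u, huC, ?_⟩
    rw [hsndπ u]
    exact congrArg _ huF
  obtain ⟨n, s, hs, Hsep⟩ := UCAlg.exists_affineSpace_separation sqU' F C' hF hC' hFC
  let Z₁ : Over S := Over.mk ((𝔸(ULift.{u} (Fin n); V'.left) ↘ V'.left) ≫ V'.hom)
  let τ : Z₁ ⟶ V' := Over.homMk (𝔸(ULift.{u} (Fin n); V'.left) ↘ V'.left) rfl
  let s' : Z ⟶ Z₁ := Over.homMk s (by
    change s ≫ (𝔸(ULift.{u} (Fin n); V'.left) ↘ V'.left) ≫ V'.hom = Z.hom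
    rw [reassoc_of% hs, Over.w t])
  have hs' : s' ≫ τ = t := by
    ext
    exact hs
  have sq₁ := IsPullback.of_hasPullback f' ((AlgSp.yon S).map τ)
  have hcl₁ : IsClosedMap (AlgSp.Points.map (pullback.snd f' ((AlgSp.yon S).map τ))) :=
    H n _ _ _ sq₁
  have haPw : a ≫ f' = (snd ≫ (AlgSp.yon S).map s') ≫ (AlgSp.yon S).map τ := by
    rw [sq.w, Category.assoc, ← Functor.map_comp, hs']
  let aP : P ⟶ pullback f' ((AlgSp.yon S).map τ) := pullback.lift a (snd ≫ (AlgSp.yon S).map s') haPw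
  have haP₁ : aP ≫ pullback.fst f' ((AlgSp.yon S).map τ) = a := pullback.lift_fst _ _ _
  have haP₂ : aP ≫ pullback.snd f' ((AlgSp.yon S).map τ) = snd ≫ (AlgSp.yon S).map s' :=
    pullback.lift_snd _ _ _
  have sqP : IsPullback aP snd (pullback.snd f' ((AlgSp.yon S).map τ)) ((AlgSp.yon S).map s') := by
    refine IsPullback.of_right ?_ haP₂ sq₁
    rw [haP₁, ← Functor.map_comp, hs']
    exact sq
  obtain ⟨U₀, q₁, q₂, sqU₀, sqU₀'⟩ := exists_over_pullback h τ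
  obtain ⟨π₁, hπ₁₁, hπ₁₂, sqπ₁⟩ := exists_chart_lift f' π h hh.symm τ _ _ sq₁ q₁ q₂ sqU₀
  have hπ₁e : AlgSp.RepWith @Etale π₁ :=
    MorphismProperty.of_isPullback (P := AlgSp.RepWith @Etale) sqπ₁.flip hπe
  have hmw : p₁ ≫ h = (p₂ ≫ s') ≫ τ := by rw [sqU.w, Category.assoc, hs']
  let m : UZ ⟶ U₀ := sqU₀.lift p₁ (p₂ ≫ s') hmw
  have hm₁ : m ≫ q₁ = p₁ := sqU₀.lift_fst _ _ _
  have hm₂ : m ≫ q₂ = p₂ ≫ s' := sqU₀.lift_snd _ _ _
  have hmπ : (AlgSp.yon S).map m ≫ π₁ = πZ ≫ aP := by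
    apply pullback.hom_ext
    · rw [Category.assoc, hπ₁₁, Category.assoc, haP₁, hπZ₁, ← Category.assoc, ← Functor.map_comp, hm₁]
    · rw [Category.assoc, hπ₁₂, Category.assoc, haP₂, ← Category.assoc, hπZ₂, ← Functor.map_comp,
        ← Functor.map_comp, hm₂]
  have sqm : IsPullback ((AlgSp.yon S).map m) πZ π₁ aP := by
    refine IsPullback.of_right ?_ hmπ sqπ₁.flip
    rw [← Functor.map_comp, hm₁, haP₁]
    exact sqπZ.flip
  obtain ⟨W₀, hFW, hWC⟩ := Hsep U₀.left q₁.left q₂.left m.left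
    (by rw [← Over.comp_left, hm₁]) (by rw [← Over.comp_left, hm₂]; rfl)
  obtain ⟨O, hO, hzO, hdisj⟩ := topological_core (AlgSp.Points.ofPt πZ) (AlgSp.Points.map snd)
    (AlgSp.Points.ofPt π₁) (AlgSp.Points.map (pullback.snd f' ((AlgSp.yon S).map τ)))
    (fun u => m.left u) (AlgSp.Points.map aP) (AlgSp.Points.map ((AlgSp.yon S).map s'))
    (Groth.Agent.S10177.surjective_ofPt πZ hπZs) (Groth.Agent.S10176.isOpenMap_ofPt π₁ hπ₁e)
    hcl₁ (AlgSp.Points.continuous_map _)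
    (fun u => by
      rw [AlgSp.Points.map_ofPt, ← hmπ, Groth.Agent.S10176.ofPt_map_comp])
    (fun c => by
      rw [← AlgSp.Points.map_comp, ← AlgSp.Points.map_comp, sqP.w])
    (fun w c hwc => by
      obtain ⟨p, hp1, hp2⟩ := Groth.Agent.S10175.exists_point_of_isPullback sqm
        (AlgSp.Points.ofScheme U₀ w) c (by rw [← AlgSp.Points.ofPt_eq_map_ofScheme]; exact hwc)
      obtain ⟨u, rfl⟩ := (AlgSp.Points.schemeHomeo UZ).surjective p
      refine ⟨u, ?_, ?_⟩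
      · apply (AlgSp.Points.schemeHomeo U₀).injective
        rw [← AlgSp.Points.map_yon_map_apply]
        exact hp1
      · rw [AlgSp.Points.ofPt_eq_map_ofScheme]
        exact hp2)
    (fun c₁ z hcz => Groth.Agent.S10175.exists_point_of_isPullback sqP c₁ z hcz)
    C (AlgSp.Points.schemeHomeo Z z₀) (W₀ : Set ↥U₀.left) W₀.2
    (fun u hu => by
      rw [hsndπ u] at hu
      have : p₂.left u = z₀ := (AlgSp.Points.schemeHomeo Z).injective hu
      exact hFW this)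
    (fun u hu => hWC hu)
  exact ⟨O, fun x hx hxC => Set.disjoint_left.1 hdisj hx hxC, hO, hzO⟩

end Groth.Agent.Lib.T2H1.UCCore
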