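import Mathlib
import Groth.Agent.Lib.T2H1UCCore
import Groth.Agent.S10177

/-!
# Integrality of global functions for universally closed morphisms to affine schemes (helper1)
-/

set_option autoImplicit false
universe u
open CategoryTheory CategoryTheory.Limits AlgebraicGeometry TopologicalSpace Opposite
open AlgSp

namespace Groth.Agent.Lib.T2H1.IntGsect

section Ring

open Polynomial PrimeSpectrum

/-- an element `r` of an `R`-algebra `S` is integral as soon as the image of `V(rX - 1)` in
`Spec R[X]` is closed (the one-element form of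
`PrimeSpectrum.isIntegral_of_isClosedMap_comap_mapRingHom`). -/
lemma exists_monic_of_isClosed_image {R S : Type*} [CommRing R] [CommRing S] (f : R →+* S) (r : S)
    (h : IsClosed (comap (mapRingHom f) '' zeroLocus {C r * X - 1})) :
    ∃ q : R[X], q.Monic ∧ eval₂ f r q = 0 := by
  rcases subsingleton_or_nontrivial S with hS | hS
  · exact ⟨1, monic_one, Subsingleton.elim _ _⟩
  haveI : Nontrivial R := f.domain_nontrivial
  let p : S[X] := C r * X - 1
  have : (1 : R[X]) ∈ Ideal.span {X} ⊔ (Ideal.span {p}).comap (mapRingHom f) := by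
    have H := h
    rw [← zeroLocus_span, ← closure_eq_iff_isClosed, closure_image_comap_zeroLocus] at H
    rw [← Ideal.eq_top_iff_one, sup_comm, ← zeroLocus_empty_iff_eq_top, zeroLocus_sup, H]
    suffices ∀ (a : PrimeSpectrum S[X]), p ∈ a.asIdeal → X ∉ a.asIdeal by
      simpa [Set.eq_empty_iff_forall_notMem]
    intro q hpq hXq
    have : 1 ∈ q.asIdeal := by simpa [p] using! (sub_mem (q.asIdeal.mul_mem_left (C r) hXq) hpq)
    exact q.2.ne_top (q.asIdeal.eq_top_iff_one.mpr this)
  obtain ⟨a, b, hb, e⟩ := Ideal.mem_span_singleton_sup.mp this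
  obtain ⟨c, hc : b.map f = _⟩ := Ideal.mem_span_singleton.mp hb
  refine ⟨b.reverse * X ^ (1 + c.natDegree), ?_, ?_⟩
  · refine Monic.mul ?_ (by simp)
    have h : b.coeff 0 = 1 := by simpa using! congr(($e).coeff 0)
    have : b.natTrailingDegree = 0 := by simp [h]
    rw [Monic.def, reverse_leadingCoeff, trailingCoeff, this, h]
  · have : p.natDegree ≤ 1 := by simpa using! natDegree_linear_le (a := r) (b := -1)
    rw [eval₂_eq_eval_map, reverse, Polynomial.map_mul, ← reflect_map, Polynomial.map_pow,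
      map_X, ← revAt_zero (1 + _), ← reflect_monomial,
      ← reflect_mul _ _ natDegree_map_le (by simp), pow_zero, mul_one, hc,
      ← add_assoc, reflect_mul _ _ (this.trans (by simp)) le_rfl,
      eval_mul, reflect_sub, reflect_mul _ _ (by simp) (by simp)]
    simp [← pow_succ']

end Ring

section Scheme

open Polynomial

variable {U V : Scheme.{u}} [IsAffine U] [IsAffine V] (hU : U ⟶ V)

/-- the affine line over an affine scheme `V`, as the spectrum of a polynomial ring. -/
noncomputable abbrev lineTo (V : Scheme.{u}) [IsAffine V] :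
    Spec (CommRingCat.of (Polynomial Γ(V, ⊤))) ⟶ V :=
  Spec.map (CommRingCat.ofHom (C : Γ(V, ⊤) →+* Polynomial Γ(V, ⊤))) ≫ V.isoSpec.inv

/-- the map between the affine lines over `U` and `V`. -/
noncomputable abbrev lineMap : Spec (CommRingCat.of (Polynomial Γ(U, ⊤))) ⟶
    Spec (CommRingCat.of (Polynomial Γ(V, ⊤))) :=
  Spec.map (CommRingCat.ofHom (mapRingHom hU.appTop.hom))

lemma isPullback_line : IsPullback (lineTo U) (lineMap hU) hU (lineTo V) := by
  have top : IsPullback (Spec.map (CommRingCat.ofHom (C : Γ(U, ⊤) →+* Polynomial Γ(U, ⊤))))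
      (lineMap hU) (Spec.map hU.appTop)
      (Spec.map (CommRingCat.ofHom (C : Γ(V, ⊤) →+* Polynomial Γ(V, ⊤)))) := by
    algebraize [hU.appTop.hom, Polynomial.mapRingHom hU.appTop.hom]
    exact isPullback_SpecMap_of_isPushout _ _ _ _
      (CommRingCat.isPushout_of_isPushout Γ(V, ⊤) Γ(U, ⊤) (Polynomial Γ(V, ⊤)) (Polynomial Γ(U, ⊤)))
  have bot : IsPullback (Spec.map hU.appTop) U.isoSpec.inv V.isoSpec.inv hU :=
    IsPullback.of_vert_isIso ⟨Scheme.isoSpec_inv_naturality hU⟩
  exact (top.flip.paste_vert bot).flip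

/-- the coordinate function on the affine line. -/
noncomputable abbrev lineCoord (V : Scheme.{u}) [IsAffine V] :
    Γ(Spec (CommRingCat.of (Polynomial Γ(V, ⊤))), ⊤) :=
  (Scheme.ΓSpecIso (CommRingCat.of (Polynomial Γ(V, ⊤)))).inv (X : Polynomial Γ(V, ⊤))

/-- the function `a x - 1` on the affine line over `U`. -/
noncomputable abbrev lineFun (a : Γ(U, ⊤)) : Γ(Spec (CommRingCat.of (Polynomial Γ(U, ⊤))), ⊤) :=
  (lineTo U).appTop a * (lineMap hU).appTop (lineCoord V) - 1

lemma isoSpec_inv_appTop' (U : Scheme.{u}) [IsAffine U] :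
    U.isoSpec.inv.appTop = (Scheme.ΓSpecIso Γ(U, ⊤)).inv := by
  rw [← cancel_epi (Scheme.ΓSpecIso Γ(U, ⊤)).hom, Iso.hom_inv_id, ← Scheme.toSpecΓ_appTop,
    ← Scheme.isoSpec_hom, ← Scheme.Hom.comp_appTop, Iso.inv_hom_id, Scheme.Hom.id_appTop]

lemma lineTo_appTop_ΓSpecIso (U : Scheme.{u}) [IsAffine U] :
    (lineTo U).appTop ≫ (Scheme.ΓSpecIso (CommRingCat.of (Polynomial Γ(U, ⊤)))).hom =
      CommRingCat.ofHom (C : Γ(U, ⊤) →+* Polynomial Γ(U, ⊤)) := by
  rw [Scheme.Hom.comp_appTop, isoSpec_inv_appTop', Category.assoc, Scheme.ΓSpecIso_naturality]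
  exact Iso.inv_hom_id_assoc (Scheme.ΓSpecIso Γ(U, ⊤)) _

lemma ΓSpecIso_hom_lineFun (a : Γ(U, ⊤)) :
    (Scheme.ΓSpecIso (CommRingCat.of (Polynomial Γ(U, ⊤)))).hom (lineFun hU a) =
      (C a * X - 1 : Polynomial Γ(U, ⊤)) := by
  have h1 : (Scheme.ΓSpecIso (CommRingCat.of (Polynomial Γ(U, ⊤)))).hom ((lineTo U).appTop a) =
      (C a : Polynomial Γ(U, ⊤)) := by
    have := ConcreteCategory.congr_hom (lineTo_appTop_ΓSpecIso U) a
    rw [ConcreteCategory.comp_apply] at this
    exact this
  have h2 : (Scheme.ΓSpecIso (CommRingCat.of (Polynomial Γ(U, ⊤)))).hom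
      ((lineMap hU).appTop (lineCoord V)) = (X : Polynomial Γ(U, ⊤)) := by
    have := ConcreteCategory.congr_hom (Scheme.ΓSpecIso_naturality
      (CommRingCat.ofHom (mapRingHom hU.appTop.hom))) (lineCoord V)
    rw [ConcreteCategory.comp_apply, ConcreteCategory.comp_apply] at this
    rw [this]
    simp [lineCoord]
  rw [lineFun, map_sub, map_mul, h1, h2, map_one]

/-- **integrality from closedness of one image on the affine line.** -/
theorem exists_monic_of_isClosed_image_line (a : Γ(U, ⊤))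
    (h : IsClosed ((lineMap hU) '' (((Spec (CommRingCat.of (Polynomial Γ(U, ⊤)))).basicOpen
      (lineFun hU a) : Set ↥(Spec (CommRingCat.of (Polynomial Γ(U, ⊤)))))ᶜ))) :
    ∃ q : Polynomial Γ(V, ⊤), q.Monic ∧ eval₂ hU.appTop.hom a q = 0 := by
  refine exists_monic_of_isClosed_image hU.appTop.hom a ?_
  rw [basicOpen_eq_of_affine', ΓSpecIso_hom_lineFun] at h
  have e : ((PrimeSpectrum.basicOpen (C a * X - 1 : Polynomial Γ(U, ⊤)) :
      Set (PrimeSpectrum (Polynomial Γ(U, ⊤))))ᶜ) = PrimeSpectrum.zeroLocus {C a * X - 1} := by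
    rw [PrimeSpectrum.basicOpen_eq_zeroLocus_compl, compl_compl]
  exact e ▸ h

end Scheme

section Inj

/-- global functions inject along a flat surjective morphism. -/
lemma appTop_injective_of_flat_surjective {X Y : Scheme.{u}} (f : X ⟶ Y) [Flat f] [Surjective f] :
    Function.Injective f.appTop := by
  haveI := Flat.epi_of_flat_of_surjective f
  intro t₁ t₂ h
  let n := PUnit.{u + 1}
  let g₁ : Y ⟶ Spec (CommRingCat.of (MvPolynomial n (ULift.{u} ℤ))) :=
    (AffineSpace.toSpecMvPolyIntEquiv n).symm (fun _ => t₁)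
  let g₂ : Y ⟶ Spec (CommRingCat.of (MvPolynomial n (ULift.{u} ℤ))) :=
    (AffineSpace.toSpecMvPolyIntEquiv n).symm (fun _ => t₂)
  have e : f ≫ g₁ = f ≫ g₂ := by
    apply (AffineSpace.toSpecMvPolyIntEquiv n).injective
    funext i
    rw [AffineSpace.toSpecMvPolyIntEquiv_comp, AffineSpace.toSpecMvPolyIntEquiv_comp]
    simp only [g₁, g₂, Equiv.apply_symm_apply]
    exact h
  have e' : g₁ = g₂ := (cancel_epi f).1 e
  have := congrFun (congrArg (AffineSpace.toSpecMvPolyIntEquiv n) e') PUnit.unit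
  simpa only [g₁, g₂, Equiv.apply_symm_apply] using this

end Inj

section Sheaf

open Groth.Agent.Lib.T2H1.UCCore

variable {S : Scheme.{u}}

/-- **integrality of a compatible function on a chart**, for a universally closed morphism to an
affine scheme. -/
theorem exists_monic_of_univClosed {V U : Over S} [IsAffine V.left] [IsAffine U.left]
    {X : AlgSp.Sp S} (f : X ⟶ (AlgSp.yon S).obj V) (huc : AlgSp.IsUnivClosedMor f)
    (π : (AlgSp.yon S).obj U ⟶ X) (hπe : AlgSp.RepWith @Etale π)
    (hπs : AlgSp.RepWith @Surjective π) (hU : U ⟶ V) (hh : π ≫ f = (AlgSp.yon S).map hU)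
    (a : Γ(U.left, ⊤))
    (hcompat : ∀ (Rr : Over S) (r₁ r₂ : Rr ⟶ U),
      (AlgSp.yon S).map r₁ ≫ π = (AlgSp.yon S).map r₂ ≫ π → r₁.left.appTop a = r₂.left.appTop a) :
    ∃ q : Polynomial Γ(V.left, ⊤), q.Monic ∧ Polynomial.eval₂ hU.left.appTop.hom a q = 0 := by
  let TV : Over S := Over.mk (lineTo V.left ≫ V.hom)
  let tV : TV ⟶ V := Over.homMk (lineTo V.left) rfl
  let TU : Over S := Over.mk (lineTo U.left ≫ U.hom)
  let tU : TU ⟶ U := Over.homMk (lineTo U.left) rfl
  have hline := isPullback_line hU.left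
  let m : TU ⟶ TV := Over.homMk (lineMap hU.left) (by
    change lineMap hU.left ≫ lineTo V.left ≫ V.hom = lineTo U.left ≫ U.hom
    have h := congrArg (fun φ => φ ≫ V.hom) hline.w
    simp only [Category.assoc, Over.w hU] at h
    simp only [Category.assoc]
    exact h.symm)
  have hcomm : tU ≫ hU = m ≫ tV := by
    ext
    exact hline.w
  have sqU : IsPullback tU m hU tV := IsPullback.of_map (Over.forget S) hcomm hline
  have sq := IsPullback.of_hasPullback f ((AlgSp.yon S).map tV)
  obtain ⟨πZ, hπZ₁, hπZ₂, sqπZ⟩ := exists_chart_lift f π hU hh tV _ _ sq tU m sqU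
  have hπZs : AlgSp.RepWith @Surjective πZ :=
    MorphismProperty.of_isPullback (P := AlgSp.RepWith @Surjective) sqπZ.flip hπs
  have hπZe : AlgSp.RepWith @Etale πZ :=
    MorphismProperty.of_isPullback (P := AlgSp.RepWith @Etale) sqπZ.flip hπe
  -- the function cutting out the closed set
  obtain ⟨G, hG⟩ : ∃ G : Γ(TU.left, ⊤), G = lineFun hU.left a := ⟨_, rfl⟩
  -- saturation
  have hsat : ∀ u u' : ↥TU.left, AlgSp.Points.ofPt πZ u = AlgSp.Points.ofPt πZ u' →
      u ∈ TU.left.basicOpen G → u' ∈ TU.left.basicOpen G := by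
    intro u u' e hu
    obtain ⟨W, w₂, pr, sqW⟩ := hπZe.1 πZ
    obtain ⟨w₁, rfl⟩ := (AlgSp.yon S).map_surjective pr
    obtain ⟨y, hy1, hy2⟩ := Groth.Agent.S10176.exists_point_of_isPullback_yon sqW u u' e
    have k1 : (w₁ ≫ tU).left.appTop a = (w₂ ≫ tU).left.appTop a := by
      refine hcompat W _ _ ?_
      rw [Functor.map_comp, Functor.map_comp, Category.assoc, Category.assoc, ← hπZ₁,
        ← Category.assoc, ← Category.assoc, sqW.w]
    have k2 : w₁ ≫ m = w₂ ≫ m := by
      apply (AlgSp.yon S).map_injective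
      rw [Functor.map_comp, Functor.map_comp, ← hπZ₂, ← Category.assoc, ← Category.assoc, sqW.w]
    have k3 : w₁.left.appTop G = w₂.left.appTop G := by
      have k1' : w₁.left.appTop ((lineTo U.left).appTop a) =
          w₂.left.appTop ((lineTo U.left).appTop a) := by
        have := k1
        rw [Over.comp_left, Over.comp_left, Scheme.Hom.comp_appTop, Scheme.Hom.comp_appTop,
          CommRingCat.comp_apply, CommRingCat.comp_apply] at this
        exact this
      have k2' : w₁.left.appTop ((lineMap hU.left).appTop (lineCoord V.left)) =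
          w₂.left.appTop ((lineMap hU.left).appTop (lineCoord V.left)) := by
        have := congrArg (fun φ : W ⟶ TV => φ.left.appTop (lineCoord V.left)) k2
        simp only [Over.comp_left, Scheme.Hom.comp_appTop, CommRingCat.comp_apply] at this
        exact this
      rw [hG, lineFun, map_sub, map_sub, map_mul, map_mul, k1', k2', map_one, map_one]
    have h1 : y ∈ w₁.left ⁻¹ᵁ TU.left.basicOpen G := by
      change w₁.left y ∈ TU.left.basicOpen G
      rw [hy1]; exact hu
    rw [Scheme.preimage_basicOpen_top, k3, ← Scheme.preimage_basicOpen_top] at h1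
    have h2 : w₂.left y ∈ TU.left.basicOpen G := h1
    rw [hy2] at h2
    exact h2
  -- the closed set of points
  have hpre : AlgSp.Points.ofPt πZ ⁻¹' (AlgSp.Points.ofPt πZ ''
      ((TU.left.basicOpen G : Set ↥TU.left)ᶜ)) = (TU.left.basicOpen G : Set ↥TU.left)ᶜ := by
    ext u'
    constructor
    · rintro ⟨u, hu, e⟩ hu'
      exact hu (hsat u' u e.symm hu')
    · intro hu'
      exact ⟨u', hu', rfl⟩
  have hCcl : IsClosed (AlgSp.Points.ofPt πZ '' ((TU.left.basicOpen G : Set ↥TU.left)ᶜ)) := by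
    rw [← (Groth.Agent.S10177.isQuotientMap_ofPt πZ hπZe hπZs).isClosed_preimage, hpre]
    exact (TU.left.basicOpen G).2.isClosed_compl
  have himg := huc (AlgSp.IsAlgSpace.yon_obj TV) _ _ _ sq _ hCcl
  have himg' := himg.preimage (AlgSp.Points.schemeHomeo TV).continuous
  refine exists_monic_of_isClosed_image_line hU.left a ?_
  have e : (lineMap hU.left) '' (((Spec (CommRingCat.of (Polynomial Γ(U.left, ⊤)))).basicOpen
      (lineFun hU.left a) : Set ↥(Spec (CommRingCat.of (Polynomial Γ(U.left, ⊤)))))ᶜ) =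
      AlgSp.Points.schemeHomeo TV ⁻¹' (AlgSp.Points.map (pullback.snd f ((AlgSp.yon S).map tV)) ''
        (AlgSp.Points.ofPt πZ '' ((TU.left.basicOpen G : Set ↥TU.left)ᶜ))) := by
    ext t
    simp only [Set.mem_image, Set.mem_preimage]
    constructor
    · rintro ⟨u, hu, rfl⟩
      refine ⟨AlgSp.Points.ofPt πZ u, ⟨u, by rw [hG]; exact hu, rfl⟩, ?_⟩
      rw [AlgSp.Points.map_ofPt, hπZ₂, ofPt_yon_map]
      rfl
    · rintro ⟨_, ⟨u, hu, rfl⟩, e⟩
      rw [AlgSp.Points.map_ofPt, hπZ₂, ofPt_yon_map] at e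
      refine ⟨u, by rw [hG] at hu; exact hu, ?_⟩
      exact (AlgSp.Points.schemeHomeo TV).injective e
  rw [e]
  exact himg'

end Sheaf

end Groth.Agent.Lib.T2H1.IntGsect
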