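import Mathlib
import Groth.Agent.S10338
import Groth.Agent.S10340
import Groth.Agent.S10343
import Groth.Agent.S10448
import Groth.Agent.S10190
import Groth.Agent.S10176
import Groth.Agent.Lib.T2H1StalkDim
import Groth.Prelude.Def_AlgSpDec
import Groth.Prelude.Def_AlgSp4

/-!
# Generic points of decent irreducible algebraic spaces (helper1, team 2)

* `eq_of_specializes_of_dim_zero`: a point of a scheme with zero-dimensional local ring has no
  proper generizations.
* `eq_generic_of_codimZero`: on a decent algebraic space with irreducible `|X|`, the only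
  codimension `0` point is the generic point.
* `hasAt_codimZero_generic`: the generic point has codimension `0`.
* `map_generic`: a dominant morphism to a decent space maps the generic point to the generic point.
* `exists_generization_over_generic`: every point of a chart has a generization over the generic
  point.
-/

set_option autoImplicit false
universe u
open CategoryTheory CategoryTheory.Limits AlgebraicGeometry
open AlgSp

namespace Groth.Agent.Lib.T2H1.IntegralSp

variable {S : Scheme.{u}}

/-- a point of a scheme with zero-dimensional local ring has no proper generizations. -/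
lemma eq_of_specializes_of_dim_zero (U : Scheme.{u}) (u w : U)
    (h : ringKrullDim ↥(U.presheaf.stalk u) = 0) (hs : w ⤳ u) : w = u := by
  rw [ringKrullDim_stalk_eq_coheight] at h
  have h0 : Order.coheight u = 0 := by exact_mod_cast h
  have hmax : IsMax u := Order.coheight_eq_zero.1 h0
  have h' : u ⤳ w := hmax (b := w) hs
  exact (hs.antisymm h').eq

/-- the generic point of a decent space with irreducible `|X|` has codimension `0` in every
chart. -/
lemma dim_zero_of_generic (X : AlgSp.Space S) (hdec : AlgSp.IsDecent X.obj)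
    (x : AlgSp.Points X.obj) (hx : IsGenericPoint x (Set.univ : Set (AlgSp.Points X.obj)))
    {U : Over S} (a : (AlgSp.yon S).obj U ⟶ X.obj) (ha : AlgSp.RepWith @Etale a) (w : ↥U.left)
    (hw : AlgSp.Points.ofPt a w = x) : ringKrullDim ↥(U.left.presheaf.stalk w) = 0 := by
  haveI : T0Space (AlgSp.Points X.obj) := Groth.Agent.S10338.result X hdec
  obtain ⟨η, hη, hdim⟩ := Groth.Agent.S10190.exists_generalization_dim_zero U.left w
  have h1 : AlgSp.Points.ofPt a η ⤳ x := by
    rw [← hw]; exact hη.map (AlgSp.Points.continuous_ofPt a)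
  have h2 : x ⤳ AlgSp.Points.ofPt a η := hx.specializes (Set.mem_univ _)
  have he : AlgSp.Points.ofPt a η = x := (h1.antisymm h2).eq
  have : w = η := Groth.Agent.S10340.result X hdec a ha w η (hw.trans he.symm) hη
  rw [this]; exact hdim

lemma hasAt_codimZero_generic (X : AlgSp.Space S) (hdec : AlgSp.IsDecent X.obj)
    (x : AlgSp.Points X.obj) (hx : IsGenericPoint x (Set.univ : Set (AlgSp.Points X.obj))) :
    AlgSp.HasAt (fun U u => ringKrullDim ↥(U.presheaf.stalk u) = 0) X.obj x := by
  obtain ⟨U, a, u, ha, -, hu⟩ := Groth.Agent.S10448.exists_affine_etale_nbhd X x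
  exact ⟨U, a, u, ha, hu, dim_zero_of_generic X hdec x hx a ha u hu⟩

/-- on a decent algebraic space with irreducible `|X|` the only codimension `0` point is the
generic point. -/
theorem eq_generic_of_codimZero (X : AlgSp.Space S) (hdec : AlgSp.IsDecent X.obj)
    (x : AlgSp.Points X.obj) (hx : IsGenericPoint x (Set.univ : Set (AlgSp.Points X.obj)))
    (ξ : AlgSp.Points X.obj)
    (hξ : AlgSp.HasAt (fun U u => ringKrullDim ↥(U.presheaf.stalk u) = 0) X.obj ξ) : ξ = x := by
  obtain ⟨U, a, u, ha, hUaff, hu⟩ := Groth.Agent.S10448.exists_affine_etale_nbhd X ξ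
  have hdim : ringKrullDim ↥(U.left.presheaf.stalk u) = 0 :=
    Groth.Agent.Lib.T2H1.HasAt.of_hasAt
      (Groth.Agent.Lib.T2H1.HasAt.etInv1_stalkDim (fun s => s = 0)) ξ hξ a ha u hu
  have hfin : (AlgSp.Points.ofPt a ⁻¹' {x}).Finite :=
    Groth.Agent.S10338.finite_fibre_of_isDecent hdec x U a hUaff ha
  by_contra hne
  have huF : u ∉ closure (AlgSp.Points.ofPt a ⁻¹' {x}) := by
    intro hmem
    rw [← Set.biUnion_of_singleton (AlgSp.Points.ofPt a ⁻¹' {x}),
      hfin.closure_biUnion] at hmem
    obtain ⟨w, hw, hwu⟩ := Set.mem_iUnion₂.1 hmem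
    have hsp : w ⤳ u := specializes_iff_mem_closure.2 hwu
    have := eq_of_specializes_of_dim_zero U.left u w hdim hsp
    subst this
    exact hne (hu.symm.trans hw)
  have hopen : IsOpen (AlgSp.Points.ofPt a '' (closure (AlgSp.Points.ofPt a ⁻¹' {x}))ᶜ) :=
    Groth.Agent.S10176.isOpenMap_ofPt a ha _ isClosed_closure.isOpen_compl
  have hxin : x ∈ AlgSp.Points.ofPt a '' (closure (AlgSp.Points.ofPt a ⁻¹' {x}))ᶜ := by
    rw [hx.mem_open_set_iff hopen]
    exact ⟨AlgSp.Points.ofPt a u, Set.mem_univ _, u, huF, rfl⟩
  obtain ⟨w, hw, hwx⟩ := hxin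
  exact hw (subset_closure hwx)

/-- a dominant morphism to a decent space maps the generic point to the generic point. -/
theorem map_generic {X Y : AlgSp.Space S} (f : X ⟶ Y) (hd : AlgSp.IsDominantMor f.hom)
    (hdecY : AlgSp.IsDecent Y.obj)
    (x : AlgSp.Points X.obj) (hx : IsGenericPoint x (Set.univ : Set (AlgSp.Points X.obj)))
    (y : AlgSp.Points Y.obj) (hy : IsGenericPoint y (Set.univ : Set (AlgSp.Points Y.obj))) :
    AlgSp.Points.map f.hom x = y := by
  haveI : T0Space (AlgSp.Points Y.obj) := Groth.Agent.S10338.result Y hdecY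
  have hgen : IsGenericPoint (AlgSp.Points.map f.hom x) (Set.univ : Set (AlgSp.Points Y.obj)) := by
    have h1 := hx.image (AlgSp.Points.continuous_map f.hom)
    rw [Set.image_univ] at h1
    have h2 : closure (Set.range (AlgSp.Points.map f.hom)) = Set.univ := hd.closure_range
    rw [h2] at h1
    exact h1
  exact hgen.eq hy

/-- every point of an etale chart of a decent space with generic point `x` has a generization in
the chart lying over `x`. -/
theorem exists_generization_over_generic (X : AlgSp.Space S) (hdec : AlgSp.IsDecent X.obj)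
    (x : AlgSp.Points X.obj) (hx : IsGenericPoint x (Set.univ : Set (AlgSp.Points X.obj)))
    {U : Over S} (a : (AlgSp.yon S).obj U ⟶ X.obj) (ha : AlgSp.RepWith @Etale a) (u : ↥U.left) :
    ∃ u' : ↥U.left, u' ⤳ u ∧ AlgSp.Points.ofPt a u' = x :=
  Groth.Agent.S10343.result X (AlgSp.Points.ofPt a u) x (hx.specializes (Set.mem_univ _))
    (hdec x) a ha u rfl

end Groth.Agent.Lib.T2H1.IntegralSp
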