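import Mathlib
import Groth.Agent.Lib.T2H1EssEtFrac
import Groth.Agent.Lib.T2H1BranchPI
import Groth.Agent.Lib.Helper3EtRed
import Groth.Agent.Lib.Helper3HzD
import Groth.Agent.Lib.Helper3HzP
import Groth.Agent.Lib.Helper3HzN

/-!
# The intersection of an intermediate ring with the normalization of an essentially étale local
algebra (helper1, tranche 2)
-/

set_option autoImplicit false
universe u
open IsLocalRing Polynomial

namespace Groth.Agent.Lib.T2H1.InterNormal

section Residue

variable (A E : Type u) [CommRing A] [IsLocalRing A] [CommRing E] [IsLocalRing E] [Algebra A E]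
  [IsLocalHom (algebraMap A E)] [Algebra.QuasiFinite A E]

theorem finite_residueField : Module.Finite (ResidueField A) (ResidueField E) := by
  haveI : Algebra.QuasiFinite A (ResidueField E) :=
    inferInstanceAs (Algebra.QuasiFinite A (E ⧸ maximalIdeal E))
  haveI : Algebra.QuasiFinite (ResidueField A) (ResidueField E) :=
    Algebra.QuasiFinite.of_restrictScalars A _ _
  exact Module.Finite.of_quasiFinite

variable (B : Type u) [CommRing B] [Algebra E B] [Algebra A B] [IsScalarTower A E B]
  [Algebra.IsIntegral E B] (M : Ideal B) [M.IsMaximal]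

include E in
/-- Modulo a maximal ideal of an integral `E`-algebra (`E` quasi-finite local over the local ring
`A`), every element outside the ideal is invertible by an `A`-polynomial in itself. -/
theorem exists_mul_sub_one_mem (x : B) (hx : x ∉ M) :
    ∃ y ∈ Algebra.adjoin A {x}, x * y - 1 ∈ M := by
  letI : Field (B ⧸ M) := Ideal.Quotient.field M
  let ψ : E →+* B ⧸ M := (Ideal.Quotient.mk M).comp (algebraMap E B)
  haveI : IsLocalHom ψ := by
    constructor
    intro e he
    by_contra hne
    have h1 : e ∈ maximalIdeal E := hne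
    have hmax : (M.comap (algebraMap E B)).IsMaximal :=
      Ideal.isMaximal_comap_of_isIntegral_of_isMaximal (R := E) M
    rw [← IsLocalRing.eq_maximalIdeal hmax, Ideal.mem_comap] at h1
    have h2 : ψ e = 0 := Ideal.Quotient.eq_zero_iff_mem.mpr h1
    rw [h2] at he
    exact not_isUnit_zero he
  letI : Algebra (ResidueField E) (B ⧸ M) := (ResidueField.lift ψ).toAlgebra
  letI : Algebra (ResidueField A) (B ⧸ M) :=
    ((ResidueField.lift ψ).comp (algebraMap (ResidueField A) (ResidueField E))).toAlgebra
  haveI : IsScalarTower (ResidueField A) (ResidueField E) (B ⧸ M) :=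
    IsScalarTower.of_algebraMap_eq (fun _ => rfl)
  haveI := finite_residueField A E
  haveI : Algebra.IsIntegral (ResidueField A) (ResidueField E) := Algebra.IsIntegral.of_finite _ _
  set xb : B ⧸ M := Ideal.Quotient.mk M x with hxb
  have hxb0 : xb ≠ 0 := fun h => hx (Ideal.Quotient.eq_zero_iff_mem.mp h)
  have hint1 : IsIntegral (ResidueField E) xb := by
    obtain ⟨p, hpm, hp⟩ := Algebra.IsIntegral.isIntegral (R := E) x
    refine ⟨p.map (residue E), hpm.map _, ?_⟩
    rw [Polynomial.eval₂_map]
    have h1 : (algebraMap (ResidueField E) (B ⧸ M)).comp (residue E) = ψ := by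
      ext e
      rfl
    rw [h1]
    change Polynomial.eval₂ ((Ideal.Quotient.mk M).comp (algebraMap E B))
      (Ideal.Quotient.mk M x) p = 0
    rw [← Polynomial.hom_eval₂, hp, map_zero]
  have hint2 : IsIntegral (ResidueField A) xb := isIntegral_trans xb hint1
  have halg : IsAlgebraic (ResidueField A) xb := hint2.isAlgebraic
  have hinv : xb⁻¹ ∈ Algebra.adjoin (ResidueField A) {xb} := by
    have := Subalgebra.inv_mem_of_algebraic (A := Algebra.adjoin (ResidueField A) {xb})
      (x := ⟨xb, Algebra.subset_adjoin (Set.mem_singleton _)⟩) halg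
    exact this
  rw [Algebra.adjoin_singleton_eq_range_aeval] at hinv
  obtain ⟨q, hq⟩ := hinv
  obtain ⟨Q, rfl⟩ := Polynomial.map_surjective (residue A) residue_surjective q
  refine ⟨Polynomial.aeval x Q, ?_, ?_⟩
  · rw [Algebra.adjoin_singleton_eq_range_aeval]
    exact ⟨Q, rfl⟩
  · rw [← Ideal.Quotient.eq_zero_iff_mem, map_sub, map_mul, map_one]
    have h2 : Ideal.Quotient.mk M (Polynomial.aeval x Q) = xb⁻¹ := by
      rw [← hq]
      change _ = Polynomial.aeval xb (Q.map (residue A))
      rw [Polynomial.aeval_def, Polynomial.aeval_def, Polynomial.eval₂_map, Polynomial.hom_eval₂]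
      congr 1
      ext a
      change Ideal.Quotient.mk M (algebraMap A B a) =
        ResidueField.lift ψ (algebraMap (ResidueField A) (ResidueField E) (residue A a))
      rw [ResidueField.algebraMap_residue, ResidueField.lift_residue_apply]
      change _ = Ideal.Quotient.mk M (algebraMap E B (algebraMap A E a))
      rw [← IsScalarTower.algebraMap_apply]
    rw [h2, mul_inv_cancel₀ hxb0, sub_self]

end Residue

section Ess

variable (A E : Type u) [CommRing A] [IsLocalRing A] [IsReduced A] [IsNoetherianRing A]
  [CommRing E] [Algebra A E] (hE : EGA4loc.IsEssentiallyEtale A E)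

include hE

theorem isReduced_of_ess : IsReduced E := by
  obtain ⟨C, _, _, q, _, hEt, hq, ⟨e⟩⟩ := hE
  haveI : IsReduced C := Groth.Agent.Lib.Helper3.EtRed.isReduced_of_etale A C
  haveI : IsReduced (Localization.AtPrime q) := inferInstance
  exact isReduced_of_injective e.toRingEquiv e.injective

theorem isNoetherianRing_of_ess : IsNoetherianRing E := by
  obtain ⟨C, _, _, q, _, hEt, hq, ⟨e⟩⟩ := hE
  haveI : IsNoetherianRing C := Algebra.FiniteType.isNoetherianRing A C
  haveI : IsNoetherianRing (Localization.AtPrime q) :=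
    IsLocalization.isNoetherianRing q.primeCompl _ inferInstance
  exact isNoetherianRing_of_ringEquiv _ e.symm.toRingEquiv

end Ess

section Norm

open Groth.Agent.Lib.Helper3

/-- The normalization of a Noetherian reduced local ring has finitely many maximal ideals. -/
theorem finite_maximalSpectrum_normalization (E : Type u) [CommRing E] [IsLocalRing E]
    [IsReduced E] [IsNoetherianRing E] :
    Finite (MaximalSpectrum (integralClosure E (FractionRing E))) := by
  have hfin : (minimalPrimes E).Finite := minimalPrimes.finite_of_isNoetherianRing E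
  have h1 := Groth.Agent.Lib.T2H1.BranchPI.numBranches_eq_card E hfin
  have h2 := Groth.Agent.S9237.result E (Hz.Rh E)
  have h3 : (minimalPrimes (Hz.Rh E)).Finite := minimalPrimes.finite_of_isNoetherianRing _
  rw [h1] at h2
  rw [← ENat.card_lt_top, ← h2, ENat.card_lt_top]
  exact h3.to_subtype

end Norm

section Main

variable (A E : Type u) [CommRing A] [IsLocalRing A] [IsReduced A] [IsNoetherianRing A]
  [CommRing E] [IsLocalRing E] [Algebra A E] [IsLocalHom (algebraMap A E)]
  (hE : EGA4loc.IsEssentiallyEtale A E) (L : Subalgebra A (FractionRing E))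
  (hL : ∀ s ∈ nonZeroDivisors A, ∃ y ∈ L, algebraMap A (FractionRing E) s * y = 1)

include hE hL

local notation "K" => FractionRing E
local notation "E'" => integralClosure E (FractionRing E)
local notation "E'A" => Subalgebra.restrictScalars A (integralClosure E (FractionRing E))

theorem main (C : Subalgebra A (FractionRing E))
    (hC : C = L ⊓ (integralClosure E (FractionRing E)).restrictScalars A) :
    (∀ x ∈ L, IsIntegral C x → x ∈ C) ∧
      {N : Ideal C | N.IsMaximal}.Finite ∧
      (∀ N : Ideal C, N.IsMaximal ↔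
        ∃ M : Ideal ((integralClosure E (FractionRing E)).restrictScalars A),
          M.IsMaximal ∧ N = M.comap (Subalgebra.inclusion (hC.trans_le inf_le_right))) ∧
      ∀ l ∈ L, ∃ c ∈ C, ∃ s ∈ nonZeroDivisors A, ∃ y ∈ L,
        algebraMap A (FractionRing E) s * y = 1 ∧ l = c * y := by
  have hmin : (minimalPrimes A).Finite := minimalPrimes.finite_of_isNoetherianRing A
  haveI := EssEtFrac.flat A E hE
  haveI := EssEtFrac.quasiFinite A E hE
  haveI := isReduced_of_ess A E hE
  haveI := isNoetherianRing_of_ess A E hE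
  have hCL : C ≤ L := hC.trans_le inf_le_left
  have hCE : C ≤ E'A := hC.trans_le inf_le_right
  have hmemC : ∀ x, x ∈ C ↔ x ∈ L ∧ IsIntegral E x := by
    intro x
    rw [hC]
    exact Iff.rfl
  -- the inclusion
  let j : C →ₐ[A] E'A := Subalgebra.inclusion hCE
  -- instances on `E'A`
  letI instAlgE : Algebra E E'A := inferInstanceAs (Algebra E E')
  haveI instTower : IsScalarTower A E E'A :=
    IsScalarTower.of_algebraMap_eq (fun a => Subtype.ext (IsScalarTower.algebraMap_apply A E K a))
  haveI instInt : Algebra.IsIntegral E E'A := inferInstanceAs (Algebra.IsIntegral E E')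
  -- finiteness of the maximal spectrum of `E'`
  have hfinM : {M : Ideal E'A | M.IsMaximal}.Finite := by
    haveI := finite_maximalSpectrum_normalization E
    haveI : Finite {M : Ideal E' // M.IsMaximal} :=
      Finite.of_equiv _ (MaximalSpectrum.equivSubtype _)
    exact Set.finite_coe_iff.mp (inferInstanceAs (Finite {M : Ideal E' // M.IsMaximal}))
  -- (3 ⇐)
  have h3b : ∀ M : Ideal E'A, M.IsMaximal → (M.comap j).IsMaximal := by
    intro M hM
    haveI : (M.comap j).IsPrime := Ideal.comap_isPrime j M
    rw [Ideal.isMaximal_iff]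
    refine ⟨fun h => (Ideal.IsPrime.ne_top ‹_›) ((Ideal.eq_top_iff_one _).mpr h), ?_⟩
    intro J c hJ hc hcJ
    have hc' : j c ∉ M := hc
    obtain ⟨y, hy, hxy⟩ := exists_mul_sub_one_mem A E E'A M (j c) hc'
    have hy' : y ∈ (Algebra.adjoin A {c}).map j := by
      rw [AlgHom.map_adjoin, Set.image_singleton]
      exact hy
    obtain ⟨y', -, rfl⟩ := hy'
    have h1 : c * y' - 1 ∈ M.comap j := by
      rw [Ideal.mem_comap, map_sub, map_mul, map_one]
      exact hxy
    have h2 : (1 : C) = c * y' - (c * y' - 1) := by ring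
    rw [h2]
    exact J.sub_mem (J.mul_mem_right _ hcJ) (hJ h1)
  -- (3 ⇒)
  have h3a : ∀ N : Ideal C, N.IsMaximal → ∃ M : Ideal E'A, M.IsMaximal ∧ N = M.comap j := by
    intro N hN
    by_contra hcon
    push_neg at hcon
    have hnot : ¬ ((N : Set C) ⊆ ⋃ M ∈ (hfinM.toFinset : Set (Ideal E'A)), ((M.comap j : Ideal C) : Set C)) := by
      intro hsub
      rw [Ideal.subset_union_prime (f := fun M : Ideal E'A => M.comap j) ⊥ ⊥] at hsub
      · obtain ⟨M, hM, hNM⟩ := hsub
        rw [Set.Finite.mem_toFinset] at hM
        have hM' : M.IsMaximal := hM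
        have := hN.eq_of_le (h3b M hM').ne_top hNM
        exact hcon M hM' this
      · intro M hM _ _
        rw [Set.Finite.mem_toFinset] at hM
        have hM' : M.IsMaximal := hM
        haveI := hM'.isPrime
        exact Ideal.comap_isPrime j M
    rw [Set.not_subset] at hnot
    obtain ⟨c, hcN, hc⟩ := hnot
    simp only [Set.mem_iUnion, not_exists] at hc
    have hunit : IsUnit (j c) := by
      by_contra hnu
      obtain ⟨M, hM, hcM⟩ := exists_max_ideal_of_mem_nonunits (show j c ∈ nonunits _ from hnu)
      exact hc M (by rw [Finset.mem_coe, Set.Finite.mem_toFinset]; exact hM) hcM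
    obtain ⟨u, hu⟩ := hunit
    have hunitK : IsUnit (c : K) := by
      have := (u.isUnit.map (Subalgebra.val E'A))
      rw [hu] at this
      exact this
    obtain ⟨y, hyL, hcy⟩ := EssEtFrac.exists_inv_mem A E hmin L hL (c : K) (hCL c.2) hunitK
    have hyE : y = ((↑(u⁻¹) : E'A) : K) := by
      have h1 : (c : K) * ((↑(u⁻¹) : E'A) : K) = 1 := by
        have h2 : (j c) * (↑(u⁻¹) : E'A) = 1 := by rw [← hu]; exact u.mul_inv
        exact congrArg Subtype.val h2
      calc y = y * ((c : K) * ((↑(u⁻¹) : E'A) : K)) := by rw [h1, mul_one]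
        _ = ((c : K) * y) * ((↑(u⁻¹) : E'A) : K) := by ring
        _ = _ := by rw [hcy, one_mul]
    have hyC : y ∈ C := by
      rw [hC]
      refine ⟨hyL, ?_⟩
      rw [hyE]
      exact (↑(u⁻¹) : E'A).2
    have h1 : c * ⟨y, hyC⟩ = 1 := Subtype.ext hcy
    exact hN.ne_top ((Ideal.eq_top_iff_one _).mpr (h1 ▸ N.mul_mem_right _ hcN))
  refine ⟨?_, ?_, ?_, ?_⟩
  · -- (1)
    intro x hxL hx
    rw [hmemC]
    refine ⟨hxL, ?_⟩
    have hxE' : IsIntegral E' x := by
      obtain ⟨p, hpm, hp⟩ := hx
      refine ⟨p.map (j : C →+* E'A), hpm.map _, ?_⟩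
      rw [Polynomial.eval₂_map]
      exact hp
    exact isIntegral_trans x hxE'
  · -- (2)
    refine Set.Finite.subset (hfinM.image (fun M => M.comap j)) ?_
    intro N hN
    obtain ⟨M, hM, rfl⟩ := h3a N hN
    exact ⟨M, hM, rfl⟩
  · -- (3)
    intro N
    constructor
    · exact h3a N
    · rintro ⟨M, hM, rfl⟩
      exact h3b M hM
  · -- (4)
    intro l hl
    obtain ⟨d, hd, s, hs, y, hy, hsy, hly⟩ := EssEtFrac.exists_eq_mul_inv A E hmin L hL l hl
    refine ⟨algebraMap E K d, ?_, s, hs, y, hy, hsy, hly⟩
    rw [hmemC]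
    exact ⟨hd, isIntegral_algebraMap⟩

end Main

end Groth.Agent.Lib.T2H1.InterNormal
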