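import Mathlib
import Groth.Agent.Lib.T2H1FiniteSub
import Groth.Agent.Lib.T2H1BranchPI
import Groth.Agent.Lib.T2H1GaloisStage
import Groth.Agent.Lib.Helper3HenselInt
import Groth.Agent.Lib.T2H1FinEtTensor
import Groth.Agent.Lib.T2H1ShInj
import Groth.Agent.Lib.Helper24LocEt

/-!
# Counting minimal primes of a strict henselization via the separable residue extension of the
normalization (helper1, tranche 2)
-/

set_option autoImplicit false
universe u
open IsLocalRing

namespace Groth.Agent.Lib.T2H1.SepCount

open Groth.Agent.Lib.Helper3 Groth.Agent.Lib.T2H1.FiniteSub Groth.Agent.Lib.T2H1.GaloisStage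

section Birational

variable (A : Type u) [CommRing A] [IsDomain A]
  (Es : Type u) [CommRing Es] [Algebra A Es] (q₀ : Ideal Es)

/-- `Es ⧸ q₀` is birational to `A`: every element is a fraction of elements of `A` modulo `q₀`. -/
def Birat : Prop := ∀ e : Es, ∃ b : A, b ≠ 0 ∧ ∃ a : A, b • e - algebraMap A Es a ∈ q₀

variable {A Es q₀}

omit [IsDomain A] in
theorem sub_mem_of_birat (hP : Birat A Es q₀) (E : Type u) [CommRing E] [Algebra A E]
    (q : Ideal E) [q.IsPrime] (hq : q.comap (algebraMap A E) = ⊥) (h h' : Es →ₐ[A] E)
    (hh : q₀ ≤ q.comap h) (hh' : q₀ ≤ q.comap h') (e : Es) : h e - h' e ∈ q := by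
  obtain ⟨b, hb, a, hab⟩ := hP e
  have h1 : b • h e - algebraMap A E a ∈ q := by
    have := hh hab
    rw [Ideal.mem_comap, map_sub, map_smul, AlgHom.commutes] at this
    exact this
  have h2 : b • h' e - algebraMap A E a ∈ q := by
    have := hh' hab
    rw [Ideal.mem_comap, map_sub, map_smul, AlgHom.commutes] at this
    exact this
  have h3 : algebraMap A E b * (h e - h' e) ∈ q := by
    have := q.sub_mem h1 h2
    have e1 : b • h e - algebraMap A E a - (b • h' e - algebraMap A E a) =
        algebraMap A E b * (h e - h' e) := by
      rw [Algebra.smul_def, Algebra.smul_def]; ring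
    rwa [e1] at this
  rcases Ideal.IsPrime.mem_or_mem ‹q.IsPrime› h3 with h4 | h4
  · exfalso
    have : b ∈ q.comap (algebraMap A E) := h4
    rw [hq] at this
    exact hb this
  · exact h4

end Birational

section Injection

variable (A : Type u) [CommRing A] [HenselianLocalRing A] [IsDomain A]
  (S : Type u) [CommRing S] [IsLocalRing S] [Algebra A S] [IsLocalHom (algebraMap A S)]
  [Hensel.IsStrictHenselization A S]
  (Es : Type u) [CommRing Es] [IsLocalRing Es] [Algebra A Es] [IsLocalHom (algebraMap A Es)]
  [Module.Finite A Es] [Algebra.Etale A Es]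
  (E : Type u) [CommRing E] [IsLocalRing E] [Algebra A E] [IsLocalHom (algebraMap A E)]
  [Module.Finite A E] [Algebra.Etale A E]
  [Algebra E S] [IsScalarTower A E S] [IsLocalHom (algebraMap E S)]
  (q₀ : Ideal Es) [q₀.IsPrime]

omit [IsDomain A] in
theorem isLocalHom_liftHom (σ : ResidueField Es →ₐ[ResidueField A] ResidueField E) :
    IsLocalHom (liftHom A Es E σ).toRingHom := by
  constructor
  intro x hx
  by_contra hnx
  have h6 : residue Es x = 0 := (residue_eq_zero_iff x).mpr hnx
  have h7 : residue E (liftHom A Es E σ x) = 0 := by rw [liftHom_residue, h6, map_zero]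
  exact ((residue_eq_zero_iff _).mp h7) hx

include S in
omit [IsDomain A] in
theorem liftHom_injective (σ : ResidueField Es →ₐ[ResidueField A] ResidueField E) :
    Function.Injective (liftHom A Es E σ) := by
  haveI : Algebra.IsIntegral A Es := Algebra.IsIntegral.of_finite A Es
  have hEs : EGA4loc.IsEssentiallyEtale A Es :=
    Groth.Agent.Lib.T2H1.FinEtTensor.isEssentiallyEtale_of_etale A Es
  let h' : Es →ₐ[A] S := (IsScalarTower.toAlgHom A E S).comp (liftHom A Es E σ)
  haveI := isLocalHom_liftHom A Es E σ
  haveI : IsLocalHom h'.toRingHom := by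
    constructor
    intro x hx
    have h5 : IsUnit (liftHom A Es E σ x) :=
      isUnit_of_map_unit (algebraMap E S) _ hx
    exact isUnit_of_map_unit (liftHom A Es E σ).toRingHom x h5
  have h8 := Groth.Agent.Lib.T2H1.ShInj.injective_of_local A S Es hEs h'
  exact fun x y hxy => h8 (congrArg (algebraMap E S) hxy)

include S in
omit [IsDomain A] in
theorem exists_prime_over (σ : ResidueField Es →ₐ[ResidueField A] ResidueField E) :
    ∃ q : Ideal E, q.IsPrime ∧ q.comap (liftHom A Es E σ) = q₀ := by
  letI : Algebra Es E := (liftHom A Es E σ).toRingHom.toAlgebra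
  haveI : IsScalarTower A Es E := IsScalarTower.of_algebraMap_eq (fun a => by
    change algebraMap A E a = liftHom A Es E σ (algebraMap A Es a)
    rw [AlgHom.commutes])
  haveI : Algebra.IsIntegral A E := Algebra.IsIntegral.of_finite A E
  haveI : Algebra.IsIntegral Es E := Algebra.IsIntegral.tower_top A
  have hker : (⊥ : Ideal E).comap (algebraMap Es E) ≤ q₀ := by
    intro x hx
    rw [Ideal.mem_comap, Ideal.mem_bot] at hx
    have : x = 0 := liftHom_injective A S Es E σ (by rw [map_zero]; exact hx)
    rw [this]
    exact zero_mem _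
  obtain ⟨Q, -, hQp, hQ⟩ := Ideal.exists_ideal_over_prime_of_isIntegral q₀ (⊥ : Ideal E) hker
  exact ⟨Q, hQp, hQ⟩

omit [HenselianLocalRing A] in
/-- A prime of an integral algebra over a domain lying over `0` is minimal. -/
theorem mem_minimalPrimes_of_comap_eq_bot (E : Type u) [CommRing E] [Algebra A E]
    [Algebra.IsIntegral A E] (q : Ideal E) [q.IsPrime] (hq : q.comap (algebraMap A E) = ⊥) :
    q ∈ minimalPrimes E := by
  refine ⟨⟨‹_›, bot_le⟩, ?_⟩
  rintro P ⟨hP, -⟩ hPq
  by_contra hne
  obtain ⟨x, hxq, hxP⟩ := Set.not_subset.mp hne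
  haveI := hP
  have := Ideal.comap_lt_comap_of_integral_mem_sdiff (R := A) hPq ⟨hxq, hxP⟩
    (Algebra.IsIntegral.isIntegral x)
  rw [hq] at this
  exact not_lt_bot this

include S in
/-- The number of embeddings of the residue field of `Es` into that of `E` is at most the
number of minimal primes of `E`, when `Es` has a quotient birational to `A`. -/
theorem card_algHom_le [IsNoetherianRing A] (hq₀ : q₀.comap (algebraMap A Es) = ⊥)
    (hP : Birat A Es q₀) :
    Nat.card (ResidueField Es →ₐ[ResidueField A] ResidueField E) ≤
      Nat.card (minimalPrimes E) := by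
  haveI : IsNoetherianRing E := IsNoetherianRing.of_finite A E
  haveI : Finite (minimalPrimes E) := (minimalPrimes.finite_of_isNoetherianRing E).to_subtype
  haveI : Algebra.IsIntegral A E := Algebra.IsIntegral.of_finite A E
  choose q hqp hq using exists_prime_over A S Es E q₀
  have hqA : ∀ σ, (q σ).comap (algebraMap A E) = ⊥ := by
    intro σ
    have h1 : (algebraMap A E) = (liftHom A Es E σ).toRingHom.comp (algebraMap A Es) := by
      ext a
      exact ((liftHom A Es E σ).commutes a).symm
    rw [h1, ← Ideal.comap_comap]
    change ((q σ).comap (liftHom A Es E σ)).comap (algebraMap A Es) = ⊥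
    rw [hq σ, hq₀]
  let Φ : (ResidueField Es →ₐ[ResidueField A] ResidueField E) → minimalPrimes E := fun σ =>
    ⟨q σ, haveI := hqp σ; mem_minimalPrimes_of_comap_eq_bot A E (q σ) (hqA σ)⟩
  apply Nat.card_le_card_of_injective Φ
  intro σ σ' hσ
  have hqq : q σ = q σ' := congrArg Subtype.val hσ
  apply AlgHom.ext
  intro x
  obtain ⟨e, rfl⟩ := residue_surjective x
  haveI := hqp σ
  have h1 := sub_mem_of_birat hP E (q σ) (hqA σ) (liftHom A Es E σ) (liftHom A Es E σ')
    (hq σ).ge (by rw [hqq]; exact (hq σ').ge) e
  have h2 : liftHom A Es E σ e - liftHom A Es E σ' e ∈ maximalIdeal E :=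
    le_maximalIdeal (hqp σ).ne_top h1
  rw [← liftHom_residue, ← liftHom_residue, ← sub_eq_zero, ← map_sub]
  exact (residue_eq_zero_iff _).mpr h2

end Injection

section Factor

variable (A : Type u) [CommRing A] [IsLocalRing A] [IsDomain A]
  (S : Type u) [CommRing S] [IsLocalRing S] [Algebra A S] [IsLocalHom (algebraMap A S)]
  [Hensel.IsStrictHenselization A S]
  (Es : Type u) [CommRing Es] [IsLocalRing Es] [Algebra A Es] [IsLocalHom (algebraMap A Es)]
  [Algebra.Etale A Es] [Algebra.IsIntegral A Es]
  [Algebra Es S] [IsScalarTower A Es S] [IsLocalHom (algebraMap Es S)]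
  (E : Type u) [CommRing E] [IsLocalRing E] [Algebra A E] [IsLocalHom (algebraMap A E)]
  [Algebra.Etale A E]
  [Algebra E S] [IsScalarTower A E S] [IsLocalHom (algebraMap E S)]
  (q₀ : Ideal Es) [q₀.IsPrime]

/-- If the minimal primes of `S` are extended from `E`, then every element of `Es` is congruent
modulo the maximal ideal of `S` to an element of `E`. -/
theorem exists_sub_mem_of_forall (hq₀ : q₀.comap (algebraMap A Es) = ⊥) (hP : Birat A Es q₀)
    (H : ∀ Q ∈ minimalPrimes S, Q = (Q.comap (algebraMap E S)).map (algebraMap E S)) (e : Es) :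
    ∃ r : E, algebraMap Es S e - algebraMap E S r ∈ maximalIdeal S := by
  haveI : Hensel.IsStrictHenselization Es S := isStrictHenselization_of_etale A Es S
  haveI : Hensel.IsStrictHenselization E S := isStrictHenselization_of_etale A E S
  haveI : Module.FaithfullyFlat Es S := HzP.sh_faithfullyFlat Es S
  haveI : Module.FaithfullyFlat E S := HzP.sh_faithfullyFlat E S
  haveI : Module.FaithfullyFlat A S := HzP.sh_faithfullyFlat A S
  obtain ⟨Q₁, hQ₁⟩ := PrimeSpectrum.comap_surjective_of_faithfullyFlat (A := Es) (B := S)
    ⟨q₀, inferInstance⟩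
  have hQ₁' : Q₁.asIdeal.comap (algebraMap Es S) = q₀ := congrArg PrimeSpectrum.asIdeal hQ₁
  obtain ⟨Q, hQ, hQQ₁⟩ := Ideal.exists_minimalPrimes_le (bot_le : (⊥ : Ideal S) ≤ Q₁.asIdeal)
  haveI : Q.IsPrime := hQ.1.1
  have hQA : Q.comap (algebraMap A S) = ⊥ := by
    have := Branch.mapsTo_comap_minimalPrimes_of_flat A S hQ
    rw [IsDomain.minimalPrimes_eq_singleton_bot] at this
    exact this
  have hPle : Q.comap (algebraMap Es S) ≤ q₀ := hQ₁' ▸ Ideal.comap_mono hQQ₁
  have hPA : (Q.comap (algebraMap Es S)).comap (algebraMap A Es) = ⊥ := by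
    rw [Ideal.comap_comap, ← IsScalarTower.algebraMap_eq, hQA]
  have hq₀Q : q₀ ≤ Q.comap (algebraMap Es S) := by
    by_contra hne
    obtain ⟨x, hxq, hxP⟩ := Set.not_subset.mp hne
    have := Ideal.comap_lt_comap_of_integral_mem_sdiff (R := A) hPle ⟨hxq, hxP⟩
      (Algebra.IsIntegral.isIntegral x)
    rw [hq₀] at this
    exact not_lt_bot this
  obtain ⟨b, hb, a, hab⟩ := hP e
  have h1 : algebraMap A S b * algebraMap Es S e - algebraMap A S a ∈ Q := by
    have := hq₀Q hab
    rw [Ideal.mem_comap, map_sub, Algebra.smul_def, map_mul,
      ← IsScalarTower.algebraMap_apply A Es S, ← IsScalarTower.algebraMap_apply A Es S] at this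
    exact this
  set I : Ideal E := Q.comap (algebraMap E S) with hI
  have hQI : Q = I.map (algebraMap E S) := H Q hQ
  set J : Ideal E := Ideal.span {algebraMap A E b} ⊔ I with hJ
  have h2 : algebraMap E S (algebraMap A E a) ∈ J.map (algebraMap E S) := by
    rw [hJ, Ideal.map_sup, Ideal.map_span, Set.image_singleton, ← hQI,
      ← IsScalarTower.algebraMap_apply A E S, ← IsScalarTower.algebraMap_apply A E S]
    have e1 : algebraMap A S a = algebraMap A S b * algebraMap Es S e -
        (algebraMap A S b * algebraMap Es S e - algebraMap A S a) := by ring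
    rw [e1]
    exact Ideal.sub_mem _ (Ideal.mem_sup_left (Ideal.mul_mem_right _ _
      (Ideal.subset_span (Set.mem_singleton _)))) (Ideal.mem_sup_right h1)
  have h3 : algebraMap A E a ∈ J := by
    have := Ideal.comap_map_eq_self_of_faithfullyFlat (B := S) J
    rw [← this]
    exact h2
  obtain ⟨y, hy, q', hq', hyq⟩ := Submodule.mem_sup.mp h3
  obtain ⟨r, rfl⟩ := Ideal.mem_span_singleton'.mp hy
  refine ⟨r, ?_⟩
  have h4 : algebraMap A S b * (algebraMap Es S e - algebraMap E S r) ∈ Q := by
    have e2 : algebraMap A S b * (algebraMap Es S e - algebraMap E S r) =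
        (algebraMap A S b * algebraMap Es S e - algebraMap A S a) + algebraMap E S q' := by
      have := congrArg (algebraMap E S) hyq
      rw [map_add, map_mul, ← IsScalarTower.algebraMap_apply A E S,
        ← IsScalarTower.algebraMap_apply A E S] at this
      rw [← this]; ring
    rw [e2]
    exact Q.add_mem h1 hq'
  rcases Ideal.IsPrime.mem_or_mem ‹Q.IsPrime› h4 with h5 | h5
  · exfalso
    have : b ∈ Q.comap (algebraMap A S) := h5
    rw [hQA] at this
    exact hb this
  · exact le_maximalIdeal (Ideal.IsPrime.ne_top ‹_›) h5

theorem residue_mem_range_of_forall (hq₀ : q₀.comap (algebraMap A Es) = ⊥) (hP : Birat A Es q₀)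
    (H : ∀ Q ∈ minimalPrimes S, Q = (Q.comap (algebraMap E S)).map (algebraMap E S))
    (x : ResidueField Es) :
    algebraMap (ResidueField Es) (ResidueField S) x ∈
      (algebraMap (ResidueField E) (ResidueField S)).range := by
  obtain ⟨e, rfl⟩ := residue_surjective x
  obtain ⟨r, hr⟩ := exists_sub_mem_of_forall A S Es E q₀ hq₀ hP H e
  refine ⟨residue E r, ?_⟩
  rw [ResidueField.algebraMap_residue, ResidueField.algebraMap_residue, eq_comm, ← sub_eq_zero, ← map_sub]
  exact (residue_eq_zero_iff _).mpr hr

end Factor

section Count

open Groth.Agent.Lib.T2H1.BranchPI Cardinal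

variable (A : Type u) [CommRing A] [IsLocalRing A] [IsDomain A]
  [IsLocalRing (integralClosure A (FractionRing A))]
  [IsLocalHom (algebraMap A (integralClosure A (FractionRing A)))]

theorem isLocalHom_pt (τ : Pts A (integralClosure A (FractionRing A))) : IsLocalHom τ.1 := by
  constructor
  intro a ha
  by_contra hna
  have h1 : a ∈ maximalIdeal (integralClosure A (FractionRing A)) := hna
  rw [← IsLocalRing.eq_maximalIdeal (ker_isMaximal A _ τ)] at h1
  have h2 : τ.1 a = 0 := h1
  rw [h2] at ha
  exact not_isUnit_zero ha

/-- Points of the (local) normalization are the embeddings of its residue field. -/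
noncomputable def ptsEquiv : Pts A (integralClosure A (FractionRing A)) ≃
    (ResidueField (integralClosure A (FractionRing A)) →ₐ[ResidueField A]
      AlgebraicClosure (ResidueField A)) where
  toFun τ :=
    haveI := isLocalHom_pt A τ
    { toRingHom := ResidueField.lift τ.1
      commutes' := fun x => by
        obtain ⟨a, rfl⟩ := residue_surjective x
        have h2 := congrArg (fun f : A →+* _ => f a) τ.2
        simp only [RingHom.comp_apply] at h2
        change ResidueField.lift τ.1 (residue _ (algebraMap A _ a)) = _
        rw [ResidueField.lift_residue_apply, h2]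
        rfl }
  invFun φ := ⟨(φ : ResidueField (integralClosure A (FractionRing A)) →+* _).comp (residue _), by
    ext a
    simp only [RingHom.comp_apply, RingHom.coe_coe]
    have := φ.commutes (residue A a)
    rw [ResidueField.algebraMap_residue] at this
    rw [this]
    rfl⟩
  left_inv τ := by
    apply Subtype.ext
    ext a
    rfl
  right_inv φ := by
    apply AlgHom.ext
    intro x
    obtain ⟨a, rfl⟩ := residue_surjective x
    rfl

theorem isIntegral_residueField :
    Algebra.IsIntegral (ResidueField A) (ResidueField (integralClosure A (FractionRing A))) := by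
  constructor
  intro x
  obtain ⟨a, rfl⟩ := residue_surjective x
  obtain ⟨P, hPm, hP⟩ := Algebra.IsIntegral.isIntegral (R := A) a
  refine ⟨P.map (residue A), hPm.map _, ?_⟩
  rw [Polynomial.eval₂_map]
  have h1 : (algebraMap (ResidueField A) (ResidueField (integralClosure A (FractionRing A)))).comp
      (residue A) = (residue _).comp (algebraMap A (integralClosure A (FractionRing A))) := by
    ext r
    rfl
  rw [h1, ← Polynomial.hom_eval₂, hP, map_zero]

/-- The number of minimal primes of the strict henselization of a local domain with local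
normalization is the separable degree of the residue extension of the normalization. -/
theorem card_minimalPrimes_eq [IsNoetherianRing A]
    (S : Type u) [CommRing S] [IsLocalRing S] [Algebra A S] [IsLocalHom (algebraMap A S)]
    [Hensel.IsStrictHenselization A S] :
    FiniteDimensional (ResidueField A)
        (separableClosure (ResidueField A) (ResidueField (integralClosure A (FractionRing A)))) ∧
      Nat.card (minimalPrimes S) = Module.finrank (ResidueField A)
        (separableClosure (ResidueField A)
          (ResidueField (integralClosure A (FractionRing A)))) := by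
  haveI : IsNoetherianRing S := HzP.sh_isNoetherianRing A S
  haveI hfinS : Finite (minimalPrimes S) :=
    (minimalPrimes.finite_of_isNoetherianRing S).to_subtype
  have hfinA : (minimalPrimes A).Finite := minimalPrimes.finite_of_isNoetherianRing A
  haveI := isIntegral_residueField A
  haveI : Algebra.IsAlgebraic (ResidueField A)
      (ResidueField (integralClosure A (FractionRing A))) := Algebra.IsIntegral.isAlgebraic
  let e1 := ptsEquiv A
  let e2 := Field.embEquivOfIsAlgClosed (ResidueField A)
    (ResidueField (integralClosure A (FractionRing A))) (AlgebraicClosure (ResidueField A))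
  have h1 : ENat.card (minimalPrimes S) = ENat.card (Field.Emb (ResidueField A)
      (ResidueField (integralClosure A (FractionRing A)))) := by
    rw [Groth.Agent.S9238.result A S, numGeomBranches_eq_card A hfinA]
    exact ENat.card_congr (e1.trans e2.symm)
  haveI hfinE : Finite (Field.Emb (ResidueField A)
      (ResidueField (integralClosure A (FractionRing A)))) := by
    rw [← ENat.card_lt_top, ← h1, ENat.card_lt_top]
    exact hfinS
  have hcard := Field.Emb.cardinal_eq (F := ResidueField A)
    (E := ResidueField (integralClosure A (FractionRing A)))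
  have hlt : #(Field.Emb (ResidueField A)
      (ResidueField (integralClosure A (FractionRing A)))) < ℵ₀ := Cardinal.lt_aleph0_iff_finite.mpr hfinE
  have hsd : ¬ ℵ₀ ≤ Field.sepDegree (ResidueField A)
      (ResidueField (integralClosure A (FractionRing A))) := by
    intro hle
    dsimp only at hcard
    rw [if_pos hle] at hcard
    have h2 : ℵ₀ ≤ (2 : Cardinal) ^ Field.sepDegree (ResidueField A)
        (ResidueField (integralClosure A (FractionRing A))) :=
      hle.trans (Cardinal.cantor _).le
    rw [← hcard] at h2
    exact absurd hlt (not_lt.mpr h2)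
  dsimp only at hcard
  rw [if_neg hsd] at hcard
  have hrank : Module.rank (ResidueField A) (separableClosure (ResidueField A)
      (ResidueField (integralClosure A (FractionRing A)))) < ℵ₀ := not_le.mp hsd
  have hfd : FiniteDimensional (ResidueField A) (separableClosure (ResidueField A)
      (ResidueField (integralClosure A (FractionRing A)))) := Module.rank_lt_aleph0_iff.mp hrank
  refine ⟨hfd, ?_⟩
  have h3 : Nat.card (minimalPrimes S) = Nat.card (Field.Emb (ResidueField A)
      (ResidueField (integralClosure A (FractionRing A)))) := by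
    letI := Fintype.ofFinite (minimalPrimes S)
    letI := Fintype.ofFinite (Field.Emb (ResidueField A)
      (ResidueField (integralClosure A (FractionRing A))))
    rw [ENat.card_eq_coe_fintype_card, ENat.card_eq_coe_fintype_card, Nat.cast_inj] at h1
    rw [Nat.card_eq_fintype_card, Nat.card_eq_fintype_card, h1]
  rw [h3, Nat.card, hcard]
  rfl

end Count

section FieldCount

variable (k F L Ω : Type u) [Field k] [Field F] [Field L] [Field Ω] [Algebra k F] [Algebra k L]
  [Algebra k Ω] [Algebra L Ω] [IsScalarTower k L Ω] [FiniteDimensional k F]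
  [Algebra.IsSeparable k F] [IsSepClosed Ω]

/-- If every embedding of a finite separable extension `F/k` into the separably closed `Ω`
lands in `L ⊆ Ω`, then there are `[F : k]` embeddings of `F` into `L`. -/
theorem card_algHom_eq_of_range
    (h : ∀ τ : F →ₐ[k] Ω, ∀ x, τ x ∈ (algebraMap L Ω).range) :
    Nat.card (F →ₐ[k] L) = Module.finrank k F := by
  let ι : L →ₐ[k] Ω := IsScalarTower.toAlgHom k L Ω
  let Ψ : (F →ₐ[k] L) → (F →ₐ[k] Ω) := fun σ => ι.comp σ
  have hinj : Function.Injective Ψ := by
    intro σ σ' hσ
    apply AlgHom.ext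
    intro x
    have := congrArg (fun f : F →ₐ[k] Ω => f x) hσ
    exact (algebraMap L Ω).injective this
  have hsurj : Function.Surjective Ψ := by
    intro τ
    let e : L ≃ₐ[k] ι.range := AlgEquiv.ofInjectiveField ι
    have hτ : ∀ x, τ x ∈ ι.range := fun x => by
      obtain ⟨l, hl⟩ := h τ x
      exact ⟨l, hl⟩
    let σ : F →ₐ[k] L := (e.symm : ι.range →ₐ[k] L).comp (τ.codRestrict ι.range hτ)
    refine ⟨σ, ?_⟩
    apply AlgHom.ext
    intro x
    change ι (e.symm ⟨τ x, hτ x⟩) = τ x
    have h1 : e (e.symm ⟨τ x, hτ x⟩) = ⟨τ x, hτ x⟩ := e.apply_symm_apply _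
    exact congrArg Subtype.val h1
  rw [Nat.card_congr (Equiv.ofBijective Ψ ⟨hinj, hsurj⟩)]
  exact AlgHom.natCard_of_splits k F Ω (fun x =>
    IsSepClosed.splits_codomain (minpoly k x) (Algebra.IsSeparable.isSeparable k x))

end FieldCount

section LocalHom

variable (A E S : Type u) [CommRing A] [IsLocalRing A] [CommRing E] [IsLocalRing E]
  [CommRing S] [IsLocalRing S] [Algebra A E] [Algebra A S] [Algebra E S] [IsScalarTower A E S]
  [IsLocalHom (algebraMap A S)] [Algebra.IsIntegral A E]

include A in
theorem isLocalHom_of_isIntegral_tower : IsLocalHom (algebraMap E S) := by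
  set P : Ideal E := (maximalIdeal S).comap (algebraMap E S) with hP
  haveI : P.IsPrime := Ideal.comap_isPrime _ _
  have hPA : P.comap (algebraMap A E) = maximalIdeal A := by
    rw [hP, Ideal.comap_comap, ← IsScalarTower.algebraMap_eq]
    exact ((IsLocalRing.local_hom_TFAE (algebraMap A S)).out 0 4).mp ‹_›
  have hPmax : P.IsMaximal :=
    Ideal.isMaximal_of_isIntegral_of_isMaximal_comap P (hPA ▸ maximalIdeal.isMaximal A)
  have hPeq : P = maximalIdeal E := IsLocalRing.eq_maximalIdeal hPmax
  constructor
  intro x hx
  by_contra hnx
  have h1 : x ∈ maximalIdeal E := hnx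
  rw [← hPeq, hP, Ideal.mem_comap] at h1
  exact ((mem_maximalIdeal _).mp h1) hx

end LocalHom

section Main

open Groth.Agent.Lib.T2H1.BranchPI

/-- EGA-style count: for a henselian Noetherian local domain `A` with local normalization, and an
essentially étale local `A`-algebra `E` mapping to the strict henselization `S`, the minimal
primes of `S` are extended from `E` iff the separable closure of the residue field of `A` in that
of the normalization has `[kˢ : k]` embeddings into the residue field of `E`. -/
theorem main
    (A S E : Type u) [CommRing A] [HenselianLocalRing A] [IsDomain A] [IsNoetherianRing A]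
    [IsLocalRing (integralClosure A (FractionRing A))]
    [IsLocalHom (algebraMap A (integralClosure A (FractionRing A)))]
    [CommRing S] [IsLocalRing S] [Algebra A S] [IsLocalHom (algebraMap A S)]
    [Hensel.IsStrictHenselization A S]
    [CommRing E] [IsLocalRing E] [Algebra A E] [IsLocalHom (algebraMap A E)]
    (hE : EGA4loc.IsEssentiallyEtale A E) [Algebra E S] [IsScalarTower A E S] :
    (∀ Q ∈ minimalPrimes S, Q = Ideal.map (algebraMap E S) (Q.comap (algebraMap E S))) ↔
      Nat.card (separableClosure (ResidueField A)
          (ResidueField (integralClosure A (FractionRing A))) →ₐ[ResidueField A]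
          ResidueField E) =
        Module.finrank (ResidueField A)
          (separableClosure (ResidueField A)
            (ResidueField (integralClosure A (FractionRing A)))) := by
  obtain ⟨hfinE, hetE⟩ := finite_etale_of_isEssentiallyEtale A E hE
  haveI := hfinE
  haveI := hetE
  haveI : Algebra.IsIntegral A E := Algebra.IsIntegral.of_finite A E
  haveI : IsLocalHom (algebraMap E S) := isLocalHom_of_isIntegral_tower A E S
  haveI : Hensel.IsStrictHenselization E S := isStrictHenselization_of_etale A E S
  haveI : Module.FaithfullyFlat E S := HzP.sh_faithfullyFlat E S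
  haveI : IsNoetherianRing S := HzP.sh_isNoetherianRing A S
  haveI : IsNoetherianRing E := IsNoetherianRing.of_finite A E
  have hfinS : (minimalPrimes S).Finite := minimalPrimes.finite_of_isNoetherianRing S
  haveI : Finite (minimalPrimes S) := hfinS.to_subtype
  haveI : Finite (minimalPrimes E) := (minimalPrimes.finite_of_isNoetherianRing E).to_subtype
  obtain ⟨hfd, hn⟩ := card_minimalPrimes_eq A S
  haveI := hfd
  obtain ⟨Es, _, _, _, _, hfinEs, hetEs, ⟨ε⟩⟩ :=
    Groth.Agent.Lib.Helper24LocEt.exists_local_finite_etale A
      (separableClosure (ResidueField A) (ResidueField (integralClosure A (FractionRing A))))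
  haveI := hfinEs
  haveI := hetEs
  haveI : Algebra.IsIntegral A Es := Algebra.IsIntegral.of_finite A Es
  haveI : HenselianLocalRing (integralClosure A (FractionRing A)) :=
    Groth.Agent.Lib.Helper3.HenselInt.henselian_of_isIntegral A _
  -- the map `Es → A'` and its kernel
  let w : Es →ₐ[A] ResidueField (integralClosure A (FractionRing A)) :=
    (((separableClosure (ResidueField A)
      (ResidueField (integralClosure A (FractionRing A)))).val.comp
        (ε : ResidueField Es →ₐ[ResidueField A] _)).restrictScalars A).comp
      (IsScalarTower.toAlgHom A Es (ResidueField Es))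
  obtain ⟨g, -, -⟩ := IndEt.existsUnique_lift_residue (R := A)
    (T := integralClosure A (FractionRing A)) (E := Es) w
  set q₀ : Ideal Es := RingHom.ker g with hq₀def
  haveI : q₀.IsPrime := RingHom.ker_isPrime g
  have hq₀ : q₀.comap (algebraMap A Es) = ⊥ := by
    rw [eq_bot_iff]
    intro a ha
    rw [Ideal.mem_comap, hq₀def, RingHom.mem_ker, AlgHom.commutes] at ha
    have h1 : algebraMap A (FractionRing A) a = 0 := by
      have := congrArg Subtype.val ha
      exact this
    exact (Ideal.mem_bot).mpr
      ((injective_iff_map_eq_zero _).mp (IsFractionRing.injective A (FractionRing A)) a h1)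
  have hP : Birat A Es q₀ := by
    intro e
    obtain ⟨a, b, hb, hab⟩ := IsFractionRing.div_surjective (A := A)
      ((g e : integralClosure A (FractionRing A)) : FractionRing A)
    refine ⟨b, nonZeroDivisors.ne_zero hb, a, ?_⟩
    rw [hq₀def, RingHom.mem_ker, map_sub, map_smul, AlgHom.commutes]
    apply Subtype.ext
    have hb' : algebraMap A (FractionRing A) b ≠ 0 := by
      intro h0
      exact nonZeroDivisors.ne_zero hb
        ((injective_iff_map_eq_zero _).mp (IsFractionRing.injective A (FractionRing A)) b h0)
    change b • ((g e : integralClosure A (FractionRing A)) : FractionRing A) -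
      algebraMap A (FractionRing A) a = 0
    rw [← hab, Algebra.smul_def, mul_div_cancel₀ _ hb', sub_self]
  -- transport of counts along `ε`
  have hcardε : Nat.card (separableClosure (ResidueField A)
      (ResidueField (integralClosure A (FractionRing A))) →ₐ[ResidueField A] ResidueField E) =
      Nat.card (ResidueField Es →ₐ[ResidueField A] ResidueField E) :=
    Nat.card_congr (ε.arrowCongr AlgEquiv.refl).symm
  have hrankε : Module.finrank (ResidueField A) (ResidueField Es) =
      Module.finrank (ResidueField A) (separableClosure (ResidueField A)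
        (ResidueField (integralClosure A (FractionRing A)))) := ε.toLinearEquiv.finrank_eq
  rw [hcardε, ← hrankε]
  have hle1 := card_algHom_le A S Es E q₀ hq₀ hP
  have hle2 : Nat.card (minimalPrimes E) ≤ Nat.card (minimalPrimes S) := by
    let f : minimalPrimes S → minimalPrimes E := fun Q =>
      ⟨Q.1.comap (algebraMap E S), Branch.mapsTo_comap_minimalPrimes_of_flat E S Q.2⟩
    apply Nat.card_le_card_of_surjective f
    rintro ⟨q, hq⟩
    obtain ⟨Q, hQ, hQq⟩ := Branch.exists_minimalPrimes_comap_eq (S := S) q hq
    exact ⟨⟨Q, hQ⟩, Subtype.ext hQq⟩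
  rw [← hrankε] at hn
  constructor
  · intro H
    haveI : FiniteDimensional (ResidueField A) (ResidueField Es) :=
      ε.symm.toLinearEquiv.finiteDimensional
    haveI : Algebra.IsSeparable (ResidueField A) (ResidueField Es) :=
      AlgEquiv.Algebra.isSeparable ε.symm
    haveI : IsSepClosure (ResidueField A) (ResidueField S) :=
      Hensel.IsStrictHenselization.isSepClosure
    haveI : IsSepClosed (ResidueField S) := IsSepClosure.sep_closed (ResidueField A)
    haveI : HenselianLocalRing S := Hensel.IsStrictHenselization.henselian (R := A)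
    apply card_algHom_eq_of_range (ResidueField A) (ResidueField Es) (ResidueField E)
      (ResidueField S)
    intro τ x
    let wτ : Es →ₐ[A] ResidueField S :=
      (τ.restrictScalars A).comp (IsScalarTower.toAlgHom A Es (ResidueField Es))
    obtain ⟨hτ, hhτ, -⟩ := IndEt.existsUnique_lift_residue (R := A) (T := S) (E := Es) wτ
    letI : Algebra Es S := hτ.toRingHom.toAlgebra
    haveI : IsScalarTower A Es S := IsScalarTower.of_algebraMap_eq (fun a => by
      change algebraMap A S a = hτ (algebraMap A Es a)
      rw [AlgHom.commutes])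
    haveI : IsLocalHom (algebraMap Es S) := isLocalHom_of_isIntegral_tower A Es S
    have h1 := residue_mem_range_of_forall A S Es E q₀ hq₀ hP H x
    have h2 : algebraMap (ResidueField Es) (ResidueField S) x = τ x := by
      obtain ⟨e, rfl⟩ := residue_surjective x
      rw [ResidueField.algebraMap_residue]
      exact hhτ e
    rw [h2] at h1
    exact h1
  · intro hcard
    have h3 : Nat.card (minimalPrimes E) = Nat.card (minimalPrimes S) := by
      apply le_antisymm hle2
      rw [hn, ← hcard]
      exact hle1
    rw [forall_eq_map_comap_iff E S hfinS]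
    letI := Fintype.ofFinite (minimalPrimes S)
    letI := Fintype.ofFinite (minimalPrimes E)
    rw [ENat.card_eq_coe_fintype_card, ENat.card_eq_coe_fintype_card, Nat.cast_inj,
      ← Nat.card_eq_fintype_card, ← Nat.card_eq_fintype_card, h3]

end Main

end Groth.Agent.Lib.T2H1.SepCount
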