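import Mathlib
import Groth.Agent.Lib.T2H1FiniteSub
import Groth.Agent.Lib.T2H1SepCount
import Groth.Agent.Lib.T2H1EssEtInter
import Groth.Agent.Lib.T2H1GaloisStage

/-!
# Stages of a strict henselization carrying minimal primes and a finitely generated subfield
(helper1, tranche 2)
-/

set_option autoImplicit false
universe u
open IsLocalRing

namespace Groth.Agent.Lib.T2H1.MinPrimeStage

open Groth.Agent.Lib.Helper3 Groth.Agent.Lib.Helper3.Sh Groth.Agent.Lib.T2H1.FiniteSub
  Groth.Agent.Lib.T2H1.GaloisStage Groth.Agent.Lib.T2H1.EssEtInter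

section FF

variable (A S : Type u) [CommRing A] [HenselianLocalRing A]
  [CommRing S] [IsLocalRing S] [Algebra A S] [IsLocalHom (algebraMap A S)]
  [Hensel.IsStrictHenselization A S]

/-- The strict henselization is faithfully flat over every essentially étale local subalgebra
(`A` henselian). -/
theorem faithfullyFlat_of_isEssentiallyEtale (E : Subalgebra A S) [IsLocalRing E]
    (hE : EGA4loc.IsEssentiallyEtale A E) : Module.FaithfullyFlat E S := by
  haveI : IsLocalHom (algebraMap A E) := by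
    constructor
    intro a ha
    have h1 : IsUnit (algebraMap A S a) := by
      have := ha.map E.val
      simpa using this
    exact isUnit_of_map_unit (algebraMap A S) a h1
  obtain ⟨hfin, het⟩ := finite_etale_of_isEssentiallyEtale A E hE
  haveI := hfin
  haveI := het
  haveI : Algebra.IsIntegral A E := Algebra.IsIntegral.of_finite A E
  haveI : IsLocalHom (algebraMap E S) :=
    Groth.Agent.Lib.T2H1.SepCount.isLocalHom_of_isIntegral_tower A E S
  haveI : Hensel.IsStrictHenselization E S := isStrictHenselization_of_etale A E S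
  exact HzP.sh_faithfullyFlat E S

end FF

section Frac

variable {A S : Type u} [CommRing A] [CommRing S] [Algebra A S]
  (E : Subalgebra A S) [Module.FaithfullyFlat E S] (Q : Ideal S) [Q.IsPrime]
  (hQ : Q = (Q.comap (algebraMap E S)).map (algebraMap E S))

include hQ in
/-- If `Q` is extended from `E` and `S` is faithfully flat over `E`, then an element of `S`
which is a fraction of elements of `E` modulo `Q` is congruent to an element of `E`. -/
theorem exists_sub_mem_of_mul_sub_mem (x : S) (e₁ e₂ : E) (he₂ : (e₂ : S) ∉ Q)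
    (h : x * (e₂ : S) - (e₁ : S) ∈ Q) : ∃ r : E, x - (r : S) ∈ Q := by
  set I : Ideal E := Q.comap (algebraMap E S) with hI
  set J : Ideal E := Ideal.span {e₂} ⊔ I with hJ
  have h2 : algebraMap E S e₁ ∈ J.map (algebraMap E S) := by
    rw [hJ, Ideal.map_sup, Ideal.map_span, Set.image_singleton, ← hQ]
    have e1 : algebraMap E S e₁ = algebraMap E S e₂ * x - (x * (e₂ : S) - (e₁ : S)) := by
      change (e₁ : S) = (e₂ : S) * x - (x * (e₂ : S) - (e₁ : S))
      ring
    rw [e1]
    exact Ideal.sub_mem _ (Ideal.mem_sup_left (Ideal.mul_mem_right _ _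
      (Ideal.subset_span (Set.mem_singleton _)))) (Ideal.mem_sup_right h)
  have h3 : e₁ ∈ J := by
    have := Ideal.comap_map_eq_self_of_faithfullyFlat (B := S) J
    rw [← this]
    exact h2
  obtain ⟨y, hy, q', hq', hyq⟩ := Submodule.mem_sup.mp h3
  obtain ⟨r, rfl⟩ := Ideal.mem_span_singleton'.mp hy
  refine ⟨r, ?_⟩
  have h4 : (e₂ : S) * (x - (r : S)) ∈ Q := by
    have e2 : (e₂ : S) * (x - (r : S)) = (x * (e₂ : S) - (e₁ : S)) + (q' : S) := by
      have := congrArg (fun z : E => (z : S)) hyq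
      simp only [Subalgebra.coe_add, Subalgebra.coe_mul] at this
      rw [← this]; ring
    rw [e2]
    exact Q.add_mem h hq'
  rcases Ideal.IsPrime.mem_or_mem ‹Q.IsPrime› h4 with h5 | h5
  · exact absurd h5 he₂
  · exact h5

end Frac

section Main

open Finset in
/-- For a henselian Noetherian local ring `A` with strict henselization `S`, a minimal prime `Q`
of `S` and a finite set `t` in `Frac (S ⧸ Q)`: some essentially étale local subalgebra `E ⊆ S`
carries all minimal primes over `(Q ∩ A)S` and every element of `S ⧸ Q` lying in the subfield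
generated by `A` and `t`. -/
theorem main (A S : Type u) [CommRing A] [HenselianLocalRing A] [IsNoetherianRing A]
    [CommRing S] [IsLocalRing S] [Algebra A S] [IsLocalHom (algebraMap A S)]
    [Hensel.IsStrictHenselization A S] (Q : Ideal S) (hQ : Q ∈ minimalPrimes S) [Q.IsPrime]
    (t : Finset (FractionRing (S ⧸ Q))) :
    ∃ E : Subalgebra A S, ∃ _ : IsLocalRing E, EGA4loc.IsEssentiallyEtale A E ∧
      (∀ Q' ∈ ((Q.comap (algebraMap A S)).map (algebraMap A S)).minimalPrimes,
        Q' = Ideal.map (algebraMap E S) (Q'.comap (algebraMap E S))) ∧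
      ∀ x : S, algebraMap (S ⧸ Q) (FractionRing (S ⧸ Q)) (Ideal.Quotient.mk Q x) ∈
          Subfield.closure (Set.range (algebraMap A (FractionRing (S ⧸ Q))) ∪
            (t : Set (FractionRing (S ⧸ Q)))) →
        ∃ e ∈ E, Ideal.Quotient.mk Q e = Ideal.Quotient.mk Q x := by
  classical
  haveI : IsNoetherianRing S := HzP.sh_isNoetherianRing A S
  obtain ⟨Ω, _, _, _, _, _, ⟨e⟩⟩ := HzP.sh_exists_model A S
  set I₀ : Ideal S := (Q.comap (algebraMap A S)).map (algebraMap A S) with hI₀
  have hfin : I₀.minimalPrimes.Finite := Ideal.finite_minimalPrimes_of_isNoetherianRing S I₀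
  have hgen' : ∀ J : Ideal S, ∃ s : Finset S, Ideal.span (s : Set S) = J :=
    fun J => IsNoetherian.noetherian J
  choose gen hgen using hgen'
  have hfrac : ∀ z : FractionRing (S ⧸ Q), ∃ x y : S,
      algebraMap (S ⧸ Q) (FractionRing (S ⧸ Q)) (Ideal.Quotient.mk Q x) /
        algebraMap (S ⧸ Q) (FractionRing (S ⧸ Q)) (Ideal.Quotient.mk Q y) = z := by
    intro z
    obtain ⟨u, v, -, huv⟩ := IsFractionRing.div_surjective (A := S ⧸ Q) z
    obtain ⟨x, rfl⟩ := Ideal.Quotient.mk_surjective u
    obtain ⟨y, rfl⟩ := Ideal.Quotient.mk_surjective v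
    exact ⟨x, y, huv⟩
  choose num den hnd using hfrac
  let F : Finset S := (hfin.toFinset.biUnion gen) ∪ (t.image num) ∪ (t.image den)
  obtain ⟨i, hi⟩ := exists_stage e F
  obtain ⟨hloc, hess⟩ := range_isEssentiallyEtale e i
  have hpart1 : ∀ Q' ∈ I₀.minimalPrimes,
      Q' = Ideal.map (algebraMap (ρ e i).range S) (Q'.comap (algebraMap (ρ e i).range S)) := by
    intro Q' hQ'
    apply le_antisymm _ Ideal.map_comap_le
    conv_lhs => rw [← hgen Q']
    rw [Ideal.span_le]
    intro g hg
    have hgF : g ∈ F := mem_union_left _ (mem_union_left _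
      (mem_biUnion.mpr ⟨Q', hfin.mem_toFinset.mpr hQ', hg⟩))
    have hgE : g ∈ (ρ e i).range := hi g hgF
    have hgQ' : g ∈ Q' := by
      rw [← hgen Q']
      exact Ideal.subset_span hg
    have h1 : (⟨g, hgE⟩ : (ρ e i).range) ∈ Q'.comap (algebraMap (ρ e i).range S) := hgQ'
    exact Ideal.mem_map_of_mem (algebraMap (ρ e i).range S) h1
  refine ⟨(ρ e i).range, hloc, hess, hpart1, ?_⟩
  haveI := hloc
  haveI : Module.FaithfullyFlat (ρ e i).range S :=
    faithfullyFlat_of_isEssentiallyEtale A S (ρ e i).range hess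
  have hQI₀ : Q ∈ I₀.minimalPrimes :=
    ⟨⟨‹Q.IsPrime›, Ideal.map_comap_le⟩, fun P hP hPQ => hQ.2 ⟨hP.1, bot_le⟩ hPQ⟩
  have hQE := hpart1 Q hQI₀
  set φ : S →+* FractionRing (S ⧸ Q) :=
    (algebraMap (S ⧸ Q) (FractionRing (S ⧸ Q))).comp (Ideal.Quotient.mk Q) with hφ
  have hφ0 : ∀ z : S, φ z = 0 ↔ z ∈ Q := by
    intro z
    rw [hφ, RingHom.comp_apply,
      (injective_iff_map_eq_zero' _).mp (IsFractionRing.injective (S ⧸ Q) _),
      Ideal.Quotient.eq_zero_iff_mem]
  let sE : Subring (FractionRing (S ⧸ Q)) := ((ρ e i).range.toSubring).map φ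
  have hL : Subfield.closure (Set.range (algebraMap A (FractionRing (S ⧸ Q))) ∪
      (t : Set (FractionRing (S ⧸ Q)))) ≤ Subfield.closure (sE : Set (FractionRing (S ⧸ Q))) := by
    apply Subfield.closure_le.mpr
    rintro z (⟨a, rfl⟩ | hz)
    · apply Subfield.subset_closure
      refine ⟨algebraMap A S a, (ρ e i).range.algebraMap_mem a, ?_⟩
      rw [hφ, RingHom.comp_apply, IsScalarTower.algebraMap_apply A (S ⧸ Q) (FractionRing (S ⧸ Q))]
      rfl
    · have hz' : z ∈ t := hz
      rw [← hnd z]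
      apply div_mem
      · apply Subfield.subset_closure
        exact ⟨num z, hi _ (mem_union_left _ (mem_union_right _ (mem_image_of_mem _ hz'))), rfl⟩
      · apply Subfield.subset_closure
        exact ⟨den z, hi _ (mem_union_right _ (mem_image_of_mem _ hz')), rfl⟩
  intro x hx
  have hx' := hL hx
  rw [Subfield.mem_closure_iff, Subring.closure_eq] at hx'
  obtain ⟨y, ⟨e₁, he₁, rfl⟩, z, ⟨e₂, he₂, rfl⟩, hyz⟩ := hx'
  have hyz' : φ e₁ / φ e₂ = φ x := hyz
  by_cases hz0 : φ e₂ = 0
  · rw [hz0, div_zero] at hyz'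
    have hxQ : x ∈ Q := (hφ0 x).mp hyz'.symm
    refine ⟨0, zero_mem _, ?_⟩
    rw [map_zero, eq_comm, Ideal.Quotient.eq_zero_iff_mem]
    exact hxQ
  · have h1 : φ (x * e₂ - e₁) = 0 := by
      rw [map_sub, map_mul, ← hyz', div_mul_cancel₀ _ hz0, sub_self]
    have h2 : x * e₂ - e₁ ∈ Q := (hφ0 _).mp h1
    have h3 : e₂ ∉ Q := fun h => hz0 ((hφ0 _).mpr h)
    obtain ⟨r, hr⟩ := exists_sub_mem_of_mul_sub_mem (ρ e i).range Q hQE x ⟨e₁, he₁⟩ ⟨e₂, he₂⟩
      h3 h2
    refine ⟨r, r.2, ?_⟩
    rw [Ideal.Quotient.eq]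
    have : (r : S) - x = -(x - (r : S)) := by ring
    rw [this]
    exact Q.neg_mem hr

end Main

end Groth.Agent.Lib.T2H1.MinPrimeStage
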