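import Mathlib
import Groth.Agent.Lib.T2H1MinPrimeStage
import Groth.Agent.Lib.T2H1FinEtTensor
import Groth.Agent.Lib.Helper7GeomInt
import Groth.Agent.Lib.Helper24G0
import Groth.Agent.Lib.Helper7PolyGRing2

/-!
# The intersection of a finitely generated subfield with a quotient of a strict henselization by a
minimal prime (helper1, tranche 2)

`A` henselian Noetherian local, `S` a strict henselization, `Q` a prime of `S`, `K = Frac (S ⧸ Q)`,
`L ⊆ K` the subfield generated over the image of `A` by a finite set `t`.  `Dsub` is `L ∩ (S ⧸ Q)`.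
-/

set_option autoImplicit false
universe u
open IsLocalRing Polynomial

namespace Groth.Agent.Lib.T2H1.InterQuot

open Groth.Agent.Lib.Helper3 Groth.Agent.Lib.Helper3.Sh Groth.Agent.Lib.T2H1.EssEtInter

section Defs

variable (A S : Type u) [CommRing A] [CommRing S] [Algebra A S] (Q : Ideal S) [Q.IsPrime]
  (t : Set (FractionRing (S ⧸ Q)))

/-- The subfield generated over the image of `A` by `t`. -/
noncomputable abbrev Lf : Subfield (FractionRing (S ⧸ Q)) :=
  Subfield.closure (Set.range (algebraMap A (FractionRing (S ⧸ Q))) ∪ t)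

/-- `L` as an `A`-subalgebra. -/
noncomputable def LA : Subalgebra A (FractionRing (S ⧸ Q)) :=
  { (Lf A S Q t).toSubring.toSubsemiring with
    algebraMap_mem' := fun a => Subfield.subset_closure (Or.inl ⟨a, rfl⟩) }

/-- `L ∩ (S ⧸ Q)` as an `A`-subalgebra of `S ⧸ Q`. -/
noncomputable def Dsub : Subalgebra A (S ⧸ Q) :=
  (LA A S Q t).comap (IsScalarTower.toAlgHom A (S ⧸ Q) (FractionRing (S ⧸ Q)))

theorem mem_Dsub (x : S ⧸ Q) :
    x ∈ Dsub A S Q t ↔ algebraMap (S ⧸ Q) (FractionRing (S ⧸ Q)) x ∈ Lf A S Q t := Iff.rfl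

theorem coe_Dsub : (Dsub A S Q t : Set (S ⧸ Q)) =
    (algebraMap (S ⧸ Q) (FractionRing (S ⧸ Q))) ⁻¹' (Lf A S Q t : Set (FractionRing (S ⧸ Q))) :=
  rfl

end Defs

section Finite

variable (A S : Type u) [CommRing A] [HenselianLocalRing A] [IsNoetherianRing A]
  [CommRing S] [IsLocalRing S] [Algebra A S] [IsLocalHom (algebraMap A S)]
  [Hensel.IsStrictHenselization A S] (Q : Ideal S) (hQ : Q ∈ minimalPrimes S) [Q.IsPrime]
  (t : Finset (FractionRing (S ⧸ Q)))

include hQ in
theorem finite_Dsub : Module.Finite A (Dsub A S Q (t : Set (FractionRing (S ⧸ Q)))) := by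
  obtain ⟨E, hloc, hess, -, hE⟩ := Groth.Agent.Lib.T2H1.MinPrimeStage.main A S Q hQ t
  haveI : Module.Finite A E := FinEtTensor.finite_of_isEssentiallyEtale A E hess
  let N : Submodule A (S ⧸ Q) := (Subalgebra.toSubmodule E).map (Ideal.Quotient.mkₐ A Q).toLinearMap
  have hNfg : N.FG := by
    apply Submodule.FG.map
    exact (Module.Finite.iff_fg (N := Subalgebra.toSubmodule E)).mp ‹_›
  have hle : Subalgebra.toSubmodule (Dsub A S Q (t : Set (FractionRing (S ⧸ Q)))) ≤ N := by
    intro d hd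
    obtain ⟨x, rfl⟩ := Ideal.Quotient.mk_surjective d
    obtain ⟨e, he, hex⟩ := hE x hd
    exact ⟨e, he, hex⟩
  haveI : IsNoetherian A N := isNoetherian_of_fg_of_noetherian N hNfg
  have hfg : (Subalgebra.toSubmodule (Dsub A S Q (t : Set (FractionRing (S ⧸ Q))))).FG := by
    have h1 : (Submodule.comap N.subtype
        (Subalgebra.toSubmodule (Dsub A S Q (t : Set (FractionRing (S ⧸ Q)))))).FG :=
      IsNoetherian.noetherian _
    have h2 := h1.map N.subtype
    rwa [Submodule.map_comap_eq, Submodule.range_subtype, inf_eq_right.mpr hle] at h2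
  exact (Module.Finite.iff_fg (N := Subalgebra.toSubmodule _)).mpr hfg

end Finite

section Integral

variable (A S : Type u) [CommRing A] [HenselianLocalRing A]
  [CommRing S] [IsLocalRing S] [Algebra A S] [IsLocalHom (algebraMap A S)]
  [Hensel.IsStrictHenselization A S]

/-- A strict henselization of a henselian local ring is integral over it. -/
theorem isIntegral_sh : Algebra.IsIntegral A S := by
  classical
  obtain ⟨Ω, _, _, _, _, _, ⟨e⟩⟩ := HzP.sh_exists_model A S
  constructor
  intro x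
  obtain ⟨i, hi⟩ := exists_stage e {x}
  obtain ⟨hloc, hess⟩ := range_isEssentiallyEtale e i
  haveI := FinEtTensor.finite_of_isEssentiallyEtale A _ hess
  have hx : x ∈ (ρ e i).range := hi x (Finset.mem_singleton_self x)
  have h1 : IsIntegral A (⟨x, hx⟩ : (ρ e i).range) := Algebra.IsIntegral.isIntegral _
  exact h1.map (Subalgebra.val _)

end Integral

section Frac

variable (A S : Type u) [CommRing A] [HenselianLocalRing A]
  [CommRing S] [IsLocalRing S] [Algebra A S] [IsLocalHom (algebraMap A S)]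
  [Hensel.IsStrictHenselization A S] (Q : Ideal S) [Q.IsPrime]
  (t : Set (FractionRing (S ⧸ Q)))

/-- Every element of `L` is a quotient of two elements of `L ∩ (S ⧸ Q)`. -/
theorem exists_frac (l : FractionRing (S ⧸ Q)) (hl : l ∈ Lf A S Q t) :
    ∃ a ∈ Dsub A S Q t, ∃ b ∈ Dsub A S Q t,
      algebraMap (S ⧸ Q) (FractionRing (S ⧸ Q)) b ≠ 0 ∧
        l * algebraMap (S ⧸ Q) (FractionRing (S ⧸ Q)) b =
          algebraMap (S ⧸ Q) (FractionRing (S ⧸ Q)) a := by
  haveI := isIntegral_sh A S
  obtain ⟨x, y, hy, hxy⟩ := IsFractionRing.div_surjective (A := S ⧸ Q) l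
  have hy0 : y ≠ 0 := nonZeroDivisors.ne_zero hy
  -- `y` is algebraic over `A ⧸ q`
  set q : Ideal A := Q.comap (algebraMap A S) with hq
  haveI : Algebra.IsIntegral A (S ⧸ Q) := Algebra.IsIntegral.of_surjective
    (Ideal.Quotient.mkₐ A Q) Ideal.Quotient.mk_surjective
  have hyint : IsIntegral (A ⧸ q) y := (Algebra.IsIntegral.isIntegral (R := A) y).tower_top
  obtain ⟨r, hr0, y', hy'⟩ := hyint.isAlgebraic.exists_nonzero_dvd hy
  obtain ⟨c, rfl⟩ := Ideal.Quotient.mk_surjective r
  have hinj : Function.Injective (algebraMap (A ⧸ q) (S ⧸ Q)) :=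
    Ideal.algebraMap_quotient_injective
  have hc : algebraMap A (S ⧸ Q) c = y * y' := by
    rw [← hy']
    rfl
  have hc0 : algebraMap A (S ⧸ Q) c ≠ 0 := by
    intro h0
    apply hr0
    apply hinj
    rw [map_zero, ← h0]
    rfl
  have hKinj : Function.Injective (algebraMap (S ⧸ Q) (FractionRing (S ⧸ Q))) :=
    IsFractionRing.injective _ _
  have hbL : algebraMap (S ⧸ Q) (FractionRing (S ⧸ Q)) (algebraMap A (S ⧸ Q) c) ∈ Lf A S Q t := by
    rw [← IsScalarTower.algebraMap_apply]
    exact Subfield.subset_closure (Or.inl ⟨c, rfl⟩)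
  have hy0' : algebraMap (S ⧸ Q) (FractionRing (S ⧸ Q)) y ≠ 0 := by
    rw [Ne, map_eq_zero_iff _ hKinj]
    exact hy0
  have heq : l * algebraMap (S ⧸ Q) (FractionRing (S ⧸ Q)) (algebraMap A (S ⧸ Q) c) =
      algebraMap (S ⧸ Q) (FractionRing (S ⧸ Q)) (x * y') := by
    rw [hc, ← hxy, map_mul, map_mul]
    field_simp
  refine ⟨x * y', ?_, algebraMap A (S ⧸ Q) c, hbL, ?_, heq⟩
  · rw [mem_Dsub, ← heq]
    exact (Lf A S Q t).mul_mem hl hbL
  · rw [Ne, map_eq_zero_iff _ hKinj]
    exact hc0

end Frac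

section Excellent

/-- An algebra of finite type over an excellent ring is excellent. -/
theorem isExcellent_of_finiteType (R : Type u) [CommRing R] (hR : EGA4.IsExcellent R)
    (B : Type u) [CommRing B] [Algebra R B] [Algebra.FiniteType R B] : EGA4.IsExcellent B := by
  obtain ⟨hN, hUC, hG, hJ⟩ := hR
  haveI := hN
  haveI hNB : IsNoetherianRing B := Algebra.FiniteType.isNoetherianRing R B
  refine ⟨hNB, ⟨hNB, ?_⟩,
    Groth.Agent.Lib.Helper7.PolyGRing2.isGRing_of_finiteType R hG B, ?_⟩
  · intro T _ _ hT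
    letI : Algebra R T := ((algebraMap B T).comp (algebraMap R B)).toAlgebra
    haveI : IsScalarTower R B T := IsScalarTower.of_algebraMap_eq (fun _ => rfl)
    exact hUC.2 T (Algebra.FiniteType.trans ‹Algebra.FiniteType R B› hT)
  · intro T _ _ hT
    letI : Algebra R T := ((algebraMap B T).comp (algebraMap R B)).toAlgebra
    haveI : IsScalarTower R B T := IsScalarTower.of_algebraMap_eq (fun _ => rfl)
    exact hJ T (Algebra.FiniteType.trans ‹Algebra.FiniteType R B› hT)

end Excellent

section Main45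

variable (A S : Type u) [CommRing A] [HenselianLocalRing A] [IsReduced A]
  (hA : EGA4.IsExcellent A)
  [CommRing S] [IsLocalRing S] [Algebra A S] [IsLocalHom (algebraMap A S)]
  [Hensel.IsStrictHenselization A S] (Q : Ideal S) (hQ : Q ∈ minimalPrimes S) [Q.IsPrime]
  (t : Finset (FractionRing (S ⧸ Q)))

include hA hQ in
theorem main45 :
    ∃ D' : Subalgebra A (S ⧸ Q), (D' : Set (S ⧸ Q)) = (algebraMap (S ⧸ Q) (FractionRing (S ⧸ Q))) ⁻¹'
        (Subfield.closure (Set.range (algebraMap A (FractionRing (S ⧸ Q))) ∪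
          (t : Set (FractionRing (S ⧸ Q)))) : Set (FractionRing (S ⧸ Q))) ∧
      EGA4.IsExcellent D' ∧ ∃ _ : HenselianLocalRing D',
        ∀ l ∈ Subfield.closure (Set.range (algebraMap A (FractionRing (S ⧸ Q))) ∪
            (t : Set (FractionRing (S ⧸ Q)))),
          ∃ a ∈ D', ∃ b ∈ D', algebraMap (S ⧸ Q) (FractionRing (S ⧸ Q)) b ≠ 0 ∧
            l * algebraMap (S ⧸ Q) (FractionRing (S ⧸ Q)) b =
              algebraMap (S ⧸ Q) (FractionRing (S ⧸ Q)) a := by
  haveI : IsNoetherianRing A := hA.1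
  haveI hfin := finite_Dsub A S Q hQ t
  set D' := Dsub A S Q (t : Set (FractionRing (S ⧸ Q))) with hD'
  haveI : Algebra.IsIntegral A D' := Algebra.IsIntegral.of_finite A D'
  haveI : IsLocalRing D' :=
    Groth.Agent.Lib.Helper7.GeomInt.isLocalRing_of_isIntegral_of_isDomain A D'
  haveI : Algebra.FiniteType A D' := inferInstance
  refine ⟨D', rfl, isExcellent_of_finiteType A hA D',
    Groth.Agent.Lib.Helper24G0.henselian_of_finite A D', ?_⟩
  intro l hl
  exact exists_frac A S Q (t : Set (FractionRing (S ⧸ Q))) l hl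

end Main45

end Groth.Agent.Lib.T2H1.InterQuot
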