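import Mathlib
import Groth.Agent.Lib.T2H1InterQuot
import Groth.Agent.Lib.T2H1FiniteSub
import Groth.Agent.Lib.T2H1SepCount
import Groth.Agent.Lib.Helper3HenselInt
import Groth.Agent.Lib.Helper3ShQuot
import Groth.Agent.Lib.Helper3HzRed
import Groth.Agent.Lib.Helper3Branch

/-!
# `L ∩ (S ⧸ Q)` is unramified over `A` (helper1, tranche 2)
-/

set_option autoImplicit false
universe u
open IsLocalRing Polynomial

namespace Groth.Agent.Lib.T2H1.InterQuotUnram

open Groth.Agent.Lib.Helper3 Groth.Agent.Lib.T2H1.InterQuot

section SimpleRoot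

variable (R : Type u) [CommRing R] [HenselianLocalRing R] [IsDomain R]
  [IsSepClosed (ResidueField R)]
  (K : Type u) [Field K] [Algebra R K]

/-- Over a strictly henselian local domain `R`, a root `ξ` (in an extension field) of a monic
polynomial `g`, such that `g'(ξ)` has an inverse integral over `R`, lies in `R`. -/
theorem mem_range_of_simple_root (hinj : Function.Injective (algebraMap R K))
    (g : R[X]) (hg : g.Monic) (ξ : K) (h0 : aeval ξ g = 0)
    (v : K) (hv : IsIntegral R v) (hu : aeval ξ (derivative g) * v = 1) :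
    ξ ∈ Set.range (algebraMap R K) := by
  classical
  have hξint : IsIntegral R ξ := ⟨g, hg, h0⟩
  let R' : Subalgebra R K := Algebra.adjoin R {ξ, v}
  haveI : Algebra.IsIntegral R R' := by
    have : Algebra.IsIntegral R (Algebra.adjoin R ({ξ, v} : Set K)) :=
      Algebra.IsIntegral.adjoin (by
        intro x hx
        rcases hx with rfl | rfl
        · exact hξint
        · exact hv)
    exact this
  haveI : IsLocalRing R' :=
    Groth.Agent.Lib.Helper7.GeomInt.isLocalRing_of_isIntegral_of_isDomain R R'
  have hinj' : Function.Injective (algebraMap R R') := fun a b hab =>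
    hinj (congrArg Subtype.val hab)
  haveI : IsLocalHom (algebraMap R R') :=
    RingHom.IsIntegral.isLocalHom (fun x => Algebra.IsIntegral.isIntegral x) hinj'
  have hξR' : ξ ∈ R' := Algebra.subset_adjoin (by simp)
  have hvR' : v ∈ R' := Algebra.subset_adjoin (by simp)
  set ξ' : R' := ⟨ξ, hξR'⟩ with hξ'
  set v' : R' := ⟨v, hvR'⟩ with hv'
  have hval : ∀ p : R[X], ((aeval ξ' p : R') : K) = aeval ξ p := by
    intro p
    have := Polynomial.aeval_algHom_apply R'.val ξ' p
    exact this.symm
  have h0' : aeval ξ' g = 0 := Subtype.ext (by rw [hval, h0]; rfl)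
  have hu' : aeval ξ' (derivative g) * v' = 1 := Subtype.ext (by
    change ((aeval ξ' (derivative g) : R') : K) * v = 1
    rw [hval, hu])
  -- pass to residue fields
  set ξb : ResidueField R' := residue R' ξ' with hξb
  set gb : (ResidueField R)[X] := g.map (residue R) with hgb
  have hres : ∀ p : R[X], aeval ξb (p.map (residue R)) = residue R' (aeval ξ' p) := by
    intro p
    rw [aeval_def, eval₂_map, aeval_def, hom_eval₂]
    congr 1
  have hgb0 : aeval ξb gb = 0 := by rw [hgb, hres, h0', map_zero]
  have hgb1 : aeval ξb (derivative gb) ≠ 0 := by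
    rw [hgb, derivative_map, hres]
    intro h
    have h1 : IsUnit (aeval ξ' (derivative g)) := IsUnit.of_mul_eq_one _ hu'
    exact ((residue_eq_zero_iff _).mp h) h1
  -- `ξb` is separable over the residue field of `R`, hence rational
  have hξbint : IsIntegral (ResidueField R) ξb := by
    refine ⟨gb, hg.map _, ?_⟩
    rw [← aeval_def]
    exact hgb0
  have hmdvd : minpoly (ResidueField R) ξb ∣ gb := minpoly.dvd _ _ hgb0
  obtain ⟨h, hh⟩ := hmdvd
  have hmsep : (minpoly (ResidueField R) ξb).Separable := by
    rw [separable_iff_derivative_ne_zero (minpoly.irreducible hξbint)]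
    intro hd
    apply hgb1
    rw [hh, derivative_mul, hd, zero_mul, zero_add, map_mul, minpoly.aeval, zero_mul]
  have hdeg := IsSepClosed.degree_eq_one_of_irreducible (ResidueField R)
    (minpoly.irreducible hξbint) hmsep
  rw [minpoly.degree_eq_one_iff] at hdeg
  obtain ⟨cb, hcb⟩ := hdeg
  obtain ⟨c, rfl⟩ := residue_surjective cb
  -- `c` is an approximate simple root of `g` in `R`
  have hκinj : Function.Injective (algebraMap (ResidueField R) (ResidueField R')) :=
    (algebraMap (ResidueField R) (ResidueField R')).injective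
  have hevb : ∀ p : R[X], aeval ξb (p.map (residue R)) =
      algebraMap (ResidueField R) (ResidueField R') (residue R (eval c p)) := by
    intro p
    rw [← hcb, aeval_algebraMap_apply, ← eval_map_apply]
    rfl
  have hc0 : eval c g ∈ maximalIdeal R := by
    rw [← residue_eq_zero_iff]
    apply hκinj
    rw [map_zero, ← hevb, ← hgb, hgb0]
  have hc1 : IsUnit (eval c (derivative g)) := by
    by_contra hnu
    have h1 : residue R (eval c (derivative g)) = 0 := (residue_eq_zero_iff _).mpr hnu
    apply hgb1
    rw [hgb, derivative_map, hevb, h1, map_zero]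
  obtain ⟨ξ₀, hξ₀root, hξ₀c⟩ := HenselianLocalRing.is_henselian g hg c hc0 hc1
  -- `g'(ξ₀)` is a unit
  have hξ₀1 : IsUnit (eval ξ₀ (derivative g)) := by
    by_contra hnu
    have h1 : eval ξ₀ (derivative g) ∈ maximalIdeal R := hnu
    have h2 : eval ξ₀ (derivative g) - eval c (derivative g) ∈ maximalIdeal R := by
      obtain ⟨w, hw⟩ := sub_dvd_eval_sub ξ₀ c (derivative g)
      rw [hw]
      exact Ideal.mul_mem_right _ _ hξ₀c
    have h3 : eval c (derivative g) ∈ maximalIdeal R := by
      have := (maximalIdeal R).sub_mem h1 h2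
      simpa using this
    exact h3 hc1
  -- factor `g = (X - ξ₀) * h₀`
  obtain ⟨h₀, hh₀⟩ := dvd_iff_isRoot.mpr hξ₀root
  have hder : eval ξ₀ h₀ = eval ξ₀ (derivative g) := by
    rw [hh₀, derivative_mul]
    simp
  -- in `R'`
  set δ : R' := ξ' - algebraMap R R' ξ₀ with hδ
  have hδm : δ ∈ maximalIdeal R' := by
    rw [← residue_eq_zero_iff, hδ, map_sub, ← hξb, ← hcb, sub_eq_zero]
    change algebraMap (ResidueField R) (ResidueField R') (residue R c) =
      algebraMap (ResidueField R) (ResidueField R') (residue R ξ₀)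
    congr 1
    rw [eq_comm, ← sub_eq_zero, ← map_sub, residue_eq_zero_iff]
    exact hξ₀c
  have hprod : δ * aeval ξ' h₀ = 0 := by
    rw [← h0', hh₀, map_mul, map_sub, aeval_X, aeval_C]
  have hunit : IsUnit (aeval ξ' h₀) := by
    by_contra hnu
    have h1 : aeval ξ' h₀ ∈ maximalIdeal R' := hnu
    have h2 : aeval ξ' h₀ - algebraMap R R' (eval ξ₀ h₀) ∈ maximalIdeal R' := by
      have h3 : algebraMap R R' (eval ξ₀ h₀) = aeval (algebraMap R R' ξ₀) h₀ := by
        rw [aeval_algebraMap_apply, coe_aeval_eq_eval]
      rw [h3, aeval_def, aeval_def, ← eval_map, ← eval_map]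
      obtain ⟨w, hw⟩ := sub_dvd_eval_sub ξ' (algebraMap R R' ξ₀) (h₀.map (algebraMap R R'))
      rw [hw]
      exact Ideal.mul_mem_right _ _ hδm
    have h4 : algebraMap R R' (eval ξ₀ h₀) ∈ maximalIdeal R' := by
      have := (maximalIdeal R').sub_mem h1 h2
      simpa using this
    rw [hder] at h4
    exact h4 (hξ₀1.map _)
  have hδ0 : δ = 0 := by
    have := hunit.mul_left_eq_zero.mp hprod
    exact this
  refine ⟨ξ₀, ?_⟩
  have h5 : ξ' = algebraMap R R' ξ₀ := sub_eq_zero.mp hδ0
  have h6 := congrArg Subtype.val h5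
  exact h6.symm

end SimpleRoot

section LemmaU

variable (D : Type u) [CommRing D] [HenselianLocalRing D]
  (N : Type u) [CommRing N] [IsLocalRing N] [Algebra D N] [IsLocalHom (algebraMap D N)]
  [Algebra.IsIntegral D N]

/-- If every root in `N` (local, integral over the henselian local ring `D`) of a monic polynomial
over `D` at which the derivative is invertible comes from `D`, then the residue field of `D` is
separably closed in that of `N`. -/
theorem sepClosure_eq_bot
    (H : ∀ g : D[X], g.Monic → ∀ ξ : N, aeval ξ g = 0 → IsUnit (aeval ξ (derivative g)) →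
      ξ ∈ Set.range (algebraMap D N)) :
    separableClosure (ResidueField D) (ResidueField N) = ⊥ := by
  haveI : HenselianLocalRing N := HenselInt.henselian_of_isIntegral D N
  rw [eq_bot_iff]
  intro yb hyb
  rw [mem_separableClosure_iff] at hyb
  have hsep : (minpoly (ResidueField D) yb).Separable := hyb
  have hint : IsIntegral (ResidueField D) yb := hyb.isIntegral
  obtain ⟨g, hgmap, -, hgmonic⟩ := lifts_and_natDegree_eq_and_monic
    (f := residue D) (p := minpoly (ResidueField D) yb)
    ((Polynomial.mem_lifts _).mpr (Polynomial.map_surjective _ residue_surjective _))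
    (minpoly.monic hint)
  obtain ⟨y, rfl⟩ := residue_surjective yb
  have hres : ∀ p : D[X], residue N (eval y (p.map (algebraMap D N))) =
      aeval (residue N y) (p.map (residue D)) := by
    intro p
    rw [eval_map, aeval_def, eval₂_map, hom_eval₂]
    congr 1
  set gN : N[X] := g.map (algebraMap D N) with hgN
  have h0 : eval y gN ∈ maximalIdeal N := by
    rw [← residue_eq_zero_iff, hgN, hres, hgmap, minpoly.aeval]
  have h1 : IsUnit (eval y (derivative gN)) := by
    by_contra hnu
    have h2 : residue N (eval y (derivative gN)) = 0 := (residue_eq_zero_iff _).mpr hnu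
    rw [hgN, derivative_map, hres, ← derivative_map, hgmap] at h2
    exact hsep.aeval_derivative_ne_zero (minpoly.aeval _ _) h2
  obtain ⟨ξ, hξroot, hξy⟩ := HenselianLocalRing.is_henselian gN (hgmonic.map _) y h0 h1
  have hξ0 : aeval ξ g = 0 := by
    rw [aeval_def, ← eval_map]
    exact hξroot
  have hξ1 : IsUnit (aeval ξ (derivative g)) := by
    rw [aeval_def, ← eval_map, ← derivative_map]
    by_contra hnu
    have h2 : eval ξ (derivative gN) ∈ maximalIdeal N := hnu
    have h3 : eval ξ (derivative gN) - eval y (derivative gN) ∈ maximalIdeal N := by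
      obtain ⟨w, hw⟩ := sub_dvd_eval_sub ξ y (derivative gN)
      rw [hw]
      exact Ideal.mul_mem_right _ _ hξy
    have h4 : eval y (derivative gN) ∈ maximalIdeal N := by
      have := (maximalIdeal N).sub_mem h2 h3
      simpa using this
    exact h4 h1
  obtain ⟨d, hd⟩ := H g hgmonic ξ hξ0 hξ1
  rw [IntermediateField.mem_bot]
  refine ⟨residue D d, ?_⟩
  rw [ResidueField.algebraMap_residue, hd, eq_comm, ← sub_eq_zero, ← map_sub, residue_eq_zero_iff]
  have : y - ξ = -(ξ - y) := by ring
  rw [this]
  exact (maximalIdeal N).neg_mem hξy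

end LemmaU

section Quot

variable (A : Type u) [CommRing A] [IsLocalRing A]
  (S : Type u) [CommRing S] [IsLocalRing S] [Algebra A S] [IsLocalHom (algebraMap A S)]
  [Hensel.IsStrictHenselization A S]
  (J : Ideal S) [IsLocalRing (S ⧸ J)]

include A in
theorem henselian_quot : HenselianLocalRing (S ⧸ J) := by
  haveI : HenselianLocalRing S := Hensel.IsStrictHenselization.henselian (R := A)
  exact Groth.Agent.S13598.henselian_quotient J

theorem isLocalHom_algebraMap_quot : IsLocalHom (algebraMap A (S ⧸ J)) := by
  haveI := ShQuot.isLocalHom_mk J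
  have h : algebraMap A (S ⧸ J) = (Ideal.Quotient.mk J).comp (algebraMap A S) := rfl
  rw [h]
  exact RingHom.isLocalHom_comp _ _

/-- The residue field of a quotient of a strict henselization is still a separable closure. -/
theorem isSepClosure_quot [IsLocalHom (algebraMap A (S ⧸ J))] :
    IsSepClosure (ResidueField A) (ResidueField (S ⧸ J)) := by
  haveI := ShQuot.isLocalHom_mk J
  haveI h1 : IsSepClosure (ResidueField A) (ResidueField S) :=
    Hensel.IsStrictHenselization.isSepClosure
  haveI := h1.sep_closed
  haveI : Algebra.IsSeparable (ResidueField A) (ResidueField S) := h1.separable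
  let e2 : ResidueField S ≃+* ResidueField (S ⧸ J) :=
    RingEquiv.ofBijective _ (ShQuot.residue_map_mk_bijective J)
  refine ⟨ShQuot.isSepClosed_of_ringEquiv e2, ?_⟩
  have he2 : ∀ x : ResidueField A, e2 (algebraMap (ResidueField A) (ResidueField S) x) =
      algebraMap (ResidueField A) (ResidueField (S ⧸ J)) x := by
    intro x
    obtain ⟨a, rfl⟩ := residue_surjective x
    rfl
  exact AlgEquiv.Algebra.isSeparable (AlgEquiv.ofRingEquiv (f := e2) he2)

end Quot

section Retraction

variable (A : Type u) [CommRing A] [IsLocalRing A]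
  (S : Type u) [CommRing S] [IsLocalRing S] [Algebra A S] [IsLocalHom (algebraMap A S)]
  [Hensel.IsStrictHenselization A S]
  (J : Ideal S) [IsLocalRing (S ⧸ J)] [IsLocalHom (algebraMap A (S ⧸ J))]
  (D : Type u) [CommRing D] [IsLocalRing D] [Algebra A D] [IsLocalHom (algebraMap A D)]
  [Algebra D (S ⧸ J)] [IsLocalHom (algebraMap D (S ⧸ J))] [IsScalarTower A D (S ⧸ J)]
  (T : Type u) [CommRing T] [IsLocalRing T] [Algebra D T] [IsLocalHom (algebraMap D T)]
  [Hensel.IsStrictHenselization D T]

include A in
theorem isSepClosure_quot_mid : IsSepClosure (ResidueField D) (ResidueField (S ⧸ J)) := by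
  haveI := isSepClosure_quot A S J
  exact FiniteSub.isSepClosure_residue A D (S ⧸ J)

include A in
/-- A strict henselization `T` of a local ring `D` between `A` and a quotient `S ⧸ J` of the
strict henselization `S` of `A` surjects onto `S ⧸ J`, compatibly with `S → S ⧸ J`. -/
theorem exists_retraction_quot : ∃ (φ : T →+* S ⧸ J) (ψ : S →+* T),
    φ.comp (algebraMap D T) = algebraMap D (S ⧸ J) ∧ φ.comp ψ = Ideal.Quotient.mk J := by
  haveI : HenselianLocalRing S := Hensel.IsStrictHenselization.henselian (R := A)
  haveI : HenselianLocalRing (S ⧸ J) := henselian_quot A S J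
  haveI : HenselianLocalRing T := Hensel.IsStrictHenselization.henselian (R := D)
  haveI := ShQuot.isLocalHom_mk J
  haveI : IsSepClosure (ResidueField D) (ResidueField (S ⧸ J)) := isSepClosure_quot_mid A S J D
  haveI : IsSepClosure (ResidueField D) (ResidueField T) :=
    Hensel.IsStrictHenselization.isSepClosure
  let τ : ResidueField T ≃ₐ[ResidueField D] ResidueField (S ⧸ J) :=
    IsSepClosure.equiv (ResidueField D) (ResidueField T) (ResidueField (S ⧸ J))
  have hτ : ((τ : ResidueField T →ₐ[ResidueField D] ResidueField (S ⧸ J)) :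
        ResidueField T →+* ResidueField (S ⧸ J)).comp (ResidueField.map (algebraMap D T)) =
      ResidueField.map (algebraMap D (S ⧸ J)) := by
    rw [← FiniteSub.algebraMap_residueField_eq, ← FiniteSub.algebraMap_residueField_eq]
    ext x
    exact τ.commutes x
  obtain ⟨φ, ⟨hφ1, hφ2⟩, -⟩ := Hensel.IsStrictHenselization.universal (R := D) (S := T) (S ⧸ J)
    (algebraMap D (S ⧸ J)) _ hτ
  haveI : IsLocalHom ((algebraMap D T).comp (algebraMap A D)) := RingHom.isLocalHom_comp _ _
  let σ : ResidueField S →+* ResidueField T :=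
    ((τ.symm : ResidueField (S ⧸ J) →ₐ[ResidueField D] ResidueField T) :
        ResidueField (S ⧸ J) →+* ResidueField T).comp (ResidueField.map (Ideal.Quotient.mk J))
  have hσ : σ.comp (ResidueField.map (algebraMap A S)) =
      ResidueField.map ((algebraMap D T).comp (algebraMap A D)) := by
    ext x
    obtain ⟨a, rfl⟩ := residue_surjective x
    simp only [σ, RingHom.comp_apply, ResidueField.map_residue]
    have h0 : Ideal.Quotient.mk J (algebraMap A S a) = algebraMap D (S ⧸ J) (algebraMap A D a) := by
      rw [← IsScalarTower.algebraMap_apply A D (S ⧸ J) a]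
      rfl
    rw [h0]
    have h1 : residue (S ⧸ J) (algebraMap D (S ⧸ J) (algebraMap A D a)) =
        τ (residue T (algebraMap D T (algebraMap A D a))) :=
      (τ.commutes (residue D (algebraMap A D a))).symm
    rw [h1]
    exact τ.symm_apply_apply _
  obtain ⟨ψ, ⟨hψ1, hψ2⟩, -⟩ := Hensel.IsStrictHenselization.universal (R := A) (S := S) T
    ((algebraMap D T).comp (algebraMap A D)) σ hσ
  refine ⟨φ, ψ, hφ1, ?_⟩
  have hπ : (ResidueField.map (Ideal.Quotient.mk J)).comp (ResidueField.map (algebraMap A S)) =
      ResidueField.map (algebraMap A (S ⧸ J)) := by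
    ext x
    obtain ⟨a, rfl⟩ := residue_surjective x
    rfl
  obtain ⟨g, -, huniq⟩ := Hensel.IsStrictHenselization.universal (R := A) (S := S) (S ⧸ J)
    (algebraMap A (S ⧸ J)) (ResidueField.map (Ideal.Quotient.mk J)) hπ
  have h1 : φ.comp ψ = g := huniq _ ⟨by
    rw [RingHom.comp_assoc, hψ1, ← RingHom.comp_assoc, hφ1, ← IsScalarTower.algebraMap_eq], by
    intro x
    rw [RingHom.comp_apply, hφ2, hψ2]
    simp only [σ, RingHom.comp_apply]
    exact τ.apply_symm_apply _⟩
  have h2 : Ideal.Quotient.mk J = g := huniq _ ⟨rfl, fun x => rfl⟩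
  rw [h1, h2]

end Retraction

section SimpleRootD

variable (A S : Type u) [CommRing A] [IsLocalRing A]
  [CommRing S] [IsLocalRing S] [Algebra A S] [IsLocalHom (algebraMap A S)]
  [Hensel.IsStrictHenselization A S] (Q : Ideal S) [Q.IsPrime]
  (t : Set (FractionRing (S ⧸ Q)))

local notation "K" => FractionRing (S ⧸ Q)
local notation "D'" => Dsub A S Q t

theorem simple_root_mem (g : (D')[X]) (hg : g.Monic)
    (ξ : integralClosure D' (FractionRing D')) (h0 : aeval ξ g = 0)
    (h1 : IsUnit (aeval ξ (derivative g))) :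
    ξ ∈ Set.range (algebraMap D' (integralClosure D' (FractionRing D'))) := by
  haveI : IsLocalRing (S ⧸ Q) :=
    IsLocalRing.of_surjective' (Ideal.Quotient.mk Q) Ideal.Quotient.mk_surjective
  haveI : HenselianLocalRing (S ⧸ Q) := henselian_quot A S Q
  haveI := isLocalHom_algebraMap_quot A S Q
  haveI : IsSepClosed (ResidueField (S ⧸ Q)) := (isSepClosure_quot A S Q).sep_closed
  have hinjK : Function.Injective (algebraMap (S ⧸ Q) K) := IsFractionRing.injective _ _
  have hinjD : Function.Injective (algebraMap D' K) := fun a b hab =>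
    Subtype.ext (hinjK hab)
  let ι : FractionRing D' →ₐ[D'] K :=
    IsFractionRing.liftAlgHom (g := Algebra.ofId D' K) hinjD
  have hιL : ∀ x : FractionRing D', ι x ∈ Lf A S Q t := by
    intro x
    obtain ⟨a, b, -, rfl⟩ := IsFractionRing.div_surjective (A := D') x
    rw [map_div₀, AlgHom.commutes, AlgHom.commutes]
    exact div_mem a.2 b.2
  obtain ⟨u, hu⟩ := h1
  set ξK : K := ι (ξ : FractionRing D') with hξK
  set gS : (S ⧸ Q)[X] := g.map (algebraMap D' (S ⧸ Q)) with hgS
  have hval : ∀ p : (D')[X], aeval ξK (p.map (algebraMap D' (S ⧸ Q))) =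
      ι ((aeval ξ p : integralClosure D' (FractionRing D')) : FractionRing D') := by
    intro p
    rw [aeval_map_algebraMap, hξK, aeval_algHom_apply]
    congr 1
    exact aeval_algHom_apply (integralClosure D' (FractionRing D')).val ξ p
  have h0K : aeval ξK gS = 0 := by
    rw [hgS, hval, h0]
    simp
  set v : K := ι ((↑(u⁻¹) : integralClosure D' (FractionRing D')) : FractionRing D') with hv
  have hvint : IsIntegral (S ⧸ Q) v := by
    have h2 : IsIntegral D' ((↑(u⁻¹) : integralClosure D' (FractionRing D')) : FractionRing D') :=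
      (↑(u⁻¹) : integralClosure D' (FractionRing D')).2
    exact (h2.map ι).tower_top
  have huK : aeval ξK (derivative gS) * v = 1 := by
    rw [hgS, derivative_map, hval, hv, ← map_mul, ← hu]
    have h3 : ((↑u : integralClosure D' (FractionRing D')) : FractionRing D') *
        ((↑(u⁻¹) : integralClosure D' (FractionRing D')) : FractionRing D') = 1 := by
      have := congrArg Subtype.val u.mul_inv
      exact this
    rw [h3, map_one]
  obtain ⟨s, hs⟩ := mem_range_of_simple_root (S ⧸ Q) K hinjK gS (hg.map _) ξK h0K v hvint huK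
  have hsD : s ∈ D' := by
    rw [mem_Dsub, hs]
    exact hιL _
  refine ⟨⟨s, hsD⟩, ?_⟩
  apply Subtype.ext
  apply ι.toRingHom.injective
  change ι (algebraMap D' (FractionRing D') ⟨s, hsD⟩) = ι (ξ : FractionRing D')
  rw [AlgHom.commutes, ← hξK, ← hs]
  rfl

end SimpleRootD

section Main40

variable (A S : Type u) [CommRing A] [HenselianLocalRing A] [IsNoetherianRing A]
  [CommRing S] [IsLocalRing S] [Algebra A S] [IsLocalHom (algebraMap A S)]
  [Hensel.IsStrictHenselization A S] (Q : Ideal S) (hQ : Q ∈ minimalPrimes S) [Q.IsPrime]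
  (t : Finset (FractionRing (S ⧸ Q)))

local notation "K" => FractionRing (S ⧸ Q)
local notation "D'" => Dsub A S Q (t : Set (FractionRing (S ⧸ Q)))

include hQ in
theorem formallyUnramified_Dsub :
    Module.Finite A D' ∧ Algebra.FormallyUnramified A D' := by
  haveI hfin : Module.Finite A D' := finite_Dsub A S Q hQ t
  refine ⟨hfin, ?_⟩
  haveI : IsLocalRing (S ⧸ Q) :=
    IsLocalRing.of_surjective' (Ideal.Quotient.mk Q) Ideal.Quotient.mk_surjective
  haveI : HenselianLocalRing (S ⧸ Q) := henselian_quot A S Q
  haveI := isLocalHom_algebraMap_quot A S Q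
  haveI := ShQuot.isLocalHom_mk Q
  haveI : IsLocalRing D' := FiniteSub.isLocalRing_sub A (S ⧸ Q) D'
  haveI : IsLocalHom (algebraMap A D') := FiniteSub.isLocalHom_algebraMap_sub A (S ⧸ Q) D'
  haveI : IsLocalHom (algebraMap D' (S ⧸ Q)) := FiniteSub.isLocalHom_val_sub A (S ⧸ Q) D'
  haveI : HenselianLocalRing D' := Groth.Agent.Lib.Helper24G0.henselian_of_finite A D'
  haveI : IsNoetherianRing D' := Algebra.FiniteType.isNoetherianRing A D'
  -- the normalization
  haveI : IsLocalRing (integralClosure D' (FractionRing D')) :=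
    Groth.Agent.Lib.Helper7.GeomInt.isLocalRing_of_isIntegral_of_isDomain D' _
  haveI : IsLocalHom (algebraMap D' (integralClosure D' (FractionRing D'))) :=
    RingHom.IsIntegral.isLocalHom (fun x => Algebra.IsIntegral.isIntegral x)
      (FaithfulSMul.algebraMap_injective _ _)
  -- a strict henselization of `D'`
  obtain ⟨T, _, _, _, _, hT⟩ := Branch.exists_isStrictHenselization D'
  haveI := hT
  have hsep : separableClosure (ResidueField D')
      (ResidueField (integralClosure D' (FractionRing D'))) = ⊥ :=
    sepClosure_eq_bot D' (integralClosure D' (FractionRing D'))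
      (fun g hg ξ h0 h1 => simple_root_mem A S Q (t : Set (FractionRing (S ⧸ Q))) g hg ξ h0 h1)
  obtain ⟨-, hcard⟩ := SepCount.card_minimalPrimes_eq D' T
  rw [hsep, IntermediateField.finrank_bot] at hcard
  -- `T` is a domain
  haveI : IsReduced T := (HzP.sh_isReduced_iff D' T).mp inferInstance
  have hbot : (⊥ : Ideal T).IsPrime := by
    obtain ⟨hsub, ⟨Q₀, hQ₀⟩⟩ := Nat.card_eq_one_iff_unique.mp hcard
    have hQ₀le : ∀ P : Ideal T, P.IsPrime → Q₀ ≤ P := by
      intro P hP
      obtain ⟨Q₁, hQ₁, hQ₁P⟩ := Ideal.exists_minimalPrimes_le (bot_le : (⊥ : Ideal T) ≤ P)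
      have : (⟨Q₁, hQ₁⟩ : minimalPrimes T) = ⟨Q₀, hQ₀⟩ := Subsingleton.elim _ _
      have h2 : Q₁ = Q₀ := congrArg Subtype.val this
      rw [← h2]
      exact hQ₁P
    have h3 : Q₀ ≤ nilradical T := by
      rw [nilradical_eq_sInf]
      exact le_sInf (fun P hP => hQ₀le P hP)
    rw [nilradical_eq_zero, Ideal.zero_eq_bot, le_bot_iff] at h3
    rw [← h3]
    exact hQ₀.1.1
  -- the comparison maps
  obtain ⟨φ, ψ, hφ, hφψ⟩ := exists_retraction_quot A S Q D' T
  have hφsurj : Function.Surjective φ := by
    intro s
    obtain ⟨s, rfl⟩ := Ideal.Quotient.mk_surjective s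
    exact ⟨ψ s, congrArg (fun h : S →+* S ⧸ Q => h s) hφψ⟩
  have hφinj : Function.Injective φ := by
    rw [RingHom.injective_iff_ker_eq_bot]
    haveI : (RingHom.ker φ).IsPrime := RingHom.ker_isPrime φ
    have hker : (⊥ : Ideal T).under D' = (RingHom.ker φ).under D' := by
      have h4 : (RingHom.ker φ).under D' = ⊥ := by
        rw [Ideal.under, RingHom.comap_ker, hφ]
        exact (RingHom.injective_iff_ker_eq_bot _).mp Subtype.val_injective
      rw [h4, eq_bot_iff]
      intro x hx
      have hx' : algebraMap D' T x = 0 := hx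
      haveI : Module.FaithfullyFlat D' T := HzP.sh_faithfullyFlat D' T
      have : x = 0 := FaithfulSMul.algebraMap_injective D' T (by rw [hx', map_zero])
      rw [this]
      exact Ideal.zero_mem _
    exact (HzP.sh_incomparable D' T ⊥ (RingHom.ker φ) bot_le hker).symm
  -- `S ⧸ Q` is a strict henselization of `D'`
  haveI : IsSepClosure (ResidueField D') (ResidueField (S ⧸ Q)) :=
    isSepClosure_quot_mid A S Q D'
  haveI : Hensel.IsStrictHenselization D' (S ⧸ Q) :=
    FiniteSub.isStrictHenselization_of_ringEquiv_top D' T (S ⧸ Q)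
      (RingEquiv.ofBijective φ ⟨hφinj, hφsurj⟩)
      (fun d => congrArg (fun h : D' →+* S ⧸ Q => h d) hφ)
  -- the maximal ideal of `D'` is generated by that of `A`
  haveI : Module.FaithfullyFlat D' (S ⧸ Q) := HzP.sh_faithfullyFlat D' (S ⧸ Q)
  have hmS : (maximalIdeal A).map (algebraMap A (S ⧸ Q)) = maximalIdeal (S ⧸ Q) := by
    have h5 : algebraMap A (S ⧸ Q) = (Ideal.Quotient.mk Q).comp (algebraMap A S) := rfl
    rw [h5, ← Ideal.map_map, HzP.sh_map_maximalIdeal A S]
    apply le_antisymm
    · rw [Ideal.map_le_iff_le_comap]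
      have h6 : (maximalIdeal (S ⧸ Q)).comap (Ideal.Quotient.mk Q) = maximalIdeal S :=
        ((IsLocalRing.local_hom_TFAE (Ideal.Quotient.mk Q)).out 0 4).mp ‹_›
      rw [h6]
    · intro y hy
      obtain ⟨x, rfl⟩ := Ideal.Quotient.mk_surjective y
      apply Ideal.mem_map_of_mem
      by_contra hx
      have hxu : IsUnit x := by
        by_contra hnu
        exact hx hnu
      exact hy (hxu.map _)
  have hmD : (maximalIdeal A).map (algebraMap A D') = maximalIdeal D' := by
    have h1 : ((maximalIdeal A).map (algebraMap A D')).map (algebraMap D' (S ⧸ Q)) =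
        maximalIdeal (S ⧸ Q) := by
      rw [Ideal.map_map, ← IsScalarTower.algebraMap_eq]
      exact hmS
    have h2 := Ideal.comap_map_eq_self_of_faithfullyFlat (B := S ⧸ Q)
      ((maximalIdeal A).map (algebraMap A D'))
    rw [h1] at h2
    rw [← h2]
    exact ((IsLocalRing.local_hom_TFAE (algebraMap D' (S ⧸ Q))).out 0 4).mp ‹_›
  -- separable residue extension
  haveI : IsSepClosure (ResidueField A) (ResidueField (S ⧸ Q)) := isSepClosure_quot A S Q
  haveI : Algebra.IsSeparable (ResidueField A) (ResidueField D') :=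
    Algebra.isSeparable_tower_bot_of_isSeparable (ResidueField A) (ResidueField D')
      (ResidueField (S ⧸ Q))
  exact Algebra.FormallyUnramified.of_map_maximalIdeal hmD

end Main40

end Groth.Agent.Lib.T2H1.InterQuotUnram
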