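import Mathlib
import Groth.Agent.S4650

/-!
# Finiteness of irreducible components ascends along flat morphisms locally of finite type
(helper1)
-/

set_option autoImplicit false
universe u
open CategoryTheory CategoryTheory.Limits AlgebraicGeometry TopologicalSpace

namespace Groth.Agent.Lib.T2H1.IrrFlat

/-- a generic point of an irreducible component lying in the image of a continuous injective map
from a quasi-sober space comes from a generic point of an irreducible component. -/
lemma mem_genericPoints_of_map {F W : Type*} [TopologicalSpace F] [TopologicalSpace W]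
    [QuasiSober F] [T0Space W] (ι : F → W) (hι : Continuous ι) (hinj : Function.Injective ι)
    (ξ : F) (hξ : ι ξ ∈ genericPoints W) : ξ ∈ genericPoints F := by
  change closure {ξ} ∈ irreducibleComponents F
  refine ⟨isIrreducible_singleton.closure, fun Z hZ hle => ?_⟩
  -- `Z` irreducible containing `closure {ξ}`
  have hZc : IsIrreducible (closure Z) := hZ.closure
  obtain ⟨ζ, hζ⟩ := QuasiSober.sober hZc isClosed_closure
  -- `ζ ⤳ ξ`
  have hξZ : ξ ∈ closure {ζ} := by
    rw [hζ.def]
    exact subset_closure (hle (subset_closure rfl))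
  have hspec : ζ ⤳ ξ := specializes_iff_mem_closure.2 hξZ
  have hspec' : ι ζ ⤳ ι ξ := hspec.map hι
  have hle' : closure {ι ξ} ≤ closure {ι ζ} :=
    closure_minimal (by
      rintro _ rfl
      exact specializes_iff_mem_closure.1 hspec') isClosed_closure
  have heq : closure {ι ζ} ≤ closure {ι ξ} :=
    hξ.2 isIrreducible_singleton.closure hle'
  have h1 : ι ζ = ι ξ := by
    have h2 : closure {ι ζ} = closure {ι ξ} := le_antisymm heq hle'
    have h3 : Inseparable (ι ζ) (ι ξ) := inseparable_iff_closure_eq.2 h2
    exact h3.eq
  have h4 : ζ = ξ := hinj h1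
  subst h4
  intro z hz
  rw [hζ.def]
  exact subset_closure hz

/-- the fibre of a morphism locally of finite type with compact source over a point is a
Noetherian space. -/
lemma noetherianSpace_fiber {W W' : Scheme.{u}} (h : W ⟶ W') [LocallyOfFiniteType h]
    [CompactSpace W] (η : W') : NoetherianSpace (h.fiber η) := by
  haveI : LocallyOfFiniteType (h.fiberToSpecResidueField η) :=
    MorphismProperty.pullback_snd (P := @LocallyOfFiniteType) _ _ inferInstance
  haveI : IsLocallyNoetherian (h.fiber η) :=
    LocallyOfFiniteType.isLocallyNoetherian (h.fiberToSpecResidueField η)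
  haveI : QuasiCompact (W'.fromSpecResidueField η) := by
    constructor
    intro U _ _
    exact (Set.toFinite _).isCompact
  haveI : QuasiCompact (h.fiberι η) :=
    MorphismProperty.pullback_fst (P := @QuasiCompact) _ _ inferInstance
  haveI : CompactSpace (h.fiber η) := by
    have := QuasiCompact.isCompact_preimage (f := h.fiberι η) (U := Set.univ) isOpen_univ
      isCompact_univ
    rw [Set.preimage_univ] at this
    exact isCompact_univ_iff.1 this
  haveI : IsNoetherian (h.fiber η) := {}
  infer_instance

/-- finiteness of the set of irreducible components ascends along flat morphisms locally of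
finite type with compact source. -/
theorem finite_irreducibleComponents {W W' : Scheme.{u}} (h : W ⟶ W') [Flat h]
    [LocallyOfFiniteType h] [CompactSpace W] (hW' : (irreducibleComponents W').Finite) :
    (irreducibleComponents W).Finite := by
  have hgen' : (genericPoints W').Finite := genericPoints.finite hW'
  suffices hgen : (genericPoints W).Finite by
    haveI := hgen.to_subtype
    exact Set.toFinite _ |>.of_surjOn (fun x => closure {x}) (by
      intro Z hZ
      have := (genericPoints.equiv (α := W)).symm ⟨Z, hZ⟩
      exact ⟨((genericPoints.equiv (α := W)).symm ⟨Z, hZ⟩).1,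
        ((genericPoints.equiv (α := W)).symm ⟨Z, hZ⟩).2,
        congrArg Subtype.val ((genericPoints.equiv (α := W)).apply_symm_apply ⟨Z, hZ⟩)⟩) |>.subset
      (fun _ h => h)
  have hmaps : ∀ ξ ∈ genericPoints W, h ξ ∈ genericPoints W' := by
    intro ξ hξ
    have := Groth.Agent.S4650.result h (Flat.generalizingMap h) (closure {ξ}) hξ
    change closure {h ξ} ∈ irreducibleComponents W'
    convert this using 1
    rw [closure_image_closure h.continuous, Set.image_singleton]
  have hsub : genericPoints W ⊆ ⋃ η ∈ genericPoints W', (genericPoints W ∩ h ⁻¹' {η}) := by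
    intro ξ hξ
    simp only [Set.mem_iUnion, Set.mem_inter_iff, Set.mem_preimage, Set.mem_singleton_iff]
    exact ⟨h ξ, hmaps ξ hξ, hξ, rfl⟩
  refine (hgen'.biUnion (fun η _ => ?_)).subset hsub
  haveI := noetherianSpace_fiber h η
  have hF : (genericPoints (h.fiber η)).Finite :=
    genericPoints.finite NoetherianSpace.finite_irreducibleComponents
  refine (hF.image (h.fiberι η)).subset ?_
  rintro ξ ⟨hξ, hξη⟩
  have hr : ξ ∈ Set.range (h.fiberι η) := by rw [Scheme.Hom.range_fiberι]; exact hξη
  obtain ⟨ξ', rfl⟩ := hr
  exact ⟨ξ', mem_genericPoints_of_map (h.fiberι η) (h.fiberι η).continuous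
    (h.fiberι η).isEmbedding.injective ξ' hξ, rfl⟩

end Groth.Agent.Lib.T2H1.IrrFlat

namespace Groth.Agent.Lib.T2H1.IrrFlat

/-- the quasi-compact opens of the scheme have finitely many irreducible components. -/
def LocFinIrr (U : Scheme.{u}) : Prop :=
  ∀ W : U.Opens, IsCompact (W : Set ↥U) → (irreducibleComponents ↥W).Finite

/-- a compact subset of a scheme is contained in a compact open. -/
lemma exists_compact_opens_superset {V : Scheme.{u}} (K : Set ↥V) (hK : IsCompact K) :
    ∃ W : V.Opens, IsCompact (W : Set ↥V) ∧ K ⊆ (W : Set ↥V) := by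
  let A : ↥V → V.Opens := fun y => (V.affineCover.f (V.affineCover.idx y)).opensRange
  have hA : ∀ y, y ∈ A y := fun y => V.affineCover.covers y
  have hAc : ∀ y, IsCompact (A y : Set ↥V) := fun y =>
    (isAffineOpen_opensRange (V.affineCover.f (V.affineCover.idx y))).isCompact
  obtain ⟨t, -, ht⟩ := hK.elim_nhds_subcover (fun y => (A y : Set ↥V))
    (fun y _ => (A y).isOpen.mem_nhds (hA y))
  refine ⟨⨆ y ∈ t, A y, ?_, ?_⟩
  · have : ((⨆ y ∈ t, A y : V.Opens) : Set ↥V) = ⋃ y ∈ t, (A y : Set ↥V) := by
      simp
    rw [this]
    exact t.isCompact_biUnion (fun y _ => hAc y)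
  · intro k hk
    have := ht hk
    simp only [Set.mem_iUnion] at this
    obtain ⟨y, hy, hky⟩ := this
    simp only [SetLike.mem_coe, Opens.mem_iSup]
    exact ⟨y, hy, hky⟩

/-- local finiteness of irreducible components ascends along flat morphisms locally of finite
type. -/
theorem locFinIrr_of_flat_lft {U V : Scheme.{u}} (h : U ⟶ V) [Flat h] [LocallyOfFiniteType h]
    (hV : LocFinIrr V) : LocFinIrr U := by
  intro W hW
  obtain ⟨W'', hW''c, hsub⟩ := exists_compact_opens_superset (h '' (W : Set ↥U)) (hW.image h.continuous)
  have hle : W ≤ h ⁻¹ᵁ W'' := fun x hx => hsub ⟨x, hx, rfl⟩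
  haveI : CompactSpace ↥W.toScheme := isCompact_iff_compactSpace.1 hW
  exact finite_irreducibleComponents (h.resLE W'' W hle) (hV W'' hW''c)

end Groth.Agent.Lib.T2H1.IrrFlat
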