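import Mathlib
import Groth.Prelude.Def_AlgSp4
import Groth.Agent.Lib.T2H1IrrFlat
import Groth.Agent.Lib.T2H1StalkDim
import Groth.Agent.S2312
import Groth.Agent.S10176
import Groth.Agent.S10177

/-!
# Local finiteness of irreducible components on étale charts of an algebraic space (helper1)
-/

set_option autoImplicit false
universe u
open CategoryTheory CategoryTheory.Limits AlgebraicGeometry TopologicalSpace
open AlgSp

namespace Groth.Agent.Lib.T2H1.IrrFlat

/-- the local ring at a point of a scheme has dimension zero exactly at the generic points of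
the irreducible components. -/
theorem ringKrullDim_stalk_eq_zero_iff {Y : Scheme.{u}} (y : Y) :
    ringKrullDim ↥(Y.presheaf.stalk y) = 0 ↔ y ∈ genericPoints ↥Y := by
  change _ ↔ closure ({y} : Set Y) ∈ irreducibleComponents ↥Y
  rw [Groth.Agent.S2312.result Y y]
  constructor
  · intro h
    haveI : Ring.KrullDimLE 0 ↥(Y.presheaf.stalk y) :=
      ringKrullDimZero_iff_ringKrullDim_eq_zero.2 h
    exact Ring.KrullDimLE.subsingleton_primeSpectrum _
  · intro h
    have h1 : ∃! I : Ideal ↥(Y.presheaf.stalk y), I.IsPrime := by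
      refine ⟨IsLocalRing.maximalIdeal _, inferInstance, fun J hJ => ?_⟩
      have := h.elim (⟨J, hJ⟩ : PrimeSpectrum _) ⟨IsLocalRing.maximalIdeal _, inferInstance⟩
      exact congrArg PrimeSpectrum.asIdeal this
    have h2 := ((Ring.krullDimLE_zero_and_isLocalRing_tfae ↥(Y.presheaf.stalk y)).out 1 0 rfl
      rfl).mp h1
    haveI := h2.1
    exact ringKrullDimZero_iff_ringKrullDim_eq_zero.1 h2.1


/-- a continuous surjection from a space with finitely many irreducible components. -/
theorem finite_irreducibleComponents_of_surjective {X : Type*} {Y : Type*} [TopologicalSpace X]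
    [TopologicalSpace Y] (f : X → Y) (hf : Continuous f) (hs : Function.Surjective f)
    (hfin : (irreducibleComponents X).Finite) : (irreducibleComponents Y).Finite := by
  classical
  have hsub : irreducibleComponents Y ⊆ (fun C => closure (f '' C)) '' irreducibleComponents X := by
    intro W hW
    have hcov : W ⊆ ⋃₀ ((hfin.image (fun C => closure (f '' C))).toFinset : Set (Set Y)) := by
      intro y _
      obtain ⟨x, rfl⟩ := hs y
      refine Set.mem_sUnion.mpr ⟨closure (f '' irreducibleComponent x), ?_, ?_⟩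
      · simp only [Set.Finite.coe_toFinset]
        exact ⟨irreducibleComponent x, irreducibleComponent_mem_irreducibleComponents x, rfl⟩
      · exact subset_closure ⟨x, mem_irreducibleComponent, rfl⟩
    obtain ⟨z, hz, hWz⟩ := isIrreducible_iff_sUnion_isClosed.mp hW.1 _
      (by
        intro z hz
        simp only [Set.Finite.mem_toFinset] at hz
        obtain ⟨C, _, rfl⟩ := hz
        exact isClosed_closure) hcov
    simp only [Set.Finite.mem_toFinset] at hz
    obtain ⟨C, hC, rfl⟩ := hz
    refine ⟨C, hC, ?_⟩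
    have hirr : IsIrreducible (closure (f '' C)) :=
      (hC.1.image f hf.continuousOn).closure
    exact subset_antisymm (hW.2 hirr hWz) hWz
  exact (hfin.image _).subset hsub

/-- local finiteness of irreducible components descends along open surjective morphisms. -/
theorem locFinIrr_of_open_surjective {P U : Scheme.{u}} (g : P ⟶ U) (hopen : IsOpenMap g)
    (hsurj : Function.Surjective g) (hP : LocFinIrr P) : LocFinIrr U := by
  intro W hW
  have key : ∀ w : ↥U, w ∈ W → ∃ A : P.Opens, IsCompact (A : Set ↥P) ∧ A ≤ g ⁻¹ᵁ W ∧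
      w ∈ g '' (A : Set ↥P) := by
    intro w hw
    obtain ⟨p, rfl⟩ := hsurj w
    obtain ⟨_, ⟨A, hA, rfl⟩, hpA, hAle⟩ := P.isBasis_affineOpens.exists_subset_of_mem_open
      (show p ∈ ((g ⁻¹ᵁ W : P.Opens) : Set ↥P) from hw) (g ⁻¹ᵁ W).isOpen
    exact ⟨A, IsAffineOpen.isCompact hA, hAle, ⟨p, hpA, rfl⟩⟩
  choose! A hAc hAle hAw using key
  obtain ⟨t, htW, htfin, ht⟩ := hW.elim_finite_subcover_image (b := (W : Set ↥U))
    (c := fun w => g '' (A w : Set ↥P)) (fun w _ => hopen _ (A w).isOpen)
    (fun w hw => Set.mem_biUnion hw (hAw w hw))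
  let W' : P.Opens := ⨆ w ∈ t, A w
  have hW'coe : (W' : Set ↥P) = ⋃ w ∈ t, (A w : Set ↥P) := by
    simp [W']
  have hW'c : IsCompact (W' : Set ↥P) := by
    rw [hW'coe]
    exact htfin.isCompact_biUnion (fun w hw => hAc w (htW hw))
  have hW'le : ∀ p ∈ W', g p ∈ W := by
    intro p hp
    have : p ∈ (W' : Set ↥P) := hp
    rw [hW'coe] at this
    simp only [Set.mem_iUnion] at this
    obtain ⟨w, hw, hpw⟩ := this
    exact hAle w (htW hw) hpw
  let r : ↥W' → ↥W := fun p => ⟨g p.1, hW'le p.1 p.2⟩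
  have hrc : Continuous r :=
    (g.continuous.comp continuous_subtype_val).subtype_mk _
  have hrs : Function.Surjective r := by
    rintro ⟨w, hw⟩
    have := ht hw
    simp only [Set.mem_iUnion] at this
    obtain ⟨w0, hw0, p, hp, rfl⟩ := this
    have hpW' : p ∈ W' := by
      change p ∈ (W' : Set ↥P)
      rw [hW'coe]
      exact Set.mem_biUnion hw0 hp
    exact ⟨⟨p, hpW'⟩, rfl⟩
  exact finite_irreducibleComponents_of_surjective r hrc hrs (hP W' hW'c)

variable {S : Scheme.{u}}

/-- if some étale surjective chart has locally finitely many irreducible components, so has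
every étale chart. -/
theorem locFinIrr_chart {X : AlgSp.Sp S} (hX : AlgSp.EtaleLocally LocFinIrr X) (U : Over S)
    (a : (AlgSp.yon S).obj U ⟶ X) (ha : AlgSp.RepWith @Etale a) : LocFinIrr U.left := by
  obtain ⟨V, b, hbe, hbs, hQV⟩ := hX
  obtain ⟨P, snd, fst', sq⟩ := hbe.1 a
  obtain ⟨fst, rfl⟩ := (AlgSp.yon S).map_surjective fst'
  haveI : Etale snd.left := hbe.2 _ _ snd sq
  haveI : Surjective snd.left := hbs.2 _ _ snd sq
  haveI : Etale fst.left := ha.2 _ _ fst sq.flip
  have hQP : LocFinIrr P.left := locFinIrr_of_flat_lft fst.left hQV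
  exact locFinIrr_of_open_surjective snd.left snd.left.isOpenMap snd.left.surjective hQP

end Groth.Agent.Lib.T2H1.IrrFlat

namespace Groth.Agent.Lib.T2H1.IrrFlat

variable {S : Scheme.{u}}

lemma finite_irreducibleComponents_of_finite_genericPoints {α : Type*} [TopologicalSpace α]
    [QuasiSober α] [T0Space α] (h : (genericPoints α).Finite) :
    (irreducibleComponents α).Finite := by
  haveI : Finite ↥(genericPoints α) := h.to_subtype
  haveI : Finite ↥(irreducibleComponents α) := (Equiv.finite_iff genericPoints.equiv).1 inferInstance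
  exact Set.toFinite _

/-- the total space of a compact scheme all of whose quasi-compact opens have finitely many
irreducible components has finitely many irreducible components. -/
lemma finite_irreducibleComponents_of_locFinIrr {U : Scheme.{u}} [CompactSpace ↥U]
    (h : LocFinIrr U) : (irreducibleComponents ↥U).Finite := by
  have h1 := h ⊤ (by simpa using isCompact_univ)
  let r : ↥(⊤ : U.Opens) → ↥U := fun p => p.1
  exact finite_irreducibleComponents_of_surjective r continuous_subtype_val (fun x => ⟨⟨x, trivial⟩, rfl⟩) h1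

/-- étale charts of quasi-compact spaces étale over `X` have finitely many irreducible
components. -/
theorem finite_irreducibleComponents_points {X Y : AlgSp.Sp S}
    (hX : AlgSp.EtaleLocally LocFinIrr X) (g : Y ⟶ X) (hg : AlgSp.IsEtaleMor g)
    (hY : AlgSp.IsQuasiCompactSp Y) : (irreducibleComponents (AlgSp.Points Y)).Finite := by
  obtain ⟨UY, aY, haYe, haYs, hc⟩ := hY
  haveI := hc
  have hQ : LocFinIrr UY.left := locFinIrr_chart hX UY (aY ≫ g) (hg aY haYe)
  have h1 := finite_irreducibleComponents_of_locFinIrr hQ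
  exact finite_irreducibleComponents_of_surjective (AlgSp.Points.ofPt aY)
    (AlgSp.Points.continuous_ofPt aY) (Groth.Agent.S10177.surjective_ofPt aY haYs) h1

theorem finite_codimZero_points {X Y : AlgSp.Sp S}
    (hX : AlgSp.EtaleLocally LocFinIrr X) (g : Y ⟶ X) (hg : AlgSp.IsEtaleMor g)
    (hY : AlgSp.IsQuasiCompactSp Y) :
    {y : AlgSp.Points Y |
      AlgSp.HasAt (fun U u => ringKrullDim ↥(U.presheaf.stalk u) = 0) Y y}.Finite := by
  obtain ⟨UY, aY, haYe, haYs, hc⟩ := hY
  haveI := hc
  have hQ : LocFinIrr UY.left := locFinIrr_chart hX UY (aY ≫ g) (hg aY haYe)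
  have h1 : (genericPoints ↥UY.left).Finite :=
    genericPoints.finite (finite_irreducibleComponents_of_locFinIrr hQ)
  refine (h1.image (AlgSp.Points.ofPt aY)).subset ?_
  rintro y ⟨U1, a1, u1, ha1, rfl, hdim⟩
  obtain ⟨uY, huY⟩ := Groth.Agent.S10177.surjective_ofPt aY haYs (AlgSp.Points.ofPt a1 u1)
  obtain ⟨P', r1, r2', sq⟩ := haYe.1 a1
  obtain ⟨r2, rfl⟩ := (AlgSp.yon S).map_surjective r2'
  haveI : Etale r1.left := haYe.2 _ _ r1 sq
  haveI : Etale r2.left := ha1.2 _ _ r2 sq.flip
  obtain ⟨p', hp1, hp2⟩ := Groth.Agent.S10176.exists_point_of_isPullback_yon sq uY u1 huY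
  refine ⟨uY, ?_, huY⟩
  rw [← ringKrullDim_stalk_eq_zero_iff, ← hp1,
    ← Groth.Agent.Lib.T2H1.HasAt.ringKrullDim_stalk_eq_of_etale r2.left p',
    Groth.Agent.Lib.T2H1.HasAt.ringKrullDim_stalk_eq_of_etale r1.left p', hp2]
  exact hdim

end Groth.Agent.Lib.T2H1.IrrFlat

namespace Groth.Agent.Lib.T2H1.IrrFlat

variable {S : Scheme.{u}}

/-- a quasi-compact open of an étale chart, as a quasi-compact space étale over `X`. -/
lemma etale_qc_of_opens {X : AlgSp.Sp S} {U : Over S} (a : (AlgSp.yon S).obj U ⟶ X)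
    (ha : AlgSp.RepWith @Etale a) (W : U.left.Opens) (hW : IsCompact (W : Set ↥U.left)) :
    AlgSp.IsEtaleMor ((AlgSp.yon S).map (Over.homMk W.ι rfl : Over.mk (W.ι ≫ U.hom) ⟶ U) ≫ a) ∧
      AlgSp.IsQuasiCompactSp ((AlgSp.yon S).obj (Over.mk (W.ι ≫ U.hom))) := by
  haveI : MorphismProperty.ContainsIdentities (@Etale : MorphismProperty Scheme.{u}) :=
    ⟨fun X => (inferInstance : Etale (𝟙 X))⟩
  haveI : MorphismProperty.ContainsIdentities (@Surjective : MorphismProperty Scheme.{u}) :=
    ⟨fun X => (inferInstance : Surjective (𝟙 X))⟩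
  constructor
  · intro T φ hφ
    refine (AlgSp.RepWith @Etale).comp_mem _ _ hφ ((AlgSp.RepWith @Etale).comp_mem _ _ ?_ ha)
    exact (AlgSp.repWith_yon_map_iff @Etale _).2 (show Etale W.ι from inferInstance)
  · exact ⟨Over.mk (W.ι ≫ U.hom), 𝟙 _, AlgSp.repWith_id _ _, AlgSp.repWith_id _ _,
      isCompact_iff_compactSpace.1 hW⟩

theorem locFinIrr_of_forall_irreducibleComponents {X : AlgSp.Sp S} (hX : AlgSp.IsAlgSpace X)
    (H : ∀ (Y : AlgSp.Sp S), AlgSp.IsAlgSpace Y → ∀ g : Y ⟶ X, AlgSp.IsEtaleMor g →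
      AlgSp.IsQuasiCompactSp Y → (irreducibleComponents (AlgSp.Points Y)).Finite) :
    AlgSp.EtaleLocally LocFinIrr X := by
  obtain ⟨U, a, hae, has⟩ := hX.atlas
  refine ⟨U, a, hae, has, fun W hW => ?_⟩
  obtain ⟨h1, h2⟩ := etale_qc_of_opens a hae W hW
  have h3 := H _ (AlgSp.IsAlgSpace.yon_obj _) _ h1 h2
  exact finite_irreducibleComponents_of_surjective
    (AlgSp.Points.schemeHomeo (Over.mk (W.ι ≫ U.hom))).symm
    (AlgSp.Points.schemeHomeo _).symm.continuous (AlgSp.Points.schemeHomeo _).symm.surjective h3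

theorem locFinIrr_of_forall_codimZero {X : AlgSp.Sp S} (hX : AlgSp.IsAlgSpace X)
    (H : ∀ (Y : AlgSp.Sp S), AlgSp.IsAlgSpace Y → ∀ g : Y ⟶ X, AlgSp.IsEtaleMor g →
      AlgSp.IsQuasiCompactSp Y → {y : AlgSp.Points Y |
        AlgSp.HasAt (fun U u => ringKrullDim ↥(U.presheaf.stalk u) = 0) Y y}.Finite) :
    AlgSp.EtaleLocally LocFinIrr X := by
  haveI : MorphismProperty.ContainsIdentities (@Etale : MorphismProperty Scheme.{u}) :=
    ⟨fun X => (inferInstance : Etale (𝟙 X))⟩
  obtain ⟨U, a, hae, has⟩ := hX.atlas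
  refine ⟨U, a, hae, has, fun W hW => ?_⟩
  obtain ⟨h1, h2⟩ := etale_qc_of_opens a hae W hW
  have h3 := H _ (AlgSp.IsAlgSpace.yon_obj _) _ h1 h2
  have h4 : (genericPoints ↥W.toScheme).Finite := by
    refine Set.Finite.of_finite_image (f := AlgSp.Points.ofScheme (Over.mk (W.ι ≫ U.hom)))
      (h3.subset ?_) ((AlgSp.Points.schemeEquiv _).injective.injOn)
    rintro _ ⟨w, hw, rfl⟩
    exact ⟨Over.mk (W.ι ≫ U.hom), 𝟙 _, w, AlgSp.repWith_id _ _, rfl,
      (ringKrullDim_stalk_eq_zero_iff (Y := W.toScheme) w).2 hw⟩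
  exact finite_irreducibleComponents_of_finite_genericPoints (α := ↥W.toScheme) h4

end Groth.Agent.Lib.T2H1.IrrFlat
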