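import Mathlib
import Groth.Prelude.Def_AlgSp
import Groth.Agent.S9873
import Groth.Agent.S13210

set_option autoImplicit false
universe u
open CategoryTheory CategoryTheory.Limits AlgebraicGeometry Opposite

namespace Groth.Agent.Lib.T2H1.JInv

open Groth.Agent.S13210 (yEquiv yEquiv_comp yEquiv_symm_comp isPullback_of_yon)

variable {S S' : Scheme.{u}} (g : S ⟶ S')

/-- `j⁻¹`. -/
noncomputable abbrev jinv : AlgSp.Sp S' ⥤ AlgSp.Sp S :=
  Scheme.fppfTopology.overMapPullback (Type (u + 1)) g

/-- `j⁻¹ h_{X'}` is represented by `X' ×_{S'} S`. -/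
noncomputable def repr (X' : Over S') :
    ((jinv g).obj ((AlgSp.yon S').obj X')).obj.RepresentableBy (Over.mk (pullback.snd X'.hom g)) where
  homEquiv {T} := ((Over.mapPullbackAdj g).homEquiv T X').symm.trans Equiv.ulift.symm
  homEquiv_comp {T T'} f h := by
    change Equiv.ulift.symm (((Over.mapPullbackAdj g).homEquiv T X').symm (f ≫ h)) = _
    rw [Adjunction.homEquiv_naturality_left_symm]
    rfl

/-- the base change `X' ×_{S'} S` as a scheme over `S`. -/
noncomputable abbrev pb (X' : Over S') : Over S := Over.mk (pullback.snd X'.hom g)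

/-- `h_{X' ×_{S'} S} ≅ j⁻¹ h_{X'}`. -/
noncomputable def ι (X' : Over S') : (AlgSp.yon S).obj (pb g X') ≅ (jinv g).obj ((AlgSp.yon S').obj X') :=
  AlgSp.isoOfRepresentableBy (repr g X')

/-- the projection `X' ×_{S'} S ⟶ X'` over `S'`. -/
noncomputable abbrev cu (X' : Over S') : (Over.map g).obj (pb g X') ⟶ X' :=
  Over.homMk (pullback.fst X'.hom g) (by simp [pullback.condition])

/-- transposition of points of `j⁻¹ F'`. -/
noncomputable def tr (T : Over S) (F' : AlgSp.Sp S') :
    ((AlgSp.yon S).obj T ⟶ (jinv g).obj F') ≃ ((AlgSp.yon S').obj ((Over.map g).obj T) ⟶ F') :=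
  (yEquiv T ((jinv g).obj F')).trans (yEquiv ((Over.map g).obj T) F').symm

lemma tr_comp_map {T : Over S} {F' G' : AlgSp.Sp S'} (a : (AlgSp.yon S).obj T ⟶ (jinv g).obj F')
    (m : F' ⟶ G') : tr g T G' (a ≫ (jinv g).map m) = tr g T F' a ≫ m := by
  apply (yEquiv ((Over.map g).obj T) G').injective
  rw [yEquiv_comp (tr g T F' a) m]
  simp only [tr, Equiv.trans_apply, Equiv.apply_symm_apply]
  rw [yEquiv_comp a ((jinv g).map m)]
  erw [Equiv.apply_symm_apply, Equiv.apply_symm_apply]
  rfl

lemma tr_map_comp {T1 T : Over S} {F' : AlgSp.Sp S'} (c : T1 ⟶ T)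
    (a : (AlgSp.yon S).obj T ⟶ (jinv g).obj F') :
    tr g T1 F' ((AlgSp.yon S).map c ≫ a) = (AlgSp.yon S').map ((Over.map g).map c) ≫ tr g T F' a := by
  apply (yEquiv ((Over.map g).obj T1) F').injective
  simp only [tr, Equiv.trans_apply, Equiv.apply_symm_apply]
  have h1 := (AlgSp.J S).uliftYonedaEquiv_naturality a c
  have h2 := (AlgSp.J S').uliftYonedaEquiv_naturality
    ((yEquiv ((Over.map g).obj T) F').symm (yEquiv T ((jinv g).obj F') a)) ((Over.map g).map c)
  erw [← h2, ← h1]
  simp only [yEquiv, Equiv.apply_symm_apply]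
  erw [Equiv.apply_symm_apply]
  rfl

lemma tr_ι (X' : Over S') : tr g _ _ (ι g X').hom = (AlgSp.yon S').map (cu g X') := by
  apply (yEquiv _ _).injective
  simp only [tr, Equiv.trans_apply, Equiv.apply_symm_apply]
  erw [(AlgSp.J S').uliftYonedaEquiv_uliftYoneda_map]

/-- the key transfer: if `p : h_{U'} ⟶ F'` is representable with `P`, so is `h_{U' ×_{S'} S} ≅ j⁻¹ h_{U'} ⟶ j⁻¹ F'`. -/
theorem repWith_jinv (P : MorphismProperty Scheme.{u}) [P.IsStableUnderBaseChange]
    {U' : Over S'} {F' : AlgSp.Sp S'} (p : (AlgSp.yon S').obj U' ⟶ F') (hp : AlgSp.RepWith P p) :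
    AlgSp.RepWith P ((ι g U').hom ≫ (jinv g).map p) := by
  refine MorphismProperty.relative.of_exists fun T a => ?_
  set T' := (Over.map g).obj T with hT'
  set a' : (AlgSp.yon S').obj T' ⟶ F' := tr g T F' a with ha'
  have sq' := hp.rep.isPullback a'
  set V' := hp.rep.pullback a' with hV'
  set snd' : V' ⟶ T' := hp.rep.snd a' with hsnd'
  set fst' := hp.rep.fst a' with hfst'
  obtain ⟨fst0', hfst0'⟩ := (AlgSp.yon S').map_surjective fst'
  let V : Over S := Over.mk (snd'.left ≫ T.hom)
  let snd : V ⟶ T := Over.homMk snd'.left rfl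
  have hV'hom : V'.hom = snd'.left ≫ T.hom ≫ g := by
    have := Over.w snd'
    rw [← this]; rfl
  let fst0 : V ⟶ pb g U' := Over.homMk (pullback.lift fst0'.left (snd'.left ≫ T.hom)
    (by rw [Over.w fst0', hV'hom, Category.assoc])) (pullback.lift_snd _ _ _)
  let φ : (Over.map g).obj V ⟶ V' := Over.homMk (𝟙 _) (by simp [V, hV'hom])
  have hφ1 : (Over.map g).map fst0 ≫ cu g U' = φ ≫ fst0' := by
    ext
    simp only [Over.comp_left, Over.map_map_left, Over.homMk_left, Category.id_comp, fst0, φ]
    exact pullback.lift_fst _ _ _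
  have hφ2 : (Over.map g).map snd = φ ≫ snd' := by
    ext; simp [snd, φ]
  refine ⟨V, (AlgSp.yon S).map fst0, snd, ?_, ?_⟩
  · have w : (AlgSp.yon S).map fst0 ≫ (ι g U').hom ≫ (jinv g).map p = (AlgSp.yon S).map snd ≫ a := by
      apply (tr g V F').injective
      rw [← Category.assoc, tr_comp_map, tr_map_comp, tr_ι, tr_map_comp, ← Functor.map_comp, hφ1,
        hφ2, Functor.map_comp, Functor.map_comp, Category.assoc, Category.assoc, hfst0', sq'.w]
    refine isPullback_of_yon w ?_
    intro T1 b c hbc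
    obtain ⟨b0, rfl⟩ := (AlgSp.yon S).map_surjective b
    obtain ⟨c0, rfl⟩ := (AlgSp.yon S).map_surjective c
    have hbc' : (AlgSp.yon S').map ((Over.map g).map b0 ≫ cu g U') ≫ p =
        (AlgSp.yon S').map ((Over.map g).map c0) ≫ a' := by
      have := congrArg (tr g T1 F') hbc
      rw [← Category.assoc, tr_comp_map, tr_map_comp, tr_ι, tr_map_comp, ← Functor.map_comp] at this
      exact this
    obtain ⟨l0, hl0⟩ := (AlgSp.yon S').map_surjective (sq'.lift _ _ hbc')
    have hl1 : l0 ≫ fst0' = (Over.map g).map b0 ≫ cu g U' := by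
      apply (AlgSp.yon S').map_injective
      rw [Functor.map_comp, hl0, hfst0', sq'.lift_fst]
    have hl2 : l0 ≫ snd' = (Over.map g).map c0 := by
      apply (AlgSp.yon S').map_injective
      rw [Functor.map_comp, hl0, sq'.lift_snd]
    have hl2' : l0.left ≫ snd'.left = c0.left := congrArg (fun k => k.left) hl2
    have hl1' : l0.left ≫ fst0'.left = b0.left ≫ pullback.fst U'.hom g :=
      congrArg (fun k => k.left) hl1
    let a1 : T1 ⟶ V := Over.homMk l0.left (by
      change l0.left ≫ snd'.left ≫ T.hom = T1.hom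
      rw [← Category.assoc, hl2', Over.w c0])
    refine ⟨(AlgSp.yon S).map a1, ⟨?_, ?_⟩, ?_⟩
    · rw [← Functor.map_comp]
      congr 1
      ext
      apply pullback.hom_ext
      · simp only [Over.comp_left, Over.homMk_left, Category.assoc, a1, fst0]
        rw [pullback.lift_fst, hl1']
      · simp only [Over.comp_left, Over.homMk_left, Category.assoc, a1, fst0]
        rw [pullback.lift_snd, ← Category.assoc, hl2', Over.w c0]
        exact (Over.w b0).symm
    · rw [← Functor.map_comp]
      congr 1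
      ext
      exact hl2'
    · rintro a2 ⟨h1, h2⟩
      obtain ⟨a20, rfl⟩ := (AlgSp.yon S).map_surjective a2
      congr 1
      rw [← Functor.map_comp] at h1 h2
      have h1' := (AlgSp.yon S).map_injective h1
      have h2' := (AlgSp.yon S).map_injective h2
      have e1 : (Over.map g).map a20 ≫ φ ≫ fst0' = (Over.map g).map b0 ≫ cu g U' := by
        rw [← hφ1, ← Category.assoc, ← Functor.map_comp, h1']
      have e2 : (Over.map g).map a20 ≫ φ ≫ snd' = (Over.map g).map c0 := by
        rw [← hφ2, ← Functor.map_comp, h2']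
      have : (AlgSp.yon S').map ((Over.map g).map a20 ≫ φ) = (AlgSp.yon S').map l0 := by
        apply sq'.hom_ext
        · rw [← hfst0', ← Functor.map_comp, ← Functor.map_comp, Category.assoc, e1, hl1]
        · rw [← Functor.map_comp, ← Functor.map_comp, Category.assoc, e2, hl2]
      have := congrArg (fun k => k.left) ((AlgSp.yon S').map_injective this)
      ext
      simpa [φ, a1] using this
  · exact hp.property a' fst' snd' sq'

/-- `j⁻¹` of an algebraic space is an algebraic space. -/
theorem isAlgSpace_jinv (F' : AlgSp.Space S') : AlgSp.IsAlgSpace ((jinv g).obj F'.obj) := by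
  obtain ⟨U', p, he, hs⟩ := F'.property.atlas
  exact Groth.Agent.S9873.result S ⟨(AlgSp.yon S).obj (pb g U'), AlgSp.IsAlgSpace.yon_obj _⟩
    ((jinv g).obj F'.obj) ((ι g U').hom ≫ (jinv g).map p)
    (repWith_jinv g @Etale p he) (repWith_jinv g @Surjective p hs)

end Groth.Agent.Lib.T2H1.JInv
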