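import Mathlib
import Groth.Prelude.Def_AlgSp
import Groth.Agent.Lib.T2H1JInv

set_option autoImplicit false
universe u
open CategoryTheory CategoryTheory.Limits AlgebraicGeometry Opposite

namespace Groth.Agent.Lib.T2H1.JInv

open Groth.Agent.S13210 (yEquiv yEquiv_comp yEquiv_symm_comp isPullback_of_yon)

variable {S S' : Scheme.{u}} (g : S ⟶ S')

/-- an `S'`-scheme with an `S'`-map to `S`, viewed over `S`. -/
abbrev sl {T' : Over S'} (ψ : T' ⟶ Over.mk g) : Over S := Over.mk ψ.left

/-- the comparison `(sl ψ)` over `S'` is `T'`. -/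
def slIso {T' : Over S'} (ψ : T' ⟶ Over.mk g) : (Over.map g).obj (sl g ψ) ≅ T' :=
  Over.isoMk (Iso.refl _) (by simpa using (Over.w ψ).symm)

/-- the structure map of an `S`-scheme as an `S'`-map to `S`. -/
abbrev str (T : Over S) : (Over.map g).obj T ⟶ Over.mk g := Over.homMk T.hom rfl

/-- Lemma A. -/
theorem repWith_prodLift (P : MorphismProperty Scheme.{u}) [P.IsStableUnderBaseChange]
    {U : Over S} {F' : AlgSp.Sp S'} (q : (AlgSp.yon S).obj U ⟶ (jinv g).obj F')
    (hq : AlgSp.RepWith P q) :
    AlgSp.RepWith P (prod.lift ((AlgSp.yon S').map (str g U)) (tr g U F' q) :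
      (AlgSp.yon S').obj ((Over.map g).obj U) ⟶ (AlgSp.yon S').obj (Over.mk g) ⨯ F') := by
  haveI : P.RespectsIso := MorphismProperty.IsStableUnderBaseChange.respectsIso
  refine MorphismProperty.relative.of_exists fun T' ξ => ?_
  obtain ⟨ψ, hψ⟩ := (AlgSp.yon S').map_surjective (ξ ≫ prod.fst)
  set a := ξ ≫ prod.snd with ha
  set T := sl g ψ with hT
  set aS : (AlgSp.yon S).obj T ⟶ (jinv g).obj F' :=
    (tr g T F').symm ((AlgSp.yon S').map (slIso g ψ).hom ≫ a) with haS
  have sq := hq.rep.isPullback aS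
  set V := hq.rep.pullback aS with hV
  set snd : V ⟶ T := hq.rep.snd aS with hsnd
  set fst := hq.rep.fst aS with hfst
  obtain ⟨fst0, hfst0⟩ := (AlgSp.yon S).map_surjective fst
  have hPsnd : P snd.left := hq.property aS fst snd sq
  refine ⟨(Over.map g).obj V, (AlgSp.yon S').map ((Over.map g).map fst0),
    (Over.map g).map snd ≫ (slIso g ψ).hom, ?_, ?_⟩
  · have htr : tr g T F' aS = (AlgSp.yon S').map (slIso g ψ).hom ≫ a :=
      (tr g T F').apply_symm_apply _
    have hξ : ξ = prod.lift ((AlgSp.yon S').map ψ) a := by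
      apply Limits.prod.hom_ext
      · rw [prod.lift_fst, hψ]
      · rw [prod.lift_snd]
    have hw1 : (Over.map g).map fst0 ≫ str g U = ((Over.map g).map snd ≫ (slIso g ψ).hom) ≫ ψ := by
      ext
      simp only [Over.comp_left, Over.map_map_left, Over.homMk_left, slIso, Over.isoMk_hom_left,
        Iso.refl_hom, Category.comp_id]
      rw [Over.w fst0]
      exact (Over.w snd).symm
    have hw2 : (AlgSp.yon S').map ((Over.map g).map fst0) ≫ tr g U F' q =
        (AlgSp.yon S').map ((Over.map g).map snd ≫ (slIso g ψ).hom) ≫ a := by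
      rw [← tr_map_comp, hfst0, sq.w, tr_map_comp, htr, Functor.map_comp, Category.assoc]
    have w : (AlgSp.yon S').map ((Over.map g).map fst0) ≫
        prod.lift ((AlgSp.yon S').map (str g U)) (tr g U F' q) =
        (AlgSp.yon S').map ((Over.map g).map snd ≫ (slIso g ψ).hom) ≫ ξ := by
      rw [hξ]
      apply Limits.prod.hom_ext
      · rw [Category.assoc, Category.assoc, prod.lift_fst, prod.lift_fst, ← Functor.map_comp,
          ← Functor.map_comp, hw1]
      · rw [Category.assoc, Category.assoc, prod.lift_snd, prod.lift_snd, hw2]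
    refine isPullback_of_yon w ?_
    intro T1' b c hbc
    obtain ⟨b0, rfl⟩ := (AlgSp.yon S').map_surjective b
    obtain ⟨c0, rfl⟩ := (AlgSp.yon S').map_surjective c
    rw [hξ] at hbc
    have hbc1 : b0 ≫ str g U = c0 ≫ ψ := by
      apply (AlgSp.yon S').map_injective
      have := congrArg (fun k => k ≫ prod.fst) hbc
      simp only [Category.assoc, prod.lift_fst] at this
      rw [Functor.map_comp, Functor.map_comp]
      exact this
    have hbc2 : (AlgSp.yon S').map b0 ≫ tr g U F' q = (AlgSp.yon S').map c0 ≫ a := by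
      have := congrArg (fun k => k ≫ prod.snd) hbc
      simp only [Category.assoc, prod.lift_snd] at this
      exact this
    set ψ1 : T1' ⟶ Over.mk g := c0 ≫ ψ with hψ1
    let T1 : Over S := sl g ψ1
    let b0S : T1 ⟶ U := Over.homMk b0.left (by
      have := congrArg (fun k => k.left) hbc1
      exact this)
    let c0S : T1 ⟶ T := Over.homMk c0.left rfl
    have hb0S : (Over.map g).map b0S = (slIso g ψ1).hom ≫ b0 := by
      ext
      simp only [Over.map_map_left, Over.homMk_left, Over.comp_left, slIso, Over.isoMk_hom_left,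
        Iso.refl_hom, b0S]
      exact (Category.id_comp _).symm
    have hc0S : (Over.map g).map c0S ≫ (slIso g ψ).hom = (slIso g ψ1).hom ≫ c0 := by
      ext
      simp only [Over.map_map_left, Over.homMk_left, Over.comp_left, slIso, Over.isoMk_hom_left,
        Iso.refl_hom, c0S]
      exact (Category.comp_id _).trans (Category.id_comp _).symm
    have hcomm : (AlgSp.yon S).map b0S ≫ q = (AlgSp.yon S).map c0S ≫ aS := by
      apply (tr g T1 F').injective
      rw [tr_map_comp, tr_map_comp, htr, hb0S, Functor.map_comp,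
        Category.assoc, hbc2, ← Category.assoc, ← Functor.map_comp, ← hc0S]
      simp only [Functor.map_comp, Category.assoc]
    obtain ⟨l0, hl0⟩ := (AlgSp.yon S).map_surjective (sq.lift _ _ hcomm)
    have hl1 : l0 ≫ fst0 = b0S := by
      apply (AlgSp.yon S).map_injective
      rw [Functor.map_comp, hl0, hfst0, sq.lift_fst]
    have hl2 : l0 ≫ snd = c0S := by
      apply (AlgSp.yon S).map_injective
      rw [Functor.map_comp, hl0, sq.lift_snd]
    refine ⟨(AlgSp.yon S').map ((slIso g ψ1).inv ≫ (Over.map g).map l0), ⟨?_, ?_⟩, ?_⟩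
    · rw [← Functor.map_comp, Category.assoc, ← Functor.map_comp, hl1, hb0S, Iso.inv_hom_id_assoc]
    · rw [← Functor.map_comp, Category.assoc, ← Category.assoc ((Over.map g).map l0),
        ← Functor.map_comp, hl2, hc0S, Iso.inv_hom_id_assoc]
    · rintro a2 ⟨h1, h2⟩
      obtain ⟨a20, rfl⟩ := (AlgSp.yon S').map_surjective a2
      congr 1
      rw [← Functor.map_comp] at h1 h2
      have h1' := congrArg (fun k => k.left) ((AlgSp.yon S').map_injective h1)
      have h2' := congrArg (fun k => k.left) ((AlgSp.yon S').map_injective h2)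
      simp only [Over.comp_left, Over.map_map_left, slIso, Over.isoMk_hom_left, Iso.refl_hom,
        Category.comp_id] at h1' h2'
      erw [Category.comp_id] at h2'
      let l2 : T1 ⟶ V := Over.homMk a20.left (by
        change a20.left ≫ V.hom = (c0 ≫ ψ).left
        rw [← Over.w snd, ← Category.assoc, h2']
        rfl)
      have e1 : l2 ≫ fst0 = b0S := by
        ext; exact h1'
      have e2 : l2 ≫ snd = c0S := by
        ext; exact h2'
      have : (AlgSp.yon S).map l2 = (AlgSp.yon S).map l0 := by
        apply sq.hom_ext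
        · rw [← hfst0, ← Functor.map_comp, ← Functor.map_comp, e1, hl1]
        · rw [← Functor.map_comp, ← Functor.map_comp, e2, hl2]
      have := congrArg (fun k => k.left) ((AlgSp.yon S).map_injective this)
      ext
      simpa [l2, slIso] using this
  · change P (snd.left ≫ 𝟙 _)
    rw [Category.comp_id]
    exact hPsnd

/-- Lemma B. -/
theorem repWith_of_prod (P : MorphismProperty Scheme.{u}) [P.IsStableUnderBaseChange]
    {U' : Over S'} {F' : AlgSp.Sp S'}
    (p : (AlgSp.yon S').obj U' ⟶ (AlgSp.yon S').obj (Over.mk g) ⨯ F') (hp : AlgSp.RepWith P p)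
    (φ : U' ⟶ Over.mk g) (hφ : (AlgSp.yon S').map φ = p ≫ prod.fst) :
    AlgSp.RepWith P ((tr g (sl g φ) F').symm ((AlgSp.yon S').map (slIso g φ).hom ≫ p ≫ prod.snd)) := by
  haveI : P.RespectsIso := MorphismProperty.IsStableUnderBaseChange.respectsIso
  refine MorphismProperty.relative.of_exists fun T a => ?_
  set q := (tr g (sl g φ) F').symm ((AlgSp.yon S').map (slIso g φ).hom ≫ p ≫ prod.snd) with hq
  have htr : tr g (sl g φ) F' q = (AlgSp.yon S').map (slIso g φ).hom ≫ p ≫ prod.snd :=
    (tr g (sl g φ) F').apply_symm_apply _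
  set T' := (Over.map g).obj T with hT'
  set a' : (AlgSp.yon S').obj T' ⟶ F' := tr g T F' a with ha'
  set ξ : (AlgSp.yon S').obj T' ⟶ (AlgSp.yon S').obj (Over.mk g) ⨯ F' :=
    prod.lift ((AlgSp.yon S').map (str g T)) a' with hξ
  have sq' := hp.rep.isPullback ξ
  set V' := hp.rep.pullback ξ with hV'
  set snd' : V' ⟶ T' := hp.rep.snd ξ with hsnd'
  set fst' := hp.rep.fst ξ with hfst'
  obtain ⟨fst0', hfst0'⟩ := (AlgSp.yon S').map_surjective fst'
  have hPsnd : P snd'.left := hp.property ξ fst' snd' sq'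
  have hw1' : fst0' ≫ φ = snd' ≫ str g T := by
    apply (AlgSp.yon S').map_injective
    have := congrArg (fun k => k ≫ prod.fst) sq'.w
    simp only [Category.assoc, hξ, prod.lift_fst] at this
    rw [Functor.map_comp, Functor.map_comp, hφ, hfst0']
    exact this
  have hw2' : (AlgSp.yon S').map fst0' ≫ p ≫ prod.snd = (AlgSp.yon S').map snd' ≫ a' := by
    have := congrArg (fun k => k ≫ prod.snd) sq'.w
    simp only [Category.assoc, hξ, prod.lift_snd] at this
    rw [hfst0']
    exact this
  let V : Over S := Over.mk (snd'.left ≫ T.hom)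
  let snd : V ⟶ T := Over.homMk snd'.left rfl
  let fst0 : V ⟶ sl g φ := Over.homMk fst0'.left (congrArg (fun k => k.left) hw1')
  have hV'hom : V'.hom = snd'.left ≫ T.hom ≫ g := by
    have := Over.w snd'
    rw [← this]; rfl
  let φV : (Over.map g).obj V ⟶ V' := Over.homMk (𝟙 _) (by simp [V, hV'hom])
  have hφ1 : (Over.map g).map fst0 ≫ (slIso g φ).hom = φV ≫ fst0' := by
    ext
    simp only [Over.comp_left, Over.map_map_left, Over.homMk_left, slIso, Over.isoMk_hom_left,
      Iso.refl_hom, fst0, φV]
    exact (Category.comp_id _).trans (Category.id_comp _).symm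
  have hφ2 : (Over.map g).map snd = φV ≫ snd' := by
    ext; simp [snd, φV]
  refine ⟨V, (AlgSp.yon S).map fst0, snd, ?_, hPsnd⟩
  have w : (AlgSp.yon S).map fst0 ≫ q = (AlgSp.yon S).map snd ≫ a := by
    apply (tr g V F').injective
    rw [tr_map_comp, tr_map_comp, htr, ← Category.assoc, ← Functor.map_comp, hφ1, hφ2,
      Functor.map_comp, Functor.map_comp, Category.assoc, Category.assoc, hw2']
  refine isPullback_of_yon w ?_
  intro T1 b c hbc
  obtain ⟨b0, rfl⟩ := (AlgSp.yon S).map_surjective b
  obtain ⟨c0, rfl⟩ := (AlgSp.yon S).map_surjective c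
  set b0' : (Over.map g).obj T1 ⟶ U' := (Over.map g).map b0 ≫ (slIso g φ).hom with hb0'
  set c0' : (Over.map g).obj T1 ⟶ T' := (Over.map g).map c0 with hc0'
  have hbc2 : (AlgSp.yon S').map b0' ≫ p ≫ prod.snd = (AlgSp.yon S').map c0' ≫ a' := by
    have := congrArg (tr g T1 F') hbc
    rw [tr_map_comp, tr_map_comp, htr, ← Category.assoc, ← Functor.map_comp] at this
    exact this
  have hbc1 : b0' ≫ φ = c0' ≫ str g T := by
    ext
    simp only [Over.comp_left, Over.map_map_left, Over.homMk_left, slIso, Over.isoMk_hom_left,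
      Iso.refl_hom, b0', c0', Category.assoc]
    erw [Category.id_comp]
    rw [Over.w c0]
    exact Over.w b0
  have hcomm : (AlgSp.yon S').map b0' ≫ p = (AlgSp.yon S').map c0' ≫ ξ := by
    apply Limits.prod.hom_ext
    · rw [Category.assoc, Category.assoc, hξ, prod.lift_fst, ← hφ, ← Functor.map_comp,
        ← Functor.map_comp, hbc1]
    · rw [Category.assoc, Category.assoc, hξ, prod.lift_snd, hbc2]
  obtain ⟨l0, hl0⟩ := (AlgSp.yon S').map_surjective (sq'.lift _ _ hcomm)
  have hl1 : l0 ≫ fst0' = b0' := by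
    apply (AlgSp.yon S').map_injective
    rw [Functor.map_comp, hl0, hfst0', sq'.lift_fst]
  have hl2 : l0 ≫ snd' = c0' := by
    apply (AlgSp.yon S').map_injective
    rw [Functor.map_comp, hl0, sq'.lift_snd]
  have hl1' : l0.left ≫ fst0'.left = b0.left := by
    have := congrArg (fun k => k.left) hl1
    simp only [Over.comp_left, Over.map_map_left, slIso, Over.isoMk_hom_left, Iso.refl_hom,
      b0'] at this
    erw [Category.comp_id] at this
    exact this
  have hl2' : l0.left ≫ snd'.left = c0.left := congrArg (fun k => k.left) hl2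
  let a1 : T1 ⟶ V := Over.homMk l0.left (by
    change l0.left ≫ snd'.left ≫ T.hom = T1.hom
    rw [← Category.assoc, hl2', Over.w c0])
  refine ⟨(AlgSp.yon S).map a1, ⟨?_, ?_⟩, ?_⟩
  · rw [← Functor.map_comp]
    congr 1
    ext
    exact hl1'
  · rw [← Functor.map_comp]
    congr 1
    ext
    exact hl2'
  · rintro a2 ⟨h1, h2⟩
    obtain ⟨a20, rfl⟩ := (AlgSp.yon S).map_surjective a2
    congr 1
    rw [← Functor.map_comp] at h1 h2
    have h1' := (AlgSp.yon S).map_injective h1
    have h2' := (AlgSp.yon S).map_injective h2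
    have e1 : ((Over.map g).map a20 ≫ φV) ≫ fst0' = b0' := by
      rw [Category.assoc, ← hφ1, ← Category.assoc, ← Functor.map_comp, h1']
    have e2 : ((Over.map g).map a20 ≫ φV) ≫ snd' = c0' := by
      rw [Category.assoc, ← hφ2, ← Functor.map_comp, h2']
    have : (AlgSp.yon S').map ((Over.map g).map a20 ≫ φV) = (AlgSp.yon S').map l0 := by
      apply sq'.hom_ext
      · rw [← hfst0', ← Functor.map_comp, ← Functor.map_comp, e1, hl1]
      · rw [← Functor.map_comp, ← Functor.map_comp, e2, hl2]
    have := congrArg (fun k => k.left) ((AlgSp.yon S').map_injective this)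
    ext
    simpa [φV, a1] using this

/-- `j⁻¹ F'` is an algebraic space over `S` iff `h_S × F'` is an algebraic space over `S'`. -/
theorem isAlgSpace_jinv_iff (F' : AlgSp.Sp S') :
    AlgSp.IsAlgSpace ((jinv g).obj F') ↔
      AlgSp.IsAlgSpace ((AlgSp.yon S').obj (Over.mk g) ⨯ F') := by
  constructor
  · intro h
    obtain ⟨U, q, he, hs⟩ := h.atlas
    exact Groth.Agent.S9873.result S'
      ⟨(AlgSp.yon S').obj ((Over.map g).obj U), AlgSp.IsAlgSpace.yon_obj _⟩ _ _
      (repWith_prodLift g @Etale q he) (repWith_prodLift g @Surjective q hs)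
  · intro h
    obtain ⟨U', p, he, hs⟩ := h.atlas
    obtain ⟨φ, hφ⟩ := (AlgSp.yon S').map_surjective (p ≫ prod.fst)
    exact Groth.Agent.S9873.result S
      ⟨(AlgSp.yon S).obj (sl g φ), AlgSp.IsAlgSpace.yon_obj _⟩ _ _
      (repWith_of_prod g @Etale p he φ hφ) (repWith_of_prod g @Surjective p hs φ hφ)

end Groth.Agent.Lib.T2H1.JInv
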