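import Mathlib
import Groth.Prelude.Def_AlgSp
import Groth.Agent.Lib.T2H1JInv
import Groth.Agent.Lib.T2H1RepIso
import Groth.Agent.S9872
import Groth.Agent.S9868

set_option autoImplicit false
universe u
open CategoryTheory CategoryTheory.Limits AlgebraicGeometry Opposite

namespace Groth.Agent.Lib.T2H1.JInv

open Groth.Agent.S13210 (yEquiv yEquiv_comp yEquiv_symm_comp isPullback_of_yon)

variable {S S' : Scheme.{u}} (g : S ⟶ S')

/-- `j_!`. -/
noncomputable abbrev jsh : AlgSp.Sp S ⥤ AlgSp.Sp S' :=
  (Over.map g).sheafPullback (Type (u + 1)) (AlgSp.J S) (AlgSp.J S')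

/-- `j_! ⊣ j⁻¹`. -/
noncomputable def jadj : jsh g ⊣ jinv g :=
  (Over.map g).sheafAdjunctionContinuous (Type (u + 1)) (AlgSp.J S) (AlgSp.J S')

/-- the canonical map `h_{T over S'} ⟶ j_! F` attached to `a : h_T ⟶ F`. -/
noncomputable def sh {T : Over S} {F : AlgSp.Sp S} (a : (AlgSp.yon S).obj T ⟶ F) :
    (AlgSp.yon S').obj ((Over.map g).obj T) ⟶ (jsh g).obj F :=
  tr g T _ (a ≫ (jadj g).unit.app F)

lemma sh_comp {T : Over S} {F : AlgSp.Sp S} (a : (AlgSp.yon S).obj T ⟶ F) {G' : AlgSp.Sp S'}
    (m : (jsh g).obj F ⟶ G') :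
    sh g a ≫ m = tr g T G' (a ≫ (jadj g).homEquiv F G' m) := by
  unfold sh
  rw [← tr_comp_map, Category.assoc, Adjunction.homEquiv_unit]

lemma map_sh {T1 T : Over S} {F : AlgSp.Sp S} (c : T1 ⟶ T) (a : (AlgSp.yon S).obj T ⟶ F) :
    (AlgSp.yon S').map ((Over.map g).map c) ≫ sh g a = sh g ((AlgSp.yon S).map c ≫ a) := by
  unfold sh
  rw [← tr_map_comp, Category.assoc]

/-- `h_{X over S'} ≅ j_! h_X`. -/
noncomputable def shIso (X : Over S) :
    (AlgSp.yon S').obj ((Over.map g).obj X) ≅ (jsh g).obj ((AlgSp.yon S).obj X) where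
  hom := sh g (𝟙 _)
  inv := ((jadj g).homEquiv _ _).symm ((tr g X _).symm (𝟙 _))
  hom_inv_id := by
    rw [sh_comp, Equiv.apply_symm_apply, Category.id_comp, Equiv.apply_symm_apply]
  inv_hom_id := by
    apply ((jadj g).homEquiv _ _).injective
    rw [Adjunction.homEquiv_naturality_right, Equiv.apply_symm_apply]
    apply (tr g X _).injective
    rw [tr_comp_map, Equiv.apply_symm_apply, Category.id_comp, Adjunction.homEquiv_unit,
      CategoryTheory.Functor.map_id]
    erw [Category.comp_id]
    unfold sh
    rw [Category.id_comp]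

/-- Part 1: `j_! h_X` is represented by `X` viewed over `S'`. -/
noncomputable def reprSh (X : Over S) :
    ((jsh g).obj ((AlgSp.yon S).obj X)).obj.RepresentableBy ((Over.map g).obj X) :=
  AlgSp.representableByOfIso (shIso g X)

/-- an étale equivalence relation over `S` is one over `S'`. -/
theorem isEtaleEqvRel_map {R U : Over S} {s t : R ⟶ U} (h : AlgSp.IsEtaleEqvRel s t) :
    AlgSp.IsEtaleEqvRel ((Over.map g).map s) ((Over.map g).map t) := by
  -- lifting a point of `R'` to a point of `R` over `S`
  have hRs : R.hom = s.left ≫ U.hom := (Over.w s).symm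
  have hRt : R.hom = t.left ≫ U.hom := (Over.w t).symm
  refine ⟨⟨?_, ?_⟩, h.etale_left, h.etale_right⟩
  · intro T' r r' h1 h2
    have h1' : r.left ≫ t.left = r'.left ≫ t.left := congrArg (fun k => k.left) h1
    have h2' : r.left ≫ s.left = r'.left ≫ s.left := congrArg (fun k => k.left) h2
    let T : Over S := Over.mk (r.left ≫ R.hom)
    let rS : T ⟶ R := Over.homMk r.left rfl
    let rS' : T ⟶ R := Over.homMk r'.left (by
      change r'.left ≫ R.hom = r.left ≫ R.hom
      rw [hRt, ← Category.assoc, ← h1', Category.assoc])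
    have := h.injective T rS rS' (by ext; exact h1') (by ext; exact h2')
    ext
    exact congrArg (fun k => k.left) this
  · intro T'
    have key : ∀ (ψ : T'.left ⟶ S) (a b : T' ⟶ (Over.map g).obj U) (ea : a.left ≫ U.hom = ψ)
        (eb : b.left ≫ U.hom = ψ),
        (∃ r : T' ⟶ (Over.map g).obj R, r ≫ (Over.map g).map t = a ∧ r ≫ (Over.map g).map s = b) ↔
        (∃ rS : Over.mk ψ ⟶ R,
          rS ≫ t = (Over.homMk a.left ea : Over.mk ψ ⟶ U) ∧
          rS ≫ s = (Over.homMk b.left eb : Over.mk ψ ⟶ U)) := by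
      intro ψ a b ea eb
      constructor
      · rintro ⟨r, h1, h2⟩
        have h1' : r.left ≫ t.left = a.left := congrArg (fun k => k.left) h1
        have h2' : r.left ≫ s.left = b.left := congrArg (fun k => k.left) h2
        refine ⟨Over.homMk r.left ?_, ?_, ?_⟩
        · change r.left ≫ R.hom = ψ
          rw [hRt, ← Category.assoc, h1', ea]
        · ext; exact h1'
        · ext; exact h2'
      · rintro ⟨rS, h1, h2⟩
        have h1' : rS.left ≫ t.left = a.left := congrArg (fun k => k.left) h1
        have h2' : rS.left ≫ s.left = b.left := congrArg (fun k => k.left) h2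
        refine ⟨Over.homMk rS.left ?_, ?_, ?_⟩
        · change rS.left ≫ R.hom ≫ g = T'.hom
          have := Over.w rS
          have ha := Over.w a
          change rS.left ≫ R.hom = ψ at this
          change a.left ≫ U.hom ≫ g = T'.hom at ha
          rw [← Category.assoc, this, ← ea, Category.assoc, ha]
        · ext; exact h1'
        · ext; exact h2'
    have hψ : ∀ (a b : T' ⟶ (Over.map g).obj U),
        (∃ r : T' ⟶ (Over.map g).obj R, r ≫ (Over.map g).map t = a ∧ r ≫ (Over.map g).map s = b) →
        a.left ≫ U.hom = b.left ≫ U.hom := by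
      rintro a b ⟨r, h1, h2⟩
      have h1' : r.left ≫ t.left = a.left := congrArg (fun k => k.left) h1
      have h2' : r.left ≫ s.left = b.left := congrArg (fun k => k.left) h2
      rw [← h1', ← h2', Category.assoc, Category.assoc, ← hRt, ← hRs]
    refine ⟨?_, ?_, ?_⟩
    · intro a
      rw [key _ a a rfl rfl]
      exact (h.equivalence _).refl _
    · intro a b hab
      have e := hψ a b hab
      rw [key _ b a e.symm rfl]
      exact (h.equivalence _).symm ((key _ a b rfl e.symm).1 hab)
    · intro a b c hab hbc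
      have e1 := hψ a b hab
      have e2 := hψ b c hbc
      rw [key _ a c rfl (e1.trans e2).symm]
      exact (h.equivalence _).trans ((key _ a b rfl e1.symm).1 hab)
        ((key _ b c e1.symm (e1.trans e2).symm).1 hbc)

open Groth.Agent.Lib.T2H1.RepIso in
/-- Part 2: `j_!` of an algebraic space is an algebraic space. -/
theorem isAlgSpace_jsh (F : AlgSp.Space S) : AlgSp.IsAlgSpace ((jsh g).obj F.obj) := by
  obtain ⟨U, p, he, hs⟩ := F.property.atlas
  have sq0 := he.rep.isPullback p
  set R := he.rep.pullback p with hR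
  set s : R ⟶ U := he.rep.snd p with hs'
  obtain ⟨t, ht⟩ := (AlgSp.yon S).map_surjective (he.rep.fst p)
  have sq : IsPullback ((AlgSp.yon S).map t) ((AlgSp.yon S).map s) p p := by
    rw [ht]; exact sq0
  obtain ⟨hRel, ⟨hc⟩⟩ := Groth.Agent.S9872.result S F.obj F.property p he hs s t sq
  have hRel' := isEtaleEqvRel_map g hRel
  have hq := Groth.Agent.S9868.result S' ((Over.map g).map s) ((Over.map g).map t) hRel'
  let π' : QuotSh.rep Scheme.fppfPrecoverage ((Over.map g).obj U) ⟶ (jsh g).obj F.obj :=
    (QuotSh.repIsoUliftYoneda Scheme.fppfPrecoverage ((Over.map g).obj U)).hom ≫ sh g p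
  have w' : QuotSh.repMap Scheme.fppfPrecoverage ((Over.map g).map s) ≫ π' =
      QuotSh.repMap Scheme.fppfPrecoverage ((Over.map g).map t) ≫ π' := by
    simp only [π']
    rw [← Category.assoc, repIso_hom_naturality, Category.assoc, map_sh, ← Category.assoc,
      repIso_hom_naturality, Category.assoc, map_sh, sq.w]
  have hc' : IsColimit (Cofork.ofπ π' w') := by
    have hcond : ∀ (c : Cofork (QuotSh.repMap Scheme.fppfPrecoverage ((Over.map g).map s))
        (QuotSh.repMap Scheme.fppfPrecoverage ((Over.map g).map t))),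
        (AlgSp.yon S).map t ≫ (tr g U c.pt).symm
          ((QuotSh.repIsoUliftYoneda Scheme.fppfPrecoverage ((Over.map g).obj U)).inv ≫ c.π) =
        (AlgSp.yon S).map s ≫ (tr g U c.pt).symm
          ((QuotSh.repIsoUliftYoneda Scheme.fppfPrecoverage ((Over.map g).obj U)).inv ≫ c.π) := by
      intro c
      apply (tr g R c.pt).injective
      rw [tr_map_comp, tr_map_comp, Equiv.apply_symm_apply, ← Category.assoc, ← Category.assoc,
        ← repIso_inv_naturality, ← repIso_inv_naturality, Category.assoc, Category.assoc,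
        c.condition]
    refine Cofork.IsColimit.mk _
      (fun c => ((jadj g).homEquiv _ _).symm (hc.desc (Cofork.ofπ _ (hcond c)))) ?_ ?_
    · intro c
      have h1 : p ≫ hc.desc (Cofork.ofπ _ (hcond c)) = _ :=
        Cofork.IsColimit.π_desc hc
      change π' ≫ _ = c.π
      simp only [π']
      rw [Category.assoc, sh_comp, Equiv.apply_symm_apply, h1]
      change _ ≫ (tr g U c.pt) ((tr g U c.pt).symm _) = _
      rw [Equiv.apply_symm_apply, Iso.hom_inv_id_assoc]
    · intro c m hm
      apply ((jadj g).homEquiv _ _).injective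
      rw [Equiv.apply_symm_apply]
      apply Cofork.IsColimit.hom_ext hc
      have h1 : p ≫ hc.desc (Cofork.ofπ _ (hcond c)) = _ :=
        Cofork.IsColimit.π_desc hc
      change p ≫ _ = p ≫ _
      rw [h1]
      apply (tr g U c.pt).injective
      change _ = (tr g U c.pt) ((tr g U c.pt).symm _)
      rw [Equiv.apply_symm_apply, ← sh_comp]
      have hm' : π' ≫ m = c.π := hm
      rw [← hm']
      simp only [π']
      rw [Category.assoc, Iso.inv_hom_id_assoc]
  exact hq.of_iso (IsColimit.coconePointUniqueUpToIso (colimit.isColimit _) hc')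

end Groth.Agent.Lib.T2H1.JInv
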