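import Mathlib
import Groth.Prelude.Def_AlgSp4
import Groth.Prelude.Def_AlgSpDec
import Groth.Agent.S10555
import Groth.Agent.S10176
import Groth.Agent.S10177
import Groth.Agent.Lib.Helper14FtPts

/-! # The Jacobson property descends along étale surjective morphisms (helper1, team 2) -/

set_option autoImplicit false
universe u
open CategoryTheory CategoryTheory.Limits AlgebraicGeometry

namespace Groth.Agent.Lib.T2H1.JacobsonDesc

open Groth.Agent.Lib.Helper14

/-- the image of a closed point of a Jacobson scheme under an étale morphism is a finite type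
point. -/
theorem ftPoint_image_of_isClosed {Y' Y : Scheme.{u}} (f : Y' ⟶ Y) [LocallyOfFiniteType f]
    (y' : Y') (hy' : IsClosed ({y'} : Set Y')) :
    LocallyOfFiniteType (Y.fromSpecResidueField (f y')) := by
  haveI : IsClosedImmersion (Y'.fromSpecResidueField y') :=
    isClosed_singleton_iff_isClosedImmersion.mp hy'
  haveI : LocallyOfFiniteType (Y'.fromSpecResidueField y' ≫ f) := inferInstance
  obtain ⟨U, -, hu, hc⟩ := exists_affineOpen_isClosed_of_locallyOfFiniteType Y
    (Y'.residueField y') (Y'.fromSpecResidueField y' ≫ f) (IsLocalRing.closedPoint _)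
  have e : (Y'.fromSpecResidueField y' ≫ f) (IsLocalRing.closedPoint _) = f y' := by
    rw [Scheme.Hom.comp_apply]
    congr 1
    exact Scheme.fromSpecResidueField_apply _ _
  have h := ftPoint_of_isClosed_in_open Y U _ hu hc
  rwa [e] at h

/-- **the Jacobson property descends along étale surjective morphisms.** -/
theorem jacobsonSpace_of_etale_surjective {Y' Y : Scheme.{u}} (f : Y' ⟶ Y) [Etale f]
    [Surjective f] [JacobsonSpace Y'] : JacobsonSpace Y := by
  haveI : LocallyQuasiFinite f := Groth.Agent.S10555.lqf_of_etale f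
  rw [jacobsonSpace_iff_locallyClosed]
  intro Z hZne hZ
  have hZ' : IsLocallyClosed (f ⁻¹' Z) := hZ.preimage f.continuous
  obtain ⟨z, hz⟩ := hZne
  obtain ⟨z', rfl⟩ := f.surjective z
  obtain ⟨y', hy'Z, hy'c⟩ :=
    (jacobsonSpace_iff_locallyClosed.mp ‹JacobsonSpace Y'›) (f ⁻¹' Z) ⟨z', hz⟩ hZ'
  refine ⟨f y', hy'Z, ?_⟩
  have hy'c' : IsClosed ({y'} : Set Y') := hy'c
  have hft := ftPoint_image_of_isClosed f y' hy'c'
  show IsClosed ({f y'} : Set Y)
  refine isClosed_of_closure_subset (fun y₁ hy₁ => ?_)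
  have hsp : f y' ⤳ y₁ := specializes_iff_mem_closure.mpr hy₁
  obtain ⟨y₁', rfl⟩ := f.surjective y₁
  obtain ⟨y'', hy''s, hy''f⟩ := (Flat.generalizingMap (f := f)) hsp
  -- `y''` is a finite type point of `Y'`
  have hmem : y'' ∈ Set.range (f.fiberι (f y')) := by
    rw [Scheme.Hom.range_fiberι]
    exact hy''f
  obtain ⟨a, rfl⟩ := hmem
  haveI : IsClosedImmersion ((f.fiber (f y')).fromSpecResidueField a) :=
    isClosed_singleton_iff_isClosedImmersion.mp (isClosed_discrete _)
  have ha : LocallyOfFiniteType ((f.fiber (f y')).fromSpecResidueField a) := inferInstance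
  have hft'' := ftPoint_of_fiber f (f y') hft a ha
  have hcl : IsClosed ({(f.fiberι (f y')) a} : Set Y') :=
    isClosed_singleton_iff_locallyOfFiniteType.mpr hft''
  have h1 : y₁' ∈ closure ({(f.fiberι (f y')) a} : Set Y') := specializes_iff_mem_closure.mp hy''s
  rw [hcl.closure_eq, Set.mem_singleton_iff] at h1
  rw [Set.mem_singleton_iff, h1]
  exact hy''f

open AlgSp in
/-- a scheme locally of finite type over a Jacobson algebraic space is Jacobson. -/
theorem jacobsonSpace_of_locP_lft {S : Scheme.{u}} {X : AlgSp.Sp S} (hXa : AlgSp.IsAlgSpace X)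
    (hX : AlgSp.EtaleLocally (fun U => JacobsonSpace ↥U) X) {W : Over S}
    (g : (AlgSp.yon S).obj W ⟶ X) (hg : AlgSp.LocP @LocallyOfFiniteType g) :
    JacobsonSpace ↥W.left := by
  obtain ⟨U₀, p₀, hp₀e, hp₀s, hJ⟩ := hX
  obtain ⟨W₀, w, pr, sq⟩ := hXa.representable_from_yon p₀ g
  obtain ⟨h₀, rfl⟩ := (AlgSp.yon S).map_surjective pr
  haveI : Etale w.left := hp₀e.2 g _ w sq
  haveI : Surjective w.left := hp₀s.2 g _ w sq
  haveI : LocallyOfFiniteType h₀.left :=
    hg ((AlgSp.yon S).map w) p₀ h₀ ((AlgSp.repWith_yon_map_iff @Etale w).2 inferInstance) hp₀e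
      sq.w.symm
  haveI : JacobsonSpace ↥U₀.left := hJ
  haveI : JacobsonSpace ↥W₀.left := LocallyOfFiniteType.jacobsonSpace h₀.left
  exact jacobsonSpace_of_etale_surjective w.left

end Groth.Agent.Lib.T2H1.JacobsonDesc
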