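import Groth.Agent.Lib.Helper17KInjD5
import Groth.Agent.Lib.Helper16KInjAdj

/-!
# Units of unbounded right derived functors on K-injective complexes (helper1)
-/

set_option autoImplicit false

universe w w₁ w₂ v v' u u'

open CategoryTheory CategoryTheory.Limits HomologicalComplex MorphismProperty

namespace Groth.Agent.Lib.T2H1.KhUnit

open Groth.Agent.Lib.Helper17.KInj

section

variable {A : Type u} [Category.{v} A] [Abelian A] {B : Type u'} [Category.{v'} B] [Abelian B]
  [IsGrothendieckAbelian.{w} B] [HasDerivedCategory.{w₁} A] [HasDerivedCategory.{w₂} B]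
  (G : B ⥤ A) [G.Additive]
  (RG : DerivedCategory B ⥤ DerivedCategory A)
  (βK : G.mapHomotopyCategory (ComplexShape.up ℤ) ⋙ DerivedCategory.Qh ⟶
    DerivedCategory.Qh ⋙ RG)
  [RG.IsRightDerivedFunctor βK (HomotopyCategory.quasiIso B (ComplexShape.up ℤ))]

/-- the unit of a total right derived functor (on the homotopy category) is an isomorphism on
K-injective complexes. -/
lemma isIso_app_quotient_of_isKInjective (I : CochainComplex B ℤ) [I.IsKInjective] :
    IsIso (βK.app ((HomotopyCategory.quotient B (ComplexShape.up ℤ)).obj I)) := by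
  have h := isIso_app_of_isKInjective.{w} G RG (unitOfK G RG βK) I
  have e : (unitOfK G RG βK).app I = (isoF₀ G).inv.app I ≫
      βK.app ((HomotopyCategory.quotient B (ComplexShape.up ℤ)).obj I) ≫
      RG.map ((DerivedCategory.quotientCompQhIso B).hom.app I) := by
    simp [unitOfK, γOfK]
  rw [e] at h
  haveI := h
  haveI : IsIso (βK.app ((HomotopyCategory.quotient B (ComplexShape.up ℤ)).obj I) ≫
      RG.map ((DerivedCategory.quotientCompQhIso B).hom.app I)) :=
    IsIso.of_isIso_comp_left ((isoF₀ G).inv.app I) _
  exact IsIso.of_isIso_comp_right _ (RG.map ((DerivedCategory.quotientCompQhIso B).hom.app I))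

end

section

variable {B : Type u'} [Category.{v'} B] [Abelian B]
  [IsGrothendieckAbelian.{w} B] [HasDerivedCategory.{w₂} B]

/-- every object of the derived category of a Grothendieck abelian category is represented by a
K-injective complex. -/
lemma exists_iso_Q_obj_isKInjective (K : DerivedCategory B) :
    ∃ (I : CochainComplex B ℤ) (_ : I.IsKInjective), Nonempty (K ≅ DerivedCategory.Q.obj I) := by
  let M := DerivedCategory.Q.objPreimage K
  have e₀ : DerivedCategory.Q.obj M ≅ K := DerivedCategory.Q.objObjPreimageIso K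
  haveI : QuasiIso ((fibReplι₀.{w} B).app M) := (trivCof_fibReplι₀ B M).2
  haveI : IsIso (DerivedCategory.Q.map ((fibReplι₀.{w} B).app M)) := by
    rw [DerivedCategory.isIso_Q_map_iff_quasiIso]
    infer_instance
  exact ⟨(fibRepl₀.{w} B).obj M, (fibrant_fibRepl₀ B M).isKInjective,
    ⟨e₀.symm ≪≫ asIso (DerivedCategory.Q.map ((fibReplι₀.{w} B).app M))⟩⟩

end

end Groth.Agent.Lib.T2H1.KhUnit
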