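import Mathlib
import Groth.Agent.Lib.T2H7PerfLocal
import Groth.Agent.Lib.Helper14TorSyz
import Groth.Agent.Lib.Helper3FlatOpenFP
import Groth.Agent.Lib.Helper3FlatLocA
import Groth.Agent.S6935

/-!
# Openness of the finite-tor-dimension locus of a pseudo-coherent ring map (helper7)

For a pseudo-coherent module `M` over a flat finitely presented `A`-algebra `P` and a prime `q` of `P`:
if `M_q` has tor dimension `≤ d` over `A` then so has `M_g` for some `g ∉ q`.  Consequence: a
pseudo-coherent morphism of schemes is perfect iff all its stalk maps have finite tor dimension.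
-/

set_option autoImplicit false
universe u
open CategoryTheory CategoryTheory.Limits
attribute [local instance] HasDerivedCategory.standard

namespace Groth.Agent.Lib.T2H7.FtdOpen

open Groth.Agent.Lib.Helper1.TorDim Groth.Agent.Lib.Helper1.Restrict
  Groth.Agent.Lib.T2H7.PdPC Groth.Agent.Lib.Helper1.Tor Groth.Agent.Lib.T2H7.PerfHom
  Groth.Agent.Lib.Helper1.Extend Groth.Agent.Lib.T2H7.PCLocal Groth.Agent.Lib.T2H7.PerfLocal
  Groth.Agent.Lib.Helper1.PC Groth.Agent.Lib.Helper14.TorSyz
  Groth.Agent.Lib.Helper3.FlatLoc Groth.Agent.Lib.Helper3.FlatOpen TensorProduct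

section Flat

variable {A P M : Type u} [CommRing A] [CommRing P] [Algebra A P]
  [AddCommGroup M] [Module P M] [Module A M] [IsScalarTower A P M]


theorem flat_away_of_flat_atPrime [Algebra.FinitePresentation A P]
    [Module.FinitePresentation P M] (q : Ideal P) [hq : q.IsPrime]
    (h : Module.Flat A (LocalizedModule q.primeCompl M)) :
    ∃ g, g ∉ q ∧ Module.Flat A (LocalizedModule (Submonoid.powers g) M) := by
  have hopen := isOpen_flatLocus_of_finitePresentation (R := A) (S := P) (M := M)
  have hmem : (⟨q, hq⟩ : PrimeSpectrum P) ∈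
      {q : PrimeSpectrum P | Module.Flat A (LocalizedModule q.asIdeal.primeCompl M)} := h
  obtain ⟨_, ⟨_, ⟨g, rfl⟩, rfl⟩, hgq, hsub⟩ :=
    PrimeSpectrum.isBasis_basic_opens.exists_subset_of_mem_open hmem hopen
  refine ⟨g, hgq, ?_⟩
  rw [flat_localizedModule_iff']
  intro I z hz
  let J : Ideal P := LinearMap.ker (LinearMap.toSpanSingleton P (M ⊗[A] I) z)
  have hJ : ∀ s : P, s ∈ J ↔ s • z = 0 := fun s => by
    simp [J, LinearMap.mem_ker]
  have hg : g ∈ J.radical := by
    rw [Ideal.radical_eq_sInf, Ideal.mem_sInf]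
    rintro p ⟨hJp, hp⟩
    by_contra hgp
    have hflat : Module.Flat A (LocalizedModule p.primeCompl M) :=
      hsub (show (⟨p, hp⟩ : PrimeSpectrum P) ∈ (PrimeSpectrum.basicOpen g : Set _) from hgp)
    rw [flat_localizedModule_iff'] at hflat
    obtain ⟨s, hs, hsz⟩ := hflat I z hz
    exact hs (hJp ((hJ s).2 hsz))
  obtain ⟨n, hn⟩ := hg
  exact ⟨g ^ n, ⟨n, rfl⟩, (hJ _).1 hn⟩

end Flat

section TorDim

variable {A P : Type u} [CommRing A] [CommRing P] [Algebra A P]

theorem hasTorDimLE_of_linearEquiv {M M' : Type u} [AddCommGroup M] [Module A M] [AddCommGroup M']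
    [Module A M'] (e : M ≃ₗ[A] M') (d : ℕ) (h : DRing.HasTorDimLE A d M) :
    DRing.HasTorDimLE A d M' := by
  have hM := (hasTorDimLE_iff_hasTorAmp M d).1 h
  have h4 := hasTorAmp_of_iso ((DerivedCategory.singleFunctor (ModuleCat.{u} A) 0).mapIso
    e.toModuleIso) hM
  exact (hasTorDimLE_iff_hasTorAmp M' d).2 h4

/-- the syzygy step for localized modules -/
theorem torDim_localized_ker_coker {K F M : Type u} [AddCommGroup K] [Module P K] [Module A K]
    [IsScalarTower A P K] [AddCommGroup F] [Module P F] [Module A F] [IsScalarTower A P F]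
    [AddCommGroup M] [Module P M] [Module A M] [IsScalarTower A P M] [Module.Flat A F]
    (f : K →ₗ[P] F) (g : F →ₗ[P] M) (hf : Function.Injective f) (hg : Function.Surjective g)
    (hfg : Function.Exact f g) (T : Submonoid P) (d : ℕ) :
    (DRing.HasTorDimLE A (d + 1) (LocalizedModule T M) → DRing.HasTorDimLE A d (LocalizedModule T K)) ∧
    (DRing.HasTorDimLE A d (LocalizedModule T K) → DRing.HasTorDimLE A (d + 1) (LocalizedModule T M)) := by
  have : Module.Flat A (LocalizedModule T F) := flat_localizedModule_of_flat T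
  have h1 : Function.Injective ((LocalizedModule.map T f).restrictScalars A) :=
    LocalizedModule.map_injective T f hf
  have h2 : Function.Surjective ((LocalizedModule.map T g).restrictScalars A) :=
    LocalizedModule.map_surjective T g hg
  have h3 : Function.Exact ((LocalizedModule.map T f).restrictScalars A)
      ((LocalizedModule.map T g).restrictScalars A) :=
    LocalizedModule.map_exact T f g hfg
  exact ⟨hasTorDimLE_ker _ _ h1 h2 h3 d, hasTorDimLE_coker _ _ h1 h2 h3 d⟩

theorem exists_away_torDimLE [Module.Flat A P] [Algebra.FinitePresentation A P] (d : ℕ) :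
    ∀ (M : Type u) [AddCommGroup M] [Module P M] [Module A M] [IsScalarTower A P M],
      DRing.IsPseudoCoherentModule' P M → ∀ (q : Ideal P) [q.IsPrime],
      DRing.HasTorDimLE A d (LocalizedModule q.primeCompl M) →
      ∃ g, g ∉ q ∧ DRing.HasTorDimLE A d (LocalizedModule (Submonoid.powers g) M) := by
  induction d with
  | zero =>
    intro M _ _ _ _ hpc q _ h
    have hfp : Module.FinitePresentation P M :=
      (Groth.Agent.S6935.result P M).2.1 ((isPC'_iff_forall _).1 hpc (-1))
    obtain ⟨g, hg, hflat⟩ := flat_away_of_flat_atPrime (A := A) q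
      ((hasTorDimLE_zero_iff_flat _).1 h)
    exact ⟨g, hg, (hasTorDimLE_zero_iff_flat _).2 hflat⟩
  | succ d ih =>
    intro M _ _ _ _ hpc q _ h
    have hfp : Module.FinitePresentation P M :=
      (Groth.Agent.S6935.result P M).2.1 ((isPC'_iff_forall _).1 hpc (-1))
    obtain ⟨r, g, hg⟩ := Module.Finite.exists_fin' P M
    let K := LinearMap.ker g
    have hFflat : Module.Flat A (Fin r → P) := Module.Flat.trans A P (Fin r → P)
    have hfg : Function.Exact K.subtype g := LinearMap.exact_subtype_ker_map g
    have hKpc : DRing.IsPseudoCoherentModule' P K := by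
      obtain ⟨Tr, hT, h1, h2, h3⟩ := exists_triangle K.subtype g K.injective_subtype hg hfg
      have hF : DRing.IsPseudoCoherentModule' P (Fin r → P) :=
        isPseudoCoherentModule'_of_flat P P (Fin r → P)
      unfold DRing.IsPseudoCoherentModule'
      rw [isPC'_iff_forall]
      intro m
      have hF1 := (isPC'_iff_forall _).1 hF (m - 1 + 1)
      have hM1 := (isPC'_iff_forall _).1 hpc (m - 1)
      have := isPC_obj₁ Tr hT (m - 1) (h2 ▸ hF1) (h3 ▸ hM1)
      rw [h1] at this
      simpa using this
    have hK := (torDim_localized_ker_coker (A := A) K.subtype g K.injective_subtype hg hfg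
      q.primeCompl d).1 h
    obtain ⟨s, hs, hKs⟩ := ih K hKpc q hK
    exact ⟨s, hs, (torDim_localized_ker_coker (A := A) K.subtype g K.injective_subtype hg hfg
      (Submonoid.powers s) d).2 hKs⟩

end TorDim

section RingLevel

theorem locEquiv {A P B : Type u} [CommRing A] [CommRing P] [CommRing B] [Algebra A P]
    [Algebra P B] [Algebra A B] [IsScalarTower A P B] (T : Submonoid P) (B' : Type u) [CommRing B']
    [Algebra B B'] [Algebra P B'] [Algebra A B'] [IsScalarTower P B B'] [IsScalarTower A P B']
    [IsLocalization (Algebra.algebraMapSubmonoid B T) B'] :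
    Nonempty (LocalizedModule T B ≃ₗ[A] B') := by
  have h1 : IsLocalizedModule T (IsScalarTower.toAlgHom P B B').toLinearMap :=
    isLocalizedModule_iff_isLocalization.2 inferInstance
  exact ⟨(IsLocalizedModule.iso T (IsScalarTower.toAlgHom P B B').toLinearMap).restrictScalars A⟩

/-- openness of the finite-tor-dimension locus of a pseudo-coherent ring map -/
theorem exists_away_ftd {A B : Type u} [CommRing A] [CommRing B] [Algebra A B]
    (hpc : MoreMor.IsPseudoCoherentHom A B) (q : Ideal B) [hq : q.IsPrime]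
    (h : DRing.HasFiniteTorDim A (Localization.AtPrime q)) :
    ∃ g, g ∉ q ∧ DRing.HasFiniteTorDim A (Localization.Away g) := by
  obtain ⟨n, φ, hφ, hM⟩ := hpc
  let _ : Algebra (MvPolynomial (Fin n) A) B := φ.toRingHom.toAlgebra
  have htower : IsScalarTower A (MvPolynomial (Fin n) A) B :=
    .of_algebraMap_eq' φ.comp_algebraMap.symm
  have hsurj : Function.Surjective (algebraMap (MvPolynomial (Fin n) A) B) := hφ
  obtain ⟨d, hd⟩ := h
  let q' : Ideal (MvPolynomial (Fin n) A) := q.comap (algebraMap (MvPolynomial (Fin n) A) B)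
  have hq' : q'.IsPrime := Ideal.comap_isPrime _ _
  have hmap : Algebra.algebraMapSubmonoid B q'.primeCompl = q.primeCompl := by
    ext b
    constructor
    · rintro ⟨p, hp, rfl⟩
      exact hp
    · intro hb
      obtain ⟨p, rfl⟩ := hsurj b
      exact ⟨p, hb, rfl⟩
  have hloc : IsLocalization (Algebra.algebraMapSubmonoid B q'.primeCompl) (Localization.AtPrime q) := by
    rw [hmap]
    infer_instance
  obtain ⟨e⟩ := locEquiv (A := A) (P := MvPolynomial (Fin n) A) (B := B) q'.primeCompl
    (Localization.AtPrime q)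
  have h1 := hasTorDimLE_of_linearEquiv e.symm d hd
  obtain ⟨g, hg, h2⟩ := exists_away_torDimLE (A := A) (P := MvPolynomial (Fin n) A) d B hM q' h1
  refine ⟨algebraMap _ B g, hg, d, ?_⟩
  have hmap2 : Algebra.algebraMapSubmonoid B (Submonoid.powers g) =
      Submonoid.powers (algebraMap (MvPolynomial (Fin n) A) B g) := by
    simp [Algebra.algebraMapSubmonoid, Submonoid.map_powers]
  have hloc2 : IsLocalization (Algebra.algebraMapSubmonoid B (Submonoid.powers g))
      (Localization.Away (algebraMap (MvPolynomial (Fin n) A) B g)) := by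
    rw [hmap2]
    infer_instance
  obtain ⟨e2⟩ := locEquiv (A := A) (P := MvPolynomial (Fin n) A) (B := B) (Submonoid.powers g)
    (Localization.Away (algebraMap (MvPolynomial (Fin n) A) B g))
  exact hasTorDimLE_of_linearEquiv e2 d h2

theorem qftd_of_bijective {R A : Type u} [CommRing R] [CommRing A] (f : R →+* A)
    (hf : Function.Bijective f) : Qftd f := by
  let _ : Algebra R A := f.toAlgebra
  let e : R ≃ₐ[R] A := AlgEquiv.ofBijective (Algebra.ofId R A) hf
  have : Module.Flat R A := Module.Flat.of_linearEquiv e.toLinearEquiv.symm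
  exact (qftd_algebraMap_iff R A).1 (qftd_of_flat R A)

theorem qftd_respectsIso : RingHom.RespectsIso @Qftd := by
  constructor
  · intro R S T _ _ _ f e hf
    exact qftd_comp f e.toRingHom hf (qftd_of_bijective _ e.bijective)
  · intro R S T _ _ _ f e hf
    exact qftd_comp e.toRingHom f (qftd_of_bijective _ e.bijective) hf

theorem qftd_localRingHom {A B : Type u} [CommRing A] [CommRing B] [Algebra A B]
    (q : Ideal B) [q.IsPrime] (p : Ideal A) [p.IsPrime] (hpq : p = q.comap (algebraMap A B))
    (h : DRing.HasFiniteTorDim A B) :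
    Qftd (Localization.localRingHom p q (algebraMap A B) hpq) := by
  let _ : Algebra (Localization.AtPrime p) (Localization.AtPrime q) :=
    (Localization.localRingHom p q (algebraMap A B) hpq).toAlgebra
  have : IsScalarTower A (Localization.AtPrime p) (Localization.AtPrime q) := by
    refine .of_algebraMap_eq fun a => ?_
    rw [RingHom.algebraMap_toAlgebra, Localization.localRingHom_to_map,
      IsScalarTower.algebraMap_apply A B (Localization.AtPrime q)]
  have hfl : Module.Flat B (Localization.AtPrime q) := IsLocalization.flat _ q.primeCompl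
  have h1 : DRing.HasFiniteTorDim A (Localization.AtPrime q) :=
    ftd_trans (A := A) (B := B) (Localization.AtPrime q) h (ftd_of_flat _)
  exact ftd_of_isLocalization (A := A) (B := Localization.AtPrime p) p.primeCompl
    (Localization.AtPrime q) h1

theorem ftd_atPrime_of_qftd_localRingHom {A B : Type u} [CommRing A] [CommRing B] [Algebra A B]
    (q : Ideal B) [q.IsPrime] (p : Ideal A) [p.IsPrime] (hpq : p = q.comap (algebraMap A B))
    (h : Qftd (Localization.localRingHom p q (algebraMap A B) hpq)) :
    DRing.HasFiniteTorDim A (Localization.AtPrime q) := by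
  let _ : Algebra (Localization.AtPrime p) (Localization.AtPrime q) :=
    (Localization.localRingHom p q (algebraMap A B) hpq).toAlgebra
  have : IsScalarTower A (Localization.AtPrime p) (Localization.AtPrime q) := by
    refine .of_algebraMap_eq fun a => ?_
    rw [RingHom.algebraMap_toAlgebra, Localization.localRingHom_to_map,
      IsScalarTower.algebraMap_apply A B (Localization.AtPrime q)]
  have hfl : Module.Flat A (Localization.AtPrime p) := IsLocalization.flat _ p.primeCompl
  exact ftd_trans (A := A) (B := Localization.AtPrime p) (Localization.AtPrime q)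
    (ftd_of_flat _) h

end RingLevel

section SchemeLevel

open AlgebraicGeometry

theorem exists_affine_pair {X S : Scheme.{u}} (f : X ⟶ S) (x : X) :
    ∃ (U : X.Opens) (V : S.Opens), IsAffineOpen U ∧ IsAffineOpen V ∧ x ∈ U ∧ U ≤ f ⁻¹ᵁ V := by
  obtain ⟨_, ⟨V, hV, rfl⟩, hxV, -⟩ :=
    S.isBasis_affineOpens.exists_subset_of_mem_open (Set.mem_univ (f x)) isOpen_univ
  obtain ⟨_, ⟨U, hU, rfl⟩, hxU, hUV⟩ :=
    X.isBasis_affineOpens.exists_subset_of_mem_open (show x ∈ (f ⁻¹ᵁ V : Set X) from hxV)
      (f ⁻¹ᵁ V).isOpen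
  exact ⟨U, V, hU, hV, hxU, hUV⟩

theorem perfMor_iff_stalk {X S : Scheme.{u}} (f : X ⟶ S) (hf : MoreMor.IsPseudoCoherentMor f) :
    MoreMor.IsPerfectMor f ↔ ∀ x : X, Qftd (f.stalkMap x).hom := by
  constructor
  · intro hperf x
    obtain ⟨U, V, hU, hV, hx, e⟩ := exists_affine_pair f x
    rw [qftd_respectsIso.arrow_mk_iso_iff (IsAffineOpen.arrowStalkMapIso f V hV U hU e hx)]
    let _ : Algebra Γ(S, V) Γ(X, U) := (f.appLE V U e).hom.toAlgebra
    exact qftd_localRingHom (A := Γ(S, V)) (B := Γ(X, U)) _ _
      congr($(IsAffineOpen.comap_primeIdealOf_appLE V hV U hU e hx).1).symm (hperf U V hU hV e).2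
  · intro h
    rw [perfMor_iff_exists]
    intro x
    obtain ⟨U, V, hU, hV, hx, e⟩ := exists_affine_pair f x
    have hx' := h x
    rw [qftd_respectsIso.arrow_mk_iso_iff (IsAffineOpen.arrowStalkMapIso f V hV U hU e hx)] at hx'
    let _ : Algebra Γ(S, V) Γ(X, U) := (f.appLE V U e).hom.toAlgebra
    have h1 := ftd_atPrime_of_qftd_localRingHom (A := Γ(S, V)) (B := Γ(X, U)) _ _
      congr($(IsAffineOpen.comap_primeIdealOf_appLE V hV U hU e hx).1).symm hx'
    obtain ⟨g, hg, h2⟩ := exists_away_ftd (hf U V hU hV e) _ h1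
    have e' : X.basicOpen g ≤ f ⁻¹ᵁ V := (X.basicOpen_le g).trans e
    have hxg : x ∈ X.basicOpen g := by
      have h3 : hU.primeIdealOf ⟨x, hx⟩ ∈ hU.fromSpec ⁻¹ᵁ X.basicOpen g := by
        rw [hU.fromSpec_preimage_basicOpen]
        exact hg
      have h4 := hU.fromSpec_primeIdealOf ⟨x, hx⟩
      change hU.fromSpec (hU.primeIdealOf ⟨x, hx⟩) ∈ X.basicOpen g at h3
      rwa [h4] at h3
    refine ⟨X.basicOpen g, V, e', hU.basicOpen g, hV, hxg, hf _ _ (hU.basicOpen g) hV e', ?_⟩
    let _ : Algebra Γ(S, V) Γ(X, X.basicOpen g) := (f.appLE V (X.basicOpen g) e').hom.toAlgebra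
    have hloc : IsLocalization.Away g Γ(X, X.basicOpen g) := hU.isLocalization_basicOpen g
    have htower : IsScalarTower Γ(S, V) Γ(X, U) Γ(X, X.basicOpen g) := by
      refine .of_algebraMap_eq' ?_
      change (f.appLE V (X.basicOpen g) e').hom =
        (X.presheaf.map (homOfLE (X.basicOpen_le g)).op).hom.comp (f.appLE V U e).hom
      rw [← CommRingCat.hom_comp, Scheme.Hom.appLE_map]
    let eB : Localization.Away g ≃ₐ[Γ(X, U)] Γ(X, X.basicOpen g) :=
      IsLocalization.algEquiv (Submonoid.powers g) _ _
    exact ftd_of_linearEquiv _ _ (eB.toLinearEquiv.restrictScalars Γ(S, V)) h2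

end SchemeLevel

end Groth.Agent.Lib.T2H7.FtdOpen
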