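import Groth.Agent.Lib.T2H1SmoothTorSch2
import Groth.Agent.Lib.T2H7PerfKos
import Groth.Agent.Lib.T2H7FtdOpen

/-!
# Tor dimension of Koszul-regular quotients and the chart-to-stalk passage (T2H1)
-/

set_option autoImplicit false
set_option linter.style.haveILetI false
universe u
open CategoryTheory CategoryTheory.Limits AlgebraicGeometry

attribute [local instance] HasDerivedCategory.standard

namespace Groth.Agent.Lib.T2H1.KoszulTor

open Groth.Agent.Lib.T2H1.SmoothTor Groth.Agent.Lib.T2H1.TorAmpBCSch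
  Groth.Agent.Lib.T2H7.PerfKos Groth.Agent.Lib.Helper21 CochainComplex

section Ring

variable (A : Type u) [CommRing A]

/-- The Koszul complex of a Koszul-regular sequence is a finite projective resolution of the
quotient, concentrated in `[-length, 0]`. -/
theorem exists_koszul_resolution (l : List A) (h : LCI.IsKoszulRegularSeq A l) :
    ∃ E : DRing.Cx A, DRing.VanishesOutside E (-(l.length : ℤ)) 0 ∧
      DRing.TermwiseFiniteProjective E ∧
      Nonempty (DRing.toD E ≅ Dual.inD A (A ⧸ Ideal.ofList l)) := by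
  have heq := Groth.Agent.S15821.koszul_eq A l
  set E : DRing.Cx A := CohIII.koszulCx (ModuleCat.of A A) l with hE
  have hhom : ∀ i : ℤ, i ≠ 0 → IsZero (E.homology i) := by
    intro i hi
    exact (Groth.Agent.S15821.isZero_congr heq i).1 (h i hi)
  have hle : E.IsLE 0 := by
    rw [CochainComplex.isLE_iff]
    intro i hi
    rw [HomologicalComplex.exactAt_iff_isZero_homology]
    exact hhom i (by omega)
  have hge : E.IsGE 0 := by
    rw [CochainComplex.isGE_iff]
    intro i hi
    rw [HomologicalComplex.exactAt_iff_isZero_homology]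
    exact hhom i (by omega)
  have : (DerivedCategory.Q.obj E).IsLE 0 := (DerivedCategory.isLE_Q_obj_iff _ _).2 hle
  have : (DerivedCategory.Q.obj E).IsGE 0 := (DerivedCategory.isGE_Q_obj_iff _ _).2 hge
  obtain ⟨Y, ⟨e⟩⟩ := DerivedCategory.exists_iso_singleFunctor_obj_of_isGE_of_isLE
    (DerivedCategory.Q.obj E) 0
  have e1 : (DerivedCategory.homologyFunctor (ModuleCat.{u} A) 0).obj (DerivedCategory.Q.obj E) ≅
      E.homology 0 :=
    (DerivedCategory.homologyFunctorFactors (ModuleCat.{u} A) 0).app E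
  have e2 : (DerivedCategory.homologyFunctor (ModuleCat.{u} A) 0).obj
      ((DerivedCategory.singleFunctor (ModuleCat.{u} A) 0).obj Y) ≅ Y :=
    (DerivedCategory.singleFunctorCompHomologyFunctorIso (ModuleCat.{u} A) 0).app Y
  have e3 : Y ≅ E.homology 0 :=
    e2.symm ≪≫ (DerivedCategory.homologyFunctor (ModuleCat.{u} A) 0).mapIso e.symm ≪≫ e1
  obtain ⟨e4⟩ := Groth.Agent.S11917.main (A := A) A l
  have h0 : Ideal.ofList l • (⊤ : Submodule A A) = Ideal.ofList l := by simp
  have e5 : Y ≅ ModuleCat.of A (A ⧸ Ideal.ofList l) :=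
    e3 ≪≫ (e4.trans (Submodule.quotEquivOfEq _ _ h0)).toModuleIso
  refine ⟨E, ?_, fun i => termwise_koszulCx A l i,
    ⟨e ≪≫ (DerivedCategory.singleFunctor (ModuleCat.{u} A) 0).mapIso e5⟩⟩
  intro i hi
  rcases hi with hi | hi
  · exact isZero_koszulCx_X_neg _ l i hi
  · exact isZero_koszulCx_X_pos _ l i hi

/-- The quotient by a Koszul-regular sequence of length `d` has tor dimension `≤ d`. -/
theorem hasTorDimLE_quot_of_koszulRegular (l : List A) (h : LCI.IsKoszulRegularSeq A l) :
    DRing.HasTorDimLE A l.length (A ⧸ Ideal.ofList l) := by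
  rw [Groth.Agent.Lib.Helper1.TorDim.hasTorDimLE_iff_hasTorAmp]
  obtain ⟨E, hv, hfp, he⟩ := exists_koszul_resolution A l h
  refine ⟨E, hv, fun i => ?_, he⟩
  have := (hfp i).2
  infer_instance

variable {A}

/-- A surjection with kernel generated by a Koszul-regular sequence of length `d` has tor
dimension `≤ d`. -/
theorem hasTorDimLE_of_surjective_of_ker_koszul {B : Type u} [CommRing B] (φ : A →+* B)
    (hφ : Function.Surjective φ) (l : List A) (hl : LCI.IsKoszulRegularSeq A l)
    (hker : RingHom.ker φ = Ideal.ofList l) :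
    @DRing.HasTorDimLE A _ l.length B _ φ.toAlgebra.toModule := by
  letI : Algebra A B := φ.toAlgebra
  let e : (A ⧸ Ideal.ofList l) ≃ₐ[A] B :=
    (Ideal.quotientEquivAlgOfEq A hker.symm).trans
      (Ideal.quotientKerAlgEquivOfSurjective (f := Algebra.ofId A B) hφ)
  exact Groth.Agent.Lib.T2H7.FtdOpen.hasTorDimLE_of_linearEquiv e.toLinearEquiv _
    (hasTorDimLE_quot_of_koszulRegular A l hl)

end Ring

section Scheme

variable {X Y : Scheme.{u}}

/-- tor dimension of an affine chart passes to the stalks -/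
theorem hasTorDimLE_stalk_of_section (f : X ⟶ Y) (x : X) {V : Y.Opens} (hV : IsAffineOpen V)
    {U : X.Opens} (hU : IsAffineOpen U) (hx : x ∈ U) (e : U ≤ f ⁻¹ᵁ V) (d : ℕ)
    (h : @DRing.HasTorDimLE Γ(Y, V) _ d Γ(X, U) _ (f.appLE V U e).hom.toAlgebra.toModule) :
    @DRing.HasTorDimLE (Y.presheaf.stalk (f.base x)) _ d (X.presheaf.stalk x) _
      (f.stalkMap x).hom.toAlgebra.toModule := by
  letI iAB : Algebra Γ(Y, V) Γ(X, U) := (f.appLE V U e).hom.toAlgebra
  letI iAA' : Algebra Γ(Y, V) (Y.presheaf.stalk (f x)) :=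
    Y.presheaf.algebra_section_stalk ⟨f x, e hx⟩
  letI iBB' : Algebra Γ(X, U) (X.presheaf.stalk x) := X.presheaf.algebra_section_stalk ⟨x, hx⟩
  letI iA'B' : Algebra (Y.presheaf.stalk (f x)) (X.presheaf.stalk x) :=
    (f.stalkMap x).hom.toAlgebra
  letI iAB' : Algebra Γ(Y, V) (X.presheaf.stalk x) :=
    ((algebraMap Γ(X, U) (X.presheaf.stalk x)).comp (algebraMap Γ(Y, V) Γ(X, U))).toAlgebra
  haveI : IsScalarTower Γ(Y, V) Γ(X, U) (X.presheaf.stalk x) :=
    IsScalarTower.of_algebraMap_eq (fun _ => rfl)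
  haveI : IsScalarTower Γ(Y, V) (Y.presheaf.stalk (f x)) (X.presheaf.stalk x) := by
    refine IsScalarTower.of_algebraMap_eq (fun a => ?_)
    have h1 := germ_stalkMap_appLE f V U e x hx
    exact (congrArg (fun φ => φ.hom a) h1).symm
  haveI : Module.Flat Γ(X, U) (X.presheaf.stalk x) := flat_germ hU x hx
  haveI : Algebra.WeaklyEtale Γ(Y, V) (Y.presheaf.stalk (f x)) := by
    haveI := hV.isLocalization_stalk ⟨f x, e hx⟩
    exact Groth.Agent.Lib.Helper14.WEField.weaklyEtale_of_isLocalization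
      (hV.primeIdealOf ⟨f x, e hx⟩).asIdeal.primeCompl (Y.presheaf.stalk (f x))
  have h1 : DRing.HasTorDimLE Γ(Y, V) d (X.presheaf.stalk x) :=
    Groth.Agent.Lib.Helper1.TorDim.hasTorDimLE_of_flat_algebra (A := Γ(Y, V)) (B := Γ(X, U)) d h
      (X.presheaf.stalk x)
  exact Groth.Agent.Lib.Helper14.TorSyz.hasTorDimLE_of_weaklyEtale Γ(Y, V)
    (Y.presheaf.stalk (f x)) d (X.presheaf.stalk x) h1

end Scheme

end Groth.Agent.Lib.T2H1.KoszulTor
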