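import Mathlib
import Groth.Prelude.Def_DCoh4
import Groth.Agent.Lib.Helper1LDer2
import Groth.Agent.Lib.Helper1BKF6
import Groth.Agent.Lib.Helper1BKF12
import Groth.Agent.Lib.T2H1HocolimHomology
set_option backward.isDefEq.respectTransparency.types false

/-!
# The derived tensor product commutes with coproducts (helper1, second team)

* `symNatIso`: the symmetry `Tot(- ⊗ L) ≅ Tot(L ⊗ -)` as a natural isomorphism.
* `preservesColimit_TR`: `Tot(- ⊗ L)` preserves degreewise colimits preserved by `L^p ⊗ -`.
* `preservesColimit_LTensorCx`: `- ⊗^L D` preserves small coproducts in `D(O_X)`.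
-/

set_option autoImplicit false
set_option linter.style.haveILetI false
universe u
open CategoryTheory CategoryTheory.Limits AlgebraicGeometry HomologicalComplex

attribute [local instance] HasDerivedCategory.standard

namespace Groth.Agent.Lib.T2H1.LTensorCoprod

open Groth.Agent.Lib.Helper1.BKF

section general

variable {A D : Type*} [Category A] [Category D] [Abelian A] [Abelian D]
  (F : A ⥤ A ⥤ D) [F.Additive] [∀ X, (F.obj X).Additive]
  [∀ (K₁ K₂ : CochainComplex A ℤ), HasMapBifunctor K₁ K₂ F (ComplexShape.up ℤ)]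
  (β : F ≅ F.flip)

/-- the symmetry `Tot(- ⊗ L) ≅ Tot(L ⊗ -)` as a natural isomorphism -/
noncomputable def symNatIso (L : CochainComplex A ℤ) : TR F L ≅ TL F L :=
  NatIso.ofComponents (fun K => symIso F β K L) (fun {K K'} f =>
    symIso_hom_naturality F β f (𝟙 L))

variable (L : CochainComplex A ℤ) {J : Type*} [Category J] (K : J ⥤ CochainComplex A ℤ)
  (c : Cocone K) (hc : ∀ q, IsColimit ((eval A (ComplexShape.up ℤ) q).mapCocone c))
  [∀ p, PreservesColimitsOfShape J (F.obj (L.X p))]

include hc in
/-- `Tot(L ⊗ -)` preserves degreewise colimits preserved by all `L^p ⊗ -`. -/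
theorem preservesColimit_TL : PreservesColimit K (TL F L) :=
  preservesColimit_of_preserves_colimit_cocone (isColimitOfEval K c hc)
    (isColimitOfEval _ _ (fun n => isColimitTL F L K c hc n))

include hc β in
/-- `Tot(- ⊗ L)` preserves degreewise colimits preserved by all `L^p ⊗ -`. -/
theorem preservesColimit_TR : PreservesColimit K (TR F L) :=
  haveI := preservesColimit_TL F L K c hc
  preservesColimit_of_natIso K (symNatIso F β L).symm

end general

section Site

open Groth.Agent.Lib.Helper21.ModTensor3 Groth.Agent.Lib.Helper21.ModTensor5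

variable {C : Type u} [SmallCategory C] {J : GrothendieckTopology C} {O : Sheaf J CommRingCat.{u}}

/-- on a ringed site, `- ⊗^L D` preserves small coproducts. -/
theorem preservesColimit_LTensorCx_site (D : CochainComplex (ModSite.Mod O) ℤ)
    [ModSite.HasLTensorCx D] {ι : Type u} (E : ι → DCoh.DMod (ModSite.ringSh O)) :
    PreservesColimit (Discrete.functor E) (ModSite.LTensorCx D) := by
  haveI : IsGrothendieckAbelian.{u} (ModSite.Mod O) := isGrothendieckAbelian O
  haveI := Groth.Agent.Lib.T2H1.HocolimHomology.preservesColimitsOfShape_discrete_Q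
    (A := ModSite.Mod O) ι
  -- K-flat replacements
  have hres : ∀ i, ∃ P : CochainComplex (ModSite.Mod O) ℤ, ModSite.IsKFlat P ∧
      Nonempty (DerivedCategory.Q.obj P ≅ E i) := fun i => by
    let F0 := (DerivedCategory.Q (C := ModSite.Mod O)).objPreimage (E i)
    have e0 : DerivedCategory.Q.obj F0 ≅ E i :=
      (DerivedCategory.Q (C := ModSite.Mod O)).objObjPreimageIso (E i)
    obtain ⟨P, q, hP, -, hq, -⟩ := exists_kflat_flat_resolution (O := O) F0
    haveI : IsIso (DerivedCategory.Q.map q) := by
      rw [DerivedCategory.isIso_Q_map_iff_quasiIso]; exact hq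
    exact ⟨P, hP, ⟨asIso (DerivedCategory.Q.map q) ≪≫ e0⟩⟩
  choose P hP e using hres
  let K : Discrete ι ⥤ CochainComplex (ModSite.Mod O) ℤ := Discrete.functor P
  let c : Cocone K := colimit.cocone K
  have hc : IsColimit c := colimit.isColimit K
  have hcK : ModSite.IsKFlat c.pt :=
    isKFlat_of_isColimit_discrete K c hc (fun j => hP j.as)
  let eD : Discrete.functor E ≅ K ⋙ DerivedCategory.Q :=
    Discrete.natIso (fun i => (e i.as).some.symm)
  suffices PreservesColimit (K ⋙ DerivedCategory.Q) (ModSite.LTensorCx D) from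
    preservesColimit_of_iso_diagram _ eD.symm
  refine preservesColimit_of_preserves_colimit_cocone (isColimitOfPreserves DerivedCategory.Q hc) ?_
  -- the counit
  let α : DerivedCategory.Q ⋙ ModSite.LTensorCx D ⟶ ModSite.tensorCxQ D :=
    (ModSite.tensorCxQ D).totalLeftDerivedCounit DerivedCategory.Q
      (HomologicalComplex.quasiIso (ModSite.Mod O) (ComplexShape.up ℤ))
  have hα : ∀ (P : CochainComplex (ModSite.Mod O) ℤ), ModSite.IsKFlat P →
      IsIso (α.app P) := fun P hP =>
    isIso_counit_of_isKFlat D (ModSite.LTensorCx D) α P hP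
  -- `Tot(- ⊗ D)` preserves the coproduct
  haveI : PreservesColimit K (TR (ModSite.tensorBi O) D) :=
    preservesColimit_TR (ModSite.tensorBi O) (brd O) D K c
      (fun q => isColimitOfPreserves _ hc)
  have h2 : IsColimit (DerivedCategory.Q.mapCocone
      ((TR (ModSite.tensorBi O) D).mapCocone c)) :=
    isColimitOfPreserves DerivedCategory.Q
      (isColimitOfPreserves (TR (ModSite.tensorBi O) D) hc)
  haveI : ∀ j, IsIso (α.app (K.obj j)) := fun j => hα _ (hP j.as)
  haveI : IsIso (α.app c.pt) := hα _ hcK
  let γ : (K ⋙ DerivedCategory.Q) ⋙ ModSite.LTensorCx D ≅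
      (K ⋙ TR (ModSite.tensorBi O) D) ⋙ DerivedCategory.Q :=
    NatIso.ofComponents (fun j => asIso (α.app (K.obj j))) (fun {j j'} φ => α.naturality (K.map φ))
  refine IsColimit.ofIsoColimit ((IsColimit.precomposeHomEquiv γ _).symm h2) ?_
  exact (Cocones.ext (asIso (α.app c.pt)) (fun j => α.naturality (c.ι.app j))).symm

end Site

section Main

variable (X : Scheme.{u})

/-- `- ⊗^L D` preserves small coproducts. -/
theorem preservesColimit_LTensorCx (D : CochainComplex X.Modules ℤ) [DCoh.HasLTensorCx D]
    {ι : Type u} (C : ι → DCoh.D X) :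
    PreservesColimit (Discrete.functor C) (DCoh.LTensorCx D) := by
  haveI hI1 : ModSite.HasLTensorCx (O := X.sheaf) D := (inferInstance : DCoh.HasLTensorCx D)
  exact preservesColimit_LTensorCx_site (O := X.sheaf) D C

/-- the canonical map `∐ (C_i ⊗^L D) ⟶ (∐ C_i) ⊗^L D` is an isomorphism. -/
theorem isIso_sigmaDesc (D : CochainComplex X.Modules ℤ) [DCoh.HasLTensorCx D] {ι : Type u}
    (C : ι → DCoh.D X) [HasCoproduct C]
    [HasCoproduct (fun i => (DCoh.LTensorCx D).obj (C i))] :
    IsIso (Sigma.desc (fun i => (DCoh.LTensorCx D).map (Sigma.ι C i))) := by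
  haveI := preservesColimit_LTensorCx X D C
  exact inferInstanceAs (IsIso (sigmaComparison (DCoh.LTensorCx D) C))

end Main

end Groth.Agent.Lib.T2H1.LTensorCoprod
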