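import Groth.Agent.Lib.T2H2FinPushB

/-!
# Pseudo-coherence and direct images along affine morphisms: the main statement (T2H2)
-/

set_option autoImplicit false
set_option linter.style.haveILetI false
universe u
open CategoryTheory CategoryTheory.Limits AlgebraicGeometry Opposite

attribute [local instance] HasDerivedCategory.standard

namespace Groth.Agent.Lib.T2H2.FinPush

open Scheme.Modules Groth.Agent.Lib.T2H8.PerfLocal Groth.Agent.Lib.T2H2.AffRed
  Groth.Agent.Lib.T2H2.TildeLoc Groth.Agent.Lib.T2H2.IsoBC DerivedCategory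
  Groth.Agent.Lib.T2H1.RpushSupport Groth.Agent.Lib.T2H1.RestrictPush
  Groth.Agent.Lib.T2H8.PCohTriangle

variable {X Y : Scheme.{u}} (f : X ⟶ Y) {V : Y.Opens} (hV : IsAffineOpen V)
  (hU : IsAffineOpen (f ⁻¹ᵁ V))

/-- on affine charts, `E|_{Spec B}` is `m`-pseudo-coherent iff `(Rf_* E)|_{Spec A}` is -/
theorem isPseudoCoherentD_chart_iff [DCoh.HasRpush f]
    (hO : ∀ m : ℤ, DCoh.IsPseudoCoherentD m
      (DCoh.inD Y ((pushforward f).obj (Coh.structureModule X))))
    (E : DCoh.D X) (hE : DCoh.IsQCohD E) (m : ℤ) :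
    DCoh.IsPseudoCoherentD m ((rD hU.fromSpec).obj E) ↔
      DCoh.IsPseudoCoherentD m ((rD hV.fromSpec).obj ((DCoh.Rpush f).obj E)) := by
  haveI := hasRpush (Spec.map (f.app V))
  haveI : DCoh.HasRpush (Spec.map (CommRingCat.ofHom (CommRingCat.Hom.hom (Scheme.Hom.app f V)))) :=
    hasRpush _
  obtain ⟨N, ⟨eN⟩⟩ := exists_tildeD_iso Γ(X, f ⁻¹ᵁ V) ((rD hU.fromSpec).obj E)
    (isQCohD_rD hU.fromSpec E hE)
  obtain ⟨e1⟩ := nonempty_rD_Rpush_chart_iso f hV hU E
  obtain ⟨e2⟩ := Groth.Agent.S7268.result (A := Γ(Y, V)) (B := Γ(X, f ⁻¹ᵁ V)) (f.app V).hom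
  have hB := bpc_of_isPseudoCoherentD_push f hV hU hO
  let e : (rD hV.fromSpec).obj ((DCoh.Rpush f).obj E) ≅
      (DCoh.tildeD (CommRingCat.of Γ(Y, V))).obj ((DRing.restrictD (f.app V).hom).obj N) :=
    e1 ≪≫ (DCoh.Rpush (Spec.map (f.app V))).mapIso eN.symm ≪≫ e2.app N
  have key := Groth.Agent.Lib.Helper1.Restrict.isPC_restrictD_iff (f.app V).hom hB N m
  constructor
  · intro h
    have h1 : DRing.IsPseudoCoherent _ m N :=
      isPC_of_isPseudoCoherentD_tildeD _ N m (isPseudoCoherentD_of_iso eN.symm m h)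
    exact isPseudoCoherentD_of_iso e.symm m (isPseudoCoherentD_tildeD_of_isPC _ _ m (key.1 h1))
  · intro h
    have h1 := isPC_of_isPseudoCoherentD_tildeD _ _ m (isPseudoCoherentD_of_iso e m h)
    exact isPseudoCoherentD_of_iso eN m (isPseudoCoherentD_tildeD_of_isPC _ N m (key.2 h1))

/-- for an affine morphism `f` with `f_* O_X` pseudo-coherent and `E ∈ D_QCoh(O_X)`:
`E` is `m`-pseudo-coherent iff `Rf_* E` is. -/
theorem isPseudoCoherentD_Rpush_iff [IsAffineHom f] [DCoh.HasRpush f]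
    (hO : ∀ m : ℤ, DCoh.IsPseudoCoherentD m
      (DCoh.inD Y ((pushforward f).obj (Coh.structureModule X))))
    (E : DCoh.D X) (hE : DCoh.IsQCohD E) (m : ℤ) :
    DCoh.IsPseudoCoherentD m E ↔ DCoh.IsPseudoCoherentD m ((DCoh.Rpush f).obj E) := by
  constructor
  · intro h
    rw [isPseudoCoherentD_iff]
    intro y
    obtain ⟨V, hV, hyV, -⟩ := exists_isAffineOpen_mem_and_subset (x := y) (U := ⊤) trivial
    have hU : IsAffineOpen (f ⁻¹ᵁ V) := hV.preimage f
    obtain ⟨y', hy'⟩ : y ∈ Set.range hV.fromSpec := by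
      rw [hV.range_fromSpec]
      exact hyV
    rw [← hy']
    exact locPCoh_of_isPseudoCoherentD_rD hV.fromSpec m _ y'
      ((isPseudoCoherentD_chart_iff f hV hU hO E hE m).1 (isPseudoCoherentD_rD hU.fromSpec m E h))
  · intro h
    rw [isPseudoCoherentD_iff]
    intro x
    obtain ⟨V, hV, hyV, -⟩ := exists_isAffineOpen_mem_and_subset (x := f x) (U := ⊤) trivial
    have hU : IsAffineOpen (f ⁻¹ᵁ V) := hV.preimage f
    obtain ⟨x', hx'⟩ : x ∈ Set.range hU.fromSpec := by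
      rw [hU.range_fromSpec]
      exact hyV
    rw [← hx']
    exact locPCoh_of_isPseudoCoherentD_rD hU.fromSpec m E x'
      ((isPseudoCoherentD_chart_iff f hV hU hO E hE m).2 (isPseudoCoherentD_rD hV.fromSpec m _ h))

end Groth.Agent.Lib.T2H2.FinPush
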