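import Groth.Agent.Lib.T2H1RelPCring
import Groth.Agent.Lib.T2H2FinPushC
import Groth.Agent.S6984

set_option autoImplicit false
set_option linter.style.haveILetI false
universe u
open CategoryTheory CategoryTheory.Limits AlgebraicGeometry Opposite TopologicalSpace

attribute [local instance] HasDerivedCategory.standard

namespace Groth.Agent.Lib.T2H1.RelPCpt

open Groth.Agent.Lib.T2H8.PCohTriangle Groth.Agent.Lib.T2H8.PerfLocal
  Groth.Agent.Lib.T2H8.PCohBdd Groth.Agent.Lib.T2H8.PCohBiprod Groth.Agent.Lib.T2H1.ClImmPC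
  Groth.Agent.Lib.T2H1.ChartIndep Groth.Agent.Lib.T2H1.ChartPC Groth.Agent.Lib.T2H2.TildeLoc
  Groth.Agent.Lib.Helper1.Restrict Groth.Agent.Lib.Helper1.RelPC
  Groth.Agent.Lib.T2H8.PCohRelBiprod Scheme.Modules DerivedCategory Pretriangulated

section Dict2

variable {X : Scheme.{u}} (E : DCoh.D X) (U : X.Opens) (hU : IsAffineOpen U)

/-- restriction to the affine chart, as restriction to `U` followed by the direct image along the
isomorphism `U ≅ Spec Γ(X, U)` -/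
noncomputable def rDFromSpecIso :
    haveI : IsClosedImmersion hU.isoSpec.hom := inferInstance
    rD U.ι ⋙ pD hU.isoSpec.hom ≅ rD hU.fromSpec :=
  haveI : IsClosedImmersion hU.isoSpec.hom := inferInstance
  mapDerivedCategoryCompIso (restrictFunctor U.ι) (pushforward hU.isoSpec.hom)
    (restrictFunctor hU.fromSpec)
    (Functor.isoWhiskerLeft _
        (Groth.Agent.Lib.T2H2.IsoBC.restrictIsoPushforward hU.isoSpec.symm).symm ≪≫
      (restrictFunctorComp hU.isoSpec.inv U.ι).symm ≪≫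
      restrictFunctorCongr hU.isoSpec_inv_ι)

/-- `Kd` in terms of a module model of the restriction of `E` to the affine chart -/
theorem nonempty_Kd_iso_tildeD' {R : Type u} [CommRing R] (lam : R →+* Γ(X, U))
    (hlam : Function.Surjective lam) (N : Dual.D Γ(X, U))
    (ε : (DCoh.tildeD (CommRingCat.of Γ(X, U))).obj N ≅ (rD hU.fromSpec).obj E) :
    Nonempty (Kd E U hU lam hlam ≅
      (DCoh.tildeD (CommRingCat.of R)).obj ((DRing.restrictD lam).obj N)) := by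
  haveI := isClosedImmersion_affImm U hU lam hlam
  haveI : IsClosedImmersion hU.isoSpec.hom := inferInstance
  haveI : IsClosedImmersion (Spec.map (CommRingCat.ofHom lam)) :=
    IsClosedImmersion.spec_of_surjective _ hlam
  have hcomp : hU.isoSpec.hom ≫ Spec.map (CommRingCat.ofHom lam) = affImm U lam := by
    rw [hU.isoSpec_hom]
    rfl
  have e1 : (pD (Spec.map (CommRingCat.ofHom lam))).obj
      ((pD hU.isoSpec.hom).obj ((rD U.ι).obj E)) ≅ Kd E U hU lam hlam :=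
    (pDComp hU.isoSpec.hom (Spec.map (CommRingCat.ofHom lam)) (affImm U lam) hcomp).app _
  have e2 : (pD hU.isoSpec.hom).obj ((rD U.ι).obj E) ≅ (rD hU.fromSpec).obj E :=
    (rDFromSpecIso U hU).app E
  have e4 := (tildeDPushIso lam hlam).app N
  exact ⟨e1.symm ≪≫ (pD (Spec.map (CommRingCat.ofHom lam))).mapIso (e2 ≪≫ ε.symm) ≪≫ e4⟩

end Dict2

section Main2

variable {X S : Scheme.{u}} (f : X ⟶ S) [LocallyOfFiniteType f] (E : DCoh.D X) (m : ℤ)

/-- ring-level form of relative pseudo-coherence over an affine pair, through a module model of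
the restriction of `E` to the affine chart -/
theorem forall_relPt_iff_isRelPseudoCoherent {U : X.Opens} (hU : IsAffineOpen U) {V : S.Opens}
    (hV : IsAffineOpen V) (h : U ≤ f ⁻¹ᵁ V) (N : Dual.D Γ(X, U))
    (ε : (DCoh.tildeD (CommRingCat.of Γ(X, U))).obj N ≅ (rD hU.fromSpec).obj E) :
    (∀ x : X, x ∈ U → RelPt f E m x) ↔
      (letI := (f.appLE V U h).hom.toAlgebra
       DerCA.IsRelPseudoCoherent Γ(S, V) Γ(X, U) m N) := by
  letI : Algebra Γ(S, V) Γ(X, U) := (f.appLE V U h).hom.toAlgebra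
  constructor
  · intro H
    obtain ⟨n, φ, hφ⟩ := exists_isChart f hU hV h
    have hP : DerSch.ChartPC m E U V φ := (chartPC_iff_forall_relPt f E m hU hV h φ hφ).2 H
    rw [chartPC_iff_forall_pwAt E m U hU V φ hφ.1, ← isPseudoCoherentD_Kd_iff] at hP
    obtain ⟨ι⟩ := nonempty_Kd_iso_tildeD' E U hU φ hφ.1 N ε
    have hpc := isPC_of_isPseudoCoherentD_tildeD _ _ m (isPseudoCoherentD_of_iso ι hP)
    let φ' : MvPolynomial (Fin n) Γ(S, V) →ₐ[Γ(S, V)] Γ(X, U) :=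
      { φ with
        commutes' := fun a => by
          have := congrArg (fun ψ => ψ a) hφ.2
          exact this }
    exact ⟨n, φ', hφ.1, hpc⟩
  · rintro ⟨n, α, hα, hvia⟩
    let φ : MvPolynomial (Fin n) Γ(S, V) →+* Γ(X, U) := α
    have hφs : Function.Surjective φ := hα
    have hφ : DerSch.IsChart f U V h φ := by
      refine ⟨hφs, ?_⟩
      ext a
      exact α.commutes a
    refine (chartPC_iff_forall_relPt f E m hU hV h φ hφ).1 ?_
    rw [chartPC_iff_forall_pwAt E m U hU V φ hφs, ← isPseudoCoherentD_Kd_iff]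
    obtain ⟨ι⟩ := nonempty_Kd_iso_tildeD' E U hU φ hφs N ε
    exact isPseudoCoherentD_of_iso ι.symm (isPseudoCoherentD_tildeD_of_isPC _ _ m hvia)

end Main2



open Groth.Agent.Lib.T2H8.PerfLocal Groth.Agent.Lib.T2H2.AffRed Groth.Agent.Lib.T2H2.FinPush
  Groth.Agent.Lib.T2H1.RpushSupport Groth.Agent.Lib.T2H2.TildeLoc

section Finite

variable {X Y S : Scheme.{u}} (q : Y ⟶ S) [LocallyOfFiniteType q] (π : X ⟶ Y) [IsFinite π]
  [LocallyOfFiniteType (π ≫ q)] [DCoh.HasRpush π] (m : ℤ) (E : DCoh.D X) (hE : DCoh.IsQCohD E)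

include hE in
theorem forall_relPt_finite_iff (V : S.affineOpens) (W : Y.affineOpens)
    (hWV : (W : Y.Opens) ≤ q ⁻¹ᵁ (V : S.Opens)) :
    (∀ x : X, x ∈ π ⁻¹ᵁ (W : Y.Opens) → RelPt (π ≫ q) E m x) ↔
      (∀ y : Y, y ∈ (W : Y.Opens) → RelPt q ((DCoh.Rpush π).obj E) m y) := by
  have hU : IsAffineOpen (π ⁻¹ᵁ (W : Y.Opens)) := W.2.preimage π
  have hUV : π ⁻¹ᵁ (W : Y.Opens) ≤ (π ≫ q) ⁻¹ᵁ (V : S.Opens) := fun x hx => hWV hx
  haveI := hasRpush (Spec.map (π.app (W : Y.Opens)))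
  haveI : DCoh.HasRpush (Spec.map (CommRingCat.ofHom
      (CommRingCat.Hom.hom (Scheme.Hom.app π (W : Y.Opens))))) := hasRpush _
  obtain ⟨N, ⟨eN⟩⟩ := exists_tildeD_iso Γ(X, π ⁻¹ᵁ (W : Y.Opens)) ((rD hU.fromSpec).obj E)
    (isQCohD_rD hU.fromSpec E hE)
  obtain ⟨e1⟩ := nonempty_rD_Rpush_chart_iso π W.2 hU E
  obtain ⟨e2⟩ := Groth.Agent.S7268.result (A := Γ(Y, (W : Y.Opens)))
    (B := Γ(X, π ⁻¹ᵁ (W : Y.Opens))) (π.app (W : Y.Opens)).hom
  let e : (DCoh.tildeD (CommRingCat.of Γ(Y, (W : Y.Opens)))).obj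
      ((DRing.restrictD (π.app (W : Y.Opens)).hom).obj N) ≅
      (rD W.2.fromSpec).obj ((DCoh.Rpush π).obj E) :=
    (e1 ≪≫ (DCoh.Rpush (Spec.map (π.app (W : Y.Opens)))).mapIso eN.symm ≪≫ e2.app N).symm
  rw [forall_relPt_iff_isRelPseudoCoherent (π ≫ q) E m hU V.2 hUV N eN,
    forall_relPt_iff_isRelPseudoCoherent q _ m W.2 V.2 hWV _ e]
  letI : Algebra Γ(S, (V : S.Opens)) Γ(Y, (W : Y.Opens)) :=
    (q.appLE (V : S.Opens) (W : Y.Opens) hWV).hom.toAlgebra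
  letI : Algebra Γ(Y, (W : Y.Opens)) Γ(X, π ⁻¹ᵁ (W : Y.Opens)) :=
    (π.app (W : Y.Opens)).hom.toAlgebra
  letI : Algebra Γ(S, (V : S.Opens)) Γ(X, π ⁻¹ᵁ (W : Y.Opens)) :=
    ((π ≫ q).appLE (V : S.Opens) (π ⁻¹ᵁ (W : Y.Opens)) hUV).hom.toAlgebra
  haveI : IsScalarTower Γ(S, (V : S.Opens)) Γ(Y, (W : Y.Opens)) Γ(X, π ⁻¹ᵁ (W : Y.Opens)) := by
    refine IsScalarTower.of_algebraMap_eq' ?_
    change ((π ≫ q).appLE (V : S.Opens) (π ⁻¹ᵁ (W : Y.Opens)) hUV).hom =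
      (π.app (W : Y.Opens)).hom.comp (q.appLE (V : S.Opens) (W : Y.Opens) hWV).hom
    rw [← CommRingCat.hom_comp, π.app_eq_appLE, Scheme.Hom.appLE_comp_appLE]
  haveI : Algebra.FiniteType Γ(S, (V : S.Opens)) Γ(Y, (W : Y.Opens)) :=
    LocallyOfFiniteType.finiteType_appLE q V.2 W.2 hWV
  haveI : Algebra.FiniteType Γ(S, (V : S.Opens)) Γ(X, π ⁻¹ᵁ (W : Y.Opens)) :=
    LocallyOfFiniteType.finiteType_appLE (π ≫ q) V.2 hU hUV
  haveI : Module.Finite Γ(Y, (W : Y.Opens)) Γ(X, π ⁻¹ᵁ (W : Y.Opens)) :=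
    IsFinite.finite_app π (W : Y.Opens) W.2
  exact (Groth.Agent.S6984.result (R := Γ(S, (V : S.Opens))) (A := Γ(Y, (W : Y.Opens)))
    (B := Γ(X, π ⁻¹ᵁ (W : Y.Opens))) N m).1

include hE in
theorem isPseudoCoherentRel_finite_iff :
    DerSch.IsPseudoCoherentRel (π ≫ q) m E ↔
      DerSch.IsPseudoCoherentRel q m ((DCoh.Rpush π).obj E) := by
  rw [isPseudoCoherentRel_iff_forall_relPt, isPseudoCoherentRel_iff_forall_relPt]
  have cov : ∀ y : Y, ∃ (V : S.affineOpens) (W : Y.affineOpens),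
      (W : Y.Opens) ≤ q ⁻¹ᵁ (V : S.Opens) ∧ y ∈ (W : Y.Opens) := by
    intro y
    obtain ⟨_, ⟨V, hV, rfl⟩, hyV, -⟩ :=
      S.isBasis_affineOpens.exists_subset_of_mem_open (Set.mem_univ (q y)) isOpen_univ
    obtain ⟨_, ⟨W, hW, rfl⟩, hyW, hWV⟩ :=
      Y.isBasis_affineOpens.exists_subset_of_mem_open
        (show y ∈ ((q ⁻¹ᵁ V : Y.Opens) : Set Y) from hyV) (q ⁻¹ᵁ V).isOpen
    exact ⟨⟨V, hV⟩, ⟨W, hW⟩, hWV, hyW⟩
  constructor
  · intro H y
    obtain ⟨V, W, hWV, hyW⟩ := cov y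
    exact (forall_relPt_finite_iff q π m E hE V W hWV).1 (fun x _ => H x) y hyW
  · intro H x
    obtain ⟨V, W, hWV, hxW⟩ := cov (π x)
    exact (forall_relPt_finite_iff q π m E hE V W hWV).2 (fun y _ => H y) x hxW

end Finite

end Groth.Agent.Lib.T2H1.RelPCpt
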