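import Groth.Agent.Lib.T2H2LpullAdjA
import Groth.Agent.Lib.Helper1Sky8
import Groth.Agent.Lib.T2H1RpushSupport

/-!
# The adjunction `Lf^* ⊣ Rf_*` on unbounded derived categories, for any morphism of schemes (T2H2)
-/

set_option autoImplicit false
set_option linter.style.haveILetI false
universe u
open CategoryTheory CategoryTheory.Limits AlgebraicGeometry

attribute [local instance] HasDerivedCategory.standard

namespace Groth.Agent.Lib.T2H2.LpullAdj

open Groth.Agent.Lib.Helper1.Sky Groth.Agent.Lib.Helper17.KInj Groth.Agent.Lib.Helper1.CI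
  Groth.Agent.Lib.Helper1.BKF

variable {X Y : Scheme.{u}} (f : X ⟶ Y)

section

variable [DCoh.HasLpull f]

/-- the counit of `Lf^*` on complexes, with target `f^* ⋙ Q`. -/
noncomputable def lpullα :
    (DerivedCategory.Q : CochainComplex Y.Modules ℤ ⥤ _) ⋙ DCoh.Lpull f ⟶
      (Scheme.Modules.pullback f).mapHomologicalComplex (ComplexShape.up ℤ) ⋙
        DerivedCategory.Q :=
  lpullCounit f ≫ (facIso f).hom

instance isLeftDerivedFunctor_lpullα :
    (DCoh.Lpull f).IsLeftDerivedFunctor (lpullα f)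
      (HomologicalComplex.quasiIso Y.Modules (ComplexShape.up ℤ)) := by
  have h := isLeftDerivedFunctor_lpull f
  constructor
  have h' := h.isRightKanExtension
  exact (Functor.isRightKanExtension_iff_of_iso₂ (lpullCounit f) (lpullα f) (facIso f)
    (Iso.refl _) (by
      ext K
      simp only [lpullα, Iso.refl_hom, Functor.whiskerLeft_id', Category.id_comp]
      rfl)).1 h'

end

section

variable [DCoh.HasRpush f]

/-- the unit of `Rf_*` on complexes. -/
noncomputable def rpushβ :
    (Scheme.Modules.pushforward f).mapHomologicalComplex (ComplexShape.up ℤ) ⋙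
      DerivedCategory.Q ⟶ (DerivedCategory.Q : CochainComplex X.Modules ℤ ⥤ _) ⋙ DCoh.Rpush f :=
  unitOfK (Scheme.Modules.pushforward f) (DCoh.Rpush f)
    ((DCoh.pushKh f).totalRightDerivedUnit DerivedCategory.Qh
      (HomotopyCategory.quasiIso X.Modules (ComplexShape.up ℤ)))

instance isRightDerivedFunctor_rpushβ :
    (DCoh.Rpush f).IsRightDerivedFunctor (rpushβ f)
      (HomologicalComplex.quasiIso X.Modules (ComplexShape.up ℤ)) :=
  isRightDerivedFunctor_unitOfK _ _ _

end

variable [DCoh.HasLpull f] [DCoh.HasRpush f]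

/-- `Lf^* ⊣ Rf_*` for an arbitrary morphism of schemes. -/
theorem nonempty_lpullAdj : Nonempty (DCoh.Lpull f ⊣ DCoh.Rpush f) := by
  obtain ⟨R, ψ, h⟩ : ∃ (R : CochainComplex Y.Modules ℤ ⥤ CochainComplex Y.Modules ℤ)
      (ψ : R ⟶ 𝟭 (CochainComplex Y.Modules ℤ)),
      ∀ G : CochainComplex Y.Modules ℤ, ModSite.IsKFlat (O := Y.sheaf) (R.obj G) ∧
        (∀ n : ℤ, ModSite.IsFlat (O := Y.sheaf) ((R.obj G).X n)) ∧ QuasiIso (ψ.app G) ∧
        ∀ n : ℤ, Epi ((ψ.app G).f n) := exists_functorial_kflat_flat_resolution Y.sheaf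
  exact ⟨derivedAdjunction.{u} (Scheme.Modules.pullback f) (Scheme.Modules.pushforward f)
    (Scheme.Modules.pullbackPushforwardAdjunction f) (DCoh.Lpull f) (lpullα f)
    (DCoh.Rpush f) (rpushβ f) (fun E => KFFs E) R ψ
    (fun G => ⟨(h G).1, (h G).2.1⟩) (fun G => (h G).2.2.1)
    (fun {E E'} q hE hE' hq => by
      haveI := hq
      exact quasiIso_pullC_map f q hE hE')⟩

end Groth.Agent.Lib.T2H2.LpullAdj
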