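import Groth.Agent.Lib.T2H1LocCan
import Groth.Agent.Lib.T2H2LpullAdjB

/-!
# `Lj^* ≅ j^*` for open immersions, and vanishing of `Lf^* S` over `f⁻¹ U` (helper1)

* `isZero_leftAdjoint_obj`, `isZero_rightAdjoint_obj`.
* `nonempty_lpull_iso_restrictD`: `Lj^* ≅ j^*` (restriction) for an open immersion `j`.
* `isZero_restrictD_Lpull`: if `S|_U = 0` then `(Lf^* S)|_{f⁻¹U} = 0`.
* `bijective_comp_Rpush_map_RgammaZToId`: for `S ∈ D(O_Y)` with `S|_U = 0`, composition with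
  `Rf_*(RΓ_{f⁻¹Z} K ⟶ K)` is a bijection `Hom(S, Rf_* RΓ_{f⁻¹Z} K) ≃ Hom(S, Rf_* K)`.
-/

set_option autoImplicit false
universe u
open CategoryTheory CategoryTheory.Limits CategoryTheory.Pretriangulated AlgebraicGeometry

attribute [local instance] HasDerivedCategory.standard

namespace Groth.Agent.Lib.T2H1.LpullOpen

open Scheme.Modules Groth.Agent.Lib.T2H1.MVTri Groth.Agent.Lib.T2H1.RpushSupport
  Groth.Agent.Lib.Helper17.KInj Groth.Agent.Lib.T2H1.LocCan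
  Groth.Agent.Lib.Helper1.Sky Groth.Agent.Lib.T2H2.LpullAdj

section Adj

variable {C D : Type*} [Category C] [Category D] [HasZeroObject C] [HasZeroObject D]
  {F : C ⥤ D} {G : D ⥤ C}

theorem isZero_leftAdjoint_obj (adj : F ⊣ G) {M : C} (h : IsZero M) : IsZero (F.obj M) := by
  haveI := adj.leftAdjoint_preservesColimits
  have hI : IsInitial (F.obj M) := IsInitial.isInitialObj F M h.isInitial
  exact IsZero.of_iso (isZero_zero D) (hI.uniqueUpToIso (isZero_zero D).isInitial)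

theorem isZero_rightAdjoint_obj (adj : F ⊣ G) {M : D} (h : IsZero M) : IsZero (G.obj M) := by
  haveI := adj.rightAdjoint_preservesLimits
  have hI : IsTerminal (G.obj M) := IsTerminal.isTerminalObj G M h.isTerminal
  exact IsZero.of_iso (isZero_zero C) (hI.uniqueUpToIso (isZero_zero C).isTerminal)

end Adj

attribute [local instance] Groth.Agent.Lib.T2H1.RpushSupport.hasRpush

variable {X Y : Scheme.{u}}

/-- `Lj^* ≅ j^*` for an open immersion. -/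
theorem nonempty_lpull_iso_restrictD (j : X ⟶ Y) [IsOpenImmersion j] [DCoh.HasLpull j] :
    Nonempty (DCoh.Lpull j ≅ DCoh.restrictD j) := by
  obtain ⟨adj₁⟩ := nonempty_lpullAdj j
  obtain ⟨β, hβ⟩ := exists_unit_Rpush j
  let adj₂ : DCoh.restrictD j ⊣ DCoh.Rpush j :=
    derivedAdjunction.{u} (restrictFunctor j) (pushforward j) (restrictAdjunction j)
      (DCoh.Rpush j) β
  exact ⟨adj₁.leftAdjointUniq adj₂⟩

theorem nonempty_lpull_congr {f g : X ⟶ Y} (h : f = g) [DCoh.HasLpull f] [DCoh.HasLpull g] :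
    Nonempty (DCoh.Lpull f ≅ DCoh.Lpull g) := by
  subst h
  exact ⟨Iso.refl _⟩

/-- if `S|_U = 0` then `(Lf^* S)|_{f⁻¹U} = 0`. -/
theorem isZero_restrictD_Lpull (f : X ⟶ Y) [DCoh.HasLpull f] (U : Y.Opens) (S : DCoh.D Y)
    (hS : IsZero ((DCoh.restrictD U.ι).obj S)) :
    IsZero ((DCoh.restrictD (f ⁻¹ᵁ U).ι).obj ((DCoh.Lpull f).obj S)) := by
  haveI : DCoh.HasLpull (f ⁻¹ᵁ U).ι := hasLpull _
  haveI : DCoh.HasLpull U.ι := hasLpull _
  haveI : DCoh.HasLpull (f ∣_ U) := hasLpull _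
  haveI : DCoh.HasLpull ((f ⁻¹ᵁ U).ι ≫ f) := hasLpull _
  haveI : DCoh.HasLpull ((f ∣_ U) ≫ U.ι) := hasLpull _
  obtain ⟨e₁⟩ := nonempty_lpull_iso_restrictD (f ⁻¹ᵁ U).ι
  obtain ⟨e₂⟩ := nonempty_lpull_iso_restrictD U.ι
  obtain ⟨c₁⟩ := nonempty_lpull_comp_iso (f ⁻¹ᵁ U).ι f
  obtain ⟨c₂⟩ := nonempty_lpull_comp_iso (f ∣_ U) U.ι
  obtain ⟨c₃⟩ := nonempty_lpull_congr (morphismRestrict_ι f U)
  obtain ⟨adj⟩ := nonempty_lpullAdj (f ∣_ U)
  have hz : IsZero ((DCoh.Lpull (f ∣_ U)).obj ((DCoh.Lpull U.ι).obj S)) :=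
    isZero_leftAdjoint_obj adj (IsZero.of_iso hS (e₂.app S))
  exact IsZero.of_iso hz ((e₁.app _).symm ≪≫ c₁.app S ≪≫ (c₃.app S).symm ≪≫ (c₂.app S).symm)

/-- for `S ∈ D(O_Y)` with `S|_U = 0`, composition with `Rf_*(RΓ_{f⁻¹Z} K ⟶ K)` is bijective. -/
theorem bijective_comp_Rpush_map_RgammaZToId (f : X ⟶ Y) [DCoh.HasRpush f] (U : Y.Opens)
    [CxOX.HasRgammaZ (f ⁻¹ᵁ U).ι] (K : DCoh.D X) (S : DCoh.D Y)
    (hS : IsZero ((DCoh.restrictD U.ι).obj S)) :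
    Function.Bijective (fun φ : S ⟶ (DCoh.Rpush f).obj ((CxOX.RgammaZ (f ⁻¹ᵁ U).ι).obj K) =>
      φ ≫ (DCoh.Rpush f).map ((CxOX.RgammaZToId (f ⁻¹ᵁ U).ι).app K)) := by
  haveI : DCoh.HasLpull f := hasLpull _
  obtain ⟨adj⟩ := nonempty_lpullAdj f
  have hb := bijective_comp_RgammaZToId (f ⁻¹ᵁ U) K ((DCoh.Lpull f).obj S)
    (isZero_restrictD_Lpull f U S hS)
  have key : (fun φ : S ⟶ (DCoh.Rpush f).obj ((CxOX.RgammaZ (f ⁻¹ᵁ U).ι).obj K) =>
      φ ≫ (DCoh.Rpush f).map ((CxOX.RgammaZToId (f ⁻¹ᵁ U).ι).app K)) =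
      (adj.homEquiv S K) ∘ (fun ψ : (DCoh.Lpull f).obj S ⟶ (CxOX.RgammaZ (f ⁻¹ᵁ U).ι).obj K =>
        ψ ≫ (CxOX.RgammaZToId (f ⁻¹ᵁ U).ι).app K) ∘ (adj.homEquiv S _).symm := by
    funext φ
    simp only [Function.comp_apply]
    rw [Adjunction.homEquiv_naturality_right, Equiv.apply_symm_apply]
  rw [key]
  exact (adj.homEquiv S K).bijective.comp (hb.comp (adj.homEquiv S _).symm.bijective)

end Groth.Agent.Lib.T2H1.LpullOpen
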