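import Mathlib
import Groth.Agent.Lib.Helper1TorJ

/-!
# Descent of pseudo-coherence along finite jointly surjective families of flat algebras (T2H2)
-/
set_option autoImplicit false
set_option linter.style.haveILetI false
universe u
open CategoryTheory CategoryTheory.Limits MonoidalCategory TensorProduct
attribute [local instance] HasDerivedCategory.standard

namespace Groth.Agent.Lib.T2H2.DescFamB

section Modules

variable {R : Type u} [CommRing R] {J : Type} (B : J → Type u) [∀ j, CommRing (B j)]
  [∀ j, Algebra R (B j)] [∀ j, Module.Flat R (B j)]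
  (hsurj : ∀ p : PrimeSpectrum R, ∃ (j : J) (q : PrimeSpectrum (B j)),
    q.comap (algebraMap R (B j)) = p)

include hsurj in
/-- vanishing of modules descends along a jointly surjective family of flat algebras. -/
theorem subsingleton_of_forall (H : Type u) [AddCommGroup H] [Module R H]
    (hz : ∀ j, Subsingleton (B j ⊗[R] H)) : Subsingleton H := by
  by_contra hH
  rw [not_subsingleton_iff_nontrivial] at hH
  obtain ⟨x, hx⟩ := exists_ne (0 : H)
  let φ : R →ₗ[R] H := LinearMap.toSpanSingleton R H x
  let I : Ideal R := LinearMap.ker φ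
  have hI : I ≠ ⊤ := by
    intro h
    have h1 : (1 : R) ∈ I := by rw [h]; trivial
    have h2 : φ 1 = 0 := h1
    simp [φ] at h2
    exact hx h2
  obtain ⟨𝔪, h𝔪, hI𝔪⟩ := Ideal.exists_le_maximal I hI
  obtain ⟨j, q, hq⟩ := hsurj ⟨𝔪, h𝔪.isPrime⟩
  -- the injection `R ⧸ I ↪ H`
  let ι : (R ⧸ I) →ₗ[R] H := Submodule.liftQ I φ le_rfl
  have hι : Function.Injective ι := by
    rw [← LinearMap.ker_eq_bot]
    exact Submodule.ker_liftQ_eq_bot _ _ _ le_rfl
  have hι' : Function.Injective (LinearMap.lTensor (B j) ι) :=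
    Module.Flat.lTensor_preserves_injective_linearMap ι hι
  haveI := hz j
  have hsub : Subsingleton (B j ⊗[R] (R ⧸ I)) := hι'.subsingleton
  have hsub2 : Subsingleton (B j ⧸ (I • ⊤ : Submodule R (B j))) :=
    (TensorProduct.tensorQuotEquivQuotSMul (B j) I).symm.injective.subsingleton
  rw [Submodule.Quotient.subsingleton_iff] at hsub2
  have hle : (I • ⊤ : Submodule R (B j)) ≤ q.asIdeal.restrictScalars R := by
    rw [Submodule.smul_le]
    intro r hr n _
    rw [Submodule.restrictScalars_mem, Algebra.smul_def]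
    apply Ideal.mul_mem_right
    have h1 : r ∈ 𝔪 := hI𝔪 hr
    have h2 : (q.comap (algebraMap R (B j))).asIdeal = 𝔪 := by rw [hq]
    rw [← h2] at h1
    exact h1
  have h1 : (1 : B j) ∈ q.asIdeal.restrictScalars R := hle (by rw [hsub2]; trivial)
  exact q.isPrime.ne_top ((Ideal.eq_top_iff_one _).2 h1)

include hsurj in
/-- finiteness of modules descends along a finite jointly surjective family of flat algebras. -/
theorem finite_of_forall [Finite J] (H : Type u) [AddCommGroup H] [Module R H]
    (hf : ∀ j, Module.Finite (B j) (B j ⊗[R] H)) : Module.Finite R H := by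
  classical
  haveI := Fintype.ofFinite J
  choose n s hs using fun j => Module.Finite.exists_fin (R := B j) (M := B j ⊗[R] H)
  choose k t m h using fun (x : Σ j, Fin (n j)) => TensorProduct.exists_sum_tmul_eq (s x.1 x.2)
  let f₀ : ((Σ x : (Σ j, Fin (n j)), Fin (k x)) → R) →ₗ[R] H :=
    (Pi.basisFun R _).constr R fun y => m y.1 y.2
  apply Module.Finite.of_surjective f₀
  have hsj : ∀ j, Function.Surjective (TensorProduct.AlgebraTensorModule.lTensor (B j) (B j) f₀) := by
    intro j
    rw [← LinearMap.range_eq_top, eq_top_iff, ← hs j, Submodule.span_le, Set.range_subset_iff]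
    intro i
    use ∑ (l : Fin (k ⟨j, i⟩)), t ⟨j, i⟩ l ⊗ₜ Pi.basisFun R _ ⟨⟨j, i⟩, l⟩
    simp [f₀, -Pi.basisFun_equivFun, -Pi.basisFun_apply, h ⟨j, i⟩]
  -- the cokernel of `f₀` vanishes
  have hcok : Subsingleton (H ⧸ LinearMap.range f₀) := by
    apply subsingleton_of_forall B hsurj
    intro j
    have h1 : Function.Surjective (LinearMap.lTensor (B j) (LinearMap.range f₀).mkQ) :=
      LinearMap.lTensor_surjective _ (Submodule.mkQ_surjective _)
    have h2 : (LinearMap.lTensor (B j) (LinearMap.range f₀).mkQ) ∘ₗ (LinearMap.lTensor (B j) f₀) = 0 := by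
      rw [← LinearMap.lTensor_comp, LinearMap.range_mkQ_comp, LinearMap.lTensor_zero]
    refine ⟨fun a b => ?_⟩
    obtain ⟨a', rfl⟩ := h1 a
    obtain ⟨b', rfl⟩ := h1 b
    obtain ⟨a'', rfl⟩ := hsj j a'
    obtain ⟨b'', rfl⟩ := hsj j b'
    have ha := LinearMap.congr_fun h2 a''
    have hb := LinearMap.congr_fun h2 b''
    simp only [LinearMap.comp_apply, LinearMap.zero_apply] at ha hb
    exact ha.trans hb.symm
  rw [Submodule.Quotient.subsingleton_iff, LinearMap.range_eq_top] at hcok
  exact hcok

end Modules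

section PC

open DerivedCategory Pretriangulated Groth.Agent.Lib.Helper21.DTrunc Groth.Agent.S14388
open Groth.Agent.Lib.Helper1.Cone Groth.Agent.Lib.Helper1.ProjRes ZeroObject
open Groth.Agent.Lib.Helper1.Extend Groth.Agent.Lib.Helper1.PC Groth.Agent.Lib.Helper1.PCTower
open Groth.Agent.Lib.Helper1.Restrict Groth.Agent.S7017 Groth.Agent.Lib.Helper1.Tor

variable {R : Type u} [CommRing R] {J : Type} (B : J → Type u) [∀ j, CommRing (B j)]
  [∀ j, Algebra R (B j)] [∀ j, Module.Flat R (B j)]
  (hsurj : ∀ p : PrimeSpectrum R, ∃ (j : J) (q : PrimeSpectrum (B j)),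
    q.comap (algebraMap R (B j)) = p)

include hsurj

lemma isZero_of_forall (H : ModuleCat.{u} R) (hz : ∀ j, IsZero ((ext R (B j)).obj H)) :
    IsZero H := by
  have : Subsingleton H := subsingleton_of_forall B hsurj H (fun j => by
    have h1 : Subsingleton ((ext R (B j)).obj H) := ModuleCat.subsingleton_of_isZero (hz j)
    exact (extEquiv (A := R) (B := B j) H).symm.injective.subsingleton)
  exact ModuleCat.isZero_of_subsingleton H

lemma finite_of_forall_ext [Finite J] (H : ModuleCat.{u} R)
    (hz : ∀ j, Module.Finite (B j) ((ext R (B j)).obj H)) : Module.Finite R H :=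
  finite_of_forall B hsurj H (fun j => by
    have := hz j
    exact Module.Finite.equiv (extEquiv (A := R) (B := B j) H))

lemma isLE_of_forall (X : Dual.D R) (n : ℤ) (h : ∀ j, ((extD R (B j)).obj X).IsLE n) :
    X.IsLE n := by
  rw [DerivedCategory.isLE_iff]
  intro i hi
  refine isZero_of_forall B hsurj _ (fun j => ?_)
  exact ((DerivedCategory.isLE_iff _ n).1 (h j) i hi).of_iso (homologyMapDIso (ext R (B j)) X i).symm

lemma isPC_aux [Finite J] (m : ℤ) (k : ℕ) : ∀ (K : Dual.D R) (n : ℤ),
    n < m + k → K.IsLE n → (∀ j, DRing.IsPseudoCoherent (B j) m ((extD R (B j)).obj K)) →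
    DRing.IsPseudoCoherent R m K := by
  induction k with
  | zero =>
    intro K n hn hK _
    have : K.IsLE (m - 1) := tt.isLE_of_le K n (m - 1) (by push_cast at hn; lia)
    exact isPC_of_isLE m K
  | succ k ih =>
    intro K n hn hK h
    by_cases hn' : n < m + k
    · exact ih K n hn' hK h
    have hmn : m ≤ n := by lia
    have hfinA : Module.Finite R ((homologyFunctor (ModuleCat.{u} R) n).obj K) := by
      refine finite_of_forall_ext B hsurj _ (fun j => ?_)
      have hKB : ((extD R (B j)).obj K).IsLE n := isLE_map (ext R (B j)) K n hK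
      have hfinB := (Groth.Agent.S2068.result ((extD R (B j)).obj K) n (isPC_mono hmn (h j))).1
        (fun i hi => (DerivedCategory.isLE_iff _ n).1 hKB i hi)
      exact Module.Finite.equiv (homologyMapDIso (ext R (B j)) K n).toLinearEquiv
    obtain ⟨F, ψ, hF, hψ⟩ := exists_single_conn K n hfinA
    obtain ⟨K', v, w, hT⟩ := distinguished_cocone_triangle ψ
    have hK' : K'.IsLE (n - 1) := (conn_iff_of_distTriang _ hT n).1 hψ
    have h' : ∀ j, DRing.IsPseudoCoherent (B j) m ((extD R (B j)).obj K') := by
      intro j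
      have hT' := (extD R (B j)).map_distinguished _ hT
      have h1 : DRing.IsPseudoCoherent (B j) (m + 1)
          ((extD R (B j)).obj ((DerivedCategory.singleFunctor (ModuleCat.{u} R) n).obj F)) :=
        isPC_of_iso (mapSingleIso (ext R (B j)) F n).symm
          (isPC_of_rep (m + 1) (rep_single _ (FF_ext F hF) n))
      exact isPC_obj₃ _ hT' m h1 (h j)
    have hK'pc := ih K' (n - 1) (by push_cast at hn; lia) hK' h'
    exact isPC_obj₂ _ hT m (isPC_of_rep m (rep_single F hF n)) hK'pc

/-- `m`-pseudo-coherence descends along a finite jointly surjective family of flat algebras. -/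
theorem isPC [Finite J] (K : Dual.D R) (m : ℤ)
    (h : ∀ j, DRing.IsPseudoCoherent (B j) m ((extD R (B j)).obj K)) :
    DRing.IsPseudoCoherent R m K := by
  have : Fintype J := Fintype.ofFinite J
  choose n hn using fun j => exists_isLE_of_isPC m _ (h j)
  set N : ℤ := ((Finset.univ.sup (fun j => (n j).toNat) : ℕ) : ℤ) with hN
  have hle : ∀ j, n j ≤ N := by
    intro j
    have h1 : (n j).toNat ≤ Finset.univ.sup (fun j => (n j).toNat) :=
      Finset.le_sup (f := fun j => (n j).toNat) (Finset.mem_univ j)
    have h2 : n j ≤ ((n j).toNat : ℤ) := Int.self_le_toNat (n j)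
    have h3 : ((n j).toNat : ℤ) ≤ N := by
      rw [hN]
      exact_mod_cast h1
    lia
  have hK : K.IsLE N := isLE_of_forall B hsurj K N (fun j => by
    have := hn j
    exact tt.isLE_of_le _ (n j) N (hle j))
  exact isPC_aux B hsurj m (N - m + 1).toNat K N (by lia) hK h

end PC

end Groth.Agent.Lib.T2H2.DescFamB
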