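import Groth.Agent.Lib.T2H4GammaDivOn
import Groth.Agent.Lib.Helper1LBC
import Groth.Agent.Lib.Helper1KF8

/-!
# `H^i_{IB}(K ⊗^L_A B) ≅ B ⊗_A H^i_I(K)` for flat maps of Noetherian rings (helper4)

Flat base change for `Γ_I` (`B ⊗ Γ_I M ≃ Γ_{IB}(B ⊗ M)`), divisibility modulo torsion for
`B ⊗ E` with `E` injective, derived base change along flat maps computed termwise.
-/

set_option autoImplicit false
universe u v w
open CategoryTheory CategoryTheory.Limits DerivedCategory
attribute [local instance] HasDerivedCategory.standard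

namespace Groth.Agent.Lib.T2H4.GNoeth

open Groth.Agent.Lib.Helper17.KInj Groth.Agent.Lib.T2H4.DComp Groth.Agent.Lib.T2H4.RGam
open Groth.Agent.Lib.Helper1.Extend Groth.Agent.Lib.Helper1.LDer
open TensorProduct ChangeOfRings

section Flat

variable {A B : Type u} [CommRing A] [CommRing B] [Algebra A B]

/-- pure tensors in `B ⊗_A M = (ext A B).obj M`. -/
noncomputable def tm (M : ModuleCat.{u} A) (b : B) (m : M) : (ext A B).obj M :=
  b ⊗ₜ[A, algebraMap A B] m

lemma smul_tm (M : ModuleCat.{u} A) (c b : B) (m : M) : c • tm M b m = tm M (c * b) m := rfl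

lemma map_tm {M N : ModuleCat.{u} A} (g : M ⟶ N) (b : B) (m : M) :
    ((ext A B).map g).hom (tm M b m) = tm N b (g.hom m) := rfl

lemma tm_smul (M : ModuleCat.{u} A) (a : A) (b : B) (m : M) :
    tm M b (a • m) = tm M (algebraMap A B a * b) m := by
  letI : Module A B := Module.compHom B (algebraMap A B)
  exact (TensorProduct.smul_tmul (R := A) (R' := A) (M := B) (N := M) a b m).symm

lemma tm_sub (M : ModuleCat.{u} A) (b : B) (m m' : M) :
    tm M b (m - m') = tm M b m - tm M b m' :=
  TensorProduct.tmul_sub _ _ _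

lemma tm_zero (M : ModuleCat.{u} A) (b : B) : tm M b (0 : M) = 0 :=
  TensorProduct.tmul_zero _ _

lemma ext_induction {M : ModuleCat.{u} A} {P : (ext A B).obj M → Prop} (h0 : P 0)
    (ht : ∀ (b : B) (m : M), P (tm M b m))
    (ha : ∀ x y, P x → P y → P (x + y)) (x : (ext A B).obj M) : P x :=
  TensorProduct.induction_on x h0 ht ha

/-- `a • -` on `B ⊗ M` is induced by `a • -` on `M`. -/
lemma ext_map_smul_apply (M : ModuleCat.{u} A) (a : A) (x : (ext A B).obj M) :
    ((ext A B).map (ModuleCat.ofHom (a • LinearMap.id : M →ₗ[A] M))).hom x =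
      algebraMap A B a • x := by
  induction x using ext_induction with
  | h0 => rw [map_zero, smul_zero]
  | ht b m =>
    rw [map_tm, smul_tm]
    exact tm_smul M a b m
  | ha x y hx hy => rw [map_add, hx, hy, smul_add]

/-- the map `m ↦ (a • m)_{a ∈ s}`. -/
def gs (s : Finset A) (M : ModuleCat.{u} A) : M →ₗ[A] (s → M) :=
  LinearMap.pi (fun a : s => ((a : A) • LinearMap.id : M →ₗ[A] M))

lemma mem_ker_gs (s : Finset A) (M : ModuleCat.{u} A) (m : M) :
    m ∈ LinearMap.ker (gs s M) ↔ ∀ a ∈ s, a • m = 0 := by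
  rw [LinearMap.mem_ker]
  constructor
  · intro h a ha
    exact congrFun h ⟨a, ha⟩
  · intro h
    funext a
    exact h a.1 a.2

open scoped Classical in
lemma sum_proj_single (s : Finset A) (M : ModuleCat.{u} A) :
    𝟙 (ModuleCat.of A (s → M)) =
      ∑ i : s, ModuleCat.ofHom (LinearMap.proj (R := A) (φ := fun _ : s => M) i) ≫
        ModuleCat.ofHom (LinearMap.single A (fun _ : s => M) i) := by
  classical
  apply ModuleCat.hom_ext
  apply LinearMap.ext
  intro (v : s → M)
  rw [ModuleCat.hom_sum, LinearMap.sum_apply]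
  show v = ∑ i : s, Pi.single i (v i)
  exact (Finset.univ_sum_single v).symm

/-- flatness: elements of `B ⊗ M` killed by `s` come from `B ⊗ M[s]`. -/
lemma exists_of_smul_eq_zero [Module.Flat A B] (M : ModuleCat.{u} A) (s : Finset A)
    (x : (ext A B).obj M) (hx : ∀ a ∈ s, algebraMap A B a • x = 0) :
    ∃ y : (ext A B).obj (ModuleCat.of A (LinearMap.ker (gs s M))),
      ((ext A B).map (ModuleCat.ofHom (LinearMap.ker (gs s M)).subtype)).hom y = x := by
  classical
  let S : ShortComplex (ModuleCat.{u} A) :=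
    ShortComplex.mk (ModuleCat.ofHom (LinearMap.ker (gs s M)).subtype) (ModuleCat.ofHom (gs s M))
      (by
        apply ModuleCat.hom_ext
        apply LinearMap.ext
        intro y
        exact y.2)
  have hS : S.Exact := by
    rw [ShortComplex.moduleCat_exact_iff]
    intro (x₂ : M) hx₂
    exact ⟨(⟨x₂, hx₂⟩ : LinearMap.ker (gs s M)), rfl⟩
  have hS' : (S.map (ext A B)).Exact := hS.map (ext A B)
  rw [ShortComplex.moduleCat_exact_iff] at hS'
  apply hS' x
  show ((ext A B).map (ModuleCat.ofHom (gs s M))).hom x = 0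
  set y := ((ext A B).map (ModuleCat.ofHom (gs s M))).hom x with hy
  have h1 : ∀ i : s, ((ext A B).map (ModuleCat.ofHom
      (LinearMap.proj (R := A) (φ := fun _ : s => M) i))).hom y = 0 := by
    intro i
    have h2 : ModuleCat.ofHom (gs s M) ≫ ModuleCat.ofHom
        (LinearMap.proj (R := A) (φ := fun _ : s => M) i) =
        ModuleCat.ofHom (((i : A) • LinearMap.id : M →ₗ[A] M)) := rfl
    have h3 : ((ext A B).map (ModuleCat.ofHom (gs s M)) ≫ (ext A B).map (ModuleCat.ofHom
        (LinearMap.proj (R := A) (φ := fun _ : s => M) i))).hom x = algebraMap A B i • x := by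
      rw [← Functor.map_comp, h2]
      exact ext_map_smul_apply M i x
    rw [hx i.1 i.2] at h3
    exact h3
  have h4 : y = ((ext A B).map (𝟙 (ModuleCat.of A (s → M)))).hom y := by
    rw [CategoryTheory.Functor.map_id]
    rfl
  rw [h4, sum_proj_single, Functor.map_sum, ModuleCat.hom_sum, LinearMap.sum_apply]
  apply Finset.sum_eq_zero
  intro i _
  rw [Functor.map_comp]
  show ((ext A B).map (ModuleCat.ofHom (LinearMap.single A (fun _ : s => M) i))).hom
    (((ext A B).map (ModuleCat.ofHom (LinearMap.proj (R := A) (φ := fun _ : s => M) i))).hom y) = 0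
  rw [h1 i, map_zero]

end Flat

section Tors

variable {A B : Type u} [CommRing A] [CommRing B] [Algebra A B]

/-- elements killed by `φ(I^n)` are `IB`-power torsion. -/
lemma mem_torsionSub_map_of {N : ModuleCat.{u} B} (I : Ideal A) (x : N) (n : ℕ)
    (h : ∀ a ∈ I ^ n, algebraMap A B a • x = 0) :
    x ∈ DRing.torsionSub (I.map (algebraMap A B)) N :=
  (mem_torsionSub_restrict_iff (algebraMap A B) I N x).1 ⟨n, fun a ha => h a ha⟩

lemma exists_of_mem_torsionSub_map {N : ModuleCat.{u} B} (I : Ideal A) (x : N)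
    (h : x ∈ DRing.torsionSub (I.map (algebraMap A B)) N) :
    ∃ n : ℕ, ∀ a ∈ I ^ n, algebraMap A B a • x = 0 := by
  obtain ⟨n, hn⟩ := (mem_torsionSub_restrict_iff (algebraMap A B) I N x).2 h
  exact ⟨n, fun a ha => hn a ha⟩

lemma ker_gs_le_torsionSub (I : Ideal A) (M : ModuleCat.{u} A) (n : ℕ) (s : Finset A)
    (hs : Ideal.span (s : Set A) = I ^ n) :
    LinearMap.ker (gs s M) ≤ DRing.torsionSub I M := by
  intro m hm
  rw [mem_ker_gs] at hm
  refine ⟨n, fun a ha => ?_⟩
  rw [← hs] at ha
  refine Submodule.span_induction (p := fun a _ => a • m = 0) ?_ ?_ ?_ ?_ ha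
  · intro a ha
    exact hm a ha
  · exact zero_smul _ _
  · intro a b _ _ ha hb
    rw [add_smul, ha, hb, add_zero]
  · intro c a _ ha
    rw [smul_eq_mul, mul_smul, ha, smul_zero]

lemma map_subtype_mem_torsionSub (I : Ideal A) (M : ModuleCat.{u} A)
    (y : (ext A B).obj (ModuleCat.of A (DRing.torsionSub I M))) :
    ((ext A B).map (ModuleCat.ofHom (DRing.torsionSub I M).subtype)).hom y ∈
      DRing.torsionSub (I.map (algebraMap A B)) ((ext A B).obj M) := by
  induction y using ext_induction with
  | h0 =>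
    rw [map_zero]
    exact Submodule.zero_mem _
  | ht b m =>
    rw [map_tm]
    obtain ⟨n, hn⟩ := m.2
    apply mem_torsionSub_map_of I _ n
    intro a ha
    rw [smul_tm, ← tm_smul]
    show tm M b (a • m.1) = 0
    rw [hn a ha, tm_zero]
  | ha x y hx hy =>
    rw [map_add]
    exact Submodule.add_mem _ hx hy

lemma mem_torsionSub_ext_iff [IsNoetherianRing A] [Module.Flat A B] (I : Ideal A)
    (M : ModuleCat.{u} A) (x : (ext A B).obj M) :
    x ∈ DRing.torsionSub (I.map (algebraMap A B)) ((ext A B).obj M) ↔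
      ∃ y : (ext A B).obj (ModuleCat.of A (DRing.torsionSub I M)),
        ((ext A B).map (ModuleCat.ofHom (DRing.torsionSub I M).subtype)).hom y = x := by
  constructor
  · intro hx
    obtain ⟨n, hn⟩ := exists_of_mem_torsionSub_map I x hx
    obtain ⟨s, hs⟩ := (isNoetherianRing_iff_ideal_fg A).1 inferInstance (I ^ n)
    obtain ⟨y, hy⟩ := exists_of_smul_eq_zero M s x
      (fun a ha => hn a (hs ▸ Ideal.subset_span ha))
    have hle := ker_gs_le_torsionSub I M n s hs
    let incl : LinearMap.ker (gs s M) →ₗ[A] DRing.torsionSub I M := Submodule.inclusion hle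
    have hfac : ModuleCat.ofHom (LinearMap.ker (gs s M)).subtype =
        ModuleCat.ofHom incl ≫ ModuleCat.ofHom (DRing.torsionSub I M).subtype := rfl
    refine ⟨((ext A B).map (ModuleCat.ofHom incl)).hom y, ?_⟩
    rw [← hy, hfac, Functor.map_comp]
    rfl
  · rintro ⟨y, rfl⟩
    exact map_subtype_mem_torsionSub I M y

/-- `B ⊗ E` has the divisibility property along `A → B`, for `E` injective and `B` flat. -/
lemma divMφ_ext [IsNoetherianRing A] [Module.Flat A B] (E : ModuleCat.{u} A)
    [Module.Injective A E] : DivMφ (algebraMap A B) ((ext A B).obj E) := by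
  intro I₀ a w hw k
  obtain ⟨y, rfl⟩ := (mem_torsionSub_ext_iff I₀ E w).1 hw
  have key : ∀ y : (ext A B).obj (ModuleCat.of A (DRing.torsionSub I₀ E)),
      ∃ (y' : (ext A B).obj (ModuleCat.of A (DRing.torsionSub I₀ E))) (N : ℕ),
        (algebraMap A B a) ^ N • (y - (algebraMap A B a) ^ k • y') = 0 := by
    intro y
    induction y using ext_induction with
    | h0 => exact ⟨0, 0, by rw [smul_zero, sub_zero, smul_zero]⟩
    | ht b e =>
      obtain ⟨e', he't, N, hN⟩ := exists_div I₀ a E e.1 e.2 k
      refine ⟨tm _ b ⟨e', he't⟩, N, ?_⟩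
      have h1 : (algebraMap A B a) ^ k •
          tm (ModuleCat.of A (DRing.torsionSub I₀ E)) b ⟨e', he't⟩ =
          tm _ b (a ^ k • (⟨e', he't⟩ : DRing.torsionSub I₀ E)) := by
        rw [smul_tm, tm_smul, map_pow]
      rw [h1, ← tm_sub]
      have h2 : (algebraMap A B a) ^ N •
          tm (ModuleCat.of A (DRing.torsionSub I₀ E)) b (e - a ^ k • ⟨e', he't⟩) =
          tm _ b (a ^ N • (e - a ^ k • ⟨e', he't⟩)) := by
        rw [smul_tm, tm_smul, map_pow]
      rw [h2]
      have h3 : a ^ N • (e - a ^ k • (⟨e', he't⟩ : DRing.torsionSub I₀ E)) = 0 :=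
        Subtype.ext hN
      rw [h3, tm_zero]
    | ha x y hx hy =>
      obtain ⟨x', N₁, h₁⟩ := hx
      obtain ⟨y', N₂, h₂⟩ := hy
      refine ⟨x' + y', N₁ + N₂, ?_⟩
      have h3 : x + y - (algebraMap A B a) ^ k • (x' + y') =
          (x - (algebraMap A B a) ^ k • x') + (y - (algebraMap A B a) ^ k • y') := by
        rw [smul_add]
        abel
      have hX : (algebraMap A B a) ^ (N₁ + N₂) • (x - (algebraMap A B a) ^ k • x') = 0 := by
        rw [pow_add, mul_comm, mul_smul, h₁, smul_zero]
      have hY : (algebraMap A B a) ^ (N₁ + N₂) • (y - (algebraMap A B a) ^ k • y') = 0 := by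
        rw [pow_add, mul_smul, h₂, smul_zero]
      rw [h3, smul_add, hX, hY, add_zero]
  obtain ⟨y', N, hN⟩ := key y
  refine ⟨_, map_subtype_mem_torsionSub I₀ E y', N, ?_⟩
  have h4 := congrArg
    ((ext A B).map (ModuleCat.ofHom (DRing.torsionSub I₀ E).subtype)).hom hN
  rw [map_smul, map_sub, map_smul, map_zero] at h4
  exact h4

/-- `B ⊗ Γ_I M ≃ Γ_{IB}(B ⊗ M)` for `B` flat over Noetherian `A`. -/
noncomputable def extTorsionEquiv [IsNoetherianRing A] [Module.Flat A B] (I : Ideal A)
    (M : ModuleCat.{u} A) :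
    (ext A B).obj (ModuleCat.of A (DRing.torsionSub I M)) ≃ₗ[B]
      DRing.torsionSub (I.map (algebraMap A B)) ((ext A B).obj M) :=
  LinearEquiv.ofBijective
    (LinearMap.codRestrict _
      ((ext A B).map (ModuleCat.ofHom (DRing.torsionSub I M).subtype)).hom
      (map_subtype_mem_torsionSub I M))
    ⟨by
      haveI : Mono (ModuleCat.ofHom (DRing.torsionSub I M).subtype) :=
        (ModuleCat.mono_iff_injective _).2 (DRing.torsionSub I M).injective_subtype
      have hm : Mono ((ext A B).map (ModuleCat.ofHom (DRing.torsionSub I M).subtype)) :=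
        inferInstance
      have hinj := (ModuleCat.mono_iff_injective _).1 hm
      intro y y' h
      exact hinj (congrArg Subtype.val h),
     by
      rintro ⟨x, hx⟩
      obtain ⟨y, hy⟩ := (mem_torsionSub_ext_iff I M x).1 hx
      exact ⟨y, Subtype.ext hy⟩⟩

/-- `(Γ_I C) ⊗ B ≅ Γ_{IB}(C ⊗ B)` for complexes. -/
noncomputable def gammaExtIso [IsNoetherianRing A] [Module.Flat A B] (I : Ideal A)
    (C : CochainComplex (ModuleCat.{u} A) ℤ) :
    (bcCx (algebraMap A B)).obj ((gammaCx I).obj C) ≅
      (gammaCx (I.map (algebraMap A B))).obj ((bcCx (algebraMap A B)).obj C) :=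
  HomologicalComplex.Hom.isoOfComponents
    (fun n => (extTorsionEquiv I (C.X n)).toModuleIso) (by
      intro i j _
      apply ModuleCat.hom_ext
      apply LinearMap.ext
      intro (y : (ext A B).obj (ModuleCat.of A (DRing.torsionSub I (C.X i))))
      apply Subtype.ext
      show ((ext A B).map (C.d i j)).hom
          (((ext A B).map (ModuleCat.ofHom (DRing.torsionSub I (C.X i)).subtype)).hom y) =
        ((ext A B).map (ModuleCat.ofHom (DRing.torsionSub I (C.X j)).subtype)).hom
          (((ext A B).map ((DRing.gammaI I).map (C.d i j))).hom y)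
      have h1 : (ext A B).map ((DRing.gammaIι I).app (C.X i)) ≫ (ext A B).map (C.d i j) =
          (ext A B).map ((DRing.gammaI I).map (C.d i j)) ≫
            (ext A B).map ((DRing.gammaIι I).app (C.X j)) := by
        rw [← Functor.map_comp, ← Functor.map_comp]
        exact congrArg (ext A B).map ((DRing.gammaIι I).naturality (C.d i j)).symm
      exact congrArg (fun t => t.hom y) h1)

end Tors

section Congr

variable {A B : Type u} [CommRing A] [CommRing B] (φ : A →+* B)

/-- pure tensors in `(extendScalars φ).obj M`, any universe. -/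
noncomputable def tmG (M : ModuleCat.{v} A) (b : B) (m : M) :
    (ModuleCat.extendScalars φ).obj M :=
  b ⊗ₜ[A, φ] m

lemma smul_tmG (M : ModuleCat.{v} A) (c b : B) (m : M) :
    c • tmG φ M b m = tmG φ M (c * b) m := rfl

lemma inductionG {M : ModuleCat.{v} A} {P : (ModuleCat.extendScalars φ).obj M → Prop} (h0 : P 0)
    (ht : ∀ (b : B) (m : M), P (tmG φ M b m))
    (ha : ∀ x y, P x → P y → P (x + y)) (x : (ModuleCat.extendScalars φ).obj M) : P x :=
  TensorProduct.induction_on x h0 ht ha

/-- the map `B ⊗ M → B ⊗ N` induced by a linear map, across universes. -/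
noncomputable def escFun {M : ModuleCat.{v} A} {N : ModuleCat.{w} A} (e : M →ₗ[A] N) :
    (ModuleCat.extendScalars φ).obj M → (ModuleCat.extendScalars φ).obj N :=
  fun x => LinearMap.lTensor ((ModuleCat.restrictScalars φ).obj (ModuleCat.of B B)) e x

lemma escFun_add {M : ModuleCat.{v} A} {N : ModuleCat.{w} A} (e : M →ₗ[A] N)
    (x y : (ModuleCat.extendScalars φ).obj M) :
    escFun φ e (x + y) = escFun φ e x + escFun φ e y :=
  map_add (LinearMap.lTensor ((ModuleCat.restrictScalars φ).obj (ModuleCat.of B B)) e) x y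

lemma escFun_zero {M : ModuleCat.{v} A} {N : ModuleCat.{w} A} (e : M →ₗ[A] N) :
    escFun φ e (0 : (ModuleCat.extendScalars φ).obj M) = 0 :=
  map_zero (LinearMap.lTensor ((ModuleCat.restrictScalars φ).obj (ModuleCat.of B B)) e)

lemma escFun_tmG {M : ModuleCat.{v} A} {N : ModuleCat.{w} A} (e : M →ₗ[A] N) (b : B) (m : M) :
    escFun φ e (tmG φ M b m) = tmG φ N b (e m) := rfl

lemma escFun_smul {M : ModuleCat.{v} A} {N : ModuleCat.{w} A} (e : M →ₗ[A] N) (b : B)
    (x : (ModuleCat.extendScalars φ).obj M) : escFun φ e (b • x) = b • escFun φ e x := by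
  induction x using inductionG with
  | h0 => rw [smul_zero, escFun_zero, smul_zero]
  | ht b' m => rw [smul_tmG, escFun_tmG, escFun_tmG, smul_tmG]
  | ha x y hx hy => rw [smul_add, escFun_add, hx, hy, escFun_add, smul_add]

lemma escFun_comp {M : ModuleCat.{v} A} {N : ModuleCat.{w} A}
    (e : M →ₗ[A] N) (e' : N →ₗ[A] M) (h : e' ∘ₗ e = LinearMap.id)
    (x : (ModuleCat.extendScalars φ).obj M) : escFun φ e' (escFun φ e x) = x := by
  induction x using inductionG with
  | h0 => rw [escFun_zero, escFun_zero]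
  | ht b m =>
    rw [escFun_tmG, escFun_tmG]
    have h1 : e' (e m) = m := congrArg (fun t => t m) h
    rw [h1]
  | ha x y hx hy => rw [escFun_add, escFun_add, hx, hy]

/-- extension of scalars of a linear equivalence, across universes. -/
noncomputable def extendScalarsCongr {M : ModuleCat.{v} A} {N : ModuleCat.{w} A}
    (e : M ≃ₗ[A] N) :
    (ModuleCat.extendScalars φ).obj M ≃ₗ[B] (ModuleCat.extendScalars φ).obj N where
  toFun := escFun φ e.toLinearMap
  invFun := escFun φ e.symm.toLinearMap
  map_add' := escFun_add φ e.toLinearMap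
  map_smul' := escFun_smul φ e.toLinearMap
  left_inv := escFun_comp φ e.toLinearMap e.symm.toLinearMap (by
    apply LinearMap.ext
    intro m
    exact e.symm_apply_apply m)
  right_inv := escFun_comp φ e.symm.toLinearMap e.toLinearMap (by
    apply LinearMap.ext
    intro m
    exact e.apply_symm_apply m)

end Congr

section Thm

variable (A B : Type u) [CommRing A] [CommRing B] [Algebra A B]

/-- derived base change along a flat map is computed termwise. -/
theorem nonempty_lbcFlatIso [Module.Flat A B] [DRing.HasLBaseChange (algebraMap A B)]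
    (C : CochainComplex (ModuleCat.{u} A) ℤ) :
    Nonempty ((DRing.LBaseChange (algebraMap A B)).obj ((Q : _ ⥤ Dual.D A).obj C) ≅
      (Q : _ ⥤ Dual.D B).obj ((bcCx (algebraMap A B)).obj C)) := by
  obtain ⟨P, π, hP, _, hπ, _⟩ := Groth.Agent.Lib.Helper1.KF.exists_kprojective_resolution C
  haveI := hP
  haveI := hπ
  haveI : IsIso ((Q : _ ⥤ Dual.D A).map π) := by
    rw [DerivedCategory.isIso_Q_map_iff_quasiIso]
    infer_instance
  haveI : QuasiIso ((bcCx (algebraMap A B)).map π) := inferInstance
  haveI : IsIso ((Q : _ ⥤ Dual.D B).map ((bcCx (algebraMap A B)).map π)) := by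
    rw [DerivedCategory.isIso_Q_map_iff_quasiIso]
    infer_instance
  exact ⟨(DRing.LBaseChange (algebraMap A B)).mapIso (asIso ((Q : _ ⥤ Dual.D A).map π)).symm ≪≫
    lbcIso (algebraMap A B) P ≪≫
    asIso ((Q : _ ⥤ Dual.D B).map ((bcCx (algebraMap A B)).map π))⟩

variable [IsNoetherianRing A] [IsNoetherianRing B] [Module.Flat A B]
  [DRing.HasLBaseChange (algebraMap A B)]

/-- **`H^i_{IB}(K ⊗^L_A B) ≅ B ⊗_A H^i_I(K)`** for `A → B` flat, Noetherian rings. -/
theorem nonempty_HDI_flat_iso (I : Ideal A) (K : Dual.D A) (i : ℤ) :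
    Nonempty (Dual2.HDI B (I.map (algebraMap A B))
        ((DRing.LBaseChange (algebraMap A B)).obj K) i ≅
      (ModuleCat.extendScalars (algebraMap A B)).obj (Dual2.HDI A I K i)) := by
  obtain ⟨JA, hJA, ⟨e⟩⟩ := exists_fibrant K
  haveI : JA.IsKInjective := hJA.isKInjective
  let C : CochainComplex (ModuleCat.{u} B) ℤ := (bcCx (algebraMap A B)).obj JA
  let JB := (fibRepl₀.{u} (ModuleCat.{u} B)).obj C
  let q : C ⟶ JB := (fibReplι₀.{u} (ModuleCat.{u} B)).app C
  have hJB : fibrant.{u} (ModuleCat.{u} B) JB := fibrant_fibRepl₀ _ C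
  haveI : QuasiIso q := (trivCof_fibReplι₀ _ C).2
  haveI : JB.IsKInjective := hJB.isKInjective
  haveI : IsIso ((Q : _ ⥤ Dual.D B).map q) := by
    rw [DerivedCategory.isIso_Q_map_iff_quasiIso]
    infer_instance
  obtain ⟨e1⟩ := nonempty_lbcFlatIso A B JA
  let eB : (DRing.LBaseChange (algebraMap A B)).obj K ≅ (Q : _ ⥤ Dual.D B).obj JB :=
    (DRing.LBaseChange (algebraMap A B)).mapIso e ≪≫ e1 ≪≫ asIso ((Q : _ ⥤ Dual.D B).map q)
  let ea := HDIEquivHq (I.map (algebraMap A B)) _ JB eB i
  let eb := (homologyEquiv ((gammaCx (I.map (algebraMap A B))).obj JB) i).symm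
  have hdivC : ∀ n, DivMφ (algebraMap A B) (C.X n) := by
    intro n
    haveI : Injective (ModuleCat.of A (JA.X n)) := injective_X_of_rlp hJA n
    haveI : Module.Injective A (JA.X n) := Module.injective_module_of_injective_object A (JA.X n)
    exact divMφ_ext (JA.X n)
  have hdivJB : ∀ n, DivMφ (algebraMap A B) (JB.X n) := by
    intro n
    haveI : Injective (ModuleCat.of B (JB.X n)) := injective_X_of_rlp hJB n
    haveI : Module.Injective B (JB.X n) := Module.injective_module_of_injective_object B (JB.X n)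
    exact DivMφ.of_divM (divM_of_injective (JB.X n))
  haveI : QuasiIso ((gammaCx (I.map (algebraMap A B))).map q) :=
    quasiIso_gammaCx_map_of_divAt (algebraMap A B) I q
      (divAt_of_forall _ (divMφ_mappingCone_X q hdivC hdivJB))
  haveI : IsIso ((Q : _ ⥤ Dual.D B).map ((gammaCx (I.map (algebraMap A B))).map q)) := by
    rw [DerivedCategory.isIso_Q_map_iff_quasiIso]
    infer_instance
  let ec := ((DerivedCategory.homologyFunctor (ModuleCat.{u} B) i).mapIso
    (asIso ((Q : _ ⥤ Dual.D B).map
      ((gammaCx (I.map (algebraMap A B))).map q)))).symm.toLinearEquiv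
  let ed := ((DerivedCategory.homologyFunctor (ModuleCat.{u} B) i).mapIso
    ((Q : _ ⥤ Dual.D B).mapIso (gammaExtIso (B := B) I JA))).symm.toLinearEquiv
  let ee := ((DerivedCategory.homologyFunctor (ModuleCat.{u} B) i).mapIso
    ((ext A B).mapDerivedCategoryFactors.app ((gammaCx I).obj JA)).symm).toLinearEquiv
  let ef := (homologyMapDIso (ext A B)
    ((Q : _ ⥤ Dual.D A).obj ((gammaCx I).obj JA)) i).toLinearEquiv
  let eA := (HDIEquivHq I K JA e i).trans (homologyEquiv ((gammaCx I).obj JA) i).symm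
  let eg := extendScalarsCongr (algebraMap A B) eA.symm
  exact ⟨(ea.trans (eb.trans (ec.trans (ed.trans (ee.trans (ef.trans eg)))))).toModuleIso⟩

end Thm

end Groth.Agent.Lib.T2H4.GNoeth
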