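import Groth.Agent.Lib.T2H2AffRedB
import Groth.Agent.Lib.T2H2DescFamB
import Groth.Agent.Lib.T2H1LpullOpen
import Groth.Agent.Lib.T2H4HDIFlat
import Groth.Agent.Lib.T2H4LDerExist
import Groth.Agent.S1055

/-!
# fpqc descent of pseudo-coherence for objects of `D_QCoh`: the chart computation (T2H2)
-/

set_option autoImplicit false
set_option linter.style.haveILetI false
universe u
open CategoryTheory CategoryTheory.Limits AlgebraicGeometry Opposite

attribute [local instance] HasDerivedCategory.standard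

namespace Groth.Agent.Lib.T2H2.FpqcPCoh

open Groth.Agent.Lib.T2H8.SchLocHtpy Groth.Agent.Lib.T2H8.PerfLocal
  Groth.Agent.Lib.T2H2.AffRed Groth.Agent.Lib.T2H2.TildeLoc Groth.Agent.Lib.Helper1.Sky
  Groth.Agent.Lib.T2H1.LpullOpen Groth.Agent.Lib.Helper1.Extend

variable {X' X : Scheme.{u}} (f : X' ⟶ X) [DCoh.HasLpull f]

/-- the restriction of `Lf^* E` to a chart of `X'` lying over a chart of `X`. -/
theorem nonempty_rD_lpull_iso {U' U : Scheme.{u}} (k : U' ⟶ X') [IsOpenImmersion k]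
    (j : U ⟶ X) [IsOpenImmersion j] (g : U' ⟶ U) (hg : g ≫ j = k ≫ f) [DCoh.HasLpull g]
    (E : DCoh.D X) :
    Nonempty ((rD k).obj ((DCoh.Lpull f).obj E) ≅ (DCoh.Lpull g).obj ((rD j).obj E)) := by
  haveI : DCoh.HasLpull k := hasLpull _
  haveI : DCoh.HasLpull j := hasLpull _
  haveI : DCoh.HasLpull (k ≫ f) := hasLpull _
  haveI : DCoh.HasLpull (g ≫ j) := hasLpull _
  obtain ⟨e₁⟩ := nonempty_lpull_iso_restrictD k
  obtain ⟨e₂⟩ := nonempty_lpull_comp_iso k f
  obtain ⟨e₃⟩ := Groth.Agent.Lib.T2H1.LpullOpen.nonempty_lpull_congr hg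
  obtain ⟨e₄⟩ := nonempty_lpull_comp_iso g j
  obtain ⟨e₅⟩ := nonempty_lpull_iso_restrictD j
  exact ⟨(e₁.app _).symm ≪≫ e₂.app E ≪≫ (e₃.app E).symm ≪≫ (e₄.app E).symm ≪≫
    (DCoh.Lpull g).mapIso (e₅.app E)⟩

/-- the chart computation: if `Lf^* E` is `m`-pseudo-coherent and `E` restricted to the chart
`Spec A` is `M~`, then `M ⊗_A B` is `m`-pseudo-coherent for a flat chart `Spec B` of `X'` over
`Spec A`. -/
theorem isPC_extD_of_chart {A B : Type u} [CommRing A] [CommRing B] [Algebra A B] [Module.Flat A B]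
    (k : Spec (CommRingCat.of B) ⟶ X') [IsOpenImmersion k]
    (j : Spec (CommRingCat.of A) ⟶ X) [IsOpenImmersion j]
    (hg : Spec.map (CommRingCat.ofHom (algebraMap A B)) ≫ j = k ≫ f)
    (E : DCoh.D X) (M : Dual.D A)
    (eM : (DCoh.tildeD (CommRingCat.of A)).obj M ≅ (rD j).obj E) (m : ℤ)
    (h : DCoh.IsPseudoCoherentD m ((DCoh.Lpull f).obj E)) :
    DRing.IsPseudoCoherent B m ((extD A B).obj M) := by
  haveI : DCoh.HasLpull (Spec.map (CommRingCat.ofHom (algebraMap A B))) := hasLpull _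
  haveI : DRing.HasLBaseChange (algebraMap A B) :=
    Groth.Agent.Lib.T2H4.LDerExist.hasLBaseChange _
  obtain ⟨e₁⟩ := nonempty_rD_lpull_iso f k j _ hg E
  obtain ⟨e₂⟩ := Groth.Agent.S1055.result (algebraMap A B)
  let C := (DerivedCategory.Q : _ ⥤ Dual.D A).objPreimage M
  let eC : DerivedCategory.Q.obj C ≅ M := DerivedCategory.Q.objObjPreimageIso M
  obtain ⟨e₃⟩ := Groth.Agent.Lib.T2H4.GNoeth.nonempty_lbcFlatIso A B C
  have e₄ : (extD A B).obj (DerivedCategory.Q.obj C) ≅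
      DerivedCategory.Q.obj ((extCx A B).obj C) := mapQIso (ext A B) C
  have hpc : DCoh.IsPseudoCoherentD m ((rD k).obj ((DCoh.Lpull f).obj E)) :=
    isPseudoCoherentD_rD k m _ h
  apply isPC_of_isPseudoCoherentD_tildeD B _ m
  refine isPseudoCoherentD_of_iso ?_ m hpc
  exact e₁ ≪≫ (DCoh.Lpull _).mapIso eM.symm ≪≫ (e₂.app M).symm ≪≫
    (DCoh.tildeD (CommRingCat.of B)).mapIso
      ((DRing.LBaseChange (algebraMap A B)).mapIso eC.symm ≪≫ e₃ ≪≫ e₄.symm ≪≫
        (extD A B).mapIso eC)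

end Groth.Agent.Lib.T2H2.FpqcPCoh
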