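import Mathlib
import Groth.Prelude.Def_DerSch2
import Groth.Agent.Lib.T2H8PCohBdd
import Groth.Agent.Lib.T2H8PCohQCoh
import Groth.Agent.Lib.Helper23QCohLocal
import Groth.Agent.Lib.Helper2Push

/-!
# Relative pseudo-coherence (chart form) forces quasi-coherent cohomology

* `isLocOn_top_of_pushforward`, `isQuasicoherent_of_pushforward`: for a closed immersion `i : W ⟶ A` into an affine
  scheme, a module `M` on `W` is quasi-coherent as soon as `i_* M` is.
-/

set_option autoImplicit false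
universe u
open CategoryTheory CategoryTheory.Limits Opposite AlgebraicGeometry ZeroObject

namespace Groth.Agent.Lib.T2H8.PCohRelQCoh

open Groth.Agent.Lib.T2H8.PCohTriangle Groth.Agent.Lib.T2H8.PCohBdd
open Groth.Agent.Lib.Helper2.Push Groth.Agent.Lib.Helper23.QCohLocal DerivedCategory

attribute [local instance] HasDerivedCategory.standard

section Reflect

variable {W A : Scheme.{u}} (i : W ⟶ A)

lemma ext_aux (M : W.Modules) (hA : IsLocOn ((Scheme.Modules.pushforward i).obj M) ⊤)
    (r : Γ(A, ⊤)) (W₂ : W.Opens) (h₂ : W₂ = i ⁻¹ᵁ (A.basicOpen r)) (hle : W₂ ≤ ⊤)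
    (s : Γ(M, W₂)) :
    ∃ (n : ℕ) (t : Γ(M, ⊤)), M.presheaf.map (homOfLE hle).op t =
      (W.presheaf.map (homOfLE hle).op (i.appTop r)) ^ n • s := by
  subst h₂
  obtain ⟨n, t, ht⟩ := hA.exists_extension r s
  refine ⟨n, t, ?_⟩
  rw [pushforward_smul] at ht
  refine ht.trans ?_
  congr 1
  rw [map_pow]
  congr 1
  have hnat := Scheme.Hom.naturality i (homOfLE (A.basicOpen_le r)).op
  have := congrArg (fun φ => φ r) hnat
  simp only [ConcreteCategory.comp_apply] at this
  exact this

lemma uniq_aux (M : W.Modules) (hA : IsLocOn ((Scheme.Modules.pushforward i).obj M) ⊤)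
    (r : Γ(A, ⊤)) (W₂ : W.Opens) (h₂ : W₂ = i ⁻¹ᵁ (A.basicOpen r)) (hle : W₂ ≤ ⊤)
    (t : Γ(M, ⊤)) (ht : M.presheaf.map (homOfLE hle).op t = 0) :
    ∃ n : ℕ, (i.appTop r) ^ n • t = 0 := by
  subst h₂
  obtain ⟨n, hn⟩ := hA.exists_pow_smul_eq_zero r t ht
  refine ⟨n, ?_⟩
  rw [pushforward_smul, map_pow] at hn
  exact hn

theorem isLocOn_top_of_pushforward [IsAffine A] [IsClosedImmersion i] (M : W.Modules)
    [((Scheme.Modules.pushforward i).obj M).IsQuasicoherent] : IsLocOn M ⊤ := by
  have hsurj : Function.Surjective i.appTop :=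
    (IsClosedImmersion.isAffine_surjective_of_isAffine i).2
  have hA : IsLocOn ((Scheme.Modules.pushforward i).obj M) ⊤ :=
    IsLocOn.of_isQuasicoherent (isAffineOpen_top A) _
  constructor
  · intro b s
    obtain ⟨r, rfl⟩ := hsurj b
    exact ext_aux i M hA r _ (Scheme.preimage_basicOpen_top i r).symm (W.basicOpen_le _) s
  · intro b t ht
    obtain ⟨r, rfl⟩ := hsurj b
    exact uniq_aux i M hA r _ (Scheme.preimage_basicOpen_top i r).symm (W.basicOpen_le _) t ht

/-- a module on the source of a closed immersion into an affine scheme is quasi-coherent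
as soon as its direct image is -/
theorem isQuasicoherent_of_pushforward [IsAffine A] [IsClosedImmersion i] (M : W.Modules)
    (h : ((Scheme.Modules.pushforward i).obj M).IsQuasicoherent) : M.IsQuasicoherent := by
  haveI := h
  haveI : IsAffine W := (IsClosedImmersion.isAffine_surjective_of_isAffine i).1
  have hloc := isLocOn_top_of_pushforward i M
  refine isQuasicoherent_of_affine_cover M (fun _ : PUnit.{u + 1} => (⊤ : W.Opens)) ?_
    (fun _ => isAffineOpen_top W) (fun _ => ?_)
  · rw [TopologicalSpace.IsOpenCover, eq_top_iff]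
    intro x _
    exact TopologicalSpace.Opens.mem_iSup.2 ⟨PUnit.unit, trivial⟩
  · exact isQuasicoherent_restrict_fromSpec_of_isLocOn (isAffineOpen_top W) M hloc

end Reflect

section Rel

variable {X Y : Scheme.{u}}

open Groth.Agent.Lib.T2H8.PCohQCoh

/-- on one chart: quasi-coherence of the cohomology of the restriction -/
lemma isQCoh_of_chartPC (m : ℤ) (G : CochainComplex X.Modules ℤ)
    (U : X.Opens) (hU : IsAffineOpen U) (V : Y.Opens) {n : ℕ}
    (φ : MvPolynomial (Fin n) Γ(Y, V) →+* Γ(X, U)) (hφ : Function.Surjective φ)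
    (h : DerSch.ChartPC m (DCoh.toD X G) U V φ) (i : ℤ) (hi : m < i) :
    ((Scheme.Modules.restrictFunctor U.ι).obj (G.homology i)).IsQuasicoherent := by
  haveI := isClosedImmersion_chartImm U hU φ hφ
  haveI := preservesFiniteColimits_pushforward (DerSch.chartImm U φ)
  haveI := preservesFiniteLimits_pushforward (DerSch.chartImm U φ)
  have h1 := (main_S7240 m _ (h G ⟨Iso.refl _⟩)).1 i hi
  have h2 : (((DerSch.pushCx (DerSch.chartImm U φ)).obj
      ((DCoh.restrictCx U).obj G)).homology i).IsQuasicoherent :=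
    isQCoh_of_iso ((homologyFunctorFactors _ i).app _) h1
  have h3 : ((Scheme.Modules.pushforward (DerSch.chartImm U φ)).obj
      (((DCoh.restrictCx U).obj G).homology i)).IsQuasicoherent :=
    isQCoh_of_iso ((homologyFunctorMapIso
      (Scheme.Modules.pushforward (DerSch.chartImm U φ)) i).app _) h2
  have h4 := isQuasicoherent_of_pushforward _ _ h3
  exact isQCoh_of_iso ((homologyFunctorMapIso (Scheme.Modules.restrictFunctor U.ι) i).app G) h4

theorem main_S7213 {X S : Scheme.{u}} (f : X ⟶ S) (m : ℤ) (E : DCoh.D X)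
    (hE : DerSch.IsPseudoCoherentRel f m E) (i : ℤ) (hi : m < i) : Coh.IsQCoh (DCoh.HD E i) := by
  obtain ⟨hf, 𝒱, h𝒱, h⟩ := hE
  let G := (Q (C := X.Modules)).objPreimage E
  let e : Q.obj G ≅ E := Q.objObjPreimageIso E
  have hG : (G.homology i).IsQuasicoherent := by
    apply isQCoh_of_locally
    intro x
    have hx : f x ∈ (⨆ V ∈ 𝒱, (V : S.Opens)) := by rw [h𝒱]; trivial
    simp only [TopologicalSpace.Opens.mem_iSup] at hx
    obtain ⟨V, hV, hxV⟩ := hx
    obtain ⟨𝒰, h𝒰, hch⟩ := h V hV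
    have hx' : x ∈ (⨆ U ∈ 𝒰, (U : X.Opens)) := by rw [h𝒰]; exact hxV
    simp only [TopologicalSpace.Opens.mem_iSup] at hx'
    obtain ⟨U, hU, hxU⟩ := hx'
    have hUV : (U : X.Opens) ≤ f ⁻¹ᵁ (V : S.Opens) := by
      rw [← h𝒰]
      exact le_iSup₂ (f := fun (U : X.affineOpens) (_ : U ∈ 𝒰) => (U : X.Opens)) U hU
    obtain ⟨k, φ, hφ, hpc⟩ := hch U hU hUV
    have hpc' : DerSch.ChartPC m (DCoh.toD X G) (U : X.Opens) (V : S.Opens) φ :=
      fun G' ⟨e'⟩ => hpc G' ⟨e' ≪≫ e⟩
    have hsurj : Function.Surjective φ := hφ.1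
    have hUa : IsAffineOpen (U : X.Opens) := U.2
    exact ⟨(U : X.Opens), hxU, isQCoh_of_chartPC (X := X) (Y := S) m G (U : X.Opens) hUa
      (V : S.Opens) φ hsurj hpc' i hi⟩
  exact isQCoh_of_iso (((homologyFunctorFactors X.Modules i).app G).symm ≪≫
    (homologyFunctor X.Modules i).mapIso e) hG

theorem main_S6235 {X Y : Scheme.{u}} (f : X ⟶ Y) (E : DCoh.D X)
    (hE : DerSch.IsPseudoCoherentRelAll f E) : DCoh.IsQCohD E :=
  fun i => main_S7213 f (i - 1) E (hE (i - 1)) i (by omega)

end Rel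

end Groth.Agent.Lib.T2H8.PCohRelQCoh
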