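import Groth.Agent.Lib.T2H1RelPCBaseChange
import Groth.Agent.Lib.T2H1RelPCfin
import Groth.Agent.Lib.T2H2FpqcPCohA
import Groth.Agent.Lib.T2H8PCohRelQCoh
set_option backward.isDefEq.respectTransparency.types false

/-!
# Relative pseudo-coherence of derived pullbacks: charts (helper1, second team)
-/

set_option autoImplicit false
set_option linter.style.haveILetI false
universe u
open CategoryTheory CategoryTheory.Limits AlgebraicGeometry Opposite TopologicalSpace

attribute [local instance] HasDerivedCategory.standard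

namespace Groth.Agent.Lib.T2H1.RelPCLpullBC

open Groth.Agent.Lib.T2H8.SchLocHtpy Groth.Agent.Lib.T2H8.PerfLocal
  Groth.Agent.Lib.T2H2.AffRed Groth.Agent.Lib.T2H2.TildeLoc Groth.Agent.Lib.Helper1.Sky
  Groth.Agent.Lib.T2H1.LpullOpen Groth.Agent.Lib.T2H2.FpqcPCoh Groth.Agent.Lib.T2H1.RelPCpt
  Groth.Agent.Lib.T2H1.RelPCBaseChange

section Chart

variable {X' X : Scheme.{u}} (f : X' ⟶ X) [DCoh.HasLpull f]

/-- the restriction of `Lf^* E` to an affine chart `Spec B` of `X'` lying over an affine chart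
`Spec A` of `X` on which `E` is `M~`: it is `(M ⊗^L_A B)~`. -/
theorem nonempty_rD_lpull_iso_tildeD {A B : Type u} [CommRing A] [CommRing B] (φ : A →+* B)
    [DRing.HasLBaseChange φ]
    (k : Spec (CommRingCat.of B) ⟶ X') [IsOpenImmersion k]
    (j : Spec (CommRingCat.of A) ⟶ X) [IsOpenImmersion j]
    (hg : Spec.map (CommRingCat.ofHom φ) ≫ j = k ≫ f)
    (E : DCoh.D X) (M : Dual.D A)
    (eM : (DCoh.tildeD (CommRingCat.of A)).obj M ≅ (rD j).obj E) :
    Nonempty ((DCoh.tildeD (CommRingCat.of B)).obj ((DRing.LBaseChange φ).obj M) ≅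
      (rD k).obj ((DCoh.Lpull f).obj E)) := by
  haveI : DCoh.HasLpull (Spec.map (CommRingCat.ofHom φ)) := hasLpull _
  obtain ⟨e₁⟩ := nonempty_rD_lpull_iso f k j _ hg E
  obtain ⟨e₂⟩ := Groth.Agent.S1055.result φ
  exact ⟨e₂.app M ≪≫ (DCoh.Lpull _).mapIso eM ≪≫ e₁.symm⟩

end Chart

section Main

variable {X Y Y' : Scheme.{u}} (f : X ⟶ Y) [LocallyOfFiniteType f] (h : Y' ⟶ Y) [Flat h]
  [DCoh.HasLpull (pullback.fst f h)]

/-- **flat base change of relative pseudo-coherence** (pointwise/chart form): if `E` has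
quasi-coherent cohomology and is `m`-pseudo-coherent relative to `f`, then `Lg'^* E` is
`m`-pseudo-coherent relative to the base change `f'` of `f` along the flat morphism `h`. -/
theorem isPseudoCoherentRel_Lpull_baseChange (m : ℤ) (E : DCoh.D X) (hq : DCoh.IsQCohD E)
    (hE : DerSch.IsPseudoCoherentRel f m E) :
    DerSch.IsPseudoCoherentRel (pullback.snd f h) m
      ((DCoh.Lpull (pullback.fst f h)).obj E) := by
  haveI : LocallyOfFiniteType (pullback.snd f h) := inferInstance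
  rw [isPseudoCoherentRel_iff_forall_relPt] at hE ⊢
  intro x'
  have hcond : (pullback.fst f h) ≫ f = (pullback.snd f h) ≫ h := pullback.condition
  have hpt : f ((pullback.fst f h) x') = h ((pullback.snd f h) x') := by
    have := congrArg (fun k : pullback f h ⟶ Y => k x') hcond
    simpa using this
  obtain ⟨_, ⟨V, hV, rfl⟩, hxV, -⟩ :=
    Y.isBasis_affineOpens.exists_subset_of_mem_open
      (show f ((pullback.fst f h) x') ∈ (⊤ : Y.Opens) from trivial) (⊤ : Y.Opens).2
  obtain ⟨_, ⟨V', hV', rfl⟩, hxV', hV'V⟩ :=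
    Y'.isBasis_affineOpens.exists_subset_of_mem_open
      (show (pullback.snd f h) x' ∈ h ⁻¹ᵁ V from by
        change h ((pullback.snd f h) x') ∈ V
        rw [← hpt]; exact hxV) (h ⁻¹ᵁ V).2
  obtain ⟨_, ⟨U, hU, rfl⟩, hxU, hUV⟩ :=
    X.isBasis_affineOpens.exists_subset_of_mem_open
      (show (pullback.fst f h) x' ∈ f ⁻¹ᵁ V from hxV) (f ⁻¹ᵁ V).2
  have hUV' : U ≤ f ⁻¹ᵁ V := hUV
  have hV'V' : V' ≤ h ⁻¹ᵁ V := hV'V
  set W' : (pullback f h).Opens := (pullback.fst f h) ⁻¹ᵁ U ⊓ (pullback.snd f h) ⁻¹ᵁ V' with hW'def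
  have hx'W' : x' ∈ W' := ⟨hxU, hxV'⟩
  have H : IsPullback (pullback.fst f h) (pullback.snd f h) f h := IsPullback.of_hasPullback f h
  have hW'U : W' ≤ (pullback.fst f h) ⁻¹ᵁ U := inf_le_left
  have hW'V' : W' ≤ (pullback.snd f h) ⁻¹ᵁ V' := inf_le_right
  have hW' : IsAffineOpen W' := by
    haveI : IsAffine _ := hV
    haveI : IsAffine _ := hV'
    haveI : IsAffine _ := hU
    exact .of_isIso (Scheme.Hom.isPullback_resLE H hV'V' hUV' hW'def).isoPullback.hom
  have hPO : IsPushout (f.appLE V U hUV') (h.appLE V V' hV'V')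
      ((pullback.fst f h).appLE U W' hW'U) ((pullback.snd f h).appLE V' W' hW'V') := by
    haveI := isIso_pushoutSection_of_isAffineOpen H hV'V' hUV' hW'def hV hV' hU
    exact (isIso_pushoutSection_iff H hV'V' hUV' hW'def).1 inferInstance
  -- ring-level set-up
  letI : Algebra Γ(Y, V) Γ(X, U) := (f.appLE V U hUV').hom.toAlgebra
  letI : Algebra Γ(Y, V) Γ(Y', V') := (h.appLE V V' hV'V').hom.toAlgebra
  letI : Algebra Γ(X, U) Γ(pullback f h, W') := ((pullback.fst f h).appLE U W' hW'U).hom.toAlgebra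
  letI : Algebra Γ(Y', V') Γ(pullback f h, W') :=
    ((pullback.snd f h).appLE V' W' hW'V').hom.toAlgebra
  letI : Algebra Γ(Y, V) Γ(pullback f h, W') :=
    (((pullback.fst f h).appLE U W' hW'U).hom.comp (f.appLE V U hUV').hom).toAlgebra
  haveI : IsScalarTower Γ(Y, V) Γ(X, U) Γ(pullback f h, W') := .of_algebraMap_eq' rfl
  haveI : IsScalarTower Γ(Y, V) Γ(Y', V') Γ(pullback f h, W') := .of_algebraMap_eq' (by
    have := congrArg CommRingCat.Hom.hom hPO.w
    exact this)
  haveI : Algebra.IsPushout Γ(Y, V) Γ(X, U) Γ(Y', V') Γ(pullback f h, W') :=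
    CommRingCat.isPushout_iff_isPushout.1 hPO
  haveI : Module.Flat Γ(Y, V) Γ(Y', V') :=
    HasRingHomProperty.appLE (P := @Flat) h inferInstance ⟨V, hV⟩ ⟨V', hV'⟩ hV'V'
  haveI : DRing.HasLBaseChange (algebraMap Γ(X, U) Γ(pullback f h, W')) :=
    Groth.Agent.Lib.T2H4.LDerExist.hasLBaseChange _
  obtain ⟨N, ⟨ε⟩⟩ := exists_tildeD_iso Γ(X, U) ((rD hU.fromSpec).obj E)
    (isQCohD_rD hU.fromSpec E hq)
  have hN := (forall_relPt_iff_isRelPseudoCoherent f E m hU hV hUV' N ε).1 (fun x _ => hE x)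
  have hN' := rel_LBaseChange_flat (R := Γ(Y, V)) (R' := Γ(Y', V')) (A := Γ(X, U))
    (A' := Γ(pullback f h, W')) N m hN
  obtain ⟨ε'⟩ := nonempty_rD_lpull_iso_tildeD (pullback.fst f h)
    (algebraMap Γ(X, U) Γ(pullback f h, W')) hW'.fromSpec hU.fromSpec
    (IsAffineOpen.SpecMap_appLE_fromSpec (pullback.fst f h) hU hW' hW'U) E N ε
  exact (forall_relPt_iff_isRelPseudoCoherent (pullback.snd f h) _ m hW' hV' hW'V' _ ε').2
    hN' x' hx'W'

/-- iso-invariant form -/
theorem isPseudoCoherentRel_of_iso_Lpull_baseChange (m : ℤ) (E : DCoh.D X)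
    (hq : DCoh.IsQCohD E) (hE : DerSch.IsPseudoCoherentRel f m E) (E' : DCoh.D (pullback f h))
    (e : E' ≅ (DCoh.Lpull (pullback.fst f h)).obj E) :
    DerSch.IsPseudoCoherentRel (pullback.snd f h) m E' := by
  haveI : LocallyOfFiniteType (pullback.snd f h) := inferInstance
  have h1 := isPseudoCoherentRel_Lpull_baseChange f h m E hq hE
  rw [isPseudoCoherentRel_iff_forall_relPt] at h1 ⊢
  exact fun x => (relPt_of_iso (pullback.snd f h) m e x).2 (h1 x)

end Main

end Groth.Agent.Lib.T2H1.RelPCLpullBC
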