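import Groth.Agent.Lib.T2H2QcqsIndD
import Groth.Agent.Lib.T2H2AffRedD

/-!
# Vanishing range for morphisms out of a perfect object on a qcqs scheme (T2H2)
-/

set_option autoImplicit false
set_option linter.style.haveILetI false
universe u
open CategoryTheory CategoryTheory.Limits AlgebraicGeometry Opposite Pretriangulated

attribute [local instance] HasDerivedCategory.standard

namespace Groth.Agent.Lib.T2H2.QcqsInd

open Groth.Agent.Lib.T2H8.PerfLocal Groth.Agent.Lib.T2H8.PCohTriangle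
  Groth.Agent.Lib.T2H2.AffRed Groth.Agent.Lib.T2H2.TildeLoc DerivedCategory

/-- affine schemes from `Spec`s: a property of pairs stable under isomorphisms holds on affine
schemes as soon as it holds on spectra -/
theorem haff_of_spec (P : ∀ (Z : Scheme.{u}), DCoh.D Z → Prop)
    (hiso₁ : ∀ (Z : Scheme.{u}) (K K' : DCoh.D Z), (K ≅ K') → P Z K → P Z K')
    (hiso₂ : ∀ (Z Z' : Scheme.{u}) (a : Z' ≅ Z) (K : DCoh.D Z), P Z K → P Z' ((rD a.hom).obj K))
    (haff' : ∀ (A : Type u) [CommRing A] (K : DCoh.D (Spec (CommRingCat.of A))),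
      P (Spec (CommRingCat.of A)) K)
    (Z : Scheme.{u}) [IsAffine Z] (K : DCoh.D Z) : P Z K := by
  have h := hiso₂ (Spec (CommRingCat.of Γ(Z, ⊤))) Z Z.isoSpec ((rD Z.isoSpec.inv).obj K)
    (haff' Γ(Z, ⊤) _)
  exact hiso₁ _ _ _ ((rDIsoCompId Z.isoSpec.symm).app K) h

/-- the vanishing property -/
def PVan (Z : Scheme.{u}) (K : DCoh.D Z) : Prop :=
  DCoh.IsPerfect K → ∃ a b : ℤ, a ≤ b ∧ ∀ L : DCoh.D Z, DCoh.IsQCohD L →
    (∀ i : ℤ, a ≤ i → i ≤ b → IsZero (DCoh.HD L i)) → HomZero K L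

theorem pVan_iso₁ (Z : Scheme.{u}) (K K' : DCoh.D Z) (e : K ≅ K') (h : PVan Z K) : PVan Z K' := by
  intro hK'
  obtain ⟨a, b, hab, H⟩ := h (isPerfect_of_iso e.symm hK')
  exact ⟨a, b, hab, fun L hL hv => HomZero.of_iso e (Iso.refl _) (H L hL hv)⟩

theorem pVan_iso₂ (Z Z' : Scheme.{u}) (a : Z' ≅ Z) (K : DCoh.D Z) (h : PVan Z K) :
    PVan Z' ((rD a.hom).obj K) := by
  intro hK'
  have hK : DCoh.IsPerfect K :=
    isPerfect_of_iso ((rDIsoCompId a).app K) (isPerfect_rD a.inv _ hK')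
  obtain ⟨c, d, hcd, H⟩ := h hK
  refine ⟨c, d, hcd, fun L' hL' hv => ?_⟩
  haveI : (rD a.inv).Faithful := faithful_rD_iso a.symm
  refine HomZero.of_faithful (rD a.inv) ?_
  refine HomZero.of_iso ((rDIsoCompId a).app K).symm (Iso.refl _) ?_
  refine H _ (isQCohD_rD a.inv L' hL') (fun i hi₁ hi₂ => ?_)
  exact IsZero.of_iso ((Scheme.Modules.restrictFunctor a.inv).map_isZero (hv i hi₁ hi₂))
    (HDrDIso a.inv L' i)

/-- cohomology of `M` vanishes where the cohomology sheaves of `M~` do -/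
lemma isZero_homology_of_isZero_HD_tildeD (A : Type u) [CommRing A] (N : Dual.D A)
    (L : DCoh.D (Spec (CommRingCat.of A))) (eN : (DCoh.tildeD (CommRingCat.of A)).obj N ≅ L)
    (i : ℤ) (h : IsZero (DCoh.HD L i)) : IsZero ((homologyFunctor (ModuleCat.{u} A) i).obj N) := by
  apply isZero_of_isZero_tilde (CommRingCat.of A)
  exact IsZero.of_iso h
    (((mapDerivedCategoryHomologyIso (tilde.functor (CommRingCat.of A)) i).app N).symm ≪≫
      (homologyFunctor _ i).mapIso eN)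

theorem pVan_spec (A : Type u) [CommRing A] (K : DCoh.D (Spec (CommRingCat.of A))) :
    PVan (Spec (CommRingCat.of A)) K := by
  intro hK
  obtain ⟨M, ⟨eM⟩⟩ := exists_tildeD_iso A K (isQCohD_of_isPerfect K hK)
  obtain ⟨P, c, d, hP, hfp, ⟨e⟩⟩ := isPerfect_of_isPerfect_tildeD A M (isPerfect_of_iso eM.symm hK)
  refine ⟨min c d, max c d, le_trans (min_le_left c d) (le_max_left c d), fun L hL hv => ?_⟩
  obtain ⟨N, ⟨eN⟩⟩ := exists_tildeD_iso A L hL
  have hproj : ∀ i : ℤ, Projective (P.X i) := fun i => by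
    have := (hfp i).2
    exact (IsProjective.iff_projective (R := A) (P := P.X i)).1 this
  have h0 : HomZero (Q.obj P) N := by
    refine homZero_of_projective P c d hP hproj N (fun i hi₁ hi₂ => ?_)
    exact isZero_homology_of_isZero_HD_tildeD A N L eN i
      (hv i (le_trans (min_le_left c d) hi₁) (le_trans hi₂ (le_max_right c d)))
  exact HomZero.of_iso eM eN
    (HomZero.of_full (DCoh.tildeD (CommRingCat.of A)) (HomZero.of_iso e (Iso.refl _) h0))

theorem pVan_mv (Z : Scheme.{u}) (S U : Z.Opens) (hSU : S ⊔ U = ⊤) (K : DCoh.D Z)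
    (hS : PVan S ((rD S.ι).obj K)) (hU : PVan U ((rD U.ι).obj K))
    (hW : PVan (S ⊓ U : Z.Opens) ((rD (S ⊓ U).ι).obj K)) : PVan Z K := by
  intro hK
  obtain ⟨a₁, b₁, hab₁, H₁⟩ := hS (isPerfect_rD S.ι K hK)
  obtain ⟨a₂, b₂, hab₂, H₂⟩ := hU (isPerfect_rD U.ι K hK)
  obtain ⟨a₃, b₃, hab₃, H₃⟩ := hW (isPerfect_rD (S ⊓ U).ι K hK)
  refine ⟨min (min a₁ a₂) (a₃ - 1), max (max b₁ b₂) b₃, ?_, fun L hL hv => ?_⟩
  · exact le_trans (le_trans (min_le_left _ _) (min_le_left _ _))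
      (le_trans hab₁ (le_trans (le_max_left _ _) (le_max_left _ _)))
  · have hv' : ∀ {U' : Scheme.{u}} (j : U' ⟶ Z) [IsOpenImmersion j] (i : ℤ),
        min (min a₁ a₂) (a₃ - 1) ≤ i → i ≤ max (max b₁ b₂) b₃ →
        IsZero (DCoh.HD ((rD j).obj L) i) := fun j _ i hi₁ hi₂ =>
      IsZero.of_iso ((Scheme.Modules.restrictFunctor j).map_isZero (hv i hi₁ hi₂)) (HDrDIso j L i)
    refine homZero_of_mv S U hSU K L ?_ ?_ ?_
    · refine H₁ _ (isQCohD_rD S.ι L hL) (fun i hi₁ hi₂ => hv' S.ι i ?_ ?_)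
      · exact le_trans (le_trans (min_le_left _ _) (min_le_left _ _)) hi₁
      · exact le_trans hi₂ (le_trans (le_max_left _ _) (le_max_left _ _))
    · refine H₂ _ (isQCohD_rD U.ι L hL) (fun i hi₁ hi₂ => hv' U.ι i ?_ ?_)
      · exact le_trans (le_trans (min_le_left _ _) (min_le_right _ _)) hi₁
      · exact le_trans hi₂ (le_trans (le_max_right _ _) (le_max_left _ _))
    · refine H₃ _ (Groth.Agent.Lib.T2H1.RpushShift.isQCohD_shift _
        (isQCohD_rD (S ⊓ U).ι L hL) (-1)) (fun i hi₁ hi₂ => ?_)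
      refine IsZero.of_iso (hv' (S ⊓ U).ι (i - 1) ?_ ?_)
        (Groth.Agent.Lib.T2H1.RpushShift.HDShiftIso _ (-1) i (i - 1) (by omega))
      · have := min_le_right (min a₁ a₂) (a₃ - 1)
        omega
      · have := le_max_right (max b₁ b₂) b₃
        omega

/-- on a quasi-compact quasi-separated scheme, a perfect object `K` has a range `[a, b]` such that
`Hom(K, L) = 0` for every `L ∈ D_QCoh` without cohomology in `[a, b]`. -/
theorem pVan (X : Scheme.{u}) [CompactSpace X] [QuasiSeparatedSpace X] (K : DCoh.D X) :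
    PVan X K :=
  pair_induction PVan pVan_iso₁ pVan_iso₂
    (fun Z _ K => haff_of_spec PVan pVan_iso₁ pVan_iso₂ pVan_spec Z K)
    (fun Z S U hSU _ _ _ K hS hU hW => pVan_mv Z S U hSU K hS hU hW) K

end Groth.Agent.Lib.T2H2.QcqsInd
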