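import Groth.Agent.Lib.T2H1LTensorCoh
import Groth.Agent.Lib.T2H1RelPCLpullBC
import Groth.Agent.Lib.T2H2QcqsIndE
import Groth.Agent.Lib.T2H1LpullTorAmp
set_option backward.isDefEq.respectTransparency.types false

/-!
# Right t-exactness of `Lf^*` and `⊗^L` on `D_QCoh` (helper1, second team)

* `isLE_LBaseChange`: derived base change of rings is right t-exact.
* `isLE_Lpull`: for `E ∈ D_QCoh(O_Y)` with `E ∈ D^{≤ b}`, `Lf^* E ∈ D^{≤ b}`.
* `isLE_LTensorCx`: for `E, L ∈ D_QCoh` with `E ∈ D^{≤ b}`, `L ∈ D^{≤ a}`: `L ⊗^L E ∈ D^{≤ a + b}`.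
-/

set_option autoImplicit false
set_option linter.style.haveILetI false
universe u
open CategoryTheory CategoryTheory.Limits AlgebraicGeometry HomologicalComplex Opposite
  TopologicalSpace

attribute [local instance] HasDerivedCategory.standard

namespace Groth.Agent.Lib.T2H1.LTensorLE

open Groth.Agent.Lib.Helper1.KBC Groth.Agent.Lib.Helper1.KF Groth.Agent.Lib.Helper1.BKF
  Groth.Agent.Lib.Helper1.Sky Groth.Agent.Lib.Helper1.PT Groth.Agent.Lib.Helper1.FLF
  Groth.Agent.Lib.T2H1.LTensorQCoh Groth.Agent.Lib.T2H1.LTensorCoh DerivedCategory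

section Ring

open Groth.Agent.Lib.Helper1.LDer Groth.Agent.Lib.Helper1.ProjRes DTen
  Groth.Agent.Lib.T2H1.LpullTorAmp

/-- derived base change is right t-exact -/
theorem isLE_LBaseChange {A B : Type u} [CommRing A] [CommRing B] (φ : A →+* B)
    [DRing.HasLBaseChange φ] (N : Dual.D A) (b : ℤ) [N.IsLE b] :
    ((DRing.LBaseChange φ).obj N).IsLE b := by
  obtain ⟨Kc, hle, hproj, ⟨e⟩⟩ := exists_iso_Q_proj N b
  haveI := hle
  haveI := hproj
  haveI : Kc.IsKProjective := CochainComplex.isKProjective_of_projective Kc b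
  have e' : (DRing.LBaseChange φ).obj N ≅ Q.obj ((extCx φ).obj Kc) :=
    (DRing.LBaseChange φ).mapIso e.symm ≪≫ lbcIso φ Kc
  haveI : ((extCx φ).obj Kc).IsStrictlyLE b := by
    rw [CochainComplex.isStrictlyLE_iff]
    intro i hi
    exact (ModuleCat.extendScalars.{u, u, u} φ).map_isZero
      (CochainComplex.isZero_of_isStrictlyLE Kc b i hi)
  haveI : (Q.obj ((extCx φ).obj Kc)).IsLE b := by
    rw [DerivedCategory.isLE_Q_obj_iff]
    infer_instance
  exact DerivedCategory.TStructure.t.isLE_of_iso e'.symm b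

end Ring

section Tensor

variable {X : Scheme.{u}}

/-- the tensor product of two complexes with quasi-coherent cohomology bounded above, the first
of which is K-flat, has cohomology bounded above. -/
theorem isZero_homology_tensor_qcoh (P F : CochainComplex X.Modules ℤ)
    (hP : DCoh.IsKFlat P)
    (hPc : DCoh.IsQCohD (DerivedCategory.Q.obj P)) (a : ℤ)
    (hPa : ∀ i : ℤ, a < i → IsZero (DCoh.HD (DerivedCategory.Q.obj P) i))
    (hFc : DCoh.IsQCohD (DerivedCategory.Q.obj F)) (b : ℤ)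
    (hFb : ∀ i : ℤ, b < i → IsZero (DCoh.HD (DerivedCategory.Q.obj F) i)) (n : ℤ)
    (hn : b + a < n) : IsZero (((DCoh.tensorCx.obj P).obj F).homology n) := by
  refine Groth.Agent.Lib.Helper23.ModLocal.isZero_of_isZero_restrict
    (fun W : X.affineOpens => Spec Γ(X, W.1)) (fun W => W.2.fromSpec) (fun x => ?_)
    (fun W => ?_)
  · obtain ⟨U, hU, hxU, -⟩ := exists_isAffineOpen_mem_and_subset (x := x) (U := ⊤) trivial
    exact ⟨⟨U, hU⟩, hU.primeIdealOf ⟨x, hxU⟩, hU.fromSpec_primeIdealOf ⟨x, hxU⟩⟩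
  · obtain ⟨K1, hK1b, hK1fl, ⟨e1⟩⟩ := exists_tilde_proj Γ(X, W.1)
      ((pullC W.2.fromSpec).obj F) (isQCohD_pullC W.2.fromSpec F hFc) b
      (fun i hi => isZero_HD_pullC W.2.fromSpec F i (hFb i hi))
    obtain ⟨K2, hK2b, hK2fl, ⟨e2⟩⟩ := exists_tilde_proj Γ(X, W.1)
      ((pullC W.2.fromSpec).obj P) (isQCohD_pullC W.2.fromSpec P hPc) a
      (fun i hi => isZero_HD_pullC W.2.fromSpec P i (hPa i hi))
    obtain ⟨e⟩ := nonempty_restrict_homology_iso P F hP W.2 K1 K2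
      (isKFlat_tilde_of_boundedAbove_flat _ K1 b hK1b hK1fl) e1 e2 n
    exact IsZero.of_iso (Groth.Agent.Lib.Helper1.CI.isZero_homology_of_isZero_X _ n
      (isZero_tensor_tilde_X _ K1 K2 b a hK1b hK2b n hn)) e

/-- the derived tensor product is right t-exact on `D_QCoh` -/
theorem isLE_LTensorCx (E : CochainComplex X.Modules ℤ) [DCoh.HasLTensorCx E]
    (hEq : DCoh.IsQCohD (DCoh.toD X E)) (b : ℤ) [hEb : (DCoh.toD X E).IsLE b]
    (L : DCoh.D X) (hLq : DCoh.IsQCohD L) (a : ℤ) [hLa : L.IsLE a] :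
    ((DCoh.LTensorCx E).obj L).IsLE (a + b) := by
  let F0 := (DerivedCategory.Q (C := X.Modules)).objPreimage L
  have e0 : DerivedCategory.Q.obj F0 ≅ L := (DerivedCategory.Q (C := X.Modules)).objObjPreimageIso L
  obtain ⟨P, q, hP, -, hq, -⟩ := exists_kflat_flat_resolution (O := X.sheaf) F0
  haveI : QuasiIso q := hq
  have hP' : DCoh.IsKFlat P := hP
  haveI : IsIso (DerivedCategory.Q.map q) := by
    rw [DerivedCategory.isIso_Q_map_iff_quasiIso]; exact hq
  have eK : L ≅ DerivedCategory.Q.obj P := e0.symm ≪≫ (asIso (DerivedCategory.Q.map q)).symm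
  haveI hI1 : ModSite.HasLTensorCx (O := X.sheaf) E := (inferInstance : DCoh.HasLTensorCx E)
  have i : (DCoh.LTensorCx E).obj (DerivedCategory.Q.obj P) ≅
      DerivedCategory.Q.obj ((DCoh.tensorCx.obj P).obj E) :=
    lTensorCxIsoOfIsKFlat (O := X.sheaf) E P hP
  have hPc : DCoh.IsQCohD (DerivedCategory.Q.obj P) := fun m =>
    Groth.Agent.Lib.T2H8.PCohQCoh.isQCoh_of_iso
      ((DerivedCategory.homologyFunctor X.Modules m).mapIso eK) (hLq m)
  have hPa : ∀ i : ℤ, a < i → IsZero (DCoh.HD (DerivedCategory.Q.obj P) i) := fun m hm =>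
    IsZero.of_iso (DerivedCategory.isZero_of_isLE L a m hm)
      ((DerivedCategory.homologyFunctor X.Modules m).mapIso eK.symm)
  have hEb' : ∀ i : ℤ, b < i → IsZero (DCoh.HD (DerivedCategory.Q.obj E) i) := fun m hm =>
    DerivedCategory.isZero_of_isLE (DCoh.toD X E) b m hm
  have key : ∀ n : ℤ, ((DCoh.tensorCx.obj P).obj E).homology n ≅
      DCoh.HD ((DCoh.LTensorCx E).obj L) n := fun n =>
    ((DerivedCategory.homologyFunctorFactors X.Modules n).app _).symm ≪≫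
      (DerivedCategory.homologyFunctor X.Modules n).mapIso
        ((DCoh.LTensorCx E).mapIso eK ≪≫ i).symm
  rw [DerivedCategory.isLE_iff]
  intro n hn
  exact IsZero.of_iso (isZero_homology_tensor_qcoh P E hP' hPc a hPa hEq b hEb' n (by lia))
    (key n).symm

end Tensor

section Lpull

open Groth.Agent.Lib.T2H8.SchLocHtpy Groth.Agent.Lib.T2H8.PerfLocal
  Groth.Agent.Lib.T2H2.AffRed Groth.Agent.Lib.T2H2.TildeLoc
  Groth.Agent.Lib.T2H1.LpullOpen Groth.Agent.Lib.T2H2.FpqcPCoh Groth.Agent.Lib.T2H1.RelPCpt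
  Groth.Agent.Lib.T2H1.RelPCLpullBC Groth.Agent.Lib.T2H2.QcqsInd
  Groth.Agent.Lib.T2H8.PCohTriangle

/-- the model of a `D^{≤ b}` object on an affine scheme is `D^{≤ b}` -/
theorem isLE_of_tildeD_iso (A : Type u) [CommRing A] (N : Dual.D A)
    (L : DCoh.D (Spec (CommRingCat.of A))) (eN : (DCoh.tildeD (CommRingCat.of A)).obj N ≅ L)
    (b : ℤ) [L.IsLE b] : N.IsLE b := by
  rw [DerivedCategory.isLE_iff]
  intro i hi
  exact isZero_homology_of_isZero_HD_tildeD A N L eN i (DerivedCategory.isZero_of_isLE L b i hi)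

/-- `M ↦ M~` is right t-exact -/
theorem isLE_tildeD (A : Type u) [CommRing A] (N : Dual.D A) (b : ℤ) [N.IsLE b] :
    ((DCoh.tildeD (CommRingCat.of A)).obj N).IsLE b := by
  rw [DerivedCategory.isLE_iff]
  intro i hi
  exact IsZero.of_iso ((tilde.functor (CommRingCat.of A)).map_isZero
    (DerivedCategory.isZero_of_isLE N b i hi))
    ((mapDerivedCategoryHomologyIso (tilde.functor (CommRingCat.of A)) i).app N)

variable {X Y : Scheme.{u}} (f : X ⟶ Y) [DCoh.HasLpull f]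

/-- the derived pullback is right t-exact on `D_QCoh` -/
theorem isLE_Lpull (E : DCoh.D Y) (hq : DCoh.IsQCohD E) (b : ℤ) [E.IsLE b] :
    ((DCoh.Lpull f).obj E).IsLE b := by
  rw [DerivedCategory.isLE_iff]
  intro i hi
  refine Groth.Agent.Lib.Helper23.ModLocal.isZero_of_isZero_restrict
    (ι := {W : X.Opens // IsAffineOpen W ∧ ∃ V : Y.Opens, IsAffineOpen V ∧ W ≤ f ⁻¹ᵁ V})
    (fun W => Spec Γ(X, W.1)) (fun W => W.2.1.fromSpec) (fun x => ?_) (fun W => ?_)
  · obtain ⟨_, ⟨V, hV, rfl⟩, hxV, -⟩ :=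
      Y.isBasis_affineOpens.exists_subset_of_mem_open
        (show f x ∈ (⊤ : Y.Opens) from trivial) (⊤ : Y.Opens).2
    obtain ⟨_, ⟨W, hW, rfl⟩, hxW, hWV⟩ :=
      X.isBasis_affineOpens.exists_subset_of_mem_open
        (show x ∈ f ⁻¹ᵁ V from hxV) (f ⁻¹ᵁ V).2
    exact ⟨⟨W, hW, V, hV, hWV⟩, hW.primeIdealOf ⟨x, hxW⟩, hW.fromSpec_primeIdealOf ⟨x, hxW⟩⟩
  · obtain ⟨W, hW, V, hV, hWV⟩ := W
    letI : Algebra Γ(Y, V) Γ(X, W) := (f.appLE V W hWV).hom.toAlgebra
    haveI : DRing.HasLBaseChange (algebraMap Γ(Y, V) Γ(X, W)) :=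
      Groth.Agent.Lib.T2H4.LDerExist.hasLBaseChange _
    obtain ⟨N, ⟨ε⟩⟩ := exists_tildeD_iso Γ(Y, V) ((rD hV.fromSpec).obj E)
      (isQCohD_rD hV.fromSpec E hq)
    haveI := isLE_rD hV.fromSpec E b
    haveI : N.IsLE b := isLE_of_tildeD_iso Γ(Y, V) N _ ε b
    obtain ⟨ε'⟩ := nonempty_rD_lpull_iso_tildeD f
      (algebraMap Γ(Y, V) Γ(X, W)) hW.fromSpec hV.fromSpec
      (IsAffineOpen.SpecMap_appLE_fromSpec f hV hW hWV) E N ε
    haveI := isLE_LBaseChange (algebraMap Γ(Y, V) Γ(X, W)) N b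
    haveI := isLE_tildeD Γ(X, W) ((DRing.LBaseChange (algebraMap Γ(Y, V) Γ(X, W))).obj N) b
    haveI : ((rD hW.fromSpec).obj ((DCoh.Lpull f).obj E)).IsLE b :=
      DerivedCategory.TStructure.t.isLE_of_iso ε' b
    exact IsZero.of_iso (DerivedCategory.isZero_of_isLE _ b i hi)
      (HDrDIso hW.fromSpec _ i).symm

end Lpull

end Groth.Agent.Lib.T2H1.LTensorLE
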