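import Groth.Agent.Lib.Helper1CI3
import Groth.Agent.Lib.Helper1PT4
import Groth.Agent.Lib.Helper1Sky9
import Groth.Agent.Lib.T2H1TorAmpQCoh
import Groth.Agent.S0960
set_option backward.isDefEq.respectTransparency.types false

/-!
# Local structure of `E ⊗^L G` for a perfect object `E` and a module `G` (helper1)
-/

set_option autoImplicit false
set_option linter.style.haveILetI false
universe u
open CategoryTheory CategoryTheory.Limits AlgebraicGeometry HomologicalComplex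

attribute [local instance] HasDerivedCategory.standard

namespace Groth.Agent.Lib.T2H1.LTensorModLocal

open Groth.Agent.Lib.Helper1.CI Groth.Agent.Lib.Helper1.PT Groth.Agent.Lib.Helper1.Sky
  Groth.Agent.Lib.Helper1.KBC Groth.Agent.Lib.Helper1.BKF

variable {V X : Scheme.{u}}

/-- the termwise pullback of a termwise tensor product -/
noncomputable def pullTtwIso (j : V ⟶ X) (G : X.Modules) (P : CochainComplex X.Modules ℤ) :
    (pullC j).obj ((Ttw G).obj P) ≅ (Ttw ((plb j).obj G)).obj ((pullC j).obj P) :=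
  HomologicalComplex.Hom.isoOfComponents
    (fun n => @asIso _ _ _ _ (delta j (P.X n) G) (isIso_delta j (P.X n) G))
    (fun n m _ => (delta_naturality_left j (P.d n m) G).symm)

attribute [local instance] Groth.Agent.Lib.T2H1.TorAmpQCoh.hasLTensorMod

/-- the restriction of `E ⊗^L G` to an open `W` is a termwise tensor product with `G|_W` -/
theorem exists_restrict_Ttw_iso (E : DCoh.D X) (G : X.Modules) (W : X.Opens) :
    ∃ P' : CochainComplex (W : Scheme.{u}).Modules ℤ,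
      Nonempty ((DCoh.restrictD W.ι).obj ((DCoh.LTensorMod G).obj E) ≅
        DCoh.toD (W : Scheme.{u}) ((Ttw ((plb W.ι).obj G)).obj P')) := by
  let F0 := (DerivedCategory.Q (C := X.Modules)).objPreimage E
  have e0 : DerivedCategory.Q.obj F0 ≅ E := (DerivedCategory.Q (C := X.Modules)).objObjPreimageIso E
  obtain ⟨P, q, hP, -, hq, -⟩ : ∃ (P : CochainComplex X.Modules ℤ) (q : P ⟶ F0),
      DCoh.IsKFlat P ∧ (∀ n : ℤ, ModSite.IsFlat (O := X.sheaf) (P.X n)) ∧ QuasiIso q ∧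
        ∀ n : ℤ, Epi (q.f n) := exists_kflat_flat_resolution X.sheaf F0
  haveI : QuasiIso q := hq
  haveI : IsIso (DerivedCategory.Q.map q) := by
    rw [DerivedCategory.isIso_Q_map_iff_quasiIso]; exact hq
  have eK : E ≅ DerivedCategory.Q.obj P := e0.symm ≪≫ (asIso (DerivedCategory.Q.map q)).symm
  refine ⟨(pullC W.ι).obj P, ⟨?_⟩⟩
  exact (DCoh.restrictD W.ι).mapIso ((DCoh.LTensorMod G).mapIso eK ≪≫ ltmIso G P hP) ≪≫
    (Scheme.Modules.restrictFunctor W.ι).mapDerivedCategoryFactors.app _ ≪≫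
    DerivedCategory.Q.mapIso ((restrictCxIso W).app _) ≪≫
    DerivedCategory.Q.mapIso (pullTtwIso W.ι G P)

/-- `E ⊗^L G` vanishes on an open on which `G` vanishes -/
theorem isZero_restrictD_LTensorMod (E : DCoh.D X) (G : X.Modules) (W : X.Opens)
    (hG : IsZero ((plb W.ι).obj G)) :
    IsZero ((DCoh.restrictD W.ι).obj ((DCoh.LTensorMod G).obj E)) := by
  obtain ⟨P', ⟨e⟩⟩ := exists_restrict_Ttw_iso E G W
  refine IsZero.of_iso ?_ e
  have h0 : IsZero ((Ttw ((plb W.ι).obj G)).obj P') := by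
    rw [IsZero.iff_id_eq_zero]
    refine HomologicalComplex.hom_ext _ _ fun n => ?_
    have hn : IsZero (((Ttw ((plb W.ι).obj G)).obj P').X n) :=
      ((DCoh.tensorBi (X := (W : Scheme.{u}))).obj (P'.X n)).map_isZero hG
    exact hn.eq_of_src _ _
  exact (DerivedCategory.Q (C := (W : Scheme.{u}).Modules)).map_isZero h0

/-- local structure of `E ⊗^L G` for perfect `E`: locally it is `E1 ⊗ G|_V` (termwise) with `E1`
strictly perfect -/
theorem exists_local_Ttw_iso (E : DCoh.D X) (hE : DCoh.IsPerfect E) (G : X.Modules) (x : X) :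
    ∃ (V : X.Opens) (c d : ℤ) (E1 : CochainComplex (V : Scheme.{u}).Modules ℤ), x ∈ V ∧
      DCoh.IsStrictlyPerfect E1 ∧ DCoh.VanishesOutside E1 c d ∧
      Nonempty ((DCoh.restrictD V.ι).obj ((DCoh.LTensorMod G).obj E) ≅
        DCoh.toD (V : Scheme.{u}) ((Ttw ((plb V.ι).obj G)).obj E1)) := by
  let F0 := (DerivedCategory.Q (C := X.Modules)).objPreimage E
  have e0 : DerivedCategory.Q.obj F0 ≅ E := (DerivedCategory.Q (C := X.Modules)).objObjPreimageIso E
  obtain ⟨P, q, hP, -, hq, -⟩ : ∃ (P : CochainComplex X.Modules ℤ) (q : P ⟶ F0),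
      DCoh.IsKFlat P ∧ (∀ n : ℤ, ModSite.IsFlat (O := X.sheaf) (P.X n)) ∧ QuasiIso q ∧
        ∀ n : ℤ, Epi (q.f n) := exists_kflat_flat_resolution X.sheaf F0
  haveI : QuasiIso q := hq
  haveI : IsIso (DerivedCategory.Q.map q) := by
    rw [DerivedCategory.isIso_Q_map_iff_quasiIso]; exact hq
  have eK : E ≅ DerivedCategory.Q.obj P := e0.symm ≪≫ (asIso (DerivedCategory.Q.map q)).symm
  obtain ⟨V, hxV, h1⟩ := hE x
  obtain ⟨E1, hE1, ⟨i1⟩⟩ := h1 P ⟨eK.symm⟩
  obtain ⟨⟨c, d, hcd⟩, -⟩ := id hE1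
  refine ⟨V, c, d, E1, hxV, hE1, hcd, ⟨?_⟩⟩
  have hfP : DCoh.IsKFlat ((pullC V.ι).obj P) := Groth.Agent.S0960.isKFlat_pullC V.ι P hP
  have hE1K : DCoh.IsKFlat E1 := (kffs_of_isStrictlyPerfect E1 hE1).1
  have i2 : DCoh.toD (V : Scheme.{u}) ((pullC V.ι).obj P) ≅ DCoh.toD (V : Scheme.{u}) E1 :=
    DerivedCategory.Q.mapIso ((restrictCxIso V).app P).symm ≪≫ i1
  exact (DCoh.restrictD V.ι).mapIso ((DCoh.LTensorMod G).mapIso eK ≪≫ ltmIso G P hP) ≪≫
    (Scheme.Modules.restrictFunctor V.ι).mapDerivedCategoryFactors.app _ ≪≫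
    DerivedCategory.Q.mapIso ((restrictCxIso V).app _) ≪≫
    DerivedCategory.Q.mapIso (pullTtwIso V.ι G P) ≪≫
    (ltmIso ((plb V.ι).obj G) _ hfP).symm ≪≫
    (DCoh.LTensorMod ((plb V.ι).obj G)).mapIso i2 ≪≫
    ltmIso ((plb V.ι).obj G) E1 hE1K

end Groth.Agent.Lib.T2H1.LTensorModLocal
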