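import Groth.Agent.Lib.T2H1LTensorModLocal
import Groth.Agent.Lib.T2H1RelPerfTilde
import Groth.Agent.Lib.T2H1RelFlatAmp
import Groth.Agent.Lib.Helper1KBC4
set_option backward.isDefEq.respectTransparency.types false

/-!
# `E ⊗^L G` for a perfect object `E` and a module `G` flat over a base (helper1)
-/

set_option autoImplicit false
set_option linter.style.haveILetI false
universe u
open CategoryTheory CategoryTheory.Limits AlgebraicGeometry HomologicalComplex MonoidalCategory
  TensorProduct

attribute [local instance] HasDerivedCategory.standard

namespace Groth.Agent.Lib.T2H1.LTensorModPerf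

open Groth.Agent.Lib.Helper1.CI Groth.Agent.Lib.Helper1.PT Groth.Agent.Lib.Helper1.Sky
  Groth.Agent.Lib.Helper1.KBC Groth.Agent.Lib.Helper1.BKF

section Ring

/-- `M` flat over `B`, `N` a `B`-module flat over `A`: then `M ⊗_B N` is flat over `A`. -/
theorem flat_tensor_of_flat_of_flat (A B M N : Type u) [CommRing A] [CommRing B] [Algebra A B]
    [AddCommGroup M] [Module B M] [AddCommGroup N] [Module B N] [Module A N] [IsScalarTower A B N]
    [Module A M] [IsScalarTower A B M]
    [Module.Flat B M] [Module.Flat A N] : Module.Flat A (M ⊗[B] N) := by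
  rw [Module.Flat.iff_lTensor_preserves_injective_linearMap]
  intro T' T _ _ _ _ ι hι
  have h1 : Function.Injective (AlgebraTensorModule.lTensor B N ι) :=
    Module.Flat.lTensor_preserves_injective_linearMap (M := N) ι hι
  have h2 : Function.Injective ((AlgebraTensorModule.lTensor B N ι).lTensor M) :=
    Module.Flat.lTensor_preserves_injective_linearMap (M := M) _ h1
  have hcomm : ∀ z, (AlgebraTensorModule.assoc A B B M N T) (ι.lTensor (M ⊗[B] N) z) =
      ((AlgebraTensorModule.lTensor B N ι).lTensor M)
        ((AlgebraTensorModule.assoc A B B M N T') z) := by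
    intro z
    induction z using TensorProduct.induction_on with
    | zero => simp
    | tmul x t =>
      induction x using TensorProduct.induction_on with
      | zero => simp
      | tmul m n => rfl
      | add x y hx hy =>
        rw [TensorProduct.add_tmul, map_add, map_add, hx, hy, map_add, map_add]
    | add x y hx hy => rw [map_add, map_add, hx, hy, map_add, map_add]
  intro z z' hzz'
  apply (AlgebraTensorModule.assoc A B B M N T').injective
  apply h2
  rw [← hcomm, ← hcomm, hzz']

/-- the version for module categories and restriction of scalars -/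
theorem flat_restrictScalars_tensorObj {A B : Type u} [CommRing A] [CommRing B] (φ : A →+* B)
    (M N : ModuleCat.{u} B) [Module.Flat B M]
    (hN : Module.Flat A ((ModuleCat.restrictScalars.{u} φ).obj N)) :
    Module.Flat A ((ModuleCat.restrictScalars.{u} φ).obj (M ⊗ N)) := by
  letI : Algebra A B := φ.toAlgebra
  letI : Module A M := Module.compHom M φ
  letI : Module A N := Module.compHom N φ
  haveI : IsScalarTower A B M := IsScalarTower.of_algebraMap_smul fun r m => rfl
  haveI : IsScalarTower A B N := IsScalarTower.of_algebraMap_smul fun r m => rfl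
  haveI : Module.Flat A N := hN
  haveI := flat_tensor_of_flat_of_flat A B M N
  let e : (M ⊗[B] N) ≃ₗ[A] ((ModuleCat.restrictScalars.{u} φ).obj (M ⊗ N)) :=
    { toFun := fun z => z
      invFun := fun z => z
      left_inv := fun _ => rfl
      right_inv := fun _ => rfl
      map_add' := fun _ _ => rfl
      map_smul' := fun a z => (algebraMap_smul B a z).symm }
  exact Module.Flat.of_linearEquiv e.symm

end Ring

section Sch

variable {X S : Scheme.{u}} (f : X ⟶ S)

/-- the tensor product of a flat `O_X`-module with a module flat over the base is flat over the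
base -/
theorem isFlatOver_tensorRightMod (A G : X.Modules) (hA : FlatMod.IsFlat A)
    (hG : FlatMod.IsFlatOver f G) :
    FlatMod.IsFlatOver f ((DCoh.tensorRightMod G).obj A) := by
  intro x
  have hG' : Module.Flat (S.presheaf.stalk (f.base x)) ((DerSch.stalkOver f x).obj G) := hG x
  haveI hA' : Module.Flat (Ox x) ((stalkFun x).obj A) := hA x
  have hG'' : Module.Flat (S.presheaf.stalk (f.base x))
      ((ModuleCat.restrictScalars.{u} (f.stalkMap x).hom).obj ((stalkFun x).obj G)) := hG'
  have h1 := flat_restrictScalars_tensorObj (f.stalkMap x).hom ((stalkFun x).obj A)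
    ((stalkFun x).obj G) hG''
  have e : (DerSch.stalkOver f x).obj ((DCoh.tensorRightMod G).obj A) ≅
      (ModuleCat.restrictScalars.{u} (f.stalkMap x).hom).obj
        ((stalkFun x).obj A ⊗ (stalkFun x).obj G) :=
    (ModuleCat.restrictScalars.{u} (f.stalkMap x).hom).mapIso
      ((stalkFunctorIso x).app _ ≪≫ stalkTensorApp x A G)
  have h2 : Module.Flat (S.presheaf.stalk (f.base x))
      ((DerSch.stalkOver f x).obj ((DCoh.tensorRightMod G).obj A)) :=
    Module.Flat.of_linearEquiv e.toLinearEquiv
  exact h2

end Sch

end Groth.Agent.Lib.T2H1.LTensorModPerf
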