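import Groth.Agent.Lib.T2H1RpushTorAmpF
set_option backward.isDefEq.respectTransparency.types false

/-!
# Perfectness of `Rf_* K` for `K ∈ D^b_Coh` with proper support and locally finite tor amplitude
over a Noetherian base (helper1)
-/

set_option autoImplicit false
set_option linter.style.haveILetI false
universe u
open CategoryTheory CategoryTheory.Limits AlgebraicGeometry HomologicalComplex Pretriangulated

attribute [local instance] HasDerivedCategory.standard

namespace Groth.Agent.Lib.T2H1.RpushTorAmp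

open Groth.Agent.Lib.T2H1.RelPerfTri Groth.Agent.Lib.T2H1.TorAmpRestrict
  Groth.Agent.Lib.T2H1.RelPerfTilde Groth.Agent.Lib.T2H2.TorAmpComp DTen
  Groth.Agent.Lib.Helper1.KF Groth.Agent.Lib.Helper1.DT DerivedCategory
  Groth.Agent.Lib.Helper1.Tor Groth.Agent.Lib.T2H1.RpushShift

attribute [local instance] Groth.Agent.Lib.T2H1.RpushSupport.hasRpush

variable {X S : Scheme.{u}}

/-- `Rf_* K` is perfect for `K` bounded with coherent cohomology, supports proper over the
Noetherian base `S`, and locally finite tor amplitude over `S` (stalkwise form). -/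
theorem isPerfect_Rpush_of_coh_properSupport' [IsNoetherian S] (f : X ⟶ S)
    [LocallyOfFiniteType f] (K : DCoh.D X) (hK : DCoh.IsCohD K) (a₀ b₀ : ℤ) [K.IsGE a₀]
    [K.IsLE b₀] (hsupp : ∀ i : ℤ, ClSub.IsProperOver f (CohB1.support (DCoh.HD K i)))
    (hTA : LocTA f K) :
    DCoh.IsPerfect ((DCoh.Rpush f).obj K) := by
  haveI : IsLocallyNoetherian X := LocallyOfFiniteType.isLocallyNoetherian f
  rw [Groth.Agent.S0914.result]
  obtain ⟨h1, h2, b', h3⟩ := Groth.Agent.S1001.result f K a₀ b₀ hK hsupp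
  refine ⟨fun m => ?_, ?_⟩
  · exact Groth.Agent.Lib.T2H2.AffRed.isPseudoCoherentD_of_coherent _ (fun i => (h1 i).1) m
      (fun i _ => h1 i) b' ((DerivedCategory.isLE_iff _ b').1 h3)
  · -- the union of the supports
    let T : Set X := ⋃ i : Set.Icc a₀ b₀, CohB1.support (DCoh.HD K i.1)
    have hTp : ClSub.IsProperOver f T :=
      Groth.Agent.Lib.Helper1.isProperOver_iUnion f (ι := Set.Icc a₀ b₀) _ (fun i => hsupp i.1)
    have hTsub : ∀ i : ℤ, CohB1.support (DCoh.HD K i) ⊆ T := by
      intro i z hz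
      by_cases hi : i ∈ Set.Icc a₀ b₀
      · exact Set.mem_iUnion.2 ⟨⟨i, hi⟩, hz⟩
      · exfalso
        have hzero : IsZero (DCoh.HD K i) := by
          rw [Set.mem_Icc, not_and_or, not_le, not_le] at hi
          rcases hi with hi | hi
          · exact DerivedCategory.isZero_of_isGE K a₀ i hi
          · exact DerivedCategory.isZero_of_isLE K b₀ i hi
        have hz' : z ∉ CohB1.support (DCoh.HD K i) := by
          have h0 : IsZero ((Scheme.Modules.restrictFunctor (⊤ : X.Opens).ι).obj (DCoh.HD K i)) :=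
            (Scheme.Modules.restrictFunctor (⊤ : X.Opens).ι).map_isZero hzero
          exact Groth.Agent.Lib.T2H1.RpushSupport.not_mem_support_of_isZero_restrict _ ⊤ h0 z
            trivial
        exact hz' hz
    obtain ⟨U, hUc, hTU⟩ := exists_isCompact_opens_superset T
      (isCompact_of_isProperOver f T hTp)
    haveI : CompactSpace (U : Scheme.{u}) := isCompact_iff_compactSpace.mp hUc
    haveI : IsLocallyNoetherian (U : Scheme.{u}) := inferInstance
    haveI : QuasiSeparatedSpace (U : Scheme.{u}) := inferInstance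
    haveI : QuasiCompact (U.ι ≫ f) := inferInstance
    haveI : QuasiSeparated (U.ι ≫ f) := inferInstance
    obtain ⟨e₁⟩ := Groth.Agent.Lib.T2H1.SuppPush.nonempty_iso_Rpush_restrict U T hTp.1 hTU K hTsub
    obtain ⟨c⟩ := Groth.Agent.S0922.result U.ι f
    have e₂ : (DCoh.Rpush f).obj K ≅
        (DCoh.Rpush (U.ι ≫ f)).obj ((DCoh.restrictD U.ι).obj K) :=
      (DCoh.Rpush f).mapIso e₁ ≪≫ c.app _
    have hq : DCoh.IsQCohD ((DCoh.restrictD U.ι).obj K) :=
      Groth.Agent.Lib.T2H2.AffRpush.isQCohD_restrictD _ K (fun i => (hK i).1)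
    have hTA' : LocTA ((U.ι ≫ f) ≫ 𝟙 S) ((DCoh.restrictD U.ι).obj K) := by
      intro u
      obtain ⟨V, a, b, huV, H⟩ := hTA (U.ι u)
      refine ⟨U.ι ⁻¹ᵁ V, a, b, huV, fun u' hu' => ?_⟩
      have h4 := (tAat_restrictD_iff U.ι f K a b u').2 (H _ hu')
      exact (tAat_congr (Category.comp_id _).symm _ a b u').1 h4
    intro y
    obtain ⟨V, a', b'', hyV, hV⟩ := exists_nhd_tAat_Rpush (U.ι ≫ f) (𝟙 S) _ hq hTA' y
    exact ⟨V, a', b'', hyV, fun F' ⟨e⟩ =>
      hasFlatAmplitudeIn_restrict_of_tAat_id _ V a' b'' hV F' (e ≪≫ e₂)⟩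

end Groth.Agent.Lib.T2H1.RpushTorAmp
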