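import Mathlib
import Groth.Prelude.Def_Omega4
import Groth.Agent.Lib.Helper1PT3
import Groth.Agent.Lib.Helper6QCohQcqs

/-!
# The pullback of a module is locally generated by pulled back sections
-/

set_option autoImplicit false
set_option linter.style.haveILetI false
set_option linter.unusedSectionVars false
universe u
open CategoryTheory CategoryTheory.Limits AlgebraicGeometry TopologicalSpace Opposite
open TensorProduct

namespace Groth.Agent.Lib.T2H3.PullGen

open Groth.Agent.Lib.Helper1.PT Groth.Agent.Lib.Helper1.Sky Groth.Agent.Lib.Helper1.StalkTensor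
open Groth.Agent.Lib.Helper6

variable {X Y : Scheme.{u}} (f : X ⟶ Y) (M : Y.Modules)

/-- restrictions of pulled back sections -/
def unitSet (W : X.Opens) : Set Γ((Scheme.Modules.pullback f).obj M, W) :=
  {s | ∃ (V : Y.Opens) (hV : W ≤ f ⁻¹ᵁ V) (t : Γ(M, V)),
    s = res ((Scheme.Modules.pullback f).obj M) hV (OmegaSh.pullSect f M V t)}

/-- the sections which are combinations of pulled back sections -/
noncomputable def locSpan (W : X.Opens) :
    Submodule Γ(X, W) Γ((Scheme.Modules.pullback f).obj M, W) :=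
  Submodule.span Γ(X, W) (unitSet f M W)

theorem res_mem_locSpan {W W' : X.Opens} (h : W' ≤ W)
    {s : Γ((Scheme.Modules.pullback f).obj M, W)} (hs : s ∈ locSpan f M W) :
    res ((Scheme.Modules.pullback f).obj M) h s ∈ locSpan f M W' := by
  induction hs using Submodule.span_induction with
  | mem s hs =>
    obtain ⟨V, hV, t, rfl⟩ := hs
    apply Submodule.subset_span
    exact ⟨V, h.trans hV, t, res_res _ hV h _⟩
  | zero => rw [res_zero]; exact zero_mem _
  | add a b _ _ ha hb =>
    have : res ((Scheme.Modules.pullback f).obj M) h (a + b) =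
      res ((Scheme.Modules.pullback f).obj M) h a + res ((Scheme.Modules.pullback f).obj M) h b :=
      map_add _ _ _
    rw [this]; exact add_mem ha hb
  | smul r a _ ha => rw [res_smul]; exact Submodule.smul_mem _ _ ha

/-- the germs of pulled back sections -/
def germSet (x : X) : Set ((stalkFun x).obj ((plb f).obj M)) :=
  {a | ∃ (V : Y.Opens) (hy : f x ∈ V) (t : (toPM M).obj (op V)),
        a = gm (toPM ((plb f).obj M)) x (f ⁻¹ᵁ V) hy ((toPMMap (un f M)).app (op V) t)}

open ChangeOfRings in
/-- germs of pulled back sections span the stalk of the pullback -/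
theorem span_germ_unit_eq_top (x : X) :
    Submodule.span (Ox x) (germSet f M x) = ⊤ := by
  let q : (stalkFun x).obj ((plb f).obj M) ⟶
      ModuleCat.of (Ox x) (((stalkFun x).obj ((plb f).obj M)) ⧸ Submodule.span (Ox x) (germSet f M x)) :=
    ModuleCat.ofHom (Submodule.span (Ox x) (germSet f M x)).mkQ
  have hq : (stalkPullbackIso f x).inv.app M ≫ q = 0 := by
    apply ModuleCat.ExtendScalars.hom_ext
    intro m
    obtain ⟨V, hy, t, rfl⟩ := exists_gm_eq (P := toPM M) m
    have h1 := sigma_inv_unit f x M V hy t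
    change q.hom (((stalkPullbackIso f x).inv.app M).hom
      ((1 : Ox x) ⊗ₜ[Ox (f x), (f.stalkMap x).hom] (gm (toPM M) (f x) V hy t))) = 0
    rw [h1]
    change (Submodule.span (Ox x) (germSet f M x)).mkQ _ = 0
    rw [Submodule.mkQ_apply, Submodule.Quotient.mk_eq_zero]
    exact Submodule.subset_span ⟨V, hy, t, rfl⟩
  have hq0 : q = 0 := by
    rw [← cancel_epi ((stalkPullbackIso f x).inv.app M), hq, comp_zero]
  rw [eq_top_iff]
  intro a _
  have h2 := congrArg (fun g => g.hom a) hq0
  change (Submodule.span (Ox x) (germSet f M x)).mkQ a = 0 at h2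
  rwa [Submodule.mkQ_apply, Submodule.Quotient.mk_eq_zero] at h2

theorem res_self' (P : X.Modules) {W : X.Opens} (s : Γ(P, W)) : res P (le_refl W) s = s := by
  change P.presheaf.map (𝟙 _) s = s
  rw [P.presheaf.map_id]
  rfl

/-- every germ is the germ of a combination of pulled back sections -/
theorem exists_locSpan_germ (x : X) (a : (stalkFun x).obj ((plb f).obj M)) :
    ∃ (W : X.Opens) (hx : x ∈ W) (s : Γ((Scheme.Modules.pullback f).obj M, W)),
      s ∈ locSpan f M W ∧ gm (toPM ((plb f).obj M)) x W hx s = a := by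
  have ha : a ∈ Submodule.span (Ox x) (germSet f M x) := by
    rw [span_germ_unit_eq_top]; trivial
  induction ha using Submodule.span_induction with
  | mem a ha =>
    obtain ⟨V, hy, t, rfl⟩ := ha
    refine ⟨f ⁻¹ᵁ V, hy, (toPMMap (un f M)).app (op V) t, ?_, rfl⟩
    apply Submodule.subset_span
    exact ⟨V, le_rfl, t, (res_self' _ _).symm⟩
  | zero => exact ⟨⊤, trivial, 0, zero_mem _, map_zero _⟩
  | add a b _ _ ha hb =>
    obtain ⟨W1, hx1, s1, hs1, rfl⟩ := ha
    obtain ⟨W2, hx2, s2, hs2, rfl⟩ := hb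
    have hx12 : x ∈ W1 ⊓ W2 := ⟨hx1, hx2⟩
    refine ⟨W1 ⊓ W2, hx12,
      res ((Scheme.Modules.pullback f).obj M) inf_le_left s1 +
        res ((Scheme.Modules.pullback f).obj M) inf_le_right s2,
      add_mem (res_mem_locSpan f M _ hs1) (res_mem_locSpan f M _ hs2), ?_⟩
    refine (map_add (gm (toPM ((plb f).obj M)) x (W1 ⊓ W2) hx12) _ _).trans ?_
    congr 1
    · exact gm_rs (P := toPM ((plb f).obj M)) (homOfLE inf_le_left) hx12 s1
    · exact gm_rs (P := toPM ((plb f).obj M)) (homOfLE inf_le_right) hx12 s2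
  | smul r a _ ha =>
    obtain ⟨W1, hx1, s1, hs1, rfl⟩ := ha
    obtain ⟨W2, hx2, r0, rfl⟩ := exists_gr_eq (R := X.presheaf) r
    have hx12 : x ∈ W1 ⊓ W2 := ⟨hx1, hx2⟩
    refine ⟨W1 ⊓ W2, hx12,
      (resf (X := X) inf_le_right r0 : Γ(X, W1 ⊓ W2)) •
        res ((Scheme.Modules.pullback f).obj M) inf_le_left s1,
      Submodule.smul_mem _ _ (res_mem_locSpan f M _ hs1), ?_⟩
    have h1 := gm_smul (P := toPM ((plb f).obj M)) (x := x) (U := W1 ⊓ W2) hx12
      (resf (X := X) inf_le_right r0) (res ((Scheme.Modules.pullback f).obj M) inf_le_left s1)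
    refine h1.trans ?_
    congr 1
    · exact gr_rr (R := X.presheaf) (homOfLE inf_le_right) hx12 r0
    · exact gm_rs (P := toPM ((plb f).obj M)) (homOfLE inf_le_left) hx12 s1

/-- G1: every section of the pullback is locally a combination of pulled back sections. -/
theorem exists_res_mem_locSpan {W : X.Opens} (σ : Γ((Scheme.Modules.pullback f).obj M, W)) (x : X)
    (hx : x ∈ W) :
    ∃ (W' : X.Opens) (_ : x ∈ W') (hW' : W' ≤ W),
      res ((Scheme.Modules.pullback f).obj M) hW' σ ∈ locSpan f M W' := by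
  obtain ⟨W1, hx1, s, hs, hgs⟩ := exists_locSpan_germ f M x (gm (toPM ((plb f).obj M)) x W hx σ)
  obtain ⟨W2, hx2, i1, i2, h12⟩ := gm_eq (P := toPM ((plb f).obj M)) hx1 hx s σ hgs
  refine ⟨W2, hx2, i2.le, ?_⟩
  have h3 : res ((Scheme.Modules.pullback f).obj M) i2.le σ =
      res ((Scheme.Modules.pullback f).obj M) i1.le s := h12.symm
  rw [h3]
  exact res_mem_locSpan f M i1.le hs

end Groth.Agent.Lib.T2H3.PullGen
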