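import Mathlib
import Groth.Prelude.Def_RefHull
import Groth.Agent.Lib.Helper1Sky4

/-!
# Germs of local generating sections generate the stalks; `evalStalk` is injective for finite type
modules (helper8, team 2)
-/

set_option autoImplicit false
set_option linter.unusedSectionVars false
set_option linter.style.haveILetI false
set_option backward.isDefEq.respectTransparency.types false
universe u
open CategoryTheory CategoryTheory.Limits TopCat TopologicalSpace Opposite AlgebraicGeometry

namespace Groth.Agent.Lib.T2H8.FTGerms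

open Groth.Agent.Lib.Helper1.Sky Groth.Agent.Lib.Helper1.StalkTensor

variable {X : Scheme.{u}}

/-- the value over `W` of a section of `M.over W` -/
noncomputable def secW (M : X.Modules) (W : X.Opens) (s : (M.over W).sections) :
    (toPM M).obj (op W) := s.val (op (Over.mk (𝟙 W)))

/-- the germs of generating sections of `M.over W` generate the stalks at the points of `W` -/
theorem span_germs_eq_top (M : X.Modules) (W : X.Opens) (G : (M.over W).GeneratingSections)
    (y : X) (hy : y ∈ W) :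
    Submodule.span (Ox y) (Set.range fun k : G.I => gm (toPM M) y W hy (secW M W (G.s k))) = ⊤ := by
  set S := Submodule.span (Ox y) (Set.range fun k : G.I => gm (toPM M) y W hy (secW M W (G.s k)))
    with hS
  let Q : ModuleCat.{u} (Ox y) := ModuleCat.of (Ox y) (St (toPM M) y ⧸ S)
  let q : St (toPM M) y →ₗ[Ox y] Q := S.mkQ
  let φ : M ⟶ skyMod y Q := ⟨ofStalk (R := X.presheaf) (x := y) (N := Q) (P := toPM M) q⟩
  let ψ : M.over W ⟶ (skyMod y Q).over W := (SheafOfModules.overFunctor _ W).map φ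
  have hψ : G.π ≫ ψ = G.π ≫ 0 := by
    apply (SheafOfModules.freeHomEquiv _).injective
    funext k
    rw [SheafOfModules.freeHomEquiv_comp_apply, SheafOfModules.freeHomEquiv_comp_apply]
    have e : (M.over W).freeHomEquiv G.π k = G.s k := by
      change (M.over W).freeHomEquiv ((M.over W).freeHomEquiv.symm G.s) k = G.s k
      rw [Equiv.apply_symm_apply]
    rw [e]
    apply PresheafOfModules.sections_ext
    intro Y
    change ψ.val.app Y ((G.s k).val Y) = (0 : M.over W ⟶ (skyMod y Q).over W).val.app Y ((G.s k).val Y)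
    have hz : (0 : M.over W ⟶ (skyMod y Q).over W).val.app Y ((G.s k).val Y) = 0 := rfl
    rw [hz]
    have hprop := PresheafOfModules.sections_property (G.s k)
      (Over.homMk (U := Y.unop) (V := Over.mk (𝟙 W)) Y.unop.hom (by simp)).op
    apply SkyT.ext (R := X.presheaf) (U := Y.unop.left)
    intro hx
    change q (gm (toPM M) y Y.unop.left hx ((G.s k).val Y)) = 0
    have e1 : gm (toPM M) y Y.unop.left hx ((G.s k).val Y) =
        gm (toPM M) y W hy (secW M W (G.s k)) := by
      have h1 := gm_rs (P := toPM M) (x := y) Y.unop.hom hx (secW M W (G.s k))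
      rw [← h1]
      congr 1
      exact hprop.symm
    rw [e1]
    exact (Submodule.Quotient.mk_eq_zero S).2 (Submodule.subset_span ⟨k, rfl⟩)
  have hψ0 : ψ = 0 := (cancel_epi G.π).1 hψ
  have hφ : ∀ (V : X.Opens) (hVW : V ≤ W) (p : (toPM M).obj (op V)), φ.val.app (op V) p = 0 := by
    intro V hVW p
    have h2 := congrArg (fun (χ : M.over W ⟶ (skyMod y Q).over W) =>
      χ.val.app (op (Over.mk (homOfLE hVW))) p) hψ0
    exact h2
  rw [eq_top_iff]
  intro a _
  obtain ⟨U, hU, p, rfl⟩ := exists_gm_eq a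
  have h3 := hφ (U ⊓ W) inf_le_right (rs (toPM M) (homOfLE inf_le_left) p)
  have h4 : q (gm (toPM M) y (U ⊓ W) ⟨hU, hy⟩ (rs (toPM M) (homOfLE inf_le_left) p)) = 0 :=
    congrArg (fun t => SkyT.ev X.presheaf (U ⊓ W) t ⟨hU, hy⟩) h3
  rw [gm_rs] at h4
  exact (Submodule.Quotient.mk_eq_zero S).1 h4

/-- a finite type module is, near any point, generated by finitely many sections at all stalks -/
theorem exists_generators (F : X.Modules) (hF : CohB1.IsFT F) (x : X) :
    ∃ (V : X.Opens) (_ : x ∈ V) (I : Type u) (_ : Finite I) (m : I → (toPM F).obj (op V)),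
      ∀ (y : X) (hy : y ∈ V),
        Submodule.span (Ox y) (Set.range fun k => gm (toPM F) y V hy (m k)) = ⊤ := by
  obtain ⟨σ, hσ⟩ := hF.exists_localGeneratorsData
  have cov := σ.coversTop
  rw [Opens.coversTop_iff, IsOpenCover] at cov
  have hx : x ∈ (⨆ i, σ.X i : X.Opens) := by rw [cov]; trivial
  obtain ⟨i, hi⟩ := Opens.mem_iSup.1 hx
  have hfin := (hσ.isFiniteType i).finite
  exact ⟨σ.X i, hi, (σ.generators i).I, hfin, fun k => secW F (σ.X i) ((σ.generators i).s k),
    fun y hy => span_germs_eq_top F (σ.X i) (σ.generators i) y hy⟩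

theorem main_S16484 (X : Scheme.{u}) (F G : X.Modules) (hF : CohB1.IsFT F) (x : X) :
    Function.Injective (RefHull.evalStalk F G x) := by
  rw [injective_iff_map_eq_zero]
  intro θ hθ
  obtain ⟨U, hxU, g, rfl⟩ := TopCat.Presheaf.exists_germ_eq (RefHull.homSh F G).presheaf θ
  rw [RefHull.evalStalk_germ] at hθ
  obtain ⟨V, hxV, I, hI, m, hm⟩ := exists_generators F hF x
  have key : ∀ k : I, ∃ (W : X.Opens) (_ : x ∈ W) (hWU : W ≤ U) (hWV : W ≤ V),
      ∀ (y : X) (hy : y ∈ W),
        g.1 ⟨y, hWU hy⟩ (F.presheaf.germ V y (hWV hy) (m k)) = 0 := by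
    intro k
    obtain ⟨W, hxW, j, n, hn⟩ := RefHull.isLocSect_of_mem g (V ⊓ U) (homOfLE inf_le_right)
      (F.presheaf.map (homOfLE (inf_le_left : V ⊓ U ≤ V)).op (m k)) ⟨x, ⟨hxV, hxU⟩⟩
    have h0 : G.presheaf.germ W x hxW n = 0 := by
      rw [← hn ⟨x, hxW⟩]
      change g.1 ⟨x, hxU⟩ _ = 0
      rw [hθ]
      rfl
    obtain ⟨W', hxW', iU, iV, hW'⟩ := TopCat.Presheaf.germ_eq G.presheaf x hxW hxW n 0
      (h0.trans (map_zero _).symm)
    rw [map_zero] at hW'
    refine ⟨W', hxW', iU.le.trans (j.le.trans inf_le_right), iU.le.trans (j.le.trans inf_le_left),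
      fun y hy => ?_⟩
    have e := hn ⟨y, iU.le hy⟩
    rw [TopCat.Presheaf.germ_res_apply] at e
    refine e.trans ?_
    rw [← TopCat.Presheaf.germ_res_apply G.presheaf iU y hy n, hW', map_zero]
  choose W hxW hWU hWV hW using key
  let W₀ : X.Opens := ⟨⋂ k, (W k : Set X), isOpen_iInter_of_finite fun k => (W k).isOpen⟩
  have hW₀ : ∀ k, W₀ ≤ W k := fun k y hy => Set.mem_iInter.1 hy k
  let W₁ : X.Opens := W₀ ⊓ (V ⊓ U)
  have hxW₁ : x ∈ W₁ := ⟨Set.mem_iInter.2 hxW, hxV, hxU⟩
  have hW₁U : W₁ ≤ U := inf_le_right.trans inf_le_right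
  have hzero : (RefHull.homSh F G).presheaf.map (homOfLE hW₁U).op g = 0 := by
    apply Subtype.ext
    funext y
    change g.1 ⟨y.1, hW₁U y.2⟩ = 0
    have hyV : y.1 ∈ V := y.2.2.1
    apply LinearMap.ext_on (hm y.1 hyV)
    rintro _ ⟨k, rfl⟩
    exact hW k y.1 (hW₀ k y.2.1)
  rw [← TopCat.Presheaf.germ_res_apply (RefHull.homSh F G).presheaf (homOfLE hW₁U) x hxW₁ g, hzero,
    map_zero]

end Groth.Agent.Lib.T2H8.FTGerms
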