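import Mathlib
import Groth.Agent.Lib.T2H1FlatAmpDescend
import Groth.Agent.Lib.T2H3PullGen
import Groth.Agent.Lib.T2H8FTGerms

/-!
# fppf descent of finite type for arbitrary modules, part A: stalks (T2H2)

If the germs of pulled back sections `f^* t_τ` span the stalk of `f^* M` at `y'` and `f` is flat,
then the germs of the `t_τ` span the stalk of `M` at `f y'`.
-/

set_option autoImplicit false
set_option linter.style.haveILetI false
set_option linter.unusedSectionVars false
universe u
open CategoryTheory CategoryTheory.Limits AlgebraicGeometry TopologicalSpace Opposite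
open TensorProduct

namespace Groth.Agent.Lib.T2H2.FppfFT

open Groth.Agent.Lib.Helper1.PT Groth.Agent.Lib.Helper1.Sky Groth.Agent.Lib.Helper1.StalkTensor

section Algebra

open ChangeOfRings in
/-- the element `1 ⊗ n` of the extension of scalars -/
noncomputable def oneT {A B : Type u} [CommRing A] [CommRing B] (φ : A →+* B) (N : ModuleCat.{u} A)
    (n : N) : ((ModuleCat.extendScalars.{u, u, u} φ).obj N : Type u) :=
  (1 : B) ⊗ₜ[A, φ] n

open ChangeOfRings in
/-- faithfully flat descent of generation -/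
theorem span_eq_top_of_extendScalars {A B : Type u} [CommRing A] [CommRing B] [IsLocalRing A]
    [IsLocalRing B] (φ : A →+* B) (hφ : φ.Flat) [IsLocalHom φ] (N : ModuleCat.{u} A)
    {T : Type*} (g : T → N)
    (h : Submodule.span B (Set.range fun τ => oneT φ N (g τ)) = ⊤) :
    Submodule.span A (Set.range g) = ⊤ := by
  set L := Submodule.span A (Set.range g) with hL
  let Q : ModuleCat.{u} A := ModuleCat.of A (N ⧸ L)
  let q : N ⟶ Q := ModuleCat.ofHom L.mkQ
  have hq0 : (ModuleCat.extendScalars.{u, u, u} φ).map q = 0 := by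
    apply ModuleCat.hom_ext
    apply LinearMap.ext_on h
    rintro _ ⟨τ, rfl⟩
    change ((1 : B) ⊗ₜ[A, φ] (q.hom (g τ)) : (ModuleCat.extendScalars.{u, u, u} φ).obj Q) = 0
    have : q.hom (g τ) = 0 := by
      change L.mkQ (g τ) = 0
      rw [Submodule.mkQ_apply, Submodule.Quotient.mk_eq_zero]
      exact Submodule.subset_span ⟨τ, rfl⟩
    rw [this]
    exact TensorProduct.tmul_zero _ _
  have hz : IsZero ((ModuleCat.extendScalars.{u, u, u} φ).obj Q) := by
    rw [IsZero.iff_id_eq_zero]
    apply ModuleCat.ExtendScalars.hom_ext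
    intro m
    obtain ⟨n, rfl⟩ := L.mkQ_surjective m
    have h2 := congrArg (fun ψ => ψ.hom ((1 : B) ⊗ₜ[A, φ] n)) hq0
    exact h2
  have hQ : IsZero Q :=
    Groth.Agent.Lib.T2H1.FlatAmpDescend.isZero_of_isZero_extendScalars φ hφ Q hz
  rw [eq_top_iff]
  intro n _
  have h3 : L.mkQ n = 0 := by
    haveI := ModuleCat.subsingleton_of_isZero hQ
    exact Subsingleton.elim (α := N ⧸ L) _ _
  rwa [Submodule.mkQ_apply, Submodule.Quotient.mk_eq_zero] at h3

end Algebra

variable {X' X : Scheme.{u}} (f : X' ⟶ X) [Flat f] (M : X.Modules)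

open ChangeOfRings in
/-- descent of generation of stalks along a flat morphism -/
theorem span_germ_eq_top_of_pull (y' : X') (V : X.Opens) (hy : f y' ∈ V) {T : Type*}
    (t : T → (toPM M).obj (op V))
    (h : Submodule.span (Groth.Agent.Lib.Helper1.Sky.Ox y') (Set.range fun τ =>
      gm (toPM ((plb f).obj M)) y' (f ⁻¹ᵁ V) hy ((toPMMap (un f M)).app (op V) (t τ))) = ⊤) :
    Submodule.span (Groth.Agent.Lib.Helper1.Sky.Ox (f y')) (Set.range fun τ => gm (toPM M) (f y') V hy (t τ)) = ⊤ := by
  apply span_eq_top_of_extendScalars (f.stalkMap y').hom (Flat.stalkMap f y')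
    ((stalkFun (f y')).obj M) (fun τ => gm (toPM M) (f y') V hy (t τ))
  let Ψ := ((stalkPullbackIso f y').hom.app M).hom
  have hΨ : Function.Surjective Ψ := by
    intro b
    refine ⟨((stalkPullbackIso f y').inv.app M).hom b, ?_⟩
    have h1 := (stalkPullbackIso f y').inv_hom_id_app M
    exact congrArg (fun g => g.hom b) h1
  rw [eq_top_iff]
  intro b _
  obtain ⟨a, rfl⟩ := hΨ b
  have ha : a ∈ Submodule.span (Groth.Agent.Lib.Helper1.Sky.Ox y') (Set.range fun τ =>
      gm (toPM ((plb f).obj M)) y' (f ⁻¹ᵁ V) hy ((toPMMap (un f M)).app (op V) (t τ))) := by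
    rw [h]; trivial
  have h2 := Submodule.apply_mem_span_image_of_mem_span Ψ ha
  refine Submodule.span_mono ?_ h2
  rintro _ ⟨_, ⟨τ, rfl⟩, rfl⟩
  exact ⟨τ, (sigma_unit f y' M V hy (t τ)).symm⟩

end Groth.Agent.Lib.T2H2.FppfFT
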