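import Mathlib
import Groth.Agent.Lib.T2H4TorRes3
import Groth.Agent.Lib.Helper1LRes
set_option backward.isDefEq.respectTransparency.types false

/-!
# Boundedness lifts through nilpotent surjections (T2H2)

`exactAt_of_exactAt_extCx`: let `φ : A → B` be a surjective ring map with nilpotent kernel and `P`
a K-flat complex of flat `A`-modules.  If `P ⊗_A B` is exact in degrees `> b`, so is `P`.
-/

set_option autoImplicit false
set_option linter.style.haveILetI false
universe u
open CategoryTheory CategoryTheory.Limits HomologicalComplex MonoidalCategory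

namespace Groth.Agent.Lib.T2H2.NilBound

open Groth.Agent.Lib.Helper1.KF Groth.Agent.Lib.Helper1.DT Groth.Agent.Lib.T2H4.TorRes
  Groth.Agent.Lib.Helper1.KBC DTen

section TB

variable {R : Type u} [CommRing R]

/-- flat modules as an object property -/
def flatProp (R : Type u) [CommRing R] : ObjectProperty (ModuleCat.{u} R) :=
  fun M => Module.Flat R M

instance : (flatProp R).IsClosedUnderIsomorphisms :=
  ⟨fun {M N} e h => by
    haveI : Module.Flat R M := h
    exact Module.Flat.of_linearEquiv (e.toLinearEquiv).symm⟩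

lemma exists_flat_epi (M : ModuleCat.{u} R) :
    ∃ (Y : ModuleCat.{u} R) (p : Y ⟶ M), flatProp R Y ∧ Epi p := by
  refine ⟨ModuleCat.of R (M →₀ R), ModuleCat.ofHom (Finsupp.linearCombination R id), ?_, ?_⟩
  · show Module.Flat R (M →₀ R)
    infer_instance
  · rw [ModuleCat.epi_iff_surjective]
    exact Finsupp.linearCombination_id_surjective R M

/-- bounded above flat resolutions of modules -/
theorem exists_flat_resolution (N : ModuleCat.{u} R) :
    ∃ (F : Cx R) (π : F ⟶ sgl N), F.IsStrictlyLE 0 ∧ QuasiIso π ∧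
      ∀ n : ℤ, Module.Flat R (F.X n) := by
  obtain ⟨F, π, h1, h2, h3⟩ := Groth.Agent.Lib.Helper1.LRes.exists_resolution (flatProp R)
    exists_flat_epi N
  refine ⟨F, π, h1, h2, fun n => ?_⟩
  by_cases hn : n ≤ 0
  · exact h3 n hn
  · have hz : IsZero (F.X n) := F.isZero_of_isStrictlyLE 0 n (by omega)
    haveI : Subsingleton (F.X n) := ModuleCat.subsingleton_of_isZero hz
    infer_instance

/-- tensoring a K-flat complex, exact above `b`, with a module gives a complex exact above `b` -/
theorem exactAt_TCx_of_exact_above (G : Cx R) (hG : KFlat G) (b : ℤ)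
    (hGe : ∀ j : ℤ, b < j → G.ExactAt j) (N : ModuleCat.{u} R) (j : ℤ) (hj : b < j) :
    (TCx N G).ExactAt j := by
  obtain ⟨F, π, hle, hπ, hfl⟩ := exists_flat_resolution N
  have hF : KFlat F := kflat_of_boundedAbove_flat F 0
    (fun q hq => F.isZero_of_isStrictlyLE 0 q hq) hfl
  haveI : G.IsLE b := (CochainComplex.isLE_iff G b).2 (fun i hi => hGe i hi)
  have q1 : QuasiIso (π ▷ G) := quasiIso_whiskerRight_of_kflat π G hG
  have q2 : QuasiIso (F ◁ G.ιTruncLE b) := quasiIso_whiskerLeft_of_kflatL _ F hF.kflatL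
  rw [exactAt_iff_of_iso (singleTensorIso N G), ← exactAt_iff_of_quasiIso (π ▷ G),
    ← exactAt_iff_of_quasiIso (F ◁ G.ιTruncLE b)]
  apply exactAt_of_isZero_X'
  apply isZero_tensor_X
  intro p q hpq
  by_cases hp : 0 < p
  · exact Or.inl (F.isZero_of_isStrictlyLE 0 p hp)
  · exact Or.inr ((G.truncLE b).isZero_of_isStrictlyLE b q (by omega))

end TB

section Mod

variable {A B : Type u} [CommRing A] [CommRing B] (φ : A →+* B) (hφ : Function.Surjective φ)

/-- the `B`-module structure on a module killed by the kernel of a surjection `A → B` -/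
@[reducible] noncomputable def moduleB (M : Type u) [AddCommGroup M] [Module A M]
    (hM : ∀ a ∈ RingHom.ker φ, ∀ m : M, a • m = 0) : Module B M :=
  letI : Module (A ⧸ RingHom.ker φ) M :=
    Module.IsTorsionBySet.module (fun m a => hM a.1 a.2 m)
  Module.compHom M ((RingHom.quotientKerEquivOfSurjective hφ).symm : B →+* A ⧸ RingHom.ker φ)

lemma moduleB_smul (M : Type u) [AddCommGroup M] [Module A M]
    (hM : ∀ a ∈ RingHom.ker φ, ∀ m : M, a • m = 0) (a : A) (m : M) :
    letI := moduleB φ hφ M hM
    (φ a) • m = a • m := by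
  letI : Module (A ⧸ RingHom.ker φ) M :=
    Module.IsTorsionBySet.module (fun m a => hM a.1 a.2 m)
  show ((RingHom.quotientKerEquivOfSurjective hφ).symm (φ a)) • m = a • m
  have h1 : (RingHom.quotientKerEquivOfSurjective hφ).symm (φ a) =
      Ideal.Quotient.mk (RingHom.ker φ) a := by
    rw [RingEquiv.symm_apply_eq]
    rfl
  rw [h1]
  rfl

/-- a module killed by the kernel of a surjection `A → B`, as a `B`-module -/
noncomputable def modB (M : ModuleCat.{u} A) (hM : ∀ a ∈ RingHom.ker φ, ∀ m : M, a • m = 0) :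
    ModuleCat.{u} B :=
  letI := moduleB φ hφ M hM
  ModuleCat.of B M

noncomputable def modBIso (M : ModuleCat.{u} A) (hM : ∀ a ∈ RingHom.ker φ, ∀ m : M, a • m = 0) :
    (res φ).obj (modB φ hφ M hM) ≅ M :=
  letI := moduleB φ hφ M hM
  LinearEquiv.toModuleIso
    ({ toFun := fun x => (x : M)
       invFun := fun x => x
       left_inv := fun _ => rfl
       right_inv := fun _ => rfl
       map_add' := fun _ _ => rfl
       map_smul' := fun a x => moduleB_smul φ hφ M hM a x } :
      ((res φ).obj (ModuleCat.of B M)) ≃ₗ[A] M)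

end Mod

section Base

variable {A B : Type u} [CommRing A] [CommRing B] (φ : A →+* B)

/-- `res N ⊗ P ≅ res (N ⊗ ext P)`, termwise -/
noncomputable def tcxResIso (N : ModuleCat.{u} B) (P : Cx A) :
    TCx ((res φ).obj N) P ≅ (resCx φ).obj (TCx N ((extCx φ).obj P)) :=
  (NatIso.mapHomologicalComplex ((pfIso φ).app N) (ComplexShape.up ℤ)).app P

end Base

section Funct

variable {A : Type u} [CommRing A]

/-- functoriality of `M ↦ M ⊗ P` -/
noncomputable def TCxMap {M M' : ModuleCat.{u} A} (f : M ⟶ M') (P : Cx A) : TCx M P ⟶ TCx M' P :=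
  (NatTrans.mapHomologicalComplex ((curriedTensor (ModuleCat.{u} A)).map f) (ComplexShape.up ℤ)).app P

lemma TCxMap_f {M M' : ModuleCat.{u} A} (f : M ⟶ M') (P : Cx A) (n : ℤ) :
    (TCxMap f P).f n = f ▷ P.X n := rfl

/-- tensoring a short exact sequence with a flat module on the right -/
lemma tensorRight_shortExact_of_flat' (F : ModuleCat.{u} A) [Module.Flat A F]
    (S : ShortComplex (ModuleCat.{u} A)) (hS : S.ShortExact) :
    (S.map (tensorRight F)).ShortExact := by
  have := hS.epi_g
  have := hS.mono_f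
  have hm : Mono ((tensorRight F).map S.f) := by
    rw [ModuleCat.mono_iff_injective]
    show Function.Injective (LinearMap.rTensor F S.f.hom)
    exact Module.Flat.rTensor_preserves_injective_linearMap S.f.hom
      ((ModuleCat.mono_iff_injective S.f).1 inferInstance)
  have : (tensorRight F).IsLeftAdjoint := inferInstance
  have : (tensorRight F).PreservesEpimorphisms := inferInstance
  have he : Epi ((tensorRight F).map S.g) := (tensorRight F).map_epi S.g
  have : PreservesColimitsOfSize.{0, 0} (tensorRight F) := inferInstance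
  have : (S.map (tensorRight F)).HasHomology := CategoryWithHomology.hasHomology _
  have hex : (S.map (tensorRight F)).Exact :=
    hS.exact.map_of_epi_of_preservesCokernel (tensorRight F) inferInstance inferInstance
  exact { exact := hex, mono_f := hm, epi_g := he }

/-- the short complex `M' ⊗ P ⟶ M ⊗ P ⟶ M'' ⊗ P` -/
noncomputable def TCxSC (S : ShortComplex (ModuleCat.{u} A)) (P : Cx A) : ShortComplex (Cx A) :=
  ShortComplex.mk (TCxMap S.f P) (TCxMap S.g P) (by
    apply HomologicalComplex.hom_ext
    intro n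
    show S.f ▷ P.X n ≫ S.g ▷ P.X n = 0
    rw [← comp_whiskerRight, S.zero]
    exact MonoidalPreadditive.zero_whiskerRight)

lemma TCxSC_shortExact (S : ShortComplex (ModuleCat.{u} A)) (hS : S.ShortExact) (P : Cx A)
    (hP : ∀ n, Module.Flat A (P.X n)) : (TCxSC S P).ShortExact := by
  apply HomologicalComplex.shortExact_of_degreewise_shortExact
  intro n
  have := hP n
  exact tensorRight_shortExact_of_flat' (P.X n) S hS

/-- exactness in the middle of a short exact sequence of complexes -/
lemma exactAt_X₂ (T : ShortComplex (Cx A)) (hT : T.ShortExact) (j : ℤ) (h₁ : T.X₁.ExactAt j)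
    (h₃ : T.X₃.ExactAt j) : T.X₂.ExactAt j := by
  rw [exactAt_iff_isZero_homology] at h₁ h₃ ⊢
  exact (hT.homology_exact₂ j).isZero_X₂ (h₁.eq_of_src _ _) (h₃.eq_of_tgt _ _)

end Funct

section Main

variable {A B : Type u} [CommRing A] [CommRing B] (φ : A →+* B) (hφ : Function.Surjective φ)
variable (P : Cx A) (hP : KFlat P) (hfl : ∀ n, Module.Flat A (P.X n)) (b : ℤ)
  (h : ∀ j : ℤ, b < j → ((extCx φ).obj P).ExactAt j)

noncomputable def TCxIso {M M' : ModuleCat.{u} A} (e : M ≅ M') (P : Cx A) : TCx M P ≅ TCx M' P :=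
  (NatIso.mapHomologicalComplex ((curriedTensor (ModuleCat.{u} A)).mapIso e)
    (ComplexShape.up ℤ)).app P

include hφ hP h in
/-- base case: modules killed by the kernel -/
lemma exactAt_TCx_of_ker_kills (M : ModuleCat.{u} A)
    (hM : ∀ a ∈ RingHom.ker φ, ∀ m : M, a • m = 0) (j : ℤ) (hj : b < j) :
    (TCx M P).ExactAt j := by
  rw [← exactAt_iff_of_iso (TCxIso (modBIso φ hφ M hM) P) j,
    exactAt_iff_of_iso (tcxResIso φ _ P), exactAt_resCx_iff]
  exact exactAt_TCx_of_exact_above _ (kflat_extCx φ P hP) b h _ j hj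

include hφ hP hfl h in
/-- the filtration induction -/
theorem exactAt_TCx_of_pow_kills (k : ℕ) : ∀ (M : ModuleCat.{u} A),
    (∀ a ∈ (RingHom.ker φ) ^ k, ∀ m : M, a • m = 0) → ∀ j : ℤ, b < j → (TCx M P).ExactAt j := by
  induction k with
  | zero =>
    intro M hM j hj
    have : Subsingleton M := ⟨fun x y => by
      have hx := hM 1 (by simp) x
      have hy := hM 1 (by simp) y
      rw [one_smul] at hx hy
      rw [hx, hy]⟩
    apply exactAt_of_isZero_X'
    exact (tensorRight (P.X j)).map_isZero (ModuleCat.isZero_of_subsingleton M)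
  | succ k ih =>
    intro M hM j hj
    let L : Submodule A M := (RingHom.ker φ) • (⊤ : Submodule A M)
    let S : ShortComplex (ModuleCat.{u} A) :=
      ShortComplex.mk (ModuleCat.ofHom L.subtype) (ModuleCat.ofHom L.mkQ) (by
        ext x
        simp)
    have hS : S.ShortExact :=
      ModuleCat.shortComplex_shortExact S (LinearMap.exact_subtype_mkQ L) L.subtype_injective
        L.mkQ_surjective
    have h1 : (TCx S.X₁ P).ExactAt j := by
      refine ih (ModuleCat.of A L) (fun a ha m => ?_) j hj
      obtain ⟨m, hm⟩ := m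
      apply Subtype.ext
      show a • m = 0
      refine Submodule.smul_induction_on hm (fun c hc x _ => ?_) (fun x y hx hy => ?_)
      · rw [← mul_smul]
        exact hM (a * c) (by rw [pow_succ]; exact Ideal.mul_mem_mul ha hc) x
      · rw [smul_add, hx, hy, add_zero]
    have h3 : (TCx S.X₃ P).ExactAt j := by
      refine exactAt_TCx_of_ker_kills φ hφ P hP b h (ModuleCat.of A (M ⧸ L)) (fun a ha m => ?_) j hj
      obtain ⟨m, rfl⟩ := L.mkQ_surjective m
      show a • L.mkQ m = 0
      rw [← map_smul, Submodule.mkQ_apply, Submodule.Quotient.mk_eq_zero]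
      exact Submodule.smul_mem_smul ha trivial
    exact exactAt_X₂ (TCxSC S P) (TCxSC_shortExact S hS P hfl) j h1 h3

/-- `A ⊗ P ≅ P` -/
noncomputable def TCxUnitIso (P : Cx A) : TCx (𝟙_ (ModuleCat.{u} A)) P ≅ P :=
  HomologicalComplex.Hom.isoOfComponents (fun n => λ_ (P.X n))
    (fun i j _ => (leftUnitor_naturality (P.d i j)).symm)

include hφ hP hfl h in
/-- **boundedness lifts through nilpotent surjections** -/
theorem exactAt_of_exactAt_extCx (n : ℕ) (hn : (RingHom.ker φ) ^ n = ⊥) (j : ℤ) (hj : b < j) :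
    P.ExactAt j := by
  have h0 := exactAt_TCx_of_pow_kills φ hφ P hP hfl b h n (𝟙_ (ModuleCat.{u} A))
    (fun a ha m => by
      rw [hn] at ha
      rw [(Submodule.mem_bot A).1 ha, zero_smul]) j hj
  exact (exactAt_iff_of_iso (TCxUnitIso P) j).1 h0

end Main

end Groth.Agent.Lib.T2H2.NilBound
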