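import Mathlib
import Groth.Agent.Lib.T2H2NilBoundA
import Groth.Agent.Lib.T2H2FppfFTA
set_option backward.isDefEq.respectTransparency.types false

/-!
# Nakayama for nilpotent surjections (T2H2)
-/

set_option autoImplicit false
set_option linter.style.haveILetI false
universe u
open CategoryTheory CategoryTheory.Limits

namespace Groth.Agent.Lib.T2H2.NilBound

open Groth.Agent.Lib.Helper1.KBC

section Nak

variable {A B : Type u} [CommRing A] [CommRing B] (φ : A →+* B) (hφ : Function.Surjective φ)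

include hφ in
/-- if `B ⊗_A Q = 0` then `Q = JQ` -/
lemma mem_smul_top_of_isZero_ext (Q : ModuleCat.{u} A) (hz : IsZero ((ext φ).obj Q)) (q : Q) :
    q ∈ (RingHom.ker φ) • (⊤ : Submodule A Q) := by
  let L : Submodule A Q := (RingHom.ker φ) • (⊤ : Submodule A Q)
  have hM : ∀ a ∈ RingHom.ker φ, ∀ m : ModuleCat.of A (Q ⧸ L), a • m = 0 := by
    intro a ha m
    obtain ⟨m, rfl⟩ := L.mkQ_surjective m
    show a • L.mkQ m = 0
    rw [← map_smul, Submodule.mkQ_apply, Submodule.Quotient.mk_eq_zero]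
    exact Submodule.smul_mem_smul ha trivial
  let N := modB φ hφ (ModuleCat.of A (Q ⧸ L)) hM
  let f : Q ⟶ (res φ).obj N := ModuleCat.ofHom L.mkQ ≫ (modBIso φ hφ _ hM).inv
  let adj := ModuleCat.extendRestrictScalarsAdj.{u, u, u} φ
  have h0 : (adj.homEquiv Q N).symm f = 0 := hz.eq_of_src _ _
  have h1 : f = 0 := by
    have h2 : f = (adj.homEquiv Q N) ((adj.homEquiv Q N).symm f) := by simp
    rw [h2, h0, Adjunction.homEquiv_unit, Functor.map_zero, comp_zero]
  have h3 : ModuleCat.ofHom L.mkQ = 0 := by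
    have h4 : ModuleCat.ofHom L.mkQ = f ≫ (modBIso φ hφ _ hM).hom := by
      simp [f]
    rw [h4, h1, zero_comp]
  have h5 : L.mkQ q = 0 := by
    have := congrArg (fun ψ => ψ.hom q) h3
    exact this
  rwa [Submodule.mkQ_apply, Submodule.Quotient.mk_eq_zero] at h5

include hφ in
/-- nilpotent Nakayama: extension of scalars along a surjection with nilpotent kernel reflects
zero objects -/
theorem isZero_of_isZero_ext_nil (n : ℕ) (hn : (RingHom.ker φ) ^ n = ⊥) (Q : ModuleCat.{u} A)
    (hz : IsZero ((ext φ).obj Q)) : IsZero Q := by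
  have h1 : (⊤ : Submodule A Q) = (RingHom.ker φ) • (⊤ : Submodule A Q) :=
    le_antisymm (fun q _ => mem_smul_top_of_isZero_ext φ hφ Q hz q) le_top
  have h2 : ∀ k : ℕ, (⊤ : Submodule A Q) = ((RingHom.ker φ) ^ k) • (⊤ : Submodule A Q) := by
    intro k
    induction k with
    | zero => simp
    | succ k ih => rw [pow_succ, Submodule.mul_smul, ← h1, ← ih]
  have h3 : (⊤ : Submodule A Q) = ⊥ := by
    rw [h2 n, hn, Submodule.bot_smul]
  haveI : Subsingleton Q := by
    refine ⟨fun x y => ?_⟩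
    have hx : x ∈ (⊤ : Submodule A Q) := trivial
    have hy : y ∈ (⊤ : Submodule A Q) := trivial
    rw [h3, Submodule.mem_bot] at hx hy
    rw [hx, hy]
  exact ModuleCat.isZero_of_subsingleton Q

open Groth.Agent.Lib.T2H2.FppfFT TensorProduct ChangeOfRings in
include hφ in
/-- nilpotent Nakayama for generators -/
theorem span_eq_top_of_ext_nil (n : ℕ) (hn : (RingHom.ker φ) ^ n = ⊥) (N : ModuleCat.{u} A)
    {T : Type*} (g : T → N)
    (h : Submodule.span B (Set.range fun τ => oneT φ N (g τ)) = ⊤) :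
    Submodule.span A (Set.range g) = ⊤ := by
  set L := Submodule.span A (Set.range g) with hL
  let Q : ModuleCat.{u} A := ModuleCat.of A (N ⧸ L)
  let q : N ⟶ Q := ModuleCat.ofHom L.mkQ
  have hq0 : (ModuleCat.extendScalars.{u, u, u} φ).map q = 0 := by
    apply ModuleCat.hom_ext
    apply LinearMap.ext_on h
    rintro _ ⟨τ, rfl⟩
    change ((1 : B) ⊗ₜ[A, φ] (q.hom (g τ)) : (ModuleCat.extendScalars.{u, u, u} φ).obj Q) = 0
    have : q.hom (g τ) = 0 := by
      change L.mkQ (g τ) = 0
      rw [Submodule.mkQ_apply, Submodule.Quotient.mk_eq_zero]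
      exact Submodule.subset_span ⟨τ, rfl⟩
    rw [this]
    exact TensorProduct.tmul_zero _ _
  have hz : IsZero ((ModuleCat.extendScalars.{u, u, u} φ).obj Q) := by
    rw [IsZero.iff_id_eq_zero]
    apply ModuleCat.ExtendScalars.hom_ext
    intro m
    obtain ⟨n, rfl⟩ := L.mkQ_surjective m
    have h2 := congrArg (fun ψ => ψ.hom ((1 : B) ⊗ₜ[A, φ] n)) hq0
    exact h2
  have hQ : IsZero Q := isZero_of_isZero_ext_nil φ hφ n hn Q hz
  rw [eq_top_iff]
  intro n _
  have h3 : L.mkQ n = 0 := by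
    haveI := ModuleCat.subsingleton_of_isZero hQ
    exact Subsingleton.elim (α := N ⧸ L) _ _
  rwa [Submodule.mkQ_apply, Submodule.Quotient.mk_eq_zero] at h3

end Nak

end Groth.Agent.Lib.T2H2.NilBound
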