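import Mathlib
import Groth.Agent.Lib.T2H2NilBoundB
set_option backward.isDefEq.respectTransparency.types false

/-!
# Base change of a submodule with flat quotient (T2H2)

`ext_map_injective_of_flat`: let `R → A` be a ring map, `φ : A → B` surjective with kernel generated
by an ideal `I` of `R`, and `0 → K → P → F → 0` an exact sequence of `A`-modules with `F` flat over
`R`.  Then `B ⊗_A K → B ⊗_A P` is injective.
-/

set_option autoImplicit false
set_option linter.style.haveILetI false
universe u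
open CategoryTheory CategoryTheory.Limits TensorProduct

namespace Groth.Agent.Lib.T2H2.NilFP

open Groth.Agent.Lib.Helper1.KBC Groth.Agent.Lib.T2H2.NilBound Groth.Agent.Lib.T2H2.FppfFT

section Elt

variable {A B : Type u} [CommRing A] [CommRing B] (φ : A →+* B) (hφ : Function.Surjective φ)

open ChangeOfRings in
lemma oneT_add (N : ModuleCat.{u} A) (n₁ n₂ : N) :
    oneT φ N (n₁ + n₂) = oneT φ N n₁ + oneT φ N n₂ :=
  TensorProduct.tmul_add _ _ _

open ChangeOfRings in
lemma oneT_zero (N : ModuleCat.{u} A) : oneT φ N (0 : N) = 0 :=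
  TensorProduct.tmul_zero _ _

open ChangeOfRings in
lemma oneT_smul (N : ModuleCat.{u} A) (a : A) (n : N) :
    oneT φ N (a • n) = (φ a) ⊗ₜ[A, φ] n := by
  letI : Module A B := Module.compHom B φ
  show (1 : B) ⊗ₜ[A] (a • n) = (φ a) ⊗ₜ[A] n
  rw [← TensorProduct.smul_tmul]
  congr 1
  show φ a * 1 = φ a
  rw [mul_one]

open ChangeOfRings in
lemma oneT_smul_of_mem_ker (N : ModuleCat.{u} A) (a : A) (ha : a ∈ RingHom.ker φ) (n : N) :
    oneT φ N (a • n) = 0 := by
  rw [oneT_smul, (RingHom.mem_ker).1 ha]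
  letI : Module A B := Module.compHom B φ
  exact TensorProduct.zero_tmul _ _

open ChangeOfRings in
lemma ext_map_oneT {N N' : ModuleCat.{u} A} (g : N ⟶ N') (n : N) :
    ((ModuleCat.extendScalars.{u, u, u} φ).map g).hom (oneT φ N n) = oneT φ N' (g.hom n) :=
  rfl

open ChangeOfRings in
include hφ in
/-- every element of `B ⊗_A N` is of the form `1 ⊗ n` -/
lemma exists_oneT_eq (N : ModuleCat.{u} A) (z : (ModuleCat.extendScalars.{u, u, u} φ).obj N) :
    ∃ n : N, oneT φ N n = z := by
  induction z using TensorProduct.induction_on with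
  | zero => exact ⟨0, oneT_zero φ N⟩
  | tmul b n =>
    obtain ⟨a, rfl⟩ := hφ b
    exact ⟨a • n, oneT_smul φ N a n⟩
  | add z₁ z₂ h₁ h₂ =>
    obtain ⟨n₁, rfl⟩ := h₁
    obtain ⟨n₂, rfl⟩ := h₂
    exact ⟨n₁ + n₂, oneT_add φ N n₁ n₂⟩

include hφ in
/-- if `1 ⊗ n = 0` in `B ⊗_A N` then `n ∈ (ker φ) N` -/
lemma mem_smul_top_of_oneT_eq_zero (N : ModuleCat.{u} A) (n : N) (h : oneT φ N n = 0) :
    n ∈ (RingHom.ker φ) • (⊤ : Submodule A N) := by
  let L : Submodule A N := (RingHom.ker φ) • (⊤ : Submodule A N)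
  have hM : ∀ a ∈ RingHom.ker φ, ∀ m : ModuleCat.of A (N ⧸ L), a • m = 0 := by
    intro a ha m
    obtain ⟨m, rfl⟩ := L.mkQ_surjective m
    show a • L.mkQ m = 0
    rw [← map_smul, Submodule.mkQ_apply, Submodule.Quotient.mk_eq_zero]
    exact Submodule.smul_mem_smul ha trivial
  let Q := modB φ hφ (ModuleCat.of A (N ⧸ L)) hM
  let f : N ⟶ (res φ).obj Q := ModuleCat.ofHom L.mkQ ≫ (modBIso φ hφ _ hM).inv
  let adj := ModuleCat.extendRestrictScalarsAdj.{u, u, u} φ
  let g : (ext φ).obj N ⟶ Q := (adj.homEquiv N Q).symm f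
  have hfg : f = (adj.homEquiv N Q) g := (Equiv.apply_symm_apply _ f).symm
  have h1 : f.hom n = g.hom (oneT φ N n) := by
    rw [hfg]
    rfl
  have h5 : L.mkQ n = 0 := by
    have h2 : f.hom n = 0 := by
      rw [h1, h]
      exact map_zero _
    exact h2
  rwa [Submodule.mkQ_apply, Submodule.Quotient.mk_eq_zero] at h5

end Elt

section Flat

variable {R A B : Type u} [CommRing R] [CommRing A] [CommRing B] [Algebra R A] (φ : A →+* B)
  (hφ : Function.Surjective φ) (I : Ideal R) (hker : RingHom.ker φ = I.map (algebraMap R A))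

/-- `(I A) P ⊆ I P` -/
lemma smul_mem_of_mem_map (P : Type u) [AddCommGroup P] [Module A P] [Module R P]
    [IsScalarTower R A P] (c : A) (hc : c ∈ I.map (algebraMap R A)) :
    ∀ p : P, c • p ∈ I • (⊤ : Submodule R P) := by
  refine Submodule.span_induction (p := fun c _ => ∀ p : P, c • p ∈ I • (⊤ : Submodule R P))
    ?_ ?_ ?_ ?_ hc
  · rintro _ ⟨a, ha, rfl⟩ p
    rw [algebraMap_smul]
    exact Submodule.smul_mem_smul ha Submodule.mem_top
  · intro p
    rw [zero_smul]
    exact Submodule.zero_mem _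
  · intro x y _ _ hx hy p
    rw [add_smul]
    exact Submodule.add_mem _ (hx p) (hy p)
  · intro b x _ hx p
    rw [smul_eq_mul, mul_comm, mul_smul]
    exact hx (b • p)

include hφ hker in
/-- base change along `φ` of a submodule with `R`-flat quotient stays a submodule -/
theorem ext_map_injective_of_flat (K P F : ModuleCat.{u} A) (g : K ⟶ P) (f : P ⟶ F)
    (hg : Function.Injective g.hom) (hf : Function.Surjective f.hom)
    (hex : Function.Exact g.hom f.hom)
    (hfl : @Module.Flat R F _ _ (Module.compHom F (algebraMap R A))) :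
    Function.Injective ((ModuleCat.extendScalars.{u, u, u} φ).map g).hom := by
  letI mK : Module R K := Module.compHom K (algebraMap R A)
  letI mP : Module R P := Module.compHom P (algebraMap R A)
  letI mF : Module R F := Module.compHom F (algebraMap R A)
  haveI : IsScalarTower R A K := IsScalarTower.of_algebraMap_smul fun r m => rfl
  haveI : IsScalarTower R A P := IsScalarTower.of_algebraMap_smul fun r m => rfl
  haveI : IsScalarTower R A F := IsScalarTower.of_algebraMap_smul fun r m => rfl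
  haveI : Module.Flat R F := hfl
  rw [injective_iff_map_eq_zero]
  intro z hz
  obtain ⟨k, rfl⟩ := exists_oneT_eq φ hφ K z
  rw [ext_map_oneT] at hz
  have h2 := mem_smul_top_of_oneT_eq_zero φ hφ P _ hz
  rw [hker] at h2
  let g₀ : K →ₗ[R] P := g.hom.restrictScalars R
  let f₀ : P →ₗ[R] F := f.hom.restrictScalars R
  have h3 : g₀ k ∈ I • (⊤ : Submodule R P) := by
    refine Submodule.smul_induction_on h2 (fun c hc p _ => ?_) (fun x y hx hy => ?_)
    · exact smul_mem_of_mem_map I P c hc p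
    · exact Submodule.add_mem _ hx hy
  have h4 : ((1 : R ⧸ I) ⊗ₜ[R] (g₀ k) : (R ⧸ I) ⊗[R] P) = 0 := by
    apply (TensorProduct.quotTensorEquivQuotSMul P I).injective
    rw [TensorProduct.quotTensorEquivQuotSMul_mk_one_tmul, map_zero,
      Submodule.Quotient.mk_eq_zero]
    exact h3
  have hinj := LinearMap.lTensor_injective_of_exact_of_flat f₀ hf g₀ hg hex (R ⧸ I)
  have h5 : ((1 : R ⧸ I) ⊗ₜ[R] k : (R ⧸ I) ⊗[R] K) = 0 := by
    apply hinj
    rw [LinearMap.lTensor_tmul, h4, map_zero]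
  have h6 : k ∈ I • (⊤ : Submodule R K) := by
    have h7 := congrArg (TensorProduct.quotTensorEquivQuotSMul K I) h5
    rw [TensorProduct.quotTensorEquivQuotSMul_mk_one_tmul, map_zero,
      Submodule.Quotient.mk_eq_zero] at h7
    exact h7
  refine Submodule.smul_induction_on h6 (fun a ha k' _ => ?_) (fun x y hx hy => ?_)
  · show oneT φ K ((algebraMap R A a) • k') = 0
    apply oneT_smul_of_mem_ker
    rw [hker]
    exact Ideal.mem_map_of_mem _ ha
  · rw [oneT_add, hx, hy, add_zero]

end Flat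

section KerInr

variable {R R' B' B : Type u} [CommRing R] [CommRing R'] [CommRing B'] [CommRing B]
  [Algebra R R'] [Algebra R B']

/-- the kernel of `B' → R' ⊗_R B'` for a surjection `R → R'` -/
theorem ker_includeRight_le (hρ : Function.Surjective (algebraMap R R')) (b : B')
    (hb : (1 : R') ⊗ₜ[R] b = 0) :
    b ∈ (RingHom.ker (algebraMap R R')).map (algebraMap R B') := by
  set J : Ideal B' := (RingHom.ker (algebraMap R R')).map (algebraMap R B') with hJ
  have h0 : ∀ a : R, a ∈ RingHom.ker (Algebra.ofId R R') → (Algebra.ofId R (B' ⧸ J)) a = 0 := by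
    intro a ha
    show algebraMap R (B' ⧸ J) a = 0
    rw [IsScalarTower.algebraMap_apply R B' (B' ⧸ J), Ideal.Quotient.algebraMap_eq,
      Ideal.Quotient.eq_zero_iff_mem]
    exact Ideal.mem_map_of_mem _ ha
  let ψ₀ : (R ⧸ RingHom.ker (Algebra.ofId R R')) →ₐ[R] B' ⧸ J :=
    Ideal.Quotient.liftₐ _ (Algebra.ofId R (B' ⧸ J)) h0
  let e : (R ⧸ RingHom.ker (Algebra.ofId R R')) ≃ₐ[R] R' :=
    Ideal.quotientKerAlgEquivOfSurjective (f := Algebra.ofId R R') hρ
  let ψ₁ : R' →ₐ[R] B' ⧸ J := ψ₀.comp e.symm.toAlgHom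
  let ψ₂ : B' →ₐ[R] B' ⧸ J := Ideal.Quotient.mkₐ R J
  let Ψ : R' ⊗[R] B' →ₐ[R] B' ⧸ J := Algebra.TensorProduct.productMap ψ₁ ψ₂
  have h1 : Ψ ((1 : R') ⊗ₜ[R] b) = Ideal.Quotient.mk J b := by
    rw [Algebra.TensorProduct.productMap_apply_tmul, map_one, one_mul]
    rfl
  rw [hb, map_zero] at h1
  exact Ideal.Quotient.eq_zero_iff_mem.1 h1.symm

/-- the kernel of `γ : B' → B` when `B ≅ R' ⊗_R B'` for a surjection `R → R'` -/
theorem ker_eq_map_of_delta (hρ : Function.Surjective (algebraMap R R')) (γ : B' →+* B)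
    (δ : R' ⊗[R] B' →+* B)
    (hδ₂ : ∀ b : B', δ ((1 : R') ⊗ₜ[R] b) = γ b) (hδ : Function.Injective δ) :
    RingHom.ker γ = (RingHom.ker (algebraMap R R')).map (algebraMap R B') := by
  apply le_antisymm
  · intro b hb
    apply ker_includeRight_le hρ b
    apply hδ
    rw [hδ₂, map_zero]
    exact hb
  · rw [Ideal.map_le_iff_le_comap]
    intro a ha
    rw [Ideal.mem_comap, RingHom.mem_ker, ← hδ₂]
    have h1 : (1 : R') ⊗ₜ[R] (algebraMap R B' a) = (algebraMap R R' a) ⊗ₜ[R] (1 : B') := by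
      rw [Algebra.algebraMap_eq_smul_one, Algebra.algebraMap_eq_smul_one,
        TensorProduct.smul_tmul]
    rw [h1, (RingHom.mem_ker).1 ha, TensorProduct.zero_tmul, map_zero]

end KerInr

end Groth.Agent.Lib.T2H2.NilFP
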