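import Mathlib
import Groth.Prelude.Def_MoreMor
import Groth.Agent.Lib.Helper2Thick
set_option backward.isDefEq.respectTransparency.types false

/-!
# Stalk maps of finite order thickenings (T2H2)
-/

set_option autoImplicit false
set_option linter.style.haveILetI false
universe u
open CategoryTheory CategoryTheory.Limits AlgebraicGeometry TopologicalSpace

namespace Groth.Agent.Lib.T2H2.NilStalk

section Alg

variable {R P : Type*} [CommRing R] [CommRing P]

lemma map_primeCompl_eq (I : Ideal R) [I.IsPrime] (J : Ideal P) [J.IsPrime] (f : R →+* P)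
    (hf : Function.Surjective f) (hIJ : I = J.comap f) :
    Submonoid.map f I.primeCompl = J.primeCompl := by
  ext y
  constructor
  · rintro ⟨x, hx, rfl⟩
    intro hy
    apply hx
    show x ∈ I
    rw [hIJ]
    exact hy
  · intro hy
    obtain ⟨x, rfl⟩ := hf y
    refine ⟨x, ?_, rfl⟩
    intro hx
    apply hy
    have : x ∈ I := hx
    rw [hIJ] at this
    exact this

/-- the kernel of the localisation of a surjection with nilpotent kernel is nilpotent -/
lemma ker_localRingHom_pow (I : Ideal R) [I.IsPrime] (J : Ideal P) [J.IsPrime] (f : R →+* P)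
    (hf : Function.Surjective f) (hIJ : I = J.comap f) (n : ℕ) (hn : (RingHom.ker f) ^ n = ⊥) :
    (RingHom.ker (Localization.localRingHom I J f hIJ)) ^ n = ⊥ := by
  have h1 := IsLocalization.ker_map (S := Localization.AtPrime I) (Localization.AtPrime J) f
    (map_primeCompl_eq I J f hf hIJ)
  have h2 : RingHom.ker (Localization.localRingHom I J f hIJ) =
      (RingHom.ker f).map (algebraMap R (Localization.AtPrime I)) := h1
  rw [h2, ← Ideal.map_pow, hn, Ideal.map_bot]

end Alg

/-- stalkwise nilpotent surjectivity -/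
def IsNilStalk {X X' : Scheme.{u}} (i : X ⟶ X') : Prop :=
  ∀ x : X, Function.Surjective (i.stalkMap x).hom ∧
    ∃ n : ℕ, (RingHom.ker (i.stalkMap x).hom) ^ n = ⊥

/-- finite order thickenings are stalkwise nilpotent surjections -/
theorem nilStalk_of_thick {X X' : Scheme.{u}} (i : X ⟶ X')
    (hi : MoreMor.IsFiniteOrderThickening i) : IsNilStalk i := by
  intro x
  haveI : IsClosedImmersion i := hi.1.1
  refine ⟨i.stalkMap_surjective x, ?_⟩
  obtain ⟨n, hn⟩ := hi.2
  obtain ⟨_, ⟨U', hU', rfl⟩, hxU', -⟩ :=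
    X'.isBasis_affineOpens.exists_subset_of_mem_open (Set.mem_univ (i x)) isOpen_univ
  let V : X.Opens := i ⁻¹ᵁ U'
  have hV : IsAffineOpen V := hU'.preimage i
  have hxV : x ∈ V := hxU'
  let f := (i.appLE U' V le_rfl).hom
  have hf : Function.Surjective f := by
    have := i.app_surjective U' hU'
    rwa [Scheme.Hom.app_eq_appLE] at this
  have hker : (RingHom.ker f) ^ n = ⊥ := by
    have := congr(($hn).ideal ⟨U', hU'⟩)
    show RingHom.ker (i.appLE U' (i ⁻¹ᵁ U') le_rfl).hom ^ n = ⊥
    rw [← Scheme.Hom.app_eq_appLE]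
    simpa using this
  let e := IsAffineOpen.arrowStalkMapIso i U' hU' V hV le_rfl hxV
  have hI := congr($(IsAffineOpen.comap_primeIdealOf_appLE U' hU' V hV le_rfl hxV).1).symm
  have hloc := ker_localRingHom_pow _ _ f hf hI n hker
  refine ⟨n, ?_⟩
  let e₁ : X'.presheaf.stalk (i x) ≃+* Localization.AtPrime (hU'.primeIdealOf ⟨i x, hxU'⟩).asIdeal :=
    (Arrow.leftFunc.mapIso e).commRingCatIsoToRingEquiv
  let e₂ : X.presheaf.stalk x ≃+* Localization.AtPrime (hV.primeIdealOf ⟨x, hxV⟩).asIdeal :=
    (Arrow.rightFunc.mapIso e).commRingCatIsoToRingEquiv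
  have hw : ∀ t, e₂ ((i.stalkMap x).hom t) = Localization.localRingHom _ _ f hI (e₁ t) := by
    intro t
    have h1 := e.hom.w
    have h2 := congrArg (fun ψ => ψ.hom t) h1
    exact h2.symm
  have h3 : RingHom.ker (i.stalkMap x).hom =
      (RingHom.ker (Localization.localRingHom _ _ f hI)).comap e₁ := by
    ext t
    rw [RingHom.mem_ker, Ideal.mem_comap, RingHom.mem_ker]
    show _ ↔ Localization.localRingHom _ _ f hI (e₁ t) = 0
    rw [← hw t]
    exact (map_eq_zero_iff e₂ e₂.injective).symm
  rw [h3, ← Ideal.map_symm, ← Ideal.map_pow, hloc, Ideal.map_bot]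

/-- the restriction of a finite order thickening to an open of the target -/
theorem thick_restrict {X X' : Scheme.{u}} (i : X ⟶ X')
    (hi : MoreMor.IsFiniteOrderThickening i) (W : X'.Opens) :
    MoreMor.IsFiniteOrderThickening (i ∣_ W) :=
  Groth.Agent.Lib.Helper2.Thick.fthick_baseChange (i ∣_ W) i (i ⁻¹ᵁ W).ι W.ι hi (isPullback_morphismRestrict i W)

end Groth.Agent.Lib.T2H2.NilStalk
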