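import Mathlib
import Groth.Agent.Lib.T2H2NilBoundA
import Groth.Agent.Lib.T2H1ExtTensorTorAmp
set_option backward.isDefEq.respectTransparency.types false

/-!
# Tor amplitude lifts through nilpotent surjections (T2H2)

`hasTorAmp_of_LBaseChange_nil`: let `ρ : R → R'` be a surjective ring map with nilpotent kernel
and `G ∈ D(R)`.  If `G ⊗^L_R R'` has tor amplitude in `[a, b]` over `R'`, then `G` has tor amplitude
in `[a, b]` over `R`.
-/

set_option autoImplicit false
set_option linter.style.haveILetI false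
universe u
open CategoryTheory CategoryTheory.Limits HomologicalComplex MonoidalCategory

attribute [local instance] HasDerivedCategory.standard

namespace Groth.Agent.Lib.T2H2.NilTor

open Groth.Agent.Lib.Helper1.KF Groth.Agent.Lib.Helper1.DT Groth.Agent.Lib.T2H4.TorRes
  Groth.Agent.Lib.Helper1.KBC DTen Groth.Agent.Lib.T2H2.NilBound Groth.Agent.Lib.Helper1.Tor
  Groth.Agent.Lib.Helper1.TorO DerivedCategory

section Filt

variable {A B : Type u} [CommRing A] [CommRing B] (φ : A →+* B) (hφ : Function.Surjective φ)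
variable (P : Cx A) (hfl : ∀ n, Module.Flat A (P.X n)) (p : ℤ → Prop)
  (h : ∀ (N : ModuleCat.{u} B) (j : ℤ), p j → (TCx N ((extCx φ).obj P)).ExactAt j)

include hφ h in
/-- base case: modules killed by the kernel -/
lemma exactAt_TCx_of_ker_kills' (M : ModuleCat.{u} A)
    (hM : ∀ a ∈ RingHom.ker φ, ∀ m : M, a • m = 0) (j : ℤ) (hj : p j) :
    (TCx M P).ExactAt j := by
  rw [← exactAt_iff_of_iso (TCxIso (modBIso φ hφ M hM) P) j,
    exactAt_iff_of_iso (tcxResIso φ _ P), exactAt_resCx_iff]
  exact h _ j hj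

include hφ hfl h in
/-- the filtration induction, for an arbitrary set of degrees -/
theorem exactAt_TCx_of_pow_kills' (k : ℕ) : ∀ (M : ModuleCat.{u} A),
    (∀ a ∈ (RingHom.ker φ) ^ k, ∀ m : M, a • m = 0) → ∀ j : ℤ, p j → (TCx M P).ExactAt j := by
  induction k with
  | zero =>
    intro M hM j hj
    have : Subsingleton M := ⟨fun x y => by
      have hx := hM 1 (by simp) x
      have hy := hM 1 (by simp) y
      rw [one_smul] at hx hy
      rw [hx, hy]⟩
    apply exactAt_of_isZero_X'
    exact (tensorRight (P.X j)).map_isZero (ModuleCat.isZero_of_subsingleton M)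
  | succ k ih =>
    intro M hM j hj
    let L : Submodule A M := (RingHom.ker φ) • (⊤ : Submodule A M)
    let S : ShortComplex (ModuleCat.{u} A) :=
      ShortComplex.mk (ModuleCat.ofHom L.subtype) (ModuleCat.ofHom L.mkQ) (by
        ext x
        simp)
    have hS : S.ShortExact :=
      ModuleCat.shortComplex_shortExact S (LinearMap.exact_subtype_mkQ L) L.subtype_injective
        L.mkQ_surjective
    have h1 : (TCx S.X₁ P).ExactAt j := by
      refine ih (ModuleCat.of A L) (fun a ha m => ?_) j hj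
      obtain ⟨m, hm⟩ := m
      apply Subtype.ext
      show a • m = 0
      refine Submodule.smul_induction_on hm (fun c hc x _ => ?_) (fun x y hx hy => ?_)
      · rw [← mul_smul]
        exact hM (a * c) (by rw [pow_succ]; exact Ideal.mul_mem_mul ha hc) x
      · rw [smul_add, hx, hy, add_zero]
    have h3 : (TCx S.X₃ P).ExactAt j := by
      refine exactAt_TCx_of_ker_kills' φ hφ P p h (ModuleCat.of A (M ⧸ L)) (fun a ha m => ?_) j hj
      obtain ⟨m, rfl⟩ := L.mkQ_surjective m
      show a • L.mkQ m = 0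
      rw [← map_smul, Submodule.mkQ_apply, Submodule.Quotient.mk_eq_zero]
      exact Submodule.smul_mem_smul ha trivial
    exact exactAt_X₂ (TCxSC S P) (TCxSC_shortExact S hS P hfl) j h1 h3

include hφ hfl in
/-- tensor-vanishing lifts through nilpotent surjections -/
theorem torVan_of_torVan_extCx (n : ℕ) (hn : (RingHom.ker φ) ^ n = ⊥) (a b : ℤ)
    (hv : TorVan ((extCx φ).obj P) a b) : TorVan P a b := by
  intro M i hi
  exact exactAt_TCx_of_pow_kills' φ hφ P hfl (fun j => j < a ∨ b < j) (fun N j hj => hv N j hj) n M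
    (fun a ha m => by
      rw [hn] at ha
      rw [(Submodule.mem_bot A).1 ha, zero_smul]) i hi

end Filt

section Derived

open Groth.Agent.Lib.T2H1.ExtTensorTorAmp Groth.Agent.Lib.T2H4.LDerExist

variable {R R' : Type u} [CommRing R] [CommRing R'] (ρ : R →+* R')

/-- **tor amplitude lifts through nilpotent surjections** -/
theorem hasTorAmp_of_LBaseChange_nil (hρ : Function.Surjective ρ) (n : ℕ)
    (hn : (RingHom.ker ρ) ^ n = ⊥) [DRing.HasLBaseChange ρ] (G : Dual.D R) (a b : ℤ)
    (h : DRing.HasTorAmplitudeIn R' a b ((DRing.LBaseChange ρ).obj G)) :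
    DRing.HasTorAmplitudeIn R a b G := by
  let G0 := (Q : _ ⥤ Dual.D R).objPreimage G
  have e0 : Q.obj G0 ≅ G := (Q : _ ⥤ Dual.D R).objObjPreimageIso G
  obtain ⟨X, π, hX, hXp, hπ, -⟩ := exists_kprojective_resolution G0
  haveI := hX
  have hXf : KFlat X := kflat_of_isKProjective X
  have hfl : ∀ n, Module.Flat R (X.X n) := fun n => by
    haveI : Module.Projective R (X.X n) := (IsProjective.iff_projective (R := R) (X.X n)).2 (hXp n)
    infer_instance
  haveI : IsIso (Q.map π) := (DerivedCategory.isIso_Q_map_iff_quasiIso (φ := π)).2 hπ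
  let eX : Q.obj X ≅ G := asIso (Q.map π) ≪≫ e0
  haveI := isIso_lbcCounit_of_kflat ρ X hXf
  let e1 : (DRing.LBaseChange ρ).obj (Q.obj X) ≅ Q.obj ((extCx ρ).obj X) :=
    asIso ((Groth.Agent.Lib.Helper1.LDer.lbcCounit ρ).app X)
  have h1 : DRing.HasTorAmplitudeIn R' a b (Q.obj ((extCx ρ).obj X)) :=
    hasTorAmp_of_iso ((DRing.LBaseChange ρ).mapIso eX.symm ≪≫ e1) h
  obtain ⟨E, hE, hEf, ⟨e⟩⟩ := h1
  have h2 : TorVan ((extCx ρ).obj X) a b :=
    torVan_of_iso_kflat _ E (kflat_extCx ρ X hXf) a b hE hEf e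
  have h3 : TorVan X a b := torVan_of_torVan_extCx ρ hρ X hfl n hn a b h2
  exact hasTorAmp_of_iso eX (hasTorAmp_of_torVan_kflat X hXf a b h3)

end Derived

end Groth.Agent.Lib.T2H2.NilTor
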