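import Mathlib
import Groth.Agent.Lib.T2H2NilTorA
import Groth.Agent.Lib.T2H1ExtTensorTorAmp
import Groth.Agent.Lib.T2H4TorRes
set_option backward.isDefEq.respectTransparency.types false

/-!
# Tor amplitude lifts through nilpotent base change: the ring-level chain (T2H2)
-/

set_option autoImplicit false
set_option linter.style.haveILetI false
universe u
open CategoryTheory CategoryTheory.Limits HomologicalComplex MonoidalCategory TensorProduct

attribute [local instance] HasDerivedCategory.standard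

namespace Groth.Agent.Lib.T2H2.NilTor

open Groth.Agent.Lib.T2H1.TorAmpBC Groth.Agent.Lib.Helper1.RelBC
  Groth.Agent.Lib.Helper1.KF Groth.Agent.Lib.Helper1.DT DerivedCategory DTen
  Groth.Agent.Lib.Helper1.Tor Groth.Agent.Lib.T2H1.TildeTorAmp
  Groth.Agent.Lib.Helper1.Restrict Groth.Agent.Lib.T2H4 Groth.Agent.Lib.T2H1.TorIndepBC
  Groth.Agent.Lib.T2H1.TorDimBC Groth.Agent.Lib.T2H1.ExtTensorTorAmp

section Ring

variable {R R' A A' B B' : Type u} [CommRing R] [CommRing R'] [CommRing A] [CommRing A']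
  [CommRing B] [CommRing B'] [Algebra R R'] [Algebra R B]

attribute [local instance] Algebra.TensorProduct.rightAlgebra

/-- extension of scalars along the identity -/
noncomputable def extIdIso (K : Cx B) : (extCx (RingHom.id B)).obj K ≅ K :=
  (NatIso.mapHomologicalComplex (ModuleCat.extendScalarsId B) (ComplexShape.up ℤ)).app K ≪≫
    (Functor.mapHomologicalComplexIdIso (ModuleCat.{u} B) (ComplexShape.up ℤ)).app K

/-- restriction of scalars in two steps -/
noncomputable def resCompCx {R₁ R₂ R₃ : Type u} [CommRing R₁] [CommRing R₂] [CommRing R₃]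
    (f : R₁ →+* R₂) (g : R₂ →+* R₃) (gf : R₁ →+* R₃) (hgf : gf = g.comp f) (K : Cx R₃) :
    (resCx f).obj ((resCx g).obj K) ≅ (resCx gf).obj K :=
  ((NatIso.mapHomologicalComplex (ModuleCat.restrictScalarsComp'.{u} f g gf hgf)
    (ComplexShape.up ℤ)).app K).symm

/-- the reverse of the pushout step, for a nilpotent surjection `R → R'` -/
theorem hasTorAmp_of_pushout_torIndep_nil
    (htor : ∀ p : ℕ, 1 ≤ p → Subsingleton (DRing.Tor R p B R'))
    (hρ : Function.Surjective (algebraMap R R')) (n : ℕ)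
    (hn : RingHom.ker (algebraMap R R') ^ n = ⊥)
    (K : Cx B) (hK : KFlat K) (a b : ℤ)
    (h1 : DRing.HasTorAmplitudeIn R' a b
      (Q.obj ((resCx (algebraMap R' (R' ⊗[R] B))).obj ((extCx (inr R R' B)).obj K)))) :
    DRing.HasTorAmplitudeIn R a b (Q.obj ((resCx (algebraMap R B)).obj K)) := by
  haveI : DRing.HasLBaseChange (algebraMap R R') := LDerExist.hasLBaseChange _
  haveI : DRing.HasLBaseChange (algebraMap B (R' ⊗[R] B)) := LDerExist.hasLBaseChange _
  have hsq : (algebraMap B (R' ⊗[R] B)).comp (algebraMap R B) =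
      (algebraMap R' (R' ⊗[R] B)).comp (algebraMap R R') := by
    refine RingHom.ext fun r => ?_
    change (1 : R') ⊗ₜ[R] (algebraMap R B r) = (algebraMap R R' r) ⊗ₜ[R] (1 : B)
    rw [Algebra.algebraMap_eq_smul_one, Algebra.algebraMap_eq_smul_one, TensorProduct.smul_tmul]
  let K' : Dual.D B := Q.obj K
  haveI := TorIndep.isIso_cmp R B R' (R' ⊗[R] B) htor (TorIndep.lbcAdj _) (TorIndep.lbcAdj _) hsq K'
  have e := asIso (TrivBC.cmp (TorIndep.lbcAdj (algebraMap R R'))
    (TorIndep.lbcAdj (algebraMap B (R' ⊗[R] B))) hsq K')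
  haveI := isIso_lbcCounit_of_kflat (algebraMap B (R' ⊗[R] B)) K hK
  have e1 : (DRing.LBaseChange (algebraMap B (R' ⊗[R] B))).obj K' ≅
      Q.obj ((extCx (algebraMap B (R' ⊗[R] B))).obj K) :=
    asIso ((Groth.Agent.Lib.Helper1.LDer.lbcCounit (algebraMap B (R' ⊗[R] B))).app K)
  have hK2 : DRing.HasTorAmplitudeIn R' a b
      ((DRing.restrictD (algebraMap R' (R' ⊗[R] B))).obj
        ((DRing.LBaseChange (algebraMap B (R' ⊗[R] B))).obj K')) :=
    hasTorAmp_of_iso ((DRing.restrictD (algebraMap R' (R' ⊗[R] B))).mapIso e1 ≪≫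
      restrictQIso (algebraMap R' (R' ⊗[R] B)) _).symm h1
  have hK1 : DRing.HasTorAmplitudeIn R' a b ((DRing.LBaseChange (algebraMap R R')).obj
      ((DRing.restrictD (algebraMap R B)).obj K')) := hasTorAmp_of_iso e.symm hK2
  have hK0 := hasTorAmp_of_LBaseChange_nil (algebraMap R R') hρ n hn _ a b hK1
  exact hasTorAmp_of_iso (restrictQIso (algebraMap R B) _) hK0

/-- the reverse of `hasTorAmp_baseChange_torIndep`, for a nilpotent surjection `R → R'` and a
faithfully flat `δ` -/
theorem hasTorAmp_of_baseChange_nil (σ : R →+* A) (σ' : R' →+* A') (φ : A →+* B)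
    (β : A' →+* B') (γ : B →+* B') (δ : R' ⊗[R] B →+* B')
    (hRB : algebraMap R B = φ.comp σ)
    (hδ₁ : δ.comp (algebraMap R' (R' ⊗[R] B)) = β.comp σ')
    (hδ₂ : δ.comp (inr R R' B) = γ)
    (hσ : σ.Flat) (hσ' : σ'.Flat)
    (hloc : ∀ N : ModuleCat.{u} A, Nonempty ((ModuleCat.extendScalars.{u, u, u} σ).obj
      ((ModuleCat.restrictScalars.{u} σ).obj N) ≅ N))
    (hδ : letI := δ.toAlgebra; Module.FaithfullyFlat (R' ⊗[R] B) B')
    (htor : ∀ p : ℕ, 1 ≤ p → Subsingleton (DRing.Tor R p B R'))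
    (hρ : Function.Surjective (algebraMap R R')) (n : ℕ)
    (hn : RingHom.ker (algebraMap R R') ^ n = ⊥)
    (K : Cx B) (hK : KFlat K) (a b : ℤ)
    (h : DRing.HasTorAmplitudeIn A' a b (Q.obj ((resCx β).obj ((extCx γ).obj K)))) :
    DRing.HasTorAmplitudeIn A a b (Q.obj ((resCx φ).obj K)) := by
  subst hδ₂
  letI := δ.toAlgebra
  haveI : Module.FaithfullyFlat (R' ⊗[R] B) B' := hδ
  -- restrict to `R'`
  have h1 : DRing.HasTorAmplitudeIn R' a b
      (Q.obj ((resCx σ').obj ((resCx β).obj ((extCx (δ.comp (inr R R' B))).obj K)))) :=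
    hasTorAmp_resCx_of_flat σ' hσ' _ a b h
  have h2 : DRing.HasTorAmplitudeIn R' a b
      ((DRing.restrictD (β.comp σ')).obj
        (Q.obj ((extCx (algebraMap (R' ⊗[R] B) B')).obj ((extCx (inr R R' B)).obj K)))) := by
    refine hasTorAmp_of_iso ?_ h1
    refine Q.mapIso (resCompCx σ' β (β.comp σ') rfl _) ≪≫ ?_ ≪≫ (restrictQIso (β.comp σ') _).symm
    exact Q.mapIso ((resCx (β.comp σ')).mapIso ((extCompCx (inr R R' B) δ).app K).symm)
  -- faithfully flat descent along `δ`
  have h3 : DRing.HasTorAmplitudeIn R' a b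
      ((DRing.restrictD (algebraMap R' (R' ⊗[R] B))).obj
        (Q.obj ((extCx (inr R R' B)).obj K))) :=
    (Groth.Agent.Lib.T2H4.TorRes.torAmp_restrict_iff_of_faithfullyFlat (algebraMap R' (R' ⊗[R] B)) (β.comp σ') hδ₁.symm
      ((extCx (inr R R' B)).obj K) a b).2 h2
  have h4 : DRing.HasTorAmplitudeIn R' a b
      (Q.obj ((resCx (algebraMap R' (R' ⊗[R] B))).obj ((extCx (inr R R' B)).obj K))) :=
    hasTorAmp_of_iso (restrictQIso (algebraMap R' (R' ⊗[R] B)) _) h3
  -- the pushout step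
  have h5 := hasTorAmp_of_pushout_torIndep_nil (R := R) (R' := R') (B := B) htor hρ n hn K hK a b h4
  -- localize at `A`
  have h6 := hasTorAmp_localize (algebraMap R B) (RingHom.id B) σ φ
    (by rw [RingHom.id_comp]; exact hRB) (RingHom.Flat.id B) hσ hloc K a b h5
  exact hasTorAmp_of_iso (Q.mapIso ((resCx φ).mapIso (extIdIso K))) h6

end Ring

end Groth.Agent.Lib.T2H2.NilTor
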