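import Mathlib
import Groth.Agent.Lib.T2H2NilTorB
import Groth.Agent.Lib.T2H2NilStalkA
set_option backward.isDefEq.respectTransparency.types false

/-!
# Relative tor amplitude lifts through finite order thickenings of the base (T2H2)
-/

set_option autoImplicit false
set_option linter.style.haveILetI false
universe u
open CategoryTheory CategoryTheory.Limits AlgebraicGeometry HomologicalComplex MonoidalCategory
  TensorProduct TopologicalSpace

attribute [local instance] HasDerivedCategory.standard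

namespace Groth.Agent.Lib.T2H2.NilTor

open Groth.Agent.Lib.T2H1.TorAmpBC Groth.Agent.Lib.Helper1.RelBC
  Groth.Agent.Lib.Helper1.KF Groth.Agent.Lib.Helper1.DT DerivedCategory DTen
  Groth.Agent.Lib.Helper1.Tor Groth.Agent.Lib.T2H1.TildeTorAmp
  Groth.Agent.Lib.Helper1.Restrict Groth.Agent.Lib.T2H4 Groth.Agent.Lib.T2H1.TorIndepBC
  Groth.Agent.Lib.T2H1.TorDimBC Groth.Agent.Lib.T2H1.ExtTensorTorAmp
  Groth.Agent.Lib.T2H1.TorAmpBCSch Groth.Agent.Lib.Helper1.Sky Groth.Agent.Lib.Helper1.KBC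
  Groth.Agent.Lib.Helper1.BKF Groth.Agent.Lib.T2H1.StalkTorAmp Groth.Agent.Lib.T2H1.RelPerfTri
  Groth.Agent.Lib.T2H1.SmoothTorSch Groth.Agent.Lib.T2H4.RelPC

attribute [local instance] Algebra.TensorProduct.rightAlgebra

section FF

variable {R R' B B' : Type u} [CommRing R] [CommRing R'] [CommRing B] [CommRing B']
  [Algebra R R'] [Algebra R B]

/-- `B → R' ⊗_R B` is surjective when `R → R'` is -/
lemma inr_surjective (hρ : Function.Surjective (algebraMap R R')) :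
    Function.Surjective (inr R R' B) := by
  intro c
  induction c using TensorProduct.induction_on with
  | zero => exact ⟨0, map_zero _⟩
  | tmul r' b' =>
    obtain ⟨r, rfl⟩ := hρ r'
    refine ⟨r • b', ?_⟩
    show (1 : R') ⊗ₜ[R] (r • b') = (algebraMap R R' r) ⊗ₜ[R] b'
    rw [Algebra.algebraMap_eq_smul_one, TensorProduct.smul_tmul]
  | add c₁ c₂ h₁ h₂ =>
    obtain ⟨b₁, rfl⟩ := h₁
    obtain ⟨b₂, rfl⟩ := h₂
    exact ⟨b₁ + b₂, map_add _ _ _⟩

/-- a flat `δ : R' ⊗_R B → B'` is faithfully flat, when `B`, `B'` are local, `R → R'` is surjective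
and `B → B'` is local -/
lemma faithfullyFlat_delta [IsLocalRing B] [IsLocalRing B']
    (hρ : Function.Surjective (algebraMap R R')) (γ : B →+* B') [IsLocalHom γ]
    (δ : R' ⊗[R] B →+* B') (hδ₂ : δ.comp (inr R R' B) = γ) (hδ : δ.Flat) :
    letI := δ.toAlgebra
    Module.FaithfullyFlat (R' ⊗[R] B) B' := by
  letI := δ.toAlgebra
  have hinr := inr_surjective (R := R) (R' := R') (B := B) hρ
  haveI : Nontrivial (R' ⊗[R] B) := δ.domain_nontrivial
  haveI : IsLocalRing (R' ⊗[R] B) := IsLocalRing.of_surjective' _ hinr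
  haveI : Module.Flat (R' ⊗[R] B) B' := hδ
  haveI : IsLocalHom (algebraMap (R' ⊗[R] B) B') := by
    constructor
    intro c hc
    obtain ⟨b', rfl⟩ := hinr c
    have h1 : IsUnit (γ b') := by
      rw [← hδ₂]
      exact hc
    exact (isUnit_of_map_unit γ b' h1).map _
  exact Module.FaithfullyFlat.of_flat_of_isLocalHom

end FF

section Sch

variable {X X' Y Y' : Scheme.{u}}

set_option maxHeartbeats 1600000 in
/-- relative tor amplitude at a point lifts through a finite order thickening of the base,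
for a flat morphism -/
theorem tAat_of_tAat_Lpull_thick (f : X ⟶ Y) (f' : X' ⟶ Y')
    (i : X ⟶ X') (j : Y ⟶ Y') (sq : IsPullback i f f' j) [Flat f']
    (hj : MoreMor.IsFiniteOrderThickening j) [DCoh.HasLpull i]
    (E' : DCoh.D X') (a b : ℤ) (x : X) (hE : TAat f a b ((DCoh.Lpull i).obj E') x) :
    TAat f' a b E' (i x) := by
  haveI : IsClosedImmersion j := hj.1.1
  obtain ⟨n, hn⟩ := hj.2
  have hxy : f' (i x) = j (f x) := by
    have h1 := congrArg (fun φ : X ⟶ Y' => φ x) sq.w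
    simpa using h1
  obtain ⟨W, hW, hxW, -⟩ := Opens.isBasis_iff_nbhd.mp Y'.isBasis_affineOpens
    (Opens.mem_top (f' (i x)))
  obtain ⟨V, hV, hxV, hVW⟩ := Opens.isBasis_iff_nbhd.mp X'.isBasis_affineOpens
    (show i x ∈ f' ⁻¹ᵁ W from hxW)
  have hW' : IsAffineOpen (j ⁻¹ᵁ W) := hW.preimage j
  have hyW' : f x ∈ j ⁻¹ᵁ W := by
    change j (f x) ∈ W
    rw [← hxy]
    exact hxW
  have hW'W : j ⁻¹ᵁ W ≤ j ⁻¹ᵁ W := le_rfl
  letI algRR' : Algebra Γ(Y', W) Γ(Y, j ⁻¹ᵁ W) := (j.appLE W (j ⁻¹ᵁ W) hW'W).hom.toAlgebra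
  let σ : Γ(Y', W) →+* Y'.presheaf.stalk (f' (i x)) := (Y'.presheaf.germ W (f' (i x)) hxW).hom
  let σ' : Γ(Y, j ⁻¹ᵁ W) →+* Y.presheaf.stalk (f x) := (Y.presheaf.germ (j ⁻¹ᵁ W) (f x) hyW').hom
  letI algRB : Algebra Γ(Y', W) (X'.presheaf.stalk (i x)) :=
    ((f'.stalkMap (i x)).hom.comp σ).toAlgebra
  obtain ⟨δ, hδ₁, hδ₂, hδ⟩ := exists_delta_of_isPullback sq x hW hV hW' hVW hW'W hxV hyW'
  have hσ : σ.Flat := flat_germ hW _ hxW
  have hσ' : σ'.Flat := flat_germ hW' _ hyW'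
  have hloc := Groth.Agent.Lib.T2H1.TorAmpQCoh.nonempty_extendScalars_restrictScalars_iso σ
      (hW.primeIdealOf ⟨f' (i x), hxW⟩).asIdeal.primeCompl
      (hW.isLocalization_stalk ⟨f' (i x), hxW⟩)
  have hρ : Function.Surjective (algebraMap Γ(Y', W) Γ(Y, j ⁻¹ᵁ W)) := by
    have := j.app_surjective W hW
    rwa [Scheme.Hom.app_eq_appLE] at this
  have hker : RingHom.ker (algebraMap Γ(Y', W) Γ(Y, j ⁻¹ᵁ W)) ^ n = ⊥ := by
    have := congr(($hn).ideal ⟨W, hW⟩)
    show RingHom.ker (j.appLE W (j ⁻¹ᵁ W) le_rfl).hom ^ n = ⊥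
    rw [← Scheme.Hom.app_eq_appLE]
    simpa using this
  haveI : Module.Flat Γ(Y', W) (X'.presheaf.stalk (i x)) := by
    have h3 : (algebraMap Γ(Y', W) (X'.presheaf.stalk (i x))).Flat :=
      RingHom.Flat.comp (flat_germ hW _ _) (Flat.stalkMap f' (i x))
    exact h3
  have htor : ∀ p : ℕ, 1 ≤ p →
      Subsingleton (DRing.Tor Γ(Y', W) p (X'.presheaf.stalk (i x)) Γ(Y, j ⁻¹ᵁ W)) := by
    intro p hp
    exact ModuleCat.subsingleton_of_isZero
      (Groth.Agent.Helper13Tor.isZero_tor_of_flat (ModuleCat.of Γ(Y', W) Γ(Y, j ⁻¹ᵁ W))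
        (ModuleCat.of Γ(Y', W) (X'.presheaf.stalk (i x))) p hp)
  have hff := faithfullyFlat_delta (R := Γ(Y', W)) (R' := Γ(Y, j ⁻¹ᵁ W)) hρ
    (i.stalkMap x).hom δ hδ₂ hδ
  -- a K-flat resolution
  let F₀ : CochainComplex X'.Modules ℤ := (Q : _ ⥤ DCoh.D X').objPreimage E'
  have e₀ : DCoh.toD X' F₀ ≅ E' := (Q : _ ⥤ DCoh.D X').objObjPreimageIso E'
  obtain ⟨P, q, hP, -, hq, -⟩ : ∃ (P : CochainComplex X'.Modules ℤ) (q : P ⟶ F₀),
      DCoh.IsKFlat P ∧ (∀ n : ℤ, ModSite.IsFlat (O := X'.sheaf) (P.X n)) ∧ QuasiIso q ∧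
        ∀ n : ℤ, Epi (q.f n) := exists_kflat_flat_resolution X'.sheaf F₀
  haveI hqi : IsIso (DerivedCategory.Q.map q) := by
    rw [DerivedCategory.isIso_Q_map_iff_quasiIso]; exact hq
  have eP : DCoh.toD X' P ≅ E' := asIso (DerivedCategory.Q.map q) ≪≫ e₀
  have e1 : (DCoh.Lpull i).obj E' ≅ DCoh.toD X ((pullC i).obj P) :=
    (DCoh.Lpull i).mapIso eP.symm ≪≫ lpullIsoK i P hP
  refine TAat.of_iso f' eP ((tAat_toD_iff f' a b _ (i x)).2 ?_)
  have hK : KFlat ((stalkC (i x)).obj P) :=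
    fun L hL => rKFlat_stalk_of_isKFlat (i x) P hP L hL
  have h2 : DerSch.HasTorAmplitudeAt f a b ((pullC i).obj P) x :=
    (tAat_toD_iff f a b _ x).1 (TAat.of_iso f e1 hE)
  have h3 : DRing.HasTorAmplitudeIn (Y.presheaf.stalk (f x)) a b
      (Q.obj ((resCx (f.stalkMap x).hom).obj
        ((extCx (i.stalkMap x).hom).obj ((stalkC (i x)).obj P)))) :=
    hasTorAmp_of_iso (Q.mapIso ((NatIso.mapHomologicalComplex
      (stalkOverPullbackIso' i f x) (ComplexShape.up ℤ)).app P)) h2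
  have h4 := hasTorAmp_of_baseChange_nil σ σ' (f'.stalkMap (i x)).hom (f.stalkMap x).hom
    (i.stalkMap x).hom δ rfl hδ₁ hδ₂ hσ hσ' hloc hff htor hρ n hker
    ((stalkC (i x)).obj P) hK a b h3
  have h5 : DRing.HasTorAmplitudeIn (Y'.presheaf.stalk (f' (i x))) a b
      (Q.obj ((resCx (f'.stalkMap (i x)).hom).obj
        (((DerSch.stalkFunctor X' (i x)).mapHomologicalComplex (ComplexShape.up ℤ)).obj P))) :=
    hasTorAmp_of_iso
      (Q.mapIso ((resCx (f'.stalkMap (i x)).hom).mapIso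
        ((NatIso.mapHomologicalComplex (stalkFunctorIso (i x))
          (ComplexShape.up ℤ)).app P))).symm h4
  exact h5

end Sch

end Groth.Agent.Lib.T2H2.NilTor
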