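import Mathlib
import Groth.Agent.Lib.T2H2NilFPA
import Groth.Agent.Lib.T2H2NilTorC
import Groth.Agent.Lib.Helper2FlatOver
set_option backward.isDefEq.respectTransparency.types false

/-!
# Pullback along the base change of a closed immersion, of a submodule with flat quotient (T2H2)
-/

set_option autoImplicit false
set_option linter.style.haveILetI false
universe u
open CategoryTheory CategoryTheory.Limits AlgebraicGeometry TensorProduct TopologicalSpace

namespace Groth.Agent.Lib.T2H2.NilFP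

open Groth.Agent.Lib.Helper1.Sky Groth.Agent.Lib.Helper1.KBC Groth.Agent.Lib.Helper1.StalkTensor
  Groth.Agent.Lib.T2H1.ExtTensorTorAmp Groth.Agent.Lib.T2H2.NilTor
  Groth.Agent.Lib.Helper2.FlatOver Groth.Agent.Lib.Helper1.RelBC

attribute [local instance] Algebra.TensorProduct.rightAlgebra

variable {X X' T T' : Scheme.{u}} (i : X ⟶ X') (q : X ⟶ T) (q' : X' ⟶ T') (t : T ⟶ T')

set_option maxHeartbeats 1600000 in
/-- the kernel of the stalk map of the base change of a closed immersion -/
theorem ker_stalkMap_of_isPullback (hsq : IsPullback i q q' t) [IsClosedImmersion t] (x : X)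
    {W : T'.Opens} (hW : IsAffineOpen W) (hxW : q' (i x) ∈ W) :
    letI : Algebra Γ(T', W) (X'.presheaf.stalk (i x)) :=
      ((q'.stalkMap (i x)).hom.comp (T'.presheaf.germ W (q' (i x)) hxW).hom).toAlgebra
    RingHom.ker (i.stalkMap x).hom =
      (RingHom.ker (t.appLE W (t ⁻¹ᵁ W) le_rfl).hom).map
        (algebraMap Γ(T', W) (X'.presheaf.stalk (i x))) := by
  have hxy : q' (i x) = t (q x) := by
    have h1 := congrArg (fun φ : X ⟶ T' => φ x) hsq.w
    simpa using h1
  obtain ⟨V, hV, hxV, hVW⟩ := Opens.isBasis_iff_nbhd.mp X'.isBasis_affineOpens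
    (show i x ∈ q' ⁻¹ᵁ W from hxW)
  have hW' : IsAffineOpen (t ⁻¹ᵁ W) := hW.preimage t
  have hyW' : q x ∈ t ⁻¹ᵁ W := by
    change t (q x) ∈ W
    rw [← hxy]
    exact hxW
  have hW'W : t ⁻¹ᵁ W ≤ t ⁻¹ᵁ W := le_rfl
  letI algRR' : Algebra Γ(T', W) Γ(T, t ⁻¹ᵁ W) := (t.appLE W (t ⁻¹ᵁ W) hW'W).hom.toAlgebra
  letI algRB : Algebra Γ(T', W) (X'.presheaf.stalk (i x)) :=
    ((q'.stalkMap (i x)).hom.comp (T'.presheaf.germ W (q' (i x)) hxW).hom).toAlgebra
  obtain ⟨δ, hδ₁, hδ₂, hδ⟩ := exists_delta_of_isPullback hsq x hW hV hW' hVW hW'W hxV hyW'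
  have hρ : Function.Surjective (algebraMap Γ(T', W) Γ(T, t ⁻¹ᵁ W)) := by
    have := t.app_surjective W hW
    rwa [Scheme.Hom.app_eq_appLE] at this
  have hff := faithfullyFlat_delta (R := Γ(T', W)) (R' := Γ(T, t ⁻¹ᵁ W)) hρ
    (i.stalkMap x).hom δ hδ₂ hδ
  have hinj : Function.Injective δ := by
    letI := δ.toAlgebra
    haveI := hff
    exact FaithfulSMul.algebraMap_injective _ _
  show RingHom.ker (i.stalkMap x).hom =
    (RingHom.ker (algebraMap Γ(T', W) Γ(T, t ⁻¹ᵁ W))).map _
  refine ker_eq_map_of_delta hρ (i.stalkMap x).hom δ (fun b => ?_) hinj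
  have := congrArg (fun ψ => ψ b) hδ₂
  exact this

set_option maxHeartbeats 1600000 in
/-- pullback along the base change of a closed immersion keeps a submodule with flat quotient
a submodule -/
theorem mono_pullback_map_of_isFlatOver (hsq : IsPullback i q q' t) [IsClosedImmersion t]
    (S : ShortComplex X'.Modules) (hS : S.ShortExact) (hfl : FlatMod.IsFlatOver q' S.X₃) :
    Mono ((Scheme.Modules.pullback i).map S.f) := by
  apply mono_of_sm_injective
  intro x
  obtain ⟨W, hW, hxW, -⟩ := Opens.isBasis_iff_nbhd.mp T'.isBasis_affineOpens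
    (Opens.mem_top (q' (i x)))
  letI algRB : Algebra Γ(T', W) (X'.presheaf.stalk (i x)) :=
    ((q'.stalkMap (i x)).hom.comp (T'.presheaf.germ W (q' (i x)) hxW).hom).toAlgebra
  have hker := ker_stalkMap_of_isPullback i q q' t hsq x hW hxW
  haveI : IsClosedImmersion i :=
    MorphismProperty.of_isPullback (P := @IsClosedImmersion) hsq.flip inferInstance
  have hsurj : Function.Surjective (i.stalkMap x).hom := i.stalkMap_surjective x
  obtain ⟨hg, hf, hex⟩ := stalk_shortExact (i x) S hS
  have hflx : @Module.Flat Γ(T', W) ((stalkFun (i x)).obj S.X₃) _ _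
      (Module.compHom ((stalkFun (i x)).obj S.X₃)
        (algebraMap Γ(T', W) (X'.presheaf.stalk (i x)))) :=
    (isFlatOverAt_iff_flat_base q' S.X₃ hW (i x) hxW).1 (hfl (i x))
  have hinj := ext_map_injective_of_flat (i.stalkMap x).hom hsurj _ hker
    ((stalkFun (i x)).obj S.X₁) ((stalkFun (i x)).obj S.X₂) ((stalkFun (i x)).obj S.X₃)
    ((stalkFun (i x)).map S.f) ((stalkFun (i x)).map S.g) hg hf hex hflx
  have hnat := (stalkPullbackIso i x).hom.naturality S.f
  have h2 : (stalkFun x).map ((Scheme.Modules.pullback i).map S.f) ≫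
      (stalkPullbackIso i x).hom.app S.X₂ = (stalkPullbackIso i x).hom.app S.X₁ ≫
        (ModuleCat.extendScalars.{u, u, u} (i.stalkMap x).hom).map
          ((stalkFun (i x)).map S.f) := hnat
  intro a b hab
  have hab' : ((stalkFun x).map ((Scheme.Modules.pullback i).map S.f)).hom a =
      ((stalkFun x).map ((Scheme.Modules.pullback i).map S.f)).hom b := hab
  have h3 := congrArg (fun ψ => ψ.hom a) h2
  have h4 := congrArg (fun ψ => ψ.hom b) h2
  simp only [ModuleCat.hom_comp, LinearMap.comp_apply] at h3 h4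
  rw [hab', h4] at h3
  have h5 := hinj h3
  exact (ConcreteCategory.bijective_of_isIso ((stalkPullbackIso i x).hom.app S.X₁)).1 h5.symm

end Groth.Agent.Lib.T2H2.NilFP
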