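import Mathlib
import Groth.Agent.Lib.T2H2FppfFTA

/-!
# fppf descent of finite type for arbitrary modules, part B: local generators on the base (T2H2)
-/

set_option autoImplicit false
set_option linter.style.haveILetI false
set_option linter.unusedSectionVars false
universe u
open CategoryTheory CategoryTheory.Limits AlgebraicGeometry TopologicalSpace Opposite
open TensorProduct

namespace Groth.Agent.Lib.T2H2.FppfFT

open Groth.Agent.Lib.Helper1.PT Groth.Agent.Lib.Helper1.Sky Groth.Agent.Lib.Helper1.StalkTensor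
open Groth.Agent.Lib.Helper6 Groth.Agent.Lib.T2H3.PullGen

variable {X' X : Scheme.{u}} (f : X' ⟶ X) (M : X.Modules)

/-- germs of combinations of a family of sections lie in the span of the germs of the family -/
theorem gm_mem_span_of_mem_span (N : X'.Modules) (W : X'.Opens) (S : Set ((toPM N).obj (op W)))
    (s : (toPM N).obj (op W)) (hs : s ∈ Submodule.span (X'.presheaf.obj (op W)) S) (y' : X')
    (hy : y' ∈ W) :
    gm (toPM N) y' W hy s ∈ Submodule.span (Groth.Agent.Lib.Helper1.Sky.Ox y')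
      ((fun u => gm (toPM N) y' W hy u) '' S) := by
  induction hs using Submodule.span_induction with
  | mem u hu => exact Submodule.subset_span ⟨u, hu, rfl⟩
  | zero => rw [map_zero]; exact zero_mem _
  | add a b _ _ ha hb => rw [map_add]; exact add_mem ha hb
  | smul r a _ ha =>
    have h1 := gm_smul (P := toPM N) (x := y') (U := W) hy r a
    rw [h1]
    exact Submodule.smul_mem _ _ ha

/-- a pulled back section, restricted -/
theorem res_pullSect_res (V V₀ : X.Opens) (e : V ≤ V₀) (W : X'.Opens) (hW : W ≤ f ⁻¹ᵁ V)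
    (t : Γ(M, V₀)) :
    res ((Scheme.Modules.pullback f).obj M) hW (OmegaSh.pullSect f M V (res M e t)) =
      res ((Scheme.Modules.pullback f).obj M) (hW.trans (f.preimage_mono e))
        (OmegaSh.pullSect f M V₀ t) := by
  have h1 := OmegaSh.pullSect_map f M e t
  change res ((Scheme.Modules.pullback f).obj M) hW
    (OmegaSh.pullSect f M V (M.presheaf.map (homOfLE e).op t)) = _
  rw [h1]
  exact res_res _ _ _ _

variable [Flat f]

/-- if `f^* M` is of finite type, then near the image of any point `M` is generated at all stalks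
(at images of points of a neighbourhood) by finitely many sections -/
theorem exists_generators_base (hM : CohB1.IsFT ((Scheme.Modules.pullback f).obj M)) (x' : X') :
    ∃ (W : X'.Opens) (_ : x' ∈ W) (V : X.Opens) (hWV : W ≤ f ⁻¹ᵁ V) (T : Type u) (_ : Finite T)
      (t : T → (toPM M).obj (op V)), ∀ (y' : X') (hy' : y' ∈ W),
        Submodule.span (Groth.Agent.Lib.Helper1.Sky.Ox (f y'))
          (Set.range fun τ => gm (toPM M) (f y') V (hWV hy') (t τ)) = ⊤ := by
  classical
  set N := (Scheme.Modules.pullback f).obj M with hN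
  obtain ⟨W₀, hx₀, I, hI, m, hm⟩ := Groth.Agent.Lib.T2H8.FTGerms.exists_generators N hM x'
  haveI := Fintype.ofFinite I
  have key := fun k : I => exists_res_mem_locSpan f M (m k) x' hx₀
  choose Wk hxWk hWk hmem using key
  let W₁ : X'.Opens := ⟨(⋂ k, (Wk k : Set X')) ∩ (W₀ : Set X'),
    (isOpen_iInter_of_finite fun k => (Wk k).isOpen).inter W₀.isOpen⟩
  have hW₁k : ∀ k, W₁ ≤ Wk k := fun k y hy => Set.mem_iInter.1 hy.1 k
  have hxW₁ : x' ∈ W₁ := ⟨Set.mem_iInter.2 hxWk, hx₀⟩
  have hW₁₀ : W₁ ≤ W₀ := fun y hy => hy.2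
  -- the generators restricted to `W₁` are combinations of pulled back sections
  have hmem₁ : ∀ k, res N hW₁₀ (m k) ∈ locSpan f M W₁ := by
    intro k
    have h1 := res_mem_locSpan f M (hW₁k k) (hmem k)
    rwa [res_res] at h1
  have hfin := fun k => Submodule.mem_span_finite_of_mem_span (hmem₁ k)
  choose Sk hSk hmemSk using hfin
  let 𝒯 : Finset Γ(N, W₁) := Finset.univ.biUnion Sk
  have h𝒯 : ∀ u ∈ 𝒯, u ∈ unitSet f M W₁ := by
    intro u hu
    obtain ⟨k, -, hk⟩ := Finset.mem_biUnion.1 hu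
    exact hSk k hk
  let T : Type u := 𝒯
  have hT : ∀ u : T, (u : Γ(N, W₁)) ∈ unitSet f M W₁ := fun u => h𝒯 u.1 u.2
  choose Vu hVu tu htu using hT
  let V : X.Opens := ⟨⋂ u, (Vu u : Set X), isOpen_iInter_of_finite fun u => (Vu u).isOpen⟩
  have hVu' : ∀ u, V ≤ Vu u := fun u y hy => Set.mem_iInter.1 hy u
  have hWV : W₁ ≤ f ⁻¹ᵁ V := fun y hy => Set.mem_iInter.2 fun u => hVu u hy
  let t : T → (toPM M).obj (op V) := fun u => res M (hVu' u) (tu u)
  have ht : ∀ u : T, (u : Γ(N, W₁)) = res N hWV (OmegaSh.pullSect f M V (t u)) := by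
    intro u
    rw [res_pullSect_res f M V (Vu u) (hVu' u) W₁ hWV (tu u)]
    exact htu u
  refine ⟨W₁, hxW₁, V, hWV, T, inferInstance, t, fun y' hy' => ?_⟩
  apply span_germ_eq_top_of_pull f M y' V (hWV hy') t
  rw [eq_top_iff]
  intro a _
  have ha : a ∈ Submodule.span (Groth.Agent.Lib.Helper1.Sky.Ox y')
      (Set.range fun k => gm (toPM N) y' W₀ (hW₁₀ hy') (m k)) := by
    rw [hm y' (hW₁₀ hy')]; trivial
  refine Submodule.span_le.2 ?_ ha
  rintro _ ⟨k, rfl⟩
  have h1 : gm (toPM N) y' W₀ (hW₁₀ hy') (m k) = gm (toPM N) y' W₁ hy' (res N hW₁₀ (m k)) :=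
    (gm_rs (P := toPM N) (x := y') (homOfLE hW₁₀) hy' (m k)).symm
  change gm (toPM N) y' W₀ (hW₁₀ hy') (m k) ∈ Submodule.span (Groth.Agent.Lib.Helper1.Sky.Ox y') _
  rw [h1]
  have h2 : res N hW₁₀ (m k) ∈ Submodule.span Γ(X', W₁) (𝒯 : Set Γ(N, W₁)) :=
    Submodule.span_mono (fun u hu => Finset.mem_biUnion.2 ⟨k, Finset.mem_univ k, hu⟩) (hmemSk k)
  have h3 := gm_mem_span_of_mem_span N W₁ (𝒯 : Set Γ(N, W₁)) (res N hW₁₀ (m k)) h2 y' hy'
  refine Submodule.span_mono ?_ h3
  rintro _ ⟨u, hu, rfl⟩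
  refine ⟨⟨u, hu⟩, ?_⟩
  have h4 : u = res N hWV (OmegaSh.pullSect f M V (t ⟨u, hu⟩)) := ht ⟨u, hu⟩
  have h5 := gm_rs (P := toPM N) (x := y') (homOfLE hWV) hy'
    (OmegaSh.pullSect f M V (t ⟨u, hu⟩))
  exact h5.symm.trans (congrArg (gm (toPM N) y' W₁ hy') h4.symm)

end Groth.Agent.Lib.T2H2.FppfFT
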