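import Mathlib
import Groth.Agent.Lib.Helper2QCoh
import Groth.Agent.Lib.T2H4HomShGlobal
set_option backward.isDefEq.respectTransparency.types false

/-!
# Stalks of the restriction of a module to an open subscheme (helper4)

For `U : X.Opens`, `M : X.Modules` and `y : U`: the additive isomorphism `σ : (M|_U)_y ≅ M_{ι y}`, the ring isomorphism
`τ : O_{U,y} ≅ O_{X,ι y}`, their values on germs, semilinearity and compatibility with specialization.
-/

set_option autoImplicit false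
set_option linter.style.haveILetI false
universe u
open CategoryTheory CategoryTheory.Limits AlgebraicGeometry TopologicalSpace

namespace Groth.Agent.Lib.T2H4.RestrictStalk

open Groth.Agent.Lib.Helper2.QCoh Groth.Agent.Lib.T2H4.HomShGlobal

variable {X : Scheme.{u}} (U : X.Opens)

/-- the underlying presheafed space of abelian groups of a module -/
noncomputable def PS (M : X.Modules) : PresheafedSpace Ab.{u} := ⟨X.toTopCat, M.presheaf⟩

/-- the stalk of the restriction of `M` to `U` at `y` is the stalk of `M` at `y` -/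
noncomputable def σ (M : X.Modules) (y : U) :
    (M.restrict U.ι).presheaf.stalk y ≅ M.presheaf.stalk (U.ι y) :=
  (PS M).restrictStalkIso U.ι.isOpenEmbedding y

theorem σ_germ (M : X.Modules) (V : (↑U : Scheme.{u}).Opens) (y : U) (hy : y ∈ V)
    (m : Γ(M.restrict U.ι, V)) :
    (σ U M y).hom ((M.restrict U.ι).presheaf.germ V y hy m) =
      M.presheaf.germ (U.ι ''ᵁ V) (U.ι y) ⟨y, hy, rfl⟩ m :=
  PresheafedSpace.restrictStalkIso_hom_eq_germ_apply (PS M) U.ι.isOpenEmbedding V y hy m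

/-- the local ring of `U` at `y` is the local ring of `X` at `y` -/
noncomputable def τ (y : U) : (↑U : Scheme.{u}).presheaf.stalk y ≅ X.presheaf.stalk (U.ι y) :=
  X.toPresheafedSpace.restrictStalkIso U.ι.isOpenEmbedding y

theorem τ_germ (V : (↑U : Scheme.{u}).Opens) (y : U) (hy : y ∈ V) (r : Γ(↑U, V)) :
    (τ U y).hom ((↑U : Scheme.{u}).presheaf.germ V y hy r) =
      X.presheaf.germ (U.ι ''ᵁ V) (U.ι y) ⟨y, hy, rfl⟩ r :=
  PresheafedSpace.restrictStalkIso_hom_eq_germ_apply X.toPresheafedSpace U.ι.isOpenEmbedding V y hy r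

theorem smul_restrict (M : X.Modules) (V : (↑U : Scheme.{u}).Opens) (r : Γ(↑U, V))
    (m : Γ(M.restrict U.ι, V)) :
    (r • m : Γ(M.restrict U.ι, V)) =
      ((show Γ(X, U.ι ''ᵁ V) from r) • (show Γ(M, U.ι ''ᵁ V) from m) : Γ(M, U.ι ''ᵁ V)) := by
  have h1 : (r • m : Γ(M.restrict U.ι, V)) =
      (((U.ι.appIso V).inv r : Γ(X, U.ι ''ᵁ V)) • (show Γ(M, U.ι ''ᵁ V) from m) : Γ(M, U.ι ''ᵁ V)) := rfl
  rw [h1, Scheme.Opens.ι_appIso]
  rfl

theorem σ_smul (M : X.Modules) (y : U) (r : (↑U : Scheme.{u}).presheaf.stalk y)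
    (m : (M.restrict U.ι).presheaf.stalk y) :
    (σ U M y).hom (r • m) = (τ U y).hom r • (σ U M y).hom m := by
  obtain ⟨V₁, hy₁, r₁, rfl⟩ := (↑U : Scheme.{u}).presheaf.exists_germ_eq (x := y) r
  obtain ⟨V₂, hy₂, m₂, rfl⟩ := (M.restrict U.ι).presheaf.exists_germ_eq m
  have hy : y ∈ V₁ ⊓ V₂ := ⟨hy₁, hy₂⟩
  rw [← TopCat.Presheaf.germ_res_apply (↑U : Scheme.{u}).presheaf (homOfLE (inf_le_left : V₁ ⊓ V₂ ≤ V₁)) y hy r₁,
    ← TopCat.Presheaf.germ_res_apply (M.restrict U.ι).presheaf (homOfLE (inf_le_right : V₁ ⊓ V₂ ≤ V₂)) y hy m₂,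
    ← germ_smul, σ_germ, σ_germ, τ_germ, smul_restrict, germ_smul]

theorem σ_spec (M : X.Modules) {y' y : U} (h : y' ⤳ y) (h' : U.ι y' ⤳ U.ι y)
    (m : (M.restrict U.ι).presheaf.stalk y) :
    (σ U M y').hom (((M.restrict U.ι).presheaf.stalkSpecializes h).hom m) =
      (M.presheaf.stalkSpecializes h').hom ((σ U M y).hom m) := by
  obtain ⟨V, hy, m, rfl⟩ := (M.restrict U.ι).presheaf.exists_germ_eq m
  rw [stalkSpecializes_germ, σ_germ, σ_germ, stalkSpecializes_germ]

theorem τ_spec {y' y : U} (h : y' ⤳ y) (h' : U.ι y' ⤳ U.ι y)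
    (r : (↑U : Scheme.{u}).presheaf.stalk y) :
    (τ U y').hom (((↑U : Scheme.{u}).presheaf.stalkSpecializes h).hom r) =
      (X.presheaf.stalkSpecializes h').hom ((τ U y).hom r) := by
  obtain ⟨V, hy, r, rfl⟩ := (↑U : Scheme.{u}).presheaf.exists_germ_eq (x := y) r
  rw [TopCat.Presheaf.germ_stalkSpecializes_apply, τ_germ, τ_germ,
    TopCat.Presheaf.germ_stalkSpecializes_apply]

end Groth.Agent.Lib.T2H4.RestrictStalk
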