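import Mathlib
import Groth.Agent.Lib.T2H2FppfFTB
import Groth.Agent.Lib.T2H4RestrictStalk
import Groth.Agent.Lib.Helper26FpqcMod
import Groth.Agent.Lib.T2H8PCohFT

/-!
# fppf descent of finite type for arbitrary modules, part C (T2H2)

Sections whose germs span all the stalks over an open `V₂` give generating sections of the
restriction to `V₂`; conclusion: finite type descends along flat open surjective morphisms.
-/

set_option autoImplicit false
set_option linter.style.haveILetI false
set_option linter.unusedSectionVars false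
universe u
open CategoryTheory CategoryTheory.Limits AlgebraicGeometry TopologicalSpace Opposite

namespace Groth.Agent.Lib.T2H2.FppfFT

open Groth.Agent.Lib.Helper1.PT Groth.Agent.Lib.Helper1.Sky Groth.Agent.Lib.Helper1.StalkTensor
open Groth.Agent.Lib.Helper6

variable {X : Scheme.{u}} (M : X.Modules)

/-- the section of the restriction to `V₂` given by a section over a bigger open -/
noncomputable def restrSection (V₂ V : X.Opens) (hV : V₂ ≤ V) (t : (toPM M).obj (op V)) :
    (M.restrict V₂.ι).sections :=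
  PresheafOfModules.sectionsMk
    (fun U => (show (M.restrict V₂.ι).val.obj U from
      rs (toPM M) (homOfLE (show V₂.ι ''ᵁ U.unop ≤ V from
        (Scheme.Hom.image_le_opensRange V₂.ι U.unop).trans (by simpa using hV))) t))
    (by
      intro U U' g
      exact rs_rs (P := toPM M) _ (homOfLE (Scheme.Hom.image_mono V₂.ι (leOfHom g.unop))) t)

theorem restrSection_val (V₂ V : X.Opens) (hV : V₂ ≤ V) (t : (toPM M).obj (op V))
    (U : (↑V₂ : Scheme.{u}).Opens) :
    (restrSection M V₂ V hV t).val (op U) =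
      rs (toPM M) (homOfLE (show V₂.ι ''ᵁ U ≤ V from
        (Scheme.Hom.image_le_opensRange V₂.ι U).trans (by simpa using hV))) t := rfl

open Groth.Agent.Lib.T2H4.RestrictStalk in
/-- the germs of the restricted sections span the stalks of the restriction -/
theorem span_germ_restrSection (V₂ V : X.Opens) (hV : V₂ ≤ V) {T : Type u} [Finite T]
    (t : T → (toPM M).obj (op V))
    (h : ∀ (z : X) (hz : z ∈ V₂), Submodule.span (Groth.Agent.Lib.Helper1.Sky.Ox z)
      (Set.range fun τ => gm (toPM M) z V (hV hz) (t τ)) = ⊤) (z : (↑V₂ : Scheme.{u})) :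
    Submodule.span (Groth.Agent.Lib.Helper1.Sky.Ox z) (Set.range fun τ =>
      gm (toPM (M.restrict V₂.ι)) z ⊤ trivial ((restrSection M V₂ V hV (t τ)).val (op ⊤))) = ⊤ := by
  classical
  haveI := Fintype.ofFinite T
  set N := M.restrict V₂.ι with hN
  let γ : T → St (toPM N) z := fun τ =>
    gm (toPM N) z ⊤ trivial ((restrSection M V₂ V hV (t τ)).val (op ⊤))
  have hz : V₂.ι z ∈ V₂ := by simp
  let g : T → St (toPM M) (V₂.ι z) := fun τ => gm (toPM M) (V₂.ι z) V (hV hz) (t τ)
  have hσγ : ∀ τ, (σ V₂ M z).hom (γ τ) = g τ := by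
    intro τ
    have h1 := σ_germ V₂ M ⊤ z trivial ((restrSection M V₂ V hV (t τ)).val (op ⊤))
    refine h1.trans ?_
    rw [restrSection_val]
    exact gm_rs (P := toPM M) (x := V₂.ι z) _ _ (t τ)
  rw [eq_top_iff]
  intro a _
  let b : St (toPM M) (V₂.ι z) := (σ V₂ M z).hom a
  have hb : b ∈ Submodule.span (Groth.Agent.Lib.Helper1.Sky.Ox (V₂.ι z)) (Set.range g) := by
    rw [h (V₂.ι z) hz]; trivial
  obtain ⟨c, hc⟩ := (Submodule.mem_span_range_iff_exists_fun _).1 hb
  have hinj : Function.Injective (σ V₂ M z).hom :=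
    (ConcreteCategory.bijective_of_isIso (σ V₂ M z).hom).injective
  have ha : a = ∑ k, ((τ V₂ z).inv (c k) : Groth.Agent.Lib.Helper1.Sky.Ox z) • γ k := by
    apply hinj
    change b = _
    rw [← hc]
    have h2 : (σ V₂ M z).hom (∑ k, ((τ V₂ z).inv (c k) : Groth.Agent.Lib.Helper1.Sky.Ox z) • γ k) =
        ∑ k, (σ V₂ M z).hom (((τ V₂ z).inv (c k) : Groth.Agent.Lib.Helper1.Sky.Ox z) • γ k) :=
      map_sum (σ V₂ M z).hom.hom _ _
    refine Eq.trans ?_ h2.symm
    refine Finset.sum_congr rfl fun k _ => ?_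
    have h3 := σ_smul V₂ M z ((τ V₂ z).inv (c k)) (γ k)
    refine Eq.trans ?_ h3.symm
    rw [hσγ]
    congr 1
    exact (congrArg (fun φ => φ (c k)) (τ V₂ z).inv_hom_id).symm
  rw [ha]
  exact Submodule.sum_mem _ fun k _ => Submodule.smul_mem _ _ (Submodule.subset_span ⟨k, rfl⟩)

/-- sections whose germs span the stalks over `V₂` generate the restriction to `V₂` -/
theorem epi_free_restrSection (V₂ V : X.Opens) (hV : V₂ ≤ V) {T : Type u} [Finite T]
    (t : T → (toPM M).obj (op V))
    (h : ∀ (z : X) (hz : z ∈ V₂), Submodule.span (Groth.Agent.Lib.Helper1.Sky.Ox z)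
      (Set.range fun τ => gm (toPM M) z V (hV hz) (t τ)) = ⊤) :
    Epi ((M.restrict V₂.ι).freeHomEquiv.symm (fun τ => restrSection M V₂ V hV (t τ))) := by
  set N := M.restrict V₂.ι with hN
  set φ : SheafOfModules.free (R := (↑V₂ : Scheme.{u}).ringCatSheaf) T ⟶ N :=
    N.freeHomEquiv.symm (fun τ => restrSection M V₂ V hV (t τ)) with hφ
  have key : ∀ z : (↑V₂ : Scheme.{u}), Function.Surjective
      ((stalkFun z).map (show (SheafOfModules.free (R := (↑V₂ : Scheme.{u}).ringCatSheaf) T :
        (↑V₂ : Scheme.{u}).Modules) ⟶ N from φ)).hom := by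
    intro z a
    have ha : a ∈ Submodule.span (Groth.Agent.Lib.Helper1.Sky.Ox z) (Set.range fun τ =>
        gm (toPM N) z ⊤ trivial ((restrSection M V₂ V hV (t τ)).val (op ⊤))) := by
      rw [span_germ_restrSection M V₂ V hV t h z]; trivial
    have hle : Submodule.span (Groth.Agent.Lib.Helper1.Sky.Ox z) (Set.range fun τ =>
        gm (toPM N) z ⊤ trivial ((restrSection M V₂ V hV (t τ)).val (op ⊤))) ≤
        LinearMap.range ((stalkFun z).map (show (SheafOfModules.free
          (R := (↑V₂ : Scheme.{u}).ringCatSheaf) T : (↑V₂ : Scheme.{u}).Modules) ⟶ N from φ)).hom := by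
      rw [Submodule.span_le]
      rintro _ ⟨τ, rfl⟩
      refine ⟨gm (toPM (SheafOfModules.free (R := (↑V₂ : Scheme.{u}).ringCatSheaf) T :
        (↑V₂ : Scheme.{u}).Modules)) z ⊤ trivial
          ((SheafOfModules.freeSection (R := (↑V₂ : Scheme.{u}).ringCatSheaf) τ).val (op ⊤)), ?_⟩
      have h1 := SheafOfModules.sectionsMap_freeHomEquiv_symm_freeSection
        (M := N) (fun τ => restrSection M V₂ V hV (t τ)) τ
      have h2 := congrArg (fun s : N.sections => s.val (op ⊤)) h1
      refine (sm_gm (toPMMap φ) (x := z) (U := ⊤) trivial _).trans ?_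
      exact congrArg (gm (toPM N) z ⊤ trivial) h2
    exact hle ha
  exact Groth.Agent.Lib.Helper26.FpqcMod.epi_of_stalk_surjective _ key

/-- **fppf descent of finite type** for arbitrary `O`-modules: if `f` is flat, surjective and open
and `f^* M` is of finite type, then `M` is of finite type -/
theorem isFT_of_isFT_pullback {X' : Scheme.{u}} (f : X' ⟶ X) [Flat f] [Surjective f]
    (hf : IsOpenMap f) (hM : CohB1.IsFT ((Scheme.Modules.pullback f).obj M)) : CohB1.IsFT M := by
  apply Groth.Agent.Lib.T2H8.PCohFT.isFT_of_locally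
  intro x
  obtain ⟨x', rfl⟩ := f.surjective x
  obtain ⟨W, hxW, V, hWV, T, hT, t, ht⟩ := exists_generators_base f M hM x'
  let V₂ : X.Opens := ⟨f '' (W : Set X'), hf _ W.isOpen⟩
  have hV : V₂ ≤ V := by
    rintro _ ⟨y', hy', rfl⟩
    exact hWV hy'
  have hx : f x' ∈ V₂ := ⟨x', hxW, rfl⟩
  have hspan : ∀ (z : X) (hz : z ∈ V₂), Submodule.span (Groth.Agent.Lib.Helper1.Sky.Ox z)
      (Set.range fun τ => gm (toPM M) z V (hV hz) (t τ)) = ⊤ := by
    rintro _ ⟨y', hy', rfl⟩
    exact ht y' hy'
  haveI := hT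
  refine ⟨↑V₂, V₂.ι, inferInstance, ⟨f x', hx⟩, rfl,
    { I := T
      s := fun τ => restrSection M V₂ V hV (t τ)
      epi := epi_free_restrSection M V₂ V hV t hspan }, ⟨hT⟩⟩

end Groth.Agent.Lib.T2H2.FppfFT
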