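import Mathlib
import Groth.Agent.Lib.T2H2FppfFTC
import Groth.Agent.Lib.T2H2NilBoundB
import Groth.Agent.Lib.T2H2NilStalkA
set_option backward.isDefEq.respectTransparency.types false

/-!
# Finite type lifts through finite order thickenings (T2H2)

If `i : X' ⟶ X` is a finite order thickening (here: a surjective open map whose stalk maps reflect
generation, e.g. are surjective with nilpotent kernel) and `i^* M` is of finite type, then `M` is
of finite type.  The proof follows `T2H2FppfFT*`, with nilpotent Nakayama instead of faithful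
flatness.
-/

set_option autoImplicit false
set_option linter.style.haveILetI false
set_option linter.unusedSectionVars false
universe u
open CategoryTheory CategoryTheory.Limits AlgebraicGeometry TopologicalSpace Opposite
open TensorProduct

namespace Groth.Agent.Lib.T2H2.NilFT

open Groth.Agent.Lib.Helper1.PT Groth.Agent.Lib.Helper1.Sky Groth.Agent.Lib.Helper1.StalkTensor
open Groth.Agent.Lib.Helper6 Groth.Agent.Lib.T2H3.PullGen Groth.Agent.Lib.T2H2.FppfFT

variable {X' X : Scheme.{u}} (f : X' ⟶ X) (M : X.Modules)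

/-- generation of modules descends along the stalk maps of `f` -/
def GenReflect : Prop :=
  ∀ (y' : X') (N : ModuleCat.{u} (Groth.Agent.Lib.Helper1.Sky.Ox (f y'))) (T : Type u) (g : T → N),
    Submodule.span (Groth.Agent.Lib.Helper1.Sky.Ox y')
      (Set.range fun τ => oneT (f.stalkMap y').hom N (g τ)) = ⊤ →
    Submodule.span (Groth.Agent.Lib.Helper1.Sky.Ox (f y')) (Set.range g) = ⊤

open ChangeOfRings in
/-- descent of generation of stalks -/
theorem span_germ_eq_top_of_pull' (hgen : GenReflect f) (y' : X') (V : X.Opens) (hy : f y' ∈ V)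
    {T : Type u} (t : T → (toPM M).obj (op V))
    (h : Submodule.span (Groth.Agent.Lib.Helper1.Sky.Ox y') (Set.range fun τ =>
      gm (toPM ((plb f).obj M)) y' (f ⁻¹ᵁ V) hy ((toPMMap (un f M)).app (op V) (t τ))) = ⊤) :
    Submodule.span (Groth.Agent.Lib.Helper1.Sky.Ox (f y'))
      (Set.range fun τ => gm (toPM M) (f y') V hy (t τ)) = ⊤ := by
  apply hgen y' ((stalkFun (f y')).obj M) T (fun τ => gm (toPM M) (f y') V hy (t τ))
  let Ψ := ((stalkPullbackIso f y').hom.app M).hom
  have hΨ : Function.Surjective Ψ := by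
    intro b
    refine ⟨((stalkPullbackIso f y').inv.app M).hom b, ?_⟩
    have h1 := (stalkPullbackIso f y').inv_hom_id_app M
    exact congrArg (fun g => g.hom b) h1
  rw [eq_top_iff]
  intro b _
  obtain ⟨a, rfl⟩ := hΨ b
  have ha : a ∈ Submodule.span (Groth.Agent.Lib.Helper1.Sky.Ox y') (Set.range fun τ =>
      gm (toPM ((plb f).obj M)) y' (f ⁻¹ᵁ V) hy ((toPMMap (un f M)).app (op V) (t τ))) := by
    rw [h]; trivial
  have h2 := Submodule.apply_mem_span_image_of_mem_span Ψ ha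
  refine Submodule.span_mono ?_ h2
  rintro _ ⟨_, ⟨τ, rfl⟩, rfl⟩
  exact ⟨τ, (sigma_unit f y' M V hy (t τ)).symm⟩

/-- if `f^* M` is of finite type, then near the image of any point `M` is generated at all stalks
(at images of points of a neighbourhood) by finitely many sections -/
theorem exists_generators_base' (hgen : GenReflect f)
    (hM : CohB1.IsFT ((Scheme.Modules.pullback f).obj M)) (x' : X') :
    ∃ (W : X'.Opens) (_ : x' ∈ W) (V : X.Opens) (hWV : W ≤ f ⁻¹ᵁ V) (T : Type u) (_ : Finite T)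
      (t : T → (toPM M).obj (op V)), ∀ (y' : X') (hy' : y' ∈ W),
        Submodule.span (Groth.Agent.Lib.Helper1.Sky.Ox (f y'))
          (Set.range fun τ => gm (toPM M) (f y') V (hWV hy') (t τ)) = ⊤ := by
  classical
  set N := (Scheme.Modules.pullback f).obj M with hN
  obtain ⟨W₀, hx₀, I, hI, m, hm⟩ := Groth.Agent.Lib.T2H8.FTGerms.exists_generators N hM x'
  haveI := Fintype.ofFinite I
  have key := fun k : I => exists_res_mem_locSpan f M (m k) x' hx₀
  choose Wk hxWk hWk hmem using key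
  let W₁ : X'.Opens := ⟨(⋂ k, (Wk k : Set X')) ∩ (W₀ : Set X'),
    (isOpen_iInter_of_finite fun k => (Wk k).isOpen).inter W₀.isOpen⟩
  have hW₁k : ∀ k, W₁ ≤ Wk k := fun k y hy => Set.mem_iInter.1 hy.1 k
  have hxW₁ : x' ∈ W₁ := ⟨Set.mem_iInter.2 hxWk, hx₀⟩
  have hW₁₀ : W₁ ≤ W₀ := fun y hy => hy.2
  have hmem₁ : ∀ k, res N hW₁₀ (m k) ∈ locSpan f M W₁ := by
    intro k
    have h1 := res_mem_locSpan f M (hW₁k k) (hmem k)
    rwa [res_res] at h1
  have hfin := fun k => Submodule.mem_span_finite_of_mem_span (hmem₁ k)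
  choose Sk hSk hmemSk using hfin
  let 𝒯 : Finset Γ(N, W₁) := Finset.univ.biUnion Sk
  have h𝒯 : ∀ u ∈ 𝒯, u ∈ unitSet f M W₁ := by
    intro u hu
    obtain ⟨k, -, hk⟩ := Finset.mem_biUnion.1 hu
    exact hSk k hk
  let T : Type u := 𝒯
  have hT : ∀ u : T, (u : Γ(N, W₁)) ∈ unitSet f M W₁ := fun u => h𝒯 u.1 u.2
  choose Vu hVu tu htu using hT
  let V : X.Opens := ⟨⋂ u, (Vu u : Set X), isOpen_iInter_of_finite fun u => (Vu u).isOpen⟩
  have hVu' : ∀ u, V ≤ Vu u := fun u y hy => Set.mem_iInter.1 hy u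
  have hWV : W₁ ≤ f ⁻¹ᵁ V := fun y hy => Set.mem_iInter.2 fun u => hVu u hy
  let t : T → (toPM M).obj (op V) := fun u => res M (hVu' u) (tu u)
  have ht : ∀ u : T, (u : Γ(N, W₁)) = res N hWV (OmegaSh.pullSect f M V (t u)) := by
    intro u
    rw [res_pullSect_res f M V (Vu u) (hVu' u) W₁ hWV (tu u)]
    exact htu u
  refine ⟨W₁, hxW₁, V, hWV, T, inferInstance, t, fun y' hy' => ?_⟩
  apply span_germ_eq_top_of_pull' f M hgen y' V (hWV hy') t
  rw [eq_top_iff]
  intro a _
  have ha : a ∈ Submodule.span (Groth.Agent.Lib.Helper1.Sky.Ox y')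
      (Set.range fun k => gm (toPM N) y' W₀ (hW₁₀ hy') (m k)) := by
    rw [hm y' (hW₁₀ hy')]; trivial
  refine Submodule.span_le.2 ?_ ha
  rintro _ ⟨k, rfl⟩
  have h1 : gm (toPM N) y' W₀ (hW₁₀ hy') (m k) = gm (toPM N) y' W₁ hy' (res N hW₁₀ (m k)) :=
    (gm_rs (P := toPM N) (x := y') (homOfLE hW₁₀) hy' (m k)).symm
  change gm (toPM N) y' W₀ (hW₁₀ hy') (m k) ∈ Submodule.span (Groth.Agent.Lib.Helper1.Sky.Ox y') _
  rw [h1]
  have h2 : res N hW₁₀ (m k) ∈ Submodule.span Γ(X', W₁) (𝒯 : Set Γ(N, W₁)) :=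
    Submodule.span_mono (fun u hu => Finset.mem_biUnion.2 ⟨k, Finset.mem_univ k, hu⟩) (hmemSk k)
  have h3 := gm_mem_span_of_mem_span N W₁ (𝒯 : Set Γ(N, W₁)) (res N hW₁₀ (m k)) h2 y' hy'
  refine Submodule.span_mono ?_ h3
  rintro _ ⟨u, hu, rfl⟩
  refine ⟨⟨u, hu⟩, ?_⟩
  have h4 : u = res N hWV (OmegaSh.pullSect f M V (t ⟨u, hu⟩)) := ht ⟨u, hu⟩
  have h5 := gm_rs (P := toPM N) (x := y') (homOfLE hWV) hy'
    (OmegaSh.pullSect f M V (t ⟨u, hu⟩))
  exact h5.symm.trans (congrArg (gm (toPM N) y' W₁ hy') h4.symm)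

/-- finite type descends along surjective open maps whose stalk maps reflect generation -/
theorem isFT_of_isFT_pullback' [Surjective f] (hgen : GenReflect f)
    (hf : IsOpenMap f) (hM : CohB1.IsFT ((Scheme.Modules.pullback f).obj M)) : CohB1.IsFT M := by
  apply Groth.Agent.Lib.T2H8.PCohFT.isFT_of_locally
  intro x
  obtain ⟨x', rfl⟩ := f.surjective x
  obtain ⟨W, hxW, V, hWV, T, hT, t, ht⟩ := exists_generators_base' f M hgen hM x'
  let V₂ : X.Opens := ⟨f '' (W : Set X'), hf _ W.isOpen⟩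
  have hV : V₂ ≤ V := by
    rintro _ ⟨y', hy', rfl⟩
    exact hWV hy'
  have hx : f x' ∈ V₂ := ⟨x', hxW, rfl⟩
  have hspan : ∀ (z : X) (hz : z ∈ V₂), Submodule.span (Groth.Agent.Lib.Helper1.Sky.Ox z)
      (Set.range fun τ => gm (toPM M) z V (hV hz) (t τ)) = ⊤ := by
    rintro _ ⟨y', hy', rfl⟩
    exact ht y' hy'
  haveI := hT
  refine ⟨↑V₂, V₂.ι, inferInstance, ⟨f x', hx⟩, rfl,
    { I := T
      s := fun τ => restrSection M V₂ V hV (t τ)
      epi := epi_free_restrSection M V₂ V hV t hspan }, ⟨hT⟩⟩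

open Groth.Agent.Lib.T2H2.NilStalk Groth.Agent.Lib.T2H2.NilBound in
/-- stalkwise nilpotent surjections reflect generation -/
theorem genReflect_of_isNilStalk (hi : IsNilStalk f) : GenReflect f := by
  intro y' N T g h
  obtain ⟨hsurj, n, hn⟩ := hi y'
  exact span_eq_top_of_ext_nil (f.stalkMap y').hom hsurj n hn N g h

open Groth.Agent.Lib.T2H2.NilStalk in
/-- **finite type lifts through finite order thickenings** -/
theorem isFT_of_isFT_pullback_thick (hi : MoreMor.IsFiniteOrderThickening f)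
    (hM : CohB1.IsFT ((Scheme.Modules.pullback f).obj M)) : CohB1.IsFT M := by
  haveI : IsClosedImmersion f := hi.1.1
  haveI : Surjective f := hi.1.2
  have hhomeo : IsHomeomorph f :=
    isHomeomorph_iff_isEmbedding_surjective.2 ⟨f.isClosedEmbedding.isEmbedding, f.surjective⟩
  exact isFT_of_isFT_pullback' f M (genReflect_of_isNilStalk f (nilStalk_of_thick f hi))
    hhomeo.isOpenMap hM

end Groth.Agent.Lib.T2H2.NilFT
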