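import Mathlib
import Groth.Agent.Lib.Helper3FlatModelMod

/-!
# The kernel of a surjection onto a flat finitely presented module (helper3)

`finitePresentation_ker_of_flat`: let `R → B` be of finite presentation, `N`, `Q` finitely
presented `B`-modules with `Q` flat over `R`, and `π : N → Q` a surjection. Then `Ker π` is a
finitely presented `B`-module (EGA IV 11.3.9.1 in ring form). By Noetherian approximation of the
flat module `Q` (`Helper3FlatModelMod.exists_flat_module_model`).
-/

set_option autoImplicit false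
set_option linter.unusedSectionVars false
set_option linter.style.haveILetI false

namespace Groth.Agent.Lib.T2H3.KerFP

open TensorProduct

universe u

section Pullback

variable {S : Type u} [CommRing S] {F N Q : Type u} [AddCommGroup F] [AddCommGroup N]
  [AddCommGroup Q] [Module S F] [Module S N] [Module S Q]

/-- If one surjection `ρ : F → Q` from a finite projective module has finitely presented kernel,
then every surjection `π : N → Q` from a finitely presented module has finitely presented
kernel. -/
theorem finitePresentation_ker_of_exists [Module.Projective S F] [Module.Finite S F]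
    [Module.FinitePresentation S N] (ρ : F →ₗ[S] Q) (hρ : Function.Surjective ρ)
    [hK : Module.FinitePresentation S (LinearMap.ker ρ)] (π : N →ₗ[S] Q)
    (hπ : Function.Surjective π) : Module.FinitePresentation S (LinearMap.ker π) := by
  -- the fibre product `E = F ×_Q N`
  let E : Submodule S (F × N) :=
    LinearMap.eqLocus (ρ ∘ₗ LinearMap.fst S F N) (π ∘ₗ LinearMap.snd S F N)
  have hE : ∀ z : E, ρ z.1.1 = π z.1.2 := fun z => z.2
  let p₂ : E →ₗ[S] N := LinearMap.snd S F N ∘ₗ E.subtype
  let p₁ : E →ₗ[S] F := LinearMap.fst S F N ∘ₗ E.subtype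
  have hp₂ : Function.Surjective p₂ := by
    intro n
    obtain ⟨x, hx⟩ := hρ (π n)
    exact ⟨⟨(x, n), hx⟩, rfl⟩
  -- `ker p₂ ≃ ker ρ`
  let a : LinearMap.ker ρ →ₗ[S] LinearMap.ker p₂ :=
    LinearMap.codRestrict _ (LinearMap.codRestrict E (LinearMap.inl S F N ∘ₗ (LinearMap.ker ρ).subtype)
      (fun x => by
        show ρ (x : F) = π 0
        rw [map_zero]
        exact x.2)) (fun x => rfl)
  have ha : Function.Bijective a := by
    constructor
    · intro x y hxy
      have h1 := congrArg (fun z : LinearMap.ker p₂ => (z : E).1.1) hxy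
      exact Subtype.ext h1
    · intro z
      have hz2 : (z : E).1.2 = 0 := z.2
      have hz1 : ρ (z : E).1.1 = 0 := by
        rw [hE, hz2, map_zero]
      refine ⟨⟨(z : E).1.1, hz1⟩, ?_⟩
      apply Subtype.ext
      apply Subtype.ext
      exact Prod.ext rfl hz2.symm
  haveI : Module.FinitePresentation S (LinearMap.ker p₂) := by
    exact Module.FinitePresentation.of_equiv (R := S) (M := LinearMap.ker ρ)
      (N := LinearMap.ker p₂) (LinearEquiv.ofBijective a ha)
  haveI : Module.FinitePresentation S E := Module.finitePresentation_of_ker p₂ hp₂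
  -- the splitting
  obtain ⟨lam, hlam⟩ := Module.projective_lifting_property π ρ hπ
  let l : F →ₗ[S] E := LinearMap.codRestrict E (LinearMap.prod LinearMap.id lam) (fun x => by
    show ρ x = π (lam x)
    rw [← LinearMap.comp_apply, hlam])
  have hl : p₁ ∘ₗ l = LinearMap.id := by
    ext x
    rfl
  let f : LinearMap.ker π →ₗ[S] E :=
    LinearMap.codRestrict E (LinearMap.inr S F N ∘ₗ (LinearMap.ker π).subtype) (fun y => by
      show ρ 0 = π (y : N)
      rw [map_zero]
      exact y.2.symm)
  have hf : Function.Injective f := by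
    intro x y hxy
    have h1 := congrArg (fun z : E => z.1.2) hxy
    exact Subtype.ext h1
  have hex : Function.Exact f p₁ := by
    intro z
    constructor
    · intro hz
      have hz1 : (z : F × N).1 = 0 := hz
      have hz2 : π (z : F × N).2 = 0 := by
        rw [← hE, hz1, map_zero]
      refine ⟨⟨(z : F × N).2, hz2⟩, ?_⟩
      apply Subtype.ext
      exact Prod.ext hz1.symm rfl
    · rintro ⟨y, rfl⟩
      rfl
  exact Module.finitePresentation_of_split_exact f p₁ l hl hf hex

end Pullback

section Model

variable {R₀ R S₀ S : Type u} [CommRing R₀] [CommRing R] [CommRing S₀] [CommRing S]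
  [Algebra R₀ R] [Algebra R₀ S₀] [Algebra R S] [Algebra S₀ S] [Algebra R₀ S]
  [IsScalarTower R₀ R S] [IsScalarTower R₀ S₀ S]

/-- naturality of `Algebra.IsPushout.cancelBaseChange` -/
theorem lTensor_cancelBaseChange_symm {M M' : Type u} [AddCommGroup M] [Module S₀ M] [Module R₀ M]
    [IsScalarTower R₀ S₀ M] [AddCommGroup M'] [Module S₀ M'] [Module R₀ M']
    [IsScalarTower R₀ S₀ M'] [Algebra.IsPushout R₀ R S₀ S] (h : M →ₗ[S₀] M') (z : R ⊗[R₀] M) :
    h.lTensor S ((Algebra.IsPushout.cancelBaseChange R₀ R S₀ S M).symm z) =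
      (Algebra.IsPushout.cancelBaseChange R₀ R S₀ S M').symm
        ((h.restrictScalars R₀).lTensor R z) := by
  induction z using TensorProduct.induction_on with
  | zero => simp
  | tmul r m =>
    rw [Algebra.IsPushout.cancelBaseChange_symm_tmul, LinearMap.lTensor_tmul,
      LinearMap.lTensor_tmul, Algebra.IsPushout.cancelBaseChange_symm_tmul]
    rfl
  | add x y hx hy =>
    rw [map_add, map_add, hx, hy, map_add, map_add]

/-- for a surjection `g₀ : F₀ → Q₀` of `S₀`-modules with `Q₀` flat over `R₀`, the kernel stays a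
submodule after the base change `S = R ⊗ S₀`. -/
theorem lTensor_ker_subtype_injective {F₀ Q₀ : Type u} [AddCommGroup F₀] [Module S₀ F₀]
    [Module R₀ F₀] [IsScalarTower R₀ S₀ F₀] [AddCommGroup Q₀] [Module S₀ Q₀] [Module R₀ Q₀]
    [IsScalarTower R₀ S₀ Q₀] [Module.Flat R₀ Q₀] (hpo : Algebra.IsPushout R₀ R S₀ S)
    (g₀ : F₀ →ₗ[S₀] Q₀) (hg₀ : Function.Surjective g₀) :
    Function.Injective ((LinearMap.ker g₀).subtype.lTensor S) := by
  have hinj : Function.Injective (((LinearMap.ker g₀).subtype.restrictScalars R₀).lTensor R) :=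
    LinearMap.lTensor_injective_of_exact_of_flat (g₀.restrictScalars R₀) hg₀
      ((LinearMap.ker g₀).subtype.restrictScalars R₀) Subtype.val_injective
      (LinearMap.exact_subtype_ker_map g₀) R
  intro x y hxy
  obtain ⟨x', rfl⟩ := (Algebra.IsPushout.cancelBaseChange R₀ R S₀ S (LinearMap.ker g₀)).symm.surjective x
  obtain ⟨y', rfl⟩ := (Algebra.IsPushout.cancelBaseChange R₀ R S₀ S (LinearMap.ker g₀)).symm.surjective y
  rw [lTensor_cancelBaseChange_symm, lTensor_cancelBaseChange_symm] at hxy
  rw [hinj ((Algebra.IsPushout.cancelBaseChange R₀ R S₀ S F₀).symm.injective hxy)]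

theorem exists_surjective_finitePresentation_ker [IsNoetherianRing S₀]
    (hpo : Algebra.IsPushout R₀ R S₀ S)
    {Q₀ Q : Type u} [AddCommGroup Q₀] [Module S₀ Q₀] [Module R₀ Q₀] [IsScalarTower R₀ S₀ Q₀]
    [Module.Finite S₀ Q₀] [Module.Flat R₀ Q₀]
    [AddCommGroup Q] [Module S Q] [Module S₀ Q] [IsScalarTower S₀ S Q]
    (f : Q₀ →ₗ[S₀] Q) (hf : IsBaseChange S f) :
    ∃ (F : Type u) (_ : AddCommGroup F) (_ : Module S F) (_ : Module.Free S F)
      (_ : Module.Finite S F) (ρ : F →ₗ[S] Q), Function.Surjective ρ ∧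
        Module.FinitePresentation S (LinearMap.ker ρ) := by
  obtain ⟨k, g₀, hg₀⟩ := Module.Finite.exists_fin' S₀ Q₀
  haveI : Module.FinitePresentation S₀ (LinearMap.ker g₀) := Module.finitePresentation_of_finite _ _
  let g' : S ⊗[S₀] (Fin k → S₀) →ₗ[S] S ⊗[S₀] Q₀ := g₀.baseChange S
  let j : S ⊗[S₀] (LinearMap.ker g₀) →ₗ[S] S ⊗[S₀] (Fin k → S₀) :=
    (LinearMap.ker g₀).subtype.baseChange S
  have hj : Function.Injective j := lTensor_ker_subtype_injective hpo g₀ hg₀
  have hex : Function.Exact j g' :=
    lTensor_exact S (LinearMap.exact_subtype_ker_map g₀) hg₀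
  have hg' : Function.Surjective g' := LinearMap.lTensor_surjective S hg₀
  let ρ : S ⊗[S₀] (Fin k → S₀) →ₗ[S] Q := hf.equiv.toLinearMap ∘ₗ g'
  have hker : LinearMap.ker ρ = LinearMap.range j := by
    rw [LinearEquiv.ker_comp]
    exact LinearMap.exact_iff.mp hex
  refine ⟨S ⊗[S₀] (Fin k → S₀), inferInstance, inferInstance, inferInstance, inferInstance, ρ,
    hf.equiv.surjective.comp hg', ?_⟩
  exact Module.FinitePresentation.of_equiv (R := S) (M := S ⊗[S₀] (LinearMap.ker g₀))
    (N := LinearMap.ker ρ) ((LinearEquiv.ofInjective j hj).trans (LinearEquiv.ofEq _ _ hker.symm))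

end Model

open Groth.Agent.Lib.Helper3.FlatModelMod in
/-- **EGA IV 11.3.9.1, ring form**: the kernel of a surjection from a finitely presented module
onto a finitely presented module which is flat over the base (`B` of finite presentation over
`R`) is finitely presented. -/
theorem finitePresentation_ker_of_flat (R B : Type u) [CommRing R] [CommRing B] [Algebra R B]
    [Algebra.FinitePresentation R B] {N Q : Type u} [AddCommGroup N] [Module B N]
    [Module.FinitePresentation B N] [AddCommGroup Q] [Module B Q] [Module R Q]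
    [IsScalarTower R B Q] [Module.FinitePresentation B Q] [Module.Flat R Q]
    (π : N →ₗ[B] Q) (hπ : Function.Surjective π) :
    Module.FinitePresentation B (LinearMap.ker π) := by
  obtain ⟨R₀, _, _, S₀, _, _, _, _, _, _, Q₀, _, _, _, _, _, _, f, hR₀, hS₀, hQ₀fin, hQ₀flat,
    hpo, hf⟩ := exists_flat_module_model R B Q
  haveI : IsNoetherianRing R₀ := Algebra.FiniteType.isNoetherianRing ℤ R₀
  haveI : IsNoetherianRing S₀ := Algebra.FiniteType.isNoetherianRing R₀ S₀
  obtain ⟨F, _, _, _, _, ρ, hρ, hK⟩ := exists_surjective_finitePresentation_ker hpo f hf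
  exact finitePresentation_ker_of_exists ρ hρ π hπ

end Groth.Agent.Lib.T2H3.KerFP
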