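import Mathlib
import Groth.Agent.Lib.T2H3KerFP
import Groth.Agent.Lib.Helper18Strict7
import Groth.Agent.Lib.Helper2FlatOver

/-!
# EGA IV 11.3.9.1: the kernel of an epimorphism onto an `f`-flat finitely presented module (helper3)
-/

set_option autoImplicit false
set_option linter.style.haveILetI false
universe u
open CategoryTheory CategoryTheory.Limits AlgebraicGeometry TopologicalSpace Opposite
open Groth.Agent.Lib.Helper2.FPAff Groth.Agent.Helper18Fitt Groth.Agent.Helper18FittSh
open Groth.Agent.Helper18Strict Groth.Agent.Lib.Helper2.FlatOver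
open Groth.Agent.Lib.Helper23.QCohLocal

namespace Groth.Agent.Lib.T2H3.KerFPSch

theorem isFP_kernel_of_isFlatOver {X Y : Scheme.{u}} (f : X ⟶ Y) [LocallyOfFinitePresentation f]
    (G H : X.Modules) [G.IsQuasicoherent] [H.IsQuasicoherent]
    [SheafOfModules.IsFinitePresentation (R := X.ringCatSheaf) G]
    [SheafOfModules.IsFinitePresentation (R := X.ringCatSheaf) H]
    (hflat : FlatMod.IsFlatOver f H) (p : G ⟶ H) [Epi p] :
    SheafOfModules.IsFinitePresentation (R := X.ringCatSheaf) (kernel p) := by
  haveI : (kernel p).IsQuasicoherent := isQuasicoherent_kernel p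
  have key : ∀ x : X, ∃ W : X.Opens, IsAffineOpen W ∧ x ∈ W ∧
      Module.FinitePresentation Γ(X, W) Γ(kernel p, W) := by
    intro x
    obtain ⟨V, hV, hfxV, -⟩ := exists_isAffineOpen_mem_and_subset (x := f x) (U := ⊤) trivial
    obtain ⟨W, hW, hxW, e⟩ := exists_isAffineOpen_mem_and_subset (x := x) (U := f ⁻¹ᵁ V) hfxV
    refine ⟨W, hW, hxW, ?_⟩
    have hsurj : Function.Surjective (appₗ p W) :=
      Groth.Agent.Lib.Helper23.FinType.surjective_app_of_epi p hW
    letI : Algebra Γ(Y, V) Γ(X, W) := (f.appLE V W e).hom.toAlgebra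
    haveI : Algebra.FinitePresentation Γ(Y, V) Γ(X, W) := f.finitePresentation_appLE hV hW e
    letI : Module Γ(Y, V) Γ(H, W) := Module.compHom Γ(H, W) (f.appLE V W e).hom
    haveI : IsScalarTower Γ(Y, V) Γ(X, W) Γ(H, W) :=
      ⟨fun a b m => by
        show (a • b) • m = (f.appLE V W e).hom a • (b • m)
        rw [Algebra.smul_def, mul_smul]
        rfl⟩
    haveI : Module.Flat Γ(Y, V) Γ(H, W) :=
      flat_sections_of_isFlatOverAt f H hW hV e (fun x _ => hflat x)
    haveI : Module.FinitePresentation Γ(X, W) Γ(G, W) := finitePresentation_sections G hW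
    haveI : Module.FinitePresentation Γ(X, W) Γ(H, W) := finitePresentation_sections H hW
    have hfp := Groth.Agent.Lib.T2H3.KerFP.finitePresentation_ker_of_flat Γ(Y, V) Γ(X, W)
      (appₗ p W) hsurj
    obtain ⟨ε⟩ := nonempty_kernel_sections_equiv p W
    exact Module.FinitePresentation.of_equiv ε.symm
  choose W hW hxW hfp using key
  refine Groth.Agent.Lib.Helper2.FinPushFP.isFinitePresentation_of_finitePresentation_sections
    (kernel p) W ?_ hW hfp
  rw [IsOpenCover, eq_top_iff]
  intro x _
  exact Opens.mem_iSup.2 ⟨x, hxW x⟩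

end Groth.Agent.Lib.T2H3.KerFPSch
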