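import Mathlib
import Groth.Prelude.Def_DCoh2
import Groth.Prelude.Def_CxOX
import Groth.Agent.Lib.Helper23FinTypeLocal
import Groth.Agent.Lib.T2H8PCohFT

/-!
# A module placed in degree `0` is `0`-pseudo-coherent iff of finite type, `(-1)`-pseudo-coherent iff
of finite presentation
-/

set_option autoImplicit false
universe u
open CategoryTheory CategoryTheory.Limits AlgebraicGeometry

namespace Groth.Agent.Lib.T2H8.PCohSingle

open Groth.Agent.Lib.T2H8.SchLocHtpy Groth.Agent.Lib.T2H8.PerfLocal
  Groth.Agent.Lib.Helper20.LocFree Groth.Agent.Lib.T2H8.PCohFT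

section Abstract

variable {C : Type*} [Category C] [Abelian C]

/-- a map from a complex concentrated in degrees `≤ 0` to a single object in degree `0` is a
quasi-isomorphism in degree `0` as soon as it exhibits the object as the cokernel of `d^{-1}` -/
lemma quasiIsoAt_toSingle (K : CochainComplex C ℤ) (N : C)
    (φ : K ⟶ (HomologicalComplex.single C (ComplexShape.up ℤ) 0).obj N)
    (hd : K.d 0 1 = 0) (w : K.d (-1) 0 ≫ φ.f 0 = 0)
    (hex : (ShortComplex.mk (K.d (-1) 0) (φ.f 0) w).Exact) (hepi : Epi (φ.f 0)) :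
    QuasiIsoAt φ 0 := by
  obtain ⟨hc⟩ := (ShortComplex.exact_and_epi_g_iff_g_is_cokernel _).1 ⟨hex, hepi⟩
  rw [quasiIsoAt_iff' φ (-1) 0 1 (by simp) (by simp)]
  let L := (HomologicalComplex.single C (ComplexShape.up ℤ) 0).obj N
  let ψ := (HomologicalComplex.shortComplexFunctor' C (ComplexShape.up ℤ) (-1) 0 1).map φ
  have hf₂ : (L.sc' (-1) 0 1).f = 0 := rfl
  have hg₂ : (L.sc' (-1) 0 1).g = 0 := rfl
  let γ := ShortComplex.LeftHomologyMapData.ofIsColimitCokernelCofork ψ hd
    (CokernelCofork.ofπ (φ.f 0) w) hc hg₂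
    (CokernelCofork.ofπ (𝟙 (L.X 0)) (by rw [hf₂, zero_comp]))
    (CokernelCofork.IsColimit.ofId _ hf₂) (𝟙 _) rfl
  rw [γ.quasiIso_iff]
  exact inferInstanceAs (IsIso (𝟙 (L.X 0)))

end Abstract

section Theta

open DerivedCategory

attribute [local instance] HasDerivedCategory.standard

variable {X : Scheme.{u}}

/-- the comparison isomorphism between the restriction of a representing complex of `F[0]` and
`(F|_V)[0]` -/
noncomputable def thetaIso (V : X.Opens) (F : X.Modules) (F' : CochainComplex X.Modules ℤ)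
    (eF : DCoh.toD X F' ≅ DCoh.inD X F) :
    DerivedCategory.Q.obj ((HomologicalComplex.single (V : Scheme.{u}).Modules (ComplexShape.up ℤ) 0).obj
      ((Scheme.Modules.restrictFunctor V.ι).obj F)) ≅
      DerivedCategory.Q.obj ((DCoh.restrictCx V).obj F') :=
  DerivedCategory.Q.mapIso ((HomologicalComplex.singleMapHomologicalComplex
      (Scheme.Modules.restrictFunctor V.ι) (ComplexShape.up ℤ) 0).app F).symm ≪≫
    ((Scheme.Modules.restrictFunctor V.ι).mapDerivedCategoryFactors.app
      ((HomologicalComplex.single X.Modules (ComplexShape.up ℤ) 0).obj F)).symm ≪≫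
    (rD V.ι).mapIso (((DerivedCategory.singleFunctorIsoCompQ X.Modules 0).app F).symm ≪≫ eF.symm) ≪≫
    (Scheme.Modules.restrictFunctor V.ι).mapDerivedCategoryFactors.app F'

/-- a chain map to `(F|_V)[0]` gives a map in `D(O_V)` to the restriction of any representing complex,
with the same behaviour on cohomology -/
lemma exists_alpha (V : X.Opens) (F : X.Modules) (F' : CochainComplex X.Modules ℤ)
    (eF : DCoh.toD X F' ≅ DCoh.inD X F) (E : CochainComplex (V : Scheme.{u}).Modules ℤ)
    (φ : E ⟶ (HomologicalComplex.single (V : Scheme.{u}).Modules (ComplexShape.up ℤ) 0).obj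
      ((Scheme.Modules.restrictFunctor V.ι).obj F)) :
    ∃ α : DerivedCategory.Q.obj E ⟶ DerivedCategory.Q.obj ((DCoh.restrictCx V).obj F'),
      ∀ i : ℤ, (IsIso (HomologicalComplex.homologyMap φ i) →
          IsIso ((DerivedCategory.homologyFunctor _ i).map α)) ∧
        (Epi (HomologicalComplex.homologyMap φ i) →
          Epi ((DerivedCategory.homologyFunctor _ i).map α)) := by
  refine ⟨DerivedCategory.Q.map φ ≫ (thetaIso V F F' eF).hom, fun i => ?_⟩
  have h1 := NatIso.naturality_2 (DerivedCategory.homologyFunctorFactors (V : Scheme.{u}).Modules i) φ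
  rw [Functor.map_comp]
  constructor
  · intro h
    haveI : IsIso ((DerivedCategory.homologyFunctor _ i).map (DerivedCategory.Q.map φ)) :=
      (NatIso.isIso_map_iff (DerivedCategory.homologyFunctorFactors (V : Scheme.{u}).Modules i) φ).2 h
    infer_instance
  · intro h
    haveI : Epi ((DerivedCategory.homologyFunctor _ i).map (DerivedCategory.Q.map φ)) := by
      change Epi ((DerivedCategory.Q ⋙ DerivedCategory.homologyFunctor _ i).map φ)
      rw [← h1]
      have h2 : Epi ((HomologicalComplex.homologyFunctor _ _ i).map φ) := h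
      infer_instance
    infer_instance

end Theta

section Local

open Groth.Agent.Lib.Helper23.FinType Groth.Agent.Lib.Helper2.FinPres

variable {X : Scheme.{u}}

/-- a free module on a finite index type is finite locally free -/
lemma isFinLocFree_free (Y : Scheme.{u}) (I : Type u) [Finite I] :
    FlatMod.IsFinLocFree (SheafOfModules.free (R := Y.ringCatSheaf) I : Y.Modules) := by
  let e : I ≃ Fin (Nat.card I) := Finite.equivFin I
  exact Groth.Agent.Lib.Helper2.LocFree.isFinLocFree_of_iso_freeMod _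
    (Sigma.whiskerEquiv (f := fun _ : I => SheafOfModules.unit Y.ringCatSheaf)
      (g := fun _ : Fin (Nat.card I) => Coh.structureModule Y) e (fun _ => Iso.refl _))

/-- a finite type module is locally a quotient of a finite locally free module -/
lemma exists_epi_of_isFT (M : X.Modules) (hM : CohB1.IsFT M) (x : X) :
    ∃ (V : X.Opens) (P : (V : Scheme.{u}).Modules) (π : P ⟶ M.restrict V.ι),
      x ∈ V ∧ FlatMod.IsFinLocFree P ∧ Epi π := by
  haveI : SheafOfModules.IsFiniteType (R := X.ringCatSheaf) M := hM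
  obtain ⟨ι, U, G, hG, hU, -⟩ := exists_isOpenCover_generatingSections M
  have hx : x ∈ (⨆ i, U i : X.Opens) := by rw [hU.iSup_eq_top]; trivial
  obtain ⟨i, hxi⟩ := TopologicalSpace.Opens.mem_iSup.1 hx
  haveI := (hG i).finite
  exact ⟨U i, _, (G i).π, hxi, isFinLocFree_free _ (G i).I, (G i).epi⟩

/-- a finitely presented module is locally the cokernel of a map of finite locally free modules -/
lemma exists_pres_of_isFP (M : X.Modules) (hM : CohB1.IsFP M) (x : X) :
    ∃ (V : X.Opens) (P₁ P₀ : (V : Scheme.{u}).Modules) (f : P₁ ⟶ P₀) (π : P₀ ⟶ M.restrict V.ι)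
      (w : f ≫ π = 0), x ∈ V ∧ FlatMod.IsFinLocFree P₁ ∧ FlatMod.IsFinLocFree P₀ ∧
        (ShortComplex.mk f π w).Exact ∧ Epi π := by
  haveI : SheafOfModules.IsFinitePresentation (R := X.ringCatSheaf) M := hM
  obtain ⟨ι, U, P, hP, hU, -⟩ := exists_isOpenCover_presentation_isFinite M
  have hx : x ∈ (⨆ i, U i : X.Opens) := by rw [hU.iSup_eq_top]; trivial
  obtain ⟨i, hxi⟩ := TopologicalSpace.Opens.mem_iSup.1 hx
  haveI := (hP i).isFiniteType_generators.finite
  haveI := (hP i).isFiniteType_relations.finite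
  let f := (SheafOfModules.freeHomEquiv _).symm (P i).relations.s ≫ kernel.ι (P i).generators.π
  have w : f ≫ (P i).generators.π = 0 := by simp [f]
  have hc : IsColimit (CokernelCofork.ofπ (P i).generators.π w) := (P i).isColimit
  refine ⟨U i, _, _, f, (P i).generators.π, w, hxi, isFinLocFree_free _ (P i).relations.I,
    isFinLocFree_free _ (P i).generators.I, ?_⟩
  exact (ShortComplex.exact_and_epi_g_iff_g_is_cokernel _).2 ⟨hc⟩

end Local

section Main

open DerivedCategory

attribute [local instance] HasDerivedCategory.standard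

variable {X : Scheme.{u}}

lemma isIso_of_isZero {C : Type*} [Category C] [HasZeroMorphisms C] {A B : C} (f : A ⟶ B)
    (hA : IsZero A) (hB : IsZero B) : IsIso f :=
  ⟨⟨0, hA.eq_of_src _ _, hB.eq_of_src _ _⟩⟩

/-- finite type ⇒ `0`-pseudo-coherent -/
theorem isPseudoCoherentD_zero_of_isFT (F : X.Modules) (hF : CohB1.IsFT F) :
    DCoh.IsPseudoCoherentD 0 (DCoh.inD X F) := by
  intro x
  obtain ⟨V, P, π, hxV, hP, hπ⟩ := exists_epi_of_isFT F hF x
  refine ⟨V, hxV, fun F' ⟨eF⟩ => ?_⟩
  let E := (HomologicalComplex.single (V : Scheme.{u}).Modules (ComplexShape.up ℤ) 0).obj P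
  let φ := (HomologicalComplex.single (V : Scheme.{u}).Modules (ComplexShape.up ℤ) 0).map π
  obtain ⟨α, hα⟩ := exists_alpha V F F' eF E φ
  refine ⟨E, α, ⟨⟨0, 0, fun i hi => ?_⟩, fun i => ?_⟩, fun i hi => (hα i).1 ?_, (hα 0).2 ?_⟩
  · exact HomologicalComplex.isZero_single_obj_X _ _ _ _ (by omega)
  · by_cases hi : i = 0
    · subst hi
      exact isFinLocFree_of_iso (HomologicalComplex.singleObjXSelf (ComplexShape.up ℤ) 0 P).symm hP
    · exact isFinLocFree_of_isZero (HomologicalComplex.isZero_single_obj_X _ _ _ _ hi)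
  · exact isIso_of_isZero _
      (HomologicalComplex.isZero_single_obj_homology _ _ _ _ (by omega))
      (HomologicalComplex.isZero_single_obj_homology _ _ _ _ (by omega))
  · have h1 := HomologicalComplex.singleObjHomologySelfIso_hom_naturality
      (ComplexShape.up ℤ) 0 π
    have h2 : HomologicalComplex.homologyMap φ 0 =
        (HomologicalComplex.singleObjHomologySelfIso (ComplexShape.up ℤ) 0 P).hom ≫ π ≫
          (HomologicalComplex.singleObjHomologySelfIso (ComplexShape.up ℤ) 0 _).inv := by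
      rw [← reassoc_of% h1]
      simp
      rfl
    rw [h2]
    infer_instance

/-- finite presentation ⇒ `(-1)`-pseudo-coherent -/
theorem isPseudoCoherentD_neg_one_of_isFP (F : X.Modules) (hF : CohB1.IsFP F) :
    DCoh.IsPseudoCoherentD (-1) (DCoh.inD X F) := by
  intro x
  obtain ⟨V, P₁, P₀, f, π, w, hxV, h₁, h₀, hex, hπ⟩ := exists_pres_of_isFP F hF x
  refine ⟨V, hxV, fun F' ⟨eF⟩ => ?_⟩
  have hrel : (ComplexShape.up ℤ).Rel (-1) 0 := by simp
  have hne : (-1 : ℤ) ≠ 0 := by omega
  let E : CochainComplex (V : Scheme.{u}).Modules ℤ := HomologicalComplex.double f hrel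
  let i₀ : E.X (-1) ≅ P₁ := HomologicalComplex.doubleXIso₀ f hrel
  let i₁ : E.X 0 ≅ P₀ := HomologicalComplex.doubleXIso₁ f hrel hne
  have hd : E.d (-1) 0 = i₀.hom ≫ f ≫ i₁.inv := HomologicalComplex.double_d f hrel hne
  have hφ : ∀ i : ℤ, (ComplexShape.up ℤ).Rel i 0 → E.d i 0 ≫ (i₁.hom ≫ π) = 0 := by
    intro i hi
    obtain rfl : i = -1 := by simp at hi; omega
    rw [hd]
    simp [w]
  let φ : E ⟶ (HomologicalComplex.single (V : Scheme.{u}).Modules (ComplexShape.up ℤ) 0).obj
      ((Scheme.Modules.restrictFunctor V.ι).obj F) := HomologicalComplex.mkHomToSingle (i₁.hom ≫ π) hφ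
  have hφ0 : φ.f 0 = (i₁.hom ≫ π) ≫
      (HomologicalComplex.singleObjXSelf (ComplexShape.up ℤ) 0 _).inv :=
    HomologicalComplex.mkHomToSingle_f _ _
  obtain ⟨α, hα⟩ := exists_alpha V F F' eF E φ
  have hEz : ∀ k : ℤ, k ≠ -1 → k ≠ 0 → IsZero (E.X k) := fun k hk1 hk0 =>
    HomologicalComplex.isZero_double_X f hrel k hk1 hk0
  refine ⟨E, α, ⟨⟨-1, 0, fun i hi => hEz i (by omega) (by omega)⟩, fun i => ?_⟩,
    fun i hi => (hα i).1 ?_, (hα (-1)).2 ?_⟩
  · by_cases hi1 : i = -1
    · subst hi1
      exact isFinLocFree_of_iso i₀.symm h₁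
    · by_cases hi0 : i = 0
      · subst hi0
        exact isFinLocFree_of_iso i₁.symm h₀
      · exact isFinLocFree_of_isZero (hEz i hi1 hi0)
  · by_cases hi0 : i = 0
    · subst hi0
      rw [← quasiIsoAt_iff_isIso_homologyMap]
      have w' : E.d (-1) 0 ≫ φ.f 0 = 0 := by
        rw [hφ0, ← Category.assoc, hφ (-1) hrel, zero_comp]
      refine quasiIsoAt_toSingle E _ φ
        (HomologicalComplex.double_d_eq_zero₀ f hrel 0 1 (by omega)) w' ?_ ?_
      · refine ShortComplex.exact_of_iso (ShortComplex.isoMk i₀.symm i₁.symm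
          (HomologicalComplex.singleObjXSelf (ComplexShape.up ℤ) 0 _).symm ?_ ?_) hex
        · dsimp
          rw [hd]
          simp
        · dsimp
          rw [hφ0]
          simp
      · rw [hφ0]
        infer_instance
    · exact isIso_of_isZero _
        ((HomologicalComplex.exactAt_iff_isZero_homology _ _).1
          (ShortComplex.exact_of_isZero_X₂ _ (hEz i (by omega) hi0)))
        (HomologicalComplex.isZero_single_obj_homology _ _ _ _ hi0)
  · exact (HomologicalComplex.isZero_single_obj_homology _ _ _ _ (by omega)).epi _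

theorem main_S6518 {X : Scheme.{u}} (F : X.Modules) :
    (DCoh.IsPseudoCoherentD 0 (DCoh.inD X F) ↔ CohB1.IsFT F) ∧
    (DCoh.IsPseudoCoherentD (-1) (DCoh.inD X F) ↔ CohB1.IsFP F) := by
  have hz : ∀ i : ℤ, 0 < i → IsZero (DCoh.HD (DCoh.inD X F) i) := fun i hi =>
    DerivedCategory.isZero_of_isLE _ 0 i hi
  let e0 : DCoh.HD (DCoh.inD X F) 0 ≅ F :=
    (DerivedCategory.singleFunctorCompHomologyFunctorIso X.Modules 0).app F
  refine ⟨⟨fun h => ?_, isPseudoCoherentD_zero_of_isFT F⟩,
    ⟨fun h => ?_, isPseudoCoherentD_neg_one_of_isFP F⟩⟩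
  · haveI : SheafOfModules.IsFiniteType (R := X.ringCatSheaf) (DCoh.HD (DCoh.inD X F) 0) :=
      (main_S0890 0 _ h).1 hz
    exact Groth.Agent.Lib.Helper23.FinType.isFiniteType_of_iso e0
  · have h1 := (main_S0890 (-1) _ h).2 (fun i hi => hz i (by omega))
    exact (SheafOfModules.isFinitePresentation X.ringCatSheaf).prop_of_iso e0 h1

end Main

end Groth.Agent.Lib.T2H8.PCohSingle
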