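import Mathlib
import Groth.Agent.Lib.T2H2NilFPB
import Groth.Agent.Lib.T2H2NilFT
import Groth.Agent.Lib.T2H3KerFPSch
import Groth.Agent.Lib.T2H8PCohSingle
import Groth.Agent.Lib.T2H8PCohFT
import Groth.Agent.Lib.T2H1TorAmpRestrict
import Groth.Agent.Lib.Helper23FinType2
import Groth.Agent.Lib.Helper1Sky9
set_option backward.isDefEq.respectTransparency.types false

/-!
# Finite presentation lifts through thickenings of the base, for modules flat over the base (T2H2)
-/

set_option autoImplicit false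
set_option linter.style.haveILetI false
universe u
open CategoryTheory CategoryTheory.Limits AlgebraicGeometry TopologicalSpace Opposite

namespace Groth.Agent.Lib.T2H2.NilFP

open Groth.Agent.Lib.Helper2.FPAff Groth.Agent.Helper18Fitt Groth.Agent.Helper18FittSh
open Groth.Agent.Helper18Strict Groth.Agent.Lib.Helper23.QCohLocal
  Groth.Agent.Lib.Helper23.FinType

section Ker

variable {Y : Scheme.{u}}

/-- the kernel of an epimorphism from a finite type module onto a finitely presented module,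
both quasi-coherent, is of finite type -/
theorem isFT_kernel_of_epi_of_isFP (G H : Y.Modules) [G.IsQuasicoherent] [H.IsQuasicoherent]
    (hG : CohB1.IsFT G) (hH : CohB1.IsFP H) (p : G ⟶ H) [Epi p] : CohB1.IsFT (kernel p) := by
  haveI : (kernel p).IsQuasicoherent := isQuasicoherent_kernel p
  haveI : SheafOfModules.IsFinitePresentation (R := Y.ringCatSheaf) H := hH
  have key : ∀ W : Y.affineOpens, Module.Finite Γ(Y, W.1) Γ(kernel p, W.1) := by
    intro W
    have hsurj : Function.Surjective (appₗ p W.1) := surjective_app_of_epi p W.2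
    haveI : Module.Finite Γ(Y, W.1) Γ(G, W.1) := finite_sections G hG W
    haveI : Module.FinitePresentation Γ(Y, W.1) Γ(H, W.1) := finitePresentation_sections H W.2
    have hfg : (LinearMap.ker (appₗ p W.1)).FG :=
      Module.FinitePresentation.fg_ker (appₗ p W.1) hsurj
    haveI : Module.Finite Γ(Y, W.1) (LinearMap.ker (appₗ p W.1)) :=
      Module.Finite.iff_fg.2 hfg
    obtain ⟨ε⟩ := nonempty_kernel_sections_equiv p W.1
    exact Module.Finite.equiv ε.symm
  refine isFiniteType_of_finite_ΓU (kernel p) (fun W : Y.affineOpens => W.1) ?_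
    (fun W => W.2) (fun W => (finite_ΓU_iff _ W.2).2 (key W))
  rw [IsOpenCover, eq_top_iff]
  intro x _
  obtain ⟨W, hW, hxW, -⟩ := Opens.isBasis_iff_nbhd.mp Y.isBasis_affineOpens (Opens.mem_top x)
  exact Opens.mem_iSup.2 ⟨⟨W, hW⟩, hxW⟩

end Ker

section Restrict

open Groth.Agent.Lib.T2H1.TorAmpRestrict Groth.Agent.Lib.T2H2.TorAmpComp

variable {U X Y : Scheme.{u}}

/-- flatness over the base restricts to open subschemes (no quasi-coherence needed) -/
theorem isFlatOver_restrict (j : U ⟶ X) [IsOpenImmersion j] (f : X ⟶ Y) (M : X.Modules)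
    (h : FlatMod.IsFlatOver f M) : FlatMod.IsFlatOver (j ≫ f) (M.restrict j) := by
  intro u
  have h1 : Module.Flat (Y.presheaf.stalk ((j ≫ f).base u))
      ((DerSch.stalkFunctor X (j u) ⋙ ModuleCat.restrictScalars.{u} (phi j f u)).obj M) :=
    h (j u)
  have e := (restrictStalkOverIso j f u).app M
  have h2 : Module.Flat (Y.presheaf.stalk ((j ≫ f).base u))
      ((Scheme.Modules.restrictFunctor j ⋙ DerSch.stalkOver (j ≫ f) u).obj M) :=
    Module.Flat.of_linearEquiv e.toLinearEquiv
  exact h2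

end Restrict

section Main

open Groth.Agent.Lib.T2H2.NilFT Groth.Agent.Lib.T2H2.NilStalk Groth.Agent.Lib.T2H8.PCohFT
  Groth.Agent.Lib.T2H8.PCohSingle

variable {X X' T T' : Scheme.{u}} (i : X ⟶ X') (q : X ⟶ T) (q' : X' ⟶ T') (t : T ⟶ T')

/-- pullback along the restriction of `i` to an open, of a restriction -/
noncomputable def pullbackRestrictIso (V : X'.Opens) (F' : X'.Modules) :
    (Scheme.Modules.pullback (i ∣_ V)).obj (F'.restrict V.ι) ≅
      (Scheme.Modules.pullback (i ⁻¹ᵁ V).ι).obj ((Scheme.Modules.pullback i).obj F') :=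
  (Scheme.Modules.pullback (i ∣_ V)).mapIso
      ((Scheme.Modules.restrictFunctorIsoPullback V.ι).app F') ≪≫
    (Scheme.Modules.pullbackComp (i ∣_ V) V.ι).app F' ≪≫
    (Scheme.Modules.pullbackCongr (morphismRestrict_ι i V)).app F' ≪≫
    ((Scheme.Modules.pullbackComp (i ⁻¹ᵁ V).ι i).app F').symm

set_option maxHeartbeats 1600000 in
/-- the kernel of a local epimorphism from a finite locally free module is of finite type -/
theorem isFT_kernel_of_local_epi (hsq : IsPullback i q q' t)
    (ht : MoreMor.IsFiniteOrderThickening t) (F' : X'.Modules)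
    (hF' : FlatMod.IsFlatOver q' F')
    (h : CohB1.IsFP ((Scheme.Modules.pullback i).obj F')) (V : X'.Opens)
    (P : (V : Scheme.{u}).Modules) (hP : FlatMod.IsFinLocFree P) (π : P ⟶ F'.restrict V.ι)
    [Epi π] : CohB1.IsFT (kernel π) := by
  haveI : IsClosedImmersion t := ht.1.1
  have hi : MoreMor.IsFiniteOrderThickening i :=
    Groth.Agent.Lib.Helper2.Thick.fthick_baseChange i t q q' ht hsq
  have hiV : MoreMor.IsFiniteOrderThickening (i ∣_ V) := thick_restrict i hi V
  have hsqV : IsPullback (i ∣_ V) ((i ⁻¹ᵁ V).ι ≫ q) (V.ι ≫ q') t :=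
    (isPullback_morphismRestrict i V).paste_vert hsq
  let S : ShortComplex (V : Scheme.{u}).Modules :=
    ShortComplex.mk (kernel.ι π) π (kernel.condition π)
  have hS : S.ShortExact :=
    { exact := ShortComplex.exact_kernel π
      mono_f := inferInstanceAs (Mono (kernel.ι π))
      epi_g := inferInstanceAs (Epi π) }
  have hflV : FlatMod.IsFlatOver (V.ι ≫ q') (F'.restrict V.ι) :=
    isFlatOver_restrict V.ι q' F' hF'
  let pb := Scheme.Modules.pullback (i ∣_ V)
  haveI hmono : Mono (pb.map (kernel.ι π)) :=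
    mono_pullback_map_of_isFlatOver (i ∣_ V) _ _ t hsqV S hS hflV
  have hex : (S.map pb).Exact :=
    hS.exact.map_of_epi_of_preservesCokernel pb (inferInstanceAs (Epi π)) inferInstance
  haveI : Mono (S.map pb).f := hmono
  let eK : pb.obj (kernel π) ≅ kernel (pb.map π) :=
    IsLimit.conePointUniqueUpToIso hex.fIsKernel (limit.isLimit _)
  have hG : FlatMod.IsFinLocFree (pb.obj P) :=
    Groth.Agent.Lib.Helper1.Sky.isFinLocFree_pullback (i ∣_ V) P hP
  haveI : (pb.obj P).IsQuasicoherent :=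
    Groth.Agent.Lib.T2H8.PCohQCoh.isQCoh_of_isFinLocFree _ hG
  have hGFT : CohB1.IsFT (pb.obj P) :=
    isFT_of_isFP _ (Groth.Agent.Lib.Helper2.LocFree.isFP_of_isFinLocFree _ hG)
  have hH : CohB1.IsFP (pb.obj (F'.restrict V.ι)) :=
    (SheafOfModules.isFinitePresentation (i ⁻¹ᵁ V : Scheme.{u}).ringCatSheaf).prop_of_iso
      (pullbackRestrictIso i V F').symm (isFP_pullback (i ⁻¹ᵁ V).ι _ h)
  haveI : (pb.obj (F'.restrict V.ι)).IsQuasicoherent := isQCoh_of_isFP _ hH
  haveI : Epi (pb.map π) := pb.map_epi π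
  have hK1 : CohB1.IsFT (kernel (pb.map π)) :=
    isFT_kernel_of_epi_of_isFP _ _ hGFT hH (pb.map π)
  have hK2 : CohB1.IsFT (pb.obj (kernel π)) := by
    haveI : SheafOfModules.IsFiniteType (R := (i ⁻¹ᵁ V : Scheme.{u}).ringCatSheaf)
      (kernel (pb.map π)) := hK1
    exact isFiniteType_of_iso eK.symm
  exact isFT_of_isFT_pullback_thick (i ∣_ V) (kernel π) hiV hK2

set_option maxHeartbeats 1600000 in
/-- **finite presentation lifts through finite order thickenings of the base**, for modules flat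
over the base -/
theorem isFP_of_isFP_pullback_thick (hsq : IsPullback i q q' t)
    (ht : MoreMor.IsFiniteOrderThickening t) (F' : X'.Modules)
    (hF' : FlatMod.IsFlatOver q' F')
    (h : CohB1.IsFP ((Scheme.Modules.pullback i).obj F')) : CohB1.IsFP F' := by
  have hi : MoreMor.IsFiniteOrderThickening i :=
    Groth.Agent.Lib.Helper2.Thick.fthick_baseChange i t q q' ht hsq
  have hFT : CohB1.IsFT F' := isFT_of_isFT_pullback_thick i F' hi (isFT_of_isFP _ h)
  apply isFP_of_coker_locFree
  intro x'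
  obtain ⟨V, P, π, hxV, hP, hπ⟩ := exists_epi_of_isFT F' hFT x'
  haveI := hπ
  have hK : CohB1.IsFT (kernel π) :=
    isFT_kernel_of_local_epi i q q' t hsq ht F' hF' h V P hP π
  obtain ⟨V₂, P₁, π₁, hxV₂, hP₁, hπ₁⟩ := exists_epi_of_isFT (kernel π) hK ⟨x', hxV⟩
  haveI := hπ₁
  refine ⟨V₂, V₂.ι ≫ V.ι, inferInstance, ⟨⟨x', hxV⟩, hxV₂⟩, rfl, ?_⟩
  let r := Scheme.Modules.restrictFunctor V₂.ι
  let e₃ : r.obj (F'.restrict V.ι) ≅ F'.restrict (V₂.ι ≫ V.ι) :=
    ((Scheme.Modules.restrictFunctorComp V₂.ι V.ι).app F').symm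
  let SK : ShortComplex (V : Scheme.{u}).Modules :=
    ShortComplex.mk (kernel.ι π) π (kernel.condition π)
  have hSK : SK.Exact := ShortComplex.exact_kernel π
  let S' : ShortComplex (V₂ : Scheme.{u}).Modules :=
    ShortComplex.mk (π₁ ≫ r.map (kernel.ι π)) (r.map π) (by
      rw [Category.assoc, ← r.map_comp, kernel.condition, r.map_zero, comp_zero])
  have hP₂ : FlatMod.IsFinLocFree (r.obj P) :=
    Groth.Agent.Lib.Helper1.FLF.isFinLocFree_of_iso
      ((Scheme.Modules.restrictFunctorIsoPullback V₂.ι).app P).symm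
      (Groth.Agent.Lib.Helper1.Sky.isFinLocFree_pullback V₂.ι P hP)
  have hS' : S'.Exact := by
    let φ : S' ⟶ SK.map r :=
      { τ₁ := π₁
        τ₂ := 𝟙 _
        τ₃ := 𝟙 _
        comm₁₂ := by
          show π₁ ≫ r.map (kernel.ι π) = (π₁ ≫ r.map (kernel.ι π)) ≫ 𝟙 _
          rw [Category.comp_id]
        comm₂₃ := by
          show 𝟙 _ ≫ r.map π = r.map π ≫ 𝟙 _
          rw [Category.id_comp, Category.comp_id] }
    haveI : Epi φ.τ₁ := hπ₁
    haveI : IsIso φ.τ₂ := inferInstanceAs (IsIso (𝟙 _))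
    haveI : Mono φ.τ₃ := inferInstanceAs (Mono (𝟙 _))
    exact (ShortComplex.exact_iff_of_epi_of_isIso_of_mono φ).2 (hSK.map r)
  exact ⟨S', e₃, hP₁, hP₂, hS', r.map_epi π⟩

end Main

end Groth.Agent.Lib.T2H2.NilFP
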