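import Mathlib
import Groth.Agent.Lib.Helper20ResMap

set_option autoImplicit false
universe u

open CategoryTheory CategoryTheory.Limits AlgebraicGeometry

namespace Groth.Agent.Lib.T2H8GeomPt

open Groth.Agent.Lib.Helper20.ResFld

variable {Ω : Type u} [Field Ω]

/-- every point of `Spec Ω` is the default point. -/
theorem eq_default (z : Spec (CommRingCat.of Ω)) : z = default := Subsingleton.elim _ _

set_option backward.isDefEq.respectTransparency.types false in
/-- Lifting a geometric point with algebraically closed field through a point with algebraic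
residue field extension. -/
theorem exists_fac_of_isAlgClosed [IsAlgClosed Ω] {X S : Scheme.{u}} (f : X ⟶ S)
    (s : Spec (CommRingCat.of Ω) ⟶ S) (x : X) (hx : f x = s default)
    (halg : (f.residueFieldMap x).hom.IsIntegral) :
    ∃ l : Spec (CommRingCat.of Ω) ⟶ X, l ≫ f = s ∧ l default = x := by
  obtain ⟨⟨s, a⟩, rfl⟩ := (Scheme.SpecToEquivOfField Ω S).symm.surjective s
  obtain rfl : f x = s := by simp [hx, Scheme.SpecToEquivOfField]
  let m := (f.residueFieldMap x).hom
  dsimp at m
  algebraize [m, a.hom]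
  have : Algebra.IsAlgebraic (S.residueField (f x)) (X.residueField x) :=
    Algebra.IsIntegral.isAlgebraic
  let b : X.residueField x →ₐ[S.residueField (f x)] Ω := IsAlgClosed.lift
  have : f.residueFieldMap x ≫ CommRingCat.ofHom b.toRingHom = a := by
    ext1; exact b.comp_algebraMap
  refine ⟨Spec.map (CommRingCat.ofHom b.toRingHom) ≫ X.fromSpecResidueField x, ?_, ?_⟩
  · simp [Scheme.SpecToEquivOfField, ← this]
    rfl
  · dsimp
    apply Scheme.fromSpecResidueField_apply

set_option backward.isDefEq.respectTransparency.types false in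
/-- Two geometric points through the same point `z` that agree after composing with `q` are equal
when `κ(z)` is purely inseparable over `κ(q z)`. -/
theorem ext_of_pInsep {Z T : Scheme.{u}} (q : Z ⟶ T) (z : Z)
    (hPI : PInsep (q.residueFieldMap z).hom) (ζ₁ ζ₂ : Spec (CommRingCat.of Ω) ⟶ Z)
    (h₁ : ζ₁ default = z) (h₂ : ζ₂ default = z) (h : ζ₁ ≫ q = ζ₂ ≫ q) : ζ₁ = ζ₂ := by
  obtain ⟨⟨x₁, a₁⟩, rfl⟩ := (Scheme.SpecToEquivOfField Ω Z).symm.surjective ζ₁
  obtain ⟨⟨x₂, a₂⟩, rfl⟩ := (Scheme.SpecToEquivOfField Ω Z).symm.surjective ζ₂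
  obtain rfl : x₁ = z := by simpa [Scheme.SpecToEquivOfField] using h₁
  obtain rfl : x₂ = x₁ := by simpa [Scheme.SpecToEquivOfField] using h₂
  congr 2
  simp only [Scheme.SpecToEquivOfField, Equiv.coe_fn_symm_mk, Category.assoc] at h
  rw [← Scheme.Hom.SpecMap_residueFieldMap_fromSpecResidueField, ← Spec.map_comp_assoc,
    ← Spec.map_comp_assoc] at h
  have h' : (Scheme.SpecToEquivOfField Ω T).symm ⟨q x₂, q.residueFieldMap x₂ ≫ a₁⟩ =
      (Scheme.SpecToEquivOfField Ω T).symm ⟨q x₂, q.residueFieldMap x₂ ≫ a₂⟩ := h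
  have h'' := (Scheme.SpecToEquivOfField Ω T).symm.injective h'
  rw [Scheme.SpecToEquivOfField_eq_iff] at h''
  obtain ⟨e, h3⟩ := h''
  simp only [Scheme.residueFieldCongr_refl, Iso.refl_hom, Category.id_comp] at h3
  ext1
  let _ : Algebra (T.residueField (q x₂)) (Z.residueField x₂) := (q.residueFieldMap x₂).hom.toAlgebra
  have hpi : IsPurelyInseparable (T.residueField (q x₂)) (Z.residueField x₂) := (pInsep_iff _).mp hPI
  apply IsPurelyInseparable.injective_comp_algebraMap (T.residueField (q x₂)) (Z.residueField x₂) Ω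
  exact congrArg (fun φ => φ.hom) h3

end Groth.Agent.Lib.T2H8GeomPt
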