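import Mathlib
import Groth.Prelude.Def_EtBase
import Groth.Agent.Lib.T2H8FiniteSplitPt
import Groth.Agent.Lib.Helper16EtGlue
import Groth.Agent.Lib.Helper16SmallEtale

/-!
# Geometric core of the stalk formula for finite morphisms (helper8)
-/

set_option autoImplicit false
universe u w

open CategoryTheory CategoryTheory.Limits AlgebraicGeometry Opposite

namespace Groth.Agent.Lib.T2H8StalkFiniteCore

open Groth.Agent.Lib.Helper16.SmallEtale Groth.Agent.Lib.Helper16.EtGlue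
open Groth.Agent.Lib.T2H8FiniteSplit Groth.Agent.Lib.T2H8GeomPt Groth.Agent.Lib.T2H8FiniteSplitPt
open Groth.Agent.Lib.Helper20.EtSections Groth.Agent.Lib.Helper20.ResFld

variable {X Y : Scheme.{u}} (f : X ⟶ Y) {Ω : Type u} [Field Ω]

section SepClosed

variable [IsSepClosed Ω]

set_option backward.isDefEq.respectTransparency.types false in
/-- the geometric point of `V ×_Y X` given by a geometric point of `V` and one of `X` lying over the
same geometric point of `Y`. -/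
noncomputable def liftPt (ξ : Spec (CommRingCat.of Ω) ⟶ X) (η : Spec (CommRingCat.of Ω) ⟶ Y)
    (h : ξ ≫ f = η) (V : Y.Etale) (v : (Scheme.pointSmallEtale η).fiber.obj V) :
    (Scheme.pointSmallEtale ξ).fiber.obj ((EtCoh.bc f).obj V) :=
  Over.homMk (pullback.lift v.left ξ (by rw [h]; exact Over.w v))
    (pullback.lift_snd _ _ _)

variable (ξ : Spec (CommRingCat.of Ω) ⟶ X) (η : Spec (CommRingCat.of Ω) ⟶ Y) (h : ξ ≫ f = η)

set_option backward.isDefEq.respectTransparency.types false in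
lemma liftPt_left_fst (V : Y.Etale) (v : (Scheme.pointSmallEtale η).fiber.obj V) :
    (liftPt f ξ η h V v).left ≫ pullback.fst V.hom f = v.left :=
  pullback.lift_fst _ _ _

set_option backward.isDefEq.respectTransparency.types false in
lemma liftPt_left_snd (V : Y.Etale) (v : (Scheme.pointSmallEtale η).fiber.obj V) :
    (liftPt f ξ η h V v).left ≫ pullback.snd V.hom f = ξ :=
  pullback.lift_snd _ _ _

set_option backward.isDefEq.respectTransparency.types false in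
lemma liftPt_map {V' V : Y.Etale} (k : V' ⟶ V) (v' : (Scheme.pointSmallEtale η).fiber.obj V') :
    (Scheme.pointSmallEtale ξ).fiber.map ((EtCoh.bc f).map k) (liftPt f ξ η h V' v') =
      liftPt f ξ η h V ((Scheme.pointSmallEtale η).fiber.map k v') := by
  apply Over.OverMorphism.ext
  have e1 : ((liftPt f ξ η h V' v').left ≫ ((EtCoh.bc f).map k).left) ≫ pullback.fst V.hom f =
      v'.left ≫ k.left :=
    (Category.assoc _ _ _).trans (((liftPt f ξ η h V' v').left ≫= bc_map_left_fst f k).trans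
      ((Category.assoc _ _ _).symm.trans (liftPt_left_fst f ξ η h V' v' =≫ k.left)))
  have e2 : ((liftPt f ξ η h V' v').left ≫ ((EtCoh.bc f).map k).left) ≫ pullback.snd V.hom f =
      ξ :=
    (Category.assoc _ _ _).trans (((liftPt f ξ η h V' v').left ≫= bc_map_left_snd f k).trans
      (liftPt_left_snd f ξ η h V' v'))
  have e3 : (liftPt f ξ η h V' v').left ≫ ((EtCoh.bc f).map k).left =
      (liftPt f ξ η h V ((Scheme.pointSmallEtale η).fiber.map k v')).left := by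
    apply pullback.hom_ext
    · exact e1.trans
        (liftPt_left_fst f ξ η h V ((Scheme.pointSmallEtale η).fiber.map k v')).symm
    · exact e2.trans
        (liftPt_left_snd f ξ η h V ((Scheme.pointSmallEtale η).fiber.map k v')).symm
  exact e3

end SepClosed

section AlgClosed

variable [IsAlgClosed Ω]

set_option backward.isDefEq.respectTransparency.types false in
/-- every point of `V ×_Y X` over the image of a geometric point `v` of `V` carries a geometric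
point of the form `liftPt`. -/
theorem exists_liftPt_eq [IsFinite f] (η : Spec (CommRingCat.of Ω) ⟶ Y) (V : Y.Etale)
    (v : (Scheme.pointSmallEtale η).fiber.obj V) (x : ((EtCoh.bc f).obj V).left)
    (hx : (pullback.fst V.hom f) x =
      (v.left : Spec (CommRingCat.of Ω) ⟶ V.left) (default : Spec (CommRingCat.of Ω))) :
    ∃ (ξ : Spec (CommRingCat.of Ω) ⟶ X) (h : ξ ≫ f = η),
      ((liftPt f ξ η h V v).left : Spec (CommRingCat.of Ω) ⟶ pullback V.hom f)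
        (default : Spec (CommRingCat.of Ω)) = x := by
  let fV : pullback V.hom f ⟶ V.left := pullback.fst V.hom f
  have hfin : IsFinite fV := MorphismProperty.pullback_fst (P := @IsFinite) _ _ ‹_›
  have halg : (fV.residueFieldMap x).hom.IsIntegral :=
    (finite_residueFieldMap_of_quasiFiniteAt fV x (Scheme.Hom.quasiFiniteAt _ _)).to_isIntegral
  obtain ⟨l, hl, hlx⟩ := exists_fac_of_isAlgClosed fV v.left x hx halg
  have hξ : (l ≫ pullback.snd V.hom f) ≫ f = η := by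
    rw [Category.assoc, ← pullback.condition, reassoc_of% hl]
    exact Over.w v
  refine ⟨l ≫ pullback.snd V.hom f, hξ, ?_⟩
  have e : (liftPt f (l ≫ pullback.snd V.hom f) η hξ V v).left = l := by
    apply pullback.hom_ext
    · exact (liftPt_left_fst f _ η hξ V v).trans hl.symm
    · exact liftPt_left_snd f _ η hξ V v
  rw [e]
  exact hlx

set_option backward.isDefEq.respectTransparency.types false in
/-- For a finite morphism there are only finitely many geometric points over a given one. -/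
theorem finite_geomPts [IsFinite f] (η : Spec (CommRingCat.of Ω) ⟶ Y) :
    Finite {ξ : Spec (CommRingCat.of Ω) ⟶ X // ξ ≫ f = η} := by
  obtain ⟨S₂, g₂, s₂, hg₂, hs₂, -, V₂, -, hV₂⟩ := exists_etale_split_clopen f (η default)
    (f ⁻¹' {η default}) (Scheme.Hom.finite_preimage_singleton f _)
    (fun t ht => ⟨ht, Scheme.Hom.quasiFiniteAt _ _⟩)
  obtain ⟨η₂, hη₂, hη₂pt⟩ := Scheme.exists_fac_of_etale_of_isSepClosed g₂ η s₂ hs₂
  obtain ⟨f₂, hf₂⟩ : ∃ f₂ : pullback f g₂ ⟶ S₂, f₂ = pullback.snd f g₂ := ⟨_, rfl⟩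
  have hf₂fin : IsFinite f₂ := hf₂ ▸ inferInstance
  let lft : {ξ : Spec (CommRingCat.of Ω) ⟶ X // ξ ≫ f = η} → (Spec (CommRingCat.of Ω) ⟶ pullback f g₂) :=
    fun ξ => pullback.lift ξ.1 η₂ (by rw [ξ.2, hη₂])
  have hl1 : ∀ ξ, lft ξ ≫ pullback.fst f g₂ = ξ.1 := fun ξ => pullback.lift_fst _ _ _
  have hl2 : ∀ ξ, lft ξ ≫ f₂ = η₂ := fun ξ => by rw [hf₂]; exact pullback.lift_snd _ _ _
  have hmem : ∀ ξ, (lft ξ) default ∈ f₂ ⁻¹' {s₂} := by
    intro ξ
    change (lft ξ ≫ f₂) default = s₂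
    rw [hl2, hη₂pt]
  have hfin : Finite (f₂ ⁻¹' {s₂}) := (Scheme.Hom.finite_preimage_singleton f₂ s₂).to_subtype
  apply Finite.of_injective (fun ξ => (⟨(lft ξ) default, hmem ξ⟩ : f₂ ⁻¹' {s₂}))
  intro ξ ξ' hφ
  have hφ' : (lft ξ) default = (lft ξ') default := congrArg Subtype.val hφ
  have hw2 : pullback.snd f g₂ ((lft ξ) default) = s₂ := by
    have := hmem ξ
    rw [hf₂] at this
    exact this
  have hw1 : pullback.fst f g₂ ((lft ξ) default) ∈ f ⁻¹' {η default} := by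
    change f ((lft ξ ≫ pullback.fst f g₂) default) = η default
    rw [hl1, ← Scheme.Hom.comp_apply, ξ.2]
  obtain ⟨-, -, -, -, hPI, -⟩ := hV₂ _ hw2 hw1
  have e : lft ξ = lft ξ' := by
    refine ext_of_pInsep (pullback.snd f g₂) _ hPI _ _ rfl hφ'.symm ?_
    rw [← hf₂, hl2, hl2]
  apply Subtype.ext
  rw [← hl1 ξ, ← hl1 ξ', e]

end AlgClosed

set_option backward.isDefEq.respectTransparency.types false in
/-- After a suitable etale base change around `s`, the base change of a finite `Z ⟶ S` lifts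
Zariski locally everywhere to a given etale family covering the fibre over `s`. -/
theorem good_everywhere {ι : Type u} {Z S : Scheme.{u}} {E : ι → Scheme.{u}} {e : ∀ i, E i ⟶ Z}
    [∀ i, Etale (e i)] (f : Z ⟶ S) [IsFinite f] (s : S)
    (hcov : ∀ x : Z, f x = s → ∃ i, x ∈ Set.range (e i)) :
    ∃ (S' : Scheme.{u}) (g : S' ⟶ S) (s' : S'), Etale g ∧ g s' = s ∧
      ∀ w : ↥(pullback f g), GoodAt E e (pullback.fst f g) w := by
  obtain ⟨S', g, s', X', p, q, hg, hs', sq, K, hK, D, pt, -, htop, -, hlift⟩ :=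
    exists_split (E := E) (e := e) f s hcov
  refine ⟨S', g, s', hg, hs', ?_⟩
  intro w
  let φ : pullback f g ≅ X' := (IsPullback.of_hasPullback f g).isoIsPullback _ _ sq
  have hφ1 : φ.hom ≫ p = pullback.fst f g := IsPullback.isoIsPullback_hom_fst _ _ _ _
  have hmem : φ.hom w ∈ (⨆ a, D a) := by rw [htop]; trivial
  obtain ⟨a, ha⟩ := TopologicalSpace.Opens.mem_iSup.mp hmem
  obtain ⟨i, h, hh⟩ := hlift a
  have hgood : GoodAt E e p (φ.hom w) := ⟨D a, i, h, ha, hh⟩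
  exact (hgood.baseChange φ.hom).congr hφ1

section PCL

variable [IsSepClosed Ω]

set_option backward.isDefEq.respectTransparency.types false in
/-- Pointed clopen lifting in the language of the small etale sites. -/
theorem exists_pointed_clopen_bc [IsFinite f] (ξ : Spec (CommRingCat.of Ω) ⟶ X)
    (η : Spec (CommRingCat.of Ω) ⟶ Y) (h : ξ ≫ f = η) (U : X.Etale)
    (ū : (Scheme.pointSmallEtale ξ).fiber.obj U) :
    ∃ (V : Y.Etale) (v : (Scheme.pointSmallEtale η).fiber.obj V)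
      (D : (pullback V.hom f).Opens) (hD : (D : Scheme.{u}) ⟶ U.left)
      (ξD : Spec (CommRingCat.of Ω) ⟶ D),
      IsClosed (D : Set ↥(pullback V.hom f)) ∧
      hD ≫ U.hom = D.ι ≫ pullback.snd V.hom f ∧
      ξD ≫ D.ι = (liftPt f ξ η h V v).left ∧ ξD ≫ hD = ū.left ∧
      ∀ (ξ' : Spec (CommRingCat.of Ω) ⟶ X) (h' : ξ' ≫ f = η),
        ((liftPt f ξ' η h' V v).left : Spec (CommRingCat.of Ω) ⟶ pullback V.hom f)
          (default : Spec (CommRingCat.of Ω)) ∈ D → ξ' = ξ := by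
  obtain ⟨ū₀, hū₀⟩ : ∃ ū₀ : Spec (CommRingCat.of Ω) ⟶ U.left, ū₀ = ū.left := ⟨_, rfl⟩
  have hū : ū₀ ≫ U.hom = ξ := by rw [hū₀]; exact Over.w ū
  obtain ⟨S', g', η', X', p, q, hg', hη', sq, D, ξD, hh, hDcl, hhg, hξDh, hξDq, huniq⟩ :=
    exists_pointed_clopen_lift f U.hom ū₀
  have hη'' : η' ≫ g' = η := by rw [hη', reassoc_of% hū, h]
  let V : Y.Etale := Scheme.Etale.mk g'
  let v : (Scheme.pointSmallEtale η).fiber.obj V := Over.homMk η' hη''
  have hvl : v.left = η' := rfl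
  let φ : pullback g' f ≅ X' := (IsPullback.of_hasPullback g' f).isoIsPullback _ _ sq.flip
  have hφq : φ.hom ≫ q = pullback.fst g' f := IsPullback.isoIsPullback_hom_fst _ _ _ _
  have hφp : φ.hom ≫ p = pullback.snd g' f := IsPullback.isoIsPullback_hom_snd _ _ _ _
  obtain ⟨lp, hlp⟩ : ∃ lp : ∀ (ξ' : Spec (CommRingCat.of Ω) ⟶ X) (_ : ξ' ≫ f = η),
      Spec (CommRingCat.of Ω) ⟶ pullback g' f,
      ∀ ξ' h', lp ξ' h' = (liftPt f ξ' η h' V v).left := ⟨_, fun _ _ => rfl⟩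
  have hlp1 : ∀ ξ' h', lp ξ' h' ≫ pullback.fst g' f = η' := fun ξ' h' => by
    rw [hlp]; exact liftPt_left_fst f ξ' η h' V v
  have hlp2 : ∀ ξ' h', lp ξ' h' ≫ pullback.snd g' f = ξ' := fun ξ' h' => by
    rw [hlp]; exact liftPt_left_snd f ξ' η h' V v
  have hξDp : ξD ≫ D.ι ≫ p = ξ := by
    rw [← hhg, reassoc_of% hξDh, hū]
  have hpt : lp ξ h ≫ φ.hom = ξD ≫ D.ι := by
    apply sq.hom_ext
    · rw [Category.assoc, hφp, hlp2, Category.assoc, hξDp]
    · rw [Category.assoc, hφq, hlp1, Category.assoc, hξDq]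
  obtain ⟨D', hD'⟩ : ∃ D' : (pullback g' f).Opens, D' = φ.hom ⁻¹ᵁ D := ⟨_, rfl⟩
  have hle : D' ≤ φ.hom ⁻¹ᵁ D := hD'.le
  have hmem : (lp ξ h) default ∈ D' := by
    rw [hD']
    change (lp ξ h ≫ φ.hom) default ∈ D
    rw [hpt, Scheme.Hom.comp_apply]
    exact (ξD default).2
  obtain ⟨ξD', hξD'⟩ := exists_lift_open (lp ξ h) D' hmem
  have hres : ξD' ≫ φ.hom.resLE D D' hle = ξD := by
    rw [← cancel_mono D.ι, Category.assoc, Scheme.Hom.resLE_comp_ι, reassoc_of% hξD', hpt]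
  have c1 : IsClosed (D' : Set ↥(pullback g' f)) := by
    rw [hD']
    exact hDcl.preimage φ.hom.continuous
  have c2 : (φ.hom.resLE D D' hle ≫ hh) ≫ U.hom = D'.ι ≫ pullback.snd g' f := by
    rw [Category.assoc, hhg, Scheme.Hom.resLE_comp_ι_assoc, hφp]
  have c4 : ξD' ≫ φ.hom.resLE D D' hle ≫ hh = ū₀ := by
    rw [reassoc_of% hres, hξDh]
  have c5 : ∀ ξ' h', (lp ξ' h') default ∈ D' → ξ' = ξ := by
    intro ξ' h' hmem'
    obtain ⟨ζ', hζ'⟩ := exists_lift_open (lp ξ' h') D' hmem'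
    obtain ⟨ζ, hζdef⟩ : ∃ ζ : Spec (CommRingCat.of Ω) ⟶ D, ζ = ζ' ≫ φ.hom.resLE D D' hle :=
      ⟨_, rfl⟩
    have hζ : ζ ≫ D.ι = lp ξ' h' ≫ φ.hom := by
      rw [hζdef, Category.assoc, Scheme.Hom.resLE_comp_ι, reassoc_of% hζ']
    have hζq : ζ ≫ D.ι ≫ q = η' := by
      rw [reassoc_of% hζ, hφq, hlp1]
    have e := huniq _ hζq
    rw [e] at hζ
    rw [← hlp2 ξ' h', ← hφp, ← reassoc_of% hζ, hξDp]
  refine ⟨V, v, D', φ.hom.resLE D D' hle ≫ hh, ξD', c1, c2, ?_, ?_, ?_⟩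
  · exact hξD'.trans (hlp ξ h)
  · exact c4.trans hū₀
  · intro ξ' h' hm
    have hm' : (lp ξ' h') default ∈ D' := by
      rw [hlp]
      exact hm
    exact c5 ξ' h' hm'

end PCL

section Core

variable [IsAlgClosed Ω] [IsFinite f] (η : Spec (CommRingCat.of Ω) ⟶ Y)
  (P : X.Etaleᵒᵖ ⥤ Type w) (hP : Presieve.IsSheaf X.smallEtaleTopology P)

include hP in
set_option backward.isDefEq.respectTransparency.types false in
/-- Injectivity core: two sections of `P` over `V ×_Y X` with the same germs at all geometric points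
over `v` agree after shrinking `(V, v)`. -/
theorem inj_core (V : Y.Etale) (v : (Scheme.pointSmallEtale η).fiber.obj V)
    (s t : P.obj (op ((EtCoh.bc f).obj V)))
    (H : ∀ (ξ : Spec (CommRingCat.of Ω) ⟶ X) (h : ξ ≫ f = η),
      ∃ (W : X.Etale) (a : W ⟶ (EtCoh.bc f).obj V) (wb : (Scheme.pointSmallEtale ξ).fiber.obj W),
        (Scheme.pointSmallEtale ξ).fiber.map a wb = liftPt f ξ η h V v ∧
        P.map a.op s = P.map a.op t) :
    ∃ (V' : Y.Etale) (k : V' ⟶ V) (v' : (Scheme.pointSmallEtale η).fiber.obj V'),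
      (Scheme.pointSmallEtale η).fiber.map k v' = v ∧
      P.map ((EtCoh.bc f).map k).op s = P.map ((EtCoh.bc f).map k).op t := by
  choose W a wb haw hast using H
  let Ξ := {ξ : Spec (CommRingCat.of Ω) ⟶ X // ξ ≫ f = η}
  let E : Ξ → Scheme.{u} := fun ξ => (W ξ.1 ξ.2).left
  let e : ∀ ξ : Ξ, E ξ ⟶ pullback V.hom f := fun ξ => (a ξ.1 ξ.2).left
  have het : ∀ ξ : Ξ, Etale (e ξ) := fun ξ => inferInstanceAs (Etale (a ξ.1 ξ.2).left)
  let fV : pullback V.hom f ⟶ V.left := pullback.fst V.hom f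
  have hfin : IsFinite fV := MorphismProperty.pullback_fst (P := @IsFinite) _ _ ‹_›
  obtain ⟨v₀, hv₀⟩ : ∃ v₀ : Spec (CommRingCat.of Ω) ⟶ V.left, v₀ = v.left := ⟨_, rfl⟩
  have hcov : ∀ x : ↥(pullback V.hom f), fV x = v₀ default → ∃ ξ : Ξ, x ∈ Set.range (e ξ) := by
    intro x hx
    obtain ⟨ξ, h, hξx⟩ := exists_liftPt_eq f η V v x (by rw [← hv₀]; exact hx)
    refine ⟨⟨ξ, h⟩, ((wb ξ h).left : Spec (CommRingCat.of Ω) ⟶ (W ξ h).left)
      (default : Spec (CommRingCat.of Ω)), ?_⟩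
    have e1 : (wb ξ h).left ≫ (a ξ h).left = (liftPt f ξ η h V v).left :=
      congrArg (fun m => m.left) (haw ξ h)
    rw [← hξx, ← e1]
    rfl
  obtain ⟨S', g, s', hg, hs', Hgood⟩ := good_everywhere (E := E) (e := e) fV (v₀ default) hcov
  obtain ⟨l, hl, -⟩ := Scheme.exists_fac_of_etale_of_isSepClosed g v₀ s' hs'
  let V' : Y.Etale := Scheme.Etale.mk (g ≫ V.hom)
  let k : V' ⟶ V := MorphismProperty.Over.homMk g rfl
  have hlη : l ≫ g ≫ V.hom = η := by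
    rw [reassoc_of% hl, hv₀]
    exact Over.w v
  let v' : (Scheme.pointSmallEtale η).fiber.obj V' := Over.homMk l hlη
  refine ⟨V', k, v', ?_, ?_⟩
  · apply Over.OverMorphism.ext
    exact hl.trans hv₀
  · obtain ⟨bm, hbm⟩ : ∃ bm : pullback V'.hom f ⟶ pullback V.hom f,
        bm = ((EtCoh.bc f).map k).left := ⟨_, rfl⟩
    have hbm1 : bm ≫ fV = pullback.fst V'.hom f ≫ g := by
      rw [hbm]; exact bc_map_left_fst f k
    have hbm2 : bm ≫ pullback.snd V.hom f = pullback.snd V'.hom f := by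
      rw [hbm]; exact bc_map_left_snd f k
    let m : pullback V'.hom f ⟶ pullback fV g := pullback.lift bm (pullback.fst V'.hom f) hbm1
    have hm1 : m ≫ pullback.fst fV g = bm := pullback.lift_fst _ _ _
    have hgood : ∀ z : ↥(pullback V'.hom f), GoodAt E e bm z := fun z =>
      ((Hgood (m z)).baseChange m).congr hm1
    let Pj : X.Etale := (EtCoh.bc f).obj V'
    let x₁ : P.obj (op Pj) := P.map ((EtCoh.bc f).map k).op s
    let x₂ : P.obj (op Pj) := P.map ((EtCoh.bc f).map k).op t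
    let R : Sieve Pj :=
      { arrows := fun W' g' => P.map g'.op x₁ = P.map g'.op x₂
        downward_closed := by
          intro W₁ W₂ g₁ hg₁ g₂
          change P.map (g₂ ≫ g₁).op x₁ = P.map (g₂ ≫ g₁).op x₂
          rw [op_comp, Functor.map_comp, ConcreteCategory.comp_apply,
            ConcreteCategory.comp_apply, hg₁] }
    have hR : R ∈ X.smallEtaleTopology Pj := by
      rw [mem_smallEtale_iff]
      intro z
      obtain ⟨N, ξ, hN, hz, hh⟩ := hgood z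
      have hPjet : Etale (pullback.snd V'.hom f) := inferInstance
      have hNet : Etale (N.ι ≫ pullback.snd V'.hom f) := inferInstance
      let W' : X.Etale := Scheme.Etale.mk (N.ι ≫ pullback.snd V'.hom f)
      let g' : W' ⟶ Pj := MorphismProperty.Over.homMk N.ι rfl
      have hb : hN ≫ (W ξ.1 ξ.2).hom = N.ι ≫ Pj.hom := by
        have e1 : (a ξ.1 ξ.2).left ≫ pullback.snd V.hom f = (W ξ.1 ξ.2).hom :=
          Over.w (a ξ.1 ξ.2).hom
        exact (hN ≫= e1.symm).trans ((Category.assoc _ _ _).symm.trans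
          ((hh =≫ pullback.snd V.hom f).trans ((Category.assoc _ _ _).trans (N.ι ≫= hbm2))))
      let b : W' ⟶ W ξ.1 ξ.2 := MorphismProperty.Over.homMk hN hb
      have hcomm : g' ≫ (EtCoh.bc f).map k = b ≫ a ξ.1 ξ.2 := by
        apply MorphismProperty.Over.Hom.ext
        change N.ι ≫ ((EtCoh.bc f).map k).left = hN ≫ (a ξ.1 ξ.2).left
        rw [← hbm]
        exact hh.symm
      refine ⟨W', g', ⟨z, hz⟩, ?_, rfl⟩
      change P.map g'.op (P.map ((EtCoh.bc f).map k).op s) =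
        P.map g'.op (P.map ((EtCoh.bc f).map k).op t)
      rw [← ConcreteCategory.comp_apply, ← ConcreteCategory.comp_apply, ← Functor.map_comp,
        ← op_comp, hcomm, op_comp, Functor.map_comp, ConcreteCategory.comp_apply,
        ConcreteCategory.comp_apply, hast ξ.1 ξ.2]
    exact (hP R hR).isSeparatedFor.ext (fun W' g' hg' => hg')

end Core

section Decomp

variable [IsAlgClosed Ω] [IsFinite f] (η : Spec (CommRingCat.of Ω) ⟶ Y)

set_option backward.isDefEq.respectTransparency.types false in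
/-- Simultaneous pointed decomposition: given pointed etale neighbourhoods `(U ξ, ū ξ)` of all the
geometric points `ξ` of `X` over `η`, there is an etale neighbourhood `(V, v)` of `η` such that
`V ×_Y X` is the disjoint union of opens `D ξ`, each containing `liftPt ξ` and mapping to `U ξ`
compatibly with the points. -/
theorem exists_decomp
    (U : {ξ : Spec (CommRingCat.of Ω) ⟶ X // ξ ≫ f = η} → X.Etale)
    (ū : ∀ ξ : {ξ : Spec (CommRingCat.of Ω) ⟶ X // ξ ≫ f = η},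
      (Scheme.pointSmallEtale ξ.1).fiber.obj (U ξ)) :
    ∃ (V : Y.Etale) (v : (Scheme.pointSmallEtale η).fiber.obj V)
      (D : {ξ : Spec (CommRingCat.of Ω) ⟶ X // ξ ≫ f = η} → (pullback V.hom f).Opens)
      (hD : ∀ ξ, (D ξ : Scheme.{u}) ⟶ (U ξ).left) (ζ : ∀ ξ, Spec (CommRingCat.of Ω) ⟶ D ξ),
      (∀ ξ, hD ξ ≫ (U ξ).hom = (D ξ).ι ≫ pullback.snd V.hom f) ∧
      (∀ ξ, ζ ξ ≫ (D ξ).ι = (liftPt f ξ.1 η ξ.2 V v).left) ∧
      (∀ ξ, ζ ξ ≫ hD ξ = (ū ξ).left) ∧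
      (∀ ξ ξ', ξ ≠ ξ' → ∀ z, z ∈ D ξ → z ∉ D ξ') ∧ (∀ z, ∃ ξ, z ∈ D ξ) := by
  classical
  let Ξ := {ξ : Spec (CommRingCat.of Ω) ⟶ X // ξ ≫ f = η}
  have hfinΞ : Finite Ξ := finite_geomPts f η
  let _ := Fintype.ofFinite Ξ
  choose V₁ v₁ D₁ h₁ ξD₁ hcl₁ hh₁ hξD₁ hξDh₁ huniq₁ using
    fun ξ : Ξ => exists_pointed_clopen_bc f ξ.1 η ξ.2 (U ξ) (ū ξ)
  let Φ := Scheme.pointSmallEtale η
  obtain ⟨m, hm⟩ := IsCofiltered.inf_objs_exists (C := Φ.fiber.Elements)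
    (Finset.univ.image (fun ξ : Ξ => (⟨V₁ ξ, v₁ ξ⟩ : Φ.fiber.Elements)))
  have km : ∀ ξ : Ξ, m ⟶ (⟨V₁ ξ, v₁ ξ⟩ : Φ.fiber.Elements) := fun ξ =>
    (hm (Finset.mem_image_of_mem _ (Finset.mem_univ ξ))).some
  obtain ⟨V₂, v₂⟩ := m
  let k : ∀ ξ : Ξ, V₂ ⟶ V₁ ξ := fun ξ => (km ξ).1
  have hk : ∀ ξ : Ξ, Φ.fiber.map (k ξ) v₂ = v₁ ξ := fun ξ => (km ξ).2
  -- the points and the transition maps, as opaque morphisms
  obtain ⟨L₂, hL₂⟩ : ∃ L₂ : Ξ → (Spec (CommRingCat.of Ω) ⟶ pullback V₂.hom f),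
      ∀ ξ, L₂ ξ = (liftPt f ξ.1 η ξ.2 V₂ v₂).left := ⟨_, fun _ => rfl⟩
  obtain ⟨L₁, hL₁⟩ : ∃ L₁ : ∀ (ξ' ξ : Ξ), (Spec (CommRingCat.of Ω) ⟶ pullback (V₁ ξ).hom f),
      ∀ ξ' ξ, L₁ ξ' ξ = (liftPt f ξ'.1 η ξ'.2 (V₁ ξ) (v₁ ξ)).left := ⟨_, fun _ _ => rfl⟩
  obtain ⟨bk, hbk⟩ : ∃ bk : ∀ ξ : Ξ, pullback V₂.hom f ⟶ pullback (V₁ ξ).hom f,
      ∀ ξ, bk ξ = ((EtCoh.bc f).map (k ξ)).left := ⟨_, fun _ => rfl⟩
  have hLbk : ∀ ξ' ξ : Ξ, L₂ ξ' ≫ bk ξ = L₁ ξ' ξ := by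
    intro ξ' ξ
    have e1 := congrArg (fun m => m.left) (liftPt_map f ξ'.1 η ξ'.2 (k ξ) v₂)
    rw [hk ξ] at e1
    rw [hL₂, hbk, hL₁]
    exact e1
  have hL₁D : ∀ ξ : Ξ, ξD₁ ξ ≫ (D₁ ξ).ι = L₁ ξ ξ := fun ξ => by rw [hL₁]; exact hξD₁ ξ
  have huniq₁' : ∀ ξ ξ' : Ξ, (L₁ ξ' ξ) default ∈ D₁ ξ → ξ' = ξ := by
    intro ξ ξ' hmem
    apply Subtype.ext
    refine huniq₁ ξ ξ'.1 ξ'.2 ?_
    rw [← hL₁]
    exact hmem
  obtain ⟨D₂, hD₂⟩ : ∃ D₂ : Ξ → (pullback V₂.hom f).Opens, ∀ ξ, D₂ ξ = bk ξ ⁻¹ᵁ D₁ ξ :=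
    ⟨_, fun _ => rfl⟩
  have hD₂mem : ∀ (ξ : Ξ) (x : ↥(pullback V₂.hom f)), x ∈ D₂ ξ ↔ bk ξ x ∈ D₁ ξ := by
    intro ξ x
    rw [hD₂]
    rfl
  have hD₂cl : ∀ ξ, IsClosed (D₂ ξ : Set ↥(pullback V₂.hom f)) := by
    intro ξ
    rw [hD₂]
    exact (hcl₁ ξ).preimage (bk ξ).continuous
  have hii1 : ∀ ξ ξ' : Ξ, (L₂ ξ') default ∈ D₂ ξ → ξ' = ξ := by
    intro ξ ξ' hmem
    rw [hD₂mem, ← Scheme.Hom.comp_apply, hLbk] at hmem
    exact huniq₁' ξ ξ' hmem
  have hii2 : ∀ ξ : Ξ, (L₂ ξ) default ∈ D₂ ξ := by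
    intro ξ
    rw [hD₂mem, ← Scheme.Hom.comp_apply, hLbk, ← hL₁D, Scheme.Hom.comp_apply]
    exact (ξD₁ ξ default).2
  -- the good locus
  let fV₂ : pullback V₂.hom f ⟶ V₂.left := pullback.fst V₂.hom f
  have hfin₂ : IsFinite fV₂ := MorphismProperty.pullback_fst (P := @IsFinite) _ _ ‹_›
  let G : Set ↥(pullback V₂.hom f) := ⋃ ξ : Ξ, ((D₂ ξ : Set ↥(pullback V₂.hom f)) ∩
    ⋂ ξ' : Ξ, ⋂ (_ : ξ' ≠ ξ), ((D₂ ξ' : Set ↥(pullback V₂.hom f)))ᶜ)
  have hGopen : IsOpen G :=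
    isOpen_iUnion fun ξ => (D₂ ξ).isOpen.inter (isOpen_iInter_of_finite fun ξ' =>
      isOpen_iInter_of_finite fun _ => (hD₂cl ξ').isOpen_compl)
  have hGmem : ∀ x, x ∈ G ↔ ∃ ξ, x ∈ D₂ ξ ∧ ∀ ξ', ξ' ≠ ξ → x ∉ D₂ ξ' := by
    intro x
    simp only [G, Set.mem_iUnion, Set.mem_inter_iff, Set.mem_iInter, Set.mem_compl_iff,
      SetLike.mem_coe]
  have hC : IsClosed (fV₂ '' Gᶜ) := fV₂.isClosedMap _ hGopen.isClosed_compl
  let Vo : V₂.left.Opens := ⟨(fV₂ '' Gᶜ)ᶜ, hC.isOpen_compl⟩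
  obtain ⟨v₂l, hv₂l⟩ : ∃ v₂l : Spec (CommRingCat.of Ω) ⟶ V₂.left, v₂l = v₂.left := ⟨_, rfl⟩
  have hv₂mem : v₂l default ∈ Vo := by
    rintro ⟨x, hxG, hx⟩
    apply hxG
    obtain ⟨ξ, h, hξx⟩ := exists_liftPt_eq f η V₂ v₂ x (by rw [← hv₂l]; exact hx)
    have hx' : (L₂ ⟨ξ, h⟩) default = x := by rw [hL₂]; exact hξx
    rw [hGmem]
    refine ⟨⟨ξ, h⟩, ?_, ?_⟩
    · rw [← hx']
      exact hii2 ⟨ξ, h⟩
    · intro ξ' hne hmem
      rw [← hx'] at hmem
      exact hne (hii1 ξ' ⟨ξ, h⟩ hmem).symm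
  obtain ⟨l₃, hl₃⟩ := exists_lift_open v₂l Vo hv₂mem
  let V₃ : Y.Etale := Scheme.Etale.mk (Vo.ι ≫ V₂.hom)
  let k₃ : V₃ ⟶ V₂ := MorphismProperty.Over.homMk Vo.ι rfl
  have hl₃η : l₃ ≫ Vo.ι ≫ V₂.hom = η := by
    rw [reassoc_of% hl₃, hv₂l]
    exact Over.w v₂
  let v₃ : Φ.fiber.obj V₃ := Over.homMk l₃ hl₃η
  have hk₃ : Φ.fiber.map k₃ v₃ = v₂ := by
    apply Over.OverMorphism.ext
    exact hl₃.trans hv₂l
  obtain ⟨b₃, hb₃⟩ : ∃ b₃ : pullback V₃.hom f ⟶ pullback V₂.hom f,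
      b₃ = ((EtCoh.bc f).map k₃).left := ⟨_, rfl⟩
  have hb₃fst : b₃ ≫ fV₂ = pullback.fst V₃.hom f ≫ Vo.ι := by
    rw [hb₃]
    exact bc_map_left_fst f k₃
  have hb₃snd : b₃ ≫ pullback.snd V₂.hom f = pullback.snd V₃.hom f := by
    rw [hb₃]
    exact bc_map_left_snd f k₃
  have hbksnd : ∀ ξ, bk ξ ≫ pullback.snd (V₁ ξ).hom f = pullback.snd V₂.hom f := by
    intro ξ
    rw [hbk]
    exact bc_map_left_snd f (k ξ)
  have hb₃G : ∀ z : ↥(pullback V₃.hom f), b₃ z ∈ G := by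
    intro z
    by_contra hz
    have h1 : fV₂ (b₃ z) ∈ Vo := by
      rw [← Scheme.Hom.comp_apply, hb₃fst, Scheme.Hom.comp_apply]
      exact ((pullback.fst V₃.hom f) z).2
    exact h1 ⟨b₃ z, hz, rfl⟩
  obtain ⟨L₃, hL₃⟩ : ∃ L₃ : Ξ → (Spec (CommRingCat.of Ω) ⟶ pullback V₃.hom f),
      ∀ ξ, L₃ ξ = (liftPt f ξ.1 η ξ.2 V₃ v₃).left := ⟨_, fun _ => rfl⟩
  have hL₃b : ∀ ξ, L₃ ξ ≫ b₃ = L₂ ξ := by
    intro ξ
    have e1 := congrArg (fun m => m.left) (liftPt_map f ξ.1 η ξ.2 k₃ v₃)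
    rw [hk₃] at e1
    rw [hL₃, hb₃, hL₂]
    exact e1
  obtain ⟨D₃, hD₃⟩ : ∃ D₃ : Ξ → (pullback V₃.hom f).Opens, ∀ ξ, D₃ ξ = b₃ ⁻¹ᵁ D₂ ξ :=
    ⟨_, fun _ => rfl⟩
  have hD₃mem : ∀ (ξ : Ξ) (z : ↥(pullback V₃.hom f)), z ∈ D₃ ξ ↔ b₃ z ∈ D₂ ξ := by
    intro ξ z
    rw [hD₃]
    rfl
  have hL₃mem : ∀ ξ, (L₃ ξ) default ∈ D₃ ξ := by
    intro ξ
    rw [hD₃mem, ← Scheme.Hom.comp_apply, hL₃b]
    exact hii2 ξ
  choose ζ hζ using fun ξ => exists_lift_open (L₃ ξ) (D₃ ξ) (hL₃mem ξ)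
  have hle : ∀ ξ, D₃ ξ ≤ (b₃ ≫ bk ξ) ⁻¹ᵁ D₁ ξ := by
    intro ξ z hz
    rw [hD₃mem, hD₂mem] at hz
    change (b₃ ≫ bk ξ) z ∈ D₁ ξ
    rw [Scheme.Hom.comp_apply]
    exact hz
  obtain ⟨r, hr⟩ : ∃ r : ∀ ξ, (D₃ ξ : Scheme.{u}) ⟶ (D₁ ξ : Scheme.{u}),
      ∀ ξ, r ξ ≫ (D₁ ξ).ι = (D₃ ξ).ι ≫ b₃ ≫ bk ξ :=
    ⟨fun ξ => (b₃ ≫ bk ξ).resLE (D₁ ξ) (D₃ ξ) (hle ξ), fun ξ => Scheme.Hom.resLE_comp_ι _ _⟩
  have hζr : ∀ ξ, ζ ξ ≫ r ξ = ξD₁ ξ := by
    intro ξ
    rw [← cancel_mono (D₁ ξ).ι, Category.assoc, hr, reassoc_of% hζ, reassoc_of% hL₃b, hLbk, hL₁D]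
  refine ⟨V₃, v₃, D₃, fun ξ => r ξ ≫ h₁ ξ, ζ, ?_, ?_, ?_, ?_, ?_⟩
  · intro ξ
    have e1 : h₁ ξ ≫ (U ξ).hom = (D₁ ξ).ι ≫ pullback.snd (V₁ ξ).hom f := hh₁ ξ
    rw [Category.assoc, e1, reassoc_of% hr, hbksnd, hb₃snd]
  · intro ξ
    rw [hζ, hL₃]
  · intro ξ
    rw [reassoc_of% hζr, hξDh₁]
  · intro ξ ξ' hne z hz hz'
    rw [hD₃mem] at hz hz'
    obtain ⟨ξ₀, -, h₀⟩ := (hGmem _).mp (hb₃G z)
    have e1 : ξ = ξ₀ := by
      by_contra hc
      exact h₀ ξ hc hz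
    have e2 : ξ' = ξ₀ := by
      by_contra hc
      exact h₀ ξ' hc hz'
    exact hne (e1.trans e2.symm)
  · intro z
    obtain ⟨ξ₀, h₀, -⟩ := (hGmem _).mp (hb₃G z)
    exact ⟨ξ₀, (hD₃mem ξ₀ z).mpr h₀⟩

end Decomp

section Core2

variable [IsAlgClosed Ω] [IsFinite f] (η : Spec (CommRingCat.of Ω) ⟶ Y)
  (P : X.Etaleᵒᵖ ⥤ Type w) (hP : Presieve.IsSheaf X.smallEtaleTopology P)

include hP in
set_option backward.isDefEq.respectTransparency.types false in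
/-- Surjectivity core: any family of germs of `P` at the geometric points of `X` over `η` comes from
a section of `P` over `V ×_Y X` for a suitable etale neighbourhood `(V, v)` of `η`. -/
theorem surj_core
    (U : {ξ : Spec (CommRingCat.of Ω) ⟶ X // ξ ≫ f = η} → X.Etale)
    (ū : ∀ ξ : {ξ : Spec (CommRingCat.of Ω) ⟶ X // ξ ≫ f = η},
      (Scheme.pointSmallEtale ξ.1).fiber.obj (U ξ))
    (t : ∀ ξ, P.obj (op (U ξ))) :
    ∃ (V : Y.Etale) (v : (Scheme.pointSmallEtale η).fiber.obj V)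
      (s : P.obj (op ((EtCoh.bc f).obj V))),
      ∀ ξ : {ξ : Spec (CommRingCat.of Ω) ⟶ X // ξ ≫ f = η},
        ∃ (W : X.Etale) (wb : (Scheme.pointSmallEtale ξ.1).fiber.obj W)
          (a : W ⟶ (EtCoh.bc f).obj V) (b : W ⟶ U ξ),
          (Scheme.pointSmallEtale ξ.1).fiber.map a wb = liftPt f ξ.1 η ξ.2 V v ∧
          (Scheme.pointSmallEtale ξ.1).fiber.map b wb = ū ξ ∧
          P.map a.op s = P.map b.op (t ξ) := by
  obtain ⟨V, v, D, hD, ζ, h1, h2, h3, hdisj, hcov⟩ := exists_decomp f η U ū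
  let Ξ := {ξ : Spec (CommRingCat.of Ω) ⟶ X // ξ ≫ f = η}
  let Pj : X.Etale := (EtCoh.bc f).obj V
  have hsndet : Etale (pullback.snd V.hom f) := inferInstance
  let W : Ξ → X.Etale := fun ξ => Scheme.Etale.mk ((D ξ).ι ≫ pullback.snd V.hom f)
  let j : ∀ ξ, W ξ ⟶ Pj := fun ξ => MorphismProperty.Over.homMk (D ξ).ι rfl
  let b : ∀ ξ, W ξ ⟶ U ξ := fun ξ => MorphismProperty.Over.homMk (hD ξ) (h1 ξ)
  have hmono : ∀ ξ, Mono (j ξ).left := fun ξ => inferInstanceAs (Mono (D ξ).ι)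
  have hdisj' : ∀ ξ ξ', ξ ≠ ξ' → ∀ (x : (W ξ).left) (y : (W ξ').left),
      (j ξ).left x ≠ (j ξ').left y := by
    intro ξ ξ' hne x y hxy
    have hx : (D ξ).ι x ∈ D ξ := x.2
    have hy : (D ξ').ι y ∈ D ξ' := y.2
    have e : (D ξ).ι x = (D ξ').ι y := hxy
    rw [← e] at hy
    exact hdisj ξ ξ' hne _ hx hy
  have hcov' : ∀ z : Pj.left, ∃ ξ, ∃ x : (W ξ).left, (j ξ).left x = z := by
    intro z
    obtain ⟨ξ, hz⟩ := hcov z
    exact ⟨ξ, ⟨z, hz⟩, rfl⟩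
  obtain ⟨s, hs, -⟩ := exists_unique_glue P hP W j hmono hdisj' hcov'
    (fun ξ => P.map (b ξ).op (t ξ))
  have hζ : ∀ ξ : Ξ, ζ ξ ≫ (D ξ).ι ≫ pullback.snd V.hom f = ξ.1 := by
    intro ξ
    rw [reassoc_of% h2 ξ]
    exact liftPt_left_snd f ξ.1 η ξ.2 V v
  refine ⟨V, v, s, fun ξ => ⟨W ξ, Over.homMk (ζ ξ) (hζ ξ), j ξ, b ξ, ?_, ?_, hs ξ⟩⟩
  · apply Over.OverMorphism.ext
    exact h2 ξ
  · apply Over.OverMorphism.ext
    exact h3 ξ

end Core2

section CorePt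

variable [IsSepClosed Ω] [IsFinite f] (η : Spec (CommRingCat.of Ω) ⟶ Y)
  (P : X.Etaleᵒᵖ ⥤ Type w) (hP : Presieve.IsSheaf X.smallEtaleTopology P)

include hP in
set_option backward.isDefEq.respectTransparency.types false in
/-- Point version of `inj_core` (no algebraic closedness needed): two sections of `P` over `V ×_Y X`
which agree etale locally around every point of the fibre over the image of `v` agree after
shrinking `(V, v)`. -/
theorem inj_core_pt (V : Y.Etale) (v : (Scheme.pointSmallEtale η).fiber.obj V)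
    (s t : P.obj (op ((EtCoh.bc f).obj V)))
    (H : ∀ x : ↥(pullback V.hom f), (pullback.fst V.hom f) x =
        (v.left : Spec (CommRingCat.of Ω) ⟶ V.left) (default : Spec (CommRingCat.of Ω)) →
      ∃ (W : X.Etale) (a : W ⟶ (EtCoh.bc f).obj V) (y : W.left),
        (a.left : W.left ⟶ pullback V.hom f) y = x ∧ P.map a.op s = P.map a.op t) :
    ∃ (V' : Y.Etale) (k : V' ⟶ V) (v' : (Scheme.pointSmallEtale η).fiber.obj V'),
      (Scheme.pointSmallEtale η).fiber.map k v' = v ∧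
      P.map ((EtCoh.bc f).map k).op s = P.map ((EtCoh.bc f).map k).op t := by
  obtain ⟨v₀, hv₀⟩ : ∃ v₀ : Spec (CommRingCat.of Ω) ⟶ V.left, v₀ = v.left := ⟨_, rfl⟩
  let fV : pullback V.hom f ⟶ V.left := pullback.fst V.hom f
  have hfin : IsFinite fV := MorphismProperty.pullback_fst (P := @IsFinite) _ _ ‹_›
  let Ξ := {x : ↥(pullback V.hom f) // fV x = v₀ default}
  have H' : ∀ x : Ξ, ∃ (W : X.Etale) (a : W ⟶ (EtCoh.bc f).obj V) (y : W.left),
      (a.left : W.left ⟶ pullback V.hom f) y = x.1 ∧ P.map a.op s = P.map a.op t :=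
    fun x => H x.1 (by rw [← hv₀]; exact x.2)
  choose W a y hay hast using H'
  let E : Ξ → Scheme.{u} := fun x => (W x).left
  let e : ∀ x : Ξ, E x ⟶ pullback V.hom f := fun x => (a x).left
  have het : ∀ x : Ξ, Etale (e x) := fun x => inferInstanceAs (Etale (a x).left)
  have hcov : ∀ x : ↥(pullback V.hom f), fV x = v₀ default → ∃ ξ : Ξ, x ∈ Set.range (e ξ) :=
    fun x hx => ⟨⟨x, hx⟩, y ⟨x, hx⟩, hay ⟨x, hx⟩⟩
  obtain ⟨S', g, s', hg, hs', Hgood⟩ := good_everywhere (E := E) (e := e) fV (v₀ default) hcov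
  obtain ⟨l, hl, -⟩ := Scheme.exists_fac_of_etale_of_isSepClosed g v₀ s' hs'
  let V' : Y.Etale := Scheme.Etale.mk (g ≫ V.hom)
  let k : V' ⟶ V := MorphismProperty.Over.homMk g rfl
  have hlη : l ≫ g ≫ V.hom = η := by
    rw [reassoc_of% hl, hv₀]
    exact Over.w v
  let v' : (Scheme.pointSmallEtale η).fiber.obj V' := Over.homMk l hlη
  refine ⟨V', k, v', ?_, ?_⟩
  · apply Over.OverMorphism.ext
    exact hl.trans hv₀
  · obtain ⟨bm, hbm⟩ : ∃ bm : pullback V'.hom f ⟶ pullback V.hom f,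
        bm = ((EtCoh.bc f).map k).left := ⟨_, rfl⟩
    have hbm1 : bm ≫ fV = pullback.fst V'.hom f ≫ g := by
      rw [hbm]; exact bc_map_left_fst f k
    have hbm2 : bm ≫ pullback.snd V.hom f = pullback.snd V'.hom f := by
      rw [hbm]; exact bc_map_left_snd f k
    let m : pullback V'.hom f ⟶ pullback fV g := pullback.lift bm (pullback.fst V'.hom f) hbm1
    have hm1 : m ≫ pullback.fst fV g = bm := pullback.lift_fst _ _ _
    have hgood : ∀ z : ↥(pullback V'.hom f), GoodAt E e bm z := fun z =>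
      ((Hgood (m z)).baseChange m).congr hm1
    let Pj : X.Etale := (EtCoh.bc f).obj V'
    let x₁ : P.obj (op Pj) := P.map ((EtCoh.bc f).map k).op s
    let x₂ : P.obj (op Pj) := P.map ((EtCoh.bc f).map k).op t
    let R : Sieve Pj :=
      { arrows := fun W' g' => P.map g'.op x₁ = P.map g'.op x₂
        downward_closed := by
          intro W₁ W₂ g₁ hg₁ g₂
          change P.map (g₂ ≫ g₁).op x₁ = P.map (g₂ ≫ g₁).op x₂
          rw [op_comp, Functor.map_comp, ConcreteCategory.comp_apply,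
            ConcreteCategory.comp_apply, hg₁] }
    have hR : R ∈ X.smallEtaleTopology Pj := by
      rw [mem_smallEtale_iff]
      intro z
      obtain ⟨N, ξ, hN, hz, hh⟩ := hgood z
      have hPjet : Etale (pullback.snd V'.hom f) := inferInstance
      have hNet : Etale (N.ι ≫ pullback.snd V'.hom f) := inferInstance
      let W' : X.Etale := Scheme.Etale.mk (N.ι ≫ pullback.snd V'.hom f)
      let g' : W' ⟶ Pj := MorphismProperty.Over.homMk N.ι rfl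
      have hb : hN ≫ (W ξ).hom = N.ι ≫ Pj.hom := by
        have e1 : (a ξ).left ≫ pullback.snd V.hom f = (W ξ).hom :=
          Over.w (a ξ).hom
        exact (hN ≫= e1.symm).trans ((Category.assoc _ _ _).symm.trans
          ((hh =≫ pullback.snd V.hom f).trans ((Category.assoc _ _ _).trans (N.ι ≫= hbm2))))
      let b : W' ⟶ W ξ := MorphismProperty.Over.homMk hN hb
      have hcomm : g' ≫ (EtCoh.bc f).map k = b ≫ a ξ := by
        apply MorphismProperty.Over.Hom.ext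
        change N.ι ≫ ((EtCoh.bc f).map k).left = hN ≫ (a ξ).left
        rw [← hbm]
        exact hh.symm
      refine ⟨W', g', ⟨z, hz⟩, ?_, rfl⟩
      change P.map g'.op (P.map ((EtCoh.bc f).map k).op s) =
        P.map g'.op (P.map ((EtCoh.bc f).map k).op t)
      rw [← ConcreteCategory.comp_apply, ← ConcreteCategory.comp_apply, ← Functor.map_comp,
        ← op_comp, hcomm, op_comp, Functor.map_comp, ConcreteCategory.comp_apply,
        ConcreteCategory.comp_apply, hast ξ]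
    exact (hP R hR).isSeparatedFor.ext (fun W' g' hg' => hg')

end CorePt

end Groth.Agent.Lib.T2H8StalkFiniteCore
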