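import Mathlib
import Groth.Prelude.Def_EtBase
import Groth.Agent.Lib.T2H8StalkFiniteCore

/-!
# The stalk formula for the direct image along a finite morphism (helper8)

For `f : X ⟶ Y` finite and `η` a geometric point of `Y` with algebraically closed field, the maps
`θ ξ : (f_* P)_η ⟶ P_ξ` (`ξ` over `η`) are jointly bijective for sheaves with values in a suitable
concrete category.
-/

set_option autoImplicit false
universe u

open CategoryTheory CategoryTheory.Limits AlgebraicGeometry Opposite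

namespace Groth.Agent.Lib.T2H8StalkFinite

open Groth.Agent.Lib.T2H8StalkFiniteCore

variable {X Y : Scheme.{u}} (f : X ⟶ Y) {Ω : Type u} [Field Ω]
variable {A : Type (u + 2)} [Category.{u + 1} A] [HasColimitsOfSize.{u, u} A]

section Defs

variable [IsSepClosed Ω]

set_option backward.isDefEq.respectTransparency.types false in
/-- the canonical map from the stalk of the direct image at `η` to the stalk at `ξ` over `η`. -/
noncomputable def θ (ξ : Spec (CommRingCat.of Ω) ⟶ X) (η : Spec (CommRingCat.of Ω) ⟶ Y)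
    (h : ξ ≫ f = η) (P : X.Etaleᵒᵖ ⥤ A) :
    (Scheme.pointSmallEtale η).presheafFiber.obj ((EtCoh.bc f).op ⋙ P) ⟶
      (Scheme.pointSmallEtale ξ).presheafFiber.obj P :=
  (Scheme.pointSmallEtale η).presheafFiberDesc
    (fun V v => (Scheme.pointSmallEtale ξ).toPresheafFiber ((EtCoh.bc f).obj V)
      (liftPt f ξ η h V v) P)
    (by
      intro V' V k v'
      rw [← liftPt_map]
      exact (Scheme.pointSmallEtale ξ).toPresheafFiber_w ((EtCoh.bc f).map k) _ P)

set_option backward.isDefEq.respectTransparency.types false in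
@[reassoc]
lemma toPresheafFiber_θ (ξ : Spec (CommRingCat.of Ω) ⟶ X) (η : Spec (CommRingCat.of Ω) ⟶ Y)
    (h : ξ ≫ f = η) (P : X.Etaleᵒᵖ ⥤ A) (V : Y.Etale)
    (v : (Scheme.pointSmallEtale η).fiber.obj V) :
    (Scheme.pointSmallEtale η).toPresheafFiber V v ((EtCoh.bc f).op ⋙ P) ≫ θ f ξ η h P =
      (Scheme.pointSmallEtale ξ).toPresheafFiber ((EtCoh.bc f).obj V) (liftPt f ξ η h V v) P :=
  (Scheme.pointSmallEtale η).toPresheafFiber_presheafFiberDesc _ _ V v

set_option backward.isDefEq.respectTransparency.types false in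
@[reassoc]
lemma θ_naturality (ξ : Spec (CommRingCat.of Ω) ⟶ X) (η : Spec (CommRingCat.of Ω) ⟶ Y)
    (h : ξ ≫ f = η) {P Q : X.Etaleᵒᵖ ⥤ A} (φ : P ⟶ Q) :
    (Scheme.pointSmallEtale η).presheafFiber.map (Functor.whiskerLeft (EtCoh.bc f).op φ) ≫
      θ f ξ η h Q = θ f ξ η h P ≫ (Scheme.pointSmallEtale ξ).presheafFiber.map φ := by
  apply (Scheme.pointSmallEtale η).presheafFiber_hom_ext
  intro V v
  rw [GrothendieckTopology.Point.toPresheafFiber_naturality_assoc, toPresheafFiber_θ,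
    toPresheafFiber_θ_assoc, GrothendieckTopology.Point.toPresheafFiber_naturality]
  rfl

end Defs

section Concrete

variable [IsAlgClosed Ω] [IsFinite f] (η : Spec (CommRingCat.of Ω) ⟶ Y)
variable {FC : A → A → Type*} {CC : A → Type (u + 1)}
  [∀ X Y, FunLike (FC X Y) (CC X) (CC Y)] [ConcreteCategory.{u + 1} A FC]
  [PreservesFilteredColimitsOfSize.{u, u} (forget A)]

set_option backward.isDefEq.respectTransparency.types false in
/-- joint injectivity of the `θ ξ`. -/
theorem θ_jointly_injective (P : X.Etaleᵒᵖ ⥤ A)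
    (hP : Presieve.IsSheaf X.smallEtaleTopology (P ⋙ forget A))
    (p₁ p₂ : ToType ((Scheme.pointSmallEtale η).presheafFiber.obj ((EtCoh.bc f).op ⋙ P)))
    (H : ∀ (ξ : Spec (CommRingCat.of Ω) ⟶ X) (h : ξ ≫ f = η),
      θ f ξ η h P p₁ = θ f ξ η h P p₂) : p₁ = p₂ := by
  obtain ⟨V, v, s₁, s₂, rfl, rfl⟩ :=
    (Scheme.pointSmallEtale η).toPresheafFiber_jointly_surjective₂ p₁ p₂
  have H' : ∀ (ξ : Spec (CommRingCat.of Ω) ⟶ X) (h : ξ ≫ f = η),
      ∃ (W : X.Etale) (a : W ⟶ (EtCoh.bc f).obj V)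
        (wb : (Scheme.pointSmallEtale ξ).fiber.obj W),
        (Scheme.pointSmallEtale ξ).fiber.map a wb = liftPt f ξ η h V v ∧
        (P ⋙ forget A).map a.op s₁ = (P ⋙ forget A).map a.op s₂ := by
    intro ξ h
    have e := H ξ h
    rw [← ConcreteCategory.comp_apply, ← ConcreteCategory.comp_apply, toPresheafFiber_θ] at e
    obtain ⟨W, a, wb, hwb, ha⟩ :=
      ((Scheme.pointSmallEtale ξ).toPresheafFiber_eq_iff' _ _ s₁ s₂).mp e
    exact ⟨W, a, wb, hwb, ha⟩
  obtain ⟨V', k, v', hv', hk⟩ := inj_core f η (P ⋙ forget A) hP V v s₁ s₂ H'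
  exact ((Scheme.pointSmallEtale η).toPresheafFiber_eq_iff' V v s₁ s₂).mpr ⟨V', k, v', hv', hk⟩

set_option backward.isDefEq.respectTransparency.types false in
/-- joint surjectivity of the `θ ξ`. -/
theorem θ_jointly_surjective (P : X.Etaleᵒᵖ ⥤ A)
    (hP : Presieve.IsSheaf X.smallEtaleTopology (P ⋙ forget A))
    (τ : ∀ ξ : {ξ : Spec (CommRingCat.of Ω) ⟶ X // ξ ≫ f = η},
      ToType ((Scheme.pointSmallEtale ξ.1).presheafFiber.obj P)) :
    ∃ p : ToType ((Scheme.pointSmallEtale η).presheafFiber.obj ((EtCoh.bc f).op ⋙ P)),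
      ∀ ξ : {ξ : Spec (CommRingCat.of Ω) ⟶ X // ξ ≫ f = η}, θ f ξ.1 η ξ.2 P p = τ ξ := by
  choose U ū t ht using fun ξ : {ξ : Spec (CommRingCat.of Ω) ⟶ X // ξ ≫ f = η} =>
    (Scheme.pointSmallEtale ξ.1).toPresheafFiber_jointly_surjective (τ ξ)
  obtain ⟨V, v, s, hs⟩ := surj_core f η (P ⋙ forget A) hP U ū t
  refine ⟨(Scheme.pointSmallEtale η).toPresheafFiber V v ((EtCoh.bc f).op ⋙ P) s, ?_⟩
  intro ξ
  obtain ⟨W, wb, a, b, ha, hb, hab⟩ := hs ξ
  rw [← ConcreteCategory.comp_apply, toPresheafFiber_θ, ← ha, ← ht ξ, ← hb,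
    ← (Scheme.pointSmallEtale ξ.1).toPresheafFiber_w_apply a wb P s,
    ← (Scheme.pointSmallEtale ξ.1).toPresheafFiber_w_apply b wb P (t ξ)]
  exact congrArg _ hab

set_option backward.isDefEq.respectTransparency.types false in
/-- the stalk formula: the canonical map from the stalk of the direct image to the product of
the stalks is an isomorphism. -/
theorem isIso_pi_lift_θ [(forget A).ReflectsIsomorphisms] (P : X.Etaleᵒᵖ ⥤ A)
    (hP : Presieve.IsSheaf X.smallEtaleTopology (P ⋙ forget A))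
    [HasProduct (fun ξ : {ξ : Spec (CommRingCat.of Ω) ⟶ X // ξ ≫ f = η} =>
      (Scheme.pointSmallEtale ξ.1).presheafFiber.obj P)]
    [PreservesLimit (Discrete.functor (fun ξ : {ξ : Spec (CommRingCat.of Ω) ⟶ X // ξ ≫ f = η} =>
      (Scheme.pointSmallEtale ξ.1).presheafFiber.obj P)) (forget A)] :
    IsIso (Pi.lift (fun ξ : {ξ : Spec (CommRingCat.of Ω) ⟶ X // ξ ≫ f = η} =>
      θ f ξ.1 η ξ.2 P)) := by
  rw [ConcreteCategory.isIso_iff_bijective]
  let G : {ξ : Spec (CommRingCat.of Ω) ⟶ X // ξ ≫ f = η} → A :=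
    fun ξ => (Scheme.pointSmallEtale ξ.1).presheafFiber.obj P
  constructor
  · intro p₁ p₂ h
    apply θ_jointly_injective f η P hP
    intro ξ hξ
    have e := congrArg (fun y => Pi.π G ⟨ξ, hξ⟩ y) h
    simp only [← ConcreteCategory.comp_apply] at e
    have e' : (Pi.lift fun ξ : {ξ : Spec (CommRingCat.of Ω) ⟶ X // ξ ≫ f = η} =>
        θ f ξ.1 η ξ.2 P) ≫ Pi.π G ⟨ξ, hξ⟩ = θ f ξ η hξ P := Pi.lift_π _ _
    rw [e'] at e
    exact e
  · intro y
    obtain ⟨p, hp⟩ := θ_jointly_surjective f η P hP (fun ξ => Pi.π G ξ y)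
    refine ⟨p, ?_⟩
    apply (Concrete.productEquiv G).injective
    funext ξ
    rw [Concrete.productEquiv_apply_apply, Concrete.productEquiv_apply_apply,
      ← ConcreteCategory.comp_apply, Pi.lift_π]
    exact hp ξ

end Concrete

end Groth.Agent.Lib.T2H8StalkFinite
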