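import Mathlib
import Groth.Prelude.Def_EtBase
import Groth.Agent.S0100
import Groth.Agent.S0101
import Groth.Agent.Lib.Helper16StalkPull
import Groth.Agent.Lib.T2H8StalkFinite
import Groth.Agent.Lib.T2H8StalkAlgClosed

/-!
# Base change for finite morphisms in degree zero (helper8)
-/

set_option autoImplicit false
open CategoryTheory CategoryTheory.Limits AlgebraicGeometry Opposite
universe u

namespace Groth.Agent.Lib.T2H8FiniteBC

open Groth.Agent.S0100 Groth.Agent.S0101 Groth.Agent.Lib.T2H8StalkFiniteCore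
open Groth.Agent.Lib.T2H8StalkFinite Groth.Agent.Lib.Helper16.StalkPull
open Groth.Agent.Lib.Helper16.EtStalk Groth.Agent.Lib.Helper16.SmallEtale

section FiberIso

variable {X Y : Scheme.{u}} (f : X ⟶ Y) {Ω : Type u} [Field Ω] [IsSepClosed Ω]
  (ξ : Spec (CommRingCat.of Ω) ⟶ X)

set_option backward.isDefEq.respectTransparency false in
lemma fiberIso_hom_left (U : Y.Etale)
    (w : (Scheme.pointSmallEtale ξ).fiber.obj ((EtCoh.bc f).obj U)) :
    ((fiberIso f ξ).hom.app U w).left = w.left ≫ pullback.fst U.hom f := by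
  simp [fiberIso, Adjunction.compCoyonedaIso, Over.mapPullbackAdj]
  rfl

set_option backward.isDefEq.respectTransparency false in
lemma fiberIso_inv_left_fst (U : Y.Etale) (u : (Scheme.pointSmallEtale (ξ ≫ f)).fiber.obj U) :
    ((fiberIso f ξ).inv.app U u).left ≫ pullback.fst U.hom f = u.left := by
  rw [← fiberIso_hom_left, Iso.inv_hom_id_app_apply]

set_option backward.isDefEq.respectTransparency.types false in
lemma fiberIso_inv_eq_liftPt (U : Y.Etale) (u : (Scheme.pointSmallEtale (ξ ≫ f)).fiber.obj U) :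
    (fiberIso f ξ).inv.app U u = liftPt f ξ (ξ ≫ f) rfl U u := by
  apply Over.OverMorphism.ext
  apply pullback.hom_ext
  · exact (fiberIso_inv_left_fst f ξ U u).trans (liftPt_left_fst f ξ (ξ ≫ f) rfl U u).symm
  · exact (Over.w ((fiberIso f ξ).inv.app U u)).trans (liftPt_left_snd f ξ (ξ ≫ f) rfl U u).symm

end FiberIso

section Kappa

variable {X Y X' Y' : Scheme.{u}} (f : X ⟶ Y) (g : Y' ⟶ Y) (f' : X' ⟶ Y') (g' : X' ⟶ X)
  (w : g' ≫ f = f' ≫ g)

/-- the comparison morphism `(V ×_Y Y') ×_{Y'} X' ⟶ (V ×_Y X) ×_X X'` of etale `X'`-schemes. -/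
noncomputable def κ (V : Y.Etale) :
    (EtCoh.bc f').obj ((EtCoh.bc g).obj V) ⟶ (EtCoh.bc g').obj ((EtCoh.bc f).obj V) :=
  (MorphismProperty.Over.pullbackComp (P := EtCoh.etaleMP) (Q := ⊤) f' g).inv.app V ≫
    (MorphismProperty.Over.pullbackCongr (P := EtCoh.etaleMP) (Q := ⊤) w).inv.app V ≫
    (MorphismProperty.Over.pullbackComp (P := EtCoh.etaleMP) (Q := ⊤) g' f).hom.app V

set_option backward.isDefEq.respectTransparency.types false in
lemma κ_left_fst_fst (V : Y.Etale) :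
    (κ f g f' g' w V).left ≫ pullback.fst (pullback.snd V.hom f) g' ≫ pullback.fst V.hom f =
      pullback.fst (pullback.snd V.hom g) f' ≫ pullback.fst V.hom g := by
  have h1 := MorphismProperty.Over.pullbackComp_left_fst_fst (P := EtCoh.etaleMP) (Q := ⊤) g' f V
  have h2 := MorphismProperty.Over.pullbackCongr_hom_app_left_fst (P := EtCoh.etaleMP) (Q := ⊤) w V
  have h3 := MorphismProperty.Over.pullbackComp_left_fst_fst (P := EtCoh.etaleMP) (Q := ⊤) f' g V
  have e2 : ((MorphismProperty.Over.pullbackCongr (P := EtCoh.etaleMP) (Q := ⊤) w).inv.app V).left ≫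
      ((MorphismProperty.Over.pullbackCongr (P := EtCoh.etaleMP) (Q := ⊤) w).hom.app V).left = 𝟙 _ :=
    congrArg (fun m => m.left)
      ((MorphismProperty.Over.pullbackCongr (P := EtCoh.etaleMP) (Q := ⊤) w).inv_hom_id_app V)
  have e3 : ((MorphismProperty.Over.pullbackComp (P := EtCoh.etaleMP) (Q := ⊤) f' g).inv.app V).left ≫
      ((MorphismProperty.Over.pullbackComp (P := EtCoh.etaleMP) (Q := ⊤) f' g).hom.app V).left = 𝟙 _ :=
    congrArg (fun m => m.left)
      ((MorphismProperty.Over.pullbackComp (P := EtCoh.etaleMP) (Q := ⊤) f' g).inv_hom_id_app V)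
  have h2' : ((MorphismProperty.Over.pullbackCongr (P := EtCoh.etaleMP) (Q := ⊤) w).inv.app V).left ≫
      pullback.fst V.hom (g' ≫ f) = pullback.fst V.hom (f' ≫ g) :=
    (_ ≫= h2.symm).trans ((Category.assoc _ _ _).symm.trans ((e2 =≫ _).trans (Category.id_comp _)))
  have h3' : ((MorphismProperty.Over.pullbackComp (P := EtCoh.etaleMP) (Q := ⊤) f' g).inv.app V).left ≫
      pullback.fst V.hom (f' ≫ g) =
      pullback.fst (pullback.snd V.hom g) f' ≫ pullback.fst V.hom g :=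
    (_ ≫= h3.symm).trans ((Category.assoc _ _ _).symm.trans ((e3 =≫ _).trans (Category.id_comp _)))
  have hκ : (κ f g f' g' w V).left =
      ((MorphismProperty.Over.pullbackComp (P := EtCoh.etaleMP) (Q := ⊤) f' g).inv.app V).left ≫
      ((MorphismProperty.Over.pullbackCongr (P := EtCoh.etaleMP) (Q := ⊤) w).inv.app V).left ≫
      ((MorphismProperty.Over.pullbackComp (P := EtCoh.etaleMP) (Q := ⊤) g' f).hom.app V).left := rfl
  exact (hκ =≫ _).trans ((Category.assoc _ _ _).trans ((_ ≫= ((Category.assoc _ _ _).trans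
    ((_ ≫= h1).trans h2'))).trans h3'))

end Kappa

section Beta

variable {X Y X' Y' : Scheme.{u}} (f : X ⟶ Y) (g : Y' ⟶ Y) (f' : X' ⟶ Y') (g' : X' ⟶ X)
  (w : g' ≫ f = f' ≫ g) (F : EtCoh.Ab X)

set_option backward.isDefEq.respectTransparency.types false in
/-- the base change map on sections coming from `Y`. -/
lemma baseChange0_unit_apply (V : Y.Etale) (σ : F.obj.obj (op ((EtCoh.bc f).obj V))) :
    (EtCoh.baseChange0 f g f' g' w F).hom.app (op ((EtCoh.bc g).obj V))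
      (((EtCoh.pullPushAdj g).unit.app ((EtCoh.push f).obj F)).hom.app (op V) σ) =
    ((EtCoh.pull g').obj F).obj.map (κ f g f' g' w V).op
      (((EtCoh.pullPushAdj g').unit.app F).hom.app (op ((EtCoh.bc f).obj V)) σ) := by
  let β : (EtCoh.push f).obj F ⟶ (EtCoh.push g).obj ((EtCoh.push f').obj ((EtCoh.pull g').obj F)) :=
    (EtCoh.push f).map ((EtCoh.pullPushAdj g').unit.app F) ≫ (EtCoh.pushComp f g').hom.app _ ≫
      (EtCoh.pushCongr w).hom.app _ ≫ (EtCoh.pushComp g f').inv.app _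
  have h1 : (EtCoh.pullPushAdj g).unit.app _ ≫
      (EtCoh.push g).map (EtCoh.baseChange0 f g f' g' w F) = β :=
    (Adjunction.homEquiv_unit (EtCoh.pullPushAdj g) _ _ _).symm.trans
      (Equiv.apply_symm_apply _ _)
  have h2 := congrArg (fun m => m.hom.app (op V) σ) h1
  refine h2.trans ?_
  let M := (EtCoh.pull g').obj F
  let τ := ((EtCoh.pullPushAdj g').unit.app F).hom.app (op ((EtCoh.bc f).obj V)) σ
  have e0 : β.hom.app (op V) σ =
      ((EtCoh.pushComp g f').inv.app M).hom.app (op V)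
        (((EtCoh.pushCongr w).hom.app M).hom.app (op V)
          (((EtCoh.pushComp f g').hom.app M).hom.app (op V) τ)) := rfl
  have eb : ((EtCoh.pushComp f g').hom.app M).hom.app (op V) =
      M.obj.map ((MorphismProperty.Over.pullbackComp (P := EtCoh.etaleMP) (Q := ⊤) g' f).hom.app V).op :=
    rfl
  have ec : ((EtCoh.pushCongr w).hom.app M).hom.app (op V) =
      M.obj.map ((MorphismProperty.Over.pullbackCongr (P := EtCoh.etaleMP) (Q := ⊤) w).inv.app V).op :=
    rfl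
  have ed : ((EtCoh.pushComp g f').inv.app M).hom.app (op V) =
      M.obj.map ((MorphismProperty.Over.pullbackComp (P := EtCoh.etaleMP) (Q := ⊤) f' g).inv.app V).op :=
    rfl
  refine e0.trans ?_
  rw [eb, ec, ed]
  have hκop : (κ f g f' g' w V).op =
      (((MorphismProperty.Over.pullbackComp (P := EtCoh.etaleMP) (Q := ⊤) g' f).hom.app V).op ≫
        ((MorphismProperty.Over.pullbackCongr (P := EtCoh.etaleMP) (Q := ⊤) w).inv.app V).op) ≫
      ((MorphismProperty.Over.pullbackComp (P := EtCoh.etaleMP) (Q := ⊤) f' g).inv.app V).op := rfl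
  have hM : M.obj.map (κ f g f' g' w V).op =
      (M.obj.map ((MorphismProperty.Over.pullbackComp (P := EtCoh.etaleMP) (Q := ⊤) g' f).hom.app V).op ≫
        M.obj.map ((MorphismProperty.Over.pullbackCongr (P := EtCoh.etaleMP) (Q := ⊤) w).inv.app V).op) ≫
      M.obj.map ((MorphismProperty.Over.pullbackComp (P := EtCoh.etaleMP) (Q := ⊤) f' g).inv.app V).op := by
    exact (congrArg (fun m => M.obj.map m) hκop).trans
      ((M.obj.map_comp _ _).trans ((M.obj.map_comp _ _) =≫ _))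
  exact (congrArg (fun m => (ConcreteCategory.hom m) τ) hM).symm

end Beta

section PT

variable {X Y X' Y' : Scheme.{u}} (f : X ⟶ Y) (g : Y' ⟶ Y) (f' : X' ⟶ Y') (g' : X' ⟶ X)
  (w : g' ≫ f = f' ≫ g) {Ω : Type u} [Field Ω] [IsSepClosed Ω]

set_option backward.isDefEq.respectTransparency.types false in
/-- compatibility of the comparison morphism `κ` with the canonical geometric points. -/
lemma κ_liftPt (η' : Spec (CommRingCat.of Ω) ⟶ Y') (ξ' : Spec (CommRingCat.of Ω) ⟶ X')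
    (hξ' : ξ' ≫ f' = η') (hξ : (ξ' ≫ g') ≫ f = η' ≫ g) (V : Y.Etale)
    (v : (Scheme.pointSmallEtale (η' ≫ g)).fiber.obj V) :
    (Scheme.pointSmallEtale ξ').fiber.map (κ f g f' g' w V)
      (liftPt f' ξ' η' hξ' ((EtCoh.bc g).obj V) (liftPt g η' (η' ≫ g) rfl V v)) =
    liftPt g' ξ' (ξ' ≫ g') rfl ((EtCoh.bc f).obj V) (liftPt f (ξ' ≫ g') (η' ≫ g) hξ V v) := by
  apply Over.OverMorphism.ext
  obtain ⟨v₀, hv₀⟩ : ∃ v₀ : Spec (CommRingCat.of Ω) ⟶ V.left, v₀ = v.left := ⟨_, rfl⟩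
  obtain ⟨a, ha⟩ : ∃ a : Spec (CommRingCat.of Ω) ⟶ pullback V.hom g,
      a = (liftPt g η' (η' ≫ g) rfl V v).left := ⟨_, rfl⟩
  obtain ⟨b, hb⟩ : ∃ b : Spec (CommRingCat.of Ω) ⟶ pullback V.hom f,
      b = (liftPt f (ξ' ≫ g') (η' ≫ g) hξ V v).left := ⟨_, rfl⟩
  obtain ⟨q, hq⟩ : ∃ q : Spec (CommRingCat.of Ω) ⟶ pullback (pullback.snd V.hom g) f',
      q = (liftPt f' ξ' η' hξ' ((EtCoh.bc g).obj V) (liftPt g η' (η' ≫ g) rfl V v)).left :=
    ⟨_, rfl⟩
  have hq1 : q ≫ pullback.fst (pullback.snd V.hom g) f' = a := by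
    rw [hq, ha]
    exact liftPt_left_fst f' ξ' η' hξ' ((EtCoh.bc g).obj V) _
  have hq2 : q ≫ pullback.snd (pullback.snd V.hom g) f' = ξ' := by
    rw [hq]
    exact liftPt_left_snd f' ξ' η' hξ' ((EtCoh.bc g).obj V) _
  obtain ⟨k, hk⟩ : ∃ k : pullback (pullback.snd V.hom g) f' ⟶ pullback (pullback.snd V.hom f) g',
      k = (κ f g f' g' w V).left := ⟨_, rfl⟩
  have hk1 : k ≫ pullback.fst (pullback.snd V.hom f) g' ≫ pullback.fst V.hom f =
      pullback.fst (pullback.snd V.hom g) f' ≫ pullback.fst V.hom g := by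
    rw [hk]
    exact κ_left_fst_fst f g f' g' w V
  have hk2 : k ≫ pullback.snd (pullback.snd V.hom f) g' = pullback.snd (pullback.snd V.hom g) f' := by
    rw [hk]
    exact Over.w (κ f g f' g' w V).hom
  obtain ⟨r, hr⟩ : ∃ r : Spec (CommRingCat.of Ω) ⟶ pullback (pullback.snd V.hom f) g',
      r = (liftPt g' ξ' (ξ' ≫ g') rfl ((EtCoh.bc f).obj V)
        (liftPt f (ξ' ≫ g') (η' ≫ g) hξ V v)).left := ⟨_, rfl⟩
  have hr1 : r ≫ pullback.fst (pullback.snd V.hom f) g' = b := by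
    rw [hr, hb]
    exact liftPt_left_fst g' ξ' (ξ' ≫ g') rfl ((EtCoh.bc f).obj V) _
  have hr2 : r ≫ pullback.snd (pullback.snd V.hom f) g' = ξ' := by
    rw [hr]
    exact liftPt_left_snd g' ξ' (ξ' ≫ g') rfl ((EtCoh.bc f).obj V) _
  have hv1 : a ≫ pullback.fst V.hom g = v₀ := by
    rw [ha, hv₀]
    exact liftPt_left_fst g η' (η' ≫ g) rfl V v
  have hv2 : b ≫ pullback.fst V.hom f = v₀ := by
    rw [hb, hv₀]
    exact liftPt_left_fst f (ξ' ≫ g') (η' ≫ g) hξ V v
  have hv3 : b ≫ pullback.snd V.hom f = ξ' ≫ g' := by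
    rw [hb]
    exact liftPt_left_snd f (ξ' ≫ g') (η' ≫ g) hξ V v
  have key : q ≫ k = r := by
    apply pullback.hom_ext
    · apply pullback.hom_ext
      · rw [Category.assoc, Category.assoc, hk1, reassoc_of% hq1, hv1, Category.assoc,
          reassoc_of% hr1, hv2]
      · rw [Category.assoc, Category.assoc, pullback.condition, reassoc_of% hk2, reassoc_of% hq2,
          Category.assoc, reassoc_of% hr1, hv3]
    · rw [Category.assoc, hk2, hq2, hr2]
  rw [← hr, ← key, hq, hk]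
  rfl

end PT

section KC

variable {X Y X' Y' : Scheme.{u}} (f : X ⟶ Y) (g : Y' ⟶ Y) (f' : X' ⟶ Y') (g' : X' ⟶ X)
  (w : g' ≫ f = f' ≫ g) (F : EtCoh.Ab X) {Ω : Type u} [Field Ω] [IsSepClosed Ω]

set_option backward.isDefEq.respectTransparency.types false in
/-- the key compatibility: on stalks, the base change map corresponds to the identity under the
canonical maps `θ` and the stalk isomorphisms of the pullbacks. -/
lemma key_compat (η' : Spec (CommRingCat.of Ω) ⟶ Y') (ξ' : Spec (CommRingCat.of Ω) ⟶ X')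
    (hξ' : ξ' ≫ f' = η') (hξ : (ξ' ≫ g') ≫ f = η' ≫ g)
    (p : ToType ((EtCoh.stalk (η' ≫ g)).obj ((EtCoh.push f).obj F))) :
    θ f' ξ' η' hξ' ((EtCoh.pull g').obj F).obj
      ((EtCoh.stalk η').map (EtCoh.baseChange0 f g f' g' w F)
        ((stalkPullIso g η').hom.app ((EtCoh.push f).obj F) p)) =
    (stalkPullIso g' ξ').hom.app F (θ f (ξ' ≫ g') (η' ≫ g) hξ F.obj p) := by
  obtain ⟨V, v, σ, rfl⟩ :=
    (Scheme.pointSmallEtale (η' ≫ g)).toPresheafFiber_jointly_surjective p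
  let G := (EtCoh.push f).obj F
  let M := (EtCoh.pull g').obj F
  let v₁ := liftPt g η' (η' ≫ g) rfl V v
  let z := liftPt f (ξ' ≫ g') (η' ≫ g) hξ V v
  let σ₁ := ((EtCoh.pullPushAdj g).unit.app G).hom.app (op V) σ
  let τ := ((EtCoh.pullPushAdj g').unit.app F).hom.app (op ((EtCoh.bc f).obj V)) σ
  have s1 : (stalkPullIso g η').hom.app G
      ((Scheme.pointSmallEtale (η' ≫ g)).toPresheafFiber V v G.obj σ) =
      (Scheme.pointSmallEtale η').toPresheafFiber ((EtCoh.bc g).obj V) v₁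
        ((EtCoh.pull g).obj G).obj σ₁ := by
    have := germ_compat g η' G V v σ
    rw [fiberIso_inv_eq_liftPt] at this
    exact this
  have s2 : (EtCoh.stalk η').map (EtCoh.baseChange0 f g f' g' w F)
      ((Scheme.pointSmallEtale η').toPresheafFiber ((EtCoh.bc g).obj V) v₁
        ((EtCoh.pull g).obj G).obj σ₁) =
      (Scheme.pointSmallEtale η').toPresheafFiber ((EtCoh.bc g).obj V) v₁
        ((EtCoh.push f').obj M).obj
        ((EtCoh.baseChange0 f g f' g' w F).hom.app (op ((EtCoh.bc g).obj V)) σ₁) :=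
    (Scheme.pointSmallEtale η').toPresheafFiber_naturality_apply
      (EtCoh.baseChange0 f g f' g' w F).hom ((EtCoh.bc g).obj V) v₁ σ₁
  have s3 : (EtCoh.baseChange0 f g f' g' w F).hom.app (op ((EtCoh.bc g).obj V)) σ₁ =
      M.obj.map (κ f g f' g' w V).op τ := baseChange0_unit_apply f g f' g' w F V σ
  have s4 : ∀ x, θ f' ξ' η' hξ' M.obj
      ((Scheme.pointSmallEtale η').toPresheafFiber ((EtCoh.bc g).obj V) v₁
        ((EtCoh.push f').obj M).obj x) =
      (Scheme.pointSmallEtale ξ').toPresheafFiber ((EtCoh.bc f').obj ((EtCoh.bc g).obj V))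
        (liftPt f' ξ' η' hξ' ((EtCoh.bc g).obj V) v₁) M.obj x := fun x =>
    ConcreteCategory.congr_hom (toPresheafFiber_θ f' ξ' η' hξ' M.obj ((EtCoh.bc g).obj V) v₁) x
  have s5 : (Scheme.pointSmallEtale ξ').toPresheafFiber ((EtCoh.bc f').obj ((EtCoh.bc g).obj V))
        (liftPt f' ξ' η' hξ' ((EtCoh.bc g).obj V) v₁) M.obj (M.obj.map (κ f g f' g' w V).op τ) =
      (Scheme.pointSmallEtale ξ').toPresheafFiber ((EtCoh.bc g').obj ((EtCoh.bc f).obj V))
        ((Scheme.pointSmallEtale ξ').fiber.map (κ f g f' g' w V)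
          (liftPt f' ξ' η' hξ' ((EtCoh.bc g).obj V) v₁)) M.obj τ :=
    (Scheme.pointSmallEtale ξ').toPresheafFiber_w_apply (κ f g f' g' w V) _ M.obj τ
  have s6 := κ_liftPt f g f' g' w η' ξ' hξ' hξ V v
  have r1 : θ f (ξ' ≫ g') (η' ≫ g) hξ F.obj
      ((Scheme.pointSmallEtale (η' ≫ g)).toPresheafFiber V v G.obj σ) =
      (Scheme.pointSmallEtale (ξ' ≫ g')).toPresheafFiber ((EtCoh.bc f).obj V) z F.obj σ :=
    ConcreteCategory.congr_hom (toPresheafFiber_θ f (ξ' ≫ g') (η' ≫ g) hξ F.obj V v) σ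
  have r2 : (stalkPullIso g' ξ').hom.app F
      ((Scheme.pointSmallEtale (ξ' ≫ g')).toPresheafFiber ((EtCoh.bc f).obj V) z F.obj σ) =
      (Scheme.pointSmallEtale ξ').toPresheafFiber ((EtCoh.bc g').obj ((EtCoh.bc f).obj V))
        (liftPt g' ξ' (ξ' ≫ g') rfl ((EtCoh.bc f).obj V) z) M.obj τ := by
    have := germ_compat g' ξ' F ((EtCoh.bc f).obj V) z σ
    rw [fiberIso_inv_eq_liftPt] at this
    exact this
  refine Eq.trans ?_ ((congrArg _ r1).trans r2).symm
  refine (congrArg _ ((congrArg _ s1).trans s2)).trans ?_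
  rw [s3]
  refine (s4 _).trans ?_
  refine s5.trans ?_
  rw [s6]

end KC

section Main

variable {X Y X' Y' : Scheme.{u}} (f : X ⟶ Y) [IsFinite f] (g : Y' ⟶ Y) (f' : X' ⟶ Y')
  (g' : X' ⟶ X) (h : IsPullback g' f' f g) (F : EtCoh.Ab X)

lemma isSheaf_forget {Z : Scheme.{u}} (G : EtCoh.Ab Z) :
    Presieve.IsSheaf Z.smallEtaleTopology (G.obj ⋙ forget AddCommGrpCat.{u + 1}) :=
  (isSheaf_iff_isSheaf_of_type _ _).mp
    ((Presheaf.isSheaf_iff_isSheaf_forget _ _ (forget AddCommGrpCat.{u + 1})).mp G.property)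

/-- transport of an element of a stalk along an equality of geometric points -/
def castStalk {Z : Scheme.{u}} (G : EtCoh.Ab Z) {Ω : Type u} [Field Ω] [IsSepClosed Ω]
    {ζ₁ ζ₂ : Spec (CommRingCat.of Ω) ⟶ Z} (e : ζ₁ = ζ₂)
    (t : ToType ((EtCoh.stalk ζ₁).obj G)) : ToType ((EtCoh.stalk ζ₂).obj G) := e ▸ t

include h in
set_option backward.isDefEq.respectTransparency.types false in
/-- the degree-zero base change map for a finite morphism is an isomorphism. -/
theorem isIso_baseChange0 : IsIso (EtCoh.baseChange0 f g f' g' h.w F) := by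
  apply Groth.Agent.Lib.T2H8StalkAlgClosed.isIso_of_stalks
  intro Ω _ _ η'
  have hf' : IsFinite f' := MorphismProperty.of_isPullback (P := @IsFinite) h ‹_›
  let G := (EtCoh.push f).obj F
  let M := (EtCoh.pull g').obj F
  have hσ : Function.Bijective ((stalkPullIso g η').hom.app G) :=
    ConcreteCategory.bijective_of_isIso _
  have hρ : ∀ ξ' : Spec (CommRingCat.of Ω) ⟶ X',
      Function.Bijective ((stalkPullIso g' ξ').hom.app F) :=
    fun ξ' => ConcreteCategory.bijective_of_isIso _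
  have hlift : ∀ (ξ : Spec (CommRingCat.of Ω) ⟶ X) (hξ : ξ ≫ f = η' ≫ g),
      ∃ ξ' : Spec (CommRingCat.of Ω) ⟶ X', ξ' ≫ g' = ξ ∧ ξ' ≫ f' = η' :=
    fun ξ hξ => ⟨h.lift ξ η' hξ, h.lift_fst _ _ _, h.lift_snd _ _ _⟩
  constructor
  · intro x₁ x₂ hx
    obtain ⟨p₁, rfl⟩ := hσ.2 x₁
    obtain ⟨p₂, rfl⟩ := hσ.2 x₂
    congr 1
    apply θ_jointly_injective f (η' ≫ g) F.obj (isSheaf_forget F) p₁ p₂
    intro ξ hξ
    obtain ⟨ξ', rfl, hξ'⟩ := hlift ξ hξ
    have k1 := key_compat f g f' g' h.w F η' ξ' hξ' hξ p₁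
    have k2 := key_compat f g f' g' h.w F η' ξ' hξ' hξ p₂
    rw [hx] at k1
    exact (hρ ξ').1 (k1.symm.trans k2)
  · intro y
    let T : ∀ (ξ' : Spec (CommRingCat.of Ω) ⟶ X') (_ : ξ' ≫ f' = η'),
        ToType ((EtCoh.stalk (ξ' ≫ g')).obj F) := fun ξ' hξ' =>
      (stalkPullIso g' ξ').inv.app F (θ f' ξ' η' hξ' M.obj y)
    have hT : ∀ (ξ'' ξ' : Spec (CommRingCat.of Ω) ⟶ X') (e : ξ'' = ξ') (h'' : ξ'' ≫ f' = η')
        (h' : ξ' ≫ f' = η') (eq : ξ'' ≫ g' = ξ' ≫ g'),
        castStalk F eq (T ξ'' h'') = T ξ' h' := by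
      intro ξ'' ξ' e h'' h' eq
      subst e
      rfl
    let τ : ∀ ξ : {ξ : Spec (CommRingCat.of Ω) ⟶ X // ξ ≫ f = η' ≫ g},
        ToType ((Scheme.pointSmallEtale ξ.1).presheafFiber.obj F.obj) := fun ξ =>
      castStalk F (h.lift_fst ξ.1 η' ξ.2) (T (h.lift ξ.1 η' ξ.2) (h.lift_snd _ _ _))
    obtain ⟨p, hp⟩ := θ_jointly_surjective f (η' ≫ g) F.obj (isSheaf_forget F) τ
    refine ⟨(stalkPullIso g η').hom.app G p, ?_⟩
    apply θ_jointly_injective f' η' M.obj (isSheaf_forget M)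
    intro ξ' hξ'
    have hξ : (ξ' ≫ g') ≫ f = η' ≫ g := by
      rw [Category.assoc, h.w, reassoc_of% hξ']
    have k := key_compat f g f' g' h.w F η' ξ' hξ' hξ p
    refine k.trans ?_
    have e1 : θ f (ξ' ≫ g') (η' ≫ g) hξ F.obj p = T ξ' hξ' := by
      refine (hp ⟨ξ' ≫ g', hξ⟩).trans ?_
      have e : h.lift (ξ' ≫ g') η' hξ = ξ' := by
        apply h.hom_ext
        · exact h.lift_fst _ _ _
        · exact (h.lift_snd _ _ _).trans hξ'.symm
      exact hT _ _ e _ hξ' _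
    rw [e1]
    exact ConcreteCategory.congr_hom ((stalkPullIso g' ξ').inv_hom_id_app F) _

end Main

end Groth.Agent.Lib.T2H8FiniteBC
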