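import Mathlib
import Groth.Agent.Lib.Helper16SmallEtale

/-!
# A criterion for sheaves on the small etale site (helper8)

A presheaf of types on the small etale site of a scheme is a sheaf iff it is a sheaf for the
Zariski topology on that category and satisfies the sheaf condition for every surjective
morphism of affine etale schemes.
-/

set_option autoImplicit false
open CategoryTheory CategoryTheory.Limits AlgebraicGeometry Opposite
universe w u

namespace Groth.Agent.Lib.T2H8EtZarSheaf

open Groth.Agent.Lib.Helper16.SmallEtale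

/-- the Zariski topology on the small etale site -/
abbrev Zar (X : Scheme.{u}) : GrothendieckTopology X.Etale :=
  X.smallGrothendieckTopology (P := @IsOpenImmersion)

set_option backward.isDefEq.respectTransparency.types false in
lemma mem_zar_iff {X : Scheme.{u}} (U : X.Etale) (R : Sieve U) :
    R ∈ Zar X U ↔
      ∀ x : U.left, ∃ (W : X.Etale) (g : W ⟶ U) (y : W.left),
        R g ∧ IsOpenImmersion g.left ∧ g.left y = x := by
  have hle : (@IsOpenImmersion : MorphismProperty Scheme.{u}) ≤ EtCoh.etaleMP := by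
    intro A B f hf
    exact (inferInstance : Etale f)
  have eX : Zar X =
      (X.smallPretopology (P := @IsOpenImmersion) (Q := EtCoh.etaleMP)).toGrothendieck :=
    Scheme.smallGrothendieckTopology_eq_toGrothendieck_smallPretopology X hle
  rw [eX]
  exact Scheme.mem_toGrothendieck_smallPretopology U R

lemma zar_le_etale (X : Scheme.{u}) : Zar X ≤ X.smallEtaleTopology := by
  intro U R hR
  rw [mem_smallEtale_iff]
  intro x
  obtain ⟨W, g, y, h1, -, h3⟩ := (mem_zar_iff U R).1 hR x
  exact ⟨W, g, y, h1, h3⟩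

set_option backward.isDefEq.respectTransparency.types false in
/-- a covering sieve of a quasi-compact etale scheme contains a finite jointly surjective family
of affines. -/
theorem exists_finite_affine_subfamily {X : Scheme.{u}} (U : X.Etale) [CompactSpace U.left]
    (S : Sieve U) (hS : S ∈ X.smallEtaleTopology U) :
    ∃ (ι : Type u) (_ : Finite ι) (V : ι → X.Etale) (f : ∀ i, V i ⟶ U),
      (∀ i, IsAffine (V i).left) ∧ (∀ i, S (f i)) ∧
      ∀ x : U.left, ∃ (i : ι) (y : (V i).left), (f i).left y = x := by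
  rw [mem_smallEtale_iff] at hS
  choose W g y hg hy using hS
  have hA : ∀ x : U.left, ∃ A : (W x).left.Opens, IsAffineOpen A ∧ y x ∈ A := by
    intro x
    obtain ⟨A, hA, hyA, -⟩ := exists_isAffineOpen_mem_and_subset (x := y x)
      (U := (⊤ : (W x).left.Opens)) trivial
    exact ⟨A, hA, hyA⟩
  choose A hAaff hyA using hA
  let V : U.left → X.Etale := fun x => Scheme.Etale.mk ((A x).ι ≫ (W x).hom)
  let j : ∀ x, V x ⟶ W x := fun x => MorphismProperty.Over.homMk (A x).ι rfl
  let f : ∀ x, V x ⟶ U := fun x => j x ≫ g x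
  have hfS : ∀ x, S (f x) := fun x => S.downward_closed (hg x) (j x)
  have hfet : ∀ x, Etale (f x).left := fun x => inferInstance
  have hopen : ∀ x, IsOpen (Set.range (f x).left) := fun x => (f x).left.isOpenMap.isOpen_range
  have hcov : (Set.univ : Set U.left) ⊆ ⋃ x, Set.range (f x).left := by
    intro x _
    rw [Set.mem_iUnion]
    refine ⟨x, ⟨⟨y x, hyA x⟩, ?_⟩⟩
    change (g x).left ((A x).ι ⟨y x, hyA x⟩) = x
    exact hy x
  obtain ⟨t, ht⟩ := isCompact_univ.elim_finite_subcover _ hopen hcov
  refine ⟨↥t, inferInstance, fun i => V i.1, fun i => f i.1, fun i => hAaff i.1, fun i => hfS i.1, ?_⟩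
  intro x
  have hx := ht (Set.mem_univ x)
  simp only [Set.mem_iUnion] at hx
  obtain ⟨i, hi, y', hy'⟩ := hx
  exact ⟨⟨i, hi⟩, y', hy'⟩

set_option backward.isDefEq.respectTransparency.types false in
/-- the coproduct of a finite family of affine etale schemes over `U`. -/
theorem exists_coprod {X : Scheme.{u}} (U : X.Etale) (ι : Type u) [Finite ι] (V : ι → X.Etale)
    (f : ∀ i, V i ⟶ U) (hV : ∀ i, IsAffine (V i).left)
    (hsurj : ∀ x : U.left, ∃ (i : ι) (y : (V i).left), (f i).left y = x) :
    ∃ (P : X.Etale) (_ : IsAffine P.left) (incl : ∀ i, V i ⟶ P) (g : P ⟶ U),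
      (∀ i, incl i ≫ g = f i) ∧ Surjective g.left ∧
      Sieve.generate (Presieve.ofArrows V incl) ∈ Zar X P := by
  let VL : ι → Scheme.{u} := fun i => (V i).left
  have hdesc : Etale (Sigma.desc fun i => (V i).hom : (∐ VL) ⟶ X) :=
    IsZariskiLocalAtSource.sigmaDesc (P := @Etale) (fun i => inferInstance)
  let P : X.Etale := Scheme.Etale.mk (Sigma.desc fun i => (V i).hom : (∐ VL) ⟶ X)
  let incl : ∀ i, V i ⟶ P := fun i =>
    MorphismProperty.Over.homMk (Sigma.ι VL i) (Sigma.ι_desc _ _)
  have hg : (Sigma.desc (fun i => (f i).left) : (∐ VL) ⟶ U.left) ≫ U.hom =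
      (Sigma.desc fun i => (V i).hom : (∐ VL) ⟶ X) := by
    apply Sigma.hom_ext
    intro i
    rw [Sigma.ι_desc_assoc, Sigma.ι_desc]
    exact Over.w (f i).hom
  let g : P ⟶ U := MorphismProperty.Over.homMk (Sigma.desc fun i => (f i).left) hg
  have hPaff : IsAffine P.left := by
    haveI : ∀ i, IsAffine (VL i) := hV
    change IsAffine (∐ VL)
    infer_instance
  refine ⟨P, hPaff, incl, g, ?_, ?_, ?_⟩
  · intro i
    apply MorphismProperty.Over.Hom.ext
    change Sigma.ι VL i ≫ Sigma.desc (fun i => (f i).left) = (f i).left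
    exact Sigma.ι_desc _ _
  · constructor
    intro x
    obtain ⟨i, y, hy⟩ := hsurj x
    refine ⟨Sigma.ι VL i y, ?_⟩
    change (Sigma.desc fun i => (f i).left : (∐ VL) ⟶ U.left) (Sigma.ι VL i y) = x
    rw [← Scheme.Hom.comp_apply, Sigma.ι_desc]
    exact hy
  · rw [mem_zar_iff]
    intro p
    obtain ⟨i, z, hz⟩ := (sigmaOpenCover VL).exists_eq p
    refine ⟨V i, incl i, z, Sieve.le_generate _ _ _ (Presieve.ofArrows.mk i), ?_, hz⟩
    change IsOpenImmersion (Sigma.ι VL i)
    infer_instance

variable {X : Scheme.{u}}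

/-- the etale scheme attached to an open of an etale scheme -/
noncomputable def opn (U : X.Etale) (A : U.left.Opens) : X.Etale := Scheme.Etale.mk (A.ι ≫ U.hom)

/-- the inclusion of an open -/
noncomputable def opnι (U : X.Etale) (A : U.left.Opens) : opn U A ⟶ U :=
  MorphismProperty.Over.homMk A.ι rfl

/-- the Zariski sieve generated by the affine opens -/
noncomputable def affSieve (U : X.Etale) : Sieve U :=
  Sieve.generate (Presieve.ofArrows (fun A : U.left.affineOpens => opn U A.1)
    (fun A => opnι U A.1))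

set_option backward.isDefEq.respectTransparency.types false in
lemma affSieve_mem (U : X.Etale) : affSieve U ∈ Zar X U := by
  rw [mem_zar_iff]
  intro x
  obtain ⟨A, hA, hxA, -⟩ := exists_isAffineOpen_mem_and_subset (x := x)
    (U := (⊤ : U.left.Opens)) trivial
  refine ⟨opn U A, opnι U A, ⟨x, hxA⟩,
    Sieve.le_generate _ _ _ (Presieve.ofArrows.mk (⟨A, hA⟩ : U.left.affineOpens)), ?_, rfl⟩
  change IsOpenImmersion A.ι
  infer_instance

variable (F : X.Etaleᵒᵖ ⥤ Type w)

set_option backward.isDefEq.respectTransparency.types false in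
/-- separatedness on affines -/
theorem eq_of_affine (hZ : Presieve.IsSheaf (Zar X) F)
    (hA : ∀ (U V : X.Etale) [IsAffine U.left] [IsAffine V.left] (f : V ⟶ U) [Surjective f.left],
      Presieve.IsSheafFor F (Presieve.singleton f))
    (a : X.Etale) [IsAffine a.left] (S : Sieve a) (hS : S ∈ X.smallEtaleTopology a)
    (t₁ t₂ : F.obj (op a)) (h : ∀ ⦃Y : X.Etale⦄ (f : Y ⟶ a), S f → F.map f.op t₁ = F.map f.op t₂) :
    t₁ = t₂ := by
  obtain ⟨ι, _, V, f, hV, hfS, hsurj⟩ := exists_finite_affine_subfamily a S hS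
  obtain ⟨P, hP, incl, g, hig, hg, hmem⟩ := exists_coprod a ι V f hV hsurj
  refine (hA a P g).isSeparatedFor.ext ?_
  rintro Y f' ⟨⟩
  refine (hZ _ hmem).isSeparatedFor.ext ?_
  rintro Y' m ⟨Y'', h', _, ⟨i⟩, rfl⟩
  rw [← FunctorToTypes.map_comp_apply, ← FunctorToTypes.map_comp_apply, ← op_comp, Category.assoc,
    hig]
  rw [op_comp, FunctorToTypes.map_comp_apply, FunctorToTypes.map_comp_apply, h (f i) (hfS i)]

set_option backward.isDefEq.respectTransparency.types false in
/-- Step A: separatedness for all etale covering sieves. -/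
theorem isSeparatedFor (hZ : Presieve.IsSheaf (Zar X) F)
    (hA : ∀ (U V : X.Etale) [IsAffine U.left] [IsAffine V.left] (f : V ⟶ U) [Surjective f.left],
      Presieve.IsSheafFor F (Presieve.singleton f))
    (U : X.Etale) (S : Sieve U) (hS : S ∈ X.smallEtaleTopology U) :
    Presieve.IsSeparatedFor F (S : Presieve U) := by
  intro x t₁ t₂ h₁ h₂
  refine (hZ _ (affSieve_mem U)).isSeparatedFor.ext ?_
  rintro Y m ⟨Y', h', _, ⟨A⟩, rfl⟩
  rw [op_comp, FunctorToTypes.map_comp_apply, FunctorToTypes.map_comp_apply]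
  congr 1
  haveI : IsAffine (opn U A.1).left := A.2
  refine eq_of_affine F hZ hA (opn U A.1) (S.pullback (opnι U A.1))
    (X.smallEtaleTopology.pullback_stable _ hS) _ _ ?_
  intro Y'' f hf
  rw [← FunctorToTypes.map_comp_apply, ← FunctorToTypes.map_comp_apply, ← op_comp,
    h₁ _ hf, h₂ _ hf]


set_option backward.isDefEq.respectTransparency.types false in
/-- Step C: the sheaf condition over affines. -/
theorem isSheafFor_affine (hZ : Presieve.IsSheaf (Zar X) F)
    (hA : ∀ (U V : X.Etale) [IsAffine U.left] [IsAffine V.left] (f : V ⟶ U) [Surjective f.left],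
      Presieve.IsSheafFor F (Presieve.singleton f))
    (a : X.Etale) [IsAffine a.left] (S : Sieve a) (hS : S ∈ X.smallEtaleTopology a) :
    Presieve.IsSheafFor F (S : Presieve a) := by
  obtain ⟨ι, _, V, f, hV, hfS, hsurj⟩ := exists_finite_affine_subfamily a S hS
  obtain ⟨P, hP, incl, g, hig, hg, hmem⟩ := exists_coprod a ι V f hV hsurj
  let S' : Sieve a := Sieve.generate (Presieve.ofArrows V f)
  have hS'le : (S' : Presieve a) ≤ S := by
    rintro Y m ⟨Y', h', _, ⟨i⟩, rfl⟩
    exact S.downward_closed (hfS i) h'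
  have hS'mem : S' ∈ X.smallEtaleTopology a := by
    rw [mem_smallEtale_iff]
    intro x
    obtain ⟨i, y, hy⟩ := hsurj x
    exact ⟨V i, f i, y, Sieve.le_generate _ _ _ (Presieve.ofArrows.mk i), hy⟩
  let R : Sieve a := Sieve.generate (Presieve.singleton g)
  have hRmem : R ∈ X.smallEtaleTopology a := by
    rw [mem_smallEtale_iff]
    intro x
    obtain ⟨y, hy⟩ := hg.surj x
    exact ⟨P, g, y, Sieve.le_generate _ _ _ (Presieve.singleton.mk), hy⟩
  have hS' : Presieve.IsSheafFor F (S' : Presieve a) := by
    refine Presieve.isSheafFor_trans F R S' ?_ ?_ ?_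
    · exact (Presieve.isSheafFor_iff_generate _).1 (hA a P g)
    · intro Y m _
      exact isSeparatedFor F hZ hA Y _ (X.smallEtaleTopology.pullback_stable m hRmem)
    · rintro Y m ⟨Y', h', _, ⟨⟩, rfl⟩
      apply hZ
      refine (Zar X).superset_covering ?_ ((Zar X).pullback_stable h' hmem)
      rintro T k ⟨T', k', _, ⟨i⟩, hk⟩
      change S' (k ≫ h' ≫ g)
      rw [← Category.assoc, ← hk, Category.assoc, hig]
      exact S'.downward_closed (Sieve.le_generate _ _ _ (Presieve.ofArrows.mk i)) k'
  refine Presieve.isSheafFor_subsieve_aux F hS'le hS' ?_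
  intro Y m _
  exact isSeparatedFor F hZ hA Y _ (X.smallEtaleTopology.pullback_stable m hS'mem)


set_option backward.isDefEq.respectTransparency.types false in
/-- Step D: the sheaf condition in general. -/
theorem isSheafFor_general (hZ : Presieve.IsSheaf (Zar X) F)
    (hA : ∀ (U V : X.Etale) [IsAffine U.left] [IsAffine V.left] (f : V ⟶ U) [Surjective f.left],
      Presieve.IsSheafFor F (Presieve.singleton f))
    (U : X.Etale) (S : Sieve U) (hS : S ∈ X.smallEtaleTopology U) :
    Presieve.IsSheafFor F (S : Presieve U) := by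
  rw [← Presieve.isSeparatedFor_and_exists_isAmalgamation_iff_isSheafFor]
  refine ⟨isSeparatedFor F hZ hA U S hS, ?_⟩
  intro x hx
  -- local amalgamations on affine opens
  have hloc : ∀ A : U.left.affineOpens, ∃ s : F.obj (op (opn U A.1)),
      (x.pullback (opnι U A.1)).IsAmalgamation s := by
    intro A
    haveI : IsAffine (opn U A.1).left := A.2
    have h1 := isSheafFor_affine F hZ hA (opn U A.1) (S.pullback (opnι U A.1))
      (X.smallEtaleTopology.pullback_stable _ hS)
    exact ⟨h1.amalgamate _ (hx.pullback _), h1.isAmalgamation _⟩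
  choose s hs using hloc
  have hZaff : Presieve.IsSheafFor F (Presieve.ofArrows (fun A : U.left.affineOpens => opn U A.1)
      (fun A => opnι U A.1)) :=
    (Presieve.isSheafFor_iff_generate _).2 (hZ _ (affSieve_mem U))
  have hcompat : Presieve.Arrows.Compatible F (fun A : U.left.affineOpens => opnι U A.1) s := by
    intro A B Z gA gB hAB
    have hmem : S.pullback (gA ≫ opnι U A.1) ∈ X.smallEtaleTopology Z :=
      X.smallEtaleTopology.pullback_stable _ hS
    refine (isSeparatedFor F hZ hA Z _ hmem).ext ?_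
    intro Z' k hk
    have hkA : (S.pullback (opnι U A.1)) (k ≫ gA) := by
      change S ((k ≫ gA) ≫ opnι U A.1)
      rw [Category.assoc]; exact hk
    have hkB : (S.pullback (opnι U B.1)) (k ≫ gB) := by
      change S ((k ≫ gB) ≫ opnι U B.1)
      rw [Category.assoc, ← hAB]; exact hk
    rw [← FunctorToTypes.map_comp_apply, ← FunctorToTypes.map_comp_apply, ← op_comp, ← op_comp,
      hs A _ hkA, hs B _ hkB]
    change x ((k ≫ gA) ≫ opnι U A.1) _ = x ((k ≫ gB) ≫ opnι U B.1) _
    congr 1
    rw [Category.assoc, Category.assoc, hAB]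
  obtain ⟨t, ht, -⟩ := (Presieve.isSheafFor_arrows_iff _ _).1 hZaff s hcompat
  refine ⟨t, ?_⟩
  intro V f hf
  have hmemV : (affSieve U).pullback f ∈ Zar X V := (Zar X).pullback_stable f (affSieve_mem U)
  refine (hZ _ hmemV).isSeparatedFor.ext ?_
  rintro T k ⟨T', h', _, ⟨A⟩, hk⟩
  have hkS : (S.pullback (opnι U A.1)) h' := by
    change S (h' ≫ opnι U A.1)
    rw [hk]
    exact S.downward_closed hf k
  rw [← FunctorToTypes.map_comp_apply, ← op_comp, ← hk, op_comp, FunctorToTypes.map_comp_apply,
    ht A, hs A _ hkS, ← Presieve.FamilyOfElements.comp_of_compatible S hx hf k]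
  change x (h' ≫ opnι U A.1) _ = x (k ≫ f) _
  congr 1

/-- the criterion: a presheaf on the small etale site is a sheaf iff it is a Zariski sheaf and
satisfies the sheaf condition for surjective morphisms of affines. -/
theorem isSheaf_iff :
    Presieve.IsSheaf X.smallEtaleTopology F ↔
      Presieve.IsSheaf (Zar X) F ∧
        ∀ (U V : X.Etale) [IsAffine U.left] [IsAffine V.left] (f : V ⟶ U) [Surjective f.left],
          Presieve.IsSheafFor F (Presieve.singleton f) := by
  constructor
  · intro hF
    refine ⟨Presieve.isSheaf_of_le F (zar_le_etale X) hF, ?_⟩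
    intro U V _ _ f hf
    rw [Presieve.isSheafFor_iff_generate]
    apply hF
    rw [mem_smallEtale_iff]
    intro x
    obtain ⟨y, hy⟩ := hf.surj x
    exact ⟨V, f, y, Sieve.le_generate _ _ _ (Presieve.singleton.mk), hy⟩
  · rintro ⟨hZ, hA⟩ U S hS
    exact isSheafFor_general F hZ hA U S hS

end Groth.Agent.Lib.T2H8EtZarSheaf
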