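import Mathlib
import Groth.Prelude.Def_EtBase
import Groth.Agent.Lib.T2H8StalkFinite

set_option autoImplicit false
universe u w

open CategoryTheory CategoryTheory.Limits AlgebraicGeometry Opposite

namespace Groth.Agent.Lib.T2H8IntPts

open Groth.Agent.Lib.T2H8StalkFiniteCore Groth.Agent.Lib.T2H8GeomPt
open Groth.Agent.Lib.Helper16.SmallEtale Groth.Agent.Lib.T2H8FiniteSplitPt

variable {Ω : Type u} [Field Ω] [IsAlgClosed Ω]

set_option backward.isDefEq.respectTransparency.types false in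
/-- ring-level: an integral algebra over an algebraically closed field has a retraction with
prescribed prime kernel. -/
theorem exists_retraction (C : CommRingCat.{u}) (φ : CommRingCat.of Ω ⟶ C)
    (hφ : φ.hom.IsIntegral) (z : Spec C) :
    ∃ ψ : C ⟶ CommRingCat.of Ω, φ ≫ ψ = 𝟙 _ ∧ (Spec.map ψ) default = z := by
  let 𝔮 : Ideal C := z.asIdeal
  have h𝔮 : 𝔮.IsPrime := z.isPrime
  let ψ₀ : Ω →+* (C ⧸ 𝔮) := (Ideal.Quotient.mk 𝔮).comp φ.hom
  have hψ₀ : ψ₀.IsIntegral :=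
    RingHom.IsIntegral.trans _ _ hφ (RingHom.isIntegral_of_surjective _ Ideal.Quotient.mk_surjective)
  letI : Algebra Ω (C ⧸ 𝔮) := ψ₀.toAlgebra
  have : Algebra.IsIntegral Ω (C ⧸ 𝔮) := ⟨hψ₀⟩
  have hb : Function.Bijective ψ₀ := IsAlgClosed.algebraMap_bijective_of_isIntegral (k := Ω) (K := C ⧸ 𝔮)
  let e : Ω ≃+* (C ⧸ 𝔮) := RingEquiv.ofBijective ψ₀ hb
  let ψ : C →+* Ω := e.symm.toRingHom.comp (Ideal.Quotient.mk 𝔮)
  refine ⟨CommRingCat.ofHom ψ, ?_, ?_⟩
  · ext x
    change e.symm (ψ₀ x) = x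
    exact e.symm_apply_apply x
  · rw [Spec.map_apply]
    apply PrimeSpectrum.ext
    ext c
    change ψ c ∈ (default : Spec (CommRingCat.of Ω)).asIdeal ↔ c ∈ 𝔮
    have h0 : (default : Spec (CommRingCat.of Ω)).asIdeal = ⊥ := by
      have := (default : Spec (CommRingCat.of Ω)).isPrime
      exact ((Ideal.eq_bot_or_top _).resolve_right this.ne_top)
    rw [h0, Ideal.mem_bot]
    change e.symm (Ideal.Quotient.mk 𝔮 c) = 0 ↔ _
    rw [RingEquiv.map_eq_zero_iff, Ideal.Quotient.eq_zero_iff_mem]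

set_option backward.isDefEq.respectTransparency.types false in
/-- every point of a scheme integral over an algebraically closed field is the image of a section. -/
theorem exists_section_through {Z : Scheme.{u}} (q : Z ⟶ Spec (CommRingCat.of Ω)) [IsIntegralHom q]
    (z : Z) : ∃ ζ : Spec (CommRingCat.of Ω) ⟶ Z, ζ ≫ q = 𝟙 _ ∧ ζ default = z := by
  have : IsAffine Z := isAffine_of_isAffineHom q
  obtain ⟨q', hq'⟩ : ∃ q' : Spec Γ(Z, ⊤) ⟶ Spec (CommRingCat.of Ω), q' = Z.isoSpec.inv ≫ q := ⟨_, rfl⟩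
  have hq'int : IsIntegralHom q' := hq' ▸ inferInstance
  obtain ⟨φ, hφ⟩ : ∃ φ : CommRingCat.of Ω ⟶ Γ(Z, ⊤), Spec.map φ = q' := ⟨Spec.preimage q', Spec.map_preimage _⟩
  have hφint : φ.hom.IsIntegral := by
    rw [← hφ] at hq'int
    exact IsIntegralHom.SpecMap_iff.mp hq'int
  obtain ⟨ψ, hψ1, hψ2⟩ := exists_retraction Γ(Z, ⊤) φ hφint (Z.isoSpec.hom z)
  refine ⟨Spec.map ψ ≫ Z.isoSpec.inv, ?_, ?_⟩
  · rw [Category.assoc, ← hq', ← hφ, ← Spec.map_comp, hψ1, Spec.map_id]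
  · rw [Scheme.Hom.comp_apply, hψ2, ← Scheme.Hom.comp_apply, Iso.hom_inv_id]
    rfl

variable {X Y : Scheme.{u}} (f : X ⟶ Y)

set_option backward.isDefEq.respectTransparency.types false in
/-- lifting a geometric point through a point of the source of an integral morphism. -/
theorem exists_fac_of_isIntegralHom {P S : Scheme.{u}} (g : P ⟶ S) [IsIntegralHom g]
    (s : Spec (CommRingCat.of Ω) ⟶ S) (x : P) (hx : g x = s default) :
    ∃ l : Spec (CommRingCat.of Ω) ⟶ P, l ≫ g = s ∧ l default = x := by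
  obtain ⟨z, hz1, -⟩ := Scheme.Pullback.exists_preimage_pullback x default hx
  obtain ⟨ζ, hζ1, hζ2⟩ := exists_section_through (pullback.snd g s) z
  refine ⟨ζ ≫ pullback.fst g s, ?_, ?_⟩
  · rw [Category.assoc, pullback.condition, reassoc_of% hζ1]
  · rw [Scheme.Hom.comp_apply, hζ2, hz1]

set_option backward.isDefEq.respectTransparency.types false in
/-- every point of `V ×_Y X` over the image of a geometric point `v` of `V` carries a geometric
point of the form `liftPt` (integral case). -/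
theorem exists_liftPt_eq [IsIntegralHom f] (η : Spec (CommRingCat.of Ω) ⟶ Y) (V : Y.Etale)
    (v : (Scheme.pointSmallEtale η).fiber.obj V) (x : ((EtCoh.bc f).obj V).left)
    (hx : (pullback.fst V.hom f) x =
      (v.left : Spec (CommRingCat.of Ω) ⟶ V.left) (default : Spec (CommRingCat.of Ω))) :
    ∃ (ξ : Spec (CommRingCat.of Ω) ⟶ X) (h : ξ ≫ f = η),
      ((liftPt f ξ η h V v).left : Spec (CommRingCat.of Ω) ⟶ pullback V.hom f)
        (default : Spec (CommRingCat.of Ω)) = x := by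
  let fV : pullback V.hom f ⟶ V.left := pullback.fst V.hom f
  have hint : IsIntegralHom fV := MorphismProperty.pullback_fst (P := @IsIntegralHom) _ _ ‹_›
  obtain ⟨l, hl, hlx⟩ := exists_fac_of_isIntegralHom fV v.left x hx
  have hξ : (l ≫ pullback.snd V.hom f) ≫ f = η := by
    rw [Category.assoc, ← pullback.condition, reassoc_of% hl]
    exact Over.w v
  refine ⟨l ≫ pullback.snd V.hom f, hξ, ?_⟩
  have e : (liftPt f (l ≫ pullback.snd V.hom f) η hξ V v).left = l := by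
    apply pullback.hom_ext
    · exact (liftPt_left_fst f _ η hξ V v).trans hl.symm
    · exact liftPt_left_snd f _ η hξ V v
  rw [e]
  exact hlx

set_option backward.isDefEq.respectTransparency.types false in
/-- shrinking an etale neighbourhood of `η` (Zariski locally) so that its base change lands in a
given open neighbourhood of the fibre. -/
theorem exists_shrink [IsIntegralHom f] (η : Spec (CommRingCat.of Ω) ⟶ Y)
    (V₂ : Y.Etale) (v₂ : (Scheme.pointSmallEtale η).fiber.obj V₂) (E : (pullback V₂.hom f).Opens)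
    (hE : ∀ x : ↥(pullback V₂.hom f), (pullback.fst V₂.hom f) x =
      (v₂.left : Spec (CommRingCat.of Ω) ⟶ V₂.left) (default : Spec (CommRingCat.of Ω)) → x ∈ E) :
    ∃ (V₃ : Y.Etale) (k₃ : V₃ ⟶ V₂) (v₃ : (Scheme.pointSmallEtale η).fiber.obj V₃)
      (l : pullback V₃.hom f ⟶ E),
      (Scheme.pointSmallEtale η).fiber.map k₃ v₃ = v₂ ∧ l ≫ E.ι = ((EtCoh.bc f).map k₃).left := by
  obtain ⟨fV₂, hfV₂⟩ : ∃ fV₂ : pullback V₂.hom f ⟶ V₂.left, fV₂ = pullback.fst V₂.hom f := ⟨_, rfl⟩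
  haveI : IsIntegralHom fV₂ := hfV₂ ▸ MorphismProperty.pullback_fst (P := @IsIntegralHom) _ _ ‹_›
  obtain ⟨v₂l, hv₂l⟩ : ∃ v₂l : Spec (CommRingCat.of Ω) ⟶ V₂.left, v₂l = v₂.left := ⟨_, rfl⟩
  have hcl : IsClosed (fV₂ '' (E : Set ↥(pullback V₂.hom f))ᶜ) :=
    fV₂.isClosedMap _ E.isOpen.isClosed_compl
  let Vo : V₂.left.Opens := ⟨(fV₂ '' (E : Set ↥(pullback V₂.hom f))ᶜ)ᶜ, hcl.isOpen_compl⟩
  have hVoE : fV₂ ⁻¹ᵁ Vo ≤ E := by
    intro q hq
    by_contra hqE
    exact hq ⟨q, hqE, rfl⟩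
  have hv₂mem : v₂l default ∈ Vo := by
    rintro ⟨z, hz, hzp⟩
    apply hz
    apply hE
    rw [← hfV₂, hzp, hv₂l]
    rfl
  obtain ⟨l₃, hl₃⟩ := exists_lift_open v₂l Vo hv₂mem
  let V₃ : Y.Etale := Scheme.Etale.mk (Vo.ι ≫ V₂.hom)
  let k₃ : V₃ ⟶ V₂ := MorphismProperty.Over.homMk Vo.ι rfl
  have hl₃η : l₃ ≫ Vo.ι ≫ V₂.hom = η := by
    rw [reassoc_of% hl₃, hv₂l]
    exact Over.w v₂
  let v₃ : (Scheme.pointSmallEtale η).fiber.obj V₃ := Over.homMk l₃ hl₃η
  have hk₃ : (Scheme.pointSmallEtale η).fiber.map k₃ v₃ = v₂ := by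
    apply Over.OverMorphism.ext
    exact hl₃.trans hv₂l
  obtain ⟨b₃, hb₃⟩ : ∃ b₃ : pullback V₃.hom f ⟶ pullback V₂.hom f,
      b₃ = ((EtCoh.bc f).map k₃).left := ⟨_, rfl⟩
  have hb₃fst : b₃ ≫ fV₂ = pullback.fst V₃.hom f ≫ Vo.ι := by
    rw [hb₃, hfV₂]
    exact bc_map_left_fst f k₃
  have hr : Set.range b₃ ⊆ Set.range E.ι := by
    rintro _ ⟨z, rfl⟩
    rw [Scheme.Opens.range_ι]
    apply hVoE
    change fV₂ (b₃ z) ∈ Vo
    rw [← Scheme.Hom.comp_apply, hb₃fst, Scheme.Hom.comp_apply]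
    exact ((pullback.fst V₃.hom f) z).2
  refine ⟨V₃, k₃, v₃, IsOpenImmersion.lift E.ι b₃ hr, hk₃, ?_⟩
  rw [← hb₃]
  exact IsOpenImmersion.lift_fac _ _ _

section Core

variable [IsIntegralHom f] (η : Spec (CommRingCat.of Ω) ⟶ Y)
  (P : X.Etaleᵒᵖ ⥤ Type w) (hP : Presieve.IsSheaf X.smallEtaleTopology P)

include hP in
set_option backward.isDefEq.respectTransparency.types false in
/-- Injectivity core (integral case): two sections of `P` over `V ×_Y X` with the same germs at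
all geometric points over `v` agree after shrinking `(V, v)`. -/
theorem inj_core (V : Y.Etale) (v : (Scheme.pointSmallEtale η).fiber.obj V)
    (s t : P.obj (op ((EtCoh.bc f).obj V)))
    (H : ∀ (ξ : Spec (CommRingCat.of Ω) ⟶ X) (h : ξ ≫ f = η),
      ∃ (W : X.Etale) (a : W ⟶ (EtCoh.bc f).obj V) (wb : (Scheme.pointSmallEtale ξ).fiber.obj W),
        (Scheme.pointSmallEtale ξ).fiber.map a wb = liftPt f ξ η h V v ∧
        P.map a.op s = P.map a.op t) :
    ∃ (V' : Y.Etale) (k : V' ⟶ V) (v' : (Scheme.pointSmallEtale η).fiber.obj V'),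
      (Scheme.pointSmallEtale η).fiber.map k v' = v ∧
      P.map ((EtCoh.bc f).map k).op s = P.map ((EtCoh.bc f).map k).op t := by
  choose W a wb haw hast using H
  let Ξ := {ξ : Spec (CommRingCat.of Ω) ⟶ X // ξ ≫ f = η}
  let e : ∀ ξ : Ξ, (W ξ.1 ξ.2).left ⟶ pullback V.hom f := fun ξ => (a ξ.1 ξ.2).left
  have het : ∀ ξ : Ξ, Etale (e ξ) := fun ξ => inferInstanceAs (Etale (a ξ.1 ξ.2).left)
  let B : (pullback V.hom f).Opens :=
    ⨆ ξ : Ξ, (⟨Set.range (e ξ), (e ξ).isOpenMap.isOpen_range⟩ : (pullback V.hom f).Opens)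
  have hB : ∀ x : ↥(pullback V.hom f), (pullback.fst V.hom f) x =
      (v.left : Spec (CommRingCat.of Ω) ⟶ V.left) (default : Spec (CommRingCat.of Ω)) → x ∈ B := by
    intro x hx
    obtain ⟨ξ, h, hξx⟩ := exists_liftPt_eq f η V v x hx
    refine TopologicalSpace.Opens.mem_iSup.mpr ⟨⟨ξ, h⟩,
      ((wb ξ h).left : Spec (CommRingCat.of Ω) ⟶ (W ξ h).left)
        (default : Spec (CommRingCat.of Ω)), ?_⟩
    have e1 : (wb ξ h).left ≫ (a ξ h).left = (liftPt f ξ η h V v).left :=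
      congrArg (fun m => m.left) (haw ξ h)
    rw [← hξx, ← e1]
    rfl
  obtain ⟨V', k, v', l, hk, hl⟩ := exists_shrink f η V v B hB
  refine ⟨V', k, v', hk, ?_⟩
  obtain ⟨bm, hbm⟩ : ∃ bm : pullback V'.hom f ⟶ pullback V.hom f,
      bm = ((EtCoh.bc f).map k).left := ⟨_, rfl⟩
  have hbm2 : bm ≫ pullback.snd V.hom f = pullback.snd V'.hom f := by
    rw [hbm]; exact bc_map_left_snd f k
  let Pj : X.Etale := (EtCoh.bc f).obj V'
  let x₁ : P.obj (op Pj) := P.map ((EtCoh.bc f).map k).op s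
  let x₂ : P.obj (op Pj) := P.map ((EtCoh.bc f).map k).op t
  let R : Sieve Pj :=
    { arrows := fun W' g' => P.map g'.op x₁ = P.map g'.op x₂
      downward_closed := by
        intro W₁ W₂ g₁ hg₁ g₂
        change P.map (g₂ ≫ g₁).op x₁ = P.map (g₂ ≫ g₁).op x₂
        rw [op_comp, Functor.map_comp, ConcreteCategory.comp_apply,
          ConcreteCategory.comp_apply, hg₁] }
  have hR : R ∈ X.smallEtaleTopology Pj := by
    rw [mem_smallEtale_iff]
    intro z
    have hz : bm z ∈ B := by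
      rw [hbm, ← hl, Scheme.Hom.comp_apply]
      exact (l z).2
    obtain ⟨ξ, y, hy⟩ := TopologicalSpace.Opens.mem_iSup.mp hz
    obtain ⟨q, hq1, hq2⟩ := Scheme.Pullback.exists_preimage_pullback (f := e ξ) (g := bm) y z hy
    have hcond : pullback.fst (e ξ) bm ≫ (W ξ.1 ξ.2).hom =
        pullback.snd (e ξ) bm ≫ pullback.snd V'.hom f := by
      have e1 : e ξ ≫ pullback.snd V.hom f = (W ξ.1 ξ.2).hom := Over.w (a ξ.1 ξ.2).hom
      rw [← e1, ← Category.assoc, pullback.condition, Category.assoc, hbm2]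
    have hPjet : Etale (pullback.snd V'.hom f) := inferInstance
    have hW'et : Etale (pullback.snd (e ξ) bm ≫ pullback.snd V'.hom f) := inferInstance
    let W' : X.Etale := Scheme.Etale.mk (pullback.snd (e ξ) bm ≫ pullback.snd V'.hom f)
    let g' : W' ⟶ Pj := MorphismProperty.Over.homMk (pullback.snd (e ξ) bm) rfl
    let b : W' ⟶ W ξ.1 ξ.2 := MorphismProperty.Over.homMk (pullback.fst (e ξ) bm) hcond
    have hcomm : g' ≫ (EtCoh.bc f).map k = b ≫ a ξ.1 ξ.2 := by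
      apply MorphismProperty.Over.Hom.ext
      change pullback.snd (e ξ) bm ≫ ((EtCoh.bc f).map k).left = pullback.fst (e ξ) bm ≫ e ξ
      rw [← hbm]
      exact pullback.condition.symm
    refine ⟨W', g', q, ?_, hq2⟩
    change P.map g'.op (P.map ((EtCoh.bc f).map k).op s) =
      P.map g'.op (P.map ((EtCoh.bc f).map k).op t)
    rw [← ConcreteCategory.comp_apply, ← ConcreteCategory.comp_apply, ← Functor.map_comp,
      ← op_comp, hcomm, op_comp, Functor.map_comp, ConcreteCategory.comp_apply,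
      ConcreteCategory.comp_apply, hast ξ.1 ξ.2]
  exact (hP R hR).isSeparatedFor.ext (fun W' g' hg' => hg')

end Core

section Concrete

open Groth.Agent.Lib.T2H8StalkFinite

variable {A : Type (u + 2)} [Category.{u + 1} A] [HasColimitsOfSize.{u, u} A]
variable [IsIntegralHom f] (η : Spec (CommRingCat.of Ω) ⟶ Y)
variable {FC : A → A → Type*} {CC : A → Type (u + 1)}
  [∀ X Y, FunLike (FC X Y) (CC X) (CC Y)] [ConcreteCategory.{u + 1} A FC]
  [PreservesFilteredColimitsOfSize.{u, u} (forget A)]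

set_option backward.isDefEq.respectTransparency.types false in
/-- joint injectivity of the `θ ξ` for an integral morphism. -/
theorem θ_jointly_injective (P : X.Etaleᵒᵖ ⥤ A)
    (hP : Presieve.IsSheaf X.smallEtaleTopology (P ⋙ forget A))
    (p₁ p₂ : ToType ((Scheme.pointSmallEtale η).presheafFiber.obj ((EtCoh.bc f).op ⋙ P)))
    (H : ∀ (ξ : Spec (CommRingCat.of Ω) ⟶ X) (h : ξ ≫ f = η),
      θ f ξ η h P p₁ = θ f ξ η h P p₂) : p₁ = p₂ := by
  obtain ⟨V, v, s₁, s₂, rfl, rfl⟩ :=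
    (Scheme.pointSmallEtale η).toPresheafFiber_jointly_surjective₂ p₁ p₂
  have H' : ∀ (ξ : Spec (CommRingCat.of Ω) ⟶ X) (h : ξ ≫ f = η),
      ∃ (W : X.Etale) (a : W ⟶ (EtCoh.bc f).obj V)
        (wb : (Scheme.pointSmallEtale ξ).fiber.obj W),
        (Scheme.pointSmallEtale ξ).fiber.map a wb = liftPt f ξ η h V v ∧
        (P ⋙ forget A).map a.op s₁ = (P ⋙ forget A).map a.op s₂ := by
    intro ξ h
    have e := H ξ h
    rw [← ConcreteCategory.comp_apply, ← ConcreteCategory.comp_apply, toPresheafFiber_θ] at e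
    obtain ⟨W, a, wb, hwb, ha⟩ :=
      ((Scheme.pointSmallEtale ξ).toPresheafFiber_eq_iff' _ _ s₁ s₂).mp e
    exact ⟨W, a, wb, hwb, ha⟩
  obtain ⟨V', k, v', hv', hk⟩ := inj_core f η (P ⋙ forget A) hP V v s₁ s₂ H'
  exact ((Scheme.pointSmallEtale η).toPresheafFiber_eq_iff' V v s₁ s₂).mpr ⟨V', k, v', hv', hk⟩

end Concrete

end Groth.Agent.Lib.T2H8IntPts
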