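import Mathlib
import Groth.Prelude.Def_EtBase
import Groth.Agent.Lib.T2H8IntPts

set_option autoImplicit false
universe u w

open CategoryTheory CategoryTheory.Limits AlgebraicGeometry Opposite

namespace Groth.Agent.Lib.T2H8IntSep

open Groth.Agent.Lib.T2H8StalkFiniteCore Groth.Agent.Lib.T2H8GeomPt
open Groth.Agent.Lib.Helper16.SmallEtale Groth.Agent.Lib.T2H8FiniteSplitPt

variable {Ω : Type u} [Field Ω]

set_option backward.isDefEq.respectTransparency.types false in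
/-- affine case: two distinct geometric points of the source of an integral morphism of affine
schemes are separated by a finite (monogenic) intermediate scheme. -/
theorem sep_affine {X₀ Y₀ : Scheme.{u}} [IsAffine X₀] [IsAffine Y₀] (f₀ : X₀ ⟶ Y₀)
    [IsIntegralHom f₀] (ξ₁ ξ₂ : Spec (CommRingCat.of Ω) ⟶ X₀) (hne : ξ₁ ≠ ξ₂) :
    ∃ (T : Scheme.{u}) (c : X₀ ⟶ T) (t : T ⟶ Y₀), IsFinite t ∧ c ≫ t = f₀ ∧ ξ₁ ≫ c ≠ ξ₂ ≫ c := by
  have hne' : ξ₁.appTop ≠ ξ₂.appTop := fun e => hne (ext_of_isAffine e)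
  obtain ⟨b, hb⟩ : ∃ b : Γ(X₀, ⊤), ξ₁.appTop.hom b ≠ ξ₂.appTop.hom b := by
    by_contra hcon
    push_neg at hcon
    exact hne' (CommRingCat.hom_ext (RingHom.ext hcon))
  have hint : (f₀.appTop).hom.IsIntegral :=
    IsIntegralHom.isIntegral_app f₀ ⊤ (isAffineOpen_top _)
  obtain ⟨p, hpm, hp⟩ := hint b
  let S : CommRingCat.{u} := CommRingCat.of (AdjoinRoot p)
  let φ : Γ(Y₀, ⊤) ⟶ S := CommRingCat.ofHom (AdjoinRoot.of p)
  let χ : S ⟶ Γ(X₀, ⊤) := CommRingCat.ofHom (AdjoinRoot.lift f₀.appTop.hom b hp)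
  have hφχ : φ ≫ χ = f₀.appTop := by
    ext x
    exact AdjoinRoot.lift_of hp
  have hfin : IsFinite (Spec.map φ) := by
    rw [IsFinite.SpecMap_iff]
    have : Module.Finite Γ(Y₀, ⊤) (AdjoinRoot p) := hpm.finite_adjoinRoot
    exact RingHom.finite_algebraMap.mpr this
  refine ⟨Spec S, X₀.toSpecΓ ≫ Spec.map χ, Spec.map φ ≫ Y₀.isoSpec.inv, inferInstance, ?_, ?_⟩
  · rw [Category.assoc, ← Spec.map_comp_assoc, hφχ, ← Scheme.toSpecΓ_naturality_assoc]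
    have h1 : Y₀.toSpecΓ ≫ Y₀.isoSpec.inv = 𝟙 Y₀ := Y₀.isoSpec.hom_inv_id
    rw [h1, Category.comp_id]
  · intro e
    rw [← Category.assoc, ← Category.assoc, Scheme.toSpecΓ_naturality, Scheme.toSpecΓ_naturality,
      Category.assoc, Category.assoc, ← Spec.map_comp, ← Spec.map_comp] at e
    have e' := Spec.map_injective ((cancel_epi _).mp e)
    apply hb
    have e2 := congrArg (fun m => m.hom (AdjoinRoot.root p)) e'
    simp only [CommRingCat.hom_comp, RingHom.comp_apply] at e2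
    have hroot : χ.hom (AdjoinRoot.root p) = b := AdjoinRoot.lift_root hp
    rw [hroot] at e2
    exact e2

variable [IsSepClosed Ω]

set_option backward.isDefEq.respectTransparency.types false in
/-- separation: two distinct geometric points of `X` over the same geometric point `η` of `Y`
(`f : X ⟶ Y` integral) are separated by a clopen subset of `V ×_Y X` for a suitable etale
neighbourhood `(V, v)` of `η`. -/
theorem exists_separating_clopen {X Y : Scheme.{u}} (f : X ⟶ Y) [IsIntegralHom f]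
    (η : Spec (CommRingCat.of Ω) ⟶ Y) (ξ₁ ξ₂ : Spec (CommRingCat.of Ω) ⟶ X)
    (h₁ : ξ₁ ≫ f = η) (h₂ : ξ₂ ≫ f = η) (hne : ξ₁ ≠ ξ₂) :
    ∃ (V : Y.Etale) (v : (Scheme.pointSmallEtale η).fiber.obj V) (D : (pullback V.hom f).Opens),
      IsClosed (D : Set ↥(pullback V.hom f)) ∧
      ((liftPt f ξ₁ η h₁ V v).left : Spec (CommRingCat.of Ω) ⟶ pullback V.hom f)
        (default : Spec (CommRingCat.of Ω)) ∈ D ∧
      ((liftPt f ξ₂ η h₂ V v).left : Spec (CommRingCat.of Ω) ⟶ pullback V.hom f)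
        (default : Spec (CommRingCat.of Ω)) ∉ D := by
  obtain ⟨Y₀, hY₀, hyY₀, -⟩ := exists_isAffineOpen_mem_and_subset (x := η default)
    (U := (⊤ : Y.Opens)) trivial
  have : IsAffine (Y₀ : Scheme.{u}) := hY₀
  let X₀ : X.Opens := f ⁻¹ᵁ Y₀
  let f₀ : (X₀ : Scheme.{u}) ⟶ Y₀ := f ∣_ Y₀
  have hX₀ : IsAffine (X₀ : Scheme.{u}) := isAffine_of_isAffineHom f₀
  have hf₀ : f₀ ≫ Y₀.ι = X₀.ι ≫ f := morphismRestrict_ι f Y₀
  have hm₁ : ξ₁ default ∈ X₀ := by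
    change f (ξ₁ default) ∈ Y₀
    rw [← Scheme.Hom.comp_apply, h₁]; exact hyY₀
  have hm₂ : ξ₂ default ∈ X₀ := by
    change f (ξ₂ default) ∈ Y₀
    rw [← Scheme.Hom.comp_apply, h₂]; exact hyY₀
  obtain ⟨ξ₁', hξ₁'⟩ := exists_lift_open ξ₁ X₀ hm₁
  obtain ⟨ξ₂', hξ₂'⟩ := exists_lift_open ξ₂ X₀ hm₂
  obtain ⟨η₀, hη₀⟩ := exists_lift_open η Y₀ hyY₀
  have hne' : ξ₁' ≠ ξ₂' := fun e => hne (by rw [← hξ₁', ← hξ₂', e])
  obtain ⟨T, c, t, ht, hct, hcne⟩ := sep_affine f₀ ξ₁' ξ₂' hne'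
  obtain ⟨ζ₁, hζ₁⟩ : ∃ ζ₁ : Spec (CommRingCat.of Ω) ⟶ T, ζ₁ = ξ₁' ≫ c := ⟨_, rfl⟩
  obtain ⟨ζ₂, hζ₂⟩ : ∃ ζ₂ : Spec (CommRingCat.of Ω) ⟶ T, ζ₂ = ξ₂' ≫ c := ⟨_, rfl⟩
  have hζ₁η : ζ₁ ≫ t ≫ Y₀.ι = η := by
    rw [hζ₁, Category.assoc, reassoc_of% hct, hf₀, reassoc_of% hξ₁', h₁]
  obtain ⟨S', g', η', T', p, q, hg', hη', sq, D, ξD, hDcl, -, hξD1, hξD2, huniq⟩ :=
    exists_clopen_nbhd t ζ₁ ⊤ trivial
  have hVet : Etale (g' ≫ Y₀.ι) := inferInstance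
  let V : Y.Etale := Scheme.Etale.mk (g' ≫ Y₀.ι)
  have hv : η' ≫ g' ≫ Y₀.ι = η := by rw [reassoc_of% hη', hζ₁η]
  let v : (Scheme.pointSmallEtale η).fiber.obj V := Over.homMk η' hv
  obtain ⟨fst', hfst'⟩ : ∃ m : pullback V.hom f ⟶ S', m = pullback.fst V.hom f := ⟨_, rfl⟩
  obtain ⟨snd', hsnd'⟩ : ∃ m : pullback V.hom f ⟶ X, m = pullback.snd V.hom f := ⟨_, rfl⟩
  have hcond : fst' ≫ g' ≫ Y₀.ι = snd' ≫ f := by
    rw [hfst', hsnd']; exact pullback.condition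
  have hrange : Set.range snd' ⊆ Set.range X₀.ι := by
    rintro _ ⟨z, rfl⟩
    rw [Scheme.Opens.range_ι]
    change f (snd' z) ∈ Y₀
    rw [← Scheme.Hom.comp_apply, ← hcond, Scheme.Hom.comp_apply, Scheme.Hom.comp_apply]
    exact (g' (fst' z)).2
  obtain ⟨r, hr⟩ : ∃ r : pullback V.hom f ⟶ X₀, r ≫ X₀.ι = snd' :=
    ⟨IsOpenImmersion.lift X₀.ι snd' hrange, IsOpenImmersion.lift_fac _ _ _⟩
  have hrt : (r ≫ c) ≫ t = fst' ≫ g' := by
    rw [← cancel_mono Y₀.ι, Category.assoc, Category.assoc, reassoc_of% hct, hf₀, reassoc_of% hr,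
      Category.assoc, hcond]
  obtain ⟨m, hm1, hm2⟩ : ∃ m : pullback V.hom f ⟶ T', m ≫ p = r ≫ c ∧ m ≫ q = fst' :=
    ⟨sq.lift (r ≫ c) fst' hrt, sq.lift_fst _ _ _, sq.lift_snd _ _ _⟩
  refine ⟨V, v, m ⁻¹ᵁ D, hDcl.preimage m.continuous, ?_, ?_⟩
  · obtain ⟨L₁, hL₁⟩ : ∃ L₁ : Spec (CommRingCat.of Ω) ⟶ pullback V.hom f,
        L₁ = (liftPt f ξ₁ η h₁ V v).left := ⟨_, rfl⟩
    have hL₁fst : L₁ ≫ fst' = η' := by
      rw [hL₁, hfst']; exact liftPt_left_fst f ξ₁ η h₁ V v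
    have hL₁snd : L₁ ≫ snd' = ξ₁ := by
      rw [hL₁, hsnd']; exact liftPt_left_snd f ξ₁ η h₁ V v
    have hL₁r : L₁ ≫ r = ξ₁' := by
      rw [← cancel_mono X₀.ι, Category.assoc, hr, hL₁snd, hξ₁']
    have hμ : ξD ≫ D.ι = L₁ ≫ m := by
      apply sq.hom_ext
      · rw [Category.assoc, hξD1, Category.assoc, hm1, reassoc_of% hL₁r, hζ₁]
      · rw [Category.assoc, hξD2, Category.assoc, hm2, hL₁fst]
    rw [← hL₁]
    change m (L₁ default) ∈ D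
    rw [← Scheme.Hom.comp_apply, ← hμ, Scheme.Hom.comp_apply]
    exact (ξD default).2
  · obtain ⟨L₂, hL₂⟩ : ∃ L₂ : Spec (CommRingCat.of Ω) ⟶ pullback V.hom f,
        L₂ = (liftPt f ξ₂ η h₂ V v).left := ⟨_, rfl⟩
    have hL₂fst : L₂ ≫ fst' = η' := by
      rw [hL₂, hfst']; exact liftPt_left_fst f ξ₂ η h₂ V v
    have hL₂snd : L₂ ≫ snd' = ξ₂ := by
      rw [hL₂, hsnd']; exact liftPt_left_snd f ξ₂ η h₂ V v
    have hL₂r : L₂ ≫ r = ξ₂' := by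
      rw [← cancel_mono X₀.ι, Category.assoc, hr, hL₂snd, hξ₂']
    rw [← hL₂]
    intro hmem
    have hmem' : (L₂ ≫ m) default ∈ D := by
      rw [Scheme.Hom.comp_apply]; exact hmem
    obtain ⟨ζ, hζ⟩ := exists_lift_open (L₂ ≫ m) D hmem'
    have hζq : ζ ≫ D.ι ≫ q = η' := by
      rw [reassoc_of% hζ, hm2, hL₂fst]
    have hζD := huniq ζ hζq
    apply hcne
    rw [← hζ₁, ← hζ₂, ← hξD1, ← hζD, reassoc_of% hζ, hm1, reassoc_of% hL₂r, hζ₂]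

end Groth.Agent.Lib.T2H8IntSep
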