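import Mathlib
import Groth.Prelude.Def_EtBase
import Groth.Agent.Lib.T2H8IntSep

set_option autoImplicit false
universe u w

open CategoryTheory CategoryTheory.Limits AlgebraicGeometry Opposite

namespace Groth.Agent.Lib.T2H8IntTC

open Groth.Agent.Lib.T2H8StalkFiniteCore Groth.Agent.Lib.T2H8GeomPt
open Groth.Agent.Lib.Helper16.SmallEtale Groth.Agent.Lib.T2H8FiniteSplitPt
open Groth.Agent.Lib.T2H8IntPts Groth.Agent.Lib.T2H8IntSep

variable {Ω : Type u} [Field Ω]
variable {X Y : Scheme.{u}} (f : X ⟶ Y) (η : Spec (CommRingCat.of Ω) ⟶ Y)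

/-- the geometric fibre. -/
noncomputable abbrev Zf : Scheme.{u} := pullback f η

set_option backward.isDefEq.respectTransparency.types false in
/-- the point of the geometric fibre given by a geometric point over `η`. -/
noncomputable def zpt (ξ : Spec (CommRingCat.of Ω) ⟶ X) (h : ξ ≫ f = η) :
    Spec (CommRingCat.of Ω) ⟶ Zf f η :=
  pullback.lift ξ (𝟙 _) (by rw [h, Category.id_comp])

@[reassoc]
lemma zpt_fst (ξ : Spec (CommRingCat.of Ω) ⟶ X) (h : ξ ≫ f = η) :
    zpt f η ξ h ≫ pullback.fst f η = ξ := pullback.lift_fst _ _ _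

set_option backward.isDefEq.respectTransparency.types false in
@[reassoc]
lemma zpt_snd (ξ : Spec (CommRingCat.of Ω) ⟶ X) (h : ξ ≫ f = η) :
    zpt f η ξ h ≫ pullback.snd f η = 𝟙 _ := pullback.lift_snd _ _ _

section SepClosed

variable [IsSepClosed Ω]

set_option backward.isDefEq.respectTransparency.types false in
/-- the canonical map from the geometric fibre to `V ×_Y X`. -/
noncomputable def lam (V : Y.Etale) (v : (Scheme.pointSmallEtale η).fiber.obj V) :
    Zf f η ⟶ pullback V.hom f :=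
  pullback.lift (pullback.snd f η ≫ v.left) (pullback.fst f η) (by
    rw [Category.assoc, pullback.condition]
    congr 1
    exact Over.w v)

set_option backward.isDefEq.respectTransparency.types false in
lemma zpt_lam (ξ : Spec (CommRingCat.of Ω) ⟶ X) (h : ξ ≫ f = η) (V : Y.Etale)
    (v : (Scheme.pointSmallEtale η).fiber.obj V) :
    zpt f η ξ h ≫ lam f η V v = (liftPt f ξ η h V v).left := by
  apply pullback.hom_ext
  · rw [Category.assoc, lam, pullback.lift_fst, zpt_snd_assoc]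
    exact (liftPt_left_fst f ξ η h V v).symm
  · rw [Category.assoc, lam, pullback.lift_snd, zpt_fst]
    exact (liftPt_left_snd f ξ η h V v).symm

set_option backward.isDefEq.respectTransparency.types false in
lemma lam_zpt_apply (ξ : Spec (CommRingCat.of Ω) ⟶ X) (h : ξ ≫ f = η) (V : Y.Etale)
    (v : (Scheme.pointSmallEtale η).fiber.obj V) :
    lam f η V v (zpt f η ξ h default) =
      ((liftPt f ξ η h V v).left : Spec (CommRingCat.of Ω) ⟶ pullback V.hom f)
        (default : Spec (CommRingCat.of Ω)) := by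
  rw [← Scheme.Hom.comp_apply, zpt_lam]
  rfl

set_option backward.isDefEq.respectTransparency.types false in
/-- finite families of pointed etale neighbourhoods have a common refinement. -/
theorem exists_common_refinement {ι : Type*} (t : Finset ι) (V : ι → Y.Etale)
    (v : ∀ i, (Scheme.pointSmallEtale η).fiber.obj (V i)) :
    ∃ (W : Y.Etale) (w : (Scheme.pointSmallEtale η).fiber.obj W),
      ∀ i ∈ t, ∃ k : W ⟶ V i, (Scheme.pointSmallEtale η).fiber.map k w = v i := by
  classical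
  obtain ⟨S, hS⟩ := IsCofiltered.inf_objs_exists (C := (Scheme.pointSmallEtale η).fiber.Elements)
    (t.image (fun i => (⟨V i, v i⟩ : (Scheme.pointSmallEtale η).fiber.Elements)))
  refine ⟨S.1, S.2, fun i hi => ?_⟩
  obtain ⟨k⟩ := hS (Finset.mem_image_of_mem _ hi)
  exact ⟨k.1, k.2⟩

set_option backward.isDefEq.respectTransparency.types false in
/-- membership of `liftPt` in the preimage of an open under a refinement. -/
lemma liftPt_mem_preimage_iff (ξ : Spec (CommRingCat.of Ω) ⟶ X) (h : ξ ≫ f = η) {V' V : Y.Etale}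
    (k : V' ⟶ V) (v' : (Scheme.pointSmallEtale η).fiber.obj V')
    (v : (Scheme.pointSmallEtale η).fiber.obj V)
    (hk : (Scheme.pointSmallEtale η).fiber.map k v' = v) (D : (pullback V.hom f).Opens) :
    ((liftPt f ξ η h V' v').left : Spec (CommRingCat.of Ω) ⟶ pullback V'.hom f)
        (default : Spec (CommRingCat.of Ω)) ∈
      (((EtCoh.bc f).map k).left : pullback V'.hom f ⟶ pullback V.hom f) ⁻¹ᵁ D ↔
    ((liftPt f ξ η h V v).left : Spec (CommRingCat.of Ω) ⟶ pullback V.hom f)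
        (default : Spec (CommRingCat.of Ω)) ∈ D := by
  obtain ⟨bm, hbm⟩ : ∃ bm : pullback V'.hom f ⟶ pullback V.hom f,
      bm = ((EtCoh.bc f).map k).left := ⟨_, rfl⟩
  obtain ⟨L', hL'⟩ : ∃ L' : Spec (CommRingCat.of Ω) ⟶ pullback V'.hom f,
      L' = (liftPt f ξ η h V' v').left := ⟨_, rfl⟩
  obtain ⟨L, hL⟩ : ∃ L : Spec (CommRingCat.of Ω) ⟶ pullback V.hom f,
      L = (liftPt f ξ η h V v).left := ⟨_, rfl⟩
  have e : L' ≫ bm = L := by
    rw [hL', hbm, hL, ← hk, ← liftPt_map]
    rfl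
  rw [← hbm, ← hL', ← hL]
  change bm (L' default) ∈ D ↔ _
  rw [← Scheme.Hom.comp_apply, e]
  exact Iff.rfl

end SepClosed

section AlgClosed

variable [IsAlgClosed Ω] [IsIntegralHom f]

set_option backward.isDefEq.respectTransparency.types false in
/-- every point of the geometric fibre of an integral morphism is a geometric point. -/
theorem exists_zpt_eq (z : Zf f η) :
    ∃ (ξ : Spec (CommRingCat.of Ω) ⟶ X) (h : ξ ≫ f = η), zpt f η ξ h default = z := by
  obtain ⟨ζ, hζ1, hζ2⟩ := exists_section_through (pullback.snd f η) z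
  have h : (ζ ≫ pullback.fst f η) ≫ f = η := by
    rw [Category.assoc, pullback.condition, reassoc_of% hζ1]
  refine ⟨ζ ≫ pullback.fst f η, h, ?_⟩
  have e : zpt f η _ h = ζ := by
    apply pullback.hom_ext
    · rw [zpt_fst]
    · rw [zpt_snd, hζ1]
  rw [e, hζ2]

set_option backward.isDefEq.respectTransparency.types false in
instance : CompactSpace (Zf f η) := by
  have : IsAffine (Zf f η) := isAffine_of_isAffineHom (pullback.snd f η)
  infer_instance

set_option backward.isDefEq.respectTransparency.types false in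
/-- topology comparison: the points of the geometric fibre which lift to a given etale scheme
over (a scheme under) the geometric fibre contain a clopen neighbourhood coming from some
`V ×_Y X`. -/
theorem exists_clopen_of_etale {T E : Scheme.{u}} (lam' : Zf f η ⟶ T) (e : E ⟶ T) [Etale e]
    (ξ : Spec (CommRingCat.of Ω) ⟶ X) (h : ξ ≫ f = η) (x₀ : E)
    (hx₀ : e x₀ = lam' (zpt f η ξ h default)) :
    ∃ (V : Y.Etale) (v : (Scheme.pointSmallEtale η).fiber.obj V) (D : (pullback V.hom f).Opens),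
      IsClosed (D : Set ↥(pullback V.hom f)) ∧
      ((liftPt f ξ η h V v).left : Spec (CommRingCat.of Ω) ⟶ pullback V.hom f)
        (default : Spec (CommRingCat.of Ω)) ∈ D ∧
      ∀ (ξ₂ : Spec (CommRingCat.of Ω) ⟶ X) (h₂ : ξ₂ ≫ f = η),
        ((liftPt f ξ₂ η h₂ V v).left : Spec (CommRingCat.of Ω) ⟶ pullback V.hom f)
          (default : Spec (CommRingCat.of Ω)) ∈ D →
        ∃ e₂ : Spec (CommRingCat.of Ω) ⟶ E, e₂ ≫ e = zpt f η ξ₂ h₂ ≫ lam' := by
  classical
  let O : Set (Zf f η) := lam' ⁻¹' (Set.range e)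
  have hO : IsOpen O := e.isOpenMap.isOpen_range.preimage lam'.continuous
  have hK : IsCompact Oᶜ := hO.isClosed_compl.isCompact
  -- separating data
  have hsep : ∀ z : (Oᶜ : Set (Zf f η)), ∃ (V : Y.Etale)
      (v : (Scheme.pointSmallEtale η).fiber.obj V) (D : (pullback V.hom f).Opens),
      IsClosed (D : Set ↥(pullback V.hom f)) ∧ lam f η V v z.1 ∈ D ∧
      ((liftPt f ξ η h V v).left : Spec (CommRingCat.of Ω) ⟶ pullback V.hom f)
        (default : Spec (CommRingCat.of Ω)) ∉ D := by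
    rintro ⟨z, hz⟩
    obtain ⟨ξz, hξz, rfl⟩ := exists_zpt_eq f η z
    have hne : ξz ≠ ξ := by
      rintro rfl
      exact hz ⟨x₀, hx₀⟩
    obtain ⟨V, v, D, hD, h1, h2⟩ := exists_separating_clopen f η ξz ξ hξz h hne
    refine ⟨V, v, D, hD, ?_, h2⟩
    rw [lam_zpt_apply]
    exact h1
  choose Vz vz Dz hDz hz1 hz2 using hsep
  obtain ⟨t, ht⟩ := hK.elim_finite_subcover
    (fun z : (Oᶜ : Set (Zf f η)) => (lam f η (Vz z) (vz z)) ⁻¹' (Dz z : Set ↥(pullback (Vz z).hom f)))
    (fun z => (Dz z).isOpen.preimage (lam f η (Vz z) (vz z)).continuous)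
    (fun z hz => Set.mem_iUnion.mpr ⟨⟨z, hz⟩, hz1 ⟨z, hz⟩⟩)
  obtain ⟨V, v, hV⟩ := exists_common_refinement η t Vz vz
  choose k hk using hV
  let kk : ∀ z : (Oᶜ : Set (Zf f η)), z ∈ t → (pullback V.hom f ⟶ pullback (Vz z).hom f) :=
    fun z hz => ((EtCoh.bc f).map (k z hz)).left
  obtain ⟨Dset, hDset⟩ : ∃ Dset : Set ↥(pullback V.hom f), ∀ x, x ∈ Dset ↔
      ∀ z : {z // z ∈ t}, kk z.1 z.2 x ∉ Dz z.1 :=
    ⟨{x | ∀ z : {z // z ∈ t}, kk z.1 z.2 x ∉ Dz z.1}, fun x => Iff.rfl⟩
  have hDeq : Dset =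
      ⋂ z : {z // z ∈ t}, (kk z.1 z.2) ⁻¹' ((Dz z.1 : Set ↥(pullback (Vz z.1).hom f))ᶜ) := by
    ext x
    rw [hDset, Set.mem_iInter]
    exact Iff.rfl
  have hDopen : IsOpen Dset := hDeq ▸
    isOpen_iInter_of_finite (fun z => (hDz z.1).isOpen_compl.preimage (kk z.1 z.2).continuous)
  have hDclosed : IsClosed Dset := hDeq ▸
    isClosed_iInter (fun z => (Dz z.1).isOpen.isClosed_compl.preimage (kk z.1 z.2).continuous)
  have hmem : ∀ (ξ₂ : Spec (CommRingCat.of Ω) ⟶ X) (h₂ : ξ₂ ≫ f = η),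
      ((liftPt f ξ₂ η h₂ V v).left : Spec (CommRingCat.of Ω) ⟶ pullback V.hom f)
        (default : Spec (CommRingCat.of Ω)) ∈ Dset ↔
      ∀ z : {z // z ∈ t}, ((liftPt f ξ₂ η h₂ (Vz z.1) (vz z.1)).left :
        Spec (CommRingCat.of Ω) ⟶ pullback (Vz z.1).hom f)
        (default : Spec (CommRingCat.of Ω)) ∉ Dz z.1 := by
    intro ξ₂ h₂
    refine (hDset _).trans ?_
    refine forall_congr' fun z => ?_
    exact not_congr (liftPt_mem_preimage_iff f η ξ₂ h₂ (k z.1 z.2) v (vz z.1) (hk z.1 z.2) (Dz z.1))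
  refine ⟨V, v, ⟨Dset, hDopen⟩, hDclosed, ?_, ?_⟩
  · exact (hmem ξ h).mpr (fun z => hz2 z.1)
  · intro ξ₂ h₂ hξ₂
    have hξ₂' := (hmem ξ₂ h₂).mp hξ₂
    have hzO : zpt f η ξ₂ h₂ default ∈ O := by
      by_contra hcon
      have := ht hcon
      obtain ⟨z, hzt, hz⟩ := Set.mem_iUnion₂.mp this
      apply hξ₂' ⟨z, hzt⟩
      have hz' : lam f η (Vz z) (vz z) (zpt f η ξ₂ h₂ default) ∈ Dz z := hz
      rw [lam_zpt_apply] at hz'
      exact hz'
    obtain ⟨x, hx⟩ := hzO
    obtain ⟨l, hl, -⟩ := Scheme.exists_fac_of_etale_of_isSepClosed e (zpt f η ξ₂ h₂ ≫ lam') x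
      (by rw [hx, Scheme.Hom.comp_apply])
    exact ⟨l, hl⟩

end AlgClosed

end Groth.Agent.Lib.T2H8IntTC
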