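import Mathlib
import Groth.Prelude.Def_EtBase
import Groth.Agent.Lib.T2H8IntTC
import Groth.Agent.Lib.T2H8PropBIntegral
import Groth.Agent.Lib.T2H8PropCIntegral

set_option autoImplicit false
universe u w

open CategoryTheory CategoryTheory.Limits AlgebraicGeometry Opposite

namespace Groth.Agent.Lib.T2H8IntPPB

open Groth.Agent.Lib.T2H8StalkFiniteCore Groth.Agent.Lib.T2H8GeomPt
open Groth.Agent.Lib.Helper16.SmallEtale Groth.Agent.Lib.T2H8FiniteSplitPt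
open Groth.Agent.Lib.T2H8IntPts Groth.Agent.Lib.T2H8IntSep Groth.Agent.Lib.T2H8IntTC
open Groth.Agent.Lib.T2H8PropBIntegral

variable {X Y : Scheme.{u}} (f : X ⟶ Y)

set_option backward.isDefEq.respectTransparency.types false in
/-- `propB_local` in the conventions of the small etale sites. -/
theorem propB_local' [IsIntegralHom f] (V : Y.Etale) {ι : Type u} (U : ι → Scheme.{u})
    (g : ∀ i, U i ⟶ pullback V.hom f) [∀ i, Etale (g i)]
    (hcov : ∀ x : ↥(pullback V.hom f), ∃ i, x ∈ Set.range (g i)) (y₀ : V.left) :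
    ∃ (V' : Y.Etale) (k : V' ⟶ V), y₀ ∈ Set.range (k.left : V'.left ⟶ V.left) ∧
      ∃ (μ : Type u) (W : μ → (pullback V'.hom f).Opens),
        (∀ a b, a ≠ b → Disjoint (W a) (W b)) ∧ (⨆ a, W a) = ⊤ ∧
        ∀ a, ∃ (i : ι) (h : (W a : Scheme.{u}) ⟶ U i),
          h ≫ g i = (W a).ι ≫ ((EtCoh.bc f).map k).left := by
  obtain ⟨v, hv⟩ : ∃ v : V.left ⟶ Y, v = V.hom := ⟨_, rfl⟩
  haveI : Etale v := hv ▸ inferInstance
  obtain ⟨σ₁, hσ₁1, hσ₁2⟩ : ∃ σ₁ : pullback V.hom f ≅ pullback f v,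
      σ₁.hom ≫ pullback.fst f v = pullback.snd V.hom f ∧
      σ₁.hom ≫ pullback.snd f v = pullback.fst V.hom f := by
    subst hv
    exact ⟨pullbackSymmetry _ _, pullbackSymmetry_hom_comp_fst _ _, pullbackSymmetry_hom_comp_snd _ _⟩
  have hcov' : ∀ x : ↥(pullback f v), ∃ i, x ∈ Set.range (g i ≫ σ₁.hom) := by
    intro x
    obtain ⟨i, y, hy⟩ := hcov (σ₁.inv x)
    refine ⟨i, y, ?_⟩
    rw [Scheme.Hom.comp_apply, hy, ← Scheme.Hom.comp_apply, Iso.inv_hom_id]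
    rfl
  obtain ⟨V₁, v', hv', hy₀, μ, W, hdisj, htop, hlift⟩ :=
    propB_local f v U (fun i => g i ≫ σ₁.hom) hcov' y₀
  have hV'et : Etale (v' ≫ v) := inferInstance
  let V' : Y.Etale := Scheme.Etale.mk (v' ≫ v)
  let k : V' ⟶ V := MorphismProperty.Over.homMk v' (by rw [← hv]; rfl)
  obtain ⟨σ₂, hσ₂1, hσ₂2⟩ : ∃ σ₂ : pullback V'.hom f ≅ pullback f (v' ≫ v),
      σ₂.hom ≫ pullback.fst f (v' ≫ v) = pullback.snd V'.hom f ∧
      σ₂.hom ≫ pullback.snd f (v' ≫ v) = pullback.fst V'.hom f :=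
    ⟨pullbackSymmetry _ _, pullbackSymmetry_hom_comp_fst _ _, pullbackSymmetry_hom_comp_snd _ _⟩
  obtain ⟨bm, hbm⟩ : ∃ bm : pullback V'.hom f ⟶ pullback V.hom f,
      bm = ((EtCoh.bc f).map k).left := ⟨_, rfl⟩
  have hbm1 : bm ≫ pullback.fst V.hom f = pullback.fst V'.hom f ≫ v' := by
    rw [hbm]; exact bc_map_left_fst f k
  have hbm2 : bm ≫ pullback.snd V.hom f = pullback.snd V'.hom f := by
    rw [hbm]; exact bc_map_left_snd f k
  have hcomp : σ₂.hom ≫ pullback.map f (v' ≫ v) f v (𝟙 X) v' (𝟙 Y) (by simp) (by simp) =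
      bm ≫ σ₁.hom := by
    apply pullback.hom_ext
    · rw [Category.assoc, pullback.lift_fst, Category.assoc, hσ₁1, hbm2, Category.comp_id, hσ₂1]
    · rw [Category.assoc, pullback.lift_snd, Category.assoc, hσ₁2, hbm1, reassoc_of% hσ₂2]
      rfl
  refine ⟨V', k, hy₀, μ, fun a => σ₂.hom ⁻¹ᵁ W a, ?_, ?_, ?_⟩
  · intro a b hab
    rw [disjoint_iff_inf_le]
    rintro x ⟨hxa, hxb⟩
    exact (hdisj a b hab).le_bot ⟨hxa, hxb⟩
  · rw [eq_top_iff]
    intro x _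
    have hx : σ₂.hom x ∈ (⨆ a, W a) := by rw [htop]; trivial
    obtain ⟨a, ha⟩ := TopologicalSpace.Opens.mem_iSup.mp hx
    exact TopologicalSpace.Opens.mem_iSup.mpr ⟨a, ha⟩
  · intro a
    obtain ⟨i, h, hh⟩ := hlift a
    refine ⟨i, (σ₂.hom ∣_ W a) ≫ h, ?_⟩
    rw [← cancel_mono σ₁.hom, Category.assoc, Category.assoc, hh, ← Category.assoc,
      morphismRestrict_ι, Category.assoc, hcomp, hbm]
    exact (Category.assoc _ _ _).symm

variable {Ω : Type u} [Field Ω] [IsAlgClosed Ω]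

set_option backward.isDefEq.respectTransparency.types false in
/-- Pointed clopen lifting for integral morphisms: for `f` integral, `U` etale over `X` and a
geometric point `ū` of `U` over `ξ`, there are an etale neighbourhood `(V, v)` of `η = f ξ`, a
clopen `D` of `V ×_Y X` containing `liftPt ξ v` and a lift `D ⟶ U` over `X` sending `liftPt ξ v`
to `ū`. -/
theorem exists_pointed_clopen_bc [IsIntegralHom f] (ξ : Spec (CommRingCat.of Ω) ⟶ X)
    (η : Spec (CommRingCat.of Ω) ⟶ Y) (h : ξ ≫ f = η) (U : X.Etale)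
    (ū : (Scheme.pointSmallEtale ξ).fiber.obj U) :
    ∃ (V : Y.Etale) (v : (Scheme.pointSmallEtale η).fiber.obj V)
      (D : (pullback V.hom f).Opens) (hD : (D : Scheme.{u}) ⟶ U.left)
      (ξD : Spec (CommRingCat.of Ω) ⟶ D),
      IsClosed (D : Set ↥(pullback V.hom f)) ∧
      hD ≫ U.hom = D.ι ≫ pullback.snd V.hom f ∧
      ξD ≫ D.ι = (liftPt f ξ η h V v).left ∧ ξD ≫ hD = ū.left := by
  obtain ⟨ū₀, hū₀⟩ : ∃ ū₀ : Spec (CommRingCat.of Ω) ⟶ U.left, ū₀ = ū.left := ⟨_, rfl⟩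
  obtain ⟨gU, hgU⟩ : ∃ gU : U.left ⟶ X, gU = U.hom := ⟨_, rfl⟩
  haveI : Etale gU := hgU ▸ inferInstance
  have hū : ū₀ ≫ gU = ξ := by rw [hū₀, hgU]; exact Over.w ū
  obtain ⟨O, hu₀O, hOuniq⟩ := Groth.Agent.Lib.T2H8PropCIntegral.exists_open_fibre_singleton gU
    (ū₀ default)
  obtain ⟨g₀, hg₀⟩ : ∃ g₀ : (O : Scheme.{u}) ⟶ X, g₀ = O.ι ≫ gU := ⟨_, rfl⟩
  haveI : Etale g₀ := hg₀ ▸ inferInstance
  have hx₀ : g₀ ⟨ū₀ default, hu₀O⟩ = (pullback.fst f η) (zpt f η ξ h default) := by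
    rw [← Scheme.Hom.comp_apply, zpt_fst, ← hū, hg₀, Scheme.Hom.comp_apply,
      Scheme.Hom.comp_apply]
    rfl
  obtain ⟨V₁, v₁, D₁, hD₁cl, hξD₁, hD₁⟩ :=
    exists_clopen_of_etale f η (pullback.fst f η) g₀ ξ h ⟨ū₀ default, hu₀O⟩ hx₀
  -- shrink
  let R : X.Opens := ⟨Set.range g₀, g₀.isOpenMap.isOpen_range⟩
  let B : (pullback V₁.hom f).Opens :=
    ((pullback.snd V₁.hom f) ⁻¹ᵁ R) ⊔ ⟨(D₁ : Set ↥(pullback V₁.hom f))ᶜ, hD₁cl.isOpen_compl⟩
  have hB : ∀ x : ↥(pullback V₁.hom f), (pullback.fst V₁.hom f) x =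
      (v₁.left : Spec (CommRingCat.of Ω) ⟶ V₁.left) (default : Spec (CommRingCat.of Ω)) →
      x ∈ B := by
    intro x hx
    obtain ⟨ξ₂, h₂, hxx⟩ := exists_liftPt_eq f η V₁ v₁ x hx
    obtain ⟨L, hL⟩ : ∃ L : Spec (CommRingCat.of Ω) ⟶ pullback V₁.hom f,
        L = (liftPt f ξ₂ η h₂ V₁ v₁).left := ⟨_, rfl⟩
    have hLsnd : L ≫ pullback.snd V₁.hom f = ξ₂ := by
      rw [hL]; exact liftPt_left_snd f ξ₂ η h₂ V₁ v₁
    have hLx : L default = x := by rw [hL]; exact hxx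
    by_cases hmem : x ∈ D₁
    · left
      obtain ⟨e₂, he₂⟩ := hD₁ ξ₂ h₂ (by rw [← hLx, hL] at hmem; exact hmem)
      have e2 : e₂ ≫ g₀ = ξ₂ := he₂.trans (zpt_fst f η ξ₂ h₂)
      refine ⟨e₂ default, ?_⟩
      rw [← Scheme.Hom.comp_apply, e2, ← hLsnd, Scheme.Hom.comp_apply, hLx]
    · right
      exact hmem
  obtain ⟨V₂, k₂, v₂, l₂, hk₂, hl₂⟩ := exists_shrink f η V₁ v₁ B hB
  obtain ⟨bm₂, hbm₂⟩ : ∃ bm₂ : pullback V₂.hom f ⟶ pullback V₁.hom f,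
      bm₂ = ((EtCoh.bc f).map k₂).left := ⟨_, rfl⟩
  have hbm₂snd : bm₂ ≫ pullback.snd V₁.hom f = pullback.snd V₂.hom f := by
    rw [hbm₂]; exact bc_map_left_snd f k₂
  obtain ⟨snd₂, hsnd₂⟩ : ∃ m : pullback V₂.hom f ⟶ X, m = pullback.snd V₂.hom f := ⟨_, rfl⟩
  let D₂ : (pullback V₂.hom f).Opens := bm₂ ⁻¹ᵁ D₁
  have hD₂cl : IsClosed (D₂ : Set ↥(pullback V₂.hom f)) := hD₁cl.preimage bm₂.continuous
  have hD₂R : ∀ y : ↥(pullback V₂.hom f), y ∈ D₂ → snd₂ y ∈ R := by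
    intro y hy
    have hyB : bm₂ y ∈ B := by
      rw [hbm₂, ← hl₂, Scheme.Hom.comp_apply]
      exact (l₂ y).2
    rcases hyB with hyB | hyB
    · rw [hsnd₂, ← hbm₂snd, Scheme.Hom.comp_apply]
      exact hyB
    · exact absurd hy hyB
  -- the covering family
  obtain ⟨cA, hcA⟩ : ∃ cA : (D₂ : Scheme.{u}) ⟶ X, cA = D₂.ι ≫ snd₂ := ⟨_, rfl⟩
  let EA : Scheme.{u} := pullback g₀ cA
  let gA : EA ⟶ pullback V₂.hom f := pullback.snd g₀ cA ≫ D₂.ι
  let NB : (pullback V₂.hom f).Opens := ⟨(D₂ : Set ↥(pullback V₂.hom f))ᶜ, hD₂cl.isOpen_compl⟩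
  let U' : PUnit.{u + 1} ⊕ PUnit.{u + 1} → Scheme.{u} := Sum.elim (fun _ => EA) (fun _ => NB)
  let g' : ∀ i, U' i ⟶ pullback V₂.hom f := fun i =>
    match i with
    | Sum.inl _ => gA
    | Sum.inr _ => NB.ι
  have hg'et : ∀ i, Etale (g' i) := by
    rintro (i | i)
    · change Etale gA
      infer_instance
    · change Etale NB.ι
      infer_instance
  have hcov' : ∀ x : ↥(pullback V₂.hom f), ∃ i, x ∈ Set.range (g' i) := by
    intro x
    by_cases hx : x ∈ D₂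
    · refine ⟨Sum.inl PUnit.unit, ?_⟩
      obtain ⟨o, ho⟩ := hD₂R x hx
      have hox : g₀ o = cA ⟨x, hx⟩ := by
        rw [ho, hcA, Scheme.Hom.comp_apply]
        rfl
      obtain ⟨q, -, hq2⟩ := Scheme.Pullback.exists_preimage_pullback (f := g₀) (g := cA) o ⟨x, hx⟩ hox
      refine ⟨q, ?_⟩
      change gA q = x
      rw [Scheme.Hom.comp_apply, hq2]
      rfl
    · exact ⟨Sum.inr PUnit.unit, ⟨x, hx⟩, rfl⟩
  obtain ⟨V₃, k₃, ⟨y', hy'⟩, μ, W, hdisj, htop, hlift⟩ :=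
    propB_local' f V₂ U' g' hcov' ((v₂.left : Spec (CommRingCat.of Ω) ⟶ V₂.left)
      (default : Spec (CommRingCat.of Ω)))
  obtain ⟨l, hl, -⟩ := Scheme.exists_fac_of_etale_of_isSepClosed k₃.left v₂.left y' hy'
  have hlη : l ≫ V₃.hom = η := by
    have e1 : k₃.left ≫ V₂.hom = V₃.hom := Over.w k₃.hom
    rw [← e1, reassoc_of% hl]
    exact Over.w v₂
  let v₃ : (Scheme.pointSmallEtale η).fiber.obj V₃ := Over.homMk l hlη
  have hk₃ : (Scheme.pointSmallEtale η).fiber.map k₃ v₃ = v₂ := Over.OverMorphism.ext hl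
  obtain ⟨bm₃, hbm₃⟩ : ∃ bm₃ : pullback V₃.hom f ⟶ pullback V₂.hom f,
      bm₃ = ((EtCoh.bc f).map k₃).left := ⟨_, rfl⟩
  have hbm₃snd : bm₃ ≫ snd₂ = pullback.snd V₃.hom f := by
    rw [hbm₃, hsnd₂]; exact bc_map_left_snd f k₃
  obtain ⟨L₃, hL₃⟩ : ∃ L₃ : Spec (CommRingCat.of Ω) ⟶ pullback V₃.hom f,
      L₃ = (liftPt f ξ η h V₃ v₃).left := ⟨_, rfl⟩
  have hL₃snd : L₃ ≫ pullback.snd V₃.hom f = ξ := by
    rw [hL₃]; exact liftPt_left_snd f ξ η h V₃ v₃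
  have hL₃D₂ : bm₃ (L₃ default) ∈ D₂ := by
    have h1 := (liftPt_mem_preimage_iff f η ξ h k₂ v₂ v₁ hk₂ D₁).mpr hξD₁
    rw [← hbm₂] at h1
    have h2 := (liftPt_mem_preimage_iff f η ξ h k₃ v₃ v₂ hk₃ D₂).mpr h1
    rw [hL₃, hbm₃]
    exact h2
  obtain ⟨a, ha⟩ : ∃ a, L₃ default ∈ W a := by
    have : L₃ default ∈ (⨆ a, W a) := by rw [htop]; trivial
    exact TopologicalSpace.Opens.mem_iSup.mp this
  have hWcl : IsClosed (W a : Set ↥(pullback V₃.hom f)) := by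
    have hc : (W a : Set ↥(pullback V₃.hom f))ᶜ = ⋃ b : {b // b ≠ a}, (W b.1 : Set ↥(pullback V₃.hom f)) := by
      ext x
      constructor
      · intro hx
        have : x ∈ (⨆ a, W a) := by rw [htop]; trivial
        obtain ⟨b, hb⟩ := TopologicalSpace.Opens.mem_iSup.mp this
        have hba : b ≠ a := by
          rintro rfl
          exact hx hb
        exact Set.mem_iUnion.mpr ⟨⟨b, hba⟩, hb⟩
      · intro hx
        obtain ⟨b, hb⟩ := Set.mem_iUnion.mp hx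
        intro hxa
        exact (hdisj b.1 a b.2).le_bot ⟨hb, hxa⟩
    rw [← isOpen_compl_iff, hc]
    exact isOpen_iUnion (fun b => (W b.1).isOpen)
  obtain ⟨d, hd⟩ := exists_lift_open L₃ (W a) ha
  obtain ⟨i, hW, hhW⟩ := hlift a
  rcases i with i | i
  · -- the good case
    change (W a : Scheme.{u}) ⟶ EA at hW
    change hW ≫ gA = (W a).ι ≫ ((EtCoh.bc f).map k₃).left at hhW
    rw [← hbm₃] at hhW
    obtain ⟨hU, hhU⟩ : ∃ hU : (W a : Scheme.{u}) ⟶ U.left,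
        hU = hW ≫ pullback.fst g₀ cA ≫ O.ι := ⟨_, rfl⟩
    have e1 : pullback.fst g₀ cA ≫ O.ι ≫ gU = pullback.snd g₀ cA ≫ D₂.ι ≫ snd₂ := by
      rw [← hg₀]; exact pullback.condition.trans (pullback.snd g₀ cA ≫= hcA)
    have e2 : hW ≫ pullback.snd g₀ cA ≫ D₂.ι = (W a).ι ≫ bm₃ := hhW
    have hUg : hU ≫ gU = (W a).ι ≫ pullback.snd V₃.hom f := by
      calc hU ≫ gU = hW ≫ (pullback.fst g₀ cA ≫ O.ι ≫ gU) := by
            rw [hhU]; simp only [Category.assoc]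
        _ = hW ≫ (pullback.snd g₀ cA ≫ D₂.ι ≫ snd₂) := by rw [e1]
        _ = (hW ≫ pullback.snd g₀ cA ≫ D₂.ι) ≫ snd₂ := by simp only [Category.assoc]
        _ = ((W a).ι ≫ bm₃) ≫ snd₂ := by rw [e2]
        _ = (W a).ι ≫ pullback.snd V₃.hom f := by rw [Category.assoc, hbm₃snd]
    have hUet : Etale hU := by
      have : Etale (hU ≫ gU) := by rw [hUg]; infer_instance
      exact Etale.of_comp hU gU
    have hUpt : hU (d default) = ū₀ default := by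
      apply hOuniq
      · rw [hhU, Scheme.Hom.comp_apply, Scheme.Hom.comp_apply]
        exact ((pullback.fst g₀ cA) (hW (d default))).2
      · rw [← Scheme.Hom.comp_apply, ← Scheme.Hom.comp_apply, ← Scheme.Hom.comp_apply, hū,
          hUg, reassoc_of% hd, hL₃snd]
    obtain ⟨d', hd', -⟩ := Scheme.exists_fac_of_etale_of_isSepClosed hU ū₀ (d default) hUpt
    have hd'snd : d' ≫ (W a).ι ≫ pullback.snd V₃.hom f = ξ := by
      rw [← hUg, reassoc_of% hd', hū]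
    have hv₃' : (d' ≫ (W a).ι ≫ pullback.fst V₃.hom f) ≫ V₃.hom = η := by
      calc (d' ≫ (W a).ι ≫ pullback.fst V₃.hom f) ≫ V₃.hom
          = d' ≫ (W a).ι ≫ (pullback.fst V₃.hom f ≫ V₃.hom) := by simp only [Category.assoc]
        _ = d' ≫ (W a).ι ≫ (pullback.snd V₃.hom f ≫ f) := by rw [pullback.condition]
        _ = (d' ≫ (W a).ι ≫ pullback.snd V₃.hom f) ≫ f := by simp only [Category.assoc]
        _ = η := by rw [hd'snd, h]
    let v₃' : (Scheme.pointSmallEtale η).fiber.obj V₃ :=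
      Over.homMk (d' ≫ (W a).ι ≫ pullback.fst V₃.hom f) hv₃'
    refine ⟨V₃, v₃', W a, hU, d', hWcl, ?_, ?_, ?_⟩
    · rw [← hgU]; exact hUg
    · apply pullback.hom_ext
      · rw [Category.assoc]
        exact (liftPt_left_fst f ξ η h V₃ v₃').symm
      · rw [Category.assoc, hd'snd]
        exact (liftPt_left_snd f ξ η h V₃ v₃').symm
    · rw [hd', hū₀]
  · -- impossible case
    exfalso
    change (W a : Scheme.{u}) ⟶ NB at hW
    change hW ≫ NB.ι = (W a).ι ≫ ((EtCoh.bc f).map k₃).left at hhW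
    rw [← hbm₃] at hhW
    have e3 : d ≫ hW ≫ NB.ι = L₃ ≫ bm₃ :=
      (d ≫= hhW).trans ((Category.assoc _ _ _).symm.trans (hd =≫ bm₃))
    have h1 : bm₃ (L₃ default) = NB.ι (hW (d default)) := by
      rw [← Scheme.Hom.comp_apply, ← e3, Scheme.Hom.comp_apply, Scheme.Hom.comp_apply]
    have h2 : NB.ι (hW (d default)) ∈ NB := (hW (d default)).2
    rw [← h1] at h2
    exact h2 hL₃D₂

end Groth.Agent.Lib.T2H8IntPPB
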