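import Mathlib
import Groth.Prelude.Def_EtBase
import Groth.Agent.Lib.T2H8IntPPB
import Groth.Agent.Lib.T2H8EtZarSheaf

set_option autoImplicit false
universe u w

open CategoryTheory CategoryTheory.Limits AlgebraicGeometry Opposite

namespace Groth.Agent.Lib.T2H8IntSurj

open Groth.Agent.Lib.T2H8StalkFiniteCore Groth.Agent.Lib.T2H8GeomPt
open Groth.Agent.Lib.Helper16.SmallEtale Groth.Agent.Lib.T2H8FiniteSplitPt
open Groth.Agent.Lib.T2H8IntPts Groth.Agent.Lib.T2H8IntSep Groth.Agent.Lib.T2H8IntTC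
open Groth.Agent.Lib.T2H8IntPPB Groth.Agent.Lib.T2H8EtZarSheaf
open Groth.Agent.Lib.Helper16.EtGlue

variable {X Y : Scheme.{u}}

set_option backward.isDefEq.respectTransparency.types false in
/-- gluing sections of a sheaf along a cover by pairwise disjoint opens. -/
theorem exists_glue_sections (Q : X.Etaleᵒᵖ ⥤ Type w)
    (hQ : Presieve.IsSheaf X.smallEtaleTopology Q) (U : X.Etale)
    {μ : Type*} (W : μ → U.left.Opens) (hdisj : ∀ a b, a ≠ b → Disjoint (W a) (W b))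
    (htop : (⨆ a, W a) = ⊤) (s : ∀ a, Q.obj (op (opn U (W a)))) :
    ∃ S : Q.obj (op U), ∀ a, Q.map (opnι U (W a)).op S = s a := by
  let R : Sieve U :=
    Sieve.generate (Presieve.ofArrows (fun a => opn U (W a)) (fun a => opnι U (W a)))
  have hR : R ∈ X.smallEtaleTopology U := by
    rw [mem_smallEtale_iff]
    intro x
    have hx : x ∈ (⨆ a, W a) := by rw [htop]; trivial
    obtain ⟨a, ha⟩ := TopologicalSpace.Opens.mem_iSup.mp hx
    exact ⟨opn U (W a), opnι U (W a), ⟨x, ha⟩,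
      Sieve.le_generate _ _ _ (Presieve.ofArrows.mk a), rfl⟩
  have hsh : Presieve.IsSheafFor Q
      (Presieve.ofArrows (fun a => opn U (W a)) (fun a => opnι U (W a))) :=
    (Presieve.isSheafFor_iff_generate _).mpr (hQ R hR)
  rw [Presieve.isSheafFor_arrows_iff] at hsh
  have hcompat : Presieve.Arrows.Compatible Q (fun a => opnι U (W a)) s := by
    intro a b Z ga gb hgab
    have hl : ga.left ≫ (W a).ι = gb.left ≫ (W b).ι := congrArg (fun m => m.left) hgab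
    by_cases hab : a = b
    · subst hab
      have : ga = gb := by
        apply MorphismProperty.Over.Hom.ext
        exact (cancel_mono (W a).ι).mp hl
      rw [this]
    · have : IsEmpty Z.left := ⟨fun z => by
        have h1 : (ga.left ≫ (W a).ι) z ∈ W a := by
          rw [Scheme.Hom.comp_apply]
          exact (ga.left z).2
        have h2 : (ga.left ≫ (W a).ι) z ∈ W b := by
          rw [hl, Scheme.Hom.comp_apply]
          exact (gb.left z).2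
        exact (hdisj a b hab).le_bot ⟨h1, h2⟩⟩
      exact (subsingleton_of_isEmpty Q hQ Z).elim _ _
  obtain ⟨S, hS, -⟩ := hsh s hcompat
  exact ⟨S, hS⟩

section Surj

open Groth.Agent.Lib.T2H8StalkFinite

variable (f : X ⟶ Y) {Ω : Type u} [Field Ω] [IsAlgClosed Ω] [IsIntegralHom f]
  (η : Spec (CommRingCat.of Ω) ⟶ Y)
variable {A : Type (u + 2)} [Category.{u + 1} A] [HasColimitsOfSize.{u, u} A]
variable {FC : A → A → Type*} {CC : A → Type (u + 1)}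
  [∀ X Y, FunLike (FC X Y) (CC X) (CC Y)] [ConcreteCategory.{u + 1} A FC]
  [PreservesFilteredColimitsOfSize.{u, u} (forget A)]

set_option backward.isDefEq.respectTransparency.types false in
/-- Surjectivity onto continuous families: a family of germs `τ ξ` (`ξ` over `η`) which is locally
(for the topology of the geometric fibre induced by the clopens of the `V ×_Y X`) given by sections
of `P` comes from an element of the stalk of the direct image. -/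
theorem θ_surjective_of_continuous (P : X.Etaleᵒᵖ ⥤ A)
    (hP : Presieve.IsSheaf X.smallEtaleTopology (P ⋙ forget A))
    (τ : ∀ ξ : {ξ : Spec (CommRingCat.of Ω) ⟶ X // ξ ≫ f = η},
      ToType ((Scheme.pointSmallEtale ξ.1).presheafFiber.obj P))
    (H : ∀ ξ : {ξ : Spec (CommRingCat.of Ω) ⟶ X // ξ ≫ f = η},
      ∃ (V : Y.Etale) (v : (Scheme.pointSmallEtale η).fiber.obj V) (W : X.Etale)
        (a : W ⟶ (EtCoh.bc f).obj V) (σ : ToType (P.obj (op W))),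
        (∃ wb : (Scheme.pointSmallEtale ξ.1).fiber.obj W,
          (Scheme.pointSmallEtale ξ.1).fiber.map a wb = liftPt f ξ.1 η ξ.2 V v) ∧
        ∀ (ξ₂ : {ξ : Spec (CommRingCat.of Ω) ⟶ X // ξ ≫ f = η})
          (w₂ : (Scheme.pointSmallEtale ξ₂.1).fiber.obj W),
          (Scheme.pointSmallEtale ξ₂.1).fiber.map a w₂ = liftPt f ξ₂.1 η ξ₂.2 V v →
          (Scheme.pointSmallEtale ξ₂.1).toPresheafFiber W w₂ P σ = τ ξ₂) :
    ∃ p : ToType ((Scheme.pointSmallEtale η).presheafFiber.obj ((EtCoh.bc f).op ⋙ P)),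
      ∀ ξ : {ξ : Spec (CommRingCat.of Ω) ⟶ X // ξ ≫ f = η}, θ f ξ.1 η ξ.2 P p = τ ξ := by
  classical
  choose V v W a σ hwb hσ using H
  -- Step 1: compactness of the geometric fibre
  let N : {ξ : Spec (CommRingCat.of Ω) ⟶ X // ξ ≫ f = η} → Set (Zf f η) := fun ξ =>
    (lam f η (V ξ) (v ξ)) ⁻¹' (Set.range (a ξ).left)
  have hNopen : ∀ ξ, IsOpen (N ξ) := fun ξ =>
    ((a ξ).left.isOpenMap.isOpen_range).preimage (lam f η (V ξ) (v ξ)).continuous
  have hNmem : ∀ ξ : {ξ : Spec (CommRingCat.of Ω) ⟶ X // ξ ≫ f = η},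
      zpt f η ξ.1 ξ.2 default ∈ N ξ := by
    intro ξ
    obtain ⟨wb, hwb'⟩ := hwb ξ
    have e1 : wb.left ≫ (a ξ).left = (liftPt f ξ.1 η ξ.2 (V ξ) (v ξ)).left :=
      congrArg (fun m => m.left) hwb'
    refine ⟨(wb.left : Spec (CommRingCat.of Ω) ⟶ (W ξ).left) (default : Spec (CommRingCat.of Ω)), ?_⟩
    rw [lam_zpt_apply, ← e1]
    rfl
  have hcov : (Set.univ : Set (Zf f η)) ⊆ ⋃ ξ, N ξ := by
    intro z _
    obtain ⟨ξ, hξ, rfl⟩ := exists_zpt_eq f η z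
    exact Set.mem_iUnion.mpr ⟨⟨ξ, hξ⟩, hNmem ⟨ξ, hξ⟩⟩
  obtain ⟨t, ht⟩ := isCompact_univ.elim_finite_subcover N hNopen hcov
  -- Step 2: common refinement
  obtain ⟨V₀, v₀, hV₀⟩ := exists_common_refinement η t V v
  choose k hk using hV₀
  -- Step 3: shrink
  let Rg : ∀ ξ : {ξ : Spec (CommRingCat.of Ω) ⟶ X // ξ ≫ f = η}, (pullback (V ξ).hom f).Opens :=
    fun ξ => ⟨Set.range (a ξ).left, (a ξ).left.isOpenMap.isOpen_range⟩
  let B : (pullback V₀.hom f).Opens :=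
    ⨆ ξ : {ξ // ξ ∈ t}, (((EtCoh.bc f).map (k ξ.1 ξ.2)).left :
      pullback V₀.hom f ⟶ pullback (V ξ.1).hom f) ⁻¹ᵁ Rg ξ.1
  have hB : ∀ x : ↥(pullback V₀.hom f), (pullback.fst V₀.hom f) x =
      (v₀.left : Spec (CommRingCat.of Ω) ⟶ V₀.left) (default : Spec (CommRingCat.of Ω)) →
      x ∈ B := by
    intro x hx
    obtain ⟨ξ₂, h₂, hxx⟩ := exists_liftPt_eq f η V₀ v₀ x hx
    have hz := ht (Set.mem_univ (zpt f η ξ₂ h₂ default))
    obtain ⟨ξ, hξt, hξN⟩ := Set.mem_iUnion₂.mp hz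
    have hξN' : lam f η (V ξ) (v ξ) (zpt f η ξ₂ h₂ default) ∈ Rg ξ := hξN
    rw [lam_zpt_apply] at hξN'
    refine TopologicalSpace.Opens.mem_iSup.mpr ⟨⟨ξ, hξt⟩, ?_⟩
    rw [← hxx]
    exact (liftPt_mem_preimage_iff f η ξ₂ h₂ (k ξ hξt) v₀ (v ξ) (hk ξ hξt) (Rg ξ)).mpr hξN'
  obtain ⟨V₁, k₁, v₁, l₁, hk₁, hl₁⟩ := exists_shrink f η V₀ v₀ B hB
  -- Step 4: the covering family of `V₁ ×_Y X`
  let kk : ∀ i : {ξ // ξ ∈ t}, V₁ ⟶ V i.1 := fun i => k₁ ≫ k i.1 i.2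
  have hkk : ∀ i : {ξ // ξ ∈ t}, (Scheme.pointSmallEtale η).fiber.map (kk i) v₁ = v i.1 := by
    intro i
    have e1 : (Scheme.pointSmallEtale η).fiber.map (kk i) v₁ =
        (Scheme.pointSmallEtale η).fiber.map (k i.1 i.2)
          ((Scheme.pointSmallEtale η).fiber.map k₁ v₁) := by
      change (Scheme.pointSmallEtale η).fiber.map (k₁ ≫ k i.1 i.2) v₁ = _
      rw [Functor.map_comp]
      rfl
    rw [e1, hk₁, hk i.1 i.2]
  obtain ⟨bmm, hbmm⟩ : ∃ bmm : ∀ i : {ξ // ξ ∈ t}, pullback V₁.hom f ⟶ pullback (V i.1).hom f,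
      ∀ i, bmm i = ((EtCoh.bc f).map (kk i)).left := ⟨_, fun _ => rfl⟩
  obtain ⟨al, hal⟩ : ∃ al : ∀ i : {ξ // ξ ∈ t}, (W i.1).left ⟶ pullback (V i.1).hom f,
      ∀ i, al i = (a i.1).left := ⟨_, fun _ => rfl⟩
  have halet : ∀ i, Etale (al i) := fun i =>
    (hal i).symm ▸ (inferInstanceAs (Etale (a i.1).left))
  obtain ⟨bm₁, hbm₁⟩ : ∃ bm₁ : pullback V₁.hom f ⟶ pullback V₀.hom f,
      bm₁ = ((EtCoh.bc f).map k₁).left := ⟨_, rfl⟩
  obtain ⟨bk, hbk⟩ : ∃ bk : ∀ i : {ξ // ξ ∈ t}, pullback V₀.hom f ⟶ pullback (V i.1).hom f,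
      ∀ i, bk i = ((EtCoh.bc f).map (k i.1 i.2)).left := ⟨_, fun _ => rfl⟩
  have hbmm' : ∀ i : {ξ // ξ ∈ t}, bmm i = bm₁ ≫ bk i := by
    intro i
    rw [hbmm, hbm₁, hbk]
    change ((EtCoh.bc f).map (k₁ ≫ k i.1 i.2)).left = _
    rw [Functor.map_comp]
    rfl
  have hbmmsnd : ∀ i : {ξ // ξ ∈ t}, bmm i ≫ pullback.snd (V i.1).hom f = pullback.snd V₁.hom f := by
    intro i
    rw [hbmm]; exact bc_map_left_snd f (kk i)
  let U' : {ξ // ξ ∈ t} → Scheme.{u} := fun i => pullback (al i) (bmm i)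
  let g' : ∀ i, U' i ⟶ pullback V₁.hom f := fun i => pullback.snd (al i) (bmm i)
  have hg'et : ∀ i, Etale (g' i) := fun i => inferInstanceAs (Etale (pullback.snd (al i) (bmm i)))
  have hcov' : ∀ x : ↥(pullback V₁.hom f), ∃ i, x ∈ Set.range (g' i) := by
    intro x
    have hxB : bm₁ x ∈ B := by
      rw [hbm₁, ← hl₁, Scheme.Hom.comp_apply]
      exact (l₁ x).2
    obtain ⟨i, w, hw⟩ := TopologicalSpace.Opens.mem_iSup.mp hxB
    have hw' : al i w = bmm i x := by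
      rw [hbmm' i, Scheme.Hom.comp_apply, hal i, hbk i]
      exact hw
    obtain ⟨q, -, hq⟩ := Scheme.Pullback.exists_preimage_pullback (f := al i) (g := bmm i) w x hw'
    exact ⟨i, q, hq⟩
  obtain ⟨V₂, k₂, ⟨y', hy'⟩, μ, W', hdisj, htop, hlift⟩ :=
    propB_local' f V₁ U' g' hcov' ((v₁.left : Spec (CommRingCat.of Ω) ⟶ V₁.left)
      (default : Spec (CommRingCat.of Ω)))
  obtain ⟨l, hl, -⟩ := Scheme.exists_fac_of_etale_of_isSepClosed k₂.left v₁.left y' hy'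
  have hlη : l ≫ V₂.hom = η := by
    have e1 : k₂.left ≫ V₁.hom = V₂.hom := Over.w k₂.hom
    rw [← e1, reassoc_of% hl]
    exact Over.w v₁
  let v₂ : (Scheme.pointSmallEtale η).fiber.obj V₂ := Over.homMk l hlη
  have hk₂ : (Scheme.pointSmallEtale η).fiber.map k₂ v₂ = v₁ := Over.OverMorphism.ext hl
  obtain ⟨bm₂, hbm₂⟩ : ∃ bm₂ : pullback V₂.hom f ⟶ pullback V₁.hom f,
      bm₂ = ((EtCoh.bc f).map k₂).left := ⟨_, rfl⟩
  have hbm₂snd : bm₂ ≫ pullback.snd V₁.hom f = pullback.snd V₂.hom f := by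
    rw [hbm₂]; exact bc_map_left_snd f k₂
  -- Step 6: glue
  choose ia hW hhW using hlift
  have hhW' : ∀ a₀, hW a₀ ≫ pullback.snd (al (ia a₀)) (bmm (ia a₀)) = (W' a₀).ι ≫ bm₂ := by
    intro a₀
    rw [hbm₂]
    exact hhW a₀
  let U₂ : X.Etale := (EtCoh.bc f).obj V₂
  have hc : ∀ a₀, (hW a₀ ≫ pullback.fst (al (ia a₀)) (bmm (ia a₀))) ≫ (W (ia a₀).1).hom =
      (W' a₀).ι ≫ pullback.snd V₂.hom f := by
    intro a₀
    have e1 : al (ia a₀) ≫ pullback.snd (V (ia a₀).1).hom f = (W (ia a₀).1).hom := by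
      rw [hal]; exact Over.w (a (ia a₀).1).hom
    calc (hW a₀ ≫ pullback.fst (al (ia a₀)) (bmm (ia a₀))) ≫ (W (ia a₀).1).hom
        = hW a₀ ≫ (pullback.fst (al (ia a₀)) (bmm (ia a₀)) ≫ al (ia a₀)) ≫
            pullback.snd (V (ia a₀).1).hom f := by rw [← e1]; simp only [Category.assoc]
      _ = hW a₀ ≫ (pullback.snd (al (ia a₀)) (bmm (ia a₀)) ≫ bmm (ia a₀)) ≫
            pullback.snd (V (ia a₀).1).hom f := by rw [pullback.condition]
      _ = (hW a₀ ≫ pullback.snd (al (ia a₀)) (bmm (ia a₀))) ≫ (bmm (ia a₀) ≫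
            pullback.snd (V (ia a₀).1).hom f) := by simp only [Category.assoc]
      _ = (W' a₀).ι ≫ pullback.snd V₂.hom f := by
          rw [hhW', hbmmsnd, Category.assoc, hbm₂snd]
  let c : ∀ a₀, opn U₂ (W' a₀) ⟶ W (ia a₀).1 := fun a₀ =>
    MorphismProperty.Over.homMk (hW a₀ ≫ pullback.fst (al (ia a₀)) (bmm (ia a₀))) (hc a₀)
  have hca : ∀ a₀, c a₀ ≫ a (ia a₀).1 =
      opnι U₂ (W' a₀) ≫ (EtCoh.bc f).map (k₂ ≫ kk (ia a₀)) := by
    intro a₀
    apply MorphismProperty.Over.Hom.ext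
    change (hW a₀ ≫ pullback.fst (al (ia a₀)) (bmm (ia a₀))) ≫ (a (ia a₀).1).left =
      (W' a₀).ι ≫ ((EtCoh.bc f).map (k₂ ≫ kk (ia a₀))).left
    have e2 : ((EtCoh.bc f).map (k₂ ≫ kk (ia a₀))).left = bm₂ ≫ bmm (ia a₀) := by
      rw [hbm₂, hbmm, Functor.map_comp]
      rfl
    rw [e2, ← hal, Category.assoc]
    calc hW a₀ ≫ pullback.fst (al (ia a₀)) (bmm (ia a₀)) ≫ al (ia a₀)
        = hW a₀ ≫ pullback.snd (al (ia a₀)) (bmm (ia a₀)) ≫ bmm (ia a₀) :=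
          hW a₀ ≫= pullback.condition
      _ = (hW a₀ ≫ pullback.snd (al (ia a₀)) (bmm (ia a₀))) ≫ bmm (ia a₀) :=
          (Category.assoc _ _ _).symm
      _ = ((W' a₀).ι ≫ bm₂) ≫ bmm (ia a₀) := by rw [hhW']
      _ = (W' a₀).ι ≫ bm₂ ≫ bmm (ia a₀) := Category.assoc _ _ _
  let sa : ∀ a₀, (P ⋙ forget A).obj (op (opn U₂ (W' a₀))) := fun a₀ =>
    (P ⋙ forget A).map (c a₀).op (σ (ia a₀).1)
  obtain ⟨S, hS⟩ := exists_glue_sections (P ⋙ forget A) hP U₂ W' hdisj htop sa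
  refine ⟨(Scheme.pointSmallEtale η).toPresheafFiber V₂ v₂ ((EtCoh.bc f).op ⋙ P) S, ?_⟩
  intro ξ₂
  rw [← ConcreteCategory.comp_apply, toPresheafFiber_θ]
  obtain ⟨L₂, hL₂⟩ : ∃ L₂ : Spec (CommRingCat.of Ω) ⟶ pullback V₂.hom f,
      L₂ = (liftPt f ξ₂.1 η ξ₂.2 V₂ v₂).left := ⟨_, rfl⟩
  obtain ⟨a₀, ha₀⟩ : ∃ a₀, L₂ default ∈ W' a₀ := by
    have : L₂ default ∈ (⨆ a₀, W' a₀) := by rw [htop]; trivial
    exact TopologicalSpace.Opens.mem_iSup.mp this
  obtain ⟨d, hd⟩ := exists_lift_open L₂ (W' a₀) ha₀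
  have hdw : d ≫ (opn U₂ (W' a₀)).hom = ξ₂.1 := by
    change d ≫ (W' a₀).ι ≫ pullback.snd V₂.hom f = ξ₂.1
    rw [reassoc_of% hd, hL₂]
    exact liftPt_left_snd f ξ₂.1 η ξ₂.2 V₂ v₂
  let w' : (Scheme.pointSmallEtale ξ₂.1).fiber.obj (opn U₂ (W' a₀)) := Over.homMk d hdw
  have hw' : (Scheme.pointSmallEtale ξ₂.1).fiber.map (opnι U₂ (W' a₀)) w' =
      liftPt f ξ₂.1 η ξ₂.2 V₂ v₂ := by
    apply Over.OverMorphism.ext
    exact hd.trans hL₂
  have hfin : (Scheme.pointSmallEtale ξ₂.1).fiber.map (a (ia a₀).1)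
      ((Scheme.pointSmallEtale ξ₂.1).fiber.map (c a₀) w') =
      liftPt f ξ₂.1 η ξ₂.2 (V (ia a₀).1) (v (ia a₀).1) := by
    have e1 : (Scheme.pointSmallEtale ξ₂.1).fiber.map (a (ia a₀).1)
        ((Scheme.pointSmallEtale ξ₂.1).fiber.map (c a₀) w') =
        (Scheme.pointSmallEtale ξ₂.1).fiber.map ((EtCoh.bc f).map (k₂ ≫ kk (ia a₀)))
          ((Scheme.pointSmallEtale ξ₂.1).fiber.map (opnι U₂ (W' a₀)) w') := by
      have h1 : (Scheme.pointSmallEtale ξ₂.1).fiber.map (a (ia a₀).1)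
          ((Scheme.pointSmallEtale ξ₂.1).fiber.map (c a₀) w') =
          (Scheme.pointSmallEtale ξ₂.1).fiber.map (c a₀ ≫ a (ia a₀).1) w' := by
        rw [Functor.map_comp]
        rfl
      have h2 : (Scheme.pointSmallEtale ξ₂.1).fiber.map ((EtCoh.bc f).map (k₂ ≫ kk (ia a₀)))
          ((Scheme.pointSmallEtale ξ₂.1).fiber.map (opnι U₂ (W' a₀)) w') =
          (Scheme.pointSmallEtale ξ₂.1).fiber.map
            (opnι U₂ (W' a₀) ≫ (EtCoh.bc f).map (k₂ ≫ kk (ia a₀))) w' := by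
        rw [Functor.map_comp (Scheme.pointSmallEtale ξ₂.1).fiber]
        rfl
      rw [h1, h2, hca a₀]
    rw [e1, hw', liftPt_map]
    congr 1
    have e3 : (Scheme.pointSmallEtale η).fiber.map (k₂ ≫ kk (ia a₀)) v₂ =
        (Scheme.pointSmallEtale η).fiber.map (kk (ia a₀))
          ((Scheme.pointSmallEtale η).fiber.map k₂ v₂) := by
      rw [Functor.map_comp]
      rfl
    rw [e3, hk₂, hkk]
  have key := hσ (ia a₀).1 ξ₂ ((Scheme.pointSmallEtale ξ₂.1).fiber.map (c a₀) w') hfin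
  rw [← key, ← hw']
  have r1 := (Scheme.pointSmallEtale ξ₂.1).toPresheafFiber_w_apply (opnι U₂ (W' a₀)) w' P S
  have r2 := (Scheme.pointSmallEtale ξ₂.1).toPresheafFiber_w_apply (c a₀) w' P (σ (ia a₀).1)
  rw [← r1, ← r2]
  congr 1
  exact hS a₀

end Surj

end Groth.Agent.Lib.T2H8IntSurj
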