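import Mathlib
import Groth.Prelude.Def_EtBase
import Groth.Prelude.Def_PBC
import Groth.Agent.Lib.T2H8StalkFinite
import Groth.Agent.Lib.T2H8PropCIntegral
import Groth.Agent.Lib.T2H8FiniteBC

/-!
# Direct image along an integral universally injective morphism (helper8)

For `f : X ⟶ Y` integral and universally injective and `ξ` a geometric point of `X`, the canonical
map `θ : (f_* P)_{f ξ} ⟶ P_ξ` is bijective for every presheaf `P` (base changes of etale
neighbourhoods of `f ξ` are cofinal among etale neighbourhoods of `ξ`).  Consequences: the counit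
`f⁻¹ f_* F ⟶ F` is an isomorphism, `f_*` is fully faithful, with essential image the sheaves
supported on the image.
-/

set_option autoImplicit false
universe u

open CategoryTheory CategoryTheory.Limits AlgebraicGeometry Opposite

namespace Groth.Agent.Lib.T2H8StalkUnivInj

open Groth.Agent.Lib.T2H8StalkFiniteCore Groth.Agent.Lib.T2H8StalkFinite
  Groth.Agent.Lib.T2H8PropCIntegral
open Groth.Agent.Lib.Helper16.SmallEtale
open Groth.Agent.Lib.T2H8FiniteSplit Groth.Agent.Lib.T2H8GeomPt Groth.Agent.Lib.T2H8FiniteSplitPt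
open Groth.Agent.S0100 Groth.Agent.S0101 Groth.Agent.Lib.Helper16.StalkPull
open Groth.Agent.Lib.Helper16.EtStalk Groth.Agent.Lib.T2H8FiniteBC

variable {X Y : Scheme.{u}} (f : X ⟶ Y) {Ω : Type u} [Field Ω] [IsSepClosed Ω]

set_option backward.isDefEq.respectTransparency.types false in
/-- pointed condition (C): every etale neighbourhood of `ξ` is dominated by the base change of an
etale neighbourhood of `η = ξ ≫ f`. -/
theorem exists_pointed_bc [IsIntegralHom f] (hf : Topology.IsClosedEmbedding f.base)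
    (ξ : Spec (CommRingCat.of Ω) ⟶ X) (η : Spec (CommRingCat.of Ω) ⟶ Y) (h : ξ ≫ f = η)
    (U : X.Etale) (ub : (Scheme.pointSmallEtale ξ).fiber.obj U) :
    ∃ (V : Y.Etale) (v : (Scheme.pointSmallEtale η).fiber.obj V) (a : (EtCoh.bc f).obj V ⟶ U),
      (Scheme.pointSmallEtale ξ).fiber.map a (liftPt f ξ η h V v) = ub := by
  obtain ⟨u₀, hu₀⟩ : ∃ u₀ : Spec (CommRingCat.of Ω) ⟶ U.left, u₀ = ub.left := ⟨_, rfl⟩
  have hu₀ξ : u₀ ≫ U.hom = ξ := by rw [hu₀]; exact Over.w ub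
  obtain ⟨V₀, v₀, hv₀, h₀, hh₀, w, hw⟩ := exists_local f hf U.hom (u₀ default)
  haveI : Etale (h₀ ≫ U.hom) := hh₀ ▸ inferInstance
  haveI : Etale h₀ := Etale.of_comp h₀ U.hom
  obtain ⟨l, hl, -⟩ := Scheme.exists_fac_of_etale_of_isSepClosed h₀ u₀ w hw
  let V : Y.Etale := Scheme.Etale.mk v₀
  have hlη : (l ≫ pullback.snd f v₀) ≫ v₀ = η := by
    rw [Category.assoc, ← pullback.condition, ← hh₀, ← Category.assoc, ← Category.assoc, hl, hu₀ξ, h]
  let v : (Scheme.pointSmallEtale η).fiber.obj V := Over.homMk (l ≫ pullback.snd f v₀) hlη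
  have ha : ((pullbackSymmetry v₀ f).hom ≫ h₀) ≫ U.hom = pullback.snd v₀ f := by
    rw [Category.assoc, hh₀, pullbackSymmetry_hom_comp_fst]
  let a : (EtCoh.bc f).obj V ⟶ U := MorphismProperty.Over.homMk ((pullbackSymmetry v₀ f).hom ≫ h₀) ha
  refine ⟨V, v, a, ?_⟩
  apply Over.OverMorphism.ext
  obtain ⟨L, hL⟩ : ∃ L : Spec (CommRingCat.of Ω) ⟶ pullback v₀ f, L = (liftPt f ξ η h V v).left :=
    ⟨_, rfl⟩
  have hL1 : L ≫ pullback.fst v₀ f = l ≫ pullback.snd f v₀ := by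
    rw [hL]; exact liftPt_left_fst f ξ η h V v
  have hL2 : L ≫ pullback.snd v₀ f = ξ := by
    rw [hL]; exact liftPt_left_snd f ξ η h V v
  have e1 : L = l ≫ (pullbackSymmetry f v₀).hom := by
    apply pullback.hom_ext
    · rw [hL1, Category.assoc, pullbackSymmetry_hom_comp_fst]
    · rw [hL2, Category.assoc, pullbackSymmetry_hom_comp_snd, ← hh₀, ← Category.assoc, hl, hu₀ξ]
  have e2 : (pullbackSymmetry f v₀).hom ≫ (pullbackSymmetry v₀ f).hom = 𝟙 _ := by
    apply pullback.hom_ext <;> simp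
  have e3 : L ≫ (pullbackSymmetry v₀ f).hom = l := by
    rw [e1, Category.assoc, e2, Category.comp_id]
  change (liftPt f ξ η h V v).left ≫ ((pullbackSymmetry v₀ f).hom ≫ h₀) = ub.left
  rw [← hL]
  exact (Category.assoc _ _ _).symm.trans ((e3 =≫ h₀).trans (hl.trans hu₀))

/-- an integral universally injective morphism is a closed embedding on underlying spaces. -/
theorem isClosedEmbedding_of_integral_univInj [IsIntegralHom f] [UniversallyInjective f] :
    Topology.IsClosedEmbedding f.base :=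
  Topology.IsClosedEmbedding.of_continuous_injective_isClosedMap f.continuous f.injective
    f.isClosedMap

/-- Zariski shrinking: for an integral universally injective `g`, every open neighbourhood of a
point contains the preimage of an open neighbourhood of its image. -/
theorem exists_open_preimage_le {P S : Scheme.{u}} (g : P ⟶ S) [IsIntegralHom g]
    [UniversallyInjective g] (p : P) (E : P.Opens) (hp : p ∈ E) :
    ∃ So : S.Opens, g p ∈ So ∧ g ⁻¹ᵁ So ≤ E := by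
  have hcl : IsClosed (g '' (E : Set P)ᶜ) := g.isClosedMap _ E.isOpen.isClosed_compl
  refine ⟨⟨(g '' (E : Set P)ᶜ)ᶜ, hcl.isOpen_compl⟩, ?_, ?_⟩
  · rintro ⟨z, hz, hzp⟩
    exact hz (g.injective hzp ▸ hp)
  · intro q hq
    by_contra hqE
    exact hq ⟨q, hqE, rfl⟩

/-- two morphisms of etale `X`-schemes agreeing at a geometric point agree on an open
neighbourhood of its image. -/
theorem exists_open_eq {T U : X.Etale} (α β : T ⟶ U) (ξ : Spec (CommRingCat.of Ω) ⟶ X)
    (t : (Scheme.pointSmallEtale ξ).fiber.obj T)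
    (ht : (Scheme.pointSmallEtale ξ).fiber.map α t = (Scheme.pointSmallEtale ξ).fiber.map β t) :
    ∃ E : T.left.Opens, (t.left : Spec (CommRingCat.of Ω) ⟶ T.left) (default : Spec (CommRingCat.of Ω)) ∈ E ∧
      E.ι ≫ α.left = E.ι ≫ β.left := by
  obtain ⟨a, ha⟩ : ∃ a : T.left ⟶ U.left, a = α.left := ⟨_, rfl⟩
  obtain ⟨b, hb⟩ : ∃ b : T.left ⟶ U.left, b = β.left := ⟨_, rfl⟩
  obtain ⟨g, hg⟩ : ∃ g : U.left ⟶ X, g = U.hom := ⟨_, rfl⟩
  obtain ⟨t₀, ht₀⟩ : ∃ t₀ : Spec (CommRingCat.of Ω) ⟶ T.left, t₀ = t.left := ⟨_, rfl⟩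
  haveI : Etale g := hg ▸ inferInstance
  have hab : a ≫ g = b ≫ g := by
    rw [ha, hb, hg]
    exact (Over.w α.hom).trans (Over.w β.hom).symm
  have hta : t₀ ≫ a = t₀ ≫ b := by
    rw [ha, hb, ht₀]
    exact congrArg (fun m => m.left) ht
  obtain ⟨γ, hγ1, hγ2⟩ : ∃ γ : T.left ⟶ pullback g g,
      γ ≫ pullback.fst g g = a ∧ γ ≫ pullback.snd g g = b :=
    ⟨pullback.lift a b hab, pullback.lift_fst _ _ _, pullback.lift_snd _ _ _⟩
  obtain ⟨Δ, hΔo, hΔ1, hΔ2⟩ : ∃ Δ : U.left ⟶ pullback g g, IsOpenImmersion Δ ∧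
      Δ ≫ pullback.fst g g = 𝟙 _ ∧ Δ ≫ pullback.snd g g = 𝟙 _ :=
    ⟨pullback.diagonal g, inferInstance, pullback.diagonal_fst _, pullback.diagonal_snd _⟩
  let E : T.left.Opens := γ ⁻¹ᵁ Δ.opensRange
  have hγΔ : t₀ ≫ γ = (t₀ ≫ a) ≫ Δ := by
    apply pullback.hom_ext
    · rw [Category.assoc, hγ1, Category.assoc, hΔ1, Category.comp_id]
    · rw [Category.assoc, hγ2, Category.assoc, hΔ2, Category.comp_id, hta]
  refine ⟨E, ?_, ?_⟩
  · rw [← ht₀]
    change γ (t₀ default) ∈ Set.range Δ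
    refine ⟨(t₀ ≫ a) default, ?_⟩
    rw [← Scheme.Hom.comp_apply, ← Scheme.Hom.comp_apply, hγΔ]
  · rw [← ha, ← hb]
    have hr : Set.range (E.ι ≫ γ) ⊆ Set.range Δ := by
      rintro _ ⟨e, rfl⟩
      exact e.2
    let l := IsOpenImmersion.lift Δ (E.ι ≫ γ) hr
    have hl : l ≫ Δ = E.ι ≫ γ := IsOpenImmersion.lift_fac _ _ _
    have h1 : E.ι ≫ a = l := by
      rw [← hγ1, ← Category.assoc, ← hl, Category.assoc, hΔ1, Category.comp_id]
    have h2 : E.ι ≫ b = l := by
      rw [← hγ2, ← Category.assoc, ← hl, Category.assoc, hΔ2, Category.comp_id]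
    rw [h1, h2]

set_option backward.isDefEq.respectTransparency.types false in
/-- shrinking an etale neighbourhood of `η` so that its base change lands in a given open
neighbourhood of the lifted point. -/
theorem exists_shrink [IsIntegralHom f] [UniversallyInjective f]
    (ξ : Spec (CommRingCat.of Ω) ⟶ X) (η : Spec (CommRingCat.of Ω) ⟶ Y) (h : ξ ≫ f = η)
    (V₂ : Y.Etale) (v₂ : (Scheme.pointSmallEtale η).fiber.obj V₂) (E : (pullback V₂.hom f).Opens)
    (hE : ((liftPt f ξ η h V₂ v₂).left : Spec (CommRingCat.of Ω) ⟶ pullback V₂.hom f)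
      (default : Spec (CommRingCat.of Ω)) ∈ E) :
    ∃ (V₃ : Y.Etale) (k₃ : V₃ ⟶ V₂) (v₃ : (Scheme.pointSmallEtale η).fiber.obj V₃)
      (l : pullback V₃.hom f ⟶ E),
      (Scheme.pointSmallEtale η).fiber.map k₃ v₃ = v₂ ∧ l ≫ E.ι = ((EtCoh.bc f).map k₃).left := by
  obtain ⟨fV₂, hfV₂⟩ : ∃ fV₂ : pullback V₂.hom f ⟶ V₂.left, fV₂ = pullback.fst V₂.hom f := ⟨_, rfl⟩
  haveI : IsIntegralHom fV₂ := hfV₂ ▸ MorphismProperty.pullback_fst (P := @IsIntegralHom) _ _ ‹_›
  haveI : UniversallyInjective fV₂ :=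
    hfV₂ ▸ MorphismProperty.pullback_fst (P := @UniversallyInjective) _ _ ‹_›
  obtain ⟨L₂, hL₂⟩ : ∃ L₂ : Spec (CommRingCat.of Ω) ⟶ pullback V₂.hom f,
      L₂ = (liftPt f ξ η h V₂ v₂).left := ⟨_, rfl⟩
  obtain ⟨v₂l, hv₂l⟩ : ∃ v₂l : Spec (CommRingCat.of Ω) ⟶ V₂.left, v₂l = v₂.left := ⟨_, rfl⟩
  have hL₂fst : L₂ ≫ fV₂ = v₂l := by
    rw [hL₂, hfV₂, hv₂l]; exact liftPt_left_fst f ξ η h V₂ v₂
  obtain ⟨Vo, hVo, hVoE⟩ := exists_open_preimage_le fV₂ (L₂ default) E (by rw [hL₂]; exact hE)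
  have hv₂mem : v₂l default ∈ Vo := by
    rw [← hL₂fst, Scheme.Hom.comp_apply]; exact hVo
  obtain ⟨l₃, hl₃⟩ := exists_lift_open v₂l Vo hv₂mem
  let V₃ : Y.Etale := Scheme.Etale.mk (Vo.ι ≫ V₂.hom)
  let k₃ : V₃ ⟶ V₂ := MorphismProperty.Over.homMk Vo.ι rfl
  have hl₃η : l₃ ≫ Vo.ι ≫ V₂.hom = η := by
    rw [reassoc_of% hl₃, hv₂l]
    exact Over.w v₂
  let v₃ : (Scheme.pointSmallEtale η).fiber.obj V₃ := Over.homMk l₃ hl₃η
  have hk₃ : (Scheme.pointSmallEtale η).fiber.map k₃ v₃ = v₂ := by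
    apply Over.OverMorphism.ext
    exact hl₃.trans hv₂l
  obtain ⟨b₃, hb₃⟩ : ∃ b₃ : pullback V₃.hom f ⟶ pullback V₂.hom f,
      b₃ = ((EtCoh.bc f).map k₃).left := ⟨_, rfl⟩
  have hb₃fst : b₃ ≫ fV₂ = pullback.fst V₃.hom f ≫ Vo.ι := by
    rw [hb₃, hfV₂]
    exact bc_map_left_fst f k₃
  have hr : Set.range b₃ ⊆ Set.range E.ι := by
    rintro _ ⟨z, rfl⟩
    rw [Scheme.Opens.range_ι]
    apply hVoE
    change fV₂ (b₃ z) ∈ Vo
    rw [← Scheme.Hom.comp_apply, hb₃fst, Scheme.Hom.comp_apply]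
    exact ((pullback.fst V₃.hom f) z).2
  refine ⟨V₃, k₃, v₃, IsOpenImmersion.lift E.ι b₃ hr, hk₃, ?_⟩
  rw [← hb₃]
  exact IsOpenImmersion.lift_fac _ _ _

set_option backward.isDefEq.respectTransparency.types false in
/-- cofinality, second half: two maps from a base change to an etale `X`-scheme which agree at the
lifted point agree after shrinking the etale neighbourhood downstairs. -/
theorem exists_equalize [IsIntegralHom f] [UniversallyInjective f]
    (ξ : Spec (CommRingCat.of Ω) ⟶ X) (η : Spec (CommRingCat.of Ω) ⟶ Y) (h : ξ ≫ f = η)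
    (V₂ : Y.Etale) (v₂ : (Scheme.pointSmallEtale η).fiber.obj V₂) {U : X.Etale}
    (α β : (EtCoh.bc f).obj V₂ ⟶ U)
    (hαβ : (Scheme.pointSmallEtale ξ).fiber.map α (liftPt f ξ η h V₂ v₂) =
      (Scheme.pointSmallEtale ξ).fiber.map β (liftPt f ξ η h V₂ v₂)) :
    ∃ (V₃ : Y.Etale) (k₃ : V₃ ⟶ V₂) (v₃ : (Scheme.pointSmallEtale η).fiber.obj V₃),
      (Scheme.pointSmallEtale η).fiber.map k₃ v₃ = v₂ ∧
      (EtCoh.bc f).map k₃ ≫ α = (EtCoh.bc f).map k₃ ≫ β := by
  obtain ⟨E, hE, hEαβ⟩ := exists_open_eq α β ξ (liftPt f ξ η h V₂ v₂) hαβ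
  obtain ⟨V₃, k₃, v₃, l, hk₃, hl⟩ := exists_shrink f ξ η h V₂ v₂ E hE
  refine ⟨V₃, k₃, v₃, hk₃, ?_⟩
  apply MorphismProperty.Over.Hom.ext
  change ((EtCoh.bc f).map k₃).left ≫ α.left = ((EtCoh.bc f).map k₃).left ≫ β.left
  rw [← hl]
  exact (Category.assoc l E.ι α.left).trans ((l ≫= hEαβ).trans (Category.assoc l E.ι β.left).symm)

section Concrete

variable {A : Type (u + 2)} [Category.{u + 1} A] [HasColimitsOfSize.{u, u} A]
variable {FC : A → A → Type*} {CC : A → Type (u + 1)}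
  [∀ X Y, FunLike (FC X Y) (CC X) (CC Y)] [ConcreteCategory.{u + 1} A FC]
  [PreservesFilteredColimitsOfSize.{u, u} (forget A)]

set_option backward.isDefEq.respectTransparency.types false in
theorem θ_surjective [IsIntegralHom f] (hf : Topology.IsClosedEmbedding f.base)
    (ξ : Spec (CommRingCat.of Ω) ⟶ X) (η : Spec (CommRingCat.of Ω) ⟶ Y) (h : ξ ≫ f = η)
    (P : X.Etaleᵒᵖ ⥤ A) : Function.Surjective (θ f ξ η h P) := by
  intro τ
  obtain ⟨U, ub, t, ht⟩ := (Scheme.pointSmallEtale ξ).toPresheafFiber_jointly_surjective τ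
  obtain ⟨V, v, a, ha⟩ := exists_pointed_bc f hf ξ η h U ub
  refine ⟨(Scheme.pointSmallEtale η).toPresheafFiber V v ((EtCoh.bc f).op ⋙ P) (P.map a.op t), ?_⟩
  rw [← ConcreteCategory.comp_apply, toPresheafFiber_θ, ← ht, ← ha,
    ← (Scheme.pointSmallEtale ξ).toPresheafFiber_w_apply a (liftPt f ξ η h V v) P t]

set_option backward.isDefEq.respectTransparency.types false in
theorem θ_injective [IsIntegralHom f] [UniversallyInjective f]
    (ξ : Spec (CommRingCat.of Ω) ⟶ X) (η : Spec (CommRingCat.of Ω) ⟶ Y) (h : ξ ≫ f = η)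
    (P : X.Etaleᵒᵖ ⥤ A) : Function.Injective (θ f ξ η h P) := by
  intro p₁ p₂ e
  obtain ⟨V, v, s₁, s₂, rfl, rfl⟩ :=
    (Scheme.pointSmallEtale η).toPresheafFiber_jointly_surjective₂ p₁ p₂
  rw [← ConcreteCategory.comp_apply, ← ConcreteCategory.comp_apply, toPresheafFiber_θ] at e
  obtain ⟨W, a, wb, hwb, ha⟩ :=
    ((Scheme.pointSmallEtale ξ).toPresheafFiber_eq_iff' _ _ s₁ s₂).mp e
  obtain ⟨V₁, v₁, c, hc⟩ := exists_pointed_bc f (isClosedEmbedding_of_integral_univInj f) ξ η h W wb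
  let Φ := Scheme.pointSmallEtale η
  obtain ⟨m, ⟨km₁⟩, ⟨km⟩⟩ : ∃ m : Φ.fiber.Elements,
      Nonempty (m ⟶ (⟨V₁, v₁⟩ : Φ.fiber.Elements)) ∧ Nonempty (m ⟶ (⟨V, v⟩ : Φ.fiber.Elements)) :=
    ⟨IsCofiltered.min (⟨V₁, v₁⟩ : Φ.fiber.Elements) ⟨V, v⟩, ⟨IsCofiltered.minToLeft _ _⟩,
      ⟨IsCofiltered.minToRight _ _⟩⟩
  obtain ⟨V₂, v₂⟩ := m
  let k₁ : V₂ ⟶ V₁ := km₁.1
  let k : V₂ ⟶ V := km.1
  have hk₁ : Φ.fiber.map k₁ v₂ = v₁ := km₁.2
  have hk : Φ.fiber.map k v₂ = v := km.2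
  obtain ⟨V₃, k₃, v₃, hk₃, heq⟩ := exists_equalize f ξ η h V₂ v₂ ((EtCoh.bc f).map k)
    ((EtCoh.bc f).map k₁ ≫ c ≫ a) (by
      rw [liftPt_map, hk, Functor.map_comp, Functor.map_comp]
      change _ = (Scheme.pointSmallEtale ξ).fiber.map a ((Scheme.pointSmallEtale ξ).fiber.map c
        ((Scheme.pointSmallEtale ξ).fiber.map ((EtCoh.bc f).map k₁) (liftPt f ξ η h V₂ v₂)))
      rw [liftPt_map, hk₁, hc, hwb])
  refine ((Scheme.pointSmallEtale η).toPresheafFiber_eq_iff' V v s₁ s₂).mpr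
    ⟨V₃, k₃ ≫ k, v₃, ?_, ?_⟩
  · rw [Functor.map_comp]
    change Φ.fiber.map k (Φ.fiber.map k₃ v₃) = v
    rw [hk₃, hk]
  · change P.map ((EtCoh.bc f).map (k₃ ≫ k)).op s₁ = P.map ((EtCoh.bc f).map (k₃ ≫ k)).op s₂
    have e1 : (EtCoh.bc f).map (k₃ ≫ k) = ((EtCoh.bc f).map k₃ ≫ (EtCoh.bc f).map k₁ ≫ c) ≫ a := by
      rw [Functor.map_comp, heq]
      simp only [Category.assoc]
    rw [e1, op_comp, Functor.map_comp, ConcreteCategory.comp_apply, ConcreteCategory.comp_apply, ha]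

end Concrete

set_option backward.isDefEq.respectTransparency.types false in
/-- the stalk of the counit, transported along `stalkPullIso`, is `θ`. -/
theorem counit_stalk (F : EtCoh.Ab X) (ξ : Spec (CommRingCat.of Ω) ⟶ X)
    (p : ToType ((EtCoh.stalk (ξ ≫ f)).obj ((EtCoh.push f).obj F))) :
    (EtCoh.stalk ξ).map ((EtCoh.pullPushAdj f).counit.app F)
      ((stalkPullIso f ξ).hom.app ((EtCoh.push f).obj F) p) = θ f ξ (ξ ≫ f) rfl F.obj p := by
  obtain ⟨V, v, s, rfl⟩ := (Scheme.pointSmallEtale (ξ ≫ f)).toPresheafFiber_jointly_surjective p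
  have e1 := germ_compat f ξ ((EtCoh.push f).obj F) V v s
  rw [fiberIso_inv_eq_liftPt] at e1
  change (EtCoh.stalk ξ).map ((EtCoh.pullPushAdj f).counit.app F)
    ((stalkPullIso f ξ).hom.app ((EtCoh.push f).obj F)
      (germ (ξ ≫ f) ((EtCoh.push f).obj F) V v s)) = _
  rw [e1]
  have e2 : (EtCoh.stalk ξ).map ((EtCoh.pullPushAdj f).counit.app F)
      (germ ξ ((EtCoh.pull f).obj ((EtCoh.push f).obj F)) ((EtCoh.bc f).obj V)
        (liftPt f ξ (ξ ≫ f) rfl V v)
        ((((EtCoh.pullPushAdj f).unit.app ((EtCoh.push f).obj F)).hom.app (op V)) s)) =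
      germ ξ F ((EtCoh.bc f).obj V) (liftPt f ξ (ξ ≫ f) rfl V v)
        ((((EtCoh.pullPushAdj f).counit.app F).hom.app (op ((EtCoh.bc f).obj V)))
          ((((EtCoh.pullPushAdj f).unit.app ((EtCoh.push f).obj F)).hom.app (op V)) s)) :=
    ConcreteCategory.congr_hom ((Scheme.pointSmallEtale ξ).toPresheafFiber_naturality
      ((EtCoh.pullPushAdj f).counit.app F).hom ((EtCoh.bc f).obj V)
      (liftPt f ξ (ξ ≫ f) rfl V v)) _
  rw [e2]
  have tri := (EtCoh.pullPushAdj f).right_triangle_components F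
  have tri' := congrArg (fun m => m.hom.app (op V)) tri
  have e3 : (((EtCoh.pullPushAdj f).counit.app F).hom.app (op ((EtCoh.bc f).obj V)))
      ((((EtCoh.pullPushAdj f).unit.app ((EtCoh.push f).obj F)).hom.app (op V)) s) = s :=
    ConcreteCategory.congr_hom tri' s
  rw [e3]
  exact (ConcreteCategory.congr_hom (toPresheafFiber_θ f ξ (ξ ≫ f) rfl F.obj V v) s).symm

set_option backward.isDefEq.respectTransparency.types false in
/-- `θ` after the stalk of the unit is `stalkPullIso`. -/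
theorem unit_stalk (G : EtCoh.Ab Y) (ξ : Spec (CommRingCat.of Ω) ⟶ X)
    (q : ToType ((EtCoh.stalk (ξ ≫ f)).obj G)) :
    θ f ξ (ξ ≫ f) rfl ((EtCoh.pull f).obj G).obj
      ((EtCoh.stalk (ξ ≫ f)).map ((EtCoh.pullPushAdj f).unit.app G) q) =
      (stalkPullIso f ξ).hom.app G q := by
  obtain ⟨V, v, σ, rfl⟩ := (Scheme.pointSmallEtale (ξ ≫ f)).toPresheafFiber_jointly_surjective q
  have e1 := germ_compat f ξ G V v σ
  rw [fiberIso_inv_eq_liftPt] at e1
  change _ = (stalkPullIso f ξ).hom.app G (germ (ξ ≫ f) G V v σ)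
  rw [e1]
  have e2 : (EtCoh.stalk (ξ ≫ f)).map ((EtCoh.pullPushAdj f).unit.app G)
      (germ (ξ ≫ f) G V v σ) =
      germ (ξ ≫ f) ((EtCoh.push f).obj ((EtCoh.pull f).obj G)) V v
        ((((EtCoh.pullPushAdj f).unit.app G).hom.app (op V)) σ) :=
    ConcreteCategory.congr_hom ((Scheme.pointSmallEtale (ξ ≫ f)).toPresheafFiber_naturality
      ((EtCoh.pullPushAdj f).unit.app G).hom V v) σ
  change θ f ξ (ξ ≫ f) rfl ((EtCoh.pull f).obj G).obj
      ((EtCoh.stalk (ξ ≫ f)).map ((EtCoh.pullPushAdj f).unit.app G) (germ (ξ ≫ f) G V v σ)) = _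
  rw [e2]
  exact ConcreteCategory.congr_hom
    (toPresheafFiber_θ f ξ (ξ ≫ f) rfl ((EtCoh.pull f).obj G).obj V v) _

set_option backward.isDefEq.respectTransparency.types false in
theorem bijective_θ [IsIntegralHom f] [UniversallyInjective f]
    (ξ : Spec (CommRingCat.of Ω) ⟶ X) (F : EtCoh.Ab X) :
    Function.Bijective (θ f ξ (ξ ≫ f) rfl F.obj) :=
  ⟨θ_injective f ξ (ξ ≫ f) rfl F.obj,
    θ_surjective f (isClosedEmbedding_of_integral_univInj f) ξ (ξ ≫ f) rfl F.obj⟩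

set_option backward.isDefEq.respectTransparency.types false in
/-- the counit `f⁻¹ f_* F ⟶ F` is an isomorphism for `f` integral and universally injective. -/
theorem isIso_counit [IsIntegralHom f] [UniversallyInjective f] (F : EtCoh.Ab X) :
    IsIso ((EtCoh.pullPushAdj f).counit.app F) := by
  apply Groth.Agent.Lib.T2H8StalkAlgClosed.isIso_of_stalks
  intro Ω _ _ ξ
  have hθ := bijective_θ f ξ F
  have hσ : Function.Bijective ((stalkPullIso f ξ).hom.app ((EtCoh.push f).obj F)) :=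
    ConcreteCategory.bijective_of_isIso _
  have hc : ((EtCoh.stalk ξ).map ((EtCoh.pullPushAdj f).counit.app F)) ∘
      ((stalkPullIso f ξ).hom.app ((EtCoh.push f).obj F)) = θ f ξ (ξ ≫ f) rfl F.obj :=
    funext (counit_stalk f F ξ)
  rw [← hc] at hθ
  exact (Function.Bijective.of_comp_iff _ hσ).mp hθ

set_option backward.isDefEq.respectTransparency.types false in
/-- off the (closed) image of `f`, the stalks of a direct image vanish. -/
theorem isZero_stalk_push_of_notMem [IsIntegralHom f] (F : EtCoh.Ab X)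
    (η : Spec (CommRingCat.of Ω) ⟶ Y) (hη : η default ∉ Set.range f) :
    IsZero ((EtCoh.stalk η).obj ((EtCoh.push f).obj F)) := by
  rw [AddCommGrpCat.isZero_iff_subsingleton]
  constructor
  intro p₁ p₂
  obtain ⟨V, v, s₁, s₂, rfl, rfl⟩ :=
    (Scheme.pointSmallEtale η).toPresheafFiber_jointly_surjective₂ p₁ p₂
  have hcl : IsClosed (Set.range f) := f.isClosedMap.isClosed_range
  let Yo : Y.Opens := ⟨(Set.range f)ᶜ, hcl.isOpen_compl⟩
  let Vo : V.left.Opens := V.hom ⁻¹ᵁ Yo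
  obtain ⟨v₀, hv₀⟩ : ∃ v₀ : Spec (CommRingCat.of Ω) ⟶ V.left, v₀ = v.left := ⟨_, rfl⟩
  have hv₀η : v₀ ≫ V.hom = η := by rw [hv₀]; exact Over.w v
  have hmem : v₀ default ∈ Vo := by
    change V.hom (v₀ default) ∈ Yo
    rw [← Scheme.Hom.comp_apply, hv₀η]
    exact hη
  obtain ⟨l₃, hl₃⟩ := exists_lift_open v₀ Vo hmem
  let V₃ : Y.Etale := Scheme.Etale.mk (Vo.ι ≫ V.hom)
  let k₃ : V₃ ⟶ V := MorphismProperty.Over.homMk Vo.ι rfl
  have hl₃η : l₃ ≫ Vo.ι ≫ V.hom = η := by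
    rw [reassoc_of% hl₃, hv₀η]
  let v₃ : (Scheme.pointSmallEtale η).fiber.obj V₃ := Over.homMk l₃ hl₃η
  have hk₃ : (Scheme.pointSmallEtale η).fiber.map k₃ v₃ = v := by
    apply Over.OverMorphism.ext
    exact hl₃.trans hv₀
  have hemp : IsEmpty ((EtCoh.bc f).obj V₃).left := by
    constructor
    intro z
    have h1 : V₃.hom ((pullback.fst V₃.hom f) z) = f ((pullback.snd V₃.hom f) z) := by
      rw [← Scheme.Hom.comp_apply, ← Scheme.Hom.comp_apply, pullback.condition]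
    have h2 : V₃.hom ((pullback.fst V₃.hom f) z) ∈ Yo := by
      change (Vo.ι ≫ V.hom) ((pullback.fst V₃.hom f) z) ∈ Yo
      rw [Scheme.Hom.comp_apply]
      exact ((pullback.fst V₃.hom f) z).2
    rw [h1] at h2
    exact h2 ⟨_, rfl⟩
  have hsub : Subsingleton (ToType (F.obj.obj (op ((EtCoh.bc f).obj V₃)))) :=
    Groth.Agent.Lib.Helper16.EtGlue.subsingleton_of_isEmpty _ (isSheaf_forget F)
      ((EtCoh.bc f).obj V₃)
  refine ((Scheme.pointSmallEtale η).toPresheafFiber_eq_iff' V v s₁ s₂).mpr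
    ⟨V₃, k₃, v₃, hk₃, ?_⟩
  exact hsub.elim _ _

omit [IsSepClosed Ω] in
/-- geometric points with algebraically closed field lift along universally injective
morphisms, over points of the image. -/
theorem exists_lift_geomPt [IsAlgClosed Ω] [UniversallyInjective f]
    (η : Spec (CommRingCat.of Ω) ⟶ Y) (hη : η default ∈ Set.range f) :
    ∃ ξ : Spec (CommRingCat.of Ω) ⟶ X, ξ ≫ f = η := by
  obtain ⟨x, hx⟩ := hη
  have h02 : UniversallyInjective f →
      (Function.Injective f ∧ ∀ x, (f.residueFieldMap x).hom.IsPurelyInseparable) :=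
    ((tfae_universallyInjective f).out 0 2).mp
  have hpi : (f.residueFieldMap x).hom.IsPurelyInseparable := (h02 ‹_›).2 x
  have halg : (f.residueFieldMap x).hom.IsIntegral := by
    intro z
    letI := (f.residueFieldMap x).hom.toAlgebra
    haveI : IsPurelyInseparable (Y.residueField (f x)) (X.residueField x) := hpi
    exact IsPurelyInseparable.isIntegral' (F := Y.residueField (f x)) z
  obtain ⟨ξ, hξ, -⟩ := exists_fac_of_isAlgClosed f η x hx halg
  exact ⟨ξ, hξ⟩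

set_option backward.isDefEq.respectTransparency.types false in
/-- the unit `G ⟶ f_* f⁻¹ G` is an isomorphism when the support of `G` lies in the image. -/
theorem isIso_unit_of_supp [IsIntegralHom f] [UniversallyInjective f] (G : EtCoh.Ab Y)
    (hG : EtPBC.supp G ⊆ Set.range f.base) :
    IsIso ((EtCoh.pullPushAdj f).unit.app G) := by
  apply Groth.Agent.Lib.T2H8StalkAlgClosed.isIso_of_stalks
  intro Ω _ _ η
  by_cases hη : η default ∈ Set.range f
  · obtain ⟨ξ, rfl⟩ := exists_lift_geomPt f η hη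
    have hθ := bijective_θ f ξ ((EtCoh.pull f).obj G)
    have hσ : Function.Bijective ((stalkPullIso f ξ).hom.app G) :=
      ConcreteCategory.bijective_of_isIso _
    have hc : (θ f ξ (ξ ≫ f) rfl ((EtCoh.pull f).obj G).obj) ∘
        ((EtCoh.stalk (ξ ≫ f)).map ((EtCoh.pullPushAdj f).unit.app G)) =
        (stalkPullIso f ξ).hom.app G := funext (unit_stalk f G ξ)
    rw [← hc] at hσ
    exact (Function.Bijective.of_comp_iff' hθ _).mp hσ
  · have hz1 : IsZero ((EtCoh.stalk η).obj G) := by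
      by_contra hnz
      apply hη
      apply hG
      refine ⟨Ω, inferInstance, inferInstance, η, ?_, hnz⟩
      ext y
      constructor
      · rintro ⟨z, rfl⟩
        rw [eq_default z]
        rfl
      · rintro rfl
        exact ⟨default, rfl⟩
    have hz2 := isZero_stalk_push_of_notMem f ((EtCoh.pull f).obj G) η hη
    have s1 := AddCommGrpCat.isZero_iff_subsingleton.mp hz1
    have s2 := AddCommGrpCat.isZero_iff_subsingleton.mp hz2
    constructor
    · intro a b _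
      exact s1.elim a b
    · intro b
      exact ⟨0, s2.elim _ _⟩

set_option backward.isDefEq.respectTransparency.types false in
theorem main [IsIntegralHom f] [UniversallyInjective f] :
    (EtCoh.push f).Full ∧ (EtCoh.push f).Faithful ∧
    (∀ G : EtCoh.Ab Y, (EtCoh.push f).essImage G ↔ EtPBC.supp G ⊆ Set.range f.base) ∧
    ∀ F : EtCoh.Ab X, IsIso ((EtCoh.pullPushAdj f).counit.app F) := by
  have hc : ∀ F : EtCoh.Ab X, IsIso ((EtCoh.pullPushAdj f).counit.app F) := isIso_counit f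
  haveI : IsIso (EtCoh.pullPushAdj f).counit := NatIso.isIso_of_isIso_app _
  have ff := (EtCoh.pullPushAdj f).fullyFaithfulROfIsIsoCounit
  refine ⟨ff.full, ff.faithful, ?_, hc⟩
  intro G
  constructor
  · rintro ⟨F, ⟨e⟩⟩ y ⟨Ω, _, _, η, hη, hnz⟩
    by_contra hy
    apply hnz
    have hy' : η default ∉ Set.range f := by
      have : η default ∈ Set.range η := ⟨default, rfl⟩
      rw [hη] at this
      rw [Set.mem_singleton_iff.mp this]
      exact hy
    exact (isZero_stalk_push_of_notMem f F η hy').of_iso ((EtCoh.stalk η).mapIso e).symm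
  · intro hG
    haveI := isIso_unit_of_supp f G hG
    exact ⟨(EtCoh.pull f).obj G, ⟨(asIso ((EtCoh.pullPushAdj f).unit.app G)).symm⟩⟩

end Groth.Agent.Lib.T2H8StalkUnivInj
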