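import Mathlib
import Groth.Prelude.Def_SGA4b
import Groth.Agent.Lib.T2H8IntBC
import Groth.Agent.Lib.T2H8StalkAlgClosed

set_option autoImplicit false
universe u
open CategoryTheory CategoryTheory.Limits AlgebraicGeometry Opposite

namespace Groth.Agent.Lib.T2H8AgreeAb

open Groth.Agent.Lib.Helper16.StalkPull Groth.Agent.S0101 Groth.Agent.Lib.Helper16.SmallEtale
open Groth.Agent.Lib.T2H8StalkFiniteCore Groth.Agent.Lib.T2H8FiniteBC Groth.Agent.S0100

section Basic

variable {Z : Scheme.{u}}

set_option backward.isDefEq.respectTransparency.types false in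
/-- the agreement locus of two sections of a sheaf of sets over an etale scheme. -/
def agree (G : EtCoh.Ab Z) {V : Z.Etale} (a b : G.obj.obj (op V)) : Set V.left :=
  {v | ∃ (W : Z.Etale) (g : W ⟶ V) (w : W.left), g.left w = v ∧
    G.obj.map g.op a = G.obj.map g.op b}

set_option backward.isDefEq.respectTransparency.types false in
lemma isOpen_agree (G : EtCoh.Ab Z) {V : Z.Etale} (a b : G.obj.obj (op V)) :
    IsOpen (agree G a b) := by
  rw [isOpen_iff_forall_mem_open]
  rintro v ⟨W, g, w, rfl, h⟩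
  haveI : Etale g.left := inferInstanceAs (Etale g.left)
  refine ⟨Set.range g.left, ?_, g.left.isOpenMap.isOpen_range, ⟨w, rfl⟩⟩
  rintro _ ⟨w', rfl⟩
  exact ⟨W, g, w', rfl, h⟩

set_option backward.isDefEq.respectTransparency.types false in
lemma eq_of_agree_eq_univ (G : EtCoh.Ab Z) {V : Z.Etale} (a b : G.obj.obj (op V))
    (h : ∀ v : V.left, v ∈ agree G a b) : a = b := by
  let S : Sieve V :=
    { arrows := fun W g => G.obj.map g.op a = G.obj.map g.op b
      downward_closed := by
        intro W W' g hg k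
        rw [op_comp, Functor.map_comp, ConcreteCategory.comp_apply, ConcreteCategory.comp_apply, hg] }
  have hS : S ∈ Z.smallEtaleTopology V := by
    rw [Groth.Agent.Lib.Helper16.SmallEtale.mem_smallEtale_iff]
    intro x
    obtain ⟨W, g, w, hw, hg⟩ := h x
    exact ⟨W, g, w, hg, hw⟩
  apply ((Groth.Agent.Lib.T2H8FiniteBC.isSheaf_forget G) _ hS).isSeparatedFor.ext
  intro W g hg
  exact hg

variable {Ω : Type u} [Field Ω] [IsSepClosed Ω]

set_option backward.isDefEq.respectTransparency.types false in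
/-- germ criterion for the agreement locus. -/
lemma mem_agree_iff_germ (G : EtCoh.Ab Z) {V : Z.Etale} (a b : G.obj.obj (op V))
    (ξ : Spec (CommRingCat.of Ω) ⟶ Z) (x₀ : (Scheme.pointSmallEtale ξ).fiber.obj V) :
    (x₀.left : Spec (CommRingCat.of Ω) ⟶ V.left) (default : Spec (CommRingCat.of Ω)) ∈ agree G a b ↔
      (Scheme.pointSmallEtale ξ).toPresheafFiber V x₀ G.obj a =
        (Scheme.pointSmallEtale ξ).toPresheafFiber V x₀ G.obj b := by
  let Φ := Scheme.pointSmallEtale ξ
  constructor
  · rintro ⟨W, g, w₀, hw₀, hg⟩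
    haveI : Etale g.left := inferInstanceAs (Etale g.left)
    obtain ⟨l, hl₁, hl₂⟩ := Scheme.exists_fac_of_etale_of_isSepClosed g.left x₀.left w₀ hw₀
    have hlW : l ≫ W.hom = ξ := by
      have e1 : g.left ≫ V.hom = W.hom := MorphismProperty.Over.w g
      rw [← e1, ← Category.assoc, hl₁]
      exact Over.w x₀
    let w : Φ.fiber.obj W := Over.homMk l hlW
    have hw : Φ.fiber.map g w = x₀ := by
      apply Over.OverMorphism.ext
      exact hl₁
    have e1 := Φ.toPresheafFiber_w_apply g w G.obj a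
    have e2 := Φ.toPresheafFiber_w_apply g w G.obj b
    rw [hw] at e1 e2
    rw [← e1, ← e2, hg]
  · intro h
    obtain ⟨W, g, w, hw, hg⟩ := (Φ.toPresheafFiber_eq_iff' (P := G.obj) V x₀ a b).mp h
    refine ⟨W, g, (w.left : Spec (CommRingCat.of Ω) ⟶ W.left) (default : Spec (CommRingCat.of Ω)),
      ?_, hg⟩
    have e3 : w.left ≫ g.left = x₀.left := congrArg (fun m => m.left) hw
    rw [← e3]
    rfl

end Basic

section Funct

variable {Z : Scheme.{u}}

set_option backward.isDefEq.respectTransparency.types false in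
/-- the agreement locus is compatible with restriction. -/
lemma mem_agree_map_iff (G : EtCoh.Ab Z) {V₁ V : Z.Etale} (h : V₁ ⟶ V) (a b : G.obj.obj (op V))
    (v₁ : V₁.left) :
    v₁ ∈ agree G (G.obj.map h.op a) (G.obj.map h.op b) ↔ h.left v₁ ∈ agree G a b := by
  obtain ⟨Ω, _, _, ξ, x₁, hx₁⟩ := Groth.Agent.Lib.T2H8StalkAlgClosed.exists_geometric_point V₁ v₁
  subst hx₁
  let Φ := Scheme.pointSmallEtale ξ
  have e1 := Φ.toPresheafFiber_w_apply h x₁ G.obj a
  have e2 := Φ.toPresheafFiber_w_apply h x₁ G.obj b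
  have k1 := mem_agree_iff_germ G (G.obj.map h.op a) (G.obj.map h.op b) ξ x₁
  have k2 := mem_agree_iff_germ G a b ξ (Φ.fiber.map h x₁)
  refine k1.trans (Iff.trans ?_ k2.symm)
  rw [e1, e2]

set_option backward.isDefEq.respectTransparency.types false in
/-- a morphism of sheaves preserves agreement. -/
lemma agree_subset_of_hom {G G' : EtCoh.Ab Z} (φ : G ⟶ G') {V : Z.Etale} (a b : G.obj.obj (op V)) :
    agree G a b ⊆ agree G' (φ.hom.app (op V) a) (φ.hom.app (op V) b) := by
  rintro v ⟨W, g, w, hw, hg⟩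
  refine ⟨W, g, w, hw, ?_⟩
  have n1 := NatTrans.naturality_apply φ.hom g.op a
  have n2 := NatTrans.naturality_apply φ.hom g.op b
  rw [← n1, ← n2, hg]

set_option backward.isDefEq.respectTransparency.types false in
/-- an isomorphism of sheaves preserves agreement loci. -/
lemma agree_eq_of_iso {G G' : EtCoh.Ab Z} (φ : G ≅ G') {V : Z.Etale} (a b : G.obj.obj (op V)) :
    agree G' (φ.hom.hom.app (op V) a) (φ.hom.hom.app (op V) b) = agree G a b := by
  apply Set.Subset.antisymm
  · intro v hv
    have := agree_subset_of_hom φ.inv _ _ hv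
    have e : ∀ x : G.obj.obj (op V), φ.inv.hom.app (op V) (φ.hom.hom.app (op V) x) = x := by
      intro x
      have := congrArg (fun m => m.hom.app (op V) x) φ.hom_inv_id
      exact this
    rwa [e, e] at this
  · exact agree_subset_of_hom φ.hom a b

end Funct

section Pull

variable {Z' Z : Scheme.{u}} (p : Z' ⟶ Z)

set_option backward.isDefEq.respectTransparency.types false in
/-- agreement loci and inverse images. -/
lemma mem_agree_pull_iff (G : EtCoh.Ab Z) {V : Z.Etale} (a b : G.obj.obj (op V))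
    (v' : ((EtCoh.bc p).obj V).left) :
    v' ∈ agree ((EtCoh.pull p).obj G) (((EtCoh.pullPushAdj p).unit.app G).hom.app (op V) a)
        (((EtCoh.pullPushAdj p).unit.app G).hom.app (op V) b) ↔
      (pullback.fst V.hom p) v' ∈ agree G a b := by
  obtain ⟨Ω, _, _, ξ', x₀', hx₀'⟩ :=
    Groth.Agent.Lib.T2H8StalkAlgClosed.exists_geometric_point ((EtCoh.bc p).obj V) v'
  let u : (Scheme.pointSmallEtale (ξ' ≫ p)).fiber.obj V := (fiberIso p ξ').hom.app V x₀'
  have hu : u.left = x₀'.left ≫ pullback.fst V.hom p := fiberIso_hom_left p ξ' V x₀'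
  have hlift : liftPt p ξ' (ξ' ≫ p) rfl V u = x₀' := by
    apply Over.OverMorphism.ext
    apply pullback.hom_ext
    · exact (liftPt_left_fst p ξ' (ξ' ≫ p) rfl V u).trans hu
    · exact (liftPt_left_snd p ξ' (ξ' ≫ p) rfl V u).trans (Over.w x₀').symm
  subst hx₀'
  have g1 := Groth.Agent.Lib.T2H8IntBC.stalkPull_germ p ξ' G V u a
  have g2 := Groth.Agent.Lib.T2H8IntBC.stalkPull_germ p ξ' G V u b
  rw [hlift] at g1 g2
  have k1 := mem_agree_iff_germ ((EtCoh.pull p).obj G)
    (((EtCoh.pullPushAdj p).unit.app G).hom.app (op V) a)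
    (((EtCoh.pullPushAdj p).unit.app G).hom.app (op V) b) ξ' x₀'
  have k2 := mem_agree_iff_germ G a b (ξ' ≫ p) u
  have hinj : Function.Injective ((stalkPullIso p ξ').hom.app G) := by
    intro x y hxy
    have e : ∀ z, (stalkPullIso p ξ').inv.app G ((stalkPullIso p ξ').hom.app G z) = z := fun z =>
      congrArg (fun m => (ConcreteCategory.hom m) z) ((stalkPullIso p ξ').hom_inv_id_app G)
    rw [← e x, ← e y, hxy]
  have hpt : (u.left : Spec (CommRingCat.of Ω) ⟶ V.left) (default : Spec (CommRingCat.of Ω)) =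
      (pullback.fst V.hom p) ((x₀'.left : Spec (CommRingCat.of Ω) ⟶ ((EtCoh.bc p).obj V).left)
        (default : Spec (CommRingCat.of Ω))) := by
    rw [hu]
    rfl
  rw [← hpt]
  refine k1.trans (Iff.trans ?_ k2.symm)
  rw [← g1, ← g2]
  exact ⟨fun h => hinj h, fun h => by rw [h]⟩

end Pull

end Groth.Agent.Lib.T2H8AgreeAb
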