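import Mathlib
import Groth.Prelude.Def_EtBase

set_option autoImplicit false
set_option linter.style.haveILetI false
universe u
open CategoryTheory CategoryTheory.Limits Polynomial TensorProduct AlgebraicGeometry

namespace Groth.Agent.Lib.T2H8.ClosedLift

section alg
variable (A B C : Type u) [CommRing A] [CommRing B] [CommRing C] [Algebra A B] [Algebra B C]
  [Algebra A C] [IsScalarTower A B C]

/-- lifting a standard étale algebra along a surjection of base rings -/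
theorem exists_etale_lift (hsurj : Function.Surjective (algebraMap A B))
    [Algebra.IsStandardEtale B C] :
    ∃ (D : Type u) (_ : CommRing D) (_ : Algebra A D) (_ : Algebra.Etale A D) (ψ : D →ₐ[A] C),
      IsPushout (CommRingCat.ofHom (algebraMap A B)) (CommRingCat.ofHom (algebraMap A D))
        (CommRingCat.ofHom (algebraMap B C)) (CommRingCat.ofHom ψ.toRingHom) := by
  obtain ⟨P⟩ := Algebra.IsStandardEtale.nonempty_standardEtalePresentation (R := B) (S := C)
  obtain ⟨f', hf', -, hmonic⟩ := Polynomial.lifts_and_natDegree_eq_and_monic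
    (f := algebraMap A B) (p := P.f) (by
      rw [Polynomial.lifts_iff_coeff_lifts]
      intro n
      exact hsurj _) P.monic_f
  obtain ⟨g', hg'⟩ := Polynomial.map_surjective (algebraMap A B) hsurj P.g
  let Q : StandardEtalePair A := ⟨f', hmonic, g' * derivative f', ⟨g', 0, 1, by ring⟩⟩
  have aevalC : ∀ p : A[X], aeval P.x p = aeval P.x (p.map (algebraMap A B)) := by
    intro p
    rw [Polynomial.aeval_map_algebraMap]
  have hQ : Q.HasMap P.x := by
    refine ⟨?_, ?_⟩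
    · change aeval P.x f' = 0
      rw [aevalC, hf']
      exact P.hasMap.1
    · change IsUnit (aeval P.x (g' * derivative f'))
      rw [map_mul, aevalC g', aevalC (derivative f'), hg', ← Polynomial.derivative_map, hf']
      exact P.hasMap.2.mul P.hasMap.isUnit_derivative_f
  let ψ : Q.Ring →ₐ[A] C := Q.lift P.x hQ
  have aevalT : ∀ p : A[X], aeval (1 ⊗ₜ[A] Q.X : B ⊗[A] Q.Ring) (p.map (algebraMap A B)) =
      Algebra.TensorProduct.includeRight (R := A) (A := B) (aeval Q.X p) := by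
    intro p
    rw [Polynomial.aeval_map_algebraMap, ← Polynomial.aeval_algHom_apply]
    rfl
  have hP : P.HasMap (1 ⊗ₜ[A] Q.X : B ⊗[A] Q.Ring) := by
    refine ⟨?_, ?_⟩
    · rw [← hf', aevalT]
      have : aeval Q.X f' = 0 := Q.hasMap_X.1
      rw [this, map_zero]
    · rw [← hg', aevalT]
      have h1 : IsUnit (aeval Q.X (g' * derivative f')) := Q.hasMap_X.2
      rw [map_mul] at h1
      exact (isUnit_of_mul_isUnit_left h1).map _
  let F : B ⊗[A] Q.Ring →ₐ[B] C :=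
    Algebra.TensorProduct.lift (Algebra.ofId B C) ψ (fun _ _ => .all _ _)
  let G : C →ₐ[B] B ⊗[A] Q.Ring := (P.lift (1 ⊗ₜ[A] Q.X) hP).comp P.equivRing.toAlgHom
  have hGx : G P.x = 1 ⊗ₜ[A] Q.X := by
    simp [G]
  have hF1 : ∀ d : Q.Ring, F (1 ⊗ₜ[A] d) = ψ d := by
    intro d
    simp [F]
  have hFG : F.comp G = AlgHom.id B C := by
    apply P.hom_ext
    simp only [AlgHom.comp_apply, hGx, hF1, AlgHom.id_apply]
    exact Q.lift_X P.x hQ
  have hGF : G.comp F = AlgHom.id B _ := by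
    apply Algebra.TensorProduct.ext
    · ext
    · apply Q.hom_ext
      simp only [AlgHom.comp_apply, AlgHom.coe_restrictScalars', Algebra.TensorProduct.includeRight_apply,
        hF1, AlgHom.id_apply]
      have : ψ Q.X = P.x := Q.lift_X P.x hQ
      rw [this, hGx]
  let e : B ⊗[A] Q.Ring ≃ₐ[B] C := AlgEquiv.ofAlgHom F G hFG hGF
  refine ⟨Q.Ring, inferInstance, inferInstance, inferInstance, ψ, ?_⟩
  refine (CommRingCat.isPushout_tensorProduct A B Q.Ring).of_iso (Iso.refl _) (Iso.refl _)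
    (Iso.refl _) e.toRingEquiv.toCommRingCatIso ?_ ?_ ?_ ?_
  · simp
  · simp
  · ext b
    change e (b ⊗ₜ[A] 1) = algebraMap B C b
    have : (b ⊗ₜ[A] (1 : Q.Ring) : B ⊗[A] Q.Ring) = algebraMap B _ b := rfl
    rw [this, e.commutes]
  · ext d
    change e (1 ⊗ₜ[A] d) = ψ d
    exact hF1 d

end alg

variable {X Y : Scheme.{u}} (f : X ⟶ Y) [IsClosedImmersion f]

theorem exists_lift_nhd (U : X.Etale) (u : U.left) :
    ∃ (V : Y.Etale) (h : pullback V.hom f ⟶ U.left), h ≫ U.hom = pullback.snd V.hom f ∧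
      IsOpenImmersion h ∧ u ∈ Set.range h.base := by
  let g : U.left ⟶ X := U.hom
  haveI : AlgebraicGeometry.Etale g := U.prop
  obtain ⟨_, ⟨Y₀, hY₀, rfl⟩, hy, -⟩ := Y.isBasis_affineOpens.exists_subset_of_mem_open
    (Set.mem_univ (f.base (g.base u))) isOpen_univ
  have hX₀ : IsAffineOpen (f ⁻¹ᵁ Y₀) := hY₀.preimage f
  obtain ⟨_, ⟨U₀, hU₀, rfl⟩, hu, hU₀X⟩ := U.left.isBasis_affineOpens.exists_subset_of_mem_open
    (show u ∈ ((g ⁻¹ᵁ (f ⁻¹ᵁ Y₀) : U.left.Opens) : Set U.left) from hy) (g ⁻¹ᵁ (f ⁻¹ᵁ Y₀)).2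
  have hU₀X' : U₀ ≤ g ⁻¹ᵁ (f ⁻¹ᵁ Y₀) := hU₀X
  have hsurj : Function.Surjective (f.app Y₀) := f.app_surjective Y₀ hY₀
  have hγ₀ : (g.appLE (f ⁻¹ᵁ Y₀) U₀ hU₀X').hom.Etale :=
    HasRingHomProperty.appLE @AlgebraicGeometry.Etale g inferInstance ⟨_, hX₀⟩ ⟨U₀, hU₀⟩ hU₀X'
  -- the standard étale neighbourhood
  let q := hU₀.primeIdealOf ⟨u, hu⟩
  algebraize [(g.appLE (f ⁻¹ᵁ Y₀) U₀ hU₀X').hom]
  haveI : Algebra.FormallyEtale Γ(U.left, U₀) (Localization.AtPrime q.asIdeal) :=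
    Algebra.FormallyEtale.of_isLocalization q.asIdeal.primeCompl
  haveI : Algebra.IsEtaleAt Γ(X, f ⁻¹ᵁ Y₀) q.asIdeal :=
    Algebra.FormallyEtale.comp Γ(X, f ⁻¹ᵁ Y₀) Γ(U.left, U₀) (Localization.AtPrime q.asIdeal)
  obtain ⟨c, hcq, hc⟩ := Algebra.IsEtaleAt.exists_isStandardEtale (R := Γ(X, f ⁻¹ᵁ Y₀)) q.asIdeal
  let U₁ : U.left.Opens := U.left.basicOpen c
  have hU₁ : IsAffineOpen U₁ := hU₀.basicOpen c
  have hU₁₀ : U₁ ≤ U₀ := U.left.basicOpen_le c
  have huU₁ : u ∈ U₁ := by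
    have h1 : q ∈ hU₀.fromSpec ⁻¹ᵁ U.left.basicOpen c := by
      rw [hU₀.fromSpec_preimage_basicOpen]
      exact hcq
    have h2 : hU₀.fromSpec q = u := hU₀.fromSpec_primeIdealOf ⟨u, hu⟩
    rw [← h2]
    exact h1
  haveI : IsLocalization.Away c Γ(U.left, U₁) := hU₀.isLocalization_basicOpen c
  have hU₁X : U₁ ≤ g ⁻¹ᵁ (f ⁻¹ᵁ Y₀) := hU₁₀.trans hU₀X'
  algebraize [(f.app Y₀).hom, (g.appLE (f ⁻¹ᵁ Y₀) U₁ hU₁X).hom,
    ((g.appLE (f ⁻¹ᵁ Y₀) U₁ hU₁X).hom.comp (f.app Y₀).hom)]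
  haveI : IsScalarTower Γ(X, f ⁻¹ᵁ Y₀) Γ(U.left, U₀) Γ(U.left, U₁) := by
    apply IsScalarTower.of_algebraMap_eq'
    have := g.appLE_map hU₀X' (homOfLE hU₁₀).op
    exact congrArg CommRingCat.Hom.hom this.symm
  let e : Localization.Away c ≃ₐ[Γ(X, f ⁻¹ᵁ Y₀)] Γ(U.left, U₁) :=
    (IsLocalization.algEquiv (Submonoid.powers c) (Localization.Away c) Γ(U.left, U₁)).restrictScalars
      Γ(X, f ⁻¹ᵁ Y₀)
  haveI : Algebra.IsStandardEtale Γ(X, f ⁻¹ᵁ Y₀) Γ(U.left, U₁) := Algebra.IsStandardEtale.of_equiv e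
  obtain ⟨D, _, _, _, ψ, hpo⟩ := exists_etale_lift Γ(Y, Y₀) Γ(X, f ⁻¹ᵁ Y₀) Γ(U.left, U₁) hsurj
  have sq1 := isPullback_SpecMap_of_isPushout _ _ _ _ hpo
  have sq2 : IsPullback (Spec.map (f.app Y₀)) hX₀.fromSpec hY₀.fromSpec f := by
    refine IsOpenImmersion.isPullback _ _ _ _ ?_ ?_
    · have := IsAffineOpen.SpecMap_appLE_fromSpec f hY₀ hX₀ le_rfl
      rw [← f.app_eq_appLE] at this
      exact this.symm
    · rw [hY₀.opensRange_fromSpec, hX₀.opensRange_fromSpec]
  have big := sq1.paste_horiz sq2.flip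
  haveI : AlgebraicGeometry.Etale (Spec.map (CommRingCat.ofHom (algebraMap Γ(Y, Y₀) D))) := by
    rw [HasRingHomProperty.Spec_iff (P := @AlgebraicGeometry.Etale)]
    exact RingHom.etale_algebraMap.mpr inferInstance
  let V : Y.Etale := Scheme.Etale.mk
    (Spec.map (CommRingCat.ofHom (algebraMap Γ(Y, Y₀) D)) ≫ hY₀.fromSpec)
  have big' : IsPullback (Spec.map (CommRingCat.ofHom ψ.toRingHom))
      (Spec.map (CommRingCat.ofHom (algebraMap Γ(X, f ⁻¹ᵁ Y₀) Γ(U.left, U₁))) ≫ hX₀.fromSpec)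
      V.hom f := big.flip
  refine ⟨V, big'.isoPullback.inv ≫ hU₁.fromSpec, ?_, inferInstance, ?_⟩
  · have e1 := IsAffineOpen.SpecMap_appLE_fromSpec g hX₀ hU₁ hU₁X
    rw [Category.assoc]
    change _ ≫ hU₁.fromSpec ≫ g = _
    rw [← e1]
    exact big'.isoPullback_inv_snd
  · have h1 : u ∈ Set.range hU₁.fromSpec.base := by
      rw [hU₁.range_fromSpec]
      exact huU₁
    obtain ⟨p, hp⟩ := h1
    refine ⟨big'.isoPullback.hom.base p, ?_⟩
    rw [← hp]
    have e2 : (big'.isoPullback.inv ≫ hU₁.fromSpec) (big'.isoPullback.hom p) =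
        (big'.isoPullback.hom ≫ big'.isoPullback.inv ≫ hU₁.fromSpec) p :=
      (Scheme.Hom.comp_apply _ _ _).symm
    rw [Iso.hom_inv_id_assoc] at e2
    exact e2

/-- S0633: an étale scheme over a closed subscheme is Zariski-covered by base changes of étale
schemes over the ambient scheme -/
theorem zariski_covered (U : X.Etale) :
    ∃ (κ : Type u) (V : κ → Y.Etale) (h : ∀ j, pullback (V j).hom f ⟶ U.left),
      (∀ j, h j ≫ U.hom = pullback.snd (V j).hom f) ∧ (∀ j, IsOpenImmersion (h j)) ∧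
      ∀ x : U.left, ∃ (j : κ) (y : ↥(pullback (V j).hom f)), (h j).base y = x := by
  choose V h h1 h2 h3 using exists_lift_nhd f U
  exact ⟨U.left, V, h, h1, h2, fun x => ⟨x, h3 x⟩⟩

/-- S0632 -/
theorem cover_refined {ι : Type u} (U : ι → X.Etale) (hU : EtCoh.Covers U) :
    ∃ (κ : Type u) (V : κ → Y.Etale), EtCoh.Covers V ∧
      ∀ j, IsEmpty ↥(pullback (V j).hom f) ∨
        ∃ (i : ι) (h : pullback (V j).hom f ⟶ (U i).left), h ≫ (U i).hom = pullback.snd (V j).hom f := by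
  -- the open complement of the image of `f`
  let W : Y.Opens := ⟨(Set.range f.base)ᶜ, f.isClosedEmbedding.isClosed_range.isOpen_compl⟩
  choose i y hy using hU
  choose V h h1 h2 h3 using fun x : X => exists_lift_nhd f (U (i x)) (y x)
  refine ⟨Option X, fun o => o.elim (Scheme.Etale.mk W.ι) V, ?_, ?_⟩
  · intro p
    by_cases hp : p ∈ Set.range f.base
    · obtain ⟨x, rfl⟩ := hp
      obtain ⟨z, hz⟩ := h3 x
      refine ⟨some x, (pullback.fst (V x).hom f).base z, ?_⟩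
      change ((V x).hom.base ((pullback.fst (V x).hom f).base z)) = _
      have e1 : (V x).hom.base ((pullback.fst (V x).hom f).base z) =
          (pullback.fst (V x).hom f ≫ (V x).hom).base z := (Scheme.Hom.comp_apply _ _ _).symm
      rw [e1, pullback.condition, ← h1 x]
      have e2 : ((h x ≫ (U (i x)).hom) ≫ f).base z = f.base ((U (i x)).hom.base ((h x).base z)) := by
        rw [Scheme.Hom.comp_apply, Scheme.Hom.comp_apply]
      rw [e2, hz, hy]
    · refine ⟨none, ⟨p, hp⟩, ?_⟩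
      rfl
  · rintro (_ | x)
    · left
      constructor
      intro z
      have e1 : (Scheme.Etale.mk W.ι).hom.base ((pullback.fst (Scheme.Etale.mk W.ι).hom f).base z) =
          f.base ((pullback.snd (Scheme.Etale.mk W.ι).hom f).base z) := by
        have := congrArg (fun φ => φ.base z) (pullback.condition (f := (Scheme.Etale.mk W.ι).hom) (g := f))
        simpa [Scheme.Hom.comp_apply] using this
      have e2 : (Scheme.Etale.mk W.ι).hom.base ((pullback.fst (Scheme.Etale.mk W.ι).hom f).base z) ∈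
          (W : Set Y) := ((pullback.fst (Scheme.Etale.mk W.ι).hom f).base z).2
      rw [e1] at e2
      exact e2 ⟨_, rfl⟩
    · right
      exact ⟨i x, h x, h1 x⟩

end Groth.Agent.Lib.T2H8.ClosedLift
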