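import Mathlib
import Groth.Agent.Lib.T2H8ClosedLift

set_option autoImplicit false
set_option linter.style.haveILetI false
set_option linter.unusedSectionVars false
universe u
open CategoryTheory CategoryTheory.Limits AlgebraicGeometry

namespace Groth.Agent.Lib.T2H8.ClosedLiftHom

variable {Z X : Scheme.{u}} (i : Z ⟶ X) [IsClosedImmersion i]

theorem bc_map_left {A B : X.Etale} (g : A ⟶ B) :
    ((EtCoh.bc i).map g).left =
      pullback.lift (pullback.fst A.hom i ≫ g.left) (pullback.snd A.hom i)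
        (by simp [pullback.condition]) := rfl

theorem lift_comp_fst {C : Type*} [Category C] [HasPullbacks C] {A B S T Z : C} (a : A ⟶ S) (b : B ⟶ S)
    (i : Z ⟶ S) (g : A ⟶ B) (γ : T ⟶ pullback a i) (w) :
    (γ ≫ pullback.lift (pullback.fst a i ≫ g) (pullback.snd a i) w) ≫ pullback.fst b i =
      (γ ≫ pullback.fst a i) ≫ g := by
  rw [Category.assoc, pullback.lift_fst, Category.assoc]

theorem lift_comp_snd {C : Type*} [Category C] [HasPullbacks C] {A B S T Z : C} (a : A ⟶ S) (b : B ⟶ S)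
    (i : Z ⟶ S) (g : A ⟶ B) (γ : T ⟶ pullback a i) (w) :
    (γ ≫ pullback.lift (pullback.fst a i ≫ g) (pullback.snd a i) w) ≫ pullback.snd b i =
      γ ≫ pullback.snd a i := by
  rw [Category.assoc, pullback.lift_snd]

/-- a morphism of étale schemes which is a monomorphism is an open immersion -/
theorem isOpenImmersion_of_mono {S : Scheme.{u}} {A B : S.Etale} (g : A ⟶ B) [Mono g.left] :
    IsOpenImmersion g.left :=
  IsOpenImmersion.of_flat_of_mono g.left

theorem almost_full (U U' : X.Etale)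
    (h : (EtCoh.bc i).obj U ⟶ (EtCoh.bc i).obj U') :
    ∃ (W : X.Etale) (a : W ⟶ U) (b : W ⟶ U'), IsIso ((EtCoh.bc i).map a) ∧
      (EtCoh.bc i).map a ≫ h = (EtCoh.bc i).map b := by
  -- the product
  let q1 : pullback U.hom U'.hom ⟶ U.left := pullback.fst _ _
  let q2 : pullback U.hom U'.hom ⟶ U'.left := pullback.snd _ _
  let P : X.Etale := Scheme.Etale.mk (q1 ≫ U.hom)
  let p1 : P ⟶ U := MorphismProperty.Over.homMk q1 rfl
  let p2 : P ⟶ U' := MorphismProperty.Over.homMk q2 (pullback.condition.symm)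
  -- the graph of `h`
  let fU : pullback U.hom i ⟶ U.left := pullback.fst _ _
  let sU : pullback U.hom i ⟶ Z := pullback.snd _ _
  let fU' : pullback U'.hom i ⟶ U'.left := pullback.fst _ _
  let sU' : pullback U'.hom i ⟶ Z := pullback.snd _ _
  have hw : h.left ≫ sU' = sU := MorphismProperty.Over.w h
  have c0 : fU ≫ U.hom = (h.left ≫ fU') ≫ U'.hom := by
    have e1 : fU ≫ U.hom = sU ≫ i := pullback.condition
    have e2 : fU' ≫ U'.hom = sU' ≫ i := pullback.condition
    calc fU ≫ U.hom = sU ≫ i := e1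
      _ = (h.left ≫ sU') ≫ i := congrArg (· ≫ i) hw.symm
      _ = h.left ≫ (sU' ≫ i) := Category.assoc _ _ _
      _ = h.left ≫ (fU' ≫ U'.hom) := congrArg (h.left ≫ ·) e2.symm
      _ = (h.left ≫ fU') ≫ U'.hom := (Category.assoc _ _ _).symm
  let γ₀ : pullback U.hom i ⟶ pullback U.hom U'.hom := pullback.lift fU (h.left ≫ fU') c0
  have c1 : γ₀ ≫ P.hom = sU ≫ i := by
    change γ₀ ≫ q1 ≫ U.hom = _
    rw [← Category.assoc, pullback.lift_fst]
    exact pullback.condition
  let γ : pullback U.hom i ⟶ pullback P.hom i := pullback.lift γ₀ sU c1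
  let Γ : (EtCoh.bc i).obj U ⟶ (EtCoh.bc i).obj P :=
    MorphismProperty.Over.homMk γ (pullback.lift_snd _ _ _)
  have hΓ1 : Γ ≫ (EtCoh.bc i).map p1 = 𝟙 _ := by
    apply MorphismProperty.Over.Hom.ext
    change γ ≫ ((EtCoh.bc i).map p1).left = 𝟙 _
    rw [bc_map_left]
    apply pullback.hom_ext
    · refine (lift_comp_fst _ _ _ _ _ _).trans ?_
      have e1 : γ ≫ pullback.fst P.hom i = γ₀ := pullback.lift_fst _ _ _
      have e2 : γ₀ ≫ q1 = fU := pullback.lift_fst _ _ _
      exact (congrArg (· ≫ p1.left) e1).trans (e2.trans (Category.id_comp _).symm)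
    · refine (lift_comp_snd _ _ _ _ _ _).trans ?_
      exact (pullback.lift_snd _ _ _).trans (Category.id_comp _).symm
  have hΓ2 : Γ ≫ (EtCoh.bc i).map p2 = h := by
    apply MorphismProperty.Over.Hom.ext
    change γ ≫ ((EtCoh.bc i).map p2).left = h.left
    rw [bc_map_left]
    apply pullback.hom_ext
    · refine (lift_comp_fst _ _ _ _ _ _).trans ?_
      have e1 : γ ≫ pullback.fst P.hom i = γ₀ := pullback.lift_fst _ _ _
      have e2 : γ₀ ≫ q2 = h.left ≫ fU' := pullback.lift_snd _ _ _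
      exact (congrArg (· ≫ p2.left) e1).trans e2
    · refine (lift_comp_snd _ _ _ _ _ _).trans ?_
      exact (pullback.lift_snd _ _ _).trans hw.symm
  -- `γ` is an open immersion
  have hγ1 : γ ≫ ((EtCoh.bc i).map p1).left = 𝟙 _ := congrArg (fun φ => φ.left) hΓ1
  haveI : Mono Γ.left := by
    change Mono γ
    exact SplitMono.mono ⟨_, hγ1⟩
  haveI hγo : IsOpenImmersion γ := isOpenImmersion_of_mono Γ
  -- the open subset of `P` cutting out the graph
  let jP : pullback P.hom i ⟶ P.left := pullback.fst P.hom i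
  obtain ⟨T₀, hT₀, hT₀γ⟩ := jP.isClosedEmbedding.isInducing.isOpen_iff.mp γ.opensRange.2
  let T : P.left.Opens := ⟨T₀, hT₀⟩
  let W : X.Etale := Scheme.Etale.mk (T.ι ≫ P.hom)
  let jT : W ⟶ P := MorphismProperty.Over.homMk T.ι rfl
  let τ : pullback W.hom i ⟶ pullback P.hom i := ((EtCoh.bc i).map jT).left
  have hτ1 : τ ≫ jP = pullback.fst W.hom i ≫ T.ι := pullback.lift_fst _ _ _
  have hτ2 : τ ≫ pullback.snd P.hom i = pullback.snd W.hom i := pullback.lift_snd _ _ _
  haveI : Mono ((EtCoh.bc i).map jT).left := by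
    change Mono τ
    constructor
    intro A x y hxy
    apply pullback.hom_ext
    · have e1 : (x ≫ pullback.fst W.hom i) ≫ T.ι = (y ≫ pullback.fst W.hom i) ≫ T.ι := by
        calc _ = x ≫ (pullback.fst W.hom i ≫ T.ι) := Category.assoc _ _ _
          _ = x ≫ (τ ≫ jP) := congrArg (x ≫ ·) hτ1.symm
          _ = (x ≫ τ) ≫ jP := (Category.assoc _ _ _).symm
          _ = (y ≫ τ) ≫ jP := congrArg (· ≫ jP) hxy
          _ = y ≫ (τ ≫ jP) := Category.assoc _ _ _
          _ = y ≫ (pullback.fst W.hom i ≫ T.ι) := congrArg (y ≫ ·) hτ1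
          _ = _ := (Category.assoc _ _ _).symm
      exact (cancel_mono T.ι).1 e1
    · calc x ≫ pullback.snd W.hom i = x ≫ (τ ≫ pullback.snd P.hom i) := congrArg (x ≫ ·) hτ2.symm
        _ = (x ≫ τ) ≫ pullback.snd P.hom i := (Category.assoc _ _ _).symm
        _ = (y ≫ τ) ≫ pullback.snd P.hom i := congrArg (· ≫ _) hxy
        _ = y ≫ (τ ≫ pullback.snd P.hom i) := Category.assoc _ _ _
        _ = y ≫ pullback.snd W.hom i := congrArg (y ≫ ·) hτ2
  haveI hτo : IsOpenImmersion τ := isOpenImmersion_of_mono ((EtCoh.bc i).map jT)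
  have hrange : Set.range τ.base = Set.range γ.base := by
    have hT₀γ' : jP.base ⁻¹' T₀ = Set.range γ.base := hT₀γ
    rw [← hT₀γ']
    ext p
    constructor
    · rintro ⟨w, rfl⟩
      change jP.base (τ.base w) ∈ T₀
      have e1 : jP.base (τ.base w) = (τ ≫ jP).base w := (Scheme.Hom.comp_apply _ _ _).symm
      rw [e1, hτ1, Scheme.Hom.comp_apply]
      exact ((pullback.fst W.hom i).base w).2
    · intro hp
      have hp' : jP.base p ∈ T₀ := hp
      let t : T := ⟨jP.base p, hp'⟩
      have ht : W.hom.base t = i.base ((pullback.snd P.hom i).base p) := by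
        change (T.ι ≫ P.hom).base t = _
        rw [Scheme.Hom.comp_apply]
        change P.hom.base (jP.base p) = _
        have e2 : P.hom.base (jP.base p) = (jP ≫ P.hom).base p := (Scheme.Hom.comp_apply _ _ _).symm
        have e3 : i.base ((pullback.snd P.hom i).base p) = (pullback.snd P.hom i ≫ i).base p :=
          (Scheme.Hom.comp_apply _ _ _).symm
        rw [e2, e3, pullback.condition]
      obtain ⟨w, hw1, hw2⟩ := Scheme.Pullback.exists_preimage_pullback (f := W.hom) (g := i) t _ ht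
      refine ⟨w, jP.isClosedEmbedding.injective ?_⟩
      have e1 : jP.base (τ.base w) = (τ ≫ jP).base w := (Scheme.Hom.comp_apply _ _ _).symm
      rw [e1, hτ1, Scheme.Hom.comp_apply, hw1]
      rfl
  let e := IsOpenImmersion.isoOfRangeEq τ γ hrange
  have he1 : e.hom ≫ γ = τ := IsOpenImmersion.isoOfRangeEq_hom_fac _ _ _
  have he2 : e.inv ≫ τ = γ := IsOpenImmersion.isoOfRangeEq_inv_fac _ _ _
  have hγ2 : γ ≫ ((EtCoh.bc i).map p2).left = h.left := congrArg (fun φ => φ.left) hΓ2
  have hal : ((EtCoh.bc i).map (jT ≫ p1)).left = e.hom := by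
    rw [Functor.map_comp]
    change τ ≫ ((EtCoh.bc i).map p1).left = e.hom
    rw [← he1, Category.assoc, hγ1]
    exact Category.comp_id _
  have hbl : ((EtCoh.bc i).map (jT ≫ p2)).left = e.hom ≫ h.left := by
    rw [Functor.map_comp]
    change τ ≫ ((EtCoh.bc i).map p2).left = e.hom ≫ h.left
    rw [← he1, Category.assoc, hγ2]
  refine ⟨W, jT ≫ p1, jT ≫ p2, ?_, ?_⟩
  · have hinv : e.inv ≫ pullback.snd W.hom i = pullback.snd U.hom i := by
      calc e.inv ≫ pullback.snd W.hom i = e.inv ≫ (τ ≫ pullback.snd P.hom i) :=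
            congrArg (e.inv ≫ ·) hτ2.symm
        _ = (e.inv ≫ τ) ≫ pullback.snd P.hom i := (Category.assoc _ _ _).symm
        _ = γ ≫ pullback.snd P.hom i := congrArg (· ≫ _) he2
        _ = pullback.snd U.hom i := pullback.lift_snd _ _ _
    let inv : (EtCoh.bc i).obj U ⟶ (EtCoh.bc i).obj W := MorphismProperty.Over.homMk e.inv hinv
    refine ⟨inv, ?_, ?_⟩
    · apply MorphismProperty.Over.Hom.ext
      change ((EtCoh.bc i).map (jT ≫ p1)).left ≫ e.inv = 𝟙 _
      rw [hal]
      exact e.hom_inv_id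
    · apply MorphismProperty.Over.Hom.ext
      change e.inv ≫ ((EtCoh.bc i).map (jT ≫ p1)).left = 𝟙 _
      rw [hal]
      exact e.inv_hom_id
  · apply MorphismProperty.Over.Hom.ext
    change ((EtCoh.bc i).map (jT ≫ p1)).left ≫ h.left = ((EtCoh.bc i).map (jT ≫ p2)).left
    exact (congrArg (· ≫ h.left) hal).trans hbl.symm

end Groth.Agent.Lib.T2H8.ClosedLiftHom
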