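import Mathlib
import Groth.Agent.Lib.T2H8ClosedLiftHom
import Groth.Agent.Lib.Helper16SmallEtale

set_option autoImplicit false
set_option linter.style.haveILetI false
set_option linter.unusedSectionVars false
universe u
open CategoryTheory CategoryTheory.Limits AlgebraicGeometry Opposite

namespace Groth.Agent.Lib.T2H8.ClosedDense

variable {Z X : Scheme.{u}} (i : Z ⟶ X) [IsClosedImmersion i]

instance isCoverDense : (EtCoh.bc i).IsCoverDense Z.smallEtaleTopology where
  is_cover W := by
    rw [Groth.Agent.Lib.Helper16.SmallEtale.mem_smallEtale_iff]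
    intro pt
    obtain ⟨V, h, h1, h2, y, hy⟩ := ClosedLift.exists_lift_nhd i W pt
    let c : (EtCoh.bc i).obj V ⟶ W := MorphismProperty.Over.homMk h h1
    exact ⟨(EtCoh.bc i).obj V, c, y, Presieve.in_coverByImage (EtCoh.bc i) c, hy⟩

instance isLocallyFull : (EtCoh.bc i).IsLocallyFull Z.smallEtaleTopology where
  functorPushforward_imageSieve_mem {U V} f := by
    obtain ⟨T, a, b, ha, hab⟩ := ClosedLiftHom.almost_full i U V f
    have h1 : ((EtCoh.bc i).imageSieve f).functorPushforward (EtCoh.bc i) = ⊤ := by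
      rw [← Sieve.id_mem_iff_eq_top]
      refine ⟨T, a, inv ((EtCoh.bc i).map a), ⟨b, hab.symm⟩, ?_⟩
      simp
    rw [h1]
    exact Z.smallEtaleTopology.top_mem _

theorem full_faithful [EtCoh.BCCont i] : (EtCoh.push i).Full ∧ (EtCoh.push i).Faithful :=
  ⟨inferInstance, inferInstance⟩

end Groth.Agent.Lib.T2H8.ClosedDense
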