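import Mathlib
import Groth.Agent.Lib.T2H8ClosedDense
import Groth.Agent.Lib.Helper16EtGlue

set_option autoImplicit false
set_option linter.style.haveILetI false
set_option linter.unusedSectionVars false
universe u w
open CategoryTheory CategoryTheory.Limits AlgebraicGeometry Opposite

namespace Groth.Agent.Lib.T2H8.ClosedEss

variable {Z X : Scheme.{u}} (i : Z ⟶ X) [IsClosedImmersion i]

/-- the projection `U_Z → U` is injective on points -/
theorem fst_injective (U : X.Etale) : Function.Injective (pullback.fst U.hom i).base :=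
  (pullback.fst U.hom i).isClosedEmbedding.injective

/-- points of `U_Z` in the image of `(bc i).map e`. -/
theorem mem_range_bc_map {T U : X.Etale} (e : T ⟶ U) (y : ↥(pullback U.hom i)) (t : T.left)
    (ht : e.left.base t = (pullback.fst U.hom i).base y) :
    y ∈ Set.range ((EtCoh.bc i).map e).left.base := by
  have h1 : T.hom.base t = i.base ((pullback.snd U.hom i).base y) := by
    have e1 : T.hom = e.left ≫ U.hom := (MorphismProperty.Over.w e).symm
    rw [e1, Scheme.Hom.comp_apply, ht]
    have e2 : U.hom.base ((pullback.fst U.hom i).base y) = (pullback.fst U.hom i ≫ U.hom).base y :=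
      (Scheme.Hom.comp_apply _ _ _).symm
    have e3 : i.base ((pullback.snd U.hom i).base y) = (pullback.snd U.hom i ≫ i).base y :=
      (Scheme.Hom.comp_apply _ _ _).symm
    rw [e2, e3, pullback.condition]
  obtain ⟨y', hy1, hy2⟩ := Scheme.Pullback.exists_preimage_pullback (f := T.hom) (g := i) t _ h1
  refine ⟨y', fst_injective i U ?_⟩
  have e4 : (pullback.fst U.hom i).base (((EtCoh.bc i).map e).left.base y') =
      (((EtCoh.bc i).map e).left ≫ pullback.fst U.hom i).base y' := (Scheme.Hom.comp_apply _ _ _).symm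
  rw [e4, Groth.Agent.Lib.Helper16.SmallEtale.bc_map_left_fst]
  have e5 : (pullback.fst T.hom i ≫ e.left).base y' = e.left.base ((pullback.fst T.hom i).base y') :=
    Scheme.Hom.comp_apply _ _ _
  exact e5.trans ((congrArg e.left.base hy1).trans ht)

instance isLocallyFaithful : (EtCoh.bc i).IsLocallyFaithful Z.smallEtaleTopology where
  functorPushforward_equalizer_mem {U V} f₁ f₂ hf := by
    rw [Groth.Agent.Lib.Helper16.SmallEtale.mem_smallEtale_iff]
    intro y
    let e : equalizer f₁ f₂ ⟶ U := equalizer.ι f₁ f₂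
    have he : e ≫ f₁ = e ≫ f₂ := equalizer.condition f₁ f₂
    -- the equalizer in `Over X`
    have hlim := isLimitForkMapOfIsLimit (Scheme.Etale.forget X) he (equalizerIsEqualizer f₁ f₂)
    let pr : pullback U.hom i ⟶ U.left := pullback.fst U.hom i
    let k : Over.mk (pr ≫ U.hom) ⟶ (Scheme.Etale.forget X).obj U := Over.homMk pr rfl
    have hk : k ≫ (Scheme.Etale.forget X).map f₁ = k ≫ (Scheme.Etale.forget X).map f₂ := by
      apply Over.OverMorphism.ext
      change pr ≫ f₁.left = pr ≫ f₂.left
      have h1 := Groth.Agent.Lib.Helper16.SmallEtale.bc_map_left_fst i f₁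
      have h2 := Groth.Agent.Lib.Helper16.SmallEtale.bc_map_left_fst i f₂
      rw [← h1, ← h2, hf]
    obtain ⟨l, hl⟩ := Fork.IsLimit.lift' hlim k hk
    have hl' : l.left ≫ e.left = pr := congrArg (fun φ => φ.left) hl
    refine ⟨(EtCoh.bc i).obj (equalizer f₁ f₂), (EtCoh.bc i).map e, ?_⟩
    obtain ⟨y', hy'⟩ := mem_range_bc_map i e y (l.left.base y) (by
      have e6 : e.left.base (l.left.base y) = (l.left ≫ e.left).base y :=
        (Scheme.Hom.comp_apply _ _ _).symm
      rw [e6, hl'])
    exact ⟨y', ⟨_, e, 𝟙 _, he, (Category.id_comp _).symm⟩, hy'⟩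

/-- the topology on `X.Etale` induced from `Z.Etale` -/
noncomputable abbrev Jres : GrothendieckTopology X.Etale := (EtCoh.bc i).restrictedTopology Z.smallEtaleTopology

/-- the open part of `U` over the complement of `Z` -/
noncomputable def compl (U : X.Etale) : X.Etale :=
  Scheme.Etale.mk ((U.hom ⁻¹ᵁ ⟨(Set.range i.base)ᶜ, i.isClosedEmbedding.isClosed_range.isOpen_compl⟩).ι ≫ U.hom)

noncomputable def complι (U : X.Etale) : compl i U ⟶ U :=
  MorphismProperty.Over.homMk (U.hom ⁻¹ᵁ ⟨(Set.range i.base)ᶜ, i.isClosedEmbedding.isClosed_range.isOpen_compl⟩).ι rfl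

theorem disjoint_of_hom_compl (U Y : X.Etale) (g : Y ⟶ compl i U) :
    Disjoint (Set.range Y.hom.base) (Set.range i.base) := by
  rw [Set.disjoint_left]
  rintro _ ⟨y, rfl⟩ hy
  have e1 : Y.hom = g.left ≫ (compl i U).hom := (MorphismProperty.Over.w g).symm
  rw [e1] at hy
  have h2 : ((compl i U).hom.base (g.left.base y)) ∈ (Set.range i.base)ᶜ := by
    change (((U.hom ⁻¹ᵁ ⟨(Set.range i.base)ᶜ, _⟩).ι ≫ U.hom).base (g.left.base y)) ∈ _
    rw [Scheme.Hom.comp_apply]
    exact (g.left.base y).2
  rw [Scheme.Hom.comp_apply] at hy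
  exact h2 hy

theorem sheaf_of_zero_off (P : X.Etaleᵒᵖ ⥤ Type w)
    (hP : Presieve.IsSheaf X.smallEtaleTopology P)
    (h0 : ∀ Y : X.Etale, Disjoint (Set.range Y.hom.base) (Set.range i.base) →
      Nonempty (Unique (P.obj (op Y)))) :
    Presieve.IsSheaf (Jres i) P := by
  intro U S hS
  rw [Functor.mem_restrictedTopology_iff] at hS
  -- the bigger étale covering sieve
  let S' : Sieve U := S ⊔ Sieve.generate (Presieve.singleton (complι i U))
  have hS' : S' ∈ X.smallEtaleTopology U := by
    rw [Groth.Agent.Lib.Helper16.SmallEtale.mem_smallEtale_iff]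
    intro x
    by_cases hx : U.hom.base x ∈ Set.range i.base
    · obtain ⟨z, hz⟩ := hx
      obtain ⟨y, hy1, hy2⟩ := Scheme.Pullback.exists_preimage_pullback (f := U.hom) (g := i) x z hz.symm
      rw [Groth.Agent.Lib.Helper16.SmallEtale.mem_smallEtale_iff] at hS
      obtain ⟨W', g', w', ⟨T, e, k, he, hk⟩, hw'⟩ := hS y
      refine ⟨T, e, (pullback.fst T.hom i).base (k.left.base w'), Or.inl he, ?_⟩
      have e1 : e.left.base ((pullback.fst T.hom i).base (k.left.base w')) =
          (pullback.fst T.hom i ≫ e.left).base (k.left.base w') := (Scheme.Hom.comp_apply _ _ _).symm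
      rw [e1, ← Groth.Agent.Lib.Helper16.SmallEtale.bc_map_left_fst]
      have e2 : (((EtCoh.bc i).map e).left ≫ pullback.fst U.hom i).base (k.left.base w') =
          (pullback.fst U.hom i).base (((EtCoh.bc i).map e).left.base (k.left.base w')) :=
        Scheme.Hom.comp_apply _ _ _
      have e3 : ((EtCoh.bc i).map e).left.base (k.left.base w') = g'.left.base w' := by
        rw [hk]
        exact (Scheme.Hom.comp_apply _ _ _).symm
      exact e2.trans ((congrArg _ (e3.trans hw')).trans hy1)
    · refine ⟨compl i U, complι i U, ⟨x, hx⟩, Or.inr ?_, rfl⟩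
      exact Sieve.le_generate _ _ _ (Presieve.singleton_self _)
  refine Presieve.isSheafFor_trans P S' S (hP S' hS') ?_ ?_
  · intro Y f _
    exact (hP _ (X.smallEtaleTopology.pullback_stable f hS')).isSeparatedFor
  · rintro Y f (hf | hf)
    · rw [Sieve.pullback_eq_top_of_mem S hf]
      exact Presieve.isSheafFor_top P
    · have hg : ∃ g : Y ⟶ compl i U, g ≫ complι i U = f := by
        obtain ⟨Y₁, g, c, hc, hgc⟩ := hf
        obtain ⟨⟩ := hc
        exact ⟨g, hgc⟩
      obtain ⟨g, -⟩ := hg
      have hU : ∀ (Y' : X.Etale) (a : Y' ⟶ Y), Nonempty (Unique (P.obj (op Y'))) := fun Y' a =>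
        h0 Y' (disjoint_of_hom_compl i U Y' (a ≫ g))
      intro x _
      obtain ⟨uY⟩ := hU Y (𝟙 _)
      refine ⟨uY.default, ?_, ?_⟩
      · intro Y' a ha
        obtain ⟨uY'⟩ := hU Y' a
        exact (uY'.uniq _).trans (uY'.uniq _).symm
      · intro t _
        exact uY.uniq t

omit [IsClosedImmersion i] in
theorem isZero_of_isEmpty (G : EtCoh.Ab Z) (W : Z.Etale) [IsEmpty W.left] :
    IsZero (G.obj.obj (op W)) := by
  have h1 : Presieve.IsSheaf Z.smallEtaleTopology (G.obj ⋙ forget AddCommGrpCat.{u + 1}) :=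
    (isSheaf_iff_isSheaf_of_type _ _).1
      ((Presheaf.isSheaf_iff_isSheaf_forget Z.smallEtaleTopology G.obj (forget _)).1 G.property)
  haveI : Subsingleton (G.obj.obj (op W)) :=
    Groth.Agent.Lib.Helper16.EtGlue.subsingleton_of_isEmpty _ h1 W
  exact AddCommGrpCat.isZero_of_subsingleton _

theorem essImage_iff [EtCoh.BCCont i] (F : EtCoh.Ab X) :
    (EtCoh.push i).essImage F ↔
      ∀ U : X.Etale, Disjoint (Set.range U.hom.base) (Set.range i.base) →
        IsZero (F.obj.obj (op U)) := by
  constructor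
  · rintro ⟨G, ⟨e⟩⟩ U hU
    haveI : IsEmpty ((EtCoh.bc i).obj U).left := Scheme.isEmpty_pullback_iff.mpr hU
    have h1 : IsZero (((EtCoh.push i).obj G).obj.obj (op U)) := isZero_of_isEmpty G ((EtCoh.bc i).obj U)
    exact h1.of_iso (((sheafToPresheaf _ _).mapIso e).app (op U)).symm
  · intro hF
    have hsh : Presheaf.IsSheaf (Jres i) F.obj := by
      intro E
      apply sheaf_of_zero_off i _ (F.property E)
      intro Y hY
      exact (hF Y hY).unique_from E
    let F' : Sheaf (Jres i) AddCommGrpCat.{u + 1} := ⟨F.obj, hsh⟩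
    let Φ := (EtCoh.bc i).sheafPushforwardContinuous AddCommGrpCat.{u + 1} (Jres i)
      Z.smallEtaleTopology
    haveI : Φ.IsEquivalence := inferInstance
    let G := Φ.objPreimage F'
    let e' : Φ.obj G ≅ F' := Φ.objObjPreimageIso F'
    let e'' : ((EtCoh.push i).obj G).obj ≅ F.obj := (sheafToPresheaf _ _).mapIso e'
    exact ⟨G, ⟨(fullyFaithfulSheafToPresheaf _ _).preimageIso e''⟩⟩

end Groth.Agent.Lib.T2H8.ClosedEss
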