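import Mathlib
import Groth.Prelude.Def_BigSite
import Groth.Agent.Lib.T2H8FiniteSplit
import Groth.Agent.Lib.Helper16EtGlue
import Groth.Agent.Lib.Helper16BigSmallCoh

set_option autoImplicit false
universe u

open CategoryTheory CategoryTheory.Limits AlgebraicGeometry Opposite

namespace Groth.Agent.Lib.T2H8FinitePushExact

open Groth.Agent.Lib.Helper16.SmallEtale Groth.Agent.Lib.Helper16.EtGlue
open Groth.Agent.Lib.T2H8FiniteSplit

set_option backward.isDefEq.respectTransparency.types false in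
/-- The direct image of abelian etale sheaves along a finite morphism preserves epimorphisms. -/
theorem push_preservesEpimorphisms {X Y : Scheme.{u}} (f : X ⟶ Y) [IsFinite f] :
    (EtCoh.push f).PreservesEpimorphisms := by
  constructor
  intro F G φ hφ
  have hls : Sheaf.IsLocallySurjective φ := (Sheaf.isLocallySurjective_iff_epi' (φ := φ)).2 hφ
  rw [← Sheaf.isLocallySurjective_iff_epi' (φ := (EtCoh.push f).map φ)]
  constructor
  intro V s
  have hFs : Presieve.IsSheaf X.smallEtaleTopology (F.obj ⋙ forget AddCommGrpCat) :=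
    (isSheaf_iff_isSheaf_of_type _ _).mp
      ((Presheaf.isSheaf_iff_isSheaf_forget _ _ (forget AddCommGrpCat)).mp F.property)
  have hGs : Presieve.IsSheaf X.smallEtaleTopology (G.obj ⋙ forget AddCommGrpCat) :=
    (isSheaf_iff_isSheaf_of_type _ _).mp
      ((Presheaf.isSheaf_iff_isSheaf_forget _ _ (forget AddCommGrpCat)).mp G.property)
  let P : X.Etale := (EtCoh.bc f).obj V
  have hcov : Presheaf.imageSieve φ.hom (U := P) s ∈ X.smallEtaleTopology P :=
    Presheaf.imageSieve_mem X.smallEtaleTopology φ.hom (U := op P) s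
  rw [mem_smallEtale_iff] at hcov
  choose U g y ht hy using hcov
  choose t ht using ht
  rw [mem_smallEtale_iff]
  intro y₀
  have hUhom : ∀ x, (g x).left ≫ pullback.snd V.hom f = (U x).hom := fun x => Over.w (g x).hom
  let fV : P.left ⟶ V.left := pullback.fst V.hom f
  have hfin : IsFinite fV :=
    MorphismProperty.pullback_fst (P := @IsFinite) _ _ ‹_›
  obtain ⟨S', g', s', X', p, q, hg', hs', sq, K, hK, D, pt, hdisj, htop, -, hlift⟩ :=
    exists_split (E := fun x : P.left => (U x).left) (e := fun x => (g x).left)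
      fV y₀ (fun x _ => ⟨x, y x, hy x⟩)
  let Vj : Y.Etale := Scheme.Etale.mk (g' ≫ V.hom)
  let kj : Vj ⟶ V := MorphismProperty.Over.homMk g' rfl
  refine ⟨Vj, kj, s', ?_, hs'⟩
  let Pj : X.Etale := (EtCoh.bc f).obj Vj
  let bm : Pj.left ⟶ P.left := ((EtCoh.bc f).map kj).left
  have sq' : IsPullback bm (pullback.fst Vj.hom f) fV g' :=
    EtCoh.isPullback_bc_map f kj
  let τ : X' ≅ Pj.left := sq.isoIsPullback _ _ sq'
  have hτ1 : τ.hom ≫ bm = p := IsPullback.isoIsPullback_hom_fst _ _ sq sq'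
  have hbm2 : bm ≫ pullback.snd V.hom f = pullback.snd Vj.hom f := bc_map_left_snd f kj
  choose i h hh using hlift
  let Wobj : K → X.Etale := fun a => Scheme.Etale.mk ((D a).ι ≫ τ.hom ≫ Pj.hom)
  let ja : ∀ a, Wobj a ⟶ Pj := fun a =>
    MorphismProperty.Over.homMk ((D a).ι ≫ τ.hom) (Category.assoc _ _ _)
  have hjal : ∀ a, (ja a).left = (D a).ι ≫ τ.hom := fun a => rfl
  have hha : ∀ a, h a ≫ (U (i a)).hom = (Wobj a).hom := by
    intro a
    rw [← hUhom, ← Category.assoc, hh a, Category.assoc, ← hτ1, Category.assoc, hbm2]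
    rfl
  let ha : ∀ a, Wobj a ⟶ U (i a) := fun a => MorphismProperty.Over.homMk (h a) (hha a)
  have hkey : ∀ a, ja a ≫ (EtCoh.bc f).map kj = ha a ≫ g (i a) := by
    intro a
    apply MorphismProperty.Over.Hom.ext
    change ((D a).ι ≫ τ.hom) ≫ bm = h a ≫ (g (i a)).left
    rw [Category.assoc, hτ1, hh a]
  let ta : ∀ a, F.obj.obj (op (Wobj a)) := fun a => F.obj.map (ha a).op (t (i a))
  have hmono : ∀ a, Mono (ja a).left := fun a => by
    rw [hjal]; exact @mono_comp _ _ _ _ _ (D a).ι inferInstance _ inferInstance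
  have hdisj' : ∀ a b, a ≠ b → ∀ (x : (Wobj a).left) (y : (Wobj b).left),
      (ja a).left x ≠ (ja b).left y := by
    intro a b hab x y hxy
    have h1 : ((D a).ι ≫ τ.hom) x = ((D b).ι ≫ τ.hom) y := hxy
    simp only [Scheme.Hom.comp_apply] at h1
    have h2 : (D a).ι x = (D b).ι y := τ.hom.isOpenEmbedding.injective h1
    have hx : (D a).ι x ∈ D a := x.2
    have hy : (D b).ι y ∈ D b := y.2
    rw [← h2] at hy
    exact (hdisj a b hab).le_bot ⟨hx, hy⟩
  have hcov' : ∀ z : Pj.left, ∃ a, ∃ x : (Wobj a).left, (ja a).left x = z := by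
    intro z
    have hz : τ.hom (τ.inv z) = z :=
      congrArg (fun m : Pj.left ⟶ Pj.left => m z) τ.inv_hom_id
    have hmem : τ.inv z ∈ (⨆ a, D a) := by rw [htop]; trivial
    obtain ⟨a, ha'⟩ := TopologicalSpace.Opens.mem_iSup.mp hmem
    exact ⟨a, ⟨_, ha'⟩, hz⟩
  obtain ⟨tt, htt, -⟩ := exists_unique_glue (F.obj ⋙ forget AddCommGrpCat) hFs Wobj ja hmono
    hdisj' hcov' ta
  refine ⟨tt, ?_⟩
  change φ.hom.app (op Pj) tt = G.obj.map ((EtCoh.bc f).map kj).op s
  refine (exists_unique_glue (G.obj ⋙ forget AddCommGrpCat) hGs Wobj ja hmono hdisj' hcov'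
    (fun a => G.obj.map (ja a).op (G.obj.map ((EtCoh.bc f).map kj).op s))).unique ?_ ?_
  · intro a
    have htt' : F.obj.map (ja a).op tt = ta a := htt a
    have n1 := NatTrans.naturality_apply φ.hom (ja a).op tt
    have n2 := NatTrans.naturality_apply φ.hom (ha a).op (t (i a))
    change G.obj.map (ja a).op (φ.hom.app (op Pj) tt) = _
    rw [← n1, htt']
    change φ.hom.app _ (F.obj.map (ha a).op (t (i a))) = _
    rw [n2, ht (i a)]
    rw [← ConcreteCategory.comp_apply, ← Functor.map_comp, ← op_comp, ← ConcreteCategory.comp_apply,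
      ← Functor.map_comp, ← op_comp, hkey a]
  · intro a
    rfl

end Groth.Agent.Lib.T2H8FinitePushExact
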