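import Mathlib
import Groth.Agent.Lib.Helper3HenselA
import Groth.Agent.Lib.Helper16SmallEtale
import Groth.Agent.Lib.Helper9EtPull
import Groth.Prelude.Def_EtCore

/-!
# Strictly henselian local rings: the small étale site is "trivial at the top" (helper8, team 2)

* `exists_algHom`: an étale algebra over a strictly henselian local ring with a prime over the
  maximal ideal retracts onto the base.
* `exists_section`: scheme version.
* `sieve_eq_top`: every covering sieve of the terminal object of the small étale site is maximal.
* `projective_constZ`: the constant sheaf `ℤ` is projective, hence higher cohomology vanishes.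
-/

set_option autoImplicit false
universe u
open IsLocalRing CategoryTheory CategoryTheory.Limits AlgebraicGeometry Opposite

namespace Groth.Agent.Lib.T2H8.StrictHens

/-- Over a strictly henselian local ring `R`, an étale `R`-algebra with a prime over the maximal
ideal admits an `R`-algebra retraction to `R`. -/
theorem exists_algHom (R : Type u) [CommRing R] [HenselianLocalRing R]
    [IsSepClosed (ResidueField R)] (A : Type u) [CommRing A] [Algebra R A] [Algebra.Etale R A]
    (q : Ideal A) [q.IsPrime] (hq : q.comap (algebraMap R A) = maximalIdeal R) :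
    ∃ f : A →ₐ[R] R, Ideal.comap f.toRingHom (maximalIdeal R) = q := by
  have hloc : IsLocalHom (algebraMap R (Localization.AtPrime q)) := by
    constructor
    intro a ha
    by_contra hna
    have h1 : a ∈ maximalIdeal R := hna
    rw [← hq, Ideal.mem_comap] at h1
    have h2 : algebraMap A (Localization.AtPrime q) (algebraMap R A a) ∈
        maximalIdeal (Localization.AtPrime q) := by
      rw [← Localization.AtPrime.map_eq_maximalIdeal]
      exact Ideal.mem_map_of_mem _ h1
    rw [← IsScalarTower.algebraMap_apply] at h2
    exact h2 ha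
  have : Algebra.FormallyUnramified R (Localization.AtPrime q) :=
    Algebra.FormallyUnramified.comp R A _
  have : Algebra.EssFiniteType R (Localization.AtPrime q) := Algebra.EssFiniteType.comp R A _
  have hsep : Algebra.IsSeparable (ResidueField R) (ResidueField (Localization.AtPrime q)) :=
    inferInstance
  have hbij : Function.Bijective
      (algebraMap (ResidueField R) (ResidueField (Localization.AtPrime q))) :=
    IsSepClosed.algebraMap_bijective _ _
  let E : ResidueField R ≃ₐ[ResidueField R] ResidueField (Localization.AtPrime q) :=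
    AlgEquiv.ofBijective (Algebra.ofId _ _) hbij
  let τ : q.ResidueField →ₐ[R] ResidueField R := (E.symm.restrictScalars R).toAlgHom
  obtain ⟨f, hf, -⟩ := Groth.Agent.Lib.Helper3.Hensel.existsUnique_algHom_of_etale (R := R) (S := R)
    q τ
  exact ⟨f, Groth.Agent.Lib.Helper3.Hensel.comap_eq_of_residue q τ.toRingHom f hf⟩

/-- An étale scheme over a strictly henselian local ring having a point over the closed point
admits a section. -/
theorem exists_section (R : Type u) [CommRing R] [HenselianLocalRing R]
    [IsSepClosed (ResidueField R)] {V : Scheme.{u}} (g : V ⟶ Spec (CommRingCat.of R)) [Etale g]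
    (v : V) (hv : g v = closedPoint R) :
    ∃ σ : Spec (CommRingCat.of R) ⟶ V, σ ≫ g = 𝟙 _ := by
  obtain ⟨A, j, hj, q, hqv⟩ := Scheme.exists_Spec_apply_eq v
  let ψ : CommRingCat.of R ⟶ A := Spec.preimage (j ≫ g)
  have hψ : Spec.map ψ = j ≫ g := Spec.map_preimage _
  have hE : Etale (Spec.map ψ) := by rw [hψ]; infer_instance
  have hE' : ψ.hom.Etale := (HasRingHomProperty.Spec_iff (P := @Etale)).mp hE
  algebraize [ψ.hom]
  have hq : q.asIdeal.comap (algebraMap R A) = maximalIdeal R := by
    have h1 : (Spec.map ψ) q = closedPoint R := by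
      rw [hψ, Scheme.Hom.comp_apply, hqv, hv]
    have h2 := congrArg PrimeSpectrum.asIdeal h1
    exact h2
  obtain ⟨f, -⟩ := exists_algHom R A q.asIdeal hq
  refine ⟨Spec.map (CommRingCat.ofHom f.toRingHom) ≫ j, ?_⟩
  rw [Category.assoc, ← hψ, ← Spec.map_comp]
  have : ψ ≫ CommRingCat.ofHom f.toRingHom = 𝟙 _ := by
    ext r
    exact f.commutes r
  rw [this, Spec.map_id]

/-- Every covering sieve of the terminal object of the small étale site of a strictly henselian
local ring is the maximal sieve. -/
theorem sieve_eq_top (R : Type u) [CommRing R] [HenselianLocalRing R]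
    [IsSepClosed (ResidueField R)] (S : Sieve (EtCoh.top (Spec (CommRingCat.of R))))
    (hS : S ∈ (Spec (CommRingCat.of R)).smallEtaleTopology _) : S = ⊤ := by
  obtain ⟨W, g, y, hg, hy⟩ :=
    (Groth.Agent.Lib.Helper16.SmallEtale.mem_smallEtale_iff _ S).1 hS (closedPoint R)
  have hw : g.left = W.hom := by
    have h0 : g.left ≫ 𝟙 _ = W.hom := Over.w g.hom
    rw [← h0]
    exact (Category.comp_id _).symm
  have hy' : W.hom y = closedPoint R := by rw [← hw]; exact hy
  obtain ⟨σ₀, hσ₀⟩ := exists_section R W.hom y hy'
  let σ : EtCoh.top (Spec (CommRingCat.of R)) ⟶ W :=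
    MorphismProperty.Over.homMk σ₀ hσ₀ trivial
  rw [← Sieve.id_mem_iff_eq_top]
  have h1 : S (σ ≫ g) := S.downward_closed hg σ
  have h2 : σ ≫ g = 𝟙 _ := (EtCore.topIsTerminal _).hom_ext _ _
  rwa [h2] at h1

open Groth.Agent.Lib.Helper9.EtPull in
/-- The constant sheaf `ℤ` on the small étale site of a strictly henselian local ring is a
projective object. -/
theorem projective_constZ (R : Type u) [CommRing R] [HenselianLocalRing R]
    [IsSepClosed (ResidueField R)] :
    Projective (EtCoh.const (Spec (CommRingCat.of R)) ℤ) := by
  constructor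
  intro E X f e he
  have hls : Sheaf.IsLocallySurjective e := (Sheaf.isLocallySurjective_iff_epi' (φ := e)).2 he
  have hmem := Presheaf.imageSieve_mem (Spec (CommRingCat.of R)).smallEtaleTopology e.hom
    (U := op (EtCoh.top (Spec (CommRingCat.of R)))) (sec X f)
  have htop := sieve_eq_top R _ hmem
  have h1 : Presheaf.imageSieve e.hom (sec X f) (𝟙 _) := by rw [htop]; trivial
  obtain ⟨y, hy⟩ := h1
  obtain ⟨ψ, hψ⟩ := sec_surjective E y
  refine ⟨ψ, ?_⟩
  apply sec_injective
  rw [sec_comp, hψ]
  simpa using hy

end Groth.Agent.Lib.T2H8.StrictHens
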