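import Mathlib
import Groth.Prelude.Def_EtBase
import Groth.Prelude.Def_EtCore
import Groth.Agent.S0101
import Groth.Agent.Lib.T2H8FinitePushExact
import Groth.Agent.Lib.T2H8PropBPush
import Groth.Agent.Lib.Helper21AcyclicAdj
import Groth.Agent.Lib.Helper9EtFpH
import Groth.Agent.S0073

/-!
# Cohomology of direct images from cohomologically trivial schemes; sheaves supported on closed
points (helper8)
-/

set_option autoImplicit false
set_option linter.unusedSectionVars false
set_option linter.style.haveILetI false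
universe u
open CategoryTheory CategoryTheory.Limits Opposite AlgebraicGeometry Abelian

namespace Groth.Agent.Lib.T2H8.ClosedPts

section PushVanish

variable {Z X : Scheme.{u}} (f : Z ⟶ X)

/-- the short exact sequence `0 → G → I → Q → 0` with `I` injective -/
noncomputable def embSC (G : EtCoh.Ab Z) : ShortComplex (EtCoh.Ab Z) :=
  ShortComplex.mk (Injective.ι G) (cokernel.π (Injective.ι G)) (cokernel.condition _)

theorem embSC_shortExact (G : EtCoh.Ab Z) : (embSC G).ShortExact :=
  { exact := ShortComplex.exact_cokernel _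
    mono_f := inferInstanceAs (Mono (Injective.ι G))
    epi_g := inferInstanceAs (Epi (cokernel.π _)) }

set_option backward.isDefEq.respectTransparency.types false in
/-- the first cohomology of a direct image along an exact direct image functor from a scheme with
vanishing first cohomology vanishes -/
theorem H_one_push_eq_zero [PreservesFiniteColimits (EtCoh.push f)]
    (hZ : ∀ (G : EtCoh.Ab Z) (x : EtCoh.H Z G 1), x = 0)
    (G : EtCoh.Ab Z) (x : EtCoh.H X ((EtCoh.push f).obj G) 1) : x = 0 := by
  haveI : PreservesFiniteLimits (EtCoh.pull f) := Groth.Agent.S0101.result f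
  haveI : PreservesLimits (EtCoh.push f) := (EtCoh.pullPushAdj f).rightAdjoint_preservesLimits
  let S := embSC G
  have hS : S.ShortExact := embSC_shortExact G
  have hS' : (S.map (EtCoh.push f)).ShortExact := hS.map_of_exact (EtCoh.push f)
  haveI hJ : Injective (S.map (EtCoh.push f)).X₂ :=
    (EtCoh.pullPushAdj f).map_injective (Injective.under G) inferInstance
  let ZX : EtCoh.Ab X := EtCoh.const X ℤ
  have h0 : x.comp (Ext.mk₀ (S.map (EtCoh.push f)).f) (add_zero 1) = 0 :=
    Ext.eq_zero_of_injective _
  obtain ⟨x₃, hx₃⟩ := Ext.covariant_sequence_exact₁ ZX hS' x h0 (zero_add 1)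
  obtain ⟨φ, rfl⟩ := (Ext.mk₀_bijective _ _).2 x₃
  -- lift `φ` through `f_* I → f_* Q`
  let A : EtCoh.Ab Z := (EtCoh.pull f).obj ZX
  let φ' : A ⟶ S.X₃ := ((EtCoh.pullPushAdj f).homEquiv ZX S.X₃).symm φ
  have hvan : ∀ y : Ext A S.X₁ 1, y = 0 :=
    Groth.Agent.Lib.Helper21.AcyclicAdj.ext_eq_zero_of_iso (EtCore.pullConst f ℤ) 1
      (fun y => hZ G y)
  obtain ⟨x₂, hx₂⟩ := Ext.covariant_sequence_exact₃ A hS (Ext.mk₀ φ') (zero_add 1) (hvan _)
  obtain ⟨ψ', rfl⟩ := (Ext.mk₀_bijective _ _).2 x₂
  rw [Ext.mk₀_comp_mk₀] at hx₂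
  have hψ' : ψ' ≫ S.g = φ' := (Ext.mk₀_bijective _ _).1 hx₂
  let ψ : ZX ⟶ (S.map (EtCoh.push f)).X₂ := (EtCoh.pullPushAdj f).homEquiv ZX S.X₂ ψ'
  have hψ : ψ ≫ (S.map (EtCoh.push f)).g = φ := by
    change ((EtCoh.pullPushAdj f).homEquiv ZX S.X₂ ψ') ≫ (EtCoh.push f).map S.g = φ
    rw [← (EtCoh.pullPushAdj f).homEquiv_naturality_right, hψ']
    exact ((EtCoh.pullPushAdj f).homEquiv ZX S.X₃).apply_symm_apply φ
  have e1 : Ext.mk₀ φ = (Ext.mk₀ ψ).comp (Ext.mk₀ (S.map (EtCoh.push f)).g) (add_zero 0) := by
    rw [Ext.mk₀_comp_mk₀, hψ]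
  have key : (Ext.mk₀ φ).comp hS'.extClass (zero_add 1) = 0 := by
    rw [e1, Ext.comp_assoc_of_second_deg_zero, hS'.comp_extClass, Ext.comp_zero]
  exact hx₃.symm.trans key

set_option backward.isDefEq.respectTransparency.types false in
/-- the higher cohomology of a direct image along an exact direct image functor from a scheme with
vanishing first cohomology vanishes -/
theorem H_push_eq_zero [PreservesFiniteColimits (EtCoh.push f)]
    (hZ : ∀ (G : EtCoh.Ab Z) (x : EtCoh.H Z G 1), x = 0) :
    ∀ (q : ℕ) (G : EtCoh.Ab Z) (x : EtCoh.H X ((EtCoh.push f).obj G) (q + 1)), x = 0 := by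
  haveI : PreservesFiniteLimits (EtCoh.pull f) := Groth.Agent.S0101.result f
  haveI : PreservesLimits (EtCoh.push f) := (EtCoh.pullPushAdj f).rightAdjoint_preservesLimits
  intro q
  induction q with
  | zero => exact fun G x => H_one_push_eq_zero f hZ G x
  | succ q ih =>
    intro G x
    let S := embSC G
    have hS : S.ShortExact := embSC_shortExact G
    have hS' : (S.map (EtCoh.push f)).ShortExact := hS.map_of_exact (EtCoh.push f)
    haveI hJ : Injective (S.map (EtCoh.push f)).X₂ :=
      (EtCoh.pullPushAdj f).map_injective (Injective.under G) inferInstance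
    have h0 : x.comp (Ext.mk₀ (S.map (EtCoh.push f)).f) (add_zero (q + 1 + 1)) = 0 :=
      Ext.eq_zero_of_injective _
    obtain ⟨x₃, hx₃⟩ := Ext.covariant_sequence_exact₁ (EtCoh.const X ℤ) hS' x h0 rfl
    have hx₃0 : x₃ = (0 : Ext (EtCoh.const X ℤ) (S.map (EtCoh.push f)).X₃ (q + 1)) := ih S.X₃ x₃
    have key : x₃.comp hS'.extClass rfl = 0 := by rw [hx₃0, Ext.zero_comp]
    exact hx₃.symm.trans key

end PushVanish

section Sigma

open CoproductsFromFiniteFiltered

variable (X : Scheme.{u}) [CompactSpace X] [QuasiSeparatedSpace X]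

/-- on a quasi-compact quasi-separated scheme, a coproduct of sheaves with vanishing `H^q` has
vanishing `H^q` -/
theorem isZero_HF_sigma {α : Type u} (F : α → EtCoh.Ab X) (q : ℕ)
    (h : ∀ a, IsZero ((EtCoh.HF X q).obj (F a))) : IsZero ((EtCoh.HF X q).obj (∐ F)) := by
  haveI := Groth.Agent.Lib.Helper9.EtFp.preservesColimitsOfShape_HF' X q (Finset (Discrete α))
  have hc := isColimitOfPreserves (EtCoh.HF X q) (isColimitFiniteSubproductsCocone F)
  have hz : ∀ S : Finset (Discrete α),
      IsZero ((liftToFinsetObj (Discrete.functor F) ⋙ EtCoh.HF X q).obj S) := by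
    intro S
    change IsZero ((EtCoh.HF X q).obj (∐ fun x : S => (Discrete.functor F).obj x))
    haveI : (EtCoh.HF X q).Additive := by unfold EtCoh.HF; infer_instance
    let e := PreservesCoproduct.iso (EtCoh.HF X q) (fun x : S => (Discrete.functor F).obj x)
    refine IsZero.of_iso ?_ e
    rw [IsZero.iff_id_eq_zero]
    apply Sigma.hom_ext
    intro b
    exact (h b.1.as).eq_of_src _ _
  rw [IsZero.iff_id_eq_zero]
  apply hc.hom_ext
  intro S
  exact (hz S).eq_of_src _ _

/-- `Subsingleton` form -/
theorem subsingleton_H_sigma {α : Type u} (F : α → EtCoh.Ab X) (q : ℕ)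
    (h : ∀ a, Subsingleton (EtCoh.H X (F a) q)) : Subsingleton (EtCoh.H X (∐ F) q) := by
  have h1 : IsZero ((EtCoh.HF X q).obj (∐ F)) := by
    apply isZero_HF_sigma
    intro a
    haveI := h a
    exact AddCommGrpCat.isZero_of_subsingleton (AddCommGrpCat.of (EtCoh.H X (F a) q))
  exact AddCommGrpCat.subsingleton_of_isZero h1

end Sigma

section ClosedPoint

set_option backward.isDefEq.respectTransparency.types false in
/-- the cohomology of a sheaf pushed forward from a closed point with separably closed residue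
field vanishes in positive degrees -/
theorem H_push_closedPoint_eq_zero (X : Scheme.{u}) (x : X) (hx : IsClosed ({x} : Set X))
    [IsSepClosed (X.residueField x)] (G : EtCoh.Ab (Spec (X.residueField x))) (q : ℕ)
    (y : EtCoh.H X ((EtCoh.push (X.fromSpecResidueField x)).obj G) (q + 1)) : y = 0 := by
  haveI := isClosed_singleton_iff_isClosedImmersion.mp hx
  haveI : PreservesFiniteColimits (EtCoh.push (X.fromSpecResidueField x)) :=
    Groth.Agent.Lib.T2H8PropBPush.preservesFiniteColimits_push_of_preservesEpimorphisms _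
      (Groth.Agent.Lib.T2H8FinitePushExact.push_preservesEpimorphisms _)
  haveI : Algebra.IsIntegral (X.residueField x) (IsLocalRing.ResidueField (X.residueField x)) :=
    Algebra.IsIntegral.of_surjective (Algebra.ofId _ _) IsLocalRing.residue_surjective
  haveI : IsSepClosed (IsLocalRing.ResidueField (X.residueField x)) :=
    Algebra.IsAlgebraic.isSepClosed (F := X.residueField x)
  have hH : @HenselianLocalRing (X.residueField x) (X.residueField x).commRing :=
    inferInstanceAs (HenselianLocalRing (IsLocalRing.ResidueField (X.presheaf.stalk x)))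
  refine H_push_eq_zero (X.fromSpecResidueField x) ?_ q G y
  intro G' y'
  have h1 : Subsingleton (EtCoh.H (Spec (CommRingCat.of (X.residueField x))) G' 1) :=
    @Groth.Agent.S0073.result (X.residueField x) (X.residueField x).commRing hH
      inferInstance G' 1 le_rfl
  exact h1.elim _ _

/-- the residue field of a closed point of a scheme locally of finite type over a separably closed
field is separably closed -/
theorem isSepClosed_residueField_of_isClosed {K : Type u} [Field K] [IsSepClosed K]
    {X : Scheme.{u}} (a : X ⟶ Spec (CommRingCat.of K)) [LocallyOfFiniteType a] (x : X)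
    (hx : IsClosed ({x} : Set X)) : IsSepClosed (X.residueField x) := by
  haveI := isClosed_singleton_iff_isClosedImmersion.mp hx
  let g := X.fromSpecResidueField x ≫ a
  have hfin : IsFinite g := isFinite_iff_locallyOfFiniteType_of_jacobsonSpace.mpr inferInstance
  let φ : CommRingCat.of K ⟶ X.residueField x := Spec.preimage g
  have hφ : Spec.map φ = g := Spec.map_preimage g
  have hφfin : φ.hom.Finite := by
    rw [← IsFinite.SpecMap_iff, hφ]
    exact hfin
  algebraize [φ.hom]
  haveI : Algebra.IsAlgebraic K (X.residueField x) := Algebra.IsAlgebraic.of_finite K _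
  exact Algebra.IsAlgebraic.isSepClosed (F := K)

end ClosedPoint

section S8615

/-- transfer of vanishing along an isomorphism -/
theorem subsingleton_H_of_iso {X : Scheme.{u}} {A B : EtCoh.Ab X} (e : A ≅ B) (q : ℕ)
    (h : Subsingleton (EtCoh.H X B q)) : Subsingleton (EtCoh.H X A q) := by
  haveI : Subsingleton ((EtCoh.HF X q).obj B) := h
  exact (((EtCoh.HF X q).mapIso e).addCommGroupIsoToAddEquiv.toEquiv).subsingleton

/-- **S8615** -/
theorem main_S8615 {k : Type u} [Field k] [IsAlgClosed k]
    {X : Scheme.{u}} (f : X ⟶ Spec (CommRingCat.of k)) [IsProper f] [SmoothOfRelativeDimension 1 f]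
    [ConnectedSpace ↥X]
    (c : Cofan fun x : {x : X // IsClosed ({x} : Set X)} =>
      (EtCoh.push (X.fromSpecResidueField x.1)).obj (EtCoh.const (Spec (X.residueField x.1)) ℤ))
    (hc : IsColimit c) (q : ℕ) (hq : 0 < q) :
    Subsingleton (EtCoh.H X c.pt q) := by
  obtain ⟨n, rfl⟩ : ∃ n, q = n + 1 := ⟨q - 1, by omega⟩
  haveI : CompactSpace X := QuasiCompact.compactSpace_of_compactSpace f
  haveI : QuasiSeparatedSpace X := quasiSeparatedSpace_of_quasiSeparated f
  let F := fun x : {x : X // IsClosed ({x} : Set X)} =>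
      (EtCoh.push (X.fromSpecResidueField x.1)).obj (EtCoh.const (Spec (X.residueField x.1)) ℤ)
  have h : ∀ a, Subsingleton (EtCoh.H X (F a) (n + 1)) := by
    intro a
    haveI := isSepClosed_residueField_of_isClosed f a.1 a.2
    exact ⟨fun y y' => (H_push_closedPoint_eq_zero X a.1 a.2 _ n y).trans
      (H_push_closedPoint_eq_zero X a.1 a.2 _ n y').symm⟩
  have h2 := subsingleton_H_sigma X F (n + 1) h
  exact subsingleton_H_of_iso (hc.coconePointUniqueUpToIso (colimit.isColimit _)) (n + 1) h2

end S8615

end Groth.Agent.Lib.T2H8.ClosedPts
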