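import Mathlib
import Groth.Prelude.Def_EtBase

set_option autoImplicit false
set_option linter.style.haveILetI false
universe u
open CategoryTheory CategoryTheory.Limits Opposite AlgebraicGeometry

namespace Groth.Agent.Lib.T2H8.FLC

instance : PreservesFilteredColimitsOfSize.{u, u} (forget AddCommGrpCat.{u + 1}) :=
  preservesFilteredColimitsOfSize_shrink.{u, u + 1, u, u + 1} _

variable {X : Scheme.{u}} {Ω : Type u} [Field Ω] [IsSepClosed Ω] (ξ : Spec (CommRingCat.of Ω) ⟶ X)

/-- the constant presheaf on the over-site -/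
noncomputable abbrev constPre (U : X.Etale) (M : AddCommGrpCat.{u + 1}) :
    (Over U)ᵒᵖ ⥤ AddCommGrpCat.{u + 1} := (Functor.const _).obj M

variable (F : EtCoh.Ab X) (U : X.Etale) (M : AddCommGrpCat.{u + 1})
    (β : (EtCoh.restr F U).obj ≅ sheafify (X.smallEtaleTopology.over U) (constPre U M))

/-- the locally bijective map from the constant presheaf to the restriction of `F` -/
noncomputable def theta : constPre U M ⟶ (EtCoh.restr F U).obj :=
  toSheafify (X.smallEtaleTopology.over U) (constPre U M) ≫ β.inv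

theorem theta_app (Y : Over U) (m : M) :
    (theta F U M β).app (op Y) m =
      (β.app (op Y)).inv ((toSheafify (X.smallEtaleTopology.over U) (constPre U M)).app (op Y) m) := rfl

theorem theta_locInj
    (Y : Over U) (m m' : M) (h : (theta F U M β).app (op Y) m = (theta F U M β).app (op Y) m') :
    Presheaf.equalizerSieve (F := constPre U M) (X := op Y) m m' ∈ X.smallEtaleTopology.over U Y := by
  have hW := (X.smallEtaleTopology.over U).W_toSheafify (constPre U M)
  haveI := hW.isLocallyInjective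
  apply Presheaf.equalizerSieve_mem (X.smallEtaleTopology.over U)
    (toSheafify (X.smallEtaleTopology.over U) (constPre U M))
  rw [theta_app, theta_app] at h
  have h2 := congrArg ((β.app (op Y)).hom) h
  rw [Iso.inv_hom_id_apply, Iso.inv_hom_id_apply] at h2
  exact h2

theorem theta_locSurj
    (Y : Over U) (z : (EtCoh.restr F U).obj.obj (op Y)) :
    Presheaf.imageSieve (theta F U M β) z ∈ X.smallEtaleTopology.over U Y := by
  have hW := (X.smallEtaleTopology.over U).W_toSheafify (constPre U M)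
  haveI := hW.isLocallySurjective
  have h1 := Presheaf.imageSieve_mem (X.smallEtaleTopology.over U)
    (toSheafify (X.smallEtaleTopology.over U) (constPre U M)) ((β.app (op Y)).hom z)
  refine (X.smallEtaleTopology.over U).superset_covering ?_ h1
  rintro Z g ⟨m, hm⟩
  refine ⟨m, ?_⟩
  rw [theta_app, hm]
  have n1 := NatTrans.naturality_apply β.inv g.op ((β.app (op Y)).hom z)
  have e : β.inv.app (op Y) ((β.app (op Y)).hom z) = z := Iso.hom_inv_id_apply (β.app (op Y)) z
  rw [e] at n1
  exact n1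

/-- naturality of theta w.r.t. the structure map to `id_U` -/
theorem theta_nat {Y : X.Etale} (f : Y ⟶ U) (m : M) :
    (theta F U M β).app (op (Over.mk f)) m =
      F.obj.map f.op ((theta F U M β).app (op (Over.mk (𝟙 U))) m) := by
  have n1 := NatTrans.naturality_apply (theta F U M β)
    (Over.homMk f (by simp) : Over.mk f ⟶ Over.mk (𝟙 U)).op m
  exact n1

variable (t : (Scheme.pointSmallEtale ξ).fiber.obj U)

/-- the comparison map from `M` to the stalk -/
noncomputable def phi : M ⟶ (Scheme.pointSmallEtale ξ).presheafFiber.obj F.obj :=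
  (theta F U M β).app (op (Over.mk (𝟙 U))) ≫ (Scheme.pointSmallEtale ξ).toPresheafFiber U t F.obj

theorem phi_apply (m : M) : phi ξ F U M β t m =
    (Scheme.pointSmallEtale ξ).toPresheafFiber U t F.obj
      ((theta F U M β).app (op (Over.mk (𝟙 U))) m) := rfl

theorem phi_injective : Function.Injective (phi ξ F U M β t) := by
  intro m m' h
  rw [phi_apply, phi_apply, GrothendieckTopology.Point.toPresheafFiber_eq_iff'] at h
  obtain ⟨Y, f, y, hy, h⟩ := h
  rw [← theta_nat, ← theta_nat] at h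
  have h1 := theta_locInj F U M β (Over.mk f) m m' h
  rw [GrothendieckTopology.mem_over_iff] at h1
  obtain ⟨Z, g, hg, z, hz⟩ := (Scheme.pointSmallEtale ξ).jointly_surjective _ h1 y
  rw [Sieve.overEquiv_iff] at hg
  exact hg

theorem phi_surjective : Function.Surjective (phi ξ F U M β t) := by
  intro p
  obtain ⟨V, v, z, rfl⟩ := (Scheme.pointSmallEtale ξ).toPresheafFiber_jointly_surjective p
  -- a common refinement of `(V, v)` and `(U, t)`
  let eV : (Scheme.pointSmallEtale ξ).fiber.Elements := ⟨V, v⟩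
  let eU : (Scheme.pointSmallEtale ξ).fiber.Elements := ⟨U, t⟩
  let eW := IsCofiltered.min eV eU
  let a : eW ⟶ eV := IsCofiltered.minToLeft eV eU
  let b : eW ⟶ eU := IsCofiltered.minToRight eV eU
  have ha : (Scheme.pointSmallEtale ξ).fiber.map a.1 eW.2 = v := a.2
  have hb : (Scheme.pointSmallEtale ξ).fiber.map b.1 eW.2 = t := b.2
  let z' : (EtCoh.restr F U).obj.obj (op (Over.mk b.1)) := F.obj.map a.1.op z
  have h1 := theta_locSurj F U M β (Over.mk b.1) z'
  rw [GrothendieckTopology.mem_over_iff] at h1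
  obtain ⟨W', g, hg, w', hw'⟩ := (Scheme.pointSmallEtale ξ).jointly_surjective _ h1 eW.2
  rw [Sieve.overEquiv_iff] at hg
  obtain ⟨m, hm⟩ := hg
  refine ⟨m, ?_⟩
  rw [phi_apply]
  have e1 := (Scheme.pointSmallEtale ξ).toPresheafFiber_w_apply a.1 eW.2 F.obj z
  rw [ha] at e1
  have e2 := (Scheme.pointSmallEtale ξ).toPresheafFiber_w_apply g w' F.obj (F.obj.map a.1.op z)
  rw [hw'] at e2
  have e3 := (Scheme.pointSmallEtale ξ).toPresheafFiber_w_apply (g ≫ b.1) w' F.obj
    ((theta F U M β).app (op (Over.mk (𝟙 U))) m)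
  have e4 : (Scheme.pointSmallEtale ξ).fiber.map (g ≫ b.1) w' = t := by
    rw [Functor.map_comp]
    change (Scheme.pointSmallEtale ξ).fiber.map b.1 ((Scheme.pointSmallEtale ξ).fiber.map g w') = t
    rw [hw', hb]
  rw [e4] at e3
  have e5 := theta_nat F U M β (g ≫ b.1) m
  have e6 : F.obj.map (g ≫ b.1).op ((theta F U M β).app (op (Over.mk (𝟙 U))) m) =
      F.obj.map g.op (F.obj.map a.1.op z) := e5.symm.trans hm
  exact e3.symm.trans ((congrArg _ e6).trans (e2.trans e1))

theorem phi_bijective : Function.Bijective (phi ξ F U M β t) :=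
  ⟨phi_injective ξ F U M β t, phi_surjective ξ F U M β t⟩

/-- the stalk of a sheaf that is constant on an étale neighbourhood -/
noncomputable def stalkEquiv : M ≃+ ((Scheme.pointSmallEtale ξ).presheafFiber.obj F.obj : AddCommGrpCat.{u + 1}) :=
  AddEquiv.ofBijective (phi ξ F U M β t).hom (phi_bijective ξ F U M β t)

omit [IsSepClosed Ω] ξ F U M β t in
/-- two groups giving the same sheaf étale-locally at a common point are isomorphic -/
theorem nonempty_addEquiv_of_common_point (F : EtCoh.Ab X) (U U' : X.Etale)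
    (M M' : Type) [AddCommGroup M] [AddCommGroup M']
    (α : EtCoh.restr F U ≅ (constantSheaf (X.smallEtaleTopology.over U) AddCommGrpCat.{u + 1}).obj
      (AddCommGrpCat.of (ULift.{u + 1} M)))
    (α' : EtCoh.restr F U' ≅ (constantSheaf (X.smallEtaleTopology.over U') AddCommGrpCat.{u + 1}).obj
      (AddCommGrpCat.of (ULift.{u + 1} M')))
    (y : U.left) (y' : U'.left) (hyy : U.hom.base y = U'.hom.base y') :
    Nonempty (M ≃+ M') := by
  let x : X := U.hom.base y
  let Ω := SeparableClosure (X.residueField x)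
  let ξ : Spec (CommRingCat.of Ω) ⟶ X := (Scheme.SpecToEquivOfField Ω X).symm
    ⟨x, CommRingCat.ofHom (algebraMap (X.residueField x) Ω)⟩
  have hξ : ξ default = x := by simp [ξ]
  obtain ⟨t, -⟩ := Scheme.pointSmallEtaleFiberObjToPreimage_surjective ξ hξ U ⟨y, rfl⟩
  obtain ⟨t', -⟩ := Scheme.pointSmallEtaleFiberObjToPreimage_surjective ξ hξ U' ⟨y', hyy.symm⟩
  let β : (EtCoh.restr F U).obj ≅ sheafify (X.smallEtaleTopology.over U)
      (constPre U (AddCommGrpCat.of (ULift.{u + 1} M))) :=
    (sheafToPresheaf _ _).mapIso α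
  let β' : (EtCoh.restr F U').obj ≅ sheafify (X.smallEtaleTopology.over U')
      (constPre U' (AddCommGrpCat.of (ULift.{u + 1} M'))) :=
    (sheafToPresheaf _ _).mapIso α'
  let e := stalkEquiv ξ F U _ β t
  let e' := stalkEquiv ξ F U' _ β' t'
  exact ⟨(AddEquiv.ulift.symm.trans (e.trans e'.symm)).trans AddEquiv.ulift⟩

omit [IsSepClosed Ω] ξ F U M β t in
theorem main [ConnectedSpace X] (F : EtCoh.Ab X) (h : EtCoh.IsFiniteLocallyConstant F) :
    ∃ (M : Type) (_ : AddCommGroup M) (_ : Finite M) (ι : Type u) (U : ι → X.Etale), EtCoh.Covers U ∧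
      ∀ i, Nonempty (EtCoh.restr F (U i) ≅
        (constantSheaf (X.smallEtaleTopology.over (U i)) AddCommGrpCat.{u + 1}).obj
          (AddCommGrpCat.of (ULift.{u + 1} M))) := by
  obtain ⟨ι, U, hcov, hU⟩ := h
  choose M hM1 hM2 hM3 using hU
  obtain ⟨x0⟩ : Nonempty X := inferInstance
  obtain ⟨i0, y0, hy0⟩ := hcov x0
  letI := hM1
  let A : Set X := {x | ∃ i, ∃ y : (U i).left, (U i).hom.base y = x ∧ Nonempty (M i ≃+ M i0)}
  let B : Set X := {x | ∃ i, ∃ y : (U i).left, (U i).hom.base y = x ∧ ¬ Nonempty (M i ≃+ M i0)}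
  have hopen : ∀ i, IsOpen (Set.range (U i).hom.base) := by
    intro i
    haveI : AlgebraicGeometry.Etale (U i).hom := (U i).prop
    exact (U i).hom.isOpenMap.isOpen_range
  have hA : IsOpen A := by
    have : A = ⋃ (i : ι) (_ : Nonempty (M i ≃+ M i0)), Set.range (U i).hom.base := by
      ext x
      simp only [A, Set.mem_ofPred_eq, Set.mem_iUnion, Set.mem_range, exists_prop]
      constructor
      · rintro ⟨i, y, hy, hM⟩
        exact ⟨i, hM, y, hy⟩
      · rintro ⟨i, hM, y, hy⟩
        exact ⟨i, y, hy, hM⟩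
    rw [this]
    exact isOpen_iUnion fun i => isOpen_iUnion fun _ => hopen i
  have hB : IsOpen B := by
    have : B = ⋃ (i : ι) (_ : ¬ Nonempty (M i ≃+ M i0)), Set.range (U i).hom.base := by
      ext x
      simp only [B, Set.mem_ofPred_eq, Set.mem_iUnion, Set.mem_range, exists_prop]
      constructor
      · rintro ⟨i, y, hy, hM⟩
        exact ⟨i, hM, y, hy⟩
      · rintro ⟨i, hM, y, hy⟩
        exact ⟨i, y, hy, hM⟩
    rw [this]
    exact isOpen_iUnion fun i => isOpen_iUnion fun _ => hopen i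
  have hAB : Set.univ ⊆ A ∪ B := by
    intro x _
    obtain ⟨i, y, hy⟩ := hcov x
    by_cases hM : Nonempty (M i ≃+ M i0)
    · exact Or.inl ⟨i, y, hy, hM⟩
    · exact Or.inr ⟨i, y, hy, hM⟩
  have hdisj : A ∩ B = ∅ := by
    ext x
    simp only [Set.mem_inter_iff, Set.mem_empty_iff_false, iff_false, not_and]
    rintro ⟨i, y, hy, ⟨e⟩⟩ ⟨j, y', hy', hne⟩
    obtain ⟨α⟩ := hM3 i
    obtain ⟨α'⟩ := hM3 j
    obtain ⟨e'⟩ := nonempty_addEquiv_of_common_point F (U j) (U i) (M j) (M i) α' α y' y
      (hy'.trans hy.symm)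
    exact hne ⟨e'.trans e⟩
  have hBempty : B = ∅ := by
    by_contra hne
    have hBne : (Set.univ ∩ B).Nonempty := by
      rw [Set.univ_inter]
      exact Set.nonempty_iff_ne_empty.2 hne
    have hAne : (Set.univ ∩ A).Nonempty := ⟨x0, trivial, i0, y0, hy0, ⟨AddEquiv.refl _⟩⟩
    obtain ⟨z, -, hz⟩ := isPreconnected_univ A B hA hB hAB hAne hBne
    rw [hdisj] at hz
    exact hz
  refine ⟨M i0, hM1 i0, hM2 i0, {i : ι // Nonempty (M i ≃+ M i0)}, fun i => U i.1, ?_, ?_⟩
  · intro x
    obtain ⟨i, y, hy⟩ := hcov x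
    by_cases hM : Nonempty (M i ≃+ M i0)
    · exact ⟨⟨i, hM⟩, y, hy⟩
    · exfalso
      have : x ∈ B := ⟨i, y, hy, hM⟩
      rw [hBempty] at this
      exact this
  · rintro ⟨i, ⟨e⟩⟩
    obtain ⟨α⟩ := hM3 i
    let e2 : AddCommGrpCat.of (ULift.{u + 1} (M i)) ≅ AddCommGrpCat.of (ULift.{u + 1} (M i0)) :=
      (((AddEquiv.ulift.trans e).trans AddEquiv.ulift.symm)).toAddCommGrpIso
    exact ⟨α ≪≫ (constantSheaf (X.smallEtaleTopology.over (U i)) AddCommGrpCat.{u + 1}).mapIso e2⟩

end Groth.Agent.Lib.T2H8.FLC
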