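import Mathlib
import Groth.Prelude.Def_EtBase
import Groth.Agent.Lib.T2H8FLC

/-!
# Local trivializations of abelian sheaves on the small étale site

`IsTriv F U M t`: the group homomorphism `t : M ⟶ F(U)` induces a locally bijective map from the
constant presheaf `M` to `F|_U`; equivalently `F|_U` is the constant sheaf `M` (via `t`).
This formulation lives entirely on `X.Etale` (no over-categories) and is trivially stable under
restriction along `W ⟶ U`.
-/

set_option autoImplicit false
set_option linter.unusedSectionVars false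
set_option linter.style.haveILetI false
universe u
open CategoryTheory CategoryTheory.Limits Opposite AlgebraicGeometry

namespace Groth.Agent.Lib.T2H8.LocTriv
open Groth.Agent.Lib.T2H8.FLC


variable {X : Scheme.{u}}

/-- covering sieves of the small etale site are jointly surjective -/
lemma exists_mem_range_of_mem {U : X.Etale} {T : Sieve U}
    (hT : T ∈ X.smallEtaleTopology U) (p : U.left) :
    ∃ (Z : X.Etale) (k : Z ⟶ U), T k ∧ p ∈ Set.range k.left := by
  obtain ⟨𝒰, _, h, hle⟩ := (Scheme.mem_smallGrothendieckTopology (P := @Etale) U T).1 hT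
  obtain ⟨i, y, hy⟩ := 𝒰.exists_eq p
  exact ⟨_, _, hle _ _ ⟨i⟩, ⟨y, hy⟩⟩

/-- an object with a point is not covered by the empty sieve -/
lemma bot_not_mem {U : X.Etale} (p : U.left) : (⊥ : Sieve U) ∉ X.smallEtaleTopology U := by
  intro h
  obtain ⟨Z, k, hk, -⟩ := exists_mem_range_of_mem h p
  exact hk

/-- composition of restriction maps -/
lemma map_map_apply (F : Sheaf X.smallEtaleTopology AddCommGrpCat.{u + 1}) {U Y Z : X.Etale} (f : Y ⟶ U) (g : Z ⟶ Y)
    (x : F.obj.obj (op U)) : F.obj.map g.op (F.obj.map f.op x) = F.obj.map (g ≫ f).op x := by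
  have : F.obj.map (g ≫ f).op = F.obj.map f.op ≫ F.obj.map g.op := by
    rw [← F.obj.map_comp, ← op_comp]
  rw [this, ConcreteCategory.comp_apply]

/-- the sieve of arrows over which `z` comes from `M` -/
def imgSieve (F : Sheaf X.smallEtaleTopology AddCommGrpCat.{u + 1}) {U : X.Etale} {M : AddCommGrpCat.{u + 1}}
    (t : M ⟶ F.obj.obj (op U)) {Y : X.Etale} (f : Y ⟶ U) (z : F.obj.obj (op Y)) : Sieve Y where
  arrows Z g := ∃ m : M, F.obj.map (g ≫ f).op (t m) = F.obj.map g.op z
  downward_closed := by
    rintro Z Z' g ⟨m, hm⟩ k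
    refine ⟨m, ?_⟩
    have e1 : F.obj.map ((k ≫ g) ≫ f).op (t m) = F.obj.map k.op (F.obj.map (g ≫ f).op (t m)) := by
      rw [map_map_apply, Category.assoc]
    have e2 : F.obj.map (k ≫ g).op z = F.obj.map k.op (F.obj.map g.op z) := by
      rw [map_map_apply]
    rw [e1, e2, hm]

/-- `t : M ⟶ F(U)` trivializes `F` over `U` -/
structure IsTriv (F : Sheaf X.smallEtaleTopology AddCommGrpCat.{u + 1}) (U : X.Etale) (M : AddCommGrpCat.{u + 1})
    (t : M ⟶ F.obj.obj (op U)) : Prop where
  inj : ∀ (Y : X.Etale) (f : Y ⟶ U) (m m' : M),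
    F.obj.map f.op (t m) = F.obj.map f.op (t m') →
      m = m' ∨ (⊥ : Sieve Y) ∈ X.smallEtaleTopology Y
  surj : ∀ (Y : X.Etale) (f : Y ⟶ U) (z : F.obj.obj (op Y)),
    imgSieve F t f z ∈ X.smallEtaleTopology Y

variable (F : Sheaf X.smallEtaleTopology AddCommGrpCat.{u + 1})

/-- restriction of a trivialization -/
theorem IsTriv.restrict {U W : X.Etale} {M : AddCommGrpCat.{u + 1}} {t : M ⟶ F.obj.obj (op U)}
    (h : IsTriv F U M t) (f : W ⟶ U) : IsTriv F W M (t ≫ F.obj.map f.op) := by
  have key : ∀ (Y : X.Etale) (g : Y ⟶ W) (m : M),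
      F.obj.map g.op ((t ≫ F.obj.map f.op) m) = F.obj.map (g ≫ f).op (t m) := by
    intro Y g m
    rw [ConcreteCategory.comp_apply, map_map_apply]
  constructor
  · intro Y g m m' hm
    rw [key, key] at hm
    exact h.inj Y (g ≫ f) m m' hm
  · intro Y g z
    refine X.smallEtaleTopology.superset_covering ?_ (h.surj Y (g ≫ f) z)
    rintro Z k ⟨m, hm⟩
    refine ⟨m, ?_⟩
    rw [key]
    rw [← Category.assoc] at hm
    exact hm

/-- injectivity of a trivialization over an object with a point -/
theorem IsTriv.injective {U : X.Etale} {M : AddCommGrpCat.{u + 1}} {t : M ⟶ F.obj.obj (op U)}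
    (h : IsTriv F U M t) (p : U.left) : Function.Injective t := by
  intro m m' hm
  rcases h.inj U (𝟙 U) m m' (by rw [hm]) with h1 | h1
  · exact h1
  · exact absurd h1 (bot_not_mem p)

/-! ### From an isomorphism with a constant sheaf to a trivialization -/

section ofIso

variable (U : X.Etale) (M : AddCommGrpCat.{u + 1})
  (β : (EtCoh.restr F U).obj ≅ sheafify (X.smallEtaleTopology.over U) (constPre U M))

/-- the trivializing homomorphism attached to an isomorphism with a constant sheaf -/
noncomputable def tOfIso : M ⟶ F.obj.obj (op U) := (theta F U M β).app (op (Over.mk (𝟙 U)))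

theorem isTriv_of_iso : IsTriv F U M (tOfIso F U M β) := by
  constructor
  · intro Y f m m' hm
    by_cases hmm : m = m'
    · exact Or.inl hmm
    · right
      have h1 : (theta F U M β).app (op (Over.mk f)) m = (theta F U M β).app (op (Over.mk f)) m' :=
        (theta_nat F U M β f m).trans (hm.trans (theta_nat F U M β f m').symm)
      have h2 := theta_locInj F U M β (Over.mk f) m m' h1
      rw [GrothendieckTopology.mem_over_iff] at h2
      refine X.smallEtaleTopology.superset_covering ?_ h2
      intro Z g hg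
      rw [Sieve.overEquiv_iff] at hg
      exact absurd hg hmm
  · intro Y f z
    have h2 := theta_locSurj F U M β (Over.mk f) z
    rw [GrothendieckTopology.mem_over_iff] at h2
    refine X.smallEtaleTopology.superset_covering ?_ h2
    intro Z g hg
    rw [Sieve.overEquiv_iff] at hg
    obtain ⟨m, hm⟩ := hg
    refine ⟨m, ?_⟩
    have h3 := theta_nat F U M β (g ≫ f) m
    exact h3.symm.trans hm

end ofIso

/-! ### From a trivialization to an isomorphism with a constant sheaf -/

section toIso

variable {U : X.Etale} {M : AddCommGrpCat.{u + 1}} (t : M ⟶ F.obj.obj (op U))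

/-- the map from the constant presheaf induced by `t` -/
noncomputable def tau : constPre U M ⟶ (EtCoh.restr F U).obj where
  app Y := t ≫ F.obj.map (Y.unop.hom).op
  naturality := by
    intro Y Y' g
    change 𝟙 M ≫ t ≫ F.obj.map (Y'.unop.hom).op =
      (t ≫ F.obj.map (Y.unop.hom).op) ≫ F.obj.map (g.unop.left).op
    rw [Category.id_comp, Category.assoc, ← F.obj.map_comp, ← op_comp, Over.w]

theorem tau_app (Y : Over U) (m : M) :
    (tau F t).app (op Y) m = F.obj.map (Y.hom).op (t m) := rfl

variable {F t}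

theorem isLocallyInjective_tau (h : IsTriv F U M t) :
    Presheaf.IsLocallyInjective (X.smallEtaleTopology.over U) (tau F t) := by
  constructor
  intro Y m m' hm
  rw [GrothendieckTopology.mem_over_iff]
  rcases h.inj Y.unop.left Y.unop.hom m m' hm with h1 | h1
  · subst h1
    refine X.smallEtaleTopology.superset_covering ?_ (X.smallEtaleTopology.top_mem _)
    intro Z g _
    rw [Sieve.overEquiv_iff]
    rfl
  · exact X.smallEtaleTopology.superset_covering bot_le h1

theorem isLocallySurjective_tau (h : IsTriv F U M t) :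
    Presheaf.IsLocallySurjective (X.smallEtaleTopology.over U) (tau F t) := by
  constructor
  intro Y z
  rw [GrothendieckTopology.mem_over_iff]
  refine X.smallEtaleTopology.superset_covering ?_ (h.surj Y.left Y.hom z)
  rintro Z g ⟨m, hm⟩
  rw [Sieve.overEquiv_iff]
  exact ⟨m, hm⟩

variable (F t)

/-- the morphism from the constant sheaf induced by `t` -/
noncomputable def psi :
    (constantSheaf (X.smallEtaleTopology.over U) AddCommGrpCat.{u + 1}).obj M ⟶ EtCoh.restr F U :=
  ⟨sheafifyLift (X.smallEtaleTopology.over U) (tau F t) (EtCoh.restr F U).property⟩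

theorem toSheafify_psi :
    toSheafify (X.smallEtaleTopology.over U) (constPre U M) ≫ (psi F t).hom = tau F t :=
  toSheafify_sheafifyLift _ _ _

variable {F t}

theorem isIso_psi (h : IsTriv F U M t) : IsIso (psi F t) := by
  haveI := isLocallyInjective_tau h
  haveI := isLocallySurjective_tau h
  have hW : (X.smallEtaleTopology.over U).W (tau F t) :=
    GrothendieckTopology.W_of_isLocallyBijective _ _
  have h1 : IsIso ((presheafToSheaf (X.smallEtaleTopology.over U) AddCommGrpCat.{u + 1}).map (tau F t)) :=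
    ((X.smallEtaleTopology.over U).W_iff (tau F t)).1 hW
  have h2 : psi F t = (presheafToSheaf (X.smallEtaleTopology.over U) AddCommGrpCat.{u + 1}).map (tau F t) ≫
      (sheafificationAdjunction (X.smallEtaleTopology.over U) AddCommGrpCat.{u + 1}).counit.app (EtCoh.restr F U) := by
    apply Sheaf.hom_ext
    change sheafifyLift _ _ _ = sheafifyMap _ _ ≫ _
    rw [sheafificationAdjunction_counit_app_val, sheafifyMap_sheafifyLift, Category.comp_id]
  rw [h2]
  exact @IsIso.comp_isIso _ _ _ _ _ _ _ h1 inferInstance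

/-- the isomorphism with the constant sheaf attached to a trivialization -/
noncomputable def isoOfTriv (h : IsTriv F U M t) :
    EtCoh.restr F U ≅ (constantSheaf (X.smallEtaleTopology.over U) AddCommGrpCat.{u + 1}).obj M :=
  haveI := isIso_psi h
  (asIso (psi F t)).symm

theorem isoOfTriv_inv (h : IsTriv F U M t) : (isoOfTriv h).inv = psi F t := rfl

end toIso

/-! ### Morphisms between trivialized sheaves -/

section morphisms

variable {F} {G : Sheaf X.smallEtaleTopology AddCommGrpCat.{u + 1}} (φ : F ⟶ G)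
  {U : X.Etale} {M N : AddCommGrpCat.{u + 1}} (t : M ⟶ F.obj.obj (op U)) (s : N ⟶ G.obj.obj (op U))
  (h : M ⟶ N)

theorem tau_comp (w : t ≫ φ.hom.app (op U) = h ≫ s) :
    tau F t ≫ ((X.smallEtaleTopology.overPullback AddCommGrpCat.{u + 1} U).map φ).hom =
      (Functor.const _).map h ≫ tau G s := by
  ext Y : 2
  have n := φ.hom.naturality (Y.unop.hom).op
  calc (t ≫ F.obj.map (Y.unop.hom).op) ≫ φ.hom.app (op Y.unop.left)
      = t ≫ (F.obj.map (Y.unop.hom).op ≫ φ.hom.app (op Y.unop.left)) := Category.assoc _ _ _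
    _ = t ≫ (φ.hom.app (op U) ≫ G.obj.map (Y.unop.hom).op) := congrArg (t ≫ ·) n
    _ = (t ≫ φ.hom.app (op U)) ≫ G.obj.map (Y.unop.hom).op := (Category.assoc _ _ _).symm
    _ = (h ≫ s) ≫ G.obj.map (Y.unop.hom).op := congrArg (· ≫ G.obj.map (Y.unop.hom).op) w
    _ = h ≫ (s ≫ G.obj.map (Y.unop.hom).op) := Category.assoc _ _ _

theorem psi_comp (w : t ≫ φ.hom.app (op U) = h ≫ s) :
    psi F t ≫ (X.smallEtaleTopology.overPullback AddCommGrpCat.{u + 1} U).map φ =
      (constantSheaf (X.smallEtaleTopology.over U) AddCommGrpCat.{u + 1}).map h ≫ psi G s := by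
  apply Sheaf.hom_ext
  refine sheafify_hom_ext _ _ _ (EtCoh.restr G U).property ?_
  have e1 := toSheafify_psi F t
  have e2 := toSheafify_psi G s
  have e3 := toSheafify_naturality (X.smallEtaleTopology.over U)
    ((Functor.const (Over U)ᵒᵖ).map h : constPre U M ⟶ constPre U N)
  let φ' := ((X.smallEtaleTopology.overPullback AddCommGrpCat.{u + 1} U).map φ).hom
  calc toSheafify (X.smallEtaleTopology.over U) (constPre U M) ≫ (psi F t).hom ≫ φ'
      = (toSheafify (X.smallEtaleTopology.over U) (constPre U M) ≫ (psi F t).hom) ≫ φ' :=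
        (Category.assoc _ _ _).symm
    _ = tau F t ≫ φ' := congrArg (· ≫ φ') e1
    _ = (Functor.const _).map h ≫ tau G s := tau_comp φ t s h w
    _ = (Functor.const _).map h ≫
          (toSheafify (X.smallEtaleTopology.over U) (constPre U N) ≫ (psi G s).hom) :=
        (congrArg ((Functor.const _).map h ≫ ·) e2).symm
    _ = ((Functor.const _).map h ≫ toSheafify (X.smallEtaleTopology.over U) (constPre U N)) ≫
          (psi G s).hom := (Category.assoc _ _ _).symm
    _ = (toSheafify (X.smallEtaleTopology.over U) (constPre U M) ≫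
          sheafifyMap (X.smallEtaleTopology.over U) ((Functor.const (Over U)ᵒᵖ).map h)) ≫
          (psi G s).hom := congrArg (· ≫ (psi G s).hom) e3
    _ = _ := Category.assoc _ _ _

theorem isoOfTriv_comp (ht : IsTriv F U M t) (hs : IsTriv G U N s)
    (w : t ≫ φ.hom.app (op U) = h ≫ s) :
    (X.smallEtaleTopology.overPullback AddCommGrpCat.{u + 1} U).map φ ≫ (isoOfTriv hs).hom =
      (isoOfTriv ht).hom ≫
        (constantSheaf (X.smallEtaleTopology.over U) AddCommGrpCat.{u + 1}).map h := by
  rw [← cancel_epi (isoOfTriv ht).inv, Iso.inv_hom_id_assoc, ← cancel_mono (isoOfTriv hs).inv,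
    Category.assoc, Category.assoc, Iso.hom_inv_id, Category.comp_id, isoOfTriv_inv, isoOfTriv_inv]
  exact psi_comp φ t s h w

end morphisms

/-! ### Common refinements -/

/-- a common étale refinement of two étale neighbourhoods of a point -/
theorem exists_common (U V : X.Etale) (u : U.left) (v : V.left)
    (huv : U.hom.base u = V.hom.base v) :
    ∃ (W : X.Etale) (a : W ⟶ U) (b : W ⟶ V) (w : W.left),
      a.left.base w = u ∧ b.left.base w = v := by
  haveI : Etale U.hom := U.prop
  haveI : Etale V.hom := V.prop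
  obtain ⟨w, hw1, hw2⟩ := Scheme.Pullback.exists_preimage_pullback (f := U.hom) (g := V.hom) u v huv
  let W : X.Etale := Scheme.Etale.mk (pullback.fst U.hom V.hom ≫ U.hom)
  let a : W ⟶ U := MorphismProperty.Over.homMk
    (show W.left ⟶ U.left from pullback.fst U.hom V.hom) rfl trivial
  let b : W ⟶ V := MorphismProperty.Over.homMk
    (show W.left ⟶ V.left from pullback.snd U.hom V.hom) pullback.condition.symm trivial
  exact ⟨W, a, b, w, hw1, hw2⟩

/-- finite intersections of covering sieves are covering -/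
theorem iInf_mem {C : Type*} [Category* C] (J : GrothendieckTopology C) {U : C}
    (ι : Type*) [Finite ι] : ∀ (S : ι → Sieve U), (∀ i, S i ∈ J U) → (⨅ i, S i) ∈ J U := by
  refine Finite.induction_empty_option (P := fun ι => ∀ (S : ι → Sieve U), (∀ i, S i ∈ J U) →
    (⨅ i, S i) ∈ J U) ?_ ?_ ?_ ι
  · intro α β e hα S hS
    have := hα (fun a => S (e a)) (fun a => hS _)
    rwa [e.iInf_comp] at this
  · intro S _
    rw [iInf_of_empty]
    exact J.top_mem U
  · intro α _ hα S hS
    rw [iInf_option]
    exact J.intersection_covering (hS none) (hα _ fun a => hS _)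

theorem iInf_apply {C : Type*} [Category* C] {U Y : C} {ι : Type*} (S : ι → Sieve U) (f : Y ⟶ U) :
    (⨅ i, S i) f ↔ ∀ i, S i f := by
  rw [iInf, Sieve.sInf_apply]
  constructor
  · intro h i
    exact h _ ⟨i, rfl⟩
  · rintro h _ ⟨i, rfl⟩
    exact h i

/-! ### A map from a finite trivialized sheaf to a trivialized sheaf is locally constant -/

theorem exists_hom_local {F} {G : Sheaf X.smallEtaleTopology AddCommGrpCat.{u + 1}} (φ : F ⟶ G)
    {U : X.Etale} {M N : AddCommGrpCat.{u + 1}} [Finite M]
    {t : M ⟶ F.obj.obj (op U)} {s : N ⟶ G.obj.obj (op U)}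
    (ht : IsTriv F U M t) (hs : IsTriv G U N s) (u : U.left) :
    ∃ (Z : X.Etale) (g : Z ⟶ U) (z : Z.left) (h : M ⟶ N), g.left.base z = u ∧
      (t ≫ F.obj.map g.op) ≫ φ.hom.app (op Z) = h ≫ (s ≫ G.obj.map g.op) := by
  let S : M → Sieve U := fun m => imgSieve G s (𝟙 U) (φ.hom.app (op U) (t m))
  have hS : (⨅ m, S m) ∈ X.smallEtaleTopology U :=
    iInf_mem _ M S fun m => hs.surj U (𝟙 U) _
  obtain ⟨Z, g, hg, z, hz⟩ := exists_mem_range_of_mem hS u
  rw [iInf_apply] at hg
  choose hfun hh using hg
  have hs' := hs.restrict G g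
  have hinj := hs'.injective G z
  have key : ∀ m : M, (s ≫ G.obj.map g.op) (hfun m) =
      φ.hom.app (op Z) ((t ≫ F.obj.map g.op) m) := by
    intro m
    have h1 := hh m
    rw [Category.comp_id] at h1
    have h2 := NatTrans.naturality_apply φ.hom g.op (t m)
    rw [ConcreteCategory.comp_apply, ConcreteCategory.comp_apply]
    exact h1.trans h2.symm
  have hadd : ∀ m m' : M, hfun (m + m') = hfun m + hfun m' := by
    intro m m'
    apply hinj
    rw [key, map_add, map_add, map_add, key, key]
  let h : M ⟶ N := AddCommGrpCat.ofHom (AddMonoidHom.mk' hfun hadd)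
  refine ⟨Z, g, z, h, hz, ?_⟩
  ext m
  exact (key m).symm

end Groth.Agent.Lib.T2H8.LocTriv
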