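import Mathlib
import Groth.Prelude.Def_EtBase
import Groth.Agent.Lib.T2H8LocTriv

/-!
# Exact sequences of abelian étale sheaves and local trivializations:
kernels and cokernels of maps between trivialized sheaves
-/

set_option autoImplicit false
set_option linter.unusedSectionVars false
set_option linter.style.haveILetI false
universe u
open CategoryTheory CategoryTheory.Limits Opposite AlgebraicGeometry

namespace Groth.Agent.Lib.T2H8.LocTrivExact
open Groth.Agent.Lib.T2H8.FLC Groth.Agent.Lib.T2H8.LocTriv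

variable {X : Scheme.{u}}

/-- the sections functor -/
noncomputable abbrev secF (Y : X.Etale) :
    Sheaf X.smallEtaleTopology AddCommGrpCat.{u + 1} ⥤ AddCommGrpCat.{u + 1} :=
  sheafToPresheaf _ _ ⋙ (evaluation _ _).obj (op Y)

variable (S : ShortComplex (Sheaf X.smallEtaleTopology AddCommGrpCat.{u + 1}))

theorem f_injective [Mono S.f] (Y : X.Etale) : Function.Injective (S.f.hom.app (op Y)) := by
  have : Mono ((secF Y).map S.f) := inferInstance
  exact (AddCommGrpCat.mono_iff_injective ((secF Y).map S.f)).1 this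

/-- (L1) left exactness on sections -/
theorem exists_lift (hS : S.Exact) [Mono S.f] (Y : X.Etale) (y : S.X₂.obj.obj (op Y))
    (hy : S.g.hom.app (op Y) y = 0) : ∃ x : S.X₁.obj.obj (op Y), S.f.hom.app (op Y) x = y := by
  have h1 : (S.map (secF Y)).Exact :=
    hS.map_of_mono_of_preservesKernel (secF Y) inferInstance inferInstance
  exact (ShortComplex.ab_exact_iff _).1 h1 y hy

/-- (L3) local surjectivity of an epimorphism -/
theorem imageSieve_mem_of_epi {F G : Sheaf X.smallEtaleTopology AddCommGrpCat.{u + 1}} (q : F ⟶ G)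
    [Epi q] (Y : X.Etale) (c : G.obj.obj (op Y)) :
    Presheaf.imageSieve q.hom c ∈ X.smallEtaleTopology Y := by
  have hloc : Sheaf.IsLocallySurjective q :=
    (Sheaf.isLocallySurjective_iff_epi' AddCommGrpCat.{u + 1} q).2 inferInstance
  exact hloc.imageSieve_mem c

/-- the sieve of local lifts along `S.f` -/
def liftSieve {Y : X.Etale} (y : S.X₂.obj.obj (op Y)) : Sieve Y where
  arrows Z g := ∃ x : S.X₁.obj.obj (op Z), S.f.hom.app (op Z) x = S.X₂.obj.map g.op y
  downward_closed := by
    rintro Z Z' g ⟨x, hx⟩ k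
    refine ⟨S.X₁.obj.map k.op x, ?_⟩
    have n := NatTrans.naturality_apply S.f.hom k.op x
    rw [n, hx, map_map_apply]

/-- (L2) local exactness -/
theorem liftSieve_mem (hS : S.Exact) (Y : X.Etale) (y : S.X₂.obj.obj (op Y))
    (hy : S.g.hom.app (op Y) y = 0) : liftSieve S y ∈ X.smallEtaleTopology Y := by
  let S' : ShortComplex (Sheaf X.smallEtaleTopology AddCommGrpCat.{u + 1}) :=
    ShortComplex.mk (kernel.ι S.g) S.g (kernel.condition S.g)
  have hS' : S'.Exact := ShortComplex.exact_kernel S.g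
  haveI : Mono S'.f := inferInstanceAs (Mono (kernel.ι S.g))
  obtain ⟨k, hk⟩ := exists_lift S' hS' Y y hy
  let e := kernel.lift S.g S.f S.zero
  haveI : Epi e := (ShortComplex.exact_iff_epi_kernel_lift S).mp hS
  have he : e ≫ kernel.ι S.g = S.f := kernel.lift_ι _ _ _
  refine X.smallEtaleTopology.superset_covering ?_ (imageSieve_mem_of_epi e Y k)
  rintro Z g ⟨x, hx⟩
  refine ⟨x, ?_⟩
  have h1 : S.f.hom.app (op Z) x = (kernel.ι S.g).hom.app (op Z) (e.hom.app (op Z) x) := by
    rw [← he]
    rfl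
  rw [h1, hx]
  have n := NatTrans.naturality_apply (kernel.ι S.g).hom g.op k
  rw [n, hk]

theorem zero_apply {Y : X.Etale} (z : S.X₁.obj.obj (op Y)) :
    S.g.hom.app (op Y) (S.f.hom.app (op Y) z) = 0 := by
  have z1 : (S.f ≫ S.g).hom.app (op Y) z = 0 := by
    rw [S.zero]
    rfl
  exact z1

/-- every sieve on an "empty" object is covering -/
theorem mem_of_bot_mem {Y : X.Etale} (h : (⊥ : Sieve Y) ∈ X.smallEtaleTopology Y) (R : Sieve Y) :
    R ∈ X.smallEtaleTopology Y :=
  X.smallEtaleTopology.superset_covering bot_le h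

/-- a sieve containing `g` pulls back along `g` to a covering sieve -/
theorem pullback_mem_of_mem {Y Z : X.Etale} (R : Sieve Y) (g : Z ⟶ Y) (hg : R g) :
    R.pullback g ∈ X.smallEtaleTopology Z := by
  rw [Sieve.pullback_eq_top_of_mem R hg]
  exact X.smallEtaleTopology.top_mem Z

/-! ### Kernels -/

section kernel

variable {S} (hS : S.Exact) [Mono S.f] {U : X.Etale} {M N : AddCommGrpCat.{u + 1}}
  {t : M ⟶ S.X₂.obj.obj (op U)} {s : N ⟶ S.X₃.obj.obj (op U)} {h : M ⟶ N}
  (ht : IsTriv S.X₂ U M t) (hs : IsTriv S.X₃ U N s) (w : t ≫ S.g.hom.app (op U) = h ≫ s)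

include hS w in
theorem ker_lift (m : h.hom.ker) : ∃ x : S.X₁.obj.obj (op U), S.f.hom.app (op U) x = t m.1 := by
  apply exists_lift S hS U
  have h1 : S.g.hom.app (op U) (t m.1) = s (h m.1) := by
    rw [← ConcreteCategory.comp_apply, w, ConcreteCategory.comp_apply]
  rw [h1]
  have h2 : h m.1 = 0 := m.2
  rw [h2, map_zero]

/-- the trivializing map of the kernel -/
noncomputable def tKer : AddCommGrpCat.of h.hom.ker ⟶ S.X₁.obj.obj (op U) :=
  AddCommGrpCat.ofHom (AddMonoidHom.mk' (fun m => (ker_lift hS w m).choose) (by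
    intro m m'
    apply f_injective S U
    rw [map_add, (ker_lift hS w m).choose_spec, (ker_lift hS w m').choose_spec,
      (ker_lift hS w (m + m')).choose_spec]
    exact map_add t.hom m.1 m'.1))

theorem f_tKer (m : h.hom.ker) : S.f.hom.app (op U) (tKer hS w m) = t m.1 :=
  (ker_lift hS w m).choose_spec

include ht hs in
theorem isTriv_ker : IsTriv S.X₁ U (AddCommGrpCat.of h.hom.ker) (tKer hS w) := by
  have key : ∀ (Y : X.Etale) (f' : Y ⟶ U) (m : h.hom.ker),
      S.f.hom.app (op Y) (S.X₁.obj.map f'.op (tKer hS w m)) = S.X₂.obj.map f'.op (t m.1) := by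
    intro Y f' m
    have n := NatTrans.naturality_apply S.f.hom f'.op (tKer hS w m)
    rw [n, f_tKer]
  constructor
  · intro Y f' m m' hm
    have h1 := congrArg (S.f.hom.app (op Y)) hm
    rw [key, key] at h1
    rcases ht.inj Y f' m.1 m'.1 h1 with h2 | h2
    · exact Or.inl (Subtype.ext h2)
    · exact Or.inr h2
  · intro Y f' z
    refine X.smallEtaleTopology.transitive (ht.surj Y f' (S.f.hom.app (op Y) z)) _ ?_
    rintro Z g ⟨m, hm⟩
    -- `h m` vanishes locally
    have h3 : S.X₃.obj.map (g ≫ f').op (s (h m)) = S.X₃.obj.map (g ≫ f').op (s 0) := by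
      have h4 : s (h m) = S.g.hom.app (op U) (t m) := by
        rw [← ConcreteCategory.comp_apply, ← w, ConcreteCategory.comp_apply]
      have n1 := NatTrans.naturality_apply S.g.hom (g ≫ f').op (t m)
      have n2 := NatTrans.naturality_apply S.g.hom g.op (S.f.hom.app (op Y) z)
      have h5 : S.g.hom.app (op Y) (S.f.hom.app (op Y) z) = 0 := zero_apply S z
      rw [h4, ← n1, hm, n2, h5, map_zero, map_zero, map_zero]
    rcases hs.inj Z (g ≫ f') (h m) 0 h3 with h6 | h6
    · apply pullback_mem_of_mem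
      refine ⟨⟨m, h6⟩, ?_⟩
      apply f_injective S Z
      rw [key]
      have n3 := NatTrans.naturality_apply S.f.hom g.op z
      rw [n3]
      exact hm
    · exact mem_of_bot_mem h6 _

end kernel

/-! ### Cokernels -/

section cokernel

variable {S} (hS : S.Exact) [Epi S.g] {U : X.Etale} {M N : AddCommGrpCat.{u + 1}}
  {t : M ⟶ S.X₁.obj.obj (op U)} {s : N ⟶ S.X₂.obj.obj (op U)} {h : M ⟶ N}
  (ht : IsTriv S.X₁ U M t) (hs : IsTriv S.X₂ U N s) (w : t ≫ S.f.hom.app (op U) = h ≫ s)

include w in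
theorem range_le_ker :
    h.hom.range ≤ ((S.g.hom.app (op U)).hom.comp s.hom).ker := by
  rintro _ ⟨m, rfl⟩
  change S.g.hom.app (op U) (s (h m)) = 0
  have h1 : s (h m) = S.f.hom.app (op U) (t m) := by
    rw [← ConcreteCategory.comp_apply, ← w, ConcreteCategory.comp_apply]
  rw [h1, zero_apply]

/-- the trivializing map of the cokernel -/
noncomputable def tCoker : AddCommGrpCat.of (N ⧸ h.hom.range) ⟶ S.X₃.obj.obj (op U) :=
  AddCommGrpCat.ofHom (QuotientAddGroup.lift h.hom.range
    ((S.g.hom.app (op U)).hom.comp s.hom) (range_le_ker w))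

theorem tCoker_mk (n : N) :
    tCoker w (QuotientAddGroup.mk n : N ⧸ h.hom.range) = S.g.hom.app (op U) (s n) := rfl

include hS ht hs in
theorem isTriv_coker : IsTriv S.X₃ U (AddCommGrpCat.of (N ⧸ h.hom.range)) (tCoker w) := by
  have key : ∀ (Y : X.Etale) (f' : Y ⟶ U) (n : N),
      S.X₃.obj.map f'.op (tCoker w (QuotientAddGroup.mk n : N ⧸ h.hom.range)) =
        S.g.hom.app (op Y) (S.X₂.obj.map f'.op (s n)) := by
    intro Y f' n
    rw [tCoker_mk]
    exact (NatTrans.naturality_apply S.g.hom f'.op (s n)).symm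
  constructor
  · intro Y f' a a' haa
    obtain ⟨n, rfl⟩ := QuotientAddGroup.mk_surjective a
    obtain ⟨n', rfl⟩ := QuotientAddGroup.mk_surjective a'
    by_cases hnn : (QuotientAddGroup.mk n : N ⧸ h.hom.range) = QuotientAddGroup.mk n'
    · exact Or.inl hnn
    right
    rw [key, key] at haa
    have h0 : S.g.hom.app (op Y) (S.X₂.obj.map f'.op (s (n - n'))) = 0 := by
      rw [map_sub, map_sub, map_sub, haa, sub_self]
    refine X.smallEtaleTopology.transitive (liftSieve_mem S hS Y _ h0) _ ?_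
    rintro Z g ⟨x, hx⟩
    refine X.smallEtaleTopology.transitive (ht.surj Z (g ≫ f') x) _ ?_
    rintro Z' k ⟨m, hm⟩
    have h3 : S.X₂.obj.map (k ≫ g ≫ f').op (s (h m)) = S.X₂.obj.map (k ≫ g ≫ f').op (s (n - n')) := by
      have h4 : s (h m) = S.f.hom.app (op U) (t m) := by
        rw [← ConcreteCategory.comp_apply, ← w, ConcreteCategory.comp_apply]
      have n1 := NatTrans.naturality_apply S.f.hom (k ≫ g ≫ f').op (t m)
      have n2 := NatTrans.naturality_apply S.f.hom k.op x
      rw [h4, ← n1, hm, n2, hx, map_map_apply, map_map_apply, Category.assoc]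
    rcases hs.inj Z' (k ≫ g ≫ f') (h m) (n - n') h3 with h6 | h6
    · exfalso
      apply hnn
      rw [QuotientAddGroup.eq_iff_sub_mem, ← h6]
      exact ⟨m, rfl⟩
    · exact mem_of_bot_mem h6 _
  · intro Y f' c
    refine X.smallEtaleTopology.transitive (imageSieve_mem_of_epi S.g Y c) _ ?_
    rintro Z g ⟨y, hy⟩
    refine X.smallEtaleTopology.superset_covering ?_ (hs.surj Z (g ≫ f') y)
    rintro Z' k ⟨n, hn⟩
    refine ⟨(QuotientAddGroup.mk n : N ⧸ h.hom.range), ?_⟩
    rw [key, Category.assoc, hn]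
    have n2 := NatTrans.naturality_apply S.g.hom k.op y
    rw [n2, hy, map_map_apply]

end cokernel

end Groth.Agent.Lib.T2H8.LocTrivExact
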