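import Mathlib
import Groth.Prelude.Def_EtBase
import Groth.Agent.Lib.T2H8LocTrivExact

/-!
# Extensions of finite trivialized abelian étale sheaves are locally trivialized
-/

set_option autoImplicit false
set_option linter.unusedSectionVars false
set_option linter.style.haveILetI false
universe u
open CategoryTheory CategoryTheory.Limits Opposite AlgebraicGeometry

namespace Groth.Agent.Lib.T2H8.LocTrivExt
open Groth.Agent.Lib.T2H8.FLC Groth.Agent.Lib.T2H8.LocTriv Groth.Agent.Lib.T2H8.LocTrivExact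

variable {X : Scheme.{u}}
variable {S : ShortComplex (Sheaf X.smallEtaleTopology AddCommGrpCat.{u + 1})}

section core

variable (hS : S.ShortExact) {Z : X.Etale} {M' M'' : AddCommGrpCat.{u + 1}}
  {t' : M' ⟶ S.X₁.obj.obj (op Z)} {t'' : M'' ⟶ S.X₃.obj.obj (op Z)}
  (ht' : IsTriv S.X₁ Z M' t') (ht'' : IsTriv S.X₃ Z M'' t'')
  (σ : M'' → S.X₂.obj.obj (op Z)) (hσ : ∀ b, S.g.hom.app (op Z) (σ b) = t'' b) (hσ0 : σ 0 = 0)
  (c : M'' → M'' → M')
  (hc : ∀ b b', σ b + σ b' - σ (b + b') = S.f.hom.app (op Z) (t' (c b b')))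

/-- the parametrization of the extension group -/
def Phi (t' : M' ⟶ S.X₁.obj.obj (op Z)) (σ : M'' → S.X₂.obj.obj (op Z)) (p : M' × M'') :
    S.X₂.obj.obj (op Z) :=
  S.f.hom.app (op Z) (t' p.1) + σ p.2

include hσ0 hc in
/-- the extension group as a subgroup of the sections -/
def extGroup : AddSubgroup (S.X₂.obj.obj (op Z)) where
  carrier := Set.range (Phi t' σ)
  zero_mem' := ⟨(0, 0), by simp [Phi, hσ0]⟩
  add_mem' := by
    rintro _ _ ⟨⟨a, b⟩, rfl⟩ ⟨⟨a', b'⟩, rfl⟩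
    refine ⟨(a + a' + c b b', b + b'), ?_⟩
    simp only [Phi, map_add]
    rw [← hc b b']
    abel
  neg_mem' := by
    rintro _ ⟨⟨a, b⟩, rfl⟩
    refine ⟨(-a - c b (-b), -b), ?_⟩
    simp only [Phi, map_sub, map_neg]
    rw [← hc b (-b), add_neg_cancel, hσ0]
    abel

theorem finite_extGroup [Finite M'] [Finite M''] : Finite (extGroup σ hσ0 c hc) := by
  have : Set.Finite (Set.range (Phi t' σ)) := Set.finite_range _
  exact this.to_subtype

/-- the inclusion of the extension group -/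
noncomputable def tExt : AddCommGrpCat.of (extGroup σ hσ0 c hc) ⟶ S.X₂.obj.obj (op Z) :=
  AddCommGrpCat.ofHom (extGroup σ hσ0 c hc).subtype

include hS ht' ht'' hσ in
theorem isTriv_ext :
    IsTriv S.X₂ Z (AddCommGrpCat.of (extGroup σ hσ0 c hc)) (tExt σ hσ0 c hc) := by
  haveI : Mono S.f := hS.mono_f
  haveI : Epi S.g := hS.epi_g
  have hex : S.Exact := hS.exact
  -- restriction of `Phi`
  have hPhi : ∀ (Y : X.Etale) (f' : Y ⟶ Z) (a : M') (b : M''),
      S.X₂.obj.map f'.op (Phi t' σ (a, b)) =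
        S.f.hom.app (op Y) (S.X₁.obj.map f'.op (t' a)) + S.X₂.obj.map f'.op (σ b) := by
    intro Y f' a b
    have n := NatTrans.naturality_apply S.f.hom f'.op (t' a)
    simp only [Phi, map_add]
    rw [n]
  have hgσ : ∀ (Y : X.Etale) (f' : Y ⟶ Z) (b : M''),
      S.g.hom.app (op Y) (S.X₂.obj.map f'.op (σ b)) = S.X₃.obj.map f'.op (t'' b) := by
    intro Y f' b
    have n := NatTrans.naturality_apply S.g.hom f'.op (σ b)
    rw [n, hσ]
  -- vanishing of an element of the extension group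
  have hzero : ∀ (Y : X.Etale) (f' : Y ⟶ Z) (a : M') (b : M''),
      S.X₂.obj.map f'.op (Phi t' σ (a, b)) = 0 →
        Phi t' σ (a, b) = 0 ∨ (⊥ : Sieve Y) ∈ X.smallEtaleTopology Y := by
    intro Y f' a b h0
    have h1 : S.X₃.obj.map f'.op (t'' b) = S.X₃.obj.map f'.op (t'' 0) := by
      have h2 := congrArg (S.g.hom.app (op Y)) h0
      rw [hPhi, map_add, zero_apply, zero_add, hgσ, map_zero] at h2
      rw [h2, map_zero, map_zero]
    rcases ht''.inj Y f' b 0 h1 with hb | hb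
    · subst hb
      rw [hPhi, hσ0, map_zero, add_zero] at h0
      have h3 : S.X₁.obj.map f'.op (t' a) = S.X₁.obj.map f'.op (t' 0) := by
        apply f_injective S Y
        rw [h0, map_zero, map_zero, map_zero]
      rcases ht'.inj Y f' a 0 h3 with ha | ha
      · subst ha
        left
        simp [Phi, hσ0]
      · exact Or.inr ha
    · exact Or.inr hb
  constructor
  · rintro Y f' e e' hee
    obtain ⟨⟨a, b⟩, hab⟩ := (e - e').2
    have h0 : S.X₂.obj.map f'.op (Phi t' σ (a, b)) = 0 := by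
      rw [hab]
      change S.X₂.obj.map f'.op ((e : S.X₂.obj.obj (op Z)) - (e' : S.X₂.obj.obj (op Z))) = 0
      rw [map_sub]
      exact sub_eq_zero.2 hee
    rcases hzero Y f' a b h0 with h1 | h1
    · left
      rw [hab] at h1
      exact sub_eq_zero.1 (Subtype.ext h1)
    · exact Or.inr h1
  · intro Y f' y
    refine X.smallEtaleTopology.transitive (ht''.surj Y f' (S.g.hom.app (op Y) y)) _ ?_
    rintro Y₁ k ⟨b, hb⟩
    let y' : S.X₂.obj.obj (op Y₁) := S.X₂.obj.map k.op y - S.X₂.obj.map (k ≫ f').op (σ b)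
    have hy' : S.g.hom.app (op Y₁) y' = 0 := by
      have n := NatTrans.naturality_apply S.g.hom k.op y
      simp only [y', map_sub]
      rw [hgσ, n, hb, sub_self]
    obtain ⟨x, hx⟩ := exists_lift S hex Y₁ y' hy'
    refine X.smallEtaleTopology.superset_covering ?_ (ht'.surj Y₁ (k ≫ f') x)
    rintro Y₂ l ⟨a, ha⟩
    refine ⟨⟨Phi t' σ (a, b), ⟨(a, b), rfl⟩⟩, ?_⟩
    change S.X₂.obj.map ((l ≫ k) ≫ f').op (Phi t' σ (a, b)) = S.X₂.obj.map (l ≫ k).op y
    rw [hPhi, Category.assoc, ha]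
    have n := NatTrans.naturality_apply S.f.hom l.op x
    rw [n, hx]
    simp only [y', map_sub]
    rw [map_map_apply, map_map_apply]
    abel

end core

open Classical in
/-- an extension of finite trivialized sheaves is locally trivialized by a finite group -/
theorem exists_ext_local (hS : S.ShortExact) {U : X.Etale} {M' M'' : AddCommGrpCat.{u + 1}}
    [Finite M'] [Finite M'']
    {t' : M' ⟶ S.X₁.obj.obj (op U)} {t'' : M'' ⟶ S.X₃.obj.obj (op U)}
    (ht' : IsTriv S.X₁ U M' t') (ht'' : IsTriv S.X₃ U M'' t'') (u : U.left) :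
    ∃ (Z : X.Etale) (g : Z ⟶ U) (z : Z.left) (E : AddCommGrpCat.{u + 1}) (_ : Finite E)
      (tE : E ⟶ S.X₂.obj.obj (op Z)), g.left.base z = u ∧ IsTriv S.X₂ Z E tE := by
  haveI : Mono S.f := hS.mono_f
  haveI : Epi S.g := hS.epi_g
  have hex : S.Exact := hS.exact
  -- Step 1: lifts of the constant sections of the quotient
  have hR : (⨅ b : M'', Presheaf.imageSieve S.g.hom (t'' b)) ∈ X.smallEtaleTopology U :=
    iInf_mem _ M'' _ fun b => imageSieve_mem_of_epi S.g U (t'' b)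
  obtain ⟨Z₁, g₁, hg₁, z₁, hz₁⟩ := exists_mem_range_of_mem hR u
  rw [LocTriv.iInf_apply] at hg₁
  choose σ₀ hσ₀ using hg₁
  let σ₁ : M'' → S.X₂.obj.obj (op Z₁) := fun b => if b = 0 then 0 else σ₀ b
  let t'₁ : M' ⟶ S.X₁.obj.obj (op Z₁) := t' ≫ S.X₁.obj.map g₁.op
  let t''₁ : M'' ⟶ S.X₃.obj.obj (op Z₁) := t'' ≫ S.X₃.obj.map g₁.op
  have ht'₁ : IsTriv S.X₁ Z₁ M' t'₁ := ht'.restrict _ g₁
  have ht''₁ : IsTriv S.X₃ Z₁ M'' t''₁ := ht''.restrict _ g₁
  have hσ₁ : ∀ b, S.g.hom.app (op Z₁) (σ₁ b) = t''₁ b := by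
    intro b
    by_cases hb : b = 0
    · subst hb
      simp only [σ₁, if_true, map_zero]
    · simp only [σ₁, if_neg hb]
      exact hσ₀ b
  have hσ₁0 : σ₁ 0 = 0 := by simp only [σ₁, if_true]
  -- Step 2: the cocycle
  have hd : ∀ p : M'' × M'', S.g.hom.app (op Z₁) (σ₁ p.1 + σ₁ p.2 - σ₁ (p.1 + p.2)) = 0 := by
    intro p
    rw [map_sub, map_add, hσ₁, hσ₁, hσ₁, map_add, sub_self]
  have hy : ∀ p : M'' × M'', ∃ y : S.X₁.obj.obj (op Z₁),
      S.f.hom.app (op Z₁) y = σ₁ p.1 + σ₁ p.2 - σ₁ (p.1 + p.2) :=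
    fun p => exists_lift S hex Z₁ _ (hd p)
  choose y hy using hy
  have hR₂ : (⨅ p : M'' × M'', imgSieve S.X₁ t'₁ (𝟙 Z₁) (y p)) ∈ X.smallEtaleTopology Z₁ :=
    iInf_mem _ (M'' × M'') _ fun p => ht'₁.surj Z₁ (𝟙 Z₁) (y p)
  obtain ⟨Z₂, g₂, hg₂, z₂, hz₂⟩ := exists_mem_range_of_mem hR₂ z₁
  rw [LocTriv.iInf_apply] at hg₂
  choose c hc using hg₂
  let σ₂ : M'' → S.X₂.obj.obj (op Z₂) := fun b => S.X₂.obj.map g₂.op (σ₁ b)
  let t'₂ : M' ⟶ S.X₁.obj.obj (op Z₂) := t'₁ ≫ S.X₁.obj.map g₂.op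
  let t''₂ : M'' ⟶ S.X₃.obj.obj (op Z₂) := t''₁ ≫ S.X₃.obj.map g₂.op
  have ht'₂ : IsTriv S.X₁ Z₂ M' t'₂ := ht'₁.restrict _ g₂
  have ht''₂ : IsTriv S.X₃ Z₂ M'' t''₂ := ht''₁.restrict _ g₂
  have hσ₂ : ∀ b, S.g.hom.app (op Z₂) (σ₂ b) = t''₂ b := by
    intro b
    have n := NatTrans.naturality_apply S.g.hom g₂.op (σ₁ b)
    simp only [σ₂]
    rw [n, hσ₁]
    rfl
  have hσ₂0 : σ₂ 0 = 0 := by
    simp only [σ₂]
    rw [hσ₁0, map_zero]
  have hc₂ : ∀ b b', σ₂ b + σ₂ b' - σ₂ (b + b') = S.f.hom.app (op Z₂) (t'₂ ((fun b b' => c (b, b')) b b')) := by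
    intro b b'
    have h1 := hc (b, b')
    rw [Category.comp_id] at h1
    have n := NatTrans.naturality_apply S.f.hom g₂.op (y (b, b'))
    have h2 : t'₂ (c (b, b')) = S.X₁.obj.map g₂.op (t'₁ (c (b, b'))) := rfl
    rw [h2, h1, n, hy]
    simp only [σ₂, map_sub, map_add]
  refine ⟨Z₂, g₂ ≫ g₁, z₂, AddCommGrpCat.of (extGroup σ₂ hσ₂0 _ hc₂),
    finite_extGroup σ₂ hσ₂0 _ hc₂, tExt σ₂ hσ₂0 _ hc₂, ?_,
    isTriv_ext hS ht'₂ ht''₂ σ₂ hσ₂ hσ₂0 _ hc₂⟩
  change g₁.left.base (g₂.left.base z₂) = u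
  rw [hz₂, hz₁]

end Groth.Agent.Lib.T2H8.LocTrivExt
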