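import Mathlib
import Groth.Prelude.Def_EtBase
import Groth.Agent.Lib.T2H8LocTrivExt

/-!
# Finite locally constant abelian étale sheaves form a weak Serre subcategory
-/

set_option autoImplicit false
set_option linter.unusedSectionVars false
set_option linter.style.haveILetI false
universe u
open CategoryTheory CategoryTheory.Limits Opposite AlgebraicGeometry

namespace Groth.Agent.Lib.T2H8.FLCSerre
open Groth.Agent.Lib.T2H8.FLC Groth.Agent.Lib.T2H8.LocTriv Groth.Agent.Lib.T2H8.LocTrivExact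
open Groth.Agent.Lib.T2H8.LocTrivExt

variable {X : Scheme.{u}}

/-- pointwise finite trivializations -/
def FinTrivAt (F : EtCoh.Ab X) (x : X) : Prop :=
  ∃ (U : X.Etale) (u : U.left), U.hom.base u = x ∧
    ∃ (M : AddCommGrpCat.{u + 1}) (_ : Finite M) (t : M ⟶ F.obj.obj (op U)), IsTriv F U M t

theorem finTrivAt_of_flc (F : EtCoh.Ab X) (hF : EtCoh.IsFiniteLocallyConstant F) (x : X) :
    FinTrivAt F x := by
  obtain ⟨ι, U, hU, hFU⟩ := hF
  obtain ⟨i, u, hu⟩ := hU x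
  obtain ⟨M₀, _, _, ⟨α⟩⟩ := hFU i
  have ht0 := isTriv_of_iso F (U i) _ ((sheafToPresheaf _ _).mapIso α)
  exact ⟨U i, u, hu, _, inferInstanceAs (Finite (ULift.{u + 1} M₀)), _, ht0⟩

theorem flc_of_finTrivAt (F : EtCoh.Ab X) (h : ∀ x, FinTrivAt F x) :
    EtCoh.IsFiniteLocallyConstant F := by
  choose U u hu M hM t ht using h
  refine ⟨X, U, fun x => ⟨x, u x, hu x⟩, fun x => ?_⟩
  haveI := hM x
  haveI : Finite (Shrink.{0} (M x)) := Finite.of_equiv _ (equivShrink.{0} (M x))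
  refine ⟨Shrink.{0} (M x), inferInstance, inferInstance, ⟨?_⟩⟩
  let e : M x ≅ AddCommGrpCat.of (ULift.{u + 1} (Shrink.{0} (M x))) :=
    (AddEquiv.ulift.trans (Shrink.addEquiv)).symm.toAddCommGrpIso
  exact isoOfTriv (ht x) ≪≫
    (constantSheaf (X.smallEtaleTopology.over (U x)) AddCommGrpCat.{u + 1}).mapIso e

/-- a common trivialization of a map of finite locally constant sheaves -/
theorem local_at_fin (F G : EtCoh.Ab X) (φ : F ⟶ G) (x : X)
    (hF : FinTrivAt F x) (hG : FinTrivAt G x) :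
    ∃ (Z : X.Etale) (z : Z.left), Z.hom.base z = x ∧
      ∃ (M N : AddCommGrpCat.{u + 1}) (_ : Finite M) (_ : Finite N) (h : M ⟶ N)
        (t : M ⟶ F.obj.obj (op Z)) (s : N ⟶ G.obj.obj (op Z)),
        IsTriv F Z M t ∧ IsTriv G Z N s ∧ t ≫ φ.hom.app (op Z) = h ≫ s := by
  obtain ⟨U, u, hu, M, hM, t, ht0⟩ := hF
  obtain ⟨V, v, hv, N, hN, s, hs0⟩ := hG
  obtain ⟨W, a, b, w, hwa, hwb⟩ := exists_common U V u v (hu.trans hv.symm)
  have ht := ht0.restrict F a
  have hs := hs0.restrict G b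
  obtain ⟨Z, g, z, h, hz, heq⟩ := exists_hom_local φ ht hs w
  refine ⟨Z, z, ?_, M, N, hM, hN, h, _, _, ht.restrict F g, hs.restrict G g, heq⟩
  have e1 : Z.hom = g.left ≫ W.hom := (MorphismProperty.Over.w g).symm
  have e2 : W.hom = a.left ≫ U.hom := (MorphismProperty.Over.w a).symm
  rw [e1, e2]
  change U.hom.base (a.left.base (g.left.base z)) = x
  rw [hz, hwa, hu]

theorem flc_kernel (F G : EtCoh.Ab X) (φ : F ⟶ G) (hF : EtCoh.IsFiniteLocallyConstant F)
    (hG : EtCoh.IsFiniteLocallyConstant G) : EtCoh.IsFiniteLocallyConstant (kernel φ) := by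
  apply flc_of_finTrivAt
  intro x
  obtain ⟨Z, z, hz, M, N, hM, hN, h, t, s, ht, hs, w⟩ :=
    local_at_fin F G φ x (finTrivAt_of_flc F hF x) (finTrivAt_of_flc G hG x)
  let S : ShortComplex (EtCoh.Ab X) := ShortComplex.mk (kernel.ι φ) φ (kernel.condition φ)
  have hS : S.Exact := ShortComplex.exact_kernel φ
  haveI : Mono S.f := inferInstanceAs (Mono (kernel.ι φ))
  have := isTriv_ker (S := S) hS ht hs w
  exact ⟨Z, z, hz, _, inferInstanceAs (Finite h.hom.ker), _, this⟩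

theorem flc_cokernel (F G : EtCoh.Ab X) (φ : F ⟶ G) (hF : EtCoh.IsFiniteLocallyConstant F)
    (hG : EtCoh.IsFiniteLocallyConstant G) : EtCoh.IsFiniteLocallyConstant (cokernel φ) := by
  apply flc_of_finTrivAt
  intro x
  obtain ⟨Z, z, hz, M, N, hM, hN, h, t, s, ht, hs, w⟩ :=
    local_at_fin F G φ x (finTrivAt_of_flc F hF x) (finTrivAt_of_flc G hG x)
  let S : ShortComplex (EtCoh.Ab X) := ShortComplex.mk φ (cokernel.π φ) (cokernel.condition φ)
  have hS : S.Exact := ShortComplex.exact_cokernel φ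
  haveI : Epi S.g := inferInstanceAs (Epi (cokernel.π φ))
  have := isTriv_coker (S := S) hS ht hs w
  exact ⟨Z, z, hz, _, inferInstanceAs (Finite (N ⧸ h.hom.range)), _, this⟩

theorem flc_extension (S : ShortComplex (EtCoh.Ab X)) (hS : S.ShortExact)
    (h₁ : EtCoh.IsFiniteLocallyConstant S.X₁) (h₃ : EtCoh.IsFiniteLocallyConstant S.X₃) :
    EtCoh.IsFiniteLocallyConstant S.X₂ := by
  apply flc_of_finTrivAt
  intro x
  obtain ⟨U, u, hu, M', hM', t', ht0⟩ := finTrivAt_of_flc S.X₁ h₁ x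
  obtain ⟨V, v, hv, M'', hM'', t'', hs0⟩ := finTrivAt_of_flc S.X₃ h₃ x
  obtain ⟨W, a, b, w, hwa, hwb⟩ := exists_common U V u v (hu.trans hv.symm)
  have ht := ht0.restrict _ a
  have hs := hs0.restrict _ b
  obtain ⟨Z, g, z, E, hE, tE, hz, hE'⟩ := exists_ext_local hS ht hs w
  refine ⟨Z, z, ?_, E, hE, tE, hE'⟩
  have e1 : Z.hom = g.left ≫ W.hom := (MorphismProperty.Over.w g).symm
  have e2 : W.hom = a.left ≫ U.hom := (MorphismProperty.Over.w a).symm
  rw [e1, e2]
  change U.hom.base (a.left.base (g.left.base z)) = x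
  rw [hz, hwa, hu]

theorem main (X : Scheme.{u}) :
    (∀ (F G : EtCoh.Ab X) (φ : F ⟶ G), EtCoh.IsFiniteLocallyConstant F → EtCoh.IsFiniteLocallyConstant G →
      EtCoh.IsFiniteLocallyConstant (kernel φ) ∧ EtCoh.IsFiniteLocallyConstant (cokernel φ)) ∧
    ObjectProperty.IsClosedUnderExtensions (fun F : EtCoh.Ab X => EtCoh.IsFiniteLocallyConstant F) :=
  ⟨fun F G φ hF hG => ⟨flc_kernel F G φ hF hG, flc_cokernel F G φ hF hG⟩,
    ⟨fun {S} hS h₁ h₃ => flc_extension S hS h₁ h₃⟩⟩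

end Groth.Agent.Lib.T2H8.FLCSerre
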