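import Mathlib
import Groth.Prelude.Def_EtBase
import Groth.Agent.Lib.T2H8LocTriv
import Groth.Agent.Lib.T2H8AgreeAb

/-!
# Pullback of a trivialized abelian étale sheaf is trivialized
-/

set_option autoImplicit false
set_option linter.unusedSectionVars false
set_option linter.style.haveILetI false
universe u
open CategoryTheory CategoryTheory.Limits Opposite AlgebraicGeometry

namespace Groth.Agent.Lib.T2H8.LocTrivPull
open Groth.Agent.Lib.T2H8.FLC Groth.Agent.Lib.T2H8.LocTriv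
open Groth.Agent.Lib.Helper16.StalkPull Groth.Agent.S0101 Groth.Agent.Lib.Helper16.SmallEtale
open Groth.Agent.S0100 Groth.Agent.Lib.T2H8AgreeAb
open Groth.Agent.Lib.T2H8StalkFiniteCore Groth.Agent.Lib.T2H8FiniteBC

variable {X : Scheme.{u}}

/-- an étale scheme without points is covered by the empty sieve -/
theorem bot_mem_of_isEmpty (Y : X.Etale) (h : IsEmpty Y.left) :
    (⊥ : Sieve Y) ∈ X.smallEtaleTopology Y := by
  rw [mem_smallEtale_iff]
  intro x
  exact (h.false x).elim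

set_option backward.isDefEq.respectTransparency.types false in
/-- germs of a trivialized sheaf all come from the trivializing group -/
theorem germ_surjective {F : EtCoh.Ab X} {U : X.Etale} {M : AddCommGrpCat.{u + 1}}
    {t : M ⟶ F.obj.obj (op U)} (ht : IsTriv F U M t)
    {Ω : Type u} [Field Ω] [IsSepClosed Ω] (ξ : Spec (CommRingCat.of Ω) ⟶ X)
    (u₀ : (Scheme.pointSmallEtale ξ).fiber.obj U)
    (γ : ((Scheme.pointSmallEtale ξ).presheafFiber.obj F.obj : AddCommGrpCat.{u + 1})) :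
    ∃ m : M, (Scheme.pointSmallEtale ξ).toPresheafFiber U u₀ F.obj (t m) = γ := by
  let Φ := Scheme.pointSmallEtale ξ
  obtain ⟨V, v, z, rfl⟩ := Φ.toPresheafFiber_jointly_surjective γ
  let eV : Φ.fiber.Elements := ⟨V, v⟩
  let eU : Φ.fiber.Elements := ⟨U, u₀⟩
  let eW := IsCofiltered.min eV eU
  let a : eW ⟶ eV := IsCofiltered.minToLeft eV eU
  let b : eW ⟶ eU := IsCofiltered.minToRight eV eU
  have ha : Φ.fiber.map a.1 eW.2 = v := a.2
  have hb : Φ.fiber.map b.1 eW.2 = u₀ := b.2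
  have h1 := ht.surj eW.1 b.1 (F.obj.map a.1.op z)
  obtain ⟨W', g, ⟨m, hm⟩, w', hw'⟩ := Φ.jointly_surjective _ h1 eW.2
  refine ⟨m, ?_⟩
  have e1 := Φ.toPresheafFiber_w_apply a.1 eW.2 F.obj z
  rw [ha] at e1
  have e2 := Φ.toPresheafFiber_w_apply g w' F.obj (F.obj.map a.1.op z)
  rw [hw'] at e2
  have e3 := Φ.toPresheafFiber_w_apply (g ≫ b.1) w' F.obj (t m)
  have e4 : Φ.fiber.map (g ≫ b.1) w' = u₀ := by
    rw [Functor.map_comp]
    change Φ.fiber.map b.1 (Φ.fiber.map g w') = u₀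
    rw [hw', hb]
  rw [e4] at e3
  exact e3.symm.trans ((congrArg _ hm).trans (e2.trans e1))

variable {X' : Scheme.{u}} (f : X' ⟶ X)

set_option backward.isDefEq.respectTransparency.types false in
/-- the pullback of a trivialized sheaf is trivialized -/
theorem isTriv_pull {G : EtCoh.Ab X} {U : X.Etale} {M : AddCommGrpCat.{u + 1}}
    {t : M ⟶ G.obj.obj (op U)} (ht : IsTriv G U M t) :
    IsTriv ((EtCoh.pull f).obj G) ((EtCoh.bc f).obj U) M
      (t ≫ ((EtCoh.pullPushAdj f).unit.app G).hom.app (op U)) := by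
  let G' := (EtCoh.pull f).obj G
  let η := ((EtCoh.pullPushAdj f).unit.app G).hom.app (op U)
  constructor
  · intro Y' f' m m' hm
    by_cases hY : IsEmpty Y'.left
    · exact Or.inr (bot_mem_of_isEmpty Y' hY)
    · left
      rw [not_isEmpty_iff] at hY
      obtain ⟨y'⟩ := hY
      have h1 : f'.left y' ∈ agree G' (η (t m)) (η (t m')) := ⟨Y', f', y', rfl, hm⟩
      have h2 := (mem_agree_pull_iff f G (t m) (t m') (f'.left y')).1 h1
      obtain ⟨W, g, w, -, hg⟩ := h2
      rcases ht.inj W g m m' hg with h3 | h3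
      · exact h3
      · exact absurd h3 (bot_not_mem w)
  · intro Y' f' σ
    rw [mem_smallEtale_iff]
    intro y'
    obtain ⟨Ω, _, _, ξ', x₀', hx₀'⟩ :=
      Groth.Agent.Lib.T2H8StalkAlgClosed.exists_geometric_point Y' y'
    let Φ' := Scheme.pointSmallEtale ξ'
    let Φ := Scheme.pointSmallEtale (ξ' ≫ f)
    let x₁' : Φ'.fiber.obj ((EtCoh.bc f).obj U) := Φ'.fiber.map f' x₀'
    let u₀ : Φ.fiber.obj U := (fiberIso f ξ').hom.app U x₁'
    have hu₀ : u₀.left = x₁'.left ≫ pullback.fst U.hom f := fiberIso_hom_left f ξ' U x₁'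
    have hlift : liftPt f ξ' (ξ' ≫ f) rfl U u₀ = x₁' := by
      apply Over.OverMorphism.ext
      apply pullback.hom_ext
      · exact (liftPt_left_fst f ξ' (ξ' ≫ f) rfl U u₀).trans hu₀
      · exact (liftPt_left_snd f ξ' (ξ' ≫ f) rfl U u₀).trans (Over.w x₁').symm
    let γ' := Φ'.toPresheafFiber Y' x₀' G'.obj σ
    obtain ⟨m, hm⟩ := germ_surjective ht (ξ' ≫ f) u₀ ((stalkPullIso f ξ').inv.app G γ')
    have g1 := Groth.Agent.Lib.T2H8IntBC.stalkPull_germ f ξ' G U u₀ (t m)
    rw [hlift, hm] at g1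
    have e0 : (stalkPullIso f ξ').hom.app G ((stalkPullIso f ξ').inv.app G γ') = γ' :=
      congrArg (fun k => (ConcreteCategory.hom k) γ') ((stalkPullIso f ξ').inv_hom_id_app G)
    rw [e0] at g1
    have e1 := Φ'.toPresheafFiber_w_apply f' x₀' G'.obj (η (t m))
    have hgerm : Φ'.toPresheafFiber Y' x₀' G'.obj (G'.obj.map f'.op (η (t m))) =
        Φ'.toPresheafFiber Y' x₀' G'.obj σ := e1.trans g1.symm
    have hag := (mem_agree_iff_germ G' (G'.obj.map f'.op (η (t m))) σ ξ' x₀').2 hgerm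
    rw [hx₀'] at hag
    obtain ⟨W', g, w', hw', hg⟩ := hag
    refine ⟨W', g, w', ⟨m, ?_⟩, hw'⟩
    rw [← hg]
    exact (Groth.Agent.Lib.T2H8.LocTriv.map_map_apply G' f' g (η (t m))).symm

end Groth.Agent.Lib.T2H8.LocTrivPull
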