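import Mathlib
import Groth.Prelude.Def_EtRestW
import Groth.Agent.Lib.T2H8FLCSerre
import Groth.Agent.Lib.T2H8LocTrivPull

/-!
# Pullback preserves (finite) locally constant abelian étale sheaves
-/

set_option autoImplicit false
set_option linter.unusedSectionVars false
set_option linter.style.haveILetI false
universe u
open CategoryTheory CategoryTheory.Limits Opposite AlgebraicGeometry

namespace Groth.Agent.Lib.T2H8.FLCPull
open Groth.Agent.Lib.T2H8.FLC Groth.Agent.Lib.T2H8.LocTriv Groth.Agent.Lib.T2H8.FLCSerre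
open Groth.Agent.Lib.T2H8.LocTrivPull

variable {X' X : Scheme.{u}} (f : X' ⟶ X)

/-- pointwise trivializations with a property of the value group -/
def TrivAt (P : AddCommGrpCat.{u + 1} → Prop) (F : EtCoh.Ab X) (x : X) : Prop :=
  ∃ (U : X.Etale) (u : U.left), U.hom.base u = x ∧
    ∃ (M : AddCommGrpCat.{u + 1}) (_ : P M) (t : M ⟶ F.obj.obj (op U)), IsTriv F U M t

set_option backward.isDefEq.respectTransparency.types false in
theorem trivAt_pull (P : AddCommGrpCat.{u + 1} → Prop) (G : EtCoh.Ab X) (x' : X')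
    (h : TrivAt P G (f.base x')) : TrivAt P ((EtCoh.pull f).obj G) x' := by
  obtain ⟨U, u, hu, M, hM, t, ht⟩ := h
  obtain ⟨u', hu'1, hu'2⟩ :=
    Scheme.Pullback.exists_preimage_pullback (f := U.hom) (g := f) u x' hu
  exact ⟨(EtCoh.bc f).obj U, u', hu'2, M, hM, _, isTriv_pull f ht⟩

theorem finTrivAt_iff (F : EtCoh.Ab X) (x : X) :
    FinTrivAt F x ↔ TrivAt (fun M => Finite M) F x := Iff.rfl

theorem flc_pull (G : EtCoh.Ab X) (hG : EtCoh.IsFiniteLocallyConstant G) :
    EtCoh.IsFiniteLocallyConstant ((EtCoh.pull f).obj G) := by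
  apply flc_of_finTrivAt
  intro x'
  exact trivAt_pull f _ G x' (finTrivAt_of_flc G hG (f.base x'))

theorem trivAt_of_lc (F : EtCoh.Ab X) (hF : EtRest.IsLocallyConstant F) (x : X) :
    TrivAt (fun _ => True) F x := by
  obtain ⟨ι, U, hU, hFU⟩ := hF
  obtain ⟨i, u, hu⟩ := hU x
  obtain ⟨M₀, _, ⟨α⟩⟩ := hFU i
  have ht0 := isTriv_of_iso F (U i) _ ((sheafToPresheaf _ _).mapIso α)
  exact ⟨U i, u, hu, _, trivial, _, ht0⟩

theorem lc_of_trivAt (F : EtCoh.Ab X) (h : ∀ x, TrivAt (fun _ => True) F x) :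
    EtRest.IsLocallyConstant F := by
  choose U u hu M hM t ht using h
  refine ⟨X, U, fun x => ⟨x, u x, hu x⟩, fun x => ?_⟩
  exact ⟨M x, inferInstance, ⟨isoOfTriv (ht x)⟩⟩

theorem lc_pull (G : EtCoh.Ab X) (hG : EtRest.IsLocallyConstant G) :
    EtRest.IsLocallyConstant ((EtCoh.pull f).obj G) := by
  apply lc_of_trivAt
  intro x'
  exact trivAt_pull f _ G x' (trivAt_of_lc G hG (f.base x'))

end Groth.Agent.Lib.T2H8.FLCPull
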