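import Mathlib
import Groth.Prelude.Def_PBC
import Groth.Prelude.Def_EtCore
import Groth.Agent.Lib.T2H8FLCPull
import Groth.Agent.S0101

/-!
# Constructible abelian étale sheaves: kernels, cokernels, extensions
-/

set_option autoImplicit false
set_option linter.unusedSectionVars false
set_option linter.style.haveILetI false
universe u
open CategoryTheory CategoryTheory.Limits Opposite AlgebraicGeometry

namespace Groth.Agent.Lib.T2H8.Constr
open Groth.Agent.Lib.T2H8.FLC Groth.Agent.Lib.T2H8.LocTriv Groth.Agent.Lib.T2H8.FLCSerre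
open Groth.Agent.Lib.T2H8.FLCPull

variable {X : Scheme.{u}}

/-- transport of a trivialization along an isomorphism -/
theorem isTriv_of_iso' {F F' : EtCoh.Ab X} (e : F ≅ F') {U : X.Etale} {M : AddCommGrpCat.{u + 1}}
    {t : M ⟶ F.obj.obj (op U)} (ht : IsTriv F U M t) :
    IsTriv F' U M (t ≫ e.hom.hom.app (op U)) := by
  have hinv : ∀ (Y : X.Etale) (x : F.obj.obj (op Y)),
      e.inv.hom.app (op Y) (e.hom.hom.app (op Y) x) = x := by
    intro Y x
    exact congrArg (fun m => m.hom.app (op Y) x) e.hom_inv_id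
  have hinv' : ∀ (Y : X.Etale) (x : F'.obj.obj (op Y)),
      e.hom.hom.app (op Y) (e.inv.hom.app (op Y) x) = x := by
    intro Y x
    exact congrArg (fun m => m.hom.app (op Y) x) e.inv_hom_id
  have key : ∀ (Y : X.Etale) (f' : Y ⟶ U) (m : M),
      F'.obj.map f'.op ((t ≫ e.hom.hom.app (op U)) m) =
        e.hom.hom.app (op Y) (F.obj.map f'.op (t m)) := by
    intro Y f' m
    exact (NatTrans.naturality_apply e.hom.hom f'.op (t m)).symm
  constructor
  · intro Y f' m m' hm
    rw [key, key] at hm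
    have := congrArg (e.inv.hom.app (op Y)) hm
    rw [hinv, hinv] at this
    exact ht.inj Y f' m m' this
  · intro Y f' z
    refine X.smallEtaleTopology.superset_covering ?_ (ht.surj Y f' (e.inv.hom.app (op Y) z))
    rintro Z g ⟨m, hm⟩
    refine ⟨m, ?_⟩
    rw [key, hm]
    have n := NatTrans.naturality_apply e.inv.hom g.op z
    rw [← n, hinv']

theorem flc_of_iso {F F' : EtCoh.Ab X} (e : F ≅ F') (h : EtCoh.IsFiniteLocallyConstant F) :
    EtCoh.IsFiniteLocallyConstant F' := by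
  apply flc_of_finTrivAt
  intro x
  obtain ⟨U, u, hu, M, hM, t, ht⟩ := finTrivAt_of_flc F h x
  exact ⟨U, u, hu, M, hM, _, isTriv_of_iso' e ht⟩

/-- a finite stratification of `S` by immersions with a property of the strata -/
def Strata (S : Set X) (P : ∀ (T : Scheme.{u}), (T ⟶ X) → Prop) : Prop :=
  ∃ (n : ℕ) (T : Fin n → Scheme.{u}) (g : ∀ i, T i ⟶ X),
    (∀ i, IsImmersion (g i)) ∧
    (∀ i, Topology.IsConstructible ((Subtype.val : S → X) ⁻¹' Set.range (g i))) ∧
    Pairwise (fun i j => Disjoint (Set.range (g i)) (Set.range (g j))) ∧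
    (⋃ i, Set.range (g i)) = S ∧ ∀ i, P (T i) (g i)

theorem adaptedStrata_iff (F : EtCoh.Ab X) (S : Set X) :
    EtPBC.AdaptedStrata F S ↔
      Strata S (fun T g => EtCoh.IsFiniteLocallyConstant ((EtCoh.pull g).obj F)) := by
  constructor
  · rintro ⟨n, T, g, h1, h2, h3, h4, h5⟩
    exact ⟨n, T, g, h1, h2, h3, h4, fun i => h5 i⟩
  · rintro ⟨n, T, g, h1, h2, h3, h4, h5⟩
    exact ⟨n, T, g, h1, h2, h3, h4, fun i _ => h5 i⟩

theorem Strata.mono {S : Set X} {P Q : ∀ (T : Scheme.{u}), (T ⟶ X) → Prop}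
    (h : Strata S P) (hPQ : ∀ T g, P T g → Q T g) : Strata S Q := by
  obtain ⟨n, T, g, h1, h2, h3, h4, h5⟩ := h
  exact ⟨n, T, g, h1, h2, h3, h4, fun i => hPQ _ _ (h5 i)⟩

/-- common refinement of two stratifications, for properties stable under further pullback -/
theorem Strata.inter {S : Set X} {P Q : ∀ (T : Scheme.{u}), (T ⟶ X) → Prop}
    (hP : ∀ (T T' : Scheme.{u}) (g : T ⟶ X) (a : T' ⟶ T), P T g → P T' (a ≫ g))
    (hQ : ∀ (T T' : Scheme.{u}) (g : T ⟶ X) (a : T' ⟶ T), Q T g → Q T' (a ≫ g))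
    (h₁ : Strata S P) (h₂ : Strata S Q) : Strata S (fun T g => P T g ∧ Q T g) := by
  obtain ⟨n₁, T₁, g₁, a1, a2, a3, a4, a5⟩ := h₁
  obtain ⟨n₂, T₂, g₂, b1, b2, b3, b4, b5⟩ := h₂
  let e : Fin (n₁ * n₂) ≃ Fin n₁ × Fin n₂ := finProdFinEquiv.symm
  let T : Fin (n₁ * n₂) → Scheme.{u} := fun k => pullback (g₁ (e k).1) (g₂ (e k).2)
  let g : ∀ k, T k ⟶ X := fun k => pullback.fst (g₁ (e k).1) (g₂ (e k).2) ≫ g₁ (e k).1
  have hrange : ∀ k, Set.range (g k) = Set.range (g₁ (e k).1) ∩ Set.range (g₂ (e k).2) :=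
    fun k => Scheme.Pullback.range_fst_comp _ _
  refine ⟨n₁ * n₂, T, g, ?_, ?_, ?_, ?_, ?_⟩
  · intro k
    haveI := a1 (e k).1
    haveI := b1 (e k).2
    exact inferInstanceAs (IsImmersion (pullback.fst (g₁ (e k).1) (g₂ (e k).2) ≫ g₁ (e k).1))
  · intro k
    rw [hrange, Set.preimage_inter]
    exact (a2 _).inter (b2 _)
  · intro k k' hkk
    rw [hrange, hrange]
    have hne : e k ≠ e k' := fun h => hkk (e.injective h)
    by_cases h1 : (e k).1 = (e k').1
    · have h2 : (e k).2 ≠ (e k').2 := fun h2 => hne (Prod.ext h1 h2)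
      exact (b3 h2).mono Set.inter_subset_right Set.inter_subset_right
    · exact (a3 h1).mono Set.inter_subset_left Set.inter_subset_left
  · ext x
    simp only [Set.mem_iUnion, hrange, Set.mem_inter_iff]
    constructor
    · rintro ⟨k, hk1, -⟩
      rw [← a4]
      exact Set.mem_iUnion.2 ⟨_, hk1⟩
    · intro hx
      have hx1 := hx
      rw [← a4] at hx1
      rw [← b4] at hx
      obtain ⟨i, hi⟩ := Set.mem_iUnion.1 hx1
      obtain ⟨j, hj⟩ := Set.mem_iUnion.1 hx
      refine ⟨e.symm (i, j), ?_, ?_⟩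
      · rw [Equiv.apply_symm_apply]
        exact hi
      · rw [Equiv.apply_symm_apply]
        exact hj
  · intro k
    refine ⟨hP _ _ _ _ (a5 _), ?_⟩
    have hc : g k = pullback.snd (g₁ (e k).1) (g₂ (e k).2) ≫ g₂ (e k).2 := pullback.condition
    rw [hc]
    exact hQ _ _ _ _ (b5 _)

/-- finite local constancy of a pullback is stable under further pullback -/
theorem flc_pull_comp (F : EtCoh.Ab X) (T T' : Scheme.{u}) (g : T ⟶ X) (a : T' ⟶ T)
    (h : EtCoh.IsFiniteLocallyConstant ((EtCoh.pull g).obj F)) :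
    EtCoh.IsFiniteLocallyConstant ((EtCoh.pull (a ≫ g)).obj F) :=
  flc_of_iso ((EtCore.pullComp a g).app F).symm (flc_pull a _ h)

noncomputable instance pull_additive {X' : Scheme.{u}} (f : X' ⟶ X) : (EtCoh.pull f).Additive :=
  (EtCoh.pullPushAdj f).left_adjoint_additive

noncomputable instance pull_preservesFiniteLimits {X' : Scheme.{u}} (f : X' ⟶ X) :
    PreservesFiniteLimits (EtCoh.pull f) := Groth.Agent.S0101.result f

noncomputable instance pull_preservesColimits {X' : Scheme.{u}} (f : X' ⟶ X) :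
    PreservesColimitsOfSize.{u + 1, u + 1} (EtCoh.pull f) :=
  (EtCoh.pullPushAdj f).leftAdjoint_preservesColimits

theorem constructible_kernel_cokernel {F G : EtCoh.Ab X} (φ : F ⟶ G)
    (hF : EtPBC.IsConstructible F) (hG : EtPBC.IsConstructible G) :
    EtPBC.IsConstructible (kernel φ) ∧ EtPBC.IsConstructible (cokernel φ) := by
  have key : ∀ U : X.Opens, IsAffineOpen U →
      Strata (U : Set X) (fun T g => EtCoh.IsFiniteLocallyConstant ((EtCoh.pull g).obj F) ∧
        EtCoh.IsFiniteLocallyConstant ((EtCoh.pull g).obj G)) := by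
    intro U hU
    exact Strata.inter (flc_pull_comp F) (flc_pull_comp G)
      ((adaptedStrata_iff F _).1 (hF U hU)) ((adaptedStrata_iff G _).1 (hG U hU))
  constructor
  · intro U hU
    rw [adaptedStrata_iff]
    refine (key U hU).mono ?_
    rintro T g ⟨h1, h2⟩
    exact flc_of_iso (PreservesKernel.iso (EtCoh.pull g) φ).symm
      (flc_kernel _ _ ((EtCoh.pull g).map φ) h1 h2)
  · intro U hU
    rw [adaptedStrata_iff]
    refine (key U hU).mono ?_
    rintro T g ⟨h1, h2⟩
    exact flc_of_iso (PreservesCokernel.iso (EtCoh.pull g) φ).symm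
      (flc_cokernel _ _ ((EtCoh.pull g).map φ) h1 h2)

theorem constructible_extension (S : ShortComplex (EtCoh.Ab X)) (hS : S.ShortExact)
    (h1 : EtPBC.IsConstructible S.X₁) (h3 : EtPBC.IsConstructible S.X₃) :
    EtPBC.IsConstructible S.X₂ := by
  intro U hU
  rw [adaptedStrata_iff]
  have key := Strata.inter (flc_pull_comp S.X₁) (flc_pull_comp S.X₃)
      ((adaptedStrata_iff S.X₁ _).1 (h1 U hU)) ((adaptedStrata_iff S.X₃ _).1 (h3 U hU))
  refine key.mono ?_
  rintro T g ⟨k1, k3⟩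
  exact flc_extension (S.map (EtCoh.pull g)) (hS.map_of_exact (EtCoh.pull g)) k1 k3

end Groth.Agent.Lib.T2H8.Constr
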