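import Mathlib
import Groth.Prelude.Def_PBC
import Groth.Agent.Lib.T2H8Constr

/-!
# Gluing stratifications along a finite retrocompact open cover
-/

set_option autoImplicit false
set_option linter.unusedSectionVars false
set_option linter.style.haveILetI false
universe u
open CategoryTheory CategoryTheory.Limits Opposite AlgebraicGeometry TopologicalSpace

namespace Groth.Agent.Lib.T2H8.Constr

variable {X : Scheme.{u}}

/-- the closed complement of the earlier members of a finite family of opens -/
def earlierCompl {m : ℕ} (Sk : Fin m → Set X) (hopen : ∀ k, IsOpen (Sk k)) (k : Fin m) :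
    Closeds X :=
  ⟨(⋃ l : {l : Fin m // l < k}, Sk l.1)ᶜ,
    (isOpen_iUnion fun (l : {l : Fin m // l < k}) => hopen l.1).isClosed_compl⟩

theorem mem_earlierCompl {m : ℕ} (Sk : Fin m → Set X) (hopen : ∀ k, IsOpen (Sk k)) (k : Fin m)
    (x : X) : x ∈ (earlierCompl Sk hopen k : Set X) ↔ ∀ l, l < k → x ∉ Sk l := by
  change x ∈ (⋃ l : {l : Fin m // l < k}, Sk l.1)ᶜ ↔ _
  simp only [Set.mem_compl_iff, Set.mem_iUnion, not_exists, Subtype.forall]

/-- a closed immersion with prescribed closed range -/
theorem exists_closedImmersion_range (C : Closeds X) :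
    ∃ (Z : Scheme.{u}) (i : Z ⟶ X), IsClosedImmersion i ∧ Set.range i = (C : Set X) := by
  refine ⟨_, (Scheme.IdealSheafData.vanishingIdeal C).subschemeι, inferInstance, ?_⟩
  rw [Scheme.IdealSheafData.range_subschemeι]
  simp

theorem Strata.glue {P : ∀ (T : Scheme.{u}), (T ⟶ X) → Prop}
    (hP : ∀ (T T' : Scheme.{u}) (g : T ⟶ X) (a : T' ⟶ T), P T g → P T' (a ≫ g))
    (S : Set X) (m : ℕ) (Sk : Fin m → Set X)
    (hopen : ∀ k, IsOpen (Sk k)) (hsub : ∀ k, Sk k ⊆ S) (hcov : S ⊆ ⋃ k, Sk k)
    (hretro : ∀ k, IsRetrocompact ((Subtype.val : S → X) ⁻¹' Sk k))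
    (h : ∀ k, Strata (Sk k) P) : Strata S P := by
  choose n T g h1 h2 h3 h4 h5 using h
  have hZ := fun k => exists_closedImmersion_range (earlierCompl Sk hopen k)
  choose Z ι hι hιr using hZ
  let e : Fin (∑ k, n k) ≃ Σ k, Fin (n k) := finSigmaFinEquiv.symm
  let T' : Fin (∑ k, n k) → Scheme.{u} := fun q => pullback (g (e q).1 (e q).2) (ι (e q).1)
  let g' : ∀ q, T' q ⟶ X := fun q =>
    pullback.fst (g (e q).1 (e q).2) (ι (e q).1) ≫ g (e q).1 (e q).2
  have hrange : ∀ q, Set.range (g' q) =
      Set.range (g (e q).1 (e q).2) ∩ (earlierCompl Sk hopen (e q).1 : Set X) := by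
    intro q
    rw [← hιr]
    exact Scheme.Pullback.range_fst_comp _ _
  have hgsub : ∀ k i, Set.range (g k i) ⊆ Sk k := by
    intro k i
    rw [← h4 k]
    exact Set.subset_iUnion (fun i => Set.range (g k i)) i
  have hdisj : ∀ (k k' : Fin m) (i : Fin (n k)) (i' : Fin (n k')),
      (⟨k, i⟩ : Σ k, Fin (n k)) ≠ ⟨k', i'⟩ →
      Disjoint (Set.range (g k i) ∩ (earlierCompl Sk hopen k : Set X))
        (Set.range (g k' i') ∩ (earlierCompl Sk hopen k' : Set X)) := by
    intro k k' i i' hne
    rcases lt_trichotomy k k' with hlt | heq | hgt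
    · rw [Set.disjoint_left]
      rintro x ⟨hx1, -⟩ ⟨-, hx2⟩
      exact (mem_earlierCompl Sk hopen k' x).1 hx2 k hlt (hgsub k i hx1)
    · subst heq
      have hii : i ≠ i' := fun h => hne (by rw [h])
      exact (h3 k hii).mono Set.inter_subset_left Set.inter_subset_left
    · rw [Set.disjoint_left]
      rintro x ⟨-, hx2⟩ ⟨hx1, -⟩
      exact (mem_earlierCompl Sk hopen k x).1 hx2 k' hgt (hgsub k' i' hx1)
  refine ⟨∑ k, n k, T', g', ?_, ?_, ?_, ?_, ?_⟩
  · intro q
    haveI := h1 (e q).1 (e q).2
    haveI := hι (e q).1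
    exact inferInstanceAs (IsImmersion (pullback.fst (g (e q).1 (e q).2) (ι (e q).1) ≫
      g (e q).1 (e q).2))
  · intro q
    rw [hrange, Set.preimage_inter]
    refine Topology.IsConstructible.inter ?_ ?_
    · -- the stratum itself
      let k := (e q).1
      let i := (e q).2
      let j : Sk k → S := Set.inclusion (hsub k)
      have hj : Topology.IsOpenEmbedding j := by
        refine ⟨Topology.IsEmbedding.inclusion (hsub k), ?_⟩
        rw [Set.range_inclusion]
        exact (hopen k).preimage continuous_subtype_val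
      have hjr : IsRetrocompact (Set.range j) := by
        rw [Set.range_inclusion]
        exact hretro k
      have himg : j '' ((Subtype.val : Sk k → X) ⁻¹' Set.range (g k i)) =
          (Subtype.val : S → X) ⁻¹' Set.range (g k i) := by
        ext ⟨x, hx⟩
        constructor
        · rintro ⟨y, hy, hyx⟩
          have : y.1 = x := congrArg Subtype.val hyx
          change x ∈ Set.range (g k i)
          rw [← this]
          exact hy
        · intro hxg
          exact ⟨⟨x, hgsub k i hxg⟩, hxg, rfl⟩
      rw [← himg]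
      exact (h2 k i).image_of_isOpenEmbedding hj hjr
    · -- the closed complement
      have hc : (Subtype.val : S → X) ⁻¹' (earlierCompl Sk hopen (e q).1 : Set X) =
          (⋃ l ∈ {l : Fin m | l < (e q).1}, (Subtype.val : S → X) ⁻¹' Sk l)ᶜ := by
        ext x
        rw [Set.mem_preimage, mem_earlierCompl]
        simp only [Set.mem_compl_iff, Set.mem_iUnion, Set.mem_preimage, Set.mem_ofPred_eq,
          not_exists]
      rw [hc]
      refine Topology.IsConstructible.compl ?_
      refine Topology.IsConstructible.biUnion (Set.toFinite _) ?_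
      intro l _
      exact (hretro l).isConstructible ((hopen l).preimage continuous_subtype_val)
  · intro q q' hqq
    rw [hrange, hrange]
    have hne : e q ≠ e q' := fun h => hqq (e.injective h)
    have := hdisj (e q).1 (e q').1 (e q).2 (e q').2 (by simpa using hne)
    exact this
  · ext x
    simp only [Set.mem_iUnion, hrange, Set.mem_inter_iff]
    constructor
    · rintro ⟨q, hq1, -⟩
      exact hsub _ (hgsub _ _ hq1)
    · intro hx
      have hne : {k : Fin m | x ∈ Sk k}.Nonempty := by
        obtain ⟨k, hk⟩ := Set.mem_iUnion.1 (hcov hx)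
        exact ⟨k, hk⟩
      let k₀ := wellFounded_lt.min {k : Fin m | x ∈ Sk k} hne
      have hk₀ : x ∈ Sk k₀ := wellFounded_lt.min_mem _ hne
      have hmin : ∀ l, l < k₀ → x ∉ Sk l := by
        intro l hl hxl
        exact wellFounded_lt.not_lt_min {k : Fin m | x ∈ Sk k} hxl hl
      have hx' := hk₀
      rw [← h4 k₀] at hx'
      obtain ⟨i, hi⟩ := Set.mem_iUnion.1 hx'
      refine ⟨e.symm ⟨k₀, i⟩, ?_, ?_⟩
      · rw [Equiv.apply_symm_apply]
        exact hi
      · rw [Equiv.apply_symm_apply]
        exact (mem_earlierCompl Sk hopen k₀ x).2 hmin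
  · intro q
    exact hP _ _ _ _ (h5 _ _)

/-- restriction of a stratification to an open -/
theorem Strata.restrict_open {P : ∀ (T : Scheme.{u}), (T ⟶ X) → Prop}
    (hP : ∀ (T T' : Scheme.{u}) (g : T ⟶ X) (a : T' ⟶ T), P T g → P T' (a ≫ g))
    {S : Set X} (W : X.Opens) (h : Strata S P) : Strata (S ∩ (W : Set X)) P := by
  obtain ⟨n, T, g, h1, h2, h3, h4, h5⟩ := h
  let T' : Fin n → Scheme.{u} := fun i => pullback (g i) W.ι
  let g' : ∀ i, T' i ⟶ X := fun i => pullback.fst (g i) W.ι ≫ g i
  have hrange : ∀ i, Set.range (g' i) = Set.range (g i) ∩ (W : Set X) := by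
    intro i
    have := Scheme.Pullback.range_fst_comp (g i) W.ι
    rw [Scheme.Opens.range_ι] at this
    exact this
  refine ⟨n, T', g', ?_, ?_, ?_, ?_, fun i => hP _ _ _ _ (h5 i)⟩
  · intro i
    haveI := h1 i
    exact inferInstanceAs (IsImmersion (pullback.fst (g i) W.ι ≫ g i))
  · intro i
    let j : ↥(S ∩ (W : Set X)) → S := Set.inclusion Set.inter_subset_left
    have hj : Topology.IsOpenEmbedding j := by
      refine ⟨Topology.IsEmbedding.inclusion Set.inter_subset_left, ?_⟩
      rw [Set.range_inclusion]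
      have : {x : S | (x : X) ∈ S ∩ (W : Set X)} = (Subtype.val : S → X) ⁻¹' (W : Set X) := by
        ext x
        simp only [Set.mem_ofPred_eq, Set.mem_inter_iff, Subtype.coe_prop, true_and, Set.mem_preimage]
      rw [this]
      exact W.isOpen.preimage continuous_subtype_val
    have hpre : (Subtype.val : ↥(S ∩ (W : Set X)) → X) ⁻¹' Set.range (g' i) =
        j ⁻¹' ((Subtype.val : S → X) ⁻¹' Set.range (g i)) := by
      ext ⟨x, hx⟩
      simp only [Set.mem_preimage, hrange, Set.mem_inter_iff]
      constructor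
      · rintro ⟨h, -⟩
        exact h
      · intro h
        exact ⟨h, hx.2⟩
    rw [hpre]
    exact (h2 i).preimage_of_isOpenEmbedding hj
  · intro i i' hii
    rw [hrange, hrange]
    exact (h3 hii).mono Set.inter_subset_left Set.inter_subset_left
  · rw [← h4]
    ext x
    simp only [Set.mem_iUnion, hrange, Set.mem_inter_iff]
    constructor
    · rintro ⟨i, hi, hw⟩
      exact ⟨⟨i, hi⟩, hw⟩
    · rintro ⟨⟨i, hi⟩, hw⟩
      exact ⟨i, hi, hw⟩

/-- retrocompactness in an open subspace -/
theorem isRetrocompact_preimage_val {S : Set X} (hS : IsOpen S) {A : Set X}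
    (hA : IsRetrocompact A) : IsRetrocompact ((Subtype.val : S → X) ⁻¹' A) :=
  hA.preimage_of_isOpenEmbedding hS.isOpenEmbedding_subtypeVal

end Groth.Agent.Lib.T2H8.Constr
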