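import Mathlib
import Groth.Prelude.Def_PBC
import Groth.Agent.Lib.T2H8ConstrGlue

/-!
# Constructible abelian étale sheaves on quasi-compact quasi-separated schemes:
global stratifications
-/

set_option autoImplicit false
set_option linter.unusedSectionVars false
set_option linter.style.haveILetI false
universe u
open CategoryTheory CategoryTheory.Limits Opposite AlgebraicGeometry TopologicalSpace

namespace Groth.Agent.Lib.T2H8.Constr

variable {X : Scheme.{u}}

/-- a finite affine open cover of a quasi-compact open subset by affine opens contained in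
members of a given family -/
theorem exists_finite_affine_cover (S : Set X) (hS : IsCompact S)
    (B : X.Opens → Prop) (hB : ∀ x ∈ S, ∃ U : X.Opens, B U ∧ x ∈ U) :
    ∃ (m : ℕ) (U : Fin m → X.Opens), (∀ k, B (U k)) ∧ S ⊆ ⋃ k, (U k : Set X) := by
  choose! V hV1 hV2 using hB
  obtain ⟨t, ht⟩ := hS.elim_finite_subcover (fun x : S => ((V x.1 : X.Opens) : Set X))
    (fun x => (V x.1).isOpen) (fun x hx => Set.mem_iUnion.2 ⟨⟨x, hx⟩, hV2 x hx⟩)
  refine ⟨t.card, fun k => V (t.equivFin.symm k).1.1, fun k => hV1 _ (t.equivFin.symm k).1.2, ?_⟩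
  intro x hx
  obtain ⟨y, hy⟩ := Set.mem_iUnion.1 (ht hx)
  obtain ⟨hyt, hxy⟩ := Set.mem_iUnion.1 hy
  refine Set.mem_iUnion.2 ⟨t.equivFin ⟨y, hyt⟩, ?_⟩
  change x ∈ (V (t.equivFin.symm (t.equivFin ⟨y, hyt⟩)).1.1 : Set X)
  rw [Equiv.symm_apply_apply]
  exact hxy

theorem strata_univ_of_constructible [CompactSpace X] [QuasiSeparatedSpace X]
    (F : EtCoh.Ab X) (hF : EtPBC.IsConstructible F) :
    EtPBC.AdaptedStrata F (Set.univ : Set X) := by
  rw [adaptedStrata_iff]
  obtain ⟨m, U, hU, hcov⟩ := exists_finite_affine_cover (Set.univ : Set X) isCompact_univ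
    (fun U => IsAffineOpen U) (fun x _ => by
      obtain ⟨_, ⟨U, hU, rfl⟩, hxU, -⟩ :=
        X.isBasis_affineOpens.exists_subset_of_mem_open (Set.mem_univ x) isOpen_univ
      exact ⟨U, hU, hxU⟩)
  refine Strata.glue (flc_pull_comp F) Set.univ m (fun k => (U k : Set X)) (fun k => (U k).isOpen)
    (fun k => Set.subset_univ _) hcov (fun k => ?_)
    (fun k => (adaptedStrata_iff F _).1 (hF (U k) (hU k)))
  exact isRetrocompact_preimage_val isOpen_univ ((hU k).isCompact.isRetrocompact (U k).isOpen)

theorem constructible_of_strata_univ (F : EtCoh.Ab X)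
    (h : EtPBC.AdaptedStrata F (Set.univ : Set X)) : EtPBC.IsConstructible F := by
  intro U hU
  rw [adaptedStrata_iff] at h ⊢
  have := Strata.restrict_open (flc_pull_comp F) U h
  rwa [Set.univ_inter] at this

theorem constructible_iff_strata_univ [CompactSpace X] [QuasiSeparatedSpace X] (F : EtCoh.Ab X) :
    EtPBC.IsConstructible F ↔ EtPBC.AdaptedStrata F (Set.univ : Set X) :=
  ⟨strata_univ_of_constructible F, constructible_of_strata_univ F⟩

end Groth.Agent.Lib.T2H8.Constr
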