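import Mathlib
import Groth.Prelude.Def_PBC
import Groth.Agent.Lib.T2H8ConstrQcqs

/-!
# Constructibility is local: open covers
-/

set_option autoImplicit false
set_option linter.unusedSectionVars false
set_option linter.style.haveILetI false
universe u
open CategoryTheory CategoryTheory.Limits Opposite AlgebraicGeometry TopologicalSpace

namespace Groth.Agent.Lib.T2H8.Constr

variable {X : Scheme.{u}}

/-- stratifications of an affine open can be constructed locally on affine opens -/
theorem strata_affine_of_local {P : ∀ (T : Scheme.{u}), (T ⟶ X) → Prop}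
    (hP : ∀ (T T' : Scheme.{u}) (g : T ⟶ X) (a : T' ⟶ T), P T g → P T' (a ≫ g))
    (V : X.Opens) (hV : IsAffineOpen V)
    (h : ∀ x ∈ V, ∃ W : X.Opens, (W ≤ V ∧ IsAffineOpen W ∧ Strata (W : Set X) P) ∧ x ∈ W) :
    Strata (V : Set X) P := by
  obtain ⟨m, W, hW, hcov⟩ := exists_finite_affine_cover (V : Set X) hV.isCompact
    (fun W => W ≤ V ∧ IsAffineOpen W ∧ Strata (W : Set X) P) h
  haveI : QuasiSeparatedSpace ↥(V : Set X) :=
    (isQuasiSeparated_iff_quasiSeparatedSpace _ V.isOpen).1 hV.isQuasiSeparated
  refine Strata.glue hP (V : Set X) m (fun k => (W k : Set X)) (fun k => (W k).isOpen)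
    (fun k => (hW k).1) hcov (fun k => ?_) (fun k => (hW k).2.2)
  refine IsCompact.isRetrocompact ?_ ((W k).isOpen.preimage continuous_subtype_val)
  refine (Topology.IsInducing.subtypeVal.isCompact_preimage_iff ?_).2 (hW k).2.1.isCompact
  rw [Subtype.range_coe]
  exact (hW k).1

/-- transport of a stratification along an open immersion -/
theorem Strata.map_openImmersion {Y : Scheme.{u}} (j : Y ⟶ X) [IsOpenImmersion j] (S' : Set Y)
    {P' : ∀ (T : Scheme.{u}), (T ⟶ Y) → Prop} {P : ∀ (T : Scheme.{u}), (T ⟶ X) → Prop}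
    (hPP' : ∀ T g, P' T g → P T (g ≫ j)) (h : Strata S' P') : Strata (j '' S') P := by
  obtain ⟨n, T, g, h1, h2, h3, h4, h5⟩ := h
  have hinj : Function.Injective j := j.isOpenEmbedding.injective
  have hrange : ∀ i, Set.range (g i ≫ j) = j '' Set.range (g i) := by
    intro i
    rw [Scheme.Hom.comp_base, TopCat.coe_comp, Set.range_comp]
  refine ⟨n, T, fun i => g i ≫ j, ?_, ?_, ?_, ?_, fun i => hPP' _ _ (h5 i)⟩
  · intro i
    haveI := h1 i
    infer_instance
  · intro i
    let ψ : S' → ↥(j '' S') := fun y => ⟨j y.1, ⟨y.1, y.2, rfl⟩⟩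
    have hψ : Topology.IsOpenEmbedding ψ := by
      have hemb : Topology.IsEmbedding ψ := by
        refine Topology.IsEmbedding.of_comp (f := ψ) (g := Subtype.val) ?_ continuous_subtype_val ?_
        · exact (j.continuous.comp continuous_subtype_val).subtype_mk _
        · exact j.isOpenEmbedding.isEmbedding.comp Topology.IsEmbedding.subtypeVal
      refine ⟨hemb, ?_⟩
      have : Set.range ψ = Set.univ := by
        ext ⟨x, y, hy, rfl⟩
        simp only [Set.mem_range, Set.mem_univ, iff_true]
        exact ⟨⟨y, hy⟩, rfl⟩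
      rw [this]
      exact isOpen_univ
    have hψr : IsRetrocompact (Set.range ψ) := by
      have : Set.range ψ = Set.univ := by
        ext ⟨x, y, hy, rfl⟩
        simp only [Set.mem_range, Set.mem_univ, iff_true]
        exact ⟨⟨y, hy⟩, rfl⟩
      rw [this]
      exact IsRetrocompact.univ
    have himg : ψ '' ((Subtype.val : S' → Y) ⁻¹' Set.range (g i)) =
        (Subtype.val : ↥(j '' S') → X) ⁻¹' Set.range (g i ≫ j) := by
      rw [hrange]
      ext ⟨x, y, hy, rfl⟩
      constructor
      · rintro ⟨z, hz, hzx⟩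
        have : j z.1 = j y := congrArg Subtype.val hzx
        exact ⟨z.1, hz, this⟩
      · rintro ⟨z, hz, hzx⟩
        have hzy : z = y := hinj hzx
        subst hzy
        exact ⟨⟨z, hy⟩, hz, rfl⟩
    rw [← himg]
    exact (h2 i).image_of_isOpenEmbedding hψ hψr
  · intro i i' hii
    rw [hrange, hrange]
    exact (Set.disjoint_image_iff hinj).2 (h3 hii)
  · simp only [hrange]
    rw [← Set.image_iUnion, h4]

end Groth.Agent.Lib.T2H8.Constr
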