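import Mathlib
import Groth.Prelude.Def_PBC
import Groth.Agent.Lib.T2H8ConstrLocal

/-!
# Constructibility can be checked on an open cover
-/

set_option autoImplicit false
set_option linter.unusedSectionVars false
set_option linter.style.haveILetI false
universe u
open CategoryTheory CategoryTheory.Limits Opposite AlgebraicGeometry TopologicalSpace

namespace Groth.Agent.Lib.T2H8.Constr

variable {X : Scheme.{u}}

/-- strata of an affine open contained in an open `U` from constructibility of the restriction to `U` -/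
theorem strata_of_restrict_constructible (F : EtCoh.Ab X) (U : X.Opens)
    (h : EtPBC.IsConstructible ((EtCoh.pull U.ι).obj F)) (W : X.Opens) (hW : IsAffineOpen W)
    (hWU : W ≤ U) :
    Strata (W : Set X) (fun T g => EtCoh.IsFiniteLocallyConstant ((EtCoh.pull g).obj F)) := by
  have hle : W ≤ U.ι.opensRange := by
    rw [Scheme.Opens.opensRange_ι]
    exact hWU
  have hW' : IsAffineOpen (U.ι ⁻¹ᵁ W) := hW.preimage_of_isOpenImmersion U.ι hle
  have h1 := (adaptedStrata_iff _ _).1 (h (U.ι ⁻¹ᵁ W) hW')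
  have h2 := Strata.map_openImmersion U.ι ((U.ι ⁻¹ᵁ W : U.toScheme.Opens) : Set U.toScheme)
    (P := fun T g => EtCoh.IsFiniteLocallyConstant ((EtCoh.pull g).obj F))
    (fun T g hg => flc_of_iso ((EtCore.pullComp g U.ι).app F).symm hg) h1
  have himg : U.ι '' ((U.ι ⁻¹ᵁ W : U.toScheme.Opens) : Set U.toScheme) = (W : Set X) := by
    change U.ι '' (U.ι ⁻¹' (W : Set X)) = (W : Set X)
    apply Set.image_preimage_eq_of_subset
    rw [Scheme.Opens.range_ι]
    exact hWU
  rwa [himg] at h2

theorem constructible_of_open_cover (F : EtCoh.Ab X) {ι : Type u} (U : ι → X.Opens)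
    (hU : ⨆ i, U i = ⊤)
    (h : ∀ i, EtPBC.IsConstructible ((EtCoh.pull (U i).ι).obj F)) :
    EtPBC.IsConstructible F := by
  intro V hV
  rw [adaptedStrata_iff]
  refine strata_affine_of_local (flc_pull_comp F) V hV ?_
  intro x hx
  have hxU : x ∈ ⨆ i, U i := by
    rw [hU]
    trivial
  obtain ⟨i, hxi⟩ := Opens.mem_iSup.1 hxU
  obtain ⟨f, hf1, hf2⟩ := hV.exists_basicOpen_le (V := U i) ⟨x, hxi⟩ hx
  exact ⟨X.basicOpen f, ⟨X.basicOpen_le f, hV.basicOpen f,
    strata_of_restrict_constructible F (U i) (h i) _ (hV.basicOpen f) hf1⟩, hf2⟩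

end Groth.Agent.Lib.T2H8.Constr
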