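import Mathlib
import Groth.Prelude.Def_PBC
import Groth.Agent.Lib.T2H8ConstrCover

/-!
# Pullback of a constructible abelian étale sheaf is constructible
-/

set_option autoImplicit false
set_option linter.unusedSectionVars false
set_option linter.style.haveILetI false
universe u
open CategoryTheory CategoryTheory.Limits Opposite AlgebraicGeometry TopologicalSpace

namespace Groth.Agent.Lib.T2H8.Constr

variable {X Y : Scheme.{u}} (f : X ⟶ Y)

/-- preimages of constructible sets under a morphism of affine opens -/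
theorem isConstructible_preimage_affine (W : X.Opens) (hW : IsAffineOpen W) (U : Y.Opens)
    (hU : IsAffineOpen U) (hWU : W ≤ f ⁻¹ᵁ U) (A : Set Y)
    (hA : Topology.IsConstructible ((Subtype.val : ↥(U : Set Y) → Y) ⁻¹' A)) :
    Topology.IsConstructible ((Subtype.val : ↥(W : Set X) → X) ⁻¹' (f ⁻¹' A)) := by
  haveI : IsAffine W.toScheme := hW
  haveI : IsAffine U.toScheme := hU
  have hr : Set.range (W.ι ≫ f) ⊆ Set.range U.ι := by
    rw [Scheme.Opens.range_ι]
    rintro _ ⟨w, rfl⟩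
    exact hWU w.2
  let r : W.toScheme ⟶ U.toScheme := IsOpenImmersion.lift U.ι (W.ι ≫ f) hr
  have hfac : r ≫ U.ι = W.ι ≫ f := IsOpenImmersion.lift_fac _ _ _
  have hval : ∀ w : W.toScheme, (r w).1 = f w.1 := by
    intro w
    have := congrArg (fun m => (m : W.toScheme ⟶ Y) w) hfac
    exact this
  have hpre : (Subtype.val : ↥(W : Set X) → X) ⁻¹' (f ⁻¹' A) =
      r ⁻¹' ((Subtype.val : ↥(U : Set Y) → Y) ⁻¹' A) := by
    ext w
    change f w.1 ∈ A ↔ (r w).1 ∈ A
    rw [hval]
  rw [hpre]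
  haveI : QuasiSeparatedSpace ↥W.toScheme :=
    (isQuasiSeparated_iff_quasiSeparatedSpace _ W.isOpen).1 hW.isQuasiSeparated
  haveI : CompactSpace ↥U.toScheme := isCompact_iff_compactSpace.1 hU.isCompact
  refine hA.preimage r.continuous ?_
  intro s hs hsr
  have hsc : IsCompact s := hsr.isCompact
  exact (QuasiCompact.isCompact_preimage (f := r) s hs hsc).isRetrocompact (hs.preimage r.continuous)

/-- strata of an affine open `W` of `X` mapping into an affine open `U` of `Y` -/
theorem strata_pull_affine (F : EtCoh.Ab Y) (W : X.Opens) (hW : IsAffineOpen W) (U : Y.Opens)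
    (hU : IsAffineOpen U) (hWU : W ≤ f ⁻¹ᵁ U)
    (h : Strata (U : Set Y) (fun T g => EtCoh.IsFiniteLocallyConstant ((EtCoh.pull g).obj F))) :
    Strata (W : Set X) (fun T g =>
      EtCoh.IsFiniteLocallyConstant ((EtCoh.pull g).obj ((EtCoh.pull f).obj F))) := by
  obtain ⟨n, T, g, h1, h2, h3, h4, h5⟩ := h
  let T' : Fin n → Scheme.{u} := fun i => pullback (g i) (W.ι ≫ f)
  let g' : ∀ i, T' i ⟶ X := fun i => pullback.snd (g i) (W.ι ≫ f) ≫ W.ι
  have hrange : ∀ i, Set.range (g' i) = (W : Set X) ∩ f ⁻¹' Set.range (g i) := by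
    intro i
    rw [Scheme.Hom.comp_base, TopCat.coe_comp, Set.range_comp, Scheme.Pullback.range_snd]
    ext x
    constructor
    · rintro ⟨w, hw, rfl⟩
      exact ⟨w.2, hw⟩
    · rintro ⟨hxW, hx⟩
      exact ⟨⟨x, hxW⟩, hx, rfl⟩
  refine ⟨n, T', g', ?_, ?_, ?_, ?_, ?_⟩
  · intro i
    haveI := h1 i
    exact inferInstanceAs (IsImmersion (pullback.snd (g i) (W.ι ≫ f) ≫ W.ι))
  · intro i
    have hpre : (Subtype.val : ↥(W : Set X) → X) ⁻¹' Set.range (g' i) =
        (Subtype.val : ↥(W : Set X) → X) ⁻¹' (f ⁻¹' Set.range (g i)) := by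
      rw [hrange]
      ext w
      simp only [Set.mem_preimage, Set.mem_inter_iff]
      exact ⟨fun h => h.2, fun h => ⟨w.2, h⟩⟩
    rw [hpre]
    exact isConstructible_preimage_affine f W hW U hU hWU _ (h2 i)
  · intro i i' hii
    rw [hrange, hrange]
    exact ((h3 hii).preimage f).mono Set.inter_subset_right Set.inter_subset_right
  · ext x
    simp only [Set.mem_iUnion, hrange, Set.mem_inter_iff, Set.mem_preimage]
    constructor
    · rintro ⟨i, hxW, -⟩
      exact hxW
    · intro hxW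
      have hfx : f x ∈ (U : Set Y) := hWU hxW
      rw [← h4] at hfx
      obtain ⟨i, hi⟩ := Set.mem_iUnion.1 hfx
      exact ⟨i, hxW, hi⟩
  · intro i
    have e : (pullback.snd (g i) (W.ι ≫ f) ≫ W.ι) ≫ f = pullback.fst (g i) (W.ι ≫ f) ≫ g i := by
      rw [Category.assoc]
      exact pullback.condition.symm
    have k1 := flc_pull_comp F _ _ (g i) (pullback.fst (g i) (W.ι ≫ f)) (h5 i)
    have k2 := flc_of_iso ((EtCore.pullCongr e.symm).app F) k1
    exact flc_of_iso ((EtCore.pullComp (pullback.snd (g i) (W.ι ≫ f) ≫ W.ι) f).app F) k2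

theorem constructible_pull (F : EtCoh.Ab Y) (hF : EtPBC.IsConstructible F) :
    EtPBC.IsConstructible ((EtCoh.pull f).obj F) := by
  intro V hV
  rw [adaptedStrata_iff]
  refine strata_affine_of_local (flc_pull_comp _) V hV ?_
  intro x hx
  obtain ⟨_, ⟨U, hU, rfl⟩, hxU, -⟩ :=
    Y.isBasis_affineOpens.exists_subset_of_mem_open (Set.mem_univ (f x)) isOpen_univ
  obtain ⟨a, ha1, ha2⟩ := hV.exists_basicOpen_le (V := f ⁻¹ᵁ U) ⟨x, hxU⟩ hx
  exact ⟨X.basicOpen a, ⟨X.basicOpen_le a, hV.basicOpen a,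
    strata_pull_affine f F _ (hV.basicOpen a) U hU ha1 ((adaptedStrata_iff F _).1 (hF U hU))⟩, ha2⟩

end Groth.Agent.Lib.T2H8.Constr
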