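import Mathlib

/-!
# Topological lemmas on constructible sets in quasi-compact quasi-separated spaces (helper8)
-/

set_option autoImplicit false
open Topology TopologicalSpace Set

namespace Groth.Agent.Lib.T2H8.ConstrTop

variable {X : Type*} [TopologicalSpace X]

/-- induction principle: constructible sets are finite unions of differences of retrocompact
opens -/
theorem constructible_induction {P : Set X → Prop}
    (sdiff : ∀ U V : Set X, IsOpen U → IsRetrocompact U → IsOpen V → IsRetrocompact V →
      P (U \ V))
    (union : ∀ s t, P s → P t → P (s ∪ t)) (s : Set X) (hs : IsConstructible s) : P s := by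
  induction s, hs using BooleanSubalgebra.closure_sdiff_sup_induction with
  | isSublattice =>
    exact ⟨fun s hs t ht ↦ ⟨hs.1.union ht.1, hs.2.union ht.2⟩,
      fun s hs t ht ↦ ⟨hs.1.inter ht.1, hs.2.inter_isOpen ht.2 ht.1⟩⟩
  | bot_mem => exact ⟨isOpen_empty, .empty⟩
  | top_mem => exact ⟨isOpen_univ, .univ⟩
  | sdiff U hU V hV => exact sdiff U V hU.1 hU.2 hV.1 hV.2
  | sup s _ t _ hs' ht' => exact union _ _ hs' ht'

theorem isCompact_of_isConstructible [CompactSpace X] {s : Set X} (hs : IsConstructible s) :
    IsCompact s := by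
  refine constructible_induction (P := fun s => IsCompact s) ?_ ?_ s hs
  · intro U V _ hU hV _
    exact hU.isCompact.diff hV
  · intro s t hs ht
    exact hs.union ht

theorem isOpen_constructibleTopology_of_isConstructible [CompactSpace X] {s : Set X}
    (hs : IsConstructible s) : IsOpen[constructibleTopology X] s := by
  refine constructible_induction (P := fun s => IsOpen[constructibleTopology X] s) ?_ ?_ s hs
  · intro U V hUo hU hVo hV
    have h1 : IsOpen[constructibleTopology X] U :=
      hU.isCompact.isOpen_constructibleTopology_of_isOpen hUo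
    have h2 : IsOpen[constructibleTopology X] Vᶜ :=
      IsCompact.isOpen_constructibleTopology_of_isClosed (s := Vᶜ)
        (by rw [compl_compl]; exact hV.isCompact) hVo.isClosed_compl
    rw [Set.diff_eq]
    exact @IsOpen.inter X (constructibleTopology X) _ _ h1 h2
  · intro s t hs ht
    exact @IsOpen.union X _ _ (constructibleTopology X) hs ht

/-- a cover of a spectral space by constructible sets has a finite subcover -/
theorem exists_finite_subcover [CompactSpace X] [QuasiSober X] [PrespectralSpace X]
    [QuasiSeparatedSpace X] {ι : Type*} (R : ι → Set X) (hR : ∀ i, IsConstructible (R i))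
    (hcov : (⋃ i, R i) = univ) : ∃ t : Finset ι, ∀ x : X, ∃ i ∈ t, x ∈ R i := by
  let S : ι → Set (WithConstructibleTopology X) := fun i => WithTopology.ofTopology ⁻¹' (R i)
  have hS : ∀ i, IsOpen (S i) := by
    intro i
    rw [WithConstructibleTopology.isOpen_iff]
    exact isOpen_constructibleTopology_of_isConstructible (hR i)
  obtain ⟨t, ht⟩ := isCompact_univ.elim_finite_subcover S hS (by
    intro x _
    have hx : WithTopology.ofTopology x ∈ ⋃ i, R i := by rw [hcov]; exact mem_univ _
    obtain ⟨i, hi⟩ := mem_iUnion.1 hx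
    exact mem_iUnion.2 ⟨i, hi⟩)
  refine ⟨t, fun x => ?_⟩
  have hx := ht (mem_univ (WithTopology.toTopology _ x))
  obtain ⟨i, hi⟩ := mem_iUnion.1 hx
  obtain ⟨hit, hxi⟩ := mem_iUnion.1 hi
  exact ⟨i, hit, hxi⟩

/-- a locally closed constructible subset of a spectral space is the difference of two
quasi-compact opens -/
theorem exists_sdiff_of_isLocallyClosed [CompactSpace X] [PrespectralSpace X]
    [QuasiSeparatedSpace X] {B : Set X} (hB : IsLocallyClosed B) (hc : IsConstructible B) :
    ∃ W V : Set X, IsOpen W ∧ IsCompact W ∧ IsOpen V ∧ IsCompact V ∧ B = W \ V := by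
  obtain ⟨U, Z, hU, hZ, rfl⟩ := hB
  obtain ⟨W, hWc, hWo, hBW, hWU⟩ := PrespectralSpace.exists_isCompact_and_isOpen_between
    (isCompact_of_isConstructible hc) hU inter_subset_left
  have hBeq : U ∩ Z = W \ (W \ Z) := by
    ext x
    simp only [mem_inter_iff, mem_sdiff, not_and, not_not]
    constructor
    · intro hx
      exact ⟨hBW hx, fun _ => hx.2⟩
    · intro hx
      exact ⟨hWU hx.1, hx.2 hx.1⟩
  have hVo : IsOpen (W \ Z) := hWo.sdiff hZ
  have hVc : IsConstructible (W \ Z) := by
    have : W \ Z = W \ (U ∩ Z) := by
      ext x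
      simp only [mem_sdiff, mem_inter_iff, not_and]
      constructor
      · intro hx
        exact ⟨hx.1, fun _ => hx.2⟩
      · intro hx
        exact ⟨hx.1, hx.2 (hWU hx.1)⟩
    rw [this]
    exact (hWc.isConstructible hWo).sdiff hc
  exact ⟨W, W \ Z, hWo, hWc, hVo, isCompact_of_isConstructible hVc, hBeq⟩

/-- the image of a constructible set under an embedding with constructible range into a spectral
space is constructible -/
theorem isConstructible_image_of_isEmbedding [CompactSpace X] [PrespectralSpace X]
    [QuasiSeparatedSpace X] {T : Type*} [TopologicalSpace T] {g : T → X} (hg : IsEmbedding g)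
    (hR : IsConstructible (range g)) {C : Set T} (hC : IsConstructible C) :
    IsConstructible (g '' C) := by
  haveI : CompactSpace T := by
    refine ⟨?_⟩
    rw [hg.isCompact_iff, image_univ]
    exact isCompact_of_isConstructible hR
  have key : ∀ U : Set T, IsOpen U → IsRetrocompact U →
      ∃ O : Set X, IsOpen O ∧ IsCompact O ∧ g '' U = range g ∩ O := by
    intro U hUo hU
    obtain ⟨O₁, hO₁, rfl⟩ := hg.isOpen_iff.1 hUo
    have hcomp : IsCompact (g '' (g ⁻¹' O₁)) := hU.isCompact.image hg.continuous
    obtain ⟨O, hOc, hOo, h1, h2⟩ := PrespectralSpace.exists_isCompact_and_isOpen_between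
      hcomp hO₁ (image_preimage_subset g O₁)
    refine ⟨O, hOo, hOc, ?_⟩
    apply Subset.antisymm
    · intro x hx
      exact ⟨image_subset_range _ _ hx, h1 hx⟩
    · rintro x ⟨⟨y, rfl⟩, hxO⟩
      exact ⟨y, h2 hxO, rfl⟩
  refine constructible_induction (P := fun C => IsConstructible (g '' C)) ?_ ?_ C hC
  · intro U V hUo hU hVo hV
    obtain ⟨O, hOo, hOc, hO⟩ := key U hUo hU
    obtain ⟨O', hOo', hOc', hO'⟩ := key V hVo hV
    rw [image_sdiff hg.injective, hO, hO']
    exact (hR.inter (hOc.isConstructible hOo)).sdiff (hR.inter (hOc'.isConstructible hOo'))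
  · intro s t hs ht
    rw [image_union]
    exact hs.union ht

end Groth.Agent.Lib.T2H8.ConstrTop
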