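import Mathlib
import Groth.Prelude.Def_PBC
import Groth.Agent.Lib.T2H8ConstrPull
import Groth.Agent.Lib.T2H8ConstrTop

/-!
# Constructibility can be checked on a constructible locally closed cover (helper8)
-/

set_option autoImplicit false
set_option linter.unusedSectionVars false
set_option linter.style.haveILetI false
universe u
open CategoryTheory CategoryTheory.Limits Opposite AlgebraicGeometry TopologicalSpace

namespace Groth.Agent.Lib.T2H8.Constr

variable {X : Scheme.{u}}

/-- a finite stratification of `S` by immersions with constructible ranges in `X` -/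
def StrataX (S : Set X) (P : ∀ (T : Scheme.{u}), (T ⟶ X) → Prop) : Prop :=
  ∃ (n : ℕ) (T : Fin n → Scheme.{u}) (g : ∀ i, T i ⟶ X),
    (∀ i, IsImmersion (g i)) ∧
    (∀ i, Topology.IsConstructible (Set.range (g i))) ∧
    Pairwise (fun i j => Disjoint (Set.range (g i)) (Set.range (g j))) ∧
    (⋃ i, Set.range (g i)) = S ∧ ∀ i, P (T i) (g i)

theorem StrataX.empty (P : ∀ (T : Scheme.{u}), (T ⟶ X) → Prop) : StrataX (∅ : Set X) P := by
  refine ⟨0, fun i => i.elim0, fun i => i.elim0, fun i => i.elim0, fun i => i.elim0,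
    fun i => i.elim0, ?_, fun i => i.elim0⟩
  ext x
  simp only [Set.mem_iUnion, Set.mem_empty_iff_false, iff_false, not_exists]
  intro i
  exact i.elim0

theorem StrataX.single {P : ∀ (T : Scheme.{u}), (T ⟶ X) → Prop} {T : Scheme.{u}} (g : T ⟶ X)
    [IsImmersion g] (hc : Topology.IsConstructible (Set.range g)) (hP : P T g) :
    StrataX (Set.range g) P := by
  refine ⟨1, fun _ => T, fun _ => g, fun _ => inferInstance, fun _ => hc, ?_, ?_, fun _ => hP⟩
  · intro i j hij
    exact absurd (Subsingleton.elim i j) hij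
  · ext x
    simp only [Set.mem_iUnion, exists_const]

theorem StrataX.union {P : ∀ (T : Scheme.{u}), (T ⟶ X) → Prop} {S₁ S₂ : Set X}
    (h₁ : StrataX S₁ P) (h₂ : StrataX S₂ P) (hd : Disjoint S₁ S₂) : StrataX (S₁ ∪ S₂) P := by
  obtain ⟨n₁, T₁, g₁, a1, a2, a3, a4, a5⟩ := h₁
  obtain ⟨n₂, T₂, g₂, b1, b2, b3, b4, b5⟩ := h₂
  let e : Fin n₁ ⊕ Fin n₂ ≃ Fin (n₁ + n₂) := finSumFinEquiv
  let TT : Fin n₁ ⊕ Fin n₂ → Scheme.{u} := Sum.elim T₁ T₂
  let G : ∀ s : Fin n₁ ⊕ Fin n₂, TT s ⟶ X := fun s =>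
    match s with
    | .inl i => g₁ i
    | .inr j => g₂ j
  have hsub₁ : ∀ i, Set.range (g₁ i) ⊆ S₁ := fun i => by
    rw [← a4]; exact Set.subset_iUnion (fun i => Set.range (g₁ i)) i
  have hsub₂ : ∀ i, Set.range (g₂ i) ⊆ S₂ := fun i => by
    rw [← b4]; exact Set.subset_iUnion (fun i => Set.range (g₂ i)) i
  have hG1 : ∀ s, IsImmersion (G s) := by
    rintro (i | j)
    · exact a1 i
    · exact b1 j
  have hG2 : ∀ s, Topology.IsConstructible (Set.range (G s)) := by
    rintro (i | j)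
    · exact a2 i
    · exact b2 j
  have hG3 : ∀ s s', s ≠ s' → Disjoint (Set.range (G s)) (Set.range (G s')) := by
    rintro (i | j) (i' | j') hne
    · exact a3 (fun h => hne (by rw [h]))
    · exact hd.mono (hsub₁ i) (hsub₂ j')
    · exact hd.symm.mono (hsub₂ j) (hsub₁ i')
    · exact b3 (fun h => hne (by rw [h]))
  have hG5 : ∀ s, P (TT s) (G s) := by
    rintro (i | j)
    · exact a5 i
    · exact b5 j
  refine ⟨n₁ + n₂, fun k => TT (e.symm k), fun k => G (e.symm k), fun k => hG1 _, fun k => hG2 _,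
    ?_, ?_, fun k => hG5 _⟩
  · intro k k' hkk
    exact hG3 _ _ (fun h => hkk (e.symm.injective h))
  · ext x
    simp only [Set.mem_iUnion, Set.mem_union]
    have hsubG : ∀ s, x ∈ Set.range (G s) → x ∈ S₁ ∨ x ∈ S₂ := by
      rintro (i | j) hs
      · exact Or.inl (hsub₁ i hs)
      · exact Or.inr (hsub₂ j hs)
    have hex : ∀ s, x ∈ Set.range (G s) → ∃ k, x ∈ Set.range (G (e.symm k)) := by
      intro s hs
      obtain ⟨k, rfl⟩ := e.symm.surjective s
      exact ⟨k, hs⟩
    constructor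
    · rintro ⟨k, hk⟩
      exact hsubG _ hk
    · rintro (hx | hx)
      · rw [← a4] at hx
        obtain ⟨i, hi⟩ := Set.mem_iUnion.1 hx
        exact hex (.inl i) hi
      · rw [← b4] at hx
        obtain ⟨j, hj⟩ := Set.mem_iUnion.1 hx
        exact hex (.inr j) hj

/-- an immersion with prescribed range the difference of two opens -/
theorem exists_immersion_range_sdiff (W V : X.Opens) :
    ∃ (Y : Scheme.{u}) (j : Y ⟶ X), IsImmersion j ∧ Set.range j = (W : Set X) \ (V : Set X) := by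
  let C : Closeds (W : Scheme.{u}) := ⟨(W.ι ⁻¹' (V : Set X))ᶜ,
    (V.isOpen.preimage W.ι.continuous).isClosed_compl⟩
  obtain ⟨Z, i, hi, hir⟩ := exists_closedImmersion_range C
  refine ⟨Z, i ≫ W.ι, inferInstance, ?_⟩
  rw [Scheme.Hom.comp_base, TopCat.coe_comp, Set.range_comp]
  have : Set.range i = (C : Set (W : Scheme.{u})) := hir
  rw [this]
  ext x
  constructor
  · rintro ⟨y, hy, rfl⟩
    exact ⟨y.2, hy⟩
  · rintro ⟨hxW, hxV⟩
    exact ⟨⟨x, hxW⟩, hxV, rfl⟩

theorem isConstructible_sdiff_opens [QuasiSeparatedSpace X] (W V : X.Opens)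
    (hW : IsCompact (W : Set X)) (hV : IsCompact (V : Set X)) :
    Topology.IsConstructible ((W : Set X) \ (V : Set X)) :=
  (hW.isConstructible W.isOpen).sdiff (hV.isConstructible V.isOpen)

/-- refinement of a finite cover by good constructible locally closed pieces to a partition -/
theorem strataX_of_cover [QuasiSeparatedSpace X] {P : ∀ (T : Scheme.{u}), (T ⟶ X) → Prop}
    (hP : ∀ (T T' : Scheme.{u}) (g : T ⟶ X) (a : T' ⟶ T), P T g → P T' (a ≫ g)) :
    ∀ (N : ℕ) (T : Fin N → Scheme.{u}) (h : ∀ q, T q ⟶ X), (∀ q, IsImmersion (h q)) →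
      (∀ q, ∃ W V : X.Opens, IsCompact (W : Set X) ∧ IsCompact (V : Set X) ∧
        Set.range (h q) = (W : Set X) \ (V : Set X)) →
      (∀ q, P (T q) (h q)) →
      ∀ (W V : X.Opens), IsCompact (W : Set X) → IsCompact (V : Set X) →
        (W : Set X) \ (V : Set X) ⊆ ⋃ q, Set.range (h q) →
        StrataX ((W : Set X) \ (V : Set X)) P := by
  intro N
  induction N with
  | zero =>
    intro T h _ _ _ W V _ _ hsub
    have : (W : Set X) \ (V : Set X) = ∅ := by
      rw [Set.eq_empty_iff_forall_notMem]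
      intro x hx
      obtain ⟨q, -⟩ := Set.mem_iUnion.1 (hsub hx)
      exact q.elim0
    rw [this]
    exact StrataX.empty P
  | succ N ih =>
    intro T h h1 h2 h5 W V hW hV hsub
    obtain ⟨W₀, V₀, hW₀, hV₀, hA⟩ := h2 0
    -- the piece inside the first member
    obtain ⟨Y, j, hj, hjr⟩ := exists_immersion_range_sdiff W V
    haveI := h1 0
    have s1 : StrataX (Set.range (h 0) ∩ ((W : Set X) \ (V : Set X))) P := by
      have hr : Set.range (pullback.fst (h 0) j ≫ h 0) =
          Set.range (h 0) ∩ ((W : Set X) \ (V : Set X)) := by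
        rw [← hjr]
        exact Scheme.Pullback.range_fst_comp _ _
      rw [← hr]
      haveI : IsImmersion (pullback.fst (h 0) j ≫ h 0) := inferInstance
      refine StrataX.single _ ?_ (hP _ _ _ _ (h5 0))
      rw [hr, hA]
      exact (isConstructible_sdiff_opens W₀ V₀ hW₀ hV₀).inter
        (isConstructible_sdiff_opens W V hW hV)
    -- the two remaining pieces
    have hW2 : IsCompact ((W ⊓ V₀ ⊓ W₀ : X.Opens) : Set X) := by
      have h12 : IsCompact ((W : Set X) ∩ (V₀ : Set X)) :=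
        QuasiSeparatedSpace.inter_isCompact _ _ W.isOpen hW V₀.isOpen hV₀
      exact QuasiSeparatedSpace.inter_isCompact _ _ (W.isOpen.inter V₀.isOpen) h12 W₀.isOpen hW₀
    have s2 : StrataX (((W ⊓ V₀ ⊓ W₀ : X.Opens) : Set X) \ (V : Set X)) P := by
      refine ih (fun q => T q.succ) (fun q => h q.succ) (fun q => h1 _) (fun q => h2 _)
        (fun q => h5 _) _ V hW2 hV ?_
      rintro x ⟨⟨⟨hxW, hxV₀⟩, hxW₀⟩, hxV⟩
      obtain ⟨q, hq⟩ := Set.mem_iUnion.1 (hsub ⟨hxW, hxV⟩)
      induction q using Fin.cases with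
      | zero =>
        rw [hA] at hq
        exact absurd hxV₀ hq.2
      | succ q => exact Set.mem_iUnion.2 ⟨q, hq⟩
    have s3 : StrataX ((W : Set X) \ ((V ⊔ W₀ : X.Opens) : Set X)) P := by
      refine ih (fun q => T q.succ) (fun q => h q.succ) (fun q => h1 _) (fun q => h2 _)
        (fun q => h5 _) W _ hW (hV.union hW₀) ?_
      rintro x ⟨hxW, hxn⟩
      have hxV : x ∉ (V : Set X) := fun hx => hxn (Or.inl hx)
      have hxW₀ : x ∉ (W₀ : Set X) := fun hx => hxn (Or.inr hx)
      obtain ⟨q, hq⟩ := Set.mem_iUnion.1 (hsub ⟨hxW, hxV⟩)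
      induction q using Fin.cases with
      | zero =>
        rw [hA] at hq
        exact absurd hq.1 hxW₀
      | succ q => exact Set.mem_iUnion.2 ⟨q, hq⟩
    have d12 : Disjoint (Set.range (h 0) ∩ ((W : Set X) \ (V : Set X)))
        (((W ⊓ V₀ ⊓ W₀ : X.Opens) : Set X) \ (V : Set X)) := by
      rw [Set.disjoint_left]
      rintro x ⟨hx0, -⟩ ⟨⟨⟨-, hxV₀⟩, -⟩, -⟩
      rw [hA] at hx0
      exact hx0.2 hxV₀
    have d3 : Disjoint ((Set.range (h 0) ∩ ((W : Set X) \ (V : Set X))) ∪
        (((W ⊓ V₀ ⊓ W₀ : X.Opens) : Set X) \ (V : Set X)))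
        ((W : Set X) \ ((V ⊔ W₀ : X.Opens) : Set X)) := by
      rw [Set.disjoint_left]
      rintro x hx ⟨-, hxn⟩
      have hxW₀ : x ∉ (W₀ : Set X) := fun hx => hxn (Or.inr hx)
      rcases hx with ⟨hx0, -⟩ | ⟨⟨-, hxW₀'⟩, -⟩
      · rw [hA] at hx0
        exact hxW₀ hx0.1
      · exact hxW₀ hxW₀'
    have hall := (s1.union s2 d12).union s3 d3
    have hS : (W : Set X) \ (V : Set X) =
        (Set.range (h 0) ∩ ((W : Set X) \ (V : Set X))) ∪
        (((W ⊓ V₀ ⊓ W₀ : X.Opens) : Set X) \ (V : Set X)) ∪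
        ((W : Set X) \ ((V ⊔ W₀ : X.Opens) : Set X)) := by
      ext x
      rw [hA]
      simp only [Opens.coe_inf, Opens.coe_sup, Set.mem_union, Set.mem_inter_iff, Set.mem_sdiff,
        SetLike.mem_coe]
      tauto
    rw [hS]
    exact hall

end Groth.Agent.Lib.T2H8.Constr

namespace Groth.Agent.Lib.T2H8.Constr

variable {X : Scheme.{u}}

theorem isConstructible_of_univ_preimage {T : Scheme.{u}} {R : Set T}
    (h : Topology.IsConstructible ((Subtype.val : ↥(Set.univ : Set T) → T) ⁻¹' R)) :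
    Topology.IsConstructible R := by
  have hemb : Topology.IsOpenEmbedding (Subtype.val : ↥(Set.univ : Set T) → T) :=
    isOpen_univ.isOpenEmbedding_subtypeVal
  have := h.image_of_isOpenEmbedding hemb (by rw [Subtype.range_val]; exact IsRetrocompact.univ)
  rwa [Set.image_preimage_eq_inter_range, Subtype.range_val, Set.inter_univ] at this

/-- **constructibility on a constructible locally closed cover** -/
theorem constructible_of_constructible_strata [CompactSpace X] [QuasiSeparatedSpace X]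
    (F : EtCoh.Ab X) {ι : Type u} (T : ι → Scheme.{u}) (g : ∀ i, T i ⟶ X)
    [∀ i, IsImmersion (g i)]
    (hc : ∀ i, Topology.IsConstructible (Set.range (g i)))
    (hcov : (⋃ i, Set.range (g i)) = Set.univ)
    (h : ∀ i, EtPBC.IsConstructible ((EtCoh.pull (g i)).obj F)) :
    EtPBC.IsConstructible F := by
  classical
  obtain ⟨t, ht⟩ := ConstrTop.exists_finite_subcover (fun i => Set.range (g i)) hc hcov
  have hcomp : ∀ i, CompactSpace (T i) := fun i => ⟨by
    rw [(g i).isEmbedding.isCompact_iff, Set.image_univ]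
    exact ConstrTop.isCompact_of_isConstructible (hc i)⟩
  have hqs : ∀ i, QuasiSeparatedSpace (T i) := fun i =>
    quasiSeparatedSpace_of_quasiSeparated (g i)
  have hstr : ∀ i, Strata (Set.univ : Set (T i)) (fun T' a =>
      EtCoh.IsFiniteLocallyConstant ((EtCoh.pull a).obj ((EtCoh.pull (g i)).obj F))) := fun i => by
    haveI := hcomp i
    haveI := hqs i
    exact (adaptedStrata_iff _ _).1 (strata_univ_of_constructible _ (h i))
  choose n T' a h1 h2 h3 h4 h5 using hstr
  let Q := Σ i : t, Fin (n i.1)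
  let e : Q ≃ Fin (Fintype.card Q) := Fintype.equivFin Q
  let TT : Fin (Fintype.card Q) → Scheme.{u} := fun q => T' (e.symm q).1.1 (e.symm q).2
  let hh : ∀ q, TT q ⟶ X := fun q => a (e.symm q).1.1 (e.symm q).2 ≫ g (e.symm q).1.1
  have himm : ∀ q, IsImmersion (hh q) := fun q => by
    haveI := h1 (e.symm q).1.1 (e.symm q).2
    exact inferInstanceAs (IsImmersion (a (e.symm q).1.1 (e.symm q).2 ≫ g (e.symm q).1.1))
  have hform : ∀ q, ∃ W V : X.Opens, IsCompact (W : Set X) ∧ IsCompact (V : Set X) ∧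
      Set.range (hh q) = (W : Set X) \ (V : Set X) := fun q => by
    haveI := himm q
    have hlc : IsLocallyClosed (Set.range (hh q)) := (hh q).isLocallyClosed_range
    have hcon : Topology.IsConstructible (Set.range (hh q)) := by
      have : Set.range (hh q) =
          (g (e.symm q).1.1) '' Set.range (a (e.symm q).1.1 (e.symm q).2) := by
        change Set.range (a (e.symm q).1.1 (e.symm q).2 ≫ g (e.symm q).1.1) = _
        rw [Scheme.Hom.comp_base, TopCat.coe_comp, Set.range_comp]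
      rw [this]
      exact ConstrTop.isConstructible_image_of_isEmbedding (g _).isEmbedding (hc _)
        (isConstructible_of_univ_preimage (h2 _ _))
    obtain ⟨W, V, hWo, hWc, hVo, hVc, hWV⟩ := ConstrTop.exists_sdiff_of_isLocallyClosed hlc hcon
    exact ⟨⟨W, hWo⟩, ⟨V, hVo⟩, hWc, hVc, hWV⟩
  have hP : ∀ q, EtCoh.IsFiniteLocallyConstant ((EtCoh.pull (hh q)).obj F) := fun q =>
    flc_of_iso ((EtCore.pullComp (a (e.symm q).1.1 (e.symm q).2) (g (e.symm q).1.1)).app F).symm
      (h5 _ _)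
  have hcover : ((⊤ : X.Opens) : Set X) \ ((⊥ : X.Opens) : Set X) ⊆ ⋃ q, Set.range (hh q) := by
    have hs : ∀ s : Q, Set.range (a s.1.1 s.2 ≫ g s.1.1) ⊆ ⋃ q, Set.range (hh q) := by
      intro s
      obtain ⟨q, rfl⟩ := e.symm.surjective s
      exact Set.subset_iUnion (fun q => Set.range (hh q)) q
    intro x _
    obtain ⟨i, hi, y, rfl⟩ := ht x
    have hy : y ∈ ⋃ j, Set.range (a i j) := by rw [h4 i]; exact Set.mem_univ y
    obtain ⟨j, z, rfl⟩ := Set.mem_iUnion.1 hy
    exact hs ⟨⟨i, hi⟩, j⟩ ⟨z, rfl⟩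
  have key := strataX_of_cover (P := fun T g => EtCoh.IsFiniteLocallyConstant
    ((EtCoh.pull g).obj F)) (flc_pull_comp F) _ TT hh himm hform hP ⊤ ⊥
    (by simpa using isCompact_univ) (by simp) hcover
  apply constructible_of_strata_univ
  rw [adaptedStrata_iff]
  obtain ⟨m, T'', g'', k1, k2, k3, k4, k5⟩ := key
  refine ⟨m, T'', g'', k1, fun i => ?_, k3, ?_, k5⟩
  · exact (k2 i).preimage_of_isOpenEmbedding isOpen_univ.isOpenEmbedding_subtypeVal
  · rw [k4]
    simp

end Groth.Agent.Lib.T2H8.Constr
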