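import Mathlib
import Groth.Prelude.Def_PBC
import Groth.Agent.Lib.T2H8ConstrStrata

/-!
# Constructible sheaves on locally Noetherian schemes: pointwise criterion (helper8)
-/

set_option autoImplicit false
set_option linter.unusedSectionVars false
set_option linter.style.haveILetI false
universe u
open CategoryTheory CategoryTheory.Limits Opposite AlgebraicGeometry TopologicalSpace

namespace Groth.Agent.Lib.T2H8.ConstrNoeth
open Groth.Agent.Lib.T2H8.Constr

section Top

variable {Y : Type*} [TopologicalSpace Y]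

/-- in a Noetherian space locally closed sets are constructible -/
theorem isConstructible_of_isLocallyClosed [NoetherianSpace Y] {s : Set Y}
    (hs : IsLocallyClosed s) : Topology.IsConstructible s := by
  have hopen : ∀ O : Set Y, IsOpen O → Topology.IsConstructible O := fun O hO =>
    IsRetrocompact.isConstructible hO (fun _ _ _ => NoetherianSpace.isCompact _)
  obtain ⟨O, K, hO, hK, rfl⟩ := hs
  have hKc : Topology.IsConstructible K := by
    have := (hopen Kᶜ hK.isOpen_compl).compl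
    rwa [compl_compl] at this
  exact (hopen O hO).inter hKc

/-- a nonempty closed subset of a Noetherian sober space has a point whose closure is open in it -/
theorem exists_generic_open [NoetherianSpace Y] [QuasiSober Y] (Z : Closeds Y) (hZ : Z ≠ ⊥) :
    ∃ (x : Y) (O : Set Y), IsOpen O ∧ x ∈ O ∧ x ∈ (Z : Set Y) ∧
      (Z : Set Y) ∩ O ⊆ closure {x} := by
  classical
  obtain ⟨S, hS, hZS⟩ := NoetherianSpace.exists_finset_irreducible Z
  have hne : S.Nonempty := by
    by_contra h
    rw [Finset.not_nonempty_iff_eq_empty] at h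
    subst h
    exact hZ (by simpa using hZS)
  obtain ⟨t₀, ht₀, hmax⟩ := S.exists_maximal hne
  have hirr : IsIrreducible (t₀ : Set Y) := hS ⟨t₀, ht₀⟩
  let x := hirr.genericPoint
  have hx : closure {x} = (t₀ : Set Y) := hirr.isGenericPoint_genericPoint t₀.isClosed
  have hmem : ∀ z : Y, z ∈ (Z : Set Y) ↔ ∃ t ∈ S, z ∈ (t : Set Y) := by
    intro z
    rw [hZS, Closeds.coe_finset_sup]
    simp only [Finset.sup_set_eq_biUnion, Function.comp_apply, id_eq,
      Set.mem_iUnion, exists_prop]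
  let O : Set Y := (⋃ t ∈ S.erase t₀, (t : Set Y))ᶜ
  have hO : IsOpen O := by
    have hcl : IsClosed (⋃ t ∈ S.erase t₀, (t : Set Y)) :=
      Set.Finite.isClosed_biUnion (S.erase t₀).finite_toSet (fun t _ => t.isClosed)
    exact hcl.isOpen_compl
  have hxt₀ : x ∈ (t₀ : Set Y) := by
    rw [← hx]
    exact subset_closure rfl
  refine ⟨x, O, hO, ?_, (hmem x).2 ⟨t₀, ht₀, hxt₀⟩, ?_⟩
  · intro hxO
    obtain ⟨t, ht⟩ := Set.mem_iUnion.1 hxO
    obtain ⟨htS, hxt⟩ := Set.mem_iUnion.1 ht
    have htS' : t ∈ S := Finset.mem_of_mem_erase htS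
    have hne' : t ≠ t₀ := Finset.ne_of_mem_erase htS
    have hle : t₀ ≤ t := by
      intro z hz
      have hz' : z ∈ closure {x} := by rw [hx]; exact hz
      exact (t.isClosed.closure_subset_iff.2 (Set.singleton_subset_iff.2 hxt)) hz'
    exact hne' (le_antisymm (hmax htS' hle) hle)
  · rintro z ⟨hzZ, hzO⟩
    obtain ⟨t, htS, hzt⟩ := (hmem z).1 hzZ
    by_cases htt : t = t₀
    · rw [hx, ← htt]
      exact hzt
    · exfalso
      apply hzO
      refine Set.mem_iUnion.2 ⟨t, Set.mem_iUnion.2 ⟨Finset.mem_erase.2 ⟨htt, htS⟩, hzt⟩⟩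

end Top

variable {X : Scheme.{u}}

/-- a finite stratification with a constructibility predicate on the strata -/
def StrataC (C : Set X → Prop) (S : Set X) (P : ∀ (T : Scheme.{u}), (T ⟶ X) → Prop) : Prop :=
  ∃ (n : ℕ) (T : Fin n → Scheme.{u}) (g : ∀ i, T i ⟶ X),
    (∀ i, IsImmersion (g i)) ∧
    (∀ i, C (Set.range (g i))) ∧
    Pairwise (fun i j => Disjoint (Set.range (g i)) (Set.range (g j))) ∧
    (⋃ i, Set.range (g i)) = S ∧ ∀ i, P (T i) (g i)

theorem StrataC.empty (C : Set X → Prop) (P : ∀ (T : Scheme.{u}), (T ⟶ X) → Prop) :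
    StrataC C (∅ : Set X) P := by
  refine ⟨0, fun i => i.elim0, fun i => i.elim0, fun i => i.elim0, fun i => i.elim0,
    fun i => i.elim0, ?_, fun i => i.elim0⟩
  ext x
  simp only [Set.mem_iUnion, Set.mem_empty_iff_false, iff_false, not_exists]
  intro i
  exact i.elim0

theorem StrataC.single {C : Set X → Prop} {P : ∀ (T : Scheme.{u}), (T ⟶ X) → Prop}
    {T : Scheme.{u}} (g : T ⟶ X)
    [IsImmersion g] (hc : C (Set.range g)) (hP : P T g) :
    StrataC C (Set.range g) P := by
  refine ⟨1, fun _ => T, fun _ => g, fun _ => inferInstance, fun _ => hc, ?_, ?_, fun _ => hP⟩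
  · intro i j hij
    exact absurd (Subsingleton.elim i j) hij
  · ext x
    simp only [Set.mem_iUnion, exists_const]

theorem StrataC.union {C : Set X → Prop} {P : ∀ (T : Scheme.{u}), (T ⟶ X) → Prop}
    {S₁ S₂ : Set X}
    (h₁ : StrataC C S₁ P) (h₂ : StrataC C S₂ P) (hd : Disjoint S₁ S₂) :
    StrataC C (S₁ ∪ S₂) P := by
  obtain ⟨n₁, T₁, g₁, a1, a2, a3, a4, a5⟩ := h₁
  obtain ⟨n₂, T₂, g₂, b1, b2, b3, b4, b5⟩ := h₂
  let e : Fin n₁ ⊕ Fin n₂ ≃ Fin (n₁ + n₂) := finSumFinEquiv
  let TT : Fin n₁ ⊕ Fin n₂ → Scheme.{u} := Sum.elim T₁ T₂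
  let G : ∀ s : Fin n₁ ⊕ Fin n₂, TT s ⟶ X := fun s =>
    match s with
    | .inl i => g₁ i
    | .inr j => g₂ j
  have hsub₁ : ∀ i, Set.range (g₁ i) ⊆ S₁ := fun i => by
    rw [← a4]; exact Set.subset_iUnion (fun i => Set.range (g₁ i)) i
  have hsub₂ : ∀ i, Set.range (g₂ i) ⊆ S₂ := fun i => by
    rw [← b4]; exact Set.subset_iUnion (fun i => Set.range (g₂ i)) i
  have hG1 : ∀ s, IsImmersion (G s) := by
    rintro (i | j)
    · exact a1 i
    · exact b1 j
  have hG2 : ∀ s, C (Set.range (G s)) := by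
    rintro (i | j)
    · exact a2 i
    · exact b2 j
  have hG3 : ∀ s s', s ≠ s' → Disjoint (Set.range (G s)) (Set.range (G s')) := by
    rintro (i | j) (i' | j') hne
    · exact a3 (fun h => hne (by rw [h]))
    · exact hd.mono (hsub₁ i) (hsub₂ j')
    · exact hd.symm.mono (hsub₂ j) (hsub₁ i')
    · exact b3 (fun h => hne (by rw [h]))
  have hG5 : ∀ s, P (TT s) (G s) := by
    rintro (i | j)
    · exact a5 i
    · exact b5 j
  refine ⟨n₁ + n₂, fun k => TT (e.symm k), fun k => G (e.symm k), fun k => hG1 _, fun k => hG2 _,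
    ?_, ?_, fun k => hG5 _⟩
  · intro k k' hkk
    exact hG3 _ _ (fun h => hkk (e.symm.injective h))
  · ext x
    simp only [Set.mem_iUnion, Set.mem_union]
    have hsubG : ∀ s, x ∈ Set.range (G s) → x ∈ S₁ ∨ x ∈ S₂ := by
      rintro (i | j) hs
      · exact Or.inl (hsub₁ i hs)
      · exact Or.inr (hsub₂ j hs)
    have hex : ∀ s, x ∈ Set.range (G s) → ∃ k, x ∈ Set.range (G (e.symm k)) := by
      intro s hs
      obtain ⟨k, rfl⟩ := e.symm.surjective s
      exact ⟨k, hs⟩
    constructor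
    · rintro ⟨k, hk⟩
      exact hsubG _ hk
    · rintro (hx | hx)
      · rw [← a4] at hx
        obtain ⟨i, hi⟩ := Set.mem_iUnion.1 hx
        exact hex (.inl i) hi
      · rw [← b4] at hx
        obtain ⟨j, hj⟩ := Set.mem_iUnion.1 hx
        exact hex (.inr j) hj

end Groth.Agent.Lib.T2H8.ConstrNoeth

namespace Groth.Agent.Lib.T2H8.ConstrNoeth
open Groth.Agent.Lib.T2H8.Constr

variable {X : Scheme.{u}}

/-- the pointwise datum: `F` is finite locally constant on a neighbourhood of `x` in its closure -/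
def GoodAt (F : EtCoh.Ab X) (x : X) : Prop :=
  ∃ (V : X.Opens) (T : Scheme.{u}) (g : T ⟶ X), IsImmersion g ∧ x ∈ V ∧
    Set.range g.base = (V : Set X) ∩ closure {x} ∧
    EtCoh.IsFiniteLocallyConstant ((EtCoh.pull g).obj F)

/-- restriction of an immersion to an open -/
theorem exists_restrict (F : EtCoh.Ab X) {T : Scheme.{u}} (g : T ⟶ X) [IsImmersion g]
    (h : EtCoh.IsFiniteLocallyConstant ((EtCoh.pull g).obj F)) (W : X.Opens) :
    ∃ (T' : Scheme.{u}) (g' : T' ⟶ X), IsImmersion g' ∧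
      Set.range g' = Set.range g ∩ (W : Set X) ∧
      EtCoh.IsFiniteLocallyConstant ((EtCoh.pull g').obj F) := by
  refine ⟨pullback g W.ι, pullback.fst g W.ι ≫ g, inferInstance, ?_, flc_pull_comp F _ _ g _ h⟩
  have := Scheme.Pullback.range_fst_comp g W.ι
  rw [Scheme.Opens.range_ι] at this
  exact this

theorem strata_of_goodAt [IsLocallyNoetherian X] (F : EtCoh.Ab X) (H : ∀ x, GoodAt F x)
    (U : X.Opens) (hU : IsAffineOpen U) :
    Strata (U : Set X) (fun T g => EtCoh.IsFiniteLocallyConstant ((EtCoh.pull g).obj F)) := by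
  haveI : IsNoetherianRing Γ(X, U) := IsLocallyNoetherian.component_noetherian ⟨U, hU⟩
  haveI hN : NoetherianSpace ↥(U : Set X) := noetherianSpace_of_isAffineOpen U hU
  haveI hQ : QuasiSober ↥(U : Set X) := inferInstanceAs (QuasiSober (U : Scheme.{u}))
  let C : Set X → Prop := fun R =>
    Topology.IsConstructible ((Subtype.val : ↥(U : Set X) → X) ⁻¹' R)
  let P : ∀ (T : Scheme.{u}), (T ⟶ X) → Prop := fun T g =>
    EtCoh.IsFiniteLocallyConstant ((EtCoh.pull g).obj F)
  have key : ∀ Z : Closeds ↥(U : Set X),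
      StrataC C ((Subtype.val : ↥(U : Set X) → X) '' (Z : Set ↥(U : Set X))) P := by
    intro Z
    refine wellFounded_lt.induction (C := fun Z : Closeds ↥(U : Set X) =>
      StrataC C ((Subtype.val : ↥(U : Set X) → X) '' (Z : Set ↥(U : Set X))) P) Z ?_
    intro Z ih
    by_cases hZ : Z = ⊥
    · subst hZ
      have : (Subtype.val : ↥(U : Set X) → X) '' ((⊥ : Closeds ↥(U : Set X)) : Set ↥(U : Set X)) = ∅ := by
        simp
      rw [this]
      exact StrataC.empty C P
    · obtain ⟨xY, O, hO, hxO, hxZ, hZO⟩ := exists_generic_open Z hZ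
      obtain ⟨O₂, hO₂, rfl⟩ := isOpen_induced_iff.1 hO
      obtain ⟨V, T, g, hg, hxV, hrange, hflc⟩ := H xY.1
      haveI := hg
      let W : X.Opens := V ⊓ ⟨O₂, hO₂⟩ ⊓ U
      have hxW : xY.1 ∈ W := ⟨⟨hxV, hxO⟩, xY.2⟩
      obtain ⟨T', g', hg', hrange', hflc'⟩ := exists_restrict F g hflc W
      haveI := hg'
      have hpiece : Set.range g' = (W : Set X) ∩ closure {xY.1} := by
        rw [hrange']
        change Set.range g.base ∩ (W : Set X) = _
        rw [hrange]
        ext p
        constructor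
        · rintro ⟨⟨-, hp2⟩, hpW⟩
          exact ⟨hpW, hp2⟩
        · rintro ⟨hpW, hp2⟩
          exact ⟨⟨hpW.1.1, hp2⟩, hpW⟩
      let Z₃ : Closeds ↥(U : Set X) :=
        ⟨(Z : Set ↥(U : Set X)) ∩ ((Subtype.val : ↥(U : Set X) → X) ⁻¹' (W : Set X))ᶜ,
          Z.isClosed.inter (W.isOpen.preimage continuous_subtype_val).isClosed_compl⟩
      have hlt : Z₃ < Z := by
        refine lt_of_le_of_ne (fun z hz => hz.1) ?_
        intro heq
        have : xY ∈ (Z₃ : Set ↥(U : Set X)) := by rw [heq]; exact hxZ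
        exact this.2 hxW
      have s3 := ih Z₃ hlt
      have hcl : ∀ z : ↥(U : Set X), z ∈ closure {xY} ↔ z.1 ∈ closure {xY.1} := by
        intro z
        rw [closure_subtype, Set.image_singleton]
      have s1 : StrataC C (Set.range g') P := by
        refine StrataC.single g' ?_ hflc'
        exact isConstructible_of_isLocallyClosed
          (g'.isLocallyClosed_range.preimage continuous_subtype_val)
      have hdisj : Disjoint (Set.range g')
          ((Subtype.val : ↥(U : Set X) → X) '' (Z₃ : Set ↥(U : Set X))) := by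
        rw [Set.disjoint_left]
        rintro p hp ⟨z, hz, rfl⟩
        rw [hpiece] at hp
        exact hz.2 hp.1
      have hunion : (Subtype.val : ↥(U : Set X) → X) '' (Z : Set ↥(U : Set X)) =
          Set.range g' ∪ (Subtype.val : ↥(U : Set X) → X) '' (Z₃ : Set ↥(U : Set X)) := by
        rw [hpiece]
        ext p
        constructor
        · rintro ⟨z, hz, rfl⟩
          by_cases hzW : z.1 ∈ W
          · left
            refine ⟨hzW, ?_⟩
            have hzO : z ∈ Subtype.val ⁻¹' O₂ := hzW.1.2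
            exact (hcl z).1 (hZO ⟨hz, hzO⟩)
          · right
            exact ⟨z, ⟨hz, hzW⟩, rfl⟩
        · rintro (⟨hpW, hpc⟩ | ⟨z, hz, rfl⟩)
          · refine ⟨⟨p, hpW.2⟩, ?_, rfl⟩
            have h1 : (⟨p, hpW.2⟩ : ↥(U : Set X)) ∈ closure {xY} := (hcl _).2 hpc
            exact (Z.isClosed.closure_subset_iff.2 (Set.singleton_subset_iff.2 hxZ)) h1
          · exact ⟨z, hz.1, rfl⟩
      rw [hunion]
      exact s1.union s3 hdisj
  have htop := key ⊤
  have himg : (Subtype.val : ↥(U : Set X) → X) '' ((⊤ : Closeds ↥(U : Set X)) : Set ↥(U : Set X)) =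
      (U : Set X) := by
    simp
  rw [himg] at htop
  exact htop

/-- **pointwise criterion for constructibility on a locally Noetherian scheme** -/
theorem constructible_iff_goodAt [IsLocallyNoetherian X] (F : EtCoh.Ab X) :
    EtPBC.IsConstructible F ↔ ∀ x : X, GoodAt F x := by
  constructor
  · intro hF x
    obtain ⟨_, ⟨U, hU, rfl⟩, hxU, -⟩ :=
      X.isBasis_affineOpens.exists_subset_of_mem_open (Set.mem_univ x) isOpen_univ
    obtain ⟨n, T, g, h1, h2, h3, h4, h5⟩ := (adaptedStrata_iff F _).1 (hF U hU)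
    have hx : x ∈ ⋃ i, Set.range (g i) := by rw [h4]; exact hxU
    obtain ⟨i, hi⟩ := Set.mem_iUnion.1 hx
    haveI := h1 i
    obtain ⟨O, K, hO, hK, hOK⟩ := (g i).isLocallyClosed_range
    have hxOK : x ∈ O ∩ K := by rw [← hOK]; exact hi
    have hclK : closure {x} ⊆ K := hK.closure_subset_iff.2 (Set.singleton_subset_iff.2 hxOK.2)
    let V : X.Opens := ⟨O, hO⟩
    let V' : X.Opens := ⟨(closure {x})ᶜ, isClosed_closure.isOpen_compl⟩
    obtain ⟨Y', j, hj, hjr⟩ := exists_immersion_range_sdiff V V'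
    haveI := hj
    refine ⟨V, pullback (g i) j, pullback.fst (g i) j ≫ g i, inferInstance, hxOK.1, ?_,
      flc_pull_comp F _ _ (g i) _ (h5 i)⟩
    have hr : Set.range (pullback.fst (g i) j ≫ g i) = Set.range (g i) ∩ Set.range j :=
      Scheme.Pullback.range_fst_comp _ _
    change Set.range (pullback.fst (g i) j ≫ g i) = _
    rw [hr, hjr, hOK]
    ext p
    constructor
    · rintro ⟨-, hpV, hpn⟩
      refine ⟨hpV, ?_⟩
      by_contra hc
      exact hpn hc
    · rintro ⟨hpV, hpc⟩
      exact ⟨⟨hpV, hclK hpc⟩, hpV, fun hn => hn hpc⟩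
  · intro H U hU
    rw [adaptedStrata_iff]
    exact strata_of_goodAt F H U hU

end Groth.Agent.Lib.T2H8.ConstrNoeth
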