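import Mathlib
import Groth.Prelude.Def_PBC
import Groth.Agent.Lib.T2H8ConstrNoeth
import Groth.Agent.Lib.T2H8EtZarSheaf

/-!
# Subsheaves of constructible sheaves on Noetherian schemes (helper8)
-/

set_option autoImplicit false
set_option linter.unusedSectionVars false
set_option linter.style.haveILetI false
universe u
open CategoryTheory CategoryTheory.Limits Opposite AlgebraicGeometry TopologicalSpace

namespace Groth.Agent.Lib.T2H8.ConstrSub
open Groth.Agent.Lib.T2H8.Constr Groth.Agent.Lib.T2H8.ConstrNoeth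
open Groth.Agent.Lib.T2H8.LocTriv Groth.Agent.Lib.T2H8AgreeAb Groth.Agent.Lib.T2H8EtZarSheaf
open Groth.Agent.Lib.Helper16.SmallEtale

variable {T : Scheme.{u}}

/-- a morphism with range in an open factors through it (scheme level) -/
noncomputable def liftSch {Z U : T.Etale} (g : Z ⟶ U) (A : U.left.Opens)
    (h : Set.range g.left ⊆ (A : Set U.left)) : Z.left ⟶ (A : Scheme.{u}) :=
  IsOpenImmersion.lift (X := (A : Scheme.{u})) (Y := Z.left) (Z := U.left) A.ι g.left
    (by rw [Scheme.Opens.range_ι]; exact h)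

theorem liftSch_ι {Z U : T.Etale} (g : Z ⟶ U) (A : U.left.Opens)
    (h : Set.range g.left ⊆ (A : Set U.left)) : liftSch g A h ≫ A.ι = g.left :=
  IsOpenImmersion.lift_fac (X := (A : Scheme.{u})) (Y := Z.left) (Z := U.left) A.ι g.left _

/-- a morphism with range in an open factors through it -/
noncomputable def liftOpn {Z U : T.Etale} (g : Z ⟶ U) (A : U.left.Opens)
    (h : Set.range g.left ⊆ (A : Set U.left)) : Z ⟶ opn U A :=
  MorphismProperty.Over.homMk (liftSch g A h)
    (by
      change liftSch g A h ≫ A.ι ≫ U.hom = Z.hom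
      rw [← Category.assoc, liftSch_ι]
      exact MorphismProperty.Over.w g)

theorem liftOpn_ι {Z U : T.Etale} (g : Z ⟶ U) (A : U.left.Opens)
    (h : Set.range g.left ⊆ (A : Set U.left)) : liftOpn g A h ≫ opnι U A = g := by
  apply MorphismProperty.Over.Hom.ext
  exact liftSch_ι g A h

theorem range_opnι (U : T.Etale) (A : U.left.Opens) :
    Set.range (opnι U A).left = (A : Set U.left) := by
  change Set.range A.ι = _
  exact Scheme.Opens.range_ι A

theorem map_comp_apply (H : EtCoh.Ab T) {U Y Z : T.Etale} (f : Y ⟶ U) (g : Z ⟶ Y)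
    (x : H.obj.obj (op U)) : H.obj.map (g ≫ f).op x = H.obj.map g.op (H.obj.map f.op x) :=
  (map_map_apply H f g x).symm

/-- a section vanishing locally at every point of an open vanishes on that open -/
theorem map_opnι_eq_zero (H : EtCoh.Ab T) {U : T.Etale} (q : H.obj.obj (op U))
    (A : U.left.Opens) (hA : (A : Set U.left) ⊆ agree H q 0) :
    H.obj.map (opnι U A).op q = 0 := by
  apply eq_of_agree_eq_univ H
  intro v
  have hv : (opnι U A).left v ∈ agree H q 0 := hA (by
    rw [← range_opnι U A]; exact ⟨v, rfl⟩)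
  obtain ⟨W, g, w, hw, hg⟩ := hv
  let B : W.left.Opens := g.left ⁻¹ᵁ A
  have hr : Set.range (opnι W B ≫ g).left ⊆ (A : Set U.left) := by
    rintro _ ⟨b, rfl⟩
    exact b.2
  let g' : opn W B ⟶ opn U A := liftOpn (opnι W B ≫ g) A hr
  have hg' : g' ≫ opnι U A = opnι W B ≫ g := liftOpn_ι _ _ _
  have hwB : w ∈ B := by
    change g.left w ∈ A
    rw [hw, ← SetLike.mem_coe, ← range_opnι U A]
    exact ⟨v, rfl⟩
  refine ⟨opn W B, g', ⟨w, hwB⟩, ?_, ?_⟩
  · have h1 : (opnι U A).left (g'.left ⟨w, hwB⟩) = (opnι U A).left v := by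
      have := congrArg (fun k => k.left (⟨w, hwB⟩ : B)) hg'
      simp only at this
      change (opnι U A).left (g'.left ⟨w, hwB⟩) = g.left ((opnι W B).left ⟨w, hwB⟩) at this
      rw [this]
      exact hw
    exact (A.ι.isOpenEmbedding.injective h1)
  · rw [← map_comp_apply, hg', map_comp_apply, hg, map_zero, map_zero, map_zero]


theorem agree_zero_zero (H : EtCoh.Ab T) {U : T.Etale} (v : U.left) :
    v ∈ agree H (0 : H.obj.obj (op U)) 0 :=
  ⟨U, 𝟙 U, v, rfl, rfl⟩

theorem agree_neg (H : EtCoh.Ab T) {U : T.Etale} (a : H.obj.obj (op U)) :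
    agree H a 0 ⊆ agree H (-a) 0 := by
  rintro v ⟨W, g, w, hw, hg⟩
  refine ⟨W, g, w, hw, ?_⟩
  rw [map_neg, hg, map_zero, neg_zero]

theorem agree_add (H : EtCoh.Ab T) {U : T.Etale} (a b : H.obj.obj (op U)) :
    agree H a 0 ∩ agree H b 0 ⊆ agree H (a + b) 0 := by
  rintro v ⟨hva, hvb⟩
  let A : U.left.Opens := ⟨agree H a 0 ∩ agree H b 0, (isOpen_agree H a 0).inter (isOpen_agree H b 0)⟩
  have h1 := map_opnι_eq_zero H a A Set.inter_subset_left
  have h2 := map_opnι_eq_zero H b A Set.inter_subset_right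
  refine ⟨opn U A, opnι U A, ⟨v, ⟨hva, hvb⟩⟩, rfl, ?_⟩
  rw [map_add, h1, h2, add_zero, map_zero]

/-- finitely many nonempty opens of an irreducible space meet -/
theorem nonempty_iInter_of_irreducible {Y : Type*} [TopologicalSpace Y] [IrreducibleSpace Y]
    {ι : Type*} [Finite ι] (A : ι → Set Y) (hA : ∀ i, IsOpen (A i)) (hne : ∀ i, (A i).Nonempty) :
    (⋂ i, A i).Nonempty := by
  classical
  haveI := Fintype.ofFinite ι
  have h := (isIrreducible_iff_sInter (s := (Set.univ : Set Y))).1
    (IrreducibleSpace.isIrreducible_univ Y) (Finset.univ.image A)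
    (by
      intro u hu
      obtain ⟨i, -, rfl⟩ := Finset.mem_image.1 hu
      exact hA i)
    (by
      intro u hu
      obtain ⟨i, -, rfl⟩ := Finset.mem_image.1 hu
      rw [Set.univ_inter]
      exact hne i)
  obtain ⟨y, -, hy⟩ := h
  refine ⟨y, Set.mem_iInter.2 (fun i => ?_)⟩
  exact Set.mem_sInter.1 hy (A i) (Finset.mem_coe.2 (Finset.mem_image.2 ⟨i, Finset.mem_univ i, rfl⟩))

section KL
open Groth.Agent.Lib.T2H8.LocTrivExact Groth.Agent.Lib.T2H8.LocTrivPull

variable (S : ShortComplex (Sheaf T.smallEtaleTopology AddCommGrpCat.{u + 1}))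
  {U : T.Etale} {M : AddCommGrpCat.{u + 1}} (t : M ⟶ S.X₂.obj.obj (op U))

/-- the obstruction to lying in the subsheaf -/
noncomputable def obs (m : M) : S.X₃.obj.obj (op U) := S.g.hom.app (op U) (t m)

theorem obs_map {Y : T.Etale} (k : Y ⟶ U) (m : M) :
    S.X₃.obj.map k.op (obs S t m) = S.g.hom.app (op Y) (S.X₂.obj.map k.op (t m)) :=
  (NatTrans.naturality_apply S.g.hom k.op (t m)).symm

variable [IrreducibleSpace U.left]

/-- the elements generically in the subsheaf -/
noncomputable def genSub : AddSubgroup M where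
  carrier := {m | (agree S.X₃ (obs S t m) 0).Nonempty}
  zero_mem' := by
    obtain ⟨v⟩ := (inferInstance : Nonempty U.left)
    refine ⟨v, ?_⟩
    have : obs S t 0 = 0 := by
      change S.g.hom.app (op U) (t 0) = 0
      rw [map_zero, map_zero]
    rw [this]
    exact agree_zero_zero S.X₃ v
  add_mem' := by
    intro m m' hm hm'
    have h1 : obs S t (m + m') = obs S t m + obs S t m' := by
      change S.g.hom.app (op U) (t (m + m')) = _
      rw [map_add, map_add]
      rfl
    have h2 := nonempty_preirreducible_inter (isOpen_agree S.X₃ (obs S t m) 0)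
      (isOpen_agree S.X₃ (obs S t m') 0) hm hm'
    obtain ⟨v, hv⟩ := h2
    refine ⟨v, ?_⟩
    rw [h1]
    exact agree_add S.X₃ _ _ hv
  neg_mem' := by
    intro m hm
    obtain ⟨v, hv⟩ := hm
    have h1 : obs S t (-m) = -obs S t m := by
      change S.g.hom.app (op U) (t (-m)) = _
      rw [map_neg, map_neg]
      rfl
    refine ⟨v, ?_⟩
    rw [h1]
    exact agree_neg S.X₃ _ hv

variable [Finite M]

/-- the open where all generic elements lie in the subsheaf -/
noncomputable def genOpen : U.left.Opens :=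
  ⟨⋂ m : genSub S t, agree S.X₃ (obs S t m.1) 0,
    isOpen_iInter_of_finite (fun m => isOpen_agree S.X₃ (obs S t m.1) 0)⟩

theorem genOpen_nonempty : ((genOpen S t : U.left.Opens) : Set U.left).Nonempty :=
  nonempty_iInter_of_irreducible _ (fun m => isOpen_agree S.X₃ (obs S t m.1) 0) (fun m => m.2)

variable {S} (hS : S.Exact) [Mono S.f]

include hS in
theorem gen_lift (m : genSub S t) :
    ∃ x : S.X₁.obj.obj (op (opn U (genOpen S t))),
      S.f.hom.app (op (opn U (genOpen S t))) x =
        S.X₂.obj.map (opnι U (genOpen S t)).op (t m.1) := by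
  apply exists_lift S hS
  rw [← obs_map]
  exact map_opnι_eq_zero S.X₃ _ _ (Set.iInter_subset _ m)

/-- the trivializing map of the subsheaf on the generic open -/
noncomputable def tGen : AddCommGrpCat.of (genSub S t) ⟶ S.X₁.obj.obj (op (opn U (genOpen S t))) :=
  AddCommGrpCat.ofHom (AddMonoidHom.mk' (fun m => (gen_lift t hS m).choose) (by
    intro m m'
    apply f_injective S
    rw [map_add, (gen_lift t hS m).choose_spec, (gen_lift t hS m').choose_spec,
      (gen_lift t hS (m + m')).choose_spec]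
    change S.X₂.obj.map (opnι U (genOpen S t)).op (t (m.1 + m'.1)) = _
    rw [map_add, map_add]))

theorem f_tGen (m : genSub S t) :
    S.f.hom.app (op (opn U (genOpen S t))) (tGen t hS m) =
      S.X₂.obj.map (opnι U (genOpen S t)).op (t m.1) :=
  (gen_lift t hS m).choose_spec

theorem isTriv_gen (ht : IsTriv S.X₂ U M t) :
    IsTriv S.X₁ (opn U (genOpen S t)) (AddCommGrpCat.of (genSub S t)) (tGen t hS) := by
  have key : ∀ (Y : T.Etale) (f' : Y ⟶ opn U (genOpen S t)) (m : genSub S t),
      S.f.hom.app (op Y) (S.X₁.obj.map f'.op (tGen t hS m)) =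
        S.X₂.obj.map (f' ≫ opnι U (genOpen S t)).op (t m.1) := by
    intro Y f' m
    have n := NatTrans.naturality_apply S.f.hom f'.op (tGen t hS m)
    rw [n, f_tGen, map_map_apply]
  constructor
  · intro Y f' m m' hm
    have h1 := congrArg (S.f.hom.app (op Y)) hm
    rw [key, key] at h1
    rcases ht.inj Y (f' ≫ opnι U (genOpen S t)) m.1 m'.1 h1 with h2 | h2
    · exact Or.inl (Subtype.ext h2)
    · exact Or.inr h2
  · intro Y f' z
    refine T.smallEtaleTopology.transitive
      (ht.surj Y (f' ≫ opnι U (genOpen S t)) (S.f.hom.app (op Y) z)) _ ?_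
    rintro Z g ⟨m, hm⟩
    by_cases hZ : IsEmpty Z.left
    · exact mem_of_bot_mem (bot_mem_of_isEmpty Z hZ) _
    · rw [not_isEmpty_iff] at hZ
      obtain ⟨z₀⟩ := hZ
      have hmN : m ∈ genSub S t := by
        refine ⟨(g ≫ f' ≫ opnι U (genOpen S t)).left z₀, Z, g ≫ f' ≫ opnι U (genOpen S t), z₀,
          rfl, ?_⟩
        rw [obs_map, hm, map_zero]
        have n2 := NatTrans.naturality_apply S.f.hom g.op z
        rw [← n2]
        exact zero_apply S _
      apply pullback_mem_of_mem
      refine ⟨⟨m, hmN⟩, ?_⟩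
      apply f_injective S Z
      rw [key]
      have n3 := NatTrans.naturality_apply S.f.hom g.op z
      rw [n3, Category.assoc]
      exact hm

end KL


/-- a nonempty étale scheme over a locally Noetherian scheme has a nonempty irreducible open -/
theorem exists_irreducible_open [IsLocallyNoetherian T] (U : T.Etale) (u : U.left) :
    ∃ A : U.left.Opens, (A : Set U.left).Nonempty ∧ IsIrreducible (A : Set U.left) := by
  haveI : Etale U.hom := U.prop
  haveI : IsLocallyNoetherian U.left :=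
    @LocallyOfFiniteType.isLocallyNoetherian U.left T U.hom inferInstance ‹IsLocallyNoetherian T›
  obtain ⟨A₁, hA₁, huA₁, -⟩ := exists_isAffineOpen_mem_and_subset (x := u)
    (U := (⊤ : U.left.Opens)) trivial
  haveI : IsNoetherianRing Γ(U.left, A₁) := IsLocallyNoetherian.component_noetherian ⟨A₁, hA₁⟩
  haveI hN : NoetherianSpace ↥(A₁ : Set U.left) := noetherianSpace_of_isAffineOpen A₁ hA₁
  haveI hQ : QuasiSober ↥(A₁ : Set U.left) := inferInstanceAs (QuasiSober (A₁ : Scheme.{u}))
  have hne : (⊤ : Closeds ↥(A₁ : Set U.left)) ≠ ⊥ := by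
    intro h
    have : (⟨u, huA₁⟩ : ↥(A₁ : Set U.left)) ∈ ((⊥ : Closeds ↥(A₁ : Set U.left)) : Set _) := by
      rw [← h]; trivial
    exact this
  obtain ⟨x, O, hO, hxO, -, hsub⟩ := exists_generic_open (⊤ : Closeds ↥(A₁ : Set U.left)) hne
  have hOirr : IsIrreducible O := by
    refine ⟨⟨x, hxO⟩, ?_⟩
    have h1 : IsPreirreducible (closure ({x} : Set ↥(A₁ : Set U.left))) :=
      (isIrreducible_singleton.closure).isPreirreducible
    exact h1.open_subset hO (fun y hy => hsub ⟨trivial, hy⟩)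
  have hopen : IsOpen ((Subtype.val : ↥(A₁ : Set U.left) → U.left) '' O) :=
    A₁.isOpen.isOpenMap_subtype_val O hO
  refine ⟨⟨_, hopen⟩, ⟨x.1, x, hxO, rfl⟩, ?_⟩
  exact hOirr.image _ continuous_subtype_val.continuousOn

section Generic
open Groth.Agent.Lib.T2H8.LocTrivExact Groth.Agent.Lib.T2H8.FLCSerre Groth.Agent.Lib.T2H8.FLCPull

/-- a subsheaf of a finite locally constant sheaf on a locally Noetherian scheme is finite locally
constant on a nonempty open -/
theorem exists_open_finTrivAt [IsLocallyNoetherian T] [Nonempty T]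
    (S : ShortComplex (Sheaf T.smallEtaleTopology AddCommGrpCat.{u + 1})) (hS : S.Exact) [Mono S.f]
    (hF : EtCoh.IsFiniteLocallyConstant S.X₂) :
    ∃ T₀ : T.Opens, (T₀ : Set T).Nonempty ∧ ∀ p ∈ T₀, FinTrivAt S.X₁ p := by
  obtain ⟨p⟩ := (inferInstance : Nonempty T)
  obtain ⟨U, u, hu, M, hM, t, ht⟩ := finTrivAt_of_flc S.X₂ hF p
  obtain ⟨A, hAne, hAirr⟩ := exists_irreducible_open U u
  haveI : IrreducibleSpace (opn U A).left := Subtype.irreducibleSpace hAirr
  haveI := hM
  have ht' := ht.restrict S.X₂ (opnι U A)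
  have hW := isTriv_gen (t ≫ S.X₂.obj.map (opnι U A).op) hS ht'
  let W : T.Etale := opn (opn U A) (genOpen S (t ≫ S.X₂.obj.map (opnι U A).op))
  haveI : Etale W.hom := W.prop
  refine ⟨⟨Set.range W.hom, W.hom.isOpenMap.isOpen_range⟩, ?_, ?_⟩
  · obtain ⟨w, hw⟩ := genOpen_nonempty S (t ≫ S.X₂.obj.map (opnι U A).op)
    exact ⟨W.hom ⟨w, hw⟩, ⟨w, hw⟩, rfl⟩
  · rintro _ ⟨w, rfl⟩
    haveI : Finite (AddCommGrpCat.of (genSub S (t ≫ S.X₂.obj.map (opnι U A).op))) :=
      inferInstanceAs (Finite (genSub S (t ≫ S.X₂.obj.map (opnι U A).op)))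
    exact ⟨W, w, rfl, _, inferInstance, _, hW⟩

end Generic


section Main
open Groth.Agent.Lib.T2H8.FLCSerre Groth.Agent.Lib.T2H8.FLCPull

variable {X : Scheme.{u}}

/-- the pointwise datum passes to subsheaves -/
theorem goodAt_of_mono [IsLocallyNoetherian X] {F G : EtCoh.Ab X} (ι : G ⟶ F) [Mono ι] (x : X)
    (h : GoodAt F x) : GoodAt G x := by
  obtain ⟨V, T, g, hg, hxV, hrange, hflc⟩ := h
  haveI := hg
  haveI : IsLocallyNoetherian T := LocallyOfFiniteType.isLocallyNoetherian g
  have hxr : x ∈ Set.range g.base := by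
    rw [hrange]
    exact ⟨hxV, subset_closure rfl⟩
  obtain ⟨t₁, ht₁⟩ := hxr
  haveI : Nonempty T := ⟨t₁⟩
  let f' := (EtCoh.pull g).map ι
  haveI : Mono f' := inferInstanceAs (Mono ((EtCoh.pull g).map ι))
  let S : ShortComplex (Sheaf T.smallEtaleTopology AddCommGrpCat.{u + 1}) :=
    ShortComplex.mk f' (cokernel.π f') (cokernel.condition f')
  have hS : S.Exact := ShortComplex.exact_cokernel f'
  haveI : Mono S.f := inferInstanceAs (Mono f')
  obtain ⟨T₀, hT₀ne, hT₀⟩ := exists_open_finTrivAt S hS hflc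
  obtain ⟨V₀, hV₀, hV₀T⟩ := g.isEmbedding.isOpen_iff.1 T₀.isOpen
  have hxV₀ : x ∈ V₀ := by
    obtain ⟨t₀, ht₀⟩ := hT₀ne
    have h1 : g.base t₀ ∈ V₀ := by
      have : t₀ ∈ g.base ⁻¹' V₀ := by rw [hV₀T]; exact ht₀
      exact this
    have h2 : g.base t₀ ∈ closure ({x} : Set X) := by
      have : g.base t₀ ∈ Set.range g.base := ⟨t₀, rfl⟩
      rw [hrange] at this
      exact this.2
    obtain ⟨y, hy1, hy2⟩ := mem_closure_iff.1 h2 V₀ hV₀ h1
    rw [Set.mem_singleton_iff.1 hy2] at hy1
    exact hy1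
  refine ⟨V ⊓ ⟨V₀, hV₀⟩, (T₀ : Scheme.{u}), T₀.ι ≫ g, inferInstance, ⟨hxV, hxV₀⟩, ?_, ?_⟩
  · change Set.range (T₀.ι ≫ g) = _
    rw [Scheme.Hom.comp_base, TopCat.coe_comp, Set.range_comp, Scheme.Opens.range_ι]
    have h3 : (T₀ : Set T) = g.base ⁻¹' V₀ := hV₀T.symm
    rw [h3, Set.image_preimage_eq_inter_range]
    change V₀ ∩ Set.range g.base = _
    rw [hrange]
    ext p
    constructor
    · rintro ⟨h1, h2, h3⟩
      exact ⟨⟨h2, h1⟩, h3⟩
    · rintro ⟨⟨h2, h1⟩, h3⟩
      exact ⟨h1, h2, h3⟩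
  · refine flc_of_iso ((EtCore.pullComp T₀.ι g).app G).symm ?_
    apply flc_of_finTrivAt
    intro p'
    exact trivAt_pull T₀.ι _ ((EtCoh.pull g).obj G) p' (hT₀ _ p'.2)

/-- **subsheaves of constructible sheaves on locally Noetherian schemes are constructible** -/
theorem constructible_of_mono [IsLocallyNoetherian X] {F G : EtCoh.Ab X} (ι : G ⟶ F) [Mono ι]
    (hF : EtPBC.IsConstructible F) : EtPBC.IsConstructible G := by
  rw [constructible_iff_goodAt] at hF ⊢
  intro x
  exact goodAt_of_mono ι x (hF x)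

theorem constructible_of_iso {F G : EtCoh.Ab X} (e : F ≅ G) (hF : EtPBC.IsConstructible F) :
    EtPBC.IsConstructible G := by
  intro U hU
  rw [adaptedStrata_iff]
  exact ((adaptedStrata_iff F _).1 (hF U hU)).mono
    (fun T g h => flc_of_iso ((EtCoh.pull g).mapIso e) h)

/-- **quotients of constructible sheaves on locally Noetherian schemes are constructible** -/
theorem constructible_of_epi [IsLocallyNoetherian X] {F Q : EtCoh.Ab X} (π : F ⟶ Q) [Epi π]
    (hF : EtPBC.IsConstructible F) : EtPBC.IsConstructible Q := by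
  have hK : EtPBC.IsConstructible (kernel π) := constructible_of_mono (kernel.ι π) hF
  have hC := (constructible_kernel_cokernel (kernel.ι π) hK hF).2
  have hex : (ShortComplex.mk (kernel.ι π) π (kernel.condition π)).Exact :=
    ShortComplex.exact_kernel π
  let e : cokernel (kernel.ι π) ≅ Q :=
    IsColimit.coconePointUniqueUpToIso (cokernelIsCokernel (kernel.ι π)) hex.gIsCokernel
  exact constructible_of_iso e hC

end Main

end Groth.Agent.Lib.T2H8.ConstrSub
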