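import Mathlib
import Groth.Prelude.Def_EtBase
import Groth.Prelude.Def_PBC
import Groth.Agent.Lib.T2H8LocTrivPull
import Groth.Agent.Lib.T2H8FLCSerre
import Groth.Agent.Lib.Helper16EtStalk
import Groth.Agent.S0101
import Groth.Agent.Lib.T2H8Constr
import Groth.Agent.Lib.T2H8ConstrTop

set_option autoImplicit false
set_option linter.unusedSectionVars false
set_option linter.style.haveILetI false
universe u
open CategoryTheory CategoryTheory.Limits Opposite AlgebraicGeometry

namespace Groth.Agent.Lib.T2H8.Supp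
open Groth.Agent.Lib.T2H8.FLC Groth.Agent.Lib.T2H8.LocTriv Groth.Agent.Lib.T2H8.FLCSerre
open Groth.Agent.Lib.Helper16.SmallEtale Groth.Agent.Lib.Helper16.EtStalk

variable {X : Scheme.{u}}

set_option backward.isDefEq.respectTransparency.types false in
/-- germs of a trivialized sheaf are distinct for distinct elements of the trivializing group -/
theorem germ_injective {F : EtCoh.Ab X} {U : X.Etale} {M : AddCommGrpCat.{u + 1}}
    {t : M ⟶ F.obj.obj (op U)} (ht : IsTriv F U M t)
    {Ω : Type u} [Field Ω] [IsSepClosed Ω] (ξ : Spec (CommRingCat.of Ω) ⟶ X)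
    (u₀ : (Scheme.pointSmallEtale ξ).fiber.obj U) (m m' : M)
    (h : (Scheme.pointSmallEtale ξ).toPresheafFiber U u₀ F.obj (t m) =
      (Scheme.pointSmallEtale ξ).toPresheafFiber U u₀ F.obj (t m')) : m = m' := by
  let Φ := Scheme.pointSmallEtale ξ
  obtain ⟨W, g, w, hw, hg⟩ := (Φ.toPresheafFiber_eq_iff' U u₀ _ _).mp h
  rcases ht.inj W g m m' hg with h1 | h1
  · exact h1
  · exact absurd h1 (bot_not_mem
      ((w.left : Spec (CommRingCat.of Ω) ⟶ W.left) (default : Spec (CommRingCat.of Ω))))

set_option backward.isDefEq.respectTransparency.types false in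
/-- the stalk of a trivialized sheaf vanishes iff the trivializing group does -/
theorem isZero_stalk_iff {F : EtCoh.Ab X} {U : X.Etale} {M : AddCommGrpCat.{u + 1}}
    {t : M ⟶ F.obj.obj (op U)} (ht : IsTriv F U M t)
    {Ω : Type u} [Field Ω] [IsSepClosed Ω] (ξ : Spec (CommRingCat.of Ω) ⟶ X)
    (u₀ : (Scheme.pointSmallEtale ξ).fiber.obj U) :
    IsZero ((EtCoh.stalk ξ).obj F) ↔ Subsingleton M := by
  rw [AddCommGrpCat.isZero_iff_subsingleton]
  constructor
  · intro hs
    refine ⟨fun m m' => germ_injective ht ξ u₀ m m' ?_⟩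
    exact hs.elim (α := ((Scheme.pointSmallEtale ξ).presheafFiber.obj F.obj : AddCommGrpCat.{u + 1})) _ _
  · intro hs
    refine ⟨fun a b => ?_⟩
    obtain ⟨m, rfl⟩ := Groth.Agent.Lib.T2H8.LocTrivPull.germ_surjective ht ξ u₀ a
    obtain ⟨m', rfl⟩ := Groth.Agent.Lib.T2H8.LocTrivPull.germ_surjective ht ξ u₀ b
    rw [Subsingleton.elim m m']


theorem range_eq_singleton {Ω : Type u} [Field Ω] (ξ : Spec (CommRingCat.of Ω) ⟶ X) :
    Set.range ξ = {ξ default} := Set.range_unique

set_option backward.isDefEq.respectTransparency.types false in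
/-- over a trivializing chart, the support is everything or nothing -/
theorem mem_supp_iff_of_chart {H : EtCoh.Ab X} {U : X.Etale} {M : AddCommGrpCat.{u + 1}}
    {t : M ⟶ H.obj.obj (op U)} (ht : IsTriv H U M t) (u' : U.left) :
    U.hom u' ∈ EtPBC.supp H ↔ ¬ Subsingleton M := by
  constructor
  · rintro ⟨Ω, _, _, ξ, hξ, hnz⟩
    have h0 : ξ default = U.hom u' := by
      have : ξ default ∈ Set.range ξ := ⟨default, rfl⟩
      rw [hξ] at this
      exact this
    obtain ⟨l, hl1, hl2⟩ := Scheme.exists_fac_of_etale_of_isSepClosed U.hom ξ u' h0.symm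
    let u₀ : (Scheme.pointSmallEtale ξ).fiber.obj U := Over.homMk l hl1
    exact fun hs => hnz ((isZero_stalk_iff ht ξ u₀).mpr hs)
  · intro hM
    obtain ⟨Ω, _, _, ξ, x₀, hx₀⟩ := exists_geometric_point U u'
    refine ⟨Ω, inferInstance, inferInstance, ξ, ?_, fun hz => hM ((isZero_stalk_iff ht ξ x₀).mp hz)⟩
    rw [range_eq_singleton]
    have e1 : x₀.left ≫ U.hom = ξ := Over.w x₀
    have e2 : ξ default = U.hom u' := by
      rw [← hx₀]
      exact congrArg (fun m : Spec (CommRingCat.of Ω) ⟶ X => m default) e1.symm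
    rw [e2]


/-- the support of a finite locally constant sheaf is open and closed -/
theorem isClopen_supp_of_flc (H : EtCoh.Ab X) (hH : EtCoh.IsFiniteLocallyConstant H) :
    IsClopen (EtPBC.supp H) := by
  have key : ∀ x : X, ∃ O : Set X, IsOpen O ∧ x ∈ O ∧
      (O ⊆ EtPBC.supp H ∨ O ⊆ (EtPBC.supp H)ᶜ) := by
    intro x
    obtain ⟨U, u, hu, M, hM, t, ht⟩ := finTrivAt_of_flc H hH x
    refine ⟨Set.range U.hom, U.hom.isOpenMap.isOpen_range, ⟨u, hu⟩, ?_⟩
    by_cases hs : Subsingleton M
    · right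
      rintro _ ⟨u', rfl⟩ hmem
      exact (mem_supp_iff_of_chart ht u').mp hmem hs
    · left
      rintro _ ⟨u', rfl⟩
      exact (mem_supp_iff_of_chart ht u').mpr hs
  constructor
  · rw [← isOpen_compl_iff, isOpen_iff_forall_mem_open]
    intro x hx
    obtain ⟨O, hO, hxO, h | h⟩ := key x
    · exact absurd (h hxO) hx
    · exact ⟨O, h, hO, hxO⟩
  · rw [isOpen_iff_forall_mem_open]
    intro x hx
    obtain ⟨O, hO, hxO, h | h⟩ := key x
    · exact ⟨O, h, hO, hxO⟩
    · exact absurd hx (h hxO)

/-- clopen sets are constructible -/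
theorem isConstructible_of_isClopen {Y : Type*} [TopologicalSpace Y] {C : Set Y}
    (hC : IsClopen C) : Topology.IsConstructible C := by
  refine IsRetrocompact.isConstructible hC.isOpen ?_
  intro K hK _
  exact hK.inter_left hC.isClosed


/-- a morphism surjective on stalks induces isomorphisms of residue fields -/
theorem isIso_residueFieldMap {T : Scheme.{u}} (g : T ⟶ X) [SurjectiveOnStalks g] (p : T) :
    IsIso (g.residueFieldMap p) := by
  rw [ConcreteCategory.isIso_iff_bijective]
  refine ⟨(g.residueFieldMap p).hom.injective, fun y => ?_⟩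
  obtain ⟨y', rfl⟩ := T.residue_surjective p y
  obtain ⟨z, rfl⟩ := g.stalkMap_surjective p y'
  refine ⟨X.residue (g p) z, ?_⟩
  have := ConcreteCategory.congr_hom (Scheme.residue_residueFieldMap g p) z
  simpa using this

/-- field-valued points lift through (pre)immersions as soon as they land in the image -/
theorem exists_lift_of_surjectiveOnStalks {T : Scheme.{u}} (g : T ⟶ X) [SurjectiveOnStalks g]
    {Ω : Type u} [Field Ω] (ξ : Spec (CommRingCat.of Ω) ⟶ X) (p : T) (h : ξ default = g p) :
    ∃ ξ' : Spec (CommRingCat.of Ω) ⟶ T, ξ' ≫ g = ξ := by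
  obtain ⟨⟨x, a⟩, rfl⟩ := (Scheme.SpecToEquivOfField Ω X).symm.surjective ξ
  obtain rfl : g p = x := by simp [← h, Scheme.SpecToEquivOfField]
  haveI : IsIso (g.residueFieldMap p) := isIso_residueFieldMap g p
  refine ⟨Spec.map (inv (g.residueFieldMap p) ≫ a) ≫ T.fromSpecResidueField p, ?_⟩
  rw [Category.assoc, ← Scheme.Hom.SpecMap_residueFieldMap_fromSpecResidueField,
    ← Category.assoc, ← Spec.map_comp]
  simp [Scheme.SpecToEquivOfField]


set_option backward.isDefEq.respectTransparency.types false in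
/-- the support of the pullback along an immersion -/
theorem supp_inter_range {T : Scheme.{u}} (g : T ⟶ X) [IsImmersion g] (F : EtCoh.Ab X) :
    EtPBC.supp F ∩ Set.range g = g '' EtPBC.supp ((EtCoh.pull g).obj F) := by
  ext x
  constructor
  · rintro ⟨⟨Ω, _, _, ξ, hξ, hnz⟩, p, rfl⟩
    have h0 : ξ default = g p := by
      have : ξ default ∈ Set.range ξ := ⟨default, rfl⟩
      rw [hξ] at this
      exact this
    obtain ⟨ξ', rfl⟩ := exists_lift_of_surjectiveOnStalks g ξ p h0
    refine ⟨p, ⟨Ω, inferInstance, inferInstance, ξ', ?_, ?_⟩, rfl⟩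
    · rw [range_eq_singleton]
      have : ξ' default = p := g.isEmbedding.injective h0
      rw [this]
    · intro hz
      exact hnz (IsZero.of_iso hz ((Groth.Agent.S0101.stalkPullIso g ξ').app F))
  · rintro ⟨p, ⟨Ω, _, _, ξ', hξ', hnz⟩, rfl⟩
    have h0 : ξ' default = p := by
      have : ξ' default ∈ Set.range ξ' := ⟨default, rfl⟩
      rw [hξ'] at this
      exact this
    refine ⟨⟨Ω, inferInstance, inferInstance, ξ' ≫ g, ?_, ?_⟩, p, rfl⟩
    · rw [range_eq_singleton, ← h0]
      rfl
    · intro hz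
      exact hnz (IsZero.of_iso hz ((Groth.Agent.S0101.stalkPullIso g ξ').app F).symm)


set_option backward.isDefEq.respectTransparency.types false in
/-- **the support of a constructible sheaf is locally constructible** -/
theorem isLocallyConstructible_supp (F : EtCoh.Ab X) (hF : EtPBC.IsConstructible F) :
    Topology.IsLocallyConstructible (EtPBC.supp F) := by
  intro x
  let U : X.Opens := (X.affineCover.f (X.affineCover.idx x)).opensRange
  have hU : IsAffineOpen U := isAffineOpen_opensRange _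
  have hxU : x ∈ U := X.affineCover.covers x
  refine ⟨U, U.2.mem_nhds hxU, U.2, ?_⟩
  obtain ⟨n, T, g, h1, h2, h3, h4, h5⟩ :=
    (Groth.Agent.Lib.T2H8.Constr.adaptedStrata_iff F _).1 (hF U hU)
  haveI : IsAffine (U : Scheme.{u}) := hU
  haveI : CompactSpace ↥U := inferInstanceAs (CompactSpace (U : Scheme.{u}))
  haveI : PrespectralSpace ↥U := inferInstanceAs (PrespectralSpace (U : Scheme.{u}))
  haveI : QuasiSeparatedSpace ↥U := inferInstanceAs (QuasiSeparatedSpace (U : Scheme.{u}))
  have hsub : ∀ i, Set.range (g i) ⊆ (U : Set X) := fun i => by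
    rw [← h4]
    exact Set.subset_iUnion (fun i => Set.range (g i)) i
  have heq : (Subtype.val : ↥U → X) ⁻¹' EtPBC.supp F =
      ⋃ i, (Subtype.val : ↥U → X) ⁻¹' ((g i) '' EtPBC.supp ((EtCoh.pull (g i)).obj F)) := by
    ext ⟨y, hy⟩
    simp only [Set.mem_preimage, Set.mem_iUnion]
    constructor
    · intro hys
      have hy' : y ∈ ⋃ i, Set.range (g i) := by rw [h4]; exact hy
      obtain ⟨i, hi⟩ := Set.mem_iUnion.1 hy'
      haveI := h1 i
      refine ⟨i, ?_⟩
      rw [← supp_inter_range]
      exact ⟨hys, hi⟩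
    · rintro ⟨i, hi⟩
      haveI := h1 i
      rw [← supp_inter_range] at hi
      exact hi.1
  change Topology.IsConstructible ((Subtype.val : ↥U → X) ⁻¹' EtPBC.supp F)
  rw [heq]
  refine Topology.IsConstructible.iUnion fun i => ?_
  haveI := h1 i
  let e : T i → ↥U := Set.codRestrict (g i) (U : Set X) (fun t => hsub i ⟨t, rfl⟩)
  have he : Topology.IsEmbedding e := (g i).isEmbedding.codRestrict _ _
  have hre : Set.range e = (Subtype.val : ↥U → X) ⁻¹' Set.range (g i) := by
    ext ⟨y, hy⟩
    constructor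
    · rintro ⟨t, ht⟩
      exact ⟨t, congrArg Subtype.val ht⟩
    · rintro ⟨t, ht⟩
      exact ⟨t, Subtype.ext ht⟩
  have him : (Subtype.val : ↥U → X) ⁻¹' ((g i) '' EtPBC.supp ((EtCoh.pull (g i)).obj F)) =
      e '' EtPBC.supp ((EtCoh.pull (g i)).obj F) := by
    ext ⟨y, hy⟩
    constructor
    · rintro ⟨t, ht, hty⟩
      exact ⟨t, ht, Subtype.ext hty⟩
    · rintro ⟨t, ht, hty⟩
      exact ⟨t, ht, congrArg Subtype.val hty⟩
  rw [him]
  refine Groth.Agent.Lib.T2H8.ConstrTop.isConstructible_image_of_isEmbedding he ?_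
    (isConstructible_of_isClopen (isClopen_supp_of_flc _ (h5 i)))
  rw [hre]
  exact h2 i


set_option backward.isDefEq.respectTransparency.types false in
/-- a map is surjective on a geometric stalk iff the stalk of its cokernel vanishes -/
theorem surjective_stalk_iff {F G : EtCoh.Ab X} (φ : F ⟶ G)
    {Ω : Type u} [Field Ω] [IsSepClosed Ω] (ξ : Spec (CommRingCat.of Ω) ⟶ X) :
    Function.Surjective ((EtCoh.stalk ξ).map φ) ↔ IsZero ((EtCoh.stalk ξ).obj (cokernel φ)) := by
  rw [← AddCommGrpCat.epi_iff_surjective]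
  have e : (EtCoh.stalk ξ).obj (cokernel φ) ≅ cokernel ((EtCoh.stalk ξ).map φ) :=
    PreservesCokernel.iso (EtCoh.stalk ξ) φ
  constructor
  · intro h
    exact IsZero.of_iso (isZero_cokernel_of_epi _) e
  · intro h
    exact Preadditive.epi_of_isZero_cokernel _ (IsZero.of_iso h e.symm)

set_option backward.isDefEq.respectTransparency.types false in
/-- the locus where a map of sheaves is surjective on stalks is the complement of the support of
the cokernel -/
theorem surjective_locus_eq {F G : EtCoh.Ab X} (φ : F ⟶ G) :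
    {x : X | ∀ (Ω : Type u) [Field Ω] [IsSepClosed Ω]
      (ξ : Spec (CommRingCat.of Ω) ⟶ X), Set.range ξ = {x} →
        Function.Surjective ((EtCoh.stalk ξ).map φ)} = (EtPBC.supp (cokernel φ))ᶜ := by
  ext x
  simp only [Set.mem_setOf_eq, Set.mem_compl_iff]
  constructor
  · rintro h ⟨Ω, _, _, ξ, hξ, hnz⟩
    exact hnz ((surjective_stalk_iff φ ξ).mp (h Ω ξ hξ))
  · intro h Ω _ _ ξ hξ
    rw [surjective_stalk_iff]
    by_contra hnz
    exact h ⟨Ω, inferInstance, inferInstance, ξ, hξ, hnz⟩

/-- **the locus of stalkwise surjectivity of a map of constructible sheaves is constructible** -/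
theorem surjective_locus_constructible [CompactSpace X] [QuasiSeparatedSpace X]
    {F G : EtCoh.Ab X} (φ : F ⟶ G) (hF : EtPBC.IsConstructible F) (hG : EtPBC.IsConstructible G) :
    Topology.IsConstructible {x : X | ∀ (Ω : Type u) [Field Ω] [IsSepClosed Ω]
      (ξ : Spec (CommRingCat.of Ω) ⟶ X), Set.range ξ = {x} →
        Function.Surjective ((EtCoh.stalk ξ).map φ)} := by
  rw [surjective_locus_eq]
  exact ((isLocallyConstructible_supp _
    (Groth.Agent.Lib.T2H8.Constr.constructible_kernel_cokernel φ hF hG).2).isConstructible).compl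

end Groth.Agent.Lib.T2H8.Supp
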