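import Mathlib
import Groth.Prelude.Def_EtBase
import Groth.Prelude.Def_PBC
import Groth.Agent.Lib.T2H8Supp
import Groth.Agent.Lib.T2H8ConstrSub

/-!
# Constructibility and the cardinality of geometric stalks
-/

set_option autoImplicit false
set_option linter.unusedSectionVars false
set_option linter.style.haveILetI false
universe u
open CategoryTheory CategoryTheory.Limits Opposite AlgebraicGeometry TopologicalSpace

namespace Groth.Agent.Lib.T2H8.StalkCard
open Groth.Agent.Lib.T2H8.FLC Groth.Agent.Lib.T2H8.LocTriv Groth.Agent.Lib.T2H8.FLCSerre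
open Groth.Agent.Lib.Helper16.SmallEtale Groth.Agent.Lib.Helper16.EtStalk
open Groth.Agent.Lib.T2H8.Supp Groth.Agent.Lib.T2H8AgreeAb

section Top

variable {Y : Type*} [TopologicalSpace Y]

/-- a maximal point of a Noetherian sober space has an open neighbourhood inside its closure -/
theorem exists_open_subset_closure_of_maximal [NoetherianSpace Y] [QuasiSober Y] (y : Y)
    (hy : ∀ z : Y, z ⤳ y → z = y) :
    ∃ O : Set Y, IsOpen O ∧ y ∈ O ∧ O ⊆ closure {y} := by
  classical
  obtain ⟨S, hS, hZS⟩ := NoetherianSpace.exists_finset_irreducible (⊤ : Closeds Y)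
  have hmem : ∀ z : Y, ∃ t ∈ S, z ∈ (t : Set Y) := by
    intro z
    have hz : z ∈ ((⊤ : Closeds Y) : Set Y) := trivial
    rw [hZS, Closeds.coe_finset_sup] at hz
    simpa only [Finset.sup_set_eq_biUnion, Function.comp_apply, id_eq,
      Set.mem_iUnion, exists_prop] using hz
  let O : Set Y := (⋃ t ∈ S.filter (fun t : Closeds Y => y ∉ (t : Set Y)), ((t : Closeds Y) : Set Y))ᶜ
  have hO : IsOpen O := by
    have hcl : IsClosed (⋃ t ∈ S.filter (fun t : Closeds Y => y ∉ (t : Set Y)), ((t : Closeds Y) : Set Y)) :=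
      Set.Finite.isClosed_biUnion (S.filter _).finite_toSet (fun t _ => t.isClosed)
    exact hcl.isOpen_compl
  refine ⟨O, hO, ?_, ?_⟩
  · intro hyO
    obtain ⟨t, ht⟩ := Set.mem_iUnion.1 hyO
    obtain ⟨htS, hyt⟩ := Set.mem_iUnion.1 ht
    exact (Finset.mem_filter.1 htS).2 hyt
  · intro z hzO
    obtain ⟨t, htS, hzt⟩ := hmem z
    have hyt : y ∈ (t : Set Y) := by
      by_contra hyt
      exact hzO (Set.mem_iUnion.2 ⟨t, Set.mem_iUnion.2 ⟨Finset.mem_filter.2 ⟨htS, hyt⟩, hzt⟩⟩)
    have hirr : IsIrreducible (t : Set Y) := hS ⟨t, htS⟩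
    let x := hirr.genericPoint
    have hx : closure {x} = (t : Set Y) := hirr.isGenericPoint_genericPoint t.isClosed
    have hxy : x ⤳ y := by
      rw [specializes_iff_mem_closure, hx]
      exact hyt
    have : x = y := hy x hxy
    rw [← this, hx]
    exact hzt

/-- a constructible set containing a point contains a neighbourhood of it in its closure -/
theorem exists_open_inter_closure_subset {s : Set Y} (hs : Topology.IsConstructible s) {y : Y}
    (hy : y ∈ s) : ∃ W : Set Y, IsOpen W ∧ y ∈ W ∧ W ∩ closure {y} ⊆ s := by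
  refine Groth.Agent.Lib.T2H8.ConstrTop.constructible_induction
    (P := fun s => y ∈ s → ∃ W : Set Y, IsOpen W ∧ y ∈ W ∧ W ∩ closure {y} ⊆ s) ?_ ?_ s hs hy
  · intro U V hU _ hV _ hyUV
    refine ⟨U, hU, hyUV.1, ?_⟩
    rintro z ⟨hzU, hzc⟩
    refine ⟨hzU, fun hzV => hyUV.2 ?_⟩
    have : y ⤳ z := specializes_iff_mem_closure.2 hzc
    exact this.mem_open hV hzV
  · intro s t hs ht hyst
    rcases hyst with h | h
    · obtain ⟨W, hW, hyW, hsub⟩ := hs h
      exact ⟨W, hW, hyW, hsub.trans Set.subset_union_left⟩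
    · obtain ⟨W, hW, hyW, hsub⟩ := ht h
      exact ⟨W, hW, hyW, hsub.trans Set.subset_union_right⟩

end Top


variable {X : Scheme.{u}}

/-- the locus of points with a geometric stalk satisfying `P` -/
def locus (P : AddCommGrpCat.{u + 1} → Prop) (F : EtCoh.Ab X) : Set X :=
  {x | ∃ (Ω : Type u) (_ : Field Ω) (_ : IsSepClosed Ω) (ξ : Spec (CommRingCat.of Ω) ⟶ X),
    Set.range ξ = {x} ∧ P ((EtCoh.stalk ξ).obj F)}

set_option backward.isDefEq.respectTransparency.types false in
/-- the stalk of a trivialized sheaf is the trivializing group -/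
theorem nonempty_germIso {F : EtCoh.Ab X} {U : X.Etale} {M : AddCommGrpCat.{u + 1}}
    {t : M ⟶ F.obj.obj (op U)} (ht : IsTriv F U M t)
    {Ω : Type u} [Field Ω] [IsSepClosed Ω] (ξ : Spec (CommRingCat.of Ω) ⟶ X)
    (u₀ : (Scheme.pointSmallEtale ξ).fiber.obj U) :
    Nonempty (M ≅ (EtCoh.stalk ξ).obj F) := by
  let Φ := Scheme.pointSmallEtale ξ
  let φ : M ⟶ (EtCoh.stalk ξ).obj F := t ≫ Φ.toPresheafFiber U u₀ F.obj
  have hφ : ∀ m, φ m = Φ.toPresheafFiber U u₀ F.obj (t m) := fun m => rfl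
  haveI : IsIso φ := by
    rw [ConcreteCategory.isIso_iff_bijective]
    constructor
    · intro m m' h
      rw [hφ, hφ] at h
      exact germ_injective ht ξ u₀ m m' h
    · intro γ
      obtain ⟨m, hm⟩ := Groth.Agent.Lib.T2H8.LocTrivPull.germ_surjective ht ξ u₀ γ
      exact ⟨m, hm⟩
  exact ⟨asIso φ⟩

variable {P : AddCommGrpCat.{u + 1} → Prop} (hP : ∀ A B : AddCommGrpCat.{u + 1}, (A ≅ B) → P A → P B)

include hP in
set_option backward.isDefEq.respectTransparency.types false in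
/-- over a trivializing chart, the locus is everything or nothing -/
theorem mem_locus_iff_of_chart {H : EtCoh.Ab X} {U : X.Etale} {M : AddCommGrpCat.{u + 1}}
    {t : M ⟶ H.obj.obj (op U)} (ht : IsTriv H U M t) (u' : U.left) :
    U.hom u' ∈ locus P H ↔ P M := by
  constructor
  · rintro ⟨Ω, _, _, ξ, hξ, hp⟩
    have h0 : ξ default = U.hom u' := by
      have : ξ default ∈ Set.range ξ := ⟨default, rfl⟩
      rw [hξ] at this
      exact this
    obtain ⟨l, hl1, hl2⟩ := Scheme.exists_fac_of_etale_of_isSepClosed U.hom ξ u' h0.symm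
    let u₀ : (Scheme.pointSmallEtale ξ).fiber.obj U := Over.homMk l hl1
    obtain ⟨e⟩ := nonempty_germIso ht ξ u₀
    exact hP _ _ e.symm hp
  · intro hM
    obtain ⟨Ω, _, _, ξ, x₀, hx₀⟩ := exists_geometric_point U u'
    obtain ⟨e⟩ := nonempty_germIso ht ξ x₀
    refine ⟨Ω, inferInstance, inferInstance, ξ, ?_, hP _ _ e hM⟩
    rw [range_eq_singleton]
    have e1 : x₀.left ≫ U.hom = ξ := Over.w x₀
    have e2 : ξ default = U.hom u' := by
      rw [← hx₀]
      exact congrArg (fun m : Spec (CommRingCat.of Ω) ⟶ X => m default) e1.symm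
    rw [e2]

include hP in
/-- the locus of a finite locally constant sheaf is open and closed -/
theorem isClopen_locus_of_flc (H : EtCoh.Ab X) (hH : EtCoh.IsFiniteLocallyConstant H) :
    IsClopen (locus P H) := by
  have key : ∀ x : X, ∃ O : Set X, IsOpen O ∧ x ∈ O ∧
      (O ⊆ locus P H ∨ O ⊆ (locus P H)ᶜ) := by
    intro x
    obtain ⟨U, u, hu, M, hM, t, ht⟩ := finTrivAt_of_flc H hH x
    refine ⟨Set.range U.hom, U.hom.isOpenMap.isOpen_range, ⟨u, hu⟩, ?_⟩
    by_cases hs : P M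
    · left
      rintro _ ⟨u', rfl⟩
      exact (mem_locus_iff_of_chart hP ht u').mpr hs
    · right
      rintro _ ⟨u', rfl⟩ hmem
      exact hs ((mem_locus_iff_of_chart hP ht u').mp hmem)
  constructor
  · rw [← isOpen_compl_iff, isOpen_iff_forall_mem_open]
    intro x hx
    obtain ⟨O, hO, hxO, h | h⟩ := key x
    · exact absurd (h hxO) hx
    · exact ⟨O, h, hO, hxO⟩
  · rw [isOpen_iff_forall_mem_open]
    intro x hx
    obtain ⟨O, hO, hxO, h | h⟩ := key x
    · exact ⟨O, h, hO, hxO⟩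
    · exact absurd hx (h hxO)

include hP in
set_option backward.isDefEq.respectTransparency.types false in
/-- the locus of the pullback along an immersion -/
theorem locus_inter_range {T : Scheme.{u}} (g : T ⟶ X) [IsImmersion g] (F : EtCoh.Ab X) :
    locus P F ∩ Set.range g = g '' locus P ((EtCoh.pull g).obj F) := by
  ext x
  constructor
  · rintro ⟨⟨Ω, _, _, ξ, hξ, hp⟩, p, rfl⟩
    have h0 : ξ default = g p := by
      have : ξ default ∈ Set.range ξ := ⟨default, rfl⟩
      rw [hξ] at this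
      exact this
    obtain ⟨ξ', rfl⟩ := exists_lift_of_surjectiveOnStalks g ξ p h0
    refine ⟨p, ⟨Ω, inferInstance, inferInstance, ξ', ?_, ?_⟩, rfl⟩
    · rw [range_eq_singleton]
      have : ξ' default = p := g.isEmbedding.injective h0
      rw [this]
    · exact hP _ _ ((Groth.Agent.S0101.stalkPullIso g ξ').app F) hp
  · rintro ⟨p, ⟨Ω, _, _, ξ', hξ', hp⟩, rfl⟩
    have h0 : ξ' default = p := by
      have : ξ' default ∈ Set.range ξ' := ⟨default, rfl⟩
      rw [hξ'] at this
      exact this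
    refine ⟨⟨Ω, inferInstance, inferInstance, ξ' ≫ g, ?_, ?_⟩, p, rfl⟩
    · rw [range_eq_singleton, ← h0]
      rfl
    · exact hP _ _ ((Groth.Agent.S0101.stalkPullIso g ξ').app F).symm hp

include hP in
set_option backward.isDefEq.respectTransparency.types false in
/-- **stalk loci of a constructible sheaf are locally constructible** -/
theorem isLocallyConstructible_locus (F : EtCoh.Ab X) (hF : EtPBC.IsConstructible F) :
    Topology.IsLocallyConstructible (locus P F) := by
  intro x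
  let U : X.Opens := (X.affineCover.f (X.affineCover.idx x)).opensRange
  have hU : IsAffineOpen U := isAffineOpen_opensRange _
  have hxU : x ∈ U := X.affineCover.covers x
  refine ⟨U, U.2.mem_nhds hxU, U.2, ?_⟩
  obtain ⟨n, T, g, h1, h2, h3, h4, h5⟩ :=
    (Groth.Agent.Lib.T2H8.Constr.adaptedStrata_iff F _).1 (hF U hU)
  haveI : IsAffine (U : Scheme.{u}) := hU
  haveI : CompactSpace ↥U := inferInstanceAs (CompactSpace (U : Scheme.{u}))
  haveI : PrespectralSpace ↥U := inferInstanceAs (PrespectralSpace (U : Scheme.{u}))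
  haveI : QuasiSeparatedSpace ↥U := inferInstanceAs (QuasiSeparatedSpace (U : Scheme.{u}))
  have hsub : ∀ i, Set.range (g i) ⊆ (U : Set X) := fun i => by
    rw [← h4]
    exact Set.subset_iUnion (fun i => Set.range (g i)) i
  have heq : (Subtype.val : ↥U → X) ⁻¹' locus P F =
      ⋃ i, (Subtype.val : ↥U → X) ⁻¹' ((g i) '' locus P ((EtCoh.pull (g i)).obj F)) := by
    ext ⟨y, hy⟩
    simp only [Set.mem_preimage, Set.mem_iUnion]
    constructor
    · intro hys
      have hy' : y ∈ ⋃ i, Set.range (g i) := by rw [h4]; exact hy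
      obtain ⟨i, hi⟩ := Set.mem_iUnion.1 hy'
      haveI := h1 i
      refine ⟨i, ?_⟩
      rw [← locus_inter_range hP]
      exact ⟨hys, hi⟩
    · rintro ⟨i, hi⟩
      haveI := h1 i
      rw [← locus_inter_range hP] at hi
      exact hi.1
  change Topology.IsConstructible ((Subtype.val : ↥U → X) ⁻¹' locus P F)
  rw [heq]
  refine Topology.IsConstructible.iUnion fun i => ?_
  haveI := h1 i
  let e : T i → ↥U := Set.codRestrict (g i) (U : Set X) (fun t => hsub i ⟨t, rfl⟩)
  have he : Topology.IsEmbedding e := (g i).isEmbedding.codRestrict _ _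
  have hre : Set.range e = (Subtype.val : ↥U → X) ⁻¹' Set.range (g i) := by
    ext ⟨y, hy⟩
    constructor
    · rintro ⟨t, ht⟩
      exact ⟨t, congrArg Subtype.val ht⟩
    · rintro ⟨t, ht⟩
      exact ⟨t, Subtype.ext ht⟩
  have him : (Subtype.val : ↥U → X) ⁻¹' ((g i) '' locus P ((EtCoh.pull (g i)).obj F)) =
      e '' locus P ((EtCoh.pull (g i)).obj F) := by
    ext ⟨y, hy⟩
    constructor
    · rintro ⟨t, ht, hty⟩
      exact ⟨t, ht, Subtype.ext hty⟩
    · rintro ⟨t, ht, hty⟩
      exact ⟨t, ht, congrArg Subtype.val hty⟩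
  rw [him]
  refine Groth.Agent.Lib.T2H8.ConstrTop.isConstructible_image_of_isEmbedding he ?_
    (isConstructible_of_isClopen (isClopen_locus_of_flc hP _ (h5 i)))
  rw [hre]
  exact h2 i


section Generic

variable {T : Scheme.{u}}

theorem locallyQuasiFinite_of_unramified {X Y : Scheme.{u}} (f : X ⟶ Y) [LocallyOfFiniteType f]
    [FormallyUnramified f] : LocallyQuasiFinite f := by
  refine ⟨fun {U} hU {V} hV e => ?_⟩
  have h1 := f.formallyUnramified_appLE hU hV e
  have h2 := HasRingHomProperty.appLE (P := @LocallyOfFiniteType) f inferInstance ⟨U, hU⟩ ⟨V, hV⟩ e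
  algebraize [(f.appLE U V e).hom]
  show Algebra.QuasiFinite _ _
  infer_instance

/-- no specializations inside a fibre of a locally quasi-finite morphism -/
theorem eq_of_specializes_of_fiber {X Y : Scheme.{u}} (f : X ⟶ Y) [LocallyQuasiFinite f]
    {ζ ξ : X} (h : ζ ⤳ ξ) (hf : f ζ = f ξ) : ζ = ξ := by
  have hd : _root_.IsDiscrete (f ⁻¹' {f ξ}) := f.isDiscrete_preimage_singleton (f ξ)
  haveI : DiscreteTopology (f ⁻¹' {f ξ}) := isDiscrete_iff_discreteTopology.mp hd
  let a : f ⁻¹' {f ξ} := ⟨ζ, hf⟩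
  let b : f ⁻¹' {f ξ} := ⟨ξ, rfl⟩
  have hab : a ⤳ b := (subtype_specializes_iff a b).mpr h
  exact congrArg Subtype.val hab.eq

/-- points of an étale scheme over a maximal point are maximal -/
theorem maximal_of_etale (W : T.Etale) (w : W.left)
    (hmax : ∀ z : T, z ⤳ W.hom w → z = W.hom w) : ∀ z : W.left, z ⤳ w → z = w := by
  intro z hz
  haveI : Etale W.hom := W.prop
  haveI : LocallyQuasiFinite W.hom := locallyQuasiFinite_of_unramified W.hom
  exact eq_of_specializes_of_fiber W.hom hz (hmax _ (hz.map W.hom.continuous))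

set_option backward.isDefEq.respectTransparency.types false in
/-- finitely many germs lift to a common neighbourhood -/
theorem exists_common_lift (H : EtCoh.Ab T) {Ω : Type u} [Field Ω] [IsSepClosed Ω]
    (ξ : Spec (CommRingCat.of Ω) ⟶ T) [Finite ((EtCoh.stalk ξ).obj H)] :
    ∃ (W : T.Etale) (w₀ : (Scheme.pointSmallEtale ξ).fiber.obj W)
      (s : ((EtCoh.stalk ξ).obj H) → H.obj.obj (op W)),
      ∀ m, (Scheme.pointSmallEtale ξ).toPresheafFiber W w₀ H.obj (s m) = m := by
  classical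
  let Φ := Scheme.pointSmallEtale ξ
  let M := (EtCoh.stalk ξ).obj H
  haveI : Fintype M := Fintype.ofFinite M
  have h1 : ∀ m : M, ∃ (V : T.Etale) (v : Φ.fiber.obj V) (z : H.obj.obj (op V)),
      Φ.toPresheafFiber V v H.obj z = m := fun m => Φ.toPresheafFiber_jointly_surjective m
  choose V v z hz using h1
  let E : M → Φ.fiber.Elements := fun m => ⟨V m, v m⟩
  obtain ⟨R, hR⟩ := IsCofiltered.inf_objs_exists (Finset.univ.image E)
  have a : ∀ m, R ⟶ E m := fun m => (hR (Finset.mem_image_of_mem E (Finset.mem_univ m))).some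
  refine ⟨R.1, R.2, fun m => H.obj.map (a m).1.op (z m), fun m => ?_⟩
  have e1 := Φ.toPresheafFiber_w_apply (a m).1 R.2 H.obj (z m)
  have e2 : Φ.fiber.map (a m).1 R.2 = v m := (a m).2
  rw [e2] at e1
  exact e1.trans (hz m)


open Groth.Agent.Lib.T2H8EtZarSheaf Groth.Agent.Lib.T2H8.ConstrSub in
set_option backward.isDefEq.respectTransparency.types false in
/-- **generic triviality from constancy of the stalk cardinality** -/
theorem exists_isTriv_of_card [IsLocallyNoetherian T] (H : EtCoh.Ab T)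
    {Ω : Type u} [Field Ω] [IsSepClosed Ω] (ξ : Spec (CommRingCat.of Ω) ⟶ T)
    (hgen : ∀ z : T, z ⤳ ξ default → z = ξ default)
    (hfin : ∀ (Ω' : Type u) [Field Ω'] [IsSepClosed Ω'] (ξ' : Spec (CommRingCat.of Ω') ⟶ T),
      Finite ((EtCoh.stalk ξ').obj H))
    (hcard : ∀ y : T, ∃ (Ω' : Type u) (_ : Field Ω') (_ : IsSepClosed Ω')
      (ξ' : Spec (CommRingCat.of Ω') ⟶ T), Set.range ξ' = {y} ∧
        Nat.card ((EtCoh.stalk ξ').obj H) = Nat.card ((EtCoh.stalk ξ).obj H)) :
    ∃ (U : T.Etale) (u : U.left), U.hom u = ξ default ∧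
      ∃ (M : AddCommGrpCat.{u + 1}) (_ : Finite M) (t : M ⟶ H.obj.obj (op U)),
        IsTriv H U M t := by
  classical
  let Φ := Scheme.pointSmallEtale ξ
  let M : AddCommGrpCat.{u + 1} := (EtCoh.stalk ξ).obj H
  haveI : Finite M := hfin Ω ξ
  haveI : Finite ((EtCoh.stalk ξ).obj H) := hfin Ω ξ
  obtain ⟨W, w₀, s, hs⟩ := exists_common_lift H ξ
  let w : W.left := (w₀.left : Spec (CommRingCat.of Ω) ⟶ W.left) (default : Spec (CommRingCat.of Ω))
  have hw : W.hom w = ξ default := by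
    have e1 : w₀.left ≫ W.hom = ξ := Over.w w₀
    exact congrArg (fun m : Spec (CommRingCat.of Ω) ⟶ T => m default) e1
  have hwmax : ∀ z : W.left, z ⤳ w → z = w :=
    maximal_of_etale W w (by rw [hw]; exact hgen)
  -- an irreducible open neighbourhood
  haveI : Etale W.hom := W.prop
  haveI : IsLocallyNoetherian W.left :=
    @LocallyOfFiniteType.isLocallyNoetherian W.left T W.hom inferInstance ‹IsLocallyNoetherian T›
  obtain ⟨A₁, hA₁, hwA₁, -⟩ := exists_isAffineOpen_mem_and_subset (x := w)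
    (U := (⊤ : W.left.Opens)) trivial
  haveI : IsNoetherianRing Γ(W.left, A₁) := IsLocallyNoetherian.component_noetherian ⟨A₁, hA₁⟩
  haveI hN : NoetherianSpace ↥(A₁ : Set W.left) := noetherianSpace_of_isAffineOpen A₁ hA₁
  haveI hQ : QuasiSober ↥(A₁ : Set W.left) := inferInstanceAs (QuasiSober (A₁ : Scheme.{u}))
  obtain ⟨O, hO, hwO, hOsub⟩ := exists_open_subset_closure_of_maximal
    (⟨w, hwA₁⟩ : ↥(A₁ : Set W.left)) (by
      intro z hz
      exact Subtype.ext (hwmax z.1 ((subtype_specializes_iff z ⟨w, hwA₁⟩).mp hz)))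
  let A₂ : Set W.left := Subtype.val '' O
  have hA₂o : IsOpen A₂ := A₁.isOpen.isOpenMap_subtype_val O hO
  have hwA₂ : w ∈ A₂ := ⟨⟨w, hwA₁⟩, hwO, rfl⟩
  have hA₂sub : A₂ ⊆ closure {w} := by
    rintro _ ⟨z, hz, rfl⟩
    have h2 : (⟨w, hwA₁⟩ : ↥(A₁ : Set W.left)) ⤳ z := specializes_iff_mem_closure.2 (hOsub hz)
    exact specializes_iff_mem_closure.1 ((subtype_specializes_iff _ _).mp h2)
  -- the opens where the lifts are additive
  let B : M × M → Set W.left := fun p => agree H (s p.1 + s p.2) (s (p.1 + p.2))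
  have hB : ∀ p, IsOpen (B p) := fun p => isOpen_agree H _ _
  have hwB : ∀ p, w ∈ B p := by
    intro p
    refine (mem_agree_iff_germ H _ _ ξ w₀).mpr ?_
    rw [map_add, hs, hs, hs]
    rfl
  let A : W.left.Opens := ⟨A₂ ∩ ⋂ p, B p, hA₂o.inter (isOpen_iInter_of_finite hB)⟩
  have hwA : w ∈ A := ⟨hwA₂, Set.mem_iInter.2 hwB⟩
  let U : T.Etale := opn W A
  let j : U ⟶ W := opnι W A
  have hjA : ∀ v : U.left, j.left v ∈ (A : Set W.left) := fun v => by
    rw [← range_opnι W A]; exact ⟨v, rfl⟩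
  -- the geometric point lifts to `U`
  have hrange : Set.range (w₀.left : Spec (CommRingCat.of Ω) ⟶ W.left) ⊆ (A : Set W.left) := by
    rw [range_eq_singleton]
    exact Set.singleton_subset_iff.2 hwA
  let l : Spec (CommRingCat.of Ω) ⟶ (A : Scheme.{u}) :=
    IsOpenImmersion.lift (X := (A : Scheme.{u})) (Y := Spec (CommRingCat.of Ω)) (Z := W.left)
      A.ι w₀.left (by rw [Scheme.Opens.range_ι]; exact hrange)
  have hl : l ≫ A.ι = w₀.left :=
    IsOpenImmersion.lift_fac (X := (A : Scheme.{u})) (Y := Spec (CommRingCat.of Ω)) (Z := W.left)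
      A.ι w₀.left _
  let u₀ : Φ.fiber.obj U := Over.homMk l (by
    change l ≫ A.ι ≫ W.hom = ξ
    rw [← Category.assoc, hl]
    exact Over.w w₀)
  have hu₀ : Φ.fiber.map j u₀ = w₀ := by
    apply Over.OverMorphism.ext
    exact hl
  let u : U.left := (u₀.left : Spec (CommRingCat.of Ω) ⟶ U.left) (default : Spec (CommRingCat.of Ω))
  have hju : j.left u = w :=
    congrArg (fun m : Spec (CommRingCat.of Ω) ⟶ W.left => m default) hl
  -- the trivializing homomorphism
  have hadd : ∀ m m' : M, H.obj.map j.op (s (m + m')) =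
      H.obj.map j.op (s m) + H.obj.map j.op (s m') := by
    intro m m'
    rw [← map_add]
    symm
    apply eq_of_agree_eq_univ H
    intro v
    rw [mem_agree_map_iff]
    exact Set.mem_iInter.1 (hjA v).2 (m, m')
  let t : M ⟶ H.obj.obj (op U) :=
    AddCommGrpCat.ofHom (AddMonoidHom.mk' (fun m => H.obj.map j.op (s m)) hadd)
  have ht_apply : ∀ m, t m = H.obj.map j.op (s m) := fun m => rfl
  have hgerm : ∀ m, Φ.toPresheafFiber U u₀ H.obj (t m) = m := by
    intro m
    rw [ht_apply]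
    have e1 := Φ.toPresheafFiber_w_apply j u₀ H.obj (s m)
    rw [hu₀] at e1
    exact e1.trans (hs m)
  -- `u` is the generic point of `U`
  have hugen : ∀ O' : Set U.left, IsOpen O' → O'.Nonempty → u ∈ O' := by
    rintro O' hO' ⟨v, hv⟩
    have h1 : j.left v ∈ closure {w} := hA₂sub (hjA v).1
    have h2 : w ⤳ j.left v := specializes_iff_mem_closure.2 h1
    rw [← hju] at h2
    have h3 : u ⤳ v := (A.ι.isEmbedding.isInducing.specializes_iff).1 h2
    exact h3.mem_open hO' hv
  have hinj : ∀ (Y : T.Etale) (f : Y ⟶ U) (m m' : M),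
      H.obj.map f.op (t m) = H.obj.map f.op (t m') → Nonempty Y.left → m = m' := by
    rintro Y f m m' hmm ⟨y⟩
    have h1 : f.left y ∈ agree H (t m) (t m') := ⟨Y, f, y, rfl, hmm⟩
    have h2 : u ∈ agree H (t m) (t m') := hugen _ (isOpen_agree H _ _) ⟨_, h1⟩
    have h3 := (mem_agree_iff_germ H (t m) (t m') ξ u₀).mp h2
    rw [hgerm, hgerm] at h3
    exact h3
  refine ⟨U, u, ?_, M, inferInstance, t, ⟨?_, ?_⟩⟩
  · have e1 : u₀.left ≫ U.hom = ξ := Over.w u₀
    exact congrArg (fun m : Spec (CommRingCat.of Ω) ⟶ T => m default) e1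
  · intro Y f m m' hmm
    by_cases hY : IsEmpty Y.left
    · exact Or.inr (Groth.Agent.Lib.T2H8.LocTrivPull.bot_mem_of_isEmpty Y hY)
    · rw [not_isEmpty_iff] at hY
      exact Or.inl (hinj Y f m m' hmm hY)
  · intro Y f z
    rw [mem_smallEtale_iff]
    intro p
    obtain ⟨Ω', _, _, ξ', hξ', hc⟩ := hcard (Y.hom p)
    have h0 : Y.hom p = ξ' default := by
      have : ξ' default ∈ Set.range ξ' := ⟨default, rfl⟩
      rw [hξ'] at this
      exact this.symm
    haveI : Etale Y.hom := Y.prop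
    obtain ⟨l', hl'1, hl'2⟩ := Scheme.exists_fac_of_etale_of_isSepClosed Y.hom ξ' p h0
    let Φ' := Scheme.pointSmallEtale ξ'
    let y₀ : Φ'.fiber.obj Y := Over.homMk l' hl'1
    let ψ : M → ((EtCoh.stalk ξ').obj H) := fun m =>
      Φ'.toPresheafFiber Y y₀ H.obj (H.obj.map f.op (t m))
    have hψinj : Function.Injective ψ := by
      intro m m' h
      obtain ⟨Z, g, z₁, hz₁, hg⟩ := (Φ'.toPresheafFiber_eq_iff' Y y₀ _ _).mp h
      rw [map_map_apply, map_map_apply] at hg
      exact hinj Z (g ≫ f) m m' hg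
        ⟨(z₁.left : Spec (CommRingCat.of Ω') ⟶ Z.left) (default : Spec (CommRingCat.of Ω'))⟩
    haveI : Finite ((EtCoh.stalk ξ').obj H) := hfin Ω' ξ'
    have hψbij : Function.Bijective ψ := hψinj.bijective_of_nat_card_le (le_of_eq hc)
    obtain ⟨m, hm⟩ := hψbij.2 (Φ'.toPresheafFiber Y y₀ H.obj z)
    obtain ⟨Z, g, z₁, hz₁, hg⟩ := (Φ'.toPresheafFiber_eq_iff' Y y₀ _ _).mp hm
    refine ⟨Z, g, (z₁.left : Spec (CommRingCat.of Ω') ⟶ Z.left) (default : Spec (CommRingCat.of Ω')), ⟨m, ?_⟩, ?_⟩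
    · rw [← hg, map_map_apply]
    · have e3 : z₁.left ≫ g.left = y₀.left := congrArg (fun m => m.left) hz₁
      rw [← hl'2]
      exact congrArg (fun m : Spec (CommRingCat.of Ω') ⟶ Y.left => m default) e3

end Generic


section Main
open Groth.Agent.Lib.T2H8.Constr Groth.Agent.Lib.T2H8.ConstrNoeth Groth.Agent.Lib.T2H8.FLCPull

/-- the pointwise datum from a trivialization near the generic point of the closure -/
theorem goodAt_of_open_finTrivAt (G : EtCoh.Ab X) (x : X) (V : X.Opens) (T : Scheme.{u})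
    (g : T ⟶ X) [IsImmersion g] (hxV : x ∈ V)
    (hrange : Set.range g.base = (V : Set X) ∩ closure {x})
    (T₀ : T.Opens) (hT₀ne : (T₀ : Set T).Nonempty)
    (hT₀ : ∀ p ∈ T₀, FinTrivAt ((EtCoh.pull g).obj G) p) : GoodAt G x := by
  obtain ⟨V₀, hV₀, hV₀T⟩ := g.isEmbedding.isOpen_iff.1 T₀.isOpen
  have hxV₀ : x ∈ V₀ := by
    obtain ⟨t₀, ht₀⟩ := hT₀ne
    have h1 : g.base t₀ ∈ V₀ := by
      have : t₀ ∈ g.base ⁻¹' V₀ := by rw [hV₀T]; exact ht₀
      exact this
    have h2 : g.base t₀ ∈ closure ({x} : Set X) := by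
      have : g.base t₀ ∈ Set.range g.base := ⟨t₀, rfl⟩
      rw [hrange] at this
      exact this.2
    obtain ⟨y, hy1, hy2⟩ := mem_closure_iff.1 h2 V₀ hV₀ h1
    rw [Set.mem_singleton_iff.1 hy2] at hy1
    exact hy1
  refine ⟨V ⊓ ⟨V₀, hV₀⟩, (T₀ : Scheme.{u}), T₀.ι ≫ g, inferInstance, ⟨hxV, hxV₀⟩, ?_, ?_⟩
  · change Set.range (T₀.ι ≫ g) = _
    rw [Scheme.Hom.comp_base, TopCat.coe_comp, Set.range_comp, Scheme.Opens.range_ι]
    have h3 : (T₀ : Set T) = g.base ⁻¹' V₀ := hV₀T.symm
    rw [h3, Set.image_preimage_eq_inter_range]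
    change V₀ ∩ Set.range g.base = _
    rw [hrange]
    ext p
    constructor
    · rintro ⟨h1, h2, h3⟩
      exact ⟨⟨h2, h1⟩, h3⟩
    · rintro ⟨⟨h2, h1⟩, h3⟩
      exact ⟨h1, h2, h3⟩
  · refine flc_of_iso ((EtCore.pullComp T₀.ι g).app G).symm ?_
    apply flc_of_finTrivAt
    intro p'
    exact trivAt_pull T₀.ι _ ((EtCoh.pull g).obj G) p' (hT₀ _ p'.2)

theorem card_invariant (n : ℕ) (A B : AddCommGrpCat.{u + 1}) (e : A ≅ B)
    (h : Nat.card A = n) : Nat.card B = n :=
  (Nat.card_congr e.addCommGroupIsoToAddEquiv.toEquiv).symm.trans h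

set_option backward.isDefEq.respectTransparency.types false in
/-- the pointwise datum from local constructibility of a stalk cardinality locus -/
theorem goodAt_of_card [IsLocallyNoetherian X] (F : EtCoh.Ab X)
    (hfin : ∀ (Ω : Type u) [Field Ω] [IsSepClosed Ω] (ξ : Spec (CommRingCat.of Ω) ⟶ X),
      Finite ((EtCoh.stalk ξ).obj F))
    (h : ∀ n : ℕ, Topology.IsLocallyConstructible (locus (fun A => Nat.card A = n) F)) (x : X) :
    GoodAt F x := by
  -- a geometric point over `x`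
  let Ω := SeparableClosure (X.residueField x)
  let ξ₀ : Spec (CommRingCat.of Ω) ⟶ X :=
    Spec.map (CommRingCat.ofHom (algebraMap (X.residueField x) Ω)) ≫ X.fromSpecResidueField x
  have hξ₀ : ξ₀ default = x := by
    dsimp only [ξ₀]
    rw [Scheme.Hom.comp_apply]
    exact Scheme.fromSpecResidueField_apply _ _
  let n₀ := Nat.card ((EtCoh.stalk ξ₀).obj F)
  let C : Set X := locus (fun A => Nat.card A = n₀) F
  have hxC : x ∈ C := ⟨Ω, inferInstance, inferInstance, ξ₀, by rw [range_eq_singleton, hξ₀], rfl⟩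
  obtain ⟨U₀, hU₀n, hU₀o, hcon⟩ := h n₀ x
  have hxU₀ : x ∈ U₀ := mem_of_mem_nhds hU₀n
  obtain ⟨W', hW'o, hyW', hW'sub⟩ := exists_open_inter_closure_subset hcon
    (y := (⟨x, hxU₀⟩ : ↥U₀)) hxC
  let V : X.Opens := ⟨Subtype.val '' W', hU₀o.isOpenMap_subtype_val W' hW'o⟩
  have hxV : x ∈ V := ⟨⟨x, hxU₀⟩, hyW', rfl⟩
  have hVC : (V : Set X) ∩ closure {x} ⊆ C := by
    rintro _ ⟨⟨q, hq, rfl⟩, hpc⟩
    have h1 : x ⤳ q.1 := specializes_iff_mem_closure.2 hpc
    have h2 : (⟨x, hxU₀⟩ : ↥U₀) ⤳ q := (subtype_specializes_iff _ _).mpr h1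
    exact hW'sub ⟨hq, specializes_iff_mem_closure.1 h2⟩
  let V' : X.Opens := ⟨(closure {x})ᶜ, isClosed_closure.isOpen_compl⟩
  obtain ⟨T, g, hg, hgr⟩ := exists_immersion_range_sdiff V V'
  haveI := hg
  have hrange : Set.range g.base = (V : Set X) ∩ closure {x} := by
    change Set.range g = _
    rw [hgr]
    ext p
    constructor
    · rintro ⟨hpV, hpn⟩
      exact ⟨hpV, by by_contra hc; exact hpn hc⟩
    · rintro ⟨hpV, hpc⟩
      exact ⟨hpV, fun hn => hn hpc⟩
  haveI : IsLocallyNoetherian T := LocallyOfFiniteType.isLocallyNoetherian g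
  have hxr : x ∈ Set.range g.base := by
    rw [hrange]
    exact ⟨hxV, subset_closure rfl⟩
  obtain ⟨η, hη⟩ := hxr
  obtain ⟨ξ, hξ⟩ := exists_lift_of_surjectiveOnStalks g ξ₀ η (hξ₀.trans hη.symm)
  have hξη : ξ default = η := by
    apply g.isEmbedding.injective
    have : (ξ ≫ g) default = x := by rw [hξ]; exact hξ₀
    exact this.trans hη.symm
  let H := (EtCoh.pull g).obj F
  have hcardH : ∀ {Ω' : Type u} [Field Ω'] [IsSepClosed Ω'] (ξ' : Spec (CommRingCat.of Ω') ⟶ T),
      Nat.card ((EtCoh.stalk ξ').obj H) = Nat.card ((EtCoh.stalk (ξ' ≫ g)).obj F) := by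
    intro Ω' _ _ ξ'
    exact Nat.card_congr
      ((Groth.Agent.S0101.stalkPullIso g ξ').app F).symm.addCommGroupIsoToAddEquiv.toEquiv
  have hgen : ∀ z : T, z ⤳ ξ default → z = ξ default := by
    intro z hz
    rw [hξη] at hz ⊢
    apply g.isEmbedding.injective
    have h1 : g.base z ⤳ g.base η := hz.map g.continuous
    have h2 : g.base z ∈ closure {x} := by
      have : g.base z ∈ Set.range g.base := ⟨z, rfl⟩
      rw [hrange] at this
      exact this.2
    have h3 : g.base η ⤳ g.base z := by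
      change g η ⤳ g z
      rw [hη]
      exact specializes_iff_mem_closure.2 h2
    exact (h1.antisymm h3).eq
  have hfinH : ∀ (Ω' : Type u) [Field Ω'] [IsSepClosed Ω'] (ξ' : Spec (CommRingCat.of Ω') ⟶ T),
      Finite ((EtCoh.stalk ξ').obj H) := by
    intro Ω' _ _ ξ'
    haveI := hfin Ω' (ξ' ≫ g)
    exact Finite.of_equiv _
      ((Groth.Agent.S0101.stalkPullIso g ξ').app F).addCommGroupIsoToAddEquiv.toEquiv
  have hn₀ : Nat.card ((EtCoh.stalk ξ).obj H) = n₀ := by
    rw [hcardH ξ]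
    change _ = Nat.card ((EtCoh.stalk ξ₀).obj F)
    rw [hξ]
  have hcard : ∀ y : T, ∃ (Ω' : Type u) (_ : Field Ω') (_ : IsSepClosed Ω')
      (ξ' : Spec (CommRingCat.of Ω') ⟶ T), Set.range ξ' = {y} ∧
        Nat.card ((EtCoh.stalk ξ').obj H) = Nat.card ((EtCoh.stalk ξ).obj H) := by
    intro y
    have hy : g y ∈ C := hVC (by rw [← hrange]; exact ⟨y, rfl⟩)
    obtain ⟨Ω', _, _, ξ'', hξ'', hc⟩ := hy
    have h0 : ξ'' default = g y := by
      have : ξ'' default ∈ Set.range ξ'' := ⟨default, rfl⟩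
      rw [hξ''] at this
      exact this
    obtain ⟨ξ', rfl⟩ := exists_lift_of_surjectiveOnStalks g ξ'' y h0
    refine ⟨Ω', inferInstance, inferInstance, ξ', ?_, ?_⟩
    · rw [range_eq_singleton]
      have : ξ' default = y := g.isEmbedding.injective h0
      rw [this]
    · rw [hcardH ξ', hn₀]
      exact hc
  obtain ⟨U, u, hu, M, hM, t, ht⟩ := exists_isTriv_of_card H ξ hgen hfinH hcard
  haveI : Etale U.hom := U.prop
  refine goodAt_of_open_finTrivAt F x V T g hxV hrange
    ⟨Set.range U.hom, U.hom.isOpenMap.isOpen_range⟩ ⟨U.hom u, u, rfl⟩ ?_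
  rintro _ ⟨u', rfl⟩
  exact ⟨U, u', rfl, M, hM, t, ht⟩

/-- **constructibility is detected by the stalk cardinality loci** -/
theorem constructible_iff_card [IsLocallyNoetherian X] (F : EtCoh.Ab X)
    (hfin : ∀ (Ω : Type u) [Field Ω] [IsSepClosed Ω] (ξ : Spec (CommRingCat.of Ω) ⟶ X),
      Finite ((EtCoh.stalk ξ).obj F)) :
    EtPBC.IsConstructible F ↔ ∀ n : ℕ, Topology.IsLocallyConstructible
      {x : X | ∃ (Ω : Type u) (_ : Field Ω) (_ : IsSepClosed Ω) (ξ : Spec (CommRingCat.of Ω) ⟶ X),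
        Set.range ξ = {x} ∧ Nat.card ((EtCoh.stalk ξ).obj F) = n} := by
  constructor
  · intro hF n
    exact isLocallyConstructible_locus (P := fun A => Nat.card A = n) (card_invariant n) F hF
  · intro h
    rw [constructible_iff_goodAt]
    exact goodAt_of_card F hfin h

end Main

end Groth.Agent.Lib.T2H8.StalkCard
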