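import Mathlib
import Groth.Agent.Lib.Helper21DerAcyc

/-!
# helper8: `Rⁿ(E ⋙ G)(M) ≅ RⁿG(E M)` for `E` left exact sending injectives to `G`-acyclics and
  `M` an `E`-acyclic object (degenerate Grothendieck spectral sequence)
-/

open CategoryTheory Limits

namespace Groth.Agent.Lib.T2H8.DerAcyc2

open Groth.Agent.Lib.Helper23SS3 Groth.Agent.Lib.Helper23SS5 Groth.Agent.S12229
  Groth.Agent.Lib.Helper23Acyclic Groth.Agent.Lib.Helper23Leray Groth.Agent.Lib.Helper23Bridge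

universe v v' v'' u u' u''

variable {𝒜 : Type u} [Category.{v} 𝒜] [Abelian 𝒜] [EnoughInjectives 𝒜]
  {ℬ : Type u'} [Category.{v'} ℬ] [Abelian ℬ] [EnoughInjectives ℬ]
  {𝒟 : Type u''} [Category.{v''} 𝒟] [Abelian 𝒟]
  (E : 𝒜 ⥤ ℬ) [E.Additive] [PreservesFiniteLimits E]
  (G : ℬ ⥤ 𝒟) [G.Additive] [PreservesFiniteLimits G]

theorem nonempty_rightDerived_comp_iso_of_acyclic
    (hE : ∀ I : 𝒜, Injective I → ∀ q : ℕ, 0 < q → IsZero ((G.rightDerived q).obj (E.obj I)))
    (M : 𝒜) (hM : ∀ q : ℕ, 0 < q → IsZero ((E.rightDerived q).obj M)) (n : ℕ) :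
    Nonempty (((E ⋙ G).rightDerived n).obj M ≅ (G.rightDerived n).obj (E.obj M)) := by
  have : HasDerivedCategory.{max u' v'} ℬ := HasDerivedCategory.standard _
  have : HasDerivedCategory.{max u v} 𝒜 := HasDerivedCategory.standard _
  have : HasDerivedCategory.{max u'' v''} 𝒟 := HasDerivedCategory.standard _
  let I : InjectiveResolution M := injectiveResolution M
  let EI : CochainComplex ℬ ℤ :=
    (E.mapHomologicalComplex (ComplexShape.up ℤ)).obj I.cochainComplex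
  have hEI : EI.IsStrictlyGE 0 := by dsimp [EI]; infer_instance
  let K : CochainComplex.Plus ℬ := ⟨EI, 0, hEI⟩
  have hK : IsIso (τ G K) := leray G K (fun m => (acyclic_iff G _).2 (hE _ (by
    show Injective (I.cochainComplex.X m); infer_instance)))
  obtain ⟨e₁⟩ := homology_G_Q G K hK (n : ℤ)
  obtain ⟨e₂⟩ := homology_map_cochainComplex (E ⋙ G) I n (n : ℤ) rfl
  -- `Q EI` is concentrated in degree `0`
  have hhom : ∀ i : ℤ, i ≠ 0 → IsZero ((DerivedCategory.homologyFunctor ℬ i).obj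
      (DerivedCategory.Q.obj EI)) := by
    intro i hi
    refine IsZero.of_iso ?_ ((DerivedCategory.homologyFunctorFactors ℬ i).app EI)
    change IsZero (EI.homology i)
    rcases lt_or_gt_of_ne hi with h | h
    · exact isZero_homology_map_cochainComplex E I i h
    · obtain ⟨j, rfl⟩ : ∃ j : ℕ, (j : ℤ) = i := ⟨i.toNat, Int.toNat_of_nonneg h.le⟩
      obtain ⟨e⟩ := homology_map_cochainComplex E I j (j : ℤ) rfl
      exact IsZero.of_iso (hM j (by exact_mod_cast h)) e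
  haveI : (DerivedCategory.Q.obj EI).IsGE 0 := by
    rw [DerivedCategory.isGE_iff]
    intro i hi
    exact hhom i hi.ne
  haveI : (DerivedCategory.Q.obj EI).IsLE 0 := by
    rw [DerivedCategory.isLE_iff]
    intro i hi
    exact hhom i hi.ne'
  obtain ⟨A, ⟨eA⟩⟩ :=
    DerivedCategory.exists_iso_singleFunctor_obj_of_isGE_of_isLE (DerivedCategory.Q.obj EI) 0
  obtain ⟨e₅⟩ := homology_map_cochainComplex E I 0 (0 : ℤ) rfl
  let eAM : A ≅ E.obj M :=
    ((DerivedCategory.singleFunctorCompHomologyFunctorIso ℬ 0).app A).symm ≪≫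
      (DerivedCategory.homologyFunctor ℬ 0).mapIso eA.symm ≪≫
      (DerivedCategory.homologyFunctorFactors ℬ 0).app EI ≪≫ e₅ ≪≫
      (E.rightDerivedZeroIsoSelf).app M
  let e₀ : (DerivedCategory.singleFunctor ℬ 0).obj (E.obj M) ≅ DerivedCategory.Q.obj EI :=
    (DerivedCategory.singleFunctor ℬ 0).mapIso eAM.symm ≪≫ eA.symm
  let e₀' : (DerivedCategory.Plus.singleFunctor ℬ 0).obj (E.obj M) ≅ DerivedCategory.Plus.Q.obj K :=
    DerivedCategory.Plus.ι.preimageIso e₀
  let I' : InjectiveResolution (E.obj M) := injectiveResolution (E.obj M)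
  obtain ⟨e₃⟩ := homology_G_single_zero G I' (n : ℤ)
  obtain ⟨e₄⟩ := homology_map_cochainComplex G I' n (n : ℤ) rfl
  exact ⟨e₂.symm ≪≫ e₁.symm ≪≫
    (DerivedCategory.homologyFunctor 𝒟 (n : ℤ)).mapIso ((Groth.Agent.Lib.Helper23SS3.G G).mapIso e₀'.symm) ≪≫
    e₃ ≪≫ e₄⟩

end Groth.Agent.Lib.T2H8.DerAcyc2
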