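import Mathlib
import Groth.Prelude.Def_EtZar
import Groth.Agent.Lib.Helper16BigZar
import Groth.Agent.Lib.T2H8DerAcyc2

/-!
# helper8: restriction from the small étale site to the Zariski site: exact left adjoint,
preservation of injectives and the Leray comparison for acyclic sheaves
-/

set_option autoImplicit false
set_option linter.unusedSectionVars false
set_option linter.style.haveILetI false
universe u
open CategoryTheory CategoryTheory.Limits AlgebraicGeometry Opposite Abelian TopologicalSpace

namespace Groth.Agent.Lib.T2H8.EtZarA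

variable (X : Scheme.{u})

theorem hom_zarToEt_ext {Y : X.Etale} {U : X.Opens} (f g : Y ⟶ (EtZar.zarToEt X).obj U) :
    f = g := by
  apply MorphismProperty.Over.Hom.ext
  have hf : f.left ≫ Scheme.Opens.ι U = Y.hom := MorphismProperty.Over.w f
  have hg : g.left ≫ Scheme.Opens.ι U = Y.hom := MorphismProperty.Over.w g
  exact (cancel_mono (Scheme.Opens.ι U)).1 (hf.trans hg.symm)

theorem range_subset_of_hom {Y : X.Etale} {U : X.Opens} (f : Y ⟶ (EtZar.zarToEt X).obj U) :
    Set.range Y.hom ⊆ (U : Set X) := by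
  have hf : f.left ≫ Scheme.Opens.ι U = Y.hom := MorphismProperty.Over.w f
  rintro _ ⟨y, rfl⟩
  rw [← hf, Scheme.Hom.comp_apply]
  exact (f.left y).2

/-- a morphism into an open, given the range condition (underlying scheme morphism). -/
noncomputable def liftL (Y : X.Etale) (U : X.Opens) (h : Set.range Y.hom ⊆ (U : Set X)) :
    Y.left ⟶ (U : Scheme.{u}) :=
  IsOpenImmersion.lift (Scheme.Opens.ι U) Y.hom (by
    rw [Scheme.Opens.range_ι]; exact h)

theorem liftL_fac (Y : X.Etale) (U : X.Opens) (h : Set.range Y.hom ⊆ (U : Set X)) :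
    liftL X Y U h ≫ Scheme.Opens.ι U = Y.hom :=
  IsOpenImmersion.lift_fac _ _ _

/-- a morphism into an open, given the range condition. -/
noncomputable def liftTo (Y : X.Etale) (U : X.Opens) (h : Set.range Y.hom ⊆ (U : Set X)) :
    Y ⟶ (EtZar.zarToEt X).obj U :=
  MorphismProperty.Over.homMk (liftL X Y U h) (liftL_fac X Y U h)

instance isCofiltered_structuredArrow (Y : X.Etale) :
    IsCofiltered (StructuredArrow Y (EtZar.zarToEt X)) where
  cone_objs A B := by
    have hA := range_subset_of_hom X A.hom
    have hB := range_subset_of_hom X B.hom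
    refine ⟨StructuredArrow.mk (liftTo X Y (A.right ⊓ B.right) (fun x hx => ⟨hA hx, hB hx⟩)),
      StructuredArrow.homMk (homOfLE inf_le_left) (hom_zarToEt_ext X _ _),
      StructuredArrow.homMk (homOfLE inf_le_right) (hom_zarToEt_ext X _ _), trivial⟩
  cone_maps A B f g := ⟨A, 𝟙 A, by
    congr 1
    apply StructuredArrow.hom_ext
    exact Subsingleton.elim _ _⟩
  nonempty := ⟨StructuredArrow.mk (liftTo X Y ⊤ (fun x _ => trivial))⟩

instance flat_zarToEt : RepresentablyFlat (EtZar.zarToEt X) := ⟨fun _ => inferInstance⟩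

instance hasExactColimits_costructuredArrow_zarToEt (d : (X.Etale)ᵒᵖ) :
    HasExactColimitsOfShape (CostructuredArrow (EtZar.zarToEt X).op d) AddCommGrpCat.{u + 1} := by
  have : IsFiltered (CostructuredArrow (EtZar.zarToEt X).op d) :=
    IsFiltered.of_equivalence (structuredArrowOpEquivalence (EtZar.zarToEt X) (unop d))
  have := AB5OfSize_of_univLE.{u, u, u + 1, u + 1} AddCommGrpCat.{u + 1}
  exact AB5OfSize.ofShape _

variable [EtZar.ZarCont X]

/-- the left adjoint of `resZar` -/
noncomputable abbrev zarPull : EtZar.Ab X ⥤ EtCoh.Ab X :=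
  (EtZar.zarToEt X).sheafPullback AddCommGrpCat.{u + 1} (Opens.grothendieckTopology X)
    X.smallEtaleTopology

/-- the adjunction -/
noncomputable abbrev zarAdj : zarPull X ⊣ EtZar.resZar X :=
  (EtZar.zarToEt X).sheafAdjunctionContinuous AddCommGrpCat.{u + 1}
    (Opens.grothendieckTopology X) X.smallEtaleTopology

theorem zarPull_preservesFiniteLimits : PreservesFiniteLimits (zarPull X) := by
  have h : PreservesFiniteLimits ((EtZar.zarToEt X).op.lan : (_ ⥤ _ ⥤ AddCommGrpCat.{u + 1})) :=
    Groth.Agent.Lib.Helper6.lan_preservesFiniteLimits_of_flat' AddCommGrpCat.{u + 1}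
      (EtZar.zarToEt X)
  exact Functor.sheafPullbackConstruction.preservesFiniteLimits (EtZar.zarToEt X)
    AddCommGrpCat.{u + 1} (Opens.grothendieckTopology X) X.smallEtaleTopology

theorem injective_resZar (I : EtCoh.Ab X) [Injective I] :
    Injective ((EtZar.resZar X).obj I) := by
  haveI := zarPull_preservesFiniteLimits X
  haveI : (zarPull X).PreservesMonomorphisms :=
    preservesMonomorphisms_of_preservesLimitsOfShape _
  exact Injective.injective_of_adjoint (zarAdj X) I

instance resZar_preservesFiniteLimits : PreservesFiniteLimits (EtZar.resZar X) := by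
  haveI := (zarAdj X).rightAdjoint_preservesLimits
  infer_instance

instance resZar_additive : (EtZar.resZar X).Additive := by
  haveI : (EtZar.resZar X).IsRightAdjoint := (zarAdj X).isRightAdjoint
  haveI := (zarAdj X).rightAdjoint_preservesLimits
  exact Functor.additive_of_preserves_binary_products _

/-- `zarToEt` of the terminal object is terminal. -/
noncomputable def zarTopIsTerminal : IsTerminal ((EtZar.zarToEt X).obj ⊤) :=
  IsTerminal.ofUniqueHom (fun Y => liftTo X Y ⊤ (fun x _ => trivial))
    (fun Y m => hom_zarToEt_ext X _ _)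

/-- restriction to the Zariski site followed by global sections is global sections. -/
noncomputable def sectionsIso :
    EtZar.resZar X ⋙
        (sheafSections (Opens.grothendieckTopology X) AddCommGrpCat.{u + 1}).obj (op ⊤) ≅
      (sheafSections X.smallEtaleTopology AddCommGrpCat.{u + 1}).obj
        (op ((EtZar.zarToEt X).obj ⊤)) :=
  NatIso.ofComponents (fun _ => Iso.refl _) (fun f => by
    simp only [Iso.refl_hom]
    rfl)

/-- the pullback of the constant sheaf is the constant sheaf. -/
noncomputable def pullConstIso :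
    constantSheaf (Opens.grothendieckTopology X) AddCommGrpCat.{u + 1} ⋙ zarPull X ≅
      constantSheaf X.smallEtaleTopology AddCommGrpCat.{u + 1} :=
  Adjunction.leftAdjointUniq
    ((constantSheafAdj (Opens.grothendieckTopology X) AddCommGrpCat.{u + 1} isTerminalTop).comp
      (zarAdj X))
    ((constantSheafAdj X.smallEtaleTopology AddCommGrpCat.{u + 1}
      (zarTopIsTerminal X)).ofNatIsoRight (sectionsIso X).symm)

open Groth.Agent.Lib.Helper21.DerAcyc Groth.Agent.Lib.Helper23ExtRD Groth.Agent.Lib.Helper23LocSS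
  Groth.Agent.Lib.Helper21.FreeAb Groth.Agent.Lib.T2H8.DerAcyc2 in
/-- Leray: étale cohomology agrees with Zariski cohomology of the restriction, for
`resZar`-acyclic sheaves. -/
theorem nonempty_H_resZar_of_acyclic (F : EtCoh.Ab X)
    (hF : ∀ q : ℕ, 0 < q → IsZero (((EtZar.resZar X).rightDerived q).obj F)) (p : ℕ) :
    Nonempty (EtZar.H ((EtZar.resZar X).obj F) p ≃+ EtCoh.H X F p) := by
  haveI : (zarPull X).Additive := (zarAdj X).left_adjoint_additive
  let E := EtZar.resZar X
  let ZC := (constantSheaf (Opens.grothendieckTopology X) AddCommGrpCat.{u + 1}).obj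
    (AddCommGrpCat.of (ULift ℤ))
  let ZD := (constantSheaf X.smallEtaleTopology AddCommGrpCat.{u + 1}).obj
    (AddCommGrpCat.of (ULift ℤ))
  let G : EtZar.Ab X ⥤ AddCommGrpCat.{u + 1} := preadditiveCoyoneda.obj (op ZC)
  let G' : EtCoh.Ab X ⥤ AddCommGrpCat.{u + 1} := preadditiveCoyoneda.obj (op ZD)
  have hE : ∀ I : EtCoh.Ab X, Injective I → ∀ q : ℕ, 0 < q →
      IsZero ((G.rightDerived q).obj (E.obj I)) := by
    intro I hI q hq
    obtain ⟨q, rfl⟩ : ∃ k, q = k + 1 := ⟨q - 1, by lia⟩
    haveI : Injective (E.obj I) := injective_resZar X I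
    exact Functor.isZero_rightDerived_obj_injective_succ G q (E.obj I)
  let iso : E ⋙ G ≅ G' :=
    adjCoyonedaIso (zarAdj X) ZC ≪≫
      coyonedaIsoOfIso ((pullConstIso X).app (AddCommGrpCat.of (ULift ℤ)))
  obtain ⟨e₁⟩ := nonempty_rightDerived_comp_iso_of_acyclic E G hE F hF p
  let e₂ := (rightDerivedIso iso p).app F
  obtain ⟨e₃⟩ := rightDerived_coyoneda_iso ZC (E.obj F) p
  obtain ⟨e₄⟩ := rightDerived_coyoneda_iso ZD F p
  exact ⟨(e₃.symm ≪≫ e₁.symm ≪≫ e₂ ≪≫ e₄).addCommGroupIsoToAddEquiv⟩

end Groth.Agent.Lib.T2H8.EtZarA
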