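import Mathlib
import Groth.Agent.Lib.T2H8EtZarA
import Groth.Agent.Lib.Helper9EtMVCompare
import Groth.Agent.Lib.Helper9JContAll
import Groth.Agent.Lib.Helper16Flasque

/-!
# helper8: sheaves on the small étale site whose higher cohomology over affine objects vanishes
are acyclic for the restriction to the Zariski site
-/

set_option autoImplicit false
set_option linter.unusedSectionVars false
set_option linter.style.haveILetI false
universe u
open CategoryTheory CategoryTheory.Limits AlgebraicGeometry Opposite Abelian TopologicalSpace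

namespace Groth.Agent.Lib.T2H8.EtZarB
open Groth.Agent.Lib.Helper9.EtMV Groth.Agent.Lib.Helper9.EtPull Groth.Agent.Lib.T2H8.EtZarA
open Groth.Agent.Lib.Helper16.Flasque

variable (X : Scheme.{u})

/-- higher cohomology over all affine étale `X`-schemes vanishes -/
def AffAcyc (F : EtCoh.Ab X) : Prop :=
  ∀ T : X.Etale, IsAffine T.left → ∀ i : ℕ, ∀ x : Ext.{u + 1} (Zh T) F (i + 1), x = 0

theorem affAcyc_of_injective (I : EtCoh.Ab X) [Injective I] : AffAcyc X I :=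
  fun _ _ _ x => Ext.eq_zero_of_injective x

theorem affAcyc_X₃ (S : ShortComplex (EtCoh.Ab X)) (hS : S.ShortExact) (h1 : AffAcyc X S.X₁)
    (h2 : AffAcyc X S.X₂) : AffAcyc X S.X₃ := by
  intro T hT i x
  obtain ⟨x₂, hx₂⟩ := Ext.covariant_sequence_exact₃ (Zh T) hS x (rfl : i + 1 + 1 = i + 1 + 1)
    (h1 T hT (i + 1) _)
  rw [← hx₂, h2 T hT i x₂, Ext.zero_comp]

theorem surj_of_affAcyc (S : ShortComplex (EtCoh.Ab X)) (hS : S.ShortExact)
    (h1 : AffAcyc X S.X₁) (T : X.Etale) (hT : IsAffine T.left) :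
    Function.Surjective (S.g.hom.app (op T)).hom := by
  intro s
  let φ : Zh T ⟶ S.X₃ := (zhEquiv T S.X₃).symm s
  obtain ⟨x₂, hx₂⟩ := Ext.covariant_sequence_exact₃ (Zh T) hS (Ext.mk₀ φ) (rfl : 0 + 1 = 0 + 1)
    (h1 T hT 0 _)
  obtain ⟨ψ, rfl⟩ := (Ext.mk₀_bijective _ _).2 x₂
  rw [Ext.mk₀_comp_mk₀] at hx₂
  have h3 : ψ ≫ S.g = φ := (Ext.mk₀_bijective _ _).1 hx₂
  refine ⟨zhEquiv T S.X₂ ψ, ?_⟩
  rw [← zhEquiv_comp, h3]
  exact (zhEquiv T S.X₃).apply_symm_apply s

variable [EtZar.ZarCont X]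

theorem epi_resZar (S : ShortComplex (EtCoh.Ab X)) (hS : S.ShortExact)
    (h1 : AffAcyc X S.X₁) : Epi ((EtZar.resZar X).map S.g) := by
  suffices h : Sheaf.IsLocallySurjective ((EtZar.resZar X).map S.g) from
    Sheaf.epi_of_isLocallySurjective _
  refine ⟨fun {U} s => ?_⟩
  intro x hx
  obtain ⟨_, ⟨V, hV : IsAffineOpen V, rfl⟩, hxV, hVU⟩ :=
    X.isBasis_affineOpens.exists_subset_of_mem_open hx U.2
  refine ⟨V, homOfLE hVU, ?_, hxV⟩
  obtain ⟨t, ht⟩ := surj_of_affAcyc X S hS h1 ((EtZar.zarToEt X).obj V) hV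
    (S.X₃.obj.map ((EtZar.zarToEt X).map (homOfLE hVU)).op s)
  exact ⟨t, ht⟩

theorem isZero_RresZar (F : EtCoh.Ab X) (hF : AffAcyc X F) (n : ℕ) :
    IsZero (((EtZar.resZar X).rightDerived (n + 1)).obj F) :=
  rightDerived_vanish (EtZar.resZar X) (AffAcyc X)
    (fun I hI => by haveI := hI; exact affAcyc_of_injective X I)
    (fun T hT h1 h2 => affAcyc_X₃ X T hT h1 h2)
    (fun T hT h1 => epi_resZar X T hT h1) F hF n

/-- Leray for affine-acyclic sheaves -/
theorem nonempty_H_resZar_of_affAcyc (F : EtCoh.Ab X) (hF : AffAcyc X F) (p : ℕ) :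
    Nonempty (EtZar.H ((EtZar.resZar X).obj F) p ≃+ EtCoh.H X F p) := by
  refine nonempty_H_resZar_of_acyclic X F (fun q hq => ?_) p
  obtain ⟨q, rfl⟩ : ∃ k, q = k + 1 := ⟨q - 1, by lia⟩
  exact isZero_RresZar X F hF q

end Groth.Agent.Lib.T2H8.EtZarB
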