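import Mathlib
import Groth.Agent.Lib.T2H8EtZarB
import Groth.Agent.Lib.T2H8StrictHens
import Groth.Agent.Lib.Helper4SpreadFP
import Groth.Agent.Lib.Helper16SmallEtale

/-!
# helper8: continuity of `zarToEt`; exactness of `resZar` over schemes with strictly henselian
local rings
-/

set_option autoImplicit false
set_option linter.unusedSectionVars false
set_option linter.style.haveILetI false
universe u
open CategoryTheory CategoryTheory.Limits AlgebraicGeometry Opposite Abelian TopologicalSpace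

namespace Groth.Agent.Lib.T2H8.EtZarD
open Groth.Agent.Lib.T2H8.EtZarA Groth.Agent.Lib.T2H8.EtZarB
open Groth.Agent.Lib.Helper16.Flasque

variable (X : Scheme.{u})

theorem coverPreserving_zarToEt :
    CoverPreserving (Opens.grothendieckTopology X) X.smallEtaleTopology (EtZar.zarToEt X) := by
  constructor
  intro U S hS
  rw [Groth.Agent.Lib.Helper16.SmallEtale.mem_smallEtale_iff]
  intro x
  obtain ⟨V, f, hf, hxV⟩ := hS x.1 x.2
  refine ⟨(EtZar.zarToEt X).obj V, (EtZar.zarToEt X).map f, ⟨x.1, hxV⟩,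
    Sieve.image_mem_functorPushforward _ _ hf, ?_⟩
  apply Subtype.ext
  exact Scheme.homOfLE_apply (X := X) (U := V) (V := U) f.le ⟨x.1, hxV⟩

/-- open coverings are étale coverings -/
theorem zarCont : EtZar.ZarCont X :=
  (Functor.isContinuous_iff_coverPreserving (F := EtZar.zarToEt X)
    (J := Opens.grothendieckTopology X) (K := X.smallEtaleTopology)).2 (coverPreserving_zarToEt X)

variable {X}

/-- an étale morphism to a scheme with strictly henselian local rings has local sections through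
every point -/
theorem exists_local_section
    (hS : ∀ s : X, EtCoh.IsStrictlyHenselianLocalRing (X.presheaf.stalk s))
    {Z : Scheme.{u}} (g : Z ⟶ X) [Etale g] (z : Z) :
    ∃ (W : X.Opens) (_ : g z ∈ W) (f : W.toScheme ⟶ Z), f ≫ g = W.ι := by
  obtain ⟨hH, hSC⟩ := hS (g z)
  haveI := hH
  haveI := hSC
  have hcl : X.fromSpecStalk (g z) (IsLocalRing.closedPoint (X.presheaf.stalk (g z))) = g z :=
    Scheme.fromSpecStalk_closedPoint
  obtain ⟨p, hp1, hp2⟩ := Scheme.Pullback.exists_preimage_pullback (f := g)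
    (g := X.fromSpecStalk (g z)) z
    (IsLocalRing.closedPoint (X.presheaf.stalk (g z))) hcl.symm
  obtain ⟨σ, hσ⟩ := @Groth.Agent.Lib.T2H8.StrictHens.exists_section (X.presheaf.stalk (g z))
    _ hH hSC _ (pullback.snd g (X.fromSpecStalk (g z))) _ p hp2
  have h : (σ ≫ pullback.fst g (X.fromSpecStalk (g z))) ≫ g = X.fromSpecStalk (g z) ≫ 𝟙 X := by
    rw [Category.assoc, pullback.condition, ← Category.assoc, hσ, Category.id_comp,
      Category.comp_id]
  obtain ⟨W, hxW, f, -, hf⟩ :=
    Groth.Agent.Lib.Helper4.SpreadFP.spread_out_of_finitePresentation' (𝟙 X) g _ h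
  exact ⟨W, hxW, f, by rw [hf, Category.comp_id]⟩

variable (X) [EtZar.ZarCont X]

theorem epi_resZar_of_strictHens
    (hS : ∀ s : X, EtCoh.IsStrictlyHenselianLocalRing (X.presheaf.stalk s))
    {F G : EtCoh.Ab X} (φ : F ⟶ G) [Epi φ] : Epi ((EtZar.resZar X).map φ) := by
  suffices h : Sheaf.IsLocallySurjective ((EtZar.resZar X).map φ) from
    Sheaf.epi_of_isLocallySurjective _
  have hloc : Sheaf.IsLocallySurjective φ :=
    (Sheaf.isLocallySurjective_iff_epi' AddCommGrpCat.{u + 1} φ).2 inferInstance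
  refine ⟨fun {U'} s => ?_⟩
  intro x hx
  let U : X.Opens := U'
  have hT : Presheaf.imageSieve φ.hom (show G.obj.obj (op ((EtZar.zarToEt X).obj U)) from s) ∈
      X.smallEtaleTopology ((EtZar.zarToEt X).obj U) := hloc.imageSieve_mem _
  obtain ⟨Z, k, z, hk, hz⟩ :=
    (Groth.Agent.Lib.Helper16.SmallEtale.mem_smallEtale_iff _ _).1 hT ⟨x, hx⟩
  haveI : Etale Z.hom := Z.prop
  obtain ⟨W, hxW, f, hf⟩ := exists_local_section hS Z.hom z
  have hZx : Z.hom z = x := by
    have h1 : k.left ≫ U.ι = Z.hom := MorphismProperty.Over.w k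
    rw [← h1, Scheme.Hom.comp_apply, hz]
    rfl
  have hWU : W ≤ U := by
    intro y hy
    have h1 : k.left ≫ U.ι = Z.hom := MorphismProperty.Over.w k
    have h2 : (f ≫ k.left) ≫ U.ι = W.ι := by rw [Category.assoc, h1, hf]
    have h3 : W.ι ⟨y, hy⟩ = y := rfl
    rw [← h3, ← h2, Scheme.Hom.comp_apply]
    exact ((f ≫ k.left) ⟨y, hy⟩).2
  let fW : (EtZar.zarToEt X).obj W ⟶ Z := MorphismProperty.Over.homMk f hf
  have hcomp : fW ≫ k = (EtZar.zarToEt X).map (homOfLE hWU) := hom_zarToEt_ext X _ _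
  refine ⟨W, homOfLE hWU, ?_, by rw [← hZx]; exact hxW⟩
  have h4 : Presheaf.imageSieve φ.hom
      (show G.obj.obj (op ((EtZar.zarToEt X).obj U)) from s) (fW ≫ k) :=
    (Presheaf.imageSieve φ.hom _).downward_closed hk fW
  rw [hcomp] at h4
  exact h4

theorem isZero_RresZar_of_strictHens
    (hS : ∀ s : X, EtCoh.IsStrictlyHenselianLocalRing (X.presheaf.stalk s))
    (F : EtCoh.Ab X) (n : ℕ) :
    IsZero (((EtZar.resZar X).rightDerived (n + 1)).obj F) :=
  rightDerived_vanish (EtZar.resZar X) (fun _ => True)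
    (fun _ _ => trivial) (fun _ _ _ _ => trivial)
    (fun T hT _ => by haveI := hT.epi_g; exact epi_resZar_of_strictHens X hS T.g) F trivial n

theorem main (hS : ∀ s : X, EtCoh.IsStrictlyHenselianLocalRing (X.presheaf.stalk s))
    (F : EtCoh.Ab X) (i : ℕ) :
    Nonempty (EtCoh.H X F i ≃+ EtZar.H ((EtZar.resZar X).obj F) i) := by
  obtain ⟨e⟩ := nonempty_H_resZar_of_acyclic X F (fun q hq => by
    obtain ⟨q, rfl⟩ : ∃ k, q = k + 1 := ⟨q - 1, by lia⟩
    exact isZero_RresZar_of_strictHens X hS F q) i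
  exact ⟨e.symm⟩

end Groth.Agent.Lib.T2H8.EtZarD
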