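import Mathlib

/-!
# helper8: flasque abelian sheaves on a topological space, with values one universe up

Adaptation of `Mathlib/Topology/Sheaves/Flasque.lean` to sheaves of `AddCommGrpCat.{u + 1}` on a
space in universe `u`.
-/

set_option autoImplicit false
set_option linter.unusedSectionVars false
set_option linter.style.haveILetI false
universe u
open CategoryTheory CategoryTheory.Limits Opposite TopologicalSpace TopCat TopCat.Presheaf

namespace Groth.Agent.Lib.T2H8.ULiftFlasque

open scoped AlgebraicGeometry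

variable {X : TopCat.{u}}

/-- abelian sheaves one universe up -/
abbrev AbL (X : TopCat.{u}) := Sheaf (Opens.grothendieckTopology X) AddCommGrpCat.{u + 1}

instance essSmallOpens (X : TopCat.{u}) : EssentiallySmall.{u + 1} (Opens X) :=
  essentiallySmall_of_small_of_locallySmall _

instance (X : TopCat.{u}) : HasSheafify (Opens.grothendieckTopology X) AddCommGrpCat.{u + 1} :=
  hasSheafifyEssentiallySmallSite _ _

instance (X : TopCat.{u}) : IsGrothendieckAbelian.{u + 1} (AbL X) :=
  Sheaf.isGrothendieckAbelian_of_essentiallySmall _ _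

section Image

variable {F G : AbL X} (g : F ⟶ G)

/-- sections of `G` which are locally in the image of `g` -/
def locImage (U : Opens X) : AddSubgroup (G.obj.obj (op U)) where
  carrier := {s | ∀ x ∈ U, ∃ (W : Opens X) (hW : W ≤ U), x ∈ W ∧
    ∃ t : F.obj.obj (op W), (g.hom.app (op W)).hom t = (G.obj.map (homOfLE hW).op).hom s}
  zero_mem' := fun x hx => ⟨U, le_rfl, hx, 0, by simp⟩
  add_mem' := by
    intro a b ha hb x hx
    obtain ⟨W₁, hW₁, hx₁, t₁, ht₁⟩ := ha x hx
    obtain ⟨W₂, hW₂, hx₂, t₂, ht₂⟩ := hb x hx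
    refine ⟨W₁ ⊓ W₂, inf_le_left.trans hW₁, ⟨hx₁, hx₂⟩,
      (F.obj.map (homOfLE (inf_le_left : W₁ ⊓ W₂ ≤ W₁)).op).hom t₁ +
        (F.obj.map (homOfLE (inf_le_right : W₁ ⊓ W₂ ≤ W₂)).op).hom t₂, ?_⟩
    have n₁ := congrArg (fun m => m.hom t₁)
      (g.hom.naturality (homOfLE (inf_le_left : W₁ ⊓ W₂ ≤ W₁)).op)
    have n₂ := congrArg (fun m => m.hom t₂)
      (g.hom.naturality (homOfLE (inf_le_right : W₁ ⊓ W₂ ≤ W₂)).op)
    simp only [AddCommGrpCat.hom_comp, AddMonoidHom.coe_comp, Function.comp_apply] at n₁ n₂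
    rw [map_add, map_add, n₁, n₂, ht₁, ht₂]
    rw [← AddMonoidHom.comp_apply, ← AddMonoidHom.comp_apply, ← AddCommGrpCat.hom_comp,
      ← AddCommGrpCat.hom_comp, ← G.obj.map_comp, ← G.obj.map_comp]
    rfl
  neg_mem' := by
    intro a ha x hx
    obtain ⟨W₁, hW₁, hx₁, t₁, ht₁⟩ := ha x hx
    exact ⟨W₁, hW₁, hx₁, -t₁, by rw [map_neg, map_neg, ht₁]⟩

theorem map_mem_locImage {U V : Opens X} (h : V ≤ U) (s : G.obj.obj (op U))
    (hs : s ∈ locImage g U) : (G.obj.map (homOfLE h).op).hom s ∈ locImage g V := by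
  intro x hx
  obtain ⟨W, hW, hxW, t, ht⟩ := hs x (h hx)
  refine ⟨W ⊓ V, inf_le_right, ⟨hxW, hx⟩,
    (F.obj.map (homOfLE (inf_le_left : W ⊓ V ≤ W)).op).hom t, ?_⟩
  have n₁ := congrArg (fun m => m.hom t)
    (g.hom.naturality (homOfLE (inf_le_left : W ⊓ V ≤ W)).op)
  simp only [AddCommGrpCat.hom_comp, AddMonoidHom.coe_comp, Function.comp_apply] at n₁
  rw [n₁, ht]
  rw [← AddMonoidHom.comp_apply, ← AddMonoidHom.comp_apply, ← AddCommGrpCat.hom_comp,
    ← AddCommGrpCat.hom_comp, ← G.obj.map_comp, ← G.obj.map_comp]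
  rfl

theorem app_mem_locImage (U : Opens X) (t : F.obj.obj (op U)) :
    (g.hom.app (op U)).hom t ∈ locImage g U := by
  intro x hx
  refine ⟨U, le_rfl, hx, t, ?_⟩
  have : (homOfLE (le_refl U)).op = 𝟙 (op U) := rfl
  rw [this, G.obj.map_id]
  rfl

/-- the presheaf of locally-image sections -/
noncomputable def imPresheaf : (Opens X)ᵒᵖ ⥤ AddCommGrpCat.{u + 1} where
  obj U := AddCommGrpCat.of (locImage g U.unop)
  map {U V} i := AddCommGrpCat.ofHom
    (((G.obj.map i).hom.comp (locImage g U.unop).subtype).codRestrict (locImage g V.unop)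
      (fun s => map_mem_locImage g (leOfHom i.unop) s.1 s.2))
  map_id U := by
    ext s
    change (G.obj.map (𝟙 U)).hom s.1 = s.1
    rw [G.obj.map_id]
    rfl
  map_comp {U V W} i j := by
    ext s
    change (G.obj.map (i ≫ j)).hom s.1 = (G.obj.map j).hom ((G.obj.map i).hom s.1)
    rw [G.obj.map_comp]
    rfl

/-- inclusion of the locally-image presheaf -/
noncomputable def imι : imPresheaf g ⟶ G.obj where
  app U := AddCommGrpCat.ofHom (locImage g U.unop).subtype
  naturality {U V} i := by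
    ext s
    rfl

/-- `g` factors through the locally-image presheaf -/
noncomputable def toIm : F.obj ⟶ imPresheaf g where
  app U := AddCommGrpCat.ofHom ((g.hom.app U).hom.codRestrict (locImage g U.unop)
    (fun t => app_mem_locImage g U.unop t))
  naturality {U V} i := by
    ext s
    apply Subtype.ext
    change (g.hom.app V).hom ((F.obj.map i).hom s) = (G.obj.map i).hom ((g.hom.app U).hom s)
    exact congrArg (fun m => m.hom s) (g.hom.naturality i)

theorem toIm_imι : toIm g ≫ imι g = g.hom := by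
  ext U s
  rfl

theorem isSheaf_imPresheaf : TopCat.Presheaf.IsSheaf (imPresheaf g) := by
  rw [TopCat.Presheaf.isSheaf_iff_isSheafUniqueGluing]
  intro ι U sf hsf
  have hG := (TopCat.Presheaf.isSheaf_iff_isSheafUniqueGluing G.obj).1 G.property
  obtain ⟨s, hs, hs'⟩ := hG U (fun i => (sf i).1) (fun i j => congrArg Subtype.val (hsf i j))
  have hmem : s ∈ locImage g (iSup U) := by
    intro x hx
    obtain ⟨i, hxi⟩ := Opens.mem_iSup.1 hx
    obtain ⟨W, hW, hxW, t, ht⟩ := (sf i).2 x hxi
    refine ⟨W, hW.trans (le_iSup U i), hxW, t, ?_⟩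
    rw [ht]
    have h1 : (G.obj.map (Opens.leSupr U i).op).hom s = (sf i).1 := hs i
    rw [← h1, ← AddMonoidHom.comp_apply, ← AddCommGrpCat.hom_comp, ← G.obj.map_comp]
    rfl
  refine ⟨⟨s, hmem⟩, fun i => Subtype.ext (hs i), fun y hy => ?_⟩
  apply Subtype.ext
  exact hs' y.1 (fun i => congrArg Subtype.val (hy i))

/-- every section of the target of an epimorphism is locally in the image -/
theorem mem_locImage_of_epi [Epi g] (U : Opens X) (s : G.obj.obj (op U)) : s ∈ locImage g U := by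
  let I : AbL X := ⟨imPresheaf g, isSheaf_imPresheaf g⟩
  let ι : I ⟶ G := ⟨imι g⟩
  let p : F ⟶ I := ⟨toIm g⟩
  have hfac : p ≫ ι = g := CategoryTheory.Sheaf.hom_ext (toIm_imι g)
  haveI : Epi ι := epi_of_epi_fac hfac
  haveI : Mono ι.hom := by
    haveI : ∀ V, Mono ((imι g).app V) := fun V => by
      rw [AddCommGrpCat.mono_iff_injective]
      exact Subtype.val_injective
    exact NatTrans.mono_of_mono_app _
  haveI : Mono ι := Sheaf.Hom.mono_of_presheaf_mono _ _ ι
  have hiso : IsIso ι := isIso_of_mono_of_epi ι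
  let e : I ≅ G := @asIso _ _ _ _ ι hiso
  let e' := ((sheafSections (Opens.grothendieckTopology X) AddCommGrpCat.{u + 1}).obj
    (op U)).mapIso e
  obtain ⟨t, ht⟩ := (ConcreteCategory.bijective_of_isIso e'.hom).2 s
  rw [← ht]
  exact (show locImage g U from t).2

theorem exists_local_lift [Epi g] {U : Opens X} (s : G.obj.obj (op U)) (x : X) (hx : x ∈ U) :
    ∃ (W : Opens X) (hW : W ≤ U) (t : F.obj.obj (op W)),
      (g.hom.app (op W)).hom t = (G.obj.map (homOfLE hW).op).hom s ∧ x ∈ W := by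
  obtain ⟨W, hW, hxW, t, ht⟩ := mem_locImage_of_epi g U s x hx
  exact ⟨W, hW, t, ht, hxW⟩

end Image

section Exact

theorem restrict_sum {U V : Opens X} {F : TopCat.Presheaf AddCommGrpCat.{u + 1} X} (h : V ≤ U)
    (s t : F.obj (op U)) : (s + t) |_ V = s |_ V + t |_ V := by
  delta Presheaf.restrictOpen Presheaf.restrict
  cat_disch

theorem sections_exact_of_left_exact {U : Opens X} {S : ShortComplex (AbL X)}
    (hS : S.ShortExact) (s : S.X₂.obj.obj (op U))
    (h : S.g.hom.app (op U) s = 0) :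
    ∃ (t : S.X₁.obj.obj (op U)), S.f.hom.app (op U) t = s := by
  let Γ : AbL X ⥤ AddCommGrpCat.{u + 1} :=
    sheafToPresheaf (Opens.grothendieckTopology X) AddCommGrpCat.{u + 1} ⋙
      (evaluation _ _).obj (op U)
  haveI : Mono S.f := hS.mono_f
  haveI : Γ.Additive := by
    dsimp only [Γ]
    infer_instance
  haveI : PreservesFiniteLimits Γ := by
    dsimp only [Γ]
    infer_instance
  have h1 : (S.map Γ).Exact := hS.exact.map_of_mono_of_preservesKernel Γ hS.mono_f inferInstance
  exact (ShortComplex.ab_exact_iff (S.map Γ)).1 h1 s h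

end Exact

section Flasque

variable {U : Opens X} {F G : AbL X} (g : F ⟶ G) (s : G.obj.obj (op U))

/-- Given a morphism of sheaves `g: F ⟶ G` and a section `s` of `G(U)`, `Under g s` is comprised of
an open `V` and a section of `F(V)` that maps to `s |_ V` via `g`. -/
abbrev Under := StructuredArrow ⟨op U, s⟩ (Functor.whiskerRight g.hom
  (CategoryTheory.forget AddCommGrpCat.{u + 1})).mapElements

set_option backward.isDefEq.respectTransparency.types false in
lemma structured_arrows_elements_sheaf_chains_bounded (c : Set (Under g s))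
    (h : IsChain (fun x y ↦ Nonempty (y ⟶ x)) c) : ∃ ub, ∀ a ∈ c, Nonempty (ub ⟶ a) := by
  let f : c → (Opens X) := fun x => x.1.right.1.unop
  obtain ⟨t, ht, _⟩ : ∃! s_1, IsGluing F.obj f (fun x => x.val.right.2) s_1 := by
    refine TopCat.Sheaf.existsUnique_gluing F _ _ (fun i j ↦ ?_)
    obtain (rfl | h₁ | h₁) : i = j ∨ Nonempty (i.val ⟶ j.val) ∨ Nonempty (j.val ⟶ i.val) := by
      grind [Subtype.ext_iff, h i.property j.property]
    · rfl
    all_goals
      rw [← CategoryOfElements.map_snd h₁.some.2]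
      dsimp
      rw [← Functor.map_comp_apply]
      rfl
  have le₁ : iSup f ≤ U := iSup_le <| fun j => leOfHom j.1.hom.1.unop
  have le₂ : ∀ i, i ∈ c → unop i.right.1 ≤ iSup f := fun i hi ↦ le_iSup f ⟨i, hi⟩
  use StructuredArrow.mk (CategoryOfElements.homMk _ _ (homOfLE le₁).op (TopCat.Sheaf.eq_app_of_locally_eq ht
      (fun i ↦ leOfHom i.1.hom.1.unop) (fun i ↦ (CategoryOfElements.map_snd i.1.hom).symm)).symm :
      ⟨op U, s⟩ ⟶ (Functor.whiskerRight g.hom
      (CategoryTheory.forget AddCommGrpCat)).mapElements.obj ⟨op (iSup f), t⟩)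
  exact fun i hi => Nonempty.intro (StructuredArrow.homMk (CategoryOfElements.homMk _ _
    (homOfLE (le₂ i hi)).op (ht ⟨i, hi⟩)) (by cat_disch))

/-- a sheaf is flasque if it is flasque as a presheaf -/
abbrev IsFlasque (F : AbL X) := TopCat.Presheaf.IsFlasque F.obj

set_option backward.isDefEq.respectTransparency false in
/-- Given a short exact sequence of sheaves, `0 ⟶ 𝓕 ⟶ 𝓖 ⟶ 𝓗 ⟶ 0`, if `𝓕` is flasque then
`𝓖(U) ⟶ 𝓗(U)` is surjective, for any open `U`. -/
theorem epi_of_shortExact {S : ShortComplex (AbL X)} (hS : S.ShortExact)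
    [IsFlasque S.X₁] : Epi (S.g.1.app (op U)) := by
  refine (AddCommGrpCat.epi_iff_surjective _).mpr (fun s ↦ ?_)
  obtain ⟨t, ht⟩ := exists_maximal_of_chains_bounded
    (structured_arrows_elements_sheaf_chains_bounded S.g s)
    (fun ⟨f⟩ ⟨g⟩ ↦ ⟨g ≫ f⟩)
  have tle : t.right.1.unop ≤ U := leOfHom t.hom.1.unop
  have tcomp : s |_ t.right.1.unop = S.g.hom.app t.right.1 t.right.2 :=
      CategoryOfElements.map_snd t.hom
  have : U ≤ t.right.1.unop := by
    intro x hx
    haveI : Epi S.g := hS.epi_g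
    obtain ⟨W, Wle, t₁, ht₁, hW⟩ := exists_local_lift S.g s x hx
    replace ht₁ : S.g.hom.app (op W) t₁ = s |_ W := ht₁
    let t₂ := t.right.2 |_ (t.right.1.unop ⊓ W) - t₁ |_ (t.right.1.unop ⊓ W)
    have : (S.g.hom.app (op (t.right.1.unop ⊓ W))) t₂ = 0 := by
      simp [map_restrict, ← tcomp, restrict_restrict, ht₁, t₂]
    obtain ⟨t₃, ht₃⟩ := sections_exact_of_left_exact hS t₂ this
    obtain ⟨t₄, (ht₄ : t₄ |_ (t.right.1.unop ⊓ W) = t₃)⟩ := (AddCommGrpCat.epi_iff_surjective
      (S.X₁.obj.map (homOfLE inf_le_right).op)).mp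
        (TopCat.Presheaf.IsFlasque.epi (F := S.X₁.obj) _) t₃
    let f : Fin 2 → Opens X := ![t.right.1.unop, W]
    let sf : (i : Fin 2) → S.X₂.obj.obj (op (f i))
    | 0 => t.right.2
    | 1 => t₁ + (S.f.hom.app (op W)) t₄
    have : sf 0 |_ (t.right.1.unop ⊓ W) = sf 1 |_ (t.right.1.unop ⊓ W) := by
      dsimp [sf, f]
      simp only [restrict_sum, ← map_restrict, ht₄, ht₃, t₂, add_sub_cancel]
    obtain ⟨t₅, ht₅, _⟩ : ∃! t₅, IsGluing S.X₂.obj f sf t₅ := by
      apply TopCat.Sheaf.existsUnique_gluing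
      simp only [IsCompatible, Fin.forall_fin_two]
      refine ⟨⟨rfl, this⟩, Eq.symm ?_, rfl⟩
      apply_fun (fun s ↦ restrictOpen s (W ⊓ t.right.1.unop) (le_of_eq (inf_comm _ _))) at this
      rw [restrict_restrict, restrict_restrict] at this
      exact this
    have le : iSup f ≤ U := iSup_le_iff.mpr (Fin.forall_fin_two.mpr ⟨tle, Wle⟩)
    let t₆ : Under S.g s :=
      StructuredArrow.mk (S := ⟨op U, s⟩)
        (T := (Functor.whiskerRight S.g.hom (CategoryTheory.forget AddCommGrpCat)).mapElements)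
        (Y := ⟨op (iSup f), t₅⟩) <| CategoryOfElements.homMk _ _ (homOfLE le).op (by
          refine (TopCat.Sheaf.eq_app_of_locally_eq ht₅ (by rw [Fin.forall_fin_two]; exact ⟨tle, Wle⟩) ?_).symm
          rw [Fin.forall_fin_two]
          refine ⟨tcomp.symm, ?_⟩
          simp only [Fin.isValue, map_add, homOfLE_leOfHom, sf, f]
          have : (S.f.hom.app (op W) ≫ S.g.hom.app (op W)) = 0 := by
            rw [← NatTrans.comp_app, ← ObjectProperty.FullSubcategory.comp_hom, S.zero]
            rfl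
          simp [← CategoryTheory.comp_apply, this, ht₁]
          rfl)
    have : Nonempty (t₆ ⟶ t) := Nonempty.intro (StructuredArrow.homMk (CategoryOfElements.homMk _ _
      (homOfLE (le_iSup f 0)).op (ht₅ 0)) (by cat_disch))
    exact leOfHom ((ht t₆) this).some.right.1.unop ((le_iSup f 1) hW)
  exact ⟨t.right.2 |_ U, by simp [map_restrict, ← tcomp, restrict_restrict]⟩

set_option backward.isDefEq.respectTransparency.types false in
theorem of_shortExact_of_isFlasque₁₂ {S : ShortComplex (AbL X)}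
    (hS : S.ShortExact) [IsFlasque S.X₁] [IsFlasque S.X₂] : IsFlasque S.X₃ where
  epi {U V} i := by
    have : Epi (S.g.1.app U ≫ S.X₃.obj.map i) := by
      rw [← S.g.hom.naturality i]
      exact CategoryTheory.epi_comp' inferInstance (epi_of_shortExact hS)
    exact CategoryTheory.epi_of_epi (S.g.1.app U) (S.X₃.obj.map i)

end Flasque

section Zh

variable {C : Type*} [Category.{u} C] (J : GrothendieckTopology C)
  [HasSheafify J AddCommGrpCat.{u + 1}]

/-- the free abelian sheaf on the representable presheaf `h_P` -/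
noncomputable def Zh (P : C) : Sheaf J AddCommGrpCat.{u + 1} :=
  (presheafToSheaf J AddCommGrpCat.{u + 1}).obj
    (uliftYoneda.{u + 1}.obj P ⋙ AddCommGrpCat.free.{u + 1})

/-- functoriality of `Zh` -/
noncomputable def ZhMap {P Q : C} (r : P ⟶ Q) : Zh J P ⟶ Zh J Q :=
  (presheafToSheaf J AddCommGrpCat.{u + 1}).map
    (Functor.whiskerRight (uliftYoneda.{u + 1}.map r) AddCommGrpCat.free.{u + 1})

/-- maps out of `Zh P` are sections over `P` -/
noncomputable def zhEquiv (P : C) (F : Sheaf J AddCommGrpCat.{u + 1}) :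
    (Zh J P ⟶ F) ≃ (F.obj.obj (op P) : AddCommGrpCat.{u + 1}) :=
  ((sheafificationAdjunction J AddCommGrpCat.{u + 1}).homEquiv
      (uliftYoneda.{u + 1}.obj P ⋙ AddCommGrpCat.free.{u + 1}) F).trans
    (((AddCommGrpCat.adj.{u + 1}.whiskerRight Cᵒᵖ).homEquiv
      (uliftYoneda.{u + 1}.obj P) F.obj).trans uliftYonedaEquiv.{u + 1})

lemma zhEquiv_comp (P : C) {F F' : Sheaf J AddCommGrpCat.{u + 1}} (φ : Zh J P ⟶ F) (g : F ⟶ F') :
    zhEquiv J P F' (φ ≫ g) = (g.hom.app (op P)).hom (zhEquiv J P F φ) := by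
  have h1 := (sheafificationAdjunction J
    AddCommGrpCat.{u + 1}).homEquiv_naturality_right φ g
  have h2 := (AddCommGrpCat.adj.{u + 1}.whiskerRight Cᵒᵖ).homEquiv_naturality_right
    ((sheafificationAdjunction J AddCommGrpCat.{u + 1}).homEquiv
      (uliftYoneda.{u + 1}.obj P ⋙ AddCommGrpCat.free.{u + 1}) F φ) g.hom
  change uliftYonedaEquiv.{u + 1} ((AddCommGrpCat.adj.{u + 1}.whiskerRight Cᵒᵖ).homEquiv
      (uliftYoneda.{u + 1}.obj P) F'.obj
      ((sheafificationAdjunction J AddCommGrpCat.{u + 1}).homEquiv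
        (uliftYoneda.{u + 1}.obj P ⋙ AddCommGrpCat.free.{u + 1}) F' (φ ≫ g))) = _
  rw [h1]
  erw [h2]
  rfl

lemma zhEquiv_map {P Q : C} (r : P ⟶ Q) (F : Sheaf J AddCommGrpCat.{u + 1}) (φ : Zh J Q ⟶ F) :
    zhEquiv J P F (ZhMap J r ≫ φ) = (F.obj.map r.op).hom (zhEquiv J Q F φ) := by
  have h1 := (sheafificationAdjunction J
    AddCommGrpCat.{u + 1}).homEquiv_naturality_left
      (Functor.whiskerRight (uliftYoneda.{u + 1}.map r) AddCommGrpCat.free.{u + 1}) φ
  have h2 := (AddCommGrpCat.adj.{u + 1}.whiskerRight Cᵒᵖ).homEquiv_naturality_left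
    (uliftYoneda.{u + 1}.map r)
    ((sheafificationAdjunction J AddCommGrpCat.{u + 1}).homEquiv
      (uliftYoneda.{u + 1}.obj Q ⋙ AddCommGrpCat.free.{u + 1}) F φ)
  change uliftYonedaEquiv.{u + 1} ((AddCommGrpCat.adj.{u + 1}.whiskerRight Cᵒᵖ).homEquiv
      (uliftYoneda.{u + 1}.obj P) F.obj
      ((sheafificationAdjunction J AddCommGrpCat.{u + 1}).homEquiv
        (uliftYoneda.{u + 1}.obj P ⋙ AddCommGrpCat.free.{u + 1}) F
        ((presheafToSheaf J AddCommGrpCat.{u + 1}).map
          (Functor.whiskerRight (uliftYoneda.{u + 1}.map r) AddCommGrpCat.free.{u + 1}) ≫ φ))) = _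
  rw [h1]
  erw [h2]
  exact (uliftYonedaEquiv_naturality.{u + 1} _ r.op).symm

instance mono_ZhMap {P Q : C} (r : P ⟶ Q) [Mono r] : Mono (ZhMap J r) := by
  unfold ZhMap
  haveI h1 : Mono (uliftYoneda.{u + 1}.map r) := by
    haveI : ∀ Z, Mono ((uliftYoneda.{u + 1}.map r).app Z) := fun Z => by
      rw [CategoryTheory.mono_iff_injective]
      rintro ⟨a⟩ ⟨b⟩ h
      have h' : a ≫ r = b ≫ r := congrArg ULift.down h
      exact congrArg ULift.up ((cancel_mono r).1 h')
    exact NatTrans.mono_of_mono_app _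
  haveI h2 : Mono (Functor.whiskerRight (uliftYoneda.{u + 1}.map r)
      AddCommGrpCat.free.{u + 1}) := by
    haveI : ∀ Z, Mono ((Functor.whiskerRight (uliftYoneda.{u + 1}.map r)
        AddCommGrpCat.free.{u + 1}).app Z) := fun Z => by
      haveI : Mono ((uliftYoneda.{u + 1}.map r).app Z) := inferInstance
      exact inferInstanceAs (Mono (AddCommGrpCat.free.{u + 1}.map
        ((uliftYoneda.{u + 1}.map r).app Z)))
    exact NatTrans.mono_of_mono_app _
  haveI : PreservesFiniteLimits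
      (presheafToSheaf J AddCommGrpCat.{u + 1}) := inferInstance
  haveI : (presheafToSheaf J AddCommGrpCat.{u + 1}).PreservesMonomorphisms :=
    preservesMonomorphisms_of_preservesLimitsOfShape _
  exact Functor.map_mono _ _

end Zh

section InjFlasque

/-- injective abelian sheaves (one universe up) are flasque -/
theorem injective_isFlasque (I : AbL X) [Injective I] : IsFlasque I := by
  constructor
  intro U V i
  rw [AddCommGrpCat.epi_iff_surjective]
  intro s
  set J := Opens.grothendieckTopology X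
  haveI : Mono i.unop := ⟨fun _ _ _ => Subsingleton.elim _ _⟩
  let φ : Zh J V.unop ⟶ I := (zhEquiv J V.unop I).symm s
  let ψ : Zh J U.unop ⟶ I := Injective.factorThru φ (ZhMap J i.unop)
  have hψ : ZhMap J i.unop ≫ ψ = φ := Injective.comp_factorThru _ _
  refine ⟨zhEquiv J U.unop I ψ, ?_⟩
  have h := zhEquiv_map J i.unop I ψ
  rw [hψ] at h
  rw [← (zhEquiv J V.unop I).apply_symm_apply s]
  exact h.symm

end InjFlasque

end Groth.Agent.Lib.T2H8.ULiftFlasque
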