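import Mathlib
import Groth.Agent.Lib.T2H8ULiftFlasque
import Groth.Agent.Lib.Helper16Flasque
import Groth.Agent.Lib.T2H8DerAcyc2
import Groth.Agent.Lib.Helper23ExtRD
import Groth.Agent.Lib.Helper23LocSS
import Groth.Agent.Lib.Helper21FreeConst

set_option autoImplicit false
set_option linter.unusedSectionVars false
set_option linter.style.haveILetI false
universe u u' u'' v v' v''
open CategoryTheory CategoryTheory.Limits Opposite TopologicalSpace TopCat

namespace Groth.Agent.Lib.T2H8.ULiftSheaf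
open Groth.Agent.Lib.T2H8.ULiftFlasque Groth.Agent.Lib.Helper16.Flasque

section Post

variable {𝒜 : Type u} [Category.{v} 𝒜] [Abelian 𝒜] [EnoughInjectives 𝒜]
  {ℬ : Type u'} [Category.{v'} ℬ] [Abelian ℬ]
  {𝒟 : Type u''} [Category.{v''} 𝒟] [Abelian 𝒟]
  (E : 𝒜 ⥤ ℬ) [E.Additive]
  (G : ℬ ⥤ 𝒟) [G.Additive] [PreservesFiniteLimits G] [PreservesFiniteColimits G]

/-- right derived functors commute with post-composition by an exact functor -/
theorem nonempty_rightDerived_postcomp_iso (M : 𝒜) (n : ℕ) :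
    Nonempty (((E ⋙ G).rightDerived n).obj M ≅ G.obj ((E.rightDerived n).obj M)) := by
  let I : InjectiveResolution M := Classical.choice (HasInjectiveResolution.out)
  let K := (E.mapHomologicalComplex _).obj I.cocomplex
  have e1 := I.isoRightDerivedObj (E ⋙ G) n
  have e2 := I.isoRightDerivedObj E n
  have e3 : ((G.mapHomologicalComplex _).obj K).homology n ≅ G.obj (K.homology n) :=
    (K.sc n).mapHomologyIso G
  exact ⟨e1 ≪≫ e3 ≪≫ G.mapIso e2.symm⟩

end Post

variable (X : TopCat.{u})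

/-- the universe lift of abelian sheaves -/
noncomputable def L : CohTop.Ab X ⥤ AbL X :=
  sheafCompose (Opens.grothendieckTopology X) AddCommGrpCat.uliftFunctor.{u + 1, u}

instance : (L X).Additive where
  map_add := by
    intros
    rfl

instance : PreservesFiniteLimits (L X) := by
  constructor
  intro K _ _
  have h1 : PreservesLimitsOfShape K (L X ⋙ sheafToPresheaf (Opens.grothendieckTopology X)
      AddCommGrpCat.{u + 1}) := by
    change PreservesLimitsOfShape K (sheafToPresheaf (Opens.grothendieckTopology X)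
      AddCommGrpCat.{u} ⋙ (Functor.whiskeringRight _ _ _).obj AddCommGrpCat.uliftFunctor.{u + 1, u})
    infer_instance
  exact preservesLimitsOfShape_of_reflects_of_preserves (L X)
    (sheafToPresheaf (Opens.grothendieckTopology X) AddCommGrpCat.{u + 1})

theorem epi_L_map {F G : CohTop.Ab X} (g : F ⟶ G) [Epi g] : Epi ((L X).map g) := by
  suffices h : Sheaf.IsLocallySurjective ((L X).map g) from Sheaf.epi_of_isLocallySurjective _
  have hloc : Sheaf.IsLocallySurjective g :=
    (Sheaf.isLocallySurjective_iff_epi' AddCommGrpCat.{u} g).2 inferInstance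
  refine ⟨fun {U} s => ?_⟩
  intro x hx
  obtain ⟨V, i, ⟨t, ht⟩, hxV⟩ := hloc.imageSieve_mem (show G.obj.obj (op U) from s.down) x hx
  refine ⟨V, i, ⟨⟨t⟩, ?_⟩, hxV⟩
  exact congrArg ULift.up ht

theorem isZero_rightDerived_L (F : CohTop.Ab X) (n : ℕ) :
    IsZero (((L X).rightDerived (n + 1)).obj F) :=
  rightDerived_vanish (L X) (fun _ => True)
    (fun _ _ => trivial) (fun _ _ _ _ => trivial)
    (fun T hT _ => by haveI := hT.epi_g; exact epi_L_map X T.g) F trivial n

theorem isFlasque_L (F : CohTop.Ab X) [hF : TopCat.Sheaf.IsFlasque F] :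
    IsFlasque ((L X).obj F) := by
  constructor
  intro U V i
  rw [AddCommGrpCat.epi_iff_surjective]
  intro s
  have h := (AddCommGrpCat.epi_iff_surjective (F.obj.map i)).1
    (TopCat.Presheaf.IsFlasque.epi (F := F.obj) i)
  obtain ⟨t, ht⟩ := h s.down
  exact ⟨⟨t⟩, congrArg ULift.up ht⟩

/-- the constant sheaf `ℤ`, one universe up -/
noncomputable abbrev ZD : AbL X :=
  (constantSheaf (Opens.grothendieckTopology X) AddCommGrpCat.{u + 1}).obj
    (AddCommGrpCat.of (ULift.{u + 1} ℤ))

/-- the constant sheaf `ℤ` -/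
noncomputable abbrev ZC : CohTop.Ab X :=
  (constantSheaf (Opens.grothendieckTopology X) AddCommGrpCat.{u}).obj
    (AddCommGrpCat.of (ULift.{u} ℤ))

/-- `Hom(ℤ, -)` one universe up -/
noncomputable abbrev GD : AbL X ⥤ AddCommGrpCat.{u + 1} := preadditiveCoyoneda.obj (op (ZD X))

/-- `Hom(ℤ, -)` -/
noncomputable abbrev GC : CohTop.Ab X ⥤ AddCommGrpCat.{u} := preadditiveCoyoneda.obj (op (ZC X))

theorem epi_GD_map (S : ShortComplex (AbL X)) (hS : S.ShortExact) (h1 : IsFlasque S.X₁) :
    Epi ((GD X).map S.g) := by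
  haveI := h1
  rw [AddCommGrpCat.epi_iff_surjective]
  intro x
  have hepi : Epi (S.g.1.app (op ⊤)) := epi_of_shortExact hS
  rw [AddCommGrpCat.epi_iff_surjective] at hepi
  let adj := constantSheafAdj (Opens.grothendieckTopology X) AddCommGrpCat.{u + 1}
    (T := (⊤ : Opens X)) isTerminalTop
  obtain ⟨y, hy⟩ := lift_uliftZ (S.g.1.app (op ⊤)) hepi (adj.homEquiv _ _ x)
  refine ⟨(adj.homEquiv _ _).symm y, ?_⟩
  have := adj.homEquiv_naturality_right_symm y S.g
  change (adj.homEquiv _ _).symm y ≫ S.g = x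
  rw [← this]
  apply (adj.homEquiv _ _).injective
  rw [Equiv.apply_symm_apply]
  exact hy

theorem isZero_rightDerived_GD (F : AbL X) (hF : IsFlasque F) (n : ℕ) :
    IsZero (((GD X).rightDerived (n + 1)).obj F) :=
  rightDerived_vanish (GD X) (fun G : AbL X => IsFlasque G)
    (fun I hI => by haveI := hI; exact injective_isFlasque I)
    (fun S hS h1 h2 => by haveI := h1; haveI := h2; exact of_shortExact_of_isFlasque₁₂ hS)
    (fun S hS h1 => epi_GD_map X S hS h1) F hF n

/-- maps out of `ℤ` are global sections (one universe up) -/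
noncomputable def eD (G : AbL X) : (ZD X ⟶ G) ≃+ (G.obj.obj (op (⊤ : Opens X)) : AddCommGrpCat.{u + 1}) :=
  ((constantSheafAdj (Opens.grothendieckTopology X) AddCommGrpCat.{u + 1}
    (T := (⊤ : Opens X)) isTerminalTop).homAddEquiv _ G).trans
      (AddCommGrpCat.uliftZMultiplesAddEquiv _)

/-- maps out of `ℤ` are global sections -/
noncomputable def eC (F : CohTop.Ab X) :
    (ZC X ⟶ F) ≃+ (F.obj.obj (op (⊤ : Opens X)) : AddCommGrpCat.{u}) :=
  ((constantSheafAdj (Opens.grothendieckTopology X) AddCommGrpCat.{u}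
    (T := (⊤ : Opens X)) isTerminalTop).homAddEquiv _ F).trans
      (AddCommGrpCat.uliftZMultiplesAddEquiv _)

theorem eD_comp {G G' : AbL X} (x : ZD X ⟶ G) (φ : G ⟶ G') :
    eD X G' (x ≫ φ) = (φ.hom.app (op ⊤)).hom (eD X G x) := by
  unfold eD
  simp only [AddEquiv.trans_apply, Adjunction.homAddEquiv_apply]
  rw [Adjunction.homEquiv_naturality_right]
  rfl

theorem eC_comp {F F' : CohTop.Ab X} (x : ZC X ⟶ F) (φ : F ⟶ F') :
    eC X F' (x ≫ φ) = (φ.hom.app (op ⊤)).hom (eC X F x) := by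
  unfold eC
  simp only [AddEquiv.trans_apply, Adjunction.homAddEquiv_apply]
  rw [Adjunction.homEquiv_naturality_right]
  rfl

/-- the comparison of global-section functors -/
noncomputable def compIso : L X ⋙ GD X ≅ GC X ⋙ AddCommGrpCat.uliftFunctor.{u + 1, u} :=
  NatIso.ofComponents (fun F => AddEquiv.toAddCommGrpIso
    (((eD X ((L X).obj F)).trans (AddEquiv.ulift (α := F.obj.obj (op (⊤ : Opens X))))).trans
      ((eC X F).symm.trans AddEquiv.ulift.symm)))
    (fun {F F'} φ => by
      ext x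
      apply ULift.ext
      apply (eC X F').injective
      change eC X F' ((eC X F').symm (eD X _ (x ≫ (L X).map φ)).down) =
        eC X F' ((eC X F).symm (eD X _ x).down ≫ φ)
      rw [AddEquiv.apply_symm_apply, eC_comp, AddEquiv.apply_symm_apply, eD_comp]
      rfl)

open Groth.Agent.Lib.Helper23ExtRD Groth.Agent.Lib.Helper23LocSS Groth.Agent.Lib.T2H8.DerAcyc2 in
/-- sheaf cohomology does not change under the universe lift of the coefficients -/
theorem nonempty_H_L (F : CohTop.Ab X) (p : ℕ) :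
    Nonempty (Sheaf.H.{u + 1} ((L X).obj F) p ≃+ Sheaf.H.{u} F p) := by
  have hE : ∀ I : CohTop.Ab X, Injective I → ∀ q : ℕ, 0 < q →
      IsZero (((GD X).rightDerived q).obj ((L X).obj I)) := by
    intro I hI q hq
    obtain ⟨q, rfl⟩ : ∃ k, q = k + 1 := ⟨q - 1, by lia⟩
    haveI := hI
    haveI : TopCat.Sheaf.IsFlasque I := Groth.Agent.Lib.Helper16.Flasque.injective_isFlasque I
    exact isZero_rightDerived_GD X _ (isFlasque_L X I) q
  have hM : ∀ q : ℕ, 0 < q → IsZero (((L X).rightDerived q).obj F) := by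
    intro q hq
    obtain ⟨q, rfl⟩ : ∃ k, q = k + 1 := ⟨q - 1, by lia⟩
    exact isZero_rightDerived_L X F q
  obtain ⟨e₁⟩ := nonempty_rightDerived_comp_iso_of_acyclic (L X) (GD X) hE F hM p
  let e₂ := (rightDerivedIso (compIso X) p).app F
  obtain ⟨e₃⟩ := rightDerived_coyoneda_iso (ZD X) ((L X).obj F) p
  obtain ⟨e₄⟩ := rightDerived_coyoneda_iso (ZC X) F p
  obtain ⟨e₅⟩ := nonempty_rightDerived_postcomp_iso (GC X) AddCommGrpCat.uliftFunctor.{u + 1, u} F p
  let e : AddCommGrpCat.of (Abelian.Ext.{u + 1} (ZD X) ((L X).obj F) p) ≅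
      AddCommGrpCat.uliftFunctor.{u + 1, u}.obj (AddCommGrpCat.of (Abelian.Ext.{u} (ZC X) F p)) :=
    e₃.symm ≪≫ e₁.symm ≪≫ e₂ ≪≫ e₅ ≪≫ AddCommGrpCat.uliftFunctor.{u + 1, u}.mapIso e₄
  exact ⟨e.addCommGroupIsoToAddEquiv.trans AddEquiv.ulift⟩

end Groth.Agent.Lib.T2H8.ULiftSheaf
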