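import Mathlib
import Groth.Agent.Lib.T2H8ULiftSheaf

set_option autoImplicit false
set_option linter.unusedSectionVars false
set_option linter.style.haveILetI false
universe u
open CategoryTheory CategoryTheory.Limits Opposite TopologicalSpace TopCat TopCat.Presheaf

namespace Groth.Agent.Lib.T2H8.ZeroDim
open Groth.Agent.Lib.T2H8.ULiftFlasque Groth.Agent.Lib.T2H8.ULiftSheaf

variable {X : TopCat.{u}}

theorem subsingleton_of_eq_bot (F : AbL X) (W : Opens X) (hW : W = ⊥) :
    Subsingleton (F.obj.obj (op W)) := by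
  subst hW
  refine ⟨fun a b => ?_⟩
  refine TopCat.Sheaf.eq_of_locally_eq' F (fun i : PEmpty.{1} => (i.elim : Opens X)) ⊥
    (fun i => i.elim) ?_ a b (fun i => i.elim)
  simp

/-- gluing two sections over disjoint opens -/
theorem glue₂ (F : AbL X) (V₁ V₂ : Opens X) (hd : V₁ ⊓ V₂ = ⊥)
    (t₁ : F.obj.obj (op V₁)) (t₂ : F.obj.obj (op V₂)) :
    ∃ t : F.obj.obj (op (V₁ ⊔ V₂)), F.obj.map (homOfLE (le_sup_left : V₁ ≤ V₁ ⊔ V₂)).op t = t₁ ∧
      F.obj.map (homOfLE (le_sup_right : V₂ ≤ V₁ ⊔ V₂)).op t = t₂ := by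
  let U : Bool → Opens X := fun b => if b then V₁ else V₂
  let sf : ∀ b : Bool, F.obj.obj (op (U b)) := fun b => by
    cases b
    · exact t₂
    · exact t₁
  have hcompat : IsCompatible F.obj U sf := by
    intro i j
    cases i <;> cases j
    · rfl
    · haveI := subsingleton_of_eq_bot F (U false ⊓ U true) (by
        change V₂ ⊓ V₁ = ⊥
        rw [inf_comm]; exact hd)
      exact Subsingleton.elim _ _
    · haveI := subsingleton_of_eq_bot F (U true ⊓ U false) hd
      exact Subsingleton.elim _ _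
    · rfl
  obtain ⟨t, ht, -⟩ := TopCat.Sheaf.existsUnique_gluing' F U (V₁ ⊔ V₂)
    (fun b => by
      cases b
      · exact homOfLE le_sup_right
      · exact homOfLE le_sup_left)
    (by
      rw [sup_le_iff]
      exact ⟨le_iSup U true, le_iSup U false⟩) sf hcompat
  exact ⟨t, ht true, ht false⟩

/-- on a compact space with a basis of clopen sets, epimorphisms of abelian sheaves are surjective
on global sections -/
theorem exists_lift_top [CompactSpace X]
    (hb : ∀ (x : X) (W : Opens X), x ∈ W → ∃ C : Opens X, IsClosed (C : Set X) ∧ x ∈ C ∧ C ≤ W)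
    {F G : AbL X} (g : F ⟶ G) [Epi g] (s : G.obj.obj (op (⊤ : Opens X))) :
    ∃ t : F.obj.obj (op (⊤ : Opens X)), (g.hom.app (op ⊤)).hom t = s := by
  have h1 : ∀ x : X, ∃ (C : Opens X) (_ : IsClosed (C : Set X)) (_ : x ∈ C)
      (t : F.obj.obj (op C)), (g.hom.app (op C)).hom t =
        (G.obj.map (homOfLE (le_top : C ≤ ⊤)).op).hom s := by
    intro x
    obtain ⟨W, hW, t, ht, hxW⟩ := exists_local_lift g s x trivial
    obtain ⟨C, hC, hxC, hCW⟩ := hb x W hxW
    refine ⟨C, hC, hxC, (F.obj.map (homOfLE hCW).op).hom t, ?_⟩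
    have nat := congrArg (fun m => m.hom t) (g.hom.naturality (homOfLE hCW).op)
    simp only [AddCommGrpCat.hom_comp, AddMonoidHom.coe_comp, Function.comp_apply] at nat
    rw [nat, ht, ← AddMonoidHom.comp_apply, ← AddCommGrpCat.hom_comp, ← G.obj.map_comp]
    rfl
  choose C hC hxC t ht using h1
  obtain ⟨T, hT⟩ := isCompact_univ.elim_finite_subcover (fun x => (C x : Set X))
    (fun x => (C x).2) (fun x _ => Set.mem_iUnion.2 ⟨x, hxC x⟩)
  have key : ∀ T : Finset X, ∃ (U : Opens X) (_ : (U : Set X) = ⋃ x ∈ T, (C x : Set X))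
      (t' : F.obj.obj (op U)), (g.hom.app (op U)).hom t' =
        (G.obj.map (homOfLE (le_top : U ≤ ⊤)).op).hom s := by
    intro T
    classical
    induction T using Finset.induction_on with
    | empty =>
      refine ⟨⊥, by simp, 0, ?_⟩
      haveI := subsingleton_of_eq_bot G ⊥ rfl
      exact Subsingleton.elim _ _
    | insert a T' ha ih =>
      obtain ⟨U, hU, t', ht'⟩ := ih
      let V₁ : Opens X := U ⊓ ⟨(C a : Set X)ᶜ, (hC a).isOpen_compl⟩
      have hd : V₁ ⊓ C a = ⊥ := by
        ext y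
        simp only [Opens.coe_inf, Opens.coe_mk, Set.mem_inter_iff, SetLike.mem_coe,
          Set.mem_compl_iff, Opens.coe_bot, Set.mem_empty_iff_false, iff_false, not_and, V₁]
        intro h2 h3
        exact h2.2 h3
      obtain ⟨t'', h1'', h2''⟩ := glue₂ F V₁ (C a) hd
        ((F.obj.map (homOfLE (inf_le_left : V₁ ≤ U)).op).hom t') (t a)
      refine ⟨V₁ ⊔ C a, ?_, t'', ?_⟩
      · ext y
        simp only [Opens.coe_sup, Opens.coe_inf, Opens.coe_mk, Set.mem_union, Set.mem_inter_iff,
          SetLike.mem_coe, Set.mem_compl_iff, Finset.mem_insert, Set.iUnion_iUnion_eq_or_left, V₁]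
        have hU' : y ∈ U ↔ y ∈ ⋃ x ∈ T', (C x : Set X) := by rw [← hU]; rfl
        rw [hU']
        constructor
        · rintro (⟨h3, -⟩ | h3)
          · exact Or.inr h3
          · exact Or.inl h3
        · rintro (h3 | h3)
          · exact Or.inr h3
          · by_cases h4 : y ∈ C a
            · exact Or.inr h4
            · exact Or.inl ⟨h3, h4⟩
      · refine TopCat.Sheaf.eq_of_locally_eq₂ G (homOfLE (le_sup_left : V₁ ≤ V₁ ⊔ C a))
          (homOfLE (le_sup_right : C a ≤ V₁ ⊔ C a)) le_rfl _ _ ?_ ?_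
        · have nat := congrArg (fun m => m.hom t'')
            (g.hom.naturality (homOfLE (le_sup_left : V₁ ≤ V₁ ⊔ C a)).op)
          simp only [AddCommGrpCat.hom_comp, AddMonoidHom.coe_comp, Function.comp_apply] at nat
          change (G.obj.map _).hom ((g.hom.app _).hom t'') = (G.obj.map _).hom ((G.obj.map _).hom s)
          rw [← nat]
          have h1' : (F.obj.map (homOfLE (le_sup_left : V₁ ≤ V₁ ⊔ C a)).op).hom t'' =
            (F.obj.map (homOfLE (inf_le_left : V₁ ≤ U)).op).hom t' := h1''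
          rw [h1']
          have nat2 := congrArg (fun m => m.hom t')
            (g.hom.naturality (homOfLE (inf_le_left : V₁ ≤ U)).op)
          simp only [AddCommGrpCat.hom_comp, AddMonoidHom.coe_comp, Function.comp_apply] at nat2
          rw [nat2, ht']
          rw [← AddMonoidHom.comp_apply, ← AddMonoidHom.comp_apply, ← AddCommGrpCat.hom_comp,
            ← AddCommGrpCat.hom_comp, ← G.obj.map_comp, ← G.obj.map_comp]
          rfl
        · have nat := congrArg (fun m => m.hom t'')
            (g.hom.naturality (homOfLE (le_sup_right : C a ≤ V₁ ⊔ C a)).op)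
          simp only [AddCommGrpCat.hom_comp, AddMonoidHom.coe_comp, Function.comp_apply] at nat
          change (G.obj.map _).hom ((g.hom.app _).hom t'') = (G.obj.map _).hom ((G.obj.map _).hom s)
          rw [← nat]
          have h2' : (F.obj.map (homOfLE (le_sup_right : C a ≤ V₁ ⊔ C a)).op).hom t'' = t a := h2''
          rw [h2', ht a]
          rw [← AddMonoidHom.comp_apply, ← AddCommGrpCat.hom_comp, ← G.obj.map_comp]
          rfl
  obtain ⟨U, hU, t', ht'⟩ := key T
  obtain rfl : U = ⊤ := by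
    apply Opens.ext
    rw [hU]
    exact Set.eq_univ_of_univ_subset hT
  refine ⟨t', ?_⟩
  rw [ht']
  have : (homOfLE (le_top : (⊤ : Opens X) ≤ ⊤)).op = 𝟙 _ := rfl
  rw [this, G.obj.map_id]
  rfl

theorem projective_ZD [CompactSpace X]
    (hb : ∀ (x : X) (W : Opens X), x ∈ W → ∃ C : Opens X, IsClosed (C : Set X) ∧ x ∈ C ∧ C ≤ W) :
    Projective (ZD X) := by
  constructor
  intro E G φ e he
  obtain ⟨y, hy⟩ := exists_lift_top hb e (eD X G φ)
  refine ⟨(eD X E).symm y, ?_⟩
  apply (eD X G).injective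
  rw [eD_comp, AddEquiv.apply_symm_apply]
  exact hy

/-- sheaf cohomology (one universe up) vanishes on compact spaces with a clopen basis -/
theorem subsingleton_H [CompactSpace X]
    (hb : ∀ (x : X) (W : Opens X), x ∈ W → ∃ C : Opens X, IsClosed (C : Set X) ∧ x ∈ C ∧ C ≤ W)
    (G : AbL X) (n : ℕ) : Subsingleton (Sheaf.H.{u + 1} G (n + 1)) := by
  haveI := projective_ZD hb
  refine ⟨fun a b => ?_⟩
  have h0 : ∀ x : Abelian.Ext.{u + 1} (ZD X) G (n + 1), x = 0 :=
    fun x => Abelian.Ext.eq_zero_of_projective x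
  exact (h0 a).trans (h0 b).symm

end Groth.Agent.Lib.T2H8.ZeroDim
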