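import Mathlib
import Groth.Agent.Lib.T2H8EtZarD
import Groth.Agent.Lib.T2H8ZeroDim

set_option autoImplicit false
set_option linter.unusedSectionVars false
set_option linter.style.haveILetI false
universe u
open CategoryTheory CategoryTheory.Limits Opposite TopologicalSpace AlgebraicGeometry IsLocalRing

namespace Groth.Agent.Lib.T2H8.ZeroDimSch

/-- a local ring with nil maximal ideal is henselian -/
theorem henselian_of_nil (R : Type u) [CommRing R] [IsLocalRing R]
    (h : ∀ a ∈ maximalIdeal R, IsNilpotent a) : HenselianLocalRing R where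
  is_henselian f _ a₀ h₁ h₂ := by
    have h₁' : IsNilpotent (Polynomial.aeval a₀ f) := by
      rw [Polynomial.coe_aeval_eq_eval]
      exact h _ h₁
    have h₂' : IsUnit (Polynomial.aeval a₀ (Polynomial.derivative f)) := by
      rw [Polynomial.coe_aeval_eq_eval]
      exact h₂
    obtain ⟨r, ⟨hr1, hr2⟩, -⟩ :=
      Polynomial.existsUnique_nilpotent_sub_and_aeval_eq_zero h₁' h₂'
    refine ⟨r, ?_, ?_⟩
    · rw [Polynomial.coe_aeval_eq_eval] at hr2
      exact hr2
    · have h3 : IsNilpotent (r - a₀) := by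
        rw [← neg_sub]
        exact hr1.neg
      rw [mem_maximalIdeal, mem_nonunits_iff]
      exact h3.not_isUnit

variable (S : Scheme.{u}) (h1 : ∀ s : S, IsClosed ({s} : Set S))

include h1 in
theorem isNilpotent_of_mem_maximalIdeal (s : S) (a : S.presheaf.stalk s)
    (ha : a ∈ maximalIdeal (S.presheaf.stalk s)) : IsNilpotent a := by
  rw [← mem_nilradical, nilradical_eq_sInf, Ideal.mem_sInf]
  intro J hJ
  have hpt : ∀ p : Spec (S.presheaf.stalk s), S.fromSpecStalk s p = s := by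
    intro p
    have hp : S.fromSpecStalk s p ∈ Set.range (S.fromSpecStalk s) := ⟨p, rfl⟩
    rw [Scheme.range_fromSpecStalk] at hp
    have h2 : s ∈ closure {S.fromSpecStalk s p} := specializes_iff_mem_closure.1 hp
    rw [(h1 _).closure_eq] at h2
    exact (Set.mem_singleton_iff.1 h2).symm
  let p : Spec (S.presheaf.stalk s) := ⟨J, hJ⟩
  have hpq : p = closedPoint (S.presheaf.stalk s) :=
    (S.fromSpecStalk s).isEmbedding.injective ((hpt p).trans (hpt _).symm)
  have hJ' : J = maximalIdeal (S.presheaf.stalk s) := congrArg PrimeSpectrum.asIdeal hpq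
  rw [hJ']
  exact ha

include h1 in
theorem isStrictlyHenselian_stalk (h2 : ∀ s : S, IsSepClosed (S.residueField s)) (s : S) :
    EtCoh.IsStrictlyHenselianLocalRing (S.presheaf.stalk s) :=
  ⟨henselian_of_nil _ (isNilpotent_of_mem_maximalIdeal S h1 s), h2 s⟩

include h1 in
theorem isClosed_basicOpen (f : Γ(S, ⊤)) : IsClosed (S.basicOpen f : Set S) := by
  rw [← isOpen_compl_iff, isOpen_iff_forall_mem_open]
  intro y hy
  have hy' : ¬ IsUnit (S.presheaf.germ ⊤ y trivial f) := fun hu =>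
    hy ((S.mem_basicOpen_top f y).2 hu)
  have hm : S.presheaf.germ ⊤ y trivial f ∈ maximalIdeal (S.presheaf.stalk y) := hy'
  obtain ⟨n, hn⟩ := isNilpotent_of_mem_maximalIdeal S h1 y _ hm
  have hg : S.presheaf.germ ⊤ y trivial (f ^ n) = S.presheaf.germ ⊤ y trivial 0 := by
    rw [map_pow, hn, map_zero]
  obtain ⟨W, hyW, iU, iV, hW⟩ := S.presheaf.germ_eq (U := (⊤ : S.Opens)) (V := (⊤ : S.Opens)) y
    (show y ∈ (⊤ : S.Opens) from trivial) (show y ∈ (⊤ : S.Opens) from trivial) _ _ hg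
  refine ⟨W, ?_, W.2, hyW⟩
  intro z hzW hzf
  have hu : IsUnit (S.presheaf.germ ⊤ z trivial f) := (S.mem_basicOpen_top f z).1 hzf
  have hu' : IsUnit (S.presheaf.germ ⊤ z trivial (f ^ n)) := by
    rw [map_pow]; exact hu.pow n
  have e1 : S.presheaf.germ ⊤ z trivial (f ^ n) =
      S.presheaf.germ W z hzW (S.presheaf.map iU.op (f ^ n)) :=
    (S.presheaf.germ_res_apply iU z hzW (f ^ n)).symm
  rw [e1, hW, map_zero, map_zero] at hu'
  exact not_isUnit_zero hu'

include h1 in
theorem exists_clopen [IsAffine S] (x : S) (W : S.Opens) (hx : x ∈ W) :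
    ∃ C : S.Opens, IsClosed (C : Set S) ∧ x ∈ C ∧ C ≤ W := by
  obtain ⟨f, hf, hxf⟩ := (isAffineOpen_top S).exists_basicOpen_le (V := W) ⟨x, hx⟩ trivial
  exact ⟨S.basicOpen f, isClosed_basicOpen S h1 f, hxf, hf⟩

include h1 in
theorem main [IsAffine S] (h2 : ∀ s : S, IsSepClosed (S.residueField s)) (F : EtCoh.Ab S)
    (i : ℕ) (hi : 1 ≤ i) : Subsingleton (EtCoh.H S F i) := by
  haveI := Groth.Agent.Lib.T2H8.EtZarD.zarCont S
  obtain ⟨e⟩ := Groth.Agent.Lib.T2H8.EtZarD.main S (isStrictlyHenselian_stalk S h1 h2) F i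
  obtain ⟨n, rfl⟩ : ∃ n, i = n + 1 := ⟨i - 1, by lia⟩
  haveI : CompactSpace S.toTopCat := inferInstanceAs (CompactSpace S)
  haveI : Subsingleton (EtZar.H ((EtZar.resZar S).obj F) (n + 1)) :=
    Groth.Agent.Lib.T2H8.ZeroDim.subsingleton_H (X := S.toTopCat)
      (fun x W hx => exists_clopen S h1 x W hx) ((EtZar.resZar S).obj F) n
  exact e.toEquiv.subsingleton

end Groth.Agent.Lib.T2H8.ZeroDimSch
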