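import Mathlib
import Groth.Agent.Lib.T2H8ClosedPts
import Groth.Agent.Lib.T2H8AgreeAb
import Groth.Agent.Lib.T2H8ConstrSub
import Groth.Agent.Lib.T2H8ClosedEss
import Groth.Agent.Lib.T2H8ConstrGlue
import Groth.Agent.Lib.T2H8ZeroDimSch
import Groth.Agent.Lib.T2H8Supp
import Groth.Agent.Lib.T2H8StalkCard

/-!
# Sheaves supported in closed points (S0171, S19483)
-/

set_option autoImplicit false
set_option linter.unusedSectionVars false
set_option linter.style.haveILetI false
universe u
open CategoryTheory CategoryTheory.Limits Opposite AlgebraicGeometry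

namespace Groth.Agent.Lib.T2H8.ClosedSupp

section SubSheaf

variable {X : Scheme.{u}} (F : EtCoh.Ab X)

/-- a family of subgroups of the groups of sections, stable under restriction and local -/
structure LocSub where
  Q : ∀ V : X.Etale, AddSubgroup (F.obj.obj (op V))
  map_mem : ∀ {V W : X.Etale} (g : W ⟶ V) (s : F.obj.obj (op V)), s ∈ Q V →
    F.obj.map g.op s ∈ Q W
  loc : ∀ (V : X.Etale) (s : F.obj.obj (op V)) (R : Sieve V), R ∈ X.smallEtaleTopology V →
    (∀ (W : X.Etale) (g : W ⟶ V), R g → F.obj.map g.op s ∈ Q W) → s ∈ Q V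

variable {F}

/-- the sub-presheaf attached to a local family of subgroups -/
noncomputable def LocSub.pre (L : LocSub F) : X.Etaleᵒᵖ ⥤ AddCommGrpCat.{u + 1} where
  obj V := AddCommGrpCat.of (L.Q V.unop)
  map {V V'} φ := AddCommGrpCat.ofHom
    (((F.obj.map φ).hom.comp (L.Q V.unop).subtype).codRestrict (L.Q V'.unop)
      (fun s => L.map_mem φ.unop s.1 s.2))
  map_id V := by
    ext ⟨s, hs⟩
    simp
  map_comp φ ψ := by
    ext ⟨s, hs⟩
    simp

/-- the inclusion -/
noncomputable def LocSub.preι (L : LocSub F) : L.pre ⟶ F.obj where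
  app V := AddCommGrpCat.ofHom (L.Q V.unop).subtype

theorem LocSub.pre_isSheaf (L : LocSub F) : Presheaf.IsSheaf X.smallEtaleTopology L.pre := by
  rw [Presheaf.isSheaf_iff_isSheaf_forget X.smallEtaleTopology L.pre (forget _),
    isSheaf_iff_isSheaf_of_type]
  have hF : Presieve.IsSheaf X.smallEtaleTopology (F.obj ⋙ forget _) :=
    Groth.Agent.Lib.T2H8FiniteBC.isSheaf_forget F
  intro V R hR x hx
  let y : Presieve.FamilyOfElements (F.obj ⋙ forget _) R.arrows := fun W g hg => (x g hg).1
  have hy : y.Compatible := by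
    intro W₁ W₂ Z g₁ g₂ f₁ f₂ h₁ h₂ comm
    have := hx g₁ g₂ h₁ h₂ comm
    exact congrArg Subtype.val this
  obtain ⟨s, hs, hsu⟩ := hF R hR y hy
  have hsQ : s ∈ L.Q V := L.loc V s R hR (fun W g hg => by
    have e : F.obj.map g.op s = y g hg := hs g hg
    rw [e]
    exact (x g hg).2)
  refine ⟨⟨s, hsQ⟩, ?_, ?_⟩
  · intro W g hg
    apply Subtype.ext
    exact hs g hg
  · intro t ht
    apply Subtype.ext
    apply hsu
    intro W g hg
    exact congrArg Subtype.val (ht g hg)

/-- the subsheaf -/
noncomputable def LocSub.sub (L : LocSub F) : EtCoh.Ab X := ⟨L.pre, L.pre_isSheaf⟩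

/-- its inclusion -/
noncomputable def LocSub.ι (L : LocSub F) : L.sub ⟶ F := ⟨L.preι⟩

instance (L : LocSub F) : Mono L.ι := by
  haveI : Mono ((sheafToPresheaf _ _).map L.ι) := by
    change Mono L.preι
    haveI : ∀ V, Mono (L.preι.app V) := by
      intro V
      rw [AddCommGrpCat.mono_iff_injective]
      exact Subtype.val_injective
    exact NatTrans.mono_of_mono_app _
  exact (sheafToPresheaf _ _).mono_of_mono_map inferInstance

/-- morphism between subsheaves induced by an inclusion of families -/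
noncomputable def LocSub.homOfLE {L L' : LocSub F} (h : ∀ V, L.Q V ≤ L'.Q V) : L.sub ⟶ L'.sub :=
  ⟨{ app := fun V => AddCommGrpCat.ofHom (AddSubgroup.inclusion (h V.unop))
     naturality := by
      intro V V' φ
      ext ⟨s, hs⟩
      rfl }⟩

theorem LocSub.homOfLE_ι {L L' : LocSub F} (h : ∀ V, L.Q V ≤ L'.Q V) :
    LocSub.homOfLE h ≫ L'.ι = L.ι := by
  apply Sheaf.hom_ext
  ext V ⟨s, hs⟩
  rfl

theorem LocSub.ι_app_apply (L : LocSub F) (V : X.Etale) (s : L.Q V) :
    (L.ι.hom.app (op V)).hom s = s.1 := rfl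

section Colim

variable {J : Type u} [Preorder J] (L : J → LocSub F)
  (hL : ∀ i j, i ≤ j → ∀ V, (L i).Q V ≤ (L j).Q V)

/-- the directed system of subsheaves -/
noncomputable def LocSub.functor : J ⥤ EtCoh.Ab X where
  obj j := (L j).sub
  map {i j} f := LocSub.homOfLE (hL i j (leOfHom f))
  map_id j := by
    apply Sheaf.hom_ext
    ext V ⟨s, hs⟩
    rfl
  map_comp f g := by
    apply Sheaf.hom_ext
    ext V ⟨s, hs⟩
    rfl

/-- the inclusions into `F` -/
noncomputable def LocSub.functorι : LocSub.functor L hL ⟶ (Functor.const J).obj F where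
  app j := (L j).ι
  naturality i j f := by
    change LocSub.homOfLE (hL i j (leOfHom f)) ≫ (L j).ι = (L i).ι ≫ 𝟙 F
    rw [LocSub.homOfLE_ι, Category.comp_id]

/-- the cocone over `F` -/
noncomputable def LocSub.cocone : Cocone (LocSub.functor L hL) := ⟨F, LocSub.functorι L hL⟩

variable [IsDirected J (· ≤ ·)] [Nonempty J]

attribute [local instance] IsFiltered.isConnected

theorem LocSub.mono_desc : Mono (colimit.desc (LocSub.functor L hL) (LocSub.cocone L hL)) := by
  haveI := AB5OfSize_of_univLE.{u, u, u + 1, u + 1} (EtCoh.Ab X)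
  haveI : ∀ j, Mono ((LocSub.functorι L hL).app j) := by
    intro j
    change Mono (L j).ι
    infer_instance
  haveI := NatTrans.mono_of_mono_app (LocSub.functorι L hL)
  refine colim.map_mono' (LocSub.functorι L hL) (colimit.isColimit _) (isColimitConstCocone J F) _ ?_
  intro j
  refine (colimit.ι_desc _ _).trans ?_
  change _ = _ ≫ 𝟙 F
  rw [Category.comp_id]
  rfl

theorem LocSub.epi_desc
    (hcov : ∀ (V : X.Etale) (s : F.obj.obj (op V)) (v : V.left), ∃ (W : X.Etale) (g : W ⟶ V)
      (w : W.left) (j : J), g.left w = v ∧ F.obj.map g.op s ∈ (L j).Q W) :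
    Epi (colimit.desc (LocSub.functor L hL) (LocSub.cocone L hL)) := by
  rw [← Sheaf.isLocallySurjective_iff_epi' AddCommGrpCat.{u + 1}]
  refine ⟨fun {V} s => ?_⟩
  rw [Groth.Agent.Lib.Helper16.SmallEtale.mem_smallEtale_iff]
  intro v
  obtain ⟨W, g, w, j, hw, hj⟩ := hcov V s v
  refine ⟨W, g, w, ?_, hw⟩
  refine ⟨((colimit.ι (LocSub.functor L hL) j).hom.app (op W)).hom ⟨_, hj⟩, ?_⟩
  have e1 : colimit.ι (LocSub.functor L hL) j ≫
      colimit.desc (LocSub.functor L hL) (LocSub.cocone L hL) = (L j).ι := colimit.ι_desc _ _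
  have e2 := congrArg (fun m => (m.hom.app (op W)).hom ⟨_, hj⟩) e1
  exact e2

theorem LocSub.isIso_desc
    (hcov : ∀ (V : X.Etale) (s : F.obj.obj (op V)) (v : V.left), ∃ (W : X.Etale) (g : W ⟶ V)
      (w : W.left) (j : J), g.left w = v ∧ F.obj.map g.op s ∈ (L j).Q W) :
    IsIso (colimit.desc (LocSub.functor L hL) (LocSub.cocone L hL)) := by
  haveI := LocSub.mono_desc L hL
  haveI := LocSub.epi_desc L hL hcov
  exact isIso_of_mono_of_epi _

end Colim

end SubSheaf

section ColimH

variable (X : Scheme.{u}) [CompactSpace X] [QuasiSeparatedSpace X]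

/-- vanishing of cohomology passes to filtered colimits on a qcqs scheme -/
theorem subsingleton_H_colimit {J : Type u} [SmallCategory J] [IsFiltered J]
    (Φ : J ⥤ EtCoh.Ab X) (q : ℕ) (h : ∀ j, Subsingleton (EtCoh.H X (Φ.obj j) q)) :
    Subsingleton (EtCoh.H X (colimit Φ) q) := by
  haveI := Groth.Agent.Lib.Helper9.EtFp.preservesColimitsOfShape_HF' X q J
  have hc := isColimitOfPreserves (EtCoh.HF X q) (colimit.isColimit Φ)
  have hz : ∀ j, IsZero ((Φ ⋙ EtCoh.HF X q).obj j) := by
    intro j
    haveI := h j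
    exact AddCommGrpCat.isZero_of_subsingleton (AddCommGrpCat.of (EtCoh.H X (Φ.obj j) q))
  have h1 : IsZero ((EtCoh.HF X q).obj (colimit Φ)) := by
    rw [IsZero.iff_id_eq_zero]
    apply hc.hom_ext
    intro j
    exact (hz j).eq_of_src _ _
  exact AddCommGrpCat.subsingleton_of_isZero h1

end ColimH

section SuppIn

open Groth.Agent.Lib.T2H8AgreeAb Groth.Agent.Lib.T2H8.ConstrSub

variable {X : Scheme.{u}} (F : EtCoh.Ab X)

theorem hom_left_apply {V W : X.Etale} (g : W ⟶ V) (w : W.left) :
    V.hom (g.left w) = W.hom w := by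
  have e : g.left ≫ V.hom = W.hom := MorphismProperty.Over.w g
  rw [← e]
  rfl

set_option backward.isDefEq.respectTransparency.types false in
/-- sections of `F` whose support lies over `S` -/
noncomputable def suppIn (S : Set X) : LocSub F where
  Q V :=
    { carrier := {s | ∀ v : V.left, V.hom v ∉ S → v ∈ agree F s 0}
      zero_mem' := fun v _ => agree_zero_zero F v
      add_mem' := fun {a b} ha hb v hv => agree_add F a b ⟨ha v hv, hb v hv⟩
      neg_mem' := fun {a} ha v hv => agree_neg F a (ha v hv) }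
  map_mem := by
    intro V W g s hs w hw
    have h1 : g.left w ∈ agree F s 0 := hs (g.left w) (by rwa [hom_left_apply g w])
    have h2 := (mem_agree_map_iff F g s 0 w).mpr h1
    rwa [map_zero] at h2
  loc := by
    intro V s R hR h v hv
    rw [Groth.Agent.Lib.Helper16.SmallEtale.mem_smallEtale_iff] at hR
    obtain ⟨W, g, w, hg, hw⟩ := hR v
    have h1 := h W g hg w (by rwa [← hom_left_apply g w, hw])
    have h2 := (mem_agree_map_iff F g s 0 w).mp (by rwa [map_zero])
    rwa [hw] at h2

theorem mem_suppIn_iff (S : Set X) (V : X.Etale) (s : F.obj.obj (op V)) :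
    s ∈ (suppIn F S).Q V ↔ ∀ v : V.left, V.hom v ∉ S → v ∈ agree F s 0 := Iff.rfl

theorem suppIn_mono {S S' : Set X} (h : S ⊆ S') (V : X.Etale) :
    (suppIn F S).Q V ≤ (suppIn F S').Q V := by
  intro s hs v hv
  exact hs v (fun h' => hv (h h'))

end SuppIn

section FiniteSupp

open Groth.Agent.Lib.T2H8AgreeAb Groth.Agent.Lib.T2H8.ConstrSub
open Groth.Agent.Lib.T2H8.ClosedPts

variable {X : Scheme.{u}} (F : EtCoh.Ab X)

/-- all étale sheaves on a finite scheme with closed points and separably closed residue fields have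
vanishing `H¹` -/
theorem H_one_eq_zero_of_finite_closed {K : Type u} [Field K] [IsSepClosed K] {Z : Scheme.{u}}
    (b : Z ⟶ Spec (CommRingCat.of K)) [LocallyOfFiniteType b] [Finite Z]
    (hcl : ∀ z : Z, IsClosed ({z} : Set Z)) (G : EtCoh.Ab Z) (x : EtCoh.H Z G 1) : x = 0 := by
  haveI : T1Space Z := ⟨hcl⟩
  haveI : DiscreteTopology Z := inferInstance
  haveI : IsAffine Z := inferInstance
  have h2 : ∀ z : Z, IsSepClosed (Z.residueField z) :=
    fun z => isSepClosed_residueField_of_isClosed b z (hcl z)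
  have := Groth.Agent.Lib.T2H8.ZeroDimSch.main Z hcl h2 G 1 le_rfl
  exact this.elim _ _

set_option backward.isDefEq.respectTransparency.types false in
/-- the subsheaf of sections supported over a finite set of closed points has no higher
cohomology -/
theorem subsingleton_H_suppIn {K : Type u} [Field K] [IsSepClosed K]
    (a : X ⟶ Spec (CommRingCat.of K)) [LocallyOfFiniteType a] (S : Set X) (hfin : S.Finite)
    (hcl : ∀ x ∈ S, IsClosed ({x} : Set X)) (q : ℕ) (hq : 0 < q) :
    Subsingleton (EtCoh.H X (suppIn F S).sub q) := by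
  obtain ⟨q, rfl⟩ : ∃ n, q = n + 1 := ⟨q - 1, by lia⟩
  have hSc : IsClosed S := by
    have : S = ⋃ x ∈ S, {x} := (Set.biUnion_of_singleton S).symm
    rw [this]
    exact hfin.isClosed_biUnion hcl
  obtain ⟨Z, i, hi, hrange⟩ :=
    Groth.Agent.Lib.T2H8.Constr.exists_closedImmersion_range (X := X) ⟨S, hSc⟩
  change Set.range i = S at hrange
  -- the subsheaf is a pushforward from `Z`
  have hess : (EtCoh.push i).essImage (suppIn F S).sub := by
    rw [Groth.Agent.Lib.T2H8.ClosedEss.essImage_iff]
    intro U hU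
    haveI : Subsingleton ((suppIn F S).Q U) := by
      refine ⟨fun s t => ?_⟩
      have key : ∀ r : (suppIn F S).Q U, r.1 = 0 := by
        intro r
        apply eq_of_agree_eq_univ
        intro v
        refine r.2 v (fun hv => ?_)
        rw [← hrange] at hv
        exact Set.disjoint_left.mp hU ⟨v, rfl⟩ hv
      apply Subtype.ext
      rw [key s, key t]
    exact AddCommGrpCat.isZero_of_subsingleton (AddCommGrpCat.of ((suppIn F S).Q U))
  obtain ⟨G, ⟨e⟩⟩ := hess
  -- the scheme `Z`
  haveI : Finite Z := by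
    have hinj : Function.Injective i := i.isClosedEmbedding.injective
    have : Finite S := hfin
    exact Finite.of_injective (fun z : Z => (⟨i z, hrange ▸ ⟨z, rfl⟩⟩ : S))
      (fun z z' h => hinj (congrArg Subtype.val h))
  have hclZ : ∀ z : Z, IsClosed ({z} : Set Z) := by
    intro z
    have h1 : IsClosed ({i z} : Set X) := hcl (i z) (hrange ▸ ⟨z, rfl⟩)
    have h2 : ({z} : Set Z) = i ⁻¹' {i z} := by
      ext z'
      simp only [Set.mem_singleton_iff, Set.mem_preimage]
      exact ⟨fun h => by rw [h], fun h => i.isClosedEmbedding.injective h⟩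
    rw [h2]
    exact h1.preimage i.continuous
  haveI : PreservesFiniteColimits (EtCoh.push i) :=
    Groth.Agent.Lib.T2H8PropBPush.preservesFiniteColimits_push_of_preservesEpimorphisms _
      (Groth.Agent.Lib.T2H8FinitePushExact.push_preservesEpimorphisms _)
  have hZ : ∀ (G' : EtCoh.Ab Z) (x : EtCoh.H Z G' 1), x = 0 :=
    fun G' x => H_one_eq_zero_of_finite_closed (i ≫ a) hclZ G' x
  have h3 : Subsingleton (EtCoh.H X ((EtCoh.push i).obj G) (q + 1)) :=
    ⟨fun y y' => (H_push_eq_zero i hZ q G y).trans (H_push_eq_zero i hZ q G y').symm⟩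
  exact subsingleton_H_of_iso e.symm (q + 1) h3

end FiniteSupp

section Cover

open Groth.Agent.Lib.T2H8AgreeAb Groth.Agent.Lib.T2H8.ConstrSub
open Groth.Agent.Lib.T2H8.ClosedPts Groth.Agent.Lib.T2H8EtZarSheaf TopologicalSpace

/-- a closed subset of a Noetherian quasi-sober space all of whose points are closed is finite -/
theorem finite_of_isClosed_of_closed_points {Y : Type*} [TopologicalSpace Y] [NoetherianSpace Y]
    [QuasiSober Y] {C : Set Y} (hC : IsClosed C) (h : ∀ y ∈ C, IsClosed ({y} : Set Y)) :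
    C.Finite := by
  obtain ⟨S, hSf, hSc, hSi, rfl⟩ := NoetherianSpace.exists_finite_set_isClosed_irreducible hC
  refine Set.Finite.sUnion hSf ?_
  intro t ht
  obtain ⟨η, hη⟩ := QuasiSober.sober (hSi t ht) (hSc t ht)
  have hηt : η ∈ t := hη.mem
  have hcl : IsClosed ({η} : Set Y) := h η ⟨t, ht, hηt⟩
  have e : t = {η} := by rw [← hη.def, hcl.closure_eq]
  rw [e]
  exact Set.finite_singleton η

variable {X : Scheme.{u}} (F : EtCoh.Ab X)

/-- a point of an étale `X`-scheme over a closed point is closed -/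
theorem isClosed_singleton_of_hom (W : X.Etale) (w : W.left)
    (h : IsClosed ({W.hom w} : Set X)) : IsClosed ({w} : Set W.left) := by
  haveI : Etale W.hom := W.prop
  haveI : LocallyQuasiFinite W.hom :=
    Groth.Agent.Lib.T2H8.StalkCard.locallyQuasiFinite_of_unramified W.hom
  rw [← closure_subset_iff_isClosed]
  intro z hz
  have hs : w ⤳ z := specializes_iff_mem_closure.mpr hz
  have h1 : W.hom w ⤳ W.hom z := hs.map W.hom.continuous
  have h2 : W.hom z ∈ closure ({W.hom w} : Set X) := specializes_iff_mem_closure.mp h1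
  rw [h.closure_eq] at h2
  have h3 : w = z :=
    Groth.Agent.Lib.T2H8.StalkCard.eq_of_specializes_of_fiber W.hom hs h2.symm
  rw [← h3]
  rfl

set_option backward.isDefEq.respectTransparency.types false in
/-- a point where a section does not vanish lies over the support -/
theorem hom_mem_supp_of_not_mem_agree {V : X.Etale} (s : F.obj.obj (op V)) (v : V.left)
    (hv : v ∉ agree F s 0) : V.hom v ∈ EtPBC.supp F := by
  obtain ⟨Ω, _, _, ξ, x₀, hx₀⟩ := Groth.Agent.Lib.T2H8StalkAlgClosed.exists_geometric_point V v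
  subst hx₀
  refine ⟨Ω, inferInstance, inferInstance, ξ, ?_, fun hz => hv ?_⟩
  · rw [Groth.Agent.Lib.T2H8.Supp.range_eq_singleton]
    have e1 : x₀.left ≫ V.hom = ξ := Over.w x₀
    have e2 : ξ default = V.hom ((x₀.left : Spec (CommRingCat.of Ω) ⟶ V.left)
        (default : Spec (CommRingCat.of Ω))) :=
      congrArg (fun m : Spec (CommRingCat.of Ω) ⟶ X => m default) e1.symm
    rw [e2]
  · refine (mem_agree_iff_germ F s 0 ξ x₀).mpr ?_
    rw [AddCommGrpCat.isZero_iff_subsingleton] at hz
    exact hz.elim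
      (α := ((Scheme.pointSmallEtale ξ).presheafFiber.obj F.obj : AddCommGrpCat.{u + 1})) _ _

/-- finite sets of closed points -/
def ClosedFin (X : Scheme.{u}) : Type u :=
  {S : Set X // S.Finite ∧ ∀ x ∈ S, IsClosed ({x} : Set X)}

instance (X : Scheme.{u}) : Preorder (ClosedFin X) :=
  inferInstanceAs (Preorder {S : Set X // S.Finite ∧ ∀ x ∈ S, IsClosed ({x} : Set X)})

instance (X : Scheme.{u}) : Nonempty (ClosedFin X) :=
  ⟨⟨∅, Set.finite_empty, fun x hx => absurd hx (Set.notMem_empty x)⟩⟩

instance (X : Scheme.{u}) : IsDirected (ClosedFin X) (· ≤ ·) :=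
  ⟨fun a b => ⟨⟨a.1 ∪ b.1, a.2.1.union b.2.1, fun x hx => hx.elim (a.2.2 x) (b.2.2 x)⟩,
    Set.subset_union_left, Set.subset_union_right⟩⟩

set_option backward.isDefEq.respectTransparency.types false in
/-- on a locally Noetherian scheme, a sheaf supported in closed points is the union of its
subsheaves of sections supported over finite sets of closed points -/
theorem exists_suppIn [IsLocallyNoetherian X]
    (hF : ∀ x ∈ EtPBC.supp F, IsClosed ({x} : Set X))
    (V : X.Etale) (s : F.obj.obj (op V)) (v : V.left) :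
    ∃ (W : X.Etale) (g : W ⟶ V) (w : W.left) (j : ClosedFin X), g.left w = v ∧
      F.obj.map g.op s ∈ (suppIn F j.1).Q W := by
  haveI : Etale V.hom := V.prop
  haveI : IsLocallyNoetherian V.left :=
    @LocallyOfFiniteType.isLocallyNoetherian V.left X V.hom inferInstance ‹_›
  obtain ⟨A, hA, hvA, -⟩ := exists_isAffineOpen_mem_and_subset (x := v)
    (U := (⊤ : V.left.Opens)) trivial
  haveI : IsNoetherianRing Γ(V.left, A) := IsLocallyNoetherian.component_noetherian ⟨A, hA⟩
  haveI hN : NoetherianSpace A := noetherianSpace_of_isAffineOpen A hA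
  let W : X.Etale := opn V A
  haveI : NoetherianSpace W.left := hN
  haveI : QuasiSober W.left := inferInstanceAs (QuasiSober (A : Scheme.{u}))
  let t : F.obj.obj (op W) := F.obj.map (opnι V A).op s
  let C : Set W.left := (agree F t 0)ᶜ
  have hC : IsClosed C := (isOpen_agree F t 0).isClosed_compl
  have hCcl : ∀ w' ∈ C, IsClosed ({W.hom w'} : Set X) :=
    fun w' hw' => hF _ (hom_mem_supp_of_not_mem_agree F t w' hw')
  have hfin : C.Finite := finite_of_isClosed_of_closed_points hC
    (fun w' hw' => isClosed_singleton_of_hom W w' (hCcl w' hw'))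
  refine ⟨W, opnι V A, ⟨v, hvA⟩, ⟨(fun w' => W.hom w') '' C, hfin.image _, ?_⟩, rfl, ?_⟩
  · rintro _ ⟨w', hw', rfl⟩
    exact hCcl w' hw'
  · intro w' hw'
    by_contra hcon
    exact hw' ⟨w', hcon, rfl⟩

end Cover

section Main

open Groth.Agent.Lib.T2H8.ClosedPts

/-- **S0171**: vanishing of the higher cohomology of sheaves supported in closed points -/
theorem main_S0171 {K : Type u} [Field K] [IsSepClosed K] (X : Scheme.{u})
    (a : X ⟶ Spec (CommRingCat.of K)) [LocallyOfFiniteType a] [QuasiCompact a]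
    (F : EtCoh.Ab X) (hF : ∀ x ∈ EtPBC.supp F, IsClosed ({x} : Set X)) (q : ℕ) (hq : 0 < q) :
    Subsingleton (EtCoh.H X F q) := by
  haveI : IsLocallyNoetherian X := LocallyOfFiniteType.isLocallyNoetherian a
  haveI : CompactSpace X := QuasiCompact.compactSpace_of_compactSpace a
  haveI : QuasiSeparatedSpace X := inferInstance
  let L : ClosedFin X → LocSub F := fun j => suppIn F j.1
  have hL : ∀ i j, i ≤ j → ∀ V, (L i).Q V ≤ (L j).Q V := fun i j h V => suppIn_mono F h V
  haveI := LocSub.isIso_desc L hL (exists_suppIn F hF)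
  have h1 : Subsingleton (EtCoh.H X (colimit (LocSub.functor L hL)) q) :=
    subsingleton_H_colimit X _ q
      (fun j => subsingleton_H_suppIn F a j.1 j.2.1 j.2.2 q hq)
  exact subsingleton_H_of_iso (asIso (colimit.desc _ (LocSub.cocone L hL))).symm q h1

end Main

end Groth.Agent.Lib.T2H8.ClosedSupp
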