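import Mathlib
import Groth.Prelude.Def_EtShriek2
import Groth.Agent.Lib.Helper16SmallEtale
import Groth.Agent.Lib.Helper16EtGlue

set_option autoImplicit false
set_option linter.style.haveILetI false
set_option linter.unusedSectionVars false
universe u
open CategoryTheory CategoryTheory.Limits AlgebraicGeometry Opposite

namespace Groth.Agent.Lib.T2H8.Excision

variable {X : Scheme.{u}} (F : EtCoh.Ab X)

lemma map_comp_apply {U V W : X.Etale} (a : W ⟶ V) (g : V ⟶ U) (s : F.obj.obj (op U)) :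
    F.obj.map (a ≫ g).op s = F.obj.map a.op (F.obj.map g.op s) := by
  rw [op_comp, Functor.map_comp]
  rfl

lemma isSheaf_forget : Presieve.IsSheaf X.smallEtaleTopology (F.obj ⋙ forget AddCommGrpCat.{u + 1}) :=
  (isSheaf_iff_isSheaf_of_type _ _).1
    ((Presheaf.isSheaf_iff_isSheaf_forget X.smallEtaleTopology F.obj (forget _)).1 F.property)

/-- sections which agree étale locally around every point are equal -/
lemma eq_of_locally_eq {U : X.Etale} (s t : F.obj.obj (op U))
    (h : ∀ x : U.left, ∃ (W : X.Etale) (g : W ⟶ U), (∃ w : W.left, g.left.base w = x) ∧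
      F.obj.map g.op s = F.obj.map g.op t) : s = t := by
  let S : Sieve U :=
    { arrows := fun W g => F.obj.map g.op s = F.obj.map g.op t
      downward_closed := by
        intro W W' g hg k
        rw [map_comp_apply, map_comp_apply, hg] }
  have hS : S ∈ X.smallEtaleTopology U := by
    rw [Groth.Agent.Lib.Helper16.SmallEtale.mem_smallEtale_iff]
    intro x
    obtain ⟨W, g, ⟨w, hw⟩, hg⟩ := h x
    exact ⟨W, g, w, hg, hw⟩
  apply ((isSheaf_forget F) _ hS).isSeparatedFor.ext
  intro W g hg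
  exact hg

/-- fibre products in the small étale site, with points -/
lemma exists_fibre_product {U W U' : X.Etale} (g : W ⟶ U) (φ : U' ⟶ U) (w : W.left) (x' : U'.left)
    (h : g.left.base w = φ.left.base x') :
    ∃ (P : X.Etale) (a : P ⟶ W) (b : P ⟶ U') (p : P.left), a ≫ g = b ≫ φ ∧
      a.left.base p = w ∧ b.left.base p = x' := by
  obtain ⟨p, hp1, hp2⟩ := Scheme.Pullback.exists_preimage_pullback (f := g.left) (g := φ.left) w x' h
  let P : X.Etale := Scheme.Etale.mk (pullback.fst g.left φ.left ≫ W.hom)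
  let a : P ⟶ W := MorphismProperty.Over.homMk (pullback.fst g.left φ.left) rfl
  have hb : pullback.snd g.left φ.left ≫ U'.hom = pullback.fst g.left φ.left ≫ W.hom := by
    have e1 : U'.hom = φ.left ≫ U.hom := (MorphismProperty.Over.w φ).symm
    have e2 : W.hom = g.left ≫ U.hom := (MorphismProperty.Over.w g).symm
    rw [e1, e2, ← Category.assoc, ← Category.assoc, pullback.condition]
  let b : P ⟶ U' := MorphismProperty.Over.homMk (pullback.snd g.left φ.left) hb
  refine ⟨P, a, b, p, ?_, hp1, hp2⟩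
  apply MorphismProperty.Over.Hom.ext
  exact pullback.condition

lemma not_mem_sectSupp_iff {U : X.Etale} (s : F.obj.obj (op U)) (x : U.left) :
    x ∉ EtShriek.sectSupp F U s ↔ ∃ (W : X.Etale) (g : W ⟶ U),
      (∃ w : W.left, g.left.base w = x) ∧ F.obj.map g.op s = 0 := by
  unfold EtShriek.sectSupp
  simp only [Set.mem_ofPred_eq, not_forall, not_not, exists_prop]

/-- `supp (p^* s) ⊆ p⁻¹ (supp s)` -/
lemma not_mem_sectSupp_map {T U : X.Etale} (p : T ⟶ U) (s : F.obj.obj (op U)) (t : T.left)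
    (h : p.left.base t ∉ EtShriek.sectSupp F U s) :
    t ∉ EtShriek.sectSupp F T (F.obj.map p.op s) := by
  rw [not_mem_sectSupp_iff] at h ⊢
  obtain ⟨W, g, ⟨w, hw⟩, hg⟩ := h
  obtain ⟨P, a, b, q, hab, ha, hb⟩ := exists_fibre_product g p w t hw
  refine ⟨P, b, ⟨q, hb⟩, ?_⟩
  rw [← map_comp_apply, ← hab, map_comp_apply, hg, map_zero]

/-- two sections are locally equal at a point outside both supports -/
lemma exists_eq_of_not_mem_sectSupp {T : X.Etale} (a b : F.obj.obj (op T)) (t : T.left)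
    (ha : t ∉ EtShriek.sectSupp F T a) (hb : t ∉ EtShriek.sectSupp F T b) :
    ∃ (W : X.Etale) (g : W ⟶ T), (∃ w : W.left, g.left.base w = t) ∧
      F.obj.map g.op a = F.obj.map g.op b := by
  rw [not_mem_sectSupp_iff] at ha hb
  obtain ⟨W₁, g₁, ⟨w₁, hw₁⟩, hg₁⟩ := ha
  obtain ⟨W₂, g₂, ⟨w₂, hw₂⟩, hg₂⟩ := hb
  obtain ⟨P, c₁, c₂, q, hc, hq₁, hq₂⟩ := exists_fibre_product g₁ g₂ w₁ w₂ (hw₁.trans hw₂.symm)
  refine ⟨P, c₁ ≫ g₁, ⟨q, ?_⟩, ?_⟩
  · have e : (c₁ ≫ g₁).left.base q = g₁.left.base (c₁.left.base q) := Scheme.Hom.comp_apply _ _ _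
    rw [e, hq₁, hw₁]
  · rw [map_comp_apply, hg₁, map_zero, hc, map_comp_apply, hg₂, map_zero]

section PullbackPoints

variable {A B S : Scheme.{u}} {f : A ⟶ S} {g : B ⟶ S}

open Scheme.Pullback in
/-- the fibre of `A ×_S B` over a pair of points has one element when the residue field extension
on the `A`-side is trivial -/
lemma pullback_point_unique (w₁ w₂ : ↑(pullback f g))
    (h1 : (pullback.fst f g).base w₁ = (pullback.fst f g).base w₂)
    (h2 : (pullback.snd f g).base w₁ = (pullback.snd f g).base w₂)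
    (hres : Function.Bijective (f.residueFieldMap ((pullback.fst f g).base w₂))) :
    w₁ = w₂ := by
  apply carrierEquiv.injective
  have e : Triplet.ofPoint w₁ = Triplet.ofPoint w₂ := Triplet.ext h1 h2
  apply carrierEquiv_eq_iff.mpr
  refine ⟨e, ?_⟩
  -- the tensor product at `w₂` is a field
  let T := Triplet.ofPoint w₂
  haveI : IsIso (f.residueFieldMap T.x) := by
    rw [ConcreteCategory.isIso_iff_bijective]
    exact hres
  haveI : IsIso ((S.residueFieldCongr T.hx).inv ≫ f.residueFieldMap T.x) := inferInstance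
  haveI : IsIso T.tensorInr :=
    (IsPushout.of_hasPushout ((S.residueFieldCongr T.hx).inv ≫ f.residueFieldMap T.x)
      ((S.residueFieldCongr T.hy).inv ≫ g.residueFieldMap T.y)).isIso_inr_of_isIso
  have hinj : Function.Injective (Spec.map T.tensorInr).base :=
    (asIso (Spec.map T.tensorInr)).schemeIsoToHomeo.injective
  apply hinj
  exact Subsingleton.elim (α := PrimeSpectrum (B.residueField T.y)) _ _

end PullbackPoints

/-- two maps over `U` into an étale `U`-scheme which agree at a point with trivial residue field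
extension agree near that point -/
lemma exists_open_nhd_eq {T U' U : X.Etale} (φ : U' ⟶ U) (p₁ p₂ : T ⟶ U') (h : p₁ ≫ φ = p₂ ≫ φ)
    (t : T.left) (ht : p₁.left.base t = p₂.left.base t)
    (hres : Function.Bijective (φ.left.residueFieldMap (p₂.left.base t))) :
    ∃ (E : X.Etale) (e : E ⟶ T), (∃ q : E.left, e.left.base q = t) ∧ e ≫ p₁ = e ≫ p₂ := by
  have hl : p₁.left ≫ φ.left = p₂.left ≫ φ.left := congrArg (fun m => m.left) h
  let l : T.left ⟶ pullback φ.left φ.left := pullback.lift p₁.left p₂.left hl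
  let Δ : U'.left ⟶ pullback φ.left φ.left := pullback.diagonal φ.left
  haveI : IsOpenImmersion Δ := inferInstance
  let D : (pullback φ.left φ.left).Opens := Δ.opensRange
  let E₀ : T.left.Opens := l ⁻¹ᵁ D
  have hfst : ∀ x, (pullback.fst φ.left φ.left).base (Δ.base x) = x := by
    intro x
    have e1 : (pullback.fst φ.left φ.left).base (Δ.base x) =
        (Δ ≫ pullback.fst φ.left φ.left).base x := (Scheme.Hom.comp_apply _ _ _).symm
    rw [e1, pullback.diagonal_fst]
    rfl
  have hsnd : ∀ x, (pullback.snd φ.left φ.left).base (Δ.base x) = x := by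
    intro x
    have e1 : (pullback.snd φ.left φ.left).base (Δ.base x) =
        (Δ ≫ pullback.snd φ.left φ.left).base x := (Scheme.Hom.comp_apply _ _ _).symm
    rw [e1, pullback.diagonal_snd]
    rfl
  have hlfst : (pullback.fst φ.left φ.left).base (l.base t) = p₁.left.base t := by
    have e1 : (pullback.fst φ.left φ.left).base (l.base t) =
        (l ≫ pullback.fst φ.left φ.left).base t := (Scheme.Hom.comp_apply _ _ _).symm
    rw [e1, pullback.lift_fst]
  have hlsnd : (pullback.snd φ.left φ.left).base (l.base t) = p₂.left.base t := by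
    have e1 : (pullback.snd φ.left φ.left).base (l.base t) =
        (l ≫ pullback.snd φ.left φ.left).base t := (Scheme.Hom.comp_apply _ _ _).symm
    rw [e1, pullback.lift_snd]
  have htE : t ∈ E₀ := by
    change l.base t ∈ Set.range Δ.base
    refine ⟨p₂.left.base t, ?_⟩
    have hres' : ∀ y, y = p₂.left.base t → Function.Bijective (φ.left.residueFieldMap y) := by
      rintro _ rfl
      exact hres
    apply pullback_point_unique
    · rw [hfst, hlfst, ht]
    · rw [hsnd, hlsnd]
    · exact hres' _ (hlfst.trans ht)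
  have hsub : Set.range (E₀.ι ≫ l).base ⊆ Set.range Δ.base := by
    rintro _ ⟨q, rfl⟩
    have e1 : (E₀.ι ≫ l).base q = l.base (E₀.ι.base q) := Scheme.Hom.comp_apply _ _ _
    rw [e1]
    exact q.2
  let k : (E₀ : Scheme.{u}) ⟶ U'.left := IsOpenImmersion.lift Δ (E₀.ι ≫ l) hsub
  have hk : k ≫ Δ = E₀.ι ≫ l := IsOpenImmersion.lift_fac Δ (E₀.ι ≫ l) hsub
  have hk1 : E₀.ι ≫ p₁.left = k := by
    have e1 : E₀.ι ≫ p₁.left = (E₀.ι ≫ l) ≫ pullback.fst φ.left φ.left := by
      rw [Category.assoc, pullback.lift_fst]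
    rw [e1, ← hk, Category.assoc, pullback.diagonal_fst, Category.comp_id]
  have hk2 : E₀.ι ≫ p₂.left = k := by
    have e1 : E₀.ι ≫ p₂.left = (E₀.ι ≫ l) ≫ pullback.snd φ.left φ.left := by
      rw [Category.assoc, pullback.lift_snd]
    rw [e1, ← hk, Category.assoc, pullback.diagonal_snd, Category.comp_id]
  let E : X.Etale := Scheme.Etale.mk (E₀.ι ≫ T.hom)
  let e : E ⟶ T := MorphismProperty.Over.homMk E₀.ι rfl
  refine ⟨E, e, ⟨⟨t, htE⟩, rfl⟩, ?_⟩
  apply MorphismProperty.Over.Hom.ext
  exact hk1.trans hk2.symm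

section Main

variable {U U' : X.Etale} (φ : U' ⟶ U) (Z : Set ↥U.left) (hZ : IsClosed Z)
  (hbij : Set.BijOn φ.left.base (φ.left.base ⁻¹' Z) Z)
  (hres : ∀ x ∈ φ.left.base ⁻¹' Z, Function.Bijective (φ.left.residueFieldMap x))

lemma mapsTo : Set.MapsTo (F.obj.map φ.op) {s | EtShriek.sectSupp F U s ⊆ Z}
    {s' | EtShriek.sectSupp F U' s' ⊆ φ.left.base ⁻¹' Z} := by
  intro s hs x' hx'
  by_contra hcon
  have h1 : φ.left.base x' ∉ EtShriek.sectSupp F U s := fun h => hcon (hs h)
  exact not_mem_sectSupp_map F φ s x' h1 hx'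

include hbij in
lemma injOn : Set.InjOn (F.obj.map φ.op) {s | EtShriek.sectSupp F U s ⊆ Z} := by
  intro s₁ hs₁ s₂ hs₂ h
  apply eq_of_locally_eq
  intro x
  by_cases hx : x ∈ Z
  · obtain ⟨x', -, rfl⟩ := hbij.surjOn hx
    exact ⟨U', φ, ⟨x', rfl⟩, h⟩
  · exact exists_eq_of_not_mem_sectSupp F s₁ s₂ x (fun h => hx (hs₁ h)) (fun h => hx (hs₂ h))

lemma comp_left_apply {A B C : X.Etale} (a : A ⟶ B) (b : B ⟶ C) (t : A.left) :
    (a ≫ b).left.base t = b.left.base (a.left.base t) := Scheme.Hom.comp_apply _ _ _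

include hbij hres in
lemma compat_AA {T : X.Etale} (p₁ p₂ : T ⟶ U') (h : p₁ ≫ φ = p₂ ≫ φ) (s' : F.obj.obj (op U'))
    (hs' : EtShriek.sectSupp F U' s' ⊆ φ.left.base ⁻¹' Z) :
    F.obj.map p₁.op s' = F.obj.map p₂.op s' := by
  apply eq_of_locally_eq
  intro t
  have hφ : φ.left.base (p₁.left.base t) = φ.left.base (p₂.left.base t) := by
    rw [← comp_left_apply, ← comp_left_apply, h]
  by_cases hz : φ.left.base (p₁.left.base t) ∈ Z
  · have hz2 : φ.left.base (p₂.left.base t) ∈ Z := hφ ▸ hz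
    have ht : p₁.left.base t = p₂.left.base t := hbij.injOn hz hz2 hφ
    obtain ⟨E, e, hq, he⟩ := exists_open_nhd_eq φ p₁ p₂ h t ht (hres _ hz2)
    exact ⟨E, e, hq, by rw [← map_comp_apply, ← map_comp_apply, he]⟩
  · have h1 : p₁.left.base t ∉ EtShriek.sectSupp F U' s' := fun hh => hz (hs' hh)
    have h2 : p₂.left.base t ∉ EtShriek.sectSupp F U' s' := fun hh => hz (hφ ▸ hs' hh)
    exact exists_eq_of_not_mem_sectSupp F _ _ t (not_mem_sectSupp_map F p₁ s' t h1)
      (not_mem_sectSupp_map F p₂ s' t h2)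

/-- the open complement of `Z` in `U` as an object of the small étale site -/
def complOpen : U.left.Opens := ⟨Zᶜ, hZ.isOpen_compl⟩

noncomputable def complObj : X.Etale :=
  Scheme.Etale.mk ((complOpen Z hZ).ι ≫ U.hom)

noncomputable def complι : complObj Z hZ ⟶ U :=
  MorphismProperty.Over.homMk (complOpen Z hZ).ι rfl

lemma complι_not_mem (y : (complObj Z hZ).left) : (complι Z hZ).left.base y ∉ Z := y.2

lemma compat_AB {T : X.Etale} (p : T ⟶ U') (q : T ⟶ complObj Z hZ) (h : p ≫ φ = q ≫ complι Z hZ)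
    (s' : F.obj.obj (op U')) (hs' : EtShriek.sectSupp F U' s' ⊆ φ.left.base ⁻¹' Z) :
    F.obj.map p.op s' = 0 := by
  apply eq_of_locally_eq
  intro t
  have hnz : φ.left.base (p.left.base t) ∉ Z := by
    rw [← comp_left_apply, h, comp_left_apply]
    exact complι_not_mem Z hZ _
  have h1 : p.left.base t ∉ EtShriek.sectSupp F U' s' := fun hh => hnz (hs' hh)
  have h2 := not_mem_sectSupp_map F p s' t h1
  rw [not_mem_sectSupp_iff] at h2
  obtain ⟨W, g, hw, hg⟩ := h2
  exact ⟨W, g, hw, by rw [hg, map_zero]⟩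

include hZ hbij hres in
lemma surjOn : Set.SurjOn (F.obj.map φ.op) {s | EtShriek.sectSupp F U s ⊆ Z}
    {s' | EtShriek.sectSupp F U' s' ⊆ φ.left.base ⁻¹' Z} := by
  intro s' hs'
  let Y : Bool → X.Etale := fun b => match b with
    | true => U'
    | false => complObj Z hZ
  let π : ∀ b, Y b ⟶ U := fun b => match b with
    | true => φ
    | false => complι Z hZ
  let xs : ∀ b, (F.obj ⋙ forget AddCommGrpCat.{u + 1}).obj (op (Y b)) := fun b => match b with
    | true => s'
    | false => (0 : F.obj.obj (op (complObj Z hZ)))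
  have hS : Sieve.ofArrows Y π ∈ X.smallEtaleTopology U := by
    rw [Groth.Agent.Lib.Helper16.SmallEtale.mem_smallEtale_iff]
    intro x
    by_cases hx : x ∈ Z
    · obtain ⟨x', -, rfl⟩ := hbij.surjOn hx
      exact ⟨U', φ, x', Sieve.ofArrows_mk Y π true, rfl⟩
    · exact ⟨complObj Z hZ, complι Z hZ, ⟨x, hx⟩, Sieve.ofArrows_mk Y π false, rfl⟩
  have h1 : Presieve.IsSheafFor (F.obj ⋙ forget AddCommGrpCat.{u + 1}) (Presieve.ofArrows Y π) :=
    (Presieve.isSheafFor_iff_generate (Presieve.ofArrows Y π)).mpr ((isSheaf_forget F) _ hS)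
  rw [Presieve.isSheafFor_arrows_iff] at h1
  have hcompat : Presieve.Arrows.Compatible (F.obj ⋙ forget AddCommGrpCat.{u + 1}) π xs := by
    intro a b T ga gb hab
    match a, b with
    | true, true => exact compat_AA F φ Z hbij hres ga gb hab s' hs'
    | true, false =>
      change F.obj.map ga.op s' = F.obj.map gb.op 0
      rw [map_zero]
      exact compat_AB F φ Z hZ ga gb hab s' hs'
    | false, true =>
      change F.obj.map ga.op 0 = F.obj.map gb.op s'
      rw [map_zero]
      exact (compat_AB F φ Z hZ gb ga hab.symm s' hs').symm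
    | false, false =>
      change F.obj.map ga.op 0 = F.obj.map gb.op 0
      rw [map_zero, map_zero]
  obtain ⟨s, hs, -⟩ := h1 xs hcompat
  have hs1 : F.obj.map φ.op s = s' := hs true
  have hs2 : F.obj.map (complι Z hZ).op s = 0 := hs false
  refine ⟨s, ?_, hs1⟩
  intro x hx
  by_contra hxZ
  have : x ∉ EtShriek.sectSupp F U s := by
    rw [not_mem_sectSupp_iff]
    exact ⟨complObj Z hZ, complι Z hZ, ⟨⟨x, hxZ⟩, rfl⟩, hs2⟩
  exact this hx

include hZ hbij hres in
theorem bijOn : Set.BijOn (F.obj.map φ.op) {s | EtShriek.sectSupp F U s ⊆ Z}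
    {s' | EtShriek.sectSupp F U' s' ⊆ φ.left.base ⁻¹' Z} :=
  ⟨mapsTo F φ Z, injOn F φ Z hbij, surjOn F φ Z hZ hbij hres⟩

end Main

end Groth.Agent.Lib.T2H8.Excision
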