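import Mathlib
import Groth.Prelude.Def_EtShriek2
import Groth.Agent.Lib.Helper1ProperOver
import Groth.Agent.Lib.Helper12Descent
import Groth.Agent.Lib.Helper12Torsor
import Groth.Agent.Lib.Helper16SmallEtale
import Groth.Agent.Lib.T2H8Excision
import Groth.Agent.Lib.T2H8ClosedSupp

/-!
# Sections with proper support form a sheaf (S0680)
-/

set_option autoImplicit false
set_option linter.unusedSectionVars false
set_option linter.style.haveILetI false
universe u
open CategoryTheory CategoryTheory.Limits Opposite AlgebraicGeometry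

namespace Groth.Agent.Lib.T2H8.ShriekSheaf

open Groth.Agent.Lib.Helper1 Groth.Agent.Lib.T2H8.Excision

section Supp

variable {X : Scheme.{u}} (F : EtCoh.Ab X)

lemma isClosed_sectSupp {U : X.Etale} (s : F.obj.obj (op U)) :
    IsClosed (EtShriek.sectSupp F U s) := by
  rw [← isOpen_compl_iff, isOpen_iff_forall_mem_open]
  intro x hx
  rw [Set.mem_compl_iff, not_mem_sectSupp_iff] at hx
  obtain ⟨W, g, ⟨w, hw⟩, hg⟩ := hx
  haveI : Etale g.left := inferInstanceAs (Etale g.left)
  refine ⟨Set.range g.left, ?_, g.left.isOpenMap.isOpen_range, ⟨w, hw⟩⟩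
  rintro _ ⟨w', rfl⟩
  rw [Set.mem_compl_iff, not_mem_sectSupp_iff]
  exact ⟨W, g, ⟨w', rfl⟩, hg⟩

lemma sectSupp_map {T U : X.Etale} (p : T ⟶ U) (s : F.obj.obj (op U)) :
    EtShriek.sectSupp F T (F.obj.map p.op s) = p.left ⁻¹' EtShriek.sectSupp F U s := by
  ext t
  constructor
  · intro ht
    by_contra hcon
    exact not_mem_sectSupp_map F p s t hcon ht
  · intro ht
    by_contra hcon
    rw [not_mem_sectSupp_iff] at hcon
    obtain ⟨W, g, ⟨w, hw⟩, hg⟩ := hcon
    have : p.left t ∉ EtShriek.sectSupp F U s := by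
      rw [not_mem_sectSupp_iff]
      refine ⟨W, g ≫ p, ⟨w, ?_⟩, ?_⟩
      · have e : (g ≫ p).left.base w = p.left.base (g.left.base w) := Scheme.Hom.comp_apply _ _ _
        rw [e, hw]
      · rw [map_comp_apply, hg]
    exact this ht

lemma sectSupp_zero (U : X.Etale) : EtShriek.sectSupp F U (0 : F.obj.obj (op U)) = ∅ := by
  ext x
  simp only [Set.mem_empty_iff_false, iff_false]
  rw [not_mem_sectSupp_iff]
  exact ⟨U, 𝟙 U, ⟨x, rfl⟩, map_zero _⟩

lemma sectSupp_neg {U : X.Etale} (s : F.obj.obj (op U)) :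
    EtShriek.sectSupp F U (-s) = EtShriek.sectSupp F U s := by
  ext x
  rw [← not_iff_not, not_mem_sectSupp_iff, not_mem_sectSupp_iff]
  constructor
  · rintro ⟨W, g, hw, hg⟩
    refine ⟨W, g, hw, ?_⟩
    rw [map_neg, neg_eq_zero] at hg
    exact hg
  · rintro ⟨W, g, hw, hg⟩
    refine ⟨W, g, hw, ?_⟩
    rw [map_neg, hg, neg_zero]

lemma sectSupp_add {U : X.Etale} (s t : F.obj.obj (op U)) :
    EtShriek.sectSupp F U (s + t) ⊆ EtShriek.sectSupp F U s ∪ EtShriek.sectSupp F U t := by
  intro x hx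
  by_contra hcon
  rw [Set.mem_union, not_or] at hcon
  obtain ⟨h1, h2⟩ := hcon
  rw [not_mem_sectSupp_iff] at h1 h2
  obtain ⟨W₁, g₁, ⟨w₁, hw₁⟩, hg₁⟩ := h1
  obtain ⟨W₂, g₂, ⟨w₂, hw₂⟩, hg₂⟩ := h2
  obtain ⟨P, c₁, c₂, q, hc, hq₁, hq₂⟩ := exists_fibre_product g₁ g₂ w₁ w₂ (hw₁.trans hw₂.symm)
  have : x ∉ EtShriek.sectSupp F U (s + t) := by
    rw [not_mem_sectSupp_iff]
    refine ⟨P, c₁ ≫ g₁, ⟨q, ?_⟩, ?_⟩
    · have e : (c₁ ≫ g₁).left.base q = g₁.left.base (c₁.left.base q) := Scheme.Hom.comp_apply _ _ _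
      rw [e, hq₁, hw₁]
    · rw [map_add]
      have e1 : F.obj.map (c₁ ≫ g₁).op s = 0 := by rw [map_comp_apply, hg₁, map_zero]
      have e2 : F.obj.map (c₁ ≫ g₁).op t = 0 := by rw [hc, map_comp_apply, hg₂, map_zero]
      rw [e1, e2, add_zero]
  exact this hx

end Supp

section ProperOver

variable {T S : Scheme.{u}} (g : T ⟶ S)

lemma isProperOver_empty [LocallyOfFiniteType g] : ClSub.IsProperOver g (∅ : Set T) := by
  have := isProperOver_iUnion g (ι := Empty) (fun i => i.elim) (fun i => i.elim)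
  simpa using this

lemma isProperOver_union [LocallyOfFiniteType g] {Z₁ Z₂ : Set T} (h₁ : ClSub.IsProperOver g Z₁)
    (h₂ : ClSub.IsProperOver g Z₂) : ClSub.IsProperOver g (Z₁ ∪ Z₂) := by
  have := isProperOver_iUnion g (ι := Bool) (fun b => cond b Z₁ Z₂)
    (fun b => by cases b <;> assumption)
  rw [Set.union_eq_iUnion]
  exact this

lemma isProperOver_of_subset {Z Z' : Set T} (hZ : ClSub.IsProperOver g Z) (hcl : IsClosed Z')
    (hsub : Z' ⊆ Z) : ClSub.IsProperOver g Z' := by
  obtain ⟨h, hp⟩ := hZ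
  refine ⟨hcl, ?_⟩
  have hsub' : Z' ⊆ Set.range (redι Z h) := by rw [range_redι]; exact hsub
  have e : redι Z' hcl ≫ g = redLift (redι Z h) Z' hcl hsub' ≫ redι Z h ≫ g := by
    rw [redLift_fac_assoc]
  change IsProper (redι Z' hcl ≫ g)
  rw [e]
  haveI : IsProper (redι Z h ≫ g) := hp
  infer_instance

set_option backward.isDefEq.respectTransparency.types false in
/-- properness of a closed subset over the base is étale local on the base -/
theorem isProperOver_of_etale_cover [LocallyOfFiniteType g] (Z : Set T) (hZ : IsClosed Z)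
    {ι : Type*} (W : ι → Scheme.{u}) (φ : ∀ i, W i ⟶ S) [∀ i, Etale (φ i)]
    (hcov : ∀ v : S, ∃ i, v ∈ Set.range (φ i))
    (T' : ι → Scheme.{u}) (q : ∀ i, T' i ⟶ T) (g' : ∀ i, T' i ⟶ W i)
    (sq : ∀ i, IsPullback (q i) (g' i) g (φ i))
    (h : ∀ i, ClSub.IsProperOver (g' i) ((q i) ⁻¹' Z)) : ClSub.IsProperOver g Z := by
  refine ⟨hZ, ?_⟩
  change IsProper (redι Z hZ ≫ g)
  have hR : Presieve.ofArrows W φ ∈ Scheme.fpqcPrecoverage S := by
    apply Scheme.fppfPrecoverage_le_fpqcPrecoverage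
    rw [Scheme.fppfPrecoverage, Scheme.ofArrows_mem_precoverage_iff]
    exact ⟨hcov, fun i => ⟨inferInstance, inferInstance⟩⟩
  refine Groth.Agent.Lib.Helper12.of_mem_fpqcPrecoverage
    Groth.Agent.Lib.Helper12.descendsAlong_isProper.{u} (redι Z hZ ≫ g) _ hR ?_
  rintro Y' _ ⟨i⟩
  set i₀ := redι Z hZ with hi₀
  haveI : LocallyOfFiniteType (g' i) := MorphismProperty.of_isPullback (P := @LocallyOfFiniteType)
    (sq i) inferInstance
  haveI : IsClosedImmersion (pullback.snd i₀ (q i)) :=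
    MorphismProperty.pullback_snd (P := @IsClosedImmersion) _ _ inferInstance
  have hrange : Set.range (pullback.snd i₀ (q i)) = (q i) ⁻¹' Z := by
    rw [Scheme.Pullback.range_snd, hi₀, range_redι]
  have hp : IsProper (pullback.snd i₀ (q i) ≫ g' i) :=
    (isProperOver_iff_isProper_comp (g' i) (pullback.snd i₀ (q i)) _ hrange).1 (h i)
  have big : IsPullback (pullback.snd i₀ (q i) ≫ g' i) (pullback.fst i₀ (q i)) (φ i) (i₀ ≫ g) :=
    (IsPullback.of_hasPullback i₀ (q i)).flip.paste_horiz (sq i).flip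
  have e := big.flip.isoPullback_hom_snd
  refine (MorphismProperty.cancel_left_of_respectsIso @IsProper big.flip.isoPullback.hom
    (pullback.snd (i₀ ≫ g) (φ i))).1 ?_
  rw [e]
  exact hp

end ProperOver

section Shriek

variable {X Y : Scheme.{u}} (f : X ⟶ Y) [LocallyOfFiniteType f] (F : EtCoh.Ab X)

set_option backward.isDefEq.respectTransparency.types false in
instance locallyOfFiniteType_prV (V : Y.Etale) : LocallyOfFiniteType (EtShriek.prV f V) :=
  MorphismProperty.pullback_fst (P := @LocallyOfFiniteType) _ _ inferInstance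

lemma hasProperSupport_iff {V : Y.Etale} (s : EtCoh.sect F ((EtCoh.bc f).obj V)) :
    EtShriek.HasProperSupport F _ s (EtShriek.prV f V) ↔
      ClSub.IsProperOver (EtShriek.prV f V) (EtShriek.sectSupp F _ s) :=
  ⟨fun ⟨_, hZ, hp⟩ => isProperOver_of_subset _ hp (isClosed_sectSupp F s) hZ,
    fun h => ⟨_, subset_rfl, h⟩⟩

lemma shriekPred_zero (V : Y.Etale) :
    EtShriek.ShriekPred f F V (0 : EtCoh.sect F ((EtCoh.bc f).obj V)) := by
  intro V' φ
  refine ⟨∅, ?_, isProperOver_empty _⟩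
  rw [map_zero, sectSupp_zero]

lemma shriekPred_neg {V : Y.Etale} {s : EtCoh.sect F ((EtCoh.bc f).obj V)}
    (hs : EtShriek.ShriekPred f F V s) : EtShriek.ShriekPred f F V (-s) := by
  intro V' φ
  obtain ⟨Z, hZ, hp⟩ := hs V' φ
  refine ⟨Z, ?_, hp⟩
  rw [map_neg, sectSupp_neg]
  exact hZ

lemma shriekPred_add {V : Y.Etale} {s t : EtCoh.sect F ((EtCoh.bc f).obj V)}
    (hs : EtShriek.ShriekPred f F V s) (ht : EtShriek.ShriekPred f F V t) :
    EtShriek.ShriekPred f F V (s + t) := by
  intro V' φ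
  obtain ⟨Z₁, hZ₁, hp₁⟩ := hs V' φ
  obtain ⟨Z₂, hZ₂, hp₂⟩ := ht V' φ
  refine ⟨Z₁ ∪ Z₂, ?_, isProperOver_union _ hp₁ hp₂⟩
  rw [map_add]
  exact (sectSupp_add F _ _).trans (Set.union_subset_union hZ₁ hZ₂)

lemma mem_shriekSubgroup_iff (V : Y.Etale) (s : EtCoh.sect F ((EtCoh.bc f).obj V)) :
    s ∈ EtShriek.shriekSubgroup f F V ↔ EtShriek.ShriekPred f F V s := by
  constructor
  · intro hs
    refine AddSubgroup.closure_induction (p := fun x _ => EtShriek.ShriekPred f F V x)
      ?_ ?_ ?_ ?_ hs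
    · intro x hx
      exact hx
    · exact shriekPred_zero f F V
    · intro x y _ _ hx hy
      exact shriekPred_add f F hx hy
    · intro x _ hx
      exact shriekPred_neg f F hx
  · intro hs
    exact AddSubgroup.subset_closure hs

set_option backward.isDefEq.respectTransparency.types false in
/-- having proper support is local for the étale topology of the base -/
theorem shriekPred_of_local (V : Y.Etale) (s : EtCoh.sect F ((EtCoh.bc f).obj V)) (R : Sieve V)
    (hR : R ∈ Y.smallEtaleTopology V)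
    (h : ∀ (W : Y.Etale) (g : W ⟶ V), R g →
      EtShriek.ShriekPred f F W (F.obj.map ((EtCoh.bc f).map g).op s)) :
    EtShriek.ShriekPred f F V s := by
  intro V' φ
  set s' := F.obj.map ((EtCoh.bc f).map φ).op s with hs'
  rw [hasProperSupport_iff]
  have hR' : R.pullback φ ∈ Y.smallEtaleTopology V' := Y.smallEtaleTopology.pullback_stable φ hR
  rw [Groth.Agent.Lib.Helper16.SmallEtale.mem_smallEtale_iff] at hR'
  choose W g w hg hw using hR'
  haveI : ∀ x, Etale (g x).left := fun x => inferInstanceAs (Etale (g x).left)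
  refine isProperOver_of_etale_cover (EtShriek.prV f V') _ (isClosed_sectSupp F s')
    (fun x => (W x).left) (fun x => (g x).left) ?_ (fun x => ((EtCoh.bc f).obj (W x)).left)
    (fun x => ((EtCoh.bc f).map (g x)).left) (fun x => EtShriek.prV f (W x))
    (fun x => EtCoh.isPullback_bc_map f (g x)) ?_
  · intro v
    exact ⟨v, w v, hw v⟩
  · intro x
    have h1 := h (W x) (g x ≫ φ) (hg x) (W x) (𝟙 _)
    rw [hasProperSupport_iff] at h1
    have e : F.obj.map ((EtCoh.bc f).map (𝟙 (W x))).op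
        (F.obj.map ((EtCoh.bc f).map (g x ≫ φ)).op s) =
        F.obj.map ((EtCoh.bc f).map (g x)).op s' := by
      rw [CategoryTheory.Functor.map_id, op_id, F.obj.map_id, Functor.map_comp, hs',
        map_comp_apply]
      rfl
    rw [e, sectSupp_map] at h1
    exact h1

/-- the local family of subgroups of sections with proper support -/
noncomputable def locSub : Groth.Agent.Lib.T2H8.ClosedSupp.LocSub ((EtCoh.push f).obj F) where
  Q V := EtShriek.shriekSubgroup f F V
  map_mem {V W} g s hs := EtShriek.shriekSubgroup_le_comap f F g hs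
  loc V s R hR h := by
    refine (mem_shriekSubgroup_iff f F V s).2 ?_
    refine shriekPred_of_local f F V s R hR (fun W g hg => ?_)
    exact (mem_shriekSubgroup_iff f F W _).1 (h W g hg)

theorem main_S0680 : Presheaf.IsSheaf Y.smallEtaleTopology (EtShriek.lowerShriekPre f F) :=
  (locSub f F).pre_isSheaf

end Shriek

end Groth.Agent.Lib.T2H8.ShriekSheaf
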