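import Groth.Agent.Lib.T2H1LTensorModPerf
import Groth.Agent.Lib.T2H1RpushTorAmpG
import Groth.Agent.Lib.T2H8PerfCoh
import Groth.Agent.Lib.T2H5GenIsoD
import Groth.Agent.Lib.Helper23TensorQCoh
import Groth.Agent.Lib.T2H2NilFPC
import Groth.Agent.Lib.T2H8ShriekSheaf
import Groth.Agent.Lib.Helper17AdjWay1
set_option backward.isDefEq.respectTransparency.types false

/-!
# Perfectness of `Rf_*(E ⊗^L G)` for `E` perfect and `G` coherent, flat over the Noetherian base
with support proper over the base (helper1)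
-/

set_option autoImplicit false
set_option linter.style.haveILetI false
universe u
open CategoryTheory CategoryTheory.Limits AlgebraicGeometry HomologicalComplex

attribute [local instance] HasDerivedCategory.standard

namespace Groth.Agent.Lib.T2H1.LTensorModPush

open Groth.Agent.Lib.Helper1.CI Groth.Agent.Lib.Helper1.PT Groth.Agent.Lib.Helper1.Sky
  Groth.Agent.Lib.Helper1.KBC Groth.Agent.Lib.Helper1.BKF
  Groth.Agent.Lib.T2H1.LTensorModLocal Groth.Agent.Lib.T2H1.LTensorModPerf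
  Groth.Agent.Lib.T2H1.RelPerfTri Groth.Agent.Lib.T2H1.RelPerfTilde
  Groth.Agent.Lib.T2H1.RpushTorAmp Groth.Agent.Lib.T2H8.PerfCoh

attribute [local instance] Groth.Agent.Lib.T2H1.TorAmpQCoh.hasLTensorMod
attribute [local instance] Groth.Agent.Lib.T2H1.RpushSupport.hasRpush

variable {X S : Scheme.{u}} (f : X ⟶ S)

/-- the local model of `E ⊗^L G`: a bounded complex of coherent modules flat over the base -/
theorem exists_local_model (E : DCoh.D X) (hE : DCoh.IsPerfect E)
    (G : X.Modules) (hG : Coh.IsCoh G) (hflat : FlatMod.IsFlatOver f G) (x : X) :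
    ∃ (V : X.Opens) (c d : ℤ) (C : CochainComplex (V : Scheme.{u}).Modules ℤ), x ∈ V ∧
      (∀ p, Coh.IsCoh (C.X p)) ∧ DCoh.VanishesOutside C c d ∧
      (∀ p, FlatMod.IsFlatOver (V.ι ≫ f) (C.X p)) ∧
      Nonempty ((DCoh.restrictD V.ι).obj ((DCoh.LTensorMod G).obj E) ≅
        DCoh.toD (V : Scheme.{u}) C) := by
  obtain ⟨V, c, d, E1, hxV, hE1, hcd, ⟨e⟩⟩ := exists_local_Ttw_iso E hE G x
  have hG' : Coh.IsCoh ((plb V.ι).obj G) := Groth.Agent.Lib.T2H5.GenIsoD.isCoh_pullback V.ι G hG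
  have hGfl : FlatMod.IsFlatOver (V.ι ≫ f) ((plb V.ι).obj G) :=
    isFlatOver_of_iso' _ ((Scheme.Modules.restrictFunctorIsoPullback V.ι).app G)
      (Groth.Agent.Lib.T2H2.NilFP.isFlatOver_restrict V.ι f G hflat)
  refine ⟨V, c, d, (Ttw ((plb V.ι).obj G)).obj E1, hxV, fun p => ?_, fun i hi => ?_, fun p => ?_,
    ⟨e⟩⟩
  · have h1 : Coh.IsCoh (E1.X p) := isCoh_of_isFinLocFree _ (hE1.2 p)
    haveI := h1.1
    haveI := h1.2
    haveI := hG'.1
    haveI := hG'.2
    exact ⟨Groth.Agent.Lib.Helper23.TensorQCoh.isQuasicoherent_tensorMod (E1.X p) _,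
      Groth.Agent.Lib.Helper23.TensorQCoh.isFiniteType_tensorMod (E1.X p) _⟩
  · exact (DCoh.tensorRightMod ((plb V.ι).obj G)).map_isZero (hcd i hi)
  · exact isFlatOver_tensorRightMod (V.ι ≫ f) (E1.X p) _ (isFlat_of_isFinLocFree' _ (hE1.2 p)) hGfl

/-- `Rf_*(E ⊗^L G)` is perfect for `E` perfect and `G` coherent, flat over the Noetherian base,
with support proper over the base. -/
theorem isPerfect_Rpush_LTensorMod [IsNoetherian S] [LocallyOfFiniteType f] (E : DCoh.D X)
    (hE : DCoh.IsPerfect E) (G : X.Modules) (hG : Coh.IsCoh G)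
    (hflat : FlatMod.IsFlatOver f G) (hsupp : ClSub.IsProperOver f (CohB1.support G)) :
    DCoh.IsPerfect ((DCoh.Rpush f).obj ((DCoh.LTensorMod G).obj E)) := by
  haveI : IsLocallyNoetherian X := LocallyOfFiniteType.isLocallyNoetherian f
  obtain ⟨K, hKdef⟩ : ∃ K : DCoh.D X, K = (DCoh.LTensorMod G).obj E := ⟨_, rfl⟩
  rw [← hKdef]
  have key : ∀ x : X, ∃ (V : X.Opens) (c d : ℤ) (C : CochainComplex (V : Scheme.{u}).Modules ℤ),
      x ∈ V ∧ (∀ p, Coh.IsCoh (C.X p)) ∧ DCoh.VanishesOutside C c d ∧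
      (∀ p, FlatMod.IsFlatOver (V.ι ≫ f) (C.X p)) ∧
      Nonempty ((DCoh.restrictD V.ι).obj K ≅ DCoh.toD (V : Scheme.{u}) C) := by
    intro x
    rw [hKdef]
    exact exists_local_model f E hE G hG hflat x
  choose V c d C hxV hCcoh hCv hCfl hiso using key
  -- cohomology sheaves locally
  have hH : ∀ x q, Nonempty ((DCoh.HD K q).restrict (V x).ι ≅ (C x).homology q) := fun x q => by
    obtain ⟨e⟩ := hiso x
    exact ⟨(Groth.Agent.Lib.Helper17.AdjWay.homologyIso
      (Scheme.Modules.restrictFunctor (V x).ι) K q).symm ≪≫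
      (DerivedCategory.homologyFunctor _ q).mapIso e ≪≫
      (DerivedCategory.homologyFunctorFactors _ q).app (C x)⟩
  have hK : DCoh.IsCohD K := fun q => isCoh_of_locally _ fun x => ⟨V x, hxV x, by
    obtain ⟨e⟩ := hH x q
    exact isCoh_of_iso e.symm (isCoh_homology (C x) (hCcoh x) q)⟩
  -- supports
  have hclosed : IsClosed (CohB1.support G) :=
    Groth.Agent.Lib.T2H1.RelPCnoeth.isClosed_support_of_isCoh G hG
  let W : X.Opens := ⟨(CohB1.support G)ᶜ, hclosed.isOpen_compl⟩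
  have hW0 : IsZero ((DCoh.restrictD W.ι).obj K) := by
    rw [hKdef]
    exact isZero_restrictD_LTensorMod E G W (IsZero.of_iso
      (Groth.Agent.Lib.T2H1.RpushSupport.isZero_restrict_of_disjoint_support G W
        (fun x hx => hx)) ((Scheme.Modules.restrictFunctorIsoPullback W.ι).app G).symm)
  have hWH : ∀ q, IsZero ((DCoh.HD K q).restrict W.ι) := fun q =>
    IsZero.of_iso ((DerivedCategory.homologyFunctor _ q).map_isZero hW0)
      (Groth.Agent.Lib.Helper17.AdjWay.homologyIso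
        (Scheme.Modules.restrictFunctor W.ι) K q).symm
  have hsub : ∀ q, CohB1.support (DCoh.HD K q) ⊆ CohB1.support G := by
    intro q z hz
    by_contra hzG
    exact Groth.Agent.Lib.T2H1.RpushSupport.not_mem_support_of_isZero_restrict _ W (hWH q) z
      hzG hz
  have hsuppK : ∀ q, ClSub.IsProperOver f (CohB1.support (DCoh.HD K q)) := fun q =>
    Groth.Agent.Lib.T2H8.ShriekSheaf.isProperOver_of_subset f hsupp
      (Groth.Agent.Lib.T2H1.RelPCnoeth.isClosed_support_of_isCoh _ (hK q)) (hsub q)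
  -- global bounds
  have hcpt : IsCompact (CohB1.support G) := isCompact_of_isProperOver f _ hsupp
  obtain ⟨t, -, ht⟩ := hcpt.elim_nhds_subcover (fun x => ((V x : X.Opens) : Set X))
    (fun x _ => (V x).isOpen.mem_nhds (hxV x))
  let Vo : Option t → X.Opens := fun o => o.elim W (fun i => V i.1)
  have hcov : ∀ y : X, ∃ (o : Option t) (z : ((Vo o : X.Opens) : Scheme.{u})), (Vo o).ι z = y := by
    intro y
    by_cases hy : y ∈ CohB1.support G
    · have hy' := ht hy
      simp only [Set.mem_iUnion] at hy'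
      obtain ⟨x, hxt, hyx⟩ := hy'
      exact ⟨some ⟨x, hxt⟩, ⟨y, hyx⟩, rfl⟩
    · exact ⟨none, ⟨y, hy⟩, rfl⟩
  have hzero : ∀ q : ℤ, (∀ x ∈ t, q < c x ∨ d x < q) → IsZero (DCoh.HD K q) := by
    intro q hq
    refine Groth.Agent.Lib.Helper23.ModLocal.isZero_of_isZero_restrict
      (fun o : Option t => ((Vo o : X.Opens) : Scheme.{u})) (fun o => (Vo o).ι) hcov (fun o => ?_)
    rcases o with _ | i
    · exact hWH q
    · obtain ⟨e⟩ := hH i.1 q
      exact IsZero.of_iso (((C i.1).sc q).isZero_homology_of_isZero_X₂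
        (hCv i.1 q (hq i.1 i.2))) e
  have hle : ∀ x ∈ t, |c x| ≤ ∑ y ∈ t, |c y| := fun x hx =>
    Finset.single_le_sum (f := fun y => |c y|) (fun y _ => abs_nonneg (c y)) hx
  have hle' : ∀ x ∈ t, |d x| ≤ ∑ y ∈ t, |d y| := fun x hx =>
    Finset.single_le_sum (f := fun y => |d y|) (fun y _ => abs_nonneg (d y)) hx
  haveI : K.IsGE (-(∑ y ∈ t, |c y|)) := by
    rw [DerivedCategory.isGE_iff]
    intro q hq
    refine hzero q fun x hx => Or.inl ?_
    have h1 := hle x hx
    have h2 := neg_abs_le (c x)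
    omega
  haveI : K.IsLE (∑ y ∈ t, |d y|) := by
    rw [DerivedCategory.isLE_iff]
    intro q hq
    refine hzero q fun x hx => Or.inr ?_
    have h1 := hle' x hx
    have h2 := le_abs_self (d x)
    omega
  -- tor amplitude
  have hTA : LocTA f K := by
    intro x
    refine ⟨V x, c x, d x, hxV x, fun y hy => ?_⟩
    obtain ⟨e⟩ := hiso x
    have h1 : DerSch.HasTorAmplitude ((V x).ι ≫ f) (c x) (d x) (C x) :=
      hasTorAmplitude_of_hasRelFlatAmplitudeIn ((V x).ι ≫ f) (C x) (c x) (d x)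
        ⟨C x, hCv x, hCfl x, ⟨Iso.refl _⟩⟩
    have h2 : TAat ((V x).ι ≫ f) (c x) (d x) ((DCoh.restrictD (V x).ι).obj K) ⟨y, hy⟩ :=
      TAat.of_iso _ e.symm ((tAat_toD_iff _ _ _ _ _).2 (h1 ⟨y, hy⟩))
    exact (tAat_restrictD_iff (V x).ι f K (c x) (d x) ⟨y, hy⟩).1 h2
  exact isPerfect_Rpush_of_coh_properSupport' f K hK (-(∑ y ∈ t, |c y|)) (∑ y ∈ t, |d y|)
    hsuppK hTA

end Groth.Agent.Lib.T2H1.LTensorModPush
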