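import Mathlib
import Groth.Prelude.Def_AlgSp3
import Groth.Agent.S13210
import Groth.Agent.S9876
import Groth.Agent.Lib.Helper12ZarGlue

/-!
# Cofiltered limits of algebraic spaces with affine transition maps (helper1)
-/

set_option autoImplicit false
universe u
open CategoryTheory CategoryTheory.Limits AlgebraicGeometry
open AlgSp

namespace Groth.Agent.Lib.T2H1.LimAffine

open Groth.Agent.S13210

variable {S : Scheme.{u}}

/-- a small diagram of affine schemes has a limit in schemes, which is affine. -/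
lemma exists_affine_limit {J : Type u} [SmallCategory J] (F : J ⥤ Scheme.{u})
    (hF : ∀ j, IsAffine (F.obj j)) :
    ∃ cF : Cone F, Nonempty (IsLimit cF) ∧ IsAffine cF.pt := by
  let P : ObjectProperty Scheme.{u} := Scheme.Spec.essImage
  let F' : J ⥤ AffineScheme.{u} := P.lift F (fun j => essImage_Spec.2 (hF j))
  have e : F' ⋙ AffineScheme.forgetToScheme ≅ F := P.liftCompιIso F _
  let c0 := AffineScheme.forgetToScheme.mapCone (limit.cone F')
  have h0 : IsLimit c0 := isLimitOfPreserves _ (limit.isLimit F')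
  refine ⟨(Cones.postcompose e.hom).obj c0, ⟨(IsLimit.postcomposeHomEquiv e c0).symm h0⟩, ?_⟩
  change IsAffine (limit F').obj
  infer_instance

/-- sheaf-level relative representability gives presheaf-level relative representability. -/
lemma pyon_relativelyRepresentable {F G : AlgSp.Sp S} (f : F ⟶ G)
    (hf : (AlgSp.yon S).relativelyRepresentable f) :
    (AlgSp.pyon S).relativelyRepresentable f.hom := by
  intro T g
  let g' : (AlgSp.yon S).obj T ⟶ G := ⟨g⟩
  obtain ⟨W, snd, fst, sq⟩ := hf g'
  exact ⟨W, snd, fst.hom, sq.map (sheafToPresheaf _ _)⟩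

section

variable {I : Type u} [SmallCategory I] [IsCofiltered I] (D : I ⥤ AlgSp.Sp S)
  (hDa : ∀ (i j : I) (φ : i ⟶ j), AlgSp.IsAffineMor (D.map φ))
  (c : Cone D) (hc : IsLimit c)

include hDa hc in
/-- the projections of a cofiltered limit with affine transition maps are affine. -/
theorem isAffineMor_π (i : I) : AlgSp.IsAffineMor (c.π.app i) := by
  intro Z hZ x
  -- the limit over `Over i`
  let c' : Cone (Over.forget i ⋙ D) := c.whisker (Over.forget i)
  have hc' : IsLimit c' := (Functor.Initial.isLimitWhiskerEquiv (Over.forget i) c).symm hc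
  have hc'π : ∀ j : Over i, c'.π.app j = c.π.app j.left := fun j => rfl
  choose Wj ιj pj sqj haff using fun j : Over i => hDa j.left i j.hom hZ x
  -- uniqueness principle
  have huniq : ∀ (k : Over i) {T' : Over S} (a a' : T' ⟶ Wj k),
      (AlgSp.yon S).map a ≫ pj k = (AlgSp.yon S).map a' ≫ pj k → a ≫ ιj k = a' ≫ ιj k →
      a = a' := by
    intro k T' a a' h1 h2
    apply (AlgSp.yon S).map_injective
    apply (sqj k).hom_ext h1
    rw [← Functor.map_comp, ← Functor.map_comp, h2]
  -- existence
  have hex : ∀ (k : Over i) {T' : Over S} (b : (AlgSp.yon S).obj T' ⟶ D.obj k.left)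
      (z : T' ⟶ Z), b ≫ D.map k.hom = (AlgSp.yon S).map z ≫ x →
      ∃ a : T' ⟶ Wj k, (AlgSp.yon S).map a ≫ pj k = b ∧ a ≫ ιj k = z := by
    intro k T' b z h
    refine ⟨(AlgSp.yon S).preimage ((sqj k).lift b ((AlgSp.yon S).map z) h), ?_, ?_⟩
    · rw [Functor.map_preimage, IsPullback.lift_fst]
    · apply (AlgSp.yon S).map_injective
      rw [Functor.map_comp, Functor.map_preimage, IsPullback.lift_snd]
  -- transition maps
  have hwex : ∀ {j k : Over i} (ψ : j ⟶ k), ∃ a : Wj j ⟶ Wj k,
      (AlgSp.yon S).map a ≫ pj k = pj j ≫ D.map ψ.left ∧ a ≫ ιj k = ιj j := by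
    intro j k ψ
    apply hex k
    rw [Category.assoc, ← D.map_comp, Over.w ψ, (sqj j).w]
  choose w hw1 hw2 using @hwex
  let E : Over i ⥤ Over S :=
    { obj := Wj
      map := fun ψ => w ψ
      map_id := fun j => huniq j _ _
        (by rw [hw1, Over.id_left, D.map_id, Category.comp_id, CategoryTheory.Functor.map_id,
              Category.id_comp])
        (by rw [hw2, Category.id_comp])
      map_comp := fun {j k l} ψ χ => huniq l _ _
        (by rw [hw1, Functor.map_comp, Category.assoc, hw1, ← Category.assoc, hw1, Category.assoc,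
              Over.comp_left, D.map_comp])
        (by rw [hw2, Category.assoc, hw2, hw2]) }
  obtain ⟨cF, ⟨hF⟩, hFaff⟩ := exists_affine_limit (E ⋙ Over.forget S) (fun j => haff j)
  -- the terminal index
  let j0 : Over i := Over.mk (𝟙 i)
  let tj : ∀ j : Over i, j ⟶ j0 := fun j => Over.homMk j.hom
  let qF : ∀ j : Over i, cF.pt ⟶ (Wj j).left := fun j => cF.π.app j
  have hqF : ∀ {j k : Over i} (ψ : j ⟶ k), qF j ≫ (w ψ).left = qF k := fun ψ => cF.w ψ
  have hcFw : ∀ j : Over i, qF j ≫ (Wj j).hom = qF j0 ≫ (Wj j0).hom := by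
    intro j
    rw [← hqF (tj j), Category.assoc, Over.w (w (tj j))]
  let W : Over S := Over.mk (qF j0 ≫ (Wj j0).hom)
  let q : ∀ j : Over i, W ⟶ Wj j := fun j => Over.homMk (qF j) (hcFw j)
  have hqw : ∀ {j k : Over i} (ψ : j ⟶ k), q j ≫ w ψ = q k := by
    intro j k ψ
    ext1
    exact hqF ψ
  let ιW : W ⟶ Z := q j0 ≫ ιj j0
  have hqι : ∀ j : Over i, q j ≫ ιj j = ιW := fun j => by
    change q j ≫ ιj j = q j0 ≫ ιj j0
    rw [← hqw (tj j), Category.assoc, hw2]
  -- the map to the limit
  have hnatW : ∀ {j k : Over i} (ψ : j ⟶ k), (AlgSp.yon S).map (q k) ≫ pj k =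
      ((AlgSp.yon S).map (q j) ≫ pj j) ≫ D.map ψ.left := by
    intro j k ψ
    rw [Category.assoc, ← hw1 ψ, ← Category.assoc, ← Functor.map_comp, hqw]
  let coneW : Cone (Over.forget i ⋙ D) :=
    { pt := (AlgSp.yon S).obj W
      π := { app := fun j => (AlgSp.yon S).map (q j) ≫ pj j
             naturality := fun j k ψ => (Category.id_comp _).trans (hnatW ψ) } }
  let fstW : (AlgSp.yon S).obj W ⟶ c.pt := hc'.lift coneW
  have hfstW : ∀ j : Over i, fstW ≫ c.π.app j.left = (AlgSp.yon S).map (q j) ≫ pj j :=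
    fun j => hc'.fac coneW j
  have hw0 : fstW ≫ c.π.app i = (AlgSp.yon S).map ιW ≫ x := by
    have h1 := hfstW j0
    have h2 := (sqj j0).w
    have h3 : D.map j0.hom = 𝟙 _ := D.map_id i
    rw [h3, Category.comp_id] at h2
    change fstW ≫ c.π.app i = _ at h1
    rw [h1, h2, ← Category.assoc, ← Functor.map_comp]
  refine ⟨W, ιW, fstW, ?_, hFaff⟩
  refine isPullback_of_yon hw0 (fun T' b z hbz => ?_)
  obtain ⟨z0, rfl⟩ := (AlgSp.yon S).map_surjective z
  change (AlgSp.yon S).obj T' ⟶ c.pt at b
  have hbj : ∀ j : Over i, (b ≫ c.π.app j.left) ≫ D.map j.hom = (AlgSp.yon S).map z0 ≫ x := by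
    intro j
    rw [Category.assoc, c.w, hbz]
  choose a ha1 ha2 using fun j : Over i => hex j (b ≫ c.π.app j.left) z0 (hbj j)
  have hcompat : ∀ {j k : Over i} (ψ : j ⟶ k), a j ≫ w ψ = a k := by
    intro j k ψ
    apply huniq k
    · rw [Functor.map_comp, Category.assoc, hw1, ← Category.assoc, ha1, ha1, Category.assoc, c.w]
    · rw [Category.assoc, hw2, ha2, ha2]
  let coneT : Cone (E ⋙ Over.forget S) :=
    { pt := T'.left
      π := { app := fun j => (a j).left
             naturality := fun j k ψ => by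
               simp only [Functor.const_obj_obj, Functor.const_obj_map, Category.id_comp,
                 Functor.comp_map, Over.forget_map]
               rw [← hcompat ψ]
               rfl } }
  let aW : T' ⟶ W := Over.homMk (hF.lift coneT) (by
    change hF.lift coneT ≫ qF j0 ≫ (Wj j0).hom = T'.hom
    have h1 : hF.lift coneT ≫ qF j0 = (a j0).left := hF.fac coneT j0
    rw [← Category.assoc, h1]
    exact Over.w (a j0))
  have haWq : ∀ j : Over i, aW ≫ q j = a j := fun j => by
    ext1
    exact hF.fac coneT j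
  refine ⟨(AlgSp.yon S).map aW, ⟨?_, ?_⟩, ?_⟩
  · apply hc'.hom_ext
    intro j
    have key : (AlgSp.yon S).map aW ≫ fstW ≫ c.π.app j.left = b ≫ c.π.app j.left := by
      rw [hfstW, ← Category.assoc, ← Functor.map_comp, haWq, ha1]
    exact (Category.assoc _ _ _).trans key
  · rw [← Functor.map_comp]
    congr 1
    change aW ≫ q j0 ≫ ιj j0 = z0
    rw [← Category.assoc, haWq, ha2]
  · rintro a' ⟨ha'1, ha'2⟩
    obtain ⟨a1, rfl⟩ := (AlgSp.yon S).map_surjective a'
    rw [← Functor.map_comp] at ha'2
    have ha'3 : a1 ≫ ιW = z0 := (AlgSp.yon S).map_injective ha'2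
    have hq' : ∀ j : Over i, a1 ≫ q j = a j := by
      intro j
      apply huniq j
      · rw [Functor.map_comp, Category.assoc, ← hfstW, ← Category.assoc, ha'1, ha1]
      · rw [Category.assoc, hqι, ha'3, ha2]
    congr 1
    ext1
    apply hF.hom_ext
    intro j
    have h1 := congrArg (fun m => m.left) (hq' j)
    have h2 := congrArg (fun m => m.left) (haWq j)
    simp only [Over.comp_left] at h1 h2
    exact h1.trans h2.symm

include hDa hc in
/-- the projections are representable affine. -/
theorem repWith_π (i : I) : AlgSp.RepWith @IsAffineHom (c.π.app i) := by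
  refine Groth.Agent.Lib.Helper12.ZarGlue.repWith_of_affine @IsAffineHom _ (fun Z hZ g => ?_)
  obtain ⟨W, ι, fst, sq, hW⟩ := isAffineMor_π D hDa c hc i hZ g
  haveI := hZ
  haveI := hW
  exact ⟨W, ι, fst, sq, inferInstance⟩

include hDa hc in
/-- a cofiltered limit of algebraic spaces with affine transition maps is an algebraic space. -/
theorem isAlgSpace_pt (hD : ∀ i, AlgSp.IsAlgSpace (D.obj i)) : AlgSp.IsAlgSpace c.pt := by
  obtain ⟨i⟩ := IsCofiltered.nonempty (C := I)
  have h1 := (repWith_π D hDa c hc i).rep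
  have h2 := pyon_relativelyRepresentable _ h1
  exact (AlgSp.isAlgSpaceP_obj_iff c.pt).1
    (Groth.Agent.S9876.result S ⟨D.obj i, hD i⟩ c.pt.obj (c.π.app i).hom h2)

end

end Groth.Agent.Lib.T2H1.LimAffine
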