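import Mathlib
import Groth.Agent.Lib.T2H1LimAffine
import Groth.Agent.Lib.Helper1ImmImage

/-!
# Cofiltered limits with affine transition maps: the limit presentation of affine base changes (helper1)
-/

set_option autoImplicit false
universe u
open CategoryTheory CategoryTheory.Limits AlgebraicGeometry
open AlgSp

namespace Groth.Agent.Lib.T2H1.LimAffine

open Groth.Agent.S13210

variable {S : Scheme.{u}}

section

variable {I : Type u} [SmallCategory I] [IsCofiltered I] (D : I ⥤ AlgSp.Sp S)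
  (hDa : ∀ (i j : I) (φ : i ⟶ j), AlgSp.IsAffineMor (D.map φ))
  (c : Cone D) (hc : IsLimit c)

include hDa hc in
/-- the base change of the limit along a point `x : h_Z ⟶ D i` with `Z` affine is the limit (in
schemes) of the affine schemes `Z ×_{D i} D j`, `j ⟶ i`. -/
theorem exists_limit_data (i : I) {Z : Over S} (hZ : IsAffine Z.left)
    (x : (AlgSp.yon S).obj Z ⟶ D.obj i) :
    ∃ (E : Over i ⥤ Over S) (ιj : ∀ j, E.obj j ⟶ Z)
      (pj : ∀ j : Over i, (AlgSp.yon S).obj (E.obj j) ⟶ D.obj j.left)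
      (cW : Cone E) (fstW : (AlgSp.yon S).obj cW.pt ⟶ c.pt),
      (∀ j, IsPullback (pj j) ((AlgSp.yon S).map (ιj j)) (D.map j.hom) x) ∧
      (∀ j, IsAffine (E.obj j).left) ∧
      Nonempty (IsLimit ((Over.forget S).mapCone cW)) ∧ IsAffine cW.pt.left ∧
      IsPullback fstW ((AlgSp.yon S).map (cW.π.app (Over.mk (𝟙 i)) ≫ ιj (Over.mk (𝟙 i))))
        (c.π.app i) x ∧
      (∀ j : Over i, fstW ≫ c.π.app j.left = (AlgSp.yon S).map (cW.π.app j) ≫ pj j) ∧
      (∀ {j k : Over i} (ψ : j ⟶ k), E.map ψ ≫ ιj k = ιj j) ∧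
      (∀ {j k : Over i} (ψ : j ⟶ k),
        (AlgSp.yon S).map (E.map ψ) ≫ pj k = pj j ≫ D.map ψ.left) := by
  -- the limit over `Over i`
  let c' : Cone (Over.forget i ⋙ D) := c.whisker (Over.forget i)
  have hc' : IsLimit c' := (Functor.Initial.isLimitWhiskerEquiv (Over.forget i) c).symm hc
  have hc'π : ∀ j : Over i, c'.π.app j = c.π.app j.left := fun j => rfl
  choose Wj ιj pj sqj haff using fun j : Over i => hDa j.left i j.hom hZ x
  -- uniqueness principle
  have huniq : ∀ (k : Over i) {T' : Over S} (a a' : T' ⟶ Wj k),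
      (AlgSp.yon S).map a ≫ pj k = (AlgSp.yon S).map a' ≫ pj k → a ≫ ιj k = a' ≫ ιj k →
      a = a' := by
    intro k T' a a' h1 h2
    apply (AlgSp.yon S).map_injective
    apply (sqj k).hom_ext h1
    rw [← Functor.map_comp, ← Functor.map_comp, h2]
  -- existence
  have hex : ∀ (k : Over i) {T' : Over S} (b : (AlgSp.yon S).obj T' ⟶ D.obj k.left)
      (z : T' ⟶ Z), b ≫ D.map k.hom = (AlgSp.yon S).map z ≫ x →
      ∃ a : T' ⟶ Wj k, (AlgSp.yon S).map a ≫ pj k = b ∧ a ≫ ιj k = z := by
    intro k T' b z h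
    refine ⟨(AlgSp.yon S).preimage ((sqj k).lift b ((AlgSp.yon S).map z) h), ?_, ?_⟩
    · rw [Functor.map_preimage, IsPullback.lift_fst]
    · apply (AlgSp.yon S).map_injective
      rw [Functor.map_comp, Functor.map_preimage, IsPullback.lift_snd]
  -- transition maps
  have hwex : ∀ {j k : Over i} (ψ : j ⟶ k), ∃ a : Wj j ⟶ Wj k,
      (AlgSp.yon S).map a ≫ pj k = pj j ≫ D.map ψ.left ∧ a ≫ ιj k = ιj j := by
    intro j k ψ
    apply hex k
    rw [Category.assoc, ← D.map_comp, Over.w ψ, (sqj j).w]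
  choose w hw1 hw2 using @hwex
  let E : Over i ⥤ Over S :=
    { obj := Wj
      map := fun ψ => w ψ
      map_id := fun j => huniq j _ _
        (by rw [hw1, Over.id_left, D.map_id, Category.comp_id, CategoryTheory.Functor.map_id,
              Category.id_comp])
        (by rw [hw2, Category.id_comp])
      map_comp := fun {j k l} ψ χ => huniq l _ _
        (by rw [hw1, Functor.map_comp, Category.assoc, hw1, ← Category.assoc, hw1, Category.assoc,
              Over.comp_left, D.map_comp])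
        (by rw [hw2, Category.assoc, hw2, hw2]) }
  obtain ⟨cF, ⟨hF⟩, hFaff⟩ := exists_affine_limit (E ⋙ Over.forget S) (fun j => haff j)
  -- the terminal index
  let j0 : Over i := Over.mk (𝟙 i)
  let tj : ∀ j : Over i, j ⟶ j0 := fun j => Over.homMk j.hom
  let qF : ∀ j : Over i, cF.pt ⟶ (Wj j).left := fun j => cF.π.app j
  have hqF : ∀ {j k : Over i} (ψ : j ⟶ k), qF j ≫ (w ψ).left = qF k := fun ψ => cF.w ψ
  have hcFw : ∀ j : Over i, qF j ≫ (Wj j).hom = qF j0 ≫ (Wj j0).hom := by
    intro j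
    rw [← hqF (tj j), Category.assoc, Over.w (w (tj j))]
  let W : Over S := Over.mk (qF j0 ≫ (Wj j0).hom)
  let q : ∀ j : Over i, W ⟶ Wj j := fun j => Over.homMk (qF j) (hcFw j)
  have hqw : ∀ {j k : Over i} (ψ : j ⟶ k), q j ≫ w ψ = q k := by
    intro j k ψ
    ext1
    exact hqF ψ
  let ιW : W ⟶ Z := q j0 ≫ ιj j0
  have hqι : ∀ j : Over i, q j ≫ ιj j = ιW := fun j => by
    change q j ≫ ιj j = q j0 ≫ ιj j0
    rw [← hqw (tj j), Category.assoc, hw2]
  -- the map to the limit
  have hnatW : ∀ {j k : Over i} (ψ : j ⟶ k), (AlgSp.yon S).map (q k) ≫ pj k =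
      ((AlgSp.yon S).map (q j) ≫ pj j) ≫ D.map ψ.left := by
    intro j k ψ
    rw [Category.assoc, ← hw1 ψ, ← Category.assoc, ← Functor.map_comp, hqw]
  let coneW : Cone (Over.forget i ⋙ D) :=
    { pt := (AlgSp.yon S).obj W
      π := { app := fun j => (AlgSp.yon S).map (q j) ≫ pj j
             naturality := fun j k ψ => (Category.id_comp _).trans (hnatW ψ) } }
  let fstW : (AlgSp.yon S).obj W ⟶ c.pt := hc'.lift coneW
  have hfstW : ∀ j : Over i, fstW ≫ c.π.app j.left = (AlgSp.yon S).map (q j) ≫ pj j :=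
    fun j => hc'.fac coneW j
  have hw0 : fstW ≫ c.π.app i = (AlgSp.yon S).map ιW ≫ x := by
    have h1 := hfstW j0
    have h2 := (sqj j0).w
    have h3 : D.map j0.hom = 𝟙 _ := D.map_id i
    rw [h3, Category.comp_id] at h2
    change fstW ≫ c.π.app i = _ at h1
    rw [h1, h2, ← Category.assoc, ← Functor.map_comp]
  let cW : Cone E :=
    { pt := W
      π := { app := q
             naturality := fun j k ψ => (Category.id_comp _).trans (hqw ψ).symm } }
  have hcW : IsLimit ((Over.forget S).mapCone cW) :=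
    IsLimit.ofIsoLimit hF (Cones.ext (Iso.refl _) (fun j => by
      simp only [Iso.refl_hom, Category.id_comp]
      rfl))
  refine ⟨E, ιj, pj, cW, fstW, sqj, haff, ⟨hcW⟩, hFaff, ?_, hfstW, fun ψ => hw2 ψ,
    fun ψ => hw1 ψ⟩
  refine isPullback_of_yon hw0 (fun T' b z hbz => ?_)
  obtain ⟨z0, rfl⟩ := (AlgSp.yon S).map_surjective z
  change (AlgSp.yon S).obj T' ⟶ c.pt at b
  have hbj : ∀ j : Over i, (b ≫ c.π.app j.left) ≫ D.map j.hom = (AlgSp.yon S).map z0 ≫ x := by
    intro j
    rw [Category.assoc, c.w, hbz]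
  choose a ha1 ha2 using fun j : Over i => hex j (b ≫ c.π.app j.left) z0 (hbj j)
  have hcompat : ∀ {j k : Over i} (ψ : j ⟶ k), a j ≫ w ψ = a k := by
    intro j k ψ
    apply huniq k
    · rw [Functor.map_comp, Category.assoc, hw1, ← Category.assoc, ha1, ha1, Category.assoc, c.w]
    · rw [Category.assoc, hw2, ha2, ha2]
  let coneT : Cone (E ⋙ Over.forget S) :=
    { pt := T'.left
      π := { app := fun j => (a j).left
             naturality := fun j k ψ => by
               simp only [Functor.const_obj_obj, Functor.const_obj_map, Category.id_comp,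
                 Functor.comp_map, Over.forget_map]
               rw [← hcompat ψ]
               rfl } }
  let aW : T' ⟶ W := Over.homMk (hF.lift coneT) (by
    change hF.lift coneT ≫ qF j0 ≫ (Wj j0).hom = T'.hom
    have h1 : hF.lift coneT ≫ qF j0 = (a j0).left := hF.fac coneT j0
    rw [← Category.assoc, h1]
    exact Over.w (a j0))
  have haWq : ∀ j : Over i, aW ≫ q j = a j := fun j => by
    ext1
    exact hF.fac coneT j
  refine ⟨(AlgSp.yon S).map aW, ⟨?_, ?_⟩, ?_⟩
  · apply hc'.hom_ext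
    intro j
    have key : (AlgSp.yon S).map aW ≫ fstW ≫ c.π.app j.left = b ≫ c.π.app j.left := by
      rw [hfstW, ← Category.assoc, ← Functor.map_comp, haWq, ha1]
    exact (Category.assoc _ _ _).trans key
  · rw [← Functor.map_comp]
    congr 1
    change aW ≫ q j0 ≫ ιj j0 = z0
    rw [← Category.assoc, haWq, ha2]
  · rintro a' ⟨ha'1, ha'2⟩
    obtain ⟨a1, rfl⟩ := (AlgSp.yon S).map_surjective a'
    rw [← Functor.map_comp] at ha'2
    have ha'3 : a1 ≫ ιW = z0 := (AlgSp.yon S).map_injective ha'2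
    have hq' : ∀ j : Over i, a1 ≫ q j = a j := by
      intro j
      apply huniq j
      · rw [Functor.map_comp, Category.assoc, ← hfstW, ← Category.assoc, ha'1, ha1]
      · rw [Category.assoc, hqι, ha'3, ha2]
    congr 1
    ext1
    apply hF.hom_ext
    intro j
    have h1 := congrArg (fun m => m.left) (hq' j)
    have h2 := congrArg (fun m => m.left) (haWq j)
    simp only [Over.comp_left] at h1 h2
    exact h1.trans h2.symm

/-- a cofiltered limit (in schemes) of reduced affine schemes with affine apex is reduced. -/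
lemma isReduced_of_isLimit {J : Type u} [SmallCategory J] [IsCofiltered J] (F : J ⥤ Scheme.{u})
    (cF : Cone F) (hF : IsLimit cF) [∀ j, IsAffine (F.obj j)] [IsAffine cF.pt]
    [∀ j, IsReduced (F.obj j)] : IsReduced cF.pt := by
  haveI : _root_.IsReduced Γ(cF.pt, ⊤) := by
    constructor
    intro s hs
    obtain ⟨n, hn⟩ := hs
    obtain ⟨j, t, rfl⟩ := exists_appTop_π_eq_of_isAffine_of_isLimit F cF hF s
    have h0 : (cF.π.app j).appTop (t ^ n) = 0 := by rw [map_pow, hn]
    obtain ⟨k, f, hk⟩ := exists_appTop_map_eq_zero_of_isAffine_of_isLimit F cF hF j (t ^ n) h0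
    rw [map_pow] at hk
    have h1 : (F.map f).appTop t = 0 := IsReduced.eq_zero _ ⟨n, hk⟩
    have h2 : cF.π.app j = cF.π.app k ≫ F.map f := (cF.w f).symm
    rw [h2, Scheme.Hom.comp_appTop]
    simp [h1]
  exact isReduced_of_isAffine_isReduced cF.pt

include hDa hc in
/-- a cofiltered limit of reduced algebraic spaces with affine transition maps is reduced. -/
theorem isReducedSp_pt (hred : ∀ i, AlgSp.IsReducedSp (D.obj i)) : AlgSp.IsReducedSp c.pt := by
  obtain ⟨i0⟩ := IsCofiltered.nonempty (C := I)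
  obtain ⟨U0, p0, hp0e, hp0s, hU0⟩ := hred i0
  haveI : IsReduced U0.left := hU0
  have hπ := repWith_π D hDa c hc i0
  let U : Over S := hπ.rep.pullback p0
  let u : U ⟶ U0 := hπ.rep.snd p0
  let fstU : (AlgSp.yon S).obj U ⟶ c.pt := hπ.rep.fst p0
  have sq : IsPullback fstU ((AlgSp.yon S).map u) (c.π.app i0) p0 := hπ.rep.isPullback p0
  refine ⟨U, fstU, MorphismProperty.of_isPullback (P := AlgSp.RepWith @Etale) sq.flip hp0e,
    MorphismProperty.of_isPullback (P := AlgSp.RepWith @Surjective) sq.flip hp0s, ?_⟩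
  let 𝒱 := U0.left.affineCover
  let Va : 𝒱.I₀ → Over S := fun a => Over.mk (𝒱.f a ≫ U0.hom)
  let ja : ∀ a, Va a ⟶ U0 := fun a => Over.homMk (𝒱.f a)
  have key : ∀ a, IsReduced (pullback u (ja a)).left := by
    intro a
    have hVaff : IsAffine (Va a).left := (inferInstance : IsAffine (𝒱.X a))
    let xa : (AlgSp.yon S).obj (Va a) ⟶ D.obj i0 := (AlgSp.yon S).map (ja a) ≫ p0
    have hjae : AlgSp.RepWith @Etale ((AlgSp.yon S).map (ja a)) := by
      rw [AlgSp.repWith_yon_map_iff]
      change Etale (𝒱.f a)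
      infer_instance
    have hxae : AlgSp.RepWith @Etale xa := (AlgSp.RepWith @Etale).comp_mem _ _ hjae hp0e
    obtain ⟨E, ιj, pj, cW, fstW, sqj, haffj, ⟨hcW⟩, hWaff, sqW, hfst, hE1, hE2⟩ :=
      exists_limit_data D hDa c hc i0 hVaff xa
    haveI : ∀ j, IsAffine ((E ⋙ Over.forget S).obj j) := fun j => haffj j
    haveI : IsAffine ((Over.forget S).mapCone cW).pt := hWaff
    haveI : ∀ j, IsReduced ((E ⋙ Over.forget S).obj j) := fun j =>
      Groth.Agent.Lib.Helper1.ImmImage.isReduced_of_etale_chart (hred j.left) (pj j)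
        (MorphismProperty.of_isPullback (P := AlgSp.RepWith @Etale) (sqj j).flip hxae)
    haveI hWred : IsReduced cW.pt.left :=
      isReduced_of_isLimit (E ⋙ Over.forget S) _ hcW
    have sqP : IsPullback ((AlgSp.yon S).map (pullback.fst u (ja a)) ≫ fstU)
        ((AlgSp.yon S).map (pullback.snd u (ja a))) (c.π.app i0) xa :=
      ((IsPullback.of_hasPullback u (ja a)).map (AlgSp.yon S)).paste_horiz sq
    let e : (AlgSp.yon S).obj (pullback u (ja a)) ≅ (AlgSp.yon S).obj cW.pt :=
      IsPullback.isoIsPullback _ _ sqP sqW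
    let e0 : pullback u (ja a) ≅ cW.pt := (AlgSp.yon S).preimageIso e
    let e1 : (pullback u (ja a)).left ≅ cW.pt.left := (Over.forget S).mapIso e0
    exact isReduced_of_isOpenImmersion e1.hom
  haveI : ∀ a, IsReduced ((𝒱.pullback₁ u.left).X a) := by
    intro a
    have sqS : IsPullback (pullback.fst u (ja a)).left (pullback.snd u (ja a)).left u.left
        (𝒱.f a) := (IsPullback.of_hasPullback u (ja a)).map (Over.forget S)
    haveI := key a
    exact isReduced_of_isOpenImmersion sqS.isoPullback.inv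
  exact IsReduced.of_openCover (X := U.left) (𝒱.pullback₁ u.left)

end

end Groth.Agent.Lib.T2H1.LimAffine
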