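import Mathlib
import Groth.Prelude.Def_AlgSpDec
import Groth.Agent.Lib.T2H1LimAffine2

/-!
# Cofiltered limits with affine transition maps: nonemptiness of the limit (helper1)
-/

set_option autoImplicit false
universe u
open CategoryTheory CategoryTheory.Limits AlgebraicGeometry
open AlgSp

namespace Groth.Agent.Lib.T2H1.LimAffine

variable {S : Scheme.{u}}

/-- a scheme with a representable surjective map onto a sheaf having a point is nonempty. -/
lemma nonempty_of_repWith_surjective {F : AlgSp.Sp S} {W : Over S} (p : (AlgSp.yon S).obj W ⟶ F)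
    (hp : AlgSp.RepWith @Surjective p) (hF : Nonempty (AlgSp.Points F)) : Nonempty W.left := by
  obtain ⟨x⟩ := hF
  obtain ⟨q, -⟩ := AlgSp.Points.mk_surjective x
  obtain ⟨P, snd, fst', sq⟩ := hp.1 q.toHom
  obtain ⟨fst, rfl⟩ := (AlgSp.yon S).map_surjective fst'
  haveI : Surjective snd.left := hp.2 _ _ snd sq
  obtain ⟨y, -⟩ := snd.left.surjective (IsLocalRing.closedPoint q.K)
  exact ⟨fst.left y⟩

/-- a quasi-compact scheme admits a surjective étale map from an affine scheme. -/
lemma exists_affine_etale_surjective (U : Scheme.{u}) [CompactSpace U] :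
    ∃ (V : Scheme.{u}) (v : V ⟶ U), IsAffine V ∧ Etale v ∧ Surjective v := by
  let 𝒱 := U.affineCover.finiteSubcover
  haveI : ∀ a, IsAffine (𝒱.X a) := fun a => inferInstanceAs (IsAffine (Spec _))
  refine ⟨∐ 𝒱.X, Sigma.desc 𝒱.f, inferInstance, ?_, ?_⟩
  · exact IsZariskiLocalAtSource.sigmaDesc (fun a => inferInstance)
  · refine ⟨fun x => ?_⟩
    obtain ⟨a, y, hy⟩ := 𝒱.exists_eq x
    refine ⟨(Sigma.ι 𝒱.X a) y, ?_⟩
    rw [← Scheme.Hom.comp_apply, Sigma.ι_desc]
    exact hy

section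

variable {I : Type u} [SmallCategory I] [IsCofiltered I] (D : I ⥤ AlgSp.Sp S)
  (hDa : ∀ (i j : I) (φ : i ⟶ j), AlgSp.IsAffineMor (D.map φ))
  (c : Cone D) (hc : IsLimit c)

include hDa hc in
/-- a cofiltered limit of nonempty quasi-compact spaces with affine transition maps is nonempty. -/
theorem nonempty_points_pt (hqc : ∀ i, AlgSp.IsQuasiCompactSp (D.obj i))
    (hne : ∀ i, Nonempty (AlgSp.Points (D.obj i))) : Nonempty (AlgSp.Points c.pt) := by
  obtain ⟨i0⟩ := IsCofiltered.nonempty (C := I)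
  obtain ⟨U0, p0, hp0e, hp0s, hU0⟩ := hqc i0
  haveI : CompactSpace U0.left := hU0
  obtain ⟨V0, v0, hV0, hv0e, hv0s⟩ := exists_affine_etale_surjective U0.left
  let V : Over S := Over.mk (v0 ≫ U0.hom)
  let v : V ⟶ U0 := Over.homMk v0
  have hVaff : IsAffine V.left := hV0
  let x : (AlgSp.yon S).obj V ⟶ D.obj i0 := (AlgSp.yon S).map v ≫ p0
  have hvs : AlgSp.RepWith @Surjective ((AlgSp.yon S).map v) := by
    rw [AlgSp.repWith_yon_map_iff]
    exact hv0s
  have hxs : AlgSp.RepWith @Surjective x := (AlgSp.RepWith @Surjective).comp_mem _ _ hvs hp0s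
  obtain ⟨E, ιj, pj, cW, fstW, sqj, haffj, ⟨hcW⟩, hWaff, sqW, hfst, hE1, hE2⟩ :=
    exists_limit_data D hDa c hc i0 hVaff x
  haveI : ∀ j, IsAffine ((E ⋙ Over.forget S).obj j) := fun j => haffj j
  haveI : ∀ j, Nonempty ((E ⋙ Over.forget S).obj j) := fun j =>
    nonempty_of_repWith_surjective (pj j)
      (MorphismProperty.of_isPullback (P := AlgSp.RepWith @Surjective) (sqj j).flip hxs)
      (hne j.left)
  haveI : ∀ j, CompactSpace ((E ⋙ Over.forget S).obj j) := fun j => inferInstance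
  obtain ⟨w⟩ := Scheme.nonempty_of_isLimit (E ⋙ Over.forget S) ((Over.forget S).mapCone cW) hcW
  exact ⟨AlgSp.Points.ofPt fstW w⟩

end

end Groth.Agent.Lib.T2H1.LimAffine
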