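import Mathlib
import Groth.Agent.S13210
import Groth.Agent.S9928

/-!
# Limits of closed immersions of fppf sheaves are closed immersions (helper1)
-/

set_option autoImplicit false
universe u
open CategoryTheory CategoryTheory.Limits AlgebraicGeometry
open AlgSp

namespace Groth.Agent.Lib.T2H1.LimClosed

open Groth.Agent.S13210

variable {S : Scheme.{u}}

/-- the limit of a family of maps of fppf sheaves which are representable closed immersions is a
representable closed immersion: the base change to a scheme is the scheme-theoretic intersection. -/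
theorem repWith_isClosedImmersion_limMap {I : Type u} [SmallCategory I]
    (DX DY : I ⥤ AlgSp.Sp S) (τ : DX ⟶ DY)
    (hτ : ∀ i, AlgSp.RepWith @IsClosedImmersion (τ.app i))
    (cX : Cone DX) (hcX : IsLimit cX) (cY : Cone DY) (hcY : IsLimit cY)
    (g : cX.pt ⟶ cY.pt) (hg : ∀ i, g ≫ cY.π.app i = cX.π.app i ≫ τ.app i) :
    AlgSp.RepWith @IsClosedImmersion g := by
  haveI hmono : ∀ i, Mono (τ.app i) := fun i =>
    Groth.Agent.S9928.mono_of_repWith @IsClosedImmersion
      (fun _ _ f hf => by haveI : IsClosedImmersion f := hf; infer_instance) _ (hτ i)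
  refine MorphismProperty.relative.of_exists (fun T y => ?_)
  let yi : ∀ i, (AlgSp.yon S).obj T ⟶ DY.obj i := fun i => y ≫ cY.π.app i
  have hyi : ∀ (i j : I) (φ : i ⟶ j), yi i ≫ DY.map φ = yi j := fun i j φ => by
    simp only [yi, Category.assoc, Cone.w]
  let Zi : I → Over S := fun i => (hτ i).rep.pullback (yi i)
  let ιi : ∀ i, Zi i ⟶ T := fun i => (hτ i).rep.snd (yi i)
  let pi : ∀ i, (AlgSp.yon S).obj (Zi i) ⟶ DX.obj i := fun i => (hτ i).rep.fst (yi i)
  have sqi : ∀ i, IsPullback (pi i) ((AlgSp.yon S).map (ιi i)) (τ.app i) (yi i) :=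
    fun i => (hτ i).rep.isPullback (yi i)
  haveI hci : ∀ i, IsClosedImmersion (ιi i).left := fun i => (hτ i).property_snd (yi i)
  haveI hmi : ∀ i, Mono (ιi i) := fun i => (Over.forget S).mono_of_mono_map
    (by change Mono (ιi i).left; infer_instance)
  let J : T.left.IdealSheafData := ⨆ i, (ιi i).left.ker
  let Z : Over S := Over.mk (J.subschemeι ≫ T.hom)
  let ι : Z ⟶ T := Over.homMk J.subschemeι
  haveI hmι : Mono ι := (Over.forget S).mono_of_mono_map
    (by change Mono J.subschemeι; infer_instance)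
  have hJ : ∀ i, (ιi i).left.ker ≤ J.subschemeι.ker := fun i => by
    rw [J.ker_subschemeι]; exact le_iSup (fun i => (ιi i).left.ker) i
  let qi : ∀ i, Z ⟶ Zi i := fun i =>
    Over.homMk (IsClosedImmersion.lift (ιi i).left J.subschemeι (hJ i)) (by
      rw [← Over.w (ιi i), ← Category.assoc, IsClosedImmersion.lift_fac]
      rfl)
  have hqi : ∀ i, qi i ≫ ιi i = ι := fun i => by
    ext1
    exact IsClosedImmersion.lift_fac _ _ _
  -- the cone on `DX` with vertex `Z`
  have hnat : ∀ (i j : I) (φ : i ⟶ j),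
      ((AlgSp.yon S).map (qi i) ≫ pi i) ≫ DX.map φ = (AlgSp.yon S).map (qi j) ≫ pi j := by
    intro i j φ
    rw [← cancel_mono (τ.app j)]
    calc (((AlgSp.yon S).map (qi i) ≫ pi i) ≫ DX.map φ) ≫ τ.app j
        = (AlgSp.yon S).map (qi i) ≫ (pi i ≫ τ.app i) ≫ DY.map φ := by
          simp only [Category.assoc, τ.naturality]
      _ = (AlgSp.yon S).map (qi i ≫ ιi i) ≫ yi i ≫ DY.map φ := by
          rw [(sqi i).w, Functor.map_comp]
          simp only [Category.assoc]
      _ = (AlgSp.yon S).map (qi j ≫ ιi j) ≫ yi j := by rw [hqi, hqi, hyi]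
      _ = ((AlgSp.yon S).map (qi j) ≫ pi j) ≫ τ.app j := by
          rw [Functor.map_comp, Category.assoc, Category.assoc, (sqi j).w]
  let cone : Cone DX :=
    { pt := (AlgSp.yon S).obj Z
      π := { app := fun i => (AlgSp.yon S).map (qi i) ≫ pi i
             naturality := fun i j φ => by
               simp only [Functor.const_obj_obj, Functor.const_obj_map, Category.id_comp]
               exact (hnat i j φ).symm } }
  let zmap : (AlgSp.yon S).obj Z ⟶ cX.pt := hcX.lift cone
  have hz : ∀ i, zmap ≫ cX.π.app i = (AlgSp.yon S).map (qi i) ≫ pi i := fun i => hcX.fac cone i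
  have hw : zmap ≫ g = (AlgSp.yon S).map ι ≫ y := by
    apply hcY.hom_ext
    intro i
    calc (zmap ≫ g) ≫ cY.π.app i = (zmap ≫ cX.π.app i) ≫ τ.app i := by
          rw [Category.assoc, hg, Category.assoc]
      _ = (AlgSp.yon S).map (qi i ≫ ιi i) ≫ yi i := by
          rw [hz, Category.assoc, (sqi i).w, Functor.map_comp, Category.assoc]
      _ = ((AlgSp.yon S).map ι ≫ y) ≫ cY.π.app i := by rw [hqi, Category.assoc]
  refine ⟨Z, zmap, ι, ?_, (inferInstance : IsClosedImmersion J.subschemeι)⟩
  refine isPullback_of_yon hw (fun T' b c hbc => ?_)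
  obtain ⟨c0, rfl⟩ := (AlgSp.yon S).map_surjective c
  -- `c0` factors through each `Z_i`
  have hbi : ∀ i, (b ≫ cX.π.app i) ≫ τ.app i = (AlgSp.yon S).map c0 ≫ yi i := fun i => by
    rw [Category.assoc, ← hg, ← Category.assoc, hbc, Category.assoc]
  choose l hl1 hl2 using fun i =>
    (⟨(AlgSp.yon S).preimage ((sqi i).lift _ _ (hbi i)),
      by rw [Functor.map_preimage, (sqi i).lift_fst],
      by apply (AlgSp.yon S).map_injective
         rw [Functor.map_comp, Functor.map_preimage, (sqi i).lift_snd]⟩ :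
      ∃ l : T' ⟶ Zi i, (AlgSp.yon S).map l ≫ pi i = b ≫ cX.π.app i ∧ l ≫ ιi i = c0)
  have hker : J ≤ c0.left.ker := by
    refine iSup_le (fun i => ?_)
    have : c0.left = (l i).left ≫ (ιi i).left := by
      rw [← Over.comp_left, hl2]
    rw [this]
    exact Scheme.Hom.le_ker_comp _ _
  have hker' : J.subschemeι.ker ≤ c0.left.ker := by rw [J.ker_subschemeι]; exact hker
  let a0 : T' ⟶ Z := Over.homMk (IsClosedImmersion.lift J.subschemeι c0.left hker') (by
    change _ ≫ J.subschemeι ≫ T.hom = _
    rw [← Category.assoc, IsClosedImmersion.lift_fac]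
    exact Over.w c0)
  have ha0 : a0 ≫ ι = c0 := by
    ext1
    exact IsClosedImmersion.lift_fac _ _ _
  have ha0q : ∀ i, a0 ≫ qi i = l i := fun i => by
    rw [← cancel_mono (ιi i), Category.assoc, hqi, ha0, hl2]
  refine ⟨(AlgSp.yon S).map a0, ⟨?_, ?_⟩, ?_⟩
  · apply hcX.hom_ext
    intro i
    rw [Category.assoc, hz, ← Category.assoc, ← Functor.map_comp, ha0q, hl1]
  · rw [← Functor.map_comp, ha0]
  · rintro a' ⟨-, ha'⟩
    obtain ⟨a1, rfl⟩ := (AlgSp.yon S).map_surjective a'
    rw [← Functor.map_comp] at ha'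
    have := (AlgSp.yon S).map_injective ha'
    congr 1
    rw [← cancel_mono ι, this, ha0]

end Groth.Agent.Lib.T2H1.LimClosed
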