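import Mathlib

/-!
# Local finiteness of irreducible components from Noetherian open charts (helper1, team 2)
-/

set_option autoImplicit false
open TopologicalSpace Set

namespace Groth.Agent.Lib.T2H1.LocFinIrr

/-- Let `T` be a subset of a space `Y` and `g : V → Y` a continuous map from a Noetherian space.
Then only finitely many irreducible components of `T` meet the range of `g`. -/
theorem finite_components_meeting_range {Y V : Type*} [TopologicalSpace Y] [TopologicalSpace V]
    [NoetherianSpace V] (T : Set Y) (g : V → Y) (hg : Continuous g) (hgo : IsOpenMap g) :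
    {Z : ↥(irreducibleComponents ↥T) |
      ((((↑) : ↥T → Y) '' (Z : Set ↥T)) ∩ Set.range g).Nonempty}.Finite := by
  classical
  -- the preimage of `T`, a Noetherian space
  let T' : Set V := g ⁻¹' T
  let g' : ↥T' → ↥T := fun t => ⟨g t.1, t.2⟩
  have hg' : Continuous g' := (hg.comp continuous_subtype_val).subtype_mk _
  haveI : NoetherianSpace ↥T' := inferInstance
  have hfin : (irreducibleComponents ↥T').Finite := NoetherianSpace.finite_irreducibleComponents
  -- for each component `C` of `T'` choose a component of `T` containing its image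
  have hch : ∀ C : ↥(irreducibleComponents ↥T'), ∃ Z ∈ irreducibleComponents ↥T, g' '' C.1 ⊆ Z := by
    intro C
    have hC : IsIrreducible C.1 := C.2.1
    exact exists_mem_irreducibleComponents_subset_of_isIrreducible _ (hC.image g' hg'.continuousOn)
  choose ZC hZC hsub using hch
  haveI : Finite ↥(irreducibleComponents ↥T') := hfin.to_subtype
  haveI : Fintype ↥(irreducibleComponents ↥T') := Fintype.ofFinite _
  -- every component meeting the range is one of these
  refine Set.Finite.subset (Set.finite_range fun C : ↥(irreducibleComponents ↥T') =>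
    (⟨ZC C, hZC C⟩ : ↥(irreducibleComponents ↥T))) ?_
  intro Z hZ
  obtain ⟨y, ⟨z, hzZ, rfl⟩, hyN⟩ := hZ
  have hZirr : IsIrreducible (Z : Set ↥T) := Z.2.1
  let N' : Set ↥T := ((↑) : ↥T → Y) ⁻¹' Set.range g
  have hN'o : IsOpen N' := hgo.isOpen_range.preimage continuous_subtype_val
  let t : Finset (Set ↥T) := insert N'ᶜ (Finset.univ.image fun C => ZC C)
  have ht : ∀ w ∈ t, IsClosed w := by
    intro w hw
    rcases Finset.mem_insert.1 hw with rfl | hw
    · exact hN'o.isClosed_compl
    · obtain ⟨C, -, rfl⟩ := Finset.mem_image.1 hw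
      exact isClosed_of_mem_irreducibleComponents _ (hZC C)
  have hcov : (Z : Set ↥T) ⊆ ⋃₀ (t : Set (Set ↥T)) := by
    intro w hwZ
    by_cases hwN : w ∈ N'
    · obtain ⟨v, hv⟩ := hwN
      have hvT : v ∈ T' := by
        show g v ∈ T
        rw [hv]; exact w.2
      obtain ⟨C, hC, hvC⟩ := exists_mem_irreducibleComponents_subset_of_isIrreducible
        ({(⟨v, hvT⟩ : ↥T')} : Set ↥T') isIrreducible_singleton
      refine ⟨ZC ⟨C, hC⟩, ?_, ?_⟩
      · exact Finset.mem_coe.2 (Finset.mem_insert_of_mem
          (Finset.mem_image.2 ⟨⟨C, hC⟩, Finset.mem_univ _, rfl⟩))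
      · apply hsub ⟨C, hC⟩
        refine ⟨⟨v, hvT⟩, hvC rfl, ?_⟩
        exact Subtype.ext hv
    · exact ⟨N'ᶜ, Finset.mem_coe.2 (Finset.mem_insert_self _ _), hwN⟩
  obtain ⟨w, hw, hZw⟩ := (isIrreducible_iff_sUnion_isClosed.1 hZirr) t ht hcov
  rcases Finset.mem_insert.1 hw with rfl | hw
  · exact absurd hyN (hZw hzZ)
  · obtain ⟨C, -, rfl⟩ := Finset.mem_image.1 hw
    refine ⟨C, ?_⟩
    apply Subtype.ext
    show ZC C = Z.1
    have hmax := Z.2
    exact (hmax.eq_of_subset (hZC C).1 hZw).symm

end Groth.Agent.Lib.T2H1.LocFinIrr
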