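import Mathlib

set_option autoImplicit false

namespace Groth.Agent.Lib.T2H1.LocHomSpec

/-- If `C_{P'} → D_{Q'}` is bijective (with `P' = Q' ∩ C`) and `Q ≤ Q'`, then `C_P → D_Q` is
bijective (with `P = Q ∩ C`). -/
theorem bijective_localRingHom_of_le {C D : Type*} [CommRing C] [CommRing D] (f : C →+* D)
    (Q Q' : Ideal D) [hQ : Q.IsPrime] [hQ' : Q'.IsPrime] (hle : Q ≤ Q')
    (h : Function.Bijective (Localization.localRingHom (Q'.comap f) Q' f rfl)) :
    Function.Bijective (Localization.localRingHom (Q.comap f) Q f rfl) := by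
  have key : ∀ t : D, ∃ u v : C, v ∉ Q'.comap f ∧ ∃ w : D, w ∉ Q' ∧
      w * (t * f v) = w * f u := by
    intro t
    obtain ⟨x, hx⟩ := h.2 (algebraMap D (Localization.AtPrime Q') t)
    obtain ⟨u, ⟨v, hv⟩, rfl⟩ := IsLocalization.exists_mk'_eq (Q'.comap f).primeCompl x
    rw [Localization.localRingHom_mk', IsLocalization.mk'_eq_iff_eq_mul, ← map_mul] at hx
    obtain ⟨⟨w, hw⟩, hw'⟩ := (IsLocalization.eq_iff_exists Q'.primeCompl _).mp hx
    exact ⟨u, v, hv, w, hw, hw'.symm⟩
  have key2 : ∀ (t : D) (u v : C) (w : D), t ∉ Q → v ∉ Q'.comap f → w ∉ Q' →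
      w * (t * f v) = w * f u → u ∉ Q.comap f := by
    intro t u v w ht hv hw hwe hu
    have h1 : w * (t * f v) ∈ Q := by
      rw [hwe]
      exact Q.mul_mem_left _ hu
    rcases hQ.mem_or_mem h1 with h2 | h2
    · exact hw (hle h2)
    · rcases hQ.mem_or_mem h2 with h3 | h3
      · exact ht h3
      · exact hv (hle h3)
  constructor
  · rw [injective_iff_map_eq_zero]
    intro x hx
    obtain ⟨c, ⟨s, hs⟩, rfl⟩ := IsLocalization.exists_mk'_eq (Q.comap f).primeCompl x
    rw [Localization.localRingHom_mk', IsLocalization.mk'_eq_zero_iff] at hx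
    obtain ⟨⟨t, ht⟩, htc⟩ := hx
    obtain ⟨u, v, hv, w, hw, hwe⟩ := key t
    have hu := key2 t u v w ht hv hw hwe
    have h1 : w * f (u * c) = 0 := by
      have htc' : t * f c = 0 := htc
      rw [map_mul, ← mul_assoc, ← hwe]
      calc w * (t * f v) * f c = w * f v * (t * f c) := by ring
        _ = 0 := by rw [htc', mul_zero]
    have h2 : algebraMap D (Localization.AtPrime Q') (f (u * c)) = 0 :=
      (IsLocalization.map_eq_zero_iff Q'.primeCompl _ _).mpr ⟨⟨w, hw⟩, h1⟩
    rw [← Localization.localRingHom_to_map (Q'.comap f) Q' f rfl] at h2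
    have h3 := (injective_iff_map_eq_zero _).mp h.1 _ h2
    obtain ⟨⟨v', hv'⟩, hv'e⟩ := (IsLocalization.map_eq_zero_iff (Q'.comap f).primeCompl _ _).mp h3
    rw [IsLocalization.mk'_eq_zero_iff]
    have hv'P : v' ∉ Q.comap f := fun hh => hv' (Ideal.comap_mono hle hh)
    have hPprime : (Q.comap f).IsPrime := Ideal.comap_isPrime f Q
    refine ⟨⟨v' * u, fun hh => ?_⟩, ?_⟩
    · rcases hPprime.mem_or_mem hh with h4 | h4
      · exact hv'P h4
      · exact hu h4
    · show v' * u * c = 0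
      rw [mul_assoc]
      exact hv'e
  · intro y
    obtain ⟨d, ⟨t, ht⟩, rfl⟩ := IsLocalization.exists_mk'_eq Q.primeCompl y
    obtain ⟨u, v, hv, w, hw, hwe⟩ := key t
    obtain ⟨u₁, v₁, hv₁, w₁, hw₁, hwe₁⟩ := key d
    have hu := key2 t u v w ht hv hw hwe
    have hPprime : (Q.comap f).IsPrime := Ideal.comap_isPrime f Q
    have hv₁P : v₁ ∉ Q.comap f := fun hh => hv₁ (Ideal.comap_mono hle hh)
    have hden : v₁ * u ∈ (Q.comap f).primeCompl := by
      intro hh
      rcases hPprime.mem_or_mem hh with h4 | h4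
      · exact hv₁P h4
      · exact hu h4
    refine ⟨IsLocalization.mk' _ (u₁ * v) ⟨v₁ * u, hden⟩, ?_⟩
    rw [Localization.localRingHom_mk', IsLocalization.mk'_eq_iff_eq]
    apply (IsLocalization.eq_iff_exists Q.primeCompl _).mpr
    have hwQ : w * w₁ ∈ Q.primeCompl := by
      intro hh
      rcases hQ.mem_or_mem hh with h4 | h4
      · exact hw (hle h4)
      · exact hw₁ (hle h4)
    refine ⟨⟨w * w₁, hwQ⟩, ?_⟩
    show w * w₁ * (t * f (u₁ * v)) = w * w₁ * (f (v₁ * u) * d)
    rw [map_mul, map_mul]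
    linear_combination (w₁ * f u₁) * hwe - (w * f u) * hwe₁

end Groth.Agent.Lib.T2H1.LocHomSpec
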