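import Mathlib

/-!
# Locally separated spaces are decent: the key lemma of linear algebra (helper1)

Let `A` be a ring, `k` a field and `K n` (`n : ℕ`) field extensions of `k` with ring maps
`α n : A → K n`.  If an element `θ = ∑ a_l ⊗ b_l` of `A ⊗ A` vanishes in `K n ⊗_k K m` for all
`n ≠ m`, then its image `∑ a_l b_l` in `A` vanishes in some `K m`.  (This is the algebraic core
of: "the closure of the images of `Spec (K n ⊗_k K m)`, `n ≠ m`, in `Spec (A ⊗ A)` meets the
diagonal".)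
-/

set_option autoImplicit false
universe u

namespace Groth.Agent.Lib.T2H1.LocSepKey

open TensorProduct

section

variable {A k : Type u} [CommRing A] [Field k] (K : ℕ → Type u) [∀ n, Field (K n)]
  [∀ n, Algebra k (K n)] (α : ∀ n, A →+* K n)

theorem key_sum {ι : Type u} [Fintype ι] (a b : ι → A)
    (h : ∀ n m, n ≠ m → ∑ l, (α n (a l)) ⊗ₜ[k] (α m (b l)) = (0 : K n ⊗[k] K m)) :
    ∃ m, ∑ l, α m (a l) * α m (b l) = 0 := by
  classical
  -- the spaces `P n` and `Q m`
  let Φ : ∀ n, Module.Dual k (K n) →ₗ[k] (ι → k) := fun n =>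
    LinearMap.pi fun l => (LinearMap.applyₗ (α n (a l)) : Module.Dual k (K n) →ₗ[k] k)
  let Ψ : ∀ m, (ι → k) →ₗ[k] K m := fun m => Fintype.linearCombination k (fun l => α m (b l))
  have hΦ : ∀ n (ψ : Module.Dual k (K n)) l, Φ n ψ l = ψ (α n (a l)) := fun n ψ l => rfl
  have hΨ : ∀ m (ξ : ι → k), Ψ m ξ = ∑ l, ξ l • α m (b l) := fun m ξ =>
    Fintype.linearCombination_apply k _ ξ
  -- E1
  have E1 : ∀ n m, n ≠ m → LinearMap.range (Φ n) ≤ LinearMap.ker (Ψ m) := by
    rintro n m hnm _ ⟨ψ, rfl⟩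
    rw [LinearMap.mem_ker, hΨ]
    have := congrArg (fun t => TensorProduct.lid k (K m) (LinearMap.rTensor (K m) ψ t)) (h n m hnm)
    simpa [map_sum, hΦ] using this
  -- E2
  have E2 : ∀ m, LinearMap.range (Φ m) ≤ LinearMap.ker (Ψ m) →
      ∑ l, α m (a l) * α m (b l) = 0 := by
    intro m hm
    let bs := Module.Basis.ofVectorSpace k (K m)
    have hβ : ∀ β, ∑ l, (bs.coord β (α m (a l))) • α m (b l) = 0 := by
      intro β
      have : Φ m (bs.coord β) ∈ LinearMap.ker (Ψ m) := hm ⟨_, rfl⟩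
      rw [LinearMap.mem_ker, hΨ] at this
      simpa [hΦ] using this
    let Bs : Finset (Module.Basis.ofVectorSpaceIndex k (K m)) :=
      Finset.univ.biUnion fun l => (bs.repr (α m (a l))).support
    have hx : ∀ l, α m (a l) = ∑ β ∈ Bs, (bs.coord β (α m (a l))) • bs β := by
      intro l
      conv_lhs => rw [← bs.linearCombination_repr (α m (a l))]
      rw [Finsupp.linearCombination_apply]
      refine Finsupp.sum_of_support_subset _ ?_ _ (fun β _ => zero_smul _ _)
      exact Finset.subset_biUnion_of_mem (fun l => (bs.repr (α m (a l))).support)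
        (Finset.mem_univ l)
    calc ∑ l, α m (a l) * α m (b l)
        = ∑ l, (∑ β ∈ Bs, (bs.coord β (α m (a l))) • bs β) * α m (b l) := by
          refine Finset.sum_congr rfl (fun l _ => ?_)
          rw [← hx l]
      _ = ∑ l, ∑ β ∈ Bs, bs β * ((bs.coord β (α m (a l))) • α m (b l)) := by
          refine Finset.sum_congr rfl (fun l _ => ?_)
          rw [Finset.sum_mul]
          refine Finset.sum_congr rfl (fun β _ => ?_)
          rw [smul_mul_assoc, mul_smul_comm]
      _ = ∑ β ∈ Bs, bs β * ∑ l, (bs.coord β (α m (a l))) • α m (b l) := by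
          rw [Finset.sum_comm]
          refine Finset.sum_congr rfl (fun β _ => ?_)
          rw [Finset.mul_sum]
      _ = 0 := by
          refine Finset.sum_eq_zero (fun β _ => ?_)
          rw [hβ β, mul_zero]
  -- the chain
  let Sq : ℕ →o Submodule k (ι → k) :=
    ⟨fun N => ⨆ n ∈ Finset.range N, LinearMap.range (Φ n), by
      intro N N' hNN'
      refine iSup₂_le (fun n hn => ?_)
      exact le_iSup₂_of_le n (Finset.range_mono hNN' hn) le_rfl⟩
  obtain ⟨N₀, hN₀⟩ := (monotone_stabilizes_iff_noetherian (R := k) (M := ι → k)).2 inferInstance Sq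
  refine ⟨N₀, E2 N₀ ?_⟩
  have h1 : LinearMap.range (Φ N₀) ≤ Sq (N₀ + 1) :=
    le_iSup₂_of_le N₀ (Finset.self_mem_range_succ N₀) le_rfl
  rw [← hN₀ (N₀ + 1) (Nat.le_succ N₀)] at h1
  refine h1.trans (iSup₂_le (fun n hn => E1 n N₀ ?_))
  exact (Finset.mem_range.1 hn).ne

/-- **the key lemma**, for an element of `A ⊗ A`. -/
theorem key (θ : A ⊗[ℤ] A)
    (h : ∀ n m, n ≠ m → Algebra.TensorProduct.productMap
      ((Algebra.TensorProduct.includeLeftRingHom.comp (α n)).toIntAlgHom :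
        A →ₐ[ℤ] K n ⊗[k] K m)
      (((Algebra.TensorProduct.includeRight : K m →ₐ[k] K n ⊗[k] K m).toRingHom.comp
        (α m)).toIntAlgHom) θ = 0) :
    ∃ m, α m (Algebra.TensorProduct.lmul' ℤ θ) = 0 := by
  classical
  obtain ⟨S, rfl⟩ := TensorProduct.exists_finset θ
  obtain ⟨m, hm⟩ := key_sum K α (ι := S) (fun l => l.1.1) (fun l => l.1.2) (fun n m hnm => by
    have := h n m hnm
    rw [map_sum] at this
    rw [← Finset.sum_coe_sort S] at this
    rw [← this]
    refine Finset.sum_congr rfl (fun l _ => ?_)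
    simp [Algebra.TensorProduct.productMap_apply_tmul, Algebra.TensorProduct.tmul_mul_tmul])
  refine ⟨m, ?_⟩
  rw [map_sum, map_sum, ← Finset.sum_coe_sort S, ← hm]
  refine Finset.sum_congr rfl (fun l _ => ?_)
  simp

end

section General

variable {A k : Type u} [CommRing A] [Field k] (K : ℕ → Type u) [∀ n, Field (K n)]
  [∀ n, Algebra k (K n)] (α : ∀ n, A →+* K n)

/-- **the key lemma**, over a general base ring and for abstract ring maps
`ψ n m : A ⊗ A → K n ⊗_k K m` compatible with the `α n`. -/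
theorem key' {R₀ : Type u} [CommRing R₀] [Algebra R₀ A] (θ : A ⊗[R₀] A)
    (ψ : ∀ n m, A ⊗[R₀] A →+* K n ⊗[k] K m)
    (hψl : ∀ n m a, ψ n m (a ⊗ₜ[R₀] 1) = α n a ⊗ₜ[k] 1)
    (hψr : ∀ n m b, ψ n m (1 ⊗ₜ[R₀] b) = 1 ⊗ₜ[k] α m b)
    (h : ∀ n m, n ≠ m → ψ n m θ = 0) :
    ∃ m, α m (Algebra.TensorProduct.lmul' R₀ θ) = 0 := by
  classical
  obtain ⟨S, rfl⟩ := TensorProduct.exists_finset θ
  have hψ : ∀ n m (a b : A), ψ n m (a ⊗ₜ[R₀] b) = α n a ⊗ₜ[k] α m b := by
    intro n m a b
    have : a ⊗ₜ[R₀] b = (a ⊗ₜ[R₀] 1) * (1 ⊗ₜ[R₀] b) := by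
      rw [Algebra.TensorProduct.tmul_mul_tmul, mul_one, one_mul]
    rw [this, map_mul, hψl, hψr, Algebra.TensorProduct.tmul_mul_tmul, mul_one, one_mul]
  obtain ⟨m, hm⟩ := key_sum K α (ι := S) (fun l => l.1.1) (fun l => l.1.2) (fun n m hnm => by
    have := h n m hnm
    rw [map_sum] at this
    rw [← Finset.sum_coe_sort S] at this
    rw [← this]
    refine Finset.sum_congr rfl (fun l _ => ?_)
    rw [hψ])
  refine ⟨m, ?_⟩
  rw [map_sum, map_sum, ← Finset.sum_coe_sort S, ← hm]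
  refine Finset.sum_congr rfl (fun l _ => ?_)
  simp

end General

end Groth.Agent.Lib.T2H1.LocSepKey
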