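import Mathlib
import Groth.Agent.Lib.T2H1FieldQuotK
import Groth.Agent.Lib.T2H1LocSepKey

/-!
# Locally separated spaces are decent: the geometric part (helper1)
-/

set_option autoImplicit false
universe u
open CategoryTheory CategoryTheory.Limits AlgebraicGeometry Opposite
open AlgSp

namespace Groth.Agent.Lib.T2H1.LocSep

open Groth.Agent.S13210 Groth.Agent.Lib.T2H1.FieldQuot

variable {S : Scheme.{u}}

/-- if the diagonal of `X` is representable with `Pr`, the morphism `R ⟶ T ×_S T` from the self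
fibre product of `T ⟶ X` has `Pr`. -/
theorem diag_property (Pr : MorphismProperty Scheme.{u}) {X : AlgSp.Sp S}
    (hX : AlgSp.RepWith Pr (Limits.diag X))
    {T R : Over S} (p : (AlgSp.yon S).obj T ⟶ X) (s t : R ⟶ T)
    (hsq : IsPullback ((AlgSp.yon S).map s) ((AlgSp.yon S).map t) p p) :
    Pr (pullback.lift s.left t.left (by rw [Over.w s, Over.w t]) :
      R.left ⟶ pullback T.hom T.hom) := by
  let U : Over S := Over.mk (pullback.fst T.hom T.hom ≫ T.hom)
  let pr₁ : U ⟶ T := Over.homMk (pullback.fst T.hom T.hom) rfl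
  let pr₂ : U ⟶ T := Over.homMk (pullback.snd T.hom T.hom) pullback.condition.symm
  have hU : ∀ {Z : Over S} (a b : Z ⟶ U), a ≫ pr₁ = b ≫ pr₁ → a ≫ pr₂ = b ≫ pr₂ → a = b := by
    intro Z a b h1 h2
    ext
    apply pullback.hom_ext
    · exact congrArg (fun m => m.left) h1
    · exact congrArg (fun m => m.left) h2
  let w : R ⟶ U := Over.homMk (pullback.lift s.left t.left (by rw [Over.w s, Over.w t])) (by
    show pullback.lift s.left t.left _ ≫ pullback.fst T.hom T.hom ≫ T.hom = R.hom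
    rw [← Category.assoc, pullback.lift_fst]
    exact Over.w s)
  have hw1 : w ≫ pr₁ = s := by
    ext
    exact pullback.lift_fst _ _ _
  have hw2 : w ≫ pr₂ = t := by
    ext
    exact pullback.lift_snd _ _ _
  let g : (AlgSp.yon S).obj U ⟶ X ⨯ X :=
    prod.lift ((AlgSp.yon S).map pr₁ ≫ p) ((AlgSp.yon S).map pr₂ ≫ p)
  have hcomm : ((AlgSp.yon S).map s ≫ p) ≫ Limits.diag X = (AlgSp.yon S).map w ≫ g := by
    apply Limits.prod.hom_ext
    · simp only [Category.assoc, Limits.diag, prod.lift_fst, Category.comp_id, g]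
      rw [← Category.assoc, ← Functor.map_comp, hw1]
    · simp only [Category.assoc, Limits.diag, prod.lift_snd, Category.comp_id, g]
      rw [← Category.assoc, ← Functor.map_comp, hw2, hsq.w]
  have sqd : IsPullback ((AlgSp.yon S).map s ≫ p) ((AlgSp.yon S).map w) (Limits.diag X) g := by
    refine isPullback_of_yon hcomm (fun Z b c hbc => ?_)
    obtain ⟨c₀, rfl⟩ := (AlgSp.yon S).map_surjective c
    have h1 : b = (AlgSp.yon S).map (c₀ ≫ pr₁) ≫ p := by
      have := congrArg (fun m => m ≫ prod.fst) hbc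
      simpa only [Category.assoc, Limits.diag, prod.lift_fst, Category.comp_id, g,
        Functor.map_comp] using this
    have h2 : b = (AlgSp.yon S).map (c₀ ≫ pr₂) ≫ p := by
      have := congrArg (fun m => m ≫ prod.snd) hbc
      simpa only [Category.assoc, Limits.diag, prod.lift_snd, Category.comp_id, g,
        Functor.map_comp] using this
    obtain ⟨l, hl⟩ := (AlgSp.yon S).map_surjective (hsq.lift _ _ (h1.symm.trans h2))
    have hl1 : l ≫ s = c₀ ≫ pr₁ := by
      apply (AlgSp.yon S).map_injective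
      rw [Functor.map_comp, hl, hsq.lift_fst]
    have hl2 : l ≫ t = c₀ ≫ pr₂ := by
      apply (AlgSp.yon S).map_injective
      rw [Functor.map_comp, hl, hsq.lift_snd]
    have hlw : l ≫ w = c₀ := hU _ _ (by rw [Category.assoc, hw1, hl1])
      (by rw [Category.assoc, hw2, hl2])
    refine ⟨(AlgSp.yon S).map l, ⟨?_, ?_⟩, ?_⟩
    · rw [← Category.assoc, ← Functor.map_comp, hl1, h1]
    · rw [← Functor.map_comp, hlw]
    · rintro a' ⟨-, ha'⟩
      obtain ⟨l', rfl⟩ := (AlgSp.yon S).map_surjective a'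
      have hl'w : l' ≫ w = c₀ := by
        apply (AlgSp.yon S).map_injective
        rw [Functor.map_comp]
        exact ha'
      congr 1
      apply (AlgSp.yon S).map_injective
      apply hsq.hom_ext
      · rw [← Functor.map_comp, ← Functor.map_comp, hl1, ← hw1, ← Category.assoc, hl'w]
      · rw [← Functor.map_comp, ← Functor.map_comp, hl2, ← hw2, ← Category.assoc, hl'w]
  exact hX.2 g _ w sqd

/-- a section of an étale morphism of schemes is an open immersion. -/
theorem isOpenImmersion_of_section {R U : Scheme.{u}} (t : R ⟶ U) [Etale t] (e : U ⟶ R)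
    (h : e ≫ t = 𝟙 U) : IsOpenImmersion e := by
  haveI : Etale (e ≫ t) := by rw [h]; infer_instance
  haveI : Etale e := Etale.of_comp e t
  haveI : Mono e := mono_of_mono_fac h
  exact IsOpenImmersion.of_flat_of_mono e

section OffDiag

variable {X : AlgSp.Sp S} {U T R : Over S} (φ : (AlgSp.yon S).obj U ⟶ X) {K : Over S}
  (qh : (AlgSp.yon S).obj K ⟶ X) (c : T ⟶ K) (τ : T ⟶ U)
  (sqT : IsPullback ((AlgSp.yon S).map c) ((AlgSp.yon S).map τ) qh φ) (s t : R ⟶ U)
  (hR : IsPullback ((AlgSp.yon S).map t) ((AlgSp.yon S).map s) φ φ)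

include sqT hR in
/-- two points of `T = K ×_X U` with the same image in `K` define a point of `R = U ×_X U`. -/
theorem exists_pair {Z : Over S} (ξ₁ ξ₂ : Z ⟶ T) (h : ξ₁ ≫ c = ξ₂ ≫ c) :
    ∃ g : Z ⟶ R, g ≫ t = ξ₁ ≫ τ ∧ g ≫ s = ξ₂ ≫ τ := by
  have hw : (AlgSp.yon S).map (ξ₁ ≫ τ) ≫ φ = (AlgSp.yon S).map (ξ₂ ≫ τ) ≫ φ := by
    rw [Functor.map_comp, Functor.map_comp, Category.assoc, Category.assoc, ← sqT.w,
      ← Category.assoc, ← Category.assoc, ← Functor.map_comp, ← Functor.map_comp, h]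
  obtain ⟨g, hg⟩ := (AlgSp.yon S).map_surjective (hR.lift _ _ hw)
  refine ⟨g, ?_, ?_⟩
  · apply (AlgSp.yon S).map_injective
    rw [Functor.map_comp, hg, hR.lift_fst]
  · apply (AlgSp.yon S).map_injective
    rw [Functor.map_comp, hg, hR.lift_snd]

include sqT in
/-- if the point of `R` defined by two points of `T` lies on the diagonal, the two points
coincide. -/
theorem eq_of_mem_range_diag {Z : Over S} (ξ₁ ξ₂ : Z ⟶ T) (h : ξ₁ ≫ c = ξ₂ ≫ c) (g : Z ⟶ R)
    (hg1 : g ≫ t = ξ₁ ≫ τ) (hg2 : g ≫ s = ξ₂ ≫ τ) (e : U ⟶ R) (he1 : e ≫ t = 𝟙 U)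
    (he2 : e ≫ s = 𝟙 U) [IsOpenImmersion e.left] (σ : ↥Z.left)
    (hσ : g.left σ ∈ Set.range e.left) : ξ₁.left σ = ξ₂.left σ := by
  let ω : Spec (Z.left.residueField σ) ⟶ Z.left := Z.left.fromSpecResidueField σ
  let Zσ : Over S := Over.mk (ω ≫ Z.hom)
  let ω' : Zσ ⟶ Z := Over.homMk ω rfl
  have hrange : Set.range (ω ≫ g.left) ⊆ Set.range e.left := by
    rintro _ ⟨z, rfl⟩
    rw [Scheme.Hom.comp_apply]
    have : ω z = σ := Scheme.fromSpecResidueField_apply _ _
    rw [this]
    exact hσ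
  let l : Spec (Z.left.residueField σ) ⟶ U.left := IsOpenImmersion.lift e.left (ω ≫ g.left) hrange
  have hl : l ≫ e.left = ω ≫ g.left := IsOpenImmersion.lift_fac _ _ _
  have h1 : ω ≫ g.left ≫ t.left = l := by
    rw [← Category.assoc, ← hl, Category.assoc, ← Over.comp_left, he1]
    exact Category.comp_id _
  have h2 : ω ≫ g.left ≫ s.left = l := by
    rw [← Category.assoc, ← hl, Category.assoc, ← Over.comp_left, he2]
    exact Category.comp_id _
  have hτ : (ω' ≫ ξ₁) ≫ τ = (ω' ≫ ξ₂) ≫ τ := by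
    rw [Category.assoc, Category.assoc, ← hg1, ← hg2]
    ext
    show ω ≫ g.left ≫ t.left = ω ≫ g.left ≫ s.left
    rw [h1, h2]
  have hc : (ω' ≫ ξ₁) ≫ c = (ω' ≫ ξ₂) ≫ c := by
    rw [Category.assoc, Category.assoc, h]
  have heq : ω' ≫ ξ₁ = ω' ≫ ξ₂ := by
    apply (AlgSp.yon S).map_injective
    apply sqT.hom_ext
    · rw [← Functor.map_comp, ← Functor.map_comp, hc]
    · rw [← Functor.map_comp, ← Functor.map_comp, hτ]
  have hpt := congrArg (fun m => m.left (IsLocalRing.closedPoint (Z.left.residueField σ))) heq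
  simp only [Over.comp_left, Scheme.Hom.comp_apply] at hpt
  have hω : ω'.left (IsLocalRing.closedPoint (Z.left.residueField σ)) = σ :=
    Scheme.fromSpecResidueField_apply _ _
  rw [hω] at hpt
  exact hpt

end OffDiag

open TensorProduct in
/-- **the fibre product of an affine étale chart of a locally separated algebraic space with a
field point has finitely many points.** -/
theorem finite_fibreProduct_spec {X : AlgSp.Sp S} (hXa : AlgSp.IsAlgSpace X)
    (hX : AlgSp.IsLocallySeparatedSp X) (A : Type u) [CommRing A]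
    (uhom : Spec (CommRingCat.of A) ⟶ S) (φ : (AlgSp.yon S).obj (Over.mk uhom) ⟶ X)
    (hφ : AlgSp.RepWith @Etale φ) (q : AlgSp.FieldPt X) {T : Over S} (c : T ⟶ q.pt)
    (τ : T ⟶ Over.mk uhom)
    (sqT : IsPullback ((AlgSp.yon S).map c) ((AlgSp.yon S).map τ) q.toHom φ) :
    Finite ↥T.left := by
  classical
  by_contra hinf
  rw [not_finite_iff_infinite] at hinf
  let f : ℕ ↪ ↥T.left := Infinite.natEmbedding ↥T.left
  -- the self fibre product of the chart
  obtain ⟨R, s, pr, hR⟩ := hXa.representable_from_yon φ φ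
  obtain ⟨t, rfl⟩ := (AlgSp.yon S).map_surjective pr
  haveI : Etale s.left := hφ.2 φ _ s hR
  haveI : Etale t.left := hφ.2 φ _ t hR.flip
  have hw := diag_property @IsImmersion hX φ t s hR
  -- the affine product
  letI algA : Algebra (ULift.{u} ℤ) A := ULift.algebra' ℤ A
  let a0 : Spec (CommRingCat.of A) ⟶ Spec (CommRingCat.of (ULift.{u} ℤ)) :=
    Spec.map (CommRingCat.ofHom (algebraMap (ULift.{u} ℤ) A))
  let i : S ⟶ Spec (CommRingCat.of (ULift.{u} ℤ)) := specULiftZIsTerminal.from S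
  have ha0 : uhom ≫ i = a0 := specULiftZIsTerminal.hom_ext _ _
  have hPi : IsPullback
      (Spec.map (CommRingCat.ofHom (S := A ⊗[ULift.{u} ℤ] A)
        Algebra.TensorProduct.includeLeftRingHom))
      (Spec.map (CommRingCat.ofHom (S := A ⊗[ULift.{u} ℤ] A)
        Algebra.TensorProduct.includeRight.toRingHom)) a0 a0 :=
    isPullback_SpecMap_of_isPushout _ _ _ _ (CommRingCat.isPushout_tensorProduct (ULift.{u} ℤ) A A)
  let ζ : R.left ⟶ Spec (CommRingCat.of (A ⊗[ULift.{u} ℤ] A)) :=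
    hPi.lift t.left s.left (specULiftZIsTerminal.hom_ext _ _)
  have hζ1 : ζ ≫ Spec.map (CommRingCat.ofHom (S := A ⊗[ULift.{u} ℤ] A)
      Algebra.TensorProduct.includeLeftRingHom) = t.left := hPi.lift_fst _ _ _
  have hζ2 : ζ ≫ Spec.map (CommRingCat.ofHom (S := A ⊗[ULift.{u} ℤ] A)
      Algebra.TensorProduct.includeRight.toRingHom) = s.left := hPi.lift_snd _ _ _
  haveI hζi : IsImmersion ζ := by
    have h1 : ζ ≫ hPi.isoPullback.hom =
        (pullback.lift t.left s.left (by rw [Over.w t, Over.w s]) :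
          R.left ⟶ pullback (Over.mk uhom).hom (Over.mk uhom).hom) ≫
          pullback.mapDesc uhom uhom i ≫ (pullback.congrHom ha0 ha0).hom := by
      apply pullback.hom_ext
      · simp only [Category.assoc, IsPullback.isoPullback_hom_fst, hζ1, pullback.congrHom_hom,
          pullback.mapDesc, pullback.lift_fst, pullback.lift_fst_assoc, Category.comp_id]
        exact (pullback.lift_fst _ _ _).symm
      · simp only [Category.assoc, IsPullback.isoPullback_hom_snd, hζ2, pullback.congrHom_hom,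
          pullback.mapDesc, pullback.lift_snd, pullback.lift_snd_assoc, Category.comp_id]
        exact (pullback.lift_snd _ _ _).symm
    haveI := hw
    have h2 : IsImmersion (ζ ≫ hPi.isoPullback.hom) := by
      rw [h1]
      infer_instance
    exact (MorphismProperty.cancel_right_of_respectsIso @IsImmersion ζ hPi.isoPullback.hom).1 h2
  -- the diagonal section
  obtain ⟨e, he⟩ := (AlgSp.yon S).map_surjective (hR.lift (𝟙 _) (𝟙 _) rfl)
  have he1 : e ≫ t = 𝟙 _ := by
    apply (AlgSp.yon S).map_injective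
    rw [Functor.map_comp, he, hR.lift_fst, CategoryTheory.Functor.map_id]
  have he2 : e ≫ s = 𝟙 _ := by
    apply (AlgSp.yon S).map_injective
    rw [Functor.map_comp, he, hR.lift_snd, CategoryTheory.Functor.map_id]
  haveI : IsOpenImmersion e.left :=
    isOpenImmersion_of_section t.left e.left (by rw [← Over.comp_left, he1]; rfl)
  have hOopen : IsOpen (Set.range e.left) := e.left.isOpenEmbedding.isOpen_range
  obtain ⟨O', hO'open, hO'⟩ := (ζ.isEmbedding.isInducing.isOpen_iff).1 hOopen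
  -- the multiplication map
  let μ : A ⊗[ULift.{u} ℤ] A →+* A :=
    (Algebra.TensorProduct.lmul' (ULift.{u} ℤ) (S := A)).toRingHom
  have hμ1 : CommRingCat.ofHom (S := A ⊗[ULift.{u} ℤ] A)
      Algebra.TensorProduct.includeLeftRingHom ≫ CommRingCat.ofHom μ = 𝟙 _ := by
    ext a
    simp [μ]
  have hμ2 : CommRingCat.ofHom (S := A ⊗[ULift.{u} ℤ] A)
      Algebra.TensorProduct.includeRight.toRingHom ≫ CommRingCat.ofHom μ = 𝟙 _ := by
    ext a
    simp [μ]
  have heζ : e.left ≫ ζ = Spec.map (CommRingCat.ofHom μ) := by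
    apply hPi.hom_ext
    · rw [Category.assoc, hζ1, ← Over.comp_left, he1, ← Spec.map_comp, hμ1, Spec.map_id]
      rfl
    · rw [Category.assoc, hζ2, ← Over.comp_left, he2, ← Spec.map_comp, hμ2, Spec.map_id]
      rfl
  -- the residue fields of the points of `T`
  haveI : Etale c.left := hφ.2 _ _ c sqT.flip
  let K : ℕ → Type u := fun n => T.left.residueField (f n)
  let ι : ∀ n, Spec (CommRingCat.of (K n)) ⟶ T.left := fun n => T.left.fromSpecResidueField (f n)
  let α : ∀ n, A →+* K n := fun n => (Spec.preimage (ι n ≫ τ.left)).hom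
  have hα : ∀ n, Spec.map (CommRingCat.ofHom (α n)) = ι n ≫ τ.left := fun n => Spec.map_preimage _
  let β : ∀ n, q.K →+* K n := fun n => (Spec.preimage (ι n ≫ c.left)).hom
  have hβ : ∀ n, Spec.map (CommRingCat.ofHom (β n)) = ι n ≫ c.left := fun n => Spec.map_preimage _
  letI algK : ∀ n, Algebra q.K (K n) := fun n => (β n).toAlgebra
  haveI etK : ∀ n, Algebra.Etale q.K (K n) := by
    intro n
    haveI : Mono (ι n) := (inferInstance : Mono (T.left.fromSpecResidueField (f n)))
    haveI : IsOpenImmersion (ι n) := isOpenImmersion_of_mono_of_etale_field c.left (ι n)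
    haveI : Etale (Spec.map (CommRingCat.ofHom (β n))) := by
      rw [hβ]
      infer_instance
    exact (HasRingHomProperty.Spec_iff (P := @Etale) (φ := CommRingCat.ofHom (β n))).1
      ‹Etale (Spec.map (CommRingCat.ofHom (β n)))›
  -- the ring maps `A ⊗ A → K n ⊗ K m`
  have main : ∀ n m, ∃ ψ : A ⊗[ULift.{u} ℤ] A →+* K n ⊗[q.K] K m,
      (∀ a, ψ (a ⊗ₜ[ULift.{u} ℤ] 1) = α n a ⊗ₜ[q.K] 1) ∧
      (∀ b, ψ (1 ⊗ₜ[ULift.{u} ℤ] b) = 1 ⊗ₜ[q.K] α m b) ∧
      (n ≠ m → ∀ θ ∈ PrimeSpectrum.vanishingIdeal (O'ᶜ : Set (PrimeSpectrum (A ⊗[ULift.{u} ℤ] A))),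
        ψ θ = 0) := by
    intro n m
    let inlK : K n →+* K n ⊗[q.K] K m := Algebra.TensorProduct.includeLeftRingHom
    let inrK : K m →+* K n ⊗[q.K] K m :=
      (Algebra.TensorProduct.includeRight : K m →ₐ[q.K] K n ⊗[q.K] K m).toRingHom
    let strΞ : Spec (CommRingCat.of (K n ⊗[q.K] K m)) ⟶ S :=
      Spec.map (CommRingCat.ofHom (algebraMap q.K (K n ⊗[q.K] K m))) ≫ q.str
    have h1 : CommRingCat.ofHom (β n) ≫ CommRingCat.ofHom inlK =
        CommRingCat.ofHom (algebraMap q.K (K n ⊗[q.K] K m)) := by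
      ext x
      rfl
    have h2 : CommRingCat.ofHom (β m) ≫ CommRingCat.ofHom inrK =
        CommRingCat.ofHom (algebraMap q.K (K n ⊗[q.K] K m)) := by
      ext x
      exact (Algebra.TensorProduct.includeRight : K m →ₐ[q.K] K n ⊗[q.K] K m).commutes x
    let ξ₁ : Over.mk strΞ ⟶ T := Over.homMk (Spec.map (CommRingCat.ofHom inlK) ≫ ι n) (by
      show (Spec.map (CommRingCat.ofHom inlK) ≫ ι n) ≫ T.hom = strΞ
      rw [← Over.w c, Category.assoc, ← Category.assoc (ι n), ← hβ, ← Category.assoc,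
        ← Spec.map_comp, h1]
      rfl)
    let ξ₂ : Over.mk strΞ ⟶ T := Over.homMk (Spec.map (CommRingCat.ofHom inrK) ≫ ι m) (by
      show (Spec.map (CommRingCat.ofHom inrK) ≫ ι m) ≫ T.hom = strΞ
      rw [← Over.w c, Category.assoc, ← Category.assoc (ι m), ← hβ, ← Category.assoc,
        ← Spec.map_comp, h2]
      rfl)
    have hξc : ξ₁ ≫ c = ξ₂ ≫ c := by
      ext
      show (Spec.map (CommRingCat.ofHom inlK) ≫ ι n) ≫ c.left =
        (Spec.map (CommRingCat.ofHom inrK) ≫ ι m) ≫ c.left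
      rw [Category.assoc, Category.assoc, ← hβ, ← hβ, ← Spec.map_comp, ← Spec.map_comp, h1, h2]
    obtain ⟨g, hg1, hg2⟩ := exists_pair φ q.toHom c τ sqT s t hR ξ₁ ξ₂ hξc
    let ψ₀ : CommRingCat.of (A ⊗[ULift.{u} ℤ] A) ⟶ CommRingCat.of (K n ⊗[q.K] K m) :=
      Spec.preimage (g.left ≫ ζ)
    have hψ : Spec.map ψ₀ = g.left ≫ ζ := Spec.map_preimage _
    have hl : CommRingCat.ofHom (S := A ⊗[ULift.{u} ℤ] A)
        Algebra.TensorProduct.includeLeftRingHom ≫ ψ₀ =
        CommRingCat.ofHom (α n) ≫ CommRingCat.ofHom inlK := by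
      apply Spec.map_injective
      rw [Spec.map_comp, Spec.map_comp, hψ, Category.assoc, hζ1, ← Over.comp_left, hg1, hα]
      rfl
    have hr : CommRingCat.ofHom (S := A ⊗[ULift.{u} ℤ] A)
        Algebra.TensorProduct.includeRight.toRingHom ≫ ψ₀ =
        CommRingCat.ofHom (α m) ≫ CommRingCat.ofHom inrK := by
      apply Spec.map_injective
      rw [Spec.map_comp, Spec.map_comp, hψ, Category.assoc, hζ2, ← Over.comp_left, hg2, hα]
      rfl
    refine ⟨ψ₀.hom, fun a => congrArg (fun h => h.hom a) hl, fun b => congrArg (fun h => h.hom b) hr,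
      fun hnm θ hθ => ?_⟩
    haveI : IsReduced (K n ⊗[q.K] K m) :=
      Algebra.FormallyUnramified.isReduced_of_field (K n) (K n ⊗[q.K] K m)
    have hnil : IsNilpotent (ψ₀.hom θ) := by
      rw [nilpotent_iff_mem_prime]
      intro P hP
      let σ : ↥(Over.mk strΞ).left := (⟨P, hP⟩ : PrimeSpectrum (K n ⊗[q.K] K m))
      have hσ : (g.left ≫ ζ) σ ∈ (O'ᶜ : Set (PrimeSpectrum (A ⊗[ULift.{u} ℤ] A))) := by
        intro hin
        have hmem : g.left σ ∈ ζ ⁻¹' O' := by
          rw [Scheme.Hom.comp_apply] at hin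
          exact hin
        rw [hO'] at hmem
        have heq := eq_of_mem_range_diag φ q.toHom c τ sqT s t ξ₁ ξ₂ hξc g hg1 hg2 e he1 he2 σ hmem
        have e1 : ξ₁.left σ = f n :=
          (Scheme.Hom.comp_apply _ _ _).trans (Scheme.fromSpecResidueField_apply _ _)
        have e2 : ξ₂.left σ = f m :=
          (Scheme.Hom.comp_apply _ _ _).trans (Scheme.fromSpecResidueField_apply _ _)
        rw [e1, e2] at heq
        exact hnm (f.injective heq)
      have hθ' := (PrimeSpectrum.mem_vanishingIdeal _ θ).1 hθ _ hσ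
      have hpt : (g.left ≫ ζ) σ = PrimeSpectrum.comap ψ₀.hom (⟨P, hP⟩ : PrimeSpectrum _) := by
        rw [← hψ]
        rfl
      rw [hpt] at hθ'
      exact hθ'
    exact hnil.eq_zero
  choose ψ hψl hψr hψ0 using main
  -- the ideal of the complement of `O'`
  have hZ : PrimeSpectrum.zeroLocus
      ((PrimeSpectrum.vanishingIdeal (O'ᶜ : Set (PrimeSpectrum (A ⊗[ULift.{u} ℤ] A))) :
        Ideal (A ⊗[ULift.{u} ℤ] A)) : Set (A ⊗[ULift.{u} ℤ] A)) = O'ᶜ := by
    rw [PrimeSpectrum.zeroLocus_vanishingIdeal_eq_closure]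
    exact hO'open.isClosed_compl.closure_eq
  have hμsurj : Function.Surjective μ := fun a => ⟨a ⊗ₜ[ULift.{u} ℤ] 1, by simp [μ]⟩
  have hdisj : PrimeSpectrum.zeroLocus
      ((PrimeSpectrum.vanishingIdeal (O'ᶜ : Set (PrimeSpectrum (A ⊗[ULift.{u} ℤ] A))) ⊔
        RingHom.ker μ : Ideal (A ⊗[ULift.{u} ℤ] A)) : Set (A ⊗[ULift.{u} ℤ] A)) = ∅ := by
    rw [PrimeSpectrum.zeroLocus_sup, hZ, Set.eq_empty_iff_forall_notMem]
    rintro x ⟨hx1, hx2⟩
    rw [← _root_.range_comap_of_surjective _ μ hμsurj] at hx2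
    obtain ⟨y, rfl⟩ := hx2
    apply hx1
    have hpt : PrimeSpectrum.comap μ y = ζ (e.left y) := by
      rw [← Scheme.Hom.comp_apply, heζ]
      rfl
    rw [hpt]
    show e.left y ∈ ζ ⁻¹' O'
    rw [hO']
    exact ⟨y, rfl⟩
  have htop := PrimeSpectrum.zeroLocus_empty_iff_eq_top.1 hdisj
  have h1mem : (1 : A ⊗[ULift.{u} ℤ] A) ∈
      PrimeSpectrum.vanishingIdeal (O'ᶜ : Set (PrimeSpectrum (A ⊗[ULift.{u} ℤ] A))) ⊔
        RingHom.ker μ := by
    rw [htop]
    exact Submodule.mem_top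
  obtain ⟨θ, hθ, δ, hδ, hsum⟩ := Submodule.mem_sup.1 h1mem
  obtain ⟨m, hm⟩ := Groth.Agent.Lib.T2H1.LocSepKey.key' K α θ ψ hψl hψr
    (fun n m hnm => hψ0 n m hnm θ hθ)
  have hμθ : Algebra.TensorProduct.lmul' (ULift.{u} ℤ) (S := A) θ = 1 := by
    have h3 := congrArg μ hsum
    rw [map_add, (RingHom.mem_ker).1 hδ, add_zero, map_one] at h3
    exact h3
  rw [hμθ, map_one] at hm
  exact one_ne_zero hm

/-- **the fibre product of an affine étale chart of a locally separated algebraic space with a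
field point has finitely many points.** -/
theorem finite_fibreProduct {X : AlgSp.Sp S} (hXa : AlgSp.IsAlgSpace X)
    (hX : AlgSp.IsLocallySeparatedSp X) {U : Over S} [IsAffine U.left]
    (φ : (AlgSp.yon S).obj U ⟶ X) (hφ : AlgSp.RepWith @Etale φ) (q : AlgSp.FieldPt X)
    {T : Over S} (c : T ⟶ q.pt) (τ : T ⟶ U)
    (sqT : IsPullback ((AlgSp.yon S).map c) ((AlgSp.yon S).map τ) q.toHom φ) :
    Finite ↥T.left := by
  let iso : U.left ≅ Spec (CommRingCat.of ↑Γ(U.left, ⊤)) := U.left.isoSpec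
  let U' : Over S := Over.mk (iso.inv ≫ U.hom)
  let j : U' ≅ U := Over.isoMk iso.symm (by simp [U'])
  have hφ' : AlgSp.RepWith @Etale ((AlgSp.yon S).map j.hom ≫ φ) := by
    refine MorphismProperty.comp_mem _ _ _ ((AlgSp.repWith_yon_map_iff _ _).2 ?_) hφ
    haveI : IsIso j.hom.left := (inferInstance : IsIso iso.symm.hom)
    infer_instance
  have sqT' : IsPullback ((AlgSp.yon S).map c) ((AlgSp.yon S).map (τ ≫ j.inv)) q.toHom
      ((AlgSp.yon S).map j.hom ≫ φ) := by
    refine IsPullback.of_iso sqT (Iso.refl _) (Iso.refl _) ((AlgSp.yon S).mapIso j.symm)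
      (Iso.refl _) (by simp) ?_ (by simp) ?_
    · simp only [Iso.refl_hom, Category.id_comp, Functor.mapIso_hom, Iso.symm_hom,
        Functor.map_comp]
    · simp only [Functor.mapIso_hom, Iso.symm_hom, Iso.refl_hom, Category.comp_id,
        ← Category.assoc, ← Functor.map_comp, Iso.inv_hom_id, CategoryTheory.Functor.map_id,
        Category.id_comp]
  exact finite_fibreProduct_spec hXa hX ↑Γ(U.left, ⊤) (iso.inv ≫ U.hom) _ hφ' q c (τ ≫ j.inv) sqT'

end Groth.Agent.Lib.T2H1.LocSep
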