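import Mathlib
import Groth.Agent.Lib.T2H1Tower
import Groth.Agent.Lib.Helper12LocPCases
import Groth.Agent.Lib.Helper6LfpComp
import Groth.Agent.S9884
import Groth.Agent.S9947
import Groth.Agent.S0114
import Groth.Agent.S5938

/-!
# `LocP P h` from `LocP P (g ≫ h)` for `g` a surjection of fppf sheaves (helper1)
-/

set_option autoImplicit false
set_option linter.unusedVariables false
set_option linter.unusedSectionVars false
set_option linter.style.haveILetI false
universe u
open CategoryTheory CategoryTheory.Limits AlgebraicGeometry Opposite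
open AlgSp

namespace Groth.Agent.Lib.T2H1.LocSurj

open Groth.Agent.Lib.Helper12.LocPCases

/-- the retract property of a class of morphisms of schemes. -/
def Retr (P : MorphismProperty Scheme.{u}) : Prop :=
  ∀ {A B W : Scheme.{u}} (σ : A ⟶ B) (π : B ⟶ A) (w : A ⟶ W), σ ≫ π = 𝟙 A → P (π ≫ w) → P w

/-- descent along fppf covers of the source. -/
def SrcFppf (P : MorphismProperty Scheme.{u}) : Prop :=
  ∀ {T V W : Scheme.{u}} (t : T ⟶ V) (v : V ⟶ W), Surjective t → Flat t →
    LocallyOfFinitePresentation t → P (t ≫ v) → P v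

lemma retr_lft : Retr (@LocallyOfFiniteType : MorphismProperty Scheme.{u}) := by
  intro A B W σ π w hσ hP
  haveI : LocallyOfFiniteType (π ≫ w) := hP
  haveI : LocallyOfFiniteType (σ ≫ π) := by rw [hσ]; infer_instance
  haveI : LocallyOfFiniteType σ := locallyOfFiniteType_of_comp σ π
  have : w = σ ≫ π ≫ w := by rw [← Category.assoc, hσ, Category.id_comp]
  rw [this]
  infer_instance

lemma retr_lfp : Retr (@LocallyOfFinitePresentation : MorphismProperty Scheme.{u}) := by
  intro A B W σ π w hσ hP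
  haveI : LocallyOfFinitePresentation (π ≫ w) := hP
  haveI : LocallyOfFiniteType π := locallyOfFiniteType_of_comp π w
  haveI : LocallyOfFinitePresentation σ := by
    refine Groth.Agent.Lib.Helper6.locallyOfFinitePresentation_of_comp (g := π) inferInstance ?_
    rw [hσ]
    infer_instance
  have : w = σ ≫ π ≫ w := by rw [← Category.assoc, hσ, Category.id_comp]
  rw [this]
  infer_instance

/-- ring-level retract lemma for flatness. -/
lemma flat_of_retract {R M N M' : Type u} [CommRing R] [CommRing M] [CommRing N] [CommRing M']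
    (ψ : R →+* M) (ι : M →+* N) (ρ : N →+* M') (hb : Function.Bijective (ρ.comp ι))
    (hf : (ι.comp ψ).Flat) : ψ.Flat := by
  letI : Algebra R M := ψ.toAlgebra
  letI : Algebra R N := (ι.comp ψ).toAlgebra
  haveI : Module.Flat R N := hf
  let e : M ≃+* M' := RingEquiv.ofBijective (ρ.comp ι) hb
  let il : M →ₗ[R] N :=
    { toFun := ι
      map_add' := map_add ι
      map_smul' := fun r m => by
        change ι (ψ r * m) = (ι.comp ψ) r * ι m
        rw [map_mul]; rfl }
  let rl : N →ₗ[R] M :=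
    { toFun := fun n => e.symm (ρ n)
      map_add' := fun x y => by rw [map_add, map_add]
      map_smul' := fun r n => by
        change e.symm (ρ ((ι.comp ψ) r * n)) = ψ r * e.symm (ρ n)
        rw [map_mul, map_mul]
        congr 1
        apply e.injective
        rw [RingEquiv.apply_symm_apply]
        rfl }
  have hri : rl ∘ₗ il = LinearMap.id := by
    ext m
    change e.symm (ρ (ι m)) = m
    apply e.injective
    rw [RingEquiv.apply_symm_apply]
    rfl
  exact Module.Flat.of_retract il rl hri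

lemma retr_flat : Retr (@Flat : MorphismProperty Scheme.{u}) := by
  intro A B W σ π w hσ hP
  haveI : Flat (π ≫ w) := hP
  rw [Flat.iff_flat_stalkMap]
  intro a
  have ha : π (σ a) = a := by
    have := congrArg (fun f : A ⟶ A => f a) hσ
    simpa using this
  have key : (w.stalkMap (π (σ a))).hom.Flat := by
    have h1 : ((π ≫ w).stalkMap (σ a)).hom.Flat := Flat.stalkMap _ _
    rw [Scheme.Hom.stalkMap_comp] at h1
    haveI : IsIso (σ ≫ π) := by rw [hσ]; infer_instance
    haveI h2 : IsIso ((σ ≫ π).stalkMap a) := inferInstance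
    rw [Scheme.Hom.stalkMap_comp] at h2
    refine flat_of_retract (w.stalkMap (π (σ a))).hom (π.stalkMap (σ a)).hom
      (σ.stalkMap a).hom ?_ ?_
    · have := (ConcreteCategory.isIso_iff_bijective _).1 h2
      exact this
    · exact h1
  exact ha ▸ key

lemma srcFppf_flat : SrcFppf (@Flat : MorphismProperty Scheme.{u}) := by
  intro T V W t v h1 h2 h3 h4
  haveI := h1; haveI := h2; haveI : Flat (t ≫ v) := h4
  exact Groth.Agent.Lib.Helper12.flat_of_comp_of_flat_of_surjective t v

lemma srcFppf_lft : SrcFppf (@LocallyOfFiniteType : MorphismProperty Scheme.{u}) := by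
  intro T V W t v h1 h2 h3 h4
  haveI := h1; haveI := h2; haveI := h3; haveI : LocallyOfFiniteType (t ≫ v) := h4
  exact Groth.Agent.S5938.result t v

lemma srcFppf_lfp : SrcFppf (@LocallyOfFinitePresentation : MorphismProperty Scheme.{u}) := by
  intro T V W t v h1 h2 h3 h4
  haveI := h1; haveI := h2; haveI := h3; haveI : LocallyOfFinitePresentation (t ≫ v) := h4
  exact Groth.Agent.S0114.result t v

/-- a property that descends along fppf covers of the source can be checked on a jointly
surjective family of flat morphisms locally of finite presentation. -/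
lemma of_family {P : MorphismProperty Scheme.{u}} [IsZariskiLocalAtSource P] (hdesc : SrcFppf P)
    {V W : Scheme.{u}} (v : V ⟶ W)
    (H : ∀ x : V, ∃ (T : Scheme.{u}) (t : T ⟶ V), Flat t ∧ LocallyOfFinitePresentation t ∧
      x ∈ Set.range t ∧ P (t ≫ v)) : P v := by
  choose T t h1 h2 h3 h4 using H
  have hopen : ∀ x, IsOpen (Set.range (t x)) := fun x => by
    haveI := h1 x; haveI := h2 x
    exact (t x).isOpenMap.isOpen_range
  let U : V → V.Opens := fun x => ⟨Set.range (t x), hopen x⟩
  have hU : iSup U = ⊤ := by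
    rw [eq_top_iff]
    intro x _
    exact TopologicalSpace.Opens.mem_iSup.2 ⟨x, h3 x⟩
  refine IsZariskiLocalAtSource.of_iSup_eq_top U hU (fun x => ?_)
  have hr : Set.range (t x) ⊆ Set.range (U x).ι := by
    rw [Scheme.Opens.range_ι]
    exact fun y hy => hy
  let t' : T x ⟶ (U x).toScheme := IsOpenImmersion.lift (U x).ι (t x) hr
  have ht' : t' ≫ (U x).ι = t x := IsOpenImmersion.lift_fac _ _ _
  have hfl : Flat t' := good_flat.hcancel t' (U x).ι inferInstance (by rw [ht']; exact h1 x)
  have hfp : LocallyOfFinitePresentation t' :=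
    good_lfp.hcancel t' (U x).ι inferInstance (by rw [ht']; exact h2 x)
  have hsurj : Surjective t' := by
    constructor
    intro y
    obtain ⟨z, hz⟩ : ((U x).ι y) ∈ Set.range (t x) := y.2
    refine ⟨z, ?_⟩
    apply (U x).ι.isOpenEmbedding.injective
    rw [← hz, ← ht']
    rfl
  refine hdesc t' ((U x).ι ≫ v) hsurj hfl hfp ?_
  rw [← Category.assoc, ht']
  exact h4 x

variable {S : Scheme.{u}}

/-- the retract step: if `π : X' ⟶ h_T` has a section and `π ≫ h_w ≫ c` has `P` on charts, then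
`w` has `P`. -/
lemma P_of_retract {P : MorphismProperty Scheme.{u}} [IsZariskiLocalAtSource P] (hP : Good P)
    (hret : Retr P) (hdesc : SrcFppf P)
    {X' : AlgSp.Sp S} (hX' : AlgSp.IsAlgSpace X') {TT W : Over S}
    (π : X' ⟶ (AlgSp.yon S).obj TT) (σ : (AlgSp.yon S).obj TT ⟶ X') (hσ : σ ≫ π = 𝟙 _)
    (w : TT ⟶ W) {Z : AlgSp.Sp S} (c : (AlgSp.yon S).obj W ⟶ Z) (hc : AlgSp.RepWith @Etale c)
    (hq : AlgSp.LocP P (π ≫ (AlgSp.yon S).map w ≫ c)) : P w.left := by
  refine of_family hdesc w.left (fun t₀ => ?_)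
  let x₁ : AlgSp.Points X' := AlgSp.Points.map σ (AlgSp.Points.ofScheme TT t₀)
  have hx₁ : AlgSp.Points.ofPt (𝟙 ((AlgSp.yon S).obj TT)) t₀ = AlgSp.Points.map π x₁ := by
    change _ = AlgSp.Points.map π (AlgSp.Points.map σ _)
    rw [← AlgSp.Points.map_comp, hσ, AlgSp.Points.map_id]
  obtain ⟨U, a, pU, u₀, ha, hapU, hu₀, hpu₀⟩ :=
    Groth.Agent.Lib.T2H1.Tower.exists_chart_over hX' (AlgSp.IsAlgSpace.yon_obj TT) π x₁ (𝟙 _)
      (AlgSp.repWith_id _ TT) t₀ hx₁
  rw [Category.comp_id] at hapU
  obtain ⟨T', snd, fst', sq⟩ := ha.1 σ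
  obtain ⟨s', rfl⟩ := (AlgSp.yon S).map_surjective fst'
  haveI hsnd : Etale snd.left := ha.2 _ _ snd sq
  -- a point of `T'` over `t₀`
  obtain ⟨p, hp1, hp2⟩ := Groth.Agent.S10175.exists_point_of_isPullback sq
    (AlgSp.Points.ofScheme U u₀) (AlgSp.Points.ofScheme TT t₀)
    (by rw [← AlgSp.Points.ofPt_eq_map_ofScheme]; exact hu₀)
  obtain ⟨t'₀, rfl⟩ := (AlgSp.Points.schemeHomeo T').surjective p
  have ht'₀ : snd.left t'₀ = t₀ := by
    rw [AlgSp.Points.map_yon_map_apply] at hp2
    exact (AlgSp.Points.schemeHomeo TT).injective hp2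
  -- `U'' = U ×_T T'`
  let e₁ : pullback pU snd ⟶ U := pullback.fst pU snd
  let e₂ : pullback pU snd ⟶ T' := pullback.snd pU snd
  have hpb : IsPullback e₁.left e₂.left pU.left snd.left :=
    (IsPullback.of_hasPullback pU snd).map (Over.forget S)
  haveI he₁ : Etale e₁.left := MorphismProperty.of_isPullback (P := @Etale) hpb.flip hsnd
  have hs' : s' ≫ pU = snd := by
    apply (AlgSp.yon S).map_injective
    rw [Functor.map_comp, ← hapU, ← Category.assoc, sq.w, Category.assoc, hσ, Category.comp_id]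
  let ρ : T' ⟶ pullback pU snd := pullback.lift s' (𝟙 T') (by rw [hs', Category.id_comp])
  have hρ : ρ ≫ e₂ = 𝟙 T' := pullback.lift_snd _ _ _
  -- the chart
  have ha' : AlgSp.RepWith @Etale ((AlgSp.yon S).map e₁ ≫ a) :=
    (AlgSp.RepWith @Etale).comp_mem _ _ ((AlgSp.repWith_yon_map_iff _ _).2 he₁) ha
  have hcompat : ((AlgSp.yon S).map e₁ ≫ a) ≫ (π ≫ (AlgSp.yon S).map w ≫ c) =
      (AlgSp.yon S).map (e₂ ≫ snd ≫ w) ≫ c := by
    have h1 : e₁ ≫ pU = e₂ ≫ snd := pullback.condition
    rw [Category.assoc, ← Category.assoc a, hapU, ← Category.assoc, ← Category.assoc,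
      ← Functor.map_comp, h1, ← Functor.map_comp, Category.assoc]
  have hω : P (e₂ ≫ snd ≫ w).left := hq _ c _ ha' hc hcompat
  have hret' : P (snd ≫ w).left := by
    refine hret ρ.left e₂.left (snd ≫ w).left ?_ ?_
    · rw [← Over.comp_left, hρ]; rfl
    · rw [← Over.comp_left]; exact hω
  refine ⟨T'.left, snd.left, inferInstance, inferInstance, ⟨t'₀, ht'₀⟩, ?_⟩
  rw [← Over.comp_left]; exact hret'

/-- **`LocP P` descends along a surjection of fppf sheaves on the source.** -/
theorem locP_of_comp {P : MorphismProperty Scheme.{u}} [IsZariskiLocalAtSource P] (hP : Good P)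
    (hret : Retr P) (hdesc : SrcFppf P)
    (hfppf : ∀ {A B : Scheme.{u}} (t : A ⟶ B), Flat t → LocallyOfFinitePresentation t → P t)
    {X Y Z : AlgSp.Sp S} (hX : AlgSp.IsAlgSpace X) (hY : AlgSp.IsAlgSpace Y)
    (hZ : AlgSp.IsAlgSpace Z) (g : X ⟶ Y) (h : Y ⟶ Z) [Sheaf.IsLocallySurjective g]
    (hgh : AlgSp.LocP P (g ≫ h)) : AlgSp.LocP P h := by
  intro V W b c v hb hc hbc
  obtain ⟨R, hR, hlift⟩ := Groth.Agent.S9884.exists_fppf_lift g b
  refine of_family hdesc v.left (fun x => ?_)
  obtain ⟨T, t, hRt, hx⟩ : ∃ (T : Scheme.{u}) (t : T ⟶ V.left), R t ∧ x ∈ Set.range t := by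
    have h1 := hR.1
    rw [Scheme.jointlySurjectivePrecoverage,
      Presieve.mem_comap_jointlySurjectivePrecoverage_iff] at h1
    exact h1 x
  have hfl : Flat t := (hR.2 hRt).1
  have hfp : LocallyOfFinitePresentation t := (hR.2 hRt).2
  obtain ⟨d, hd⟩ := hlift t hRt
  let TT : Over S := Over.mk (t ≫ V.hom)
  let tt : TT ⟶ V := Over.homMk t rfl
  let β : (AlgSp.yon S).obj TT ⟶ Y := (AlgSp.yon S).map tt ≫ b
  have sqP := IsPullback.of_hasPullback g β
  have hX' : AlgSp.IsAlgSpace (pullback g β) :=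
    Groth.Agent.S9874.isAlgSpace_of_isPullback hY.diag hX (AlgSp.IsAlgSpace.yon_obj TT) sqP
  let π := pullback.snd g β
  let σ : (AlgSp.yon S).obj TT ⟶ pullback g β :=
    pullback.lift d (𝟙 _) (by rw [hd, Category.id_comp])
  have hσ : σ ≫ π = 𝟙 _ := pullback.lift_snd _ _ _
  haveI := hP.comp
  have hβ : AlgSp.LocP P β :=
    hP.locP_comp (AlgSp.IsAlgSpace.yon_obj V) hY _ _
      (Groth.Agent.Lib.Helper12.LocPGen.locP_yon_map_of P hP.hEt hP.hcancel tt (hfppf t hfl hfp))
      (Groth.Agent.S9947.locP_of_repWith_etale P hP.hEt b hb)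
  have hfst : AlgSp.LocP P (pullback.fst g β) :=
    hP.locP_baseChange (AlgSp.IsAlgSpace.yon_obj TT) hY hX sqP.flip hβ
  have hq : AlgSp.LocP P (π ≫ (AlgSp.yon S).map (tt ≫ v) ≫ c) := by
    have e : π ≫ (AlgSp.yon S).map (tt ≫ v) ≫ c = pullback.fst g β ≫ (g ≫ h) := by
      rw [Functor.map_comp, Category.assoc, ← hbc, ← Category.assoc, ← Category.assoc,
        Category.assoc π, ← pullback.condition, Category.assoc]
    rw [e]
    exact hP.locP_comp hX hZ _ _ hfst hgh
  have key := P_of_retract hP hret hdesc hX' π σ hσ (tt ≫ v) c hc hq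
  exact ⟨T, t, hfl, hfp, hx, key⟩

end Groth.Agent.Lib.T2H1.LocSurj
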