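import Groth.Agent.Lib.T2H1RelPCring
import Groth.Agent.Lib.Helper20PullbackAff
import Groth.Agent.S6518
import Groth.Agent.S6935
import Groth.Agent.S6938
import Groth.Agent.Lib.T2H7PdPC
import Groth.Agent.Lib.Helper2FlatOver2

/-!
# Relative pseudo-coherence of a single module (helper1)

* `isQuasicoherent_of_push_spec`, `isQuasicoherent_of_push_affImm`: quasi-coherence is reflected by
  the direct image along a closed immersion of affine schemes.
* `nonempty_push_affImm_iso_tilde`: for quasi-coherent `M`, the direct image of `M|_U` along the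
  chart immersion is the tilde of `Γ(M, U)` over the test ring.
* `kdInDIso`, `chartPC_inD_iff`, `chartPC_zero_inD_iff_isFT`, `chartPC_neg_one_inD_iff_isFP`,
  `chartPC_inD_iff_isPCModule`: the chart test for a module in degree `0`.
* `isQuasicoherent_of_isPseudoCoherentRel`: `(-1)`-pseudo-coherent relative to `f` implies
  quasi-coherent.
* `finitePresentation_sections`, `isPseudoCoherentRel_of_flat` (flat over the base and relatively
  finitely presented implies pseudo-coherent relative to `f`).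
* `isPseudoCoherentRel_of_iso`, `singleIso`.
-/

set_option autoImplicit false
set_option linter.style.haveILetI false
universe u
open CategoryTheory CategoryTheory.Limits AlgebraicGeometry Opposite TopologicalSpace

namespace Groth.Agent.Lib.T2H1.RelPCmod

open Scheme.Modules PrimeSpectrum

section Reflect

variable {R S : CommRingCat.{u}} (φ : R ⟶ S)

open scoped ModuleCat.Algebra in
theorem isLocalizing_of_isLocalizing_pushforward (hφ : Function.Surjective φ.hom)
    {M : (Spec S).Modules}
    (h : IsLocalizing (modulesSpecToSheaf.obj ((Scheme.Modules.pushforward (Spec.map φ)).obj M))) :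
    IsLocalizing (modulesSpecToSheaf.obj M) := by
  rw [← Functor.comp_obj,
    isLocalizing_iff_of_iso ((pushforwardCompModulesSpecToSheafIso φ).app M)] at h
  intro f
  obtain ⟨g, rfl⟩ := hφ f
  have hg := h g
  have : CommRing ((Spec S).ringCatSheaf.obj.obj ((Opens.map (Spec.map φ).base).op.obj (op ⊤))) :=
    inferInstanceAs (CommRing Γ(Spec S, ⊤))
  algebraize [φ.hom]
  haveI : IsLocalizedModule (Submonoid.powers g) (LinearMap.restrictScalars R
      ((modulesSpecToSheaf.obj M).obj.map (basicOpen (φ.hom g)).leTop.op).hom) := hg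
  have h2 := IsLocalizedModule.of_restrictScalars (R := R) (A := S) (Submonoid.powers g)
    ((modulesSpecToSheaf.obj M).obj.map (basicOpen (φ.hom g)).leTop.op).hom
  rwa [Algebra.algebraMapSubmonoid_powers] at h2

theorem isQuasicoherent_of_push_spec (hφ : Function.Surjective φ.hom) (M : (Spec S).Modules)
    (h : ((Scheme.Modules.pushforward (Spec.map φ)).obj M).IsQuasicoherent) :
    M.IsQuasicoherent := by
  rw [isQuasicoherent_iff_isIso_fromTildeΓ, isIso_fromTildeΓ_iff_isLocalizing] at h ⊢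
  exact isLocalizing_of_isLocalizing_pushforward φ hφ h

end Reflect

section ReflectAff

open Groth.Agent.Lib.T2H1.RelPCpt

variable {X : Scheme.{u}} (U : X.Opens) (hU : IsAffineOpen U) {R : Type u} [CommRing R]
  (lam : R →+* Γ(X, U))

include hU in
theorem isQuasicoherent_of_push_affImm (hlam : Function.Surjective lam)
    (N : (U : Scheme.{u}).Modules)
    (h : ((pushforward (affImm U lam)).obj N).IsQuasicoherent) : N.IsQuasicoherent := by
  have e1 : (pushforward (Spec.map (CommRingCat.ofHom lam))).obj ((pushforward U.toSpecΓ).obj N) ≅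
      (pushforward (affImm U lam)).obj N :=
    (pushforwardComp U.toSpecΓ (Spec.map (CommRingCat.ofHom lam))).app N
  have h1 : ((pushforward (Spec.map (CommRingCat.ofHom lam))).obj
      ((pushforward U.toSpecΓ).obj N)).IsQuasicoherent :=
    Groth.Agent.Lib.T2H8.PCohQCoh.isQCoh_of_iso e1.symm h
  have h2 : ((pushforward U.toSpecΓ).obj N).IsQuasicoherent :=
    isQuasicoherent_of_push_spec (CommRingCat.ofHom lam) hlam _ h1
  have e2 : N ≅ (restrictFunctor hU.isoSpec.hom).obj ((pushforward U.toSpecΓ).obj N) :=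
    ((pushforwardId _).app N).symm ≪≫
      (pushforwardCongr (by rw [← hU.isoSpec_hom, Iso.hom_inv_id])).app N ≪≫
      ((pushforwardComp U.toSpecΓ hU.isoSpec.inv).app N).symm ≪≫
      ((Groth.Agent.Lib.T2H2.IsoBC.restrictIsoPushforward hU.isoSpec).app _).symm
  haveI := h2
  exact Groth.Agent.Lib.T2H8.PCohQCoh.isQCoh_of_iso e2.symm inferInstance

include hU in
theorem nonempty_push_affImm_iso_tilde (M : X.Modules) [M.IsQuasicoherent] :
    Nonempty ((pushforward (affImm U lam)).obj ((restrictFunctor U.ι).obj M) ≅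
      (tilde.functor (CommRingCat.of R)).obj
        ((ModuleCat.restrictScalars lam).obj (ModuleCat.of Γ(X, U) Γ(M, U)))) := by
  have e1 : (pushforward (affImm U lam)).obj ((restrictFunctor U.ι).obj M) ≅
      (pushforward (Spec.map (CommRingCat.ofHom lam))).obj
        ((pushforward hU.isoSpec.hom).obj ((restrictFunctor U.ι).obj M)) :=
    ((pushforwardComp U.toSpecΓ (Spec.map (CommRingCat.ofHom lam))).app _).symm
  have e2 : (pushforward hU.isoSpec.hom).obj ((restrictFunctor U.ι).obj M) ≅
      (restrictFunctor hU.isoSpec.inv).obj ((restrictFunctor U.ι).obj M) :=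
    ((Groth.Agent.Lib.T2H2.IsoBC.restrictIsoPushforward hU.isoSpec.symm).app _).symm
  have e3 : (restrictFunctor hU.isoSpec.inv).obj ((restrictFunctor U.ι).obj M) ≅
      (restrictFunctor hU.fromSpec).obj M :=
    ((restrictFunctorComp hU.isoSpec.inv U.ι).app M).symm ≪≫
      (restrictFunctorCongr hU.isoSpec_inv_ι).app M
  haveI : ((restrictFunctor hU.fromSpec).obj M).IsQuasicoherent :=
    Scheme.Modules.isQuasicoherent_restrictFunctor hU.fromSpec M
  have e4 : (restrictFunctor hU.fromSpec).obj M ≅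
      (tilde.functor Γ(X, U)).obj (ModuleCat.of Γ(X, U) Γ(M, U)) :=
    Groth.Agent.Lib.Helper20.OmegaAff.isoTildeOfΓIso _ _
      (Groth.Agent.Lib.Helper20.PullbackAff.ΓUEquiv hU M).symm.toModuleIso
  have e5 := (Groth.Agent.Lib.T2H2.TildePush.tildePushIso (CommRingCat.ofHom lam)).app
    (ModuleCat.of Γ(X, U) Γ(M, U))
  exact ⟨e1 ≪≫ (pushforward (Spec.map (CommRingCat.ofHom lam))).mapIso (e2 ≪≫ e3 ≪≫ e4) ≪≫ e5⟩

end ReflectAff

section KdMod

open Groth.Agent.Lib.T2H1.RelPCpt Groth.Agent.Lib.T2H8.PerfLocal Groth.Agent.Lib.T2H1.ClImmPC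

attribute [local instance] HasDerivedCategory.standard

variable {X : Scheme.{u}} (U : X.Opens) (hU : IsAffineOpen U) {R : Type u} [CommRing R]
  (lam : R →+* Γ(X, U)) (hlam : Function.Surjective lam)

/-- the chart complex of a module placed in degree `0` -/
noncomputable def kdInDIso (M : X.Modules) :
    Kd (DCoh.inD X M) U hU lam hlam ≅
      DCoh.inD _ ((pushforward (affImm U lam)).obj ((restrictFunctor U.ι).obj M)) :=
  haveI := isClosedImmersion_affImm U hU lam hlam
  (pD (affImm U lam)).mapIso (((restrictFunctor U.ι).mapDerivedCategorySingleFunctor 0).app M) ≪≫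
    ((pushforward (affImm U lam)).mapDerivedCategorySingleFunctor 0).app _


open Groth.Agent.Lib.T2H8.PCohRelBiprod Groth.Agent.Lib.T2H2.TildeLoc in
include hU in
/-- the chart test for a quasi-coherent module in degree `0`, on sections -/
theorem chartPC_inD_iff_isPCModule (M : X.Modules) [M.IsQuasicoherent] (m : ℤ) {S : Scheme.{u}}
    (V : S.Opens) {n : ℕ} (φ : MvPolynomial (Fin n) Γ(S, V) →+* Γ(X, U))
    (hφ : Function.Surjective φ) :
    DerSch.ChartPC m (DCoh.inD X M) U V φ ↔
      (letI : Module (MvPolynomial (Fin n) Γ(S, V)) Γ(M, U) := Module.compHom _ φ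
       DRing.IsPseudoCoherentModule (MvPolynomial (Fin n) Γ(S, V)) m Γ(M, U)) := by
  rw [chartPC_iff_forall_pwAt (DCoh.inD X M) m U hU V φ hφ, ← isPseudoCoherentD_Kd_iff]
  obtain ⟨e⟩ := nonempty_push_affImm_iso_tilde U hU φ M
  let Mod : ModuleCat.{u} (MvPolynomial (Fin n) Γ(S, V)) :=
    (ModuleCat.restrictScalars φ).obj (ModuleCat.of Γ(X, U) Γ(M, U))
  have ι : Kd (DCoh.inD X M) U hU φ hφ ≅
      (DCoh.tildeD (CommRingCat.of (MvPolynomial (Fin n) Γ(S, V)))).obj
        ((DerivedCategory.singleFunctor _ 0).obj Mod) :=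
    kdInDIso U hU φ hφ M ≪≫ (DerivedCategory.singleFunctor _ 0).mapIso e ≪≫
      (((tilde.functor (CommRingCat.of (MvPolynomial (Fin n) Γ(S, V)))).mapDerivedCategorySingleFunctor
        0).app Mod).symm
  constructor
  · intro h
    exact isPC_of_isPseudoCoherentD_tildeD _ _ m (isPseudoCoherentD_of_iso ι h)
  · intro h
    exact isPseudoCoherentD_of_iso ι.symm (isPseudoCoherentD_tildeD_of_isPC _ _ m h)


open Groth.Agent.Lib.T2H8.PCohRelBiprod in
include hU in
theorem chartPC_inD_iff (M : X.Modules) (m : ℤ) {S : Scheme.{u}}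
    (V : S.Opens) {n : ℕ} (φ : MvPolynomial (Fin n) Γ(S, V) →+* Γ(X, U))
    (hφ : Function.Surjective φ) :
    DerSch.ChartPC m (DCoh.inD X M) U V φ ↔
      DCoh.IsPseudoCoherentD m
        (DCoh.inD _ ((pushforward (affImm U φ)).obj ((restrictFunctor U.ι).obj M))) := by
  rw [chartPC_iff_forall_pwAt (DCoh.inD X M) m U hU V φ hφ, ← isPseudoCoherentD_Kd_iff]
  exact ⟨fun h => isPseudoCoherentD_of_iso (kdInDIso U hU φ hφ M) h,
    fun h => isPseudoCoherentD_of_iso (kdInDIso U hU φ hφ M).symm h⟩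

include hU in
theorem chartPC_zero_inD_iff_isFT (M : X.Modules) {S : Scheme.{u}}
    (V : S.Opens) {n : ℕ} (φ : MvPolynomial (Fin n) Γ(S, V) →+* Γ(X, U))
    (hφ : Function.Surjective φ) :
    DerSch.ChartPC 0 (DCoh.inD X M) U V φ ↔
      CohB1.IsFT ((pushforward (affImm U φ)).obj ((restrictFunctor U.ι).obj M)) := by
  rw [chartPC_inD_iff U hU M 0 V φ hφ]
  exact (Groth.Agent.S6518.result _).1

include hU in
theorem chartPC_neg_one_inD_iff_isFP (M : X.Modules) {S : Scheme.{u}}
    (V : S.Opens) {n : ℕ} (φ : MvPolynomial (Fin n) Γ(S, V) →+* Γ(X, U))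
    (hφ : Function.Surjective φ) :
    DerSch.ChartPC (-1) (DCoh.inD X M) U V φ ↔
      CohB1.IsFP ((pushforward (affImm U φ)).obj ((restrictFunctor U.ι).obj M)) := by
  rw [chartPC_inD_iff U hU M (-1) V φ hφ]
  exact (Groth.Agent.S6518.result _).2

end KdMod

section QCoh

open Groth.Agent.Lib.T2H1.RelPCpt

attribute [local instance] HasDerivedCategory.standard

variable {X S : Scheme.{u}} (f : X ⟶ S) [LocallyOfFiniteType f]

/-- a module which is `(-1)`-pseudo-coherent relative to `f` is quasi-coherent -/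
theorem isQuasicoherent_of_isPseudoCoherentRel (M : X.Modules)
    (h : DerSch.IsPseudoCoherentRel f (-1) (DCoh.inD X M)) : M.IsQuasicoherent := by
  rw [isPseudoCoherentRel_iff_forall_affine] at h
  let ι : Type u := {p : X.affineOpens × S.affineOpens // (p.1 : X.Opens) ≤ f ⁻¹ᵁ (p.2 : S.Opens)}
  refine Groth.Agent.Lib.Helper23.FinType.isQuasicoherent_of_open_cover M
    (fun p : ι => (p.1.1 : X.Opens)) ?_ (fun p => ?_)
  · rw [IsOpenCover, eq_top_iff]
    intro x _
    obtain ⟨_, ⟨V, hV, rfl⟩, hxV, -⟩ :=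
      S.isBasis_affineOpens.exists_subset_of_mem_open (Set.mem_univ (f x)) isOpen_univ
    obtain ⟨_, ⟨U, hU, rfl⟩, hxU, hUV⟩ :=
      X.isBasis_affineOpens.exists_subset_of_mem_open (show x ∈ ((f ⁻¹ᵁ V : X.Opens) : Set X) from hxV)
        (f ⁻¹ᵁ V).isOpen
    exact Opens.mem_iSup.2 ⟨⟨(⟨U, hU⟩, ⟨V, hV⟩), hUV⟩, hxU⟩
  · obtain ⟨n, φ, hφ, hPC⟩ := h p.1.1 p.1.2 p.2
    have h1 := (chartPC_neg_one_inD_iff_isFP _ p.1.1.2 M _ φ hφ.1).1 hPC
    haveI : SheafOfModules.IsFinitePresentation (R := (Spec _).ringCatSheaf)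
      ((pushforward (affImm (p.1.1 : X.Opens) φ)).obj ((restrictFunctor (p.1.1 : X.Opens).ι).obj M)) := h1
    exact isQuasicoherent_of_push_affImm _ p.1.1.2 φ hφ.1 _ inferInstance


/-- sections of a module which is `(-1)`-pseudo-coherent relative to `f` are finitely presented
over the polynomial ring of any chart -/
theorem finitePresentation_sections (M : X.Modules) [M.IsQuasicoherent]
    {U : X.Opens} (hU : IsAffineOpen U) {V : S.Opens} {n : ℕ}
    (φ : MvPolynomial (Fin n) Γ(S, V) →+* Γ(X, U)) (hφ : Function.Surjective φ)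
    (hPC : DerSch.ChartPC (-1) (DCoh.inD X M) U V φ) :
    letI : Module (MvPolynomial (Fin n) Γ(S, V)) Γ(M, U) := Module.compHom _ φ
    Module.FinitePresentation (MvPolynomial (Fin n) Γ(S, V)) Γ(M, U) := by
  letI : Module (MvPolynomial (Fin n) Γ(S, V)) Γ(M, U) := Module.compHom _ φ
  exact (Groth.Agent.S6935.result (MvPolynomial (Fin n) Γ(S, V)) Γ(M, U)).2.1
    ((chartPC_inD_iff_isPCModule U hU M (-1) V φ hφ).1 hPC)

/-- **key lemma**: a module flat over the base and `(-1)`-pseudo-coherent relative to `f` is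
pseudo-coherent relative to `f` -/
theorem isPseudoCoherentRel_of_flat (M : X.Modules) (hfl : FlatMod.IsFlatOver f M)
    (hfp : DerSch.IsPseudoCoherentRel f (-1) (DCoh.inD X M)) (m : ℤ) :
    DerSch.IsPseudoCoherentRel f m (DCoh.inD X M) := by
  haveI : M.IsQuasicoherent := isQuasicoherent_of_isPseudoCoherentRel f M hfp
  rw [isPseudoCoherentRel_iff_forall_affine] at hfp ⊢
  intro U V h
  obtain ⟨n, φ, hφ, hPC⟩ := hfp U V h
  refine ⟨n, φ, hφ, ?_⟩
  rw [chartPC_inD_iff_isPCModule _ U.2 M m _ φ hφ.1]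
  letI : Module (MvPolynomial (Fin n) Γ(S, (V : S.Opens))) Γ(M, (U : X.Opens)) :=
    Module.compHom _ φ
  haveI hfin : Module.FinitePresentation (MvPolynomial (Fin n) Γ(S, (V : S.Opens)))
      Γ(M, (U : X.Opens)) := finitePresentation_sections M U.2 φ hφ.1 hPC
  letI : Module Γ(S, (V : S.Opens)) Γ(M, (U : X.Opens)) :=
    Module.compHom _ (f.appLE (V : S.Opens) (U : X.Opens) h).hom
  haveI : Module.Flat Γ(S, (V : S.Opens)) Γ(M, (U : X.Opens)) :=
    Groth.Agent.Lib.Helper2.FlatOver.flat_sections_of_isFlatOverAt f M U.2 V.2 h (fun x _ => hfl x)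
  haveI : IsScalarTower Γ(S, (V : S.Opens)) (MvPolynomial (Fin n) Γ(S, (V : S.Opens)))
      Γ(M, (U : X.Opens)) := by
    refine ⟨fun a p y => ?_⟩
    change φ (a • p) • y = (f.appLE (V : S.Opens) (U : X.Opens) h).hom a • (φ p • y)
    rw [← hφ.2, MvPolynomial.smul_eq_C_mul, map_mul, mul_smul]
    rfl
  exact Groth.Agent.S6938.isPC_of_pc' _
    (Groth.Agent.Lib.T2H7.PdPC.isPseudoCoherentModule'_of_flat Γ(S, (V : S.Opens))
      (MvPolynomial (Fin n) Γ(S, (V : S.Opens))) Γ(M, (U : X.Opens))) m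

end QCoh

section Iso

open Groth.Agent.Lib.T2H1.RelPCpt

attribute [local instance] HasDerivedCategory.standard

variable {X S : Scheme.{u}} (f : X ⟶ S) [LocallyOfFiniteType f]

theorem isPseudoCoherentRel_of_iso (m : ℤ) {E E' : DCoh.D X} (e : E ≅ E') :
    DerSch.IsPseudoCoherentRel f m E ↔ DerSch.IsPseudoCoherentRel f m E' := by
  rw [isPseudoCoherentRel_iff_forall_relPt, isPseudoCoherentRel_iff_forall_relPt]
  exact forall_congr' fun x => relPt_of_iso f m e x

/-- the two ways of placing a module in degree `0` -/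
noncomputable def singleIso (M : X.Modules) :
    DCoh.toD X ((HomologicalComplex.single _ (ComplexShape.up ℤ) 0).obj M) ≅ DCoh.inD X M :=
  ((DerivedCategory.singleFunctorIsoCompQ X.Modules 0).app M).symm

end Iso

end Groth.Agent.Lib.T2H1.RelPCmod
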