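import Mathlib
import Groth.Agent.Lib.T2H3KerFPSch
import Groth.Agent.Lib.Helper2FlatOpen
import Groth.Agent.Lib.Helper4NormDelta

/-!
# Openness of the locus where a map of f.p. modules is injective with flat cokernel (helper3)

EGA IV 11.3.7 (openness part): for `f : X ⟶ Y` locally of finite presentation and `u : F' ⟶ F` a
morphism of finitely presented quasi-coherent modules, the set of `x` where `u_x` is injective and
`Coker u` is `f`-flat at `x` is open.
-/

set_option autoImplicit false
set_option linter.style.haveILetI false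
universe u
open CategoryTheory CategoryTheory.Limits AlgebraicGeometry TopologicalSpace Opposite
open Groth.Agent.Lib.Helper2.FPAff Groth.Agent.Helper18Fitt Groth.Agent.Helper18FittSh
open Groth.Agent.Helper18Strict Groth.Agent.Lib.Helper2.FlatOver
open Groth.Agent.Lib.Helper23.QCohLocal Groth.Agent.Lib.Helper4.NormDelta

namespace Groth.Agent.Lib.T2H3.InjFlatOpen

section Sections

variable {X : Scheme.{u}} {F' F : X.Modules} [F'.IsQuasicoherent] [F.IsQuasicoherent] (u : F' ⟶ F)

/-- exactness of `Γ(W, F') → Γ(W, F) → Γ(W, Coker u)` over an affine open. -/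
theorem exists_app_eq_of_cokernel_π_app_eq_zero {W : X.Opens} (hW : IsAffineOpen W) (m : Γ(F, W))
    (hm : (cokernel.π u).app W m = 0) : ∃ m' : Γ(F', W), u.app W m' = m := by
  haveI : (cokernel u).IsQuasicoherent := isQuasicoherent_cokernel u
  haveI : (kernel (cokernel.π u)).IsQuasicoherent := isQuasicoherent_kernel (cokernel.π u)
  haveI : (Abelian.image u).IsQuasicoherent := isQuasicoherent_kernel (cokernel.π u)
  have hk : (kernel.ι (cokernel.π u)).app W (OmegaSh.kerLift (cokernel.π u) W m hm) = m :=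
    OmegaSh.ι_kerLift _ W m hm
  obtain ⟨m', hm'⟩ := Groth.Agent.Lib.Helper23.FinType.surjective_app_of_epi
    (Abelian.factorThruImage u) hW (OmegaSh.kerLift (cokernel.π u) W m hm)
  refine ⟨m', ?_⟩
  have hfac : Abelian.factorThruImage u ≫ kernel.ι (cokernel.π u) = u := Abelian.image.fac u
  have h1 : u.app W m' = (kernel.ι (cokernel.π u)).app W ((Abelian.factorThruImage u).app W m') := by
    conv_lhs => rw [← hfac]
    rfl
  rw [h1, hm', hk]

theorem ker_appₗ_cokernel_π {W : X.Opens} (hW : IsAffineOpen W) :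
    LinearMap.ker (appₗ (cokernel.π u) W) = LinearMap.range (appₗ u W) := by
  ext m
  constructor
  · intro hm
    obtain ⟨m', hm'⟩ := exists_app_eq_of_cokernel_π_app_eq_zero u hW m hm
    exact ⟨m', hm'⟩
  · rintro ⟨m', rfl⟩
    show (cokernel.π u).app W (u.app W m') = 0
    rw [← ConcreteCategory.comp_apply, ← Scheme.Modules.Hom.comp_app, cokernel.condition,
      Scheme.Modules.Hom.zero_app]
    rfl

/-- the cokernel of a morphism of finitely presented quasi-coherent modules is finitely
presented. -/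
theorem isFinitePresentation_cokernel
    [SheafOfModules.IsFinitePresentation (R := X.ringCatSheaf) F']
    [SheafOfModules.IsFinitePresentation (R := X.ringCatSheaf) F] :
    SheafOfModules.IsFinitePresentation (R := X.ringCatSheaf) (cokernel u) := by
  haveI : (cokernel u).IsQuasicoherent := isQuasicoherent_cokernel u
  refine Groth.Agent.Lib.Helper2.FinPushFP.isFinitePresentation_of_finitePresentation_sections
    (cokernel u) (fun V : X.affineOpens => (V : X.Opens)) (iSup_affineOpens_eq_top X)
    (fun V => V.2) (fun V => ?_)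
  haveI : Module.FinitePresentation Γ(X, V.1) Γ(F, V.1) := finitePresentation_sections F V.2
  haveI : Module.FinitePresentation Γ(X, V.1) Γ(F', V.1) := finitePresentation_sections F' V.2
  refine Module.finitePresentation_of_surjective (appₗ (cokernel.π u) V.1)
    (Groth.Agent.Lib.Helper23.FinType.surjective_app_of_epi (cokernel.π u) V.2) ?_
  rw [ker_appₗ_cokernel_π u V.2, LinearMap.range_eq_map]
  exact Submodule.FG.map _ Module.Finite.fg_top

end Sections

section Main

variable {X Y : Scheme.{u}} (f : X ⟶ Y) [LocallyOfFinitePresentation f]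
  (F F' : X.Modules) [F.IsQuasicoherent] [F'.IsQuasicoherent]
  [SheafOfModules.IsFinitePresentation (R := X.ringCatSheaf) F]
  [SheafOfModules.IsFinitePresentation (R := X.ringCatSheaf) F'] (u : F' ⟶ F)

/-- over an affine open `W` (mapping into an affine `V`) on which `Coker u` is flat over the base,
the kernel of `u` on sections is finitely generated. -/
theorem fg_ker_appₗ {V : Y.Opens} (hV : IsAffineOpen V) {W : X.Opens} (hW : IsAffineOpen W)
    (e : W ≤ f ⁻¹ᵁ V) (hflat : ∀ x ∈ W, FlatMod.IsFlatOverAt f (cokernel u) x) :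
    (LinearMap.ker (appₗ u W)).FG := by
  haveI : (cokernel u).IsQuasicoherent := isQuasicoherent_cokernel u
  haveI hQfp : SheafOfModules.IsFinitePresentation (R := X.ringCatSheaf) (cokernel u) :=
    isFinitePresentation_cokernel u
  letI : Algebra Γ(Y, V) Γ(X, W) := (f.appLE V W e).hom.toAlgebra
  haveI : Algebra.FinitePresentation Γ(Y, V) Γ(X, W) := f.finitePresentation_appLE hV hW e
  letI : Module Γ(Y, V) Γ(cokernel u, W) := Module.compHom Γ(cokernel u, W) (f.appLE V W e).hom
  haveI : IsScalarTower Γ(Y, V) Γ(X, W) Γ(cokernel u, W) :=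
    ⟨fun a b m => by
      show (a • b) • m = (f.appLE V W e).hom a • (b • m)
      rw [Algebra.smul_def, mul_smul]
      rfl⟩
  haveI : Module.Flat Γ(Y, V) Γ(cokernel u, W) :=
    flat_sections_of_isFlatOverAt f (cokernel u) hW hV e hflat
  haveI : Module.FinitePresentation Γ(X, W) Γ(F, W) := finitePresentation_sections F hW
  haveI : Module.FinitePresentation Γ(X, W) Γ(F', W) := finitePresentation_sections F' hW
  haveI : Module.FinitePresentation Γ(X, W) Γ(cokernel u, W) :=
    @finitePresentation_sections _ (cokernel u) _ hQfp _ hW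
  have hsurj : Function.Surjective (appₗ (cokernel.π u) W) :=
    Groth.Agent.Lib.Helper23.FinType.surjective_app_of_epi (cokernel.π u) hW
  haveI hfp : Module.FinitePresentation Γ(X, W) (LinearMap.ker (appₗ (cokernel.π u) W)) :=
    Groth.Agent.Lib.T2H3.KerFP.finitePresentation_ker_of_flat Γ(Y, V) Γ(X, W)
      (appₗ (cokernel.π u) W) hsurj
  -- `Γ(F', W) → Ker` is surjective, with kernel `Ker u_W`
  let v : Γ(F', W) →ₗ[Γ(X, W)] LinearMap.ker (appₗ (cokernel.π u) W) :=
    (appₗ u W).codRestrict _ (fun m => by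
      rw [ker_appₗ_cokernel_π u hW]
      exact ⟨m, rfl⟩)
  have hv : Function.Surjective v := by
    rintro ⟨m, hm⟩
    rw [ker_appₗ_cokernel_π u hW] at hm
    obtain ⟨m', rfl⟩ := hm
    exact ⟨m', rfl⟩
  have hker : LinearMap.ker v = LinearMap.ker (appₗ u W) := LinearMap.ker_codRestrict _ _ _
  rw [← hker]
  exact Module.FinitePresentation.fg_ker v hv

open Groth.Agent.Lib.Helper3.FlatOpen in
/-- **EGA IV 11.3.7, openness**: the set of points where `u_x` is injective and `Coker u` is
`f`-flat is open. -/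
theorem isOpen_setOf_injective_and_flat :
    IsOpen {x : X | Function.Injective (stalkHom u x) ∧
      FlatMod.IsFlatOverAt f (cokernel u) x} := by
  haveI : (cokernel u).IsQuasicoherent := isQuasicoherent_cokernel u
  have hQfp : SheafOfModules.IsFinitePresentation (R := X.ringCatSheaf) (cokernel u) :=
    isFinitePresentation_cokernel u
  have hΩ : IsOpen {x : X | FlatMod.IsFlatOverAt f (cokernel u) x} :=
    @Groth.Agent.Lib.Helper2.FinPres.isOpen_setOf_isFlatOverAt _ _ f _ (cokernel u) _ hQfp
  rw [isOpen_iff_forall_mem_open]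
  rintro x ⟨hinj, hfl⟩
  obtain ⟨V, hV, hfxV, -⟩ := exists_isAffineOpen_mem_and_subset (x := f x) (U := ⊤) trivial
  obtain ⟨W, hW, hxW, hWle⟩ := exists_isAffineOpen_mem_and_subset (x := x)
    (U := f ⁻¹ᵁ V ⊓ ⟨_, hΩ⟩) ⟨hfxV, hfl⟩
  have e : W ≤ f ⁻¹ᵁ V := hWle.trans inf_le_left
  have hflW : ∀ x' ∈ W, FlatMod.IsFlatOverAt f (cokernel u) x' := fun x' hx' => (hWle hx').2
  have hfg := fg_ker_appₗ f F F' u hV hW e hflW
  -- all elements of the kernel are torsion at `x`
  have htors : ∀ z ∈ LinearMap.ker (appₗ u W),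
      ∃ s ∈ (hW.primeIdealOf ⟨x, hxW⟩).asIdeal.primeCompl, s • z = 0 := by
    intro z hz
    have h0 : F'.presheaf.germ W x hxW z = 0 := by
      apply hinj
      rw [stalkHom_germ, map_zero]
      have hz' : u.app W z = 0 := hz
      rw [hz', map_zero]
    letI := moduleStalkSections F' W x hxW
    haveI := isLocalizedModule_germ hW F' x hxW
    obtain ⟨c, hc⟩ := (IsLocalizedModule.eq_zero_iff
      (hW.primeIdealOf ⟨x, hxW⟩).asIdeal.primeCompl (germₗ F' W x hxW)).mp h0
    exact ⟨c.1, c.2, hc⟩
  obtain ⟨g, hg, hgz⟩ := exists_smul_eq_zero_of_fg _ _ hfg htors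
  have hxg : x ∈ X.basicOpen g :=
    (Groth.Agent.Lib.Helper2.mem_basicOpen_iff_notMem_primeIdealOf hW x hxW g).mpr hg
  refine ⟨(X.basicOpen g : Set X), ?_, (X.basicOpen g).2, hxg⟩
  intro x' hx'
  have hx'W : x' ∈ W := X.basicOpen_le g hx'
  have hg' : g ∈ (hW.primeIdealOf ⟨x', hx'W⟩).asIdeal.primeCompl :=
    (Groth.Agent.Lib.Helper2.mem_basicOpen_iff_notMem_primeIdealOf hW x' hx'W g).mp hx'
  refine ⟨?_, hflW x' hx'W⟩
  letI := moduleStalkSections F' W x' hx'W
  haveI := isLocalizedModule_germ hW F' x' hx'W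
  letI := moduleStalkSections F W x' hx'W
  haveI := isLocalizedModule_germ hW F x' hx'W
  rw [injective_iff_map_eq_zero]
  intro y hy
  obtain ⟨⟨m, t⟩, hmt⟩ := IsLocalizedModule.surj
    (hW.primeIdealOf ⟨x', hx'W⟩).asIdeal.primeCompl (germₗ F' W x' hx'W) y
  -- `u_{x'} (germ m) = 0`
  have h1 : F.presheaf.germ W x' hx'W (u.app W m) = 0 := by
    rw [← stalkHom_germ]
    have h2 : F'.presheaf.germ W x' hx'W m = X.presheaf.germ W x' hx'W t.1 • y := hmt.symm
    rw [h2, stalkHom_smul, hy, smul_zero]
  obtain ⟨c, hc⟩ := (IsLocalizedModule.eq_zero_iff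
    (hW.primeIdealOf ⟨x', hx'W⟩).asIdeal.primeCompl (germₗ F W x' hx'W)).mp h1
  have hcm : c.1 • m ∈ LinearMap.ker (appₗ u W) := by
    rw [LinearMap.mem_ker, map_smul]
    exact hc
  have h3 : g • (c.1 • m) = 0 := hgz _ hcm
  have h4 : germₗ F' W x' hx'W m = 0 := by
    rw [IsLocalizedModule.eq_zero_iff (hW.primeIdealOf ⟨x', hx'W⟩).asIdeal.primeCompl]
    refine ⟨⟨g, hg'⟩ * c, ?_⟩
    rw [Submonoid.smul_def, Submonoid.coe_mul, mul_smul]
    exact h3
  have h5 : t • y = 0 := hmt.trans h4
  exact IsLocalizedModule.smul_injective (germₗ F' W x' hx'W) t (h5.trans (smul_zero t).symm)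

end Main

end Groth.Agent.Lib.T2H3.InjFlatOpen
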