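import Mathlib
import Groth.Agent.Lib.T2H3KerFPSch
import Groth.Agent.Lib.Helper23Extend
import Groth.Agent.S9498

/-!
# Extension of finitely presented quasi-coherent modules from quasi-compact opens of affine schemes (helper2)

Namespace `Groth.Agent.Lib.T2H2.FPExt`.

* `isFiniteType_kernel` : the kernel of an epimorphism from a finite type quasi-coherent module onto a finitely
  presented one is of finite type.
* `Φ A U : ModuleCat A ⥤ U.Modules`, `M ↦ M^~|_U`, and its exactness `Φ_shortExact`.
* `exists_finite_tilde_restrict_iso'` : finite type quasi-coherent on a quasi-compact open `U ⊆ Spec A` is `N^~|_U`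
  with `N` finite.
* `exists_fp_tilde_restrict_iso` : finitely presented quasi-coherent on a quasi-compact open `U ⊆ Spec A` is `M^~|_U`
  with `M` finitely presented.
-/

set_option autoImplicit false
universe u
open CategoryTheory CategoryTheory.Limits AlgebraicGeometry TopologicalSpace Opposite

namespace Groth.Agent.Lib.T2H2.FPExt

open Groth.Agent.Lib.Helper2.FPAff Groth.Agent.Helper18Strict
open Groth.Agent.Lib.Helper23.QCohLocal Groth.Agent.Lib.Helper23.FinType
open Groth.Agent.Lib.Helper23.Extend

attribute [local instance] Groth.Agent.Lib.Helper23.QCohLocal.restrictFunctor_isRightAdjoint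

/-- the kernel of an epimorphism from a finite type module onto a finitely presented module is of finite type -/
theorem isFiniteType_kernel {X : Scheme.{u}} (G H : X.Modules) [G.IsQuasicoherent] [H.IsQuasicoherent]
    [SheafOfModules.IsFiniteType (R := X.ringCatSheaf) G]
    [SheafOfModules.IsFinitePresentation (R := X.ringCatSheaf) H] (p : G ⟶ H) [Epi p] :
    SheafOfModules.IsFiniteType (R := X.ringCatSheaf) (kernel p) := by
  have : (kernel p).IsQuasicoherent := isQuasicoherent_kernel p
  refine (isFiniteType_iff_forall_affine (kernel p)).2 ?_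
  intro W hW
  have hsurj : Function.Surjective (appₗ p W) := surjective_app_of_epi p hW
  have : Module.Finite Γ(X, W) Γ(G, W) := finite_of_isFiniteType G hW
  have : Module.FinitePresentation Γ(X, W) Γ(H, W) := finitePresentation_sections H hW
  have hfg := Module.FinitePresentation.fg_ker (appₗ p W) hsurj
  obtain ⟨ε⟩ := nonempty_kernel_sections_equiv p W
  have : Module.Finite Γ(X, W) (LinearMap.ker (appₗ p W)) := Module.Finite.iff_fg.2 hfg
  exact Module.Finite.equiv ε.symm

variable (A : CommRingCat.{u})

/-- the exact functor `M ↦ M^~|_U` -/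
noncomputable abbrev Φ (U : (Spec A).Opens) :
    ModuleCat.{u} A ⥤ (U : Scheme.{u}).Modules :=
  tilde.functor A ⋙ Scheme.Modules.restrictFunctor U.ι

theorem Φ_shortExact (U : (Spec A).Opens) (S : ShortComplex (ModuleCat.{u} A))
    (hS : S.ShortExact) : (S.map (Φ A U)).ShortExact := by
  obtain ⟨h1, h2⟩ := Groth.Agent.S9498.aux A
  have h3 : (S.map (tilde.functor A)).ShortExact := hS.map_of_exact (tilde.functor A)
  exact h3.map_of_exact (Scheme.Modules.restrictFunctor U.ι)

/-- every quasi-coherent finite type module on a quasi-compact open of `Spec A` is the restriction of the tilde of a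
finite module (version over `A : CommRingCat`) -/
theorem exists_finite_tilde_restrict_iso' (U : (Spec A).Opens)
    (hU : IsCompact (U : Set (Spec A))) [QuasiCompact U.ι]
    (G : (U : Scheme.{u}).Modules) [G.IsQuasicoherent]
    [SheafOfModules.IsFiniteType (R := (U : Scheme.{u}).ringCatSheaf) G] :
    ∃ (N : ModuleCat.{u} A) (_ : Module.Finite A N), Nonempty ((Φ A U).obj N ≅ G) := by
  let P := (Scheme.Modules.pushforward U.ι).obj G
  have hP : P.IsQuasicoherent := Groth.Agent.Lib.Helper23.QCohLocal.isQuasicoherent_pushforward U.ι G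
  let e2 : P.restrict U.ι ≅ G := (asIso (Scheme.Modules.restrictAdjunction U.ι).counit).app G
  have hft : SheafOfModules.IsFiniteType (R := (U : Scheme.{u}).ringCatSheaf) (P.restrict U.ι) :=
    Groth.Agent.Lib.Helper23.FinType.isFiniteType_of_iso e2.symm
  obtain ⟨N, hN, c, hc, hiso⟩ := exists_finite_mono_isIso_restrict A P U hU
  exact ⟨N, hN, ⟨@asIso _ _ _ _ ((Scheme.Modules.restrictFunctor U.ι).map (adjTilde A P c)) hiso ≪≫ e2⟩⟩

/-- **Extension of finitely presented modules**: every quasi-coherent finitely presented module on a quasi-compact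
open `U` of `Spec A` is the restriction of the tilde of a finitely presented `A`-module. -/
theorem exists_fp_tilde_restrict_iso (U : (Spec A).Opens)
    (hU : IsCompact (U : Set (Spec A))) [QuasiCompact U.ι]
    (G : (U : Scheme.{u}).Modules) [G.IsQuasicoherent]
    [SheafOfModules.IsFinitePresentation (R := (U : Scheme.{u}).ringCatSheaf) G] :
    ∃ (M : ModuleCat.{u} A) (_ : Module.FinitePresentation A M), Nonempty ((Φ A U).obj M ≅ G) := by
  have : SheafOfModules.IsFiniteType (R := (U : Scheme.{u}).ringCatSheaf) G := inferInstance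
  obtain ⟨N₁, hN₁, ⟨e₁⟩⟩ := exists_finite_tilde_restrict_iso' A U hU G
  obtain ⟨s, f, hf⟩ := Module.Finite.exists_fin' A N₁
  let L : ModuleCat.{u} A := ModuleCat.of A (Fin s → A)
  let π : L ⟶ N₁ := ModuleCat.ofHom f
  have hπ : Epi π := (ModuleCat.epi_iff_surjective π).2 hf
  let S : ShortComplex (ModuleCat.{u} A) := ShortComplex.mk (kernel.ι π) π (kernel.condition π)
  have hS : S.ShortExact :=
    { exact := ShortComplex.exact_kernel π
      mono_f := inferInstanceAs (Mono (kernel.ι π))
      epi_g := hπ }
  have hS' := Φ_shortExact A U S hS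
  -- `Φ L` is of finite type
  have hLfp : Module.FinitePresentation A L := inferInstanceAs (Module.FinitePresentation A (Fin s → A))
  have hL1 : SheafOfModules.IsFinitePresentation (R := (Spec A).ringCatSheaf) (tilde L) :=
    (isFinitePresentation_tilde_iff A L).2 hLfp
  have hL2 : SheafOfModules.IsFiniteType (R := (Spec A).ringCatSheaf) (tilde L) := inferInstance
  have hL3 : SheafOfModules.IsFiniteType (R := (U : Scheme.{u}).ringCatSheaf) ((Φ A U).obj L) :=
    isFiniteType_restrict U.ι (tilde L)
  -- the epimorphism onto `G`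
  let p : (Φ A U).obj L ⟶ G := (Φ A U).map π ≫ e₁.hom
  have hp1 : Epi ((Φ A U).map π) := hS'.epi_g
  have hp : Epi p := epi_comp _ _
  have hLq : ((Φ A U).obj L).IsQuasicoherent := Scheme.Modules.isQuasicoherent_restrictFunctor U.ι (tilde L)
  have hK := isFiniteType_kernel ((Φ A U).obj L) G p
  let eK : kernel p ≅ (Φ A U).obj (kernel π) :=
    kernelCompMono ((Φ A U).map π) e₁.hom ≪≫
      IsLimit.conePointUniqueUpToIso (kernelIsKernel ((Φ A U).map π)) hS'.fIsKernel
  have hK' : SheafOfModules.IsFiniteType (R := (U : Scheme.{u}).ringCatSheaf) ((Φ A U).obj (kernel π)) :=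
    @isFiniteType_of_iso _ _ _ eK hK
  have hK'' : SheafOfModules.IsFiniteType (R := (U : Scheme.{u}).ringCatSheaf)
      ((tilde (kernel π)).restrict U.ι) := hK'
  obtain ⟨N', hN', c, hc, hiso⟩ := exists_finite_mono_isIso_restrict A (tilde (kernel π)) U hU
  let j' : N' ⟶ kernel π := (tilde.functor A).preimage (adjTilde A (tilde (kernel π)) c)
  have hj' : (tilde.functor A).map j' = adjTilde A (tilde (kernel π)) c := Functor.map_preimage _ _
  let j : N' ⟶ L := j' ≫ kernel.ι π
  let M : ModuleCat.{u} A := ModuleCat.of A (L ⧸ LinearMap.range j.hom)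
  have hM : Module.FinitePresentation A M := by
    have hfree : Module.Free A L := inferInstanceAs (Module.Free A (Fin s → A))
    have hfin : Module.Finite A L := inferInstanceAs (Module.Finite A (Fin s → A))
    refine Module.finitePresentation_of_free_of_surjective (LinearMap.range j.hom).mkQ
      (Submodule.mkQ_surjective _) ?_
    rw [Submodule.ker_mkQ, LinearMap.range_eq_map]
    exact Submodule.FG.map _ Module.Finite.fg_top
  have i₂ : IsColimit ((ModuleCat.cokernelCocone j).map (Φ A U)) :=
    CokernelCofork.mapIsColimit _ (ModuleCat.cokernelIsColimit j) (Φ A U)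
  have ht : IsIso ((Φ A U).map j') := by
    have : (Φ A U).map j' = (Scheme.Modules.restrictFunctor U.ι).map ((tilde.functor A).map j') := rfl
    rw [this, hj']
    exact hiso
  have ht' : Epi ((Φ A U).map j') := inferInstance
  have i₃ : IsColimit (CokernelCofork.ofπ ((Φ A U).map π)
      (show (Φ A U).map j ≫ (Φ A U).map π = 0 by
        rw [← Functor.map_comp, Category.assoc, kernel.condition, comp_zero, Functor.map_zero]) :
      CokernelCofork ((Φ A U).map j)) :=
    isCokernelEpiComp (hg := ht') hS'.gIsCokernel ((Φ A U).map j') (Functor.map_comp _ _ _)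
  exact ⟨M, hM, ⟨IsColimit.coconePointUniqueUpToIso i₂ i₃ ≪≫ e₁⟩⟩

end Groth.Agent.Lib.T2H2.FPExt
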