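import Mathlib
import Groth.Agent.Lib.T2H2FPExt
import Groth.Agent.Lib.Helper23Extend2
import Groth.Agent.Lib.Helper2FPAff
set_option backward.isDefEq.respectTransparency.types false

/-!
# T2H5FPExtend: extension of finitely presented modules from quasi-compact opens (helper5)

Namespace `Groth.Agent.Lib.T2H5.FPExtend`.

* `exists_fp_map_isIso_restrict` : `B` quasi-coherent on `Spec A`, finitely presented on a quasi-compact open `Ω`
  ⇒ a finitely presented `A`-module `M` with a map `c : M ⟶ Γ(B)` whose adjoint `M^~ ⟶ B` is an iso on `Ω`.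
-/

set_option autoImplicit false
set_option linter.style.haveILetI false
set_option linter.unusedSectionVars false
universe u
open CategoryTheory CategoryTheory.Limits AlgebraicGeometry TopologicalSpace Opposite

namespace Groth.Agent.Lib.T2H5.FPExtend

open Groth.Agent.Lib.Helper2.FPAff Groth.Agent.Helper18Strict
open Groth.Agent.Lib.Helper23.QCohLocal Groth.Agent.Lib.Helper23.FinType
open Groth.Agent.Lib.Helper23.Extend Groth.Agent.Lib.T2H2.FPExt

attribute [local instance] Groth.Agent.Lib.Helper23.QCohLocal.restrictFunctor_isRightAdjoint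

section affine
variable (A : CommRingCat.{u})

theorem adjTilde_comp (B : (Spec A).Modules) {M N : ModuleCat.{u} A} (q : M ⟶ N) (c : N ⟶ (ΓF A).obj B) :
    adjTilde A B (q ≫ c) = (tilde.functor A).map q ≫ adjTilde A B c :=
  (tildeΓAdj A).homEquiv_naturality_left_symm q c

/-- **Extension of finitely presented modules with a map** (affine case). -/
theorem exists_fp_map_isIso_restrict (B : (Spec A).Modules) [B.IsQuasicoherent] (Ω : (Spec A).Opens)
    (hΩ : IsCompact (Ω : Set (Spec A)))
    [SheafOfModules.IsFinitePresentation (R := (Ω : Scheme.{u}).ringCatSheaf) (B.restrict Ω.ι)] :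
    ∃ (M : ModuleCat.{u} A) (_ : Module.FinitePresentation A M) (c : M ⟶ (ΓF A).obj B),
      IsIso ((Scheme.Modules.restrictFunctor Ω.ι).map (adjTilde A B c)) := by
  have : SheafOfModules.IsFiniteType (R := (Ω : Scheme.{u}).ringCatSheaf) (B.restrict Ω.ι) := inferInstance
  obtain ⟨N₁, hN₁, c₁, hc₁, hiso₁⟩ := exists_finite_mono_isIso_restrict A B Ω hΩ
  obtain ⟨s, f, hf⟩ := Module.Finite.exists_fin' A N₁
  let L : ModuleCat.{u} A := ModuleCat.of A (Fin s → A)
  let π : L ⟶ N₁ := ModuleCat.ofHom f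
  have hπ : Epi π := (ModuleCat.epi_iff_surjective π).2 hf
  let S : ShortComplex (ModuleCat.{u} A) := ShortComplex.mk (kernel.ι π) π (kernel.condition π)
  have hS : S.ShortExact :=
    { exact := ShortComplex.exact_kernel π
      mono_f := inferInstanceAs (Mono (kernel.ι π))
      epi_g := hπ }
  have hS' := Φ_shortExact A Ω S hS
  have hLfp : Module.FinitePresentation A L := inferInstanceAs (Module.FinitePresentation A (Fin s → A))
  have hL1 : SheafOfModules.IsFinitePresentation (R := (Spec A).ringCatSheaf) (tilde L) :=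
    (isFinitePresentation_tilde_iff A L).2 hLfp
  have hL2 : SheafOfModules.IsFiniteType (R := (Spec A).ringCatSheaf) (tilde L) := inferInstance
  have hL3 : SheafOfModules.IsFiniteType (R := (Ω : Scheme.{u}).ringCatSheaf) ((Φ A Ω).obj L) :=
    isFiniteType_restrict Ω.ι (tilde L)
  let e₁ : (Φ A Ω).obj N₁ ≅ B.restrict Ω.ι :=
    @asIso _ _ _ _ ((Scheme.Modules.restrictFunctor Ω.ι).map (adjTilde A B c₁)) hiso₁
  let p : (Φ A Ω).obj L ⟶ B.restrict Ω.ι := (Φ A Ω).map π ≫ e₁.hom
  have hp1 : Epi ((Φ A Ω).map π) := hS'.epi_g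
  have hp : Epi p := epi_comp _ _
  have hLq : ((Φ A Ω).obj L).IsQuasicoherent := Scheme.Modules.isQuasicoherent_restrictFunctor Ω.ι (tilde L)
  have hBq : (B.restrict Ω.ι).IsQuasicoherent := Scheme.Modules.isQuasicoherent_restrictFunctor Ω.ι B
  have hK := isFiniteType_kernel ((Φ A Ω).obj L) (B.restrict Ω.ι) p
  let eK : kernel p ≅ (Φ A Ω).obj (kernel π) :=
    kernelCompMono ((Φ A Ω).map π) e₁.hom ≪≫
      IsLimit.conePointUniqueUpToIso (kernelIsKernel ((Φ A Ω).map π)) hS'.fIsKernel
  have hK' : SheafOfModules.IsFiniteType (R := (Ω : Scheme.{u}).ringCatSheaf) ((Φ A Ω).obj (kernel π)) :=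
    @isFiniteType_of_iso _ _ _ eK hK
  have hK'' : SheafOfModules.IsFiniteType (R := (Ω : Scheme.{u}).ringCatSheaf)
      ((tilde (kernel π)).restrict Ω.ι) := hK'
  obtain ⟨N', hN', c', hc', hiso'⟩ := exists_finite_mono_isIso_restrict A (tilde (kernel π)) Ω hΩ
  let j' : N' ⟶ kernel π := (tilde.functor A).preimage (adjTilde A (tilde (kernel π)) c')
  have hj' : (tilde.functor A).map j' = adjTilde A (tilde (kernel π)) c' := Functor.map_preimage _ _
  let j : N' ⟶ L := j' ≫ kernel.ι π
  let M : ModuleCat.{u} A := ModuleCat.of A (L ⧸ LinearMap.range j.hom)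
  have hM : Module.FinitePresentation A M := by
    have hfree : Module.Free A L := inferInstanceAs (Module.Free A (Fin s → A))
    have hfin : Module.Finite A L := inferInstanceAs (Module.Finite A (Fin s → A))
    refine Module.finitePresentation_of_free_of_surjective (LinearMap.range j.hom).mkQ
      (Submodule.mkQ_surjective _) ?_
    rw [Submodule.ker_mkQ, LinearMap.range_eq_map]
    exact Submodule.FG.map _ Module.Finite.fg_top
  have hjπ : j ≫ π = 0 := by rw [Category.assoc, kernel.condition, comp_zero]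
  have hle : LinearMap.range j.hom ≤ LinearMap.ker π.hom := by
    rintro _ ⟨x, rfl⟩
    have := congrArg (fun φ => φ.hom x) hjπ
    exact this
  let q : M ⟶ N₁ := ModuleCat.ofHom ((LinearMap.range j.hom).liftQ π.hom hle)
  have hq : (ModuleCat.cokernelCocone j).ι.app WalkingParallelPair.one ≫ q = π := by
    ext x
    rfl
  have i₂ : IsColimit ((ModuleCat.cokernelCocone j).map (Φ A Ω)) :=
    CokernelCofork.mapIsColimit _ (ModuleCat.cokernelIsColimit j) (Φ A Ω)
  have ht : IsIso ((Φ A Ω).map j') := by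
    have : (Φ A Ω).map j' = (Scheme.Modules.restrictFunctor Ω.ι).map ((tilde.functor A).map j') := rfl
    rw [this, hj']
    exact hiso'
  have ht' : Epi ((Φ A Ω).map j') := inferInstance
  have i₃ : IsColimit (CokernelCofork.ofπ ((Φ A Ω).map π)
      (show (Φ A Ω).map j ≫ (Φ A Ω).map π = 0 by
        rw [← Functor.map_comp, Category.assoc, kernel.condition, comp_zero, Functor.map_zero]) :
      CokernelCofork ((Φ A Ω).map j)) :=
    isCokernelEpiComp (hg := ht') hS'.gIsCokernel ((Φ A Ω).map j') (Functor.map_comp _ _ _)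
  let d := IsColimit.coconePointUniqueUpToIso i₂ i₃
  have hd : (Φ A Ω).map q = d.hom := by
    apply Cofork.IsColimit.hom_ext i₂
    have h1 := IsColimit.comp_coconePointUniqueUpToIso_hom i₂ i₃ WalkingParallelPair.one
    rw [Cofork.π, h1]
    change (Φ A Ω).map ((ModuleCat.cokernelCocone j).ι.app WalkingParallelPair.one) ≫ (Φ A Ω).map q = (Φ A Ω).map π
    rw [← Functor.map_comp, hq]
  refine ⟨M, hM, q ≫ c₁, ?_⟩
  rw [adjTilde_comp, Functor.map_comp]
  have h2 : (Scheme.Modules.restrictFunctor Ω.ι).map ((tilde.functor A).map q) = d.hom := hd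
  rw [h2]
  infer_instance

end affine

section scheme
variable {X : Scheme.{u}}

/-- `M` is finitely presented on the open `W`: sections over affine opens inside `W` are finitely presented -/
def FPOn (M : X.Modules) (W : X.Opens) : Prop :=
  ∀ W' : X.Opens, IsAffineOpen W' → W' ≤ W → Module.FinitePresentation Γ(X, W') Γ(M, W')

theorem FPOn.mono {M : X.Modules} {W W₁ : X.Opens} (h : FPOn M W) (hle : W₁ ≤ W) : FPOn M W₁ :=
  fun W' hW' hW'le => h W' hW' (hW'le.trans hle)

theorem fp_restrict_iff {Y : Scheme.{u}} (j : Y ⟶ X) [IsOpenImmersion j] (M : X.Modules) (W : Y.Opens) :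
    Module.FinitePresentation Γ(Y, W) Γ(M.restrict j, W) ↔
      Module.FinitePresentation Γ(X, j ''ᵁ W) Γ(M, j ''ᵁ W) := by
  refine finitePresentation_iff_of_semilinear (j.appIso W).inv.hom ?_ (AddEquiv.refl _) (fun r x => ?_)
  · exact ConcreteCategory.bijective_of_isIso (j.appIso W).inv
  · exact Scheme.Modules.smul_restrictAppIso_hom_apply j M W r x

theorem fp_iff_of_eq (M : X.Modules) {U W : X.Opens} (h : W = U) :
    Module.FinitePresentation Γ(X, W) Γ(M, W) ↔ Module.FinitePresentation Γ(X, U) Γ(M, U) := by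
  subst h; rfl

/-- transfer of finite presentation of sections along an isomorphism of modules -/
theorem fp_of_iso {Y : Scheme.{u}} {A B : Y.Modules} (e : A ≅ B) (W : Y.Opens)
    (h : Module.FinitePresentation Γ(Y, W) Γ(B, W)) : Module.FinitePresentation Γ(Y, W) Γ(A, W) := by
  have hbij : Function.Bijective (e.hom.app W) := by
    have : IsIso (e.hom.app W) := inferInstance
    exact ConcreteCategory.bijective_of_isIso (e.hom.app W)
  let ε : Γ(A, W) ≃ₗ[Γ(Y, W)] Γ(B, W) :=
    LinearEquiv.ofBijective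
      { toFun := fun x => e.hom.app W x
        map_add' := fun x y => map_add _ x y
        map_smul' := fun r x => Scheme.Modules.Hom.app_smul e.hom r x } hbij
  exact Module.FinitePresentation.of_equiv ε.symm

theorem fpOn_of_iso_restrict {Z : Scheme.{u}} (k : Z ⟶ X) [IsOpenImmersion k] (M : X.Modules)
    (G : Z.Modules) [G.IsQuasicoherent] [SheafOfModules.IsFinitePresentation (R := Z.ringCatSheaf) G]
    (e : M.restrict k ≅ G) : FPOn M k.opensRange := by
  intro W hW hWV
  have hW' : IsAffineOpen (k ⁻¹ᵁ W) := hW.preimage_of_isOpenImmersion k hWV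
  have himg : k ''ᵁ (k ⁻¹ᵁ W) = W := by
    rw [Scheme.Hom.image_preimage_eq_opensRange_inf]
    exact inf_eq_right.2 hWV
  have h1 : Module.FinitePresentation Γ(Z, k ⁻¹ᵁ W) Γ(G, k ⁻¹ᵁ W) := finitePresentation_sections G hW'
  have h2 := fp_of_iso e (k ⁻¹ᵁ W) h1
  rw [fp_restrict_iff] at h2
  exact (fp_iff_of_eq M himg).1 h2

theorem isFP_restrict_of_fpOn {Z : Scheme.{u}} (k : Z ⟶ X) [IsOpenImmersion k] (M : X.Modules)
    [M.IsQuasicoherent] {U : X.Opens} (h : FPOn M U) (hk : k.opensRange ≤ U) :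
    SheafOfModules.IsFinitePresentation (R := Z.ringCatSheaf) (M.restrict k) := by
  haveI : (M.restrict k).IsQuasicoherent := Scheme.Modules.isQuasicoherent_restrictFunctor k M
  refine Groth.Agent.Lib.Helper2.FinPushFP.isFinitePresentation_of_finitePresentation_sections (M.restrict k)
    (fun V : Z.affineOpens => (V : Z.Opens)) (iSup_affineOpens_eq_top Z) (fun V => V.2) (fun V => ?_)
  rw [fp_restrict_iff]
  exact h _ (V.2.image_of_isOpenImmersion k) ((Scheme.Hom.image_le_opensRange k _).trans hk)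

theorem isFP_of_fpOn_top (M : X.Modules) [M.IsQuasicoherent] (h : FPOn M ⊤) :
    SheafOfModules.IsFinitePresentation (R := X.ringCatSheaf) M :=
  Groth.Agent.Lib.Helper2.FinPushFP.isFinitePresentation_of_finitePresentation_sections M
    (fun V : X.affineOpens => (V : X.Opens)) (iSup_affineOpens_eq_top X) (fun V => V.2)
    (fun V => h V.1 V.2 le_top)

theorem FPOn.sup {M : X.Modules} [M.IsQuasicoherent] {U V : X.Opens} (hU : FPOn M U) (hV : FPOn M V) :
    FPOn M (U ⊔ V) := by
  intro W hW hWle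
  let s : Set Γ(X, W) := {f | X.basicOpen f ≤ U ∨ X.basicOpen f ≤ V}
  have hs : Ideal.span s = ⊤ := by
    rw [← hW.self_le_iSup_basicOpen_iff]
    intro x hx
    have hx' : x ∈ U ⊔ V := hWle hx
    rcases hx' with hxU | hxV
    · obtain ⟨f, hf, hxf⟩ := hW.exists_basicOpen_le (V := U) ⟨x, hxU⟩ hx
      exact Opens.mem_iSup.2 ⟨⟨f, Or.inl hf⟩, hxf⟩
    · obtain ⟨f, hf, hxf⟩ := hW.exists_basicOpen_le (V := V) ⟨x, hxV⟩ hx
      exact Opens.mem_iSup.2 ⟨⟨f, Or.inr hf⟩, hxf⟩
  letI : ∀ g : s, Module Γ(X, W) Γ(M, X.basicOpen g.1) := fun g => moduleRes M (X.basicOpen_le g.1)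
  haveI : ∀ g : s, IsScalarTower Γ(X, W) Γ(X, X.basicOpen g.1) Γ(M, X.basicOpen g.1) :=
    fun g => isScalarTower_basicOpen M g.1
  haveI : ∀ g : s, IsLocalization.Away g.1 Γ(X, X.basicOpen g.1) :=
    fun g => hW.isLocalization_basicOpen g.1
  haveI : ∀ g : s, IsLocalizedModule (Submonoid.powers g.1) (resₗ M (X.basicOpen_le g.1)) :=
    fun g => isLocalizedModule_basicOpen M hW g.1
  refine Module.FinitePresentation.of_localizationSpan' s hs
    (Rₚ := fun g => Γ(X, X.basicOpen g.1)) (Mₚ := fun g => Γ(M, X.basicOpen g.1))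
    (fun g => resₗ M (X.basicOpen_le g.1)) (fun g => ?_)
  rcases g.2 with hf | hf
  · exact hU _ (hW.basicOpen g.1) hf
  · exact hV _ (hW.basicOpen g.1) hf

theorem FPOn.of_isoOn {A B : X.Modules} (m : A ⟶ B) {U : X.Opens} (hm : IsoOn m U) (hB : FPOn B U) :
    FPOn A U := by
  intro W hW hWle
  have := hB W hW hWle
  have := hm W hWle
  have hbij : Function.Bijective (m.app W) := ConcreteCategory.bijective_of_isIso (m.app W)
  let e : Γ(A, W) ≃ₗ[Γ(X, W)] Γ(B, W) :=
    LinearEquiv.ofBijective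
      { toFun := fun x => m.app W x
        map_add' := fun x y => map_add _ x y
        map_smul' := fun r x => Scheme.Modules.Hom.app_smul m r x } hbij
  exact Module.FinitePresentation.of_equiv e.symm

/-- one step of the extension: enlarge the open on which a quasi-coherent module is finitely presented by an affine
open, passing to a module with a map which is an isomorphism on the original open. -/
theorem exists_fpOn_sup [QuasiSeparatedSpace X] (H : X.Modules) [H.IsQuasicoherent] (U V : X.Opens)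
    (hV : IsAffineOpen V) (hUV : IsCompact ((U : Set X) ∩ (V : Set X))) (hH : FPOn H U) :
    ∃ (F : X.Modules) (ψ : F ⟶ H), F.IsQuasicoherent ∧ FPOn F (U ⊔ V) ∧ IsoOn ψ U := by
  let R : CommRingCat.{u} := Γ(X, V)
  let h : Spec R ⟶ X := hV.fromSpec
  have : QuasiCompact h := quasiCompact_of_compactSpace h
  let Ω : (Spec R).Opens := h ⁻¹ᵁ U
  have hΩ : IsCompact (Ω : Set (Spec R)) := by
    rw [h.isOpenEmbedding.isInducing.isCompact_iff]
    have : (h '' (Ω : Set (Spec R))) = (U : Set X) ∩ (V : Set X) := by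
      change h '' (h ⁻¹' (U : Set X)) = _
      rw [Set.image_preimage_eq_inter_range, hV.range_fromSpec]
    rw [this]; exact hUV
  let B : (Spec R).Modules := H.restrict h
  have hBq : B.IsQuasicoherent := Scheme.Modules.isQuasicoherent_restrictFunctor h H
  have hrange : (Ω.ι ≫ h).opensRange ≤ U := by
    rintro _ ⟨y, rfl⟩
    exact y.2
  have h1 : SheafOfModules.IsFinitePresentation (R := (Ω : Scheme.{u}).ringCatSheaf) (H.restrict (Ω.ι ≫ h)) :=
    isFP_restrict_of_fpOn (Ω.ι ≫ h) H hH hrange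
  have hq1 : (H.restrict (Ω.ι ≫ h)).IsQuasicoherent :=
    Scheme.Modules.isQuasicoherent_restrictFunctor (Ω.ι ≫ h) H
  have h2 : SheafOfModules.IsFinitePresentation (R := (Ω : Scheme.{u}).ringCatSheaf) (B.restrict Ω.ι) := by
    have hfp : FPOn B Ω.ι.opensRange :=
      fpOn_of_iso_restrict Ω.ι B (H.restrict (Ω.ι ≫ h)) ((Scheme.Modules.restrictFunctorComp Ω.ι h).app H).symm
    exact isFP_restrict_of_fpOn Ω.ι B hfp le_rfl
  obtain ⟨N, hN, c, hiso⟩ := exists_fp_map_isIso_restrict R B Ω hΩ
  have : ((tilde.functor R).obj N).IsQuasicoherent := inferInstanceAs (tilde N).IsQuasicoherent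
  obtain ⟨F, ψ, e, hFq, -, -, hisoOn⟩ := exists_extension' h H ((tilde.functor R).obj N) (adjTilde R B c)
  have := hFq
  have hψU : IsoOn ψ U := by
    refine hisoOn U (fun W' hW' => ?_)
    have h1 := (isIso_restrict_iff Ω.ι (adjTilde R B c)).1 hiso
    rw [Scheme.Opens.opensRange_ι] at h1
    exact h1 (h ⁻¹ᵁ W') (h.preimage_mono hW')
  refine ⟨F, ψ, hFq, FPOn.sup (FPOn.of_isoOn ψ hψU hH) ?_, hψU⟩
  have hfpN : SheafOfModules.IsFinitePresentation (R := (Spec R).ringCatSheaf) ((tilde.functor R).obj N) :=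
    (isFinitePresentation_tilde_iff R N).2 hN
  have := fpOn_of_iso_restrict h F ((tilde.functor R).obj N) e
  rw [hV.opensRange_fromSpec] at this
  exact this

/-- **Extension of finitely presented modules** (Stacks 01PI, in the form with a given ambient module): on a qcqs scheme,
if `H` is quasi-coherent and finitely presented on a quasi-compact open `U`, then there is a finitely presented module
with a map to `H` which is an isomorphism on `U`. -/
theorem exists_fp_isoOn [CompactSpace X] [QuasiSeparatedSpace X] (H : X.Modules) [H.IsQuasicoherent]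
    (U : X.Opens) (hU : IsCompact (U : Set X)) (hH : FPOn H U) :
    ∃ (F : X.Modules) (ψ : F ⟶ H), F.IsQuasicoherent ∧
      SheafOfModules.IsFinitePresentation (R := X.ringCatSheaf) F ∧ IsoOn ψ U := by
  have key : ∀ (S : X.Opens), IsCompact (S : Set X) → ∀ (H : X.Modules) [H.IsQuasicoherent], FPOn H U →
      ∃ (F : X.Modules) (ψ : F ⟶ H), F.IsQuasicoherent ∧ FPOn F (U ⊔ S) ∧ IsoOn ψ U := by
    intro S hS
    refine compact_open_induction_on (P := fun S => ∀ (H : X.Modules) [H.IsQuasicoherent], FPOn H U →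
      ∃ (F : X.Modules) (ψ : F ⟶ H), F.IsQuasicoherent ∧ FPOn F (U ⊔ S) ∧ IsoOn ψ U) S hS ?_ ?_
    · intro H _ hH
      exact ⟨H, 𝟙 H, inferInstance, by rw [sup_bot_eq]; exact hH, isoOn_id H U⟩
    · intro S hS V ih H _ hH
      obtain ⟨F₁, ψ₁, hq₁, hft₁, hiso₁⟩ := ih H hH
      have := hq₁
      have hcpt : IsCompact (((U ⊔ S : X.Opens) : Set X)) := by
        have : ((U ⊔ S : X.Opens) : Set X) = (U : Set X) ∪ (S : Set X) := rfl
        rw [this]; exact hU.union hS
      obtain ⟨F₂, ψ₂, hq₂, hft₂, hiso₂⟩ := exists_fpOn_sup F₁ (U ⊔ S) V V.2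
        (QuasiSeparatedSpace.inter_isCompact _ _ (U ⊔ S).isOpen hcpt V.1.isOpen V.2.isCompact) hft₁
      refine ⟨F₂, ψ₂ ≫ ψ₁, hq₂, ?_, (hiso₂.mono le_sup_left).comp hiso₁⟩
      rw [← sup_assoc]; exact hft₂
  obtain ⟨F, ψ, hq, hft, hiso⟩ := key ⊤ isCompact_univ H hH
  have := hq
  refine ⟨F, ψ, hq, isFP_of_fpOn_top F ?_, hiso⟩
  rw [sup_top_eq] at hft; exact hft

/-- **Stacks 01PI**: extension of a finitely presented module on a quasi-compact open, together with a map to the
restriction of a quasi-coherent module. -/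
theorem exists_fp_extension [CompactSpace X] [QuasiSeparatedSpace X]
    (F : X.Modules) [F.IsQuasicoherent] (U : X.Opens) (hU : IsCompact (U : Set X)) (G : (U : Scheme.{u}).Modules)
    (hG : CohB1.IsFP G) (φ : G ⟶ F.restrict U.ι) :
    ∃ (G' : X.Modules) (φ' : G' ⟶ F) (e : G'.restrict U.ι ≅ G), CohB1.IsFP G' ∧
      e.hom ≫ φ = (Scheme.Modules.restrictFunctor U.ι).map φ' := by
  haveI : SheafOfModules.IsFinitePresentation (R := (U : Scheme.{u}).ringCatSheaf) G := hG
  haveI : G.IsQuasicoherent := isQCoh_of_isFP G hG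
  haveI : CompactSpace (U : Scheme.{u}) := isCompact_iff_compactSpace.mp hU
  haveI : QuasiCompact U.ι := quasiCompact_of_compactSpace U.ι
  obtain ⟨H, ψ, e, hH, he⟩ := Groth.Agent.Lib.Helper23.QCohLocal.exists_extension U.ι F G φ
  haveI := hH
  have hfp : FPOn H U := by
    have := fpOn_of_iso_restrict U.ι H G e
    rwa [Scheme.Opens.opensRange_ι] at this
  obtain ⟨G', θ, hq, hfpG', hiso⟩ := exists_fp_isoOn H U hU hfp
  have hθ : IsIso ((Scheme.Modules.restrictFunctor U.ι).map θ) := by
    rw [isIso_restrict_iff, Scheme.Opens.opensRange_ι]; exact hiso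
  refine ⟨G', θ ≫ ψ, asIso ((Scheme.Modules.restrictFunctor U.ι).map θ) ≪≫ e, hfpG', ?_⟩
  rw [Iso.trans_hom, asIso_hom, Category.assoc, he, ← Functor.map_comp]

end scheme

end Groth.Agent.Lib.T2H5.FPExtend
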