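import Mathlib
import Groth.Prelude.Def_CxOX
import Groth.Agent.Lib.Helper2ModExact
import Groth.Agent.Lib.Helper6QCohQcqs
set_option backward.isDefEq.respectTransparency.types false

/-!
# T2H5GammaZSec: sections with support in a closed subset, over an affine open (helper5)

Namespace `Groth.Agent.Lib.T2H5.GammaZSec`.
-/

set_option autoImplicit false
set_option linter.style.haveILetI false
set_option linter.unusedSectionVars false
universe u
open CategoryTheory CategoryTheory.Limits AlgebraicGeometry TopologicalSpace Opposite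

namespace Groth.Agent.Lib.T2H5.GammaZSec

open Groth.Agent.Lib.Helper6 Groth.Agent.Lib.Helper2.ModExact

variable {X : Scheme.{u}}

/-- sections of a kernel are the sections killed by the morphism -/
theorem mem_range_kernel_ι_app {F G : X.Modules} (φ : F ⟶ G) (V : X.Opens) (s : Γ(F, V)) :
    s ∈ Set.range (Scheme.Modules.Hom.app (kernel.ι φ) V) ↔ Scheme.Modules.Hom.app φ V s = 0 := by
  constructor
  · rintro ⟨t, rfl⟩
    have h0 : kernel.ι φ ≫ φ = 0 := kernel.condition φ
    have h1 : Scheme.Modules.Hom.app (kernel.ι φ ≫ φ) V t = 0 := by rw [h0]; rfl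
    exact h1
  · intro hs
    have hex : (ShortComplex.mk (kernel.ι φ) φ (kernel.condition φ)).Exact := ShortComplex.exact_kernel φ
    haveI : Mono (ShortComplex.mk (kernel.ι φ) φ (kernel.condition φ)).f :=
      inferInstanceAs (Mono (kernel.ι φ))
    have h1 : ((ShortComplex.mk (kernel.ι φ) φ (kernel.condition φ)).map (secFunctor V)).Exact :=
      hex.map_of_mono_of_preservesKernel (secFunctor V) inferInstance inferInstance
    rw [ShortComplex.moduleCat_exact_iff] at h1
    obtain ⟨t₁, ht₁⟩ := h1 s hs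
    exact ⟨t₁, ht₁⟩

/-- a section which vanishes locally vanishes -/
theorem eq_zero_of_locally (F : X.Modules) (W : X.Opens) (t : Γ(F, W))
    (h : ∀ x ∈ W, ∃ (D : X.Opens) (hD : D ≤ W), x ∈ D ∧ res F hD t = 0) : t = 0 := by
  apply TopCat.Sheaf.eq_of_locally_eq' (modSheaf F) (fun x : W => (h x.1 x.2).choose) W
    (fun x => homOfLE (h x.1 x.2).choose_spec.choose)
  · intro x hx
    exact Opens.mem_iSup.2 ⟨⟨x, hx⟩, (h x hx).choose_spec.choose_spec.1⟩
  · intro x
    have h1 := (h x.1 x.2).choose_spec.choose_spec.2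
    have h2 : res F (h x.1 x.2).choose_spec.choose (0 : Γ(F, W)) = 0 := map_zero _
    exact h1.trans h2.symm

/-- restriction to a basic open kills a section killed by a power of the function -/
theorem res_basicOpen_eq_zero (F : X.Modules) {V : X.Opens} (f : Γ(X, V)) (s : Γ(F, V)) (n : ℕ)
    (h : f ^ n • s = 0) : res F (X.basicOpen_le f) s = 0 := by
  have h1 : res F (X.basicOpen_le f) (f ^ n • s) = 0 := by rw [h]; exact map_zero _
  rw [res_smul, resf_pow] at h1
  have hu : IsUnit (resf (X.basicOpen_le f) f ^ n) :=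
    (RingedSpace.isUnit_res_basicOpen X.toRingedSpace f).pow n
  obtain ⟨u, hu'⟩ := hu
  have h2 : (↑u⁻¹ : Γ(X, X.basicOpen f)) • ((u : Γ(X, X.basicOpen f)) • res F (X.basicOpen_le f) s) = 0 := by
    rw [hu', h1, smul_zero]
  rwa [← mul_smul, Units.inv_mul, one_smul] at h2

theorem main {U : Scheme.{u}} (j : U ⟶ X) [IsOpenImmersion j] (F : X.Modules) [F.IsQuasicoherent]
    (V : X.Opens) (hV : IsAffineOpen V) (I : Ideal Γ(X, V)) (hI : I.FG)
    (hZ : ∀ x : X, x ∈ V → (x ∉ Set.range j.base ↔ ∀ f ∈ I, x ∉ X.basicOpen f))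
    (s : Γ(F, V)) :
    res F (j.image_preimage_le V) s = 0 ↔ ∃ n : ℕ, ∀ a ∈ I ^ n, a • s = 0 := by
  classical
  have hW : ∀ x : X, x ∈ j ''ᵁ (j ⁻¹ᵁ V) ↔ x ∈ V ∧ x ∈ Set.range j.base := by
    intro x
    rw [Scheme.Hom.image_preimage_eq_opensRange_inf]
    constructor
    · rintro ⟨h1, h2⟩
      exact ⟨h2, h1⟩
    · rintro ⟨h1, h2⟩
      exact ⟨h2, h1⟩
  have hD : ∀ f ∈ I, X.basicOpen f ≤ j ''ᵁ (j ⁻¹ᵁ V) := by
    intro f hf x hx
    have hxV : x ∈ V := X.basicOpen_le f hx
    rw [hW]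
    refine ⟨hxV, ?_⟩
    by_contra hcon
    exact ((hZ x hxV).1 hcon) f hf hx
  constructor
  · intro h0
    -- every `f ∈ I` has a power killing `s`
    have hpow : ∀ f ∈ I, ∃ n : ℕ, f ^ n • s = 0 := by
      intro f hf
      apply Groth.Agent.Lib.Helper2.QCoh.exists_pow_smul_eq_zero hV F f s
      have h1 : res F (hD f hf) (res F (j.image_preimage_le V) s) = 0 := by rw [h0]; exact map_zero _
      rw [res_res] at h1
      exact h1
    let J : Ideal Γ(X, V) := LinearMap.ker (LinearMap.toSpanSingleton Γ(X, V) Γ(F, V) s)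
    have hJ : ∀ a : Γ(X, V), a ∈ J ↔ a • s = 0 := by
      intro a
      rw [LinearMap.mem_ker, LinearMap.toSpanSingleton_apply]
    have hle : I ≤ J.radical := by
      intro f hf
      obtain ⟨n, hn⟩ := hpow f hf
      exact ⟨n, (hJ _).2 hn⟩
    obtain ⟨n, hn⟩ := Ideal.exists_pow_le_of_le_radical_of_fg hle hI
    exact ⟨n, fun a ha => (hJ a).1 (hn ha)⟩
  · rintro ⟨n, hn⟩
    apply eq_zero_of_locally
    intro x hx
    obtain ⟨hxV, hxj⟩ := (hW x).1 hx
    have hex : ∃ f ∈ I, x ∈ X.basicOpen f := by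
      by_contra hcon
      push Not at hcon
      exact ((hZ x hxV).2 hcon) hxj
    obtain ⟨f, hf, hxf⟩ := hex
    refine ⟨X.basicOpen f, hD f hf, hxf, ?_⟩
    rw [res_res]
    exact res_basicOpen_eq_zero F f s n (hn _ (Ideal.pow_mem_pow hf n))

end Groth.Agent.Lib.T2H5.GammaZSec
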