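import Mathlib
import Groth.Agent.Lib.T2H5FPExtend
import Groth.Agent.Lib.Helper23TensorMap
import Groth.Agent.Lib.Helper18FinFlat1
import Groth.Agent.Lib.Helper23FTsub
import Groth.Agent.Lib.T2H5ResPropAff
import Groth.Agent.Lib.T2H5GammaZSec
set_option backward.isDefEq.respectTransparency.types false

/-!
# T2H5FPExtend2: finite type quasi-coherent modules on qcqs schemes are quotients of finitely presented ones (helper5)

Namespace `Groth.Agent.Lib.T2H5.FPExtend`.

* `isFP_biprod`
* `exists_fp_hom_section` : a section over an affine open is in the image of a map from a finitely presented module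
* `exists_fp_hom_list`, `exists_fp_epi`
* `exists_fp_epi_isIso_restrict` (Stacks 01PK)
-/

set_option autoImplicit false
set_option linter.style.haveILetI false
set_option linter.unusedSectionVars false
universe u
open CategoryTheory CategoryTheory.Limits AlgebraicGeometry TopologicalSpace Opposite

namespace Groth.Agent.Lib.T2H5.FPExtend

open Groth.Agent.Lib.Helper2.FPAff Groth.Agent.Helper18Strict
open Groth.Agent.Lib.Helper23.QCohLocal Groth.Agent.Lib.Helper23.FinType
open Groth.Agent.Lib.Helper23.Extend Groth.Agent.Lib.T2H2.FPExt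
open Groth.Agent.Lib.Helper6 Groth.Agent.Lib.Helper23.SecTw Groth.Agent.Lib.Helper23.GenLocus

variable {X : Scheme.{u}}

theorem res_self' (M : X.Modules) {V : X.Opens} (h : V ≤ V) (x : Γ(M, V)) : res M h x = x := by
  have h0 : (homOfLE h).op = 𝟙 (op V) := rfl
  simp only [res]
  rw [h0, M.presheaf.map_id]
  rfl

/-- the map on sections over `U` as a linear map -/
noncomputable def appL {A B : X.Modules} (m : A ⟶ B) (U : X.Opens) : Γ(A, U) →ₗ[Γ(X, U)] Γ(B, U) :=
  { toFun := fun x => m.app U x
    map_add' := fun x y => map_add _ x y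
    map_smul' := fun r x => Scheme.Modules.Hom.app_smul m r x }

theorem appL_apply {A B : X.Modules} (m : A ⟶ B) (U : X.Opens) (x : Γ(A, U)) : appL m U x = m.app U x := rfl

theorem comp_app_apply {A B C : X.Modules} (m : A ⟶ B) (n : B ⟶ C) (U : X.Opens) (x : Γ(A, U)) :
    (m ≫ n).app U x = n.app U (m.app U x) := by
  rw [Scheme.Modules.Hom.comp_app]; rfl

/-- a binary direct sum of finitely presented modules is finitely presented -/
theorem isFP_biprod (A B : X.Modules) (hA : CohB1.IsFP A) (hB : CohB1.IsFP B) :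
    CohB1.IsFP (A ⊞ B : X.Modules) := by
  haveI : SheafOfModules.IsFinitePresentation (R := X.ringCatSheaf) A := hA
  haveI : SheafOfModules.IsFinitePresentation (R := X.ringCatSheaf) B := hB
  haveI : A.IsQuasicoherent := isQCoh_of_isFP A hA
  haveI : B.IsQuasicoherent := isQCoh_of_isFP B hB
  haveI : (A ⊞ B : X.Modules).IsQuasicoherent := isQuasicoherent_biprod A B
  refine isFP_of_fpOn_top _ ?_
  intro U hU _
  haveI : Module.FinitePresentation Γ(X, U) Γ(A, U) := finitePresentation_sections A hU
  haveI : Module.FinitePresentation Γ(X, U) Γ(B, U) := finitePresentation_sections B hU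
  let fA := appL (biprod.inl : A ⟶ A ⊞ B) U
  let fB := appL (biprod.inr : B ⟶ A ⊞ B) U
  have hinj : Function.Injective (fA.coprod fB) := by
    rw [← LinearMap.ker_eq_bot, LinearMap.ker_eq_bot']
    rintro ⟨a, b⟩ hab
    rw [LinearMap.coprod_apply] at hab
    have h0 : (biprod.inl : A ⟶ A ⊞ B).app U a + (biprod.inr : B ⟶ A ⊞ B).app U b = 0 := hab
    have h1 := congrArg (fun z => (biprod.fst : A ⊞ B ⟶ A).app U z) h0
    have h2 := congrArg (fun z => (biprod.snd : A ⊞ B ⟶ B).app U z) h0
    simp only [map_add, map_zero] at h1 h2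
    rw [← comp_app_apply, ← comp_app_apply, biprod.inl_fst, biprod.inr_fst] at h1
    rw [← comp_app_apply, ← comp_app_apply, biprod.inl_snd, biprod.inr_snd] at h2
    simp only [Scheme.Modules.Hom.id_app, Scheme.Modules.Hom.zero_app] at h1 h2
    have ha : a = 0 := by simpa using h1
    have hb : b = 0 := by simpa using h2
    rw [ha, hb]; rfl
  have hsurj : Function.Surjective (fA.coprod fB) := by
    intro s
    refine ⟨((biprod.fst : A ⊞ B ⟶ A).app U s, (biprod.snd : A ⊞ B ⟶ B).app U s), ?_⟩
    rw [LinearMap.coprod_apply]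
    have h1 : (biprod.fst ≫ biprod.inl + biprod.snd ≫ biprod.inr : A ⊞ B ⟶ A ⊞ B) = 𝟙 _ := biprod.total
    have h2 := congrArg (fun φ : (A ⊞ B : X.Modules) ⟶ (A ⊞ B : X.Modules) => φ.app U s) h1
    simp only [Scheme.Modules.Hom.add_app, Scheme.Modules.Hom.comp_app, Scheme.Modules.Hom.id_app] at h2
    exact h2
  exact Module.FinitePresentation.of_equiv (LinearEquiv.ofBijective (fA.coprod fB) ⟨hinj, hsurj⟩)

/-- on a qcqs scheme, a section of a quasi-coherent module over an affine open lies in the image of a morphism from a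
finitely presented module -/
theorem exists_fp_hom_section [CompactSpace X] [QuasiSeparatedSpace X] (F : X.Modules) [F.IsQuasicoherent]
    (V : X.Opens) (hV : IsAffineOpen V) (t : Γ(F, V)) :
    ∃ (G : X.Modules) (φ : G ⟶ F), CohB1.IsFP G ∧ ∃ g : Γ(G, V), φ.app V g = t := by
  have key : ∀ (W : X.Opens), V.ι ''ᵁ ⊤ = W → ∀ t : Γ(F, W),
      ∃ (G : X.Modules) (φ : G ⟶ F), CohB1.IsFP G ∧ ∃ g : Γ(G, W), φ.app W g = t := by
    intro W hW t
    subst hW
    let O := Coh.structureModule (V : Scheme.{u})
    have hO : CohB1.IsFP O := Groth.Agent.Helper18FinFlat.isFinitePresentation_structureModule _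
    let t' : Γ(F.restrict V.ι, ⊤) := t
    let σ : O ⟶ F.restrict V.ι := secHom (F.restrict V.ι) t'
    obtain ⟨G, φ, e, hG, he⟩ := exists_fp_extension F V hV.isCompact O hO σ
    refine ⟨G, φ, hG, ?_⟩
    let one : Γ(O, ⊤) := toS ⊤ 1
    let g₀ : Γ(G.restrict V.ι, ⊤) := e.inv.app ⊤ one
    refine ⟨g₀, ?_⟩
    have h1 : ((Scheme.Modules.restrictFunctor V.ι).map φ).app ⊤ g₀ = σ.app ⊤ (e.hom.app ⊤ g₀) := by
      rw [← he, comp_app_apply]
    have h2 : e.hom.app ⊤ g₀ = one := by
      change e.hom.app ⊤ (e.inv.app ⊤ one) = one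
      rw [← comp_app_apply, e.inv_hom_id, Scheme.Modules.Hom.id_app]; rfl
    have h3 : σ.app ⊤ one = sv σ ⊤ := rfl
    have h4 : sv σ ⊤ = t' := by
      rw [sv_secHom]; exact res_self' _ _ _
    have h5 : ((Scheme.Modules.restrictFunctor V.ι).map φ).app ⊤ g₀ = t' := by
      rw [h1, h2, h3, h4]
    exact h5
  exact key V (Scheme.Opens.ι_image_top V) t

/-- finitely many sections over affine opens lie in the image of a morphism from a finitely presented module -/
theorem exists_fp_hom_list [CompactSpace X] [QuasiSeparatedSpace X] (F : X.Modules) [F.IsQuasicoherent]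
    (l : List (Σ U : X.affineOpens, Γ(F, U.1))) :
    ∃ (P : X.Modules) (p : P ⟶ F), CohB1.IsFP P ∧ ∀ a ∈ l, ∃ g : Γ(P, a.1.1), p.app a.1.1 g = a.2 := by
  induction l with
  | nil =>
    exact ⟨Coh.structureModule X, 0, Groth.Agent.Helper18FinFlat.isFinitePresentation_structureModule X,
      fun a ha => by simp at ha⟩
  | cons a l ih =>
    obtain ⟨P, p, hP, hl⟩ := ih
    obtain ⟨G, φ, hG, g, hg⟩ := exists_fp_hom_section F a.1.1 a.1.2 a.2
    refine ⟨(P ⊞ G : X.Modules), biprod.desc p φ, isFP_biprod P G hP hG, ?_⟩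
    intro b hb
    rcases List.mem_cons.1 hb with hba | hb
    · subst hba
      refine ⟨(biprod.inr : G ⟶ P ⊞ G).app _ g, ?_⟩
      rw [← comp_app_apply, biprod.inr_desc]
      exact hg
    · obtain ⟨g', hg'⟩ := hl b hb
      refine ⟨(biprod.inl : P ⟶ P ⊞ G).app _ g', ?_⟩
      rw [← comp_app_apply, biprod.inl_desc]
      exact hg'

/-- **finite type quasi-coherent modules on qcqs schemes are quotients of finitely presented modules** -/
theorem exists_fp_epi [CompactSpace X] [QuasiSeparatedSpace X] (F : X.Modules) [F.IsQuasicoherent]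
    (hF : CohB1.IsFT F) :
    ∃ (P : X.Modules) (p : P ⟶ F), CohB1.IsFP P ∧ Epi p := by
  classical
  haveI : SheafOfModules.IsFiniteType (R := X.ringCatSheaf) F := hF
  -- a finite affine cover
  obtain ⟨t, ht⟩ := isCompact_univ.elim_finite_subcover (fun V : X.affineOpens => ((V.1 : X.Opens) : Set X))
    (fun V => V.1.isOpen) (by
      intro x _
      have hx : x ∈ (⨆ V : X.affineOpens, (V : X.Opens)) := by rw [iSup_affineOpens_eq_top X]; trivial
      obtain ⟨V, hV⟩ := Opens.mem_iSup.1 hx
      exact Set.mem_iUnion.2 ⟨V, hV⟩)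
  -- generators
  have hfin : ∀ V : X.affineOpens, ∃ T : Finset Γ(F, V.1), Submodule.span Γ(X, V.1) (T : Set Γ(F, V.1)) = ⊤ := by
    intro V
    have : Module.Finite Γ(X, V.1) Γ(F, V.1) := finite_of_isFiniteType F V.2
    exact Module.Finite.fg_top
  choose T hT using hfin
  let l : List (Σ U : X.affineOpens, Γ(F, U.1)) :=
    t.toList.flatMap (fun V => (T V).toList.map (fun s => (⟨V, s⟩ : Σ U : X.affineOpens, Γ(F, U.1))))
  obtain ⟨P, p, hP, hl⟩ := exists_fp_hom_list F l
  haveI : P.IsQuasicoherent := isQCoh_of_isFP P hP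
  refine ⟨P, p, hP, ?_⟩
  refine Groth.Agent.Lib.T2H5.ResPropAff.epi_of_surjective_app_cover p (fun V : t => (V.1.1 : X.Opens)) ?_
    (fun V => V.1.2) (fun V => ?_)
  · rw [IsOpenCover, eq_top_iff]
    intro x _
    obtain ⟨V, hVt, hxV⟩ := Set.mem_iUnion₂.1 (ht (Set.mem_univ x))
    exact Opens.mem_iSup.2 ⟨⟨V, hVt⟩, hxV⟩
  · have hrange : LinearMap.range (appL p V.1.1) = ⊤ := by
      rw [eq_top_iff, ← hT V.1, Submodule.span_le]
      intro s hs
      have hmem : (⟨V.1, s⟩ : Σ U : X.affineOpens, Γ(F, U.1)) ∈ l := by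
        rw [List.mem_flatMap]
        refine ⟨V.1, Finset.mem_toList.2 V.2, ?_⟩
        rw [List.mem_map]
        exact ⟨s, Finset.mem_toList.2 hs, rfl⟩
      obtain ⟨g, hg⟩ := hl _ hmem
      exact ⟨g, hg⟩
    intro s
    have : s ∈ LinearMap.range (appL p V.1.1) := by rw [hrange]; trivial
    obtain ⟨g, hg⟩ := this
    exact ⟨g, hg⟩

/-- **Stacks 01PK**: on a qcqs scheme, a finite type quasi-coherent module which is finitely presented on a
quasi-compact open `U` is a quotient of a finitely presented module by a surjection which is an isomorphism on `U` -/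
theorem exists_fp_epi_isIso_restrict [CompactSpace X] [QuasiSeparatedSpace X] (F : X.Modules) [F.IsQuasicoherent]
    (hF : CohB1.IsFT F) (U : X.Opens) (hU : IsCompact (U : Set X)) (hFU : CohB1.IsFP (F.restrict U.ι)) :
    ∃ (G : X.Modules) (φ : G ⟶ F), CohB1.IsFP G ∧ Epi φ ∧
      IsIso ((Scheme.Modules.restrictFunctor U.ι).map φ) := by
  obtain ⟨P, p, hP, hp⟩ := exists_fp_epi F hF
  haveI := hp
  haveI : SheafOfModules.IsFinitePresentation (R := X.ringCatSheaf) P := hP
  haveI : P.IsQuasicoherent := isQCoh_of_isFP P hP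
  haveI : (kernel p).IsQuasicoherent := isQuasicoherent_kernel p
  haveI : SheafOfModules.IsFinitePresentation (R := (U : Scheme.{u}).ringCatSheaf) (F.restrict U.ι) := hFU
  haveI : (F.restrict U.ι).IsQuasicoherent := Scheme.Modules.isQuasicoherent_restrictFunctor U.ι F
  have hFfp : FPOn F U := by
    have := fpOn_of_iso_restrict U.ι F (F.restrict U.ι) (Iso.refl _)
    rwa [Scheme.Opens.opensRange_ι] at this
  have hK : FTOn (kernel p) U := by
    intro W hW hWU
    haveI : Module.FinitePresentation Γ(X, W) Γ(F, W) := hFfp W hW hWU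
    haveI : Module.FinitePresentation Γ(X, W) Γ(P, W) := finitePresentation_sections P hW
    have hsurj : Function.Surjective (appₗ p W) := surjective_app_of_epi p hW
    have hfg := Module.FinitePresentation.fg_ker (appₗ p W) hsurj
    obtain ⟨ε⟩ := nonempty_kernel_sections_equiv p W
    have : Module.Finite Γ(X, W) (LinearMap.ker (appₗ p W)) := Module.Finite.iff_fg.2 hfg
    exact Module.Finite.equiv ε.symm
  obtain ⟨K', ψ, hψm, hK'q, hK'ft, hψU⟩ := exists_sub_isFiniteType (kernel p) U hU hK
  haveI := hψm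
  haveI := hK'q
  haveI := hK'ft
  let f : K' ⟶ P := ψ ≫ kernel.ι p
  haveI hfm : Mono f := mono_comp _ _
  let G : X.Modules := cokernel f
  let π : P ⟶ G := cokernel.π f
  have hfp0 : f ≫ p = 0 := by rw [Category.assoc, kernel.condition, comp_zero]
  let φ : G ⟶ F := cokernel.desc f p hfp0
  have hπφ : π ≫ φ = p := cokernel.π_desc f p hfp0
  haveI : G.IsQuasicoherent := isQuasicoherent_cokernel f
  let S : ShortComplex X.Modules := ShortComplex.mk f π (cokernel.condition f)
  have hS : S.ShortExact :=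
    { exact := ShortComplex.exact_cokernel f
      mono_f := hfm
      epi_g := inferInstanceAs (Epi (cokernel.π f)) }
  have hφepi : Epi φ := epi_of_epi_fac hπφ
  refine ⟨G, φ, ?_, hφepi, ?_⟩
  · refine isFP_of_fpOn_top G ?_
    intro W hW _
    haveI : Module.FinitePresentation Γ(X, W) Γ(P, W) := finitePresentation_sections P hW
    haveI : Module.Finite Γ(X, W) Γ(K', W) := finite_of_isFiniteType K' hW
    have hsurj : Function.Surjective (appₗ π W) := surjective_app_of_epi π hW
    refine Module.finitePresentation_of_surjective (appₗ π W) hsurj ?_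
    have hker : LinearMap.ker (appₗ π W) = LinearMap.range (appₗ f W) := by
      ext x
      constructor
      · intro hx
        obtain ⟨t, ht⟩ := Groth.Agent.Lib.Helper2.ModExact.exists_app_eq_of_shortExact S hS W x hx
        exact ⟨t, ht⟩
      · rintro ⟨t, rfl⟩
        change π.app W (f.app W t) = 0
        rw [← comp_app_apply, cokernel.condition]; rfl
    rw [hker, LinearMap.range_eq_map]
    exact Submodule.FG.map _ Module.Finite.fg_top
  · refine isIso_restrict_of_bijective_app φ U (fun W : {W : X.affineOpens // W.1 ≤ U} => W.1.1)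
      (fun W => W.1.2) (fun W => W.2) ?_ (fun W => ⟨?_, ?_⟩)
    · intro x hx
      obtain ⟨W, hW, hxW, hWU⟩ := (Opens.isBasis_iff_nbhd.1 X.isBasis_affineOpens) hx
      exact Opens.mem_iSup.2 ⟨⟨⟨W, hW⟩, hWU⟩, hxW⟩
    · -- injective
      rw [injective_iff_map_eq_zero]
      intro x hx
      obtain ⟨y, rfl⟩ := surjective_app_of_epi π W.1.2 x
      have hy : p.app W.1.1 y = 0 := by
        rw [← hπφ, comp_app_apply]; exact hx
      obtain ⟨k, hk⟩ := (Groth.Agent.Lib.T2H5.GammaZSec.mem_range_kernel_ι_app p W.1.1 y).2 hy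
      have hiso := hψU W.1.1 W.2
      obtain ⟨k', hk'⟩ := (ConcreteCategory.bijective_of_isIso (ψ.app W.1.1)).2 k
      have hy' : y = f.app W.1.1 k' := by
        rw [comp_app_apply, hk', hk]
      rw [hy', ← comp_app_apply, cokernel.condition]; rfl
    · exact surjective_app_of_epi φ W.1.2

end Groth.Agent.Lib.T2H5.FPExtend
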