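import Mathlib

/-!
# Cofiltered systems of modules over a fixed ring (helper5)

Namespace `Groth.Agent.Lib.T2H5.ModLimA`.

`MSys A P T Pinf Tinf`: a system of `A`-modules `P j` indexed by a cofiltered category `J`
(arrows `j' ⟶ j` point from the later stage to the earlier one), with `A`-linear transition maps
`T a : P j → P j'` and maps `Tinf j : P j → Pinf` exhibiting `Pinf` as the colimit (elementwise form).

* `MSys.kill_finset`: finitely many elements dying in the colimit die at a later stage.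
* `MSys.lift_fun`: finitely many elements of the colimit come from a common stage.
* `MSys.eq_linearMap`: two linear maps from a finite module into a stage that agree in the colimit
  agree at a later stage.
* `MSys.lift_linearMap`: a linear map from a finitely presented module into the colimit factors
  through a stage.
-/

set_option autoImplicit false
set_option linter.unusedSectionVars false
set_option linter.style.haveILetI false
universe u v w

open CategoryTheory

namespace Groth.Agent.Lib.T2H5.ModLimA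

/-- a cofiltered system of `A`-modules with its colimit, in elementwise form. -/
structure MSys (A : Type u) [CommRing A] {J : Type v} [Category.{w} J] (P : J → Type u)
    [∀ j, AddCommGroup (P j)] [∀ j, Module A (P j)]
    (T : ∀ {j j' : J}, (j' ⟶ j) → (P j →ₗ[A] P j')) (Pinf : Type u) [AddCommGroup Pinf]
    [Module A Pinf] (Tinf : ∀ j, P j →ₗ[A] Pinf) : Prop where
  coh : ∀ {j j' : J} (a : j' ⟶ j) (x : P j), Tinf j' (T a x) = Tinf j x
  comp : ∀ {j j' j'' : J} (a : j'' ⟶ j') (b : j' ⟶ j) (x : P j), T (a ≫ b) x = T a (T b x)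
  surj : ∀ y : Pinf, ∃ j, ∃ x : P j, Tinf j x = y
  ker : ∀ (j : J) (x : P j), Tinf j x = 0 → ∃ j', ∃ a : j' ⟶ j, T a x = 0

variable {A : Type u} [CommRing A] {J : Type v} [Category.{w} J] [IsCofiltered J] {P : J → Type u}
    [∀ j, AddCommGroup (P j)] [∀ j, Module A (P j)]
    {T : ∀ {j j' : J}, (j' ⟶ j) → (P j →ₗ[A] P j')} {Pinf : Type u} [AddCommGroup Pinf]
    [Module A Pinf] {Tinf : ∀ j, P j →ₗ[A] Pinf}

theorem MSys.kill_finset (hS : MSys A P T Pinf Tinf) (j : J) (s : Finset (P j))
    (hs : ∀ x ∈ s, Tinf j x = 0) : ∃ j', ∃ a : j' ⟶ j, ∀ x ∈ s, T a x = 0 := by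
  classical
  induction s using Finset.induction_on with
  | empty => exact ⟨j, 𝟙 j, by simp⟩
  | insert x s _ ih =>
    obtain ⟨j₁, a₁, h₁⟩ := ih (fun y hy => hs y (Finset.mem_insert_of_mem hy))
    have hx : Tinf j₁ (T a₁ x) = 0 := by
      rw [hS.coh]; exact hs x (Finset.mem_insert_self _ _)
    obtain ⟨j₂, a₂, h₂⟩ := hS.ker j₁ _ hx
    refine ⟨j₂, a₂ ≫ a₁, fun y hy => ?_⟩
    rw [hS.comp]
    rcases Finset.mem_insert.mp hy with rfl | hy
    · exact h₂
    · rw [h₁ y hy, map_zero]

theorem MSys.lift_finset (hS : MSys A P T Pinf Tinf) {κ : Type*} (y : κ → Pinf) (s : Finset κ) :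
    ∃ j, ∃ x : κ → P j, ∀ k ∈ s, Tinf j (x k) = y k := by
  classical
  induction s using Finset.induction_on with
  | empty => exact ⟨Classical.choice IsCofiltered.nonempty, fun _ => 0, by simp⟩
  | insert k s _ ih =>
    obtain ⟨j₁, x₁, h₁⟩ := ih
    obtain ⟨j₂, x₂, h₂⟩ := hS.surj (y k)
    refine ⟨IsCofiltered.min j₁ j₂, fun k' => if k' = k then T (IsCofiltered.minToRight j₁ j₂) x₂
      else T (IsCofiltered.minToLeft j₁ j₂) (x₁ k'), fun k' hk' => ?_⟩
    by_cases hk : k' = k
    · subst hk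
      show Tinf _ (if k' = k' then _ else _) = _
      rw [if_pos rfl, hS.coh, h₂]
    · show Tinf _ (if k' = k then _ else _) = _
      rw [if_neg hk, hS.coh]
      rcases Finset.mem_insert.mp hk' with h | h
      · exact absurd h hk
      · exact h₁ k' h

theorem MSys.lift_fun (hS : MSys A P T Pinf Tinf) {κ : Type*} [Finite κ] (y : κ → Pinf) :
    ∃ j, ∃ x : κ → P j, ∀ k, Tinf j (x k) = y k := by
  classical
  letI := Fintype.ofFinite κ
  obtain ⟨j, x, hx⟩ := hS.lift_finset y Finset.univ
  exact ⟨j, x, fun k => hx k (Finset.mem_univ k)⟩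

theorem MSys.eq_linearMap (hS : MSys A P T Pinf Tinf) {M : Type*} [AddCommGroup M] [Module A M]
    [Module.Finite A M] (j : J) (l l' : M →ₗ[A] P j) (h : ∀ m, Tinf j (l m) = Tinf j (l' m)) :
    ∃ j', ∃ a : j' ⟶ j, ∀ m, T a (l m) = T a (l' m) := by
  classical
  obtain ⟨s, hs⟩ := (Module.finite_def (R := A) (M := M)).1 inferInstance
  obtain ⟨j', a, ha⟩ := hS.kill_finset j (s.image fun m => l m - l' m) (by
    intro z hz
    obtain ⟨m, -, rfl⟩ := Finset.mem_image.1 hz
    rw [map_sub, h m, sub_self])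
  refine ⟨j', a, fun m => ?_⟩
  have hm : m ∈ Submodule.span A (s : Set M) := by rw [hs]; trivial
  induction hm using Submodule.span_induction with
  | mem x hx =>
    have := ha _ (Finset.mem_image_of_mem _ hx)
    rw [map_sub, sub_eq_zero] at this
    exact this
  | zero => simp
  | add x y _ _ hx hy => rw [map_add, map_add, map_add, map_add, hx, hy]
  | smul r x _ hx => rw [map_smul, map_smul, map_smul, map_smul, hx]

theorem MSys.lift_linearMap (hS : MSys A P T Pinf Tinf) {M : Type*} [AddCommGroup M] [Module A M]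
    [Module.FinitePresentation A M] (l : M →ₗ[A] Pinf) :
    ∃ j, ∃ L : M →ₗ[A] P j, ∀ m, Tinf j (L m) = l m := by
  classical
  obtain ⟨n, K, e, hK⟩ := Module.FinitePresentation.exists_fin A M
  obtain ⟨s, hs⟩ := hK
  let π : (Fin n → A) →ₗ[A] M := e.symm.toLinearMap ∘ₗ K.mkQ
  have hπK : ∀ r ∈ K, π r = 0 := by
    intro r hr
    show e.symm (K.mkQ r) = 0
    have h0 : K.mkQ r = 0 := (Submodule.Quotient.mk_eq_zero K).2 hr
    rw [h0, map_zero]
  obtain ⟨j₁, x, hx⟩ := hS.lift_fun (fun i : Fin n => l (π (Pi.single i 1)))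
  let L₁ : (Fin n → A) →ₗ[A] P j₁ := Fintype.linearCombination A x
  have hL₁ : ∀ f, Tinf j₁ (L₁ f) = l (π f) := by
    intro f
    have hf : f = ∑ i, f i • (Pi.single i (1 : A) : Fin n → A) := by
      ext k
      simp [Finset.sum_apply, Pi.single_apply]
    conv_rhs => rw [hf]
    simp only [L₁, Fintype.linearCombination_apply, map_sum, map_smul, hx]
  obtain ⟨j₂, a, ha⟩ := hS.kill_finset j₁ (s.image L₁) (by
    intro z hz
    obtain ⟨r, hr, rfl⟩ := Finset.mem_image.1 hz
    rw [hL₁, hπK r (hs ▸ Submodule.subset_span hr), map_zero])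
  let L₂ : (Fin n → A) →ₗ[A] P j₂ := T a ∘ₗ L₁
  have hK₂ : K ≤ LinearMap.ker L₂ := by
    rw [← hs, Submodule.span_le]
    intro r hr
    exact ha _ (Finset.mem_image_of_mem _ hr)
  refine ⟨j₂, (K.liftQ L₂ hK₂) ∘ₗ e.toLinearMap, fun m => ?_⟩
  obtain ⟨f, hf⟩ := K.mkQ_surjective (e m)
  have hm : m = π f := by
    show m = e.symm (K.mkQ f)
    rw [hf, e.symm_apply_apply]
  show Tinf j₂ (K.liftQ L₂ hK₂ (e m)) = l m
  rw [← hf]
  show Tinf j₂ (K.liftQ L₂ hK₂ (Submodule.Quotient.mk f)) = l m
  rw [Submodule.liftQ_apply]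
  show Tinf j₂ (T a (L₁ f)) = l m
  rw [hS.coh, hL₁, hm]

end Groth.Agent.Lib.T2H5.ModLimA
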