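import Mathlib
import Groth.Agent.Lib.Helper13PullbackUnit

/-!
# Transition maps between `g_* g^* G` for a factorisation `f ≫ g = q` (helper5)

Namespace `Groth.Agent.Lib.T2H5.ModLimB`.

For `f : Y ⟶ X`, `g : X ⟶ Z`, `q : Y ⟶ Z` with `e : f ≫ g = q` and `G` a module on `Z`:

* `EE g G = g_* g^* G`, `unitHom g G : G ⟶ EE g G` (the adjunction unit);
* `cmp f g q e G : f^* g^* G ≅ q^* G`; `TG f g q e G : g^* G ⟶ f_* q^* G`;
* `tau f g q e G : EE g G ⟶ EE q G` with `unitHom_tau : unitHom g G ≫ tau = unitHom q G`;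
* `tau_app_smul`: semilinearity of `tau` on sections;
* `unit_induction`: for `V`, `g⁻¹V` affine and `G` quasi-coherent, `Γ(g^*G, g⁻¹V)` is generated by
  the image of `Γ(G, V)`.
-/

set_option autoImplicit false
set_option linter.unusedSectionVars false
set_option linter.style.haveILetI false
universe u
open CategoryTheory CategoryTheory.Limits AlgebraicGeometry Opposite TopologicalSpace

namespace Groth.Agent.Lib.T2H5.ModLimB

open Groth.Agent.Helper13PullbackUnit

variable {X Y Z : Scheme.{u}}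

/-- `g_* g^* G` -/
noncomputable abbrev EE (g : X ⟶ Z) (G : Z.Modules) : Z.Modules :=
  (Scheme.Modules.pushforward g).obj ((Scheme.Modules.pullback g).obj G)

/-- the unit `G ⟶ g_* g^* G` -/
noncomputable abbrev unitHom (g : X ⟶ Z) (G : Z.Modules) : G ⟶ EE g G :=
  (Scheme.Modules.pullbackPushforwardAdjunction g).unit.app G

section tau
variable (f : Y ⟶ X) (g : X ⟶ Z) (q : Y ⟶ Z) (e : f ≫ g = q) (G : Z.Modules)

/-- the comparison `f^* g^* G ≅ q^* G` -/
noncomputable def cmp :
    (Scheme.Modules.pullback f).obj ((Scheme.Modules.pullback g).obj G) ≅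
      (Scheme.Modules.pullback q).obj G :=
  (Scheme.Modules.pullbackComp f g ≪≫ Scheme.Modules.pullbackCongr e).app G

/-- `g^* G ⟶ f_* q^* G` -/
noncomputable def TG :
    (Scheme.Modules.pullback g).obj G ⟶
      (Scheme.Modules.pushforward f).obj ((Scheme.Modules.pullback q).obj G) :=
  (Scheme.Modules.pullbackPushforwardAdjunction f).unit.app ((Scheme.Modules.pullback g).obj G) ≫
    (Scheme.Modules.pushforward f).map (cmp f g q e G).hom

/-- `g_* g^* G ⟶ q_* q^* G` -/
noncomputable def tau : EE g G ⟶ EE q G :=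
  (Scheme.Modules.pushforward g).map (TG f g q e G) ≫
    (Scheme.Modules.pushforwardComp f g).hom.app ((Scheme.Modules.pullback q).obj G) ≫
    (Scheme.Modules.pushforwardCongr e).hom.app ((Scheme.Modules.pullback q).obj G)

theorem pushforwardCongr_rfl_app (M : Y.Modules) :
    (Scheme.Modules.pushforwardCongr (rfl : f ≫ g = f ≫ g)).hom.app M = 𝟙 _ := by
  refine Scheme.Modules.hom_ext _ _ fun W => ?_
  rw [Scheme.Modules.pushforwardCongr_hom_app_app]
  have h0 : (eqToHom (rfl : (f ≫ g) ⁻¹ᵁ W = (f ≫ g) ⁻¹ᵁ W)).op = 𝟙 _ := rfl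
  rw [h0]
  exact M.presheaf.map_id _

theorem unitHom_tau : unitHom g G ≫ tau f g q e G = unitHom q G := by
  subst e
  have h1 := unit_conjugateEquiv
    ((Scheme.Modules.pullbackPushforwardAdjunction g).comp
      (Scheme.Modules.pullbackPushforwardAdjunction f))
    (Scheme.Modules.pullbackPushforwardAdjunction (f ≫ g))
    (Scheme.Modules.pullbackComp f g).inv G
  rw [Scheme.Modules.conjugateEquiv_pullbackComp_inv, Adjunction.comp_unit_app] at h1
  have hcmp : (cmp f g (f ≫ g) rfl G).hom = (Scheme.Modules.pullbackComp f g).hom.app G := by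
    simp [cmp, Scheme.Modules.pullbackCongr]
  have n := (Scheme.Modules.pushforwardComp f g).hom.naturality
    ((Scheme.Modules.pullbackComp f g).hom.app G)
  simp only [Functor.comp_map] at n
  unfold tau TG
  rw [pushforwardCongr_rfl_app, Category.comp_id, hcmp, Functor.map_comp, Category.assoc]
  erw [n]
  rw [← Category.assoc, ← Category.assoc]
  erw [h1]
  rw [Category.assoc, ← Functor.map_comp, ← NatTrans.comp_app, Iso.inv_hom_id, NatTrans.id_app,
    CategoryTheory.Functor.map_id]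
  exact Category.comp_id _

include e in
theorem le_preimage (W : Z.Opens) : q ⁻¹ᵁ W ≤ f ⁻¹ᵁ g ⁻¹ᵁ W := by
  subst e; exact le_rfl

/-- `tau` on sections, with the sections of the pull-backs as source and target -/
noncomputable def tauSec (W : Z.Opens) :
    Γ((Scheme.Modules.pullback g).obj G, g ⁻¹ᵁ W) →+ Γ((Scheme.Modules.pullback q).obj G, q ⁻¹ᵁ W) :=
  ((tau f g q e G).app W).hom

theorem tauSec_apply (W : Z.Opens) (z : Γ((Scheme.Modules.pullback g).obj G, g ⁻¹ᵁ W)) :
    tauSec f g q e G W z = (tau f g q e G).app W z := rfl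

theorem tau_rfl_app_apply (W : Z.Opens) (z : Γ((Scheme.Modules.pullback g).obj G, g ⁻¹ᵁ W)) :
    (tau f g (f ≫ g) rfl G).app W z =
      (cmp f g (f ≫ g) rfl G).hom.app (f ⁻¹ᵁ g ⁻¹ᵁ W)
        (((Scheme.Modules.pullbackPushforwardAdjunction f).unit.app
          ((Scheme.Modules.pullback g).obj G)).app (g ⁻¹ᵁ W) z) := by
  unfold tau TG
  rw [pushforwardCongr_rfl_app]
  rfl

theorem tauSec_smul (W : Z.Opens) (b : Γ(X, g ⁻¹ᵁ W))
    (z : Γ((Scheme.Modules.pullback g).obj G, g ⁻¹ᵁ W)) :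
    tauSec f g q e G W (b • z) =
      (f.appLE (g ⁻¹ᵁ W) (q ⁻¹ᵁ W) (le_preimage f g q e W) b) • tauSec f g q e G W z := by
  subst e
  rw [tauSec_apply, tauSec_apply, tau_rfl_app_apply, tau_rfl_app_apply,
    Scheme.Modules.Hom.app_smul, pushforward_smul, Scheme.Modules.Hom.app_smul]
  congr 1
  rw [Scheme.Hom.app_eq_appLE]
  rfl

theorem iso_app_eq_zero_iff {M N : Y.Modules} (φ : M ≅ N) (U : Y.Opens) (w : Γ(M, U)) :
    φ.hom.app U w = 0 ↔ w = 0 := by
  have key : ∀ w, φ.inv.app U (φ.hom.app U w) = w := fun w => by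
    rw [← ConcreteCategory.comp_apply, ← Scheme.Modules.Hom.comp_app, Iso.hom_inv_id]
    rfl
  constructor
  · intro h
    have := congrArg (φ.inv.app U) h
    rw [key] at this
    exact this.trans (map_zero _)
  · intro h
    exact (congrArg (φ.hom.app U) h).trans (map_zero _)

theorem tauSec_eq_zero_iff (W : Z.Opens) (z : Γ((Scheme.Modules.pullback g).obj G, g ⁻¹ᵁ W)) :
    tauSec f g q e G W z = 0 ↔
      ((Scheme.Modules.pullbackPushforwardAdjunction f).unit.app
          ((Scheme.Modules.pullback g).obj G)).app (g ⁻¹ᵁ W) z = 0 := by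
  subst e
  rw [tauSec_apply, tau_rfl_app_apply]
  exact iso_app_eq_zero_iff (cmp f g (f ≫ g) rfl G) (f ⁻¹ᵁ g ⁻¹ᵁ W)
    (show Γ((Scheme.Modules.pullback f).obj ((Scheme.Modules.pullback g).obj G), f ⁻¹ᵁ g ⁻¹ᵁ W) from
      ((Scheme.Modules.pullbackPushforwardAdjunction f).unit.app
          ((Scheme.Modules.pullback g).obj G)).app (g ⁻¹ᵁ W) z)

theorem tauSec_unit (W : Z.Opens) (n : Γ(G, W)) :
    tauSec f g q e G W ((unitHom g G).app W n) = (unitHom q G).app W n := by
  rw [tauSec_apply]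
  have := congrArg (fun φ => φ.app W n) (unitHom_tau f g q e G)
  exact this

end tau

section gen
variable (g : X ⟶ Z) (G : Z.Modules)

theorem unitSec_rfl {V : Z.Opens} (n : Γ(G, V)) :
    unitSec g G (le_refl (g ⁻¹ᵁ V)) n = (unitHom g G).app V n := by
  rw [unitSec_apply]
  have h0 : (homOfLE (le_refl (g ⁻¹ᵁ V))).op = 𝟙 _ := rfl
  rw [h0, ((Scheme.Modules.pullback g).obj G).presheaf.map_id]
  rfl

variable [G.IsQuasicoherent] {V : Z.Opens} (hV : IsAffineOpen V) (hV' : IsAffineOpen (g ⁻¹ᵁ V))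

include hV hV' in
/-- `Γ(g^*G, g⁻¹V)` is generated by the image of `Γ(G, V)` -/
theorem unit_induction {motive : Γ((Scheme.Modules.pullback g).obj G, g ⁻¹ᵁ V) → Prop}
    (zero : motive 0) (unit : ∀ n : Γ(G, V), motive ((unitHom g G).app V n))
    (smul : ∀ (b : Γ(X, g ⁻¹ᵁ V)) (z : Γ((Scheme.Modules.pullback g).obj G, g ⁻¹ᵁ V)),
      motive z → motive (b • z))
    (add : ∀ z z' : Γ((Scheme.Modules.pullback g).obj G, g ⁻¹ᵁ V),
      motive z → motive z' → motive (z + z'))
    (z : Γ((Scheme.Modules.pullback g).obj G, g ⁻¹ᵁ V)) : motive z := by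
  let S : Submodule Γ(X, g ⁻¹ᵁ V) Γ((Scheme.Modules.pullback g).obj G, g ⁻¹ᵁ V) :=
    Submodule.span _ (Set.range fun n : Γ(G, V) =>
      (show Γ((Scheme.Modules.pullback g).obj G, g ⁻¹ᵁ V) from (unitHom g G).app V n))
  have hS : S = ⊤ := by
    obtain ⟨l', -, huniq⟩ := existsUnique_lift g G hV hV' le_rfl
      (Γ((Scheme.Modules.pullback g).obj G, g ⁻¹ᵁ V) ⧸ S) (0 : Γ(G, V) →+ _) (by
        intro r x
        simp)
    have h1 := huniq S.mkQ (fun x => by
      rw [unitSec_rfl]
      exact (Submodule.Quotient.mk_eq_zero S).2 (Submodule.subset_span ⟨x, rfl⟩))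
    have h2 := huniq 0 (fun x => rfl)
    have h3 : S.mkQ = 0 := h1.trans h2.symm
    rw [← S.ker_mkQ, h3, LinearMap.ker_zero]
  have hz : z ∈ S := hS ▸ Submodule.mem_top
  induction hz using Submodule.span_induction with
  | mem x hx =>
    obtain ⟨n, rfl⟩ := hx
    exact unit n
  | zero => exact zero
  | add x y _ _ hx hy => exact add x y hx hy
  | smul r x _ hx => exact smul r x hx

end gen

section lin
variable {A B : X.Modules}

/-- the map on sections over `U` as a linear map -/
noncomputable def appLin (m : A ⟶ B) (U : X.Opens) : Γ(A, U) →ₗ[Γ(X, U)] Γ(B, U) :=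
  { toFun := fun x => m.app U x
    map_add' := fun x y => map_add _ x y
    map_smul' := fun r x => Scheme.Modules.Hom.app_smul m r x }

theorem appLin_apply (m : A ⟶ B) (U : X.Opens) (x : Γ(A, U)) : appLin m U x = m.app U x := rfl

end lin

end Groth.Agent.Lib.T2H5.ModLimB
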