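import Mathlib
import Groth.Agent.Lib.T2H5ModLimA
import Groth.Agent.Lib.T2H5ModLimB
import Groth.Agent.Lib.Helper26ModLim

/-!
# The system `j ↦ (u_j)_* u_j^* G` over a cofiltered limit of schemes (helper5)

Namespace `Groth.Agent.Lib.T2H5.ModLimC`.

`S = lim S_i` with affine transition maps, `G` quasi-coherent on `S_{i₀}`, `V ⊆ S_{i₀}` affine.
For `j : Over i₀` put `Est j = (u_j)_* u_j^* G` and `Einf = u_* u^* G` (modules on `S_{i₀}`), with
transition maps `tauT a : Est j ⟶ Est j'` and `tauI j : Est j ⟶ Einf`.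

* `msys`: the sections over `V` form an `MSys` (filtered colimit, elementwise form).
-/

set_option autoImplicit false
set_option linter.unusedSectionVars false
set_option linter.style.haveILetI false
universe u
open CategoryTheory CategoryTheory.Limits AlgebraicGeometry Opposite TopologicalSpace TensorProduct

namespace Groth.Agent.Lib.T2H5.ModLimC

open Groth.Agent.Lib.T2H5.ModLimA Groth.Agent.Lib.T2H5.ModLimB Groth.Agent.Lib.Helper26.ModLim
open Groth.Agent.Lib.Helper18ColimSys Groth.Agent.Helper13PullbackUnit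

variable {I : Type u} [SmallCategory I] [IsCofiltered I] (D : I ⥤ Scheme.{u}) (c : Cone D)
  (hc : IsLimit c) [∀ (i j : I) (f : i ⟶ j), IsAffineHom (D.map f)] (i₀ : I)
  (G : (D.obj i₀).Modules)

attribute [local instance] algG algA

/-- the module `(u_j)_* u_j^* G` on `S_{i₀}` -/
noncomputable abbrev Est (j : Over i₀) : (D.obj i₀).Modules := EE (D.map j.hom) G

/-- the module `u_* u^* G` on `S_{i₀}` -/
noncomputable abbrev Einf : (D.obj i₀).Modules := EE (c.π.app i₀) G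

theorem w_tr {j j' : Over i₀} (a : j' ⟶ j) : D.map a.left ≫ D.map j.hom = D.map j'.hom := by
  rw [← D.map_comp, Over.w]

/-- `Est j ⟶ Einf` -/
noncomputable def tauI (j : Over i₀) : Est D i₀ G j ⟶ Einf D c i₀ G :=
  tau (c.π.app j.left) (D.map j.hom) (c.π.app i₀) (c.w j.hom) G

/-- `Est j ⟶ Est j'` -/
noncomputable def tauT {j j' : Over i₀} (a : j' ⟶ j) : Est D i₀ G j ⟶ Est D i₀ G j' :=
  tau (D.map a.left) (D.map j.hom) (D.map j'.hom) (w_tr D i₀ a) G

variable (V : (D.obj i₀).Opens)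

/-- `tauI` on sections -/
noncomputable def sI (j : Over i₀) :
    Γ((Scheme.Modules.pullback (D.map j.hom)).obj G, D.map j.hom ⁻¹ᵁ V) →+
      Γ((Scheme.Modules.pullback (c.π.app i₀)).obj G, c.π.app i₀ ⁻¹ᵁ V) :=
  tauSec (c.π.app j.left) (D.map j.hom) (c.π.app i₀) (c.w j.hom) G V

/-- `tauT` on sections -/
noncomputable def sT {j j' : Over i₀} (a : j' ⟶ j) :
    Γ((Scheme.Modules.pullback (D.map j.hom)).obj G, D.map j.hom ⁻¹ᵁ V) →+
      Γ((Scheme.Modules.pullback (D.map j'.hom)).obj G, D.map j'.hom ⁻¹ᵁ V) :=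
  tauSec (D.map a.left) (D.map j.hom) (D.map j'.hom) (w_tr D i₀ a) G V

theorem sI_apply (j : Over i₀)
    (z : Γ((Scheme.Modules.pullback (D.map j.hom)).obj G, D.map j.hom ⁻¹ᵁ V)) :
    sI D c i₀ G V j z = (tauI D c i₀ G j).app V z := rfl

theorem sT_apply {j j' : Over i₀} (a : j' ⟶ j)
    (z : Γ((Scheme.Modules.pullback (D.map j.hom)).obj G, D.map j.hom ⁻¹ᵁ V)) :
    sT D i₀ G V a z = (tauT D i₀ G a).app V z := rfl

theorem sI_smul (j : Over i₀) (b : Gj D i₀ V j)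
    (z : Γ((Scheme.Modules.pullback (D.map j.hom)).obj G, D.map j.hom ⁻¹ᵁ V)) :
    sI D c i₀ G V j (b • z) = (gG D c i₀ V j).hom b • sI D c i₀ G V j z :=
  tauSec_smul _ _ _ _ G V b z

theorem sT_smul {j j' : Over i₀} (a : j' ⟶ j) (b : Gj D i₀ V j)
    (z : Γ((Scheme.Modules.pullback (D.map j.hom)).obj G, D.map j.hom ⁻¹ᵁ V)) :
    sT D i₀ G V a (b • z) = (tr D i₀ V a).hom b • sT D i₀ G V a z :=
  tauSec_smul _ _ _ _ G V b z

theorem sI_unit (j : Over i₀) (n : Γ(G, V)) :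
    sI D c i₀ G V j ((unitHom (D.map j.hom) G).app V n) = (unitHom (c.π.app i₀) G).app V n :=
  tauSec_unit _ _ _ _ G V n

theorem sT_unit {j j' : Over i₀} (a : j' ⟶ j) (n : Γ(G, V)) :
    sT D i₀ G V a ((unitHom (D.map j.hom) G).app V n) = (unitHom (D.map j'.hom) G).app V n :=
  tauSec_unit _ _ _ _ G V n

theorem tr_comp {j j' j'' : Over i₀} (a : j'' ⟶ j') (b : j' ⟶ j) :
    tr D i₀ V b ≫ tr D i₀ V a = tr D i₀ V (a ≫ b) :=
  appLE_comp_of_eq _ _ _ (by rw [Over.comp_left, D.map_comp]) _ _ _ _ _ _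

variable {V} [G.IsQuasicoherent] (hV : IsAffineOpen V)

include hV in
theorem sT_sI {j j' : Over i₀} (a : j' ⟶ j)
    (z : Γ((Scheme.Modules.pullback (D.map j.hom)).obj G, D.map j.hom ⁻¹ᵁ V)) :
    sI D c i₀ G V j' (sT D i₀ G V a z) = sI D c i₀ G V j z := by
  refine unit_induction (D.map j.hom) G hV (hV.preimage _)
    (motive := fun z => sI D c i₀ G V j' (sT D i₀ G V a z) = sI D c i₀ G V j z) ?_ ?_ ?_ ?_ z
  · rw [map_zero, map_zero, map_zero]
  · intro n
    rw [sT_unit, sI_unit, sI_unit]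
  · intro b z ih
    rw [sT_smul, sI_smul, sI_smul, ih]
    congr 1
    exact congrArg (fun k => k.hom b) (tr_gG D c i₀ V a)
  · intro z z' ih ih'
    rw [map_add, map_add, map_add, ih, ih']

include hV in
theorem sT_comp {j j' j'' : Over i₀} (a : j'' ⟶ j') (b : j' ⟶ j)
    (z : Γ((Scheme.Modules.pullback (D.map j.hom)).obj G, D.map j.hom ⁻¹ᵁ V)) :
    sT D i₀ G V (a ≫ b) z = sT D i₀ G V a (sT D i₀ G V b z) := by
  refine unit_induction (D.map j.hom) G hV (hV.preimage _)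
    (motive := fun z => sT D i₀ G V (a ≫ b) z = sT D i₀ G V a (sT D i₀ G V b z)) ?_ ?_ ?_ ?_ z
  · rw [map_zero, map_zero, map_zero]
  · intro n
    rw [sT_unit, sT_unit, sT_unit]
  · intro r z ih
    rw [sT_smul, sT_smul, sT_smul, ih]
    congr 1
    exact (congrArg (fun k => k.hom r) (tr_comp D i₀ V a b)).symm
  · intro z z' ih ih'
    rw [map_add, map_add, map_add, ih, ih']

include hc hV in
/-- every section of `u^* G` over `u⁻¹ V` comes from a stage -/
theorem exists_sI_eq (y : Γ((Scheme.Modules.pullback (c.π.app i₀)).obj G, c.π.app i₀ ⁻¹ᵁ V)) :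
    ∃ (j : Over i₀)
      (x : Γ((Scheme.Modules.pullback (D.map j.hom)).obj G, D.map j.hom ⁻¹ᵁ V)),
      sI D c i₀ G V j x = y := by
  haveI : IsAffineHom (c.π.app i₀) := isAffineHom_π_app D c hc i₀
  refine unit_induction (c.π.app i₀) G hV (hV.preimage _)
    (motive := fun y => ∃ (j : Over i₀)
      (x : Γ((Scheme.Modules.pullback (D.map j.hom)).obj G, D.map j.hom ⁻¹ᵁ V)),
      sI D c i₀ G V j x = y) ?_ ?_ ?_ ?_ y
  · exact ⟨Over.mk (𝟙 i₀), 0, map_zero _⟩
  · intro n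
    exact ⟨Over.mk (𝟙 i₀), (unitHom (D.map (Over.mk (𝟙 i₀)).hom) G).app V n, sI_unit D c i₀ G V _ n⟩
  · rintro b y ⟨j, x, rfl⟩
    obtain ⟨j₁, β, hβ⟩ := (sys D c hc i₀ V hV).surj b
    refine ⟨IsCofiltered.min j j₁, (tr D i₀ V (IsCofiltered.minToRight j j₁)).hom β •
      sT D i₀ G V (IsCofiltered.minToLeft j j₁) x, ?_⟩
    rw [sI_smul, sT_sI D c i₀ G hV]
    congr 1
    rw [← hβ]
    exact congrArg (fun k => k.hom β) (tr_gG D c i₀ V (IsCofiltered.minToRight j j₁))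
  · rintro y y' ⟨j, x, rfl⟩ ⟨j', x', rfl⟩
    refine ⟨IsCofiltered.min j j', sT D i₀ G V (IsCofiltered.minToLeft j j') x +
      sT D i₀ G V (IsCofiltered.minToRight j j') x', ?_⟩
    rw [map_add, sT_sI D c i₀ G hV, sT_sI D c i₀ G hV]

include hc hV in
/-- a section of `G` over `V` dying in `u^* G` dies at a finite stage -/
theorem unit_app_eq_zero_stage (z : Γ(G, V)) (hz : (unitHom (c.π.app i₀) G).app V z = 0) :
    ∃ j : Over i₀, (unitHom (D.map j.hom) G).app V z = 0 := by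
  haveI : IsAffineHom (c.π.app i₀) := isAffineHom_π_app D c hc i₀
  have hVinf : IsAffineOpen (c.π.app i₀ ⁻¹ᵁ V) := hV.preimage _
  have h1 : (1 : Γ(c.pt, c.π.app i₀ ⁻¹ᵁ V)) ⊗ₜ[Γ(D.obj i₀, V)] z = 0 := by
    obtain ⟨l', hl', -⟩ := existsUnique_lift (Y := c.pt) (c.π.app i₀) G hV hVinf le_rfl
      (Γ(c.pt, c.π.app i₀ ⁻¹ᵁ V) ⊗[Γ(D.obj i₀, V)] Γ(G, V))
      ((TensorProduct.mk Γ(D.obj i₀, V) Γ(c.pt, c.π.app i₀ ⁻¹ᵁ V) Γ(G, V) 1).toAddMonoidHom)
      (fun r x => by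
        show (1 : Γ(c.pt, c.π.app i₀ ⁻¹ᵁ V)) ⊗ₜ[Γ(D.obj i₀, V)] (r • x) =
          (Scheme.Hom.appLE (X := c.pt) (c.π.app i₀) V (c.π.app i₀ ⁻¹ᵁ V) le_rfl).hom r •
            ((1 : Γ(c.pt, c.π.app i₀ ⁻¹ᵁ V)) ⊗ₜ[Γ(D.obj i₀, V)] x)
        rw [TensorProduct.tmul_smul, TensorProduct.smul_tmul', TensorProduct.smul_tmul',
          Algebra.smul_def, smul_eq_mul]
        rfl)
    have := hl' z
    have hu : unitSec (c.π.app i₀) G (le_refl (c.π.app i₀ ⁻¹ᵁ V)) z = 0 :=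
      (unitSec_rfl (c.π.app i₀) G z).trans hz
    rw [hu, map_zero] at this
    exact this.symm
  obtain ⟨j, hj⟩ := Sys.exists_tmul_eq_zero (sys D c hc i₀ V hV)
    (LinearMap.toSpanSingleton Γ(D.obj i₀, V) Γ(G, V) z) (fun m => by
      show (1 : Γ(c.pt, c.π.app i₀ ⁻¹ᵁ V)) ⊗ₜ[Γ(D.obj i₀, V)] (m • z) = 0
      rw [TensorProduct.tmul_smul, h1, smul_zero])
  have h2 : (1 : Gj D i₀ V j) ⊗ₜ[Γ(D.obj i₀, V)] z = 0 := by
    have := hj 1
    rwa [LinearMap.toSpanSingleton_apply, one_smul] at this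
  refine ⟨j, ?_⟩
  let υ : Γ(G, V) →+ Γ((Scheme.Modules.pullback (D.map j.hom)).obj G, D.map j.hom ⁻¹ᵁ V) :=
    ((unitHom (D.map j.hom) G).app V).hom
  have hυ : ∀ (r : Γ(D.obj i₀, V)) (n : Γ(G, V)),
      υ (r • n) = ((D.map j.hom).appLE V (D.map j.hom ⁻¹ᵁ V) le_rfl).hom r • υ n := by
    intro r n
    have := unitSec_smul (D.map j.hom) G (le_refl (D.map j.hom ⁻¹ᵁ V)) r n
    rw [unitSec_rfl, unitSec_rfl] at this
    exact this
  let φ : Gj D i₀ V j →+ Γ(G, V) →+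
      Γ((Scheme.Modules.pullback (D.map j.hom)).obj G, D.map j.hom ⁻¹ᵁ V) :=
    { toFun := fun b =>
        { toFun := fun n => b • υ n
          map_zero' := by rw [map_zero, smul_zero]
          map_add' := fun n n' => by rw [map_add, smul_add] }
      map_zero' := by
        ext n
        exact zero_smul _ _
      map_add' := fun b b' => by
        ext n
        exact add_smul _ _ _ }
  let θ := TensorProduct.liftAddHom (R := Γ(D.obj i₀, V)) φ (fun r b n => by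
    show (r • b) • υ n = b • υ (r • n)
    rw [hυ, ← mul_smul, Algebra.smul_def, mul_comm]
    rfl)
  have h3 : θ ((1 : Gj D i₀ V j) ⊗ₜ[Γ(D.obj i₀, V)] z) = υ z := by
    show (1 : Gj D i₀ V j) • υ z = υ z
    exact one_smul _ _
  rw [h2, map_zero] at h3
  exact h3.symm

include hc hV in
/-- a section at stage `j` dying in the limit dies at a later stage -/
theorem exists_sT_eq_zero (j : Over i₀)
    (x : Γ((Scheme.Modules.pullback (D.map j.hom)).obj G, D.map j.hom ⁻¹ᵁ V))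
    (hx : sI D c i₀ G V j x = 0) : ∃ (j' : Over i₀) (a : j' ⟶ j), sT D i₀ G V a x = 0 := by
  have h1 := (tauSec_eq_zero_iff _ _ _ _ G V x).1 hx
  haveI : ((Scheme.Modules.pullback (D.map j.hom)).obj G).IsQuasicoherent :=
    Groth.Agent.Lib.Helper2.PullbackSec.isQuasicoherent_pullback _ _
  obtain ⟨k, hk⟩ := unit_app_eq_zero_stage D c hc j.left
    ((Scheme.Modules.pullback (D.map j.hom)).obj G) (hV.preimage (D.map j.hom)) x h1
  refine ⟨Over.mk (k.hom ≫ j.hom), Over.homMk k.hom, ?_⟩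
  exact (tauSec_eq_zero_iff _ _ _ _ G V x).2 hk

include hc hV in
/-- the sections over an affine open `V ⊆ S_{i₀}` of the modules `(u_j)_* u_j^* G` form a filtered
system with colimit the sections of `u_* u^* G`. -/
theorem msys : MSys Γ(D.obj i₀, V) (fun j : Over i₀ => (Γ(Est D i₀ G j, V) : Type u))
    (fun {j j'} (a : j' ⟶ j) => appLin (tauT D i₀ G a) V) (Γ(Einf D c i₀ G, V) : Type u)
    (fun j => appLin (tauI D c i₀ G j) V) where
  coh a x := sT_sI D c i₀ G hV a x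
  comp a b x := sT_comp D i₀ G hV a b x
  surj y := exists_sI_eq D c hc i₀ G hV y
  ker j x hx := exists_sT_eq_zero D c hc i₀ G hV j x hx

end Groth.Agent.Lib.T2H5.ModLimC
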