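import Mathlib
import Groth.Agent.Lib.T2H5ModLimC
import Groth.Agent.Lib.Helper13ModGlue
import Groth.Agent.Lib.Helper2FPAff
import Groth.Agent.Lib.Helper23FinType2

/-!
# Factoring a map from a finitely presented module through a stage (helper5)

Namespace `Groth.Agent.Lib.T2H5.ModLimD`.

* `LocFam.postcomp`, `LocFam.ofHom`, `hom_ext_cover`, `LocFam.eq_of_affine_cover`;
* `exists_triples`: finite affine covers of the pairwise intersections of a finite family of affine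
  opens of a quasi-separated scheme;
* `exists_factor`: on a qcqs stage `S_{i₀}` of a cofiltered limit with affine transition maps, every
  map `F₀ ⟶ u_* u^* G₀` from a finitely presented quasi-coherent module factors through
  `(u_j)_* u_j^* G₀` for some `j` over `i₀`.
-/

set_option autoImplicit false
set_option linter.unusedSectionVars false
set_option linter.style.haveILetI false
universe u
open CategoryTheory CategoryTheory.Limits AlgebraicGeometry Opposite TopologicalSpace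

namespace Groth.Agent.Lib.T2H5.ModLimD

open Groth.Agent.Lib.T2H5.ModLimA Groth.Agent.Lib.T2H5.ModLimB Groth.Agent.Lib.T2H5.ModLimC
open Groth.Agent.Helper13ModGlue Groth.Agent.Lib.Helper6

section locfam
variable {X : Scheme.{u}} {H F F' : X.Modules}

theorem app_res (t : F ⟶ F') {W W' : X.Opens} (h : W' ≤ W) (y : Γ(F, W)) :
    t.app W' (res F h y) = res F' h (t.app W y) := by
  have n := t.mapPresheaf.naturality (homOfLE h).op
  have e := CategoryTheory.congr_fun n y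
  simp only [Scheme.Modules.mapPresheaf_app, ConcreteCategory.comp_apply] at e
  exact e

/-- post-composition of a local family with a morphism of modules -/
noncomputable def postcomp {V : X.Opens} (D : LocFam V H F) (t : F ⟶ F') : LocFam V H F' where
  d W hW := (t.app W).hom.comp (D.d W hW)
  nat W W' hW hW' τ := by
    show res F' hW' (t.app W (D.d W hW τ)) = t.app W' (D.d W' (hW'.trans hW) (res H hW' τ))
    rw [← D.nat W W' hW hW' τ, app_res]
  lin W hW a τ := by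
    show t.app W (D.d W hW (a • τ)) = a • t.app W (D.d W hW τ)
    rw [D.lin, Scheme.Modules.Hom.app_smul]

theorem postcomp_d {V : X.Opens} (D : LocFam V H F) (t : F ⟶ F') (W : X.Opens) (hW : W ≤ V)
    (τ : Γ(H, W)) : (postcomp D t).d W hW τ = t.app W (D.d W hW τ) := rfl

/-- the local family of a morphism of modules -/
noncomputable def ofHom (ψ : H ⟶ F) (V : X.Opens) : LocFam V H F where
  d W _ := (ψ.app W).hom
  nat _ _ _ hW' τ := (app_res ψ hW' τ).symm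
  lin _ _ a τ := Scheme.Modules.Hom.app_smul ψ a τ

theorem ofHom_d (ψ : H ⟶ F) (V : X.Opens) (W : X.Opens) (hW : W ≤ V) (τ : Γ(H, W)) :
    (ofHom ψ V).d W hW τ = ψ.app W τ := rfl

variable [H.IsQuasicoherent]

/-- two morphisms out of a quasi-coherent module agreeing on the sections over an affine open cover
are equal -/
theorem hom_ext_cover {κ : Type*} (V : κ → X.Opens) (hcov : ⨆ i, V i = ⊤)
    (hVa : ∀ i, IsAffineOpen (V i)) (ψ₁ ψ₂ : H ⟶ F)
    (h : ∀ k (m : Γ(H, V k)), ψ₁.app (V k) m = ψ₂.app (V k) m) : ψ₁ = ψ₂ := by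
  refine Scheme.Modules.hom_ext _ _ fun U => ?_
  ext τ
  refine TopCat.Sheaf.eq_of_locally_eq' ⟨F.presheaf, F.isSheaf⟩ (fun k : κ => U ⊓ V k) U
    (fun k => homOfLE inf_le_left) ?_ _ _ (fun k => ?_)
  · intro x hx
    have hx' : x ∈ (⨆ i, V i : X.Opens) := by rw [hcov]; trivial
    obtain ⟨k, hk⟩ := Opens.mem_iSup.mp hx'
    exact Opens.mem_iSup.mpr ⟨k, hx, hk⟩
  · show res F inf_le_left (ψ₁.app U τ) = res F inf_le_left (ψ₂.app U τ)
    rw [← app_res, ← app_res]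
    exact LocFam.eq_of_le (hVa k) H F le_rfl (ofHom ψ₁ (V k)) (ofHom ψ₂ (V k))
      (fun m => by
        show ψ₁.app (V k) (res H le_rfl m) = ψ₂.app (V k) (res H le_rfl m)
        rw [res_self]
        exact h k m) (U ⊓ V k) inf_le_right (res H inf_le_left τ)

/-- a local family on an affine open whose composite with `t` agrees with `h'` on the sections over
that affine open agrees with it everywhere below -/
theorem postcomp_eq_of_top {V : X.Opens} (hV : IsAffineOpen V) (D : LocFam V H F) (t : F ⟶ F')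
    (h' : H ⟶ F') (htop : ∀ m : Γ(H, V), t.app V (D.d V le_rfl m) = h'.app V m) (W : X.Opens)
    (hW : W ≤ V) (σ : Γ(H, W)) : t.app W (D.d W hW σ) = h'.app W σ :=
  LocFam.eq_of_le hV H F' le_rfl (postcomp D t) (ofHom h' V) (fun m => by
    show t.app V (D.d V le_rfl (res H le_rfl m)) = h'.app V (res H le_rfl m)
    rw [res_self]
    exact htop m) W hW σ

/-- two local families agreeing on the members of an affine open cover of `V₁ ⊓ V₂` agree on all
opens below `V₁ ⊓ V₂` -/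
theorem eq_of_affine_cover {V₁ V₂ : X.Opens} (D₁ : LocFam V₁ H F) (D₂ : LocFam V₂ H F)
    (hcov : ∀ x, x ∈ V₁ → x ∈ V₂ → ∃ W : X.affineOpens, x ∈ (W : X.Opens) ∧
      ∃ (h₁ : (W : X.Opens) ≤ V₁) (h₂ : (W : X.Opens) ≤ V₂),
        ∀ σ : Γ(H, (W : X.Opens)), D₁.d W h₁ σ = D₂.d W h₂ σ)
    (W' : X.Opens) (h₁ : W' ≤ V₁) (h₂ : W' ≤ V₂) (τ : Γ(H, W')) :
    D₁.d W' h₁ τ = D₂.d W' h₂ τ := by
  refine TopCat.Sheaf.eq_of_locally_eq' ⟨F.presheaf, F.isSheaf⟩
    (fun w : {W : X.affineOpens // ∃ (h₁ : (W : X.Opens) ≤ V₁) (h₂ : (W : X.Opens) ≤ V₂),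
        ∀ σ : Γ(H, (W : X.Opens)), D₁.d W h₁ σ = D₂.d W h₂ σ} => W' ⊓ (w.1 : X.Opens)) W'
    (fun w => homOfLE inf_le_left) ?_ _ _ (fun w => ?_)
  · intro x hx
    obtain ⟨W, hxW, hW⟩ := hcov x (h₁ hx) (h₂ hx)
    exact Opens.mem_iSup.mpr ⟨⟨W, hW⟩, hx, hxW⟩
  · obtain ⟨w₁, w₂, hw⟩ := w.2
    show res F inf_le_left (D₁.d W' h₁ τ) = res F inf_le_left (D₂.d W' h₂ τ)
    rw [D₁.nat, D₂.nat]
    exact LocFam.eq_of_le w.1.2 H F (inf_le_right : W' ⊓ (w.1 : X.Opens) ≤ (w.1 : X.Opens))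
      (D₁.restrict (inf_le_left.trans h₁)) (D₂.restrict (inf_le_left.trans h₂)) (fun σ => by
        show D₁.d _ _ (res H inf_le_right σ) = D₂.d _ _ (res H inf_le_right σ)
        rw [← D₁.nat _ _ w₁ inf_le_right σ, ← D₂.nat _ _ w₂ inf_le_right σ, hw σ])
      (W' ⊓ (w.1 : X.Opens)) le_rfl (res H inf_le_left τ)

end locfam

section triples
variable (X : Scheme.{u}) [QuasiSeparatedSpace X]

theorem exists_triples (s : Finset X.affineOpens) :
    ∃ 𝒯 : Finset (s × s × X.affineOpens),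
      (∀ q ∈ 𝒯, (q.2.2 : X.Opens) ≤ (q.1.1 : X.Opens) ⊓ (q.2.1.1 : X.Opens)) ∧
      ∀ (k l : s) (x : X), x ∈ (k.1 : X.Opens) → x ∈ (l.1 : X.Opens) →
        ∃ W : X.affineOpens, (k, l, W) ∈ 𝒯 ∧ x ∈ (W : X.Opens) := by
  classical
  have key : ∀ kl : s × s, ∃ t : Finset X.affineOpens,
      (∀ W ∈ t, (W : X.Opens) ≤ (kl.1.1 : X.Opens) ⊓ (kl.2.1 : X.Opens)) ∧
      ∀ x : X, x ∈ (kl.1.1 : X.Opens) → x ∈ (kl.2.1 : X.Opens) → ∃ W ∈ t, x ∈ (W : X.Opens) := by
    intro kl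
    have hcomp : IsCompact (((kl.1.1 : X.Opens) : Set X) ∩ ((kl.2.1 : X.Opens) : Set X)) :=
      QuasiSeparatedSpace.inter_isCompact _ _ (kl.1.1 : X.Opens).isOpen kl.1.1.2.isCompact
        (kl.2.1 : X.Opens).isOpen kl.2.1.2.isCompact
    obtain ⟨t, htfin, ht⟩ := isCompact_and_isOpen_iff_finite_and_eq_biUnion_affineOpens.1
      ⟨hcomp, (kl.1.1 : X.Opens).isOpen.inter (kl.2.1 : X.Opens).isOpen⟩
    refine ⟨htfin.toFinset, fun W hW => ?_, fun x hx₁ hx₂ => ?_⟩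
    · have hW' : W ∈ t := htfin.mem_toFinset.1 hW
      intro y hy
      have : y ∈ ⋃ i ∈ t, ((i : X.Opens) : Set X) := Set.mem_biUnion hW' hy
      rw [← ht] at this
      exact this
    · have : x ∈ ⋃ i ∈ t, ((i : X.Opens) : Set X) := by rw [← ht]; exact ⟨hx₁, hx₂⟩
      obtain ⟨W, hW, hxW⟩ := Set.mem_iUnion₂.1 this
      exact ⟨W, htfin.mem_toFinset.2 hW, hxW⟩
  choose t ht1 ht2 using key
  refine ⟨Finset.univ.biUnion fun kl : s × s => (t kl).image fun W => (kl.1, kl.2, W), ?_, ?_⟩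
  · intro q hq
    obtain ⟨kl, -, hq⟩ := Finset.mem_biUnion.1 hq
    obtain ⟨W, hW, rfl⟩ := Finset.mem_image.1 hq
    exact ht1 kl W hW
  · intro k l x hk hl
    obtain ⟨W, hW, hxW⟩ := ht2 (k, l) x hk hl
    exact ⟨W, Finset.mem_biUnion.2 ⟨(k, l), Finset.mem_univ _, Finset.mem_image.2 ⟨W, hW, rfl⟩⟩, hxW⟩

end triples

section main
variable {I : Type u} [SmallCategory I] [IsCofiltered I] (D : I ⥤ Scheme.{u}) (c : Cone D)
  (hc : IsLimit c) [∀ (i j : I) (f : i ⟶ j), IsAffineHom (D.map f)] (i₀ : I)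

include hc in
/-- **factorisation through a stage**: every map from a finitely presented quasi-coherent module
`F₀` on the qcqs stage `S_{i₀}` to `u_* u^* G₀` factors through `(u_j)_* u_j^* G₀` for some `j`. -/
theorem exists_factor [CompactSpace (D.obj i₀)] [QuasiSeparatedSpace (D.obj i₀)]
    (F₀ G₀ : (D.obj i₀).Modules) [F₀.IsQuasicoherent]
    [SheafOfModules.IsFinitePresentation (R := (D.obj i₀).ringCatSheaf) F₀] [G₀.IsQuasicoherent]
    (h' : F₀ ⟶ Einf D c i₀ G₀) :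
    ∃ (j : Over i₀) (ψ : F₀ ⟶ Est D i₀ G₀ j), ψ ≫ tauI D c i₀ G₀ j = h' := by
  classical
  obtain ⟨s, hs⟩ := Groth.Agent.Lib.Helper26.ModLim.exists_finite_affine_cover (D.obj i₀)
  let V : s → (D.obj i₀).Opens := fun k => (k.1 : (D.obj i₀).Opens)
  have hVa : ∀ k, IsAffineOpen (V k) := fun k => k.1.2
  obtain ⟨𝒯, h𝒯, hcov𝒯⟩ := exists_triples (D.obj i₀) s
  -- local lifts
  have key1 : ∀ k : s, ∃ (j : Over i₀)
      (L : Γ(F₀, V k) →ₗ[Γ(D.obj i₀, V k)] Γ(Est D i₀ G₀ j, V k)),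
      ∀ m, (tauI D c i₀ G₀ j).app (V k) (L m) = h'.app (V k) m := by
    intro k
    haveI : Module.FinitePresentation Γ(D.obj i₀, V k) Γ(F₀, V k) :=
      Groth.Agent.Lib.Helper2.FPAff.finitePresentation_sections F₀ (hVa k)
    exact (msys D c hc i₀ G₀ (hVa k)).lift_linearMap (appLin h' (V k))
  choose jk Lk hLk using key1
  obtain ⟨j₀, hj₀⟩ := IsCofiltered.inf_objs_exists (Finset.univ.image jk)
  have ak : ∀ k, j₀ ⟶ jk k := fun k =>
    (hj₀ (Finset.mem_image_of_mem jk (Finset.mem_univ k))).some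
  have key2 : ∀ k, ∃ Dk : LocFam (V k) F₀ (Est D i₀ G₀ j₀), ∀ m : Γ(F₀, V k),
      (tauI D c i₀ G₀ j₀).app (V k) (Dk.d (V k) le_rfl m) = h'.app (V k) m := by
    intro k
    obtain ⟨Dk, hDk⟩ := exists_locFam (hVa k) F₀ (Est D i₀ G₀ (jk k)) (Lk k).toAddMonoidHom
      (fun r x => (Lk k).map_smul r x)
    refine ⟨postcomp Dk (tauT D i₀ G₀ (ak k)), fun m => ?_⟩
    rw [postcomp_d, hDk]
    exact ((msys D c hc i₀ G₀ (hVa k)).coh (ak k) (Lk k m)).trans (hLk k m)
  choose D₀ hD₀ using key2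
  -- make the local families agree on the chosen affine opens of the overlaps
  have key3 : ∀ 𝒯' : Finset (s × s × (D.obj i₀).affineOpens), 𝒯' ⊆ 𝒯 →
      ∃ (j : Over i₀) (Dk : ∀ k : s, LocFam (V k) F₀ (Est D i₀ G₀ j)),
        (∀ (k : s) (m : Γ(F₀, V k)),
          (tauI D c i₀ G₀ j).app (V k) ((Dk k).d (V k) le_rfl m) = h'.app (V k) m) ∧
        ∀ q ∈ 𝒯', ∀ (hk : (q.2.2 : (D.obj i₀).Opens) ≤ V q.1)
          (hl : (q.2.2 : (D.obj i₀).Opens) ≤ V q.2.1) (σ : Γ(F₀, (q.2.2 : (D.obj i₀).Opens))),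
          (Dk q.1).d _ hk σ = (Dk q.2.1).d _ hl σ := by
    intro 𝒯'
    induction 𝒯' using Finset.induction_on with
    | empty => exact fun _ => ⟨j₀, D₀, hD₀, by simp⟩
    | insert q 𝒯'' _ ih =>
      intro hsub
      obtain ⟨j, Dk, h1, h2⟩ := ih (fun x hx => hsub (Finset.mem_insert_of_mem hx))
      have hq : q ∈ 𝒯 := hsub (Finset.mem_insert_self _ _)
      have hk : (q.2.2 : (D.obj i₀).Opens) ≤ V q.1 := (h𝒯 q hq).trans inf_le_left
      have hl : (q.2.2 : (D.obj i₀).Opens) ≤ V q.2.1 := (h𝒯 q hq).trans inf_le_right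
      let l₁ : Γ(F₀, (q.2.2 : (D.obj i₀).Opens)) →ₗ[Γ(D.obj i₀, (q.2.2 : (D.obj i₀).Opens))]
          Γ(Est D i₀ G₀ j, (q.2.2 : (D.obj i₀).Opens)) :=
        { toFun := fun σ => (Dk q.1).d _ hk σ
          map_add' := fun x y => map_add _ x y
          map_smul' := fun a σ => (Dk q.1).lin _ hk a σ }
      let l₂ : Γ(F₀, (q.2.2 : (D.obj i₀).Opens)) →ₗ[Γ(D.obj i₀, (q.2.2 : (D.obj i₀).Opens))]
          Γ(Est D i₀ G₀ j, (q.2.2 : (D.obj i₀).Opens)) :=
        { toFun := fun σ => (Dk q.2.1).d _ hl σ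
          map_add' := fun x y => map_add _ x y
          map_smul' := fun a σ => (Dk q.2.1).lin _ hl a σ }
      have hagree : ∀ σ, appLin (tauI D c i₀ G₀ j) _ (l₁ σ) = appLin (tauI D c i₀ G₀ j) _ (l₂ σ) := by
        intro σ
        exact (postcomp_eq_of_top (hVa q.1) (Dk q.1) (tauI D c i₀ G₀ j) h' (h1 q.1) _ hk σ).trans
          (postcomp_eq_of_top (hVa q.2.1) (Dk q.2.1) (tauI D c i₀ G₀ j) h' (h1 q.2.1) _ hl σ).symm
      haveI : Module.Finite Γ(D.obj i₀, (q.2.2 : (D.obj i₀).Opens))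
          Γ(F₀, (q.2.2 : (D.obj i₀).Opens)) :=
        Groth.Agent.Lib.Helper23.FinType.finite_of_isFiniteType F₀ q.2.2.2
      obtain ⟨j', a, ha⟩ := (msys D c hc i₀ G₀ q.2.2.2).eq_linearMap j l₁ l₂ hagree
      refine ⟨j', fun k => postcomp (Dk k) (tauT D i₀ G₀ a), fun k m => ?_, fun q' hq' hk' hl' σ => ?_⟩
      · rw [postcomp_d]
        exact ((msys D c hc i₀ G₀ (hVa k)).coh a _).trans (h1 k m)
      · rw [postcomp_d, postcomp_d]
        rcases Finset.mem_insert.mp hq' with rfl | hq''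
        · exact ha σ
        · rw [h2 q' hq'' hk' hl' σ]
  obtain ⟨j, Dk, h1, h2⟩ := key3 𝒯 (Finset.Subset.refl _)
  have compat : ∀ (k l : s) (W' : (D.obj i₀).Opens) (hk : W' ≤ V k) (hl : W' ≤ V l)
      (τ : Γ(F₀, W')), (Dk k).d W' hk τ = (Dk l).d W' hl τ := by
    intro k l W' hk hl τ
    refine eq_of_affine_cover (Dk k) (Dk l) (fun x hxk hxl => ?_) W' hk hl τ
    obtain ⟨W, hW, hxW⟩ := hcov𝒯 k l x hxk hxl
    exact ⟨W, hxW, (h𝒯 _ hW).trans inf_le_left, (h𝒯 _ hW).trans inf_le_right,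
      fun σ => h2 _ hW _ _ σ⟩
  obtain ⟨ψ, hψ⟩ := exists_hom_of_locFams V hs.iSup_eq_top F₀ (Est D i₀ G₀ j) Dk compat
  refine ⟨j, ψ, hom_ext_cover V hs.iSup_eq_top hVa _ _ fun k m => ?_⟩
  show (tauI D c i₀ G₀ j).app (V k) (ψ.app (V k) m) = h'.app (V k) m
  rw [hψ k (V k) le_rfl m]
  exact h1 k m

end main

end Groth.Agent.Lib.T2H5.ModLimD
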