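import Mathlib
import Groth.Agent.Lib.T2H5ModLimD

/-!
# Surjectivity of `colim Hom(F_j, G_j) → Hom(F, G)` (EGA IV 8.5.2) (helper5)

Namespace `Groth.Agent.Lib.T2H5.ModLimE`.

* `homEquiv_tau`: the adjunct of a map `g^*F ⟶ g^*G`, composed with `tau`, is the adjunct of its
  pull-back along `f` transported to `q^*F ⟶ q^*G`.
* `hom_surjective`: every `h : u^*F₀ ⟶ u^*G₀` comes from a stage.
-/

set_option autoImplicit false
set_option linter.unusedSectionVars false
set_option linter.style.haveILetI false
universe u
open CategoryTheory CategoryTheory.Limits AlgebraicGeometry Opposite TopologicalSpace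

namespace Groth.Agent.Lib.T2H5.ModLimE

open Groth.Agent.Lib.T2H5.ModLimB Groth.Agent.Lib.T2H5.ModLimC Groth.Agent.Lib.T2H5.ModLimD

section adj
variable {X Y Z : Scheme.{u}} (f : Y ⟶ X) (g : X ⟶ Z) (q : Y ⟶ Z) (e : f ≫ g = q)
  (F G : Z.Modules)

theorem homEquiv_tau
    (hj : (Scheme.Modules.pullback g).obj F ⟶ (Scheme.Modules.pullback g).obj G) :
    (Scheme.Modules.pullbackPushforwardAdjunction g).homEquiv F _ hj ≫ tau f g q e G =
      (Scheme.Modules.pullbackPushforwardAdjunction q).homEquiv F _
        ((cmp f g q e F).inv ≫ (Scheme.Modules.pullback f).map hj ≫ (cmp f g q e G).hom) := by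
  subst e
  rw [Adjunction.homEquiv_unit, Adjunction.homEquiv_unit]
  have h1 := unit_conjugateEquiv
    ((Scheme.Modules.pullbackPushforwardAdjunction g).comp
      (Scheme.Modules.pullbackPushforwardAdjunction f))
    (Scheme.Modules.pullbackPushforwardAdjunction (f ≫ g))
    (Scheme.Modules.pullbackComp f g).inv F
  rw [Scheme.Modules.conjugateEquiv_pullbackComp_inv, Adjunction.comp_unit_app] at h1
  have hcmpF : (cmp f g (f ≫ g) rfl F).inv = (Scheme.Modules.pullbackComp f g).inv.app F := by
    unfold ModLimB.cmp
    simp [Scheme.Modules.pullbackCongr]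
  have nη := (Scheme.Modules.pullbackPushforwardAdjunction f).unit.naturality hj
  simp only [Functor.id_obj, Functor.id_map, Functor.comp_obj, Functor.comp_map] at nη
  have nC := (Scheme.Modules.pushforwardComp f g).hom.naturality
    ((Scheme.Modules.pullback f).map hj ≫ (cmp f g (f ≫ g) rfl G).hom)
  simp only [Functor.comp_map] at nC
  unfold tau TG
  rw [pushforwardCongr_rfl_app]
  calc ((Scheme.Modules.pullbackPushforwardAdjunction g).unit.app F ≫
          (Scheme.Modules.pushforward g).map hj) ≫
        (Scheme.Modules.pushforward g).map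
          ((Scheme.Modules.pullbackPushforwardAdjunction f).unit.app
            ((Scheme.Modules.pullback g).obj G) ≫
            (Scheme.Modules.pushforward f).map (cmp f g (f ≫ g) rfl G).hom) ≫
        (Scheme.Modules.pushforwardComp f g).hom.app ((Scheme.Modules.pullback (f ≫ g)).obj G) ≫ 𝟙 _
      = (Scheme.Modules.pullbackPushforwardAdjunction g).unit.app F ≫
        (Scheme.Modules.pushforward g).map
          ((hj ≫ (Scheme.Modules.pullbackPushforwardAdjunction f).unit.app
            ((Scheme.Modules.pullback g).obj G)) ≫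
            (Scheme.Modules.pushforward f).map (cmp f g (f ≫ g) rfl G).hom) ≫
        (Scheme.Modules.pushforwardComp f g).hom.app ((Scheme.Modules.pullback (f ≫ g)).obj G) := by
        simp only [CategoryTheory.Functor.map_comp, Category.assoc, Category.comp_id]
    _ = (Scheme.Modules.pullbackPushforwardAdjunction g).unit.app F ≫
        (Scheme.Modules.pushforward g).map
          ((Scheme.Modules.pullbackPushforwardAdjunction f).unit.app
            ((Scheme.Modules.pullback g).obj F) ≫
            (Scheme.Modules.pushforward f).map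
              ((Scheme.Modules.pullback f).map hj ≫ (cmp f g (f ≫ g) rfl G).hom)) ≫
        (Scheme.Modules.pushforwardComp f g).hom.app ((Scheme.Modules.pullback (f ≫ g)).obj G) := by
        rw [nη]
        simp only [CategoryTheory.Functor.map_comp, Category.assoc]
    _ = ((Scheme.Modules.pullbackPushforwardAdjunction g).unit.app F ≫
        (Scheme.Modules.pushforward g).map
          ((Scheme.Modules.pullbackPushforwardAdjunction f).unit.app
            ((Scheme.Modules.pullback g).obj F))) ≫
        (Scheme.Modules.pushforward g).map ((Scheme.Modules.pushforward f).map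
              ((Scheme.Modules.pullback f).map hj ≫ (cmp f g (f ≫ g) rfl G).hom)) ≫
        (Scheme.Modules.pushforwardComp f g).hom.app ((Scheme.Modules.pullback (f ≫ g)).obj G) := by
        simp only [CategoryTheory.Functor.map_comp, Category.assoc]
    _ = ((Scheme.Modules.pullbackPushforwardAdjunction g).unit.app F ≫
        (Scheme.Modules.pushforward g).map
          ((Scheme.Modules.pullbackPushforwardAdjunction f).unit.app
            ((Scheme.Modules.pullback g).obj F))) ≫
        (Scheme.Modules.pushforwardComp f g).hom.app _ ≫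
        (Scheme.Modules.pushforward (f ≫ g)).map
          ((Scheme.Modules.pullback f).map hj ≫ (cmp f g (f ≫ g) rfl G).hom) := by
        erw [nC]
    _ = ((Scheme.Modules.pullbackPushforwardAdjunction (f ≫ g)).unit.app F ≫
          (Scheme.Modules.pushforward (f ≫ g)).map ((Scheme.Modules.pullbackComp f g).inv.app F)) ≫
        (Scheme.Modules.pushforward (f ≫ g)).map
          ((Scheme.Modules.pullback f).map hj ≫ (cmp f g (f ≫ g) rfl G).hom) := by
        rw [← Category.assoc]
        erw [h1]
    _ = _ := by
        rw [Category.assoc, ← CategoryTheory.Functor.map_comp, hcmpF]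

end adj

section main
variable {I : Type u} [SmallCategory I] [IsCofiltered I] (D : I ⥤ Scheme.{u}) (c : Cone D)
  (hc : IsLimit c) [∀ (i j : I) (f : i ⟶ j), IsAffineHom (D.map f)] (i₀ : I)

include hc in
/-- **EGA IV 8.5.2 (i), surjectivity**: every homomorphism `u^*F₀ ⟶ u^*G₀` (`F₀` of finite
presentation) is induced by a homomorphism `u_j^*F₀ ⟶ u_j^*G₀` at some stage `j` over `i₀`. -/
theorem hom_surjective [CompactSpace (D.obj i₀)] [QuasiSeparatedSpace (D.obj i₀)]
    (F₀ G₀ : (D.obj i₀).Modules) [F₀.IsQuasicoherent]
    [SheafOfModules.IsFinitePresentation (R := (D.obj i₀).ringCatSheaf) F₀] [G₀.IsQuasicoherent]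
    (h : (Scheme.Modules.pullback (c.π.app i₀)).obj F₀ ⟶
      (Scheme.Modules.pullback (c.π.app i₀)).obj G₀) :
    ∃ (j : I) (φ : j ⟶ i₀)
      (hj : (Scheme.Modules.pullback (D.map φ)).obj F₀ ⟶ (Scheme.Modules.pullback (D.map φ)).obj G₀),
      ((Scheme.Modules.pullbackComp (c.π.app j) (D.map φ) ≪≫
          Scheme.Modules.pullbackCongr (c.w φ)).app F₀).inv ≫
        (Scheme.Modules.pullback (c.π.app j)).map hj ≫
          ((Scheme.Modules.pullbackComp (c.π.app j) (D.map φ) ≪≫
            Scheme.Modules.pullbackCongr (c.w φ)).app G₀).hom = h := by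
  obtain ⟨j, ψ, hψ⟩ := exists_factor D c hc i₀ F₀ G₀
    ((Scheme.Modules.pullbackPushforwardAdjunction (c.π.app i₀)).homEquiv F₀ _ h)
  refine ⟨j.left, j.hom,
    ((Scheme.Modules.pullbackPushforwardAdjunction (D.map j.hom)).homEquiv F₀ _).symm ψ, ?_⟩
  apply ((Scheme.Modules.pullbackPushforwardAdjunction (c.π.app i₀)).homEquiv F₀ _).injective
  have := homEquiv_tau (c.π.app j.left) (D.map j.hom) (c.π.app i₀) (c.w j.hom) F₀ G₀
    (((Scheme.Modules.pullbackPushforwardAdjunction (D.map j.hom)).homEquiv F₀ _).symm ψ)
  rw [Equiv.apply_symm_apply] at this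
  exact this.symm.trans hψ

end main

end Groth.Agent.Lib.T2H5.ModLimE
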