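import Mathlib
import Groth.Agent.Lib.T2H5ModLimE
import Groth.Agent.Lib.T2H5ResPropAff
import Groth.Agent.Lib.T2H5FPExtend2
import Groth.Agent.Lib.T2H3InjFlatOpen
import Groth.Agent.Lib.Helper26ModLim2

/-!
# Descent of finitely presented modules to a stage (EGA IV 8.5.2 (ii)) (helper5)

Namespace `Groth.Agent.Lib.T2H5.ModLimF`.

* `exists_fp_pullback_epi`: for `f : X ⟶ Y` affine with `Y` qcqs, every finite type quasi-coherent
  module on `X` is a quotient of the pull-back of a finitely presented module on `Y`.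
* `fp_descends`: a finitely presented quasi-coherent module on `S = lim S_i` is the pull-back of a
  finitely presented quasi-coherent module on some stage.
-/

set_option autoImplicit false
set_option linter.unusedSectionVars false
set_option linter.style.haveILetI false
universe u
open CategoryTheory CategoryTheory.Limits AlgebraicGeometry Opposite TopologicalSpace

namespace Groth.Agent.Lib.T2H5.ModLimF

open Groth.Agent.Lib.T2H5.ModLimB Groth.Agent.Lib.T2H5.ModLimE Groth.Agent.Lib.T2H5.ResPropAff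
open Groth.Agent.Helper18Strict

theorem exists_fp_pullback_epi {X Y : Scheme.{u}} (f : X ⟶ Y) [IsAffineHom f] [CompactSpace Y]
    [QuasiSeparatedSpace Y] (F : X.Modules) [F.IsQuasicoherent]
    (hFt : SheafOfModules.IsFiniteType (R := X.ringCatSheaf) F) :
    ∃ (P : Y.Modules) (ψ : (Scheme.Modules.pullback f).obj P ⟶ F), CohB1.IsFP P ∧ Epi ψ := by
  classical
  haveI := hFt
  let K : Y.Modules := (Scheme.Modules.pushforward f).obj F
  haveI hK : K.IsQuasicoherent := Groth.Agent.Lib.Helper23.QCohLocal.isQuasicoherent_pushforward f F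
  obtain ⟨t, ht⟩ : ∃ t : Finset Y.affineOpens, (Set.univ : Set Y) ⊆ ⋃ V ∈ t, ((V : Y.Opens) : Set Y) :=
    isCompact_univ.elim_finite_subcover (fun V : Y.affineOpens => ((V : Y.Opens) : Set Y)) (fun V => V.1.2)
      (fun y _ => by
        have hy : y ∈ (⨆ V : Y.affineOpens, (V : Y.Opens)) := by
          rw [iSup_affineOpens_eq_top]; trivial
        obtain ⟨V, hV⟩ := Opens.mem_iSup.1 hy
        exact Set.mem_iUnion.2 ⟨V, hV⟩)
  have hfin : ∀ V : Y.affineOpens, Module.Finite Γ(X, f ⁻¹ᵁ V.1) Γ(F, f ⁻¹ᵁ V.1) := fun V =>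
    Groth.Agent.Lib.Helper23.FinType.finite_of_isFiniteType F (V.2.preimage f)
  choose T hT using fun V => (hfin V).fg_top
  let l : List (Σ U : Y.affineOpens, Γ(K, U.1)) :=
    t.toList.flatMap (fun V => (T V).toList.map (fun s => (⟨V, s⟩ : Σ U : Y.affineOpens, Γ(K, U.1))))
  obtain ⟨P, φ, hP, hmem⟩ := Groth.Agent.Lib.T2H5.FPExtend.exists_fp_hom_list K l
  haveI : P.IsQuasicoherent := isQCoh_of_isFP P hP
  let adj := Scheme.Modules.pullbackPushforwardAdjunction f
  let ψ : (Scheme.Modules.pullback f).obj P ⟶ F := (adj.homEquiv P F).symm φ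
  have hφ : φ = adj.unit.app P ≫ (Scheme.Modules.pushforward f).map ψ := by
    exact ((adj.homEquiv P F).apply_symm_apply φ).symm.trans (adj.homEquiv_unit P F ψ)
  haveI : ((Scheme.Modules.pullback f).obj P).IsQuasicoherent :=
    Groth.Agent.Lib.Helper20.PullbackAff.isQuasicoherent_pullback f P
  refine ⟨P, ψ, hP, ?_⟩
  refine epi_of_surjective_app_cover ψ (fun V : t => f ⁻¹ᵁ V.1.1) ?_
    (fun V => V.1.2.preimage f) (fun V => ?_)
  · rw [IsOpenCover, eq_top_iff]
    intro x _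
    obtain ⟨V, hV⟩ := Set.mem_iUnion.1 (ht (Set.mem_univ (f.base x)))
    obtain ⟨hVt, hxV⟩ := Set.mem_iUnion.1 hV
    exact Opens.mem_iSup.2 ⟨⟨V, hVt⟩, hxV⟩
  · obtain ⟨V, hVt⟩ := V
    have hsub : (↑(T V) : Set Γ(F, f ⁻¹ᵁ V.1)) ⊆ rangeApp ψ (f ⁻¹ᵁ V.1) := by
      intro s hs
      have hs' : (⟨V, s⟩ : Σ U : Y.affineOpens, Γ(K, U.1)) ∈ l :=
        List.mem_flatMap.2 ⟨V, Finset.mem_toList.2 hVt,
          List.mem_map.2 ⟨s, Finset.mem_toList.2 hs, rfl⟩⟩
      obtain ⟨g, hg⟩ := hmem _ hs'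
      refine ⟨(adj.unit.app P).app V.1 g, ?_⟩
      have h1 : φ.app V.1 g = s := hg
      rw [← h1, hφ]
      rfl
    have htop : rangeApp ψ (f ⁻¹ᵁ V.1) = ⊤ := by
      rw [eq_top_iff, ← hT V]
      exact Submodule.span_le.2 hsub
    intro m
    have hm : m ∈ rangeApp ψ (f ⁻¹ᵁ V.1) := by rw [htop]; trivial
    exact hm

section main
variable {I : Type u} [SmallCategory I] [IsCofiltered I] (D : I ⥤ Scheme.{u}) (c : Cone D)
  (hc : IsLimit c) [∀ (i j : I) (f : i ⟶ j), IsAffineHom (D.map f)] (i₀ : I)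

include hc in
/-- **EGA IV 8.5.2 (ii)**: a finitely presented quasi-coherent module on the limit descends to a
stage. -/
theorem fp_descends [CompactSpace (D.obj i₀)] [QuasiSeparatedSpace (D.obj i₀)] (F : c.pt.Modules)
    [F.IsQuasicoherent] (hF : SheafOfModules.IsFinitePresentation (R := c.pt.ringCatSheaf) F) :
    ∃ (i : I) (_ : i ⟶ i₀) (Fi : (D.obj i).Modules), Fi.IsQuasicoherent ∧ CohB1.IsFP Fi ∧
      Nonempty ((Scheme.Modules.pullback (c.π.app i)).obj Fi ≅ F) := by
  haveI : IsAffineHom (c.π.app i₀) := isAffineHom_π_app D c hc i₀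
  haveI hFT : SheafOfModules.IsFiniteType (R := c.pt.ringCatSheaf) F := isFT_of_isFP F hF
  obtain ⟨H₀, α, hH₀, hα⟩ := exists_fp_pullback_epi (X := c.pt) (c.π.app i₀) F hFT
  haveI := hα
  haveI : H₀.IsQuasicoherent := isQCoh_of_isFP H₀ hH₀
  haveI hq0 : ((Scheme.Modules.pullback (c.π.app i₀)).obj H₀).IsQuasicoherent :=
    Groth.Agent.Lib.Helper20.PullbackAff.isQuasicoherent_pullback (c.π.app i₀) H₀
  have hfp0 : SheafOfModules.IsFinitePresentation (R := c.pt.ringCatSheaf)
      ((Scheme.Modules.pullback (c.π.app i₀)).obj H₀) := isFP_pullback (c.π.app i₀) H₀ hH₀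
  have hft0 : SheafOfModules.IsFiniteType (R := c.pt.ringCatSheaf)
      ((Scheme.Modules.pullback (c.π.app i₀)).obj H₀) := isFT_of_isFP _ hfp0
  haveI hKq : (kernel α).IsQuasicoherent :=
    Groth.Agent.Lib.Helper23.QCohLocal.isQuasicoherent_kernel α
  haveI hKft : SheafOfModules.IsFiniteType (R := c.pt.ringCatSheaf) (kernel α) :=
    Groth.Agent.Lib.Helper26.ModLim2.isFiniteType_kernel_of_epi hft0 hF α
  obtain ⟨H₁, β, hH₁, hβ⟩ := exists_fp_pullback_epi (X := c.pt) (c.π.app i₀) (kernel α) hKft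
  haveI := hβ
  haveI : H₁.IsQuasicoherent := isQCoh_of_isFP H₁ hH₁
  haveI : SheafOfModules.IsFinitePresentation (R := (D.obj i₀).ringCatSheaf) H₁ := hH₁
  obtain ⟨j, φ, dj, hdj⟩ := hom_surjective D c hc i₀ H₁ H₀ (β ≫ kernel.ι α)
  haveI hq1 : ((Scheme.Modules.pullback (D.map φ)).obj H₁).IsQuasicoherent :=
    Groth.Agent.Lib.Helper20.PullbackAff.isQuasicoherent_pullback _ _
  haveI hq2 : ((Scheme.Modules.pullback (D.map φ)).obj H₀).IsQuasicoherent :=
    Groth.Agent.Lib.Helper20.PullbackAff.isQuasicoherent_pullback _ _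
  haveI hp1 : SheafOfModules.IsFinitePresentation (R := (D.obj j).ringCatSheaf)
      ((Scheme.Modules.pullback (D.map φ)).obj H₁) := isFP_pullback (D.map φ) H₁ hH₁
  haveI hp2 : SheafOfModules.IsFinitePresentation (R := (D.obj j).ringCatSheaf)
      ((Scheme.Modules.pullback (D.map φ)).obj H₀) := isFP_pullback (D.map φ) H₀ hH₀
  refine ⟨j, φ, cokernel dj, Groth.Agent.Lib.Helper23.QCohLocal.isQuasicoherent_cokernel dj,
    Groth.Agent.Lib.T2H3.InjFlatOpen.isFinitePresentation_cokernel dj, ⟨?_⟩⟩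
  -- the square
  have hsq : (Scheme.Modules.pullback (c.π.app j)).map dj ≫
      ((Scheme.Modules.pullbackComp (c.π.app j) (D.map φ) ≪≫
        Scheme.Modules.pullbackCongr (c.w φ)).app H₀).hom =
      ((Scheme.Modules.pullbackComp (c.π.app j) (D.map φ) ≪≫
        Scheme.Modules.pullbackCongr (c.w φ)).app H₁).hom ≫ (β ≫ kernel.ι α) := by
    rw [← hdj]
    simp only [Iso.hom_inv_id_assoc]
  have e0 : (Scheme.Modules.pullback (c.π.app j)).obj (cokernel dj) ≅
      cokernel ((Scheme.Modules.pullback (c.π.app j)).map dj) :=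
    PreservesCokernel.iso (Scheme.Modules.pullback (c.π.app j)) dj
  have e1 : cokernel ((Scheme.Modules.pullback (c.π.app j)).map dj) ≅ cokernel (β ≫ kernel.ι α) :=
    cokernel.mapIso _ _ _ _ hsq
  have e2 : cokernel (β ≫ kernel.ι α) ≅ cokernel (kernel.ι α) := cokernelEpiComp β (kernel.ι α)
  have e3 : cokernel (kernel.ι α) ≅ F :=
    (cokernelIsCokernel (kernel.ι α)).coconePointUniqueUpToIso
      (Abelian.epiIsCokernelOfKernel (KernelFork.ofι (kernel.ι α) (kernel.condition α))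
        (kernelIsKernel α))
  exact e0 ≪≫ e1 ≪≫ e2 ≪≫ e3

end main

end Groth.Agent.Lib.T2H5.ModLimF
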