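import Mathlib
import Groth.Prelude.Def_ActBC

/-!
# Descent of morphisms between base changes through a cofiltered limit of schemes (helper7)
-/

set_option autoImplicit false
set_option linter.unusedSectionVars false
set_option linter.unusedVariables false
set_option linter.style.haveILetI false
universe u
open CategoryTheory CategoryTheory.Limits AlgebraicGeometry

namespace Groth.Agent.Lib.T2H7.GrpLimA

variable {I : Type u} [SmallCategory I] (D : I ⥤ Scheme.{u}) (c : Cone D)

section system

variable (i : I)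

/-- the transition map `S_k ⟶ S_i` for `k` over `i`. -/
noncomputable def tr (k : Over i) : D.obj k.left ⟶ D.obj i := D.map k.hom

theorem tr_mk {k : I} (g : k ⟶ i) : tr D i (Over.mk g) = D.map g := rfl

@[reassoc (attr := simp)]
theorem map_tr {k l : Over i} (φ : k ⟶ l) : D.map φ.left ≫ tr D i l = tr D i k := by
  unfold tr
  rw [← D.map_comp, Over.w φ]

@[reassoc (attr := simp)]
theorem π_tr (k : Over i) : c.π.app k.left ≫ tr D i k = c.π.app i := c.w k.hom

variable {X₀ : Scheme.{u}} (x : X₀ ⟶ D.obj i)

/-- the system `k ↦ X ×_{S_i} S_k` indexed by `Over i`. -/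
noncomputable def sysX : Over i ⥤ Scheme.{u} where
  obj k := pullback x (tr D i k)
  map {k l} φ := pullback.lift (pullback.fst _ _) (pullback.snd _ _ ≫ D.map φ.left)
    (by rw [Category.assoc, map_tr, pullback.condition])
  map_id k := by
    apply pullback.hom_ext <;> simp [pullback.lift_fst, pullback.lift_snd]
  map_comp φ ψ := by
    apply pullback.hom_ext <;>
      simp [pullback.lift_fst, pullback.lift_snd, pullback.lift_fst_assoc, pullback.lift_snd_assoc]

@[reassoc (attr := simp)]
theorem sysX_map_fst {k l : Over i} (φ : k ⟶ l) :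
    (sysX D i x).map φ ≫ pullback.fst x (tr D i l) = pullback.fst x (tr D i k) :=
  pullback.lift_fst _ _ _

@[reassoc (attr := simp)]
theorem sysX_map_snd {k l : Over i} (φ : k ⟶ l) :
    (sysX D i x).map φ ≫ pullback.snd x (tr D i l) =
      pullback.snd x (tr D i k) ≫ D.map φ.left :=
  pullback.lift_snd _ _ _

/-- the structure maps of the system to `S_i`. -/
noncomputable def sysT : sysX D i x ⟶ (Functor.const (Over i)).obj (D.obj i) where
  app k := pullback.fst _ _ ≫ x
  naturality k l φ := by
    simp only [Functor.const_obj_obj, Functor.const_obj_map, Category.comp_id]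
    exact sysX_map_fst_assoc D i x φ _

/-- the projection of the system to the system `S_k`. -/
noncomputable def sysα : sysX D i x ⟶ Over.forget i ⋙ D where
  app k := pullback.snd _ _
  naturality k l φ := sysX_map_snd D i x φ

/-- the cone over the system with vertex `X ×_{S_i} S`. -/
noncomputable def sysC : Cone (sysX D i x) where
  pt := pullback x (c.π.app i)
  π :=
    { app := fun k => pullback.lift (pullback.fst _ _) (pullback.snd _ _ ≫ c.π.app k.left)
        (by rw [Category.assoc, π_tr, pullback.condition])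
      naturality := fun k l φ => by
        apply pullback.hom_ext <;>
          simp [sysX, pullback.lift_fst, pullback.lift_snd, pullback.lift_fst_assoc,
            pullback.lift_snd_assoc] }

@[reassoc (attr := simp)]
theorem sysC_π_fst (k : Over i) :
    (sysC D c i x).π.app k ≫ pullback.fst x (tr D i k) = pullback.fst x (c.π.app i) :=
  pullback.lift_fst _ _ _

@[reassoc (attr := simp)]
theorem sysC_π_snd (k : Over i) :
    (sysC D c i x).π.app k ≫ pullback.snd x (tr D i k) =
      pullback.snd x (c.π.app i) ≫ c.π.app k.left :=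
  pullback.lift_snd _ _ _

theorem isPullback_sysC_π (k : Over i) :
    IsPullback ((sysC D c i x).π.app k) (pullback.snd x (c.π.app i))
      (pullback.snd x (tr D i k)) (c.π.app k.left) := by
  refine IsPullback.of_right ?_ (sysC_π_snd D c i x k) (IsPullback.of_hasPullback x (tr D i k))
  rw [sysC_π_fst, π_tr]
  exact IsPullback.of_hasPullback x (c.π.app i)

theorem isPullback_sysX_map {k l : Over i} (φ : k ⟶ l) :
    IsPullback ((sysX D i x).map φ) (pullback.snd x (tr D i k))
      (pullback.snd x (tr D i l)) (D.map φ.left) := by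
  refine IsPullback.of_right ?_ (sysX_map_snd D i x φ) (IsPullback.of_hasPullback x (tr D i l))
  rw [sysX_map_fst, map_tr]
  exact IsPullback.of_hasPullback x (tr D i k)

attribute [local instance] CategoryTheory.isConnected_of_hasTerminal

/-- `X ×_{S_i} S` is the limit of the system `X ×_{S_i} S_k`. -/
noncomputable def isLimitSysC [IsCofiltered I] (hc : IsLimit c) : IsLimit (sysC D c i x) :=
  isLimitOfIsPullbackOfIsConnected (sysα D i x) (sysC D c i x) (c.whisker (Over.forget i))
    { hom := pullback.snd x (c.π.app i)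
      w := fun k => (sysC_π_snd D c i x k).symm }
    (fun k => isPullback_sysC_π D c i x k)
    ((Functor.Initial.isLimitWhiskerEquiv (Over.forget i) c).symm hc)

instance isAffineHom_sysX_map [∀ (i i' : I) (f : i ⟶ i'), IsAffineHom (D.map f)] {k l : Over i}
    (φ : k ⟶ l) : IsAffineHom ((sysX D i x).map φ) :=
  MorphismProperty.of_isPullback (isPullback_sysX_map D i x φ).flip inferInstance

instance compactSpace_sysX [∀ i, CompactSpace (D.obj i)] [QuasiCompact x] (k : Over i) :
    CompactSpace ((sysX D i x).obj k) := by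
  haveI : QuasiCompact (pullback.snd x (tr D i k)) :=
    MorphismProperty.pullback_snd (P := @QuasiCompact) x (tr D i k) ‹QuasiCompact x›
  exact @QuasiCompact.compactSpace_of_compactSpace _ _ _ this (inferInstanceAs (CompactSpace (D.obj k.left)))

instance quasiSeparatedSpace_sysX [∀ i, QuasiSeparatedSpace (D.obj i)] [QuasiSeparated x]
    (k : Over i) : QuasiSeparatedSpace ((sysX D i x).obj k) := by
  haveI : QuasiSeparated (pullback.snd x (tr D i k)) :=
    MorphismProperty.pullback_snd (P := @QuasiSeparated) x (tr D i k) ‹QuasiSeparated x›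
  exact @quasiSeparatedSpace_of_quasiSeparated _ _ _ (inferInstanceAs (QuasiSeparatedSpace (D.obj k.left))) this

end system

section PrX

variable (i : I) {X₀ : Scheme.{u}} (x : X₀ ⟶ D.obj i)

/-- the projection `X ×_{S_i} S ⟶ X ×_{S_i} S_k`. -/
noncomputable def prX {k : I} (g : k ⟶ i) : pullback x (c.π.app i) ⟶ pullback x (D.map g) :=
  pullback.lift (pullback.fst _ _) (pullback.snd _ _ ≫ c.π.app k)
    (by rw [Category.assoc, c.w g, pullback.condition])

@[reassoc (attr := simp)]
theorem prX_fst {k : I} (g : k ⟶ i) :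
    prX D c i x g ≫ pullback.fst x (D.map g) = pullback.fst x (c.π.app i) :=
  pullback.lift_fst _ _ _

@[reassoc (attr := simp)]
theorem prX_snd {k : I} (g : k ⟶ i) :
    prX D c i x g ≫ pullback.snd x (D.map g) = pullback.snd x (c.π.app i) ≫ c.π.app k :=
  pullback.lift_snd _ _ _

end PrX

section KL

variable [IsCofiltered I] [∀ (i i' : I) (f : i ⟶ i'), IsAffineHom (D.map f)]
  [∀ i, CompactSpace (D.obj i)] (hc : IsLimit c) (i : I)
  {X₀ Y₀ : Scheme.{u}} (x : X₀ ⟶ D.obj i) (y : Y₀ ⟶ D.obj i)

include hc in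
/-- two `S_i`-morphisms `X ⟶ Y` which agree on `X ×_{S_i} S` agree on some `X ×_{S_i} S_k`. -/
theorem inj_left [QuasiCompact x] [LocallyOfFiniteType y]
    (a b : X₀ ⟶ Y₀) (ha : a ≫ y = x) (hb : b ≫ y = x)
    (h : pullback.fst x (c.π.app i) ≫ a = pullback.fst x (c.π.app i) ≫ b) :
    ∃ (k : I) (g : k ⟶ i), pullback.fst x (D.map g) ≫ a = pullback.fst x (D.map g) ≫ b := by
  obtain ⟨k, hik, heq⟩ := Scheme.exists_hom_comp_eq_comp_of_locallyOfFiniteType
    (sysX D i x) (sysT D i x) y (sysC D c i x) (isLimitSysC D c i x hc)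
    (i := Over.mk (𝟙 i)) (pullback.fst _ _ ≫ a) (pullback.fst _ _ ≫ b)
    (by simp [sysT, ha]) (by simp [sysT, hb])
    (by rw [sysC_π_fst_assoc, sysC_π_fst_assoc]; exact h)
  refine ⟨k.left, k.hom, ?_⟩
  rw [sysX_map_fst_assoc, sysX_map_fst_assoc] at heq
  exact heq

include hc in
/-- an `S_i`-morphism `X ×_{S_i} S ⟶ Y` factors through some `X ×_{S_i} S_k`. -/
theorem surj_left [∀ i, QuasiSeparatedSpace (D.obj i)] [QuasiCompact x] [QuasiSeparated x]
    [LocallyOfFinitePresentation y]
    (a : pullback x (c.π.app i) ⟶ Y₀) (ha : a ≫ y = pullback.fst x (c.π.app i) ≫ x) :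
    ∃ (k : I) (g : k ⟶ i) (b : pullback x (D.map g) ⟶ Y₀),
      b ≫ y = pullback.fst x (D.map g) ≫ x ∧ prX D c i x g ≫ b = a := by
  obtain ⟨k, b, hb1, hb2⟩ := Scheme.exists_π_app_comp_eq_of_locallyOfFinitePresentation
    (sysX D i x) (sysT D i x) y (sysC D c i x) (isLimitSysC D c i x hc) a
    (by
      ext k : 2
      simp only [NatTrans.comp_app, Functor.const_obj_obj, Functor.const_map_app, sysT]
      rw [sysC_π_fst_assoc]
      exact ha.symm)
  exact ⟨k.left, k.hom, b, hb2, hb1⟩

end KL

section IsBcOf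

variable (i : I) (X Y : Over (D.obj i))

/-- `v` at the stage `g : k ⟶ i` base-changes to `u` at the limit. -/
def IsBcOf {k : I} (g : k ⟶ i) (v : Red.bc (D.map g) X ⟶ Red.bc (D.map g) Y)
    (u : Red.bc (c.π.app i) X ⟶ Red.bc (c.π.app i) Y) : Prop :=
  (Over.pullback (c.π.app k)).map v =
    (ActBC.bcCompIso (c.π.app k) (D.map g) X (c.w g)).hom ≫ u ≫
      (ActBC.bcCompIso (c.π.app k) (D.map g) Y (c.w g)).inv

@[reassoc]
theorem bcCompIso_hom_left_prX {k : I} (g : k ⟶ i) :
    (ActBC.bcCompIso (c.π.app k) (D.map g) X (c.w g)).hom.left ≫ prX D c i X.hom g =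
      pullback.fst (Red.bc (D.map g) X).hom (c.π.app k) := by
  apply pullback.hom_ext
  · rw [Category.assoc, prX_fst, ActBC.bcCompIso_hom_left_fst]
  · rw [Category.assoc, prX_snd, ActBC.bcCompIso_hom_left_snd_assoc]
    exact pullback.condition.symm

theorem isBcOf_iff {k : I} (g : k ⟶ i) (v : Red.bc (D.map g) X ⟶ Red.bc (D.map g) Y)
    (u : Red.bc (c.π.app i) X ⟶ Red.bc (c.π.app i) Y) :
    IsBcOf D c i X Y g v u ↔
      prX D c i X.hom g ≫ v.left ≫ pullback.fst Y.hom (D.map g) =
        u.left ≫ pullback.fst Y.hom (c.π.app i) := by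
  unfold IsBcOf
  rw [← Category.assoc, Iso.eq_comp_inv]
  constructor
  · intro h
    have h2 := congr_arg (fun m => (ActBC.bcCompIso (c.π.app k) (D.map g) X (c.w g)).inv.left ≫
      m.left ≫ pullback.fst _ _) h
    simp only [Over.comp_left, Category.assoc, ActBC.bcCompIso_hom_left_fst,
      ActBC.pullback_map_left_fst_assoc] at h2
    rw [← Over.comp_left_assoc, Iso.inv_hom_id, Over.id_left, Category.id_comp] at h2
    rw [← h2, ← bcCompIso_hom_left_prX_assoc, ← Over.comp_left_assoc, Iso.inv_hom_id,
      Over.id_left, Category.id_comp]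
  · intro h
    ext
    apply pullback.hom_ext
    · simp only [Over.comp_left, Category.assoc, ActBC.bcCompIso_hom_left_fst,
        ActBC.pullback_map_left_fst_assoc]
      rw [← h, bcCompIso_hom_left_prX_assoc]
    · exact (Over.w _).trans (Over.w _).symm

end IsBcOf

section OverLevel

variable [IsCofiltered I] [∀ (i i' : I) (f : i ⟶ i'), IsAffineHom (D.map f)]
  [∀ i, CompactSpace (D.obj i)] (hc : IsLimit c) (i : I) (X Y : Over (D.obj i))

include hc in
/-- two morphisms `X ⟶ Y` over `S_i` whose base changes to `S` agree have the same base change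
to some `S_k`. -/
theorem kl_inj [QuasiCompact X.hom] [LocallyOfFiniteType Y.hom] (m₁ m₂ : X ⟶ Y)
    (h : (Over.pullback (c.π.app i)).map m₁ = (Over.pullback (c.π.app i)).map m₂) :
    ∃ (k : I) (g : k ⟶ i),
      (Over.pullback (D.map g)).map m₁ = (Over.pullback (D.map g)).map m₂ := by
  haveI : @QuasiCompact X.left (D.obj i) X.hom := ‹QuasiCompact X.hom›
  haveI : @LocallyOfFiniteType Y.left (D.obj i) Y.hom := ‹LocallyOfFiniteType Y.hom›
  obtain ⟨k, g, hk⟩ := inj_left D c hc i X.hom Y.hom m₁.left m₂.left (Over.w m₁) (Over.w m₂) (by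
    have := congr_arg (fun m => m.left ≫ pullback.fst _ _) h
    simp only [ActBC.pullback_map_left_fst] at this
    exact this)
  refine ⟨k, g, ?_⟩
  ext
  apply pullback.hom_ext
  · rw [ActBC.pullback_map_left_fst, ActBC.pullback_map_left_fst]
    exact hk
  · exact (Over.w _).trans (Over.w _).symm

include hc in
/-- a morphism between the base changes to `S` of `X`, `Y` over `S_i` is the base change of a
morphism between the base changes to some `S_k`. -/
theorem kl_surj [∀ i, QuasiSeparatedSpace (D.obj i)] [QuasiCompact X.hom] [QuasiSeparated X.hom]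
    [LocallyOfFinitePresentation Y.hom]
    (u : Red.bc (c.π.app i) X ⟶ Red.bc (c.π.app i) Y) :
    ∃ (k : I) (g : k ⟶ i) (v : Red.bc (D.map g) X ⟶ Red.bc (D.map g) Y),
      IsBcOf D c i X Y g v u := by
  haveI : @QuasiCompact X.left (D.obj i) X.hom := ‹QuasiCompact X.hom›
  haveI : @QuasiSeparated X.left (D.obj i) X.hom := ‹QuasiSeparated X.hom›
  haveI : @LocallyOfFinitePresentation Y.left (D.obj i) Y.hom :=
    ‹LocallyOfFinitePresentation Y.hom›
  have ha : (u.left ≫ pullback.fst Y.hom (c.π.app i)) ≫ Y.hom =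
      pullback.fst X.hom (c.π.app i) ≫ X.hom := by
    have hw : u.left ≫ pullback.snd Y.hom (c.π.app i) = pullback.snd X.hom (c.π.app i) :=
      Over.w u
    rw [Category.assoc, pullback.condition, reassoc_of% hw, pullback.condition]
  obtain ⟨k, g, b, hb1, hb2⟩ := surj_left D c hc i X.hom Y.hom _ ha
  refine ⟨k, g, Over.homMk (pullback.lift b (pullback.snd _ _) (by
    rw [hb1, pullback.condition])) (pullback.lift_snd _ _ _), ?_⟩
  rw [isBcOf_iff]
  simp only [Over.homMk_left, pullback.lift_fst, hb2]

end OverLevel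

section BcCompIso

variable {S S' S'' : Scheme.{u}} (f : S'' ⟶ S') (g : S' ⟶ S) {d : S'' ⟶ S} (X : Over S)

@[reassoc (attr := simp)]
theorem bcCompIso_inv_left_fst_fst (h : f ≫ g = d) :
    (ActBC.bcCompIso f g X h).inv.left ≫ pullback.fst (Red.bc g X).hom f ≫ pullback.fst X.hom g =
      pullback.fst X.hom d := by
  rw [← ActBC.bcCompIso_hom_left_fst f g X h, ← Over.comp_left_assoc, Iso.inv_hom_id,
    Over.id_left, Category.id_comp]

@[reassoc (attr := simp)]
theorem bcCompIso_inv_left_snd (h : f ≫ g = d) :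
    (ActBC.bcCompIso f g X h).inv.left ≫ pullback.snd (Red.bc g X).hom f = pullback.snd X.hom d := by
  rw [← ActBC.bcCompIso_hom_left_snd f g X h, ← Over.comp_left_assoc, Iso.inv_hom_id,
    Over.id_left, Category.id_comp]

/-- the identification used in the statements is `ActBC.bcCompIso`. -/
theorem stmtIso_eq (h : f ≫ g = d) :
    ((Over.pullbackComp f g).app X).symm ≪≫ eqToIso (congrArg (fun g => Red.bc g X) h) =
      ActBC.bcCompIso f g X h := by
  subst h
  ext1
  rw [ActBC.bcCompIso_hom_eq_pullbackComp_inv]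
  simp

end BcCompIso

section Further

variable (i : I) (X Y : Over (D.obj i))

/-- the base change of `v` along a further transition map, identified via `bcCompIso`. -/
noncomputable def bcFurther {k k' : I} (g : k ⟶ i) (h : k' ⟶ k) {g' : k' ⟶ i} (e : h ≫ g = g')
    (v : Red.bc (D.map g) X ⟶ Red.bc (D.map g) Y) : Red.bc (D.map g') X ⟶ Red.bc (D.map g') Y :=
  (ActBC.bcCompIso (D.map h) (D.map g) X (by rw [← D.map_comp, e])).inv ≫
    (Over.pullback (D.map h)).map v ≫
      (ActBC.bcCompIso (D.map h) (D.map g) Y (by rw [← D.map_comp, e])).hom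

theorem prX_bcCompIso_inv {k k' : I} (g : k ⟶ i) (h : k' ⟶ k) {g' : k' ⟶ i} (e : h ≫ g = g') :
    prX D c i X.hom g' ≫
      (ActBC.bcCompIso (D.map h) (D.map g) X (by rw [← D.map_comp, e])).inv.left ≫
        pullback.fst (Red.bc (D.map g) X).hom (D.map h) = prX D c i X.hom g := by
  apply pullback.hom_ext
  · rw [Category.assoc, Category.assoc, bcCompIso_inv_left_fst_fst, prX_fst, prX_fst]
  · have hc1 : pullback.fst (Red.bc (D.map g) X).hom (D.map h) ≫ pullback.snd X.hom (D.map g) =
        pullback.snd (Red.bc (D.map g) X).hom (D.map h) ≫ D.map h := pullback.condition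
    rw [Category.assoc, Category.assoc, hc1, bcCompIso_inv_left_snd_assoc, prX_snd_assoc, prX_snd,
      c.w h]

theorem isBcOf_bcFurther {k k' : I} (g : k ⟶ i) (h : k' ⟶ k) {g' : k' ⟶ i} (e : h ≫ g = g')
    (v : Red.bc (D.map g) X ⟶ Red.bc (D.map g) Y)
    (u : Red.bc (c.π.app i) X ⟶ Red.bc (c.π.app i) Y) (hv : IsBcOf D c i X Y g v u) :
    IsBcOf D c i X Y g' (bcFurther D i X Y g h e v) u := by
  rw [isBcOf_iff] at hv ⊢
  unfold bcFurther
  simp only [Over.comp_left, Category.assoc, ActBC.bcCompIso_hom_left_fst,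
    ActBC.pullback_map_left_fst_assoc]
  rw [← hv, ← prX_bcCompIso_inv D c i X g h e]
  simp only [Category.assoc]

end Further

end Groth.Agent.Lib.T2H7.GrpLimA
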