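import Mathlib
import Groth.Agent.Lib.Helper3LocusMor
import Groth.Agent.Lib.T2H7GrpLimA
import Groth.Agent.Lib.T2H5ModLimF

/-!
# Loci of a relation `P(X, F, k)` on algebraic schemes with a coherent module (helper5)

Namespace `Groth.Agent.Lib.T2H5.LocusMod`.

* `locusMod_eq_preimage`: base change of `ConsProp.locusMod` for a field-stable relation.
* `exists_model_mod`: descent of a finitely presented family with a finitely presented module to a
  stage of a cofiltered limit of qcqs schemes.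
* `FamMod`, `isLocusFam_famMod`: these loci form a locus family in the sense of `Helper3.LocusFam`.
-/

set_option autoImplicit false
set_option linter.unusedSectionVars false
set_option linter.style.haveILetI false
universe u
open CategoryTheory CategoryTheory.Limits AlgebraicGeometry Topology

namespace Groth.Agent.Lib.T2H5.LocusMod

open Groth.Agent.Lib.Helper3.LocusBC Groth.Agent.Lib.Helper3.LocusFam Groth.Agent.Lib.Helper26.FGZ
  Groth.Agent.Lib.Helper3.LocusPair Groth.Agent.Lib.T2H7.GrpLimA Groth.Agent.Helper18Strict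

theorem isCoh_pullback {X Y : Scheme.{u}} (f : Y ⟶ X) (F : X.Modules) (hF : Coh.IsCoh F) :
    Coh.IsCoh ((Scheme.Modules.pullback f).obj F) := by
  obtain ⟨h1, h2⟩ := hF
  haveI : F.IsQuasicoherent := h1
  haveI : SheafOfModules.IsFiniteType (R := X.ringCatSheaf) F := h2
  exact ⟨Groth.Agent.Lib.Helper20.PullbackAff.isQuasicoherent_pullback f F,
    Groth.Agent.Lib.Helper20.FormalPull.isFiniteType_pullback f F⟩

theorem isCoh_of_isFP {X : Scheme.{u}} (F : X.Modules) (hq : F.IsQuasicoherent)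
    (hfp : SheafOfModules.IsFinitePresentation (R := X.ringCatSheaf) F) : Coh.IsCoh F :=
  ⟨hq, isFT_of_isFP F hfp⟩

theorem locusMod_eq_preimage {P : ∀ ⦃Y T : Scheme.{u}⦄, (Y ⟶ T) → Y.Modules → Prop}
    (hP : ConsProp.IsFieldStableMod P) {X S X' S' : Scheme.{u}} {u : X ⟶ S} {u' : X' ⟶ S'}
    {a : S' ⟶ S} {pX : X' ⟶ X} [LocallyOfFiniteType u] [QuasiCompact u]
    (hX : IsPullback pX u' u a) (F : X.Modules) (hF : Coh.IsCoh F) (F' : X'.Modules)
    (φ : F' ≅ (Scheme.Modules.pullback pX).obj F) :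
    ConsProp.locusMod P u' F' = a ⁻¹' ConsProp.locusMod P u F := by
  ext s'
  obtain ⟨eX, h1, h2, hpb⟩ := exists_fiber_lift hX s'
  refine (hP (u.fiberToSpecResidueField (a s')) (u'.fiberToSpecResidueField s') eX
    (Spec.map (a.residueFieldMap s')) hpb ((Scheme.Modules.pullback (u.fiberι (a s'))).obj F)
    ((Scheme.Modules.pullback (u'.fiberι s')).obj F') (isCoh_pullback _ F hF) ?_).symm
  exact (Scheme.Modules.pullback (u'.fiberι s')).mapIso φ ≪≫
    (Scheme.Modules.pullbackComp (u'.fiberι s') pX).app F ≪≫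
    (Scheme.Modules.pullbackCongr h1.symm).app F ≪≫
    ((Scheme.Modules.pullbackComp eX (u.fiberι (a s'))).app F).symm

/-- the predicate "`E` is the locus of `P` for a finitely presented family with a finitely presented
module". -/
def FamMod (P : ∀ ⦃Y T : Scheme.{u}⦄, (Y ⟶ T) → Y.Modules → Prop) (S : Scheme.{u}) (E : Set S) :
    Prop :=
  ∃ (X : Scheme.{u}) (u : X ⟶ S) (F : X.Modules), LocallyOfFinitePresentation u ∧ QuasiCompact u ∧
    QuasiSeparated u ∧ F.IsQuasicoherent ∧
    SheafOfModules.IsFinitePresentation (R := X.ringCatSheaf) F ∧ E = ConsProp.locusMod P u F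

/-- Descending a finitely presented family with a finitely presented module over a limit to a
stage. -/
theorem exists_model_mod {I : Type u} [SmallCategory I] [IsCofiltered I]
    (D : I ⥤ Scheme.{u}) (c : Cone D) (hc : IsLimit c)
    [∀ (i j : I) (f : i ⟶ j), IsAffineHom (D.map f)] [∀ i, CompactSpace (D.obj i)]
    [∀ i, QuasiSeparatedSpace (D.obj i)] {X : Scheme.{u}} (u : X ⟶ c.pt)
    [LocallyOfFinitePresentation u] [QuasiCompact u] [QuasiSeparated u] (F : X.Modules)
    [F.IsQuasicoherent] (hF : SheafOfModules.IsFinitePresentation (R := X.ringCatSheaf) F) :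
    ∃ (j : I) (Xj : Scheme.{u}) (uj : Xj ⟶ D.obj j) (sX : X ⟶ Xj) (Fj : Xj.Modules),
      LocallyOfFinitePresentation uj ∧ QuasiCompact uj ∧ QuasiSeparated uj ∧ Fj.IsQuasicoherent ∧
      SheafOfModules.IsFinitePresentation (R := Xj.ringCatSheaf) Fj ∧
      IsPullback sX u uj (c.π.app j) ∧ Nonempty ((Scheme.Modules.pullback sX).obj Fj ≅ F) := by
  obtain ⟨i, Xi, ui, qX, a1, a2, a3, hX⟩ := Groth.Agent.S0591.result D c hc X u
  haveI := a1
  haveI := a2
  haveI := a3
  let e : X ≅ (sysC D c i ui).pt := hX.isoPullback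
  let c' : Cone (sysX D i ui) := (sysC D c i ui).extend e.hom
  have hc' : IsLimit c' := IsLimit.ofIsoLimit (isLimitSysC D c i ui hc)
    (Cone.ext e.symm (fun k => by simp [c']))
  obtain ⟨k, _, Fk, hq, hfp, ⟨φ⟩⟩ :=
    Groth.Agent.Lib.T2H5.ModLimF.fp_descends (sysX D i ui) c' hc' (Over.mk (𝟙 i)) F hF
  have hpb : IsPullback (c'.π.app k) u (pullback.snd ui (tr D i k)) (c.π.app k.left) := by
    refine IsPullback.of_iso (isPullback_sysC_π D c i ui k) e.symm (Iso.refl _) (Iso.refl _)
      (Iso.refl _) ?_ ?_ ?_ ?_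
    · simp [c']
    · rw [Iso.refl_hom, Category.comp_id]
      exact hX.isoPullback_inv_snd.symm
    · simp
    · simp
  exact ⟨k.left, _, pullback.snd ui (tr D i k), c'.π.app k, Fk,
    MorphismProperty.pullback_snd _ _ a1, MorphismProperty.pullback_snd _ _ a2,
    MorphismProperty.pullback_snd _ _ a3, hq, hfp, hpb, ⟨φ⟩⟩

theorem isLocusFam_famMod {P : ∀ ⦃Y T : Scheme.{u}⦄, (Y ⟶ T) → Y.Modules → Prop}
    (hP : ConsProp.IsFieldStableMod P) : IsLocusFam (FamMod P) where
  bc := by
    rintro S S' a E ⟨X, u, F, h1, h2, h3, hq, hfp, rfl⟩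
    refine ⟨pullback u a, pullback.snd u a, (Scheme.Modules.pullback (pullback.fst u a)).obj F,
      inferInstance, inferInstance, inferInstance,
      Groth.Agent.Lib.Helper20.PullbackAff.isQuasicoherent_pullback _ _,
      isFP_pullback _ F hfp, ?_⟩
    exact (locusMod_eq_preimage hP (IsPullback.of_hasPullback u a) F (isCoh_of_isFP F hq hfp) _
      (Iso.refl _)).symm
  approx := by
    rintro A E ⟨X, u, F, h1, h2, h3, hq, hfp, rfl⟩
    obtain ⟨j, Xj, uj, sX, Fj, c1, c2, c3, c4, c5, hpb, ⟨φ⟩⟩ :=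
      @exists_model_mod _ _ _ (specDiagram A) (specCone A) (specIsLimit A) _ _ _ X u h1 h2 h3 F hq hfp
    have hfam : FamMod P ((specDiagram A).obj j) (ConsProp.locusMod P uj Fj) :=
      ⟨_, _, _, c1, c2, c3, c4, c5, rfl⟩
    have hloc : ConsProp.locusMod P u F = (specCone A).π.app j ⁻¹' ConsProp.locusMod P uj Fj := by
      haveI : LocallyOfFiniteType uj := inferInstance
      exact locusMod_eq_preimage hP hpb Fj (isCoh_of_isFP Fj c4 c5) F φ.symm
    exact ⟨CommRingCat.of j.unop.1, CommRingCat.ofHom (algebraMap j.unop.1 A), _,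
      noeth_fgSub A j.unop, hfam, hloc⟩

end Groth.Agent.Lib.T2H5.LocusMod
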