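import Groth.Agent.Lib.T2H2LpullQCohA
import Groth.Agent.Lib.T2H2TildeEqA
import Groth.Agent.Lib.T2H4LDerExist
import Groth.Agent.S0997
import Groth.Agent.S1055
import Groth.Agent.S9498

/-!
# The derived pullback between affine schemes preserves `D_QCoh` (T2H2)
-/

set_option autoImplicit false
set_option linter.style.haveILetI false
universe u
open CategoryTheory CategoryTheory.Limits AlgebraicGeometry

attribute [local instance] HasDerivedCategory.standard

namespace Groth.Agent.Lib.T2H2.LpullQCoh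

open Groth.Agent.Lib.Helper1.Sky Groth.Agent.Lib.T2H8.QCohDCoprod

theorem isQCohD_of_iso {X : Scheme.{u}} {K K' : DCoh.D X} (e : K ≅ K') (h : DCoh.IsQCohD K) :
    DCoh.IsQCohD K' :=
  fun n => isQCoh_of_iso ((DerivedCategory.homologyFunctor X.Modules n).mapIso e) (h n)

/-- `L(Spec φ)^*` preserves `D_QCoh`. -/
theorem isQCohD_lpull_specMap {A B : Type u} [CommRing A] [CommRing B] (φ : A →+* B)
    [DCoh.HasLpull (Spec.map (CommRingCat.ofHom φ))]
    (K' : DCoh.D (Spec (CommRingCat.of A))) (hK' : DCoh.IsQCohD K') :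
    DCoh.IsQCohD ((DCoh.Lpull (Spec.map (CommRingCat.ofHom φ))).obj K') := by
  haveI : PreservesFiniteLimits (tilde.functor (CommRingCat.of A)) :=
    (Groth.Agent.S9498.aux (CommRingCat.of A)).1
  haveI : PreservesFiniteLimits (tilde.functor (CommRingCat.of B)) :=
    (Groth.Agent.S9498.aux (CommRingCat.of B)).1
  haveI : DRing.HasLBaseChange φ := Groth.Agent.Lib.T2H4.LDerExist.hasLBaseChange φ
  obtain ⟨M, ⟨e⟩⟩ := ((Groth.Agent.S0997.result (CommRingCat.of A)).2.2 K').1 hK'
  obtain ⟨τ⟩ := Groth.Agent.S1055.result φ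
  refine isQCohD_of_iso ((τ.app M) ≪≫
    (DCoh.Lpull (Spec.map (CommRingCat.ofHom φ))).mapIso e) ?_
  intro n
  exact Groth.Agent.Lib.T2H2.TildeEq.isQuasicoherent_homology_tildeD (CommRingCat.of B) _ n

/-- `Lg^*` preserves `D_QCoh` for every morphism `g` between affine schemes. -/
theorem isQCohD_lpull_spec {R S : CommRingCat.{u}} (g : Spec S ⟶ Spec R) [DCoh.HasLpull g]
    (K' : DCoh.D (Spec R)) (hK' : DCoh.IsQCohD K') :
    DCoh.IsQCohD ((DCoh.Lpull g).obj K') := by
  obtain ⟨ψ, rfl⟩ : ∃ ψ : R ⟶ S, g = Spec.map ψ := ⟨Spec.preimage g, (Spec.map_preimage g).symm⟩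
  exact isQCohD_lpull_specMap (A := R) (B := S) ψ.hom K' hK'

end Groth.Agent.Lib.T2H2.LpullQCoh
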