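import Groth.Agent.Lib.T2H1LTensorLE
import Groth.Agent.Lib.T2H2AffRedD
import Groth.Agent.Lib.T2H5FlatPullback
import Groth.Agent.Lib.T2H5LocusMod
import Groth.Agent.Lib.Helper1Sky11
import Groth.Agent.S1054
import Groth.Agent.Lib.Helper23QCohAbelian
import Groth.Agent.Lib.Helper23TensorQCoh
import Groth.Agent.Lib.Helper23FinTypeLocal
import Groth.Agent.Lib.T2H1RelPCmod
set_option backward.isDefEq.respectTransparency.types false

/-!
# Coherence of the local hypertor sheaves (helper1, second team)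

`isCohD_localTor`: `f : X ⟶ S` flat, `X` and `Z = X ×_S Y` locally Noetherian, `P ∈ D^-_Coh(X)`,
`Q` a bounded above complex on `Y` with coherent cohomology; then
`L pr₁^* P ⊗^L pr₂^* Q ∈ D_Coh(Z)`.
-/

set_option autoImplicit false
set_option linter.style.haveILetI false
universe u
open CategoryTheory CategoryTheory.Limits AlgebraicGeometry HomologicalComplex

attribute [local instance] HasDerivedCategory.standard

namespace Groth.Agent.Lib.T2H1.LocalTorCoh

open Groth.Agent.Lib.T2H1.LTensorLE Groth.Agent.Lib.T2H1.LTensorCoh DerivedCategory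

section Pull

variable {Z Y : Scheme.{u}} (p : Z ⟶ Y) [Flat p]

/-- the termwise pullback along a flat morphism commutes with cohomology -/
noncomputable def flatPullHomologyIso (Q : CochainComplex Y.Modules ℤ) (n : ℤ) :
    DCoh.HD (DCoh.toD Z (((Scheme.Modules.pullback p).mapHomologicalComplex
      (ComplexShape.up ℤ)).obj Q)) n ≅
      (Scheme.Modules.pullback p).obj (DCoh.HD (DCoh.toD Y Q) n) := by
  haveI := Groth.Agent.Lib.T2H5.FlatPullback.preservesFiniteLimits_pullback p
  haveI : PreservesFiniteColimits (Scheme.Modules.pullback p) :=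
    Groth.Agent.Lib.T2H5.FlatPullback.preservesFiniteColimits_pullback p
  haveI : (Scheme.Modules.pullback p).Additive :=
    Groth.Agent.Lib.T2H5.FlatPullback.additive_pullback p
  exact (DerivedCategory.homologyFunctorFactors Z.Modules n).app _ ≪≫
    Groth.Agent.Lib.T2H8.HomologyCoprod.homologyMapIso (Scheme.Modules.pullback p) Q n ≪≫
    (Scheme.Modules.pullback p).mapIso ((DerivedCategory.homologyFunctorFactors Y.Modules n).app Q).symm

end Pull

section Main

variable (X Y S : Scheme.{u}) (f : X ⟶ S) (g : Y ⟶ S) [Flat f]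
  [IsLocallyNoetherian X] [IsLocallyNoetherian (pullback f g)]

theorem isCohD_localTor (P : CochainComplex X.Modules ℤ) (Q : CochainComplex Y.Modules ℤ)
    (bP : ∃ b : ℤ, ∀ i : ℤ, b < i → IsZero (P.X i)) (bQ : ∃ b : ℤ, ∀ i : ℤ, b < i → IsZero (Q.X i))
    (hP : DCoh.IsCohD (DCoh.toD X P)) (hQ : DCoh.IsCohD (DCoh.toD Y Q))
    [DCoh.HasLpull (pullback.fst f g)]
    [DCoh.HasLTensorCx (((Scheme.Modules.pullback (pullback.snd f g)).mapHomologicalComplex
      (ComplexShape.up ℤ)).obj Q)] :
    DCoh.IsCohD ((DCoh.LTensorCx (((Scheme.Modules.pullback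
      (pullback.snd f g)).mapHomologicalComplex (ComplexShape.up ℤ)).obj Q)).obj
      ((DCoh.Lpull (pullback.fst f g)).obj (DCoh.toD X P))) := by
  haveI : Flat (pullback.snd f g) := MorphismProperty.pullback_snd _ _ inferInstance
  obtain ⟨b₁, hb₁⟩ := bP
  obtain ⟨b₂, hb₂⟩ := bQ
  have hPq : DCoh.IsQCohD (DCoh.toD X P) := fun i => (hP i).1
  have hPb : ∀ i : ℤ, b₁ < i → IsZero (DCoh.HD (DCoh.toD X P) i) := fun i hi =>
    IsZero.of_iso (Groth.Agent.Lib.Helper1.CI.isZero_homology_of_isZero_X P i (hb₁ i hi))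
      ((DerivedCategory.homologyFunctorFactors X.Modules i).app P)
  have hPpc : ∀ m : ℤ, DCoh.IsPseudoCoherentD m (DCoh.toD X P) := fun m =>
    Groth.Agent.Lib.T2H2.AffRed.isPseudoCoherentD_of_coherent _ hPq m (fun i _ => hP i) b₁ hPb
  have hLpc : ∀ m : ℤ, DCoh.IsPseudoCoherentD m
      ((DCoh.Lpull (pullback.fst f g)).obj (DCoh.toD X P)) := fun m =>
    Groth.Agent.Lib.Helper1.Sky.isPseudoCoherentD_lpull (pullback.fst f g) m _ (hPpc m)
  have hLq : DCoh.IsQCohD ((DCoh.Lpull (pullback.fst f g)).obj (DCoh.toD X P)) :=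
    Groth.Agent.S1054.result (pullback.fst f g) _ hPq
  have hL : DCoh.IsCohD ((DCoh.Lpull (pullback.fst f g)).obj (DCoh.toD X P)) := fun i =>
    ⟨hLq i, Groth.Agent.Lib.T2H2.AffRed.isFiniteType_HD_of_isPseudoCoherentD _ hLq i (hLpc i) i
      le_rfl⟩
  haveI : (DCoh.toD X P).IsLE b₁ := (DerivedCategory.isLE_iff _ _).2 hPb
  haveI := isLE_Lpull (pullback.fst f g) (DCoh.toD X P) hPq b₁
  have hLb : ∃ a : ℤ, ∀ i, a < i →
      IsZero (DCoh.HD ((DCoh.Lpull (pullback.fst f g)).obj (DCoh.toD X P)) i) :=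
    ⟨b₁, fun i hi => DerivedCategory.isZero_of_isLE _ b₁ i hi⟩
  have hE : DCoh.IsCohD (DCoh.toD (pullback f g) (((Scheme.Modules.pullback
      (pullback.snd f g)).mapHomologicalComplex (ComplexShape.up ℤ)).obj Q)) := fun n =>
    Groth.Agent.Lib.T2H8.PerfCoh.isCoh_of_iso (flatPullHomologyIso (pullback.snd f g) Q n).symm
      (Groth.Agent.Lib.T2H5.LocusMod.isCoh_pullback (pullback.snd f g) _ (hQ n))
  have hEb : ∃ b : ℤ, ∀ i, b < i → IsZero (DCoh.HD (DCoh.toD (pullback f g)
      (((Scheme.Modules.pullback (pullback.snd f g)).mapHomologicalComplex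
        (ComplexShape.up ℤ)).obj Q)) i) :=
    ⟨b₂, fun i hi => IsZero.of_iso
      (Groth.Agent.Lib.Helper1.CI.isZero_homology_of_isZero_X _ i
        ((Scheme.Modules.pullback (pullback.snd f g)).map_isZero (hb₂ i hi)))
      ((DerivedCategory.homologyFunctorFactors (pullback f g).Modules i).app _)⟩
  exact (isCohD_LTensorCx (pullback f g) _ _ hL hLb hE hEb).1

end Main

section Single

/-- a zero module is coherent as soon as some coherent module exists (no Noetherian hypothesis) -/
theorem isCoh_of_isZero' {W : Scheme.{u}} (F T : W.Modules) (hF : Coh.IsCoh F) (hT : IsZero T) :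
    Coh.IsCoh T := by
  haveI : F.IsQuasicoherent := hF.1
  haveI : SheafOfModules.IsFiniteType (R := W.ringCatSheaf) F := hF.2
  haveI : (cokernel (𝟙 F)).IsQuasicoherent :=
    Groth.Agent.Lib.Helper23.QCohLocal.isQuasicoherent_cokernel (𝟙 F)
  have hz : IsZero (cokernel (𝟙 F)) := isZero_cokernel_of_epi (𝟙 F)
  haveI : T.IsQuasicoherent :=
    Groth.Agent.Lib.Helper23.TensorQCoh.isQuasicoherent_of_iso (hz.iso hT)
  haveI : Epi (0 : F ⟶ T) := ⟨fun g h _ => hT.eq_of_src g h⟩
  exact ⟨inferInstance, Groth.Agent.Lib.Helper23.FinType.isFiniteType_of_epi (0 : F ⟶ T)⟩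

/-- a coherent module placed in degree `0` lies in `D_Coh` -/
theorem isCohD_single {W : Scheme.{u}} (M : W.Modules) (hM : Coh.IsCoh M) :
    DCoh.IsCohD (DCoh.toD W ((HomologicalComplex.single W.Modules (ComplexShape.up ℤ) 0).obj M)) := by
  intro i
  by_cases hi : i = 0
  · subst hi
    exact Groth.Agent.Lib.T2H8.PerfCoh.isCoh_of_iso
      ((DerivedCategory.homologyFunctorFactors W.Modules 0).app _ ≪≫
        HomologicalComplex.singleObjHomologySelfIso (ComplexShape.up ℤ) 0 M).symm hM
  · exact isCoh_of_isZero' M _ hM (IsZero.of_iso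
      (HomologicalComplex.isZero_single_obj_homology (ComplexShape.up ℤ) 0 M i hi)
      ((DerivedCategory.homologyFunctorFactors W.Modules i).app _))

theorem bdd_single {W : Scheme.{u}} (M : W.Modules) : ∃ b : ℤ, ∀ i : ℤ, b < i →
    IsZero (((HomologicalComplex.single W.Modules (ComplexShape.up ℤ) 0).obj M).X i) :=
  ⟨0, fun i hi => HomologicalComplex.isZero_single_obj_X (ComplexShape.up ℤ) 0 M i (by omega)⟩

end Single

section Mod

variable (X Y S : Scheme.{u}) (f : X ⟶ S) (g : Y ⟶ S) [Flat f]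
  [IsLocallyNoetherian X] [IsLocallyNoetherian (pullback f g)]

theorem isCoh_localTor_single (F : X.Modules) (G : Y.Modules)
    (hF : Coh.IsCoh F) (hG : Coh.IsCoh G) [DCoh.HasLpull (pullback.fst f g)]
    [DCoh.HasLTensorCx (((Scheme.Modules.pullback (pullback.snd f g)).mapHomologicalComplex
      (ComplexShape.up ℤ)).obj
      ((HomologicalComplex.single Y.Modules (ComplexShape.up ℤ) 0).obj G))] (n : ℤ) :
    Coh.IsCoh (DCoh.HD ((DCoh.LTensorCx (((Scheme.Modules.pullback
      (pullback.snd f g)).mapHomologicalComplex (ComplexShape.up ℤ)).obj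
      ((HomologicalComplex.single Y.Modules (ComplexShape.up ℤ) 0).obj G))).obj
        ((DCoh.Lpull (pullback.fst f g)).obj (DCoh.inD X F))) n) := by
  have key := isCohD_localTor X Y S f g
    ((HomologicalComplex.single X.Modules (ComplexShape.up ℤ) 0).obj F)
    ((HomologicalComplex.single Y.Modules (ComplexShape.up ℤ) 0).obj G)
    (bdd_single F) (bdd_single G) (isCohD_single F hF) (isCohD_single G hG) n
  exact Groth.Agent.Lib.T2H8.PerfCoh.isCoh_of_iso
    ((DerivedCategory.homologyFunctor _ n).mapIso ((DCoh.LTensorCx _).mapIso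
      ((DCoh.Lpull (pullback.fst f g)).mapIso
        (Groth.Agent.Lib.T2H1.RelPCmod.singleIso F)))) key

end Mod

end Groth.Agent.Lib.T2H1.LocalTorCoh
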