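import Groth.Agent.Lib.T2H4LocCohQC
import Groth.Agent.Lib.Helper16SectSupp
import Groth.Agent.Lib.Helper20StalkExact
import Groth.Agent.Lib.Helper21GammaZNat0
import Groth.Prelude.Def_DCoh2

/-!
# The Mayer–Vietoris sequence of a flasque module (helper1)

For opens `U ∪ V = X` and an `O_X`-module `M`:
`0 → M → j_{U*}M|_U ⊕ j_{V*}M|_V → j_{U∩V*}M|_{U∩V} → 0`, exact on sections when `M` is flasque.
-/

set_option autoImplicit false
universe u
open CategoryTheory CategoryTheory.Limits AlgebraicGeometry Opposite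

namespace Groth.Agent.Lib.T2H1.MVMod

open Scheme.Modules

variable {X : Scheme.{u}}

section Criteria

theorem mono_of_sectionwise {M N : X.Modules} (f : M ⟶ N)
    (h : ∀ (A : X.Opens) (x : Γ(M, A)), f.app A x = 0 → x = 0) : Mono f := by
  refine Groth.Agent.Lib.Helper21.GammaZ.mono_of_injective_app (R := X.ringCatSheaf) f
    (fun A => ?_)
  rw [injective_iff_map_eq_zero]
  intro x hx
  exact h A.unop x hx

theorem epi_of_sectionwise {M N : X.Modules} (f : M ⟶ N)
    (h : ∀ (A : X.Opens) (y : Γ(N, A)), ∃ x : Γ(M, A), f.app A x = y) : Epi f :=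
  Groth.Agent.Lib.Helper21.GammaZ.epi_of_surjective_app (R := X.ringCatSheaf) f
    (fun A y => h A.unop y)

theorem exact_of_sectionwise (S : ShortComplex X.Modules)
    (h : ∀ (A : X.Opens) (y : Γ(S.X₂, A)), S.g.app A y = 0 → ∃ x : Γ(S.X₁, A), S.f.app A x = y) :
    S.Exact := by
  rw [S.exact_iff_epi_kernel_lift]
  refine epi_of_sectionwise _ (fun A x => ?_)
  obtain ⟨z, hz⟩ := h A ((kernel.ι S.g).app A x) (by
    rw [← ConcreteCategory.comp_apply, ← Hom.comp_app, kernel.condition]
    rfl)
  refine ⟨z, ?_⟩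
  apply Groth.Agent.Lib.Helper20.StalkExact.injective_app_of_mono (kernel.ι S.g) A
  rw [← hz, ← ConcreteCategory.comp_apply, ← Hom.comp_app, kernel.lift_ι]

end Criteria

section T

/-- `j_{W*} j_W^*` for an open `W`. -/
noncomputable abbrev T (W : X.Opens) : X.Modules ⥤ X.Modules :=
  restrictFunctor W.ι ⋙ pushforward W.ι

/-- the unit `M ⟶ j_{W*} j_W^* M`. -/
noncomputable abbrev η (W : X.Opens) : 𝟭 X.Modules ⟶ T W := (restrictAdjunction W.ι).unit

/-- the open `W ∩ A`, in the form in which it appears in the sections of `T W M`. -/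
abbrev cap (W A : X.Opens) : X.Opens := W.ι ''ᵁ (W.ι ⁻¹ᵁ A)

lemma cap_eq (W A : X.Opens) : cap W A = W ⊓ A := by
  rw [cap, Scheme.Hom.image_preimage_eq_opensRange_inf, Scheme.Opens.opensRange_ι]

lemma cap_le (W A : X.Opens) : cap W A ≤ A := W.ι.image_preimage_le A

lemma cap_mono {W W' : X.Opens} (h : W' ≤ W) (A : X.Opens) : cap W' A ≤ cap W A := by
  rw [cap_eq, cap_eq]
  exact inf_le_inf_right _ h

lemma restrict_map_app {Y : Scheme.{u}} (j : Y ⟶ X) [IsOpenImmersion j] {M N : X.Modules}
    (φ : M ⟶ N) (B : Y.Opens) :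
    ((restrictFunctor j).map φ).app B = φ.app (j ''ᵁ B) := rfl

lemma cap_mono_right (W : X.Opens) {A A' : X.Opens} (h : A' ≤ A) : cap W A' ≤ cap W A := by
  rw [cap_eq, cap_eq]
  exact inf_le_inf_left _ h

lemma η_app_app (W : X.Opens) (M : X.Modules) (A : X.Opens) :
    ((η W).app M).app A = M.presheaf.map (homOfLE (cap_le W A)).op := rfl

theorem isIso_presheaf_map_homOfLE (M : X.Modules) {W W' : X.Opens} (h : W ≤ W') (h' : W' ≤ W) :
    IsIso (M.presheaf.map (homOfLE h).op) := by
  have : IsIso (homOfLE h) := ⟨homOfLE h', Subsingleton.elim _ _, Subsingleton.elim _ _⟩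
  infer_instance

theorem isIso_whisker (W W' : X.Opens) (h : W' ≤ W) :
    IsIso (Functor.whiskerRight (η W) (restrictFunctor W'.ι)) := by
  rw [NatTrans.isIso_iff_isIso_app]
  intro M
  rw [Hom.isIso_iff_isIso_app]
  intro A
  change IsIso (((η W).app M).app (W'.ι ''ᵁ A))
  rw [η_app_app]
  apply isIso_presheaf_map_homOfLE
  rw [cap_eq]
  exact le_inf ((W'.ι_image_le A).trans h) le_rfl

/-- the restriction `j_{W*} j_W^* ⟶ j_{W'*} j_{W'}^*` for `W' ≤ W`. -/
noncomputable def res (W W' : X.Opens) (h : W' ≤ W) : T W ⟶ T W' :=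
  haveI := isIso_whisker W W' h
  (Functor.rightUnitor _).inv ≫ Functor.whiskerLeft (T W) (η W') ≫
    (Functor.associator _ _ _).inv ≫
    Functor.whiskerRight (inv (Functor.whiskerRight (η W) (restrictFunctor W'.ι)))
      (pushforward W'.ι) ≫
    Functor.whiskerRight (Functor.leftUnitor _).hom (pushforward W'.ι)

lemma res_app (W W' : X.Opens) (h : W' ≤ W) (M : X.Modules)
    [IsIso ((restrictFunctor W'.ι).map ((η W).app M))] :
    (res W W' h).app M = (η W').app ((T W).obj M) ≫
      (pushforward W'.ι).map (inv ((restrictFunctor W'.ι).map ((η W).app M))) := by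
  haveI := isIso_whisker W W' h
  simp only [res, NatTrans.comp_app, Functor.rightUnitor_inv_app, Functor.whiskerLeft_app,
    Functor.associator_inv_app, Functor.whiskerRight_app, Functor.leftUnitor_hom_app,
    Category.id_comp, NatIso.isIso_inv_app]
  erw [CategoryTheory.Functor.map_id, Category.comp_id]

lemma res_app_comp (W W' : X.Opens) (h : W' ≤ W) (M : X.Modules) :
    (res W W' h).app M ≫ (pushforward W'.ι).map ((restrictFunctor W'.ι).map ((η W).app M)) =
      (η W').app ((T W).obj M) := by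
  haveI := isIso_whisker W W' h
  haveI hψ : IsIso ((restrictFunctor W'.ι).map ((η W).app M)) :=
    inferInstanceAs (IsIso ((Functor.whiskerRight (η W) (restrictFunctor W'.ι)).app M))
  rw [res_app, Category.assoc, ← Functor.map_comp, IsIso.inv_hom_id,
    CategoryTheory.Functor.map_id]
  exact Category.comp_id _

lemma res_app_app_apply (W W' : X.Opens) (h : W' ≤ W) (M : X.Modules) (A : X.Opens)
    (x : Γ(M, cap W A)) :
    ((res W W' h).app M).app A x = M.presheaf.map (homOfLE (cap_mono h A)).op x := by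
  haveI := isIso_whisker W W' h
  haveI hψ : IsIso ((restrictFunctor W'.ι).map ((η W).app M)) :=
    inferInstanceAs (IsIso ((Functor.whiskerRight (η W) (restrictFunctor W'.ι)).app M))
  haveI hb : IsIso (((restrictFunctor W'.ι).map ((η W).app M)).app (W'.ι ⁻¹ᵁ A)) :=
    Hom.isIso_iff_isIso_app.mp hψ _
  have hinj : Function.Injective
      (((restrictFunctor W'.ι).map ((η W).app M)).app (W'.ι ⁻¹ᵁ A)) :=
    (ConcreteCategory.bijective_of_isIso _).1
  apply hinj
  have h2 := congrArg (fun φ => (Hom.app φ A) x) (res_app_comp W W' h M)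
  refine h2.trans ?_
  have e1 : ((η W').app ((T W).obj M)).app A =
      M.presheaf.map (homOfLE (cap_mono_right W (cap_le W' A))).op :=
    η_app_app W' ((T W).obj M) A
  have e2 : ((restrictFunctor W'.ι).map ((η W).app M)).app (W'.ι ⁻¹ᵁ A) =
      ((η W).app M).app (cap W' A) := restrict_map_app W'.ι ((η W).app M) (W'.ι ⁻¹ᵁ A)
  have e3 : ((η W).app M).app (cap W' A) =
      M.presheaf.map (homOfLE (cap_le W (cap W' A))).op := η_app_app W M (cap W' A)
  have key : M.presheaf.map (homOfLE (cap_mono_right W (cap_le W' A))).op =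
      M.presheaf.map (homOfLE (cap_mono h A)).op ≫
        M.presheaf.map (homOfLE (cap_le W (cap W' A))).op := by
    rw [← Functor.map_comp]
    rfl
  rw [e1, e2, e3, key]
  rfl

lemma η_app_app_apply (W : X.Opens) (M : X.Modules) (A : X.Opens) (x : Γ(M, A)) :
    ((η W).app M).app A x = M.presheaf.map (homOfLE (cap_le W A)).op x := rfl

end T

section Sections

variable (U V : X.Opens) (hUV : U ⊔ V = ⊤) (M : X.Modules)

include hUV in
lemma le_cap_sup (A : X.Opens) : A ≤ cap U A ⊔ cap V A := by
  rw [cap_eq, cap_eq, ← inf_sup_right, hUV, top_inf_eq]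

include hUV in
/-- a section vanishing on `U ∩ A` and `V ∩ A` vanishes. -/
lemma eq_zero_of_η (A : X.Opens) (s : Γ(M, A)) (h₁ : ((η U).app M).app A s = 0)
    (h₂ : ((η V).app M).app A s = 0) : s = 0 := by
  refine TopCat.Sheaf.eq_of_locally_eq₂ (⟨M.presheaf, M.isSheaf⟩ : TopCat.Sheaf Ab X)
    (homOfLE (cap_le U A)) (homOfLE (cap_le V A)) (le_cap_sup U V hUV A) s 0 ?_ ?_
  · rw [map_zero]
    exact h₁
  · rw [map_zero]
    exact h₂

include hUV in
/-- gluing sections over `U ∩ A` and `V ∩ A` agreeing on `U ∩ V ∩ A`. -/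
lemma exists_glue (A : X.Opens) (a : Γ(M, cap U A)) (b : Γ(M, cap V A))
    (hab : ((res U (U ⊓ V) inf_le_left).app M).app A a =
      ((res V (U ⊓ V) inf_le_right).app M).app A b) :
    ∃ s : Γ(M, A), ((η U).app M).app A s = a ∧ ((η V).app M).app A s = b := by
  rw [res_app_app_apply, res_app_app_apply] at hab
  have hle : cap U A ⊓ cap V A ≤ cap (U ⊓ V) A := by
    rw [cap_eq, cap_eq, cap_eq]
    exact le_inf (le_inf (inf_le_left.trans inf_le_left) (inf_le_right.trans inf_le_left))
      (inf_le_left.trans inf_le_right)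
  have hab' := congrArg (M.presheaf.map (homOfLE hle).op) hab
  rw [← ConcreteCategory.comp_apply, ← ConcreteCategory.comp_apply, ← Functor.map_comp,
    ← Functor.map_comp] at hab'
  obtain ⟨s, hs₁, hs₂⟩ := Groth.Agent.Lib.Helper16.SectSupp.glue2 (Coh.toAb M) (cap U A) (cap V A) A
    (cap_le U A) (cap_le V A) (le_cap_sup U V hUV A) a b hab'
  exact ⟨s, hs₁, hs₂⟩

/-- for flasque `M`, restriction from `U ∩ A` to `U ∩ V ∩ A` is surjective. -/
lemma exists_res_eq (hM : TopCat.Sheaf.IsFlasque (Coh.toAb M)) (W W' : X.Opens) (h : W' ≤ W)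
    (A : X.Opens) (z : Γ(M, cap W' A)) :
    ∃ a : Γ(M, cap W A), ((res W W' h).app M).app A a = z := by
  have h1 := hM.epi (homOfLE (cap_mono h A)).op
  rw [AddCommGrpCat.epi_iff_surjective] at h1
  obtain ⟨a, ha⟩ := h1 z
  exact ⟨a, (res_app_app_apply W W' h M A a).trans ha⟩

end Sections

section MV

variable (U V : X.Opens)

/-- `M ↦ j_{U*}M|_U ⊞ j_{V*}M|_V`. -/
noncomputable def B : X.Modules ⥤ X.Modules where
  obj M := (T U).obj M ⊞ (T V).obj M
  map φ := biprod.map ((T U).map φ) ((T V).map φ)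
  map_id M := by
    apply biprod.hom_ext <;> simp
  map_comp φ ψ := by
    apply biprod.hom_ext <;> simp

instance : (B U V).Additive where
  map_add {M N φ ψ} := by
    change biprod.map ((T U).map (φ + ψ)) ((T V).map (φ + ψ)) =
      biprod.map ((T U).map φ) ((T V).map φ) + biprod.map ((T U).map ψ) ((T V).map ψ)
    apply biprod.hom_ext
    · rw [Preadditive.add_comp]
      simp [Functor.map_add]
    · rw [Preadditive.add_comp]
      simp [Functor.map_add]

/-- first projection. -/
noncomputable def bfst : B U V ⟶ T U where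
  app M := biprod.fst
  naturality _ _ φ := by simp [B]

/-- second projection. -/
noncomputable def bsnd : B U V ⟶ T V where
  app M := biprod.snd
  naturality _ _ φ := by simp [B]

/-- first inclusion. -/
noncomputable def binl : T U ⟶ B U V where
  app M := biprod.inl
  naturality _ _ φ := by simp [B]

/-- second inclusion. -/
noncomputable def binr : T V ⟶ B U V where
  app M := biprod.inr
  naturality _ _ φ := by simp [B]

/-- the first map of the Mayer–Vietoris sequence. -/
noncomputable def mvf : 𝟭 X.Modules ⟶ B U V where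
  app M := biprod.lift ((η U).app M) ((η V).app M)
  naturality M N φ := by
    apply biprod.hom_ext
    · simp [B]
    · simp [B]

/-- the second map of the Mayer–Vietoris sequence. -/
noncomputable def mvg : B U V ⟶ T (U ⊓ V) where
  app M := biprod.desc ((res U (U ⊓ V) inf_le_left).app M) (-(res V (U ⊓ V) inf_le_right).app M)
  naturality M N φ := by
    apply biprod.hom_ext'
    · simpa [B] using (res U (U ⊓ V) inf_le_left).naturality φ
    · simpa [B] using (res V (U ⊓ V) inf_le_right).naturality φ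

lemma η_res (W W' : X.Opens) (h : W' ≤ W) (M : X.Modules) :
    (η W).app M ≫ (res W W' h).app M = (η W').app M := by
  haveI := isIso_whisker W W' h
  haveI hψ : IsIso ((restrictFunctor W'.ι).map ((η W).app M)) :=
    inferInstanceAs (IsIso ((Functor.whiskerRight (η W) (restrictFunctor W'.ι)).app M))
  have nat := (η W').naturality ((η W).app M)
  rw [Functor.id_map] at nat
  rw [res_app, ← Category.assoc, nat, Category.assoc]
  change _ ≫ (pushforward W'.ι).map ((restrictFunctor W'.ι).map ((η W).app M)) ≫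
    (pushforward W'.ι).map (inv ((restrictFunctor W'.ι).map ((η W).app M))) = _
  rw [← Functor.map_comp, IsIso.hom_inv_id, CategoryTheory.Functor.map_id]
  exact Category.comp_id _

lemma mvf_bfst (M : X.Modules) : (mvf U V).app M ≫ (bfst U V).app M = (η U).app M :=
  biprod.lift_fst _ _

lemma mvf_bsnd (M : X.Modules) : (mvf U V).app M ≫ (bsnd U V).app M = (η V).app M :=
  biprod.lift_snd _ _

lemma binl_mvg (M : X.Modules) :
    (binl U V).app M ≫ (mvg U V).app M = (res U (U ⊓ V) inf_le_left).app M :=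
  biprod.inl_desc _ _

lemma b_total (M : X.Modules) :
    (bfst U V).app M ≫ (binl U V).app M + (bsnd U V).app M ≫ (binr U V).app M =
      𝟙 ((B U V).obj M) :=
  biprod.total

lemma mvg_eq (M : X.Modules) : (mvg U V).app M =
    (bfst U V).app M ≫ (res U (U ⊓ V) inf_le_left).app M -
      (bsnd U V).app M ≫ (res V (U ⊓ V) inf_le_right).app M := by
  refine biprod.desc_eq.trans ?_
  rw [Preadditive.comp_neg, ← sub_eq_add_neg]
  rfl

lemma mvf_mvg (M : X.Modules) : (mvf U V).app M ≫ (mvg U V).app M = 0 := by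
  rw [mvg_eq, Preadditive.comp_sub, ← Category.assoc, ← Category.assoc, mvf_bfst, mvf_bsnd,
    η_res, η_res, sub_self]

end MV

section Exact

variable (U V : X.Opens) (hUV : U ⊔ V = ⊤) (M : X.Modules) (A : X.Opens)

lemma bfst_mvf_apply (s : Γ(M, A)) :
    ((bfst U V).app M).app A (((mvf U V).app M).app A s) = ((η U).app M).app A s := by
  rw [← ConcreteCategory.comp_apply, ← Hom.comp_app, mvf_bfst]

lemma bsnd_mvf_apply (s : Γ(M, A)) :
    ((bsnd U V).app M).app A (((mvf U V).app M).app A s) = ((η V).app M).app A s := by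
  rw [← ConcreteCategory.comp_apply, ← Hom.comp_app, mvf_bsnd]

lemma b_total_apply (z : Γ((B U V).obj M, A)) :
    z = ((binl U V).app M).app A (((bfst U V).app M).app A z) +
      ((binr U V).app M).app A (((bsnd U V).app M).app A z) := by
  have h := congrArg (fun φ : (B U V).obj M ⟶ (B U V).obj M => φ.app A z) (b_total U V M)
  exact h.symm

lemma eq_of_bfst_bsnd (y y' : Γ((B U V).obj M, A))
    (h₁ : ((bfst U V).app M).app A y = ((bfst U V).app M).app A y')
    (h₂ : ((bsnd U V).app M).app A y = ((bsnd U V).app M).app A y') : y = y' := by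
  rw [b_total_apply U V M A y, b_total_apply U V M A y', h₁, h₂]

lemma mvg_apply (y : Γ((B U V).obj M, A)) :
    ((mvg U V).app M).app A y =
      ((res U (U ⊓ V) inf_le_left).app M).app A (((bfst U V).app M).app A y) -
      ((res V (U ⊓ V) inf_le_right).app M).app A (((bsnd U V).app M).app A y) := by
  rw [mvg_eq]
  rfl

include hUV in
lemma mvf_app_eq_zero (s : Γ(M, A)) (h : ((mvf U V).app M).app A s = 0) : s = 0 := by
  refine eq_zero_of_η U V hUV M A s ?_ ?_
  · rw [← bfst_mvf_apply, h, map_zero]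
  · rw [← bsnd_mvf_apply, h, map_zero]

include hUV in
lemma exists_mvf_app_eq (y : Γ((B U V).obj M, A)) (h : ((mvg U V).app M).app A y = 0) :
    ∃ s : Γ(M, A), ((mvf U V).app M).app A s = y := by
  rw [mvg_apply, sub_eq_zero] at h
  obtain ⟨s, hs₁, hs₂⟩ := exists_glue U V hUV M A _ _ h
  refine ⟨s, eq_of_bfst_bsnd U V M A _ _ ?_ ?_⟩
  · rw [bfst_mvf_apply, hs₁]
  · rw [bsnd_mvf_apply, hs₂]

lemma exists_mvg_app_eq (hM : TopCat.Sheaf.IsFlasque (Coh.toAb M)) (z : Γ((T (U ⊓ V)).obj M, A)) :
    ∃ y : Γ((B U V).obj M, A), ((mvg U V).app M).app A y = z := by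
  obtain ⟨a, ha⟩ := exists_res_eq M hM U (U ⊓ V) inf_le_left A z
  refine ⟨((binl U V).app M).app A a, ?_⟩
  rw [← ConcreteCategory.comp_apply, ← Hom.comp_app, binl_mvg]
  exact ha

end Exact

section ShortExact

variable (U V : X.Opens) (hUV : U ⊔ V = ⊤) (M : X.Modules)
  (hM : TopCat.Sheaf.IsFlasque (Coh.toAb M))

include hUV hM in
/-- the Mayer–Vietoris sequence of a flasque module is short exact. -/
theorem shortExact :
    (ShortComplex.mk ((mvf U V).app M) ((mvg U V).app M) (mvf_mvg U V M)).ShortExact := by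
  haveI : Mono ((mvf U V).app M) :=
    mono_of_sectionwise _ (fun A s hs => mvf_app_eq_zero U V hUV M A s hs)
  haveI : Epi ((mvg U V).app M) :=
    epi_of_sectionwise _ (fun A z => exists_mvg_app_eq U V M A hM z)
  exact ShortComplex.ShortExact.mk'
    (exact_of_sectionwise _ (fun A y hy => exists_mvf_app_eq U V hUV M A y hy)) ‹_› ‹_›

include hUV hM in
/-- the direct image of the Mayer–Vietoris sequence of a flasque module is short exact. -/
theorem shortExact_push {Y : Scheme.{u}} (p : X ⟶ Y) :
    (ShortComplex.mk ((pushforward p).map ((mvf U V).app M))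
      ((pushforward p).map ((mvg U V).app M))
      (by rw [← Functor.map_comp, mvf_mvg, Functor.map_zero])).ShortExact := by
  haveI : Mono ((pushforward p).map ((mvf U V).app M)) :=
    mono_of_sectionwise _ (fun A s hs => mvf_app_eq_zero U V hUV M (p ⁻¹ᵁ A) s hs)
  haveI : Epi ((pushforward p).map ((mvg U V).app M)) :=
    epi_of_sectionwise _ (fun A z => exists_mvg_app_eq U V M (p ⁻¹ᵁ A) hM z)
  exact ShortComplex.ShortExact.mk'
    (exact_of_sectionwise _ (fun A y hy => exists_mvf_app_eq U V hUV M (p ⁻¹ᵁ A) y hy)) ‹_› ‹_›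

include hUV hM in
/-- global sections of the Mayer–Vietoris sequence of a flasque module are short exact. -/
theorem shortExact_gamma :
    (ShortComplex.mk ((DCoh.gammaAb X).map ((mvf U V).app M))
      ((DCoh.gammaAb X).map ((mvg U V).app M))
      (by rw [← Functor.map_comp, mvf_mvg, Functor.map_zero])).ShortExact := by
  haveI : Mono ((DCoh.gammaAb X).map ((mvf U V).app M)) := by
    rw [AddCommGrpCat.mono_iff_injective, injective_iff_map_eq_zero]
    exact fun s hs => mvf_app_eq_zero U V hUV M ⊤ s hs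
  haveI : Epi ((DCoh.gammaAb X).map ((mvg U V).app M)) := by
    rw [AddCommGrpCat.epi_iff_surjective]
    exact fun z => exists_mvg_app_eq U V M ⊤ hM z
  refine ShortComplex.ShortExact.mk' ?_ ‹_› ‹_›
  rw [ShortComplex.ab_exact_iff]
  exact fun y hy => exists_mvf_app_eq U V hUV M ⊤ y hy

end ShortExact

end Groth.Agent.Lib.T2H1.MVMod
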