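import Groth.Agent.Lib.T2H1MVTri
import Groth.Prelude.Def_CxOX
import Mathlib.CategoryTheory.Adjunction.Additive
import Mathlib.CategoryTheory.Adjunction.Mates

/-!
# The Mayer–Vietoris triangle for extension by zero (helper1)

For opens `U ∪ V = X` and `E ∈ D(O_X)`:
`j_{U∩V!}E|_{U∩V} → j_{U!}E|_U ⊕ j_{V!}E|_V → E → [1]`.

The termwise short exact sequence `0 → j_{W!}M|_W → j_{U!}M|_U ⊕ j_{V!}M|_V → M → 0` is proved by
testing against injective modules `I`: by the adjunctions `j_! j^* ⊣ j_* j^*` the sequence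
`Hom(-, I)` becomes `Hom(M, -)` applied to the (split) Mayer–Vietoris sequence of `I`.
-/

set_option autoImplicit false
universe u v' u'
open CategoryTheory CategoryTheory.Limits CategoryTheory.Pretriangulated AlgebraicGeometry

attribute [local instance] HasDerivedCategory.standard

namespace Groth.Agent.Lib.T2H1.MVShriek

open Scheme.Modules Groth.Agent.Lib.T2H1.MVMod Groth.Agent.Lib.T2H1.SESTriangle

section Criterion

variable {C : Type u'} [Category.{v'} C] [Abelian C] [EnoughInjectives C]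

/-- a short complex is short exact as soon as `Hom(-, I)` turns it into a short exact sequence
for every injective object `I`. -/
theorem shortExact_of_forall_injective (S : ShortComplex C)
    (h₁ : ∀ (I : C), Injective I → ∀ a : S.X₁ ⟶ I, ∃ b : S.X₂ ⟶ I, S.f ≫ b = a)
    (h₂ : ∀ (I : C), Injective I → ∀ b : S.X₂ ⟶ I, S.f ≫ b = 0 → ∃ c : S.X₃ ⟶ I, S.g ≫ c = b)
    (h₃ : ∀ (I : C), Injective I → ∀ c : S.X₃ ⟶ I, S.g ≫ c = 0 → c = 0) : S.ShortExact := by
  haveI : Mono S.f := by
    obtain ⟨b, hb⟩ := h₁ (Injective.under S.X₁) inferInstance (Injective.ι S.X₁)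
    exact mono_of_mono_fac hb
  haveI : Epi S.g := by
    refine Preadditive.epi_of_cancel_zero _ (fun {Q} c hc => ?_)
    have h := h₃ (Injective.under Q) inferInstance (c ≫ Injective.ι Q)
      (by rw [← Category.assoc, hc, zero_comp])
    rw [← cancel_mono (Injective.ι Q), h, zero_comp]
  refine ShortComplex.ShortExact.mk' ?_ ‹_› ‹_›
  rw [S.exact_iff_epi_kernel_lift]
  refine Preadditive.epi_of_cancel_zero _ (fun {R} c hc => ?_)
  let t : S.X₂ ⟶ Injective.under R := Injective.factorThru (c ≫ Injective.ι R) (kernel.ι S.g)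
  have ht : kernel.ι S.g ≫ t = c ≫ Injective.ι R := Injective.comp_factorThru _ _
  have hft : S.f ≫ t = 0 := by
    rw [← kernel.lift_ι S.g S.f S.zero, Category.assoc, ht, ← Category.assoc, hc, zero_comp]
  obtain ⟨s, hs⟩ := h₂ _ inferInstance t hft
  rw [← cancel_mono (Injective.ι R), ← ht, ← hs, ← Category.assoc, kernel.condition, zero_comp,
    zero_comp]

end Criterion

variable {X : Scheme.{u}}

section L

/-- `j_{W!} j_W^*`. -/
noncomputable abbrev L (W : X.Opens) : X.Modules ⥤ X.Modules :=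
  restrictFunctor W.ι ⋙ CxOX.extZero W.ι

/-- `j_{W!} j_W^* ⊣ j_{W*} j_W^*`. -/
noncomputable def adjLT (W : X.Opens) : L W ⊣ T W :=
  (restrictAdjunction W.ι).comp (CxOX.extZeroAdj W.ι)

/-- the counit `j_{W!} j_W^* M ⟶ M`. -/
noncomputable abbrev ε (W : X.Opens) : L W ⟶ 𝟭 X.Modules := (CxOX.extZeroAdj W.ι).counit

lemma homEquiv_ε (W : X.Opens) (M : X.Modules) :
    (adjLT W).homEquiv M M ((ε W).app M) = (η W).app M := by
  rw [Adjunction.homEquiv_unit, adjLT, Adjunction.comp_unit_app]
  change ((restrictAdjunction W.ι).unit.app M ≫ (pushforward W.ι).map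
      ((CxOX.extZeroAdj W.ι).unit.app ((restrictFunctor W.ι).obj M))) ≫
    (pushforward W.ι).map ((restrictFunctor W.ι).map ((CxOX.extZeroAdj W.ι).counit.app M)) = _
  rw [Category.assoc, ← Functor.map_comp, Adjunction.right_triangle_components,
    CategoryTheory.Functor.map_id]
  exact Category.comp_id _

lemma homEquiv_ε_comp (W : X.Opens) {M N : X.Modules} (c : M ⟶ N) :
    (adjLT W).homEquiv M N ((ε W).app M ≫ c) = c ≫ (η W).app N := by
  rw [Adjunction.homEquiv_naturality_right]
  exact (congrArg (fun φ => φ ≫ (T W).map c) (homEquiv_ε W M)).trans ((η W).naturality c).symm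

/-- `j_{W'!} j_{W'}^* ⟶ j_{W!} j_W^*` for `W' ⊆ W`: the conjugate of the restriction
`j_{W*} j_W^* ⟶ j_{W'*} j_{W'}^*`. -/
noncomputable def lres (W W' : X.Opens) (h : W' ≤ W) : L W' ⟶ L W :=
  (conjugateEquiv (adjLT W) (adjLT W')).symm (res W W' h)

lemma homEquiv_lres (W W' : X.Opens) (h : W' ≤ W) {M N : X.Modules} (φ : (L W).obj M ⟶ N) :
    (adjLT W').homEquiv M N ((lres W W' h).app M ≫ φ) =
      (adjLT W).homEquiv M N φ ≫ (res W W' h).app N := by
  rw [Adjunction.homEquiv_unit, Adjunction.homEquiv_unit, Functor.map_comp, ← Category.assoc,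
    lres, ← unit_conjugateEquiv_symm, Category.assoc, Category.assoc]
  congr 1
  exact ((res W W' h).naturality φ).symm

lemma lres_ε (W W' : X.Opens) (h : W' ≤ W) (M : X.Modules) :
    (lres W W' h).app M ≫ (ε W).app M = (ε W').app M := by
  apply ((adjLT W').homEquiv M M).injective
  rw [homEquiv_lres, homEquiv_ε, homEquiv_ε, η_res]

end L

section LB

variable (U V : X.Opens)

/-- `M ↦ j_{U!}M|_U ⊞ j_{V!}M|_V`. -/
noncomputable def LB : X.Modules ⥤ X.Modules where
  obj M := (L U).obj M ⊞ (L V).obj M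
  map φ := biprod.map ((L U).map φ) ((L V).map φ)
  map_id M := by
    apply biprod.hom_ext <;> simp
  map_comp φ ψ := by
    apply biprod.hom_ext <;> simp

instance : (LB U V).Additive where
  map_add {M N φ ψ} := by
    change biprod.map ((L U).map (φ + ψ)) ((L V).map (φ + ψ)) =
      biprod.map ((L U).map φ) ((L V).map φ) + biprod.map ((L U).map ψ) ((L V).map ψ)
    apply biprod.hom_ext
    · rw [Preadditive.add_comp]
      simp [Functor.map_add]
    · rw [Preadditive.add_comp]
      simp [Functor.map_add]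

/-- first projection. -/
noncomputable def lfst : LB U V ⟶ L U where
  app M := biprod.fst
  naturality _ _ φ := by simp [LB]

/-- second projection. -/
noncomputable def lsnd : LB U V ⟶ L V where
  app M := biprod.snd
  naturality _ _ φ := by simp [LB]

/-- first inclusion. -/
noncomputable def linl : L U ⟶ LB U V where
  app M := biprod.inl
  naturality _ _ φ := by simp [LB]

/-- second inclusion. -/
noncomputable def linr : L V ⟶ LB U V where
  app M := biprod.inr
  naturality _ _ φ := by simp [LB]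

/-- the first map of the Mayer–Vietoris sequence for `j_!`. -/
noncomputable def lf : L (U ⊓ V) ⟶ LB U V where
  app M := biprod.lift ((lres U (U ⊓ V) inf_le_left).app M) (-(lres V (U ⊓ V) inf_le_right).app M)
  naturality M N φ := by
    apply biprod.hom_ext
    · simpa [LB] using (lres U (U ⊓ V) inf_le_left).naturality φ
    · simpa [LB] using (lres V (U ⊓ V) inf_le_right).naturality φ

/-- the second map of the Mayer–Vietoris sequence for `j_!`. -/
noncomputable def lg : LB U V ⟶ 𝟭 X.Modules where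
  app M := biprod.desc ((ε U).app M) ((ε V).app M)
  naturality M N φ := by
    apply biprod.hom_ext'
    · simpa [LB] using (ε U).naturality φ
    · simpa [LB] using (ε V).naturality φ

lemma lf_lfst (M : X.Modules) :
    (lf U V).app M ≫ (lfst U V).app M = (lres U (U ⊓ V) inf_le_left).app M :=
  biprod.lift_fst _ _

lemma lf_lsnd (M : X.Modules) :
    (lf U V).app M ≫ (lsnd U V).app M = -(lres V (U ⊓ V) inf_le_right).app M :=
  biprod.lift_snd _ _

lemma linl_lg (M : X.Modules) : (linl U V).app M ≫ (lg U V).app M = (ε U).app M :=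
  biprod.inl_desc _ _

lemma linr_lg (M : X.Modules) : (linr U V).app M ≫ (lg U V).app M = (ε V).app M :=
  biprod.inr_desc _ _

lemma lb_total (M : X.Modules) :
    (lfst U V).app M ≫ (linl U V).app M + (lsnd U V).app M ≫ (linr U V).app M =
      𝟙 ((LB U V).obj M) :=
  biprod.total

/-- `biprod.desc` out of `(LB U V).obj M`. -/
noncomputable def ldesc {M I : X.Modules} (b₁ : (L U).obj M ⟶ I) (b₂ : (L V).obj M ⟶ I) :
    (LB U V).obj M ⟶ I := biprod.desc b₁ b₂

lemma linl_ldesc {M I : X.Modules} (b₁ : (L U).obj M ⟶ I) (b₂ : (L V).obj M ⟶ I) :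
    (linl U V).app M ≫ ldesc U V b₁ b₂ = b₁ := biprod.inl_desc _ _

lemma linr_ldesc {M I : X.Modules} (b₁ : (L U).obj M ⟶ I) (b₂ : (L V).obj M ⟶ I) :
    (linr U V).app M ≫ ldesc U V b₁ b₂ = b₂ := biprod.inr_desc _ _

lemma lb_hom_ext' {M I : X.Modules} (f g : (LB U V).obj M ⟶ I)
    (h₁ : (linl U V).app M ≫ f = (linl U V).app M ≫ g)
    (h₂ : (linr U V).app M ≫ f = (linr U V).app M ≫ g) : f = g :=
  biprod.hom_ext' _ _ h₁ h₂

/-- `biprod.lift` into `(B U V).obj I`. -/
noncomputable def blift {M I : X.Modules} (x : M ⟶ (T U).obj I) (y : M ⟶ (T V).obj I) :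
    M ⟶ (B U V).obj I := biprod.lift x y

lemma blift_bfst {M I : X.Modules} (x : M ⟶ (T U).obj I) (y : M ⟶ (T V).obj I) :
    blift U V x y ≫ (bfst U V).app I = x := biprod.lift_fst _ _

lemma blift_bsnd {M I : X.Modules} (x : M ⟶ (T U).obj I) (y : M ⟶ (T V).obj I) :
    blift U V x y ≫ (bsnd U V).app I = y := biprod.lift_snd _ _

lemma b_hom_ext {M I : X.Modules} (f g : M ⟶ (B U V).obj I)
    (h₁ : f ≫ (bfst U V).app I = g ≫ (bfst U V).app I)
    (h₂ : f ≫ (bsnd U V).app I = g ≫ (bsnd U V).app I) : f = g :=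
  biprod.hom_ext _ _ h₁ h₂

lemma lf_comp {M I : X.Modules} (b : (LB U V).obj M ⟶ I) :
    (lf U V).app M ≫ b =
      (lres U (U ⊓ V) inf_le_left).app M ≫ ((linl U V).app M ≫ b) -
        (lres V (U ⊓ V) inf_le_right).app M ≫ ((linr U V).app M ≫ b) := by
  calc (lf U V).app M ≫ b
      = (lf U V).app M ≫ ((lfst U V).app M ≫ (linl U V).app M +
          (lsnd U V).app M ≫ (linr U V).app M) ≫ b := by
        rw [lb_total, Category.id_comp]
    _ = _ := by
        rw [Preadditive.add_comp, Preadditive.comp_add, Category.assoc, Category.assoc,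
          ← Category.assoc ((lf U V).app M), ← Category.assoc ((lf U V).app M), lf_lfst, lf_lsnd,
          Preadditive.neg_comp, ← sub_eq_add_neg]

lemma lf_lg (M : X.Modules) : (lf U V).app M ≫ (lg U V).app M = 0 := by
  rw [lf_comp, linl_lg, linr_lg, lres_ε, lres_ε, sub_self]

lemma comp_mvg {M I : X.Modules} (b' : M ⟶ (B U V).obj I) :
    b' ≫ (mvg U V).app I =
      (b' ≫ (bfst U V).app I) ≫ (res U (U ⊓ V) inf_le_left).app I -
        (b' ≫ (bsnd U V).app I) ≫ (res V (U ⊓ V) inf_le_right).app I := by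
  rw [mvg_eq, Preadditive.comp_sub, Category.assoc, Category.assoc]

lemma homEquiv_lf_comp {M I : X.Modules} (b : (LB U V).obj M ⟶ I) :
    (adjLT (U ⊓ V)).homEquiv M I ((lf U V).app M ≫ b) =
      blift U V ((adjLT U).homEquiv M I ((linl U V).app M ≫ b))
        ((adjLT V).homEquiv M I ((linr U V).app M ≫ b)) ≫ (mvg U V).app I := by
  refine (congrArg ((adjLT (U ⊓ V)).homEquiv M I) (lf_comp U V b)).trans ?_
  refine (Adjunction.homAddEquiv_sub _ _ _ _ _).trans ?_
  refine Eq.trans ?_ (comp_mvg U V _).symm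
  refine congrArg₂ (fun p q => p - q) ?_ ?_
  · refine (homEquiv_lres U (U ⊓ V) inf_le_left _).trans ?_
    exact congrArg (fun p => p ≫ (res U (U ⊓ V) inf_le_left).app I) (blift_bfst U V _ _).symm
  · refine (homEquiv_lres V (U ⊓ V) inf_le_right _).trans ?_
    exact congrArg (fun p => p ≫ (res V (U ⊓ V) inf_le_right).app I) (blift_bsnd U V _ _).symm

end LB

section Exact

variable (U V : X.Opens) (hUV : U ⊔ V = ⊤)

include hUV in
/-- `0 → j_{U∩V!}M|_{U∩V} → j_{U!}M|_U ⊕ j_{V!}M|_V → M → 0` is short exact. -/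
theorem shortExact_shriek (M : X.Modules) :
    (ShortComplex.mk ((lf U V).app M) ((lg U V).app M) (lf_lg U V M)).ShortExact := by
  haveI : EnoughInjectives X.Modules := IsGrothendieckAbelian.enoughInjectives.{u}
  have hmono : ∀ I : X.Modules, Mono ((mvf U V).app I) := fun I =>
    mono_of_sectionwise _ (fun A s hs => mvf_app_eq_zero U V hUV I A s hs)
  have hex : ∀ I : X.Modules,
      (ShortComplex.mk ((mvf U V).app I) ((mvg U V).app I) (mvf_mvg U V I)).Exact := fun I =>
    exact_of_sectionwise _ (fun A y hy => exists_mvf_app_eq U V hUV I A y hy)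
  refine shortExact_of_forall_injective _ ?_ ?_ ?_
  · intro I hI a
    change (L (U ⊓ V)).obj M ⟶ I at a
    have hS := shortExact U V hUV I (Groth.Agent.Lib.T2H4.LocCohQC.isFlasque_of_injective I hI)
    haveI : Injective (ShortComplex.mk ((mvf U V).app I) ((mvg U V).app I) (mvf_mvg U V I)).X₁ :=
      hI
    obtain ⟨b', hb'⟩ : ∃ b' : M ⟶ (B U V).obj I,
        b' ≫ (mvg U V).app I = (adjLT (U ⊓ V)).homEquiv M I a := by
      refine ⟨(adjLT (U ⊓ V)).homEquiv M I a ≫ hS.splittingOfInjective.s, ?_⟩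
      rw [Category.assoc]
      exact (congrArg (fun φ => (adjLT (U ⊓ V)).homEquiv M I a ≫ φ)
        hS.splittingOfInjective.s_g).trans (Category.comp_id _)
    refine ⟨ldesc U V (((adjLT U).homEquiv M I).symm (b' ≫ (bfst U V).app I))
      (((adjLT V).homEquiv M I).symm (b' ≫ (bsnd U V).app I)), ?_⟩
    apply ((adjLT (U ⊓ V)).homEquiv M I).injective
    change (adjLT (U ⊓ V)).homEquiv M I ((lf U V).app M ≫ _) = _
    rw [homEquiv_lf_comp, linl_ldesc, linr_ldesc, Equiv.apply_symm_apply, Equiv.apply_symm_apply,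
      ← hb']
    congr 1
    apply b_hom_ext
    · rw [blift_bfst]
    · rw [blift_bsnd]
  · intro I hI b hb
    change (LB U V).obj M ⟶ I at b
    change (lf U V).app M ≫ b = 0 at hb
    have h0 := congrArg ((adjLT (U ⊓ V)).homEquiv M I) hb
    rw [homEquiv_lf_comp, Adjunction.homAddEquiv_zero] at h0
    haveI := hmono I
    obtain ⟨c, hc⟩ : ∃ c : M ⟶ I, c ≫ (mvf U V).app I =
        blift U V ((adjLT U).homEquiv M I ((linl U V).app M ≫ b))
          ((adjLT V).homEquiv M I ((linr U V).app M ≫ b)) :=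
      ⟨(hex I).lift _ h0, (hex I).lift_f _ h0⟩
    refine ⟨c, ?_⟩
    change (lg U V).app M ≫ c = b
    apply lb_hom_ext'
    · rw [← Category.assoc, linl_lg]
      apply ((adjLT U).homEquiv M I).injective
      rw [homEquiv_ε_comp, ← mvf_bfst U V I, ← Category.assoc, hc, blift_bfst]
    · rw [← Category.assoc, linr_lg]
      apply ((adjLT V).homEquiv M I).injective
      rw [homEquiv_ε_comp, ← mvf_bsnd U V I, ← Category.assoc, hc, blift_bsnd]
  · intro I hI c hc
    change M ⟶ I at c
    change (lg U V).app M ≫ c = 0 at hc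
    have h₁ : (ε U).app M ≫ c = 0 := by
      rw [← linl_lg U V M, Category.assoc, hc, comp_zero]
    have h₂ : (ε V).app M ≫ c = 0 := by
      rw [← linr_lg U V M, Category.assoc, hc, comp_zero]
    have h₁' := congrArg ((adjLT U).homEquiv M I) h₁
    have h₂' := congrArg ((adjLT V).homEquiv M I) h₂
    rw [homEquiv_ε_comp, Adjunction.homAddEquiv_zero] at h₁' h₂'
    haveI := hmono I
    rw [← cancel_mono ((mvf U V).app I), zero_comp]
    apply b_hom_ext
    · rw [Category.assoc, mvf_bfst, zero_comp, h₁']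
    · rw [Category.assoc, mvf_bsnd, zero_comp, h₂']

end Exact

section Triangle

/-- `j_{W!}(E|_W) ≅ Q(j_{W!} j_W^* K)` for a complex `K` representing `E`. -/
noncomputable def shriekIso (W : X.Opens) [PreservesFiniteLimits (CxOX.extZero W.ι)]
    (K : CochainComplex X.Modules ℤ) {E : DCoh.D X} (e : E ≅ DerivedCategory.Q.obj K) :
    (CxOX.extZeroD W.ι).obj ((DCoh.restrictD W.ι).obj E) ≅
      DerivedCategory.Q.obj (((L W).mapHomologicalComplex (ComplexShape.up ℤ)).obj K) :=
  (CxOX.extZeroD W.ι).mapIso ((DCoh.restrictD W.ι).mapIso e ≪≫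
      (restrictFunctor W.ι).mapDerivedCategoryFactors.app K) ≪≫
    (CxOX.extZero W.ι).mapDerivedCategoryFactors.app _

variable (U V : X.Opens) (hUV : U ⊔ V = ⊤)

include hUV in
/-- Mayer–Vietoris for extension by zero. -/
theorem exists_mv_triangle_extZero
    [PreservesFiniteLimits (CxOX.extZero U.ι)] [PreservesFiniteLimits (CxOX.extZero V.ι)]
    [PreservesFiniteLimits (CxOX.extZero (U ⊓ V).ι)] (E : DCoh.D X) :
    ∃ (a : (CxOX.extZeroD (U ⊓ V).ι).obj ((DCoh.restrictD (U ⊓ V).ι).obj E) ⟶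
        ((CxOX.extZeroD U.ι).obj ((DCoh.restrictD U.ι).obj E) ⊞
          (CxOX.extZeroD V.ι).obj ((DCoh.restrictD V.ι).obj E)))
      (b : ((CxOX.extZeroD U.ι).obj ((DCoh.restrictD U.ι).obj E) ⊞
          (CxOX.extZeroD V.ι).obj ((DCoh.restrictD V.ι).obj E)) ⟶ E)
      (c : E ⟶ ((CxOX.extZeroD (U ⊓ V).ι).obj ((DCoh.restrictD (U ⊓ V).ι).obj E))⟦(1 : ℤ)⟧),
      Triangle.mk a b c ∈ distTriang (DCoh.D X) := by
  let K := DerivedCategory.Q.objPreimage E
  have e : E ≅ DerivedCategory.Q.obj K := (DerivedCategory.Q.objObjPreimageIso E).symm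
  refine exists_triangle (L (U ⊓ V)) (LB U V) (𝟭 X.Modules) (L U) (L V) (lf U V) (lg U V)
    (lfst U V) (lsnd U V) (linl U V) (linr U V) K ?_ ?_ ?_ ?_ ?_ ?_ ?_
    (shriekIso (U ⊓ V) K e) (shriekIso U K e) (shriekIso V K e)
    (e ≪≫ DerivedCategory.Q.mapIso ((Functor.mapHomologicalComplexIdIso X.Modules
      (ComplexShape.up ℤ)).app K).symm)
  · intro M
    exact biprod.inl_fst
  · intro M
    exact biprod.inr_snd
  · intro M
    exact biprod.inl_snd
  · intro M
    exact biprod.inr_fst
  · intro M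
    exact biprod.total
  · intro i
    exact lf_lg U V _
  · intro i
    exact shortExact_shriek U V hUV _

end Triangle

end Groth.Agent.Lib.T2H1.MVShriek
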