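import Mathlib
import Groth.Prelude
import Groth.Agent.Lib.Helper3Branch
import Groth.Agent.Lib.Helper3MinLoc
import Groth.Agent.Lib.Helper3TensorLocal
import Groth.Agent.Lib.Helper4TotalFrac
import Groth.Agent.Lib.Helper5IntDim
import Groth.Agent.Lib.Helper19CohenExistA
import Groth.Agent.Lib.Helper19ComplNoeth
import Groth.Agent.Lib.Helper28FormalFibres
import Groth.Agent.Lib.Helper28ComplCat

/-!
# Counting the maximal ideals of a finite normalization by the minimal primes of the completion
(helper1, team 2)

For a reduced Noetherian local ring `A` of dimension one whose normalization `A'` is finite, the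
maximal ideals of `A'` are in bijection with the minimal primes of the completion of `A`.

Namespace `Groth.Agent.Lib.T2H1.NormCount`.
-/

set_option autoImplicit false
set_option linter.unusedVariables false
set_option linter.unusedSectionVars false
set_option linter.style.haveILetI false
universe u
open IsLocalRing TensorProduct

namespace Groth.Agent.Lib.T2H1.NormCount

section Principal

variable (A : Type u) [CommRing A] [IsNoetherianRing A] [IsReduced A]

/-- the local rings of a Noetherian normalization of a ring of dimension `≤ 1` have principal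
maximal ideal. -/
theorem isPrincipal_maximalIdeal_localization (hdim : ringKrullDim A ≤ 1)
    [IsNoetherianRing (integralClosure A (FractionRing A))]
    (M : Ideal (integralClosure A (FractionRing A))) [M.IsPrime] :
    IsDomain (Localization.AtPrime M) ∧ (maximalIdeal (Localization.AtPrime M)).IsPrincipal := by
  obtain ⟨hD, hIC⟩ :=
    Groth.Agent.Lib.Helper4.TotalFrac.isDomain_isIntegrallyClosed_localization_normalization M
  refine ⟨hD, ?_⟩
  haveI : IsNoetherianRing (Localization.AtPrime M) :=
    IsLocalization.isNoetherianRing M.primeCompl _ inferInstance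
  have hd : ringKrullDim (Localization.AtPrime M) ≤ 1 := by
    rw [IsLocalization.AtPrime.ringKrullDim_eq_height M (Localization.AtPrime M)]
    refine (Ideal.height_le_ringKrullDim_of_ne_top (Ideal.IsPrime.ne_top inferInstance)).trans ?_
    exact (Groth.Agent.Lib.Helper5.ringKrullDim_le_of_isIntegral A _).trans hdim
  haveI hK1 : Ring.KrullDimLE 1 (Localization.AtPrime M) := by
    rw [Ring.KrullDimLE, Order.krullDimLE_iff]
    exact hd
  have h34 : (IsIntegrallyClosed (Localization.AtPrime M) ∧
      ∀ P : Ideal (Localization.AtPrime M), P ≠ ⊥ → P.IsPrime →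
        P = maximalIdeal (Localization.AtPrime M)) ↔
      (maximalIdeal (Localization.AtPrime M)).IsPrincipal :=
    (tfae_of_isNoetherianRing_of_isLocalRing_of_isDomain (Localization.AtPrime M)).out 3 4
  rw [← h34]
  refine ⟨hIC, fun P hP0 hP => ?_⟩
  exact IsLocalRing.eq_maximalIdeal (Ring.krullDimLE_one_iff_of_noZeroDivisors.mp hK1 P hP0 hP)

end Principal

section Flat

variable {B T : Type u} [CommRing B] [CommRing T] [Algebra B T] [Module.Flat B T]
  [IsNoetherianRing T]

/-- Over a local domain with principal maximal ideal, a flat Noetherian local algebra whose maximal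
ideal is generated by that of the base is a domain. -/
theorem isDomain_localization_of_isPrincipal (M : Ideal B) [M.IsPrime] (n : Ideal T) [n.IsPrime]
    [n.LiesOver M] (hn : n = M.map (algebraMap B T)) [IsDomain (Localization.AtPrime M)]
    (hp : (maximalIdeal (Localization.AtPrime M)).IsPrincipal) :
    IsDomain (Localization.AtPrime n) := by
  letI := Localization.AtPrime.algebraOfLiesOver M n
  haveI : Module.Flat (Localization.AtPrime M) (Localization.AtPrime n) := inferInstance
  haveI : IsNoetherianRing (Localization.AtPrime n) :=
    IsLocalization.isNoetherianRing n.primeCompl _ inferInstance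
  obtain ⟨π, hπ⟩ := hp.principal
  have hπ' : maximalIdeal (Localization.AtPrime M) = Ideal.span {π} := hπ
  have hmax : maximalIdeal (Localization.AtPrime n) =
      Ideal.span {algebraMap (Localization.AtPrime M) (Localization.AtPrime n) π} := by
    have h1 : n.map (algebraMap T (Localization.AtPrime n)) =
        (M.map (algebraMap B T)).map (algebraMap T (Localization.AtPrime n)) :=
      congrArg (Ideal.map (algebraMap T (Localization.AtPrime n))) hn
    rw [← IsLocalization.AtPrime.map_eq_maximalIdeal n (Localization.AtPrime n), h1, Ideal.map_map,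
      ← IsScalarTower.algebraMap_eq,
      IsScalarTower.algebraMap_eq B (Localization.AtPrime M) (Localization.AtPrime n),
      ← Ideal.map_map, IsLocalization.AtPrime.map_eq_maximalIdeal M (Localization.AtPrime M), hπ',
      Ideal.map_span, Set.image_singleton]
  by_cases h0 : π = 0
  · have hbot : maximalIdeal (Localization.AtPrime n) = ⊥ := by
      rw [hmax, h0, map_zero]
      exact Ideal.span_singleton_eq_bot.mpr rfl
    exact (IsLocalRing.isField_iff_maximalIdeal_eq.mpr hbot).isDomain
  · have hsep : ∀ x : Localization.AtPrime n,
        (∀ k : ℕ, x ∈ maximalIdeal (Localization.AtPrime n) ^ k) → x = 0 := by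
      intro x hx
      have h1 : x ∈ ⨅ k : ℕ, maximalIdeal (Localization.AtPrime n) ^ k :=
        (Ideal.mem_iInf).mpr hx
      rw [Ideal.iInf_pow_eq_bot_of_isLocalRing _ (Ideal.IsPrime.ne_top inferInstance)] at h1
      exact h1
    have hnil : ∀ k : ℕ,
        (algebraMap (Localization.AtPrime M) (Localization.AtPrime n) π) ^ k ≠ 0 := by
      intro k hk
      have hreg : IsSMulRegular (Localization.AtPrime M) (π ^ k) :=
        (isRegular_of_ne_zero (pow_ne_zero k h0)).isSMulRegular
      have hreg' := IsSMulRegular.of_flat (S := Localization.AtPrime n) hreg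
      rw [map_pow, hk] at hreg'
      have : (1 : Localization.AtPrime n) = 0 := hreg' (by simp)
      exact one_ne_zero this
    exact Groth.Agent.Lib.Helper19.CohenExist.isDomain_of_principal _ hmax hsep hnil

end Flat

section Tensor

open Algebra.TensorProduct Groth.Agent.Lib.Helper3.TensorLocal

variable {A B S : Type*} [CommRing A] [CommRing B] [CommRing S] [Algebra A B] [Algebra A S]
  [IsLocalRing A] [IsLocalRing S] [Algebra.IsIntegral A B]

/-- a maximal ideal of `B ⊗[A] S` is generated by its contraction to `B`, when `m_S = m_A S` and `S`
has the same residue field as `A`. -/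
theorem eq_map_comap_includeLeft
    (hres : ∀ s : S, ∃ a : A, s - algebraMap A S a ∈ maximalIdeal S)
    (hmS : maximalIdeal S = (maximalIdeal A).map (algebraMap A S))
    (n : Ideal (B ⊗[A] S)) [hn : n.IsMaximal] :
    n = (n.comap (algebraMap B (B ⊗[A] S))).map (algebraMap B (B ⊗[A] S)) := by
  have hK : K A B S ≤ n := K_le_of_isMaximal n
  have hK' : K A B S ≤ (n.comap (algebraMap B (B ⊗[A] S))).map (algebraMap B (B ⊗[A] S)) := by
    have h1 : K A B S = ((maximalIdeal A).map (algebraMap A B)).map (algebraMap B (B ⊗[A] S)) := by
      rw [K, hmS, Ideal.map_map, Ideal.map_map]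
      congr 1
      ext a
      simp [Algebra.TensorProduct.algebraMap_apply, Algebra.algebraMap_eq_smul_one,
        TensorProduct.smul_tmul]
    rw [h1]
    apply Ideal.map_mono
    rw [Ideal.map_le_iff_le_comap]
    intro a ha
    rw [Ideal.mem_comap, Ideal.mem_comap]
    apply hK
    rw [h1]
    exact Ideal.mem_map_of_mem _ (Ideal.mem_map_of_mem _ ha)
  apply le_antisymm
  · intro t ht
    obtain ⟨b, hb⟩ := exists_sub_mem_K hres t
    have h1 : b ⊗ₜ[A] (1 : S) ∈ n := by
      have := sub_mem ht (hK hb)
      simpa using this
    have h2 : b ⊗ₜ[A] (1 : S) ∈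
        (n.comap (algebraMap B (B ⊗[A] S))).map (algebraMap B (B ⊗[A] S)) :=
      Ideal.mem_map_of_mem _ (show b ∈ n.comap (algebraMap B (B ⊗[A] S)) from h1)
    have := add_mem (hK' hb) h2
    simpa using this
  · exact Ideal.map_comap_le

end Tensor

section Main

open Algebra.TensorProduct Groth.Agent.Lib.Helper3

variable (A : Type u) [CommRing A] [IsNoetherianRing A] [IsLocalRing A] [IsReduced A]

/-- minimal primes of `A' ⊗ Â` correspond to those of `Â`. -/
theorem bijOn_minimalPrimes_tensor (S : Type u) [CommRing S] [Algebra A S] [Module.Flat A S] :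
    Set.BijOn (Ideal.comap (includeRight : S →ₐ[A] (integralClosure A (FractionRing A)) ⊗[A] S).toRingHom)
      (minimalPrimes ((integralClosure A (FractionRing A)) ⊗[A] S)) (minimalPrimes S) := by
  letI : Algebra S ((FractionRing A) ⊗[A] S) := Algebra.TensorProduct.rightAlgebra
  haveI : IsLocalization (Algebra.algebraMapSubmonoid S (nonZeroDivisors A))
      ((FractionRing A) ⊗[A] S) := IsLocalization.tensorRight (FractionRing A) (nonZeroDivisors A)
  let j : (integralClosure A (FractionRing A)) ⊗[A] S →ₐ[A] (FractionRing A) ⊗[A] S :=
    Algebra.TensorProduct.map (integralClosure A (FractionRing A)).val (AlgHom.id A S)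
  have hj : Function.Injective j := by
    have h : Function.Injective (integralClosure A (FractionRing A)).val.toLinearMap :=
      Subtype.val_injective
    exact Module.Flat.rTensor_preserves_injective_linearMap (M := S) _ h
  refine MinLoc.bijOn_of_localization (R₁ := S)
    (T := (integralClosure A (FractionRing A)) ⊗[A] S) (L := (FractionRing A) ⊗[A] S)
    (includeRight : S →ₐ[A] (integralClosure A (FractionRing A)) ⊗[A] S).toRingHom j.toRingHom
    (show Function.Injective j.toRingHom from hj)
    (Algebra.algebraMapSubmonoid S (nonZeroDivisors A)) ?_ ?_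
  · ext s
    simp [j, RingHom.algebraMap_toAlgebra]
  · exact Algebra.TensorProduct.includeRight_injective (IsFractionRing.injective A (FractionRing A))

/-- **Main theorem**: for a reduced Noetherian local ring of dimension `≤ 1` with finite
normalization `A'`, maximal ideals of `A'` correspond to minimal primes of the completion. -/
theorem nonempty_equiv (hdim : ringKrullDim A ≤ 1)
    (hfin : Module.Finite A (integralClosure A (FractionRing A))) :
    Nonempty (minimalPrimes (AdicCompletion (maximalIdeal A) A) ≃
      MaximalSpectrum (integralClosure A (FractionRing A))) := by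
  haveI : Module.FaithfullyFlat A (AdicCompletion (maximalIdeal A) A) :=
    Groth.Agent.Lib.Helper28.faithfullyFlat_adicCompletion A
  haveI : IsNoetherianRing (AdicCompletion (maximalIdeal A) A) :=
    Groth.Agent.Lib.Helper19.isNoetherianRing_adicCompletion _
  haveI := Groth.Agent.Lib.Helper28.isAdicComplete_maximalIdeal_adicCompletion A
  haveI : HenselianLocalRing (AdicCompletion (maximalIdeal A) A) :=
    Branch.henselianLocalRing_of_isAdicComplete _
  haveI : IsNoetherianRing (integralClosure A (FractionRing A)) :=
    Algebra.FiniteType.isNoetherianRing A _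
  haveI : Algebra.IsIntegral A (integralClosure A (FractionRing A)) := inferInstance
  have hres : ∀ s : AdicCompletion (maximalIdeal A) A,
      ∃ a : A, s - algebraMap A _ a ∈ maximalIdeal (AdicCompletion (maximalIdeal A) A) := by
    intro x
    obtain ⟨y, hy⟩ := (AdicCompletion.residueField_map_bijective A).2 (residue _ x)
    obtain ⟨a, rfl⟩ := residue_surjective y
    refine ⟨a, ?_⟩
    rw [← residue_eq_zero_iff, map_sub, sub_eq_zero, ← hy]
    rfl
  -- Noetherianity of the tensor product
  haveI : IsNoetherianRing
      ((integralClosure A (FractionRing A)) ⊗[A] (AdicCompletion (maximalIdeal A) A)) := by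
    haveI : IsNoetherianRing
        ((AdicCompletion (maximalIdeal A) A) ⊗[A] (integralClosure A (FractionRing A))) :=
      Algebra.FiniteType.isNoetherianRing (AdicCompletion (maximalIdeal A) A) _
    exact isNoetherianRing_of_ringEquiv _
      (Algebra.TensorProduct.comm A (AdicCompletion (maximalIdeal A) A)
        (integralClosure A (FractionRing A))).toRingEquiv
  -- step 1
  have e1 := (Set.BijOn.equiv _ (bijOn_minimalPrimes_tensor A (AdicCompletion (maximalIdeal A) A)))
  -- step 2
  have h1 : ∀ q ∈ minimalPrimes
      ((integralClosure A (FractionRing A)) ⊗[A] (AdicCompletion (maximalIdeal A) A)),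
      ∃! m : Ideal ((integralClosure A (FractionRing A)) ⊗[A] (AdicCompletion (maximalIdeal A) A)),
        m.IsMaximal ∧ q ≤ m := by
    intro q hq
    haveI : q.IsPrime := hq.1.1
    exact Branch.existsUnique_maximal_ge _ TensorLocal.includeRight_isIntegral q
  have h2 : ∀ m : Ideal
      ((integralClosure A (FractionRing A)) ⊗[A] (AdicCompletion (maximalIdeal A) A)),
      m.IsMaximal → ∃! q : Ideal
        ((integralClosure A (FractionRing A)) ⊗[A] (AdicCompletion (maximalIdeal A) A)),
        q ∈ minimalPrimes
          ((integralClosure A (FractionRing A)) ⊗[A] (AdicCompletion (maximalIdeal A) A)) ∧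
          q ≤ m := by
    intro m hm
    haveI : m.IsPrime := hm.isPrime
    have hmeq := eq_map_comap_includeLeft (A := A) (B := integralClosure A (FractionRing A))
      hres (AdicCompletion.maximalIdeal_eq_map (R := A)) m
    haveI : (m.comap (algebraMap (integralClosure A (FractionRing A))
        ((integralClosure A (FractionRing A)) ⊗[A] (AdicCompletion (maximalIdeal A) A)))).IsPrime :=
      Ideal.comap_isPrime _ _
    haveI : m.LiesOver (m.comap (algebraMap (integralClosure A (FractionRing A))
        ((integralClosure A (FractionRing A)) ⊗[A] (AdicCompletion (maximalIdeal A) A)))) := ⟨rfl⟩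
    obtain ⟨hD, hP⟩ := isPrincipal_maximalIdeal_localization A hdim
      (m.comap (algebraMap (integralClosure A (FractionRing A))
        ((integralClosure A (FractionRing A)) ⊗[A] (AdicCompletion (maximalIdeal A) A))))
    haveI := hD
    have hdom := isDomain_localization_of_isPrincipal
      (B := integralClosure A (FractionRing A))
      (T := (integralClosure A (FractionRing A)) ⊗[A] (AdicCompletion (maximalIdeal A) A))
      (m.comap (algebraMap (integralClosure A (FractionRing A))
        ((integralClosure A (FractionRing A)) ⊗[A] (AdicCompletion (maximalIdeal A) A)))) m hmeq hP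
    have hL : @Branch.LDP
        ((integralClosure A (FractionRing A)) ⊗[A] (AdicCompletion (maximalIdeal A) A)) _ m :=
      Branch.ldp_of_isDomain_localization
        (E := (integralClosure A (FractionRing A)) ⊗[A] (AdicCompletion (maximalIdeal A) A)) m hdom
    exact @Branch.existsUnique_minimalPrimes_le_of_ldp
      ((integralClosure A (FractionRing A)) ⊗[A] (AdicCompletion (maximalIdeal A) A)) _ m _ hL
  obtain ⟨e2⟩ := Branch.nonempty_equiv_minimalPrimes_maximalSpectrum
    (T := (integralClosure A (FractionRing A)) ⊗[A] (AdicCompletion (maximalIdeal A) A)) h1 h2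
  obtain ⟨e3⟩ := Branch.nonempty_equiv_maximalSpectrum_tensor (A := A)
    (B := integralClosure A (FractionRing A)) (S := AdicCompletion (maximalIdeal A) A) hres
  exact ⟨(e1.symm.trans e2).trans e3⟩

end Main

end Groth.Agent.Lib.T2H1.NormCount
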