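import Groth.Agent.Lib.T2H1NormFibD
import Groth.Agent.Lib.Helper28GeomFibre4
import Groth.Agent.Lib.Helper28FormalFibres
import Groth.Agent.Lib.Helper28CMFib5

/-!
# EGA IV 7.5.x for the property "normal", non-complete version (helper1, T2H1)

`A → B` flat local homomorphism of Noetherian local rings, residually finite, `A` with
geometrically normal formal fibres, closed fibre of `A → B̂` geometrically normal: then `A → B` is a
normal homomorphism.
-/

set_option autoImplicit false
set_option linter.unusedSectionVars false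
set_option linter.style.haveILetI false
universe u

namespace Groth.Agent.Lib.T2H1.NormFibE

open Groth.Agent.Lib.Helper28 Groth.Agent.Lib.Helper28.CMFib Groth.Agent.Lib.Helper28.GeomRed
open Groth.Agent.Lib.T2H1.NormFibC Groth.Agent.Lib.T2H1.NormFibD IsLocalRing TensorProduct

section Cpl

variable (A : Type u) [CommRing A] [IsNoetherianRing A] [IsLocalRing A]

/-- the closed fibre hypothesis for `Â → B'` from that of `A → B'`. -/
theorem isNormalRing_tensor_cpl_of_closedFibre (B' : Type u) [CommRing B'] [Algebra A B']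
    [Algebra (EGA4.Cpl A) B'] [IsScalarTower A (EGA4.Cpl A) B']
    (h : EGA4.IsGeomNormal (maximalIdeal A).ResidueField ((maximalIdeal A).Fiber B'))
    (F : Type u) [Field F] [Algebra (EGA4.Cpl A) F] [Module.Finite (EGA4.Cpl A) F] :
    EGA4.IsNormalRing (F ⊗[EGA4.Cpl A] B') := by
  letI : Algebra A F := ((algebraMap (EGA4.Cpl A) F).comp (algebraMap A (EGA4.Cpl A))).toAlgebra
  haveI : IsScalarTower A (EGA4.Cpl A) F := IsScalarTower.of_algebraMap_eq' rfl
  haveI : Algebra.IsIntegral (EGA4.Cpl A) F := Algebra.IsIntegral.of_finite _ F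
  have hmax : (RingHom.ker (algebraMap (EGA4.Cpl A) F)).IsMaximal :=
    Ideal.isMaximal_comap_of_isIntegral_of_isMaximal (R := EGA4.Cpl A) (⊥ : Ideal F)
  have hF : (maximalIdeal A).map (algebraMap A (EGA4.Cpl A)) ≤
      RingHom.ker (algebraMap (EGA4.Cpl A) F) :=
    map_le_of_isMaximal_adicCompletion (maximalIdeal A) _
  have hdense := exists_sub_mem_map_adicCompletion (A := A) (maximalIdeal A)
  haveI : Module.Finite A F := finite_of_dense (maximalIdeal A) hdense F hF
  have h1 : EGA4.IsNormalRing (F ⊗[A] B') := isNormalRing_tensor_of_closedFibre A B' h F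
  haveI : TensorProduct.CompatibleSMul A (EGA4.Cpl A) F B' :=
    compatibleSMul_of_dense (maximalIdeal A) hdense F hF B'
  let e : F ⊗[EGA4.Cpl A] B' ≃ₐ[F] F ⊗[A] B' :=
    Algebra.TensorProduct.equivOfCompatibleSMul A (EGA4.Cpl A) F F B'
  exact Groth.Agent.Lib.Helper6.SepNorm.isNormalRing_of_ringEquiv e.symm.toRingEquiv h1

end Cpl

section Final

variable (A B : Type u) [CommRing A] [CommRing B]
    [IsNoetherianRing A] [IsNoetherianRing B] [IsLocalRing A] [IsLocalRing B] [Algebra A B]
    [IsLocalHom (algebraMap A B)] [Module.Flat A B]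

theorem isGeomNormal_fiber_of_cpl_closedFibre (hres : ResFin A B)
    (hA : EGA4.HasGeomNormalFormalFibres A)
    (h : EGA4.IsGeomNormal (IsLocalRing.maximalIdeal A).ResidueField
      ((IsLocalRing.maximalIdeal A).Fiber (EGA4.Cpl B)))
    (p : Ideal A) [p.IsPrime] : EGA4.IsGeomNormal p.ResidueField (p.Fiber B) := by
  obtain ⟨alg, htower, hloc, hflat⟩ := exists_algebra_adicCompletion_of_isLocalHom A B
  haveI hfl : Module.Flat (EGA4.Cpl A) (EGA4.Cpl B) := hflat inferInstance
  haveI := isAdicComplete_maximalIdeal_adicCompletion A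
  haveI hcB := isAdicComplete_maximalIdeal_adicCompletion B
  haveI : HenselianLocalRing (EGA4.Cpl B) := henselianLocalRing_of_isAdicComplete (EGA4.Cpl B)
  have hres' : ResFin (EGA4.Cpl A) (EGA4.Cpl B) := resFin_cpl A B hres
  have hfib : ∀ (P : Ideal (EGA4.Cpl A)) [P.IsPrime],
      EGA4.IsGeomNormal P.ResidueField (P.Fiber (EGA4.Cpl B)) := fun P _ =>
    isGeomNormal_fiber (EGA4.Cpl A) (EGA4.Cpl B) hres'
      (fun F _ _ _ => isNormalRing_tensor_cpl_of_closedFibre A (EGA4.Cpl B) h F) P
  intro k' _ _ hfin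
  have hN1 : IsNoetherianRing (p.Fiber B) := isNoetherianRing_fiber p
  have hN2 : IsNoetherianRing (p.Fiber (EGA4.Cpl B)) := isNoetherianRing_fiber p
  have hN3 : IsNoetherianRing (p.Fiber (EGA4.Cpl A)) := isNoetherianRing_fiber p
  have h0 : EGA4.IsNormalRing (k' ⊗[p.ResidueField] (p.Fiber (EGA4.Cpl A))) := hA p k' hfin
  have h1 : EGA4.IsNormalRing (k' ⊗[p.ResidueField] (p.Fiber (EGA4.Cpl B))) :=
    tensor_fiber_comp_of_property A (EGA4.Cpl A) (EGA4.Cpl B) p k'
      (fun T _ => EGA4.IsNormalRing T)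
      (fun R S _ _ e hR => Groth.Agent.Lib.Helper6.SepNorm.isNormalRing_of_ringEquiv e hR)
      (fun R' _ _ _ _ _ hR' =>
        isNormalRing_tensorProduct_of_quasiFinite_of_isGeomNormal hfib hR') h0
  haveI : Module.FaithfullyFlat B (EGA4.Cpl B) := faithfullyFlat_adicCompletion B
  exact tensor_fiber_descent_of_property A B (EGA4.Cpl B) p k' (fun T _ => EGA4.IsNormalRing T)
    (fun R S _ _ e hR => Groth.Agent.Lib.Helper6.SepNorm.isNormalRing_of_ringEquiv e hR)
    (fun R' T _ _ _ _ _ _ hT => isNormalRing_of_faithfullyFlat (A := R') (B := T) hT) h1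

/-- **EGA IV 7.5.x (normal)**: non-complete version. -/
theorem isNormalHom_of_cpl_closedFibre
    [Module.Finite (IsLocalRing.ResidueField A) (IsLocalRing.ResidueField B)]
    (hA : EGA4.HasGeomNormalFormalFibres A)
    (h : EGA4.IsGeomNormal (IsLocalRing.maximalIdeal A).ResidueField
      ((IsLocalRing.maximalIdeal A).Fiber (EGA4.Cpl B))) :
    EGA4.IsNormalHom A B :=
  ⟨inferInstance, fun p _ =>
    isGeomNormal_fiber_of_cpl_closedFibre A B (resFin_of_finite_residueField A B) hA h p⟩

end Final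

end Groth.Agent.Lib.T2H1.NormFibE
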