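import Mathlib
import Groth.Prelude.Def_EssEt
import Groth.Prelude.Def_Hensel
import Groth.Agent.Lib.Helper3EssEt
import Groth.Agent.Lib.Helper3EtNormal
import Groth.Agent.Lib.Helper3HzNormal
import Groth.Agent.Lib.T2H1EssEtFrac
import Groth.Agent.Lib.T2H1ShInj
import Groth.Agent.Lib.T2H1EssEtInter

/-!
# Normal local rings between a normal local ring and its strict henselization
(helper1, team 2)

* `isEssentiallyEtale_of_unramified`: a local algebra essentially of finite type, formally unramified
  and injective over a normal local domain is essentially étale.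
* `isEssentiallyEtale_of_normal`: a normal local domain `D` with an injective local `A`-map into an
  essentially étale local `A`-algebra (`A` Noetherian normal) is essentially étale over `A`.
-/

set_option autoImplicit false
universe u
open IsLocalRing

namespace Groth.Agent.Lib.T2H1.NormalInter

open Groth.Agent.Lib.T2H1

section LemmaU

variable (R T : Type u) [CommRing R] [IsLocalRing R] [IsDomain R] [IsIntegrallyClosed R]
  [CommRing T] [IsLocalRing T] [Algebra R T] [IsLocalHom (algebraMap R T)]
  [Algebra.EssFiniteType R T] [Algebra.FormallyUnramified R T]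

/-- A local algebra, essentially of finite type and formally unramified over a normal local domain
`R`, into which `R` injects, is essentially étale. -/
theorem isEssentiallyEtale_of_unramified (hinj : Function.Injective (algebraMap R T)) :
    EGA4loc.IsEssentiallyEtale R T := by
  obtain ⟨C, _, _, q, _, hEt, hq, g, hgs, hgl⟩ := ShInj.exists_essEtale_surjection R T
  haveI := hEt
  obtain ⟨hdom, -⟩ :=
    Groth.Agent.Lib.Helper3.EtNormal.isDomain_and_isIntegrallyClosed_localization R C q
  have hE' : EGA4loc.IsEssentiallyEtale R (Localization.AtPrime q) :=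
    ⟨C, _, _, q, _, hEt, hq, ⟨AlgEquiv.refl⟩⟩
  haveI := EssEtFrac.flat R _ hE'
  haveI := EssEtFrac.quasiFinite R _ hE'
  have hmin : (minimalPrimes R).Finite := by
    rw [IsDomain.minimalPrimes_eq_singleton_bot]
    exact Set.finite_singleton _
  have hginj : Function.Injective g := by
    rw [injective_iff_map_eq_zero]
    intro x hx
    by_contra hne
    have hxn : x ∈ nonZeroDivisors (Localization.AtPrime q) := mem_nonZeroDivisors_of_ne_zero hne
    obtain ⟨m, ⟨a, ha, rfl⟩, y, hy⟩ := EssEtFrac.exists_dvd hmin x hxn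
    have h0 : g (algebraMap R _ a) = 0 := by rw [hy, map_mul, hx, zero_mul]
    rw [AlgHom.commutes] at h0
    have : a = 0 := hinj (h0.trans (map_zero _).symm)
    exact nonZeroDivisors.ne_zero ha this
  exact ⟨C, _, _, q, _, hEt, hq, ⟨(AlgEquiv.ofBijective g ⟨hginj, hgs⟩).symm⟩⟩

end LemmaU

section Core

open Groth.Agent.Lib.Helper3

variable (A : Type u) [CommRing A] [IsLocalRing A] [IsDomain A] [IsIntegrallyClosed A]
  (E : Type u) [CommRing E] [IsLocalRing E] [Algebra A E] [IsLocalHom (algebraMap A E)]
  (hE : EGA4loc.IsEssentiallyEtale A E)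

include hE

theorem isDomain_of_isEssentiallyEtale : IsDomain E := by
  obtain ⟨C, _, _, q, _, hEt, hq, ⟨e⟩⟩ := hE
  haveI := hEt
  obtain ⟨hdom, -⟩ := EtNormal.isDomain_and_isIntegrallyClosed_localization A C q
  exact e.toMulEquiv.isDomain (Localization.AtPrime q)

theorem algebraMap_injective_of_isEssentiallyEtale : Function.Injective (algebraMap A E) := by
  haveI := EssEtFrac.flat A E hE
  haveI : Module.FaithfullyFlat A E := Module.FaithfullyFlat.of_flat_of_isLocalHom
  exact FaithfulSMul.algebraMap_injective A E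

theorem minimalPrimes_finite : (minimalPrimes A).Finite := by
  rw [IsDomain.minimalPrimes_eq_singleton_bot]
  exact Set.finite_singleton _

attribute [local instance] EssEtFrac.fracAlgebra

/-- the fraction field of an essentially étale local algebra over a normal local domain is finite
separable over the fraction field of the base. -/
theorem isSeparable_frac [IsDomain E] [Module.Flat A E] :
    Algebra.IsSeparable (FractionRing A) (FractionRing E) := by
  haveI := EssEtFrac.isScalarTower_frac A E
  haveI := EssEt.essFiniteType_of_isEssentiallyEtale A E hE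
  haveI := EssEt.formallyEtale_of_isEssentiallyEtale A E hE
  haveI : Algebra.EssFiniteType E (FractionRing E) :=
    Algebra.EssFiniteType.of_isLocalization _ (nonZeroDivisors E)
  haveI : Algebra.EssFiniteType A (FractionRing E) := Algebra.EssFiniteType.comp A E _
  haveI : Algebra.EssFiniteType (FractionRing A) (FractionRing E) :=
    Algebra.EssFiniteType.of_comp A _ _
  haveI : Algebra.FormallyUnramified E (FractionRing E) :=
    Algebra.FormallyUnramified.of_isLocalization (nonZeroDivisors E)
  haveI : Algebra.FormallyUnramified A (FractionRing E) := Algebra.FormallyUnramified.comp A E _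
  haveI : Algebra.FormallyUnramified (FractionRing A) (FractionRing E) :=
    Algebra.FormallyUnramified.of_restrictScalars A _ _
  exact Algebra.FormallyUnramified.isSeparable _ _

section Fin

variable [IsNoetherianRing A]
  (D : Type u) [CommRing D] [Algebra A D] (ι : D →ₐ[A] E) (hι : Function.Injective ι)

include hι

theorem isAlgebraic_of_injective : Algebra.IsAlgebraic A D := by
  haveI := isDomain_of_isEssentiallyEtale A E hE
  haveI := EssEtFrac.flat A E hE
  haveI := EssEtFrac.quasiFinite A E hE
  haveI := EssEtFrac.isScalarTower_frac A E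
  haveI := EssEtFrac.finite_frac A E (minimalPrimes_finite A E hE)
  haveI : Algebra.IsAlgebraic (FractionRing A) (FractionRing E) := Algebra.IsAlgebraic.of_finite _ _
  haveI := IsLocalization.isAlgebraic (FractionRing A) (nonZeroDivisors A)
  haveI : Algebra.IsAlgebraic A (FractionRing E) :=
    Algebra.IsAlgebraic.trans A (FractionRing A) (FractionRing E)
  constructor
  intro x
  have h1 : IsAlgebraic A (algebraMap E (FractionRing E) (ι x)) := Algebra.IsAlgebraic.isAlgebraic _
  rw [isAlgebraic_algebraMap_iff (IsFractionRing.injective E (FractionRing E))] at h1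
  exact (isAlgebraic_algHom_iff ι hι).mp h1

theorem finite_integralClosure : Module.Finite A (integralClosure A D) := by
  haveI := isDomain_of_isEssentiallyEtale A E hE
  haveI := EssEtFrac.flat A E hE
  haveI := EssEtFrac.quasiFinite A E hE
  haveI := EssEtFrac.isScalarTower_frac A E
  haveI := EssEtFrac.finite_frac A E (minimalPrimes_finite A E hE)
  haveI := isSeparable_frac A E hE
  haveI : IsNoetherian A (integralClosure A (FractionRing E)) :=
    IsIntegralClosure.isNoetherian A (FractionRing A) (FractionRing E) _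
  let f : integralClosure A D →ₐ[A] integralClosure A (FractionRing E) :=
    ((IsScalarTower.toAlgHom A E (FractionRing E)).comp ι).mapIntegralClosure
  have hf : Function.Injective f := by
    intro x y hxy
    have h1 : algebraMap E (FractionRing E) (ι (x : D)) = algebraMap E (FractionRing E) (ι (y : D)) :=
      congrArg Subtype.val hxy
    exact Subtype.ext (hι (IsFractionRing.injective E (FractionRing E) h1))
  exact Module.Finite.of_injective f.toLinearMap hf

end Fin

section IC

omit hE in
/-- The integral closure of `A` in an integrally closed domain is integrally closed. -/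
theorem isIntegrallyClosed_integralClosure (A D : Type*) [CommRing A] [CommRing D] [IsDomain D]
    [IsIntegrallyClosed D] [Algebra A D] : IsIntegrallyClosed (integralClosure A D) := by
  rw [Groth.Agent.Lib.Helper3.HzNormal.isIntegrallyClosed_iff_nc]
  intro a b p hp hb hab
  have hD := (Groth.Agent.Lib.Helper3.HzNormal.isIntegrallyClosed_iff_nc D).mp inferInstance
  let f : integralClosure A D →+* D := algebraMap (integralClosure A D) D
  have hf : Function.Injective f := Subtype.val_injective
  have hb' : f b ≠ 0 := fun h => hb (hf (h.trans (map_zero f).symm))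
  have hlead : f p.leadingCoeff ≠ 0 := by rw [hp.leadingCoeff, map_one]; exact one_ne_zero
  have hab' : ((p.map f).scaleRoots (f b)).eval (f a) = 0 := by
    rw [← Polynomial.map_scaleRoots p b f hlead, Polynomial.eval_map, Polynomial.eval₂_at_apply, hab,
      map_zero]
  obtain ⟨c, hc⟩ := hD (f a) (f b) (p.map f) (hp.map f) hb' hab'
  -- `c` is a root of `p`
  have hroot : Polynomial.eval₂ f c p = 0 := by
    have h1 := Polynomial.scaleRoots_eval₂_mul (p := p) f c b
    rw [← hc, ← Polynomial.eval_map, Polynomial.map_scaleRoots p b f hlead, hab'] at h1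
    exact (mul_eq_zero.mp h1.symm).resolve_left (pow_ne_zero _ hb')
  have hcB : IsIntegral (integralClosure A D) c := ⟨p, hp, hroot⟩
  haveI : Algebra.IsIntegral A (integralClosure A D) := integralClosure.AlgebraIsIntegral
  have hcA : IsIntegral A c := isIntegral_trans c hcB
  refine ⟨⟨c, hcA⟩, ?_⟩
  apply hf
  rw [map_mul]
  exact hc

end IC

section Main

variable [IsNoetherianRing A]
  (D : Type u) [CommRing D] [IsLocalRing D] [IsDomain D] [IsIntegrallyClosed D] [Algebra A D]
  (ι : D →ₐ[A] E) (hι : Function.Injective ι) [hιl : IsLocalHom ι.toRingHom]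

include hι hιl

set_option maxHeartbeats 1600000 in
/-- A normal local domain `D` with an injective local `A`-algebra map into an essentially étale
local `A`-algebra `E` (`A` a Noetherian normal local domain) is essentially étale over `A`. -/
theorem isEssentiallyEtale_of_normal : EGA4loc.IsEssentiallyEtale A D := by
  classical
  haveI hdomE := isDomain_of_isEssentiallyEtale A E hE
  haveI := EssEtFrac.flat A E hE
  haveI hEft := EssEt.essFiniteType_of_isEssentiallyEtale A E hE
  haveI hEfe := EssEt.formallyEtale_of_isEssentiallyEtale A E hE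
  have hAE := algebraMap_injective_of_isEssentiallyEtale A E hE
  have hAD : Function.Injective (algebraMap A D) := by
    intro a b hab
    apply hAE
    rw [← ι.commutes a, ← ι.commutes b, hab]
  haveI hlocAD : IsLocalHom (algebraMap A D) := by
    constructor
    intro a ha
    have h1 : IsUnit (ι (algebraMap A D a)) := ha.map ι
    rw [ι.commutes] at h1
    exact isUnit_of_map_unit (algebraMap A E) a h1
  haveI halg := isAlgebraic_of_injective A E hE D ι hι
  -- the integral closure `B` of `A` in `D`
  let B : Subalgebra A D := integralClosure A D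
  haveI hBfin : Module.Finite A B := finite_integralClosure A E hE D ι hι
  haveI : IsIntegrallyClosed B := isIntegrallyClosed_integralClosure A D
  let n : Ideal B := (maximalIdeal D).comap (algebraMap B D)
  haveI : n.IsPrime := Ideal.comap_isPrime _ _
  let C₁ := Localization.AtPrime n
  haveI : IsDomain C₁ := IsLocalization.isDomain_of_atPrime C₁ n
  haveI : IsIntegrallyClosed C₁ :=
    isIntegrallyClosed_of_isLocalization C₁ n.primeCompl n.primeCompl_le_nonZeroDivisors
  haveI : Algebra.EssFiniteType B C₁ := Algebra.EssFiniteType.of_isLocalization _ n.primeCompl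
  haveI : Algebra.EssFiniteType A C₁ := Algebra.EssFiniteType.comp A B C₁
  -- the map `C₁ → D`
  have hunits : ∀ y : n.primeCompl, IsUnit ((IsScalarTower.toAlgHom A B D) y) := by
    intro y
    have : (algebraMap B D y) ∉ maximalIdeal D := y.2
    exact (IsLocalRing.notMem_maximalIdeal.mp this)
  let φ : C₁ →ₐ[A] D := IsLocalization.liftAlgHom (M := n.primeCompl) (S := C₁)
    (f := IsScalarTower.toAlgHom A B D) hunits
  have hφB : ∀ b : B, φ (algebraMap B C₁ b) = (b : D) := fun b => by
    change IsLocalization.lift (M := n.primeCompl) (S := C₁) hunits (algebraMap B C₁ b) = _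
    rw [IsLocalization.lift_eq]
    rfl
  have hφinj : Function.Injective φ := by
    rw [injective_iff_map_eq_zero]
    intro x hx
    obtain ⟨b, s, rfl⟩ := IsLocalization.exists_mk'_eq n.primeCompl x
    have h1 : φ (IsLocalization.mk' C₁ b s * algebraMap B C₁ s) = 0 := by
      rw [map_mul, hx, zero_mul]
    rw [IsLocalization.mk'_spec, hφB] at h1
    have hb0 : b = 0 := Subtype.ext h1
    rw [hb0, IsLocalization.mk'_zero]
  haveI hφloc : IsLocalHom φ.toRingHom := by
    constructor
    intro x hx
    obtain ⟨b, s, rfl⟩ := IsLocalization.exists_mk'_eq n.primeCompl x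
    have h1 : IsUnit (φ (IsLocalization.mk' C₁ b s) * φ (algebraMap B C₁ s)) :=
      IsUnit.mul hx (by rw [hφB]; exact hunits s)
    rw [← map_mul, IsLocalization.mk'_spec, hφB] at h1
    have hbn : b ∈ n.primeCompl := by
      intro hmem
      exact (IsLocalRing.mem_maximalIdeal _).mp hmem h1
    have h2 : IsUnit (algebraMap B C₁ b) := IsLocalization.map_units C₁ ⟨b, hbn⟩
    have h3 : IsLocalization.mk' C₁ b s * algebraMap B C₁ s = algebraMap B C₁ b :=
      IsLocalization.mk'_spec _ b s
    exact isUnit_of_mul_isUnit_left (h3 ▸ h2)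
  -- `E` as a `C₁`-algebra
  letI algC₁E : Algebra C₁ E := (ι.toRingHom.comp φ.toRingHom).toAlgebra
  have halgC₁E : ∀ c : C₁, algebraMap C₁ E c = ι (φ c) := fun _ => rfl
  haveI : IsScalarTower A C₁ E := IsScalarTower.of_algebraMap_eq (fun a => by
    rw [halgC₁E, φ.commutes, ι.commutes])
  haveI hlocC₁E : IsLocalHom (algebraMap C₁ E) := by
    constructor
    intro c hc
    rw [halgC₁E] at hc
    have h1 : IsUnit (φ c) := hιl.map_nonunit _ hc
    exact hφloc.map_nonunit _ h1
  haveI : Algebra.EssFiniteType C₁ E := Algebra.EssFiniteType.of_comp A C₁ E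
  haveI : Algebra.FormallyUnramified C₁ E := Algebra.FormallyUnramified.of_restrictScalars A C₁ E
  have hC₁E : Function.Injective (algebraMap C₁ E) := fun x y hxy => hφinj (hι hxy)
  have hE₁ : EGA4loc.IsEssentiallyEtale C₁ E := isEssentiallyEtale_of_unramified C₁ E hC₁E
  haveI := EssEtFrac.flat C₁ E hE₁
  haveI : Module.FaithfullyFlat C₁ E := Module.FaithfullyFlat.of_flat_of_isLocalHom
  -- `φ` is surjective
  have hφsurj : Function.Surjective φ := by
    intro x
    obtain ⟨a, ha0, hax⟩ := (halg.isAlgebraic x).exists_integral_multiple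
    let β : B := ⟨a • x, hax⟩
    have hmem : algebraMap B C₁ β ∈ Ideal.span {algebraMap A C₁ a} := by
      rw [← Ideal.comap_map_eq_self_of_faithfullyFlat (B := E) (Ideal.span {algebraMap A C₁ a}),
        Ideal.mem_comap, Ideal.map_span, Set.image_singleton, Ideal.mem_span_singleton]
      refine ⟨ι x, ?_⟩
      rw [halgC₁E, hφB, halgC₁E, φ.commutes, ι.commutes]
      change ι (a • x) = _
      rw [map_smul, Algebra.smul_def]
    obtain ⟨c, hc⟩ := Ideal.mem_span_singleton.mp hmem
    refine ⟨c, ?_⟩
    have h1 : φ (algebraMap B C₁ β) = φ (algebraMap A C₁ a * c) := by rw [hc]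
    rw [hφB, map_mul, φ.commutes] at h1
    change a • x = _ at h1
    rw [Algebra.smul_def] at h1
    have ha' : algebraMap A D a ≠ 0 := fun h => ha0 (hAD (h.trans (map_zero _).symm))
    exact (mul_left_cancel₀ ha' h1).symm
  haveI : Algebra.EssFiniteType A D := Algebra.EssFiniteType.of_surjective φ hφsurj
  -- `m_A C₁ = m_{C₁}`
  have hmC₁ : (maximalIdeal A).map (algebraMap A C₁) = maximalIdeal C₁ := by
    have h1 : ((maximalIdeal A).map (algebraMap A C₁)).map (algebraMap C₁ E) = maximalIdeal E := by
      rw [Ideal.map_map, ← IsScalarTower.algebraMap_eq]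
      exact EssEt.map_maximalIdeal A E hE
    have h2 := Ideal.comap_map_eq_self_of_faithfullyFlat (B := E)
      ((maximalIdeal A).map (algebraMap A C₁))
    rw [h1] at h2
    rw [← h2]
    exact ((IsLocalRing.local_hom_TFAE (algebraMap C₁ E)).out 0 4).mp hlocC₁E
  have hm : (maximalIdeal A).map (algebraMap A D) = maximalIdeal D := by
    apply le_antisymm
    · exact ((IsLocalRing.local_hom_TFAE (algebraMap A D)).out 0 2).mp hlocAD
    · intro x hx
      obtain ⟨c, rfl⟩ := hφsurj x
      have hc : c ∈ maximalIdeal C₁ := by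
        rw [IsLocalRing.mem_maximalIdeal, mem_nonunits_iff]
        intro hcu
        exact (IsLocalRing.mem_maximalIdeal _).mp hx (hcu.map φ)
      rw [← hmC₁] at hc
      have h3 : φ c ∈ ((maximalIdeal A).map (algebraMap A C₁)).map φ.toRingHom :=
        Ideal.mem_map_of_mem _ hc
      rw [Ideal.map_map] at h3
      have h4 : φ.toRingHom.comp (algebraMap A C₁) = algebraMap A D := by
        ext a
        exact φ.commutes a
      rw [h4] at h3
      exact h3
  -- separability of the residue field extension
  letI algDE : Algebra D E := ι.toRingHom.toAlgebra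
  haveI : IsScalarTower A D E := IsScalarTower.of_algebraMap_eq (fun a => (ι.commutes a).symm)
  haveI : IsLocalHom (algebraMap D E) := hιl
  haveI : Algebra.IsSeparable (ResidueField A) (ResidueField D) :=
    Algebra.isSeparable_tower_bot_of_isSeparable (ResidueField A) (ResidueField D)
      (ResidueField E)
  haveI : Algebra.FormallyUnramified A D := Algebra.FormallyUnramified.of_map_maximalIdeal hm
  exact isEssentiallyEtale_of_unramified A D hAD

end Main

end Core

section Inf

variable {A S : Type u} [CommRing A] [CommRing S] [Algebra A S]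

/-- the intersection of two integrally closed subrings of a domain is integrally closed. -/
theorem isIntegrallyClosed_inf [IsDomain S] (D₁ D₂ : Subalgebra A S)
    [IsIntegrallyClosed D₁] [IsIntegrallyClosed D₂] :
    IsIntegrallyClosed ↥(D₁ ⊓ D₂) := by
  rw [Groth.Agent.Lib.Helper3.HzNormal.isIntegrallyClosed_iff_nc]
  intro a b p hp hb hab
  have h1 := (Groth.Agent.Lib.Helper3.HzNormal.isIntegrallyClosed_iff_nc D₁).mp inferInstance
  have h2 := (Groth.Agent.Lib.Helper3.HzNormal.isIntegrallyClosed_iff_nc D₂).mp inferInstance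
  let f₁ : ↥(D₁ ⊓ D₂) →+* D₁ := (Subalgebra.inclusion (inf_le_left : D₁ ⊓ D₂ ≤ D₁)).toRingHom
  let f₂ : ↥(D₁ ⊓ D₂) →+* D₂ := (Subalgebra.inclusion (inf_le_right : D₁ ⊓ D₂ ≤ D₂)).toRingHom
  have hf₁ : Function.Injective f₁ := Subalgebra.inclusion_injective _
  have hf₂ : Function.Injective f₂ := Subalgebra.inclusion_injective _
  have key : ∀ {T : Type u} [CommRing T] [Nontrivial T] (f : ↥(D₁ ⊓ D₂) →+* T),
      Function.Injective f → f b ≠ 0 ∧ ((p.map f).scaleRoots (f b)).eval (f a) = 0 := by
    intro T _ _ f hf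
    have hlead : f p.leadingCoeff ≠ 0 := by rw [hp.leadingCoeff, map_one]; exact one_ne_zero
    refine ⟨fun h => hb (hf (h.trans (map_zero f).symm)), ?_⟩
    rw [← Polynomial.map_scaleRoots p b f hlead, Polynomial.eval_map, Polynomial.eval₂_at_apply, hab,
      map_zero]
  obtain ⟨hb₁, hab₁⟩ := key f₁ hf₁
  obtain ⟨hb₂, hab₂⟩ := key f₂ hf₂
  obtain ⟨c₁, hc₁⟩ := h1 (f₁ a) (f₁ b) (p.map f₁) (hp.map f₁) hb₁ hab₁
  obtain ⟨c₂, hc₂⟩ := h2 (f₂ a) (f₂ b) (p.map f₂) (hp.map f₂) hb₂ hab₂
  have e1 : (a : S) = (b : S) * (c₁ : S) := congrArg Subtype.val hc₁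
  have e2 : (a : S) = (b : S) * (c₂ : S) := congrArg Subtype.val hc₂
  have hbS : (b : S) ≠ 0 := fun h => hb (Subtype.ext h)
  have hcc : (c₁ : S) = (c₂ : S) := mul_left_cancel₀ hbS (e1.symm.trans e2)
  refine ⟨⟨(c₁ : S), ⟨c₁.2, hcc ▸ c₂.2⟩⟩, ?_⟩
  exact Subtype.ext e1

/-- the intersection of two subrings dominated by a local ring is dominated by it and local. -/
theorem isLocalHom_inf (D₁ D₂ : Subalgebra A S)
    [h₁ : IsLocalHom (algebraMap D₁ S)] [h₂ : IsLocalHom (algebraMap D₂ S)] :
    IsLocalHom (algebraMap ↥(D₁ ⊓ D₂) S) := by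
  constructor
  intro x hx
  have hx₁ : IsUnit (⟨(x : S), x.2.1⟩ : D₁) := h₁.map_nonunit _ hx
  have hx₂ : IsUnit (⟨(x : S), x.2.2⟩ : D₂) := h₂.map_nonunit _ hx
  obtain ⟨u₁, hu₁⟩ := hx₁
  obtain ⟨u₂, hu₂⟩ := hx₂
  have e1 : (x : S) * ((↑(u₁⁻¹) : D₁) : S) = 1 := by
    have : (u₁ : D₁) * ↑(u₁⁻¹) = 1 := u₁.mul_inv
    rw [hu₁] at this
    exact congrArg Subtype.val this
  have e2 : (x : S) * ((↑(u₂⁻¹) : D₂) : S) = 1 := by
    have : (u₂ : D₂) * ↑(u₂⁻¹) = 1 := u₂.mul_inv
    rw [hu₂] at this
    exact congrArg Subtype.val this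
  have hxu : IsUnit (x : S) := hx
  have hcc : ((↑(u₁⁻¹) : D₁) : S) = ((↑(u₂⁻¹) : D₂) : S) :=
    hxu.mul_left_cancel (e1.trans e2.symm)
  refine IsUnit.of_mul_eq_one (⟨((↑(u₁⁻¹) : D₁) : S), ⟨(↑(u₁⁻¹) : D₁).2, hcc ▸ (↑(u₂⁻¹) : D₂).2⟩⟩ :
    ↥(D₁ ⊓ D₂)) ?_
  exact Subtype.ext e1

theorem isLocalRing_of_isLocalHom [IsLocalRing S] (C : Subalgebra A S)
    [h : IsLocalHom (algebraMap C S)] : IsLocalRing C := by
  haveI : Nontrivial C := ⟨⟨0, 1, fun h => zero_ne_one (α := S) (congrArg Subtype.val h)⟩⟩
  refine IsLocalRing.of_nonunits_add ?_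
  intro a b ha hb
  have ha' : (a : S) ∈ nonunits S := fun hu => ha (h.map_nonunit a hu)
  have hb' : (b : S) ∈ nonunits S := fun hu => hb (h.map_nonunit b hu)
  have hab : (a : S) + (b : S) ∈ nonunits S := IsLocalRing.nonunits_add ha' hb'
  intro hu
  exact hab (hu.map (algebraMap C S))

end Inf

section Sub

open Groth.Agent.Lib.Helper3 Groth.Agent.Lib.Helper3.Sh Groth.Agent.Lib.T2H1.EssEtInter

variable {A : Type u} [CommRing A] [IsLocalRing A] [IsDomain A] [IsIntegrallyClosed A]
  [IsNoetherianRing A]
  {Ω : Type u} [Field Ω] [Algebra A Ω] [Algebra (ResidueField A) Ω]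
  [IsScalarTower A (ResidueField A) Ω] [IsSepClosure (ResidueField A) Ω]
  {S : Type u} [CommRing S] [IsLocalRing S] [Algebra A S] (e : S ≃ₐ[A] Rsh A Ω) (i : Idx A Ω)

/-- the range of a stage is dominated by `S`. -/
theorem isLocalHom_range : IsLocalHom (algebraMap (ρ e i).range S) := by
  constructor
  rintro ⟨_, l, rfl⟩ hx
  have h1 : IsUnit l := isUnit_of_isUnit_ρ e i l hx
  have h2 := h1.map (AlgEquiv.ofInjective (ρ e i) (ρ_injective e i))
  exact h2

theorem isIntegrallyClosed_range : IsIntegrallyClosed (ρ e i).range := by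
  obtain ⟨hd, hic⟩ := Sh.normal_L (R := A) (Ω := Ω) i
  exact IsIntegrallyClosed.of_equiv
    (AlgEquiv.ofInjective (ρ e i) (ρ_injective e i)).toRingEquiv

/-- A normal local domain between `A` and (a model of) its strict henselization, dominated by the
latter and contained in a stage, is essentially étale over `A`. -/
theorem isEssentiallyEtale_of_le_range (C : Subalgebra A S) [IsLocalRing C]
    [hloc : IsLocalHom (algebraMap C S)] [IsDomain C] [IsIntegrallyClosed C]
    (hC : C ≤ (ρ e i).range) : EGA4loc.IsEssentiallyEtale A C := by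
  let eE : i.L ≃ₐ[A] (ρ e i).range := AlgEquiv.ofInjective (ρ e i) (ρ_injective e i)
  let ι : C →ₐ[A] i.L := (eE.symm : (ρ e i).range →ₐ[A] i.L).comp (Subalgebra.inclusion hC)
  have hρι : ∀ c : C, ρ e i (ι c) = (c : S) := by
    intro c
    have h1 : eE (ι c) = Subalgebra.inclusion hC c := eE.apply_symm_apply _
    exact congrArg Subtype.val h1
  have hι : Function.Injective ι := by
    intro c₁ c₂ h
    apply Subtype.ext
    rw [← hρι c₁, ← hρι c₂, h]
  haveI : IsLocalHom ι.toRingHom := by
    constructor
    intro c hc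
    have h1 : IsUnit (ρ e i (ι c)) := hc.map (ρ e i)
    rw [hρι] at h1
    exact hloc.map_nonunit c h1
  exact isEssentiallyEtale_of_normal A i.L i.isEssentiallyEtale C ι hι

end Sub

section FieldGen

open Groth.Agent.Lib.Helper3 Groth.Agent.Lib.Helper3.Sh Groth.Agent.Lib.T2H1.EssEtInter

variable {A : Type u} [CommRing A] [IsLocalRing A]
  {Ω : Type u} [Field Ω] [Algebra A Ω] [Algebra (ResidueField A) Ω]
  [IsScalarTower A (ResidueField A) Ω] [IsSepClosure (ResidueField A) Ω]
  {S : Type u} [CommRing S] [IsDomain S] [Algebra A S] (e : S ≃ₐ[A] Rsh A Ω) (i : Idx A Ω)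

/-- A subring `D ⊇ A` of `S` whose fraction field is generated, as a field, by `A` and finitely many
elements of `D` lying in a stage, is contained in that stage. -/
theorem le_range_of_subfield_closure (D : Subalgebra A S) [IsDomain D] (s : Finset D)
    (hfg : Subfield.closure (Set.range (algebraMap A (FractionRing D)) ∪
        (algebraMap D (FractionRing D)) '' (s : Set D)) = ⊤)
    (hs : ∀ x ∈ s, (x : S) ∈ (ρ e i).range) : D ≤ (ρ e i).range := by
  classical
  have key : ∀ y : FractionRing D, ∃ a b : D, (a : S) ∈ (ρ e i).range ∧ (b : S) ∈ (ρ e i).range ∧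
      b ≠ 0 ∧ y * algebraMap D (FractionRing D) b = algebraMap D (FractionRing D) a := by
    intro y
    have hy : y ∈ Subfield.closure (Set.range (algebraMap A (FractionRing D)) ∪
        (algebraMap D (FractionRing D)) '' (s : Set D)) := hfg ▸ Subfield.mem_top y
    induction hy using Subfield.closure_induction with
    | mem x hx =>
      rcases hx with ⟨r, rfl⟩ | ⟨x, hx, rfl⟩
      · refine ⟨algebraMap A D r, 1, (ρ e i).range.algebraMap_mem r, (ρ e i).range.one_mem,
          one_ne_zero, ?_⟩
        rw [map_one, mul_one, ← IsScalarTower.algebraMap_apply]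
      · exact ⟨x, 1, hs x hx, (ρ e i).range.one_mem, one_ne_zero, by rw [map_one, mul_one]⟩
    | one => exact ⟨1, 1, (ρ e i).range.one_mem, (ρ e i).range.one_mem, one_ne_zero, by
        rw [map_one, mul_one]⟩
    | add x y hx hy ihx ihy =>
      obtain ⟨a₁, b₁, ha₁, hb₁, hb₁0, h₁⟩ := ihx
      obtain ⟨a₂, b₂, ha₂, hb₂, hb₂0, h₂⟩ := ihy
      refine ⟨a₁ * b₂ + a₂ * b₁, b₁ * b₂, ?_, ?_, mul_ne_zero hb₁0 hb₂0, ?_⟩
      · exact (ρ e i).range.add_mem ((ρ e i).range.mul_mem ha₁ hb₂)
          ((ρ e i).range.mul_mem ha₂ hb₁)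
      · exact (ρ e i).range.mul_mem hb₁ hb₂
      · simp only [map_add, map_mul]
        rw [← h₁, ← h₂]
        ring
    | neg x hx ih =>
      obtain ⟨a, b, ha, hb, hb0, h⟩ := ih
      refine ⟨-a, b, (ρ e i).range.neg_mem ha, hb, hb0, ?_⟩
      rw [map_neg, ← h]
      ring
    | inv x hx ih =>
      obtain ⟨a, b, ha, hb, hb0, h⟩ := ih
      by_cases ha0 : a = 0
      · have hb' : algebraMap D (FractionRing D) b ≠ 0 := fun h0 =>
          hb0 (IsFractionRing.injective D (FractionRing D) (h0.trans (map_zero _).symm))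
        have hx0 : x = 0 := by
          rw [ha0, map_zero] at h
          exact (mul_eq_zero.mp h).resolve_right hb'
        refine ⟨0, 1, (ρ e i).range.zero_mem, (ρ e i).range.one_mem, one_ne_zero, ?_⟩
        rw [hx0, inv_zero, zero_mul, map_zero]
      · have ha' : algebraMap D (FractionRing D) a ≠ 0 := fun h0 =>
          ha0 (IsFractionRing.injective D (FractionRing D) (h0.trans (map_zero _).symm))
        refine ⟨b, a, hb, ha, ha0, ?_⟩
        have hx0 : x ≠ 0 := by
          intro h0
          rw [h0, zero_mul] at h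
          exact ha' h.symm
        rw [← h]
        field_simp
    | mul x y hx hy ihx ihy =>
      obtain ⟨a₁, b₁, ha₁, hb₁, hb₁0, h₁⟩ := ihx
      obtain ⟨a₂, b₂, ha₂, hb₂, hb₂0, h₂⟩ := ihy
      refine ⟨a₁ * a₂, b₁ * b₂, (ρ e i).range.mul_mem ha₁ ha₂, (ρ e i).range.mul_mem hb₁ hb₂,
        mul_ne_zero hb₁0 hb₂0, ?_⟩
      simp only [map_mul]
      rw [← h₁, ← h₂]
      ring
  intro x hxD
  obtain ⟨a, b, ⟨la, hla⟩, ⟨lb, hlb⟩, hb0, h⟩ := key (algebraMap D (FractionRing D) ⟨x, hxD⟩)
  rw [← map_mul] at h
  have h1 : (⟨x, hxD⟩ : D) * b = a := IsFractionRing.injective D (FractionRing D) h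
  have h2 : (b : S) * x = (a : S) := by
    have := congrArg Subtype.val h1
    rw [mul_comm]
    exact this
  have hbS : (b : S) ≠ 0 := fun h0 => hb0 (Subtype.ext h0)
  have hnz : ρ e i lb ∈ nonZeroDivisors S := by
    change (ρ e i).toRingHom lb ∈ _
    rw [show (ρ e i).toRingHom lb = (b : S) from hlb]
    exact mem_nonZeroDivisors_of_ne_zero hbS
  have h3 : ρ e i lb * x = ρ e i la := by
    change (ρ e i).toRingHom lb * x = (ρ e i).toRingHom la
    rw [show (ρ e i).toRingHom lb = (b : S) from hlb, show (ρ e i).toRingHom la = (a : S) from hla]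
    exact h2
  obtain ⟨x', hx'⟩ := exists_of_mul_eq e i lb la x hnz h3
  exact ⟨x', hx'⟩

end FieldGen

end Groth.Agent.Lib.T2H1.NormalInter
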