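import Mathlib
import Groth.Agent.Lib.Helper3ShN
import Groth.Agent.Lib.Helper3IndEtDesc
import Groth.Agent.Lib.T2H2ShRed
import Groth.Agent.Lib.T2H1EssEtStalk
import Groth.Agent.Lib.T2H1SpreadSh

/-!
# Pointed étale algebras and the strict henselization (helper1, team 2)

Ring-level input for the identification of the étale local ring of an algebraic space at a
geometric point with a strict henselization: for a local ring `A = (C₀)_𝔭₀` with a local map to a
field `K`, every étale `C₀`-algebra `R` with a `K`-point `χ` over the given point of `C₀` maps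
canonically to `T = Rsh A Ω'`, `Ω'` the separable closure of `κ(A)` in `K`.
-/

set_option autoImplicit false
set_option linter.style.haveILetI false
universe u
open IsLocalRing
open Groth.Agent.Lib.Helper3 Groth.Agent.Lib.Helper3.Sh

namespace Groth.Agent.Lib.T2H1.OEtShA

section Defs

variable (A : Type u) [CommRing A] [IsLocalRing A]
  (K : Type u) [Field K] [Algebra A K] [Algebra (ResidueField A) K]
  [IsScalarTower A (ResidueField A) K]

/-- the separable closure of the residue field inside `K`. -/
noncomputable abbrev Om : IntermediateField (ResidueField A) K :=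
  separableClosure (ResidueField A) K

/-- the strict henselization. -/
abbrev T : Type u := Rsh A (Om A K)

/-- the `K`-point of the strict henselization. -/
noncomputable def τK : T A K →+* K := (algebraMap (Om A K) K).comp toΩ

lemma τK_apply (z : T A K) : τK A K z = ((toΩ z : Om A K) : K) := rfl

lemma τK_algebraMap (a : A) : τK A K (algebraMap A (T A K) a) = algebraMap A K a := by
  rw [τK_apply, toΩ_algebraMap]
  rfl

lemma τK_eq_zero_iff (z : T A K) : τK A K z = 0 ↔ z ∈ maximalIdeal (T A K) := by
  rw [τK_apply, ← toΩ_eq_zero_iff]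
  exact ⟨fun h => Subtype.ext h, fun h => by rw [h]; rfl⟩

lemma τK_ofL (i : Idx A (Om A K)) (x : i.L) : τK A K (ofL i x) = ((i.toΩ x : Om A K) : K) := by
  rw [τK_apply, toΩ_ofL]

end Defs

section Stage

variable {C₀ : Type u} [CommRing C₀] (A : Type u) [CommRing A] [IsLocalRing A] [Algebra C₀ A]
  (K : Type u) [Field K] [Algebra A K] [Algebra (ResidueField A) K]
  [IsScalarTower A (ResidueField A) K]

/-- a pointed étale algebra over the pointed ring `C₀`. -/
structure IsStage {R : Type u} [CommRing R] (φ : C₀ →+* R) (χ : R →+* K) : Prop where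
  etale : φ.Etale
  comp : ∀ c, χ (φ c) = algebraMap A K (algebraMap C₀ A c)

/-- the defining properties of the canonical map of a stage to the strict henselization. -/
structure IsLift {R : Type u} [CommRing R] (φ : C₀ →+* R) (χ : R →+* K)
    (f : R →+* T A K) : Prop where
  comp : ∀ c, f (φ c) = algebraMap A (T A K) (algebraMap C₀ A c)
  pt : ∀ r, τK A K (f r) = χ r

variable {A K}

/-- uniqueness of the canonical map. -/
theorem IsLift.unique {R : Type u} [CommRing R] {φ : C₀ →+* R} {χ : R →+* K}
    (h : IsStage A K φ χ) {f f' : R →+* T A K} (hf : IsLift A K φ χ f)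
    (hf' : IsLift A K φ χ f') : f = f' := by
  letI := φ.toAlgebra
  haveI : Algebra.Etale C₀ R := h.etale
  letI : Algebra C₀ (T A K) := ((algebraMap A (T A K)).comp (algebraMap C₀ A)).toAlgebra
  let F : R →ₐ[C₀] T A K := { f with commutes' := fun c => hf.comp c }
  let F' : R →ₐ[C₀] T A K := { f' with commutes' := fun c => hf'.comp c }
  have key : F = F' := by
    apply EssEt.algHom_eq_of_residue_eq
    intro x
    have h1 : τK A K (F x - F' x) = 0 := by
      rw [map_sub]
      change τK A K (f x) - τK A K (f' x) = 0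
      rw [hf.pt, hf'.pt, sub_self]
    rw [τK_eq_zero_iff, ← residue_eq_zero_iff, map_sub, sub_eq_zero] at h1
    exact h1
  ext x
  exact congrArg (fun G : R →ₐ[C₀] T A K => G x) key

end Stage

noncomputable section Loc

variable {C₀ : Type u} [CommRing C₀] (𝔭₀ : Ideal C₀) [𝔭₀.IsPrime]
  {A : Type u} [CommRing A] [IsLocalRing A] [Algebra C₀ A] [IsLocalization.AtPrime A 𝔭₀]
  {K : Type u} [Field K] [Algebra A K] [IsLocalHom (algebraMap A K)] [Algebra (ResidueField A) K]
  [IsScalarTower A (ResidueField A) K]

omit [Algebra (ResidueField A) K] [IsScalarTower A (ResidueField A) K] in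
lemma algebraMap_eq_zero_iff (a : A) : algebraMap A K a = 0 ↔ a ∈ maximalIdeal A := by
  constructor
  · intro h hu
    have := hu.map (algebraMap A K)
    rw [h] at this
    exact not_isUnit_zero this
  · intro h
    by_contra h0
    exact h (isUnit_of_map_unit (algebraMap A K) a (IsUnit.mk0 _ h0))

include 𝔭₀ in
set_option maxHeartbeats 1600000 in
/-- every pointed étale algebra is dominated by a stage of the strict henselization. -/
theorem exists_idx_of_stage {R : Type u} [CommRing R] (φ : C₀ →+* R) (χ : R →+* K)
    (h : IsStage A K φ χ) :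
    ∃ (i : Idx A (Om A K)) (g : R →+* i.L),
      (∀ c, g (φ c) = algebraMap A i.L (algebraMap C₀ A c)) ∧
      (∀ r, ((i.toΩ (g r) : Om A K) : K) = χ r) ∧
      (∀ r, g r = 0 → ∃ s, χ s ≠ 0 ∧ s * r = 0) := by
  letI := φ.toAlgebra
  haveI : Algebra.Etale C₀ R := h.etale
  have hφ : ∀ c, algebraMap C₀ R c = φ c := fun _ => rfl
  set q : Ideal R := RingHom.ker χ with hq
  haveI : q.IsPrime := RingHom.ker_isPrime χ
  have hqc : q.comap (algebraMap C₀ R) = 𝔭₀ := by
    ext c
    rw [Ideal.mem_comap, hq, RingHom.mem_ker, hφ, h.comp, algebraMap_eq_zero_iff,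
      IsLocalization.AtPrime.to_map_mem_maximal_iff A 𝔭₀]
  have hunit : ∀ y : 𝔭₀.primeCompl, IsUnit (algebraMap C₀ (Localization.AtPrime q) (y : C₀)) := by
    intro y
    rw [IsScalarTower.algebraMap_apply C₀ R (Localization.AtPrime q)]
    refine IsLocalization.map_units (Localization.AtPrime q) (⟨algebraMap C₀ R y, ?_⟩ : q.primeCompl)
    intro hy
    have : (y : C₀) ∈ q.comap (algebraMap C₀ R) := hy
    rw [hqc] at this
    exact y.2 this
  let ι : A →+* Localization.AtPrime q :=
    IsLocalization.lift (M := 𝔭₀.primeCompl) (g := algebraMap C₀ (Localization.AtPrime q)) hunit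
  letI algAL : Algebra A (Localization.AtPrime q) := ι.toAlgebra
  haveI : IsScalarTower C₀ A (Localization.AtPrime q) :=
    IsScalarTower.of_algebraMap_eq (fun c => (IsLocalization.lift_eq hunit c).symm)
  have hEE : EGA4loc.IsEssentiallyEtale A (Localization.AtPrime q) :=
    Groth.Agent.Lib.T2H1.EssEtStalk.isEssentiallyEtale_of_isLocalization C₀ R A
      (Localization.AtPrime q) 𝔭₀ q hqc
  -- the point extends to the localization
  have hχu : ∀ y : q.primeCompl, IsUnit (χ (y : R)) := fun y =>
    IsUnit.mk0 _ (fun h0 => y.2 ((RingHom.mem_ker).2 h0))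
  let χL : Localization.AtPrime q →+* K := IsLocalization.lift (M := q.primeCompl) (g := χ) hχu
  have hχL : ∀ r, χL (algebraMap R (Localization.AtPrime q) r) = χ r := IsLocalization.lift_eq hχu
  have hχLA : ∀ a : A, χL (algebraMap A (Localization.AtPrime q) a) = algebraMap A K a := by
    have : χL.comp (algebraMap A (Localization.AtPrime q)) = algebraMap A K := by
      apply IsLocalization.ringHom_ext 𝔭₀.primeCompl
      ext c
      simp only [RingHom.comp_apply]
      rw [← IsScalarTower.algebraMap_apply C₀ A (Localization.AtPrime q),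
        IsScalarTower.algebraMap_apply C₀ R (Localization.AtPrime q), hχL, hφ, h.comp]
    intro a
    exact congrArg (fun ψ : A →+* K => ψ a) this
  have hχL0 : ∀ x, χL x = 0 ↔ x ∈ maximalIdeal (Localization.AtPrime q) := by
    intro x
    obtain ⟨r, s, rfl⟩ := IsLocalization.exists_mk'_eq q.primeCompl x
    rw [IsLocalization.AtPrime.mk'_mem_maximal_iff (Localization.AtPrime q) q]
    have e1 : χL (IsLocalization.mk' (Localization.AtPrime q) r s) * χ (s : R) = χ r := by
      rw [← hχL (s : R), ← map_mul, IsLocalization.mk'_spec, hχL]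
    have hs0 : χ (s : R) ≠ 0 := fun h0 => s.2 ((RingHom.mem_ker).2 h0)
    constructor
    · intro h0
      rw [h0, zero_mul] at e1
      exact (RingHom.mem_ker).2 e1.symm
    · intro hr
      have : χ r = 0 := (RingHom.mem_ker).1 hr
      rw [this] at e1
      exact (mul_eq_zero.1 e1).resolve_right hs0
  haveI hlocχL : IsLocalHom χL := by
    constructor
    intro x hx
    by_contra hnx
    have : x ∈ maximalIdeal (Localization.AtPrime q) := hnx
    rw [← hχL0] at this
    rw [this] at hx
    exact not_isUnit_zero hx
  haveI hlocAL : IsLocalHom (algebraMap A (Localization.AtPrime q)) := by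
    constructor
    intro a ha
    have := ha.map χL
    rw [hχLA] at this
    exact isUnit_of_map_unit (algebraMap A K) a this
  haveI := EssEt.essFiniteType_of_isEssentiallyEtale A (Localization.AtPrime q) hEE
  haveI := EssEt.formallyEtale_of_isEssentiallyEtale A (Localization.AtPrime q) hEE
  haveI hsepL : Algebra.IsSeparable (ResidueField A) (ResidueField (Localization.AtPrime q)) :=
    inferInstance
  let g₀ : ResidueField (Localization.AtPrime q) →+* K := ResidueField.lift χL
  have hg₀ : ∀ x, g₀ (residue _ x) = χL x := fun x => ResidueField.lift_residue_apply _ _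
  have hg₀A : ∀ y : ResidueField A,
      g₀ (algebraMap (ResidueField A) (ResidueField (Localization.AtPrime q)) y) =
        algebraMap (ResidueField A) K y := by
    intro y
    obtain ⟨a, rfl⟩ := residue_surjective y
    have e1 : algebraMap (ResidueField A) (ResidueField (Localization.AtPrime q)) (residue A a) =
        residue _ (algebraMap A (Localization.AtPrime q) a) := rfl
    rw [e1, hg₀, hχLA]
    exact IsScalarTower.algebraMap_apply A (ResidueField A) K a
  let g₁ : ResidueField (Localization.AtPrime q) →ₐ[ResidueField A] K :=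
    { g₀ with commutes' := hg₀A }
  have hsep : ∀ y : ResidueField (Localization.AtPrime q), g₀ y ∈ Om A K := by
    intro y
    rw [mem_separableClosure_iff]
    have hy := Algebra.IsSeparable.isSeparable (ResidueField A) y
    unfold IsSeparable at hy ⊢
    have e2 : minpoly (ResidueField A) (g₁ y) = minpoly (ResidueField A) y :=
      minpoly.algHom_eq g₁ g₁.injective y
    have e3 : g₁ y = g₀ y := rfl
    rw [← e3, e2]
    exact hy
  let β : ResidueField (Localization.AtPrime q) →ₐ[A] Om A K :=
    { toFun := fun y => ⟨g₀ y, hsep y⟩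
      map_one' := Subtype.ext (map_one g₀)
      map_mul' := fun x y => Subtype.ext (map_mul g₀ x y)
      map_zero' := Subtype.ext (map_zero g₀)
      map_add' := fun x y => Subtype.ext (map_add g₀ x y)
      commutes' := fun a => by
        apply Subtype.ext
        change g₀ (algebraMap A (ResidueField (Localization.AtPrime q)) a) = _
        rw [IsScalarTower.algebraMap_apply A (Localization.AtPrime q)
          (ResidueField (Localization.AtPrime q))]
        change g₀ (residue _ _) = _
        rw [hg₀, hχLA]
        rfl }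
  have hβ : ∀ x, ((β (residue _ x) : Om A K) : K) = χL x := fun x => hg₀ x
  obtain ⟨C, _, _, qC, _, hEt, hqC, ⟨e⟩⟩ := hEE
  obtain ⟨i, e', he'⟩ := exists_idx (Ω := Om A K) (Localization.AtPrime q) C qC hqC e β
  refine ⟨i, (e' : Localization.AtPrime q →+* i.L).comp (algebraMap R (Localization.AtPrime q)),
    ?_, ?_, ?_⟩
  · intro c
    simp only [RingHom.comp_apply]
    rw [← hφ, ← IsScalarTower.algebraMap_apply C₀ R (Localization.AtPrime q),
      IsScalarTower.algebraMap_apply C₀ A (Localization.AtPrime q)]
    exact e'.commutes _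
  · intro r
    simp only [RingHom.comp_apply]
    have := he' (algebraMap R (Localization.AtPrime q) r)
    change ((i.toΩ (e' (algebraMap R (Localization.AtPrime q) r)) : Om A K) : K) = _
    rw [this, hβ, hχL]
  · intro r hr
    simp only [RingHom.comp_apply] at hr
    have hr' : algebraMap R (Localization.AtPrime q) r = 0 := by
      have : e' (algebraMap R (Localization.AtPrime q) r) = e' 0 := by rw [map_zero]; exact hr
      exact e'.injective this
    rw [IsLocalization.map_eq_zero_iff q.primeCompl] at hr'
    obtain ⟨s, hs⟩ := hr'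
    exact ⟨s, fun h0 => s.2 ((RingHom.mem_ker).2 h0), hs⟩

include 𝔭₀ in
/-- existence of the canonical map of a stage, together with the description of its kernel. -/
theorem exists_isLift [IsSepClosed K] {R : Type u} [CommRing R] (φ : C₀ →+* R) (χ : R →+* K)
    (h : IsStage A K φ χ) :
    ∃ f : R →+* T A K, IsLift A K φ χ f ∧ ∀ r, f r = 0 → ∃ s, χ s ≠ 0 ∧ s * r = 0 := by
  obtain ⟨i, g, hg1, hg2, hg3⟩ := exists_idx_of_stage 𝔭₀ φ χ h
  refine ⟨(ofL i).comp g, ⟨?_, ?_⟩, ?_⟩
  · intro c
    rw [RingHom.comp_apply, hg1]
    exact (algebraMap_eq i _).symm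
  · intro r
    rw [RingHom.comp_apply, τK_ofL, hg2]
  · intro r hr
    rw [RingHom.comp_apply] at hr
    apply hg3
    have : ofL i (g r) = ofL i 0 := by rw [map_zero]; exact hr
    exact Groth.Agent.Lib.T2H2.ShRed.ofL_injective i this

include 𝔭₀ in
/-- the kernel of the canonical map of a stage. -/
theorem IsLift.exists_mul_eq_zero [IsSepClosed K] {R : Type u} [CommRing R] {φ : C₀ →+* R}
    {χ : R →+* K} (h : IsStage A K φ χ) {f : R →+* T A K} (hf : IsLift A K φ χ f) {r : R}
    (hr : f r = 0) : ∃ s, χ s ≠ 0 ∧ s * r = 0 := by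
  obtain ⟨f', hf', hker⟩ := exists_isLift 𝔭₀ φ χ h
  have : f = f' := IsLift.unique h hf hf'
  subst this
  exact hker r hr

set_option maxHeartbeats 1600000 in
include 𝔭₀ in
/-- every element of the strict henselization is a fraction of elements coming from a stage. -/
theorem exists_stage_of_elem [IsSepClosed K] (z : T A K) :
    ∃ (D : Type u) (_ : CommRing D) (φ : C₀ →+* D) (χ : D →+* K) (f : D →+* T A K)
      (d s : D), IsStage A K φ χ ∧ IsLift A K φ χ f ∧ χ s ≠ 0 ∧ f s * z = f d := by
  obtain ⟨i, x, rfl⟩ := exists_ofL z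
  haveI : Algebra.Etale A (MvPolynomial (Fin i.n) A ⧸ i.J) := i.etale
  haveI : i.q.IsPrime := i.prime
  letI : Algebra (MvPolynomial (Fin i.n) A ⧸ i.J) i.L := inferInstanceAs (Algebra i.C i.L)
  haveI : IsScalarTower A (MvPolynomial (Fin i.n) A ⧸ i.J) i.L :=
    inferInstanceAs (IsScalarTower A i.C i.L)
  haveI : IsLocalization.AtPrime i.L i.q := inferInstanceAs (IsLocalization.AtPrime i.L i.Q)
  obtain ⟨D, _, _, ψ, hEt, hψ, hloc⟩ :=
    Groth.Agent.Lib.T2H1.SpreadSh.exists_etale_descent_gen 𝔭₀ A i.n i.J i.q i.L
  letI algDL : Algebra D i.L := ψ.toAlgebra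
  haveI := hloc
  haveI hprime : ((maximalIdeal i.L).comap ψ).IsPrime := Ideal.comap_isPrime _ _
  obtain ⟨⟨d, s⟩, hds⟩ := IsLocalization.surj ((maximalIdeal i.L).comap ψ).primeCompl x
  have hψalg : ∀ y : D, algebraMap D i.L y = ψ y := fun _ => rfl
  refine ⟨D, inferInstance, algebraMap C₀ D, (τK A K).comp ((ofL i).comp ψ), (ofL i).comp ψ, d, s,
    ⟨?_, ?_⟩, ⟨?_, ?_⟩, ?_, ?_⟩
  · rw [RingHom.etale_algebraMap]
    exact hEt
  · intro c
    simp only [RingHom.comp_apply]
    have : ψ (algebraMap C₀ D c) = algebraMap A i.L (algebraMap C₀ A c) :=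
      congrArg (fun θ : C₀ →+* i.L => θ c) hψ
    rw [this, ← algebraMap_eq i, τK_algebraMap]
  · intro c
    simp only [RingHom.comp_apply]
    have : ψ (algebraMap C₀ D c) = algebraMap A i.L (algebraMap C₀ A c) :=
      congrArg (fun θ : C₀ →+* i.L => θ c) hψ
    rw [this, ← algebraMap_eq i]
  · intro r
    rfl
  · simp only [RingHom.comp_apply]
    rw [Ne, τK_eq_zero_iff, ofL_mem_maximalIdeal_iff]
    exact s.2
  · simp only [RingHom.comp_apply]
    rw [← hψalg, ← hψalg, ← hds, map_mul, mul_comm]

end Loc

end Groth.Agent.Lib.T2H1.OEtShA
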