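import Mathlib
import Groth.Prelude.Def_AlgSpOX3
import Groth.Agent.Lib.Helper9SpPoint5

/-!
# Germs of functions in the etale local ring of an algebraic space (helper1, team 2)
-/

set_option autoImplicit false
set_option linter.style.haveILetI false
set_option backward.isDefEq.respectTransparency false
open CategoryTheory CategoryTheory.Limits AlgebraicGeometry Opposite
universe u

namespace Groth.Agent.Lib.T2H1.OEtStalk

open AlgSp

instance hasColimitsOfSize_commRing : HasColimitsOfSize.{u, u} CommRingCat.{u + 1} :=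
  hasColimitsOfSizeShrink.{u, u, u + 1, u + 1} _

instance preservesFilteredColimits_forget_commRing :
    PreservesFilteredColimitsOfSize.{u, u} (forget CommRingCat.{u + 1}) :=
  preservesFilteredColimitsOfSize_shrink.{u, u + 1, u, u + 1} _

variable {S : Scheme.{u}}

/-- every element of the etale local ring is a germ. -/
lemma germ_surjective (X : AlgSp.Space S) (p : FieldPt X.obj) (hp : p.IsGeometric)
    (a : ↥(AlgSp.OEtStalk p)) :
    ∃ (U : EtOver X.obj) (l : (FieldPt.liftsTo p).obj U) (σ : ↥((AlgSp.OEt X.obj).obj.obj (op U))),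
      (AlgSp.stalkEtι p (AlgSp.OEt X.obj) ⟨U, l⟩).hom σ = a := by
  obtain ⟨⟨fib, cof, ism, js⟩, rfl⟩ := Groth.Agent.Lib.Helper9.SpPoint.main X p hp
  exact GrothendieckTopology.Point.toPresheafFiber_jointly_surjective
    (⟨FieldPt.liftsTo p, cof, ism, js⟩ : GrothendieckTopology.Point.{u} (etTop X.obj))
    (P := (AlgSp.OEt X.obj).obj) a

/-- two germs agree iff the sections agree on a smaller etale neighbourhood. -/
lemma germ_eq_iff (X : AlgSp.Space S) (p : FieldPt X.obj) (hp : p.IsGeometric)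
    (U : EtOver X.obj) (l : (FieldPt.liftsTo p).obj U)
    (σ τ : ↥((AlgSp.OEt X.obj).obj.obj (op U))) :
    (AlgSp.stalkEtι p (AlgSp.OEt X.obj) ⟨U, l⟩).hom σ =
        (AlgSp.stalkEtι p (AlgSp.OEt X.obj) ⟨U, l⟩).hom τ ↔
      ∃ (V : EtOver X.obj) (φ : V ⟶ U) (y : (FieldPt.liftsTo p).obj V),
        (FieldPt.liftsTo p).map φ y = l ∧
          ((AlgSp.OEt X.obj).obj.map φ.op).hom σ = ((AlgSp.OEt X.obj).obj.map φ.op).hom τ := by
  obtain ⟨⟨fib, cof, ism, js⟩, rfl⟩ := Groth.Agent.Lib.Helper9.SpPoint.main X p hp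
  exact GrothendieckTopology.Point.toPresheafFiber_eq_iff'
    (⟨FieldPt.liftsTo p, cof, ism, js⟩ : GrothendieckTopology.Point.{u} (etTop X.obj))
    (P := (AlgSp.OEt X.obj).obj) U l σ τ

/-- germs are compatible with restriction along morphisms of etale neighbourhoods. -/
lemma germ_map (X : AlgSp.Space S) (p : FieldPt X.obj) (hp : p.IsGeometric)
    {V U : EtOver X.obj} (φ : V ⟶ U) (y : (FieldPt.liftsTo p).obj V)
    (σ : ↥((AlgSp.OEt X.obj).obj.obj (op U))) :
    (AlgSp.stalkEtι p (AlgSp.OEt X.obj) ⟨V, y⟩).hom (((AlgSp.OEt X.obj).obj.map φ.op).hom σ) =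
      (AlgSp.stalkEtι p (AlgSp.OEt X.obj) ⟨U, (FieldPt.liftsTo p).map φ y⟩).hom σ := by
  obtain ⟨⟨fib, cof, ism, js⟩, rfl⟩ := Groth.Agent.Lib.Helper9.SpPoint.main X p hp
  exact GrothendieckTopology.Point.toPresheafFiber_w_apply
    (⟨FieldPt.liftsTo p, cof, ism, js⟩ : GrothendieckTopology.Point.{u} (etTop X.obj))
    φ y (AlgSp.OEt X.obj).obj σ

section Restrict

variable {X : AlgSp.Sp S} (E : EtOver X) (W : E.obj.left.left.Opens)

/-- the open subscheme `W` of an object of the small etale site, as a scheme over `S`. -/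
noncomputable abbrev openOver : Over S := Over.mk (W.ι ≫ E.obj.left.hom)

/-- the inclusion of the open subscheme. -/
noncomputable abbrev openIncl : openOver E W ⟶ E.obj.left := Over.homMk W.ι rfl

/-- the open subscheme `W` of an object of the small etale site, as an object of the site. -/
noncomputable def restrictOpen : EtOver X :=
  EtOver.mk ((AlgSp.yon S).map (openIncl E W) ≫ E.obj.hom)
    ((AlgSp.RepWith (S := S) @Etale).comp_mem _ _
      ((AlgSp.repWith_yon_map_iff @Etale (openIncl E W)).2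
        (inferInstanceAs (Etale W.ι))) E.property)

/-- the inclusion, as a morphism of the site. -/
noncomputable def restrictOpenι : restrictOpen E W ⟶ E :=
  EtOver.homMk (E := restrictOpen E W) (E' := E) (openIncl E W) rfl

lemma restrictOpenι_left : (restrictOpenι E W).hom.left.left = W.ι := rfl

/-- a lift of a field valued point to `E` through a point of `W` lifts to `W`. -/
lemma exists_lift_restrictOpen (p : FieldPt X) (l : (FieldPt.liftsTo p).obj E)
    (hl : l.1.left (default : Spec (CommRingCat.of p.K)) ∈ W) :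
    ∃ l' : (FieldPt.liftsTo p).obj (restrictOpen E W),
      (FieldPt.liftsTo p).map (restrictOpenι E W) l' = l := by
  have hr : Set.range l.1.left ⊆ Set.range W.ι := by
    rintro _ ⟨t, rfl⟩
    have ht : t = (default : Spec (CommRingCat.of p.K)) :=
      Subsingleton.elim (α := Spec (CommRingCat.of p.K)) _ _
    rw [ht, Scheme.Opens.range_ι]
    exact hl
  let l₀ : Spec (CommRingCat.of p.K) ⟶ ↑W := IsOpenImmersion.lift W.ι l.1.left hr
  have hl₀ : l₀ ≫ W.ι = l.1.left := IsOpenImmersion.lift_fac _ _ _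
  have h3 : l₀ ≫ (openOver E W).hom = p.str := by
    change l₀ ≫ W.ι ≫ E.obj.left.hom = p.str
    rw [← Category.assoc, hl₀]
    exact Over.w l.1
  let lO : p.pt ⟶ openOver E W := Over.homMk l₀ h3
  have h4 : lO ≫ openIncl E W = l.1 := by
    apply Over.OverMorphism.ext
    exact hl₀
  refine ⟨⟨lO, ?_⟩, Subtype.ext h4⟩
  change (AlgSp.yon S).map lO ≫ (AlgSp.yon S).map (openIncl E W) ≫ E.obj.hom = p.toHom
  rw [← Category.assoc, ← Functor.map_comp, h4]
  exact l.2

end Restrict

section SchemeLevel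

/-- a flat morphism reflects vanishing of germs of global functions. -/
lemma germ_eq_zero_of_appTop_eq_zero {V U : Scheme.{u}} (g : V ⟶ U) [Flat g] (v : V)
    (r : Γ(U, ⊤)) (h : g.appTop.hom r = 0) : U.presheaf.germ ⊤ (g v) trivial r = 0 := by
  have hfl : (g.stalkMap v).hom.Flat := Flat.stalkMap g v
  have hloc : IsLocalHom (g.stalkMap v).hom := inferInstance
  have h1 : g.stalkMap v (U.presheaf.germ ⊤ (g v) trivial r) = 0 := by
    rw [Scheme.Hom.germ_stalkMap_apply]
    have : g.app ⊤ r = 0 := h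
    rw [this, map_zero]
  algebraize [(g.stalkMap v).hom]
  have : IsLocalHom (algebraMap (U.presheaf.stalk (g v)) (V.presheaf.stalk v)) := hloc
  haveI : Module.FaithfullyFlat (U.presheaf.stalk (g v)) (V.presheaf.stalk v) :=
    Module.FaithfullyFlat.of_flat_of_isLocalHom
  have hinj : Function.Injective (algebraMap (U.presheaf.stalk (g v)) (V.presheaf.stalk v)) :=
    FaithfulSMul.algebraMap_injective _ _
  apply hinj
  rw [map_zero]
  exact h1

/-- transport of vanishing of a germ along an equality of points. -/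
lemma germ_eq_zero_of_eq {U : Scheme.{u}} {x y : U} (h : x = y) (r : Γ(U, ⊤))
    (h0 : U.presheaf.germ ⊤ x trivial r = 0) : U.presheaf.germ ⊤ y trivial r = 0 := by
  subst h
  exact h0

/-- a nilpotent global function vanishes near a point with reduced local ring. -/
lemma exists_open_appTop_eq_zero {V : Scheme.{u}} (v : V)
    (hred : _root_.IsReduced ↥(V.presheaf.stalk v)) (f : Γ(V, ⊤)) (hf : IsNilpotent f) :
    ∃ W : V.Opens, v ∈ W ∧ W.ι.appTop.hom f = 0 := by
  have h0 : V.presheaf.germ ⊤ v trivial f = 0 := (hf.map (V.presheaf.germ ⊤ v trivial).hom).eq_zero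
  have h1 : V.presheaf.germ ⊤ v trivial f = V.presheaf.germ ⊤ v trivial (0 : Γ(V, ⊤)) := by
    rw [h0, map_zero]
  obtain ⟨W₀, hvW, iU, iV, e⟩ := TopCat.Presheaf.germ_eq V.presheaf (U := ⊤) (V := ⊤) v trivial
    trivial f 0 h1
  let W : V.Opens := W₀
  refine ⟨W, hvW, ?_⟩
  rw [map_zero] at e
  rw [Scheme.Opens.ι_appTop]
  have hle : W.ι ''ᵁ ⊤ ≤ W := by
    rw [Scheme.Opens.ι_image_top]
  have : (homOfLE (x := W.ι ''ᵁ ⊤) (le_top : _ ≤ (⊤ : V.Opens))).op =
      iU.op ≫ (homOfLE hle).op := rfl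
  rw [this, Functor.map_comp, CommRingCat.hom_comp, RingHom.comp_apply]
  have e' : (V.presheaf.map iU.op).hom f = 0 := e
  rw [e', map_zero]

/-- a criterion for reducedness of a local ring of an affine scheme. -/
lemma isReduced_stalk_of_affine {U : Scheme.{u}} [IsAffine U] (x : U)
    (h : ∀ r : Γ(U, ⊤), IsNilpotent r → U.presheaf.germ ⊤ x trivial r = 0) :
    _root_.IsReduced ↥(U.presheaf.stalk x) := by
  letI := U.presheaf.algebra_section_stalk (⟨x, trivial⟩ : (⊤ : U.Opens))
  haveI := (isAffineOpen_top U).isLocalization_stalk ⟨x, trivial⟩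
  set M := ((isAffineOpen_top U).primeIdealOf ⟨x, trivial⟩).asIdeal.primeCompl with hM
  have halg : ∀ r : Γ(U, ⊤), algebraMap Γ(U, ⊤) (U.presheaf.stalk x) r =
      U.presheaf.germ ⊤ x trivial r := fun r => rfl
  constructor
  intro a ha
  obtain ⟨r, t, rfl⟩ := IsLocalization.exists_mk'_eq M a
  obtain ⟨n, hn⟩ := ha
  rw [← IsLocalization.mk'_pow, IsLocalization.mk'_eq_zero_iff] at hn
  obtain ⟨m, hm⟩ := hn
  have hnil : IsNilpotent ((m : Γ(U, ⊤)) * r) := ⟨n + 1, by
    have e1 : ((m : Γ(U, ⊤)) * r) ^ (n + 1) =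
        (m : Γ(U, ⊤)) ^ n * r * ((m : Γ(U, ⊤)) * r ^ n) := by ring
    rw [e1, hm, mul_zero]⟩
  have h0 := h _ hnil
  rw [← halg, map_mul] at h0
  have hu : IsUnit (algebraMap Γ(U, ⊤) (U.presheaf.stalk x) (m : Γ(U, ⊤))) :=
    IsLocalization.map_units _ m
  have h1 : algebraMap Γ(U, ⊤) (U.presheaf.stalk x) r = 0 := (hu.mul_right_eq_zero).1 h0
  rw [IsLocalization.mk'_eq_zero_iff]
  exact (IsLocalization.map_eq_zero_iff M (U.presheaf.stalk x) r).1 h1

end SchemeLevel

end Groth.Agent.Lib.T2H1.OEtStalk
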