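import Mathlib
import Groth.Prelude.Def_AlgSpOX3
import Groth.Agent.Lib.T2H1OEtStalk
import Groth.Agent.Lib.T2H1OEtShA
import Groth.Agent.Lib.Helper9SpPoint

/-!
# Étale neighbourhoods of a geometric point of an algebraic space: evaluation, restriction,
affine refinements (helper1, team 2)
-/

set_option autoImplicit false
set_option linter.style.haveILetI false
set_option backward.isDefEq.respectTransparency false
open CategoryTheory CategoryTheory.Limits AlgebraicGeometry Opposite IsLocalRing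
universe u

namespace Groth.Agent.Lib.T2H1.OEtShB

open AlgSp

variable {S : Scheme.{u}} {X : AlgSp.Sp S} (p : FieldPt X)

/-- the underlying scheme of an étale neighbourhood. -/
noncomputable abbrev sch (N : EtNbhd p) : Scheme.{u} := N.1.obj.left.left

/-- the `K`-point of an étale neighbourhood. -/
noncomputable abbrev ptm (N : EtNbhd p) : Spec (CommRingCat.of p.K) ⟶ sch p N := N.2.1.left

/-- evaluation of functions at the `K`-point. -/
noncomputable def ev (N : EtNbhd p) : Γ(sch p N, ⊤) →+* p.K :=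
  (Scheme.ΓSpecIso (CommRingCat.of p.K)).hom.hom.comp (ptm p N).appTop.hom

variable {p}

/-- restriction of functions along a morphism of étale neighbourhoods. -/
noncomputable def res {N' N : EtNbhd p} (φ : N' ⟶ N) : Γ(sch p N, ⊤) →+* Γ(sch p N', ⊤) :=
  φ.1.hom.left.left.appTop.hom

lemma ptm_comp {N' N : EtNbhd p} (φ : N' ⟶ N) : ptm p N' ≫ φ.1.hom.left.left = ptm p N := by
  have h1 : N'.2.1 ≫ φ.1.hom.left = N.2.1 := congrArg Subtype.val φ.2
  exact congrArg (fun k => k.left) h1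

lemma ev_res {N' N : EtNbhd p} (φ : N' ⟶ N) (r : Γ(sch p N, ⊤)) :
    ev p N' (res φ r) = ev p N r := by
  unfold ev res
  simp only [RingHom.comp_apply]
  rw [← ptm_comp φ, Scheme.Hom.comp_appTop]
  rfl

lemma res_comp {N'' N' N : EtNbhd p} (φ : N'' ⟶ N') (ψ : N' ⟶ N) (r : Γ(sch p N, ⊤)) :
    res (φ ≫ ψ) r = res φ (res ψ r) := by
  unfold res
  have : (φ ≫ ψ).1.hom.left.left = φ.1.hom.left.left ≫ ψ.1.hom.left.left := rfl
  rw [this, Scheme.Hom.comp_appTop]
  rfl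

section Mk

variable (N₀ : EtNbhd p) {V : Scheme.{u}} (g : V ⟶ sch p N₀)

/-- a scheme étale over a neighbourhood, as a scheme over `S`. -/
noncomputable abbrev mkOver : Over S := Over.mk (g ≫ N₀.1.obj.left.hom)

/-- its structure morphism. -/
noncomputable abbrev mkHom : mkOver N₀ g ⟶ N₀.1.obj.left := Over.homMk g rfl

variable [Etale g]

/-- a scheme étale over a neighbourhood, as an object of the small étale site. -/
noncomputable def mkE : EtOver X :=
  EtOver.mk ((AlgSp.yon S).map (mkHom N₀ g) ≫ N₀.1.obj.hom)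
    ((AlgSp.RepWith (S := S) @Etale).comp_mem _ _
      ((AlgSp.repWith_yon_map_iff @Etale (mkHom N₀ g)).2 ‹Etale g›) N₀.1.property)

/-- the structure morphism, as a morphism of the site. -/
noncomputable def mkB : mkE N₀ g ⟶ N₀.1 :=
  EtOver.homMk (E := mkE N₀ g) (E' := N₀.1) (mkHom N₀ g) rfl

variable (l : Spec (CommRingCat.of p.K) ⟶ V) (hl : l ≫ g = ptm p N₀)

include hl in
lemma mk_aux : l ≫ (mkOver N₀ g).hom = p.str := by
  change l ≫ g ≫ N₀.1.obj.left.hom = p.str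
  rw [← Category.assoc, hl]
  exact Over.w N₀.2.1

/-- the lift of the point. -/
noncomputable abbrev mkLO : p.pt ⟶ mkOver N₀ g := Over.homMk l (mk_aux N₀ g l hl)

lemma mkLO_comp : mkLO N₀ g l hl ≫ mkHom N₀ g = N₀.2.1 := by
  apply Over.OverMorphism.ext
  exact hl

/-- the pointed neighbourhood. -/
noncomputable def mkN : EtNbhd p :=
  ⟨mkE N₀ g, ⟨mkLO N₀ g l hl, by
    change (AlgSp.yon S).map (mkLO N₀ g l hl) ≫ (AlgSp.yon S).map (mkHom N₀ g) ≫ N₀.1.obj.hom =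
      p.toHom
    rw [← Category.assoc, ← Functor.map_comp, mkLO_comp]
    exact N₀.2.2⟩⟩

/-- the morphism of pointed neighbourhoods. -/
noncomputable def mkφ : mkN N₀ g l hl ⟶ N₀ :=
  ⟨mkB N₀ g, Subtype.ext (mkLO_comp N₀ g l hl)⟩

lemma sch_mkN : sch p (mkN N₀ g l hl) = V := rfl

lemma ptm_mkN : ptm p (mkN N₀ g l hl) = l := rfl

lemma mkφ_left : (mkφ N₀ g l hl).1.hom.left.left = g := rfl

lemma res_mkφ (r : Γ(sch p N₀, ⊤)) : res (mkφ N₀ g l hl) r = g.appTop.hom r := rfl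

lemma ev_mkN (r : Γ(V, ⊤)) : ev p (mkN N₀ g l hl) r =
    (Scheme.ΓSpecIso (CommRingCat.of p.K)).hom.hom (l.appTop.hom r) := rfl

end Mk

section Restrict

variable (N : EtNbhd p) (W : (sch p N).Opens)
  (hW : ptm p N (closedPoint p.K) ∈ W)

include hW in
lemma range_ptm_subset : Set.range (ptm p N) ⊆ Set.range W.ι := by
  rintro _ ⟨t, rfl⟩
  have ht : t = closedPoint p.K := Subsingleton.elim (α := Spec (CommRingCat.of p.K)) _ _
  rw [ht, Scheme.Opens.range_ι]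
  exact hW

/-- the restriction of a pointed neighbourhood to an open containing the point. -/
noncomputable def restrictN : EtNbhd p :=
  mkN N W.ι (IsOpenImmersion.lift W.ι (ptm p N) (range_ptm_subset N W hW))
    (IsOpenImmersion.lift_fac _ _ _)

/-- the inclusion. -/
noncomputable def restrictφ : restrictN N W hW ⟶ N :=
  mkφ N W.ι _ (IsOpenImmersion.lift_fac _ _ _)

lemma res_restrictφ (r : Γ(sch p N, ⊤)) : res (restrictφ N W hW) r = W.ι.appTop.hom r := rfl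

lemma isAffine_restrictN (hA : IsAffineOpen W) : IsAffine (sch p (restrictN N W hW)) := hA

end Restrict

/-- every pointed neighbourhood has an affine refinement. -/
lemma exists_affine_refinement (N : EtNbhd p) :
    ∃ (N' : EtNbhd p) (_ : N' ⟶ N), IsAffine (sch p N') := by
  obtain ⟨_, ⟨W₀, hW₀, rfl⟩, hxW₀, -⟩ := (sch p N).isBasis_affineOpens.exists_subset_of_mem_open
    (Set.mem_univ (ptm p N (closedPoint p.K))) isOpen_univ
  obtain ⟨W, hWW₀⟩ : ∃ W : (sch p N).Opens, W = W₀ := ⟨W₀, rfl⟩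
  have hW : IsAffineOpen W := hWW₀ ▸ hW₀
  have hxW : ptm p N (closedPoint p.K) ∈ W := hWW₀ ▸ hxW₀
  exact ⟨restrictN N W hxW, restrictφ N W hxW, isAffine_restrictN N W hxW hW⟩

section Cofiltered

open Groth.Agent.Lib.Helper9.SpPoint

/-- two pairs of morphisms out of affine neighbourhoods are equalized on a common affine
refinement. -/
lemma exists_common {N N₀ M₁ M₂ : EtNbhd p} (a₁ : M₁ ⟶ N) (b₁ : M₁ ⟶ N₀) (a₂ : M₂ ⟶ N)
    (b₂ : M₂ ⟶ N₀) :
    ∃ (M₃ : EtNbhd p) (c₁ : M₃ ⟶ M₁) (c₂ : M₃ ⟶ M₂), IsAffine (sch p M₃) ∧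
      c₁ ≫ a₁ = c₂ ≫ a₂ ∧ c₁ ≫ b₁ = c₂ ≫ b₂ := by
  haveI : Nonempty (EtNbhd p) := ⟨N⟩
  haveI : IsCofiltered (EtNbhd p) := {}
  let P := IsCofiltered.min M₁ M₂
  let π₁ : P ⟶ M₁ := IsCofiltered.minToLeft M₁ M₂
  let π₂ : P ⟶ M₂ := IsCofiltered.minToRight M₁ M₂
  let Q := IsCofiltered.eq (π₁ ≫ a₁) (π₂ ≫ a₂)
  let e : Q ⟶ P := IsCofiltered.eqHom (π₁ ≫ a₁) (π₂ ≫ a₂)
  have he : e ≫ π₁ ≫ a₁ = e ≫ π₂ ≫ a₂ := IsCofiltered.eq_condition _ _
  let Q' := IsCofiltered.eq (e ≫ π₁ ≫ b₁) (e ≫ π₂ ≫ b₂)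
  let e' : Q' ⟶ Q := IsCofiltered.eqHom (e ≫ π₁ ≫ b₁) (e ≫ π₂ ≫ b₂)
  have he' : e' ≫ e ≫ π₁ ≫ b₁ = e' ≫ e ≫ π₂ ≫ b₂ := IsCofiltered.eq_condition _ _
  obtain ⟨M₃, c, hM₃⟩ := exists_affine_refinement Q'
  refine ⟨M₃, c ≫ e' ≫ e ≫ π₁, c ≫ e' ≫ e ≫ π₂, hM₃, ?_, ?_⟩
  · simp only [Category.assoc]
    rw [he]
  · simp only [Category.assoc]
    rw [he']

/-- any neighbourhood and a given one have a common affine refinement. -/
lemma exists_affine_over (N N₀ : EtNbhd p) :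
    ∃ (M : EtNbhd p) (_ : M ⟶ N) (_ : M ⟶ N₀), IsAffine (sch p M) := by
  haveI : Nonempty (EtNbhd p) := ⟨N⟩
  haveI : IsCofiltered (EtNbhd p) := {}
  obtain ⟨M, c, hM⟩ := exists_affine_refinement (IsCofiltered.min N N₀)
  exact ⟨M, c ≫ IsCofiltered.minToLeft N N₀, c ≫ IsCofiltered.minToRight N N₀, hM⟩

end Cofiltered

end Groth.Agent.Lib.T2H1.OEtShB
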