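import Mathlib
import Groth.Agent.Lib.T2H1OEtShB

/-!
# The canonical map from the étale local ring of an algebraic space at a geometric point to the
strict henselization of the local ring of an affine étale neighbourhood (helper1, team 2)
-/

set_option autoImplicit false
set_option linter.style.haveILetI false
set_option backward.isDefEq.respectTransparency false
open CategoryTheory CategoryTheory.Limits AlgebraicGeometry Opposite IsLocalRing
universe u

namespace Groth.Agent.Lib.T2H1.OEtShC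

open AlgSp Groth.Agent.Lib.T2H1.OEtShB Groth.Agent.Lib.T2H1.OEtShA
open Groth.Agent.Lib.Helper3 Groth.Agent.Lib.Helper3.Sh

variable {S : Scheme.{u}} {X : AlgSp.Sp S} {p : FieldPt X} (N₀ : EtNbhd p)

/-- the image of the point. -/
noncomputable abbrev u₀ : sch p N₀ := ptm p N₀ (closedPoint p.K)

/-- the local ring of the neighbourhood at the image of the point. -/
noncomputable abbrev A₀ : Type u := (sch p N₀).presheaf.stalk (u₀ N₀)

/-- functions are germs. -/
@[instance_reducible] noncomputable def algCA : Algebra Γ(sch p N₀, ⊤) (A₀ N₀) :=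
  ((sch p N₀).presheaf.germ ⊤ (u₀ N₀) trivial).hom.toAlgebra

/-- the point of the local ring. -/
@[instance_reducible] noncomputable def algAK : Algebra (A₀ N₀) p.K :=
  (Scheme.stalkClosedPointTo (ptm p N₀)).hom.toAlgebra

attribute [local instance] algCA algAK

instance isLocalHom_algAK : IsLocalHom (algebraMap (A₀ N₀) p.K) :=
  inferInstanceAs (IsLocalHom (Scheme.stalkClosedPointTo (ptm p N₀)).hom)

/-- the point of the residue field. -/
@[instance_reducible] noncomputable def algκK : Algebra (ResidueField (A₀ N₀)) p.K :=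
  (ResidueField.lift (algebraMap (A₀ N₀) p.K)).toAlgebra

attribute [local instance] algκK

instance isScalarTower_AκK : IsScalarTower (A₀ N₀) (ResidueField (A₀ N₀)) p.K :=
  IsScalarTower.of_algebraMap_eq (fun a => (ResidueField.lift_residue_apply _ a).symm)

lemma ev_eq (c : Γ(sch p N₀, ⊤)) :
    ev p N₀ c = algebraMap (A₀ N₀) p.K (algebraMap Γ(sch p N₀, ⊤) (A₀ N₀) c) := by
  have h := Scheme.germ_stalkClosedPointTo (ptm p N₀) ⊤ trivial
  have h2 := congrArg (fun k => k.hom c) h
  simp only [CommRingCat.hom_comp, RingHom.comp_apply] at h2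
  change _ = (Scheme.stalkClosedPointTo (ptm p N₀)).hom
    (((sch p N₀).presheaf.germ ⊤ (u₀ N₀) trivial).hom c)
  rw [h2]
  simp [ev]

section Affine

variable [IsAffine (sch p N₀)]

/-- the prime of the point. -/
noncomputable abbrev 𝔭₀ : Ideal Γ(sch p N₀, ⊤) :=
  ((isAffineOpen_top (sch p N₀)).primeIdealOf ⟨u₀ N₀, trivial⟩).asIdeal

instance isLocalization_A₀ : IsLocalization.AtPrime (A₀ N₀) (𝔭₀ N₀) :=
  (isAffineOpen_top (sch p N₀)).isLocalization_stalk ⟨u₀ N₀, trivial⟩

variable {N₀}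

/-- an affine neighbourhood over the base neighbourhood is a stage. -/
lemma isStage {M : EtNbhd p} (b : M ⟶ N₀) [IsAffine (sch p M)] :
    IsStage (A₀ N₀) p.K (res b) (ev p M) where
  etale := by
    haveI : Etale b.1.hom.left.left := EtOver.etale_left b.1
    exact (HasRingHomProperty.iff_of_isAffine (P := @Etale)).1 inferInstance
  comp := fun c => by rw [ev_res, ev_eq]

variable [IsSepClosed p.K]

/-- the canonical map of an affine neighbourhood over the base to the strict henselization. -/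
noncomputable def ρst {M : EtNbhd p} (b : M ⟶ N₀) [IsAffine (sch p M)] :
    Γ(sch p M, ⊤) →+* T (A₀ N₀) p.K :=
  (exists_isLift (𝔭₀ N₀) (res b) (ev p M) (isStage b)).choose

lemma isLift_ρst {M : EtNbhd p} (b : M ⟶ N₀) [IsAffine (sch p M)] :
    IsLift (A₀ N₀) p.K (res b) (ev p M) (ρst b) :=
  (exists_isLift (𝔭₀ N₀) (res b) (ev p M) (isStage b)).choose_spec.1

lemma ρst_eq_zero {M : EtNbhd p} (b : M ⟶ N₀) [IsAffine (sch p M)] {r : Γ(sch p M, ⊤)}
    (hr : ρst b r = 0) : ∃ s, ev p M s ≠ 0 ∧ s * r = 0 :=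
  (exists_isLift (𝔭₀ N₀) (res b) (ev p M) (isStage b)).choose_spec.2 r hr

/-- naturality of the canonical maps. -/
lemma ρst_res {M M' : EtNbhd p} (b : M ⟶ N₀) (b' : M' ⟶ N₀) [IsAffine (sch p M)]
    [IsAffine (sch p M')] (c : M' ⟶ M) (hc : c ≫ b = b') (r : Γ(sch p M, ⊤)) :
    ρst b' (res c r) = ρst b r := by
  have h1 : IsLift (A₀ N₀) p.K (res b) (ev p M) ((ρst b').comp (res c)) := by
    constructor
    · intro x
      rw [RingHom.comp_apply, ← res_comp, hc]
      exact (isLift_ρst b').comp x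
    · intro x
      rw [RingHom.comp_apply, (isLift_ρst b').pt, ev_res]
  have := IsLift.unique (isStage b) h1 (isLift_ρst b)
  exact congrArg (fun f : Γ(sch p M, ⊤) →+* T (A₀ N₀) p.K => f r) this

/-- independence of the affine refinement. -/
lemma ρst_indep {N M₁ M₂ : EtNbhd p} (a₁ : M₁ ⟶ N) (b₁ : M₁ ⟶ N₀) (a₂ : M₂ ⟶ N) (b₂ : M₂ ⟶ N₀)
    [IsAffine (sch p M₁)] [IsAffine (sch p M₂)] (r : Γ(sch p N, ⊤)) :
    ρst b₁ (res a₁ r) = ρst b₂ (res a₂ r) := by
  obtain ⟨M₃, c₁, c₂, hM₃, h1, h2⟩ := exists_common a₁ b₁ a₂ b₂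
  haveI := hM₃
  rw [← ρst_res b₁ (c₁ ≫ b₁) c₁ rfl, ← ρst_res b₂ (c₁ ≫ b₁) c₂ h2.symm, ← res_comp, ← res_comp, h1]

end Affine

section Cocone

variable [IsAffine (sch p N₀)] [IsSepClosed p.K]

/-- the chosen affine refinement over the base neighbourhood. -/
noncomputable def chM (N : EtNbhd p) : EtNbhd p := (exists_affine_over N N₀).choose

/-- its map to the given neighbourhood. -/
noncomputable def cha (N : EtNbhd p) : chM N₀ N ⟶ N := (exists_affine_over N N₀).choose_spec.choose

/-- its map to the base neighbourhood. -/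
noncomputable def chb (N : EtNbhd p) : chM N₀ N ⟶ N₀ :=
  (exists_affine_over N N₀).choose_spec.choose_spec.choose

instance isAffine_chM (N : EtNbhd p) : IsAffine (sch p (chM N₀ N)) :=
  (exists_affine_over N N₀).choose_spec.choose_spec.choose_spec

/-- the canonical map of functions on any neighbourhood to the strict henselization. -/
noncomputable def ιN (N : EtNbhd p) : Γ(sch p N, ⊤) →+* T (A₀ N₀) p.K :=
  (ρst (chb N₀ N)).comp (res (cha N₀ N))

lemma ιN_eq {N M : EtNbhd p} (a : M ⟶ N) (b : M ⟶ N₀) [IsAffine (sch p M)]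
    (r : Γ(sch p N, ⊤)) : ιN N₀ N r = ρst b (res a r) :=
  ρst_indep (cha N₀ N) (chb N₀ N) a b r

lemma ιN_res {N' N : EtNbhd p} (φ : N' ⟶ N) (r : Γ(sch p N, ⊤)) :
    ιN N₀ N' (res φ r) = ιN N₀ N r := by
  rw [ιN_eq N₀ (cha N₀ N' ≫ φ) (chb N₀ N') r, res_comp]
  rfl

lemma ιN_affine {M : EtNbhd p} (b : M ⟶ N₀) [IsAffine (sch p M)] (r : Γ(sch p M, ⊤)) :
    ιN N₀ M r = ρst b r := by
  rw [ιN_eq N₀ (𝟙 M) b r]
  congr 1

/-- the cocone defining the canonical map. -/
noncomputable def cocone : Cocone (stalkEtDiagram p (OEt X)) where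
  pt := CommRingCat.of (ULift.{u + 1} (T (A₀ N₀) p.K))
  ι :=
    { app := fun N => CommRingCat.ofHom
        (((ULift.ringEquiv.symm : T (A₀ N₀) p.K ≃+* ULift.{u + 1} (T (A₀ N₀) p.K)).toRingHom.comp
          (ιN N₀ N.unop)).comp
          (ULift.ringEquiv : ULift.{u + 1} Γ(sch p N.unop, ⊤) ≃+* Γ(sch p N.unop, ⊤)).toRingHom)
      naturality := fun N N' f => by
        ext x
        change ULift.up (ιN N₀ N'.unop (res f.unop x.down)) = ULift.up (ιN N₀ N.unop x.down)
        rw [ιN_res] }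

/-- the canonical map from the étale local ring to the strict henselization. -/
noncomputable def ρ : ↥(OEtStalk p) →+* T (A₀ N₀) p.K :=
  (ULift.ringEquiv : ULift.{u + 1} (T (A₀ N₀) p.K) ≃+* T (A₀ N₀) p.K).toRingHom.comp
    (colimit.desc (stalkEtDiagram p (OEt X)) (cocone N₀)).hom

lemma ρ_germ (N : EtNbhd p) (r : Γ(sch p N, ⊤)) :
    ρ N₀ ((stalkEtι p (OEt X) N).hom (ULift.up r)) = ιN N₀ N r := by
  have h := colimit.ι_desc (cocone N₀ (X := X) (p := p)) (op N)
  have h2 := congrArg (fun k => k.hom (ULift.up r)) h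
  simp only [CommRingCat.hom_comp, RingHom.comp_apply] at h2
  unfold ρ
  rw [RingHom.comp_apply]
  change ULift.down ((colimit.desc (stalkEtDiagram p (OEt X)) (cocone N₀)).hom
    ((colimit.ι (stalkEtDiagram p (OEt X)) (op N)).hom (ULift.up r))) = _
  rw [h2]
  rfl

end Cocone

end Groth.Agent.Lib.T2H1.OEtShC
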