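import Mathlib
import Groth.Agent.Lib.T2H1OEtShC

/-!
# The étale local ring of an algebraic space at a geometric point is a strict henselization of
the local ring of an étale neighbourhood (helper1, team 2)
-/

set_option autoImplicit false
set_option linter.style.haveILetI false
set_option backward.isDefEq.respectTransparency false
open CategoryTheory CategoryTheory.Limits AlgebraicGeometry Opposite IsLocalRing
universe u

namespace Groth.Agent.Lib.T2H1.OEtShD

open AlgSp Groth.Agent.Lib.T2H1.OEtShB Groth.Agent.Lib.T2H1.OEtShA Groth.Agent.Lib.T2H1.OEtShC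
open Groth.Agent.Lib.Helper3 Groth.Agent.Lib.Helper3.Sh

section SchemeLemmas

/-- a function is invertible on its basic open. -/
lemma isUnit_ι_appTop_basicOpen {V : Scheme.{u}} (s : Γ(V, ⊤)) :
    IsUnit ((V.basicOpen s).ι.appTop.hom s) := by
  rw [Scheme.Opens.ι_appTop]
  have hle : (V.basicOpen s).ι ''ᵁ ⊤ ≤ V.basicOpen s := by
    rw [Scheme.Opens.ι_image_top]
  have h1 : IsUnit ((V.presheaf.map (homOfLE (V.basicOpen_le s)).op).hom s) :=
    RingedSpace.isUnit_res_basicOpen _ s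
  have : (homOfLE (x := (V.basicOpen s).ι ''ᵁ ⊤) (le_top : _ ≤ (⊤ : V.Opens))).op =
      (homOfLE (V.basicOpen_le s)).op ≫ (homOfLE hle).op := rfl
  rw [this, Functor.map_comp, CommRingCat.hom_comp, RingHom.comp_apply]
  exact h1.map _

lemma ΓSpecIso_hom_SpecMap_appTop {R₁ R₂ : Type u} [CommRing R₁] [CommRing R₂] (ψ : R₁ →+* R₂)
    (y : Γ(Spec (CommRingCat.of R₁), ⊤)) :
    (Scheme.ΓSpecIso (CommRingCat.of R₂)).hom.hom
        ((Spec.map (CommRingCat.ofHom ψ)).appTop.hom y) =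
      ψ ((Scheme.ΓSpecIso (CommRingCat.of R₁)).hom.hom y) := by
  have h := Scheme.ΓSpecIso_naturality (CommRingCat.ofHom ψ)
  exact congrArg (fun k => k.hom y) h

lemma ΓSpecIso_hom_isoSpec_inv_appTop (U : Scheme.{u}) [IsAffine U] (c : Γ(U, ⊤)) :
    (Scheme.ΓSpecIso Γ(U, ⊤)).hom.hom (U.isoSpec.inv.appTop.hom c) = c := by
  have h1 : U.isoSpec.hom.appTop = (Scheme.ΓSpecIso Γ(U, ⊤)).hom := Scheme.toSpecΓ_appTop U
  have h2 : U.isoSpec.inv.appTop ≫ U.isoSpec.hom.appTop = 𝟙 _ := by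
    rw [← Scheme.Hom.comp_appTop, Iso.hom_inv_id]
    rfl
  rw [← h1]
  exact congrArg (fun k => k.hom c) h2

end SchemeLemmas

variable {S : Scheme.{u}} (X : AlgSp.Space S) {p : FieldPt X.obj}

/-- germs of functions. -/
noncomputable def γ (N : EtNbhd p) : Γ(sch p N, ⊤) →+* ↥(OEtStalk p) :=
  (stalkEtι p (OEt X.obj) N).hom.comp
    (ULift.ringEquiv.symm : Γ(sch p N, ⊤) ≃+* ULift.{u + 1} Γ(sch p N, ⊤)).toRingHom

lemma γ_apply (N : EtNbhd p) (r : Γ(sch p N, ⊤)) :
    γ X N r = (stalkEtι p (OEt X.obj) N).hom (ULift.up r) := rfl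

lemma γ_res {N' N : EtNbhd p} (φ : N' ⟶ N) (r : Γ(sch p N, ⊤)) : γ X N' (res φ r) = γ X N r := by
  have h := colimit.w (stalkEtDiagram p (OEt X.obj)) φ.op
  have h2 := congrArg (fun k => k.hom (ULift.up r)) h
  exact h2

lemma γ_surjective (hp : p.IsGeometric) (x : ↥(OEtStalk p)) :
    ∃ (N : EtNbhd p) (r : Γ(sch p N, ⊤)), γ X N r = x := by
  obtain ⟨U, l, σ, rfl⟩ := Groth.Agent.Lib.T2H1.OEtStalk.germ_surjective X p hp x
  exact ⟨⟨U, l⟩, σ.down, rfl⟩

/-- a function not vanishing at the point is invertible in the étale local ring. -/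
lemma isUnit_γ (N : EtNbhd p) (s : Γ(sch p N, ⊤)) (hs : ev p N s ≠ 0) : IsUnit (γ X N s) := by
  have hx : ptm p N (closedPoint p.K) ∈ (sch p N).basicOpen s := by
    rw [Scheme.mem_basicOpen_top]
    letI := algAK N
    have h1 : IsUnit (algebraMap (A₀ N) p.K
        (((sch p N).presheaf.germ ⊤ (u₀ N) trivial).hom s)) := by
      have := ev_eq N s
      change ev p N s = algebraMap (A₀ N) p.K (((sch p N).presheaf.germ ⊤ (u₀ N) trivial).hom s)
        at this
      rw [← this]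
      exact IsUnit.mk0 _ hs
    exact isUnit_of_map_unit (algebraMap (A₀ N) p.K) _ h1
  rw [← γ_res X (restrictφ N _ hx) s, res_restrictφ]
  exact (isUnit_ι_appTop_basicOpen s).map _

variable (N₀ : EtNbhd p) [IsAffine (sch p N₀)] [IsSepClosed p.K]

attribute [local instance] algCA algAK algκK

lemma ρ_γ (N : EtNbhd p) (r : Γ(sch p N, ⊤)) : ρ N₀ (γ X N r) = ιN N₀ N r := ρ_germ N₀ N r

theorem ρ_injective (hp : p.IsGeometric) : Function.Injective (ρ (X := X.obj) N₀) := by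
  rw [injective_iff_map_eq_zero]
  intro x hx
  obtain ⟨N, σ, rfl⟩ := γ_surjective X hp x
  rw [← γ_res X (cha N₀ N) σ] at hx ⊢
  rw [ρ_γ, ιN_affine N₀ (chb N₀ N)] at hx
  obtain ⟨s, hs, hsr⟩ := ρst_eq_zero (chb N₀ N) hx
  have hu := isUnit_γ X _ s hs
  have h0 : γ X _ s * γ X _ (res (cha N₀ N) σ) = 0 := by rw [← map_mul, hsr, map_zero]
  exact (hu.mul_right_eq_zero).1 h0

section Surj

variable {X N₀}
variable {D : Type u} [CommRing D] (φ : Γ(sch p N₀, ⊤) →+* D) (χ : D →+* p.K)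
  (hst : IsStage (A₀ N₀) p.K φ χ)

/-- the morphism from the spectrum of a stage to the base neighbourhood. -/
noncomputable abbrev gD : Spec (CommRingCat.of D) ⟶ sch p N₀ :=
  Spec.map (CommRingCat.ofHom φ) ≫ (sch p N₀).isoSpec.inv

omit [IsSepClosed p.K] in
lemma ΓSpecIso_gD_appTop (c : Γ(sch p N₀, ⊤)) :
    (Scheme.ΓSpecIso (CommRingCat.of D)).hom.hom ((gD φ).appTop.hom c) = φ c := by
  unfold gD
  rw [Scheme.Hom.comp_appTop, CommRingCat.hom_comp, RingHom.comp_apply,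
    ΓSpecIso_hom_SpecMap_appTop]
  exact congrArg φ (ΓSpecIso_hom_isoSpec_inv_appTop (sch p N₀) c)

include hst in
omit [IsSepClosed p.K] in
lemma etale_gD : Etale (gD φ) := by
  haveI : Etale (Spec.map (CommRingCat.ofHom φ)) :=
    (HasRingHomProperty.Spec_iff (P := @Etale)).2 hst.etale
  infer_instance

include hst in
omit [IsSepClosed p.K] in
lemma lD_comp : Spec.map (CommRingCat.ofHom χ) ≫ gD φ = ptm p N₀ := by
  apply ext_of_isAffine
  rw [← cancel_mono (Scheme.ΓSpecIso (CommRingCat.of p.K)).hom]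
  ext c
  rw [Scheme.Hom.comp_appTop]
  simp only [CommRingCat.hom_comp, RingHom.comp_apply]
  rw [ΓSpecIso_hom_SpecMap_appTop, ΓSpecIso_gD_appTop, hst.comp, ← ev_eq]
  rfl

set_option maxHeartbeats 1000000 in
theorem ρ_surjective : Function.Surjective (ρ (X := X.obj) N₀) := by
  intro z
  obtain ⟨D, _, φ, χ, f, d, s, hst, hf, hs, hz⟩ := exists_stage_of_elem (𝔭₀ N₀) z
  haveI := etale_gD φ χ hst
  let M : EtNbhd p := mkN N₀ (gD φ) (Spec.map (CommRingCat.ofHom χ)) (lD_comp φ χ hst)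
  let b : M ⟶ N₀ := mkφ N₀ (gD φ) _ (lD_comp φ χ hst)
  haveI : IsAffine (sch p M) := inferInstanceAs (IsAffine (Spec (CommRingCat.of D)))
  let f' : Γ(sch p M, ⊤) →+* T (A₀ N₀) p.K :=
    f.comp (Scheme.ΓSpecIso (CommRingCat.of D)).hom.hom
  have hf' : IsLift (A₀ N₀) p.K (res b) (ev p M) f' := by
    constructor
    · intro c
      change f ((Scheme.ΓSpecIso (CommRingCat.of D)).hom.hom ((gD φ).appTop.hom c)) = _
      rw [ΓSpecIso_gD_appTop]
      exact hf.comp c
    · intro r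
      change τK _ _ (f ((Scheme.ΓSpecIso (CommRingCat.of D)).hom.hom r)) =
        (Scheme.ΓSpecIso (CommRingCat.of p.K)).hom.hom
          ((Spec.map (CommRingCat.ofHom χ)).appTop.hom r)
      rw [hf.pt, ΓSpecIso_hom_SpecMap_appTop]
  have hρ : ρst b = f' := IsLift.unique (isStage b) (isLift_ρst b) hf'
  let s' : Γ(sch p M, ⊤) := (Scheme.ΓSpecIso (CommRingCat.of D)).inv.hom s
  let d' : Γ(sch p M, ⊤) := (Scheme.ΓSpecIso (CommRingCat.of D)).inv.hom d
  have hinv : ∀ y : D, (Scheme.ΓSpecIso (CommRingCat.of D)).hom.hom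
      ((Scheme.ΓSpecIso (CommRingCat.of D)).inv.hom y) = y := fun y =>
    congrArg (fun k => k.hom y) (Scheme.ΓSpecIso (CommRingCat.of D)).inv_hom_id
  have hs' : f' s' = f s := congrArg f (hinv s)
  have hd' : f' d' = f d := congrArg f (hinv d)
  have hevs : ev p M s' ≠ 0 := by
    rw [← hf'.pt, hs', hf.pt]
    exact hs
  obtain ⟨v, hv⟩ := (isUnit_γ X M s' hevs).exists_right_inv
  refine ⟨γ X M d' * v, ?_⟩
  have h1 : ρ N₀ (γ X M s') = f s := by rw [ρ_γ, ιN_affine N₀ b, hρ, hs']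
  have h2 : ρ N₀ (γ X M d') = f d := by rw [ρ_γ, ιN_affine N₀ b, hρ, hd']
  have h3 : f s * ρ N₀ v = 1 := by rw [← h1, ← map_mul, hv, map_one]
  rw [map_mul, h2, ← hz, mul_assoc, mul_comm z, ← mul_assoc, h3, one_mul]

/-- **the étale local ring at a geometric point is the strict henselization of the local ring of
an affine étale neighbourhood.** -/
noncomputable def ρEquiv (hp : p.IsGeometric) : ↥(OEtStalk p) ≃+* T (A₀ N₀) p.K :=
  RingEquiv.ofBijective (ρ (X := X.obj) N₀) ⟨ρ_injective X N₀ hp, ρ_surjective⟩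

end Surj

end Groth.Agent.Lib.T2H1.OEtShD
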