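import Mathlib
import Groth.Agent.Lib.T2H1OEtShD
import Groth.Agent.Lib.T2H1GeomLift

/-!
# The étale local ring at a geometric point as a strict henselization: chart version
(helper1, team 2)
-/

set_option autoImplicit false
set_option linter.style.haveILetI false
set_option backward.isDefEq.respectTransparency false
open CategoryTheory CategoryTheory.Limits AlgebraicGeometry Opposite IsLocalRing
universe u

namespace Groth.Agent.Lib.T2H1.OEtShE

open AlgSp Groth.Agent.Lib.T2H1.OEtShB Groth.Agent.Lib.T2H1.OEtShA Groth.Agent.Lib.T2H1.OEtShC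
  Groth.Agent.Lib.T2H1.OEtShD
open Groth.Agent.Lib.Helper3 Groth.Agent.Lib.Helper3.Sh

/-- the local ring of an open subscheme is the local ring of the ambient scheme. -/
lemma nonempty_stalk_ringEquiv {V : Scheme.{u}} (W : V.Opens) (x : ↥W) (u : V) (h : W.ι x = u) :
    Nonempty ((W : Scheme.{u}).presheaf.stalk x ≃+* V.presheaf.stalk u) := by
  subst h
  exact ⟨(asIso (W.ι.stalkMap x)).symm.commRingCatIsoToRingEquiv⟩

variable {S : Scheme.{u}}

/-- **the étale local ring of an algebraic space at a geometric point is a strict henselization of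
the local ring of any étale chart at any point over the geometric point.** -/
theorem exists_ringEquiv_Rsh (X : AlgSp.Space S) (p : FieldPt X.obj) (hp : p.IsGeometric)
    (U : Over S) (a : (AlgSp.yon S).obj U ⟶ X.obj) (ha : AlgSp.RepWith @Etale a) (u : ↥U.left)
    (hu : AlgSp.Points.ofPt a u = AlgSp.Points.mk p) :
    ∃ (A : Type u) (_ : CommRing A) (_ : IsLocalRing A) (Ω : Type u) (_ : Field Ω)
      (_ : Algebra A Ω) (_ : Algebra (ResidueField A) Ω)
      (_ : IsScalarTower A (ResidueField A) Ω) (_ : IsSepClosure (ResidueField A) Ω),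
      Nonempty (A ≃+* ↥(U.left.presheaf.stalk u)) ∧ Nonempty (↥(OEtStalk p) ≃+* Rsh A Ω) := by
  haveI : IsAlgClosed p.K := hp
  haveI : IsSepClosed p.K := inferInstance
  obtain ⟨l, hl, hlu⟩ := Groth.Agent.Lib.T2H1.GeomLift.exists_lift_through p hp a ha u hu
  let N : EtNbhd p := ⟨EtOver.mk a ha, ⟨l, hl⟩⟩
  have hlu' : ptm p N (closedPoint p.K) = u := by
    rw [← hlu]
    congr 1
    exact Subsingleton.elim (α := Spec (CommRingCat.of p.K)) _ _
  obtain ⟨_, ⟨W₀, hW₀, rfl⟩, hxW₀, -⟩ := (sch p N).isBasis_affineOpens.exists_subset_of_mem_open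
    (Set.mem_univ (ptm p N (closedPoint p.K))) isOpen_univ
  obtain ⟨W, hWW₀⟩ : ∃ W : (sch p N).Opens, W = W₀ := ⟨W₀, rfl⟩
  have hW : IsAffineOpen W := hWW₀ ▸ hW₀
  have hxW : ptm p N (closedPoint p.K) ∈ W := hWW₀ ▸ hxW₀
  let N₀ : EtNbhd p := restrictN N W hxW
  haveI : IsAffine (sch p N₀) := isAffine_restrictN N W hxW hW
  letI := algAK N₀
  letI := algκK N₀
  have hpt : W.ι (u₀ N₀) = u := by
    rw [← hlu', ← ptm_comp (restrictφ N W hxW)]
    rfl
  refine ⟨A₀ N₀, inferInstance, inferInstance, Om (A₀ N₀) p.K, inferInstance, inferInstance,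
    inferInstance, inferInstance, inferInstance, ?_, ⟨ρEquiv (X := X) (N₀ := N₀) hp⟩⟩
  exact nonempty_stalk_ringEquiv W (u₀ N₀) u hpt

end Groth.Agent.Lib.T2H1.OEtShE
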