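import Mathlib
import Groth.Agent.Lib.T2H1OEtShE
import Groth.Agent.Lib.T2H1GeomBranchCount
import Groth.Agent.Lib.Helper3HzDim
import Groth.Agent.Lib.LeadEtaleRegular
import Groth.Agent.Lib.Helper2NoethDesc

/-!
# Properties of the étale local ring at a geometric point read off from charts (helper1, team 2)
-/

set_option autoImplicit false
set_option linter.style.haveILetI false
open CategoryTheory CategoryTheory.Limits AlgebraicGeometry Opposite IsLocalRing
universe u

namespace Groth.Agent.Lib.T2H1.OEtShF

open AlgSp Groth.Agent.Lib.Helper3 Groth.Agent.Lib.Helper3.Sh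

section Ring

/-- the number of geometric branches is invariant under ring isomorphisms. -/
theorem numGeomBranches_eq_of_ringEquiv {A A' : Type u} [CommRing A] [IsLocalRing A]
    [CommRing A'] [IsLocalRing A'] (e : A' ≃+* A) :
    Brnch.numGeomBranches A' = Brnch.numGeomBranches A := by
  let Ω := SeparableClosure (ResidueField A)
  letI : Algebra A Ω := ((algebraMap (ResidueField A) Ω).comp (residue A)).toAlgebra
  haveI : IsScalarTower A (ResidueField A) Ω := IsScalarTower.of_algebraMap_eq (fun _ => rfl)
  haveI hSH : Hensel.IsStrictHenselization A (Rsh A Ω) := inferInstance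
  letI algA'T : Algebra A' (Rsh A Ω) :=
    ((algebraMap A (Rsh A Ω)).comp (e : A' →+* A)).toAlgebra
  have halg : ∀ a', algebraMap A' (Rsh A Ω) a' = algebraMap A (Rsh A Ω) (e a') := fun _ => rfl
  haveI hloc : IsLocalHom (algebraMap A' (Rsh A Ω)) := by
    constructor
    intro a' ha'
    rw [halg] at ha'
    have h1 : IsUnit (e a') := isUnit_of_map_unit (algebraMap A (Rsh A Ω)) _ ha'
    have := h1.map (e.symm : A →+* A')
    simpa using this
  haveI : IsLocalHom (e : A' →+* A) := ⟨fun a ha => by
    have := ha.map (e.symm : A →+* A')
    simpa using this⟩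
  have hres : ∀ y : ResidueField A',
      algebraMap (ResidueField A') (ResidueField (Rsh A Ω)) y =
        algebraMap (ResidueField A) (ResidueField (Rsh A Ω))
          (ResidueField.map (e : A' →+* A) y) := by
    intro y
    obtain ⟨a', rfl⟩ := residue_surjective y
    rfl
  haveI : Hensel.IsStrictHenselization A' (Rsh A Ω) :=
    { henselian := hSH.henselian
      isSepClosure := by
        haveI := hSH.isSepClosure
        refine ⟨IsSepClosure.sep_closed (ResidueField A), ?_⟩
        haveI : Algebra.IsSeparable (ResidueField A) (ResidueField (Rsh A Ω)) :=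
          IsSepClosure.separable
        exact Algebra.IsSeparable.of_equiv_equiv (ResidueField.mapEquiv e.symm)
          (RingEquiv.refl (ResidueField (Rsh A Ω))) (by
            ext y
            obtain ⟨a, rfl⟩ := residue_surjective y
            simp only [RingHom.comp_apply, RingHom.coe_coe, RingEquiv.refl_apply]
            rw [hres]
            congr 1
            change ResidueField.map (e : A' →+* A) (ResidueField.map (e.symm : A →+* A')
              (residue A a)) = _
            rw [ResidueField.map_residue, ResidueField.map_residue]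
            simp)
      universal := by
        intro T' _ _ f _ τ hτ
        haveI : IsLocalHom (f.comp (e.symm : A →+* A')) := by
          constructor
          intro a ha
          have h1 : IsUnit (e.symm a) := isUnit_of_map_unit f _ ha
          have := h1.map (e : A' →+* A)
          simpa using this
        have hτ' : τ.comp (ResidueField.map (algebraMap A (Rsh A Ω))) =
            ResidueField.map (f.comp (e.symm : A →+* A')) := by
          ext y
          obtain ⟨a, rfl⟩ := residue_surjective y
          have h1 := congrArg (fun φ => φ (residue A' (e.symm a))) hτ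
          simp only [RingHom.comp_apply, ResidueField.map_residue] at h1 ⊢
          rw [halg, e.apply_symm_apply] at h1
          exact h1
        obtain ⟨g, ⟨hg1, hg2⟩, hguniq⟩ :=
          hSH.universal T' (f.comp (e.symm : A →+* A')) τ hτ'
        refine ⟨g, ⟨?_, hg2⟩, ?_⟩
        · ext a'
          have := congrArg (fun φ => φ (e a')) hg1
          simp only [RingHom.comp_apply] at this ⊢
          rw [halg, this]
          simp
        · rintro g' ⟨hg'1, hg'2⟩
          apply hguniq
          refine ⟨?_, hg'2⟩
          ext a
          have := congrArg (fun φ => φ (e.symm a)) hg'1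
          simp only [RingHom.comp_apply] at this ⊢
          rw [halg, e.apply_symm_apply] at this
          exact this }
  rw [← Groth.Agent.S9238.result A' (Rsh A Ω), ← Groth.Agent.S9238.result A (Rsh A Ω)]

/-- regularity of the strict henselization. -/
theorem isRegularLocalRing_Rsh_iff (A : Type u) [CommRing A] [IsLocalRing A] (Ω : Type u) [Field Ω]
    [Algebra A Ω] [Algebra (ResidueField A) Ω] [IsScalarTower A (ResidueField A) Ω]
    [IsSepClosure (ResidueField A) Ω] :
    IsRegularLocalRing (Rsh A Ω) ↔ IsRegularLocalRing A := by
  have hmax : (maximalIdeal A).map (algebraMap A (Rsh A Ω)) = maximalIdeal (Rsh A Ω) :=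
    maximalIdeal_eq_map.symm
  have hdim : ringKrullDim (Rsh A Ω) = ringKrullDim A := ringKrullDim_eq
  constructor
  · intro h
    haveI : IsNoetherianRing (Rsh A Ω) := inferInstance
    haveI : IsNoetherianRing A :=
      Groth.Agent.Lib.Helper2.NoethDesc.isNoetherianRing_of_faithfullyFlat (R := A) (S := Rsh A Ω)
    exact (Groth.Agent.Lib.LeadEtaleRegular.isRegularLocalRing_iff_of_faithfullyFlat A (Rsh A Ω)
      hmax hdim).1 h
  · intro h
    haveI : IsNoetherianRing A := inferInstance
    haveI : IsNoetherianRing (Rsh A Ω) := inferInstance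
    exact (Groth.Agent.Lib.LeadEtaleRegular.isRegularLocalRing_iff_of_faithfullyFlat A (Rsh A Ω)
      hmax hdim).2 h

end Ring

section Chart

variable {S : Scheme.{u}} (X : AlgSp.Space S) (p : FieldPt X.obj) (hp : p.IsGeometric)
  (U : Over S) (a : (AlgSp.yon S).obj U ⟶ X.obj) (ha : AlgSp.RepWith @Etale a) (u : ↥U.left)
  (hu : AlgSp.Points.ofPt a u = AlgSp.Points.mk p)

include hp ha hu

/-- the number of minimal primes of the étale local ring is the number of geometric branches of
any chart. -/
theorem encard_minimalPrimes_OEtStalk :
    (minimalPrimes ↥(OEtStalk p)).encard = Brnch.numGeomBranchesAt U.left u := by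
  obtain ⟨A, _, _, Ω, _, _, _, _, _, ⟨e₁⟩, ⟨e⟩⟩ :=
    Groth.Agent.Lib.T2H1.OEtShE.exists_ringEquiv_Rsh X p hp U a ha u hu
  unfold Brnch.numGeomBranchesAt
  rw [← numGeomBranches_eq_of_ringEquiv e₁,
    Groth.Agent.Lib.T2H1.GeomBranchCount.numGeomBranches_eq_encard A Ω]
  exact Groth.Agent.Lib.T2H1.BranchCount.encard_minimalPrimes_eq_of_ringEquiv e

/-- the étale local ring is regular iff the local ring of any chart is. -/
theorem isRegularLocalRing_OEtStalk_iff :
    IsRegularLocalRing ↥(OEtStalk p) ↔ IsRegularLocalRing ↥(U.left.presheaf.stalk u) := by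
  obtain ⟨A, _, _, Ω, _, _, _, _, _, ⟨e₁⟩, ⟨e⟩⟩ :=
    Groth.Agent.Lib.T2H1.OEtShE.exists_ringEquiv_Rsh X p hp U a ha u hu
  constructor
  · intro h
    haveI : IsRegularLocalRing (Rsh A Ω) := IsRegularLocalRing.of_ringEquiv e
    haveI : IsRegularLocalRing A := (isRegularLocalRing_Rsh_iff A Ω).1 inferInstance
    exact IsRegularLocalRing.of_ringEquiv e₁
  · intro h
    haveI : IsRegularLocalRing A := IsRegularLocalRing.of_ringEquiv e₁.symm
    haveI : IsRegularLocalRing (Rsh A Ω) := (isRegularLocalRing_Rsh_iff A Ω).2 inferInstance
    exact IsRegularLocalRing.of_ringEquiv e.symm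

end Chart

end Groth.Agent.Lib.T2H1.OEtShF
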