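import Mathlib
import Groth.Agent.Lib.T2H1OEtShF
import Groth.Agent.Lib.Helper9SpPoint6
import Groth.Agent.S10448
import Groth.Agent.S9236

/-!
# Geometric branches of an algebraic space at a point via charts and the étale local ring
(helper1, team 2)
-/

set_option autoImplicit false
set_option linter.style.haveILetI false
set_option backward.isDefEq.respectTransparency false
open CategoryTheory CategoryTheory.Limits AlgebraicGeometry Opposite IsLocalRing
universe u

namespace Groth.Agent.Lib.T2H1.OEtShG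

open AlgSp

variable {S : Scheme.{u}}

section Chart

variable {X : AlgSp.Sp S} {U : Over S} (a : (AlgSp.yon S).obj U ⟶ X) {V : Scheme.{u}}
  (g : V ⟶ U.left)

/-- a scheme étale over a chart, as a scheme over `S`. -/
noncomputable abbrev chartOver : Over S := Over.mk (g ≫ U.hom)

/-- a scheme étale over a chart, as a chart. -/
noncomputable abbrev chartHom : (AlgSp.yon S).obj (chartOver g) ⟶ X :=
  (AlgSp.yon S).map (Over.homMk g rfl : chartOver g ⟶ U) ≫ a

lemma repWith_chartHom (ha : AlgSp.RepWith @Etale a) [Etale g] :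
    AlgSp.RepWith @Etale (chartHom a g) :=
  (AlgSp.RepWith (S := S) @Etale).comp_mem _ _
    ((AlgSp.repWith_yon_map_iff @Etale (Over.homMk g rfl : chartOver g ⟶ U)).2 ‹Etale g›) ha

lemma ofPt_chartHom (v : V) : AlgSp.Points.ofPt (chartHom a g) v = AlgSp.Points.ofPt a (g v) :=
  Groth.Agent.Lib.Helper9.SpPoint.ofPt_yon_map_comp
    (Over.homMk g rfl : chartOver g ⟶ U) a v

end Chart

section Main

variable (X : AlgSp.Space S) (x : AlgSp.Points X.obj)

/-- the number of geometric branches does not depend on the chart. -/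
theorem numGeomBranchesAt_eq {U U' : Over S} (a : (AlgSp.yon S).obj U ⟶ X.obj)
    (ha : AlgSp.RepWith @Etale a) (u : ↥U.left) (hu : AlgSp.Points.ofPt a u = x)
    (a' : (AlgSp.yon S).obj U' ⟶ X.obj) (ha' : AlgSp.RepWith @Etale a') (u' : ↥U'.left)
    (hu' : AlgSp.Points.ofPt a' u' = x) :
    Brnch.numGeomBranchesAt U.left u = Brnch.numGeomBranchesAt U'.left u' := by
  obtain ⟨p, hp, hpx⟩ := Groth.Agent.Lib.Helper9.SpPoint.exists_geometric_over x
  rw [← Groth.Agent.Lib.T2H1.OEtShF.encard_minimalPrimes_OEtStalk X p hp U a ha u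
      (hu.trans hpx.symm),
    ← Groth.Agent.Lib.T2H1.OEtShF.encard_minimalPrimes_OEtStalk X p hp U' a' ha' u'
      (hu'.trans hpx.symm)]

/-- the local ring of a chart has at most as many minimal primes as geometric branches. -/
theorem encard_minimalPrimes_le (V : Scheme.{u}) (v : V) :
    (minimalPrimes ↥(V.presheaf.stalk v)).encard ≤ Brnch.numGeomBranchesAt V v :=
  Groth.Agent.Lib.T2H1.GeomBranchCount.encard_minimalPrimes_stalk_le_numGeomBranchesAt (𝟙 V) v

variable {X x}

/-- some chart realizes any finite lower bound for the number of geometric branches. -/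
theorem exists_chart_le_encard {U : Over S} (a : (AlgSp.yon S).obj U ⟶ X.obj)
    (ha : AlgSp.RepWith @Etale a) (u : ↥U.left) (hu : AlgSp.Points.ofPt a u = x) (k : ℕ)
    (hk : (k : ℕ∞) ≤ Brnch.numGeomBranchesAt U.left u) :
    ∃ (U' : Over S) (a' : (AlgSp.yon S).obj U' ⟶ X.obj) (u' : ↥U'.left),
      AlgSp.RepWith @Etale a' ∧ AlgSp.Points.ofPt a' u' = x ∧
        (k : ℕ∞) ≤ (minimalPrimes ↥(U'.left.presheaf.stalk u')).encard := by
  obtain ⟨V, g, v, hg, hgv, hle⟩ :=
    Groth.Agent.Lib.T2H1.GeomBranchCount.exists_etale_nbhd_le_encard U.left u k hk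
  haveI := hg
  refine ⟨chartOver g, chartHom a g, v, repWith_chartHom a g ha, ?_, hle⟩
  rw [ofPt_chartHom, hgv, hu]

end Main

end Groth.Agent.Lib.T2H1.OEtShG
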