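import Mathlib

/-! Rings all of whose ideals are flat: local rings are valuation rings. -/

namespace Groth.Agent.Lib.T2H9.WeakDimOne

universe u

section LocalCase

variable {R : Type u} [CommRing R] [IsLocalRing R]

/-- In a local ring whose principal ideals are flat there are no zero divisors. -/
theorem isDomain_of_flat_span_singleton
    (h : ∀ a : R, Module.Flat R (Ideal.span {a} : Ideal R)) : IsDomain R := by
  have hnzd : NoZeroDivisors R := by
    constructor
    intro a b hab
    by_contra hne
    push Not at hne
    obtain ⟨ha, hb⟩ := hne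
    have hflat := h b
    have hfin : Module.Finite R (Ideal.span {b} : Ideal R) :=
      Module.Finite.iff_fg.mpr (Submodule.fg_span_singleton b)
    have hfree : Module.Free R (Ideal.span {b} : Ideal R) := Module.free_of_flat_of_isLocalRing
    let B := Module.Free.chooseBasis R (Ideal.span {b} : Ideal R)
    have hbb : (⟨b, Ideal.subset_span rfl⟩ : (Ideal.span {b} : Ideal R)) ≠ 0 := by
      intro h0
      exact hb (congrArg Subtype.val h0)
    have hne : Nonempty (Module.Free.ChooseBasisIndex R (Ideal.span {b} : Ideal R)) := by
      by_contra hemp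
      rw [not_nonempty_iff] at hemp
      apply hbb
      apply B.repr.injective
      exact Subsingleton.elim _ _
    obtain ⟨i⟩ := hne
    have hann : a • B i = 0 := by
      apply Subtype.ext
      obtain ⟨r, hr⟩ := Ideal.mem_span_singleton'.mp (B i).2
      change a * ((B i : (Ideal.span {b} : Ideal R)) : R) = 0
      rw [← hr, mul_comm r b, ← mul_assoc, hab, zero_mul]
    have h1 : B.repr (a • B i) i = a := by
      rw [map_smul, B.repr_self, Finsupp.smul_apply, Finsupp.single_eq_same, smul_eq_mul, mul_one]
    rw [hann, map_zero, Finsupp.zero_apply] at h1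
    exact ha h1.symm
  exact { }

/-- A free ideal of a nontrivial commutative ring is principal. -/
theorem isPrincipal_of_free (I : Ideal R) [Module.Free R I] : I.IsPrincipal := by
  let B := Module.Free.chooseBasis R I
  have hsub : Subsingleton (Module.Free.ChooseBasisIndex R I) := by
    constructor
    intro i j
    by_contra hij
    have hrel : ((B j : I) : R) • B i = ((B i : I) : R) • B j := by
      apply Subtype.ext
      change ((B j : I) : R) * ((B i : I) : R) = ((B i : I) : R) * ((B j : I) : R)
      exact mul_comm _ _
    have h1 : B.repr (((B j : I) : R) • B i) i = ((B j : I) : R) := by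
      rw [map_smul, B.repr_self, Finsupp.smul_apply, Finsupp.single_eq_same, smul_eq_mul, mul_one]
    have h2 : B.repr (((B i : I) : R) • B j) i = 0 := by
      rw [map_smul, B.repr_self, Finsupp.smul_apply, Finsupp.single_eq_of_ne hij, smul_zero]
    rw [hrel, h2] at h1
    exact B.ne_zero j (Subtype.ext h1.symm)
  rcases isEmpty_or_nonempty (Module.Free.ChooseBasisIndex R I) with hemp | ⟨⟨i⟩⟩
  · have hbot : I = ⊥ := by
      rw [eq_bot_iff]
      intro x hx
      have h0 : (⟨x, hx⟩ : I) = 0 := by
        apply B.repr.injective
        exact Subsingleton.elim _ _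
      exact congrArg Subtype.val h0
    rw [hbot]
    exact bot_isPrincipal
  · refine ⟨⟨((B i : I) : R), ?_⟩⟩
    apply le_antisymm
    · intro x hx
      have hx' : (⟨x, hx⟩ : I) = B.repr ⟨x, hx⟩ i • B i := by
        conv_lhs => rw [← B.linearCombination_repr ⟨x, hx⟩]
        have hs : B.repr ⟨x, hx⟩ = Finsupp.single i (B.repr ⟨x, hx⟩ i) := by
          ext j
          rw [Subsingleton.elim j i, Finsupp.single_eq_same]
        rw [hs, Finsupp.linearCombination_single, Finsupp.single_eq_same]
      have hx'' : x = B.repr ⟨x, hx⟩ i * ((B i : I) : R) := congrArg Subtype.val hx'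
      rw [hx'']
      exact Ideal.mul_mem_left _ _ (Ideal.subset_span rfl)
    · rw [Submodule.span_singleton_le_iff_mem]
      exact (B i).2

/-- A local ring whose finitely generated ideals are flat is a valuation domain. -/
theorem valuationRing_of_flat_fg (h : ∀ I : Ideal R, I.FG → Module.Flat R I) :
    ∃ _ : IsDomain R, ValuationRing R := by
  have hdom : IsDomain R :=
    isDomain_of_flat_span_singleton (fun a => h _ (Submodule.fg_span_singleton a))
  refine ⟨hdom, ?_⟩
  rw [ValuationRing.iff_local_bezout_domain]
  refine ⟨inferInstance, ?_⟩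
  rw [IsBezout.iff_span_pair_isPrincipal]
  intro x y
  have hfg : (Ideal.span {x, y} : Ideal R).FG :=
    Submodule.fg_span (Set.toFinite ({x, y} : Set R))
  have hflat := h _ hfg
  have hfin : Module.Finite R (Ideal.span {x, y} : Ideal R) := Module.Finite.iff_fg.mpr hfg
  have hfree : Module.Free R (Ideal.span {x, y} : Ideal R) := Module.free_of_flat_of_isLocalRing
  exact isPrincipal_of_free _

end LocalCase

section Localize

variable {A : Type u} [CommRing A]

/-- Every finitely generated ideal of a localization is extended from a finitely generated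
ideal. -/
theorem exists_fg_map_eq (S : Submonoid A) (R : Type u) [CommRing R] [Algebra A R]
    [IsLocalization S R] (J : Ideal R) (hJ : J.FG) :
    ∃ I : Ideal A, I.FG ∧ I.map (algebraMap A R) = J := by
  refine Submodule.fg_induction (R := R) (M := R)
    (motive := fun J _ => ∃ I : Ideal A, I.FG ∧ I.map (algebraMap A R) = J) ?_ ?_ J hJ
  · intro x
    obtain ⟨⟨a, s⟩, hs⟩ := IsLocalization.surj S x
    refine ⟨Ideal.span {a}, Submodule.fg_span_singleton a, ?_⟩
    rw [Ideal.map_span, Set.image_singleton]
    change Ideal.span {algebraMap A R a} = Ideal.span {x}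
    have hu : IsUnit (algebraMap A R s) := IsLocalization.map_units R s
    simp only at hs
    rw [← hs]
    exact Ideal.span_singleton_mul_right_unit hu x
  · intro J₁ J₂ _ _ h₁ h₂
    obtain ⟨I₁, hI₁, rfl⟩ := h₁
    obtain ⟨I₂, hI₂, rfl⟩ := h₂
    exact ⟨I₁ ⊔ I₂, Submodule.FG.sup hI₁ hI₂, Ideal.map_sup _ _ _⟩

/-- Flatness of an ideal passes to its extension in a localization. -/
theorem flat_map_of_flat (S : Submonoid A) (R : Type u) [CommRing R] [Algebra A R]
    [IsLocalization S R] (I : Ideal A) [Module.Flat A I] :
    Module.Flat R (I.map (algebraMap A R)) := by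
  have h1 : Module.Flat R (Submodule.localized' R S (Algebra.linearMap A R) I) :=
    Module.Flat.of_isLocalizedModule R S (Submodule.toLocalized' R S (Algebra.linearMap A R) I)
  have h2 := Ideal.localized'_eq_map R S I
  rw [h2] at h1
  exact h1

theorem valuationRing_localization_of_flat_fg
    (h : ∀ I : Ideal A, I.FG → Module.Flat A I) (p : Ideal A) [p.IsPrime] :
    ∃ _ : IsDomain (Localization.AtPrime p), ValuationRing (Localization.AtPrime p) := by
  apply valuationRing_of_flat_fg
  intro J hJ
  obtain ⟨I, hI, rfl⟩ := exists_fg_map_eq p.primeCompl (Localization.AtPrime p) J hJ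
  have := h I hI
  exact flat_map_of_flat p.primeCompl (Localization.AtPrime p) I

/-- If all local rings are valuation domains, submodules of flat modules are flat. -/
theorem flat_submodule_of_valuationRing_localization
    (h : ∀ (p : Ideal A) [p.IsPrime],
      ∃ _ : IsDomain (Localization.AtPrime p), ValuationRing (Localization.AtPrime p))
    (M : Type u) [AddCommGroup M] [Module A M] [Module.Flat A M] (N : Submodule A M) :
    Module.Flat A N := by
  apply Module.flat_of_localized_maximal
  intro P hP
  rw [← Module.flat_iff_of_isLocalization (Localization.AtPrime P) P.primeCompl]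
  obtain ⟨hdom, hval⟩ := h P
  rw [Module.Flat.flat_iff_torsion_eq_bot_of_isBezout]
  have hM : Module.Flat (Localization.AtPrime P) (LocalizedModule P.primeCompl M) := inferInstance
  rw [Module.Flat.flat_iff_torsion_eq_bot_of_isBezout] at hM
  have hinj : Function.Injective (LocalizedModule.map P.primeCompl N.subtype) :=
    LocalizedModule.map_injective P.primeCompl N.subtype N.subtype_injective
  rw [eq_bot_iff]
  intro x hx
  rw [Submodule.mem_torsion_iff] at hx
  obtain ⟨a, ha⟩ := hx
  have h1 : LocalizedModule.map P.primeCompl N.subtype x ∈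
      Submodule.torsion (Localization.AtPrime P) (LocalizedModule P.primeCompl M) := by
    rw [Submodule.mem_torsion_iff]
    refine ⟨a, ?_⟩
    have h2 := congrArg (LocalizedModule.map P.primeCompl N.subtype) ha
    rw [map_zero] at h2
    rw [← h2]
    exact (LinearMap.map_smul (LocalizedModule.map P.primeCompl N.subtype)
      (a : Localization.AtPrime P) x).symm
  rw [hM] at h1
  rw [Submodule.mem_bot] at h1 ⊢
  exact hinj (by rw [h1, map_zero])

end Localize

end Groth.Agent.Lib.T2H9.WeakDimOne
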