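import Mathlib
import Groth.Agent.S1968
import Groth.Agent.Lib.T2H9WeakDimOne
import Groth.Agent.Lib.Helper14WEFlat

/-!
# Weakly étale algebras over a normal domain (Stacks 092U–092W)

If `A` is a normal domain with fraction field `K` and `B` is weakly étale over `A`, then `B` is
integrally closed in `B ⊗[A] K`.  The proof follows the Stacks project: embed `A` as the fibre
product `K ×_L V` where `V` is the product of all valuation rings of `K` containing `A` and `L` is
the corresponding product of copies of `K`; `V` has weak dimension `≤ 1`, hence so does `V ⊗[A] B`,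
whose local rings are therefore valuation rings; thus `V ⊗[A] B` is integrally closed in its
localization `L ⊗[A] B`, and one descends along the (flat base change of the) cartesian square.
-/

set_option autoImplicit false
universe u
open TensorProduct Polynomial

namespace Groth.Agent.Lib.T2H1.WEtNormal

theorem exists_algebraMap_eq_of_isIntegral
    {R : Type*} [CommRing R]
    (hR : ∀ (p : Ideal R) [p.IsPrime], ∃ _ : IsDomain (Localization.AtPrime p),
      ValuationRing (Localization.AtPrime p))
    (M : Submonoid R) (hM : M ≤ nonZeroDivisors R) {T : Type*} [CommRing T] [Algebra R T]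
    [IsLocalization M T] (y : T) (hy : IsIntegral R y) : ∃ r : R, algebraMap R T r = y := by
  classical
  let N : Submodule R T := LinearMap.range (Algebra.linearMap R T)
  let D : Ideal R := N.colon {y}
  by_contra hcon
  have hD : D ≠ ⊤ := by
    intro h
    have h1 : (1 : R) ∈ D := h ▸ Submodule.mem_top
    have h1 := Submodule.mem_colon_singleton.mp h1
    obtain ⟨r, hr⟩ := h1
    exact hcon ⟨r, by simpa using hr⟩
  obtain ⟨p, hpmax, hDp⟩ := Ideal.exists_le_maximal D hD
  have hpp : p.IsPrime := hpmax.isPrime
  obtain ⟨hdom, hval⟩ := hR p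
  let Rp := Localization.AtPrime p
  let F := FractionRing Rp
  let f : R →+* F := (algebraMap Rp F).comp (algebraMap R Rp)
  have hfM : ∀ m : M, IsUnit (f m) := by
    intro m
    refine IsUnit.mk0 _ ?_
    intro h0
    have h1 : algebraMap R Rp (m : R) = 0 := by
      apply IsFractionRing.injective Rp F
      simpa [f] using h0
    obtain ⟨t, ht⟩ := (IsLocalization.map_eq_zero_iff p.primeCompl Rp _).mp h1
    have h2 : (t : R) = 0 := by
      have := hM m.2
      exact (mem_nonZeroDivisors_iff.mp this).1 _ (by rw [mul_comm]; exact ht) 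
    exact t.2 (h2 ▸ p.zero_mem)
  let g : T →+* F := IsLocalization.lift (M := M) hfM
  have hg : ∀ r, g (algebraMap R T r) = f r := fun r => IsLocalization.lift_eq hfM r
  -- g y integral over Rp
  have hint : IsIntegral Rp (g y) := by
    obtain ⟨P, hP, hPy⟩ := hy
    refine ⟨P.map (algebraMap R Rp), hP.map _, ?_⟩
    rw [Polynomial.eval₂_map]
    have : eval₂ (g.comp (algebraMap R T)) (g y) P = 0 := by
      rw [← Polynomial.hom_eval₂, hPy, map_zero]
    have hc : g.comp (algebraMap R T) = (algebraMap Rp F).comp (algebraMap R Rp) :=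
      RingHom.ext hg
    rwa [hc] at this
  obtain ⟨z, hz⟩ := IsIntegrallyClosed.isIntegral_iff.mp hint
  obtain ⟨a, s, rfl⟩ := IsLocalization.exists_mk'_eq p.primeCompl z
  obtain ⟨b, m, rfl⟩ := IsLocalization.exists_mk'_eq M y
  have e1 : g (IsLocalization.mk' T b m) * f m = f b := by
    rw [← hg, ← map_mul, IsLocalization.mk'_spec, hg]
  have e2 : algebraMap Rp F (IsLocalization.mk' Rp a s) * f s = f a := by
    show _ * (algebraMap Rp F) (algebraMap R Rp s) = (algebraMap Rp F) (algebraMap R Rp a)
    rw [← map_mul, IsLocalization.mk'_spec]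
  have e3 : f (a * m - b * s) = 0 := by
    rw [map_sub, map_mul, map_mul, ← e1, ← e2, hz]
    ring
  have e4 : algebraMap R Rp (a * m - b * s) = 0 := by
    apply IsFractionRing.injective Rp F
    simpa [f] using e3
  obtain ⟨t, ht⟩ := (IsLocalization.map_eq_zero_iff p.primeCompl Rp _).mp e4
  have hts : (t : R) * s ∈ D := by
    refine Submodule.mem_colon_singleton.mpr ⟨(t : R) * a, ?_⟩
    have hu : IsUnit (algebraMap R T (m : R)) := IsLocalization.map_units T m
    apply hu.mul_right_cancel
    rw [Algebra.linearMap_apply, Algebra.smul_def, mul_assoc, IsLocalization.mk'_spec, ← map_mul,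
      ← map_mul]
    congr 1
    have : (t : R) * (a * m - b * s) = 0 := ht
    linear_combination this
  have := hDp hts
  rcases hpp.mem_or_mem this with h | h
  · exact t.2 h
  · exact s.2 h

theorem locVal_tensor (A B V : Type u) [CommRing A] [CommRing B] [CommRing V] [Algebra A B]
    [Algebra A V] [Algebra.WeaklyEtale A B] (hV : ∀ I : Ideal V, Module.Flat V I)
    (p : Ideal (V ⊗[A] B)) [p.IsPrime] :
    ∃ _ : IsDomain (Localization.AtPrime p), ValuationRing (Localization.AtPrime p) := by
  have h4 := fun (q : Ideal V) [q.IsPrime] =>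
    Groth.Agent.Lib.T2H9.WeakDimOne.valuationRing_localization_of_flat_fg (fun I _ => hV I) q
  have hflat : ∀ I : Ideal (V ⊗[A] B), I.FG → Module.Flat (V ⊗[A] B) I := by
    intro I _
    have hI : Module.Flat V (I.restrictScalars V) :=
      Groth.Agent.Lib.T2H9.WeakDimOne.flat_submodule_of_valuationRing_localization h4
        (V ⊗[A] B) (I.restrictScalars V)
    have hI' : Module.Flat V I := hI
    exact Groth.Agent.Lib.Helper14.WEFlat.flat_of_flat_of_weaklyEtale V (V ⊗[A] B) I
  exact Groth.Agent.Lib.T2H9.WeakDimOne.valuationRing_localization_of_flat_fg hflat p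

variable (A : Type u) [CommRing A] [IsDomain A] (K : Type u) [Field K] [Algebra A K]

/-- index set: valuation subrings containing the image of A -/
abbrev JJ : Type u := {W : ValuationSubring K // (algebraMap A K).range ≤ W.toSubring}

/-- product of all valuation rings of `K` containing `A` -/
abbrev VV : Type u := ∀ j : JJ A K, ↥j.1

/-- product of copies of `K` -/
abbrev LL : Type u := JJ A K → K

/-- the diagonal map `A → ∏ W` -/
noncomputable def toVV : A →+* VV A K :=
  Pi.ringHom fun j => (algebraMap A K).codRestrict j.1 (fun a => j.2 ⟨a, rfl⟩)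

/-- the `A`-algebra structure on `∏ W` (local instance) -/
@[reducible] noncomputable def algVV : Algebra A (VV A K) := (toVV A K).toAlgebra

attribute [local instance] algVV

theorem towerVL : IsScalarTower A (VV A K) (LL A K) :=
  IsScalarTower.of_algebraMap_eq fun _ => rfl

attribute [local instance] towerVL

theorem algebraMap_VV_apply (a : A) (j : JJ A K) :
    ((algebraMap A (VV A K) a) j : K) = algebraMap A K a := rfl

/-- the quotient map `K → L / V` -/
noncomputable def qmap : K →ₗ[A] (LL A K ⧸ LinearMap.range (IsScalarTower.toAlgHom A (VV A K) (LL A K)).toLinearMap) :=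
  (LinearMap.range (IsScalarTower.toAlgHom A (VV A K) (LL A K)).toLinearMap).mkQ ∘ₗ
    (Pi.constAlgHom A (JJ A K) K).toLinearMap

variable [IsIntegrallyClosed A] [IsFractionRing A K]

theorem exact_qmap : Function.Exact (Algebra.linearMap A K) (qmap A K) := by
  intro k
  simp only [qmap, LinearMap.coe_comp, Function.comp_apply, Submodule.mkQ_apply,
    Submodule.Quotient.mk_eq_zero, LinearMap.mem_range, Set.mem_range]
  constructor
  · rintro ⟨v, hv⟩
    by_contra hk
    have hk' : k ∉ (algebraMap A K).range := fun ⟨a, ha⟩ => hk ⟨a, ha⟩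
    have hic : IsIntegrallyClosedIn (algebraMap A K).range K := by
      rw [Subring.isIntegrallyClosedIn_iff]
      intro x hx
      have hx' : IsIntegral A x := by
        obtain ⟨P, hP, hPx⟩ := hx
        have hl : P ∈ Polynomial.lifts (algebraMap A K).rangeRestrict := by
          rw [Polynomial.mem_lifts]
          exact Polynomial.map_surjective _ (algebraMap A K).rangeRestrict_surjective P
        obtain ⟨Q, hQ, -, hQm⟩ := Polynomial.lifts_and_natDegree_eq_and_monic hl hP
        refine ⟨Q, hQm, ?_⟩
        rw [← hQ, Polynomial.eval₂_map] at hPx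
        exact hPx
      obtain ⟨a, ha⟩ := IsIntegrallyClosed.isIntegral_iff.mp hx'
      exact ⟨a, ha⟩
    obtain ⟨W, hW, hkW⟩ := Subring.exists_le_valuationSubring_of_isIntegrallyClosedIn hk'
    have := congr_fun hv ⟨W, hW⟩
    apply hkW
    have h2 : ((v ⟨W, hW⟩ : ↥W) : K) = k := this
    rw [← h2]
    exact (v ⟨W, hW⟩).2
  · rintro ⟨a, rfl⟩
    exact ⟨algebraMap A (VV A K) a, rfl⟩

theorem nzd_tensor (A B V : Type u) [CommRing A] [CommRing B] [Algebra A B] [Module.Flat A B]
    [CommRing V] [Algebra A V] :
    Algebra.algebraMapSubmonoid (V ⊗[A] B) (nonZeroDivisors V) ≤ nonZeroDivisors (V ⊗[A] B) := by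
  rintro _ ⟨s, hs, rfl⟩
  rw [mem_nonZeroDivisors_iff_right]
  intro z hz
  have hreg : IsSMulRegular (V ⊗[A] B) s := Module.Flat.isSMulRegular_of_nonZeroDivisors hs
  apply hreg
  show s • z = s • 0
  rw [smul_zero, Algebra.smul_def, mul_comm]
  exact hz

variable (A : Type u) [CommRing A] [IsDomain A] (K : Type u) [Field K] [Algebra A K]
variable [IsIntegrallyClosed A] [IsFractionRing A K]
variable (B : Type u) [CommRing B] [Algebra A B] [Algebra.WeaklyEtale A B]

theorem main_aux (x : K ⊗[A] B)
    (hx : (Algebra.TensorProduct.includeRight : B →ₐ[A] K ⊗[A] B).toRingHom.IsIntegralElem x) :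
    ∃ b : B, (1 : K) ⊗ₜ[A] b = x := by
  obtain ⟨hV1, hV2⟩ := Groth.Agent.S1968.result (J := JJ A K) (fun j => ↥j.1) (fun _ => K)
  -- the rings
  let R' := VV A K ⊗[A] B
  let T' := LL A K ⊗[A] B
  let ψ : R' →ₐ[A] T' :=
    Algebra.TensorProduct.map (IsScalarTower.toAlgHom A (VV A K) (LL A K)) (AlgHom.id A B)
  letI : Algebra R' T' := ψ.toRingHom.toAlgebra
  haveI : IsScalarTower (VV A K) R' T' := IsScalarTower.of_algebraMap_eq fun v => by
    show _ = ψ (v ⊗ₜ 1)
    rw [Algebra.TensorProduct.map_tmul, Algebra.TensorProduct.algebraMap_apply]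
    rfl
  haveI : IsLocalization (nonZeroDivisors (VV A K)) (LL A K) := hV2
  haveI hloc : IsLocalization (Algebra.algebraMapSubmonoid R' (nonZeroDivisors (VV A K))) T' := by
    refine IsLocalization.tensorProduct_tensorProduct A B (nonZeroDivisors (VV A K)) (LL A K) ?_
    ext b
    show ψ ((1 : VV A K) ⊗ₜ b) = (1 : LL A K) ⊗ₜ b
    rw [Algebra.TensorProduct.map_tmul, map_one]
    rfl
  let φ : K ⊗[A] B →ₐ[A] T' :=
    Algebra.TensorProduct.map (Pi.constAlgHom A (JJ A K) K) (AlgHom.id A B)
  -- integrality of φ x
  have hint : IsIntegral R' (φ x) := by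
    obtain ⟨P, hP, hPx⟩ := hx
    refine ⟨P.map (Algebra.TensorProduct.includeRight : B →ₐ[A] R').toRingHom, hP.map _, ?_⟩
    rw [Polynomial.eval₂_map]
    have h1 : Polynomial.eval₂ (φ.toRingHom.comp
        (Algebra.TensorProduct.includeRight : B →ₐ[A] K ⊗[A] B).toRingHom) (φ x) P = 0 := by
      have := congrArg φ.toRingHom hPx
      rw [Polynomial.hom_eval₂, map_zero] at this
      exact this
    have hc : φ.toRingHom.comp (Algebra.TensorProduct.includeRight : B →ₐ[A] K ⊗[A] B).toRingHom =
        (algebraMap R' T').comp (Algebra.TensorProduct.includeRight : B →ₐ[A] R').toRingHom := by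
      ext b
      show φ ((1 : K) ⊗ₜ b) = ψ ((1 : VV A K) ⊗ₜ b)
      rw [Algebra.TensorProduct.map_tmul, Algebra.TensorProduct.map_tmul, map_one, map_one]
    rwa [hc] at h1
  obtain ⟨r, hr⟩ := exists_algebraMap_eq_of_isIntegral
    (fun p _ => locVal_tensor A B (VV A K) hV1 p)
    (Algebra.algebraMapSubmonoid R' (nonZeroDivisors (VV A K)))
    (nzd_tensor A B (VV A K)) (φ x) hint
  -- the cartesian square
  let iV : VV A K →ₗ[A] LL A K := (IsScalarTower.toAlgHom A (VV A K) (LL A K)).toLinearMap
  let iK : K →ₗ[A] LL A K := (Pi.constAlgHom A (JJ A K) K).toLinearMap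
  have hφ : ∀ z, φ z = (iK.rTensor B) z := by
    intro z
    induction z using TensorProduct.induction_on with
    | zero => simp
    | tmul k b => rfl
    | add z w hz hw => rw [map_add, map_add, hz, hw]
  have hψ : ∀ z, ψ z = (iV.rTensor B) z := by
    intro z
    induction z using TensorProduct.induction_on with
    | zero => simp
    | tmul k b => rfl
    | add z w hz hw => rw [map_add, map_add, hz, hw]
  have hex := Module.Flat.rTensor_exact B (exact_qmap A K)
  have h0 : ((qmap A K).rTensor B) x = 0 := by
    have hq : qmap A K = (LinearMap.range iV).mkQ ∘ₗ iK := rfl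
    rw [hq, LinearMap.rTensor_comp, LinearMap.comp_apply, ← hφ, ← hr]
    show ((LinearMap.range iV).mkQ.rTensor B) (ψ r) = 0
    rw [hψ, ← LinearMap.comp_apply, ← LinearMap.rTensor_comp, LinearMap.range_mkQ_comp,
      LinearMap.rTensor_zero, LinearMap.zero_apply]
  obtain ⟨t, ht⟩ := (hex x).mp h0
  refine ⟨TensorProduct.lid A B t, ?_⟩
  have ht' : t = (1 : A) ⊗ₜ[A] (TensorProduct.lid A B t) := by
    rw [← TensorProduct.lid_symm_apply, LinearEquiv.symm_apply_apply]
  rw [← ht]
  conv_rhs => rw [ht']
  rw [LinearMap.rTensor_tmul, Algebra.linearMap_apply, map_one]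

theorem main (A : Type u) [CommRing A] [IsDomain A] [IsIntegrallyClosed A]
    (K : Type u) [Field K] [Algebra A K] [IsFractionRing A K] (B : Type u) [CommRing B] [Algebra A B]
    [Algebra.WeaklyEtale A B] :
    IsIntegrallyClosedIn B (B ⊗[A] K) := by
  rw [isIntegrallyClosedIn_iff]
  constructor
  · have hinj : Function.Injective ((Algebra.linearMap A K).lTensor B) :=
      Module.Flat.lTensor_preserves_injective_linearMap _ (IsFractionRing.injective A K)
    intro b b' hbb
    have h1 : ((Algebra.linearMap A K).lTensor B) (b ⊗ₜ 1) =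
        ((Algebra.linearMap A K).lTensor B) (b' ⊗ₜ 1) := by
      simpa [Algebra.TensorProduct.algebraMap_apply] using hbb
    have h2 := hinj h1
    have h3 := congrArg (TensorProduct.rid A B) h2
    simpa using h3
  · intro x hx
    let c := Algebra.TensorProduct.comm A B K
    have hcx : (Algebra.TensorProduct.includeRight : B →ₐ[A] K ⊗[A] B).toRingHom.IsIntegralElem
        (c x) := by
      obtain ⟨P, hP, hPx⟩ := hx
      refine ⟨P, hP, ?_⟩
      have h1 := congrArg c.toAlgHom.toRingHom hPx
      rw [Polynomial.hom_eval₂, map_zero] at h1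
      have hc : c.toAlgHom.toRingHom.comp (algebraMap B (B ⊗[A] K)) =
          (Algebra.TensorProduct.includeRight : B →ₐ[A] K ⊗[A] B).toRingHom := by
        ext b
        show c (algebraMap B (B ⊗[A] K) b) = (1 : K) ⊗ₜ b
        rw [Algebra.TensorProduct.algebraMap_apply]
        simp [c]
      rw [hc] at h1
      exact h1
    obtain ⟨b, hb⟩ := main_aux A K B (c x) hcx
    refine ⟨b, ?_⟩
    apply c.injective
    rw [← hb, Algebra.TensorProduct.algebraMap_apply]
    simp [c]

/-! ## Appended: a local weakly étale algebra over a normal domain is a normal domain -/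

section Normal

theorem idem_local {B : Type*} [CommRing B] [IsLocalRing B] {e : B} (he : e * e = e) :
    e = 0 ∨ e = 1 := by
  have h : e * (1 - e) = 0 := by rw [mul_sub, mul_one, he, sub_self]
  rcases IsLocalRing.isUnit_or_isUnit_one_sub_self e with hu | hu
  · right
    have := hu.mul_left_cancel (h.trans (mul_zero e).symm)
    exact (sub_eq_zero.mp this).symm
  · left
    rw [mul_comm] at h
    exact hu.mul_left_cancel (h.trans (mul_zero _).symm)

attribute [local instance] Algebra.TensorProduct.rightAlgebra

variable (A : Type u) [CommRing A] [IsDomain A] [IsIntegrallyClosed A]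
  (B : Type u) [CommRing B] [IsLocalRing B] [Algebra A B] [Algebra.WeaklyEtale A B]

theorem isField_tensor : IsField (FractionRing A ⊗[A] B) := by
  let K := FractionRing A
  let C := K ⊗[A] B
  have hinj0 : Function.Injective (fun b : B => (1 : K) ⊗ₜ[A] b) := by
    have h1 : Function.Injective ((Algebra.linearMap A K).rTensor B) :=
      Module.Flat.rTensor_preserves_injective_linearMap _ (IsFractionRing.injective A K)
    intro b b' hbb
    have h2 : ((Algebra.linearMap A K).rTensor B) ((1 : A) ⊗ₜ b) =
        ((Algebra.linearMap A K).rTensor B) ((1 : A) ⊗ₜ b') := by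
      rw [LinearMap.rTensor_tmul, LinearMap.rTensor_tmul, Algebra.linearMap_apply, map_one]
      exact hbb
    have h3 := congrArg (TensorProduct.lid A B) (h1 h2)
    rwa [TensorProduct.lid_tmul, TensorProduct.lid_tmul, one_smul, one_smul] at h3
  have hinj : Function.Injective (algebraMap B C) := hinj0
  have hidem : ∀ e : C, e * e = e → e = 0 ∨ e = 1 := by
    intro e he
    have hint : (Algebra.TensorProduct.includeRight : B →ₐ[A] K ⊗[A] B).toRingHom.IsIntegralElem e := by
      refine ⟨Polynomial.X * (Polynomial.X - Polynomial.C 1),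
        Polynomial.monic_X.mul (Polynomial.monic_X_sub_C 1), ?_⟩
      rw [Polynomial.eval₂_mul, Polynomial.eval₂_X, Polynomial.eval₂_sub, Polynomial.eval₂_X,
        Polynomial.eval₂_C, map_one, mul_sub, mul_one, he, sub_self]
    obtain ⟨b, hb⟩ := main_aux A K B e hint
    have hb' : algebraMap B C b = e := hb
    have hbb : b * b = b := by
      apply hinj
      rw [map_mul, hb', he]
    rcases idem_local hbb with h | h
    · left; rw [← hb', h, map_zero]
    · right; rw [← hb', h, map_one]
  haveI : Nontrivial C := hinj.nontrivial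
  refine ⟨exists_pair_ne C, mul_comm, ?_⟩
  intro x hx
  -- (x) + Ann(x) = ⊤
  have hsum : Ideal.span {x} ⊔ (Ideal.span {x}).annihilator = ⊤ := by
    by_contra hne
    obtain ⟨m, hm, hle⟩ := Ideal.exists_le_maximal _ hne
    have hxm : x ∈ m := hle (Ideal.mem_sup_left (Ideal.subset_span rfl))
    obtain ⟨b, hbm, hbx⟩ :=
      Groth.Agent.Lib.Helper14.WEField.exists_not_mem_mul_eq_zero K C m hm.ne_top hxm
    apply hbm
    apply hle
    apply Ideal.mem_sup_right
    rw [Submodule.mem_annihilator_span_singleton]
    exact hbx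
  have h1 : (1 : C) ∈ Ideal.span {x} ⊔ (Ideal.span {x}).annihilator := hsum ▸ Submodule.mem_top
  obtain ⟨y, hy, a, ha, hya⟩ := Submodule.mem_sup.mp h1
  obtain ⟨c, rfl⟩ := Ideal.mem_span_singleton'.mp hy
  have hax : a * x = 0 := by
    have := (Submodule.mem_annihilator_span_singleton _ _).mp ha
    simpa using this
  have he : (c * x) * (c * x) = c * x := by
    have : c * x = 1 - a := by rw [← hya]; ring
    calc (c * x) * (c * x) = (1 - a) * (c * x) := by rw [this]
      _ = c * x - c * (a * x) := by ring
      _ = c * x := by rw [hax, mul_zero, sub_zero]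
  rcases hidem _ he with h | h
  · exfalso
    apply hx
    have : a = 1 := by rw [← hya, h, zero_add]
    rw [← one_mul x, ← this, hax]
  · exact ⟨c, by rw [mul_comm]; exact h⟩

theorem injective_algebraMap_tensor :
    Function.Injective (algebraMap B (FractionRing A ⊗[A] B)) := by
  have h1 : Function.Injective ((Algebra.linearMap A (FractionRing A)).rTensor B) :=
    Module.Flat.rTensor_preserves_injective_linearMap _ (IsFractionRing.injective A _)
  intro b b' hbb
  have h2 : ((Algebra.linearMap A (FractionRing A)).rTensor B) ((1 : A) ⊗ₜ b) =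
      ((Algebra.linearMap A (FractionRing A)).rTensor B) ((1 : A) ⊗ₜ b') := by
    rw [LinearMap.rTensor_tmul, LinearMap.rTensor_tmul, Algebra.linearMap_apply, map_one]
    exact hbb
  have h3 := congrArg (TensorProduct.lid A B) (h1 h2)
  rwa [TensorProduct.lid_tmul, TensorProduct.lid_tmul, one_smul, one_smul] at h3

theorem normal_of_weaklyEtale_local (A : Type u) [CommRing A] [IsDomain A] [IsIntegrallyClosed A]
    (B : Type u) [CommRing B] [IsLocalRing B] [Algebra A B] [Algebra.WeaklyEtale A B] :
    IsDomain B ∧ IsIntegrallyClosed B := by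
  let K := FractionRing A
  let C := K ⊗[A] B
  have hF : IsField C := isField_tensor A B
  have hinj : Function.Injective (algebraMap B C) := injective_algebraMap_tensor A B
  haveI : IsDomain C := hF.isDomain
  haveI hdom : IsDomain B := hinj.isDomain (algebraMap B C)
  refine ⟨hdom, ?_⟩
  haveI hloc : IsLocalization (Algebra.algebraMapSubmonoid B (nonZeroDivisors A)) C :=
    IsLocalization.tensorRight K (nonZeroDivisors A)
  have hle : Algebra.algebraMapSubmonoid B (nonZeroDivisors A) ≤ nonZeroDivisors B := by
    rintro _ ⟨s, hs, rfl⟩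
    rw [mem_nonZeroDivisors_iff_right]
    intro z hz
    have hreg : IsSMulRegular B s := Module.Flat.isSMulRegular_of_nonZeroDivisors hs
    apply hreg
    show s • z = s • 0
    rw [smul_zero, Algebra.smul_def, mul_comm]
    exact hz
  haveI : IsFractionRing B C := by
    refine IsLocalization.of_le _ (nonZeroDivisors B) hle ?_
    intro r hr
    have hr0 : algebraMap B C r ≠ 0 := by
      intro h0
      exact nonZeroDivisors.ne_zero hr (hinj (h0.trans (map_zero _).symm))
    obtain ⟨c, hc⟩ := hF.mul_inv_cancel hr0
    exact IsUnit.of_mul_eq_one _ hc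
  rw [isIntegrallyClosed_iff_isIntegrallyClosedIn C, isIntegrallyClosedIn_iff]
  refine ⟨hinj, ?_⟩
  intro x hx
  exact main_aux A K B x hx

end Normal

end Groth.Agent.Lib.T2H1.WEtNormal
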