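import Mathlib
import Groth.Agent.S1964
import Groth.Agent.Lib.T2H1WEtNormal
import Groth.Agent.Lib.Helper14WEField

/-!
# Olivier's theorem (Stacks 092Z)

A weakly étale local homomorphism `A → B` of local rings with `A` strictly henselian is an
isomorphism.  We follow the Stacks project:

* Step 0 (`exists_sub_mem_maximalIdeal`): the residue field extension is trivial.
* `isLocalRing_tensor`: for `A → A'` integral and local, `A' ⊗[A] B` is local.
* `idem_trivial_tensor`: for a normal domain `A'` integral over `A` with fraction field `L`, the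
  ring `L ⊗[A] B` is connected, because `A' ⊗[A] B` is local and integrally closed in
  `L ⊗[A'] (A' ⊗[A] B)` (lib `T2H1WEtNormal`).
* `surjective_algebraMap_of_connected`: a weakly étale algebra over a field which is geometrically
  connected is the field itself.
* `surjective_fibre`: all fibres `κ(p) → κ(p) ⊗[A] B` are surjective.
* `diag_mem_prime`, `one_tmul_eq_of_diag_mem_prime`: hence `B ⊗[A] B → B` is an isomorphism.
* `bijective_of_faithfullyFlat_of_epi`: a faithfully flat epimorphism is bijective.
-/

set_option autoImplicit false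
universe u
open TensorProduct Polynomial IsLocalRing

namespace Groth.Agent.Lib.T2H1.Olivier

open Groth.Agent.Lib.T2H1.WEtNormal

/-- Step 0: residue field extension is trivial. -/
theorem exists_sub_mem_maximalIdeal (A B : Type u) [CommRing A] [CommRing B] [IsLocalRing A]
    [IsLocalRing B] [Algebra A B] [IsLocalHom (algebraMap A B)] [IsSepClosed (ResidueField A)]
    [Algebra.WeaklyEtale A B] (b : B) : ∃ a : A, b - algebraMap A B a ∈ maximalIdeal B := by
  let k := ResidueField A
  let C := k ⊗[A] B
  let ψ : C →ₐ[k] ResidueField B :=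
    Algebra.TensorProduct.lift (Algebra.ofId k (ResidueField B))
      (IsScalarTower.toAlgHom A B (ResidueField B)) (fun _ _ => Commute.all _ _)
  haveI : Algebra.IsSeparable k (ResidueField B) := by
    constructor
    intro z
    obtain ⟨b, rfl⟩ := residue_surjective z
    obtain ⟨f, hf, hfb⟩ :=
      Groth.Agent.Lib.Helper14.WEField.exists_separable_aeval_eq_zero k C ((1 : k) ⊗ₜ[A] b)
    have h1 : ψ ((1 : k) ⊗ₜ[A] b) = residue B b := by
      change Algebra.TensorProduct.lift (Algebra.ofId k (ResidueField B))
        (IsScalarTower.toAlgHom A B (ResidueField B)) (fun _ _ => Commute.all _ _)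
        ((1 : k) ⊗ₜ[A] b) = _
      rw [Algebra.TensorProduct.lift_tmul, map_one, one_mul]
      rfl
    have h2 : aeval (residue B b) f = 0 := by
      rw [← h1, Polynomial.aeval_algHom_apply, hfb, map_zero]
    exact hf.of_dvd (minpoly.dvd _ _ h2)
  obtain ⟨x, hx⟩ := IsSepClosed.algebraMap_surjective k (ResidueField B) (residue B b)
  obtain ⟨a, rfl⟩ := residue_surjective x
  refine ⟨a, ?_⟩
  rw [← residue_eq_zero_iff, map_sub, ← hx, sub_eq_zero]
  rfl

attribute [local instance] Algebra.TensorProduct.rightAlgebra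

theorem isIntegral_right (A A' B : Type u) [CommRing A] [CommRing A'] [CommRing B] [Algebra A A']
    [Algebra A B] [Algebra.IsIntegral A A'] : Algebra.IsIntegral B (A' ⊗[A] B) := by
  constructor
  intro r
  induction r using TensorProduct.induction_on with
  | zero => exact isIntegral_zero
  | add x y hx hy => exact hx.add hy
  | tmul a' b =>
    have h1 : IsIntegral B (a' ⊗ₜ[A] (1 : B)) := by
      have := IsIntegral.map_of_comp_eq (R := A) (S := A') (T := B) (U := A' ⊗[A] B)
        (algebraMap A B) (Algebra.TensorProduct.includeLeftRingHom) (by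
          ext a
          show (1 : A') ⊗ₜ[A] (algebraMap A B a) = (algebraMap A A' a) ⊗ₜ[A] (1 : B)
          rw [Algebra.algebraMap_eq_smul_one, Algebra.algebraMap_eq_smul_one,
            TensorProduct.smul_tmul])
        (Algebra.IsIntegral.isIntegral a')
      exact this
    have h2 : a' ⊗ₜ[A] b = b • (a' ⊗ₜ[A] (1 : B)) := by
      rw [Algebra.smul_def]
      show _ = ((1 : A') ⊗ₜ[A] b) * _
      rw [Algebra.TensorProduct.tmul_mul_tmul, one_mul, mul_one]
    rw [h2]
    exact h1.smul b



attribute [local instance] Algebra.TensorProduct.rightAlgebra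

theorem isLocalRing_tensor (A A' B : Type u) [CommRing A] [CommRing A'] [CommRing B]
    [IsLocalRing A] [IsLocalRing A'] [IsLocalRing B] [Algebra A A'] [Algebra A B]
    [IsLocalHom (algebraMap A A')] [IsLocalHom (algebraMap A B)] [Algebra.IsIntegral A A']
    [Module.Flat A B]
    (hB : ∀ b : B, ∃ a : A, b - algebraMap A B a ∈ maximalIdeal B) :
    IsLocalRing (A' ⊗[A] B) := by
  let R := A' ⊗[A] B
  let iL : A' →+* R := Algebra.TensorProduct.includeLeftRingHom
  let iR : B →+* R := algebraMap B R
  let N : Ideal R := (maximalIdeal A').map iL ⊔ (maximalIdeal B).map iR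
  have hiR : ∀ b, iR b = (1 : A') ⊗ₜ[A] b := fun _ => rfl
  have hiL : ∀ a', iL a' = a' ⊗ₜ[A] (1 : B) := fun _ => rfl
  -- Claim 1
  have c1 : ∀ r : R, ∃ a'' : A', r - iL a'' ∈ N := by
    intro r
    induction r using TensorProduct.induction_on with
    | zero => exact ⟨0, by simp⟩
    | add x y hx hy =>
      obtain ⟨u, hu⟩ := hx
      obtain ⟨v, hv⟩ := hy
      refine ⟨u + v, ?_⟩
      have : x + y - iL (u + v) = (x - iL u) + (y - iL v) := by rw [map_add]; ring
      rw [this]
      exact N.add_mem hu hv
    | tmul a' b =>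
      obtain ⟨a, ha⟩ := hB b
      refine ⟨a • a', ?_⟩
      have h1 : a' ⊗ₜ[A] b - iL (a • a') = iL a' * iR (b - algebraMap A B a) := by
        rw [hiL, hiL, hiR, Algebra.TensorProduct.tmul_mul_tmul, mul_one, one_mul,
          TensorProduct.tmul_sub, TensorProduct.smul_tmul, Algebra.algebraMap_eq_smul_one]
      rw [h1]
      exact N.mul_mem_left _ (Ideal.mem_sup_right (Ideal.mem_map_of_mem _ ha))
  -- Claim 3
  haveI : Module.FaithfullyFlat A B := Module.FaithfullyFlat.of_flat_of_isLocalHom
  haveI : Nontrivial R := (Module.FaithfullyFlat.nontrivial_tensorProduct_iff_left A A').mpr inferInstance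
  -- Claim 2
  haveI : Algebra.IsIntegral B R := isIntegral_right A A' B
  have c2 : ∀ n : Ideal R, n.IsMaximal → N ≤ n := by
    intro n hn
    have hnB : (n.comap iR).IsMaximal := Ideal.isMaximal_comap_of_isIntegral_of_isMaximal n
    have hnB' : n.comap iR = maximalIdeal B := IsLocalRing.eq_maximalIdeal hnB
    have hcomm : iR.comp (algebraMap A B) = iL.comp (algebraMap A A') := by
      ext a
      show (1 : A') ⊗ₜ[A] (algebraMap A B a) = (algebraMap A A' a) ⊗ₜ[A] (1 : B)
      rw [Algebra.algebraMap_eq_smul_one, Algebra.algebraMap_eq_smul_one,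
        TensorProduct.smul_tmul]
    have hnA : ((n.comap iL).comap (algebraMap A A')) = maximalIdeal A := by
      rw [Ideal.comap_comap, ← hcomm, ← Ideal.comap_comap, hnB']
      exact ((local_hom_TFAE (algebraMap A B)).out 0 4).mp ‹_›
    haveI : (n.comap iL).IsPrime := Ideal.comap_isPrime iL n
    have hnA' : (n.comap iL).IsMaximal := by
      apply Ideal.isMaximal_of_isIntegral_of_isMaximal_comap (R := A)
      rw [hnA]
      infer_instance
    have hnA'' : n.comap iL = maximalIdeal A' := IsLocalRing.eq_maximalIdeal hnA'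
    refine sup_le ?_ ?_
    · rw [Ideal.map_le_iff_le_comap, hnA'']
    · rw [Ideal.map_le_iff_le_comap, hnB']
  -- N is a proper ideal
  obtain ⟨n₀, hn₀⟩ := Ideal.exists_maximal R
  have hNtop : N ≠ ⊤ := fun h => hn₀.ne_top (top_le_iff.mp (h ▸ c2 n₀ hn₀))
  have hNmax : N.IsMaximal := by
    rw [Ideal.isMaximal_iff]
    refine ⟨fun h => hNtop ((Ideal.eq_top_iff_one N).mpr h), ?_⟩
    intro J x hNJ hxN hxJ
    obtain ⟨a'', ha''⟩ := c1 x
    have h1 : iL a'' ∈ J := by
      have : iL a'' = x - (x - iL a'') := by ring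
      rw [this]
      exact J.sub_mem hxJ (hNJ ha'')
    have h2 : a'' ∉ maximalIdeal A' := by
      intro h
      apply hxN
      have : x = (x - iL a'') + iL a'' := by ring
      rw [this]
      exact N.add_mem ha'' (Ideal.mem_sup_left (Ideal.mem_map_of_mem _ h))
    have h3 : IsUnit a'' := by
      by_contra hu
      exact h2 ((mem_maximalIdeal a'').mpr hu)
    have h4 : IsUnit (iL a'') := h3.map iL
    exact (Ideal.eq_top_iff_one J).mp (Ideal.eq_top_of_isUnit_mem J h1 h4)
  refine IsLocalRing.of_unique_max_ideal ⟨N, hNmax, ?_⟩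
  intro n hn
  exact (hNmax.eq_of_le hn.ne_top (c2 n hn)).symm

theorem injective_one_tmul (A' : Type u) [CommRing A'] [IsDomain A'] (L : Type u) [Field L]
    [Algebra A' L] [IsFractionRing A' L] (R : Type u) [CommRing R] [Algebra A' R]
    [Module.Flat A' R] : Function.Injective (fun r : R => (1 : L) ⊗ₜ[A'] r) := by
  have h1 : Function.Injective ((Algebra.linearMap A' L).rTensor R) :=
    Module.Flat.rTensor_preserves_injective_linearMap _ (IsFractionRing.injective A' L)
  intro b b' hbb
  have h2 : ((Algebra.linearMap A' L).rTensor R) ((1 : A') ⊗ₜ b) =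
      ((Algebra.linearMap A' L).rTensor R) ((1 : A') ⊗ₜ b') := by
    rw [LinearMap.rTensor_tmul, LinearMap.rTensor_tmul, Algebra.linearMap_apply, map_one]
    exact hbb
  have h3 := congrArg (TensorProduct.lid A' R) (h1 h2)
  rwa [TensorProduct.lid_tmul, TensorProduct.lid_tmul, one_smul, one_smul] at h3

theorem idem_trivial_tensor (A B : Type u) [CommRing A] [CommRing B] [HenselianLocalRing A]
    [IsLocalRing B] [IsSepClosed (ResidueField A)] [Algebra A B] [IsLocalHom (algebraMap A B)]
    [Algebra.WeaklyEtale A B]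
    (A' : Type u) [CommRing A'] [IsDomain A'] [IsIntegrallyClosed A'] [Algebra A A']
    [Algebra.IsIntegral A A']
    (L : Type u) [Field L] [Algebra A' L] [IsFractionRing A' L] [Algebra A L] [IsScalarTower A A' L]
    (e : L ⊗[A] B) (he : e * e = e) : e = 0 ∨ e = 1 := by
  obtain ⟨hHens, hloc, -⟩ := Groth.Agent.S1964.result A A'
  haveI : IsLocalRing A' := hHens.toIsLocalRing
  haveI := hloc
  let R := A' ⊗[A] B
  haveI : IsLocalRing R := isLocalRing_tensor A A' B (exists_sub_mem_maximalIdeal A B)
  let c := Algebra.TensorProduct.cancelBaseChange A A' A' L B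
  let x : L ⊗[A'] R := c.symm e
  have hx : x * x = x := by
    show c.symm e * c.symm e = c.symm e
    rw [← map_mul, he]
  have hint : (Algebra.TensorProduct.includeRight : R →ₐ[A'] L ⊗[A'] R).toRingHom.IsIntegralElem x := by
    refine ⟨Polynomial.X * (Polynomial.X - Polynomial.C 1),
      Polynomial.monic_X.mul (Polynomial.monic_X_sub_C 1), ?_⟩
    rw [Polynomial.eval₂_mul, Polynomial.eval₂_X, Polynomial.eval₂_sub, Polynomial.eval₂_X,
      Polynomial.eval₂_C, map_one, mul_sub, mul_one, hx, sub_self]
  obtain ⟨r, hr⟩ := main_aux A' L R x hint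
  have hrr : r * r = r := by
    apply injective_one_tmul A' L R
    show (1 : L) ⊗ₜ[A'] (r * r) = (1 : L) ⊗ₜ[A'] r
    rw [hr]
    have : (1 : L) ⊗ₜ[A'] (r * r) = ((1 : L) ⊗ₜ[A'] r) * ((1 : L) ⊗ₜ[A'] r) := by
      rw [Algebra.TensorProduct.tmul_mul_tmul, one_mul]
    rw [this, hr, hx]
  have hex : e = c x := (c.apply_symm_apply e).symm
  rcases idem_local hrr with h | h
  · left
    rw [hex, ← hr, h, TensorProduct.tmul_zero, map_zero]
  · right
    rw [hex, ← hr, h]
    exact map_one c

/-- In a connected nontrivial algebra over an algebraically closed field, a root of a separable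
polynomial is a scalar. -/
theorem exists_eq_algebraMap_of_separable {L D : Type*} [Field L] [IsAlgClosed L] [CommRing D]
    [Nontrivial D] [Algebra L D] (hD : ∀ e : D, e * e = e → e = 0 ∨ e = 1) (d : D) :
    ∀ (n : ℕ) (g : L[X]), g.natDegree = n → g.Separable → aeval d g = 0 →
      ∃ α : L, d = algebraMap L D α := by
  intro n
  induction n using Nat.strong_induction_on with
  | _ n ih =>
    intro g hn hsep hg
    by_cases hdeg : g.degree = 0
    · exfalso
      rw [Polynomial.eq_C_of_degree_eq_zero hdeg, aeval_C] at hg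
      have h0 : g.coeff 0 ≠ 0 := by
        intro h
        have : g = 0 := by rw [Polynomial.eq_C_of_degree_eq_zero hdeg, h, map_zero]
        exact hsep.ne_zero this
      have : (algebraMap L D) (g.coeff 0) ≠ 0 := by
        rw [Ne, map_eq_zero_iff _ (algebraMap L D).injective]
        exact h0
      exact this hg
    · obtain ⟨α, hα⟩ := IsAlgClosed.exists_root g hdeg
      obtain ⟨h, rfl⟩ := Polynomial.dvd_iff_isRoot.mpr hα
      have hγ : h.eval α ≠ 0 := by
        intro h0
        have h2 : (X - C α) ∣ h := Polynomial.dvd_iff_isRoot.mpr h0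
        obtain ⟨h', rfl⟩ := h2
        have hu : IsUnit (X - C α) := hsep.squarefree (X - C α) ⟨h', by ring⟩
        exact Polynomial.not_isUnit_X_sub_C α hu
      set γ := h.eval α with hγdef
      have hprod : (d - algebraMap L D α) * aeval d h = 0 := by
        rw [map_mul, map_sub, aeval_X, aeval_C] at hg
        exact hg
      obtain ⟨w, hw⟩ : ∃ w, aeval d h - algebraMap L D γ = (d - algebraMap L D α) * w := by
        have := Polynomial.sub_dvd_eval_sub d (algebraMap L D α) (h.map (algebraMap L D))
        rw [Polynomial.eval_map_algebraMap, Polynomial.eval_map_algebraMap,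
          Polynomial.aeval_algebraMap_apply_eq_algebraMap_eval] at this
        exact this
      have hγγ : algebraMap L D γ * algebraMap L D γ⁻¹ = 1 := by
        rw [← map_mul, mul_inv_cancel₀ hγ, map_one]
      set e := algebraMap L D γ⁻¹ * aeval d h with hedef
      have he1 : e - 1 = algebraMap L D γ⁻¹ * ((d - algebraMap L D α) * w) := by
        rw [← hw, hedef, mul_sub, mul_comm (algebraMap L D γ⁻¹) (algebraMap L D γ), hγγ]
      have hee : e * e = e := by
        have : e * (e - 1) = 0 := by
          rw [he1, hedef]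
          calc algebraMap L D γ⁻¹ * aeval d h * (algebraMap L D γ⁻¹ * ((d - algebraMap L D α) * w))
              = algebraMap L D γ⁻¹ * algebraMap L D γ⁻¹ * w * ((d - algebraMap L D α) * aeval d h) := by
                ring
            _ = 0 := by rw [hprod, mul_zero]
        rw [mul_sub, mul_one, sub_eq_zero] at this
        exact this
      rcases hD e hee with h0 | h1
      · -- aeval d h = 0
        have hh : aeval d h = 0 := by
          have : aeval d h = algebraMap L D γ * e := by
            rw [hedef, ← mul_assoc, hγγ, one_mul]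
          rw [this, h0, mul_zero]
        have hh0 : h ≠ 0 := by
          rintro rfl
          exact hγ (by rw [hγdef, Polynomial.eval_zero])
        have hdeg' : h.natDegree < n := by
          rw [← hn, Polynomial.natDegree_mul (Polynomial.X_sub_C_ne_zero α) hh0,
            Polynomial.natDegree_X_sub_C]
          omega
        exact ih _ hdeg' h rfl hsep.of_mul_right hh
      · refine ⟨α, ?_⟩
        have : d - algebraMap L D α = 0 := by
          calc d - algebraMap L D α = (d - algebraMap L D α) * e := by rw [h1, mul_one]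
            _ = algebraMap L D γ⁻¹ * ((d - algebraMap L D α) * aeval d h) := by rw [hedef]; ring
            _ = 0 := by rw [hprod, mul_zero]
        exact sub_eq_zero.mp this



/-- Fibre lemma: a weakly étale algebra `C` over a field `k` such that `L ⊗[k] C` is connected for an
algebraically closed extension `L` of `k` is `k` itself (or zero). -/
theorem surjective_algebraMap_of_connected (k C L : Type u) [Field k] [CommRing C] [Algebra k C]
    [Algebra.WeaklyEtale k C] [Field L] [IsAlgClosed L] [Algebra k L]
    (hD : ∀ e : L ⊗[k] C, e * e = e → e = 0 ∨ e = 1) :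
    Function.Surjective (algebraMap k C) := by
  intro c
  rcases subsingleton_or_nontrivial C with hC | hC
  · exact ⟨0, Subsingleton.elim _ _⟩
  let D := L ⊗[k] C
  have hinjC : Function.Injective (Algebra.TensorProduct.includeRight : C →ₐ[k] L ⊗[k] C) :=
    Algebra.TensorProduct.includeRight_injective (algebraMap k L).injective
  haveI : Nontrivial D := hinjC.nontrivial
  obtain ⟨f, hf, hfc⟩ := Groth.Agent.Lib.Helper14.WEField.exists_separable_aeval_eq_zero k C c
  let d : D := (1 : L) ⊗ₜ[k] c
  have hd : aeval d (f.map (algebraMap k L)) = 0 := by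
    rw [Polynomial.aeval_map_algebraMap]
    have : d = (Algebra.TensorProduct.includeRight : C →ₐ[k] L ⊗[k] C) c := rfl
    rw [this, Polynomial.aeval_algHom_apply, hfc, map_zero]
  obtain ⟨α, hα⟩ := exists_eq_algebraMap_of_separable hD d _ (f.map (algebraMap k L)) rfl hf.map hd
  -- now 1 ⊗ c = α ⊗ 1
  by_contra hc
  let W : Submodule k C := LinearMap.range (Algebra.linearMap k C)
  have hcW : c ∉ W := fun ⟨x, hx⟩ => hc ⟨x, hx⟩
  obtain ⟨φ, hφc, hWφ⟩ := Submodule.exists_le_ker_of_notMem hcW
  let Ψ : L ⊗[k] C →ₗ[k] L := (TensorProduct.rid k L).toLinearMap ∘ₗ (φ.lTensor L)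
  have h1 : Ψ d = algebraMap k L (φ c) := by
    show (TensorProduct.rid k L) ((φ.lTensor L) ((1 : L) ⊗ₜ[k] c)) = _
    rw [LinearMap.lTensor_tmul, TensorProduct.rid_tmul, Algebra.algebraMap_eq_smul_one]
  have h2 : Ψ (algebraMap L D α) = 0 := by
    rw [Algebra.TensorProduct.algebraMap_apply]
    show (TensorProduct.rid k L) ((φ.lTensor L) ((algebraMap L L α) ⊗ₜ[k] (1 : C))) = _
    have : φ 1 = 0 := hWφ ⟨1, by simp⟩
    rw [LinearMap.lTensor_tmul, this, TensorProduct.tmul_zero, map_zero]
  rw [hα, h2] at h1
  exact hφc ((map_eq_zero_iff _ (algebraMap k L).injective).mp h1.symm)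

theorem surjective_fibre (A B : Type u) [CommRing A] [CommRing B] [HenselianLocalRing A]
    [IsLocalRing B] [IsSepClosed (ResidueField A)] [Algebra A B] [IsLocalHom (algebraMap A B)]
    [Algebra.WeaklyEtale A B] (p : Ideal A) [p.IsPrime] :
    Function.Surjective (algebraMap p.ResidueField (p.ResidueField ⊗[A] B)) := by
  let k := p.ResidueField
  let L := AlgebraicClosure k
  let A₀ := A ⧸ p
  haveI : Algebra.IsAlgebraic A₀ L :=
    (IsFractionRing.comap_isAlgebraic_iff (A := A₀) (K := k) (C := L)).mpr inferInstance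
  let A' := integralClosure A₀ L
  haveI hfr : IsFractionRing A' L := integralClosure.isFractionRing_of_algebraic (by
    intro x hx
    have h1 : algebraMap A₀ L x = algebraMap k L (algebraMap A₀ k x) :=
      IsScalarTower.algebraMap_apply A₀ k L x
    rw [h1, map_eq_zero_iff _ (algebraMap k L).injective] at hx
    exact (map_eq_zero_iff _ (IsFractionRing.injective A₀ k)).mp hx)
  haveI : IsIntegrallyClosed A' := (isIntegrallyClosed_iff_isIntegrallyClosedIn L).mpr inferInstance
  haveI : Algebra.IsIntegral A A' := by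
    haveI : Algebra.IsIntegral A A₀ :=
      Algebra.isIntegral_of_surjective Ideal.Quotient.mk_surjective
    exact Algebra.IsIntegral.trans (R := A) (A := A₀) (B := A')
  have hidem : ∀ e : L ⊗[A] B, e * e = e → e = 0 ∨ e = 1 :=
    fun e he => idem_trivial_tensor A B A' L e he
  let C := k ⊗[A] B
  apply surjective_algebraMap_of_connected k C L
  intro e he
  let c := Algebra.TensorProduct.cancelBaseChange A k k L B
  have hce : c e * c e = c e := by rw [← map_mul, he]
  rcases hidem (c e) hce with h | h
  · left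
    exact c.injective (h.trans (map_zero c).symm)
  · right
    exact c.injective (h.trans (map_one c).symm)

/-- If all fibres `κ(p) → κ(p) ⊗ B` are surjective, the diagonal differences lie in every prime. -/
theorem diag_mem_prime (A B : Type u) [CommRing A] [CommRing B] [Algebra A B]
    (hfib : ∀ (p : Ideal A) [p.IsPrime],
      Function.Surjective (algebraMap p.ResidueField (p.ResidueField ⊗[A] B)))
    (P : Ideal (B ⊗[A] B)) [P.IsPrime] (b : B) :
    (1 : B) ⊗ₜ[A] b - b ⊗ₜ[A] (1 : B) ∈ P := by
  let T := B ⊗[A] B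
  let p : Ideal A := P.comap (algebraMap A T)
  haveI : p.IsPrime := Ideal.comap_isPrime _ P
  let k := p.ResidueField
  let Ω := P.ResidueField
  let ι : k →ₐ[A] Ω := Ideal.ResidueField.mapₐ p P (Algebra.ofId A T) rfl
  letI : Algebra k Ω := ι.toRingHom.toAlgebra
  haveI : IsScalarTower A k Ω := IsScalarTower.of_algebraMap_eq fun a => (ι.commutes a).symm
  let i₁ : B →ₐ[A] Ω := (IsScalarTower.toAlgHom A T Ω).comp Algebra.TensorProduct.includeLeft
  let i₂ : B →ₐ[A] Ω := (IsScalarTower.toAlgHom A T Ω).comp Algebra.TensorProduct.includeRight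
  let l₁ : k ⊗[A] B →ₐ[k] Ω :=
    Algebra.TensorProduct.lift (Algebra.ofId k Ω) i₁ (fun _ _ => Commute.all _ _)
  let l₂ : k ⊗[A] B →ₐ[k] Ω :=
    Algebra.TensorProduct.lift (Algebra.ofId k Ω) i₂ (fun _ _ => Commute.all _ _)
  obtain ⟨x, hx⟩ := hfib p ((1 : k) ⊗ₜ[A] b)
  have hx' : x ⊗ₜ[A] (1 : B) = (1 : k) ⊗ₜ[A] b := by
    rw [← hx, Algebra.TensorProduct.algebraMap_apply]
    rfl
  have e₁ : i₁ b = algebraMap k Ω x := by
    have := congrArg l₁ hx'
    rw [Algebra.TensorProduct.lift_tmul, Algebra.TensorProduct.lift_tmul, map_one, map_one,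
      mul_one, one_mul] at this
    exact this.symm
  have e₂ : i₂ b = algebraMap k Ω x := by
    have := congrArg l₂ hx'
    rw [Algebra.TensorProduct.lift_tmul, Algebra.TensorProduct.lift_tmul, map_one, map_one,
      mul_one, one_mul] at this
    exact this.symm
  rw [← Ideal.algebraMap_residueField_eq_zero, map_sub, sub_eq_zero]
  exact e₂.trans e₁.symm



/-- If `A → B` is weakly étale and the diagonal differences are nilpotent, then `A → B` is an
epimorphism: `1 ⊗ x = x ⊗ 1`. -/
theorem one_tmul_eq_of_diag_mem_prime (A B : Type u) [CommRing A] [CommRing B] [Algebra A B]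
    [Algebra.WeaklyEtale A B]
    (h : ∀ (P : Ideal (B ⊗[A] B)) [P.IsPrime] (b : B), (1 : B) ⊗ₜ[A] b - b ⊗ₜ[A] (1 : B) ∈ P)
    (x : B) : (1 : B) ⊗ₜ[A] x = x ⊗ₜ[A] (1 : B) := by
  obtain ⟨u, hu1, hu2⟩ := Groth.Agent.Lib.Helper14.WEField.exists_diag_unit A B x
  have hJ : KaehlerDifferential.ideal A B ≤ nilradical (B ⊗[A] B) := by
    rw [← KaehlerDifferential.span_range_eq_ideal, Ideal.span_le]
    rintro _ ⟨s, rfl⟩
    rw [SetLike.mem_coe, mem_nilradical, nilpotent_iff_mem_prime]
    intro P hP
    exact h P s
  have hmem : 1 - u ∈ KaehlerDifferential.ideal A B := by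
    rw [RingHom.mem_ker, map_sub, map_one, hu1, sub_self]
  have hnil : IsNilpotent (1 - u) := hJ hmem
  have hunit : IsUnit u := by
    have := hnil.isUnit_one_sub
    rwa [sub_sub_cancel] at this
  have h0 : x ⊗ₜ[A] (1 : B) - (1 : B) ⊗ₜ[A] x = 0 := hunit.mul_left_cancel (hu2.trans (mul_zero u).symm)
  exact (sub_eq_zero.mp h0).symm

/-- A faithfully flat epimorphism is bijective. -/
theorem bijective_of_faithfullyFlat_of_epi (A B : Type u) [CommRing A] [CommRing B] [Algebra A B]
    [Module.FaithfullyFlat A B] (h : ∀ x : B, (1 : B) ⊗ₜ[A] x = x ⊗ₜ[A] (1 : B)) :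
    Function.Bijective (algebraMap A B) := by
  constructor
  · exact FaithfulSMul.algebraMap_injective A B
  · have hs : Function.Surjective ((Algebra.linearMap A B).lTensor B) := by
      intro t
      induction t using TensorProduct.induction_on with
      | zero => exact ⟨0, map_zero _⟩
      | add x y hx hy =>
        obtain ⟨u, rfl⟩ := hx
        obtain ⟨v, rfl⟩ := hy
        exact ⟨u + v, map_add _ _ _⟩
      | tmul b b' =>
        refine ⟨(b * b') ⊗ₜ[A] (1 : A), ?_⟩
        rw [LinearMap.lTensor_tmul, Algebra.linearMap_apply, map_one]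
        have : b ⊗ₜ[A] b' = (b ⊗ₜ[A] (1 : B)) * ((1 : B) ⊗ₜ[A] b') := by
          rw [Algebra.TensorProduct.tmul_mul_tmul, mul_one, one_mul]
        rw [this, h b', Algebra.TensorProduct.tmul_mul_tmul, mul_one]
    exact (Module.FaithfullyFlat.lTensor_surjective_iff_surjective A B _).mp hs

theorem olivier (A B : Type u) [CommRing A] [CommRing B] [HenselianLocalRing A] [IsLocalRing B]
    [IsSepClosed (ResidueField A)] [Algebra A B] [IsLocalHom (algebraMap A B)]
    [Algebra.WeaklyEtale A B] : Function.Bijective (algebraMap A B) := by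
  haveI : Module.FaithfullyFlat A B := Module.FaithfullyFlat.of_flat_of_isLocalHom
  apply bijective_of_faithfullyFlat_of_epi
  apply one_tmul_eq_of_diag_mem_prime
  intro P _ b
  exact diag_mem_prime A B (fun p _ => surjective_fibre A B p) P b

end Groth.Agent.Lib.T2H1.Olivier
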