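import Mathlib
import Groth.Agent.Lib.Helper17KInjD1

/-!
# Canonical truncations of K-injective complexes with injective terms
-/

set_option autoImplicit false
universe w v u
open CategoryTheory CategoryTheory.Limits

namespace Groth.Agent.Lib.T2H1.OpcyclesInj

variable {C : Type u} [Category.{v} C] [Abelian C] [HasDerivedCategory.{w} C]

/-- for a K-injective complex `L` with injective terms and no cohomology in degrees `< n`, the
object `coker (L^{n-1} ⟶ L^n)` is injective. -/
theorem injective_opcycles_of_isKInjective (L : CochainComplex C ℤ) [L.IsKInjective]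
    (hinj : ∀ p, Injective (L.X p)) (n : ℤ) [L.IsGE n] : Injective (L.opcycles n) := by
  obtain ⟨m, rfl⟩ : ∃ m, n = m + 1 := ⟨n - 1, by omega⟩
  let Z := L.cycles m
  let g : (HomologicalComplex.single C (ComplexShape.up ℤ) m).obj Z ⟶ L :=
    HomologicalComplex.mkHomFromSingle (L.iCycles m) (fun k _ => L.iCycles_d m k)
  have hg : (DerivedCategory.Q : _ ⥤ DerivedCategory C).map g = DerivedCategory.Q.map 0 := by
    rw [Functor.map_zero]
    haveI : (DerivedCategory.Q.obj
        ((HomologicalComplex.single C (ComplexShape.up ℤ) m).obj Z)).IsLE m := by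
      rw [DerivedCategory.isLE_Q_obj_iff]
      infer_instance
    haveI : (DerivedCategory.Q.obj L).IsGE (m + 1) := by
      rw [DerivedCategory.isGE_Q_obj_iff]
      infer_instance
    exact DerivedCategory.TStructure.t.zero _ m (m + 1) (by omega)
  obtain ⟨H⟩ := Groth.Agent.Lib.Helper17.KInj.homotopy_of_Q_map_eq hg
  have hcomm := H.comm m
  rw [dNext_eq H.hom (show (ComplexShape.up ℤ).Rel m (m + 1) from rfl),
    prevD_eq H.hom (show (ComplexShape.up ℤ).Rel (m - 1) m by simp),
    HomologicalComplex.single_obj_d, zero_comp, zero_add, HomologicalComplex.zero_f, add_zero,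
    HomologicalComplex.mkHomFromSingle_f] at hcomm
  let h' : Z ⟶ L.X (m - 1) :=
    (HomologicalComplex.singleObjXSelf (ComplexShape.up ℤ) m Z).inv ≫ H.hom m (m - 1)
  have hh' : h' ≫ L.d (m - 1) m = L.iCycles m := by
    dsimp only [h']
    rw [Category.assoc, ← hcomm, Iso.inv_hom_id_assoc]
  have hretr : h' ≫ L.toCycles (m - 1) m = 𝟙 Z := by
    rw [← cancel_mono (L.iCycles m), Category.assoc, HomologicalComplex.toCycles_i, hh',
      Category.id_comp]
  haveI : Injective (L.X (m - 1)) := hinj _
  haveI : Injective (L.X m) := hinj _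
  haveI : Injective (L.X (m + 1)) := hinj _
  haveI : Injective Z := Retract.injective (Y := L.X (m - 1)) ⟨h', L.toCycles (m - 1) m, hretr⟩
  let ρ : L.X m ⟶ Z := Injective.factorThru (𝟙 Z) (L.iCycles m)
  have hρ : L.iCycles m ≫ ρ = 𝟙 Z := Injective.comp_factorThru _ _
  let ρ' : L.X m ⟶ L.X m := 𝟙 _ - ρ ≫ L.iCycles m
  have hρ' : L.iCycles m ≫ ρ' = 0 := by
    dsimp only [ρ']
    rw [Preadditive.comp_sub, Category.comp_id, reassoc_of% hρ, Category.id_comp, sub_self]
  let S : ShortComplex C := ShortComplex.mk (L.iCycles m) (L.d m (m + 1)) (L.iCycles_d m (m + 1))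
  have hS : S.Exact := S.exact_of_f_is_kernel (L.cyclesIsKernel m (m + 1) (by simp))
  let r : L.X (m + 1) ⟶ L.X m := hS.descToInjective ρ' hρ'
  have hr : L.d m (m + 1) ≫ r = ρ' := hS.comp_descToInjective ρ' hρ'
  have hdrd : L.d m (m + 1) ≫ r ≫ L.d m (m + 1) = L.d m (m + 1) := by
    rw [reassoc_of% hr]
    dsimp only [ρ']
    rw [Preadditive.sub_comp, Category.id_comp, Category.assoc, HomologicalComplex.iCycles_d,
      comp_zero, sub_zero]
  let s : L.opcycles (m + 1) ⟶ L.X (m + 1) :=
    L.descOpcycles (𝟙 _ - r ≫ L.d m (m + 1)) m (by simp) (by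
      rw [Preadditive.comp_sub, Category.comp_id, hdrd, sub_self])
  have hs : s ≫ L.pOpcycles (m + 1) = 𝟙 _ := by
    rw [← cancel_epi (L.pOpcycles (m + 1))]
    dsimp only [s]
    rw [HomologicalComplex.p_descOpcycles_assoc, Preadditive.sub_comp, Category.id_comp,
      Category.assoc, HomologicalComplex.d_pOpcycles, comp_zero, sub_zero, Category.comp_id]
  exact Retract.injective (Y := L.X (m + 1)) ⟨s, L.pOpcycles (m + 1), hs⟩

/-- the terms of the canonical truncation `τ_{≥ n} L` are injective, for a K-injective complex `L`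
with injective terms and no cohomology in degrees `< n`. -/
theorem injective_truncGE_X (L : CochainComplex C ℤ) [L.IsKInjective]
    (hinj : ∀ p, Injective (L.X p)) (n : ℤ) [L.IsGE n] (q : ℤ) :
    Injective ((L.truncGE n).X q) := by
  haveI := injective_opcycles_of_isKInjective L hinj n
  obtain h | rfl | h := lt_trichotomy q n
  · exact (CochainComplex.isZero_of_isStrictlyGE _ n _ h).injective
  · exact Injective.of_iso (L.truncGEXIsoOpcycles q).symm inferInstance
  · exact Injective.of_iso (L.truncGEXIso n q h).symm (hinj q)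

end Groth.Agent.Lib.T2H1.OpcyclesInj
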