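import Groth.Agent.Lib.T2H1Coprod2
import Groth.Agent.S9884

/-!
# Effective fppf descent of open subfunctors
-/

set_option autoImplicit false
universe u
open CategoryTheory CategoryTheory.Limits AlgebraicGeometry Opposite
open AlgSp

namespace Groth.Agent.Lib.T2H1.OpenDescent

open Groth.Agent.S13210 Groth.Agent.S9878 Groth.Agent.Lib.Helper12.ZarGlue

variable {S : Scheme.{u}}

/-- maps to a sheaf agreeing fppf locally agree. -/
lemma hom_ext_of_fppf {G : AlgSp.Sp S} {T : Over S} (z1 z2 : (AlgSp.yon S).obj T ⟶ G)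
    (R : Presieve T.left) (hR : R ∈ Scheme.fppfPrecoverage T.left)
    (h : ∀ ⦃U : Scheme.{u}⦄ (g : U ⟶ T.left), R g →
      (AlgSp.yon S).map (Over.homMk g : Over.mk (g ≫ T.hom) ⟶ T) ≫ z1 =
        (AlgSp.yon S).map (Over.homMk g : Over.mk (g ≫ T.hom) ⟶ T) ≫ z2) : z1 = z2 := by
  obtain ⟨d, hd⟩ := exists_lift_of_mono (equalizer.ι z1 z2) (𝟙 _) R hR (fun U g hg =>
    ⟨equalizer.lift _ (h g hg), by rw [equalizer.lift_ι, Category.comp_id]⟩)
  have := equalizer.condition z1 z2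
  calc z1 = (d ≫ equalizer.ι z1 z2) ≫ z1 := by rw [hd, Category.id_comp]
    _ = (d ≫ equalizer.ι z1 z2) ≫ z2 := by rw [Category.assoc, this, Category.assoc]
    _ = z2 := by rw [hd, Category.id_comp]

section Main

variable {F' F : AlgSp.Sp S} (φ : F' ⟶ F) [Mono φ] {T : Over S} (x : (AlgSp.yon S).obj T ⟶ F)
  {ι : Type*} (Z : ι → Scheme.{u}) (h : ∀ i, Z i ⟶ T.left)
  (hcov : Presieve.ofArrows Z h ∈ Scheme.fppfPrecoverage T.left)
  (O : ∀ i, (Z i).Opens)
  (hO : ∀ (i : ι) (T'' : Over S) (t'' : T'' ⟶ Over.mk (h i ≫ T.hom)),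
    (∃ z : (AlgSp.yon S).obj T'' ⟶ F', z ≫ φ = (AlgSp.yon S).map t'' ≫
      (AlgSp.yon S).map (Over.homMk (h i) : Over.mk (h i ≫ T.hom) ⟶ T) ≫ x) ↔
    Set.range t''.left ⊆ (O i : Set (Z i)))

include hO in
/-- compatibility of the local opens on overlaps. -/
lemma mem_of_mem {i j : ι} (ti : Z i) (tj : Z j) (hij : h i ti = h j tj) (htj : tj ∈ O j) :
    ti ∈ O i := by
  obtain ⟨w, hw1, hw2⟩ := Scheme.Pullback.exists_preimage_pullback (f := h i) (g := h j) ti tj hij
  let O' : (pullback (h i) (h j)).Opens := pullback.snd (h i) (h j) ⁻¹ᵁ O j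
  have hwO : w ∈ O' := by
    show pullback.snd (h i) (h j) w ∈ O j
    rw [hw2]
    exact htj
  let P : Over S := Over.mk ((O'.ι ≫ pullback.fst (h i) (h j)) ≫ (h i ≫ T.hom))
  let τi : P ⟶ Over.mk (h i ≫ T.hom) := Over.homMk (O'.ι ≫ pullback.fst (h i) (h j)) rfl
  let τj : P ⟶ Over.mk (h j ≫ T.hom) := Over.homMk (O'.ι ≫ pullback.snd (h i) (h j)) (by
    simp only [P, Over.mk_hom, Category.assoc]
    rw [← Category.assoc (pullback.snd (h i) (h j)), ← pullback.condition]
    simp only [Category.assoc])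
  have hτ : τi ≫ (Over.homMk (h i) : Over.mk (h i ≫ T.hom) ⟶ T) =
      τj ≫ (Over.homMk (h j) : Over.mk (h j ≫ T.hom) ⟶ T) := by
    ext1
    simp only [τi, τj, Over.comp_left, Over.homMk_left, Category.assoc, pullback.condition]
  have h1 : Set.range τj.left ⊆ (O j : Set (Z j)) := by
    rintro _ ⟨y, rfl⟩
    exact y.2
  obtain ⟨z, hz⟩ := (hO j P τj).2 h1
  have h2 : Set.range τi.left ⊆ (O i : Set (Z i)) := (hO i P τi).1 ⟨z, by
    rw [hz, ← Category.assoc, ← Functor.map_comp, ← hτ, Functor.map_comp, Category.assoc]⟩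
  have h3 : τi.left ⟨w, hwO⟩ = ti := by
    simp only [τi, Over.homMk_left, Scheme.Hom.comp_apply]
    exact hw1
  rw [← h3]
  exact h2 ⟨_, rfl⟩

include hcov hO in
/-- **effective fppf descent of open subfunctors**: if a subsheaf `F' ⊂ F` is, fppf locally on a
scheme `T` mapping to `F`, cut out by open subschemes, then its base change to `T` is an open
subscheme of `T`. -/
theorem exists_isPullback_open :
    ∃ (V : T.left.Opens) (zV : (AlgSp.yon S).obj (Over.mk (V.ι ≫ T.hom)) ⟶ F'),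
      IsPullback zV ((AlgSp.yon S).map (Over.homMk V.ι rfl : Over.mk (V.ι ≫ T.hom) ⟶ T)) φ x := by
  rw [Scheme.fppfPrecoverage, Scheme.ofArrows_mem_precoverage_iff] at hcov
  obtain ⟨hsurj, hprop⟩ := hcov
  haveI : ∀ i, Flat (h i) := fun i => (hprop i).1
  haveI : ∀ i, LocallyOfFinitePresentation (h i) := fun i => (hprop i).2
  let V : T.left.Opens := ⟨⋃ i, h i '' (O i : Set (Z i)),
    isOpen_iUnion fun i => (h i).isOpenMap _ (O i).2⟩
  let v : Over.mk (V.ι ≫ T.hom) ⟶ T := Over.homMk V.ι rfl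
  have hB1 : ∃ zV : (AlgSp.yon S).obj (Over.mk (V.ι ≫ T.hom)) ⟶ F',
      zV ≫ φ = (AlgSp.yon S).map v ≫ x := by
    refine exists_lift_of_mono φ ((AlgSp.yon S).map v ≫ x)
      (Presieve.ofArrows (fun i => pullback (h i) V.ι) (fun i => pullback.snd (h i) V.ι)) ?_ ?_
    · rw [Scheme.fppfPrecoverage, Scheme.ofArrows_mem_precoverage_iff]
      refine ⟨fun y => ?_, fun i => ⟨inferInstance, inferInstance⟩⟩
      obtain ⟨i, ti, hti⟩ := hsurj (V.ι y)
      obtain ⟨w, -, hw2⟩ := Scheme.Pullback.exists_preimage_pullback (f := h i) (g := V.ι) ti y hti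
      exact ⟨i, w, hw2⟩
    · rintro U g ⟨i⟩
      let Pi : Over S := Over.mk (pullback.snd (h i) V.ι ≫ (Over.mk (V.ι ≫ T.hom)).hom)
      let fi : Pi ⟶ Over.mk (h i ≫ T.hom) := Over.homMk (pullback.fst (h i) V.ι) (by
        simp only [Pi, Over.mk_hom, Category.assoc]
        exact pullback.condition_assoc _)
      have hrange : Set.range fi.left ⊆ (O i : Set (Z i)) := by
        rintro _ ⟨y, rfl⟩
        have h1 : h i (pullback.fst (h i) V.ι y) = V.ι (pullback.snd (h i) V.ι y) := by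
          rw [← Scheme.Hom.comp_apply, pullback.condition, Scheme.Hom.comp_apply]
        have h2 : V.ι (pullback.snd (h i) V.ι y) ∈ V := (pullback.snd (h i) V.ι y).2
        obtain ⟨j, tj, htj, hj⟩ := Set.mem_iUnion.1 h2
        exact mem_of_mem φ x Z h O hO _ tj (h1.trans hj.symm) htj
      obtain ⟨z, hz⟩ := (hO i Pi fi).2 hrange
      refine ⟨z, ?_⟩
      rw [hz, ← Category.assoc, ← Functor.map_comp, ← Category.assoc, ← Functor.map_comp]
      congr 2
      ext1
      exact pullback.condition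
  obtain ⟨zV, hzV⟩ := hB1
  refine ⟨V, zV, isPullback_of_yon hzV (fun T'' b c hbc => ?_)⟩
  obtain ⟨t'', rfl⟩ := (AlgSp.yon S).map_surjective c
  have hB2 : Set.range t''.left ⊆ (V : Set T.left) := by
    rintro _ ⟨pt'', rfl⟩
    obtain ⟨i, ti, hti⟩ := hsurj (t''.left pt'')
    obtain ⟨w, hw1, hw2⟩ := Scheme.Pullback.exists_preimage_pullback (f := t''.left) (g := h i)
      pt'' ti hti.symm
    let P : Over S := Over.mk (pullback.snd t''.left (h i) ≫ (h i ≫ T.hom))
    let pr2 : P ⟶ Over.mk (h i ≫ T.hom) := Over.homMk (pullback.snd t''.left (h i)) rfl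
    let pr1 : P ⟶ T'' := Over.homMk (pullback.fst t''.left (h i)) (by
      simp only [P, Over.mk_hom]
      rw [← Over.w t'']
      exact pullback.condition_assoc _)
    have hpr : pr1 ≫ t'' = pr2 ≫ (Over.homMk (h i) : Over.mk (h i ≫ T.hom) ⟶ T) := by
      ext1
      exact pullback.condition
    have h1 := (hO i P pr2).1 ⟨(AlgSp.yon S).map pr1 ≫ b, by
      rw [Category.assoc, hbc, ← Category.assoc, ← Functor.map_comp, hpr, Functor.map_comp,
        Category.assoc]⟩
    have h2 : ti ∈ O i := by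
      rw [← hw2]
      exact h1 ⟨w, rfl⟩
    exact Set.mem_iUnion.2 ⟨i, ti, h2, hti⟩
  have hle : Set.range t''.left ⊆ Set.range V.ι := by
    rw [Scheme.Opens.range_ι]
    exact hB2
  let τ : T'' ⟶ Over.mk (V.ι ≫ T.hom) := Over.homMk (IsOpenImmersion.lift V.ι t''.left hle) (by
    simp only [Over.mk_hom]
    rw [← Category.assoc, IsOpenImmersion.lift_fac, Over.w])
  have hτ : τ ≫ v = t'' := by
    ext1
    exact IsOpenImmersion.lift_fac _ _ _
  haveI : Mono v := le_mono _ (inferInstance : IsOpenImmersion V.ι)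
  refine ⟨(AlgSp.yon S).map τ, ⟨?_, ?_⟩, ?_⟩
  · rw [← cancel_mono φ, Category.assoc, hzV, ← Category.assoc, ← Functor.map_comp, hτ, hbc]
  · rw [← Functor.map_comp, hτ]
  · rintro a'' ⟨-, ha2⟩
    obtain ⟨σ, rfl⟩ := (AlgSp.yon S).map_surjective a''
    congr 1
    rw [← cancel_mono v, hτ]
    apply (AlgSp.yon S).map_injective
    rw [Functor.map_comp]
    exact ha2

end Main

end Groth.Agent.Lib.T2H1.OpenDescent
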