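import Mathlib
import Groth.Agent.Lib.T2H7PerfLocal

/-!
# Flat base change of pseudo-coherent and perfect morphisms (helper7)
-/

set_option autoImplicit false
universe u
open CategoryTheory CategoryTheory.Limits
attribute [local instance] HasDerivedCategory.standard

namespace Groth.Agent.Lib.T2H7.PerfBC

open Groth.Agent.Lib.Helper1.TorDim Groth.Agent.Lib.Helper1.Restrict
  Groth.Agent.Lib.T2H7.PdPC Groth.Agent.Lib.Helper1.Tor Groth.Agent.Lib.T2H7.PerfHom
  Groth.Agent.Lib.Helper1.Extend Groth.Agent.Lib.T2H7.PCLocal Groth.Agent.Lib.T2H7.PerfLocal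
  Groth.Agent.Lib.Helper1.RelPC TensorProduct

section RingBC

attribute [local instance] MvPolynomial.algebraMvPolynomial

variable (A B A' : Type u) [CommRing A] [CommRing B] [CommRing A'] [Algebra A B] [Algebra A A']

/-- Pseudo-coherent ring maps are stable under flat base change. -/
theorem pcHom_baseChange [Module.Flat A A'] (h : MoreMor.IsPseudoCoherentHom A B) :
    MoreMor.IsPseudoCoherentHom A' (A' ⊗[A] B) := by
  obtain ⟨n, φ, hφ, hpc⟩ := h
  let P := MvPolynomial (Fin n) A
  let P' := MvPolynomial (Fin n) A'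
  let _ : Algebra P B := φ.toRingHom.toAlgebra
  have : IsScalarTower A P B := IsScalarTower.of_algebraMap_eq' φ.comp_algebraMap.symm
  have hpush : Algebra.IsPushout A P A' P' := inferInstance
  have hflat : Module.Flat P P' := Module.Flat.isBaseChange A P A' P' hpush.out
  let e : P' ⊗[P] B ≃ₐ[A'] A' ⊗[A] B := Algebra.IsPushout.cancelBaseChangeAlg A A' P P' B
  let φ' : P' →ₐ[A'] A' ⊗[A] B :=
    (e : P' ⊗[P] B →ₐ[A'] A' ⊗[A] B).comp (Algebra.TensorProduct.includeLeft)
  have hφ' : Function.Surjective φ' := by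
    have h1 : Function.Surjective
        (Algebra.TensorProduct.includeLeft : P' →ₐ[A'] P' ⊗[P] B) := by
      intro x
      induction x using TensorProduct.induction_on with
      | zero => exact ⟨0, map_zero _⟩
      | add x y hx hy =>
        obtain ⟨a, rfl⟩ := hx
        obtain ⟨b, rfl⟩ := hy
        exact ⟨a + b, map_add _ _ _⟩
      | tmul p b =>
        obtain ⟨q, rfl⟩ := hφ b
        refine ⟨p * algebraMap P P' q, ?_⟩
        change (p * algebraMap P P' q) ⊗ₜ[P] (1 : B) = p ⊗ₜ[P] (algebraMap P B q)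
        rw [Algebra.algebraMap_eq_smul_one q, Algebra.algebraMap_eq_smul_one (A := B) q,
          mul_smul_comm, mul_one, TensorProduct.smul_tmul]
    exact e.surjective.comp h1
  refine ⟨n, φ', hφ', ?_⟩
  let _ : Algebra P' (A' ⊗[A] B) := φ'.toRingHom.toAlgebra
  have h1 : DRing.IsPseudoCoherent' P' ((extD P P').obj (Dual.inD P B)) :=
    isPC'_extD (A := P) (B := P') _ hpc
  have h2 := pc'_of_iso (extDInDIso (A := P) (B := P') B) h1
  let el : P' ⊗[P] B ≃ₗ[P'] A' ⊗[A] B :=
    { e.toLinearEquiv.toAddEquiv with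
      map_smul' := fun p x => by
        change e (p • x) = φ' p * e x
        have hx : p • x = (Algebra.TensorProduct.includeLeft (R := P) (S := A') (A := P') (B := B) p) * x := by
          induction x using TensorProduct.induction_on with
          | zero => simp
          | add x y hx hy => rw [smul_add, mul_add, hx, hy]
          | tmul q b =>
            rw [TensorProduct.smul_tmul', Algebra.TensorProduct.includeLeft_apply,
              Algebra.TensorProduct.tmul_mul_tmul, one_mul, smul_eq_mul]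
        rw [hx, map_mul]
        rfl }
  exact pc'_of_iso ((DerivedCategory.singleFunctor (ModuleCat.{u} P') 0).mapIso el.toModuleIso) h2

/-- Perfect ring maps are stable under flat base change. -/
theorem perfHom_baseChange [Module.Flat A A'] (h : MoreMor.IsPerfectHom A B) :
    MoreMor.IsPerfectHom A' (A' ⊗[A] B) :=
  ⟨pcHom_baseChange A B A' h.1, ftd_baseChange (A := A) (B := A') B h.2⟩

end RingBC

section General

open AlgebraicGeometry Opposite

/-- stability under flat base change of a property of ring maps, in tensor product form -/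
def FlatBC (Q : ∀ {R S : Type u} [CommRing R] [CommRing S], (R →+* S) → Prop) : Prop :=
  ∀ (R S T : Type u) [CommRing R] [CommRing S] [CommRing T] [Algebra R S] [Algebra R T],
    Module.Flat R S → Q (algebraMap R T) → Q (algebraMap S (S ⊗[R] T))

variable {Q : ∀ {R S : Type u} [CommRing R] [CommRing S], (R →+* S) → Prop}

set_option backward.isDefEq.respectTransparency false in
theorem pushout_inl_of_flat (hQ : FlatBC @Q) (hQ' : RingHom.RespectsIso @Q)
    {R S T : CommRingCat.{u}} (f : R ⟶ S) (g : R ⟶ T) (hfl : f.hom.Flat) (H : Q g.hom) :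
    Q (pushout.inl f g).hom := by
  let _ := f.hom.toAlgebra
  let _ := g.hom.toAlgebra
  rw [← show _ = pushout.inl f g from
      colimit.isoColimitCocone_ι_inv ⟨_, CommRingCat.pushoutCoconeIsColimit R S T⟩ WalkingSpan.left,
    CommRingCat.hom_comp, hQ'.cancel_right_isIso]
  dsimp only [CommRingCat.pushoutCocone_inl, PushoutCocone.ι_app_left]
  exact hQ R S T hfl H

set_option backward.defeqAttrib.useBackward true in
set_option backward.isDefEq.respectTransparency false in
theorem pullback_fst_appTop_of_flat (hQ : FlatBC @Q) (hQ' : RingHom.RespectsIso @Q)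
    {X Y S : Scheme.{u}} [IsAffine X] [IsAffine Y] [IsAffine S] (f : X ⟶ S) (g : Y ⟶ S)
    (hfl : f.appTop.hom.Flat) (H : Q g.appTop.hom) : Q (pullback.fst f g).appTop.hom := by
  erw [← PreservesPullback.iso_inv_fst AffineScheme.forgetToScheme (AffineScheme.ofHom f)
      (AffineScheme.ofHom g)]
  rw [Scheme.Hom.comp_appTop, CommRingCat.hom_comp, hQ'.cancel_right_isIso,
    AffineScheme.forgetToScheme_map]
  have := congr_arg Quiver.Hom.unop
      (PreservesPullback.iso_hom_fst AffineScheme.Γ.rightOp (AffineScheme.ofHom f)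
        (AffineScheme.ofHom g))
  simp only [AffineScheme.Γ, Functor.rightOp_obj, Functor.comp_obj, Functor.op_obj, unop_comp,
    AffineScheme.forgetToScheme_obj, Scheme.Γ_obj, Functor.rightOp_map, Functor.comp_map,
    Functor.op_map, Quiver.Hom.unop_op, AffineScheme.forgetToScheme_map, Scheme.Γ_map] at this
  rw [← this, CommRingCat.hom_comp, hQ'.cancel_right_isIso, ← pushoutIsoUnopPullback_inl_hom,
    CommRingCat.hom_comp, hQ'.cancel_right_isIso]
  exact pushout_inl_of_flat hQ hQ' _ _ hfl H

variable {P : MorphismProperty Scheme.{u}} [HasRingHomProperty P Q]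

theorem of_isPullback_of_flat_affine (hQ : FlatBC @Q)
    {X S X' S' : Scheme.{u}} [IsAffine X] [IsAffine S] [IsAffine S']
    (f : X ⟶ S) (f' : X' ⟶ S') (g' : X' ⟶ X) (g : S' ⟶ S) [Flat g]
    (hc : IsPullback g' f' f g) (hf : P f) : P f' := by
  rw [← hc.isoPullback_hom_snd, P.cancel_left_of_respectsIso,
    ← pullbackSymmetry_hom_comp_fst, P.cancel_left_of_respectsIso]
  rw [HasRingHomProperty.iff_of_isAffine (P := P)] at hf ⊢
  have hflat : g.appTop.hom.Flat := (HasRingHomProperty.iff_of_isAffine (P := @Flat)).1 inferInstance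
  exact pullback_fst_appTop_of_flat hQ (HasRingHomProperty.isLocal_ringHomProperty P).respectsIso
    g f hflat hf

theorem of_isPullback_of_flat
    (hQs : RingHom.StableUnderCompositionWithLocalizationAwaySource @Q) (hQ : FlatBC @Q)
    {X S X' S' : Scheme.{u}} (f : X ⟶ S) (f' : X' ⟶ S') (g' : X' ⟶ X) (g : S' ⟶ S) [Flat g]
    (hc : IsPullback g' f' f g) (hf : P f) : P f' := by
  have hresp : P.Respects @IsOpenImmersion :=
    HasRingHomProperty.respects_isOpenImmersion (P := P) hQs
  rw [IsZariskiLocalAtSource.iff_exists_resLE (P := P)]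
  intro x'
  obtain ⟨V, hV, hsV, -⟩ := TopologicalSpace.Opens.isBasis_iff_nbhd.mp S.isBasis_affineOpens
    (TopologicalSpace.Opens.mem_top (g (f' x')))
  obtain ⟨V', hV', hs'V', eV'⟩ := TopologicalSpace.Opens.isBasis_iff_nbhd.mp
    S'.isBasis_affineOpens (show f' x' ∈ g ⁻¹ᵁ V from hsV)
  have hx : f (g' x') = g (f' x') := by
    have h1 := congrArg (fun φ : X' ⟶ S => φ x') hc.w
    simpa using h1
  obtain ⟨U, hU, hxU, eU⟩ := TopologicalSpace.Opens.isBasis_iff_nbhd.mp X.isBasis_affineOpens
    (show g' x' ∈ f ⁻¹ᵁ V from by change f (g' x') ∈ V; rw [hx]; exact hsV)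
  refine ⟨V', g' ⁻¹ᵁ U ⊓ f' ⁻¹ᵁ V', ⟨hxU, hs'V'⟩, inf_le_right, ?_⟩
  have hpb := Scheme.Hom.isPullback_resLE hc eV' eU (UY := g' ⁻¹ᵁ U ⊓ f' ⁻¹ᵁ V') rfl
  have : IsAffine (U : Scheme.{u}) := hU
  have : IsAffine (V : Scheme.{u}) := hV
  have : IsAffine (V' : Scheme.{u}) := hV'
  have hfU : P (f.resLE V U eU) := IsZariskiLocalAtSource.resLE (P := P) eU hf
  exact of_isPullback_of_flat_affine hQ _ _ _ _ hpb hfU

end General

section Special

open AlgebraicGeometry

theorem qpc_flatBC : FlatBC @Qpc := by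
  intro R S T _ _ _ _ _ hfl h
  exact (qpc_algebraMap_iff S (S ⊗[R] T)).2
    (pcHom_baseChange R T S ((qpc_algebraMap_iff R T).1 h))

theorem qperf_flatBC : FlatBC @Qperf := by
  intro R S T _ _ _ _ _ hfl h
  have h1 : MoreMor.IsPerfectHom R T :=
    ⟨(qpc_algebraMap_iff R T).1 h.1, (qftd_algebraMap_iff R T).1 h.2⟩
  have h2 := perfHom_baseChange R T S h1
  exact ⟨(qpc_algebraMap_iff S (S ⊗[R] T)).2 h2.1, (qftd_algebraMap_iff S (S ⊗[R] T)).2 h2.2⟩

theorem pcMor_baseChange {X S X' S' : Scheme.{u}} (f : X ⟶ S) (f' : X' ⟶ S') (g' : X' ⟶ X)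
    (g : S' ⟶ S) [Flat g] (hc : IsPullback g' f' f g) (hf : MoreMor.IsPseudoCoherentMor f) :
    MoreMor.IsPseudoCoherentMor f' :=
  of_isPullback_of_flat (P := Ppc.{u}) qpc_awaySource qpc_flatBC f f' g' g hc hf

theorem perfMor_baseChange {X S X' S' : Scheme.{u}} (f : X ⟶ S) (f' : X' ⟶ S') (g' : X' ⟶ X)
    (g : S' ⟶ S) [Flat g] (hc : IsPullback g' f' f g) (hf : MoreMor.IsPerfectMor f) :
    MoreMor.IsPerfectMor f' :=
  of_isPullback_of_flat (P := Pperf.{u}) qperf_awaySource qperf_flatBC f f' g' g hc hf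

end Special

end Groth.Agent.Lib.T2H7.PerfBC
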