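import Mathlib
import Groth.Agent.Lib.T2H7PerfBC
import Groth.Agent.Lib.Helper1TorI

/-!
# Faithfully flat descent of pseudo-coherent and perfect morphisms (helper7)
-/

set_option autoImplicit false
universe u
open CategoryTheory CategoryTheory.Limits MorphismProperty
attribute [local instance] HasDerivedCategory.standard

namespace Groth.Agent.Lib.T2H7.PerfDesc

open Groth.Agent.Lib.Helper1.TorDim Groth.Agent.Lib.Helper1.Restrict
  Groth.Agent.Lib.T2H7.PdPC Groth.Agent.Lib.Helper1.Tor Groth.Agent.Lib.T2H7.PerfHom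
  Groth.Agent.Lib.Helper1.Extend Groth.Agent.Lib.T2H7.PCLocal Groth.Agent.Lib.T2H7.PerfLocal
  Groth.Agent.Lib.Helper1.RelPC Groth.Agent.Lib.Helper1.PC Groth.Agent.Lib.T2H7.PerfBC TensorProduct

section RingDesc

attribute [local instance] MvPolynomial.algebraMvPolynomial

/-- pseudo-coherence of the target as a module over a presentation, in terms of `Via` -/
theorem pcModule_iff_via {A C : Type u} [CommRing A] [CommRing C] [Algebra A C] {k : ℕ}
    (β : MvPolynomial (Fin k) A →ₐ[A] C) :
    (@DRing.IsPseudoCoherentModule' (MvPolynomial (Fin k) A) _ C _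
        β.toRingHom.toAlgebra.toModule) ↔
        ∀ m : ℤ, DerCA.IsRelPseudoCoherentVia β m (Dual.inD C C) := by
  let _ : Algebra (MvPolynomial (Fin k) A) C := β.toRingHom.toAlgebra
  have e : (DRing.restrictD (β : MvPolynomial (Fin k) A →+* C)).obj (Dual.inD C C) ≅
      Dual.inD (MvPolynomial (Fin k) A) C := restrictDInDIso (A := MvPolynomial (Fin k) A) C
  change DRing.IsPseudoCoherent' (MvPolynomial (Fin k) A)
    (Dual.inD (MvPolynomial (Fin k) A) C) ↔ _
  rw [isPC'_iff_forall]
  exact forall_congr' fun m => ⟨fun h => isPC_of_iso e.symm h, fun h => isPC_of_iso e h⟩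

variable (R T S : Type u) [CommRing R] [CommRing T] [CommRing S] [Algebra R T] [Algebra R S]

/-- Pseudo-coherent ring maps descend along faithfully flat base change. -/
theorem pcHom_of_baseChange [Module.FaithfullyFlat R S]
    (h : MoreMor.IsPseudoCoherentHom S (S ⊗[R] T)) : MoreMor.IsPseudoCoherentHom R T := by
  have hft' : Algebra.FiniteType S (S ⊗[R] T) := finiteType_of_pcHom _ _ h
  have hft : Algebra.FiniteType R T := .of_finiteType_tensorProduct_of_faithfullyFlat S
  obtain ⟨n, φ, hφ⟩ := exists_presentation R T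
  let P := MvPolynomial (Fin n) R
  let P' := MvPolynomial (Fin n) S
  let _ : Algebra P T := φ.toRingHom.toAlgebra
  have : IsScalarTower R P T := IsScalarTower.of_algebraMap_eq' φ.comp_algebraMap.symm
  have hpush : Algebra.IsPushout R P S P' := inferInstance
  have hflat : Module.FaithfullyFlat P P' :=
    Module.FaithfullyFlat.of_linearEquiv P (P ⊗[R] S) hpush.out.equiv.symm
  let e : P' ⊗[P] T ≃ₐ[S] S ⊗[R] T := Algebra.IsPushout.cancelBaseChangeAlg R S P P' T
  let φ' : P' →ₐ[S] S ⊗[R] T :=
    (e : P' ⊗[P] T →ₐ[S] S ⊗[R] T).comp (Algebra.TensorProduct.includeLeft)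
  have hφ' : Function.Surjective φ' := by
    have h1 : Function.Surjective
        (Algebra.TensorProduct.includeLeft : P' →ₐ[S] P' ⊗[P] T) := by
      intro x
      induction x using TensorProduct.induction_on with
      | zero => exact ⟨0, map_zero _⟩
      | add x y hx hy =>
        obtain ⟨a, rfl⟩ := hx
        obtain ⟨b, rfl⟩ := hy
        exact ⟨a + b, map_add _ _ _⟩
      | tmul p b =>
        obtain ⟨q, rfl⟩ := hφ b
        refine ⟨p * algebraMap P P' q, ?_⟩
        change (p * algebraMap P P' q) ⊗ₜ[P] (1 : T) = p ⊗ₜ[P] (algebraMap P T q)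
        rw [Algebra.algebraMap_eq_smul_one q, Algebra.algebraMap_eq_smul_one (A := T) q,
          mul_smul_comm, mul_one, TensorProduct.smul_tmul]
    exact e.surjective.comp h1
  have h1 := (isPseudoCoherentHom_iff_via φ' hφ').1 h
  have h2 := (pcModule_iff_via φ').2 h1
  let _ : Algebra P' (S ⊗[R] T) := φ'.toRingHom.toAlgebra
  let el : P' ⊗[P] T ≃ₗ[P'] S ⊗[R] T :=
    { e.toLinearEquiv.toAddEquiv with
      map_smul' := fun p x => by
        change e (p • x) = φ' p * e x
        have hx : p • x = (Algebra.TensorProduct.includeLeft (R := P) (S := S) (A := P') (B := T) p) * x := by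
          induction x using TensorProduct.induction_on with
          | zero => simp
          | add x y hx hy => rw [smul_add, mul_add, hx, hy]
          | tmul q b =>
            rw [TensorProduct.smul_tmul', Algebra.TensorProduct.includeLeft_apply,
              Algebra.TensorProduct.tmul_mul_tmul, one_mul, smul_eq_mul]
        rw [hx, map_mul]
        rfl }
  have h3 : DRing.IsPseudoCoherent' P' (Dual.inD P' (P' ⊗[P] T)) :=
    pc'_of_iso ((DerivedCategory.singleFunctor (ModuleCat.{u} P') 0).mapIso el.toModuleIso).symm h2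
  have h4 := pc'_of_iso (extDInDIso (A := P) (B := P') T).symm h3
  exact ⟨n, φ, hφ, isPC'_of_extD (A := P) (B := P') _ h4⟩

/-- Finite tor dimension descends along faithfully flat base change. -/
theorem ftd_of_baseChange [Module.FaithfullyFlat R S] (M : Type u) [AddCommGroup M] [Module R M]
    (h : DRing.HasFiniteTorDim S (S ⊗[R] M)) : DRing.HasFiniteTorDim R M := by
  obtain ⟨d, hd⟩ := h
  have h1 := (hasTorDimLE_iff_hasTorAmp (S ⊗[R] M) d).1 hd
  have h2 := hasTorAmp_of_iso (extDInDIso (A := R) (B := S) M).symm h1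
  have h3 := hasTorAmp_of_extD (R := R) (R' := S) _ _ _ h2
  exact ⟨d, (hasTorDimLE_iff_hasTorAmp M d).2 h3⟩

theorem perfHom_of_baseChange [Module.FaithfullyFlat R S]
    (h : MoreMor.IsPerfectHom S (S ⊗[R] T)) : MoreMor.IsPerfectHom R T :=
  ⟨pcHom_of_baseChange R T S h.1, ftd_of_baseChange R S T h.2⟩

end RingDesc

section SchemeDesc

open AlgebraicGeometry

variable {Q : ∀ {R S : Type u} [CommRing R] [CommRing S], (R →+* S) → Prop}
  {P : MorphismProperty Scheme.{u}} [HasRingHomProperty P Q]

set_option backward.isDefEq.respectTransparency.types false in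
theorem descendsAlong_flat_of_flatBC
    (hbc : ∀ {X S X' S' : Scheme.{u}} (f : X ⟶ S) (f' : X' ⟶ S') (g' : X' ⟶ X) (g : S' ⟶ S)
      [Flat g], IsPullback g' f' f g → P f → P f')
    (h : RingHom.CodescendsAlong Q RingHom.FaithfullyFlat) :
    P.DescendsAlong (@Surjective ⊓ @Flat ⊓ @QuasiCompact) := by
  apply IsZariskiLocalAtTarget.descendsAlong
  intro R X Y f g hf h'
  wlog hX : ∃ T, X = Spec T generalizing X
  · have _ : CompactSpace X := by simpa [← quasiCompact_iff_compactSpace f] using hf.2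
    obtain ⟨Y', p, hsurj, hP', hY'⟩ := X.exists_hom_isAffine_of_isZariskiLocalAtSource @IsLocalIso
    have hpflat : Flat p := IsLocalIso.le_of_isZariskiLocalAtSource @Flat _ _ _ hP'
    have hf1 : Surjective f := hf.1.1
    have hf2 : Flat f := hf.1.2
    refine this (f := (Y'.isoSpec.inv ≫ p) ≫ f) ?_ ?_ ⟨_, rfl⟩
    · exact ⟨⟨inferInstance, inferInstance⟩, inferInstance⟩
    · rw [← pullbackRightPullbackFstIso_inv_fst f g _, P.cancel_left_of_respectsIso]
      have : Flat (Y'.isoSpec.inv ≫ p) := inferInstance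
      exact hbc _ _ _ _ (IsPullback.of_hasPullback _ _).flip h'
  obtain ⟨T, rfl⟩ := hX
  obtain ⟨φ, rfl⟩ := Spec.map_surjective f
  wlog hY : ∃ S, Y = Spec S generalizing Y
  · rw [IsZariskiLocalAtSource.iff_of_openCover (P := P) Y.affineCover]
    intro i
    have heq : pullback.fst (Spec.map φ) (Y.affineCover.f i ≫ g) =
        pullback.map _ _ _ _ (𝟙 _) (Y.affineCover.f i) (𝟙 _) (by simp) (by simp) ≫
          pullback.fst (Spec.map φ) g := (pullback.lift_fst _ _ _).symm
    exact this _ (heq ▸ AlgebraicGeometry.IsZariskiLocalAtSource.comp h' _) ⟨_, rfl⟩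
  obtain ⟨S, rfl⟩ := hY
  refine of_pullback_fst_Spec_of_codescendsAlong (P := P) (P' := @Surjective ⊓ @Flat)
    (Q := Q) (Q' := RingHom.FaithfullyFlat) h ?_ ?_ hf.1 h'
  · intro R S f ⟨hf₁, hf₂⟩
    rw [RingHom.FaithfullyFlat.iff_flat_and_comap_surjective]
    refine ⟨?_, (Spec.map f).surjective⟩
    rwa [HasRingHomProperty.Spec_iff (P := @Flat)] at hf₂
  · intro R S f
    exact HasRingHomProperty.Spec_iff (P := P)

end SchemeDesc

section Special

open AlgebraicGeometry

theorem qpc_codescends : RingHom.CodescendsAlong @Qpc RingHom.FaithfullyFlat := by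
  refine .mk _ qpc_respectsIso fun R S T _ _ _ _ _ h h' ↦ ?_
  rw [RingHom.faithfullyFlat_algebraMap_iff] at h
  exact (qpc_algebraMap_iff R T).2 (pcHom_of_baseChange R T S ((qpc_algebraMap_iff _ _).1 h'))

theorem qperf_codescends : RingHom.CodescendsAlong @Qperf RingHom.FaithfullyFlat := by
  refine .mk _ qperf_respectsIso fun R S T _ _ _ _ _ h h' ↦ ?_
  rw [RingHom.faithfullyFlat_algebraMap_iff] at h
  have h1 : MoreMor.IsPerfectHom S (S ⊗[R] T) :=
    ⟨(qpc_algebraMap_iff _ _).1 h'.1, (qftd_algebraMap_iff _ _).1 h'.2⟩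
  have h2 := perfHom_of_baseChange R T S h1
  exact ⟨(qpc_algebraMap_iff R T).2 h2.1, (qftd_algebraMap_iff R T).2 h2.2⟩

theorem pcMor_descends : Ppc.{u}.DescendsAlong (@Surjective ⊓ @Flat ⊓ @QuasiCompact) :=
  descendsAlong_flat_of_flatBC (P := Ppc.{u})
    (fun f f' g' g _ hc hf => pcMor_baseChange f f' g' g hc hf) qpc_codescends

theorem perfMor_descends : Pperf.{u}.DescendsAlong (@Surjective ⊓ @Flat ⊓ @QuasiCompact) :=
  descendsAlong_flat_of_flatBC (P := Pperf.{u})
    (fun f f' g' g _ hc hf => perfMor_baseChange f f' g' g hc hf) qperf_codescends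

theorem pcMor_of_baseChange {X S X' S' : Scheme.{u}} (f : X ⟶ S) (f' : X' ⟶ S') (g' : X' ⟶ X)
    (g : S' ⟶ S) [Flat g] [Surjective g] [QuasiCompact g] (hc : IsPullback g' f' f g)
    (hf' : MoreMor.IsPseudoCoherentMor f') : MoreMor.IsPseudoCoherentMor f :=
  have := pcMor_descends.{u}
  MorphismProperty.of_isPullback_of_descendsAlong (P := Ppc.{u})
    (Q := @Surjective ⊓ @Flat ⊓ @QuasiCompact) hc.flip
    ⟨⟨inferInstance, inferInstance⟩, inferInstance⟩ hf'

theorem perfMor_of_baseChange {X S X' S' : Scheme.{u}} (f : X ⟶ S) (f' : X' ⟶ S') (g' : X' ⟶ X)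
    (g : S' ⟶ S) [Flat g] [Surjective g] [QuasiCompact g] (hc : IsPullback g' f' f g)
    (hf' : MoreMor.IsPerfectMor f') : MoreMor.IsPerfectMor f :=
  have := perfMor_descends.{u}
  MorphismProperty.of_isPullback_of_descendsAlong (P := Pperf.{u})
    (Q := @Surjective ⊓ @Flat ⊓ @QuasiCompact) hc.flip
    ⟨⟨inferInstance, inferInstance⟩, inferInstance⟩ hf'

end Special

end Groth.Agent.Lib.T2H7.PerfDesc
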