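import Groth.Agent.Lib.T2H7PCLocal
import Groth.Agent.Lib.T2H7PerfDesc
import Groth.Agent.Lib.T2H1ChartPCMor

/-!
# `m`-pseudo-coherent ring maps form a local property; `m`-pseudo-coherent morphisms (T2H1)

The fixed-`m` analogue of helper7's `T2H7PCLocal`.
-/

set_option autoImplicit false
set_option linter.style.haveILetI false
universe u
open CategoryTheory CategoryTheory.Limits
attribute [local instance] HasDerivedCategory.standard

namespace Groth.Agent.Lib.T2H1.PCm

open Groth.Agent.Lib.Helper1.RelPC Groth.Agent.Lib.Helper1.Restrict Groth.Agent.Lib.Helper1.PC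
open Groth.Agent.Lib.Helper1.Extend DerivedCategory Groth.Agent.Lib.T2H7.PCLocal
open Groth.Agent.Lib.T2H7.PdPC

section Bridge

variable {R A : Type u} [CommRing R] [CommRing A] [Algebra R A]

/-- chart form of relative `m`-pseudo-coherence of the algebra itself -/
theorem relModule_iff_chart {n : ℕ} (φ : MvPolynomial (Fin n) R →+* A)
    (hφ : Function.Surjective φ) (hC : φ.comp MvPolynomial.C = algebraMap R A) (m : ℤ) :
    DerCA.IsRelPseudoCoherentModule R A m A ↔
      DRing.IsPseudoCoherent (MvPolynomial (Fin n) R) m ((G φ).obj (ModuleCat.of A A)) := by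
  have hcomm : ∀ a : R, φ (MvPolynomial.C a) = algebraMap R A a := fun a => by
    rw [← hC]; rfl
  let φa : MvPolynomial (Fin n) R →ₐ[R] A := { φ with commutes' := hcomm }
  have e := restrictDSingleIso (φa : MvPolynomial (Fin n) R →+* A) (ModuleCat.of A A) 0
  refine (rel_iff_via φa hφ _ m).trans ?_
  exact ⟨fun h => isPC_of_iso e h, fun h => isPC_of_iso e.symm h⟩

theorem finiteType_of_relModule (m : ℤ) (h : DerCA.IsRelPseudoCoherentModule R A m A) :
    Algebra.FiniteType R A := by
  obtain ⟨n, α, hα, -⟩ := h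
  exact Algebra.FiniteType.of_surjective α hα

end Bridge

section RingProp

/-- `m`-pseudo-coherence as a property of ring homomorphisms. -/
def Qpcm (m : ℤ) {R S : Type u} [CommRing R] [CommRing S] (f : R →+* S) : Prop :=
  @DerCA.IsRelPseudoCoherentModule R S _ _ f.toAlgebra m S _ _

variable (m : ℤ)

theorem relModule_congr_algebra {R A : Type u} [CommRing R] [CommRing A] (i₁ i₂ : Algebra R A)
    (h : ∀ r, @algebraMap R A _ _ i₁ r = @algebraMap R A _ _ i₂ r)
    (h1 : @DerCA.IsRelPseudoCoherentModule R A _ _ i₁ m A _ _) :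
    @DerCA.IsRelPseudoCoherentModule R A _ _ i₂ m A _ _ := by
  have : i₁ = i₂ := Algebra.algebra_ext _ _ h
  subst this
  exact h1

theorem qpcm_algebraMap_iff (R A : Type u) [CommRing R] [CommRing A] [inst : Algebra R A] :
    Qpcm m (algebraMap R A) ↔ DerCA.IsRelPseudoCoherentModule R A m A := by
  have h : (algebraMap R A).toAlgebra = inst := Algebra.algebra_ext _ _ fun _ => rfl
  unfold Qpcm
  rw [h]

theorem qpcm_finiteType {R A : Type u} [CommRing R] [CommRing A] (f : R →+* A)
    (h : Qpcm m f) : f.FiniteType :=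
  @finiteType_of_relModule R A _ _ f.toAlgebra m h

theorem qpcm_of_qpc {R A : Type u} [CommRing R] [CommRing A] (f : R →+* A) (h : Qpc f) :
    Qpcm m f := by
  letI : Algebra R A := f.toAlgebra
  exact (pcHom_iff_relAll R A).1 h m

theorem qpcm_mono {m m' : ℤ} (hm : m ≤ m') {R A : Type u} [CommRing R] [CommRing A]
    (f : R →+* A) (h : Qpcm m f) : Qpcm m' f := by
  letI : Algebra R A := f.toAlgebra
  obtain ⟨n, α, hα, h1⟩ := h
  exact ⟨n, α, hα, isPC_mono hm h1⟩

/-- composition with a pseudo-coherent map on the source side -/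
theorem qpcm_comp_left {R A B : Type u} [CommRing R] [CommRing A] [CommRing B] (f : R →+* A)
    (g : A →+* B) (hf : Qpc f) (hg : Qpcm m g) : Qpcm m (g.comp f) := by
  letI : Algebra R A := f.toAlgebra
  letI : Algebra A B := g.toAlgebra
  letI : Algebra R B := (g.comp f).toAlgebra
  haveI : IsScalarTower R A B := IsScalarTower.of_algebraMap_eq' rfl
  have hf' : MoreMor.IsPseudoCoherentHom R A := hf
  have hg' : DerCA.IsRelPseudoCoherentModule A B m B := hg
  haveI : Algebra.FiniteType R A := finiteType_of_pcHom R A hf'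
  haveI : Algebra.FiniteType A B := finiteType_of_relModule m hg'
  haveI : Algebra.FiniteType R B := Algebra.FiniteType.trans ‹Algebra.FiniteType R A› ‹_›
  have hA := (pcHom_iff_relAll R A).1 hf'
  exact ((Groth.Agent.S6985.result (R := R) (A := A) (B := B) hA (Dual.inD B B) m).1).1 hg'

theorem qpcm_cancel {R A B : Type u} [CommRing R] [CommRing A] [CommRing B] (f : R →+* A)
    (g : A →+* B) (hf : Qpc f) (hgf : Qpcm m (g.comp f)) : Qpcm m g := by
  letI : Algebra R A := f.toAlgebra
  letI : Algebra A B := g.toAlgebra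
  letI : Algebra R B := (g.comp f).toAlgebra
  haveI : IsScalarTower R A B := IsScalarTower.of_algebraMap_eq' rfl
  have hf' : MoreMor.IsPseudoCoherentHom R A := hf
  have hgf' : DerCA.IsRelPseudoCoherentModule R B m B := hgf
  haveI : Algebra.FiniteType R A := finiteType_of_pcHom R A hf'
  haveI : Algebra.FiniteType R B := finiteType_of_relModule m hgf'
  haveI : Algebra.FiniteType A B := Algebra.FiniteType.of_restrictScalars_finiteType R A B
  have hA := (pcHom_iff_relAll R A).1 hf'
  exact ((Groth.Agent.S6985.result (R := R) (A := A) (B := B) hA (Dual.inD B B) m).1).2 hgf'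

/-- composition with a ring isomorphism on the target side -/
theorem qpcm_comp_equiv {R A B : Type u} [CommRing R] [CommRing A] [CommRing B] (f : R →+* A)
    (e : A ≃+* B) (hf : Qpcm m f) : Qpcm m (e.toRingHom.comp f) := by
  letI : Algebra R A := f.toAlgebra
  letI : Algebra R B := (e.toRingHom.comp f).toAlgebra
  obtain ⟨n, α, hα, h1⟩ := hf
  let ea : A ≃ₐ[R] B := { e with commutes' := fun r => rfl }
  refine ⟨n, (ea : A →ₐ[R] B).comp α, ea.surjective.comp hα, ?_⟩
  unfold DerCA.IsRelPseudoCoherentVia at h1 ⊢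
  have h2 : (((ea : A →ₐ[R] B).comp α : MvPolynomial (Fin n) R →ₐ[R] B) :
      MvPolynomial (Fin n) R →+* B) = (e : A →+* B).comp (α : MvPolynomial (Fin n) R →+* A) := rfl
  rw [h2, ← isPC_restrictD_comp_iff]
  letI : Algebra A B := (e : A →+* B).toAlgebra
  have e1 : (DRing.restrictD (e : A →+* B)).obj (Dual.inD B B) ≅ Dual.inD A B :=
    restrictDInDIso (A := A) (B := B) B
  let l : A ≃ₗ[A] B :=
    { e.toAddEquiv with
      map_smul' := fun a x => by
        show e (a * x) = e a * e x
        exact map_mul e a x }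
  have e2 : Dual.inD A A ≅ Dual.inD A B :=
    (DerivedCategory.singleFunctor (ModuleCat.{u} A) 0).mapIso l.toModuleIso
  exact isPC_of_iso ((DRing.restrictD (α : MvPolynomial (Fin n) R →+* A)).mapIso
    (e2 ≪≫ e1.symm)) h1

theorem qpcm_respectsIso : RingHom.RespectsIso (@Qpcm m) := by
  constructor
  · intro R S T _ _ _ f e hf
    exact qpcm_comp_equiv m f e hf
  · intro R S T _ _ _ f e hf
    exact qpcm_comp_left m e.toRingHom f (qpc_of_bijective _ e.bijective) hf

theorem qpcm_awaySource :
    RingHom.StableUnderCompositionWithLocalizationAwaySource (@Qpcm m) := by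
  intro R S T _ _ _ _ r _ f hf
  exact qpcm_comp_left m (algebraMap R S) f (qpc_away R r S) hf

end RingProp

section Local

variable (m : ℤ)

theorem relModule_iff_away {R A : Type u} [CommRing R] [CommRing A] [Algebra R A]
    [Algebra.FiniteType R A] {r : ℕ} (f : Fin r → A)
    (hf : Ideal.span (Set.range f) = ⊤) :
    DerCA.IsRelPseudoCoherentModule R A m A ↔
      ∀ i, DerCA.IsRelPseudoCoherentModule R (Localization.Away (f i)) m
        (Localization.Away (f i)) := by
  constructor
  · intro h i
    have h1 : DerCA.IsRelPseudoCoherent R A m (DRing.toD (K₀ A)) :=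
      rel_of_iso (toDK₀Iso A).symm m h
    have h2 := (Groth.Agent.S6987.result (R := R) (K₀ A) m f hf).1 h1 i
    exact rel_of_iso (toDExtK₀Iso A (Localization.Away (f i))) m h2
  · intro h
    have h2 : ∀ i, DerCA.IsRelPseudoCoherent R (Localization.Away (f i)) m
        (DRing.toD ((extCx A (Localization.Away (f i))).obj (K₀ A))) :=
      fun i => rel_of_iso (toDExtK₀Iso A (Localization.Away (f i))).symm m (h i)
    have h1 := (Groth.Agent.S6987.result (R := R) (K₀ A) m f hf).2 h2
    exact rel_of_iso (toDK₀Iso A) m h1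

theorem relModule_away {R A : Type u} [CommRing R] [CommRing A] [Algebra R A] (s : A)
    (h : DerCA.IsRelPseudoCoherentModule R A m A) :
    DerCA.IsRelPseudoCoherentModule R (Localization.Away s) m (Localization.Away s) := by
  haveI : Algebra.FiniteType R A := finiteType_of_relModule m h
  have hf : Ideal.span (Set.range ![s, 1]) = ⊤ := by
    rw [Ideal.eq_top_iff_one]
    exact Ideal.subset_span ⟨1, rfl⟩
  exact (relModule_iff_away m ![s, 1] hf).1 h 0

theorem qpcm_awayTarget :
    RingHom.StableUnderCompositionWithLocalizationAwayTarget (@Qpcm m) := by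
  intro R S T _ _ _ _ s _ f hf
  letI : Algebra R S := f.toAlgebra
  have h1 : DerCA.IsRelPseudoCoherentModule R (Localization.Away s) m (Localization.Away s) :=
    relModule_away m s hf
  have h2 : Qpcm m ((algebraMap S (Localization.Away s)).comp f) :=
    relModule_congr_algebra m (inferInstance : Algebra R (Localization.Away s))
      ((algebraMap S (Localization.Away s)).comp f).toAlgebra (fun r => rfl) h1
  let e : Localization.Away s ≃ₐ[S] T := IsLocalization.algEquiv (Submonoid.powers s) _ _
  have h3 := qpcm_comp_equiv m _ e.toRingEquiv h2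
  have h4 : e.toRingEquiv.toRingHom.comp ((algebraMap S (Localization.Away s)).comp f) =
      (algebraMap S T).comp f := by
    ext r
    exact e.commutes (f r)
  rwa [h4] at h3

theorem qpcm_ofLocalizationFiniteSpanTarget :
    RingHom.OfLocalizationFiniteSpanTarget (@Qpcm m) := by
  intro R S _ _ f s hs H
  let _ : Algebra R S := f.toAlgebra
  have hft : Algebra.FiniteType R S := by
    have h1 := RingHom.finiteType_ofLocalizationSpanTarget f (s : Set S) hs (fun r => ?_)
    · exact h1
    · exact qpcm_finiteType m _ (H ⟨r.1, r.2⟩)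
  let e := s.equivFin
  let g : Fin s.card → S := fun i => (e.symm i : S)
  have hg : Ideal.span (Set.range g) = ⊤ := by
    have : Set.range g = (s : Set S) := by
      ext x
      constructor
      · rintro ⟨i, rfl⟩
        exact (e.symm i).2
      · intro hx
        exact ⟨e ⟨x, hx⟩, by simp [g]⟩
    rw [this, hs]
  refine (relModule_iff_away (R := R) (A := S) m g hg).2 (fun i => ?_)
  have h1 := H (e.symm i)
  refine relModule_congr_algebra m _ _ (fun r => ?_) h1
  rfl

theorem qpcm_ofLocalizationSpanTarget : RingHom.OfLocalizationSpanTarget (@Qpcm m) :=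
  (RingHom.ofLocalizationSpanTarget_iff_finite _).2 (qpcm_ofLocalizationFiniteSpanTarget m)

theorem qpcm_localizationAwayPreserves : RingHom.LocalizationAwayPreserves (@Qpcm m) := by
  intro R S _ _ f r R' S' _ _ _ _ _ _ hf
  have h1 : Qpcm m ((algebraMap S S').comp f) := qpcm_awayTarget m S' (f r) f hf
  have h2 : (IsLocalization.Away.map R' S' f r).comp (algebraMap R R') = (algebraMap S S').comp f :=
    IsLocalization.map_comp _
  rw [← h2] at h1
  exact qpcm_cancel m (algebraMap R R') _ (qpc_away R r R') h1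

theorem qpcm_ofLocalizationSpan : RingHom.OfLocalizationSpan (@Qpcm m) :=
  (qpcm_ofLocalizationSpanTarget m).ofLocalizationSpan (qpcm_awaySource m)

theorem qpcm_isLocal : RingHom.PropertyIsLocal (@Qpcm m) :=
  ⟨qpcm_localizationAwayPreserves m, qpcm_ofLocalizationSpanTarget m, qpcm_ofLocalizationSpan m,
    qpcm_awayTarget m⟩

end Local

section SchemeLevel

open AlgebraicGeometry

/-- `m`-pseudo-coherent morphisms as a morphism property (all affine pairs) -/
def Ppcm (m : ℤ) : MorphismProperty Scheme.{u} := fun X Y f =>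
  ∀ (U : X.Opens) (V : Y.Opens), IsAffineOpen U → IsAffineOpen V → ∀ e : U ≤ f ⁻¹ᵁ V,
    Qpcm m (f.appLE V U e).hom

instance (m : ℤ) : HasRingHomProperty (Ppcm.{u} m) (@Qpcm m) where
  isLocal_ringHomProperty := qpcm_isLocal m
  eq_affineLocally' := by
    ext X Y f
    rw [affineLocally_iff_forall_isAffineOpen]
    constructor
    · intro h U hU V hV e
      exact h V U hV hU e
    · intro h U V hU hV e
      exact h hV hU e

theorem ppcm_iff_exists (m : ℤ) {X S : Scheme.{u}} (f : X ⟶ S) :
    Ppcm m f ↔ ∀ x : X, ∃ (U : X.Opens) (V : S.Opens) (hUV : U ≤ f ⁻¹ᵁ V),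
      IsAffineOpen U ∧ IsAffineOpen V ∧ x ∈ U ∧ Qpcm m (f.appLE V U hUV).hom := by
  have h := HasRingHomProperty.iff_exists_appLE (P := Ppcm.{u} m) (f := f) (qpcm_awaySource m)
  constructor
  · intro hf x
    obtain ⟨U, V, hx, e, h1⟩ := (h.1 hf) x
    exact ⟨V.1, U.1, e, V.2, U.2, hx, h1⟩
  · intro hf
    refine h.2 fun x => ?_
    obtain ⟨U, V, e, hU, hV, hx, h1⟩ := hf x
    exact ⟨⟨V, hV⟩, ⟨U, hU⟩, hx, e, h1⟩

theorem locallyOfFiniteType_of_ppcm (m : ℤ) {X Y : Scheme.{u}} (f : X ⟶ Y) (h : Ppcm m f) :
    LocallyOfFiniteType f := by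
  rw [HasRingHomProperty.iff_appLE (P := @LocallyOfFiniteType)]
  intro V U e
  exact qpcm_finiteType m _ (h U.1 V.1 U.2 V.2 e)

/-- the chart-form definition of `m`-pseudo-coherent morphisms agrees with the ring-level
condition on all affine pairs -/
theorem isNPseudoCoherent_iff_ppcm {X Y : Scheme.{u}} (f : X ⟶ Y) (m : ℤ) :
    DerSch.IsNPseudoCoherent f m ↔ Ppcm m f := by
  constructor
  · intro hf
    rw [ppcm_iff_exists]
    intro x
    obtain ⟨U, V, hU, hV, h, n, φ, hxU, hφ, hpc⟩ :=
      Groth.Agent.Lib.T2H1.ChartPC.exists_chart_of_isNPseudoCoherent f m hf x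
    refine ⟨U, V, h, hU, hV, hxU, ?_⟩
    letI : Algebra Γ(Y, V) Γ(X, U) := (f.appLE V U h).hom.toAlgebra
    exact (relModule_iff_chart φ hφ.1 hφ.2 m).2 hpc
  · intro hf
    haveI := locallyOfFiniteType_of_ppcm m f hf
    refine Groth.Agent.Lib.T2H1.ChartPC.isNPseudoCoherent_of_forall f m
      fun U V hU hV h n φ hφ => ?_
    letI : Algebra Γ(Y, V) Γ(X, U) := (f.appLE V U h).hom.toAlgebra
    exact (relModule_iff_chart φ hφ.1 hφ.2 m).1 (hf U V hU hV h)

end SchemeLevel

end Groth.Agent.Lib.T2H1.PCm
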