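import Groth.Agent.Lib.T2H1PCm

/-!
# Flat base change and faithfully flat descent of `m`-pseudo-coherent morphisms (T2H1)

The fixed-`m` analogue of helper7's `T2H7PerfBC` / `T2H7PerfDesc`.
-/

set_option autoImplicit false
set_option linter.style.haveILetI false
universe u
open CategoryTheory CategoryTheory.Limits MorphismProperty
attribute [local instance] HasDerivedCategory.standard

namespace Groth.Agent.Lib.T2H1.PCm

open Groth.Agent.Lib.Helper1.RelPC Groth.Agent.Lib.Helper1.Restrict Groth.Agent.Lib.Helper1.PC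
open Groth.Agent.Lib.Helper1.Extend DerivedCategory Groth.Agent.Lib.T2H7.PCLocal
open Groth.Agent.Lib.T2H7.PdPC Groth.Agent.Lib.T2H7.PerfBC Groth.Agent.Lib.T2H7.PerfDesc
open TensorProduct

section RingBC

attribute [local instance] MvPolynomial.algebraMvPolynomial

variable (m : ℤ) (A B A' : Type u) [CommRing A] [CommRing B] [CommRing A'] [Algebra A B]
  [Algebra A A']

/-- relative `m`-pseudo-coherence of an algebra is stable under flat base change -/
theorem relModule_baseChange [Module.Flat A A'] (h : DerCA.IsRelPseudoCoherentModule A B m B) :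
    DerCA.IsRelPseudoCoherentModule A' (A' ⊗[A] B) m (A' ⊗[A] B) := by
  obtain ⟨n, φ, hφ, hpc⟩ := h
  let P := MvPolynomial (Fin n) A
  let P' := MvPolynomial (Fin n) A'
  letI iPB : Algebra P B := φ.toRingHom.toAlgebra
  haveI : IsScalarTower A P B := IsScalarTower.of_algebraMap_eq' φ.comp_algebraMap.symm
  have hpush : Algebra.IsPushout A P A' P' := inferInstance
  haveI hflat : Module.Flat P P' := Module.Flat.isBaseChange A P A' P' hpush.out
  let e : P' ⊗[P] B ≃ₐ[A'] A' ⊗[A] B := Algebra.IsPushout.cancelBaseChangeAlg A A' P P' B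
  let φ' : P' →ₐ[A'] A' ⊗[A] B :=
    (e : P' ⊗[P] B →ₐ[A'] A' ⊗[A] B).comp (Algebra.TensorProduct.includeLeft)
  have hφ' : Function.Surjective φ' := by
    have h1 : Function.Surjective
        (Algebra.TensorProduct.includeLeft : P' →ₐ[A'] P' ⊗[P] B) := by
      intro x
      induction x using TensorProduct.induction_on with
      | zero => exact ⟨0, map_zero _⟩
      | add x y hx hy =>
        obtain ⟨a, rfl⟩ := hx
        obtain ⟨b, rfl⟩ := hy
        exact ⟨a + b, map_add _ _ _⟩
      | tmul p b =>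
        obtain ⟨q, rfl⟩ := hφ b
        refine ⟨p * algebraMap P P' q, ?_⟩
        change (p * algebraMap P P' q) ⊗ₜ[P] (1 : B) = p ⊗ₜ[P] (algebraMap P B q)
        rw [Algebra.algebraMap_eq_smul_one q, Algebra.algebraMap_eq_smul_one (A := B) q,
          mul_smul_comm, mul_one, TensorProduct.smul_tmul]
    exact e.surjective.comp h1
  refine ⟨n, φ', hφ', ?_⟩
  have e0 : (DRing.restrictD (φ : P →+* B)).obj (Dual.inD B B) ≅ Dual.inD P B :=
    restrictDInDIso (A := P) B
  have hpc' : DRing.IsPseudoCoherent P m (Dual.inD P B) := isPC_of_iso e0 hpc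
  letI iP'T : Algebra P' (A' ⊗[A] B) := φ'.toRingHom.toAlgebra
  have h1 : DRing.IsPseudoCoherent P' m ((extD P P').obj (Dual.inD P B)) :=
    isPC_extD (A := P) (B := P') _ m hpc'
  have h2 := isPC_of_iso (extDInDIso (A := P) (B := P') B) h1
  let el : P' ⊗[P] B ≃ₗ[P'] A' ⊗[A] B :=
    { e.toLinearEquiv.toAddEquiv with
      map_smul' := fun p x => by
        change e (p • x) = φ' p * e x
        have hx : p • x = (Algebra.TensorProduct.includeLeft (R := P) (S := A') (A := P') (B := B) p) * x := by
          induction x using TensorProduct.induction_on with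
          | zero => simp
          | add x y hx hy => rw [smul_add, mul_add, hx, hy]
          | tmul q b =>
            rw [TensorProduct.smul_tmul', Algebra.TensorProduct.includeLeft_apply,
              Algebra.TensorProduct.tmul_mul_tmul, one_mul, smul_eq_mul]
        rw [hx, map_mul]
        rfl }
  have h3 : DRing.IsPseudoCoherent P' m (Dual.inD P' (A' ⊗[A] B)) :=
    isPC_of_iso ((DerivedCategory.singleFunctor (ModuleCat.{u} P') 0).mapIso el.toModuleIso) h2
  have e1 : (DRing.restrictD (φ' : P' →+* A' ⊗[A] B)).obj (Dual.inD (A' ⊗[A] B) (A' ⊗[A] B)) ≅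
      Dual.inD P' (A' ⊗[A] B) := restrictDInDIso (A := P') (A' ⊗[A] B)
  exact isPC_of_iso e1.symm h3

variable (R T S : Type u) [CommRing R] [CommRing T] [CommRing S] [Algebra R T] [Algebra R S]

/-- relative `m`-pseudo-coherence of an algebra descends along faithfully flat base change -/
theorem relModule_of_baseChange [Module.FaithfullyFlat R S]
    (h : DerCA.IsRelPseudoCoherentModule S (S ⊗[R] T) m (S ⊗[R] T)) :
    DerCA.IsRelPseudoCoherentModule R T m T := by
  haveI hft' : Algebra.FiniteType S (S ⊗[R] T) := finiteType_of_relModule m h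
  haveI hft : Algebra.FiniteType R T := .of_finiteType_tensorProduct_of_faithfullyFlat S
  obtain ⟨n, φ, hφ⟩ := exists_presentation R T
  let P := MvPolynomial (Fin n) R
  let P' := MvPolynomial (Fin n) S
  letI iPT : Algebra P T := φ.toRingHom.toAlgebra
  haveI : IsScalarTower R P T := IsScalarTower.of_algebraMap_eq' φ.comp_algebraMap.symm
  have hpush : Algebra.IsPushout R P S P' := inferInstance
  haveI hflat : Module.FaithfullyFlat P P' :=
    Module.FaithfullyFlat.of_linearEquiv P (P ⊗[R] S) hpush.out.equiv.symm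
  let e : P' ⊗[P] T ≃ₐ[S] S ⊗[R] T := Algebra.IsPushout.cancelBaseChangeAlg R S P P' T
  let φ' : P' →ₐ[S] S ⊗[R] T :=
    (e : P' ⊗[P] T →ₐ[S] S ⊗[R] T).comp (Algebra.TensorProduct.includeLeft)
  have hφ' : Function.Surjective φ' := by
    have h1 : Function.Surjective
        (Algebra.TensorProduct.includeLeft : P' →ₐ[S] P' ⊗[P] T) := by
      intro x
      induction x using TensorProduct.induction_on with
      | zero => exact ⟨0, map_zero _⟩
      | add x y hx hy =>
        obtain ⟨a, rfl⟩ := hx
        obtain ⟨b, rfl⟩ := hy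
        exact ⟨a + b, map_add _ _ _⟩
      | tmul p b =>
        obtain ⟨q, rfl⟩ := hφ b
        refine ⟨p * algebraMap P P' q, ?_⟩
        change (p * algebraMap P P' q) ⊗ₜ[P] (1 : T) = p ⊗ₜ[P] (algebraMap P T q)
        rw [Algebra.algebraMap_eq_smul_one q, Algebra.algebraMap_eq_smul_one (A := T) q,
          mul_smul_comm, mul_one, TensorProduct.smul_tmul]
    exact e.surjective.comp h1
  have h1 : DerCA.IsRelPseudoCoherentVia φ' m (Dual.inD (S ⊗[R] T) (S ⊗[R] T)) :=
    (rel_iff_via φ' hφ' _ m).1 h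
  letI iP'T : Algebra P' (S ⊗[R] T) := φ'.toRingHom.toAlgebra
  have e1 : (DRing.restrictD (φ' : P' →+* S ⊗[R] T)).obj (Dual.inD (S ⊗[R] T) (S ⊗[R] T)) ≅
      Dual.inD P' (S ⊗[R] T) := restrictDInDIso (A := P') (S ⊗[R] T)
  have h2 : DRing.IsPseudoCoherent P' m (Dual.inD P' (S ⊗[R] T)) := isPC_of_iso e1 h1
  let el : P' ⊗[P] T ≃ₗ[P'] S ⊗[R] T :=
    { e.toLinearEquiv.toAddEquiv with
      map_smul' := fun p x => by
        change e (p • x) = φ' p * e x
        have hx : p • x = (Algebra.TensorProduct.includeLeft (R := P) (S := S) (A := P') (B := T) p) * x := by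
          induction x using TensorProduct.induction_on with
          | zero => simp
          | add x y hx hy => rw [smul_add, mul_add, hx, hy]
          | tmul q b =>
            rw [TensorProduct.smul_tmul', Algebra.TensorProduct.includeLeft_apply,
              Algebra.TensorProduct.tmul_mul_tmul, one_mul, smul_eq_mul]
        rw [hx, map_mul]
        rfl }
  have h3 : DRing.IsPseudoCoherent P' m (Dual.inD P' (P' ⊗[P] T)) :=
    isPC_of_iso ((DerivedCategory.singleFunctor (ModuleCat.{u} P') 0).mapIso el.toModuleIso).symm h2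
  have h4 := isPC_of_iso (extDInDIso (A := P) (B := P') T).symm h3
  have h5 : DRing.IsPseudoCoherent P m (Dual.inD P T) := isPC_of_extD (A := P) (B := P') _ m h4
  have e0 : (DRing.restrictD (φ : P →+* T)).obj (Dual.inD T T) ≅ Dual.inD P T :=
    restrictDInDIso (A := P) T
  exact ⟨n, φ, hφ, isPC_of_iso e0.symm h5⟩

end RingBC

section Special

open AlgebraicGeometry

variable (m : ℤ)

theorem qpcm_flatBC : FlatBC (@Qpcm m) := by
  intro R S T _ _ _ _ _ hfl h
  exact (qpcm_algebraMap_iff m S (S ⊗[R] T)).2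
    (relModule_baseChange m R T S ((qpcm_algebraMap_iff m R T).1 h))

theorem qpcm_codescends : RingHom.CodescendsAlong (@Qpcm m) RingHom.FaithfullyFlat := by
  refine .mk _ (qpcm_respectsIso m) fun R S T _ _ _ _ _ h h' ↦ ?_
  rw [RingHom.faithfullyFlat_algebraMap_iff] at h
  exact (qpcm_algebraMap_iff m R T).2
    (relModule_of_baseChange m R T S ((qpcm_algebraMap_iff m _ _).1 h'))

theorem ppcm_baseChange {X S X' S' : Scheme.{u}} (f : X ⟶ S) (f' : X' ⟶ S') (g' : X' ⟶ X)
    (g : S' ⟶ S) [Flat g] (hc : IsPullback g' f' f g) (hf : Ppcm m f) : Ppcm m f' :=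
  of_isPullback_of_flat (P := Ppcm.{u} m) (qpcm_awaySource m) (qpcm_flatBC m) f f' g' g hc hf

theorem ppcm_descends : (Ppcm.{u} m).DescendsAlong (@Surjective ⊓ @Flat ⊓ @QuasiCompact) :=
  descendsAlong_flat_of_flatBC (P := Ppcm.{u} m)
    (fun f f' g' g _ hc hf => ppcm_baseChange m f f' g' g hc hf) (qpcm_codescends m)

theorem ppcm_of_baseChange {X S X' S' : Scheme.{u}} (f : X ⟶ S) (f' : X' ⟶ S') (g' : X' ⟶ X)
    (g : S' ⟶ S) [Flat g] [Surjective g] [QuasiCompact g] (hc : IsPullback g' f' f g)
    (hf' : Ppcm m f') : Ppcm m f :=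
  have := ppcm_descends.{u} m
  MorphismProperty.of_isPullback_of_descendsAlong (P := Ppcm.{u} m)
    (Q := @Surjective ⊓ @Flat ⊓ @QuasiCompact) hc.flip
    ⟨⟨inferInstance, inferInstance⟩, inferInstance⟩ hf'

end Special

end Groth.Agent.Lib.T2H1.PCm
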