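import Groth.Agent.Lib.T2H1PCm
import Groth.Agent.S2068

/-!
# Composition of `m`-pseudo-coherent ring maps and morphisms (T2H1)
-/

set_option autoImplicit false
set_option linter.style.haveILetI false
universe u
open CategoryTheory CategoryTheory.Limits
attribute [local instance] HasDerivedCategory.standard

namespace Groth.Agent.Lib.T2H1.PCm

open Groth.Agent.Lib.Helper1.RelPC Groth.Agent.Lib.Helper1.Restrict Groth.Agent.Lib.Helper1.PC
open Groth.Agent.Lib.Helper1.Extend DerivedCategory Groth.Agent.Lib.T2H7.PCLocal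
open Groth.Agent.Lib.T2H7.PdPC Groth.Agent.Lib.Helper1.PCTower Groth.Agent.S7017
open Groth.Agent.S14388 Pretriangulated

section Restrict

variable {A B : Type u} [CommRing A] [CommRing B] (φ : A →+* B)

/-- a module that is `m`-pseudo-coherent for some `m ≤ 0` is finite -/
theorem finite_of_isPC_single (M : ModuleCat.{u} A) (m : ℤ) (hm : m ≤ 0)
    (h : DRing.IsPseudoCoherent A m ((singleFunctor (ModuleCat.{u} A) 0).obj M)) :
    Module.Finite A M := by
  have h0 : DRing.IsPseudoCoherent A 0 ((singleFunctor (ModuleCat.{u} A) 0).obj M) :=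
    isPC_mono hm h
  have h1 := (Groth.Agent.S2068.result _ 0 h0).1
    (fun i hi => isZero_homology_single M 0 i (by omega))
  exact Module.Finite.equiv (homologySingleIso M 0).toLinearEquiv

/-- fixed-level version of `isPC_G_pi` -/
lemma isPC_G_pi' (s : ℤ) (hs : DRing.IsPseudoCoherent A s ((G φ).obj (ModuleCat.of B B))) (n : ℕ) :
    DRing.IsPseudoCoherent A s ((G φ).obj (ModuleCat.of B (Fin n → B))) := by
  induction n with
  | zero =>
    refine isPC_of_isZero s _ ((G φ).map_isZero ?_)
    exact ModuleCat.isZero_of_subsingleton _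
  | succ n ih =>
    let e : ModuleCat.of B (Fin (n + 1) → B) ≅ ModuleCat.of B B ⊞ ModuleCat.of B (Fin n → B) :=
      (Fin.consLinearEquiv B (fun _ : Fin (n + 1) => B)).symm.toModuleIso ≪≫
        (ModuleCat.biprodIsoProd (ModuleCat.of B B) (ModuleCat.of B (Fin n → B))).symm
    have := preservesBinaryBiproducts_of_preservesBiproducts (G φ)
    exact isPC_of_iso ((G φ).mapIso e ≪≫ (G φ).mapBiprod _ _).symm (isPC_biprod s _ _ hs ih)

/-- if `B` is `s`-pseudo-coherent over `A`, then a `B`-module which is `m`-pseudo-coherent over `B`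
with `s ≤ m` is `m`-pseudo-coherent over `A` -/
theorem isPC_G_of_isPC (s : ℤ)
    (hs : DRing.IsPseudoCoherent A s ((G φ).obj (ModuleCat.of B B))) :
    ∀ (k : ℕ) (M : ModuleCat.{u} B) (m : ℤ), s ≤ m → -(k : ℤ) ≤ m →
      DRing.IsPseudoCoherent B m ((singleFunctor (ModuleCat.{u} B) 0).obj M) →
      DRing.IsPseudoCoherent A m ((G φ).obj M) := by
  intro k
  induction k with
  | zero =>
    intro M m hsm hkm h
    by_cases hm : 1 ≤ m
    · haveI : ((G φ).obj M).IsLE 0 := by
        dsimp only [G, Functor.comp_obj]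
        infer_instance
      haveI : ((G φ).obj M).IsLE (m - 1) := tt.isLE_of_le _ 0 (m - 1) (by omega)
      exact isPC_of_isLE m _
    · have hm0 : m = 0 := by
        push_cast at hkm
        omega
      subst hm0
      haveI hMfin : Module.Finite B M := finite_of_isPC_single M 0 le_rfl h
      haveI hBfin : Module.Finite A ((ModuleCat.restrictScalars.{u} φ).obj (ModuleCat.of B B)) :=
        finite_of_isPC_single _ s hsm hs
      letI : Algebra A B := φ.toAlgebra
      letI : Module A M := Module.compHom M φ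
      haveI : IsScalarTower A B M := IsScalarTower.of_algebraMap_smul (fun _ _ => rfl)
      haveI hBfin' : Module.Finite A B := hBfin
      haveI hMA : Module.Finite A M := Module.Finite.trans B M
      haveI : Module.Finite A ((ModuleCat.restrictScalars.{u} φ).obj M) := hMA
      exact isPC_single_of_finite _ 0
  | succ k ih =>
    intro M m hsm hkm h
    by_cases hk : -(k : ℤ) ≤ m
    · exact ih M m hsm hk h
    have hm0 : m ≤ 0 := by omega
    haveI hMfin : Module.Finite B M := finite_of_isPC_single M m hm0 h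
    obtain ⟨j, π, hπ⟩ := Module.Finite.exists_fin' B M
    have hF : FF (ModuleCat.of B (Fin j → B)) :=
      ⟨inferInstanceAs (Module.Finite B (Fin j → B)), inferInstanceAs (Module.Free B (Fin j → B))⟩
    have hS := LinearMap.shortExact_shortComplexKer hπ
    have hT := hS.singleTriangle_distinguished
    have h2 : DRing.IsPseudoCoherent B (m + 1)
        ((singleFunctor (ModuleCat.{u} B) 0).obj (ModuleCat.of B (Fin j → B))) :=
      isPC_of_rep (m + 1) (rep_single _ hF 0)
    have h1 : DRing.IsPseudoCoherent B (m + 1)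
        ((singleFunctor (ModuleCat.{u} B) 0).obj (ModuleCat.of B (LinearMap.ker π))) :=
      isPC_obj₁ _ hT m h2 h
    have h1A := ih (ModuleCat.of B (LinearMap.ker π)) (m + 1) (by omega)
      (by push_cast at hkm; omega) h1
    have hS' := hS.map_of_exact (ModuleCat.restrictScalars.{u} φ)
    have hT' := hS'.singleTriangle_distinguished
    have h2A : DRing.IsPseudoCoherent A m ((G φ).obj (ModuleCat.of B (Fin j → B))) :=
      isPC_mono hsm (isPC_G_pi' φ s hs j)
    exact isPC_obj₃ _ hT' m h1A h2A

end Restrict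

section Comp

attribute [local instance] MvPolynomial.algebraMvPolynomial in
/-- fixed-level version of `bpc_map` -/
lemma isPC_map {P A : Type u} [CommRing P] [CommRing A] (α : P →+* A) (s : ℤ)
    (hα : DRing.IsPseudoCoherent P s ((G α).obj (ModuleCat.of A A))) (k : ℕ) :
    DRing.IsPseudoCoherent (MvPolynomial (Fin k) P) s
      ((G (MvPolynomial.map α : MvPolynomial (Fin k) P →+* MvPolynomial (Fin k) A)).obj
        (ModuleCat.of (MvPolynomial (Fin k) A) (MvPolynomial (Fin k) A))) := by
  letI : Algebra P A := α.toAlgebra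
  have h1 : DRing.IsPseudoCoherent P s (Dual.inD P A) :=
    isPC_of_iso ((DerivedCategory.singleFunctor (ModuleCat.{u} P) 0).mapIso
      (restrictScalarsAlgebraIso (A := P) (B := A) A)) hα
  have h2 := isPC_extD (A := P) (B := MvPolynomial (Fin k) P) (Dual.inD P A) s h1
  have h3 := isPC_of_iso (extDInDIso (A := P) (B := MvPolynomial (Fin k) P) A) h2
  have e : TensorProduct P (MvPolynomial (Fin k) P) A ≃ₗ[MvPolynomial (Fin k) P]
      MvPolynomial (Fin k) A :=
    (Algebra.IsPushout.equiv P (MvPolynomial (Fin k) P) A (MvPolynomial (Fin k) A)).toLinearEquiv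
  have h4 : DRing.IsPseudoCoherent (MvPolynomial (Fin k) P) s
      (Dual.inD (MvPolynomial (Fin k) P) (MvPolynomial (Fin k) A)) :=
    isPC_of_iso ((DerivedCategory.singleFunctor (ModuleCat.{u} (MvPolynomial (Fin k) P)) 0).mapIso
      e.toModuleIso) h3
  exact isPC_of_iso ((DerivedCategory.singleFunctor
    (ModuleCat.{u} (MvPolynomial (Fin k) P)) 0).mapIso
    (restrictScalarsAlgebraIso (A := MvPolynomial (Fin k) P) (B := MvPolynomial (Fin k) A)
      (MvPolynomial (Fin k) A))).symm h4

/-- composition of an `s`-pseudo-coherent ring map with an `r`-pseudo-coherent one is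
`max r s`-pseudo-coherent -/
theorem qpcm_comp {R A B : Type u} [CommRing R] [CommRing A] [CommRing B] (f : R →+* A)
    (g : A →+* B) (r s : ℤ) (hf : Qpcm s f) (hg : Qpcm r g) : Qpcm (max r s) (g.comp f) := by
  letI : Algebra R A := f.toAlgebra
  letI : Algebra A B := g.toAlgebra
  letI : Algebra R B := (g.comp f).toAlgebra
  haveI : IsScalarTower R A B := IsScalarTower.of_algebraMap_eq' rfl
  obtain ⟨n, α, hα, hαpc⟩ := hf
  obtain ⟨k, β, hβ, hβpc⟩ := hg
  let α' : MvPolynomial (Fin n) R →+* A := α
  let β' : MvPolynomial (Fin k) A →+* B := β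
  let μ : MvPolynomial (Fin k) (MvPolynomial (Fin n) R) →+* MvPolynomial (Fin k) A :=
    MvPolynomial.map α'
  let γ : MvPolynomial (Fin k) (MvPolynomial (Fin n) R) →+* B := β'.comp μ
  have hγ : ∀ r : R, γ (MvPolynomial.C (MvPolynomial.C r)) = algebraMap R B r := by
    intro r
    simp only [γ, μ, β', α', RingHom.comp_apply, MvPolynomial.map_C]
    have h1 : (α : MvPolynomial (Fin n) R →+* A) (MvPolynomial.C r) = algebraMap R A r :=
      α.commutes r
    rw [h1]
    have h2 : (β : MvPolynomial (Fin k) A →+* B) (MvPolynomial.C (algebraMap R A r)) =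
        algebraMap A B (algebraMap R A r) := β.commutes _
    rw [h2, ← IsScalarTower.algebraMap_apply]
  have hsurj : Function.Surjective γ :=
    hβ.comp (MvPolynomial.map_surjective α' hα)
  have h1 : DRing.IsPseudoCoherent (MvPolynomial (Fin n) R) s ((G α').obj (ModuleCat.of A A)) :=
    isPC_of_iso (restrictDSingleIso α' (ModuleCat.of A A) 0) hαpc
  have h1' := isPC_map α' s h1 k
  have h2 : DRing.IsPseudoCoherent (MvPolynomial (Fin k) A) (max r s)
      ((singleFunctor (ModuleCat.{u} (MvPolynomial (Fin k) A)) 0).obj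
        ((ModuleCat.restrictScalars.{u} β').obj (ModuleCat.of B B))) :=
    isPC_mono (le_max_left r s) (isPC_of_iso (restrictDSingleIso β' (ModuleCat.of B B) 0) hβpc)
  have h3 := isPC_G_of_isPC μ s h1' (-(max r s)).toNat _ (max r s) (le_max_right r s)
    (by omega) h2
  refine (rel_iff_pc_twoStep γ hγ hsurj _ (max r s)).2 ?_
  rw [← isPC_restrictD_comp_iff]
  exact isPC_of_iso ((DRing.restrictD μ).mapIso (restrictDSingleIso β' (ModuleCat.of B B) 0) ≪≫
    restrictDSingleIso μ _ 0).symm h3

end Comp

section SchemeLevel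

open AlgebraicGeometry

theorem ppcm_comp {X Y Z : Scheme.{u}} (f : X ⟶ Y) (g : Y ⟶ Z) (r s : ℤ) (hf : Ppcm r f)
    (hg : Ppcm s g) : Ppcm (max r s) (f ≫ g) := by
  rw [ppcm_iff_exists]
  intro x
  obtain ⟨W, hW, hxW, -⟩ := TopologicalSpace.Opens.isBasis_iff_nbhd.mp Z.isBasis_affineOpens
      (TopologicalSpace.Opens.mem_top <| g (f x))
  obtain ⟨V, hV, hxV, eV⟩ := TopologicalSpace.Opens.isBasis_iff_nbhd.mp Y.isBasis_affineOpens
      (show f x ∈ g ⁻¹ᵁ W from hxW)
  obtain ⟨U, hU, hxU, eU⟩ := TopologicalSpace.Opens.isBasis_iff_nbhd.mp X.isBasis_affineOpens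
      (show x ∈ f ⁻¹ᵁ V from hxV)
  have e3 : U ≤ (f ≫ g) ⁻¹ᵁ W := fun y hy => eV (eU hy)
  refine ⟨U, W, e3, hU, hW, hxU, ?_⟩
  have h1 : Qpcm s (g.appLE W V eV).hom := hg V W hV hW eV
  have h2 : Qpcm r (f.appLE V U eU).hom := hf U V hU hV eU
  have h3 : ((f ≫ g).appLE W U e3).hom = (f.appLE V U eU).hom.comp (g.appLE W V eV).hom := by
    rw [← CommRingCat.hom_comp, Scheme.Hom.appLE_comp_appLE]
  rw [h3]
  exact qpcm_comp _ _ r s h1 h2

end SchemeLevel

end Groth.Agent.Lib.T2H1.PCm
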