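import Mathlib
import Groth.Prelude.Def_KSix
import Groth.Prelude.Def_DTor2
import Groth.Agent.Lib.T2H2AffRedF
import Groth.Agent.Lib.T2H1TorAmpRestrict
import Groth.Agent.S5611
set_option backward.isDefEq.respectTransparency.types false

/-!
# Perfect amplitude = pseudo-coherent + flat amplitude on schemes (helper1, second team)
-/

set_option autoImplicit false
set_option linter.style.haveILetI false
universe u
open CategoryTheory CategoryTheory.Limits AlgebraicGeometry HomologicalComplex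

attribute [local instance] HasDerivedCategory.standard

namespace Groth.Agent.Lib.T2H1.PerfAmp

section Ring

open Groth.Agent.Lib.Helper1.KF Groth.Agent.Lib.Helper1.DT DerivedCategory DTen
  Groth.Agent.Lib.T2H1.TorAmpRestrict

variable {A A' : Type u} [CommRing A] [CommRing A']

/-- tor amplitude is preserved by restriction of scalars along a bijective ring homomorphism -/
theorem hasTorAmplitudeIn_resCx_of_bijective (ψ : A →+* A') (hψ : Function.Bijective ψ)
    (K : Cx A') (a b : ℤ) (h : DRing.HasTorAmplitudeIn A' a b (Q.obj K)) :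
    DRing.HasTorAmplitudeIn A a b (Q.obj ((resCx ψ).obj K)) := by
  obtain ⟨E, hE, hEf, ⟨e⟩⟩ := h
  refine ⟨(resCx ψ).obj E, ?_, ?_, ⟨?_⟩⟩
  · intro i hi
    exact (ModuleCat.restrictScalars.{u} ψ).map_isZero (hE i hi)
  · intro i
    haveI : Module.Flat A' (E.X i) := hEf i
    exact flat_restrictScalars_of_bijective ψ hψ (E.X i)
  · exact ((resFactors ψ).app E).symm ≪≫ (DRing.restrictD ψ).mapIso e ≪≫ (resFactors ψ).app K

end Ring

section Sch

open Groth.Agent.Lib.T2H8.SchLocHtpy Groth.Agent.Lib.T2H8.PerfLocal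
  Groth.Agent.Lib.T2H8.PCohTriangle Groth.Agent.Lib.T2H2.TildeLoc Groth.Agent.Lib.T2H2.AffRed
  DerivedCategory Groth.Agent.Lib.Helper1.Sky Groth.Agent.Lib.Helper1.KBC
  Groth.Agent.Lib.T2H1.StalkTorAmp Groth.Agent.Lib.T2H1.TorAmpRestrict
  Groth.Agent.Lib.T2H1.LpullTorAmp DTen

variable {X : Scheme.{u}}

/-- `(m-1)`-pseudo-coherent with flat amplitude in `[m, n]` implies perfect amplitude in
`[m, n]` -/
theorem hasPerfectAmplitudeIn_of_pc_of_flatAmplitude (E : DCoh.D X) (m n : ℤ) (hmn : m ≤ n)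
    (h2 : DCoh.IsPseudoCoherentD (m - 1) E) (h1 : DCoh.HasFlatAmplitudeIn m n E) :
    KSix.HasPerfectAmplitudeIn m n E := by
  have hqE : DCoh.IsQCohD E := isQCohD_of_flatAmplitude_of_pc E m n h1 h2
  intro x
  obtain ⟨A, _, k, _, x', hx'⟩ := exists_affine_chart x
  obtain ⟨M, ⟨eM⟩⟩ := exists_tildeD_iso A ((rD k).obj E) (isQCohD_rD k E hqE)
  have hMpc : DRing.IsPseudoCoherent A (m - 1) M :=
    isPC_of_isPseudoCoherentD_tildeD A M (m - 1)
      (isPseudoCoherentD_of_iso eM.symm (m - 1) (isPseudoCoherentD_rD k (m - 1) E h2))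
  have hMt : DRing.HasTorAmplitudeIn A m n M :=
    hasTorAmp_of_hasFlatAmplitudeIn_tildeD A M m n
      (hasFlatAmplitudeIn_of_iso eM.symm m n (hasFlatAmplitudeIn_rD k E m n h1))
  obtain ⟨E0, hE0, hfp, ⟨e0⟩⟩ := (Groth.Agent.S5611.result M m n hmn).1 ⟨hMpc, hMt⟩
  refine ⟨k.opensRange, ⟨x', hx'⟩, fun F ⟨eF⟩ => ?_⟩
  have hi : k.isoOpensRange.inv ≫ k = k.opensRange.ι := k.isoOpensRange_inv_comp
  refine ⟨(rC k.isoOpensRange.inv).obj (tildeCx (CommRingCat.of A) E0), ?_, ?_, ⟨?_⟩⟩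
  · intro q hq
    exact (Scheme.Modules.restrictFunctor k.isoOpensRange.inv).map_isZero
      ((tilde.functor (CommRingCat.of A)).map_isZero (hE0 q hq))
  · intro q
    exact isFinLocFree_restrict k.isoOpensRange.inv _
      ((Groth.Agent.Lib.Helper2.FPAff.isFinLocFree_tilde_iff (CommRingCat.of A) (E0.X q)).2
        (hfp q))
  · exact ((Scheme.Modules.restrictFunctor k.opensRange.ι).mapDerivedCategoryFactors.app F).symm ≪≫
      (rD k.opensRange.ι).mapIso eF ≪≫
      ((rDComp k.isoOpensRange.inv k k.opensRange.ι hi).app E).symm ≪≫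
      (rD k.isoOpensRange.inv).mapIso (eM.symm ≪≫
        (DCoh.tildeD (CommRingCat.of A)).mapIso e0.symm ≪≫
        (tilde.functor (CommRingCat.of A)).mapDerivedCategoryFactors.app E0) ≪≫
      (Scheme.Modules.restrictFunctor k.isoOpensRange.inv).mapDerivedCategoryFactors.app _

/-- perfect amplitude implies perfect -/
theorem isPerfect_of_hasPerfectAmplitudeIn (E : DCoh.D X) (m n : ℤ)
    (h : KSix.HasPerfectAmplitudeIn m n E) : DCoh.IsPerfect E := by
  intro x
  obtain ⟨V, hxV, H⟩ := h x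
  refine ⟨V, hxV, fun F hF => ?_⟩
  obtain ⟨E', hE', hfl, he⟩ := H F hF
  exact ⟨E', ⟨⟨m, n, hE'⟩, hfl⟩, he⟩

/-- flat amplitude of a restriction to an open gives stalkwise tor amplitude at its points -/
theorem hasTorAmplitudeIn_stalkC_of_restrict (F : CochainComplex X.Modules ℤ) (V : X.Opens)
    (a b : ℤ)
    (h : DCoh.HasFlatAmplitudeIn a b (DerivedCategory.Q.obj ((DCoh.restrictCx V).obj F)))
    (x' : (V : Scheme.{u})) :
    DRing.HasTorAmplitudeIn (Groth.Agent.Lib.Helper1.Sky.Ox (V.ι x')) a b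
      (DerivedCategory.Q.obj ((stalkC (V.ι x')).obj F)) := by
  have h1 : DerSch.HasTorAmplitude (𝟙 (V : Scheme.{u})) a b ((DCoh.restrictCx V).obj F) :=
    hasTorAmplitude_of_hasFlatAmplitudeIn (𝟙 (V : Scheme.{u})) _ a b h
  have h2 := hasTorAmplitudeIn_stalkC_of_id _ a b h1 x'
  have h3 := hasTorAmplitudeIn_resCx_of_bijective (phiF V.ι x')
    (ConcreteCategory.bijective_of_isIso (V.ι.stalkMap x')) _ a b h2
  refine Groth.Agent.Lib.Helper1.Tor.hasTorAmp_of_iso ?_ h3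
  exact Q.mapIso ((NatIso.mapHomologicalComplex (restrictStalkIso V.ι x')
    (ComplexShape.up ℤ)).app F)

/-- perfect amplitude in `[m, n]` implies flat amplitude in `[m, n]` -/
theorem hasFlatAmplitudeIn_of_hasPerfectAmplitudeIn (E : DCoh.D X) (m n : ℤ)
    (h : KSix.HasPerfectAmplitudeIn m n E) : DCoh.HasFlatAmplitudeIn m n E := by
  let F₀ := (Q : _ ⥤ DCoh.D X).objPreimage E
  let e₀ : Q.obj F₀ ≅ E := Q.objObjPreimageIso E
  refine hasFlatAmplitudeIn_of_iso e₀ m n ?_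
  apply hasFlatAmplitudeIn_of_hasTorAmplitude_id
  apply hasTorAmplitude_id_of_stalkC
  intro x
  obtain ⟨V, hxV, H⟩ := h x
  obtain ⟨E', hE', hfl, ⟨e⟩⟩ := H F₀ ⟨e₀⟩
  have hfa : DCoh.HasFlatAmplitudeIn m n (DerivedCategory.Q.obj ((DCoh.restrictCx V).obj F₀)) :=
    ⟨E', hE', fun i => Groth.Agent.Lib.Helper1.Sky.isFlat_of_isFinLocFree' _ (hfl i), ⟨e.symm⟩⟩
  exact hasTorAmplitudeIn_stalkC_of_restrict F₀ V m n hfa ⟨x, hxV⟩

/-- S4275 -/
theorem hasPerfectAmplitudeIn_iff (E : DCoh.D X) (m n : ℤ) (hmn : m ≤ n) :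
    KSix.HasPerfectAmplitudeIn m n E ↔
      DCoh.IsPseudoCoherentD (m - 1) E ∧ DCoh.HasFlatAmplitudeIn m n E :=
  ⟨fun h => ⟨isPseudoCoherentD_of_isPerfect E (isPerfect_of_hasPerfectAmplitudeIn E m n h) (m - 1),
    hasFlatAmplitudeIn_of_hasPerfectAmplitudeIn E m n h⟩,
   fun h => hasPerfectAmplitudeIn_of_pc_of_flatAmplitude E m n hmn h.1 h.2⟩

end Sch

end Groth.Agent.Lib.T2H1.PerfAmp
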