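import Groth.Agent.Lib.T2H1SuppPush
import Groth.Agent.Lib.T2H8PerfLocal

/-!
# Perfectness of `Rj_* E` for `E` supported on a subset closed in `X` (helper1)
-/

set_option autoImplicit false
universe u
open CategoryTheory CategoryTheory.Limits AlgebraicGeometry ZeroObject

attribute [local instance] HasDerivedCategory.standard

namespace Groth.Agent.Lib.T2H1.PerfPush

open Scheme.Modules Groth.Agent.Lib.T2H1.MVTri Groth.Agent.Lib.T2H1.RpushSupport
  Groth.Agent.Lib.T2H1.RestrictPush Groth.Agent.Lib.T2H1.SuppPush Groth.Agent.Lib.T2H8.PerfLocal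
  Groth.Agent.Lib.Helper17.KInj

variable {X : Scheme.{u}}

/-- `(Rj_* E)|_U ≅ E`. -/
theorem nonempty_restrictD_Rpush_iso (U : X.Opens) [DCoh.HasRpush U.ι]
    (E : DCoh.D (U : Scheme.{u})) :
    Nonempty ((DCoh.restrictD U.ι).obj ((DCoh.Rpush U.ι).obj E) ≅ E) := by
  obtain ⟨β, hβ⟩ := exists_unit_Rpush U.ι
  exact ⟨(asIso (derivedAdjunction.{u} (restrictFunctor U.ι) (pushforward U.ι)
    (restrictAdjunction U.ι) (DCoh.Rpush U.ι) β).counit).app E⟩

theorem isFinLocFree_of_isZero {Y : Scheme.{u}} {M : Y.Modules} (h : IsZero M) :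
    FlatMod.IsFinLocFree M := by
  intro x
  refine ⟨⊤, 0, trivial, ⟨IsZero.iso ?_ ?_⟩⟩
  · exact (Scheme.Modules.restrictFunctor (⊤ : Y.Opens).ι).map_isZero h
  · exact (IsZero.iff_id_eq_zero _).2 (Sigma.hom_ext _ _ (fun i => i.elim0))

theorem isStrictlyPerfect_zero (Y : Scheme.{u}) :
    DCoh.IsStrictlyPerfect (0 : CochainComplex Y.Modules ℤ) := by
  have hz : ∀ i : ℤ, IsZero ((0 : CochainComplex Y.Modules ℤ).X i) := fun i =>
    (HomologicalComplex.eval _ _ i).map_isZero (isZero_zero _)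
  exact ⟨⟨0, 0, fun i _ => hz i⟩,
    fun i => isFinLocFree_of_isZero (hz i)⟩

/-- `Rj_* E` is perfect when `E` is perfect with cohomology supported on `T ⊆ U` such that `j(T)`
is closed in `X`. -/
theorem isPerfect_Rpush (U : X.Opens) [DCoh.HasRpush U.ι]
    (E : DCoh.D (U : Scheme.{u})) (hE : DCoh.IsPerfect E) (T : Set (U : Scheme.{u}))
    (hjT : IsClosed ((fun x : (U : Scheme.{u}) => U.ι.base x) '' T))
    (hsupp : ∀ i : ℤ, CohB1.support (DCoh.HD E i) ⊆ T) :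
    DCoh.IsPerfect ((DCoh.Rpush U.ι).obj E) := by
  rw [isPerfect_iff]
  intro x
  by_cases hx : x ∈ (fun x : (U : Scheme.{u}) => U.ι.base x) '' T
  · obtain ⟨x₀, -, rfl⟩ := hx
    obtain ⟨U', j', hj', x', hx', E'', hE'', ⟨e⟩⟩ := (isPerfect_iff E).1 hE x₀
    obtain ⟨c⟩ := nonempty_restrictD_Rpush_iso U E
    refine ⟨U', j' ≫ U.ι, inferInstance, x', ?_, E'', hE'', ⟨?_⟩⟩
    · change U.ι.base (j'.base x') = U.ι.base x₀
      rw [show j'.base x' = x₀ from hx']
    · exact ((rDComp j' U.ι (j' ≫ U.ι) rfl).app ((DCoh.Rpush U.ι).obj E)).symm ≪≫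
        (rD j').mapIso c ≪≫ e
  · let V : X.Opens := ⟨((fun x : (U : Scheme.{u}) => U.ι.base x) '' T)ᶜ, hjT.isOpen_compl⟩
    have hz : IsZero ((DCoh.restrictD V.ι).obj ((DCoh.Rpush U.ι).obj E)) := by
      refine isZero_restrictD V _ (fun i y hyV => ?_)
      refine not_mem_support_HD_Rpush U.ι V E (fun k w hw hws => ?_) i y hyV
      exact hw ⟨w, hsupp k hws, rfl⟩
    refine ⟨V, V.ι, inferInstance, ⟨x, hx⟩, rfl, 0, isStrictlyPerfect_zero _, ⟨?_⟩⟩
    exact hz.iso (DerivedCategory.Q.map_isZero (isZero_zero _))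

end Groth.Agent.Lib.T2H1.PerfPush
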