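import Groth.Agent.Lib.T2H2AffRedA
import Groth.Agent.Lib.T2H8PCohBiprod
import Groth.Agent.S7019

/-!
# Direct summands of perfect objects of `D(O_X)` are perfect (T2H2)
-/

set_option autoImplicit false
set_option linter.style.haveILetI false
universe u
open CategoryTheory CategoryTheory.Limits AlgebraicGeometry Opposite

attribute [local instance] HasDerivedCategory.standard

namespace Groth.Agent.Lib.T2H2.AffRed

open Groth.Agent.Lib.T2H8.SchLocHtpy Groth.Agent.Lib.T2H8.PerfLocal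
  Groth.Agent.Lib.T2H8.PCohTriangle Groth.Agent.Lib.T2H2.TildeLoc DerivedCategory

variable {X : Scheme.{u}}

lemma isPerfect_of_iso {K L : DCoh.D X} (e : K ≅ L) (h : DCoh.IsPerfect K) : DCoh.IsPerfect L := by
  rw [isPerfect_iff] at h ⊢
  exact fun x => (h x).of_iso e

lemma isPseudoCoherentD_of_iso {K L : DCoh.D X} (e : K ≅ L) (m : ℤ)
    (h : DCoh.IsPseudoCoherentD m K) : DCoh.IsPseudoCoherentD m L := by
  rw [isPseudoCoherentD_iff] at h ⊢
  exact fun x => (h x).of_iso e

/-- perfect objects are `m`-pseudo-coherent for all `m` -/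
theorem isPseudoCoherentD_of_isPerfect (K : DCoh.D X) (h : DCoh.IsPerfect K) (m : ℤ) :
    DCoh.IsPseudoCoherentD m K := by
  rw [isPerfect_iff] at h
  rw [isPseudoCoherentD_iff]
  intro x
  obtain ⟨U, j, hj, x', hx', E, hE, ⟨e⟩⟩ := h x
  exact ⟨U, j, hj, x', hx', E, e.inv, hE, isApprox_of_isIso m _⟩

/-- an object which is `m`-pseudo-coherent for all `m` has quasi-coherent cohomology -/
theorem isQCohD_of_forall_isPseudoCoherentD (K : DCoh.D X)
    (h : ∀ m : ℤ, DCoh.IsPseudoCoherentD m K) : DCoh.IsQCohD K := fun i =>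
  (Groth.Agent.Lib.T2H8.PCohQCoh.main_S7240 (i - 1) K (h (i - 1))).1 i (by omega)

theorem isQCohD_of_isPerfect (K : DCoh.D X) (h : DCoh.IsPerfect K) : DCoh.IsQCohD K :=
  isQCohD_of_forall_isPseudoCoherentD K (isPseudoCoherentD_of_isPerfect K h)

/-- a retract of a perfect object which is `m`-pseudo-coherent for all `m` is perfect -/
theorem isPerfect_of_retract (K S : DCoh.D X) (i : K ⟶ S) (p : S ⟶ K) (hip : i ≫ p = 𝟙 K)
    (hpcK : ∀ m : ℤ, DCoh.IsPseudoCoherentD m K) (h : DCoh.IsPerfect S) : DCoh.IsPerfect K := by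
  have hqK : DCoh.IsQCohD K := isQCohD_of_forall_isPseudoCoherentD K hpcK
  have hqS : DCoh.IsQCohD S := isQCohD_of_isPerfect _ h
  rw [isPerfect_iff]
  intro x
  obtain ⟨A, _, j, _, x', hx'⟩ := exists_affine_chart x
  obtain ⟨M, ⟨eM⟩⟩ := exists_tildeD_iso A ((rD j).obj K) (isQCohD_rD j K hqK)
  obtain ⟨P, ⟨eP⟩⟩ := exists_tildeD_iso A ((rD j).obj S) (isQCohD_rD j _ hqS)
  have hP : DRing.IsPerfect A P :=
    isPerfect_of_isPerfect_tildeD A P (isPerfect_of_iso eP.symm (isPerfect_rD j _ h))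
  have hM' : DRing.IsPseudoCoherent' A M :=
    Groth.Agent.Lib.Helper1.PCTower.isPseudoCoherent'_of_forall M (fun m =>
      isPC_of_isPseudoCoherentD_tildeD A M m
        (isPseudoCoherentD_of_iso eM.symm m (isPseudoCoherentD_rD j m K (hpcK m))))
  let ι' : (DCoh.tildeD (CommRingCat.of A)).obj M ⟶ (DCoh.tildeD (CommRingCat.of A)).obj P :=
    eM.hom ≫ (rD j).map i ≫ eP.inv
  let π' : (DCoh.tildeD (CommRingCat.of A)).obj P ⟶ (DCoh.tildeD (CommRingCat.of A)).obj M :=
    eP.hom ≫ (rD j).map p ≫ eM.inv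
  have hιπ' : ι' ≫ π' = 𝟙 _ := by
    simp only [ι', π', Category.assoc, Iso.inv_hom_id_assoc]
    rw [← (rD j).map_comp_assoc, hip, CategoryTheory.Functor.map_id,
      Category.id_comp, Iso.hom_inv_id]
  have hιπ : (DCoh.tildeD (CommRingCat.of A)).preimage ι' ≫
      (DCoh.tildeD (CommRingCat.of A)).preimage π' = 𝟙 M := by
    apply (DCoh.tildeD (CommRingCat.of A)).map_injective
    rw [Functor.map_comp, Functor.map_preimage, Functor.map_preimage, hιπ',
      CategoryTheory.Functor.map_id]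
  have hM : DRing.IsPerfect A M :=
    Groth.Agent.S7019.isPerfect_of_retract P M _ _ hιπ hP hM'
  have h1 : DCoh.IsPerfect ((rD j).obj K) :=
    isPerfect_of_iso eM (isPerfect_tildeD_of_isPerfect A M hM)
  rw [← hx']
  exact locPerf_of_isPerfect_rD j K x' h1

/-- summands of a perfect object are perfect -/
theorem isPerfect_of_biprod (K L : DCoh.D X) [HasBinaryBiproduct K L]
    (h : DCoh.IsPerfect (K ⊞ L)) : DCoh.IsPerfect K ∧ DCoh.IsPerfect L := by
  have hpcS : ∀ m : ℤ, DCoh.IsPseudoCoherentD m (K ⊞ L) := isPseudoCoherentD_of_isPerfect _ h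
  exact ⟨isPerfect_of_retract K (K ⊞ L) biprod.inl biprod.fst biprod.inl_fst
      (fun m => (Groth.Agent.Lib.T2H8.PCohBiprod.main_S0888 m K L (hpcS m)).1) h,
    isPerfect_of_retract L (K ⊞ L) biprod.inr biprod.snd biprod.inr_snd
      (fun m => (Groth.Agent.Lib.T2H8.PCohBiprod.main_S0888 m K L (hpcS m)).2) h⟩

end Groth.Agent.Lib.T2H2.AffRed
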