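import Groth.Agent.Lib.T2H1SmoothTorAmpSch
import Groth.Agent.Lib.T2H2AffRedB
set_option backward.isDefEq.respectTransparency.types false

/-!
# Relative perfection along a closed immersion into a smooth scheme (helper1, second team)

For `i : X ⟶ Y` a closed immersion and `g : Y ⟶ S` smooth, a complex `F` on `X` is locally of
finite tor amplitude relative to `i ≫ g` if and only if `i_* F` is locally of finite (absolute)
tor amplitude; together with the pseudo-coherence comparison this gives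
`F` perfect relative to `i ≫ g` iff `i_* F` perfect.
-/

set_option autoImplicit false
set_option linter.style.haveILetI false
universe u
open CategoryTheory CategoryTheory.Limits AlgebraicGeometry

attribute [local instance] HasDerivedCategory.standard

namespace Groth.Agent.Lib.T2H1.PerfRelClosed

open Groth.Agent.Lib.T2H1.SmoothTorAmpSch Groth.Agent.Lib.T2H1.PolyTorAmp
  Groth.Agent.Lib.T2H1.TorAmpBC Groth.Agent.Lib.Helper1.Tor Groth.Agent.Lib.Helper1.Sky
  Groth.Agent.Lib.Helper1.KBC Groth.Agent.Lib.Helper1.KF DTen DerivedCategory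
  Groth.Agent.Lib.T2H1.RelFlatAmp Groth.Agent.Lib.T2H1.StalkTorAmp
  Groth.Agent.Lib.T2H1.PerfAmp Groth.Agent.Lib.T2H8.PerfLocal Groth.Agent.Lib.T2H2.AffRed

variable {X Y S : Scheme.{u}}

/-- a complex whose stalks have tor amplitude in `[a, b]` at all points of an open `V`, and which
is pseudo-coherent, is perfect near every point of `V` -/
theorem locPerf_of_stalkwise (G : CochainComplex Y.Modules ℤ)
    (hpc : ∀ m : ℤ, DCoh.IsPseudoCoherentD m (DCoh.toD Y G)) (V : Y.Opens) (a b : ℤ)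
    (h : ∀ y : Y, y ∈ V → DRing.HasTorAmplitudeIn (Ox y) a b (Q.obj ((stalkC y).obj G)))
    (y : Y) (hy : y ∈ V) : LocPerf (DCoh.toD Y G) y := by
  let GV : CochainComplex (V : Scheme.{u}).Modules ℤ := (DCoh.restrictCx V).obj G
  let eV : (rD V.ι).obj (DCoh.toD Y G) ≅ DCoh.toD V GV :=
    (Scheme.Modules.restrictFunctor V.ι).mapDerivedCategoryFactors.app G
  have h1 : DerSch.HasTorAmplitude (𝟙 (V : Scheme.{u})) a b GV :=
    hasTorAmplitude_id_of_stalkC GV a b
      (fun u => hasTorAmp_stalkC_restrict V.ι u G a b (h (V.ι u) u.2))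
  have h2 : DCoh.HasFlatAmplitudeIn a b (DCoh.toD V GV) :=
    hasFlatAmplitudeIn_of_hasTorAmplitude_id GV a b h1
  have h3 : DCoh.IsPseudoCoherentD (a - 1) (DCoh.toD V GV) :=
    isPseudoCoherentD_of_iso eV (a - 1) (isPseudoCoherentD_rD V.ι (a - 1) _ (hpc (a - 1)))
  have h4 : DCoh.IsPerfect (DCoh.toD V GV) :=
    isPerfect_of_hasPerfectAmplitudeIn _ a b
      (hasPerfectAmplitudeIn_of_pc_of_flatAmplitude' _ a b h3 h2)
  obtain ⟨U, j, hj, x', hx', hP⟩ := (isPerfect_iff _).1 h4 ⟨y, hy⟩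
  have hP' : PerfAt ((rD V.ι).obj (DCoh.toD Y G)) j := hP.of_iso eV.symm
  obtain ⟨E, hE, ⟨e⟩⟩ := hP'
  refine ⟨U, j ≫ V.ι, inferInstance, x', ?_, E, hE,
    ⟨((rDComp j V.ι (j ≫ V.ι) rfl).app (DCoh.toD Y G)).symm ≪≫ e⟩⟩
  show V.ι (j x') = y
  rw [hx']
  rfl

variable (i : X ⟶ Y) [IsClosedImmersion i] (g : Y ⟶ S)

/-- `i_* F` is perfect if it is pseudo-coherent and `F` is locally of finite tor amplitude relative
to `i ≫ g`, for `g` smooth -/
theorem isPerfect_pushforward [Smooth g] (F : CochainComplex X.Modules ℤ)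
    (hpc : ∀ m : ℤ, DCoh.IsPseudoCoherentD m (DCoh.toD Y
      (((Scheme.Modules.pushforward i).mapHomologicalComplex (ComplexShape.up ℤ)).obj F)))
    (hlt : DerSch.LocFiniteTorAmplitude (i ≫ g) F) :
    DCoh.IsPerfect (DCoh.toD Y
      (((Scheme.Modules.pushforward i).mapHomologicalComplex (ComplexShape.up ℤ)).obj F)) := by
  rw [isPerfect_iff]
  intro y
  obtain ⟨n, hq⟩ := exists_chartTorAmpShiftAt_of_smooth g y
  obtain ⟨V₀, hy₀, hV₀⟩ := hq.exists_nhds
  by_cases hyr : y ∈ Set.range i.base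
  · obtain ⟨x, rfl⟩ := hyr
    obtain ⟨W, a, b, hxW, hW⟩ := hlt x
    obtain ⟨t, ht, htW⟩ :=
      (IsClosedImmersion.isClosedEmbedding i).isInducing.isOpen_iff.1 W.isOpen
    let V₁ : Y.Opens := ⟨t, ht⟩
    have hxt : i x ∈ t := by
      have : x ∈ i.base ⁻¹' t := by rw [htW]; exact hxW
      exact this
    refine locPerf_of_stalkwise _ hpc (V₀ ⊓ V₁) (a - n) b ?_ (i x) ⟨hy₀, hxt⟩
    intro y' hy'
    refine hasTorAmp_stalkC_pushforward i g F a b y' n (hV₀ y' hy'.1) (fun x' hx' => hW x' ?_)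
    have : x' ∈ i.base ⁻¹' t := by
      show i x' ∈ t
      rw [hx']
      exact hy'.2
    rw [htW] at this
    exact this
  · let T : Y.Opens := ⟨(Set.range i.base)ᶜ,
      (IsClosedImmersion.isClosedEmbedding i).isClosed_range.isOpen_compl⟩
    refine locPerf_of_stalkwise _ hpc T 0 0 ?_ y hyr
    intro y' hy'
    exact hasTorAmp_of_isZero _ (isZero_Q_stalkC_pushforward i F y' hy') _ _

/-- if `i_* F` is perfect then `F` is locally of finite tor amplitude relative to `i ≫ g`, for `g`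
flat -/
theorem locFiniteTorAmplitude_of_isPerfect_pushforward [Flat g] (F : CochainComplex X.Modules ℤ)
    (hK : DCoh.IsPerfect (DCoh.toD Y
      (((Scheme.Modules.pushforward i).mapHomologicalComplex (ComplexShape.up ℤ)).obj F))) :
    DerSch.LocFiniteTorAmplitude (i ≫ g) F := by
  intro x
  obtain ⟨V, hyV, H⟩ := hK (i x)
  obtain ⟨E, ⟨⟨a, b, hab⟩, hfl⟩, ⟨e⟩⟩ := H _ ⟨Iso.refl _⟩
  have hfa : DCoh.HasFlatAmplitudeIn a b (Q.obj ((DCoh.restrictCx V).obj
      (((Scheme.Modules.pushforward i).mapHomologicalComplex (ComplexShape.up ℤ)).obj F))) :=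
    ⟨E, hab, fun k => isFlat_of_isFinLocFree' _ (hfl k), ⟨e.symm⟩⟩
  refine ⟨i ⁻¹ᵁ V, a, b, hyV, fun x' hx' => ?_⟩
  have h1 := hasTorAmplitudeIn_stalkC_of_restrict _ V a b hfa ⟨i x', hx'⟩
  have h2 : DerSch.HasTorAmplitudeAt g a b
      (((Scheme.Modules.pushforward i).mapHomologicalComplex (ComplexShape.up ℤ)).obj F) (i x') :=
    hasTorAmp_of_iso (Q.mapIso (stalkCxOverIso g (i x') _).symm)
      (hasTorAmp_resCx_of_flat (g.stalkMap (i x')).hom (Flat.stalkMap g _) _ a b h1)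
  exact (hasTorAmplitudeAt_comp_iff_pushforward i g x'
    (IsClosedImmersion.isClosedEmbedding i).isInducing F a b).2 h2

end Groth.Agent.Lib.T2H1.PerfRelClosed
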