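import Mathlib
import Groth.Prelude.Def_LefPen

/-!
# Polynomial functions on a vector space (`LefPen.IsPolyFun`): closure properties (helper1)
-/

set_option autoImplicit false
universe u
open MvPolynomial

namespace Groth.Agent.Lib.T2H1.PolyFun

variable (k : Type u) [Field k]

section API

variable (V : Type u) [AddCommGroup V] [Module k V]

/-- The subalgebra of polynomial functions. -/
def alg : Subalgebra k (V → k) :=
  Algebra.adjoin k (Set.range (fun l : Module.Dual k V => (l : V → k)))

variable {V}

theorem isPolyFun_iff (f : V → k) : LefPen.IsPolyFun k f ↔ f ∈ alg k V := Iff.rfl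

theorem linear_mem (l : Module.Dual k V) : (l : V → k) ∈ alg k V :=
  Algebra.subset_adjoin ⟨l, rfl⟩

theorem const_mem (c : k) : (fun _ : V => c) ∈ alg k V :=
  (alg k V).algebraMap_mem c

/-- A polynomial in linear forms is a polynomial function. -/
theorem aeval_mem {σ : Type*} (P : MvPolynomial σ k) (l : σ → Module.Dual k V) :
    (fun v => MvPolynomial.aeval (fun a => l a v) P) ∈ alg k V := by
  have h1 : MvPolynomial.aeval (fun a => ((l a : V → k))) P ∈ alg k V := by
    have h2 : MvPolynomial.aeval (fun a => ((l a : V → k))) P ∈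
        Algebra.adjoin k (Set.range (fun a => ((l a : V → k)))) := by
      rw [Algebra.adjoin_range_eq_range_aeval]
      exact ⟨P, rfl⟩
    refine Algebra.adjoin_mono ?_ h2
    rintro _ ⟨a, rfl⟩
    exact ⟨l a, rfl⟩
  have h3 : (fun v => MvPolynomial.aeval (fun a => l a v) P) =
      MvPolynomial.aeval (fun a => ((l a : V → k))) P := by
    ext v
    have h4 := congrArg (fun φ : MvPolynomial σ k →ₐ[k] k => φ P)
      (MvPolynomial.comp_aeval (fun a => ((l a : V → k))) (Pi.evalAlgHom k (fun _ : V => k) v))
    exact h4.symm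
  rw [h3]
  exact h1

/-- The determinant of a matrix of polynomial functions is a polynomial function. -/
theorem det_mem {J : Type*} [Fintype J] [DecidableEq J] (M : V → Matrix J J k)
    (hM : ∀ i j, (fun v => M v i j) ∈ alg k V) : (fun v => (M v).det) ∈ alg k V := by
  have h2 : (fun v => (M v).det) = ∑ σ : Equiv.Perm J,
      (((Equiv.Perm.sign σ : ℤ) : k) • (1 : V → k)) * ∏ i, (fun v => M v (σ i) i) := by
    ext v
    rw [Matrix.det_apply', Finset.sum_apply]
    refine Finset.sum_congr rfl (fun σ _ => ?_)
    rw [Pi.mul_apply, Finset.prod_apply, Pi.smul_apply, Pi.one_apply, smul_eq_mul, mul_one]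
  rw [h2]
  exact Subalgebra.sum_mem _ (fun σ _ => Subalgebra.mul_mem _
    (Subalgebra.smul_mem _ (Subalgebra.one_mem _) _)
    (Subalgebra.prod_mem _ (fun i _ => hM _ _)))

end API

section Forms

variable (r d : ℕ)

/-- The space of forms of degree `d` has dimension at most `C(r + d, d)`. -/
theorem finrank_form_le : Module.Finite k (LefPen.Form r k d) ∧
    Module.finrank k (LefPen.Form r k d) ≤ Nat.choose (r + d) d := by
  classical
  let s : Finset (Fin (r + 1) →₀ ℕ) := (Finset.univ : Finset (Fin (r + 1))).finsuppAntidiag d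
  let T : Finset (MvPolynomial (Fin (r + 1)) k) := s.image (fun e => MvPolynomial.monomial e 1)
  have hW : CohB1.polyGrading r k d = Submodule.span k (T : Set (MvPolynomial (Fin (r + 1)) k)) := by
    change MvPolynomial.homogeneousSubmodule (Fin (r + 1)) k d = _
    rw [MvPolynomial.homogeneousSubmodule_eq_finsupp_supported]
    rw [AddMonoidAlgebra.supported_eq_span_single]
    congr 1
    ext P
    simp only [Set.mem_image, Set.mem_setOf_eq, T, Finset.coe_image, Finset.mem_coe, s,
      Finset.mem_finsuppAntidiag, Finset.subset_univ, and_true]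
    constructor
    · rintro ⟨e, he, rfl⟩
      refine ⟨e, ?_, rfl⟩
      rw [← he, Finsupp.degree_eq_sum]
    · rintro ⟨e, he, rfl⟩
      refine ⟨e, ?_, rfl⟩
      rw [← he, Finsupp.degree_eq_sum]
  have hfin : Module.Finite k (LefPen.Form r k d) := by
    change Module.Finite k (CohB1.polyGrading r k d)
    rw [hW]
    exact Module.Finite.span_finset k T
  refine ⟨hfin, ?_⟩
  change Module.finrank k (CohB1.polyGrading r k d) ≤ _
  rw [hW]
  calc Module.finrank k (Submodule.span k (T : Set (MvPolynomial (Fin (r + 1)) k)))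
      ≤ T.card := finrank_span_finset_le_card T
    _ ≤ s.card := Finset.card_image_le
    _ = Nat.choose (r + d) d := by
        rw [Finset.card_finsuppAntidiag_nat_eq_choose, Finset.card_univ, Fintype.card_fin]
        congr 1
        omega

end Forms

section Main

variable (r d m : ℕ)

/-- The evaluation map of forms of degree `d` at an `m`-tuple of vectors. -/
noncomputable def ev (x : Fin m → (Fin (r + 1) → k)) : LefPen.Form r k d →ₗ[k] (Fin m → k) where
  toFun G := fun i => MvPolynomial.aeval (x i) G.1
  map_add' G H := by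
    ext i
    simp
  map_smul' c G := by
    ext i
    simp

theorem ev_apply (x : Fin m → (Fin (r + 1) → k)) (G : LefPen.Form r k d) (i : Fin m) :
    ev k r d m x G i = MvPolynomial.aeval (x i) G.1 := rfl

/-- the set in question -/
def U : Set (Fin m → (Fin (r + 1) → k)) :=
  {x | ∀ G : LefPen.Form r k d, (∀ i : Fin m, MvPolynomial.aeval (x i) G.1 = 0) → G = 0}

theorem mem_U_iff (x : Fin m → (Fin (r + 1) → k)) :
    x ∈ U k r d m ↔ LinearMap.ker (ev k r d m x) = ⊥ := by
  rw [LinearMap.ker_eq_bot', U, Set.mem_setOf_eq]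
  constructor
  · intro h G hG
    exact h G (fun i => congrFun hG i)
  · intro h G hG
    exact h G (funext hG)

theorem isZOpen_U : LefPen.IsZOpen k (U k r d m) := by
  classical
  intro x hx
  rw [mem_U_iff] at hx
  obtain ⟨hfin, -⟩ := finrank_form_le k r d
  haveI := hfin
  obtain ⟨L, hL⟩ := LinearMap.exists_leftInverse_of_injective (ev k r d m x) hx
  let b := Module.finBasis k (LefPen.Form r k d)
  let f : (Fin m → (Fin (r + 1) → k)) → k := fun w => LinearMap.det (L ∘ₗ ev k r d m w)
  refine ⟨f, ?_, ?_, ?_⟩
  · rw [isPolyFun_iff]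
    have h1 : f = fun w => (LinearMap.toMatrix b b (L ∘ₗ ev k r d m w)).det := by
      ext w
      exact (LinearMap.det_toMatrix b _).symm
    rw [h1]
    apply det_mem
    intro j' j
    have h2 : (fun w : Fin m → (Fin (r + 1) → k) =>
        LinearMap.toMatrix b b (L ∘ₗ ev k r d m w) j' j) =
        ∑ i : Fin m, (fun w : Fin m → (Fin (r + 1) → k) =>
          MvPolynomial.aeval (w i) (b j).1) *
          (fun _ => b.repr (L (fun i' => if i = i' then 1 else 0)) j') := by
      ext w
      rw [LinearMap.toMatrix_apply, LinearMap.comp_apply, LinearMap.pi_apply_eq_sum_univ L,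
        map_sum, Finsupp.coe_finset_sum, Finset.sum_apply, Finset.sum_apply]
      refine Finset.sum_congr rfl (fun i _ => ?_)
      rw [map_smul, Finsupp.smul_apply, smul_eq_mul, Pi.mul_apply, ev_apply]
    rw [h2]
    refine Subalgebra.sum_mem _ (fun i _ => Subalgebra.mul_mem _ ?_ (const_mem k _))
    exact aeval_mem k (b j).1
      (fun a => (LinearMap.proj a : (Fin (r + 1) → k) →ₗ[k] k) ∘ₗ
        (LinearMap.proj i : (Fin m → (Fin (r + 1) → k)) →ₗ[k] (Fin (r + 1) → k)))
  · change LinearMap.det (L ∘ₗ ev k r d m x) ≠ 0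
    rw [hL, LinearMap.det_id]
    exact one_ne_zero
  · intro w hw
    rw [mem_U_iff]
    have hw' : LinearMap.det (L ∘ₗ ev k r d m w) ≠ 0 := hw
    have hinj : Function.Injective (L ∘ₗ ev k r d m w) :=
      (LinearMap.equivOfDetNeZero _ hw').injective
    rw [LinearMap.ker_eq_bot]
    intro G H hGH
    apply hinj
    rw [LinearMap.comp_apply, LinearMap.comp_apply, hGH]

end Main

section Nonempty

variable (r d m : ℕ) [Infinite k]

/-- evaluation at a vector, as a linear form on forms -/
noncomputable def evPt (y : Fin (r + 1) → k) : Module.Dual k (LefPen.Form r k d) where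
  toFun G := MvPolynomial.aeval y G.1
  map_add' G H := by simp
  map_smul' c G := by simp

theorem exists_mem_U (hm : Nat.choose (r + d) d ≤ m) : ∃ x, x ∈ U k r d m := by
  classical
  obtain ⟨hfin, hrank⟩ := finrank_form_le k r d
  haveI := hfin
  let F : Set (Module.Dual k (LefPen.Form r k d)) := Set.range (evPt k r d)
  -- the evaluation functionals span the dual
  have hspan : Submodule.span k F = ⊤ := by
    have h1 : (Submodule.span k F).dualCoannihilator = ⊥ := by
      rw [eq_bot_iff]
      intro G hG
      rw [Submodule.mem_dualCoannihilator] at hG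
      rw [Submodule.mem_bot]
      apply Subtype.ext
      apply MvPolynomial.funext
      intro y
      have h2 := hG (evPt k r d y) (Submodule.subset_span ⟨y, rfl⟩)
      have h3 : MvPolynomial.aeval y G.1 = 0 := h2
      rw [MvPolynomial.aeval_eq_eval] at h3
      rw [h3]
      simp
    have h4 := Subspace.dualCoannihilator_dualAnnihilator_eq (W := Submodule.span k F)
    rw [h1, Submodule.dualAnnihilator_bot] at h4
    exact h4.symm
  obtain ⟨b, hbF, hbspan, hbli⟩ := exists_linearIndependent k F
  have hbfin : b.Finite := hbli.setFinite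
  haveI : Fintype b := hbfin.fintype
  have hcard : Fintype.card b ≤ m := by
    have h5 := hbli.fintype_card_le_finrank
    rw [Subspace.dual_finrank_eq] at h5
    exact h5.trans (hrank.trans hm)
  have hcard' : Fintype.card b ≤ Fintype.card (Fin m) := by rwa [Fintype.card_fin]
  obtain ⟨ι⟩ := Function.Embedding.nonempty_of_card_le hcard'
  have hy : ∀ e : b, ∃ y, evPt k r d y = e.1 := fun e => hbF e.2
  choose y hy using hy
  let x : Fin m → (Fin (r + 1) → k) := fun i =>
    if h : ∃ e : b, ι e = i then y h.choose else 0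
  have hx : ∀ e : b, x (ι e) = y e := by
    intro e
    have h : ∃ e' : b, ι e' = ι e := ⟨e, rfl⟩
    have h6 : h.choose = e := ι.injective h.choose_spec
    simp only [x, dif_pos h, h6]
  refine ⟨x, ?_⟩
  intro G hG
  have h7 : ∀ φ ∈ Submodule.span k b, φ G = 0 := by
    intro φ hφ
    induction hφ using Submodule.span_induction with
    | mem φ hφ =>
      have h8 := hG (ι ⟨φ, hφ⟩)
      rw [hx] at h8
      have h9 : evPt k r d (y ⟨φ, hφ⟩) G = 0 := h8
      rw [hy] at h9
      exact h9
    | zero => rfl
    | add φ ψ _ _ h1 h2 => rw [LinearMap.add_apply, h1, h2, add_zero]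
    | smul c φ _ h1 => rw [LinearMap.smul_apply, h1, smul_zero]
  rw [hbspan, hspan] at h7
  exact (Module.forall_dual_apply_eq_zero_iff k G).mp (fun φ => h7 φ Submodule.mem_top)

theorem main (hm : Nat.choose (r + d) d ≤ m) :
    LefPen.IsZOpen k (U k r d m) ∧ LefPen.IsGeneric k (U k r d m) := by
  refine ⟨isZOpen_U k r d m, ?_⟩
  obtain ⟨x, hx⟩ := exists_mem_U k r d m hm
  obtain ⟨f, hf, hfx, hfU⟩ := isZOpen_U k r d m x hx
  exact ⟨f, hf, ⟨x, hfx⟩, hfU⟩

end Nonempty

end Groth.Agent.Lib.T2H1.PolyFun
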