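import Mathlib

/-!
# The characteristic sequence of a module over a polynomial ring (helper7)

For a `P[X]`-module `N` the sequence
`0 → P[X] ⊗[P] N → P[X] ⊗[P] N → N → 0`, with first map `q ⊗ n ↦ X q ⊗ n - q ⊗ X n` and second map
`q ⊗ n ↦ q n`, is exact.
-/

set_option autoImplicit false
universe u
open TensorProduct Polynomial

namespace Groth.Agent.Lib.T2H7.PolyTorA

variable (P : Type u) [CommRing P] (N : Type u) [AddCommGroup N] [Module P[X] N] [Module P N]
  [IsScalarTower P P[X] N]

/-- Multiplication by `X`, as a `P`-linear endomorphism. -/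
noncomputable def mulX : N →ₗ[P] N where
  toFun n := (X : P[X]) • n
  map_add' := smul_add _
  map_smul' _ _ := smul_comm _ _ _

@[simp] theorem mulX_apply (n : N) : mulX P N n = (X : P[X]) • n := rfl

/-- The first map of the characteristic sequence. -/
noncomputable def delta : P[X] ⊗[P] N →ₗ[P[X]] P[X] ⊗[P] N :=
  (X : P[X]) • LinearMap.id - (mulX P N).baseChange P[X]

theorem delta_tmul (q : P[X]) (n : N) :
    delta P N (q ⊗ₜ n) = (X * q) ⊗ₜ n - q ⊗ₜ ((X : P[X]) • n) := by
  simp [delta, TensorProduct.smul_tmul']

/-- The second map of the characteristic sequence. -/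
noncomputable def pi : P[X] ⊗[P] N →ₗ[P[X]] N :=
  (LinearMap.id : N →ₗ[P] N).liftBaseChange P[X]

@[simp] theorem pi_tmul (q : P[X]) (n : N) : pi P N (q ⊗ₜ n) = q • n := by
  simp [pi]

theorem pi_surjective : Function.Surjective (pi P N) := fun n => ⟨1 ⊗ₜ n, by simp⟩

theorem pi_delta (z : P[X] ⊗[P] N) : pi P N (delta P N z) = 0 := by
  induction z using TensorProduct.induction_on with
  | zero => simp
  | tmul q n =>
    rw [delta_tmul, map_sub, pi_tmul, pi_tmul, mul_comm, mul_smul, sub_self]
  | add a b ha hb => rw [map_add, map_add, ha, hb, add_zero]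

theorem tmul_sub_mem_range (q : P[X]) : ∀ n : N,
    q ⊗ₜ[P] n - (1 : P[X]) ⊗ₜ[P] (q • n) ∈ LinearMap.range (delta P N) := by
  induction q using Polynomial.induction_on with
  | C a =>
    intro n
    have : (C a : P[X]) ⊗ₜ[P] n = (1 : P[X]) ⊗ₜ[P] ((C a : P[X]) • n) := by
      rw [← Polynomial.algebraMap_eq, algebraMap_smul, ← TensorProduct.smul_tmul,
        Algebra.smul_def, mul_one]
    rw [this, sub_self]
    exact Submodule.zero_mem _
  | add p q hp hq =>
    intro n
    have := Submodule.add_mem _ (hp n) (hq n)
    rw [add_smul, TensorProduct.tmul_add, TensorProduct.add_tmul]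
    convert this using 1
    abel
  | monomial k a h =>
    intro n
    have h1 := h ((X : P[X]) • n)
    have h2 : delta P N ((C a * X ^ k) ⊗ₜ n) ∈ LinearMap.range (delta P N) := ⟨_, rfl⟩
    have := Submodule.add_mem _ h2 h1
    rw [delta_tmul] at this
    convert this using 1
    rw [show (C a * X ^ (k + 1) : P[X]) = X * (C a * X ^ k) by ring,
      show (X * (C a * X ^ k) : P[X]) • n = (C a * X ^ k : P[X]) • ((X : P[X]) • n) by
        rw [← mul_smul]; congr 1; ring]
    abel

theorem exact_delta_pi : Function.Exact (delta P N) (pi P N) := by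
  intro z
  constructor
  · intro hz
    have key : ∀ w : P[X] ⊗[P] N,
        w - (1 : P[X]) ⊗ₜ[P] (pi P N w) ∈ LinearMap.range (delta P N) := by
      intro w
      induction w using TensorProduct.induction_on with
      | zero => simp
      | tmul q n => rw [pi_tmul]; exact tmul_sub_mem_range P N q n
      | add a b ha hb =>
        have := Submodule.add_mem _ ha hb
        rw [map_add, TensorProduct.tmul_add]
        convert this using 1
        abel
    have := key z
    rw [hz, TensorProduct.tmul_zero, sub_zero] at this
    exact this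
  · rintro ⟨w, rfl⟩
    exact pi_delta P N w

section Coeff

omit [Module P[X] N] [IsScalarTower P P[X] N]

/-- The coefficients of an element of `P[X] ⊗[P] N`. -/
noncomputable def co (z : P[X] ⊗[P] N) : ℕ →₀ N :=
  (PolynomialModule.polynomialTensorProductLEquivPolynomialModule P N z).coeff

theorem co_tmul (q : P[X]) (n : N) (i : ℕ) : co P N (q ⊗ₜ n) i = q.coeff i • n := by
  have : PolynomialModule.polynomialTensorProductLEquivPolynomialModule P N (q ⊗ₜ n) =
      q • PolynomialModule.single P 0 n := by
    simp [PolynomialModule.polynomialTensorProductLEquivPolynomialModule]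
    rfl
  rw [co, this, PolynomialModule.smul_single_apply]
  simp

theorem co_add (z w : P[X] ⊗[P] N) : co P N (z + w) = co P N z + co P N w := by
  simp [co]

theorem co_zero : co P N 0 = 0 := by simp [co]

theorem co_injective : Function.Injective (co P N) := by
  intro z w h
  apply (PolynomialModule.polynomialTensorProductLEquivPolynomialModule P N).injective
  exact PolynomialModule.coeff_injective h

end Coeff

theorem co_delta (z : P[X] ⊗[P] N) (i : ℕ) :
    co P N (delta P N z) (i + 1) = co P N z i - (X : P[X]) • co P N z (i + 1) := by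
  induction z using TensorProduct.induction_on with
  | zero => simp [co_zero]
  | tmul q n =>
    rw [delta_tmul]
    have : co P N ((X * q) ⊗ₜ[P] n - q ⊗ₜ[P] ((X : P[X]) • n)) =
        co P N ((X * q) ⊗ₜ[P] n) - co P N (q ⊗ₜ[P] ((X : P[X]) • n)) := by
      rw [sub_eq_add_neg, co_add, ← TensorProduct.tmul_neg]
      rw [sub_eq_add_neg]
      congr 1
      ext j
      rw [co_tmul, Finsupp.neg_apply, co_tmul, smul_neg]
    rw [this, Finsupp.sub_apply, co_tmul, co_tmul, co_tmul, co_tmul, Polynomial.coeff_X_mul,
      smul_comm]
  | add a b ha hb =>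
    have e1 : co P N (delta P N (a + b)) = co P N (delta P N a) + co P N (delta P N b) := by
      rw [(delta P N).map_add, co_add]
    rw [e1, co_add, Finsupp.add_apply, Finsupp.add_apply, Finsupp.add_apply, ha, hb, smul_add]
    abel

theorem delta_injective : Function.Injective (delta P N) := by
  rw [injective_iff_map_eq_zero]
  intro z hz
  apply co_injective P N
  rw [co_zero]
  have hrec : ∀ i, co P N z i = (X : P[X]) • co P N z (i + 1) := by
    intro i
    have := co_delta P N z i
    rw [hz, co_zero, Finsupp.zero_apply] at this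
    exact (sub_eq_zero.1 this.symm)
  -- finite support
  obtain ⟨m, hm⟩ : ∃ m, ∀ i, m ≤ i → co P N z i = 0 := by
    refine ⟨(co P N z).support.sup id + 1, fun i hi => ?_⟩
    by_contra hne
    have : i ∈ (co P N z).support := Finsupp.mem_support_iff.2 hne
    have := Finset.le_sup (f := id) this
    simp only [id] at this
    omega
  ext i
  rw [Finsupp.zero_apply]
  -- downward induction
  have hall : ∀ k i, m ≤ i + k → co P N z i = 0 := by
    intro k
    induction k with
    | zero => intro i hi; exact hm i hi
    | succ k ih =>
      intro i hi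
      rw [hrec i, ih (i + 1) (by omega), smul_zero]
  exact hall m i (by omega)

end Groth.Agent.Lib.T2H7.PolyTorA
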