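import Mathlib
import Groth.Agent.Lib.T2H7PolyTorA
import Groth.Agent.Lib.Helper1Extend
import Groth.Agent.Lib.Helper1DT4
import Groth.Agent.Lib.Helper1TorE
import Groth.Agent.Lib.Helper1TorH
import Groth.Agent.Lib.T2H1TorAmpRestrict
import Groth.Agent.Lib.T2H1TorAmpWE
set_option backward.isDefEq.respectTransparency.types false

/-!
# Tor amplitude over polynomial rings, for complexes (helper1, second team)

For `K ∈ D(P[X])` whose restriction to `P` has tor amplitude in `[a, b]`, `K` has tor amplitude in
`[a - 1, b]` over `P[X]`: the characteristic sequence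
`0 → P[X] ⊗_P K → P[X] ⊗_P K → K → 0` of complexes gives a distinguished triangle.
-/

set_option autoImplicit false
set_option linter.style.haveILetI false
universe u
open CategoryTheory CategoryTheory.Limits HomologicalComplex TensorProduct Polynomial

attribute [local instance] HasDerivedCategory.standard

namespace Groth.Agent.Lib.T2H1.PolyTorAmp

open Groth.Agent.Lib.Helper1.KF Groth.Agent.Lib.Helper1.DT DerivedCategory DTen
  Groth.Agent.Lib.Helper1.Tor Groth.Agent.Lib.Helper1.Extend Groth.Agent.Lib.T2H7.PolyTorA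

section Module

variable (P : Type u) [CommRing P]

/-- the ring map `P → P[X]` -/
noncomputable abbrev φ : P →+* P[X] := algebraMap P P[X]

/-- multiplication by `X` on the restriction of scalars of a `P[X]`-module, as a linear map -/
noncomputable def mulXlin (N : ModuleCat.{u} P[X]) :
    ((ModuleCat.restrictScalars.{u} (φ P)).obj N) →ₗ[P]
      ((ModuleCat.restrictScalars.{u} (φ P)).obj N) where
  toFun := fun n => (show N from (X : P[X]) • (show N from n))
  map_add' := fun x y => smul_add (X : P[X]) (show N from x) (show N from y)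
  map_smul' := fun r n => smul_comm (X : P[X]) (φ P r) (show N from n)

/-- multiplication by `X` on the restriction of scalars of a `P[X]`-module -/
noncomputable def mulXres (N : ModuleCat.{u} P[X]) :
    (ModuleCat.restrictScalars.{u} (φ P)).obj N ⟶ (ModuleCat.restrictScalars.{u} (φ P)).obj N :=
  ModuleCat.ofHom (X := ((ModuleCat.restrictScalars.{u} (φ P)).obj N))
    (Y := ((ModuleCat.restrictScalars.{u} (φ P)).obj N)) (mulXlin P N)

lemma mulXres_apply (N : ModuleCat.{u} P[X]) (n : (ModuleCat.restrictScalars.{u} (φ P)).obj N) :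
    (mulXres P N).hom n = (show N from (X : P[X]) • (show N from n)) := rfl

lemma mulXres_naturality {N N' : ModuleCat.{u} P[X]} (f : N ⟶ N') :
    (ModuleCat.restrictScalars.{u} (φ P)).map f ≫ mulXres P N' =
      mulXres P N ≫ (ModuleCat.restrictScalars.{u} (φ P)).map f := by
  ext n
  exact (f.hom.map_smul (X : P[X]) (show N from n)).symm

/-- the first map of the characteristic sequence, in `ModuleCat` form -/
noncomputable def δ (N : ModuleCat.{u} P[X]) :
    (ext P P[X]).obj ((ModuleCat.restrictScalars.{u} (φ P)).obj N) ⟶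
      (ext P P[X]).obj ((ModuleCat.restrictScalars.{u} (φ P)).obj N) :=
  (X : P[X]) • 𝟙 _ - (ext P P[X]).map (mulXres P N)

lemma δ_naturality {N N' : ModuleCat.{u} P[X]} (f : N ⟶ N') :
    (ext P P[X]).map ((ModuleCat.restrictScalars.{u} (φ P)).map f) ≫ δ P N' =
      δ P N ≫ (ext P P[X]).map ((ModuleCat.restrictScalars.{u} (φ P)).map f) := by
  unfold δ
  rw [Preadditive.comp_sub, Preadditive.sub_comp, Linear.comp_smul, Linear.smul_comp,
    Category.comp_id, Category.id_comp, ← Functor.map_comp, ← Functor.map_comp,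
    mulXres_naturality]

/-- the second map of the characteristic sequence -/
noncomputable def π (N : ModuleCat.{u} P[X]) :
    (ext P P[X]).obj ((ModuleCat.restrictScalars.{u} (φ P)).obj N) ⟶ N :=
  (ModuleCat.extendRestrictScalarsAdj.{u, u, u} (φ P)).counit.app N

section Exact

variable (N : ModuleCat.{u} P[X])

open ChangeOfRings

lemma π_one_tmul (n : N) : (π P N).hom ((1 : P[X]) ⊗ₜ[P, φ P] n) = n :=
  ModuleCat.ExtendRestrictScalarsAdj.Counit.map_apply_one_tmul (φ P) n

lemma δ_one_tmul (n : (ModuleCat.restrictScalars.{u} (φ P)).obj N) :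
    (δ P N).hom ((1 : P[X]) ⊗ₜ[P, φ P] n) =
      ((X : P[X]) * 1) ⊗ₜ[P, φ P] n - (1 : P[X]) ⊗ₜ[P, φ P] ((mulXres P N).hom n) := rfl

/-- the comparison with helper7's sequence: first map -/
lemma δ_comp_extIso :
    letI : Module P N := Module.compHom N (φ P)
    haveI : IsScalarTower P P[X] N := IsScalarTower.of_algebraMap_smul fun _ _ => rfl
    δ P N ≫ (extIso (A := P) (B := P[X]) N).hom =
      (extIso (A := P) (B := P[X]) N).hom ≫ ModuleCat.ofHom (delta P N) := by
  letI : Module P N := Module.compHom N (φ P)
  haveI : IsScalarTower P P[X] N := IsScalarTower.of_algebraMap_smul fun _ _ => rfl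
  apply ModuleCat.ExtendScalars.hom_ext
  intro n
  show (extEquiv (A := P) (B := P[X]) N) ((δ P N).hom ((1 : P[X]) ⊗ₜ[P, φ P] n)) =
    delta P N ((extEquiv (A := P) (B := P[X]) N) ((1 : P[X]) ⊗ₜ[P, φ P] n))
  refine (congrArg (extEquiv (A := P) (B := P[X]) N) (δ_one_tmul P N n)).trans ?_
  refine ((extEquiv (A := P) (B := P[X]) N).map_sub _ _).trans ?_
  exact (delta_tmul P N 1 n).symm

/-- the comparison with helper7's sequence: second map -/
lemma π_eq :
    letI : Module P N := Module.compHom N (φ P)
    haveI : IsScalarTower P P[X] N := IsScalarTower.of_algebraMap_smul fun _ _ => rfl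
    π P N = (extIso (A := P) (B := P[X]) N).hom ≫ ModuleCat.ofHom (pi P N) := by
  letI : Module P N := Module.compHom N (φ P)
  haveI : IsScalarTower P P[X] N := IsScalarTower.of_algebraMap_smul fun _ _ => rfl
  apply ModuleCat.ExtendScalars.hom_ext
  intro n
  refine (π_one_tmul P N n).trans ?_
  show n = pi P N ((1 : P[X]) ⊗ₜ[P] n)
  rw [pi_tmul, one_smul]

lemma extEquiv_δ (z : (ext P P[X]).obj ((ModuleCat.restrictScalars.{u} (φ P)).obj N)) :
    letI : Module P N := Module.compHom N (φ P)
    haveI : IsScalarTower P P[X] N := IsScalarTower.of_algebraMap_smul fun _ _ => rfl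
    extEquiv (A := P) (B := P[X]) N ((δ P N).hom z) =
      delta P N (extEquiv (A := P) (B := P[X]) N z) :=
  congrArg (fun f => f.hom z) (δ_comp_extIso P N)

lemma π_apply (z : (ext P P[X]).obj ((ModuleCat.restrictScalars.{u} (φ P)).obj N)) :
    letI : Module P N := Module.compHom N (φ P)
    haveI : IsScalarTower P P[X] N := IsScalarTower.of_algebraMap_smul fun _ _ => rfl
    (π P N).hom z = pi P N (extEquiv (A := P) (B := P[X]) N z) :=
  congrArg (fun f => f.hom z) (π_eq P N)

lemma δ_π : δ P N ≫ π P N = 0 := by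
  letI : Module P N := Module.compHom N (φ P)
  haveI : IsScalarTower P P[X] N := IsScalarTower.of_algebraMap_smul fun _ _ => rfl
  refine ModuleCat.hom_ext (LinearMap.ext fun z => ?_)
  show (π P N).hom ((δ P N).hom z) = 0
  rw [π_apply, extEquiv_δ, pi_delta]

/-- the characteristic sequence of a `P[X]`-module, as a short complex of `P[X]`-modules -/
noncomputable def charSC : ShortComplex (ModuleCat.{u} P[X]) :=
  ShortComplex.mk (δ P N) (π P N) (δ_π P N)

theorem charSC_shortExact : (charSC P N).ShortExact := by
  letI : Module P N := Module.compHom N (φ P)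
  haveI : IsScalarTower P P[X] N := IsScalarTower.of_algebraMap_smul fun _ _ => rfl
  let e := extEquiv (A := P) (B := P[X]) N
  have h1 : ∀ z, e ((δ P N).hom z) = delta P N (e z) := fun z => extEquiv_δ P N z
  have h2 : ∀ z, (π P N).hom z = pi P N (e z) := fun z => π_apply P N z
  refine ShortComplex.ShortExact.mk' ?_ ?_ ?_
  · rw [ShortComplex.ShortExact.moduleCat_exact_iff_function_exact]
    intro z
    show (π P N).hom z = 0 ↔ z ∈ Set.range (δ P N).hom
    rw [h2, exact_delta_pi P N (e z)]
    constructor
    · rintro ⟨w, hw⟩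
      refine ⟨e.symm w, e.injective ?_⟩
      rw [h1, e.apply_symm_apply, hw]
    · rintro ⟨w, rfl⟩
      exact ⟨e w, (h1 w).symm⟩
  · rw [ModuleCat.mono_iff_injective]
    intro z z' hz
    apply e.injective
    apply delta_injective P N
    rw [← h1, ← h1]
    exact congrArg e hz
  · rw [ModuleCat.epi_iff_surjective]
    intro n
    exact ⟨(1 : P[X]) ⊗ₜ[P, φ P] n, π_one_tmul P N n⟩

end Exact

end Module

section Complex

variable (P : Type u) [CommRing P] (K : Cx P[X])

/-- `P[X] ⊗_P K` as a complex of `P[X]`-modules -/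
noncomputable abbrev EK : Cx P[X] := (extCx (φ P)).obj ((resCx (φ P)).obj K)

/-- the first map of the characteristic sequence of a complex -/
noncomputable def δC : EK P K ⟶ EK P K where
  f i := δ P (K.X i)
  comm' i j _ := (δ_naturality P (K.d i j)).symm

/-- the second map of the characteristic sequence of a complex -/
noncomputable def πC : EK P K ⟶ K := (extResAdj (φ P)).counit.app K

lemma δC_πC : δC P K ≫ πC P K = 0 := by
  ext i : 1
  exact δ_π P (K.X i)

/-- the characteristic sequence of a complex of `P[X]`-modules -/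
noncomputable def charSCC : ShortComplex (Cx P[X]) :=
  ShortComplex.mk (δC P K) (πC P K) (δC_πC P K)

theorem charSCC_shortExact : (charSCC P K).ShortExact :=
  HomologicalComplex.shortExact_of_degreewise_shortExact _
    (fun i => charSC_shortExact P (K.X i))

/-- the polynomial step for complexes: chain level form -/
theorem hasTorAmp_polynomial_cx (a b : ℤ)
    (h : DRing.HasTorAmplitudeIn P a b (Q.obj ((resCx (φ P)).obj K))) :
    DRing.HasTorAmplitudeIn P[X] (a - 1) b (Q.obj K) := by
  have hS := charSCC_shortExact P K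
  have hT := DerivedCategory.triangleOfSES_distinguished hS
  have hE : DRing.HasTorAmplitudeIn P[X] a b (Q.obj (EK P K)) :=
    hasTorAmp_of_iso (mapQIso (ext P P[X]) _) (hasTorAmp_extD (A := P) (B := P[X]) _ a b h)
  exact hasTorAmp_cone _ hT (a - 1) b (hasTorAmp_mono (by omega) (by omega) hE)
    (hasTorAmp_mono (by omega) (by omega) hE)

end Complex

section Shift

open Groth.Agent.Lib.T2H1.TorAmpBC Groth.Agent.Lib.T2H1.TorAmpRestrict
  Groth.Agent.Lib.T2H1.TorAmpWE

/-- restriction of scalars in two steps -/
noncomputable def resCompCx {R₁ R₂ R₃ : Type u} [CommRing R₁] [CommRing R₂] [CommRing R₃]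
    (f : R₁ →+* R₂) (g : R₂ →+* R₃) (gf : R₁ →+* R₃) (hgf : gf = g.comp f) (K : Cx R₃) :
    (resCx f).obj ((resCx g).obj K) ≅ (resCx gf).obj K :=
  ((NatIso.mapHomologicalComplex (ModuleCat.restrictScalarsComp'.{u} f g gf hgf)
    (ComplexShape.up ℤ)).app K).symm

/-- along `f : A → B`, the tor amplitude of complexes of `B`-modules goes down by at most `n` on the
left when passing from `A` to `B` -/
def TorAmpShift {A B : Type u} [CommRing A] [CommRing B] (f : A →+* B) (n : ℕ) : Prop :=
  ∀ (K : Cx B) (a b : ℤ), DRing.HasTorAmplitudeIn A a b (Q.obj ((resCx f).obj K)) →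
    DRing.HasTorAmplitudeIn B (a - n) b (Q.obj K)

variable {A B C : Type u} [CommRing A] [CommRing B] [CommRing C]

theorem torAmpShift_comp (f : A →+* B) (g : B →+* C) (gf : A →+* C) (hgf : gf = g.comp f)
    (n m : ℕ) (hf : TorAmpShift f n) (hg : TorAmpShift g m) : TorAmpShift gf (n + m) := by
  intro K a b h
  have h1 := hf ((resCx g).obj K) a b (hasTorAmp_of_iso (Q.mapIso (resCompCx f g gf hgf K).symm) h)
  have h2 := hg K (a - n) b h1
  have e : a - n - m = a - ((n + m : ℕ) : ℤ) := by push_cast; ring
  rw [← e]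
  exact h2

theorem torAmpShift_of_bijective (f : A →+* B) (hf : Function.Bijective f) : TorAmpShift f 0 := by
  intro K a b h
  have := hasTorAmplitudeIn_of_bijective f hf K a b h
  simpa using this

theorem torAmpShift_of_weaklyEtale [Algebra A B] [Algebra.WeaklyEtale A B] :
    TorAmpShift (algebraMap A B) 0 := by
  intro K a b h
  have := hasTorAmp_of_weaklyEtale (R := A) (R' := B) (Q.obj K) a b
    (hasTorAmp_of_iso ((resFactors (algebraMap A B)).app K).symm h)
  simpa using this

theorem torAmpShift_polynomial (P : Type u) [CommRing P] :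
    TorAmpShift (algebraMap P P[X]) 1 := by
  intro K a b h
  exact hasTorAmp_polynomial_cx P K a b h

theorem torAmpShift_mvPolynomial (A : Type u) [CommRing A] : ∀ n : ℕ,
    TorAmpShift (algebraMap A (MvPolynomial (Fin n) A)) n := by
  intro n
  induction n with
  | zero =>
    apply torAmpShift_of_bijective
    have : (algebraMap A (MvPolynomial (Fin 0) A) : A → MvPolynomial (Fin 0) A) =
        (MvPolynomial.isEmptyAlgEquiv A (Fin 0)).symm := by
      funext a
      exact ((MvPolynomial.isEmptyAlgEquiv A (Fin 0)).symm.commutes a).symm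
    rw [this]
    exact (MvPolynomial.isEmptyAlgEquiv A (Fin 0)).symm.bijective
  | succ n ih =>
    let e : MvPolynomial (Fin (n + 1)) A ≃ₐ[A] (MvPolynomial (Fin n) A)[X] :=
      MvPolynomial.finSuccEquiv A n
    let ψ : (MvPolynomial (Fin n) A)[X] →+* MvPolynomial (Fin (n + 1)) A :=
      (e.symm : (MvPolynomial (Fin n) A)[X] →+* MvPolynomial (Fin (n + 1)) A)
    have h1 : TorAmpShift ((algebraMap (MvPolynomial (Fin n) A) (MvPolynomial (Fin n) A)[X]).comp
        (algebraMap A (MvPolynomial (Fin n) A))) (n + 1) :=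
      torAmpShift_comp _ _ _ rfl n 1 ih (torAmpShift_polynomial _)
    have h2 : TorAmpShift ψ 0 := torAmpShift_of_bijective ψ e.symm.bijective
    refine torAmpShift_comp _ ψ _ ?_ (n + 1) 0 h1 h2
    refine RingHom.ext fun a => ?_
    show algebraMap A (MvPolynomial (Fin (n + 1)) A) a = e.symm (algebraMap (MvPolynomial (Fin n) A)
      (MvPolynomial (Fin n) A)[X] (algebraMap A (MvPolynomial (Fin n) A) a))
    rw [← IsScalarTower.algebraMap_apply, e.symm.commutes]

theorem torAmpShift_of_isStandardSmooth [Algebra A B] (n : ℕ)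
    (hf : (algebraMap A B).IsStandardSmoothOfRelativeDimension n) :
    TorAmpShift (algebraMap A B) n := by
  obtain ⟨g, hg, hge⟩ := hf.exists_etale_mvPolynomial
  letI algPB : Algebra (MvPolynomial (Fin n) A) B := g.toAlgebra
  haveI : Algebra.Etale (MvPolynomial (Fin n) A) B := hge
  have h2 : TorAmpShift (algebraMap (MvPolynomial (Fin n) A) B) 0 := torAmpShift_of_weaklyEtale
  refine torAmpShift_comp _ _ _ ?_ n 0 (torAmpShift_mvPolynomial A n) h2
  refine RingHom.ext fun a => ?_
  show algebraMap A B a = g (algebraMap A (MvPolynomial (Fin n) A) a)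
  rw [← hg]
  rfl

end Shift

end Groth.Agent.Lib.T2H1.PolyTorAmp
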