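import Mathlib
import Groth.Prelude.Def_ProEtS
import Groth.Agent.Lib.Helper9ProEt

set_option autoImplicit false
open CategoryTheory CategoryTheory.Limits AlgebraicGeometry Opposite
universe u w v₁ v₂ u₁ u₂

namespace Groth.Agent.Lib.T2H1.ProEtExtZero

open Groth.Agent.Lib.Helper9.ProEt

section lan

variable {C : Type u₁} [Category.{v₁} C] {D : Type u₂} [Category.{v₂} D] (L : C ⥤ D)

/-- The left Kan extension of an abelian presheaf vanishes on objects admitting no map to the
image of `L`. -/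
theorem subsingleton_lan_obj (G : Cᵒᵖ ⥤ AddCommGrpCat.{w})
    [∀ (F : Cᵒᵖ ⥤ AddCommGrpCat.{w}), L.op.HasLeftKanExtension F]
    [L.op.HasPointwiseLeftKanExtension G] (W : D)
    (hW : ∀ V : C, IsEmpty (W ⟶ L.obj V)) :
    Subsingleton ((L.op.lan.obj G).obj (op W)) := by
  have hc := Functor.isPointwiseLeftKanExtensionLeftKanExtensionUnit L.op G (op W)
  haveI : IsEmpty (CostructuredArrow L.op (op W)) :=
    ⟨fun a => (hW a.left.unop).false a.hom.unop⟩
  have hc' : IsColimit ((Functor.LeftExtension.mk (L.op.leftKanExtension G)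
      (L.op.leftKanExtensionUnit G)).coconeAt (op W)) := hc
  have hinit := (isColimitEquivIsInitialOfIsEmpty _ _) hc'
  have hz : IsZero ((L.op.lan.obj G).obj (op W)) :=
    (isZero_zero _).of_iso (hinit.uniqueUpToIso (isZero_zero _).isInitial)
  exact AddCommGrpCat.subsingleton_of_isZero hz

end lan

section main

variable {U X Z : Scheme.{u}}

/-- Separatedness of abelian pro-étale sheaves along covering sieves. -/
theorem eq_zero_of_forall_map_eq_zero (G : ProEtS.AbP X) {V : X.ProEt} (S : Sieve V)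
    (hS : S ∈ Scheme.ProEt.topology X V) (s : G.obj.obj (op V))
    (h : ∀ (W : X.ProEt) (g : W ⟶ V), S g → G.obj.map g.op s = 0) : s = 0 := by
  have hsh : Presieve.IsSheafFor (G.obj ⋙ forget AddCommGrpCat.{u + 1}) S.arrows :=
    ((Presheaf.isSheaf_iff_isSheaf_forget _ G.obj (forget AddCommGrpCat.{u + 1})).1
      G.property).isSheafFor S hS
  refine hsh.isSeparatedFor.ext ?_
  intro W g hg
  show G.obj.map g.op s = G.obj.map g.op 0
  rw [h W g hg, map_zero]

set_option maxHeartbeats 1000000 in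
set_option backward.isDefEq.respectTransparency false in
theorem main (j : U ⟶ X) [WeaklyEtale j] (i : Z ⟶ X)
    (hUZ : Disjoint (Set.range j.base) (Set.range i.base)) [ProEtS.JPCont j]
    (V : X.ProEt) [IsAffine V.left]
    (hV : ∀ v : ↥V.left, ∃ z : ↥V.left, V.hom.base z ∈ Set.range i.base ∧ v ⤳ z)
    (F : ProEtS.AbP U) :
    Subsingleton (ProEtS.sectP ((ProEtS.extZeroP j).obj F) V) := by
  let J := Scheme.ProEt.topology X
  let P : X.ProEtᵒᵖ ⥤ AddCommGrpCat.{u + 1} := (ProEtS.compP j).op.lan.obj F.obj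
  let G : ProEtS.AbP X := (presheafToSheaf J AddCommGrpCat.{u + 1}).obj P
  let e : (ProEtS.extZeroP j).obj F ≅ G :=
    (Functor.sheafPullbackConstruction.sheafPullbackIso (ProEtS.compP j) AddCommGrpCat.{u + 1}
      (Scheme.ProEt.topology U) (Scheme.ProEt.topology X)).app F
  suffices hG : Subsingleton (G.obj.obj (op V)) by
    let e' : ((ProEtS.extZeroP j).obj F).obj.obj (op V) ≅ G.obj.obj (op V) :=
      ((sheafToPresheaf _ _).mapIso e).app (op V)
    exact e'.addCommGroupIsoToAddEquiv.toEquiv.subsingleton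
  refine ⟨fun s t => ?_⟩
  suffices h0 : ∀ s : G.obj.obj (op V), s = 0 by rw [h0 s, h0 t]
  intro s
  have hS : Presheaf.imageSieve (toSheafify J P) s ∈ J V :=
    Presheaf.imageSieve_mem J (toSheafify J P) (U := op V) s
  obtain ⟨n, Zk, gk, hgk, haff, hsurj⟩ := exists_finite_affine_of_mem X _ hS
  -- the good indices
  let K0 : Type := {k : Fin n // ∀ W : U.ProEt, IsEmpty (Zk k ⟶ (ProEtS.compP j).obj W)}
  have hsurj0 : ∀ x : V.left, ∃ (k : K0) (z : (Zk k.1).left), (gk k.1).left z = x := by
    intro v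
    obtain ⟨z, hzi, hvz⟩ := hV v
    obtain ⟨k, z', hz'⟩ := hsurj z
    have hk : ∀ W : U.ProEt, IsEmpty (Zk k ⟶ (ProEtS.compP j).obj W) := by
      intro W
      refine ⟨fun a => ?_⟩
      have h1 : (Zk k).hom = a.left ≫ (W.hom ≫ j) := (CategoryTheory.Over.w a.hom).symm
      have h2 : (Zk k).hom = (gk k).left ≫ V.hom := (CategoryTheory.Over.w (gk k).hom).symm
      have h3 : (Zk k).hom z' ∈ Set.range j := by
        refine ⟨(a.left ≫ W.hom) z', ?_⟩
        rw [h1]
        simp
      have h4 : (Zk k).hom z' ∈ Set.range i := by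
        have h5 : (Zk k).hom z' = V.hom ((gk k).left z') := by
          have h6 : (Zk k).hom z' = ((gk k).left ≫ V.hom) z' := by rw [← h2]; rfl
          rw [h6]
          rfl
        rw [h5, hz']
        exact hzi
      exact Set.disjoint_left.mp hUZ h3 h4
    haveI : WeaklyEtale (gk k).left := weaklyEtale_left X (gk k)
    have hgen : GeneralizingMap (gk k).left.base := Flat.generalizingMap (gk k).left
    obtain ⟨v', -, hv'⟩ := hgen (a := z') (b := v) (by rw [hz']; exact hvz)
    exact ⟨⟨k, hk⟩, v', hv'⟩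
  haveI : ∀ k : K0, CompactSpace (Zk k.1).left := fun k => by
    haveI := haff k.1
    infer_instance
  have hcov : Sieve.ofArrows (fun k : K0 => Zk k.1) (fun k => gk k.1) ∈ J V :=
    ofArrows_mem_topology X (fun k : K0 => Zk k.1) (fun k => gk k.1) hsurj0
  refine eq_zero_of_forall_map_eq_zero G _ hcov s ?_
  intro W g hg
  obtain ⟨W', a, b, ⟨k⟩, rfl⟩ := hg
  rw [op_comp, G.obj.map_comp]
  have hk0 : G.obj.map (gk k.1).op s = 0 := by
    obtain ⟨t, ht⟩ := hgk k.1
    haveI : Subsingleton (P.obj (op (Zk k.1))) :=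
      subsingleton_lan_obj (ProEtS.compP j) F.obj (Zk k.1) k.2
    have ht0 : t = 0 := Subsingleton.elim _ _
    rw [← ht, ht0, map_zero]
  show (G.obj.map a.op).hom ((G.obj.map (gk k.1).op).hom s) = 0
  have := hk0
  rw [show (G.obj.map (gk k.1).op).hom s = 0 from hk0, map_zero]

end main

end Groth.Agent.Lib.T2H1.ProEtExtZero
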