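import Mathlib
import Groth.Prelude.Def_ProEtS
import Groth.Prelude.Def_PBC
import Groth.Agent.Lib.Helper9ProEt
import Groth.Agent.Lib.Helper9WC2
import Groth.Agent.Lib.Helper14WEField

set_option autoImplicit false
open CategoryTheory CategoryTheory.Limits AlgebraicGeometry Opposite
universe u

namespace Groth.Agent.Lib.T2H1.ProEtGeomLift

open Groth.Agent.Lib.Helper9.ProEt Groth.Agent.Lib.Helper9.WC Groth.Agent.Lib.Helper14.WEField

section ring

/-- A nontrivial weakly étale algebra over a separably closed field has a rational point. -/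
theorem exists_algHom_of_weaklyEtale_sepClosed (k C : Type u) [Field k] [IsSepClosed k]
    [CommRing C] [Nontrivial C] [Algebra k C] [Algebra.WeaklyEtale k C] :
    Nonempty (C →ₐ[k] k) := by
  obtain ⟨𝔪, h𝔪⟩ := Ideal.exists_maximal C
  letI : Field (C ⧸ 𝔪) := Ideal.Quotient.field 𝔪
  haveI : Algebra.IsSeparable k (C ⧸ 𝔪) := by
    refine ⟨fun x => ?_⟩
    obtain ⟨c, rfl⟩ := Ideal.Quotient.mk_surjective x
    obtain ⟨f, hf, hfc⟩ := exists_separable_aeval_eq_zero k C c
    have h0 : Polynomial.aeval (Ideal.Quotient.mk 𝔪 c) f = 0 := by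
      have := congrArg (Ideal.Quotient.mkₐ k 𝔪) hfc
      rwa [← Polynomial.aeval_algHom_apply, map_zero] at this
    exact hf.of_dvd (minpoly.dvd k _ h0)
  have hsurj : Function.Surjective (algebraMap k (C ⧸ 𝔪)) :=
    IsSepClosed.algebraMap_surjective k (C ⧸ 𝔪)
  let e : k ≃ₐ[k] (C ⧸ 𝔪) :=
    AlgEquiv.ofBijective (Algebra.ofId k (C ⧸ 𝔪)) ⟨(algebraMap k (C ⧸ 𝔪)).injective, hsurj⟩
  exact ⟨e.symm.toAlgHom.comp (Ideal.Quotient.mkₐ k 𝔪)⟩

end ring

section scheme

set_option backward.isDefEq.respectTransparency false in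
/-- A nonempty scheme weakly étale over a separably closed field has a rational point. -/
theorem exists_section_of_weaklyEtale {W : Scheme.{u}} {k : Type u} [Field k] [IsSepClosed k]
    (p : W ⟶ Spec (CommRingCat.of k)) [WeaklyEtale p] (w : W) :
    ∃ σ : Spec (CommRingCat.of k) ⟶ W, σ ≫ p = 𝟙 _ := by
  obtain ⟨V', hV', hwV', -⟩ := exists_isAffineOpen_mem_and_subset (x := w) (U := ⊤) trivial
  let C : CommRingCat := Γ(W, V')
  let q : Spec C ⟶ Spec (CommRingCat.of k) := hV'.fromSpec ≫ p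
  let φ : CommRingCat.of k ⟶ C := Spec.preimage q
  have hφ : Spec.map φ = q := Spec.map_preimage q
  letI : Algebra k C := φ.hom.toAlgebra
  have hφ' : CommRingCat.ofHom (algebraMap k C) = φ := rfl
  haveI : WeaklyEtale q := inferInstance
  haveI : Algebra.WeaklyEtale k C := by
    rw [← weaklyEtale_SpecMap_iff, hφ', hφ]
    infer_instance
  haveI : Nontrivial C := by
    have hne : Nonempty (Spec C) := ⟨hV'.isoSpec.hom.base ⟨w, hwV'⟩⟩
    obtain ⟨x⟩ := hne
    exact (PrimeSpectrum.nonempty_iff_nontrivial.mp ⟨x⟩)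
  obtain ⟨r⟩ := exists_algHom_of_weaklyEtale_sepClosed k C
  refine ⟨Spec.map (CommRingCat.ofHom r.toRingHom) ≫ hV'.fromSpec, ?_⟩
  rw [Category.assoc]
  show Spec.map (CommRingCat.ofHom r.toRingHom) ≫ q = _
  rw [← hφ, ← Spec.map_comp, ← Spec.map_id]
  congr 1
  ext a
  show r (algebraMap k C a) = a
  rw [r.commutes]
  rfl

end scheme

section main

variable {X : Scheme.{u}}

set_option backward.isDefEq.respectTransparency false in
/-- Geometric points lift along pro-étale coverings. -/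
theorem main (U : X.ProEt) (R : Sieve U)
    (hR : R ∈ Scheme.ProEt.topology X U) {k : Type u} [Field k] [IsSepClosed k]
    (ξ : Spec (CommRingCat.of k) ⟶ U.left) :
    ∃ (V : X.ProEt) (g : V ⟶ U) (ξ' : Spec (CommRingCat.of k) ⟶ V.left),
      R g ∧ ξ' ≫ g.left = ξ := by
  rw [mem_topology_iff] at hR
  obtain ⟨R', hR', hle⟩ := hR
  rw [mem_precoverage_iff] at hR'
  have hcov : R'.map (Fg X) ∈ Scheme.precoverage @WeaklyEtale U.left := hR'.2
  let pt : Spec (CommRingCat.of k) := IsLocalRing.closedPoint k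
  obtain ⟨Yt, gt, hgt, hmem⟩ := hcov.1 (ξ pt)
  obtain ⟨h1⟩ := hgt
  obtain ⟨hg⟩ := h1
  rename_i V g
  obtain ⟨y, hy⟩ := hmem
  have hy : g.left y = ξ pt := hy
  haveI : WeaklyEtale g.left := weaklyEtale_left X g
  obtain ⟨w, -, -⟩ := Scheme.Pullback.exists_preimage_pullback (f := g.left) (g := ξ) y pt hy
  haveI : WeaklyEtale (pullback.snd g.left ξ) :=
    MorphismProperty.pullback_snd (P := @WeaklyEtale) _ _ inferInstance
  obtain ⟨σ, hσ⟩ := exists_section_of_weaklyEtale (pullback.snd g.left ξ) w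
  refine ⟨V, g, σ ≫ pullback.fst g.left ξ, hle _ _ hg, ?_⟩
  rw [Category.assoc, pullback.condition, ← Category.assoc, hσ, Category.id_comp]

end main

end Groth.Agent.Lib.T2H1.ProEtGeomLift
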