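import Mathlib
import Groth.Prelude.Def_PBC

set_option autoImplicit false
universe u

namespace Groth.Agent.Lib.T2H1.WContrIso

/-- w-contractibility is invariant under ring isomorphisms. -/
theorem isWContractible_of_ringEquiv {D D' : Type u} [CommRing D] [CommRing D'] (e : D ≃+* D')
    (h : EtPBC.IsWContractible D) : EtPBC.IsWContractible D' := by
  intro B _ _ hff hwe
  letI : Algebra D D' := (e : D →+* D').toAlgebra
  letI : Algebra D B := ((algebraMap D' B).comp (e : D →+* D')).toAlgebra
  haveI : IsScalarTower D D' B := IsScalarTower.of_algebraMap_eq (fun _ => rfl)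
  let e' : D ≃ₐ[D] D' := AlgEquiv.ofRingEquiv (f := e) (fun _ => rfl)
  haveI : Algebra.Etale D D' := Algebra.Etale.of_equiv e'
  haveI : Algebra.WeaklyEtale D D' := inferInstance
  haveI : Module.FaithfullyFlat D D' := Module.FaithfullyFlat.of_linearEquiv D D e'.symm.toLinearEquiv
  haveI : Algebra.WeaklyEtale D B := Algebra.WeaklyEtale.trans D D' B
  haveI : Module.FaithfullyFlat D B := Module.FaithfullyFlat.trans D D' B
  obtain ⟨r⟩ := h B inferInstance inferInstance
  refine ⟨{ toRingHom := (e : D →+* D').comp r.toRingHom, commutes' := fun d' => ?_ }⟩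
  show e (r (algebraMap D' B d')) = d'
  have h1 : algebraMap D' B d' = algebraMap D B (e.symm d') := by
    show algebraMap D' B d' = algebraMap D' B (e (e.symm d'))
    rw [e.apply_symm_apply]
  rw [h1, r.commutes]
  exact e.apply_symm_apply d'

end Groth.Agent.Lib.T2H1.WContrIso
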