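import Mathlib
import Groth.Prelude.Def_PBC
import Groth.Prelude.Def_ProEtW
import Groth.Agent.Lib.Helper14WEField

set_option autoImplicit false
universe u

open TensorProduct

namespace Groth.Agent.Lib.T2H1.ResAlgWE

open Groth.Agent.Lib.Helper14.WEField

/-- Weakly étale ring maps induce algebraic residue field extensions. -/
theorem algebraicResidueExtensions_of_weaklyEtale (A B : Type u) [CommRing A] [CommRing B]
    [Algebra A B] [Algebra.WeaklyEtale A B] : ProEtW.AlgebraicResidueExtensions A B := by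
  intro q hq
  set p := q.comap (algebraMap A B) with hp
  haveI : p.IsPrime := Ideal.comap_isPrime _ _
  let K := FractionRing (A ⧸ p)
  let L := FractionRing (B ⧸ q)
  have hinj : Function.Injective (algebraMap (A ⧸ p) (B ⧸ q)) :=
    Ideal.algebraMap_quotient_injective
  haveI : FaithfulSMul (A ⧸ p) L := (faithfulSMul_iff_algebraMap_injective _ _).mpr (by
    rw [IsScalarTower.algebraMap_eq (A ⧸ p) (B ⧸ q) L]
    exact (IsFractionRing.injective (B ⧸ q) L).comp hinj)
  letI : Algebra K L := FractionRing.liftAlgebra (A ⧸ p) L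
  haveI : IsScalarTower (A ⧸ p) K L := FractionRing.isScalarTower_liftAlgebra _ _
  haveI : IsScalarTower A K L := IsScalarTower.of_algebraMap_eq (fun a => by
    rw [IsScalarTower.algebraMap_apply A (A ⧸ p) K, ← IsScalarTower.algebraMap_apply (A ⧸ p) K L,
      ← IsScalarTower.algebraMap_apply A (A ⧸ p) L])
  haveI : Algebra.WeaklyEtale K (K ⊗[A] B) := inferInstance
  have hsep := (weaklyEtale_iff_isSepAlg K (K ⊗[A] B)).mp inferInstance
  let ψ : B →ₐ[A] L := (IsScalarTower.toAlgHom A (B ⧸ q) L).comp (Ideal.Quotient.mkₐ A q)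
  let φ : K ⊗[A] B →ₐ[K] L :=
    Algebra.TensorProduct.lift (Algebra.ofId K L) ψ (fun _ _ => Commute.all _ _)
  refine ⟨fun x => ?_⟩
  obtain ⟨b, rfl⟩ := Ideal.Quotient.mk_surjective x
  obtain ⟨f, hf, hfb⟩ := hsep ((1 : K) ⊗ₜ[A] b)
  have h1 : IsAlgebraic K (φ ((1 : K) ⊗ₜ[A] b)) :=
    ⟨f, hf.ne_zero, by rw [Polynomial.aeval_algHom_apply, hfb, map_zero]⟩
  have h2 : φ ((1 : K) ⊗ₜ[A] b) = algebraMap (B ⧸ q) L (Ideal.Quotient.mk q b) := by
    simp [φ, ψ]
  rw [h2] at h1
  have h3 := (IsFractionRing.isAlgebraic_iff (A ⧸ p) K L).mpr h1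
  exact (isAlgebraic_algebraMap_iff (IsFractionRing.injective (B ⧸ q) L)).mp h3

end Groth.Agent.Lib.T2H1.ResAlgWE
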