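import Mathlib
import Groth.Prelude.Def_PBC
import Groth.Prelude.Def_ProEtW
import Groth.Agent.Lib.Helper3IndEtField

set_option autoImplicit false
universe u

open TensorProduct

namespace Groth.Agent.Lib.T2H1.ResAlg

open Groth.Agent.Lib.Helper3.IndEt

/-- Quasi-finite algebras induce algebraic extensions of residue domains. -/
theorem isAlgebraic_quotient_of_quasiFinite {A E : Type u} [CommRing A] [CommRing E] [Algebra A E]
    [Algebra.QuasiFinite A E] (Q : Ideal E) [Q.IsPrime] :
    Algebra.IsAlgebraic (A ⧸ Q.comap (algebraMap A E)) (E ⧸ Q) := by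
  set p := Q.comap (algebraMap A E) with hp
  haveI : p.IsPrime := Ideal.comap_isPrime _ _
  have hinj : Function.Injective (algebraMap (A ⧸ p) (E ⧸ Q)) :=
    Ideal.algebraMap_quotient_injective
  let L := FractionRing (E ⧸ Q)
  haveI : FaithfulSMul (A ⧸ p) L := (faithfulSMul_iff_algebraMap_injective _ _).mpr (by
    rw [IsScalarTower.algebraMap_eq (A ⧸ p) (E ⧸ Q) L]
    exact (IsFractionRing.injective (E ⧸ Q) L).comp hinj)
  letI : Algebra (FractionRing (A ⧸ p)) L := FractionRing.liftAlgebra (A ⧸ p) L
  haveI : IsScalarTower (A ⧸ p) (FractionRing (A ⧸ p)) L :=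
    FractionRing.isScalarTower_liftAlgebra _ _
  haveI : Algebra.QuasiFinite A (E ⧸ Q) := inferInstance
  haveI : Algebra.QuasiFinite (A ⧸ p) (E ⧸ Q) := .of_restrictScalars A _ _
  haveI : Algebra.QuasiFinite (A ⧸ p) L := .trans _ (E ⧸ Q) _
  haveI : Algebra.QuasiFinite (FractionRing (A ⧸ p)) L := .of_restrictScalars (A ⧸ p) _ _
  haveI : Module.Finite (FractionRing (A ⧸ p)) L := .of_quasiFinite
  refine ⟨fun x => ?_⟩
  haveI : Algebra.IsIntegral (FractionRing (A ⧸ p)) L := Algebra.IsIntegral.of_finite _ _
  have h1 : IsAlgebraic (FractionRing (A ⧸ p)) (algebraMap (E ⧸ Q) L x) :=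
    (Algebra.IsIntegral.isIntegral _).isAlgebraic
  have h2 : IsAlgebraic (A ⧸ p) (algebraMap (E ⧸ Q) L x) :=
    (IsFractionRing.isAlgebraic_iff (A ⧸ p) (FractionRing (A ⧸ p)) L).mpr h1
  exact (isAlgebraic_algebraMap_iff (IsFractionRing.injective (E ⧸ Q) L)).mp h2

/-- Ind-étale algebras (in factorization form) induce algebraic residue extensions. -/
theorem algebraicResidueExtensions_of_factor {A C : Type u} [CommRing A] [CommRing C]
    [Algebra A C] (H : Obj.Factor A C) : ProEtW.AlgebraicResidueExtensions A C := by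
  intro q hq
  refine ⟨fun x => ?_⟩
  obtain ⟨c, rfl⟩ := Ideal.Quotient.mk_surjective x
  obtain ⟨E, _, _, _, g, e, rfl⟩ := exists_etale_of_factor H c
  set Q : Ideal E := q.comap g with hQ
  haveI : Q.IsPrime := Ideal.comap_isPrime _ _
  haveI := isAlgebraic_quotient_of_quasiFinite (A := A) Q
  have h1 : IsAlgebraic (A ⧸ Q.comap (algebraMap A E)) (Ideal.Quotient.mk Q e) :=
    Algebra.IsAlgebraic.isAlgebraic _
  have hle : Q.comap (algebraMap A E) ≤ (q.comap (algebraMap A C)).comap (RingHom.id A) := by
    intro a ha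
    show algebraMap A C a ∈ q
    have h2 : g (algebraMap A E a) ∈ q := ha
    rwa [g.commutes] at h2
  have hge : (q.comap (algebraMap A C)).comap (RingHom.id A) ≤ Q.comap (algebraMap A E) := by
    intro a ha
    show g (algebraMap A E a) ∈ q
    rw [g.commutes]
    exact ha
  let f : (A ⧸ Q.comap (algebraMap A E)) →+* (A ⧸ q.comap (algebraMap A C)) :=
    Ideal.quotientMap _ (RingHom.id A) hle
  have hf : Function.Injective f := Ideal.quotientMap_injective' hge
  let gg : (E ⧸ Q) →+* (C ⧸ q) := Ideal.quotientMap q (g : E →+* C) le_rfl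
  have h3 := h1.ringHom_of_comp_eq f gg hf (by
    apply Ideal.Quotient.ringHom_ext
    ext a
    show Ideal.Quotient.mk q (algebraMap A C a) = Ideal.Quotient.mk q (g (algebraMap A E a))
    rw [g.commutes])
  exact h3

theorem algebraicResidueExtensions_of_isIndEtale {A C : Type u} [CommRing A] [CommRing C]
    [Algebra A C] (H : EtPBC.IsIndEtale A C) : ProEtW.AlgebraicResidueExtensions A C :=
  algebraicResidueExtensions_of_factor (factor_of_isIndEtale H)

/-- Algebraic residue extensions are stable under base change. -/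
theorem algebraicResidueExtensions_baseChange (A B C : Type u) [CommRing A] [CommRing B]
    [CommRing C] [Algebra A B] [Algebra A C] (h : ProEtW.AlgebraicResidueExtensions A B) :
    ProEtW.AlgebraicResidueExtensions C (C ⊗[A] B) := by
  intro Q hQ
  set q : Ideal C := Q.comap (algebraMap C (C ⊗[A] B)) with hq
  haveI : q.IsPrime := Ideal.comap_isPrime _ _
  set p' : Ideal B := Q.comap (Algebra.TensorProduct.includeRight : B →ₐ[A] C ⊗[A] B) with hp'
  haveI : p'.IsPrime := Ideal.comap_isPrime _ _
  haveI := h p'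
  have key : ∀ t : C ⊗[A] B, IsAlgebraic (C ⧸ q) (Ideal.Quotient.mk Q t) := by
    intro t
    induction t using TensorProduct.induction_on with
    | zero => rw [map_zero]; exact isAlgebraic_zero
    | add x y hx hy => rw [map_add]; exact hx.add hy
    | tmul c b =>
      have h1 : (c ⊗ₜ[A] b : C ⊗[A] B) = (c ⊗ₜ[A] (1 : B)) * ((1 : C) ⊗ₜ[A] b) := by
        rw [Algebra.TensorProduct.tmul_mul_tmul, mul_one, one_mul]
      rw [h1, map_mul]
      refine IsAlgebraic.mul ?_ ?_
      · have : Ideal.Quotient.mk Q (c ⊗ₜ[A] (1 : B)) =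
            algebraMap (C ⧸ q) ((C ⊗[A] B) ⧸ Q) (Ideal.Quotient.mk q c) := rfl
        rw [this]
        exact isAlgebraic_algebraMap _
      · have h2 : IsAlgebraic (A ⧸ p'.comap (algebraMap A B)) (Ideal.Quotient.mk p' b) :=
          Algebra.IsAlgebraic.isAlgebraic _
        have hle : p'.comap (algebraMap A B) ≤ q.comap (algebraMap A C) := by
          intro a ha
          show (algebraMap A C a) ⊗ₜ[A] (1 : B) ∈ Q
          rw [Algebra.TensorProduct.tmul_one_eq_one_tmul]
          exact ha
        have hge : q.comap (algebraMap A C) ≤ p'.comap (algebraMap A B) := by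
          intro a ha
          show (1 : C) ⊗ₜ[A] (algebraMap A B a) ∈ Q
          rw [← Algebra.TensorProduct.tmul_one_eq_one_tmul]
          exact ha
        let f : (A ⧸ p'.comap (algebraMap A B)) →+* (C ⧸ q) :=
          Ideal.quotientMap q (algebraMap A C) hle
        have hf : Function.Injective f := Ideal.quotientMap_injective' hge
        let gg : (B ⧸ p') →+* ((C ⊗[A] B) ⧸ Q) :=
          Ideal.quotientMap Q ((Algebra.TensorProduct.includeRight : B →ₐ[A] C ⊗[A] B) : B →+* _)
            le_rfl
        have h3 := h2.ringHom_of_comp_eq f gg hf (by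
          apply Ideal.Quotient.ringHom_ext
          ext a
          show Ideal.Quotient.mk Q ((algebraMap A C a) ⊗ₜ[A] (1 : B)) =
            Ideal.Quotient.mk Q ((1 : C) ⊗ₜ[A] (algebraMap A B a))
          rw [Algebra.TensorProduct.tmul_one_eq_one_tmul])
        exact h3
  refine ⟨fun x => ?_⟩
  obtain ⟨t, rfl⟩ := Ideal.Quotient.mk_surjective x
  exact key t

end Groth.Agent.Lib.T2H1.ResAlg
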