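import Mathlib
import Groth.Prelude.Def_EtBase

set_option autoImplicit false
universe u

namespace Groth.Agent.Lib.T2H1.SHTransfer

open Polynomial IsLocalRing

/-- Henselian local rings transfer along ring isomorphisms. -/
theorem henselianLocalRing_of_ringEquiv {R S : Type*} [CommRing R] [CommRing S]
    [HenselianLocalRing R] (e : R ≃+* S) : HenselianLocalRing S := by
  haveI : IsLocalRing S := e.isLocalRing
  refine ⟨fun f hf a₀ h₁ h₂ => ?_⟩
  have hmem : ∀ s : S, s ∈ maximalIdeal S ↔ e.symm s ∈ maximalIdeal R := by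
    intro s
    rw [mem_maximalIdeal, mem_maximalIdeal, mem_nonunits_iff, mem_nonunits_iff]
    exact not_congr (isUnit_map_iff e.symm s).symm
  have hev : ∀ g : S[X], (g.map (e.symm : S →+* R)).eval (e.symm a₀) = e.symm (g.eval a₀) := by
    intro g
    exact Polynomial.eval_map_apply (e.symm : S →+* R) a₀
  obtain ⟨a, ha, ha'⟩ := HenselianLocalRing.is_henselian (f.map (e.symm : S →+* R))
    (hf.map _) (e.symm a₀)
    (by rw [hev]; exact (hmem _).mp h₁)
    (by
      rw [Polynomial.derivative_map, hev]
      exact h₂.map e.symm)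
  refine ⟨e a, ?_, ?_⟩
  · have h3 : (f.map (e.symm : S →+* R)).eval (e.symm (e a)) = e.symm (f.eval (e a)) :=
      Polynomial.eval_map_apply (e.symm : S →+* R) (e a)
    rw [e.symm_apply_apply] at h3
    rw [Polynomial.IsRoot.def] at ha ⊢
    rw [ha] at h3
    exact (e.symm.map_eq_zero_iff).mp h3.symm
  · rw [hmem, map_sub, e.symm_apply_apply]
    exact ha'

/-- Separably closed fields transfer along ring isomorphisms. -/
theorem isSepClosed_of_ringEquiv {k k' : Type*} [Field k] [Field k'] [IsSepClosed k]
    (e : k ≃+* k') : IsSepClosed k' := by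
  refine ⟨fun p hp => ?_⟩
  have h1 : (p.map (e.symm : k' →+* k)).Splits :=
    IsSepClosed.splits_of_separable _ (hp.map)
  have h2 := h1.map (e : k →+* k')
  rw [Polynomial.map_map] at h2
  have h3 : ((e : k →+* k').comp (e.symm : k' →+* k)) = RingHom.id k' := by
    ext x
    simp
  rw [h3, Polynomial.map_id] at h2
  exact h2

/-- Strictly henselian local rings transfer along ring isomorphisms. -/
theorem isStrictlyHenselianLocalRing_of_ringEquiv {R S : Type u} [CommRing R] [CommRing S]
    (h : EtCoh.IsStrictlyHenselianLocalRing R) (e : R ≃+* S) :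
    EtCoh.IsStrictlyHenselianLocalRing S := by
  obtain ⟨hH, hS⟩ := h
  haveI := henselianLocalRing_of_ringEquiv e
  exact ⟨inferInstance, isSepClosed_of_ringEquiv (IsLocalRing.ResidueField.mapEquiv e)⟩

end Groth.Agent.Lib.T2H1.SHTransfer
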