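import Mathlib
import Groth.Prelude.Def_PBC
import Groth.Prelude.Def_ProEtW
import Groth.Agent.Lib.T2H1IndZarRetr
import Groth.Agent.Lib.T2H1IndZarBC

set_option autoImplicit false
universe u

namespace Groth.Agent.Lib.T2H1.WLocAlong

open Groth.Agent.Lib.T2H1.IndZarIdent Groth.Agent.Lib.T2H1.IndZarBC
open Groth.Agent.Lib.T2H1.WLocMain Groth.Agent.Lib.T2H1.WLoc Groth.Agent.Lib.T2H1.WLocED
open Groth.Agent.Lib.T2H1.IndZarRetr Topology

/-- A spectral `T₁` space is w-local. -/
theorem isWLocal_of_t1 (X : Type u) [TopologicalSpace X] [SpectralSpace X] [T1Space X] :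
    ProEtW.IsWLocal X := by
  refine ⟨inferInstance, ?_, ?_⟩
  · have : {x : X | IsClosed ({x} : Set X)} = Set.univ :=
      Set.eq_univ_of_forall fun x => isClosed_singleton
    rw [this]
    exact isClosed_univ
  · intro x
    refine ⟨x, ⟨isClosed_singleton, specializes_rfl⟩, ?_⟩
    rintro y ⟨-, hxy⟩
    exact hxy.eq.symm

/-- For a surjective ring map, a point is closed as soon as its image is. -/
theorem isClosed_singleton_of_comap {R S : Type u} [CommRing R] [CommRing S] (φ : R →+* S)
    (hφ : Function.Surjective φ) (y : PrimeSpectrum S)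
    (h : IsClosed ({PrimeSpectrum.comap φ y} : Set (PrimeSpectrum R))) :
    IsClosed ({y} : Set (PrimeSpectrum S)) := by
  have h2 := h.preimage (PrimeSpectrum.continuous_comap φ)
  have h3 : (PrimeSpectrum.comap φ) ⁻¹' {PrimeSpectrum.comap φ y} = {y} := by
    ext z
    simp only [Set.mem_preimage, Set.mem_singleton_iff]
    exact ⟨fun hz => PrimeSpectrum.comap_injective_of_surjective φ hφ hz, fun hz => by rw [hz]⟩
  rwa [h3] at h2

theorem isClosed_comap_of_singleton {R S : Type u} [CommRing R] [CommRing S] (φ : R →+* S)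
    (hφ : Function.Surjective φ) (y : PrimeSpectrum S)
    (h : IsClosed ({y} : Set (PrimeSpectrum S))) :
    IsClosed ({PrimeSpectrum.comap φ y} : Set (PrimeSpectrum R)) := by
  have := (PrimeSpectrum.isClosedEmbedding_comap_of_surjective _ φ hφ).isClosedMap _ h
  rwa [Set.image_singleton] at this

section main

variable (A : Type u) [CommRing A] (I : Ideal A)

/-- The closed points of `Spec A_w` over `V(I)`. -/
def Zc : Set (PrimeSpectrum (Aw A)) :=
  {𝔮 | IsClosed ({𝔮} : Set (PrimeSpectrum (Aw A))) ∧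
    PrimeSpectrum.comap (algebraMap A (Aw A)) 𝔮 ∈ PrimeSpectrum.zeroLocus (I : Set A)}

theorem isClosed_Zc : IsClosed (Zc A I) :=
  (isWLocal (A := A)).2.1.inter
    ((PrimeSpectrum.isClosed_zeroLocus _).preimage (PrimeSpectrum.continuous_comap _))

theorem isClosed_image_Zc :
    IsClosed ((ConnectedComponents.mk : PrimeSpectrum (Aw A) → _) '' Zc A I) := by
  haveI : T2Space (ConnectedComponents (PrimeSpectrum (Aw A))) :=
    Groth.Agent.Lib.Helper10.Pi0.t2Space_connectedComponents
  exact ((isClosed_Zc A I).isCompact.image ConnectedComponents.continuous_coe).isClosed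

/-- A point of `Spec A_w` whose component meets `Zc` lies over a generization of `V(I)`. -/
theorem zPt_mem_of_mk_mem (𝔮 : PrimeSpectrum (Aw A))
    (h : ConnectedComponents.mk 𝔮 ∈ (ConnectedComponents.mk : PrimeSpectrum (Aw A) → _) '' Zc A I) :
    zPt 𝔮.asIdeal ∈ PrimeSpectrum.zeroLocus (I : Set A) := by
  obtain ⟨𝔮₀, ⟨h0c, h0I⟩, h0⟩ := h
  have hsp : 𝔮 ⤳ mPt (zPt 𝔮.asIdeal) := by
    rw [← PrimeSpectrum.le_iff_specializes]
    exact le_mIdeal 𝔮.asIdeal
  have h1 := Groth.Agent.Lib.Helper10.Pi0.mk_eq_of_specializes _ hsp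
  have h2 : 𝔮₀ = mPt (zPt 𝔮.asIdeal) :=
    eq_of_mk_eq_of_isClosed isWLocal h0c (isClosed_mPt _) (h0.trans h1.symm)
  rw [h2, comap_mPt] at h0I
  exact h0I

set_option maxHeartbeats 1600000 in
/-- Localizing along a profinite closed subset. -/
theorem exists_along (hI : ProEtW.IsProfinite (PrimeSpectrum.zeroLocus (R := A) I)) :
    ∃ (B : Type u) (_ : CommRing B) (_ : Algebra A B),
      EtPBC.IsIndZariski A B ∧ ProEtW.IsWLocal (PrimeSpectrum B) ∧
      ProEtW.closedPoints (PrimeSpectrum B) = PrimeSpectrum.zeroLocus (I.map (algebraMap A B)) ∧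
      Function.Bijective (Ideal.quotientMap (I.map (algebraMap A B)) (algebraMap A B)
        Ideal.le_comap_map) := by
  obtain ⟨hIc, hIt2, hItd⟩ := hI
  obtain ⟨B, _, _, hBind, hBsurj, hBemb, hBrange⟩ :=
    Groth.Agent.S0698.result (Aw A) _ (isClosed_image_Zc A I)
  letI : Algebra A B := ((algebraMap (Aw A) B).comp (algebraMap A (Aw A))).toAlgebra
  haveI : IsScalarTower A (Aw A) B := IsScalarTower.of_algebraMap_eq (fun _ => rfl)
  have hcemb := PrimeSpectrum.isClosedEmbedding_comap_of_surjective _ (algebraMap (Aw A) B) hBsurj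
  have hBwl : ProEtW.IsWLocal (PrimeSpectrum B) := by
    have := Groth.Agent.S0738.result (PrimeSpectrum (Aw A)) isWLocal
      (Set.range (PrimeSpectrum.comap (algebraMap (Aw A) B))) hcemb.isClosed_range
    exact isWLocal_of_homeomorph hcemb.isEmbedding.toHomeomorph.symm this
  have hid : EtPBC.IdentifiesLocalRings A B :=
    identifies_comp identifiesLocalRings (identifies_of_isIndZariski hBind)
  have hAB : EtPBC.IsIndZariski A B := isIndZariski_of_identifies_of_isWLocal hid hBwl
  -- points of `Spec B`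
  have hfac : ∀ y : PrimeSpectrum B, PrimeSpectrum.comap (algebraMap A B) y =
      PrimeSpectrum.comap (algebraMap A (Aw A)) (PrimeSpectrum.comap (algebraMap (Aw A) B) y) :=
    fun y => rfl
  have hzmem : ∀ y : PrimeSpectrum B,
      zPt (PrimeSpectrum.comap (algebraMap (Aw A) B) y).asIdeal ∈
        PrimeSpectrum.zeroLocus (I : Set A) := by
    intro y
    apply zPt_mem_of_mk_mem
    have : PrimeSpectrum.comap (algebraMap (Aw A) B) y ∈
        Set.range (PrimeSpectrum.comap (algebraMap (Aw A) B)) := Set.mem_range_self y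
    rw [hBrange] at this
    exact this
  have hmem_iff : ∀ y : PrimeSpectrum B,
      y ∈ PrimeSpectrum.zeroLocus ((I.map (algebraMap A B) : Ideal B) : Set B) ↔
      PrimeSpectrum.comap (algebraMap A B) y ∈ PrimeSpectrum.zeroLocus (I : Set A) := by
    intro y
    rw [PrimeSpectrum.mem_zeroLocus, PrimeSpectrum.mem_zeroLocus, SetLike.coe_subset_coe,
      SetLike.coe_subset_coe, Ideal.map_le_iff_le_comap]
    rfl
  have hclosed : ProEtW.closedPoints (PrimeSpectrum B) =
      PrimeSpectrum.zeroLocus (I.map (algebraMap A B)) := by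
    ext y
    rw [hmem_iff]
    constructor
    · intro hy
      have hy' : IsClosed ({y} : Set (PrimeSpectrum B)) := hy
      have h1 := isClosed_comap_of_singleton _ hBsurj y hy'
      have h2 := eq_mPt_of_isClosed _ h1
      rw [hfac, h2, comap_mPt]
      exact hzmem y
    · intro hy
      show IsClosed ({y} : Set (PrimeSpectrum B))
      apply isClosed_singleton_of_comap _ hBsurj
      set 𝔮 := PrimeSpectrum.comap (algebraMap (Aw A) B) y with h𝔮
      have hsp : 𝔮 ⤳ mPt (zPt 𝔮.asIdeal) := by
        rw [← PrimeSpectrum.le_iff_specializes]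
        exact le_mIdeal 𝔮.asIdeal
      have hsp2 := hsp.map (PrimeSpectrum.continuous_comap (algebraMap A (Aw A)))
      rw [comap_mPt] at hsp2
      -- specialization inside the Hausdorff space `V(I)`
      have hsp3 : (⟨PrimeSpectrum.comap (algebraMap A (Aw A)) 𝔮, hy⟩ :
          PrimeSpectrum.zeroLocus (R := A) I) ⤳ ⟨zPt 𝔮.asIdeal, hzmem y⟩ :=
        IsInducing.subtypeVal.specializes_iff.mp hsp2
      have heq : PrimeSpectrum.comap (algebraMap A (Aw A)) 𝔮 = zPt 𝔮.asIdeal :=
        congrArg Subtype.val hsp3.eq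
      have hle : 𝔮.asIdeal ≤ (mPt (zPt 𝔮.asIdeal)).asIdeal := le_mIdeal 𝔮.asIdeal
      have h2 : 𝔮.asIdeal = (mPt (zPt 𝔮.asIdeal)).asIdeal :=
        Groth.Agent.Lib.T2H1.WLocalRing.eq_of_comap_eq (mPt (zPt 𝔮.asIdeal)).asIdeal
          (identifiesLocalRings (mPt (zPt 𝔮.asIdeal))).2 𝔮.asIdeal _ hle le_rfl
          (by
            have e1 := congrArg PrimeSpectrum.asIdeal heq
            have e2 := congrArg PrimeSpectrum.asIdeal (comap_mPt (zPt 𝔮.asIdeal))
            exact e1.trans e2.symm)
      have h3 : 𝔮 = mPt (zPt 𝔮.asIdeal) := PrimeSpectrum.ext h2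
      rw [h3]
      exact isClosed_mPt _
  refine ⟨B, inferInstance, inferInstance, hAB, hBwl, hclosed, ?_⟩
  -- the quotient map is bijective, by S0699
  have hid' : EtPBC.IdentifiesLocalRings (A ⧸ I) (B ⧸ I.map (algebraMap A B)) :=
    identifies_of_isIndZariski (isIndZariski_quotient A B I hAB)
  have hmkA := PrimeSpectrum.isClosedEmbedding_comap_of_surjective _ (Ideal.Quotient.mk I)
    Ideal.Quotient.mk_surjective
  have hmkB := PrimeSpectrum.isClosedEmbedding_comap_of_surjective _
    (Ideal.Quotient.mk (I.map (algebraMap A B))) Ideal.Quotient.mk_surjective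
  have hrangeA : Set.range (PrimeSpectrum.comap (Ideal.Quotient.mk I)) =
      PrimeSpectrum.zeroLocus (I : Set A) := by
    rw [_root_.range_comap_of_surjective _ _ Ideal.Quotient.mk_surjective, Ideal.mk_ker]
  have hrangeB : Set.range (PrimeSpectrum.comap (Ideal.Quotient.mk (I.map (algebraMap A B)))) =
      PrimeSpectrum.zeroLocus ((I.map (algebraMap A B) : Ideal B) : Set B) := by
    rw [_root_.range_comap_of_surjective _ _ Ideal.Quotient.mk_surjective, Ideal.mk_ker]
  let hA' : PrimeSpectrum (A ⧸ I) ≃ₜ PrimeSpectrum.zeroLocus (R := A) I :=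
    hmkA.isEmbedding.toHomeomorph.trans (Homeomorph.setCongr hrangeA)
  haveI : T2Space (PrimeSpectrum (A ⧸ I)) := hA'.isEmbedding.t2Space
  haveI : TotallyDisconnectedSpace (PrimeSpectrum (A ⧸ I)) := by
    rw [← hmkA.isEmbedding.isTotallyDisconnected_range, hrangeA,
      ← totallyDisconnectedSpace_subtype_iff]
    exact hItd
  haveI : T1Space (PrimeSpectrum (B ⧸ I.map (algebraMap A B))) := by
    refine ⟨fun yb => ?_⟩
    apply isClosed_singleton_of_comap _ Ideal.Quotient.mk_surjective
    have : PrimeSpectrum.comap (Ideal.Quotient.mk (I.map (algebraMap A B))) yb ∈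
        PrimeSpectrum.zeroLocus ((I.map (algebraMap A B) : Ideal B) : Set B) := by
      rw [← hrangeB]
      exact Set.mem_range_self yb
    rw [← hclosed] at this
    exact this
  have hwA := isWLocal_of_t1 (PrimeSpectrum (A ⧸ I))
  have hwB := isWLocal_of_t1 (PrimeSpectrum (B ⧸ I.map (algebraMap A B)))
  have hwm : ProEtW.IsWLocalMap (PrimeSpectrum.comap
      (algebraMap (A ⧸ I) (B ⧸ I.map (algebraMap A B)))) :=
    ⟨Groth.Agent.Lib.Helper10.ProCons.isSpectralMap_comap _, fun _ _ => isClosed_singleton⟩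
  -- compatibility of the four maps on spectra
  have hsq : ∀ yb : PrimeSpectrum (B ⧸ I.map (algebraMap A B)),
      PrimeSpectrum.comap (Ideal.Quotient.mk I)
        (PrimeSpectrum.comap (algebraMap (A ⧸ I) (B ⧸ I.map (algebraMap A B))) yb) =
      PrimeSpectrum.comap (algebraMap A B)
        (PrimeSpectrum.comap (Ideal.Quotient.mk (I.map (algebraMap A B))) yb) := fun yb => rfl
  have hinj : Function.Injective (PrimeSpectrum.comap
      (algebraMap (A ⧸ I) (B ⧸ I.map (algebraMap A B)))) := by
    intro yb₁ yb₂ h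
    apply hmkB.injective
    have h' := congrArg (PrimeSpectrum.comap (Ideal.Quotient.mk I)) h
    rw [hsq, hsq] at h'
    have hc : ∀ yb : PrimeSpectrum (B ⧸ I.map (algebraMap A B)),
        IsClosed ({PrimeSpectrum.comap (algebraMap (Aw A) B)
          (PrimeSpectrum.comap (Ideal.Quotient.mk (I.map (algebraMap A B))) yb)} : Set _) := by
      intro yb
      apply isClosed_comap_of_singleton _ hBsurj
      have : PrimeSpectrum.comap (Ideal.Quotient.mk (I.map (algebraMap A B))) yb ∈
          PrimeSpectrum.zeroLocus ((I.map (algebraMap A B) : Ideal B) : Set B) := by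
        rw [← hrangeB]
        exact Set.mem_range_self yb
      rw [← hclosed] at this
      exact this
    apply hcemb.injective
    rw [eq_mPt_of_isClosed _ (hc yb₁), eq_mPt_of_isClosed _ (hc yb₂)]
    rw [hfac, hfac, eq_mPt_of_isClosed _ (hc yb₁), eq_mPt_of_isClosed _ (hc yb₂), comap_mPt,
      comap_mPt] at h'
    rw [h']
  have hsurj : Function.Surjective (PrimeSpectrum.comap
      (algebraMap (A ⧸ I) (B ⧸ I.map (algebraMap A B)))) := by
    intro xb
    have hz : PrimeSpectrum.comap (Ideal.Quotient.mk I) xb ∈ PrimeSpectrum.zeroLocus (I : Set A) := by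
      rw [← hrangeA]
      exact Set.mem_range_self xb
    set z := PrimeSpectrum.comap (Ideal.Quotient.mk I) xb with hzdef
    have h1 : mPt z ∈ Set.range (PrimeSpectrum.comap (algebraMap (Aw A) B)) := by
      rw [hBrange]
      refine ⟨mPt z, ⟨isClosed_mPt z, ?_⟩, rfl⟩
      rw [comap_mPt]
      exact hz
    obtain ⟨y, hy⟩ := h1
    have h2 : y ∈ PrimeSpectrum.zeroLocus ((I.map (algebraMap A B) : Ideal B) : Set B) := by
      rw [hmem_iff, hfac, hy, comap_mPt]
      exact hz
    rw [← hrangeB] at h2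
    obtain ⟨yb, hyb⟩ := h2
    refine ⟨yb, ?_⟩
    apply hmkA.injective
    rw [hsq, hyb, hfac, hy, comap_mPt]
  have hbij : Function.Bijective (PrimeSpectrum.continuous_comap
      (algebraMap (A ⧸ I) (B ⧸ I.map (algebraMap A B)))).connectedComponentsMap := by
    constructor
    · intro c₁ c₂ hc
      obtain ⟨yb₁, rfl⟩ := ConnectedComponents.surjective_coe c₁
      obtain ⟨yb₂, rfl⟩ := ConnectedComponents.surjective_coe c₂
      have hc' : (ConnectedComponents.mk (PrimeSpectrum.comap
          (algebraMap (A ⧸ I) (B ⧸ I.map (algebraMap A B))) yb₁) :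
          ConnectedComponents (PrimeSpectrum (A ⧸ I))) =
          ConnectedComponents.mk (PrimeSpectrum.comap
          (algebraMap (A ⧸ I) (B ⧸ I.map (algebraMap A B))) yb₂) := hc
      rw [ConnectedComponents.coe_eq_coe', connectedComponent_eq_singleton,
        Set.mem_singleton_iff] at hc'
      rw [hinj hc']
    · intro c
      obtain ⟨xb, rfl⟩ := ConnectedComponents.surjective_coe c
      obtain ⟨yb, rfl⟩ := hsurj xb
      exact ⟨ConnectedComponents.mk yb, rfl⟩
  exact Groth.Agent.S0699.result (A ⧸ I) (B ⧸ I.map (algebraMap A B)) hid' hwA hwB hwm hbij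

end main

end Groth.Agent.Lib.T2H1.WLocAlong
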