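import Mathlib
import Groth.Prelude.Def_PBC
import Groth.Prelude.Def_ProEtW
import Groth.Agent.Lib.T2H1WLocAlong
import Groth.Agent.S0702

set_option autoImplicit false
universe u

namespace Groth.Agent.Lib.T2H1.WLocAlg

open Groth.Agent.Lib.T2H1.WLocAlong Groth.Agent.Lib.T2H1.IndZarRetr Topology

variable (A B : Type u) [CommRing A] [CommRing B] [Algebra A B]

/-- Algebraic residue extensions pass to quotients. -/
theorem algebraicResidueExtensions_quotient (I : Ideal A)
    (h : ProEtW.AlgebraicResidueExtensions A B) :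
    ProEtW.AlgebraicResidueExtensions (A ⧸ I) (B ⧸ I.map (algebraMap A B)) := by
  intro qb hqb
  set q : Ideal B := qb.comap (Ideal.Quotient.mk (I.map (algebraMap A B))) with hq
  haveI : q.IsPrime := Ideal.comap_isPrime _ _
  haveI := h q
  set pb : Ideal (A ⧸ I) := qb.comap (algebraMap (A ⧸ I) (B ⧸ I.map (algebraMap A B))) with hpb
  have hle : q.comap (algebraMap A B) ≤ pb.comap (Ideal.Quotient.mk I) := by
    intro a ha
    exact ha
  have hge : pb.comap (Ideal.Quotient.mk I) ≤ q.comap (algebraMap A B) := by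
    intro a ha
    exact ha
  let f : (A ⧸ q.comap (algebraMap A B)) →+* ((A ⧸ I) ⧸ pb) :=
    Ideal.quotientMap pb (Ideal.Quotient.mk I) hle
  have hf : Function.Injective f := Ideal.quotientMap_injective' hge
  let g : (B ⧸ q) →+* ((B ⧸ I.map (algebraMap A B)) ⧸ qb) :=
    Ideal.quotientMap qb (Ideal.Quotient.mk (I.map (algebraMap A B))) le_rfl
  have hg : Function.Surjective g :=
    Ideal.quotientMap_surjective Ideal.Quotient.mk_surjective
  refine Algebra.IsAlgebraic.ringHom_of_comp_eq f g hf hg ?_
  apply Ideal.Quotient.ringHom_ext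
  ext a
  rfl

set_option maxHeartbeats 1000000 in
theorem main (hA : ProEtW.IsWLocal (PrimeSpectrum A)) (I : Ideal A)
    (hI0 : PrimeSpectrum.zeroLocus (R := A) I = ProEtW.closedPoints (PrimeSpectrum A))
    (h : ProEtW.AlgebraicResidueExtensions A B) :
    PrimeSpectrum.zeroLocus (R := B) (I.map (algebraMap A B)) ⊆
      ProEtW.closedPoints (PrimeSpectrum B) ∧
    ∃ (C : Type u) (_ : CommRing C) (_ : Algebra B C) (_ : Algebra A C) (_ : IsScalarTower A B C),
      EtPBC.IsIndZariski B C ∧
      Function.Bijective (Ideal.quotientMap ((I.map (algebraMap A B)).map (algebraMap B C))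
        (algebraMap B C) Ideal.le_comap_map) ∧
      ProEtW.IsWLocal (PrimeSpectrum C) ∧
      ProEtW.IsWLocalMap (PrimeSpectrum.comap (algebraMap A C)) ∧
      ProEtW.closedPoints (PrimeSpectrum C) =
        PrimeSpectrum.comap (algebraMap A C) ⁻¹' ProEtW.closedPoints (PrimeSpectrum A) := by
  -- `Spec (A/I)` is profinite
  have hmkA := PrimeSpectrum.isClosedEmbedding_comap_of_surjective _ (Ideal.Quotient.mk I)
    Ideal.Quotient.mk_surjective
  have hrangeA : Set.range (PrimeSpectrum.comap (Ideal.Quotient.mk I)) =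
      ProEtW.closedPoints (PrimeSpectrum A) := by
    rw [_root_.range_comap_of_surjective _ _ Ideal.Quotient.mk_surjective, Ideal.mk_ker, hI0]
  let e1 : PrimeSpectrum (A ⧸ I) ≃ₜ ConnectedComponents (PrimeSpectrum A) :=
    (hmkA.isEmbedding.toHomeomorph.trans (Homeomorph.setCongr hrangeA)).trans (closedPtsHomeo hA)
  haveI : T2Space (ConnectedComponents (PrimeSpectrum A)) := by
    haveI := hA.1
    exact Groth.Agent.Lib.Helper10.Pi0.t2Space_connectedComponents
  haveI : T2Space (PrimeSpectrum (A ⧸ I)) := e1.isEmbedding.t2Space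
  haveI : TotallyDisconnectedSpace (PrimeSpectrum (A ⧸ I)) := e1.symm.totallyDisconnectedSpace
  -- hence so is `Spec (B/IB)`
  obtain ⟨hBc, hBt2, hBtd⟩ := Groth.Agent.S0702.result (A ⧸ I) (B ⧸ I.map (algebraMap A B))
    (algebraicResidueExtensions_quotient A B I h)
  have hmkB := PrimeSpectrum.isClosedEmbedding_comap_of_surjective _
    (Ideal.Quotient.mk (I.map (algebraMap A B))) Ideal.Quotient.mk_surjective
  have hrangeB : Set.range (PrimeSpectrum.comap (Ideal.Quotient.mk (I.map (algebraMap A B)))) =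
      PrimeSpectrum.zeroLocus ((I.map (algebraMap A B) : Ideal B) : Set B) := by
    rw [_root_.range_comap_of_surjective _ _ Ideal.Quotient.mk_surjective, Ideal.mk_ker]
  let e2 : PrimeSpectrum (B ⧸ I.map (algebraMap A B)) ≃ₜ
      PrimeSpectrum.zeroLocus (R := B) (I.map (algebraMap A B)) :=
    hmkB.isEmbedding.toHomeomorph.trans (Homeomorph.setCongr hrangeB)
  have hprof : ProEtW.IsProfinite (PrimeSpectrum.zeroLocus (R := B) (I.map (algebraMap A B))) :=
    ⟨e2.compactSpace, e2.t2Space, e2.totallyDisconnectedSpace⟩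
  constructor
  · intro q hq
    rw [← hrangeB] at hq
    obtain ⟨qb, rfl⟩ := hq
    exact isClosed_comap_of_singleton _ Ideal.Quotient.mk_surjective qb isClosed_singleton
  · obtain ⟨C, _, _, hC1, hC2, hC3, hC4⟩ := exists_along B (I.map (algebraMap A B)) hprof
    letI : Algebra A C := ((algebraMap B C).comp (algebraMap A B)).toAlgebra
    haveI : IsScalarTower A B C := IsScalarTower.of_algebraMap_eq (fun _ => rfl)
    have hcl : ProEtW.closedPoints (PrimeSpectrum C) =
        PrimeSpectrum.comap (algebraMap A C) ⁻¹' ProEtW.closedPoints (PrimeSpectrum A) := by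
      rw [hC3, ← hI0]
      ext y
      rw [Set.mem_preimage, PrimeSpectrum.mem_zeroLocus, PrimeSpectrum.mem_zeroLocus,
        SetLike.coe_subset_coe, SetLike.coe_subset_coe, Ideal.map_le_iff_le_comap,
        Ideal.map_le_iff_le_comap]
      rfl
    refine ⟨C, inferInstance, inferInstance, inferInstance, inferInstance, hC1, hC4, hC2,
      ⟨Groth.Agent.Lib.Helper10.ProCons.isSpectralMap_comap _, ?_⟩, hcl⟩
    intro y hy
    have : y ∈ ProEtW.closedPoints (PrimeSpectrum C) := hy
    rw [hcl] at this
    exact this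

end Groth.Agent.Lib.T2H1.WLocAlg
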