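import Mathlib
import Groth.Prelude.Def_PBC
import Groth.Prelude.Def_ProEtW
import Groth.Agent.Lib.T2H1WLocAlg

set_option autoImplicit false
universe u

open TensorProduct CategoryTheory Limits AlgebraicGeometry

namespace Groth.Agent.Lib.T2H1.WLocStep

/-- The vanishing ideal of the closed points of a w-local spectrum cuts out the closed points. -/
theorem zeroLocus_vanishingIdeal_closedPoints (R : Type u) [CommRing R]
    (hR : ProEtW.IsWLocal (PrimeSpectrum R)) :
    PrimeSpectrum.zeroLocus (R := R)
      (PrimeSpectrum.vanishingIdeal (ProEtW.closedPoints (PrimeSpectrum R))) =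
      ProEtW.closedPoints (PrimeSpectrum R) := by
  rw [PrimeSpectrum.zeroLocus_vanishingIdeal_eq_closure]
  exact (hR.2.1 : IsClosed (ProEtW.closedPoints (PrimeSpectrum R))).closure_eq

/-- Points of a tensor product over a pair of compatible points. -/
theorem exists_prime_tensor {R R' B : Type u} [CommRing R] [CommRing R'] [CommRing B]
    [Algebra R R'] [Algebra R B] (x' : PrimeSpectrum R') (q : PrimeSpectrum B)
    (hx : PrimeSpectrum.comap (algebraMap R R') x' = PrimeSpectrum.comap (algebraMap R B) q) :
    ∃ p : PrimeSpectrum (R' ⊗[R] B),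
      PrimeSpectrum.comap (algebraMap R' (R' ⊗[R] B)) p = x' ∧
      PrimeSpectrum.comap
        ((Algebra.TensorProduct.includeRight : B →ₐ[R] R' ⊗[R] B) : B →+* R' ⊗[R] B) p = q := by
  have h1 := CommRingCat.isPushout_tensorProduct R R' B
  have h2 := isPullback_SpecMap_of_isPushout _ _ _ _ h1
  obtain ⟨p, hp1, hp2⟩ := Scheme.exists_preimage_of_isPullback h2 x' q hx
  exact ⟨p, hp1, hp2⟩

/-- One step of the construction: w-localization along algebraic residue extensions, with
the consequences for closed points. -/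
theorem step (R S : Type u) [CommRing R] [CommRing S] [Algebra R S]
    (hR : ProEtW.IsWLocal (PrimeSpectrum R)) (I : Ideal R)
    (hI0 : PrimeSpectrum.zeroLocus (R := R) I = ProEtW.closedPoints (PrimeSpectrum R))
    (h : ProEtW.AlgebraicResidueExtensions R S) :
    ∃ (T : Type u) (_ : CommRing T) (_ : Algebra S T) (_ : Algebra R T)
      (_ : IsScalarTower R S T),
      EtPBC.IsIndZariski S T ∧ ProEtW.IsWLocal (PrimeSpectrum T) ∧
      ProEtW.IsWLocalMap (PrimeSpectrum.comap (algebraMap R T)) ∧
      ProEtW.closedPoints (PrimeSpectrum T) =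
        PrimeSpectrum.comap (algebraMap R T) ⁻¹' ProEtW.closedPoints (PrimeSpectrum R) ∧
      (∀ y ∈ ProEtW.closedPoints (PrimeSpectrum T),
        PrimeSpectrum.comap (algebraMap S T) y ∈ ProEtW.closedPoints (PrimeSpectrum S)) ∧
      (∀ x : PrimeSpectrum S,
        PrimeSpectrum.comap (algebraMap R S) x ∈ ProEtW.closedPoints (PrimeSpectrum R) →
        ∃ y ∈ ProEtW.closedPoints (PrimeSpectrum T),
          PrimeSpectrum.comap (algebraMap S T) y = x) := by
  obtain ⟨hsub, T, _, _, _, _, hT1, hT2, hT3, hT4, hT5⟩ :=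
    Groth.Agent.Lib.T2H1.WLocAlg.main R S hR I hI0 h
  have hcomp : ∀ y : PrimeSpectrum T, PrimeSpectrum.comap (algebraMap R S)
      (PrimeSpectrum.comap (algebraMap S T) y) = PrimeSpectrum.comap (algebraMap R T) y := by
    intro y
    apply PrimeSpectrum.ext
    ext r
    show algebraMap S T (algebraMap R S r) ∈ y.asIdeal ↔ algebraMap R T r ∈ y.asIdeal
    rw [← IsScalarTower.algebraMap_apply]
  have hVS : ∀ x : PrimeSpectrum S,
      PrimeSpectrum.comap (algebraMap R S) x ∈ ProEtW.closedPoints (PrimeSpectrum R) →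
      x ∈ PrimeSpectrum.zeroLocus (R := S) (I.map (algebraMap R S)) := by
    intro x hx
    rw [← hI0, PrimeSpectrum.mem_zeroLocus, SetLike.coe_subset_coe] at hx
    rw [PrimeSpectrum.mem_zeroLocus, SetLike.coe_subset_coe, Ideal.map_le_iff_le_comap]
    exact hx
  refine ⟨T, inferInstance, inferInstance, inferInstance, inferInstance, hT1, hT3, hT4, hT5,
    ?_, ?_⟩
  · intro y hy
    apply hsub
    apply hVS
    rw [hcomp]
    rw [hT5] at hy
    exact hy
  · intro x hx
    have hxV := hVS x hx
    rw [PrimeSpectrum.mem_zeroLocus, SetLike.coe_subset_coe] at hxV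
    -- `x` comes from the quotient
    have hrange : x ∈ Set.range (PrimeSpectrum.comap (Ideal.Quotient.mk (I.map (algebraMap R S)))) := by
      rw [_root_.range_comap_of_surjective _ _ Ideal.Quotient.mk_surjective, Ideal.mk_ker,
        PrimeSpectrum.mem_zeroLocus, SetLike.coe_subset_coe]
      exact hxV
    obtain ⟨xb, rfl⟩ := hrange
    let e := RingEquiv.ofBijective _ hT2
    let yb : PrimeSpectrum (T ⧸ (I.map (algebraMap R S)).map (algebraMap S T)) :=
      PrimeSpectrum.comap (e.symm : _ →+* _) xb
    let y : PrimeSpectrum T := PrimeSpectrum.comap (Ideal.Quotient.mk _) yb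
    have hy : PrimeSpectrum.comap (algebraMap S T) y =
        PrimeSpectrum.comap (Ideal.Quotient.mk (I.map (algebraMap R S))) xb := by
      apply PrimeSpectrum.ext
      ext s
      show e.symm (Ideal.Quotient.mk _ (algebraMap S T s)) ∈ xb.asIdeal ↔
        Ideal.Quotient.mk _ s ∈ xb.asIdeal
      have : Ideal.Quotient.mk ((I.map (algebraMap R S)).map (algebraMap S T))
          (algebraMap S T s) = e (Ideal.Quotient.mk _ s) := rfl
      rw [this, e.symm_apply_apply]
    refine ⟨y, ?_, hy⟩
    rw [hT5, Set.mem_preimage, ← hcomp, hy]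
    exact hx

end Groth.Agent.Lib.T2H1.WLocStep
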