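import Mathlib
import Groth.Prelude.Def_PBC
import Groth.Prelude.Def_ProEtW
import Groth.Prelude.Def_EtBase
import Groth.Agent.Lib.T2H1WLocStep
import Groth.Agent.Lib.T2H1ResAlg
import Groth.Agent.Lib.T2H1SHTransfer
import Groth.Agent.Lib.T2H1WLocMain
import Groth.Agent.Lib.T2H1IndZarIdent
import Groth.Agent.Lib.Helper3IndEtComp
import Groth.Agent.S0693
import Groth.Agent.S0675
import Groth.Agent.S0733

set_option autoImplicit false
universe u

open TensorProduct

namespace Groth.Agent.Lib.T2H1.WLocDiag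

open Groth.Agent.Lib.T2H1.WLoc Groth.Agent.Lib.T2H1.WLocMain Groth.Agent.Lib.T2H1.WLocStep
  Groth.Agent.Lib.T2H1.ResAlg Groth.Agent.Lib.T2H1.SHTransfer
  Groth.Agent.Lib.T2H1.IndZarCrit Groth.Agent.Lib.T2H1.IndZarIdent
  Groth.Agent.Lib.Helper3.IndEt

theorem comap_comap_tower {R S T : Type u} [CommRing R] [CommRing S] [CommRing T]
    [Algebra R S] [Algebra S T] [Algebra R T] [IsScalarTower R S T] (y : PrimeSpectrum T) :
    PrimeSpectrum.comap (algebraMap R S) (PrimeSpectrum.comap (algebraMap S T) y) =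
      PrimeSpectrum.comap (algebraMap R T) y := by
  apply PrimeSpectrum.ext
  ext r
  show algebraMap S T (algebraMap R S r) ∈ y.asIdeal ↔ algebraMap R T r ∈ y.asIdeal
  rw [← IsScalarTower.algebraMap_apply]

/-- First half: the w-local, strictly henselian cover `C` of `A`. -/
theorem exists_C (A : Type u) [CommRing A] :
    ∃ (C : Type u) (_ : CommRing C) (_ : Algebra A C),
      Module.FaithfullyFlat A C ∧ EtPBC.IsIndEtale A C ∧ ProEtW.IsWLocal (PrimeSpectrum C) ∧
      (∀ z : PrimeSpectrum A, ∃ y ∈ ProEtW.closedPoints (PrimeSpectrum C),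
        PrimeSpectrum.comap (algebraMap A C) y = z) ∧
      ∀ (m : Ideal C) [m.IsMaximal],
        EtCoh.IsStrictlyHenselianLocalRing (Localization.AtPrime m) := by
  have hA'w := WLoc.isWLocal (A := A)
  have hA'ff := faithfullyFlat_Aw A
  have hA'iz := isIndZariski_Aw A
  have hI0 := zeroLocus_vanishingIdeal_closedPoints (Aw A) hA'w
  obtain ⟨C', _, _, hC'ff, hC'ie, hC'ret⟩ := Groth.Agent.S0693.result (Aw A)
  have hres1 := algebraicResidueExtensions_of_isIndEtale hC'ie
  obtain ⟨C, _, _, _, _, hC1, hC3, hC4, hC5, hC6, hC7⟩ := step (Aw A) C' hA'w _ hI0 hres1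
  letI : Algebra A C' := ((algebraMap (Aw A) C').comp (algebraMap A (Aw A))).toAlgebra
  haveI : IsScalarTower A (Aw A) C' := IsScalarTower.of_algebraMap_eq (fun _ => rfl)
  letI : Algebra A C := ((algebraMap (Aw A) C).comp (algebraMap A (Aw A))).toAlgebra
  haveI : IsScalarTower A (Aw A) C := IsScalarTower.of_algebraMap_eq (fun _ => rfl)
  haveI : IsScalarTower A C' C := IsScalarTower.of_algebraMap_eq (fun a => by
    show algebraMap (Aw A) C (algebraMap A (Aw A) a) =
      algebraMap C' C (algebraMap (Aw A) C' (algebraMap A (Aw A) a))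
    rw [← IsScalarTower.algebraMap_apply (Aw A) C' C])
  have hAC'ie : EtPBC.IsIndEtale A C' :=
    isIndEtale_comp A (Aw A) C' (isIndEtale_of_isIndZariski hA'iz) hC'ie
  have hACie : EtPBC.IsIndEtale A C :=
    isIndEtale_comp A C' C hAC'ie (isIndEtale_of_isIndZariski hC1)
  haveI : Module.Flat A (Aw A) := inferInstance
  haveI : Module.Flat (Aw A) C' := inferInstance
  haveI : Module.Flat C' C := flat_of_isIndZariski hC1
  haveI : Module.Flat A C' := Module.Flat.trans A (Aw A) C'
  haveI : Module.Flat A C := Module.Flat.trans A C' C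
  have h7 : ∀ z : PrimeSpectrum A, ∃ y ∈ ProEtW.closedPoints (PrimeSpectrum C),
      PrimeSpectrum.comap (algebraMap A C) y = z := by
    intro z
    obtain ⟨x, hx⟩ := PrimeSpectrum.comap_surjective_of_faithfullyFlat (B := C') (mPt z)
    obtain ⟨y, hy, hyx⟩ := hC7 x (by rw [hx]; exact isClosed_mPt z)
    refine ⟨y, hy, ?_⟩
    rw [← comap_comap_tower (R := A) (S := C') (T := C), hyx,
      ← comap_comap_tower (R := A) (S := Aw A) (T := C'), hx, comap_mPt]
  haveI : Module.FaithfullyFlat A C := Module.FaithfullyFlat.of_comap_surjective (fun z => by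
    obtain ⟨y, -, hy⟩ := h7 z
    exact ⟨y, hy⟩)
  refine ⟨C, inferInstance, inferInstance, inferInstance, hACie, hC3, h7, ?_⟩
  intro m hm
  let y : PrimeSpectrum C := ⟨m, hm.isPrime⟩
  have hy : y ∈ ProEtW.closedPoints (PrimeSpectrum C) :=
    (PrimeSpectrum.isClosed_singleton_iff_isMaximal y).mpr hm
  have hx := hC6 y hy
  haveI hmax : (m.comap (algebraMap C' C)).IsMaximal :=
    (PrimeSpectrum.isClosed_singleton_iff_isMaximal (PrimeSpectrum.comap (algebraMap C' C) y)).mp hx
  have hsh := Groth.Agent.S0675.result C' hC'ret (m.comap (algebraMap C' C))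
  have hbij := identifies_of_isIndZariski hC1 y
  exact isStrictlyHenselianLocalRing_of_ringEquiv hsh (RingEquiv.ofBijective _ hbij)

set_option maxHeartbeats 1000000 in
/-- The full diagram. -/
theorem main (A B : Type u) [CommRing A] [CommRing B] [Algebra A B]
    (h : ProEtW.AlgebraicResidueExtensions A B) :
    ∃ (C D : Type u) (_ : CommRing C) (_ : CommRing D) (_ : Algebra A C) (_ : Algebra B D)
      (_ : Algebra C D) (_ : Algebra A D) (_ : IsScalarTower A C D) (_ : IsScalarTower A B D),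
      Module.FaithfullyFlat A C ∧ EtPBC.IsIndEtale A C ∧ Module.FaithfullyFlat B D ∧
      EtPBC.IsIndEtale B D ∧ ProEtW.IsWLocal (PrimeSpectrum C) ∧
      ProEtW.IsWLocal (PrimeSpectrum D) ∧
      ProEtW.IsWLocalMap (PrimeSpectrum.comap (algebraMap C D)) ∧
      ProEtW.closedPoints (PrimeSpectrum D) =
        PrimeSpectrum.comap (algebraMap C D) ⁻¹' ProEtW.closedPoints (PrimeSpectrum C) ∧
      PrimeSpectrum.comap (algebraMap A C) '' ProEtW.closedPoints (PrimeSpectrum C) = Set.univ ∧
      PrimeSpectrum.comap (algebraMap B D) '' ProEtW.closedPoints (PrimeSpectrum D) = Set.univ ∧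
      ∀ (m : Ideal C) [m.IsMaximal],
        EtCoh.IsStrictlyHenselianLocalRing (Localization.AtPrime m) := by
  obtain ⟨C, _, _, hACff, hACie, hCw, h7, h9⟩ := exists_C A
  have hJ0 := zeroLocus_vanishingIdeal_closedPoints C hCw
  have hres2 := algebraicResidueExtensions_baseChange A B C h
  obtain ⟨D, _, _, _, _, hD1, hD3, hD4, hD5, hD6, hD7⟩ := step C (C ⊗[A] B) hCw _ hJ0 hres2
  letI algBD' : Algebra B (C ⊗[A] B) :=
    ((Algebra.TensorProduct.includeRight : B →ₐ[A] C ⊗[A] B) : B →+* C ⊗[A] B).toAlgebra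
  letI : Algebra B D := ((algebraMap (C ⊗[A] B) D).comp (algebraMap B (C ⊗[A] B))).toAlgebra
  haveI : IsScalarTower B (C ⊗[A] B) D := IsScalarTower.of_algebraMap_eq (fun _ => rfl)
  letI : Algebra A D := ((algebraMap C D).comp (algebraMap A C)).toAlgebra
  haveI : IsScalarTower A C D := IsScalarTower.of_algebraMap_eq (fun _ => rfl)
  haveI : IsScalarTower A B D := IsScalarTower.of_algebraMap_eq (fun a => by
    show algebraMap C D (algebraMap A C a) =
      algebraMap (C ⊗[A] B) D ((1 : C) ⊗ₜ[A] (algebraMap A B a))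
    rw [IsScalarTower.algebraMap_apply C (C ⊗[A] B) D,
      ← Algebra.TensorProduct.tmul_one_eq_one_tmul]
    rfl)
  -- ind-étale
  let e : B ⊗[A] C ≃ₐ[B] C ⊗[A] B :=
    AlgEquiv.ofRingEquiv (f := (Algebra.TensorProduct.comm A B C).toRingEquiv) (fun b => by
      show (Algebra.TensorProduct.comm A B C) (b ⊗ₜ[A] (1 : C)) = (1 : C) ⊗ₜ[A] b
      rw [Algebra.TensorProduct.comm_tmul])
  have hBD'ie : EtPBC.IsIndEtale B (C ⊗[A] B) :=
    isIndEtale_of_algEquiv (Groth.Agent.S0733.result A C B hACie) e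
  have hBDie : EtPBC.IsIndEtale B D :=
    isIndEtale_comp B (C ⊗[A] B) D hBD'ie (isIndEtale_of_isIndZariski hD1)
  -- flat
  haveI : Module.Flat A C := inferInstance
  haveI : Module.Flat B (B ⊗[A] C) := inferInstance
  haveI : Module.Flat B (C ⊗[A] B) := Module.Flat.of_linearEquiv e.symm.toLinearEquiv
  haveI : Module.Flat (C ⊗[A] B) D := flat_of_isIndZariski hD1
  haveI : Module.Flat B D := Module.Flat.trans B (C ⊗[A] B) D
  have h8 : ∀ w : PrimeSpectrum B, ∃ y ∈ ProEtW.closedPoints (PrimeSpectrum D),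
      PrimeSpectrum.comap (algebraMap B D) y = w := by
    intro w
    obtain ⟨c, hc, hcz⟩ := h7 (PrimeSpectrum.comap (algebraMap A B) w)
    obtain ⟨x, hx1, hx2⟩ := exists_prime_tensor c w hcz
    obtain ⟨y, hy, hyx⟩ := hD7 x (by rw [hx1]; exact hc)
    refine ⟨y, hy, ?_⟩
    rw [← comap_comap_tower (R := B) (S := C ⊗[A] B) (T := D), hyx]
    exact hx2
  haveI : Module.FaithfullyFlat B D := Module.FaithfullyFlat.of_comap_surjective (fun w => by
    obtain ⟨y, -, hy⟩ := h8 w
    exact ⟨y, hy⟩)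
  refine ⟨C, D, inferInstance, inferInstance, inferInstance, inferInstance, inferInstance,
    inferInstance, inferInstance, inferInstance, hACff, hACie, inferInstance, hBDie, hCw, hD3,
    hD4, hD5, ?_, ?_, h9⟩
  · exact Set.eq_univ_of_forall (fun z => by
      obtain ⟨y, hy, hyz⟩ := h7 z
      exact ⟨y, hy, hyz⟩)
  · exact Set.eq_univ_of_forall (fun w => by
      obtain ⟨y, hy, hyw⟩ := h8 w
      exact ⟨y, hy, hyw⟩)

end Groth.Agent.Lib.T2H1.WLocDiag
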