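import Mathlib
import Groth.Prelude.Def_PBC
import Groth.Prelude.Def_ProEtW
import Groth.Prelude.Def_EtBase
import Groth.Agent.Lib.T2H1WLocDiag
import Groth.Agent.Lib.T2H1ResAlgWE
import Groth.Agent.Lib.T2H1LocHomSpec
import Groth.Agent.S0736
import Groth.Agent.S7127
import Groth.Agent.S0700
import Groth.Agent.S0427

set_option autoImplicit false
universe u

open TensorProduct

namespace Groth.Agent.Lib.T2H1.WEtIndEt

open Groth.Agent.Lib.T2H1.ResAlgWE Groth.Agent.Lib.T2H1.LocHomSpec
  Groth.Agent.Lib.T2H1.IndZarCrit Groth.Agent.Lib.Helper3.IndEt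
  Groth.Agent.Lib.Helper14.WEField

/-- A weakly étale map is an isomorphism on local rings at primes over which the source local
ring is strictly henselian (Olivier). -/
theorem bijective_localRingHom_of_strictlyHenselian (C D : Type u) [CommRing C] [CommRing D]
    [Algebra C D] [Algebra.WeaklyEtale C D] (m : Ideal D) [hm : m.IsPrime]
    (hsh : EtCoh.IsStrictlyHenselianLocalRing
      (Localization.AtPrime (m.comap (algebraMap C D)))) :
    Function.Bijective
      (Localization.localRingHom (m.comap (algebraMap C D)) m (algebraMap C D) rfl) := by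
  set P := m.comap (algebraMap C D) with hP
  letI : Algebra (Localization.AtPrime P) (Localization.AtPrime m) :=
    (Localization.localRingHom P m (algebraMap C D) rfl).toAlgebra
  haveI : IsScalarTower C (Localization.AtPrime P) (Localization.AtPrime m) :=
    IsScalarTower.of_algebraMap_eq (fun c => by
      rw [IsScalarTower.algebraMap_apply C D (Localization.AtPrime m)]
      exact (Localization.localRingHom_to_map P m (algebraMap C D) rfl c).symm)
  haveI : Algebra.WeaklyEtale C (Localization.AtPrime P) :=
    weaklyEtale_of_isLocalization P.primeCompl _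
  haveI : Algebra.WeaklyEtale D (Localization.AtPrime m) :=
    weaklyEtale_of_isLocalization m.primeCompl _
  haveI : Algebra.WeaklyEtale C (Localization.AtPrime m) := Algebra.WeaklyEtale.trans C D _
  haveI : Algebra.WeaklyEtale (Localization.AtPrime P) (Localization.AtPrime m) :=
    Groth.Agent.S7127.result C _ _
  haveI : IsLocalHom (algebraMap (Localization.AtPrime P) (Localization.AtPrime m)) :=
    Localization.isLocalHom_localRingHom P m (algebraMap C D) rfl
  obtain ⟨hH, hS⟩ := hsh
  exact Groth.Agent.S0427.result (A := Localization.AtPrime P) (B := Localization.AtPrime m)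

/-- Weakly étale maps become ind-étale after a faithfully flat ind-étale extension. -/
theorem main (A B : Type u) [CommRing A] [CommRing B] [Algebra A B]
    [Algebra.WeaklyEtale A B] :
    ∃ (B' : Type u) (_ : CommRing B') (_ : Algebra B B') (_ : Algebra A B')
      (_ : IsScalarTower A B B'),
      Module.FaithfullyFlat B B' ∧ EtPBC.IsIndEtale B B' ∧ EtPBC.IsIndEtale A B' := by
  obtain ⟨C, D, _, _, _, _, _, _, _, _, hACff, hACie, hBDff, hBDie, hCw, hDw, hmap, hcl, -, -,
    hsh⟩ := Groth.Agent.Lib.T2H1.WLocDiag.main A B (algebraicResidueExtensions_of_weaklyEtale A B)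
  haveI : Algebra.WeaklyEtale A C := Groth.Agent.S0736.result A C hACie
  haveI : Algebra.WeaklyEtale B D := Groth.Agent.S0736.result B D hBDie
  haveI : Algebra.WeaklyEtale A D := Algebra.WeaklyEtale.trans A B D
  haveI : Algebra.WeaklyEtale C D := Groth.Agent.S7127.result A C D
  have hid : EtPBC.IdentifiesLocalRings C D := by
    intro Q
    obtain ⟨m, hm, hQm⟩ := Ideal.exists_le_maximal Q.asIdeal Q.isPrime.ne_top
    haveI := hm.isPrime
    apply bijective_localRingHom_of_le (algebraMap C D) Q.asIdeal m hQm
    have hclosed : IsClosed ({(⟨m, hm.isPrime⟩ : PrimeSpectrum D)} : Set (PrimeSpectrum D)) :=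
      (PrimeSpectrum.isClosed_singleton_iff_isMaximal _).mpr hm
    have h2 := hmap.2 _ hclosed
    haveI hmax : (m.comap (algebraMap C D)).IsMaximal :=
      (PrimeSpectrum.isClosed_singleton_iff_isMaximal
        (PrimeSpectrum.comap (algebraMap C D) ⟨m, hm.isPrime⟩)).mp h2
    exact bijective_localRingHom_of_strictlyHenselian C D m (hsh (m.comap (algebraMap C D)))
  have hiz := Groth.Agent.S0700.result C D hid hCw hDw hmap
  exact ⟨D, inferInstance, inferInstance, inferInstance, inferInstance, hBDff, hBDie,
    isIndEtale_comp A C D hACie (isIndEtale_of_isIndZariski hiz)⟩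

end Groth.Agent.Lib.T2H1.WEtIndEt
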