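import Mathlib
import Groth.Prelude.Def_PBC
import Groth.Prelude.Def_ProEtW
import Groth.Prelude.Def_EtBase
import Groth.Agent.Lib.T2H1WEtIndEt
import Groth.Agent.Lib.T2H1IndZarRetr
import Groth.Agent.S0678
import Groth.Agent.S0675
import Groth.Agent.S0778

set_option autoImplicit false
universe u

open TensorProduct

namespace Groth.Agent.Lib.T2H1.WContrChar

open Groth.Agent.Lib.T2H1.ResAlg Groth.Agent.Lib.T2H1.LocHomSpec
  Groth.Agent.Lib.T2H1.IndZarCrit Groth.Agent.Lib.Helper3.IndEt
  Groth.Agent.Lib.T2H1.WLocStep Groth.Agent.Lib.T2H1.WEtIndEt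
  Groth.Agent.Lib.T2H1.WLocMain Groth.Agent.Lib.T2H1.IndZarRetr

/-- A flat algebra whose spectrum hits every maximal ideal is faithfully flat. -/
theorem faithfullyFlat_of_maximal_mem_range {A B : Type*} [CommRing A] [CommRing B]
    [Algebra A B] [Module.Flat A B]
    (h : ∀ m : Ideal A, m.IsMaximal →
      ∃ y : PrimeSpectrum B, y.asIdeal.comap (algebraMap A B) = m) :
    Module.FaithfullyFlat A B := by
  refine ⟨fun m hm ↦ ?_⟩
  obtain ⟨m', hm'⟩ := h m hm
  rw [Ideal.smul_top_eq_map, ← hm']
  exact (Submodule.restrictScalars_eq_top_iff _ _ _).ne.mpr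
    fun top ↦ m'.isPrime.ne_top <| top_le_iff.mp <| top ▸ Ideal.map_comap_le

variable (A : Type u) [CommRing A]

theorem forward (h : EtPBC.IsWContractible A) :
    ProEtW.IsWLocal (PrimeSpectrum A) ∧
      ExtremallyDisconnected (_root_.ConnectedComponents (PrimeSpectrum A)) ∧
      ∀ (m : Ideal A) [m.IsMaximal],
        EtCoh.IsStrictlyHenselianLocalRing (Localization.AtPrime m) := by
  have hZ : ProEtW.HasIndZariskiRetractions A := by
    intro B _ _ hff hiz
    exact h B hff (Groth.Agent.S0736.result A B (isIndEtale_of_isIndZariski hiz))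
  have hE : ProEtW.HasEtaleRetractions A := by
    intro B _ _ hff het
    exact h B hff inferInstance
  obtain ⟨h1, h2⟩ := (Groth.Agent.S0678.result A).mp hZ
  exact ⟨h1, h2, fun m _ => Groth.Agent.S0675.result A hE m⟩

set_option maxHeartbeats 1000000 in
theorem backward (hA : ProEtW.IsWLocal (PrimeSpectrum A))
    (hED : ExtremallyDisconnected (_root_.ConnectedComponents (PrimeSpectrum A)))
    (hsh : ∀ (m : Ideal A) [m.IsMaximal],
        EtCoh.IsStrictlyHenselianLocalRing (Localization.AtPrime m)) :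
    EtPBC.IsWContractible A := by
  rw [Groth.Agent.S0778.result A]
  intro B _ _ hff hie
  have hres := algebraicResidueExtensions_of_isIndEtale hie
  have hI0 := zeroLocus_vanishingIdeal_closedPoints A hA
  obtain ⟨T, _, _, _, _, hT1, hT3, hT4, hT5, hT6, hT7⟩ := step A B hA _ hI0 hres
  have hATie : EtPBC.IsIndEtale A T := isIndEtale_comp A B T hie (isIndEtale_of_isIndZariski hT1)
  haveI : Algebra.WeaklyEtale A T := Groth.Agent.S0736.result A T hATie
  haveI : Module.Flat A T := inferInstance
  haveI : Module.FaithfullyFlat A T := by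
    apply faithfullyFlat_of_maximal_mem_range
    intro m hm
    have hz : (⟨m, hm.isPrime⟩ : PrimeSpectrum A) ∈ ProEtW.closedPoints (PrimeSpectrum A) :=
      (PrimeSpectrum.isClosed_singleton_iff_isMaximal _).mpr hm
    obtain ⟨x, hx⟩ := PrimeSpectrum.comap_surjective_of_faithfullyFlat (B := B)
      (⟨m, hm.isPrime⟩ : PrimeSpectrum A)
    obtain ⟨y, -, hyx⟩ := hT7 x (by rw [hx]; exact hz)
    refine ⟨y, ?_⟩
    have h1 : PrimeSpectrum.comap (algebraMap A T) y = ⟨m, hm.isPrime⟩ := by
      rw [← Groth.Agent.Lib.T2H1.WLocDiag.comap_comap_tower (R := A) (S := B) (T := T), hyx, hx]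
    exact congrArg PrimeSpectrum.asIdeal h1
  have hid : EtPBC.IdentifiesLocalRings A T := by
    intro Q
    obtain ⟨m, hm, hQm⟩ := Ideal.exists_le_maximal Q.asIdeal Q.isPrime.ne_top
    haveI := hm.isPrime
    apply bijective_localRingHom_of_le (algebraMap A T) Q.asIdeal m hQm
    have hclosed : IsClosed ({(⟨m, hm.isPrime⟩ : PrimeSpectrum T)} : Set (PrimeSpectrum T)) :=
      (PrimeSpectrum.isClosed_singleton_iff_isMaximal _).mpr hm
    have h2 := hT4.2 _ hclosed
    haveI hmax : (m.comap (algebraMap A T)).IsMaximal :=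
      (PrimeSpectrum.isClosed_singleton_iff_isMaximal
        (PrimeSpectrum.comap (algebraMap A T) ⟨m, hm.isPrime⟩)).mp h2
    exact bijective_localRingHom_of_strictlyHenselian A T m (hsh (m.comap (algebraMap A T)))
  obtain ⟨r⟩ := exists_retraction_of_identifies hid hA hED hT3
    PrimeSpectrum.comap_surjective_of_faithfullyFlat
  exact ⟨r.comp (IsScalarTower.toAlgHom A B T)⟩

theorem main : EtPBC.IsWContractible A ↔
      (ProEtW.IsWLocal (PrimeSpectrum A) ∧
        ExtremallyDisconnected (_root_.ConnectedComponents (PrimeSpectrum A)) ∧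
        ∀ (m : Ideal A) [m.IsMaximal],
          EtCoh.IsStrictlyHenselianLocalRing (Localization.AtPrime m)) :=
  ⟨forward A, fun h => backward A h.1 h.2.1 h.2.2⟩

end Groth.Agent.Lib.T2H1.WContrChar
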