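import Mathlib
import Groth.Prelude.Def_PBC
import Groth.Prelude.Def_ProEtW
import Groth.Prelude.Def_EtBase
import Groth.Agent.Lib.T2H1WContrChar
import Groth.Agent.Lib.T2H1WLocED

set_option autoImplicit false
universe u

open TensorProduct

namespace Groth.Agent.Lib.T2H1.WContrCover

open Groth.Agent.Lib.T2H1.ProfReal Groth.Agent.Lib.T2H1.IndZarIdent
  Groth.Agent.Lib.T2H1.WLocMain Groth.Agent.Lib.T2H1.WLoc Groth.Agent.Lib.T2H1.WLocED
  Groth.Agent.Lib.T2H1.SHTransfer Groth.Agent.Lib.T2H1.IndZarCrit
  Groth.Agent.Lib.Helper3.IndEt Topology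

/-- A w-local ring with strictly henselian local rings at maximal ideals has a faithfully flat
ind-Zariski w-contractible extension. -/
theorem exists_cover_of_isWLocal (C : Type u) [CommRing C]
    (hC : ProEtW.IsWLocal (PrimeSpectrum C))
    (hsh : ∀ (m : Ideal C) [m.IsMaximal],
      EtCoh.IsStrictlyHenselianLocalRing (Localization.AtPrime m)) :
    ∃ (D : Type u) (_ : CommRing D) (_ : Algebra C D),
      Module.FaithfullyFlat C D ∧ EtPBC.IsIndZariski C D ∧ EtPBC.IsWContractible D := by
  haveI : T2Space (ConnectedComponents (PrimeSpectrum C)) :=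
    Groth.Agent.Lib.Helper10.Pi0.t2Space_connectedComponents
  obtain ⟨T, _, _, _, _, _, g, hg⟩ :=
    exists_extrDisc_cover (ConnectedComponents (PrimeSpectrum C))
  obtain ⟨e, -, -, -, -⟩ := main C T g
  have hiz := isIndZariski_BB C T g
  refine ⟨BB C T g, inferInstance, inferInstance, faithfullyFlat_BB C T g hg, hiz, ?_⟩
  apply Groth.Agent.Lib.T2H1.WContrChar.backward _ (isWLocal_BB C T g hC)
    (extremallyDisconnected_of_homeo e.symm)
  intro m hm
  let y : PrimeSpectrum (BB C T g) := ⟨m, hm.isPrime⟩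
  have hy : IsClosed ({y} : Set (PrimeSpectrum (BB C T g))) :=
    (PrimeSpectrum.isClosed_singleton_iff_isMaximal y).mpr hm
  have hy' : IsClosed ({hB C T g y} : Set _) := by
    rw [← Set.image_singleton, (hB C T g).isClosed_image]
    exact hy
  have h2 := (Groth.Agent.S0704.result (PrimeSpectrum C) T hC g).2.1.2 _ hy'
  have h3 : (hB C T g y).1.1 = PrimeSpectrum.comap (algebraMap C (BB C T g)) y := by
    rw [hB_apply, rho_fst]
  have h4 : IsClosed ({PrimeSpectrum.comap (algebraMap C (BB C T g)) y} :
      Set (PrimeSpectrum C)) := by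
    rw [← h3]
    exact h2
  haveI hmax : (m.comap (algebraMap C (BB C T g))).IsMaximal :=
    (PrimeSpectrum.isClosed_singleton_iff_isMaximal _).mp h4
  have hbij := identifies_of_isIndZariski hiz y
  exact isStrictlyHenselianLocalRing_of_ringEquiv (hsh (m.comap (algebraMap C (BB C T g))))
    (RingEquiv.ofBijective _ hbij)

/-- Every ring has a faithfully flat ind-étale w-contractible extension. -/
theorem main (A : Type u) [CommRing A] :
    ∃ (D : Type u) (_ : CommRing D) (_ : Algebra A D),
      Module.FaithfullyFlat A D ∧ EtPBC.IsIndEtale A D ∧ EtPBC.IsWContractible D := by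
  obtain ⟨C, _, _, hACff, hACie, hCw, -, hsh⟩ := Groth.Agent.Lib.T2H1.WLocDiag.exists_C A
  obtain ⟨D, _, _, hCDff, hCDiz, hD⟩ := exists_cover_of_isWLocal C hCw hsh
  letI : Algebra A D := ((algebraMap C D).comp (algebraMap A C)).toAlgebra
  haveI : IsScalarTower A C D := IsScalarTower.of_algebraMap_eq (fun _ => rfl)
  exact ⟨D, inferInstance, inferInstance, Module.FaithfullyFlat.trans A C D,
    isIndEtale_comp A C D hACie (isIndEtale_of_isIndZariski hCDiz), hD⟩

end Groth.Agent.Lib.T2H1.WContrCover
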