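import Mathlib
import Groth.Prelude.Def_ProEtS
import Groth.Prelude.Def_PBC
import Groth.Agent.Lib.Helper9WC2
import Groth.Agent.Lib.T2H1WContrIso
import Groth.Agent.S0177
import Groth.Agent.S0736

set_option autoImplicit false
set_option backward.isDefEq.respectTransparency false
open CategoryTheory CategoryTheory.Limits AlgebraicGeometry Opposite
open Groth.Agent.Lib.Helper9.ProEt Groth.Agent.Lib.Helper9.WC
universe u

namespace Groth.Agent.Lib.T2H1.ProEtWCCover

variable {X : Scheme.{u}}

/-- Over every affine open of an object of the pro-étale site there is an affine w-contractible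
object surjecting onto it. -/
theorem exists_affine_wContractible_over (U : X.ProEt) (W : U.left.Opens)
    (hW : IsAffineOpen W) :
    ∃ (V : X.ProEt) (g : V ⟶ U), IsAffine V.left ∧
      EtPBC.IsWContractible ↥(Γ(V.left, ⊤)) ∧
      Set.range g.left = (W : Set U.left) := by
  let A : CommRingCat.{u} := Γ(U.left, W)
  obtain ⟨D, _, _, hff, hie, hwc⟩ := Groth.Agent.S0177.result A
  haveI hwe : Algebra.WeaklyEtale A D := Groth.Agent.S0736.result A D hie
  let φ : A ⟶ CommRingCat.of D := CommRingCat.ofHom (algebraMap A D)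
  haveI : WeaklyEtale (Spec.map φ) := (weaklyEtale_SpecMap_iff A D).2 hwe
  let q : Spec (CommRingCat.of D) ⟶ U.left := Spec.map φ ≫ hW.fromSpec
  haveI : WeaklyEtale q := inferInstance
  let V : X.ProEt := Scheme.ProEt.mk (q ≫ U.hom)
  let p : V ⟶ U := MorphismProperty.Over.homMk q rfl trivial
  refine ⟨V, p, ?_, ?_, ?_⟩
  · change IsAffine (Spec (CommRingCat.of D))
    infer_instance
  · change EtPBC.IsWContractible ↥(Γ(Spec (CommRingCat.of D), ⊤))
    exact Groth.Agent.Lib.T2H1.WContrIso.isWContractible_of_ringEquiv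
      (Scheme.ΓSpecIso (CommRingCat.of D)).commRingCatIsoToRingEquiv.symm hwc
  · change Set.range (Spec.map φ ≫ hW.fromSpec) = (W : Set U.left)
    have hs : Surjective (Spec.map φ) :=
      ((flat_and_surjective_SpecMap_iff φ).2
        (RingHom.faithfullyFlat_algebraMap_iff.2 hff)).2
    rw [Scheme.Hom.comp_base, TopCat.coe_comp, Set.range_comp, Set.range_eq_univ.mpr hs.surj,
      Set.image_univ]
    exact hW.range_fromSpec

/-- A family of morphisms of the pro-étale site whose images realize every affine open of the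
target (each as the image of a quasi-compact source) is a covering. -/
theorem ofArrows_mem_topology_of_affineOpens {U : X.ProEt} {ι : Type u} (V : ι → X.ProEt)
    (g : ∀ i, V i ⟶ U) [∀ i, CompactSpace (V i).left]
    (h : ∀ (W : U.left.Opens), IsAffineOpen W → ∃ i, Set.range (g i).left = (W : Set U.left)) :
    Sieve.generate (Presieve.ofArrows V g) ∈ Scheme.ProEt.topology X U := by
  rw [mem_topology_iff]
  refine ⟨Presieve.ofArrows V g, ?_, Sieve.le_generate _⟩
  rw [mem_precoverage_iff, Presieve.map_ofArrows]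
  have h2 : Presieve.ofArrows (fun k => (V k).left) (fun k => (g k).left) ∈
      Scheme.precoverage @WeaklyEtale U.left := by
    rw [Scheme.ofArrows_mem_precoverage_iff]
    refine ⟨fun x => ?_, fun k => inferInstance⟩
    obtain ⟨W, hW, hxW⟩ : ∃ W : U.left.Opens, IsAffineOpen W ∧ x ∈ W := by
      obtain ⟨W, hW, hxW, -⟩ := U.left.isBasis_affineOpens.exists_subset_of_mem_open
        (Set.mem_univ x) isOpen_univ
      obtain ⟨W', hW', rfl⟩ := hW
      exact ⟨W', hW', hxW⟩
    obtain ⟨i, hi⟩ := h W hW
    have : x ∈ Set.range (g i).left := by rw [hi]; exact hxW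
    obtain ⟨z, hz⟩ := this
    exact ⟨i, z, hz⟩
  refine ⟨?_, h2⟩
  let 𝒰 : Scheme.Cover.{u} (Scheme.precoverage @WeaklyEtale) U.left :=
    { I₀ := ι
      X := fun k => (V k).left
      f := fun k => (g k).left
      mem₀ := h2 }
  have hq : QuasiCompactCover 𝒰.toPreZeroHypercover := by
    refine ⟨fun {W} hW => ?_⟩
    obtain ⟨i, hi⟩ := h W hW
    have h3 := IsCompactOpenCovered.image (f := fun k => ((g k).left : (V k).left → U.left))
      (i := i) (⊤ : TopologicalSpace.Opens (V i).left) isCompact_univ
    have h4 : ((g i).left : (V i).left → U.left) '' ((⊤ : TopologicalSpace.Opens (V i).left) :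
        Set (V i).left) = (W : Set U.left) := by
      rw [TopologicalSpace.Opens.coe_top, Set.image_univ]
      exact hi
    rw [h4] at h3
    exact h3
  exact Scheme.presieve₀_mem_qcPrecoverage_iff.2 hq

/-- Every object of the pro-étale site is covered by affine objects with w-contractible rings. -/
theorem main (U : X.ProEt) :
    ∃ (ι : Type u) (V : ι → X.ProEt) (g : ∀ i, V i ⟶ U),
      Sieve.generate (Presieve.ofArrows V g) ∈ Scheme.ProEt.topology X U ∧
        ∀ i, IsAffine (V i).left ∧ EtPBC.IsWContractible ↥(Γ((V i).left, ⊤)) := by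
  have key : ∀ i : U.left.affineOpens, ∃ (V : X.ProEt) (g : V ⟶ U), IsAffine V.left ∧
      EtPBC.IsWContractible ↥(Γ(V.left, ⊤)) ∧ Set.range g.left = (i.1 : Set U.left) :=
    fun i => exists_affine_wContractible_over U i.1 i.2
  choose V g h1 h2 h3 using key
  haveI : ∀ i, CompactSpace (V i).left := fun i => by
    haveI := h1 i
    infer_instance
  refine ⟨U.left.affineOpens, V, g, ?_, fun i => ⟨h1 i, h2 i⟩⟩
  exact ofArrows_mem_topology_of_affineOpens V g (fun W hW => ⟨⟨W, hW⟩, h3 ⟨W, hW⟩⟩)

end Groth.Agent.Lib.T2H1.ProEtWCCover
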