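import Mathlib
import Groth.Prelude.Def_ProEtW
import Groth.Prelude.Def_PBC
import Groth.Agent.Lib.T2H1WLocStep

set_option autoImplicit false
universe u

open TensorProduct

namespace Groth.Agent.Lib.T2H1.QFinED

section topology

/-- A space which is locally (on open pieces) openly embedded in extremally disconnected spaces
is extremally disconnected. -/
theorem extremallyDisconnected_of_local {Y : Type u} [TopologicalSpace Y]
    (h : ∀ y : Y, ∃ W : Set Y, IsOpen W ∧ y ∈ W ∧ ∃ (X : Type u) (_ : TopologicalSpace X)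
      (_ : ExtremallyDisconnected X) (g : W → X), Topology.IsOpenEmbedding g) :
    ExtremallyDisconnected Y := by
  refine ⟨fun U hU => ?_⟩
  rw [isOpen_iff_mem_nhds]
  intro y hy
  obtain ⟨W, hWo, hyW, X, _, _, g, hg⟩ := h y
  let U' : Set W := Subtype.val ⁻¹' U
  have hU' : IsOpen U' := hU.preimage continuous_subtype_val
  have hV : IsOpen (g '' U') := hg.isOpenMap _ hU'
  have hcV : IsOpen (closure (g '' U')) := ExtremallyDisconnected.open_closure _ hV
  have hcl : closure U' = g ⁻¹' closure (g '' U') :=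
    hg.isInducing.closure_eq_preimage_closure_image U'
  have hopen : IsOpen (closure U') := by rw [hcl]; exact hcV.preimage hg.continuous
  have hopen' : IsOpen (Subtype.val '' closure U') := hWo.isOpenMap_subtype_val _ hopen
  have hy' : y ∈ Subtype.val '' closure U' := by
    refine ⟨⟨y, hyW⟩, ?_, rfl⟩
    rw [Topology.IsInducing.subtypeVal.closure_eq_preimage_closure_image]
    show y ∈ closure (Subtype.val '' U')
    have : Subtype.val '' U' = W ∩ U := Subtype.image_preimage_coe W U
    rw [this]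
    exact hWo.inter_closure ⟨hyW, hy⟩
  refine Filter.mem_of_superset (hopen'.mem_nhds hy') ?_
  rintro _ ⟨z, hz, rfl⟩
  have h1 := image_closure_subset_closure_image (continuous_subtype_val (p := (· ∈ W)))
    (s := U') ⟨z, hz, rfl⟩
  refine closure_mono ?_ h1
  rintro _ ⟨w, hw, rfl⟩
  exact hw

end topology

section radicial

variable {A B L : Type u} [CommRing A] [CommRing B] [Algebra A B] [CommRing L] [IsDomain L]

/-- Two ring maps `B → L` to a domain with the same kernel `y`, agreeing on `A`, coincide,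
provided the residue field at `y ∩ A` is separably closed and `A → B` is quasi-finite. -/
theorem eq_of_ker_eq [Algebra.QuasiFinite A B] (y : Ideal B) [y.IsPrime]
    (hsep : IsSepClosed (y.comap (algebraMap A B)).ResidueField)
    (ι₁ ι₂ : B →+* L) (hA : ι₁.comp (algebraMap A B) = ι₂.comp (algebraMap A B))
    (h₁ : RingHom.ker ι₁ = y) (h₂ : RingHom.ker ι₂ = y) : ι₁ = ι₂ := by
  set x : Ideal A := y.comap (algebraMap A B) with hx
  let K := x.ResidueField
  let E := y.ResidueField
  let FL := FractionRing L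
  have hj : Function.Injective (algebraMap L FL) := IsFractionRing.injective L FL
  -- the algebra structure `K → E`
  let alg : K →+* E := Ideal.ResidueField.lift x (algebraMap A E)
    (by
      intro a ha
      rw [RingHom.mem_ker, IsScalarTower.algebraMap_apply A B E]
      exact Ideal.algebraMap_residueField_eq_zero.mpr ha)
    (by
      intro a ha
      show IsUnit (algebraMap A E a)
      rw [IsScalarTower.algebraMap_apply A B E, isUnit_iff_ne_zero, Ne,
        Ideal.algebraMap_residueField_eq_zero]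
      exact ha)
  letI : Algebra K E := alg.toAlgebra
  haveI : IsScalarTower A K E := IsScalarTower.of_algebraMap_eq fun a => by
    show algebraMap A E a = alg (algebraMap A K a)
    rw [Ideal.ResidueField.lift_algebraMap]
  haveI : Algebra.QuasiFinite A E := inferInstance
  haveI : Algebra.QuasiFinite K E := .of_restrictScalars A _ _
  haveI : Module.Finite K E := .of_quasiFinite
  haveI : Algebra.IsAlgebraic K E := Algebra.IsAlgebraic.of_finite K E
  haveI : IsPurelyInseparable K E := inferInstance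
  -- the lifts
  have lift_ok : ∀ ι : B →+* L, RingHom.ker ι = y →
      ∃ σ : E →+* FL, ∀ b, σ (algebraMap B E b) = algebraMap L FL (ι b) := by
    intro ι hι
    refine ⟨Ideal.ResidueField.lift y ((algebraMap L FL).comp ι) ?_ ?_, fun b => ?_⟩
    · intro b hb
      rw [RingHom.mem_ker, RingHom.comp_apply]
      have : ι b = 0 := by rw [← RingHom.mem_ker, hι]; exact hb
      rw [this, map_zero]
    · intro b hb
      show IsUnit ((algebraMap L FL) (ι b))
      rw [isUnit_iff_ne_zero, Ne, map_eq_zero_iff _ hj, ← RingHom.mem_ker, hι]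
      exact hb
    · rw [Ideal.ResidueField.lift_algebraMap]; rfl
  obtain ⟨σ₁, hσ₁⟩ := lift_ok ι₁ h₁
  obtain ⟨σ₂, hσ₂⟩ := lift_ok ι₂ h₂
  have hσ : σ₁ = σ₂ := by
    apply IsPurelyInseparable.injective_comp_algebraMap K E FL
    show σ₁.comp (algebraMap K E) = σ₂.comp (algebraMap K E)
    apply Ideal.ResidueField.ringHom_ext
    ext a
    show σ₁ (algebraMap K E (algebraMap A K a)) = σ₂ (algebraMap K E (algebraMap A K a))
    rw [← IsScalarTower.algebraMap_apply A K E, IsScalarTower.algebraMap_apply A B E, hσ₁, hσ₂]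
    exact congrArg (algebraMap L FL) (congrArg (fun φ : A →+* L => φ a) hA)
  ext b
  apply hj
  rw [← hσ₁, ← hσ₂, hσ]

end radicial

section spread

variable {A B : Type u} [CommRing A] [CommRing B] [Algebra A B]

/-- `b ⊗ 1 - 1 ⊗ b`. -/
def dd (b : B) : B ⊗[A] B := b ⊗ₜ[A] (1 : B) - (1 : B) ⊗ₜ[A] b

theorem dd_mul (b c : B) :
    dd (A := A) (b * c) = dd b * (c ⊗ₜ[A] (1 : B)) + ((1 : B) ⊗ₜ[A] b) * dd c := by
  simp only [dd, sub_mul, mul_sub, Algebra.TensorProduct.tmul_mul_tmul, mul_one, one_mul]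
  abel

theorem dd_add (b c : B) : dd (A := A) (b + c) = dd b + dd c := by
  simp only [dd, TensorProduct.add_tmul, TensorProduct.tmul_add]
  abel

theorem dd_algebraMap (a : A) : dd (A := A) (algebraMap A B a) = 0 := by
  simp only [dd, Algebra.algebraMap_eq_smul_one, TensorProduct.smul_tmul, sub_self]

/-- Elements of a prime of a zero-dimensional ring are nilpotent near that prime. -/
theorem exists_mul_pow_eq_zero (hA : ∀ p : Ideal A, p.IsPrime → p.IsMaximal)
    (x : Ideal A) [x.IsPrime] (a : A) (ha : a ∈ x) : ∃ f ∉ x, ∃ M : ℕ, f * a ^ M = 0 := by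
  haveI : Ring.KrullDimLE 0 A := Ring.krullDimLE_zero_iff.mpr hA
  haveI : Ring.KrullDimLE 0 (Localization.AtPrime x) :=
    Ring.KrullDimLE.of_isLocalization x
      (by rw [Ring.KrullDimLE.minimalPrimes_eq_setOf_isPrime]; exact ‹x.IsPrime›) _
  have h1 : algebraMap A (Localization.AtPrime x) a ∈
      IsLocalRing.maximalIdeal (Localization.AtPrime x) :=
    (IsLocalization.AtPrime.to_map_mem_maximal_iff _ x a).mpr ha
  obtain ⟨M, hM⟩ := Ring.KrullDimLE.isNilpotent_iff_mem_maximalIdeal.mpr h1
  rw [← map_pow, IsLocalization.map_eq_zero_iff x.primeCompl] at hM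
  obtain ⟨m, hm⟩ := hM
  exact ⟨m, m.2, M, hm⟩

/-- The left inclusion as an `A`-algebra map. -/
abbrev incL : B →ₐ[A] B ⊗[A] B := Algebra.TensorProduct.includeLeft

/-- The right inclusion as an `A`-algebra map. -/
abbrev incR : B →ₐ[A] B ⊗[A] B := Algebra.TensorProduct.includeRight

theorem incL_apply (b : B) : incL (A := A) b = b ⊗ₜ[A] (1 : B) := rfl
theorem incR_apply (b : B) : incR (A := A) b = (1 : B) ⊗ₜ[A] b := rfl

theorem dd_eq (b : B) : dd (A := A) b = incL b - incR b := rfl

theorem ker_mk_comp {R S : Type*} [CommRing R] [CommRing S] (Q : Ideal S) (φ : R →+* S) :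
    RingHom.ker ((Ideal.Quotient.mk Q).comp φ) = Q.comap φ := by
  ext r
  rw [RingHom.mem_ker, RingHom.comp_apply, Ideal.Quotient.eq_zero_iff_mem, Ideal.mem_comap]

set_option maxHeartbeats 1000000 in
/-- Key claim: near `x`, the elements `(s ⊗ s) * d(g)` lie in all primes of `B ⊗ B`. -/
theorem exists_forall_mem [Algebra.QuasiFinite A B]
    (hA : ∀ p : Ideal A, p.IsPrime → p.IsMaximal)
    (y : Ideal B) [y.IsPrime] (hsep : IsSepClosed (y.comap (algebraMap A B)).ResidueField)
    (s : B) (hs : ∀ q' : Ideal B, q'.IsPrime → q' ≠ y →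
      q'.comap (algebraMap A B) = y.comap (algebraMap A B) → s ∈ q') (g : B) :
    ∃ f ∉ y.comap (algebraMap A B), ∀ Q : Ideal (B ⊗[A] B), Q.IsPrime →
      algebraMap A (B ⊗[A] B) f ∉ Q → (s ⊗ₜ[A] s) * dd g ∈ Q := by
  set x : Ideal A := y.comap (algebraMap A B) with hx
  haveI hxmax : x.IsMaximal := hA x inferInstance
  have hrad : (s ⊗ₜ[A] s) * dd g ∈ (Ideal.map (algebraMap A (B ⊗[A] B)) x).radical := by
    rw [Ideal.radical_eq_sInf, Ideal.mem_sInf]
    rintro Q ⟨hxQ, hQ⟩
    have hss : (s ⊗ₜ[A] s : B ⊗[A] B) = incL s * incR s := by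
      rw [incL_apply, incR_apply, Algebra.TensorProduct.tmul_mul_tmul, mul_one, one_mul]
    by_cases h1 : incL (A := A) s ∈ Q
    · rw [hss]; exact Q.mul_mem_right _ (Q.mul_mem_right _ h1)
    by_cases h2 : incR (A := A) s ∈ Q
    · rw [hss]; exact Q.mul_mem_right _ (Q.mul_mem_left _ h2)
    -- both restrictions equal `y`
    have hcomapL : (Q.comap (incL (A := A)).toRingHom).comap (algebraMap A B) = x := by
      symm
      refine hxmax.eq_of_le (Ideal.comap_ne_top _ (Ideal.comap_ne_top _ hQ.ne_top)) ?_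
      intro a ha
      show incL (A := A) (algebraMap A B a) ∈ Q
      rw [AlgHom.commutes]
      exact hxQ (Ideal.mem_map_of_mem _ ha)
    have hcomapR : (Q.comap (incR (A := A)).toRingHom).comap (algebraMap A B) = x := by
      symm
      refine hxmax.eq_of_le (Ideal.comap_ne_top _ (Ideal.comap_ne_top _ hQ.ne_top)) ?_
      intro a ha
      show incR (A := A) (algebraMap A B a) ∈ Q
      rw [AlgHom.commutes]
      exact hxQ (Ideal.mem_map_of_mem _ ha)
    have hL : Q.comap (incL (A := A)).toRingHom = y := by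
      by_contra hne
      exact h1 (hs _ (Ideal.comap_isPrime _ _) hne hcomapL)
    have hR : Q.comap (incR (A := A)).toRingHom = y := by
      by_contra hne
      exact h2 (hs _ (Ideal.comap_isPrime _ _) hne hcomapR)
    haveI : IsDomain ((B ⊗[A] B) ⧸ Q) := Ideal.Quotient.isDomain Q
    have key := eq_of_ker_eq (L := (B ⊗[A] B) ⧸ Q) y hsep
      ((Ideal.Quotient.mk Q).comp (incL (A := A)).toRingHom)
      ((Ideal.Quotient.mk Q).comp (incR (A := A)).toRingHom)
      (by
        ext a
        show Ideal.Quotient.mk Q (incL (A := A) (algebraMap A B a)) =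
          Ideal.Quotient.mk Q (incR (A := A) (algebraMap A B a))
        rw [AlgHom.commutes, AlgHom.commutes])
      (by rw [ker_mk_comp, hL]) (by rw [ker_mk_comp, hR])
    have h3 : Ideal.Quotient.mk Q (incL (A := A) g) = Ideal.Quotient.mk Q (incR (A := A) g) :=
      congrArg (fun φ : B →+* (B ⊗[A] B) ⧸ Q => φ g) key
    have h4 : dd (A := A) g ∈ Q := by
      rw [dd_eq, ← Ideal.Quotient.eq_zero_iff_mem, map_sub, h3, sub_self]
    exact Q.mul_mem_left _ h4
  obtain ⟨N, hN⟩ := hrad
  -- span induction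
  have hP : ∀ u ∈ Ideal.map (algebraMap A (B ⊗[A] B)) x,
      ∃ f ∉ x, ∀ Q : Ideal (B ⊗[A] B), Q.IsPrime → algebraMap A (B ⊗[A] B) f ∉ Q → u ∈ Q := by
    intro u hu
    unfold Ideal.map at hu
    induction hu using Submodule.span_induction with
    | mem u hu =>
      obtain ⟨a, ha, rfl⟩ := hu
      obtain ⟨f, hf, M, hM⟩ := exists_mul_pow_eq_zero hA x a ha
      refine ⟨f, hf, fun Q hQ hfQ => ?_⟩
      have h0 : algebraMap A (B ⊗[A] B) f * (algebraMap A (B ⊗[A] B) a) ^ M ∈ Q := by
        rw [← map_pow, ← map_mul, hM, map_zero]; exact Q.zero_mem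
      exact hQ.mem_of_pow_mem _ ((hQ.mem_or_mem h0).resolve_left hfQ)
    | zero =>
      exact ⟨1, x.ne_top_iff_one.mp hxmax.ne_top, fun Q _ _ => Q.zero_mem⟩
    | add u v _ _ hu hv =>
      obtain ⟨f1, hf1, h1⟩ := hu
      obtain ⟨f2, hf2, h2⟩ := hv
      refine ⟨f1 * f2, fun h => (hxmax.isPrime.mem_or_mem h).elim hf1 hf2, fun Q hQ hfQ => ?_⟩
      rw [map_mul] at hfQ
      exact Q.add_mem (h1 Q hQ fun h => hfQ (Q.mul_mem_right _ h))
        (h2 Q hQ fun h => hfQ (Q.mul_mem_left _ h))
    | smul r u _ hu =>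
      obtain ⟨f1, hf1, h1⟩ := hu
      exact ⟨f1, hf1, fun Q hQ hfQ => Q.mul_mem_left _ (h1 Q hQ hfQ)⟩
  obtain ⟨f, hf, hfQ⟩ := hP _ hN
  exact ⟨f, hf, fun Q hQ h => hQ.mem_of_pow_mem _ (hfQ Q hQ h)⟩

set_option maxHeartbeats 1000000 in
/-- Local injectivity of `Spec B → Spec A` near a point `y`. -/
theorem exists_locally_injective [Algebra.FiniteType A B] [Algebra.QuasiFinite A B]
    (hA : ∀ p : Ideal A, p.IsPrime → p.IsMaximal)
    (y : Ideal B) [y.IsPrime] (hsep : IsSepClosed (y.comap (algebraMap A B)).ResidueField) :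
    ∃ s ∉ y, ∃ f ∉ y.comap (algebraMap A B), ∀ q₁ q₂ : Ideal B, q₁.IsPrime → q₂.IsPrime →
      s ∉ q₁ → s ∉ q₂ → q₁.comap (algebraMap A B) = q₂.comap (algebraMap A B) →
      f ∉ q₁.comap (algebraMap A B) → q₁ = q₂ := by
  classical
  set x : Ideal A := y.comap (algebraMap A B) with hx
  haveI hxmax : x.IsMaximal := hA x inferInstance
  haveI : y.LiesOver x := ⟨rfl⟩
  obtain ⟨s, hsy, hs⟩ := Ideal.exists_not_mem_forall_mem_of_ne_of_liesOver x y
  have hs' : ∀ q' : Ideal B, q'.IsPrime → q' ≠ y →
      q'.comap (algebraMap A B) = y.comap (algebraMap A B) → s ∈ q' :=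
    fun q' hq' hne hc => hs q' hq' hne ⟨hc.symm⟩
  have K := exists_forall_mem hA y hsep s hs'
  choose F hFx hFQ using K
  obtain ⟨G, hG⟩ := (Algebra.FiniteType.out : (⊤ : Subalgebra A B).FG)
  refine ⟨s, hsy, ∏ g ∈ G, F g, ?_, ?_⟩
  · rw [hxmax.isPrime.prod_mem_iff]
    rintro ⟨g, -, hg⟩
    exact hFx g hg
  intro q₁ q₂ hq₁ hq₂ hs₁ hs₂ hcomap hf
  obtain ⟨Q, hQ1, hQ2⟩ := Groth.Agent.Lib.T2H1.WLocStep.exists_prime_tensor (R := A) (R' := B)
    (B := B) ⟨q₁, hq₁⟩ ⟨q₂, hq₂⟩ (PrimeSpectrum.ext hcomap)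
  have hQL : ∀ b : B, incL (A := A) b ∈ Q.asIdeal ↔ b ∈ q₁ := by
    intro b
    have := congrArg PrimeSpectrum.asIdeal hQ1
    exact (SetLike.ext_iff.mp this b)
  have hQR : ∀ b : B, incR (A := A) b ∈ Q.asIdeal ↔ b ∈ q₂ := by
    intro b
    have := congrArg PrimeSpectrum.asIdeal hQ2
    exact (SetLike.ext_iff.mp this b)
  have hss : (s ⊗ₜ[A] s : B ⊗[A] B) = incL s * incR s := by
    rw [incL_apply, incR_apply, Algebra.TensorProduct.tmul_mul_tmul, mul_one, one_mul]
  have hssQ : (s ⊗ₜ[A] s : B ⊗[A] B) ∉ Q.asIdeal := by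
    rw [hss]
    intro h
    rcases Q.2.mem_or_mem h with h | h
    · exact hs₁ ((hQL s).mp h)
    · exact hs₂ ((hQR s).mp h)
  have hfQ : ∀ g ∈ G, algebraMap A (B ⊗[A] B) (F g) ∉ Q.asIdeal := by
    intro g hg h
    apply hf
    show algebraMap A B (∏ g ∈ G, F g) ∈ q₁
    rw [← hQL, AlgHom.commutes, ← Finset.mul_prod_erase G F hg, map_mul]
    exact Q.asIdeal.mul_mem_right _ h
  have hdd : ∀ b : B, dd (A := A) b ∈ Q.asIdeal := by
    intro b
    have hb : b ∈ Algebra.adjoin A (G : Set B) := by rw [hG]; exact Algebra.mem_top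
    induction hb using Algebra.adjoin_induction with
    | mem g hg =>
      exact (Q.2.mem_or_mem (hFQ g Q.asIdeal Q.2 (hfQ g hg))).resolve_left hssQ
    | algebraMap a => rw [dd_algebraMap]; exact Q.asIdeal.zero_mem
    | add b c _ _ hb hc => rw [dd_add]; exact Q.asIdeal.add_mem hb hc
    | mul b c _ _ hb hc =>
      rw [dd_mul]
      exact Q.asIdeal.add_mem (Q.asIdeal.mul_mem_right _ hb) (Q.asIdeal.mul_mem_left _ hc)
  ext b
  rw [← hQL, ← hQR]
  have h := hdd b
  rw [dd_eq] at h
  constructor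
  · intro h1
    have := Q.asIdeal.sub_mem h1 h
    rwa [sub_sub_cancel] at this
  · intro h1
    have := Q.asIdeal.add_mem h h1
    rwa [sub_add_cancel] at this

end spread

section main

theorem isClopen_of_isConstructible {X : Type u} [TopologicalSpace X] [CompactSpace X] [T2Space X]
    {s : Set X} (hs : Topology.IsConstructible s) : IsClopen s := by
  induction hs using Topology.IsConstructible.empty_union_induction with
  | open_retrocompact U hUo hUc => exact ⟨hUc.isCompact.isClosed, hUo⟩
  | union s _ t _ hs ht => exact hs.union ht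
  | compl s _ hs => exact hs.compl

variable (A B : Type u) [CommRing A] [CommRing B] [Algebra A B]

/-- A quasi-finite finitely presented algebra over a ring with Hausdorff extremally disconnected
spectrum and separably closed residue fields has extremally disconnected spectrum. -/
theorem main [Algebra.QuasiFinite A B] [Algebra.FinitePresentation A B]
    (hres : ∀ p : PrimeSpectrum A, IsSepClosed p.asIdeal.ResidueField)
    [T2Space (PrimeSpectrum A)] [ExtremallyDisconnected (PrimeSpectrum A)] :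
    ExtremallyDisconnected (PrimeSpectrum B) := by
  have hA : ∀ p : Ideal A, p.IsPrime → p.IsMaximal := fun p hp =>
    (PrimeSpectrum.isClosed_singleton_iff_isMaximal ⟨p, hp⟩).mp isClosed_singleton
  apply extremallyDisconnected_of_local
  intro y
  obtain ⟨s, hsy, f, hfx, hinj⟩ := exists_locally_injective hA y.asIdeal
    (hres ⟨_, Ideal.comap_isPrime _ _⟩)
  let w : B := s * algebraMap A B f
  let W : Set (PrimeSpectrum B) := PrimeSpectrum.basicOpen w
  have hWmem : ∀ q : PrimeSpectrum B, q ∈ W → s ∉ q.asIdeal ∧ algebraMap A B f ∉ q.asIdeal := by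
    intro q hq
    have hq' : w ∉ q.asIdeal := hq
    exact ⟨fun h => hq' (q.asIdeal.mul_mem_right _ h), fun h => hq' (q.asIdeal.mul_mem_left _ h)⟩
  refine ⟨W, (PrimeSpectrum.basicOpen w).2, ?_, PrimeSpectrum A, inferInstance, inferInstance,
    fun q => PrimeSpectrum.comap (algebraMap A B) q.1, ?_⟩
  · show w ∉ y.asIdeal
    intro h
    rcases y.2.mem_or_mem h with h | h
    · exact hsy h
    · exact hfx h
  · haveI : CompactSpace W := isCompact_iff_compactSpace.mp (PrimeSpectrum.isCompact_basicOpen w)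
    have hcont : Continuous (fun q : W => PrimeSpectrum.comap (algebraMap A B) q.1) :=
      (PrimeSpectrum.continuous_comap _).comp continuous_subtype_val
    have hinj' : Function.Injective (fun q : W => PrimeSpectrum.comap (algebraMap A B) q.1) := by
      intro q1 q2 h
      apply Subtype.ext
      apply PrimeSpectrum.ext
      exact hinj q1.1.asIdeal q2.1.asIdeal q1.1.2 q2.1.2 (hWmem _ q1.2).1 (hWmem _ q2.2).1
        (congrArg PrimeSpectrum.asIdeal h) (hWmem _ q1.2).2
    have hce := hcont.isClosedEmbedding hinj'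
    refine ⟨hce.isEmbedding, ?_⟩
    have hrange : Set.range (fun q : W => PrimeSpectrum.comap (algebraMap A B) q.1) =
        PrimeSpectrum.comap (algebraMap A B) '' W := by
      ext p
      constructor
      · rintro ⟨q, rfl⟩
        exact ⟨q.1, q.2, rfl⟩
      · rintro ⟨q, hq, rfl⟩
        exact ⟨⟨q, hq⟩, rfl⟩
    rw [hrange]
    exact (isClopen_of_isConstructible (PrimeSpectrum.isConstructible_comap_image
      (RingHom.finitePresentation_algebraMap.mpr (inferInstance : Algebra.FinitePresentation A B))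
      PrimeSpectrum.isConstructible_basicOpen)).2

end main

end Groth.Agent.Lib.T2H1.QFinED
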