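import Mathlib
import Groth.Prelude.Def_ProEtW
import Groth.Prelude.Def_PBC
import Groth.Prelude.Def_EtBase
import Groth.Agent.Lib.T2H1WContrChar
import Groth.Agent.Lib.T2H1QFinED
import Groth.Agent.Lib.T2H1SHTransfer
import Groth.Agent.Lib.Helper6EquiSubH
import Groth.Agent.Lib.Helper24G0
import Groth.Agent.Lib.Helper3HenselLF

set_option autoImplicit false
universe u

open TensorProduct

namespace Groth.Agent.Lib.T2H1.WContrFinite

section wlocal

variable {A B : Type u} [CommRing A] [CommRing B] [Algebra A B] [Module.Finite A B]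

/-- If `p` is a prime of a w-local ring whose unique closed specialization `m` has henselian
local ring, then `A ⧸ p` is a henselian local ring. -/
theorem henselian_quotient (hA : ProEtW.IsWLocal (PrimeSpectrum A))
    (hh : ∀ (m : Ideal A) [m.IsMaximal], HenselianLocalRing (Localization.AtPrime m))
    (p : Ideal A) [hp : p.IsPrime] : HenselianLocalRing (A ⧸ p) := by
  obtain ⟨m, ⟨hmc, hpm⟩, huniq⟩ := hA.2.2 ⟨p, hp⟩
  haveI hmmax : m.asIdeal.IsMaximal := (PrimeSpectrum.isClosed_singleton_iff_isMaximal m).mp hmc
  haveI := hh m.asIdeal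
  have hunit : ∀ s : m.asIdeal.primeCompl, IsUnit (Ideal.Quotient.mk p (s : A)) := by
    intro s
    by_contra hnu
    obtain ⟨M, hM, hsM⟩ := exists_max_ideal_of_mem_nonunits hnu
    haveI hM' : (M.comap (Ideal.Quotient.mk p)).IsMaximal :=
      Ideal.comap_isMaximal_of_surjective _ Ideal.Quotient.mk_surjective
    have hle : p ≤ M.comap (Ideal.Quotient.mk p) := by
      intro a ha
      rw [Ideal.mem_comap, Ideal.Quotient.eq_zero_iff_mem.mpr ha]
      exact M.zero_mem
    have := huniq ⟨M.comap (Ideal.Quotient.mk p), hM'.isPrime⟩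
      ⟨(PrimeSpectrum.isClosed_singleton_iff_isMaximal _).mpr hM',
        (PrimeSpectrum.le_iff_specializes _ _).mp hle⟩
    have h2 : (s : A) ∈ m.asIdeal := by
      have h3 : Ideal.comap (Ideal.Quotient.mk p) M = m.asIdeal :=
        congrArg PrimeSpectrum.asIdeal this
      have h4 : (s : A) ∈ Ideal.comap (Ideal.Quotient.mk p) M := hsM
      rwa [h3] at h4
    exact s.2 h2
  let φ : Localization.AtPrime m.asIdeal →+* A ⧸ p :=
    IsLocalization.lift (M := m.asIdeal.primeCompl) (g := Ideal.Quotient.mk p) hunit
  have hφ : Function.Surjective φ := by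
    intro z
    obtain ⟨a, rfl⟩ := Ideal.Quotient.mk_surjective z
    exact ⟨algebraMap A _ a, IsLocalization.lift_eq _ a⟩
  obtain ⟨_, h⟩ := Groth.Agent.Lib.Helper24G0.henselian_of_surjective φ hφ
  exact h

theorem isClosed_singleton_iff_comap (q : PrimeSpectrum B) :
    IsClosed ({q} : Set (PrimeSpectrum B)) ↔
      IsClosed ({PrimeSpectrum.comap (algebraMap A B) q} : Set (PrimeSpectrum A)) := by
  haveI : Algebra.IsIntegral A B := Algebra.IsIntegral.of_finite A B
  rw [PrimeSpectrum.isClosed_singleton_iff_isMaximal, PrimeSpectrum.isClosed_singleton_iff_isMaximal]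
  constructor
  · intro h
    exact Ideal.isMaximal_comap_of_isIntegral_of_isMaximal (R := A) q.asIdeal
  · intro h
    exact Ideal.isMaximal_of_isIntegral_of_isMaximal_comap (R := A) q.asIdeal h

/-- A finite algebra over a w-local ring with henselian local rings at closed points is w-local. -/
theorem isWLocal_of_finite (hA : ProEtW.IsWLocal (PrimeSpectrum A))
    (hh : ∀ (m : Ideal A) [m.IsMaximal], HenselianLocalRing (Localization.AtPrime m)) :
    ProEtW.IsWLocal (PrimeSpectrum B) := by
  refine ⟨inferInstance, ?_, ?_⟩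
  · have : {x : PrimeSpectrum B | IsClosed ({x} : Set (PrimeSpectrum B))} =
        PrimeSpectrum.comap (algebraMap A B) ⁻¹'
          {x : PrimeSpectrum A | IsClosed ({x} : Set (PrimeSpectrum A))} := by
      ext q
      exact isClosed_singleton_iff_comap q
    rw [this]
    exact hA.2.1.preimage (PrimeSpectrum.continuous_comap _)
  · intro q
    obtain ⟨n, hn, hqn⟩ := Ideal.exists_le_maximal q.asIdeal q.2.ne_top
    refine ⟨⟨n, hn.isPrime⟩, ⟨(PrimeSpectrum.isClosed_singleton_iff_isMaximal _).mpr hn,
      (PrimeSpectrum.le_iff_specializes _ _).mp hqn⟩, ?_⟩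
    rintro ⟨n', hn'p⟩ ⟨hn'c, hqn'⟩
    have hn' : n'.IsMaximal := (PrimeSpectrum.isClosed_singleton_iff_isMaximal _).mp hn'c
    have hqn'' : q.asIdeal ≤ n' := (PrimeSpectrum.le_iff_specializes q ⟨n', hn'p⟩).mpr hqn'
    -- `B ⧸ q` is local
    haveI := q.2
    haveI : HenselianLocalRing (A ⧸ q.asIdeal.comap (algebraMap A B)) :=
      henselian_quotient hA hh _
    haveI : Module.Finite A (B ⧸ q.asIdeal) := inferInstance
    haveI : Module.Finite (A ⧸ q.asIdeal.comap (algebraMap A B)) (B ⧸ q.asIdeal) :=
      Module.Finite.of_restrictScalars_finite A _ _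
    haveI : IsLocalRing (B ⧸ q.asIdeal) :=
      Groth.Agent.Lib.Helper6.EquiSub.isLocalRing_of_finite_domain_over_henselian
        (A ⧸ q.asIdeal.comap (algebraMap A B)) (B ⧸ q.asIdeal)
    have key : ∀ N : Ideal B, N.IsMaximal → q.asIdeal ≤ N →
        N = (IsLocalRing.maximalIdeal (B ⧸ q.asIdeal)).comap (Ideal.Quotient.mk q.asIdeal) := by
      intro N hN hqN
      have hcm : (N.map (Ideal.Quotient.mk q.asIdeal)).comap (Ideal.Quotient.mk q.asIdeal) = N := by
        rw [Ideal.comap_map_of_surjective _ Ideal.Quotient.mk_surjective,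
          ← RingHom.ker_eq_comap_bot, Ideal.mk_ker, sup_eq_left.mpr hqN]
      have h1 : (N.map (Ideal.Quotient.mk q.asIdeal)).IsMaximal := by
        rcases Ideal.map_eq_top_or_isMaximal_of_surjective (Ideal.Quotient.mk q.asIdeal)
          Ideal.Quotient.mk_surjective hN with h | h
        · exfalso
          rw [h, Ideal.comap_top] at hcm
          exact hN.ne_top hcm.symm
        · exact h
      rw [← IsLocalRing.eq_maximalIdeal h1, hcm]
    apply PrimeSpectrum.ext
    show n' = n
    rw [key n' hn' hqn'', key n hn hqn]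

end wlocal

section hensel

variable {A B : Type u} [CommRing A] [CommRing B] [Algebra A B] [Module.Finite A B]

set_option maxHeartbeats 1000000 in
/-- Local rings of a finite algebra at maximal ideals over a strictly henselian local ring of the
base are strictly henselian. -/
theorem strictlyHenselian_of_finite (n : Ideal B) [hn : n.IsMaximal]
    (m : Ideal A) [hm : m.IsMaximal] (hnm : n.comap (algebraMap A B) = m)
    (hsh : EtCoh.IsStrictlyHenselianLocalRing (Localization.AtPrime m)) :
    EtCoh.IsStrictlyHenselianLocalRing (Localization.AtPrime n) := by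
  obtain ⟨hR, hsepR⟩ := hsh
  let R := Localization.AtPrime m
  let M : Submonoid B := Algebra.algebraMapSubmonoid B m.primeCompl
  let S := Localization M
  haveI : Module.Finite R S := Module.Finite.of_isLocalization A B m.primeCompl
  -- the prime `N` of `S`
  have hdisj : Disjoint (M : Set B) (n : Set B) := by
    rw [Set.disjoint_left]
    rintro _ ⟨a, ha, rfl⟩ hmem
    apply ha
    rw [← hnm]
    exact hmem
  let N : Ideal S := Ideal.map (algebraMap B S) n
  haveI hNp : N.IsPrime := IsLocalization.isPrime_of_isPrime_disjoint M S n hn.isPrime hdisj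
  have hNc : N.comap (algebraMap B S) = n :=
    IsLocalization.comap_map_of_isPrime_disjoint M S hn.isPrime hdisj
  haveI hlies : N.LiesOver (IsLocalRing.maximalIdeal R) := by
    constructor
    have h1 : (N.comap (algebraMap R S)).comap (algebraMap A R) = m := by
      rw [Ideal.comap_comap, ← IsScalarTower.algebraMap_eq, IsScalarTower.algebraMap_eq A B S,
        ← Ideal.comap_comap, hNc, hnm]
    have h2 : (IsLocalRing.maximalIdeal R).comap (algebraMap A R) = m :=
      IsLocalization.AtPrime.comap_maximalIdeal R m
    have h3 := IsLocalization.map_comap m.primeCompl R (IsLocalRing.maximalIdeal R)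
    have h4 := IsLocalization.map_comap m.primeCompl R (N.comap (algebraMap R S))
    have h2' : Ideal.under A (IsLocalRing.maximalIdeal R) = m := h2
    have h1' : Ideal.under A (Ideal.comap (algebraMap R S) N) = m := h1
    rw [h2'] at h3
    rw [h1'] at h4
    exact h3.symm.trans h4
  let T := Localization.AtPrime N
  haveI : Module.Finite R T :=
    Groth.Agent.Lib.Helper3.Hensel.finite_localization_of_quasiFiniteAt (R := R) (S := S) N
  haveI : HenselianLocalRing T := Groth.Agent.Lib.Helper24G0.henselian_of_finite R T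
  haveI hloc : IsLocalHom (algebraMap R T) := by
    refine ((IsLocalRing.local_hom_TFAE (algebraMap R T)).out 0 4).mpr ?_
    rw [IsScalarTower.algebraMap_eq R S T, ← Ideal.comap_comap]
    have h7 : Ideal.comap (algebraMap S T) (IsLocalRing.maximalIdeal T) = N :=
      IsLocalization.AtPrime.comap_maximalIdeal T N
    rw [h7]
    exact (hlies.over).symm
  haveI : Module.Finite (IsLocalRing.ResidueField R) (IsLocalRing.ResidueField T) :=
    IsLocalRing.ResidueField.finite_of_module_finite
  haveI : Algebra.IsAlgebraic (IsLocalRing.ResidueField R) (IsLocalRing.ResidueField T) :=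
    Algebra.IsAlgebraic.of_finite _ _
  haveI : IsSepClosed (IsLocalRing.ResidueField R) := hsepR
  have hsepT : IsSepClosed (IsLocalRing.ResidueField T) :=
    Algebra.IsAlgebraic.isSepClosed (F := IsLocalRing.ResidueField R)
  have hT : EtCoh.IsStrictlyHenselianLocalRing T := ⟨inferInstance, hsepT⟩
  -- `T` is the localization of `B` at `n`
  haveI h5 : IsLocalization.AtPrime T (N.comap (algebraMap B S)) :=
    IsLocalization.isLocalization_isLocalization_atPrime_isLocalization M T N
  have hpc : (N.comap (algebraMap B S)).primeCompl = n.primeCompl := by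
    ext b
    show b ∉ N.comap (algebraMap B S) ↔ b ∉ n
    rw [hNc]
  haveI h6 : IsLocalization n.primeCompl T := by
    rw [← hpc]; exact h5
  let e : T ≃ₐ[B] Localization.AtPrime n := IsLocalization.algEquiv n.primeCompl T _
  exact Groth.Agent.Lib.T2H1.SHTransfer.isStrictlyHenselianLocalRing_of_ringEquiv hT e.toRingEquiv

end hensel

section pi0

/-- Two fields which are surjective images of a ring with the same kernel are isomorphic. -/
noncomputable def ringEquivOfSurjective {A K K' : Type*} [CommRing A] [CommRing K] [CommRing K']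
    (g₁ : A →+* K) (g₂ : A →+* K') (h₁ : Function.Surjective g₁) (h₂ : Function.Surjective g₂)
    (hker : RingHom.ker g₁ = RingHom.ker g₂) : K ≃+* K' :=
  (RingHom.quotientKerEquivOfSurjective h₁).symm.trans
    ((Ideal.quotEquivOfEq hker).trans (RingHom.quotientKerEquivOfSurjective h₂))

/-- A closed embedding whose range is the set of closed points identifies the source with `π₀`
of a w-local space. -/
noncomputable def homeoPi0 {Z X : Type u} [TopologicalSpace Z] [TopologicalSpace X]
    (hX : ProEtW.IsWLocal X) (f : Z → X) (hf : Topology.IsEmbedding f)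
    (hr : Set.range f = {x : X | IsClosed ({x} : Set X)}) : Z ≃ₜ ConnectedComponents X :=
  (hf.toHomeomorph.trans (Homeomorph.setCongr hr)).trans
    (Groth.Agent.Lib.T2H1.IndZarRetr.closedPtsHomeo hX)

variable {A B : Type u} [CommRing A] [CommRing B] [Algebra A B] [Module.Finite A B]
  [Algebra.FinitePresentation A B]

set_option maxHeartbeats 1000000 in
theorem extremallyDisconnected_pi0_of_finite (hA : ProEtW.IsWLocal (PrimeSpectrum A))
    (hB : ProEtW.IsWLocal (PrimeSpectrum B))
    (hED : ExtremallyDisconnected (ConnectedComponents (PrimeSpectrum A)))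
    (hsep : ∀ (m : Ideal A) [m.IsMaximal], IsSepClosed m.ResidueField) :
    ExtremallyDisconnected (ConnectedComponents (PrimeSpectrum B)) := by
  let I : Ideal A := PrimeSpectrum.vanishingIdeal (ProEtW.closedPoints (PrimeSpectrum A))
  have hI0 : PrimeSpectrum.zeroLocus (I : Set A) = ProEtW.closedPoints (PrimeSpectrum A) :=
    Groth.Agent.Lib.T2H1.WLocStep.zeroLocus_vanishingIdeal_closedPoints A hA
  let A' := A ⧸ I
  let B' := A' ⊗[A] B
  -- `Spec A'` is `π₀(Spec A)`
  have hmk : Function.Surjective (Ideal.Quotient.mk I) := Ideal.Quotient.mk_surjective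
  have hrA : Set.range (PrimeSpectrum.comap (Ideal.Quotient.mk I)) =
      {x : PrimeSpectrum A | IsClosed ({x} : Set (PrimeSpectrum A))} := by
    rw [range_comap_of_surjective _ _ hmk, Ideal.mk_ker, hI0]
    rfl
  let eA : PrimeSpectrum A' ≃ₜ ConnectedComponents (PrimeSpectrum A) :=
    homeoPi0 hA _ (PrimeSpectrum.isClosedEmbedding_comap_of_surjective _ _ hmk).isEmbedding hrA
  haveI : T2Space (ConnectedComponents (PrimeSpectrum A)) :=
    Groth.Agent.Lib.Helper10.Pi0.t2Space_connectedComponents
  haveI : T2Space (PrimeSpectrum A') := eA.symm.t2Space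
  haveI : ExtremallyDisconnected (PrimeSpectrum A') := extremallyDisconnected_of_homeo eA.symm
  -- residue fields
  have hres : ∀ P' : PrimeSpectrum A', IsSepClosed P'.asIdeal.ResidueField := by
    intro P'
    haveI hP'max : P'.asIdeal.IsMaximal :=
      (PrimeSpectrum.isClosed_singleton_iff_isMaximal P').mp isClosed_singleton
    let m : Ideal A := P'.asIdeal.comap (Ideal.Quotient.mk I)
    haveI hm : m.IsMaximal := Ideal.comap_isMaximal_of_surjective _ hmk
    haveI := hsep m
    let g₁ : A →+* m.ResidueField := algebraMap A m.ResidueField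
    let g₂ : A →+* P'.asIdeal.ResidueField :=
      (algebraMap A' P'.asIdeal.ResidueField).comp (Ideal.Quotient.mk I)
    have h₁ : Function.Surjective g₁ := Ideal.algebraMap_residueField_surjective m
    have h₂ : Function.Surjective g₂ :=
      (Ideal.algebraMap_residueField_surjective P'.asIdeal).comp hmk
    have hker : RingHom.ker g₁ = RingHom.ker g₂ := by
      rw [Ideal.ker_algebraMap_residueField]
      show m = Ideal.comap (Ideal.Quotient.mk I) (RingHom.ker (algebraMap A' P'.asIdeal.ResidueField))
      rw [Ideal.ker_algebraMap_residueField]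
    exact Groth.Agent.Lib.T2H1.SHTransfer.isSepClosed_of_ringEquiv
      (ringEquivOfSurjective g₁ g₂ h₁ h₂ hker)
  haveI : ExtremallyDisconnected (PrimeSpectrum B') :=
    Groth.Agent.Lib.T2H1.QFinED.main A' B' hres
  -- `Spec B'` is `π₀(Spec B)`
  have hinc : Function.Surjective (Algebra.TensorProduct.includeRight : B →ₐ[A] A' ⊗[A] B) :=
    Algebra.TensorProduct.includeRight_surjective B hmk
  have hrB : Set.range (PrimeSpectrum.comap
      ((Algebra.TensorProduct.includeRight : B →ₐ[A] A' ⊗[A] B) : B →+* A' ⊗[A] B)) =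
      {x : PrimeSpectrum B | IsClosed ({x} : Set (PrimeSpectrum B))} := by
    ext q
    constructor
    · rintro ⟨Q', rfl⟩
      rw [Set.mem_setOf_eq, isClosed_singleton_iff_comap (A := A)]
      have h1 : PrimeSpectrum.comap (algebraMap A B) (PrimeSpectrum.comap
          ((Algebra.TensorProduct.includeRight : B →ₐ[A] A' ⊗[A] B) : B →+* A' ⊗[A] B) Q') =
          PrimeSpectrum.comap (Ideal.Quotient.mk I)
            (PrimeSpectrum.comap (algebraMap A' B') Q') := by
        apply PrimeSpectrum.ext
        ext a
        show (Algebra.TensorProduct.includeRight : B →ₐ[A] A' ⊗[A] B) (algebraMap A B a) ∈ Q'.asIdeal ↔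
          algebraMap A' B' (Ideal.Quotient.mk I a) ∈ Q'.asIdeal
        rw [AlgHom.commutes]
        rfl
      have h2 : PrimeSpectrum.comap (Ideal.Quotient.mk I)
          (PrimeSpectrum.comap (algebraMap A' B') Q') ∈
          {x : PrimeSpectrum A | IsClosed ({x} : Set (PrimeSpectrum A))} := by
        rw [← hrA]; exact ⟨_, rfl⟩
      rw [h1]
      exact h2
    · intro hq
      have hq' : IsClosed ({PrimeSpectrum.comap (algebraMap A B) q} : Set (PrimeSpectrum A)) :=
        (isClosed_singleton_iff_comap (A := A) q).mp hq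
      have : PrimeSpectrum.comap (algebraMap A B) q ∈
          Set.range (PrimeSpectrum.comap (Ideal.Quotient.mk I)) := by rw [hrA]; exact hq'
      obtain ⟨x', hx'⟩ := this
      obtain ⟨Q', -, hQ'⟩ := Groth.Agent.Lib.T2H1.WLocStep.exists_prime_tensor
        (R := A) (R' := A') (B := B) x' q hx'
      exact ⟨Q', hQ'⟩
  let eB : PrimeSpectrum B' ≃ₜ ConnectedComponents (PrimeSpectrum B) :=
    homeoPi0 hB _ (PrimeSpectrum.isClosedEmbedding_comap_of_surjective _ _ hinc).isEmbedding hrB
  exact extremallyDisconnected_of_homeo eB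

end pi0

section main

variable (A B : Type u) [CommRing A] [CommRing B] [Algebra A B] [Module.Finite A B]
  [Algebra.FinitePresentation A B]

/-- A finite, finitely presented algebra over a w-contractible ring is w-contractible. -/
theorem main (h : EtPBC.IsWContractible A) : EtPBC.IsWContractible B := by
  obtain ⟨hA, hED, hsh⟩ := Groth.Agent.Lib.T2H1.WContrChar.forward A h
  have hh : ∀ (m : Ideal A) [m.IsMaximal], HenselianLocalRing (Localization.AtPrime m) := by
    intro m _
    obtain ⟨h1, -⟩ := hsh m
    exact h1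
  have hsep : ∀ (m : Ideal A) [m.IsMaximal], IsSepClosed m.ResidueField := by
    intro m _
    obtain ⟨_, h2⟩ := hsh m
    exact h2
  have hB : ProEtW.IsWLocal (PrimeSpectrum B) := isWLocal_of_finite hA hh
  refine Groth.Agent.Lib.T2H1.WContrChar.backward B hB
    (extremallyDisconnected_pi0_of_finite hA hB hED hsep) ?_
  intro n hn
  haveI : Algebra.IsIntegral A B := Algebra.IsIntegral.of_finite A B
  haveI hm : (n.comap (algebraMap A B)).IsMaximal :=
    Ideal.isMaximal_comap_of_isIntegral_of_isMaximal (R := A) n
  exact strictlyHenselian_of_finite n _ rfl (hsh _)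

end main

end Groth.Agent.Lib.T2H1.WContrFinite
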