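import Mathlib
import Groth.Prelude.Def_ProEtS
import Groth.Prelude.Def_PBC
import Groth.Agent.Lib.Helper9ProEt
import Groth.Agent.Lib.Helper9WC2
import Groth.Agent.Lib.T2H1ProEtWCCover
import Groth.Agent.Lib.T2H1WContrFinite

set_option autoImplicit false
open CategoryTheory CategoryTheory.Limits AlgebraicGeometry Opposite
universe u

namespace Groth.Agent.Lib.T2H1.ProEtPushExact

open Groth.Agent.Lib.Helper9.ProEt Groth.Agent.Lib.Helper9.WC

section general

variable {Z X : Scheme.{u}} (f : Z ⟶ X) [ProEtS.PCont f]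

set_option backward.isDefEq.respectTransparency false in
/-- If base change along `f` preserves weak contractibility of affine objects, then `f_*`
preserves epimorphisms of abelian pro-étale sheaves. -/
theorem epi_pushP_map
    (hf : ∀ W : X.ProEt, IsAffine W.left → EtPBC.IsWContractible ↥(Γ(W.left, ⊤)) →
      ProEtS.IsWC ((ProEtS.bcP f).obj W))
    {G G' : ProEtS.AbP Z} (φ : G ⟶ G') [Epi φ] : Epi ((ProEtS.pushP f).map φ) := by
  haveI : Sheaf.IsLocallySurjective φ :=
    (Sheaf.isLocallySurjective_iff_epi' AddCommGrpCat.{u + 1} φ).mpr inferInstance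
  let ψ := (sheafCompose (Scheme.ProEt.topology Z) (forget AddCommGrpCat.{u + 1})).map φ
  haveI : Epi ψ := inferInstance
  suffices h : Sheaf.IsLocallySurjective ((ProEtS.pushP f).map φ) from
    (Sheaf.isLocallySurjective_iff_epi' AddCommGrpCat.{u + 1} ((ProEtS.pushP f).map φ)).mp h
  refine ⟨fun {W} s => ?_⟩
  obtain ⟨ι, V, g, hcov, hV⟩ := Groth.Agent.Lib.T2H1.ProEtWCCover.main W
  refine (Scheme.ProEt.topology X).superset_covering ?_ hcov
  rw [Sieve.generate_le_iff]
  rintro _ _ ⟨i⟩
  have hWC := hf (V i) (hV i).1 (hV i).2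
  obtain ⟨t, ht⟩ := hWC _ _ ψ inferInstance (G'.obj.map ((ProEtS.bcP f).map (g i)).op s)
  exact ⟨t, ht⟩

/-- Exactness of `f_*` from preservation of epimorphisms. -/
theorem exact_of_epi
    (h : ∀ {G G' : ProEtS.AbP Z} (φ : G ⟶ G') [Epi φ], Epi ((ProEtS.pushP f).map φ)) :
    PreservesFiniteLimits (ProEtS.pushP f) ∧ PreservesFiniteColimits (ProEtS.pushP f) := by
  haveI hlim : PreservesFiniteLimits (ProEtS.pushP f) := by
    haveI := (ProEtS.pullPushAdjP f).rightAdjoint_preservesLimits
    infer_instance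
  refine ⟨hlim, ?_⟩
  rw [Functor.preservesFiniteColimits_iff_forall_exact_map_and_epi]
  intro S hS
  refine ⟨((Functor.preservesFiniteLimits_iff_forall_exact_map_and_mono _).mp hlim S hS).1, ?_⟩
  haveI := hS.epi_g
  exact h S.g

end general

section finite

variable {Z X : Scheme.{u}} (f : Z ⟶ X) [IsFinite f] [LocallyOfFinitePresentation f]

set_option backward.isDefEq.respectTransparency false in
/-- Base change along a finite, finitely presented morphism preserves affine weakly
contractible objects. -/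
theorem isWC_bcP (W : X.ProEt) (hW : IsAffine W.left)
    (hc : EtPBC.IsWContractible ↥(Γ(W.left, ⊤))) : ProEtS.IsWC ((ProEtS.bcP f).obj W) := by
  let p : pullback W.hom f ⟶ W.left := pullback.fst W.hom f
  haveI : IsFinite p := MorphismProperty.pullback_fst (P := @IsFinite) _ _ inferInstance
  haveI : LocallyOfFinitePresentation p :=
    MorphismProperty.pullback_fst (P := @LocallyOfFinitePresentation) _ _ inferInstance
  haveI hY : IsAffine (pullback W.hom f) := isAffine_of_isAffineHom p
  haveI : IsAffine ((ProEtS.bcP f).obj W).left := hY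
  rw [← isWContractible_iff_isWC]
  let φ : Γ(W.left, ⊤) →+* Γ(pullback W.hom f, ⊤) := p.appTop.hom
  letI := φ.toAlgebra
  haveI : Module.Finite ↥(Γ(W.left, ⊤)) ↥(Γ(pullback W.hom f, ⊤)) :=
    ((HasAffineProperty.iff_of_isAffine (P := @IsFinite)).mp ‹IsFinite p›).2
  haveI : Algebra.FinitePresentation ↥(Γ(W.left, ⊤)) ↥(Γ(pullback W.hom f, ⊤)) :=
    (HasRingHomProperty.iff_of_isAffine (P := @LocallyOfFinitePresentation)).mp
      ‹LocallyOfFinitePresentation p›
  exact Groth.Agent.Lib.T2H1.WContrFinite.main ↥(Γ(W.left, ⊤)) ↥(Γ(pullback W.hom f, ⊤)) hc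

theorem main [ProEtS.PCont f] :
    PreservesFiniteLimits (ProEtS.pushP f) ∧ PreservesFiniteColimits (ProEtS.pushP f) :=
  exact_of_epi f fun φ _ => epi_pushP_map f (isWC_bcP f) φ

end finite

end Groth.Agent.Lib.T2H1.ProEtPushExact
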