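import Mathlib
import Groth.Prelude.Def_ProEtW
import Groth.Prelude.Def_PBC
import Groth.Agent.Lib.T2H1WLoc
import Groth.Agent.Lib.T2H1WLocMain
import Groth.Agent.Lib.T2H1IndZarRetr

set_option autoImplicit false
universe u

namespace Groth.Agent.Lib.T2H1.WLocUniv

open Groth.Agent.Lib.T2H1.WLoc Groth.Agent.Lib.T2H1.IndZarLocal

section topology

/-- In a w-local space, the closed points lying in a quasi-compact open form a closed set. -/
theorem isClosed_closedPts_inter {X : Type u} [TopologicalSpace X] (hX : ProEtW.IsWLocal X)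
    (O : Set X) (hO : IsCompact O) :
    IsClosed ({x : X | IsClosed ({x} : Set X)} ∩ O) := by
  haveI := hX.1
  haveI : T2Space (ConnectedComponents X) :=
    Groth.Agent.Lib.Helper10.Pi0.t2Space_connectedComponents
  haveI : T2Space {x : X // IsClosed ({x} : Set X)} :=
    (Groth.Agent.Lib.T2H1.IndZarRetr.closedPtsHomeo hX).symm.t2Space
  have hK : IsCompact ({x : X | IsClosed ({x} : Set X)} ∩ O) := hO.inter_left hX.2.1
  have hsub : {x : X | IsClosed ({x} : Set X)} ∩ O ⊆
      Set.range (Subtype.val : {x : X // IsClosed ({x} : Set X)} → X) := by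
    rintro x ⟨hx, -⟩
    exact ⟨⟨x, hx⟩, rfl⟩
  have h1 : IsCompact ((Subtype.val : {x : X // IsClosed ({x} : Set X)} → X) ⁻¹'
      ({x : X | IsClosed ({x} : Set X)} ∩ O)) :=
    (Topology.IsInducing.subtypeVal.isCompact_preimage_iff hsub).mpr hK
  have h2 := h1.isClosed
  have h3 := (hX.2.1.isClosedEmbedding_subtypeVal).isClosedMap _ h2
  have h4 := Set.image_preimage_eq_of_subset hsub
  rw [← h4]
  exact h3

end topology

section construction

variable (A B : Type u) [CommRing A] [CommRing B] [Algebra A B]

/-- The prime of `A` under a maximal ideal of `B`. -/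
def zOf (m : MaximalSpectrum B) : PrimeSpectrum A :=
  PrimeSpectrum.comap (algebraMap A B) m.toPrimeSpectrum

/-- The local homomorphism `A_{z(m)} → B_m`. -/
noncomputable def locHom (m : MaximalSpectrum B) :
    Localization.AtPrime (zOf A B m).asIdeal →+* Localization.AtPrime m.asIdeal :=
  Localization.localRingHom (zOf A B m).asIdeal m.asIdeal (algebraMap A B) rfl

theorem locHom_algebraMap (m : MaximalSpectrum B) (r : A) :
    locHom A B m (algebraMap A _ r) = algebraMap B _ (algebraMap A B r) :=
  Localization.localRingHom_to_map _ _ _ _ _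

/-- The componentwise map `A_w → ∏_m B_m`. -/
noncomputable def psi : Aw A →+* MaximalSpectrum.PiLocalization B :=
  Pi.ringHom fun m => (locHom A B m).comp (proj (zOf A B m)).toRingHom

theorem psi_apply (s : Aw A) (m : MaximalSpectrum B) :
    psi A B s m = locHom A B m (s.1 (zOf A B m)) := rfl

variable {A B}

theorem idem_map_eq_one {m : MaximalSpectrum B} {e : B} (he : IsIdempotentElem e)
    (hem : e ∉ m.asIdeal) : algebraMap B (Localization.AtPrime m.asIdeal) e = 1 := by
  have hu : IsUnit (algebraMap B (Localization.AtPrime m.asIdeal) e) :=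
    IsLocalization.map_units _ (⟨e, hem⟩ : m.asIdeal.primeCompl)
  have h1 : algebraMap B (Localization.AtPrime m.asIdeal) e *
      algebraMap B (Localization.AtPrime m.asIdeal) e =
      algebraMap B (Localization.AtPrime m.asIdeal) e * 1 := by
    rw [← map_mul, he.eq, mul_one]
  exact hu.mul_left_cancel h1

theorem idem_map_eq_zero {m : MaximalSpectrum B} {e : B} (he : IsIdempotentElem e)
    (hem : e ∈ m.asIdeal) : algebraMap B (Localization.AtPrime m.asIdeal) e = 0 := by
  have h1 : 1 - e ∉ m.asIdeal := by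
    intro h
    have := m.asIdeal.add_mem h hem
    rw [sub_add_cancel] at this
    exact m.asIdeal.ne_top_iff_one.mp m.isMaximal.ne_top this
  have hu : IsUnit (algebraMap B (Localization.AtPrime m.asIdeal) (1 - e)) :=
    IsLocalization.map_units _ (⟨1 - e, h1⟩ : m.asIdeal.primeCompl)
  apply hu.mul_left_cancel
  rw [← map_mul, mul_zero, sub_mul, one_mul, he.eq, sub_self, map_zero]

theorem mem_stratum_comap_iff (E E' : Finset A) (q : PrimeSpectrum B) :
    PrimeSpectrum.comap (algebraMap A B) q ∈ stratum E E' ↔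
      ∀ g ∈ E, (algebraMap A B g ∉ q.asIdeal ↔ g ∈ E') := Iff.rfl

/-- The sets of closed points whose image lies outside a given stratum is closed. -/
theorem isClosed_bad (hB : ProEtW.IsWLocal (PrimeSpectrum B)) (E E' : Finset A) :
    IsClosed {q : PrimeSpectrum B | IsClosed ({q} : Set (PrimeSpectrum B)) ∧
      PrimeSpectrum.comap (algebraMap A B) q ∉ stratum E E'} := by
  classical
  have : {q : PrimeSpectrum B | IsClosed ({q} : Set (PrimeSpectrum B)) ∧
      PrimeSpectrum.comap (algebraMap A B) q ∉ stratum E E'} =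
      ⋃ g ∈ E, ({q : PrimeSpectrum B | IsClosed ({q} : Set (PrimeSpectrum B))} ∩
        (if g ∈ E' then PrimeSpectrum.zeroLocus {algebraMap A B g}
          else (PrimeSpectrum.basicOpen (algebraMap A B g) : Set (PrimeSpectrum B)))) := by
    ext q
    simp only [Set.mem_setOf_eq, Set.mem_iUnion, Set.mem_inter_iff, exists_prop,
      mem_stratum_comap_iff, not_forall]
    constructor
    · rintro ⟨hq, g, hg, hgn⟩
      refine ⟨g, hg, hq, ?_⟩
      by_cases hgE : g ∈ E'
      · rw [if_pos hgE]
        simp only [PrimeSpectrum.mem_zeroLocus, Set.singleton_subset_iff, SetLike.mem_coe]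
        by_contra h
        exact hgn (iff_of_true h hgE)
      · rw [if_neg hgE]
        show algebraMap A B g ∉ q.asIdeal
        intro h
        exact hgn (iff_of_false (not_not.mpr h) hgE)
    · rintro ⟨g, hg, hq, hmem⟩
      refine ⟨hq, g, hg, ?_⟩
      by_cases hgE : g ∈ E'
      · rw [if_pos hgE] at hmem
        simp only [PrimeSpectrum.mem_zeroLocus, Set.singleton_subset_iff, SetLike.mem_coe] at hmem
        intro h
        exact h.mpr hgE hmem
      · rw [if_neg hgE] at hmem
        intro h
        exact hgE (h.mp hmem)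
  rw [this]
  refine Set.Finite.isClosed_biUnion E.finite_toSet ?_
  intro g hg
  by_cases hgE : g ∈ E'
  · rw [if_pos hgE]
    exact hB.2.1.inter (PrimeSpectrum.isClosed_zeroLocus _)
  · rw [if_neg hgE]
    exact isClosed_closedPts_inter hB _ (PrimeSpectrum.isCompact_basicOpen _)

set_option maxHeartbeats 1000000 in
/-- Every element of `A_w` maps into the diagonal image of `B` in `∏_m B_m`. -/
theorem psi_mem_range (hB : ProEtW.IsWLocal (PrimeSpectrum B)) (s : Aw A) :
    ∃ x : B, ∀ m : MaximalSpectrum B,
      algebraMap B (Localization.AtPrime m.asIdeal) x = locHom A B m (s.1 (zOf A B m)) := by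
  classical
  obtain ⟨E, hE⟩ := s.2
  choose a b hab using hE
  let U : Finset A → Set (PrimeSpectrum B) := fun E' =>
    {q : PrimeSpectrum B | IsClosed ({q} : Set (PrimeSpectrum B)) ∧
      PrimeSpectrum.comap (algebraMap A B) q ∉ stratum E E'}ᶜ
  have hUopen : ∀ E', IsOpen (U E') := fun E' => (isClosed_bad hB E E').isOpen_compl
  have hUcover : (⋃ E', U E') = Set.univ := by
    refine Set.eq_univ_of_forall fun q => Set.mem_iUnion.mpr ?_
    refine ⟨E.filter (· ∉ (PrimeSpectrum.comap (algebraMap A B) q).asIdeal), ?_⟩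
    show q ∉ _
    rintro ⟨-, h⟩
    exact h (mem_stratum_filter E _)
  obtain ⟨n, V, hVc, hVd, hVu, hVsub⟩ :=
    Groth.Agent.Lib.T2H1.WLocMain.hasClopenRefinements_of_isWLocal _ hB (Finset A) U hUopen hUcover
  choose Ek hEk using hVsub
  have hidem : ∀ k, ∃ e : B, IsIdempotentElem e ∧
      V k = (PrimeSpectrum.basicOpen e : Set (PrimeSpectrum B)) := fun k =>
    PrimeSpectrum.isClopen_iff.mp (hVc k)
  choose e he heV using hidem
  -- facts at a maximal ideal
  have hfacts : ∀ m : MaximalSpectrum B, ∃ k, e k ∉ m.asIdeal ∧ (∀ j, j ≠ k → e j ∈ m.asIdeal) ∧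
      zOf A B m ∈ stratum E (Ek k) := by
    intro m
    have hm : m.toPrimeSpectrum ∈ ⋃ k, V k := by rw [hVu]; exact Set.mem_univ _
    obtain ⟨k, hk⟩ := Set.mem_iUnion.mp hm
    refine ⟨k, ?_, ?_, ?_⟩
    · rw [heV k] at hk
      exact hk
    · intro j hj
      by_contra hne
      have hmj : m.toPrimeSpectrum ∈ V j := by rw [heV j]; exact hne
      exact Set.disjoint_left.mp (hVd hj) hmj hk
    · have h1 := hEk k hk
      by_contra hns
      exact h1 ⟨(PrimeSpectrum.isClosed_singleton_iff_isMaximal _).mpr m.isMaximal, hns⟩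
  let c : B := ∑ k, e k * algebraMap A B (a (Ek k))
  let d : B := ∑ k, e k * algebraMap A B (b (Ek k))
  have hcm : ∀ (m : MaximalSpectrum B) (k : Fin n), e k ∉ m.asIdeal →
      (∀ j, j ≠ k → e j ∈ m.asIdeal) →
      algebraMap B (Localization.AtPrime m.asIdeal) c =
        algebraMap B (Localization.AtPrime m.asIdeal) (algebraMap A B (a (Ek k))) := by
    intro m k hk hj
    show algebraMap B (Localization.AtPrime m.asIdeal) (∑ k, e k * algebraMap A B (a (Ek k))) = _
    rw [map_sum, Finset.sum_eq_single k]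
    · rw [map_mul, idem_map_eq_one (he k) hk, one_mul]
    · intro j _ hjk
      rw [map_mul, idem_map_eq_zero (he j) (hj j hjk), zero_mul]
    · intro h
      exact absurd (Finset.mem_univ k) h
  have hdm : ∀ (m : MaximalSpectrum B) (k : Fin n), e k ∉ m.asIdeal →
      (∀ j, j ≠ k → e j ∈ m.asIdeal) →
      algebraMap B (Localization.AtPrime m.asIdeal) d =
        algebraMap B (Localization.AtPrime m.asIdeal) (algebraMap A B (b (Ek k))) := by
    intro m k hk hj
    show algebraMap B (Localization.AtPrime m.asIdeal) (∑ k, e k * algebraMap A B (b (Ek k))) = _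
    rw [map_sum, Finset.sum_eq_single k]
    · rw [map_mul, idem_map_eq_one (he k) hk, one_mul]
    · intro j _ hjk
      rw [map_mul, idem_map_eq_zero (he j) (hj j hjk), zero_mul]
    · intro h
      exact absurd (Finset.mem_univ k) h
  have hbunit : ∀ (m : MaximalSpectrum B) (k : Fin n), zOf A B m ∈ stratum E (Ek k) →
      IsUnit (algebraMap B (Localization.AtPrime m.asIdeal) (algebraMap A B (b (Ek k)))) := by
    intro m k hz
    have hb : b (Ek k) ∉ (zOf A B m).asIdeal := (hab (Ek k) _ hz).1
    exact IsLocalization.map_units _ (⟨algebraMap A B (b (Ek k)), hb⟩ : m.asIdeal.primeCompl)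
  have hdu : IsUnit d := by
    by_contra hnu
    obtain ⟨M, hM, hdM⟩ := exists_max_ideal_of_mem_nonunits hnu
    obtain ⟨k, hk1, hk2, hk3⟩ := hfacts ⟨M, hM⟩
    have h1 := hdm ⟨M, hM⟩ k hk1 hk2
    have h2 := hbunit ⟨M, hM⟩ k hk3
    rw [← h1] at h2
    have h3 : algebraMap B (Localization.AtPrime M) d ∈
        IsLocalRing.maximalIdeal (Localization.AtPrime M) :=
      (IsLocalization.AtPrime.to_map_mem_maximal_iff _ M d).mpr hdM
    exact h3 h2
  refine ⟨c * ↑(hdu.unit⁻¹), fun m => ?_⟩
  obtain ⟨k, hk1, hk2, hk3⟩ := hfacts m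
  have hu := hbunit m k hk3
  apply hu.mul_right_cancel
  have hs := (hab (Ek k) _ hk3).2
  have e1 : locHom A B m (s.1 (zOf A B m)) *
      algebraMap B (Localization.AtPrime m.asIdeal) (algebraMap A B (b (Ek k))) =
      algebraMap B (Localization.AtPrime m.asIdeal) (algebraMap A B (a (Ek k))) := by
    rw [← locHom_algebraMap A B m (b (Ek k)), ← map_mul, hs, locHom_algebraMap]
  have hinv : (↑(hdu.unit⁻¹) : B) * d = 1 := by
    have := hdu.unit.inv_mul
    rwa [IsUnit.unit_spec] at this
  have e2 : algebraMap B (Localization.AtPrime m.asIdeal) (c * ↑(hdu.unit⁻¹)) *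
      algebraMap B (Localization.AtPrime m.asIdeal) (algebraMap A B (b (Ek k))) =
      algebraMap B (Localization.AtPrime m.asIdeal) (algebraMap A B (a (Ek k))) := by
    rw [← hdm m k hk1 hk2, ← hcm m k hk1 hk2, ← map_mul, mul_assoc, hinv, mul_one]
  rw [e1, e2]

end construction

section univ

variable {A B : Type u} [CommRing A] [CommRing B] [Algebra A B]

theorem eq_of_forall_localization {x y : B}
    (h : ∀ m : MaximalSpectrum B, algebraMap B (Localization.AtPrime m.asIdeal) x =
      algebraMap B (Localization.AtPrime m.asIdeal) y) : x = y :=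
  MaximalSpectrum.toPiLocalization_injective B (funext h)

/-- The underlying function of the universal map. -/
noncomputable def phiFun (hB : ProEtW.IsWLocal (PrimeSpectrum B)) (s : Aw A) : B :=
  Classical.choose (psi_mem_range hB s)

theorem phiFun_spec (hB : ProEtW.IsWLocal (PrimeSpectrum B)) (s : Aw A) (m : MaximalSpectrum B) :
    algebraMap B (Localization.AtPrime m.asIdeal) (phiFun hB s) =
      locHom A B m (s.1 (zOf A B m)) :=
  Classical.choose_spec (psi_mem_range hB s) m

/-- The universal map `A_w → B`. -/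
noncomputable def phi (hB : ProEtW.IsWLocal (PrimeSpectrum B)) : Aw A →ₐ[A] B where
  toFun := phiFun hB
  map_one' := eq_of_forall_localization fun m => by
    rw [phiFun_spec, map_one]
    exact map_one (locHom A B m)
  map_mul' s t := eq_of_forall_localization fun m => by
    rw [map_mul, phiFun_spec, phiFun_spec, phiFun_spec]
    exact map_mul (locHom A B m) _ _
  map_zero' := eq_of_forall_localization fun m => by
    rw [phiFun_spec, map_zero]
    exact map_zero (locHom A B m)
  map_add' s t := eq_of_forall_localization fun m => by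
    rw [map_add, phiFun_spec, phiFun_spec, phiFun_spec]
    exact map_add (locHom A B m) _ _
  commutes' r := eq_of_forall_localization fun m => by
    rw [phiFun_spec]
    exact locHom_algebraMap A B m r

theorem phi_spec (hB : ProEtW.IsWLocal (PrimeSpectrum B)) (s : Aw A) (m : MaximalSpectrum B) :
    algebraMap B (Localization.AtPrime m.asIdeal) (phi (A := A) hB s) =
      locHom A B m (s.1 (zOf A B m)) :=
  phiFun_spec hB s m

theorem comap_phi (hB : ProEtW.IsWLocal (PrimeSpectrum B)) (m : MaximalSpectrum B) :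
    Ideal.comap (phi (A := A) hB) m.asIdeal = mIdeal (zOf A B m) := by
  haveI := m.isMaximal
  symm
  refine (mIdeal_isMaximal (zOf A B m)).eq_of_le (Ideal.comap_ne_top _ m.isMaximal.ne_top) ?_
  intro s hs
  rw [mem_mIdeal] at hs
  rw [Ideal.mem_comap, ← IsLocalization.AtPrime.to_map_mem_maximal_iff
    (Localization.AtPrime m.asIdeal) m.asIdeal, phi_spec]
  haveI : IsLocalHom (locHom A B m) := Localization.isLocalHom_localRingHom _ _ _ _
  exact map_nonunit (locHom A B m) _ hs

theorem isWLocalMap_phi (hB : ProEtW.IsWLocal (PrimeSpectrum B)) :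
    ProEtW.IsWLocalMap (PrimeSpectrum.comap (phi (A := A) hB).toRingHom) := by
  refine ⟨Groth.Agent.Lib.Helper10.ProCons.isSpectralMap_comap _, fun x hx => ?_⟩
  have hmax := (PrimeSpectrum.isClosed_singleton_iff_isMaximal _).mp hx
  rw [PrimeSpectrum.isClosed_singleton_iff_isMaximal]
  have := comap_phi (A := A) hB ⟨x.asIdeal, hmax⟩
  show (Ideal.comap (phi (A := A) hB).toRingHom x.asIdeal).IsMaximal
  have h2 : Ideal.comap (phi (A := A) hB).toRingHom x.asIdeal =
      Ideal.comap (phi (A := A) hB) x.asIdeal := rfl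
  rw [h2, this]
  exact mIdeal_isMaximal _

theorem phi_unique (hB : ProEtW.IsWLocal (PrimeSpectrum B)) (φ' : Aw A →ₐ[A] B)
    (h : ProEtW.IsWLocalMap (PrimeSpectrum.comap φ'.toRingHom)) : φ' = phi hB := by
  apply AlgHom.ext
  intro s
  apply eq_of_forall_localization
  intro m
  rw [phi_spec]
  let q : Ideal (Aw A) := Ideal.comap φ' m.asIdeal
  haveI hqmax : q.IsMaximal := by
    have := h.2 m.toPrimeSpectrum
      ((PrimeSpectrum.isClosed_singleton_iff_isMaximal _).mpr m.isMaximal)
    exact (PrimeSpectrum.isClosed_singleton_iff_isMaximal _).mp this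
  haveI hqp : q.IsPrime := hqmax.isPrime
  have hz : zPt q = zOf A B m := by
    have h1 := eq_mIdeal_of_isMaximal q
    have h2 := comap_mIdeal (zPt q)
    apply PrimeSpectrum.ext
    rw [← h2, ← h1]
    ext r
    show φ' (algebraMap A (Aw A) r) ∈ m.asIdeal ↔ algebraMap A B r ∈ m.asIdeal
    rw [φ'.commutes]
  obtain ⟨a, b, hab⟩ :=
    IsLocalization.exists_mk'_eq (zOf A B m).asIdeal.primeCompl (s.1 (zOf A B m))
  have hsab : s.1 (zOf A B m) * algebraMap A (Localization.AtPrime (zOf A B m).asIdeal) b =
      algebraMap A (Localization.AtPrime (zOf A B m).asIdeal) a := by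
    rw [← hab]
    exact IsLocalization.mk'_spec _ a b
  have key : ∀ z' : PrimeSpectrum A, z' = zOf A B m →
      proj z' (s * algebraMap A (Aw A) b - algebraMap A (Aw A) a) = 0 := by
    rintro _ rfl
    rw [map_sub, map_mul, AlgHom.commutes, AlgHom.commutes, proj_apply, hsab, sub_self]
  obtain ⟨t, ht, hst⟩ := exists_kill q _ (key _ hz)
  have htu : IsUnit (algebraMap B (Localization.AtPrime m.asIdeal) (φ' t)) :=
    IsLocalization.map_units _ (⟨φ' t, ht⟩ : m.asIdeal.primeCompl)
  have hbu : IsUnit (algebraMap B (Localization.AtPrime m.asIdeal) (algebraMap A B (b : A))) :=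
    IsLocalization.map_units _ (⟨algebraMap A B (b : A), b.2⟩ : m.asIdeal.primeCompl)
  have h0 : algebraMap B (Localization.AtPrime m.asIdeal)
      (φ' (s * algebraMap A (Aw A) b - algebraMap A (Aw A) a)) = 0 := by
    apply htu.mul_right_cancel
    rw [zero_mul, ← map_mul, ← map_mul, hst, map_zero, map_zero]
  rw [map_sub, map_mul, AlgHom.commutes, AlgHom.commutes, map_sub, map_mul, sub_eq_zero] at h0
  apply hbu.mul_right_cancel
  rw [h0, ← locHom_algebraMap A B m (b : A), ← map_mul, hsab, locHom_algebraMap]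

end univ

end Groth.Agent.Lib.T2H1.WLocUniv
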