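import Mathlib
import Groth.Prelude.Def_ProEtW
import Groth.Prelude.Def_PBC
import Groth.Prelude.Def_EtBase
import Groth.Agent.Lib.T2H1WContrFinite
import Groth.Agent.Lib.T2H1WLocUniv
import Groth.Agent.Lib.T2H1WContrIso

set_option autoImplicit false
universe u

namespace Groth.Agent.Lib.T2H1.WContrQuot

open Groth.Agent.Lib.T2H1.WContrFinite

section quot

variable {A : Type u} [CommRing A]

set_option maxHeartbeats 1000000 in
/-- `π₀` of a quotient of a w-local ring by an ideal with quasi-compact open complement is
extremally disconnected if `π₀` of the ring is. -/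
theorem extremallyDisconnected_pi0_quotient (hA : ProEtW.IsWLocal (PrimeSpectrum A))
    (hED : ExtremallyDisconnected (ConnectedComponents (PrimeSpectrum A)))
    (I : Ideal A) (hB : ProEtW.IsWLocal (PrimeSpectrum (A ⧸ I)))
    (hI : IsCompact (PrimeSpectrum.zeroLocus (I : Set A))ᶜ) :
    ExtremallyDisconnected (ConnectedComponents (PrimeSpectrum (A ⧸ I))) := by
  let Xc := {x : PrimeSpectrum A // IsClosed ({x} : Set (PrimeSpectrum A))}
  let Yc := {y : PrimeSpectrum (A ⧸ I) // IsClosed ({y} : Set (PrimeSpectrum (A ⧸ I)))}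
  haveI : ExtremallyDisconnected Xc :=
    extremallyDisconnected_of_homeo (Groth.Agent.Lib.T2H1.IndZarRetr.closedPtsHomeo hA).symm
  have hmk : Function.Surjective (Ideal.Quotient.mk I) := Ideal.Quotient.mk_surjective
  have hemb := PrimeSpectrum.isClosedEmbedding_comap_of_surjective (A ⧸ I) _ hmk
  let g : Yc → Xc := fun y => ⟨PrimeSpectrum.comap (Ideal.Quotient.mk I) y.1,
    PrimeSpectrum.comap_singleton_isClosed_of_surjective _ _ hmk y.1 y.2⟩
  have hgval : (Subtype.val : Xc → PrimeSpectrum A) ∘ g =
      PrimeSpectrum.comap (Ideal.Quotient.mk I) ∘ (Subtype.val : Yc → PrimeSpectrum (A ⧸ I)) := rfl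
  have hgemb : Topology.IsEmbedding g := by
    have h1 : Topology.IsEmbedding ((Subtype.val : Xc → PrimeSpectrum A) ∘ g) := by
      rw [hgval]
      exact hemb.isEmbedding.comp Topology.IsEmbedding.subtypeVal
    exact Topology.IsEmbedding.of_comp
      (continuous_induced_rng.mpr h1.continuous) continuous_subtype_val h1
  have hrange : Set.range g = ((Subtype.val : Xc → PrimeSpectrum A) ⁻¹'
      ({x : PrimeSpectrum A | IsClosed ({x} : Set (PrimeSpectrum A))} ∩
        (PrimeSpectrum.zeroLocus (I : Set A))ᶜ))ᶜ := by
    ext x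
    simp only [Set.mem_range, Set.mem_compl_iff, Set.mem_preimage, Set.mem_inter_iff,
      Set.mem_setOf_eq, not_and, not_not]
    constructor
    · rintro ⟨y, rfl⟩ -
      have : PrimeSpectrum.comap (Ideal.Quotient.mk I) y.1 ∈
          Set.range (PrimeSpectrum.comap (Ideal.Quotient.mk I)) := ⟨_, rfl⟩
      rwa [range_comap_of_surjective _ _ hmk, Ideal.mk_ker] at this
    · intro h
      have h2 : x.1 ∈ Set.range (PrimeSpectrum.comap (Ideal.Quotient.mk I)) := by
        rw [range_comap_of_surjective _ _ hmk, Ideal.mk_ker]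
        exact h x.2
      obtain ⟨y, hy⟩ := h2
      have hyc : IsClosed ({y} : Set (PrimeSpectrum (A ⧸ I))) := by
        have h3 : ({y} : Set (PrimeSpectrum (A ⧸ I))) =
            PrimeSpectrum.comap (Ideal.Quotient.mk I) ⁻¹' {x.1} := by
          ext z
          simp only [Set.mem_singleton_iff, Set.mem_preimage]
          constructor
          · rintro rfl; exact hy
          · intro hz; exact hemb.injective (hz.trans hy.symm)
        rw [h3]
        exact x.2.preimage (PrimeSpectrum.continuous_comap _)
      exact ⟨⟨y, hyc⟩, Subtype.ext hy⟩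
  have hopen : IsOpen (Set.range g) := by
    rw [hrange, isOpen_compl_iff]
    exact (Groth.Agent.Lib.T2H1.WLocUniv.isClosed_closedPts_inter hA _ hI).preimage
      continuous_subtype_val
  have hgo : Topology.IsOpenEmbedding g := ⟨hgemb, hopen⟩
  haveI : ExtremallyDisconnected Yc := by
    apply Groth.Agent.Lib.T2H1.QFinED.extremallyDisconnected_of_local
    intro y
    refine ⟨Set.univ, isOpen_univ, Set.mem_univ y, Xc, inferInstance, inferInstance,
      g ∘ Subtype.val, hgo.comp (isOpen_univ.isOpenEmbedding_subtypeVal)⟩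
  exact extremallyDisconnected_of_homeo (Groth.Agent.Lib.T2H1.IndZarRetr.closedPtsHomeo hB)

/-- The quotient of a w-contractible ring by an ideal whose zero locus has quasi-compact
complement is w-contractible. -/
theorem isWContractible_quotient (h : EtPBC.IsWContractible A) (I : Ideal A)
    (hI : IsCompact (PrimeSpectrum.zeroLocus (I : Set A))ᶜ) :
    EtPBC.IsWContractible (A ⧸ I) := by
  obtain ⟨hA, hED, hsh⟩ := Groth.Agent.Lib.T2H1.WContrChar.forward A h
  have hh : ∀ (m : Ideal A) [m.IsMaximal], HenselianLocalRing (Localization.AtPrime m) := by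
    intro m _
    obtain ⟨h1, -⟩ := hsh m
    exact h1
  have hB : ProEtW.IsWLocal (PrimeSpectrum (A ⧸ I)) := isWLocal_of_finite hA hh
  refine Groth.Agent.Lib.T2H1.WContrChar.backward (A ⧸ I) hB
    (extremallyDisconnected_pi0_quotient hA hED I hB hI) ?_
  intro n hn
  haveI : Algebra.IsIntegral A (A ⧸ I) := Algebra.IsIntegral.of_finite A (A ⧸ I)
  haveI hm : (n.comap (algebraMap A (A ⧸ I))).IsMaximal :=
    Ideal.isMaximal_comap_of_isIntegral_of_isMaximal (R := A) n
  exact strictlyHenselian_of_finite n _ rfl (hsh _)

/-- Surjective images of w-contractible rings along maps whose image on spectra has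
quasi-compact complement are w-contractible. -/
theorem isWContractible_of_surjective {B : Type u} [CommRing B] (φ : A →+* B)
    (hφ : Function.Surjective φ) (h : EtPBC.IsWContractible A)
    (hc : IsCompact (Set.range (PrimeSpectrum.comap φ))ᶜ) : EtPBC.IsWContractible B := by
  rw [range_comap_of_surjective _ _ hφ] at hc
  exact Groth.Agent.Lib.T2H1.WContrIso.isWContractible_of_ringEquiv
    (RingHom.quotientKerEquivOfSurjective hφ) (isWContractible_quotient h (RingHom.ker φ) hc)

end quot

end Groth.Agent.Lib.T2H1.WContrQuot
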