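import Mathlib
import Groth.Prelude.Def_ProEtS
import Groth.Prelude.Def_PBC
import Groth.Agent.Lib.T2H1ProEtPushExact
import Groth.Agent.Lib.T2H1WContrQuot

set_option autoImplicit false
open CategoryTheory CategoryTheory.Limits AlgebraicGeometry Opposite
universe u

namespace Groth.Agent.Lib.T2H1.ProEtPushExactCI

open Groth.Agent.Lib.Helper9.ProEt Groth.Agent.Lib.Helper9.WC
  Groth.Agent.Lib.T2H1.ProEtPushExact

section closedImm

variable {Z X : Scheme.{u}} (i : Z ⟶ X) [IsClosedImmersion i]

/-- Preimages of retrocompact opens under morphisms from quasi-compact schemes are quasi-compact. -/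
theorem isCompact_preimage_of_isRetrocompact {W X : Scheme.{u}} (f : W ⟶ X) [CompactSpace W]
    (t : Set X) (ht : IsOpen t) (ht' : IsRetrocompact t) : IsCompact (f ⁻¹' t) := by
  have h : IsRetrocompact (f ⁻¹' t) :=
    IsRetrocompact_iff_isSpectralMap_subtypeVal.mpr
      (quasiCompact_iff_isSpectralMap.mp
      (MorphismProperty.of_isPullback (P := @QuasiCompact)
      (isPullback_morphismRestrict f ⟨t, ht⟩)
      (quasiCompact_iff_isSpectralMap.mpr (IsRetrocompact_iff_isSpectralMap_subtypeVal.mp ht'))))
  exact h.isCompact

set_option backward.isDefEq.respectTransparency false in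
/-- Base change along a closed immersion with retrocompact complement preserves affine weakly
contractible objects. -/
theorem isWC_bcP (hr : IsRetrocompact (Set.range i.base)ᶜ) (W : X.ProEt) (hW : IsAffine W.left)
    (hc : EtPBC.IsWContractible ↥(Γ(W.left, ⊤))) : ProEtS.IsWC ((ProEtS.bcP i).obj W) := by
  let p : pullback W.hom i ⟶ W.left := pullback.fst W.hom i
  haveI : IsClosedImmersion p :=
    MorphismProperty.pullback_fst (P := @IsClosedImmersion) _ _ inferInstance
  obtain ⟨hY, hsurj⟩ := IsClosedImmersion.isAffine_surjective_of_isAffine p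
  haveI : IsAffine (pullback W.hom i) := hY
  haveI : IsAffine ((ProEtS.bcP i).obj W).left := hY
  rw [← isWContractible_iff_isWC]
  refine Groth.Agent.Lib.T2H1.WContrQuot.isWContractible_of_surjective p.appTop.hom hsurj hc ?_
  -- the complement of the range is quasi-compact
  haveI : CompactSpace W.left := inferInstance
  have hT : IsCompact (W.hom ⁻¹' (Set.range i.base)ᶜ) :=
    isCompact_preimage_of_isRetrocompact (W := W.left) W.hom _
      i.isClosedEmbedding.isClosed_range.isOpen_compl hr
  have hrange : Set.range p = W.hom ⁻¹' Set.range i := Scheme.Pullback.range_fst W.hom i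
  have hnat : (pullback W.hom i).isoSpec.hom ≫ Spec.map p.appTop = p ≫ W.left.isoSpec.hom :=
    Scheme.isoSpec_hom_naturality p
  have hrange2 : Set.range (Spec.map p.appTop) = W.left.isoSpec.hom '' Set.range p := by
    have h1 : Set.range ((pullback W.hom i).isoSpec.hom ≫ Spec.map p.appTop) =
        Set.range (Spec.map p.appTop) := by
      rw [Scheme.Hom.comp_base, TopCat.coe_comp, Set.range_comp,
        Set.range_eq_univ.mpr (pullback W.hom i).isoSpec.hom.surjective, Set.image_univ]
    rw [← h1, hnat, Scheme.Hom.comp_base, TopCat.coe_comp, Set.range_comp]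
  have hcompl : (Set.range (PrimeSpectrum.comap p.appTop.hom))ᶜ =
      W.left.isoSpec.hom '' (W.hom ⁻¹' (Set.range i.base)ᶜ) := by
    have h2 : Set.range (PrimeSpectrum.comap p.appTop.hom) = Set.range (Spec.map p.appTop) := rfl
    rw [h2, hrange2, hrange]
    exact (Set.image_compl_eq (f := W.left.isoSpec.hom)
      W.left.isoSpec.hom.homeomorph.bijective).symm
  rw [hcompl]
  exact hT.image W.left.isoSpec.hom.continuous

theorem main (hr : IsRetrocompact (Set.range i.base)ᶜ) [ProEtS.PCont i] :
    PreservesFiniteLimits (ProEtS.pushP i) ∧ PreservesFiniteColimits (ProEtS.pushP i) :=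
  exact_of_epi i fun φ _ => epi_pushP_map i (isWC_bcP i hr) φ

end closedImm

end Groth.Agent.Lib.T2H1.ProEtPushExactCI
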