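import Mathlib
import Groth.Prelude.Def_ProEtS
import Groth.Prelude.Def_PBC
import Groth.Agent.Lib.Helper9WC3
import Groth.Agent.Lib.T2H1ProEtWCCover

set_option autoImplicit false
set_option backward.isDefEq.respectTransparency false
open CategoryTheory CategoryTheory.Limits AlgebraicGeometry Opposite
open Groth.Agent.Lib.Helper9.ProEt Groth.Agent.Lib.Helper9.WC
universe u w

namespace Groth.Agent.Lib.T2H1.ProEtWCSingle

variable {X : Scheme.{u}}

/-- Open covers are coverings of the pro-étale site. -/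
theorem openCover_mem_topology (U : X.ProEt) {κ : Type w} (W : κ → U.left.Opens)
    (hW : ∀ x : U.left, ∃ k, x ∈ W k) :
    Sieve.ofArrows (fun k => openObj X U (W k)) (fun k => openHom X U (W k)) ∈
      Scheme.ProEt.topology X U := by
  rw [mem_topology_iff]
  refine ⟨Presieve.ofArrows _ (fun k => openHom X U (W k)), ?_, Sieve.le_generate _⟩
  rw [mem_precoverage_iff, Presieve.map_ofArrows]
  refine Scheme.zariskiPrecoverage_le_propQCPrecoverage _ ?_
  show Presieve.ofArrows (fun k => ((W k : U.left.Opens) : Scheme.{u})) (fun k => (W k).ι) ∈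
    Scheme.precoverage @IsOpenImmersion U.left
  rw [Scheme.ofArrows_mem_precoverage_iff]
  refine ⟨fun x => ?_, fun k => inferInstance⟩
  obtain ⟨k, hk⟩ := hW x
  exact ⟨k, ⟨x, hk⟩, rfl⟩

/-- Composition of coverings. -/
theorem ofArrows_comp_mem_topology {U : X.ProEt} {κ : Type w} (Z : κ → X.ProEt)
    (f : ∀ k, Z k ⟶ U) (hf : Sieve.ofArrows Z f ∈ Scheme.ProEt.topology X U)
    (V : κ → X.ProEt) (g : ∀ k, V k ⟶ Z k)
    (hg : ∀ k, Sieve.ofArrows (fun _ : Unit => V k) (fun _ => g k) ∈
      Scheme.ProEt.topology X (Z k)) :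
    Sieve.ofArrows V (fun k => g k ≫ f k) ∈ Scheme.ProEt.topology X U := by
  refine (Scheme.ProEt.topology X).transitive hf _ ?_
  rintro Y h ⟨Y', a, b, ⟨k⟩, rfl⟩
  rw [Sieve.pullback_comp]
  refine (Scheme.ProEt.topology X).pullback_stable a ?_
  refine (Scheme.ProEt.topology X).superset_covering ?_ (hg k)
  rintro T c ⟨T', d, e, ⟨_⟩, rfl⟩
  show (Sieve.ofArrows V fun k => g k ≫ f k) ((d ≫ g k) ≫ f k)
  rw [Category.assoc]
  exact Sieve.downward_closed _ (Sieve.ofArrows_mk V (fun k => g k ≫ f k) k) d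

/-- A finite coproduct of weakly contractible objects is weakly contractible. -/
theorem isWC_sig {n : ℕ} (V : Fin n → X.ProEt) (hV : ∀ k, ProEtS.IsWC (V k)) :
    ProEtS.IsWC (sig V) := by
  intro F G φ hφ t
  have h1 : ∀ k, ∃ s : F.obj.obj (op (V k)), φ.hom.app (op (V k)) s =
      G.obj.map (sigι V k).op t := fun k => hV k F G φ hφ _
  choose s hs using h1
  obtain ⟨s', hs'⟩ := sig_glue V F s
  refine ⟨s', ?_⟩
  apply sig_ext V G
  intro k
  have h2 := FunctorToTypes.naturality φ.hom (sigι V k).op s'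
  rw [← h2, hs' k, hs k]

/-- A quasi-compact object of the pro-étale site is covered by a single affine weakly
contractible object. -/
theorem main_compact (U : X.ProEt) [CompactSpace U.left] :
    ∃ (V : X.ProEt) (g : V ⟶ U),
      Sieve.generate (Presieve.singleton g) ∈ Scheme.ProEt.topology X U ∧ IsAffine V.left ∧
        ProEtS.IsWC V := by
  obtain ⟨Us, hUs, hUf, hUc⟩ :=
    U.left.isBasis_affineOpens.exists_finite_of_isCompact (U := ⊤) isCompact_univ
  haveI : Finite Us := hUf
  obtain ⟨n, ⟨e⟩⟩ := Finite.exists_equiv_fin Us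
  let W : Fin n → U.left.Opens := fun k => (e.symm k).1
  have hWaff : ∀ k, IsAffineOpen (W k) := fun k => hUs (e.symm k).2
  have hWcov : ∀ x : U.left, ∃ k, x ∈ W k := by
    intro x
    have hx : x ∈ (⊤ : U.left.Opens) := trivial
    rw [hUc] at hx
    obtain ⟨u, hu, hxu⟩ := TopologicalSpace.Opens.mem_sSup.mp hx
    refine ⟨e ⟨u, hu⟩, ?_⟩
    show x ∈ (e.symm (e ⟨u, hu⟩)).1
    rw [e.symm_apply_apply]
    exact hxu
  let Z : Fin n → X.ProEt := fun k => openObj X U (W k)
  haveI : ∀ k, IsAffine (Z k).left := fun k => hWaff k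
  have key : ∀ k, ∃ (V : X.ProEt) (g : V ⟶ Z k), IsAffine V.left ∧
      EtPBC.IsWContractible ↥(Γ(V.left, ⊤)) ∧
      Set.range g.left = ((⊤ : (Z k).left.Opens) : Set (Z k).left) := fun k =>
    Groth.Agent.Lib.T2H1.ProEtWCCover.exists_affine_wContractible_over (Z k) ⊤
      (isAffineOpen_top _)
  choose V g h1 h2 h3 using key
  haveI : ∀ k, IsAffine (V k).left := h1
  have hcov1 := openCover_mem_topology U W hWcov
  have hg : ∀ k, Sieve.ofArrows (fun _ : Unit => V k) (fun _ => g k) ∈
      Scheme.ProEt.topology X (Z k) := by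
    intro k
    refine ofArrows_mem_topology X _ _ ?_
    intro x
    have hx : x ∈ Set.range (g k).left := by
      rw [h3 k]
      trivial
    obtain ⟨z, hz⟩ := hx
    exact ⟨(), z, hz⟩
  have hcomp := ofArrows_comp_mem_topology Z (fun k => openHom X U (W k)) hcov1 V g hg
  refine ⟨sig V, sigDesc V (fun k => g k ≫ openHom X U (W k)), ?_, inferInstance,
    isWC_sig V (fun k => (isWContractible_iff_isWC (V k)).mp (h2 k))⟩
  refine (Scheme.ProEt.topology X).superset_covering ?_ hcomp
  rintro T c ⟨T', d, e', ⟨k⟩, rfl⟩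
  refine ⟨sig V, d ≫ sigι V k, sigDesc V (fun k => g k ≫ openHom X U (W k)),
    Presieve.singleton_self _, ?_⟩
  rw [Category.assoc, sigι_desc]

end Groth.Agent.Lib.T2H1.ProEtWCSingle
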