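import Mathlib
import Groth.Prelude.Def_ProEtS
import Groth.Prelude.Def_PBC
import Groth.Agent.Lib.Helper9WC3
import Groth.Agent.Lib.T2H1ProEtWCSingle

set_option autoImplicit false
set_option backward.isDefEq.respectTransparency false
open CategoryTheory CategoryTheory.Limits AlgebraicGeometry Opposite
open Groth.Agent.Lib.Helper9.ProEt Groth.Agent.Lib.Helper9.WC
universe u w

namespace Groth.Agent.Lib.T2H1.ProEtSigI

variable {X : Scheme.{u}}

section coprodI

variable {ι : Type u} (Z : ι → X.ProEt)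

instance weaklyEtale_sigmaDesc : WeaklyEtale (Sigma.desc (fun k => (Z k).hom)) :=
  IsZariskiLocalAtSource.sigmaDesc (P := @WeaklyEtale) (fun k => (Z k).prop)

/-- the coproduct in the pro-étale site -/
noncomputable def sigI : X.ProEt := Scheme.ProEt.mk (Sigma.desc (fun k => (Z k).hom))

/-- the coprojections -/
noncomputable def sigIι (k : ι) : Z k ⟶ sigI Z :=
  MorphismProperty.Over.homMk (Sigma.ι (fun k => (Z k).left) k)
    (Sigma.ι_desc (fun k => (Z k).hom) k) trivial

/-- the induced morphism -/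
noncomputable def sigIDesc {U : X.ProEt} (g : ∀ k, Z k ⟶ U) : sigI Z ⟶ U :=
  MorphismProperty.Over.homMk (Sigma.desc (fun k => (g k).left)) (by
    apply Sigma.hom_ext
    intro k
    have h1 : Sigma.ι (fun k => (Z k).left) k ≫ (Sigma.desc fun k => (g k).left) ≫ U.hom =
        (Z k).hom := by
      rw [← Category.assoc, Sigma.ι_desc (fun k => (g k).left) k]
      exact CategoryTheory.Over.w (g k).hom
    exact h1.trans (Sigma.ι_desc (fun k => (Z k).hom) k).symm) trivial

lemma sigIι_desc {U : X.ProEt} (g : ∀ k, Z k ⟶ U) (k : ι) :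
    sigIι Z k ≫ sigIDesc Z g = g k := by
  apply MorphismProperty.Over.Hom.ext
  exact Sigma.ι_desc (fun k => (g k).left) k

set_option backward.isDefEq.respectTransparency.types false in
lemma sigIι_mem_topology : Sieve.ofArrows Z (sigIι Z) ∈ Scheme.ProEt.topology X (sigI Z) := by
  rw [mem_topology_iff]
  refine ⟨Presieve.ofArrows Z (sigIι Z), ?_, Sieve.le_generate _⟩
  rw [mem_precoverage_iff, Presieve.map_ofArrows]
  refine Scheme.zariskiPrecoverage_le_propQCPrecoverage _ ?_
  exact (sigmaOpenCover (fun k => (Z k).left)).mem₀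

instance (k : ι) : Mono (sigIι Z k) := by
  apply (Fg X).mono_of_mono_map
  change Mono (Sigma.ι (fun k => (Z k).left) k)
  infer_instance

/-- gluing sections of a sheaf of sets along a coproduct -/
lemma sigI_glue (F : Sheaf (Scheme.ProEt.topology X) (Type w)) (x : ∀ k, F.obj.obj (op (Z k))) :
    ∃ t : F.obj.obj (op (sigI Z)), ∀ k, F.obj.map (sigIι Z k).op t = x k := by
  classical
  have hsh := (isSheaf_iff_isSheaf_of_type _ _).1 F.property
  have h1 : (Presieve.ofArrows Z (sigIι Z)).IsSheafFor F.obj :=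
    hsh.isSheafFor _ (sigIι_mem_topology Z)
  rw [Presieve.isSheafFor_arrows_iff] at h1
  have hc : Presieve.Arrows.Compatible F.obj (sigIι Z) x := by
    intro i j T gi gj hg
    by_cases hij : i = j
    · subst hij
      rw [(cancel_mono (sigIι Z i)).1 hg]
    · haveI : IsEmpty T.left := by
        have hg' : gi.left ≫ Sigma.ι (fun k => (Z k).left) i =
            gj.left ≫ Sigma.ι (fun k => (Z k).left) j := congrArg (fun f => f.left) hg
        exact isEmpty_of_commSq_sigmaι_of_ne ⟨hg'⟩ hij
      haveI := subsingleton_of_isEmpty F T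
      exact Subsingleton.elim _ _
  obtain ⟨t, ht, -⟩ := h1 x hc
  exact ⟨t, ht⟩

lemma sigI_ext (F : Sheaf (Scheme.ProEt.topology X) (Type w)) (t t' : F.obj.obj (op (sigI Z)))
    (h : ∀ k, F.obj.map (sigIι Z k).op t = F.obj.map (sigIι Z k).op t') : t = t' := by
  have hsh := (isSheaf_iff_isSheaf_of_type _ _).1 F.property
  refine (hsh.isSeparated _ (sigIι_mem_topology Z)).ext ?_
  rintro T f ⟨Y, a, b, ⟨k⟩, rfl⟩
  rw [op_comp, Functor.map_comp]
  exact congrArg (F.obj.map a.op) (h k)

/-- A coproduct of weakly contractible objects is weakly contractible. -/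
theorem isWC_sigI (hV : ∀ k, ProEtS.IsWC (Z k)) : ProEtS.IsWC (sigI Z) := by
  intro F G φ hφ t
  have h1 : ∀ k, ∃ s : F.obj.obj (op (Z k)), φ.hom.app (op (Z k)) s =
      G.obj.map (sigIι Z k).op t := fun k => hV k F G φ hφ _
  choose s hs using h1
  obtain ⟨s', hs'⟩ := sigI_glue Z F s
  refine ⟨s', ?_⟩
  apply sigI_ext Z G
  intro k
  have h2 := FunctorToTypes.naturality φ.hom (sigIι Z k).op s'
  rw [← h2, hs' k, hs k]

end coprodI

/-- Every object of the pro-étale site is covered by a single weakly contractible object. -/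
theorem main (U : X.ProEt) :
    ∃ (V : X.ProEt) (g : V ⟶ U),
      Sieve.generate (Presieve.singleton g) ∈ Scheme.ProEt.topology X U ∧ ProEtS.IsWC V := by
  have key : ∀ i : U.left.affineOpens, ∃ (V : X.ProEt) (g : V ⟶ U), IsAffine V.left ∧
      EtPBC.IsWContractible ↥(Γ(V.left, ⊤)) ∧ Set.range g.left = (i.1 : Set U.left) :=
    fun i => Groth.Agent.Lib.T2H1.ProEtWCCover.exists_affine_wContractible_over U i.1 i.2
  choose V g h1 h2 h3 using key
  haveI : ∀ i, IsAffine (V i).left := h1
  haveI : ∀ i, CompactSpace (V i).left := fun i => inferInstance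
  have hcov : Sieve.generate (Presieve.ofArrows V g) ∈ Scheme.ProEt.topology X U :=
    Groth.Agent.Lib.T2H1.ProEtWCCover.ofArrows_mem_topology_of_affineOpens V g
      (fun W hW => ⟨⟨W, hW⟩, h3 ⟨W, hW⟩⟩)
  refine ⟨sigI V, sigIDesc V g, ?_,
    isWC_sigI V (fun k => (isWContractible_iff_isWC (V k)).mp (h2 k))⟩
  refine (Scheme.ProEt.topology X).superset_covering ?_ hcov
  rintro T c ⟨T', d, e', ⟨k⟩, rfl⟩
  refine ⟨sigI V, d ≫ sigIι V k, sigIDesc V g, Presieve.singleton_self _, ?_⟩
  rw [Category.assoc, sigIι_desc]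

end Groth.Agent.Lib.T2H1.ProEtSigI
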