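import Mathlib
import Groth.Agent.Lib.T2H1UCCore
import Groth.Agent.Lib.Helper12LargestOpen
import Groth.Agent.Lib.Helper15OpenSub
import Groth.Agent.S9908
import Groth.Agent.S9909
import Groth.Agent.S9922
import Groth.Agent.S10180

/-!
# Universal closedness can be tested on affine spaces: reductions (helper1)
-/

set_option autoImplicit false
universe u
open CategoryTheory CategoryTheory.Limits AlgebraicGeometry TopologicalSpace
open AlgSp

namespace Groth.Agent.Lib.T2H1.UCRed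

variable {S : Scheme.{u}}

/-- closedness on points passes to the base change along an open immersion. -/
lemma isClosedMap_of_isPullback_open {P₀ P₁ Z₀ Z₁ : AlgSp.Sp S} (jP : P₀ ⟶ P₁) (snd₀ : P₀ ⟶ Z₀)
    (snd₁ : P₁ ⟶ Z₁) (j : Z₀ ⟶ Z₁) (sq : IsPullback jP snd₀ snd₁ j)
    (hj : AlgSp.RepWith @IsOpenImmersion j) (h₁ : IsClosedMap (AlgSp.Points.map snd₁)) :
    IsClosedMap (AlgSp.Points.map snd₀) := by
  have hjP : AlgSp.RepWith @IsOpenImmersion jP :=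
    MorphismProperty.of_isPullback (P := AlgSp.RepWith @IsOpenImmersion) sq.flip hj
  have hinj := Groth.Agent.Lib.Helper12.LargestOpen.injective_map_of_open jP hjP
  have hopen : IsOpenMap (AlgSp.Points.map jP) :=
    Groth.Agent.S9908.isOpenMap_map_of_repWith jP
      (Groth.Agent.Lib.Helper15OpenSub.repWith_mono
        (fun _ _ g hg => by haveI : IsOpenImmersion g := hg; infer_instance) hjP)
  intro C₀ hC₀
  rw [← isOpen_compl_iff, isOpen_iff_forall_mem_open]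
  intro z₀ hz₀
  refine ⟨AlgSp.Points.map j ⁻¹'
    (AlgSp.Points.map snd₁ '' closure (AlgSp.Points.map jP '' C₀))ᶜ, ?_, ?_, ?_⟩
  · rintro z hz ⟨c₀, hc₀, rfl⟩
    refine hz ⟨AlgSp.Points.map jP c₀, subset_closure ⟨c₀, hc₀, rfl⟩, ?_⟩
    rw [← AlgSp.Points.map_comp, ← AlgSp.Points.map_comp, sq.w]
  · exact (h₁ _ isClosed_closure).isOpen_compl.preimage (AlgSp.Points.continuous_map j)
  · rintro ⟨c₁, hc₁, hc₁z⟩
    obtain ⟨c₀, hc₀1, hc₀2⟩ := Groth.Agent.S10175.exists_point_of_isPullback sq c₁ z₀ hc₁z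
    refine hz₀ ⟨c₀, ?_, hc₀2⟩
    rw [← hC₀.closure_eq, mem_closure_iff]
    intro N hN hcN
    obtain ⟨_, ⟨n, hn, rfl⟩, ⟨c, hc, hcn⟩⟩ := mem_closure_iff.1 hc₁ _ (hopen N hN)
      ⟨c₀, hcN, hc₀1⟩
    rw [hinj hcn] at hc
    exact ⟨n, hn, hc⟩

/-- the affine-space hypothesis over `V` restricts to open subschemes `V' ⊆ V`. -/
lemma affineSpace_hyp_restrict {X Y X' : AlgSp.Sp S} (f : X ⟶ Y) {V V' : Over S}
    (p : (AlgSp.yon S).obj V ⟶ Y) (ι : V' ⟶ V) [IsOpenImmersion ι.left]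
    (b : X' ⟶ X) (f' : X' ⟶ (AlgSp.yon S).obj V')
    (sqX : IsPullback b f' f ((AlgSp.yon S).map ι ≫ p))
    (H : ∀ (n : ℕ) (P : AlgSp.Sp S) (fst : P ⟶ X)
        (snd : P ⟶ (AlgSp.yon S).obj
          (Over.mk ((𝔸(ULift.{u} (Fin n); V.left) ↘ V.left) ≫ V.hom))),
        IsPullback fst snd f
          ((AlgSp.yon S).map (Over.homMk (𝔸(ULift.{u} (Fin n); V.left) ↘ V.left)) ≫ p) →
        IsClosedMap (AlgSp.Points.map snd))
    (n : ℕ) (P : AlgSp.Sp S) (fst : P ⟶ X')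
    (snd : P ⟶ (AlgSp.yon S).obj
      (Over.mk ((𝔸(ULift.{u} (Fin n); V'.left) ↘ V'.left) ≫ V'.hom)))
    (sq : IsPullback fst snd f'
      ((AlgSp.yon S).map (Over.homMk (𝔸(ULift.{u} (Fin n); V'.left) ↘ V'.left)))) :
    IsClosedMap (AlgSp.Points.map snd) := by
  let Z₀ : Over S := Over.mk ((𝔸(ULift.{u} (Fin n); V'.left) ↘ V'.left) ≫ V'.hom)
  let Z₁ : Over S := Over.mk ((𝔸(ULift.{u} (Fin n); V.left) ↘ V.left) ≫ V.hom)
  let τ₀ : Z₀ ⟶ V' := Over.homMk (𝔸(ULift.{u} (Fin n); V'.left) ↘ V'.left) rfl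
  let τ₁ : Z₁ ⟶ V := Over.homMk (𝔸(ULift.{u} (Fin n); V.left) ↘ V.left) rfl
  let j : Z₀ ⟶ Z₁ := Over.homMk (AffineSpace.map (ULift.{u} (Fin n)) ι.left) (by
    change AffineSpace.map (ULift.{u} (Fin n)) ι.left ≫
      (𝔸(ULift.{u} (Fin n); V.left) ↘ V.left) ≫ V.hom =
      (𝔸(ULift.{u} (Fin n); V'.left) ↘ V'.left) ≫ V'.hom
    rw [AffineSpace.map_over_assoc, Over.w ι])
  have hj : j ≫ τ₁ = τ₀ ≫ ι := by
    ext
    exact AffineSpace.map_over ι.left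
  haveI : IsOpenImmersion j.left :=
    MorphismProperty.of_isPullback (P := @IsOpenImmersion)
      (AffineSpace.isPullback_map (n := ULift.{u} (Fin n)) ι.left).flip inferInstance
  have hjo : AlgSp.RepWith @IsOpenImmersion ((AlgSp.yon S).map j) :=
    (AlgSp.repWith_yon_map_iff _ _).2 inferInstance
  have sq' : IsPullback (fst ≫ b) snd f ((AlgSp.yon S).map τ₀ ≫ (AlgSp.yon S).map ι ≫ p) :=
    sq.paste_horiz sqX
  have e : (AlgSp.yon S).map τ₀ ≫ (AlgSp.yon S).map ι ≫ p =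
      (AlgSp.yon S).map j ≫ (AlgSp.yon S).map τ₁ ≫ p := by
    rw [← Category.assoc, ← Functor.map_comp, ← hj, Functor.map_comp, Category.assoc]
  rw [e] at sq'
  have sq₁ := IsPullback.of_hasPullback f ((AlgSp.yon S).map τ₁ ≫ p)
  have hcl₁ := H n _ _ _ sq₁
  have hw : (fst ≫ b) ≫ f = (snd ≫ (AlgSp.yon S).map j) ≫ (AlgSp.yon S).map τ₁ ≫ p := by
    rw [sq'.w, Category.assoc]
  refine isClosedMap_of_isPullback_open (pullback.lift _ _ hw) snd _ ((AlgSp.yon S).map j) ?_ hjo hcl₁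
  refine IsPullback.of_right ?_ (pullback.lift_snd _ _ hw) sq₁
  rw [pullback.lift_fst]
  exact sq'

/-- closedness on points can be tested locally on test schemes, for families of open maps. -/
lemma isClosedMap_map_of_local {Z Z' : AlgSp.Sp S} (snd : Z' ⟶ Z)
    (h : ∀ (T : Over S) (c : (AlgSp.yon S).obj T ⟶ Z) (x : ↥T.left),
      ∃ (W : Over S) (d : W ⟶ T), IsOpenMap d.left ∧ x ∈ Set.range d.left ∧
        ∀ (P : AlgSp.Sp S) (pr : P ⟶ Z') (sndW : P ⟶ (AlgSp.yon S).obj W),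
          IsPullback pr sndW snd ((AlgSp.yon S).map d ≫ c) →
          IsClosedMap (AlgSp.Points.map sndW)) :
    IsClosedMap (AlgSp.Points.map snd) := by
  intro A hA
  rw [Groth.Agent.S9922.isClosed_iff]
  intro T c
  rw [← isOpen_compl_iff, isOpen_iff_forall_mem_open]
  intro x hx
  obtain ⟨W, d, hd, ⟨w, rfl⟩, hW⟩ := h T c x
  have sq := IsPullback.of_hasPullback snd ((AlgSp.yon S).map d ≫ c)
  have hcl := hW _ _ _ sq
  have hB : d.left ⁻¹' (AlgSp.Points.ofPt c ⁻¹' (AlgSp.Points.map snd '' A)) =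
      AlgSp.Points.schemeHomeo W ⁻¹' (AlgSp.Points.map (pullback.snd snd ((AlgSp.yon S).map d ≫ c)) ''
        (AlgSp.Points.map (pullback.fst snd ((AlgSp.yon S).map d ≫ c)) ⁻¹' A)) := by
    rw [← Groth.Agent.S9909.preimage_map_image sq A]
    ext y
    simp only [Set.mem_preimage]
    rw [← Groth.Agent.S10176.ofPt_map_comp, AlgSp.Points.ofPt_eq_map_ofScheme]
    rfl
  have hBc : IsClosed (d.left ⁻¹' (AlgSp.Points.ofPt c ⁻¹' (AlgSp.Points.map snd '' A))) := by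
    rw [hB]
    exact (hcl _ (hA.preimage (AlgSp.Points.continuous_map _))).preimage
      (AlgSp.Points.schemeHomeo W).continuous
  refine ⟨d.left '' (d.left ⁻¹' (AlgSp.Points.ofPt c ⁻¹' (AlgSp.Points.map snd '' A)))ᶜ, ?_,
    hd _ hBc.isOpen_compl, ⟨w, hx, rfl⟩⟩
  rintro _ ⟨y, hy, rfl⟩
  exact hy

/-- every map from a scheme to a sheaf with a given étale surjective chart `V` factors, locally on
the source for the étale topology, through affine opens of `V`. -/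
theorem exists_refinement_atlas {Y : AlgSp.Sp S} {T V : Over S} (c : (AlgSp.yon S).obj T ⟶ Y)
    (p : (AlgSp.yon S).obj V ⟶ Y) (hpe : AlgSp.RepWith @Etale p)
    (hps : AlgSp.RepWith @Surjective p) (x : ↥T.left) :
    ∃ (W : Over S) (d : W ⟶ T) (V' : V.left.Opens) (h : W ⟶ Over.mk (V'.ι ≫ V.hom)),
      IsAffine W.left ∧ IsAffineOpen V' ∧ IsOpenMap d.left ∧ x ∈ Set.range d.left ∧
        (AlgSp.yon S).map d ≫ c = (AlgSp.yon S).map h ≫
          (AlgSp.yon S).map (Over.homMk V'.ι rfl : Over.mk (V'.ι ≫ V.hom) ⟶ V) ≫ p := by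
  obtain ⟨U₀, w₀, pr, sq⟩ := hpe.1 c
  obtain ⟨v₀, rfl⟩ := (AlgSp.yon S).map_surjective pr
  haveI : Etale w₀.left := hpe.2 c _ w₀ sq
  haveI : Surjective w₀.left := hps.2 c _ w₀ sq
  obtain ⟨t, rfl⟩ := w₀.left.surjective x
  obtain ⟨_, ⟨Wt₀, hWt, rfl⟩, htW, -⟩ :=
    V.left.isBasis_affineOpens.exists_subset_of_mem_open (Set.mem_univ (v₀.left t)) isOpen_univ
  obtain ⟨Wt, hWt₀⟩ : ∃ Wt : V.left.Opens, Wt = Wt₀ := ⟨Wt₀, rfl⟩
  subst hWt₀
  obtain ⟨_, ⟨Ut₀, hUt, rfl⟩, htU, hUW⟩ :=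
    U₀.left.isBasis_affineOpens.exists_subset_of_mem_open
      (show t ∈ ((v₀.left ⁻¹ᵁ Wt : U₀.left.Opens) : Set U₀.left) from htW)
      (v₀.left ⁻¹ᵁ Wt).2
  obtain ⟨Ut, hUt₀⟩ : ∃ Ut : U₀.left.Opens, Ut = Ut₀ := ⟨Ut₀, rfl⟩
  subst hUt₀
  let A' : Over S := Over.mk (Ut.ι ≫ U₀.hom)
  let ιU : A' ⟶ U₀ := Over.homMk Ut.ι rfl
  let ιW : Over.mk (Wt.ι ≫ V.hom) ⟶ V := Over.homMk Wt.ι rfl
  have hrange : Set.range (Ut.ι ≫ v₀.left) ⊆ Set.range Wt.ι := by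
    rintro _ ⟨y, rfl⟩
    rw [Scheme.Opens.range_ι]
    exact hUW y.2
  let h₀ : (Ut : Scheme.{u}) ⟶ (Wt : Scheme.{u}) := IsOpenImmersion.lift Wt.ι (Ut.ι ≫ v₀.left) hrange
  have hh₀ : h₀ ≫ Wt.ι = Ut.ι ≫ v₀.left := IsOpenImmersion.lift_fac _ _ _
  let h : A' ⟶ Over.mk (Wt.ι ≫ V.hom) := Over.homMk h₀ (by
    change h₀ ≫ Wt.ι ≫ V.hom = Ut.ι ≫ U₀.hom
    rw [reassoc_of% hh₀, Over.w v₀])
  have hhι : h ≫ ιW = ιU ≫ v₀ := by
    ext
    exact hh₀
  refine ⟨A', ιU ≫ w₀, Wt, h, hUt, hWt, ?_, ⟨⟨t, htU⟩, rfl⟩, ?_⟩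
  · rw [Over.comp_left]
    exact (Ut.ι ≫ w₀.left).isOpenMap
  · rw [Functor.map_comp, Category.assoc, ← sq.w, ← Category.assoc, ← Functor.map_comp, ← hhι,
      Functor.map_comp, Category.assoc]

/-- **a quasi-compact morphism whose base changes to the affine spaces over an atlas of the target
are closed on points is universally closed.** -/
theorem isUnivClosedMor_of_affineSpace {X Y : AlgSp.Sp S} (f : X ⟶ Y)
    (hqc : AlgSp.IsQuasiCompactMor f) {V : Over S} (p : (AlgSp.yon S).obj V ⟶ Y)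
    (hpe : AlgSp.RepWith @Etale p) (hps : AlgSp.RepWith @Surjective p)
    (H : ∀ (n : ℕ) (P : AlgSp.Sp S) (fst : P ⟶ X)
        (snd : P ⟶ (AlgSp.yon S).obj
          (Over.mk ((𝔸(ULift.{u} (Fin n); V.left) ↘ V.left) ≫ V.hom))),
        IsPullback fst snd f
          ((AlgSp.yon S).map (Over.homMk (𝔸(ULift.{u} (Fin n); V.left) ↘ V.left)) ≫ p) →
        IsClosedMap (AlgSp.Points.map snd)) :
    AlgSp.IsUnivClosedMor f := by
  intro Z Z' hZ g fst snd sq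
  refine isClosedMap_map_of_local snd (fun T c x => ?_)
  obtain ⟨W, d, V', h, hW, hV', hd, hx, hcomm⟩ := exists_refinement_atlas (c ≫ g) p hpe hps x
  refine ⟨W, d, hd, hx, fun P pr sndW sqW => ?_⟩
  haveI : IsAffine W.left := hW
  let V'o : Over S := Over.mk (V'.ι ≫ V.hom)
  let ι : V'o ⟶ V := Over.homMk V'.ι rfl
  haveI : IsAffine V'o.left := hV'
  haveI : IsOpenImmersion ι.left := (inferInstance : IsOpenImmersion V'.ι)
  -- the base change of `f` to `V'`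
  have sqX := IsPullback.of_hasPullback f ((AlgSp.yon S).map ι ≫ p)
  have hX'qc : AlgSp.IsQuasiCompactSp (pullback f ((AlgSp.yon S).map ι ≫ p)) :=
    hqc (AlgSp.IsAlgSpace.yon_obj V'o)
      ⟨V'o, 𝟙 _, AlgSp.repWith_id _ V'o, AlgSp.repWith_id _ V'o, inferInstance⟩ _ _ _ sqX
  obtain ⟨U, π, hU, hπe, hπs⟩ := Groth.Agent.S10180.exists_affine_chart hX'qc
  haveI : IsAffine U.left := hU
  -- the given square as a pullback of `f'`
  have sq' : IsPullback (pr ≫ fst) sndW f (((AlgSp.yon S).map d ≫ c) ≫ g) := sqW.paste_horiz sq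
  have e : ((AlgSp.yon S).map d ≫ c) ≫ g = (AlgSp.yon S).map h ≫ (AlgSp.yon S).map ι ≫ p := by
    rw [Category.assoc]; exact hcomm
  rw [e] at sq'
  have hw : (pr ≫ fst) ≫ f = (sndW ≫ (AlgSp.yon S).map h) ≫ (AlgSp.yon S).map ι ≫ p := by
    rw [sq'.w, Category.assoc]
  have sqa : IsPullback (pullback.lift _ _ hw) sndW
      (pullback.snd f ((AlgSp.yon S).map ι ≫ p)) ((AlgSp.yon S).map h) := by
    refine IsPullback.of_right ?_ (pullback.lift_snd _ _ hw) sqX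
    rw [pullback.lift_fst]
    exact sq'
  exact UCCore.isClosedMap_of_affine_chart (pullback.snd f ((AlgSp.yon S).map ι ≫ p)) π hπe hπs
    (fun n P₀ fst₀ snd₀ sq₀ => affineSpace_hyp_restrict f p ι _ _ sqX H n P₀ fst₀ snd₀ sq₀)
    h _ sndW sqa

end Groth.Agent.Lib.T2H1.UCRed
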