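import Mathlib
import Groth.Agent.Lib.T2H1DvrClosed
import Groth.Agent.Lib.T2H1UCRed
import Groth.Agent.Lib.Helper12Proper

/-!
# Universal closedness from the discrete valuative criterion (helper1)
-/

set_option autoImplicit false
universe u
open CategoryTheory CategoryTheory.Limits AlgebraicGeometry TopologicalSpace
open AlgSp

namespace Groth.Agent.Lib.T2H1.ProperDvr

variable {S : Scheme.{u}}

/-- a morphism of finite type to a locally Noetherian algebraic space which has the lifting property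
for discrete valuation rings is closed on points. -/
theorem isClosedMap_of_dvr_lift {X Y : AlgSp.Sp S} (hYa : AlgSp.IsAlgSpace Y) (f : X ⟶ Y)
    (hft : AlgSp.IsFiniteTypeMor f) (hY : AlgSp.IsLocNoethSp Y)
    (hl : ∀ sq : AlgSp.ValSq f, IsDiscreteValuationRing sq.A → sq.HasLift) :
    IsClosedMap (AlgSp.Points.map f) := by
  intro C hC
  rw [← closure_subset_iff_isClosed]
  intro y hy
  obtain ⟨A, iA, iD, iDVR, a, α, κ, hcomm, hαy, hκC⟩ :=
    DvrClosed.exists_dvr_diagram_of_mem_closure_image hYa f hft hY C hC y hy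
  let vsq : AlgSp.ValSq f :=
    { A := A, K := FractionRing A, str := a, top := κ, bot := α, comm := hcomm }
  obtain ⟨l, hl1, hl2⟩ := hl vsq iDVR
  refine ⟨AlgSp.Points.ofPt l (IsLocalRing.closedPoint A), ?_, ?_⟩
  · let η : ↥vsq.ptK.left := IsLocalRing.closedPoint (FractionRing A)
    have hsp : vsq.j.left η ⤳ IsLocalRing.closedPoint A := IsLocalRing.specializes_closedPoint _
    have hsp' := hsp.map (AlgSp.Points.continuous_ofPt l)
    refine hsp'.mem_closed hC ?_
    rw [← Groth.Agent.S10176.ofPt_map_comp, hl1]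
    exact hκC η
  · rw [AlgSp.Points.map_ofPt, hl2]
    exact hαy

/-- the lifting property for discrete valuation rings is stable under base change. -/
theorem dvr_lift_baseChange {X Y X' Y' : AlgSp.Sp S} {f : X ⟶ Y} {g : Y' ⟶ Y} {fst : X' ⟶ X}
    {f' : X' ⟶ Y'} (sq : IsPullback fst f' f g)
    (hl : ∀ sq : AlgSp.ValSq f, IsDiscreteValuationRing sq.A → sq.HasLift)
    (sq' : AlgSp.ValSq f') (hA : IsDiscreteValuationRing sq'.A) : sq'.HasLift := by
  let vsq : AlgSp.ValSq f :=
    { A := sq'.A, K := sq'.K, str := sq'.str, top := sq'.top ≫ fst, bot := sq'.bot ≫ g,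
      comm := by rw [Category.assoc, sq.w, ← Category.assoc, sq'.comm, Category.assoc] }
  obtain ⟨l, hl1, hl2⟩ := hl vsq hA
  have hw : l ≫ f = sq'.bot ≫ g := hl2
  refine ⟨sq.lift l sq'.bot hw, ?_, sq.lift_snd _ _ hw⟩
  apply sq.hom_ext
  · rw [Category.assoc, sq.lift_fst]
    exact hl1
  · rw [Category.assoc, sq.lift_snd]
    exact sq'.comm.symm

/-- **universal closedness from the existence part of the discrete valuative criterion.** -/
theorem isUnivClosedMor_of_dvr_lift {X Y : AlgSp.Space S} (f : X ⟶ Y)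
    (hft : AlgSp.IsFiniteTypeMor f.hom) (hY : AlgSp.IsLocNoethSp Y.obj)
    (hl : ∀ sq : AlgSp.ValSq f.hom, IsDiscreteValuationRing sq.A → sq.HasLift) :
    AlgSp.IsUnivClosedMor f.hom := by
  obtain ⟨V, p, hpe, hps, hVN⟩ := hY
  haveI : IsLocallyNoetherian V.left := hVN
  refine UCRed.isUnivClosedMor_of_affineSpace f.hom hft.2 p hpe hps (fun n P fst snd sq => ?_)
  let Z₁ : Over S := Over.mk ((𝔸(ULift.{u} (Fin n); V.left) ↘ V.left) ≫ V.hom)
  haveI : IsLocallyNoetherian Z₁.left :=
    LocallyOfFiniteType.isLocallyNoetherian (𝔸(ULift.{u} (Fin n); V.left) ↘ V.left)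
  have hZ₁ : AlgSp.IsLocNoethSp ((AlgSp.yon S).obj Z₁) :=
    ⟨Z₁, 𝟙 _, AlgSp.repWith_id _ Z₁, AlgSp.repWith_id _ Z₁, inferInstance⟩
  have hft' : AlgSp.IsFiniteTypeMor snd :=
    ⟨Groth.Agent.Lib.Helper12.Proper.locP_lft_baseChange X.property Y.property
      (AlgSp.IsAlgSpace.yon_obj Z₁) sq hft.1,
     Groth.Agent.Lib.Helper12.Proper.isQuasiCompactMor_baseChange sq hft.2⟩
  exact isClosedMap_of_dvr_lift (AlgSp.IsAlgSpace.yon_obj Z₁) snd hft' hZ₁
    (fun sq' hA => dvr_lift_baseChange sq hl sq' hA)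

end Groth.Agent.Lib.T2H1.ProperDvr
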