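import Mathlib
import Groth.Agent.Lib.T2H1PushCoprod

/-!
# Direct images along qcqs morphisms and filtered colimits of modules
-/

set_option autoImplicit false
universe u
open CategoryTheory CategoryTheory.Limits AlgebraicGeometry TopologicalSpace

namespace Groth.Agent.Lib.T2H1.PushFiltered

open Groth.Agent.Lib.T2H1.PushCoprod

variable {X S : Scheme.{u}} (f : X ⟶ S) [QuasiCompact f] [QuasiSeparated f]
  (J : Type u) [SmallCategory J] [IsFiltered J]

/-- direct images of abelian sheaves along a qcqs morphism commute with filtered colimits -/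
theorem preservesColimitsOfShape_pushAb :
    PreservesColimitsOfShape J (Coh.pushAb f) := by
  haveI := Groth.Agent.Lib.Helper9.TopColim.preservesColimitsOfShape_RpushAb f 0 J
  haveI : PreservesFiniteLimits (Coh.pushAb f) :=
    Groth.Agent.Lib.Helper16.ClosedEmb.push_preservesFiniteLimits f.base
  exact preservesColimitsOfShape_of_natIso (Coh.pushAb f).rightDerivedZeroIsoSelf

/-- direct images of modules along a qcqs morphism commute with filtered colimits -/
theorem preservesColimitsOfShape_pushforward :
    PreservesColimitsOfShape J (Scheme.Modules.pushforward f) := by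
  haveI h1 : PreservesColimitsOfShape J (SheafOfModules.toSheaf.{u} X.ringCatSheaf) :=
    Groth.Agent.S0484.preservesColimitsOfShape_toSheaf (Opens.grothendieckTopology X)
      X.ringCatSheaf J
  haveI h2 : PreservesColimitsOfShape J (SheafOfModules.toSheaf.{u} S.ringCatSheaf) :=
    Groth.Agent.S0484.preservesColimitsOfShape_toSheaf (Opens.grothendieckTopology S)
      S.ringCatSheaf J
  haveI h4 : PreservesColimitsOfShape J (Coh.pushAb f) := preservesColimitsOfShape_pushAb f J
  haveI h5 := Groth.Agent.Lib.T2H4.ClosedAdj.toSheaf_reflectsIsomorphisms S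
  haveI h6 : ReflectsColimitsOfShape J (SheafOfModules.toSheaf.{u} S.ringCatSheaf) :=
    reflectsColimitsOfShape_of_reflectsIsomorphisms
  haveI h7 : PreservesColimitsOfShape J
      (Scheme.Modules.pushforward f ⋙ SheafOfModules.toSheaf.{u} S.ringCatSheaf) := by
    change PreservesColimitsOfShape J
      (SheafOfModules.toSheaf.{u} X.ringCatSheaf ⋙ Coh.pushAb f)
    infer_instance
  exact @preservesColimitsOfShape_of_reflects_of_preserves _ _ _ _ J _ _ _
    (Scheme.Modules.pushforward f) (SheafOfModules.toSheaf.{u} S.ringCatSheaf) h7 h6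

lemma isZero_colimit {C : Type*} [Category C] [HasZeroMorphisms C] {K : Type*} [Category K]
    (M : K ⥤ C) [HasColimit M] (h : ∀ k, IsZero (M.obj k)) : IsZero (colimit M) := by
  rw [IsZero.iff_id_eq_zero]
  exact colimit.hom_ext (fun k => (h k).eq_of_src _ _)

variable {J}

/-- filtered colimits of `f_*`-acyclic modules are `f_*`-acyclic (`f` qcqs). -/
theorem isZero_Rpush_colimit_of_acyclic (M : J ⥤ X.Modules) (q : ℕ) (hq : 0 < q)
    (hM : ∀ j, IsZero (((Scheme.Modules.pushforward f).rightDerived q).obj (M.obj j))) :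
    IsZero (((Scheme.Modules.pushforward f).rightDerived q).obj (colimit M)) := by
  obtain ⟨e1⟩ := Groth.Agent.Lib.Helper23.ModAbBridge.nonempty_toAb_Rpush_iso f (colimit M) q
  haveI h1 : PreservesColimitsOfShape J (SheafOfModules.toSheaf.{u} X.ringCatSheaf) :=
    Groth.Agent.S0484.preservesColimitsOfShape_toSheaf (Opens.grothendieckTopology X)
      X.ringCatSheaf J
  haveI := Groth.Agent.Lib.Helper9.TopColim.preservesColimitsOfShape_RpushAb f q J
  let e2 : Coh.toAb (colimit M) ≅ colimit (M ⋙ SheafOfModules.toSheaf.{u} X.ringCatSheaf) :=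
    preservesColimitIso (SheafOfModules.toSheaf.{u} X.ringCatSheaf) M
  let e3 : (Coh.RpushAb f q).obj (colimit (M ⋙ SheafOfModules.toSheaf.{u} X.ringCatSheaf)) ≅
      colimit ((M ⋙ SheafOfModules.toSheaf.{u} X.ringCatSheaf) ⋙ Coh.RpushAb f q) :=
    preservesColimitIso (Coh.RpushAb f q) _
  have hz : IsZero (colimit ((M ⋙ SheafOfModules.toSheaf.{u} X.ringCatSheaf) ⋙
      Coh.RpushAb f q)) :=
    isZero_colimit _ (fun j => by
      obtain ⟨e⟩ := Groth.Agent.Lib.Helper23.ModAbBridge.nonempty_toAb_Rpush_iso f (M.obj j) q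
      refine IsZero.of_iso ?_ e.symm
      exact (SheafOfModules.toSheaf.{u} S.ringCatSheaf).map_isZero (hM j))
  have hz' : IsZero (Coh.toAb ((Coh.Rpush f q).obj (colimit M))) :=
    IsZero.of_iso hz (e1 ≪≫ (Coh.RpushAb f q).mapIso e2 ≪≫ e3)
  rw [IsZero.iff_id_eq_zero]
  apply (SheafOfModules.toSheaf.{u} S.ringCatSheaf).map_injective
  exact (CategoryTheory.Functor.map_id _ _).trans
    (((IsZero.iff_id_eq_zero _).1 hz').trans
      (Functor.map_zero (SheafOfModules.toSheaf.{u} S.ringCatSheaf) _ _).symm)

end Groth.Agent.Lib.T2H1.PushFiltered
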