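import Mathlib
import Groth.Prelude.Def_DerSch
import Groth.Agent.Lib.Helper1Sky4
import Groth.Agent.Lib.Helper1KBC4
set_option backward.isDefEq.respectTransparency.types false

/-!
# The stalks of a direct image along a topological embedding (helper1, second team)

For `f : X ⟶ Y` whose underlying map is inducing (closed or open immersions, ...), the stalk of
`f_* M` at `f x` is the stalk of `M` at `x`, with scalars restricted along the stalk map.
-/

set_option autoImplicit false
set_option linter.style.haveILetI false
universe u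
open CategoryTheory CategoryTheory.Limits AlgebraicGeometry TopCat TopologicalSpace Opposite

namespace Groth.Agent.Lib.T2H1.PushStalk

open Groth.Agent.Lib.Helper1.Sky Groth.Agent.Lib.Helper1.StalkTensor Groth.Agent.Lib.Helper1.KBC

variable {X Y : Scheme.{u}} (f : X ⟶ Y) (x : X)

/-- the canonical map `(f_* M)_{f x} → M_x` -/
noncomputable def pushStalkAdd (M : X.Modules) :
    St (toPM ((Scheme.Modules.pushforward f).obj M)) (f x) →+ St (toPM M) x :=
  (TopCat.Presheaf.stalkPushforward Ab f.base (toPM M).presheaf x).hom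

lemma pushStalkAdd_gm (M : X.Modules) (V : Y.Opens) (hV : f x ∈ V)
    (t : (toPM ((Scheme.Modules.pushforward f).obj M)).obj (op V)) :
    pushStalkAdd f x M (gm (toPM ((Scheme.Modules.pushforward f).obj M)) (f x) V hV t) =
      gm (toPM M) x (f ⁻¹ᵁ V) hV t :=
  ConcreteCategory.congr_hom
    (TopCat.Presheaf.stalkPushforward_germ Ab f.base (toPM M).presheaf V x hV) t

lemma pushStalkAdd_smul (M : X.Modules) (r : Groth.Agent.Lib.Helper1.Sky.Ox (f x))
    (a : St (toPM ((Scheme.Modules.pushforward f).obj M)) (f x)) :
    pushStalkAdd f x M (r • a) = (f.stalkMap x).hom r • pushStalkAdd f x M a := by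
  obtain ⟨V, hV, c, t, rfl, rfl⟩ := gm_surj_smul r a
  rw [← gm_smul, pushStalkAdd_gm, pushStalkAdd_gm]
  change gm (toPM M) x (f ⁻¹ᵁ V) hV
    (((f.app V).hom c) • (show (toPM M).obj (op (f ⁻¹ᵁ V)) from t)) = _
  rw [gm_smul]
  congr 1
  exact (Scheme.Hom.germ_stalkMap_apply f V x hV c).symm

/-- the canonical map `(f_* M)_{f x} → M_x`, as a linear map -/
noncomputable def pushStalkLinMap (M : X.Modules) :
    ((stalkFun (f x)).obj ((Scheme.Modules.pushforward f).obj M)) →ₗ[Groth.Agent.Lib.Helper1.Sky.Ox (f x)]
      ((resStalk f x).obj ((stalkFun x).obj M)) where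
  toFun := pushStalkAdd f x M
  map_add' := map_add _
  map_smul' := fun r a => pushStalkAdd_smul f x M r a

lemma pushStalkLinMap_apply (M : X.Modules)
    (a : St (toPM ((Scheme.Modules.pushforward f).obj M)) (f x)) :
    pushStalkLinMap f x M a = pushStalkAdd f x M a := rfl

/-- the canonical map `(f_* M)_{f x} → M_x`, as a morphism of modules -/
noncomputable def pushStalkLin (M : X.Modules) :
    (stalkFun (f x)).obj ((Scheme.Modules.pushforward f).obj M) ⟶
      (resStalk f x).obj ((stalkFun x).obj M) :=
  @ModuleCat.ofHom (Groth.Agent.Lib.Helper1.Sky.Ox (f x)) _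
    ((stalkFun (f x)).obj ((Scheme.Modules.pushforward f).obj M))
    ((resStalk f x).obj ((stalkFun x).obj M)) _
    ((stalkFun (f x)).obj ((Scheme.Modules.pushforward f).obj M)).isModule _
    ((resStalk f x).obj ((stalkFun x).obj M)).isModule (pushStalkLinMap f x M)

/-- the canonical natural transformation `(f_* -)_{f x} → (-)_x` -/
noncomputable def pushStalkNat :
    Scheme.Modules.pushforward f ⋙ stalkFun (f x) ⟶ stalkFun x ⋙ resStalk f x where
  app M := pushStalkLin f x M
  naturality {M M'} φ := by
    apply ModuleCat.hom_ext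
    apply LinearMap.ext
    intro a
    obtain ⟨V, hV, t, rfl⟩ := exists_gm_eq a
    have h1 : ((Scheme.Modules.pushforward f ⋙ stalkFun (f x)).map φ ≫ pushStalkLin f x M').hom
        (gm _ (f x) V hV t) = pushStalkAdd f x M'
          (sm (toPMMap ((Scheme.Modules.pushforward f).map φ)) (f x) (gm _ (f x) V hV t)) := rfl
    have h2 : (pushStalkLin f x M ≫ (stalkFun x ⋙ resStalk f x).map φ).hom
        (gm _ (f x) V hV t) = sm (toPMMap φ) x (pushStalkAdd f x M (gm _ (f x) V hV t)) := rfl
    rw [h1, h2, sm_gm, pushStalkAdd_gm, pushStalkAdd_gm, sm_gm]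
    rfl

lemma bijective_pushStalkAdd (hf : Topology.IsInducing f.base) (M : X.Modules) :
    Function.Bijective (pushStalkAdd f x M) := by
  have := TopCat.Presheaf.stalkPushforward.stalkPushforward_iso_of_isInducing (C := Ab) hf
    (toPM M).presheaf x
  exact ConcreteCategory.bijective_of_isIso
    (TopCat.Presheaf.stalkPushforward Ab f.base (toPM M).presheaf x)

lemma isIso_pushStalkNat_app (hf : Topology.IsInducing f.base) (M : X.Modules) :
    IsIso ((pushStalkNat f x).app M) := by
  have hb : Function.Bijective (pushStalkLinMap f x M) := bijective_pushStalkAdd f x hf M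
  let e := LinearEquiv.ofBijective (pushStalkLinMap f x M) hb
  exact ⟨⟨@ModuleCat.ofHom (Groth.Agent.Lib.Helper1.Sky.Ox (f x)) _
    ((resStalk f x).obj ((stalkFun x).obj M))
    ((stalkFun (f x)).obj ((Scheme.Modules.pushforward f).obj M)) _
    ((resStalk f x).obj ((stalkFun x).obj M)).isModule _
    ((stalkFun (f x)).obj ((Scheme.Modules.pushforward f).obj M)).isModule e.symm.toLinearMap, by
    apply ModuleCat.hom_ext
    apply LinearMap.ext
    intro a
    exact e.symm_apply_apply a, by
    apply ModuleCat.hom_ext
    apply LinearMap.ext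
    intro a
    exact e.apply_symm_apply a⟩⟩

/-- for a topological embedding, `(f_* M)_{f x} ≅ M_x` (scalars restricted), naturally in `M` -/
noncomputable def pushStalkIso (hf : Topology.IsInducing f.base) :
    Scheme.Modules.pushforward f ⋙ stalkFun (f x) ≅ stalkFun x ⋙ resStalk f x :=
  haveI : ∀ M, IsIso ((pushStalkNat f x).app M) := fun M => isIso_pushStalkNat_app f x hf M
  haveI : IsIso (pushStalkNat f x) := NatIso.isIso_of_isIso_app _
  asIso (pushStalkNat f x)

end Groth.Agent.Lib.T2H1.PushStalk
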