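import Mathlib
import Groth.Prelude.Def_DerSch
import Groth.Prelude.Def_DTor2
import Groth.Agent.Lib.T2H1PushStalk
import Groth.Agent.Lib.T2H1StalkTorAmp
import Groth.Agent.Lib.T2H2TorAmpComp
set_option backward.isDefEq.respectTransparency.types false

/-!
# Tor amplitude of a direct image along an embedding (helper1, second team)
-/

set_option autoImplicit false
set_option linter.style.haveILetI false
universe u
open CategoryTheory CategoryTheory.Limits AlgebraicGeometry

attribute [local instance] HasDerivedCategory.standard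

namespace Groth.Agent.Lib.T2H1.PushTorAmp

open Groth.Agent.Lib.Helper1.Sky Groth.Agent.Lib.Helper1.KBC Groth.Agent.Lib.T2H1.PushStalk
  Groth.Agent.Lib.T2H1.StalkTorAmp Groth.Agent.Lib.T2H2.TorAmpComp

variable {X X' Y : Scheme.{u}} (i : X ⟶ X') (f' : X' ⟶ Y) (x : X)

/-- for an embedding `i`, the stalk of `i_* M` at `i x` over `O_{X', i x}` is the stalk of `M` -/
noncomputable def stalkOverPushIso₀ (hi : Topology.IsInducing i.base) :
    Scheme.Modules.pushforward i ⋙ DerSch.stalkFunctor X' (i x) ≅ DerSch.stalkOver i x :=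
  Functor.isoWhiskerLeft _ (stalkFunctorIso (i x)) ≪≫ pushStalkIso i x hi ≪≫
    Functor.isoWhiskerRight (stalkFunctorIso x).symm _

/-- the stalk of `i_* M` at `i x` over the local ring of the base, retyped -/
noncomputable def stalkOverPush :
    X.Modules ⥤ ModuleCat.{u} (Y.presheaf.stalk ((i ≫ f').base x)) :=
  Scheme.Modules.pushforward i ⋙ DerSch.stalkOver f' (i x)

instance additive_stalkOverPush : (stalkOverPush i f' x).Additive :=
  (inferInstance : (Scheme.Modules.pushforward i ⋙ DerSch.stalkOver f' (i x)).Additive)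

/-- for an embedding `i`, the stalk of `i_* M` at `i x` over the base is the stalk of `M` -/
noncomputable def stalkOverPushIso (hi : Topology.IsInducing i.base) :
    stalkOverPush i f' x ≅ DerSch.stalkOver (i ≫ f') x :=
  (show Scheme.Modules.pushforward i ⋙ DerSch.stalkFunctor X' (i x) ⋙
      ModuleCat.restrictScalars.{u} (phi i f' x) ≅
      DerSch.stalkOver i x ⋙ ModuleCat.restrictScalars.{u} (phi i f' x) from
    (Functor.associator _ _ _).symm ≪≫
      Functor.isoWhiskerRight (stalkOverPushIso₀ i x hi) _) ≪≫ stalkOverCompIso i f' x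

/-- tor amplitude relative to `i ≫ f'` is tor amplitude of the direct image relative to `f'` -/
theorem hasTorAmplitude_comp_of_pushforward (hi : Topology.IsInducing i.base)
    (F : CochainComplex X.Modules ℤ) (a b : ℤ)
    (h : DerSch.HasTorAmplitude f' a b
      (((Scheme.Modules.pushforward i).mapHomologicalComplex (ComplexShape.up ℤ)).obj F)) :
    DerSch.HasTorAmplitude (i ≫ f') a b F := by
  intro x
  have h' : DRing.HasTorAmplitudeIn (Y.presheaf.stalk ((i ≫ f').base x)) a b
      (DerivedCategory.Q.obj
        (((stalkOverPush i f' x).mapHomologicalComplex (ComplexShape.up ℤ)).obj F)) := h (i x)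
  obtain ⟨E, hE, hEf, ⟨e⟩⟩ := h'
  exact ⟨E, hE, hEf, ⟨e ≪≫ DerivedCategory.Q.mapIso
    ((NatIso.mapHomologicalComplex (stalkOverPushIso i f' x hi) (ComplexShape.up ℤ)).app F)⟩⟩

/-- absolute flat amplitude of `i_* F` gives tor amplitude of `F` relative to `i ≫ f'`, for `f'`
flat and `i` an embedding -/
theorem hasTorAmplitude_comp_of_hasFlatAmplitudeIn_pushforward (hi : Topology.IsInducing i.base)
    [Flat f'] (F : CochainComplex X.Modules ℤ) (a b : ℤ)
    (hF : DCoh.HasFlatAmplitudeIn a b (DCoh.toD X'
      (((Scheme.Modules.pushforward i).mapHomologicalComplex (ComplexShape.up ℤ)).obj F))) :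
    DerSch.HasTorAmplitude (i ≫ f') a b F :=
  hasTorAmplitude_comp_of_pushforward i f' hi F a b
    (hasTorAmplitude_of_hasFlatAmplitudeIn f' _ a b hF)

end Groth.Agent.Lib.T2H1.PushTorAmp
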