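import Mathlib
import Groth.Agent.S9870
import Groth.Agent.Lib.Helper9SpQuot

/-!
# Open-immersion criterion for maps of fppf quotient sheaves of pre-equivalence relations (helper1)

Version of `S9870` for pre-equivalence relations (e.g. groupoids) instead of equivalence relations:
the kernel pair of `U ⟶ U/R` is only fppf-locally covered by `R`.
-/

set_option autoImplicit false
universe u
open CategoryTheory CategoryTheory.Limits AlgebraicGeometry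
open AlgSp

namespace Groth.Agent.Lib.T2H1.QuotOpen

open Groth.Agent.S13210 Groth.Agent.S9878 Groth.Agent.Lib.Helper12.ZarGlue
  Groth.Agent.Lib.T2H1.RepIso Groth.Agent.Lib.T2H1.OpenDescent Groth.Agent.S9870 Opposite

local notation "K₀" => Scheme.fppfPrecoverage

variable {S : Scheme.{u}}

/-- scheme-level pre-equivalence relation. -/
def IsPreEqv {R U : Over S} (s t : R ⟶ U) : Prop :=
  ∀ (T : Over S), _root_.Equivalence (fun a b : T ⟶ U => ∃ ρ : T ⟶ R, ρ ≫ t = a ∧ ρ ≫ s = b)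

/-- a pre-equivalence relation on schemes induces one on the sheafified representables. -/
theorem isPreEqvRelSp_repMap {R U : Over S} (s t : R ⟶ U) (h : IsPreEqv s t) :
    AlgSp.IsPreEqvRelSp (QuotSh.repMap K₀ s) (QuotSh.repMap K₀ t) := by
  have hiff : ∀ (T : Over S) (a b : (AlgSp.yon S).obj T ⟶ QuotSh.rep K₀ U),
      (∃ r : (AlgSp.yon S).obj T ⟶ QuotSh.rep K₀ R,
        r ≫ QuotSh.repMap K₀ t = a ∧ r ≫ QuotSh.repMap K₀ s = b) ↔
      ∃ ρ : T ⟶ R, ρ ≫ t = pt a ∧ ρ ≫ s = pt b := by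
    intro T a b
    constructor
    · rintro ⟨r, rfl, rfl⟩
      exact ⟨pt r, (pt_comp r t).symm, (pt_comp r s).symm⟩
    · rintro ⟨ρ, h1, h2⟩
      refine ⟨(AlgSp.yon S).map ρ ≫ (QuotSh.repIsoUliftYoneda K₀ R).inv, ?_, ?_⟩
      · apply pt_injective
        rw [pt_comp, pt_map, h1]
      · apply pt_injective
        rw [pt_comp, pt_map, h2]
  intro T
  have e := h T
  exact ⟨fun a => (hiff T a a).2 (e.refl _),
    fun {a b} hab => (hiff T b a).2 (e.symm ((hiff T a b).1 hab)),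
    fun {a b c} hab hbc => (hiff T a c).2 (e.trans ((hiff T a b).1 hab) ((hiff T b c).1 hbc))⟩

/-- two points of `U` with the same class in `U/R` are fppf-locally related through `R`. -/
theorem exists_local_rel {R U : Over S} (s t : R ⟶ U) (h : IsPreEqv s t) {T : Over S}
    (a b : T ⟶ U)
    (hab : (AlgSp.yon S).map a ≫ qmap s t = (AlgSp.yon S).map b ≫ qmap s t) :
    ∃ Rc ∈ Scheme.fppfPrecoverage T.left, ∀ ⦃V : Scheme.{u}⦄ (g1 : V ⟶ T.left), Rc g1 →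
      ∃ ρ : Over.mk (g1 ≫ T.hom) ⟶ R,
        ρ ≫ t = (Over.homMk g1 : Over.mk (g1 ≫ T.hom) ⟶ T) ≫ a ∧
        ρ ≫ s = (Over.homMk g1 : Over.mk (g1 ≫ T.hom) ⟶ T) ≫ b := by
  have hpre := isPreEqvRelSp_repMap s t h
  set ar : (AlgSp.yon S).obj T ⟶ QuotSh.rep K₀ U :=
    (AlgSp.yon S).map a ≫ (QuotSh.repIsoUliftYoneda K₀ U).inv with har
  set br : (AlgSp.yon S).obj T ⟶ QuotSh.rep K₀ U :=
    (AlgSp.yon S).map b ≫ (QuotSh.repIsoUliftYoneda K₀ U).inv with hbr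
  have hab' : br ≫ AlgSp.quotSpπ (QuotSh.repMap K₀ s) (QuotSh.repMap K₀ t) =
      ar ≫ AlgSp.quotSpπ (QuotSh.repMap K₀ s) (QuotSh.repMap K₀ t) := by
    have := hab.symm
    rw [qmap_eq, ← Category.assoc, ← Category.assoc] at this
    exact this
  obtain ⟨W', e, he, r, hr1, hr2⟩ :=
    Groth.Agent.Lib.Helper9.SpQuot.rho_of_isPreEqvRelSp _ _ hpre br ar hab'
  haveI : Sheaf.IsLocallySurjective e := (Sheaf.isLocallySurjective_iff_epi _).mpr he
  obtain ⟨Rc, hRc, hl⟩ := Groth.Agent.S9884.exists_fppf_lift e (𝟙 ((AlgSp.yon S).obj T))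
  refine ⟨Rc, hRc, fun V g1 hg1 => ?_⟩
  obtain ⟨d, hd⟩ := hl g1 hg1
  rw [Category.comp_id] at hd
  refine ⟨pt (d ≫ r), ?_, ?_⟩
  · rw [← pt_comp, Category.assoc, hr2, ← Category.assoc, hd, har, ← Category.assoc,
      ← Functor.map_comp, pt_map]
  · rw [← pt_comp, Category.assoc, hr1, ← Category.assoc, hd, hbr, ← Category.assoc,
      ← Functor.map_comp, pt_map]

section Main

variable {R U R' U' : Over S} (s t : R ⟶ U)
    (g : U' ⟶ U) (s' t' : R' ⟶ U') (r : R' ⟶ R)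
    (hsq : IsPullback (prod.lift t' s') r (prod.map g g) (prod.lift t s))
    (hR : IsPreEqv s t)
    (φ : QuotSh.quot K₀ s' t' ⟶ QuotSh.quot K₀ s t)
    (hφ : qmap s' t' ≫ φ = (AlgSp.yon S).map g ≫ qmap s t)

include hsq hR hφ in
/-- the induced map of quotients is a monomorphism. -/
lemma mono_φ : Mono φ := by
  have key : ∀ (T : Over S) (z1 z2 : (AlgSp.yon S).obj T ⟶ QuotSh.quot K₀ s' t'),
      z1 ≫ φ = z2 ≫ φ → z1 = z2 := by
    intro T z1 z2 h12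
    obtain ⟨R1, hR1, hl1⟩ := Groth.Agent.S9884.exists_fppf_lift (qmap s' t') z1
    refine hom_ext_of_fppf z1 z2 R1 hR1 (fun T1 g1 hg1 => ?_)
    obtain ⟨d1, hd1⟩ := hl1 g1 hg1
    obtain ⟨R2, hR2, hl2⟩ := Groth.Agent.S9884.exists_fppf_lift (qmap s' t')
      ((AlgSp.yon S).map (Over.homMk g1 : Over.mk (g1 ≫ T.hom) ⟶ T) ≫ z2)
    refine hom_ext_of_fppf _ _ R2 hR2 (fun T2 g2 hg2 => ?_)
    obtain ⟨d2, hd2⟩ := hl2 g2 hg2
    obtain ⟨a1, rfl⟩ := (AlgSp.yon S).map_surjective d1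
    obtain ⟨a2, rfl⟩ := (AlgSp.yon S).map_surjective d2
    set G2 : Over.mk (g2 ≫ (Over.mk (g1 ≫ T.hom)).hom) ⟶ Over.mk (g1 ≫ T.hom) := Over.homMk g2
    set G1 : Over.mk (g1 ≫ T.hom) ⟶ T := Over.homMk g1
    have eL : (AlgSp.yon S).map ((G2 ≫ a1) ≫ g) ≫ qmap s t =
        (AlgSp.yon S).map G2 ≫ (AlgSp.yon S).map G1 ≫ z1 ≫ φ := by
      simp only [Functor.map_comp, Category.assoc]
      rw [← hφ, ← Category.assoc ((AlgSp.yon S).map a1), hd1, Category.assoc]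
    have eR : (AlgSp.yon S).map (a2 ≫ g) ≫ qmap s t =
        (AlgSp.yon S).map G2 ≫ (AlgSp.yon S).map G1 ≫ z2 ≫ φ := by
      simp only [Functor.map_comp, Category.assoc]
      rw [← hφ, ← Category.assoc ((AlgSp.yon S).map a2), hd2]
      simp only [Category.assoc]
    have hw : (AlgSp.yon S).map ((G2 ≫ a1) ≫ g) ≫ qmap s t =
        (AlgSp.yon S).map (a2 ≫ g) ≫ qmap s t := by
      rw [eL, eR, h12]
    obtain ⟨R3, hR3, hl3⟩ := exists_local_rel s t hR _ _ hw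
    refine hom_ext_of_fppf _ _ R3 hR3 (fun T3 g3 hg3 => ?_)
    obtain ⟨ρ, hρt, hρs⟩ := hl3 g3 hg3
    set G3 : Over.mk (g3 ≫ (Over.mk (g2 ≫ (Over.mk (g1 ≫ T.hom)).hom)).hom) ⟶
      Over.mk (g2 ≫ (Over.mk (g1 ≫ T.hom)).hom) := Over.homMk g3
    have h3 := qmap_eq_of_rel s t g s' t' r hsq (G3 ≫ G2 ≫ a1) (G3 ≫ a2) ρ
      (by rw [hρt]; simp only [Category.assoc]) (by rw [hρs]; simp only [Category.assoc])
    calc (AlgSp.yon S).map G3 ≫ (AlgSp.yon S).map G2 ≫ (AlgSp.yon S).map G1 ≫ z1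
        = (AlgSp.yon S).map (G3 ≫ G2 ≫ a1) ≫ qmap s' t' := by
          simp only [Functor.map_comp, Category.assoc]
          rw [hd1]
      _ = (AlgSp.yon S).map (G3 ≫ a2) ≫ qmap s' t' := h3
      _ = (AlgSp.yon S).map G3 ≫ (AlgSp.yon S).map G2 ≫ (AlgSp.yon S).map G1 ≫ z2 := by
          simp only [Functor.map_comp, Category.assoc]
          rw [hd2]
  refine ⟨fun {Z} a b hab => ?_⟩
  refine Groth.Agent.Lib.Helper9.SpQuot.jEpi_yon Z a b ?_
  rintro ⟨T, z⟩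
  exact key T (z ≫ a) (z ≫ b) (by rw [Category.assoc, Category.assoc, hab])

variable (W : U.left.Opens)
  (hW1 : ∀ {T1 : Over S} (ρ : T1 ⟶ R) (a' : T1 ⟶ U'), ρ ≫ t = a' ≫ g →
    Set.range (ρ ≫ s).left ⊆ (W : Set U.left))
  (hW2 : ∀ {T : Over S} (a : T ⟶ U), Set.range a.left ⊆ (W : Set U.left) →
    ∃ Rc ∈ Scheme.fppfPrecoverage T.left, ∀ ⦃V : Scheme.{u}⦄ (g1 : V ⟶ T.left), Rc g1 →
      ∃ (ρ : Over.mk (g1 ≫ T.hom) ⟶ R) (a' : Over.mk (g1 ≫ T.hom) ⟶ U'),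
        ρ ≫ t = a' ≫ g ∧ ρ ≫ s = (Over.homMk g1 : Over.mk (g1 ≫ T.hom) ⟶ T) ≫ a)

include hR hφ hW1 in
/-- a point of `U` whose class lies in `U'/R'` lands in `W`. -/
lemma range_subset_of_factor {T : Over S} (a : T ⟶ U)
    (z : (AlgSp.yon S).obj T ⟶ QuotSh.quot K₀ s' t')
    (hz : z ≫ φ = (AlgSp.yon S).map a ≫ qmap s t) : Set.range a.left ⊆ (W : Set U.left) := by
  rintro _ ⟨pt, rfl⟩
  obtain ⟨Rz, hRz, hlift⟩ := Groth.Agent.S9884.exists_fppf_lift (qmap s' t') z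
  obtain ⟨I, Zs, f, rfl⟩ := Presieve.exists_eq_ofArrows Rz
  let 𝒰 : Scheme.Cover Scheme.fppfPrecoverage T.left := ⟨⟨I, Zs, f⟩, hRz⟩
  obtain ⟨k, y, hy⟩ := 𝒰.exists_eq pt
  obtain ⟨d, hd⟩ := hlift (f k) ⟨k⟩
  obtain ⟨a', rfl⟩ := (AlgSp.yon S).map_surjective d
  set Fk : Over.mk (f k ≫ T.hom) ⟶ T := Over.homMk (f k)
  have hw : (AlgSp.yon S).map (a' ≫ g) ≫ qmap s t = (AlgSp.yon S).map (Fk ≫ a) ≫ qmap s t := by
    rw [Functor.map_comp (g := a), Category.assoc, ← hz, ← Category.assoc, ← hd, Category.assoc, hφ,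
      Functor.map_comp, Category.assoc]
  obtain ⟨R3, hR3, hl3⟩ := exists_local_rel s t hR _ _ hw
  obtain ⟨I3, Z3, f3, rfl⟩ := Presieve.exists_eq_ofArrows R3
  let 𝒰3 : Scheme.Cover Scheme.fppfPrecoverage (Zs k) := ⟨⟨I3, Z3, f3⟩, hR3⟩
  obtain ⟨k3, y3, hy3⟩ := 𝒰3.exists_eq y
  obtain ⟨ρ, hρt, hρs⟩ := hl3 (f3 k3) ⟨k3⟩
  have h1 := hW1 ρ ((Over.homMk (f3 k3) : Over.mk (f3 k3 ≫ (Over.mk (f k ≫ T.hom)).hom) ⟶ _) ≫ a')
    (by rw [hρt, Category.assoc])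
  have h2 := h1 ⟨y3, rfl⟩
  rw [hρs] at h2
  simp only [Over.comp_left, Over.homMk_left, Scheme.Hom.comp_apply] at h2
  have e1 : (f3 k3) y3 = y := hy3
  have e2 : Fk.left y = pt := hy
  rw [e1, e2] at h2
  exact h2

include hR hφ hW2 in
/-- a point of `U` landing in `W` has its class in `U'/R'`. -/
lemma factor_of_range_subset [Mono φ] {T : Over S} (a : T ⟶ U)
    (ha : Set.range a.left ⊆ (W : Set U.left)) :
    ∃ z : (AlgSp.yon S).obj T ⟶ QuotSh.quot K₀ s' t', z ≫ φ = (AlgSp.yon S).map a ≫ qmap s t := by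
  obtain ⟨Rc, hRc, hl⟩ := hW2 a ha
  refine exists_lift_of_mono φ ((AlgSp.yon S).map a ≫ qmap s t) Rc hRc ?_
  intro Y g' hg'
  obtain ⟨ρ, a', hρt, hρs⟩ := hl g' hg'
  set π : Over.mk (g' ≫ T.hom) ⟶ T := Over.homMk g'
  refine ⟨(AlgSp.yon S).map a' ≫ qmap s' t', ?_⟩
  calc ((AlgSp.yon S).map a' ≫ qmap s' t') ≫ φ
      = (AlgSp.yon S).map (a' ≫ g) ≫ qmap s t := by
        rw [Category.assoc, hφ, Functor.map_comp, Category.assoc]
    _ = (AlgSp.yon S).map ρ ≫ (AlgSp.yon S).map t ≫ qmap s t := by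
        rw [← hρt, Functor.map_comp, Category.assoc]
    _ = (AlgSp.yon S).map ρ ≫ (AlgSp.yon S).map s ≫ qmap s t := by rw [qmap_condition]
    _ = (AlgSp.yon S).map π ≫ (AlgSp.yon S).map a ≫ qmap s t := by
        rw [← Category.assoc, ← Functor.map_comp, hρs, Functor.map_comp, Category.assoc]

include hsq hR hφ hW1 hW2 in
/-- open-immersion criterion for the map of quotient sheaves. -/
theorem repWith_isOpenImmersion : AlgSp.RepWith @IsOpenImmersion φ := by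
  haveI hmono : Mono φ := mono_φ s t g s' t' r hsq hR φ hφ
  refine MorphismProperty.relative.of_exists (fun T x => ?_)
  obtain ⟨Rx, hRx, hlift⟩ := Groth.Agent.S9884.exists_fppf_lift (qmap s t) x
  obtain ⟨I, Z, h, rfl⟩ := Presieve.exists_eq_ofArrows Rx
  choose d hd using fun i => hlift (h i) ⟨i⟩
  let a : ∀ i, Over.mk (h i ≫ T.hom) ⟶ U := fun i => (AlgSp.yon S).preimage (d i)
  have ha : ∀ i, (AlgSp.yon S).map (a i) ≫ qmap s t =
      (AlgSp.yon S).map (Over.homMk (h i) : Over.mk (h i ≫ T.hom) ⟶ T) ≫ x := fun i => by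
    rw [Functor.map_preimage, hd]
  obtain ⟨V, zV, sq⟩ := exists_isPullback_open φ x Z h hRx (fun i => (a i).left ⁻¹ᵁ W)
    (fun i T'' t'' => by
      rw [← ha i, ← Category.assoc, ← Functor.map_comp]
      constructor
      · rintro ⟨z, hz⟩
        have h1 := range_subset_of_factor s t g s' t' hR φ hφ W hW1 (t'' ≫ a i) z hz
        rintro _ ⟨y, rfl⟩
        exact h1 ⟨y, rfl⟩
      · intro hsub
        refine factor_of_range_subset s t g s' t' hR φ hφ W hW2 (t'' ≫ a i) ?_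
        rintro _ ⟨y, rfl⟩
        exact hsub ⟨y, rfl⟩)
  exact ⟨_, zV, _, sq, (inferInstance : IsOpenImmersion V.ι)⟩

end Main

end Groth.Agent.Lib.T2H1.QuotOpen
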