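import Mathlib
import Groth.Prelude.Def_AlgSp4
import Groth.Prelude.Def_AlgSpDec
import Groth.Agent.S9932
import Groth.Agent.S10555
import Groth.Agent.Lib.T2H1FieldQuotC
import Groth.Agent.Lib.T2H1FieldQuotK
import Groth.Agent.Lib.T2H1FieldQuotL

/-! # A rational point of a decent algebraic space over a field is a closed immersion
(helper1, team 2) -/

set_option autoImplicit false
universe u
open CategoryTheory CategoryTheory.Limits AlgebraicGeometry Opposite
open AlgSp

namespace Groth.Agent.Lib.T2H1.RatPtClosed

open Groth.Agent.S13210 Groth.Agent.Lib.T2H1.FieldQuot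

variable {S : Scheme.{u}}

/-- in a decent algebraic space every monomorphism from the spectrum of a field is
quasi-compact. -/
theorem repWith_quasiCompact_of_mono_of_decent {X : AlgSp.Sp S} (hXa : AlgSp.IsAlgSpace X)
    (hd : AlgSp.IsDecent X) (q : AlgSp.FieldPt X) [Mono q.toHom] :
    AlgSp.RepWith @QuasiCompact q.toHom :=
  repWith_quasiCompact_of_finite_fibres hXa q (fun U φ hU hφ => by
    haveI := hU
    exact finite_fibre_of_decent hXa hd φ hφ _)

/-- **a section of a decent algebraic space over the spectrum of a field is a closed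
immersion.** -/
theorem repWith_isClosedImmersion_of_section {Y : AlgSp.Sp S} (hY : AlgSp.IsAlgSpace Y)
    (hd : AlgSp.IsDecent Y) (k : Type u) [Field k] (str : Spec (CommRingCat.of k) ⟶ S)
    (π : Y ⟶ (AlgSp.yon S).obj (Over.mk str)) (e : (AlgSp.yon S).obj (Over.mk str) ⟶ Y)
    (he : e ≫ π = 𝟙 _) : AlgSp.RepWith @IsClosedImmersion e := by
  haveI hmono : Mono e := mono_of_mono_fac he
  let q : AlgSp.FieldPt Y := fieldPtOfHom k str e
  have hq : q.toHom = e := fieldPtOfHom_toHom k str e
  haveI : Mono q.toHom := by rw [hq]; exact hmono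
  have hqc : AlgSp.RepWith @QuasiCompact e := by
    rw [← hq]; exact repWith_quasiCompact_of_mono_of_decent hY hd q
  obtain ⟨U, a, hae, has⟩ := hY.atlas
  obtain ⟨E, j, fst, sq⟩ := hY.representable_from_yon e a
  obtain ⟨c, rfl⟩ := (AlgSp.yon S).map_surjective fst
  obtain ⟨b, hb⟩ := (AlgSp.yon S).map_surjective (a ≫ π)
  have hcjb : c = j ≫ b := by
    apply (AlgSp.yon S).map_injective
    rw [Functor.map_comp, hb, ← Category.assoc, ← sq.w, Category.assoc, he, Category.comp_id]
  haveI : Etale c.left := hae.2 _ _ c sq.flip
  haveI : QuasiCompact j.left := hqc.2 _ _ j sq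
  haveI : Mono j := by
    have : Mono ((AlgSp.yon S).map j) := by
      exact (MorphismProperty.of_isPullback (P := MorphismProperty.monomorphisms _) sq
        (MorphismProperty.monomorphisms.infer_property e))
    exact (AlgSp.yon S).mono_of_mono_map this
  haveI : Mono j.left := inferInstance
  haveI : IsLocallyArtinian (Over.mk str).left :=
    Scheme.isLocallyArtinianScheme_Spec.mpr (inferInstance : IsArtinianRing k)
  have hj : IsClosedImmersion j.left := by
    rw [IsZariskiLocalAtTarget.iff_of_openCover (P := @IsClosedImmersion) U.left.affineCover]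
    intro i
    show IsClosedImmersion (pullback.snd j.left (U.left.affineCover.f i))
    rw [IsClosedImmersion.iff_isFinite_and_mono]
    refine ⟨?_, inferInstance⟩
    -- the composite to `Spec k`
    have hcl : c.left = j.left ≫ b.left := by rw [hcjb, Over.comp_left]
    have hcomp : pullback.snd j.left (U.left.affineCover.f i) ≫
        (U.left.affineCover.f i ≫ b.left) = pullback.fst j.left (U.left.affineCover.f i) ≫ c.left := by
      rw [hcl, ← Category.assoc, ← pullback.condition, Category.assoc]
    haveI : Etale (pullback.fst j.left (U.left.affineCover.f i) ≫ c.left) := inferInstance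
    haveI : LocallyQuasiFinite (pullback.fst j.left (U.left.affineCover.f i) ≫ c.left) :=
      Groth.Agent.S10555.lqf_of_etale _
    haveI : CompactSpace ↥(pullback j.left (U.left.affineCover.f i)) :=
      QuasiCompact.compactSpace_of_compactSpace (pullback.snd j.left (U.left.affineCover.f i))
    haveI : IsAffine (Over.mk str).left := (inferInstance : IsAffine (Spec (CommRingCat.of k)))
    haveI : QuasiCompact (pullback.fst j.left (U.left.affineCover.f i) ≫ c.left) :=
      (HasAffineProperty.iff_of_isAffine (P := @QuasiCompact)).2 ‹_›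
    haveI : IsFinite (pullback.fst j.left (U.left.affineCover.f i) ≫ c.left) :=
      IsFinite.of_locallyQuasiFinite _
    haveI : IsFinite (pullback.snd j.left (U.left.affineCover.f i) ≫
        (U.left.affineCover.f i ≫ b.left)) := by rw [hcomp]; infer_instance
    exact IsFinite.of_comp _ (U.left.affineCover.f i ≫ b.left)
  let X' : AlgSp.Space S := ⟨(AlgSp.yon S).obj (Over.mk str), AlgSp.IsAlgSpace.yon_obj _⟩
  let Y' : AlgSp.Space S := ⟨Y, hY⟩
  let f : X' ⟶ Y' := ObjectProperty.homMk e
  exact Groth.Agent.S9932.result @IsClosedImmersion (Or.inl rfl) f U a hae has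
    ((AlgSp.yon S).map c) ((AlgSp.yon S).map j) sq
    ((AlgSp.repWith_yon_map_iff @IsClosedImmersion j).2 hj)

end Groth.Agent.Lib.T2H1.RatPtClosed
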