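import Groth.Agent.Lib.T2H1RelPCTensor

/-!
# Derived base change along a pseudo-coherent algebra preserves relative `m`-pseudo-coherence (T2H1)
-/

set_option autoImplicit false
set_option linter.style.haveILetI false
universe u
open CategoryTheory CategoryTheory.Limits HomologicalComplex MonoidalCategory
attribute [local instance] HasDerivedCategory.standard

namespace Groth.Agent.Lib.T2H1.RelPCTensor

open Groth.Agent.Lib.Helper1.KF Groth.Agent.Lib.Helper1.DT DerivedCategory DTen
  Groth.Agent.Lib.Helper1.PC Groth.Agent.Lib.Helper1.Restrict Groth.Agent.S7017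
  Groth.Agent.S14388 Pretriangulated Groth.Agent.Lib.T2H1.PCm Groth.Agent.Lib.Helper1.PCTower
  Groth.Agent.Lib.Helper1.RelPC Groth.Agent.Lib.Helper1.LDer Groth.Agent.Lib.T2H4
  Groth.Agent.Lib.T2H1.LpullTorAmp Groth.Agent.Lib.Helper1.ProjRes

section Poly

attribute [local instance] MvPolynomial.algebraMvPolynomial

variable {P A : Type u} [CommRing P] [CommRing A] [Algebra P A]

/-- flat base change to polynomial rings, in derived form -/
theorem isPC_restrictD_LBC_poly (k : ℕ)
    [DRing.HasLBaseChange (algebraMap A (MvPolynomial (Fin k) A))] (K : Dual.D A) (m : ℤ)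
    (h : DRing.IsPseudoCoherent P m ((DRing.restrictD (algebraMap P A)).obj K)) :
    DRing.IsPseudoCoherent (MvPolynomial (Fin k) P) m
      ((DRing.restrictD (algebraMap (MvPolynomial (Fin k) P) (MvPolynomial (Fin k) A))).obj
        ((DRing.LBaseChange (algebraMap A (MvPolynomial (Fin k) A))).obj K)) := by
  haveI : DRing.HasLBaseChange (algebraMap P (MvPolynomial (Fin k) P)) :=
    LDerExist.hasLBaseChange _
  haveI : IsScalarTower P (MvPolynomial (Fin k) P) (MvPolynomial (Fin k) A) := by
    refine IsScalarTower.of_algebraMap_eq (fun r => ?_)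
    show algebraMap P (MvPolynomial (Fin k) A) r =
      MvPolynomial.map (algebraMap P A) (MvPolynomial.C r)
    rw [MvPolynomial.map_C]
    rfl
  haveI : Algebra.IsPushout P A (MvPolynomial (Fin k) P) (MvPolynomial (Fin k) A) :=
    Algebra.IsPushout.symm inferInstance
  have hsq : (algebraMap A (MvPolynomial (Fin k) A)).comp (algebraMap P A) =
      (algebraMap (MvPolynomial (Fin k) P) (MvPolynomial (Fin k) A)).comp
        (algebraMap P (MvPolynomial (Fin k) P)) := by
    rw [← IsScalarTower.algebraMap_eq, ← IsScalarTower.algebraMap_eq]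
  have htor : ∀ p : ℕ, 1 ≤ p → Subsingleton (DRing.Tor P p A (MvPolynomial (Fin k) P)) := by
    intro p hp
    obtain ⟨q, rfl⟩ : ∃ q, p = q + 1 := ⟨p - 1, by omega⟩
    haveI : Projective (ModuleCat.of P (MvPolynomial (Fin k) P)) :=
      ModuleCat.projective_of_categoryTheory_projective _
    exact ModuleCat.subsingleton_of_isZero
      (Functor.isZero_leftDerived_obj_projective_succ _ q _)
  haveI := TorIndep.isIso_cmp P A (MvPolynomial (Fin k) P) (MvPolynomial (Fin k) A)
    htor (TorIndep.lbcAdj _) (TorIndep.lbcAdj _) hsq K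
  have e := asIso (TrivBC.cmp (TorIndep.lbcAdj (algebraMap P (MvPolynomial (Fin k) P)))
    (TorIndep.lbcAdj (algebraMap A (MvPolynomial (Fin k) A))) hsq K)
  exact isPC_of_iso e (Groth.Agent.S2137.result _ _ m h)

end Poly

section Main

attribute [local instance] MvPolynomial.algebraMvPolynomial

variable {R A B : Type u} [CommRing R] [CommRing A] [CommRing B] [Algebra R A] [Algebra A B]
  [Algebra R B] [IsScalarTower R A B]

theorem rel_LBaseChange [Algebra.FiniteType A B] (hB : DerCA.IsRelPseudoCoherentModuleAll A B B)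
    [DRing.HasLBaseChange (algebraMap A B)] (K : Dual.D A) (m : ℤ)
    (hK : DerCA.IsRelPseudoCoherent R A m K) :
    DerCA.IsRelPseudoCoherent R B m ((DRing.LBaseChange (algebraMap A B)).obj K) := by
  obtain ⟨n, α, hα, hαK⟩ := hK
  obtain ⟨k, β, hβ⟩ := exists_presentation A B
  have hβpc : ∀ j : ℤ, DerCA.IsRelPseudoCoherentVia β j (Dual.inD B B) :=
    fun j => (rel_iff_via β hβ _ j).1 (hB j)
  let α' : MvPolynomial (Fin n) R →+* A := α
  let β' : MvPolynomial (Fin k) A →+* B := β
  letI iPA : Algebra (MvPolynomial (Fin n) R) A := α'.toAlgebra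
  let μ : MvPolynomial (Fin k) (MvPolynomial (Fin n) R) →+* MvPolynomial (Fin k) A :=
    MvPolynomial.map α'
  let ι : A →+* MvPolynomial (Fin k) A := algebraMap A (MvPolynomial (Fin k) A)
  let γ : MvPolynomial (Fin k) (MvPolynomial (Fin n) R) →+* B := β'.comp μ
  have hγ : ∀ r : R, γ (MvPolynomial.C (MvPolynomial.C r)) = algebraMap R B r := by
    intro r
    simp only [γ, μ, β', α', RingHom.comp_apply, MvPolynomial.map_C]
    have h1 : (α : MvPolynomial (Fin n) R →+* A) (MvPolynomial.C r) = algebraMap R A r :=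
      α.commutes r
    rw [h1]
    have h2 : (β : MvPolynomial (Fin k) A →+* B) (MvPolynomial.C (algebraMap R A r)) =
        algebraMap A B (algebraMap R A r) := β.commutes _
    rw [h2, ← IsScalarTower.algebraMap_apply]
  have hsurj : Function.Surjective γ :=
    hβ.comp (MvPolynomial.map_surjective α' hα)
  refine (rel_iff_pc_twoStep γ hγ hsurj _ m).2 ?_
  -- a bounded above K-projective representative of `K`
  obtain ⟨b, hb⟩ := exists_isLE_of_isPC m _ hαK
  haveI hKb : K.IsLE b := (isLE_restrictD_iff α' K b).1 hb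
  obtain ⟨Kc, hKcle, hKcproj, ⟨eK⟩⟩ := exists_iso_Q_proj K b
  haveI := hKcle
  haveI := hKcproj
  haveI hKcK : Kc.IsKProjective := CochainComplex.isKProjective_of_projective Kc b
  haveI : DRing.HasLBaseChange ι := LDerExist.hasLBaseChange _
  haveI : DRing.HasLBaseChange β' := LDerExist.hasLBaseChange _
  let C : Cx (MvPolynomial (Fin k) A) := (extCx ι).obj Kc
  have hCle : C.IsStrictlyLE b := by
    rw [CochainComplex.isStrictlyLE_iff]
    intro i hi
    exact (ModuleCat.extendScalars.{u, u, u} ι).map_isZero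
      (CochainComplex.isZero_of_isStrictlyLE Kc b i hi)
  have hCflat : ∀ i, Module.Flat (MvPolynomial (Fin k) A) (C.X i) := by
    intro i
    haveI : Module.Projective A (Kc.X i) := ModuleCat.projective_of_module_projective _
    haveI : Module.Flat A (Kc.X i) := Module.Flat.of_projective
    exact flat_bc ι (Kc.X i)
  -- the restriction of `C` to the big polynomial ring is `m`-pseudo-coherent
  have h1 := isPC_restrictD_LBC_poly (P := MvPolynomial (Fin n) R) (A := A) k K m hαK
  have eC : (DRing.LBaseChange ι).obj K ≅ Q.obj C :=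
    (DRing.LBaseChange ι).mapIso eK.symm ≪≫ lbcIso ι Kc
  have hCpc : DRing.IsPseudoCoherent (MvPolynomial (Fin k) (MvPolynomial (Fin n) R)) m
      (Q.obj ((resCx μ).obj C)) :=
    isPC_of_iso ((DRing.restrictD μ).mapIso eC ≪≫ restrictQIso μ C) h1
  -- the module `B` over `A[y]` is pseudo-coherent
  have hNpc : ∀ j : ℤ, DRing.IsPseudoCoherent (MvPolynomial (Fin k) A) j
      ((singleFunctor (ModuleCat.{u} (MvPolynomial (Fin k) A)) 0).obj (resA β')) :=
    fun j => isPC_of_iso (restrictDSingleIso β' (ModuleCat.of B B) 0) (hβpc j)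
  have key := isPC_Φ μ C b hCle hCflat m hCpc (b + 1 - m).toNat m le_rfl (by omega)
    (resA β') hNpc
  -- identify the two objects
  have hβι : β'.comp ι = algebraMap A B := by
    ext a
    exact β.commutes a
  have hEq : (extCx (algebraMap A B)).obj Kc = (extCx (β'.comp ι)).obj Kc := by rw [hβι]
  have eComp : (extCx (algebraMap A B)).obj Kc ≅ (extCx β').obj C :=
    eqToIso hEq ≪≫ (NatIso.mapHomologicalComplex (ModuleCat.extendScalarsComp ι β')
      (ComplexShape.up ℤ)).app Kc
  have eX : (DRing.LBaseChange (algebraMap A B)).obj K ≅ Q.obj ((extCx β').obj C) :=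
    (DRing.LBaseChange (algebraMap A B)).mapIso eK.symm ≪≫ lbcIso (algebraMap A B) Kc ≪≫
      Q.mapIso eComp
  have eRE : (resCx β').obj ((extCx β').obj C) ≅ TCx (resA β') C :=
    (NatIso.mapHomologicalComplex (resExtIso β') (ComplexShape.up ℤ)).app C
  have eG : (DRing.restrictD γ).obj ((DRing.LBaseChange (algebraMap A B)).obj K) ≅
      (Φ C μ).obj (resA β') :=
    (restrictDCompIso μ β' _).symm ≪≫
      (DRing.restrictD μ).mapIso ((DRing.restrictD β').mapIso eX ≪≫ restrictQIso β' _ ≪≫
        Q.mapIso eRE) ≪≫ restrictQIso μ _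
  exact isPC_of_iso eG.symm key

/-- the flat module case -/
theorem relModule_baseChange_flat [Module.Flat A B] [Algebra.FiniteType A B]
    (hB : DerCA.IsRelPseudoCoherentModuleAll A B B) (m : ℤ) (M : Type u) [AddCommGroup M]
    [Module A M] (h : DerCA.IsRelPseudoCoherentModule R A m M) :
    DerCA.IsRelPseudoCoherentModule R B m (TensorProduct A B M) := by
  haveI : DRing.HasLBaseChange (algebraMap A B) := LDerExist.hasLBaseChange _
  have h1 := rel_LBaseChange (R := R) hB (Dual.inD A M) m h
  let Y : Cx A := sgl (ModuleCat.of A M)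
  obtain ⟨G, π, hG, -, hπ, -⟩ := exists_kprojective_resolution Y
  haveI := hG
  haveI := hπ
  have hq : QuasiIso ((extCx (algebraMap A B)).map π) :=
    inferInstanceAs (QuasiIso (((Groth.Agent.Lib.Helper1.Extend.ext A B).mapHomologicalComplex
      (ComplexShape.up ℤ)).map π))
  haveI := TorIndep.isIso_lbcCounit_of_quasiIso_ext (algebraMap A B) Y G π hq
  have e1 : (DRing.LBaseChange (algebraMap A B)).obj (Q.obj Y) ≅
      Q.obj ((bcCx (algebraMap A B)).obj Y) := asIso ((lbcCounit (algebraMap A B)).app Y)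
  have e0 : Dual.inD A M ≅ Q.obj Y :=
    (singleFunctorIsoCompQ (ModuleCat.{u} A) 0).app (ModuleCat.of A M)
  have e2 : (bcCx (algebraMap A B)).obj Y ≅
      sgl ((Groth.Agent.Lib.Helper1.Extend.ext A B).obj (ModuleCat.of A M)) :=
    (HomologicalComplex.singleMapHomologicalComplex (Groth.Agent.Lib.Helper1.Extend.ext A B)
      (ComplexShape.up ℤ) 0).app _
  have e3 : Q.obj (sgl ((Groth.Agent.Lib.Helper1.Extend.ext A B).obj (ModuleCat.of A M))) ≅
      Dual.inD B (TensorProduct A B M) :=
    ((singleFunctorIsoCompQ (ModuleCat.{u} B) 0).app _).symm ≪≫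
      (singleFunctor (ModuleCat.{u} B) 0).mapIso (Groth.Agent.Lib.Helper1.Extend.extIso M)
  exact Groth.Agent.Lib.T2H7.PCLocal.rel_of_iso
    ((DRing.LBaseChange (algebraMap A B)).mapIso e0 ≪≫ e1 ≪≫ Q.mapIso e2 ≪≫ e3) m h1

end Main

end Groth.Agent.Lib.T2H1.RelPCTensor
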