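import Mathlib
import Groth.Agent.Lib.T2H1TorAmpBC
import Groth.Agent.Lib.T2H1RelPCLBC
set_option backward.isDefEq.respectTransparency.types false

/-!
# Flat base change of relative pseudo-coherence, ring level (helper1, second team)

For a pushout square of rings `R → A`, `R → R'`, `A' = R' ⊗_R A` with `R'` flat over `R`, and
`K ∈ D(A)` which is `m`-pseudo-coherent relative to `R`, the object `A' ⊗_A K` of `D(A')` is
`m`-pseudo-coherent relative to `R'`.
-/

set_option autoImplicit false
set_option linter.style.haveILetI false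
universe u
open CategoryTheory CategoryTheory.Limits HomologicalComplex MonoidalCategory TensorProduct

attribute [local instance] HasDerivedCategory.standard

namespace Groth.Agent.Lib.T2H1.RelPCBaseChange

open Groth.Agent.Lib.Helper1.KF Groth.Agent.Lib.Helper1.DT DerivedCategory DTen
  Groth.Agent.Lib.Helper1.Tor Groth.Agent.Lib.Helper1.Extend

section BC

variable {R R' A A' : Type u} [CommRing R] [CommRing R'] [CommRing A] [CommRing A']
  [Algebra R R'] [Algebra R A] [Algebra R' A'] [Algebra A A'] [Algebra R A']
  [IsScalarTower R R' A'] [IsScalarTower R A A'] [Algebra.IsPushout R R' A A']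

variable (R' A') in
/-- bridge between the categorical extension of scalars (restricted to `R'`) and the tensor
product -/
noncomputable def br (X : ModuleCat.{u} A) :
    ((ModuleCat.restrictScalars.{u} (algebraMap R' A')).obj
      ((ModuleCat.extendScalars.{u, u, u} (algebraMap A A')).obj X)) ≃ₗ[R'] A' ⊗[A] X where
  toFun x := extEquiv (A := A) (B := A') X x
  invFun y := (extEquiv (A := A) (B := A') X).symm y
  left_inv x := (extEquiv (A := A) (B := A') X).symm_apply_apply x
  right_inv y := (extEquiv (A := A) (B := A') X).apply_symm_apply y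
  map_add' x y := (extEquiv (A := A) (B := A') X).map_add x y
  map_smul' r x := by
    let x' : ((ModuleCat.extendScalars.{u, u, u} (algebraMap A A')).obj X) := x
    exact ((extEquiv (A := A) (B := A') X).map_smul (algebraMap R' A' r) x').trans
      (algebraMap_smul A' r (extEquiv (A := A) (B := A') X x'))

variable (R R' A') in
/-- the Beck–Chevalley isomorphism for a pushout square of rings, on objects -/
noncomputable def bcApp (X : ModuleCat.{u} A) :
    (ModuleCat.extendScalars.{u, u, u} (algebraMap R R')).obj
        ((ModuleCat.restrictScalars.{u} (algebraMap R A)).obj X) ≅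
      (ModuleCat.restrictScalars.{u} (algebraMap R' A')).obj
        ((ModuleCat.extendScalars.{u, u, u} (algebraMap A A')).obj X) :=
  letI : Module R X := Module.compHom X (algebraMap R A)
  haveI : IsScalarTower R A X := IsScalarTower.of_algebraMap_smul (fun r m => rfl)
  ((extEquiv (A := R) (B := R') ((ModuleCat.restrictScalars.{u} (algebraMap R A)).obj X)) ≪≫ₗ
    (Algebra.IsPushout.cancelBaseChange R R' A A' X).symm ≪≫ₗ
      (br R' A' X).symm).toModuleIso

theorem bcApp_hom_tmul (X : ModuleCat.{u} A)
    (r' : ↑((ModuleCat.restrictScalars.{u} (algebraMap R R')).obj (ModuleCat.of R' R')))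
    (x : ↑((ModuleCat.restrictScalars.{u} (algebraMap R A)).obj X)) :
    (bcApp R R' A' X).hom.hom (r' ⊗ₜ[R] x) =
      (br R' A' X).symm ((algebraMap R' A' (show R' from r')) ⊗ₜ[A] (show ↑X from x)) := by
  letI : Module R X := Module.compHom X (algebraMap R A)
  haveI : IsScalarTower R A X := IsScalarTower.of_algebraMap_smul (fun r m => rfl)
  change (br R' A' X).symm
    ((Algebra.IsPushout.cancelBaseChange R R' A A' X).symm
      ((show R' from r') ⊗ₜ[R] (show ↑X from x))) = _
  rw [Algebra.IsPushout.cancelBaseChange_symm_tmul]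

theorem bcApp_naturality {X Y : ModuleCat.{u} A} (l : X ⟶ Y) :
    (ModuleCat.extendScalars.{u, u, u} (algebraMap R R')).map
        ((ModuleCat.restrictScalars.{u} (algebraMap R A)).map l) ≫
      (bcApp R R' A' Y).hom =
    (bcApp R R' A' X).hom ≫ (ModuleCat.restrictScalars.{u} (algebraMap R' A')).map
      ((ModuleCat.extendScalars.{u, u, u} (algebraMap A A')).map l) := by
  apply ModuleCat.hom_ext
  apply LinearMap.ext
  intro t
  induction t using TensorProduct.induction_on with
  | zero => exact (LinearMap.map_zero _).trans (LinearMap.map_zero _).symm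
  | add x y hx hy =>
    exact (LinearMap.map_add _ _ _).trans ((congrArg₂ (· + ·) hx hy).trans
      (LinearMap.map_add _ _ _).symm)
  | tmul r' x =>
    have e1 : ((ModuleCat.extendScalars.{u, u, u} (algebraMap R R')).map
        ((ModuleCat.restrictScalars.{u} (algebraMap R A)).map l)).hom (r' ⊗ₜ[R] x) =
        r' ⊗ₜ[R] (((ModuleCat.restrictScalars.{u} (algebraMap R A)).map l).hom x) := rfl
    refine (congrArg (bcApp R R' A' Y).hom.hom e1).trans ?_
    refine (bcApp_hom_tmul Y r' _).trans ?_
    refine Eq.trans ?_ (congrArg ((ModuleCat.restrictScalars.{u} (algebraMap R' A')).map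
      ((ModuleCat.extendScalars.{u, u, u} (algebraMap A A')).map l)).hom
        (bcApp_hom_tmul X r' x)).symm
    rfl

variable (R R' A A') in
/-- the Beck–Chevalley isomorphism for a pushout square of rings -/
noncomputable def bcNatIso :
    ModuleCat.restrictScalars.{u} (algebraMap R A) ⋙
        ModuleCat.extendScalars.{u, u, u} (algebraMap R R') ≅
      ModuleCat.extendScalars.{u, u, u} (algebraMap A A') ⋙
        ModuleCat.restrictScalars.{u} (algebraMap R' A') :=
  NatIso.ofComponents (fun X => bcApp R R' A' X) (fun l => bcApp_naturality l)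

end BC

section Main

open Groth.Agent.Lib.Helper1.PC Groth.Agent.Lib.T2H4 Groth.Agent.Lib.Helper1.LDer

attribute [local instance] MvPolynomial.algebraMvPolynomial

variable {R R' A A' : Type u} [CommRing R] [CommRing R'] [CommRing A] [CommRing A']
  [Algebra R R'] [Algebra R A] [Algebra R' A'] [Algebra A A'] [Algebra R A']
  [IsScalarTower R R' A'] [IsScalarTower R A A']

/-- **flat base change of relative pseudo-coherence**, ring level -/
theorem rel_LBaseChange_flat [Algebra.IsPushout R A R' A'] [Module.Flat R R']
    [DRing.HasLBaseChange (algebraMap A A')] (K : Dual.D A) (m : ℤ)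
    (hK : DerCA.IsRelPseudoCoherent R A m K) :
    DerCA.IsRelPseudoCoherent R' A' m ((DRing.LBaseChange (algebraMap A A')).obj K) := by
  obtain ⟨n, α, hα, hαK⟩ := hK
  let α' : MvPolynomial (Fin n) R' →ₐ[R'] A' :=
    MvPolynomial.aeval (fun i => algebraMap A A' (α (MvPolynomial.X i)))
  have hsq0 : ∀ p : MvPolynomial (Fin n) R,
      α' (MvPolynomial.map (algebraMap R R') p) = algebraMap A A' (α p) := by
    intro p
    have h1 : ((α' : MvPolynomial (Fin n) R' →+* A').comp
        (MvPolynomial.map (algebraMap R R'))) =
        (algebraMap A A').comp (α : MvPolynomial (Fin n) R →+* A) := by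
      apply MvPolynomial.ringHom_ext
      · intro r
        simp only [RingHom.comp_apply, MvPolynomial.map_C, RingHom.coe_coe]
        rw [show α' (MvPolynomial.C (algebraMap R R' r)) = algebraMap R' A' (algebraMap R R' r) from
          α'.commutes _, show α (MvPolynomial.C r) = algebraMap R A r from α.commutes r,
          ← IsScalarTower.algebraMap_apply, ← IsScalarTower.algebraMap_apply]
      · intro i
        simp only [RingHom.comp_apply, MvPolynomial.map_X, RingHom.coe_coe]
        exact MvPolynomial.aeval_X _ i
    exact congrArg (fun ψ => ψ p) h1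
  letI iPA : Algebra (MvPolynomial (Fin n) R) A := (α : MvPolynomial (Fin n) R →+* A).toAlgebra
  letI iP'A' : Algebra (MvPolynomial (Fin n) R') A' :=
    (α' : MvPolynomial (Fin n) R' →+* A').toAlgebra
  letI iPA' : Algebra (MvPolynomial (Fin n) R) A' :=
    ((algebraMap A A').comp (α : MvPolynomial (Fin n) R →+* A)).toAlgebra
  haveI t1 : IsScalarTower (MvPolynomial (Fin n) R) A A' :=
    IsScalarTower.of_algebraMap_eq (fun _ => rfl)
  haveI t2 : IsScalarTower (MvPolynomial (Fin n) R) (MvPolynomial (Fin n) R') A' :=
    IsScalarTower.of_algebraMap_eq (fun p => (hsq0 p).symm)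
  haveI t3 : IsScalarTower R (MvPolynomial (Fin n) R) A :=
    IsScalarTower.of_algebraMap_eq (fun r => (α.commutes r).symm)
  haveI t4 : IsScalarTower R' (MvPolynomial (Fin n) R') A' :=
    IsScalarTower.of_algebraMap_eq (fun r => (α'.commutes r).symm)
  haveI t5 : IsScalarTower R (MvPolynomial (Fin n) R') A' :=
    IsScalarTower.of_algebraMap_eq (fun r => by
      rw [IsScalarTower.algebraMap_apply R R' A', IsScalarTower.algebraMap_apply R R'
        (MvPolynomial (Fin n) R'), ← IsScalarTower.algebraMap_apply R' (MvPolynomial (Fin n) R') A'])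
  haveI hpo : Algebra.IsPushout (MvPolynomial (Fin n) R) A (MvPolynomial (Fin n) R') A' :=
    (Algebra.IsPushout.comp_iff R (MvPolynomial (Fin n) R) R' (MvPolynomial (Fin n) R')
      (T := A) (T' := A')).1 inferInstance
  haveI : Module.Flat (MvPolynomial (Fin n) R) (MvPolynomial (Fin n) R') :=
    Module.Flat.isBaseChange R (MvPolynomial (Fin n) R) R' (MvPolynomial (Fin n) R')
      (Algebra.IsPushout.out (R := R) (S := MvPolynomial (Fin n) R) (R' := R')
        (S' := MvPolynomial (Fin n) R'))
  haveI : DRing.HasLBaseChange (algebraMap (MvPolynomial (Fin n) R) (MvPolynomial (Fin n) R')) :=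
    LDerExist.hasLBaseChange _
  have hsq : (algebraMap A A').comp (algebraMap (MvPolynomial (Fin n) R) A) =
      (algebraMap (MvPolynomial (Fin n) R') A').comp
        (algebraMap (MvPolynomial (Fin n) R) (MvPolynomial (Fin n) R')) := by
    rw [← IsScalarTower.algebraMap_eq, ← IsScalarTower.algebraMap_eq]
  have htor : ∀ p : ℕ, 1 ≤ p →
      Subsingleton (DRing.Tor (MvPolynomial (Fin n) R) p A (MvPolynomial (Fin n) R')) := by
    intro p hp
    exact ModuleCat.subsingleton_of_isZero
      (Groth.Agent.Helper13Tor.isZero_tor_of_flat_right _ _ p (by omega))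
  haveI := TorIndep.isIso_cmp (MvPolynomial (Fin n) R) A (MvPolynomial (Fin n) R') A'
    htor (TorIndep.lbcAdj _) (TorIndep.lbcAdj _) hsq K
  have e := asIso (TrivBC.cmp
    (TorIndep.lbcAdj (algebraMap (MvPolynomial (Fin n) R) (MvPolynomial (Fin n) R')))
    (TorIndep.lbcAdj (algebraMap A A')) hsq K)
  refine ⟨n, α', ?_, isPC_of_iso e (Groth.Agent.S2137.result _ _ m hαK)⟩
  -- surjectivity of `α'`
  intro x
  have hbc : IsBaseChange A (IsScalarTower.toAlgHom R R' A').toLinearMap :=
    Algebra.IsPushout.out (R := R) (S := A) (R' := R') (S' := A')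
  refine hbc.inductionOn x (fun x => ∃ q, α' q = x) ⟨0, map_zero _⟩ ?_ ?_ ?_
  · intro r'
    exact ⟨MvPolynomial.C r', α'.commutes r'⟩
  · rintro a y ⟨q, rfl⟩
    obtain ⟨p, rfl⟩ := hα a
    refine ⟨MvPolynomial.map (algebraMap R R') p * q, ?_⟩
    rw [map_mul, hsq0, Algebra.smul_def]
  · rintro y₁ y₂ ⟨q₁, rfl⟩ ⟨q₂, rfl⟩
    exact ⟨q₁ + q₂, map_add _ _ _⟩

end Main

end Groth.Agent.Lib.T2H1.RelPCBaseChange
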