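import Groth.Agent.Lib.T2H2FpqcPCohA
import Groth.Agent.Lib.T2H2AffRedA

/-!
# fpqc descent of pseudo-coherence for objects of `D_QCoh` (T2H2)
-/

set_option autoImplicit false
set_option linter.style.haveILetI false
universe u
open CategoryTheory CategoryTheory.Limits AlgebraicGeometry Opposite

attribute [local instance] HasDerivedCategory.standard

namespace Groth.Agent.Lib.T2H2.FpqcPCoh

open Groth.Agent.Lib.T2H8.SchLocHtpy Groth.Agent.Lib.T2H8.PerfLocal
  Groth.Agent.Lib.T2H8.PCohTriangle Groth.Agent.Lib.T2H2.AffRed Groth.Agent.Lib.T2H2.TildeLoc Groth.Agent.Lib.Helper1.Sky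
  Groth.Agent.Lib.T2H1.LpullOpen Groth.Agent.Lib.Helper1.Extend

variable {X' X : Scheme.{u}} (f : X' ⟶ X)

/-- the preimage of an affine open under a quasi-compact morphism is covered by finitely many
affine opens. -/
theorem exists_affine_cover_preimage [QuasiCompact f] (V : X.Opens) (hV : IsAffineOpen V) :
    ∃ (n : ℕ) (W : Fin n → X'.Opens), (∀ i, IsAffineOpen (W i)) ∧ (∀ i, W i ≤ f ⁻¹ᵁ V) ∧
      ∀ y : X', f y ∈ V → ∃ i, y ∈ W i := by
  have hc : IsCompact (f ⁻¹ᵁ V : Set X') := f.isCompact_preimage hV.isCompact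
  obtain ⟨s, hs, hsU⟩ := isCompact_iff_finite_and_eq_biUnion_affineOpens.mp hc
  haveI := hs.to_subtype
  obtain ⟨n, ⟨e⟩⟩ := Finite.exists_equiv_fin ↥s
  refine ⟨n, fun i => ((e.symm i).1 : X'.Opens), fun i => (e.symm i).1.2, fun i => ?_,
    fun y hy => ?_⟩
  · rw [hsU]
    exact le_iSup₂ (f := fun (i : X'.affineOpens) (_ : i ∈ s) => (i : X'.Opens))
      (e.symm i).1 (e.symm i).2
  · have hy' : y ∈ f ⁻¹ᵁ V := hy
    rw [hsU] at hy'
    simp only [TopologicalSpace.Opens.mem_iSup] at hy'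
    obtain ⟨w, hw, hyw⟩ := hy'
    refine ⟨e ⟨w, hw⟩, ?_⟩
    show y ∈ ((e.symm (e ⟨w, hw⟩)).1 : X'.Opens)
    rw [Equiv.symm_apply_apply]
    exact hyw

/-- fpqc descent of `m`-pseudo-coherence for objects with quasi-coherent cohomology. -/
theorem isPseudoCoherentD_of_lpull [Flat f] [Surjective f] [QuasiCompact f] [DCoh.HasLpull f]
    (E : DCoh.D X) (hE : DCoh.IsQCohD E) (m : ℤ)
    (h : DCoh.IsPseudoCoherentD m ((DCoh.Lpull f).obj E)) : DCoh.IsPseudoCoherentD m E := by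
  rw [isPseudoCoherentD_iff]
  intro x
  obtain ⟨V, hV, hxV, -⟩ := exists_isAffineOpen_mem_and_subset (x := x) (U := ⊤) trivial
  have hr : x ∈ Set.range hV.fromSpec := by
    rw [hV.range_fromSpec]
    exact hxV
  obtain ⟨x', hx'⟩ := hr
  rw [← hx']
  apply locPCoh_of_isPseudoCoherentD_rD hV.fromSpec m E x'
  obtain ⟨M, ⟨eM⟩⟩ := exists_tildeD_iso Γ(X, V) ((rD hV.fromSpec).obj E)
    (isQCohD_rD hV.fromSpec E hE)
  refine isPseudoCoherentD_of_iso eM m (isPseudoCoherentD_tildeD_of_isPC _ M m ?_)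
  obtain ⟨n, W, hW, hWV, hcov⟩ := exists_affine_cover_preimage f V hV
  letI alg : ∀ i, Algebra Γ(X, V) Γ(X', W i) := fun i => (f.appLE V (W i) (hWV i)).hom.toAlgebra
  haveI hflat : ∀ i, Module.Flat Γ(X, V) Γ(X', W i) := fun i => by
    have h1 : (f.appLE V (W i) (hWV i)).hom.Flat :=
      HasRingHomProperty.appLE (P := @Flat) f inferInstance ⟨V, hV⟩ ⟨W i, hW i⟩ (hWV i)
    exact h1
  refine Groth.Agent.Lib.T2H2.DescFamB.isPC (fun i : Fin n => Γ(X', W i)) ?_ M m (fun i => ?_)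
  · intro p
    have hxV' : hV.fromSpec p ∈ V := by
      have : hV.fromSpec p ∈ Set.range hV.fromSpec := ⟨p, rfl⟩
      rw [hV.range_fromSpec] at this
      exact this
    obtain ⟨y, hy⟩ := f.surjective (hV.fromSpec p)
    obtain ⟨i, hyi⟩ := hcov y (by rw [hy]; exact hxV')
    have hr' : y ∈ Set.range (hW i).fromSpec := by
      rw [(hW i).range_fromSpec]
      exact hyi
    obtain ⟨q, hq⟩ := hr'
    refine ⟨i, q, ?_⟩
    apply hV.fromSpec.isOpenEmbedding.injective
    have h1 := congrArg (fun φ : Spec Γ(X', W i) ⟶ X => φ q)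
      (IsAffineOpen.SpecMap_appLE_fromSpec f hV (hW i) (hWV i))
    simp only [Scheme.Hom.comp_apply] at h1
    rw [hq, hy] at h1
    exact h1
  · exact isPC_extD_of_chart f (hW i).fromSpec hV.fromSpec
      (IsAffineOpen.SpecMap_appLE_fromSpec f hV (hW i) (hWV i)) E M eM m h

end Groth.Agent.Lib.T2H2.FpqcPCoh
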