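import Groth.Agent.Lib.T2H1RelPCLpullBC
import Groth.Agent.Lib.T2H2FpqcPCohB
set_option backward.isDefEq.respectTransparency.types false

/-!
# fpqc descent of relative pseudo-coherence (helper1, second team)

* `exists_comap_of_isPushout`: the spectrum of a pushout of rings surjects onto the fibre product
  of spectra.
* `nonempty_LBaseChange_iso_extD`: derived base change along a flat ring map is the termwise one.
* `exists_pres_baseChange`: for a pushout square `A' = A ⊗_R R'` with `R'` flat over `R` and a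
  presentation `α : R[x] → A`, the base-changed presentation `α' : R'[x] → A'` is surjective and
  `(K|_{R[x]}) ⊗ R'[x] ≅ (K ⊗^L_A A')|_{R'[x]}`.
* `rel_of_LBaseChange_flat_family`: descent of `DerCA.IsRelPseudoCoherent` along a finite jointly
  surjective family of flat base changes.
* `isPseudoCoherentRel_of_Lpull_baseChange`: the scheme-level statement.
-/

set_option autoImplicit false
set_option linter.style.haveILetI false
universe u
open CategoryTheory CategoryTheory.Limits AlgebraicGeometry Opposite TopologicalSpace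

attribute [local instance] HasDerivedCategory.standard

namespace Groth.Agent.Lib.T2H1.RelPCDescent

open Groth.Agent.Lib.T2H8.SchLocHtpy Groth.Agent.Lib.T2H8.PerfLocal
  Groth.Agent.Lib.T2H2.AffRed Groth.Agent.Lib.T2H2.TildeLoc Groth.Agent.Lib.Helper1.Sky
  Groth.Agent.Lib.T2H1.LpullOpen Groth.Agent.Lib.T2H2.FpqcPCoh Groth.Agent.Lib.T2H1.RelPCpt
  Groth.Agent.Lib.T2H1.RelPCLpullBC Groth.Agent.Lib.Helper1.Extend Groth.Agent.Lib.Helper1.PC
  Groth.Agent.Lib.Helper1.RelPC

section Spec

variable {R S R' S' : Type u} [CommRing R] [CommRing S] [CommRing R'] [CommRing S']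
  [Algebra R S] [Algebra R R'] [Algebra S S'] [Algebra R' S'] [Algebra R S']
  [IsScalarTower R S S'] [IsScalarTower R R' S']

/-- the spectrum of a pushout of rings surjects onto the fibre product of the spectra -/
theorem exists_comap_of_isPushout [Algebra.IsPushout R S R' S'] (p : PrimeSpectrum S)
    (q : PrimeSpectrum R') (hpq : p.comap (algebraMap R S) = q.comap (algebraMap R R')) :
    ∃ z : PrimeSpectrum S', z.comap (algebraMap S S') = p ∧ z.comap (algebraMap R' S') = q := by
  have hPO : IsPushout (CommRingCat.ofHom (algebraMap R S)) (CommRingCat.ofHom (algebraMap R R'))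
      (CommRingCat.ofHom (algebraMap S S')) (CommRingCat.ofHom (algebraMap R' S')) :=
    CommRingCat.isPushout_iff_isPushout.2 inferInstance
  have hPB := isPullback_SpecMap_of_isPushout _ _ _ _ hPO
  obtain ⟨z, hz1, hz2⟩ := Scheme.Pullback.exists_preimage_pullback
    (f := Spec.map (CommRingCat.ofHom (algebraMap R S)))
    (g := Spec.map (CommRingCat.ofHom (algebraMap R R'))) p q hpq
  refine ⟨hPB.isoPullback.inv z, ?_, ?_⟩
  · have h1 := congrArg (fun φ : pullback (Spec.map (CommRingCat.ofHom (algebraMap R S)))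
      (Spec.map (CommRingCat.ofHom (algebraMap R R'))) ⟶ Spec (CommRingCat.of S) => φ z)
      hPB.isoPullback_inv_fst
    simp only [Scheme.Hom.comp_apply] at h1
    rw [hz1] at h1
    exact h1
  · have h1 := congrArg (fun φ : pullback (Spec.map (CommRingCat.ofHom (algebraMap R S)))
      (Spec.map (CommRingCat.ofHom (algebraMap R R'))) ⟶ Spec (CommRingCat.of R') => φ z)
      hPB.isoPullback_inv_snd
    simp only [Scheme.Hom.comp_apply] at h1
    rw [hz2] at h1
    exact h1

end Spec

section Flat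

variable (A B : Type u) [CommRing A] [CommRing B] [Algebra A B] [Module.Flat A B]

/-- derived base change along a flat ring map is the termwise extension of scalars -/
theorem nonempty_LBaseChange_iso_extD [DRing.HasLBaseChange (algebraMap A B)] (M : Dual.D A) :
    Nonempty ((DRing.LBaseChange (algebraMap A B)).obj M ≅ (extD A B).obj M) := by
  let C := (DerivedCategory.Q : _ ⥤ Dual.D A).objPreimage M
  let eC : DerivedCategory.Q.obj C ≅ M := DerivedCategory.Q.objObjPreimageIso M
  obtain ⟨e₃⟩ := Groth.Agent.Lib.T2H4.GNoeth.nonempty_lbcFlatIso A B C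
  have e₄ : (extD A B).obj (DerivedCategory.Q.obj C) ≅
      DerivedCategory.Q.obj ((extCx A B).obj C) := mapQIso (ext A B) C
  exact ⟨(DRing.LBaseChange (algebraMap A B)).mapIso eC.symm ≪≫ e₃ ≪≫ e₄.symm ≪≫
    (extD A B).mapIso eC⟩

end Flat

section Key

open Groth.Agent.Lib.T2H4

attribute [local instance] MvPolynomial.algebraMvPolynomial

variable {R R' A A' : Type u} [CommRing R] [CommRing R'] [CommRing A] [CommRing A']
  [Algebra R R'] [Algebra R A] [Algebra R' A'] [Algebra A A'] [Algebra R A']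
  [IsScalarTower R R' A'] [IsScalarTower R A A']

/-- polynomial rings over a flat algebra are flat over the polynomial ring -/
theorem flat_mvPolynomial (R R' : Type u) [CommRing R] [CommRing R'] [Algebra R R']
    [Module.Flat R R'] (n : ℕ) :
    Module.Flat (MvPolynomial (Fin n) R) (MvPolynomial (Fin n) R') :=
  Module.Flat.isBaseChange R (MvPolynomial (Fin n) R) R' (MvPolynomial (Fin n) R')
    (Algebra.IsPushout.out (R := R) (S := MvPolynomial (Fin n) R) (R' := R')
      (S' := MvPolynomial (Fin n) R'))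

attribute [local instance] flat_mvPolynomial

/-- base change of a presentation along a flat pushout square, with the comparison isomorphism -/
theorem exists_pres_baseChange [Algebra.IsPushout R A R' A'] [Module.Flat R R']
    [DRing.HasLBaseChange (algebraMap A A')] {n : ℕ} (α : MvPolynomial (Fin n) R →ₐ[R] A)
    (hα : Function.Surjective α) (K : Dual.D A) :
    ∃ α' : MvPolynomial (Fin n) R' →ₐ[R'] A', Function.Surjective α' ∧
      Nonempty ((extD (MvPolynomial (Fin n) R) (MvPolynomial (Fin n) R')).obj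
          ((DRing.restrictD (α : MvPolynomial (Fin n) R →+* A)).obj K) ≅
        (DRing.restrictD (α' : MvPolynomial (Fin n) R' →+* A')).obj
          ((DRing.LBaseChange (algebraMap A A')).obj K)) := by
  let α' : MvPolynomial (Fin n) R' →ₐ[R'] A' :=
    MvPolynomial.aeval (fun i => algebraMap A A' (α (MvPolynomial.X i)))
  have hsq0 : ∀ p : MvPolynomial (Fin n) R,
      α' (MvPolynomial.map (algebraMap R R') p) = algebraMap A A' (α p) := by
    intro p
    have h1 : ((α' : MvPolynomial (Fin n) R' →+* A').comp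
        (MvPolynomial.map (algebraMap R R'))) =
        (algebraMap A A').comp (α : MvPolynomial (Fin n) R →+* A) := by
      apply MvPolynomial.ringHom_ext
      · intro r
        simp only [RingHom.comp_apply, MvPolynomial.map_C, RingHom.coe_coe]
        rw [show α' (MvPolynomial.C (algebraMap R R' r)) = algebraMap R' A' (algebraMap R R' r) from
          α'.commutes _, show α (MvPolynomial.C r) = algebraMap R A r from α.commutes r,
          ← IsScalarTower.algebraMap_apply, ← IsScalarTower.algebraMap_apply]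
      · intro i
        simp only [RingHom.comp_apply, MvPolynomial.map_X, RingHom.coe_coe]
        exact MvPolynomial.aeval_X _ i
    exact congrArg (fun ψ => ψ p) h1
  letI iPA : Algebra (MvPolynomial (Fin n) R) A := (α : MvPolynomial (Fin n) R →+* A).toAlgebra
  letI iP'A' : Algebra (MvPolynomial (Fin n) R') A' :=
    (α' : MvPolynomial (Fin n) R' →+* A').toAlgebra
  letI iPA' : Algebra (MvPolynomial (Fin n) R) A' :=
    ((algebraMap A A').comp (α : MvPolynomial (Fin n) R →+* A)).toAlgebra
  haveI t1 : IsScalarTower (MvPolynomial (Fin n) R) A A' :=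
    IsScalarTower.of_algebraMap_eq (fun _ => rfl)
  haveI t2 : IsScalarTower (MvPolynomial (Fin n) R) (MvPolynomial (Fin n) R') A' :=
    IsScalarTower.of_algebraMap_eq (fun p => (hsq0 p).symm)
  haveI t3 : IsScalarTower R (MvPolynomial (Fin n) R) A :=
    IsScalarTower.of_algebraMap_eq (fun r => (α.commutes r).symm)
  haveI t4 : IsScalarTower R' (MvPolynomial (Fin n) R') A' :=
    IsScalarTower.of_algebraMap_eq (fun r => (α'.commutes r).symm)
  haveI t5 : IsScalarTower R (MvPolynomial (Fin n) R') A' :=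
    IsScalarTower.of_algebraMap_eq (fun r => by
      rw [IsScalarTower.algebraMap_apply R R' A', IsScalarTower.algebraMap_apply R R'
        (MvPolynomial (Fin n) R'), ← IsScalarTower.algebraMap_apply R' (MvPolynomial (Fin n) R') A'])
  haveI hpo : Algebra.IsPushout (MvPolynomial (Fin n) R) A (MvPolynomial (Fin n) R') A' :=
    (Algebra.IsPushout.comp_iff R (MvPolynomial (Fin n) R) R' (MvPolynomial (Fin n) R')
      (T := A) (T' := A')).1 inferInstance
  haveI : DRing.HasLBaseChange (algebraMap (MvPolynomial (Fin n) R) (MvPolynomial (Fin n) R')) :=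
    LDerExist.hasLBaseChange _
  have hsq : (algebraMap A A').comp (algebraMap (MvPolynomial (Fin n) R) A) =
      (algebraMap (MvPolynomial (Fin n) R') A').comp
        (algebraMap (MvPolynomial (Fin n) R) (MvPolynomial (Fin n) R')) := by
    rw [← IsScalarTower.algebraMap_eq, ← IsScalarTower.algebraMap_eq]
  have htor : ∀ p : ℕ, 1 ≤ p →
      Subsingleton (DRing.Tor (MvPolynomial (Fin n) R) p A (MvPolynomial (Fin n) R')) := by
    intro p hp
    exact ModuleCat.subsingleton_of_isZero
      (Groth.Agent.Helper13Tor.isZero_tor_of_flat_right _ _ p (by omega))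
  haveI := TorIndep.isIso_cmp (MvPolynomial (Fin n) R) A (MvPolynomial (Fin n) R') A'
    htor (TorIndep.lbcAdj _) (TorIndep.lbcAdj _) hsq K
  have e := asIso (TrivBC.cmp
    (TorIndep.lbcAdj (algebraMap (MvPolynomial (Fin n) R) (MvPolynomial (Fin n) R')))
    (TorIndep.lbcAdj (algebraMap A A')) hsq K)
  obtain ⟨e'⟩ := nonempty_LBaseChange_iso_extD (MvPolynomial (Fin n) R) (MvPolynomial (Fin n) R')
    ((DRing.restrictD (α : MvPolynomial (Fin n) R →+* A)).obj K)
  refine ⟨α', ?_, ⟨e'.symm ≪≫ e⟩⟩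
  -- surjectivity of `α'`
  intro x
  have hbc : IsBaseChange A (IsScalarTower.toAlgHom R R' A').toLinearMap :=
    Algebra.IsPushout.out (R := R) (S := A) (R' := R') (S' := A')
  refine hbc.inductionOn x (fun x => ∃ q, α' q = x) ⟨0, map_zero _⟩ ?_ ?_ ?_
  · intro r'
    exact ⟨MvPolynomial.C r', α'.commutes r'⟩
  · rintro a y ⟨q, rfl⟩
    obtain ⟨p, rfl⟩ := hα a
    refine ⟨MvPolynomial.map (algebraMap R R') p * q, ?_⟩
    rw [map_mul, hsq0, Algebra.smul_def]
  · rintro y₁ y₂ ⟨q₁, rfl⟩ ⟨q₂, rfl⟩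
    exact ⟨q₁ + q₂, map_add _ _ _⟩

end Key

section Family

attribute [local instance] MvPolynomial.algebraMvPolynomial
attribute [local instance] flat_mvPolynomial

variable {R A : Type u} [CommRing R] [CommRing A] [Algebra R A] [Algebra.FiniteType R A]
  {J : Type} [Finite J] (R' A' : J → Type u) [∀ j, CommRing (R' j)] [∀ j, CommRing (A' j)]
  [∀ j, Algebra R (R' j)] [∀ j, Algebra (R' j) (A' j)] [∀ j, Algebra A (A' j)]
  [∀ j, Algebra R (A' j)] [∀ j, IsScalarTower R (R' j) (A' j)] [∀ j, IsScalarTower R A (A' j)]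
  [∀ j, Algebra.IsPushout R A (R' j) (A' j)] [∀ j, Module.Flat R (R' j)]
  [∀ j, DRing.HasLBaseChange (algebraMap A (A' j))]

/-- **descent of relative pseudo-coherence** along a finite jointly surjective family of flat
base changes, ring level -/
theorem rel_of_LBaseChange_flat_family
    (hsurj : ∀ p : PrimeSpectrum R, ∃ (j : J) (q : PrimeSpectrum (R' j)),
      q.comap (algebraMap R (R' j)) = p)
    (K : Dual.D A) (m : ℤ)
    (hK : ∀ j, DerCA.IsRelPseudoCoherent (R' j) (A' j) m
      ((DRing.LBaseChange (algebraMap A (A' j))).obj K)) :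
    DerCA.IsRelPseudoCoherent R A m K := by
  obtain ⟨n, α, hα⟩ := exists_presentation R A
  refine ⟨n, α, hα, ?_⟩
  refine Groth.Agent.Lib.T2H2.DescFamB.isPC (fun j : J => MvPolynomial (Fin n) (R' j)) ?_ _ m
    (fun j => ?_)
  · intro p
    obtain ⟨j, q, hq⟩ := hsurj (p.comap (algebraMap R (MvPolynomial (Fin n) R)))
    obtain ⟨z, hz, -⟩ := exists_comap_of_isPushout (R := R) (S := MvPolynomial (Fin n) R)
      (R' := R' j) (S' := MvPolynomial (Fin n) (R' j)) p q hq.symm
    exact ⟨j, z, hz⟩
  · obtain ⟨α', hα', ⟨e⟩⟩ := exists_pres_baseChange (R' := R' j) (A' := A' j) α hα K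
    exact isPC_of_iso e.symm ((rel_iff_via α' hα' _ m).1 (hK j))

end Family

section Sch

variable {X Y Y' : Scheme.{u}} (f : X ⟶ Y) [LocallyOfFiniteType f] (h : Y' ⟶ Y) [Flat h]

/-- the affine chart of the fibre product over affine opens `V ⊆ Y`, `V' ⊆ h⁻¹V`, `U ⊆ f⁻¹V` -/
theorem chart_square {V : Y.Opens} (hV : IsAffineOpen V) {V' : Y'.Opens} (hV' : IsAffineOpen V')
    (hV'V : V' ≤ h ⁻¹ᵁ V) {U : X.Opens} (hU : IsAffineOpen U) (hUV : U ≤ f ⁻¹ᵁ V) :
    IsAffineOpen ((pullback.fst f h) ⁻¹ᵁ U ⊓ (pullback.snd f h) ⁻¹ᵁ V') ∧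
      IsPushout (f.appLE V U hUV) (h.appLE V V' hV'V)
        ((pullback.fst f h).appLE U ((pullback.fst f h) ⁻¹ᵁ U ⊓ (pullback.snd f h) ⁻¹ᵁ V')
          inf_le_left)
        ((pullback.snd f h).appLE V' ((pullback.fst f h) ⁻¹ᵁ U ⊓ (pullback.snd f h) ⁻¹ᵁ V')
          inf_le_right) := by
  have H : IsPullback (pullback.fst f h) (pullback.snd f h) f h := IsPullback.of_hasPullback f h
  constructor
  · haveI : IsAffine _ := hV
    haveI : IsAffine _ := hV'
    haveI : IsAffine _ := hU
    exact .of_isIso (Scheme.Hom.isPullback_resLE H hV'V hUV rfl).isoPullback.hom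
  · haveI := isIso_pushoutSection_of_isAffineOpen H hV'V hUV rfl hV hV' hU
    exact (isIso_pushoutSection_iff H hV'V hUV rfl).1 inferInstance

variable [Surjective h] [QuasiCompact h] [DCoh.HasLpull (pullback.fst f h)]

/-- **fpqc descent of relative pseudo-coherence**: if `E` has quasi-coherent cohomology and
`Lg'^* E` is `m`-pseudo-coherent relative to the base change `f'` of `f` along the flat,
surjective, quasi-compact morphism `h`, then `E` is `m`-pseudo-coherent relative to `f`. -/
theorem isPseudoCoherentRel_of_Lpull_baseChange (m : ℤ) (E : DCoh.D X) (hq : DCoh.IsQCohD E)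
    (hE : DerSch.IsPseudoCoherentRel (pullback.snd f h) m
      ((DCoh.Lpull (pullback.fst f h)).obj E)) :
    DerSch.IsPseudoCoherentRel f m E := by
  haveI : LocallyOfFiniteType (pullback.snd f h) := inferInstance
  rw [isPseudoCoherentRel_iff_forall_relPt] at hE ⊢
  intro x
  obtain ⟨_, ⟨V, hV, rfl⟩, hxV, -⟩ :=
    Y.isBasis_affineOpens.exists_subset_of_mem_open
      (show f x ∈ (⊤ : Y.Opens) from trivial) (⊤ : Y.Opens).2
  obtain ⟨_, ⟨U, hU, rfl⟩, hxU, hUV⟩ :=
    X.isBasis_affineOpens.exists_subset_of_mem_open (show x ∈ f ⁻¹ᵁ V from hxV) (f ⁻¹ᵁ V).2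
  have hUV' : U ≤ f ⁻¹ᵁ V := hUV
  obtain ⟨N, ⟨ε⟩⟩ := exists_tildeD_iso Γ(X, U) ((rD hU.fromSpec).obj E)
    (isQCohD_rD hU.fromSpec E hq)
  refine (forall_relPt_iff_isRelPseudoCoherent f E m hU hV hUV' N ε).2 ?_ x hxU
  obtain ⟨r, V', hV', hV'V, hcov⟩ := exists_affine_cover_preimage h V hV
  let W' : Fin r → (pullback f h).Opens := fun i =>
    (pullback.fst f h) ⁻¹ᵁ U ⊓ (pullback.snd f h) ⁻¹ᵁ (V' i)
  have hW'U : ∀ i, W' i ≤ (pullback.fst f h) ⁻¹ᵁ U := fun i => inf_le_left
  have hW'V' : ∀ i, W' i ≤ (pullback.snd f h) ⁻¹ᵁ (V' i) := fun i => inf_le_right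
  have hcs := fun i => chart_square f h hV (hV' i) (hV'V i) hU hUV'
  have hW' : ∀ i, IsAffineOpen (W' i) := fun i => (hcs i).1
  letI : Algebra Γ(Y, V) Γ(X, U) := (f.appLE V U hUV').hom.toAlgebra
  letI : ∀ i, Algebra Γ(Y, V) Γ(Y', V' i) := fun i => (h.appLE V (V' i) (hV'V i)).hom.toAlgebra
  letI : ∀ i, Algebra Γ(X, U) Γ(pullback f h, W' i) := fun i =>
    ((pullback.fst f h).appLE U (W' i) (hW'U i)).hom.toAlgebra
  letI : ∀ i, Algebra Γ(Y', V' i) Γ(pullback f h, W' i) := fun i =>
    ((pullback.snd f h).appLE (V' i) (W' i) (hW'V' i)).hom.toAlgebra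
  letI : ∀ i, Algebra Γ(Y, V) Γ(pullback f h, W' i) := fun i =>
    (((pullback.fst f h).appLE U (W' i) (hW'U i)).hom.comp (f.appLE V U hUV').hom).toAlgebra
  haveI : ∀ i, IsScalarTower Γ(Y, V) Γ(X, U) Γ(pullback f h, W' i) := fun i =>
    .of_algebraMap_eq' rfl
  haveI : ∀ i, IsScalarTower Γ(Y, V) Γ(Y', V' i) Γ(pullback f h, W' i) := fun i =>
    .of_algebraMap_eq' (by
      have := congrArg CommRingCat.Hom.hom (hcs i).2.w
      exact this)
  haveI : ∀ i, Algebra.IsPushout Γ(Y, V) Γ(X, U) Γ(Y', V' i) Γ(pullback f h, W' i) := fun i =>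
    CommRingCat.isPushout_iff_isPushout.1 (hcs i).2
  haveI : ∀ i, Module.Flat Γ(Y, V) Γ(Y', V' i) := fun i =>
    HasRingHomProperty.appLE (P := @Flat) h inferInstance ⟨V, hV⟩ ⟨V' i, hV' i⟩ (hV'V i)
  haveI : ∀ i, DRing.HasLBaseChange (algebraMap Γ(X, U) Γ(pullback f h, W' i)) := fun i =>
    Groth.Agent.Lib.T2H4.LDerExist.hasLBaseChange _
  haveI : Algebra.FiniteType Γ(Y, V) Γ(X, U) :=
    HasRingHomProperty.appLE (P := @LocallyOfFiniteType) f inferInstance ⟨V, hV⟩ ⟨U, hU⟩ hUV'
  refine rel_of_LBaseChange_flat_family (fun i : Fin r => Γ(Y', V' i))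
    (fun i : Fin r => Γ(pullback f h, W' i)) ?_ N m (fun i => ?_)
  · intro p
    have hxV' : hV.fromSpec p ∈ V := by
      have : hV.fromSpec p ∈ Set.range hV.fromSpec := ⟨p, rfl⟩
      rw [hV.range_fromSpec] at this
      exact this
    obtain ⟨y, hy⟩ := h.surjective (hV.fromSpec p)
    obtain ⟨i, hyi⟩ := hcov y (by rw [hy]; exact hxV')
    have hr' : y ∈ Set.range (hV' i).fromSpec := by
      rw [(hV' i).range_fromSpec]
      exact hyi
    obtain ⟨q, hq⟩ := hr'
    refine ⟨i, q, ?_⟩
    apply hV.fromSpec.isOpenEmbedding.injective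
    have h1 := congrArg (fun φ : Spec Γ(Y', V' i) ⟶ Y => φ q)
      (IsAffineOpen.SpecMap_appLE_fromSpec h hV (hV' i) (hV'V i))
    simp only [Scheme.Hom.comp_apply] at h1
    rw [hq, hy] at h1
    exact h1
  · obtain ⟨ε'⟩ := nonempty_rD_lpull_iso_tildeD (pullback.fst f h)
      (algebraMap Γ(X, U) Γ(pullback f h, W' i)) (hW' i).fromSpec hU.fromSpec
      (IsAffineOpen.SpecMap_appLE_fromSpec (pullback.fst f h) hU (hW' i) (hW'U i)) E N ε
    exact (forall_relPt_iff_isRelPseudoCoherent (pullback.snd f h) _ m (hW' i) (hV' i)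
      (hW'V' i) _ ε').1 (fun x' _ => hE x')

end Sch

end Groth.Agent.Lib.T2H1.RelPCDescent
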