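import Groth.Agent.Lib.T2H1RelPCTensor
import Groth.Agent.Lib.Helper1BKF1
import Groth.Agent.Lib.Helper1DT5
import Groth.Agent.Lib.Helper1KF12
import Groth.Agent.Lib.Helper1TensPerf
import Groth.Agent.S2068
import Groth.Agent.Lib.T2H1RelPCLBC
import Groth.Agent.Lib.T2H4TorRes
set_option backward.isDefEq.respectTransparency.types false

/-!
# Tensoring a pseudo-coherent complex with a relatively pseudo-coherent K-flat complex
(helper1, second team)

`isPC_Ψ`: let `ν : P → S` be a ring map, `C` a bounded above complex of flat `S`-modules whose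
restriction to `P` is `m`-pseudo-coherent, and `E` a complex of `S`-modules which is
`a`-pseudo-coherent over `S`, with cohomology in degrees `≤ n`.  Then the restriction to `P` of
`E ⊗_S C` is `t`-pseudo-coherent for `t ≥ max (a + d) (n + m)`, where `C` lives in degrees `≤ d`.
-/

set_option autoImplicit false
set_option linter.style.haveILetI false
universe u
open CategoryTheory CategoryTheory.Limits HomologicalComplex MonoidalCategory
attribute [local instance] HasDerivedCategory.standard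

namespace Groth.Agent.Lib.T2H1.RelPCTensorCx

open Groth.Agent.Lib.Helper1.KF Groth.Agent.Lib.Helper1.DT DerivedCategory DTen
  Groth.Agent.Lib.Helper1.PC Groth.Agent.Lib.Helper1.Restrict Groth.Agent.S7017
  Groth.Agent.S14388 Pretriangulated Groth.Agent.Lib.T2H1.PCm Groth.Agent.Lib.Helper1.PCTower
  Groth.Agent.Lib.Helper1.BKF Groth.Agent.Lib.T2H1.RelPCTensor

section Core

variable {S P : Type u} [CommRing S] [CommRing P] (ν : P →+* S) (C : Cx S)

/-- the functor `E ↦ (E ⊗ C)|_P` to the derived category of `P` -/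
noncomputable abbrev Ψ : Cx S ⥤ Dual.D P :=
  TR (curriedTensor (ModuleCat.{u} S)) C ⋙ resCx ν ⋙ Q

lemma isIso_Ψ_map (hC : KFlat C) {E E' : Cx S} (g : E ⟶ E') [QuasiIso g] :
    IsIso ((Ψ ν C).map g) := by
  have h1 : QuasiIso (g ▷ C) := quasiIso_whiskerRight_of_kflat g C hC
  have h2 : QuasiIso ((resCx ν).map (g ▷ C)) :=
    inferInstanceAs (QuasiIso (((ModuleCat.restrictScalars.{u} ν).mapHomologicalComplex
      (ComplexShape.up ℤ)).map (g ▷ C)))
  show IsIso (Q.map ((resCx ν).map (g ▷ C)))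
  rw [DerivedCategory.isIso_Q_map_iff_quasiIso]
  exact h2

lemma isLE_Ψ (hC : KFlat C) (d : ℤ) (hd : C.IsStrictlyLE d) (E : Cx S) (n : ℤ)
    [hE : (Q.obj E).IsLE n] : ((Ψ ν C).obj E).IsLE (n + d) := by
  haveI : E.IsLE n := (DerivedCategory.isLE_Q_obj_iff E n).1 hE
  haveI : QuasiIso (E.ιTruncLE n) := inferInstance
  haveI := isIso_Ψ_map ν C hC (E.ιTruncLE n)
  have h1 : ((resCx ν).obj ((E.truncLE n) ⊗ C)).IsStrictlyLE (n + d) := by
    rw [CochainComplex.isStrictlyLE_iff]
    intro i hi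
    refine (ModuleCat.restrictScalars.{u} ν).map_isZero ?_
    apply Groth.Agent.Lib.Helper1.TensPerf.isZero_tensor_X
    intro p q hpq
    by_cases hp : n < p
    · exact Or.inl (CochainComplex.isZero_of_isStrictlyLE (E.truncLE n) n p hp)
    · exact Or.inr (CochainComplex.isZero_of_isStrictlyLE C d q (by lia))
  have h2 : ((Ψ ν C).obj (E.truncLE n)).IsLE (n + d) := by
    show (Q.obj ((resCx ν).obj ((E.truncLE n) ⊗ C))).IsLE (n + d)
    rw [DerivedCategory.isLE_Q_obj_iff]
    infer_instance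
  exact tt.isLE_of_iso (asIso ((Ψ ν C).map (E.ιTruncLE n))) (n + d)

lemma exists_iso_pi_of_FF (F : ModuleCat.{u} S) (hF : FF F) :
    ∃ r : ℕ, Nonempty (F ≅ ModuleCat.of S (Fin r → S)) := by
  obtain ⟨h1, h2⟩ := hF
  haveI := h1
  haveI := h2
  let b := Module.Free.chooseBasis S F
  haveI : Fintype (Module.Free.ChooseBasisIndex S F) := Module.Free.ChooseBasisIndex.fintype S F
  let e := (b.reindex (Fintype.equivFin (Module.Free.ChooseBasisIndex S F))).equivFun
  exact ⟨_, ⟨e.toModuleIso⟩⟩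

/-- `F[-n] ⊗ C ≅ (F ⊗ C)[-n]` -/
noncomputable def singleShiftTensorIso (F : ModuleCat.{u} S) (n : ℤ) :
    ((HomologicalComplex.single (ModuleCat.{u} S) (ComplexShape.up ℤ) n).obj F ⊗ C : Cx S) ≅
      (TCx F C)⟦-n⟧ :=
  (TR (curriedTensor (ModuleCat.{u} S)) C).mapIso
      (((CochainComplex.singleFunctors (ModuleCat.{u} S)).shiftIso (-n) n 0 (by lia)).app F).symm ≪≫
    CochainComplex.mapBifunctorShift₁Iso (sgl F) C (curriedTensor (ModuleCat.{u} S)) (-n) ≪≫
    (shiftFunctor (Cx S) (-n)).mapIso (singleTensorIso F C).symm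

/-- `Ψ(F[-n]) ≅ Φ(F)[-n]` -/
noncomputable def ΨSingleIso (F : ModuleCat.{u} S) (n : ℤ) :
    (Ψ ν C).obj ((HomologicalComplex.single (ModuleCat.{u} S) (ComplexShape.up ℤ) n).obj F) ≅
      ((Φ C ν).obj F)⟦-n⟧ :=
  Q.mapIso ((resCx ν).mapIso (singleShiftTensorIso C F n)) ≪≫
    Q.mapIso (((resCx ν).commShiftIso (-n)).app (TCx F C)) ≪≫
    (Q.commShiftIso (-n)).app ((resCx ν).obj (TCx F C))

lemma isPC_Ψ_single (m : ℤ) (h : DRing.IsPseudoCoherent P m (Q.obj ((resCx ν).obj C)))
    (F : ModuleCat.{u} S) (hF : FF F) (n : ℤ) :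
    DRing.IsPseudoCoherent P (m + n) ((Ψ ν C).obj
      ((HomologicalComplex.single (ModuleCat.{u} S) (ComplexShape.up ℤ) n).obj F)) := by
  obtain ⟨r, ⟨e⟩⟩ := exists_iso_pi_of_FF F hF
  have h1 : DRing.IsPseudoCoherent P m ((Φ C ν).obj F) :=
    isPC_of_iso ((Φ C ν).mapIso e).symm (isPC_Φ_pi ν C m h r)
  exact isPC_of_iso (ΨSingleIso ν C F n).symm (isPC_shift h1 (-n) (m + n) (by ring))

/-- the dévissage: tensoring an `a`-pseudo-coherent complex with `C` -/
theorem isPC_Ψ (hC : KFlat C) (d : ℤ) (hd : C.IsStrictlyLE d) (m : ℤ)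
    (h : DRing.IsPseudoCoherent P m (Q.obj ((resCx ν).obj C))) (a : ℤ) :
    ∀ (k : ℕ) (t : ℤ) (E : Cx S) (n : ℤ), a + d ≤ t → n < a + k → (Q.obj E).IsLE n →
      DRing.IsPseudoCoherent S a (Q.obj E) → n + m ≤ t →
      DRing.IsPseudoCoherent P t ((Ψ ν C).obj E) := by
  intro k
  induction k with
  | zero =>
    intro t E n hat hn hE hpc hnm
    haveI := hE
    haveI := isLE_Ψ ν C hC d hd E n
    haveI : ((Ψ ν C).obj E).IsLE (t - 1) :=
      tt.isLE_of_le _ (n + d) (t - 1) (by push_cast at hn; lia)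
    exact isPC_of_isLE t _
  | succ k ih =>
    intro t E n hat hn hE hpc hnm
    by_cases hk : n < a + k
    · exact ih t E n hat hk hE hpc hnm
    haveI := hE
    have han : a ≤ n := by lia
    have hfin : Module.Finite S ((homologyFunctor (ModuleCat.{u} S) n).obj (Q.obj E)) :=
      (Groth.Agent.S2068.result (Q.obj E) n (isPC_mono han hpc)).1
        (fun i hi => (DerivedCategory.isLE_iff (Q.obj E) n).1 hE i hi)
    obtain ⟨F, g, hF, hg⟩ := exists_attach E n hfin
    obtain ⟨t', rfl⟩ : ∃ t', t = t' + 1 := ⟨t - 1, by ring⟩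
    have hT := DerivedCategory.mappingCone_triangle_distinguished g
    have hE'le : (Q.obj (CochainComplex.mappingCone g)).IsLE (n - 1) :=
      (conn_iff_of_distTriang _ hT n).1 hg
    have hE'pc : DRing.IsPseudoCoherent S a (Q.obj (CochainComplex.mappingCone g)) :=
      isPC_obj₃ _ hT a
        (isPC_of_iso ((singleFunctorIsoCompQ (ModuleCat.{u} S) n).app F)
          (isPC_of_rep (a + 1) (rep_single F hF n))) hpc
    have h1 := ih (t' + 1) (CochainComplex.mappingCone g) (n - 1) hat (by push_cast at hn; lia)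
      hE'le hE'pc (by lia)
    have hS := (coneFunctor_TR (curriedTensor (ModuleCat.{u} S)) C).cone_shortExact g
    have hS' : (((CochainComplex.mappingCone.triangleRotateShortComplex g).map
        (TR (curriedTensor (ModuleCat.{u} S)) C)).map (resCx ν)).ShortExact := by
      refine HomologicalComplex.shortExact_of_degreewise_shortExact _ fun i => ?_
      exact (hS.map_of_exact (HomologicalComplex.eval _ _ i)).map_of_exact
        (ModuleCat.restrictScalars.{u} ν)
    have hT' := DerivedCategory.triangleOfSES_distinguished hS'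
    have h3 : DRing.IsPseudoCoherent P t' ((Ψ ν C).obj
        (((HomologicalComplex.single (ModuleCat.{u} S) (ComplexShape.up ℤ) n).obj F)⟦(1 : ℤ)⟧)) := by
      have e := ((CochainComplex.singleFunctors (ModuleCat.{u} S)).shiftIso 1 (n - 1) n
        (by lia)).app F
      exact isPC_of_iso ((Ψ ν C).mapIso e).symm
        (isPC_mono (by lia) (isPC_Ψ_single ν C m h F hF (n - 1)))
    exact isPC_obj₁ _ hT' t' h1 h3

/-- all levels -/
theorem isPC_Ψ_all (hC : KFlat C) (d : ℤ) (hd : C.IsStrictlyLE d)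
    (h : ∀ m : ℤ, DRing.IsPseudoCoherent P m (Q.obj ((resCx ν).obj C))) (E : Cx S)
    (hE : ∀ a : ℤ, DRing.IsPseudoCoherent S a (Q.obj E)) (t : ℤ) :
    DRing.IsPseudoCoherent P t ((Ψ ν C).obj E) := by
  obtain ⟨n, hn⟩ := exists_isLE_of_isPC 0 _ (hE 0)
  exact isPC_Ψ ν C hC d hd (t - n) (h (t - n)) (t - d) (n - (t - d) + 1).toNat t E n (by lia)
    (by lia) hn (hE (t - d)) (by lia)

end Core

section Main

open Groth.Agent.Lib.Helper1.RelPC Groth.Agent.Lib.Helper1.LDer Groth.Agent.Lib.T2H4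
  Groth.Agent.Lib.T2H1.LpullTorAmp Groth.Agent.Lib.Helper1.ProjRes Groth.Agent.Lib.T2H4.TorRes

attribute [local instance] MvPolynomial.algebraMvPolynomial

variable {R A B : Type u} [CommRing R] [CommRing A] [CommRing B] [Algebra R A] [Algebra A B]
  [Algebra R B] [IsScalarTower R A B]

/-- **the tensor product of a relatively pseudo-coherent complex over `B/A` with the base change
of a relatively pseudo-coherent complex over `A/R` is pseudo-coherent relative to `R`**, on
chain level: `Kc` is a bounded above complex of projective `A`-modules. -/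
theorem rel_tensor_ext [Algebra.FiniteType R A] [Algebra.FiniteType A B] (Kc : Cx A) (b : ℤ)
    (hKcle : Kc.IsStrictlyLE b) (hKcproj : ∀ i, Projective (Kc.X i))
    (hK : ∀ m : ℤ, DerCA.IsRelPseudoCoherent R A m (Q.obj Kc)) (L : Cx B)
    (hL : ∀ m : ℤ, DerCA.IsRelPseudoCoherent A B m (Q.obj L)) (t : ℤ) :
    DerCA.IsRelPseudoCoherent R B t (Q.obj (L ⊗ (extCx (algebraMap A B)).obj Kc)) := by
  obtain ⟨n, α, hα⟩ := exists_presentation R A
  obtain ⟨k, β, hβ⟩ := exists_presentation A B
  have hαK : ∀ m : ℤ, DerCA.IsRelPseudoCoherentVia α m (Q.obj Kc) :=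
    fun m => (rel_iff_via α hα _ m).1 (hK m)
  have hβL : ∀ j : ℤ, DerCA.IsRelPseudoCoherentVia β j (Q.obj L) :=
    fun j => (rel_iff_via β hβ _ j).1 (hL j)
  let α' : MvPolynomial (Fin n) R →+* A := α
  let β' : MvPolynomial (Fin k) A →+* B := β
  letI iPA : Algebra (MvPolynomial (Fin n) R) A := α'.toAlgebra
  let μ : MvPolynomial (Fin k) (MvPolynomial (Fin n) R) →+* MvPolynomial (Fin k) A :=
    MvPolynomial.map α'
  let ι : A →+* MvPolynomial (Fin k) A := algebraMap A (MvPolynomial (Fin k) A)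
  let γ : MvPolynomial (Fin k) (MvPolynomial (Fin n) R) →+* B := β'.comp μ
  have hγ : ∀ r : R, γ (MvPolynomial.C (MvPolynomial.C r)) = algebraMap R B r := by
    intro r
    simp only [γ, μ, β', α', RingHom.comp_apply, MvPolynomial.map_C]
    have h1 : (α : MvPolynomial (Fin n) R →+* A) (MvPolynomial.C r) = algebraMap R A r :=
      α.commutes r
    rw [h1]
    have h2 : (β : MvPolynomial (Fin k) A →+* B) (MvPolynomial.C (algebraMap R A r)) =
        algebraMap A B (algebraMap R A r) := β.commutes _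
    rw [h2, ← IsScalarTower.algebraMap_apply]
  have hsurj : Function.Surjective γ :=
    hβ.comp (MvPolynomial.map_surjective α' hα)
  refine (rel_iff_pc_twoStep γ hγ hsurj _ t).2 ?_
  haveI := hKcle
  haveI := hKcproj
  haveI hKcK : Kc.IsKProjective := CochainComplex.isKProjective_of_projective Kc b
  haveI : DRing.HasLBaseChange ι := LDerExist.hasLBaseChange _
  let C : Cx (MvPolynomial (Fin k) A) := (extCx ι).obj Kc
  have hCle : C.IsStrictlyLE b := by
    rw [CochainComplex.isStrictlyLE_iff]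
    intro i hi
    exact (ModuleCat.extendScalars.{u, u, u} ι).map_isZero
      (CochainComplex.isZero_of_isStrictlyLE Kc b i hi)
  have hCflat : ∀ i, Module.Flat (MvPolynomial (Fin k) A) (C.X i) := by
    intro i
    haveI : Module.Projective A (Kc.X i) := ModuleCat.projective_of_module_projective _
    haveI : Module.Flat A (Kc.X i) := Module.Flat.of_projective
    exact flat_bc ι (Kc.X i)
  have hCK : KFlat C :=
    kflat_of_boundedAbove_flat C b
      (fun q hq => CochainComplex.isZero_of_isStrictlyLE C b q hq) hCflat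
  have eC : (DRing.LBaseChange ι).obj (Q.obj Kc) ≅ Q.obj C := lbcIso ι Kc
  have hCpc : ∀ m : ℤ, DRing.IsPseudoCoherent (MvPolynomial (Fin k) (MvPolynomial (Fin n) R)) m
      (Q.obj ((resCx μ).obj C)) := fun m =>
    isPC_of_iso ((DRing.restrictD μ).mapIso eC ≪≫ restrictQIso μ C)
      (isPC_restrictD_LBC_poly (P := MvPolynomial (Fin n) R) (A := A) k (Q.obj Kc) m (hαK m))
  have hEpc : ∀ a : ℤ, DRing.IsPseudoCoherent (MvPolynomial (Fin k) A) a
      (Q.obj ((resCx β').obj L)) := fun a => isPC_of_iso (restrictQIso β' L) (hβL a)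
  have key := isPC_Ψ_all μ C hCK b hCle hCpc ((resCx β').obj L) hEpc t
  have hβι : β'.comp ι = algebraMap A B := by
    ext a
    exact β.commutes a
  have hEq : (extCx (algebraMap A B)).obj Kc = (extCx (β'.comp ι)).obj Kc := by rw [hβι]
  have eComp : (extCx (algebraMap A B)).obj Kc ≅ (extCx β').obj C :=
    eqToIso hEq ≪≫ (NatIso.mapHomologicalComplex (ModuleCat.extendScalarsComp ι β')
      (ComplexShape.up ℤ)).app Kc
  have eZ : (resCx β').obj (L ⊗ (extCx (algebraMap A B)).obj Kc) ≅
      ((resCx β').obj L ⊗ C : Cx (MvPolynomial (Fin k) A)) :=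
    (resCx β').mapIso (whiskerLeftIso L eComp) ≪≫ (pfCx β' L C).symm
  have eG : (DRing.restrictD γ).obj (Q.obj (L ⊗ (extCx (algebraMap A B)).obj Kc)) ≅
      (Ψ μ C).obj ((resCx β').obj L) :=
    (restrictDCompIso μ β' _).symm ≪≫
      (DRing.restrictD μ).mapIso (restrictQIso β' _ ≪≫ Q.mapIso eZ) ≪≫ restrictQIso μ _
  exact isPC_of_iso eG.symm key

end Main

end Groth.Agent.Lib.T2H1.RelPCTensorCx
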