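import Groth.Agent.Lib.T2H1RelPCLpullComp
import Groth.Agent.Lib.T2H1RelPCTensorCx
import Groth.Agent.Lib.T2H1TildeTensorCx
import Groth.Agent.Lib.T2H1LTensorCoh
set_option backward.isDefEq.respectTransparency.types false

/-!
# Relative pseudo-coherence of `E ⊗^L Lf^* G` (helper1, second team)

`isPseudoCoherentRel_LTensorCx_Lpull`: for `f : X ⟶ Y`, `g : Y ⟶ Z` locally of finite type, `E` a
complex on `X` with quasi-coherent cohomology, pseudo-coherent relative to `f`, and `G ∈ D(O_Y)`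
with quasi-coherent cohomology, pseudo-coherent relative to `g`, the object `E ⊗^L Lf^* G` is
pseudo-coherent relative to `f ≫ g`.
-/

set_option autoImplicit false
set_option linter.style.haveILetI false
universe u
open CategoryTheory CategoryTheory.Limits AlgebraicGeometry Opposite TopologicalSpace
  HomologicalComplex MonoidalCategory

attribute [local instance] HasDerivedCategory.standard

namespace Groth.Agent.Lib.T2H1.RelPCLTensorLpull

open Groth.Agent.Lib.T2H8.SchLocHtpy Groth.Agent.Lib.T2H8.PerfLocal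
  Groth.Agent.Lib.T2H2.AffRed Groth.Agent.Lib.T2H2.TildeLoc Groth.Agent.Lib.Helper1.Sky
  Groth.Agent.Lib.T2H1.LpullOpen Groth.Agent.Lib.T2H2.FpqcPCoh Groth.Agent.Lib.T2H1.RelPCpt
  Groth.Agent.Lib.T2H1.RelPCLpullBC Groth.Agent.Lib.Helper1.Restrict Groth.Agent.Lib.Helper1.PC
  Groth.Agent.Lib.Helper1.KBC Groth.Agent.Lib.Helper1.KF Groth.Agent.Lib.Helper1.BKF
  Groth.Agent.Lib.Helper1.PT Groth.Agent.Lib.Helper1.FLF Groth.Agent.Lib.T2H1.TildeTensorCx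
  DerivedCategory DTen

section Affine

variable {X : Scheme.{u}} {B : CommRingCat.{u}} (j : Spec B ⟶ X) [IsOpenImmersion j]

/-- `rD j (Q K) ≅ Q (j^* K)` -/
noncomputable def rDPullCIso (K : CochainComplex X.Modules ℤ) :
    (rD j).obj (Q.obj K) ≅ Q.obj ((pullC j).obj K) :=
  (Scheme.Modules.restrictFunctor j).mapDerivedCategoryFactors.app K ≪≫
    Q.mapIso ((NatIso.mapHomologicalComplex (Scheme.Modules.restrictFunctorIsoPullback j)
      (ComplexShape.up ℤ)).app K)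

/-- on `Spec B`: the tensor product of two complexes with module models, in terms of the tensor
product of the models -/
theorem nonempty_Q_tensor_iso_tildeD (B : CommRingCat.{u})
    (A₁ A₂ : CochainComplex (Spec B).Modules ℤ) (hA₂ : DCoh.IsKFlat A₂)
    (L L' : CochainComplex (ModuleCat.{u} B) ℤ) (hL : RKFlat L)
    (eA : Q.obj A₁ ≅ Q.obj ((TC B).obj L)) (eB : Q.obj A₂ ≅ Q.obj ((TC B).obj L')) :
    Nonempty (Q.obj ((DCoh.tensorCx.obj A₂).obj A₁) ≅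
      (DCoh.tildeD B).obj (Q.obj (L ⊗ L' : CochainComplex (ModuleCat.{u} B) ℤ))) := by
  obtain ⟨c⟩ := nonempty_Q_tensor_iso (O := (Spec B).sheaf) A₁ ((TC B).obj L) A₂ ((TC B).obj L')
    hA₂ (isKFlat_tilde B L hL) eA eB
  obtain ⟨τ⟩ := nonempty_tildeTotIso B L L'
  let s := symIso (ModSite.tensorBi (Spec B).sheaf)
    (Groth.Agent.Lib.Helper21.ModTensor5.brd (Spec B).sheaf) A₂ A₁
  exact ⟨Q.mapIso s ≪≫ c ≪≫ Q.mapIso τ.symm ≪≫
    ((tilde.functor B).mapDerivedCategoryFactors.app _).symm⟩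

end Affine

section Main

open Groth.Agent.Lib.Helper1.RelPC Groth.Agent.Lib.Helper1.LDer Groth.Agent.Lib.T2H4
  Groth.Agent.Lib.T2H1.LpullTorAmp Groth.Agent.Lib.Helper1.ProjRes
  Groth.Agent.Lib.T2H1.RelPCTensorCx

variable {X Y Z : Scheme.{u}} (f : X ⟶ Y) (g : Y ⟶ Z) [LocallyOfFiniteType f]
  [LocallyOfFiniteType g] [DCoh.HasLpull f]

theorem isPseudoCoherentRel_LTensorCx_Lpull (E : CochainComplex X.Modules ℤ)
    [DCoh.HasLTensorCx E] (hEq : DCoh.IsQCohD (DCoh.toD X E))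
    (hE : ∀ m : ℤ, DerSch.IsPseudoCoherentRel f m (DCoh.toD X E))
    (G : DCoh.D Y) (hGq : DCoh.IsQCohD G) (hG : ∀ m : ℤ, DerSch.IsPseudoCoherentRel g m G)
    (t : ℤ) :
    DerSch.IsPseudoCoherentRel (f ≫ g) t ((DCoh.LTensorCx E).obj ((DCoh.Lpull f).obj G)) := by
  haveI : LocallyOfFiniteType (f ≫ g) := inferInstance
  have hE' : ∀ (m : ℤ) (x : X), RelPt f (DCoh.toD X E) m x := fun m => by
    have h := hE m
    rw [isPseudoCoherentRel_iff_forall_relPt] at h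
    exact h
  have hG' : ∀ (m : ℤ) (y : Y), RelPt g G m y := fun m => by
    have h := hG m
    rw [isPseudoCoherentRel_iff_forall_relPt] at h
    exact h
  rw [isPseudoCoherentRel_iff_forall_relPt]
  intro x
  obtain ⟨_, ⟨V, hV, rfl⟩, hxV, -⟩ :=
    Z.isBasis_affineOpens.exists_subset_of_mem_open
      (show g (f x) ∈ (⊤ : Z.Opens) from trivial) (⊤ : Z.Opens).2
  obtain ⟨_, ⟨U, hU, rfl⟩, hxU, hUV⟩ :=
    Y.isBasis_affineOpens.exists_subset_of_mem_open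
      (show f x ∈ g ⁻¹ᵁ V from hxV) (g ⁻¹ᵁ V).2
  obtain ⟨_, ⟨W, hW, rfl⟩, hxW, hWU⟩ :=
    X.isBasis_affineOpens.exists_subset_of_mem_open
      (show x ∈ f ⁻¹ᵁ U from hxU) (f ⁻¹ᵁ U).2
  have hUV' : U ≤ g ⁻¹ᵁ V := hUV
  have hWU' : W ≤ f ⁻¹ᵁ U := hWU
  have hWV : W ≤ (f ≫ g) ⁻¹ᵁ V := fun y hy => hUV' (hWU' hy)
  letI : Algebra Γ(Z, V) Γ(Y, U) := (g.appLE V U hUV').hom.toAlgebra
  letI : Algebra Γ(Y, U) Γ(X, W) := (f.appLE U W hWU').hom.toAlgebra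
  letI : Algebra Γ(Z, V) Γ(X, W) := ((f ≫ g).appLE V W hWV).hom.toAlgebra
  haveI : IsScalarTower Γ(Z, V) Γ(Y, U) Γ(X, W) := .of_algebraMap_eq' (by
    have := congrArg CommRingCat.Hom.hom (Scheme.Hom.appLE_comp_appLE f g V U W hUV' hWU')
    exact this.symm)
  haveI : Algebra.FiniteType Γ(Z, V) Γ(Y, U) :=
    LocallyOfFiniteType.finiteType_appLE g hV hU hUV'
  haveI : Algebra.FiniteType Γ(Y, U) Γ(X, W) :=
    LocallyOfFiniteType.finiteType_appLE f hU hW hWU'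
  haveI : DRing.HasLBaseChange (algebraMap Γ(Y, U) Γ(X, W)) :=
    Groth.Agent.Lib.T2H4.LDerExist.hasLBaseChange _
  -- the model of `G` on `U`
  obtain ⟨N, ⟨εN⟩⟩ := exists_tildeD_iso Γ(Y, U) ((rD hU.fromSpec).obj G)
    (isQCohD_rD hU.fromSpec G hGq)
  have hN : ∀ m : ℤ, DerCA.IsRelPseudoCoherent Γ(Z, V) Γ(Y, U) m N := fun m =>
    (forall_relPt_iff_isRelPseudoCoherent g G m hU hV hUV' N εN).1 (fun y _ => hG' m y)
  obtain ⟨b, hb⟩ : ∃ b : ℤ, N.IsLE b := by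
    obtain ⟨n, α, hα, hαK⟩ := hN 0
    obtain ⟨b, hb⟩ := exists_isLE_of_isPC 0 _ hαK
    exact ⟨b, (isLE_restrictD_iff (α : MvPolynomial (Fin n) Γ(Z, V) →+* Γ(Y, U)) N b).1 hb⟩
  haveI := hb
  obtain ⟨Kc, hKcle, hKcproj, ⟨eK⟩⟩ := exists_iso_Q_proj N b
  haveI := hKcle
  haveI := hKcproj
  haveI hKcK : Kc.IsKProjective := CochainComplex.isKProjective_of_projective Kc b
  -- the model of `E` on `W`
  let j := hW.fromSpec
  obtain ⟨L, hLflat, ⟨eL⟩⟩ := Groth.Agent.Lib.T2H1.LTensorQCoh.exists_tilde_kflat Γ(X, W)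
    ((pullC j).obj E) (Groth.Agent.Lib.T2H1.LTensorQCoh.isQCohD_pullC j E hEq)
  have εM : (DCoh.tildeD (CommRingCat.of Γ(X, W))).obj (Q.obj L) ≅
      (rD j).obj (DCoh.toD X E) :=
    (tilde.functor Γ(X, W)).mapDerivedCategoryFactors.app L ≪≫ eL.symm ≪≫
      (rDPullCIso j E).symm
  have hM : ∀ m : ℤ, DerCA.IsRelPseudoCoherent Γ(Y, U) Γ(X, W) m (Q.obj L) := fun m =>
    (forall_relPt_iff_isRelPseudoCoherent f _ m hW hU hWU' (Q.obj L) εM).1
      (fun y _ => hE' m y)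
  have key := rel_tensor_ext (R := Γ(Z, V)) (A := Γ(Y, U)) (B := Γ(X, W)) Kc b hKcle hKcproj
    (fun m => Groth.Agent.Lib.T2H7.PCLocal.rel_of_iso eK.symm m (hN m)) L hM t
  -- the pullback side
  obtain ⟨ε'⟩ := nonempty_rD_lpull_iso_tildeD f
    (algebraMap Γ(Y, U) Γ(X, W)) hW.fromSpec hU.fromSpec
    (IsAffineOpen.SpecMap_appLE_fromSpec f hU hW hWU') G N εN
  let L' : CochainComplex (ModuleCat.{u} Γ(X, W)) ℤ :=
    (extCx (algebraMap Γ(Y, U) Γ(X, W))).obj Kc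
  have eL' : (DRing.LBaseChange (algebraMap Γ(Y, U) Γ(X, W))).obj N ≅ Q.obj L' :=
    (DRing.LBaseChange (algebraMap Γ(Y, U) Γ(X, W))).mapIso eK.symm ≪≫
      lbcIso (algebraMap Γ(Y, U) Γ(X, W)) Kc
  -- a K-flat resolution of `Lf^* G`
  let G0 := (Q (C := X.Modules)).objPreimage ((DCoh.Lpull f).obj G)
  have e0 : Q.obj G0 ≅ (DCoh.Lpull f).obj G := (Q (C := X.Modules)).objObjPreimageIso _
  obtain ⟨P, q, hP, -, hq, -⟩ := exists_kflat_flat_resolution (O := X.sheaf) G0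
  haveI : QuasiIso q := hq
  have hP' : DCoh.IsKFlat P := hP
  haveI : IsIso (Q.map q) := by
    rw [DerivedCategory.isIso_Q_map_iff_quasiIso]; exact hq
  have eP : (DCoh.Lpull f).obj G ≅ Q.obj P := e0.symm ≪≫ (asIso (Q.map q)).symm
  haveI hI1 : ModSite.HasLTensorCx (O := X.sheaf) E := (inferInstance : DCoh.HasLTensorCx E)
  have i : (DCoh.LTensorCx E).obj (Q.obj P) ≅ Q.obj ((DCoh.tensorCx.obj P).obj E) :=
    lTensorCxIsoOfIsKFlat (O := X.sheaf) E P hP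
  obtain ⟨τ⟩ := nonempty_pullTotIso j P E
  have hPj : DCoh.IsKFlat ((pullC j).obj P) := Groth.Agent.S0960.isKFlat_pullC j P hP'
  have eB : Q.obj ((pullC j).obj P) ≅ Q.obj ((TC Γ(X, W)).obj L') :=
    (rDPullCIso j P).symm ≪≫ (rD j).mapIso eP.symm ≪≫ ε'.symm ≪≫
      (DCoh.tildeD (CommRingCat.of Γ(X, W))).mapIso eL' ≪≫
      (tilde.functor Γ(X, W)).mapDerivedCategoryFactors.app L'
  obtain ⟨c⟩ := nonempty_Q_tensor_iso_tildeD Γ(X, W) ((pullC j).obj E) ((pullC j).obj P) hPj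
    L L' hLflat eL eB
  have ε'' : (DCoh.tildeD (CommRingCat.of Γ(X, W))).obj
      (Q.obj (L ⊗ L' : CochainComplex (ModuleCat.{u} Γ(X, W)) ℤ)) ≅
      (rD j).obj ((DCoh.LTensorCx E).obj ((DCoh.Lpull f).obj G)) :=
    c.symm ≪≫ Q.mapIso τ.symm ≪≫ (rDPullCIso j _).symm ≪≫
      (rD j).mapIso (i.symm ≪≫ (DCoh.LTensorCx E).mapIso eP.symm)
  exact (forall_relPt_iff_isRelPseudoCoherent (f ≫ g) _ t hW hV hWV _ ε'').2 key x hxW

end Main

end Groth.Agent.Lib.T2H1.RelPCLTensorLpull
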