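import Groth.Agent.Lib.T2H1RelPCTorIndepSch
import Groth.Agent.Lib.T2H1RelPCLTensorLpull
import Groth.Agent.Lib.T2H1ExtTensorTorAmp
set_option backward.isDefEq.respectTransparency.types false

/-!
# Relative pseudo-coherence of external derived tensor products (helper1, second team)
-/

set_option autoImplicit false
set_option linter.style.haveILetI false
universe u
open CategoryTheory CategoryTheory.Limits AlgebraicGeometry Opposite TopologicalSpace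

attribute [local instance] HasDerivedCategory.standard

namespace Groth.Agent.Lib.T2H1.RelPCExtTensor

open Groth.Agent.Lib.T2H1.RelPCpt Groth.Agent.Lib.T2H1.RelPCTorIndepSch
  Groth.Agent.Lib.T2H1.RelPCLTensorLpull Groth.Agent.Lib.T2H1.ExtTensorTorAmp
  Groth.Agent.Lib.Helper1.Sky Groth.Agent.Lib.T2H1.LpullOpen

section Ext

variable {S X₁ Y₁ X₂ Y₂ X Y : Scheme.{u}} (f₁ : X₁ ⟶ Y₁) (q₁ : Y₁ ⟶ S) (f₂ : X₂ ⟶ Y₂)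
  (q₂ : Y₂ ⟶ S)
  (pX₁ : X ⟶ X₁) (pX₂ : X ⟶ X₂) (hX : IsPullback pX₁ pX₂ (f₁ ≫ q₁) (f₂ ≫ q₂))
  (pY₁ : Y ⟶ Y₁) (pY₂ : Y ⟶ Y₂) (hY : IsPullback pY₁ pY₂ q₁ q₂)
  (f : X ⟶ Y) (hf₁ : f ≫ pY₁ = pX₁ ≫ f₁) (hf₂ : f ≫ pY₂ = pX₂ ≫ f₂)
  [LocallyOfFiniteType f₁] [LocallyOfFiniteType f₂]

include hX hY hf₁ hf₂ in
/-- flat second factor -/
theorem isPseudoCoherentRel_externalTensor_flat_right [Flat q₂] [Flat (f₂ ≫ q₂)]
    (E₁ : DCoh.D X₁) (hq₁ : DCoh.IsQCohD E₁) (h₁ : ∀ m : ℤ, DerSch.IsPseudoCoherentRel f₁ m E₁)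
    (E₂ : DCoh.D X₂) (hq₂ : DCoh.IsQCohD E₂) (h₂ : ∀ m : ℤ, DerSch.IsPseudoCoherentRel f₂ m E₂)
    [DCoh.HasLpull pX₁] [DCoh.HasLpull pX₂]
    (K₂ : CochainComplex X.Modules ℤ) [DCoh.HasLTensorCx K₂]
    (eK : DCoh.toD X K₂ ≅ (DCoh.Lpull pX₂).obj E₂) (t : ℤ) :
    DerSch.IsPseudoCoherentRel f t ((DCoh.LTensorCx K₂).obj ((DCoh.Lpull pX₁).obj E₁)) := by
  let r₁ : pullback (f₁ ≫ q₁) q₂ ⟶ X₁ := pullback.fst _ _
  let r₂ : pullback (f₁ ≫ q₁) q₂ ⟶ Y₂ := pullback.snd _ _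
  have hZ' : IsPullback r₁ r₂ (f₁ ≫ q₁) q₂ := IsPullback.of_hasPullback _ _
  let φ : X ⟶ pullback (f₁ ≫ q₁) q₂ :=
    pullback.lift pX₁ (pX₂ ≫ f₂) (by rw [Category.assoc]; exact hX.w)
  have hφ₁ : φ ≫ r₁ = pX₁ := pullback.lift_fst _ _ _
  have hφ₂ : φ ≫ r₂ = pX₂ ≫ f₂ := pullback.lift_snd _ _ _
  let ψ : pullback (f₁ ≫ q₁) q₂ ⟶ Y :=
    hY.lift (r₁ ≫ f₁) r₂ (by rw [Category.assoc]; exact hZ'.w)
  have hψ₁ : ψ ≫ pY₁ = r₁ ≫ f₁ := hY.lift_fst _ _ _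
  have hψ₂ : ψ ≫ pY₂ = r₂ := hY.lift_snd _ _ _
  have hφψ : φ ≫ ψ = f := by
    apply hY.hom_ext
    · rw [Category.assoc, hψ₁, ← Category.assoc, hφ₁, hf₁]
    · rw [Category.assoc, hψ₂, hφ₂, hf₂]
  haveI : DCoh.HasLpull r₁ := hasLpull r₁
  haveI : DCoh.HasLpull φ := hasLpull φ
  haveI : DCoh.HasLpull (φ ≫ r₁) := hasLpull _
  have hX' : IsPullback (φ ≫ r₁) pX₂ (f₁ ≫ q₁) (f₂ ≫ q₂) := by rw [hφ₁]; exact hX
  have H2 : IsPullback pX₂ φ f₂ r₂ := (IsPullback.of_right hX' hφ₂ hZ').flip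
  haveI : LocallyOfFiniteType φ :=
    MorphismProperty.of_isPullback (P := @LocallyOfFiniteType) H2 inferInstance
  haveI : Flat pY₁ := MorphismProperty.of_isPullback (P := @Flat) hY.flip inferInstance
  have H1 : IsPullback r₁ ψ f₁ pY₁ := by
    have t : IsPullback (ψ ≫ pY₂) r₁ q₂ (f₁ ≫ q₁) := by rw [hψ₂]; exact hZ'.flip
    exact (IsPullback.of_right t hψ₁ hY.flip).flip
  haveI : LocallyOfFiniteType ψ :=
    MorphismProperty.of_isPullback (P := @LocallyOfFiniteType) H1 inferInstance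
  have hK₂ : ∀ m : ℤ, DerSch.IsPseudoCoherentRel φ m (DCoh.toD X K₂) := fun m => by
    have h := isPseudoCoherentRel_Lpull_torIndep (f₁ ≫ q₁) q₂ f₂ r₁ r₂ hZ' pX₁ pX₂ hX φ hφ₁ hφ₂
      m E₂ hq₂ (h₂ m)
    rw [isPseudoCoherentRel_iff_forall_relPt] at h ⊢
    exact fun x => (relPt_of_iso φ m eK x).2 (h x)
  have hG : ∀ m : ℤ, DerSch.IsPseudoCoherentRel ψ m ((DCoh.Lpull r₁).obj E₁) := fun m =>
    isPseudoCoherentRel_Lpull_of_isPullback_of_flat f₁ ψ r₁ pY₁ H1 m E₁ hq₁ (h₁ m)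
  have hKq : DCoh.IsQCohD (DCoh.toD X K₂) :=
    Groth.Agent.Lib.T2H8.PCohRelQCoh.main_S6235 φ _ hK₂
  have hGq : DCoh.IsQCohD ((DCoh.Lpull r₁).obj E₁) :=
    Groth.Agent.Lib.T2H8.PCohRelQCoh.main_S6235 ψ _ hG
  have h3 := isPseudoCoherentRel_LTensorCx_Lpull φ ψ K₂ hKq hK₂ ((DCoh.Lpull r₁).obj E₁) hGq hG t
  obtain ⟨c⟩ := nonempty_lpull_comp_iso φ r₁
  obtain ⟨c'⟩ := nonempty_Lpull_iso_of_eq hφ₁
  subst hφψ
  haveI : LocallyOfFiniteType (φ ≫ ψ) := inferInstance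
  rw [isPseudoCoherentRel_iff_forall_relPt] at h3 ⊢
  exact fun x => (relPt_of_iso (φ ≫ ψ) t
    ((DCoh.LTensorCx K₂).mapIso (c.app E₁ ≪≫ c'.app E₁)) x).1 (h3 x)

include hX hY hf₁ hf₂ in
/-- flat first factor -/
theorem isPseudoCoherentRel_externalTensor_flat_left [Flat q₁] [Flat (f₁ ≫ q₁)]
    (E₁ : DCoh.D X₁) (hq₁ : DCoh.IsQCohD E₁) (h₁ : ∀ m : ℤ, DerSch.IsPseudoCoherentRel f₁ m E₁)
    (E₂ : DCoh.D X₂) (hq₂ : DCoh.IsQCohD E₂) (h₂ : ∀ m : ℤ, DerSch.IsPseudoCoherentRel f₂ m E₂)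
    [DCoh.HasLpull pX₁] [DCoh.HasLpull pX₂]
    (K₂ : CochainComplex X.Modules ℤ) [DCoh.HasLTensorCx K₂]
    (eK : DCoh.toD X K₂ ≅ (DCoh.Lpull pX₂).obj E₂) (t : ℤ) :
    DerSch.IsPseudoCoherentRel f t ((DCoh.LTensorCx K₂).obj ((DCoh.Lpull pX₁).obj E₁)) := by
  let r₁ : pullback (f₁ ≫ q₁) q₂ ⟶ X₁ := pullback.fst _ _
  let r₂ : pullback (f₁ ≫ q₁) q₂ ⟶ Y₂ := pullback.snd _ _
  have hZ' : IsPullback r₁ r₂ (f₁ ≫ q₁) q₂ := IsPullback.of_hasPullback _ _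
  let φ : X ⟶ pullback (f₁ ≫ q₁) q₂ :=
    pullback.lift pX₁ (pX₂ ≫ f₂) (by rw [Category.assoc]; exact hX.w)
  have hφ₁ : φ ≫ r₁ = pX₁ := pullback.lift_fst _ _ _
  have hφ₂ : φ ≫ r₂ = pX₂ ≫ f₂ := pullback.lift_snd _ _ _
  let ψ : pullback (f₁ ≫ q₁) q₂ ⟶ Y :=
    hY.lift (r₁ ≫ f₁) r₂ (by rw [Category.assoc]; exact hZ'.w)
  have hψ₁ : ψ ≫ pY₁ = r₁ ≫ f₁ := hY.lift_fst _ _ _
  have hψ₂ : ψ ≫ pY₂ = r₂ := hY.lift_snd _ _ _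
  have hφψ : φ ≫ ψ = f := by
    apply hY.hom_ext
    · rw [Category.assoc, hψ₁, ← Category.assoc, hφ₁, hf₁]
    · rw [Category.assoc, hψ₂, hφ₂, hf₂]
  haveI : DCoh.HasLpull r₁ := hasLpull r₁
  haveI : DCoh.HasLpull φ := hasLpull φ
  haveI : DCoh.HasLpull (φ ≫ r₁) := hasLpull _
  have hX' : IsPullback (φ ≫ r₁) pX₂ (f₁ ≫ q₁) (f₂ ≫ q₂) := by rw [hφ₁]; exact hX
  have H2 : IsPullback pX₂ φ f₂ r₂ := (IsPullback.of_right hX' hφ₂ hZ').flip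
  haveI : LocallyOfFiniteType φ :=
    MorphismProperty.of_isPullback (P := @LocallyOfFiniteType) H2 inferInstance
  haveI : Flat r₂ := MorphismProperty.of_isPullback (P := @Flat) hZ' inferInstance
  have H1 : IsPullback r₁ ψ f₁ pY₁ := by
    have t : IsPullback (ψ ≫ pY₂) r₁ q₂ (f₁ ≫ q₁) := by rw [hψ₂]; exact hZ'.flip
    exact (IsPullback.of_right t hψ₁ hY.flip).flip
  haveI : LocallyOfFiniteType ψ :=
    MorphismProperty.of_isPullback (P := @LocallyOfFiniteType) H1 inferInstance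
  have hK₂ : ∀ m : ℤ, DerSch.IsPseudoCoherentRel φ m (DCoh.toD X K₂) := fun m => by
    have h := isPseudoCoherentRel_Lpull_of_isPullback_of_flat f₂ φ pX₂ r₂ H2 m E₂ hq₂ (h₂ m)
    rw [isPseudoCoherentRel_iff_forall_relPt] at h ⊢
    exact fun x => (relPt_of_iso φ m eK x).2 (h x)
  have hG : ∀ m : ℤ, DerSch.IsPseudoCoherentRel ψ m ((DCoh.Lpull r₁).obj E₁) := fun m =>
    isPseudoCoherentRel_Lpull_torIndep q₂ q₁ f₁ pY₂ pY₁ hY.flip r₂ r₁ hZ'.flip ψ hψ₂ hψ₁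
      m E₁ hq₁ (h₁ m)
  have hKq : DCoh.IsQCohD (DCoh.toD X K₂) :=
    Groth.Agent.Lib.T2H8.PCohRelQCoh.main_S6235 φ _ hK₂
  have hGq : DCoh.IsQCohD ((DCoh.Lpull r₁).obj E₁) :=
    Groth.Agent.Lib.T2H8.PCohRelQCoh.main_S6235 ψ _ hG
  have h3 := isPseudoCoherentRel_LTensorCx_Lpull φ ψ K₂ hKq hK₂ ((DCoh.Lpull r₁).obj E₁) hGq hG t
  obtain ⟨c⟩ := nonempty_lpull_comp_iso φ r₁
  obtain ⟨c'⟩ := nonempty_Lpull_iso_of_eq hφ₁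
  subst hφψ
  haveI : LocallyOfFiniteType (φ ≫ ψ) := inferInstance
  rw [isPseudoCoherentRel_iff_forall_relPt] at h3 ⊢
  exact fun x => (relPt_of_iso (φ ≫ ψ) t
    ((DCoh.LTensorCx K₂).mapIso (c.app E₁ ≪≫ c'.app E₁)) x).1 (h3 x)

end Ext

end Groth.Agent.Lib.T2H1.RelPCExtTensor
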