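import Groth.Agent.Lib.T2H1RelPCTensorCx
set_option backward.isDefEq.respectTransparency.types false

/-!
# Leveled version of `rel_tensor_ext` (helper1, second team)
-/

set_option autoImplicit false
set_option linter.style.haveILetI false
universe u
open CategoryTheory CategoryTheory.Limits HomologicalComplex MonoidalCategory
attribute [local instance] HasDerivedCategory.standard

namespace Groth.Agent.Lib.T2H1.RelPCTensorCx

open Groth.Agent.Lib.Helper1.KF Groth.Agent.Lib.Helper1.DT DerivedCategory DTen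
  Groth.Agent.Lib.Helper1.PC Groth.Agent.Lib.Helper1.Restrict Groth.Agent.S7017
  Groth.Agent.S14388 Pretriangulated Groth.Agent.Lib.T2H1.PCm Groth.Agent.Lib.Helper1.PCTower
  Groth.Agent.Lib.Helper1.BKF Groth.Agent.Lib.T2H1.RelPCTensor

section MainLev

open Groth.Agent.Lib.Helper1.RelPC Groth.Agent.Lib.Helper1.LDer Groth.Agent.Lib.T2H4
  Groth.Agent.Lib.T2H1.LpullTorAmp Groth.Agent.Lib.Helper1.ProjRes Groth.Agent.Lib.T2H4.TorRes

attribute [local instance] MvPolynomial.algebraMvPolynomial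

variable {R A B : Type u} [CommRing R] [CommRing A] [CommRing B] [Algebra R A] [Algebra A B]
  [Algebra R B] [IsScalarTower R A B]

/-- leveled form of `rel_tensor_ext` -/
theorem rel_tensor_ext_lev (Kc : Cx A) (b₁ : ℤ)
    (hKcle : Kc.IsStrictlyLE b₁) (hKcproj : ∀ i, Projective (Kc.X i)) (a₁ : ℤ)
    (hK : DerCA.IsRelPseudoCoherent R A a₁ (Q.obj Kc)) (L : Cx B) (a₂ b₂ : ℤ)
    (hL : DerCA.IsRelPseudoCoherent A B a₂ (Q.obj L)) (hLle : (Q.obj L).IsLE b₂) (t : ℤ)
    (h1 : a₂ + b₁ ≤ t) (h2 : b₂ + a₁ ≤ t) :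
    DerCA.IsRelPseudoCoherent R B t (Q.obj (L ⊗ (extCx (algebraMap A B)).obj Kc)) := by
  obtain ⟨n, α, hα, hαK⟩ := hK
  obtain ⟨k, β, hβ, hβL⟩ := hL
  let α' : MvPolynomial (Fin n) R →+* A := α
  let β' : MvPolynomial (Fin k) A →+* B := β
  letI iPA : Algebra (MvPolynomial (Fin n) R) A := α'.toAlgebra
  let μ : MvPolynomial (Fin k) (MvPolynomial (Fin n) R) →+* MvPolynomial (Fin k) A :=
    MvPolynomial.map α'
  let ι : A →+* MvPolynomial (Fin k) A := algebraMap A (MvPolynomial (Fin k) A)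
  let γ : MvPolynomial (Fin k) (MvPolynomial (Fin n) R) →+* B := β'.comp μ
  have hγ : ∀ r : R, γ (MvPolynomial.C (MvPolynomial.C r)) = algebraMap R B r := by
    intro r
    simp only [γ, μ, β', α', RingHom.comp_apply, MvPolynomial.map_C]
    have h1 : (α : MvPolynomial (Fin n) R →+* A) (MvPolynomial.C r) = algebraMap R A r :=
      α.commutes r
    rw [h1]
    have h2 : (β : MvPolynomial (Fin k) A →+* B) (MvPolynomial.C (algebraMap R A r)) =
        algebraMap A B (algebraMap R A r) := β.commutes _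
    rw [h2, ← IsScalarTower.algebraMap_apply]
  have hsurj : Function.Surjective γ :=
    hβ.comp (MvPolynomial.map_surjective α' hα)
  refine (rel_iff_pc_twoStep γ hγ hsurj _ t).2 ?_
  haveI := hKcle
  haveI := hKcproj
  haveI hKcK : Kc.IsKProjective := CochainComplex.isKProjective_of_projective Kc b₁
  haveI : DRing.HasLBaseChange ι := LDerExist.hasLBaseChange _
  let C : Cx (MvPolynomial (Fin k) A) := (extCx ι).obj Kc
  have hCle : C.IsStrictlyLE b₁ := by
    rw [CochainComplex.isStrictlyLE_iff]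
    intro i hi
    exact (ModuleCat.extendScalars.{u, u, u} ι).map_isZero
      (CochainComplex.isZero_of_isStrictlyLE Kc b₁ i hi)
  have hCflat : ∀ i, Module.Flat (MvPolynomial (Fin k) A) (C.X i) := by
    intro i
    haveI : Module.Projective A (Kc.X i) := ModuleCat.projective_of_module_projective _
    haveI : Module.Flat A (Kc.X i) := Module.Flat.of_projective
    exact flat_bc ι (Kc.X i)
  have hCK : KFlat C :=
    kflat_of_boundedAbove_flat C b₁
      (fun q hq => CochainComplex.isZero_of_isStrictlyLE C b₁ q hq) hCflat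
  have eC : (DRing.LBaseChange ι).obj (Q.obj Kc) ≅ Q.obj C := lbcIso ι Kc
  have hCpc : DRing.IsPseudoCoherent (MvPolynomial (Fin k) (MvPolynomial (Fin n) R)) a₁
      (Q.obj ((resCx μ).obj C)) :=
    isPC_of_iso ((DRing.restrictD μ).mapIso eC ≪≫ restrictQIso μ C)
      (isPC_restrictD_LBC_poly (P := MvPolynomial (Fin n) R) (A := A) k (Q.obj Kc) a₁ hαK)
  have hEpc : DRing.IsPseudoCoherent (MvPolynomial (Fin k) A) a₂
      (Q.obj ((resCx β').obj L)) := isPC_of_iso (restrictQIso β' L) hβL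
  have hEle : (Q.obj ((resCx β').obj L)).IsLE b₂ := by
    haveI : ((DRing.restrictD β').obj (Q.obj L)).IsLE b₂ :=
      (isLE_restrictD_iff β' (Q.obj L) b₂).2 hLle
    exact tt.isLE_of_iso (restrictQIso β' L) b₂
  have key := isPC_Ψ μ C hCK b₁ hCle a₁ hCpc a₂ (b₂ - a₂ + 1).toNat t ((resCx β').obj L) b₂ h1
    (by lia) hEle hEpc h2
  have hβι : β'.comp ι = algebraMap A B := by
    ext a
    exact β.commutes a
  have hEq : (extCx (algebraMap A B)).obj Kc = (extCx (β'.comp ι)).obj Kc := by rw [hβι]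
  have eComp : (extCx (algebraMap A B)).obj Kc ≅ (extCx β').obj C :=
    eqToIso hEq ≪≫ (NatIso.mapHomologicalComplex (ModuleCat.extendScalarsComp ι β')
      (ComplexShape.up ℤ)).app Kc
  have eZ : (resCx β').obj (L ⊗ (extCx (algebraMap A B)).obj Kc) ≅
      ((resCx β').obj L ⊗ C : Cx (MvPolynomial (Fin k) A)) :=
    (resCx β').mapIso (whiskerLeftIso L eComp) ≪≫ (pfCx β' L C).symm
  have eG : (DRing.restrictD γ).obj (Q.obj (L ⊗ (extCx (algebraMap A B)).obj Kc)) ≅
      (Ψ μ C).obj ((resCx β').obj L) :=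
    (restrictDCompIso μ β' _).symm ≪≫
      (DRing.restrictD μ).mapIso (restrictQIso β' _ ≪≫ Q.mapIso eZ) ≪≫ restrictQIso μ _
  exact isPC_of_iso eG.symm key

end MainLev

end Groth.Agent.Lib.T2H1.RelPCTensorCx
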