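import Groth.Agent.Lib.T2H1RelPCLpullBC
import Groth.Agent.Lib.T2H1RelPCLBC
set_option backward.isDefEq.respectTransparency.types false

/-!
# Relative pseudo-coherence of derived pullbacks along pseudo-coherent morphisms
(helper1, second team)

`isPseudoCoherentRel_Lpull_comp`: for `f : X ⟶ Y` pseudo-coherent (every `n`), `g : Y ⟶ Z` locally
of finite type and `E ∈ D(O_Y)` with quasi-coherent cohomology, `m`-pseudo-coherent relative to
`g`, the derived pullback `Lf^* E` is `m`-pseudo-coherent relative to `f ≫ g`.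
-/

set_option autoImplicit false
set_option linter.style.haveILetI false
universe u
open CategoryTheory CategoryTheory.Limits AlgebraicGeometry Opposite TopologicalSpace

attribute [local instance] HasDerivedCategory.standard

namespace Groth.Agent.Lib.T2H1.RelPCLpullComp

open Groth.Agent.Lib.T2H8.SchLocHtpy Groth.Agent.Lib.T2H8.PerfLocal
  Groth.Agent.Lib.T2H2.AffRed Groth.Agent.Lib.T2H2.TildeLoc Groth.Agent.Lib.Helper1.Sky
  Groth.Agent.Lib.T2H1.LpullOpen Groth.Agent.Lib.T2H2.FpqcPCoh Groth.Agent.Lib.T2H1.RelPCpt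
  Groth.Agent.Lib.T2H1.RelPCLpullBC Groth.Agent.Lib.Helper1.Restrict Groth.Agent.Lib.Helper1.PC

section Main

variable {X Y Z : Scheme.{u}} (f : X ⟶ Y) (g : Y ⟶ Z) [LocallyOfFiniteType f]
  [LocallyOfFiniteType g] [DCoh.HasLpull f]

theorem isPseudoCoherentRel_Lpull_comp (hf : ∀ n : ℤ, DerSch.IsNPseudoCoherent f n) (m : ℤ)
    (E : DCoh.D Y) (hq : DCoh.IsQCohD E) (hE : DerSch.IsPseudoCoherentRel g m E) :
    DerSch.IsPseudoCoherentRel (f ≫ g) m ((DCoh.Lpull f).obj E) := by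
  haveI : LocallyOfFiniteType (f ≫ g) := inferInstance
  rw [isPseudoCoherentRel_iff_forall_relPt] at hE ⊢
  intro x
  obtain ⟨_, ⟨V, hV, rfl⟩, hxV, -⟩ :=
    Z.isBasis_affineOpens.exists_subset_of_mem_open
      (show g (f x) ∈ (⊤ : Z.Opens) from trivial) (⊤ : Z.Opens).2
  obtain ⟨_, ⟨U, hU, rfl⟩, hxU, hUV⟩ :=
    Y.isBasis_affineOpens.exists_subset_of_mem_open
      (show f x ∈ g ⁻¹ᵁ V from hxV) (g ⁻¹ᵁ V).2
  obtain ⟨_, ⟨W, hW, rfl⟩, hxW, hWU⟩ :=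
    X.isBasis_affineOpens.exists_subset_of_mem_open
      (show x ∈ f ⁻¹ᵁ U from hxU) (f ⁻¹ᵁ U).2
  have hUV' : U ≤ g ⁻¹ᵁ V := hUV
  have hWU' : W ≤ f ⁻¹ᵁ U := hWU
  have hWV : W ≤ (f ≫ g) ⁻¹ᵁ V := fun y hy => hUV' (hWU' hy)
  letI : Algebra Γ(Z, V) Γ(Y, U) := (g.appLE V U hUV').hom.toAlgebra
  letI : Algebra Γ(Y, U) Γ(X, W) := (f.appLE U W hWU').hom.toAlgebra
  letI : Algebra Γ(Z, V) Γ(X, W) := ((f ≫ g).appLE V W hWV).hom.toAlgebra
  haveI : IsScalarTower Γ(Z, V) Γ(Y, U) Γ(X, W) := .of_algebraMap_eq' (by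
    have := congrArg CommRingCat.Hom.hom (Scheme.Hom.appLE_comp_appLE f g V U W hUV' hWU')
    exact this.symm)
  haveI : Algebra.FiniteType Γ(Y, U) Γ(X, W) :=
    HasRingHomProperty.appLE (P := @LocallyOfFiniteType) f inferInstance ⟨U, hU⟩ ⟨W, hW⟩ hWU'
  obtain ⟨k, φ, hφ⟩ := exists_isChart f hW hU hWU'
  have hBPC : BPC φ := bpc_of_isNPseudoCoherent f hf hW hU hWU' φ hφ
  let φ' : MvPolynomial (Fin k) Γ(Y, U) →ₐ[Γ(Y, U)] Γ(X, W) :=
    { φ with
      commutes' := fun a => by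
        have := congrArg (fun ψ => ψ a) hφ.2
        exact this }
  have hB : DerCA.IsRelPseudoCoherentModuleAll Γ(Y, U) Γ(X, W) Γ(X, W) := fun j =>
    ⟨k, φ', hφ.1, isPC_of_iso
      (((ModuleCat.restrictScalars.{u} φ).mapDerivedCategorySingleFunctor 0).app
        (ModuleCat.of Γ(X, W) Γ(X, W))).symm (hBPC j)⟩
  haveI : DRing.HasLBaseChange (algebraMap Γ(Y, U) Γ(X, W)) :=
    Groth.Agent.Lib.T2H4.LDerExist.hasLBaseChange _
  obtain ⟨N, ⟨ε⟩⟩ := exists_tildeD_iso Γ(Y, U) ((rD hU.fromSpec).obj E)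
    (isQCohD_rD hU.fromSpec E hq)
  have hN := (forall_relPt_iff_isRelPseudoCoherent g E m hU hV hUV' N ε).1 (fun y _ => hE y)
  have hN' := Groth.Agent.Lib.T2H1.RelPCTensor.rel_LBaseChange (R := Γ(Z, V)) (A := Γ(Y, U))
    (B := Γ(X, W)) hB N m hN
  obtain ⟨ε'⟩ := nonempty_rD_lpull_iso_tildeD f
    (algebraMap Γ(Y, U) Γ(X, W)) hW.fromSpec hU.fromSpec
    (IsAffineOpen.SpecMap_appLE_fromSpec f hU hW hWU') E N ε
  exact (forall_relPt_iff_isRelPseudoCoherent (f ≫ g) _ m hW hV hWV _ ε').2 hN' x hxW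

/-- iso-invariant form -/
theorem isPseudoCoherentRel_of_iso_Lpull_comp (hf : ∀ n : ℤ, DerSch.IsNPseudoCoherent f n)
    (m : ℤ) (E : DCoh.D Y) (hq : DCoh.IsQCohD E) (hE : DerSch.IsPseudoCoherentRel g m E)
    (E' : DCoh.D X) (e : E' ≅ (DCoh.Lpull f).obj E) :
    DerSch.IsPseudoCoherentRel (f ≫ g) m E' := by
  haveI : LocallyOfFiniteType (f ≫ g) := inferInstance
  have h1 := isPseudoCoherentRel_Lpull_comp f g hf m E hq hE
  rw [isPseudoCoherentRel_iff_forall_relPt] at h1 ⊢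
  exact fun x => (relPt_of_iso (f ≫ g) m e x).2 (h1 x)

end Main

end Groth.Agent.Lib.T2H1.RelPCLpullComp
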