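import Mathlib
import Groth.Prelude.Def_TrivBC
import Groth.Agent.Lib.T2H4TorRes
import Groth.Agent.Lib.Helper1LBC
import Groth.Agent.Lib.Helper1LDer7
import Groth.Agent.Lib.Helper1DT4
import Groth.Agent.Lib.Helper1TorD
import Groth.Agent.Lib.Helper1TorH
import Groth.Agent.Lib.Helper1TorM
import Groth.Agent.Lib.Helper1DT2
import Groth.Agent.Lib.Helper1TorDim
set_option backward.isDefEq.respectTransparency.types false

/-!
# Tor-independent base change (helper4)

* `quasiIso_extCx_π'`: Tor vanishing makes `A ⊗_R (projective resolution of R')` a resolution.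
* `quasiIso_extCx_of_torIndep`: then `R' ⊗_R -` preserves K-flat resolutions of restrictions of
  K-flat complexes over `A` (projection formula).
* `lbcAdj φ`: the derived adjunction `- ⊗^L ⊣ restriction`, with its unit/counit formulas.
* `resComm_app_Q`: the commutation isomorphism of restrictions at a complex.
-/

set_option autoImplicit false
set_option linter.style.haveILetI false
universe u
open CategoryTheory CategoryTheory.Limits HomologicalComplex MonoidalCategory
attribute [local instance] HasDerivedCategory.standard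

namespace Groth.Agent.Lib.T2H4.TorIndep

open Groth.Agent.Lib.Helper1 Groth.Agent.Lib.Helper1.KF Groth.Agent.Lib.Helper1.Tor
  Groth.Agent.Lib.Helper1.DT DTen
  DerivedCategory Groth.Agent.Lib.Helper1.TorM Groth.Agent.Lib.Helper1.LDer
  Groth.Agent.Lib.T2H4.TorRes TrivBC

section degreeZero

variable {S : Type u} [CommRing S]

/-- criterion for a quasi-isomorphism in degree `0` onto a complex concentrated in degree `0` -/
lemma quasiIsoAt_zero_iff {K L : DRing.Cx S} (f : K ⟶ L) (hK : IsZero (K.X 1))
    (hL : IsZero (L.X (-1))) (hL' : IsZero (L.X 1)) :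
    QuasiIsoAt f 0 ↔
      Function.Exact (K.d (-1) 0).hom (f.f 0).hom ∧ Function.Surjective (f.f 0).hom := by
  rw [quasiIsoAt_iff' f (-1) 0 1 (by simp) (by simp),
    ShortComplex.quasiIso_iff_of_zeros' _ (hK.eq_of_tgt _ _) (hL.eq_of_src _ _)
      (hL'.eq_of_tgt _ _), ShortComplex.ShortExact.moduleCat_exact_iff_function_exact,
    ModuleCat.epi_iff_surjective]
  rfl

end degreeZero

section partE

variable {R A : Type u} [CommRing R] [CommRing A] (φ : R →+* A)

/-- Tor-vanishing makes the base change of a projective resolution a resolution of the base change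
-/
theorem quasiIso_extCx_π' (M : ModuleCat.{u} R) (P : ProjectiveResolution M)
    (hex : ∀ q : ℕ, (TCx (resA φ) P.cochainComplex).ExactAt (-((q + 1 : ℕ) : ℤ))) :
    QuasiIso ((extCx φ).map P.π') := by
  have hTz : ∀ n : ℤ, n ≠ 0 → IsZero (((CochainComplex.singleFunctor (ModuleCat.{u} R) 0).obj M).X n) :=
    fun n hn => isZero_single_obj_X (ComplexShape.up ℤ) 0 M n hn
  have hFz : ∀ n : ℤ, 0 < n → IsZero (P.cochainComplex.X n) :=
    fun n hn => CochainComplex.isZero_of_isStrictlyLE _ 0 n hn
  rw [quasiIso_iff]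
  intro n
  rcases lt_trichotomy n 0 with hn | rfl | hn
  · -- negative degrees
    obtain ⟨q, rfl⟩ : ∃ q : ℕ, n = -((q + 1 : ℕ) : ℤ) := ⟨(-n - 1).toNat, by push_cast; omega⟩
    rw [quasiIsoAt_iff_exactAt _ _ ((exactAt_extCx_iff φ _ _).2 (hex q))]
    exact exactAt_of_isZero_X _ _ ((ModuleCat.extendScalars.{u, u, u} φ).map_isZero
      (hTz _ (by push_cast; omega)))
  · -- degree zero
    have h0 : QuasiIsoAt P.π' 0 := inferInstance
    rw [quasiIsoAt_zero_iff P.π' (hFz 1 (by lia)) (hTz (-1) (by lia)) (hTz 1 (by lia))] at h0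
    obtain ⟨h1, h2⟩ := h0
    rw [quasiIsoAt_zero_iff _ ((ModuleCat.extendScalars.{u, u, u} φ).map_isZero (hFz 1 (by lia)))
      ((ModuleCat.extendScalars.{u, u, u} φ).map_isZero (hTz (-1) (by lia)))
      ((ModuleCat.extendScalars.{u, u, u} φ).map_isZero (hTz 1 (by lia)))]
    have e1 : ∀ x, ((ModuleCat.extendScalars.{u, u, u} φ).map (P.cochainComplex.d (-1) 0)).hom x =
        ((P.cochainComplex.d (-1) 0).hom.lTensor (resA φ)) x := extendScalars_map_apply φ _
    have e2 : ∀ x, ((ModuleCat.extendScalars.{u, u, u} φ).map (P.π'.f 0)).hom x =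
        ((P.π'.f 0).hom.lTensor (resA φ)) x := extendScalars_map_apply φ _
    have h3 := lTensor_exact (resA φ) h1 h2
    have h4 := LinearMap.lTensor_surjective (resA φ) h2
    constructor
    · intro y
      rw [show ((((extCx φ).map P.π').f 0).hom y = 0) ↔ ((P.π'.f 0).hom.lTensor (resA φ)) y = 0 from
        by rw [← e2]; rfl]
      rw [h3 y]
      constructor
      · rintro ⟨x, hx⟩
        exact ⟨x, (e1 x).trans hx⟩
      · rintro ⟨x, hx⟩
        exact ⟨x, (e1 x).symm.trans hx⟩
    · intro y
      obtain ⟨x, hx⟩ := h4 y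
      exact ⟨x, (e2 x).trans hx⟩
  · -- positive degrees
    rw [quasiIsoAt_iff_exactAt _ _ (exactAt_of_isZero_X _ _
      ((ModuleCat.extendScalars.{u, u, u} φ).map_isZero (hFz n hn)))]
    exact exactAt_of_isZero_X _ _ ((ModuleCat.extendScalars.{u, u, u} φ).map_isZero
      (hTz _ (by lia)))

end partE

section partD

open CochainComplex

variable {R A R' : Type u} [CommRing R] [CommRing A] [CommRing R'] (φ : R →+* A) (ρ : R →+* R')

/-- if `A ⊗_R -` turns a projective resolution of `R'` into a resolution (Tor independence), then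
`R' ⊗_R -` preserves K-flat resolutions of restrictions of left K-flat complexes over `A`. -/
theorem quasiIso_extCx_of_torIndep (X : DRing.Cx A) (hX : KFlatL X)
    (M : ModuleCat.{u} R) (eM : M ≅ resA ρ) (P : ProjectiveResolution M)
    (hE : QuasiIso ((extCx φ).map P.π'))
    (G : DRing.Cx R) (hG : KFlat G) (π : G ⟶ (resCx φ).obj X) [QuasiIso π] :
    QuasiIso ((extCx ρ).map π) := by
  have hZ : Acyc (mappingCone π) := acyc_cone_of_quasiIso π
  have hW : Acyc (mappingCone P.π') := acyc_cone_of_quasiIso P.π'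
  -- (i) the base change of `W` to `A` is acyclic
  have h1 : Acyc ((extCx φ).obj (mappingCone P.π')) :=
    Acyc.of_iso (mappingCone.mapHomologicalComplexIso P.π' (ModuleCat.extendScalars.{u, u, u} φ)).symm
      (acyc_cone_of_quasiIso ((extCx φ).map P.π'))
  -- (ii), (iii) projection formula
  have h2 : Acyc (X ⊗ (extCx φ).obj (mappingCone P.π')) := hX _ h1
  have h3 : Acyc ((resCx φ).obj X ⊗ mappingCone P.π') := by
    refine Acyc.of_iso (pfCx φ X (mappingCone P.π')).symm (fun i => ?_)
    rw [← exactAt_iff_isZero_homology, exactAt_resCx_iff, exactAt_iff_isZero_homology]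
    exact h2 i
  have h4 : Acyc (mappingCone P.π' ⊗ (resCx φ).obj X) := Acyc.of_iso (swapIso _ _) h3
  -- (v)
  have h5 : Acyc (mappingCone P.π' ⊗ mappingCone π) :=
    acyclic_X₂ (cone_tensorLeft_shortExact π (mappingCone P.π')) h4
      ((hG.shift 1) _ hW)
  -- (vi)
  have hF : KFlatL P.cochainComplex := (kflat_of_isKProjective P.cochainComplex).kflatL
  have h6 : Acyc (sgl M ⊗ mappingCone π) :=
    acyclic_X₁ (cone_tensorRight_shortExact P.π' (mappingCone π)) h5 ((hF.shift 1) _ hZ)
  -- (vii)-(ix)
  have h7 : Acyc (TCx M (mappingCone π)) := Acyc.of_iso (singleTensorIso M _).symm h6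
  have h8 : Acyc ((extCx ρ).obj (mappingCone π)) := by
    intro i
    rw [← exactAt_iff_isZero_homology, exactAt_extCx_iff]
    refine exactAt_TC_of_iso eM _ i ?_
    rw [exactAt_iff_isZero_homology]
    exact h7 i
  -- (x), (xi)
  exact quasiIso_of_acyc_cone _
    (Acyc.of_iso (mappingCone.mapHomologicalComplexIso π (ModuleCat.extendScalars.{u, u, u} ρ)) h8)

/-- the comparison from derived to termwise base change is an isomorphism at `Y` as soon as base
change preserves one K-projective resolution of `Y`. -/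
lemma isIso_lbcCounit_of_quasiIso_ext [DRing.HasLBaseChange ρ] (Y G : DRing.Cx R)
    [G.IsKProjective] (π : G ⟶ Y) [QuasiIso π] (h : QuasiIso ((extCx ρ).map π)) :
    IsIso ((lbcCounit ρ).app Y) := by
  have nat := (lbcCounit ρ).naturality π
  have i1 : IsIso (Q.map π) := (DerivedCategory.isIso_Q_map_iff_quasiIso (φ := π)).2 inferInstance
  have i2 : IsIso ((Q ⋙ DRing.LBaseChange ρ).map π) := by
    show IsIso ((DRing.LBaseChange ρ).map (Q.map π))
    infer_instance
  have i3 : IsIso ((bcCx ρ ⋙ Q).map π) :=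
    (DerivedCategory.isIso_Q_map_iff_quasiIso (φ := (extCx ρ).map π)).2 h
  have i4 : IsIso ((Q ⋙ DRing.LBaseChange ρ).map π ≫ (lbcCounit ρ).app Y) := by
    rw [nat]
    infer_instance
  exact IsIso.of_isIso_comp_left ((Q ⋙ DRing.LBaseChange ρ).map π) _

end partD

section adj

variable {R A : Type u} [CommRing R] [CommRing A] (φ : R →+* A) [DRing.HasLBaseChange φ]

lemma hres (X : DRing.Cx R) : ∃ (Y : DRing.Cx R) (r : Y ⟶ X),
    (fun P : DRing.Cx R => P.IsKProjective) Y ∧ IsIso (Q.map r) := by
  obtain ⟨P, π, hP, -, hπ, -⟩ := exists_kprojective_resolution X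
  exact ⟨P, π, hP, (DerivedCategory.isIso_Q_map_iff_quasiIso (φ := π)).2 hπ⟩

lemma hsurj (Y : DRing.Cx R) (hY : (fun P : DRing.Cx R => P.IsKProjective) Y) (X : DRing.Cx R) :
    Function.Surjective (Q.map : (Y ⟶ X) → (Q.obj Y ⟶ Q.obj X)) := by
  haveI : Y.IsKProjective := hY
  exact Q_map_surjective Y X

instance inst1 : (DRing.LBaseChange φ).IsLeftDerivedFunctor (lbcCounit φ)
    (HomologicalComplex.quasiIso (ModuleCat.{u} R) (ComplexShape.up ℤ)) :=
  LDerRes.isLeftDerivedFunctor_of_isIso_of_surjective Q _ (extCx φ ⋙ Q)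
    (fun P : DRing.Cx R => P.IsKProjective) hres hsurj _ (lbcCounit φ)
    (fun Y hY => by
      haveI : Y.IsKProjective := hY
      exact isIso_lbcCounit_app φ Y)

instance inst2 : (DRing.restrictD φ).IsRightDerivedFunctor (resFactors φ).inv
    (HomologicalComplex.quasiIso (ModuleCat.{u} A) (ComplexShape.up ℤ)) :=
  Functor.isRightDerivedFunctor_of_inverts _ _ (resFactors φ)

instance inst3 : (DRing.LBaseChange φ ⋙ DRing.restrictD φ).IsLeftDerivedFunctor
    ((Functor.associator _ _ _).inv ≫ Functor.whiskerRight (lbcCounit φ) (DRing.restrictD φ))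
    (HomologicalComplex.quasiIso (ModuleCat.{u} R) (ComplexShape.up ℤ)) :=
  LDerRes.isLeftDerivedFunctor_of_isIso_of_surjective Q _ _
    (fun P : DRing.Cx R => P.IsKProjective) hres hsurj _ _
    (fun Y hY => by
      haveI : Y.IsKProjective := hY
      haveI := isIso_lbcCounit_app φ Y
      simp only [NatTrans.comp_app, Functor.associator_inv_app, Functor.whiskerRight_app,
        Category.id_comp]
      infer_instance)

instance inst4 : (DRing.restrictD φ ⋙ DRing.LBaseChange φ).IsRightDerivedFunctor
    (Functor.whiskerRight (resFactors φ).inv (DRing.LBaseChange φ) ≫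
      (Functor.associator _ _ _).hom)
    (HomologicalComplex.quasiIso (ModuleCat.{u} A) (ComplexShape.up ℤ)) :=
  Functor.isRightDerivedFunctor_of_inverts _ _
    ((Functor.associator _ _ _).symm ≪≫ Functor.isoWhiskerRight (resFactors φ) _)

/-- the derived adjunction between derived base change and restriction -/
noncomputable def lbcAdj : DRing.LBaseChange φ ⊣ DRing.restrictD φ :=
  (extResAdj φ).derived (HomologicalComplex.quasiIso (ModuleCat.{u} R) (ComplexShape.up ℤ))
    (HomologicalComplex.quasiIso (ModuleCat.{u} A) (ComplexShape.up ℤ)) (lbcCounit φ)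
    (resFactors φ).inv

lemma lbcAdj_unit_fac (X : DRing.Cx R) :
    (lbcAdj φ).unit.app (Q.obj X) ≫ (DRing.restrictD φ).map ((lbcCounit φ).app X) =
      Q.map ((extResAdj φ).unit.app X) ≫ (resFactors φ).inv.app ((extCx φ).obj X) :=
  (extResAdj φ).derivedη_fac_app (HomologicalComplex.quasiIso (ModuleCat.{u} R) (ComplexShape.up ℤ))
    (lbcCounit φ) (resFactors φ).inv X

lemma lbcAdj_counit_fac (Z : DRing.Cx A) :
    (DRing.LBaseChange φ).map ((resFactors φ).inv.app Z) ≫ (lbcAdj φ).counit.app (Q.obj Z) =
      (lbcCounit φ).app ((resCx φ).obj Z) ≫ Q.map ((extResAdj φ).counit.app Z) :=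
  (extResAdj φ).derivedε_fac_app (HomologicalComplex.quasiIso (ModuleCat.{u} A) (ComplexShape.up ℤ))
    (lbcCounit φ) (resFactors φ).inv Z

end adj

section resComm

variable {R A R' A' : Type u} [CommRing R] [CommRing A] [CommRing R'] [CommRing A']
  {φ : R →+* A} {ρ : R →+* R'} {α : A →+* A'} {φ' : R' →+* A'}

/-- the identity-on-elements comparison of the two double restrictions, on complexes -/
noncomputable def cIso (h : α.comp φ = φ'.comp ρ) :
    resCx α ⋙ resCx φ ≅ resCx φ' ⋙ resCx ρ :=
  Functor.mapHomologicalComplexCompIso (resCommMod h) (ComplexShape.up ℤ) ≪≫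
    (Functor.mapHomologicalComplexCompIso
      (Iso.refl (ModuleCat.restrictScalars.{u} φ' ⋙ ModuleCat.restrictScalars.{u} ρ))
      (ComplexShape.up ℤ)).symm

lemma resComm_app_Q (h : α.comp φ = φ'.comp ρ) (X' : DRing.Cx A') :
    (resComm h).hom.app (Q.obj X') =
      (DRing.restrictD φ).map ((resFactors α).hom.app X') ≫
        (resFactors φ).hom.app ((resCx α).obj X') ≫ Q.map ((cIso h).hom.app X') ≫
          (resFactors ρ).inv.app ((resCx φ').obj X') ≫
            (DRing.restrictD ρ).map ((resFactors φ').inv.app X') := by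
  unfold resComm
  simp only [Localization.liftNatIso_hom]
  rw [Localization.liftNatTrans_app]
  have e1 : (Localization.Lifting.iso Q (quasiIso (ModuleCat.{u} A') (ComplexShape.up ℤ))
      ((ModuleCat.restrictScalars.{u} α).mapHomologicalComplex (ComplexShape.up ℤ) ⋙
        (ModuleCat.restrictScalars.{u} φ).mapHomologicalComplex (ComplexShape.up ℤ) ⋙ Q)
      (DRing.restrictD α ⋙ DRing.restrictD φ) (self := liftingRes₂ α φ)).hom.app X' =
      (DRing.restrictD φ).map ((resFactors α).hom.app X') ≫
        (resFactors φ).hom.app ((resCx α).obj X') := by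
    unfold liftingRes₂
    simp
  have e2 : (Localization.Lifting.iso Q (quasiIso (ModuleCat.{u} A') (ComplexShape.up ℤ))
      ((ModuleCat.restrictScalars.{u} φ').mapHomologicalComplex (ComplexShape.up ℤ) ⋙
        (ModuleCat.restrictScalars.{u} ρ).mapHomologicalComplex (ComplexShape.up ℤ) ⋙ Q)
      (DRing.restrictD φ' ⋙ DRing.restrictD ρ) (self := liftingRes₂ φ' ρ)).inv.app X' =
      (resFactors ρ).inv.app ((resCx φ').obj X') ≫
        (DRing.restrictD ρ).map ((resFactors φ').inv.app X') := by
    unfold liftingRes₂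
    simp
  rw [e1, e2]
  simp [resCommCx, cIso]

end resComm

section formula

variable {R A R' A' : Type u} [CommRing R] [CommRing A] [CommRing R'] [CommRing A']
  {φ : R →+* A} {ρ : R →+* R'} {α : A →+* A'} {φ' : R' →+* A'}
  [DRing.HasLBaseChange ρ] [DRing.HasLBaseChange α]

/-- the chain map `X|_R ⟶ ((X ⊗_A A')|_{R'})|_R`, `x ↦ 1 ⊗ x` -/
noncomputable def wMap (h : α.comp φ = φ'.comp ρ) (X : DRing.Cx A) :
    (resCx φ).obj X ⟶ (resCx ρ).obj ((resCx φ').obj ((extCx α).obj X)) :=
  (resCx φ).map ((extResAdj α).unit.app X) ≫ (cIso h).hom.app ((extCx α).obj X)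

/-- its adjunct `R' ⊗_R X|_R ⟶ (X ⊗_A A')|_{R'}`, `r' ⊗ x ↦ r' ⊗ x` -/
noncomputable def wFlat (h : α.comp φ = φ'.comp ρ) (X : DRing.Cx A) :
    (extCx ρ).obj ((resCx φ).obj X) ⟶ (resCx φ').obj ((extCx α).obj X) :=
  (extCx ρ).map (wMap h X) ≫ (extResAdj ρ).counit.app _

theorem cmp_formula (h : α.comp φ = φ'.comp ρ) (X : DRing.Cx A) :
    TrivBC.cmp (lbcAdj ρ) (lbcAdj α) h (Q.obj X) ≫
        (DRing.restrictD φ').map ((lbcCounit α).app X) =
      (DRing.LBaseChange ρ).map ((resFactors φ).hom.app X) ≫
        (lbcCounit ρ).app ((resCx φ).obj X) ≫ Q.map (wFlat h X) ≫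
          (resFactors φ').inv.app ((extCx α).obj X) := by
  -- the inner map, simplified
  have inner : (DRing.restrictD φ).map ((lbcAdj α).unit.app (Q.obj X)) ≫
      (resComm h).hom.app ((DRing.LBaseChange α).obj (Q.obj X)) ≫
        (DRing.restrictD ρ).map ((DRing.restrictD φ').map ((lbcCounit α).app X)) =
      (resFactors φ).hom.app X ≫ Q.map (wMap h X) ≫
        (resFactors ρ).inv.app ((resCx φ').obj ((extCx α).obj X)) ≫
          (DRing.restrictD ρ).map ((resFactors φ').inv.app ((extCx α).obj X)) := by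
    have n1 := (resComm h).hom.naturality ((lbcCounit α).app X)
    dsimp at n1
    rw [← n1, ← Category.assoc, ← Functor.map_comp, lbcAdj_unit_fac, resComm_app_Q]
    have n2 := (resFactors φ).hom.naturality ((extResAdj α).unit.app X)
    dsimp at n2
    rw [← Functor.map_comp_assoc (DRing.restrictD φ), Category.assoc, Iso.inv_hom_id_app]
    dsimp
    rw [Category.comp_id, reassoc_of% n2, wMap, Functor.map_comp, Category.assoc]
  -- naturality of the counit
  have n3 := (lbcAdj ρ).counit.naturality ((DRing.restrictD φ').map ((lbcCounit α).app X))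
  have n4 := (lbcAdj ρ).counit.naturality ((resFactors φ').inv.app ((extCx α).obj X))
  have n5 := (lbcCounit ρ).naturality (wMap h X)
  have cf := lbcAdj_counit_fac ρ ((resCx φ').obj ((extCx α).obj X))
  dsimp at n3 n4 n5
  unfold TrivBC.cmp
  rw [Adjunction.homEquiv_counit, Category.assoc, ← n3, ← Functor.map_comp_assoc, Category.assoc,
    inner]
  simp only [Functor.map_comp, Category.assoc]
  rw [n4, reassoc_of% cf, reassoc_of% n5, wFlat, Functor.map_comp, Category.assoc]

/-- changing the adjunction data changes the comparison map by isomorphisms -/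
lemma cmp_change (adjρ adjρ' : DRing.LBaseChange ρ ⊣ DRing.restrictD ρ)
    (adjα adjα' : DRing.LBaseChange α ⊣ DRing.restrictD α) (h : α.comp φ = φ'.comp ρ)
    (K : Dual.D A) :
    TrivBC.cmp adjρ' adjα' h K =
      (adjρ'.leftAdjointUniq adjρ).hom.app _ ≫ TrivBC.cmp adjρ adjα h K ≫
        (DRing.restrictD φ').map ((adjα.leftAdjointUniq adjα').hom.app K) := by
  have n1 := (resComm h).hom.naturality ((adjα.leftAdjointUniq adjα').hom.app K)
  have n2 := adjρ.counit.naturality
    ((DRing.restrictD φ').map ((adjα.leftAdjointUniq adjα').hom.app K))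
  dsimp at n1 n2
  unfold TrivBC.cmp
  rw [Adjunction.homEquiv_counit, Adjunction.homEquiv_counit,
    ← Adjunction.unit_leftAdjointUniq_hom_app adjα adjα' K,
    ← Adjunction.leftAdjointUniq_hom_app_counit adjρ' adjρ]
  have n1' := congrArg (DRing.LBaseChange ρ).map n1
  simp only [Functor.map_comp] at n1'
  simp only [Functor.map_comp, Category.assoc]
  rw [← n2, reassoc_of% n1']
  simp only [NatTrans.naturality_assoc]
  exact (adjρ'.leftAdjointUniq adjρ).hom.naturality_assoc _ _

end formula

section pushout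

open TensorProduct ChangeOfRings

variable {R A R' A' : Type u} [CommRing R] [CommRing A] [CommRing R'] [CommRing A']
  [Algebra R A] [Algebra R R'] [Algebra A A'] [Algebra R' A'] [Algebra R A']
  [IsScalarTower R A A'] [IsScalarTower R R' A']

instance towerRestrict' (M : ModuleCat.{u} A) :
    IsScalarTower R A ((ModuleCat.restrictScalars (algebraMap R A)).obj M) :=
  IsScalarTower.of_algebraMap_smul (fun _ _ => rfl)

/-- the termwise comparison `R' ⊗_R M|_R ⟶ (A' ⊗_A M)|_{R'}` -/
noncomputable def gMap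
    (h : (algebraMap A A').comp (algebraMap R A) = (algebraMap R' A').comp (algebraMap R R'))
    (M : ModuleCat.{u} A) :
    (ModuleCat.extendScalars.{u, u, u} (algebraMap R R')).obj
        ((ModuleCat.restrictScalars (algebraMap R A)).obj M) ⟶
      (ModuleCat.restrictScalars (algebraMap R' A')).obj
        ((ModuleCat.extendScalars.{u, u, u} (algebraMap A A')).obj M) :=
  (ModuleCat.extendScalars.{u, u, u} (algebraMap R R')).map
      ((ModuleCat.restrictScalars (algebraMap R A)).map
          ((ModuleCat.extendRestrictScalarsAdj.{u, u, u} (algebraMap A A')).unit.app M) ≫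
        (resCommMod h).hom.app _) ≫
    (ModuleCat.extendRestrictScalarsAdj.{u, u, u} (algebraMap R R')).counit.app _

lemma wFlat_f
    (h : (algebraMap A A').comp (algebraMap R A) = (algebraMap R' A').comp (algebraMap R R'))
    (X : DRing.Cx A) (n : ℤ) : (wFlat h X).f n = gMap h (X.X n) := by
  simp only [wFlat, wMap, gMap, extResAdj, cIso, comp_f, Functor.mapHomologicalComplex_map_f,
    Functor.map_comp, Category.assoc, Iso.trans_hom, Iso.symm_hom, NatTrans.comp_app,
    Functor.mapHomologicalComplexCompIso_hom_app_f, Functor.mapHomologicalComplexCompIso_inv_app_f,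
    Iso.refl_inv, NatTrans.id_app, mapHomologicalComplexAdj_unit_app_f,
    mapHomologicalComplexAdj_counit_app_f]
  erw [CategoryTheory.Functor.map_id, Category.id_comp]
  rfl

variable [Algebra.IsPushout R A R' A']

lemma gMap_tmul
    (h : (algebraMap A A').comp (algebraMap R A) = (algebraMap R' A').comp (algebraMap R R'))
    (M : ModuleCat.{u} A) (r' : R') (m : M) :
    (gMap h M).hom (r' ⊗ₜ[R,algebraMap R R'] m) = (algebraMap R' A' r' * 1) ⊗ₜ[A,algebraMap A A'] m := by
  rfl

lemma bijective_gMap
    (h : (algebraMap A A').comp (algebraMap R A) = (algebraMap R' A').comp (algebraMap R R'))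
    (M : ModuleCat.{u} A) : Function.Bijective (gMap h M).hom := by
  haveI : Algebra.IsPushout R R' A A' := Algebra.IsPushout.symm inferInstance
  let MR := (ModuleCat.restrictScalars (algebraMap R A)).obj M
  let e₁ : R' ⊗[R] MR ≃ₗ[R] (resA (algebraMap R R')) ⊗[R] MR :=
    TensorProduct.congr (resAEquiv (A := R) (B := R')) (LinearEquiv.refl R MR)
  let e₂ : A' ⊗[A] M ≃ₗ[A] (resA (algebraMap A A')) ⊗[A] M :=
    TensorProduct.congr (resAEquiv (A := A) (B := A')) (LinearEquiv.refl A M)
  let cbc : A' ⊗[A] MR ≃ₗ[R'] R' ⊗[R] MR := Algebra.IsPushout.cancelBaseChange R R' A A' MR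
  have key : ∀ z : (resA (algebraMap R R')) ⊗[R] MR,
      (gMap h M).hom z = e₂ (cbc.symm (e₁.symm z)) := by
    intro z
    induction z using TensorProduct.induction_on with
    | zero =>
      have l : (gMap h M).hom (0 : (ModuleCat.extendScalars.{u, u, u} (algebraMap R R')).obj MR) = 0 :=
        map_zero _
      have r : e₂ (cbc.symm (e₁.symm 0)) = 0 :=
        (congrArg (fun t => e₂ (cbc.symm t)) (map_zero e₁.symm)).trans
          ((congrArg (fun t => e₂ t) (map_zero cbc.symm)).trans (map_zero e₂))
      exact l.trans r.symm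
    | tmul r' m =>
      have h1 : e₁.symm (r' ⊗ₜ[R] m) = (show R' from r') ⊗ₜ[R] m := rfl
      have h2 : cbc.symm ((show R' from r') ⊗ₜ[R] m) =
          algebraMap R' A' (show R' from r') ⊗ₜ[A] m :=
        Algebra.IsPushout.cancelBaseChange_symm_tmul R R' A A' MR _ m
      rw [h1, h2]
      refine (gMap_tmul h M r' m).trans ?_
      rw [mul_one]
      rfl
    | add x y hx hy =>
      have l : (gMap h M).hom
          ((show (ModuleCat.extendScalars.{u, u, u} (algebraMap R R')).obj MR from x) +
            (show (ModuleCat.extendScalars.{u, u, u} (algebraMap R R')).obj MR from y)) =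
          (gMap h M).hom x + (gMap h M).hom y := map_add _ _ _
      have r : e₂ (cbc.symm (e₁.symm (x + y))) =
          e₂ (cbc.symm (e₁.symm x)) + e₂ (cbc.symm (e₁.symm y)) :=
        (congrArg (fun t => e₂ (cbc.symm t)) (map_add e₁.symm x y)).trans
          ((congrArg (fun t => e₂ t) (map_add cbc.symm _ _)).trans (map_add e₂ _ _))
      exact l.trans ((congrArg₂ (· + ·) hx hy).trans r.symm)
  have hb : Function.Bijective (fun z => e₂ (cbc.symm (e₁.symm z))) :=
    e₂.bijective.comp (cbc.symm.bijective.comp e₁.symm.bijective)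
  have hfun : (fun z => (gMap h M).hom z) = fun z => e₂ (cbc.symm (e₁.symm z)) := funext key
  show Function.Bijective (fun z => (gMap h M).hom z)
  rw [hfun]
  exact hb

theorem isIso_wFlat
    (h : (algebraMap A A').comp (algebraMap R A) = (algebraMap R' A').comp (algebraMap R R'))
    (X : DRing.Cx A) : IsIso (wFlat h X) := by
  haveI : ∀ n, IsIso ((wFlat h X).f n) := by
    intro n
    rw [wFlat_f, ConcreteCategory.isIso_iff_bijective]
    exact bijective_gMap h (X.X n)
  exact HomologicalComplex.Hom.isIso_of_components _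

end pushout

section nat

variable {R A R' A' : Type u} [CommRing R] [CommRing A] [CommRing R'] [CommRing A']
  {φ : R →+* A} {ρ : R →+* R'} {α : A →+* A'} {φ' : R' →+* A'}
  [DRing.HasLBaseChange ρ] [DRing.HasLBaseChange α]

lemma cmp_naturality (adjρ : DRing.LBaseChange ρ ⊣ DRing.restrictD ρ)
    (adjα : DRing.LBaseChange α ⊣ DRing.restrictD α) (h : α.comp φ = φ'.comp ρ)
    {K K' : Dual.D A} (f : K ⟶ K') :
    (DRing.LBaseChange ρ).map ((DRing.restrictD φ).map f) ≫ TrivBC.cmp adjρ adjα h K' =
      TrivBC.cmp adjρ adjα h K ≫ (DRing.restrictD φ').map ((DRing.LBaseChange α).map f) := by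
  unfold TrivBC.cmp
  rw [← Adjunction.homEquiv_naturality_left_symm, ← Adjunction.homEquiv_naturality_right_symm]
  congr 1
  have n1 := adjα.unit.naturality f
  have n2 := (resComm h).hom.naturality ((DRing.LBaseChange α).map f)
  dsimp at n1 n2
  rw [← Category.assoc, ← Functor.map_comp, n1, Functor.map_comp, Category.assoc, Category.assoc,
    n2]

lemma isIso_cmp_of_iso (adjρ : DRing.LBaseChange ρ ⊣ DRing.restrictD ρ)
    (adjα : DRing.LBaseChange α ⊣ DRing.restrictD α) (h : α.comp φ = φ'.comp ρ)
    {K K' : Dual.D A} (e : K ≅ K') (hK : IsIso (TrivBC.cmp adjρ adjα h K)) :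
    IsIso (TrivBC.cmp adjρ adjα h K') := by
  have n := cmp_naturality adjρ adjα h e.hom
  have i1 : IsIso ((DRing.LBaseChange ρ).map ((DRing.restrictD φ).map e.hom) ≫
      TrivBC.cmp adjρ adjα h K') := by
    rw [n]
    infer_instance
  exact IsIso.of_isIso_comp_left ((DRing.LBaseChange ρ).map ((DRing.restrictD φ).map e.hom)) _

end nat

section final

variable (R A R' A' : Type u) [CommRing R] [CommRing A] [CommRing R'] [CommRing A']
  [Algebra R A] [Algebra R R'] [Algebra A A'] [Algebra R' A'] [Algebra R A']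
  [IsScalarTower R A A'] [IsScalarTower R R' A'] [Algebra.IsPushout R A R' A']

theorem isIso_cmp_lbcAdj_kproj
    (htor : ∀ p : ℕ, 1 ≤ p → Subsingleton (DRing.Tor R p A R'))
    [DRing.HasLBaseChange (algebraMap R R')] [DRing.HasLBaseChange (algebraMap A A')]
    (h : (algebraMap A A').comp (algebraMap R A) = (algebraMap R' A').comp (algebraMap R R'))
    (X : DRing.Cx A) [X.IsKProjective] :
    IsIso (TrivBC.cmp (lbcAdj (algebraMap R R')) (lbcAdj (algebraMap A A')) h (Q.obj X)) := by
  -- Tor independence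
  let M : ModuleCat.{u} R := ModuleCat.of R R'
  let eM : M ≅ resA (algebraMap R R') := (resAEquiv (A := R) (B := R')).toModuleIso
  let P : ProjectiveResolution M := ProjectiveResolution.of M
  have hex : ∀ q : ℕ, (TCx (resA (algebraMap R A)) P.cochainComplex).ExactAt (-((q + 1 : ℕ) : ℤ)) :=
    fun q => exactAt_TC_of_iso (resAEquiv (A := R) (B := A)).toModuleIso _ _
      (exactAt_TC_of_subsingleton_tor A R' P q (htor (q + 1) (by lia)))
  have hE := quasiIso_extCx_π' (algebraMap R A) M P hex
  obtain ⟨G, π, hGp, -, hπ, -⟩ := exists_kprojective_resolution ((resCx (algebraMap R A)).obj X)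
  haveI := hGp
  haveI := hπ
  have hq := quasiIso_extCx_of_torIndep (algebraMap R A) (algebraMap R R') X
    (kflat_of_isKProjective X).kflatL M eM P hE G (kflat_of_isKProjective G) π
  haveI i1 : IsIso ((lbcCounit (algebraMap R R')).app ((resCx (algebraMap R A)).obj X)) :=
    isIso_lbcCounit_of_quasiIso_ext (algebraMap R R') _ G π hq
  haveI i2 : IsIso (wFlat h X) := isIso_wFlat h X
  haveI i3 : IsIso ((lbcCounit (algebraMap A A')).app X) := isIso_lbcCounit_app (algebraMap A A') X
  have key := cmp_formula h X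
  have i4 : IsIso (TrivBC.cmp (lbcAdj (algebraMap R R')) (lbcAdj (algebraMap A A')) h (Q.obj X) ≫
      (DRing.restrictD (algebraMap R' A')).map ((lbcCounit (algebraMap A A')).app X)) := by
    rw [key]
    infer_instance
  exact IsIso.of_isIso_comp_right _
    ((DRing.restrictD (algebraMap R' A')).map ((lbcCounit (algebraMap A A')).app X))

theorem isIso_cmp
    (htor : ∀ p : ℕ, 1 ≤ p → Subsingleton (DRing.Tor R p A R'))
    [DRing.HasLBaseChange (algebraMap R R')] [DRing.HasLBaseChange (algebraMap A A')]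
    (adjρ : DRing.LBaseChange (algebraMap R R') ⊣ DRing.restrictD (algebraMap R R'))
    (adjα : DRing.LBaseChange (algebraMap A A') ⊣ DRing.restrictD (algebraMap A A'))
    (h : (algebraMap A A').comp (algebraMap R A) = (algebraMap R' A').comp (algebraMap R R'))
    (K : Dual.D A) : IsIso (TrivBC.cmp adjρ adjα h K) := by
  obtain ⟨X, hX, -, ⟨e⟩⟩ := exists_kproj_iso K
  haveI := hX
  have i1 := isIso_cmp_lbcAdj_kproj R A R' A' htor h X
  have i2 : IsIso (TrivBC.cmp (lbcAdj (algebraMap R R')) (lbcAdj (algebraMap A A')) h K) :=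
    isIso_cmp_of_iso _ _ h e i1
  rw [cmp_change (lbcAdj (algebraMap R R')) adjρ (lbcAdj (algebraMap A A')) adjα h K]
  infer_instance

end final

end Groth.Agent.Lib.T2H4.TorIndep
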