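import Mathlib
import Groth.Agent.Lib.Helper13TorBC
import Groth.Agent.Lib.Helper1TorN
import Groth.Agent.Lib.Helper1TorDim
import Groth.Agent.Lib.T2H4TorIndep
import Groth.Agent.Lib.T2H4LDerExist
import Groth.Agent.S2137
import Groth.Prelude.Def_DerCA

/-!
# Tor-independent base change preserves relative pseudo-coherence (helper4)

* `isZero_tor_extendScalars`: mixed flat base change for Tor vanishing.
* `subsingleton_tor_of_pushout`: `Tor^R_p(A, R') = 0 ⟹ Tor^P_p(A, P') = 0` for `P' = P ⊗_R R'`, `P` flat.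
* `bcPres α`: the base-changed presentation `R'[x] → R' ⊗_R A`.
* `isRelPCVia_bc`: the restriction of `K ⊗^L_A A'` along `bcPres α` is `m`-pseudo-coherent.
-/
set_option backward.isDefEq.respectTransparency.types false

set_option autoImplicit false
set_option linter.style.haveILetI false
universe u
open CategoryTheory CategoryTheory.Limits HomologicalComplex MonoidalCategory TensorProduct
attribute [local instance] HasDerivedCategory.standard

namespace Groth.Agent.Lib.T2H4.RelPC

section torBC

open Groth.Agent.Helper13TorBC Groth.Agent.Lib.Helper1.TorN Groth.Agent.Lib.Helper1.TorDim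

variable (R S : Type u) [CommRing R] [CommRing S] [Algebra R S] [Module.Flat R S]

/-- `Tor^S(Nb, S ⊗_R N) = 0` if `Tor^R(Nb|_R, N) = 0`, for `S` flat over `R` -/
theorem isZero_tor_extendScalars (Nb : ModuleCat.{u} S) (N : ModuleCat.{u} R) (n : ℕ)
    (h : IsZero (((Tor (ModuleCat.{u} R) (n + 1)).obj
      ((ModuleCat.restrictScalars (algebraMap R S)).obj Nb)).obj N)) :
    IsZero (((Tor (ModuleCat.{u} S) (n + 1)).obj Nb).obj ((E R S).obj N)) := by
  let Pres := projectiveResolution N
  let Pres' := (E R S).mapProjectiveResolution Pres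
  have iso1 := Pres.isoLeftDerivedObj
    (tensorLeft ((ModuleCat.restrictScalars (algebraMap R S)).obj Nb)) (n + 1)
  have iso2 := Pres'.isoLeftDerivedObj (tensorLeft Nb) (n + 1)
  have h1 : IsZero ((((tensorLeft ((ModuleCat.restrictScalars (algebraMap R S)).obj
      Nb)).mapHomologicalComplex (ComplexShape.down ℕ)).obj Pres.complex).homology (n + 1)) :=
    h.of_iso iso1.symm
  refine IsZero.of_iso (?_ : IsZero ((((tensorLeft Nb).mapHomologicalComplex
    (ComplexShape.down ℕ)).obj Pres'.complex).homology (n + 1))) iso2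
  rw [← HomologicalComplex.exactAt_iff_isZero_homology] at h1 ⊢
  rw [HomologicalComplex.exactAt_iff' _ (n + 2) (n + 1) n (by simp) (by simp),
    ShortComplex.ShortExact.moduleCat_exact_iff_function_exact] at h1 ⊢
  exact exact_of_ladder _ _ _ _
    (cbcAdd (algebraMap R S) Nb (Pres.complex.X (n + 2))).toEquiv.symm
    (cbcAdd (algebraMap R S) Nb (Pres.complex.X (n + 1))).toEquiv.symm
    (cbcAdd (algebraMap R S) Nb (Pres.complex.X n)).toEquiv.symm
    (map_zero (cbcAdd (algebraMap R S) Nb (Pres.complex.X n)).symm)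
    (fun x => by
      apply (cbcAdd (algebraMap R S) Nb (Pres.complex.X (n + 1))).injective
      have := cbcAdd_natural (algebraMap R S) Nb (Pres.complex.d (n + 2) (n + 1))
        ((cbcAdd (algebraMap R S) Nb (Pres.complex.X (n + 2))).symm x)
      rw [AddEquiv.apply_symm_apply] at this
      exact this.trans (AddEquiv.apply_symm_apply _ _).symm)
    (fun x => by
      apply (cbcAdd (algebraMap R S) Nb (Pres.complex.X n)).injective
      have := cbcAdd_natural (algebraMap R S) Nb (Pres.complex.d (n + 1) n)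
        ((cbcAdd (algebraMap R S) Nb (Pres.complex.X (n + 1))).symm x)
      rw [AddEquiv.apply_symm_apply] at this
      exact this.trans (AddEquiv.apply_symm_apply _ _).symm) h1

end torBC

section pushoutTor

open Groth.Agent.Helper13TorBC

variable (R P A R' P' : Type u) [CommRing R] [CommRing P] [CommRing A] [CommRing R'] [CommRing P']
  [Algebra R P] [Algebra R A] [Algebra P A] [IsScalarTower R P A] [Algebra R R'] [Algebra R P']
  [Algebra P P'] [Algebra R' P'] [IsScalarTower R P P'] [IsScalarTower R R' P']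
  [Algebra.IsPushout R P R' P'] [Module.Flat R P]

theorem subsingleton_tor_of_pushout (p : ℕ) (hp : 1 ≤ p)
    (h : Subsingleton (DRing.Tor R p A R')) : Subsingleton (DRing.Tor P p A P') := by
  obtain ⟨q, rfl⟩ : ∃ q, p = q + 1 := ⟨p - 1, by lia⟩
  have h0 : IsZero (((Tor (ModuleCat.{u} R) (q + 1)).obj (ModuleCat.of R A)).obj
      (ModuleCat.of R R')) := ModuleCat.isZero_of_subsingleton _
  let e1' : ((ModuleCat.restrictScalars (algebraMap R P)).obj (ModuleCat.of P A)) ≃ₗ[R] A :=
    { toFun := fun x => x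
      invFun := fun x => x
      map_add' := fun _ _ => rfl
      map_smul' := fun r x => by
        change (algebraMap R P r) • (show A from x) = r • (show A from x)
        rw [algebraMap_smul]
      left_inv := fun _ => rfl
      right_inv := fun _ => rfl }
  let e1 : (ModuleCat.restrictScalars (algebraMap R P)).obj (ModuleCat.of P A) ≅ ModuleCat.of R A :=
    e1'.toModuleIso
  have h1 := h0.of_iso (((Tor (ModuleCat.{u} R) (q + 1)).mapIso e1).app (ModuleCat.of R R'))
  have h2 := isZero_tor_extendScalars R P (ModuleCat.of P A) (ModuleCat.of R R') q h1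
  let e2 : (E R P).obj (ModuleCat.of R R') ≅ ModuleCat.of P P' :=
    ((Groth.Agent.S2380.bridge R P (ModuleCat.of R R')) ≪≫ₗ
      (Algebra.IsPushout.equiv R P R' P').toLinearEquiv).toModuleIso
  have h3 := h2.of_iso (((Tor (ModuleCat.{u} P) (q + 1)).obj (ModuleCat.of P A)).mapIso e2.symm)
  exact ModuleCat.subsingleton_of_isZero h3

end pushoutTor

section setup

variable {R A R' : Type u} [CommRing R] [CommRing A] [CommRing R'] [Algebra R A] [Algebra R R']
  {n : ℕ} (α : MvPolynomial (Fin n) R →ₐ[R] A)

/-- the base-changed presentation -/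
noncomputable def bcPres : MvPolynomial (Fin n) R' →ₐ[R'] R' ⊗[R] A :=
  MvPolynomial.aeval (fun i => (1 : R') ⊗ₜ[R] α (MvPolynomial.X i))

lemma bcPres_map (p : MvPolynomial (Fin n) R) :
    bcPres (R' := R') α (MvPolynomial.map (algebraMap R R') p) = 1 ⊗ₜ α p := by
  have : (bcPres (R' := R') α).toRingHom.comp (MvPolynomial.map (algebraMap R R')) =
      (Algebra.TensorProduct.includeRight : A →ₐ[R] R' ⊗[R] A).toRingHom.comp α.toRingHom := by
    apply MvPolynomial.ringHom_ext
    · intro r
      simp [bcPres, Algebra.algebraMap_eq_smul_one]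
      rfl
    · intro i
      simp [bcPres]
  exact RingHom.congr_fun this p

lemma bcPres_surjective (hα : Function.Surjective α) :
    Function.Surjective (bcPres (R' := R') α) := by
  intro t
  induction t using TensorProduct.induction_on with
  | zero => exact ⟨0, map_zero _⟩
  | tmul r a =>
    obtain ⟨p, rfl⟩ := hα a
    refine ⟨r • MvPolynomial.map (algebraMap R R') p, ?_⟩
    rw [map_smul, bcPres_map, TensorProduct.smul_tmul', smul_eq_mul, mul_one]
  | add x y hx hy =>
    obtain ⟨p, rfl⟩ := hx
    obtain ⟨q, rfl⟩ := hy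
    exact ⟨p + q, map_add _ _ _⟩


attribute [local instance] MvPolynomial.algebraMvPolynomial Algebra.TensorProduct.rightAlgebra

theorem isRelPCVia_bc
    (htor : ∀ p : ℕ, 0 < p → Subsingleton (DRing.Tor R p A R'))
    [DRing.HasLBaseChange (Algebra.TensorProduct.includeRight : A →ₐ[R] R' ⊗[R] A).toRingHom]
    (K : Dual.D A) (m : ℤ) (h : DerCA.IsRelPseudoCoherentVia α m K) :
    DerCA.IsRelPseudoCoherentVia (bcPres (R' := R') α) m
      ((DRing.LBaseChange
        (Algebra.TensorProduct.includeRight : A →ₐ[R] R' ⊗[R] A).toRingHom).obj K) := by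
  letI : Algebra (MvPolynomial (Fin n) R) A := α.toRingHom.toAlgebra
  letI : Algebra (MvPolynomial (Fin n) R') (R' ⊗[R] A) := (bcPres (R' := R') α).toRingHom.toAlgebra
  letI : Algebra (MvPolynomial (Fin n) R) (R' ⊗[R] A) :=
    ((algebraMap A (R' ⊗[R] A)).comp (algebraMap (MvPolynomial (Fin n) R) A)).toAlgebra
  haveI : IsScalarTower R (MvPolynomial (Fin n) R) A :=
    IsScalarTower.of_algebraMap_eq' α.comp_algebraMap.symm
  haveI : IsScalarTower (MvPolynomial (Fin n) R) A (R' ⊗[R] A) :=
    IsScalarTower.of_algebraMap_eq' rfl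
  have hsq : (algebraMap A (R' ⊗[R] A)).comp (algebraMap (MvPolynomial (Fin n) R) A) =
      (algebraMap (MvPolynomial (Fin n) R') (R' ⊗[R] A)).comp
        (algebraMap (MvPolynomial (Fin n) R) (MvPolynomial (Fin n) R')) := by
    refine RingHom.ext (fun p => ?_)
    exact (bcPres_map α p).symm
  haveI : IsScalarTower (MvPolynomial (Fin n) R) (MvPolynomial (Fin n) R') (R' ⊗[R] A) :=
    IsScalarTower.of_algebraMap_eq' hsq
  haveI : IsScalarTower R' (MvPolynomial (Fin n) R') (R' ⊗[R] A) :=
    IsScalarTower.of_algebraMap_eq' (bcPres (R' := R') α).comp_algebraMap.symm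
  haveI : IsScalarTower R (MvPolynomial (Fin n) R') (R' ⊗[R] A) :=
    IsScalarTower.of_algebraMap_eq' (by
      rw [IsScalarTower.algebraMap_eq R R' (R' ⊗[R] A),
        IsScalarTower.algebraMap_eq R R' (MvPolynomial (Fin n) R'), ← RingHom.comp_assoc,
        ← IsScalarTower.algebraMap_eq R' (MvPolynomial (Fin n) R') (R' ⊗[R] A)])
  haveI : Algebra.IsPushout (MvPolynomial (Fin n) R) A (MvPolynomial (Fin n) R') (R' ⊗[R] A) :=
    (Algebra.IsPushout.comp_iff (R := R) (S := MvPolynomial (Fin n) R) (T := A) (R' := R')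
      (S' := MvPolynomial (Fin n) R') (T' := R' ⊗[R] A)).1 inferInstance
  haveI : DRing.HasLBaseChange
      (algebraMap (MvPolynomial (Fin n) R) (MvPolynomial (Fin n) R')) :=
    LDerExist.hasLBaseChange _
  haveI : DRing.HasLBaseChange (algebraMap A (R' ⊗[R] A)) :=
    (inferInstance : DRing.HasLBaseChange
      (Algebra.TensorProduct.includeRight : A →ₐ[R] R' ⊗[R] A).toRingHom)
  have htor' : ∀ p : ℕ, 1 ≤ p →
      Subsingleton (DRing.Tor (MvPolynomial (Fin n) R) p A (MvPolynomial (Fin n) R')) :=
    fun p hp => subsingleton_tor_of_pushout R (MvPolynomial (Fin n) R) A R'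
      (MvPolynomial (Fin n) R') p hp (htor p hp)
  haveI := TorIndep.isIso_cmp (MvPolynomial (Fin n) R) A (MvPolynomial (Fin n) R') (R' ⊗[R] A)
    htor' (TorIndep.lbcAdj _) (TorIndep.lbcAdj _) hsq K
  have e := asIso (TrivBC.cmp (TorIndep.lbcAdj
      (algebraMap (MvPolynomial (Fin n) R) (MvPolynomial (Fin n) R')))
    (TorIndep.lbcAdj (algebraMap A (R' ⊗[R] A))) hsq K)
  exact Groth.Agent.Lib.Helper1.PC.isPC_of_iso e (Groth.Agent.S2137.result _ _ m h)

end setup

end Groth.Agent.Lib.T2H4.RelPC
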