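import Groth.Agent.Lib.T2H1LpullTorAmp
import Groth.Agent.Lib.T2H1PCmComp
import Groth.Agent.Lib.T2H4RelPC
import Groth.Agent.Lib.Helper1ProjRes
import Groth.Agent.Lib.Helper1LBC

/-!
# Tensoring a relatively `m`-pseudo-coherent complex with a pseudo-coherent module (T2H1)

`isPC_res_TCx`: let `ν : P → S` be a ring map, `C` a bounded above complex of flat `S`-modules
whose restriction to `P` is `m`-pseudo-coherent, and `N` a pseudo-coherent `S`-module.  Then the
restriction to `P` of `N ⊗_S C` is `m`-pseudo-coherent.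
-/

set_option autoImplicit false
set_option linter.style.haveILetI false
universe u
open CategoryTheory CategoryTheory.Limits HomologicalComplex MonoidalCategory
attribute [local instance] HasDerivedCategory.standard

namespace Groth.Agent.Lib.T2H1.RelPCTensor

open Groth.Agent.Lib.Helper1.KF Groth.Agent.Lib.Helper1.DT DerivedCategory DTen
  Groth.Agent.Lib.Helper1.PC Groth.Agent.Lib.Helper1.Restrict Groth.Agent.S7017
  Groth.Agent.S14388 Pretriangulated Groth.Agent.Lib.T2H1.PCm Groth.Agent.Lib.Helper1.PCTower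

section TT

variable {S : Type u} [CommRing S] (C : Cx S)

/-- `N ↦ N ⊗ C` (termwise), as a functor of the module `N` -/
noncomputable def TT : ModuleCat.{u} S ⥤ Cx S where
  obj N := TCx N C
  map f := (NatTrans.mapHomologicalComplex ((curriedTensor (ModuleCat.{u} S)).map f)
    (ComplexShape.up ℤ)).app C
  map_id N := by
    ext i
    simp
  map_comp f g := by
    ext i
    simp

@[simp] lemma TT_map_f {N N' : ModuleCat.{u} S} (f : N ⟶ N') (i : ℤ) :
    ((TT C).map f).f i = f ▷ C.X i := rfl

instance : (TT C).Additive where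
  map_add {N N' f g} := by
    apply HomologicalComplex.hom_ext
    intro i
    rw [HomologicalComplex.add_f_apply, TT_map_f, TT_map_f, TT_map_f,
      MonoidalPreadditive.add_whiskerRight]
    rfl

/-- `S ⊗ C ≅ C` -/
noncomputable def TTUnitIso : (TT C).obj (𝟙_ (ModuleCat.{u} S)) ≅ C :=
  HomologicalComplex.Hom.isoOfComponents (fun i => λ_ (C.X i)) (fun i j _ => by
    change (λ_ (C.X i)).hom ≫ C.d i j = (𝟙_ (ModuleCat.{u} S) ◁ C.d i j) ≫ (λ_ (C.X j)).hom
    rw [leftUnitor_naturality])

variable {P : Type u} [CommRing P] (ν : P →+* S)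

/-- the functor `N ↦ (N ⊗ C)|_P` to the derived category of `P` -/
noncomputable abbrev Φ : ModuleCat.{u} S ⥤ Dual.D P := TT C ⋙ resCx ν ⋙ Q

lemma shortExact_map_TT_res (hC : ∀ i, Module.Flat S (C.X i)) (S₀ : ShortComplex (ModuleCat.{u} S))
    (hS : S₀.ShortExact) : (S₀.map (TT C ⋙ resCx ν)).ShortExact := by
  refine HomologicalComplex.shortExact_of_degreewise_shortExact _ fun i => ?_
  haveI := hC i
  haveI : PreservesFiniteColimits (tensorRight (C.X i)) :=
    preservesFiniteColimits_of_natIso (BraidedCategory.tensorLeftIsoTensorRight (C.X i))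
  exact hS.map_of_exact (tensorRight (C.X i) ⋙ ModuleCat.restrictScalars.{u} ν)

end TT

section Core

variable {S P : Type u} [CommRing S] [CommRing P] (ν : P →+* S) (C : Cx S)

lemma isLE_Φ (b : ℤ) (hb : C.IsStrictlyLE b) (N : ModuleCat.{u} S) :
    ((Φ C ν).obj N).IsLE b := by
  have h1 : ((resCx ν).obj ((TT C).obj N)).IsStrictlyLE b := by
    rw [CochainComplex.isStrictlyLE_iff]
    intro i hi
    refine (ModuleCat.restrictScalars.{u} ν).map_isZero ?_
    exact (tensorLeft N).map_isZero (CochainComplex.isZero_of_isStrictlyLE C b i hi)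
  show (Q.obj ((resCx ν).obj ((TT C).obj N))).IsLE b
  rw [DerivedCategory.isLE_Q_obj_iff]
  infer_instance

lemma isPC_Φ_pi (m : ℤ) (h : DRing.IsPseudoCoherent P m (Q.obj ((resCx ν).obj C))) (n : ℕ) :
    DRing.IsPseudoCoherent P m ((Φ C ν).obj (ModuleCat.of S (Fin n → S))) := by
  induction n with
  | zero =>
    refine isPC_of_isZero m _ ((Φ C ν).map_isZero ?_)
    exact ModuleCat.isZero_of_subsingleton _
  | succ n ih =>
    let e : ModuleCat.of S (Fin (n + 1) → S) ≅ ModuleCat.of S S ⊞ ModuleCat.of S (Fin n → S) :=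
      (Fin.consLinearEquiv S (fun _ : Fin (n + 1) => S)).symm.toModuleIso ≪≫
        (ModuleCat.biprodIsoProd (ModuleCat.of S S) (ModuleCat.of S (Fin n → S))).symm
    have := preservesBinaryBiproducts_of_preservesBiproducts (Φ C ν)
    have h0 : DRing.IsPseudoCoherent P m ((Φ C ν).obj (ModuleCat.of S S)) :=
      isPC_of_iso (Q.mapIso ((resCx ν).mapIso (TTUnitIso C))).symm h
    exact isPC_of_iso ((Φ C ν).mapIso e ≪≫ (Φ C ν).mapBiprod _ _).symm (isPC_biprod m _ _ h0 ih)

/-- the core dévissage -/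
theorem isPC_Φ (b : ℤ) (hb : C.IsStrictlyLE b) (hC : ∀ i, Module.Flat S (C.X i)) (m : ℤ)
    (h : DRing.IsPseudoCoherent P m (Q.obj ((resCx ν).obj C))) :
    ∀ (k : ℕ) (t : ℤ), m ≤ t → b + 1 ≤ t + k → ∀ (N : ModuleCat.{u} S),
      (∀ j : ℤ, DRing.IsPseudoCoherent S j ((singleFunctor (ModuleCat.{u} S) 0).obj N)) →
      DRing.IsPseudoCoherent P t ((Φ C ν).obj N) := by
  intro k
  induction k with
  | zero =>
    intro t hmt hbt N hN
    haveI := isLE_Φ ν C b hb N
    haveI : ((Φ C ν).obj N).IsLE (t - 1) :=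
      tt.isLE_of_le _ b (t - 1) (by push_cast at hbt; omega)
    exact isPC_of_isLE t _
  | succ k ih =>
    intro t hmt hbt N hN
    by_cases hk : b + 1 ≤ t + k
    · exact ih t hmt hk N hN
    haveI hNfin : Module.Finite S N := finite_of_isPC_single N 0 le_rfl (hN 0)
    obtain ⟨j, π, hπ⟩ := Module.Finite.exists_fin' S N
    have hF : FF (ModuleCat.of S (Fin j → S)) :=
      ⟨inferInstanceAs (Module.Finite S (Fin j → S)), inferInstanceAs (Module.Free S (Fin j → S))⟩
    have hS := LinearMap.shortExact_shortComplexKer hπ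
    have hT := hS.singleTriangle_distinguished
    have hZ : ∀ j' : ℤ, DRing.IsPseudoCoherent S j'
        ((singleFunctor (ModuleCat.{u} S) 0).obj (ModuleCat.of S (LinearMap.ker π))) := by
      intro j'
      have h2 : DRing.IsPseudoCoherent S (j' - 1 + 1)
          ((singleFunctor (ModuleCat.{u} S) 0).obj (ModuleCat.of S (Fin j → S))) :=
        isPC_of_rep _ (rep_single _ hF 0)
      have h3 := isPC_obj₁ _ hT (j' - 1) h2 (hN (j' - 1))
      rwa [show j' - 1 + 1 = j' by ring] at h3
    have h1 := ih (t + 1) (by omega) (by push_cast at hbt ⊢; omega) _ hZ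
    have hS' := shortExact_map_TT_res C ν hC _ hS
    have hT' := DerivedCategory.triangleOfSES_distinguished hS'
    have h2A : DRing.IsPseudoCoherent P t ((Φ C ν).obj (ModuleCat.of S (Fin j → S))) :=
      isPC_mono hmt (isPC_Φ_pi ν C m h j)
    exact isPC_obj₃ _ hT' t h1 h2A

end Core

end Groth.Agent.Lib.T2H1.RelPCTensor
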