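import Mathlib
import Groth.Agent.Lib.T2H1RelPCBaseChange
import Groth.Agent.Lib.T2H4RelPC
set_option backward.isDefEq.respectTransparency.types false

/-!
# Tor-independent base change of relative pseudo-coherence, ring level (helper1, second team)

For a pushout square of rings `R → A`, `R → R'`, `A' = R' ⊗_R A` with `Tor^R_p(A, R') = 0` for
`p > 0`, and `K ∈ D(A)` which is `m`-pseudo-coherent relative to `R`, the object `A' ⊗^L_A K` of
`D(A')` is `m`-pseudo-coherent relative to `R'`.
-/

set_option autoImplicit false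
set_option linter.style.haveILetI false
universe u
open CategoryTheory CategoryTheory.Limits HomologicalComplex MonoidalCategory TensorProduct

attribute [local instance] HasDerivedCategory.standard

namespace Groth.Agent.Lib.T2H1.RelPCTorIndepRing

open Groth.Agent.Lib.Helper1.KF Groth.Agent.Lib.Helper1.DT DerivedCategory DTen
  Groth.Agent.Lib.Helper1.Tor Groth.Agent.Lib.Helper1.Extend
  Groth.Agent.Lib.Helper1.PC Groth.Agent.Lib.T2H4 Groth.Agent.Lib.Helper1.LDer
  Groth.Agent.Lib.T2H4.RelPC

section Main

attribute [local instance] MvPolynomial.algebraMvPolynomial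

variable {R R' A A' : Type u} [CommRing R] [CommRing R'] [CommRing A] [CommRing A']
  [Algebra R R'] [Algebra R A] [Algebra R' A'] [Algebra A A'] [Algebra R A']
  [IsScalarTower R R' A'] [IsScalarTower R A A']

/-- **tor-independent base change of relative pseudo-coherence**, ring level -/
theorem rel_LBaseChange_torIndep [Algebra.IsPushout R A R' A']
    (htor : ∀ p : ℕ, 1 ≤ p → Subsingleton (DRing.Tor R p A R'))
    [DRing.HasLBaseChange (algebraMap A A')] (K : Dual.D A) (m : ℤ)
    (hK : DerCA.IsRelPseudoCoherent R A m K) :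
    DerCA.IsRelPseudoCoherent R' A' m ((DRing.LBaseChange (algebraMap A A')).obj K) := by
  obtain ⟨n, α, hα, hαK⟩ := hK
  let α' : MvPolynomial (Fin n) R' →ₐ[R'] A' :=
    MvPolynomial.aeval (fun i => algebraMap A A' (α (MvPolynomial.X i)))
  have hsq0 : ∀ p : MvPolynomial (Fin n) R,
      α' (MvPolynomial.map (algebraMap R R') p) = algebraMap A A' (α p) := by
    intro p
    have h1 : ((α' : MvPolynomial (Fin n) R' →+* A').comp
        (MvPolynomial.map (algebraMap R R'))) =
        (algebraMap A A').comp (α : MvPolynomial (Fin n) R →+* A) := by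
      apply MvPolynomial.ringHom_ext
      · intro r
        simp only [RingHom.comp_apply, MvPolynomial.map_C, RingHom.coe_coe]
        rw [show α' (MvPolynomial.C (algebraMap R R' r)) = algebraMap R' A' (algebraMap R R' r) from
          α'.commutes _, show α (MvPolynomial.C r) = algebraMap R A r from α.commutes r,
          ← IsScalarTower.algebraMap_apply, ← IsScalarTower.algebraMap_apply]
      · intro i
        simp only [RingHom.comp_apply, MvPolynomial.map_X, RingHom.coe_coe]
        exact MvPolynomial.aeval_X _ i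
    exact congrArg (fun ψ => ψ p) h1
  letI iPA : Algebra (MvPolynomial (Fin n) R) A := (α : MvPolynomial (Fin n) R →+* A).toAlgebra
  letI iP'A' : Algebra (MvPolynomial (Fin n) R') A' :=
    (α' : MvPolynomial (Fin n) R' →+* A').toAlgebra
  letI iPA' : Algebra (MvPolynomial (Fin n) R) A' :=
    ((algebraMap A A').comp (α : MvPolynomial (Fin n) R →+* A)).toAlgebra
  haveI t1 : IsScalarTower (MvPolynomial (Fin n) R) A A' :=
    IsScalarTower.of_algebraMap_eq (fun _ => rfl)
  haveI t2 : IsScalarTower (MvPolynomial (Fin n) R) (MvPolynomial (Fin n) R') A' :=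
    IsScalarTower.of_algebraMap_eq (fun p => (hsq0 p).symm)
  haveI t3 : IsScalarTower R (MvPolynomial (Fin n) R) A :=
    IsScalarTower.of_algebraMap_eq (fun r => (α.commutes r).symm)
  haveI t4 : IsScalarTower R' (MvPolynomial (Fin n) R') A' :=
    IsScalarTower.of_algebraMap_eq (fun r => (α'.commutes r).symm)
  haveI t5 : IsScalarTower R (MvPolynomial (Fin n) R') A' :=
    IsScalarTower.of_algebraMap_eq (fun r => by
      rw [IsScalarTower.algebraMap_apply R R' A', IsScalarTower.algebraMap_apply R R'
        (MvPolynomial (Fin n) R'), ← IsScalarTower.algebraMap_apply R' (MvPolynomial (Fin n) R') A'])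
  haveI hpo : Algebra.IsPushout (MvPolynomial (Fin n) R) A (MvPolynomial (Fin n) R') A' :=
    (Algebra.IsPushout.comp_iff R (MvPolynomial (Fin n) R) R' (MvPolynomial (Fin n) R')
      (T := A) (T' := A')).1 inferInstance
  haveI : DRing.HasLBaseChange (algebraMap (MvPolynomial (Fin n) R) (MvPolynomial (Fin n) R')) :=
    LDerExist.hasLBaseChange _
  have hsq : (algebraMap A A').comp (algebraMap (MvPolynomial (Fin n) R) A) =
      (algebraMap (MvPolynomial (Fin n) R') A').comp
        (algebraMap (MvPolynomial (Fin n) R) (MvPolynomial (Fin n) R')) := by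
    rw [← IsScalarTower.algebraMap_eq, ← IsScalarTower.algebraMap_eq]
  have htor' : ∀ p : ℕ, 1 ≤ p →
      Subsingleton (DRing.Tor (MvPolynomial (Fin n) R) p A (MvPolynomial (Fin n) R')) :=
    fun p hp => subsingleton_tor_of_pushout R (MvPolynomial (Fin n) R) A R'
      (MvPolynomial (Fin n) R') p hp (htor p hp)
  haveI := TorIndep.isIso_cmp (MvPolynomial (Fin n) R) A (MvPolynomial (Fin n) R') A'
    htor' (TorIndep.lbcAdj _) (TorIndep.lbcAdj _) hsq K
  have e := asIso (TrivBC.cmp
    (TorIndep.lbcAdj (algebraMap (MvPolynomial (Fin n) R) (MvPolynomial (Fin n) R')))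
    (TorIndep.lbcAdj (algebraMap A A')) hsq K)
  refine ⟨n, α', ?_, isPC_of_iso e (Groth.Agent.S2137.result _ _ m hαK)⟩
  -- surjectivity of `α'`
  intro x
  have hbc : IsBaseChange A (IsScalarTower.toAlgHom R R' A').toLinearMap :=
    Algebra.IsPushout.out (R := R) (S := A) (R' := R') (S' := A')
  refine hbc.inductionOn x (fun x => ∃ q, α' q = x) ⟨0, map_zero _⟩ ?_ ?_ ?_
  · intro r'
    exact ⟨MvPolynomial.C r', α'.commutes r'⟩
  · rintro a y ⟨q, rfl⟩
    obtain ⟨p, rfl⟩ := hα a
    refine ⟨MvPolynomial.map (algebraMap R R') p * q, ?_⟩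
    rw [map_mul, hsq0, Algebra.smul_def]
  · rintro y₁ y₂ ⟨q₁, rfl⟩ ⟨q₂, rfl⟩
    exact ⟨q₁ + q₂, map_add _ _ _⟩

end Main

end Groth.Agent.Lib.T2H1.RelPCTorIndepRing
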