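import Groth.Agent.Lib.T2H1RelPCTorIndepRing
import Groth.Agent.Lib.T2H1RelPCLpullBC
set_option backward.isDefEq.respectTransparency.types false

/-!
# Tor-independent base change of relative pseudo-coherence on schemes (helper1, second team)
-/

set_option autoImplicit false
set_option linter.style.haveILetI false
universe u
open CategoryTheory CategoryTheory.Limits AlgebraicGeometry Opposite TopologicalSpace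

attribute [local instance] HasDerivedCategory.standard

namespace Groth.Agent.Lib.T2H1.RelPCTorIndepSch

open Groth.Agent.Lib.T2H8.SchLocHtpy Groth.Agent.Lib.T2H8.PerfLocal
  Groth.Agent.Lib.T2H2.AffRed Groth.Agent.Lib.T2H2.TildeLoc Groth.Agent.Lib.Helper1.Sky
  Groth.Agent.Lib.T2H1.LpullOpen Groth.Agent.Lib.T2H2.FpqcPCoh Groth.Agent.Lib.T2H1.RelPCpt
  Groth.Agent.Lib.T2H1.RelPCLpullBC Groth.Agent.Lib.T2H1.RelPCTorIndepRing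

section Pt

variable {X S X' S' : Scheme.{u}} {f : X ⟶ S} {g : S' ⟶ S} {g' : X' ⟶ X} {f' : X' ⟶ S'}

/-- base change of relative pseudo-coherence at a point, along a base change which is tor
independent on a chart -/
theorem relPt_Lpull_of_isPullback [LocallyOfFiniteType f] [LocallyOfFiniteType f']
    (H : IsPullback g' f' f g) (x' : X')
    {W : S.Opens} (hW : IsAffineOpen W) {V : X.Opens} (hV : IsAffineOpen V)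
    {W' : S'.Opens} (hW' : IsAffineOpen W')
    (hVW : V ≤ f ⁻¹ᵁ W) (hW'W : W' ≤ g ⁻¹ᵁ W) (hxV : g' x' ∈ V) (hyW' : f' x' ∈ W')
    (htor : letI : Algebra Γ(S, W) Γ(S', W') := (g.appLE W W' hW'W).hom.toAlgebra
      letI : Algebra Γ(S, W) Γ(X, V) := (f.appLE W V hVW).hom.toAlgebra
      ∀ p : ℕ, 1 ≤ p → Subsingleton (DRing.Tor Γ(S, W) p Γ(X, V) Γ(S', W')))
    [DCoh.HasLpull g'] (m : ℤ) (E : DCoh.D X) (hq : DCoh.IsQCohD E)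
    (hE : ∀ x : X, RelPt f E m x) :
    RelPt f' ((DCoh.Lpull g').obj E) m x' := by
  set W'' : X'.Opens := g' ⁻¹ᵁ V ⊓ f' ⁻¹ᵁ W' with hW''def
  have hx'W'' : x' ∈ W'' := ⟨hxV, hyW'⟩
  have hW''V : W'' ≤ g' ⁻¹ᵁ V := inf_le_left
  have hW''W' : W'' ≤ f' ⁻¹ᵁ W' := inf_le_right
  have hW'' : IsAffineOpen W'' := by
    haveI : IsAffine _ := hW
    haveI : IsAffine _ := hW'
    haveI : IsAffine _ := hV
    exact .of_isIso (Scheme.Hom.isPullback_resLE H hW'W hVW hW''def).isoPullback.hom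
  have hPO : IsPushout (f.appLE W V hVW) (g.appLE W W' hW'W)
      (g'.appLE V W'' hW''V) (f'.appLE W' W'' hW''W') := by
    haveI := isIso_pushoutSection_of_isAffineOpen H hW'W hVW hW''def hW hW' hV
    exact (isIso_pushoutSection_iff H hW'W hVW hW''def).1 inferInstance
  letI : Algebra Γ(S, W) Γ(S', W') := (g.appLE W W' hW'W).hom.toAlgebra
  letI : Algebra Γ(S, W) Γ(X, V) := (f.appLE W V hVW).hom.toAlgebra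
  letI : Algebra Γ(X, V) Γ(X', W'') := (g'.appLE V W'' hW''V).hom.toAlgebra
  letI : Algebra Γ(S', W') Γ(X', W'') := (f'.appLE W' W'' hW''W').hom.toAlgebra
  letI : Algebra Γ(S, W) Γ(X', W'') :=
    ((g'.appLE V W'' hW''V).hom.comp (f.appLE W V hVW).hom).toAlgebra
  haveI : IsScalarTower Γ(S, W) Γ(X, V) Γ(X', W'') := .of_algebraMap_eq' rfl
  haveI : IsScalarTower Γ(S, W) Γ(S', W') Γ(X', W'') := .of_algebraMap_eq' (by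
    have := congrArg CommRingCat.Hom.hom hPO.w
    exact this)
  haveI : Algebra.IsPushout Γ(S, W) Γ(X, V) Γ(S', W') Γ(X', W'') :=
    CommRingCat.isPushout_iff_isPushout.1 hPO
  haveI : DRing.HasLBaseChange (algebraMap Γ(X, V) Γ(X', W'')) :=
    Groth.Agent.Lib.T2H4.LDerExist.hasLBaseChange _
  obtain ⟨N, ⟨ε⟩⟩ := exists_tildeD_iso Γ(X, V) ((rD hV.fromSpec).obj E)
    (isQCohD_rD hV.fromSpec E hq)
  have hN := (forall_relPt_iff_isRelPseudoCoherent f E m hV hW hVW N ε).1 (fun x _ => hE x)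
  have hN' := rel_LBaseChange_torIndep (R := Γ(S, W)) (R' := Γ(S', W')) (A := Γ(X, V))
    (A' := Γ(X', W'')) htor N m hN
  obtain ⟨ε'⟩ := nonempty_rD_lpull_iso_tildeD g'
    (algebraMap Γ(X, V) Γ(X', W'')) hW''.fromSpec hV.fromSpec
    (IsAffineOpen.SpecMap_appLE_fromSpec g' hV hW'' hW''V) E N ε
  exact (forall_relPt_iff_isRelPseudoCoherent f' _ m hW'' hW' hW''W' _ ε').2
    hN' x' hx'W''

end Pt

section Sch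

open Groth.Agent.Lib.T2H4.RelPC

/-- relative pseudo-coherence is stable under flat base change (general pullback square) -/
theorem isPseudoCoherentRel_Lpull_of_isPullback_of_flat {X S X' S' : Scheme.{u}} (f : X ⟶ S)
    (f' : X' ⟶ S') (g' : X' ⟶ X) (g : S' ⟶ S) [Flat g] [LocallyOfFiniteType f]
    (H : IsPullback g' f' f g) [DCoh.HasLpull g'] (m : ℤ) (E : DCoh.D X)
    (hq : DCoh.IsQCohD E) (hE : DerSch.IsPseudoCoherentRel f m E) :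
    DerSch.IsPseudoCoherentRel f' m ((DCoh.Lpull g').obj E) := by
  haveI : LocallyOfFiniteType f' :=
    MorphismProperty.of_isPullback (P := @LocallyOfFiniteType) H inferInstance
  rw [isPseudoCoherentRel_iff_forall_relPt] at hE ⊢
  intro x'
  have hxy : f (g' x') = g (f' x') := by
    have h1 := congrArg (fun φ : X' ⟶ S => φ x') H.w
    simpa using h1
  obtain ⟨W, hW, hxW, -⟩ := Opens.isBasis_iff_nbhd.mp S.isBasis_affineOpens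
    (Opens.mem_top (f (g' x')))
  obtain ⟨V, hV, hxV, hVW⟩ := Opens.isBasis_iff_nbhd.mp X.isBasis_affineOpens
    (show g' x' ∈ f ⁻¹ᵁ W from hxW)
  obtain ⟨W', hW', hyW', hW'W⟩ := Opens.isBasis_iff_nbhd.mp S'.isBasis_affineOpens
    (show f' x' ∈ g ⁻¹ᵁ W from by change g (f' x') ∈ W; rw [← hxy]; exact hxW)
  refine relPt_Lpull_of_isPullback H x' hW hV hW' hVW hW'W hxV hyW' ?_ m E hq hE
  letI : Algebra Γ(S, W) Γ(S', W') := (g.appLE W W' hW'W).hom.toAlgebra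
  letI : Algebra Γ(S, W) Γ(X, V) := (f.appLE W V hVW).hom.toAlgebra
  haveI : Module.Flat Γ(S, W) Γ(S', W') := Scheme.Hom.flat_appLE g hW hW' hW'W
  intro p hp
  exact ModuleCat.subsingleton_of_isZero
    (Groth.Agent.Helper13Tor.isZero_tor_of_flat_right
      (ModuleCat.of Γ(S, W) Γ(X, V)) (ModuleCat.of Γ(S, W) Γ(S', W')) p hp)

set_option maxHeartbeats 1600000 in
/-- tor-independent base change of relative pseudo-coherence: `Y₂` and `X₂` flat over `S`, `Y₁`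
any `S`-scheme, `g : Y₁ ×_S X₂ ⟶ Y₁ ×_S Y₂` the base change of `f₂`. -/
theorem isPseudoCoherentRel_Lpull_torIndep {S Y₁ Y₂ X₂ Y Z : Scheme.{u}} (q₁ : Y₁ ⟶ S)
    (q₂ : Y₂ ⟶ S) (f₂ : X₂ ⟶ Y₂) [Flat q₂] [Flat (f₂ ≫ q₂)] [LocallyOfFiniteType f₂]
    (pY₁ : Y ⟶ Y₁) (pY₂ : Y ⟶ Y₂) (hY : IsPullback pY₁ pY₂ q₁ q₂)
    (pZ₁ : Z ⟶ Y₁) (pZ₂ : Z ⟶ X₂) (hZ : IsPullback pZ₁ pZ₂ q₁ (f₂ ≫ q₂))
    (g : Z ⟶ Y) (hg₁ : g ≫ pY₁ = pZ₁) (hg₂ : g ≫ pY₂ = pZ₂ ≫ f₂)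
    [DCoh.HasLpull pZ₂] (m : ℤ) (E : DCoh.D X₂) (hq : DCoh.IsQCohD E)
    (hE : DerSch.IsPseudoCoherentRel f₂ m E) :
    DerSch.IsPseudoCoherentRel g m ((DCoh.Lpull pZ₂).obj E) := by
  subst hg₁
  have H : IsPullback pZ₂ g f₂ pY₂ := (IsPullback.of_right hZ hg₂ hY).flip
  haveI : LocallyOfFiniteType g :=
    MorphismProperty.of_isPullback (P := @LocallyOfFiniteType) H inferInstance
  rw [isPseudoCoherentRel_iff_forall_relPt] at hE ⊢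
  intro z
  obtain ⟨S₀, hS₀, hzS₀, -⟩ := Opens.isBasis_iff_nbhd.mp S.isBasis_affineOpens
    (Opens.mem_top (q₁ ((g ≫ pY₁) z)))
  obtain ⟨W₁, hW₁, hzW₁, eW₁⟩ := Opens.isBasis_iff_nbhd.mp Y₁.isBasis_affineOpens
    (show (g ≫ pY₁) z ∈ q₁ ⁻¹ᵁ S₀ from hzS₀)
  have hz2 : q₂ (f₂ (pZ₂ z)) = q₁ ((g ≫ pY₁) z) := by
    have h1 := congrArg (fun φ : Z ⟶ S => φ z) hZ.w
    simpa using h1.symm
  obtain ⟨V, hV, hzV, eV⟩ := Opens.isBasis_iff_nbhd.mp Y₂.isBasis_affineOpens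
    (show f₂ (pZ₂ z) ∈ q₂ ⁻¹ᵁ S₀ from by
      change q₂ (f₂ (pZ₂ z)) ∈ S₀; rw [hz2]; exact hzS₀)
  obtain ⟨U, hU, hzU, eU⟩ := Opens.isBasis_iff_nbhd.mp X₂.isBasis_affineOpens
    (show pZ₂ z ∈ f₂ ⁻¹ᵁ V from hzV)
  have hV' : IsAffineOpen (pY₁ ⁻¹ᵁ W₁ ⊓ pY₂ ⁻¹ᵁ V) := by
    haveI : IsAffine (S₀ : Scheme.{u}) := hS₀
    haveI : IsAffine (W₁ : Scheme.{u}) := hW₁
    haveI : IsAffine (V : Scheme.{u}) := hV
    exact .of_isIso (Scheme.Hom.isPullback_resLE hY eV eW₁ rfl).isoPullback.hom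
  have hgz : g z ∈ pY₁ ⁻¹ᵁ W₁ ⊓ pY₂ ⁻¹ᵁ V := by
    refine ⟨?_, ?_⟩
    · have h1 : (g ≫ pY₁) z ∈ W₁ := hzW₁
      simpa using h1
    · have h3 := congrArg (fun φ : Z ⟶ Y₂ => φ z) hg₂
      change pY₂ (g z) ∈ V
      simp only [Scheme.Hom.comp_apply] at h3
      rw [h3]
      exact hzV
  have eV' : pY₁ ⁻¹ᵁ W₁ ⊓ pY₂ ⁻¹ᵁ V ≤ pY₂ ⁻¹ᵁ V := inf_le_right
  have eU2 : U ≤ (f₂ ≫ q₂) ⁻¹ᵁ S₀ := fun x hx => eV (eU hx)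
  refine relPt_Lpull_of_isPullback H z hV hU hV' eU eV' hzU hgz ?_ m E hq hE
  have hiso := isIso_pushoutSection_of_isAffineOpen hY eV eW₁
    (rfl : pY₁ ⁻¹ᵁ W₁ ⊓ pY₂ ⁻¹ᵁ V = _) hS₀ hV hW₁
  have hPO := (isIso_pushoutSection_iff hY eV eW₁
    (rfl : pY₁ ⁻¹ᵁ W₁ ⊓ pY₂ ⁻¹ᵁ V = _)).mp hiso
  letI : Algebra Γ(Y₂, V) Γ(Y, pY₁ ⁻¹ᵁ W₁ ⊓ pY₂ ⁻¹ᵁ V) :=
    (pY₂.appLE V (pY₁ ⁻¹ᵁ W₁ ⊓ pY₂ ⁻¹ᵁ V) eV').hom.toAlgebra
  letI : Algebra Γ(Y₂, V) Γ(X₂, U) := (f₂.appLE V U eU).hom.toAlgebra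
  letI : Algebra Γ(S, S₀) Γ(Y₂, V) := (q₂.appLE S₀ V eV).hom.toAlgebra
  letI : Algebra Γ(S, S₀) Γ(Y₁, W₁) := (q₁.appLE S₀ W₁ eW₁).hom.toAlgebra
  letI : Algebra Γ(Y₁, W₁) Γ(Y, pY₁ ⁻¹ᵁ W₁ ⊓ pY₂ ⁻¹ᵁ V) :=
    (pY₁.appLE W₁ (pY₁ ⁻¹ᵁ W₁ ⊓ pY₂ ⁻¹ᵁ V) inf_le_left).hom.toAlgebra
  letI : Algebra Γ(S, S₀) Γ(Y, pY₁ ⁻¹ᵁ W₁ ⊓ pY₂ ⁻¹ᵁ V) :=
    ((algebraMap Γ(Y₂, V) Γ(Y, pY₁ ⁻¹ᵁ W₁ ⊓ pY₂ ⁻¹ᵁ V)).comp
      (algebraMap Γ(S, S₀) Γ(Y₂, V))).toAlgebra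
  letI : Algebra Γ(S, S₀) Γ(X₂, U) :=
    ((algebraMap Γ(Y₂, V) Γ(X₂, U)).comp (algebraMap Γ(S, S₀) Γ(Y₂, V))).toAlgebra
  haveI : IsScalarTower Γ(S, S₀) Γ(Y₂, V) Γ(X₂, U) := .of_algebraMap_eq' rfl
  haveI : IsScalarTower Γ(S, S₀) Γ(Y₂, V) Γ(Y, pY₁ ⁻¹ᵁ W₁ ⊓ pY₂ ⁻¹ᵁ V) :=
    .of_algebraMap_eq' rfl
  haveI : IsScalarTower Γ(S, S₀) Γ(Y₁, W₁) Γ(Y, pY₁ ⁻¹ᵁ W₁ ⊓ pY₂ ⁻¹ᵁ V) :=
    .of_algebraMap_eq' (congrArg CommRingCat.Hom.hom hPO.w.symm)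
  haveI : Algebra.IsPushout Γ(S, S₀) Γ(Y₂, V) Γ(Y₁, W₁) Γ(Y, pY₁ ⁻¹ᵁ W₁ ⊓ pY₂ ⁻¹ᵁ V) :=
    (CommRingCat.isPushout_iff_isPushout (R := Γ(S, S₀)) (R' := Γ(Y₂, V)) (S := Γ(Y₁, W₁))
      (S' := Γ(Y, pY₁ ⁻¹ᵁ W₁ ⊓ pY₂ ⁻¹ᵁ V))).1 hPO.flip
  haveI : Module.Flat Γ(S, S₀) Γ(Y₂, V) := Scheme.Hom.flat_appLE q₂ hS₀ hV eV
  haveI : Module.Flat Γ(S, S₀) Γ(X₂, U) := by
    have h1 : algebraMap Γ(S, S₀) Γ(X₂, U) = ((f₂ ≫ q₂).appLE S₀ U eU2).hom := by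
      change (f₂.appLE V U eU).hom.comp (q₂.appLE S₀ V eV).hom = _
      rw [← CommRingCat.hom_comp, Scheme.Hom.appLE_comp_appLE]
    have h3 : (algebraMap Γ(S, S₀) Γ(X₂, U)).Flat := by
      rw [h1]
      exact Scheme.Hom.flat_appLE (f₂ ≫ q₂) hS₀ hU eU2
    exact h3
  intro p hp
  exact subsingleton_tor_of_pushout Γ(S, S₀) Γ(Y₂, V) Γ(X₂, U) Γ(Y₁, W₁)
    Γ(Y, pY₁ ⁻¹ᵁ W₁ ⊓ pY₂ ⁻¹ᵁ V) p hp
    (ModuleCat.subsingleton_of_isZero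
      (Groth.Agent.Helper13Tor.isZero_tor_of_flat (ModuleCat.of Γ(S, S₀) Γ(Y₁, W₁))
        (ModuleCat.of Γ(S, S₀) Γ(X₂, U)) p hp))

end Sch

end Groth.Agent.Lib.T2H1.RelPCTorIndepSch
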