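import Groth.Agent.Lib.T2H1RelPCbdd
import Groth.Agent.Lib.T2H1ChartPC

/-!
# Absolute versus relative pseudo-coherence for a pseudo-coherent morphism (helper1)

* `hO_affImm`: for a chart `φ` with `Γ(X, U)` pseudo-coherent over the polynomial ring, the chart
  immersion has pseudo-coherent `i_* O`.
* `bpc_of_isNPseudoCoherent`, `pwAt_iff_locPCoh_of_bpc`, `relPt_iff_locPCoh`,
  `isPseudoCoherentD_iff_isPseudoCoherentRel`.
-/

set_option autoImplicit false
set_option linter.style.haveILetI false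
universe u
open CategoryTheory CategoryTheory.Limits AlgebraicGeometry

attribute [local instance] HasDerivedCategory.standard

namespace Groth.Agent.Lib.T2H1.RelPCpt

open Groth.Agent.Lib.T2H8.PCohTriangle Groth.Agent.Lib.T2H8.PerfLocal
  Groth.Agent.Lib.T2H8.PCohBdd Groth.Agent.Lib.T2H8.PCohBiprod Groth.Agent.Lib.T2H1.ClImmPC
  Groth.Agent.Lib.T2H1.ChartIndep Groth.Agent.Lib.T2H1.ChartPC Groth.Agent.Lib.T2H2.TildeLoc
  Groth.Agent.Lib.Helper1.Restrict Groth.Agent.Lib.Helper1.RelPC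
  Groth.Agent.Lib.T2H8.PCohRelBiprod Scheme.Modules DerivedCategory Pretriangulated

section AbsRel

variable {X : Scheme.{u}}

/-- for a chart with `Γ(X, U)` pseudo-coherent over the polynomial ring, the chart immersion has
pseudo-coherent structure sheaf direct image -/
lemma hO_affImm (U : X.Opens) (hU : IsAffineOpen U) {R : Type u} [CommRing R] {n : ℕ}
    (φ : MvPolynomial (Fin n) R →+* Γ(X, U)) (hφ : Function.Surjective φ) (hB : BPC φ) :
    haveI := isClosedImmersion_affImm U hU φ hφ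
    HO (affImm U φ) := by
  haveI := isClosedImmersion_affImm U hU φ hφ
  intro m
  have e1 : (pushforward (affImm U φ)).obj (Coh.structureModule (U : Scheme.{u})) ≅ _ :=
    pushUnitIso U hU φ
  have e2 := ((tilde.functor (CommRingCat.of (MvPolynomial (Fin n) R))).mapDerivedCategorySingleFunctor
    0).app ((ModuleCat.restrictScalars φ).obj (ModuleCat.of Γ(X, U) Γ(X, U)))
  exact isPseudoCoherentD_of_iso
    (e2 ≪≫ (DerivedCategory.singleFunctor _ 0).mapIso e1.symm)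
    (isPseudoCoherentD_tildeD_of_isPC _ _ m (hB m))

variable {Z : Scheme.{u}} (g : X ⟶ Z) [LocallyOfFiniteType g]

lemma bpc_of_isNPseudoCoherent (hg : ∀ n : ℤ, DerSch.IsNPseudoCoherent g n) {U : X.Opens}
    (hU : IsAffineOpen U) {V : Z.Opens} (hV : IsAffineOpen V) (hUV : U ≤ g ⁻¹ᵁ V) {k : ℕ}
    (φ : MvPolynomial (Fin k) Γ(Z, V) →+* Γ(X, U)) (hφ : DerSch.IsChart g U V hUV φ) : BPC φ := by
  intro j
  have h1 : DerSch.ChartPC j (DCoh.toD X (DerSch.unitCx X)) U V φ :=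
    (chartPC_iff_forall_relPt g _ j hU hV hUV φ hφ).2
      (fun x _ => (isPseudoCoherentRel_iff_forall_relPt g _ j).1 (hg j) x)
  exact (chartPC_unit_iff U hU V φ hφ.1 j).1 h1

lemma pwAt_iff_locPCoh_of_bpc {U : X.Opens} (hU : IsAffineOpen U) {R : Type u} [CommRing R]
    {k : ℕ} (φ : MvPolynomial (Fin k) R →+* Γ(X, U)) (hφ : Function.Surjective φ) (hB : BPC φ)
    (E : DCoh.D X) (r : ℤ) (y : U) :
    PWat E r U hU φ hφ y ↔ LocPCoh r E y.1 := by
  haveI := isClosedImmersion_affImm U hU φ hφ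
  have h1 : PWat E r U hU φ hφ y ↔ LocPCoh r ((rD U.ι).obj E) y :=
    (locPCoh_pD_iff (affImm U φ) (hO_affImm U hU φ hφ hB) _ r y).symm
  rw [h1]
  exact ⟨fun h => locPCoh_of_rD U.ι r E y h, fun h => locPCoh_rD U.ι r E y h⟩

/-- for a pseudo-coherent morphism, relative and absolute pseudo-coherence agree pointwise -/
theorem relPt_iff_locPCoh (hg : ∀ n : ℤ, DerSch.IsNPseudoCoherent g n) (E : DCoh.D X) (r : ℤ)
    (y : X) : RelPt g E r y ↔ LocPCoh r E y := by
  obtain ⟨_, ⟨V, hV, rfl⟩, hxV, -⟩ :=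
    Z.isBasis_affineOpens.exists_subset_of_mem_open
      (show g y ∈ (⊤ : Z.Opens) from trivial) (⊤ : Z.Opens).2
  obtain ⟨_, ⟨U, hU, rfl⟩, hxU, hUV⟩ :=
    X.isBasis_affineOpens.exists_subset_of_mem_open (show y ∈ g ⁻¹ᵁ V from hxV) (g ⁻¹ᵁ V).2
  obtain ⟨k, φ, hφ⟩ := exists_isChart g hU hV hUV
  have hB : BPC φ := bpc_of_isNPseudoCoherent g hg hU hV hUV φ hφ
  rw [relPt_iff_relAt g E r hU hV hUV y hxU, relAt_iff_of_chart g E r U hU V hUV φ hφ]
  exact pwAt_iff_locPCoh_of_bpc hU φ hφ.1 hB E r ⟨y, hxU⟩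

theorem isPseudoCoherentD_iff_isPseudoCoherentRel (hg : ∀ n : ℤ, DerSch.IsNPseudoCoherent g n)
    (r : ℤ) (E : DCoh.D X) :
    DCoh.IsPseudoCoherentD r E ↔ DerSch.IsPseudoCoherentRel g r E := by
  rw [isPseudoCoherentRel_iff_forall_relPt, isPseudoCoherentD_iff]
  exact forall_congr' (fun y => (relPt_iff_locPCoh g hg E r y).symm)

end AbsRel

end Groth.Agent.Lib.T2H1.RelPCpt
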