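import Groth.Agent.Lib.T2H1RelPCpt

/-!
# Charts on basic opens without a finite type hypothesis on the morphism (helper1)

* `exists_isChart_of_finiteType`, `finiteType_of_isChart`, `finiteType_appLE_basicOpen`.
* `chart_basicOpen_cover_iff`: the chart test on an affine pair `(U, V)` versus on a cover of `U` by
  basic opens.
* `chart_basicOpen_of_base_basicOpen`.
-/

set_option autoImplicit false
set_option linter.style.haveILetI false
universe u
open CategoryTheory CategoryTheory.Limits AlgebraicGeometry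

attribute [local instance] HasDerivedCategory.standard

namespace Groth.Agent.Lib.T2H1.RelPCpt

open Groth.Agent.Lib.T2H8.PCohTriangle Groth.Agent.Lib.T2H8.PerfLocal
  Groth.Agent.Lib.T2H8.PCohBdd Groth.Agent.Lib.T2H1.ClImmPC Groth.Agent.Lib.T2H1.ChartIndep
  Groth.Agent.Lib.Helper1.Restrict Groth.Agent.Lib.Helper1.RelPC
  Groth.Agent.Lib.T2H8.PCohRelBiprod Scheme.Modules DerivedCategory

section NoLFT

variable {X S : Scheme.{u}} (f : X ⟶ S)

lemma exists_isChart_of_finiteType {U : X.Opens} {V : S.Opens} (h : U ≤ f ⁻¹ᵁ V)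
    (hft : (f.appLE V U h).hom.FiniteType) :
    ∃ (n : ℕ) (φ : MvPolynomial (Fin n) Γ(S, V) →+* Γ(X, U)), DerSch.IsChart f U V h φ := by
  letI : Algebra Γ(S, V) Γ(X, U) := (f.appLE V U h).hom.toAlgebra
  haveI : Algebra.FiniteType Γ(S, V) Γ(X, U) := hft
  obtain ⟨n, α, hα⟩ := exists_presentation Γ(S, V) Γ(X, U)
  refine ⟨n, α.toRingHom, hα, ?_⟩
  ext a
  exact α.commutes a

lemma finiteType_of_isChart {U : X.Opens} {V : S.Opens} (h : U ≤ f ⁻¹ᵁ V) {n : ℕ}
    (φ : MvPolynomial (Fin n) Γ(S, V) →+* Γ(X, U)) (hφ : DerSch.IsChart f U V h φ) :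
    (f.appLE V U h).hom.FiniteType := by
  rw [← hφ.2]
  refine RingHom.FiniteType.comp (RingHom.FiniteType.of_surjective φ hφ.1) ?_
  change (algebraMap Γ(S, V) (MvPolynomial (Fin n) Γ(S, V))).FiniteType
  rw [RingHom.finiteType_algebraMap]
  infer_instance

lemma finiteType_res_basicOpen {U : X.Opens} (hU : IsAffineOpen U) (g : Γ(X, U)) :
    (X.presheaf.map (homOfLE (X.basicOpen_le g)).op).hom.FiniteType := by
  letI : Algebra Γ(X, U) Γ(X, X.basicOpen g) :=
    (X.presheaf.map (homOfLE (X.basicOpen_le g)).op).hom.toAlgebra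
  haveI : IsLocalization.Away g Γ(X, X.basicOpen g) :=
    hU.isLocalization_of_eq_basicOpen g (homOfLE (X.basicOpen_le g)) rfl
  exact RingHom.finiteType_holdsForLocalizationAway Γ(X, X.basicOpen g) g

lemma finiteType_appLE_basicOpen {U : X.Opens} (hU : IsAffineOpen U) {V : S.Opens}
    (h : U ≤ f ⁻¹ᵁ V) (hft : (f.appLE V U h).hom.FiniteType) (g : Γ(X, U)) :
    (f.appLE V (X.basicOpen g) ((X.basicOpen_le g).trans h)).hom.FiniteType := by
  have h1 := Scheme.Hom.appLE_map f h (homOfLE (X.basicOpen_le g)).op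
  rw [← h1]
  exact RingHom.FiniteType.comp (finiteType_res_basicOpen hU g) hft

variable (E : DCoh.D X) (m : ℤ)

/-- chart test on `U` versus on a cover of `U` by basic opens -/
theorem chart_basicOpen_cover_iff (U : X.affineOpens) (V : S.affineOpens)
    (h : (U : X.Opens) ≤ f ⁻¹ᵁ (V : S.Opens))
    (hft : (f.appLE (V : S.Opens) (U : X.Opens) h).hom.FiniteType)
    {k : ℕ} (g : Fin k → Γ(X, (U : X.Opens))) (hg : Ideal.span (Set.range g) = ⊤) :
    (∀ j : Fin k, ∃ (n : ℕ)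
        (φ : MvPolynomial (Fin n) Γ(S, (V : S.Opens)) →+* Γ(X, X.basicOpen (g j))),
        DerSch.IsChart f (X.basicOpen (g j)) (V : S.Opens) ((X.basicOpen_le (g j)).trans h) φ ∧
          DerSch.ChartPC m E (X.basicOpen (g j)) (V : S.Opens) φ) ↔
      ∃ (n : ℕ) (φ : MvPolynomial (Fin n) Γ(S, (V : S.Opens)) →+* Γ(X, (U : X.Opens))),
        DerSch.IsChart f (U : X.Opens) (V : S.Opens) h φ ∧
          DerSch.ChartPC m E (U : X.Opens) (V : S.Opens) φ := by
  constructor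
  · intro H
    obtain ⟨n, φ, hφ⟩ := exists_isChart_of_finiteType f h hft
    refine ⟨n, φ, hφ, (chartPC_iff_forall_pwAt E m U.1 U.2 V.1 φ hφ.1).2 (fun x => ?_)⟩
    have hx : (x : X) ∈ (⨆ i ∈ Set.range g, X.basicOpen i) := by
      rw [iSup_basicOpen_of_span_eq_top _ _ hg]
      exact x.2
    simp only [TopologicalSpace.Opens.mem_iSup, Set.mem_range, exists_prop] at hx
    obtain ⟨_, ⟨j, rfl⟩, hxj⟩ := hx
    obtain ⟨nj, φj, hφj, hPj⟩ := H j
    have hUj : IsAffineOpen (X.basicOpen (g j)) := U.2.basicOpen (g j)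
    have := (chartPC_iff_forall_pwAt E m _ hUj V.1 φj hφj.1).1 hPj ⟨x, hxj⟩
    exact (pwAt_basicOpen_iff E m f (X.basicOpen_le (g j)) U.2 hUj V.1 h
      ((X.basicOpen_le (g j)).trans h) (g j) rfl φ hφ φj hφj ⟨x, hxj⟩).2 this
  · rintro ⟨n, φ, hφ, hP⟩ j
    have hUj : IsAffineOpen (X.basicOpen (g j)) := U.2.basicOpen (g j)
    obtain ⟨nj, φj, hφj⟩ := exists_isChart_of_finiteType f ((X.basicOpen_le (g j)).trans h)
      (finiteType_appLE_basicOpen f U.2 h hft (g j))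
    refine ⟨nj, φj, hφj, (chartPC_iff_forall_pwAt E m _ hUj V.1 φj hφj.1).2 (fun x => ?_)⟩
    have := (chartPC_iff_forall_pwAt E m U.1 U.2 V.1 φ hφ.1).1 hP ⟨x, X.basicOpen_le (g j) x.2⟩
    exact (pwAt_basicOpen_iff E m f (X.basicOpen_le (g j)) U.2 hUj V.1 h
      ((X.basicOpen_le (g j)).trans h) (g j) rfl φ hφ φj hφj x).1 this


/-- from a chart over a basic open of the base to a chart over the base on a basic open of the
source -/
theorem chart_basicOpen_of_base_basicOpen (V : S.affineOpens) (r : Γ(S, (V : S.Opens)))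
    (U : X.affineOpens) (hU : (U : X.Opens) ≤ f ⁻¹ᵁ S.basicOpen r) (g : Γ(X, (U : X.Opens)))
    (h' : X.basicOpen g ≤ f ⁻¹ᵁ (V : S.Opens))
    (hE : ∃ (n : ℕ) (φ : MvPolynomial (Fin n) Γ(S, S.basicOpen r) →+* Γ(X, (U : X.Opens))),
      DerSch.IsChart f (U : X.Opens) (S.basicOpen r) hU φ ∧
        DerSch.ChartPC m E (U : X.Opens) (S.basicOpen r) φ) :
    ∃ (k : ℕ) (ψ : MvPolynomial (Fin k) Γ(S, (V : S.Opens)) →+* Γ(X, X.basicOpen g)),
      DerSch.IsChart f (X.basicOpen g) (V : S.Opens) h' ψ ∧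
        DerSch.ChartPC m E (X.basicOpen g) (V : S.Opens) ψ := by
  obtain ⟨n, φ, hφ, hP⟩ := hE
  have hVr : IsAffineOpen (S.basicOpen r) := V.2.basicOpen r
  have hUV : (U : X.Opens) ≤ f ⁻¹ᵁ (V : S.Opens) :=
    hU.trans (fun _ hy => S.basicOpen_le r hy)
  have hft1 : (f.appLE (V : S.Opens) (U : X.Opens) hUV).hom.FiniteType := by
    have h1 := Scheme.Hom.map_appLE f hU (homOfLE (S.basicOpen_le r)).op
    rw [← h1]
    exact RingHom.FiniteType.comp (finiteType_of_isChart f hU φ hφ)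
      (finiteType_res_basicOpen V.2 r)
  obtain ⟨n₁, φ₁, hφ₁⟩ := exists_isChart_of_finiteType f hUV hft1
  obtain ⟨k, ψ, hψ⟩ := exists_isChart_of_finiteType f h'
    (finiteType_appLE_basicOpen f U.2 hUV hft1 g)
  have hUg : IsAffineOpen (X.basicOpen g) := U.2.basicOpen g
  refine ⟨k, ψ, hψ, (chartPC_iff_forall_pwAt E m _ hUg V.1 ψ hψ.1).2 (fun x => ?_)⟩
  have h1 := (chartPC_iff_forall_pwAt E m U.1 U.2 _ φ hφ.1).1 hP ⟨x, X.basicOpen_le g x.2⟩
  have h2 := (pwAt_base_basicOpen_iff E m f U.2 (S.basicOpen_le r) V.2 hUV hU r rfl φ₁ hφ₁ φ hφ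
    ⟨x, X.basicOpen_le g x.2⟩).2 h1
  exact (pwAt_basicOpen_iff E m f (X.basicOpen_le g) U.2 hUg V.1 hUV h' g rfl φ₁ hφ₁ ψ hψ x).1 h2

end NoLFT

end Groth.Agent.Lib.T2H1.RelPCpt
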