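import Groth.Agent.Lib.T2H1RelPCtri
import Groth.Agent.Lib.Helper1Devissage

/-!
# Relative pseudo-coherence of bounded above complexes via terms / cohomology (helper1)

* `locPCoh_of_isZero_homology`, `pwAt_of_isZero_homology`, `pwAt_shift`, `relPt_iff_pwAt`,
  `relPt_of_isZero_homology`, `relPt_shift`, `relPt_single`.
* `relPt_of_homology`, `relPt_of_terms`: pointwise dévissage.
* `isPseudoCoherentRel_of_homology`, `isPseudoCoherentRel_of_terms`.
-/

set_option autoImplicit false
set_option linter.style.haveILetI false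
universe u
open CategoryTheory CategoryTheory.Limits AlgebraicGeometry

attribute [local instance] HasDerivedCategory.standard

namespace Groth.Agent.Lib.T2H1.RelPCpt

open Groth.Agent.Lib.T2H8.PCohTriangle Groth.Agent.Lib.T2H8.PerfLocal
  Groth.Agent.Lib.T2H8.PCohBdd Groth.Agent.Lib.T2H8.PCohBiprod Groth.Agent.Lib.T2H1.ClImmPC
  Groth.Agent.Lib.T2H1.ChartIndep
  Groth.Agent.Lib.Helper1.Restrict Groth.Agent.Lib.Helper1.RelPC
  Groth.Agent.Lib.T2H8.PCohRelBiprod Scheme.Modules DerivedCategory Pretriangulated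
  Groth.Agent.S14388 Groth.Agent.Lib.Helper1.Devissage

section Abs

variable {P : Scheme.{u}}

/-- an object without cohomology in degrees `≥ n` is `n`-pseudo-coherent at every point -/
lemma locPCoh_of_isZero_homology (n : ℤ) (K : DCoh.D P)
    (h : ∀ i : ℤ, n ≤ i → IsZero (DCoh.HD K i)) (x : P) : LocPCoh n K x := by
  refine ⟨P, 𝟙 P, inferInstance, x, rfl, PCohAt.of_isZero_homology n K (𝟙 P) (fun i hi => ?_)⟩
  exact IsZero.of_iso ((restrictFunctor (𝟙 P)).map_isZero (h i hi))
    ((mapDerivedCategoryHomologyIso (restrictFunctor (𝟙 P)) i).app K)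

end Abs

section Rel

variable {X S : Scheme.{u}} (f : X ⟶ S)

lemma pwAt_of_isZero_homology (m : ℤ) (E : DCoh.D X) (h : ∀ i : ℤ, m ≤ i → IsZero (DCoh.HD E i))
    (U : X.Opens) (hU : IsAffineOpen U) {R : Type u} [CommRing R]
    (lam : R →+* Γ(X, U)) (hlam : Function.Surjective lam) (x : U) :
    PWat E m U hU lam hlam x := by
  haveI := isClosedImmersion_affImm U hU lam hlam
  refine locPCoh_of_isZero_homology m _ (fun i hi => ?_) _
  have h1 : IsZero (DCoh.HD ((rD U.ι).obj E) i) :=
    IsZero.of_iso ((restrictFunctor U.ι).map_isZero (h i hi))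
      ((mapDerivedCategoryHomologyIso (restrictFunctor U.ι) i).app E)
  exact IsZero.of_iso ((pushforward (affImm U lam)).map_isZero h1)
    ((mapDerivedCategoryHomologyIso (pushforward (affImm U lam)) i).app _)

lemma pwAt_shift (m : ℤ) (E : DCoh.D X) (U : X.Opens) (hU : IsAffineOpen U) {R : Type u}
    [CommRing R] (lam : R →+* Γ(X, U)) (hlam : Function.Surjective lam) (x : U)
    (h : PWat E m U hU lam hlam x) (k : ℤ) : PWat (E⟦k⟧) (m - k) U hU lam hlam x := by
  haveI := isClosedImmersion_affImm U hU lam hlam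
  have e : (Kd E U hU lam hlam)⟦k⟧ ≅ Kd (E⟦k⟧) U hU lam hlam :=
    (((rD U.ι ⋙ pD (affImm U lam)).commShiftIso k).app E).symm
  exact (LocPCoh.shift h k).of_iso e

variable [LocallyOfFiniteType f]

lemma relPt_iff_pwAt (x : X) :
    ∃ (U : X.Opens) (hU : IsAffineOpen U) (hx : x ∈ U) (R : Type u) (_ : CommRing R)
      (lam : R →+* Γ(X, U)) (hlam : Function.Surjective lam),
      ∀ (E : DCoh.D X) (m : ℤ), RelPt f E m x ↔ PWat E m U hU lam hlam ⟨x, hx⟩ := by
  obtain ⟨_, ⟨V, hV, rfl⟩, hxV, -⟩ :=
    S.isBasis_affineOpens.exists_subset_of_mem_open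
      (show f x ∈ (⊤ : S.Opens) from trivial) (⊤ : S.Opens).2
  obtain ⟨_, ⟨U, hU, rfl⟩, hxU, hUV⟩ :=
    X.isBasis_affineOpens.exists_subset_of_mem_open (show x ∈ f ⁻¹ᵁ V from hxV) (f ⁻¹ᵁ V).2
  obtain ⟨k, φ, hφ⟩ := exists_isChart f hU hV hUV
  refine ⟨U, hU, hxU, _, _, φ, hφ.1, fun E m => ?_⟩
  rw [relPt_iff_relAt f E m hU hV hUV x hxU, relAt_iff_of_chart f E m U hU V hUV φ hφ]

lemma relPt_of_isZero_homology (m : ℤ) (E : DCoh.D X)
    (h : ∀ i : ℤ, m ≤ i → IsZero (DCoh.HD E i)) (x : X) : RelPt f E m x := by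
  obtain ⟨U, hU, hx, R, _, lam, hlam, key⟩ := relPt_iff_pwAt f x
  rw [key]
  exact pwAt_of_isZero_homology m E h U hU lam hlam _

lemma relPt_of_isZero (m : ℤ) (E : DCoh.D X) (h : IsZero E) (x : X) : RelPt f E m x :=
  relPt_of_isZero_homology f m E (fun i _ => (homologyFunctor _ i).map_isZero h) x

lemma relPt_shift (m : ℤ) (E : DCoh.D X) (x : X) (h : RelPt f E m x) (k : ℤ) :
    RelPt f (E⟦k⟧) (m - k) x := by
  obtain ⟨U, hU, hx, R, _, lam, hlam, key⟩ := relPt_iff_pwAt f x
  rw [key] at h ⊢
  exact pwAt_shift m E U hU lam hlam _ h k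

lemma relPt_single (m c : ℤ) (M : X.Modules) (x : X) (h : RelPt f (DCoh.inD X M) (m - c) x) :
    RelPt f ((singleFunctor X.Modules c).obj M) m x := by
  have h1 := relPt_shift f (m - c) _ x h (-c)
  have e : m - c - (-c) = m := by ring
  rw [e] at h1
  exact (relPt_of_iso f m (((singleFunctors X.Modules).shiftIso (-c) c 0 (by omega)).app M) x).1 h1

/-- cohomological criterion, pointwise -/
theorem relPt_of_homology (x : X) (m : ℤ) : ∀ (k : ℕ) (E : DCoh.D X) (b : ℤ), E.IsLE b →
    b < m + k → (∀ i : ℤ, RelPt f (DCoh.inD X (DCoh.HD E i)) (m - i) x) → RelPt f E m x := by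
  intro k
  induction k with
  | zero =>
    intro E b hb hbm _
    exact relPt_of_isZero_homology f m E (fun i hi => isZero_of_isLE E b i (by
      simp only [Nat.cast_zero, add_zero] at hbm
      omega)) x
  | succ k ih =>
    intro E b hb hbm hP
    have hT := tt.triangleLTGE_distinguished b E
    have hQGE : ((tt.truncGE b).obj E).IsGE b := inferInstance
    have hQLE : ((tt.truncGE b).obj E).IsLE b := inferInstance
    obtain ⟨eQ⟩ := Groth.Agent.S0973.iso_single_of_amp ((tt.truncGE b).obj E) b
    have hπiso := isIso_homology_truncGEπ b b le_rfl E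
    let eH : (homologyFunctor X.Modules b).obj ((tt.truncGE b).obj E) ≅
        (homologyFunctor X.Modules b).obj E :=
      (asIso ((homologyFunctor X.Modules b).map ((tt.truncGEπ b).app E))).symm
    let e : (tt.truncGE b).obj E ≅
        (singleFunctor X.Modules b).obj ((homologyFunctor X.Modules b).obj E) :=
      eQ ≪≫ (singleFunctor X.Modules b).mapIso eH
    have hP3 : RelPt f ((tt.truncGE b).obj E) m x :=
      (relPt_of_iso f m e x).2 (relPt_single f m b _ x (hP b))
    have hLE1 : ((tt.truncLT b).obj E).IsLE (b - 1) := inferInstance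
    have hP1 : RelPt f ((tt.truncLT b).obj E) m x := by
      apply ih ((tt.truncLT b).obj E) (b - 1) hLE1 (by push_cast at hbm; omega)
      intro i
      by_cases hib : i < b
      · have hιiso := isIso_homology_truncLTι b i hib E
        let eJ : (homologyFunctor X.Modules i).obj ((tt.truncLT b).obj E) ≅
            (homologyFunctor X.Modules i).obj E :=
          asIso ((homologyFunctor X.Modules i).map ((tt.truncLTι b).app E))
        exact (relPt_of_iso f (m - i) ((singleFunctor X.Modules 0).mapIso eJ) x).2 (hP i)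
      · apply relPt_of_isZero
        exact (singleFunctor X.Modules 0).map_isZero
          (isZero_of_isLE ((tt.truncLT b).obj E) (b - 1) i (by omega))
    exact (relPt_two_of_three f m _ hT x).2.1 hP1 hP3

/-- termwise criterion, pointwise -/
theorem relPt_of_terms (x : X) (m : ℤ) : ∀ (k : ℕ) (F : CochainComplex X.Modules ℤ) (b : ℤ),
    (∀ i : ℤ, b < i → IsZero (F.X i)) → b < m + k →
    (∀ i : ℤ, RelPt f (DCoh.inD X (F.X i)) (m - i) x) → RelPt f (DCoh.toD X F) m x := by
  intro k
  induction k with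
  | zero =>
    intro F b hb hbm _
    refine relPt_of_isZero_homology f m _ (fun i hi => ?_) x
    refine IsZero.of_iso ?_ ((homologyFunctorFactors X.Modules i).app F)
    exact (HomologicalComplex.exactAt_iff_isZero_homology _ _).1
      (ShortComplex.exact_of_isZero_X₂ _ (hb i (by
        simp only [Nat.cast_zero, add_zero] at hbm
        omega)))
  | succ k ih =>
    intro F b hb hbm hP
    obtain ⟨C, g₁, g₂, δ, hT, hCb, hCi⟩ := exists_step F b hb
    have hP3 : RelPt f (DCoh.toD X C) m x := by
      apply ih C (b - 1)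
      · intro i hi
        by_cases hib : i = b
        · subst hib
          exact hCb
        · obtain ⟨e⟩ := hCi i hib
          exact (hb i (by omega)).of_iso e.symm
      · push_cast at hbm
        omega
      · intro i
        by_cases hib : i = b
        · subst hib
          exact relPt_of_isZero f _ _ ((singleFunctor X.Modules 0).map_isZero hCb) x
        · obtain ⟨e⟩ := hCi i hib
          exact (relPt_of_iso f (m - i) ((singleFunctor X.Modules 0).mapIso e) x).1 (hP i)
    have hP1 : RelPt f ((singleFunctor X.Modules b).obj (F.X b)) m x :=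
      relPt_single f m b _ x (hP b)
    exact (relPt_two_of_three f m _ hT x).2.1 hP1 hP3

end Rel


section Main

variable {X S : Scheme.{u}} (f : X ⟶ S) (m : ℤ)

theorem isPseudoCoherentRel_of_homology (E : DCoh.D X) (b : ℤ) [E.IsLE b]
    (h : ∀ i : ℤ, DerSch.IsPseudoCoherentRel f (m - i) (DCoh.inD X (DCoh.HD E i))) :
    DerSch.IsPseudoCoherentRel f m E := by
  haveI : LocallyOfFiniteType f := (h 0).1
  rw [isPseudoCoherentRel_iff_forall_relPt]
  intro x
  refine relPt_of_homology f x m (b - m + 1).toNat E b inferInstance ?_ (fun i => ?_)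
  · have := Int.self_le_toNat (b - m + 1)
    omega
  · exact (isPseudoCoherentRel_iff_forall_relPt f _ _).1 (h i) x

theorem isPseudoCoherentRel_of_terms (F : CochainComplex X.Modules ℤ) (b : ℤ)
    (hb : ∀ i : ℤ, b < i → IsZero (F.X i))
    (h : ∀ i : ℤ, DerSch.IsPseudoCoherentRel f (m - i) (DCoh.inD X (F.X i))) :
    DerSch.IsPseudoCoherentRel f m (DCoh.toD X F) := by
  haveI : LocallyOfFiniteType f := (h 0).1
  rw [isPseudoCoherentRel_iff_forall_relPt]
  intro x
  refine relPt_of_terms f x m (b - m + 1).toNat F b hb ?_ (fun i => ?_)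
  · have := Int.self_le_toNat (b - m + 1)
    omega
  · exact (isPseudoCoherentRel_iff_forall_relPt f _ _).1 (h i) x

end Main

end Groth.Agent.Lib.T2H1.RelPCpt
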