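import Groth.Agent.Lib.T2H1RelPCcomp
import Groth.Agent.Lib.T2H1PCm

/-!
# Relative pseudo-coherence for closed immersions into flat finitely presented schemes (helper1)

* `isNPseudoCoherent_of_flat`: a flat morphism locally of finite presentation is pseudo-coherent.
* `relPt_closedImmersion_iff`, `isPseudoCoherentRel_closedImmersion_iff`: for a closed immersion
  `i`, `E` is `m`-pseudo-coherent relative to `i` iff `i_* E` is `m`-pseudo-coherent.
* `closedImmersion_flat_main`.
-/

set_option autoImplicit false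
set_option linter.style.haveILetI false
universe u
open CategoryTheory CategoryTheory.Limits AlgebraicGeometry

attribute [local instance] HasDerivedCategory.standard

namespace Groth.Agent.Lib.T2H1.RelPCpt

open Groth.Agent.Lib.T2H8.PCohTriangle Groth.Agent.Lib.T2H8.PerfLocal
  Groth.Agent.Lib.T2H8.PCohBdd Groth.Agent.Lib.T2H8.PCohBiprod Groth.Agent.Lib.T2H1.ClImmPC
  Groth.Agent.Lib.T2H1.ChartIndep Groth.Agent.Lib.T2H1.ChartPC Groth.Agent.Lib.T2H2.TildeLoc
  Groth.Agent.Lib.Helper1.Restrict Groth.Agent.Lib.Helper1.RelPC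
  Groth.Agent.Lib.T2H8.PCohRelBiprod Scheme.Modules DerivedCategory Pretriangulated

section FlatLFP

variable {P S : Scheme.{u}} (g : P ⟶ S)

/-- a flat morphism locally of finite presentation is pseudo-coherent (chart form) -/
theorem isNPseudoCoherent_of_flat [Flat g] [LocallyOfFinitePresentation g] (n : ℤ) :
    DerSch.IsNPseudoCoherent g n := by
  rw [Groth.Agent.Lib.T2H1.PCm.isNPseudoCoherent_iff_ppcm]
  intro U V hU hV e
  apply Groth.Agent.Lib.T2H1.PCm.qpcm_of_qpc
  have h1 : RingHom.Flat (g.appLE V U e).hom :=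
    HasRingHomProperty.appLE (P := @Flat) g inferInstance ⟨V, hV⟩ ⟨U, hU⟩ e
  have h2 : RingHom.FinitePresentation (g.appLE V U e).hom :=
    HasRingHomProperty.appLE (P := @LocallyOfFinitePresentation) g inferInstance ⟨V, hV⟩ ⟨U, hU⟩ e
  letI : Algebra Γ(S, V) Γ(P, U) := (g.appLE V U e).hom.toAlgebra
  haveI : Module.Flat Γ(S, V) Γ(P, U) := h1
  haveI : Algebra.FinitePresentation Γ(S, V) Γ(P, U) := h2
  exact (Groth.Agent.Lib.T2H7.PdPC.isPerfectHom_of_flat Γ(S, V) Γ(P, U)).1

end FlatLFP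

section ClosedImm

variable {X P : Scheme.{u}} (i : X ⟶ P) [IsClosedImmersion i] (E : DCoh.D X) (m : ℤ)

/-- the tautological chart in `0` variables of a closed immersion over an affine open -/
noncomputable def zeroChart (V : P.Opens) :
    MvPolynomial (Fin 0) Γ(P, V) →+* Γ(P, V) :=
  (MvPolynomial.isEmptyAlgEquiv Γ(P, V) (Fin 0)).toRingEquiv.toRingHom

lemma zeroChart_bijective (V : P.Opens) : Function.Bijective (zeroChart V) :=
  (MvPolynomial.isEmptyAlgEquiv Γ(P, V) (Fin 0)).bijective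

lemma zeroChart_C (V : P.Opens) (a : Γ(P, V)) : zeroChart V (MvPolynomial.C a) = a :=
  (MvPolynomial.isEmptyAlgEquiv Γ(P, V) (Fin 0)).commutes a

lemma affImm_zeroChart (V : P.Opens) :
    affImm (i ⁻¹ᵁ V) ((i.app V).hom.comp (zeroChart V)) = (i ∣_ V) ≫ affImm V (zeroChart V) := by
  unfold affImm
  rw [← Scheme.Opens.toSpecΓ_naturality_assoc, ← Spec.map_comp]
  rfl

/-- for a closed immersion, relative pseudo-coherence is pseudo-coherence of the direct image -/
theorem relPt_closedImmersion_iff (x : X) :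
    RelPt i E m x ↔ LocPCoh m ((pD i).obj E) (i x) := by
  obtain ⟨_, ⟨V, hV, rfl⟩, hxV, -⟩ :=
    P.isBasis_affineOpens.exists_subset_of_mem_open
      (show i x ∈ (⊤ : P.Opens) from trivial) (⊤ : P.Opens).2
  have hU : IsAffineOpen (i ⁻¹ᵁ V) := hV.preimage i
  have hφ₀ := zeroChart_bijective V
  have hsurj : Function.Surjective ((i.app V).hom.comp (zeroChart V)) :=
    (i.app_surjective V hV).comp hφ₀.surjective
  have hφ : DerSch.IsChart i (i ⁻¹ᵁ V) V le_rfl ((i.app V).hom.comp (zeroChart V)) := by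
    refine ⟨hsurj, ?_⟩
    ext a
    rw [RingHom.comp_apply, RingHom.comp_apply, zeroChart_C, Scheme.Hom.app_eq_appLE]
  haveI := isClosedImmersion_affImm (i ⁻¹ᵁ V) hU _ hsurj
  haveI := isClosedImmersion_affImm V hV (zeroChart V) hφ₀.surjective
  rw [relPt_iff_relAt i E m hU hV le_rfl x hxV, relAt_iff_of_chart i E m _ hU V le_rfl _ hφ,
    ← pwAt_iff_locPCoh_of_bpc hV (zeroChart V) hφ₀.surjective (bpc_of_bijective _ hφ₀)
      ((pD i).obj E) m ⟨i x, hxV⟩]
  have e : Kd E (i ⁻¹ᵁ V) hU ((i.app V).hom.comp (zeroChart V)) hsurj ≅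
      Kd ((pD i).obj E) V hV (zeroChart V) hφ₀.surjective :=
    ((pDComp (i ∣_ V) (affImm V (zeroChart V)) (affImm (i ⁻¹ᵁ V) _)
      (affImm_zeroChart i V).symm).app _).symm ≪≫
      (pD (affImm V (zeroChart V))).mapIso ((bcIso i V).app E).symm
  have hpt : affImm (i ⁻¹ᵁ V) ((i.app V).hom.comp (zeroChart V)) ⟨x, hxV⟩ =
      affImm V (zeroChart V) ⟨i x, hxV⟩ := by
    have h0 : (i ∣_ V) ⟨x, hxV⟩ = ⟨i x, hxV⟩ :=
      Subtype.ext (ι_morphismRestrict_apply i V x hxV)
    rw [affImm_zeroChart]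
    change affImm V (zeroChart V) ((i ∣_ V) ⟨x, hxV⟩) = _
    rw [h0]
  unfold PWat
  rw [hpt]
  exact ⟨fun h => h.of_iso e, fun h => h.of_iso e.symm⟩

theorem isPseudoCoherentRel_closedImmersion_iff :
    DerSch.IsPseudoCoherentRel i m E ↔ DCoh.IsPseudoCoherentD m ((pD i).obj E) := by
  rw [isPseudoCoherentRel_iff_forall_relPt, isPseudoCoherentD_iff]
  constructor
  · intro h p
    by_cases hp : p ∈ Set.range i
    · obtain ⟨x, rfl⟩ := hp
      exact (relPt_closedImmersion_iff i E m x).1 (h x)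
    · exact locPCoh_pD_of_notMem_range i E m p hp
  · intro h x
    exact (relPt_closedImmersion_iff i E m x).2 (h (i x))

end ClosedImm

section Main

variable {X P S : Scheme.{u}} (i : X ⟶ P) [IsClosedImmersion i] (g : P ⟶ S) [Flat g]
  [LocallyOfFinitePresentation g] (m : ℤ) (F : CochainComplex X.Modules ℤ)

/-- the class of the termwise direct image is the direct image of the class -/
noncomputable def pushCxIso :
    DCoh.toD P ((DerSch.pushCx i).obj F) ≅ (pD i).obj (DCoh.toD X F) :=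
  ((pushforward i).mapDerivedCategoryFactors.app F).symm

theorem closedImmersion_flat_main :
    (DerSch.IsPseudoCoherentRel (i ≫ g) m (DCoh.toD X F) ↔
        DCoh.IsPseudoCoherentD m (DCoh.toD P ((DerSch.pushCx i).obj F))) ∧
      (DerSch.IsPseudoCoherentRel g m (DCoh.toD P ((DerSch.pushCx i).obj F)) ↔
        DCoh.IsPseudoCoherentD m (DCoh.toD P ((DerSch.pushCx i).obj F))) := by
  have hg : ∀ n : ℤ, DerSch.IsNPseudoCoherent g n := fun n => isNPseudoCoherent_of_flat g n
  constructor
  · rw [← isPseudoCoherentRel_comp_iff i g (DCoh.toD X F) m hg,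
      isPseudoCoherentRel_closedImmersion_iff]
    exact ⟨fun h => isPseudoCoherentD_of_iso (pushCxIso i F).symm h,
      fun h => isPseudoCoherentD_of_iso (pushCxIso i F) h⟩
  · exact (isPseudoCoherentD_iff_isPseudoCoherentRel g hg m _).symm

end Main

end Groth.Agent.Lib.T2H1.RelPCpt
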