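import Groth.Agent.Lib.T2H1RelPCabs

/-!
# Relative pseudo-coherence and composition with a pseudo-coherent morphism (helper1)

* `compChart β γ`: the chart of `f ≫ g` obtained from a chart `γ` of `f` over a chart `β` of `g`.
* `pwAt_compChart_iff`, `relPt_comp_iff`, `isPseudoCoherentRel_comp_iff`.
-/

set_option autoImplicit false
set_option linter.style.haveILetI false
universe u
open CategoryTheory CategoryTheory.Limits AlgebraicGeometry

attribute [local instance] HasDerivedCategory.standard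

namespace Groth.Agent.Lib.T2H1.RelPCpt

open Groth.Agent.Lib.T2H8.PCohTriangle Groth.Agent.Lib.T2H8.PerfLocal
  Groth.Agent.Lib.T2H8.PCohBdd Groth.Agent.Lib.T2H8.PCohBiprod Groth.Agent.Lib.T2H1.ClImmPC
  Groth.Agent.Lib.T2H1.ChartIndep Groth.Agent.Lib.T2H1.ChartPC Groth.Agent.Lib.T2H2.TildeLoc
  Groth.Agent.Lib.Helper1.Restrict Groth.Agent.Lib.Helper1.RelPC
  Groth.Agent.Lib.T2H8.PCohRelBiprod Scheme.Modules DerivedCategory Pretriangulated

section Comp

variable {X Y Z : Scheme.{u}} (f : X ⟶ Y) (g : Y ⟶ Z)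

/-- the composite of a chart of `f` over a chart of `g` -/
noncomputable def compChart {A B C : Type u} [CommRing A] [CommRing B] [CommRing C] {n k : ℕ}
    (β : MvPolynomial (Fin n) A →+* B) (γ : MvPolynomial (Fin k) B →+* C) :
    MvPolynomial (Fin (k + n)) A →+* C :=
  (γ.comp (MvPolynomial.map β)).comp (sumEquiv A n k).toRingEquiv.toRingHom

lemma compChart_surjective {A B C : Type u} [CommRing A] [CommRing B] [CommRing C] {n k : ℕ}
    (β : MvPolynomial (Fin n) A →+* B) (hβ : Function.Surjective β)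
    (γ : MvPolynomial (Fin k) B →+* C) (hγ : Function.Surjective γ) :
    Function.Surjective (compChart β γ) :=
  (hγ.comp (MvPolynomial.map_surjective β hβ)).comp (sumEquiv A n k).surjective

lemma compChart_C {A B C : Type u} [CommRing A] [CommRing B] [CommRing C] {n k : ℕ}
    (β : MvPolynomial (Fin n) A →+* B) (γ : MvPolynomial (Fin k) B →+* C) (a : A) :
    compChart β γ (MvPolynomial.C a) = γ (MvPolynomial.C (β (MvPolynomial.C a))) := by
  have h1 : (sumEquiv A n k) (MvPolynomial.C a) = MvPolynomial.C (MvPolynomial.C a) :=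
    (sumEquiv A n k).commutes a
  change γ (MvPolynomial.map β ((sumEquiv A n k) (MvPolynomial.C a))) = _
  rw [h1, MvPolynomial.map_C]

lemma isChart_compChart {U : X.Opens} {V : Y.Opens} {W : Z.Opens} (hUV : U ≤ f ⁻¹ᵁ V)
    (hVW : V ≤ g ⁻¹ᵁ W) {n k : ℕ} (β : MvPolynomial (Fin n) Γ(Z, W) →+* Γ(Y, V))
    (hβ : DerSch.IsChart g V W hVW β) (γ : MvPolynomial (Fin k) Γ(Y, V) →+* Γ(X, U))
    (hγ : DerSch.IsChart f U V hUV γ) :
    DerSch.IsChart (f ≫ g) U W (hUV.trans (fun _ hy => hVW hy)) (compChart β γ) := by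
  refine ⟨compChart_surjective β hβ.1 γ hγ.1, ?_⟩
  ext a
  rw [RingHom.comp_apply, compChart_C]
  have h1 : β (MvPolynomial.C a) = (g.appLE W V hVW).hom a :=
    congrArg (fun t : Γ(Z, W) →+* Γ(Y, V) => t a) hβ.2
  have h2 : ∀ b, γ (MvPolynomial.C b) = (f.appLE V U hUV).hom b := fun b =>
    congrArg (fun t : Γ(Y, V) →+* Γ(X, U) => t b) hγ.2
  rw [h1, h2]
  have h3 := Scheme.Hom.appLE_comp_appLE f g W V U hVW hUV
  exact congrArg (fun t : Γ(Z, W) ⟶ Γ(X, U) => t.hom a) h3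

variable (E : DCoh.D X) (m : ℤ)

theorem pwAt_compChart_iff (U : X.Opens) (hU : IsAffineOpen U) {A B : Type u} [CommRing A]
    [CommRing B] {n k : ℕ} (β : MvPolynomial (Fin n) A →+* B) (hβ : Function.Surjective β)
    (hB : BPC β) (γ : MvPolynomial (Fin k) B →+* Γ(X, U)) (hγ : Function.Surjective γ) (x : U) :
    PWat E m U hU γ hγ x ↔
      PWat E m U hU (compChart β γ) (compChart_surjective β hβ γ hγ) x := by
  rw [pwAt_comp_iff E m U hU γ hγ (MvPolynomial.map β) (MvPolynomial.map_surjective β hβ)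
      (bpc_map β hB k) x,
    pwAt_comp_iff E m U hU (γ.comp (MvPolynomial.map β))
      (hγ.comp (MvPolynomial.map_surjective β hβ)) (sumEquiv A n k).toRingEquiv.toRingHom
      (sumEquiv A n k).surjective
      (bpc_of_bijective _ (sumEquiv A n k).toRingEquiv.bijective) x]
  rfl

variable [LocallyOfFiniteType f] [LocallyOfFiniteType g]

/-- for `g` pseudo-coherent, pseudo-coherence relative to `f` and to `f ≫ g` agree pointwise -/
theorem relPt_comp_iff (hg : ∀ n : ℤ, DerSch.IsNPseudoCoherent g n) (x : X) :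
    RelPt f E m x ↔ RelPt (f ≫ g) E m x := by
  obtain ⟨_, ⟨W, hW, rfl⟩, hxW, -⟩ :=
    Z.isBasis_affineOpens.exists_subset_of_mem_open
      (show g (f x) ∈ (⊤ : Z.Opens) from trivial) (⊤ : Z.Opens).2
  obtain ⟨_, ⟨V, hV, rfl⟩, hxV, hVW⟩ :=
    Y.isBasis_affineOpens.exists_subset_of_mem_open (show f x ∈ g ⁻¹ᵁ W from hxW) (g ⁻¹ᵁ W).2
  obtain ⟨_, ⟨U, hU, rfl⟩, hxU, hUV⟩ :=
    X.isBasis_affineOpens.exists_subset_of_mem_open (show x ∈ f ⁻¹ᵁ V from hxV) (f ⁻¹ᵁ V).2
  obtain ⟨n, β, hβ⟩ := exists_isChart g hV hW hVW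
  obtain ⟨k, γ, hγ⟩ := exists_isChart f hU hV hUV
  have hB : BPC β := bpc_of_isNPseudoCoherent g hg hV hW hVW β hβ
  have hUW : U ≤ (f ≫ g) ⁻¹ᵁ W := hUV.trans (fun _ hy => hVW hy)
  have hχ : DerSch.IsChart (f ≫ g) U W hUW (compChart β γ) :=
    isChart_compChart f g hUV hVW β hβ γ hγ
  rw [relPt_iff_relAt f E m hU hV hUV x hxU, relAt_iff_of_chart f E m U hU V hUV γ hγ,
    relPt_iff_relAt (f ≫ g) E m hU hW hUW x hxU,
    relAt_iff_of_chart (f ≫ g) E m U hU W hUW (compChart β γ) hχ]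
  exact pwAt_compChart_iff E m U hU β hβ.1 hB γ hγ.1 ⟨x, hxU⟩

theorem isPseudoCoherentRel_comp_iff (hg : ∀ n : ℤ, DerSch.IsNPseudoCoherent g n) :
    DerSch.IsPseudoCoherentRel f m E ↔ DerSch.IsPseudoCoherentRel (f ≫ g) m E := by
  rw [isPseudoCoherentRel_iff_forall_relPt, isPseudoCoherentRel_iff_forall_relPt]
  exact forall_congr' (fun x => relPt_comp_iff f g E m hg x)

end Comp

end Groth.Agent.Lib.T2H1.RelPCpt
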