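import Groth.Agent.Lib.T2H1ClImmPC4
import Groth.Agent.Lib.T2H1RelPCcomp

/-!
# Level-refined descent of relative pseudo-coherence along a composite (helper1)

* `isPC_map_lev`: flat base change to polynomial rings, level by level.
* `hOlev_Spec_map`, `pwAt_of_comp_lev`, `pwAt_of_compChart_lev`.
* `relPt_of_comp_lev`, `isPseudoCoherentRel_of_comp_lev`: if `E ∈ D^{≤ b}(O_X)` is `a`-pseudo-coherent
  relative to `f ≫ g` and `g` is `(a + 1 - b)`-pseudo-coherent, then `E` is `a`-pseudo-coherent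
  relative to `f`.
-/

set_option autoImplicit false
set_option linter.style.haveILetI false
universe u
open CategoryTheory CategoryTheory.Limits AlgebraicGeometry

attribute [local instance] HasDerivedCategory.standard

namespace Groth.Agent.Lib.T2H1.RelPCpt

open Groth.Agent.Lib.T2H8.PCohTriangle Groth.Agent.Lib.T2H8.PerfLocal
  Groth.Agent.Lib.T2H8.PCohBdd Groth.Agent.Lib.T2H8.PCohBiprod Groth.Agent.Lib.T2H1.ClImmPC
  Groth.Agent.Lib.T2H1.ChartIndep Groth.Agent.Lib.T2H1.ChartPC Groth.Agent.Lib.T2H2.TildeLoc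
  Groth.Agent.Lib.Helper1.Restrict Groth.Agent.Lib.Helper1.RelPC Groth.Agent.Lib.Helper1.Extend
  Groth.Agent.Lib.Helper1.PC
  Groth.Agent.Lib.T2H8.PCohRelBiprod Scheme.Modules DerivedCategory Pretriangulated

section RingLev

attribute [local instance] MvPolynomial.algebraMvPolynomial in
/-- flat base change to polynomial rings, level by level -/
lemma isPC_map_lev {P A : Type u} [CommRing P] [CommRing A] (α : P →+* A) (ℓ : ℤ)
    (hα : DRing.IsPseudoCoherent P ℓ ((G α).obj (ModuleCat.of A A))) (k : ℕ) :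
    DRing.IsPseudoCoherent (MvPolynomial (Fin k) P) ℓ
      ((G (MvPolynomial.map α : MvPolynomial (Fin k) P →+* MvPolynomial (Fin k) A)).obj
        (ModuleCat.of (MvPolynomial (Fin k) A) (MvPolynomial (Fin k) A))) := by
  let _ : Algebra P A := α.toAlgebra
  have h1 : DRing.IsPseudoCoherent P ℓ (Dual.inD P A) :=
    isPC_of_iso ((DerivedCategory.singleFunctor (ModuleCat.{u} P) 0).mapIso
      (restrictScalarsAlgebraIso (A := P) (B := A) A)) hα
  have h2 := isPC_extD (A := P) (B := MvPolynomial (Fin k) P) (Dual.inD P A) ℓ h1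
  have h3 := isPC_of_iso (extDInDIso (A := P) (B := MvPolynomial (Fin k) P) A) h2
  have e : TensorProduct P (MvPolynomial (Fin k) P) A ≃ₗ[MvPolynomial (Fin k) P]
      MvPolynomial (Fin k) A :=
    (Algebra.IsPushout.equiv P (MvPolynomial (Fin k) P) A (MvPolynomial (Fin k) A)).toLinearEquiv
  have h4 : DRing.IsPseudoCoherent (MvPolynomial (Fin k) P) ℓ
      (Dual.inD (MvPolynomial (Fin k) P) (MvPolynomial (Fin k) A)) :=
    isPC_of_iso ((DerivedCategory.singleFunctor (ModuleCat.{u} (MvPolynomial (Fin k) P)) 0).mapIso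
      e.toModuleIso) h3
  exact isPC_of_iso ((DerivedCategory.singleFunctor (ModuleCat.{u} (MvPolynomial (Fin k) P)) 0).mapIso
    (restrictScalarsAlgebraIso (A := MvPolynomial (Fin k) P) (B := MvPolynomial (Fin k) A)
      (MvPolynomial (Fin k) A))).symm h4

variable {T₁ T₂ : Type u} [CommRing T₁] [CommRing T₂] (ρ : T₂ →+* T₁)

/-- level version of `hO_Spec_map` -/
lemma hOlev_Spec_map (hρ : Function.Surjective ρ) (ℓ : ℤ)
    (hB : DRing.IsPseudoCoherent T₂ ℓ ((G ρ).obj (ModuleCat.of T₁ T₁))) :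
    haveI : IsClosedImmersion (Spec.map (CommRingCat.ofHom ρ)) :=
      IsClosedImmersion.spec_of_surjective _ hρ
    HOlev (Spec.map (CommRingCat.ofHom ρ)) ℓ := by
  haveI : IsClosedImmersion (Spec.map (CommRingCat.ofHom ρ)) :=
    IsClosedImmersion.spec_of_surjective _ hρ
  have e1 : (pushforward (Spec.map (CommRingCat.ofHom ρ))).obj
      (Coh.structureModule (Spec (CommRingCat.of T₁))) ≅
      (tilde.functor (CommRingCat.of T₂)).obj
        ((ModuleCat.restrictScalars ρ).obj (ModuleCat.of T₁ T₁)) :=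
    (pushforward (Spec.map (CommRingCat.ofHom ρ))).mapIso tildeSelf.symm ≪≫
      (Groth.Agent.Lib.T2H2.TildePush.tildePushIso (CommRingCat.ofHom ρ)).app (ModuleCat.of _ _)
  have e2 := ((tilde.functor (CommRingCat.of T₂)).mapDerivedCategorySingleFunctor 0).app
    ((ModuleCat.restrictScalars ρ).obj (ModuleCat.of T₁ T₁))
  exact isPseudoCoherentD_of_iso
    (e2 ≪≫ (DerivedCategory.singleFunctor _ 0).mapIso e1.symm)
    (isPseudoCoherentD_tildeD_of_isPC T₂ _ ℓ hB)

end RingLev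

section PwLev

variable {X : Scheme.{u}} (E : DCoh.D X)

lemma isZero_HD_Kd (U : X.Opens) (hU : IsAffineOpen U) {R : Type u} [CommRing R]
    (lam : R →+* Γ(X, U)) (hlam : Function.Surjective lam) (j : ℤ) (h : IsZero (DCoh.HD E j)) :
    IsZero (DCoh.HD (Kd E U hU lam hlam) j) := by
  haveI := isClosedImmersion_affImm U hU lam hlam
  have h1 : IsZero (DCoh.HD ((rD U.ι).obj E) j) :=
    IsZero.of_iso ((restrictFunctor U.ι).map_isZero h)
      ((mapDerivedCategoryHomologyIso (restrictFunctor U.ι) j).app E)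
  exact IsZero.of_iso ((pushforward (affImm U lam)).map_isZero h1)
    ((mapDerivedCategoryHomologyIso (pushforward (affImm U lam)) j).app _)

/-- level-refined descent along a change of test ring -/
theorem pwAt_of_comp_lev (U : X.Opens) (hU : IsAffineOpen U) {R R₂ : Type u} [CommRing R]
    [CommRing R₂] (lam : R →+* Γ(X, U)) (hlam : Function.Surjective lam) (ρ : R₂ →+* R)
    (hρ : Function.Surjective ρ) (a b : ℤ)
    (hB : DRing.IsPseudoCoherent R₂ (a + 1 - b) ((G ρ).obj (ModuleCat.of R R)))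
    (hvan : ∀ j : ℤ, b < j → IsZero (DCoh.HD E j)) (x : U)
    (h : PWat E a U hU (lam.comp ρ) (hlam.comp hρ) x) : PWat E a U hU lam hlam x := by
  haveI := isClosedImmersion_affImm U hU lam hlam
  haveI := isClosedImmersion_affImm U hU (lam.comp ρ) (hlam.comp hρ)
  haveI : IsClosedImmersion (Spec.map (CommRingCat.ofHom ρ)) :=
    IsClosedImmersion.spec_of_surjective _ hρ
  have e : (pD (Spec.map (CommRingCat.ofHom ρ))).obj (Kd E U hU lam hlam) ≅
      Kd E U hU (lam.comp ρ) (hlam.comp hρ) :=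
    (pDComp (affImm U lam) (Spec.map (CommRingCat.ofHom ρ)) (affImm U (lam.comp ρ))
      (affImm_comp U lam ρ)).app _
  have hpt : Spec.map (CommRingCat.ofHom ρ) (affImm U lam x) = affImm U (lam.comp ρ) x := by
    rw [← affImm_comp U lam ρ]
    rfl
  have h' : LocPCoh a ((pD (Spec.map (CommRingCat.ofHom ρ))).obj (Kd E U hU lam hlam))
      (Spec.map (CommRingCat.ofHom ρ) (affImm U lam x)) := by
    rw [hpt]
    exact LocPCoh.of_iso e.symm h
  exact locPCoh_of_pD_lev (Spec.map (CommRingCat.ofHom ρ)) (Kd E U hU lam hlam) a b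
    (hOlev_Spec_map ρ hρ (a + 1 - b) hB)
    (fun j hj => isZero_HD_Kd E U hU lam hlam j (hvan j hj)) _ h'

theorem pwAt_of_compChart_lev (U : X.Opens) (hU : IsAffineOpen U) {A B : Type u} [CommRing A]
    [CommRing B] {n k : ℕ} (β : MvPolynomial (Fin n) A →+* B) (hβ : Function.Surjective β)
    (a b : ℤ) (hB : DRing.IsPseudoCoherent (MvPolynomial (Fin n) A) (a + 1 - b)
      ((G β).obj (ModuleCat.of B B)))
    (γ : MvPolynomial (Fin k) B →+* Γ(X, U)) (hγ : Function.Surjective γ)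
    (hvan : ∀ j : ℤ, b < j → IsZero (DCoh.HD E j)) (x : U)
    (h : PWat E a U hU (compChart β γ) (compChart_surjective β hβ γ hγ) x) :
    PWat E a U hU γ hγ x := by
  have h1 : PWat E a U hU (γ.comp (MvPolynomial.map β))
      (hγ.comp (MvPolynomial.map_surjective β hβ)) x :=
    (pwAt_comp_iff E a U hU (γ.comp (MvPolynomial.map β))
      (hγ.comp (MvPolynomial.map_surjective β hβ)) (sumEquiv A n k).toRingEquiv.toRingHom
      (sumEquiv A n k).surjective
      (bpc_of_bijective _ (sumEquiv A n k).toRingEquiv.bijective) x).2 h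
  exact pwAt_of_comp_lev E U hU γ hγ (MvPolynomial.map β) (MvPolynomial.map_surjective β hβ) a b
    (isPC_map_lev β (a + 1 - b) hB k) hvan x h1

end PwLev

section RelLev

variable {X Y Z : Scheme.{u}} (f : X ⟶ Y) (g : Y ⟶ Z) [LocallyOfFiniteType f]
  [LocallyOfFiniteType g] (E : DCoh.D X)

theorem relPt_of_comp_lev (a b : ℤ) (hvan : ∀ j : ℤ, b < j → IsZero (DCoh.HD E j))
    (hg : DerSch.IsNPseudoCoherent g (a + 1 - b)) (x : X) (h : RelPt (f ≫ g) E a x) :
    RelPt f E a x := by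
  obtain ⟨_, ⟨W, hW, rfl⟩, hxW, -⟩ :=
    Z.isBasis_affineOpens.exists_subset_of_mem_open
      (show g (f x) ∈ (⊤ : Z.Opens) from trivial) (⊤ : Z.Opens).2
  obtain ⟨_, ⟨V, hV, rfl⟩, hxV, hVW⟩ :=
    Y.isBasis_affineOpens.exists_subset_of_mem_open (show f x ∈ g ⁻¹ᵁ W from hxW) (g ⁻¹ᵁ W).2
  obtain ⟨_, ⟨U, hU, rfl⟩, hxU, hUV⟩ :=
    X.isBasis_affineOpens.exists_subset_of_mem_open (show x ∈ f ⁻¹ᵁ V from hxV) (f ⁻¹ᵁ V).2
  obtain ⟨n, β, hβ⟩ := exists_isChart g hV hW hVW
  obtain ⟨k, γ, hγ⟩ := exists_isChart f hU hV hUV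
  have hB : DRing.IsPseudoCoherent (MvPolynomial (Fin n) Γ(Z, W)) (a + 1 - b)
      ((G β).obj (ModuleCat.of Γ(Y, V) Γ(Y, V))) := by
    have h1 : DerSch.ChartPC (a + 1 - b) (DCoh.toD Y (DerSch.unitCx Y)) V W β :=
      (chartPC_iff_forall_relPt g _ _ hV hW hVW β hβ).2
        (fun y _ => (isPseudoCoherentRel_iff_forall_relPt g _ _).1 hg y)
    exact (chartPC_unit_iff V hV W β hβ.1 _).1 h1
  have hUW : U ≤ (f ≫ g) ⁻¹ᵁ W := hUV.trans (fun _ hy => hVW hy)
  have hχ : DerSch.IsChart (f ≫ g) U W hUW (compChart β γ) :=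
    isChart_compChart f g hUV hVW β hβ γ hγ
  rw [relPt_iff_relAt (f ≫ g) E a hU hW hUW x hxU,
    relAt_iff_of_chart (f ≫ g) E a U hU W hUW (compChart β γ) hχ] at h
  rw [relPt_iff_relAt f E a hU hV hUV x hxU, relAt_iff_of_chart f E a U hU V hUV γ hγ]
  exact pwAt_of_compChart_lev E U hU β hβ.1 a b hB γ hγ.1 hvan ⟨x, hxU⟩ h

theorem isPseudoCoherentRel_of_comp_lev (a b : ℤ) [E.IsLE b]
    (hE : DerSch.IsPseudoCoherentRel (f ≫ g) a E)
    (hg : DerSch.IsNPseudoCoherent g (a + 1 - b)) : DerSch.IsPseudoCoherentRel f a E := by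
  rw [isPseudoCoherentRel_iff_forall_relPt] at hE ⊢
  exact fun x => relPt_of_comp_lev f g E a b
    (fun j hj => DerivedCategory.isZero_of_isLE E b j hj) hg x (hE x)

end RelLev

end Groth.Agent.Lib.T2H1.RelPCpt
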