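import Groth.Agent.Lib.T2H1RelPCpt

/-!
# Relative pseudo-coherence is local on the source (helper1)

* `pwAt_image_iff`: transport of the pointwise chart test between an open `W` of an open subscheme
  `U₀` and its image `U₀.ι ''ᵁ W` in `X`.
* `relPt_restrict_iff`: `RelPt (U₀.ι ≫ f) (E|_{U₀}) m x ↔ RelPt f E m (U₀.ι x)`.
* `isPseudoCoherentRel_restrictCx`, `isPseudoCoherentRel_of_iSup_eq_top`.
-/

set_option autoImplicit false
set_option linter.style.haveILetI false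
universe u
open CategoryTheory CategoryTheory.Limits AlgebraicGeometry

attribute [local instance] HasDerivedCategory.standard

namespace Groth.Agent.Lib.T2H1.RelPCpt

open Groth.Agent.Lib.T2H8.PCohTriangle Groth.Agent.Lib.T2H8.PerfLocal
  Groth.Agent.Lib.T2H8.PCohBdd Groth.Agent.Lib.T2H1.ClImmPC Groth.Agent.Lib.T2H1.ChartIndep
  Groth.Agent.Lib.Helper1.Restrict Groth.Agent.Lib.Helper1.RelPC
  Groth.Agent.Lib.T2H8.PCohRelBiprod Scheme.Modules DerivedCategory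

section Transport

variable {X : Scheme.{u}} (U₀ : X.Opens) (W : U₀.toScheme.Opens)

/-- the canonical morphism `W ⟶ U₀.ι ''ᵁ W` for an open `W` of the open subscheme `U₀` -/
noncomputable def imgHom : (W : Scheme.{u}) ⟶ ((U₀.ι ''ᵁ W : X.Opens) : Scheme.{u}) :=
  U₀.ι.resLE (U₀.ι ''ᵁ W) W (U₀.ι.preimage_image_eq W).ge

lemma imgHom_ι : imgHom U₀ W ≫ (U₀.ι ''ᵁ W).ι = W.ι ≫ U₀.ι :=
  Scheme.Hom.resLE_comp_ι _ _

instance : IsOpenImmersion (imgHom U₀ W) := by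
  haveI : IsOpenImmersion (imgHom U₀ W ≫ (U₀.ι ''ᵁ W).ι) := by
    rw [imgHom_ι]
    infer_instance
  exact IsOpenImmersion.of_comp _ (U₀.ι ''ᵁ W).ι

lemma coe_imgHom_apply (x : W) : (imgHom U₀ W x).1 = U₀.ι x.1 :=
  Scheme.Hom.coe_resLE_apply _ _ _

lemma imgHom_surjective : Function.Surjective (imgHom U₀ W) := by
  rintro ⟨y, w, hw, rfl⟩
  exact ⟨⟨w, hw⟩, Subtype.ext (coe_imgHom_apply U₀ W ⟨w, hw⟩)⟩

/-- the canonical ring isomorphism `Γ(X, U₀.ι ''ᵁ W) → Γ(U₀, W)` -/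
noncomputable def imgRing : Γ(X, U₀.ι ''ᵁ W) →+* Γ(U₀.toScheme, W) :=
  (U₀.ι.appLE (U₀.ι ''ᵁ W) W (U₀.ι.preimage_image_eq W).ge).hom

lemma imgRing_bijective : Function.Bijective (imgRing U₀ W) := by
  have : IsIso (U₀.ι.appLE (U₀.ι ''ᵁ W) W (U₀.ι.preimage_image_eq W).ge) := by
    rw [← Scheme.Hom.appIso_hom']
    infer_instance
  exact ConcreteCategory.bijective_of_isIso
    (U₀.ι.appLE (U₀.ι ''ᵁ W) W (U₀.ι.preimage_image_eq W).ge)

lemma affImm_imgRing {R : Type u} [CommRing R] (lam : R →+* Γ(X, U₀.ι ''ᵁ W)) :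
    affImm W ((imgRing U₀ W).comp lam) = imgHom U₀ W ≫ affImm (U₀.ι ''ᵁ W) lam := by
  unfold affImm imgHom
  rw [← Scheme.Opens.toSpecΓ_SpecMap_appLE_assoc, ← Spec.map_comp]
  rfl

variable (E : DCoh.D X) (m : ℤ)

/-- transport of the pointwise test between an open `W` of the open subscheme `U₀` and its image
in `X` -/
theorem pwAt_image_iff (hW : IsAffineOpen W) (hW' : IsAffineOpen (U₀.ι ''ᵁ W)) {R : Type u}
    [CommRing R] (lam : R →+* Γ(X, U₀.ι ''ᵁ W)) (hlam : Function.Surjective lam) (x : W) :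
    PWat ((rD U₀.ι).obj E) m W hW ((imgRing U₀ W).comp lam)
        ((imgRing_bijective U₀ W).surjective.comp hlam) x ↔
      PWat E m (U₀.ι ''ᵁ W) hW' lam hlam (imgHom U₀ W x) := by
  haveI := isClosedImmersion_affImm (U₀.ι ''ᵁ W) hW' lam hlam
  haveI := isClosedImmersion_affImm W hW ((imgRing U₀ W).comp lam)
    ((imgRing_bijective U₀ W).surjective.comp hlam)
  have comm : affImm W ((imgRing U₀ W).comp lam) ≫ 𝟙 _ =
      imgHom U₀ W ≫ affImm (U₀.ι ''ᵁ W) lam := by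
    rw [Category.comp_id, affImm_imgRing]
  have cart : Set.range (imgHom U₀ W) =
      affImm (U₀.ι ''ᵁ W) lam ⁻¹' Set.range (𝟙 (Spec (CommRingCat.of R)) : _ ⟶ _) := by
    rw [(imgHom_surjective U₀ W).range_eq]
    ext y
    simp only [Set.mem_univ, Set.mem_preimage, true_iff]
    exact ⟨_, rfl⟩
  have key := locPCoh_pD_bc_iff (affImm (U₀.ι ''ᵁ W) lam) (𝟙 _) (imgHom U₀ W)
    (affImm W ((imgRing U₀ W).comp lam)) comm cart ((rD (U₀.ι ''ᵁ W).ι).obj E) m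
    (affImm W ((imgRing U₀ W).comp lam) x)
  have hpt : (𝟙 (Spec (CommRingCat.of R)) : _ ⟶ _) (affImm W ((imgRing U₀ W).comp lam) x) =
      affImm (U₀.ι ''ᵁ W) lam (imgHom U₀ W x) := by
    rw [affImm_imgRing]
    rfl
  rw [hpt] at key
  have e : (rD (imgHom U₀ W)).obj ((rD (U₀.ι ''ᵁ W).ι).obj E) ≅
      (rD W.ι).obj ((rD U₀.ι).obj E) :=
    (rDComp (imgHom U₀ W) (U₀.ι ''ᵁ W).ι (W.ι ≫ U₀.ι) (imgHom_ι U₀ W)).app E ≪≫
      ((rDComp W.ι U₀.ι (W.ι ≫ U₀.ι) rfl).app E).symm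
  have e' := (pD (affImm W ((imgRing U₀ W).comp lam))).mapIso e
  unfold PWat
  rw [show Kd E (U₀.ι ''ᵁ W) hW' lam hlam =
    (pD (affImm (U₀.ι ''ᵁ W) lam)).obj ((rD (U₀.ι ''ᵁ W).ι).obj E) from rfl, key]
  exact ⟨fun h => h.of_iso e'.symm, fun h => h.of_iso e'⟩

end Transport


section Restrict

variable {X S : Scheme.{u}} (f : X ⟶ S) (m : ℤ)

lemma pwAt_of_iso {E E' : DCoh.D X} (e : E ≅ E') (U : X.Opens) (hU : IsAffineOpen U)
    {R : Type u} [CommRing R] (lam : R →+* Γ(X, U)) (hlam : Function.Surjective lam) (x : U) :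
    PWat E m U hU lam hlam x ↔ PWat E' m U hU lam hlam x := by
  haveI := isClosedImmersion_affImm U hU lam hlam
  have e' : Kd E U hU lam hlam ≅ Kd E' U hU lam hlam :=
    (pD (affImm U lam)).mapIso ((rD U.ι).mapIso e)
  exact ⟨fun h => h.of_iso e', fun h => h.of_iso e'.symm⟩

lemma relPt_of_iso {E E' : DCoh.D X} (e : E ≅ E') (x : X) :
    RelPt f E m x ↔ RelPt f E' m x := by
  constructor
  · rintro ⟨U, hU, V, hV, h, hx, n, φ, hφ, hP⟩
    exact ⟨U, hU, V, hV, h, hx, n, φ, hφ, (pwAt_of_iso m e U hU φ hφ.1 _).1 hP⟩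
  · rintro ⟨U, hU, V, hV, h, hx, n, φ, hφ, hP⟩
    exact ⟨U, hU, V, hV, h, hx, n, φ, hφ, (pwAt_of_iso m e U hU φ hφ.1 _).2 hP⟩

variable [LocallyOfFiniteType f] (E : DCoh.D X)

/-- relative pseudo-coherence at a point of an open subscheme can be tested on the ambient
scheme -/
theorem relPt_restrict_iff (U₀ : X.Opens) (x : U₀) :
    RelPt (U₀.ι ≫ f) ((rD U₀.ι).obj E) m x ↔ RelPt f E m (U₀.ι x) := by
  obtain ⟨_, ⟨V, hV, rfl⟩, hxV, -⟩ :=
    S.isBasis_affineOpens.exists_subset_of_mem_open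
      (show f (U₀.ι x) ∈ (⊤ : S.Opens) from trivial) (⊤ : S.Opens).2
  obtain ⟨_, ⟨W, hW, rfl⟩, hxW, hWV⟩ :=
    (U₀ : Scheme.{u}).isBasis_affineOpens.exists_subset_of_mem_open
      (show x ∈ (U₀.ι ≫ f) ⁻¹ᵁ V from hxV) ((U₀.ι ≫ f) ⁻¹ᵁ V).2
  have hW' : IsAffineOpen (U₀.ι ''ᵁ W) := hW.image_of_isOpenImmersion U₀.ι
  have hWV' : U₀.ι ''ᵁ W ≤ f ⁻¹ᵁ V := by
    rintro _ ⟨w, hw, rfl⟩
    exact hWV hw
  have hxW' : U₀.ι x ∈ U₀.ι ''ᵁ W := ⟨x, hxW, rfl⟩
  obtain ⟨n, φ, hφ⟩ := exists_isChart f hW' hV hWV'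
  have hφ' : DerSch.IsChart (U₀.ι ≫ f) W V hWV ((imgRing U₀ W).comp φ) := by
    refine ⟨(imgRing_bijective U₀ W).surjective.comp hφ.1, ?_⟩
    rw [RingHom.comp_assoc, hφ.2]
    have := Scheme.Hom.appLE_comp_appLE U₀.ι f V (U₀.ι ''ᵁ W) W hWV'
      (U₀.ι.preimage_image_eq W).ge
    exact congrArg CommRingCat.Hom.hom this
  rw [relPt_iff_relAt (U₀.ι ≫ f) _ m hW hV hWV x hxW,
    relAt_iff_of_chart (U₀.ι ≫ f) _ m W hW V hWV _ hφ',
    relPt_iff_relAt f E m hW' hV hWV' _ hxW', relAt_iff_of_chart f E m _ hW' V hWV' φ hφ,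
    pwAt_image_iff U₀ W E m hW hW' φ hφ.1 ⟨x, hxW⟩]
  have : imgHom U₀ W ⟨x, hxW⟩ = ⟨U₀.ι x, hxW'⟩ := Subtype.ext (coe_imgHom_apply U₀ W ⟨x, hxW⟩)
  rw [this]

end Restrict


section Local

variable {X Y : Scheme.{u}} (f : X ⟶ Y) (n : ℤ)

/-- the class of the termwise restriction is the restriction of the class -/
noncomputable def restrictCxIso (U : X.Opens) (E : CochainComplex X.Modules ℤ) :
    DCoh.toD (U : Scheme.{u}) ((DCoh.restrictCx U).obj E) ≅ (rD U.ι).obj (DCoh.toD X E) :=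
  ((restrictFunctor U.ι).mapDerivedCategoryFactors.app E).symm

theorem relPt_restrictCx_iff [LocallyOfFiniteType f] (E : CochainComplex X.Modules ℤ)
    (U : X.Opens) (x : U) :
    RelPt (U.ι ≫ f) (DCoh.toD (U : Scheme.{u}) ((DCoh.restrictCx U).obj E)) n x ↔
      RelPt f (DCoh.toD X E) n (U.ι x) := by
  rw [relPt_of_iso (U.ι ≫ f) n (restrictCxIso U E), relPt_restrict_iff]

/-- relative pseudo-coherence restricts to opens of the source -/
theorem isPseudoCoherentRel_restrictCx (E : CochainComplex X.Modules ℤ)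
    (hE : DerSch.IsPseudoCoherentRel f n (DCoh.toD X E)) (U : X.Opens) :
    DerSch.IsPseudoCoherentRel (U.ι ≫ f) n
      (DCoh.toD (U : Scheme.{u}) ((DCoh.restrictCx U).obj E)) := by
  haveI : LocallyOfFiniteType f := hE.1
  rw [isPseudoCoherentRel_iff_forall_relPt] at hE ⊢
  intro x
  rw [relPt_restrictCx_iff]
  exact hE _

/-- relative pseudo-coherence is local on the source -/
theorem isPseudoCoherentRel_of_iSup_eq_top [LocallyOfFiniteType f]
    (E : CochainComplex X.Modules ℤ) {ι : Type u} (U : ι → X.Opens) (hU : ⨆ i, U i = ⊤)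
    (h : ∀ i : ι, DerSch.IsPseudoCoherentRel ((U i).ι ≫ f) n
      (DCoh.toD (U i : Scheme.{u}) ((DCoh.restrictCx (U i)).obj E))) :
    DerSch.IsPseudoCoherentRel f n (DCoh.toD X E) := by
  rw [isPseudoCoherentRel_iff_forall_relPt]
  intro x
  have hx : x ∈ (⨆ i, U i) := hU ▸ (show x ∈ (⊤ : X.Opens) from trivial)
  obtain ⟨i, hxi⟩ := TopologicalSpace.Opens.mem_iSup.1 hx
  have hi := h i
  rw [isPseudoCoherentRel_iff_forall_relPt] at hi
  exact (relPt_restrictCx_iff f n E (U i) ⟨x, hxi⟩).1 (hi ⟨x, hxi⟩)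

end Local

end Groth.Agent.Lib.T2H1.RelPCpt
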