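import Groth.Agent.Lib.T2H1RelPCmod
import Groth.Agent.Lib.T2H5UnitsShD
import Groth.Agent.Lib.Helper2RelFPGeo

/-!
# A single module: the three cases `m > 0`, `m = 0`, `m = -1` of relative pseudo-coherence (helper1)

* `isFT_pushforward`: the direct image along a closed immersion preserves finite type.
* `isFT_restrict`, `isFT_of_forall_restrict`: finite type is local, without quasi-coherence.
* `isPseudoCoherentRel_inD_of_pos`, `isPseudoCoherentRel_zero_inD_iff`,
  `isPseudoCoherentRel_neg_one_inD_iff`.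
-/

set_option autoImplicit false
set_option linter.style.haveILetI false
universe u
open CategoryTheory CategoryTheory.Limits AlgebraicGeometry Opposite TopologicalSpace

namespace Groth.Agent.Lib.T2H1.RelPCmod

open Scheme.Modules

section PushFT

open Groth.Agent.Lib.Helper23.FinType Groth.Agent.Lib.Helper2.LocFree Groth.Agent.Lib.T2H8.PCohFT
  Groth.Agent.Lib.T2H1.ClImmPC Groth.Agent.Lib.T2H1.RestrictPush

variable {Z P : Scheme.{u}} (i : Z ⟶ P) [IsClosedImmersion i]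

/-- the direct image along a closed immersion preserves finite type -/
theorem isFT_pushforward (N : Z.Modules) (h : CohB1.IsFT N) :
    CohB1.IsFT ((pushforward i).obj N) := by
  apply isFT_of_epi_locFree
  intro x
  by_cases hx : x ∈ Set.range i
  · obtain ⟨z, rfl⟩ := hx
    haveI : SheafOfModules.IsFiniteType (R := Z.ringCatSheaf) N := h
    obtain ⟨ι, W, 𝒢, h𝒢, hW, -⟩ := exists_isOpenCover_generatingSections N
    have hz : z ∈ (⨆ k, W k : Z.Opens) := by rw [hW.iSup_eq_top]; trivial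
    obtain ⟨k₀, hzk⟩ := Opens.mem_iSup.1 hz
    haveI := (h𝒢 k₀).finite
    obtain ⟨V, hzV, hV⟩ := exists_opens_preimage_subset i (W k₀).ι ⟨z, hzk⟩
    have hle : i ⁻¹ᵁ V ≤ W k₀ := by
      intro y hy
      have := hV hy
      rwa [Scheme.Opens.range_ι] at this
    let 𝒢' := generatingSectionsOfComp N (Z.homOfLE hle) (W k₀).ι (i ⁻¹ᵁ V).ι (by simp) (𝒢 k₀)
    haveI : Finite 𝒢'.I := (h𝒢 k₀).finite
    let n := Nat.card 𝒢'.I
    let eI : 𝒢'.I ≃ Fin n := Finite.equivFin _
    let eF : SheafOfModules.free (R := ((i ⁻¹ᵁ V : Z.Opens) : Scheme.{u}).ringCatSheaf) 𝒢'.I ≅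
        FlatMod.freeMod (i ⁻¹ᵁ V : Z.Opens) n :=
      Sigma.whiskerEquiv
        (f := fun _ : 𝒢'.I => SheafOfModules.unit ((i ⁻¹ᵁ V : Z.Opens) : Scheme.{u}).ringCatSheaf)
        (g := fun _ : Fin n => Coh.structureModule (i ⁻¹ᵁ V : Z.Opens)) eI (fun _ => Iso.refl _)
    let g : FlatMod.freeMod (i ⁻¹ᵁ V : Z.Opens) n ⟶ N.restrict (i ⁻¹ᵁ V).ι := eF.inv ≫ 𝒢'.π
    haveI : Epi g := by
      have h1 : Epi 𝒢'.π := 𝒢'.epi
      exact @epi_comp _ _ _ _ _ _ inferInstance _ h1
    haveI := Groth.Agent.Lib.T2H5.UnitsShD.epi_unitToPush (i ∣_ V)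
    let ψ₁ : FlatMod.freeMod V n ⟶ (pushforward (i ∣_ V)).obj (FlatMod.freeMod (i ⁻¹ᵁ V : Z.Opens) n) :=
      Limits.Sigma.map (fun _ : Fin n => ClSub.unitToPush (i ∣_ V)) ≫
        (PreservesCoproduct.iso (pushforward (i ∣_ V))
          (fun _ : Fin n => Coh.structureModule (i ⁻¹ᵁ V : Z.Opens))).inv
    haveI : Epi ψ₁ := epi_comp _ _
    haveI : Epi ((pushforward (i ∣_ V)).map g) := inferInstance
    let π : FlatMod.freeMod V n ⟶ ((pushforward i).obj N).restrict V.ι :=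
      ψ₁ ≫ (pushforward (i ∣_ V)).map g ≫ ((pushRestrictIso i V).app N).inv
    haveI : Epi π := epi_comp _ _
    refine ⟨V, V.ι, inferInstance, ⟨i z, hzV⟩, rfl, FlatMod.freeMod V n, π, ?_, inferInstance⟩
    exact isFinLocFree_of_iso_freeMod _ (Iso.refl _)
  · let V : P.Opens := ⟨(Set.range i)ᶜ, i.isClosedEmbedding.isClosed_range.isOpen_compl⟩
    haveI : IsEmpty (i ⁻¹ᵁ V : Z.Opens) := ⟨fun y => y.2 ⟨y.1, rfl⟩⟩
    have hz : IsZero (((pushforward i).obj N).restrict V.ι) :=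
      IsZero.of_iso ((pushforward (i ∣_ V)).map_isZero (isZero_of_isEmpty' _))
        ((pushRestrictIso i V).app N)
    refine ⟨V, V.ι, inferInstance, ⟨x, hx⟩, rfl, FlatMod.freeMod V 0, 0, ?_, hz.epi _⟩
    exact isFinLocFree_of_iso_freeMod _ (Iso.refl _)

end PushFT

section LocalFT

open Groth.Agent.Lib.T2H8.PCohTriangle Groth.Agent.Lib.T2H8.PerfLocal
  Groth.Agent.Lib.T2H1.ClImmPC Groth.Agent.Lib.T2H8.PCohRelBiprod

attribute [local instance] HasDerivedCategory.standard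

variable {X : Scheme.{u}}

/-- finite type restricts to opens (no quasi-coherence needed) -/
theorem isFT_restrict (M : X.Modules) (h : CohB1.IsFT M) (U : X.Opens) :
    CohB1.IsFT ((restrictFunctor U.ι).obj M) := by
  rw [← (Groth.Agent.S6518.result _).1] at h ⊢
  exact isPseudoCoherentD_of_iso
    (((restrictFunctor U.ι).mapDerivedCategorySingleFunctor 0).app M)
    (Groth.Agent.Lib.T2H2.AffRed.isPseudoCoherentD_rD U.ι 0 _ h)

/-- finite type is local (no quasi-coherence needed) -/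
theorem isFT_of_forall_restrict (M : X.Modules)
    (h : ∀ x : X, ∃ U : X.Opens, x ∈ U ∧ CohB1.IsFT ((restrictFunctor U.ι).obj M)) :
    CohB1.IsFT M := by
  rw [← (Groth.Agent.S6518.result _).1, isPseudoCoherentD_iff]
  intro x
  obtain ⟨U, hxU, hU⟩ := h x
  rw [← (Groth.Agent.S6518.result _).1] at hU
  have h1 : DCoh.IsPseudoCoherentD 0 ((rD U.ι).obj (DCoh.inD X M)) :=
    isPseudoCoherentD_of_iso
      (((restrictFunctor U.ι).mapDerivedCategorySingleFunctor 0).app M).symm hU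
  exact locPCoh_of_rD U.ι 0 _ ⟨x, hxU⟩ ((isPseudoCoherentD_iff 0 _).1 h1 _)

end LocalFT

section Main

open Groth.Agent.Lib.T2H1.RelPCpt Groth.Agent.Lib.T2H1.ClImmPC

attribute [local instance] HasDerivedCategory.standard

variable {X S : Scheme.{u}} (f : X ⟶ S) [LocallyOfFiniteType f] (M : X.Modules)

theorem isPseudoCoherentRel_inD_of_pos (m : ℤ) (hm : 0 < m) :
    DerSch.IsPseudoCoherentRel f m (DCoh.inD X M) := by
  rw [isPseudoCoherentRel_iff_forall_relPt]
  intro x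
  refine relPt_of_isZero_homology f m _ (fun i hi => ?_) x
  exact DerivedCategory.isZero_of_isLE _ 0 i (by omega)

theorem isPseudoCoherentRel_zero_inD_iff :
    DerSch.IsPseudoCoherentRel f 0 (DCoh.inD X M) ↔ CohB1.IsFT M := by
  rw [isPseudoCoherentRel_iff_forall_affine]
  constructor
  · intro h
    refine isFT_of_forall_restrict M fun x => ?_
    obtain ⟨_, ⟨V, hV, rfl⟩, hxV, -⟩ :=
      S.isBasis_affineOpens.exists_subset_of_mem_open (Set.mem_univ (f x)) isOpen_univ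
    obtain ⟨_, ⟨U, hU, rfl⟩, hxU, hUV⟩ :=
      X.isBasis_affineOpens.exists_subset_of_mem_open
        (show x ∈ ((f ⁻¹ᵁ V : X.Opens) : Set X) from hxV) (f ⁻¹ᵁ V).isOpen
    obtain ⟨n, φ, hφ, hPC⟩ := h ⟨U, hU⟩ ⟨V, hV⟩ hUV
    haveI := isClosedImmersion_affImm U hU φ hφ.1
    exact ⟨U, hxU, isFT_of_isFT_pushforward (affImm U φ) _
      ((chartPC_zero_inD_iff_isFT U hU M V φ hφ.1).1 hPC)⟩
  · intro h U V hUV
    obtain ⟨n, φ, hφ⟩ := exists_isChart f U.2 V.2 hUV
    haveI := isClosedImmersion_affImm (U : X.Opens) U.2 φ hφ.1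
    exact ⟨n, φ, hφ, (chartPC_zero_inD_iff_isFT _ U.2 M _ φ hφ.1).2
      (isFT_pushforward (affImm (U : X.Opens) φ) _ (isFT_restrict M h U))⟩

theorem isPseudoCoherentRel_neg_one_inD_iff :
    DerSch.IsPseudoCoherentRel f (-1) (DCoh.inD X M) ↔ (Coh.IsQCoh M ∧ Flatn.IsRelFP f M) := by
  constructor
  · intro h
    haveI hq : M.IsQuasicoherent := isQuasicoherent_of_isPseudoCoherentRel f M h
    refine ⟨hq, Groth.Agent.Lib.Helper2.RelFPGeo.isRelFP_of_forall f M fun U V hUV => ?_⟩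
    rw [isPseudoCoherentRel_iff_forall_affine] at h
    obtain ⟨n, φ, hφ, hPC⟩ := h U V hUV
    have hfp := finitePresentation_sections M U.2 φ hφ.1 hPC
    letI := (f.appLE (V : S.Opens) (U : X.Opens) hUV).hom.toAlgebra
    let φ' : MvPolynomial (Fin n) Γ(S, (V : S.Opens)) →ₐ[Γ(S, (V : S.Opens))] Γ(X, (U : X.Opens)) :=
      { φ with
        commutes' := fun a => by
          have := congrArg (fun ψ => ψ a) hφ.2
          exact this }
    exact ⟨n, φ', hφ.1, hfp⟩
  · rintro ⟨hq, hfp⟩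
    haveI : M.IsQuasicoherent := hq
    rw [isPseudoCoherentRel_iff_forall_affine]
    intro U V hUV
    obtain ⟨n, φ', hsurj, hfin⟩ :=
      Groth.Agent.Lib.Helper2.RelFPGeo.relFPOn_of_isRelFP f M hfp U V hUV
    letI := (f.appLE (V : S.Opens) (U : X.Opens) hUV).hom.toAlgebra
    have hφ : DerSch.IsChart f (U : X.Opens) (V : S.Opens) hUV
        (φ' : MvPolynomial (Fin n) Γ(S, (V : S.Opens)) →+* Γ(X, (U : X.Opens))) := by
      refine ⟨hsurj, ?_⟩
      ext a
      exact φ'.commutes a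
    refine ⟨n, _, hφ, (chartPC_inD_iff_isPCModule _ U.2 M (-1) _ _ hsurj).2 ?_⟩
    letI : Module (MvPolynomial (Fin n) Γ(S, (V : S.Opens))) Γ(M, (U : X.Opens)) :=
      Module.compHom _ (φ' : MvPolynomial (Fin n) Γ(S, (V : S.Opens)) →+* Γ(X, (U : X.Opens)))
    exact (Groth.Agent.S6935.result (MvPolynomial (Fin n) Γ(S, (V : S.Opens)))
      Γ(M, (U : X.Opens))).2.2 hfin

end Main

end Groth.Agent.Lib.T2H1.RelPCmod
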