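import Mathlib
import Groth.Prelude.Def_ClSub2
import Groth.Agent.Lib.Helper2Push
import Groth.Agent.Lib.Helper23FinType2

/-!
# T2H5AnnIdeal: the annihilator ideal sheaf of a quasi-coherent module of finite type (helper5)

* `map_annihilator_eq`: annihilators of finite modules commute with localization away from an element;
* `annIdeal F`: the ideal sheaf `U ↦ Ann Γ(F, U)`;
* `killedBy_annIdeal`, `support_annIdeal`: `F` is killed by it and its support is the support of `F`.
-/

set_option autoImplicit false
set_option linter.style.haveILetI false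
set_option linter.unusedSectionVars false
universe u
open CategoryTheory CategoryTheory.Limits Opposite TopologicalSpace AlgebraicGeometry

namespace Groth.Agent.Lib.T2H5.AnnIdeal

section Alg

/-- annihilators of finite modules commute with localization away from an element (semilinear form) -/
theorem map_annihilator_eq {A A' M M' : Type*} [CommRing A] [CommRing A'] [AddCommGroup M] [Module A M]
    [AddCommGroup M'] [Module A' M'] [Module.Finite A M] (ρ : A →+* A') (f : A) (hf : IsUnit (ρ f))
    (hρ : ∀ a' : A', ∃ (n : ℕ) (a : A), a' * ρ f ^ n = ρ a)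
    (r : M →+ M') (hr : ∀ (a : A) (m : M), r (a • m) = ρ a • r m)
    (hsurj : ∀ m' : M', ∃ (n : ℕ) (m : M), r m = ρ f ^ n • m')
    (hker : ∀ m : M, r m = 0 → ∃ n : ℕ, f ^ n • m = 0) :
    (Module.annihilator A M).map ρ = Module.annihilator A' M' := by
  classical
  apply le_antisymm
  · rw [Ideal.map_le_iff_le_comap]
    intro a ha
    rw [Ideal.mem_comap, Module.mem_annihilator]
    intro m'
    obtain ⟨n, m, hm⟩ := hsurj m'
    have h1 : ρ f ^ n • (ρ a • m') = 0 := by
      rw [smul_comm, ← hm, ← hr, Module.mem_annihilator.1 ha m, map_zero]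
    exact (IsUnit.smul_left_cancel (hf.pow n) (x := ρ a • m') (y := 0)).1 (by rw [h1, smul_zero])
  · intro a' ha'
    obtain ⟨k, a, hka⟩ := hρ a'
    obtain ⟨S, hS⟩ := (inferInstance : Module.Finite A M).fg_top
    have h1 : ∀ m : M, ∃ n : ℕ, f ^ n • (a • m) = 0 := by
      intro m
      apply hker
      rw [hr, ← hka, mul_smul, smul_comm, Module.mem_annihilator.1 ha' (r m), smul_zero]
    choose N hN using h1
    let N₀ := S.sup N
    have h2 : f ^ N₀ * a ∈ Module.annihilator A M := by
      rw [Module.mem_annihilator]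
      intro m
      have hm : m ∈ Submodule.span A (S : Set M) := by rw [hS]; trivial
      induction hm using Submodule.span_induction with
      | mem y hy =>
        have hle : N y ≤ N₀ := Finset.le_sup hy
        rw [mul_smul, ← Nat.sub_add_cancel hle, pow_add, mul_smul, hN y, smul_zero]
      | zero => rw [smul_zero]
      | add x y _ _ hx hy => rw [smul_add, hx, hy, add_zero]
      | smul c x _ hx => rw [smul_comm, hx, smul_zero]
    have h3 : a' * ρ f ^ (k + N₀) = ρ (f ^ N₀ * a) := by
      rw [pow_add, ← mul_assoc, hka, map_mul, map_pow, mul_comm]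
    have h4 : ρ (f ^ N₀ * a) ∈ (Module.annihilator A M).map ρ := Ideal.mem_map_of_mem ρ h2
    rw [← h3] at h4
    obtain ⟨u, hu⟩ := hf.pow (k + N₀)
    have h5 : a' = a' * ρ f ^ (k + N₀) * (↑u⁻¹ : A') := by
      rw [← hu, mul_assoc, Units.mul_inv, mul_one]
    rw [h5]
    exact Ideal.mul_mem_right _ _ h4

end Alg

section Sch

open Groth.Agent.Lib.Helper2.Push Groth.Agent.Lib.Helper23.FinType

variable {X : Scheme.{u}} (F : X.Modules) [F.IsQuasicoherent]
  [SheafOfModules.IsFiniteType (R := X.ringCatSheaf) F]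

theorem map_annihilator_basicOpen (U : X.affineOpens) (f : Γ(X, U.1)) :
    (Module.annihilator Γ(X, U.1) Γ(F, U.1)).map (X.presheaf.map (homOfLE (X.basicOpen_le f)).op).hom =
      Module.annihilator Γ(X, X.basicOpen f) Γ(F, X.basicOpen f) := by
  haveI : Module.Finite Γ(X, U.1) Γ(F, U.1) := finite_of_isFiniteType F U.2
  have hloc := IsLocOn.of_isQuasicoherent U.2 F
  refine map_annihilator_eq (X.presheaf.map (homOfLE (X.basicOpen_le f)).op).hom f ?_ ?_
    (F.presheaf.map (homOfLE (X.basicOpen_le f)).op).hom ?_ ?_ ?_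
  · exact X.toRingedSpace.isUnit_res_basicOpen f
  · intro a'
    have inst := U.2.isLocalization_basicOpen f
    obtain ⟨⟨a, ⟨_, n, rfl⟩⟩, h⟩ := IsLocalization.surj (Submonoid.powers f) a'
    refine ⟨n, a, ?_⟩
    rw [← map_pow]
    exact h
  · intro a m
    exact Scheme.Modules.map_smul F (homOfLE (X.basicOpen_le f)) a m
  · intro m'
    obtain ⟨n, t, ht⟩ := hloc.exists_extension f m'
    exact ⟨n, t, ht⟩
  · intro m hm
    exact hloc.exists_pow_smul_eq_zero f m hm

/-- the annihilator ideal sheaf -/
noncomputable def annIdeal : X.IdealSheafData where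
  ideal U := Module.annihilator Γ(X, U.1) Γ(F, U.1)
  map_ideal_basicOpen U f := map_annihilator_basicOpen F U f

theorem killedBy_annIdeal : ClSub.KilledByIdeal (annIdeal F) F :=
  fun U a ha m => Module.mem_annihilator.1 ha m

open Groth.Agent.Lib.Helper2.QCoh in
/-- a point outside the support of `F` is not in the zero locus of the annihilator -/
theorem exists_mem_annihilator_of_subsingleton (U : X.affineOpens) (x : X) (hxU : x ∈ U.1)
    (hx : Subsingleton (F.presheaf.stalk x)) :
    ∃ a ∈ Module.annihilator Γ(X, U.1) Γ(F, U.1), x ∈ X.basicOpen a := by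
  classical
  haveI : Module.Finite Γ(X, U.1) Γ(F, U.1) := finite_of_isFiniteType F U.2
  have hloc := IsLocOn.of_isQuasicoherent U.2 F
  obtain ⟨S, hS⟩ := (inferInstance : Module.Finite Γ(X, U.1) Γ(F, U.1)).fg_top
  have h1 : ∀ m : Γ(F, U.1), ∃ s : Γ(X, U.1), x ∈ X.basicOpen s ∧ s • m = 0 := fun m =>
    hloc.exists_smul_eq_zero_of_germ_eq_zero U.2 x hxU m (Subsingleton.elim _ _)
  choose a ha1 ha2 using h1
  refine ⟨∏ m ∈ S, a m, ?_, ?_⟩
  · rw [Module.mem_annihilator]
    intro m
    have hm : m ∈ Submodule.span Γ(X, U.1) (S : Set Γ(F, U.1)) := by rw [hS]; trivial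
    induction hm using Submodule.span_induction with
    | mem y hy =>
      rw [← Finset.mul_prod_erase S a hy, mul_comm, mul_smul, ha2 y, smul_zero]
    | zero => rw [smul_zero]
    | add x y _ _ hx hy => rw [smul_add, hx, hy, add_zero]
    | smul c x _ hx => rw [smul_comm, hx, smul_zero]
  · rw [Scheme.mem_basicOpen X _ x hxU, map_prod]
    exact IsUnit.prod_iff.2 fun m _ => (Scheme.mem_basicOpen X (a m) x hxU).1 (ha1 m)

open Groth.Agent.Lib.Helper2.QCoh in
/-- the support of the annihilator ideal sheaf is the support of the module -/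
theorem support_annIdeal : ((annIdeal F).support : Set X) = CohB1.support F := by
  ext x
  obtain ⟨_, ⟨U, hU, rfl⟩, hxU, -⟩ :=
    X.isBasis_affineOpens.exists_subset_of_mem_open (Set.mem_univ x) isOpen_univ
  have hloc := IsLocOn.of_isQuasicoherent hU F
  change x ∈ (annIdeal F).support ↔ _
  rw [Scheme.IdealSheafData.mem_support_iff_of_mem (U := ⟨U, hU⟩) hxU, Scheme.mem_zeroLocus_iff]
  constructor
  · intro h hsub
    obtain ⟨a, ha, hxa⟩ := exists_mem_annihilator_of_subsingleton F ⟨U, hU⟩ x hxU hsub
    exact h a ha hxa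
  · intro h a ha hxa
    apply h
    refine ⟨fun y z => ?_⟩
    have key : ∀ y : F.presheaf.stalk x, y = 0 := by
      intro y
      obtain ⟨s, m, hs, hsm⟩ := hloc.exists_smul_eq_germ hU x hxU y
      have h1 : X.presheaf.germ U x hxU a • (X.presheaf.germ U x hxU s • y) = 0 := by
        rw [hsm, ← germ_smul, Module.mem_annihilator.1 ha m, map_zero]
      have h2 := germ_smul_eq_zero_of_isUnit ((Scheme.mem_basicOpen X a x hxU).1 hxa) h1
      exact germ_smul_eq_zero_of_isUnit ((Scheme.mem_basicOpen X s x hxU).1 hs) h2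
    rw [key y, key z]

end Sch

end Groth.Agent.Lib.T2H5.AnnIdeal
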