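import Mathlib

/-!
# T2H5ProperThick: properness descends along surjective closed immersions of the source (helper5)

If `g : W ⟶ Y` is a surjective closed immersion (e.g. `Y_red ⟶ Y`), `h : Y ⟶ S` is locally of finite type and
`g ≫ h` is proper, then `h` is proper.
-/

set_option autoImplicit false
set_option linter.style.haveILetI false
set_option linter.unusedSectionVars false
universe u
open CategoryTheory CategoryTheory.Limits AlgebraicGeometry

namespace Groth.Agent.Lib.T2H5.ProperThick

variable {W Y S : Scheme.{u}} (g : W ⟶ Y) (h : Y ⟶ S)

theorem diagonal_comp_map :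
    pullback.diagonal (g ≫ h) ≫ pullback.map (g ≫ h) (g ≫ h) h h g g (𝟙 S) (by simp) (by simp) =
      g ≫ pullback.diagonal h := by
  apply pullback.hom_ext
  · rw [Category.assoc, pullback.lift_fst, pullback.diagonal_fst_assoc, Category.assoc, pullback.diagonal_fst,
      Category.comp_id]
  · rw [Category.assoc, pullback.lift_snd, pullback.diagonal_snd_assoc, Category.assoc, pullback.diagonal_snd,
      Category.comp_id]

theorem isSeparated_of_comp_surjective_closedImmersion [IsClosedImmersion g] [Surjective g]
    [IsSeparated (g ≫ h)] : IsSeparated h := by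
  have hm : IsClosedImmersion (pullback.map (g ≫ h) (g ≫ h) h h g g (𝟙 S) (by simp) (by simp)) :=
    MorphismProperty.pullbackMap (P := @IsClosedImmersion) (f := g ≫ h) (g := g ≫ h) (f' := h) (g' := h)
      (i₁ := g) (i₂ := g) inferInstance inferInstance rfl rfl
  have hd : IsClosedImmersion (pullback.diagonal (g ≫ h)) := IsSeparated.isClosedImmersion_diagonal
  have hr : Set.range (pullback.diagonal h) =
      (pullback.map (g ≫ h) (g ≫ h) h h g g (𝟙 S) (by simp) (by simp)) ''
        Set.range (pullback.diagonal (g ≫ h)) := by
    have h1 : Set.range (pullback.diagonal h) = Set.range (g ≫ pullback.diagonal h) := by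
      rw [Scheme.Hom.comp_base, TopCat.coe_comp, Set.range_comp, Set.range_eq_univ.2 g.surjective,
        Set.image_univ]
    rw [h1, ← diagonal_comp_map g h, Scheme.Hom.comp_base, TopCat.coe_comp, Set.range_comp]
  have hcl : IsClosed (Set.range (pullback.diagonal h)) := by
    rw [hr]
    exact (Scheme.Hom.isClosedEmbedding _).isClosedMap _ (Scheme.Hom.isClosedEmbedding _).isClosed_range
  exact ⟨IsClosedImmersion.of_isPreimmersion _ hcl⟩

/-- properness descends along a surjective closed immersion of the source -/
theorem isProper_of_comp_surjective_closedImmersion [IsClosedImmersion g] [Surjective g]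
    [IsProper (g ≫ h)] [LocallyOfFiniteType h] : IsProper h := by
  haveI : IsSeparated h := isSeparated_of_comp_surjective_closedImmersion g h
  haveI : UniversallyClosed h := UniversallyClosed.of_comp_surjective g h
  exact {}

end Groth.Agent.Lib.T2H5.ProperThick
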