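import Groth.Agent.Lib.T2H5HHLes

/-!
# T2H5T2Les: the remaining exactness statements of the linear long exact cohomology sequence, and the resulting
two-out-of-three finiteness statements over a Noetherian ring (helper5)
-/

set_option autoImplicit false
set_option linter.style.haveILetI false
set_option linter.unusedSectionVars false
universe u

namespace Groth.Agent.Lib.T2H5.T2Les

open CategoryTheory CategoryTheory.Limits AlgebraicGeometry Abelian
open Groth.Agent.Lib.Helper23.QCohLocal Groth.Agent.Lib.T2H5.HHLes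

variable {A : Type u} [CommRing A] {X : Scheme.{u}} [X.Over (Spec (CommRingCat.of A))]

/-- exactness at `H^i(S.X₂)`. -/
theorem exact₂ (S : ShortComplex X.Modules) (hS : S.ShortExact) (i : ℕ) :
    LinearMap.ker (Canon.HHlin A S.g i) = LinearMap.range (Canon.HHlin A S.f i) := by
  ext x
  rw [LinearMap.mem_ker, LinearMap.mem_range]
  constructor
  · intro hx
    obtain ⟨y, hy⟩ := Ext.covariant_sequence_exact₂ _ (shortExact_toAbF S hS) x hx
    exact ⟨y, hy⟩
  · rintro ⟨y, rfl⟩
    change (y.comp (Ext.mk₀ ((toAbF X).map S.f)) (add_zero i)).comp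
      (Ext.mk₀ ((toAbF X).map S.g)) (add_zero i) = 0
    have hz : (Ext.mk₀ ((toAbF X).map S.f)).comp (Ext.mk₀ ((toAbF X).map S.g)) (add_zero 0) = 0 := by
      have h0 : (toAbF X).map S.f ≫ (toAbF X).map S.g = 0 := (S.map (toAbF X)).zero
      exact (Ext.mk₀_comp_mk₀ _ _).trans ((congrArg Ext.mk₀ h0).trans (Ext.mk₀_zero _ _))
    exact (Ext.comp_assoc_of_third_deg_zero y (Ext.mk₀ ((toAbF X).map S.f))
        (Ext.mk₀ ((toAbF X).map S.g)) (add_zero i)).trans
      ((congrArg (fun z => y.comp z (add_zero i)) hz).trans (Ext.comp_zero y _ _ _ _))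

/-- exactness at `H^{i+1}(S.X₁)`. -/
theorem exact₁ (S : ShortComplex X.Modules) (hS : S.ShortExact) (i : ℕ) :
    LinearMap.ker (Canon.HHlin A S.f (i + 1)) = LinearMap.range (δLin (A := A) S hS i) := by
  ext x
  rw [LinearMap.mem_ker, LinearMap.mem_range]
  constructor
  · intro hx
    obtain ⟨y, hy⟩ := Ext.covariant_sequence_exact₁ _ (shortExact_toAbF S hS) x hx rfl
    exact ⟨y, hy⟩
  · rintro ⟨y, rfl⟩
    change ((y.comp (shortExact_toAbF S hS).extClass rfl).comp
      (Ext.mk₀ ((toAbF X).map S.f)) (add_zero (i + 1))) = 0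
    exact (Ext.comp_assoc_of_third_deg_zero y (shortExact_toAbF S hS).extClass
        (Ext.mk₀ ((toAbF X).map S.f)) rfl).trans
      ((congrArg (fun z => y.comp z rfl) (shortExact_toAbF S hS).extClass_comp).trans
        (Ext.comp_zero y _ _ _ _))

/-- `H^0` is left exact. -/
theorem injective_f_zero (S : ShortComplex X.Modules) (hS : S.ShortExact) :
    Function.Injective (Canon.HHlin A S.f 0) := by
  haveI : Mono ((toAbF X).map S.f) := (shortExact_toAbF S hS).mono_f
  intro x y hxy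
  obtain ⟨a, rfl⟩ := (Ext.mk₀_bijective _ _).2 x
  obtain ⟨b, rfl⟩ := (Ext.mk₀_bijective _ _).2 y
  have h1 : (Ext.mk₀ a).comp (Ext.mk₀ ((toAbF X).map S.f)) (add_zero 0) =
      (Ext.mk₀ b).comp (Ext.mk₀ ((toAbF X).map S.f)) (add_zero 0) := hxy
  rw [Ext.mk₀_comp_mk₀, Ext.mk₀_comp_mk₀] at h1
  have h2 := (Ext.mk₀_bijective _ _).1 h1
  have h3 : a = b := (cancel_mono ((toAbF X).map S.f)).1 h2
  rw [h3]

theorem finite_HH_X₂ [IsNoetherianRing A] (S : ShortComplex X.Modules) (hS : S.ShortExact) (i : ℕ)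
    (h1 : Module.Finite A (Coh.HH X S.X₁ i)) (h3 : Module.Finite A (Coh.HH X S.X₃ i)) :
    Module.Finite A (Coh.HH X S.X₂ i) := by
  refine ⟨Submodule.fg_of_fg_map_of_fg_inf_ker (Canon.HHlin A S.g i) ?_ ?_⟩
  · have : IsNoetherian A (Coh.HH X S.X₃ i) := isNoetherian_of_isNoetherianRing_of_finite A _
    exact IsNoetherian.noetherian _
  · rw [top_inf_eq, exact₂ S hS, LinearMap.range_eq_map]
    exact Submodule.FG.map _ h1.1

theorem finite_HH_X₁_zero [IsNoetherianRing A] (S : ShortComplex X.Modules) (hS : S.ShortExact)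
    (h2 : Module.Finite A (Coh.HH X S.X₂ 0)) : Module.Finite A (Coh.HH X S.X₁ 0) :=
  Module.Finite.of_injective (Canon.HHlin A S.f 0) (injective_f_zero S hS)

theorem finite_HH_X₁_succ [IsNoetherianRing A] (S : ShortComplex X.Modules) (hS : S.ShortExact) (i : ℕ)
    (h2 : Module.Finite A (Coh.HH X S.X₂ (i + 1))) (h3 : Module.Finite A (Coh.HH X S.X₃ i)) :
    Module.Finite A (Coh.HH X S.X₁ (i + 1)) := by
  refine ⟨Submodule.fg_of_fg_map_of_fg_inf_ker (Canon.HHlin A S.f (i + 1)) ?_ ?_⟩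
  · have : IsNoetherian A (Coh.HH X S.X₂ (i + 1)) := isNoetherian_of_isNoetherianRing_of_finite A _
    exact IsNoetherian.noetherian _
  · rw [top_inf_eq, exact₁ S hS, LinearMap.range_eq_map]
    exact Submodule.FG.map _ h3.1

theorem finite_HH_X₁ [IsNoetherianRing A] (S : ShortComplex X.Modules) (hS : S.ShortExact)
    (h2 : ∀ i, Module.Finite A (Coh.HH X S.X₂ i)) (h3 : ∀ i, Module.Finite A (Coh.HH X S.X₃ i)) (i : ℕ) :
    Module.Finite A (Coh.HH X S.X₁ i) := by
  cases i with
  | zero => exact finite_HH_X₁_zero S hS (h2 0)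
  | succ n => exact finite_HH_X₁_succ S hS n (h2 (n + 1)) (h3 n)

/-- finiteness passes to retracts. -/
theorem finite_HH_of_retract {F G : X.Modules} (a : F ⟶ G) (b : G ⟶ F) (hab : a ≫ b = 𝟙 F) (i : ℕ)
    (hG : Module.Finite A (Coh.HH X G i)) : Module.Finite A (Coh.HH X F i) := by
  refine Module.Finite.of_surjective (Canon.HHlin A b i) (fun x => ⟨Canon.HHlin A a i x, ?_⟩)
  change Sheaf.H.map ((toAbF X).map b) i (Sheaf.H.map ((toAbF X).map a) i x) = x
  have h1 : (toAbF X).map a ≫ (toAbF X).map b = 𝟙 _ := by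
    rw [← CategoryTheory.Functor.map_comp, hab, CategoryTheory.Functor.map_id]
  exact (Sheaf.H.map_comp_apply _ _ x).symm.trans
    ((congrArg (fun φ => Sheaf.H.map φ i x) h1).trans (Sheaf.H.map_id_apply x))

/-- finiteness is invariant under isomorphism. -/
theorem finite_HH_of_iso {F G : X.Modules} (e : F ≅ G) (i : ℕ)
    (hG : Module.Finite A (Coh.HH X G i)) : Module.Finite A (Coh.HH X F i) :=
  finite_HH_of_retract e.hom e.inv e.hom_inv_id i hG

end Groth.Agent.Lib.T2H5.T2Les
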