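import Mathlib
import Groth.Agent.Lib.T2H5PushEdge
import Groth.Agent.Lib.T2H5ClosedLin

/-!
# T2H5T2Lin: linearity of the Leray edge map `H^p(Y, f_* G) → H^p(X, G)` over a base ring, and the resulting
transfer of finiteness (helper5)
-/

set_option autoImplicit false
set_option linter.style.haveILetI false
set_option linter.unusedSectionVars false
universe u
open CategoryTheory CategoryTheory.Limits Opposite TopologicalSpace Abelian AlgebraicGeometry

namespace Groth.Agent.Lib.T2H5.T2Lin

open Groth.Agent.Lib.T2H5.PushEdge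

variable {X Y : Scheme.{u}} (f : X ⟶ Y)

/-- the edge map commutes with multiplication by global functions -/
theorem pushEdge_smul (A : Type u) [CommRing A] [X.Over (Spec (CommRingCat.of A))]
    [Y.Over (Spec (CommRingCat.of A))]
    (hf : f ≫ (Y ↘ Spec (CommRingCat.of A)) = X ↘ Spec (CommRingCat.of A))
    (G : X.Modules) (p : ℕ) (c : A)
    (x : Coh.HH Y ((Scheme.Modules.pushforward f).obj G) p) :
    CohPull.pushEdge f G p (c • x) = c • CohPull.pushEdge f G p x := by
  have hr : Coh.toGlobal (X ↘ Spec (CommRingCat.of A)) c =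
      f.appTop.hom (Coh.toGlobal (Y ↘ Spec (CommRingCat.of A)) c) := by
    rw [← hf]
    rfl
  rw [pushEdge_eq]
  change edgeAb f.base (Coh.toAb G) p
      (Sheaf.H.map (Coh.smulAb ((Scheme.Modules.pushforward f).obj G)
        (Coh.toGlobal (Y ↘ Spec (CommRingCat.of A)) c)) p x) =
    Sheaf.H.map (Coh.smulAb G (Coh.toGlobal (X ↘ Spec (CommRingCat.of A)) c)) p
      (edgeAb f.base (Coh.toAb G) p x)
  rw [Groth.Agent.Lib.T2H5.ClosedLin.smulAb_pushforward, hr]
  exact edgeAb_nat f.base (Coh.smulAb G (f.appTop.hom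
    (Coh.toGlobal (Y ↘ Spec (CommRingCat.of A)) c))) p x

/-- the edge map as a linear equivalence, when the higher direct images vanish -/
theorem nonempty_linearEquiv (A : Type u) [CommRing A] [X.Over (Spec (CommRingCat.of A))]
    [Y.Over (Spec (CommRingCat.of A))]
    (hf : f ≫ (Y ↘ Spec (CommRingCat.of A)) = X ↘ Spec (CommRingCat.of A))
    (G : X.Modules)
    (hG : ∀ q : ℕ, IsZero ((Coh.RpushAb f (q + 1)).obj (Coh.toAb G))) (p : ℕ) :
    Nonempty (Coh.HH Y ((Scheme.Modules.pushforward f).obj G) p ≃ₗ[A] Coh.HH X G p) :=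
  ⟨LinearEquiv.ofBijective
    ({ toFun := CohPull.pushEdge f G p
       map_add' := map_add (CohPull.pushEdge f G p)
       map_smul' := fun c x => pushEdge_smul f A hf G p c x } :
      Coh.HH Y ((Scheme.Modules.pushforward f).obj G) p →ₗ[A] Coh.HH X G p)
    (pushEdge_bijective_of_RpushAb f G hG p)⟩

/-- transfer of finiteness along the edge map -/
theorem finite_HH_pushforward (A : Type u) [CommRing A] [X.Over (Spec (CommRingCat.of A))]
    [Y.Over (Spec (CommRingCat.of A))]
    (hf : f ≫ (Y ↘ Spec (CommRingCat.of A)) = X ↘ Spec (CommRingCat.of A))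
    (G : X.Modules)
    (hG : ∀ q : ℕ, IsZero ((Coh.RpushAb f (q + 1)).obj (Coh.toAb G))) (p : ℕ)
    (h : Module.Finite A (Coh.HH X G p)) :
    Module.Finite A (Coh.HH Y ((Scheme.Modules.pushforward f).obj G) p) := by
  obtain ⟨e⟩ := nonempty_linearEquiv f A hf G hG p
  exact Module.Finite.equiv e.symm

/-- transfer of finiteness along a closed immersion -/
theorem finite_HH_closed (A : Type u) [CommRing A] [X.Over (Spec (CommRingCat.of A))]
    [Y.Over (Spec (CommRingCat.of A))] [IsClosedImmersion f]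
    (hf : f ≫ (Y ↘ Spec (CommRingCat.of A)) = X ↘ Spec (CommRingCat.of A))
    (G : X.Modules) (p : ℕ) :
    Module.Finite A (Coh.HH X G p) ↔
      Module.Finite A (Coh.HH Y ((Scheme.Modules.pushforward f).obj G) p) := by
  obtain ⟨e⟩ := Groth.Agent.Lib.T2H5.ClosedLin.nonempty_linearEquiv f A hf G p
  exact ⟨fun h => Module.Finite.equiv e, fun h => Module.Finite.equiv e.symm⟩

end Groth.Agent.Lib.T2H5.T2Lin
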