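import Mathlib
import Groth.Agent.Lib.T2H5T2Van
import Groth.Agent.Lib.T2H5T2Lin
import Groth.Agent.Lib.T2H5T2Les
import Groth.Agent.Lib.Helper27PnSections
import Groth.Agent.Lib.Helper23FinType2

/-!
# T2H5T2Coh: coherence of the direct image of `L d` for a closed subscheme of `P^n_S`, `S` Noetherian (helper5)
-/

set_option autoImplicit false
set_option linter.style.haveILetI false
set_option linter.unusedSectionVars false
universe u
open CategoryTheory CategoryTheory.Limits Opposite TopologicalSpace AlgebraicGeometry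

namespace Groth.Agent.Lib.T2H5.T2Coh

open Groth.Agent.Lib.T2H6 Groth.Agent.Lib.T2H6.HProjChart Groth.Agent.Lib.T2H5.T2Van
open Groth.Agent.Lib.Helper27PnSections

section General

variable {X S : Scheme.{u}} (f : X ⟶ S) {U : S.Opens} (hU : IsAffineOpen U)

/-- the canonical morphism from the preimage of an affine open to its spectrum -/
noncomputable def g₀ : (↑(f ⁻¹ᵁ U) : Scheme.{u}) ⟶ Spec Γ(S, U) :=
  (f ⁻¹ᵁ U).toSpecΓ ≫ Spec.map (f.app U)

theorem g₀_fromSpec : g₀ f (U := U) ≫ hU.fromSpec = (f ⁻¹ᵁ U).ι ≫ f := by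
  rw [g₀, Scheme.Opens.toSpecΓ_naturality, Category.assoc, IsAffineOpen.toSpecΓ_fromSpec,
    morphismRestrict_ι]

theorem eq_g₀ (g : (↑(f ⁻¹ᵁ U) : Scheme.{u}) ⟶ Spec Γ(S, U))
    (hg : g ≫ hU.fromSpec = (f ⁻¹ᵁ U).ι ≫ f) : g = g₀ f := by
  rw [← cancel_mono hU.fromSpec, hg, g₀_fromSpec]

theorem toGlobal_g₀ (b : Γ(S, U)) :
    Coh.toGlobal (g₀ f (U := U)) b = (f ⁻¹ᵁ U).topIso.inv.hom ((f.app U).hom b) := by
  have h : (Scheme.ΓSpecIso Γ(S, U)).inv ≫ (g₀ f (U := U)).appTop =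
      f.app U ≫ (f ⁻¹ᵁ U).topIso.inv := by
    rw [g₀, Scheme.Hom.comp_appTop, Scheme.Opens.toSpecΓ_appTop, Scheme.ΓSpecIso_naturality_assoc,
      Iso.inv_hom_id_assoc]
  exact ConcreteCategory.congr_hom h b

/-- finiteness of the sections of a direct image over an affine open of the base, from the finiteness of
`H^0` of the restriction to the preimage -/
theorem finite_sections_pushforward (M : X.Modules)
    [inst : (↑(f ⁻¹ᵁ U) : Scheme.{u}).Over (Spec (CommRingCat.of Γ(S, U)))]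
    (hinst : ((↑(f ⁻¹ᵁ U) : Scheme.{u}) ↘ Spec (CommRingCat.of Γ(S, U))) ≫ hU.fromSpec =
      (f ⁻¹ᵁ U).ι ≫ f)
    (h : Module.Finite Γ(S, U) (Coh.HH (↑(f ⁻¹ᵁ U) : Scheme.{u}) (M.restrict (f ⁻¹ᵁ U).ι) 0)) :
    Module.Finite Γ(S, U) Γ((Scheme.Modules.pushforward f).obj M, U) := by
  have hg : ((↑(f ⁻¹ᵁ U) : Scheme.{u}) ↘ Spec (CommRingCat.of Γ(S, U))) = g₀ f :=
    eq_g₀ f hU _ hinst
  let e0 := hh0Equiv (↑(f ⁻¹ᵁ U) : Scheme.{u}) (M.restrict (f ⁻¹ᵁ U).ι)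
  let φ₀ : (op ((f ⁻¹ᵁ U).ι ''ᵁ ⊤) : (Opens X)ᵒᵖ) ⟶ op (f ⁻¹ᵁ U) :=
    (eqToHom (f ⁻¹ᵁ U).ι_image_top.symm).op
  haveI : IsIso φ₀ := by dsimp only [φ₀]; infer_instance
  let θ : (M.restrict (f ⁻¹ᵁ U).ι).val.obj (op ⊤) → M.val.obj (op (f ⁻¹ᵁ U)) :=
    fun y => (M.presheaf.map φ₀).hom y
  have hθ : Function.Bijective θ := ConcreteCategory.bijective_of_isIso (M.presheaf.map φ₀)
  have hsmul : ∀ (b : Γ(S, U)) (x : Coh.HH (↑(f ⁻¹ᵁ U) : Scheme.{u}) (M.restrict (f ⁻¹ᵁ U).ι) 0),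
      θ (e0 (b • x)) = @HSMul.hSMul Γ(S, U) Γ((Scheme.Modules.pushforward f).obj M, U)
        Γ((Scheme.Modules.pushforward f).obj M, U) _ b (θ (e0 x)) := by
    intro b x
    have h2 : e0 (b • x) = (Coh.smulAb (M.restrict (f ⁻¹ᵁ U).ι)
        (Coh.toGlobal ((↑(f ⁻¹ᵁ U) : Scheme.{u}) ↘ Spec (CommRingCat.of Γ(S, U))) b)).hom.app (op ⊤)
          (e0 x) := hh0Equiv_smul _ _ _ x
    rw [h2, Coh.smulAb_app, resTop_top, hg, toGlobal_g₀]
    refine (M.val.map_smul φ₀ _ _).trans ?_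
    change @HSMul.hSMul (X.ringCatSheaf.obj.obj (op (f ⁻¹ᵁ U))) (M.val.obj (op (f ⁻¹ᵁ U)))
        (M.val.obj (op (f ⁻¹ᵁ U))) _ _ _ =
      @HSMul.hSMul (X.ringCatSheaf.obj.obj (op (f ⁻¹ᵁ U))) (M.val.obj (op (f ⁻¹ᵁ U)))
        (M.val.obj (op (f ⁻¹ᵁ U))) _ ((f.app U).hom b) ((M.val.map φ₀).hom (e0 x))
    congr 1
    have hc : ∀ c : Γ(X, f ⁻¹ᵁ U), (X.presheaf.map φ₀).hom
        (((f ⁻¹ᵁ U).ι.appIso ⊤).inv.hom ((f ⁻¹ᵁ U).topIso.inv.hom c)) = c := by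
      intro c
      have h3 : (f ⁻¹ᵁ U).topIso.inv ≫ ((f ⁻¹ᵁ U).ι.appIso ⊤).inv ≫ X.presheaf.map φ₀ = 𝟙 _ := by
        rw [Scheme.Opens.ι_appIso, Scheme.Opens.topIso_inv]
        dsimp only [Iso.refl_inv, φ₀]
        refine (congrArg (fun t => X.presheaf.map (eqToHom (f ⁻¹ᵁ U).ι_image_top).op ≫ t)
          (Category.id_comp _)).trans ?_
        rw [← Functor.map_comp, ← op_comp, eqToHom_trans, eqToHom_refl, op_id]
        exact X.presheaf.map_id _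
      exact ConcreteCategory.congr_hom h3 c
    exact hc _
  let ψ : Coh.HH (↑(f ⁻¹ᵁ U) : Scheme.{u}) (M.restrict (f ⁻¹ᵁ U).ι) 0 →ₗ[Γ(S, U)]
      Γ((Scheme.Modules.pushforward f).obj M, U) :=
    { toFun := fun x => θ (e0 x)
      map_add' := fun x y => by
        rw [map_add]
        exact map_add (M.presheaf.map φ₀).hom _ _
      map_smul' := fun b x => hsmul b x }
  have hψ : Function.Surjective ψ := fun m => by
    obtain ⟨y, rfl⟩ := hθ.2 m
    exact ⟨e0.symm y, congrArg θ (e0.apply_symm_apply y)⟩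
  exact Module.Finite.of_surjective ψ hψ

end General

section Main

attribute [local instance] HProjChart.algSect

variable {S : Scheme.{u}} {n : ℕ} {X : Scheme.{u}} (i : X ⟶ CohB1.ProjSpaceOver n S)

/-- the direct image of `L d` to a Noetherian base is coherent -/
theorem isCoh_pushforward_L [IsNoetherian S] [IsClosedImmersion i] (d : ℤ) :
    Coh.IsCoh ((Scheme.Modules.pushforward (fS i)).obj (L i d)) := by
  haveI := isProper_fS i
  haveI hq : (L i d).IsQuasicoherent := (isCoh_L i d).1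
  haveI hpq : ((Scheme.Modules.pushforward (fS i)).obj (L i d)).IsQuasicoherent :=
    Groth.Agent.Lib.Helper23.QCohLocal.isQuasicoherent_pushforward (fS i) (L i d)
  refine ⟨hpq, ?_⟩
  refine Groth.Agent.Lib.Helper23.FinType.isFiniteType_of_finite _
    (fun V : S.affineOpens => (V : S.Opens)) (iSup_affineOpens_eq_top S) (fun V => V.2) (fun V => ?_)
  haveI : IsNoetherianRing Γ(S, (V : S.Opens)) := IsLocallyNoetherian.component_noetherian V
  haveI hc : IsClosedImmersion (iU i V.2) := inferInstance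
  let k : (↑(fS i ⁻¹ᵁ (V : S.Opens)) : Scheme.{u}) ⟶ CohB1.ProjSpace n Γ(S, (V : S.Opens)) := iU i V.2
  haveI hc' : IsClosedImmersion k := hc
  letI inst : (↑(fS i ⁻¹ᵁ (V : S.Opens)) : Scheme.{u}).Over
      (Spec (CommRingCat.of Γ(S, (V : S.Opens)))) :=
    ⟨k ≫ CohB1.ProjSpace.toSpec n Γ(S, (V : S.Opens))⟩
  have hinst : ((↑(fS i ⁻¹ᵁ (V : S.Opens)) : Scheme.{u}) ↘
      Spec (CommRingCat.of Γ(S, (V : S.Opens)))) ≫ V.2.fromSpec =
      (fS i ⁻¹ᵁ (V : S.Opens)).ι ≫ fS i := by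
    change (k ≫ CohB1.ProjSpace.toSpec n Γ(S, (V : S.Opens))) ≫ V.2.fromSpec = _
    rw [Category.assoc]
    exact iU_toSpec i V.2
  refine finite_sections_pushforward (fS i) V.2 (L i d) hinst ?_
  obtain ⟨e⟩ := nonempty_restrict_iso i V.2 d
  have hN : Coh.IsCoh ((Scheme.Modules.pullback k).obj
      (Twist.twistProjSpace n Γ(S, (V : S.Opens)) d)) :=
    Groth.Agent.Lib.T2H5.GenIsoD.isCoh_pullback _ _
      (Groth.Agent.Lib.T2H5.PnFinite.isCoh_twist n Γ(S, (V : S.Opens)) d)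
  have h1 := Groth.Agent.Lib.T2H5.PnFinite.finite_HH n Γ(S, (V : S.Opens)) _
    (Groth.Agent.Lib.T2H5.ClosedTransfer.isCoh_pushforward k _ hN) 0
  have h2 := (Groth.Agent.Lib.T2H5.T2Lin.finite_HH_closed k Γ(S, (V : S.Opens)) rfl _ 0).2 h1
  exact Groth.Agent.Lib.T2H5.T2Les.finite_HH_of_iso e 0 h2

end Main

end Groth.Agent.Lib.T2H5.T2Coh
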