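import Mathlib
import Groth.Agent.S0025
import Groth.Agent.S9705

/-!
# T2H5T2Chow: Chow's lemma for a proper morphism, repackaged with closed immersions into the projective spaces over
the source and over the base (helper5)
-/

set_option autoImplicit false
set_option linter.style.haveILetI false
set_option linter.unusedSectionVars false
universe u
open CategoryTheory CategoryTheory.Limits Opposite TopologicalSpace AlgebraicGeometry

namespace Groth.Agent.Lib.T2H5.T2Chow

/-- the structure morphism to `Spec ℤ` -/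
noncomputable abbrev tS (S : Scheme.{u}) : S ⟶ Spec (CommRingCat.of (ULift.{u} ℤ)) :=
  specULiftZIsTerminal.from S

/-- an immersion which is proper is a closed immersion -/
theorem isClosedImmersion_of_isProper {X Y : Scheme.{u}} (f : X ⟶ Y) [IsImmersion f] [IsProper f] :
    IsClosedImmersion f := by
  rw [IsClosedImmersion.iff_isProper_and_mono]
  exact ⟨inferInstance, inferInstance⟩

theorem exists_chow {Z S : Scheme.{u}} (g : Z ⟶ S) [IsNoetherian S] [IsProper g] :
    ∃ (n : ℕ) (Z' : Scheme.{u}) (π : Z' ⟶ Z) (J : Z' ⟶ CohB1.ProjSpaceOver n Z)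
      (j : Z' ⟶ CohB1.ProjSpaceOver n S),
      IsClosedImmersion J ∧ IsClosedImmersion j ∧ J ≫ CohB1.ProjSpaceOver.toBase n Z = π ∧
      j ≫ CohB1.ProjSpaceOver.toBase n S = π ≫ g ∧
      J ≫ pullback.fst (CohB1.ProjSpace.toSpec n (ULift.{u} ℤ)) (tS Z) =
        j ≫ pullback.fst (CohB1.ProjSpace.toSpec n (ULift.{u} ℤ)) (tS S) ∧
      IsProper π ∧ Surjective π ∧ ∃ U : Z.Opens, Dense (U : Set Z) ∧ IsIso (π ∣_ U) := by
  obtain ⟨n, Z', π, j, hjim, hj, hπ, hπs, U, hU, hUiso⟩ := Groth.Agent.S0025.result g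
  haveI := hjim
  haveI := hπ
  haveI hS := Groth.Agent.S9705.isProper_toBase n S
  haveI hZ := Groth.Agent.S9705.isProper_toBase n Z
  -- `j` is a closed immersion
  haveI h1 : IsProper (j ≫ CohB1.ProjSpaceOver.toBase n S) := by
    rw [hj]; infer_instance
  haveI h2 : IsProper j := IsProper.of_comp j (CohB1.ProjSpaceOver.toBase n S)
  haveI hjc : IsClosedImmersion j := isClosedImmersion_of_isProper j
  -- the lift to the projective space over `Z`
  let J : Z' ⟶ pullback (CohB1.ProjSpace.toSpec n (ULift.{u} ℤ)) (tS Z) :=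
    pullback.lift (j ≫ pullback.fst (CohB1.ProjSpace.toSpec n (ULift.{u} ℤ)) (tS S)) π
      (specULiftZIsTerminal.hom_ext _ _)
  have hJ1 : J ≫ pullback.fst (CohB1.ProjSpace.toSpec n (ULift.{u} ℤ)) (tS Z) =
      j ≫ pullback.fst (CohB1.ProjSpace.toSpec n (ULift.{u} ℤ)) (tS S) := pullback.lift_fst _ _ _
  have hJ2 : J ≫ pullback.snd (CohB1.ProjSpace.toSpec n (ULift.{u} ℤ)) (tS Z) = π :=
    pullback.lift_snd _ _ _
  -- the projection between the projective spaces
  let q : pullback (CohB1.ProjSpace.toSpec n (ULift.{u} ℤ)) (tS Z) ⟶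
      pullback (CohB1.ProjSpace.toSpec n (ULift.{u} ℤ)) (tS S) :=
    pullback.lift (pullback.fst (CohB1.ProjSpace.toSpec n (ULift.{u} ℤ)) (tS Z))
      (pullback.snd (CohB1.ProjSpace.toSpec n (ULift.{u} ℤ)) (tS Z) ≫ g)
      (specULiftZIsTerminal.hom_ext _ _)
  have hq : J ≫ q = j := by
    apply pullback.hom_ext
    · rw [Category.assoc, pullback.lift_fst, hJ1]
      rfl
    · rw [Category.assoc, pullback.lift_snd, ← Category.assoc, hJ2]
      exact hj.symm
  haveI : IsImmersion (J ≫ q) := by rw [hq]; exact hjim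
  haveI : IsImmersion J := IsImmersion.of_comp J q
  haveI : IsSeparated (pullback.snd (CohB1.ProjSpace.toSpec n (ULift.{u} ℤ)) (tS Z)) :=
    (inferInstance : IsSeparated (CohB1.ProjSpaceOver.toBase n Z))
  haveI : IsProper (J ≫ pullback.snd (CohB1.ProjSpace.toSpec n (ULift.{u} ℤ)) (tS Z)) := by
    rw [hJ2]; infer_instance
  haveI : IsProper J :=
    IsProper.of_comp J (pullback.snd (CohB1.ProjSpace.toSpec n (ULift.{u} ℤ)) (tS Z))
  exact ⟨n, Z', π, J, j, isClosedImmersion_of_isProper J, hjc, hJ2, hj, hJ1, hπ, hπs, U, hU, hUiso⟩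

end Groth.Agent.Lib.T2H5.T2Chow
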