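import Mathlib
import Groth.Agent.Lib.Helper20InvGen

/-!
# T2H5T2Gen: the direct image of an invertible module along a closed map which is injective over the generic
point has a nontrivial generic stalk (helper5)
-/

set_option autoImplicit false
set_option linter.style.haveILetI false
set_option linter.unusedSectionVars false
universe u
open CategoryTheory CategoryTheory.Limits Opposite TopologicalSpace AlgebraicGeometry

namespace Groth.Agent.Lib.T2H5.T2Gen

open Groth.Agent.Lib.Helper20.InvGen

theorem nontrivial_stalk_pushforward {X S : Scheme.{u}} (π : X ⟶ S) (hcl : IsClosedMap π.base)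
    (Lm : X.Modules) (hL : PicF.IsInvertible Lm) (η : S) (x' : X) (hx' : π.base x' = η)
    (hfib : ∀ y : X, π.base y = η → y = x') :
    Nontrivial (((Scheme.Modules.pushforward π).obj Lm).presheaf.stalk η) := by
  obtain ⟨W, t, hxW, ht⟩ := exists_local_generator Lm hL x'
  let Vset : Set S := (π.base '' (W : Set X)ᶜ)ᶜ
  have hVo : IsOpen Vset := (hcl _ W.isOpen.isClosed_compl).isOpen_compl
  let V : S.Opens := ⟨Vset, hVo⟩
  have hηV : η ∈ V := by
    rintro ⟨y, hy, hyη⟩
    exact hy ((hfib y hyη) ▸ hxW)
  have hle : π ⁻¹ᵁ V ≤ W := by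
    intro y hy
    by_contra hyW
    exact hy ⟨y, hyW, rfl⟩
  let s : ((Scheme.Modules.pushforward π).obj Lm).presheaf.obj (op V) :=
    Lm.presheaf.map (homOfLE hle).op t
  by_contra hnt
  rw [not_nontrivial_iff_subsingleton] at hnt
  have h0 : ((Scheme.Modules.pushforward π).obj Lm).presheaf.germ V η hηV s =
      ((Scheme.Modules.pushforward π).obj Lm).presheaf.germ V η hηV 0 := Subsingleton.elim _ _
  obtain ⟨V', hηV', i₁, i₂, heq⟩ := TopCat.Presheaf.germ_eq _ η hηV hηV s 0 h0
  have hx'V' : x' ∈ π ⁻¹ᵁ V' := by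
    change π.base x' ∈ V'
    rw [hx']; exact hηV'
  have hle' : π ⁻¹ᵁ V' ≤ W := (π.preimage_mono i₁.le).trans hle
  have h1 : Lm.presheaf.map (homOfLE hle').op t = 0 := by
    have h2 : ((Scheme.Modules.pushforward π).obj Lm).presheaf.map i₁.op s = 0 := by
      rw [heq, map_zero]
    have h3 : ((Scheme.Modules.pushforward π).obj Lm).presheaf.map i₁.op s =
        Lm.presheaf.map (homOfLE hle').op t := by
      change Lm.presheaf.map _ (Lm.presheaf.map (homOfLE hle).op t) = _
      rw [← ConcreteCategory.comp_apply, ← Functor.map_comp]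
      rfl
    exact h3.symm.trans h2
  have hgerm : Lm.presheaf.germ W x' hxW t = 0 := by
    rw [← TopCat.Presheaf.germ_res_apply Lm.presheaf (homOfLE hle') x' hx'V' t, h1, map_zero]
  have hb := (ht x' hxW).1
  rw [hgerm] at hb
  have h10 : (1 : X.presheaf.stalk x') = 0 := hb (by simp)
  exact one_ne_zero h10

end Groth.Agent.Lib.T2H5.T2Gen
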