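import Mathlib
import Groth.Agent.Lib.T2H5T2Coh
import Groth.Agent.Lib.T2H5T2Gen
import Groth.Agent.Lib.T2H5T2Chow
import Groth.Agent.S10865
import Groth.Agent.Lib.T2H5Devissage
import Groth.Agent.Lib.T2H5Chevalley

/-!
# T2H5T2Main: finiteness of the cohomology of coherent modules on a scheme proper over a Noetherian ring
(helper5)
-/

set_option autoImplicit false
set_option linter.style.haveILetI false
set_option linter.unusedSectionVars false
universe u
open CategoryTheory CategoryTheory.Limits Opposite TopologicalSpace AlgebraicGeometry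

namespace Groth.Agent.Lib.T2H5.T2Main

open Groth.Agent.Lib.T2H6 Groth.Agent.Lib.T2H6.HProjChart Groth.Agent.Lib.T2H5.T2Van
open Groth.Agent.Lib.T2H5.T2Coh Groth.Agent.Lib.T2H5.T2Gen Groth.Agent.Lib.T2H5.T2Chow
open Groth.Agent.Lib.T2H5.T2Lin Groth.Agent.Lib.T2H5.T2Les

section ProjSpace

variable (A : Type u) [CommRing A] (n : ℕ)

/-- a closed subscheme of `P^n_{Spec A}` is a closed subscheme of `Proj A[T_0,…,T_n]`, over `Spec A` -/
theorem exists_closedImmersion_projSpace {Z' : Scheme.{u}}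
    (j : Z' ⟶ CohB1.ProjSpaceOver n (Spec (CommRingCat.of A))) [IsClosedImmersion j] :
    ∃ j' : Z' ⟶ CohB1.ProjSpace n A, IsClosedImmersion j' ∧
      j' ≫ CohB1.ProjSpace.toSpec n A =
        j ≫ CohB1.ProjSpaceOver.toBase n (Spec (CommRingCat.of A)) := by
  letI : Algebra Z₀.{u} A :=
    ((Int.castRingHom A).comp (ULift.ringEquiv : Z₀.{u} ≃+* ℤ).toRingHom).toAlgebra
  have hj : 𝟙 (Spec (CommRingCat.of A)) ≫ HProjChart.tS (Spec (CommRingCat.of A)) =
      Spec.map (CommRingCat.ofHom (algebraMap Z₀.{u} A)) := specULiftZIsTerminal.hom_ext _ _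
  let ε : CohB1.ProjSpace n A ⟶ pullback (CohB1.ProjSpace.toSpec n Z₀.{u})
      (HProjChart.tS (Spec (CommRingCat.of A))) :=
    PnChart.emb Z₀.{u} A n (HProjChart.tS (Spec (CommRingCat.of A))) (𝟙 _) hj
  haveI : IsOpenImmersion ε := PnChart.isOpenImmersion_emb Z₀.{u} A n _ (𝟙 _) hj
  have hε : IsIso ε := by
    refine isIso_of_isOpenImmersion_of_opensRange_eq_top ε ?_
    ext1
    have h := PnChart.range_emb Z₀.{u} A n (HProjChart.tS (Spec (CommRingCat.of A))) (𝟙 _) hj
    refine h.trans ?_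
    have hr : Set.range (𝟙 (Spec (CommRingCat.of A)) : Spec (CommRingCat.of A) ⟶ _).base = Set.univ :=
      Set.range_eq_univ.2 (fun y => ⟨y, rfl⟩)
    rw [hr]
    rfl
  have hsnd : ε ≫ pullback.snd _ _ = CohB1.ProjSpace.toSpec n A :=
    (PnChart.emb_snd Z₀.{u} A n (HProjChart.tS (Spec (CommRingCat.of A))) (𝟙 _) hj).trans
      (Category.comp_id _)
  let j₀ : Z' ⟶ pullback (CohB1.ProjSpace.toSpec n Z₀.{u})
    (HProjChart.tS (Spec (CommRingCat.of A))) := j
  haveI : IsClosedImmersion j₀ := ‹IsClosedImmersion j›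
  haveI := hε
  let j' : Z' ⟶ CohB1.ProjSpace n A := j₀ ≫ inv ε
  haveI : IsClosedImmersion j' := by dsimp only [j']; infer_instance
  refine ⟨j', inferInstance, ?_⟩
  have h3 : (j₀ ≫ inv ε) ≫ CohB1.ProjSpace.toSpec n A = j₀ ≫ pullback.snd _ _ := by
    rw [Category.assoc]
    congr 1
    rw [IsIso.inv_comp_eq]
    exact hsnd.symm
  exact h3

end ProjSpace

section Witness

variable (A : Type u) [CommRing A] [IsNoetherianRing A]

/-- on an integral scheme proper over a Noetherian ring there is a coherent module with nontrivial generic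
stalk and finite cohomology -/
theorem exists_witness (Z : Scheme.{u}) [IsIntegral Z] [Z.Over (Spec (CommRingCat.of A))]
    [IsProper (Z ↘ Spec (CommRingCat.of A))] :
    ∃ H : Z.Modules, Coh.IsCoh H ∧ Nontrivial (H.presheaf.stalk (genericPoint Z)) ∧
      ∀ p : ℕ, Module.Finite A (Coh.HH Z H p) := by
  haveI : IsNoetherian Z :=
    { __ := LocallyOfFiniteType.isLocallyNoetherian (Z ↘ Spec (CommRingCat.of A))
      toCompactSpace := QuasiCompact.compactSpace_of_compactSpace (Z ↘ Spec (CommRingCat.of A)) }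
  obtain ⟨n, Z', π, J, j, hJc, hjc, hJ2, hj, hJ1, hπ, hπs, U, hU, hUiso⟩ :=
    exists_chow (Z ↘ Spec (CommRingCat.of A))
  subst hJ2
  haveI := hJc
  haveI := hjc
  obtain ⟨d₀, hd₀⟩ := exists_isZero_RpushAb J
  refine ⟨(Scheme.Modules.pushforward (fS J)).obj (L J d₀), isCoh_pushforward_L J d₀, ?_, ?_⟩
  · have hη : genericPoint Z ∈ U := by
      refine ((genericPoint_spec Z).mem_open_set_iff U.isOpen).2 ?_
      obtain ⟨y, hy⟩ := hU.nonempty
      exact ⟨y, trivial, hy⟩
    obtain ⟨x', hx'⟩ := hπs.surj (genericPoint Z)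
    refine nontrivial_stalk_pushforward (fS J) (fS J).isClosedMap (L J d₀) (isInvertible_L J d₀) _
      x' hx' ?_
    intro y hy
    have hinj : Function.Injective (fS J ∣_ U).base :=
      (ConcreteCategory.bijective_of_isIso (fS J ∣_ U).base).1
    have hyU : y ∈ fS J ⁻¹ᵁ U := by
      change (fS J).base y ∈ U
      rw [hy]; exact hη
    have hxU : x' ∈ fS J ⁻¹ᵁ U := by
      change (fS J).base x' ∈ U
      rw [hx']; exact hη
    have heq : (fS J ∣_ U).base ⟨y, hyU⟩ = (fS J ∣_ U).base ⟨x', hxU⟩ := by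
      apply Subtype.ext
      rw [morphismRestrict_base_coe, morphismRestrict_base_coe]
      exact hy.trans hx'.symm
    exact congrArg Subtype.val (hinj heq)
  · intro p
    letI : Z'.Over (Spec (CommRingCat.of A)) := ⟨fS J ≫ (Z ↘ Spec (CommRingCat.of A))⟩
    refine finite_HH_pushforward (fS J) A rfl (L J d₀) (hd₀ d₀ le_rfl) p ?_
    obtain ⟨j', hj'c, hj'⟩ := exists_closedImmersion_projSpace A n j
    haveI := hj'c
    have hover : j' ≫ (CohB1.ProjSpace n A ↘ Spec (CommRingCat.of A)) =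
        Z' ↘ Spec (CommRingCat.of A) := hj'.trans hj
    have h1 := Groth.Agent.Lib.T2H5.PnFinite.finite_HH n A _
      (Groth.Agent.Lib.T2H5.ClosedTransfer.isCoh_pushforward j' _ (isCoh_L J d₀)) p
    exact (finite_HH_closed j' A hover (L J d₀) p).2 h1

end Witness

section Main

open Groth.Agent.Lib.T2H5.Devissage

/-- **Finiteness of coherent cohomology on a scheme proper over a Noetherian ring.** -/
theorem finite_HH_of_isProper (A : Type u) [CommRing A] [IsNoetherianRing A] (X : Scheme.{u})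
    [X.Over (Spec (CommRingCat.of A))] [IsProper (X ↘ Spec (CommRingCat.of A))]
    (M : X.Modules) (hM : Coh.IsCoh M) (n : ℕ) : Module.Finite A (Coh.HH X M n) := by
  haveI : IsNoetherian X :=
    { __ := LocallyOfFiniteType.isLocallyNoetherian (X ↘ Spec (CommRingCat.of A))
      toCompactSpace := QuasiCompact.compactSpace_of_compactSpace (X ↘ Spec (CommRingCat.of A)) }
  by_cases hne : Nonempty X
  · let K : ObjectProperty X.Modules := fun F => ∀ p : ℕ, Module.Finite A (Coh.HH X F p)
    haveI : K.IsClosedUnderIsomorphisms := ⟨fun e h p => finite_HH_of_iso e.symm p (h p)⟩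
    refine Groth.Agent.S10865.result X K ?_ ?_ ?_ M hM n
    · intro S hS _ _ _
      exact ⟨fun k2 k3 p => finite_HH_X₁ S hS k2 k3 p, fun k1 k3 p => finite_HH_X₂ S hS p (k1 p) (k3 p)⟩
    · intro F d hd _ hK p
      exact finite_HH_of_retract (Sigma.ι (fun _ : Fin d => F) ⟨0, hd⟩)
        (Sigma.desc (fun _ => 𝟙 F)) (Sigma.ι_desc _ _) p (hK p)
    · intro Z i _ _
      letI : Z.Over (Spec (CommRingCat.of A)) := ⟨i ≫ (X ↘ Spec (CommRingCat.of A))⟩
      haveI : IsProper (Z ↘ Spec (CommRingCat.of A)) :=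
        (inferInstance : IsProper (i ≫ (X ↘ Spec (CommRingCat.of A))))
      obtain ⟨H, hH, hHη, hfin⟩ := exists_witness A Z
      exact ⟨H, hH, hHη, fun p => (finite_HH_closed i A rfl H p).1 (hfin p)⟩
  · have hz : IsZero M := by
      refine isZero_of_support_eq_empty M ?_
      rw [Set.eq_empty_iff_forall_notMem]
      exact fun x _ => hne ⟨x⟩
    haveI := Groth.Agent.Lib.T2H5.Chevalley.subsingleton_HH_of_isZero hz n
    infer_instance

end Main

end Groth.Agent.Lib.T2H5.T2Main
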