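import Mathlib
import Groth.Agent.Lib.T2H5RpushQCoh
import Groth.Agent.Lib.T2H5T2Main
import Groth.Agent.Lib.T2H5T2Coh
import Groth.Agent.Lib.Helper23FinTypeLocal
import Groth.Agent.Lib.Helper23FinType2

/-!
# T2H5RpushCoh: higher direct images of coherent modules along proper morphisms to locally Noetherian schemes
are coherent (helper5)
-/

set_option autoImplicit false
set_option linter.style.haveILetI false
set_option linter.unusedSectionVars false
universe u
open CategoryTheory CategoryTheory.Limits Opposite TopologicalSpace AlgebraicGeometry Abelian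

namespace Groth.Agent.Lib.T2H5.RpushCoh

open Groth.Agent.Lib.Helper23.FLoc Groth.Agent.Lib.Helper23.AffVanish Groth.Agent.Lib.Helper6
open Groth.Agent.Lib.Helper23.FLocSch Groth.Agent.Lib.T2H5.LocQS Groth.Agent.Lib.T2H5.RpushSect
open Groth.Agent.Lib.T2H5.RpushAffine Groth.Agent.Lib.T2H5.NatCmp Groth.Agent.Lib.T2H5.RpushQCoh

section Alg

/-- finiteness transfers backwards along an additive bijection which is semilinear in the weak sense that
every scalar of the target is matched by some scalar of the source -/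
theorem finite_of_semilinear_bijective {R A P Q : Type*} [CommRing R] [CommRing A] [AddCommGroup P]
    [AddCommGroup Q] [Module R P] [Module A Q] (χ : P →+ Q) (hχ : Function.Bijective χ)
    (hlin : ∀ a : A, ∃ r : R, ∀ p : P, χ (r • p) = a • χ p) (h : Module.Finite A Q) :
    Module.Finite R P := by
  classical
  obtain ⟨S, hS⟩ := h.fg_top
  let e : P ≃+ Q := AddEquiv.ofBijective χ hχ
  refine ⟨⟨S.image e.symm, ?_⟩⟩
  rw [eq_top_iff]
  rintro x -
  obtain ⟨y, rfl⟩ := e.symm.surjective x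
  have hy : y ∈ Submodule.span A (S : Set Q) := by rw [hS]; trivial
  induction hy using Submodule.span_induction with
  | mem z hz => exact Submodule.subset_span (Finset.mem_image_of_mem e.symm hz)
  | zero => rw [map_zero]; exact Submodule.zero_mem _
  | add a b _ _ ha hb => rw [map_add]; exact Submodule.add_mem _ ha hb
  | smul a z _ hz =>
    obtain ⟨r, hr⟩ := hlin a
    have : e.symm (a • z) = r • e.symm z := by
      apply e.injective
      rw [e.apply_symm_apply]
      have h1 : e (r • e.symm z) = a • e (e.symm z) := hr (e.symm z)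
      rw [h1, e.apply_symm_apply]
    rw [this]; exact Submodule.smul_mem _ _ hz

end Alg

section AffineBase

variable {U V : Scheme.{u}} (h : U ⟶ V) [IsProper h] [IsAffine V] [IsLocallyNoetherian V]
  (N : U.Modules) (hN : Coh.IsCoh N) (n : ℕ)

/-- the structure morphism to the spectrum of the global functions of the base -/
noncomputable def toSpecBase : U ⟶ Spec (CommRingCat.of Γ(V, ⊤)) := h ≫ V.isoSpec.hom

instance : IsProper (toSpecBase h) := by
  dsimp only [toSpecBase]
  infer_instance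

theorem toGlobal_toSpecBase (a : Γ(V, ⊤)) : Coh.toGlobal (toSpecBase h) a = h.appTop.hom a := by
  have h1 : (Scheme.ΓSpecIso (CommRingCat.of Γ(V, ⊤))).inv ≫ (toSpecBase h).appTop = h.appTop := by
    dsimp only [toSpecBase]
    rw [Scheme.Hom.comp_appTop, Scheme.isoSpec_hom, Scheme.toSpecΓ_appTop]
    exact Iso.inv_hom_id_assoc _ _
  exact ConcreteCategory.congr_hom h1 a

instance : IsNoetherianRing Γ(V, ⊤) :=
  IsLocallyNoetherian.component_noetherian ⟨⊤, isAffineOpen_top V⟩

include hN in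
theorem finite_HH (q : ℕ) :
    letI : U.Over (Spec (CommRingCat.of Γ(V, ⊤))) := ⟨toSpecBase h⟩
    Module.Finite Γ(V, ⊤) (Coh.HH U N q) := by
  letI : U.Over (Spec (CommRingCat.of Γ(V, ⊤))) := ⟨toSpecBase h⟩
  haveI : IsProper (U ↘ Spec (CommRingCat.of Γ(V, ⊤))) := inferInstanceAs (IsProper (toSpecBase h))
  exact Groth.Agent.Lib.T2H5.T2Main.finite_HH_of_isProper Γ(V, ⊤) U N hN q

theorem top_le_preimage_top : (⊤ : U.Opens) ≤ h ⁻¹ᵁ ⊤ := le_of_eq rfl

/-- `toM`, as an additive map -/
noncomputable def toMHom (W : U.Opens) (q : ℕ) : HE (ab' N) q W →+ HM N q W where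
  toFun := toM (σM N)
  map_zero' := rfl
  map_add' _ _ := rfl

/-- the comparison `cc` over the whole base, as an additive equivalence -/
noncomputable def ccE [N.IsQuasicoherent] :
    HE (ab' N) (n + 1) (h ⁻¹ᵁ ⊤) ≃+ (T' h N n).obj.obj (op ⊤) :=
  AddEquiv.ofBijective (cc h N n ⊤) (cc_bijective h N n ⊤ (isAffineOpen_top V))

theorem ccE_apply [N.IsQuasicoherent] (α : HE (ab' N) (n + 1) (h ⁻¹ᵁ ⊤)) :
    ccE h N n α = cc h N n ⊤ α := rfl

/-- the comparison between the sections over the whole (affine) base of the abelian higher direct image and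
the cohomology of the source -/
noncomputable def χ₀ [N.IsQuasicoherent] : (T' h N n).obj.obj (op ⊤) →+ Coh.HH U N (n + 1) :=
  (topL N (n + 1)).toAddMonoidHom.comp
    ((rL N (top_le_preimage_top h) (n + 1)).toAddMonoidHom.comp
      ((toMHom N (h ⁻¹ᵁ ⊤) (n + 1)).comp (ccE h N n).symm.toAddMonoidHom))

theorem χ₀_apply [N.IsQuasicoherent] (t : (T' h N n).obj.obj (op ⊤)) :
    χ₀ h N n t = topL N (n + 1) (rL N (top_le_preimage_top h) (n + 1)
      (toM (σM N) ((ccE h N n).symm t))) := rfl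

theorem χ₀_bijective [N.IsQuasicoherent] : Function.Bijective (χ₀ h N n) := by
  have h1 : Function.Bijective (ccE h N n).symm := (ccE h N n).symm.bijective
  have h2 : Function.Bijective (rL N (top_le_preimage_top h) (n + 1)) :=
    resE_bijective_of_eq (ab' N) (n + 1) (top_le_preimage_top h) rfl
  exact (topL_bijective N (n + 1)).comp (h2.comp h1)

theorem χ₀_smul [N.IsQuasicoherent] (r : Γ(U, ⊤)) (t : (T' h N n).obj.obj (op ⊤)) :
    χ₀ h N n (((θr h N n r).hom.app (op ⊤)).hom t) = gt r • χ₀ h N n t := by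
  obtain ⟨α, rfl⟩ := (ccE h N n).surjective t
  have h1 := cc_smul h N n ⊤ r (toM (σM N) α)
  have h3 : (ccE h N n).symm (((θr h N n r).hom.app (op ⊤)).hom (ccE h N n α)) =
      ofM (σM N) (r • toM (σM N) α) := by
    rw [AddEquiv.symm_apply_eq]
    exact h1.symm
  rw [χ₀_apply, χ₀_apply, h3, AddEquiv.symm_apply_apply]
  have h4 : toM (σM N) (ofM (σM N) (r • toM (σM N) α)) = r • toM (σM N) α := rfl
  rw [h4, map_smul, map_smul]
  rfl

include hN in
/-- **Key finiteness**: any module over the global functions of the (affine, Noetherian) base which is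
semilinearly in bijection with the global sections of the abelian higher direct image is finite. -/
theorem finite_of_equiv_T' {P : Type*} [AddCommGroup P] [Module Γ(V, ⊤) P]
    (e : P →+ (T' h N n).obj.obj (op ⊤)) (he : Function.Bijective e)
    (hsm : ∀ (r : Γ(V, ⊤)) (p : P), e (r • p) = ((θr h N n (h.appTop.hom r)).hom.app (op ⊤)).hom (e p)) :
    Module.Finite Γ(V, ⊤) P := by
  haveI : N.IsQuasicoherent := hN.1
  letI : U.Over (Spec (CommRingCat.of Γ(V, ⊤))) := ⟨toSpecBase h⟩
  have hfin : Module.Finite Γ(V, ⊤) (Coh.HH U N (n + 1)) := finite_HH h N hN (n + 1)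
  refine finite_of_semilinear_bijective (A := Γ(V, ⊤)) ((χ₀ h N n).comp e)
    ((χ₀_bijective h N n).comp he) (fun a => ⟨a, fun p => ?_⟩) hfin
  change χ₀ h N n (e (a • p)) = a • χ₀ h N n (e p)
  rw [hsm, χ₀_smul]
  change _ = (Coh.toGlobal (toSpecBase h) a) • χ₀ h N n (e p)
  rw [toGlobal_toSpecBase]
  rfl

end AffineBase

section Main

open Groth.Agent.Lib.Helper2.Push Groth.Agent.Lib.Helper23.QCohLocal Groth.Agent.Lib.T2H5.RpushRestr
open Groth.Agent.Lib.Helper23.FinType

variable {X S : Scheme.{u}} (f : X ⟶ S) [IsProper f] [IsLocallyNoetherian S]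
  [HasInjectiveResolutions X.Modules] (M : X.Modules) (hM : Coh.IsCoh M) (n : ℕ)

include hM in
theorem isCoh_restrict_preimage (V : S.Opens) : Coh.IsCoh (M.restrict (f ⁻¹ᵁ V).ι) := by
  haveI : M.IsQuasicoherent := hM.1
  haveI : SheafOfModules.IsFiniteType (R := X.ringCatSheaf) M := hM.2
  exact ⟨Scheme.Modules.isQuasicoherent_restrictFunctor (f ⁻¹ᵁ V).ι M,
    isFiniteType_restrict (f ⁻¹ᵁ V).ι M⟩

include hM in
/-- the sections over the whole of an affine open of the base of the restriction of a positive-degree higher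
direct image form a finite module -/
theorem finite_restrict_top (V : S.Opens) (hV : IsAffineOpen V) :
    Module.Finite Γ((↑V : Scheme.{u}), ⊤) Γ(((Coh.Rpush f (n + 1)).obj M).restrict V.ι, ⊤) := by
  haveI : IsAffine (↑V : Scheme.{u}) := hV
  haveI : IsProper (f ∣_ V) := MorphismProperty.of_isPullback (isPullback_morphismRestrict f V).flip inferInstance
  have hN := isCoh_restrict_preimage f M hM V
  obtain ⟨Ξ, hΞ⟩ := exists_iso_restrict f V M (n + 1)
  let Ξ' : Coh.toAb (((Coh.Rpush f (n + 1)).obj M).restrict V.ι) ≅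
      T' (f ∣_ V) (M.restrict (f ⁻¹ᵁ V).ι) n := Ξ
  have hcomm : ∀ r : Γ((↑V : Scheme.{u}), ⊤),
      Coh.smulAb (((Coh.Rpush f (n + 1)).obj M).restrict V.ι) (gt r) ≫ Ξ'.hom =
        Ξ'.hom ≫ θr (f ∣_ V) (M.restrict (f ⁻¹ᵁ V).ι) n ((f ∣_ V).appTop.hom r) := fun r => hΞ (gt r)
  refine finite_of_equiv_T' (f ∣_ V) (M.restrict (f ⁻¹ᵁ V).ι) hN n
    (P := Γ(((Coh.Rpush f (n + 1)).obj M).restrict V.ι, ⊤))
    (Ξ'.hom.hom.app (op ⊤)).hom ?_ (fun r p => ?_)
  · exact ConcreteCategory.bijective_of_isIso (Ξ'.hom.hom.app (op ⊤))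
  · have h1 := smul_eq_of_comm _ (T' (f ∣_ V) (M.restrict (f ⁻¹ᵁ V).ι) n) Ξ'
      (fun r => θr (f ∣_ V) (M.restrict (f ⁻¹ᵁ V).ι) n ((f ∣_ V).appTop.hom r)) hcomm r ⊤ p
    have h3 : ((↑V : Scheme.{u}).presheaf.map (homOfLE (le_top : (⊤ : (↑V : Scheme.{u}).Opens) ≤ ⊤)).op).hom r = r := by
      have : (homOfLE (le_top : (⊤ : (↑V : Scheme.{u}).Opens) ≤ ⊤)).op = 𝟙 (op (⊤ : (↑V : Scheme.{u}).Opens)) := rfl
      rw [this, (↑V : Scheme.{u}).presheaf.map_id]
      rfl
    rw [h3] at h1
    rw [← h1]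
    exact Groth.Agent.Lib.Lead.RpushCmp.iso_inv_hom_apply Ξ' ⊤ _

include hM in
/-- positive degrees -/
theorem isCoh_Rpush_succ : Coh.IsCoh ((Coh.Rpush f (n + 1)).obj M) := by
  haveI : M.IsQuasicoherent := hM.1
  haveI hq : ((Coh.Rpush f (n + 1)).obj M).IsQuasicoherent := isQuasicoherent_Rpush f M (n + 1)
  refine ⟨hq, ?_⟩
  refine isFiniteType_of_open_cover _ (fun V : S.affineOpens => (V : S.Opens))
    (iSup_affineOpens_eq_top S) (fun V => ?_)
  haveI : IsAffine (↑(V : S.Opens) : Scheme.{u}) := V.2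
  haveI : (((Coh.Rpush f (n + 1)).obj M).restrict (V : S.Opens).ι).IsQuasicoherent :=
    Scheme.Modules.isQuasicoherent_restrictFunctor (V : S.Opens).ι _
  refine isFiniteType_of_finite _ (fun _ : PUnit.{u + 1} => (⊤ : (↑(V : S.Opens) : Scheme.{u}).Opens)) ?_
    (fun _ => isAffineOpen_top _) (fun _ => finite_restrict_top f M hM n V.1 V.2)
  rw [IsOpenCover, eq_top_iff]
  exact le_iSup (fun _ : PUnit.{u + 1} => (⊤ : (↑(V : S.Opens) : Scheme.{u}).Opens)) PUnit.unit

include hM in
/-- degree zero -/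
theorem isCoh_pushforward : Coh.IsCoh ((Scheme.Modules.pushforward f).obj M) := by
  haveI : M.IsQuasicoherent := hM.1
  haveI hq : ((Scheme.Modules.pushforward f).obj M).IsQuasicoherent := isQuasicoherent_pushforward f M
  refine ⟨hq, ?_⟩
  refine isFiniteType_of_finite _ (fun V : S.affineOpens => (V : S.Opens)) (iSup_affineOpens_eq_top S)
    (fun V => V.2) (fun V => ?_)
  haveI : IsNoetherianRing Γ(S, (V : S.Opens)) := IsLocallyNoetherian.component_noetherian V
  haveI : IsProper (f ∣_ (V : S.Opens)) :=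
    MorphismProperty.of_isPullback (isPullback_morphismRestrict f (V : S.Opens)).flip inferInstance
  letI inst : (↑(f ⁻¹ᵁ (V : S.Opens)) : Scheme.{u}).Over (Spec (CommRingCat.of Γ(S, (V : S.Opens)))) :=
    ⟨Groth.Agent.Lib.T2H5.T2Coh.g₀ f (U := (V : S.Opens))⟩
  have hinst : ((↑(f ⁻¹ᵁ (V : S.Opens)) : Scheme.{u}) ↘ Spec (CommRingCat.of Γ(S, (V : S.Opens)))) ≫
      V.2.fromSpec = (f ⁻¹ᵁ (V : S.Opens)).ι ≫ f := Groth.Agent.Lib.T2H5.T2Coh.g₀_fromSpec f V.2
  have hg : Groth.Agent.Lib.T2H5.T2Coh.g₀ f (U := (V : S.Opens)) = f ∣_ (V : S.Opens) ≫ V.2.isoSpec.hom := by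
    refine (Groth.Agent.Lib.T2H5.T2Coh.eq_g₀ f V.2 _ ?_).symm
    rw [Category.assoc, IsAffineOpen.isoSpec_hom_fromSpec, morphismRestrict_ι]
  haveI : IsProper ((↑(f ⁻¹ᵁ (V : S.Opens)) : Scheme.{u}) ↘ Spec (CommRingCat.of Γ(S, (V : S.Opens)))) := by
    change IsProper (Groth.Agent.Lib.T2H5.T2Coh.g₀ f (U := (V : S.Opens)))
    rw [hg]
    infer_instance
  exact Groth.Agent.Lib.T2H5.T2Coh.finite_sections_pushforward f V.2 M hinst
    (Groth.Agent.Lib.T2H5.T2Main.finite_HH_of_isProper Γ(S, (V : S.Opens)) _ _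
      (isCoh_restrict_preimage f M hM (V : S.Opens)) 0)

include hM in
/-- **Higher direct images of coherent modules along proper morphisms to locally Noetherian schemes are
coherent.** -/
theorem isCoh_Rpush (p : ℕ) : Coh.IsCoh ((Coh.Rpush f p).obj M) := by
  cases p with
  | zero =>
    haveI : PreservesFiniteLimits (Scheme.Modules.pushforward f) := by
      haveI := (Scheme.Modules.pullbackPushforwardAdjunction f).rightAdjoint_preservesLimits
      infer_instance
    have e : (Coh.Rpush f 0).obj M ≅ (Scheme.Modules.pushforward f).obj M :=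
      (Scheme.Modules.pushforward f).rightDerivedZeroIsoSelf.app M
    exact Groth.Agent.Lib.T2H5.Devissage.isCoh_of_iso e.symm (isCoh_pushforward f M hM)
  | succ n => exact isCoh_Rpush_succ f M hM n

end Main

end Groth.Agent.Lib.T2H5.RpushCoh
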