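import Mathlib
import Groth.Agent.S0786
import Groth.Agent.Lib.T2H5RpushCoh
import Groth.Agent.Lib.T2H5RpushClosed
import Groth.Agent.Lib.T2H5AnnIdeal
import Groth.Agent.Lib.T2H5ProperThick

/-!
# T2H5ProperSupport: higher direct images of a coherent module with proper support are coherent (helper5)
-/

set_option autoImplicit false
set_option linter.style.haveILetI false
set_option linter.unusedSectionVars false
universe u
open CategoryTheory CategoryTheory.Limits Opposite TopologicalSpace AlgebraicGeometry

namespace Groth.Agent.Lib.T2H5.ProperSupport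

open Groth.Agent.Lib.T2H5.AnnIdeal Groth.Agent.Lib.T2H5.RpushClosed Groth.Agent.Lib.T2H5.ProperThick
open Groth.Agent.Lib.T2H5.RpushCoh

theorem isCoh_Rpush_of_properSupport {X S : Scheme.{u}} (f : X ⟶ S) [LocallyOfFiniteType f]
    [IsLocallyNoetherian S] [HasInjectiveResolutions X.Modules] (F : X.Modules) (hF : Coh.IsCoh F)
    (hs : ClSub.IsProperOver f (CohB1.support F)) (p : ℕ) : Coh.IsCoh ((Coh.Rpush f p).obj F) := by
  haveI := hF.1
  haveI : SheafOfModules.IsFiniteType (R := X.ringCatSheaf) F := hF.2
  obtain ⟨hZ, hprop⟩ := hs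
  have hsupp : ((annIdeal F).support : Set X) = CohB1.support F := support_annIdeal F
  have hle : annIdeal F ≤ Scheme.IdealSheafData.vanishingIdeal ⟨CohB1.support F, hZ⟩ := by
    rw [← Scheme.IdealSheafData.le_support_iff_le_vanishingIdeal]
    intro x hx
    change x ∈ ((annIdeal F).support : Set X)
    rw [hsupp]
    exact hx
  let g := Scheme.IdealSheafData.inclusion hle
  have hg : g ≫ (annIdeal F).subschemeι =
      (Scheme.IdealSheafData.vanishingIdeal ⟨CohB1.support F, hZ⟩).subschemeι :=
    Scheme.IdealSheafData.inclusion_subschemeι hle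
  haveI : IsClosedImmersion g := by
    haveI : IsClosedImmersion (g ≫ (annIdeal F).subschemeι) := by rw [hg]; infer_instance
    exact IsClosedImmersion.of_comp g (annIdeal F).subschemeι
  haveI : Surjective g := by
    refine ⟨fun z' => ?_⟩
    have h1 : (annIdeal F).subschemeι z' ∈
        Set.range (Scheme.IdealSheafData.vanishingIdeal ⟨CohB1.support F, hZ⟩).subschemeι := by
      rw [Scheme.IdealSheafData.range_subschemeι, Scheme.IdealSheafData.coe_support_vanishingIdeal]
      change _ ∈ CohB1.support F
      rw [← hsupp, ← Scheme.IdealSheafData.range_subschemeι]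
      exact ⟨z', rfl⟩
    obtain ⟨z, hz⟩ := h1
    refine ⟨z, ?_⟩
    apply (annIdeal F).subschemeι.isClosedEmbedding.injective
    rw [← hz, ← hg]
    rfl
  haveI : IsProper (g ≫ ((annIdeal F).subschemeι ≫ f)) := by
    rw [← Category.assoc, hg]
    exact hprop
  haveI : IsProper ((annIdeal F).subschemeι ≫ f) :=
    isProper_of_comp_surjective_closedImmersion g ((annIdeal F).subschemeι ≫ f)
  haveI : IsLocallyNoetherian X := LocallyOfFiniteType.isLocallyNoetherian f
  obtain ⟨G, hG, ⟨e⟩⟩ := Groth.Agent.S0786.result (annIdeal F).subschemeι F hF (by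
    rw [Scheme.IdealSheafData.ker_subschemeι]
    exact killedBy_annIdeal F)
  haveI := hasInjectiveResolutions_modules (annIdeal F).subscheme
  obtain ⟨e2⟩ := nonempty_Rpush_comp_iso (annIdeal F).subschemeι f G p
  have h1 := isCoh_Rpush ((annIdeal F).subschemeι ≫ f) G hG p
  exact Groth.Agent.Lib.T2H5.Devissage.isCoh_of_iso (e2 ≪≫ (Coh.Rpush f p).mapIso e) h1

end Groth.Agent.Lib.T2H5.ProperSupport
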