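import Groth.Agent.Lib.T2H6VAmpleD

/-!
# helper6 (team 2): for `L` ample and `E` invertible, `L^n ⊗ E` is very ample for all large `n`
-/

set_option autoImplicit false
set_option linter.unusedSectionVars false
universe u

open CategoryTheory CategoryTheory.Limits AlgebraicGeometry TopologicalSpace Opposite

namespace Groth.Agent.Lib.T2H6.VAmpleE

open Groth.Agent.Lib.Helper23.SecTw Groth.Agent.Lib.Helper6 Groth.Agent.Lib.Helper23.GenLocus
open Groth.Agent.Lib.Helper23.Extend Groth.Agent.Lib.Helper23.TensorUnit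
open Groth.Agent.Lib.T2H6.VAmple Groth.Agent.Lib.T2H6.VAmpleB Groth.Agent.Lib.T2H6.VAmpleD

variable {X S : Scheme.{u}}

/-- for `L` ample and `E` invertible, `E ⊗ L^N` is generated by finitely many global sections for all large `N`. -/
theorem exists_finite_generators_eventually (L : X.Modules) (hL : CohB1.IsAmple L) (E : X.Modules)
    (hE : PicF.IsInvertible E) :
    ∃ M₀ : ℕ, ∀ N, M₀ ≤ N → ∃ (m : ℕ) (s : Fin m → ProjUP.Γm (CohB1.tensorMod E (CohB1.tensorPow L N))),
      ProjUP.GeneratedBy _ s := by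
  classical
  haveI := hL.2.1
  have h := fun x : X => exists_sections_eventually L hL E hE {x} (Set.finite_singleton x)
  choose V N₀ hxV hs using h
  obtain ⟨T, hT⟩ := isCompact_univ.elim_finite_subcover (fun x => ((V x : X.Opens) : Set X))
    (fun x => (V x).2) (fun x _ => Set.mem_iUnion.2 ⟨x, hxV x rfl⟩)
  refine ⟨T.sup N₀, fun N hN => ?_⟩
  have h2 : ∀ x : T, ∃ s : Coh.structureModule X ⟶ CohB1.tensorMod E (CohB1.tensorPow L N),
      V x ≤ CohB1.genLocus _ s := fun x => hs x N ((Finset.le_sup x.2).trans hN)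
  choose σ hσ using h2
  let e := Fintype.equivFin T
  refine ⟨Fintype.card T, fun a => sv (σ (e.symm a)) ⊤, ?_⟩
  refine generatedBy_of_cover _ _ (fun y => ?_)
  obtain ⟨x, hx⟩ := Set.mem_iUnion.1 (hT (Set.mem_univ y))
  obtain ⟨hxT, hy⟩ := Set.mem_iUnion.1 hx
  refine ⟨e ⟨x, hxT⟩, ?_⟩
  rw [secHom_sv, e.symm_apply_apply]
  exact hσ ⟨x, hxT⟩ hy

/-- **`L^n ⊗ E` is very ample for all large `n`** (`L` ample, `E` invertible, `q` locally of finite type). -/
theorem eventually_veryAmple (q : X ⟶ S) [LocallyOfFiniteType q] (L : X.Modules) (hL : CohB1.IsAmple L)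
    (E : X.Modules) (hE : PicF.IsInvertible E) :
    ∃ n₀ : ℕ, ∀ n, n₀ ≤ n →
      RelAmple.IsRelVeryAmplePn q (CohB1.tensorMod (CohB1.tensorPow L n) E) := by
  have hLi := hL.1
  obtain ⟨d, hd, N₀, hN₀⟩ := exists_pow_veryAmple q L hL
  obtain ⟨M₀, hM₀⟩ := exists_finite_generators_eventually L hL E hE
  set A := d * max N₀ 1 with hA
  have hva : RelAmple.IsRelVeryAmplePn q (CohB1.tensorPow L A) :=
    hN₀ _ (le_max_left _ _) (lt_of_lt_of_le Nat.zero_lt_one (le_max_right _ _))
  refine ⟨A + M₀, fun n hn => ?_⟩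
  obtain ⟨m, s, hs⟩ := hM₀ (n - A) (by omega)
  have h1 := veryAmple_tensor' q (CohB1.tensorPow L A) (CohB1.tensorMod E (CohB1.tensorPow L (n - A)))
    (isInvertible_tensorPow hLi A) hva (isInvertible_tensorMod hE (isInvertible_tensorPow hLi _)) s hs
  obtain ⟨Φ₁⟩ := nonempty_tensorMod_comm_iso (CohB1.tensorPow L A)
    (CohB1.tensorMod E (CohB1.tensorPow L (n - A))) (isInvertible_tensorPow hLi A)
    (isInvertible_tensorMod hE (isInvertible_tensorPow hLi _))
  obtain ⟨Φ₂⟩ := nonempty_tensorMod_tensorPow_add_iso E L hE hLi (n - A) A n (by omega)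
  obtain ⟨Φ₃⟩ := nonempty_tensorMod_comm_iso E (CohB1.tensorPow L n) hE (isInvertible_tensorPow hLi n)
  exact of_iso q (Φ₁ ≪≫ Φ₂ ≪≫ Φ₃) h1

/-- **`L^n` is very ample for all large `n`** (`L` ample, `q` locally of finite type). -/
theorem eventually_veryAmple_pow (q : X ⟶ S) [LocallyOfFiniteType q] (L : X.Modules) (hL : CohB1.IsAmple L) :
    ∃ n₀ : ℕ, ∀ n, n₀ ≤ n → RelAmple.IsRelVeryAmplePn q (CohB1.tensorPow L n) := by
  obtain ⟨n₀, h⟩ := eventually_veryAmple q L hL (Coh.structureModule X) (isInvertible_structureModule X)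
  exact ⟨n₀, fun n hn => of_iso q (tensorUnitIso _) (h n hn)⟩

end Groth.Agent.Lib.T2H6.VAmpleE
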