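import Mathlib
import Groth.Agent.Lib.T2H5T2Van
import Groth.Agent.Lib.T2H5AmplePn
import Groth.Agent.Lib.T2H5ProjFLF6
import Groth.Agent.Lib.Helper23PB
import Groth.Agent.Lib.Helper23AmpleIso
import Groth.Agent.Lib.Helper23SecTw6
import Groth.Agent.Lib.Helper23RestrTensor
import Groth.Agent.Lib.Helper23TensorQCoh
import Groth.Agent.Lib.Helper20ZClos20
import Groth.Agent.Lib.Helper21ModTensor6
import Groth.Agent.Lib.T2H5RpushCoh
import Groth.Agent.S2330
set_option backward.isDefEq.respectTransparency.types false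

/-!
# T2H5AmpleSerre: Serre vanishing for an ample invertible module on a scheme proper over a Noetherian affine
scheme (helper5)
-/

set_option autoImplicit false
set_option linter.style.haveILetI false
set_option linter.unusedSectionVars false
universe u
open CategoryTheory CategoryTheory.Limits AlgebraicGeometry TopologicalSpace Opposite

namespace Groth.Agent.Lib.T2H5.AmpleSerre

open Groth.Agent.Lib.Helper1.PT Groth.Agent.Lib.Helper21.ModTensor2 Groth.Agent.Lib.Helper21.ModTensor3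
  Groth.Agent.Lib.Helper21.ModTensor6 Groth.Agent.Lib.T2H5.ProjFLF
  Groth.Agent.Lib.T2H6 Groth.Agent.Lib.T2H6.HProjChart

section TensorPow

variable {X : Scheme.{u}}

/-- `L^a ⊗ L^b ≅ L^(a+b)`, for any module `L` -/
theorem nonempty_tensorPow_add_iso (L : X.Modules) (a : ℕ) :
    ∀ b : ℕ, Nonempty (tens (CohB1.tensorPow L a) (CohB1.tensorPow L b) ≅ CohB1.tensorPow L (a + b))
  | 0 => ⟨tensUnitRight _⟩
  | b + 1 => by
    obtain ⟨e⟩ := nonempty_tensorPow_add_iso L a b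
    exact ⟨((tLTensorIso X.sheaf (CohB1.tensorPow L a) (CohB1.tensorPow L b)).app L).symm ≪≫
      (DCoh.tensorBi.mapIso e).app L⟩

/-- `M ⊗ L^(a+b) ≅ (M ⊗ L^a) ⊗ L^b` -/
theorem nonempty_tensor_tensorPow_add_iso (M L : X.Modules) (a b : ℕ) :
    Nonempty (tens M (CohB1.tensorPow L (a + b)) ≅
      tens (tens M (CohB1.tensorPow L a)) (CohB1.tensorPow L b)) := by
  obtain ⟨e⟩ := nonempty_tensorPow_add_iso L a b
  exact ⟨(DCoh.tensorBi.obj M).mapIso e.symm ≪≫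
    ((tLTensorIso X.sheaf M (CohB1.tensorPow L a)).app (CohB1.tensorPow L b)).symm⟩

theorem isCoh_tensor_tensorPow (M L : X.Modules) (hM : Coh.IsCoh M) (hL : PicF.IsInvertible L) (r : ℕ) :
    Coh.IsCoh (CohB1.tensorMod M (CohB1.tensorPow L r)) := by
  have hLr := Groth.Agent.Lib.Helper23.SecTw.isInvertible_tensorPow hL r
  haveI : M.IsQuasicoherent := hM.1
  haveI : SheafOfModules.IsFiniteType (R := X.ringCatSheaf) M := hM.2
  haveI : (CohB1.tensorPow L r).IsQuasicoherent :=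
    Groth.Agent.Lib.Helper23.SecTw.isQuasicoherent_of_isInvertible _ hLr
  haveI : SheafOfModules.IsFiniteType (R := X.ringCatSheaf) (CohB1.tensorPow L r) :=
    Groth.Agent.Lib.Helper20.ZClosLib.isFiniteType_of_isInvertible _ hLr
  exact ⟨Groth.Agent.Lib.Helper23.TensorQCoh.isQuasicoherent_tensorMod _ _,
    Groth.Agent.Lib.Helper23.TensorQCoh.isFiniteType_tensorMod _ _⟩

end TensorPow

section Embedded

variable {Y : Scheme.{u}} {m : ℕ} {X : Scheme.{u}} (i : X ⟶ CohB1.ProjSpaceOver m Y)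

/-- the powers of a module isomorphic to `i^* O(1)` are the `i^* O(d)` -/
theorem nonempty_tensorPow_iso_L (P : X.Modules)
    (e : P ≅ (Scheme.Modules.pullback i).obj (Twist.twistOver m Y 1)) (d : ℕ) :
    Nonempty (CohB1.tensorPow P d ≅ T2Van.L i (d : ℤ)) := by
  have hinv : PicF.IsInvertible (Twist.twistProjSpace m Z₀.{u} 1) :=
    Groth.Agent.Lib.T2H5.Twist.isInvertible_twist m Z₀.{u} 1
  let e1 : P ≅ (Scheme.Modules.pullback (gZ i)).obj (Twist.twistProjSpace m Z₀.{u} 1) :=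
    e ≪≫ (Scheme.Modules.pullbackComp i
      (pullback.fst (CohB1.ProjSpace.toSpec m Z₀.{u}) (tS Y))).app (Twist.twistProjSpace m Z₀.{u} 1)
  obtain ⟨e2⟩ := Groth.Agent.Lib.Helper23.PB.nonempty_pullback_tensorPow_iso (gZ i)
    (Twist.twistProjSpace m Z₀.{u} 1) hinv d
  obtain ⟨e3⟩ : Nonempty (CohB1.tensorPow (Twist.twistProjSpace m Z₀.{u} 1) d ≅
      Twist.twistProjSpace m Z₀.{u} (d : ℤ)) := by
    have h := Groth.Agent.Lib.T2H5.AmplePn.nonempty_tensorPow_twist_iso m Z₀.{u} 1 d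
    rwa [mul_one] at h
  exact ⟨Groth.Agent.Lib.Helper23.AmpleIso.tensorPowIso e1 d ≪≫ e2.symm ≪≫
    (Scheme.Modules.pullback (gZ i)).mapIso e3⟩

end Embedded

section SV

open Groth.Agent.Lib.Helper23.AffVanish Groth.Agent.Lib.Helper23.RestrTensor

variable {X Y : Scheme.{u}}

theorem isCoh_restrict (M : X.Modules) (hM : Coh.IsCoh M) (W : X.Opens) : Coh.IsCoh (M.restrict W.ι) := by
  haveI : M.IsQuasicoherent := hM.1
  haveI : SheafOfModules.IsFiniteType (R := X.ringCatSheaf) M := hM.2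
  exact ⟨Scheme.Modules.isQuasicoherent_restrictFunctor W.ι M,
    Groth.Agent.Lib.Helper23.FinType.isFiniteType_restrict W.ι M⟩

/-- cohomology of the restriction to the whole space -/
theorem subsingleton_HH_of_restrict_top (G : X.Modules) (p : ℕ) (W : X.Opens) (hW : W = ⊤)
    (h : Subsingleton (Coh.HH (↑W : Scheme.{u}) (G.restrict W.ι) p)) : Subsingleton (Coh.HH X G p) := by
  subst hW
  obtain ⟨e1⟩ : Nonempty (HE (ab' G) p ⊤ ≃+ Coh.HHon X G ⊤ p) :=
    Groth.Agent.Lib.Helper16.Restr.nonempty_HU_equiv (X := X.carrier) ⊤ (Coh.toAb G) p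
  have h2 : Subsingleton (HE (ab' G) p ⊤) := e1.toEquiv.subsingleton
  exact (Groth.Agent.Lib.T2H5.RpushBC.subsingleton_HH_iff_HE_top G p).2 h2

/-- transfer of vanishing from the chart over the whole (affine) base -/
theorem subsingleton_HH_tensor_L {m : ℕ} (i : X ⟶ CohB1.ProjSpaceOver m Y)
    (hU : IsAffineOpen (⊤ : Y.Opens))
    (k : (↑(fS i ⁻¹ᵁ ⊤) : Scheme.{u}) ⟶ CohB1.ProjSpace m Γ(Y, (⊤ : Y.Opens))) (hk : k = iU i hU)
    (A : X.Modules) (d : ℤ) (p : ℕ)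
    (hv : Subsingleton (Coh.HH (↑(fS i ⁻¹ᵁ ⊤) : Scheme.{u})
      (CohB1.tensorMod (A.restrict (fS i ⁻¹ᵁ ⊤).ι)
        ((Scheme.Modules.pullback k).obj (Twist.twistProjSpace m Γ(Y, (⊤ : Y.Opens)) d))) p)) :
    Subsingleton (Coh.HH X (CohB1.tensorMod A (T2Van.L i d)) p) := by
  subst hk
  obtain ⟨a4⟩ := T2Van.nonempty_restrict_iso i hU d
  let i1 : (CohB1.tensorMod A (T2Van.L i d)).restrict (fS i ⁻¹ᵁ ⊤).ι ≅
      CohB1.tensorMod (A.restrict (fS i ⁻¹ᵁ ⊤).ι) ((T2Van.L i d).restrict (fS i ⁻¹ᵁ ⊤).ι) :=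
    restrictTensorIso A (T2Van.L i d) (fS i ⁻¹ᵁ ⊤).ι
  let i3 : CohB1.tensorMod (A.restrict (fS i ⁻¹ᵁ ⊤).ι) ((T2Van.L i d).restrict (fS i ⁻¹ᵁ ⊤).ι) ≅
      CohB1.tensorMod (A.restrict (fS i ⁻¹ᵁ ⊤).ι)
        ((Scheme.Modules.pullback (iU i hU)).obj (Twist.twistProjSpace m Γ(Y, (⊤ : Y.Opens)) d)) :=
    PicGrp.tensorModIso (Iso.refl _) a4
  have h1 : Subsingleton (Coh.HH (↑(fS i ⁻¹ᵁ ⊤) : Scheme.{u})
      ((CohB1.tensorMod A (T2Van.L i d)).restrict (fS i ⁻¹ᵁ ⊤).ι) p) :=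
    Groth.Agent.Lib.T2H5.PnStruct.subsingleton_HH_of_iso (i1 ≪≫ i3).symm p hv
  exact subsingleton_HH_of_restrict_top _ p (fS i ⁻¹ᵁ ⊤) rfl h1

/-- **Serre vanishing** for an ample invertible module on a scheme proper over a Noetherian affine scheme. -/
theorem serre_vanishing_of_isAmple [IsAffine Y] [IsNoetherian Y] (q : X ⟶ Y) [IsProper q]
    (L : X.Modules) (hL : CohB1.IsAmple L) (M : X.Modules) (hM : Coh.IsCoh M) :
    ∃ n₀ : ℕ, ∀ n : ℕ, n₀ ≤ n → ∀ p : ℕ, 1 ≤ p →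
      Subsingleton (Coh.HH X (CohB1.tensorMod M (CohB1.tensorPow L n)) p) := by
  classical
  have hinv := hL.1
  obtain ⟨n₁, hn₁⟩ := (Groth.Agent.S2330.result q L hinv).2 hL
  obtain ⟨m, i, himm, hcomp, ⟨e⟩⟩ := hn₁ (n₁ + 1) (Nat.le_succ _)
  obtain ⟨N, hN⟩ : ∃ N, N = n₁ + 1 := ⟨_, rfl⟩
  rw [← hN] at e
  have hNpos : 0 < N := by omega
  -- `i` is a closed immersion
  haveI : IsProper (CohB1.ProjSpaceOver.toBase m Y) := Groth.Agent.S9705.isProper_toBase m Y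
  have hcomp' : i ≫ CohB1.ProjSpaceOver.toBase m Y = q := hcomp
  haveI : IsProper (i ≫ CohB1.ProjSpaceOver.toBase m Y) := by rw [hcomp']; infer_instance
  haveI : IsProper i := IsProper.of_comp i (CohB1.ProjSpaceOver.toBase m Y)
  haveI := himm
  haveI : IsClosedImmersion i := IsClosedImmersion.of_isPreimmersion i i.isClosedMap.isClosed_range
  -- the chart over the whole base
  have hU : IsAffineOpen (⊤ : Y.Opens) := isAffineOpen_top Y
  haveI : IsNoetherianRing Γ(Y, (⊤ : Y.Opens)) :=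
    IsLocallyNoetherian.component_noetherian (⟨⊤, hU⟩ : Y.affineOpens)
  haveI hck : IsClosedImmersion (iU i hU) := inferInstance
  obtain ⟨k, hk⟩ : ∃ k : (↑(fS i ⁻¹ᵁ ⊤) : Scheme.{u}) ⟶ CohB1.ProjSpace m Γ(Y, (⊤ : Y.Opens)),
    k = iU i hU := ⟨_, rfl⟩
  haveI hck' : IsClosedImmersion k := by rw [hk]; exact hck
  -- Serre vanishing for `M ⊗ L^r`
  have hr : ∀ r : ℕ, ∃ d₀ : ℤ, ∀ d : ℤ, d₀ ≤ d → ∀ p : ℕ, 1 ≤ p →
      Subsingleton (Coh.HH (↑(fS i ⁻¹ᵁ ⊤) : Scheme.{u})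
        (CohB1.tensorMod ((CohB1.tensorMod M (CohB1.tensorPow L r)).restrict (fS i ⁻¹ᵁ ⊤).ι)
          ((Scheme.Modules.pullback k).obj (Twist.twistProjSpace m Γ(Y, (⊤ : Y.Opens)) d))) p) :=
    fun r => Groth.Agent.Lib.T2H5.ClosedTransfer.serre_vanishing_closed m Γ(Y, (⊤ : Y.Opens)) k _
      (isCoh_restrict _ (isCoh_tensor_tensorPow M L hM hinv r) _)
  choose d₀ hd₀ using hr
  obtain ⟨D, hD⟩ : ∃ D : ℕ, D = (Finset.range N).sup (fun r => (d₀ r).toNat) := ⟨_, rfl⟩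
  have key : ∀ r d : ℕ, r < N → D ≤ d → ∀ p : ℕ, 1 ≤ p →
      Subsingleton (Coh.HH X (CohB1.tensorMod M (CohB1.tensorPow L (r + N * d))) p) := by
    intro r d hrN hdD p hp
    obtain ⟨a1⟩ := nonempty_tensor_tensorPow_add_iso M L r (N * d)
    obtain ⟨a2⟩ := Groth.Agent.Lib.Helper23.SecTw.nonempty_tensorPow_tensorPow_iso L hinv N d (N * d) rfl
    obtain ⟨a3⟩ := nonempty_tensorPow_iso_L i (CohB1.tensorPow L N) e d
    let b1 : tens M (CohB1.tensorPow L (r + N * d)) ≅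
        tens (tens M (CohB1.tensorPow L r)) (T2Van.L i (d : ℤ)) :=
      a1 ≪≫ (DCoh.tensorBi.obj (tens M (CohB1.tensorPow L r))).mapIso (a2.symm ≪≫ a3)
    have hdr : d₀ r ≤ (d : ℤ) := by
      have h1 : (d₀ r).toNat ≤ D := by
        rw [hD]
        exact Finset.le_sup (f := fun r => (d₀ r).toNat) (Finset.mem_range.2 hrN)
      have h2 : ((d₀ r).toNat : ℤ) ≤ (d : ℤ) := by exact_mod_cast h1.trans hdD
      exact (Int.self_le_toNat (d₀ r)).trans h2
    have hv := hd₀ r (d : ℤ) hdr p hp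
    have h1 := subsingleton_HH_tensor_L i hU k hk (tens M (CohB1.tensorPow L r)) (d : ℤ) p hv
    exact Groth.Agent.Lib.T2H5.PnStruct.subsingleton_HH_of_iso b1.symm p h1
  refine ⟨N * D + N, fun n hn p hp => ?_⟩
  have hrN : n % N < N := Nat.mod_lt _ hNpos
  have hdD : D ≤ n / N := by
    rw [Nat.le_div_iff_mul_le hNpos, mul_comm]
    omega
  have h := key (n % N) (n / N) hrN hdD p hp
  rwa [Nat.mod_add_div n N] at h

end SV

end Groth.Agent.Lib.T2H5.AmpleSerre
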