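import Mathlib
import Groth.Agent.Lib.T2H5AmpleSerre
set_option backward.isDefEq.respectTransparency.types false

/-!
# T2H5AmpleSerre2: a relatively ample invertible module kills higher direct images of large twists (helper5)
-/

set_option autoImplicit false
set_option linter.style.haveILetI false
set_option linter.unusedSectionVars false
universe u
open CategoryTheory CategoryTheory.Limits AlgebraicGeometry TopologicalSpace Opposite

namespace Groth.Agent.Lib.T2H5.AmpleSerre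

open Groth.Agent.Lib.Helper23.AffVanish Groth.Agent.Lib.Helper23.RestrTensor Groth.Agent.Lib.T2H5.T2Van

/-- **Relative Serre vanishing**: for `f : X ⟶ S` proper, `S` Noetherian, `L` ample over the affine opens of `S` and
`M` coherent, the higher direct images of `M ⊗ L^n` vanish for large `n`. -/
theorem exists_isZero_RpushAb_of_relAmple {X S : Scheme.{u}} (f : X ⟶ S) [IsProper f] [IsNoetherian S]
    (L : X.Modules) (hL : PicF.IsInvertible L)
    (ha : ∀ W : S.Opens, IsAffineOpen W → CohB1.IsAmple (L.restrict (f ⁻¹ᵁ W).ι))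
    (M : X.Modules) (hM : Coh.IsCoh M) :
    ∃ n₀ : ℕ, ∀ n : ℕ, n₀ ≤ n → ∀ q : ℕ,
      IsZero ((Coh.RpushAb f (q + 1)).obj (Coh.toAb (CohB1.tensorMod M (CohB1.tensorPow L n)))) := by
  classical
  obtain ⟨t, ht⟩ := isCompact_univ.elim_finite_subcover
    (fun V : S.affineOpens => ((V : S.Opens) : Set S)) (fun V => V.1.2) (by
      intro y _
      have hy : y ∈ (⨆ V : S.affineOpens, (V : S.Opens)) := by
        rw [iSup_affineOpens_eq_top]; trivial
      obtain ⟨V, hV⟩ := Opens.mem_iSup.1 hy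
      exact Set.mem_iUnion.2 ⟨V, hV⟩)
  have hex : ∀ V : S.affineOpens, ∃ n₀ : ℕ, ∀ n : ℕ, n₀ ≤ n → ∀ p : ℕ, 1 ≤ p →
      Subsingleton (Coh.HH (↑(f ⁻¹ᵁ (V : S.Opens)) : Scheme.{u})
        ((CohB1.tensorMod M (CohB1.tensorPow L n)).restrict (f ⁻¹ᵁ (V : S.Opens)).ι) p) := fun V => by
    haveI : IsAffine (↑(V : S.Opens) : Scheme.{u}) := V.2
    haveI : IsLocallyNoetherian (↑(V : S.Opens) : Scheme.{u}) :=
      isLocallyNoetherian_of_isOpenImmersion (V : S.Opens).ι
    haveI : IsNoetherian (↑(V : S.Opens) : Scheme.{u}) := {}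
    haveI : IsProper (f ∣_ (V : S.Opens)) :=
      MorphismProperty.of_isPullback (isPullback_morphismRestrict f (V : S.Opens)).flip inferInstance
    obtain ⟨n₀, h⟩ := serre_vanishing_of_isAmple (f ∣_ (V : S.Opens))
      (L.restrict (f ⁻¹ᵁ (V : S.Opens)).ι) (ha V.1 V.2) (M.restrict (f ⁻¹ᵁ (V : S.Opens)).ι)
      (isCoh_restrict M hM _)
    refine ⟨n₀, fun n hn p hp => ?_⟩
    obtain ⟨ε⟩ := nonempty_restrict_twist_iso M L hL (f ⁻¹ᵁ (V : S.Opens)) n
    exact Groth.Agent.Lib.T2H5.PnStruct.subsingleton_HH_of_iso ε.symm p (h n hn p hp)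
  choose nV hnV using hex
  refine ⟨t.sup nV, fun n hn q => ?_⟩
  let B : Set S.Opens := {V' | ∃ V ∈ t, ∃ b : Γ(S, (V : S.Opens)), V' = S.basicOpen b}
  have hB : Opens.IsBasis B := by
    rw [Opens.isBasis_iff_nbhd]
    intro O y hyO
    obtain ⟨V, hVt, hyV⟩ : ∃ V ∈ t, y ∈ (V : S.Opens) := by
      have := ht (Set.mem_univ y)
      simpa using this
    obtain ⟨b, hbO, hyb⟩ := V.2.exists_basicOpen_le ⟨y, hyO⟩ hyV
    exact ⟨S.basicOpen b, ⟨V, hVt, b, rfl⟩, hyb, hbO⟩
  haveI hq : (CohB1.tensorMod M (CohB1.tensorPow L n)).IsQuasicoherent :=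
    (isCoh_tensor_tensorPow M L hM hL n).1
  refine Groth.Agent.Lib.T2H5.PushSingle.isZero_Rpush_succ_of_basis f.base B hB
    (ab' (CohB1.tensorMod M (CohB1.tensorPow L n))) q ?_
  rintro _ ⟨V, hVt, b, rfl⟩
  haveI := compactSpace_preimage f V.2
  haveI := quasiSeparatedSpace_preimage f V.2
  refine subsingleton_HE_preimage_basicOpen f (V : S.Opens) b
    (CohB1.tensorMod M (CohB1.tensorPow L n)) (q + 1) ?_
  exact hnV V n ((Finset.le_sup (f := nV) hVt).trans hn) (q + 1) (by omega)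

end Groth.Agent.Lib.T2H5.AmpleSerre
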