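import Mathlib
import Groth.Agent.Lib.Helper27PnChart
set_option backward.isDefEq.respectTransparency.types false

/-!
# T2H5PnFlat: projective space is flat over its base (helper5)

`flat_toSpec : Flat (CohB1.ProjSpace.toSpec n R)`, `flat_toBase : Flat (CohB1.ProjSpaceOver.toBase n Y)`.
Namespace `Groth.Agent.Lib.T2H5.PnFlat`.
-/

set_option autoImplicit false
set_option linter.style.haveILetI false
set_option linter.unusedSectionVars false
universe u
open CategoryTheory CategoryTheory.Limits AlgebraicGeometry HomogeneousLocalization MvPolynomial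

namespace Groth.Agent.Lib.T2H5.PnFlat

open Groth.Agent.Lib.Helper27PnChart

variable (n : ℕ) (R : Type u) [CommRing R]

/-- the structure map of the `i`-th chart ring is flat -/
theorem flat_chartHom (i : Fin (n + 1)) :
    ((HomogeneousLocalization.fromZeroRingHom (CohB1.polyGrading n R)
        (Submonoid.powers (MvPolynomial.X i))).comp
      (algebraMap R (CohB1.polyGrading n R 0))).Flat := by
  have h : (chart n R i).comp (C : R →+* MvPolynomial {j : Fin (n + 1) // j ≠ i} R) =
      (HomogeneousLocalization.fromZeroRingHom (CohB1.polyGrading n R)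
        (Submonoid.powers (MvPolynomial.X i))).comp
      (algebraMap R (CohB1.polyGrading n R 0)) := by
    ext r
    simp [chart]
  rw [← h]
  refine RingHom.Flat.comp ?_ (RingHom.Flat.of_bijective (chart_bijective n R i))
  have : (C : R →+* MvPolynomial {j : Fin (n + 1) // j ≠ i} R) =
      algebraMap R (MvPolynomial {j : Fin (n + 1) // j ≠ i} R) := rfl
  rw [this, RingHom.flat_algebraMap_iff]
  infer_instance

/-- `P^n_R ⟶ Spec R` is flat -/
theorem flat_toSpec : Flat (CohB1.ProjSpace.toSpec n R) := by
  have key : Flat (Proj.toSpecZero (CohB1.polyGrading n R) ≫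
      Spec.map (CommRingCat.ofHom (algebraMap R (CohB1.polyGrading n R 0)))) := by
    rw [IsZariskiLocalAtSource.iff_of_iSup_eq_top (P := @Flat) _ (iSup_basicOpen_X n R)]
    intro i
    rw [← MorphismProperty.cancel_left_of_respectsIso (P := @Flat)
      (Proj.basicOpenIsoSpec (CohB1.polyGrading n R) (X i) (X_mem_one n R i) one_pos).inv]
    rw [← Category.assoc, ← Category.assoc, ← Proj.awayι, Proj.awayι_toSpecZero, ← Spec.map_comp,
      HasRingHomProperty.Spec_iff (P := @Flat)]
    exact flat_chartHom n R i
  exact key

/-- `P^n_Y ⟶ Y` is flat -/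
theorem flat_toBase (Y : Scheme.{u}) : Flat (CohB1.ProjSpaceOver.toBase n Y) := by
  haveI := flat_toSpec n (ULift.{u} ℤ)
  exact MorphismProperty.pullback_snd (P := @Flat) _ _ inferInstance

end Groth.Agent.Lib.T2H5.PnFlat
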