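import Mathlib
import Groth.Agent.S0007
import Groth.Agent.S0012
import Groth.Agent.Lib.Helper26FpqcMod
import Groth.Agent.Lib.Helper2PullbackSec
import Groth.Agent.Lib.Helper23QCohAbelian
import Groth.Agent.Lib.Helper13AffBC
import Groth.Agent.Lib.T2H5FlatPullback
import Groth.Prelude.Def_Formal

/-!
# An acyclic embedding of quasi-coherent modules on a quasi-compact separated scheme (helper9)

For an affine flat surjective morphism `j : U ⟶ X` from an affine scheme, `F ⟶ j_* j^* F` is a monomorphism into a
module with vanishing higher cohomology, and this persists after a flat affine base change.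
-/

set_option autoImplicit false
set_option linter.style.haveILetI false
set_option linter.unusedSectionVars false
set_option linter.unusedVariables false
universe u
open CategoryTheory AlgebraicGeometry Opposite TopologicalSpace Limits

namespace Groth.Agent.Lib.T2H9.FBCAcyc

theorem exists_affine_flat_surjective (X : Scheme.{u}) [CompactSpace X] :
    ∃ (U : Scheme.{u}) (j : U ⟶ X), IsAffine U ∧ Flat j ∧ Function.Surjective j := by
  let 𝒰 : X.OpenCover := X.affineCover.finiteSubcover
  have : Finite 𝒰.I₀ := by dsimp [𝒰]; infer_instance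
  have : ∀ i, IsAffine (𝒰.X i) := by intro i; dsimp [𝒰]; infer_instance
  exact ⟨∐ 𝒰.X, Sigma.desc 𝒰.f, inferInstance,
    IsZariskiLocalAtSource.sigmaDesc (P := @Flat) (fun i => inferInstance), Surjective.surj⟩

section emb

variable {X U : Scheme.{u}} (j : U ⟶ X)

/-- `j_* j^* F` -/
noncomputable def JJ (F : X.Modules) : X.Modules :=
  (Scheme.Modules.pushforward j).obj ((Scheme.Modules.pullback j).obj F)

/-- the unit `F ⟶ j_* j^* F` -/
noncomputable def ηJ (F : X.Modules) : F ⟶ JJ j F :=
  (Scheme.Modules.pullbackPushforwardAdjunction j).unit.app F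

theorem mono_ηJ [Flat j] (hs : Function.Surjective j) (F : X.Modules) : Mono (ηJ j F) := by
  refine Groth.Agent.Lib.Helper26.FpqcMod.mono_of_family (fun _ : PUnit.{1} => j)
    (fun y => ⟨PUnit.unit, hs y⟩) (ηJ j F) (fun _ => ?_)
  have h1 : (Scheme.Modules.pullback j).map (ηJ j F) ≫
      (Scheme.Modules.pullbackPushforwardAdjunction j).counit.app
        ((Scheme.Modules.pullback j).obj F) = 𝟙 _ :=
    (Scheme.Modules.pullbackPushforwardAdjunction j).left_triangle_components F
  exact mono_of_mono_fac h1

theorem isQuasicoherent_JJ [QuasiCompact j] [QuasiSeparated j] (F : X.Modules)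
    [F.IsQuasicoherent] : (JJ j F).IsQuasicoherent := by
  haveI := Groth.Agent.Lib.Helper2.PullbackSec.isQuasicoherent_pullback j F
  exact Groth.Agent.Lib.Helper23.QCohLocal.isQuasicoherent_pushforward j _

theorem subsingleton_HH_pushforward [IsAffine U] [IsAffineHom j] (G : U.Modules)
    [G.IsQuasicoherent] (i : ℕ) (hi : 0 < i) :
    Subsingleton (Coh.HH X ((Scheme.Modules.pushforward j).obj G) i) := by
  obtain ⟨e⟩ := Groth.Agent.S0012.result j G i
  haveI := Groth.Agent.S0007.result U G i hi
  exact e.symm.toEquiv.subsingleton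

theorem subsingleton_HH_JJ [IsAffine U] [IsAffineHom j] (F : X.Modules) [F.IsQuasicoherent]
    (i : ℕ) (hi : 0 < i) : Subsingleton (Coh.HH X (JJ j F) i) := by
  haveI := Groth.Agent.Lib.Helper2.PullbackSec.isQuasicoherent_pullback j F
  exact subsingleton_HH_pushforward j _ i hi

/-- the short complex `F ⟶ j_* j^* F ⟶ Q` -/
noncomputable def SS (F : X.Modules) : ShortComplex X.Modules :=
  ShortComplex.mk (ηJ j F) (cokernel.π (ηJ j F)) (cokernel.condition _)

theorem SS_shortExact [Flat j] (hs : Function.Surjective j) (F : X.Modules) :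
    (SS j F).ShortExact := by
  haveI : Mono (SS j F).f := mono_ηJ j hs F
  haveI : Epi (SS j F).g := inferInstanceAs (Epi (cokernel.π (ηJ j F)))
  exact ShortComplex.ShortExact.mk (ShortComplex.exact_of_g_is_cokernel _ (cokernelIsCokernel _))

theorem isQuasicoherent_SS_X₃ [QuasiCompact j] [QuasiSeparated j] (F : X.Modules)
    [F.IsQuasicoherent] : (SS j F).X₃.IsQuasicoherent := by
  haveI := isQuasicoherent_JJ j F
  exact Groth.Agent.Lib.Helper23.QCohLocal.isQuasicoherent_cokernel (ηJ j F)

end emb

section bc

variable {X U X' : Scheme.{u}} (j : U ⟶ X) (g' : X' ⟶ X)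

theorem subsingleton_HH_of_iso {Y : Scheme.{u}} {M N : Y.Modules} (e : M ≅ N) (i : ℕ)
    (h : Subsingleton (Coh.HH Y N i)) : Subsingleton (Coh.HH Y M i) := by
  refine ⟨fun a b => ?_⟩
  have h1 : ∀ x : Coh.HH Y M i,
      Sheaf.H.map ((SheafOfModules.toSheaf _).map e.inv) i
        (Sheaf.H.map ((SheafOfModules.toSheaf _).map e.hom) i x) = x := by
    intro x
    have e1 : e.hom ≫ e.inv = 𝟙 M := e.hom_inv_id
    refine (Formal.HHmap_comp e.hom e.inv i x).trans ?_
    have e2 : (SheafOfModules.toSheaf Y.ringCatSheaf).map (e.hom ≫ e.inv) = 𝟙 _ :=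
      (congrArg (fun t => (SheafOfModules.toSheaf Y.ringCatSheaf).map t) e1).trans
        (CategoryTheory.Functor.map_id _ _)
    exact (congrArg (fun t => Sheaf.H.map t i x) e2).trans (Sheaf.H.map_id_apply _)
  rw [← h1 a, ← h1 b, Subsingleton.elim (Sheaf.H.map ((SheafOfModules.toSheaf _).map e.hom) i a)
    (Sheaf.H.map ((SheafOfModules.toSheaf _).map e.hom) i b)]

/-- vanishing of the higher cohomology of `g'^* j_* j^* F` for an affine base change `g'` -/
theorem subsingleton_HH_pullback_JJ [IsAffine U] [IsAffineHom j] [IsAffineHom g'] (F : X.Modules)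
    [F.IsQuasicoherent] (i : ℕ) (hi : 0 < i) :
    Subsingleton (Coh.HH X' ((Scheme.Modules.pullback g').obj (JJ j F)) i) := by
  haveI := Groth.Agent.Lib.Helper2.PullbackSec.isQuasicoherent_pullback j F
  have hpb : IsPullback (pullback.fst j g') (pullback.snd j g') j g' := IsPullback.of_hasPullback j g'
  haveI : IsIso (Groth.Agent.Helper13AffBC.bcMap j g' (pullback.fst j g') (pullback.snd j g') hpb
      ((Scheme.Modules.pullback j).obj F)) :=
    Groth.Agent.Helper13AffBC.isIso_bcMap j g' (pullback.fst j g') (pullback.snd j g') hpb _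
  haveI : IsAffine (pullback j g') := inferInstance
  haveI : IsAffineHom (pullback.snd j g') :=
    MorphismProperty.pullback_snd (P := @IsAffineHom) j g' inferInstance
  haveI := Groth.Agent.Lib.Helper2.PullbackSec.isQuasicoherent_pullback (pullback.fst j g')
    ((Scheme.Modules.pullback j).obj F)
  exact subsingleton_HH_of_iso (asIso (Groth.Agent.Helper13AffBC.bcMap j g' (pullback.fst j g')
    (pullback.snd j g') hpb ((Scheme.Modules.pullback j).obj F))) i
    (subsingleton_HH_pushforward (pullback.snd j g') _ i hi)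

end bc

end Groth.Agent.Lib.T2H9.FBCAcyc
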