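import Groth.Agent.Lib.T2H9FBCZero
import Groth.Agent.Lib.T2H9FBCAcyc
import Groth.Agent.Lib.T2H5T2Les

/-!
# Flat base change for the cohomology of quasi-coherent modules on a quasi-compact separated scheme
over an affine base (helper9)

`flat_base_change`: for `A → B` flat, `X` quasi-compact and separated over `Spec A`, `X' = X ×_A B` and `F`
quasi-coherent on `X`, there is a `B`-linear isomorphism `B ⊗_A H^i(X, F) ≃ H^i(X', g'^* F)`.
The proof is by dimension shifting along `F ⟶ j_* j^* F` for an affine flat cover `j : U ⟶ X`.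
-/

set_option autoImplicit false
set_option linter.style.haveILetI false
set_option linter.unusedSectionVars false
set_option linter.unusedVariables false
universe u
open CategoryTheory AlgebraicGeometry Opposite TopologicalSpace Limits TensorProduct

namespace Groth.Agent.Lib.T2H9.FBCMain

open Groth.Agent.Lib.T2H9.FBCZero Groth.Agent.Lib.T2H9.FBCAcyc Groth.Agent.Helper13FlatMV
  Groth.Agent.Lib.T2H5.HHLes Groth.Agent.Lib.T2H5.T2Les

section les

variable {A : Type u} [CommRing A] {X : Scheme.{u}} [X.Over (Spec (CommRingCat.of A))]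

theorem δLin_surjective (S : ShortComplex X.Modules) (hS : S.ShortExact) (i : ℕ)
    (h2 : Subsingleton (Coh.HH X S.X₂ (i + 1))) :
    Function.Surjective (δLin (A := A) S hS i) := by
  rw [← LinearMap.range_eq_top, ← exact₁ S hS i, LinearMap.ker_eq_top]
  exact LinearMap.ext fun x => Subsingleton.elim _ _

theorem δLin_injective (S : ShortComplex X.Modules) (hS : S.ShortExact) (i : ℕ)
    (h2 : Subsingleton (Coh.HH X S.X₂ i)) :
    Function.Injective (δLin (A := A) S hS i) := by
  rw [← LinearMap.ker_eq_bot, exact₃ S hS i, LinearMap.range_eq_bot]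
  refine LinearMap.ext fun x => ?_
  rw [Subsingleton.elim x 0, map_zero, map_zero]

end les

section main

variable {A B : Type u} [CommRing A] [CommRing B] [Algebra A B] [Module.Flat A B]
variable {X X' : Scheme.{u}} [X.Over (Spec (CommRingCat.of A))] [X'.Over (Spec (CommRingCat.of B))]
variable [QuasiCompact (X ↘ Spec (CommRingCat.of A))] [IsSeparated (X ↘ Spec (CommRingCat.of A))]
variable (g' : X' ⟶ X)
variable (h : IsPullback g' (X' ↘ Spec (CommRingCat.of B)) (X ↘ Spec (CommRingCat.of A))
  (Spec.map (CommRingCat.ofHom (algebraMap A B))))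

include h in
theorem isAffineHom_g' : IsAffineHom g' :=
  MorphismProperty.of_isPullback (P := @IsAffineHom) h.flip inferInstance

include h in
theorem flat_g' : Flat g' := by
  haveI : Flat (Spec.map (CommRingCat.ofHom (algebraMap A B))) :=
    Flat.SpecMap_iff.2 (RingHom.flat_algebraMap_iff.2 inferInstance)
  exact MorphismProperty.of_isPullback (P := @Flat) h.flip inferInstance

include h in
theorem fbc_aux {U : Scheme.{u}} (j : U ⟶ X) [IsAffine U] [IsAffineHom j] [Flat j]
    (hs : Function.Surjective j) (i : ℕ) :
    ∀ (F : X.Modules) [F.IsQuasicoherent],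
      Nonempty (B ⊗[A] Coh.HH X F i ≃ₗ[B] Coh.HH X' ((Scheme.Modules.pullback g').obj F) i) := by
  haveI := isAffineHom_g' g' h
  haveI := flat_g' g' h
  haveI := Groth.Agent.Lib.T2H5.FlatPullback.preservesFiniteLimits_pullback g'
  induction i using Nat.strong_induction_on with
  | _ i ih =>
    intro F _
    rcases i with _ | i
    · exact ⟨LinearEquiv.ofBijective (kap (R := A) (R' := B) (u0 g' F) (u0_smul g' h F))
        (kap_u0_bijective g' h F)⟩
    · -- the short exact sequences
      have hS : (SS j F).ShortExact := SS_shortExact j hs F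
      have hS' : ((SS j F).map (Scheme.Modules.pullback g')).ShortExact :=
        hS.map_of_exact (Scheme.Modules.pullback g')
      haveI hJ : (SS j F).X₂.IsQuasicoherent := isQuasicoherent_JJ j F
      haveI hQ : (SS j F).X₃.IsQuasicoherent := isQuasicoherent_SS_X₃ j F
      have v : ∀ k, 0 < k → Subsingleton (Coh.HH X (SS j F).X₂ k) :=
        fun k hk => subsingleton_HH_JJ j F k hk
      have v' : ∀ k, 0 < k →
          Subsingleton (Coh.HH X' ((SS j F).map (Scheme.Modules.pullback g')).X₂ k) :=
        fun k hk => subsingleton_HH_pullback_JJ j g' F k hk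
      rcases i with _ | i
      · -- degree one
        refine FBCAlg.nonempty_linearEquiv_of_cokernel
          (Canon.HHlin A (SS j F).g 0) (δLin (A := A) (SS j F) hS 0)
          (δLin_surjective (SS j F) hS 0 (v 1 Nat.one_pos)) (exact₃ (SS j F) hS 0)
          (Canon.HHlin B ((SS j F).map (Scheme.Modules.pullback g')).g 0)
          (δLin (A := B) ((SS j F).map (Scheme.Modules.pullback g')) hS' 0)
          (δLin_surjective _ hS' 0 (v' 1 Nat.one_pos)) (exact₃ _ hS' 0)
          (kap (R := A) (R' := B) (u0 g' (SS j F).X₂) (u0_smul g' h (SS j F).X₂))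
          (kap_u0_bijective g' h (SS j F).X₂).2
          (kap (R := A) (R' := B) (u0 g' (SS j F).X₃) (u0_smul g' h (SS j F).X₃))
          (kap_u0_bijective g' h (SS j F).X₃) ?_
        intro x
        exact (kap_nat (u0 g' (SS j F).X₂) (u0_smul g' h (SS j F).X₂)
          (u0 g' (SS j F).X₃) (u0_smul g' h (SS j F).X₃)
          (Canon.HHlin A (SS j F).g 0)
          (Canon.HHlin B ((SS j F).map (Scheme.Modules.pullback g')).g 0)
          (fun m => (u0_nat g' (SS j F).g m).symm) x).symm
      · -- higher degrees
        refine FBCAlg.nonempty_linearEquiv_of_shift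
          (δLin (A := A) (SS j F) hS (i + 1))
          ⟨δLin_injective (SS j F) hS (i + 1) (v (i + 1) (Nat.succ_pos i)),
            δLin_surjective (SS j F) hS (i + 1) (v (i + 2) (Nat.succ_pos _))⟩
          (δLin (A := B) ((SS j F).map (Scheme.Modules.pullback g')) hS' (i + 1))
          ⟨δLin_injective _ hS' (i + 1) (v' (i + 1) (Nat.succ_pos i)),
            δLin_surjective _ hS' (i + 1) (v' (i + 2) (Nat.succ_pos _))⟩
          (ih (i + 1) (Nat.lt_succ_self _) (SS j F).X₃)

include h in
/-- **Flat base change** over an affine base, for quasi-compact separated `X`. -/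
theorem flat_base_change (F : X.Modules) [F.IsQuasicoherent] (i : ℕ) :
    Nonempty (B ⊗[A] Coh.HH X F i ≃ₗ[B] Coh.HH X' ((Scheme.Modules.pullback g').obj F) i) := by
  haveI : CompactSpace X :=
    QuasiCompact.compactSpace_of_compactSpace (X ↘ Spec (CommRingCat.of A))
  obtain ⟨U, j, hU, hjf, hjs⟩ := exists_affine_flat_surjective X
  haveI := hU
  haveI := hjf
  haveI : IsAffineHom (j ≫ (X ↘ Spec (CommRingCat.of A))) := inferInstance
  haveI : IsAffineHom j := IsAffineHom.of_comp j (X ↘ Spec (CommRingCat.of A))
  exact fbc_aux g' h j hjs i F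

end main

end Groth.Agent.Lib.T2H9.FBCMain
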