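import Groth.Agent.Lib.T2H9FBCSect
import Groth.Agent.Lib.T2H9FBCMain
import Groth.Agent.Lib.Helper2FlatOver

/-!
# The stalk of a higher direct image as the cohomology of the base change to the local ring (helper9)

For `f : X ⟶ Y` proper, `Y` locally Noetherian, `F` coherent, `y ∈ Y` and `X₁ = X ×_Y Spec O_{Y,y}`:
`(R^p f_* F)_y ≃ₗ[O_{Y,y}] H^p(X₁, g^* F)`.
-/

set_option autoImplicit false
set_option linter.style.haveILetI false
set_option linter.unusedSectionVars false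
set_option linter.unusedVariables false
universe u
open CategoryTheory CategoryTheory.Limits Opposite TopologicalSpace AlgebraicGeometry TensorProduct

namespace Groth.Agent.Lib.T2H9.FBCStalk

open Groth.Agent.Lib.T2H5.T2Coh Groth.Agent.Lib.Helper2.FlatOver

section geom

variable {X Y : Scheme.{u}} (f : X ⟶ Y) {V : Y.Opens} (hV : IsAffineOpen V)

include hV in
theorem g₀_eq : g₀ f (U := V) = f ∣_ V ≫ hV.isoSpec.hom := by
  refine (eq_g₀ f hV _ ?_).symm
  rw [Category.assoc, IsAffineOpen.isoSpec_hom_fromSpec, morphismRestrict_ι]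

include hV in
theorem isPullback_g₀ : IsPullback (f ⁻¹ᵁ V).ι (g₀ f (U := V)) f hV.fromSpec := by
  have h1 : IsPullback (f ⁻¹ᵁ V).ι (f ∣_ V) f V.ι := (isPullback_morphismRestrict f V).flip
  have hg := g₀_eq f hV
  have h2 : hV.isoSpec.hom ≫ hV.fromSpec = V.ι := IsAffineOpen.isoSpec_hom_fromSpec hV
  refine IsPullback.of_iso h1 (Iso.refl _) (Iso.refl _) hV.isoSpec (Iso.refl _) ?_ ?_ ?_ ?_
  · simp
  · simp [hg]
  · simp
  · simp [h2]

include hV in
theorem exists_lift {X₁ : Scheme.{u}} (y : Y) (hy : y ∈ V) (g : X₁ ⟶ X)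
    (p₁ : X₁ ⟶ Spec (Y.presheaf.stalk y))
    (hsq : IsPullback g p₁ f (Y.fromSpecStalk y)) :
    ∃ gV : X₁ ⟶ (↑(f ⁻¹ᵁ V) : Scheme.{u}), gV ≫ (f ⁻¹ᵁ V).ι = g ∧
      IsPullback gV p₁ (g₀ f (U := V)) (Spec.map (Y.presheaf.germ V y hy)) := by
  have hpb := isPullback_g₀ f hV
  have he : Y.fromSpecStalk y = Spec.map (Y.presheaf.germ V y hy) ≫ hV.fromSpec :=
    (IsAffineOpen.fromSpecStalk_eq_fromSpecStalk hV hy).symm
  have hw : g ≫ f = (p₁ ≫ Spec.map (Y.presheaf.germ V y hy)) ≫ hV.fromSpec := by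
    rw [Category.assoc, ← he]; exact hsq.w
  refine ⟨hpb.lift g (p₁ ≫ Spec.map (Y.presheaf.germ V y hy)) hw, hpb.lift_fst _ _ _, ?_⟩
  refine IsPullback.of_right ?_ (hpb.lift_snd _ _ _) hpb
  rw [hpb.lift_fst, ← he]
  exact hsq

include hV in
theorem isProper_g₀ [IsProper f] : IsProper (g₀ f (U := V)) := by
  haveI : IsProper (f ∣_ V) :=
    MorphismProperty.of_isPullback (isPullback_morphismRestrict f V).flip inferInstance
  rw [g₀_eq f hV]
  infer_instance

end geom

section iso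

variable {A : Type u} [CommRing A] {X : Scheme.{u}} [X.Over (Spec (CommRingCat.of A))]

/-- an isomorphism of modules induces a linear equivalence on cohomology -/
theorem nonempty_linearEquiv_of_iso {M N : X.Modules} (ι : M ≅ N) (i : ℕ) :
    Nonempty (Coh.HH X M i ≃ₗ[A] Coh.HH X N i) := by
  have hb : Function.Bijective (Canon.HHlin A ι.hom i) := by
    refine Function.bijective_iff_has_inverse.2 ⟨Canon.HHlin A ι.inv i, fun x => ?_, fun x => ?_⟩
    · refine (Formal.HHmap_comp ι.hom ι.inv i x).trans ?_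
      have e2 : (SheafOfModules.toSheaf X.ringCatSheaf).map (ι.hom ≫ ι.inv) = 𝟙 _ :=
        (congrArg (fun t => (SheafOfModules.toSheaf X.ringCatSheaf).map t) ι.hom_inv_id).trans
          (CategoryTheory.Functor.map_id _ _)
      exact (congrArg (fun t => CategoryTheory.Sheaf.H.map t i x) e2).trans
        (CategoryTheory.Sheaf.H.map_id_apply _)
    · refine (Formal.HHmap_comp ι.inv ι.hom i x).trans ?_
      have e2 : (SheafOfModules.toSheaf X.ringCatSheaf).map (ι.inv ≫ ι.hom) = 𝟙 _ :=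
        (congrArg (fun t => (SheafOfModules.toSheaf X.ringCatSheaf).map t) ι.inv_hom_id).trans
          (CategoryTheory.Functor.map_id _ _)
      exact (congrArg (fun t => CategoryTheory.Sheaf.H.map t i x) e2).trans
        (CategoryTheory.Sheaf.H.map_id_apply _)
  exact ⟨LinearEquiv.ofBijective (Canon.HHlin A ι.hom i) hb⟩

end iso

section stalk

variable {Y : Scheme.{u}} (G : Y.Modules) [G.IsQuasicoherent] {V : Y.Opens} (hV : IsAffineOpen V)
  (y : Y) (hy : y ∈ V)

include hV in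
/-- the stalk of a quasi-coherent module is the base change of the sections over an affine open -/
theorem nonempty_stalk_linearEquiv :
    letI : Algebra Γ(Y, V) (Y.presheaf.stalk y) := (Y.presheaf.germ V y hy).hom.toAlgebra
    Nonempty ((Y.presheaf.stalk y) ⊗[Γ(Y, V)] Γ(G, V) ≃ₗ[Y.presheaf.stalk y] G.presheaf.stalk y) := by
  letI : Algebra Γ(Y, V) (Y.presheaf.stalk y) := (Y.presheaf.germ V y hy).hom.toAlgebra
  letI := moduleStalkSections G V y hy
  haveI : IsScalarTower Γ(Y, V) (Y.presheaf.stalk y) (G.presheaf.stalk y) :=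
    ⟨fun a r m => by
      change ((Y.presheaf.germ V y hy).hom a * r) • m = (Y.presheaf.germ V y hy).hom a • (r • m)
      exact mul_smul _ _ _⟩
  haveI := isLocalizedModule_germ hV G y hy
  haveI : IsLocalization.AtPrime (Y.presheaf.stalk y) (hV.primeIdealOf ⟨y, hy⟩).asIdeal :=
    hV.isLocalization_stalk ⟨y, hy⟩
  exact ⟨(IsLocalizedModule.isBaseChange (hV.primeIdealOf ⟨y, hy⟩).asIdeal.primeCompl
    (Y.presheaf.stalk y) (germₗ G V y hy)).equiv⟩

end stalk

section main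

variable {X Y : Scheme.{u}} (f : X ⟶ Y) [IsProper f] [IsLocallyNoetherian Y]
  [HasInjectiveResolutions X.Modules] (F : X.Modules) (hF : Coh.IsCoh F) (y : Y) (p : ℕ)
  (X₁ : Scheme.{u}) [X₁.Over (Spec (CommRingCat.of (Y.presheaf.stalk y)))] (g : X₁ ⟶ X)
  (hsq : IsPullback g (X₁ ↘ Spec (CommRingCat.of (Y.presheaf.stalk y))) f (Y.fromSpecStalk y))

include hF hsq in
theorem stalk_linearEquiv :
    Nonempty (((Coh.Rpush f p).obj F).presheaf.stalk y ≃ₗ[Y.presheaf.stalk y]
      Coh.HH X₁ ((Scheme.Modules.pullback g).obj F) p) := by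
  obtain ⟨V, hV, hy, -⟩ := exists_isAffineOpen_mem_and_subset (x := y) (U := ⊤) (by trivial)
  letI : Algebra Γ(Y, V) (Y.presheaf.stalk y) := (Y.presheaf.germ V y hy).hom.toAlgebra
  letI : (↑(f ⁻¹ᵁ V) : Scheme.{u}).Over (Spec (CommRingCat.of Γ(Y, V))) := ⟨g₀ f (U := V)⟩
  haveI : F.IsQuasicoherent := hF.1
  haveI hG : ((Coh.Rpush f p).obj F).IsQuasicoherent :=
    Groth.Agent.Lib.T2H5.RpushQCoh.isQuasicoherent_Rpush f F p
  obtain ⟨e1⟩ := nonempty_stalk_linearEquiv ((Coh.Rpush f p).obj F) hV y hy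
  obtain ⟨e2⟩ := Groth.Agent.Lib.T2H9.FBCSect.nonempty_linearEquiv f F hF p V hV
  obtain ⟨gV, hgV, hpb⟩ := exists_lift f hV y hy g _ hsq
  haveI : IsProper ((↑(f ⁻¹ᵁ V) : Scheme.{u}) ↘ Spec (CommRingCat.of Γ(Y, V))) := isProper_g₀ f hV
  haveI : IsLocalization.AtPrime (Y.presheaf.stalk y) (hV.primeIdealOf ⟨y, hy⟩).asIdeal :=
    hV.isLocalization_stalk ⟨y, hy⟩
  haveI : Module.Flat Γ(Y, V) (Y.presheaf.stalk y) :=
    IsLocalization.flat _ (hV.primeIdealOf ⟨y, hy⟩).asIdeal.primeCompl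
  haveI : (F.restrict (f ⁻¹ᵁ V).ι).IsQuasicoherent :=
    (Groth.Agent.Lib.T2H5.RpushCoh.isCoh_restrict_preimage f F hF V).1
  obtain ⟨e3⟩ := Groth.Agent.Lib.T2H9.FBCMain.flat_base_change (A := Γ(Y, V))
    (B := Y.presheaf.stalk y) gV hpb (F.restrict (f ⁻¹ᵁ V).ι) p
  have ι4 : (Scheme.Modules.pullback gV).obj (F.restrict (f ⁻¹ᵁ V).ι) ≅
      (Scheme.Modules.pullback g).obj F :=
    (Scheme.Modules.pullback gV).mapIso
        ((Scheme.Modules.restrictFunctorIsoPullback (f ⁻¹ᵁ V).ι).app F) ≪≫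
      (Scheme.Modules.pullbackComp gV (f ⁻¹ᵁ V).ι).app F ≪≫
      (Scheme.Modules.pullbackCongr hgV).app F
  obtain ⟨e4⟩ := nonempty_linearEquiv_of_iso (A := Y.presheaf.stalk y) ι4 p
  exact ⟨e1.symm ≪≫ₗ (LinearEquiv.baseChange _ _ _ _ e2) ≪≫ₗ e3 ≪≫ₗ e4⟩

end main

section alg

/-- a finite module over a local ring whose adic completion vanishes is zero -/
theorem subsingleton_of_subsingleton_adicCompletion {R : Type*} [CommRing R] [IsLocalRing R]
    (M : Type*) [AddCommGroup M] [Module R M] [Module.Finite R M]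
    (h : Subsingleton (AdicCompletion (IsLocalRing.maximalIdeal R) M)) : Subsingleton M := by
  have hsurj := AdicCompletion.eval_surjective (IsLocalRing.maximalIdeal R) M 1
  have : Subsingleton (M ⧸ (IsLocalRing.maximalIdeal R ^ 1 • ⊤ : Submodule R M)) :=
    hsurj.subsingleton
  have h1 : (IsLocalRing.maximalIdeal R ^ 1 • ⊤ : Submodule R M) = ⊤ :=
    Submodule.Quotient.subsingleton_iff.1 inferInstance
  rw [pow_one] at h1
  have h2 : (⊤ : Submodule R M) = ⊥ :=
    Submodule.eq_bot_of_le_smul_of_le_jacobson_bot (IsLocalRing.maximalIdeal R) ⊤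
      Module.Finite.fg_top h1.ge (IsLocalRing.maximalIdeal_le_jacobson ⊥)
  exact (Submodule.subsingleton_iff R).1 (subsingleton_of_bot_eq_top h2.symm)

end alg

end Groth.Agent.Lib.T2H9.FBCStalk
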