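import Mathlib

/-!
# Formal functions: the abstract algebra (helper9)

`H` an `A`-module, `E n` a tower of `A`-modules with transition maps `t n : E (n+1) → E n` and
compatible maps `q n : H → E n`, `E n` killed by `I^(n+1)`.  If the kernels of the `q n` are
`I`-adically small (Artin–Rees type hypothesis) and compatible families are termwise in the image of
`H` (a consequence of the Mittag-Leffler type hypothesis), then the `I`-adic completion of `H` is the
inverse limit of the `E n`.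
-/

set_option autoImplicit false
universe u

namespace Groth.Agent.Lib.T2H9.FFAlg

open Submodule

variable {A : Type u} [CommRing A] (I : Ideal A)
variable {H : Type u} [AddCommGroup H] [Module A H]
variable {E : ℕ → Type u} [∀ n, AddCommGroup (E n)] [∀ n, Module A (E n)]
variable (q : ∀ n, H →ₗ[A] E n) (t : ∀ n, E (n + 1) →ₗ[A] E n)

theorem ker_mono (compat : ∀ n x, t n (q (n + 1) x) = q n x) {n k : ℕ} (h : n ≤ k) (x : H)
    (hx : q k x = 0) : q n x = 0 := by
  induction k, h using Nat.le_induction with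
  | base => exact hx
  | succ k _ ih =>
    apply ih
    rw [← compat k x, hx, map_zero]

theorem pow_smul_le_ker (kill : ∀ n, ∀ a ∈ I ^ (n + 1), ∀ e : E n, a • e = 0) (n : ℕ) :
    (I ^ (n + 1) • ⊤ : Submodule A H) ≤ LinearMap.ker (q n) := by
  rw [Submodule.smul_le]
  intro a ha x _
  rw [LinearMap.mem_ker, map_smul]
  exact kill n a ha _

/-- the map induced by `q n` on `H / I^(n+1) H` -/
noncomputable def qbar (kill : ∀ n, ∀ a ∈ I ^ (n + 1), ∀ e : E n, a • e = 0) (n : ℕ) :
    (H ⧸ (I ^ (n + 1) • ⊤ : Submodule A H)) →ₗ[A] E n :=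
  Submodule.liftQ _ (q n) (pow_smul_le_ker I q kill n)

theorem qbar_mk (kill : ∀ n, ∀ a ∈ I ^ (n + 1), ∀ e : E n, a • e = 0) (n : ℕ) (x : H) :
    qbar I q kill n (Submodule.Quotient.mk x) = q n x := rfl

theorem val_eq_mk_of_val_eq_mk (x : AdicCompletion I H) {m n : ℕ} (hmn : m ≤ n) (h : H)
    (hx : x.val n = Submodule.Quotient.mk h) : x.val m = Submodule.Quotient.mk h := by
  have := AdicCompletion.transitionMap_comp_eval_apply I H hmn x
  rw [hx] at this
  rw [← this]
  rfl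

/-- the comparison map from the completion to the product -/
noncomputable def Φ₀ (kill : ∀ n, ∀ a ∈ I ^ (n + 1), ∀ e : E n, a • e = 0) :
    AdicCompletion I H →+ (∀ n, E n) where
  toFun x n := qbar I q kill n (x.val (n + 1))
  map_zero' := by
    funext n
    change qbar I q kill n ((0 : AdicCompletion I H).val (n + 1)) = 0
    rw [AdicCompletion.val_zero_apply, map_zero]
  map_add' x y := by
    funext n
    change qbar I q kill n ((x + y).val (n + 1)) = _
    rw [AdicCompletion.val_add_apply, map_add]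
    rfl

theorem Φ₀_apply (kill : ∀ n, ∀ a ∈ I ^ (n + 1), ∀ e : E n, a • e = 0) (x : AdicCompletion I H)
    (n : ℕ) : Φ₀ I q kill x n = qbar I q kill n (x.val (n + 1)) := rfl

theorem Φ₀_of (kill : ∀ n, ∀ a ∈ I ^ (n + 1), ∀ e : E n, a • e = 0) (x : H) (n : ℕ) :
    Φ₀ I q kill (AdicCompletion.of I H x) n = q n x := by
  rw [Φ₀_apply, AdicCompletion.of_apply]
  rfl

theorem Φ₀_compat (compat : ∀ n x, t n (q (n + 1) x) = q n x)
    (kill : ∀ n, ∀ a ∈ I ^ (n + 1), ∀ e : E n, a • e = 0) (x : AdicCompletion I H) (n : ℕ) :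
    t n (Φ₀ I q kill x (n + 1)) = Φ₀ I q kill x n := by
  obtain ⟨h, hh⟩ := Submodule.Quotient.mk_surjective _ (x.val (n + 1 + 1))
  have h1 : x.val (n + 1) = Submodule.Quotient.mk h :=
    val_eq_mk_of_val_eq_mk I x (Nat.le_succ _) h hh.symm
  rw [Φ₀_apply, Φ₀_apply, ← hh, h1, qbar_mk, qbar_mk, compat]

theorem Φ₀_injective
    (kill : ∀ n, ∀ a ∈ I ^ (n + 1), ∀ e : E n, a • e = 0)
    (ar : ∃ c, ∀ n, c ≤ n → ∀ x, q n x = 0 → x ∈ (I ^ (n - c) • ⊤ : Submodule A H)) :
    Function.Injective (Φ₀ I q kill) := by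
  rw [injective_iff_map_eq_zero]
  intro x hx
  obtain ⟨c, hc⟩ := ar
  apply AdicCompletion.ext
  intro m
  rw [AdicCompletion.val_zero_apply]
  obtain ⟨h, hh⟩ := Submodule.Quotient.mk_surjective _ (x.val (m + c + 1))
  have h0 : q (m + c) h = 0 := by
    have := congrFun hx (m + c)
    rw [Φ₀_apply, ← hh, qbar_mk] at this
    exact this
  have h1 : h ∈ (I ^ (m + c - c) • ⊤ : Submodule A H) := hc (m + c) (Nat.le_add_left _ _) h h0
  rw [Nat.add_sub_cancel] at h1
  rw [val_eq_mk_of_val_eq_mk I x (by omega : m ≤ m + c + 1) h hh.symm]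
  exact (Submodule.Quotient.mk_eq_zero _).2 h1

theorem Φ₀_surjective (compat : ∀ n x, t n (q (n + 1) x) = q n x)
    (kill : ∀ n, ∀ a ∈ I ^ (n + 1), ∀ e : E n, a • e = 0)
    (ar : ∃ c, ∀ n, c ≤ n → ∀ x, q n x = 0 → x ∈ (I ^ (n - c) • ⊤ : Submodule A H))
    (y : ∀ n, E n) (hy : ∀ n, t n (y (n + 1)) = y n) (hsurj : ∀ n, ∃ x, q n x = y n) :
    ∃ x, Φ₀ I q kill x = y := by
  obtain ⟨c, hc⟩ := ar
  choose h hh using hsurj
  have hstep : ∀ k, q k (h (k + 1) - h k) = 0 := by
    intro k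
    rw [map_sub, ← compat k (h (k + 1)), hh, hh, hy, sub_self]
  have hle : ∀ n k, n ≤ k → q n (h k) = y n := by
    intro n k hnk
    induction k, hnk using Nat.le_induction with
    | base => exact hh n
    | succ k hk ih =>
      have := ker_mono q t compat hk _ (hstep k)
      rw [map_sub, ih, sub_eq_zero] at this
      exact this
  let f : ℕ → H := fun m => h (m + c)
  have hf : AdicCompletion.IsAdicCauchy I H f := by
    rw [AdicCompletion.isAdicCauchy_iff]
    intro n
    rw [SModEq.comm, SModEq.sub_mem]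
    have := hc (n + c) (Nat.le_add_left _ _) _ (hstep (n + c))
    rw [Nat.add_sub_cancel] at this
    have e : n + 1 + c = n + c + 1 := by omega
    change h (n + 1 + c) - h (n + c) ∈ _
    rw [e]
    exact this
  refine ⟨AdicCompletion.mk I H ⟨f, hf⟩, ?_⟩
  funext n
  rw [Φ₀_apply]
  have : (AdicCompletion.mk I H ⟨f, hf⟩).val (n + 1) = Submodule.Quotient.mk (f (n + 1)) := rfl
  rw [this, qbar_mk]
  exact hle n _ (by omega)

/-- **Formal functions, abstract form**: the completion of `H` is the inverse limit of the `E n`. -/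
theorem exists_addEquiv (compat : ∀ n x, t n (q (n + 1) x) = q n x)
    (kill : ∀ n, ∀ a ∈ I ^ (n + 1), ∀ e : E n, a • e = 0)
    (ar : ∃ c, ∀ n, c ≤ n → ∀ x, q n x = 0 → x ∈ (I ^ (n - c) • ⊤ : Submodule A H))
    (L : AddSubgroup (∀ n, E n)) (hL : ∀ y, y ∈ L ↔ ∀ n, t n (y (n + 1)) = y n)
    (hsurj : ∀ y ∈ L, ∀ n, ∃ x, q n x = y n) :
    ∃ Ψ : AdicCompletion I H ≃+ L, ∀ (x : H) (n : ℕ),
      (Ψ (AdicCompletion.of I H x) : ∀ n, E n) n = q n x := by
  let Ψ₀ : AdicCompletion I H →+ L :=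
    (Φ₀ I q kill).codRestrict L (fun x => (hL _).2 (Φ₀_compat I q t compat kill x))
  have hinj : Function.Injective Ψ₀ := by
    intro x y hxy
    exact Φ₀_injective I q kill ar (congrArg Subtype.val hxy)
  have hsur : Function.Surjective Ψ₀ := by
    intro y
    obtain ⟨x, hx⟩ := Φ₀_surjective I q t compat kill ar y.1 ((hL _).1 y.2) (hsurj y.1 y.2)
    exact ⟨x, Subtype.ext hx⟩
  refine ⟨AddEquiv.ofBijective Ψ₀ ⟨hinj, hsur⟩, fun x n => ?_⟩
  exact Φ₀_of I q kill x n

/-- **Formal functions over a complete base, abstract form.** -/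
theorem bijective_of_isAdicComplete [IsAdicComplete I H]
    (compat : ∀ n x, t n (q (n + 1) x) = q n x)
    (kill : ∀ n, ∀ a ∈ I ^ (n + 1), ∀ e : E n, a • e = 0)
    (ar : ∃ c, ∀ n, c ≤ n → ∀ x, q n x = 0 → x ∈ (I ^ (n - c) • ⊤ : Submodule A H))
    (L : AddSubgroup (∀ n, E n)) (hL : ∀ y, y ∈ L ↔ ∀ n, t n (y (n + 1)) = y n)
    (hsurj : ∀ y ∈ L, ∀ n, ∃ x, q n x = y n)
    (g : H →+ L) (hg : ∀ (x : H) (n : ℕ), (g x : ∀ n, E n) n = q n x) :
    Function.Bijective g := by
  obtain ⟨Ψ, hΨ⟩ := exists_addEquiv I q t compat kill ar L hL hsurj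
  have e : (g : H → L) = Ψ ∘ AdicCompletion.of I H := by
    funext x
    apply Subtype.ext
    funext n
    rw [hg, Function.comp_apply, hΨ]
  rw [e]
  exact Ψ.bijective.comp (AdicCompletion.of_bijective I H)

/-- iterated transition maps -/
def tr (n : ℕ) : ∀ j : ℕ, E (n + j) →ₗ[A] E n
  | 0 => LinearMap.id
  | j + 1 => (tr n j).comp (t (n + j))

theorem tr_compat (y : ∀ n, E n) (hy : ∀ n, t n (y (n + 1)) = y n) (n j : ℕ) :
    tr t n j (y (n + j)) = y n := by
  induction j with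
  | zero => rfl
  | succ j ih =>
    change tr t n j (t (n + j) (y (n + j + 1))) = y n
    rw [hy, ih]

/-- the Mittag-Leffler type hypothesis gives termwise surjectivity onto compatible families -/
theorem hsurj_of_ml (ml : ∃ c, ∀ n (z : E (n + c)), ∃ x, q n x = tr t n c z)
    (y : ∀ n, E n) (hy : ∀ n, t n (y (n + 1)) = y n) (n : ℕ) : ∃ x, q n x = y n := by
  obtain ⟨c, hc⟩ := ml
  obtain ⟨x, hx⟩ := hc n (y (n + c))
  exact ⟨x, hx.trans (tr_compat t y hy n c)⟩

end Groth.Agent.Lib.T2H9.FFAlg
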