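import Groth.Agent.Lib.T2H9FFGeom8
import Groth.Agent.Lib.T2H9FFAlg

set_option autoImplicit false
set_option linter.style.haveILetI false
set_option linter.unusedSectionVars false
set_option linter.unusedVariables false
universe u
open CategoryTheory AlgebraicGeometry Limits TopologicalSpace Opposite

namespace Groth.Agent.Lib.T2H9.FFMain

open Groth.Agent.Lib.T2H9.FFGeom Groth.Agent.Lib.T2H5.HHLes Groth.Agent.Lib.T2H5.T2Les
  Groth.Agent.Lib.Helper23.QCohLocal

section complete

open TensorProduct in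
/-- a finite module over a complete Noetherian ring is complete -/
theorem isAdicComplete_of_finite {R : Type u} [CommRing R] (I : Ideal R) (M : Type u)
    [AddCommGroup M] [Module R M] [IsNoetherianRing R] [IsAdicComplete I R] [Module.Finite R M] :
    IsAdicComplete I M := by
  rw [← AdicCompletion.of_bijective_iff]
  let e : R ≃ₗ[R] AdicCompletion I R :=
    LinearEquiv.ofBijective (AdicCompletion.of I R) (AdicCompletion.of_bijective I R)
  let φ : M ≃ₗ[R] AdicCompletion I R ⊗[R] M :=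
    (TensorProduct.lid R M).symm ≪≫ₗ (LinearEquiv.rTensor M e)
  have h1 : ∀ x : M, AdicCompletion.ofTensorProduct I M (φ x) = AdicCompletion.of I M x := by
    intro x
    change AdicCompletion.ofTensorProduct I M ((AdicCompletion.of I R 1) ⊗ₜ x) = _
    rw [AdicCompletion.ofTensorProduct_tmul]
    have : AdicCompletion.of I R 1 = 1 := by
      have := (algebraMap R (AdicCompletion I R)).map_one
      exact this
    rw [this, one_smul]
  have h2 : (AdicCompletion.of I M : M → AdicCompletion I M) =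
      AdicCompletion.ofTensorProduct I M ∘ φ := by
    funext x
    exact (h1 x).symm
  rw [h2]
  exact (AdicCompletion.ofTensorProduct_bijective_of_finite_of_isNoetherian I M).comp φ.bijective

end complete

variable {A : Type u} [CommRing A] (I : Ideal A)
variable {X : Scheme.{u}} [X.Over (Spec (CommRingCat.of A))] (M : X.Modules)

section delta

/-- naturality of the connecting homomorphism -/
theorem δLin_naturality {S S' : ShortComplex X.Modules} (hS : S.ShortExact) (hS' : S'.ShortExact)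
    (φ : S ⟶ S') (i : ℕ) (x : Coh.HH X S.X₃ i) :
    δLin (A := A) S' hS' i (Canon.HHlin A φ.τ₃ i x) =
      Canon.HHlin A φ.τ₁ (i + 1) (δLin (A := A) S hS i x) := by
  have h := ShortComplex.ShortExact.extClass_naturality (shortExact_toAbF S hS)
    (shortExact_toAbF S' hS') ((toAbF X).mapShortComplex.map φ)
  exact ((Abelian.Ext.comp_assoc_of_second_deg_zero x
      (Abelian.Ext.mk₀ ((toAbF X).map φ.τ₃)) (shortExact_toAbF S' hS').extClass rfl).trans
    ((congrArg (fun z => x.comp z rfl) h.symm).trans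
      (Abelian.Ext.comp_assoc_of_third_deg_zero x (shortExact_toAbF S hS).extClass
        (Abelian.Ext.mk₀ ((toAbF X).map φ.τ₁)) rfl).symm))

end delta

/-- the transition map `M / I^m' M → M / I^m M` -/
noncomputable def modPowLE {m m' : ℕ} (h : m ≤ m') : Formal.modPow I m' M ⟶ Formal.modPow I m M :=
  cokernel.desc _ (Formal.modPowπ I m M) (Formal.smulFamily_π_of_le (Ideal.pow_le_pow_right h) M)

theorem modPowπ_LE {m m' : ℕ} (h : m ≤ m') :
    Formal.modPowπ I m' M ≫ modPowLE I M h = Formal.modPowπ I m M :=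
  cokernel.π_desc _ _ _

instance (n : ℕ) : Epi (Formal.modPowπ I n M) :=
  inferInstanceAs (Epi (cokernel.π (Formal.smulFamily (I ^ n) M)))

/-- the transition maps of the completion system, retyped -/
noncomputable def cmap {n k : ℕ} (h : n ≤ k) :
    Formal.modPow I (k + 1) M ⟶ Formal.modPow I (n + 1) M :=
  (Formal.completion I M).map (homOfLE h).op

theorem cmap_refl (n : ℕ) : cmap I M (le_refl n) = 𝟙 _ := (Formal.completion I M).map_id (op n)

theorem cmap_succ (k : ℕ) : cmap I M (Nat.le_succ k) = Formal.modPowTrans I (k + 1) M :=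
  Functor.ofOpSequence_map_homOfLE_succ _ k

theorem cmap_trans {n k l : ℕ} (h : n ≤ k) (h' : k ≤ l) :
    cmap I M (h.trans h') = cmap I M h' ≫ cmap I M h :=
  (Formal.completion I M).map_comp (homOfLE h').op (homOfLE h).op

theorem modPowπ_cmap {n k : ℕ} (h : n ≤ k) :
    Formal.modPowπ I (k + 1) M ≫ cmap I M h = Formal.modPowπ I (n + 1) M := by
  induction k, h using Nat.le_induction with
  | base =>
    rw [cmap_refl]
    exact Category.comp_id _
  | succ k hk ih =>
    rw [cmap_trans I M hk (Nat.le_succ k), ← Category.assoc, cmap_succ, Formal.modPowπ_trans, ih]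

theorem cmap_eq {n k : ℕ} (h : n ≤ k) : cmap I M h = modPowLE I M (Nat.succ_le_succ h) := by
  rw [← cancel_epi (Formal.modPowπ I (k + 1) M), modPowπ_cmap, modPowπ_LE]

section main

variable [IsNoetherianRing A] [IsProper (X ↘ Spec (CommRingCat.of A))] [hq : M.IsQuasicoherent]
  (p : ℕ)

theorem mem_ker_toHHmodPow_iff (n : ℕ) (x : Coh.HH X M p) :
    x ∈ (Formal.toHHmodPow I M p n).ker ↔ x ∈ LinearMap.range (cH I X M p (n + 1)) := by
  have h := exact₂ (A := A) (SJ X M (I ^ (n + 1))) (SJ_shortExact X M (I ^ (n + 1))) p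
  have h' : ∀ x : Coh.HH X M p, Canon.HHlin A (SJ X M (I ^ (n + 1))).g p x = 0 ↔
      x ∈ LinearMap.range (Canon.HHlin A (SJ X M (I ^ (n + 1))).f p) := by
    intro x
    exact LinearMap.mem_ker.symm.trans (Eq.to_iff (congrArg (fun S => x ∈ S) h))
  exact (h' x)

theorem smul_range_cH_le (n : ℕ) :
    (I • LinearMap.range (cH I X M p n) : Submodule A (Coh.HH X M p)) ≤
      LinearMap.range (cH I X M p (n + 1)) := by
  rw [Submodule.smul_le]
  rintro a ha _ ⟨x, rfl⟩
  have ha' : a ∈ I ^ 1 := by rwa [pow_one]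
  exact ⟨μH I X M p n 1 a ha' x, (grData I X M p).cμ n 1 a ha' x⟩

theorem range_cH_le_pow (d : ℕ)
    (hd : ∀ n, d ≤ n → LinearMap.range (cH I X M p (n + 1)) ≤
        (I • LinearMap.range (cH I X M p n) : Submodule A (Coh.HH X M p))) (j : ℕ) :
    LinearMap.range (cH I X M p (d + j)) ≤ (I ^ j • ⊤ : Submodule A (Coh.HH X M p)) := by
  induction j with
  | zero =>
    rw [pow_zero, Ideal.one_eq_top, Submodule.top_smul]
    exact le_top
  | succ j ih =>
    refine (hd (d + j) (Nat.le_add_right d j)).trans ?_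
    rw [pow_succ', Submodule.mul_smul]
    exact Submodule.smul_mono le_rfl ih

/-- the lifting statement behind the Mittag-Leffler property -/
theorem exists_lift_of_le (hM : Coh.IsCoh M) :
    ∃ c₀ : ℕ, ∀ (m m' : ℕ) (h : m + c₀ ≤ m') (y : Coh.HH X (Formal.modPow I m' M) p),
      ∃ x : Coh.HH X M p,
        Sheaf.H.map ((SheafOfModules.toSheaf X.ringCatSheaf).map (Formal.modPowπ I m M)) p x =
          Sheaf.H.map ((SheafOfModules.toSheaf X.ringCatSheaf).map
            (modPowLE I M ((Nat.le_add_right m c₀).trans h))) p y := by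
  obtain ⟨c₀, hc₀⟩ := exists_θH_eq_zero I X M hM (p + 1)
  refine ⟨c₀, fun m m' h y => ?_⟩
  have hmm : m ≤ m' := (Nat.le_add_right m c₀).trans h
  let φ : SJ X M (I ^ m') ⟶ SJ X M (I ^ m) :=
    { τ₁ := θmod I X M m m' hmm
      τ₂ := 𝟙 M
      τ₃ := modPowLE I M hmm
      comm₁₂ := by
        change θmod I X M m m' hmm ≫ pwJι X M (I ^ m) = pwJι X M (I ^ m') ≫ 𝟙 M
        rw [θmod_ι, Category.comp_id]
      comm₂₃ := by
        change 𝟙 M ≫ Formal.modPowπ I m M = Formal.modPowπ I m' M ≫ modPowLE I M hmm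
        rw [modPowπ_LE, Category.id_comp] }
  set z := δLin (A := A) (SJ X M (I ^ m')) (SJ_shortExact X M (I ^ m')) p y with hz
  have hz0 : cH I X M (p + 1) m' z = 0 := by
    have : z ∈ LinearMap.ker (Canon.HHlin A (SJ X M (I ^ m')).f (p + 1)) := by
      rw [exact₁ (A := A) (SJ X M (I ^ m')) (SJ_shortExact X M (I ^ m')) p]
      exact ⟨y, rfl⟩
    exact this
  have h1 := hc₀ m m' h z hz0
  have h2 := δLin_naturality (A := A) (SJ_shortExact X M (I ^ m')) (SJ_shortExact X M (I ^ m)) φ p y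
  have h3 : Canon.HHlin A φ.τ₃ p y ∈
      LinearMap.ker (δLin (A := A) (SJ X M (I ^ m)) (SJ_shortExact X M (I ^ m)) p) := by
    rw [LinearMap.mem_ker, h2]
    exact h1
  rw [exact₃ (A := A) (SJ X M (I ^ m)) (SJ_shortExact X M (I ^ m)) p] at h3
  obtain ⟨x, hx⟩ := h3
  exact ⟨x, hx⟩

end main

section results

variable [IsNoetherianRing A] [IsProper (X ↘ Spec (CommRingCat.of A))]

/-- S4461: the kernel filtration is `I`-good -/
theorem kernel_filtration_good (hM : Coh.IsCoh M) (p : ℕ) :
    ∃ k₀ : ℕ, ∀ k : ℕ, k₀ ≤ k →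
      ((Formal.toHHmodPow I M p (k + 1)).ker : Set (Coh.HH X M p)) =
        ((I • Submodule.span A ((Formal.toHHmodPow I M p k).ker : Set (Coh.HH X M p)) :
          Submodule A (Coh.HH X M p)) : Set (Coh.HH X M p)) := by
  haveI := hM.1
  obtain ⟨d, hd⟩ := exists_range_cH_succ_le I X M hM p
  refine ⟨d, fun k hk => ?_⟩
  have e1 : ((Formal.toHHmodPow I M p k).ker : Set (Coh.HH X M p)) =
      (LinearMap.range (cH I X M p (k + 1)) : Set (Coh.HH X M p)) := by
    ext x
    exact mem_ker_toHHmodPow_iff I M p k x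
  have e2 : ((Formal.toHHmodPow I M p (k + 1)).ker : Set (Coh.HH X M p)) =
      (LinearMap.range (cH I X M p (k + 1 + 1)) : Set (Coh.HH X M p)) := by
    ext x
    exact mem_ker_toHHmodPow_iff I M p (k + 1) x
  rw [e1, e2, Submodule.span_eq]
  congr 1
  exact le_antisymm (hd (k + 1) (hk.trans (Nat.le_succ k))) (smul_range_cH_le I M p (k + 1))

/-- S0057: the kernels are adically small -/
theorem kernels_adically_small (hM : Coh.IsCoh M) (p : ℕ) :
    ∃ c : ℕ, ∀ n : ℕ, c ≤ n →
      ((Formal.toHHmodPow I M p n).ker : Set (Coh.HH X M p)) ⊆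
        ((I ^ (n - c) • (⊤ : Submodule A (Coh.HH X M p)) : Submodule A (Coh.HH X M p)) :
          Set (Coh.HH X M p)) := by
  haveI := hM.1
  obtain ⟨d, hd⟩ := exists_range_cH_succ_le I X M hM p
  refine ⟨d, fun n hn x hx => ?_⟩
  have hx' := (mem_ker_toHHmodPow_iff I M p n x).1 hx
  obtain ⟨j, rfl⟩ := Nat.exists_eq_add_of_le hn
  have h1 := range_cH_le_pow I M p d hd (j + 1) hx'
  have e : d + j - d = j := by omega
  rw [e]
  exact Submodule.smul_mono (Ideal.pow_le_pow_right (Nat.le_succ j)) le_rfl h1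

/-- S0058: the Mittag-Leffler property -/
theorem mittag_leffler (hM : Coh.IsCoh M) (p : ℕ) :
    ∃ c : ℕ, ∀ (n k : ℕ) (h : n ≤ k), n + c ≤ k →
      Set.range (Sheaf.H.map ((SheafOfModules.toSheaf X.ringCatSheaf).map
        ((Formal.completion I M).map (homOfLE h).op)) p) =
        Set.range (Formal.toHHmodPow I M p n) := by
  haveI := hM.1
  obtain ⟨c₀, hc₀⟩ := exists_lift_of_le I M p hM
  refine ⟨c₀, fun n k h hnk => ?_⟩
  apply Set.Subset.antisymm
  · rintro _ ⟨y, rfl⟩
    obtain ⟨x, hx⟩ := hc₀ (n + 1) (k + 1) (by omega) y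
    refine ⟨x, hx.trans ?_⟩
    exact (HHmap_congr X (cmap_eq I M h) p y).symm
  · rintro _ ⟨x, rfl⟩
    refine ⟨Formal.toHHmodPow I M p k x, ?_⟩
    refine (Formal.HHmap_comp (Formal.modPowπ I (k + 1) M) (cmap I M h) p x).trans ?_
    exact HHmap_congr X (modPowπ_cmap I M h) p x

end results

section limit

/-- `H^p(X, M) → H^p(X, M/I^(n+1)M)`, linearly -/
noncomputable def qL (p n : ℕ) : Coh.HH X M p →ₗ[A] Formal.HHmodPow I M p n :=
  Canon.HHlin A (Formal.modPowπ I (n + 1) M) p

/-- the transition maps, linearly -/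
noncomputable def tL (p n : ℕ) : Formal.HHmodPow I M p (n + 1) →ₗ[A] Formal.HHmodPow I M p n :=
  Canon.HHlin A (Formal.modPowTrans I (n + 1) M) p

theorem tL_qL (p n : ℕ) (x : Coh.HH X M p) : tL I M p n (qL I M p (n + 1) x) = qL I M p n x :=
  (Formal.HHmap_comp (Formal.modPowπ I (n + 1 + 1) M) (Formal.modPowTrans I (n + 1) M) p x).trans
    (HHmap_congr X (Formal.modPowπ_trans I (n + 1) M) p x)

theorem kill_HHmodPow (p n : ℕ) (a : A) (ha : a ∈ I ^ (n + 1)) (e : Formal.HHmodPow I M p n) :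
    a • e = 0 :=
  smul_HH_cokernel X M (I ^ (n + 1)) a ha p e

theorem mem_HHlim_iff (p : ℕ) (y : ∀ n, Formal.HHmodPow I M p n) :
    y ∈ Formal.HHlim I M p ↔ ∀ n, tL I M p n (y (n + 1)) = y n := Iff.rfl

theorem cmap_HHlim (p : ℕ) (y : ∀ n, Formal.HHmodPow I M p n) (hy : y ∈ Formal.HHlim I M p)
    {n k : ℕ} (h : n ≤ k) :
    Sheaf.H.map ((SheafOfModules.toSheaf X.ringCatSheaf).map (cmap I M h)) p (y k) = y n := by
  induction k, h using Nat.le_induction with
  | base =>
    refine (HHmap_congr X (cmap_refl I M n) p (y n)).trans ?_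
    have e : (SheafOfModules.toSheaf X.ringCatSheaf).map (𝟙 (Formal.modPow I (n + 1) M)) = 𝟙 _ :=
      CategoryTheory.Functor.map_id _ _
    exact (congrArg (fun t => Sheaf.H.map t p (y n)) e).trans (Sheaf.H.map_id_apply _)
  | succ k hk ih =>
    refine (HHmap_congr X (cmap_trans I M hk (Nat.le_succ k)) p (y (k + 1))).trans ?_
    refine (Formal.HHmap_comp _ _ p (y (k + 1))).symm.trans ?_
    have e : Sheaf.H.map ((SheafOfModules.toSheaf X.ringCatSheaf).map
        (cmap I M (Nat.le_succ k))) p (y (k + 1)) = y k :=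
      (HHmap_congr X (cmap_succ I M k) p (y (k + 1))).trans (hy k)
    exact (congrArg _ e).trans ih

variable [IsNoetherianRing A] [IsProper (X ↘ Spec (CommRingCat.of A))]

theorem ar_qL (hM : Coh.IsCoh M) (p : ℕ) :
    ∃ c, ∀ n, c ≤ n → ∀ x, qL I M p n x = 0 →
      x ∈ (I ^ (n - c) • ⊤ : Submodule A (Coh.HH X M p)) := by
  obtain ⟨c, hc⟩ := kernels_adically_small I M hM p
  exact ⟨c, fun n hn x hx => hc n hn ((AddMonoidHom.mem_ker).2 hx)⟩

theorem hsurj_qL (hM : Coh.IsCoh M) (p : ℕ) :
    ∀ y ∈ Formal.HHlim I M p, ∀ n, ∃ x, qL I M p n x = y n := by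
  obtain ⟨c, hc⟩ := mittag_leffler I M hM p
  intro y hy n
  have h1 : y n ∈ Set.range (Sheaf.H.map ((SheafOfModules.toSheaf X.ringCatSheaf).map
      ((Formal.completion I M).map (homOfLE (Nat.le_add_right n c)).op)) p) :=
    ⟨y (n + c), cmap_HHlim I M p y hy (Nat.le_add_right n c)⟩
  rw [hc n (n + c) (Nat.le_add_right n c) le_rfl] at h1
  exact h1

/-- S0059: the theorem on formal functions -/
theorem formal_functions (hM : Coh.IsCoh M) (p : ℕ) :
    Nonempty (AdicCompletion I (Coh.HH X M p) ≃+ Formal.HHlim I M p) := by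
  obtain ⟨Ψ, -⟩ := FFAlg.exists_addEquiv I (qL I M p) (tL I M p) (tL_qL I M p)
    (kill_HHmodPow I M p) (ar_qL I M hM p) (Formal.HHlim I M p) (mem_HHlim_iff I M p)
    (hsurj_qL I M hM p)
  exact ⟨Ψ⟩

/-- S0003: the theorem on formal functions over a complete base -/
theorem formal_functions_complete [IsAdicComplete I A] (hM : Coh.IsCoh M) (p : ℕ) :
    Function.Bijective (Formal.toHHlim I M p) := by
  haveI : Module.Finite A (Coh.HH X M p) :=
    Groth.Agent.Lib.T2H5.T2Main.finite_HH_of_isProper A X M hM p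
  haveI : IsAdicComplete I (Coh.HH X M p) := isAdicComplete_of_finite I _
  exact FFAlg.bijective_of_isAdicComplete I (qL I M p) (tL I M p) (tL_qL I M p)
    (kill_HHmodPow I M p) (ar_qL I M hM p) (Formal.HHlim I M p) (mem_HHlim_iff I M p)
    (hsurj_qL I M hM p) (Formal.toHHlim I M p) (fun x n => rfl)

end limit

end Groth.Agent.Lib.T2H9.FFMain
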