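import Groth.Agent.Lib.T2H9FlatFib2
import Groth.Agent.Lib.Helper2PullbackSec3
import Groth.Agent.S7844

/-!
# T2H9FlatFib3 (helper9): vanishing on the fibre and the thickenings

For `f : X ⟶ Y` proper, `Y` locally Noetherian, `F` coherent and flat over `Y`, `y ∈ Y` with
`H^n(X_y, F_y) = 0` and `X₁ = X ×_Y Spec O_{Y,y}`: all `H^n(X₁, F₁/𝔪^{k+1}F₁)` vanish
(`subsingleton_HHmodPow`).
-/

set_option autoImplicit false
set_option linter.style.haveILetI false
set_option linter.unusedSectionVars false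
set_option linter.unusedVariables false
universe u
open CategoryTheory AlgebraicGeometry Limits TopologicalSpace Opposite

namespace Groth.Agent.Lib.T2H9.FibVan

open Groth.Agent.Lib.T2H9.FibQuot Groth.Agent.Lib.T2H9.FlatFib

theorem ker_φT_SpecMap {A : Type u} [CommRing A] {K : CommRingCat.{u}}
    (ψ : CommRingCat.of A ⟶ K) : RingHom.ker (φT (Spec.map ψ)) = RingHom.ker ψ.hom := by
  ext a
  rw [RingHom.mem_ker, RingHom.mem_ker]
  unfold φT
  have h2 := Scheme.ΓSpecIso_naturality ψ
  have h3 := congrArg (fun t => t.hom ((Scheme.ΓSpecIso (CommRingCat.of A)).inv.hom a)) h2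
  simp only [CommRingCat.hom_comp, RingHom.coe_comp, Function.comp_apply] at h3
  have h4 : (Scheme.ΓSpecIso (CommRingCat.of A)).hom.hom
      ((Scheme.ΓSpecIso (CommRingCat.of A)).inv.hom a) = a :=
    congrArg (fun t => t.hom a) (Scheme.ΓSpecIso (CommRingCat.of A)).inv_hom_id
  rw [h4] at h3
  have hinj1 : Function.Injective (Scheme.ΓSpecIso K).hom.hom :=
    ((ConcreteCategory.isIso_iff_bijective (Scheme.ΓSpecIso _).hom).1 inferInstance).1
  constructor
  · intro h
    change (Spec.map ψ).appTop.hom _ = 0 at h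
    rw [h, map_zero] at h3
    exact h3.symm
  · intro h
    change (Spec.map ψ).appTop.hom _ = 0
    apply hinj1
    rw [map_zero]
    exact h3.trans h

section main

variable {X Y : Scheme.{u}} (f : X ⟶ Y) [IsProper f] [IsLocallyNoetherian Y]
  (F : X.Modules) (hF : Coh.IsCoh F) (hfl : FlatMod.IsFlatOver f F) (y : Y) (n : ℕ)
  (X₁ : Scheme.{u}) [hO : X₁.Over (Spec (CommRingCat.of (Y.presheaf.stalk y)))] (g : X₁ ⟶ X)
  (hsq : IsPullback g (X₁ ↘ Spec (CommRingCat.of (Y.presheaf.stalk y))) f (Y.fromSpecStalk y))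

include hF hfl hsq in
/-- if `H^n(X_y, F_y) = 0` and `F` is flat over `Y`, then `H^n(X₁, F₁/𝔪^{k+1}F₁) = 0` for all `k`,
where `X₁ = X ×_Y Spec O_{Y,y}` -/
theorem subsingleton_HHmodPow (hvan : Subsingleton (CohIII.fiberH f F y n)) (k : ℕ) :
    Subsingleton (Formal.HHmodPow (IsLocalRing.maximalIdeal (Y.presheaf.stalk y))
      ((Scheme.Modules.pullback g).obj F) n k) := by
  haveI := hF.1
  have hF₁ : Coh.IsCoh ((Scheme.Modules.pullback g).obj F) :=
    Groth.Agent.Lib.T2H5.GenIsoD.isCoh_pullback g F hF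
  haveI := hF₁.1
  have hfl₁ : FlatMod.IsFlatOver (X₁ ↘ Spec (CommRingCat.of (Y.presheaf.stalk y)))
      ((Scheme.Modules.pullback g).obj F) := fun x' =>
    Groth.Agent.Lib.Helper2.PullbackSec.isFlatOverAt_pullback_of_isPullback hsq F x' (hfl _)
  -- the fibre as a base change of `X₁`
  have hw : f.fiberι y ≫ f =
      (f.fiberToSpecResidueField y ≫ Spec.map (Y.residue y)) ≫ Y.fromSpecStalk y := by
    rw [Category.assoc]
    exact f.fiber_fac y
  let j : f.fiber y ⟶ X₁ := hsq.lift (f.fiberι y)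
    (f.fiberToSpecResidueField y ≫ Spec.map (Y.residue y)) hw
  have hj1 : j ≫ g = f.fiberι y := hsq.lift_fst _ _ _
  have hj2 : j ≫ (X₁ ↘ Spec (CommRingCat.of (Y.presheaf.stalk y))) =
      f.fiberToSpecResidueField y ≫ Spec.map (Y.residue y) := hsq.lift_snd _ _ _
  have hbig : IsPullback (j ≫ g) (f.fiberToSpecResidueField y) f
      (Spec.map (Y.residue y) ≫ Y.fromSpecStalk y) := by
    rw [hj1]
    exact IsPullback.of_hasPullback f (Y.fromSpecResidueField y)
  have hpb : IsPullback j (f.fiberToSpecResidueField y)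
      (X₁ ↘ Spec (CommRingCat.of (Y.presheaf.stalk y))) (Spec.map (Y.residue y)) :=
    IsPullback.of_right hbig hj2 hsq
  haveI : IsClosedImmersion j := isClosedImmersion_of_isPullback X₁ _ _ _ hpb
  have hk : RingHom.ker (φT (A := Y.presheaf.stalk y) (Spec.map (Y.residue y))) =
      IsLocalRing.maximalIdeal (Y.presheaf.stalk y) := by
    rw [ker_φT_SpecMap]
    exact IsLocalRing.ker_residue
  have e : CohIII.fiberMod f F y ≅
      (Scheme.Modules.pullback j).obj ((Scheme.Modules.pullback g).obj F) :=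
    ((Scheme.Modules.pullbackComp j g).app F ≪≫ (Scheme.Modules.pullbackCongr hj1).app F).symm
  haveI : IsClosedImmersion (Spec.map (Y.residue y)) := inferInstance
  have h1 := @subsingleton_HH_cokernel (Y.presheaf.stalk y) _ X₁ hO
    ((Scheme.Modules.pullback g).obj F) _ _ j
    (f.fiberToSpecResidueField y) (Spec.map (Y.residue y)) hpb inferInstance inferInstance
    inferInstance
    (IsLocalRing.maximalIdeal (Y.presheaf.stalk y)) hk (CohIII.fiberMod f F y) e n hvan
  exact subsingleton_modPow X₁ ((Scheme.Modules.pullback g).obj F) hfl₁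
    (IsLocalRing.maximalIdeal (Y.presheaf.stalk y)) n h1 k

end main

end Groth.Agent.Lib.T2H9.FibVan
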