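import Groth.Agent.Lib.T2H9FlatFib4
import Groth.Agent.Lib.T2H9FlatFib3
import Groth.Agent.Lib.T2H5ClosedLin
import Groth.Agent.Lib.Helper2LocFree
import Groth.Agent.Lib.Helper2RankLoc
import Groth.Agent.Lib.Helper23AffOpen3
import Groth.Agent.Lib.Helper18Epi1

/-!
# T2H9FlatFib5 (helper9): local freeness of `R^p f_* F` from fibre cohomology

For `f : X ⟶ Y` proper, `Y` locally Noetherian, `F` coherent and flat over `Y`, `y ∈ Y`:
* `subsingleton_fiberH_iff`: `H^p(X_y, F_y) = 0 ↔ H^p(X₁, F₁/𝔪F₁) = 0` (`X₁ = X ×_Y Spec O_{Y,y}`);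
* `fiberRank_eq`, `exists_restrict_iso_freeMod`: the key lemma of `T2H9FlatFib4` globalised;
* `exists_restrict_iso_freeMod_of_adjacent`: if `H^{i0±1}(X_y, F_y) = 0` then `R^{i0} f_* F` is
  free near `y` of rank `dim H^{i0}(X_y, F_y)`;
* `subsingleton_fiberH_of_isZero_Rpush`: `R^i f_* F = 0 ∀ i > 0 ⇒ H^i(X_y, F_y) = 0 ∀ i > 0`;
* `exists_cohDim`: finite cohomological dimension of quasi-compact separated schemes.
-/

set_option autoImplicit false
set_option linter.style.haveILetI false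
set_option linter.unusedSectionVars false
set_option linter.unusedVariables false
universe u
open CategoryTheory AlgebraicGeometry Limits TopologicalSpace Opposite TensorProduct

namespace Groth.Agent.Lib.T2H9.FibFree

open Groth.Agent.Lib.T2H9.FibQuot Groth.Agent.Lib.T2H9.FlatFib Groth.Agent.Lib.T2H9.FFGeom

section lin

variable {A : Type u} [CommRing A]
variable (X : Scheme.{u}) [X.Over (Spec (CommRingCat.of A))] (F : X.Modules)
variable {Z T : Scheme.{u}} (i : Z ⟶ X) (q : Z ⟶ T) (f : T ⟶ Spec (CommRingCat.of A))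
  (hpb : IsPullback i q (X ↘ Spec (CommRingCat.of A)) f)
  [IsClosedImmersion i] [F.IsQuasicoherent] [IsClosedImmersion f]
  [Z.Over (Spec (CommRingCat.of A))]
  (hZ : i ≫ (X ↘ Spec (CommRingCat.of A)) = Z ↘ Spec (CommRingCat.of A))

include hpb hZ in
/-- `H^p(X, F/𝔞F) ≃ₗ[A] H^p(Z, i^*F)` for the base change `Z` of `V(𝔞)` -/
theorem nonempty_linearEquiv_fibre (𝔞 : Ideal A) (h𝔞 : RingHom.ker (φT f) = 𝔞) (G : Z.Modules)
    (e : G ≅ (Scheme.Modules.pullback i).obj F) (p : ℕ) :
    Nonempty (Coh.HH X (cokernel (Formal.smulFamily 𝔞 F)) p ≃ₗ[A] Coh.HH Z G p) := by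
  obtain ⟨ε⟩ := nonempty_iso_pushPull X F i q f hpb 𝔞 h𝔞
  obtain ⟨e1⟩ := Groth.Agent.Lib.T2H9.FBCStalk.nonempty_linearEquiv_of_iso (A := A) ε p
  obtain ⟨e2⟩ := Groth.Agent.Lib.T2H5.ClosedLin.nonempty_linearEquiv i A hZ
    ((Scheme.Modules.pullback i).obj F) p
  obtain ⟨e3⟩ := Groth.Agent.Lib.T2H9.FBCStalk.nonempty_linearEquiv_of_iso (A := A) e p
  exact ⟨e1.trans (e2.symm.trans e3.symm)⟩

end lin

section rank

theorem finrank_eq_of_linearEquiv {A : Type*} [CommRing A] [IsLocalRing A] (W : Type*)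
    [AddCommGroup W] [Module A W] [Module (IsLocalRing.ResidueField A) W]
    (hcompat : ∀ (a : A) (w : W), a • w = IsLocalRing.residue A a • w) {h : ℕ}
    (g : W ≃ₗ[A] (Fin h → A ⧸ IsLocalRing.maximalIdeal A)) :
    Module.finrank (IsLocalRing.ResidueField A) W = h := by
  let g' : W ≃ₗ[IsLocalRing.ResidueField A] (Fin h → IsLocalRing.ResidueField A) :=
    { g.toAddEquiv with
      map_smul' := by
        intro r w
        obtain ⟨a, rfl⟩ := IsLocalRing.residue_surjective r
        change g (IsLocalRing.residue A a • w) =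
          IsLocalRing.residue A a • (show Fin h → IsLocalRing.ResidueField A from g w)
        rw [← hcompat, map_smul]
        funext i
        change a • (g w i) = IsLocalRing.residue A a *
          (show IsLocalRing.ResidueField A from g w i)
        rw [Algebra.smul_def]
        rfl }
  rw [g'.finrank_eq, Module.finrank_fin_fun]

theorem toGlobal_comp_SpecMap {A : Type u} [CommRing A] {Z : Scheme.{u}} {K : CommRingCat.{u}}
    (q : Z ⟶ Spec K) (ψ : CommRingCat.of A ⟶ K) (a : A) :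
    Coh.toGlobal (A := A) (q ≫ Spec.map ψ) a = Coh.toGlobal (A := K) q (ψ.hom a) := by
  unfold Coh.toGlobal
  have h1 := Scheme.ΓSpecIso_inv_naturality ψ
  have h2 := congrArg (fun t => t.hom a) h1
  simp only [CommRingCat.hom_comp, RingHom.coe_comp, Function.comp_apply] at h2
  change (q ≫ Spec.map ψ).appTop.hom ((Scheme.ΓSpecIso (CommRingCat.of A)).inv.hom a) =
    q.appTop.hom ((Scheme.ΓSpecIso K).inv.hom (ψ.hom a))
  rw [h2]
  rfl

end rank

section main

variable {X Y : Scheme.{u}} (f : X ⟶ Y) [IsProper f] [IsLocallyNoetherian Y]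
  (F : X.Modules) (hF : Coh.IsCoh F) (hfl : FlatMod.IsFlatOver f F) (y : Y) (p : ℕ)
  (X₁ : Scheme.{u}) [hO : X₁.Over (Spec (CommRingCat.of (Y.presheaf.stalk y)))] (g : X₁ ⟶ X)
  (hsq : IsPullback g (X₁ ↘ Spec (CommRingCat.of (Y.presheaf.stalk y))) f (Y.fromSpecStalk y))

include hsq in
/-- the fibre `X_y` as the base change of `X₁ = X ×_Y Spec O_{Y,y}` along
`Spec κ(y) → Spec O_{Y,y}` -/
theorem exists_fibre_square :
    ∃ j : f.fiber y ⟶ X₁, j ≫ g = f.fiberι y ∧
      j ≫ (X₁ ↘ Spec (CommRingCat.of (Y.presheaf.stalk y))) =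
        f.fiberToSpecResidueField y ≫ Spec.map (Y.residue y) ∧
      IsPullback j (f.fiberToSpecResidueField y)
        (X₁ ↘ Spec (CommRingCat.of (Y.presheaf.stalk y))) (Spec.map (Y.residue y)) := by
  have hw : f.fiberι y ≫ f =
      (f.fiberToSpecResidueField y ≫ Spec.map (Y.residue y)) ≫ Y.fromSpecStalk y := by
    rw [Category.assoc]
    exact f.fiber_fac y
  let j : f.fiber y ⟶ X₁ := hsq.lift (f.fiberι y)
    (f.fiberToSpecResidueField y ≫ Spec.map (Y.residue y)) hw
  have hj1 : j ≫ g = f.fiberι y := hsq.lift_fst _ _ _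
  have hj2 : j ≫ (X₁ ↘ Spec (CommRingCat.of (Y.presheaf.stalk y))) =
      f.fiberToSpecResidueField y ≫ Spec.map (Y.residue y) := hsq.lift_snd _ _ _
  have hbig : IsPullback (j ≫ g) (f.fiberToSpecResidueField y) f
      (Spec.map (Y.residue y) ≫ Y.fromSpecStalk y) := by
    rw [hj1]
    exact IsPullback.of_hasPullback f (Y.fromSpecResidueField y)
  exact ⟨j, hj1, hj2, IsPullback.of_right hbig hj2 hsq⟩

include hF hsq in
/-- `H^p(X₁, F₁/𝔪F₁) ≅ (A/𝔪)^h` forces `dim_{κ(y)} H^p(X_y, F_y) = h` -/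
theorem fiberRank_eq {h : ℕ}
    (e2 : Coh.HH X₁ (cokernel (Formal.smulFamily (IsLocalRing.maximalIdeal (Y.presheaf.stalk y))
      ((Scheme.Modules.pullback g).obj F))) p ≃ₗ[Y.presheaf.stalk y]
        (Fin h → Y.presheaf.stalk y ⧸ IsLocalRing.maximalIdeal (Y.presheaf.stalk y))) :
    CohIII.fiberRank f F p y = h := by
  haveI := hF.1
  have hF₁ : Coh.IsCoh ((Scheme.Modules.pullback g).obj F) :=
    Groth.Agent.Lib.T2H5.GenIsoD.isCoh_pullback g F hF
  haveI := hF₁.1
  obtain ⟨j, hj1, hj2, hpb⟩ := exists_fibre_square f y X₁ g hsq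
  letI hOZ : (f.fiber y).Over (Spec (CommRingCat.of (Y.presheaf.stalk y))) :=
    ⟨f.fiberToSpecResidueField y ≫ Spec.map (Y.residue y)⟩
  haveI : IsClosedImmersion (Spec.map (Y.residue y)) := inferInstance
  haveI : IsClosedImmersion j := isClosedImmersion_of_isPullback X₁ _ _ _ hpb
  have hk : RingHom.ker (φT (A := Y.presheaf.stalk y) (Spec.map (Y.residue y))) =
      IsLocalRing.maximalIdeal (Y.presheaf.stalk y) := by
    rw [Groth.Agent.Lib.T2H9.FibVan.ker_φT_SpecMap]
    exact IsLocalRing.ker_residue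
  have e : CohIII.fiberMod f F y ≅
      (Scheme.Modules.pullback j).obj ((Scheme.Modules.pullback g).obj F) :=
    ((Scheme.Modules.pullbackComp j g).app F ≪≫ (Scheme.Modules.pullbackCongr hj1).app F).symm
  obtain ⟨e3⟩ := @nonempty_linearEquiv_fibre (Y.presheaf.stalk y) _ X₁ hO
    ((Scheme.Modules.pullback g).obj F) _ _ j (f.fiberToSpecResidueField y)
    (Spec.map (Y.residue y)) hpb inferInstance inferInstance inferInstance hOZ hj2
    (IsLocalRing.maximalIdeal (Y.presheaf.stalk y)) hk (CohIII.fiberMod f F y) e p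
  unfold CohIII.fiberRank
  letI : Module (IsLocalRing.ResidueField ↑(Y.presheaf.stalk y)) (CohIII.fiberH f F y p) :=
    CohIII.moduleFiberH f F y p
  refine finrank_eq_of_linearEquiv (A := Y.presheaf.stalk y) (CohIII.fiberH f F y p) ?_
    (e3.symm.trans e2)
  intro a w
  change Coh.toGlobal (A := Y.presheaf.stalk y)
      (f.fiberToSpecResidueField y ≫ Spec.map (Y.residue y)) a • w =
    Coh.toGlobal (A := Y.residueField y) (f.fiberToSpecResidueField y)
      (IsLocalRing.residue _ a) • w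
  rw [toGlobal_comp_SpecMap]
  rfl

end main

section main2

variable {X Y : Scheme.{u}} (f : X ⟶ Y) [IsProper f] [IsLocallyNoetherian Y]
  [HasInjectiveResolutions X.Modules]
  (F : X.Modules) (hF : Coh.IsCoh F) (hfl : FlatMod.IsFlatOver f F) (y : Y) (p : ℕ)
  (X₁ : Scheme.{u}) [hO : X₁.Over (Spec (CommRingCat.of (Y.presheaf.stalk y)))] (g : X₁ ⟶ X)
  (hsq : IsPullback g (X₁ ↘ Spec (CommRingCat.of (Y.presheaf.stalk y))) f (Y.fromSpecStalk y))

include hF hfl hsq in
/-- **Local freeness of `R^p f_* F` near `y`** from the hypotheses of the key lemma over the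
local ring `O_{Y,y}`. -/
theorem exists_restrict_iso_freeMod
    (H1 : Subsingleton (Coh.HH X₁ (cokernel (Formal.smulFamily
      (IsLocalRing.maximalIdeal (Y.presheaf.stalk y)) ((Scheme.Modules.pullback g).obj F)))
      (p + 1)))
    (H2 : ∀ (J J' : Ideal (Y.presheaf.stalk y)) (hle : J ≤ J'),
      (∃ n : ℕ, IsLocalRing.maximalIdeal (Y.presheaf.stalk y) ^ n ≤ J) →
      Function.Injective (Canon.HHlin (Y.presheaf.stalk y)
        (εJ X₁ ((Scheme.Modules.pullback g).obj F) J J' hle) p)) :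
    ∃ U : Y.Opens, y ∈ U ∧ Nonempty (((Coh.Rpush f p).obj F).restrict U.ι ≅
      FlatMod.freeMod (↑U) (CohIII.fiberRank f F p y)) := by
  haveI := hF.1
  haveI : IsProper (X₁ ↘ Spec (CommRingCat.of (Y.presheaf.stalk y))) :=
    MorphismProperty.of_isPullback hsq inferInstance
  have hF₁ : Coh.IsCoh ((Scheme.Modules.pullback g).obj F) :=
    Groth.Agent.Lib.T2H5.GenIsoD.isCoh_pullback g F hF
  haveI := hF₁.1
  have hfl₁ : FlatMod.IsFlatOver (X₁ ↘ Spec (CommRingCat.of (Y.presheaf.stalk y)))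
      ((Scheme.Modules.pullback g).obj F) := fun x' =>
    Groth.Agent.Lib.Helper2.PullbackSec.isFlatOverAt_pullback_of_isPullback hsq F x' (hfl _)
  obtain ⟨h, ⟨e1⟩, ⟨e2⟩⟩ := exists_free X₁ ((Scheme.Modules.pullback g).obj F) hF₁ hfl₁ p H1 H2
  obtain ⟨e0⟩ := Groth.Agent.Lib.T2H9.FBCStalk.stalk_linearEquiv f F hF y p X₁ g hsq
  have hh : CohIII.fiberRank f F p y = h := fiberRank_eq f F hF y p X₁ g hsq e2
  have hG := Groth.Agent.Lib.T2H5.RpushCoh.isCoh_Rpush f F hF p
  haveI := hG.1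
  haveI := hG.2
  haveI : SheafOfModules.IsFinitePresentation (R := Y.ringCatSheaf) ((Coh.Rpush f p).obj F) :=
    Groth.Agent.Lib.Helper23.FinType.isFinitePresentation_of_isFiniteType _
  have e01 : ((Coh.Rpush f p).obj F).presheaf.stalk y ≃ₗ[Y.presheaf.stalk y]
      (Fin h → Y.presheaf.stalk y) := e0.trans e1
  haveI : Module.Free (Y.presheaf.stalk y) (((Coh.Rpush f p).obj F).presheaf.stalk y) :=
    Module.Free.of_equiv e01.symm
  haveI : Module.Finite (Y.presheaf.stalk y) (((Coh.Rpush f p).obj F).presheaf.stalk y) :=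
    Module.Finite.equiv e01.symm
  have hflat : FlatMod.IsFlatAt ((Coh.Rpush f p).obj F) y :=
    (inferInstance : Module.Flat (Y.presheaf.stalk y) _)
  obtain ⟨D, m, hyD, ⟨e⟩⟩ :=
    Groth.Agent.Lib.Helper2.LocFree.exists_restrict_iso_freeMod_of_isFlatAt _ y hflat
  obtain ⟨-, hrk⟩ := Groth.Agent.Lib.Helper2.RankLoc.fibreRank_eq_of_restrict_iso_freeMod
    D.ι ((Coh.Rpush f p).obj F) e ⟨y, hyD⟩
  have hm : m = h := by
    rw [← hrk]
    change Module.finrank (IsLocalRing.ResidueField (Y.presheaf.stalk y))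
      (IsLocalRing.ResidueField (Y.presheaf.stalk y) ⊗[Y.presheaf.stalk y]
        ((Coh.Rpush f p).obj F).presheaf.stalk y) = h
    rw [Module.finrank_baseChange, e01.finrank_eq, Module.finrank_fin_fun]
  subst hm
  rw [hh]
  exact ⟨D, hyD, ⟨e⟩⟩

end main2

section fibre

variable {X Y : Scheme.{u}} (f : X ⟶ Y) [IsProper f] [IsLocallyNoetherian Y]
  (F : X.Modules) (hF : Coh.IsCoh F) (y : Y) (p : ℕ)
  (X₁ : Scheme.{u}) [hO : X₁.Over (Spec (CommRingCat.of (Y.presheaf.stalk y)))] (g : X₁ ⟶ X)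
  (hsq : IsPullback g (X₁ ↘ Spec (CommRingCat.of (Y.presheaf.stalk y))) f (Y.fromSpecStalk y))

include hF hsq in
/-- `H^p(X_y, F_y) = 0 ↔ H^p(X₁, F₁/𝔪F₁) = 0` -/
theorem subsingleton_fiberH_iff :
    Subsingleton (CohIII.fiberH f F y p) ↔
      Subsingleton (Coh.HH X₁ (cokernel (Formal.smulFamily
        (IsLocalRing.maximalIdeal (Y.presheaf.stalk y)) ((Scheme.Modules.pullback g).obj F))) p) := by
  haveI := hF.1
  have hF₁ : Coh.IsCoh ((Scheme.Modules.pullback g).obj F) :=
    Groth.Agent.Lib.T2H5.GenIsoD.isCoh_pullback g F hF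
  haveI := hF₁.1
  obtain ⟨j, hj1, hj2, hpb⟩ := exists_fibre_square f y X₁ g hsq
  letI hOZ : (f.fiber y).Over (Spec (CommRingCat.of (Y.presheaf.stalk y))) :=
    ⟨f.fiberToSpecResidueField y ≫ Spec.map (Y.residue y)⟩
  haveI : IsClosedImmersion (Spec.map (Y.residue y)) := inferInstance
  haveI : IsClosedImmersion j := isClosedImmersion_of_isPullback X₁ _ _ _ hpb
  have hk : RingHom.ker (φT (A := Y.presheaf.stalk y) (Spec.map (Y.residue y))) =
      IsLocalRing.maximalIdeal (Y.presheaf.stalk y) := by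
    rw [Groth.Agent.Lib.T2H9.FibVan.ker_φT_SpecMap]
    exact IsLocalRing.ker_residue
  have e : CohIII.fiberMod f F y ≅
      (Scheme.Modules.pullback j).obj ((Scheme.Modules.pullback g).obj F) :=
    ((Scheme.Modules.pullbackComp j g).app F ≪≫ (Scheme.Modules.pullbackCongr hj1).app F).symm
  obtain ⟨e3⟩ := @nonempty_linearEquiv_fibre (Y.presheaf.stalk y) _ X₁ hO
    ((Scheme.Modules.pullback g).obj F) _ _ j (f.fiberToSpecResidueField y)
    (Spec.map (Y.residue y)) hpb inferInstance inferInstance inferInstance hOZ hj2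
    (IsLocalRing.maximalIdeal (Y.presheaf.stalk y)) hk (CohIII.fiberMod f F y) e p
  exact ⟨fun h => e3.toEquiv.subsingleton, fun h => e3.symm.toEquiv.subsingleton⟩

end fibre

section cohdim

/-- finite cohomological dimension of a quasi-compact scheme with affine intersections of
affine opens -/
theorem exists_cohDim (X : Scheme.{u}) [CompactSpace X]
    (hd : ∀ V W : X.Opens, IsAffineOpen V → IsAffineOpen W → IsAffineOpen (V ⊓ W)) :
    ∃ t : ℕ, ∀ (M : X.Modules) [M.IsQuasicoherent] (n : ℕ), t ≤ n →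
      Subsingleton (Coh.HH X M n) := by
  let 𝒰 : X.OpenCover := X.affineCover.finiteSubcover
  have hfin : Finite 𝒰.I₀ := by dsimp [𝒰]; infer_instance
  have haff : ∀ i, IsAffine (𝒰.X i) := by intro i; dsimp [𝒰]; infer_instance
  obtain ⟨t, ⟨σ⟩⟩ := Finite.exists_equiv_fin 𝒰.I₀
  refine ⟨t, fun M _ n hn => ?_⟩
  refine Groth.Agent.Lib.Helper23.AffVanish.subsingleton_HH_of_cover t
    (fun k => (𝒰.f (σ.symm k)).opensRange) (fun k => isAffineOpen_opensRange _) ?_ hd M n hn
  rw [eq_top_iff]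
  intro x _
  obtain ⟨i, z, hz⟩ := 𝒰.exists_eq x
  exact Opens.mem_iSup.2 ⟨σ i, by rw [Equiv.symm_apply_apply]; exact ⟨z, hz⟩⟩

theorem isAffineOpen_inf_of_isSeparated {X S : Scheme.{u}} (π : X ⟶ S) [IsSeparated π] [IsAffine S]
    (V W : X.Opens) (hV : IsAffineOpen V) (hW : IsAffineOpen W) : IsAffineOpen (V ⊓ W) := by
  haveI : IsAffineHom (pullback.diagonal π) := inferInstance
  exact (isAffineHom_diagonal_iff (f := π)).1 inferInstance ⊤ (isAffineOpen_top S) V le_top W
    le_top hV hW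

end cohdim

section apps

variable {X Y : Scheme.{u}} (f : X ⟶ Y) [IsProper f] [IsLocallyNoetherian Y]
  [HasInjectiveResolutions X.Modules]
  (F : X.Modules) (hF : Coh.IsCoh F) (hfl : FlatMod.IsFlatOver f F) (y : Y)

include hF hfl in
/-- if `H^i(X_y, F_y) = 0` for `i = i0 - 1` and `i = i0 + 1`, then `R^{i0} f_* F` is free near `y`
of rank `dim H^{i0}(X_y, F_y)` -/
theorem exists_restrict_iso_freeMod_of_adjacent (i0 : ℕ)
    (hsucc : Subsingleton (CohIII.fiberH f F y (i0 + 1)))
    (hpred : ∀ k : ℕ, k + 1 = i0 → Subsingleton (CohIII.fiberH f F y k)) :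
    ∃ U : Y.Opens, y ∈ U ∧ Nonempty (((Coh.Rpush f i0).obj F).restrict U.ι ≅
      FlatMod.freeMod (↑U) (CohIII.fiberRank f F i0 y)) := by
  letI hO : (pullback f (Y.fromSpecStalk y)).Over (Spec (CommRingCat.of (Y.presheaf.stalk y))) :=
    ⟨pullback.snd f (Y.fromSpecStalk y)⟩
  have hsq : IsPullback (pullback.fst f (Y.fromSpecStalk y))
      ((pullback f (Y.fromSpecStalk y)) ↘ Spec (CommRingCat.of (Y.presheaf.stalk y)))
      f (Y.fromSpecStalk y) := IsPullback.of_hasPullback f (Y.fromSpecStalk y)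
  haveI := hF.1
  have hF₁ : Coh.IsCoh ((Scheme.Modules.pullback (pullback.fst f (Y.fromSpecStalk y))).obj F) :=
    Groth.Agent.Lib.T2H5.GenIsoD.isCoh_pullback _ F hF
  haveI := hF₁.1
  have hfl₁ : FlatMod.IsFlatOver
      ((pullback f (Y.fromSpecStalk y)) ↘ Spec (CommRingCat.of (Y.presheaf.stalk y)))
      ((Scheme.Modules.pullback (pullback.fst f (Y.fromSpecStalk y))).obj F) := fun x' =>
    Groth.Agent.Lib.Helper2.PullbackSec.isFlatOverAt_pullback_of_isPullback hsq F x' (hfl _)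
  refine exists_restrict_iso_freeMod f F hF hfl y i0 _ _ hsq
    ((subsingleton_fiberH_iff f F hF y (i0 + 1) _ _ hsq).1 hsucc) ?_
  intro J J' hle hprim
  cases i0 with
  | zero => exact injective_εJ_zero _ _ J J' hle
  | succ k =>
    refine injective_εJ_succ _ _ J J' hle k ?_
    obtain ⟨n, hn⟩ := hprim
    exact subsingleton_Q_of_primary _ _ hfl₁ (IsLocalRing.maximalIdeal (Y.presheaf.stalk y)) k
      ((subsingleton_fiberH_iff f F hF y k _ _ hsq).1 (hpred k rfl)) J' ⟨n, hn.trans hle⟩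

include hF hfl in
/-- if `R^i f_* F = 0` for all `i > 0` then `H^i(X_y, F_y) = 0` for all `i > 0` -/
theorem subsingleton_fiberH_of_isZero_Rpush
    (hR : ∀ i : ℕ, 0 < i → IsZero ((Coh.Rpush f i).obj F)) (i : ℕ) (hi : 0 < i) :
    Subsingleton (CohIII.fiberH f F y i) := by
  letI hO : (pullback f (Y.fromSpecStalk y)).Over (Spec (CommRingCat.of (Y.presheaf.stalk y))) :=
    ⟨pullback.snd f (Y.fromSpecStalk y)⟩
  have hsq : IsPullback (pullback.fst f (Y.fromSpecStalk y))
      ((pullback f (Y.fromSpecStalk y)) ↘ Spec (CommRingCat.of (Y.presheaf.stalk y)))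
      f (Y.fromSpecStalk y) := IsPullback.of_hasPullback f (Y.fromSpecStalk y)
  haveI := hF.1
  have hF₁ : Coh.IsCoh ((Scheme.Modules.pullback (pullback.fst f (Y.fromSpecStalk y))).obj F) :=
    Groth.Agent.Lib.T2H5.GenIsoD.isCoh_pullback _ F hF
  haveI := hF₁.1
  have hfl₁ : FlatMod.IsFlatOver
      ((pullback f (Y.fromSpecStalk y)) ↘ Spec (CommRingCat.of (Y.presheaf.stalk y)))
      ((Scheme.Modules.pullback (pullback.fst f (Y.fromSpecStalk y))).obj F) := fun x' =>
    Groth.Agent.Lib.Helper2.PullbackSec.isFlatOverAt_pullback_of_isPullback hsq F x' (hfl _)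
  haveI hprop : IsProper
      ((pullback f (Y.fromSpecStalk y)) ↘ Spec (CommRingCat.of (Y.presheaf.stalk y))) :=
    MorphismProperty.of_isPullback hsq inferInstance
  haveI : CompactSpace ↥(pullback f (Y.fromSpecStalk y)) :=
    QuasiCompact.compactSpace_of_compactSpace
      ((pullback f (Y.fromSpecStalk y)) ↘ Spec (CommRingCat.of (Y.presheaf.stalk y)))
  obtain ⟨t, ht⟩ := exists_cohDim (pullback f (Y.fromSpecStalk y))
    (isAffineOpen_inf_of_isSeparated
      ((pullback f (Y.fromSpecStalk y)) ↘ Spec (CommRingCat.of (Y.presheaf.stalk y))))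
  rw [subsingleton_fiberH_iff f F hF y i _ _ hsq]
  -- vanishing of `H^n(X₁, F₁)` for `n > 0`
  have hF0 : ∀ n : ℕ, 0 < n → Subsingleton (Coh.HH (pullback f (Y.fromSpecStalk y))
      ((Scheme.Modules.pullback (pullback.fst f (Y.fromSpecStalk y))).obj F) n) := by
    intro n hn
    obtain ⟨e0⟩ := Groth.Agent.Lib.T2H9.FBCStalk.stalk_linearEquiv f F hF y n _ _ hsq
    haveI := Groth.Agent.Helper18Epi.subsingleton_stalk_of_isZero (hR n hn) y
    exact e0.symm.toEquiv.subsingleton
  have key : ∀ d n : ℕ, 0 < n → t ≤ n + d →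
      Subsingleton (Coh.HH (pullback f (Y.fromSpecStalk y)) (cokernel (Formal.smulFamily
        (IsLocalRing.maximalIdeal (Y.presheaf.stalk y))
        ((Scheme.Modules.pullback (pullback.fst f (Y.fromSpecStalk y))).obj F))) n) := by
    intro d
    induction d with
    | zero =>
      intro n _ hn
      haveI : (cokernel (Formal.smulFamily (IsLocalRing.maximalIdeal (Y.presheaf.stalk y))
          ((Scheme.Modules.pullback (pullback.fst f (Y.fromSpecStalk y))).obj F))).IsQuasicoherent :=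
        (isCoh_Q _ _ hF₁ _).1
      exact ht _ n hn
    | succ d ih =>
      intro n hn0 hn
      have h1 := ih (n + 1) (Nat.succ_pos n) (by omega)
      have hs := surjective_toHHmodPow _ _ (IsLocalRing.maximalIdeal (Y.presheaf.stalk y)) hF₁ n
        (surjective_tL _ _ hfl₁ (IsLocalRing.maximalIdeal (Y.presheaf.stalk y)) n h1) 0
      haveI := hF0 n hn0
      have h2 : Subsingleton (Formal.HHmodPow (IsLocalRing.maximalIdeal (Y.presheaf.stalk y))
          ((Scheme.Modules.pullback (pullback.fst f (Y.fromSpecStalk y))).obj F) n 0) :=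
        hs.subsingleton
      have aux : ∀ J J' : Ideal (Y.presheaf.stalk y), J = J' →
          Subsingleton (Coh.HH (pullback f (Y.fromSpecStalk y)) (cokernel (Formal.smulFamily J
            ((Scheme.Modules.pullback (pullback.fst f (Y.fromSpecStalk y))).obj F))) n) →
          Subsingleton (Coh.HH (pullback f (Y.fromSpecStalk y)) (cokernel (Formal.smulFamily J'
            ((Scheme.Modules.pullback (pullback.fst f (Y.fromSpecStalk y))).obj F))) n) := by
        intro J J' hJ h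
        subst hJ
        exact h
      exact aux (IsLocalRing.maximalIdeal (Y.presheaf.stalk y) ^ (0 + 1)) _
        (by rw [zero_add, pow_one]) h2
  exact key t i hi (Nat.le_add_left t i)

end apps

end Groth.Agent.Lib.T2H9.FibFree
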