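import Mathlib
import Groth.Agent.S2390
import Groth.Agent.S9705
import Groth.Agent.Lib.T2H5RelReg
import Groth.Agent.Lib.T2H5PnFlat
import Groth.Agent.Lib.T2H5RpushClosed
import Groth.Agent.Lib.Helper23ModAbBridge
import Groth.Agent.Lib.Helper2LocFree
import Groth.Agent.Lib.T2H5AmpleSerre2
import Groth.Agent.Lib.T2H5AmplePn
import Groth.Agent.Lib.T2H6VAmpleG
import Groth.Agent.Lib.Helper1FLF1
import Groth.Agent.Lib.Helper23LocGen
import Groth.Agent.S0022
import Groth.Agent.Lib.Helper20PullbackAff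
import Groth.Agent.Lib.T2H5TwistOver
set_option backward.isDefEq.respectTransparency.types false

/-!
# T2H5RegPush: for a finite locally free module `F` on `P^n_Y` regular relative to `Y` (locally Noetherian), `p_* F` is
finite locally free (helper5; uses helper9's cohomology and base change `S2390`)

Namespace `Groth.Agent.Lib.T2H5.RegPush`.
-/

set_option autoImplicit false
set_option linter.style.haveILetI false
set_option linter.unusedSectionVars false
universe u
open CategoryTheory CategoryTheory.Limits AlgebraicGeometry TopologicalSpace Opposite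

namespace Groth.Agent.Lib.T2H5.RegPush

section General

variable {X S : Scheme.{u}} (f : X ⟶ S)

/-- a module flat over `O_X` on a scheme flat over `S` is flat over `S` -/
theorem isFlatOver_of_isFlat [Flat f] (F : X.Modules) (hF : FlatMod.IsFlat F) : FlatMod.IsFlatOver f F := by
  intro x
  letI : Algebra (S.presheaf.stalk (f.base x)) (X.presheaf.stalk x) := (f.stalkMap x).hom.toAlgebra
  letI : Module (S.presheaf.stalk (f.base x)) (F.presheaf.stalk x) := FlatMod.moduleStalkOver f F x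
  haveI : IsScalarTower (S.presheaf.stalk (f.base x)) (X.presheaf.stalk x) (F.presheaf.stalk x) := by
    refine ⟨fun a b m => ?_⟩
    change ((f.stalkMap x).hom a * b) • m = (f.stalkMap x).hom a • (b • m)
    rw [mul_smul]
  haveI h1 : Module.Flat (S.presheaf.stalk (f.base x)) (X.presheaf.stalk x) :=
    (Flat.iff_flat_stalkMap f).1 inferInstance x
  haveI h2 : Module.Flat (X.presheaf.stalk x) (F.presheaf.stalk x) := hF x
  exact Module.Flat.trans (S.presheaf.stalk (f.base x)) (X.presheaf.stalk x) (F.presheaf.stalk x)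

theorem isCoh_of_isFinLocFree (E : X.Modules) (hE : FlatMod.IsFinLocFree E) : Coh.IsCoh E := by
  haveI hfp : SheafOfModules.IsFinitePresentation (R := X.ringCatSheaf) E :=
    Groth.Agent.Lib.Helper2.LocFree.isFP_of_isFinLocFree E hE
  exact ⟨inferInstance, inferInstance⟩

theorem isFlatOver_of_isFinLocFree [Flat f] (F : X.Modules) (hF : FlatMod.IsFinLocFree F) :
    FlatMod.IsFlatOver f F := by
  haveI : F.IsQuasicoherent := (isCoh_of_isFinLocFree F hF).1
  exact isFlatOver_of_isFlat f F (Groth.Agent.Lib.Helper2.LocFree.isFlat_of_isFinLocFree F hF)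

/-- vanishing of the higher direct images of the underlying abelian sheaf gives vanishing of the higher direct images
of the module -/
theorem isZero_Rpush_of_isZero_RpushAb [HasInjectiveResolutions X.Modules] (F : X.Modules) (i : ℕ)
    (h : IsZero ((Coh.RpushAb f i).obj (Coh.toAb F))) : IsZero ((Coh.Rpush f i).obj F) := by
  obtain ⟨e⟩ := Groth.Agent.Lib.Helper23.ModAbBridge.nonempty_toAb_Rpush_iso f F i
  have hz : IsZero (Coh.toAb ((Coh.Rpush f i).obj F)) := h.of_iso e
  rw [IsZero.iff_id_eq_zero] at hz ⊢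
  apply (SheafOfModules.toSheaf S.ringCatSheaf).map_injective
  have h1 : (SheafOfModules.toSheaf S.ringCatSheaf).map (𝟙 ((Coh.Rpush f i).obj F)) = 𝟙 _ :=
    CategoryTheory.Functor.map_id _ _
  have h2 : (SheafOfModules.toSheaf S.ringCatSheaf).map
      (0 : (Coh.Rpush f i).obj F ⟶ (Coh.Rpush f i).obj F) = 0 := CategoryTheory.Functor.map_zero _ _ _
  exact h1.trans (hz.trans h2.symm)

end General

section Pn

variable (n : ℕ) (Y : Scheme.{u}) [IsLocallyNoetherian Y]

/-- **S3756**: `p_* F` is finite locally free for `F` finite locally free and regular -/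
theorem isFinLocFree_pushforward (F : (KRR.PY n Y).Modules) (hF : FlatMod.IsFinLocFree F)
    (hreg : KRR.IsRegSheaf n Y F) :
    FlatMod.IsFinLocFree ((Scheme.Modules.pushforward (KRR.pr n Y)).obj F) := by
  haveI : IsProper (KRR.pr n Y) := Groth.Agent.S9705.isProper_toBase n Y
  haveI : Flat (KRR.pr n Y) := Groth.Agent.Lib.T2H5.PnFlat.flat_toBase n Y
  haveI := Groth.Agent.Lib.T2H5.RpushClosed.hasInjectiveResolutions_modules (KRR.PY n Y)
  have hFc : Coh.IsCoh F := isCoh_of_isFinLocFree F hF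
  haveI : F.IsQuasicoherent := hFc.1
  have hfl : FlatMod.IsFlatOver (KRR.pr n Y) F := isFlatOver_of_isFinLocFree _ F hF
  have hR : ∀ i : ℕ, 0 < i → IsZero ((Coh.Rpush (KRR.pr n Y) i).obj F) := fun i hi =>
    isZero_Rpush_of_isZero_RpushAb _ F i
      ((Groth.Agent.Lib.T2H5.RelReg.regular_twists n Y F hreg).2 i hi)
  obtain ⟨-, h2⟩ := Groth.Agent.S2390.result (KRR.pr n Y) F hFc hfl hR
  intro y
  obtain ⟨U, hyU, e⟩ := h2 y
  exact ⟨U, _, hyU, e⟩

end Pn

section Eventually

variable (n : ℕ) (Y : Scheme.{u})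

open Groth.Agent.Lib.T2H5.Twist Groth.Agent.Lib.T2H6.HProjChart Groth.Agent.Lib.Helper21.ModTensor5
  Groth.Agent.Lib.T2H5.TwistOver

/-- higher direct images along `P^n_Y ⟶ Y` of quasi-coherent modules vanish above `n` -/
theorem isZero_RpushAb_of_lt (G : (KRR.PY n Y).Modules) [G.IsQuasicoherent] (i : ℕ) (hi : n < i) :
    IsZero ((Coh.RpushAb (KRR.pr n Y) i).obj (Coh.toAb G)) := by
  obtain ⟨q, rfl⟩ := Nat.exists_eq_succ_of_ne_zero (by omega : i ≠ 0)
  refine Groth.Agent.Lib.T2H5.RelReg.isZero_of_subsingleton_HH_chart n Y G q (fun V hV => ?_)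
  have hq : ((Scheme.Modules.pullback (embU n hV)).obj G).IsQuasicoherent :=
    Groth.Agent.Lib.Helper20.PullbackAff.isQuasicoherent_pullback _ _
  exact @Groth.Agent.S0022.result n Γ(Y, V) _ ((Scheme.Modules.pullback (embU n hV)).obj G) hq (q + 1) hi

variable [IsNoetherian Y]

/-- a coherent module on `P^n_Y` has regular twists `F(m)` for all large `m` -/
theorem exists_isRegSheaf_twF (F : (KRR.PY n Y).Modules) (hF : Coh.IsCoh F) :
    ∃ m₀ : ℕ, ∀ m : ℕ, m₀ ≤ m → KRR.IsRegSheaf n Y (KRR.twF n Y (m : ℤ) F) := by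
  haveI : IsProper (KRR.pr n Y) := Groth.Agent.S9705.isProper_toBase n Y
  haveI : F.IsQuasicoherent := hF.1
  have ha : ∀ W : Y.Opens, IsAffineOpen W →
      CohB1.IsAmple ((Twist.twistOver n Y 1).restrict ((KRR.pr n Y) ⁻¹ᵁ W).ι) := fun W hW =>
    (Groth.Agent.Lib.T2H6.VAmpleG.isRelAmple_twistOver n Y).2 ⟨W, hW⟩
  obtain ⟨n₀, hn₀⟩ := Groth.Agent.Lib.T2H5.AmpleSerre.exists_isZero_RpushAb_of_relAmple (KRR.pr n Y)
    (Twist.twistOver n Y 1) (isInvertible_twistOver n Y 1) ha F hF
  refine ⟨n₀ + n, fun m hm i hi => ?_⟩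
  by_cases hin : n < i
  · haveI := Groth.Agent.Lib.T2H5.RelReg.isQuasicoherent_twF n Y (m : ℤ) F
    haveI := Groth.Agent.Lib.T2H5.RelReg.isQuasicoherent_twF n Y (-(i : ℤ)) (KRR.twF n Y (m : ℤ) F)
    exact isZero_RpushAb_of_lt n Y _ i hin
  · obtain ⟨q, rfl⟩ := Nat.exists_eq_succ_of_ne_zero (by omega : i ≠ 0)
    have hk : n₀ ≤ m - (q + 1) := by omega
    have h1 := hn₀ (m - (q + 1)) hk q
    obtain ⟨e1⟩ := nonempty_tensorPow_twF_iso n Y F (m - (q + 1))
    obtain ⟨e2⟩ := nonempty_twF_twF_iso n Y F (-((q + 1 : ℕ) : ℤ)) (m : ℤ) ((m - (q + 1) : ℕ) : ℤ) (by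
      have : q + 1 ≤ m := by omega
      push_cast [Nat.cast_sub this]
      ring)
    exact isZero_RpushAb_of_iso n Y (e1 ≪≫ e2.symm) (q + 1) h1

/-- **S3757**: `p_*(F(m))` is finite locally free for all large `m` -/
theorem exists_isFinLocFree_pushforward_twF (F : (KRR.PY n Y).Modules) (hF : FlatMod.IsFinLocFree F) :
    ∃ m₀ : ℕ, ∀ m : ℕ, m₀ ≤ m →
      FlatMod.IsFinLocFree ((Scheme.Modules.pushforward (KRR.pr n Y)).obj (KRR.twF n Y (m : ℤ) F)) := by
  obtain ⟨m₀, hm₀⟩ := exists_isRegSheaf_twF n Y F (isCoh_of_isFinLocFree F hF)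
  refine ⟨m₀, fun m hm => ?_⟩
  refine isFinLocFree_pushforward n Y _ ?_ (hm₀ m hm)
  exact Groth.Agent.Lib.Helper1.FLF.isFinLocFree_tensor _ _
    (Groth.Agent.Helper18PBUnit.isFinLocFree_of_isInvertible (isInvertible_twistOver n Y (m : ℤ))) hF

end Eventually

end Groth.Agent.Lib.T2H5.RegPush
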