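import Groth.Agent.Lib.T2H2RpushCoh
import Groth.Agent.Lib.T2H5ProperSupport
import Groth.Agent.Lib.T2H5RegPush
import Groth.Agent.S0031

/-!
# `Rf_*` of bounded complexes with coherent cohomology of proper support is bounded (T2H2)
-/

set_option autoImplicit false
set_option linter.style.haveILetI false
set_option linter.unusedSectionVars false
universe u
open CategoryTheory CategoryTheory.Limits CategoryTheory.Pretriangulated AlgebraicGeometry

attribute [local instance] HasDerivedCategory.standard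

namespace Groth.Agent.Lib.T2H2.RpushCoh

open Groth.Agent.Lib.T2H2.RDerGen Groth.Agent.Lib.T2H1.MVTri DerivedCategory
open Groth.Agent.Lib.T2H5.AnnIdeal Groth.Agent.Lib.T2H5.RpushClosed Groth.Agent.Lib.T2H5.ProperThick
open Groth.Agent.Lib.T2H5.RpushCoh

/-- the higher direct images of a coherent module with proper support vanish in large degrees
(`S` Noetherian). -/
theorem exists_bound_Rpush_of_properSupport {X S : Scheme.{u}} (f : X ⟶ S) [LocallyOfFiniteType f]
    [IsNoetherian S] [HasInjectiveResolutions X.Modules] (F : X.Modules) (hF : Coh.IsCoh F)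
    (hs : ClSub.IsProperOver f (CohB1.support F)) :
    ∃ n : ℕ, ∀ p : ℕ, n ≤ p → IsZero ((Coh.Rpush f p).obj F) := by
  haveI := hF.1
  haveI : SheafOfModules.IsFiniteType (R := X.ringCatSheaf) F := hF.2
  obtain ⟨hZ, hprop⟩ := hs
  have hsupp : ((annIdeal F).support : Set X) = CohB1.support F := support_annIdeal F
  have hle : annIdeal F ≤ Scheme.IdealSheafData.vanishingIdeal ⟨CohB1.support F, hZ⟩ := by
    rw [← Scheme.IdealSheafData.le_support_iff_le_vanishingIdeal]
    intro x hx
    change x ∈ ((annIdeal F).support : Set X)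
    rw [hsupp]
    exact hx
  let g := Scheme.IdealSheafData.inclusion hle
  have hg : g ≫ (annIdeal F).subschemeι =
      (Scheme.IdealSheafData.vanishingIdeal ⟨CohB1.support F, hZ⟩).subschemeι :=
    Scheme.IdealSheafData.inclusion_subschemeι hle
  haveI : IsClosedImmersion g := by
    haveI : IsClosedImmersion (g ≫ (annIdeal F).subschemeι) := by rw [hg]; infer_instance
    exact IsClosedImmersion.of_comp g (annIdeal F).subschemeι
  haveI : Surjective g := by
    refine ⟨fun z' => ?_⟩
    have h1 : (annIdeal F).subschemeι z' ∈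
        Set.range (Scheme.IdealSheafData.vanishingIdeal ⟨CohB1.support F, hZ⟩).subschemeι := by
      rw [Scheme.IdealSheafData.range_subschemeι, Scheme.IdealSheafData.coe_support_vanishingIdeal]
      change _ ∈ CohB1.support F
      rw [← hsupp, ← Scheme.IdealSheafData.range_subschemeι]
      exact ⟨z', rfl⟩
    obtain ⟨z, hz⟩ := h1
    refine ⟨z, ?_⟩
    apply (annIdeal F).subschemeι.isClosedEmbedding.injective
    rw [← hz, ← hg]
    rfl
  haveI : IsProper (g ≫ ((annIdeal F).subschemeι ≫ f)) := by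
    rw [← Category.assoc, hg]
    exact hprop
  haveI : IsProper ((annIdeal F).subschemeι ≫ f) :=
    isProper_of_comp_surjective_closedImmersion g ((annIdeal F).subschemeι ≫ f)
  haveI : IsLocallyNoetherian X := LocallyOfFiniteType.isLocallyNoetherian f
  obtain ⟨G, hG, ⟨e⟩⟩ := Groth.Agent.S0786.result (annIdeal F).subschemeι F hF (by
    rw [Scheme.IdealSheafData.ker_subschemeι]
    exact killedBy_annIdeal F)
  haveI := hasInjectiveResolutions_modules (annIdeal F).subscheme
  obtain ⟨n, hn⟩ := Groth.Agent.S0031.result ((annIdeal F).subschemeι ≫ f)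
  refine ⟨n, fun p hp => ?_⟩
  obtain ⟨e2⟩ := nonempty_Rpush_comp_iso (annIdeal F).subschemeι f G p
  have h1 : IsZero ((Coh.Rpush ((annIdeal F).subschemeι ≫ f) p).obj G) :=
    Groth.Agent.Lib.T2H5.RegPush.isZero_Rpush_of_isZero_RpushAb _ G p (hn G hG.1 p hp)
  exact h1.of_iso (e2 ≪≫ (Coh.Rpush f p).mapIso e).symm

variable {X S : Scheme.{u}}

/-- `Rf_*` of a bounded object with coherent cohomology sheaves of proper support is bounded above
(`S` Noetherian, `f` locally of finite type). -/
theorem exists_isLE_Rpush [IsNoetherian S] (f : X ⟶ S) [LocallyOfFiniteType f]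
    [DCoh.HasRpush f] (E : DCoh.D X) (a b : ℤ) [E.IsGE a] [E.IsLE b] (hE : DCoh.IsCohD E)
    (hsupp : ∀ i : ℤ, ClSub.IsProperOver f (CohB1.support (DCoh.HD E i))) :
    ∃ b' : ℤ, ((DCoh.Rpush f).obj E).IsLE b' := by
  obtain ⟨β, hβ⟩ := exists_unit_Rpush f
  haveI := hβ
  haveI : HasInjectiveResolutions X.Modules := inferInstance
  choose n hn using fun j : ℤ =>
    exists_bound_Rpush_of_properSupport f (DCoh.HD E j) (hE j) (hsupp j)
  obtain ⟨N, hN⟩ := ((Finset.Icc a b).image n).exists_le
  refine ⟨b + N - 1, (DerivedCategory.isLE_iff _ _).2 fun i hi => ?_⟩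
  exact isZero_homology_of_bounded.{u} (Scheme.Modules.pushforward f) (DCoh.Rpush f) β
    (fun M => ∃ j : ℤ, a ≤ j ∧ j ≤ b ∧ Nonempty (M ≅ DCoh.HD E j))
    (fun M M' e ⟨j, h₁, h₂, ⟨e'⟩⟩ => ⟨j, h₁, h₂, ⟨e.symm ≪≫ e'⟩⟩) N
    (fun M ⟨j, h₁, h₂, ⟨e'⟩⟩ p hp => (hn j p ((hN _ (Finset.mem_image_of_mem n
      (Finset.mem_Icc.2 ⟨h₁, h₂⟩))).trans hp)).of_iso ((Coh.Rpush f p).mapIso e'))
    (b - a + 1).toNat E a b (by lia) inferInstance inferInstance
    (fun j h₁ h₂ => ⟨j, h₁, h₂, ⟨Iso.refl _⟩⟩) i hi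

end Groth.Agent.Lib.T2H2.RpushCoh
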