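import Groth.Agent.Lib.T2H1RelPCabs
import Groth.Agent.Lib.T2H2AffRedD
import Groth.Agent.Lib.T2H1RestrictPush
import Groth.Agent.Lib.T2H1RpushSupport
import Groth.Agent.Lib.Helper17AdjWay1
import Groth.Agent.Lib.T2H5AnnIdeal
import Groth.Agent.S1001
import Groth.Agent.S6942
import Groth.Agent.S6938

/-!
# Relative pseudo-coherence over a locally Noetherian base (helper1)

* `isNPseudoCoherent_of_isLocallyNoetherian`: a morphism locally of finite type to a locally
  Noetherian scheme is pseudo-coherent.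
* `isPseudoCoherentRel_iff_of_isLocallyNoetherian`: over a locally Noetherian base, relative and
  absolute pseudo-coherence agree.
* `isPseudoCoherentD_Rpush_of_isNoetherian`, `isPseudoCoherentD_Rpush_of_isLocallyNoetherian`:
  the derived direct image along a proper morphism preserves bounded below pseudo-coherent objects.
-/

set_option autoImplicit false
set_option linter.style.haveILetI false
universe u
open CategoryTheory CategoryTheory.Limits AlgebraicGeometry Opposite

attribute [local instance] HasDerivedCategory.standard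

namespace Groth.Agent.Lib.T2H1.RelPCnoeth

open Groth.Agent.Lib.T2H1.RelPCpt Groth.Agent.Lib.T2H1.ChartPC Groth.Agent.Lib.T2H8.PerfLocal
  Groth.Agent.Lib.T2H2.AffRed Groth.Agent.Lib.T2H8.PCohTriangle DerivedCategory

section Noeth

variable {X Z : Scheme.{u}} (g : X ⟶ Z) [LocallyOfFiniteType g] [IsLocallyNoetherian Z]

/-- a finite module over a Noetherian ring, placed in degree `0`, is pseudo-coherent -/
lemma isPC_single_of_finite {A : Type u} [CommRing A] [IsNoetherianRing A] (N : ModuleCat.{u} A)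
    [Module.Finite A N] (m : ℤ) :
    DRing.IsPseudoCoherent A m ((DerivedCategory.singleFunctor (ModuleCat.{u} A) 0).obj N) := by
  have h : DRing.IsPseudoCoherentModule' A N :=
    ((Groth.Agent.S6942.result A 0 ((DerivedCategory.singleFunctor (ModuleCat.{u} A) 0).obj N)
      N).2).2 inferInstance
  exact Groth.Agent.S6938.isPC_of_pc' _ h m

/-- a morphism locally of finite type to a locally Noetherian scheme is pseudo-coherent -/
theorem isNPseudoCoherent_of_isLocallyNoetherian (n : ℤ) : DerSch.IsNPseudoCoherent g n := by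
  change DerSch.IsPseudoCoherentRel g n (DCoh.toD X (DerSch.unitCx X))
  rw [isPseudoCoherentRel_iff_forall_affine]
  intro U V h
  obtain ⟨k, φ, hφ⟩ := exists_isChart g U.2 V.2 h
  refine ⟨k, φ, hφ, (chartPC_unit_iff (U : X.Opens) U.2 (V : Z.Opens) φ hφ.1 n).2 ?_⟩
  haveI : IsNoetherianRing Γ(Z, (V : Z.Opens)) := IsLocallyNoetherian.component_noetherian V
  haveI : IsNoetherianRing (MvPolynomial (Fin k) Γ(Z, (V : Z.Opens))) := inferInstance
  haveI : Module.Finite (MvPolynomial (Fin k) Γ(Z, (V : Z.Opens)))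
      ((ModuleCat.restrictScalars.{u} φ).obj (ModuleCat.of Γ(X, (U : X.Opens))
        Γ(X, (U : X.Opens)))) := by
    refine Module.Finite.of_surjective
      (M := MvPolynomial (Fin k) Γ(Z, (V : Z.Opens)))
      ({ toFun := fun a => (φ a : Γ(X, (U : X.Opens)))
         map_add' := fun a b => map_add φ a b
         map_smul' := fun a b => by
          change φ (a * b) = φ a * φ b
          exact map_mul φ a b } :
        MvPolynomial (Fin k) Γ(Z, (V : Z.Opens)) →ₗ[MvPolynomial (Fin k) Γ(Z, (V : Z.Opens))]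
          ((ModuleCat.restrictScalars.{u} φ).obj (ModuleCat.of Γ(X, (U : X.Opens))
            Γ(X, (U : X.Opens))))) ?_
    exact hφ.1
  exact isPC_single_of_finite _ n

/-- over a locally Noetherian base, relative and absolute pseudo-coherence agree -/
theorem isPseudoCoherentRel_iff_of_isLocallyNoetherian (m : ℤ) (E : DCoh.D X) :
    DerSch.IsPseudoCoherentRel g m E ↔ DCoh.IsPseudoCoherentD m E :=
  (isPseudoCoherentD_iff_isPseudoCoherentRel g
    (fun n => isNPseudoCoherent_of_isLocallyNoetherian g n) m E).symm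

end Noeth

section Push

variable {X Y : Scheme.{u}} (f : X ⟶ Y) [IsProper f]

/-- closed subsets are proper over the base of a proper morphism -/
lemma isProperOver_of_isProper (T : Set X) (hT : IsClosed T) : ClSub.IsProperOver f T :=
  ⟨hT, inferInstance⟩

lemma isClosed_support_of_isCoh (F : X.Modules) (hF : Coh.IsCoh F) :
    IsClosed (CohB1.support F) := by
  haveI := hF.1
  haveI : SheafOfModules.IsFiniteType (R := X.ringCatSheaf) F := hF.2
  rw [← Groth.Agent.Lib.T2H5.AnnIdeal.support_annIdeal F]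
  exact (Groth.Agent.Lib.T2H5.AnnIdeal.annIdeal F).support.isClosed

/-- `Rf_*` along a proper morphism to a Noetherian scheme preserves bounded below pseudo-coherent
objects, and makes them bounded above -/
theorem isPseudoCoherentD_Rpush_of_isNoetherian [IsNoetherian Y] [DCoh.HasRpush f] (E : DCoh.D X)
    (a : ℤ) [E.IsGE a] (hE : ∀ m : ℤ, DCoh.IsPseudoCoherentD m E) :
    (∃ c : ℤ, ((DCoh.Rpush f).obj E).IsLE c) ∧ ((DCoh.Rpush f).obj E).IsGE a ∧
      ∀ m : ℤ, DCoh.IsPseudoCoherentD m ((DCoh.Rpush f).obj E) := by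
  haveI : IsLocallyNoetherian X := LocallyOfFiniteType.isLocallyNoetherian f
  haveI : CompactSpace X := QuasiCompact.compactSpace_of_compactSpace f
  haveI : IsNoetherian X := {}
  have hQ : DCoh.IsQCohD E := isQCohD_of_forall_isPseudoCoherentD E hE
  obtain ⟨b, hb⟩ := ((isPseudoCoherentD_iff_coherent E hQ 0).1 (hE 0)).2
  haveI := hb
  have hCoh : DCoh.IsCohD E := fun i =>
    ((isPseudoCoherentD_iff_coherent E hQ i).1 (hE i)).1 i le_rfl
  have hsupp : ∀ i : ℤ, ClSub.IsProperOver f (CohB1.support (DCoh.HD E i)) := fun i =>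
    isProperOver_of_isProper f _ (isClosed_support_of_isCoh _ (hCoh i))
  obtain ⟨h1, h2, b', h3⟩ := Groth.Agent.S1001.result f E a b hCoh hsupp
  refine ⟨⟨b', h3⟩, h2, fun m => ?_⟩
  exact isPseudoCoherentD_of_coherent _ (fun i => (h1 i).1) m (fun i _ => h1 i) b'
    ((DerivedCategory.isLE_iff _ b').1 h3)

/-- `Rf_*` along a proper morphism to a locally Noetherian scheme preserves bounded below
pseudo-coherent objects -/
theorem isPseudoCoherentD_Rpush_of_isLocallyNoetherian [IsLocallyNoetherian Y] [DCoh.HasRpush f]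
    (E : DCoh.D X) (a : ℤ) [E.IsGE a] (hE : ∀ m : ℤ, DCoh.IsPseudoCoherentD m E) (m : ℤ) :
    DCoh.IsPseudoCoherentD m ((DCoh.Rpush f).obj E) := by
  rw [isPseudoCoherentD_iff]
  intro y
  obtain ⟨W, hW, hyW⟩ : ∃ W : Y.Opens, IsAffineOpen W ∧ y ∈ W := by
    obtain ⟨_, ⟨W, hW, rfl⟩, hyW, -⟩ :=
      Y.isBasis_affineOpens.exists_subset_of_mem_open (Set.mem_univ y) isOpen_univ
    exact ⟨W, hW, hyW⟩
  haveI : IsAffine (W : Scheme.{u}) := hW
  haveI : IsNoetherian (W : Scheme.{u}) := {}
  haveI : DCoh.HasRpush (f ∣_ W) := Groth.Agent.Lib.T2H1.RpushSupport.hasRpush _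
  haveI : IsProper (f ∣_ W) := inferInstance
  haveI : ((rD (f ⁻¹ᵁ W).ι).obj E).IsGE a :=
    Groth.Agent.Lib.Helper17.AdjWay.isGE_map _ E a
  have h1 := (isPseudoCoherentD_Rpush_of_isNoetherian (f ∣_ W) ((rD (f ⁻¹ᵁ W).ι).obj E) a
    (fun m' => isPseudoCoherentD_rD (f ⁻¹ᵁ W).ι m' E (hE m'))).2.2 m
  obtain ⟨e⟩ := Groth.Agent.Lib.T2H1.RestrictPush.nonempty_restrictD_Rpush_iso f W
  have h2 : DCoh.IsPseudoCoherentD m ((rD W.ι).obj ((DCoh.Rpush f).obj E)) :=
    isPseudoCoherentD_of_iso (e.app E).symm m h1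
  exact locPCoh_of_isPseudoCoherentD_rD W.ι m _ ⟨y, hyW⟩ h2

end Push

end Groth.Agent.Lib.T2H1.RelPCnoeth
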