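import Groth.Agent.Lib.T2H1ClImmPC3
import Groth.Agent.Lib.T2H1ChartIndep
import Groth.Agent.Lib.T2H1BpcAway

/-!
# Pointwise relative pseudo-coherence and independence of the affine pair (helper1)

For `f : X ⟶ S` locally of finite type, `E ∈ D(O_X)` and `m : ℤ`:

* `PWat E m U hU lam hlam x`: the direct image of `E|_U` along the closed immersion
  `U ⟶ Spec R` attached to a surjection `lam : R → Γ(X, U)` is `m`-pseudo-coherent near the image
  of `x`.
* `pwAt_comp_iff`, `pwAt_bc_iff`, `pwAt_away_iff`, `pwAt_indep`: change of test ring.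
* `pwAt_basicOpen_iff`, `pwAt_base_basicOpen_iff`: shrinking the source resp. base affine open to a
  basic open.
* `RelAt`, `RelPt`, `relAt_indep`: the pointwise notion does not depend on the affine pair.
* `chartPC_iff_forall_relPt`, `isPseudoCoherentRel_iff_forall_relPt`,
  `isPseudoCoherentRel_iff_forall_affine`.
-/

set_option autoImplicit false
set_option linter.style.haveILetI false
universe u
open CategoryTheory CategoryTheory.Limits AlgebraicGeometry

attribute [local instance] HasDerivedCategory.standard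

namespace Groth.Agent.Lib.T2H1.RelPCpt

section Basic

open Groth.Agent.Lib.T2H8.PCohTriangle Groth.Agent.Lib.T2H8.PerfLocal
  Groth.Agent.Lib.T2H8.PCohBdd Groth.Agent.Lib.T2H1.ClImmPC Groth.Agent.Lib.T2H1.ChartIndep
  Groth.Agent.Lib.Helper1.Restrict Groth.Agent.Lib.Helper1.RelPC
  Groth.Agent.Lib.T2H8.PCohRelBiprod Scheme.Modules DerivedCategory

variable {X : Scheme.{u}}

/-- the morphism `U ⟶ Spec R` attached to a ring map `lam : R → Γ(X, U)` -/
noncomputable def affImm (U : X.Opens) {R : Type u} [CommRing R] (lam : R →+* Γ(X, U)) :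
    (U : Scheme.{u}) ⟶ Spec (CommRingCat.of R) :=
  U.toSpecΓ ≫ Spec.map (CommRingCat.ofHom lam)

lemma chartImm_eq_affImm (U : X.Opens) {R : Type u} [CommRing R] {n : ℕ}
    (φ : MvPolynomial (Fin n) R →+* Γ(X, U)) : DerSch.chartImm U φ = affImm U φ := rfl

lemma isClosedImmersion_affImm (U : X.Opens) (hU : IsAffineOpen U) {R : Type u} [CommRing R]
    (lam : R →+* Γ(X, U)) (hlam : Function.Surjective lam) : IsClosedImmersion (affImm U lam) := by
  haveI : IsIso U.toSpecΓ := by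
    rw [← hU.isoSpec_hom]
    infer_instance
  haveI : IsClosedImmersion (Spec.map (CommRingCat.ofHom lam)) :=
    IsClosedImmersion.spec_of_surjective _ hlam
  unfold affImm
  infer_instance

lemma affImm_comp (U : X.Opens) {R R₂ : Type u} [CommRing R] [CommRing R₂]
    (lam : R →+* Γ(X, U)) (ρ : R₂ →+* R) :
    affImm U lam ≫ Spec.map (CommRingCat.ofHom ρ) = affImm U (lam.comp ρ) := by
  unfold affImm
  rw [Category.assoc, ← Spec.map_comp]
  rfl

lemma affImm_homOfLE {U'' U : X.Opens} (hUU : U'' ≤ U) {R : Type u} [CommRing R]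
    (lam : R →+* Γ(X, U)) :
    X.homOfLE hUU ≫ affImm U lam =
      affImm U'' ((X.presheaf.map (homOfLE hUU).op).hom.comp lam) := by
  unfold affImm
  rw [← Scheme.Opens.toSpecΓ_SpecMap_presheaf_map_assoc, ← Spec.map_comp]
  rfl

section PW

variable (E : DCoh.D X) (m : ℤ)

/-- the direct image of `E|_U` along the affine immersion attached to `lam` -/
noncomputable def Kd (U : X.Opens) (hU : IsAffineOpen U) {R : Type u} [CommRing R]
    (lam : R →+* Γ(X, U)) (hlam : Function.Surjective lam) :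
    DCoh.D (Spec (CommRingCat.of R)) :=
  haveI := isClosedImmersion_affImm U hU lam hlam
  (pD (affImm U lam)).obj ((rD U.ι).obj E)

/-- pointwise relative pseudo-coherence of `E` at `x ∈ U` tested through `lam` -/
def PWat (U : X.Opens) (hU : IsAffineOpen U) {R : Type u} [CommRing R]
    (lam : R →+* Γ(X, U)) (hlam : Function.Surjective lam) (x : U) : Prop :=
  LocPCoh m (Kd E U hU lam hlam) (affImm U lam x)

/-- composition of direct images along closed immersions -/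
noncomputable def pDComp {A B C : Scheme.{u}} (i : A ⟶ B) (s : B ⟶ C) (k : A ⟶ C)
    [IsClosedImmersion i] [IsClosedImmersion s] [IsClosedImmersion k] (h : i ≫ s = k) :
    pD i ⋙ pD s ≅ pD k :=
  mapDerivedCategoryCompIso (pushforward i) (pushforward s) (pushforward k)
    (pushforwardComp i s ≪≫ pushforwardCongr h)

/-- changing the test ring along a surjection with pseudo-coherent target -/
theorem pwAt_comp_iff (U : X.Opens) (hU : IsAffineOpen U) {R R₂ : Type u} [CommRing R]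
    [CommRing R₂] (lam : R →+* Γ(X, U)) (hlam : Function.Surjective lam) (ρ : R₂ →+* R)
    (hρ : Function.Surjective ρ) (hB : BPC ρ) (x : U) :
    PWat E m U hU lam hlam x ↔ PWat E m U hU (lam.comp ρ) (hlam.comp hρ) x := by
  haveI := isClosedImmersion_affImm U hU lam hlam
  haveI := isClosedImmersion_affImm U hU (lam.comp ρ) (hlam.comp hρ)
  haveI : IsClosedImmersion (Spec.map (CommRingCat.ofHom ρ)) :=
    IsClosedImmersion.spec_of_surjective _ hρ
  unfold PWat
  rw [locPCoh_pD_iff (Spec.map (CommRingCat.ofHom ρ)) (hO_Spec_map ρ hρ hB)]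
  have e : (pD (Spec.map (CommRingCat.ofHom ρ))).obj (Kd E U hU lam hlam) ≅
      Kd E U hU (lam.comp ρ) (hlam.comp hρ) :=
    (pDComp (affImm U lam) (Spec.map (CommRingCat.ofHom ρ)) (affImm U (lam.comp ρ))
      (affImm_comp U lam ρ)).app _
  have hpt : Spec.map (CommRingCat.ofHom ρ) (affImm U lam x) = affImm U (lam.comp ρ) x := by
    rw [← affImm_comp U lam ρ]
    rfl
  rw [hpt]
  exact ⟨fun h => h.of_iso e, fun h => h.of_iso e.symm⟩


/-- passing to a smaller affine open along an open immersion of the test spectra -/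
theorem pwAt_bc_iff {U'' U : X.Opens} (hUU : U'' ≤ U) (hU : IsAffineOpen U)
    (hU'' : IsAffineOpen U'') {R R'' : Type u} [CommRing R] [CommRing R'']
    (lam : R →+* Γ(X, U)) (hlam : Function.Surjective lam)
    (lam'' : R'' →+* Γ(X, U'')) (hlam'' : Function.Surjective lam'')
    (θ : R →+* R'') [IsOpenImmersion (Spec.map (CommRingCat.ofHom θ))]
    (hcompat : lam''.comp θ = (X.presheaf.map (homOfLE hUU).op).hom.comp lam)
    (hcart : ∀ y : U, (y : X) ∈ U'' ↔
      affImm U lam y ∈ Set.range (Spec.map (CommRingCat.ofHom θ))) (x : U'') :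
    PWat E m U hU lam hlam ⟨x, hUU x.2⟩ ↔ PWat E m U'' hU'' lam'' hlam'' x := by
  haveI := isClosedImmersion_affImm U hU lam hlam
  haveI := isClosedImmersion_affImm U'' hU'' lam'' hlam''
  have comm : affImm U'' lam'' ≫ Spec.map (CommRingCat.ofHom θ) = X.homOfLE hUU ≫ affImm U lam := by
    rw [affImm_comp, hcompat, affImm_homOfLE]
  have cart : Set.range (X.homOfLE hUU) =
      affImm U lam ⁻¹' Set.range (Spec.map (CommRingCat.ofHom θ)) := by
    ext y
    rw [Set.mem_preimage, ← hcart y]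
    constructor
    · rintro ⟨z, rfl⟩
      rw [Scheme.homOfLE_apply]
      exact z.2
    · intro hy
      exact ⟨⟨y.1, hy⟩, Scheme.homOfLE_apply' hUU y.1 hy⟩
  have key := locPCoh_pD_bc_iff (affImm U lam) (Spec.map (CommRingCat.ofHom θ)) (X.homOfLE hUU)
    (affImm U'' lam'') comm cart ((rD U.ι).obj E) m (affImm U'' lam'' x)
  have hpt : Spec.map (CommRingCat.ofHom θ) (affImm U'' lam'' x) =
      affImm U lam ⟨x, hUU x.2⟩ := by
    have h1 : Spec.map (CommRingCat.ofHom θ) (affImm U'' lam'' x) =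
        (affImm U'' lam'' ≫ Spec.map (CommRingCat.ofHom θ)) x := rfl
    rw [h1, comm]
    have h2 : (X.homOfLE hUU ≫ affImm U lam) x = affImm U lam (X.homOfLE hUU x) := rfl
    rw [h2, Scheme.homOfLE_apply' hUU x.1 x.2]
  rw [hpt] at key
  have e : (pD (affImm U'' lam'')).obj ((rD (X.homOfLE hUU)).obj ((rD U.ι).obj E)) ≅
      Kd E U'' hU'' lam'' hlam'' :=
    (pD (affImm U'' lam'')).mapIso ((rDComp (X.homOfLE hUU) U.ι U''.ι (X.homOfLE_ι hUU)).app E)
  unfold PWat
  rw [show Kd E U hU lam hlam = (pD (affImm U lam)).obj ((rD U.ι).obj E) from rfl, key]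
  exact ⟨fun h => h.of_iso e, fun h => h.of_iso e.symm⟩


/-- the direct image of a representing complex computes `Kd` -/
noncomputable def toDPushIso (U : X.Opens) (hU : IsAffineOpen U) {R : Type u} [CommRing R]
    (lam : R →+* Γ(X, U)) (hlam : Function.Surjective lam)
    (G : CochainComplex X.Modules ℤ) (e : DCoh.toD X G ≅ E) :
    DCoh.toD _ ((DerSch.pushCx (affImm U lam)).obj ((DCoh.restrictCx U).obj G)) ≅
      Kd E U hU lam hlam :=
  haveI := isClosedImmersion_affImm U hU lam hlam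
  ((pushforward (affImm U lam)).mapDerivedCategoryFactors.app _).symm ≪≫
    (pD (affImm U lam)).mapIso
      (((restrictFunctor U.ι).mapDerivedCategoryFactors.app G).symm ≪≫ (rD U.ι).mapIso e)

theorem isPseudoCoherentD_Kd_iff (U : X.Opens) (hU : IsAffineOpen U) {R : Type u} [CommRing R]
    (lam : R →+* Γ(X, U)) (hlam : Function.Surjective lam) :
    DCoh.IsPseudoCoherentD m (Kd E U hU lam hlam) ↔ ∀ x : U, PWat E m U hU lam hlam x := by
  haveI := isClosedImmersion_affImm U hU lam hlam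
  rw [isPseudoCoherentD_iff]
  constructor
  · intro h x
    exact h _
  · intro h p
    by_cases hp : p ∈ Set.range (affImm U lam)
    · obtain ⟨x, rfl⟩ := hp
      exact h x
    · exact locPCoh_pD_of_notMem_range (affImm U lam) _ m p hp

theorem chartPC_iff_forall_pwAt {S : Scheme.{u}} (U : X.Opens) (hU : IsAffineOpen U)
    (V : S.Opens) {n : ℕ} (φ : MvPolynomial (Fin n) Γ(S, V) →+* Γ(X, U))
    (hφ : Function.Surjective φ) :
    DerSch.ChartPC m E U V φ ↔ ∀ x : U, PWat E m U hU φ hφ x := by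
  rw [← isPseudoCoherentD_Kd_iff]
  constructor
  · intro h
    exact isPseudoCoherentD_of_iso
      (toDPushIso E U hU φ hφ _ ((Q : _ ⥤ DCoh.D X).objObjPreimageIso E))
      (h _ ⟨(Q : _ ⥤ DCoh.D X).objObjPreimageIso E⟩)
  · intro h G ⟨e⟩
    exact isPseudoCoherentD_of_iso (toDPushIso E U hU φ hφ G e).symm h

end PW


end Basic

section Indep

open Groth.Agent.Lib.T2H8.PCohTriangle Groth.Agent.Lib.T2H8.PerfLocal
  Groth.Agent.Lib.T2H8.PCohBdd Groth.Agent.Lib.T2H1.ClImmPC Groth.Agent.Lib.T2H1.ChartIndep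
  Groth.Agent.Lib.Helper1.Restrict Groth.Agent.Lib.Helper1.RelPC
  Groth.Agent.Lib.T2H8.PCohRelBiprod Scheme.Modules DerivedCategory

variable {X : Scheme.{u}} (E : DCoh.D X) (m : ℤ)

lemma pwAt_congr (U : X.Opens) (hU : IsAffineOpen U) {R : Type u} [CommRing R]
    {lam lam' : R →+* Γ(X, U)} (hlam : Function.Surjective lam)
    (hlam' : Function.Surjective lam') (h : lam = lam') (x : U) :
    PWat E m U hU lam hlam x ↔ PWat E m U hU lam' hlam' x := by
  subst h
  rfl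

/-- pointwise chart independence over a fixed base ring -/
theorem pwAt_indep (U : X.Opens) (hU : IsAffineOpen U) {A : Type u} [CommRing A] {n k : ℕ}
    (φ : MvPolynomial (Fin n) A →+* Γ(X, U)) (hφ : Function.Surjective φ)
    (ψ : MvPolynomial (Fin k) A →+* Γ(X, U)) (hψ : Function.Surjective ψ)
    (hC : φ.comp MvPolynomial.C = ψ.comp MvPolynomial.C) (x : U) :
    PWat E m U hU φ hφ x ↔ PWat E m U hU ψ hψ x := by
  choose F hF using fun j : Fin k => hφ (ψ (MvPolynomial.X j))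
  choose Gl hGl using fun i : Fin n => hψ (φ (MvPolynomial.X i))
  let ev : MvPolynomial (Fin k) (MvPolynomial (Fin n) A) →+* MvPolynomial (Fin n) A :=
    MvPolynomial.eval F
  let ev' : MvPolynomial (Fin n) (MvPolynomial (Fin k) A) →+* MvPolynomial (Fin k) A :=
    MvPolynomial.eval Gl
  let w : MvPolynomial (Fin n) (MvPolynomial (Fin k) A) →+*
      MvPolynomial (Fin k) (MvPolynomial (Fin n) A) :=
    (MvPolynomial.commAlgEquiv A (Fin n) (Fin k)).toRingEquiv.toRingHom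
  have hw : Function.Bijective w := (MvPolynomial.commAlgEquiv A (Fin n) (Fin k)).bijective
  have hev : Function.Surjective ev := fun r => ⟨MvPolynomial.C r, by simp [ev]⟩
  have hev' : Function.Surjective ev' := fun r => ⟨MvPolynomial.C r, by simp [ev']⟩
  have hC' : ∀ a : A, φ (MvPolynomial.C a) = ψ (MvPolynomial.C a) := fun a =>
    congrArg (fun g : A →+* Γ(X, U) => g a) hC
  have hcomp : (φ.comp ev).comp w = ψ.comp ev' := by
    refine MvPolynomial.ringHom_ext (fun p => ?_) (fun i => ?_)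
    · have : ((φ.comp ev).comp w).comp MvPolynomial.C = (ψ.comp ev').comp MvPolynomial.C := by
        refine MvPolynomial.ringHom_ext (fun a => ?_) (fun j => ?_)
        · simp [w, ev, ev', hC']
        · simp [w, ev, ev', hF]
      exact congrArg (fun g : MvPolynomial (Fin k) A →+* Γ(X, U) => g p) this
    · simp [w, ev, ev', hGl]
  rw [pwAt_comp_iff E m U hU φ hφ ev hev (bpc_mvEval k _ F) x,
    pwAt_comp_iff E m U hU (φ.comp ev) (hφ.comp hev) w hw.surjective (bpc_of_bijective w hw) x,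
    pwAt_comp_iff E m U hU ψ hψ ev' hev' (bpc_mvEval n _ Gl) x]
  exact pwAt_congr E m U hU _ _ hcomp x


end Indep

section Shrink

open Groth.Agent.Lib.T2H8.PCohTriangle Groth.Agent.Lib.T2H8.PerfLocal
  Groth.Agent.Lib.T2H8.PCohBdd Groth.Agent.Lib.T2H1.ClImmPC Groth.Agent.Lib.T2H1.ChartIndep
  Groth.Agent.Lib.Helper1.Restrict Groth.Agent.Lib.Helper1.RelPC
  Groth.Agent.Lib.T2H8.PCohRelBiprod Scheme.Modules DerivedCategory

variable {X : Scheme.{u}} (E : DCoh.D X) (m : ℤ)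

/-- passing to a basic open of `U` cut out by `lam G₀`, with test ring the localization -/
theorem pwAt_away_iff {U'' U : X.Opens} (hUU : U'' ≤ U) (hU : IsAffineOpen U)
    (hU'' : IsAffineOpen U'') {R R'' : Type u} [CommRing R] [CommRing R''] [Algebra R R'']
    (lam : R →+* Γ(X, U)) (hlam : Function.Surjective lam)
    (lam'' : R'' →+* Γ(X, U'')) (hlam'' : Function.Surjective lam'')
    (G₀ : R) [IsLocalization.Away G₀ R'']
    (hcompat : lam''.comp (algebraMap R R'') = (X.presheaf.map (homOfLE hUU).op).hom.comp lam)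
    (hUeq : U'' = X.basicOpen (lam G₀)) (x : U'') :
    PWat E m U hU lam hlam ⟨x, hUU x.2⟩ ↔ PWat E m U'' hU'' lam'' hlam'' x := by
  haveI : IsOpenImmersion (Spec.map (CommRingCat.ofHom (algebraMap R R''))) :=
    IsOpenImmersion.of_isLocalization G₀
  refine pwAt_bc_iff E m hUU hU hU'' lam hlam lam'' hlam'' (algebraMap R R'') hcompat ?_ x
  intro y
  have hr : Set.range (Spec.map (CommRingCat.ofHom (algebraMap R R''))) =
      (PrimeSpectrum.basicOpen G₀ : Set (PrimeSpectrum R)) :=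
    PrimeSpectrum.localization_away_comap_range R'' G₀
  rw [hr]
  refine Iff.trans ?_ (show y ∈ U.toSpecΓ ⁻¹ᵁ (PrimeSpectrum.basicOpen (lam G₀)) ↔ _ from Iff.rfl)
  rw [Scheme.Opens.toSpecΓ_preimage_basicOpen, hUeq]
  rfl


section KTU

variable {S : Scheme.{u}} (f : X ⟶ S)

/-- KT-U: shrinking the source affine open to a basic open -/
theorem pwAt_basicOpen_iff {U'' U : X.Opens} (hUU : U'' ≤ U) (hU : IsAffineOpen U)
    (hU'' : IsAffineOpen U'') (V : S.Opens) (h : U ≤ f ⁻¹ᵁ V) (h'' : U'' ≤ f ⁻¹ᵁ V)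
    (g : Γ(X, U)) (hg : U'' = X.basicOpen g)
    {n : ℕ} (φ : MvPolynomial (Fin n) Γ(S, V) →+* Γ(X, U)) (hφ : DerSch.IsChart f U V h φ)
    {k : ℕ} (φ'' : MvPolynomial (Fin k) Γ(S, V) →+* Γ(X, U''))
    (hφ'' : DerSch.IsChart f U'' V h'' φ'') (x : U'') :
    PWat E m U hU φ hφ.1 ⟨x, hUU x.2⟩ ↔ PWat E m U'' hU'' φ'' hφ''.1 x := by
  obtain ⟨G₀, rfl⟩ := hφ.1 g
  let res : Γ(X, U) →+* Γ(X, U'') := (X.presheaf.map (homOfLE hUU).op).hom
  letI : Algebra Γ(X, U) Γ(X, U'') := res.toAlgebra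
  haveI : IsLocalization.Away (φ G₀) Γ(X, U'') :=
    hU.isLocalization_of_eq_basicOpen (φ G₀) (homOfLE hUU) hg
  have hunit : IsUnit ((res.comp φ) G₀) :=
    IsLocalization.Away.algebraMap_isUnit (S := Γ(X, U'')) (φ G₀)
  let L := Localization.Away G₀
  let lam'' : L →+* Γ(X, U'') := IsLocalization.Away.lift G₀ hunit
  have hcompat : lam''.comp (algebraMap _ L) = res.comp φ := IsLocalization.Away.lift_comp G₀ hunit
  have hlam'' : Function.Surjective lam'' := by
    change Function.Surjective (IsLocalization.lift _)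
    rw [IsLocalization.lift_surjective_iff]
    intro v
    obtain ⟨⟨b, s⟩, hbs⟩ := IsLocalization.surj (Submonoid.powers (φ G₀)) v
    obtain ⟨p, rfl⟩ := hφ.1 b
    obtain ⟨N, hN⟩ := s.2
    refine ⟨(p, ⟨G₀ ^ N, N, rfl⟩), ?_⟩
    change v * (res.comp φ) (G₀ ^ N) = (res.comp φ) p
    have hN' : φ G₀ ^ N = (s : Γ(X, U)) := hN
    rw [RingHom.comp_apply, map_pow, hN']
    exact hbs
  obtain ⟨σ, hσ, hσC, hσB⟩ := exists_bpc_away G₀ L
  let τ : MvPolynomial (Fin (n + 1)) Γ(S, V) →+* Polynomial (MvPolynomial (Fin n) Γ(S, V)) :=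
    (MvPolynomial.finSuccEquiv Γ(S, V) n).toRingEquiv.toRingHom
  have hτ : Function.Bijective τ := (MvPolynomial.finSuccEquiv Γ(S, V) n).bijective
  have hC : ((lam''.comp σ).comp τ).comp MvPolynomial.C = φ''.comp MvPolynomial.C := by
    rw [hφ''.2]
    ext a
    have h1 : τ (MvPolynomial.C a) = Polynomial.C (MvPolynomial.C a) := by
      change MvPolynomial.finSuccEquiv Γ(S, V) n (MvPolynomial.C a) = _
      rw [MvPolynomial.finSuccEquiv_apply, MvPolynomial.eval₂Hom_C]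
      rfl
    have h2 : σ (Polynomial.C (MvPolynomial.C a)) = algebraMap _ L (MvPolynomial.C a) :=
      congrArg (fun t : MvPolynomial (Fin n) Γ(S, V) →+* L => t (MvPolynomial.C a)) hσC
    have h3 : lam'' (algebraMap _ L (MvPolynomial.C a)) = res (φ (MvPolynomial.C a)) :=
      congrArg (fun t : MvPolynomial (Fin n) Γ(S, V) →+* Γ(X, U'') => t (MvPolynomial.C a)) hcompat
    have h4 : φ (MvPolynomial.C a) = (f.appLE V U h).hom a :=
      congrArg (fun t : Γ(S, V) →+* Γ(X, U) => t a) hφ.2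
    simp only [RingHom.comp_apply]
    rw [h1, h2, h3, h4]
    have h5 := Scheme.Hom.appLE_map f h (homOfLE hUU).op
    exact congrArg (fun t : Γ(S, V) ⟶ Γ(X, U'') => t.hom a) h5
  rw [pwAt_away_iff E m hUU hU hU'' φ hφ.1 lam'' hlam'' G₀ hcompat hg x,
    pwAt_comp_iff E m U'' hU'' lam'' hlam'' σ hσ hσB x,
    pwAt_comp_iff E m U'' hU'' (lam''.comp σ) (hlam''.comp hσ) τ hτ.surjective
      (bpc_of_bijective τ hτ) x]
  exact pwAt_indep E m U'' hU'' _ _ φ'' hφ''.1 hC x

end KTU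


section KTV

variable {S : Scheme.{u}} (f : X ⟶ S)

attribute [local instance] MvPolynomial.algebraMvPolynomial

/-- KT-V: shrinking the base affine open to a basic open -/
theorem pwAt_base_basicOpen_iff {U : X.Opens} (hU : IsAffineOpen U) {V'' V : S.Opens}
    (hVV : V'' ≤ V) (hV : IsAffineOpen V) (h : U ≤ f ⁻¹ᵁ V) (h'' : U ≤ f ⁻¹ᵁ V'')
    (a : Γ(S, V)) (ha : V'' = S.basicOpen a)
    {n : ℕ} (φ : MvPolynomial (Fin n) Γ(S, V) →+* Γ(X, U)) (hφ : DerSch.IsChart f U V h φ)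
    {k : ℕ} (ψ : MvPolynomial (Fin k) Γ(S, V'') →+* Γ(X, U))
    (hψ : DerSch.IsChart f U V'' h'' ψ) (x : U) :
    PWat E m U hU φ hφ.1 x ↔ PWat E m U hU ψ hψ.1 x := by
  let rA : Γ(S, V) →+* Γ(S, V'') := (S.presheaf.map (homOfLE hVV).op).hom
  letI : Algebra Γ(S, V) Γ(S, V'') := rA.toAlgebra
  haveI : IsLocalization.Away a Γ(S, V'') :=
    hV.isLocalization_of_eq_basicOpen a (homOfLE hVV) ha
  haveI : IsLocalization.Away (MvPolynomial.C a : MvPolynomial (Fin n) Γ(S, V))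
      (MvPolynomial (Fin n) Γ(S, V'')) := by
    have := MvPolynomial.isLocalization (σ := Fin n) (Submonoid.powers a) Γ(S, V'')
    rwa [Submonoid.map_powers] at this
  let lam'' : MvPolynomial (Fin n) Γ(S, V'') →+* Γ(X, U) :=
    MvPolynomial.eval₂Hom (f.appLE V'' U h'').hom (fun i => φ (MvPolynomial.X i))
  have hid : X.presheaf.map (homOfLE (le_refl U)).op = 𝟙 _ := by
    rw [show homOfLE (le_refl U) = 𝟙 U from rfl, op_id, X.presheaf.map_id]
  have hφC : ∀ a' : Γ(S, V), φ (MvPolynomial.C a') = (f.appLE V U h).hom a' := fun a' =>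
    congrArg (fun t : Γ(S, V) →+* Γ(X, U) => t a') hφ.2
  have hcomp0 : lam''.comp (algebraMap (MvPolynomial (Fin n) Γ(S, V))
      (MvPolynomial (Fin n) Γ(S, V''))) = φ := by
    refine MvPolynomial.ringHom_ext (fun a' => ?_) (fun i => ?_)
    · rw [RingHom.comp_apply, MvPolynomial.algebraMap_def, MvPolynomial.map_C, hφC]
      change (MvPolynomial.eval₂Hom (f.appLE V'' U h'').hom _) (MvPolynomial.C (rA a')) = _
      rw [MvPolynomial.eval₂Hom_C]
      have h5 := Scheme.Hom.map_appLE f h'' (homOfLE hVV).op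
      exact congrArg (fun t : Γ(S, V) ⟶ Γ(X, U) => t.hom a') h5
    · rw [RingHom.comp_apply, MvPolynomial.algebraMap_def, MvPolynomial.map_X]
      exact MvPolynomial.eval₂Hom_X' _ _ _
  have hcompat : lam''.comp (algebraMap (MvPolynomial (Fin n) Γ(S, V))
      (MvPolynomial (Fin n) Γ(S, V''))) =
      (X.presheaf.map (homOfLE (le_refl U)).op).hom.comp φ := by
    rw [hcomp0, hid]
    rfl
  have hlam'' : Function.Surjective lam'' := by
    intro b
    obtain ⟨p, rfl⟩ := hφ.1 b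
    exact ⟨algebraMap _ _ p, congrArg (fun t : MvPolynomial (Fin n) Γ(S, V) →+* Γ(X, U) => t p)
      hcomp0⟩
  have hUeq : U = X.basicOpen (φ (MvPolynomial.C a)) := by
    rw [hφC, Scheme.basicOpen_appLE, ← ha]
    exact (inf_eq_left.2 h'').symm
  have hC : lam''.comp MvPolynomial.C = ψ.comp MvPolynomial.C := by
    rw [hψ.2]
    ext a''
    exact MvPolynomial.eval₂Hom_C _ _ _
  rw [← pwAt_indep E m U hU lam'' hlam'' ψ hψ.1 hC x]
  exact pwAt_away_iff E m (le_refl U) hU hU φ hφ.1 lam'' hlam'' (MvPolynomial.C a) hcompat hUeq x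

end KTV


end Shrink

section Point

open Groth.Agent.Lib.T2H8.PCohTriangle Groth.Agent.Lib.T2H8.PerfLocal
  Groth.Agent.Lib.T2H8.PCohBdd Groth.Agent.Lib.T2H1.ClImmPC Groth.Agent.Lib.T2H1.ChartIndep
  Groth.Agent.Lib.Helper1.Restrict Groth.Agent.Lib.Helper1.RelPC
  Groth.Agent.Lib.T2H8.PCohRelBiprod Scheme.Modules DerivedCategory

variable {X S : Scheme.{u}} (f : X ⟶ S) (E : DCoh.D X) (m : ℤ)

lemma exists_isChart [LocallyOfFiniteType f] {U : X.Opens} (hU : IsAffineOpen U) {V : S.Opens}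
    (hV : IsAffineOpen V) (h : U ≤ f ⁻¹ᵁ V) :
    ∃ (n : ℕ) (φ : MvPolynomial (Fin n) Γ(S, V) →+* Γ(X, U)), DerSch.IsChart f U V h φ := by
  have hft := LocallyOfFiniteType.finiteType_appLE f hV hU h
  letI : Algebra Γ(S, V) Γ(X, U) := (f.appLE V U h).hom.toAlgebra
  haveI : Algebra.FiniteType Γ(S, V) Γ(X, U) := hft
  obtain ⟨n, α, hα⟩ := exists_presentation Γ(S, V) Γ(X, U)
  refine ⟨n, α.toRingHom, hα, ?_⟩
  ext a
  exact α.commutes a

/-- relative `m`-pseudo-coherence of `E` at the point `x`, tested on the affine pair `(U, V)` -/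
def RelAt (U : X.Opens) (hU : IsAffineOpen U) (V : S.Opens) (h : U ≤ f ⁻¹ᵁ V) (x : X)
    (hx : x ∈ U) : Prop :=
  ∃ (n : ℕ) (φ : MvPolynomial (Fin n) Γ(S, V) →+* Γ(X, U)) (hφ : DerSch.IsChart f U V h φ),
    PWat E m U hU φ hφ.1 ⟨x, hx⟩

lemma relAt_iff_of_chart (U : X.Opens) (hU : IsAffineOpen U) (V : S.Opens) (h : U ≤ f ⁻¹ᵁ V)
    {n : ℕ} (φ : MvPolynomial (Fin n) Γ(S, V) →+* Γ(X, U)) (hφ : DerSch.IsChart f U V h φ)
    (x : X) (hx : x ∈ U) :
    RelAt f E m U hU V h x hx ↔ PWat E m U hU φ hφ.1 ⟨x, hx⟩ := by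
  constructor
  · rintro ⟨k, ψ, hψ, hP⟩
    exact (pwAt_indep E m U hU ψ hψ.1 φ hφ.1 (hψ.2.trans hφ.2.symm) _).1 hP
  · intro hP
    exact ⟨n, φ, hφ, hP⟩

variable [LocallyOfFiniteType f]

theorem relAt_basicOpen_iff {U'' U : X.Opens} (hUU : U'' ≤ U) (hU : IsAffineOpen U)
    (hU'' : IsAffineOpen U'') (V : S.Opens) (hV : IsAffineOpen V) (h : U ≤ f ⁻¹ᵁ V)
    (h'' : U'' ≤ f ⁻¹ᵁ V) (g : Γ(X, U)) (hg : U'' = X.basicOpen g) (x : X) (hx : x ∈ U'') :
    RelAt f E m U hU V h x (hUU hx) ↔ RelAt f E m U'' hU'' V h'' x hx := by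
  obtain ⟨n, φ, hφ⟩ := exists_isChart f hU hV h
  obtain ⟨k, φ'', hφ''⟩ := exists_isChart f hU'' hV h''
  rw [relAt_iff_of_chart f E m U hU V h φ hφ, relAt_iff_of_chart f E m U'' hU'' V h'' φ'' hφ'']
  exact pwAt_basicOpen_iff E m f hUU hU hU'' V h h'' g hg φ hφ φ'' hφ'' ⟨x, hx⟩

theorem relAt_base_basicOpen_iff {U : X.Opens} (hU : IsAffineOpen U) {V'' V : S.Opens}
    (hVV : V'' ≤ V) (hV : IsAffineOpen V) (hV'' : IsAffineOpen V'') (h : U ≤ f ⁻¹ᵁ V)
    (h'' : U ≤ f ⁻¹ᵁ V'') (a : Γ(S, V)) (ha : V'' = S.basicOpen a) (x : X) (hx : x ∈ U) :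
    RelAt f E m U hU V h x hx ↔ RelAt f E m U hU V'' h'' x hx := by
  obtain ⟨n, φ, hφ⟩ := exists_isChart f hU hV h
  obtain ⟨k, ψ, hψ⟩ := exists_isChart f hU hV'' h''
  rw [relAt_iff_of_chart f E m U hU V h φ hφ, relAt_iff_of_chart f E m U hU V'' h'' ψ hψ]
  exact pwAt_base_basicOpen_iff E m f hU hVV hV h h'' a ha φ hφ ψ hψ ⟨x, hx⟩

/-- independence of the source affine open over a fixed base affine open -/
theorem relAt_same_base {U U' : X.Opens} (hU : IsAffineOpen U) (hU' : IsAffineOpen U')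
    (V : S.Opens) (hV : IsAffineOpen V) (h : U ≤ f ⁻¹ᵁ V) (h' : U' ≤ f ⁻¹ᵁ V)
    (x : X) (hx : x ∈ U) (hx' : x ∈ U') :
    RelAt f E m U hU V h x hx ↔ RelAt f E m U' hU' V h' x hx' := by
  obtain ⟨g, g', hgg, hxg⟩ := exists_basicOpen_le_affine_inter hU hU' x ⟨hx, hx'⟩
  have hle : X.basicOpen g ≤ U := X.basicOpen_le g
  have hle' : X.basicOpen g ≤ U' := hgg ▸ X.basicOpen_le g'
  have hA : IsAffineOpen (X.basicOpen g) := hU.basicOpen g
  rw [relAt_basicOpen_iff f E m hle hU hA V hV h (hle.trans h) g rfl x hxg,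
    relAt_basicOpen_iff f E m hle' hU' hA V hV h' (hle.trans h) g' hgg x hxg]

/-- KT: pointwise relative pseudo-coherence does not depend on the affine pair -/
theorem relAt_indep {U U' : X.Opens} (hU : IsAffineOpen U) (hU' : IsAffineOpen U')
    {V V' : S.Opens} (hV : IsAffineOpen V) (hV' : IsAffineOpen V') (h : U ≤ f ⁻¹ᵁ V)
    (h' : U' ≤ f ⁻¹ᵁ V') (x : X) (hx : x ∈ U) (hx' : x ∈ U') :
    RelAt f E m U hU V h x hx ↔ RelAt f E m U' hU' V' h' x hx' := by
  obtain ⟨a, a', haa, hxa⟩ := exists_basicOpen_le_affine_inter hV hV' (f x) ⟨h hx, h' hx'⟩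
  -- the common base affine open
  have hV'' : IsAffineOpen (S.basicOpen a) := hV.basicOpen a
  have hVV : S.basicOpen a ≤ V := S.basicOpen_le a
  have hVV' : S.basicOpen a ≤ V' := haa ▸ S.basicOpen_le a'
  -- shrink the source affine opens
  have e1 : X.basicOpen ((f.appLE V U h).hom a) = U ⊓ f ⁻¹ᵁ S.basicOpen a :=
    Scheme.basicOpen_appLE f U V h a
  have e1' : X.basicOpen ((f.appLE V' U' h').hom a') = U' ⊓ f ⁻¹ᵁ S.basicOpen a := by
    rw [haa]
    exact Scheme.basicOpen_appLE f U' V' h' a'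
  have hA1 : IsAffineOpen (U ⊓ f ⁻¹ᵁ S.basicOpen a) := e1 ▸ hU.basicOpen _
  have hA1' : IsAffineOpen (U' ⊓ f ⁻¹ᵁ S.basicOpen a) := e1' ▸ hU'.basicOpen _
  have hx1 : x ∈ U ⊓ f ⁻¹ᵁ S.basicOpen a := ⟨hx, hxa⟩
  have hx1' : x ∈ U' ⊓ f ⁻¹ᵁ S.basicOpen a := ⟨hx', hxa⟩
  rw [relAt_basicOpen_iff f E m inf_le_left hU hA1 V hV h (inf_le_left.trans h) _ e1.symm x hx1,
    relAt_base_basicOpen_iff f E m hA1 hVV hV hV'' (inf_le_left.trans h) inf_le_right a rfl x hx1,
    relAt_basicOpen_iff f E m inf_le_left hU' hA1' V' hV' h' (inf_le_left.trans h') _ e1'.symm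
      x hx1',
    relAt_base_basicOpen_iff f E m hA1' hVV' hV' hV'' (inf_le_left.trans h') inf_le_right a' haa
      x hx1']
  exact relAt_same_base f E m hA1 hA1' _ hV'' _ _ x hx1 hx1'


/-- relative `m`-pseudo-coherence of `E` at the point `x`: some affine pair around `x` works -/
def RelPt (x : X) : Prop :=
  ∃ (U : X.Opens) (hU : IsAffineOpen U) (V : S.Opens) (_ : IsAffineOpen V) (h : U ≤ f ⁻¹ᵁ V)
    (hx : x ∈ U), RelAt f E m U hU V h x hx

omit [LocallyOfFiniteType f] in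
lemma RelAt.relPt {U : X.Opens} {hU : IsAffineOpen U} {V : S.Opens} (hV : IsAffineOpen V)
    {h : U ≤ f ⁻¹ᵁ V} {x : X} {hx : x ∈ U} (hR : RelAt f E m U hU V h x hx) : RelPt f E m x :=
  ⟨U, hU, V, hV, h, hx, hR⟩

theorem relPt_iff_relAt {U : X.Opens} (hU : IsAffineOpen U) {V : S.Opens} (hV : IsAffineOpen V)
    (h : U ≤ f ⁻¹ᵁ V) (x : X) (hx : x ∈ U) :
    RelPt f E m x ↔ RelAt f E m U hU V h x hx := by
  constructor
  · rintro ⟨U', hU', V', hV', h', hx', hR⟩
    exact (relAt_indep f E m hU' hU hV' hV h' h x hx' hx).1 hR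
  · intro hR
    exact hR.relPt f E m hV

theorem chartPC_iff_forall_relPt {U : X.Opens} (hU : IsAffineOpen U) {V : S.Opens}
    (hV : IsAffineOpen V) (h : U ≤ f ⁻¹ᵁ V) {n : ℕ}
    (φ : MvPolynomial (Fin n) Γ(S, V) →+* Γ(X, U)) (hφ : DerSch.IsChart f U V h φ) :
    DerSch.ChartPC m E U V φ ↔ ∀ x : X, x ∈ U → RelPt f E m x := by
  rw [chartPC_iff_forall_pwAt E m U hU V φ hφ.1]
  constructor
  · intro H x hx
    rw [relPt_iff_relAt f E m hU hV h x hx, relAt_iff_of_chart f E m U hU V h φ hφ]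
    exact H ⟨x, hx⟩
  · intro H x
    have := H x.1 x.2
    rwa [relPt_iff_relAt f E m hU hV h x.1 x.2, relAt_iff_of_chart f E m U hU V h φ hφ] at this

theorem isPseudoCoherentRel_iff_forall_relPt :
    DerSch.IsPseudoCoherentRel f m E ↔ ∀ x : X, RelPt f E m x := by
  constructor
  · rintro ⟨_, 𝒱, h𝒱, H⟩ x
    have h1 : f x ∈ (⨆ V ∈ 𝒱, (V : S.Opens)) := h𝒱 ▸ (trivial : f x ∈ (⊤ : S.Opens))
    simp only [TopologicalSpace.Opens.mem_iSup] at h1
    obtain ⟨V, hV𝒱, hxV⟩ := h1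
    obtain ⟨𝒰, h𝒰, H'⟩ := H V hV𝒱
    have h2 : x ∈ (⨆ U ∈ 𝒰, (U : X.Opens)) := h𝒰 ▸ hxV
    simp only [TopologicalSpace.Opens.mem_iSup] at h2
    obtain ⟨U, hU𝒰, hxU⟩ := h2
    have hle : (U : X.Opens) ≤ f ⁻¹ᵁ (V : S.Opens) := by
      rw [← h𝒰]
      exact le_iSup₂ (f := fun (U : X.affineOpens) (_ : U ∈ 𝒰) => (U : X.Opens)) U hU𝒰
    obtain ⟨n, φ, hφ, hP⟩ := H' U hU𝒰 hle
    exact ((chartPC_iff_forall_relPt f E m U.2 V.2 hle φ hφ).1 hP) x hxU
  · intro H
    refine ⟨inferInstance, Set.univ, ?_, fun V _ => ⟨{U | (U : X.Opens) ≤ f ⁻¹ᵁ (V : S.Opens)},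
      ?_, fun U _ h => ?_⟩⟩
    · simp only [Set.mem_univ, iSup_pos]
      exact iSup_affineOpens_eq_top S
    · apply le_antisymm
      · exact iSup₂_le (fun U hU => hU)
      · intro x hx
        obtain ⟨_, ⟨W, hW, rfl⟩, hxW, hWV⟩ :=
          X.isBasis_affineOpens.exists_subset_of_mem_open hx (f ⁻¹ᵁ (V : S.Opens)).2
        exact TopologicalSpace.Opens.mem_iSup.2
          ⟨⟨W, hW⟩, TopologicalSpace.Opens.mem_iSup.2 ⟨hWV, hxW⟩⟩
    · obtain ⟨n, φ, hφ⟩ := exists_isChart f U.2 V.2 h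
      exact ⟨n, φ, hφ, (chartPC_iff_forall_relPt f E m U.2 V.2 h φ hφ).2 (fun x _ => H x)⟩

/-- the chart test holds on every affine pair -/
theorem isPseudoCoherentRel_iff_forall_affine :
    DerSch.IsPseudoCoherentRel f m E ↔
      ∀ (U : X.affineOpens) (V : S.affineOpens) (h : (U : X.Opens) ≤ f ⁻¹ᵁ (V : S.Opens)),
        ∃ (n : ℕ) (φ : MvPolynomial (Fin n) Γ(S, (V : S.Opens)) →+* Γ(X, (U : X.Opens))),
          DerSch.IsChart f (U : X.Opens) (V : S.Opens) h φ ∧
            DerSch.ChartPC m E (U : X.Opens) (V : S.Opens) φ := by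
  rw [isPseudoCoherentRel_iff_forall_relPt]
  constructor
  · intro H U V h
    obtain ⟨n, φ, hφ⟩ := exists_isChart f U.2 V.2 h
    exact ⟨n, φ, hφ, (chartPC_iff_forall_relPt f E m U.2 V.2 h φ hφ).2 (fun x _ => H x)⟩
  · intro H x
    obtain ⟨_, ⟨V, hV, rfl⟩, hxV, -⟩ :=
      S.isBasis_affineOpens.exists_subset_of_mem_open (show f x ∈ (⊤ : S.Opens) from trivial)
        (⊤ : S.Opens).2
    obtain ⟨_, ⟨W, hW, rfl⟩, hxW, hWV⟩ :=
      X.isBasis_affineOpens.exists_subset_of_mem_open (show x ∈ f ⁻¹ᵁ V from hxV) (f ⁻¹ᵁ V).2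
    obtain ⟨n, φ, hφ, hP⟩ := H ⟨W, hW⟩ ⟨V, hV⟩ hWV
    exact ((chartPC_iff_forall_relPt f E m hW hV hWV φ hφ).1 hP) x hxW


end Point

end Groth.Agent.Lib.T2H1.RelPCpt
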