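import Groth.Agent.Lib.T2H2AffQhC

/-!
# Pushforward along an affine morphism preserves quasi-isomorphisms from termwise quasi-coherent
complexes to K-injective complexes (T2H2)
-/

set_option autoImplicit false
set_option linter.style.haveILetI false
universe w u
open CategoryTheory CategoryTheory.Limits Opposite AlgebraicGeometry TopologicalSpace

namespace Groth.Agent.Lib.T2H2.AffQh

open Groth.Agent.Lib.Helper17.Hyp DerivedCategory Groth.Agent.S14388
  Groth.Agent.Lib.T2H2.ModLim Groth.Agent.Lib.T2H2.ModLim2 Groth.Agent.Lib.T2H2.AffPush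
  Groth.Agent.Lib.T2H2.KtoD Groth.Agent.Lib.T2H2.NegVan

section Add

variable {X S : Scheme.{u}} (f : X ⟶ S)

lemma pushEquiv_add (V : S.Opens) (M : X.Modules) (s s' : (frX X).obj (f ⁻¹ᵁ V) ⟶ M) :
    pushEquiv f V M (s + s') = pushEquiv f V M s + pushEquiv f V M s' := by
  have h : s + s' = biprod.lift s s' ≫ (biprod.fst + biprod.snd) := by
    rw [Preadditive.comp_add, biprod.lift_fst, biprod.lift_snd]
  rw [h, pushEquiv_comp, Functor.map_add, Preadditive.comp_add, ← pushEquiv_comp,
    ← pushEquiv_comp, biprod.lift_fst, biprod.lift_snd]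

lemma pushEquiv_symm_add (V : S.Opens) (M : X.Modules)
    (s s' : (frX S).obj V ⟶ (Scheme.Modules.pushforward f).obj M) :
    (pushEquiv f V M).symm (s + s') = (pushEquiv f V M).symm s + (pushEquiv f V M).symm s' := by
  apply (pushEquiv f V M).injective
  rw [pushEquiv_add, Equiv.apply_symm_apply, Equiv.apply_symm_apply, Equiv.apply_symm_apply]

lemma pushEquiv_symm_zero (V : S.Opens) (M : X.Modules) :
    (pushEquiv f V M).symm 0 = 0 := by
  apply (pushEquiv f V M).injective
  rw [Equiv.apply_symm_apply, pushEquiv_zero]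

end Add

section Push

variable {X S : Scheme.{u}} [HasDerivedCategory.{w} X.Modules] (f : X ⟶ S) [IsAffineHom f]
  {F I : CochainComplex X.Modules ℤ} (φ : F ⟶ I) [QuasiIso φ] [I.IsKInjective]
  (hF : ∀ i : ℤ, (F.X i).IsQuasicoherent)

include hF in
/-- degree `0`: the pushforward along an affine morphism of a quasi-isomorphism from a termwise
quasi-coherent complex to a K-injective complex is a quasi-isomorphism in degree `0`. -/
theorem quasiIsoAt_zero_push :
    QuasiIsoAt (((Scheme.Modules.pushforward f).mapHomologicalComplex (ComplexShape.up ℤ)).map φ)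
      0 := by
  apply quasiIsoAt_zero_of_local _ (locFr_frX S) (S.affineOpens : Set S.Opens) isBasisFor_affine
  · intro V hV y hy
    have hU : IsAffineOpen (f ⁻¹ᵁ V) := IsAffineOpen.preimage hV f
    have hy' : (pushEquiv f V (I.X 0)).symm y ≫ I.d 0 1 = 0 := by
      rw [← pushEquiv_symm_comp]
      exact (congrArg _ hy).trans (pushEquiv_symm_zero f V _)
    obtain ⟨x, w, hx, hxw⟩ := exists_of_cocycle_target φ hF hU _ hy'
    refine ⟨pushEquiv f V (F.X 0) x, pushEquiv f V (I.X (-1)) w, ?_, ?_⟩
    · change pushEquiv f V (F.X 0) x ≫ (Scheme.Modules.pushforward f).map (F.d 0 1) = 0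
      rw [← pushEquiv_comp, hx, pushEquiv_zero]
    · change y = pushEquiv f V (F.X 0) x ≫ (Scheme.Modules.pushforward f).map (φ.f 0) +
        pushEquiv f V (I.X (-1)) w ≫ (Scheme.Modules.pushforward f).map (I.d (-1) 0)
      rw [← pushEquiv_comp, ← pushEquiv_comp, ← pushEquiv_add, ← hxw, Equiv.apply_symm_apply]
  · intro V hV x hx w hw
    have hU : IsAffineOpen (f ⁻¹ᵁ V) := IsAffineOpen.preimage hV f
    have hx' : (pushEquiv f V (F.X 0)).symm x ≫ F.d 0 1 = 0 := by
      rw [← pushEquiv_symm_comp]
      exact (congrArg _ hx).trans (pushEquiv_symm_zero f V _)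
    have hw' : (pushEquiv f V (F.X 0)).symm x ≫ φ.f 0 =
        (pushEquiv f V (I.X (-1))).symm w ≫ I.d (-1) 0 := by
      rw [← pushEquiv_symm_comp, ← pushEquiv_symm_comp]
      exact congrArg _ hw
    obtain ⟨w', hw''⟩ := exists_of_boundary_source φ hF hU _ hx' _ hw'
    refine ⟨pushEquiv f V (F.X (-1)) w', ?_⟩
    change x = pushEquiv f V (F.X (-1)) w' ≫ (Scheme.Modules.pushforward f).map (F.d (-1) 0)
    rw [← pushEquiv_comp, ← hw'', Equiv.apply_symm_apply]

include hF in
/-- the pushforward along an affine morphism of a quasi-isomorphism from a termwise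
quasi-coherent complex to a K-injective complex is a quasi-isomorphism. -/
theorem quasiIso_push :
    QuasiIso (((Scheme.Modules.pushforward f).mapHomologicalComplex (ComplexShape.up ℤ)).map φ) := by
  rw [quasiIso_iff]
  intro n
  rw [← CochainComplex.quasiIsoAt_shift_iff _ n 0 n (add_zero n)]
  have e : (((Scheme.Modules.pushforward f).mapHomologicalComplex (ComplexShape.up ℤ)).map φ)⟦n⟧' =
      (((Scheme.Modules.pushforward f).mapHomologicalComplex (ComplexShape.up ℤ)).commShiftIso
        n).inv.app F ≫
      ((Scheme.Modules.pushforward f).mapHomologicalComplex (ComplexShape.up ℤ)).map (φ⟦n⟧') ≫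
      (((Scheme.Modules.pushforward f).mapHomologicalComplex (ComplexShape.up ℤ)).commShiftIso
        n).hom.app I := by
    have h := (((Scheme.Modules.pushforward f).mapHomologicalComplex
      (ComplexShape.up ℤ)).commShiftIso n).hom.naturality φ
    rw [← cancel_epi ((((Scheme.Modules.pushforward f).mapHomologicalComplex
      (ComplexShape.up ℤ)).commShiftIso n).hom.app F), Iso.hom_inv_id_app_assoc]
    exact h.symm
  rw [e]
  haveI : QuasiIsoAt (((Scheme.Modules.pushforward f).mapHomologicalComplex
      (ComplexShape.up ℤ)).map (φ⟦n⟧')) 0 :=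
    quasiIsoAt_zero_push f (φ⟦n⟧') (fun i => hF (i + n))
  infer_instance

end Push

end Groth.Agent.Lib.T2H2.AffQh
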