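import Groth.Agent.Lib.T2H2KtoDB
import Groth.Agent.Lib.T2H1RpushSupport
import Groth.Agent.S7245
import Groth.Agent.Lib.T2H2LpullQCohB

/-!
# `Rf_*` preserves `D_QCoh` for affine `f` (T2H2)

* `isQCohD_Q_of_termwise` : a complex of quasi-coherent modules lies in `D_QCoh`.
* `exists_qcoh_repr` : on an affine scheme every object of `D_QCoh` is represented by a complex of
  quasi-coherent modules.
* `isQCohD_restrictD` : restriction to an open preserves `D_QCoh`.
* `isQCohD_Rpush_of_isAffine` : `X` affine, `g : X ⟶ S` affine: `Rg_*` preserves `D_QCoh`.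
* `isQCohD_Rpush_of_isAffineHom` : the same for any affine morphism.
-/

set_option autoImplicit false
set_option linter.style.haveILetI false
universe u
open CategoryTheory CategoryTheory.Limits AlgebraicGeometry Opposite

attribute [local instance] HasDerivedCategory.standard

namespace Groth.Agent.Lib.T2H2.AffRpush

open Groth.Agent.Lib.Helper23.QCohLocal Groth.Agent.Lib.T2H8.PCohQCoh
  Groth.Agent.Lib.T2H8.PCohTriangle Groth.Agent.Lib.T2H2.KtoD

/-- a complex of quasi-coherent modules lies in `D_QCoh`. -/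
theorem isQCohD_Q_of_termwise {X : Scheme.{u}} (F : CochainComplex X.Modules ℤ)
    (hF : ∀ i : ℤ, (F.X i).IsQuasicoherent) : DCoh.IsQCohD (DerivedCategory.Q.obj F) :=
  fun i => isQCoh_of_iso ((DerivedCategory.homologyFunctorFactors X.Modules i).app F).symm
    (isQCoh_homology F hF i)

/-- restriction along an open immersion preserves `D_QCoh`. -/
theorem isQCohD_restrictD {U X : Scheme.{u}} (j : U ⟶ X) [IsOpenImmersion j] (K : DCoh.D X)
    (hK : DCoh.IsQCohD K) : DCoh.IsQCohD ((DCoh.restrictD j).obj K) := by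
  intro i
  haveI : ((DerivedCategory.homologyFunctor X.Modules i).obj K).IsQuasicoherent := hK i
  exact isQCoh_of_iso
    ((mapDerivedCategoryHomologyIso (Scheme.Modules.restrictFunctor j) i).app K).symm
    (Scheme.Modules.isQuasicoherent_restrictFunctor j _)

/-- on `Spec R` every object of `D_QCoh` is represented by a complex of quasi-coherent modules. -/
theorem exists_qcoh_repr_spec (R : CommRingCat.{u}) (K : DCoh.D (Spec R))
    (hK : DCoh.IsQCohD K) :
    ∃ F : CochainComplex (Spec R).Modules ℤ, (∀ i : ℤ, (F.X i).IsQuasicoherent) ∧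
      Nonempty (K ≅ DerivedCategory.Q.obj F) := by
  haveI : PreservesFiniteLimits (tilde.functor R) := (Groth.Agent.S9498.aux R).1
  haveI : PreservesFiniteColimits (tilde.functor R) := (Groth.Agent.S9498.aux R).2
  obtain ⟨M, ⟨e⟩⟩ := ((Groth.Agent.S0997.result R).2.2 K).1 hK
  let M' : CochainComplex (ModuleCat.{u} R) ℤ := DerivedCategory.Q.objPreimage M
  let e₀ : DerivedCategory.Q.obj M' ≅ M := DerivedCategory.Q.objObjPreimageIso M
  refine ⟨((tilde.functor R).mapHomologicalComplex (ComplexShape.up ℤ)).obj M',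
    fun i => (inferInstance : ((tilde.functor R).obj (M'.X i)).IsQuasicoherent), ⟨?_⟩⟩
  exact e.symm ≪≫ (DCoh.tildeD R).mapIso e₀.symm ≪≫
    (tilde.functor R).mapDerivedCategoryFactors.app M'

/-- on an affine scheme every object of `D_QCoh` is represented by a complex of quasi-coherent
modules. -/
theorem exists_qcoh_repr {X : Scheme.{u}} [IsAffine X] (K : DCoh.D X) (hK : DCoh.IsQCohD K) :
    ∃ F : CochainComplex X.Modules ℤ, (∀ i : ℤ, (F.X i).IsQuasicoherent) ∧
      Nonempty (K ≅ DerivedCategory.Q.obj F) := by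
  let Φ := Scheme.Modules.restrictFunctor X.isoSpec.inv
  let Ψ := Scheme.Modules.restrictFunctor X.isoSpec.hom
  let η : Φ ⋙ Ψ ≅ 𝟭 X.Modules :=
    (Scheme.Modules.restrictFunctorComp X.isoSpec.hom X.isoSpec.inv).symm ≪≫
      Scheme.Modules.restrictFunctorCongr X.isoSpec.hom_inv_id ≪≫
      Scheme.Modules.restrictFunctorId
  obtain ⟨F', hF', ⟨e'⟩⟩ := exists_qcoh_repr_spec _ (Φ.mapDerivedCategory.obj K)
    (isQCohD_restrictD X.isoSpec.inv K hK)
  refine ⟨(Ψ.mapHomologicalComplex (ComplexShape.up ℤ)).obj F', fun i => ?_, ⟨?_⟩⟩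
  · haveI := hF' i
    exact Scheme.Modules.isQuasicoherent_restrictFunctor X.isoSpec.hom (F'.X i)
  · exact ((mapDerivedCategoryCompIdIso Φ Ψ η).app K).symm ≪≫ Ψ.mapDerivedCategory.mapIso e' ≪≫
      Ψ.mapDerivedCategoryFactors.app F'

/-- `Rg_*` preserves `D_QCoh` for an affine morphism with affine source. -/
theorem isQCohD_Rpush_of_isAffine {X S : Scheme.{u}} (g : X ⟶ S) [IsAffine X] [IsAffineHom g]
    [DCoh.HasRpush g] (K : DCoh.D X) (hK : DCoh.IsQCohD K) :
    DCoh.IsQCohD ((DCoh.Rpush g).obj K) := by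
  obtain ⟨F, hF, ⟨e⟩⟩ := exists_qcoh_repr K hK
  haveI := Groth.Agent.S7245.result g F hF
  have e' : (DCoh.Rpush g).obj K ≅ DerivedCategory.Q.obj
      (((Scheme.Modules.pushforward g).mapHomologicalComplex (ComplexShape.up ℤ)).obj F) :=
    (DCoh.Rpush g).mapIso e ≪≫
      (asIso (((DCoh.pushKh g).totalRightDerivedUnit DerivedCategory.Qh
      (HomotopyCategory.quasiIso X.Modules (ComplexShape.up ℤ))).app
      ((HomotopyCategory.quotient X.Modules (ComplexShape.up ℤ)).obj F))).symm
  refine Groth.Agent.Lib.T2H2.LpullQCoh.isQCohD_of_iso e'.symm (isQCohD_Q_of_termwise _ fun i => ?_)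
  haveI := hF i
  exact isQuasicoherent_pushforward g (F.X i)

end Groth.Agent.Lib.T2H2.AffRpush
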