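import Groth.Agent.Lib.T2H1RelPCabs
import Groth.Agent.Lib.T2H2AffRpushA
import Groth.Agent.S0997
import Groth.Prelude.Def_DerCA

/-!
# Relative pseudo-coherence: dictionary with the ring level for quasi-coherent cohomology (helper1)

* `tildeDPushIso`: derived form of `(M~)` pushed forward along `Spec` of a surjection.
* `nonempty_Kd_iso_tildeD`, `chartPC_iff_isPC_model`: if `M ∈ D(Γ(X, U))` is a module model of
  `E|_U`, the chart test is pseudo-coherence of `M` over the polynomial ring.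
* `isPseudoCoherentRel_iff_ring`.
-/

set_option autoImplicit false
set_option linter.style.haveILetI false
universe u
open CategoryTheory CategoryTheory.Limits AlgebraicGeometry Opposite

attribute [local instance] HasDerivedCategory.standard

namespace Groth.Agent.Lib.T2H1.RelPCpt

open Groth.Agent.Lib.T2H8.PCohTriangle Groth.Agent.Lib.T2H8.PerfLocal
  Groth.Agent.Lib.T2H8.PCohBdd Groth.Agent.Lib.T2H8.PCohBiprod Groth.Agent.Lib.T2H1.ClImmPC
  Groth.Agent.Lib.T2H1.ChartIndep Groth.Agent.Lib.T2H1.ChartPC Groth.Agent.Lib.T2H2.TildeLoc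
  Groth.Agent.Lib.Helper1.Restrict Groth.Agent.Lib.Helper1.RelPC
  Groth.Agent.Lib.T2H8.PCohRelBiprod Scheme.Modules DerivedCategory Pretriangulated

section TildePush

variable {T₁ T₂ : Type u} [CommRing T₁] [CommRing T₂] (ρ : T₂ →+* T₁)

/-- derived form of `tildePushIso` for a surjection -/
noncomputable def tildeDPushIso (hρ : Function.Surjective ρ) :
    haveI : IsClosedImmersion (Spec.map (CommRingCat.ofHom ρ)) :=
      IsClosedImmersion.spec_of_surjective _ hρ
    DCoh.tildeD (CommRingCat.of T₁) ⋙ pD (Spec.map (CommRingCat.ofHom ρ)) ≅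
      DRing.restrictD ρ ⋙ DCoh.tildeD (CommRingCat.of T₂) :=
  haveI : IsClosedImmersion (Spec.map (CommRingCat.ofHom ρ)) :=
    IsClosedImmersion.spec_of_surjective _ hρ
  mapDerivedCategoryCompIso (tilde.functor (CommRingCat.of T₁))
      (pushforward (Spec.map (CommRingCat.ofHom ρ)))
      (ModuleCat.restrictScalars ρ ⋙ tilde.functor (CommRingCat.of T₂))
      (Groth.Agent.Lib.T2H2.TildePush.tildePushIso (CommRingCat.ofHom ρ)) ≪≫
    (mapDerivedCategoryCompIso (ModuleCat.restrictScalars ρ) (tilde.functor (CommRingCat.of T₂)) _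
      (Iso.refl _)).symm

end TildePush


section Dict

variable {X : Scheme.{u}} (E : DCoh.D X) (U : X.Opens) (hU : IsAffineOpen U)

/-- `Kd` in terms of a module model of `E|_U` -/
theorem nonempty_Kd_iso_tildeD {R : Type u} [CommRing R] (lam : R →+* Γ(X, U))
    (hlam : Function.Surjective lam) (G : CochainComplex X.Modules ℤ) (e : DCoh.toD X G ≅ E)
    (M : Dual.D Γ(X, U))
    (θ : (DCoh.tildeD (X.presheaf.obj (op U))).obj M ≅
      DCoh.toD _ ((DerSch.pushCx hU.isoSpec.hom).obj ((DCoh.restrictCx U).obj G))) :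
    Nonempty (Kd E U hU lam hlam ≅
      (DCoh.tildeD (CommRingCat.of R)).obj ((DRing.restrictD lam).obj M)) := by
  haveI := isClosedImmersion_affImm U hU lam hlam
  haveI : IsIso U.toSpecΓ := by
    rw [← hU.isoSpec_hom]
    infer_instance
  haveI : IsClosedImmersion (Spec.map (CommRingCat.ofHom lam)) :=
    IsClosedImmersion.spec_of_surjective _ hlam
  have e1 : (pD (Spec.map (CommRingCat.ofHom lam))).obj ((pD U.toSpecΓ).obj ((rD U.ι).obj E)) ≅
      Kd E U hU lam hlam :=
    (pDComp U.toSpecΓ (Spec.map (CommRingCat.ofHom lam)) (affImm U lam) rfl).app _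
  have e2 : DCoh.toD _ ((DerSch.pushCx U.toSpecΓ).obj ((DCoh.restrictCx U).obj G)) ≅
      (pD U.toSpecΓ).obj ((rD U.ι).obj E) :=
    ((pushforward U.toSpecΓ).mapDerivedCategoryFactors.app _).symm ≪≫
      (pD U.toSpecΓ).mapIso
        (((restrictFunctor U.ι).mapDerivedCategoryFactors.app G).symm ≪≫ (rD U.ι).mapIso e)
  have θ' : (DCoh.tildeD (CommRingCat.of Γ(X, U))).obj M ≅
      DCoh.toD _ ((DerSch.pushCx U.toSpecΓ).obj ((DCoh.restrictCx U).obj G)) := θ
  have e4 := (tildeDPushIso lam hlam).app M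
  exact ⟨e1.symm ≪≫ (pD (Spec.map (CommRingCat.ofHom lam))).mapIso (e2.symm ≪≫ θ'.symm) ≪≫ e4⟩

end Dict


section Main

variable {X S : Scheme.{u}} (f : X ⟶ S) (E : DCoh.D X) (m : ℤ)

theorem chartPC_iff_isPC_model (U : X.Opens) (hU : IsAffineOpen U) (V : S.Opens) {n : ℕ}
    (φ : MvPolynomial (Fin n) Γ(S, V) →+* Γ(X, U)) (hφ : Function.Surjective φ)
    (G : CochainComplex X.Modules ℤ) (e : DCoh.toD X G ≅ E) (M : Dual.D Γ(X, U))
    (θ : (DCoh.tildeD (X.presheaf.obj (op U))).obj M ≅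
      DCoh.toD _ ((DerSch.pushCx hU.isoSpec.hom).obj ((DCoh.restrictCx U).obj G))) :
    DerSch.ChartPC m E U V φ ↔
      DRing.IsPseudoCoherent (MvPolynomial (Fin n) Γ(S, V)) m ((DRing.restrictD φ).obj M) := by
  rw [chartPC_iff_forall_pwAt E m U hU V φ hφ, ← isPseudoCoherentD_Kd_iff]
  obtain ⟨ι⟩ := nonempty_Kd_iso_tildeD E U hU φ hφ G e M θ
  constructor
  · intro h
    exact isPC_of_isPseudoCoherentD_tildeD _ _ m (isPseudoCoherentD_of_iso ι h)
  · intro h
    exact isPseudoCoherentD_of_iso ι.symm (isPseudoCoherentD_tildeD_of_isPC _ _ m h)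

lemma isQCohD_push_restrict (hE : DCoh.IsQCohD E) (U : X.Opens) (hU : IsAffineOpen U)
    (G : CochainComplex X.Modules ℤ) (e : DCoh.toD X G ≅ E) :
    DCoh.IsQCohD (DCoh.toD _ ((DerSch.pushCx hU.isoSpec.hom).obj ((DCoh.restrictCx U).obj G))) := by
  haveI : IsClosedImmersion hU.isoSpec.hom := inferInstance
  intro i
  have e2 : DCoh.toD _ ((DerSch.pushCx hU.isoSpec.hom).obj ((DCoh.restrictCx U).obj G)) ≅
      (pD hU.isoSpec.hom).obj ((rD U.ι).obj E) :=
    ((pushforward hU.isoSpec.hom).mapDerivedCategoryFactors.app _).symm ≪≫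
      (pD hU.isoSpec.hom).mapIso
        (((restrictFunctor U.ι).mapDerivedCategoryFactors.app G).symm ≪≫ (rD U.ι).mapIso e)
  have e3 : DCoh.HD ((pD hU.isoSpec.hom).obj ((rD U.ι).obj E)) i ≅
      (pushforward hU.isoSpec.hom).obj ((restrictFunctor U.ι).obj (DCoh.HD E i)) :=
    (mapDerivedCategoryHomologyIso (pushforward hU.isoSpec.hom) i).app _ ≪≫
      (pushforward hU.isoSpec.hom).mapIso
        ((mapDerivedCategoryHomologyIso (restrictFunctor U.ι) i).app E)
  have e4 : (pushforward hU.isoSpec.hom).obj ((restrictFunctor U.ι).obj (DCoh.HD E i)) ≅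
      (restrictFunctor hU.isoSpec.symm.hom).obj ((restrictFunctor U.ι).obj (DCoh.HD E i)) :=
    (Groth.Agent.Lib.T2H2.IsoBC.restrictIsoPushforward hU.isoSpec.symm).symm.app _
  haveI : (DCoh.HD E i).IsQuasicoherent := hE i
  haveI : ((restrictFunctor U.ι).obj (DCoh.HD E i)).IsQuasicoherent :=
    Scheme.Modules.isQuasicoherent_restrictFunctor U.ι _
  have h5 : ((restrictFunctor hU.isoSpec.symm.hom).obj
      ((restrictFunctor U.ι).obj (DCoh.HD E i))).IsQuasicoherent :=
    Scheme.Modules.isQuasicoherent_restrictFunctor hU.isoSpec.symm.hom _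
  exact Groth.Agent.Lib.T2H8.PCohQCoh.isQCoh_of_iso
    ((DerivedCategory.homologyFunctor _ i).mapIso e2 ≪≫ e3 ≪≫ e4).symm h5

variable [LocallyOfFiniteType f]

theorem isPseudoCoherentRel_iff_ring (hE : DCoh.IsQCohD E)
    [∀ U : X.affineOpens, PreservesFiniteLimits (tilde.functor (X.presheaf.obj (op (U : X.Opens))))] :
    DerSch.IsPseudoCoherentRel f m E ↔
      ∀ (U : X.affineOpens) (V : S.affineOpens) (h : (U : X.Opens) ≤ f ⁻¹ᵁ (V : S.Opens))
        (G : CochainComplex X.Modules ℤ), Nonempty (DCoh.toD X G ≅ E) →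
        ∀ M : Dual.D Γ(X, (U : X.Opens)),
          Nonempty ((DCoh.tildeD (X.presheaf.obj (op (U : X.Opens)))).obj M ≅
            DCoh.toD _ ((DerSch.pushCx U.2.isoSpec.hom).obj
              ((DCoh.restrictCx (U : X.Opens)).obj G))) →
          letI := (f.appLE (V : S.Opens) (U : X.Opens) h).hom.toAlgebra
          DerCA.IsRelPseudoCoherent Γ(S, (V : S.Opens)) Γ(X, (U : X.Opens)) m M := by
  constructor
  · intro hrel U V h G ⟨e⟩ M ⟨θ⟩
    letI : Algebra Γ(S, (V : S.Opens)) Γ(X, (U : X.Opens)) :=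
      (f.appLE (V : S.Opens) (U : X.Opens) h).hom.toAlgebra
    haveI : Algebra.FiniteType Γ(S, (V : S.Opens)) Γ(X, (U : X.Opens)) :=
      LocallyOfFiniteType.finiteType_appLE f V.2 U.2 h
    obtain ⟨n, α, hα⟩ := exists_presentation Γ(S, (V : S.Opens)) Γ(X, (U : X.Opens))
    have hφ : DerSch.IsChart f (U : X.Opens) (V : S.Opens) h
        (α : MvPolynomial (Fin n) Γ(S, (V : S.Opens)) →+* Γ(X, (U : X.Opens))) := by
      refine ⟨hα, ?_⟩
      ext a
      exact α.commutes a
    have hP : DerSch.ChartPC m E (U : X.Opens) (V : S.Opens)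
        (α : MvPolynomial (Fin n) Γ(S, (V : S.Opens)) →+* Γ(X, (U : X.Opens))) :=
      (chartPC_iff_forall_relPt f E m U.2 V.2 h _ hφ).2
        (fun x _ => (isPseudoCoherentRel_iff_forall_relPt f E m).1 hrel x)
    exact ⟨n, α, hα, (chartPC_iff_isPC_model E m U.1 U.2 V.1 _ hα G e M θ).1 hP⟩
  · intro H
    rw [isPseudoCoherentRel_iff_forall_affine]
    intro U V h
    let G : CochainComplex X.Modules ℤ := (Q : _ ⥤ DCoh.D X).objPreimage E
    let e : DCoh.toD X G ≅ E := (Q : _ ⥤ DCoh.D X).objObjPreimageIso E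
    have hK := isQCohD_push_restrict E hE U.1 U.2 G e
    obtain ⟨M, ⟨θ⟩⟩ := ((Groth.Agent.S0997.result (X.presheaf.obj (op (U : X.Opens)))).2.2 _).1 hK
    obtain ⟨n, α, hα, hvia⟩ := H U V h G ⟨e⟩ M ⟨θ⟩
    letI : Algebra Γ(S, (V : S.Opens)) Γ(X, (U : X.Opens)) :=
      (f.appLE (V : S.Opens) (U : X.Opens) h).hom.toAlgebra
    have hφ : DerSch.IsChart f (U : X.Opens) (V : S.Opens) h
        (α : MvPolynomial (Fin n) Γ(S, (V : S.Opens)) →+* Γ(X, (U : X.Opens))) := by
      refine ⟨hα, ?_⟩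
      ext a
      exact α.commutes a
    exact ⟨n, _, hφ, (chartPC_iff_isPC_model E m U.1 U.2 V.1 _ hα G e M θ).2 hvia⟩

end Main

end Groth.Agent.Lib.T2H1.RelPCpt
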