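import Groth.Agent.Lib.T2H1RelPCloc

/-!
# Two out of three for relative pseudo-coherence (helper1)

* `locPCoh_obj₁`: absolute pointwise statement for the first vertex of a distinguished triangle.
* `pwAt_two_of_three`, `relPt_two_of_three`, `isPseudoCoherentRel_two_of_three`.
-/

set_option autoImplicit false
set_option linter.style.haveILetI false
universe u
open CategoryTheory CategoryTheory.Limits AlgebraicGeometry

attribute [local instance] HasDerivedCategory.standard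

namespace Groth.Agent.Lib.T2H1.RelPCpt

open Groth.Agent.Lib.T2H8.PCohTriangle Groth.Agent.Lib.T2H8.PerfLocal
  Groth.Agent.Lib.T2H8.PCohBdd Groth.Agent.Lib.T2H1.ClImmPC Groth.Agent.Lib.T2H1.ChartIndep
  Groth.Agent.Lib.Helper1.Restrict Groth.Agent.Lib.Helper1.RelPC
  Groth.Agent.Lib.T2H8.PCohRelBiprod Scheme.Modules DerivedCategory Pretriangulated

section Abs

variable {P : Scheme.{u}}

theorem locPCoh_obj₁ (m : ℤ) (T : Triangle (DCoh.D P)) (hT : T ∈ distTriang (DCoh.D P)) (x : P)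
    (h₂ : LocPCoh m T.obj₂ x) (h₃ : LocPCoh (m - 1) T.obj₃ x) : LocPCoh m T.obj₁ x := by
  have h₂' : LocPCoh (m + 1) (T.obj₂⟦(-1 : ℤ)⟧) x := by
    have := h₂.shift (-1)
    have e : m - (-1) = m + 1 := by ring
    rwa [e] at this
  have h₃' : LocPCoh m (T.obj₃⟦(-1 : ℤ)⟧) x := by
    have := h₃.shift (-1)
    have e : m - 1 - (-1) = m := by ring
    rwa [e] at this
  exact locPCoh_obj₃ m T.invRotate.invRotate
    (inv_rot_of_distTriang _ (inv_rot_of_distTriang T hT)) x h₂' h₃'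

end Abs

section Rel

variable {X S : Scheme.{u}} (f : X ⟶ S) (n : ℤ) (T : Triangle (DCoh.D X))
  (hT : T ∈ distTriang (DCoh.D X))

include hT

lemma pwAt_two_of_three (U : X.Opens) (hU : IsAffineOpen U) {R : Type u} [CommRing R]
    (lam : R →+* Γ(X, U)) (hlam : Function.Surjective lam) (x : U) :
    (PWat T.obj₁ (n + 1) U hU lam hlam x → PWat T.obj₂ n U hU lam hlam x →
      PWat T.obj₃ n U hU lam hlam x) ∧
    (PWat T.obj₁ n U hU lam hlam x → PWat T.obj₃ n U hU lam hlam x →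
      PWat T.obj₂ n U hU lam hlam x) ∧
    (PWat T.obj₂ n U hU lam hlam x → PWat T.obj₃ (n - 1) U hU lam hlam x →
      PWat T.obj₁ n U hU lam hlam x) := by
  haveI := isClosedImmersion_affImm U hU lam hlam
  have hT' : (pD (affImm U lam)).mapTriangle.obj ((rD U.ι).mapTriangle.obj T) ∈ distTriang _ :=
    (pD (affImm U lam)).map_distinguished _ ((rD U.ι).map_distinguished T hT)
  exact ⟨fun h₁ h₂ => locPCoh_obj₃ n _ hT' _ h₁ h₂, fun h₁ h₃ => locPCoh_obj₂ n _ hT' _ h₁ h₃,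
    fun h₂ h₃ => locPCoh_obj₁ n _ hT' _ h₂ h₃⟩

variable [LocallyOfFiniteType f]

lemma relPt_two_of_three (x : X) :
    (RelPt f T.obj₁ (n + 1) x → RelPt f T.obj₂ n x → RelPt f T.obj₃ n x) ∧
    (RelPt f T.obj₁ n x → RelPt f T.obj₃ n x → RelPt f T.obj₂ n x) ∧
    (RelPt f T.obj₂ n x → RelPt f T.obj₃ (n - 1) x → RelPt f T.obj₁ n x) := by
  obtain ⟨_, ⟨V, hV, rfl⟩, hxV, -⟩ :=
    S.isBasis_affineOpens.exists_subset_of_mem_open
      (show f x ∈ (⊤ : S.Opens) from trivial) (⊤ : S.Opens).2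
  obtain ⟨_, ⟨U, hU, rfl⟩, hxU, hUV⟩ :=
    X.isBasis_affineOpens.exists_subset_of_mem_open (show x ∈ f ⁻¹ᵁ V from hxV) (f ⁻¹ᵁ V).2
  obtain ⟨k, φ, hφ⟩ := exists_isChart f hU hV hUV
  have key : ∀ (E : DCoh.D X) (m : ℤ), RelPt f E m x ↔ PWat E m U hU φ hφ.1 ⟨x, hxU⟩ := by
    intro E m
    rw [relPt_iff_relAt f E m hU hV hUV x hxU, relAt_iff_of_chart f E m U hU V hUV φ hφ]
  simp only [key]
  exact pwAt_two_of_three n T hT U hU φ hφ.1 ⟨x, hxU⟩

theorem isPseudoCoherentRel_two_of_three :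
    (DerSch.IsPseudoCoherentRel f (n + 1) T.obj₁ → DerSch.IsPseudoCoherentRel f n T.obj₂ →
        DerSch.IsPseudoCoherentRel f n T.obj₃) ∧
      (DerSch.IsPseudoCoherentRel f n T.obj₁ → DerSch.IsPseudoCoherentRel f n T.obj₃ →
        DerSch.IsPseudoCoherentRel f n T.obj₂) ∧
      (DerSch.IsPseudoCoherentRel f n T.obj₂ → DerSch.IsPseudoCoherentRel f (n - 1) T.obj₃ →
        DerSch.IsPseudoCoherentRel f n T.obj₁) := by
  simp only [isPseudoCoherentRel_iff_forall_relPt]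
  exact ⟨fun h₁ h₂ x => (relPt_two_of_three f n T hT x).1 (h₁ x) (h₂ x),
    fun h₁ h₃ x => (relPt_two_of_three f n T hT x).2.1 (h₁ x) (h₃ x),
    fun h₂ h₃ x => (relPt_two_of_three f n T hT x).2.2 (h₂ x) (h₃ x)⟩

end Rel

end Groth.Agent.Lib.T2H1.RelPCpt
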