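import Mathlib
import Groth.Prelude.Def_DCoh3
import Groth.Prelude.Def_CxOX
import Groth.Prelude.Def_DualSh
import Groth.Agent.Lib.T2H1RelPerfTri
import Groth.Agent.Lib.T2H1PerfAmp
import Groth.Agent.Lib.T2H2AffRedA
set_option backward.isDefEq.respectTransparency.types false

/-!
# Relative perfection is affine-local (helper1, second team)
-/

set_option autoImplicit false
set_option linter.style.haveILetI false
universe u
open CategoryTheory CategoryTheory.Limits AlgebraicGeometry HomologicalComplex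

attribute [local instance] HasDerivedCategory.standard

namespace Groth.Agent.Lib.T2H1.RelPerfAffine

open Groth.Agent.Lib.T2H1.StalkTorAmp Groth.Agent.Lib.T2H1.TorAmpRestrict
  Groth.Agent.Lib.T2H1.RelPerfTilde Groth.Agent.Lib.T2H1.RelFlatAmp DTen
  Groth.Agent.Lib.T2H2.TorAmpComp Groth.Agent.Lib.Helper1.KBC Groth.Agent.Lib.T2H1.RelPerfTri
  Groth.Agent.Lib.T2H8.PerfLocal Groth.Agent.Lib.T2H1.PerfAmp DerivedCategory

section TA

variable {W X S S' : Scheme.{u}}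

/-- tor amplitude at a point of an open subscheme -/
theorem tAat_rD_iff (f : X ⟶ S) (j : W ⟶ X) [IsOpenImmersion j] (E : DCoh.D X) (a b : ℤ)
    (w : W) : TAat (j ≫ f) a b ((rD j).obj E) w ↔ TAat f a b E (j w) := by
  let F0 := (Q : _ ⥤ DCoh.D X).objPreimage E
  have eF0 : DCoh.toD X F0 ≅ E := (Q : _ ⥤ DCoh.D X).objObjPreimageIso E
  have e1 : (rD j).obj E ≅ DCoh.toD W ((rC j).obj F0) :=
    (rD j).mapIso eF0.symm ≪≫ (Scheme.Modules.restrictFunctor j).mapDerivedCategoryFactors.app F0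
  constructor
  · intro h
    have h1 := (tAat_toD_iff (j ≫ f) a b _ w).1 (TAat.of_iso _ e1 h)
    exact TAat.of_iso f eF0
      ((tAat_toD_iff f a b F0 (j w)).2 (hasTorAmplitudeAt_of_restrict f j F0 a b w h1))
  · intro h
    have h1 := (tAat_toD_iff f a b F0 (j w)).1 (TAat.of_iso f eF0.symm h)
    exact TAat.of_iso _ e1.symm
      ((tAat_toD_iff (j ≫ f) a b _ w).2 (hasTorAmplitudeAt_restrict f j F0 a b w h1))

/-- tor amplitude relative to `g ≫ j'`, `j'` an open immersion, is tor amplitude relative to `g` -/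
theorem hasTorAmplitudeAt_comp_openImmersion_iff (g : W ⟶ S') (j' : S' ⟶ S) [IsOpenImmersion j']
    (F : CochainComplex W.Modules ℤ) (a b : ℤ) (w : W) :
    DerSch.HasTorAmplitudeAt (g ≫ j') a b F w ↔ DerSch.HasTorAmplitudeAt g a b F w := by
  have hb : Function.Bijective (phi g j' w) :=
    ConcreteCategory.bijective_of_isIso (j'.stalkMap (g.base w))
  constructor
  · intro h
    apply hasTorAmplitudeIn_of_bijective (phi g j' w) hb
    refine Groth.Agent.Lib.Helper1.Tor.hasTorAmp_of_iso ?_ h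
    exact Q.mapIso ((NatIso.mapHomologicalComplex (stalkOverCompIso g j' w)
      (ComplexShape.up ℤ)).app F).symm
  · intro h
    have h1 := hasTorAmplitudeIn_resCx_of_bijective (phi g j' w) hb _ a b h
    refine Groth.Agent.Lib.Helper1.Tor.hasTorAmp_of_iso ?_ h1
    exact Q.mapIso ((NatIso.mapHomologicalComplex (stalkOverCompIso g j' w)
      (ComplexShape.up ℤ)).app F)

theorem tAat_comp_openImmersion_iff (g : W ⟶ S') (j' : S' ⟶ S) [IsOpenImmersion j']
    (E : DCoh.D W) (a b : ℤ) (w : W) : TAat (g ≫ j') a b E w ↔ TAat g a b E w := by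
  let F0 := (Q : _ ⥤ DCoh.D W).objPreimage E
  have eF0 : DCoh.toD W F0 ≅ E := (Q : _ ⥤ DCoh.D W).objObjPreimageIso E
  constructor
  · intro h
    exact TAat.of_iso g eF0 ((tAat_toD_iff g a b F0 w).2
      ((hasTorAmplitudeAt_comp_openImmersion_iff g j' F0 a b w).1
        ((tAat_toD_iff (g ≫ j') a b F0 w).1 (TAat.of_iso _ eF0.symm h))))
  · intro h
    exact TAat.of_iso _ eF0 ((tAat_toD_iff (g ≫ j') a b F0 w).2
      ((hasTorAmplitudeAt_comp_openImmersion_iff g j' F0 a b w).2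
        ((tAat_toD_iff g a b F0 w).1 (TAat.of_iso g eF0.symm h))))

theorem locTA_comp_openImmersion_iff (g : W ⟶ S') (j' : S' ⟶ S) [IsOpenImmersion j']
    (E : DCoh.D W) : LocTA (g ≫ j') E ↔ LocTA g E := by
  constructor
  · intro h w
    obtain ⟨V, a, b, hV, H⟩ := h w
    exact ⟨V, a, b, hV, fun y hy => (tAat_comp_openImmersion_iff g j' E a b y).1 (H y hy)⟩
  · intro h w
    obtain ⟨V, a, b, hV, H⟩ := h w
    exact ⟨V, a, b, hV, fun y hy => (tAat_comp_openImmersion_iff g j' E a b y).2 (H y hy)⟩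

theorem locTA_congr {g g' : W ⟶ S} (h : g = g') (E : DCoh.D W) : LocTA g E ↔ LocTA g' E := by
  subst h; rfl

theorem locTA_of_iso (g : W ⟶ S) {E E' : DCoh.D W} (e : E ≅ E') (h : LocTA g E) :
    LocTA g E' := by
  intro w
  obtain ⟨V, a, b, hV, H⟩ := h w
  exact ⟨V, a, b, hV, fun y hy => TAat.of_iso g e (H y hy)⟩

theorem locTA_rD (f : X ⟶ S) (j : W ⟶ X) [IsOpenImmersion j] (E : DCoh.D X)
    (h : LocTA f E) : LocTA (j ≫ f) ((rD j).obj E) := by
  intro w
  obtain ⟨V, a, b, hV, H⟩ := h (j w)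
  exact ⟨j ⁻¹ᵁ V, a, b, hV, fun w' hw' => (tAat_rD_iff f j E a b w').2 (H _ hw')⟩

theorem locTA_at_of_rD (f : X ⟶ S) (j : W ⟶ X) [IsOpenImmersion j] (E : DCoh.D X)
    (h : LocTA (j ≫ f) ((rD j).obj E)) (w : W) :
    ∃ (V : X.Opens) (a b : ℤ), j w ∈ V ∧ ∀ y : X, y ∈ V → TAat f a b E y := by
  obtain ⟨V', a, b, hV', H⟩ := h w
  refine ⟨j ''ᵁ V', a, b, ⟨w, hV', rfl⟩, ?_⟩
  rintro y ⟨w', hw', rfl⟩
  exact (tAat_rD_iff f j E a b w').1 (H w' hw')

end TA

section Main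

open Groth.Agent.Lib.T2H8.PCohTriangle Groth.Agent.Lib.T2H8.PCohRelBiprod
  Groth.Agent.Lib.T2H2.AffRed

variable {X S : Scheme.{u}} (f : X ⟶ S)

/-- the affine-local form of relative perfection on one affine chart -/
theorem relPerfect_affine_iff [Flat f] (E : DCoh.D X) {U : X.Opens} (hU : IsAffineOpen U)
    {V : S.Opens} (hV : IsAffineOpen V) (hUV : U ≤ f ⁻¹ᵁ V)
    (M : DerivedCategory (ModuleCat.{u} Γ(X, U)))
    (e : (rD hU.fromSpec).obj E ≅ (DCoh.tildeD Γ(X, U)).obj M) :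
    ((∀ m : ℤ, DCoh.IsPseudoCoherentD m ((rD hU.fromSpec).obj E)) ∧
        LocTA (hU.fromSpec ≫ f) ((rD hU.fromSpec).obj E)) ↔
      @Dual2.IsRelPerfect Γ(S, V) Γ(X, U) _ _ (f.appLE V U hUV).hom.toAlgebra M := by
  letI alg : Algebra Γ(S, V) Γ(X, U) := (f.appLE V U hUV).hom.toAlgebra
  have hfl : (f.appLE V U hUV).hom.Flat :=
    HasRingHomProperty.appLE (P := @Flat) f inferInstance ⟨V, hV⟩ ⟨U, hU⟩ hUV
  haveI : Module.Flat Γ(S, V) Γ(X, U) := hfl
  haveI : Flat (Spec.map (f.appLE V U hUV)) := Flat.SpecMap_iff.2 hfl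
  have key := relPerfect_tilde_iff Γ(S, V) Γ(X, U) M
  have hsq : hU.fromSpec ≫ f = Spec.map (f.appLE V U hUV) ≫ hV.fromSpec :=
    (IsAffineOpen.SpecMap_appLE_fromSpec f hV hU hUV).symm
  have hT : LocTA (hU.fromSpec ≫ f) ((rD hU.fromSpec).obj E) ↔
      DCoh.LocHasFiniteRelTorDim (Spec.map (f.appLE V U hUV))
        ((DCoh.tildeD Γ(X, U)).obj M) := by
    rw [locHasFiniteRelTorDim_iff (Spec.map (f.appLE V U hUV)), locTA_congr hsq,
      locTA_comp_openImmersion_iff]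
    exact ⟨fun h => locTA_of_iso _ e h, fun h => locTA_of_iso _ e.symm h⟩
  rw [← key]
  constructor
  · rintro ⟨hpc, htor⟩
    exact ⟨fun m => isPseudoCoherentD_of_iso e (hpc m), hT.1 htor⟩
  · rintro ⟨hpc, htor⟩
    exact ⟨fun m => isPseudoCoherentD_of_iso e.symm (hpc m), hT.2 htor⟩

/-- relative perfection near a point from the affine-local criterion on one chart -/
theorem relPerfect_at_of_affine [Flat f] (E : DCoh.D X) (hE : DCoh.IsQCohD E) {U : X.Opens}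
    (hU : IsAffineOpen U) {V : S.Opens} (hV : IsAffineOpen V) (hUV : U ≤ f ⁻¹ᵁ V)
    (H : ∀ M : DerivedCategory (ModuleCat.{u} Γ(X, U)),
      Nonempty ((DCoh.restrictD hU.isoSpec.inv).obj ((DCoh.restrictD U.ι).obj E) ≅
        (DCoh.tildeD Γ(X, U)).obj M) →
      @Dual2.IsRelPerfect Γ(S, V) Γ(X, U) _ _ (f.appLE V U hUV).hom.toAlgebra M)
    (x : X) (hx : x ∈ U) :
    (∀ m : ℤ, LocPCoh m E x) ∧
      ∃ (V' : X.Opens) (a b : ℤ), x ∈ V' ∧ ∀ y : X, y ∈ V' → TAat f a b E y := by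
  obtain ⟨w, hw⟩ : ∃ w, hU.fromSpec w = x := by
    have hr : x ∈ Set.range hU.fromSpec := by
      rw [hU.range_fromSpec]
      exact hx
    exact hr
  have hq : DCoh.IsQCohD ((rD hU.fromSpec).obj E) := isQCohD_rD hU.fromSpec E hE
  obtain ⟨M, ⟨eM⟩⟩ := exists_tildeD_iso Γ(X, U) ((rD hU.fromSpec).obj E) hq
  have ec : (DCoh.restrictD hU.isoSpec.inv).obj ((DCoh.restrictD U.ι).obj E) ≅
      (rD hU.fromSpec).obj E := (rDComp hU.isoSpec.inv U.ι hU.fromSpec rfl).app E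
  have hM := H M ⟨ec ≪≫ eM.symm⟩
  obtain ⟨hpc, htor⟩ := (relPerfect_affine_iff f E hU hV hUV M eM.symm).2 hM
  refine ⟨fun m => ?_, ?_⟩
  · have := locPCoh_of_isPseudoCoherentD_rD hU.fromSpec m E w (hpc m)
    rwa [hw] at this
  · have := locTA_at_of_rD f hU.fromSpec E htor w
    rwa [hw] at this

/-- S7278 -/
theorem relPerfect_affine_local [Flat f] (E : DCoh.D X) (hE : DCoh.IsQCohD E) :
    (((∀ m : ℤ, DCoh.IsPseudoCoherentD m E) ∧ DCoh.LocHasFiniteRelTorDim f E) ↔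
      ∀ (U : X.Opens) (hU : IsAffineOpen U) (V : S.Opens) (hV : IsAffineOpen V)
        (hUV : U ≤ f ⁻¹ᵁ V) (M : DerivedCategory (ModuleCat.{u} Γ(X, U))),
        Nonempty ((DCoh.restrictD hU.isoSpec.inv).obj ((DCoh.restrictD U.ι).obj E) ≅
          (DCoh.tildeD Γ(X, U)).obj M) →
          @Dual2.IsRelPerfect Γ(S, V) Γ(X, U) _ _ (f.appLE V U hUV).hom.toAlgebra M) ∧
    (∀ (ι : Type u) (V : ι → S.Opens) (hV : ∀ i, IsAffineOpen (V i)) (_ : ⨆ i, V i = ⊤)
        (κ : ι → Type u) (U : ∀ i, κ i → X.Opens) (hU : ∀ i j, IsAffineOpen (U i j))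
        (hUV : ∀ i j, U i j ≤ f ⁻¹ᵁ V i) (_ : ∀ i, ⨆ j, U i j = f ⁻¹ᵁ V i),
        (∀ (i : ι) (j : κ i) (M : DerivedCategory (ModuleCat.{u} Γ(X, U i j))),
          Nonempty ((DCoh.restrictD (hU i j).isoSpec.inv).obj
              ((DCoh.restrictD (U i j).ι).obj E) ≅ (DCoh.tildeD Γ(X, U i j)).obj M) →
            @Dual2.IsRelPerfect Γ(S, V i) Γ(X, U i j) _ _
              (f.appLE (V i) (U i j) (hUV i j)).hom.toAlgebra M) →
        (∀ m : ℤ, DCoh.IsPseudoCoherentD m E) ∧ DCoh.LocHasFiniteRelTorDim f E) := by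
  refine ⟨⟨?_, ?_⟩, ?_⟩
  · rintro ⟨hpc, htor⟩ U hU V hV hUV M ⟨e⟩
    have ec : (DCoh.restrictD hU.isoSpec.inv).obj ((DCoh.restrictD U.ι).obj E) ≅
        (rD hU.fromSpec).obj E := (rDComp hU.isoSpec.inv U.ι hU.fromSpec rfl).app E
    exact (relPerfect_affine_iff f E hU hV hUV M (ec.symm ≪≫ e)).1
      ⟨fun m => isPseudoCoherentD_rD hU.fromSpec m E (hpc m),
        locTA_rD f hU.fromSpec E ((locHasFiniteRelTorDim_iff f E).1 htor)⟩
  · intro H
    have key : ∀ x : X, (∀ m : ℤ, LocPCoh m E x) ∧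
        ∃ (V' : X.Opens) (a b : ℤ), x ∈ V' ∧ ∀ y : X, y ∈ V' → TAat f a b E y := by
      intro x
      obtain ⟨V, hV, hxV, -⟩ := exists_isAffineOpen_mem_and_subset (x := f x) (U := ⊤) trivial
      obtain ⟨U, hU, hxU, hUV⟩ := exists_isAffineOpen_mem_and_subset (x := x) (U := f ⁻¹ᵁ V) hxV
      exact relPerfect_at_of_affine f E hE hU hV hUV (fun M hM => H U hU V hV hUV M hM) x hxU
    exact ⟨fun m => (isPseudoCoherentD_iff m E).2 (fun x => (key x).1 m),
      (locHasFiniteRelTorDim_iff f E).2 (fun x => (key x).2)⟩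
  · intro ι V hV hVcov κ U hU hUV hUcov H
    have key : ∀ x : X, (∀ m : ℤ, LocPCoh m E x) ∧
        ∃ (V' : X.Opens) (a b : ℤ), x ∈ V' ∧ ∀ y : X, y ∈ V' → TAat f a b E y := by
      intro x
      obtain ⟨i, hi⟩ : ∃ i, f x ∈ V i := by
        have : f x ∈ (⨆ i, V i : S.Opens) := by rw [hVcov]; trivial
        exact TopologicalSpace.Opens.mem_iSup.1 this
      obtain ⟨j, hj⟩ : ∃ j, x ∈ U i j := by
        have : x ∈ (⨆ j, U i j : X.Opens) := by rw [hUcov i]; exact hi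
        exact TopologicalSpace.Opens.mem_iSup.1 this
      exact relPerfect_at_of_affine f E hE (hU i j) (hV i) (hUV i j) (fun M hM => H i j M hM) x hj
    exact ⟨fun m => (isPseudoCoherentD_iff m E).2 (fun x => (key x).1 m),
      (locHasFiniteRelTorDim_iff f E).2 (fun x => (key x).2)⟩

end Main

end Groth.Agent.Lib.T2H1.RelPerfAffine
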