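import Mathlib
import Groth.Prelude.Def_AlgSp4
import Groth.Prelude.Def_AlgSpDec
import Groth.Agent.S13210
import Groth.Agent.S10177
import Groth.Agent.Lib.Helper12OpenSub
import Groth.Agent.Lib.Helper12FpqcCover
import Groth.Agent.Lib.Helper1ClosedSub
import Groth.Agent.Lib.T2H1FieldQuotI

/-! # The image sheaf of a field point of an algebraic space is an algebraic space
(helper1, team 2): the residual space of a point. -/

set_option autoImplicit false
universe u
open CategoryTheory CategoryTheory.Limits AlgebraicGeometry Opposite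
open AlgSp

namespace Groth.Agent.Lib.T2H1.ResidualSp

open Groth.Agent.S13210

variable {S : Scheme.{u}}

/-- sections of the target of an epimorphism of fppf sheaves lift locally for the fppf
topology. -/
lemma exists_fppf_lift_of_epi {F G : AlgSp.Sp S} (e : F ⟶ G) [Epi e] {W : Over S}
    (s : (AlgSp.yon S).obj W ⟶ G) :
    ∃ R ∈ Scheme.fppfPrecoverage W.left, ∀ ⦃V : Scheme.{u}⦄ (g : V ⟶ W.left), R g →
      ∃ l : (AlgSp.yon S).obj (Over.mk (g ≫ W.hom)) ⟶ F,
        l ≫ e = (AlgSp.yon S).map (Over.homMk g rfl : Over.mk (g ≫ W.hom) ⟶ W) ≫ s := by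
  have h1 : Sheaf.IsLocallySurjective e :=
    (Sheaf.isLocallySurjective_iff_epi _).mpr inferInstance
  have h3 := h1.imageSieve_mem (U := W) (yEquiv W G s)
  rw [GrothendieckTopology.mem_over_iff,
    Precoverage.mem_toGrothendieck_iff_of_isStableUnderComposition] at h3
  obtain ⟨R, hR, hle⟩ := h3
  refine ⟨R, hR, fun V g hg => ?_⟩
  have h4 := hle _ _ hg
  rw [Sieve.overEquiv_iff] at h4
  obtain ⟨t, ht⟩ := h4
  refine ⟨(yEquiv _ F).symm t, ?_⟩
  rw [yEquiv_symm_comp, ht, Groth.Agent.Lib.Helper12.OpenSub.yEquiv_symm_map,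
    Equiv.symm_apply_apply]

/-- the canonical map onto the image sheaf of a chart `c : h_V ⟶ X` of an algebraic space has a
property `P` (local on the target, descending along fpqc coverings) as soon as the second
projection of `h_V ×_X h_V` has it. -/
theorem repWith_toImage (P : MorphismProperty Scheme.{u}) [IsZariskiLocalAtTarget P]
    (hP : P.DescendsAlong (@Surjective ⊓ @Flat ⊓ @QuasiCompact : MorphismProperty Scheme.{u}))
    {X : AlgSp.Sp S} (hX : AlgSp.IsAlgSpace X) {V : Over S} (c : (AlgSp.yon S).obj V ⟶ X)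
    (hc : AlgSp.RepWith P (pullback.snd c c)) : AlgSp.RepWith P (Sheaf.toImage c) := by
  have hei : Sheaf.toImage c ≫ Sheaf.imageι c = c := Sheaf.toImage_ι c
  have sqE : IsPullback (pullback.fst c c) (pullback.snd c c) (Sheaf.toImage c)
      (Sheaf.toImage c) := by
    refine Groth.Agent.Lib.Helper1.ClosedSub.isPullback_of_comp_mono (Sheaf.imageι c) ?_
    rw [hei]
    exact IsPullback.of_hasPullback c c
  refine ⟨fun {W} s => ?_, fun {W V'} s fst w sq => ?_⟩
  · obtain ⟨V', w, fst, sqW⟩ := hX.representable_from_yon c (s ≫ Sheaf.imageι c)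
    refine ⟨V', w, fst,
      Groth.Agent.Lib.Helper1.ClosedSub.isPullback_of_comp_mono (Sheaf.imageι c) ?_⟩
    rw [hei]
    exact sqW
  · obtain ⟨R, hR, hl⟩ := exists_fppf_lift_of_epi (Sheaf.toImage c) s
    obtain ⟨E₀, rfl⟩ := R.exists_eq_preZeroHypercover
    let 𝒰 : Scheme.Cover Scheme.fpqcPrecoverage W.left :=
      ⟨E₀, Scheme.fppfPrecoverage_le_fpqcPrecoverage _ hR⟩
    show P w.left
    refine Groth.Agent.Lib.Helper12.of_fpqcCover hP w.left 𝒰 (fun j => ?_)
    obtain ⟨l, hl⟩ := hl (E₀.f j) ⟨j⟩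
    let T' : Over S := Over.mk (E₀.f j ≫ W.hom)
    let g' : T' ⟶ W := Over.homMk (E₀.f j) rfl
    have sqO := IsPullback.of_hasPullback w g'
    have sqS := sqO.map (Over.forget S)
    have sqY := sqO.map (AlgSp.yon S)
    have big := sqY.paste_horiz sq
    have hl' : (AlgSp.yon S).map g' ≫ s = l ≫ Sheaf.toImage c := hl.symm
    rw [hl'] at big
    have hw : ((AlgSp.yon S).map (pullback.fst w g') ≫ fst) ≫ Sheaf.toImage c =
        ((AlgSp.yon S).map (pullback.snd w g') ≫ l) ≫ Sheaf.toImage c := by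
      rw [Category.assoc _ l]
      exact big.w
    obtain ⟨m, hm1, hm2⟩ := sqE.exists_lift _ _ hw
    rw [← hm1] at big
    have sqL : IsPullback m ((AlgSp.yon S).map (pullback.snd w g')) (pullback.snd c c) l :=
      IsPullback.of_right big hm2 sqE
    have hPs : P (pullback.snd w g').left := hc.2 l m (pullback.snd w g') sqL
    have e := sqS.isoPullback_hom_snd
    show P (pullback.snd w.left (E₀.f j))
    have e' : sqS.isoPullback.hom ≫ pullback.snd w.left (E₀.f j) = (pullback.snd w g').left := e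
    refine (P.cancel_left_of_respectsIso sqS.isoPullback.hom
      (pullback.snd w.left (E₀.f j))).1 ?_
    rw [e']
    exact hPs

/-- the image sheaf of a chart whose kernel pair projects étale surjectively is an algebraic
space with that chart as an atlas. -/
theorem isAlgSpace_image {X : AlgSp.Sp S} (hX : AlgSp.IsAlgSpace X) {V : Over S}
    (c : (AlgSp.yon S).obj V ⟶ X) (hc₁ : AlgSp.RepWith @Etale (pullback.snd c c))
    (hc₂ : AlgSp.RepWith @Surjective (pullback.snd c c)) :
    AlgSp.IsAlgSpace (Sheaf.image c) ∧ AlgSp.RepWith @Etale (Sheaf.toImage c) ∧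
      AlgSp.RepWith @Surjective (Sheaf.toImage c) := by
  have h1 : AlgSp.RepWith @Etale (Sheaf.toImage c) :=
    repWith_toImage @Etale inferInstance hX c hc₁
  have h2 : AlgSp.RepWith @Surjective (Sheaf.toImage c) :=
    repWith_toImage @Surjective inferInstance hX c hc₂
  refine ⟨⟨?_, ⟨V, Sheaf.toImage c, h1, h2⟩⟩, h1, h2⟩
  exact MorphismProperty.of_isPullback (P := AlgSp.Representable)
    (isPullback_diag_of_mono (Sheaf.imageι c)) hX.diag

/-- the kernel pair of the field point defined by a point of an étale chart projects étale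
surjectively. -/
theorem repWith_snd_ofPt {X : AlgSp.Sp S} (hX : AlgSp.IsAlgSpace X) {U : Over S}
    (p : (AlgSp.yon S).obj U ⟶ X) (hp : AlgSp.RepWith @Etale p) (u : ↥U.left) :
    AlgSp.RepWith @Etale (pullback.snd (AlgSp.FieldPt.ofPt p u).toHom
      (AlgSp.FieldPt.ofPt p u).toHom) ∧
    AlgSp.RepWith @Surjective (pullback.snd (AlgSp.FieldPt.ofPt p u).toHom
      (AlgSp.FieldPt.ofPt p u).toHom) := by
  let qu : AlgSp.FieldPt X := AlgSp.FieldPt.ofPt p u
  let ι : qu.pt ⟶ U := Over.homMk (U.left.fromSpecResidueField u) rfl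
  have hqu : qu.toHom = (AlgSp.yon S).map ι ≫ p := AlgSp.FieldPt.toHom_ofPt p u
  haveI : Mono ι.left := (inferInstance : Mono (U.left.fromSpecResidueField u))
  obtain ⟨G, g₂, fst', sqG⟩ := hX.representable_from_yon qu.toHom qu.toHom
  obtain ⟨g₁, rfl⟩ := (AlgSp.yon S).map_surjective fst'
  have sqG' : IsPullback ((AlgSp.yon S).map g₁) ((AlgSp.yon S).map g₂)
      ((AlgSp.yon S).map ι ≫ p) ((AlgSp.yon S).map ι ≫ p) := by
    rw [← hqu]; exact sqG
  haveI hg₂ : Etale g₂.left :=
    Groth.Agent.Lib.T2H1.FieldQuot.etale_of_mono_factor₂ p hp qu.K qu.str ι ι g₁ g₂ sqG'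
  obtain ⟨d', hd1, hd2⟩ := sqG.exists_lift (𝟙 _) (𝟙 _) rfl
  obtain ⟨d, rfl⟩ := (AlgSp.yon S).map_surjective d'
  have hd : d ≫ g₂ = 𝟙 _ := by
    apply (AlgSp.yon S).map_injective
    rw [Functor.map_comp, hd2, CategoryTheory.Functor.map_id]
  have hs₂ : Surjective g₂.left := by
    refine ⟨fun y => ⟨d.left y, ?_⟩⟩
    rw [← Scheme.Hom.comp_apply, ← Over.comp_left, hd]
    rfl
  constructor
  · show AlgSp.RepWith @Etale (pullback.snd qu.toHom qu.toHom)
    rw [← sqG.isoPullback_inv_snd]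
    exact (MorphismProperty.cancel_left_of_respectsIso (AlgSp.RepWith @Etale) _ _).2
      ((AlgSp.repWith_yon_map_iff @Etale g₂).2 hg₂)
  · show AlgSp.RepWith @Surjective (pullback.snd qu.toHom qu.toHom)
    rw [← sqG.isoPullback_inv_snd]
    exact (MorphismProperty.cancel_left_of_respectsIso (AlgSp.RepWith @Surjective) _ _).2
      ((AlgSp.repWith_yon_map_iff @Surjective g₂).2 hs₂)

/-- **the residual space**: every point of an algebraic space is the image of a monomorphism
from an algebraic space with an étale surjective chart by the spectrum of a field. -/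
theorem exists_residualSpace {X : AlgSp.Sp S} (hX : AlgSp.IsAlgSpace X) (x : AlgSp.Points X) :
    ∃ q : AlgSp.FieldPt X, AlgSp.Points.mk q = x ∧ AlgSp.IsAlgSpace (Sheaf.image q.toHom) ∧
      AlgSp.RepWith @Etale (Sheaf.toImage q.toHom) ∧
      AlgSp.RepWith @Surjective (Sheaf.toImage q.toHom) ∧
      Set.range (AlgSp.Points.map (Sheaf.imageι q.toHom)) = {x} := by
  obtain ⟨U, p, hp, hps⟩ := hX.atlas
  obtain ⟨u, hu⟩ := Groth.Agent.S10177.surjective_ofPt p hps x
  obtain ⟨h1, h2⟩ := repWith_snd_ofPt hX p hp u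
  obtain ⟨hZ, he, hs⟩ := isAlgSpace_image hX (AlgSp.FieldPt.ofPt p u).toHom h1 h2
  refine ⟨AlgSp.FieldPt.ofPt p u, hu, hZ, he, hs, ?_⟩
  ext y
  simp only [Set.mem_range, Set.mem_singleton_iff]
  constructor
  · rintro ⟨z, rfl⟩
    obtain ⟨v, rfl⟩ := Groth.Agent.S10177.surjective_ofPt _ hs z
    rw [AlgSp.Points.map_ofPt, Sheaf.toImage_ι, AlgSp.Points.ofPt_toHom]
    exact hu
  · rintro rfl
    refine ⟨AlgSp.Points.ofPt (Sheaf.toImage (AlgSp.FieldPt.ofPt p u).toHom)
      (IsLocalRing.closedPoint _), ?_⟩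
    rw [AlgSp.Points.map_ofPt, Sheaf.toImage_ι, AlgSp.Points.ofPt_toHom]
    exact hu

end Groth.Agent.Lib.T2H1.ResidualSp
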