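import Groth.Agent.Lib.T2H1RgammaSupp
import Groth.Agent.Lib.T2H1MVTri

/-!
# The localization triangle `RΓ_Z G → G → Rj_*(G|_U) →` and consequences (helper1)

* `exists_triangle₃`: a termwise short exact sequence of functors gives a distinguished triangle.
* `exists_loc_triangle`: for every `G ∈ D(O_X)` and open `W` there is a distinguished triangle
  with vertices `RΓ_{X∖W} G`, `G`, `Rj_{W*}(G|_W)`.
* `hom_Rpush_eq_zero`: `Hom(S, Rj_* M) = 0` when `j^* S = 0`.
* `isZero_obj₁_of_mor₁_eq_zero`.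
* `isZero_RgammaZ_Rpush`, `isIso_unit_app_of_isZero_RgammaZ`.
-/

set_option autoImplicit false
universe w w₁ w₂ v v' u u'
open CategoryTheory CategoryTheory.Limits CategoryTheory.Pretriangulated AlgebraicGeometry

attribute [local instance] HasDerivedCategory.standard

namespace Groth.Agent.Lib.T2H1.RgammaLoc

open Scheme.Modules Groth.Agent.Lib.T2H1.MVTri Groth.Agent.Lib.T2H1.RpushSupport
  Groth.Agent.Lib.T2H1.RestrictPush Groth.Agent.Lib.T2H1.SuppPush
  Groth.Agent.Lib.T2H1.SESTriangle Groth.Agent.Lib.Helper17.KInj Groth.Agent.Lib.T2H1.MVMod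
  Groth.Agent.Lib.T2H1.RgammaSupp

section Tri3

variable {A : Type u} [Category.{v} A] [Abelian A] {C : Type u'} [Category.{v'} C] [Abelian C]
  [HasDerivedCategory.{w₂} C]
  (Φ₁ Φ₂ Φ₃ : A ⥤ C) [Φ₁.Additive] [Φ₂.Additive] [Φ₃.Additive]
  (f : Φ₁ ⟶ Φ₂) (g : Φ₂ ⟶ Φ₃) (I : CochainComplex A ℤ)

/-- a termwise short exact sequence of functors applied to a complex gives a distinguished
triangle. -/
theorem exists_triangle₃ (w : ∀ i, f.app (I.X i) ≫ g.app (I.X i) = 0)
    (hS : ∀ i, (ShortComplex.mk (f.app (I.X i)) (g.app (I.X i)) (w i)).ShortExact)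
    {E₁ E₂ E₃ : DerivedCategory C}
    (e₁ : E₁ ≅ DerivedCategory.Q.obj ((Φ₁.mapHomologicalComplex (ComplexShape.up ℤ)).obj I))
    (e₂ : E₂ ≅ DerivedCategory.Q.obj ((Φ₂.mapHomologicalComplex (ComplexShape.up ℤ)).obj I))
    (e₃ : E₃ ≅ DerivedCategory.Q.obj ((Φ₃.mapHomologicalComplex (ComplexShape.up ℤ)).obj I)) :
    ∃ (a : E₁ ⟶ E₂) (b : E₂ ⟶ E₃) (c : E₃ ⟶ E₁⟦(1 : ℤ)⟧),
      Triangle.mk a b c ∈ distTriang (DerivedCategory C) := by
  have hS' := sc_shortExact Φ₁ Φ₂ Φ₃ f g I w hS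
  have hT := DerivedCategory.triangleOfSES_distinguished hS'
  refine ⟨e₁.hom ≫ (DerivedCategory.triangleOfSES hS').mor₁ ≫ e₂.inv,
    e₂.hom ≫ (DerivedCategory.triangleOfSES hS').mor₂ ≫ e₃.inv,
    e₃.hom ≫ (DerivedCategory.triangleOfSES hS').mor₃ ≫ e₁.inv⟦(1 : ℤ)⟧', ?_⟩
  refine isomorphic_distinguished _ hT _ (Triangle.isoMk _ _ e₁ e₂ e₃ ?_ ?_ ?_)
  · change (e₁.hom ≫ _ ≫ e₂.inv) ≫ e₂.hom = e₁.hom ≫ _
    rw [Category.assoc, Category.assoc, Iso.inv_hom_id, Category.comp_id]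
  · change (e₂.hom ≫ _ ≫ e₃.inv) ≫ e₃.hom = e₂.hom ≫ _
    rw [Category.assoc, Category.assoc, Iso.inv_hom_id, Category.comp_id]
  · change (e₃.hom ≫ _ ≫ e₁.inv⟦(1 : ℤ)⟧') ≫ e₁.hom⟦(1 : ℤ)⟧' = e₃.hom ≫ _
    rw [Category.assoc, Category.assoc, ← Functor.map_comp, Iso.inv_hom_id,
      CategoryTheory.Functor.map_id, Category.comp_id]

end Tri3

section TriLemma

variable {C : Type u} [Category.{v} C] [HasZeroObject C] [HasShift C ℤ] [Preadditive C]
  [∀ n : ℤ, (shiftFunctor C n).Additive] [Pretriangulated C]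

/-- in a distinguished triangle `S → B → D → S[1]` whose first map vanishes, if every morphism
`S[1] → D` vanishes then `S = 0`. -/
theorem isZero_obj₁_of_mor₁_eq_zero (T : Triangle C) (hT : T ∈ distTriang C) (h₁ : T.mor₁ = 0)
    (h : ∀ g : T.obj₁⟦(1 : ℤ)⟧ ⟶ T.obj₃, g = 0) : IsZero T.obj₁ := by
  obtain ⟨g, hg⟩ := Triangle.coyoneda_exact₁ T hT (𝟙 (T.obj₁⟦(1 : ℤ)⟧)) (by
    rw [h₁, Functor.map_zero, comp_zero])
  have h0 : 𝟙 (T.obj₁⟦(1 : ℤ)⟧) = 0 := by rw [hg, h g, zero_comp]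
  have hz : IsZero (T.obj₁⟦(1 : ℤ)⟧) := (IsZero.iff_id_eq_zero _).2 h0
  exact IsZero.of_full_of_faithful_of_isZero (shiftFunctor C (1 : ℤ)) _ hz

end TriLemma

variable {X : Scheme.{u}}

section Loc

/-- for a flasque module `0 → Γ_Z M → M → j_* j^* M → 0` is short exact. -/
theorem shortExact_loc (W : X.Opens) (M : X.Modules)
    (hM : TopCat.Sheaf.IsFlasque (Coh.toAb M)) :
    (ShortComplex.mk ((CxOX.gammaZι W.ι).app M) ((η W).app M) (kernel.condition _)).ShortExact := by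
  haveI : Mono ((CxOX.gammaZι W.ι).app M) :=
    inferInstanceAs (Mono (kernel.ι ((restrictAdjunction W.ι).unit.app M)))
  haveI : Epi ((η W).app M) := epi_of_sectionwise _ (fun A z => by
    have h1 := hM.epi (homOfLE (cap_le W A)).op
    rw [AddCommGrpCat.epi_iff_surjective] at h1
    obtain ⟨a, ha⟩ := h1 z
    exact ⟨a, (η_app_app_apply W M A a).trans ha⟩)
  exact ShortComplex.ShortExact.mk' (ShortComplex.exact_of_f_is_kernel _ (kernelIsKernel _)) ‹_› ‹_›

/-- the localization triangle `RΓ_Z G → G → Rj_*(G|_W) → RΓ_Z G[1]` (existence). -/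
theorem exists_loc_triangle (W : X.Opens) [CxOX.HasRgammaZ W.ι] [DCoh.HasRpush W.ι]
    (G : DCoh.D X) :
    ∃ (a : (CxOX.RgammaZ W.ι).obj G ⟶ G)
      (b : G ⟶ (DCoh.Rpush W.ι).obj ((DCoh.restrictD W.ι).obj G))
      (c : (DCoh.Rpush W.ι).obj ((DCoh.restrictD W.ι).obj G) ⟶
        ((CxOX.RgammaZ W.ι).obj G)⟦(1 : ℤ)⟧),
      Triangle.mk a b c ∈ distTriang (DCoh.D X) := by
  obtain ⟨I, hI, hinj, ⟨e⟩⟩ := exists_rep G
  obtain ⟨βW, hβW⟩ := exists_unit_Rpush W.ι
  obtain ⟨βΓ, hβΓ⟩ := exists_unit_RgammaZ W.ι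
  haveI := hI
  haveI := isKInjective_restrict W I
  exact exists_triangle₃ (DCoh.gammaZ W.ι) (𝟭 X.Modules) (T W) (CxOX.gammaZι W.ι) (η W) I
    (fun i => kernel.condition _)
    (fun i => shortExact_loc W (I.X i)
      (Groth.Agent.Lib.T2H4.LocCohQC.isFlasque_of_injective (I.X i) (hinj i)))
    (objIso₀.{u} (DCoh.gammaZ W.ι) (CxOX.RgammaZ W.ι) βΓ I e)
    (e ≪≫ DerivedCategory.Q.mapIso ((Functor.mapHomologicalComplexIdIso X.Modules
      (ComplexShape.up ℤ)).app I).symm)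
    (objIso.{u} (pushforward W.ι) (DCoh.Rpush W.ι) βW (restrictFunctor W.ι) (T W) (Iso.refl _) I e)

end Loc

section Hom

variable {X' : Scheme.{u}} (j : X' ⟶ X) [IsOpenImmersion j]

/-- morphisms from an object vanishing on `j` into `Rj_* M` are zero. -/
theorem hom_Rpush_eq_zero [DCoh.HasRpush j] (S : DCoh.D X)
    (hS : IsZero ((DCoh.restrictD j).obj S)) (M : DCoh.D X') (f : S ⟶ (DCoh.Rpush j).obj M) :
    f = 0 := by
  obtain ⟨β, hβ⟩ := exists_unit_Rpush j
  let dadj := derivedAdjunction.{u} (restrictFunctor j) (pushforward j) (restrictAdjunction j)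
    (DCoh.Rpush j) β
  apply (dadj.homEquiv S M).symm.injective
  exact hS.eq_of_src _ _

theorem isZero_restrictD_shift (S : DCoh.D X) (hS : IsZero ((DCoh.restrictD j).obj S)) (n : ℤ) :
    IsZero ((DCoh.restrictD j).obj (S⟦n⟧)) :=
  IsZero.of_iso ((shiftFunctor _ n).map_isZero hS) (((DCoh.restrictD j).commShiftIso n).app S)

/-- points of the image of `j` are outside the support of `M` when `j^* M = 0`. -/
theorem not_mem_support_of_isZero_restrictFunctor (M : X.Modules)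
    (h : IsZero ((restrictFunctor j).obj M)) (w : X') : j.base w ∉ CohB1.support M := by
  simp only [CohB1.support, Set.mem_ofPred_eq, not_not]
  refine Groth.Agent.Lib.Helper23.Support.subsingleton_stalk_of_forall_res_eq_zero M _
    (fun A hxA s => ?_)
  refine ⟨j ''ᵁ (j ⁻¹ᵁ A), ?_, ?_, ?_⟩
  · rw [Scheme.Hom.image_preimage_eq_opensRange_inf]
    exact inf_le_right
  · rw [Scheme.Hom.image_preimage_eq_opensRange_inf]
    exact ⟨⟨w, rfl⟩, hxA⟩
  · exact Groth.Agent.Lib.Helper23.ModLocal.eq_zero_of_isZero h (j ⁻¹ᵁ A) _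

/-- `H^i(j^* G)` has no support at `x` if `j x` lies in an open on which `H^i(G)` has no
support. -/
theorem not_mem_support_HD_restrictD (G : DCoh.D X) (i : ℤ) (V : X.Opens)
    (hV : ∀ y ∈ V, y ∉ CohB1.support (DCoh.HD G i)) (x : X') (hx : j.base x ∈ V) :
    x ∉ CohB1.support (DCoh.HD ((DCoh.restrictD j).obj G) i) := by
  refine not_mem_support_of_isZero_restrict _ (j ⁻¹ᵁ V) ?_ x hx
  refine IsZero.of_iso ?_ ((restrictFunctor (j ⁻¹ᵁ V).ι).mapIso
    (Groth.Agent.Lib.Helper17.AdjWay.homologyIso (restrictFunctor j) G i))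
  refine IsZero.of_iso ?_ ((restrictFunctorComp (j ⁻¹ᵁ V).ι j).app (DCoh.HD G i)).symm
  exact isZero_restrictFunctor_of_disjoint_support _ _ (fun w => hV _ w.2)

/-- `j^* S = 0` when `S|_W = 0` and `j` lands in `W`. -/
theorem isZero_restrictD_of_range_subset (W : X.Opens) (hjW : Set.range j.base ⊆ (W : Set X))
    (S : DCoh.D X) (hS : IsZero ((DCoh.restrictD W.ι).obj S)) :
    IsZero ((DCoh.restrictD j).obj S) := by
  refine isZero_of_forall_isZero_homology _ (fun k => ?_)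
  refine IsZero.of_iso ?_ (Groth.Agent.Lib.Helper17.AdjWay.homologyIso (restrictFunctor j) S k)
  refine isZero_restrictFunctor_of_disjoint_support j _ (fun w => ?_)
  refine not_mem_support_of_isZero_restrict (DCoh.HD S k) W ?_ _ (hjW ⟨w, rfl⟩)
  exact IsZero.of_iso (Functor.map_isZero _ hS)
    (Groth.Agent.Lib.Helper17.AdjWay.homologyIso (restrictFunctor W.ι) S k).symm

/-- restriction along an open immersion preserves `D_QCoh`. -/
theorem isQCohD_restrictD (K : DCoh.D X) (hK : DCoh.IsQCohD K) :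
    DCoh.IsQCohD ((DCoh.restrictD j).obj K) := by
  intro i
  haveI : ((DerivedCategory.homologyFunctor X.Modules i).obj K).IsQuasicoherent := hK i
  exact (SheafOfModules.isQuasicoherent X'.ringCatSheaf).prop_of_iso
    (Groth.Agent.Lib.Helper17.AdjWay.homologyIso (restrictFunctor j) K i).symm
    (Scheme.Modules.isQuasicoherent_restrictFunctor j _)

end Hom

section Main

variable {X' : Scheme.{u}} (j : X' ⟶ X) [IsOpenImmersion j] [DCoh.HasRpush j]

/-- `RΓ_{X∖W}(Rj_* F) = 0` when `j` lands in `W`. -/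
theorem isZero_RgammaZ_Rpush (W : X.Opens) [CxOX.HasRgammaZ W.ι]
    (hjW : Set.range j.base ⊆ (W : Set X)) (F : DCoh.D X') :
    IsZero ((CxOX.RgammaZ W.ι).obj ((DCoh.Rpush j).obj F)) := by
  haveI := hasRpush W.ι
  obtain ⟨a, b, c, hT⟩ := exists_loc_triangle W ((DCoh.Rpush j).obj F)
  have hSW := isZero_restrictD_RgammaZ W.ι ((DCoh.Rpush j).obj F)
  have hSj := isZero_restrictD_of_range_subset j W hjW _ hSW
  have ha : a = 0 := hom_Rpush_eq_zero j _ hSj F a
  exact isZero_obj₁_of_mor₁_eq_zero _ hT ha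
    (fun g => hom_Rpush_eq_zero W.ι _ (isZero_restrictD_shift W.ι _ hSW 1) _ g)

/-- if `RΓ_{X∖W} G = 0` then every morphism `S ⟶ G` from an object with `S|_W = 0` vanishes. -/
theorem hom_eq_zero_of_isZero_RgammaZ (W : X.Opens) [CxOX.HasRgammaZ W.ι] (G : DCoh.D X)
    (hG : IsZero ((CxOX.RgammaZ W.ι).obj G)) (S : DCoh.D X)
    (hS : IsZero ((DCoh.restrictD W.ι).obj S)) (f : S ⟶ G) : f = 0 := by
  haveI := hasRpush W.ι
  obtain ⟨a, b, c, hT⟩ := exists_loc_triangle W G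
  haveI : IsIso b := (Triangle.isZero₁_iff_isIso₂ _ hT).1 hG
  rw [← cancel_mono b, zero_comp]
  exact hom_Rpush_eq_zero W.ι S hS _ _

/-- the unit `G ⟶ Rj_* j^* G` is an isomorphism when `G` vanishes on an open `V`,
`RΓ_{X∖W} G = 0`, and `W = V ∪ j(X')`. -/
theorem isIso_unit_app_of_isZero_RgammaZ (adj : DCoh.restrictD j ⊣ DCoh.Rpush j)
    (V W : X.Opens) [CxOX.HasRgammaZ W.ι]
    (hW : (W : Set X) = (V : Set X) ∪ Set.range j.base) (G : DCoh.D X)
    (hGV : IsZero ((DCoh.restrictD V.ι).obj G))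
    (hG : IsZero ((CxOX.RgammaZ W.ι).obj G)) : IsIso (adj.unit.app G) := by
  haveI := isIso_counit j adj
  have h1 : IsIso ((DCoh.restrictD j).map (adj.unit.app G)) := by
    rw [IsIso.eq_inv_of_inv_hom_id (adj.left_triangle_components G)]
    infer_instance
  obtain ⟨C', f, h, hT⟩ := Pretriangulated.distinguished_cocone_triangle₁ (adj.unit.app G)
  have hCj : IsZero ((DCoh.restrictD j).obj C') :=
    (Triangle.isZero₁_iff_isIso₂ _ ((DCoh.restrictD j).map_distinguished _ hT)).2 h1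
  have hCV : IsZero ((DCoh.restrictD V.ι).obj C') :=
    Triangle.isZero₁_of_isZero₂₃ _ ((DCoh.restrictD V.ι).map_distinguished _ hT) hGV
      (isZero_restrictD_Rpush_restrictD j V G hGV)
  have hCW : IsZero ((DCoh.restrictD W.ι).obj C') := by
    refine isZero_restrictD W C' (fun i y hy => ?_)
    have hy' : y ∈ (V : Set X) ∪ Set.range j.base := hW ▸ hy
    rcases hy' with hyV | ⟨x, rfl⟩
    · refine not_mem_support_of_isZero_restrict (DCoh.HD C' i) V ?_ y hyV
      exact IsZero.of_iso (Functor.map_isZero _ hCV)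
        (Groth.Agent.Lib.Helper17.AdjWay.homologyIso (restrictFunctor V.ι) C' i).symm
    · refine not_mem_support_of_isZero_restrictFunctor j (DCoh.HD C' i) ?_ x
      exact IsZero.of_iso (Functor.map_isZero _ hCj)
        (Groth.Agent.Lib.Helper17.AdjWay.homologyIso (restrictFunctor j) C' i).symm
  have hf : f = 0 := hom_eq_zero_of_isZero_RgammaZ W G hG C' hCW f
  have hC : IsZero C' := isZero_obj₁_of_mor₁_eq_zero _ hT hf
    (fun g => hom_Rpush_eq_zero j _ (isZero_restrictD_shift j C' hCj 1) _ g)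
  exact (Triangle.isZero₁_iff_isIso₂ _ hT).1 hC

end Main

end Groth.Agent.Lib.T2H1.RgammaLoc
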