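import Groth.Prelude.Def_RootCh
import Mathlib

set_option autoImplicit false
universe u v w x
open RootCh Module

namespace Groth.Agent.Lib.T2H1.RootCh

variable {ι : Type u} {R : Type v} {M : Type w} {N : Type x}
    [Field R] [LinearOrder R] [IsStrictOrderedRing R]
    [AddCommGroup M] [Module R M] [AddCommGroup N] [Module R N]
    {P : RootPairing ι R M N}

/-- Expansion of the pairing with an arbitrary coroot in terms of the simple coroots of `b`. -/
theorem coroot_expand (b : P.Base) (i : ι) :
    ∃ (ε : R) (f : ι → ℕ), (ε = 1 ∨ ε = -1) ∧ (∃ j ∈ b.support, f j ≠ 0) ∧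
      ∀ ξ : M, P.coroot' i ξ = ε * ∑ j ∈ b.support, (f j : R) * P.coroot' j ξ := by
  obtain ⟨f, hf, h⟩ := b.flip.exists_root_eq_sum_nat_or_neg i
  have hne : ∃ j ∈ b.support, f j ≠ 0 := by
    by_contra hcon
    push_neg at hcon
    have h0 : ∑ j ∈ b.flip.support, f j • P.flip.root j = 0 :=
      Finset.sum_eq_zero (fun j hj => by simp [hcon j hj])
    rcases h with h | h <;> rw [h0] at h
    · exact P.flip.ne_zero i h
    · exact P.flip.ne_zero i (by simpa using h)
  have key : ∀ ξ : M, P.toLinearMap ξ (∑ j ∈ b.support, f j • P.coroot j)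
      = ∑ j ∈ b.support, (f j : R) * P.coroot' j ξ := by
    intro ξ
    simp [map_sum, RootPairing.coroot']
  rcases h with h | h
  · refine ⟨1, f, Or.inl rfl, hne, fun ξ => ?_⟩
    rw [one_mul, ← key]
    change P.toLinearMap ξ (P.coroot i) = _
    congr 1
  · refine ⟨-1, f, Or.inr rfl, hne, fun ξ => ?_⟩
    rw [neg_one_mul, ← key, ← map_neg]
    change P.toLinearMap ξ (P.coroot i) = _
    congr 1

variable [P.IsRootSystem]

/-- Two vectors with the same pairings against the simple coroots of a base are equal. -/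
theorem eq_of_coroot'_eq (b : P.Base) (x y : M)
    (h : ∀ j ∈ b.support, P.coroot' j x = P.coroot' j y) : x = y := by
  apply P.toPerfPair.injective
  apply b.toCoweightBasis.ext
  intro j
  rw [b.toCoweightBasis_apply]
  exact h j j.2

open Classical in
theorem coroot'_fundWeight (b : P.Base) (i : b.support) (j : ι) (hj : j ∈ b.support) :
    P.coroot' j (fundWeight b i) = if j = (i : ι) then 1 else 0 := by
  split_ifs with h
  · subst h
    exact coroot'_fundWeight_self b i
  · exact coroot'_fundWeight_of_ne b i ⟨j, hj⟩ (fun h' => h (congrArg Subtype.val h'))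

/-- Expansion of a vector in the fundamental weights of a base. -/
theorem expand (b : P.Base) (ξ : M) :
    ξ = ∑ j : b.support, P.coroot' j ξ • fundWeight b j := by
  classical
  apply eq_of_coroot'_eq b
  intro j hj
  rw [map_sum]
  simp only [map_smul, smul_eq_mul]
  rw [Finset.sum_eq_single (⟨j, hj⟩ : b.support)]
  · rw [coroot'_fundWeight b _ j hj, if_pos rfl, mul_one]
  · intro k _ hk
    rw [coroot'_fundWeight b _ j hj, if_neg, mul_zero]
    intro h
    exact hk (Subtype.ext h.symm)
  · intro h
    exact absurd (Finset.mem_univ _) h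

theorem fundWeight_injective (b : P.Base) : Function.Injective (fundWeight b) := by
  intro i j h
  by_contra hne
  have h1 := coroot'_fundWeight_self b i
  rw [h, coroot'_fundWeight_of_ne b j i hne] at h1
  exact zero_ne_one h1

/-- Pairing of a simple-coroot expansion with a fundamental weight picks out one coefficient. -/
theorem sum_mul_coroot'_fundWeight (b : P.Base) (k : b.support) (f : ι → R) :
    ∑ j ∈ b.support, f j * P.coroot' j (fundWeight b k) = f k := by
  classical
  rw [Finset.sum_eq_single (k : ι)]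
  · rw [coroot'_fundWeight b k k k.2, if_pos rfl, mul_one]
  · intro j hj hne
    rw [coroot'_fundWeight b k j hj, if_neg hne, mul_zero]
  · intro h
    exact absurd k.2 h

/-- A fundamental weight (of any base) lying in the closed chamber of `b` is a fundamental
weight of `b`. -/
theorem exists_fundWeight_eq_of_mem_closedChamber (b b' : P.Base) (i' : b'.support)
    (hw : fundWeight b' i' ∈ closedChamber b) :
    ∃ k : b.support, fundWeight b k = fundWeight b' i' := by
  classical
  set w := fundWeight b' i' with hwdef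
  have hc : ∀ j ∈ b.support, 0 ≤ P.coroot' j w := hw
  -- Step 1
  have h1 : ∃ k ∈ b.support, P.coroot' k w ≠ 0 := by
    by_contra hcon
    push_neg at hcon
    have hw0 : w = 0 := eq_of_coroot'_eq b w 0 (fun j hj => by rw [hcon j hj, map_zero])
    have := coroot'_fundWeight_self b' i'
    rw [← hwdef, hw0, map_zero] at this
    exact zero_ne_one this
  obtain ⟨k, hk, hck⟩ := h1
  have hckpos : 0 < P.coroot' k w := lt_of_le_of_ne (hc k hk) (Ne.symm hck)
  -- Step 2
  have h2 : ∀ j' ∈ b'.support, j' ≠ (i' : ι) → P.coroot' j' (fundWeight b ⟨k, hk⟩) = 0 := by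
    intro j' hj' hne
    obtain ⟨ε, f, hε, -, hexp⟩ := coroot_expand b j'
    have h0 : P.coroot' j' w = 0 := by
      rw [hwdef, coroot'_fundWeight b' i' j' hj', if_neg hne]
    have hε0 : ε ≠ 0 := by rcases hε with h | h <;> rw [h] <;> norm_num
    rw [hexp w] at h0
    have hsum : ∑ j ∈ b.support, (f j : R) * P.coroot' j w = 0 := by
      rcases mul_eq_zero.mp h0 with h | h
      · exact absurd h hε0
      · exact h
    have hterm := (Finset.sum_eq_zero_iff_of_nonneg
      (fun j hj => mul_nonneg (Nat.cast_nonneg _) (hc j hj))).mp hsum k hk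
    have hfk : (f k : R) = 0 := by
      rcases mul_eq_zero.mp hterm with h | h
      · exact h
      · exact absurd h hck
    rw [hexp, sum_mul_coroot'_fundWeight b ⟨k, hk⟩ (fun j => (f j : R))]
    simp [hfk]
  -- Step 3
  set a := P.coroot' i' (fundWeight b ⟨k, hk⟩) with hadef
  have h3 : fundWeight b ⟨k, hk⟩ = a • w := by
    apply eq_of_coroot'_eq b'
    intro j' hj'
    rw [map_smul, smul_eq_mul, hwdef, coroot'_fundWeight b' i' j' hj']
    split_ifs with h
    · subst h
      rw [mul_one]
    · rw [mul_zero]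
      exact h2 j' hj' h
  -- Step 4
  have h4 : 1 = a * P.coroot' k w := by
    have := congrArg (P.coroot' k) h3
    rw [coroot'_fundWeight_self b ⟨k, hk⟩, map_smul, smul_eq_mul] at this
    exact this
  -- Step 5
  obtain ⟨ε', f', hε', -, hexp'⟩ := coroot_expand b (i' : ι)
  obtain ⟨ε'', g, hε'', -, hexp''⟩ := coroot_expand b' k
  have ha : a = ε' * (f' k : R) := by
    rw [hadef, hexp', sum_mul_coroot'_fundWeight b ⟨k, hk⟩ (fun j => (f' j : R))]
  have hck' : P.coroot' k w = ε'' * (g i' : R) := by
    rw [hexp'', hwdef, sum_mul_coroot'_fundWeight b' i' (fun j => (g j : R))]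
  have hnat : f' k * g i' = 1 := by
    have hprod : (ε' * ε'') * ((f' k * g i' : ℕ) : R) = 1 := by
      rw [h4, ha, hck']
      push_cast
      ring
    have hnn : (0 : R) ≤ ((f' k * g i' : ℕ) : R) := Nat.cast_nonneg _
    have hεε : ε' * ε'' = 1 ∨ ε' * ε'' = -1 := by
      rcases hε' with h | h <;> rcases hε'' with h' | h' <;> rw [h, h'] <;> norm_num
    rcases hεε with h | h
    · rw [h, one_mul] at hprod
      exact_mod_cast hprod
    · rw [h] at hprod
      have : ((f' k * g i' : ℕ) : R) = -1 := by linarith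
      linarith
  have hg : g i' = 1 := Nat.eq_one_of_mul_eq_one_left hnat
  have hf : f' k = 1 := Nat.eq_one_of_mul_eq_one_right hnat
  have hck1 : P.coroot' k w = 1 := by
    rw [hck', hg, Nat.cast_one, mul_one] at hckpos ⊢
    rcases hε'' with h | h
    · exact h
    · rw [h] at hckpos
      linarith
  have ha1 : a = 1 := by
    rw [hck1, mul_one] at h4
    exact h4.symm
  exact ⟨⟨k, hk⟩, by rw [h3, ha1, one_smul]⟩

theorem fundWeight_mem_closedChamber (b : P.Base) (i : b.support) :
    fundWeight b i ∈ closedChamber b := by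
  classical
  intro j hj
  rw [coroot'_fundWeight b i j hj]
  split_ifs <;> norm_num

/-- S14227: the corners of the chamber of `b` are the fundamental weights of `b`. -/
theorem baseCorners_eq (b : P.Base) : baseCorners b = Set.range (fundWeight b) := by
  ext m
  constructor
  · rintro ⟨⟨b', i', rfl⟩, hm⟩
    exact exists_fundWeight_eq_of_mem_closedChamber b b' i' hm
  · rintro ⟨i, rfl⟩
    exact ⟨⟨b, i, rfl⟩, fundWeight_mem_closedChamber b i⟩

/-- Finitely many positive elements of an ordered field have a common positive strict lower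
bound. -/
theorem exists_pos_lt_of_finite {κ : Type*} (s : Finset κ) (a : κ → R) (ha : ∀ i ∈ s, 0 < a i) :
    ∃ ε : R, 0 < ε ∧ ∀ i ∈ s, ε < a i := by
  classical
  induction s using Finset.induction_on with
  | empty => exact ⟨1, one_pos, by simp⟩
  | insert i s hi ih =>
    obtain ⟨ε, hε, h⟩ := ih (fun j hj => ha j (Finset.mem_insert_of_mem hj))
    have hai : 0 < a i := ha i (Finset.mem_insert_self i s)
    refine ⟨min ε (a i / 2), lt_min hε (half_pos hai), ?_⟩
    intro j hj
    rcases Finset.mem_insert.mp hj with rfl | hj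
    · exact lt_of_le_of_lt (min_le_right _ _) (half_lt_self hai)
    · exact lt_of_le_of_lt (min_le_left _ _) (h j hj)

section Exists

variable [Finite ι] [P.IsCrystallographic] [P.IsReduced]

/-- A vector regular for all coroots. -/
theorem exists_regular (P : RootPairing ι R M N) [P.IsRootSystem] :
    ∃ ρ : M, ∀ i, P.coroot' i ρ ≠ 0 := by
  refine Module.Dual.exists_forall_ne_zero_of_forall_exists (fun i => P.coroot' i) (fun i => ?_)
  refine ⟨P.root i, ?_⟩
  rw [P.root_coroot'_eq_pairing, P.pairing_same]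
  norm_num

/-- Perturbation of a vector to a regular one compatible with it. -/
theorem exists_perturb (P : RootPairing ι R M N) [P.IsRootSystem] (ξ : M) :
    ∃ η : M, (∀ i, P.coroot' i η ≠ 0) ∧ ∀ i, 0 < P.coroot' i η → 0 ≤ P.coroot' i ξ := by
  classical
  haveI : Fintype ι := Fintype.ofFinite ι
  obtain ⟨ρ, hρ⟩ := exists_regular P
  obtain ⟨ε, hε, hlt⟩ := exists_pos_lt_of_finite
    (Finset.univ.filter (fun i : ι => P.coroot' i ξ ≠ 0))
    (fun i => |P.coroot' i ξ| / |P.coroot' i ρ|)
    (fun i hi => div_pos (abs_pos.mpr (Finset.mem_filter.mp hi).2) (abs_pos.mpr (hρ i)))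
  have key : ∀ i, P.coroot' i ξ ≠ 0 → |ε * P.coroot' i ρ| < |P.coroot' i ξ| := by
    intro i hi
    have := hlt i (Finset.mem_filter.mpr ⟨Finset.mem_univ _, hi⟩)
    rw [lt_div_iff₀ (abs_pos.mpr (hρ i))] at this
    rwa [abs_mul, abs_of_pos hε]
  refine ⟨ξ + ε • ρ, fun i => ?_, fun i hi => ?_⟩
  · rw [map_add, map_smul, smul_eq_mul]
    by_cases h0 : P.coroot' i ξ = 0
    · rw [h0, zero_add]
      exact mul_ne_zero hε.ne' (hρ i)
    · have := key i h0
      intro hsum
      have h1 : P.coroot' i ξ = -(ε * P.coroot' i ρ) := by linarith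
      rw [h1, abs_neg] at this
      exact lt_irrefl _ this
  · rw [map_add, map_smul, smul_eq_mul] at hi
    by_cases h0 : P.coroot' i ξ = 0
    · rw [h0]
    · have := key i h0
      by_contra hneg
      push_neg at hneg
      rw [abs_of_neg hneg] at this
      have h2 := le_abs_self (ε * P.coroot' i ρ)
      linarith

/-- Every vector lies in the closed Weyl chamber of some base. -/
theorem exists_base_mem_closedChamber (P : RootPairing ι R M N) [P.IsRootSystem]
    [P.IsCrystallographic] [P.IsReduced] (ξ : M) :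
    ∃ b : P.Base, ξ ∈ closedChamber b := by
  classical
  obtain ⟨η, hη, hηξ⟩ := exists_perturb P ξ
  let f : Module.Dual R N := P.toLinearMap η
  have hf : ∀ i, f (P.flip.root i) ≠ 0 := fun i => hη i
  letI := P.flip.indexNeg
  have hli := P.flip.linearIndepOn_root_baseOf' (S := R) f hf
  have hsp : ∀ i, P.flip.root i ∈ AddSubmonoid.closure
      (P.flip.root '' IsAddIndecomposable.baseOf P.flip.root (f : N →+ R)) ∨
      -P.flip.root i ∈ AddSubmonoid.closure
      (P.flip.root '' IsAddIndecomposable.baseOf P.flip.root (f : N →+ R)) :=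
    fun i => IsAddIndecomposable.mem_or_neg_mem_closure_baseOf P.flip.root (f : N →+ R) i (hf i)
      (by simp)
  let b' : P.flip.Base := RootPairing.Base.mk' P.flip _ hli hsp
  let b : P.Base :=
    { support := b'.support
      linearIndepOn_root := b'.linearIndepOn_coroot
      linearIndepOn_coroot := b'.linearIndepOn_root
      root_mem_or_neg_mem := b'.coroot_mem_or_neg_mem
      coroot_mem_or_neg_mem := b'.root_mem_or_neg_mem }
  refine ⟨b, fun i hi => ?_⟩
  have hi' : i ∈ IsAddIndecomposable.baseOf P.flip.root (f : N →+ R) := by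
    have : i ∈ b'.support := hi
    simpa [b', RootPairing.Base.mk'] using this
  have hpos : 0 < f (P.flip.root i) := IsAddIndecomposable.baseOf_subset_pos _ _ hi'
  exact hηξ i hpos

end Exists

section Facets

theorem sgnVec_apply (P : RootPairing ι R M N) (ξ : M) (i : ι) :
    sgnVec P ξ i = SignType.sign (P.coroot' i ξ) := rfl

/-- If `ξ, η` are dominant for `b` and every simple coroot killing `ξ` kills `η`, then `η` lies in
the closure of the facet of `ξ`. -/
theorem sgnVec_closure_of (b : P.Base) (ξ η : M) (hξ : ξ ∈ closedChamber b)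
    (hη : η ∈ closedChamber b)
    (h : ∀ j ∈ b.support, P.coroot' j ξ = 0 → P.coroot' j η = 0) (i : ι) :
    sgnVec P η i = 0 ∨ sgnVec P η i = sgnVec P ξ i := by
  obtain ⟨ε, f, hε, -, hexp⟩ := coroot_expand b i
  rw [sgnVec_apply, sgnVec_apply, hexp ξ, hexp η]
  have hSη : 0 ≤ ∑ j ∈ b.support, (f j : R) * P.coroot' j η :=
    Finset.sum_nonneg (fun j hj => mul_nonneg (Nat.cast_nonneg _) (hη j hj))
  rcases hSη.eq_or_lt with h0 | hpos
  · left
    rw [← h0, mul_zero, sign_zero]
  · right
    obtain ⟨j, hj, hjpos⟩ := Finset.exists_lt_of_sum_lt (s := b.support)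
      (f := fun _ => (0 : R)) (g := fun j => (f j : R) * P.coroot' j η) (by simpa using hpos)
    have hfj : (0 : R) < (f j : R) := by
      rcases (Nat.cast_nonneg (α := R) (f j)).eq_or_lt with h0 | h0
      · rw [← h0, zero_mul] at hjpos
        exact absurd hjpos (lt_irrefl _)
      · exact h0
    have hηj : P.coroot' j η ≠ 0 := by
      intro h0
      rw [h0, mul_zero] at hjpos
      exact lt_irrefl _ hjpos
    have hξj : 0 < P.coroot' j ξ :=
      lt_of_le_of_ne (hξ j hj) (fun h0 => hηj (h j hj h0.symm))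
    have hSξ : 0 < ∑ j ∈ b.support, (f j : R) * P.coroot' j ξ :=
      lt_of_lt_of_le (mul_pos hfj hξj)
        (Finset.single_le_sum (f := fun j => (f j : R) * P.coroot' j ξ)
          (fun l hl => mul_nonneg (Nat.cast_nonneg _) (hξ l hl)) hj)
    rw [sign_mul, sign_mul, sign_pos hpos, sign_pos hSξ]

theorem sgnVec_eq_of (b : P.Base) (ξ η : M) (hξ : ξ ∈ closedChamber b)
    (hη : η ∈ closedChamber b)
    (h : ∀ j ∈ b.support, P.coroot' j ξ = 0 ↔ P.coroot' j η = 0) :
    sgnVec P ξ = sgnVec P η := by
  funext i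
  rcases sgnVec_closure_of b ξ η hξ hη (fun j hj => (h j hj).mp) i with h1 | h1
  · rcases sgnVec_closure_of b η ξ hη hξ (fun j hj => (h j hj).mpr) i with h2 | h2
    · rw [h1, h2]
    · exact h2
  · exact h1.symm

theorem mem_closedChamber_of_sgnVec_closure (b : P.Base) (ξ η : M) (hξ : ξ ∈ closedChamber b)
    (hη : ∀ i, sgnVec P η i = 0 ∨ sgnVec P η i = sgnVec P ξ i) :
    η ∈ closedChamber b ∧ ∀ j ∈ b.support, P.coroot' j ξ = 0 → P.coroot' j η = 0 := by
  have key : ∀ j ∈ b.support, 0 ≤ P.coroot' j η ∧ (P.coroot' j ξ = 0 → P.coroot' j η = 0) := by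
    intro j hj
    rcases hη j with h | h
    · rw [sgnVec_apply, sign_eq_zero_iff] at h
      exact ⟨h.ge, fun _ => h⟩
    · rw [sgnVec_apply, sgnVec_apply] at h
      rcases (hξ j hj).eq_or_lt with h0 | hpos
      · rw [← h0, sign_zero, sign_eq_zero_iff] at h
        exact ⟨h.ge, fun _ => h⟩
      · rw [sign_pos hpos, sign_eq_one_iff] at h
        exact ⟨h.le, fun h0 => absurd h0 hpos.ne'⟩
  exact ⟨fun j hj => (key j hj).1, fun j hj => (key j hj).2⟩

theorem facet_eq_ofVec (F : Facet P) (ξ : M) (hξ : ξ ∈ F.carrier) : F = Facet.ofVec P ξ := by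
  apply Facet.ext
  exact hξ.symm

theorem facet_carrier_nonempty (F : Facet P) : F.carrier.Nonempty := F.exists_sgnVec_eq

theorem facet_carrier_subset_closure (F : Facet P) : F.carrier ⊆ F.closure := by
  intro ξ hξ i
  right
  exact congrFun hξ i

theorem facet_closure_subset_closedChamber (F : Facet P) (b : P.Base) (hb : b ∈ F.cham) :
    F.closure ⊆ closedChamber b := by
  obtain ⟨ξ, hξ⟩ := facet_carrier_nonempty F
  intro η hη
  refine (mem_closedChamber_of_sgnVec_closure b ξ η (hb hξ) (fun i => ?_)).1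
  have : sgnVec P ξ = F.sgn := hξ
  rw [this]
  exact hη i

theorem facet_mem_cham_iff (F : Facet P) (ξ : M) (hξ : ξ ∈ F.carrier) (b : P.Base) :
    b ∈ F.cham ↔ ξ ∈ closedChamber b := by
  constructor
  · intro hb
    exact hb hξ
  · intro h η hη
    refine (mem_closedChamber_of_sgnVec_closure b ξ η h (fun i => ?_)).1
    right
    have h1 : sgnVec P ξ = F.sgn := hξ
    have h2 : sgnVec P η = F.sgn := hη
    rw [h1, h2]

theorem facet_sgn_nonneg_of_mem_cham (F : Facet P) (b : P.Base) (hb : b ∈ F.cham) (j : ι)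
    (hj : j ∈ b.support) : F.sgn j = 0 ∨ F.sgn j = 1 := by
  obtain ⟨ξ, hξ⟩ := facet_carrier_nonempty F
  have h1 : sgnVec P ξ = F.sgn := hξ
  rw [← h1, sgnVec_apply]
  rcases (hb hξ j hj).eq_or_lt with h0 | hpos
  · left
    rw [← h0, sign_zero]
  · right
    exact sign_pos hpos

theorem facet_sgn_ne_zero_iff (F : Facet P) (ξ : M) (hξ : ξ ∈ F.carrier) (j : ι) :
    F.sgn j ≠ 0 ↔ P.coroot' j ξ ≠ 0 := by
  have h1 : sgnVec P ξ = F.sgn := hξ
  rw [← h1, sgnVec_apply, Ne, sign_eq_zero_iff]

/-- The corners of a facet, in terms of an adjacent chamber. -/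
theorem facet_corners_eq (F : Facet P) (b : P.Base) (hb : b ∈ F.cham) :
    F.corners = {m | ∃ j : b.support, F.sgn j ≠ 0 ∧ fundWeight b j = m} := by
  classical
  obtain ⟨ξ, hξ⟩ := facet_carrier_nonempty F
  have h1 : sgnVec P ξ = F.sgn := hξ
  ext m
  constructor
  · rintro ⟨hm1, hm2⟩
    have hmb : m ∈ baseCorners b := ⟨hm1, facet_closure_subset_closedChamber F b hb hm2⟩
    rw [baseCorners_eq] at hmb
    obtain ⟨j, rfl⟩ := hmb
    refine ⟨j, ?_, rfl⟩
    rw [facet_sgn_ne_zero_iff F ξ hξ]
    intro h0
    have := (mem_closedChamber_of_sgnVec_closure b ξ (fundWeight b j) (hb hξ)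
      (fun i => by rw [h1]; exact hm2 i)).2 j j.2 h0
    rw [coroot'_fundWeight_self] at this
    exact one_ne_zero this
  · rintro ⟨j, hj, rfl⟩
    refine ⟨⟨b, j, rfl⟩, fun i => ?_⟩
    rw [← h1]
    refine sgnVec_closure_of b ξ (fundWeight b j) (hb hξ) (fundWeight_mem_closedChamber b j) ?_ i
    intro l hl h0
    rw [coroot'_fundWeight b j l hl, if_neg]
    rintro rfl
    exact (facet_sgn_ne_zero_iff F ξ hξ _).mp hj h0

theorem facet_ofVec_mem_cham (b : P.Base) (ξ : M) (hξ : ξ ∈ closedChamber b) :
    b ∈ (Facet.ofVec P ξ).cham :=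
  (facet_mem_cham_iff (Facet.ofVec P ξ) ξ rfl b).mpr hξ

theorem facet_mem_carrier_iff (F : Facet P) (b : P.Base) (hb : b ∈ F.cham) (η : M) :
    η ∈ F.carrier ↔ ∀ j ∈ b.support,
      (F.sgn j = 0 → P.coroot' j η = 0) ∧ (F.sgn j ≠ 0 → 0 < P.coroot' j η) := by
  constructor
  · intro hη j hj
    have h1 : sgnVec P η = F.sgn := hη
    have h2 := facet_sgn_nonneg_of_mem_cham F b hb j hj
    rw [← h1, sgnVec_apply] at h2 ⊢
    constructor
    · intro h0
      exact sign_eq_zero_iff.mp h0
    · intro hne
      rcases h2 with h | h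
      · exact absurd h hne
      · exact sign_eq_one_iff.mp h
  · intro h
    obtain ⟨ξ, hξ⟩ := facet_carrier_nonempty F
    have h1 : sgnVec P ξ = F.sgn := hξ
    have hηc : η ∈ closedChamber b := by
      intro j hj
      by_cases h0 : F.sgn j = 0
      · rw [(h j hj).1 h0]
      · exact ((h j hj).2 h0).le
    change sgnVec P η = F.sgn
    rw [← h1]
    symm
    apply sgnVec_eq_of b ξ η (hb hξ) hηc
    intro j hj
    constructor
    · intro h0
      apply (h j hj).1
      by_contra hne
      exact (facet_sgn_ne_zero_iff F ξ hξ j).mp hne h0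
    · intro h0
      by_contra hne
      have := (h j hj).2 ((facet_sgn_ne_zero_iff F ξ hξ j).mpr hne)
      rw [h0] at this
      exact lt_irrefl _ this

theorem linearIndependent_fundWeight (b : P.Base) : LinearIndependent R (fundWeight b) := by
  classical
  rw [linearIndependent_iff']
  intro s g hg k hk
  have := congrArg (P.coroot' k) hg
  rw [map_sum, map_zero] at this
  simp only [map_smul, smul_eq_mul] at this
  rw [Finset.sum_eq_single k] at this
  · rwa [coroot'_fundWeight_self, mul_one] at this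
  · intro l _ hl
    rw [coroot'_fundWeight_of_ne b l k (Ne.symm hl), mul_zero]
  · intro h
    exact absurd hk h

section Ex

variable [Finite ι] [P.IsCrystallographic] [P.IsReduced]

theorem facet_exists_mem_cham (F : Facet P) : ∃ b : P.Base, b ∈ F.cham := by
  obtain ⟨ξ, hξ⟩ := facet_carrier_nonempty F
  obtain ⟨b, hb⟩ := exists_base_mem_closedChamber P ξ
  exact ⟨b, (facet_mem_cham_iff F ξ hξ b).mpr hb⟩

/-- S14228. -/
theorem linearIndepOn_corners (F : Facet P) : LinearIndepOn R (fun m : M => m) F.corners := by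
  obtain ⟨b, hb⟩ := facet_exists_mem_cham F
  have h1 : LinearIndepOn R id (Set.range (fundWeight b)) :=
    (linearIndependent_fundWeight b).linearIndepOn_id
  refine h1.mono ?_
  rw [facet_corners_eq F b hb]
  rintro m ⟨j, -, rfl⟩
  exact ⟨j, rfl⟩

/-- S14229. -/
theorem span_carrier_eq (F : Facet P) :
    Submodule.span R F.carrier = Submodule.span R F.corners := by
  classical
  obtain ⟨b, hb⟩ := facet_exists_mem_cham F
  apply le_antisymm
  · rw [Submodule.span_le]
    intro ξ hξ
    rw [expand b ξ]
    refine Submodule.sum_mem _ (fun j _ => ?_)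
    by_cases h0 : P.coroot' j ξ = 0
    · rw [h0, zero_smul]
      exact Submodule.zero_mem _
    · refine Submodule.smul_mem _ _ (Submodule.subset_span ?_)
      rw [facet_corners_eq F b hb]
      exact ⟨j, (facet_sgn_ne_zero_iff F ξ hξ j).mpr h0, rfl⟩
  · rw [Submodule.span_le]
    intro m hm
    rw [facet_corners_eq F b hb] at hm
    obtain ⟨j, hj, rfl⟩ := hm
    obtain ⟨ξ, hξ⟩ := facet_carrier_nonempty F
    have hξ' := (facet_mem_carrier_iff F b hb ξ).mp hξ
    have h2 : ξ + fundWeight b j ∈ F.carrier := by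
      rw [facet_mem_carrier_iff F b hb]
      intro l hl
      rw [map_add, coroot'_fundWeight b j l hl]
      constructor
      · intro h0
        rw [(hξ' l hl).1 h0, if_neg, add_zero]
        rintro rfl
        exact hj h0
      · intro hne
        have := (hξ' l hl).2 hne
        split_ifs <;> linarith
    have : fundWeight b j = (ξ + fundWeight b j) - ξ := by abel
    rw [this]
    exact Submodule.sub_mem _ (Submodule.subset_span h2) (Submodule.subset_span hξ)

/-- S14232. -/
theorem exists_corners_eq_insert (F : Facet P) (m : M) (hm : m ∈ F.corners') :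
    ∃ G : Facet P, G.corners = insert m F.corners := by
  classical
  obtain ⟨b, hb, hmb⟩ := Set.mem_iUnion₂.mp hm
  rw [baseCorners_eq] at hmb
  obtain ⟨j, rfl⟩ := hmb
  obtain ⟨ξ, hξ⟩ := facet_carrier_nonempty F
  have hξ' := (facet_mem_carrier_iff F b hb ξ).mp hξ
  have hξc : ξ ∈ closedChamber b := hb hξ
  have hη : ξ + fundWeight b j ∈ closedChamber b := by
    intro l hl
    rw [map_add]
    exact add_nonneg (hξc l hl) (fundWeight_mem_closedChamber b j l hl)
  refine ⟨Facet.ofVec P (ξ + fundWeight b j), ?_⟩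
  rw [facet_corners_eq _ b (facet_ofVec_mem_cham b _ hη), facet_corners_eq F b hb]
  ext m'
  simp only [Set.mem_setOf_eq, Set.mem_insert_iff]
  have hsgn : ∀ l : b.support, (Facet.ofVec P (ξ + fundWeight b j)).sgn l ≠ 0 ↔
      (l = j ∨ F.sgn l ≠ 0) := by
    intro l
    rw [facet_sgn_ne_zero_iff (Facet.ofVec P (ξ + fundWeight b j)) (ξ + fundWeight b j) rfl, map_add,
      coroot'_fundWeight b j l l.2]
    constructor
    · intro h
      by_cases hlj : l = j
      · exact Or.inl hlj
      · right
        rw [if_neg (fun h' => hlj (Subtype.ext h')), add_zero] at h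
        exact (facet_sgn_ne_zero_iff F ξ hξ l).mpr h
    · rintro (rfl | h)
      · rw [if_pos rfl]
        have := hξc l l.2
        intro h0
        linarith
      · have := (hξ' l l.2).2 h
        split_ifs <;> intro h0 <;> linarith
  constructor
  · rintro ⟨l, hl, rfl⟩
    rcases (hsgn l).mp hl with rfl | h
    · exact Or.inl rfl
    · exact Or.inr ⟨l, h, rfl⟩
  · rintro (rfl | ⟨l, hl, rfl⟩)
    · exact ⟨j, (hsgn j).mpr (Or.inl rfl), rfl⟩
    · exact ⟨l, (hsgn l).mpr (Or.inr hl), rfl⟩

/-- S14233. -/
theorem exists_corners_eq_diff (F : Facet P) (m : M) (hm : m ∈ F.corners) :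
    ∃ G : Facet P, G.corners = F.corners \ {m} := by
  classical
  obtain ⟨b, hb⟩ := facet_exists_mem_cham F
  rw [facet_corners_eq F b hb] at hm
  obtain ⟨j, hj, rfl⟩ := hm
  obtain ⟨ξ, hξ⟩ := facet_carrier_nonempty F
  have hξ' := (facet_mem_carrier_iff F b hb ξ).mp hξ
  have hξc : ξ ∈ closedChamber b := hb hξ
  set η := ξ - P.coroot' j ξ • fundWeight b j with hηdef
  have hcη : ∀ l ∈ b.support, P.coroot' l η = if l = (j : ι) then 0 else P.coroot' l ξ := by
    intro l hl
    rw [hηdef, map_sub, map_smul, smul_eq_mul, coroot'_fundWeight b j l hl]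
    split_ifs with h
    · subst h
      ring
    · ring
  have hη : η ∈ closedChamber b := by
    intro l hl
    rw [hcη l hl]
    split_ifs
    · exact le_refl _
    · exact hξc l hl
  refine ⟨Facet.ofVec P η, ?_⟩
  rw [facet_corners_eq _ b (facet_ofVec_mem_cham b _ hη), facet_corners_eq F b hb]
  ext m'
  simp only [Set.mem_setOf_eq, Set.mem_diff, Set.mem_singleton_iff]
  have hsgn : ∀ l : b.support, (Facet.ofVec P η).sgn l ≠ 0 ↔ (l ≠ j ∧ F.sgn l ≠ 0) := by
    intro l
    rw [facet_sgn_ne_zero_iff (Facet.ofVec P η) η rfl, hcη l l.2, facet_sgn_ne_zero_iff F ξ hξ l]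
    constructor
    · intro h
      split_ifs at h with hlj
      · exact absurd rfl h
      · exact ⟨fun h' => hlj (congrArg Subtype.val h'), h⟩
    · rintro ⟨h1, h2⟩
      rw [if_neg (fun h' => h1 (Subtype.ext h'))]
      exact h2
  constructor
  · rintro ⟨l, hl, rfl⟩
    obtain ⟨h1, h2⟩ := (hsgn l).mp hl
    exact ⟨⟨l, h2, rfl⟩, fun h' => h1 (fundWeight_injective b h')⟩
  · rintro ⟨⟨l, hl, rfl⟩, hne⟩
    exact ⟨l, (hsgn l).mpr ⟨fun h' => hne (by rw [h']), hl⟩, rfl⟩

theorem fundWeight_mem_corners_iff (F : Facet P) (b : P.Base) (hb : b ∈ F.cham) (l : b.support) :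
    fundWeight b l ∈ F.corners ↔ F.sgn l ≠ 0 := by
  rw [facet_corners_eq F b hb]
  constructor
  · rintro ⟨j, hj, h⟩
    rw [fundWeight_injective b h] at hj
    exact hj
  · intro h
    exact ⟨l, h, rfl⟩

/-- S14230. -/
theorem carrier_eq_pos_comb (F : Facet P) :
    F.carrier = {ξ : M | ∃ c : M →₀ R, (c.support : Set M) ⊆ F.corners ∧
      (∀ m ∈ F.corners, 0 < c m) ∧ c.sum (fun m r => r • m) = ξ} := by
  classical
  obtain ⟨b, hb⟩ := facet_exists_mem_cham F
  ext ξ
  constructor
  · intro hξ
    have hξ' := (facet_mem_carrier_iff F b hb ξ).mp hξ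
    let d : b.support →₀ R := Finsupp.equivFunOnFinite.symm (fun j => P.coroot' j ξ)
    have hd : ∀ j, d j = P.coroot' j ξ := fun j => rfl
    have hc : ∀ j, (d.mapDomain (fundWeight b)) (fundWeight b j) = P.coroot' j ξ := by
      intro j
      rw [Finsupp.mapDomain_apply (fundWeight_injective b), hd]
    refine ⟨d.mapDomain (fundWeight b), ?_, ?_, ?_⟩
    · intro m hm
      have := Finsupp.mapDomain_support hm
      obtain ⟨j, hj, rfl⟩ := Finset.mem_image.mp this
      rw [fundWeight_mem_corners_iff F b hb, facet_sgn_ne_zero_iff F ξ hξ]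
      rw [Finsupp.mem_support_iff, hd] at hj
      exact hj
    · intro m hm
      rw [facet_corners_eq F b hb] at hm
      obtain ⟨j, hj, rfl⟩ := hm
      rw [hc]
      exact (hξ' j j.2).2 hj
    · rw [Finsupp.sum_mapDomain_index (by intro; simp) (by intro _ _ _; simp [add_smul])]
      rw [Finsupp.sum_fintype _ _ (by intro; simp)]
      exact (expand b ξ).symm
  · rintro ⟨c, hsupp, hpos, rfl⟩
    have hcor : ∀ l : b.support, P.coroot' l (c.sum (fun m r => r • m)) = c (fundWeight b l) := by
      intro l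
      rw [map_finsuppSum]
      simp only [map_smul, smul_eq_mul]
      rw [Finsupp.sum, Finset.sum_eq_single (fundWeight b l)]
      · rw [coroot'_fundWeight_self, mul_one]
      · intro m hm hne
        have hm' := hsupp hm
        rw [facet_corners_eq F b hb] at hm'
        obtain ⟨j, -, rfl⟩ := hm'
        rw [coroot'_fundWeight_of_ne b j l (fun h => hne (by rw [h])), mul_zero]
      · intro h
        rw [Finsupp.notMem_support_iff.mp h, zero_mul]
    rw [facet_mem_carrier_iff F b hb]
    intro l hl
    have := hcor ⟨l, hl⟩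
    simp only at this
    rw [this]
    constructor
    · intro h0
      by_contra hne
      have hmem : fundWeight b ⟨l, hl⟩ ∈ F.corners :=
        hsupp (Finsupp.mem_support_iff.mpr hne)
      exact (fundWeight_mem_corners_iff F b hb ⟨l, hl⟩).mp hmem h0
    · intro hne
      exact hpos _ ((fundWeight_mem_corners_iff F b hb ⟨l, hl⟩).mpr hne)

end Ex

end Facets

end Groth.Agent.Lib.T2H1.RootCh
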