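import Groth.Agent.Lib.T2H1RootCh9

set_option autoImplicit false
universe u v w x
open RootCh Module

namespace Groth.Agent.Lib.T2H1.RootCh

variable {ι : Type u} {R : Type v} {M : Type w} {N : Type x}
    [Field R] [LinearOrder R] [IsStrictOrderedRing R]
    [AddCommGroup M] [Module R M] [AddCommGroup N] [Module R N]
    {P : RootPairing ι R M N} [P.IsRootSystem]

variable [Finite ι] [P.IsCrystallographic] [P.IsReduced]

/-- Existence of a special facet. -/
theorem exists_isSpecial (d : P.Base → N) (hd : IsCCS d) : ∃ F : Facet P, IsSpecial d F := by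
  classical
  haveI : Fintype ι := Fintype.ofFinite ι
  haveI : Fintype P.Base := Fintype.ofFinite _
  obtain ⟨b0, -⟩ := exists_base_mem_closedChamber P (0 : M)
  haveI : Nonempty P.Base := ⟨b0⟩
  set B : LinearMap.BilinForm R N := P.CorootForm with hB
  have hBs : ∀ y z : N, B y z = B z y := by
    intro y z
    have := P.flip.rootForm_symmetric.eq z y
    rw [RingHom.id_apply] at this
    exact this.symm
  have hBp : ∀ y : N, y ≠ 0 → 0 < B y y := by
    intro y hy
    have h0 : 0 ≤ B y y := by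
      rw [hB, P.corootForm_apply_apply]
      exact Finset.sum_nonneg (fun i _ => mul_self_nonneg _)
    rcases h0.eq_or_lt with h | h
    · exfalso
      exact hy (rootForm_self_eq_zero (P := P.flip) b0.flip y h.symm)
    · exact h
  have hBi : ∀ (i : ι) (y z : N), B (P.coreflection i y) (P.coreflection i z) = B y z :=
    fun i y z => P.flip.rootForm_reflection_reflection_apply i y z
  obtain ⟨y₀, hy₀, hmin⟩ := Closest.exists_closest B hBs hBp d
  obtain ⟨ξ₀, -, hsgn⟩ := exists_xi B hBp hBi y₀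
  refine ⟨Facet.ofVec P ξ₀, (closest_special d hd B hBs hBp hBi y₀ hy₀ hmin _ ?_).1⟩
  change cosgnVec P y₀ = sgnVec P ξ₀
  exact hsgn.symm

/-- S14246. -/
theorem existsUnique_isSpecial (d : P.Base → N) (hd : IsCCS d) :
    ∃! F : Facet P, IsSpecial d F := by
  obtain ⟨F, hF⟩ := exists_isSpecial d hd
  refine ⟨F, hF, fun F' hF' => ?_⟩
  obtain ⟨b, hb⟩ := facet_exists_mem_cham F
  obtain ⟨b', hb'⟩ := facet_exists_mem_cham F'
  have h1 := special_isGreatest d hd F b hb hF
  have h2 := special_isGreatest d hd F' b' hb' hF'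
  have heq : F'.deg d b' = F.deg d b := le_antisymm (h1.1 F' b' hb') (h2.1 F b hb)
  exact le_antisymm (h1.2 F' b' hb' heq) (h2.2 F b hb heq.symm)

/-- S14247. -/
theorem isSpecial_of_maximal (d : P.Base → N) (hd : IsCCS d)
    (F : Facet P) (b : P.Base) (hb : b ∈ F.cham)
    (hmax : ∀ (G : Facet P) (c : P.Base), c ∈ G.cham → G.deg d c ≤ F.deg d b)
    (hmaxl : ∀ (G : Facet P) (c : P.Base), c ∈ G.cham → G.deg d c = F.deg d b → F ≤ G → G = F) :
    IsSpecial d F := by
  obtain ⟨F₀, hF₀⟩ := exists_isSpecial d hd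
  obtain ⟨b₀, hb₀⟩ := facet_exists_mem_cham F₀
  have h1 := special_isGreatest d hd F₀ b₀ hb₀ hF₀
  have heq : F₀.deg d b₀ = F.deg d b := le_antisymm (hmax F₀ b₀ hb₀) (h1.1 F b hb)
  have hle : F ≤ F₀ := h1.2 F b hb heq.symm
  have := hmaxl F₀ b₀ hb₀ heq hle
  rw [← this]
  exact hF₀

end Groth.Agent.Lib.T2H1.RootCh
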