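import Groth.Agent.Lib.T2H1RootCh10

set_option autoImplicit false
universe u v w x
open RootCh Module

namespace Groth.Agent.Lib.T2H1.RootCh

variable {ι : Type u} {R : Type v} {M : Type w} {N : Type x}
    [Field R] [LinearOrder R] [IsStrictOrderedRing R]
    [AddCommGroup M] [Module R M] [AddCommGroup N] [Module R N]
    {P : RootPairing ι R M N} [P.IsRootSystem]

/-- A vector of the dual facet. -/
theorem exists_dual_vec [Finite ι] (F : Facet P) : ∃ x : N, cosgnVec P x = F.sgn := by
  classical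
  haveI : Fintype ι := Fintype.ofFinite ι
  obtain ⟨ξ, hξ⟩ := facet_carrier_nonempty F
  have h1 : sgnVec P ξ = F.sgn := hξ
  refine ⟨P.Polarization ξ, ?_⟩
  rw [← h1]
  funext i
  change SignType.sign (P.toLinearMap (P.root i) (P.Polarization ξ))
    = SignType.sign (P.coroot' i ξ)
  rw [P.toLinearMap_apply_apply_Polarization, ← P.rootForm_symmetric.eq, RingHom.id_apply]
  have h2 := two_mul_rootForm P ξ i
  have hpos := rootForm_root_pos P i
  have h3 : P.RootForm (P.root i) ξ
      = P.coroot' i ξ * (P.RootForm (P.root i) (P.root i) / 2) := by linarith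
  rw [h3, sign_mul, sign_pos (half_pos hpos), mul_one]

/-- Dual version of `facet_mem_carrier_iff`. -/
theorem mem_dualCarrier_of [Finite ι] (F : Facet P) (b : P.Base) (hb : b ∈ F.cham) (y : N)
    (h : ∀ j ∈ b.support,
      (F.sgn j = 0 → P.root' j y = 0) ∧ (F.sgn j ≠ 0 → 0 < P.root' j y)) :
    y ∈ F.dualCarrier := by
  obtain ⟨x, hx⟩ := exists_dual_vec F
  have hxj : ∀ j ∈ b.support,
      (F.sgn j = 0 → P.root' j x = 0) ∧ (F.sgn j ≠ 0 → 0 < P.root' j x) := by
    intro j hj
    have h1 : SignType.sign (P.root' j x) = F.sgn j := congrFun hx j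
    constructor
    · intro h0
      rw [h0] at h1
      exact sign_eq_zero_iff.mp h1
    · intro hne
      rcases facet_sgn_nonneg_of_mem_cham F b hb j hj with h0 | h0
      · exact absurd h0 hne
      · rw [h0] at h1
        exact sign_eq_one_iff.mp h1
  change cosgnVec P y = F.sgn
  rw [← hx]
  have hxc : x ∈ closedChamber (P := P.flip) b.flip := by
    intro j hj
    by_cases h0 : F.sgn j = 0
    · exact ((hxj j hj).1 h0).ge
    · exact ((hxj j hj).2 h0).le
  have hyc : y ∈ closedChamber (P := P.flip) b.flip := by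
    intro j hj
    by_cases h0 : F.sgn j = 0
    · exact ((h j hj).1 h0).ge
    · exact ((h j hj).2 h0).le
  refine (sgnVec_eq_of (P := P.flip) b.flip x y hxc hyc ?_).symm
  intro j hj
  constructor
  · intro h0
    apply (h j hj).1
    by_contra hne
    exact ((hxj j hj).2 hne).ne' h0
  · intro h0
    apply (hxj j hj).1
    by_contra hne
    exact ((h j hj).2 hne).ne' h0

section Main

variable [Finite ι] [P.IsCrystallographic] [P.IsReduced]

theorem self_mem_Psi (F : Facet P) (b : P.Base) (hb : b ∈ F.cham) (j0 : b.support) :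
    (j0 : ι) ∈ F.Psi (fundWeight b j0) := by
  classical
  rw [mem_Psi_iff F b hb j0]
  refine ⟨root'_fundCoweight_self b j0, fun j _ hne => ?_⟩
  exact root'_fundCoweight_of_ne b j j0 (Ne.symm hne)

/-- The numerical invariant in terms of a point of the dual solid lying in the span of the dual
facet. -/
theorem numInv_eq (d : P.Base → N) (hd : IsCCS d) (F : Facet P) (b : P.Base) (hb : b ∈ F.cham)
    (j0 : b.support) (hj0 : F.sgn j0 ≠ 0) (y : N) (hy : y ∈ dualSolid d F)
    (hyl : ∀ l : b.support, F.sgn l = 0 → P.root' l y = 0) :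
    ∃ n : ℕ, 0 < n ∧ F.numInv d (fundWeight b j0) b = n * P.root' j0 y := by
  classical
  have hcor : fundWeight b j0 ∈ F.corners := (fundWeight_mem_corners_iff F b hb j0).mpr hj0
  set Q := (Set.toFinite (F.Psi (fundWeight b j0))).toFinset with hQ
  refine ⟨Q.card, ?_, ?_⟩
  · apply Finset.card_pos.mpr
    exact ⟨j0, by rw [hQ, Set.Finite.mem_toFinset]; exact self_mem_Psi F b hb j0⟩
  · unfold Facet.numInv
    rw [sum_root'_eq, ← pairing_eq_of_mem_dualSolid d hd F b hb y hy _
      (sum_root_psi_mem_span_corners F _ hcor), ← sum_root'_eq, ← hQ]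
    have hterm : ∀ i ∈ Q, P.root' i y = P.root' j0 y := by
      intro i hi
      rw [hQ, Set.Finite.mem_toFinset, mem_Psi_iff F b hb j0] at hi
      obtain ⟨h1, h2⟩ := hi
      conv_lhs => rw [expandCo b y]
      rw [map_sum, Finset.sum_eq_single j0]
      · rw [map_smul, smul_eq_mul, h1, mul_one]
      · intro j _ hj
        rw [map_smul, smul_eq_mul]
        by_cases hjs : F.sgn j = 0
        · rw [hyl j hjs, zero_mul]
        · rw [h2 j hjs hj, mul_zero]
      · intro h
        exact absurd (Finset.mem_univ _) h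
    rw [Finset.sum_congr rfl hterm, Finset.sum_const, nsmul_eq_mul]

/-- S14243. -/
theorem s1_s2_iff_isSpecial (d : P.Base → N) (hd : IsCCS d) (F : Facet P) :
    ((∀ m ∈ F.corners, ∀ b ∈ F.cham, 0 < F.numInv d m b) ∧
        (dualSolid d F ∩ (Submodule.span R F.dualCarrier : Set N)).Nonempty) ↔
      IsSpecial d F := by
  constructor
  · rintro ⟨hS1, y, hy1, hy2⟩
    obtain ⟨b, hb⟩ := facet_exists_mem_cham F
    have hyl : ∀ l : b.support, F.sgn l = 0 → P.root' l y = 0 :=
      fun l hl => root'_eq_zero_of_mem_span_dualCarrier F l hl y hy2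
    refine ⟨y, ?_, hy1⟩
    apply mem_dualCarrier_of F b hb
    intro j hj
    refine ⟨fun h0 => hyl ⟨j, hj⟩ h0, fun hne => ?_⟩
    obtain ⟨n, hn, hnum⟩ := numInv_eq d hd F b hb ⟨j, hj⟩ hne y hy1 hyl
    have hpos := hS1 _ ((fundWeight_mem_corners_iff F b hb ⟨j, hj⟩).mpr hne) b hb
    rw [hnum] at hpos
    have hn' : (0 : R) < n := Nat.cast_pos.mpr hn
    exact (pos_iff_pos_of_mul_pos hpos).mp hn'
  · rintro ⟨y₀, hy1, hy2⟩
    refine ⟨?_, ⟨y₀, hy2, Submodule.subset_span hy1⟩⟩
    intro m hm b hb
    have hm' := hm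
    rw [facet_corners_eq F b hb] at hm'
    obtain ⟨j0, hj0, rfl⟩ := hm'
    have hsgn : ∀ i, SignType.sign (P.root' i y₀) = F.sgn i := fun i => congrFun hy1 i
    have hyl : ∀ l : b.support, F.sgn l = 0 → P.root' l y₀ = 0 := by
      intro l hl
      have := hsgn l
      rw [hl] at this
      exact sign_eq_zero_iff.mp this
    obtain ⟨n, hn, hnum⟩ := numInv_eq d hd F b hb j0 hj0 y₀ hy2 hyl
    rw [hnum]
    have hn' : (0 : R) < n := Nat.cast_pos.mpr hn
    apply mul_pos hn'
    have := hsgn j0
    rcases facet_sgn_nonneg_of_mem_cham F b hb j0 j0.2 with h0 | h0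
    · exact absurd h0 hj0
    · rw [h0] at this
      exact sign_eq_one_iff.mp this

end Main

end Groth.Agent.Lib.T2H1.RootCh
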