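import Groth.Agent.Lib.T2H1RootCh11

set_option autoImplicit false
universe u v w x
open RootCh Module

namespace Groth.Agent.Lib.T2H1.RootCh

variable {ι : Type u} {R : Type v} {M : Type w} {N : Type x}
    [Field R] [LinearOrder R] [IsStrictOrderedRing R]
    [AddCommGroup M] [Module R M] [AddCommGroup N] [Module R N]
    {P : RootPairing ι R M N} [P.IsRootSystem] [Finite ι]

/-- The index of the opposite root. -/
noncomputable def ng (P : RootPairing ι R M N) (i : ι) : ι := P.reflectionPerm i i

theorem root_ng (i : ι) : P.root (ng P i) = - P.root i := by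
  rw [ng, P.root_reflectionPerm, P.reflection_apply_self]

theorem ng_ng (i : ι) : ng P (ng P i) = i := by
  apply P.root.injective
  rw [root_ng, root_ng, neg_neg]

theorem root'_ng (i : ι) (x : N) : P.root' (ng P i) x = - P.root' i x := by
  change P.toLinearMap (P.root (ng P i)) x = - P.toLinearMap (P.root i) x
  rw [root_ng, map_neg, LinearMap.neg_apply]

theorem coroot'_ng (i : ι) (ξ : M) : P.coroot' (ng P i) ξ = - P.coroot' i ξ :=
  coroot'_neg P i ξ

theorem sgn_ng (F : Facet P) (i : ι) : F.sgn (ng P i) = - F.sgn i := facet_sgn_neg F i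

theorem root'_add {i j k : ι} (h : P.root k = P.root i + P.root j) (x : N) :
    P.root' k x = P.root' i x + P.root' j x := by
  change P.toLinearMap (P.root k) x = _
  rw [h, map_add, LinearMap.add_apply]

theorem isPos_ng_iff (b : P.Base) (i : ι) : b.IsPos (ng P i) ↔ ¬ b.IsPos i := by
  rw [isPos_iff_root'_rhoCo, isPos_iff_root'_rhoCo, root'_ng, root'_rhoCo_eq_height]
  have h := b.height_ne_zero i
  have h' : (b.height i : R) ≠ 0 := Int.cast_ne_zero.mpr h
  constructor
  · intro h1 h2
    linarith
  · intro h1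
    push_neg at h1
    have : (b.height i : R) < 0 := lt_of_le_of_ne h1 h'
    linarith

theorem root'_fundCoweight_nonneg_of_isPos (b : P.Base) (i : ι) (hi : b.IsPos i)
    (j : b.support) : 0 ≤ P.root' i (fundCoweight b j) := by
  obtain ⟨ε, n, hε, -, hexp⟩ := root_expand b i
  have h1 := (isPos_iff_root'_rhoCo b i).mp hi
  rw [hexp] at h1
  have hS : 0 ≤ ∑ l ∈ b.support, (n l : R) * P.root' l (rhoCo b) :=
    Finset.sum_nonneg (fun l hl => by rw [root'_rhoCo b l hl, mul_one]; exact Nat.cast_nonneg _)
  have hε1 : ε = 1 := by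
    rcases hε with h | h
    · exact h
    · rw [h] at h1
      linarith
  rw [hexp, hε1, one_mul, sum_mul_root'_fundCoweight b j (fun l => (n l : R))]
  exact Nat.cast_nonneg _

section Parab

variable [P.IsCrystallographic] [P.IsReduced]

theorem isPos_reflBase_ng (b : P.Base) (j : ι) (hj : j ∈ b.support) :
    (reflBase b j).IsPos (ng P j) := by
  rw [isPos_reflBase, ng, P.reflectionPerm_self]
  exact RootPairing.Base.isPos_of_mem_support hj

/-- Every parabolic set contains the positive roots of some base. -/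
theorem exists_base_pos_subset (S : Set ι) (hS : IsParabolicSubset P S) :
    ∃ b : P.Base, ∀ i, b.IsPos i → i ∈ S := by
  classical
  obtain ⟨b0, -⟩ := exists_base_mem_closedChamber P (0 : M)
  haveI : Nonempty P.Base := ⟨b0⟩
  obtain ⟨b, hbmax⟩ := Finite.exists_max (fun b : P.Base => {i | b.IsPos i ∧ i ∈ S}.ncard)
  refine ⟨b, ?_⟩
  have hsimple : ∀ j ∈ b.support, j ∈ S := by
    intro j hj
    by_contra hjS
    have hnj : ng P j ∈ S := (hS.2 j).resolve_left hjS
    have hsub : {i | b.IsPos i ∧ i ∈ S} ⊂ {i | (reflBase b j).IsPos i ∧ i ∈ S} := by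
      constructor
      · rintro i ⟨hi1, hi2⟩
        have hij : i ≠ j := fun h => hjS (h ▸ hi2)
        refine ⟨?_, hi2⟩
        rw [isPos_reflBase]
        exact isPos_reflectionPerm_of_ne b j hj i hi1 hij
      · intro hcon
        have h1 : ng P j ∈ {i | (reflBase b j).IsPos i ∧ i ∈ S} :=
          ⟨isPos_reflBase_ng b j hj, hnj⟩
        have h2 := hcon h1
        exact not_isPos_neg b j hj h2.1
    have hlt := Set.ncard_lt_ncard hsub (Set.toFinite _)
    have : {i | (reflBase b j).IsPos i ∧ i ∈ S}.ncard ≤ {i | b.IsPos i ∧ i ∈ S}.ncard :=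
      hbmax (reflBase b j)
    omega
  intro i hi
  refine hi.induction_on_add (p := fun i => i ∈ S) hsimple ?_
  intro i j k hk hi hj
  exact hS.1 i j k hi (hsimple j hj) hk

theorem root_ng_add {i j k : ι} (hk : P.root k = P.root i + P.root j) :
    P.root (ng P k) = P.root (ng P i) + P.root (ng P j) := by
  rw [root_ng, root_ng, root_ng, hk, neg_add]

theorem root_ng_eq_add_left {i j k : ι} (hk : P.root k = P.root i + P.root j) :
    P.root (ng P i) = P.root (ng P k) + P.root j := by
  rw [root_ng, root_ng, hk]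
  abel

theorem root_ng_eq_add_right {i j k : ι} (hk : P.root k = P.root i + P.root j) :
    P.root (ng P j) = P.root (ng P k) + P.root i := by
  rw [root_ng, root_ng, hk]
  abel

/-- Every parabolic set is the parabolic set of a facet. -/
theorem exists_facet_parab_eq (S : Set ι) (hS : IsParabolicSubset P S) :
    ∃ F : Facet P, F.parab = S := by
  classical
  obtain ⟨b, hb⟩ := exists_base_pos_subset S hS
  obtain ⟨Bf, hBf, hform⟩ := exists_form P
  have hsimpleS : ∀ j ∈ b.support, j ∈ S :=
    fun j hj => hb j (RootPairing.Base.isPos_of_mem_support hj)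
  -- Claim A
  have claimA : ∀ i, b.IsPos i →
      (∀ j : b.support, ng P j ∉ S → P.root' i (fundCoweight b j) = 0) → ng P i ∈ S := by
    intro i hi
    refine (hi.induction_on_add (p := fun i => b.IsPos i ∧
      ((∀ j : b.support, ng P j ∉ S → P.root' i (fundCoweight b j) = 0) → ng P i ∈ S)) ?_ ?_).2
    · intro i hi
      refine ⟨RootPairing.Base.isPos_of_mem_support hi, fun h => ?_⟩
      by_contra hn
      have := h ⟨i, hi⟩ hn
      rw [root'_fundCoweight_self b ⟨i, hi⟩] at this
      exact one_ne_zero this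
    · rintro i j k hk ⟨hipos, hiA⟩ hj
      have hjpos : b.IsPos j := RootPairing.Base.isPos_of_mem_support hj
      refine ⟨hipos.add hjpos hk, fun hkz => ?_⟩
      have hsplit : ∀ j' : b.support, ng P j' ∉ S →
          P.root' i (fundCoweight b j') = 0 ∧ P.root' j (fundCoweight b j') = 0 := by
        intro j' hj'
        have h0 := hkz j' hj'
        rw [root'_add hk] at h0
        have h1 := root'_fundCoweight_nonneg_of_isPos b i hipos j'
        have h2 := root'_fundCoweight_nonneg_of_isPos b j hjpos j'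
        constructor <;> linarith
      have hi' : ng P i ∈ S := hiA (fun j' hj' => (hsplit j' hj').1)
      have hj' : ng P j ∈ S := by
        by_contra hn
        have := (hsplit ⟨j, hj⟩ hn).2
        rw [root'_fundCoweight_self b ⟨j, hj⟩] at this
        exact one_ne_zero this
      exact hS.1 _ _ _ hi' hj' (root_ng_add hk)
  -- Claim B
  have claimB : ∀ i, b.IsPos i → ng P i ∈ S →
      ∀ j : b.support, ng P j ∉ S → P.root' i (fundCoweight b j) = 0 := by
    intro i hi
    refine (hi.induction_on_add (p := fun i => b.IsPos i ∧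
      (ng P i ∈ S → ∀ j : b.support, ng P j ∉ S → P.root' i (fundCoweight b j) = 0)) ?_ ?_).2
    · intro i hi
      refine ⟨RootPairing.Base.isPos_of_mem_support hi, fun h j hj => ?_⟩
      have hne : (⟨i, hi⟩ : b.support) ≠ j := by
        rintro rfl
        exact hj h
      exact root'_fundCoweight_of_ne b j ⟨i, hi⟩ hne
    · rintro i j k hk ⟨hipos, hiB⟩ hj
      have hjpos : b.IsPos j := RootPairing.Base.isPos_of_mem_support hj
      refine ⟨hipos.add hjpos hk, fun hkS j' hj' => ?_⟩
      have hi' : ng P i ∈ S := hS.1 _ _ _ hkS (hsimpleS j hj) (root_ng_eq_add_left hk)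
      have hjn : ng P j ∈ S := hS.1 _ _ _ hkS (hb i hipos) (root_ng_eq_add_right hk)
      rw [root'_add hk, hiB hi' j' hj', zero_add]
      have hne : (⟨j, hj⟩ : b.support) ≠ j' := by
        rintro rfl
        exact hj' hjn
      exact root'_fundCoweight_of_ne b j' ⟨j, hj⟩ hne
  -- the vector
  set ξ : M := ∑ j : b.support, (if ng P j ∈ S then 0 else fundWeight b j) with hξ
  have hcor : ∀ i, P.coroot' i ξ = ∑ j : b.support,
      (if ng P j ∈ S then 0 else Bf j / Bf i * P.root' i (fundCoweight b j)) := by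
    intro i
    rw [hξ, map_sum]
    apply Finset.sum_congr rfl
    intro j _
    by_cases h : ng P (j : ι) ∈ S
    · rw [if_pos h, if_pos h, map_zero]
    · rw [if_neg h, if_neg h, hform b j i]
      have h1 := (hBf i).ne'
      have h2 := (hBf j).ne'
      field_simp
  have hnn : ∀ i, b.IsPos i → ∀ j : b.support,
      0 ≤ (if ng P j ∈ S then 0 else Bf j / Bf i * P.root' i (fundCoweight b j)) := by
    intro i hi j
    by_cases h : ng P (j : ι) ∈ S
    · rw [if_pos h]
    · rw [if_neg h]
      exact mul_nonneg (div_pos (hBf j) (hBf i)).le (root'_fundCoweight_nonneg_of_isPos b i hi j)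
  have hzero : ∀ i, b.IsPos i → (P.coroot' i ξ = 0 ↔ ng P i ∈ S) := by
    intro i hi
    rw [hcor, Finset.sum_eq_zero_iff_of_nonneg (fun j _ => hnn i hi j)]
    constructor
    · intro h
      apply claimA i hi
      intro j hj
      have := h j (Finset.mem_univ j)
      rw [if_neg hj] at this
      rcases mul_eq_zero.mp this with h0 | h0
      · exact absurd h0 (div_pos (hBf j) (hBf i)).ne'
      · exact h0
    · intro h j _
      by_cases hj : ng P (j : ι) ∈ S
      · rw [if_pos hj]
      · rw [if_neg hj, claimB i hi h j hj, mul_zero]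
  refine ⟨Facet.ofVec P ξ, ?_⟩
  ext r
  change (Facet.ofVec P ξ).sgn r ≠ -1 ↔ r ∈ S
  rw [sgn_ne_neg_one_iff (Facet.ofVec P ξ) ξ rfl r]
  by_cases hr : b.IsPos r
  · constructor
    · intro _
      exact hb r hr
    · intro _
      rw [hcor]
      exact Finset.sum_nonneg (fun j _ => hnn r hr j)
  · have hi : b.IsPos (ng P r) := (isPos_ng_iff b r).mpr hr
    have hnn' : 0 ≤ P.coroot' (ng P r) ξ := by
      rw [hcor]
      exact Finset.sum_nonneg (fun j _ => hnn _ hi j)
    have hrel : P.coroot' (ng P r) ξ = - P.coroot' r ξ := coroot'_ng r ξ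
    have hz := hzero (ng P r) hi
    rw [ng_ng] at hz
    constructor
    · intro h
      apply hz.mp
      linarith
    · intro h
      have := hz.mpr h
      linarith

theorem isParabolicSubset_parab (F : Facet P) : IsParabolicSubset P F.parab := by
  classical
  haveI : Fintype ι := Fintype.ofFinite ι
  obtain ⟨ξ, hξ⟩ := facet_carrier_nonempty F
  constructor
  · intro i j k hi hj hk
    change F.sgn k ≠ -1
    change F.sgn i ≠ -1 at hi
    change F.sgn j ≠ -1 at hj
    rw [sgn_ne_neg_one_iff F ξ hξ] at hi hj ⊢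
    have h1 := two_mul_rootForm P ξ i
    have h2 := two_mul_rootForm P ξ j
    have h3 := two_mul_rootForm P ξ k
    have h3' : P.RootForm (P.root k) ξ = P.RootForm (P.root i) ξ + P.RootForm (P.root j) ξ := by
      rw [hk, map_add, LinearMap.add_apply]
    have hBi := rootForm_root_pos P i
    have hBj := rootForm_root_pos P j
    have hBk := rootForm_root_pos P k
    have h4 : P.RootForm (P.root k) (P.root k) * P.coroot' k ξ
        = P.RootForm (P.root i) (P.root i) * P.coroot' i ξ
          + P.RootForm (P.root j) (P.root j) * P.coroot' j ξ := by linarith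
    have h5 : 0 ≤ P.RootForm (P.root k) (P.root k) * P.coroot' k ξ := by
      rw [h4]
      exact add_nonneg (mul_nonneg hBi.le hi) (mul_nonneg hBj.le hj)
    exact nonneg_of_mul_nonneg_right h5 hBk
  · intro i
    change F.sgn i ≠ -1 ∨ F.sgn (P.reflectionPerm i i) ≠ -1
    rw [facet_sgn_neg]
    rcases F.sgn i with _ | _ | _ <;> decide

theorem signType_eq_of (a b : SignType) (h1 : a = -1 ↔ b = -1) (h2 : a = 1 ↔ b = 1) : a = b := by
  revert h1 h2
  cases a <;> cases b <;> decide

theorem signType_le_of (a b : SignType) (h1 : a ≠ -1 → b ≠ -1) (h2 : a ≠ 1 → b ≠ 1) :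
    b = 0 ∨ b = a := by
  revert h1 h2
  cases a <;> cases b <;> decide

theorem sgn_eq_one_iff_ng (F : Facet P) (i : ι) : F.sgn i = 1 ↔ F.sgn (ng P i) = -1 := by
  rw [sgn_ng]
  cases F.sgn i <;> decide

theorem facet_eq_of_parab_eq (F G : Facet P) (h : F.parab = G.parab) : F = G := by
  apply Facet.ext
  funext i
  have hm : ∀ k, F.sgn k = -1 ↔ G.sgn k = -1 := by
    intro k
    have : k ∈ F.parab ↔ k ∈ G.parab := by rw [h]
    change F.sgn k ≠ -1 ↔ G.sgn k ≠ -1 at this
    exact not_iff_not.mp this
  apply signType_eq_of _ _ (hm i)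
  rw [sgn_eq_one_iff_ng, sgn_eq_one_iff_ng]
  exact hm _

theorem le_iff_parab_subset (F G : Facet P) : F ≤ G ↔ F.parab ⊆ G.parab := by
  rw [Facet.le_def]
  constructor
  · intro h i hi
    change F.sgn i ≠ -1 at hi
    change G.sgn i ≠ -1
    rcases h i with h0 | h0
    · rw [h0]; decide
    · rw [h0]; exact hi
  · intro h i
    have hm : ∀ k, F.sgn k ≠ -1 → G.sgn k ≠ -1 := fun k hk => h hk
    apply signType_le_of _ _ (hm i)
    intro h1 h2
    have h3 := hm (ng P i) (by
      intro h4
      exact h1 ((sgn_eq_one_iff_ng F i).mpr h4))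
    exact h3 ((sgn_eq_one_iff_ng G i).mp h2)

/-- S14236. -/
theorem isParabolicSubset_iff (P : RootPairing ι R M N) [P.IsRootSystem]
    [P.IsCrystallographic] [P.IsReduced] :
    (∀ S : Set ι, IsParabolicSubset P S ↔ ∃! F : Facet P, F.parab = S) ∧
      ∀ F G : Facet P, F ≤ G ↔ F.parab ⊆ G.parab := by
  refine ⟨fun S => ⟨fun hS => ?_, ?_⟩, le_iff_parab_subset⟩
  · obtain ⟨F, hF⟩ := exists_facet_parab_eq S hS
    exact ⟨F, hF, fun G hG => facet_eq_of_parab_eq G F (hG.trans hF.symm)⟩
  · rintro ⟨F, rfl, -⟩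
    exact isParabolicSubset_parab F

theorem facet_eq_of_corners_eq (F G : Facet P) (h : F.corners = G.corners) : F = G := by
  have h1 := carrier_eq_pos_comb F
  have h2 := carrier_eq_pos_comb G
  rw [h] at h1
  have h3 : F.carrier = G.carrier := h1.trans h2.symm
  obtain ⟨ξ, hξ⟩ := facet_carrier_nonempty F
  rw [facet_eq_ofVec F ξ hξ, facet_eq_ofVec G ξ (h3 ▸ hξ)]

/-- S14235. -/
theorem existsUnique_facet_corners (S : Set ι) (hS : IsParabolicSubset P S) :
    ∃ F : Facet P,
      (F.corners = {m : M | m ∈ fundWeights P ∧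
          ∀ y : N, Corr P m y → ∀ i ∈ S, 0 ≤ P.root' i y} ∧ F.parab = S) ∧
      ∀ G : Facet P,
        G.corners = {m : M | m ∈ fundWeights P ∧
          ∀ y : N, Corr P m y → ∀ i ∈ S, 0 ≤ P.root' i y} → G = F := by
  obtain ⟨F, hF⟩ := exists_facet_parab_eq S hS
  have hc : F.corners = {m : M | m ∈ fundWeights P ∧
      ∀ y : N, Corr P m y → ∀ i ∈ S, 0 ≤ P.root' i y} := by
    rw [corners_eq_nonneg_on_parab F, hF]
  exact ⟨F, ⟨hc, hF⟩, fun G hG => facet_eq_of_corners_eq G F (hG.trans hc.symm)⟩

end Parab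

end Groth.Agent.Lib.T2H1.RootCh
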