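import Groth.Agent.Lib.T2H1RootCh

set_option autoImplicit false
universe u v w x
open RootCh Module

namespace Groth.Agent.Lib.T2H1.RootCh

variable {ι : Type u} {R : Type v} {M : Type w} {N : Type x}
    [Field R] [LinearOrder R] [IsStrictOrderedRing R]
    [AddCommGroup M] [Module R M] [AddCommGroup N] [Module R N]
    {P : RootPairing ι R M N}

theorem coroot'_reflectionPerm_apply (P : RootPairing ι R M N) (i j : ι) (ξ : M) :
    P.coroot' (P.reflectionPerm j i) ξ = P.coroot' i ξ - P.coroot' j ξ * P.pairing j i := by
  rw [← P.coroot'_reflection, P.reflection_apply, map_sub, map_smul, smul_eq_mul,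
    P.root_coroot'_eq_pairing]

theorem pairing_symm_neg [Finite ι] (P : RootPairing ι R M N) (i j : ι) (h : P.pairing i j < 0) :
    P.pairing j i < 0 := by
  have hp : ∀ i j, P.pairingIn R i j = P.pairing i j :=
    fun i j => by simpa using P.algebraMap_pairingIn R i j
  have := (P.pairingIn_lt_zero_iff R (i := i) (j := j)).mp (by rw [hp]; exact h)
  rwa [hp] at this

theorem mem_parab_toFinset (F : Facet P) [Finite ι] (i : ι) :
    i ∈ (Set.toFinite F.parab).toFinset ↔ F.sgn i ≠ -1 := by
  rw [Set.Finite.mem_toFinset]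
  rfl

theorem sgn_ne_neg_one_iff (F : Facet P) (ξ : M) (hξ : ξ ∈ F.carrier) (i : ι) :
    F.sgn i ≠ -1 ↔ 0 ≤ P.coroot' i ξ := by
  have h1 : sgnVec P ξ = F.sgn := hξ
  rw [← h1, sgnVec_apply, Ne, sign_eq_neg_one_iff, not_lt]

variable [P.IsRootSystem]

theorem sum_pairing_parab [Finite ι] (F : Facet P) (j : ι) :
    (F.sgn j = 0 → ∑ i ∈ (Set.toFinite F.parab).toFinset, P.pairing i j = 0) ∧
    (F.sgn j = 1 → 2 ≤ ∑ i ∈ (Set.toFinite F.parab).toFinset, P.pairing i j) := by
  classical
  obtain ⟨ξ, hξ⟩ := facet_carrier_nonempty F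
  have h1 : sgnVec P ξ = F.sgn := hξ
  set T := (Set.toFinite F.parab).toFinset with hT
  have hmemT : ∀ i, i ∈ T ↔ 0 ≤ P.coroot' i ξ := fun i => by
    rw [hT, mem_parab_toFinset, sgn_ne_neg_one_iff F ξ hξ]
  set g := P.reflectionPerm j with hg
  have hgg : ∀ i, g (g i) = i := fun i => P.reflectionPerm_self j i
  have hpg : ∀ i, P.pairing (g i) j = - P.pairing i j := by
    intro i
    rw [← P.root_coroot'_eq_pairing, hg, P.root_reflectionPerm, P.reflection_apply, map_sub,
      map_smul, smul_eq_mul, P.root_coroot'_eq_pairing, P.root_coroot'_eq_pairing, P.pairing_same]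
    ring
  have hS : ∑ i ∈ T.filter (fun i => g i ∈ T), P.pairing i j = 0 := by
    have h := Finset.sum_equiv (s := T.filter (fun i => g i ∈ T))
      (t := T.filter (fun i => g i ∈ T)) (f := fun i => P.pairing i j)
      (g := fun i => - P.pairing i j) g
      (fun i => by
        simp only [Finset.mem_filter, hgg]
        tauto)
      (fun i _ => by simp only [hpg, neg_neg])
    rw [Finset.sum_neg_distrib] at h
    linarith
  have hsplit := Finset.sum_filter_add_sum_filter_not T (fun i => g i ∈ T)
    (fun i => P.pairing i j)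
  rw [hS, zero_add] at hsplit
  rw [← hsplit]
  constructor
  · intro h0
    have hj0 : P.coroot' j ξ = 0 := by
      rw [← h1, sgnVec_apply, sign_eq_zero_iff] at h0
      exact h0
    apply Finset.sum_eq_zero
    intro i hi
    exfalso
    obtain ⟨hiT, hgi⟩ := Finset.mem_filter.mp hi
    apply hgi
    rw [hmemT, hg, coroot'_reflectionPerm_apply, hj0, zero_mul, sub_zero]
    exact (hmemT i).mp hiT
  · intro hj1
    have hjpos : 0 < P.coroot' j ξ := by
      rw [← h1, sgnVec_apply, sign_eq_one_iff] at hj1
      exact hj1
    have hnonneg : ∀ i ∈ T.filter (fun i => ¬ g i ∈ T), 0 ≤ P.pairing i j := by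
      intro i hi
      obtain ⟨hiT, hgi⟩ := Finset.mem_filter.mp hi
      by_contra hneg
      push_neg at hneg
      apply hgi
      rw [hmemT, hg, coroot'_reflectionPerm_apply]
      have h2 := pairing_symm_neg P i j hneg
      have h3 := (hmemT i).mp hiT
      nlinarith
    have hjmem : j ∈ T.filter (fun i => ¬ g i ∈ T) := by
      rw [Finset.mem_filter]
      refine ⟨(hmemT j).mpr hjpos.le, ?_⟩
      rw [hmemT, hg, coroot'_reflectionPerm_apply, P.pairing_same]
      intro h
      linarith
    have := Finset.single_le_sum hnonneg hjmem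
    rwa [P.pairing_same] at this

/-- S14237. -/
theorem sum_root_parab_mem_carrier [Finite ι] (F : Facet P) :
    (∑ i ∈ (Set.toFinite F.parab).toFinset, P.root i) ∈ F.carrier := by
  obtain ⟨ξ, hξ⟩ := facet_carrier_nonempty F
  have h1 : sgnVec P ξ = F.sgn := hξ
  change sgnVec P _ = F.sgn
  funext j
  have hval : ∀ j, P.coroot' j (∑ i ∈ (Set.toFinite F.parab).toFinset, P.root i)
      = ∑ i ∈ (Set.toFinite F.parab).toFinset, P.pairing i j := by
    intro j
    rw [map_sum]
    exact Finset.sum_congr rfl (fun i _ => P.root_coroot'_eq_pairing j i)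
  rw [sgnVec_apply, hval]
  rcases hs : F.sgn j with _ | _ | _
  · change F.sgn j = 0 at hs
    rw [(sum_pairing_parab F j).1 hs, sign_zero]
    rfl
  · change F.sgn j = -1 at hs
    -- use the opposite root
    set j' := P.reflectionPerm j j with hj'
    have hco : ∀ η : M, P.coroot' j' η = - P.coroot' j η := by
      intro η
      rw [hj', coroot'_reflectionPerm_apply, P.pairing_same]
      ring
    have hs' : F.sgn j' = 1 := by
      rw [← h1, sgnVec_apply] at hs ⊢
      rw [hco, sign_eq_one_iff]
      rw [sign_eq_neg_one_iff] at hs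
      linarith
    have h2 := (sum_pairing_parab F j').2 hs'
    have h3 : ∑ i ∈ (Set.toFinite F.parab).toFinset, P.pairing i j'
        = - ∑ i ∈ (Set.toFinite F.parab).toFinset, P.pairing i j := by
      rw [← Finset.sum_neg_distrib]
      apply Finset.sum_congr rfl
      intro i _
      rw [← P.root_coroot'_eq_pairing, hco, P.root_coroot'_eq_pairing]
    rw [h3] at h2
    have : ∑ i ∈ (Set.toFinite F.parab).toFinset, P.pairing i j < 0 := by linarith
    rw [sign_neg this]
    rfl
  · change F.sgn j = 1 at hs
    have h2 := (sum_pairing_parab F j).2 hs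
    have : 0 < ∑ i ∈ (Set.toFinite F.parab).toFinset, P.pairing i j := by linarith
    rw [sign_pos this]
    rfl

section Form

variable [Fintype ι]

theorem rootForm_root_pos (P : RootPairing ι R M N) (i : ι) :
    0 < P.RootForm (P.root i) (P.root i) := by
  rw [P.rootForm_root_self]
  have h := Finset.single_le_sum (f := fun k => P.pairing i k * P.pairing i k)
    (fun k _ => mul_self_nonneg _) (Finset.mem_univ i)
  simp only [P.pairing_same] at h
  linarith

theorem two_mul_rootForm (P : RootPairing ι R M N) (x : M) (i : ι) :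
    2 * P.RootForm (P.root i) x = P.RootForm (P.root i) (P.root i) * P.coroot' i x := by
  have h := congrArg (P.toLinearMap x) (P.rootForm_self_smul_coroot i)
  rw [map_smul, map_nsmul, P.toLinearMap_apply_apply_Polarization, smul_eq_mul, nsmul_eq_mul] at h
  rw [RootPairing.coroot', LinearMap.flip_apply, h]
  norm_num

end Form

/-- Expansion of the pairing with an arbitrary root in terms of the simple roots of `b`. -/
theorem root_expand (b : P.Base) (i : ι) :
    ∃ (ε : R) (f : ι → ℕ), (ε = 1 ∨ ε = -1) ∧ (∃ j ∈ b.support, f j ≠ 0) ∧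
      ∀ x : N, P.root' i x = ε * ∑ j ∈ b.support, (f j : R) * P.root' j x :=
  coroot_expand (P := P.flip) b.flip i

theorem eq_of_root'_eq (b : P.Base) (x y : N)
    (h : ∀ j ∈ b.support, P.root' j x = P.root' j y) : x = y :=
  eq_of_coroot'_eq (P := P.flip) b.flip x y h

open Classical in
theorem root'_fundCoweight (b : P.Base) (i : b.support) (j : ι) (hj : j ∈ b.support) :
    P.root' j (fundCoweight b i) = if j = (i : ι) then 1 else 0 :=
  coroot'_fundWeight (P := P.flip) b.flip i j hj

theorem sum_mul_root'_fundCoweight (b : P.Base) (k : b.support) (f : ι → R) :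
    ∑ j ∈ b.support, f j * P.root' j (fundCoweight b k) = f k :=
  sum_mul_coroot'_fundWeight (P := P.flip) b.flip k f

section Form2

variable [Finite ι]

/-- The fundamental coweight pairs with a root as a positive multiple of the pairing of the
fundamental weight with the coroot; the multiple is a ratio of squared root lengths. -/
theorem exists_form (P : RootPairing ι R M N) [P.IsRootSystem] :
    ∃ B : ι → R, (∀ k, 0 < B k) ∧ ∀ (b : P.Base) (i : b.support) (k : ι),
      P.root' k (fundCoweight b i) = B k / B i * P.coroot' k (fundWeight b i) := by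
  classical
  haveI : Fintype ι := Fintype.ofFinite ι
  have hB : ∀ k, 0 < P.RootForm (P.root k) (P.root k) := rootForm_root_pos P
  refine ⟨fun k => P.RootForm (P.root k) (P.root k), hB, fun b i k => ?_⟩
  have hpol : P.Polarization (fundWeight b i)
      = (P.RootForm (P.root i) (P.root i) / 2) • fundCoweight b i := by
    apply eq_of_root'_eq b
    intro j hj
    rw [map_smul, smul_eq_mul, root'_fundCoweight b i j hj]
    change P.toLinearMap (P.root j) (P.Polarization (fundWeight b i)) = _
    rw [P.toLinearMap_apply_apply_Polarization, ← P.rootForm_symmetric.eq, RingHom.id_apply]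
    have h2 := two_mul_rootForm P (fundWeight b i) j
    rw [coroot'_fundWeight b i j hj] at h2
    split_ifs with h
    · subst h
      rw [if_pos rfl] at h2
      linarith
    · rw [if_neg h] at h2
      linarith
  have h1 : P.root' k (P.Polarization (fundWeight b i))
      = P.RootForm (P.root k) (P.root k) / 2 * P.coroot' k (fundWeight b i) := by
    change P.toLinearMap (P.root k) (P.Polarization (fundWeight b i)) = _
    rw [P.toLinearMap_apply_apply_Polarization, ← P.rootForm_symmetric.eq, RingHom.id_apply]
    have h2 := two_mul_rootForm P (fundWeight b i) k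
    linarith
  rw [hpol, map_smul, smul_eq_mul] at h1
  have hBi := (hB i).ne'
  field_simp
  field_simp at h1
  linarith

theorem cosgnVec_fundCoweight (b : P.Base) (i : b.support) :
    cosgnVec P (fundCoweight b i) = sgnVec P (fundWeight b i) := by
  obtain ⟨B, hB, h⟩ := exists_form P
  funext k
  change SignType.sign (P.root' k (fundCoweight b i)) = SignType.sign (P.coroot' k (fundWeight b i))
  rw [h b i k, sign_mul, sign_pos (div_pos (hB k) (hB i)), one_mul]

/-- The fundamental coweight is determined by the fundamental weight. -/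
theorem fundCoweight_eq_of_fundWeight_eq (b b' : P.Base) (i : b.support) (i' : b'.support)
    (h : fundWeight b i = fundWeight b' i') : fundCoweight b i = fundCoweight b' i' := by
  classical
  obtain ⟨B, hB, hform⟩ := exists_form P
  set lam := B i / B i' with hlam
  have hlampos : 0 < lam := div_pos (hB i) (hB i')
  have hrel : ∀ k, P.root' k (fundCoweight b' i') = lam * P.root' k (fundCoweight b i) := by
    intro k
    rw [hform b i k, hform b' i' k, h, hlam]
    have h1 := (hB i).ne'
    have h2 := (hB i').ne'
    field_simp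
  have h1 : P.root' i (fundCoweight b' i') = lam := by
    rw [hrel, root'_fundCoweight b i i i.2, if_pos rfl, mul_one]
  have h2 : 1 = lam * P.root' i' (fundCoweight b i) := by
    rw [← hrel, root'_fundCoweight b' i' i' i'.2, if_pos rfl]
  obtain ⟨ε, f, hε, -, hexp⟩ := root_expand b' (i : ι)
  obtain ⟨ε', g, hε', -, hexp'⟩ := root_expand b (i' : ι)
  have e1 : lam = ε * (f i' : R) := by
    rw [← h1, hexp, sum_mul_root'_fundCoweight b' i' (fun j => (f j : R))]
  have e2 : P.root' i' (fundCoweight b i) = ε' * (g i : R) := by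
    rw [hexp', sum_mul_root'_fundCoweight b i (fun j => (g j : R))]
  have hnat : f i' * g i = 1 := by
    have hprod : (ε * ε') * ((f i' * g i : ℕ) : R) = 1 := by
      rw [h2, e2, e1]
      push_cast
      ring
    have hεε : ε * ε' = 1 ∨ ε * ε' = -1 := by
      rcases hε with h | h <;> rcases hε' with h' | h' <;> rw [h, h'] <;> norm_num
    have hnn : (0 : R) ≤ ((f i' * g i : ℕ) : R) := Nat.cast_nonneg _
    rcases hεε with h | h
    · rw [h, one_mul] at hprod
      exact_mod_cast hprod
    · rw [h] at hprod
      have : ((f i' * g i : ℕ) : R) = -1 := by linarith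
      linarith
  have hf : f i' = 1 := Nat.eq_one_of_mul_eq_one_right hnat
  have hlam1 : lam = 1 := by
    rw [e1, hf, Nat.cast_one, mul_one] at hlampos ⊢
    rcases hε with h | h
    · exact h
    · rw [h] at hlampos
      linarith
  apply eq_of_root'_eq b
  intro j _
  rw [hrel j, hlam1, one_mul]

theorem corr_iff (b : P.Base) (i : b.support) (y : N) :
    Corr P (fundWeight b i) y ↔ y = fundCoweight b i := by
  constructor
  · rintro ⟨b', i', h1, h2⟩
    rw [← h2]
    exact fundCoweight_eq_of_fundWeight_eq b' b i' i h1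
  · rintro rfl
    exact ⟨b, i, rfl, rfl⟩

theorem exists_base_of_flip (b' : P.flip.Base) : ∃ b : P.Base, b.flip = b' :=
  ⟨b'.flip, rfl⟩

/-- S14231. -/
theorem dualCorners_eq (F : Facet P) :
    F.dualCorners = {y : N | ∃ m ∈ F.corners, Corr P m y} := by
  ext y
  constructor
  · rintro ⟨⟨b', i, rfl⟩, hy⟩
    obtain ⟨b, rfl⟩ := exists_base_of_flip b'
    refine ⟨fundWeight b i, ⟨⟨b, i, rfl⟩, fun k => ?_⟩, b, i, rfl, rfl⟩
    rw [← cosgnVec_fundCoweight]
    exact hy k
  · rintro ⟨m, ⟨-, hm⟩, b, i, rfl, rfl⟩
    refine ⟨⟨b.flip, i, rfl⟩, fun k => ?_⟩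
    rw [cosgnVec_fundCoweight]
    exact hm k

theorem coroot'_neg (P : RootPairing ι R M N) (k : ι) (η : M) :
    P.coroot' (P.reflectionPerm k k) η = - P.coroot' k η := by
  rw [coroot'_reflectionPerm_apply, P.pairing_same]
  ring

theorem facet_sgn_neg (F : Facet P) (k : ι) :
    F.sgn (P.reflectionPerm k k) = - F.sgn k := by
  obtain ⟨ξ, hξ⟩ := facet_carrier_nonempty F
  have h1 : sgnVec P ξ = F.sgn := hξ
  rw [← h1, sgnVec_apply, sgnVec_apply, coroot'_neg, Left.sign_neg]

/-- S14234. -/
theorem corners_eq_nonneg_on_parab (F : Facet P) :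
    F.corners = {m : M | m ∈ fundWeights P ∧
      ∀ y : N, Corr P m y → ∀ i ∈ F.parab, 0 ≤ P.root' i y} := by
  obtain ⟨B, hB, hform⟩ := exists_form P
  ext m
  constructor
  · rintro ⟨hm1, hm2⟩
    refine ⟨hm1, ?_⟩
    rintro y ⟨b, i, rfl, rfl⟩ k hk
    by_contra hneg
    push_neg at hneg
    have h1 : cosgnVec P (fundCoweight b i) k = -1 := sign_neg hneg
    rw [cosgnVec_fundCoweight] at h1
    rcases hm2 k with h | h
    · rw [h1] at h
      exact absurd h (by decide)
    · rw [h1] at h
      exact hk h.symm
  · rintro ⟨⟨b, i, rfl⟩, h⟩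
    refine ⟨⟨b, i, rfl⟩, ?_⟩
    have h' := h _ ⟨b, i, rfl, rfl⟩
    have hnn : ∀ k, F.sgn k ≠ -1 → 0 ≤ P.coroot' k (fundWeight b i) := by
      intro k hk
      have := h' k hk
      rw [hform b i k] at this
      exact nonneg_of_mul_nonneg_right this (div_pos (hB k) (hB i))
    intro k
    rw [sgnVec_apply]
    have hnegk := facet_sgn_neg F k
    rcases hs : F.sgn k with _ | _ | _
    · change F.sgn k = 0 at hs
      left
      have a1 := hnn k (by rw [hs]; decide)
      have a2 := hnn (P.reflectionPerm k k) (by rw [hnegk, hs]; decide)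
      rw [coroot'_neg] at a2
      rw [sign_eq_zero_iff]
      linarith
    · change F.sgn k = -1 at hs
      have a2 := hnn (P.reflectionPerm k k) (by rw [hnegk, hs]; decide)
      rw [coroot'_neg] at a2
      have a3 : P.coroot' k (fundWeight b i) ≤ 0 := by linarith
      rcases a3.eq_or_lt with h0 | hlt
      · left
        rw [h0, sign_zero]
      · right
        rw [sign_neg hlt]
        rfl
    · change F.sgn k = 1 at hs
      have a1 := hnn k (by rw [hs]; decide)
      rcases a1.eq_or_lt with h0 | hlt
      · left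
        rw [← h0, sign_zero]
      · right
        rw [sign_pos hlt]
        rfl

end Form2

end Groth.Agent.Lib.T2H1.RootCh
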