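import Groth.Agent.Lib.T2H1RootCh2
import Groth.Prelude.Def_RootCh2

set_option autoImplicit false
universe u v w x
open RootCh Module

namespace Groth.Agent.Lib.T2H1.RootCh

variable {ι : Type u} {R : Type v} {M : Type w} {N : Type x}
    [Field R] [LinearOrder R] [IsStrictOrderedRing R]
    [AddCommGroup M] [Module R M] [AddCommGroup N] [Module R N]
    {P : RootPairing ι R M N} [P.IsRootSystem]

theorem root'_reflectionPerm_apply (P : RootPairing ι R M N) (i l : ι) (x : N) :
    P.root' (P.reflectionPerm l i) x = P.root' i x - P.pairing i l * P.root' l x := by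
  change P.toLinearMap (P.root (P.reflectionPerm l i)) x = _
  rw [P.root_reflectionPerm, P.reflection_apply, map_sub, map_smul, LinearMap.sub_apply,
    LinearMap.smul_apply, smul_eq_mul, P.root_coroot'_eq_pairing]

theorem pairing_reflectionPerm_left (P : RootPairing ι R M N) (i l : ι) :
    P.pairing (P.reflectionPerm l i) l = - P.pairing i l := by
  rw [← P.root_coroot'_eq_pairing, P.root_reflectionPerm, P.reflection_apply, map_sub,
    map_smul, smul_eq_mul, P.root_coroot'_eq_pairing, P.root_coroot'_eq_pairing, P.pairing_same]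
  ring

variable [Finite ι] [P.IsCrystallographic] [P.IsReduced]

theorem mem_Psi_iff (F : Facet P) (b : P.Base) (hb : b ∈ F.cham) (j0 : b.support) (i : ι) :
    i ∈ F.Psi (fundWeight b j0) ↔ P.root' i (fundCoweight b j0) = 1 ∧
      ∀ j : b.support, F.sgn j ≠ 0 → j ≠ j0 → P.root' i (fundCoweight b j) = 0 := by
  constructor
  · rintro ⟨h1, h2⟩
    refine ⟨h1 _ ((corr_iff b j0 _).mpr rfl), fun j hj hne => ?_⟩
    refine h2 (fundWeight b j) ((fundWeight_mem_corners_iff F b hb j).mpr hj) ?_ _
      ((corr_iff b j _).mpr rfl)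
    intro h
    exact hne (fundWeight_injective b h)
  · rintro ⟨h1, h2⟩
    refine ⟨fun x hx => ?_, fun w' hw' hne x hx => ?_⟩
    · rw [(corr_iff b j0 x).mp hx]
      exact h1
    · rw [facet_corners_eq F b hb] at hw'
      obtain ⟨j, hj, rfl⟩ := hw'
      rw [(corr_iff b j x).mp hx]
      exact h2 j hj (fun h => hne (by rw [h]))

/-- S14242. -/
theorem sum_root_psi_mem_span_corners (F : Facet P) (m : M) (hm : m ∈ F.corners) :
    (∑ i ∈ (Set.toFinite (F.Psi m)).toFinset, P.root i) ∈ Submodule.span R F.corners := by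
  classical
  obtain ⟨b, hb⟩ := facet_exists_mem_cham F
  have hm' := hm
  rw [facet_corners_eq F b hb] at hm'
  obtain ⟨j0, hj0, rfl⟩ := hm'
  set Q := (Set.toFinite (F.Psi (fundWeight b j0))).toFinset with hQ
  have hmemQ : ∀ i, i ∈ Q ↔ P.root' i (fundCoweight b j0) = 1 ∧
      ∀ j : b.support, F.sgn j ≠ 0 → j ≠ j0 → P.root' i (fundCoweight b j) = 0 := by
    intro i
    rw [hQ, Set.Finite.mem_toFinset]
    exact mem_Psi_iff F b hb j0 i
  have hzero : ∀ l : b.support, F.sgn l = 0 → P.coroot' l (∑ i ∈ Q, P.root i) = 0 := by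
    intro l hl
    set g := P.reflectionPerm l with hg
    have hgg : ∀ i, g (g i) = i := fun i => P.reflectionPerm_self l i
    have hroot : ∀ (j : b.support), F.sgn j ≠ 0 → ∀ i,
        P.root' (g i) (fundCoweight b j) = P.root' i (fundCoweight b j) := by
      intro j hj i
      rw [hg, root'_reflectionPerm_apply, root'_fundCoweight b j l l.2, if_neg, mul_zero, sub_zero]
      intro h
      apply hj
      have : l = j := Subtype.ext h
      rw [← this]
      exact hl
    have hstable : ∀ i, i ∈ Q ↔ g i ∈ Q := by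
      intro i
      rw [hmemQ, hmemQ, hroot j0 hj0 i]
      constructor
      · rintro ⟨h1, h2⟩
        exact ⟨h1, fun j hj hne => by rw [hroot j hj i]; exact h2 j hj hne⟩
      · rintro ⟨h1, h2⟩
        exact ⟨h1, fun j hj hne => by rw [← hroot j hj i]; exact h2 j hj hne⟩
    have hval : P.coroot' l (∑ i ∈ Q, P.root i) = ∑ i ∈ Q, P.pairing i l := by
      rw [map_sum]
      exact Finset.sum_congr rfl (fun i _ => P.root_coroot'_eq_pairing l i)
    rw [hval]
    have h := Finset.sum_equiv (s := Q) (t := Q) (f := fun i => P.pairing i l)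
      (g := fun i => - P.pairing i l) g hstable
      (fun i _ => by
        rw [hg, pairing_reflectionPerm_left, neg_neg])
    rw [Finset.sum_neg_distrib] at h
    linarith
  rw [expand b (∑ i ∈ Q, P.root i)]
  refine Submodule.sum_mem _ (fun j _ => ?_)
  by_cases h0 : F.sgn j = 0
  · rw [hzero j h0, zero_smul]
    exact Submodule.zero_mem _
  · exact Submodule.smul_mem _ _ (Submodule.subset_span
      ((fundWeight_mem_corners_iff F b hb j).mpr h0))

theorem corners_subset_baseCorners (F : Facet P) (b : P.Base) (hb : b ∈ F.cham) :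
    F.corners ⊆ baseCorners b :=
  fun _ hm => ⟨hm.1, facet_closure_subset_closedChamber F b hb hm.2⟩

theorem pairing_eq_of_mem_span_corners (d : P.Base → N) (hd : IsCCS d) (F : Facet P)
    (b b' : P.Base) (hb : b ∈ F.cham) (hb' : b' ∈ F.cham) (v : M)
    (hv : v ∈ Submodule.span R F.corners) :
    P.toLinearMap v (d b) = P.toLinearMap v (d b') := by
  induction hv using Submodule.span_induction with
  | mem m hm =>
    exact hd.corner_eq b b' m (corners_subset_baseCorners F b hb hm)
      (corners_subset_baseCorners F b' hb' hm)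
  | zero => simp
  | add x y _ _ hx hy => rw [map_add, LinearMap.add_apply, LinearMap.add_apply, hx, hy]
  | smul a x _ hx => rw [map_smul, LinearMap.smul_apply, LinearMap.smul_apply, hx]

theorem sum_root'_eq (s : Finset ι) (x : N) :
    ∑ i ∈ s, P.root' i x = P.toLinearMap (∑ i ∈ s, P.root i) x := by
  rw [map_sum, LinearMap.sum_apply]

/-- S14249. -/
theorem deg_eq_deg (d : P.Base → N) (hd : IsCCS d) (F : Facet P)
    (b b' : P.Base) (hb : b ∈ F.cham) (hb' : b' ∈ F.cham) :
    F.deg d b = F.deg d b' := by
  unfold Facet.deg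
  rw [sum_root'_eq, sum_root'_eq]
  apply pairing_eq_of_mem_span_corners d hd F b b' hb hb'
  rw [← span_carrier_eq]
  exact Submodule.subset_span (sum_root_parab_mem_carrier F)

/-- S14250. -/
theorem numInv_eq_numInv (d : P.Base → N) (hd : IsCCS d) (F : Facet P) (m : M)
    (hm : m ∈ F.corners) (b b' : P.Base) (hb : b ∈ F.cham) (hb' : b' ∈ F.cham) :
    F.numInv d m b = F.numInv d m b' := by
  unfold Facet.numInv
  rw [sum_root'_eq, sum_root'_eq]
  exact pairing_eq_of_mem_span_corners d hd F b b' hb hb' _
    (sum_root_psi_mem_span_corners F m hm)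

end Groth.Agent.Lib.T2H1.RootCh
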