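import Groth.Agent.Lib.T2H1RootCh3

set_option autoImplicit false
universe u v w x
open RootCh Module

namespace Groth.Agent.Lib.T2H1.RootCh

variable {ι : Type u} {R : Type v} {M : Type w} {N : Type x}
    [Field R] [LinearOrder R] [IsStrictOrderedRing R]
    [AddCommGroup M] [Module R M] [AddCommGroup N] [Module R N]
    {P : RootPairing ι R M N}

theorem image_root_map (P : RootPairing ι R M N) (s : Finset ι) (j : ι) :
    P.root '' (s.map (P.reflectionPerm j).toEmbedding : Finset ι)
      = (P.reflection j) '' (P.root '' s) := by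
  ext x
  simp only [Finset.coe_map, Set.mem_image, Finset.mem_coe, Equiv.coe_toEmbedding]
  constructor
  · rintro ⟨_, ⟨k, hk, rfl⟩, rfl⟩
    exact ⟨_, ⟨k, hk, rfl⟩, (P.root_reflectionPerm j k).symm⟩
  · rintro ⟨_, ⟨k, hk, rfl⟩, rfl⟩
    exact ⟨_, ⟨k, hk, rfl⟩, P.root_reflectionPerm j k⟩

theorem mem_closure_refl (P : RootPairing ι R M N) (s : Finset ι) (j i : ι)
    (x : M) (hx : P.reflection j x ∈ AddSubmonoid.closure (P.root '' s)) :
    x ∈ AddSubmonoid.closure (P.root '' (s.map (P.reflectionPerm j).toEmbedding : Finset ι)) := by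
  rw [image_root_map]
  have h1 : (P.reflection j) (P.reflection j x) ∈
      AddSubmonoid.map ((P.reflection j : M ≃ₗ[R] M) : M →+ M)
        (AddSubmonoid.closure (P.root '' s)) :=
    AddSubmonoid.mem_map_of_mem _ hx
  rw [AddMonoidHom.map_mclosure] at h1
  simpa using h1

/-- The base obtained by reflecting all simple roots in the root `j`. -/
noncomputable def reflBase (b : P.Base) (j : ι) : P.Base where
  support := b.support.map (P.reflectionPerm j).toEmbedding
  linearIndepOn_root := by
    rw [Finset.coe_map]
    apply LinearIndepOn.image_of_comp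
    have : P.root ∘ ((P.reflectionPerm j).toEmbedding : ι → ι) = (P.reflection j) ∘ P.root := by
      funext k
      exact P.root_reflectionPerm j k
    rw [this]
    exact b.linearIndepOn_root.map_injOn (P.reflection j : M ≃ₗ[R] M).toLinearMap
      (P.reflection j).injective.injOn
  linearIndepOn_coroot := by
    rw [Finset.coe_map]
    apply LinearIndepOn.image_of_comp
    have : P.coroot ∘ ((P.reflectionPerm j).toEmbedding : ι → ι)
        = (P.coreflection j) ∘ P.coroot := by
      funext k
      exact P.coroot_reflectionPerm j k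
    rw [this]
    exact b.linearIndepOn_coroot.map_injOn (P.coreflection j : N ≃ₗ[R] N).toLinearMap
      (P.coreflection j).injective.injOn
  root_mem_or_neg_mem i := by
    rcases b.root_mem_or_neg_mem (P.reflectionPerm j i) with h | h
    · left
      apply mem_closure_refl P b.support j i
      rwa [← P.root_reflectionPerm]
    · right
      apply mem_closure_refl P b.support j i
      rwa [map_neg, ← P.root_reflectionPerm]
  coroot_mem_or_neg_mem i := by
    rcases b.coroot_mem_or_neg_mem (P.reflectionPerm j i) with h | h
    · left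
      apply mem_closure_refl P.flip b.support j i
      change P.coreflection j (P.coroot i) ∈ _
      rw [← P.coroot_reflectionPerm]
      exact h
    · right
      apply mem_closure_refl P.flip b.support j i
      change P.coreflection j (-P.coroot i) ∈ _
      rw [map_neg, ← P.coroot_reflectionPerm]
      exact h

theorem mem_reflBase_support (b : P.Base) (j k : ι) :
    k ∈ (reflBase b j).support ↔ P.reflectionPerm j k ∈ b.support := by
  change k ∈ b.support.map (P.reflectionPerm j).toEmbedding ↔ _
  rw [Finset.mem_map]
  constructor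
  · rintro ⟨l, hl, rfl⟩
    simpa using hl
  · intro h
    exact ⟨_, h, by simp⟩

theorem mem_closedChamber_reflBase (b : P.Base) (j : ι) (ξ : M) :
    ξ ∈ closedChamber (reflBase b j) ↔ P.reflection j ξ ∈ closedChamber b := by
  constructor
  · intro h l hl
    have := h (P.reflectionPerm j l) ((mem_reflBase_support b j _).mpr (by simpa using hl))
    rwa [← P.coroot'_reflection] at this
  · intro h k hk
    have := h _ ((mem_reflBase_support b j k).mp hk)
    rw [P.coroot'_reflection, P.reflectionPerm_self] at this
    exact this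

theorem mem_openChamber_reflBase (b : P.Base) (j : ι) (ξ : M) :
    ξ ∈ openChamber (reflBase b j) ↔ P.reflection j ξ ∈ openChamber b := by
  constructor
  · intro h l hl
    have := h (P.reflectionPerm j l) ((mem_reflBase_support b j _).mpr (by simpa using hl))
    rwa [← P.coroot'_reflection] at this
  · intro h k hk
    have := h _ ((mem_reflBase_support b j k).mp hk)
    rw [P.coroot'_reflection, P.reflectionPerm_self] at this
    exact this

variable [P.IsRootSystem]

/-- The sum of the fundamental weights. -/
noncomputable def rho (b : P.Base) : M := ∑ l : b.support, fundWeight b l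

/-- The sum of the fundamental coweights. -/
noncomputable def rhoCo (b : P.Base) : N := ∑ l : b.support, fundCoweight b l

theorem coroot'_rho (b : P.Base) (j : ι) (hj : j ∈ b.support) : P.coroot' j (rho b) = 1 := by
  classical
  rw [rho, map_sum, Finset.sum_eq_single (⟨j, hj⟩ : b.support)]
  · exact coroot'_fundWeight_self b ⟨j, hj⟩
  · intro l _ hl
    exact coroot'_fundWeight_of_ne b l ⟨j, hj⟩ (Ne.symm hl)
  · intro h
    exact absurd (Finset.mem_univ _) h

theorem root'_rhoCo (b : P.Base) (j : ι) (hj : j ∈ b.support) : P.root' j (rhoCo b) = 1 :=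
  coroot'_rho (P := P.flip) b.flip j hj

theorem rho_mem_openChamber (b : P.Base) : rho b ∈ openChamber b := by
  intro j hj
  rw [coroot'_rho b j hj]
  exact one_pos

theorem openChamber_subset_closedChamber (b : P.Base) : openChamber b ⊆ closedChamber b :=
  fun _ h j hj => (h j hj).le

theorem root'_rhoCo_eq_height (b : P.Base) (i : ι) :
    P.root' i (rhoCo b) = (b.height i : R) := by
  obtain ⟨f, -, -, hf⟩ := b.exists_root_eq_sum_int i
  rw [RootPairing.Base.height_eq_sum hf]
  change P.toLinearMap (P.root i) (rhoCo b) = _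
  rw [hf, map_sum, LinearMap.sum_apply, Int.cast_sum]
  apply Finset.sum_congr rfl
  intro j hj
  rw [map_zsmul, LinearMap.smul_apply]
  change f j • P.root' j (rhoCo b) = _
  rw [root'_rhoCo b j hj]
  simp

theorem isPos_iff_root'_rhoCo (b : P.Base) (i : ι) :
    b.IsPos i ↔ 0 < P.root' i (rhoCo b) := by
  rw [root'_rhoCo_eq_height, RootPairing.Base.isPos_iff, Int.cast_pos]

section Fin

variable [Finite ι]

theorem coroot'_pos_iff_of_mem_openChamber (b : P.Base) (ξ : M) (hξ : ξ ∈ openChamber b) (i : ι) :
    0 < P.coroot' i ξ ↔ 0 < P.root' i (rhoCo b) := by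
  classical
  obtain ⟨B, hB, hform⟩ := exists_form P
  obtain ⟨ε, n, hε, ⟨j0, hj0, hnj0⟩, hexp⟩ := coroot_expand b i
  have hn0 : (0 : R) < (n j0 : R) := Nat.cast_pos.mpr (Nat.pos_of_ne_zero hnj0)
  have h1 : P.root' i (rhoCo b) = ε * ∑ l : b.support, B i / B l * (n l : R) := by
    rw [rhoCo, map_sum, Finset.mul_sum]
    apply Finset.sum_congr rfl
    intro l _
    rw [hform b l i, hexp, sum_mul_coroot'_fundWeight b l (fun j => (n j : R))]
    ring
  have hS1 : 0 < ∑ l : b.support, B i / B l * (n l : R) := by
    refine lt_of_lt_of_le ?_ (Finset.single_le_sum (f := fun l : b.support => B i / B l * (n l : R))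
      (fun l _ => mul_nonneg (div_pos (hB i) (hB l)).le (Nat.cast_nonneg _))
      (Finset.mem_univ (⟨j0, hj0⟩ : b.support)))
    exact mul_pos (div_pos (hB i) (hB _)) hn0
  have hS2 : 0 < ∑ j ∈ b.support, (n j : R) * P.coroot' j ξ := by
    refine lt_of_lt_of_le ?_ (Finset.single_le_sum (f := fun j => (n j : R) * P.coroot' j ξ)
      (fun l hl => mul_nonneg (Nat.cast_nonneg _) (hξ l hl).le) hj0)
    exact mul_pos hn0 (hξ j0 hj0)
  rw [h1, hexp ξ]
  rcases hε with rfl | rfl
  · simp only [one_mul]
    exact ⟨fun _ => hS1, fun _ => hS2⟩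
  · constructor
    · intro h
      linarith
    · intro h
      linarith

theorem isPos_iff_of_mem_openChamber (b : P.Base) (ξ : M) (hξ : ξ ∈ openChamber b) (i : ι) :
    b.IsPos i ↔ 0 < P.coroot' i ξ := by
  rw [isPos_iff_root'_rhoCo, coroot'_pos_iff_of_mem_openChamber b ξ hξ]

theorem isPos_reflBase (b : P.Base) (j k : ι) :
    (reflBase b j).IsPos k ↔ b.IsPos (P.reflectionPerm j k) := by
  have h1 : P.reflection j (rho b) ∈ openChamber (reflBase b j) := by
    rw [mem_openChamber_reflBase]
    have : P.reflection j (P.reflection j (rho b)) = rho b := by simp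
    rw [this]
    exact rho_mem_openChamber b
  rw [isPos_iff_of_mem_openChamber _ _ h1, isPos_iff_of_mem_openChamber b _ (rho_mem_openChamber b),
    P.coroot'_reflection]

theorem not_isPos_neg (b : P.Base) (j : ι) (hj : j ∈ b.support) :
    ¬ b.IsPos (P.reflectionPerm j j) := by
  rw [isPos_iff_of_mem_openChamber b _ (rho_mem_openChamber b), coroot'_neg, coroot'_rho b j hj]
  norm_num

theorem isPos_reflectionPerm_of_ne [P.IsCrystallographic] [P.IsReduced] (b : P.Base) (j : ι)
    (hj : j ∈ b.support) (k : ι) (hk : b.IsPos k) (hkj : k ≠ j) :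
    b.IsPos (P.reflectionPerm j k) := by
  refine hk.add_zsmul hkj hj (z := - P.pairingIn ℤ k j) ?_
  rw [P.root_reflectionPerm, P.reflection_apply, P.root_coroot'_eq_pairing, sub_eq_add_neg,
    ← neg_smul, ← P.algebraMap_pairingIn ℤ k j, neg_smul, neg_smul]
  congr 2
  simp only [algebraMap_int_eq, eq_intCast]
  exact Int.cast_smul_eq_zsmul R _ _

theorem wall_iff [P.IsCrystallographic] [P.IsReduced] (b : P.Base) (j : ι)
    (hj : j ∈ b.support) (k : ι) :
    (b.IsPos k ∧ ¬ (reflBase b j).IsPos k) ↔ k = j := by
  rw [isPos_reflBase]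
  constructor
  · rintro ⟨h1, h2⟩
    by_contra hne
    exact h2 (isPos_reflectionPerm_of_ne b j hj k h1 hne)
  · rintro rfl
    exact ⟨RootPairing.Base.isPos_of_mem_support hj, not_isPos_neg b k hj⟩

theorem fundWeight_reflBase (b : P.Base) (j : ι) (l : b.support) :
    ∃ l' : (reflBase b j).support, (l' : ι) = P.reflectionPerm j l ∧
      fundWeight (reflBase b j) l' = P.reflection j (fundWeight b l) := by
  classical
  have hmem : P.reflectionPerm j l ∈ (reflBase b j).support := by
    rw [mem_reflBase_support, P.reflectionPerm_self]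
    exact l.2
  refine ⟨⟨_, hmem⟩, rfl, ?_⟩
  apply eq_of_coroot'_eq (reflBase b j)
  intro k hk
  rw [coroot'_fundWeight (reflBase b j) _ k hk, P.coroot'_reflection,
    coroot'_fundWeight b l _ ((mem_reflBase_support b j k).mp hk)]
  simp only
  by_cases h : k = P.reflectionPerm j l
  · rw [if_pos h, if_pos]
    rw [h, P.reflectionPerm_self]
  · rw [if_neg h, if_neg]
    intro h'
    apply h
    rw [← h', P.reflectionPerm_self]

theorem reflection_fundWeight_of_ne (b : P.Base) (j : ι) (hj : j ∈ b.support) (l : b.support)
    (hl : (l : ι) ≠ j) : P.reflection j (fundWeight b l) = fundWeight b l := by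
  classical
  rw [P.reflection_apply, coroot'_fundWeight b l j hj, if_neg (Ne.symm hl), zero_smul, sub_zero]

theorem inter_baseCorners_reflBase (b : P.Base) (j : ι) (hj : j ∈ b.support) :
    baseCorners b ∩ baseCorners (reflBase b j)
      = (fundWeight b) '' {l : b.support | (l : ι) ≠ j} := by
  classical
  ext m
  constructor
  · rintro ⟨h1, h2⟩
    rw [baseCorners_eq] at h1
    obtain ⟨l, rfl⟩ := h1
    refine ⟨l, ?_, rfl⟩
    intro hlj
    have h3 := (mem_closedChamber_reflBase b j _).mp h2.2 j hj
    rw [P.reflection_apply, map_sub, map_smul, smul_eq_mul, P.root_coroot'_eq_pairing,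
      P.pairing_same, coroot'_fundWeight b l j hj, if_pos hlj.symm] at h3
    norm_num at h3
  · rintro ⟨l, hl, rfl⟩
    refine ⟨?_, ?_⟩
    · rw [baseCorners_eq]
      exact ⟨l, rfl⟩
    · obtain ⟨l', -, h⟩ := fundWeight_reflBase b j l
      rw [reflection_fundWeight_of_ne b j hj l hl] at h
      rw [baseCorners_eq]
      exact ⟨l', h⟩

theorem ncard_inter_baseCorners_reflBase (b : P.Base) (j : ι) (hj : j ∈ b.support) :
    (baseCorners b ∩ baseCorners (reflBase b j)).ncard + 1 = b.support.card := by
  classical
  rw [inter_baseCorners_reflBase b j hj, Set.ncard_image_of_injective _ (fundWeight_injective b)]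
  have h1 : {l : b.support | (l : ι) ≠ j} = Set.univ \ {(⟨j, hj⟩ : b.support)} := by
    ext l
    simp only [Set.mem_setOf_eq, Set.mem_diff, Set.mem_univ, Set.mem_singleton_iff, true_and]
    constructor
    · intro h h'
      exact h (congrArg Subtype.val h')
    · intro h h'
      exact h (Subtype.ext h')
  rw [h1, Set.ncard_diff_singleton_of_mem (Set.mem_univ _), Set.ncard_univ,
    Nat.card_eq_fintype_card, Fintype.card_coe]
  have : 0 < b.support.card := Finset.card_pos.mpr ⟨j, hj⟩
  omega

theorem toLinearMap_fundWeight (b : P.Base) (l : b.support) :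
    P.toLinearMap (fundWeight b l) = b.toCoweightBasis.coord l :=
  P.toLinearMap.apply_symm_toPerfPair_self _

theorem eq_of_fundWeight_pairing_eq (b : P.Base) (x y : N)
    (h : ∀ l : b.support, P.toLinearMap (fundWeight b l) x = P.toLinearMap (fundWeight b l) y) :
    x = y := by
  apply b.toCoweightBasis.ext_elem
  intro l
  have := h l
  rw [toLinearMap_fundWeight, Basis.coord_apply, Basis.coord_apply] at this
  exact this

theorem toLinearMap_fundWeight_coroot (b : P.Base) (l : b.support) (j : ι) (hj : j ∈ b.support) :
    P.toLinearMap (fundWeight b l) (P.coroot j) = P.coroot' j (fundWeight b l) := rfl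

section CCS

variable [P.IsCrystallographic] [P.IsReduced]

/-- Crossing a wall towards the side where `m` is non-positive does not decrease `⟨m, d⟩`. -/
theorem step_ineq (d : P.Base → N) (hd : IsCCS d) (b : P.Base) (j : ι) (hj : j ∈ b.support)
    (m : M) (hm : P.coroot' j m ≤ 0) :
    P.toLinearMap m (d (reflBase b j)) ≤ P.toLinearMap m (d b) := by
  classical
  set δ := d b - d (reflBase b j) with hδ
  set c := P.toLinearMap (fundWeight b ⟨j, hj⟩) δ with hc
  have h1 : ∀ l : b.support, (l : ι) ≠ j → P.toLinearMap (fundWeight b l) δ = 0 := by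
    intro l hl
    have hmem : fundWeight b l ∈ baseCorners b ∩ baseCorners (reflBase b j) := by
      rw [inter_baseCorners_reflBase b j hj]
      exact ⟨l, hl, rfl⟩
    rw [hδ, map_sub, sub_eq_zero]
    exact hd.corner_eq b (reflBase b j) _ hmem.1 hmem.2
  have h2 : δ = c • P.coroot j := by
    apply eq_of_fundWeight_pairing_eq b
    intro l
    rw [map_smul, smul_eq_mul, toLinearMap_fundWeight_coroot b l j hj,
      coroot'_fundWeight b l j hj]
    by_cases hl : (l : ι) = j
    · rw [if_pos hl.symm, mul_one, hc]
      have : l = ⟨j, hj⟩ := Subtype.ext hl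
      rw [this]
    · rw [if_neg (Ne.symm hl), mul_zero]
      exact h1 l hl
  have h3 : P.root' j (d b) ≤ P.root' j (d (reflBase b j)) :=
    hd.wall_le b (reflBase b j) j (ncard_inter_baseCorners_reflBase b j hj)
      (fun k => wall_iff b j hj k)
  have h4 : c ≤ 0 := by
    have : P.root' j δ ≤ 0 := by
      rw [hδ, map_sub]
      linarith
    rw [h2, map_smul, smul_eq_mul, P.root'_coroot_eq_pairing, P.pairing_same] at this
    linarith
  have h5 : P.toLinearMap m δ = c * P.coroot' j m := by
    rw [h2, map_smul, smul_eq_mul]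
    rfl
  have h6 : 0 ≤ P.toLinearMap m δ := by
    rw [h5]
    exact mul_nonneg_of_nonpos_of_nonpos h4 hm
  rw [hδ, map_sub] at h6
  linarith

/-- The key inequality: `⟨m, d b'⟩` is minimal at the chambers having `m` as a corner. -/
theorem key_ineq (d : P.Base → N) (hd : IsCCS d) (b : P.Base) (m : M) (hm : m ∈ baseCorners b)
    (b' : P.Base) : P.toLinearMap m (d b) ≤ P.toLinearMap m (d b') := by
  classical
  set ρ := rho b with hρ
  have hρo : ρ ∈ openChamber b := rho_mem_openChamber b
  have hρc : ρ ∈ closedChamber b := openChamber_subset_closedChamber b hρo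
  -- `m` lies in the closure of the facet of `ρ`
  have hmcl : ∀ i, sgnVec P m i = 0 ∨ sgnVec P m i = sgnVec P ρ i := by
    intro i
    refine sgnVec_closure_of b ρ m hρc hm.2 ?_ i
    intro j hj h0
    exact absurd h0 (hρo j hj).ne'
  suffices H : ∀ n : ℕ, ∀ b' : P.Base,
      (Set.toFinite {i | b'.IsPos i ∧ P.coroot' i ρ < 0}).toFinset.card = n →
      P.toLinearMap m (d b) ≤ P.toLinearMap m (d b') from H _ b' rfl
  intro n
  induction n with
  | zero =>
    intro b' hcard
    rw [Finset.card_eq_zero] at hcard
    have hall : ∀ i, b'.IsPos i → 0 ≤ P.coroot' i ρ := by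
      intro i hi
      by_contra hneg
      push_neg at hneg
      have : i ∈ (Set.toFinite {i | b'.IsPos i ∧ P.coroot' i ρ < 0}).toFinset := by
        rw [Set.Finite.mem_toFinset]
        exact ⟨hi, hneg⟩
      rw [hcard] at this
      exact absurd this (Finset.notMem_empty _)
    have hρb' : ρ ∈ closedChamber b' :=
      fun j hj => hall j (RootPairing.Base.isPos_of_mem_support hj)
    have hb'cham : b' ∈ (Facet.ofVec P ρ).cham := facet_ofVec_mem_cham b' ρ hρb'
    have hmb' : m ∈ closedChamber b' :=
      facet_closure_subset_closedChamber _ b' hb'cham hmcl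
    exact (hd.corner_eq b b' m hm ⟨hm.1, hmb'⟩).le
  | succ n ih =>
    intro b' hcard
    have hne : (Set.toFinite {i | b'.IsPos i ∧ P.coroot' i ρ < 0}).toFinset.Nonempty := by
      rw [← Finset.card_pos, hcard]
      exact Nat.succ_pos n
    obtain ⟨i, hi⟩ := hne
    rw [Set.Finite.mem_toFinset] at hi
    obtain ⟨hipos, hineg⟩ := hi
    -- a simple root of `b'` on which `ρ` is negative
    have hex : ∃ j ∈ b'.support, P.coroot' j ρ < 0 := by
      by_contra hcon
      push_neg at hcon
      have hρb' : ρ ∈ closedChamber b' := hcon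
      have h1 := sgnVec_closure_of b' (rho b') ρ
        (openChamber_subset_closedChamber b' (rho_mem_openChamber b')) hρb'
        (fun j hj h0 => absurd h0 (rho_mem_openChamber b' j hj).ne') i
      have h2 : sgnVec P (rho b') i = 1 := by
        rw [sgnVec_apply, sign_eq_one_iff]
        exact (isPos_iff_of_mem_openChamber b' _ (rho_mem_openChamber b') i).mp hipos
      have h3 : sgnVec P ρ i = -1 := by
        rw [sgnVec_apply]
        exact sign_neg hineg
      rw [h2, h3] at h1
      rcases h1 with h | h <;> exact absurd h (by decide)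
    obtain ⟨j, hj, hjneg⟩ := hex
    have hcard' : (Set.toFinite {i | (reflBase b' j).IsPos i ∧ P.coroot' i ρ < 0}).toFinset.card
        = n := by
      have heq : (Set.toFinite {i | (reflBase b' j).IsPos i ∧ P.coroot' i ρ < 0}).toFinset
          = (Set.toFinite {i | b'.IsPos i ∧ P.coroot' i ρ < 0}).toFinset.erase j := by
        ext k
        simp only [Set.Finite.mem_toFinset, Set.mem_setOf_eq, Finset.mem_erase, isPos_reflBase]
        constructor
        · rintro ⟨h1, h2⟩
          have hkj : k ≠ j := by
            rintro rfl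
            exact not_isPos_neg b' k hj h1
          refine ⟨hkj, ?_, h2⟩
          have hne : P.reflectionPerm j k ≠ j := by
            intro h
            have hk : k = P.reflectionPerm j j := by
              have := P.reflectionPerm_self j k
              rw [h] at this
              exact this.symm
            rw [hk, coroot'_neg] at h2
            linarith
          have := isPos_reflectionPerm_of_ne b' j hj _ h1 hne
          rwa [P.reflectionPerm_self] at this
        · rintro ⟨hkj, h1, h2⟩
          exact ⟨isPos_reflectionPerm_of_ne b' j hj k h1 hkj, h2⟩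
      rw [heq, Finset.card_erase_of_mem, hcard]
      · rfl
      · rw [Set.Finite.mem_toFinset]
        exact ⟨RootPairing.Base.isPos_of_mem_support hj, hjneg⟩
    have h1 := ih (reflBase b' j) hcard'
    have hmj : P.coroot' j m ≤ 0 := by
      have h3 : sgnVec P ρ j = -1 := by
        rw [sgnVec_apply]
        exact sign_neg hjneg
      rcases hmcl j with h | h
      · rw [sgnVec_apply, sign_eq_zero_iff] at h
        exact h.le
      · rw [h3, sgnVec_apply, sign_eq_neg_one_iff] at h
        exact h.le
    exact h1.trans (step_ineq d hd b' j hj m hmj)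

end CCS

end Fin

end Groth.Agent.Lib.T2H1.RootCh
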