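import Groth.Agent.Lib.T2H1RootCh4
import Groth.Agent.Lib.T2H1Gordan

set_option autoImplicit false
universe u v w x
open RootCh Module

namespace Groth.Agent.Lib.T2H1.RootCh

variable {ι : Type u} {R : Type v} {M : Type w} {N : Type x}
    [Field R] [LinearOrder R] [IsStrictOrderedRing R]
    [AddCommGroup M] [Module R M] [AddCommGroup N] [Module R N]
    {P : RootPairing ι R M N}

theorem base_support_injective (P : RootPairing ι R M N) :
    Function.Injective (fun b : P.Base => b.support) := by
  intro b b' h
  cases b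
  cases b'
  simp only at h
  subst h
  rfl

instance finite_base [Finite ι] (P : RootPairing ι R M N) : Finite P.Base :=
  Finite.of_injective _ (base_support_injective P)

variable [P.IsRootSystem]

/-- Pairing of a vector with an element of `N`, expanded along the fundamental weights. -/
theorem pairing_expand (b : P.Base) (ξ : M) (y : N) :
    P.toLinearMap ξ y = ∑ l : b.support, P.coroot' l ξ * P.toLinearMap (fundWeight b l) y := by
  conv_lhs => rw [expand b ξ]
  rw [map_sum, LinearMap.sum_apply]
  exact Finset.sum_congr rfl (fun l _ => by rw [map_smul, LinearMap.smul_apply, smul_eq_mul])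

theorem fundWeight_mem_baseCorners (b : P.Base) (l : b.support) :
    fundWeight b l ∈ baseCorners b :=
  ⟨⟨b, l, rfl⟩, fundWeight_mem_closedChamber b l⟩

theorem exists_vec_of_dual (P : RootPairing ι R M N) [P.IsRootSystem] (f : N →ₗ[R] R) :
    ∃ ξ : M, ∀ y, P.toLinearMap ξ y = f y := by
  refine ⟨P.toPerfPair.symm f, fun y => ?_⟩
  rw [P.toLinearMap.apply_symm_toPerfPair_self]

/-- Condition (iii): all corner pairings are non-positive. -/
def CondIII (d : P.Base → N) : Prop :=
  ∀ (b : P.Base), ∀ m ∈ baseCorners b, P.toLinearMap m (d b) ≤ 0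

theorem pairing_nonpos_of_condIII (d : P.Base → N) (h : CondIII d) (b : P.Base) (ξ : M)
    (hξ : ξ ∈ closedChamber b) : P.toLinearMap ξ (d b) ≤ 0 := by
  rw [pairing_expand b ξ]
  apply Finset.sum_nonpos
  intro l _
  exact mul_nonpos_of_nonneg_of_nonpos (hξ l l.2) (h b _ (fundWeight_mem_baseCorners b l))

section Main

variable [Finite ι] [P.IsCrystallographic] [P.IsReduced]

/-- S14241. -/
theorem condIII_iff_isSemistable (d : P.Base → N) (hd : IsCCS d) :
    CondIII d ↔ IsSemistable d := by
  constructor
  · intro h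
    by_contra hns
    obtain ⟨f, hf⟩ := Gordan.exists_separating (K := R) d (0 : N) hns
    obtain ⟨ξ, hξ⟩ := exists_vec_of_dual P f
    obtain ⟨b, hb⟩ := exists_base_mem_closedChamber P ξ
    have h1 := pairing_nonpos_of_condIII d h b ξ hb
    have h2 := hf b
    rw [map_zero, ← hξ] at h2
    linarith
  · intro h b m hm
    have hconv : Convex R {y : N | P.toLinearMap m (d b) ≤ P.toLinearMap m y} :=
      convex_halfSpace_ge (P.toLinearMap m).isLinear _
    have hsub : Set.range d ⊆ {y : N | P.toLinearMap m (d b) ≤ P.toLinearMap m y} := by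
      rintro _ ⟨b', rfl⟩
      exact key_ineq d hd b m hm b'
    have := convexHull_min hsub hconv h
    simpa using this

theorem deg_eq_pairing (d : P.Base → N) (F : Facet P) (b : P.Base) :
    F.deg d b = P.toLinearMap (∑ i ∈ (Set.toFinite F.parab).toFinset, P.root i) (d b) := by
  unfold Facet.deg
  rw [sum_root'_eq]

theorem deg_nonpos_of_condIII (d : P.Base → N) (h : CondIII d) (F : Facet P) (b : P.Base)
    (hb : b ∈ F.cham) : F.deg d b ≤ 0 := by
  rw [deg_eq_pairing]
  exact pairing_nonpos_of_condIII d h b _ (hb (sum_root_parab_mem_carrier F))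

/-- The facet spanned by a fundamental weight. -/
theorem ray_facet (b : P.Base) (l : b.support) :
    b ∈ (Facet.ofVec P (fundWeight b l)).cham ∧
    (∀ j : b.support, (Facet.ofVec P (fundWeight b l)).sgn j ≠ 0 ↔ j = l) := by
  classical
  refine ⟨facet_ofVec_mem_cham b _ (fundWeight_mem_closedChamber b l), fun j => ?_⟩
  rw [facet_sgn_ne_zero_iff (Facet.ofVec P (fundWeight b l)) (fundWeight b l) rfl,
    coroot'_fundWeight b l j j.2]
  constructor
  · intro h
    by_contra hne
    rw [if_neg (fun h' => hne (Subtype.ext h'))] at h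
    exact h rfl
  · rintro rfl
    rw [if_pos rfl]
    exact one_ne_zero

theorem condIII_of_deg_ray (d : P.Base → N)
    (h : ∀ (b : P.Base) (l : b.support),
      (Facet.ofVec P (fundWeight b l)).deg d b ≤ 0) : CondIII d := by
  classical
  intro b m hm
  rw [baseCorners_eq] at hm
  obtain ⟨l, rfl⟩ := hm
  obtain ⟨hcham, hsgn⟩ := ray_facet b l
  set F := Facet.ofVec P (fundWeight b l) with hF
  have h1 := h b l
  rw [deg_eq_pairing] at h1
  set v := ∑ i ∈ (Set.toFinite F.parab).toFinset, P.root i with hv
  have hvmem : v ∈ F.carrier := sum_root_parab_mem_carrier F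
  have hv' := (facet_mem_carrier_iff F b hcham v).mp hvmem
  have hveq : v = P.coroot' l v • fundWeight b l := by
    conv_lhs => rw [expand b v]
    rw [Finset.sum_eq_single l]
    · intro j _ hj
      have : F.sgn j = 0 := by
        by_contra hne
        exact hj ((hsgn j).mp hne)
      rw [(hv' j j.2).1 this, zero_smul]
    · intro h
      exact absurd (Finset.mem_univ _) h
  have hpos : 0 < P.coroot' l v := (hv' l l.2).2 ((hsgn l).mpr rfl)
  rw [hveq, map_smul, LinearMap.smul_apply, smul_eq_mul] at h1
  by_contra hcon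
  push_neg at hcon
  have := mul_pos hpos hcon
  linarith

/-- S14239. -/
theorem deg_nonpos_iff_isSemistable (d : P.Base → N) (hd : IsCCS d) :
    (∀ (F : Facet P) (b : P.Base), b ∈ F.cham → F.deg d b ≤ 0) ↔ IsSemistable d := by
  rw [← condIII_iff_isSemistable d hd]
  constructor
  · intro h
    exact condIII_of_deg_ray d (fun b l => h _ b (ray_facet b l).1)
  · intro h F b hb
    exact deg_nonpos_of_condIII d h F b hb

theorem dim_ray_facet (b : P.Base) (l : b.support) :
    (Facet.ofVec P (fundWeight b l)).dim = 1 := by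
  obtain ⟨hcham, hsgn⟩ := ray_facet b l
  unfold Facet.dim
  rw [span_carrier_eq, facet_corners_eq _ b hcham]
  have : {m | ∃ j : b.support, (Facet.ofVec P (fundWeight b l)).sgn j ≠ 0 ∧ fundWeight b j = m}
      = {fundWeight b l} := by
    ext m
    simp only [Set.mem_setOf_eq, Set.mem_singleton_iff]
    constructor
    · rintro ⟨j, hj, rfl⟩
      rw [(hsgn j).mp hj]
    · rintro rfl
      exact ⟨l, (hsgn l).mpr rfl, rfl⟩
  rw [this]
  apply finrank_span_singleton
  intro h0
  have := coroot'_fundWeight_self b l
  rw [h0, map_zero] at this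
  exact zero_ne_one this

/-- S14240. -/
theorem deg_nonpos_dim_one_iff_isSemistable (d : P.Base → N) (hd : IsCCS d) :
    (∀ (F : Facet P) (b : P.Base), F.dim = 1 → b ∈ F.cham → F.deg d b ≤ 0) ↔
      IsSemistable d := by
  rw [← condIII_iff_isSemistable d hd]
  constructor
  · intro h
    exact condIII_of_deg_ray d (fun b l => h _ b (dim_ray_facet b l) (ray_facet b l).1)
  · intro h F b _ hb
    exact deg_nonpos_of_condIII d h F b hb

end Main

end Groth.Agent.Lib.T2H1.RootCh
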