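import Groth.Agent.Lib.T2H1RootCh5

set_option autoImplicit false
universe u v w x
open RootCh Module

namespace Groth.Agent.Lib.T2H1.RootCh

variable {ι : Type u} {R : Type v} {M : Type w} {N : Type x}
    [Field R] [LinearOrder R] [IsStrictOrderedRing R]
    [AddCommGroup M] [Module R M] [AddCommGroup N] [Module R N]
    {P : RootPairing ι R M N}

theorem exists_small [Finite ι] (P : RootPairing ι R M N) (ξF ξ : M) :
    ∃ ε : R, 0 < ε ∧ ∀ i, P.coroot' i ξF ≠ 0 → |ε * P.coroot' i ξ| < |P.coroot' i ξF| := by
  classical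
  haveI : Fintype ι := Fintype.ofFinite ι
  obtain ⟨ε, hε, hlt⟩ := exists_pos_lt_of_finite
    (Finset.univ.filter (fun i : ι => P.coroot' i ξF ≠ 0))
    (fun i => |P.coroot' i ξF| / (|P.coroot' i ξ| + 1))
    (fun i hi => div_pos (abs_pos.mpr (Finset.mem_filter.mp hi).2)
      (by have := abs_nonneg (P.coroot' i ξ); linarith))
  refine ⟨ε, hε, fun i hi => ?_⟩
  have h1 := hlt i (Finset.mem_filter.mpr ⟨Finset.mem_univ _, hi⟩)
  have hpos : 0 < |P.coroot' i ξ| + 1 := by have := abs_nonneg (P.coroot' i ξ); linarith
  rw [lt_div_iff₀ hpos] at h1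
  rw [abs_mul, abs_of_pos hε]
  nlinarith [abs_nonneg (P.coroot' i ξ)]

theorem sign_add_of_abs_lt (a r : R) (h : |r| < |a|) : SignType.sign (a + r) = SignType.sign a := by
  rcases lt_trichotomy a 0 with ha | ha | ha
  · rw [abs_of_neg ha] at h
    have : a + r < 0 := by have := le_abs_self r; linarith
    rw [sign_neg this, sign_neg ha]
  · rw [ha, abs_zero] at h
    exact absurd h (not_lt.mpr (abs_nonneg r))
  · rw [abs_of_pos ha] at h
    have : 0 < a + r := by have := neg_abs_le r; linarith
    rw [sign_pos this, sign_pos ha]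

theorem convex_hyper [P.IsRootSystem] (d : P.Base → N) (m : M) : Convex R (hyper d m) := by
  intro x hx y hy a c _ _ hac b hb
  have h1 := hx b hb
  have h2 := hy b hb
  rw [map_add, map_smul, map_smul, h1, h2, smul_eq_mul, smul_eq_mul, ← add_mul, hac, one_mul]

theorem convex_halfClosed [P.IsRootSystem] (d : P.Base → N) (m : M) :
    Convex R (halfClosed d m) := by
  intro x hx y hy a c ha hc hac b hb
  have h1 := hx b hb
  have h2 := hy b hb
  rw [map_add, map_smul, map_smul, smul_eq_mul, smul_eq_mul]
  calc P.toLinearMap m (d b) = a * P.toLinearMap m (d b) + c * P.toLinearMap m (d b) := by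
        rw [← add_mul, hac, one_mul]
    _ ≤ a * P.toLinearMap m x + c * P.toLinearMap m y :=
        add_le_add (mul_le_mul_of_nonneg_left h1 ha) (mul_le_mul_of_nonneg_left h2 hc)

variable [P.IsRootSystem] [Finite ι] [P.IsCrystallographic] [P.IsReduced]

/-- S14238. -/
theorem dualSolid_eq (d : P.Base → N) (hd : IsCCS d) (F : Facet P) :
    dualSolid d F = (⋂ m ∈ F.corners, hyper d m) ∩ ⋂ m ∈ F.corners', halfClosed d m := by
  classical
  apply Set.Subset.antisymm
  · unfold dualSolid
    apply convexHull_min
    · rintro _ ⟨b, hb, rfl⟩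
      refine ⟨?_, ?_⟩
      · simp only [Set.mem_iInter]
        intro m hm b' hb'
        exact hd.corner_eq b b' m (corners_subset_baseCorners F b hb hm) hb'
      · simp only [Set.mem_iInter]
        intro m _ b' hb'
        exact key_ineq d hd b' m hb' b
    · exact (convex_iInter₂ (fun m _ => convex_hyper d m)).inter
        (convex_iInter₂ (fun m _ => convex_halfClosed d m))
  · rintro y ⟨hy1, hy2⟩
    simp only [Set.mem_iInter] at hy1 hy2
    by_contra hns
    unfold dualSolid at hns
    rw [Set.image_eq_range] at hns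
    obtain ⟨f, hf⟩ := Gordan.exists_separating (K := R) (fun b : F.cham => d b) y hns
    obtain ⟨ξ, hξ⟩ := exists_vec_of_dual P f
    obtain ⟨ξF, hξF⟩ := facet_carrier_nonempty F
    obtain ⟨ε, hε, hsmall⟩ := exists_small P ξF ξ
    obtain ⟨b, hb'⟩ := exists_base_mem_closedChamber P (ξF + ε • ξ)
    have hval : ∀ i, P.coroot' i (ξF + ε • ξ) = P.coroot' i ξF + ε * P.coroot' i ξ := by
      intro i
      rw [map_add, map_smul, smul_eq_mul]
    -- (a)
    have hξFb : ξF ∈ closedChamber b := by
      intro j hj
      by_contra hneg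
      push_neg at hneg
      have h1 := sign_add_of_abs_lt _ _ (hsmall j hneg.ne)
      rw [← hval, sign_neg hneg, sign_eq_neg_one_iff] at h1
      have := hb' j hj
      linarith
    have hb : b ∈ F.cham := (facet_mem_cham_iff F ξF hξF b).mpr hξFb
    -- (c)
    have hc : ∀ l : b.support, F.sgn l = 0 → 0 ≤ P.coroot' l ξ := by
      intro l hl
      have h0 : P.coroot' l ξF = 0 := by
        by_contra hne
        exact (facet_sgn_ne_zero_iff F ξF hξF l).mpr hne hl
      have := hb' l l.2
      rw [hval, h0, zero_add] at this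
      exact nonneg_of_mul_nonneg_right this hε
    -- (d)
    have hd' : P.toLinearMap ξ (d b) ≤ P.toLinearMap ξ y := by
      rw [pairing_expand b ξ (d b), pairing_expand b ξ y]
      apply Finset.sum_le_sum
      intro l _
      by_cases hl : F.sgn l = 0
      · apply mul_le_mul_of_nonneg_left _ (hc l hl)
        refine hy2 (fundWeight b l) ?_ b (fundWeight_mem_baseCorners b l)
        exact Set.mem_iUnion₂.mpr ⟨b, hb, fundWeight_mem_baseCorners b l⟩
      · have hcor : fundWeight b l ∈ F.corners := (fundWeight_mem_corners_iff F b hb l).mpr hl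
        rw [hy1 (fundWeight b l) hcor b (fundWeight_mem_baseCorners b l)]
    have := hf ⟨b, hb⟩
    simp only at this
    rw [← hξ, ← hξ] at this
    linarith

end Groth.Agent.Lib.T2H1.RootCh
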