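import Groth.Agent.Lib.T2H1RootCh6

set_option autoImplicit false
universe u v w x
open RootCh Module

namespace Groth.Agent.Lib.T2H1.RootCh

variable {ι : Type u} {R : Type v} {M : Type w} {N : Type x}
    [Field R] [LinearOrder R] [IsStrictOrderedRing R]
    [AddCommGroup M] [Module R M] [AddCommGroup N] [Module R N]
    {P : RootPairing ι R M N} [P.IsRootSystem]

theorem polarization_fundWeight [Fintype ι] (b : P.Base) (i : b.support) :
    P.Polarization (fundWeight b i)
      = (P.RootForm (P.root i) (P.root i) / 2) • fundCoweight b i := by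
  classical
  apply eq_of_root'_eq b
  intro j hj
  rw [map_smul, smul_eq_mul, root'_fundCoweight b i j hj]
  change P.toLinearMap (P.root j) (P.Polarization (fundWeight b i)) = _
  rw [P.toLinearMap_apply_apply_Polarization, ← P.rootForm_symmetric.eq, RingHom.id_apply]
  have h2 := two_mul_rootForm P (fundWeight b i) j
  rw [coroot'_fundWeight b i j hj] at h2
  split_ifs with h
  · subst h
    rw [if_pos rfl] at h2
    linarith
  · rw [if_neg h] at h2
    linarith

/-- Expansion of an element of `N` in the fundamental coweights. -/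
theorem expandCo (b : P.Base) (y : N) :
    y = ∑ j : b.support, P.root' j y • fundCoweight b j :=
  expand (P := P.flip) b.flip y

theorem rootForm_self_eq_zero [Fintype ι] (b : P.Base) (u : M) (h : P.RootForm u u = 0) :
    u = 0 := by
  rw [P.rootForm_apply_apply] at h
  have h0 := (Finset.sum_eq_zero_iff_of_nonneg (fun i _ => mul_self_nonneg _)).mp h
  apply eq_of_coroot'_eq b
  intro j _
  rw [map_zero]
  exact mul_self_eq_zero.mp (h0 j (Finset.mem_univ j))

/-- Nondegeneracy used for the uniqueness of `y(F)`. -/
theorem eq_zero_of_pairings [Finite ι] (b : P.Base) (J : b.support → Prop) (z : N)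
    (h1 : ∀ l : b.support, ¬ J l → P.root' l z = 0)
    (h2 : ∀ j : b.support, J j → P.toLinearMap (fundWeight b j) z = 0) : z = 0 := by
  classical
  haveI : Fintype ι := Fintype.ofFinite ι
  have hB : ∀ k, 0 < P.RootForm (P.root k) (P.root k) := rootForm_root_pos P
  set c : b.support → R := fun j => 2 * P.root' j z / P.RootForm (P.root j) (P.root j) with hc
  set u : M := ∑ j : b.support, c j • fundWeight b j with hu
  have hpol : P.Polarization u = z := by
    rw [hu, map_sum]
    conv_rhs => rw [expandCo b z]
    apply Finset.sum_congr rfl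
    intro j _
    rw [map_smul, polarization_fundWeight, smul_smul, hc]
    congr 1
    have := (hB j).ne'
    field_simp
  have hform : ∀ ξ : M, P.RootForm u ξ = P.toLinearMap ξ z := by
    intro ξ
    rw [← P.toLinearMap_apply_apply_Polarization, hpol]
  have huu : P.RootForm u u = 0 := by
    rw [hform, hu, map_sum, LinearMap.sum_apply]
    apply Finset.sum_eq_zero
    intro j _
    rw [map_smul, LinearMap.smul_apply, smul_eq_mul]
    by_cases hj : J j
    · rw [h2 j hj, mul_zero]
    · rw [hc]
      simp only
      rw [h1 j hj, mul_zero, zero_div, zero_mul]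
  have hu0 : u = 0 := rootForm_self_eq_zero b u huu
  rw [← hpol, hu0, map_zero]

theorem root'_eq_zero_of_mem_span_dualCarrier (F : Facet P) (l : ι) (hl : F.sgn l = 0) (z : N)
    (hz : z ∈ Submodule.span R F.dualCarrier) : P.root' l z = 0 := by
  have hle : Submodule.span R F.dualCarrier ≤ LinearMap.ker (P.root' l) := by
    rw [Submodule.span_le]
    intro x hx
    have h1 : cosgnVec P x = F.sgn := hx
    have h2 : cosgnVec P x l = 0 := by rw [h1, hl]
    exact sign_eq_zero_iff.mp h2
  exact hle hz

section Main

variable [Finite ι] [P.IsCrystallographic] [P.IsReduced]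

theorem dualSolid_subset_hyper (d : P.Base → N) (hd : IsCCS d) (F : Facet P) (y : N)
    (hy : y ∈ dualSolid d F) (m : M) (hm : m ∈ F.corners) : y ∈ hyper d m := by
  rw [dualSolid_eq d hd F] at hy
  have := hy.1
  simp only [Set.mem_iInter] at this
  exact this m hm

theorem yLocus_eq_singleton (d : P.Base → N) (hd : IsCCS d) (F : Facet P) (y₀ : N)
    (hy1 : y₀ ∈ F.dualCarrier) (hy2 : y₀ ∈ dualSolid d F) : yLocus d F = {y₀} := by
  obtain ⟨b, hb⟩ := facet_exists_mem_cham F
  have hmem : ∀ y, y ∈ yLocus d F ↔ (∀ m ∈ F.corners, y ∈ hyper d m) ∧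
      y ∈ Submodule.span R F.dualCarrier := by
    intro y
    unfold yLocus
    simp only [Set.mem_inter_iff, Set.mem_iInter, SetLike.mem_coe]
  ext y
  rw [Set.mem_singleton_iff, hmem]
  constructor
  · rintro ⟨hy_h, hy_s⟩
    have hz : y - y₀ = 0 := by
      apply eq_zero_of_pairings b (fun j => F.sgn j ≠ 0)
      · intro l hl
        have hl' : F.sgn l = 0 := not_not.mp hl
        exact root'_eq_zero_of_mem_span_dualCarrier F l hl' _
          (Submodule.sub_mem _ hy_s (Submodule.subset_span hy1))
      · intro j hj
        have hcor : fundWeight b j ∈ F.corners := (fundWeight_mem_corners_iff F b hb j).mpr hj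
        have e1 := hy_h _ hcor b (fundWeight_mem_baseCorners b j)
        have e2 := dualSolid_subset_hyper d hd F y₀ hy2 _ hcor b (fundWeight_mem_baseCorners b j)
        rw [map_sub, e1, e2, sub_self]
    exact sub_eq_zero.mp hz
  · rintro rfl
    exact ⟨fun m hm => dualSolid_subset_hyper d hd F y hy2 m hm, Submodule.subset_span hy1⟩

/-- S14251. -/
theorem exists_yLocus_eq (d : P.Base → N) (hd : IsCCS d) (F : Facet P) (hF : IsSpecial d F) :
    ∃ y₀ : N, yLocus d F = {y₀} ∧ F.dualCarrier ∩ dualSolid d F = {y₀} := by
  obtain ⟨y₀, hy1, hy2⟩ := hF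
  have h := yLocus_eq_singleton d hd F y₀ hy1 hy2
  refine ⟨y₀, h, ?_⟩
  ext y
  rw [Set.mem_singleton_iff]
  constructor
  · rintro ⟨h1, h2⟩
    have := yLocus_eq_singleton d hd F y h1 h2
    rw [h] at this
    have hy : y ∈ ({y} : Set N) := rfl
    rw [← this] at hy
    exact hy
  · rintro rfl
    exact ⟨hy1, hy2⟩

end Main

end Groth.Agent.Lib.T2H1.RootCh
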