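import Groth.Agent.Lib.T2H1RootCh7

set_option autoImplicit false
universe u v w x
open RootCh Module

namespace Groth.Agent.Lib.T2H1.RootCh

variable {ι : Type u} {R : Type v} {M : Type w} {N : Type x}
    [Field R] [LinearOrder R] [IsStrictOrderedRing R]
    [AddCommGroup M] [Module R M] [AddCommGroup N] [Module R N]
    {P : RootPairing ι R M N} [P.IsRootSystem]

/-- A sum over a subset is at most the sum of the positive terms, with equality only if the subset
contains all positive terms and no negative one. -/
theorem sum_le_sum_pos {κ : Type*} [Fintype κ] [DecidableEq κ] (a : κ → R) (T : Finset κ) :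
    ∑ i ∈ T, a i ≤ ∑ i ∈ Finset.univ.filter (fun i => 0 < a i), a i ∧
    (∑ i ∈ T, a i = ∑ i ∈ Finset.univ.filter (fun i => 0 < a i), a i →
      (∀ i, 0 < a i → i ∈ T) ∧ (∀ i ∈ T, 0 ≤ a i)) := by
  classical
  set t : κ → R := fun i => (if 0 < a i then a i else 0) - (if i ∈ T then a i else 0) with ht
  have ht0 : ∀ i, 0 ≤ t i := by
    intro i
    rw [ht]
    simp only
    by_cases h1 : 0 < a i <;> by_cases h2 : i ∈ T <;> simp [h1, h2]
    · exact h1.le
    · exact not_lt.mp h1
  have hsum : ∑ i, t i = ∑ i ∈ Finset.univ.filter (fun i => 0 < a i), a i - ∑ i ∈ T, a i := by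
    rw [ht, Finset.sum_sub_distrib, Finset.sum_filter]
    congr 1
    rw [← Finset.sum_filter]
    congr 1
    ext i
    simp
  constructor
  · have := Finset.sum_nonneg (fun i _ => ht0 i) (s := Finset.univ)
    rw [hsum] at this
    linarith
  · intro heq
    have h0 : ∑ i, t i = 0 := by rw [hsum, heq, sub_self]
    have hall := (Finset.sum_eq_zero_iff_of_nonneg (fun i _ => ht0 i)).mp h0
    constructor
    · intro i hi
      by_contra hiT
      have := hall i (Finset.mem_univ i)
      rw [ht] at this
      simp only [hi, hiT, if_true, if_false, sub_zero] at this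
      exact hi.ne' this
    · intro i hiT
      by_contra hneg
      push_neg at hneg
      have := hall i (Finset.mem_univ i)
      rw [ht] at this
      simp only [not_lt.mpr hneg.le, hiT, if_true, if_false, zero_sub, neg_eq_zero] at this
      exact hneg.ne this

section Main

variable [Finite ι] [P.IsCrystallographic] [P.IsReduced]

/-- `d c` minimises `⟨ξ, ·⟩` over the solid for dominant `ξ`. -/
theorem pairing_le_of_mem_solid (d : P.Base → N) (hd : IsCCS d) (c : P.Base) (ξ : M)
    (hξ : ξ ∈ closedChamber c) (y : N) (hy : y ∈ solid d) :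
    P.toLinearMap ξ (d c) ≤ P.toLinearMap ξ y := by
  have hconv : Convex R {y : N | P.toLinearMap ξ (d c) ≤ P.toLinearMap ξ y} :=
    convex_halfSpace_ge (P.toLinearMap ξ).isLinear _
  have hsub : Set.range d ⊆ {y : N | P.toLinearMap ξ (d c) ≤ P.toLinearMap ξ y} := by
    rintro _ ⟨b', rfl⟩
    change P.toLinearMap ξ (d c) ≤ P.toLinearMap ξ (d b')
    rw [pairing_expand c ξ (d c), pairing_expand c ξ (d b')]
    apply Finset.sum_le_sum
    intro l _
    exact mul_le_mul_of_nonneg_left
      (key_ineq d hd c _ (fundWeight_mem_baseCorners c l) b') (hξ l l.2)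
  exact convexHull_min hsub hconv hy

theorem dualSolid_subset_solid (d : P.Base → N) (F : Facet P) : dualSolid d F ⊆ solid d :=
  convexHull_mono (Set.image_subset_range _ _)

theorem pairing_eq_of_mem_dualSolid (d : P.Base → N) (hd : IsCCS d) (F : Facet P) (b : P.Base)
    (hb : b ∈ F.cham) (y : N) (hy : y ∈ dualSolid d F) (v : M)
    (hv : v ∈ Submodule.span R F.corners) :
    P.toLinearMap v y = P.toLinearMap v (d b) := by
  induction hv using Submodule.span_induction with
  | mem m hm =>
    exact dualSolid_subset_hyper d hd F y hy m hm b (corners_subset_baseCorners F b hb hm)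
  | zero => simp
  | add x y _ _ hx hy => rw [map_add, LinearMap.add_apply, LinearMap.add_apply, hx, hy]
  | smul a x _ hx => rw [map_smul, LinearMap.smul_apply, LinearMap.smul_apply, hx]

theorem sum_parab_mem_span_corners (F : Facet P) :
    (∑ i ∈ (Set.toFinite F.parab).toFinset, P.root i) ∈ Submodule.span R F.corners := by
  rw [← span_carrier_eq]
  exact Submodule.subset_span (sum_root_parab_mem_carrier F)

/-- S14248. -/
theorem special_isGreatest (d : P.Base → N) (hd : IsCCS d) (F : Facet P) (b : P.Base)
    (hb : b ∈ F.cham) (hF : IsSpecial d F) :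
    (∀ (G : Facet P) (c : P.Base), c ∈ G.cham → G.deg d c ≤ F.deg d b) ∧
      ∀ (G : Facet P) (c : P.Base), c ∈ G.cham → G.deg d c = F.deg d b → G ≤ F := by
  classical
  haveI : Fintype ι := Fintype.ofFinite ι
  obtain ⟨y₀, hy1, hy2⟩ := hF
  have hsgn : ∀ i, SignType.sign (P.root' i y₀) = F.sgn i := fun i => congrFun hy1 i
  set a : ι → R := fun i => P.root' i y₀ with ha
  -- degree of F
  have hdegF : F.deg d b = ∑ i ∈ (Set.toFinite F.parab).toFinset, a i := by
    rw [deg_eq_pairing, ← pairing_eq_of_mem_dualSolid d hd F b hb y₀ hy2 _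
      (sum_parab_mem_span_corners F), ← sum_root'_eq]
  have hFpos : ∑ i ∈ (Set.toFinite F.parab).toFinset, a i
      = ∑ i ∈ Finset.univ.filter (fun i => 0 < a i), a i := by
    rw [← Finset.sum_filter_add_sum_filter_not (Set.toFinite F.parab).toFinset (fun i => 0 < a i)]
    have h2 : ∑ i ∈ (Set.toFinite F.parab).toFinset.filter (fun i => ¬ 0 < a i), a i = 0 := by
      apply Finset.sum_eq_zero
      intro i hi
      rw [Finset.mem_filter, mem_parab_toFinset] at hi
      obtain ⟨h1, h2⟩ := hi
      have hle : a i ≤ 0 := not_lt.mp h2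
      rcases hle.eq_or_lt with h | h
      · exact h
      · exfalso
        apply h1
        rw [← hsgn i]
        exact sign_neg h
    rw [h2, add_zero]
    congr 1
    ext i
    simp only [Finset.mem_filter, mem_parab_toFinset, Finset.mem_univ, true_and,
      and_iff_right_iff_imp]
    intro hi
    rw [← hsgn i, sign_pos hi]
    decide
  -- degree of G
  have hdegG : ∀ (G : Facet P) (c : P.Base), c ∈ G.cham →
      G.deg d c ≤ ∑ i ∈ (Set.toFinite G.parab).toFinset, a i := by
    intro G c hc
    rw [deg_eq_pairing, ha]
    simp only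
    rw [sum_root'_eq]
    exact pairing_le_of_mem_solid d hd c _ (hc (sum_root_parab_mem_carrier G)) y₀
      (dualSolid_subset_solid d F hy2)
  constructor
  · intro G c hc
    rw [hdegF, hFpos]
    exact (hdegG G c hc).trans (sum_le_sum_pos a _).1
  · intro G c hc heq
    rw [hdegF, hFpos] at heq
    have h1 := hdegG G c hc
    have h2 := (sum_le_sum_pos a (Set.toFinite G.parab).toFinset).1
    have h3 : ∑ i ∈ (Set.toFinite G.parab).toFinset, a i
        = ∑ i ∈ Finset.univ.filter (fun i => 0 < a i), a i := le_antisymm h2 (heq ▸ h1)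
    obtain ⟨hA, hB⟩ := (sum_le_sum_pos a (Set.toFinite G.parab).toFinset).2 h3
    -- key facts
    have hneg : ∀ i, F.sgn i = -1 → G.sgn i = -1 := by
      intro i hi
      by_contra hne
      have := hB i ((mem_parab_toFinset G i).mpr hne)
      have hlt : a i < 0 := by
        rw [← hsgn i] at hi
        exact sign_eq_neg_one_iff.mp hi
      linarith
    intro i
    rcases hs : F.sgn i with _ | _ | _
    · left
      rfl
    · right
      change F.sgn i = -1 at hs
      exact (hneg i hs).symm
    · right
      change F.sgn i = 1 at hs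
      have h4 : F.sgn (P.reflectionPerm i i) = -1 := by
        rw [facet_sgn_neg, hs]
      have h5 := hneg _ h4
      rw [facet_sgn_neg] at h5
      have : G.sgn i = 1 := by
        rcases hg : G.sgn i with _ | _ | _ <;> rw [hg] at h5 <;> first | rfl | exact absurd h5 (by decide)
      exact this.symm

end Main

end Groth.Agent.Lib.T2H1.RootCh
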