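import Groth.Agent.Lib.T2H1RootCh8
import Groth.Agent.Lib.T2H1Closest

set_option autoImplicit false
universe u v w x
open RootCh Module

namespace Groth.Agent.Lib.T2H1.RootCh

variable {ι : Type u} {R : Type v} {M : Type w} {N : Type x}
    [Field R] [LinearOrder R] [IsStrictOrderedRing R]
    [AddCommGroup M] [Module R M] [AddCommGroup N] [Module R N]
    {P : RootPairing ι R M N} [P.IsRootSystem]

theorem two_mul_B_coroot (B : LinearMap.BilinForm R N)
    (hBi : ∀ (i : ι) (y z : N), B (P.coreflection i y) (P.coreflection i z) = B y z)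
    (y : N) (i : ι) :
    2 * B y (P.coroot i) = P.root' i y * B (P.coroot i) (P.coroot i) := by
  have h := hBi i y (P.coroot i)
  rw [P.coreflection_apply, P.coreflection_apply, P.root'_coroot_eq_pairing, P.pairing_same] at h
  have h2 : P.coroot i - (2 : R) • P.coroot i = - P.coroot i := by
    rw [two_smul]; abel
  rw [h2] at h
  simp only [map_sub, map_smul, map_neg, LinearMap.sub_apply, LinearMap.smul_apply,
    LinearMap.neg_apply, smul_eq_mul] at h
  linarith

theorem exists_xi (B : LinearMap.BilinForm R N)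
    (hBp : ∀ y : N, y ≠ 0 → 0 < B y y)
    (hBi : ∀ (i : ι) (y z : N), B (P.coreflection i y) (P.coreflection i z) = B y z)
    (y₀ : N) :
    ∃ ξ₀ : M, (∀ y, P.toLinearMap ξ₀ y = B y₀ y) ∧ sgnVec P ξ₀ = cosgnVec P y₀ := by
  obtain ⟨ξ₀, hξ₀⟩ := exists_vec_of_dual P (B y₀)
  refine ⟨ξ₀, hξ₀, ?_⟩
  funext i
  change SignType.sign (P.toLinearMap ξ₀ (P.coroot i)) = SignType.sign (P.root' i y₀)
  have hpos : 0 < B (P.coroot i) (P.coroot i) := hBp _ (P.flip.ne_zero i)
  have h2 := two_mul_B_coroot B hBi y₀ i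
  have h3 : P.toLinearMap ξ₀ (P.coroot i) = P.root' i y₀ * (B (P.coroot i) (P.coroot i) / 2) := by
    rw [hξ₀]
    linarith
  rw [h3, sign_mul, sign_pos (half_pos hpos), mul_one]

section Main

variable [Finite ι] [P.IsCrystallographic] [P.IsReduced]

/-- S14244. -/
theorem special_closest (d : P.Base → N) (hd : IsCCS d)
    (B : LinearMap.BilinForm R N) (hBs : ∀ y z : N, B y z = B z y)
    (hBp : ∀ y : N, y ≠ 0 → 0 < B y y)
    (hBi : ∀ (i : ι) (y z : N), B (P.coreflection i y) (P.coreflection i z) = B y z)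
    (F : Facet P) (hF : IsSpecial d F) :
    ∃ y₀ : N, yLocus d F = {y₀} ∧ y₀ ∈ solid d ∧
      ∀ y ∈ solid d, y ≠ y₀ → B y₀ y₀ < B y y := by
  obtain ⟨y₀, hy1, hy2⟩ := hF
  obtain ⟨b, hb⟩ := facet_exists_mem_cham F
  obtain ⟨ξ₀, hξ₀, hsgn⟩ := exists_xi B hBp hBi y₀
  have hξF : ξ₀ ∈ F.carrier := by
    change sgnVec P ξ₀ = F.sgn
    rw [hsgn]
    exact hy1
  have hξspan : ξ₀ ∈ Submodule.span R F.corners := by
    rw [← span_carrier_eq]
    exact Submodule.subset_span hξF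
  refine ⟨y₀, yLocus_eq_singleton d hd F y₀ hy1 hy2, dualSolid_subset_solid d F hy2, ?_⟩
  intro y hy hne
  have h1 : B y₀ y₀ ≤ B y₀ y := by
    rw [← hξ₀, ← hξ₀, pairing_eq_of_mem_dualSolid d hd F b hb y₀ hy2 ξ₀ hξspan]
    exact pairing_le_of_mem_solid d hd b ξ₀ (hb hξF) y hy
  have h2 := Closest.norm_expand B hBs hBp y₀ y
  have h3 : 0 < B (y - y₀) (y - y₀) := hBp _ (sub_ne_zero.mpr hne)
  linarith

/-- First order condition at a point of minimal norm of a convex set. -/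
theorem first_order (B : LinearMap.BilinForm R N) (hBs : ∀ y z : N, B y z = B z y)
    (hBp : ∀ y : N, y ≠ 0 → 0 < B y y) (S : Set N) (hS : Convex R S) (y₀ : N) (hy₀ : y₀ ∈ S)
    (hmin : ∀ y ∈ S, B y₀ y₀ ≤ B y y) (y : N) (hy : y ∈ S) : B y₀ y₀ ≤ B y₀ y := by
  by_contra hcon
  push_neg at hcon
  obtain ⟨t, ht0, ht1, hlt⟩ := Closest.exists_step B hBs hBp (B y₀ y₀ - B y₀ y)
    (B (y - y₀) (y - y₀)) (sub_pos.mpr hcon) (Closest.B_self_nonneg B hBs hBp _)
  have hmem : y₀ + t • (y - y₀) ∈ S := by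
    have : y₀ + t • (y - y₀) = (1 - t) • y₀ + t • y := by
      rw [smul_sub, sub_smul, one_smul]; abel
    rw [this]
    exact hS hy₀ hy (by linarith) ht0.le (by ring)
  have h1 := hmin _ hmem
  have h2 : B (y₀ + t • (y - y₀)) (y₀ + t • (y - y₀))
      = B y₀ y₀ + (-2 * t * (B y₀ y₀ - B y₀ y) + t ^ 2 * B (y - y₀) (y - y₀)) := by
    simp only [map_add, map_sub, map_smul, LinearMap.add_apply, LinearMap.sub_apply,
      LinearMap.smul_apply, smul_eq_mul]
    rw [hBs y y₀]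
    ring
  linarith

/-- S14245. -/
theorem closest_special (d : P.Base → N) (hd : IsCCS d)
    (B : LinearMap.BilinForm R N) (hBs : ∀ y z : N, B y z = B z y)
    (hBp : ∀ y : N, y ≠ 0 → 0 < B y y)
    (hBi : ∀ (i : ι) (y z : N), B (P.coreflection i y) (P.coreflection i z) = B y z)
    (y₀ : N) (hy₀ : y₀ ∈ solid d) (hmin : ∀ y ∈ solid d, B y₀ y₀ ≤ B y y)
    (F : Facet P) (hF : y₀ ∈ F.dualCarrier) :
    IsSpecial d F ∧ yLocus d F = {y₀} := by
  classical
  obtain ⟨b, hb⟩ := facet_exists_mem_cham F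
  obtain ⟨ξ₀, hξ₀, hsgn⟩ := exists_xi B hBp hBi y₀
  have hξF : ξ₀ ∈ F.carrier := by
    change sgnVec P ξ₀ = F.sgn
    rw [hsgn]
    exact hF
  have hfo : ∀ y ∈ solid d, B y₀ y₀ ≤ B y₀ y :=
    first_order B hBs hBp (solid d) (convex_convexHull R _) y₀ hy₀ hmin
  have hdb : d b ∈ solid d := subset_convexHull R _ ⟨b, rfl⟩
  have heq : P.toLinearMap ξ₀ (d b) = P.toLinearMap ξ₀ y₀ := by
    apply le_antisymm
    · exact pairing_le_of_mem_solid d hd b ξ₀ (hb hξF) y₀ hy₀
    · rw [hξ₀, hξ₀]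
      exact hfo _ hdb
  have hterm : ∀ l : b.support, F.sgn l ≠ 0 →
      P.toLinearMap (fundWeight b l) y₀ = P.toLinearMap (fundWeight b l) (d b) := by
    intro l hl
    have hsum : ∑ l : b.support, P.coroot' l ξ₀ *
        (P.toLinearMap (fundWeight b l) y₀ - P.toLinearMap (fundWeight b l) (d b)) = 0 := by
      simp only [mul_sub, Finset.sum_sub_distrib]
      rw [← pairing_expand b ξ₀ y₀, ← pairing_expand b ξ₀ (d b), heq, sub_self]
    have hnn : ∀ l ∈ (Finset.univ : Finset b.support), 0 ≤ P.coroot' l ξ₀ *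
        (P.toLinearMap (fundWeight b l) y₀ - P.toLinearMap (fundWeight b l) (d b)) := by
      intro l _
      apply mul_nonneg (hb hξF l l.2)
      rw [sub_nonneg]
      exact pairing_le_of_mem_solid d hd b _ (fundWeight_mem_closedChamber b l) y₀ hy₀
    have h0 := (Finset.sum_eq_zero_iff_of_nonneg hnn).mp hsum l (Finset.mem_univ l)
    have hpos : 0 < P.coroot' l ξ₀ := ((facet_mem_carrier_iff F b hb ξ₀).mp hξF l l.2).2 hl
    rcases mul_eq_zero.mp h0 with h | h
    · exact absurd h hpos.ne'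
    · exact sub_eq_zero.mp h
  have hmem : y₀ ∈ dualSolid d F := by
    rw [dualSolid_eq d hd F]
    refine ⟨?_, ?_⟩
    · simp only [Set.mem_iInter]
      intro m hm b' hb'
      have hm' := hm
      rw [facet_corners_eq F b hb] at hm'
      obtain ⟨l, hl, rfl⟩ := hm'
      rw [hterm l hl]
      exact hd.corner_eq b b' _ (fundWeight_mem_baseCorners b l) hb'
    · simp only [Set.mem_iInter]
      intro m _ b' hb'
      exact pairing_le_of_mem_solid d hd b' m hb'.2 y₀ hy₀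
  exact ⟨⟨y₀, hF, hmem⟩, yLocus_eq_singleton d hd F y₀ hF hmem⟩

end Main

end Groth.Agent.Lib.T2H1.RootCh
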