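import Groth.Agent.Lib.T2H2QcRpushC

/-!
# Uniform bound for the cohomological dimension of `Rf_*` on `D_QCoh`, given relative
Mayer–Vietoris (T2H2)
-/

set_option autoImplicit false
set_option linter.style.haveILetI false
universe u
open CategoryTheory CategoryTheory.Limits AlgebraicGeometry Opposite

attribute [local instance] HasDerivedCategory.standard

namespace Groth.Agent.Lib.T2H2.QcRpush

open Groth.Agent.Lib.Helper23.QCohLocal Groth.Agent.Lib.T2H8.PCohQCoh
  Groth.Agent.Lib.T2H8.PCohTriangle Groth.Agent.Lib.T2H2.AffRpush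

attribute [local instance] Groth.Agent.Lib.T2H1.RpushSupport.hasRpush

/-- `Rh_*` sends `D_QCoh^{≤ 0}` into `D^{< N}`. -/
def Bdd {Y S : Scheme.{u}} (h : Y ⟶ S) (N : ℤ) : Prop :=
  ∀ E : DCoh.D Y, DCoh.IsQCohD E → E.IsLE 0 → ∀ m : ℤ, N ≤ m →
    IsZero (DCoh.HD ((DCoh.Rpush h).obj E) m)

lemma Bdd.mono {Y S : Scheme.{u}} {h : Y ⟶ S} {N N' : ℤ} (hN : Bdd h N) (hNN' : N ≤ N') :
    Bdd h N' :=
  fun E hE hE' m hm => hN E hE hE' m (hNN'.trans hm)

lemma bdd_congr {X S : Scheme.{u}} {m m' : X ⟶ S} (h : m = m') (N : ℤ) :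
    Bdd m N ↔ Bdd m' N := by
  subst h
  exact Iff.rfl

/-- restriction along an open immersion preserves `D^{≤ 0}`. -/
theorem isLE_restrictD {U X : Scheme.{u}} (j : U ⟶ X) [IsOpenImmersion j] (K : DCoh.D X)
    (n : ℤ) [K.IsLE n] : ((DCoh.restrictD j).obj K).IsLE n := by
  rw [DerivedCategory.isLE_iff]
  intro i hi
  exact IsZero.of_iso ((Scheme.Modules.restrictFunctor j).map_isZero
    (DerivedCategory.isZero_of_isLE K n i hi))
    ((mapDerivedCategoryHomologyIso (Scheme.Modules.restrictFunctor j) i).app K)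

/-- zero modules are quasi-coherent. -/
theorem isQCoh_of_isZero {X : Scheme.{u}} {M : X.Modules} (h : IsZero M) :
    M.IsQuasicoherent := by
  haveI : (SheafOfModules.free (R := X.ringCatSheaf) PUnit.{u + 1}).IsQuasicoherent :=
    inferInstance
  exact isQCoh_of_iso ((isZero_kernel_of_mono
    (𝟙 (SheafOfModules.free (R := X.ringCatSheaf) PUnit.{u + 1}))).iso h)
    (isQuasicoherent_kernel _)

/-- affine case: `N = 1`. -/
theorem bdd_of_isAffine {X S : Scheme.{u}} (g : X ⟶ S) [IsAffine X] [IsAffineHom g] :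
    Bdd g 1 := by
  intro E hE hE' m hm
  obtain ⟨F, hF, ⟨e⟩⟩ := exists_qcoh_repr E hE
  haveI : (DerivedCategory.Q.obj F).IsLE 0 :=
    DerivedCategory.TStructure.t.isLE_of_iso e 0
  haveI : F.IsLE 0 := (DerivedCategory.isLE_Q_obj_iff F 0).1 inferInstance
  haveI : QuasiIso (F.ιTruncLE 0) := (F.quasiIso_ιTruncLE_iff 0).2 inferInstance
  haveI : IsIso (DerivedCategory.Q.map (F.ιTruncLE 0)) := by
    rw [DerivedCategory.isIso_Q_map_iff_quasiIso]
    infer_instance
  have hG : ∀ i : ℤ, ((F.truncLE 0).X i).IsQuasicoherent := by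
    intro i
    rcases lt_trichotomy i 0 with hi | rfl | hi
    · exact isQCoh_of_iso (F.truncLEXIso 0 i hi).symm (hF i)
    · haveI : ((F.sc 0).X₂).IsQuasicoherent := hF _
      haveI : ((F.sc 0).X₃).IsQuasicoherent := hF _
      exact isQCoh_of_iso ((F.truncLEXIsoCycles 0).trans ((F.sc 0).cyclesIsoKernel)).symm
        (isQuasicoherent_kernel (F.sc 0).g)
    · exact isQCoh_of_isZero ((F.truncLE 0).isZero_of_isStrictlyLE 0 i hi)
  haveI := Groth.Agent.S7245.result g (F.truncLE 0) hG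
  have e' : (DCoh.Rpush g).obj E ≅ DerivedCategory.Q.obj
      (((Scheme.Modules.pushforward g).mapHomologicalComplex (ComplexShape.up ℤ)).obj
        (F.truncLE 0)) :=
    (DCoh.Rpush g).mapIso (e ≪≫ (asIso (DerivedCategory.Q.map (F.ιTruncLE 0))).symm) ≪≫
      (asIso (((DCoh.pushKh g).totalRightDerivedUnit DerivedCategory.Qh
      (HomotopyCategory.quasiIso X.Modules (ComplexShape.up ℤ))).app
      ((HomotopyCategory.quotient X.Modules (ComplexShape.up ℤ)).obj (F.truncLE 0)))).symm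
  haveI : CochainComplex.IsStrictlyLE
      (((Scheme.Modules.pushforward g).mapHomologicalComplex (ComplexShape.up ℤ)).obj
        (F.truncLE 0)) 0 := by
    rw [CochainComplex.isStrictlyLE_iff]
    intro j hj
    exact (Scheme.Modules.pushforward g).map_isZero ((F.truncLE 0).isZero_of_isStrictlyLE 0 j hj)
  haveI : ((DCoh.Rpush g).obj E).IsLE 0 := DerivedCategory.TStructure.t.isLE_of_iso e'.symm 0
  exact DerivedCategory.isZero_of_isLE _ 0 m (by lia)

end Groth.Agent.Lib.T2H2.QcRpush
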