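import Mathlib
import Groth.Agent.Lib.T2H1AcyclicUnbdd
import Groth.Agent.Lib.T2H1RpushQCCoprod
import Groth.Agent.Lib.T2H2AffRpushA
import Groth.Agent.Lib.T2H2QcRpushD

/-!
# `f_* F ⟶ Rf_* F` for unbounded complexes of quasi-coherent `f_*`-acyclic modules
-/

set_option autoImplicit false
universe u
open CategoryTheory CategoryTheory.Limits AlgebraicGeometry

attribute [local instance] HasDerivedCategory.standard

namespace Groth.Agent.Lib.T2H1.RpushAcyclic

open Groth.Agent.Lib.T2H1.TruncSeq Groth.Agent.Lib.T2H1.AcyclicUnbdd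
  Groth.Agent.Lib.T2H1.RpushQCCoprod Groth.Agent.Lib.T2H1.PushCoprod

section General

variable {C : Type*} [Category C] {D : Type*} [Category D] {J J' : Type*} [Category J]
  [Category J']

/-- preservation of a colimit can be checked after reindexing along an equivalence. -/
lemma preservesColimit_of_equiv_comp (e : J' ≌ J) (K : J ⥤ C) (F : C ⥤ D)
    [PreservesColimit (e.functor ⋙ K) F] : PreservesColimit K F :=
  ⟨fun {c} hc => ⟨IsColimit.ofWhiskerEquivalence e
    (IsColimit.ofIsoColimit (isColimitOfPreserves F (IsColimit.whiskerEquivalence hc e))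
      (Functor.mapCoconeWhisker F))⟩⟩

end General

variable {X S : Scheme.{u}} (f : X ⟶ S) [DCoh.HasRpush f] [QuasiCompact f] [QuasiSeparated f]

/-- `Rf_*` commutes with countable coproducts in `D_QCoh`. -/
theorem preservesColimit_discrete_nat_of_isQCohD (K : ℕ → DCoh.D X)
    (hK : ∀ n, DCoh.IsQCohD (K n)) : PreservesColimit (Discrete.functor K) (DCoh.Rpush f) := by
  haveI : HasCoproducts.{u} (DCoh.D X) := Groth.Agent.Lib.Helper17.DBrown.hasCoproducts_derivedCategory
  haveI : HasCoproducts.{u} (DCoh.D S) := Groth.Agent.Lib.Helper17.DBrown.hasCoproducts_derivedCategory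
  let K' : ULift.{u} ℕ → DCoh.D X := fun n => K n.down
  haveI := isIso_sigmaComparison_of_isQCohD f K' (fun n => hK n.down)
  haveI : PreservesColimit (Discrete.functor K') (DCoh.Rpush f) :=
    PreservesCoproduct.of_iso_comparison _ _
  let e : Discrete (ULift.{u} ℕ) ≌ Discrete ℕ := Discrete.equivalence Equiv.ulift
  haveI : PreservesColimit (e.functor ⋙ Discrete.functor K) (DCoh.Rpush f) :=
    preservesColimit_of_iso_diagram _
      (Discrete.natIso (fun n => Iso.refl _) : Discrete.functor K' ≅ e.functor ⋙ Discrete.functor K)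
  exact preservesColimit_of_equiv_comp e _ _

/-- S1035: the unit `f_* F ⟶ Rf_* F` is an isomorphism for a complex of quasi-coherent
`f_*`-acyclic modules. -/
theorem isIso_unit_of_qcoh_acyclic (F : CochainComplex X.Modules ℤ)
    (hq : ∀ n : ℤ, Coh.IsQCoh (F.X n))
    (hac : ∀ (n : ℤ) (i : ℕ), 0 < i →
      IsZero (((Scheme.Modules.pushforward f).rightDerived i).obj (F.X n))) :
    IsIso (((DCoh.pushKh f).totalRightDerivedUnit DerivedCategory.Qh
      (HomotopyCategory.quasiIso X.Modules (ComplexShape.up ℤ))).app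
      ((HomotopyCategory.quotient X.Modules (ComplexShape.up ℤ)).obj F)) := by
  have hQ : ∀ n : ℕ, DCoh.IsQCohD ((DerivedCategory.Q : _ ⥤ DCoh.D X).obj ((truncSeq F).obj n)) := by
    intro n
    refine Groth.Agent.Lib.T2H2.AffRpush.isQCohD_Q_of_termwise _ (fun i => ?_)
    rcases truncSeq_X F n i with h | ⟨⟨e⟩⟩
    · exact Groth.Agent.Lib.T2H2.QcRpush.isQCoh_of_isZero h
    · exact Groth.Agent.Lib.T2H8.PCohQCoh.isQCoh_of_iso e.symm (hq i)
  refine isIso_app_quotient_of_acyclic (Scheme.Modules.pushforward f) (DCoh.Rpush f) _ F hac ?_ ?_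
  · exact preservesColimit_discrete_nat_of_isQCohD f _ hQ
  · exact preservesColimit_discrete_nat_of_isQCohD f _
      (fun n => Groth.Agent.Lib.T2H1.RpushShift.isQCohD_shift _ (hQ n) 1)

end Groth.Agent.Lib.T2H1.RpushAcyclic
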