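import Groth.Agent.Lib.T2H2QcRpushD
import Groth.Agent.Lib.Helper23ModLocal

/-!
# Uniform bound for `Rf_*` on `D_QCoh`: induction and localization (T2H2)
-/

set_option autoImplicit false
set_option linter.style.haveILetI false
universe u
open CategoryTheory CategoryTheory.Limits AlgebraicGeometry Opposite TopologicalSpace

attribute [local instance] HasDerivedCategory.standard

namespace Groth.Agent.Lib.T2H2.QcRpush

open Groth.Agent.Lib.Helper23.QCohLocal Groth.Agent.Lib.T2H8.PCohQCoh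
  Groth.Agent.Lib.T2H8.PCohTriangle Groth.Agent.Lib.T2H2.AffRpush

attribute [local instance] Groth.Agent.Lib.T2H1.RpushSupport.hasRpush

/-- invariance of the bound under isomorphisms of the source. -/
theorem bdd_of_iso {Y₁ Y₂ S : Scheme.{u}} (e : Y₁ ≅ Y₂) (h₂ : Y₂ ⟶ S) (N : ℤ) (hb : Bdd h₂ N) :
    Bdd (e.hom ≫ h₂) N := by
  intro E hE hE' m hm
  obtain ⟨K₂, hK₂, ⟨i₁⟩⟩ := exists_Rpush_iso_of_iso e h₂ E
  have hq : DCoh.IsQCohD K₂ := by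
    intro n
    obtain ⟨j⟩ := hK₂ n
    haveI : ((DerivedCategory.homologyFunctor Y₁.Modules n).obj E).IsQuasicoherent := hE n
    exact isQCoh_of_iso j.symm (isQuasicoherent_pushforward e.hom _)
  haveI : K₂.IsLE 0 := by
    rw [DerivedCategory.isLE_iff]
    intro i hi
    obtain ⟨j⟩ := hK₂ i
    exact IsZero.of_iso ((Scheme.Modules.pushforward e.hom).map_isZero
      (DerivedCategory.isZero_of_isLE E 0 i hi)) j
  exact IsZero.of_iso (hb K₂ hq inferInstance m hm)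
    ((DerivedCategory.homologyFunctor S.Modules m).mapIso i₁)

lemma isZero_biprod' {C : Type*} [Category C] [Preadditive C] {A B : C} [HasBinaryBiproduct A B]
    (hA : IsZero A) (hB : IsZero B) : IsZero (A ⊞ B) :=
  (IsZero.iff_id_eq_zero _).2 (biprod.hom_ext' _ _ (hA.eq_of_src _ _) (hB.eq_of_src _ _))

/-- the Mayer–Vietoris step. -/
theorem bdd_sup (hMV : RelMV.{u}) {X S : Scheme.{u}} (g : X ⟶ S) (U V : X.Opens)
    (N₁ N₂ N₃ : ℤ) (h₁ : Bdd (U.ι ≫ g) N₁) (h₂ : Bdd (V.ι ≫ g) N₂)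
    (h₃ : Bdd ((U ⊓ V).ι ≫ g) N₃) : Bdd ((U ⊔ V).ι ≫ g) (max (max N₁ N₂) (N₃ + 1)) := by
  intro K hK hK' m hm
  obtain ⟨a, b, c, hT⟩ := hMV ((U ⊔ V).ι ≫ g) ((U ⊔ V).ι ⁻¹ᵁ U) ((U ⊔ V).ι ⁻¹ᵁ V)
    (by
      rw [← Scheme.Hom.preimage_sup]
      exact Scheme.Opens.ι_preimage_self _) K
  have hm₁ : N₁ ≤ m := (le_max_left _ _).trans ((le_max_left _ _).trans hm)
  have hm₂ : N₂ ≤ m := (le_max_right _ _).trans ((le_max_left _ _).trans hm)
  have hm₃ : N₃ ≤ m - 1 := by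
    have := (le_max_right (max N₁ N₂) (N₃ + 1)).trans hm
    lia
  have hex := DerivedCategory.HomologySequence.exact₁ _ hT (m - 1) m (by lia)
  refine hex.isZero_of_both_isZero ?_ ?_
  · -- `H^{m-1}` of the third vertex
    let e : ((((U ⊔ V).ι ⁻¹ᵁ U ⊓ (U ⊔ V).ι ⁻¹ᵁ V : (U ⊔ V).toScheme.Opens)) : Scheme.{u}) ≅
        ((U ⊓ V : X.Opens) : Scheme.{u}) :=
      Scheme.Opens.isoOfLE (inf_le_left.trans le_sup_left : U ⊓ V ≤ U ⊔ V)
    have e1 : ((U ⊔ V).ι ⁻¹ᵁ U ⊓ (U ⊔ V).ι ⁻¹ᵁ V).ι ≫ (U ⊔ V).ι ≫ g =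
        e.hom ≫ (U ⊓ V).ι ≫ g :=
      (Scheme.Opens.isoOfLE_hom_ι_assoc
        (inf_le_left.trans le_sup_left : U ⊓ V ≤ U ⊔ V) g).symm
    haveI := isLE_restrictD ((U ⊔ V).ι ⁻¹ᵁ U ⊓ (U ⊔ V).ι ⁻¹ᵁ V).ι K 0
    exact ((bdd_congr e1 N₃).2 (bdd_of_iso e _ N₃ h₃)) _
      (isQCohD_restrictD ((U ⊔ V).ι ⁻¹ᵁ U ⊓ (U ⊔ V).ι ⁻¹ᵁ V).ι K hK) inferInstance (m - 1) hm₃
  · -- `H^m` of the second vertex
    haveI : PreservesBinaryBiproducts (DerivedCategory.homologyFunctor S.Modules m) :=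
      preservesBinaryBiproducts_of_preservesBiproducts _
    refine IsZero.of_iso (isZero_biprod' ?_ ?_)
      ((DerivedCategory.homologyFunctor S.Modules m).mapBiprod _ _)
    · have e1 : ((U ⊔ V).ι ⁻¹ᵁ U).ι ≫ (U ⊔ V).ι ≫ g =
          (Scheme.Opens.isoOfLE (le_sup_left : U ≤ U ⊔ V)).hom ≫ U.ι ≫ g := by
        rw [Scheme.Opens.isoOfLE_hom_ι_assoc]
      haveI := isLE_restrictD ((U ⊔ V).ι ⁻¹ᵁ U).ι K 0
      exact ((bdd_congr e1 N₁).2 (bdd_of_iso _ _ N₁ h₁)) _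
        (isQCohD_restrictD ((U ⊔ V).ι ⁻¹ᵁ U).ι K hK) inferInstance m hm₁
    · have e1 : ((U ⊔ V).ι ⁻¹ᵁ V).ι ≫ (U ⊔ V).ι ≫ g =
          (Scheme.Opens.isoOfLE (le_sup_right : V ≤ U ⊔ V)).hom ≫ V.ι ≫ g := by
        rw [Scheme.Opens.isoOfLE_hom_ι_assoc]
      haveI := isLE_restrictD ((U ⊔ V).ι ⁻¹ᵁ V).ι K 0
      exact ((bdd_congr e1 N₂).2 (bdd_of_iso _ _ N₂ h₂)) _
        (isQCohD_restrictD ((U ⊔ V).ι ⁻¹ᵁ V).ι K hK) inferInstance m hm₂

/-- affine target: a uniform bound exists. -/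
theorem exists_bdd_of_isAffine_target (hMV : RelMV.{u}) {X S : Scheme.{u}} (g : X ⟶ S)
    [IsAffine S] [CompactSpace X] [QuasiSeparatedSpace X] : ∃ N : ℤ, Bdd g N := by
  have key : ∀ W : X.Opens, IsCompact (W : Set X) → ∃ N : ℤ, Bdd (W.ι ≫ g) N := by
    intro W hW
    refine Groth.Agent.S0015.result X (fun W => ∃ N : ℤ, Bdd (W.ι ≫ g) N) ?_ ?_ W hW
    · intro W hW
      haveI : IsAffine (W : Scheme.{u}) := hW
      exact ⟨1, bdd_of_isAffine (W.ι ≫ g)⟩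
    · rintro U V _ _ ⟨N₁, h₁⟩ ⟨N₂, h₂⟩ ⟨N₃, h₃⟩
      exact ⟨_, bdd_sup hMV g U V N₁ N₂ N₃ h₁ h₂ h₃⟩
  obtain ⟨N, hN⟩ := key ⊤ CompactSpace.isCompact_univ
  have h2 : X.topIso.symm.hom ≫ (⊤ : X.Opens).ι ≫ g = g := by
    change X.topIso.inv ≫ (⊤ : X.Opens).ι ≫ g = g
    rw [Scheme.toIso_inv_ι_assoc]
  exact ⟨N, (bdd_congr h2 N).1 (bdd_of_iso X.topIso.symm _ N hN)⟩

/-- a uniform bound for `Rf_*` on `D_QCoh`, `f` quasi-compact quasi-separated with quasi-compact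
target. -/
theorem exists_bdd_of_qcqs (hMV : RelMV.{u}) {X S : Scheme.{u}} (f : X ⟶ S)
    [QuasiCompact f] [QuasiSeparated f] [CompactSpace S] : ∃ N : ℤ, Bdd f N := by
  have hV : ∀ V : S.affineOpens, ∃ N : ℤ, Bdd (f ∣_ V.1) N := by
    intro V
    haveI : IsAffine (V.1 : Scheme.{u}) := V.2
    haveI : QuasiCompact (f ∣_ V.1) :=
      IsZariskiLocalAtTarget.restrict (P := @QuasiCompact) inferInstance V.1
    haveI : QuasiSeparated (f ∣_ V.1) :=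
      IsZariskiLocalAtTarget.restrict (P := @QuasiSeparated) inferInstance V.1
    haveI : CompactSpace ((f ⁻¹ᵁ V.1 : X.Opens) : Scheme.{u}) :=
      QuasiCompact.compactSpace_of_compactSpace (f ∣_ V.1)
    haveI : QuasiSeparatedSpace ((f ⁻¹ᵁ V.1 : X.Opens) : Scheme.{u}) :=
      quasiSeparatedSpace_of_quasiSeparated (f ∣_ V.1)
    exact exists_bdd_of_isAffine_target hMV (f ∣_ V.1)
  choose N hN using hV
  obtain ⟨t, ht⟩ := isCompact_univ.elim_finite_subcover (fun V : S.affineOpens => (V.1 : Set S))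
    (fun V => V.1.isOpen) (by
      intro x _
      obtain ⟨V, hV, hx, -⟩ := Opens.isBasis_iff_nbhd.1 S.isBasis_affineOpens (Opens.mem_top x)
      exact Set.mem_iUnion.2 ⟨⟨V, hV⟩, hx⟩)
  obtain ⟨M, hM⟩ := (t.image N).exists_le
  refine ⟨M, fun E hE hE' m hm => ?_⟩
  refine Groth.Agent.Lib.Helper23.ModLocal.isZero_of_isZero_restrict
    (fun V : t => ((V.1.1 : S.Opens) : Scheme.{u})) (fun V => V.1.1.ι) ?_ ?_
  · intro x
    obtain ⟨V, hVt, hx⟩ : ∃ V ∈ t, x ∈ (V.1 : Set S) := by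
      simpa using ht (Set.mem_univ x)
    exact ⟨⟨V, hVt⟩, ⟨x, hx⟩, rfl⟩
  · intro V
    haveI := Groth.Agent.Lib.T2H1.RpushSupport.hasRpush (f ∣_ V.1.1)
    obtain ⟨e⟩ := Groth.Agent.Lib.T2H1.RestrictPush.nonempty_restrictD_Rpush_iso f V.1.1
    haveI := isLE_restrictD (f ⁻¹ᵁ V.1.1).ι E 0
    have hz := hN V.1 _ (isQCohD_restrictD (f ⁻¹ᵁ V.1.1).ι E hE) inferInstance m
      ((hM _ (Finset.mem_image_of_mem N V.2)).trans hm)
    exact IsZero.of_iso hz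
      (((mapDerivedCategoryHomologyIso (Scheme.Modules.restrictFunctor V.1.1.ι) m).app _).symm ≪≫
        (DerivedCategory.homologyFunctor _ m).mapIso (e.app E))

end Groth.Agent.Lib.T2H2.QcRpush
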