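import Groth.Agent.Lib.T2H2QcqsIndE

/-!
# Vanishing of maps from shifts of a perfect object and truncations (T2H2)
-/

set_option autoImplicit false
set_option linter.style.haveILetI false
universe u
open CategoryTheory CategoryTheory.Limits AlgebraicGeometry Opposite Pretriangulated

attribute [local instance] HasDerivedCategory.standard

namespace Groth.Agent.Lib.T2H2.QcqsInd

open Groth.Agent.Lib.T2H8.PerfLocal Groth.Agent.Lib.T2H8.PCohTriangle
  Groth.Agent.Lib.T2H2.AffRed Groth.Agent.Lib.T2H2.TildeLoc DerivedCategory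
  Groth.Agent.Lib.T2H1.RpushShift

variable {X : Scheme.{u}}

/-- `τ_{≥ n}` preserves `D_QCoh`. -/
theorem isQCohD_truncGE (A : DCoh.D X) (hA : DCoh.IsQCohD A) (n : ℤ) :
    DCoh.IsQCohD ((DerivedCategory.TStructure.t.truncGE n).obj A) := by
  intro i
  let t := (DerivedCategory.TStructure.t : Triangulated.TStructure (DCoh.D X))
  let T := (t.triangleLTGE n).obj A
  have hT : T ∈ distTriang _ := t.triangleLTGE_distinguished n A
  haveI : t.IsLE T.obj₁ (n - 1) := by dsimp [T]; infer_instance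
  haveI : t.IsGE T.obj₃ n := by dsimp [T]; infer_instance
  by_cases hi : i < n
  · exact Groth.Agent.Lib.T2H2.QcRpush.isQCoh_of_isZero
      (DerivedCategory.isZero_of_isGE T.obj₃ n i hi)
  · have hz1 : IsZero ((DerivedCategory.homologyFunctor X.Modules i).obj T.obj₁) :=
      DerivedCategory.isZero_of_isLE T.obj₁ (n - 1) i (by lia)
    have hz2 : IsZero ((DerivedCategory.homologyFunctor X.Modules (i + 1)).obj T.obj₁) :=
      DerivedCategory.isZero_of_isLE T.obj₁ (n - 1) (i + 1) (by lia)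
    haveI : Mono ((DerivedCategory.homologyFunctor X.Modules i).map T.mor₂) :=
      (DerivedCategory.HomologySequence.exact₂ T hT i).mono_g (hz1.eq_of_src _ _)
    haveI : Epi ((DerivedCategory.homologyFunctor X.Modules i).map T.mor₂) :=
      (DerivedCategory.HomologySequence.exact₃ T hT i (i + 1) rfl).epi_f (hz2.eq_of_tgt _ _)
    have hiso : IsIso ((DerivedCategory.homologyFunctor X.Modules i).map T.mor₂) :=
      isIso_of_mono_of_epi _
    exact Groth.Agent.Lib.T2H8.PCohQCoh.isQCoh_of_iso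
      (@asIso _ _ _ _ ((DerivedCategory.homologyFunctor X.Modules i).map T.mor₂) hiso) (hA i)

/-- `Hom(P[-i], Y) = 0` if `Hom(P, Y[i]) = 0` -/
lemma homZero_shift_neg {C : Type*} [Category C] [Preadditive C] [HasShift C ℤ]
    [∀ n : ℤ, (shiftFunctor C n).Additive] (P Y : C) (i : ℤ) (h : HomZero P (Y⟦i⟧)) :
    HomZero (P⟦-i⟧) Y := by
  refine HomZero.of_faithful (shiftFunctor C i) ?_
  exact HomZero.of_iso ((shiftFunctorCompIsoId C (-i) i (neg_add_cancel i)).app P).symm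
    (Iso.refl _) h

variable [CompactSpace X] [QuasiSeparatedSpace X]

/-- maps from large negative shifts of a perfect object into an object of `D_QCoh^{≤ m}` vanish -/
theorem exists_homZero_of_isLE (P : DCoh.D X) (hP : DCoh.IsPerfect P) (m : ℤ) :
    ∃ N : ℤ, ∀ (Y : DCoh.D X), DCoh.IsQCohD Y → Y.IsLE m → ∀ i : ℤ, N ≤ i →
      HomZero (P⟦-i⟧) Y := by
  obtain ⟨c, d, hcd, H⟩ := pVan X P hP
  refine ⟨m + 1 - c, fun Y hY hYm i hi => homZero_shift_neg P Y i ?_⟩
  refine H _ (isQCohD_shift Y hY i) (fun j hj₁ hj₂ => ?_)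
  exact IsZero.of_iso (DerivedCategory.isZero_of_isLE Y m (i + j) (by omega))
    (HDShiftIso Y i j (i + j) rfl)

/-- maps from large positive shifts of a perfect object into an object of `D_QCoh^{≥ m}` vanish -/
theorem exists_homZero_of_isGE (P : DCoh.D X) (hP : DCoh.IsPerfect P) (m : ℤ) :
    ∃ N : ℤ, ∀ (Y : DCoh.D X), DCoh.IsQCohD Y → Y.IsGE m → ∀ i : ℤ, i ≤ N →
      HomZero (P⟦-i⟧) Y := by
  obtain ⟨c, d, hcd, H⟩ := pVan X P hP
  refine ⟨m - 1 - d, fun Y hY hYm i hi => homZero_shift_neg P Y i ?_⟩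
  refine H _ (isQCohD_shift Y hY i) (fun j hj₁ hj₂ => ?_)
  exact IsZero.of_iso (DerivedCategory.isZero_of_isGE Y m (i + j) (by omega))
    (HDShiftIso Y i j (i + j) rfl)

/-- Stacks: `Hom(P[-i], E) = 0` for `i ≫ 0` iff `Hom(P[-i], τ_{≥ a} E) = 0` for `i ≫ 0` -/
theorem homZero_large_iff_truncGE (P : DCoh.D X) (hP : DCoh.IsPerfect P) (E : DCoh.D X)
    (hE : DCoh.IsQCohD E) (a : ℤ) :
    (∃ N : ℤ, ∀ i : ℤ, N ≤ i → HomZero (P⟦-i⟧) E) ↔
    (∃ N : ℤ, ∀ i : ℤ, N ≤ i → HomZero (P⟦-i⟧)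
      ((DerivedCategory.TStructure.t.truncGE a).obj E)) := by
  let t := (DerivedCategory.TStructure.t : Triangulated.TStructure (DCoh.D X))
  let T := (t.triangleLTGE a).obj E
  have hT : T ∈ distTriang _ := t.triangleLTGE_distinguished a E
  haveI h1 : t.IsLE T.obj₁ (a - 1) := by dsimp [T]; infer_instance
  haveI : T.obj₁.IsLE (a - 1) := h1
  have hq1 : DCoh.IsQCohD T.obj₁ := isQCohD_truncLT E hE a
  obtain ⟨N₁, H₁⟩ := exists_homZero_of_isLE P hP (a - 1)
  obtain ⟨N₂, H₂⟩ := exists_homZero_of_isLE P hP (a - 1 - 1)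
  haveI : (T.obj₁⟦(1 : ℤ)⟧).IsLE (a - 1 - 1) :=
    DerivedCategory.TStructure.t.isLE_shift T.obj₁ (a - 1) 1 (a - 1 - 1) (by omega)
  constructor
  · rintro ⟨N, hN⟩
    refine ⟨max N N₂, fun i hi => ?_⟩
    exact HomZero.of_distTriang₂ T.rotate (rot_of_distTriang _ hT)
      (hN i (le_trans (le_max_left _ _) hi))
      (H₂ _ (isQCohD_shift _ hq1 1) inferInstance i (le_trans (le_max_right _ _) hi))
  · rintro ⟨N, hN⟩
    refine ⟨max N N₁, fun i hi => ?_⟩
    exact HomZero.of_distTriang₂ T hT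
      (H₁ _ hq1 inferInstance i (le_trans (le_max_right _ _) hi))
      (hN i (le_trans (le_max_left _ _) hi))

/-- Stacks: `Hom(P[-i], E) = 0` for `i ≪ 0` iff `Hom(P[-i], τ_{≤ a} E) = 0` for `i ≪ 0` -/
theorem homZero_small_iff_truncLE (P : DCoh.D X) (hP : DCoh.IsPerfect P) (E : DCoh.D X)
    (hE : DCoh.IsQCohD E) (a : ℤ) :
    (∃ N : ℤ, ∀ i : ℤ, i ≤ N → HomZero (P⟦-i⟧) E) ↔
    (∃ N : ℤ, ∀ i : ℤ, i ≤ N → HomZero (P⟦-i⟧)
      ((DerivedCategory.TStructure.t.truncLE a).obj E)) := by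
  let t := (DerivedCategory.TStructure.t : Triangulated.TStructure (DCoh.D X))
  let T := (t.triangleLTGE (a + 1)).obj E
  have hT : T ∈ distTriang _ := t.triangleLTGE_distinguished (a + 1) E
  haveI h3 : t.IsGE T.obj₃ (a + 1) := by dsimp [T]; infer_instance
  haveI : T.obj₃.IsGE (a + 1) := h3
  have hq3 : DCoh.IsQCohD T.obj₃ := isQCohD_truncGE E hE (a + 1)
  obtain ⟨N₁, H₁⟩ := exists_homZero_of_isGE P hP (a + 1)
  obtain ⟨N₂, H₂⟩ := exists_homZero_of_isGE P hP (a + 1 + 1)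
  haveI : (T.obj₃⟦(-1 : ℤ)⟧).IsGE (a + 1 + 1) :=
    DerivedCategory.TStructure.t.isGE_shift T.obj₃ (a + 1) (-1) (a + 1 + 1) (by omega)
  change _ ↔ (∃ N : ℤ, ∀ i : ℤ, i ≤ N → HomZero (P⟦-i⟧) T.obj₁)
  constructor
  · rintro ⟨N, hN⟩
    refine ⟨min N N₂, fun i hi => ?_⟩
    exact HomZero.of_distTriang₁ T hT
      (hN i (le_trans hi (min_le_left _ _)))
      (H₂ _ (isQCohD_shift _ hq3 (-1)) inferInstance i (le_trans hi (min_le_right _ _)))
  · rintro ⟨N, hN⟩
    refine ⟨min N N₁, fun i hi => ?_⟩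
    exact HomZero.of_distTriang₂ T hT
      (hN i (le_trans hi (min_le_left _ _)))
      (H₁ _ hq3 inferInstance i (le_trans hi (min_le_right _ _)))

end Groth.Agent.Lib.T2H2.QcqsInd
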