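import Groth.Agent.Lib.T2H2RpushTri
import Groth.Agent.Lib.T2H2QcqsIndF
import Groth.Agent.Lib.T2H2QcRpushE
import Groth.Agent.Lib.T2H8PCohBdd
import Groth.Agent.Lib.T2H1PerfPush

/-!
# Pseudo-coherence and truncations; `Rf_*` of unbounded pseudo-coherent objects (T2H2)
-/

set_option autoImplicit false
set_option linter.style.haveILetI false
universe u
open CategoryTheory CategoryTheory.Limits CategoryTheory.Pretriangulated AlgebraicGeometry ZeroObject

attribute [local instance] HasDerivedCategory.standard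

namespace Groth.Agent.Lib.T2H2.PCohTrunc

open Groth.Agent.Lib.T2H8.PerfLocal Groth.Agent.Lib.T2H8.PCohTriangle DerivedCategory
  Groth.Agent.Lib.T2H2.QcRpush Groth.Agent.Lib.T2H1.RpushShift

variable {X : Scheme.{u}}

/-- the truncation map `K ⟶ τ_{≥ n} K` is an isomorphism on `H^i` for `i ≥ n` -/
lemma isIso_homology_truncGEπ (K : DCoh.D X) (n i : ℤ) (hi : n ≤ i) :
    IsIso ((homologyFunctor X.Modules i).map ((DerivedCategory.TStructure.t.truncGEπ n).app K)) := by
  let t := (DerivedCategory.TStructure.t : Triangulated.TStructure (DCoh.D X))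
  let T := (t.triangleLTGE n).obj K
  have hT : T ∈ distTriang _ := t.triangleLTGE_distinguished n K
  haveI : t.IsLE T.obj₁ (n - 1) := by dsimp [T]; infer_instance
  have hz1 : IsZero ((homologyFunctor X.Modules i).obj T.obj₁) :=
    DerivedCategory.isZero_of_isLE T.obj₁ (n - 1) i (by lia)
  have hz2 : IsZero ((homologyFunctor X.Modules (i + 1)).obj T.obj₁) :=
    DerivedCategory.isZero_of_isLE T.obj₁ (n - 1) (i + 1) (by lia)
  haveI : Mono ((homologyFunctor X.Modules i).map T.mor₂) :=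
    (HomologySequence.exact₂ T hT i).mono_g (hz1.eq_of_src _ _)
  haveI : Epi ((homologyFunctor X.Modules i).map T.mor₂) :=
    (HomologySequence.exact₃ T hT i (i + 1) rfl).epi_f (hz2.eq_of_tgt _ _)
  exact isIso_of_mono_of_epi ((homologyFunctor X.Modules i).map T.mor₂)

/-- the truncation map `K ⟶ τ_{≥ n} K` is an `m`-approximation for `n ≤ m` -/
lemma isApprox_truncGEπ (K : DCoh.D X) (n m : ℤ) (h : n ≤ m) :
    IsApprox m ((DerivedCategory.TStructure.t.truncGEπ n).app K) := by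
  refine ⟨fun i hi => isIso_homology_truncGEπ K n i (by lia), ?_⟩
  haveI := isIso_homology_truncGEπ K n m h
  infer_instance

/-- `τ_{≥ n}` preserves `m`-pseudo-coherence for `n ≤ m` -/
theorem isPseudoCoherentD_truncGE (K : DCoh.D X) (n m : ℤ) (h : n ≤ m)
    (hK : DCoh.IsPseudoCoherentD m K) :
    DCoh.IsPseudoCoherentD m ((DerivedCategory.TStructure.t.truncGE n).obj K) := by
  rw [isPseudoCoherentD_iff] at hK ⊢
  intro x
  obtain ⟨U, j, hj, x', hx', E, α, hE, hα⟩ := hK x
  exact ⟨U, j, hj, x', hx', E, α ≫ (rD j).map ((DerivedCategory.TStructure.t.truncGEπ n).app K),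
    hE, hα.comp ((isApprox_truncGEπ K n m h).map (Scheme.Modules.restrictFunctor j))⟩

/-- an object of `D^{≤ m - 1}` is `m`-pseudo-coherent -/
theorem isPseudoCoherentD_of_isLE (K : DCoh.D X) (m : ℤ) [K.IsLE (m - 1)] :
    DCoh.IsPseudoCoherentD m K := by
  rw [isPseudoCoherentD_iff]
  intro x
  haveI : ((rD (𝟙 X)).obj K).IsLE (m - 1) := isLE_restrictD (𝟙 X) K (m - 1)
  have hz0 : IsZero (Q.obj (0 : CochainComplex X.Modules ℤ)) :=
    (Q : CochainComplex X.Modules ℤ ⥤ DCoh.D X).map_isZero (isZero_zero _)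
  refine ⟨X, 𝟙 X, inferInstance, x, rfl, 0, 0,
    Groth.Agent.Lib.T2H1.PerfPush.isStrictlyPerfect_zero X, fun i hi => ?_, ?_⟩
  · have h1 : IsZero ((homologyFunctor X.Modules i).obj (Q.obj (0 : CochainComplex X.Modules ℤ))) :=
      (homologyFunctor X.Modules i).map_isZero hz0
    have h2 : IsZero ((homologyFunctor X.Modules i).obj ((rD (𝟙 X)).obj K)) :=
      DerivedCategory.isZero_of_isLE _ (m - 1) i (by lia)
    exact ⟨⟨0, h1.eq_of_src _ _, h2.eq_of_src _ _⟩⟩
  · have h2 : IsZero ((homologyFunctor X.Modules m).obj ((rD (𝟙 X)).obj K)) :=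
      DerivedCategory.isZero_of_isLE _ (m - 1) m (by lia)
    exact ⟨fun _ _ _ => h2.eq_of_src _ _⟩

/-- pseudo-coherent objects have quasi-coherent cohomology sheaves -/
theorem isQCohD_of_forall_isPseudoCoherentD (K : DCoh.D X)
    (hK : ∀ m : ℤ, DCoh.IsPseudoCoherentD m K) : DCoh.IsQCohD K := fun i =>
  (Groth.Agent.Lib.T2H8.PCohQCoh.main_S7240 (i - 1) K (hK (i - 1))).1 i (by lia)

/-- if `Rf_*` shifts pseudo-coherence of bounded objects by a uniform amount, then it preserves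
pseudo-coherent objects. -/
theorem isPseudoCoherentD_Rpush_of_bounded {Y : Scheme.{u}} (f : X ⟶ Y) [QuasiCompact f]
    [QuasiSeparated f] [CompactSpace Y] [DCoh.HasRpush f] (k : ℤ)
    (hK : ∀ (F : DCoh.D X) (n a b : ℤ), F.IsGE a → F.IsLE b → DCoh.IsPseudoCoherentD n F →
      DCoh.IsPseudoCoherentD (n + k) ((DCoh.Rpush f).obj F))
    (F : DCoh.D X) (hF : ∀ m : ℤ, DCoh.IsPseudoCoherentD m F) (m : ℤ) :
    DCoh.IsPseudoCoherentD m ((DCoh.Rpush f).obj F) := by
  haveI : CompactSpace X := QuasiCompact.compactSpace_of_compactSpace f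
  have hq : DCoh.IsQCohD F := isQCohD_of_forall_isPseudoCoherentD F hF
  obtain ⟨b, hb⟩ := Groth.Agent.Lib.T2H8.PCohBdd.exists_bound_of_isPseudoCoherentD 0 F (hF 0)
  haveI : F.IsLE b := (DerivedCategory.isLE_iff F b).2 hb
  obtain ⟨N₀, hN₀⟩ := exists_bdd_of_qcqs relMV f
  let n : ℤ := min (m - k) (m - N₀ + 1)
  have hn₁ : n ≤ m - k := min_le_left _ _
  have hn₂ : n ≤ m - N₀ + 1 := min_le_right _ _
  let T := ((DerivedCategory.TStructure.t : Triangulated.TStructure (DCoh.D X)).triangleLTGE n).obj F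
  have hT : T ∈ distTriang _ := DerivedCategory.TStructure.t.triangleLTGE_distinguished n F
  haveI h₁ : T.obj₁.IsLE (n - 1) := by dsimp [T]; infer_instance
  haveI h₃ : T.obj₃.IsGE n := by dsimp [T]; infer_instance
  haveI h₃' : T.obj₃.IsLE b := by
    change DerivedCategory.TStructure.t.IsLE ((DerivedCategory.TStructure.t.truncGE n).obj F) b
    infer_instance
  have hB : DCoh.IsPseudoCoherentD (m - k) T.obj₃ :=
    isPseudoCoherentD_truncGE F n (m - k) hn₁ (hF (m - k))
  have hB' : DCoh.IsPseudoCoherentD m ((DCoh.Rpush f).obj T.obj₃) := by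
    have := hK T.obj₃ (m - k) n b h₃ h₃' hB
    rwa [sub_add_cancel] at this
  haveI hA : ((DCoh.Rpush f).obj T.obj₁).IsLE (n - 1 + N₀ - 1) :=
    isLE_Rpush_of_bdd f N₀ hN₀ T.obj₁ (isQCohD_truncLT F hq n) (n - 1)
  haveI hA' : ((DCoh.Rpush f).obj T.obj₁).IsLE (m - 1) :=
    DerivedCategory.TStructure.t.isLE_of_le _ (n - 1 + N₀ - 1) (m - 1) (by lia)
  have hA'' : DCoh.IsPseudoCoherentD m ((DCoh.Rpush f).obj T.obj₁) :=
    isPseudoCoherentD_of_isLE _ m
  obtain ⟨a, b', c, hT'⟩ := Groth.Agent.Lib.T2H2.RpushTri.exists_Rpush_triangle f T hT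
  exact (main_S0889 m _ hT').2.1 hA'' hB'

end Groth.Agent.Lib.T2H2.PCohTrunc
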