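import Groth.Agent.Lib.T2H1RpushShift
import Groth.Agent.Lib.T2H2PCohTrunc
import Groth.Agent.Lib.Helper27PnChart
import Groth.Agent.S9705

/-!
# Cohomological amplitude of `Rf_*` from a finite affine cover (helper1)

* `bdd_of_affine_cover`: if `S` is affine and `X` is covered by `n + 1` affine opens with affine
  intersections, then `Rg_*` maps `D_QCoh^{≤ 0}(X)` into `D^{≤ n}(S)`.
* `bdd_projSpaceOver`: the case of `P^r_Y`, `Y` affine.
* `isLE_Rpush_projSpaceOver`.
-/

set_option autoImplicit false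
set_option linter.style.haveILetI false
universe u
open CategoryTheory CategoryTheory.Limits AlgebraicGeometry TopologicalSpace

attribute [local instance] HasDerivedCategory.standard

namespace Groth.Agent.Lib.T2H1.RpushAffCover

open Groth.Agent.Lib.T2H2.QcRpush Groth.Agent.Lib.T2H1.RpushShift

attribute [local instance] Groth.Agent.Lib.T2H1.RpushSupport.hasRpush

variable {X S : Scheme.{u}}

lemma bdd_opens_congr (g : X ⟶ S) {W W' : X.Opens} (h : W = W') (N : ℤ) :
    Bdd (W.ι ≫ g) N ↔ Bdd (W'.ι ≫ g) N := by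
  subst h
  exact Iff.rfl

theorem bdd_iSup_of_affine [IsAffine S] (g : X ⟶ S)
    (hinf : ∀ U V : X.Opens, IsAffineOpen U → IsAffineOpen V → IsAffineOpen (U ⊓ V)) :
    ∀ (n : ℕ) (U : Fin (n + 1) → X.Opens), (∀ i, IsAffineOpen (U i)) →
      Bdd ((⨆ i, U i).ι ≫ g) ((n : ℤ) + 1) := by
  intro n
  induction n with
  | zero =>
    intro U hU
    have h : (⨆ i, U i) = U 0 := by
      apply le_antisymm
      · exact iSup_le (fun i => by
          have hi : i = 0 := Fin.fin_one_eq_zero i
          rw [hi])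
      · exact le_iSup U 0
    rw [bdd_opens_congr g h]
    haveI : IsAffine ((U 0 : X.Opens) : Scheme.{u}) := hU 0
    have := bdd_of_isAffine ((U 0).ι ≫ g)
    exact this.mono (by simp)
  | succ n ih =>
    intro U hU
    have hsup : (⨆ i, U i) =
        (⨆ i : Fin (n + 1), U i.castSucc) ⊔ U (Fin.last (n + 1)) := by
      apply le_antisymm
      · refine iSup_le (fun i => ?_)
        refine Fin.lastCases ?_ (fun j => ?_) i
        · exact le_sup_right
        · exact (le_iSup (fun i : Fin (n + 1) => U i.castSucc) j).trans le_sup_left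
      · exact sup_le (iSup_le (fun j => le_iSup U j.castSucc)) (le_iSup U _)
    have hinfW : (⨆ i : Fin (n + 1), U i.castSucc) ⊓ U (Fin.last (n + 1)) =
        ⨆ i : Fin (n + 1), (U i.castSucc ⊓ U (Fin.last (n + 1))) := iSup_inf_eq _ _
    have h1 := ih (fun i => U i.castSucc) (fun i => hU _)
    have h3 := ih (fun i => U i.castSucc ⊓ U (Fin.last (n + 1)))
      (fun i => hinf _ _ (hU _) (hU _))
    rw [← bdd_opens_congr g hinfW] at h3
    haveI : IsAffine ((U (Fin.last (n + 1)) : X.Opens) : Scheme.{u}) := hU _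
    have h2 : Bdd ((U (Fin.last (n + 1))).ι ≫ g) 1 := bdd_of_isAffine _
    have h4 := bdd_sup relMV g _ _ _ _ _ h1 h2 h3
    rw [bdd_opens_congr g hsup]
    refine h4.mono ?_
    push_cast
    refine max_le (max_le ?_ ?_) ?_ <;> lia

theorem bdd_of_affine_cover [IsAffine S] (g : X ⟶ S)
    (hinf : ∀ U V : X.Opens, IsAffineOpen U → IsAffineOpen V → IsAffineOpen (U ⊓ V))
    (n : ℕ) (U : Fin (n + 1) → X.Opens) (hU : ∀ i, IsAffineOpen (U i)) (hcov : ⨆ i, U i = ⊤) :
    Bdd g ((n : ℤ) + 1) := by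
  have hN := bdd_iSup_of_affine g hinf n U hU
  rw [bdd_opens_congr g hcov] at hN
  have h2 : X.topIso.symm.hom ≫ (⊤ : X.Opens).ι ≫ g = g := by
    change X.topIso.inv ≫ (⊤ : X.Opens).ι ≫ g = g
    rw [Scheme.toIso_inv_ι_assoc]
  exact (bdd_congr h2 _).1 (bdd_of_iso X.topIso.symm _ _ hN)

/-- intersections of affine opens are affine in a scheme separated over an affine scheme -/
theorem isAffineOpen_inf_of_isSeparated [IsAffine S] (g : X ⟶ S) [IsSeparated g]
    (U V : X.Opens) (hU : IsAffineOpen U) (hV : IsAffineOpen V) : IsAffineOpen (U ⊓ V) := by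
  haveI : IsAffineHom (pullback.diagonal g) := inferInstance
  exact isAffineHom_diagonal_iff.mp ‹_› ⊤ (isAffineOpen_top _) U (by simp) V (by simp) hU hV

theorem bdd_projSpaceOver (Y : Scheme.{u}) [IsAffine Y] (r : ℕ) :
    Bdd (CohB1.ProjSpaceOver.toBase r Y) ((r : ℤ) + 1) := by
  haveI := Groth.Agent.S9705.isProper_toBase r Y
  haveI hsep : IsSeparated (CohB1.ProjSpaceOver.toBase r Y) := inferInstance
  let p : CohB1.ProjSpaceOver r Y ⟶ Proj (CohB1.polyGrading r (ULift.{u} ℤ)) :=
    pullback.fst (CohB1.ProjSpace.toSpec r (ULift.{u} ℤ)) (specULiftZIsTerminal.from Y)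
  haveI hg : IsAffineHom (specULiftZIsTerminal.from Y) := inferInstance
  haveI : IsAffineHom p := MorphismProperty.pullback_fst _ _ hg
  refine bdd_of_affine_cover _ (isAffineOpen_inf_of_isSeparated (CohB1.ProjSpaceOver.toBase r Y))
    r (fun i => p ⁻¹ᵁ (Proj.basicOpen (CohB1.polyGrading r (ULift.{u} ℤ))
      (MvPolynomial.X i))) ?_ ?_
  · intro i
    exact (Proj.isAffineOpen_basicOpen (CohB1.polyGrading r (ULift.{u} ℤ)) _
      (MvPolynomial.isHomogeneous_X _ i) Nat.one_pos).preimage p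
  · rw [← Scheme.Hom.preimage_iSup, Groth.Agent.Lib.Helper27PnChart.iSup_basicOpen_X]
    simp

theorem isLE_Rpush_projSpaceOver (Y : Scheme.{u}) [IsAffine Y] (r : ℕ)
    [DCoh.HasRpush (CohB1.ProjSpaceOver.toBase r Y)]
    (E : DCoh.D (CohB1.ProjSpaceOver r Y)) (hE : DCoh.IsQCohD E) (a : ℤ) [E.IsLE a] :
    ((DCoh.Rpush (CohB1.ProjSpaceOver.toBase r Y)).obj E).IsLE (a + r) := by
  have h := isLE_Rpush_of_bdd (CohB1.ProjSpaceOver.toBase r Y) ((r : ℤ) + 1)
    (bdd_projSpaceOver Y r) E hE a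
  have e : a + ((r : ℤ) + 1) - 1 = a + r := by ring
  rw [e] at h
  exact h

end Groth.Agent.Lib.T2H1.RpushAffCover
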