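import Mathlib
import Groth.Agent.Lib.T2H1PushFiltered
import Groth.Agent.Lib.T2H1OpcyclesInj
import Groth.Agent.Lib.T2H1ColimCocone
import Groth.Agent.Lib.T2H1RDerCoprod
import Groth.Agent.Lib.Helper17KInjD2
import Groth.Agent.Lib.Helper17FilKInj4
import Groth.Agent.Lib.Helper13HomologyColim

/-!
# `H^i Rf_*` and filtered colimits of uniformly bounded below complexes (`f` qcqs)
-/

set_option autoImplicit false
universe u
open CategoryTheory CategoryTheory.Limits AlgebraicGeometry

attribute [local instance] HasDerivedCategory.standard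

namespace Groth.Agent.Lib.T2H1.RpushFiltered

open Groth.Agent.Lib.T2H1.PushFiltered Groth.Agent.Lib.T2H1.PushCoprod
  Groth.Agent.Lib.T2H1.OpcyclesInj Groth.Agent.Lib.T2H1.ColimCocone
  Groth.Agent.Lib.T2H1.RDerCoprod Groth.Agent.Lib.Helper17.KInj DerivedCategory

section Resolution

variable (A : Type (u + 1)) [Category.{u} A] [Abelian A] [IsGrothendieckAbelian.{u} A]

/-- a functorial resolution `K ⟶ τ_{≥ n} (fibrant replacement of K)`. -/
noncomputable def res (n : ℤ) : CochainComplex A ℤ ⥤ CochainComplex A ℤ :=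
  fibRepl₀ A ⋙ (ComplexShape.embeddingUpIntGE n).truncGEFunctor A

/-- the natural map to the resolution. -/
noncomputable def resι (n : ℤ) : 𝟭 (CochainComplex A ℤ) ⟶ res A n where
  app K := (fibReplι₀ A).app K ≫ ((fibRepl₀ A).obj K).πTruncGE n
  naturality K L φ := by
    have h1 := (fibReplι₀ A).naturality φ
    have h2 := CochainComplex.πTruncGE_naturality ((fibRepl₀ A).map φ) n
    dsimp at h1 ⊢
    dsimp [res]
    rw [reassoc_of% h1, Category.assoc]
    congr 1
    exact h2.symm

variable {A}

lemma isGE_fibRepl₀ (K : CochainComplex A ℤ) (n : ℤ) [K.IsGE n] :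
    ((fibRepl₀ A).obj K).IsGE n := by
  have hK : K.IsGE n := inferInstance
  rw [← DerivedCategory.isGE_Q_obj_iff] at hK ⊢
  have hq : QuasiIso ((fibReplι₀ A).app K) := (trivCof_fibReplι₀ A K).2
  let a : K ⟶ (fibRepl₀ A).obj K := (fibReplι₀ A).app K
  haveI : QuasiIso a := hq
  haveI : IsIso ((DerivedCategory.Q : _ ⥤ DerivedCategory A).map a) := by
    rw [DerivedCategory.isIso_Q_map_iff_quasiIso]; infer_instance
  haveI : DerivedCategory.TStructure.t.IsGE ((DerivedCategory.Q : _ ⥤ DerivedCategory A).obj K) n :=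
    hK
  exact DerivedCategory.TStructure.t.isGE_of_iso
    (asIso ((DerivedCategory.Q : _ ⥤ DerivedCategory A).map a)) n

lemma quasiIso_resι (K : CochainComplex A ℤ) (n : ℤ) [K.IsGE n] :
    QuasiIso ((resι A n).app K) := by
  have hq : QuasiIso ((fibReplι₀ A).app K) := (trivCof_fibReplι₀ A K).2
  let a : K ⟶ (fibRepl₀ A).obj K := (fibReplι₀ A).app K
  haveI : QuasiIso a := hq
  haveI := isGE_fibRepl₀ K n
  exact (inferInstance : QuasiIso (a ≫ ((fibRepl₀ A).obj K).πTruncGE n))

instance isStrictlyGE_res (K : CochainComplex A ℤ) (n : ℤ) :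
    ((res A n).obj K).IsStrictlyGE n :=
  (inferInstance : (((fibRepl₀ A).obj K).truncGE n).IsStrictlyGE n)

lemma injective_res_X (K : CochainComplex A ℤ) (n : ℤ) [K.IsGE n] (q : ℤ) :
    Injective (((res A n).obj K).X q) := by
  haveI := isGE_fibRepl₀ K n
  haveI : ((fibRepl₀ A).obj K).IsKInjective := (fibrant_fibRepl₀ A K).isKInjective
  exact injective_truncGE_X ((fibRepl₀ A).obj K)
    (fun p => injective_X_of_rlp (fibrant_fibRepl₀ A K) p) n q

end Resolution

section Main

variable {A : Type (u + 1)} [Category.{u} A] [Abelian A] [IsGrothendieckAbelian.{u} A]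
  {B : Type (u + 1)} [Category.{u} B] [Abelian B] [IsGrothendieckAbelian.{u} B]
  (G : A ⥤ B) [G.Additive] [PreservesFiniteLimits G]
  (RF : DerivedCategory A ⥤ DerivedCategory B)
  (β : G.mapHomologicalComplex (ComplexShape.up ℤ) ⋙ DerivedCategory.Q ⟶
    DerivedCategory.Q ⋙ RF)
  [RF.IsRightDerivedFunctor β (HomologicalComplex.quasiIso A (ComplexShape.up ℤ))]
  {J : Type u} [SmallCategory J] [IsFiltered J] [PreservesColimitsOfShape J G]

include β in
/-- `H^i ∘ RF` commutes with filtered colimits of uniformly (cohomologically) bounded below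
complexes, as soon as `G` commutes with these filtered colimits and filtered colimits of
`G`-acyclic objects are `G`-acyclic. -/
theorem nonempty_isColimit_mapCocone
    (hacyc : ∀ (M : J ⥤ A) (q : ℕ), 0 < q →
      (∀ j, IsZero ((G.rightDerived q).obj (M.obj j))) →
      IsZero ((G.rightDerived q).obj (colimit M)))
    (C : J ⥤ CochainComplex A ℤ) [HasColimit C] (n : ℤ) (hC : ∀ j, (C.obj j).IsGE n) (i : ℤ) :
    Nonempty (IsColimit ((DerivedCategory.Q ⋙ RF ⋙ DerivedCategory.homologyFunctor B i).mapCocone
      (colimit.cocone C))) := by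
  let I' : J ⥤ CochainComplex A ℤ := C ⋙ res A n
  let θ : C ⟶ I' :=
    { app := fun j => (resι A n).app (C.obj j)
      naturality := fun j j' φ => (resι A n).naturality (C.map φ) }
  let c := colimit.cocone C
  let c' := colimit.cocone I'
  let m : c.pt ⟶ c'.pt := colimMap θ
  have hm : ∀ j, c.ι.app j ≫ m = θ.app j ≫ c'.ι.app j := fun j => ι_colimMap θ j
  have hθ : ∀ j, QuasiIso (θ.app j) := fun j => by
    haveI := hC j
    exact quasiIso_resι (C.obj j) n
  haveI hH : ∀ p, PreservesColimitsOfShape J
      (HomologicalComplex.homologyFunctor A (ComplexShape.up ℤ) p) := fun p =>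
    Groth.Agent.Helper13HomologyColim.preservesColimitsOfShape_homologicalComplex_homologyFunctor _ _
  have hmq : QuasiIso m := by
    rw [quasiIso_iff]
    intro p
    rw [quasiIsoAt_iff_isIso_homologyMap]
    exact isIso_map_of_isColimit (HomologicalComplex.homologyFunctor A (ComplexShape.up ℤ) p)
      θ c c' m hm (isColimitOfPreserves _ (colimit.isColimit C))
      (isColimitOfPreserves _ (colimit.isColimit I')) (fun j => by
        haveI := hθ j
        exact inferInstanceAs (IsIso (HomologicalComplex.homologyMap (θ.app j) p)))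
  let Φ : CochainComplex A ℤ ⥤ B :=
    (DerivedCategory.Q ⋙ RF) ⋙ DerivedCategory.homologyFunctor B i
  have hΦ : ∀ {K L : CochainComplex A ℤ} (φ : K ⟶ L), QuasiIso φ → IsIso (Φ.map φ) := by
    intro K L φ h
    haveI : IsIso ((DerivedCategory.Q : _ ⥤ DerivedCategory A).map φ) := by
      rw [DerivedCategory.isIso_Q_map_iff_quasiIso]; exact h
    exact inferInstanceAs (IsIso ((DerivedCategory.homologyFunctor B i).map
      (RF.map (DerivedCategory.Q.map φ))))
  refine ⟨isColimitMapCoconeOfIso Φ θ c c' m hm (fun j => hΦ _ (hθ j)) (hΦ _ hmq) ?_⟩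
  let Ψ : CochainComplex A ℤ ⥤ B :=
    (G.mapHomologicalComplex (ComplexShape.up ℤ) ⋙ DerivedCategory.Q) ⋙
      DerivedCategory.homologyFunctor B i
  let ν : Ψ ⟶ Φ := Functor.whiskerRight β (DerivedCategory.homologyFunctor B i)
  have hinj : ∀ j q, Injective ((I'.obj j).X q) := fun j q => by
    haveI := hC j
    exact injective_res_X (C.obj j) n q
  haveI hGE : ∀ j, (I'.obj j).IsStrictlyGE n := fun j => isStrictlyGE_res (C.obj j) n
  refine isColimitMapCoconeOfNatTrans ν c' ?_ ?_ ?_
  · haveI : PreservesColimitsOfShape J (G.mapHomologicalComplex (ComplexShape.up ℤ)) :=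
      HomologicalComplex.preservesColimitsOfShape_of_eval _ (fun p =>
        inferInstanceAs (PreservesColimitsOfShape J
          (HomologicalComplex.eval A (ComplexShape.up ℤ) p ⋙ G)))
    haveI : PreservesColimitsOfShape J
        (HomologicalComplex.homologyFunctor B (ComplexShape.up ℤ) i) :=
      Groth.Agent.Helper13HomologyColim.preservesColimitsOfShape_homologicalComplex_homologyFunctor _ _
    haveI : PreservesColimitsOfShape J Ψ :=
      preservesColimitsOfShape_of_natIso
        (Functor.isoWhiskerLeft (G.mapHomologicalComplex (ComplexShape.up ℤ))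
          (DerivedCategory.homologyFunctorFactors B i).symm ≪≫ (Functor.associator _ _ _).symm)
    exact isColimitOfPreserves Ψ (colimit.isColimit I')
  · intro j
    haveI : IsIso (β.app (I'.obj j)) :=
      isIso_app_of_acyclic.{u} G RF β (I'.obj j) n (fun p q hq => by
        obtain ⟨q, rfl⟩ : ∃ k, q = k + 1 := ⟨q - 1, by omega⟩
        haveI := hinj j p
        exact Functor.isZero_rightDerived_obj_injective_succ G q _)
    exact inferInstanceAs (IsIso ((DerivedCategory.homologyFunctor B i).map (β.app (I'.obj j))))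
  · let eX : ∀ p, (colimit I').X p ≅
        colimit (I' ⋙ HomologicalComplex.eval A (ComplexShape.up ℤ) p) := fun p =>
      preservesColimitIso (HomologicalComplex.eval A (ComplexShape.up ℤ) p) I'
    haveI : (colimit I').IsStrictlyGE n := by
      rw [CochainComplex.isStrictlyGE_iff]
      intro p hp
      exact IsZero.of_iso (isZero_colimit _ (fun j =>
        (I'.obj j).isZero_of_isStrictlyGE n p hp)) (eX p)
    haveI : IsIso (β.app (colimit I')) :=
      isIso_app_of_acyclic.{u} G RF β (colimit I') n (fun p q hq => by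
        haveI : (G.rightDerived q).Additive := rightDerived_additive G q
        refine IsZero.of_iso ?_ ((G.rightDerived q).mapIso (eX p))
        refine hacyc _ q hq (fun j => ?_)
        obtain ⟨q, rfl⟩ : ∃ k, q = k + 1 := ⟨q - 1, by omega⟩
        haveI : Injective ((I'.obj j).X p) := hinj j p
        exact Functor.isZero_rightDerived_obj_injective_succ G q ((I'.obj j).X p))
    exact inferInstanceAs (IsIso ((DerivedCategory.homologyFunctor B i).map
      (β.app (colimit I'))))

end Main

section Scheme

variable {X Y : Scheme.{u}} (f : X ⟶ Y) [QuasiCompact f] [QuasiSeparated f] [DCoh.HasRpush f]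
  {J : Type u} [SmallCategory J] [IsFiltered J]

/-- S11120: `H^i Rf_*` commutes with filtered colimits of uniformly bounded below complexes. -/
theorem nonempty_isColimit_HD_Rpush (C : J ⥤ CochainComplex X.Modules ℤ) [HasColimit C] (n : ℤ)
    (hC : ∀ j : J, (DCoh.toD X (C.obj j)).IsGE n) (i : ℤ) :
    Nonempty (IsColimit ((DerivedCategory.Q ⋙ DCoh.Rpush f ⋙
      DerivedCategory.homologyFunctor Y.Modules i).mapCocone (colimit.cocone C))) := by
  haveI := preservesColimitsOfShape_pushforward f J
  exact nonempty_isColimit_mapCocone (Scheme.Modules.pushforward f) (DCoh.Rpush f)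
    (unitOfK (Scheme.Modules.pushforward f) (DCoh.Rpush f)
      ((DCoh.pushKh f).totalRightDerivedUnit DerivedCategory.Qh
        (HomotopyCategory.quasiIso X.Modules (ComplexShape.up ℤ))))
    (fun M q hq hM => isZero_Rpush_colimit_of_acyclic f M q hq hM) C n
    (fun j => (DerivedCategory.isGE_Q_obj_iff _ _).1 (hC j)) i

end Scheme

end Groth.Agent.Lib.T2H1.RpushFiltered
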