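import Mathlib
import Groth.Agent.Lib.T2H1RpushFiltered

/-!
# The unit `f_* ⟶ Rf_*` and filtered colimits of uniformly bounded below complexes
-/

set_option autoImplicit false
universe u
open CategoryTheory CategoryTheory.Limits AlgebraicGeometry

attribute [local instance] HasDerivedCategory.standard

namespace Groth.Agent.Lib.T2H1.RpushFiltered

open Groth.Agent.Lib.T2H1.PushFiltered Groth.Agent.Lib.T2H1.PushCoprod
  Groth.Agent.Lib.T2H1.ColimCocone
  Groth.Agent.Lib.T2H1.RDerCoprod Groth.Agent.Lib.Helper17.KInj DerivedCategory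

section Abstract

variable {J : Type*} [Category J] {𝒞 : Type*} [Category 𝒞] {𝒟 : Type*} [Category 𝒟]

/-- a natural transformation between functors mapping a cocone `c` to colimit cocones is an
isomorphism at the vertex of `c` as soon as it is an isomorphism at the objects of the diagram. -/
lemma isIso_app_pt_of_isColimit {Ψ Φ : 𝒞 ⥤ 𝒟} (ν : Ψ ⟶ Φ) {C : J ⥤ 𝒞} (c : Cocone C)
    (hΨ : IsColimit (Ψ.mapCocone c)) (hΦ : IsColimit (Φ.mapCocone c))
    (h1 : ∀ j, IsIso (ν.app (C.obj j))) : IsIso (ν.app c.pt) := by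
  haveI : ∀ j, IsIso ((Functor.whiskerLeft C ν).app j) := fun j => h1 j
  haveI : IsIso (Functor.whiskerLeft C ν) := NatIso.isIso_of_isIso_app _
  let w : C ⋙ Ψ ≅ C ⋙ Φ := asIso (Functor.whiskerLeft C ν)
  have : ν.app c.pt = (IsColimit.coconePointsIsoOfNatIso hΨ hΦ w).hom := by
    apply hΨ.hom_ext
    intro j
    rw [IsColimit.comp_coconePointsIsoOfNatIso_hom]
    dsimp [w]
    exact ν.naturality (c.ι.app j)
  rw [this]
  infer_instance

end Abstract

section Main

variable {A : Type (u + 1)} [Category.{u} A] [Abelian A] [IsGrothendieckAbelian.{u} A]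
  {B : Type (u + 1)} [Category.{u} B] [Abelian B] [IsGrothendieckAbelian.{u} B]
  (G : A ⥤ B) [G.Additive] [PreservesFiniteLimits G]
  (RF : DerivedCategory A ⥤ DerivedCategory B)
  (β : G.mapHomologicalComplex (ComplexShape.up ℤ) ⋙ DerivedCategory.Q ⟶
    DerivedCategory.Q ⋙ RF)
  [RF.IsRightDerivedFunctor β (HomologicalComplex.quasiIso A (ComplexShape.up ℤ))]
  {J : Type u} [SmallCategory J] [IsFiltered J] [PreservesColimitsOfShape J G]

include β in
/-- the unit `G(K) ⟶ RF(K)` is an isomorphism at a filtered colimit of uniformly bounded below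
complexes at which it is an isomorphism. -/
theorem isIso_app_colimit
    (hacyc : ∀ (M : J ⥤ A) (q : ℕ), 0 < q →
      (∀ j, IsZero ((G.rightDerived q).obj (M.obj j))) →
      IsZero ((G.rightDerived q).obj (colimit M)))
    (C : J ⥤ CochainComplex A ℤ) [HasColimit C] (n : ℤ) (hC : ∀ j, (C.obj j).IsGE n)
    (hβ : ∀ j, IsIso (β.app (C.obj j))) : IsIso (β.app (colimit C)) := by
  rw [DerivedCategory.isIso_iff]
  intro i
  let Φ : CochainComplex A ℤ ⥤ B :=
    (DerivedCategory.Q ⋙ RF) ⋙ DerivedCategory.homologyFunctor B i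
  let Ψ : CochainComplex A ℤ ⥤ B :=
    (G.mapHomologicalComplex (ComplexShape.up ℤ) ⋙ DerivedCategory.Q) ⋙
      DerivedCategory.homologyFunctor B i
  let ν : Ψ ⟶ Φ := Functor.whiskerRight β (DerivedCategory.homologyFunctor B i)
  obtain ⟨hΦ⟩ := nonempty_isColimit_mapCocone G RF β hacyc C n hC i
  have hΦ' : IsColimit (Φ.mapCocone (colimit.cocone C)) := hΦ
  have hΨ : IsColimit (Ψ.mapCocone (colimit.cocone C)) := by
    haveI : PreservesColimitsOfShape J (G.mapHomologicalComplex (ComplexShape.up ℤ)) :=
      HomologicalComplex.preservesColimitsOfShape_of_eval _ (fun p =>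
        inferInstanceAs (PreservesColimitsOfShape J
          (HomologicalComplex.eval A (ComplexShape.up ℤ) p ⋙ G)))
    haveI : PreservesColimitsOfShape J
        (HomologicalComplex.homologyFunctor B (ComplexShape.up ℤ) i) :=
      Groth.Agent.Helper13HomologyColim.preservesColimitsOfShape_homologicalComplex_homologyFunctor _ _
    haveI : PreservesColimitsOfShape J Ψ :=
      preservesColimitsOfShape_of_natIso
        (Functor.isoWhiskerLeft (G.mapHomologicalComplex (ComplexShape.up ℤ))
          (DerivedCategory.homologyFunctorFactors B i).symm ≪≫ (Functor.associator _ _ _).symm)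
    exact isColimitOfPreserves Ψ (colimit.isColimit C)
  have := isIso_app_pt_of_isColimit ν (colimit.cocone C) hΨ hΦ' (fun j => by
    haveI := hβ j
    exact inferInstanceAs (IsIso ((DerivedCategory.homologyFunctor B i).map (β.app (C.obj j)))))
  exact this

end Main

section Convert

variable {A : Type*} [Category A] [Abelian A] [HasDerivedCategory A]
  {B : Type*} [Category B] [Abelian B] [HasDerivedCategory B]
  (G : A ⥤ B) [G.Additive]
  (RF : DerivedCategory A ⥤ DerivedCategory B)
  (βK : G.mapHomotopyCategory (ComplexShape.up ℤ) ⋙ DerivedCategory.Qh ⟶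
    DerivedCategory.Qh ⋙ RF)

lemma isIso_unitOfK_app_iff (K : CochainComplex A ℤ) :
    IsIso ((unitOfK G RF βK).app K) ↔
      IsIso (βK.app ((HomotopyCategory.quotient A (ComplexShape.up ℤ)).obj K)) := by
  have e : (unitOfK G RF βK).app K = (isoF₀ G).inv.app K ≫
      βK.app ((HomotopyCategory.quotient A (ComplexShape.up ℤ)).obj K) ≫
      RF.map ((DerivedCategory.quotientCompQhIso A).hom.app K) := by
    simp [unitOfK, γOfK]
  rw [e]
  constructor
  · intro h
    haveI := h
    haveI : IsIso (βK.app ((HomotopyCategory.quotient A (ComplexShape.up ℤ)).obj K) ≫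
        RF.map ((DerivedCategory.quotientCompQhIso A).hom.app K)) :=
      IsIso.of_isIso_comp_left ((isoF₀ G).inv.app K) _
    exact IsIso.of_isIso_comp_right _ (RF.map ((DerivedCategory.quotientCompQhIso A).hom.app K))
  · intro h
    haveI := h
    infer_instance

end Convert

section Scheme

variable {X Y : Scheme.{u}} (f : X ⟶ Y) [QuasiCompact f] [QuasiSeparated f] [DCoh.HasRpush f]
  {J : Type u} [SmallCategory J] [IsFiltered J]

/-- S12509 -/
theorem isIso_unit_colimit (C : J ⥤ CochainComplex X.Modules ℤ) [HasColimit C] (n : ℤ)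
    (hC : ∀ j : J, (DCoh.toD X (C.obj j)).IsGE n)
    (hac : ∀ j : J, IsIso (((DCoh.pushKh f).totalRightDerivedUnit DerivedCategory.Qh
      (HomotopyCategory.quasiIso X.Modules (ComplexShape.up ℤ))).app
      ((HomotopyCategory.quotient X.Modules (ComplexShape.up ℤ)).obj (C.obj j)))) :
    IsIso (((DCoh.pushKh f).totalRightDerivedUnit DerivedCategory.Qh
      (HomotopyCategory.quasiIso X.Modules (ComplexShape.up ℤ))).app
      ((HomotopyCategory.quotient X.Modules (ComplexShape.up ℤ)).obj (colimit C))) := by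
  haveI := preservesColimitsOfShape_pushforward f J
  rw [← isIso_unitOfK_app_iff (Scheme.Modules.pushforward f) (DCoh.Rpush f)]
  exact isIso_app_colimit (Scheme.Modules.pushforward f) (DCoh.Rpush f) _
    (fun M q hq hM => isZero_Rpush_colimit_of_acyclic f M q hq hM) C n
    (fun j => (DerivedCategory.isGE_Q_obj_iff _ _).1 (hC j))
    (fun j => (isIso_unitOfK_app_iff (Scheme.Modules.pushforward f) (DCoh.Rpush f) _ _).2 (hac j))

end Scheme

end Groth.Agent.Lib.T2H1.RpushFiltered
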