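import Mathlib
import Groth.Agent.Lib.T2H1RpushFiltered
import Groth.Agent.Lib.T2H1RpushQCCoprod
import Groth.Agent.Lib.Helper17Hyp19
import Groth.Agent.Lib.Helper23QCohAbelian
import Groth.Agent.Lib.T2H1RgammaLoc

/-!
# `H^i Rf_*` and filtered colimits of complexes with quasi-coherent cohomology (`f` qcqs)

No boundedness assumption on the complexes: over an affine open of the base `Rf_*` has bounded
cohomological amplitude on `D_QCoh`, so that `H^i Rf_*` only sees a truncation `τ_{≥ a}`.
-/

set_option autoImplicit false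
universe w v u' u
open CategoryTheory CategoryTheory.Limits CategoryTheory.Pretriangulated AlgebraicGeometry

attribute [local instance] HasDerivedCategory.standard

namespace Groth.Agent.Lib.T2H1.RpushFilteredQC

open Groth.Agent.Lib.T2H1.RpushQCCoprod

section General

variable {A : Type u'} [Category.{v} A] [Abelian A] [HasDerivedCategory.{w} A]

open DerivedCategory

/-- `H^p (Q φ)` is an isomorphism iff `φ` is a quasi-isomorphism in degree `p`. -/
lemma isIso_homologyMap_Q_iff {K L : CochainComplex A ℤ} (φ : K ⟶ L) (p : ℤ) :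
    IsIso ((homologyFunctor A p).map (Q.map φ)) ↔ QuasiIsoAt φ p := by
  rw [quasiIsoAt_iff_isIso_homologyMap]
  exact NatIso.isIso_map_iff (homologyFunctorFactors A p) φ

/-- `H^q` of `E ⟶ τ_{≥ a} E` is an isomorphism for `q ≥ a`. -/
lemma isIso_homologyMap_truncGEπ (E : DerivedCategory A) (a q : ℤ) (hq : a ≤ q) :
    IsIso ((homologyFunctor A q).map ((TStructure.t.truncGEπ a).app E)) := by
  let t := (TStructure.t : Triangulated.TStructure (DerivedCategory A))
  haveI : t.IsLE ((t.truncLT a).obj E) (a - 1) := t.isLE_truncLT_obj E a (a - 1)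
  haveI : ((t.truncLT a).obj E).IsLE (a - 1) := this
  exact isIso_homologyMap_mor₂ ((t.triangleLTGE a).obj E) (t.triangleLTGE_distinguished a E) q
    (isZero_of_isLE ((t.truncLT a).obj E) (a - 1) q (by lia))
    (isZero_of_isLE ((t.truncLT a).obj E) (a - 1) (q + 1) (by lia))

/-- `τ_{≥ a}` inverts the morphisms which are isomorphisms on `H^q` for `q ≥ a`. -/
lemma isIso_truncGE_map {E E' : DerivedCategory A} (g : E ⟶ E') (a : ℤ)
    (hg : ∀ q, a ≤ q → IsIso ((homologyFunctor A q).map g)) :
    IsIso ((TStructure.t.truncGE a).map g) := by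
  let t := (TStructure.t : Triangulated.TStructure (DerivedCategory A))
  rw [DerivedCategory.isIso_iff]
  intro q
  by_cases hq : a ≤ q
  · haveI := hg q hq
    haveI := isIso_homologyMap_truncGEπ E a q hq
    haveI := isIso_homologyMap_truncGEπ E' a q hq
    have nat := (t.truncGEπ a).naturality g
    have h2 : (homologyFunctor A q).map ((t.truncGEπ a).app E) ≫
        (homologyFunctor A q).map ((t.truncGE a).map g) =
        (homologyFunctor A q).map g ≫ (homologyFunctor A q).map ((t.truncGEπ a).app E') := by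
      rw [← Functor.map_comp, ← Functor.map_comp]
      exact congrArg _ nat.symm
    exact IsIso.of_isIso_fac_left h2
  · haveI : ((t.truncGE a).obj E).IsGE a := (inferInstance : t.IsGE ((t.truncGE a).obj E) a)
    haveI : ((t.truncGE a).obj E').IsGE a := (inferInstance : t.IsGE ((t.truncGE a).obj E') a)
    have h1 := isZero_of_isGE ((t.truncGE a).obj E) a q (by lia)
    have h2 := isZero_of_isGE ((t.truncGE a).obj E') a q (by lia)
    exact ⟨⟨0, h1.eq_of_src _ _, h2.eq_of_src _ _⟩⟩

end General

section Bounded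

open Groth.Agent.Lib.T2H1.RpushShift Groth.Agent.Lib.T2H2.QcRpush DerivedCategory
  Groth.Agent.Lib.T2H1.RgammaLoc

attribute [local instance] Groth.Agent.Lib.T2H1.RpushSupport.hasRpush

variable {X S : Scheme.{u}} (f : X ⟶ S) [DCoh.HasRpush f]

/-- if `Rf_*` has cohomological amplitude `< N` on `D_QCoh`, then `H^p Rf_*` inverts the morphisms
with source in `D_QCoh` and target in `D^{≥ a}` which are isomorphisms on `H^q`, `q ≥ a`, as soon as
`p ≥ a + N - 1`. -/
theorem isIso_homologyMap_Rpush_of_bdd (N : ℤ) (hB : Bdd f N) {E E' : DCoh.D X} (g : E ⟶ E')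
    (a : ℤ) [E'.IsGE a] (hg : ∀ q, a ≤ q → IsIso ((homologyFunctor X.Modules q).map g))
    (hE : DCoh.IsQCohD E) (p : ℤ) (hp : a + N - 1 ≤ p) :
    IsIso ((homologyFunctor S.Modules p).map ((DCoh.Rpush f).map g)) := by
  let t := (TStructure.t : Triangulated.TStructure (DCoh.D X))
  haveI := isIso_truncGE_map g a hg
  haveI : t.IsLE ((t.truncLT a).obj E) (a - 1) := t.isLE_truncLT_obj E a (a - 1)
  haveI : ((t.truncLT a).obj E).IsLE (a - 1) := this
  haveI h1 : IsIso ((homologyFunctor S.Modules p).map
      ((DCoh.Rpush f).map ((t.truncGEπ a).app E))) :=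
    isIso_homologyMap_Rpush_mor₂ f N hB ((t.triangleLTGE a).obj E)
      (t.triangleLTGE_distinguished a E) a (isQCohD_truncLT E hE a) p hp
  have nat := (t.truncGEπ a).naturality g
  haveI : t.IsGE E' a := (inferInstance : E'.IsGE a)
  haveI : IsIso ((t.truncGEπ a).app E') := inferInstance
  have h3 : g = (t.truncGEπ a).app E ≫ (t.truncGE a).map g ≫ inv ((t.truncGEπ a).app E') := by
    rw [← Category.assoc, ← nat]
    simp
  rw [h3, Functor.map_comp, Functor.map_comp, Functor.map_comp, Functor.map_comp]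
  infer_instance

variable (V : S.Opens)

/-- the local version: the bound is only assumed over an open `V` of the base, and the
conclusion holds after restriction to `V`. -/
theorem isIso_restrict_homologyMap_Rpush (N : ℤ) (hB : Bdd (f ∣_ V) N) {E E' : DCoh.D X}
    (g : E ⟶ E') (a : ℤ) [E'.IsGE a]
    (hg : ∀ q, a ≤ q → IsIso ((homologyFunctor X.Modules q).map g))
    (hE : DCoh.IsQCohD E) (p : ℤ) (hp : a + N - 1 ≤ p) :
    IsIso ((Scheme.Modules.restrictFunctor V.ι).map
      ((homologyFunctor S.Modules p).map ((DCoh.Rpush f).map g))) := by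
  rw [← Groth.Agent.Lib.Helper17.Hyp.isIso_homology_map_iff]
  obtain ⟨e⟩ := Groth.Agent.Lib.T2H1.RestrictPush.nonempty_restrictD_Rpush_iso f V
  have nat := e.hom.naturality g
  have key : IsIso ((homologyFunctor (V : Scheme.{u}).Modules p).map
      ((DCoh.Rpush (f ∣_ V)).map ((DCoh.restrictD (f ⁻¹ᵁ V).ι).map g))) := by
    haveI : ((DCoh.restrictD (f ⁻¹ᵁ V).ι).obj E').IsGE a :=
      Groth.Agent.Lib.Helper17.AdjWay.isGE_map _ E' a
    refine isIso_homologyMap_Rpush_of_bdd (f ∣_ V) N hB _ a (fun q hq => ?_)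
      (isQCohD_restrictD _ E hE) p hp
    rw [Groth.Agent.Lib.Helper17.Hyp.isIso_homology_map_iff]
    haveI := hg q hq
    infer_instance
  have nat' : (DCoh.restrictD V.ι).map ((DCoh.Rpush f).map g) ≫ e.hom.app E' =
      e.hom.app E ≫ (DCoh.Rpush (f ∣_ V)).map ((DCoh.restrictD (f ⁻¹ᵁ V).ι).map g) := nat
  have h3 : (DCoh.restrictD V.ι).map ((DCoh.Rpush f).map g) =
      e.hom.app E ≫ (DCoh.Rpush (f ∣_ V)).map ((DCoh.restrictD (f ⁻¹ᵁ V).ι).map g) ≫
        e.inv.app E' := by
    rw [← reassoc_of% nat', Iso.hom_inv_id_app]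
    exact (Category.comp_id _).symm
  change IsIso ((homologyFunctor (V : Scheme.{u}).Modules p).map
    ((DCoh.restrictD V.ι).map ((DCoh.Rpush f).map g)))
  rw [h3, Functor.map_comp, Functor.map_comp]
  infer_instance

end Bounded

section Locality

variable {Y : Scheme.{u}}

/-- being a colimit cocone of `O_Y`-modules is local on `Y`. -/
theorem nonempty_isColimit_of_restrict {J : Type u} [SmallCategory J] {D : J ⥤ Y.Modules}
    (s : Cocone D) {κ : Type*} (W : κ → Scheme.{u}) (j : ∀ i, W i ⟶ Y)
    [∀ i, IsOpenImmersion (j i)] (hj : ∀ x : Y, ∃ (i : κ) (y : W i), j i y = x)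
    (h : ∀ i, Nonempty (IsColimit ((Scheme.Modules.restrictFunctor (j i)).mapCocone s))) :
    Nonempty (IsColimit s) := by
  haveI : IsIso ((colimit.isColimit D).desc s) := by
    refine Groth.Agent.Lib.Helper23.ModLocal.isIso_of_isIso_restrict _ W j hj (fun i => ?_)
    obtain ⟨hi⟩ := h i
    haveI : PreservesColimitsOfSize.{u, u} (Scheme.Modules.restrictFunctor (j i)) :=
      (Scheme.Modules.restrictAdjunction (j i)).leftAdjoint_preservesColimits
    have hc := isColimitOfPreserves (Scheme.Modules.restrictFunctor (j i)) (colimit.isColimit D)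
    have : (Scheme.Modules.restrictFunctor (j i)).map ((colimit.isColimit D).desc s) =
        (hc.coconePointUniqueUpToIso hi).hom := by
      apply hc.hom_ext
      intro k
      rw [IsColimit.comp_coconePointUniqueUpToIso_hom]
      dsimp
      rw [← Functor.map_comp]
      congr 1
      exact (colimit.isColimit D).fac s k
    rw [this]
    infer_instance
  exact ⟨IsColimit.ofPointIso (colimit.isColimit D)⟩

end Locality

section Main

open Groth.Agent.Lib.T2H1.RpushShift Groth.Agent.Lib.T2H2.QcRpush DerivedCategory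
  Groth.Agent.Lib.T2H1.RpushFiltered Groth.Agent.Lib.T2H1.ColimCocone
  Groth.Agent.Lib.T2H1.PushFiltered Groth.Agent.Lib.T2H8.PCohQCoh
  Groth.Agent.Lib.Helper23.QCohLocal

attribute [local instance] Groth.Agent.Lib.T2H1.RpushSupport.hasRpush

variable {X Y : Scheme.{u}} (f : X ⟶ Y) [QuasiCompact f] [QuasiSeparated f] [DCoh.HasRpush f]
  {J : Type u} [SmallCategory J] [IsFiltered J]

/-- S12508: `H^i Rf_*` commutes with filtered colimits of complexes with quasi-coherent
cohomology. -/
theorem nonempty_isColimit_HD_Rpush_of_isQCohD (C : J ⥤ CochainComplex X.Modules ℤ)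
    [HasColimit C] (hC : ∀ j : J, DCoh.IsQCohD (DCoh.toD X (C.obj j))) (i : ℤ) :
    Nonempty (IsColimit ((DerivedCategory.Q ⋙ DCoh.Rpush f ⋙
      DerivedCategory.homologyFunctor Y.Modules i).mapCocone (colimit.cocone C))) := by
  let Φ : CochainComplex X.Modules ℤ ⥤ Y.Modules :=
    (DerivedCategory.Q ⋙ DCoh.Rpush f) ⋙ DerivedCategory.homologyFunctor Y.Modules i
  haveI hH : ∀ p, PreservesColimitsOfShape J
      (HomologicalComplex.homologyFunctor X.Modules (ComplexShape.up ℤ) p) := fun p =>
    Groth.Agent.Helper13HomologyColim.preservesColimitsOfShape_homologicalComplex_homologyFunctor _ _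
  -- the colimit has quasi-coherent cohomology
  have hqc : DCoh.IsQCohD (DCoh.toD X (colimit C)) := by
    intro q
    have e1 := (DerivedCategory.homologyFunctorFactors X.Modules q).app (colimit C)
    have e2 := preservesColimitIso
      (HomologicalComplex.homologyFunctor X.Modules (ComplexShape.up ℤ) q) C
    refine isQCoh_of_iso (e1 ≪≫ e2).symm ?_
    refine isQuasicoherent_colimit _ (fun j => ?_)
    exact isQCoh_of_iso ((DerivedCategory.homologyFunctorFactors X.Modules q).app (C.obj j))
      (hC j q)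
  refine nonempty_isColimit_of_restrict (Φ.mapCocone (colimit.cocone C))
    (fun V : Y.affineOpens => (V.1 : Scheme.{u})) (fun V => V.1.ι) (fun x => ?_) (fun V => ?_)
  · obtain ⟨V, hV, hxV, -⟩ :=
      (TopologicalSpace.Opens.isBasis_iff_nbhd.1 Y.isBasis_affineOpens)
        (TopologicalSpace.Opens.mem_top x)
    exact ⟨⟨V, hV⟩, ⟨x, hxV⟩, rfl⟩
  · haveI : CompactSpace (V.1 : Scheme.{u}) := isCompact_iff_compactSpace.1 V.2.isCompact
    obtain ⟨N, hN⟩ := exists_bdd_of_qcqs relMV (f ∣_ V.1)
    obtain ⟨a, ha⟩ : ∃ a : ℤ, a + N - 1 ≤ i := ⟨i - N + 1, by lia⟩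
    let R := Scheme.Modules.restrictFunctor V.1.ι
    let Ca : J ⥤ CochainComplex X.Modules ℤ :=
      C ⋙ (ComplexShape.embeddingUpIntGE a).truncGEFunctor X.Modules
    let θ : C ⟶ Ca :=
      { app := fun j => (C.obj j).πTruncGE a
        naturality := fun j j' φ => (CochainComplex.πTruncGE_naturality (C.map φ) a).symm }
    let c := colimit.cocone C
    let c' := colimit.cocone Ca
    let m : c.pt ⟶ c'.pt := colimMap θ
    have hm : ∀ j, c.ι.app j ≫ m = θ.app j ≫ c'.ι.app j := fun j => ι_colimMap θ j
    haveI hSGE : ∀ j, (Ca.obj j).IsStrictlyGE a := fun j =>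
      (inferInstance : ((C.obj j).truncGE a).IsStrictlyGE a)
    have hGE : ∀ j : J, (DCoh.toD X (Ca.obj j)).IsGE a := fun j =>
      (DerivedCategory.isGE_Q_obj_iff _ _).2 inferInstance
    obtain ⟨hc'⟩ := nonempty_isColimit_HD_Rpush f Ca a hGE i
    haveI : PreservesColimitsOfSize.{u, u} R :=
      (Scheme.Modules.restrictAdjunction V.1.ι).leftAdjoint_preservesColimits
    have hc'' : IsColimit ((Φ ⋙ R).mapCocone c') := isColimitOfPreserves R hc'
    let eX : ∀ p, (colimit Ca).X p ≅
        colimit (Ca ⋙ HomologicalComplex.eval X.Modules (ComplexShape.up ℤ) p) := fun p =>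
      preservesColimitIso (HomologicalComplex.eval X.Modules (ComplexShape.up ℤ) p) Ca
    haveI : (colimit Ca).IsStrictlyGE a := by
      rw [CochainComplex.isStrictlyGE_iff]
      intro p hp
      exact IsZero.of_iso (isZero_colimit _ (fun j =>
        (Ca.obj j).isZero_of_isStrictlyGE a p hp)) (eX p)
    haveI hGE' : (DCoh.toD X (colimit Ca)).IsGE a :=
      (DerivedCategory.isGE_Q_obj_iff _ _).2 inferInstance
    have hθ : ∀ j q, a ≤ q → QuasiIsoAt (θ.app j) q := fun j q hq =>
      CochainComplex.quasiIsoAt_πTruncGE (C.obj j) a q hq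
    have hmq : ∀ q, a ≤ q → QuasiIsoAt m q := by
      intro q hq
      rw [quasiIsoAt_iff_isIso_homologyMap]
      exact isIso_map_of_isColimit
        (HomologicalComplex.homologyFunctor X.Modules (ComplexShape.up ℤ) q)
        θ c c' m hm (isColimitOfPreserves _ (colimit.isColimit C))
        (isColimitOfPreserves _ (colimit.isColimit Ca)) (fun j => by
          have := hθ j q hq
          rw [quasiIsoAt_iff_isIso_homologyMap] at this
          exact this)
    refine ⟨isColimitMapCoconeOfIso (Φ ⋙ R) θ c c' m hm (fun j => ?_) ?_ hc''⟩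
    · haveI := hGE j
      exact isIso_restrict_homologyMap_Rpush f V.1 N hN (DerivedCategory.Q.map (θ.app j)) a
        (fun q hq => (isIso_homologyMap_Q_iff _ q).2 (hθ j q hq)) (hC j) i ha
    · haveI : ((DerivedCategory.Q : _ ⥤ DCoh.D X).obj c'.pt).IsGE a := hGE'
      exact isIso_restrict_homologyMap_Rpush f V.1 N hN (DerivedCategory.Q.map m) a
        (fun q hq => (isIso_homologyMap_Q_iff _ q).2 (hmq q hq)) hqc i ha

end Main

end Groth.Agent.Lib.T2H1.RpushFilteredQC
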