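import Mathlib

/-!
# The right derived functor precomposed with an exact functor landing in adapted objects (T2H2)

Let `T : 𝒞 ⥤ 𝒜` be exact, `G : 𝒜 ⥤ ℬ` additive with a functor `RG : D(𝒜) ⥤ D(ℬ)` and a natural
transformation `β : K(G) ⋙ Qh ⟶ Qh ⋙ RG` which is an isomorphism on all complexes `T(K)`.  If
`T ⋙ G ≅ H₁ ⋙ H₂` with `H₁`, `H₂` exact, then `D(T) ⋙ RG ≅ D(H₁) ⋙ D(H₂)`.
-/

set_option autoImplicit false
set_option linter.style.haveILetI false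
universe w₁ w₂ w₃ w₄ v₁ v₂ v₃ v₄ u₁ u₂ u₃ u₄
open CategoryTheory CategoryTheory.Limits

namespace Groth.Agent.Lib.T2H2.TildePush

variable {𝒞 : Type u₁} [Category.{v₁} 𝒞] [Abelian 𝒞] [HasDerivedCategory.{w₁} 𝒞]
  {𝒜 : Type u₂} [Category.{v₂} 𝒜] [Abelian 𝒜] [HasDerivedCategory.{w₂} 𝒜]
  {ℬ : Type u₃} [Category.{v₃} ℬ] [Abelian ℬ] [HasDerivedCategory.{w₃} ℬ]
  {𝒟 : Type u₄} [Category.{v₄} 𝒟] [Abelian 𝒟] [HasDerivedCategory.{w₄} 𝒟]
  (T : 𝒞 ⥤ 𝒜) [T.Additive] [PreservesFiniteLimits T] [PreservesFiniteColimits T]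
  (G : 𝒜 ⥤ ℬ) [G.Additive]
  (H₁ : 𝒞 ⥤ 𝒟) [H₁.Additive] [PreservesFiniteLimits H₁] [PreservesFiniteColimits H₁]
  (H₂ : 𝒟 ⥤ ℬ) [H₂.Additive] [PreservesFiniteLimits H₂] [PreservesFiniteColimits H₂]
  (ν : T ⋙ G ≅ H₁ ⋙ H₂)
  (RG : DerivedCategory 𝒜 ⥤ DerivedCategory ℬ)
  (β : G.mapHomotopyCategory (ComplexShape.up ℤ) ⋙ DerivedCategory.Qh ⟶ DerivedCategory.Qh ⋙ RG)

include ν in
/-- `D(T) ⋙ RG ≅ D(H₁) ⋙ D(H₂)`. -/
theorem nonempty_mapDerivedCategory_comp_iso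
    (hβ : ∀ K : CochainComplex 𝒞 ℤ, IsIso (β.app ((HomotopyCategory.quotient 𝒜 (ComplexShape.up ℤ)).obj
      ((T.mapHomologicalComplex (ComplexShape.up ℤ)).obj K)))) :
    Nonempty (T.mapDerivedCategory ⋙ RG ≅ H₁.mapDerivedCategory ⋙ H₂.mapDerivedCategory) := by
  haveI : IsIso (Functor.whiskerLeft (T.mapHomotopyCategory (ComplexShape.up ℤ)) β) := by
    haveI : ∀ X, IsIso ((Functor.whiskerLeft (T.mapHomotopyCategory (ComplexShape.up ℤ)) β).app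
        X) := by
      intro X
      obtain ⟨K, rfl⟩ := HomotopyCategory.quotient_obj_surjective X
      exact hβ K
    exact NatIso.isIso_of_isIso_app _
  letI L1 : Localization.Lifting DerivedCategory.Qh
      (HomotopyCategory.quasiIso 𝒞 (ComplexShape.up ℤ))
      (T.mapHomotopyCategory (ComplexShape.up ℤ) ⋙ G.mapHomotopyCategory (ComplexShape.up ℤ) ⋙
        DerivedCategory.Qh) (T.mapDerivedCategory ⋙ RG) :=
    ⟨(Functor.associator _ _ _).symm ≪≫ Functor.isoWhiskerRight T.mapDerivedCategoryFactorsh RG ≪≫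
      Functor.associator _ _ _ ≪≫
      (asIso (Functor.whiskerLeft (T.mapHomotopyCategory (ComplexShape.up ℤ)) β)).symm⟩
  letI L2 : Localization.Lifting DerivedCategory.Qh
      (HomotopyCategory.quasiIso 𝒞 (ComplexShape.up ℤ))
      (T.mapHomotopyCategory (ComplexShape.up ℤ) ⋙ G.mapHomotopyCategory (ComplexShape.up ℤ) ⋙
        DerivedCategory.Qh) (H₁.mapDerivedCategory ⋙ H₂.mapDerivedCategory) :=
    ⟨(Functor.associator _ _ _).symm ≪≫
      Functor.isoWhiskerRight H₁.mapDerivedCategoryFactorsh _ ≪≫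
      Functor.associator _ _ _ ≪≫ Functor.isoWhiskerLeft _ H₂.mapDerivedCategoryFactorsh ≪≫
      (Functor.associator _ _ _).symm ≪≫
      Functor.isoWhiskerRight
        (Functor.mapHomotopyCategoryCompIso (Iso.refl (H₁ ⋙ H₂)) (ComplexShape.up ℤ) ≪≫
          (Functor.mapHomotopyCategoryCompIso ν (ComplexShape.up ℤ)).symm) DerivedCategory.Qh ≪≫
      Functor.associator _ _ _⟩
  exact ⟨Localization.liftNatIso DerivedCategory.Qh
    (HomotopyCategory.quasiIso 𝒞 (ComplexShape.up ℤ))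
    (T.mapHomotopyCategory (ComplexShape.up ℤ) ⋙ G.mapHomotopyCategory (ComplexShape.up ℤ) ⋙
        DerivedCategory.Qh)
    (T.mapHomotopyCategory (ComplexShape.up ℤ) ⋙ G.mapHomotopyCategory (ComplexShape.up ℤ) ⋙
        DerivedCategory.Qh) _ _ (Iso.refl _)⟩

end Groth.Agent.Lib.T2H2.TildePush
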