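import Groth.Agent.Lib.T2H2TildePushA
import Groth.Agent.Lib.T2H2TildePushB
import Groth.Agent.S7245

/-!
# `Rf_*(M~) = (M_R)~` for `f : Spec S ⟶ Spec R`, on derived categories (T2H2)
-/

set_option autoImplicit false
set_option linter.style.haveILetI false
universe u
open CategoryTheory CategoryTheory.Limits AlgebraicGeometry
attribute [local instance] HasDerivedCategory.standard
open Perf

namespace Groth.Agent.Lib.T2H2.TildePush

variable {R S : CommRingCat.{u}} (ψ : R ⟶ S)

/-- `Rf_*` of the tilde of a complex of `S`-modules is the tilde of the restriction of scalars. -/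
theorem nonempty_tildeD_Rpush_iso
    [PreservesFiniteLimits (tilde.functor R)] [PreservesFiniteLimits (tilde.functor S)]
    [DCoh.HasRpush (Spec.map ψ)] :
    Nonempty (DCoh.tildeD S ⋙ DCoh.Rpush (Spec.map ψ) ≅
      (ModuleCat.restrictScalars.{u} ψ.hom).mapDerivedCategory ⋙ DCoh.tildeD R) :=
  nonempty_mapDerivedCategory_comp_iso (ℬ := (Spec (CommRingCat.of ↑R)).Modules)
    (tilde.functor S) (Scheme.Modules.pushforward (Spec.map ψ))
    (ModuleCat.restrictScalars.{u} ψ.hom) (tilde.functor R) (tildePushIso ψ)
    (DCoh.Rpush (Spec.map ψ))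
    ((DCoh.pushKh (Spec.map ψ)).totalRightDerivedUnit DerivedCategory.Qh
      (HomotopyCategory.quasiIso (Spec S).Modules (ComplexShape.up ℤ)))
    (fun K => Groth.Agent.S7245.result (Spec.map ψ)
      (((tilde.functor S).mapHomologicalComplex (ComplexShape.up ℤ)).obj K)
      (fun n => by
        change SheafOfModules.IsQuasicoherent ((tilde.functor S).obj (K.X n))
        infer_instance))

end Groth.Agent.Lib.T2H2.TildePush
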