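import Mathlib
import Groth.Prelude.Def_DerSch
import Groth.Prelude.Def_DDual2
import Groth.Agent.Lib.T2H1RelPerfTri
import Groth.Agent.Lib.T2H1TildeTorAmp
import Groth.Agent.Lib.T2H2TildePushC
import Groth.Agent.Lib.T2H2AffRedA
import Groth.Agent.Lib.Helper1RelPC
set_option backward.isDefEq.respectTransparency.types false

/-!
# Tor amplitude of `Rf_*` relative to a base: transport lemmas and the affine case (helper1)
-/

set_option autoImplicit false
set_option linter.style.haveILetI false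
universe u
open CategoryTheory CategoryTheory.Limits AlgebraicGeometry HomologicalComplex

attribute [local instance] HasDerivedCategory.standard

namespace Groth.Agent.Lib.T2H1.RpushTorAmp

open Groth.Agent.Lib.T2H1.RelPerfTri Groth.Agent.Lib.T2H1.TorAmpRestrict
  Groth.Agent.Lib.T2H1.RelPerfTilde Groth.Agent.Lib.T2H2.TorAmpComp DTen
  Groth.Agent.Lib.Helper1.KF Groth.Agent.Lib.Helper1.DT DerivedCategory

section Ring

variable {A A' : Type u} [CommRing A] [CommRing A']

/-- tor amplitude is preserved by restriction of scalars along a bijective ring homomorphism -/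
theorem hasTorAmplitudeIn_resCx_of_bijective (ψ : A →+* A') (hψ : Function.Bijective ψ)
    (K : Cx A') (a b : ℤ) (h : DRing.HasTorAmplitudeIn A' a b (Q.obj K)) :
    DRing.HasTorAmplitudeIn A a b (Q.obj ((resCx ψ).obj K)) := by
  obtain ⟨E, hE, hEf, ⟨e⟩⟩ := h
  refine ⟨(resCx ψ).obj E, ?_, ?_, ⟨?_⟩⟩
  · intro i hi
    exact (ModuleCat.restrictScalars.{u} ψ).map_isZero (hE i hi)
  · intro i
    haveI : Module.Flat A' (E.X i) := hEf i
    exact flat_restrictScalars_of_bijective ψ hψ (E.X i)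
  · exact ((resFactors ψ).app E).symm ≪≫ (DRing.restrictD ψ).mapIso e ≪≫
      (resFactors ψ).app _

end Ring

section Transport

variable {U X Y Z S : Scheme.{u}}

/-- chain level: tor amplitude at a point relative to `f` gives tor amplitude relative to
`f ≫ j` for an open immersion `j` -/
theorem hasTorAmplitudeAt_comp_openImmersion (f : X ⟶ Y) (j : Y ⟶ Z) [IsOpenImmersion j]
    (G : CochainComplex X.Modules ℤ) (a b : ℤ) (x : X)
    (h : DerSch.HasTorAmplitudeAt f a b G x) :
    DerSch.HasTorAmplitudeAt (f ≫ j) a b G x := by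
  have hb : Function.Bijective (phi f j x) :=
    ConcreteCategory.bijective_of_isIso (j.stalkMap (f.base x))
  refine Groth.Agent.Lib.Helper1.Tor.hasTorAmp_of_iso ?_
    (hasTorAmplitudeIn_resCx_of_bijective (phi f j x) hb _ a b h)
  exact Q.mapIso ((NatIso.mapHomologicalComplex (stalkOverCompIso f j x)
    (ComplexShape.up ℤ)).app G)

theorem hasTorAmplitudeAt_of_comp_openImmersion (f : X ⟶ Y) (j : Y ⟶ Z) [IsOpenImmersion j]
    (G : CochainComplex X.Modules ℤ) (a b : ℤ) (x : X)
    (h : DerSch.HasTorAmplitudeAt (f ≫ j) a b G x) :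
    DerSch.HasTorAmplitudeAt f a b G x := by
  have hb : Function.Bijective (phi f j x) :=
    ConcreteCategory.bijective_of_isIso (j.stalkMap (f.base x))
  apply hasTorAmplitudeIn_of_bijective (phi f j x) hb
  refine Groth.Agent.Lib.Helper1.Tor.hasTorAmp_of_iso ?_ h
  exact Q.mapIso ((NatIso.mapHomologicalComplex (stalkOverCompIso f j x)
    (ComplexShape.up ℤ)).app G).symm

/-- `TAat` relative to `f ≫ j`, `j` an open immersion, is `TAat` relative to `f` -/
theorem tAat_comp_openImmersion_iff (f : X ⟶ Y) (j : Y ⟶ Z) [IsOpenImmersion j]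
    (E : DCoh.D X) (a b : ℤ) (x : X) :
    TAat (f ≫ j) a b E x ↔ TAat f a b E x := by
  let F : CochainComplex X.Modules ℤ := (Q : _ ⥤ DCoh.D X).objPreimage E
  have eF : DCoh.toD X F ≅ E := (Q : _ ⥤ DCoh.D X).objObjPreimageIso E
  constructor
  · intro h
    exact TAat.of_iso f eF ((tAat_toD_iff f a b F x).2
      (hasTorAmplitudeAt_of_comp_openImmersion f j F a b x
        ((tAat_toD_iff (f ≫ j) a b F x).1 (TAat.of_iso (f ≫ j) eF.symm h))))
  · intro h
    exact TAat.of_iso (f ≫ j) eF ((tAat_toD_iff (f ≫ j) a b F x).2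
      (hasTorAmplitudeAt_comp_openImmersion f j F a b x
        ((tAat_toD_iff f a b F x).1 (TAat.of_iso f eF.symm h))))

/-- `TAat` of a restriction to an open subscheme -/
theorem tAat_restrictD_iff (j : U ⟶ X) [IsOpenImmersion j] (f : X ⟶ S)
    (E : DCoh.D X) (a b : ℤ) (u : U) :
    TAat (j ≫ f) a b ((DCoh.restrictD j).obj E) u ↔ TAat f a b E (j u) := by
  let F : CochainComplex X.Modules ℤ := (Q : _ ⥤ DCoh.D X).objPreimage E
  have eF : DCoh.toD X F ≅ E := (Q : _ ⥤ DCoh.D X).objObjPreimageIso E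
  have e1 : DCoh.toD U (((Scheme.Modules.restrictFunctor j).mapHomologicalComplex
      (ComplexShape.up ℤ)).obj F) ≅ (DCoh.restrictD j).obj E :=
    ((Scheme.Modules.restrictFunctor j).mapDerivedCategoryFactors.app F).symm ≪≫
      (DCoh.restrictD j).mapIso eF
  constructor
  · intro h
    exact TAat.of_iso f eF ((tAat_toD_iff f a b F (j u)).2
      (hasTorAmplitudeAt_of_restrict f j F a b u
        ((tAat_toD_iff (j ≫ f) a b _ u).1 (TAat.of_iso (j ≫ f) e1.symm h))))
  · intro h
    exact TAat.of_iso (j ≫ f) e1 ((tAat_toD_iff (j ≫ f) a b _ u).2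
      (hasTorAmplitudeAt_restrict f j F a b u
        ((tAat_toD_iff f a b F (j u)).1 (TAat.of_iso f eF.symm h))))

lemma tAat_congr {f f' : X ⟶ S} (h : f = f') (E : DCoh.D X) (a b : ℤ) (x : X) :
    TAat f a b E x ↔ TAat f' a b E x := by
  subst h
  exact Iff.rfl

end Transport

section Affine

variable {R A B : Type u} [CommRing R] [CommRing A] [CommRing B]

attribute [local instance] Groth.Agent.Lib.T2H1.RpushSupport.hasRpush

/-- the affine case: `X = Spec B ⟶ Y = Spec A ⟶ S = Spec R`. -/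
theorem tAat_Rpush_Spec (ψ : R →+* A) (φ : A →+* B) (K : DCoh.D (Spec (CommRingCat.of B)))
    (hK : DCoh.IsQCohD K) (a b : ℤ)
    (h : ∀ x, TAat (Spec.map (CommRingCat.ofHom φ) ≫ Spec.map (CommRingCat.ofHom ψ)) a b K x)
    (y : Spec (CommRingCat.of A)) :
    TAat (Spec.map (CommRingCat.ofHom ψ)) a b
      ((DCoh.Rpush (Spec.map (CommRingCat.ofHom φ))).obj K) y := by
  haveI : PreservesFiniteLimits (tilde.functor (CommRingCat.of A)) :=
    (Groth.Agent.S9498.aux (CommRingCat.of A)).1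
  haveI : PreservesFiniteLimits (tilde.functor (CommRingCat.of B)) :=
    (Groth.Agent.S9498.aux (CommRingCat.of B)).1
  obtain ⟨M, ⟨eM⟩⟩ := Groth.Agent.Lib.T2H2.AffRed.exists_tildeD_iso B K hK
  obtain ⟨eP⟩ := Groth.Agent.Lib.T2H2.TildePush.nonempty_tildeD_Rpush_iso (CommRingCat.ofHom φ)
  -- the hypothesis in ring terms
  let F : CochainComplex (Spec (CommRingCat.of B)).Modules ℤ :=
    (Q : _ ⥤ DCoh.D (Spec (CommRingCat.of B))).objPreimage K
  have eF : DCoh.toD _ F ≅ K := (Q : _ ⥤ DCoh.D (Spec (CommRingCat.of B))).objObjPreimageIso K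
  have hcomp : Spec.map (CommRingCat.ofHom φ) ≫ Spec.map (CommRingCat.ofHom ψ) =
      Spec.map (CommRingCat.ofHom (φ.comp ψ)) := by
    rw [← Spec.map_comp]
    rfl
  have h1 : DerSch.HasTorAmplitude (Spec.map (CommRingCat.ofHom (φ.comp ψ))) a b F := by
    intro x
    exact (tAat_toD_iff _ a b F x).1 (TAat.of_iso _ eF.symm ((tAat_congr hcomp K a b x).1 (h x)))
  have h2 : DRing.HasTorAmplitudeIn R a b ((DRing.restrictD (φ.comp ψ)).obj M) :=
    (Groth.Agent.Lib.T2H1.TildeTorAmp.hasTorAmplitude_tilde_iff (φ.comp ψ) M F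
      ⟨eF ≪≫ eM.symm⟩ a b).1 h1
  have h3 : DRing.HasTorAmplitudeIn R a b
      ((DRing.restrictD ψ).obj ((DRing.restrictD φ).obj M)) :=
    Groth.Agent.Lib.Helper1.Tor.hasTorAmp_of_iso
      (Groth.Agent.Lib.Helper1.RelPC.restrictDCompIso ψ φ M).symm h2
  -- the conclusion
  let F' : CochainComplex (Spec (CommRingCat.of A)).Modules ℤ :=
    (Q : _ ⥤ DCoh.D (Spec (CommRingCat.of A))).objPreimage
      ((DCoh.Rpush (Spec.map (CommRingCat.ofHom φ))).obj K)
  have eF' : DCoh.toD _ F' ≅ (DCoh.Rpush (Spec.map (CommRingCat.ofHom φ))).obj K :=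
    (Q : _ ⥤ DCoh.D (Spec (CommRingCat.of A))).objObjPreimageIso _
  have e4 : DCoh.toD _ F' ≅ (DCoh.tildeD (CommRingCat.of A)).obj ((DRing.restrictD φ).obj M) :=
    eF' ≪≫ (DCoh.Rpush (Spec.map (CommRingCat.ofHom φ))).mapIso eM.symm ≪≫ eP.app M
  have h4 := (Groth.Agent.Lib.T2H1.TildeTorAmp.hasTorAmplitude_tilde_iff ψ
    ((DRing.restrictD φ).obj M) F' ⟨e4⟩ a b).2 h3
  exact TAat.of_iso _ eF' ((tAat_toD_iff _ a b F' y).2 (h4 y))

end Affine

end Groth.Agent.Lib.T2H1.RpushTorAmp
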