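import Groth.Agent.Lib.T2H1RpushTorAmpA
import Groth.Agent.Lib.T2H1PerfPush
import Groth.Agent.S0922
import Groth.Agent.S0998
import Groth.Agent.S0015
set_option backward.isDefEq.respectTransparency.types false

/-!
# Tor amplitude of `Rf_*` relative to a base: Mayer–Vietoris induction (helper1)
-/

set_option autoImplicit false
set_option linter.style.haveILetI false
universe u
open CategoryTheory CategoryTheory.Limits AlgebraicGeometry HomologicalComplex Pretriangulated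

attribute [local instance] HasDerivedCategory.standard

namespace Groth.Agent.Lib.T2H1.RpushTorAmp

open Groth.Agent.Lib.T2H1.RelPerfTri Groth.Agent.Lib.T2H1.TorAmpRestrict
  Groth.Agent.Lib.T2H1.RelPerfTilde Groth.Agent.Lib.T2H2.TorAmpComp DTen
  Groth.Agent.Lib.Helper1.KF Groth.Agent.Lib.Helper1.DT DerivedCategory
  Scheme.Modules Groth.Agent.Lib.T2H1.MVTri Groth.Agent.Lib.Helper17.KInj

attribute [local instance] Groth.Agent.Lib.T2H1.RpushSupport.hasRpush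

section Counit

variable {U X : Scheme.{u}}

/-- `(Rj_* E)|_U ≅ E` for an open immersion `j`. -/
theorem nonempty_restrictD_Rpush_iso' (j : U ⟶ X) [IsOpenImmersion j] (E : DCoh.D U) :
    Nonempty ((DCoh.restrictD j).obj ((DCoh.Rpush j).obj E) ≅ E) := by
  obtain ⟨β, hβ⟩ := exists_unit_Rpush j
  exact ⟨(asIso (derivedAdjunction.{u} (restrictFunctor j) (pushforward j)
    (restrictAdjunction j) (DCoh.Rpush j) β).counit).app E⟩

end Counit

section Good

variable {X X₁ X₂ Y S : Scheme.{u}}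

lemma tAat_biprod (f : X ⟶ S) (A B : DCoh.D X) (a b : ℤ) (x : X) (hA : TAat f a b A x)
    (hB : TAat f a b B x) : TAat f a b (A ⊞ B) x := by
  have hT := (DerSch.stalkOver f x).mapDerivedCategory.map_distinguished _
    (binaryBiproductTriangle_distinguished A B)
  exact (Groth.Agent.Lib.Helper1.Tor.hasTorAmp_two_out_of_three a b _ hT).2.1 hA hB

/-- the property to be proved by induction -/
def Good (g : X ⟶ Y) (q : Y ⟶ S) : Prop :=
  ∀ K : DCoh.D X, DCoh.IsQCohD K → ∀ a b : ℤ, (∀ x : X, TAat (g ≫ q) a b K x) →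
    ∃ n : ℕ, ∀ y : Y, TAat q a (b + n) ((DCoh.Rpush g).obj K) y

lemma good_congr {g g' : X ⟶ Y} (h : g = g') (q : Y ⟶ S) : Good g q ↔ Good g' q := by
  subst h
  exact Iff.rfl

/-- transport of `Good` along an isomorphism of the source -/
theorem good_of_iso (e : X₁ ≅ X₂) (h₂ : X₂ ⟶ Y) (q : Y ⟶ S) (H : Good h₂ q) :
    Good (e.hom ≫ h₂) q := by
  intro K hK a b hTA
  obtain ⟨c⟩ := Groth.Agent.S0922.result e.hom h₂
  obtain ⟨r⟩ := nonempty_restrictD_Rpush_iso' e.hom K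
  have hK' : DCoh.IsQCohD ((DCoh.Rpush e.hom).obj K) := Groth.Agent.S0998.result e.hom K hK
  have hTA' : ∀ x : X₂, TAat (h₂ ≫ q) a b ((DCoh.Rpush e.hom).obj K) x := by
    intro x
    have hx : e.hom (e.inv x) = x := by
      rw [← Scheme.Hom.comp_apply, e.inv_hom_id]
      rfl
    rw [← hx]
    refine (tAat_restrictD_iff e.hom (h₂ ≫ q) _ a b (e.inv x)).1 ?_
    refine TAat.of_iso _ r.symm ?_
    exact (tAat_congr (Category.assoc e.hom h₂ q) K a b _).1 (hTA _)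
  obtain ⟨n, hn⟩ := H _ hK' a b hTA'
  exact ⟨n, fun y => TAat.of_iso q (c.app K) (hn y)⟩

end Good

section Affine

variable {R A : Type u} [CommRing R] [CommRing A]

/-- the case of an affine source -/
theorem good_of_isAffine {W : Scheme.{u}} [IsAffine W] (ψ : R →+* A)
    (g : W ⟶ Spec (CommRingCat.of A)) : Good g (Spec.map (CommRingCat.ofHom ψ)) := by
  have key : ∀ (B : Type u) [CommRing B] (e : W ≅ Spec (CommRingCat.of B)) (φ : A →+* B),
      Good (e.hom ≫ Spec.map (CommRingCat.ofHom φ)) (Spec.map (CommRingCat.ofHom ψ)) := by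
    intro B _ e φ
    refine good_of_iso e _ _ ?_
    intro K hK a b hTA
    exact ⟨0, fun y => TAat.mono _ le_rfl (by simp) (tAat_Rpush_Spec ψ φ K hK a b hTA y)⟩
  let e : W ≅ Spec (CommRingCat.of Γ(W, ⊤)) := W.isoSpec
  let φc : CommRingCat.of A ⟶ CommRingCat.of Γ(W, ⊤) := Spec.preimage (e.inv ≫ g)
  have hφc : Spec.map φc = e.inv ≫ g := Spec.map_preimage _
  have hg : g = e.hom ≫ Spec.map (CommRingCat.ofHom φc.hom) := by
    change g = e.hom ≫ Spec.map φc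
    rw [hφc, e.hom_inv_id_assoc]
  rw [good_congr hg]
  exact key Γ(W, ⊤) e φc.hom

/-- the case of an affine target and a quasi-compact quasi-separated source -/
theorem good_of_affine_target {X : Scheme.{u}} [CompactSpace X] [QuasiSeparatedSpace X]
    (ψ : R →+* A) (g : X ⟶ Spec (CommRingCat.of A)) :
    Good g (Spec.map (CommRingCat.ofHom ψ)) := by
  have key : ∀ W : X.Opens, IsCompact (W : Set X) →
      Good (W.ι ≫ g) (Spec.map (CommRingCat.ofHom ψ)) := by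
    intro W hW
    refine Groth.Agent.S0015.result X
      (fun W => Good (W.ι ≫ g) (Spec.map (CommRingCat.ofHom ψ))) ?_ ?_ W hW
    · intro W hW
      haveI : IsAffine (W : Scheme.{u}) := hW
      exact good_of_isAffine ψ (W.ι ≫ g)
    · intro U V _ _ hPU hPV hPUV K hK a b hTA
      obtain ⟨α, β, γ, hT⟩ := Groth.Agent.S0998.relMV ((U ⊔ V).ι ≫ g) ((U ⊔ V).ι ⁻¹ᵁ U)
        ((U ⊔ V).ι ⁻¹ᵁ V)
        (by
          rw [← Scheme.Hom.preimage_sup]
          exact Scheme.Opens.ι_preimage_self _) K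
      -- restrictions keep the hypotheses
      have hres : ∀ (W' : (U ⊔ V).toScheme.Opens) (w : (W' : Scheme.{u})),
          TAat ((W'.ι ≫ (U ⊔ V).ι ≫ g) ≫ Spec.map (CommRingCat.ofHom ψ)) a b
            ((DCoh.restrictD W'.ι).obj K) w := by
        intro W' w
        have h1 := (tAat_restrictD_iff W'.ι (((U ⊔ V).ι ≫ g) ≫ Spec.map (CommRingCat.ofHom ψ))
          K a b w).2 (hTA _)
        exact (tAat_congr (by simp only [Category.assoc]) _ a b w).1 h1
      -- the three pieces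
      have gU : Good (((U ⊔ V).ι ⁻¹ᵁ U).ι ≫ (U ⊔ V).ι ≫ g)
          (Spec.map (CommRingCat.ofHom ψ)) := by
        have h1 : ((U ⊔ V).ι ⁻¹ᵁ U).ι ≫ (U ⊔ V).ι ≫ g =
            (Scheme.Opens.isoOfLE (le_sup_left : U ≤ U ⊔ V)).hom ≫ U.ι ≫ g := by
          rw [Scheme.Opens.isoOfLE_hom_ι_assoc]
        rw [good_congr h1]
        exact good_of_iso _ _ _ hPU
      have gV : Good (((U ⊔ V).ι ⁻¹ᵁ V).ι ≫ (U ⊔ V).ι ≫ g)
          (Spec.map (CommRingCat.ofHom ψ)) := by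
        have h1 : ((U ⊔ V).ι ⁻¹ᵁ V).ι ≫ (U ⊔ V).ι ≫ g =
            (Scheme.Opens.isoOfLE (le_sup_right : V ≤ U ⊔ V)).hom ≫ V.ι ≫ g := by
          rw [Scheme.Opens.isoOfLE_hom_ι_assoc]
        rw [good_congr h1]
        exact good_of_iso _ _ _ hPV
      have gUV : Good (((U ⊔ V).ι ⁻¹ᵁ U ⊓ (U ⊔ V).ι ⁻¹ᵁ V).ι ≫ (U ⊔ V).ι ≫ g)
          (Spec.map (CommRingCat.ofHom ψ)) := by
        let e : ((((U ⊔ V).ι ⁻¹ᵁ U ⊓ (U ⊔ V).ι ⁻¹ᵁ V : (U ⊔ V).toScheme.Opens)) : Scheme.{u}) ≅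
            ((U ⊓ V : X.Opens) : Scheme.{u}) :=
          Scheme.Opens.isoOfLE (inf_le_left.trans le_sup_left : U ⊓ V ≤ U ⊔ V)
        have h1 : ((U ⊔ V).ι ⁻¹ᵁ U ⊓ (U ⊔ V).ι ⁻¹ᵁ V).ι ≫ (U ⊔ V).ι ≫ g =
            e.hom ≫ (U ⊓ V).ι ≫ g :=
          (Scheme.Opens.isoOfLE_hom_ι_assoc
            (inf_le_left.trans le_sup_left : U ⊓ V ≤ U ⊔ V) g).symm
        rw [good_congr h1]
        exact good_of_iso e _ _ hPUV
      obtain ⟨n₁, hn₁⟩ := gU _ (Groth.Agent.Lib.T2H2.AffRpush.isQCohD_restrictD _ K hK) a b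
        (hres _)
      obtain ⟨n₂, hn₂⟩ := gV _ (Groth.Agent.Lib.T2H2.AffRpush.isQCohD_restrictD _ K hK) a b
        (hres _)
      obtain ⟨n₃, hn₃⟩ := gUV _ (Groth.Agent.Lib.T2H2.AffRpush.isQCohD_restrictD _ K hK) a b
        (hres _)
      refine ⟨max (max n₁ n₂) n₃ + 1, fun y => ?_⟩
      have hT' := (DerSch.stalkOver (Spec.map (CommRingCat.ofHom ψ)) y).mapDerivedCategory.map_distinguished
        _ hT
      have h₂ : TAat (Spec.map (CommRingCat.ofHom ψ)) a (b + (max (max n₁ n₂) n₃ : ℕ) + 1)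
          (((DCoh.Rpush (((U ⊔ V).ι ⁻¹ᵁ U).ι ≫ (U ⊔ V).ι ≫ g)).obj
            ((DCoh.restrictD ((U ⊔ V).ι ⁻¹ᵁ U).ι).obj K)) ⊞
          ((DCoh.Rpush (((U ⊔ V).ι ⁻¹ᵁ V).ι ≫ (U ⊔ V).ι ≫ g)).obj
            ((DCoh.restrictD ((U ⊔ V).ι ⁻¹ᵁ V).ι).obj K))) y := by
        refine tAat_biprod _ _ _ _ _ _ ?_ ?_
        · refine TAat.mono _ le_rfl ?_ (hn₁ y)
          have : (n₁ : ℤ) ≤ (max (max n₁ n₂) n₃ : ℕ) := by
            exact_mod_cast (le_max_left _ _).trans (le_max_left _ _)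
          lia
        · refine TAat.mono _ le_rfl ?_ (hn₂ y)
          have : (n₂ : ℤ) ≤ (max (max n₁ n₂) n₃ : ℕ) := by
            exact_mod_cast (le_max_right _ _).trans (le_max_left _ _)
          lia
      have h₃ : TAat (Spec.map (CommRingCat.ofHom ψ)) (a - 1) (b + (max (max n₁ n₂) n₃ : ℕ))
          ((DCoh.Rpush (((U ⊔ V).ι ⁻¹ᵁ U ⊓ (U ⊔ V).ι ⁻¹ᵁ V).ι ≫ (U ⊔ V).ι ≫ g)).obj
            ((DCoh.restrictD ((U ⊔ V).ι ⁻¹ᵁ U ⊓ (U ⊔ V).ι ⁻¹ᵁ V).ι).obj K)) y := by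
        refine TAat.mono _ (by lia) ?_ (hn₃ y)
        have : (n₃ : ℤ) ≤ (max (max n₁ n₂) n₃ : ℕ) := by
          exact_mod_cast le_max_right _ _
        lia
      have h := (Groth.Agent.Lib.Helper1.Tor.hasTorAmp_two_out_of_three (a - 1)
        (b + (max (max n₁ n₂) n₃ : ℕ)) _ hT').2.2
        (by
          have := h₂
          simpa [TAat, sub_add_cancel] using this) h₃
      have h' : TAat (Spec.map (CommRingCat.ofHom ψ)) (a - 1 + 1)
          (b + (max (max n₁ n₂) n₃ : ℕ) + 1) ((DCoh.Rpush ((U ⊔ V).ι ≫ g)).obj K) y := h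
      refine TAat.mono _ (by lia) ?_ h'
      push_cast
      lia
  have h2 : X.topIso.symm.hom ≫ (⊤ : X.Opens).ι ≫ g = g := by
    change X.topIso.inv ≫ (⊤ : X.Opens).ι ≫ g = g
    rw [Scheme.toIso_inv_ι_assoc]
  rw [← good_congr h2]
  exact good_of_iso X.topIso.symm _ _ (key ⊤ CompactSpace.isCompact_univ)

end Affine

end Groth.Agent.Lib.T2H1.RpushTorAmp
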