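import Groth.Agent.Lib.T2H1RpushTorAmpB
import Groth.Agent.Lib.T2H1RestrictPush
set_option backward.isDefEq.respectTransparency.types false

/-!
# Tor amplitude of `Rf_*` relative to a base: globalization (helper1)
-/

set_option autoImplicit false
set_option linter.style.haveILetI false
universe u
open CategoryTheory CategoryTheory.Limits AlgebraicGeometry HomologicalComplex Pretriangulated

attribute [local instance] HasDerivedCategory.standard

namespace Groth.Agent.Lib.T2H1.RpushTorAmp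

open Groth.Agent.Lib.T2H1.RelPerfTri Groth.Agent.Lib.T2H1.TorAmpRestrict
  Groth.Agent.Lib.T2H1.RelPerfTilde Groth.Agent.Lib.T2H2.TorAmpComp DTen
  Groth.Agent.Lib.Helper1.KF Groth.Agent.Lib.Helper1.DT DerivedCategory
  Scheme.Modules Groth.Agent.Lib.T2H1.MVTri Groth.Agent.Lib.Helper17.KInj

attribute [local instance] Groth.Agent.Lib.T2H1.RpushSupport.hasRpush

section Target

variable {X Y Y' S S' : Scheme.{u}}

/-- transport of `Good` along an isomorphism of the target and an open immersion of the base -/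
theorem good_of_target_iso (g : X ⟶ Y) (eY : Y ≅ Y') (q' : Y' ⟶ S') (j : S' ⟶ S)
    [IsOpenImmersion j] (q : Y ⟶ S) (hq : q = eY.hom ≫ q' ≫ j) (H : Good (g ≫ eY.hom) q') :
    Good g q := by
  intro K hK a b hTA
  have hTA' : ∀ x, TAat ((g ≫ eY.hom) ≫ q') a b K x := fun x =>
    (tAat_comp_openImmersion_iff ((g ≫ eY.hom) ≫ q') j K a b x).1
      ((tAat_congr (by rw [hq]; simp only [Category.assoc]) K a b x).1 (hTA x))
  obtain ⟨n, hn⟩ := H K hK a b hTA'
  refine ⟨n, fun y => ?_⟩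
  obtain ⟨c⟩ := Groth.Agent.S0922.result g eY.hom
  obtain ⟨r⟩ := nonempty_restrictD_Rpush_iso' eY.hom ((DCoh.Rpush g).obj K)
  have h1 : TAat q' a (b + n) ((DCoh.Rpush eY.hom).obj ((DCoh.Rpush g).obj K)) (eY.hom y) :=
    TAat.of_iso q' (c.app K).symm (hn (eY.hom y))
  have h2 := (tAat_comp_openImmersion_iff q' j _ a (b + n) _).2 h1
  have h3 := (tAat_restrictD_iff eY.hom (q' ≫ j) _ a (b + n) y).2 h2
  have h4 := TAat.of_iso _ r h3
  exact (tAat_congr hq.symm _ a (b + n) y).1 h4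

/-- affine target and affine base -/
theorem good_of_isAffine_target [IsAffine Y] [IsAffine S] [CompactSpace X]
    [QuasiSeparatedSpace X] (g : X ⟶ Y) (q : Y ⟶ S) : Good g q := by
  let eY : Y ≅ Spec (CommRingCat.of Γ(Y, ⊤)) := Y.isoSpec
  let eS : S ≅ Spec (CommRingCat.of Γ(S, ⊤)) := S.isoSpec
  let ψc : CommRingCat.of Γ(S, ⊤) ⟶ CommRingCat.of Γ(Y, ⊤) :=
    Spec.preimage (eY.inv ≫ q ≫ eS.hom)
  have hψc : Spec.map ψc = eY.inv ≫ q ≫ eS.hom := Spec.map_preimage _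
  have hq : q = eY.hom ≫ Spec.map (CommRingCat.ofHom ψc.hom) ≫ eS.inv := by
    change q = eY.hom ≫ Spec.map ψc ≫ eS.inv
    rw [hψc]
    simp
  exact good_of_target_iso g eY (Spec.map (CommRingCat.ofHom ψc.hom)) eS.inv q hq
    (good_of_affine_target ψc.hom (g ≫ eY.hom))

end Target

section Global

variable {X Y S : Scheme.{u}}

/-- the local form of the theorem: uniform tor amplitude over the preimage of an affine open
of `Y` lying over an affine open of `S`. -/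
theorem exists_tAat_Rpush_on_affine (f : X ⟶ Y) [QuasiCompact f] [QuasiSeparated f] (q : Y ⟶ S)
    (Y' : Y.Opens) (hY' : IsAffineOpen Y') (S' : S.Opens) (hS' : IsAffineOpen S')
    (hle : Y' ≤ q ⁻¹ᵁ S') (K : DCoh.D X) (hK : DCoh.IsQCohD K) (a b : ℤ)
    (hTA : ∀ x : X, x ∈ f ⁻¹ᵁ Y' → TAat (f ≫ q) a b K x) :
    ∃ n : ℕ, ∀ y : Y, y ∈ Y' → TAat q a (b + n) ((DCoh.Rpush f).obj K) y := by
  haveI : IsAffine (Y' : Scheme.{u}) := hY'
  haveI : IsAffine (S' : Scheme.{u}) := hS'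
  haveI : QuasiCompact (f ∣_ Y') :=
    IsZariskiLocalAtTarget.restrict (P := @QuasiCompact) inferInstance Y'
  haveI : QuasiSeparated (f ∣_ Y') :=
    IsZariskiLocalAtTarget.restrict (P := @QuasiSeparated) inferInstance Y'
  haveI : CompactSpace ((f ⁻¹ᵁ Y' : X.Opens) : Scheme.{u}) :=
    QuasiCompact.compactSpace_of_compactSpace (f ∣_ Y')
  haveI : QuasiSeparatedSpace ((f ⁻¹ᵁ Y' : X.Opens) : Scheme.{u}) :=
    quasiSeparatedSpace_of_quasiSeparated (f ∣_ Y')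
  let q' : (Y' : Scheme.{u}) ⟶ (S' : Scheme.{u}) := q.resLE S' Y' hle
  have hq' : q' ≫ S'.ι = Y'.ι ≫ q := Scheme.Hom.resLE_comp_ι q hle
  have H : Good (f ∣_ Y') q' := good_of_isAffine_target (f ∣_ Y') q'
  have hcomp : (f ⁻¹ᵁ Y').ι ≫ f ≫ q = ((f ∣_ Y') ≫ q') ≫ S'.ι := by
    rw [Category.assoc, hq', ← Category.assoc, ← Category.assoc, morphismRestrict_ι]
  have hTA' : ∀ x', TAat ((f ∣_ Y') ≫ q') a b ((DCoh.restrictD (f ⁻¹ᵁ Y').ι).obj K) x' := by
    intro x'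
    have h1 := (tAat_restrictD_iff (f ⁻¹ᵁ Y').ι (f ≫ q) K a b x').2 (hTA _ x'.2)
    exact (tAat_comp_openImmersion_iff _ S'.ι _ a b x').1 ((tAat_congr hcomp _ a b x').1 h1)
  obtain ⟨n, hn⟩ := H _ (Groth.Agent.Lib.T2H2.AffRpush.isQCohD_restrictD _ K hK) a b hTA'
  refine ⟨n, fun y hy => ?_⟩
  obtain ⟨ρ⟩ := Groth.Agent.Lib.T2H1.RestrictPush.nonempty_restrictD_Rpush_iso f Y'
  have h1 := (tAat_comp_openImmersion_iff q' S'.ι _ a (b + n) _).2 (hn ⟨y, hy⟩)
  have h2 := (tAat_congr hq' _ a (b + n) _).1 h1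
  have h3 := TAat.of_iso _ (ρ.app K).symm h2
  exact (tAat_restrictD_iff Y'.ι q _ a (b + n) ⟨y, hy⟩).1 h3

/-- existence of a suitable pair of affine opens around a point -/
theorem exists_affine_pair (q : Y ⟶ S) (y : Y) :
    ∃ (Y' : Y.Opens) (S' : S.Opens), IsAffineOpen Y' ∧ IsAffineOpen S' ∧ y ∈ Y' ∧
      Y' ≤ q ⁻¹ᵁ S' := by
  obtain ⟨S', hS', hyS', -⟩ := exists_isAffineOpen_mem_and_subset (x := q y) (U := ⊤) trivial
  obtain ⟨Y', hY', hyY', hle⟩ := exists_isAffineOpen_mem_and_subset (x := y) (U := q ⁻¹ᵁ S')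
    hyS'
  exact ⟨Y', S', hY', hS', hyY', hle⟩

/-- `Rf_*` preserves locally finite tor amplitude relative to a base (derived category form) -/
theorem exists_nhd_tAat_Rpush (f : X ⟶ Y) [QuasiCompact f] [QuasiSeparated f] (q : Y ⟶ S)
    (K : DCoh.D X) (hK : DCoh.IsQCohD K) (hTA : LocTA (f ≫ q) K) (y : Y) :
    ∃ (V : Y.Opens) (a b : ℤ), y ∈ V ∧ ∀ y' : Y, y' ∈ V →
      TAat q a b ((DCoh.Rpush f).obj K) y' := by
  obtain ⟨Y', S', hY', hS', hyY', hle⟩ := exists_affine_pair q y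
  have hcpt : IsCompact ((f ⁻¹ᵁ Y' : X.Opens) : Set X) :=
    QuasiCompact.isCompact_preimage (f := f) _ Y'.2 hY'.isCompact
  have hunif : ∃ a b : ℤ, ∀ x : X, x ∈ ((f ⁻¹ᵁ Y' : X.Opens) : Set X) →
      TAat (f ≫ q) a b K x := by
    refine hcpt.induction_on (p := fun s => ∃ a b : ℤ, ∀ x : X, x ∈ s → TAat (f ≫ q) a b K x)
      ⟨0, 0, fun x hx => hx.elim⟩ ?_ ?_ ?_
    · rintro s t hst ⟨a, b, h⟩
      exact ⟨a, b, fun x hx => h x (hst hx)⟩
    · rintro s t ⟨a, b, h⟩ ⟨a', b', h'⟩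
      refine ⟨min a a', max b b', fun x hx => ?_⟩
      rcases hx with hx | hx
      · exact TAat.mono _ (min_le_left _ _) (le_max_left _ _) (h x hx)
      · exact TAat.mono _ (min_le_right _ _) (le_max_right _ _) (h' x hx)
    · intro x _
      obtain ⟨V, a, b, hxV, hV⟩ := hTA x
      exact ⟨V, mem_nhdsWithin_of_mem_nhds (V.2.mem_nhds hxV), a, b, fun x' hx' => hV x' hx'⟩
  obtain ⟨a, b, hab⟩ := hunif
  obtain ⟨n, hn⟩ := exists_tAat_Rpush_on_affine f q Y' hY' S' hS' hle K hK a b hab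
  exact ⟨Y', a, b + n, hyY', hn⟩

end Global

end Groth.Agent.Lib.T2H1.RpushTorAmp
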