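import Groth.Agent.Lib.T2H1RpushTorAmpC
import Groth.Agent.Lib.T2H1StalkTorAmp
import Groth.Agent.Lib.Helper1TorO
set_option backward.isDefEq.respectTransparency.types false

/-!
# Tor amplitude of `Rf_*`: improvement of the upper bound, composition at a point, and the
absolute (flat amplitude) form (helper1)
-/

set_option autoImplicit false
set_option linter.style.haveILetI false
universe u
open CategoryTheory CategoryTheory.Limits AlgebraicGeometry HomologicalComplex Pretriangulated
  MonoidalCategory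

attribute [local instance] HasDerivedCategory.standard

namespace Groth.Agent.Lib.T2H1.RpushTorAmp

open Groth.Agent.Lib.T2H1.RelPerfTri Groth.Agent.Lib.T2H1.TorAmpRestrict
  Groth.Agent.Lib.T2H1.RelPerfTilde Groth.Agent.Lib.T2H2.TorAmpComp DTen
  Groth.Agent.Lib.Helper1.KF Groth.Agent.Lib.Helper1.DT DerivedCategory
  Groth.Agent.Lib.Helper1.Tor Groth.Agent.Lib.Helper1.TorO

section Ring

variable {R : Type u} [CommRing R]

/-- an object of `D^{≤ c}` of finite tor amplitude `[a, c']` has tor amplitude in `[a, c]` -/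
theorem hasTorAmp_of_isLE (K : Dual.D R) (a c c' : ℤ) (h : DRing.HasTorAmplitudeIn R a c' K)
    [K.IsLE c] : DRing.HasTorAmplitudeIn R a c K := by
  obtain ⟨E, hE, hEf, ⟨e⟩⟩ := h
  obtain ⟨G', hG'le, hG'p, ⟨eG⟩⟩ := Groth.Agent.Lib.Helper1.ProjRes.exists_iso_Q_proj K c
  have hG'b : DRing.VanishesAbove G' c := fun j hj => G'.isZero_of_isStrictlyLE c j hj
  have hG'f : DRing.TermwiseFlat G' := fun i =>
    have := hG'p i
    have : Module.Projective R (G'.X i) := ModuleCat.projective_of_module_projective _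
    inferInstance
  have hG'K : KFlat G' := kflat_of_boundedAbove_flat G' c hG'b hG'f
  have hv : TorVan G' a c' := torVan_of_iso_kflat G' E hG'K a c' hE hEf (e ≪≫ eG.symm)
  have hv' : TorVan G' a c := by
    intro M i hi
    rcases hi with hi | hi
    · exact hv M i (Or.inl hi)
    · exact ShortComplex.exact_of_isZero_X₂ _ ((tensorLeft M).map_isZero (hG'b i hi))
  exact hasTorAmp_of_iso eG (hasTorAmp_of_torVan G' c hG'b hG'f a c hv')

end Ring

section Comp

variable {X Y Z : Scheme.{u}}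

/-- the stalk of the unit complex over the base local ring, as an object of the derived
category -/
noncomputable def unitStalkIso (g : Y ⟶ Z) (y : Y) :
    letI : Algebra (Z.presheaf.stalk (g.base y)) (Y.presheaf.stalk y) :=
      (g.stalkMap y).hom.toAlgebra
    DRing.toD ((DerSch.stalkCxOver g y).obj (DerSch.unitCx Y)) ≅
      Dual.inD (Z.presheaf.stalk (g.base y)) (Y.presheaf.stalk y) := by
  letI : Algebra (Z.presheaf.stalk (g.base y)) (Y.presheaf.stalk y) :=
    (g.stalkMap y).hom.toAlgebra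
  let e1 : (DerSch.stalkCxOver g y).obj (DerSch.unitCx Y) ≅
      (HomologicalComplex.single _ (ComplexShape.up ℤ) 0).obj
        ((DerSch.stalkOver g y).obj (Coh.structureModule Y)) :=
    (HomologicalComplex.singleMapHomologicalComplex (DerSch.stalkOver g y) (ComplexShape.up ℤ) 0).app
      (Coh.structureModule Y)
  let e2 : (DerSch.stalkOver g y).obj (Coh.structureModule Y) ≅
      ModuleCat.of (Z.presheaf.stalk (g.base y)) (Y.presheaf.stalk y) :=
    (LinearEquiv.toModuleIso
      (X₁ := ModuleCat.of (Z.presheaf.stalk (g.base y)) (Y.presheaf.stalk y))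
      (X₂ := (DerSch.stalkOver g y).obj (Coh.structureModule Y))
      { toFun := fun b => Groth.Agent.Lib.Helper23.UnitStalk.unitStalkEquiv y b
        invFun := fun m => (Groth.Agent.Lib.Helper23.UnitStalk.unitStalkEquiv y).symm m
        left_inv := fun b => (Groth.Agent.Lib.Helper23.UnitStalk.unitStalkEquiv y).symm_apply_apply b
        right_inv := fun m => (Groth.Agent.Lib.Helper23.UnitStalk.unitStalkEquiv y).apply_symm_apply m
        map_add' := fun b b' => map_add (Groth.Agent.Lib.Helper23.UnitStalk.unitStalkEquiv y) b b'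
        map_smul' := fun r b => by
          show Groth.Agent.Lib.Helper23.UnitStalk.unitStalkEquiv y ((g.stalkMap y).hom r * b) =
            (g.stalkMap y).hom r • Groth.Agent.Lib.Helper23.UnitStalk.unitStalkEquiv y b
          rw [← smul_eq_mul, map_smul] }).symm
  exact DerivedCategory.Q.mapIso e1 ≪≫
    ((DerivedCategory.singleFunctorIsoCompQ (ModuleCat.{u} (Z.presheaf.stalk (g.base y))) 0).app
      _).symm ≪≫ (DerivedCategory.singleFunctor _ 0).mapIso e2

/-- tor amplitude relative to a composite, at a point -/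
theorem hasTorAmplitudeAt_comp (f : X ⟶ Y) (g : Y ⟶ Z) (x : X) (a' b' : ℤ)
    (hg : DerSch.HasTorAmplitudeAt g a' b' (DerSch.unitCx Y) (f.base x))
    (F : CochainComplex X.Modules ℤ) (a b : ℤ) (hF : DerSch.HasTorAmplitudeAt f a b F x) :
    DerSch.HasTorAmplitudeAt (f ≫ g) (a - (-a').toNat) b F x := by
  letI : Algebra (Z.presheaf.stalk ((f ≫ g).base x)) (Y.presheaf.stalk (f.base x)) :=
    (phi f g x).toAlgebra
  have hB0 : DRing.HasTorAmplitudeIn (Z.presheaf.stalk ((f ≫ g).base x)) a' b'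
      (Dual.inD (Z.presheaf.stalk ((f ≫ g).base x)) (Y.presheaf.stalk (f.base x))) :=
    hasTorAmp_of_iso (unitStalkIso g (f.base x)) hg
  have hB1 : DRing.HasTorAmplitudeIn (Z.presheaf.stalk ((f ≫ g).base x)) (-((-a').toNat : ℤ))
      (max b' 0)
      (Dual.inD (Z.presheaf.stalk ((f ≫ g).base x)) (Y.presheaf.stalk (f.base x))) := by
    refine Groth.Agent.Lib.Helper1.Tor.hasTorAmp_mono ?_ (le_max_left _ _) hB0
    have := Int.self_le_toNat (-a')
    lia
  haveI : (Dual.inD (Z.presheaf.stalk ((f ≫ g).base x)) (Y.presheaf.stalk (f.base x))).IsLE 0 := by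
    change ((DerivedCategory.singleFunctor _ 0).obj _).IsLE 0
    infer_instance
  have hB : DRing.HasTorAmplitudeIn (Z.presheaf.stalk ((f ≫ g).base x)) (-((-a').toNat : ℤ)) 0
      (Dual.inD (Z.presheaf.stalk ((f ≫ g).base x)) (Y.presheaf.stalk (f.base x))) :=
    hasTorAmp_of_isLE _ _ 0 _ hB1
  have hK : DRing.HasTorAmplitudeIn (Y.presheaf.stalk (f.base x)) a b
      (DRing.toD ((DerSch.stalkCxOver f x).obj F)) := hF
  have h1 := Groth.Agent.Lib.Helper1.TorDim.hasTorAmp_restrictD (-a').toNat hB _ a b hK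
  refine Groth.Agent.Lib.Helper1.Tor.hasTorAmp_of_iso ?_ h1
  exact ((ModuleCat.restrictScalars.{u} (phi f g x)).mapDerivedCategoryFactors).app
      ((DerSch.stalkCxOver f x).obj F) ≪≫
    DerivedCategory.Q.mapIso
      (((NatIso.mapHomologicalComplex (stalkOverCompIso f g x) (ComplexShape.up ℤ)).app F))

end Comp

section Abs

variable {X : Scheme.{u}}

/-- locally finite (absolute) tor dimension gives stalkwise tor amplitude relative to the
identity -/
theorem locTA_id_of_locHasFiniteTorDim (F : CochainComplex X.Modules ℤ)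
    (hE : DCoh.LocHasFiniteTorDim (DCoh.toD X F)) : LocTA (𝟙 X) (DCoh.toD X F) := by
  intro x
  obtain ⟨V, a, b, hxV, h⟩ := hE x
  have h1 := h F ⟨Iso.refl _⟩
  have h2 : DerSch.HasTorAmplitude (𝟙 (V : Scheme.{u})) a b ((DCoh.restrictCx V).obj F) :=
    (Groth.Agent.Lib.T2H1.StalkTorAmp.hasFlatAmplitudeIn_iff_hasTorAmplitude_id _ a b).1 h1
  refine ⟨V, a, b, hxV, fun y hy => ?_⟩
  rw [tAat_toD_iff]
  have h3 := hasTorAmplitudeAt_comp_openImmersion (𝟙 (V : Scheme.{u})) V.ι _ a b ⟨y, hy⟩
    (h2 ⟨y, hy⟩)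
  have hc : 𝟙 (V : Scheme.{u}) ≫ V.ι = V.ι ≫ 𝟙 X := by simp
  rw [hc] at h3
  exact hasTorAmplitudeAt_of_restrict (𝟙 X) V.ι F a b ⟨y, hy⟩ h3

/-- stalkwise tor amplitude relative to the identity on an open gives flat amplitude there -/
theorem hasFlatAmplitudeIn_restrict_of_tAat_id (K : DCoh.D X) (V : X.Opens) (a b : ℤ)
    (h : ∀ y : X, y ∈ V → TAat (𝟙 X) a b K y) (F' : CochainComplex X.Modules ℤ)
    (e : DCoh.toD X F' ≅ K) :
    DCoh.HasFlatAmplitudeIn a b (DerivedCategory.Q.obj ((DCoh.restrictCx V).obj F')) := by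
  refine (Groth.Agent.Lib.T2H1.StalkTorAmp.hasFlatAmplitudeIn_iff_hasTorAmplitude_id _ a b).2 ?_
  intro v
  have h1 : DerSch.HasTorAmplitudeAt (𝟙 X) a b F' (V.ι v) :=
    (tAat_toD_iff (𝟙 X) a b F' _).1 (TAat.of_iso _ e.symm (h _ v.2))
  have h2 := hasTorAmplitudeAt_restrict (𝟙 X) V.ι F' a b v h1
  have hc : V.ι ≫ 𝟙 X = 𝟙 (V : Scheme.{u}) ≫ V.ι := by simp
  rw [hc] at h2
  exact hasTorAmplitudeAt_of_comp_openImmersion (𝟙 (V : Scheme.{u})) V.ι _ a b v h2

end Abs

end Groth.Agent.Lib.T2H1.RpushTorAmp
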