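import Groth.Agent.Lib.T2H1MVTri
import Groth.Agent.Lib.Helper17KInjD5
import Groth.Agent.Lib.Helper17KInjD1

/-!
# `Rg_*` sends distinguished triangles to distinguished triangles, objectwise (T2H2)

`DCoh.Rpush g` is a total right derived functor; Mathlib does not (yet) equip it with a triangulated
structure.  We prove the objectwise version: for a distinguished triangle `T` of `D(O_X)` there is a
distinguished triangle of `D(O_Y)` with vertices `Rg_* T.obj₁`, `Rg_* T.obj₂`, `Rg_* T.obj₃`.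
-/

set_option autoImplicit false
set_option linter.style.haveILetI false
universe u
open CategoryTheory CategoryTheory.Limits CategoryTheory.Pretriangulated AlgebraicGeometry

attribute [local instance] HasDerivedCategory.standard

namespace Groth.Agent.Lib.T2H2.RpushTri

open Scheme.Modules Groth.Agent.Lib.T2H1.MVTri Groth.Agent.Lib.T2H1.SESTriangle DerivedCategory

variable {X Y : Scheme.{u}}

/-- transport a distinguished triangle along isomorphisms of its vertices -/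
lemma exists_triangle_of_isos {C : Type*} [Category C] [Preadditive C] [HasZeroObject C]
    [HasShift C ℤ] [∀ n : ℤ, (shiftFunctor C n).Additive] [Pretriangulated C]
    (T : Triangle C) (hT : T ∈ distTriang C) {A₁ A₂ A₃ : C}
    (e₁ : A₁ ≅ T.obj₁) (e₂ : A₂ ≅ T.obj₂) (e₃ : A₃ ≅ T.obj₃) :
    ∃ (a : A₁ ⟶ A₂) (b : A₂ ⟶ A₃) (c : A₃ ⟶ A₁⟦(1 : ℤ)⟧), Triangle.mk a b c ∈ distTriang C := by
  refine ⟨e₁.hom ≫ T.mor₁ ≫ e₂.inv, e₂.hom ≫ T.mor₂ ≫ e₃.inv,
    e₃.hom ≫ T.mor₃ ≫ e₁.inv⟦(1 : ℤ)⟧', ?_⟩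
  refine isomorphic_distinguished _ hT _ (Triangle.isoMk _ _ e₁ e₂ e₃ ?_ ?_ ?_)
  · change (e₁.hom ≫ _ ≫ e₂.inv) ≫ e₂.hom = e₁.hom ≫ _
    rw [Category.assoc, Category.assoc, Iso.inv_hom_id, Category.comp_id]
  · change (e₂.hom ≫ _ ≫ e₃.inv) ≫ e₃.hom = e₂.hom ≫ _
    rw [Category.assoc, Category.assoc, Iso.inv_hom_id, Category.comp_id]
  · change (e₃.hom ≫ _ ≫ e₁.inv⟦(1 : ℤ)⟧') ≫ e₁.hom⟦(1 : ℤ)⟧' = e₃.hom ≫ _
    rw [Category.assoc, Category.assoc, ← Functor.map_comp, Iso.inv_hom_id,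
      CategoryTheory.Functor.map_id, Category.comp_id]

/-- `Rg_*` sends distinguished triangles to distinguished triangles (objectwise). -/
theorem exists_Rpush_triangle (g : X ⟶ Y) [DCoh.HasRpush g] (T : Triangle (DCoh.D X))
    (hT : T ∈ distTriang (DCoh.D X)) :
    ∃ (a : (DCoh.Rpush g).obj T.obj₁ ⟶ (DCoh.Rpush g).obj T.obj₂)
      (b : (DCoh.Rpush g).obj T.obj₂ ⟶ (DCoh.Rpush g).obj T.obj₃)
      (c : (DCoh.Rpush g).obj T.obj₃ ⟶ ((DCoh.Rpush g).obj T.obj₁)⟦(1 : ℤ)⟧),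
      Triangle.mk a b c ∈ distTriang (DCoh.D Y) := by
  obtain ⟨I₁, hI₁, -, ⟨e₁⟩⟩ := exists_rep T.obj₁
  obtain ⟨I₂, hI₂, -, ⟨e₂⟩⟩ := exists_rep T.obj₂
  haveI := hI₁
  haveI := hI₂
  obtain ⟨φ, hφ⟩ := Groth.Agent.Lib.Helper17.KInj.exists_Q_map_eq (e₁.inv ≫ T.mor₁ ≫ e₂.hom)
  obtain ⟨β, hβ⟩ := exists_unit_Rpush g
  haveI := hβ
  haveI : (CochainComplex.mappingCone φ).IsKInjective :=
    Groth.Agent.Lib.Helper17.KInj.isKInjective_mappingCone φ
  -- the model triangle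
  let T' := Q.mapTriangle.obj (CochainComplex.mappingCone.triangle φ)
  have hT' : T' ∈ distTriang (DerivedCategory X.Modules) :=
    (mem_distTriang_iff T').2 ⟨_, _, φ, ⟨Iso.refl _⟩⟩
  have comm : T.mor₁ ≫ e₂.hom = e₁.hom ≫ T'.mor₁ := by
    change T.mor₁ ≫ e₂.hom = e₁.hom ≫ Q.map φ
    rw [hφ, Iso.hom_inv_id_assoc]
  let E := isoTriangleOfIso₁₂ T T' hT hT' e₁ e₂ comm
  let e₃ : T.obj₃ ≅ Q.obj (CochainComplex.mappingCone φ) := Triangle.π₃.mapIso E
  -- the pushed-forward triangle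
  let G := (pushforward g).mapHomologicalComplex (ComplexShape.up ℤ)
  let T'' := Q.mapTriangle.obj (CochainComplex.mappingCone.triangle (G.map φ))
  have hT'' : T'' ∈ distTriang (DerivedCategory Y.Modules) :=
    (mem_distTriang_iff T'').2 ⟨_, _, G.map φ, ⟨Iso.refl _⟩⟩
  refine exists_triangle_of_isos T'' hT''
    (objIso₀.{u} (pushforward g) (DCoh.Rpush g) β I₁ e₁)
    (objIso₀.{u} (pushforward g) (DCoh.Rpush g) β I₂ e₂)
    (objIso₀.{u} (pushforward g) (DCoh.Rpush g) β (CochainComplex.mappingCone φ) e₃ ≪≫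
      Q.mapIso (CochainComplex.mappingCone.mapHomologicalComplexIso φ (pushforward g)))

end Groth.Agent.Lib.T2H2.RpushTri
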