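import Groth.Agent.Lib.T2H1RpushTorAmpD
import Groth.Agent.Lib.T2H1RpushShift
import Groth.Agent.Lib.T2H2QcqsIndF
import Groth.Agent.Lib.T2H2RpushTri
import Groth.Agent.Lib.Helper17AdjWay1
import Groth.Agent.Lib.T2H2LpullAdjB
import Groth.Agent.Lib.Helper1Sky5
set_option backward.isDefEq.respectTransparency.types false

/-!
# Tor amplitude of `Rf_*`: the sharp upper bound from a bound on the cohomological dimension
(helper1)
-/

set_option autoImplicit false
set_option linter.style.haveILetI false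
universe u
open CategoryTheory CategoryTheory.Limits AlgebraicGeometry HomologicalComplex Pretriangulated

attribute [local instance] HasDerivedCategory.standard

namespace Groth.Agent.Lib.T2H1.RpushTorAmp

open Groth.Agent.Lib.T2H1.RelPerfTri Groth.Agent.Lib.T2H1.TorAmpRestrict
  Groth.Agent.Lib.T2H1.RelPerfTilde Groth.Agent.Lib.T2H2.TorAmpComp DTen
  Groth.Agent.Lib.Helper1.KF Groth.Agent.Lib.Helper1.DT DerivedCategory
  Groth.Agent.Lib.Helper1.Tor Groth.Agent.Lib.T2H1.RpushShift

attribute [local instance] Groth.Agent.Lib.T2H1.RpushSupport.hasRpush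

variable {X Y S : Scheme.{u}}

/-- a bound on the higher direct images of quasi-coherent modules bounds `Rf_*` on bounded
objects of `D_QCoh`. -/
theorem isLE_Rpush_of_module_bound (f : X ⟶ Y) (N : ℕ)
    (hN : ∀ M : X.Modules, Coh.IsQCoh M → ∀ i : ℤ, (N : ℤ) < i →
      IsZero (DCoh.HD ((DCoh.Rpush f).obj (DCoh.inD X M)) i)) :
    ∀ (m : ℕ) (K : DCoh.D X), DCoh.IsQCohD K → ∀ (c d : ℤ), K.IsGE c → K.IsLE d → d < c + m →
      ((DCoh.Rpush f).obj K).IsLE (d + N) := by
  intro m
  induction m with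
  | zero =>
    intro K _ c d hc hd hcd
    have hz : IsZero K := DerivedCategory.TStructure.t.isZero K d c (by simpa using hcd)
    haveI : DCoh.HasLpull f := Groth.Agent.Lib.Helper1.Sky.hasLpull f
    obtain ⟨adj⟩ := Groth.Agent.Lib.T2H2.LpullAdj.nonempty_lpullAdj f
    haveI : (DCoh.Rpush f).IsRightAdjoint := adj.isRightAdjoint
    exact DerivedCategory.TStructure.t.isLE_of_isZero ((DCoh.Rpush f).map_isZero hz) _
  | succ m ih =>
    intro K hK c d hc hd hcd
    let t := (DerivedCategory.TStructure.t : Triangulated.TStructure (DCoh.D X))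
    let T := (t.triangleLTGE d).obj K
    have hT : T ∈ distTriang _ := t.triangleLTGE_distinguished d K
    haveI h₁ : T.obj₁.IsLE (d - 1) := by dsimp [T]; infer_instance
    haveI h₁' : T.obj₁.IsGE c := by
      change t.IsGE ((t.truncLT d).obj K) c
      infer_instance
    haveI h₃ : T.obj₃.IsGE d := by dsimp [T]; infer_instance
    haveI h₃' : T.obj₃.IsLE d := by
      change t.IsLE ((t.truncGE d).obj K) d
      infer_instance
    have hq₁ : DCoh.IsQCohD T.obj₁ := isQCohD_truncLT K hK d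
    have hq₃ : DCoh.IsQCohD T.obj₃ := Groth.Agent.Lib.T2H2.QcqsInd.isQCohD_truncGE K hK d
    -- the first vertex
    have hA : ((DCoh.Rpush f).obj T.obj₁).IsLE (d + N) := by
      haveI := ih T.obj₁ hq₁ c (d - 1) h₁' h₁ (by push_cast at hcd ⊢; lia)
      exact DerivedCategory.TStructure.t.isLE_of_le _ (d - 1 + N) (d + N) (by lia)
    -- the third vertex
    have hB : ((DCoh.Rpush f).obj T.obj₃).IsLE (d + N) := by
      obtain ⟨M, ⟨e⟩⟩ := DerivedCategory.exists_iso_singleFunctor_obj_of_isGE_of_isLE T.obj₃ d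
      have hM : Coh.IsQCoh M :=
        Groth.Agent.Lib.T2H8.PCohQCoh.isQCoh_of_iso
          ((DerivedCategory.homologyFunctor X.Modules d).mapIso e ≪≫
            (DerivedCategory.singleFunctorCompHomologyFunctorIso X.Modules d).app M) (hq₃ d)
      have e' : T.obj₃ ≅ (DCoh.inD X M)⟦-d⟧ :=
        e ≪≫ ((DerivedCategory.singleFunctors X.Modules).shiftIso (-d) d 0 (by lia)).symm.app M
      obtain ⟨s⟩ := exists_Rpush_shift_iso f (DCoh.inD X M) (-d)
      haveI : ((DCoh.Rpush f).obj (DCoh.inD X M)).IsLE N := by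
        rw [DerivedCategory.isLE_iff]
        intro i hi
        exact hN M hM i hi
      haveI : (((DCoh.Rpush f).obj (DCoh.inD X M))⟦-d⟧).IsLE (d + N) :=
        DerivedCategory.TStructure.t.isLE_shift _ N (-d) (d + N) (by lia)
      exact DerivedCategory.TStructure.t.isLE_of_iso
        ((DCoh.Rpush f).mapIso e' ≪≫ s).symm _
    obtain ⟨α, β, γ, hT'⟩ := Groth.Agent.Lib.T2H2.RpushTri.exists_Rpush_triangle f T hT
    exact DerivedCategory.TStructure.t.isLE₂ _ hT' (d + N) hA hB

/-- the sharp form: tor amplitude `[a, b + N]` of `Rf_* K`. -/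
theorem tAat_Rpush_of_module_bound (f : X ⟶ Y) [QuasiCompact f] [QuasiSeparated f] (q : Y ⟶ S)
    (N : ℕ)
    (hN : ∀ M : X.Modules, Coh.IsQCoh M → ∀ i : ℤ, (N : ℤ) < i →
      IsZero (DCoh.HD ((DCoh.Rpush f).obj (DCoh.inD X M)) i))
    (K : DCoh.D X) (hK : DCoh.IsQCohD K) (c : ℤ) [K.IsGE c] (a b : ℤ)
    (hTA : ∀ x : X, TAat (f ≫ q) a b K x) (y : Y) :
    TAat q a (b + N) ((DCoh.Rpush f).obj K) y := by
  -- `K` lies in `D^{≤ b}`
  haveI hKb : K.IsLE b := by
    let F : CochainComplex X.Modules ℤ := (Q : _ ⥤ DCoh.D X).objPreimage K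
    have eF : DCoh.toD X F ≅ K := (Q : _ ⥤ DCoh.D X).objObjPreimageIso K
    have h1 : DerSch.HasTorAmplitude (f ≫ q) a b F := fun x =>
      (tAat_toD_iff _ a b F x).1 (TAat.of_iso _ eF.symm (hTA x))
    rw [DerivedCategory.isLE_iff]
    intro i hi
    have h2 := Groth.Agent.Lib.T2H1.RelFlatAmp.exactAt_of_hasTorAmplitude (f ≫ q) F a b h1 i
      (Or.inr hi)
    rw [exactAt_iff_isZero_homology] at h2
    exact IsZero.of_iso h2 ((DerivedCategory.homologyFunctor X.Modules i).mapIso eF.symm ≪≫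
      (DerivedCategory.homologyFunctorFactors X.Modules i).app F)
  obtain ⟨m, hm⟩ : ∃ m : ℕ, b < c + m := ⟨(b - c + 1).toNat, by
    have := Int.self_le_toNat (b - c + 1)
    lia⟩
  haveI hle : ((DCoh.Rpush f).obj K).IsLE (b + N) :=
    isLE_Rpush_of_module_bound f N hN m K hK c b inferInstance hKb hm
  obtain ⟨Y', S', hY', hS', hyY', hle'⟩ := exists_affine_pair q y
  obtain ⟨n, hn⟩ := exists_tAat_Rpush_on_affine f q Y' hY' S' hS' hle' K hK a b
    (fun x _ => hTA x)
  have h1 := hn y hyY'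
  haveI : ((DerSch.stalkOver q y).mapDerivedCategory.obj ((DCoh.Rpush f).obj K)).IsLE (b + N) :=
    Groth.Agent.Lib.Helper17.AdjWay.isLE_map _ _ _
  exact hasTorAmp_of_isLE _ a (b + N) (b + n) h1

end Groth.Agent.Lib.T2H1.RpushTorAmp
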