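import Groth.Agent.Lib.T2H1MVTri
import Groth.Agent.Lib.T2H1RpushSupport
import Groth.Agent.Lib.Helper17ExactAdj

/-!
# Complexes supported on a closed subset contained in an open (helper1)

For `j : U → X` open and `T ⊆ U` closed in `X`: `E ≅ Rj_*(E|_U)` when the cohomology of `E` is
supported on `T`, and `j_! F ≅ Rj_* F` when the cohomology of `F` is supported on `T`.
-/

set_option autoImplicit false
universe u
open CategoryTheory CategoryTheory.Limits CategoryTheory.Pretriangulated AlgebraicGeometry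

attribute [local instance] HasDerivedCategory.standard

namespace Groth.Agent.Lib.T2H1.SuppPush

open Scheme.Modules Groth.Agent.Lib.T2H1.MVTri Groth.Agent.Lib.T2H1.RpushSupport
  Groth.Agent.Lib.T2H1.RestrictPush

variable {X : Scheme.{u}}

/-- an object of `D(O_X)` whose cohomology sheaves vanish at the points of `V` restricts to zero
on `V`. -/
theorem isZero_restrictD (V : X.Opens) (E : DCoh.D X)
    (hE : ∀ (i : ℤ) (x : X), x ∈ V → x ∉ CohB1.support (DCoh.HD E i)) :
    IsZero ((DCoh.restrictD V.ι).obj E) := by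
  refine isZero_of_forall_isZero_homology _ (fun j => ?_)
  exact IsZero.of_iso (isZero_restrict_of_disjoint_support (DCoh.HD E j) V (fun x hx => hE j x hx))
    (Groth.Agent.Lib.Helper17.AdjWay.homologyIso (restrictFunctor V.ι) E j)

theorem isZero_Rpush_obj {Y : Scheme.{u}} (g : X ⟶ Y) [DCoh.HasRpush g] (K : DCoh.D X)
    (hK : IsZero K) : IsZero ((DCoh.Rpush g).obj K) := by
  obtain ⟨β₂, hβ₂⟩ : ∃ β : (pushforward g).mapHomotopyCategory (ComplexShape.up ℤ) ⋙
      DerivedCategory.Qh ⟶ DerivedCategory.Qh ⋙ DCoh.Rpush g, β =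
      ((DCoh.pushKh g).totalRightDerivedUnit DerivedCategory.Qh
        (HomotopyCategory.quasiIso X.Modules (ComplexShape.up ℤ))) := ⟨_, rfl⟩
  have h₂ : (DCoh.Rpush g).IsRightDerivedFunctor β₂
      (HomotopyCategory.quasiIso X.Modules (ComplexShape.up ℤ)) := by
    rw [hβ₂]
    infer_instance
  exact isZero_obj_of_isZero.{u} (pushforward g) (DCoh.Rpush g) β₂ _ hK

/-- `E ≅ Rj_*(E|_U)` when the cohomology sheaves of `E` are supported on a closed `T ⊆ U`. -/
theorem nonempty_iso_Rpush_restrict (U : X.Opens) [DCoh.HasRpush U.ι] (T : Set X)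
    (hT : IsClosed T) (hTU : T ⊆ (U : Set X)) (E : DCoh.D X)
    (hE : ∀ i : ℤ, CohB1.support (DCoh.HD E i) ⊆ T) :
    Nonempty (E ≅ (DCoh.Rpush U.ι).obj ((DCoh.restrictD U.ι).obj E)) := by
  let V : X.Opens := ⟨Tᶜ, hT.isOpen_compl⟩
  have hUV : U ⊔ V = ⊤ := by
    rw [eq_top_iff]
    intro x _
    by_cases hx : x ∈ T
    · exact Or.inl (hTU hx)
    · exact Or.inr hx
  haveI := hasRpush V.ι
  haveI := hasRpush (U ⊓ V).ι
  obtain ⟨a, b, c, hT'⟩ := exists_mv_triangle U V hUV E
  have hV0 : IsZero ((DCoh.restrictD V.ι).obj E) :=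
    isZero_restrictD V E (fun i x hx hxs => hx (hE i hxs))
  have hW0 : IsZero ((DCoh.restrictD (U ⊓ V).ι).obj E) :=
    isZero_restrictD (U ⊓ V) E (fun i x hx hxs => hx.2 (hE i hxs))
  have h3 : IsZero ((DCoh.Rpush (U ⊓ V).ι).obj ((DCoh.restrictD (U ⊓ V).ι).obj E)) :=
    isZero_Rpush_obj _ _ hW0
  have h2 : IsZero ((DCoh.Rpush V.ι).obj ((DCoh.restrictD V.ι).obj E)) :=
    isZero_Rpush_obj _ _ hV0
  haveI : IsIso a := (Triangle.isZero₃_iff_isIso₁ _ hT').1 h3
  exact ⟨asIso a ≪≫ (isoBiprodZero h2).symm⟩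

section ExtZero

variable (U : X.Opens)

instance isIso_extZero_unit : IsIso (CxOX.extZeroAdj U.ι).unit :=
  (Adjunction.Triple.isIso_unit_iff_isIso_counit
    (⟨CxOX.extZeroAdj U.ι, restrictAdjunction U.ι⟩ :
      Adjunction.Triple (CxOX.extZero U.ι) (restrictFunctor U.ι) (pushforward U.ι))).2
    inferInstance

/-- `(j_! F)|_U ≅ F` in the derived category. -/
theorem nonempty_restrictD_extZeroD_iso [PreservesFiniteLimits (CxOX.extZero U.ι)]
    (F : DCoh.D (U : Scheme.{u})) :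
    Nonempty ((DCoh.restrictD U.ι).obj ((CxOX.extZeroD U.ι).obj F) ≅ F) := by
  let K := DerivedCategory.Q.objPreimage F
  have e₀ : DerivedCategory.Q.obj K ≅ F := DerivedCategory.Q.objObjPreimageIso F
  let θ : K ≅ ((restrictFunctor U.ι).mapHomologicalComplex (ComplexShape.up ℤ)).obj
      (((CxOX.extZero U.ι).mapHomologicalComplex (ComplexShape.up ℤ)).obj K) :=
    (Functor.mapHomologicalComplexIdIso _ (ComplexShape.up ℤ)).symm.app K ≪≫
      (NatIso.mapHomologicalComplex (asIso (CxOX.extZeroAdj U.ι).unit) (ComplexShape.up ℤ)).app K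
  exact ⟨(DCoh.restrictD U.ι).mapIso ((CxOX.extZeroD U.ι).mapIso e₀.symm ≪≫
      (CxOX.extZero U.ι).mapDerivedCategoryFactors.app K) ≪≫
    (restrictFunctor U.ι).mapDerivedCategoryFactors.app _ ≪≫
    DerivedCategory.Q.mapIso θ.symm ≪≫ e₀⟩

/-- restriction along an open immersion whose image misses the support is zero. -/
theorem isZero_restrictFunctor_of_disjoint_support {W Y : Scheme.{u}} (g : W ⟶ Y)
    [IsOpenImmersion g] (G : Y.Modules) (h : ∀ w : W, g.base w ∉ CohB1.support G) :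
    IsZero ((restrictFunctor g).obj G) := by
  refine Groth.Agent.Lib.Helper23.ModLocal.isZero_of_forall_eq_zero (fun A s => ?_)
  refine Groth.Agent.Lib.Helper23.Support.eq_zero_of_disjoint_support G (g ''ᵁ A) ?_ s
  rintro _ ⟨w, -, rfl⟩
  exact h w

/-- `j_! G` vanishes on an open `V` when `G` is supported away from `V`. -/
theorem isZero_restrict_extZero (V : X.Opens) (G : (U : Scheme.{u}).Modules)
    (hG : ∀ x : (U : Scheme.{u}), U.ι.base x ∈ V → x ∉ CohB1.support G) :
    IsZero ((restrictFunctor V.ι).obj ((CxOX.extZero U.ι).obj G)) := by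
  rw [IsZero.iff_id_eq_zero]
  have hz : IsZero ((restrictFunctor (V.ι ∣_ U)).obj G) := by
    refine isZero_restrictFunctor_of_disjoint_support _ G (fun w => hG _ ?_)
    have h1 : (V.ι ∣_ U ≫ U.ι).base w = ((V.ι ⁻¹ᵁ U).ι ≫ V.ι).base w := by
      rw [morphismRestrict_ι]
    have h2 : U.ι.base ((V.ι ∣_ U).base w) = V.ι.base ((V.ι ⁻¹ᵁ U).ι.base w) := h1
    rw [h2]
    have h3 := Set.mem_range_self (f := V.ι.base) ((V.ι ⁻¹ᵁ U).ι.base w)
    rwa [Scheme.Opens.range_ι] at h3
  set Z := (restrictFunctor V.ι).obj ((CxOX.extZero U.ι).obj G) with hZ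
  -- all morphisms out of `Z` vanish
  have key : ∀ (N : (V : Scheme.{u}).Modules) (φ : Z ⟶ N), φ = 0 := by
    intro N φ
    apply ((restrictAdjunction V.ι).homEquiv _ _).injective
    apply ((CxOX.extZeroAdj U.ι).homEquiv _ _).injective
    rw [← cancel_mono ((pushRestrictIso V.ι U).hom.app N)]
    apply ((restrictAdjunction (V.ι ∣_ U)).homEquiv _ _).symm.injective
    exact hz.eq_of_src _ _
  exact key Z (𝟙 Z)

/-- `j_! F ≅ Rj_* F` when the cohomology sheaves of `F` are supported on a subset `T ⊆ U`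
closed in `X`. -/
theorem nonempty_extZeroD_iso_Rpush [DCoh.HasRpush U.ι]
    [PreservesFiniteLimits (CxOX.extZero U.ι)] (T : Set X) (hT : IsClosed T)
    (hTU : T ⊆ (U : Set X)) (F : DCoh.D (U : Scheme.{u}))
    (hF : ∀ i : ℤ,
      (fun x : (U : Scheme.{u}) => U.ι.base x) '' CohB1.support (DCoh.HD F i) ⊆ T) :
    Nonempty ((CxOX.extZeroD U.ι).obj F ≅ (DCoh.Rpush U.ι).obj F) := by
  have hE : ∀ i : ℤ, CohB1.support (DCoh.HD ((CxOX.extZeroD U.ι).obj F) i) ⊆ T := by
    intro i x hx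
    by_contra hxT
    let V : X.Opens := ⟨Tᶜ, hT.isOpen_compl⟩
    have e := Groth.Agent.Lib.Helper17.AdjWay.homologyIso (CxOX.extZero U.ι) F i
    have hz : IsZero ((restrictFunctor V.ι).obj (DCoh.HD ((CxOX.extZeroD U.ι).obj F) i)) :=
      IsZero.of_iso (isZero_restrict_extZero U V (DCoh.HD F i)
        (fun y hyV hys => hyV (hF i ⟨y, hys, rfl⟩))) ((restrictFunctor V.ι).mapIso e)
    exact not_mem_support_of_isZero_restrict _ V hz x hxT hx
  obtain ⟨e₁⟩ := nonempty_iso_Rpush_restrict U T hT hTU _ hE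
  obtain ⟨e₂⟩ := nonempty_restrictD_extZeroD_iso U F
  exact ⟨e₁ ≪≫ (DCoh.Rpush U.ι).mapIso e₂⟩

end ExtZero

end Groth.Agent.Lib.T2H1.SuppPush
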