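import Groth.Agent.Lib.T2H2AffRedB
import Groth.Agent.Lib.T2H2TildeLocF
import Groth.Agent.Lib.Helper1Sky9
import Groth.Agent.S6954

/-!
# Perfect = pseudo-coherent + locally finite tor dimension on schemes (T2H2)
-/

set_option autoImplicit false
set_option linter.style.haveILetI false
universe u
open CategoryTheory CategoryTheory.Limits AlgebraicGeometry Opposite

attribute [local instance] HasDerivedCategory.standard

namespace Groth.Agent.Lib.T2H2.AffRed

open Groth.Agent.Lib.T2H8.SchLocHtpy Groth.Agent.Lib.T2H8.PerfLocal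
  Groth.Agent.Lib.T2H8.PCohTriangle Groth.Agent.Lib.T2H2.TildeLoc DerivedCategory

variable {X : Scheme.{u}}

/-- stalkwise flatness restricts along open immersions -/
theorem isFlat_restrict {U : Scheme.{u}} (k : U ⟶ X) [IsOpenImmersion k] (N : X.Modules)
    (hN : FlatMod.IsFlat N) : FlatMod.IsFlat ((Scheme.Modules.restrictFunctor k).obj N) := by
  have h1 := Groth.Agent.Lib.Helper1.Sky.isFlat_pullback k N hN
  intro y
  exact Groth.Agent.Lib.T2H5.FlatCover.isFlatAt_of_iso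
    ((Scheme.Modules.restrictFunctorIsoPullback k).app N).symm y (h1 y)

lemma hasFlatAmplitudeIn_of_iso {K L : DCoh.D X} (e : K ≅ L) (a b : ℤ)
    (h : DCoh.HasFlatAmplitudeIn a b K) : DCoh.HasFlatAmplitudeIn a b L := by
  obtain ⟨E, hE, hfl, ⟨e'⟩⟩ := h
  exact ⟨E, hE, hfl, ⟨e' ≪≫ e⟩⟩

/-- flat amplitude restricts along open immersions -/
theorem hasFlatAmplitudeIn_rD {U : Scheme.{u}} (k : U ⟶ X) [IsOpenImmersion k] (K : DCoh.D X)
    (a b : ℤ) (h : DCoh.HasFlatAmplitudeIn a b K) :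
    DCoh.HasFlatAmplitudeIn a b ((rD k).obj K) := by
  obtain ⟨E, hE, hfl, ⟨e⟩⟩ := h
  exact ⟨(rC k).obj E, fun i hi => (Scheme.Modules.restrictFunctor k).map_isZero (hE i hi),
    fun i => isFlat_restrict k _ (hfl i),
    ⟨((Scheme.Modules.restrictFunctor k).mapDerivedCategoryFactors.app E).symm ≪≫
      (rD k).mapIso e⟩⟩

/-- perfect objects locally have finite tor dimension -/
theorem locHasFiniteTorDim_of_isPerfect (K : DCoh.D X) (h : DCoh.IsPerfect K) :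
    DCoh.LocHasFiniteTorDim K := by
  intro x
  obtain ⟨V, hxV, H⟩ := h x
  let F₀ := (Q : _ ⥤ DCoh.D X).objPreimage K
  let e₀ : Q.obj F₀ ≅ K := Q.objObjPreimageIso K
  obtain ⟨E, ⟨⟨a, b, hab⟩, hfl⟩, ⟨e⟩⟩ := H F₀ ⟨e₀⟩
  refine ⟨V, a, b, hxV, fun F' ⟨eF'⟩ => ⟨E, hab,
    fun i => Groth.Agent.Lib.Helper1.Sky.isFlat_of_isFinLocFree' _ (hfl i), ⟨?_⟩⟩⟩
  exact e.symm ≪≫
    ((Scheme.Modules.restrictFunctor V.ι).mapDerivedCategoryFactors.app F₀).symm ≪≫
    (rD V.ι).mapIso (e₀ ≪≫ eF'.symm) ≪≫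
    (Scheme.Modules.restrictFunctor V.ι).mapDerivedCategoryFactors.app F'

/-- an object which is `m`-pseudo-coherent for all `m` and locally has finite tor dimension is
perfect -/
theorem isPerfect_of_pc_of_locHasFiniteTorDim (K : DCoh.D X)
    (hpc : ∀ m : ℤ, DCoh.IsPseudoCoherentD m K) (htd : DCoh.LocHasFiniteTorDim K) :
    DCoh.IsPerfect K := by
  have hqK : DCoh.IsQCohD K := isQCohD_of_forall_isPseudoCoherentD K hpc
  rw [isPerfect_iff]
  intro x
  obtain ⟨V, a, b, hxV, H⟩ := htd x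
  let F₀ := (Q : _ ⥤ DCoh.D X).objPreimage K
  let e₀ : Q.obj F₀ ≅ K := Q.objObjPreimageIso K
  have hfa : DCoh.HasFlatAmplitudeIn a b ((rD V.ι).obj K) :=
    hasFlatAmplitudeIn_of_iso
      (((Scheme.Modules.restrictFunctor V.ι).mapDerivedCategoryFactors.app F₀).symm ≪≫
        (rD V.ι).mapIso e₀) a b (H F₀ ⟨e₀⟩)
  obtain ⟨A, _, k, _, x', hx'⟩ := exists_affine_chart (X := (V : Scheme.{u})) ⟨x, hxV⟩
  have hfa' : DCoh.HasFlatAmplitudeIn a b ((rD (k ≫ V.ι)).obj K) :=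
    hasFlatAmplitudeIn_of_iso ((rDComp k V.ι (k ≫ V.ι) rfl).app K) a b
      (hasFlatAmplitudeIn_rD k _ a b hfa)
  obtain ⟨M, ⟨eM⟩⟩ := exists_tildeD_iso A ((rD (k ≫ V.ι)).obj K) (isQCohD_rD _ K hqK)
  have hM' : DRing.IsPseudoCoherent' A M :=
    Groth.Agent.Lib.Helper1.PCTower.isPseudoCoherent'_of_forall M (fun m =>
      isPC_of_isPseudoCoherentD_tildeD A M m
        (isPseudoCoherentD_of_iso eM.symm m (isPseudoCoherentD_rD _ m K (hpc m))))
  have hMt : DRing.HasTorAmplitudeIn A a b M :=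
    hasTorAmp_of_hasFlatAmplitudeIn_tildeD A M a b (hasFlatAmplitudeIn_of_iso eM.symm a b hfa')
  have hM : DRing.IsPerfect A M := (Groth.Agent.S6954.result A M).2 ⟨hM', a, b, hMt⟩
  have h1 : DCoh.IsPerfect ((rD (k ≫ V.ι)).obj K) :=
    isPerfect_of_iso eM (isPerfect_tildeD_of_isPerfect A M hM)
  have hx : (k ≫ V.ι) x' = x := by
    change V.ι (k x') = x
    rw [hx']
    rfl
  rw [← hx]
  exact locPerf_of_isPerfect_rD (k ≫ V.ι) K x' h1

end Groth.Agent.Lib.T2H2.AffRed
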