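import Groth.Agent.Lib.T2H1RpushTorAmpE
import Groth.Agent.Lib.T2H1SuppPush
import Groth.Agent.Lib.T2H1RelPCnoeth
import Groth.Agent.Lib.Helper1ProperOver
import Groth.Agent.Lib.T2H2AffRedD
import Groth.Agent.S1001
import Groth.Agent.S0914
set_option backward.isDefEq.respectTransparency.types false

/-!
# Perfectness of `Rf_* K` for `K ∈ D^b_Coh` with proper support and finite tor amplitude over a
Noetherian base (helper1)
-/

set_option autoImplicit false
set_option linter.style.haveILetI false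
universe u
open CategoryTheory CategoryTheory.Limits AlgebraicGeometry HomologicalComplex Pretriangulated

attribute [local instance] HasDerivedCategory.standard

namespace Groth.Agent.Lib.T2H1.RpushTorAmp

open Groth.Agent.Lib.T2H1.RelPerfTri Groth.Agent.Lib.T2H1.TorAmpRestrict
  Groth.Agent.Lib.T2H1.RelPerfTilde Groth.Agent.Lib.T2H2.TorAmpComp DTen
  Groth.Agent.Lib.Helper1.KF Groth.Agent.Lib.Helper1.DT DerivedCategory
  Groth.Agent.Lib.Helper1.Tor Groth.Agent.Lib.T2H1.RpushShift

attribute [local instance] Groth.Agent.Lib.T2H1.RpushSupport.hasRpush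

variable {X S : Scheme.{u}}

/-- a closed subset proper over a quasi-compact base is quasi-compact -/
lemma isCompact_of_isProperOver [CompactSpace S] (f : X ⟶ S) (T : Set X)
    (h : ClSub.IsProperOver f T) : IsCompact T := by
  obtain ⟨hc, hp⟩ := h
  haveI := hp
  haveI : CompactSpace ((Scheme.IdealSheafData.vanishingIdeal ⟨T, hc⟩).subscheme) :=
    QuasiCompact.compactSpace_of_compactSpace
      ((Scheme.IdealSheafData.vanishingIdeal ⟨T, hc⟩).subschemeι ≫ f)
  have hr : Set.range (Scheme.IdealSheafData.vanishingIdeal ⟨T, hc⟩).subschemeι = T := by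
    rw [Scheme.IdealSheafData.range_subschemeι]
    simp
  rw [← hr]
  exact isCompact_range (Scheme.IdealSheafData.vanishingIdeal ⟨T, hc⟩).subschemeι.continuous

/-- a quasi-compact subset of a scheme lies in a quasi-compact open -/
lemma exists_isCompact_opens_superset (T : Set X) (hT : IsCompact T) :
    ∃ U : X.Opens, IsCompact (U : Set X) ∧ T ⊆ (U : Set X) := by
  refine hT.induction_on (p := fun s => ∃ U : X.Opens, IsCompact (U : Set X) ∧ s ⊆ (U : Set X))
    ⟨⊥, by simp, by simp⟩ ?_ ?_ ?_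
  · rintro s t hst ⟨U, hU, htU⟩
    exact ⟨U, hU, hst.trans htU⟩
  · rintro s t ⟨U, hU, hsU⟩ ⟨V, hV, htV⟩
    refine ⟨U ⊔ V, ?_, ?_⟩
    · rw [TopologicalSpace.Opens.coe_sup]
      exact hU.union hV
    · rw [TopologicalSpace.Opens.coe_sup]
      exact Set.union_subset_union hsU htV
  · intro x _
    obtain ⟨W, hW, hxW, -⟩ := exists_isAffineOpen_mem_and_subset (x := x) (U := ⊤) trivial
    exact ⟨W, mem_nhdsWithin_of_mem_nhds (W.2.mem_nhds hxW), W, hW.isCompact, le_rfl⟩

/-- `Rf_* K` is perfect for `K` bounded with coherent cohomology, supports proper over the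
Noetherian base `S`, and finite tor amplitude over `S` (stalkwise form). -/
theorem isPerfect_Rpush_of_coh_properSupport [IsNoetherian S] (f : X ⟶ S)
    [LocallyOfFiniteType f] (K : DCoh.D X) (hK : DCoh.IsCohD K) (a₀ b₀ : ℤ) [K.IsGE a₀]
    [K.IsLE b₀] (hsupp : ∀ i : ℤ, ClSub.IsProperOver f (CohB1.support (DCoh.HD K i)))
    (a b : ℤ) (hTA : ∀ x : X, TAat f a b K x) :
    DCoh.IsPerfect ((DCoh.Rpush f).obj K) := by
  haveI : IsLocallyNoetherian X := LocallyOfFiniteType.isLocallyNoetherian f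
  rw [Groth.Agent.S0914.result]
  obtain ⟨h1, h2, b', h3⟩ := Groth.Agent.S1001.result f K a₀ b₀ hK hsupp
  refine ⟨fun m => ?_, ?_⟩
  · exact Groth.Agent.Lib.T2H2.AffRed.isPseudoCoherentD_of_coherent _ (fun i => (h1 i).1) m
      (fun i _ => h1 i) b' ((DerivedCategory.isLE_iff _ b').1 h3)
  · -- the union of the supports
    let T : Set X := ⋃ i : Set.Icc a₀ b₀, CohB1.support (DCoh.HD K i.1)
    have hTp : ClSub.IsProperOver f T :=
      Groth.Agent.Lib.Helper1.isProperOver_iUnion f (ι := Set.Icc a₀ b₀) _ (fun i => hsupp i.1)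
    have hTsub : ∀ i : ℤ, CohB1.support (DCoh.HD K i) ⊆ T := by
      intro i z hz
      by_cases hi : i ∈ Set.Icc a₀ b₀
      · exact Set.mem_iUnion.2 ⟨⟨i, hi⟩, hz⟩
      · exfalso
        have hzero : IsZero (DCoh.HD K i) := by
          rw [Set.mem_Icc, not_and_or, not_le, not_le] at hi
          rcases hi with hi | hi
          · exact DerivedCategory.isZero_of_isGE K a₀ i hi
          · exact DerivedCategory.isZero_of_isLE K b₀ i hi
        have hz' : z ∉ CohB1.support (DCoh.HD K i) := by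
          have h0 : IsZero ((Scheme.Modules.restrictFunctor (⊤ : X.Opens).ι).obj (DCoh.HD K i)) :=
            (Scheme.Modules.restrictFunctor (⊤ : X.Opens).ι).map_isZero hzero
          exact Groth.Agent.Lib.T2H1.RpushSupport.not_mem_support_of_isZero_restrict _ ⊤ h0 z
            trivial
        exact hz' hz
    obtain ⟨U, hUc, hTU⟩ := exists_isCompact_opens_superset T
      (isCompact_of_isProperOver f T hTp)
    haveI : CompactSpace (U : Scheme.{u}) := isCompact_iff_compactSpace.mp hUc
    haveI : IsLocallyNoetherian (U : Scheme.{u}) := inferInstance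
    haveI : QuasiSeparatedSpace (U : Scheme.{u}) := inferInstance
    haveI : QuasiCompact (U.ι ≫ f) := inferInstance
    haveI : QuasiSeparated (U.ι ≫ f) := inferInstance
    obtain ⟨e₁⟩ := Groth.Agent.Lib.T2H1.SuppPush.nonempty_iso_Rpush_restrict U T hTp.1 hTU K hTsub
    obtain ⟨c⟩ := Groth.Agent.S0922.result U.ι f
    have e₂ : (DCoh.Rpush f).obj K ≅
        (DCoh.Rpush (U.ι ≫ f)).obj ((DCoh.restrictD U.ι).obj K) :=
      (DCoh.Rpush f).mapIso e₁ ≪≫ c.app _
    have hq : DCoh.IsQCohD ((DCoh.restrictD U.ι).obj K) :=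
      Groth.Agent.Lib.T2H2.AffRpush.isQCohD_restrictD _ K (fun i => (hK i).1)
    have hTA' : LocTA ((U.ι ≫ f) ≫ 𝟙 S) ((DCoh.restrictD U.ι).obj K) := by
      intro u
      refine ⟨⊤, a, b, trivial, fun u' _ => ?_⟩
      have h4 := (tAat_restrictD_iff U.ι f K a b u').2 (hTA _)
      exact (tAat_congr (Category.comp_id _).symm _ a b u').1 h4
    intro y
    obtain ⟨V, a', b'', hyV, hV⟩ := exists_nhd_tAat_Rpush (U.ι ≫ f) (𝟙 S) _ hq hTA' y
    exact ⟨V, a', b'', hyV, fun F' ⟨e⟩ =>
      hasFlatAmplitudeIn_restrict_of_tAat_id _ V a' b'' hV F' (e ≪≫ e₂)⟩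

end Groth.Agent.Lib.T2H1.RpushTorAmp
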