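import Mathlib
import Groth.Agent.Lib.Helper4DVREx
import Groth.Agent.Lib.Helper12Proper
import Groth.Agent.Lib.Helper12FibreSpec
import Groth.Agent.Lib.T2H1DecentQS
import Groth.Agent.S9900

/-!
# Separatedness via discrete valuation rings (helper1)
-/

set_option autoImplicit false
universe u
open CategoryTheory CategoryTheory.Limits AlgebraicGeometry TopologicalSpace
open AlgSp

namespace Groth.Agent.Lib.T2H1.SepDvr

/-- **étale-local descent of closed immersions** among separated monomorphisms locally of finite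
type. -/
theorem isClosedImmersion_of_etale_local {W T : Scheme.{u}} (w : W ⟶ T) [IsSeparated w]
    [LocallyOfFiniteType w] [Mono w]
    (H : ∀ t : T, ∃ (A' : Scheme.{u}) (d : A' ⟶ T), Etale d ∧ t ∈ Set.range d ∧
      IsClosedImmersion (pullback.snd w d)) : IsClosedImmersion w := by
  suffices huc : UniversallyClosed w by
    haveI : IsProper w := { }
    exact (IsClosedImmersion.iff_isProper_and_mono w).2 ⟨inferInstance, inferInstance⟩
  refine IsZariskiLocalAtTarget.of_forall_exists_morphismRestrict (P := @UniversallyClosed)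
    (fun t => ?_)
  obtain ⟨A', d, hd, ht, hci⟩ := H t
  haveI := hd
  haveI := hci
  let U : T.Opens := ⟨Set.range d, d.isOpenMap.isOpen_range⟩
  refine ⟨U, ht, ?_⟩
  have hrange : Set.range d ⊆ Set.range U.ι := by
    rw [Scheme.Opens.range_ι]; exact fun x hx => hx
  let d' : A' ⟶ (U : Scheme.{u}) := IsOpenImmersion.lift U.ι d hrange
  have hd' : d' ≫ U.ι = d := IsOpenImmersion.lift_fac _ _ _
  haveI : Etale (d' ≫ U.ι) := by rw [hd']; infer_instance
  haveI : Etale d' := MorphismProperty.of_postcomp (W := @Etale) (W' := @Etale) d' U.ι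
    inferInstance inferInstance
  haveI : Surjective d' := by
    constructor
    rintro ⟨x, a, rfl⟩
    refine ⟨a, ?_⟩
    apply Subtype.ext
    change U.ι (d' a) = d a
    rw [← Scheme.Hom.comp_apply, hd']
  -- the base change of `w ∣_ U` along `d'`
  have hbig : IsPullback (pullback.fst w d) (pullback.snd w d) w (d' ≫ U.ι) := by
    rw [hd']; exact IsPullback.of_hasPullback w d
  have hright : IsPullback (w ⁻¹ᵁ U).ι (w ∣_ U) w U.ι := (isPullback_morphismRestrict w U).flip
  let l : pullback w d ⟶ ((w ⁻¹ᵁ U : W.Opens) : Scheme.{u}) :=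
    hright.lift (pullback.fst w d) (pullback.snd w d ≫ d') (by
      rw [Category.assoc, hd']; exact pullback.condition)
  have hl1 : l ≫ (w ⁻¹ᵁ U).ι = pullback.fst w d := hright.lift_fst _ _ _
  have hl2 : l ≫ w ∣_ U = pullback.snd w d ≫ d' := hright.lift_snd _ _ _
  have hleft : IsPullback l (pullback.snd w d) (w ∣_ U) d' :=
    IsPullback.of_right (by rw [hl1]; exact hbig) hl2 hright
  haveI : UniversallyClosed (pullback.snd w d) := inferInstance
  exact MorphismProperty.of_isPullback_of_descendsAlong (P := @UniversallyClosed)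
    (Q := @Surjective ⊓ @Flat ⊓ @LocallyOfFinitePresentation) hleft.flip
    ⟨⟨inferInstance, inferInstance⟩, inferInstance⟩ inferInstance

variable {S : Scheme.{u}}

/-- a cartesian square of representable sheaves is a cartesian square of schemes. -/
theorem isPullback_left_of_yon {A B C D : Over S} (e₁ : A ⟶ B) (e₂ : A ⟶ C) (w : B ⟶ D)
    (d : C ⟶ D) (h : IsPullback ((AlgSp.yon S).map e₁) ((AlgSp.yon S).map e₂)
      ((AlgSp.yon S).map w) ((AlgSp.yon S).map d)) :
    IsPullback e₁.left e₂.left w.left d.left := by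
  have comm : e₁ ≫ w = e₂ ≫ d := by
    apply (AlgSp.yon S).map_injective
    rw [Functor.map_comp, Functor.map_comp, h.w]
  have h1 : IsPullback e₁ e₂ w d := IsPullback.of_map (AlgSp.yon S) comm h
  exact h1.map (Over.forget S)

/-- every étale chart of an algebraic space locally of finite type over a locally Noetherian one
is locally Noetherian. -/
theorem isLocallyNoetherian_chart_of_lft {F G : AlgSp.Sp S} (hG : AlgSp.IsAlgSpace G)
    (g : F ⟶ G) (hg : AlgSp.LocP @LocallyOfFiniteType g) (hGn : AlgSp.IsLocNoethSp G)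
    {W : Over S} (a : (AlgSp.yon S).obj W ⟶ F) (ha : AlgSp.RepWith @Etale a) :
    IsLocallyNoetherian W.left := by
  obtain ⟨V, b, hbe, hbs, hV⟩ := hGn
  obtain ⟨W', v', fst, sq⟩ := hG.representable_from_yon (a ≫ g) b
  obtain ⟨e, rfl⟩ := (AlgSp.yon S).map_surjective fst
  haveI : Etale e.left := hbe.2 _ _ e sq.flip
  haveI : Surjective e.left := hbs.2 _ _ e sq.flip
  have hae : AlgSp.RepWith @Etale ((AlgSp.yon S).map e ≫ a) :=
    MorphismProperty.comp_mem _ _ _ ((AlgSp.repWith_yon_map_iff _ _).2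
      (inferInstance : Etale e.left)) ha
  haveI : LocallyOfFiniteType v'.left := hg _ b v' hae hbe (by rw [Category.assoc]; exact sq.w)
  haveI : IsLocallyNoetherian V.left := hV
  haveI : IsLocallyNoetherian W'.left := LocallyOfFiniteType.isLocallyNoetherian v'.left
  exact Groth.Agent.Lib.Helper12.NoethDescent.isLocallyNoetherian_of_flat_lfp_surjective e.left

/-- étale version of `DecentQS.exists_refinement`. -/
theorem exists_refinement' {X : AlgSp.Sp S} (hXa : AlgSp.IsAlgSpace X) {U : Over S}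
    (a : (AlgSp.yon S).obj U ⟶ X) (u : ↥U.left) :
    ∃ (A' : Over S) (d : A' ⟶ U) (W : Over S) (p : (AlgSp.yon S).obj W ⟶ X) (h : A' ⟶ W),
      IsAffine A'.left ∧ IsAffine W.left ∧ AlgSp.RepWith @Etale p ∧ Etale d.left ∧
        u ∈ Set.range d.left ∧ (AlgSp.yon S).map d ≫ a = (AlgSp.yon S).map h ≫ p := by
  obtain ⟨W₀, p₀, hp₀e, hp₀s⟩ := hXa.atlas
  obtain ⟨U₀, w₀, fst, sq⟩ := hXa.representable_from_yon a p₀
  obtain ⟨u₀, rfl⟩ := (AlgSp.yon S).map_surjective fst
  haveI : Etale u₀.left := hp₀e.2 a _ u₀ sq.flip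
  haveI : Surjective u₀.left := hp₀s.2 a _ u₀ sq.flip
  obtain ⟨t, rfl⟩ := u₀.left.surjective u
  obtain ⟨_, ⟨Wt₀, hWt, rfl⟩, htW, -⟩ :=
    W₀.left.isBasis_affineOpens.exists_subset_of_mem_open (Set.mem_univ (w₀.left t)) isOpen_univ
  obtain ⟨Wt, hWt₀⟩ : ∃ Wt : W₀.left.Opens, Wt = Wt₀ := ⟨Wt₀, rfl⟩
  subst hWt₀
  obtain ⟨_, ⟨Ut₀, hUt, rfl⟩, htU, hUW⟩ :=
    U₀.left.isBasis_affineOpens.exists_subset_of_mem_open
      (show t ∈ ((w₀.left ⁻¹ᵁ Wt : U₀.left.Opens) : Set U₀.left) from htW)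
      (w₀.left ⁻¹ᵁ Wt).2
  obtain ⟨Ut, hUt₀⟩ : ∃ Ut : U₀.left.Opens, Ut = Ut₀ := ⟨Ut₀, rfl⟩
  subst hUt₀
  let A' : Over S := Over.mk (Ut.ι ≫ U₀.hom)
  let ιU : A' ⟶ U₀ := Over.homMk Ut.ι rfl
  let W : Over S := Over.mk (Wt.ι ≫ W₀.hom)
  let ιW : W ⟶ W₀ := Over.homMk Wt.ι rfl
  have hrange : Set.range (Ut.ι ≫ w₀.left) ⊆ Set.range Wt.ι := by
    rintro _ ⟨x, rfl⟩
    rw [Scheme.Opens.range_ι]
    exact hUW x.2
  let h₀ : (Ut : Scheme.{u}) ⟶ (Wt : Scheme.{u}) := IsOpenImmersion.lift Wt.ι (Ut.ι ≫ w₀.left) hrange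
  have hh₀ : h₀ ≫ Wt.ι = Ut.ι ≫ w₀.left := IsOpenImmersion.lift_fac _ _ _
  let h : A' ⟶ W := Over.homMk h₀ (by
    change h₀ ≫ Wt.ι ≫ W₀.hom = Ut.ι ≫ U₀.hom
    rw [reassoc_of% hh₀, Over.w w₀])
  have hhι : h ≫ ιW = ιU ≫ w₀ := by
    ext
    exact hh₀
  refine ⟨A', ιU ≫ u₀, W, (AlgSp.yon S).map ιW ≫ p₀, h, hUt, hWt, ?_, ?_, ?_, ?_⟩
  · refine MorphismProperty.comp_mem _ _ _ ((AlgSp.repWith_yon_map_iff _ _).2 ?_) hp₀e
    exact (inferInstance : Etale Wt.ι)
  · rw [Over.comp_left]
    exact (inferInstance : Etale (Ut.ι ≫ u₀.left))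
  · exact ⟨⟨t, htU⟩, rfl⟩
  · rw [Functor.map_comp, Category.assoc, sq.w, ← Category.assoc, ← Functor.map_comp, ← hhι,
      Functor.map_comp, Category.assoc]

/-- base change of a base change: if `E_c` is the base change of `Δ` along `p` and `E_A` the base
change of `Δ` along `h_h ≫ p`, then `E_A` is the base change of `E_c` along `h`. -/
theorem exists_isPullback_of_comp {F Z : AlgSp.Sp S} (Δ : F ⟶ Z) {Wc A' Ec EA : Over S}
    (p : (AlgSp.yon S).obj Wc ⟶ Z) (h : A' ⟶ Wc) (prc : (AlgSp.yon S).obj Ec ⟶ F) (wc : Ec ⟶ Wc)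
    (psqc : IsPullback prc ((AlgSp.yon S).map wc) Δ p)
    (prA : (AlgSp.yon S).obj EA ⟶ F) (wA : EA ⟶ A')
    (psqA : IsPullback prA ((AlgSp.yon S).map wA) Δ ((AlgSp.yon S).map h ≫ p)) :
    ∃ e : EA ⟶ Ec, IsPullback ((AlgSp.yon S).map e) ((AlgSp.yon S).map wA) ((AlgSp.yon S).map wc)
      ((AlgSp.yon S).map h) := by
  have hcomm : prA ≫ Δ = ((AlgSp.yon S).map wA ≫ (AlgSp.yon S).map h) ≫ p := by
    rw [Category.assoc]; exact psqA.w
  obtain ⟨e, he⟩ := (AlgSp.yon S).map_surjective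
    (psqc.lift prA ((AlgSp.yon S).map wA ≫ (AlgSp.yon S).map h) hcomm)
  have h1 : (AlgSp.yon S).map e ≫ prc = prA := by rw [he, psqc.lift_fst]
  have h2 : (AlgSp.yon S).map e ≫ (AlgSp.yon S).map wc =
      (AlgSp.yon S).map wA ≫ (AlgSp.yon S).map h := by rw [he, psqc.lift_snd]
  refine ⟨e, IsPullback.of_right ?_ h2 psqc⟩
  rw [h1]
  exact psqA

/-- **Step A**: over a locally Noetherian test scheme the base change of the diagonal is a closed
immersion, if discrete valuative squares have at most one lift. -/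
theorem isClosedImmersion_of_dvr_uniq {X Y : AlgSp.Space S} (f : X ⟶ Y)
    (hqs : AlgSp.IsQuasiSeparatedMor f.hom)
    (hu : ∀ sq : AlgSp.ValSq f.hom, IsDiscreteValuationRing sq.A → sq.HasUniq)
    {T W : Over S} [IsLocallyNoetherian T.left]
    (g : (AlgSp.yon S).obj T ⟶ pullback f.hom f.hom)
    (pr : (AlgSp.yon S).obj W ⟶ X.obj) (w : W ⟶ T)
    (psq : IsPullback pr ((AlgSp.yon S).map w) (pullback.diagonal f.hom) g) :
    IsClosedImmersion w.left := by
  obtain ⟨hrep, hlft, hmono, hsep, -⟩ := Groth.Agent.S9900.result f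
  haveI : LocallyOfFiniteType w.left := hlft.2 g pr w psq
  haveI : Mono w.left := hmono.2 g pr w psq
  haveI : IsSeparated w.left := hsep.2 g pr w psq
  haveI : QuasiCompact w.left := hqs.2 g pr w psq
  have hpa : pr = (AlgSp.yon S).map w ≫ g ≫ pullback.fst f.hom f.hom := by
    have := psq.w =≫ pullback.fst f.hom f.hom
    rwa [Category.assoc, pullback.diagonal_fst, Category.comp_id, Category.assoc] at this
  have hpb : pr = (AlgSp.yon S).map w ≫ g ≫ pullback.snd f.hom f.hom := by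
    have := psq.w =≫ pullback.snd f.hom f.hom
    rwa [Category.assoc, pullback.diagonal_snd, Category.comp_id, Category.assoc] at this
  have hex : ValuativeCriterion.Existence w.left := by
    refine Groth.Agent.Lib.Helper4.DVREx.existence_of_dvr' w.left ?_
    intro A _ _ hA x y hxy
    have hi₁ : x ≫ W.hom =
        Spec.map (CommRingCat.ofHom (algebraMap A (FractionRing A))) ≫ y ≫ T.hom := by
      have h := hxy =≫ T.hom
      rw [Category.assoc, Category.assoc, Over.w w] at h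
      exact h
    let i₂' : Over.mk (y ≫ T.hom) ⟶ T := Over.homMk y rfl
    let jj : Over.mk (Spec.map (CommRingCat.ofHom (algebraMap A (FractionRing A))) ≫ y ≫ T.hom) ⟶
        Over.mk (y ≫ T.hom) :=
      Over.homMk (Spec.map (CommRingCat.ofHom (algebraMap A (FractionRing A)))) rfl
    let i₁' : Over.mk (Spec.map (CommRingCat.ofHom (algebraMap A (FractionRing A))) ≫ y ≫ T.hom) ⟶
        W := Over.homMk x hi₁
    have hcomm' : i₁' ≫ w = jj ≫ i₂' := Over.OverMorphism.ext hxy
    have e : (AlgSp.yon S).map jj ≫ (AlgSp.yon S).map i₂' =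
        (AlgSp.yon S).map i₁' ≫ (AlgSp.yon S).map w := by
      rw [← Functor.map_comp, ← Functor.map_comp, hcomm']
    obtain ⟨l₁, hl₁⟩ : ∃ l₁ : (AlgSp.yon S).obj (Over.mk (y ≫ T.hom)) ⟶ X.obj,
        l₁ = (AlgSp.yon S).map i₂' ≫ g ≫ pullback.fst f.hom f.hom := ⟨_, rfl⟩
    obtain ⟨l₂, hl₂⟩ : ∃ l₂ : (AlgSp.yon S).obj (Over.mk (y ≫ T.hom)) ⟶ X.obj,
        l₂ = (AlgSp.yon S).map i₂' ≫ g ≫ pullback.snd f.hom f.hom := ⟨_, rfl⟩
    have hj1 : (AlgSp.yon S).map jj ≫ l₁ = (AlgSp.yon S).map i₁' ≫ pr := by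
      rw [hl₁, hpa]
      simpa only [Category.assoc] using e =≫ (g ≫ pullback.fst f.hom f.hom)
    have hj2 : (AlgSp.yon S).map jj ≫ l₂ = (AlgSp.yon S).map i₁' ≫ pr := by
      rw [hl₂, hpb]
      simpa only [Category.assoc] using e =≫ (g ≫ pullback.snd f.hom f.hom)
    have hf12 : l₁ ≫ f.hom = l₂ ≫ f.hom := by
      rw [hl₁, hl₂]
      simp only [Category.assoc, pullback.condition]
    let vsq : AlgSp.ValSq f.hom :=
      { A := A, K := FractionRing A, str := y ≫ T.hom, top := (AlgSp.yon S).map i₁' ≫ pr,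
        bot := l₁ ≫ f.hom, comm := by rw [← hj1, Category.assoc] }
    have huniq : l₁ = l₂ := hu vsq hA l₁ l₂ hj1 rfl hj2 hf12.symm
    have hd : l₁ ≫ pullback.diagonal f.hom = (AlgSp.yon S).map i₂' ≫ g := by
      apply pullback.hom_ext
      · rw [Category.assoc, pullback.diagonal_fst, Category.comp_id, hl₁, Category.assoc]
      · rw [Category.assoc, pullback.diagonal_snd, Category.comp_id, huniq, hl₂, Category.assoc]
    obtain ⟨s, hs⟩ := (AlgSp.yon S).map_surjective (psq.lift l₁ ((AlgSp.yon S).map i₂') hd)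
    have hsw : s ≫ w = i₂' := by
      apply (AlgSp.yon S).map_injective
      rw [Functor.map_comp, hs, psq.lift_snd]
    have hsl : s.left ≫ w.left = y := by
      rw [← Over.comp_left, hsw]; rfl
    refine ⟨s.left, hsl, ?_⟩
    rw [← cancel_mono w.left, Category.assoc, hsl, hxy]
  haveI : UniversallyClosed w.left := UniversallyClosed.of_valuativeCriterion w.left hex
  haveI : IsProper w.left := { }
  exact (IsClosedImmersion.iff_isProper_and_mono w.left).2 ⟨inferInstance, inferInstance⟩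

/-- **separatedness from the discrete valuative criterion** (uniqueness part), for quasi-separated
morphisms locally of finite type to a locally Noetherian algebraic space. -/
theorem isSeparatedMor_of_dvr_uniq {X Y : AlgSp.Space S} (f : X ⟶ Y)
    (hqs : AlgSp.IsQuasiSeparatedMor f.hom) (hft : AlgSp.LocP @LocallyOfFiniteType f.hom)
    (hY : AlgSp.IsLocNoethSp Y.obj)
    (hu : ∀ sq : AlgSp.ValSq f.hom, IsDiscreteValuationRing sq.A → sq.HasUniq) :
    AlgSp.IsSeparatedMor f.hom := by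
  obtain ⟨hrep, hlft, hmono, hsep, -⟩ := Groth.Agent.S9900.result f
  have hXa : AlgSp.IsAlgSpace X.obj := X.property
  have hYa : AlgSp.IsAlgSpace Y.obj := Y.property
  have hZa : AlgSp.IsAlgSpace (pullback f.hom f.hom) :=
    Groth.Agent.S9874.isAlgSpace_of_isPullback hYa.diag hXa hXa (IsPullback.of_hasPullback _ _)
  -- `X ×_Y X ⟶ Y` is locally of finite type
  have hZlft : AlgSp.LocP @LocallyOfFiniteType (pullback.fst f.hom f.hom ≫ f.hom) := by
    refine Groth.Agent.Lib.Helper12.Proper.locP_lft_comp hXa hYa _ _ ?_ hft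
    exact Groth.Agent.Lib.Helper12.Proper.locP_lft_baseChange hXa hYa hXa
      (IsPullback.of_hasPullback f.hom f.hom).flip hft
  refine ⟨hrep, fun T W g pr w psq => ?_⟩
  haveI : LocallyOfFiniteType w.left := hlft.2 g pr w psq
  haveI : Mono w.left := hmono.2 g pr w psq
  haveI : IsSeparated w.left := hsep.2 g pr w psq
  refine isClosedImmersion_of_etale_local w.left (fun t => ?_)
  obtain ⟨A', d, Wc, p, h, hA', hWc, hp, hd, ht, hcomm⟩ := exists_refinement' hZa g t
  -- the chart `Wc` is locally Noetherian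
  haveI : IsLocallyNoetherian Wc.left := isLocallyNoetherian_chart_of_lft hYa _ hZlft hY p hp
  obtain ⟨Ec, wc, prc, psqc⟩ := hrep p
  haveI : IsClosedImmersion wc.left := isClosedImmersion_of_dvr_uniq f hqs hu p prc wc psqc
  obtain ⟨EA, wA, prA, psqA⟩ := hrep ((AlgSp.yon S).map d ≫ g)
  have psqA' : IsPullback prA ((AlgSp.yon S).map wA) (pullback.diagonal f.hom)
      ((AlgSp.yon S).map h ≫ p) := by rw [← hcomm]; exact psqA
  obtain ⟨e, he⟩ := exists_isPullback_of_comp _ p h prc wc psqc prA wA psqA'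
  obtain ⟨e', he'⟩ := exists_isPullback_of_comp _ g d pr w psq prA wA psqA
  haveI : IsClosedImmersion wA.left :=
    ((AlgSp.repWith_yon_map_iff @IsClosedImmersion wc).2 inferInstance).2 _ _ wA he
  have hsch : IsPullback e'.left wA.left w.left d.left := isPullback_left_of_yon e' wA w d he'
  refine ⟨A'.left, d.left, hd, ht, ?_⟩
  have : pullback.snd w.left d.left = hsch.isoPullback.inv ≫ wA.left := by
    rw [Iso.eq_inv_comp]; exact hsch.isoPullback_hom_snd
  rw [this]
  infer_instance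

end Groth.Agent.Lib.T2H1.SepDvr
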