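import Mathlib
import Groth.Agent.Lib.T2H1SepDvr
import Groth.Agent.Lib.Helper4DVRRef2
import Groth.Agent.Lib.Helper4DVRSch
import Groth.Agent.S10175
import Groth.Agent.S10176
import Groth.Agent.S10177

/-!
# Separatedness via discrete valuation rings through a dense subspace (helper1)
-/

set_option autoImplicit false
universe u
open CategoryTheory CategoryTheory.Limits AlgebraicGeometry TopologicalSpace
open AlgSp

namespace Groth.Agent.Lib.T2H1.SepDvrRef

open Groth.Agent.Lib.T2H1.SepDvr

variable {S : Scheme.{u}}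

/-- a point generizing the generic point of an irreducible component is that generic point. -/
theorem eq_of_specializes_generic {X : Scheme.{u}} {z η : X}
    (hη : closure {η} ∈ irreducibleComponents (X : Type u)) (h : z ⤳ η) : z = η := by
  have h1 : closure ({η} : Set X) ⊆ closure {z} := by
    rw [← specializes_iff_closure_subset]; exact h
  have h2 : IsIrreducible (closure ({z} : Set X)) := isIrreducible_singleton.closure
  have h3 : closure ({z} : Set X) ⊆ closure {η} := hη.2 h2 h1
  have h4 : η ⤳ z := by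
    rw [specializes_iff_closure_subset]; exact h3
  exact (h.antisymm h4).eq

/-- **Step A (refined)**: over an affine locally Noetherian étale chart of `X ×_Y X`, the base
change of the diagonal is a closed immersion if discrete valuative squares through a dense
finite type `U ⟶ X` have at most one lift. -/
theorem isClosedImmersion_of_dvr_uniq_refined {U X Y : AlgSp.Space S} (h : U ⟶ X) (f : X ⟶ Y)
    (hfqs : AlgSp.IsQuasiSeparatedMor f.hom) (hh : AlgSp.IsFiniteTypeMor h.hom)
    (hdense : Dense (Set.range (AlgSp.Points.map h.hom)))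
    (hval : ∀ sq : AlgSp.ValSq (h.hom ≫ f.hom), IsDiscreteValuationRing sq.A →
      ∀ l l' : (AlgSp.yon S).obj sq.ptA ⟶ X.obj,
        (AlgSp.yon S).map sq.j ≫ l = sq.top ≫ h.hom ∧ l ≫ f.hom = sq.bot →
        (AlgSp.yon S).map sq.j ≫ l' = sq.top ≫ h.hom ∧ l' ≫ f.hom = sq.bot → l = l')
    {T W : Over S} [IsLocallyNoetherian T.left] [IsAffine T.left]
    (g : (AlgSp.yon S).obj T ⟶ pullback f.hom f.hom) (hg : AlgSp.RepWith @Etale g)
    (pr : (AlgSp.yon S).obj W ⟶ X.obj) (w : W ⟶ T)
    (psq : IsPullback pr ((AlgSp.yon S).map w) (pullback.diagonal f.hom) g) :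
    IsClosedImmersion w.left := by
  obtain ⟨hrep, hlft, hmono, hsep, -⟩ := Groth.Agent.S9900.result f
  obtain ⟨hhlft, hhqc⟩ := hh
  haveI : LocallyOfFiniteType w.left := hlft.2 g pr w psq
  haveI : Mono w.left := hmono.2 g pr w psq
  haveI : IsSeparated w.left := hsep.2 g pr w psq
  haveI : QuasiCompact w.left := hfqs.2 g pr w psq
  haveI : IsLocallyNoetherian W.left := LocallyOfFiniteType.isLocallyNoetherian w.left
  haveI : CompactSpace ↥T.left := inferInstance
  haveI : CompactSpace ↥W.left := QuasiCompact.compactSpace_of_compactSpace w.left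
  have hpre : AlgSp.RepWith @Etale pr :=
    MorphismProperty.of_isPullback (P := AlgSp.RepWith @Etale) psq.flip hg
  have hpa : pr = (AlgSp.yon S).map w ≫ g ≫ pullback.fst f.hom f.hom := by
    have := psq.w =≫ pullback.fst f.hom f.hom
    rwa [Category.assoc, pullback.diagonal_fst, Category.comp_id, Category.assoc] at this
  have hpb : pr = (AlgSp.yon S).map w ≫ g ≫ pullback.snd f.hom f.hom := by
    have := psq.w =≫ pullback.snd f.hom f.hom
    rwa [Category.assoc, pullback.diagonal_snd, Category.comp_id, Category.assoc] at this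
  -- the base change `G` of `U` to `W`, with a quasi-compact chart `G'`
  have sqG : IsPullback (pullback.fst h.hom pr) (pullback.snd h.hom pr) h.hom pr :=
    IsPullback.of_hasPullback h.hom pr
  have hWqc : AlgSp.IsQuasiCompactSp ((AlgSp.yon S).obj W) :=
    ⟨W, 𝟙 _, AlgSp.repWith_id _ W, AlgSp.repWith_id _ W, (inferInstance : CompactSpace ↥W.left)⟩
  obtain ⟨G', c, hce, hcs, hG'c⟩ :=
    hhqc (AlgSp.IsAlgSpace.yon_obj W) hWqc pr (pullback.fst h.hom pr) (pullback.snd h.hom pr) sqG
  obtain ⟨γ, hγ⟩ := (AlgSp.yon S).map_surjective (c ≫ pullback.snd h.hom pr)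
  have hfste : AlgSp.RepWith @Etale (pullback.fst h.hom pr) :=
    MorphismProperty.of_isPullback (P := AlgSp.RepWith @Etale) sqG.flip hpre
  have hae : AlgSp.RepWith @Etale (c ≫ pullback.fst h.hom pr) :=
    MorphismProperty.comp_mem _ _ _ hce hfste
  have hcommG : (c ≫ pullback.fst h.hom pr) ≫ h.hom = (AlgSp.yon S).map γ ≫ pr := by
    rw [Category.assoc, pullback.condition, ← Category.assoc, hγ]
  haveI : LocallyOfFiniteType γ.left := hhlft _ _ γ hae hpre hcommG
  haveI : CompactSpace ↥G'.left := hG'c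
  haveI : QuasiCompact γ.left := inferInstance
  haveI : IsLocallyNoetherian G'.left := LocallyOfFiniteType.isLocallyNoetherian γ.left
  -- the image of `G'` is dense in `W`
  have hγdense : ∀ z : ↥W.left, z ∈ closure (Set.range γ.left) := by
    intro z
    rw [mem_closure_iff]
    intro N hN hzN
    have hopen : IsOpen (AlgSp.Points.ofPt pr '' N) :=
      Groth.Agent.S10176.isOpenMap_ofPt pr hpre N hN
    obtain ⟨_, ⟨n, hnN, hn⟩, ⟨u', rfl⟩⟩ :=
      hdense.inter_open_nonempty _ hopen ⟨_, z, hzN, rfl⟩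
    have e : AlgSp.Points.map h.hom u' = AlgSp.Points.map pr (AlgSp.Points.ofScheme W n) := by
      rw [← AlgSp.Points.ofPt_eq_map_ofScheme]; exact hn.symm
    obtain ⟨p, -, hp2⟩ := Groth.Agent.S10175.exists_point_of_isPullback sqG u' _ e
    obtain ⟨g', rfl⟩ := Groth.Agent.S10177.surjective_ofPt c hcs p
    have h1 : AlgSp.Points.ofPt ((AlgSp.yon S).map γ) g' = AlgSp.Points.ofScheme W n := by
      rw [hγ, ← AlgSp.Points.map_ofPt]; exact hp2
    have h2 := AlgSp.Points.toScheme_ofPt γ g'
    rw [h1, AlgSp.Points.toScheme_ofScheme] at h2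
    exact ⟨n, hnN, g', h2.symm⟩
  have hex : ValuativeCriterion.Existence w.left := by
    refine Groth.Agent.Lib.Helper4.DVRRef.existence_of_dvr_refined w.left ?_
    intro x
    obtain ⟨η, hη, hηx⟩ := Groth.Agent.Lib.T2H2.NowhereDenseSch.exists_specializes_irreducibleComponent x
    obtain ⟨g', hg'⟩ :=
      Groth.Agent.Lib.Helper4.DVRSch.exists_specializes_of_mem_closure_range γ.left (hγdense η)
    have hg'η : γ.left g' = η := eq_of_specializes_generic hη hg'
    refine ⟨γ.left g', hg'η ▸ hηx, ↥(G'.left.residueField g'), inferInstance,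
      γ.left.residueFieldMap g',
      RingHom.EssFiniteType.residueFieldMap (LocallyOfFiniteType.stalkMap γ.left g'), ?_⟩
    intro V hV y hy
    have hφ : Spec.map (γ.left.residueFieldMap g') ≫ W.left.fromSpecResidueField (γ.left g') =
        G'.left.fromSpecResidueField g' ≫ γ.left :=
      Scheme.Hom.SpecMap_residueFieldMap_fromSpecResidueField γ.left g'
    -- the square over `S`
    have hstr : G'.left.fromSpecResidueField g' ≫ G'.hom =
        Spec.map (CommRingCat.ofHom (algebraMap V (G'.left.residueField g'))) ≫ y ≫ T.hom := by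
      calc G'.left.fromSpecResidueField g' ≫ G'.hom
          = G'.left.fromSpecResidueField g' ≫ γ.left ≫ w.left ≫ T.hom := by
            rw [Over.w w, Over.w γ]
        _ = (Spec.map (γ.left.residueFieldMap g') ≫ W.left.fromSpecResidueField (γ.left g')) ≫
              w.left ≫ T.hom := by rw [hφ, Category.assoc]
        _ = (Spec.map (CommRingCat.ofHom V.subtype) ≫ y) ≫ T.hom := by
            rw [hy]; simp only [Category.assoc]
        _ = _ := Category.assoc _ _ _
    let i₂' : Over.mk (y ≫ T.hom) ⟶ T := Over.homMk y rfl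
    let jj : Over.mk (Spec.map (CommRingCat.ofHom (algebraMap V (G'.left.residueField g'))) ≫
        y ≫ T.hom) ⟶ Over.mk (y ≫ T.hom) :=
      Over.homMk (Spec.map (CommRingCat.ofHom (algebraMap V (G'.left.residueField g')))) rfl
    let iG : Over.mk (Spec.map (CommRingCat.ofHom (algebraMap V (G'.left.residueField g'))) ≫
        y ≫ T.hom) ⟶ G' := Over.homMk (G'.left.fromSpecResidueField g') hstr
    have hcomm' : (iG ≫ γ) ≫ w = jj ≫ i₂' := by
      ext
      change (G'.left.fromSpecResidueField g' ≫ γ.left) ≫ w.left =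
        Spec.map (CommRingCat.ofHom V.subtype) ≫ y
      rw [hy, ← hφ, Category.assoc]
    have e : (AlgSp.yon S).map jj ≫ (AlgSp.yon S).map i₂' =
        (AlgSp.yon S).map (iG ≫ γ) ≫ (AlgSp.yon S).map w := by
      rw [← Functor.map_comp, ← Functor.map_comp, hcomm']
    obtain ⟨l₁, hl₁⟩ : ∃ l₁ : (AlgSp.yon S).obj (Over.mk (y ≫ T.hom)) ⟶ X.obj,
        l₁ = (AlgSp.yon S).map i₂' ≫ g ≫ pullback.fst f.hom f.hom := ⟨_, rfl⟩
    obtain ⟨l₂, hl₂⟩ : ∃ l₂ : (AlgSp.yon S).obj (Over.mk (y ≫ T.hom)) ⟶ X.obj,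
        l₂ = (AlgSp.yon S).map i₂' ≫ g ≫ pullback.snd f.hom f.hom := ⟨_, rfl⟩
    have hj1 : (AlgSp.yon S).map jj ≫ l₁ = (AlgSp.yon S).map (iG ≫ γ) ≫ pr := by
      rw [hl₁, hpa]
      simpa only [Category.assoc] using e =≫ (g ≫ pullback.fst f.hom f.hom)
    have hj2 : (AlgSp.yon S).map jj ≫ l₂ = (AlgSp.yon S).map (iG ≫ γ) ≫ pr := by
      rw [hl₂, hpb]
      simpa only [Category.assoc] using e =≫ (g ≫ pullback.snd f.hom f.hom)
    have hf12 : l₁ ≫ f.hom = l₂ ≫ f.hom := by
      rw [hl₁, hl₂]
      simp only [Category.assoc, pullback.condition]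
    -- the top arrow through `U`
    have htop : ((AlgSp.yon S).map iG ≫ c ≫ pullback.fst h.hom pr) ≫ h.hom =
        (AlgSp.yon S).map (iG ≫ γ) ≫ pr := by
      rw [Category.assoc, Category.assoc, pullback.condition, ← Category.assoc c, ← hγ,
        Functor.map_comp, Category.assoc]
    have hcommv : ((AlgSp.yon S).map iG ≫ c ≫ pullback.fst h.hom pr) ≫ h.hom ≫ f.hom =
        (AlgSp.yon S).map jj ≫ l₁ ≫ f.hom :=
      calc ((AlgSp.yon S).map iG ≫ c ≫ pullback.fst h.hom pr) ≫ h.hom ≫ f.hom
          = (((AlgSp.yon S).map iG ≫ c ≫ pullback.fst h.hom pr) ≫ h.hom) ≫ f.hom :=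
            (Category.assoc _ _ _).symm
        _ = ((AlgSp.yon S).map (iG ≫ γ) ≫ pr) ≫ f.hom := by rw [htop]
        _ = ((AlgSp.yon S).map jj ≫ l₁) ≫ f.hom := by rw [hj1]
        _ = _ := Category.assoc _ _ _
    let vsq : AlgSp.ValSq (h.hom ≫ f.hom) :=
      { A := V, K := G'.left.residueField g', str := y ≫ T.hom,
        top := (AlgSp.yon S).map iG ≫ c ≫ pullback.fst h.hom pr,
        bot := l₁ ≫ f.hom,
        comm := hcommv }
    have huniq : l₁ = l₂ :=
      hval vsq hV l₁ l₂ ⟨hj1.trans htop.symm, rfl⟩ ⟨hj2.trans htop.symm, hf12.symm⟩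
    have hd : l₁ ≫ pullback.diagonal f.hom = (AlgSp.yon S).map i₂' ≫ g := by
      apply pullback.hom_ext
      · rw [Category.assoc, pullback.diagonal_fst, Category.comp_id, hl₁, Category.assoc]
      · rw [Category.assoc, pullback.diagonal_snd, Category.comp_id, huniq, hl₂, Category.assoc]
    obtain ⟨s, hs⟩ := (AlgSp.yon S).map_surjective (psq.lift l₁ ((AlgSp.yon S).map i₂') hd)
    have hsw : s ≫ w = i₂' := by
      apply (AlgSp.yon S).map_injective
      rw [Functor.map_comp, hs, psq.lift_snd]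
    have hsl : s.left ≫ w.left = y := by
      rw [← Over.comp_left, hsw]; rfl
    refine ⟨s.left, hsl, ?_⟩
    rw [← cancel_mono w.left, Category.assoc, hsl, hy, Category.assoc]
  haveI : UniversallyClosed w.left := UniversallyClosed.of_valuativeCriterion w.left hex
  haveI : IsProper w.left := { }
  exact (IsClosedImmersion.iff_isProper_and_mono w.left).2 ⟨inferInstance, inferInstance⟩

/-- **separatedness from the refined discrete valuative criterion** (uniqueness part). -/
theorem isSeparatedMor_of_dvr_uniq_refined {U X Y : AlgSp.Space S} (h : U ⟶ X) (f : X ⟶ Y)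
    (hY : AlgSp.IsLocNoethSp Y.obj) (hft : AlgSp.LocP @LocallyOfFiniteType f.hom)
    (hfqs : AlgSp.IsQuasiSeparatedMor f.hom) (hh : AlgSp.IsFiniteTypeMor h.hom)
    (hdense : Dense (Set.range (AlgSp.Points.map h.hom)))
    (hval : ∀ sq : AlgSp.ValSq (h.hom ≫ f.hom), IsDiscreteValuationRing sq.A →
      ∀ l l' : (AlgSp.yon S).obj sq.ptA ⟶ X.obj,
        (AlgSp.yon S).map sq.j ≫ l = sq.top ≫ h.hom ∧ l ≫ f.hom = sq.bot →
        (AlgSp.yon S).map sq.j ≫ l' = sq.top ≫ h.hom ∧ l' ≫ f.hom = sq.bot → l = l') :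
    AlgSp.IsSeparatedMor f.hom := by
  obtain ⟨hrep, hlft, hmono, hsep, -⟩ := Groth.Agent.S9900.result f
  have hXa : AlgSp.IsAlgSpace X.obj := X.property
  have hYa : AlgSp.IsAlgSpace Y.obj := Y.property
  have hZa : AlgSp.IsAlgSpace (pullback f.hom f.hom) :=
    Groth.Agent.S9874.isAlgSpace_of_isPullback hYa.diag hXa hXa (IsPullback.of_hasPullback _ _)
  have hZlft : AlgSp.LocP @LocallyOfFiniteType (pullback.fst f.hom f.hom ≫ f.hom) := by
    refine Groth.Agent.Lib.Helper12.Proper.locP_lft_comp hXa hYa _ _ ?_ hft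
    exact Groth.Agent.Lib.Helper12.Proper.locP_lft_baseChange hXa hYa hXa
      (IsPullback.of_hasPullback f.hom f.hom).flip hft
  refine ⟨hrep, fun T W g pr w psq => ?_⟩
  haveI : LocallyOfFiniteType w.left := hlft.2 g pr w psq
  haveI : Mono w.left := hmono.2 g pr w psq
  haveI : IsSeparated w.left := hsep.2 g pr w psq
  refine isClosedImmersion_of_etale_local w.left (fun t => ?_)
  obtain ⟨A', d, Wc, p, k, hA', hWc, hp, hd, ht, hcomm⟩ := exists_refinement' hZa g t
  haveI := hWc
  haveI : IsLocallyNoetherian Wc.left := isLocallyNoetherian_chart_of_lft hYa _ hZlft hY p hp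
  obtain ⟨Ec, wc, prc, psqc⟩ := hrep p
  haveI : IsClosedImmersion wc.left :=
    isClosedImmersion_of_dvr_uniq_refined h f hfqs hh hdense hval p hp prc wc psqc
  obtain ⟨EA, wA, prA, psqA⟩ := hrep ((AlgSp.yon S).map d ≫ g)
  have psqA' : IsPullback prA ((AlgSp.yon S).map wA) (pullback.diagonal f.hom)
      ((AlgSp.yon S).map k ≫ p) := by rw [← hcomm]; exact psqA
  obtain ⟨e, he⟩ := exists_isPullback_of_comp _ p k prc wc psqc prA wA psqA'
  obtain ⟨e', he'⟩ := exists_isPullback_of_comp _ g d pr w psq prA wA psqA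
  haveI : IsClosedImmersion wA.left :=
    ((AlgSp.repWith_yon_map_iff @IsClosedImmersion wc).2 inferInstance).2 _ _ wA he
  have hsch : IsPullback e'.left wA.left w.left d.left := isPullback_left_of_yon e' wA w d he'
  refine ⟨A'.left, d.left, hd, ht, ?_⟩
  have : pullback.snd w.left d.left = hsch.isoPullback.inv ≫ wA.left := by
    rw [Iso.eq_inv_comp]; exact hsch.isoPullback_hom_snd
  rw [this]
  infer_instance

end Groth.Agent.Lib.T2H1.SepDvrRef
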