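import Mathlib
import Groth.Prelude.Def_Hensel
import Groth.Agent.Lib.T2H1Olivier
import Groth.Agent.Lib.Helper3ShQuot
import Groth.Agent.Lib.Helper3ShTensor
import Groth.Agent.Lib.Helper3IndEtHz
import Groth.Agent.Lib.Helper3HzP
import Groth.Agent.Lib.Helper3Branch
import Groth.Agent.S1996
import Groth.Agent.S7127
import Groth.Agent.S0736

/-!
# Weakly étale local maps and strict henselizations

* `isStrictHenselization_of_algEquiv`: transport of a strict henselization along an isomorphism of
  the target.
* `isStrictHenselization_of_weaklyEtale`: if `A → B` is a weakly étale local homomorphism, a strict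
  henselization of `B` is a strict henselization of `A` (uses Olivier's theorem).
* `weaklyEtale_of_isStrictHenselization`: conversely, if some strict henselization of `B` is a
  strict henselization of `A` then `A → B` is weakly étale.
-/

set_option autoImplicit false
universe u
open IsLocalRing

namespace Groth.Agent.Lib.T2H1.ShAgree

/-- Transport of a strict henselization along an isomorphism of the target. -/
theorem isStrictHenselization_of_algEquiv {A S T : Type u} [CommRing A] [IsLocalRing A]
    [CommRing S] [IsLocalRing S] [Algebra A S] [IsLocalHom (algebraMap A S)]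
    [hS : Hensel.IsStrictHenselization A S] [CommRing T] [hT : HenselianLocalRing T] [Algebra A T]
    [IsLocalHom (algebraMap A T)] (e : S ≃ₐ[A] T) : Hensel.IsStrictHenselization A T := by
  let e' : S →+* T := (e : S →+* T)
  let f' : T →+* S := (e.symm : T →+* S)
  haveI : IsLocalHom e' := by
    refine ⟨fun a ha => ?_⟩
    have := ha.map f'
    simpa [e', f'] using this
  haveI : IsLocalHom f' := by
    refine ⟨fun a ha => ?_⟩
    have := ha.map e'
    simpa [e', f'] using this
  have hcomp : e'.comp (algebraMap A S) = algebraMap A T := by
    ext a; exact e.commutes a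
  have hcomp' : f'.comp (algebraMap A T) = algebraMap A S := by
    ext a; exact e.symm.commutes a
  have hκ : (ResidueField.map e').comp (ResidueField.map (algebraMap A S)) =
      ResidueField.map (algebraMap A T) := by
    rw [← ResidueField.map_comp]
    congr 1
  have hκ' : (ResidueField.map f').comp (ResidueField.map (algebraMap A T)) =
      ResidueField.map (algebraMap A S) := by
    rw [← ResidueField.map_comp]
    congr 1
  have hef : (ResidueField.map e').comp (ResidueField.map f') = RingHom.id _ := by
    rw [← ResidueField.map_comp]
    have : e'.comp f' = RingHom.id T := by ext t; simp [e', f']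
    simp only [this]
    exact ResidueField.map_id
  have hfe : (ResidueField.map f').comp (ResidueField.map e') = RingHom.id _ := by
    rw [← ResidueField.map_comp]
    have : f'.comp e' = RingHom.id S := by ext t; simp [e', f']
    simp only [this]
    exact ResidueField.map_id
  refine ⟨hT, ?_, ?_⟩
  · have h1 := hS.isSepClosure
    haveI := h1.sep_closed
    haveI := h1.separable
    refine ⟨?_, ?_⟩
    · exact Groth.Agent.Lib.Helper3.ShQuot.isSepClosed_of_ringEquiv
        (RingEquiv.ofRingHom (ResidueField.map e') (ResidueField.map f') hef hfe)
    · let φ : ResidueField T →ₐ[ResidueField A] ResidueField S :=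
        { ResidueField.map f' with
          commutes' := fun r => RingHom.congr_fun hκ' r }
      exact Algebra.IsSeparable.of_algHom (ResidueField A) (ResidueField S) φ
  · intro T' _ _ f hf τ hτ
    have hτ' : (τ.comp (ResidueField.map e')).comp (ResidueField.map (algebraMap A S)) =
        ResidueField.map f := by
      rw [RingHom.comp_assoc, hκ, hτ]
    obtain ⟨g, ⟨hg1, hg2⟩, hguniq⟩ := hS.universal T' f (τ.comp (ResidueField.map e')) hτ'
    refine ⟨g.comp f', ⟨?_, ?_⟩, ?_⟩
    · rw [RingHom.comp_assoc, hcomp', hg1]
    · intro x
      rw [RingHom.comp_apply, hg2, RingHom.comp_apply, ResidueField.map_residue]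
      congr 1
      show residue T (e (e.symm x)) = residue T x
      rw [e.apply_symm_apply]
    · rintro g' ⟨hg'1, hg'2⟩
      have := hguniq (g'.comp e') ⟨by rw [RingHom.comp_assoc, hcomp, hg'1], fun x => by
        rw [RingHom.comp_apply, hg'2, RingHom.comp_apply, ResidueField.map_residue]⟩
      rw [← this, RingHom.comp_assoc]
      have h3 : e'.comp f' = RingHom.id T := by ext t; simp [e', f']
      rw [h3, RingHom.comp_id]

theorem weaklyEtale_of_isStrictHenselization' (R S : Type u) [CommRing R] [IsLocalRing R]
    [CommRing S] [IsLocalRing S] [Algebra R S] [IsLocalHom (algebraMap R S)]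
    [Hensel.IsStrictHenselization R S] : Algebra.WeaklyEtale R S :=
  Groth.Agent.S0736.result R S
    (Groth.Agent.Lib.Helper3.IndEt.isIndEtale_of_isStrictHenselization R S)

theorem isStrictHenselization_of_weaklyEtale (A B T : Type u) [CommRing A] [IsLocalRing A]
    [CommRing B] [IsLocalRing B] [Algebra A B] [IsLocalHom (algebraMap A B)]
    [Algebra.WeaklyEtale A B] [CommRing T] [IsLocalRing T] [Algebra B T]
    [IsLocalHom (algebraMap B T)] [hT : Hensel.IsStrictHenselization B T] [Algebra A T]
    [IsScalarTower A B T] :
    ∃ _ : IsLocalHom (algebraMap A T), Hensel.IsStrictHenselization A T := by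
  have hAT : algebraMap A T = (algebraMap B T).comp (algebraMap A B) :=
    IsScalarTower.algebraMap_eq A B T
  haveI hloc : IsLocalHom (algebraMap A T) := by
    rw [hAT]; infer_instance
  refine ⟨hloc, ?_⟩
  obtain ⟨S, _, _, _, _, hS⟩ := Groth.Agent.Lib.Helper3.Branch.exists_isStrictHenselization A
  obtain ⟨g, hg⟩ := Groth.Agent.Lib.Helper3.ShTensor.exists_map (A := A) (B := B) (S := S) (T := T)
  letI : Algebra S T := g.toRingHom.toAlgebra
  haveI : IsScalarTower A S T := IsScalarTower.of_algebraMap_eq fun a => (g.commutes a).symm
  haveI : IsLocalHom (algebraMap S T) := hg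
  haveI : Algebra.WeaklyEtale A S := weaklyEtale_of_isStrictHenselization' A S
  haveI : Algebra.WeaklyEtale B T := weaklyEtale_of_isStrictHenselization' B T
  haveI : Algebra.WeaklyEtale A T := Algebra.WeaklyEtale.trans A B T
  haveI : Algebra.WeaklyEtale S T := Groth.Agent.S7127.result A S T
  haveI : HenselianLocalRing S := hS.henselian
  haveI : IsSepClosed (ResidueField S) := hS.isSepClosure.sep_closed
  have hbij : Function.Bijective (algebraMap S T) := Groth.Agent.Lib.T2H1.Olivier.olivier S T
  let e : S ≃ₐ[A] T := AlgEquiv.ofBijective g hbij
  haveI : HenselianLocalRing T := hT.henselian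
  exact isStrictHenselization_of_algEquiv e

theorem weaklyEtale_of_isStrictHenselization (A B T : Type u) [CommRing A] [IsLocalRing A]
    [CommRing B] [IsLocalRing B] [Algebra A B]
    [CommRing T] [IsLocalRing T] [Algebra B T]
    [IsLocalHom (algebraMap B T)] [hT : Hensel.IsStrictHenselization B T] [Algebra A T]
    [IsScalarTower A B T] [IsLocalHom (algebraMap A T)] [Hensel.IsStrictHenselization A T] :
    Algebra.WeaklyEtale A B := by
  haveI : Algebra.WeaklyEtale A T := weaklyEtale_of_isStrictHenselization' A T
  haveI : Module.FaithfullyFlat B T := Groth.Agent.Lib.Helper3.HzP.sh_faithfullyFlat B T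
  exact Groth.Agent.S1996.result A B T

end Groth.Agent.Lib.T2H1.ShAgree
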