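import Mathlib
import Groth.Prelude
import Groth.Agent.Lib.Helper3ShQuot
import Groth.Agent.Lib.Helper3HzRed
import Groth.Agent.Lib.Helper3HzP
import Groth.Agent.S2135
import Groth.Agent.S2052

/-!
# Primality of extended ideals in strict henselizations (helper1, team 2)

Namespace `Groth.Agent.Lib.T2H1.ShQuotPrime`.  If `B ⧸ J` is a geometrically unibranch local
domain, then `J` extends to a prime ideal in every strict henselization of `B`.
-/

set_option autoImplicit false
set_option linter.style.haveILetI false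
universe u
open IsLocalRing

namespace Groth.Agent.Lib.T2H1.ShQuotPrime

open Groth.Agent.Lib.Helper3

theorem isPrime_map_of_gu_domain {B T : Type u} [CommRing B] [IsLocalRing B] [CommRing T]
    [IsLocalRing T] [Algebra B T] [IsLocalHom (algebraMap B T)]
    [Hensel.IsStrictHenselization B T] (J : Ideal B) (hJ : J ≠ ⊤) [IsLocalRing (B ⧸ J)]
    [IsDomain (B ⧸ J)] (hGU : CAlg2.IsGeomUnibranch (B ⧸ J)) :
    (J.map (algebraMap B T)).IsPrime := by
  have hJm : J ≤ maximalIdeal B := IsLocalRing.le_maximalIdeal hJ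
  have hN' : J.map (algebraMap B T) ≤ maximalIdeal T := by
    rw [Ideal.map_le_iff_le_comap]
    intro b hb
    have hb' : b ∈ maximalIdeal B := hJm hb
    rw [Ideal.mem_comap, mem_maximalIdeal, mem_nonunits_iff]
    intro hu
    exact ((mem_maximalIdeal _).mp hb') (isUnit_of_map_unit (algebraMap B T) b hu)
  haveI : Nontrivial (T ⧸ J.map (algebraMap B T)) :=
    Ideal.Quotient.nontrivial_iff.mpr (fun h => by
      have := (maximalIdeal.isMaximal T).ne_top
      exact this (top_le_iff.mp (h ▸ hN')))
  haveI : IsLocalRing (T ⧸ J.map (algebraMap B T)) :=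
    IsLocalRing.of_surjective' (Ideal.Quotient.mk _) Ideal.Quotient.mk_surjective
  haveI : IsLocalHom (algebraMap (B ⧸ J) (T ⧸ J.map (algebraMap B T))) := by
    refine ⟨fun a ha => ?_⟩
    obtain ⟨a, rfl⟩ := Ideal.Quotient.mk_surjective a
    by_contra hcon
    have ha' : a ∈ maximalIdeal B := by
      rw [mem_maximalIdeal, mem_nonunits_iff]
      intro hu
      exact hcon (hu.map _)
    have h2 : algebraMap B T a ∈ maximalIdeal T := by
      rw [mem_maximalIdeal, mem_nonunits_iff]
      intro hu
      exact ((mem_maximalIdeal _).mp ha') (isUnit_of_map_unit (algebraMap B T) a hu)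
    have h3 : Ideal.Quotient.mk (J.map (algebraMap B T)) (algebraMap B T a) ∈
        maximalIdeal (T ⧸ J.map (algebraMap B T)) := by
      rw [mem_maximalIdeal, mem_nonunits_iff]
      intro hu
      obtain ⟨c, hc⟩ := hu.exists_right_inv
      obtain ⟨c, rfl⟩ := Ideal.Quotient.mk_surjective c
      rw [← map_mul, ← map_one (Ideal.Quotient.mk _), Ideal.Quotient.eq] at hc
      have h4 : algebraMap B T a * c - 1 ∈ maximalIdeal T := hN' hc
      have h5 : (1 : T) ∈ maximalIdeal T := by
        have := Ideal.sub_mem _ (Ideal.mul_mem_right c _ h2) h4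
        simpa using this
      exact (maximalIdeal.isMaximal T).ne_top ((Ideal.eq_top_iff_one _).mpr h5)
    exact ((mem_maximalIdeal _).mp h3) ha
  haveI : Hensel.IsStrictHenselization (B ⧸ J) (T ⧸ J.map (algebraMap B T)) :=
    ShQuot.isStrictHenselization_quotient J
  have h1 : CAlgX.HasUniqueMinimalPrime (T ⧸ J.map (algebraMap B T)) :=
    (Groth.Agent.S2135.result (A := B ⧸ J) (Ash := T ⧸ J.map (algebraMap B T))).1 hGU
  have h2 := Groth.Agent.S2052.isPrime_nilradical_of_hasUniqueMinimalPrime _ h1
  haveI : IsReduced (T ⧸ J.map (algebraMap B T)) :=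
    (HzP.sh_isReduced_iff (B ⧸ J) (T ⧸ J.map (algebraMap B T))).1 inferInstance
  rw [nilradical_eq_zero, Ideal.zero_eq_bot] at h2
  haveI := h2
  haveI : IsDomain (T ⧸ J.map (algebraMap B T)) := IsDomain.of_bot_isPrime _
  exact (Ideal.Quotient.isDomain_iff_prime _).mp inferInstance

end Groth.Agent.Lib.T2H1.ShQuotPrime
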