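import Groth.Agent.Lib.T2H1SmoothTorSch

/-!
# Tor dimension of `f` from that of `f ≫ q`, for `q` with charts along which tor dimension
shifts by at most `n` (T2H1)
-/

set_option autoImplicit false
set_option linter.style.haveILetI false
universe u
open CategoryTheory CategoryTheory.Limits AlgebraicGeometry

attribute [local instance] HasDerivedCategory.standard

namespace Groth.Agent.Lib.T2H1.SmoothTorSch

open Groth.Agent.Lib.T2H1.SmoothTor Groth.Agent.Lib.T2H1.TorAmpBCSch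

variable {X Y S : Scheme.{u}}

/-- the stalk version, on a chart along which tor dimension shifts by at most `n` -/
theorem hasTorDimLE_stalk_of_chart' (g : Y ⟶ S) (y : Y) {U : S.Opens} (hU : IsAffineOpen U)
    {V : Y.Opens} (hV : IsAffineOpen V) (hy : y ∈ V) (e : V ≤ g ⁻¹ᵁ U) (n : ℕ)
    (hsm : @TorShift Γ(S, U) Γ(Y, V) _ _ (g.appLE U V e).hom.toAlgebra n)
    (N : ModuleCat.{u} (Y.presheaf.stalk y)) (d : ℕ)
    (h : DRing.HasTorDimLE (S.presheaf.stalk (g y)) d
      ((ModuleCat.restrictScalars (g.stalkMap y).hom).obj N)) :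
    DRing.HasTorDimLE (Y.presheaf.stalk y) (d + n) N := by
  letI iAB : Algebra Γ(S, U) Γ(Y, V) := (g.appLE U V e).hom.toAlgebra
  letI iAA' : Algebra Γ(S, U) (S.presheaf.stalk (g y)) :=
    S.presheaf.algebra_section_stalk ⟨g y, e hy⟩
  letI iBB' : Algebra Γ(Y, V) (Y.presheaf.stalk y) := Y.presheaf.algebra_section_stalk ⟨y, hy⟩
  letI iA'B' : Algebra (S.presheaf.stalk (g y)) (Y.presheaf.stalk y) :=
    (g.stalkMap y).hom.toAlgebra
  letI iAB' : Algebra Γ(S, U) (Y.presheaf.stalk y) :=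
    ((algebraMap Γ(Y, V) (Y.presheaf.stalk y)).comp (algebraMap Γ(S, U) Γ(Y, V))).toAlgebra
  haveI : IsScalarTower Γ(S, U) Γ(Y, V) (Y.presheaf.stalk y) :=
    IsScalarTower.of_algebraMap_eq (fun _ => rfl)
  haveI : IsScalarTower Γ(S, U) (S.presheaf.stalk (g y)) (Y.presheaf.stalk y) := by
    refine IsScalarTower.of_algebraMap_eq (fun a => ?_)
    have h1 := germ_stalkMap_appLE g U V e y hy
    exact (congrArg (fun φ => φ.hom a) h1).symm
  haveI : Module.Flat Γ(S, U) (S.presheaf.stalk (g y)) := flat_germ hU (g y) (e hy)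
  haveI : Algebra.WeaklyEtale Γ(Y, V) (Y.presheaf.stalk y) := by
    haveI := hV.isLocalization_stalk ⟨y, hy⟩
    exact Groth.Agent.Lib.Helper14.WEField.weaklyEtale_of_isLocalization
      (hV.primeIdealOf ⟨y, hy⟩).asIdeal.primeCompl (Y.presheaf.stalk y)
  letI : Module (S.presheaf.stalk (g y)) N := Module.compHom N (g.stalkMap y).hom
  haveI : IsScalarTower (S.presheaf.stalk (g y)) (Y.presheaf.stalk y) N :=
    IsScalarTower.of_algebraMap_smul (fun _ _ => rfl)
  exact hasTorDimLE_of_torShift_local (A := Γ(S, U)) (B := Γ(Y, V))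
    (A' := S.presheaf.stalk (g y)) (B' := Y.presheaf.stalk y) n hsm N d h

/-- around every point, `q` has an affine chart along which tor dimension shifts by at most `n` -/
def ChartTorShift (q : Y ⟶ S) (n : ℕ) : Prop :=
  ∀ y : Y, ∃ (U : S.Opens) (_ : IsAffineOpen U) (V : Y.Opens) (_ : IsAffineOpen V) (_ : y ∈ V)
    (e : V ≤ q ⁻¹ᵁ U), @TorShift Γ(S, U) Γ(Y, V) _ _ (q.appLE U V e).hom.toAlgebra n

theorem chartTorShift_of_smoothOfRelativeDimension (q : Y ⟶ S) (n : ℕ)
    [SmoothOfRelativeDimension n q] : ChartTorShift q n := by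
  intro y
  obtain ⟨U, hU, V, hV, hy, e, hsm⟩ :=
    SmoothOfRelativeDimension.exists_isStandardSmoothOfRelativeDimension (n := n) (f := q) y
  refine ⟨U, hU, V, hV, hy, e, ?_⟩
  letI : Algebra Γ(S, U) Γ(Y, V) := (q.appLE U V e).hom.toAlgebra
  exact torShift_of_isStandardSmooth n hsm

lemma hasTorDimLE_congr_hom {R T : Type u} [CommRing R] [CommRing T] (φ ψ : R →+* T) (hφ : φ = ψ)
    (d : ℕ) (h : @DRing.HasTorDimLE R _ d T _ φ.toAlgebra.toModule) :
    @DRing.HasTorDimLE R _ d T _ ψ.toAlgebra.toModule := by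
  subst hφ
  exact h

/-- tor dimension of `f` from that of `f ≫ q` -/
theorem hasTorDimLE_of_comp (f : X ⟶ Y) (q : Y ⟶ S) (n d : ℕ) (hq : ChartTorShift q n)
    (h : DerSch.HasTorDimLE (f ≫ q) d) : DerSch.HasTorDimLE f (d + n) := by
  rw [hasTorDimLE_iff] at h ⊢
  intro x
  letI : Algebra (Y.presheaf.stalk (f.base x)) (X.presheaf.stalk x) :=
    (f.stalkMap x).hom.toAlgebra
  obtain ⟨U, hU, V, hV, hy, e, hsm⟩ := hq (f x)
  refine hasTorDimLE_stalk_of_chart' q (f x) hU hV hy e n hsm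
    (ModuleCat.of (Y.presheaf.stalk (f.base x)) (X.presheaf.stalk x)) d ?_
  have h1 := h x
  have key : ((f ≫ q).stalkMap x).hom = (q.stalkMap (f x) ≫ f.stalkMap x).hom :=
    congrArg CommRingCat.Hom.hom (Scheme.Hom.stalkMap_comp f q x)
  exact hasTorDimLE_congr_hom _ _ key d h1

end Groth.Agent.Lib.T2H1.SmoothTorSch
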