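import Groth.Agent.Lib.T2H1PolyTorAmp
import Groth.Agent.Lib.T2H1SmoothTorSch2
import Groth.Agent.Lib.T2H1StalkTorAmp
import Groth.Agent.Lib.T2H1RelFlatAmp
import Groth.Agent.Lib.T2H1PushTorAmp
import Groth.Agent.Lib.T2H1PerfAmp
set_option backward.isDefEq.respectTransparency.types false

/-!
# Tor amplitude of complexes over a smooth scheme, at stalks (helper1, second team)

For `g : Y ⟶ S` with a standard smooth chart of relative dimension `n` at `y`, a complex of
`O_Y`-modules whose stalk at `y` has tor amplitude in `[a, b]` over `O_{S, g y}` has tor amplitude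
in `[a - n, b]` over `O_{Y, y}`.
-/

set_option autoImplicit false
set_option linter.style.haveILetI false
universe u
open CategoryTheory CategoryTheory.Limits AlgebraicGeometry

attribute [local instance] HasDerivedCategory.standard

namespace Groth.Agent.Lib.T2H1.SmoothTorAmpSch

open Groth.Agent.Lib.T2H1.PolyTorAmp Groth.Agent.Lib.T2H1.TorAmpBCSch
  Groth.Agent.Lib.T2H1.TorAmpBC Groth.Agent.Lib.Helper1.Tor Groth.Agent.Lib.Helper1.Sky
  Groth.Agent.Lib.Helper1.KBC Groth.Agent.Lib.Helper1.KF DTen DerivedCategory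
  Groth.Agent.Lib.T2H1.RelFlatAmp Groth.Agent.Lib.T2H1.StalkTorAmp

section Ring

variable {A B A' B' : Type u} [CommRing A] [CommRing B] [CommRing A'] [CommRing B']

/-- the version used at stalks: `A → A'` flat, `B → B'` without shift (weakly étale) -/
theorem hasTorAmp_of_torAmpShift_local (f : A →+* B) (α : A →+* A') (β : B →+* B')
    (f' : A' →+* B') (hsq : f'.comp α = β.comp f) (hα : α.Flat) (hβ : TorAmpShift β 0)
    (n : ℕ) (hf : TorAmpShift f n) (K : Cx B') (a b : ℤ)
    (h : DRing.HasTorAmplitudeIn A' a b (Q.obj ((resCx f').obj K))) :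
    DRing.HasTorAmplitudeIn B' (a - n) b (Q.obj K) := by
  have h1 : DRing.HasTorAmplitudeIn A a b (Q.obj ((resCx α).obj ((resCx f').obj K))) :=
    hasTorAmp_resCx_of_flat α hα _ a b h
  have h2 : DRing.HasTorAmplitudeIn A a b (Q.obj ((resCx (β.comp f)).obj K)) :=
    hasTorAmp_of_iso (Q.mapIso (resCompCx α f' (β.comp f) hsq.symm K)) h1
  have h3 := torAmpShift_comp f β (β.comp f) rfl n 0 hf hβ K a b h2
  simpa using h3

end Ring

section Chart

variable {Y S : Scheme.{u}}

/-- the germ map at a point of an affine open does not shift tor amplitude -/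
theorem torAmpShift_germ {V : Y.Opens} (hV : IsAffineOpen V) (y : Y) (hy : y ∈ V) :
    TorAmpShift (Y.presheaf.germ V y hy).hom 0 := by
  letI iBB' : Algebra Γ(Y, V) (Y.presheaf.stalk y) := Y.presheaf.algebra_section_stalk ⟨y, hy⟩
  haveI : Algebra.WeaklyEtale Γ(Y, V) (Y.presheaf.stalk y) := by
    haveI := hV.isLocalization_stalk ⟨y, hy⟩
    exact Groth.Agent.Lib.Helper14.WEField.weaklyEtale_of_isLocalization
      (hV.primeIdealOf ⟨y, hy⟩).asIdeal.primeCompl (Y.presheaf.stalk y)
  exact torAmpShift_of_weaklyEtale (A := Γ(Y, V)) (B := Y.presheaf.stalk y)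

/-- the stalk version, on a chart along which tor amplitude shifts by at most `n` -/
theorem hasTorAmp_stalkC_of_chart (g : Y ⟶ S) (y : Y) {U : S.Opens} (hU : IsAffineOpen U)
    {V : Y.Opens} (hV : IsAffineOpen V) (hy : y ∈ V) (e : V ≤ g ⁻¹ᵁ U) (n : ℕ)
    (hsm : TorAmpShift (g.appLE U V e).hom n) (K : Cx (Y.presheaf.stalk y)) (a b : ℤ)
    (h : DRing.HasTorAmplitudeIn (S.presheaf.stalk (g y)) a b
      (Q.obj ((resCx (g.stalkMap y).hom).obj K))) :
    DRing.HasTorAmplitudeIn (Y.presheaf.stalk y) (a - n) b (Q.obj K) := by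
  refine hasTorAmp_of_torAmpShift_local (g.appLE U V e).hom (S.presheaf.germ U (g y) (e hy)).hom
    (Y.presheaf.germ V y hy).hom (g.stalkMap y).hom ?_ (flat_germ hU (g y) (e hy))
    (torAmpShift_germ hV y hy) n hsm K a b h
  have h1 := germ_stalkMap_appLE g U V e y hy
  rw [← CommRingCat.hom_comp, ← CommRingCat.hom_comp, h1]

/-- around `y`, `q` has an affine chart along which tor amplitude shifts by at most `n` -/
def ChartTorAmpShiftAt (q : Y ⟶ S) (n : ℕ) (y : Y) : Prop :=
  ∃ (U : S.Opens) (_ : IsAffineOpen U) (V : Y.Opens) (_ : IsAffineOpen V) (_ : y ∈ V)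
    (e : V ≤ q ⁻¹ᵁ U), TorAmpShift (q.appLE U V e).hom n

/-- the chart at `y` also works at nearby points -/
theorem ChartTorAmpShiftAt.exists_nhds {q : Y ⟶ S} {n : ℕ} {y : Y}
    (h : ChartTorAmpShiftAt q n y) :
    ∃ V : Y.Opens, y ∈ V ∧ ∀ y' : Y, y' ∈ V → ChartTorAmpShiftAt q n y' := by
  obtain ⟨U, hU, V, hV, hy, e, hsm⟩ := h
  exact ⟨V, hy, fun y' hy' => ⟨U, hU, V, hV, hy', e, hsm⟩⟩

theorem chartTorAmpShiftAt_of_smoothOfRelativeDimension (q : Y ⟶ S) (n : ℕ)
    [SmoothOfRelativeDimension n q] (y : Y) : ChartTorAmpShiftAt q n y := by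
  obtain ⟨U, hU, V, hV, hy, e, hsm⟩ :=
    SmoothOfRelativeDimension.exists_isStandardSmoothOfRelativeDimension (n := n) (f := q) y
  refine ⟨U, hU, V, hV, hy, e, ?_⟩
  letI : Algebra Γ(S, U) Γ(Y, V) := (q.appLE U V e).hom.toAlgebra
  exact torAmpShift_of_isStandardSmooth n hsm

theorem exists_chartTorAmpShiftAt_of_smooth (q : Y ⟶ S) [Smooth q] (y : Y) :
    ∃ n : ℕ, ChartTorAmpShiftAt q n y := by
  obtain ⟨U, hU, V, hV, hy, e, hsm⟩ := Smooth.exists_isStandardSmooth q y
  obtain ⟨n, hn⟩ := Groth.Agent.Lib.T2H1.SmoothTorSch.exists_relDim_of_isStandardSmooth _ hsm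
  refine ⟨n, U, hU, V, hV, hy, e, ?_⟩
  letI : Algebra Γ(S, U) Γ(Y, V) := (q.appLE U V e).hom.toAlgebra
  exact torAmpShift_of_isStandardSmooth n hn

/-- pointwise: tor amplitude relative to `g` at `y` gives tor amplitude of the stalk complex over
`O_{Y, y}`, shifted by the relative dimension -/
theorem hasTorAmp_stalkC_of_hasTorAmplitudeAt (g : Y ⟶ S) (y : Y) (n : ℕ)
    (hq : ChartTorAmpShiftAt g n y) (G : CochainComplex Y.Modules ℤ) (a b : ℤ)
    (h : DerSch.HasTorAmplitudeAt g a b G y) :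
    DRing.HasTorAmplitudeIn (Ox y) (a - n) b (Q.obj ((stalkC y).obj G)) := by
  obtain ⟨U, hU, V, hV, hy, e, hsm⟩ := hq
  refine hasTorAmp_stalkC_of_chart g y hU hV hy e n hsm ((stalkC y).obj G) a b ?_
  exact hasTorAmp_of_iso (Q.mapIso (stalkCxOverIso g y G)) h

end Chart

section Restrict

open Groth.Agent.Lib.T2H1.TorAmpRestrict Groth.Agent.Lib.T2H2.TorAmpComp
  Groth.Agent.Lib.T2H1.LpullTorAmp Groth.Agent.Lib.T2H1.PerfAmp

variable {U X Y : Scheme.{u}} (j : U ⟶ X) [IsOpenImmersion j] (f : X ⟶ Y) (u : U)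

/-- pointwise: tor amplitude relative to `f` at `j u` restricts to the open subscheme -/
theorem hasTorAmplitudeAt_restrict (F : CochainComplex X.Modules ℤ) (a b : ℤ)
    (h : DerSch.HasTorAmplitudeAt f a b F (j u)) :
    DerSch.HasTorAmplitudeAt (j ≫ f) a b
      (((Scheme.Modules.restrictFunctor j).mapHomologicalComplex (ComplexShape.up ℤ)).obj F) u := by
  have h1 : DRing.HasTorAmplitudeIn (Y.presheaf.stalk ((j ≫ f).base u)) a b
      (Q.obj ((resCx (phi j f u)).obj
        (((DerSch.stalkFunctor X (j u)).mapHomologicalComplex (ComplexShape.up ℤ)).obj F))) :=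
    h
  refine hasTorAmp_of_iso ?_ h1
  exact Q.mapIso ((NatIso.mapHomologicalComplex (restrictStalkOverIso j f u)
    (ComplexShape.up ℤ)).app F).symm

/-- tor amplitude of the stalk of a restriction gives tor amplitude of the stalk -/
theorem hasTorAmp_stalkC_of_restrict (F : CochainComplex X.Modules ℤ) (a b : ℤ)
    (h : DRing.HasTorAmplitudeIn (Ox u) a b (Q.obj ((stalkC u).obj
      (((Scheme.Modules.restrictFunctor j).mapHomologicalComplex (ComplexShape.up ℤ)).obj F)))) :
    DRing.HasTorAmplitudeIn (Ox (j u)) a b (Q.obj ((stalkC (j u)).obj F)) := by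
  have h3 := hasTorAmplitudeIn_resCx_of_bijective (phiF j u)
    (ConcreteCategory.bijective_of_isIso (j.stalkMap u)) _ a b h
  refine hasTorAmp_of_iso ?_ h3
  exact Q.mapIso ((NatIso.mapHomologicalComplex (restrictStalkIso j u)
    (ComplexShape.up ℤ)).app F)

/-- tor amplitude of the stalk gives tor amplitude of the stalk of a restriction -/
theorem hasTorAmp_stalkC_restrict (F : CochainComplex X.Modules ℤ) (a b : ℤ)
    (h : DRing.HasTorAmplitudeIn (Ox (j u)) a b (Q.obj ((stalkC (j u)).obj F))) :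
    DRing.HasTorAmplitudeIn (Ox u) a b (Q.obj ((stalkC u).obj
      (((Scheme.Modules.restrictFunctor j).mapHomologicalComplex (ComplexShape.up ℤ)).obj F))) := by
  apply hasTorAmplitudeIn_of_bijective (phiF j u)
    (ConcreteCategory.bijective_of_isIso (j.stalkMap u))
  refine hasTorAmp_of_iso ?_ h
  exact Q.mapIso ((NatIso.mapHomologicalComplex (restrictStalkIso j u)
    (ComplexShape.up ℤ)).app F).symm

end Restrict

section Push

open Groth.Agent.Lib.T2H1.PushTorAmp Groth.Agent.Lib.T2H1.PushStalk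
  Groth.Agent.Lib.Helper1.StalkTensor Opposite

variable {X X' Y : Scheme.{u}} (i : X ⟶ X') (f' : X' ⟶ Y) (x : X)

/-- pointwise: tor amplitude of the direct image relative to `f'` is tor amplitude relative
to `i ≫ f'` -/
theorem hasTorAmplitudeAt_comp_iff_pushforward (hi : Topology.IsInducing i.base)
    (F : CochainComplex X.Modules ℤ) (a b : ℤ) :
    DerSch.HasTorAmplitudeAt (i ≫ f') a b F x ↔
      DerSch.HasTorAmplitudeAt f' a b
        (((Scheme.Modules.pushforward i).mapHomologicalComplex (ComplexShape.up ℤ)).obj F) (i x) := by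
  constructor
  · intro h
    have h' : DRing.HasTorAmplitudeIn (Y.presheaf.stalk ((i ≫ f').base x)) a b
        (DerivedCategory.Q.obj
          (((stalkOverPush i f' x).mapHomologicalComplex (ComplexShape.up ℤ)).obj F)) := by
      obtain ⟨E, hE, hEf, ⟨e⟩⟩ := h
      exact ⟨E, hE, hEf, ⟨e ≪≫ DerivedCategory.Q.mapIso
        ((NatIso.mapHomologicalComplex (stalkOverPushIso i f' x hi) (ComplexShape.up ℤ)).app F).symm⟩⟩
    exact h'
  · intro h
    have h' : DRing.HasTorAmplitudeIn (Y.presheaf.stalk ((i ≫ f').base x)) a b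
        (DerivedCategory.Q.obj
          (((stalkOverPush i f' x).mapHomologicalComplex (ComplexShape.up ℤ)).obj F)) := h
    obtain ⟨E, hE, hEf, ⟨e⟩⟩ := h'
    exact ⟨E, hE, hEf, ⟨e ≪≫ DerivedCategory.Q.mapIso
      ((NatIso.mapHomologicalComplex (stalkOverPushIso i f' x hi) (ComplexShape.up ℤ)).app F)⟩⟩

/-- the sections of a module over the empty open set vanish -/
theorem subsingleton_sections_of_eq_bot (M : X.Modules) (W : X.Opens) (hW : W = ⊥) :
    Subsingleton (M.presheaf.obj (op W)) := by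
  subst hW
  have hT : IsTerminal ((⟨M.presheaf, M.isSheaf⟩ : TopCat.Sheaf Ab X).obj.obj (op ⊥)) :=
    TopCat.Sheaf.isTerminalOfEmpty _
  have hz : IsZero (M.presheaf.obj (op ⊥)) :=
    (isZero_zero Ab).of_iso (hT.uniqueUpToIso (isZero_zero Ab).isTerminal)
  exact AddCommGrpCat.subsingleton_of_isZero hz

/-- the stalk of a direct image along a closed embedding vanishes outside the image -/
theorem isZero_stalkFun_pushforward_of_notMem_range (hc : IsClosed (Set.range i.base))
    (M : X.Modules) (y : X') (hy : y ∉ Set.range i.base) :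
    IsZero ((stalkFun y).obj ((Scheme.Modules.pushforward i).obj M)) := by
  haveI : Subsingleton ((stalkFun y).obj ((Scheme.Modules.pushforward i).obj M)) := by
    refine ⟨fun a a' => ?_⟩
    have key : ∀ c : St (toPM ((Scheme.Modules.pushforward i).obj M)) y, c = 0 := by
      intro c
      obtain ⟨V, hV, t, rfl⟩ := exists_gm_eq c
      let T : X'.Opens := ⟨(Set.range i.base)ᶜ, hc.isOpen_compl⟩
      let W : X'.Opens := V ⊓ T
      have hyW : y ∈ W := ⟨hV, hy⟩
      have hW : i ⁻¹ᵁ W = ⊥ := by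
        rw [eq_bot_iff]
        rintro z ⟨-, hz⟩
        exact (hz ⟨z, rfl⟩).elim
      haveI : Subsingleton ((toPM ((Scheme.Modules.pushforward i).obj M)).obj (op W)) :=
        subsingleton_sections_of_eq_bot M (i ⁻¹ᵁ W) hW
      rw [← gm_rs (homOfLE inf_le_left : W ⟶ V) hyW t,
        Subsingleton.elim (rs _ (homOfLE inf_le_left : W ⟶ V) t) 0, map_zero]
    exact (key a).trans (key a').symm
  exact ModuleCat.isZero_of_subsingleton _

end Push

section Main

open Groth.Agent.Lib.T2H1.PerfAmp Groth.Agent.Lib.T2H8.PerfLocal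

variable {X Y S : Scheme.{u}} (i : X ⟶ Y) [IsClosedImmersion i] (g : Y ⟶ S)

/-- the stalk complex of a direct image along a closed immersion is zero outside the image -/
theorem isZero_Q_stalkC_pushforward (F : CochainComplex X.Modules ℤ) (y : Y)
    (hy : y ∉ Set.range i.base) :
    IsZero (Q.obj ((stalkC y).obj
      (((Scheme.Modules.pushforward i).mapHomologicalComplex (ComplexShape.up ℤ)).obj F))) := by
  apply isZero_Q_of_exactAt
  intro j
  apply exactAt_of_isZero_X
  exact isZero_stalkFun_pushforward_of_notMem_range i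
    (IsClosedImmersion.isClosedEmbedding i).isClosed_range (F.X j) y hy

/-- stalkwise shift of tor amplitude for a direct image along a closed immersion into a scheme
with a chart at `y` -/
theorem hasTorAmp_stalkC_pushforward (F : CochainComplex X.Modules ℤ) (a b : ℤ) (y : Y) (n : ℕ)
    (hq : ChartTorAmpShiftAt g n y)
    (h : ∀ x : X, i x = y → DerSch.HasTorAmplitudeAt (i ≫ g) a b F x) :
    DRing.HasTorAmplitudeIn (Ox y) (a - n) b (Q.obj ((stalkC y).obj
      (((Scheme.Modules.pushforward i).mapHomologicalComplex (ComplexShape.up ℤ)).obj F))) := by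
  by_cases hy : y ∈ Set.range i.base
  · obtain ⟨x, rfl⟩ := hy
    exact hasTorAmp_stalkC_of_hasTorAmplitudeAt g (i x) n hq _ a b
      ((hasTorAmplitudeAt_comp_iff_pushforward i g x
        (IsClosedImmersion.isClosedEmbedding i).isInducing F a b).1 (h x rfl))
  · exact hasTorAmp_of_isZero _ (isZero_Q_stalkC_pushforward i F y hy) _ _

/-- the same, with a chart for the restriction of `g` to an open neighbourhood -/
theorem hasTorAmp_stalkC_pushforward_of_open (F : CochainComplex X.Modules ℤ) (a b : ℤ)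
    (V : Y.Opens) (u : V) (n : ℕ) (hq : ChartTorAmpShiftAt (V.ι ≫ g) n u)
    (h : ∀ x : X, i x = V.ι u → DerSch.HasTorAmplitudeAt (i ≫ g) a b F x) :
    DRing.HasTorAmplitudeIn (Ox (V.ι u)) (a - n) b (Q.obj ((stalkC (V.ι u)).obj
      (((Scheme.Modules.pushforward i).mapHomologicalComplex (ComplexShape.up ℤ)).obj F))) := by
  by_cases hy : V.ι u ∈ Set.range i.base
  · obtain ⟨x, hx⟩ := hy
    have h1 : DerSch.HasTorAmplitudeAt g a b
        (((Scheme.Modules.pushforward i).mapHomologicalComplex (ComplexShape.up ℤ)).obj F)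
        (V.ι u) := by
      have := (hasTorAmplitudeAt_comp_iff_pushforward i g x
        (IsClosedImmersion.isClosedEmbedding i).isInducing F a b).1 (h x hx)
      rw [← hx]
      exact this
    have h2 := hasTorAmplitudeAt_restrict V.ι g u _ a b h1
    have h3 := hasTorAmp_stalkC_of_hasTorAmplitudeAt (V.ι ≫ g) u n hq _ a b h2
    exact hasTorAmp_stalkC_of_restrict V.ι u _ (a - n) b h3
  · exact hasTorAmp_of_isZero _ (isZero_Q_stalkC_pushforward i F _ hy) _ _

/-- **absolute flat amplitude of a direct image** along a closed immersion into a scheme smooth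
of relative dimension `≤ d` over the base -/
theorem hasFlatAmplitudeIn_pushforward (d : ℕ)
    (hd : ∀ y : Y, ∃ (n : ℕ) (V : Y.Opens), n ≤ d ∧ y ∈ V ∧
      SmoothOfRelativeDimension n (V.ι ≫ g))
    (a b : ℤ) (F : CochainComplex X.Modules ℤ) (hF : DerSch.HasTorAmplitude (i ≫ g) a b F) :
    DCoh.HasFlatAmplitudeIn (a - d) b (DCoh.toD Y
      (((Scheme.Modules.pushforward i).mapHomologicalComplex (ComplexShape.up ℤ)).obj F)) := by
  apply hasFlatAmplitudeIn_of_hasTorAmplitude_id
  apply hasTorAmplitude_id_of_stalkC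
  intro y
  obtain ⟨n, V, hn, hy, hsm⟩ := hd y
  have h1 := hasTorAmp_stalkC_pushforward_of_open i g F a b V ⟨y, hy⟩ n
    (chartTorAmpShiftAt_of_smoothOfRelativeDimension _ n _) (fun x _ => hF x)
  exact hasTorAmp_mono (by omega) le_rfl h1

theorem isFinLocFree_of_isZero {M : X.Modules} (h : IsZero M) : FlatMod.IsFinLocFree M := by
  intro x
  refine ⟨⊤, 0, trivial, ⟨IsZero.iso ?_ ?_⟩⟩
  · exact (Scheme.Modules.restrictFunctor (⊤ : X.Opens).ι).map_isZero h
  · exact (IsZero.iff_id_eq_zero _).2 (Sigma.hom_ext _ _ (fun i => i.elim0))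

/-- `(m-1)`-pseudo-coherent with flat amplitude in `[m, n]` implies perfect amplitude in
`[m, n]`, without assuming `m ≤ n` -/
theorem hasPerfectAmplitudeIn_of_pc_of_flatAmplitude' (E : DCoh.D X) (m n : ℤ)
    (h2 : DCoh.IsPseudoCoherentD (m - 1) E) (h1 : DCoh.HasFlatAmplitudeIn m n E) :
    KSix.HasPerfectAmplitudeIn m n E := by
  by_cases hmn : m ≤ n
  · exact hasPerfectAmplitudeIn_of_pc_of_flatAmplitude E m n hmn h2 h1
  · obtain ⟨E', hE', -, ⟨e'⟩⟩ := h1
    intro x
    refine ⟨⊤, trivial, fun F ⟨eF⟩ => ⟨(DCoh.restrictCx ⊤).obj E', ?_, ?_, ⟨?_⟩⟩⟩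
    · intro q hq
      exact (Scheme.Modules.restrictFunctor (⊤ : X.Opens).ι).map_isZero (hE' q hq)
    · intro q
      exact isFinLocFree_of_isZero
        ((Scheme.Modules.restrictFunctor (⊤ : X.Opens).ι).map_isZero (hE' q (by omega)))
    · exact ((Scheme.Modules.restrictFunctor (⊤ : X.Opens).ι).mapDerivedCategoryFactors.app F).symm ≪≫
        (rD (⊤ : X.Opens).ι).mapIso (eF ≪≫ e'.symm) ≪≫
        (Scheme.Modules.restrictFunctor (⊤ : X.Opens).ι).mapDerivedCategoryFactors.app E'

end Main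

end Groth.Agent.Lib.T2H1.SmoothTorAmpSch
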