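import Mathlib
import Groth.Prelude.Def_DerSch
import Groth.Prelude.Def_DDual2
import Groth.Prelude.Def_DCoh3
import Groth.Agent.Lib.T2H1TorAmpBC
import Groth.Agent.Lib.T2H1RelPerfTri
import Groth.Agent.Lib.T2H1LpullTorAmp
set_option backward.isDefEq.respectTransparency.types false

/-!
# Base change of tor amplitude relative to a morphism of schemes (helper1, second team)

For a cartesian square `X' = X ×_Y Y'` with projections `g : X' ⟶ X`, `f' : X' ⟶ Y'`, the local
ring of `X'` at `x'` is flat over `O_{Y', f' x'} ⊗ O_{X, g x'}` (tensor product over the sections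
of `Y` on an affine chart), and tor amplitude over the base is preserved by `Lg^*` when `f` or
`h` is flat.
-/

set_option autoImplicit false
set_option linter.style.haveILetI false
universe u
open CategoryTheory CategoryTheory.Limits AlgebraicGeometry HomologicalComplex MonoidalCategory
  TensorProduct

attribute [local instance] HasDerivedCategory.standard

namespace Groth.Agent.Lib.T2H1.TorAmpBCSch

open Groth.Agent.Lib.T2H1.TorAmpBC Groth.Agent.Lib.Helper1.RelBC

section Germ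

variable {X Y : Scheme.{u}}

/-- stalk maps and germs, for a pair of opens -/
theorem germ_stalkMap_appLE (f : X ⟶ Y) (U : Y.Opens) (V : X.Opens) (e : V ≤ f ⁻¹ᵁ U) (x : X)
    (hx : x ∈ V) :
    Y.presheaf.germ U (f x) (e hx) ≫ f.stalkMap x = f.appLE U V e ≫ X.presheaf.germ V x hx := by
  rw [Scheme.Hom.germ_stalkMap, Scheme.Hom.appLE, Category.assoc, X.presheaf.germ_res]

/-- the germ map from the sections on an affine open is flat -/
theorem flat_germ {U : X.Opens} (hU : IsAffineOpen U) (x : X) (hx : x ∈ U) :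
    (X.presheaf.germ U x hx).hom.Flat := by
  letI := X.presheaf.algebra_section_stalk ⟨x, hx⟩
  haveI := hU.isLocalization_stalk ⟨x, hx⟩
  exact IsLocalization.flat (X.presheaf.stalk x) (hU.primeIdealOf ⟨x, hx⟩).asIdeal.primeCompl

end Germ

section Chart

variable {X Y Y' : Scheme.{u}} (f : X ⟶ Y) (h : Y' ⟶ Y)

set_option maxHeartbeats 1600000 in
/-- chart data at a point of the fibre product: rings of sections `R`, `R'` of `Y`, `Y'` on affine
charts, with flat localization maps to the local rings, and a flat comparison map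
`R' ⊗_R O_{X, g x'} ⟶ O_{X', x'}`. -/
theorem exists_chart_data (x' : ↥(pullback f h)) :
    ∃ (R R' : Type u) (_ : CommRing R) (_ : CommRing R') (_ : Algebra R R')
      (_ : Algebra R (X.presheaf.stalk ((pullback.fst f h) x')))
      (σ : R →+* Y.presheaf.stalk (f ((pullback.fst f h) x')))
      (σ' : R' →+* Y'.presheaf.stalk ((pullback.snd f h) x'))
      (δ : R' ⊗[R] X.presheaf.stalk ((pullback.fst f h) x') →+* (pullback f h).presheaf.stalk x'),
      algebraMap R (X.presheaf.stalk ((pullback.fst f h) x')) =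
        (f.stalkMap ((pullback.fst f h) x')).hom.comp σ ∧
      δ.comp (algebraMap R' (R' ⊗[R] X.presheaf.stalk ((pullback.fst f h) x'))) =
        ((pullback.snd f h).stalkMap x').hom.comp σ' ∧
      δ.comp (inr R R' (X.presheaf.stalk ((pullback.fst f h) x'))) =
        ((pullback.fst f h).stalkMap x').hom ∧
      σ.Flat ∧ σ'.Flat ∧
      (∀ N' : ModuleCat.{u} (Y'.presheaf.stalk ((pullback.snd f h) x')),
        Nonempty ((ModuleCat.extendScalars.{u, u, u} σ').obj
          ((ModuleCat.restrictScalars.{u} σ').obj N') ≅ N')) ∧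
      δ.Flat ∧ (Flat f → Module.Flat R (X.presheaf.stalk ((pullback.fst f h) x'))) ∧
      (Flat h → Module.Flat R R') := by
  have hxy : f ((pullback.fst f h) x') = h ((pullback.snd f h) x') := by
    rw [← Scheme.Hom.comp_apply, ← Scheme.Hom.comp_apply, pullback.condition]
  obtain ⟨_, ⟨W, hW, rfl⟩, hxW, -⟩ := Y.isBasis_affineOpens.exists_subset_of_mem_open
    (Set.mem_univ (f ((pullback.fst f h) x'))) isOpen_univ
  obtain ⟨_, ⟨V, hV, rfl⟩, hxV, hVW⟩ := X.isBasis_affineOpens.exists_subset_of_mem_open hxW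
    (W.2.preimage f.continuous)
  have hyW : (pullback.snd f h) x' ∈ h ⁻¹ᵁ W := by
    change h ((pullback.snd f h) x') ∈ W
    rw [← hxy]; exact hxW
  obtain ⟨_, ⟨W', hW', rfl⟩, hyW', hW'W⟩ := Y'.isBasis_affineOpens.exists_subset_of_mem_open hyW
    (W.2.preimage h.continuous)
  -- the affine open of the fibre product
  have hxU' : x' ∈ (pullback.fst f h) ⁻¹ᵁ V ⊓ (pullback.snd f h) ⁻¹ᵁ W' := ⟨hxV, hyW'⟩
  have H : IsPullback (pullback.fst f h) (pullback.snd f h) f h := IsPullback.of_hasPullback f h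
  have hU' : IsAffineOpen ((pullback.fst f h) ⁻¹ᵁ V ⊓ (pullback.snd f h) ⁻¹ᵁ W') := by
    haveI : IsAffine (W : Scheme.{u}) := hW
    haveI : IsAffine (W' : Scheme.{u}) := hW'
    haveI : IsAffine (V : Scheme.{u}) := hV
    exact .of_isIso (Scheme.Hom.isPullback_resLE H hW'W hVW rfl).isoPullback.hom
  have hiso := isIso_pushoutSection_of_isAffineOpen H hW'W hVW
    (rfl : (pullback.fst f h) ⁻¹ᵁ V ⊓ (pullback.snd f h) ⁻¹ᵁ W' = _) hW hW' hV
  have hPO := (isIso_pushoutSection_iff H hW'W hVW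
    (rfl : (pullback.fst f h) ⁻¹ᵁ V ⊓ (pullback.snd f h) ⁻¹ᵁ W' = _)).mp hiso
  -- the rings
  letI algRR' : Algebra Γ(Y, W) Γ(Y', W') := (h.appLE W W' hW'W).hom.toAlgebra
  letI algRS : Algebra Γ(Y, W) Γ(X, V) := (f.appLE W V hVW).hom.toAlgebra
  let σ : Γ(Y, W) →+* Y.presheaf.stalk (f ((pullback.fst f h) x')) :=
    (Y.presheaf.germ W (f ((pullback.fst f h) x')) hxW).hom
  let σ' : Γ(Y', W') →+* Y'.presheaf.stalk ((pullback.snd f h) x') :=
    (Y'.presheaf.germ W' ((pullback.snd f h) x') hyW').hom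
  letI algRB : Algebra Γ(Y, W) (X.presheaf.stalk ((pullback.fst f h) x')) :=
    ((f.stalkMap ((pullback.fst f h) x')).hom.comp σ).toAlgebra
  let e : Γ(Y', W') ⊗[Γ(Y, W)] Γ(X, V) ≃+*
      Γ(pullback f h, (pullback.fst f h) ⁻¹ᵁ V ⊓ (pullback.snd f h) ⁻¹ᵁ W') :=
    ((CommRingCat.isPushout_tensorProduct Γ(Y, W) Γ(Y', W') Γ(X, V)).isoIsPushout _ _
      hPO.flip).commRingCatIsoToRingEquiv
  have he₁ : ∀ r' : Γ(Y', W'), e (r' ⊗ₜ 1) =
      ((pullback.snd f h).appLE W' ((pullback.fst f h) ⁻¹ᵁ V ⊓ (pullback.snd f h) ⁻¹ᵁ W')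
        (by simp)).hom r' := by
    intro r'
    exact congr($((CommRingCat.isPushout_tensorProduct Γ(Y, W) Γ(Y', W')
      Γ(X, V)).inl_isoIsPushout_hom _ _ hPO.flip).hom r')
  have he₂ : ∀ s : Γ(X, V), e (1 ⊗ₜ s) =
      ((pullback.fst f h).appLE V ((pullback.fst f h) ⁻¹ᵁ V ⊓ (pullback.snd f h) ⁻¹ᵁ W')
        (by simp)).hom s := by
    intro s
    exact congr($((CommRingCat.isPushout_tensorProduct Γ(Y, W) Γ(Y', W')
      Γ(X, V)).inr_isoIsPushout_hom _ _ hPO.flip).hom s)
  have hSB : algebraMap Γ(Y, W) (X.presheaf.stalk ((pullback.fst f h) x')) =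
      (X.presheaf.germ V ((pullback.fst f h) x') hxV).hom.comp
        (algebraMap Γ(Y, W) Γ(X, V)) :=
    congrArg CommRingCat.Hom.hom (germ_stalkMap_appLE f W V hVW ((pullback.fst f h) x') hxV)
  have hγ : ((pullback.fst f h).stalkMap x').hom.comp
      (X.presheaf.germ V ((pullback.fst f h) x') hxV).hom =
      ((pullback f h).presheaf.germ _ x' hxU').hom.comp
        ((pullback.fst f h).appLE V ((pullback.fst f h) ⁻¹ᵁ V ⊓ (pullback.snd f h) ⁻¹ᵁ W')
          (by simp)).hom :=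
    congrArg CommRingCat.Hom.hom (germ_stalkMap_appLE (pullback.fst f h) V _ (by simp) x' hxU')
  have hρ : ((pullback.snd f h).stalkMap x').hom.comp σ' =
      ((pullback f h).presheaf.germ _ x' hxU').hom.comp
        ((pullback.snd f h).appLE W' ((pullback.fst f h) ⁻¹ᵁ V ⊓ (pullback.snd f h) ⁻¹ᵁ W')
          (by simp)).hom :=
    congrArg CommRingCat.Hom.hom (germ_stalkMap_appLE (pullback.snd f h) W' _ (by simp) x' hxU')
  obtain ⟨δ, hδ₁, hδ₂, hδ⟩ := exists_flat_delta
    (R := Γ(Y, W)) (R' := Γ(Y', W')) (S := Γ(X, V))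
    ((pullback.snd f h).appLE W' ((pullback.fst f h) ⁻¹ᵁ V ⊓ (pullback.snd f h) ⁻¹ᵁ W')
      (by simp)).hom
    ((pullback.fst f h).appLE V ((pullback.fst f h) ⁻¹ᵁ V ⊓ (pullback.snd f h) ⁻¹ᵁ W')
      (by simp)).hom
    (X.presheaf.germ V ((pullback.fst f h) x') hxV).hom
    ((pullback f h).presheaf.germ _ x' hxU').hom
    ((pullback.fst f h).stalkMap x').hom
    (((pullback.snd f h).stalkMap x').hom.comp σ')
    e he₁ he₂ hSB (hV.primeIdealOf ⟨(pullback.fst f h) x', hxV⟩).asIdeal.primeCompl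
    (hV.isLocalization_stalk ⟨(pullback.fst f h) x', hxV⟩)
    (flat_germ hU' x' hxU') hγ hρ
  have hσ : σ.Flat := flat_germ hW _ hxW
  have hσ' : σ'.Flat := flat_germ hW' _ hyW'
  refine ⟨Γ(Y, W), Γ(Y', W'), inferInstance, inferInstance, algRR', algRB, σ, σ', δ, rfl, hδ₁,
    hδ₂, hσ, hσ', fun N' => ?_, hδ, fun hf => ?_, fun hh => ?_⟩
  · exact Groth.Agent.Lib.T2H1.TorAmpQCoh.nonempty_extendScalars_restrictScalars_iso σ'
      (hW'.primeIdealOf ⟨(pullback.snd f h) x', hyW'⟩).asIdeal.primeCompl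
      (hW'.isLocalization_stalk ⟨(pullback.snd f h) x', hyW'⟩) N'
  · exact RingHom.Flat.comp hσ (Flat.stalkMap f ((pullback.fst f h) x'))
  · exact Scheme.Hom.flat_appLE h hW hW' hW'W

end Chart

section Main

open Groth.Agent.Lib.Helper1.KF Groth.Agent.Lib.Helper1.DT DerivedCategory DTen
  Groth.Agent.Lib.Helper1.Sky Groth.Agent.Lib.Helper1.KBC Groth.Agent.Lib.Helper1.BKF
  Groth.Agent.Lib.T2H1.StalkTorAmp Groth.Agent.Lib.T2H1.RelPerfTri

variable {X X' Y Y' : Scheme.{u}}

/-- the stalk over a base of a pulled back module -/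
noncomputable def stalkOverPullbackIso' (g : X' ⟶ X) (f' : X' ⟶ Y') (x' : X') :
    Scheme.Modules.pullback g ⋙ DerSch.stalkOver f' x' ≅
      (stalkFun (g x') ⋙ ModuleCat.extendScalars.{u, u, u} (g.stalkMap x').hom) ⋙
        ModuleCat.restrictScalars.{u} (f'.stalkMap x').hom :=
  (Functor.associator _ _ _).symm ≪≫
    Functor.isoWhiskerRight (Functor.isoWhiskerLeft _ (stalkFunctorIso x') ≪≫
      stalkPullbackIso g x') _

variable (f : X ⟶ Y) (h : Y' ⟶ Y)

/-- base change of tor amplitude at a point, for a flat morphism `f` -/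
theorem tAat_Lpull_baseChange_of_flat_left [Flat f] [DCoh.HasLpull (pullback.fst f h)]
    (E : DCoh.D X) (a b : ℤ) (x' : ↥(pullback f h))
    (hE : TAat f a b E ((pullback.fst f h) x')) :
    TAat (pullback.snd f h) a b ((DCoh.Lpull (pullback.fst f h)).obj E) x' := by
  let F₀ : CochainComplex X.Modules ℤ := (Q : _ ⥤ DCoh.D X).objPreimage E
  have e₀ : DCoh.toD X F₀ ≅ E := (Q : _ ⥤ DCoh.D X).objObjPreimageIso E
  obtain ⟨P, q, hP, -, hq, -⟩ : ∃ (P : CochainComplex X.Modules ℤ) (q : P ⟶ F₀),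
      DCoh.IsKFlat P ∧ (∀ n : ℤ, ModSite.IsFlat (O := X.sheaf) (P.X n)) ∧ QuasiIso q ∧
        ∀ n : ℤ, Epi (q.f n) := exists_kflat_flat_resolution X.sheaf F₀
  haveI hqi : IsIso (DerivedCategory.Q.map q) := by
    rw [DerivedCategory.isIso_Q_map_iff_quasiIso]; exact hq
  have eP : DCoh.toD X P ≅ E := asIso (DerivedCategory.Q.map q) ≪≫ e₀
  have e1 : (DCoh.Lpull (pullback.fst f h)).obj E ≅
      DCoh.toD (pullback f h) ((pullC (pullback.fst f h)).obj P) :=
    (DCoh.Lpull (pullback.fst f h)).mapIso eP.symm ≪≫ lpullIsoK (pullback.fst f h) P hP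
  refine TAat.of_iso (pullback.snd f h) e1.symm
    ((tAat_toD_iff (pullback.snd f h) a b _ x').2 ?_)
  have hK : KFlat ((stalkC ((pullback.fst f h) x')).obj P) :=
    fun L hL => rKFlat_stalk_of_isKFlat ((pullback.fst f h) x') P hP L hL
  have h2 : DerSch.HasTorAmplitudeAt f a b P ((pullback.fst f h) x') :=
    (tAat_toD_iff f a b P _).1 (TAat.of_iso f eP.symm hE)
  have h2' : DRing.HasTorAmplitudeIn (Y.presheaf.stalk (f.base ((pullback.fst f h) x'))) a b
      (Q.obj ((resCx (f.stalkMap ((pullback.fst f h) x')).hom).obj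
        (((DerSch.stalkFunctor X ((pullback.fst f h) x')).mapHomologicalComplex
          (ComplexShape.up ℤ)).obj P))) := h2
  have hKA : DRing.HasTorAmplitudeIn (Y.presheaf.stalk (f.base ((pullback.fst f h) x'))) a b
      (Q.obj ((resCx (f.stalkMap ((pullback.fst f h) x')).hom).obj
        ((stalkC ((pullback.fst f h) x')).obj P))) :=
    Groth.Agent.Lib.Helper1.Tor.hasTorAmp_of_iso
      (Q.mapIso ((resCx (f.stalkMap ((pullback.fst f h) x')).hom).mapIso
        ((NatIso.mapHomologicalComplex (stalkFunctorIso ((pullback.fst f h) x'))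
          (ComplexShape.up ℤ)).app P))) h2'
  obtain ⟨R, R', iR, iR', iRR', iRB, σ, σ', δ, hRB, hδ₁, hδ₂, hσ, hσ', hloc', hδ, hflatf, -⟩ :=
    exists_chart_data f h x'
  haveI : Module.Flat R (X.presheaf.stalk ((pullback.fst f h) x')) := hflatf inferInstance
  have h3 := hasTorAmp_baseChange_of_flat_left σ σ' (f.stalkMap ((pullback.fst f h) x')).hom
    ((pullback.snd f h).stalkMap x').hom ((pullback.fst f h).stalkMap x').hom δ hRB hδ₁ hδ₂
    hσ hσ' hloc' hδ ((stalkC ((pullback.fst f h) x')).obj P) hK a b hKA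
  refine Groth.Agent.Lib.Helper1.Tor.hasTorAmp_of_iso ?_ h3
  exact Q.mapIso ((NatIso.mapHomologicalComplex
    (stalkOverPullbackIso' (pullback.fst f h) (pullback.snd f h) x')
    (ComplexShape.up ℤ)).app P).symm

/-- base change of tor amplitude at a point, for a flat base change `h` -/
theorem tAat_Lpull_baseChange_of_flat_right [Flat h] [DCoh.HasLpull (pullback.fst f h)]
    (E : DCoh.D X) (a b : ℤ) (x' : ↥(pullback f h))
    (hE : TAat f a b E ((pullback.fst f h) x')) :
    TAat (pullback.snd f h) a b ((DCoh.Lpull (pullback.fst f h)).obj E) x' := by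
  let F₀ : CochainComplex X.Modules ℤ := (Q : _ ⥤ DCoh.D X).objPreimage E
  have e₀ : DCoh.toD X F₀ ≅ E := (Q : _ ⥤ DCoh.D X).objObjPreimageIso E
  obtain ⟨P, q, hP, -, hq, -⟩ : ∃ (P : CochainComplex X.Modules ℤ) (q : P ⟶ F₀),
      DCoh.IsKFlat P ∧ (∀ n : ℤ, ModSite.IsFlat (O := X.sheaf) (P.X n)) ∧ QuasiIso q ∧
        ∀ n : ℤ, Epi (q.f n) := exists_kflat_flat_resolution X.sheaf F₀
  haveI hqi : IsIso (DerivedCategory.Q.map q) := by
    rw [DerivedCategory.isIso_Q_map_iff_quasiIso]; exact hq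
  have eP : DCoh.toD X P ≅ E := asIso (DerivedCategory.Q.map q) ≪≫ e₀
  have e1 : (DCoh.Lpull (pullback.fst f h)).obj E ≅
      DCoh.toD (pullback f h) ((pullC (pullback.fst f h)).obj P) :=
    (DCoh.Lpull (pullback.fst f h)).mapIso eP.symm ≪≫ lpullIsoK (pullback.fst f h) P hP
  refine TAat.of_iso (pullback.snd f h) e1.symm
    ((tAat_toD_iff (pullback.snd f h) a b _ x').2 ?_)
  have hK : KFlat ((stalkC ((pullback.fst f h) x')).obj P) :=
    fun L hL => rKFlat_stalk_of_isKFlat ((pullback.fst f h) x') P hP L hL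
  have h2 : DerSch.HasTorAmplitudeAt f a b P ((pullback.fst f h) x') :=
    (tAat_toD_iff f a b P _).1 (TAat.of_iso f eP.symm hE)
  have h2' : DRing.HasTorAmplitudeIn (Y.presheaf.stalk (f.base ((pullback.fst f h) x'))) a b
      (Q.obj ((resCx (f.stalkMap ((pullback.fst f h) x')).hom).obj
        (((DerSch.stalkFunctor X ((pullback.fst f h) x')).mapHomologicalComplex
          (ComplexShape.up ℤ)).obj P))) := h2
  have hKA : DRing.HasTorAmplitudeIn (Y.presheaf.stalk (f.base ((pullback.fst f h) x'))) a b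
      (Q.obj ((resCx (f.stalkMap ((pullback.fst f h) x')).hom).obj
        ((stalkC ((pullback.fst f h) x')).obj P))) :=
    Groth.Agent.Lib.Helper1.Tor.hasTorAmp_of_iso
      (Q.mapIso ((resCx (f.stalkMap ((pullback.fst f h) x')).hom).mapIso
        ((NatIso.mapHomologicalComplex (stalkFunctorIso ((pullback.fst f h) x'))
          (ComplexShape.up ℤ)).app P))) h2'
  obtain ⟨R, R', iR, iR', iRR', iRB, σ, σ', δ, hRB, hδ₁, hδ₂, hσ, hσ', hloc', hδ, -, hflath⟩ :=
    exists_chart_data f h x'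
  haveI : Module.Flat R R' := hflath inferInstance
  have h3 := hasTorAmp_baseChange_of_flat_right σ σ' (f.stalkMap ((pullback.fst f h) x')).hom
    ((pullback.snd f h).stalkMap x').hom ((pullback.fst f h).stalkMap x').hom δ hRB hδ₁ hδ₂
    hσ hσ' hloc' hδ ((stalkC ((pullback.fst f h) x')).obj P) a b hKA
  refine Groth.Agent.Lib.Helper1.Tor.hasTorAmp_of_iso ?_ h3
  exact Q.mapIso ((NatIso.mapHomologicalComplex
    (stalkOverPullbackIso' (pullback.fst f h) (pullback.snd f h) x')
    (ComplexShape.up ℤ)).app P).symm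

end Main

end Groth.Agent.Lib.T2H1.TorAmpBCSch
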