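import Groth.Agent.Lib.T2H1SmoothTor
import Groth.Agent.Lib.T2H1TorAmpBCSch
import Groth.Agent.Lib.T2H2TorAmpComp
import Groth.Agent.Lib.Helper23UnitStalk
import Groth.Agent.Lib.T2H7FtdOpen

/-!
# Tor dimension over a smooth scheme, at stalks (T2H1)

For `g : Y ⟶ S` smooth of relative dimension `n` at `y` (given by a standard smooth chart), a
module over `O_{Y, y}` of tor dimension `≤ d` over `O_{S, g y}` has tor dimension `≤ d + n` over
`O_{Y, y}`.
-/

set_option autoImplicit false
set_option linter.style.haveILetI false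
universe u
open CategoryTheory CategoryTheory.Limits AlgebraicGeometry

attribute [local instance] HasDerivedCategory.standard

namespace Groth.Agent.Lib.T2H1.SmoothTorSch

open Groth.Agent.Lib.T2H1.SmoothTor Groth.Agent.Lib.T2H1.TorAmpBCSch

variable {Y S : Scheme.{u}}

/-- the stalk version, on a standard smooth chart -/
theorem hasTorDimLE_stalk_of_chart (g : Y ⟶ S) (y : Y) {U : S.Opens} (hU : IsAffineOpen U)
    {V : Y.Opens} (hV : IsAffineOpen V) (hy : y ∈ V) (e : V ≤ g ⁻¹ᵁ U) (n : ℕ)
    (hsm : (g.appLE U V e).hom.IsStandardSmoothOfRelativeDimension n)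
    (N : ModuleCat.{u} (Y.presheaf.stalk y)) (d : ℕ)
    (h : DRing.HasTorDimLE (S.presheaf.stalk (g y)) d
      ((ModuleCat.restrictScalars (g.stalkMap y).hom).obj N)) :
    DRing.HasTorDimLE (Y.presheaf.stalk y) (d + n) N := by
  letI iAB : Algebra Γ(S, U) Γ(Y, V) := (g.appLE U V e).hom.toAlgebra
  letI iAA' : Algebra Γ(S, U) (S.presheaf.stalk (g y)) :=
    S.presheaf.algebra_section_stalk ⟨g y, e hy⟩
  letI iBB' : Algebra Γ(Y, V) (Y.presheaf.stalk y) := Y.presheaf.algebra_section_stalk ⟨y, hy⟩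
  letI iA'B' : Algebra (S.presheaf.stalk (g y)) (Y.presheaf.stalk y) :=
    (g.stalkMap y).hom.toAlgebra
  letI iAB' : Algebra Γ(S, U) (Y.presheaf.stalk y) :=
    ((algebraMap Γ(Y, V) (Y.presheaf.stalk y)).comp (algebraMap Γ(S, U) Γ(Y, V))).toAlgebra
  haveI : IsScalarTower Γ(S, U) Γ(Y, V) (Y.presheaf.stalk y) :=
    IsScalarTower.of_algebraMap_eq (fun _ => rfl)
  haveI : IsScalarTower Γ(S, U) (S.presheaf.stalk (g y)) (Y.presheaf.stalk y) := by
    refine IsScalarTower.of_algebraMap_eq (fun a => ?_)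
    have h1 := germ_stalkMap_appLE g U V e y hy
    exact (congrArg (fun φ => φ.hom a) h1).symm
  haveI : Module.Flat Γ(S, U) (S.presheaf.stalk (g y)) := flat_germ hU (g y) (e hy)
  haveI : Algebra.WeaklyEtale Γ(Y, V) (Y.presheaf.stalk y) := by
    haveI := hV.isLocalization_stalk ⟨y, hy⟩
    exact Groth.Agent.Lib.Helper14.WEField.weaklyEtale_of_isLocalization
      (hV.primeIdealOf ⟨y, hy⟩).asIdeal.primeCompl (Y.presheaf.stalk y)
  letI : Module (S.presheaf.stalk (g y)) N := Module.compHom N (g.stalkMap y).hom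
  haveI : IsScalarTower (S.presheaf.stalk (g y)) (Y.presheaf.stalk y) N :=
    IsScalarTower.of_algebraMap_smul (fun _ _ => rfl)
  exact hasTorDimLE_of_isStandardSmooth_local (A := Γ(S, U)) (B := Γ(Y, V))
    (A' := S.presheaf.stalk (g y)) (B' := Y.presheaf.stalk y) n hsm N d h

section Unit

variable {X : Scheme.{u}}

/-- the stalk of the unit complex over the base local ring is `O_{X, x}` in degree `0` -/
noncomputable def unitStalkIso (f : X ⟶ Y) (x : X) :
    letI : Algebra (Y.presheaf.stalk (f.base x)) (X.presheaf.stalk x) :=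
      (f.stalkMap x).hom.toAlgebra
    DRing.toD ((DerSch.stalkCxOver f x).obj (DerSch.unitCx X)) ≅
      Dual.inD (Y.presheaf.stalk (f.base x)) (X.presheaf.stalk x) := by
  letI : Algebra (Y.presheaf.stalk (f.base x)) (X.presheaf.stalk x) :=
    (f.stalkMap x).hom.toAlgebra
  let e1 : (DerSch.stalkCxOver f x).obj (DerSch.unitCx X) ≅
      (HomologicalComplex.single _ (ComplexShape.up ℤ) 0).obj
        ((DerSch.stalkOver f x).obj (Coh.structureModule X)) :=
    (HomologicalComplex.singleMapHomologicalComplex (DerSch.stalkOver f x) (ComplexShape.up ℤ) 0).app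
      (Coh.structureModule X)
  let e2 : (DerSch.stalkOver f x).obj (Coh.structureModule X) ≅
      ModuleCat.of (Y.presheaf.stalk (f.base x)) (X.presheaf.stalk x) :=
    (LinearEquiv.toModuleIso
      (X₁ := ModuleCat.of (Y.presheaf.stalk (f.base x)) (X.presheaf.stalk x))
      (X₂ := (DerSch.stalkOver f x).obj (Coh.structureModule X))
      { toFun := fun b => Groth.Agent.Lib.Helper23.UnitStalk.unitStalkEquiv x b
        invFun := fun m => (Groth.Agent.Lib.Helper23.UnitStalk.unitStalkEquiv x).symm m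
        left_inv := fun b => (Groth.Agent.Lib.Helper23.UnitStalk.unitStalkEquiv x).symm_apply_apply b
        right_inv := fun m => (Groth.Agent.Lib.Helper23.UnitStalk.unitStalkEquiv x).apply_symm_apply m
        map_add' := fun b b' => map_add (Groth.Agent.Lib.Helper23.UnitStalk.unitStalkEquiv x) b b'
        map_smul' := fun r b => by
          show Groth.Agent.Lib.Helper23.UnitStalk.unitStalkEquiv x ((f.stalkMap x).hom r * b) =
            (f.stalkMap x).hom r • Groth.Agent.Lib.Helper23.UnitStalk.unitStalkEquiv x b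
          rw [← smul_eq_mul, map_smul] }).symm
  exact DerivedCategory.Q.mapIso e1 ≪≫
    ((DerivedCategory.singleFunctorIsoCompQ (ModuleCat.{u} (Y.presheaf.stalk (f.base x))) 0).app
      _).symm ≪≫ (DerivedCategory.singleFunctor _ 0).mapIso e2

/-- a morphism has tor dimension `≤ n` iff each local ring of the source has tor dimension `≤ n`
over the local ring of the target -/
theorem hasTorDimLE_iff (f : X ⟶ Y) (n : ℕ) :
    DerSch.HasTorDimLE f n ↔ ∀ x : X,
      letI : Algebra (Y.presheaf.stalk (f.base x)) (X.presheaf.stalk x) :=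
        (f.stalkMap x).hom.toAlgebra
      DRing.HasTorDimLE (Y.presheaf.stalk (f.base x)) n (X.presheaf.stalk x) := by
  refine forall_congr' fun x => ?_
  letI : Algebra (Y.presheaf.stalk (f.base x)) (X.presheaf.stalk x) :=
    (f.stalkMap x).hom.toAlgebra
  rw [Groth.Agent.Lib.Helper1.TorDim.hasTorDimLE_iff_hasTorAmp]
  exact ⟨fun h => Groth.Agent.Lib.Helper1.Tor.hasTorAmp_of_iso (unitStalkIso f x) h,
    fun h => Groth.Agent.Lib.Helper1.Tor.hasTorAmp_of_iso (unitStalkIso f x).symm h⟩

/-- **Tor dimension over a smooth base**: if `q : Y ⟶ S` is smooth of relative dimension `n` and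
`f ≫ q` is flat, then `f` has tor dimension `≤ n`. -/
theorem hasTorDimLE_of_flat_comp_smooth (f : X ⟶ Y) (q : Y ⟶ S) (n : ℕ)
    [SmoothOfRelativeDimension n q] [Flat (f ≫ q)] : DerSch.HasTorDimLE f n := by
  rw [hasTorDimLE_iff]
  intro x
  letI : Algebra (Y.presheaf.stalk (f.base x)) (X.presheaf.stalk x) :=
    (f.stalkMap x).hom.toAlgebra
  obtain ⟨U, hU, V, hV, hy, e, hsm⟩ :=
    SmoothOfRelativeDimension.exists_isStandardSmoothOfRelativeDimension (n := n) (f := q) (f x)
  have h0 := hasTorDimLE_stalk_of_chart q (f x) hU hV hy e n hsm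
    (ModuleCat.of (Y.presheaf.stalk (f.base x)) (X.presheaf.stalk x)) 0 ?_
  · simpa using h0
  · rw [Groth.Agent.Lib.Helper1.TorDim.hasTorDimLE_zero_iff_flat]
    have hfl := Flat.stalkMap (f ≫ q) x
    rw [Scheme.Hom.stalkMap_comp] at hfl
    exact hfl

end Unit

section Single

variable {X : Scheme.{u}}

open Groth.Agent.Lib.T2H2.TorAmpComp

/-- the stalk complex of a module placed in degree `0` -/
noncomputable def singleStalkIso (f : X ⟶ Y) (x : X) (F : X.Modules) :
    DRing.toD ((DerSch.stalkCxOver f x).obj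
      ((HomologicalComplex.single X.Modules (ComplexShape.up ℤ) 0).obj F)) ≅
      (DerivedCategory.singleFunctor _ 0).obj ((DerSch.stalkOver f x).obj F) :=
  DerivedCategory.Q.mapIso ((HomologicalComplex.singleMapHomologicalComplex
    (DerSch.stalkOver f x) (ComplexShape.up ℤ) 0).app F) ≪≫
    ((DerivedCategory.singleFunctorIsoCompQ _ 0).app _).symm

theorem exists_relDim_of_isStandardSmooth {R T : Type u} [CommRing R] [CommRing T] (f : R →+* T)
    (hf : f.IsStandardSmooth) : ∃ n : ℕ, f.IsStandardSmoothOfRelativeDimension n := by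
  obtain ⟨_, _, _, _, ⟨P⟩⟩ := hf
  let := f.toAlgebra
  exact ⟨_, ⟨_, _, _, ‹_›, P, rfl⟩⟩

/-- **Finite tor dimension over `S` gives finite tor dimension over a smooth `S`-scheme**, for a
module placed in degree `0`, at one point. -/
theorem exists_hasTorAmplitudeAt_single_of_comp_smooth (φ : X ⟶ Y) (h : Y ⟶ S) [Smooth h]
    (F : X.Modules) (x : X) (a b : ℤ)
    (hS : DerSch.HasTorAmplitudeAt (φ ≫ h) a b
      ((HomologicalComplex.single X.Modules (ComplexShape.up ℤ) 0).obj F) x) :
    ∃ a' b' : ℤ, DerSch.HasTorAmplitudeAt φ a' b'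
      ((HomologicalComplex.single X.Modules (ComplexShape.up ℤ) 0).obj F) x := by
  obtain ⟨U, hU, V, hV, hy, e, hsm⟩ := Smooth.exists_isStandardSmooth h (φ x)
  obtain ⟨n, hn⟩ := exists_relDim_of_isStandardSmooth _ hsm
  -- tor dimension over `O_{S}`
  have h1 : DRing.HasTorAmplitudeIn (S.presheaf.stalk ((φ ≫ h).base x)) a b
      (Dual.inD (S.presheaf.stalk ((φ ≫ h).base x)) ((DerSch.stalkOver (φ ≫ h) x).obj F)) :=
    Groth.Agent.Lib.Helper1.Tor.hasTorAmp_of_iso (singleStalkIso (φ ≫ h) x F) hS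
  have h2 := Groth.Agent.Lib.T2H7.PerfHom.hasTorDimLE_of_hasTorAmp _ a b h1
  -- compare with the restriction of scalars of the stalk over `Y`
  let N : ModuleCat.{u} (Y.presheaf.stalk (φ.base x)) := (DerSch.stalkOver φ x).obj F
  let e0 : (ModuleCat.restrictScalars.{u} (phi φ h x)).obj N ≅ (DerSch.stalkOver (φ ≫ h) x).obj F :=
    (stalkOverCompIso φ h x).app F
  have h3 : DRing.HasTorDimLE (S.presheaf.stalk (h (φ x))) (-a).toNat
      ((ModuleCat.restrictScalars (h.stalkMap (φ x)).hom).obj N) :=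
    Groth.Agent.Lib.T2H7.FtdOpen.hasTorDimLE_of_linearEquiv e0.symm.toLinearEquiv _ h2
  have h4 := hasTorDimLE_stalk_of_chart h (φ x) hU hV hy e n hn N _ h3
  have h5 := (Groth.Agent.Lib.Helper1.TorDim.hasTorDimLE_iff_hasTorAmp N _).1 h4
  exact ⟨_, 0, Groth.Agent.Lib.Helper1.Tor.hasTorAmp_of_iso (singleStalkIso φ x F).symm h5⟩

end Single

end Groth.Agent.Lib.T2H1.SmoothTorSch
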