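import Groth.Agent.Lib.T2H1LocCan

/-!
# Morphisms between objects of `D(O_X)` with disjoint supports; the unit of `j^* ⊣ Rj_*` on
morphisms out of objects supported inside `j(X')` (helper1)

* `isZero_restrictD_opensRange`: `j^* N = 0` implies `N|_{j(X')} = 0`.
* `hom_eq_zero_of_disjoint`: `Hom(S, N) = 0` if `S|_W = 0`, `j^* N = 0` and `X ∖ W ⊆ j(X')`.
* `bijective_comp_unit`: for such `S`, composition with the unit `A ⟶ Rj_* j^* A` is a bijection
  `Hom(S, A) ≃ Hom(S, Rj_* j^* A)`.
-/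

set_option autoImplicit false
universe u
open CategoryTheory CategoryTheory.Limits CategoryTheory.Pretriangulated AlgebraicGeometry

attribute [local instance] HasDerivedCategory.standard

namespace Groth.Agent.Lib.T2H1.SuppHom

open Scheme.Modules Groth.Agent.Lib.T2H1.MVTri Groth.Agent.Lib.T2H1.RpushSupport
  Groth.Agent.Lib.T2H1.SESTriangle Groth.Agent.Lib.Helper17.KInj Groth.Agent.Lib.T2H1.MVMod
  Groth.Agent.Lib.T2H1.RgammaSupp Groth.Agent.Lib.T2H1.RgammaLoc
  Groth.Agent.Lib.T2H1.RestrictPush Groth.Agent.Lib.T2H1.SuppPush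

variable {X X' : Scheme.{u}} (j : X' ⟶ X) [IsOpenImmersion j]

/-- `j^* N = 0` implies `N|_{j(X')} = 0`. -/
theorem isZero_restrictD_opensRange (N : DCoh.D X) (hN : IsZero ((DCoh.restrictD j).obj N)) :
    IsZero ((DCoh.restrictD j.opensRange.ι).obj N) := by
  refine isZero_restrictD _ N (fun i y hy => ?_)
  obtain ⟨w, rfl⟩ := hy
  refine not_mem_support_of_isZero_restrictFunctor j (DCoh.HD N i) ?_ w
  exact IsZero.of_iso (Functor.map_isZero (DerivedCategory.homologyFunctor _ i) hN)
    (Groth.Agent.Lib.Helper17.AdjWay.homologyIso (restrictFunctor j) N i).symm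

variable [DCoh.HasRpush j]

/-- morphisms between objects with disjoint supports vanish. -/
theorem hom_eq_zero_of_disjoint (W : X.Opens) (hW : (W : Set X)ᶜ ⊆ Set.range j.base)
    (S N : DCoh.D X) (hS : IsZero ((DCoh.restrictD W.ι).obj S))
    (hN : IsZero ((DCoh.restrictD j).obj N)) (g : S ⟶ N) : g = 0 := by
  haveI := hasRpush W.ι
  obtain ⟨β, hβ⟩ := exists_unit_Rpush W.ι
  let adjW : DCoh.restrictD W.ι ⊣ DCoh.Rpush W.ι :=
    derivedAdjunction.{u} (restrictFunctor W.ι) (pushforward W.ι) (restrictAdjunction W.ι)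
      (DCoh.Rpush W.ι) β
  have hV : IsZero ((DCoh.restrictD j.opensRange.ι).obj N) := isZero_restrictD_opensRange j N hN
  haveI : IsIso (adjW.unit.app N) :=
    isIso_unit_app_of_isZero_restrictD W.ι adjW j.opensRange (by
      intro x hx
      rw [Scheme.Opens.range_ι]
      by_contra hxW
      exact hx (hW hxW)) N hV
  have h0 : g ≫ adjW.unit.app N = 0 := hom_Rpush_eq_zero W.ι S hS _ _
  exact (cancel_mono (adjW.unit.app N)).1 (by rw [h0, zero_comp])

/-- for `S` supported inside `j(X')`, composition with the unit `A ⟶ Rj_* j^* A` is bijective. -/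
theorem bijective_comp_unit (adj : DCoh.restrictD j ⊣ DCoh.Rpush j) (W : X.Opens)
    (hW : (W : Set X)ᶜ ⊆ Set.range j.base) (S A : DCoh.D X)
    (hS : IsZero ((DCoh.restrictD W.ι).obj S)) :
    Function.Bijective (fun χ : S ⟶ A => χ ≫ adj.unit.app A) := by
  obtain ⟨C, g, h, hT⟩ := distinguished_cocone_triangle (adj.unit.app A)
  haveI := isIso_counit j adj
  have hC : IsZero ((DCoh.restrictD j).obj C) := by
    have hT' := (DCoh.restrictD j).map_distinguished _ hT
    have hiso : IsIso ((DCoh.restrictD j).map (adj.unit.app A)) := by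
      rw [IsIso.eq_inv_of_inv_hom_id (adj.left_triangle_components A)]
      infer_instance
    exact (Triangle.isZero₃_iff_isIso₁ _ hT').2 hiso
  constructor
  · intro χ₁ χ₂ hχ
    dsimp only at hχ
    have h0 : (χ₁ - χ₂) ≫ adj.unit.app A = 0 := by
      rw [Preadditive.sub_comp, hχ, sub_self]
    obtain ⟨ξ, hξ⟩ := Triangle.coyoneda_exact₂ _ (inv_rot_of_distTriang _ hT) (χ₁ - χ₂) h0
    have hξ0 : ξ = 0 := hom_eq_zero_of_disjoint j W hW S _ hS
      (isZero_restrictD_shift j C hC (-1)) ξ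
    rw [hξ0, zero_comp] at hξ
    exact sub_eq_zero.1 hξ
  · intro ξ
    have h0 : ξ ≫ g = 0 := hom_eq_zero_of_disjoint j W hW S C hS hC _
    obtain ⟨χ, hχ⟩ := Triangle.coyoneda_exact₂ _ hT ξ h0
    exact ⟨χ, hχ.symm⟩

end Groth.Agent.Lib.T2H1.SuppHom
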