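import Groth.Agent.Lib.T2H1RelPCLBC
import Groth.Agent.Lib.T2H1PCmBC
import Groth.Agent.Lib.T2H1PCmComp

/-!
# Tor-independent base change of `m`-pseudo-coherent ring maps (T2H1)

* `relModule_bc_torIndep`: `B → C` relatively `m`-pseudo-coherent, `B → B'` with
  `Tor^B_p(C, B') = 0` for `p > 0`; then `B' → B' ⊗_B C` is relatively `m`-pseudo-coherent.
* `qpcm_of_isPushout_of_flat`: the `CommRingCat` form used for fibre products of schemes:
  `R → B`, `R → C` flat, `B → C` `m`-pseudo-coherent, `A` any `R`-algebra; then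
  `A ⊗_R B → A ⊗_R C` is `m`-pseudo-coherent.
-/

set_option autoImplicit false
set_option linter.style.haveILetI false
universe u
open CategoryTheory CategoryTheory.Limits HomologicalComplex MonoidalCategory TensorProduct
attribute [local instance] HasDerivedCategory.standard

namespace Groth.Agent.Lib.T2H1.TorIndepBC

open Groth.Agent.Lib.Helper1.PC Groth.Agent.Lib.Helper1.Restrict DerivedCategory
  Groth.Agent.Lib.T2H1.PCm Groth.Agent.Lib.Helper1.RelPC Groth.Agent.Lib.Helper1.LDer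
  Groth.Agent.Lib.T2H4 Groth.Agent.Lib.T2H4.RelPC Groth.Agent.Lib.Helper1.KF
  Groth.Agent.Lib.Helper1.DT

section Ring

attribute [local instance] Algebra.TensorProduct.rightAlgebra

variable (m : ℤ) (B C B' : Type u) [CommRing B] [CommRing C] [CommRing B'] [Algebra B C]
  [Algebra B B']

/-- derived base change of the unit is the unit -/
noncomputable def lbcUnitIso
    [DRing.HasLBaseChange (algebraMap C (B' ⊗[B] C))] :
    (DRing.LBaseChange (algebraMap C (B' ⊗[B] C))).obj (Dual.inD C C) ≅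
      Dual.inD (B' ⊗[B] C) (B' ⊗[B] C) := by
  let φ : C →+* B' ⊗[B] C := algebraMap C (B' ⊗[B] C)
  let Y : Cx C := sgl (ModuleCat.of C C)
  haveI : Y.IsKProjective := by
    refine isKProjective_of_vanishesAbove Y 0 (fun i hi => ?_) (fun i => ?_)
    · exact HomologicalComplex.isZero_single_obj_X (ComplexShape.up ℤ) 0 _ i (by omega)
    · by_cases hi : i = 0
      · subst hi
        have e : Y.X 0 ≅ ModuleCat.of C C :=
          HomologicalComplex.singleObjXSelf (ComplexShape.up ℤ) 0 _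
        exact Module.Projective.of_equiv e.toLinearEquiv.symm
      · have hz : IsZero (Y.X i) :=
          HomologicalComplex.isZero_single_obj_X (ComplexShape.up ℤ) 0 _ i hi
        haveI : Subsingleton (Y.X i) := ModuleCat.subsingleton_of_isZero hz
        infer_instance
  have e1 : (DRing.LBaseChange φ).obj (Q.obj Y) ≅ Q.obj ((bcCx φ).obj Y) := lbcIso φ Y
  have e0 : Dual.inD C C ≅ Q.obj Y :=
    (singleFunctorIsoCompQ (ModuleCat.{u} C) 0).app (ModuleCat.of C C)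
  have e2 : (bcCx φ).obj Y ≅
      sgl ((Groth.Agent.Lib.Helper1.Extend.ext C (B' ⊗[B] C)).obj (ModuleCat.of C C)) :=
    (HomologicalComplex.singleMapHomologicalComplex
      (Groth.Agent.Lib.Helper1.Extend.ext C (B' ⊗[B] C)) (ComplexShape.up ℤ) 0).app _
  have e4 : ModuleCat.of (B' ⊗[B] C) (TensorProduct C (B' ⊗[B] C) C) ≅
      ModuleCat.of (B' ⊗[B] C) (B' ⊗[B] C) :=
    (TensorProduct.AlgebraTensorModule.rid C (B' ⊗[B] C) (B' ⊗[B] C)).toModuleIso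
  have e3 : Q.obj (sgl ((Groth.Agent.Lib.Helper1.Extend.ext C (B' ⊗[B] C)).obj
        (ModuleCat.of C C))) ≅ Dual.inD (B' ⊗[B] C) (B' ⊗[B] C) :=
    ((singleFunctorIsoCompQ (ModuleCat.{u} (B' ⊗[B] C)) 0).app _).symm ≪≫
      (singleFunctor (ModuleCat.{u} (B' ⊗[B] C)) 0).mapIso
        (Groth.Agent.Lib.Helper1.Extend.extIso C ≪≫ e4)
  exact (DRing.LBaseChange φ).mapIso e0 ≪≫ e1 ≪≫ Q.mapIso e2 ≪≫ e3

/-- tor-independent base change of relative `m`-pseudo-coherence of an algebra -/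
theorem relModule_bc_torIndep
    (htor : ∀ p : ℕ, 0 < p → Subsingleton (DRing.Tor B p C B'))
    (h : DerCA.IsRelPseudoCoherentModule B C m C) :
    DerCA.IsRelPseudoCoherentModule B' (B' ⊗[B] C) m (B' ⊗[B] C) := by
  obtain ⟨n, α, hα, hpc⟩ := h
  haveI : DRing.HasLBaseChange
      (Algebra.TensorProduct.includeRight : C →ₐ[B] B' ⊗[B] C).toRingHom :=
    LDerExist.hasLBaseChange _
  haveI : DRing.HasLBaseChange (algebraMap C (B' ⊗[B] C)) :=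
    (inferInstance : DRing.HasLBaseChange
      (Algebra.TensorProduct.includeRight : C →ₐ[B] B' ⊗[B] C).toRingHom)
  have h1 := isRelPCVia_bc (R' := B') α htor (Dual.inD C C) m hpc
  refine ⟨n, bcPres α, bcPres_surjective α hα, ?_⟩
  exact isPC_of_iso ((DRing.restrictD _).mapIso (lbcUnitIso B C B')) h1

end Ring

section Cat

open CommRingCat Groth.Agent.Lib.T2H7.PCLocal

variable (m : ℤ)

/-- `R → B`, `R → C` flat, `B → C` `m`-pseudo-coherent, `A` any `R`-algebra: then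
`A ⊗_R B → A ⊗_R C` is `m`-pseudo-coherent (pushout-square form). -/
theorem qpcm_of_isPushout_of_flat {R A B C B' C' : CommRingCat.{u}}
    (rA : R ⟶ A) (rB : R ⟶ B) (c : B ⟶ C) (a' : A ⟶ B') (b' : B ⟶ B') (a'' : A ⟶ C')
    (c' : C ⟶ C') (d : B' ⟶ C')
    (sq1 : IsPushout rA rB a' b') (sq2 : IsPushout rA (rB ≫ c) a'' c')
    (h1 : a' ≫ d = a'') (h2 : b' ≫ d = c ≫ c')
    (hB : rB.hom.Flat) (hC : (rB ≫ c).hom.Flat) (hc : Qpcm m c.hom) : Qpcm m d.hom := by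
  have sq3 : IsPushout c b' c' d := by
    refine IsPushout.of_left (h₁₁ := rB) (v₁₁ := rA) (h₂₁ := a') ?_ h2.symm sq1.flip
    rw [h1]
    exact sq2.flip
  letI : Algebra R A := rA.hom.toAlgebra
  letI : Algebra R B := rB.hom.toAlgebra
  letI : Algebra B C := c.hom.toAlgebra
  letI : Algebra R C := (rB ≫ c).hom.toAlgebra
  letI : Algebra B B' := b'.hom.toAlgebra
  letI : Algebra A B' := a'.hom.toAlgebra
  letI : Algebra R B' := (rB ≫ b').hom.toAlgebra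
  haveI : IsScalarTower R B C := .of_algebraMap_eq' rfl
  haveI : IsScalarTower R B B' := .of_algebraMap_eq' rfl
  haveI : IsScalarTower R A B' := .of_algebraMap_eq' (by
    change (rB ≫ b').hom = (rA ≫ a').hom
    rw [sq1.w])
  haveI : Module.Flat R B := hB
  haveI : Module.Flat R C := hC
  haveI : Algebra.IsPushout R B A B' :=
    (CommRingCat.isPushout_iff_isPushout (R := R) (R' := B) (S := A) (S' := B')).1 sq1.flip
  have htor : ∀ p : ℕ, 0 < p → Subsingleton (DRing.Tor B p C B') := fun p hp =>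
    subsingleton_tor_of_pushout R B C A B' p hp
      (ModuleCat.subsingleton_of_isZero
        (Groth.Agent.Helper13Tor.isZero_tor_of_flat (ModuleCat.of R A) (ModuleCat.of R C) p hp))
  have h3 := relModule_bc_torIndep m B C B' htor ((qpcm_algebraMap_iff m B C).1 hc)
  have h4 : Qpcm m (algebraMap B' (B' ⊗[B] C)) := (qpcm_algebraMap_iff m B' (B' ⊗[B] C)).2 h3
  have sq3' : IsPushout (ofHom (algebraMap B B')) (ofHom (algebraMap B C)) d c' := sq3.flip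
  have hd := (isPushout_tensorProduct B B' C).inl_isoIsPushout_hom _ _ sq3'
  rw [← hd, CommRingCat.hom_comp, (qpcm_respectsIso m).cancel_right_isIso]
  exact h4

end Cat

section Sch

open AlgebraicGeometry Opposite TopologicalSpace Groth.Agent.Lib.T2H7.PerfBC

variable (m : ℤ)

/-- Tor-independent base change of `m`-pseudo-coherent morphisms: `Y₂` and `X₂` flat over `S`,
`f₂ : X₂ ⟶ Y₂` `m`-pseudo-coherent, `Y₁` any `S`-scheme; then `Y₁ ×_S X₂ ⟶ Y₁ ×_S Y₂` is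
`m`-pseudo-coherent. -/
theorem ppcm_torIndep {S Y₁ Y₂ X₂ Y Z : Scheme.{u}} (q₁ : Y₁ ⟶ S) (q₂ : Y₂ ⟶ S) (f₂ : X₂ ⟶ Y₂)
    [Flat q₂] [Flat (f₂ ≫ q₂)]
    (pY₁ : Y ⟶ Y₁) (pY₂ : Y ⟶ Y₂) (hY : IsPullback pY₁ pY₂ q₁ q₂)
    (pZ₁ : Z ⟶ Y₁) (pZ₂ : Z ⟶ X₂) (hZ : IsPullback pZ₁ pZ₂ q₁ (f₂ ≫ q₂))
    (g : Z ⟶ Y) (hg₁ : g ≫ pY₁ = pZ₁) (hg₂ : g ≫ pY₂ = pZ₂ ≫ f₂)
    (hf : Ppcm m f₂) : Ppcm m g := by
  subst hg₁
  have hresp : (Ppcm.{u} m).Respects @IsOpenImmersion :=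
    HasRingHomProperty.respects_isOpenImmersion (P := Ppcm.{u} m) (qpcm_awaySource m)
  rw [IsZariskiLocalAtSource.iff_exists_resLE (P := Ppcm.{u} m)]
  intro z
  obtain ⟨S₀, hS₀, hzS₀, -⟩ := Opens.isBasis_iff_nbhd.mp S.isBasis_affineOpens
    (Opens.mem_top (q₁ ((g ≫ pY₁) z)))
  obtain ⟨W₁, hW₁, hzW₁, eW₁⟩ := Opens.isBasis_iff_nbhd.mp Y₁.isBasis_affineOpens
    (show (g ≫ pY₁) z ∈ q₁ ⁻¹ᵁ S₀ from hzS₀)
  have hz2 : q₂ (f₂ (pZ₂ z)) = q₁ ((g ≫ pY₁) z) := by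
    have h1 := congrArg (fun φ : Z ⟶ S => φ z) hZ.w
    simpa using h1.symm
  obtain ⟨V, hV, hzV, eV⟩ := Opens.isBasis_iff_nbhd.mp Y₂.isBasis_affineOpens
    (show f₂ (pZ₂ z) ∈ q₂ ⁻¹ᵁ S₀ from by
      change q₂ (f₂ (pZ₂ z)) ∈ S₀; rw [hz2]; exact hzS₀)
  obtain ⟨U, hU, hzU, eU⟩ := Opens.isBasis_iff_nbhd.mp X₂.isBasis_affineOpens
    (show pZ₂ z ∈ f₂ ⁻¹ᵁ V from hzV)
  have eU' : (g ≫ pY₁) ⁻¹ᵁ W₁ ⊓ pZ₂ ⁻¹ᵁ U ≤ g ⁻¹ᵁ (pY₁ ⁻¹ᵁ W₁ ⊓ pY₂ ⁻¹ᵁ V) := by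
    intro z' hz'
    refine ⟨?_, ?_⟩
    · have h1 : (g ≫ pY₁) z' ∈ W₁ := hz'.1
      simpa using h1
    · have h1 : pZ₂ z' ∈ U := hz'.2
      have h2 : f₂ (pZ₂ z') ∈ V := eU h1
      have h3 := congrArg (fun φ : Z ⟶ Y₂ => φ z') hg₂
      change pY₂ (g z') ∈ V
      simp only [Scheme.Hom.comp_apply] at h3
      rw [h3]
      exact h2
  refine ⟨pY₁ ⁻¹ᵁ W₁ ⊓ pY₂ ⁻¹ᵁ V, (g ≫ pY₁) ⁻¹ᵁ W₁ ⊓ pZ₂ ⁻¹ᵁ U, ⟨hzW₁, hzU⟩, eU', ?_⟩
  have eU2 : U ≤ (f₂ ≫ q₂) ⁻¹ᵁ S₀ := by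
    intro x hx
    exact eV (eU hx)
  have hpbY := Scheme.Hom.isPullback_resLE hY eV eW₁ (UY := pY₁ ⁻¹ᵁ W₁ ⊓ pY₂ ⁻¹ᵁ V) rfl
  have hpbZ := Scheme.Hom.isPullback_resLE hZ eU2 eW₁ (UY := (g ≫ pY₁) ⁻¹ᵁ W₁ ⊓ pZ₂ ⁻¹ᵁ U) rfl
  haveI : IsAffine (S₀ : Scheme.{u}) := hS₀
  haveI : IsAffine (W₁ : Scheme.{u}) := hW₁
  haveI : IsAffine (V : Scheme.{u}) := hV
  haveI : IsAffine (U : Scheme.{u}) := hU
  haveI : IsAffine ((pY₁ ⁻¹ᵁ W₁ ⊓ pY₂ ⁻¹ᵁ V : Y.Opens) : Scheme.{u}) := IsAffine.of_isPullback hpbY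
  haveI : IsAffine (((g ≫ pY₁) ⁻¹ᵁ W₁ ⊓ pZ₂ ⁻¹ᵁ U : Z.Opens) : Scheme.{u}) :=
    IsAffine.of_isPullback hpbZ
  have sq1 := isPushout_appTop_of_isPullback hpbY
  have sq2 := isPushout_appTop_of_isPullback hpbZ
  have hcomp : (f₂ ≫ q₂).resLE S₀ U eU2 = f₂.resLE V U eU ≫ q₂.resLE S₀ V eV :=
    (Scheme.Hom.resLE_comp_resLE f₂ eU q₂ eV).symm
  have hflatB : Flat (q₂.resLE S₀ V eV) := IsZariskiLocalAtSource.resLE (P := @Flat) eV inferInstance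
  have hflatC : Flat ((f₂ ≫ q₂).resLE S₀ U eU2) :=
    IsZariskiLocalAtSource.resLE (P := @Flat) eU2 inferInstance
  have hB : (q₂.resLE S₀ V eV).appTop.hom.Flat :=
    (HasRingHomProperty.iff_of_isAffine (P := @Flat)).1 hflatB
  have hC : ((f₂ ≫ q₂).resLE S₀ U eU2).appTop.hom.Flat :=
    (HasRingHomProperty.iff_of_isAffine (P := @Flat)).1 hflatC
  have hc : Qpcm m (f₂.resLE V U eU).appTop.hom :=
    (HasRingHomProperty.iff_of_isAffine (P := Ppcm.{u} m)).1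
      (IsZariskiLocalAtSource.resLE (P := Ppcm.{u} m) eU hf)
  rw [hcomp, Scheme.Hom.comp_appTop] at sq2 hC
  rw [HasRingHomProperty.iff_of_isAffine (P := Ppcm.{u} m)]
  refine qpcm_of_isPushout_of_flat m _ _ _ _ _ _ _ _ sq1 sq2 ?_ ?_ hB hC hc
  · rw [← Scheme.Hom.comp_appTop, Scheme.Hom.resLE_comp_resLE]
  · rw [← Scheme.Hom.comp_appTop, ← Scheme.Hom.comp_appTop]
    congr 1
    rw [← cancel_mono (Scheme.Opens.ι V)]
    simp only [Category.assoc, Scheme.Hom.resLE_comp_ι, Scheme.Hom.resLE_comp_ι_assoc, hg₂]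

end Sch

end Groth.Agent.Lib.T2H1.TorIndepBC
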