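import Groth.Agent.Lib.T2H1TorAmpBCSch
import Groth.Agent.Lib.T2H1TorIndepBC
import Groth.Agent.Lib.T2H1SmoothTorSch
import Groth.Agent.Lib.T2H2TorAmpComp
import Groth.Agent.S6948
set_option backward.isDefEq.respectTransparency.types false

/-!
# Tor-independent base change of the tor dimension of a morphism (T2H1)
-/

set_option autoImplicit false
set_option linter.style.haveILetI false
universe u
open CategoryTheory CategoryTheory.Limits AlgebraicGeometry HomologicalComplex MonoidalCategory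
  TensorProduct

attribute [local instance] HasDerivedCategory.standard

namespace Groth.Agent.Lib.T2H1.TorDimBC

open Groth.Agent.Lib.T2H1.TorAmpBC Groth.Agent.Lib.Helper1.RelBC
  Groth.Agent.Lib.Helper1.KF Groth.Agent.Lib.Helper1.DT DerivedCategory DTen
  Groth.Agent.Lib.Helper1.Tor Groth.Agent.Lib.T2H1.TildeTorAmp
  Groth.Agent.Lib.Helper1.Restrict Groth.Agent.Lib.T2H4 Groth.Agent.Lib.T2H1.TorIndepBC

section Ring

/-- termwise extension of scalars of the unit complex -/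
noncomputable def extSglIso {T B' : Type u} [CommRing T] [CommRing B'] (δ : T →+* B') :
    (extCx δ).obj (sgl (ModuleCat.of T T)) ≅ sgl (ModuleCat.of B' B') := by
  letI : Algebra T B' := δ.toAlgebra
  have e2 : (extCx δ).obj (sgl (ModuleCat.of T T)) ≅
      sgl ((Groth.Agent.Lib.Helper1.Extend.ext T B').obj (ModuleCat.of T T)) :=
    (HomologicalComplex.singleMapHomologicalComplex
      (Groth.Agent.Lib.Helper1.Extend.ext T B') (ComplexShape.up ℤ) 0).app _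
  have e4 : ModuleCat.of B' (TensorProduct T B' T) ≅ ModuleCat.of B' B' :=
    (TensorProduct.AlgebraTensorModule.rid T B' B').toModuleIso
  exact e2 ≪≫ (HomologicalComplex.single (ModuleCat.{u} B') (ComplexShape.up ℤ) 0).mapIso
    (Groth.Agent.Lib.Helper1.Extend.extIso T ≪≫ e4)

variable {R R' A A' B B' : Type u} [CommRing R] [CommRing R'] [CommRing A] [CommRing A']
  [CommRing B] [CommRing B'] [Algebra R R'] [Algebra R B]

attribute [local instance] Algebra.TensorProduct.rightAlgebra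

/-- the pushout step: tor amplitude of the unit under tor-independent base change -/
theorem hasTorAmp_unit_pushout_torIndep
    (htor : ∀ p : ℕ, 1 ≤ p → Subsingleton (DRing.Tor R p B R')) (a b : ℤ)
    (h0 : DRing.HasTorAmplitudeIn R a b
      (Q.obj ((resCx (algebraMap R B)).obj (sgl (ModuleCat.of B B))))) :
    DRing.HasTorAmplitudeIn R' a b
      (Q.obj ((resCx (algebraMap R' (R' ⊗[R] B))).obj
        (sgl (ModuleCat.of (R' ⊗[R] B) (R' ⊗[R] B))))) := by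
  haveI : DRing.HasLBaseChange (algebraMap R R') := LDerExist.hasLBaseChange _
  haveI : DRing.HasLBaseChange (algebraMap B (R' ⊗[R] B)) := LDerExist.hasLBaseChange _
  have hsq : (algebraMap B (R' ⊗[R] B)).comp (algebraMap R B) =
      (algebraMap R' (R' ⊗[R] B)).comp (algebraMap R R') := by
    refine RingHom.ext fun r => ?_
    change (1 : R') ⊗ₜ[R] (algebraMap R B r) = (algebraMap R R' r) ⊗ₜ[R] (1 : B)
    rw [Algebra.algebraMap_eq_smul_one, Algebra.algebraMap_eq_smul_one, TensorProduct.smul_tmul]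
  let K : Dual.D B := Dual.inD B B
  have e0 : K ≅ Q.obj (sgl (ModuleCat.of B B)) :=
    (singleFunctorIsoCompQ (ModuleCat.{u} B) 0).app (ModuleCat.of B B)
  have hK0 : DRing.HasTorAmplitudeIn R a b ((DRing.restrictD (algebraMap R B)).obj K) :=
    hasTorAmp_of_iso ((DRing.restrictD (algebraMap R B)).mapIso e0 ≪≫
      restrictQIso (algebraMap R B) _).symm h0
  have hK1 := Groth.Agent.S6948.result (algebraMap R R') _ a b hK0
  haveI := TorIndep.isIso_cmp R B R' (R' ⊗[R] B) htor (TorIndep.lbcAdj _) (TorIndep.lbcAdj _) hsq K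
  have e := asIso (TrivBC.cmp (TorIndep.lbcAdj (algebraMap R R'))
    (TorIndep.lbcAdj (algebraMap B (R' ⊗[R] B))) hsq K)
  have hK2 := hasTorAmp_of_iso e hK1
  have e1 : (DRing.LBaseChange (algebraMap B (R' ⊗[R] B))).obj K ≅
      Q.obj (sgl (ModuleCat.of (R' ⊗[R] B) (R' ⊗[R] B))) :=
    lbcUnitIso R B R' ≪≫
      (singleFunctorIsoCompQ (ModuleCat.{u} (R' ⊗[R] B)) 0).app _
  exact hasTorAmp_of_iso ((DRing.restrictD (algebraMap R' (R' ⊗[R] B))).mapIso e1 ≪≫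
      restrictQIso (algebraMap R' (R' ⊗[R] B)) _) hK2

/-- base change of the tor amplitude of the unit along a square of rings which is, up to flat
localizations, a tor-independent pushout square. -/
theorem hasTorAmp_unit_baseChange_torIndep (σ : R →+* A) (σ' : R' →+* A') (φ : A →+* B)
    (β : A' →+* B') (δ : R' ⊗[R] B →+* B')
    (hRB : algebraMap R B = φ.comp σ)
    (hδ₁ : δ.comp (algebraMap R' (R' ⊗[R] B)) = β.comp σ')
    (hσ : σ.Flat) (hσ' : σ'.Flat)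
    (hloc' : ∀ N' : ModuleCat.{u} A', Nonempty ((ModuleCat.extendScalars.{u, u, u} σ').obj
      ((ModuleCat.restrictScalars.{u} σ').obj N') ≅ N'))
    (hδ : δ.Flat)
    (htor : ∀ p : ℕ, 1 ≤ p → Subsingleton (DRing.Tor R p B R')) (a b : ℤ)
    (h : DRing.HasTorAmplitudeIn A a b (Q.obj ((resCx φ).obj (sgl (ModuleCat.of B B))))) :
    DRing.HasTorAmplitudeIn A' a b (Q.obj ((resCx β).obj (sgl (ModuleCat.of B' B')))) := by
  have h0 : DRing.HasTorAmplitudeIn R a b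
      (Q.obj ((resCx (algebraMap R B)).obj (sgl (ModuleCat.of B B)))) :=
    hasTorAmp_of_iso (Q.mapIso (resResCxIso σ φ hRB _))
      (hasTorAmp_resCx_of_flat σ hσ _ a b h)
  have h1 := hasTorAmp_unit_pushout_torIndep (R := R) (R' := R') (B := B) htor a b h0
  have h2 := hasTorAmp_localize (algebraMap R' (R' ⊗[R] B)) δ σ' β hδ₁ hδ hσ' hloc'
    (sgl (ModuleCat.of (R' ⊗[R] B) (R' ⊗[R] B))) a b h1
  exact hasTorAmp_of_iso (Q.mapIso ((resCx β).mapIso (extSglIso δ))) h2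

end Ring

section Stalk

open Groth.Agent.Lib.T2H1.TorAmpBCSch

/-- `B` in degree `0`, as an object of `D(A)` -/
noncomputable def inDResIso {A B : Type u} [CommRing A] [CommRing B] (φ : A →+* B) :
    letI : Algebra A B := φ.toAlgebra
    Dual.inD A B ≅ Q.obj ((resCx φ).obj (sgl (ModuleCat.of B B))) := by
  letI : Algebra A B := φ.toAlgebra
  let e1 : (resCx φ).obj (sgl (ModuleCat.of B B)) ≅
      sgl ((ModuleCat.restrictScalars.{u} φ).obj (ModuleCat.of B B)) :=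
    (HomologicalComplex.singleMapHomologicalComplex (ModuleCat.restrictScalars.{u} φ)
      (ComplexShape.up ℤ) 0).app _
  let e2' : ((ModuleCat.restrictScalars.{u} φ).obj (ModuleCat.of B B)) ≃ₗ[A] B :=
    { toFun := fun x => x
      invFun := fun x => x
      map_add' := fun _ _ => rfl
      map_smul' := fun _ _ => rfl
      left_inv := fun _ => rfl
      right_inv := fun _ => rfl }
  let e2 : ModuleCat.of A B ≅ (ModuleCat.restrictScalars.{u} φ).obj (ModuleCat.of B B) :=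
    e2'.toModuleIso.symm
  exact (singleFunctor (ModuleCat.{u} A) 0).mapIso e2 ≪≫
    (singleFunctorIsoCompQ (ModuleCat.{u} A) 0).app _ ≪≫ Q.mapIso e1.symm

variable {X S X' S' : Scheme.{u}} {f : X ⟶ S} {g : S' ⟶ S} {g' : X' ⟶ X} {f' : X' ⟶ S'}

set_option maxHeartbeats 1600000 in
/-- tor dimension of the stalks under a base change which is tor independent on a chart -/
theorem hasTorDimLE_stalk_of_isPullback (H : IsPullback g' f' f g) (x' : X')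
    {W : S.Opens} (hW : IsAffineOpen W) {V : X.Opens} (hV : IsAffineOpen V)
    {W' : S'.Opens} (hW' : IsAffineOpen W')
    (hVW : V ≤ f ⁻¹ᵁ W) (hW'W : W' ≤ g ⁻¹ᵁ W) (hxV : g' x' ∈ V) (hyW' : f' x' ∈ W')
    (htor : letI : Algebra Γ(S, W) Γ(S', W') := (g.appLE W W' hW'W).hom.toAlgebra
      letI : Algebra Γ(S, W) (X.presheaf.stalk (g' x')) :=
        ((f.stalkMap (g' x')).hom.comp
          (S.presheaf.germ W (f (g' x')) (hVW hxV)).hom).toAlgebra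
      ∀ p : ℕ, 1 ≤ p → Subsingleton (DRing.Tor Γ(S, W) p (X.presheaf.stalk (g' x')) Γ(S', W')))
    (n : ℕ)
    (h : letI : Algebra (S.presheaf.stalk (f.base (g' x'))) (X.presheaf.stalk (g' x')) :=
        (f.stalkMap (g' x')).hom.toAlgebra
      DRing.HasTorDimLE (S.presheaf.stalk (f.base (g' x'))) n (X.presheaf.stalk (g' x'))) :
    letI : Algebra (S'.presheaf.stalk (f'.base x')) (X'.presheaf.stalk x') :=
      (f'.stalkMap x').hom.toAlgebra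
    DRing.HasTorDimLE (S'.presheaf.stalk (f'.base x')) n (X'.presheaf.stalk x') := by
  have hxW : f (g' x') ∈ W := hVW hxV
  have hxU' : x' ∈ g' ⁻¹ᵁ V ⊓ f' ⁻¹ᵁ W' := ⟨hxV, hyW'⟩
  have hU' : IsAffineOpen (g' ⁻¹ᵁ V ⊓ f' ⁻¹ᵁ W') := by
    haveI : IsAffine (W : Scheme.{u}) := hW
    haveI : IsAffine (W' : Scheme.{u}) := hW'
    haveI : IsAffine (V : Scheme.{u}) := hV
    exact .of_isIso (Scheme.Hom.isPullback_resLE H hW'W hVW rfl).isoPullback.hom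
  have hiso := isIso_pushoutSection_of_isAffineOpen H hW'W hVW
    (rfl : g' ⁻¹ᵁ V ⊓ f' ⁻¹ᵁ W' = _) hW hW' hV
  have hPO := (isIso_pushoutSection_iff H hW'W hVW
    (rfl : g' ⁻¹ᵁ V ⊓ f' ⁻¹ᵁ W' = _)).mp hiso
  -- the rings
  letI algRR' : Algebra Γ(S, W) Γ(S', W') := (g.appLE W W' hW'W).hom.toAlgebra
  letI algRS : Algebra Γ(S, W) Γ(X, V) := (f.appLE W V hVW).hom.toAlgebra
  let σ : Γ(S, W) →+* S.presheaf.stalk (f (g' x')) :=
    (S.presheaf.germ W (f (g' x')) hxW).hom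
  let σ' : Γ(S', W') →+* S'.presheaf.stalk (f' x') :=
    (S'.presheaf.germ W' (f' x') hyW').hom
  letI algRB : Algebra Γ(S, W) (X.presheaf.stalk (g' x')) :=
    ((f.stalkMap (g' x')).hom.comp σ).toAlgebra
  let e : Γ(S', W') ⊗[Γ(S, W)] Γ(X, V) ≃+*
      Γ(X', g' ⁻¹ᵁ V ⊓ f' ⁻¹ᵁ W') :=
    ((CommRingCat.isPushout_tensorProduct Γ(S, W) Γ(S', W') Γ(X, V)).isoIsPushout _ _
      hPO.flip).commRingCatIsoToRingEquiv
  have he₁ : ∀ r' : Γ(S', W'), e (r' ⊗ₜ 1) =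
      (f'.appLE W' (g' ⁻¹ᵁ V ⊓ f' ⁻¹ᵁ W')
        (by simp)).hom r' := by
    intro r'
    exact congr($((CommRingCat.isPushout_tensorProduct Γ(S, W) Γ(S', W')
      Γ(X, V)).inl_isoIsPushout_hom _ _ hPO.flip).hom r')
  have he₂ : ∀ s : Γ(X, V), e (1 ⊗ₜ s) =
      (g'.appLE V (g' ⁻¹ᵁ V ⊓ f' ⁻¹ᵁ W')
        (by simp)).hom s := by
    intro s
    exact congr($((CommRingCat.isPushout_tensorProduct Γ(S, W) Γ(S', W')
      Γ(X, V)).inr_isoIsPushout_hom _ _ hPO.flip).hom s)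
  have hSB : algebraMap Γ(S, W) (X.presheaf.stalk (g' x')) =
      (X.presheaf.germ V (g' x') hxV).hom.comp
        (algebraMap Γ(S, W) Γ(X, V)) :=
    congrArg CommRingCat.Hom.hom (germ_stalkMap_appLE f W V hVW (g' x') hxV)
  have hγ : (g'.stalkMap x').hom.comp
      (X.presheaf.germ V (g' x') hxV).hom =
      (X'.presheaf.germ _ x' hxU').hom.comp
        (g'.appLE V (g' ⁻¹ᵁ V ⊓ f' ⁻¹ᵁ W')
          (by simp)).hom :=
    congrArg CommRingCat.Hom.hom (germ_stalkMap_appLE g' V _ (by simp) x' hxU')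
  have hρ : (f'.stalkMap x').hom.comp σ' =
      (X'.presheaf.germ _ x' hxU').hom.comp
        (f'.appLE W' (g' ⁻¹ᵁ V ⊓ f' ⁻¹ᵁ W')
          (by simp)).hom :=
    congrArg CommRingCat.Hom.hom (germ_stalkMap_appLE f' W' _ (by simp) x' hxU')
  obtain ⟨δ, hδ₁, -, hδ⟩ := exists_flat_delta
    (R := Γ(S, W)) (R' := Γ(S', W')) (S := Γ(X, V))
    (f'.appLE W' (g' ⁻¹ᵁ V ⊓ f' ⁻¹ᵁ W')
      (by simp)).hom
    (g'.appLE V (g' ⁻¹ᵁ V ⊓ f' ⁻¹ᵁ W')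
      (by simp)).hom
    (X.presheaf.germ V (g' x') hxV).hom
    (X'.presheaf.germ _ x' hxU').hom
    (g'.stalkMap x').hom
    ((f'.stalkMap x').hom.comp σ')
    e he₁ he₂ hSB (hV.primeIdealOf ⟨g' x', hxV⟩).asIdeal.primeCompl
    (hV.isLocalization_stalk ⟨g' x', hxV⟩)
    (flat_germ hU' x' hxU') hγ hρ
  have hσ : σ.Flat := flat_germ hW _ hxW
  have hσ' : σ'.Flat := flat_germ hW' _ hyW'
  have hloc' := Groth.Agent.Lib.T2H1.TorAmpQCoh.nonempty_extendScalars_restrictScalars_iso σ'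
      (hW'.primeIdealOf ⟨f' x', hyW'⟩).asIdeal.primeCompl
      (hW'.isLocalization_stalk ⟨f' x', hyW'⟩)
  letI : Algebra (S.presheaf.stalk (f.base (g' x'))) (X.presheaf.stalk (g' x')) :=
    (f.stalkMap (g' x')).hom.toAlgebra
  letI : Algebra (S'.presheaf.stalk (f'.base x')) (X'.presheaf.stalk x') :=
    (f'.stalkMap x').hom.toAlgebra
  rw [Groth.Agent.Lib.Helper1.TorDim.hasTorDimLE_iff_hasTorAmp] at h ⊢
  have h' := hasTorAmp_of_iso (inDResIso (f.stalkMap (g' x')).hom) h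
  have h2 := hasTorAmp_unit_baseChange_torIndep σ σ' (f.stalkMap (g' x')).hom
    (f'.stalkMap x').hom δ rfl hδ₁ hσ hσ' hloc' hδ htor (-(n : ℤ)) 0 h'
  exact hasTorAmp_of_iso (inDResIso (f'.stalkMap x').hom).symm h2

end Stalk

section Sch

open Groth.Agent.Lib.T2H1.SmoothTorSch Groth.Agent.Lib.T2H1.TorAmpBCSch TopologicalSpace
  Groth.Agent.Lib.T2H4.RelPC

/-- the tor dimension of a morphism is stable under flat base change -/
theorem hasTorDimLE_of_isPullback_of_flat {X S X' S' : Scheme.{u}} (f : X ⟶ S) (f' : X' ⟶ S')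
    (g' : X' ⟶ X) (g : S' ⟶ S) [Flat g] (H : IsPullback g' f' f g) (n : ℕ)
    (hf : DerSch.HasTorDimLE f n) : DerSch.HasTorDimLE f' n := by
  rw [hasTorDimLE_iff] at hf ⊢
  intro x'
  have hxy : f (g' x') = g (f' x') := by
    have h1 := congrArg (fun φ : X' ⟶ S => φ x') H.w
    simpa using h1
  obtain ⟨W, hW, hxW, -⟩ := Opens.isBasis_iff_nbhd.mp S.isBasis_affineOpens
    (Opens.mem_top (f (g' x')))
  obtain ⟨V, hV, hxV, hVW⟩ := Opens.isBasis_iff_nbhd.mp X.isBasis_affineOpens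
    (show g' x' ∈ f ⁻¹ᵁ W from hxW)
  obtain ⟨W', hW', hyW', hW'W⟩ := Opens.isBasis_iff_nbhd.mp S'.isBasis_affineOpens
    (show f' x' ∈ g ⁻¹ᵁ W from by change g (f' x') ∈ W; rw [← hxy]; exact hxW)
  refine hasTorDimLE_stalk_of_isPullback H x' hW hV hW' hVW hW'W hxV hyW' ?_ n (hf (g' x'))
  letI : Algebra Γ(S, W) Γ(S', W') := (g.appLE W W' hW'W).hom.toAlgebra
  letI : Algebra Γ(S, W) (X.presheaf.stalk (g' x')) :=
    ((f.stalkMap (g' x')).hom.comp (S.presheaf.germ W (f (g' x')) (hVW hxV)).hom).toAlgebra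
  haveI : Module.Flat Γ(S, W) Γ(S', W') := Scheme.Hom.flat_appLE g hW hW' hW'W
  intro p hp
  exact ModuleCat.subsingleton_of_isZero
    (Groth.Agent.Helper13Tor.isZero_tor_of_flat_right
      (ModuleCat.of Γ(S, W) (X.presheaf.stalk (g' x'))) (ModuleCat.of Γ(S, W) Γ(S', W')) p hp)

set_option maxHeartbeats 1600000 in
/-- tor-independent base change of the tor dimension: `Y₂` and `X₂` flat over `S`, `Y₁` any
`S`-scheme; then `Y₁ ×_S X₂ ⟶ Y₁ ×_S Y₂` has tor dimension at most that of `f₂`. -/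
theorem hasTorDimLE_torIndep {S Y₁ Y₂ X₂ Y Z : Scheme.{u}} (q₁ : Y₁ ⟶ S) (q₂ : Y₂ ⟶ S)
    (f₂ : X₂ ⟶ Y₂) [Flat q₂] [Flat (f₂ ≫ q₂)]
    (pY₁ : Y ⟶ Y₁) (pY₂ : Y ⟶ Y₂) (hY : IsPullback pY₁ pY₂ q₁ q₂)
    (pZ₁ : Z ⟶ Y₁) (pZ₂ : Z ⟶ X₂) (hZ : IsPullback pZ₁ pZ₂ q₁ (f₂ ≫ q₂))
    (g : Z ⟶ Y) (hg₁ : g ≫ pY₁ = pZ₁) (hg₂ : g ≫ pY₂ = pZ₂ ≫ f₂)
    (n : ℕ) (hf : DerSch.HasTorDimLE f₂ n) : DerSch.HasTorDimLE g n := by
  subst hg₁
  have H : IsPullback pZ₂ g f₂ pY₂ := (IsPullback.of_right hZ hg₂ hY).flip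
  rw [hasTorDimLE_iff] at hf ⊢
  intro z
  obtain ⟨S₀, hS₀, hzS₀, -⟩ := Opens.isBasis_iff_nbhd.mp S.isBasis_affineOpens
    (Opens.mem_top (q₁ ((g ≫ pY₁) z)))
  obtain ⟨W₁, hW₁, hzW₁, eW₁⟩ := Opens.isBasis_iff_nbhd.mp Y₁.isBasis_affineOpens
    (show (g ≫ pY₁) z ∈ q₁ ⁻¹ᵁ S₀ from hzS₀)
  have hz2 : q₂ (f₂ (pZ₂ z)) = q₁ ((g ≫ pY₁) z) := by
    have h1 := congrArg (fun φ : Z ⟶ S => φ z) hZ.w
    simpa using h1.symm
  obtain ⟨V, hV, hzV, eV⟩ := Opens.isBasis_iff_nbhd.mp Y₂.isBasis_affineOpens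
    (show f₂ (pZ₂ z) ∈ q₂ ⁻¹ᵁ S₀ from by
      change q₂ (f₂ (pZ₂ z)) ∈ S₀; rw [hz2]; exact hzS₀)
  obtain ⟨U, hU, hzU, eU⟩ := Opens.isBasis_iff_nbhd.mp X₂.isBasis_affineOpens
    (show pZ₂ z ∈ f₂ ⁻¹ᵁ V from hzV)
  have hV' : IsAffineOpen (pY₁ ⁻¹ᵁ W₁ ⊓ pY₂ ⁻¹ᵁ V) := by
    haveI : IsAffine (S₀ : Scheme.{u}) := hS₀
    haveI : IsAffine (W₁ : Scheme.{u}) := hW₁
    haveI : IsAffine (V : Scheme.{u}) := hV
    exact .of_isIso (Scheme.Hom.isPullback_resLE hY eV eW₁ rfl).isoPullback.hom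
  have hgz : g z ∈ pY₁ ⁻¹ᵁ W₁ ⊓ pY₂ ⁻¹ᵁ V := by
    refine ⟨?_, ?_⟩
    · have h1 : (g ≫ pY₁) z ∈ W₁ := hzW₁
      simpa using h1
    · have h3 := congrArg (fun φ : Z ⟶ Y₂ => φ z) hg₂
      change pY₂ (g z) ∈ V
      simp only [Scheme.Hom.comp_apply] at h3
      rw [h3]
      exact hzV
  have eV' : pY₁ ⁻¹ᵁ W₁ ⊓ pY₂ ⁻¹ᵁ V ≤ pY₂ ⁻¹ᵁ V := inf_le_right
  refine hasTorDimLE_stalk_of_isPullback H z hV hU hV' eU eV' hzU hgz ?_ n (hf (pZ₂ z))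
  have hiso := isIso_pushoutSection_of_isAffineOpen hY eV eW₁
    (rfl : pY₁ ⁻¹ᵁ W₁ ⊓ pY₂ ⁻¹ᵁ V = _) hS₀ hV hW₁
  have hPO := (isIso_pushoutSection_iff hY eV eW₁
    (rfl : pY₁ ⁻¹ᵁ W₁ ⊓ pY₂ ⁻¹ᵁ V = _)).mp hiso
  letI : Algebra Γ(Y₂, V) Γ(Y, pY₁ ⁻¹ᵁ W₁ ⊓ pY₂ ⁻¹ᵁ V) :=
    (pY₂.appLE V (pY₁ ⁻¹ᵁ W₁ ⊓ pY₂ ⁻¹ᵁ V) eV').hom.toAlgebra
  letI : Algebra Γ(Y₂, V) (X₂.presheaf.stalk (pZ₂ z)) :=
    ((f₂.stalkMap (pZ₂ z)).hom.comp (Y₂.presheaf.germ V (f₂ (pZ₂ z)) (eU hzU)).hom).toAlgebra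
  letI : Algebra Γ(S, S₀) Γ(Y₂, V) := (q₂.appLE S₀ V eV).hom.toAlgebra
  letI : Algebra Γ(S, S₀) Γ(Y₁, W₁) := (q₁.appLE S₀ W₁ eW₁).hom.toAlgebra
  letI : Algebra Γ(Y₁, W₁) Γ(Y, pY₁ ⁻¹ᵁ W₁ ⊓ pY₂ ⁻¹ᵁ V) :=
    (pY₁.appLE W₁ (pY₁ ⁻¹ᵁ W₁ ⊓ pY₂ ⁻¹ᵁ V) inf_le_left).hom.toAlgebra
  letI : Algebra Γ(S, S₀) Γ(Y, pY₁ ⁻¹ᵁ W₁ ⊓ pY₂ ⁻¹ᵁ V) :=
    ((algebraMap Γ(Y₂, V) Γ(Y, pY₁ ⁻¹ᵁ W₁ ⊓ pY₂ ⁻¹ᵁ V)).comp
      (algebraMap Γ(S, S₀) Γ(Y₂, V))).toAlgebra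
  letI : Algebra Γ(S, S₀) (X₂.presheaf.stalk (pZ₂ z)) :=
    ((algebraMap Γ(Y₂, V) (X₂.presheaf.stalk (pZ₂ z))).comp
      (algebraMap Γ(S, S₀) Γ(Y₂, V))).toAlgebra
  haveI : IsScalarTower Γ(S, S₀) Γ(Y₂, V) (X₂.presheaf.stalk (pZ₂ z)) :=
    .of_algebraMap_eq' rfl
  haveI : IsScalarTower Γ(S, S₀) Γ(Y₂, V) Γ(Y, pY₁ ⁻¹ᵁ W₁ ⊓ pY₂ ⁻¹ᵁ V) :=
    .of_algebraMap_eq' rfl
  haveI : IsScalarTower Γ(S, S₀) Γ(Y₁, W₁) Γ(Y, pY₁ ⁻¹ᵁ W₁ ⊓ pY₂ ⁻¹ᵁ V) :=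
    .of_algebraMap_eq' (congrArg CommRingCat.Hom.hom hPO.w.symm)
  haveI : Algebra.IsPushout Γ(S, S₀) Γ(Y₂, V) Γ(Y₁, W₁) Γ(Y, pY₁ ⁻¹ᵁ W₁ ⊓ pY₂ ⁻¹ᵁ V) :=
    (CommRingCat.isPushout_iff_isPushout (R := Γ(S, S₀)) (R' := Γ(Y₂, V)) (S := Γ(Y₁, W₁))
      (S' := Γ(Y, pY₁ ⁻¹ᵁ W₁ ⊓ pY₂ ⁻¹ᵁ V))).1 hPO.flip
  haveI : Module.Flat Γ(S, S₀) Γ(Y₂, V) := Scheme.Hom.flat_appLE q₂ hS₀ hV eV
  haveI : Module.Flat Γ(S, S₀) (X₂.presheaf.stalk (pZ₂ z)) := by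
    have h1 : algebraMap Γ(S, S₀) (X₂.presheaf.stalk (pZ₂ z)) =
        ((f₂ ≫ q₂).stalkMap (pZ₂ z)).hom.comp
          (S.presheaf.germ S₀ ((f₂ ≫ q₂) (pZ₂ z)) (eV (eU hzU))).hom := by
      have h2 := germ_stalkMap_appLE q₂ S₀ V eV (f₂ (pZ₂ z)) (eU hzU)
      rw [Scheme.Hom.stalkMap_comp]
      change ((f₂.stalkMap (pZ₂ z)).hom.comp
        (Y₂.presheaf.germ V (f₂ (pZ₂ z)) (eU hzU)).hom).comp (q₂.appLE S₀ V eV).hom = _
      rw [RingHom.comp_assoc, ← CommRingCat.hom_comp, ← h2]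
      rfl
    have h3 : (algebraMap Γ(S, S₀) (X₂.presheaf.stalk (pZ₂ z))).Flat := by
      rw [h1]
      exact RingHom.Flat.comp (flat_germ hS₀ _ _) (Flat.stalkMap (f₂ ≫ q₂) (pZ₂ z))
    exact h3
  intro p hp
  exact subsingleton_tor_of_pushout Γ(S, S₀) Γ(Y₂, V) (X₂.presheaf.stalk (pZ₂ z)) Γ(Y₁, W₁)
    Γ(Y, pY₁ ⁻¹ᵁ W₁ ⊓ pY₂ ⁻¹ᵁ V) p hp
    (ModuleCat.subsingleton_of_isZero
      (Groth.Agent.Helper13Tor.isZero_tor_of_flat (ModuleCat.of Γ(S, S₀) Γ(Y₁, W₁))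
        (ModuleCat.of Γ(S, S₀) (X₂.presheaf.stalk (pZ₂ z))) p hp))

end Sch

end Groth.Agent.Lib.T2H1.TorDimBC
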