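import Mathlib
import Groth.Agent.Lib.T2H1UCCore

/-!
# Separating a point from the image of a closed set after a locally finitely presented base change
(helper1)
-/

set_option autoImplicit false
universe u
open CategoryTheory CategoryTheory.Limits AlgebraicGeometry TopologicalSpace
open AlgSp

namespace Groth.Agent.Lib.T2H1.UCSep

open Groth.Agent.Lib.T2H1.UCCore

variable {S : Scheme.{u}}

/-- **separation over an affine space.** Over an affine base `V'`, for `f' : X' ⟶ h_{V'}` whose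
source has an affine étale surjective chart, a closed set `C` of the base change of `f'` to an affine
`W` and a point `v` of `W` outside the image of `C`: there is a map `s : W ⟶ 𝔸ⁿ_{V'}` such that in
every base change of `f'` to `𝔸ⁿ_{V'}` there is a closed set containing the image of `C` whose image
misses `s v`. -/
theorem exists_separation {V' U W : Over S} [IsAffine V'.left] [IsAffine U.left]
    [IsAffine W.left] {X' : AlgSp.Sp S} (f' : X' ⟶ (AlgSp.yon S).obj V')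
    (π : (AlgSp.yon S).obj U ⟶ X') (hπe : AlgSp.RepWith @Etale π)
    (hπs : AlgSp.RepWith @Surjective π)
    (t : W ⟶ V') {PW : AlgSp.Sp S} (aW : PW ⟶ X') (sndW : PW ⟶ (AlgSp.yon S).obj W)
    (sq : IsPullback aW sndW f' ((AlgSp.yon S).map t))
    (C : Set (AlgSp.Points PW)) (hC : IsClosed C) (v : ↥W.left)
    (hv : AlgSp.Points.schemeHomeo W v ∉ AlgSp.Points.map sndW '' C) :
    ∃ (n : ℕ) (s : W ⟶ Over.mk ((𝔸(ULift.{u} (Fin n); V'.left) ↘ V'.left) ≫ V'.hom)),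
      s ≫ (Over.homMk (𝔸(ULift.{u} (Fin n); V'.left) ↘ V'.left) :
        Over.mk ((𝔸(ULift.{u} (Fin n); V'.left) ↘ V'.left) ≫ V'.hom) ⟶ V') = t ∧
      ∀ (P₁ : AlgSp.Sp S) (a₁ : P₁ ⟶ X')
        (snd₁ : P₁ ⟶ (AlgSp.yon S).obj
          (Over.mk ((𝔸(ULift.{u} (Fin n); V'.left) ↘ V'.left) ≫ V'.hom))),
        IsPullback a₁ snd₁ f'
          ((AlgSp.yon S).map (Over.homMk (𝔸(ULift.{u} (Fin n); V'.left) ↘ V'.left))) →
        ∃ T' : Set (AlgSp.Points P₁), IsClosed T' ∧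
          AlgSp.Points.schemeHomeo _ (s.left v) ∉ AlgSp.Points.map snd₁ '' T' ∧
          ∀ aP : PW ⟶ P₁, aP ≫ a₁ = aW → aP ≫ snd₁ = sndW ≫ (AlgSp.yon S).map s →
            ∀ c ∈ C, AlgSp.Points.map aP c ∈ T' := by
  obtain ⟨h, hh⟩ := (AlgSp.yon S).map_surjective (π ≫ f')
  obtain ⟨UZ, p₁, p₂, sqU, sqU'⟩ := exists_over_pullback h t
  obtain ⟨πZ, hπZ₁, hπZ₂, sqπZ⟩ := exists_chart_lift f' π h hh.symm t aW sndW sq p₁ p₂ sqU
  have hπZs : AlgSp.RepWith @Surjective πZ :=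
    MorphismProperty.of_isPullback (P := AlgSp.RepWith @Surjective) sqπZ.flip hπs
  haveI : IsAffine UZ.left := IsAffine.of_isPullback sqU'
  have hsndπ : ∀ u : ↥UZ.left, AlgSp.Points.map sndW (AlgSp.Points.ofPt πZ u) =
      AlgSp.Points.schemeHomeo W (p₂.left u) := by
    intro u
    rw [AlgSp.Points.map_ofPt, hπZ₂, ofPt_yon_map]
  let F : Set ↥UZ.left := p₂.left ⁻¹' {v}
  have hF : IsCompact F := QuasiCompact.isCompact_preimage_singleton p₂.left v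
  let C' : Set ↥UZ.left := AlgSp.Points.ofPt πZ ⁻¹' C
  have hC' : IsClosed C' := hC.preimage (AlgSp.Points.continuous_ofPt πZ)
  have hFC : Disjoint F C' := by
    rw [Set.disjoint_left]
    intro u huF huC
    refine hv ⟨AlgSp.Points.ofPt πZ u, huC, ?_⟩
    rw [hsndπ u]
    exact congrArg _ huF
  obtain ⟨n, s, hs, Hsep⟩ := UCAlg.exists_affineSpace_separation sqU' F C' hF hC' hFC
  let Z₁ : Over S := Over.mk ((𝔸(ULift.{u} (Fin n); V'.left) ↘ V'.left) ≫ V'.hom)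
  let τ : Z₁ ⟶ V' := Over.homMk (𝔸(ULift.{u} (Fin n); V'.left) ↘ V'.left) rfl
  let s' : W ⟶ Z₁ := Over.homMk s (by
    change s ≫ (𝔸(ULift.{u} (Fin n); V'.left) ↘ V'.left) ≫ V'.hom = W.hom
    rw [reassoc_of% hs, Over.w t])
  have hs' : s' ≫ τ = t := by
    ext
    exact hs
  refine ⟨n, s', hs', fun P₁ a₁ snd₁ sq₁ => ?_⟩
  have haPw : aW ≫ f' = (sndW ≫ (AlgSp.yon S).map s') ≫ (AlgSp.yon S).map τ := by
    rw [sq.w, Category.assoc, ← Functor.map_comp, hs']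
  have haP₁ : sq₁.lift aW (sndW ≫ (AlgSp.yon S).map s') haPw ≫ a₁ = aW := sq₁.lift_fst _ _ _
  have haP₂ : sq₁.lift aW (sndW ≫ (AlgSp.yon S).map s') haPw ≫ snd₁ =
      sndW ≫ (AlgSp.yon S).map s' := sq₁.lift_snd _ _ _
  have sqP : IsPullback (sq₁.lift aW (sndW ≫ (AlgSp.yon S).map s') haPw) sndW snd₁
      ((AlgSp.yon S).map s') := by
    refine IsPullback.of_right ?_ haP₂ sq₁
    rw [haP₁, ← Functor.map_comp, hs']
    exact sq
  obtain ⟨U₀, q₁, q₂, sqU₀, sqU₀'⟩ := exists_over_pullback h τ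
  obtain ⟨π₁, hπ₁₁, hπ₁₂, sqπ₁⟩ := exists_chart_lift f' π h hh.symm τ _ _ sq₁ q₁ q₂ sqU₀
  have hπ₁e : AlgSp.RepWith @Etale π₁ :=
    MorphismProperty.of_isPullback (P := AlgSp.RepWith @Etale) sqπ₁.flip hπe
  have hmw : p₁ ≫ h = (p₂ ≫ s') ≫ τ := by rw [sqU.w, Category.assoc, hs']
  have hm₁ : sqU₀.lift p₁ (p₂ ≫ s') hmw ≫ q₁ = p₁ := sqU₀.lift_fst _ _ _
  have hm₂ : sqU₀.lift p₁ (p₂ ≫ s') hmw ≫ q₂ = p₂ ≫ s' := sqU₀.lift_snd _ _ _
  have hmπ : (AlgSp.yon S).map (sqU₀.lift p₁ (p₂ ≫ s') hmw) ≫ π₁ =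
      πZ ≫ sq₁.lift aW (sndW ≫ (AlgSp.yon S).map s') haPw := by
    apply sq₁.hom_ext
    · rw [Category.assoc, hπ₁₁, Category.assoc, haP₁, hπZ₁, ← Category.assoc, ← Functor.map_comp, hm₁]
    · rw [Category.assoc, hπ₁₂, Category.assoc, haP₂, ← Category.assoc, hπZ₂, ← Functor.map_comp,
        ← Functor.map_comp, hm₂]
  have sqm : IsPullback ((AlgSp.yon S).map (sqU₀.lift p₁ (p₂ ≫ s') hmw)) πZ π₁
      (sq₁.lift aW (sndW ≫ (AlgSp.yon S).map s') haPw) := by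
    refine IsPullback.of_right ?_ hmπ sqπ₁.flip
    rw [← Functor.map_comp, hm₁, haP₁]
    exact sqπZ.flip
  obtain ⟨W₀, hFW, hWC⟩ := Hsep U₀.left q₁.left q₂.left (sqU₀.lift p₁ (p₂ ≫ s') hmw).left
    (by rw [← Over.comp_left, hm₁]) (by rw [← Over.comp_left, hm₂]; rfl)
  refine ⟨(AlgSp.Points.ofPt π₁ '' (W₀ : Set ↥U₀.left))ᶜ,
    (Groth.Agent.S10176.isOpenMap_ofPt π₁ hπ₁e _ W₀.2).isClosed_compl, ?_, ?_⟩
  · rintro ⟨c₁, hc₁, hc₁z⟩
    have e1 : AlgSp.Points.map snd₁ c₁ = AlgSp.Points.map ((AlgSp.yon S).map s')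
        (AlgSp.Points.schemeHomeo W v) := by
      rw [hc₁z, AlgSp.Points.map_yon_map_apply]
    obtain ⟨c, hc, hcz⟩ := Groth.Agent.S10175.exists_point_of_isPullback sqP c₁ _ e1
    obtain ⟨u, rfl⟩ := Groth.Agent.S10177.surjective_ofPt πZ hπZs c
    have huF : u ∈ F := by
      rw [hsndπ u] at hcz
      exact (AlgSp.Points.schemeHomeo W).injective hcz
    refine hc₁ ⟨(sqU₀.lift p₁ (p₂ ≫ s') hmw).left u, hFW huF, ?_⟩
    rw [← Groth.Agent.S10176.ofPt_map_comp, hmπ, ← AlgSp.Points.map_ofPt, hc]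
  · intro aP haP1 haP2 c hcC
    have haPeq : aP = sq₁.lift aW (sndW ≫ (AlgSp.yon S).map s') haPw := by
      apply sq₁.hom_ext
      · rw [haP1, haP₁]
      · rw [haP2, haP₂]
    subst haPeq
    rintro ⟨w, hw, hwc⟩
    obtain ⟨p, hp1, hp2⟩ := Groth.Agent.S10175.exists_point_of_isPullback sqm
      (AlgSp.Points.ofScheme U₀ w) c (by rw [← AlgSp.Points.ofPt_eq_map_ofScheme]; exact hwc)
    obtain ⟨u, rfl⟩ := (AlgSp.Points.schemeHomeo UZ).surjective p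
    have hu1 : (sqU₀.lift p₁ (p₂ ≫ s') hmw).left u = w := by
      apply (AlgSp.Points.schemeHomeo U₀).injective
      rw [← AlgSp.Points.map_yon_map_apply]
      exact hp1
    have hu2 : AlgSp.Points.ofPt πZ u = c := by
      rw [AlgSp.Points.ofPt_eq_map_ofScheme]
      exact hp2
    have : u ∈ C'ᶜ := hWC (by rw [Set.mem_preimage, hu1]; exact hw)
    exact this (by change AlgSp.Points.ofPt πZ u ∈ C; rw [hu2]; exact hcC)

/-- every map from a scheme to a sheaf with a given étale surjective chart `V` factors, étale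
locally on the source, through affine opens of `V`. -/
theorem exists_refinement_atlas_etale {Y : AlgSp.Sp S} {T V : Over S}
    (c : (AlgSp.yon S).obj T ⟶ Y) (p : (AlgSp.yon S).obj V ⟶ Y) (hpe : AlgSp.RepWith @Etale p)
    (hps : AlgSp.RepWith @Surjective p) (x : ↥T.left) :
    ∃ (W : Over S) (d : W ⟶ T) (V' : V.left.Opens) (h : W ⟶ Over.mk (V'.ι ≫ V.hom)),
      IsAffine W.left ∧ IsAffineOpen V' ∧ Etale d.left ∧ x ∈ Set.range d.left ∧
        (AlgSp.yon S).map d ≫ c = (AlgSp.yon S).map h ≫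
          (AlgSp.yon S).map (Over.homMk V'.ι rfl : Over.mk (V'.ι ≫ V.hom) ⟶ V) ≫ p := by
  obtain ⟨U₀, w₀, pr, sq⟩ := hpe.1 c
  obtain ⟨v₀, rfl⟩ := (AlgSp.yon S).map_surjective pr
  haveI : Etale w₀.left := hpe.2 c _ w₀ sq
  haveI : Surjective w₀.left := hps.2 c _ w₀ sq
  obtain ⟨t, rfl⟩ := w₀.left.surjective x
  obtain ⟨_, ⟨Wt₀, hWt, rfl⟩, htW, -⟩ :=
    V.left.isBasis_affineOpens.exists_subset_of_mem_open (Set.mem_univ (v₀.left t)) isOpen_univ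
  obtain ⟨Wt, hWt₀⟩ : ∃ Wt : V.left.Opens, Wt = Wt₀ := ⟨Wt₀, rfl⟩
  subst hWt₀
  obtain ⟨_, ⟨Ut₀, hUt, rfl⟩, htU, hUW⟩ :=
    U₀.left.isBasis_affineOpens.exists_subset_of_mem_open
      (show t ∈ ((v₀.left ⁻¹ᵁ Wt : U₀.left.Opens) : Set U₀.left) from htW)
      (v₀.left ⁻¹ᵁ Wt).2
  obtain ⟨Ut, hUt₀⟩ : ∃ Ut : U₀.left.Opens, Ut = Ut₀ := ⟨Ut₀, rfl⟩
  subst hUt₀
  let A' : Over S := Over.mk (Ut.ι ≫ U₀.hom)
  let ιU : A' ⟶ U₀ := Over.homMk Ut.ι rfl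
  let ιW : Over.mk (Wt.ι ≫ V.hom) ⟶ V := Over.homMk Wt.ι rfl
  have hrange : Set.range (Ut.ι ≫ v₀.left) ⊆ Set.range Wt.ι := by
    rintro _ ⟨y, rfl⟩
    rw [Scheme.Opens.range_ι]
    exact hUW y.2
  let h₀ : (Ut : Scheme.{u}) ⟶ (Wt : Scheme.{u}) := IsOpenImmersion.lift Wt.ι (Ut.ι ≫ v₀.left) hrange
  have hh₀ : h₀ ≫ Wt.ι = Ut.ι ≫ v₀.left := IsOpenImmersion.lift_fac _ _ _
  let h : A' ⟶ Over.mk (Wt.ι ≫ V.hom) := Over.homMk h₀ (by
    change h₀ ≫ Wt.ι ≫ V.hom = Ut.ι ≫ U₀.hom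
    rw [reassoc_of% hh₀, Over.w v₀])
  have hhι : h ≫ ιW = ιU ≫ v₀ := by
    ext
    exact hh₀
  refine ⟨A', ιU ≫ w₀, Wt, h, hUt, hWt, ?_, ⟨⟨t, htU⟩, rfl⟩, ?_⟩
  · rw [Over.comp_left]
    exact (inferInstance : Etale (Ut.ι ≫ w₀.left))
  · rw [Functor.map_comp, Category.assoc, ← sq.w, ← Category.assoc, ← Functor.map_comp, ← hhι,
      Functor.map_comp, Category.assoc]

end Groth.Agent.Lib.T2H1.UCSep
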