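import Mathlib
import Groth.Prelude.Def_W4decUnivBdd
import Groth.Agent.Lib.T2H1UnivBddEt
import Groth.Agent.S10424
import Groth.Agent.S10177

/-! # Universally bounded fibres: étale local criteria (helper1, team 2) -/

set_option autoImplicit false
universe u
open CategoryTheory CategoryTheory.Limits AlgebraicGeometry TopologicalSpace TensorProduct

namespace Groth.Agent.Lib.T2H1.UnivBdd

variable {S : Scheme.{u}}

/-- flat, open, jointly surjective local criterion on a quasi-compact source. -/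
theorem hasUnivBddFibres_of_flat_open_cover {F : AlgSp.Sp S} {V : Over S} [CompactSpace ↥V.left]
    (ψ : (AlgSp.yon S).obj V ⟶ F)
    (h : ∀ v : ↥V.left, ∃ (W : Over S) (k : W ⟶ V) (n : ℕ), Flat k.left ∧
      IsOpen (Set.range k.left) ∧ v ∈ Set.range k.left ∧
      W4dec.DegFibresLE n ((AlgSp.yon S).map k ≫ ψ)) :
    W4dec.HasUnivBddFibres ψ := by
  classical
  choose W k n hflat hopen hmem hn using h
  obtain ⟨Fs, hFs⟩ := isCompact_univ.elim_finite_subcover (fun v => Set.range (k v).left)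
    hopen (fun v _ => Set.mem_iUnion.2 ⟨v, hmem v⟩)
  refine ⟨∑ l : ↥Fs, n l.1, ?_⟩
  haveI : ∀ l : ↥Fs, Flat (k l.1).left := fun l => hflat l.1
  refine degFibresLE_of_flat_cover ψ (fun l : ↥Fs => W l.1) (fun l => k l.1) ?_
    (fun l => n l.1) (fun l => hn l.1)
  intro v
  have hv := hFs (Set.mem_univ v)
  simp only [Set.mem_iUnion] at hv
  obtain ⟨v0, hv0, w, hw⟩ := hv
  exact ⟨⟨v0, hv0⟩, w, hw⟩

/-- base change of `DegFibresLE` along an arbitrary morphism of sheaves. -/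
theorem degFibresLE_baseChange' {F G : AlgSp.Sp S} (f : G ⟶ F) {U P : Over S}
    {a : (AlgSp.yon S).obj U ⟶ F} {a' : (AlgSp.yon S).obj P ⟶ G}
    {p2 : (AlgSp.yon S).obj P ⟶ (AlgSp.yon S).obj U} (hpb : IsPullback a' p2 f a) {n : ℕ}
    (h : W4dec.DegFibresLE n a) : W4dec.DegFibresLE n a' := by
  intro q T c snd hq
  have h1 := hq.paste_vert hpb
  exact h (q.map f) T c (snd ≫ p2) (by rw [AlgSp.FieldPt.toHom_map]; exact h1)

/-- the local datum around a point of an étale correspondence. -/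
theorem exists_local_chart (X : AlgSp.Space S) {V U' P : Over S} (ψ : (AlgSp.yon S).obj V ⟶ X.obj)
    (g : (AlgSp.yon S).obj U' ⟶ X.obj) (hg : W4dec.HasUnivBddFibres g) (p1 : P ⟶ V) (p2 : P ⟶ U')
    [Etale p1.left] [Etale p2.left]
    (hcomm : (AlgSp.yon S).map p2 ≫ g = (AlgSp.yon S).map p1 ≫ ψ) (p0 : ↥P.left) :
    ∃ (W : Over S) (k : W ⟶ V) (n : ℕ), Flat k.left ∧ IsOpen (Set.range k.left) ∧
      p1.left p0 ∈ Set.range k.left ∧ W4dec.DegFibresLE n ((AlgSp.yon S).map k ≫ ψ) := by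
  obtain ⟨_, ⟨W', hW', rfl⟩, hpW, -⟩ := (P.left.isBasis_affineOpens).exists_subset_of_mem_open
    (Set.mem_univ p0) isOpen_univ
  let W₀ : P.left.Opens := W'
  let WO : Over S := Over.mk (W₀.ι ≫ P.hom)
  let kW : WO ⟶ P := Over.homMk W₀.ι rfl
  haveI : IsAffine WO.left := hW'
  haveI : CompactSpace ↥WO.left := inferInstance
  haveI : Etale (kW ≫ p2).left := by
    show Etale (W₀.ι ≫ p2.left); infer_instance
  haveI : Etale (kW ≫ p1).left := by
    show Etale (W₀.ι ≫ p1.left); infer_instance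
  have h1 := hasUnivBddFibres_of_etale_of_compact (kW ≫ p2)
  obtain ⟨n, hn⟩ := Groth.Agent.S10424.result X (kW ≫ p2) g h1 hg
  refine ⟨WO, kW ≫ p1, n, inferInstance, ?_, ⟨⟨p0, hpW⟩, rfl⟩, ?_⟩
  · exact (kW ≫ p1).left.isOpenMap.isOpen_range
  · have e : (AlgSp.yon S).map (kW ≫ p2) ≫ g = (AlgSp.yon S).map (kW ≫ p1) ≫ ψ := by
      rw [Functor.map_comp, Functor.map_comp, Category.assoc, Category.assoc, hcomm]
    rw [← e]
    exact hn

end Groth.Agent.Lib.T2H1.UnivBdd
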