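import Mathlib
import Groth.Prelude.Def_AlgSpInf
import Groth.Agent.Lib.T2H1FormalDescent
import Groth.Agent.Lib.T2H1FormalCharts
import Groth.Agent.S9906

/-!
# Étale descent of universal first order thickenings (helper1)
-/

set_option autoImplicit false
universe u
open CategoryTheory CategoryTheory.Limits AlgebraicGeometry Opposite
open AlgSp

namespace Groth.Agent.Lib.T2H1.UnivDescent

open Groth.Agent.Lib.T2H1.Descend Groth.Agent.Lib.T2H1.FormalDescent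

variable {S : Scheme.{u}}

/-- unique lifting along formally étale morphisms for first order thickenings of algebraic
spaces. -/
lemma formallyEtale_lift {X Y T T' : AlgSp.Sp S} (f : X ⟶ Y) (hf : AlgSp.IsFormallyEtaleMor f)
    (hT' : AlgSp.IsAlgSpace T') (j : T ⟶ T') (hj : AlgSp.IsFOThickMor j) (a : T ⟶ X) (b : T' ⟶ Y)
    (w : a ≫ f = j ≫ b) : ∃! l : T' ⟶ X, j ≫ l = a ∧ l ≫ f = b :=
  lift_existsUnique_of_charts (j := j) (f := f) (a := a) (b := b) hT'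
    (fun c => isLocLift_existsUnique hf hj w c)

/-- on an affine étale chart of a first order thickening, the universal lifting problem is a
lifting problem of standard form. -/
theorem exists_infSq_of_chart_univ {T T' Z Z' X : AlgSp.Sp S} {j : T ⟶ T'} (h : Z ⟶ X)
    (i : Z ⟶ Z') (h' : Z' ⟶ X) {a : T ⟶ Z} {b : T' ⟶ X}
    (hj : AlgSp.IsFOThickMor j) (w : j ≫ b = a ≫ h) (c : AffChart T') :
    ∃ (sq : AlgSp.InfSq h) (e : sq.ptT' ≅ c.V),
      (∀ l : (AlgSp.yon S).obj c.V ⟶ Z', IsLocLift j h' (a ≫ i) b c.β l →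
        (AlgSp.yon S).map sq.j ≫ ((AlgSp.yon S).map e.hom ≫ l) = sq.top ≫ i ∧
          ((AlgSp.yon S).map e.hom ≫ l) ≫ h' = sq.bot) ∧
      (∀ l₀ : (AlgSp.yon S).obj sq.ptT' ⟶ Z', (AlgSp.yon S).map sq.j ≫ l₀ = sq.top ≫ i →
        l₀ ≫ h' = sq.bot → IsLocLift j h' (a ≫ i) b c.β ((AlgSp.yon S).map e.inv ≫ l₀)) := by
  obtain ⟨W, snd, fst, psq⟩ := hj.1.1 c.β
  have hcl : IsClosedImmersion snd.left := (hj.1.2 c.β fst snd psq).1
  have hsq : snd.left.ker * snd.left.ker = ⊥ := hj.2 c.β fst snd c.aff c.et psq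
  obtain ⟨A, _, I, hI, str, eV, eW, hcomp⟩ := AffThick.exists_infSq_data snd c.aff hcl hsq
  have hcomm : ((AlgSp.yon S).map eW.hom ≫ fst ≫ a) ≫ h =
      (AlgSp.yon S).map (Over.homMk (Spec.map (CommRingCat.ofHom (Ideal.Quotient.mk I))) rfl :
        Over.mk (Spec.map (CommRingCat.ofHom (Ideal.Quotient.mk I)) ≫ str) ⟶ Over.mk str) ≫
        ((AlgSp.yon S).map eV.hom ≫ c.β ≫ b) := by
    rw [← Category.assoc ((AlgSp.yon S).map _) ((AlgSp.yon S).map eV.hom), ← Functor.map_comp,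
      ← hcomp, Functor.map_comp]
    simp only [Category.assoc]
    rw [← w, ← Category.assoc fst, psq.w]
    simp only [Category.assoc]
  let sq : AlgSp.InfSq h :=
    { A := A
      I := I
      sq_zero := hI
      str := str
      top := (AlgSp.yon S).map eW.hom ≫ fst ≫ a
      bot := (AlgSp.yon S).map eV.hom ≫ c.β ≫ b
      comm := hcomm }
  have hcomp' : eW.hom ≫ snd = sq.j ≫ eV.hom := hcomp
  refine ⟨sq, eV, fun l hl => ?_, fun l₀ h1 h2 => ?_⟩
  · rw [isLocLift_iff_of_isPullback psq] at hl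
    refine ⟨?_, ?_⟩
    · change (AlgSp.yon S).map sq.j ≫ ((AlgSp.yon S).map eV.hom ≫ l) =
        ((AlgSp.yon S).map eW.hom ≫ fst ≫ a) ≫ i
      rw [← Category.assoc, ← Functor.map_comp, ← hcomp', Functor.map_comp, Category.assoc, hl.1]
      simp only [Category.assoc]
    · change ((AlgSp.yon S).map eV.hom ≫ l) ≫ h' = (AlgSp.yon S).map eV.hom ≫ c.β ≫ b
      rw [Category.assoc, hl.2]
  · rw [isLocLift_iff_of_isPullback psq]
    have h1' : (AlgSp.yon S).map sq.j ≫ l₀ = ((AlgSp.yon S).map eW.hom ≫ fst ≫ a) ≫ i := h1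
    have h2' : l₀ ≫ h' = (AlgSp.yon S).map eV.hom ≫ c.β ≫ b := h2
    have hinv : snd ≫ eV.inv = eW.inv ≫ sq.j := by
      rw [Iso.eq_inv_comp, ← Category.assoc, hcomp', Category.assoc, Iso.hom_inv_id,
        Category.comp_id]
    refine ⟨?_, ?_⟩
    · rw [← Category.assoc, ← Functor.map_comp, hinv, Functor.map_comp, Category.assoc, h1']
      simp only [Category.assoc]
      rw [← Category.assoc, ← Functor.map_comp, Iso.inv_hom_id, CategoryTheory.Functor.map_id,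
        Category.id_comp]
    · rw [Category.assoc, h2', ← Category.assoc, ← Functor.map_comp, Iso.inv_hom_id,
        CategoryTheory.Functor.map_id, Category.id_comp]

section Main

variable {Z Y Z' Y' X : AlgSp.Sp S} (e : Z ⟶ Y) (hY : Y ⟶ X) (iZ : Z ⟶ Z') (iY : Y ⟶ Y')
  (f' : Z' ⟶ Y') (hY' : Y' ⟶ X)

include e hY iZ iY f' hY' in
/-- where the map to `Y` lifts to `Z`, the universal lifting problem for `Y'` has exactly one
solution. -/
lemma loc_existsUnique (hf' : AlgSp.IsFormallyEtaleMor f') (w : iZ ≫ f' = e ≫ iY)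
    (HU : AlgSp.IsUnivFOThick (e ≫ hY) iZ (f' ≫ hY'))
    {T₀ T₀' : AlgSp.Sp S} (hT₀ : AlgSp.IsAlgSpace T₀) (hT₀' : AlgSp.IsAlgSpace T₀')
    (j₀ : T₀ ⟶ T₀') (hj₀ : AlgSp.IsFOThickMor j₀) (a₀ : T₀ ⟶ Z) (b₀ : T₀' ⟶ X)
    (hc : j₀ ≫ b₀ = a₀ ≫ e ≫ hY) :
    ∃! a₀' : T₀' ⟶ Y', j₀ ≫ a₀' = a₀ ≫ e ≫ iY ∧ a₀' ≫ hY' = b₀ := by
  obtain ⟨ã, ⟨hã1, hã2⟩, hãu⟩ := HU.2.2 hT₀ hT₀' j₀ a₀ b₀ hj₀ hc
  refine ⟨ã ≫ f', ⟨?_, ?_⟩, ?_⟩
  · rw [← Category.assoc, hã1, Category.assoc, w]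
  · rw [Category.assoc]
    exact hã2
  · rintro a'' ⟨h1, h2⟩
    have hsq : (a₀ ≫ iZ) ≫ f' = j₀ ≫ a'' := by
      rw [Category.assoc, w, h1]
    obtain ⟨l, ⟨hl1, hl2⟩, -⟩ := formallyEtale_lift f' hf' hT₀' j₀ hj₀ (a₀ ≫ iZ) a'' hsq
    have : l = ã := hãu l ⟨hl1, by rw [← Category.assoc, hl2, h2]⟩
    rw [← hl2, this]

variable (hZ : AlgSp.IsAlgSpace Z) (he : AlgSp.IsEtaleMor e)
  (hes : Function.Surjective (AlgSp.Points.map e))
  (hf' : AlgSp.IsFormallyEtaleMor f') (w : iZ ≫ f' = e ≫ iY)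
  (HU : AlgSp.IsUnivFOThick (e ≫ hY) iZ (f' ≫ hY'))

include hZ he hes hf' w HU in
/-- uniqueness for test squares of standard form. -/
lemma std_unique (sq : AlgSp.InfSq hY) (l l' : (AlgSp.yon S).obj sq.ptT' ⟶ Y')
    (h1 : (AlgSp.yon S).map sq.j ≫ l = sq.top ≫ iY) (h2 : l ≫ hY' = sq.bot)
    (h3 : (AlgSp.yon S).map sq.j ≫ l' = sq.top ≫ iY) (h4 : l' ≫ hY' = sq.bot) : l = l' := by
  obtain ⟨UZ, pZ, hpe, hps⟩ := hZ.atlas
  have ha₀ : AlgSp.RepWith @Etale (pZ ≫ e) := he pZ hpe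
  have ha₀' : AlgSp.RepWith @Surjective (pZ ≫ e) := by
    refine Groth.Agent.S9906.repWith_surjective_of_surjective_map _ ha₀.1 (fun y => ?_)
    obtain ⟨z, hz⟩ := hes y
    obtain ⟨u, hu⟩ := Groth.Agent.S9906.surjective_map_of_repWith pZ hps z
    exact ⟨u, by rw [AlgSp.Points.map_comp, hu, hz]⟩
  obtain ⟨K, d, hd, hs, hτ⟩ := exists_chartLifts (pZ ≫ e) ha₀ ha₀' sq
  refine hom_ext_of_isCovFam (isCovFam_chartData sq d hd hs) l l' (fun k => ?_)
  obtain ⟨τ, hτa⟩ := hτ k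
  have hFO := isFOThickMor_infSq_j ((d k).infSq hY ((AlgSp.yon S).map (d k).γ ≫ sq.top)
    ((AlgSp.yon S).map (d k).β ≫ sq.bot) (by
      rw [Category.assoc, sq.comm, ← Category.assoc, ← Category.assoc, ← Functor.map_comp,
        ← Functor.map_comp, (d k).comm]))
  have hc : (AlgSp.yon S).map (d k).jV ≫ ((AlgSp.yon S).map (d k).β ≫ sq.bot) =
      (τ ≫ pZ) ≫ e ≫ hY := by
    rw [Category.assoc, ← Category.assoc pZ, ← Category.assoc τ, hτa, Category.assoc, sq.comm,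
      ← Category.assoc, ← Category.assoc, ← Functor.map_comp, ← Functor.map_comp, (d k).comm]
  have key : ∀ l₀ : (AlgSp.yon S).obj sq.ptT' ⟶ Y',
      (AlgSp.yon S).map sq.j ≫ l₀ = sq.top ≫ iY → l₀ ≫ hY' = sq.bot →
      (AlgSp.yon S).map (d k).jV ≫ ((AlgSp.yon S).map (d k).β ≫ l₀) = (τ ≫ pZ) ≫ e ≫ iY ∧
        ((AlgSp.yon S).map (d k).β ≫ l₀) ≫ hY' = (AlgSp.yon S).map (d k).β ≫ sq.bot := by
    intro l₀ e1 e2
    refine ⟨?_, by rw [Category.assoc, e2]⟩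
    rw [← Category.assoc, ← Functor.map_comp, ← (d k).comm, Functor.map_comp, Category.assoc, e1,
      Category.assoc, ← Category.assoc pZ, ← Category.assoc τ, hτa, Category.assoc]
  exact (loc_existsUnique e hY iZ iY f' hY' hf' w HU (AlgSp.IsAlgSpace.yon_obj _)
    (AlgSp.IsAlgSpace.yon_obj _) _ hFO (τ ≫ pZ) _ hc).unique (key l h1 h2) (key l' h3 h4)

include hZ he hes hf' w HU in
/-- existence and uniqueness for test squares of standard form. -/
lemma std_existsUnique (sq : AlgSp.InfSq hY) :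
    ∃! l : (AlgSp.yon S).obj sq.ptT' ⟶ Y',
      (AlgSp.yon S).map sq.j ≫ l = sq.top ≫ iY ∧ l ≫ hY' = sq.bot := by
  have hj := isFOThickMor_infSq_j sq
  have hw : (AlgSp.yon S).map sq.j ≫ sq.bot = sq.top ≫ hY := sq.comm.symm
  -- uniqueness on affine charts
  have hu : ∀ (c : AffChart ((AlgSp.yon S).obj sq.ptT')) (l l' : (AlgSp.yon S).obj c.V ⟶ Y'),
      IsLocLift ((AlgSp.yon S).map sq.j) hY' (sq.top ≫ iY) sq.bot c.β l →
      IsLocLift ((AlgSp.yon S).map sq.j) hY' (sq.top ≫ iY) sq.bot c.β l' → l = l' := by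
    intro c l l' hl hl'
    obtain ⟨sq', ε, g1, -⟩ := exists_infSq_of_chart_univ hY iY hY' hj hw c
    have := std_unique e hY iZ iY f' hY' hZ he hes hf' w HU sq' _ _ (g1 l hl).1 (g1 l hl).2
      (g1 l' hl').1 (g1 l' hl').2
    have h3 := congrArg (fun x => (AlgSp.yon S).map ε.inv ≫ x) this
    simp only [← Category.assoc, ← Functor.map_comp, Iso.inv_hom_id,
      CategoryTheory.Functor.map_id, Category.id_comp] at h3
    exact h3
  -- local existence
  obtain ⟨UZ, pZ, hpe, hps⟩ := hZ.atlas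
  have ha₀ : AlgSp.RepWith @Etale (pZ ≫ e) := he pZ hpe
  have ha₀' : AlgSp.RepWith @Surjective (pZ ≫ e) := by
    refine Groth.Agent.S9906.repWith_surjective_of_surjective_map _ ha₀.1 (fun y => ?_)
    obtain ⟨z, hz⟩ := hes y
    obtain ⟨u, hu⟩ := Groth.Agent.S9906.surjective_map_of_repWith pZ hps z
    exact ⟨u, by rw [AlgSp.Points.map_comp, hu, hz]⟩
  obtain ⟨K, d, hd, hs, hτ⟩ := exists_chartLifts (pZ ≫ e) ha₀ ha₀' sq
  have hloc : ∀ k, ∃ l : (AlgSp.yon S).obj (d k).V ⟶ Y',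
      IsLocLift ((AlgSp.yon S).map sq.j) hY' (sq.top ≫ iY) sq.bot
        ((AlgSp.yon S).map (d k).β) l := by
    intro k
    obtain ⟨τ, hτa⟩ := hτ k
    have hFO := isFOThickMor_infSq_j ((d k).infSq hY ((AlgSp.yon S).map (d k).γ ≫ sq.top)
      ((AlgSp.yon S).map (d k).β ≫ sq.bot) (by
        rw [Category.assoc, sq.comm, ← Category.assoc, ← Category.assoc, ← Functor.map_comp,
          ← Functor.map_comp, (d k).comm]))
    have hc : (AlgSp.yon S).map (d k).jV ≫ ((AlgSp.yon S).map (d k).β ≫ sq.bot) =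
        (τ ≫ pZ) ≫ e ≫ hY := by
      rw [Category.assoc, ← Category.assoc pZ, ← Category.assoc τ, hτa, Category.assoc, sq.comm,
        ← Category.assoc, ← Category.assoc, ← Functor.map_comp, ← Functor.map_comp, (d k).comm]
    obtain ⟨m, ⟨hm1, hm2⟩, -⟩ := loc_existsUnique e hY iZ iY f' hY' hf' w HU
      (AlgSp.IsAlgSpace.yon_obj _) (AlgSp.IsAlgSpace.yon_obj _) _ hFO (τ ≫ pZ) _ hc
    refine ⟨m, (isLocLift_iff_of_isPullback (d k).isPullback m).2 ⟨?_, hm2⟩⟩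
    rw [hm1, Category.assoc, ← Category.assoc pZ, ← Category.assoc τ, hτa, Category.assoc]
  choose l hl using hloc
  have het : ∀ k, AlgSp.RepWith @Etale ((AlgSp.yon S).map (d k).β) := fun k =>
    (AlgSp.repWith_yon_map_iff @Etale _).2
      ((HasRingHomProperty.Spec_iff (P := @Etale)).2 (hd k))
  obtain ⟨L, hL1, hL2⟩ := lift_exists_of_covFam hu (fun k => (d k).V)
    (fun k => (AlgSp.yon S).map (d k).β) het (isCovFam_chartData sq d hd hs) l hl
  exact ⟨L, ⟨hL1, hL2⟩, fun L' hL' =>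
    std_unique e hY iZ iY f' hY' hZ he hes hf' w HU sq L' L hL'.1 hL'.2 hL1 hL2⟩

include hZ he hes hf' w HU in
/-- étale descent of universal first order thickenings. -/
theorem isUnivFOThick_descend (hiY : AlgSp.IsFOThickMor iY) (w' : iY ≫ hY' = hY) :
    AlgSp.IsUnivFOThick hY iY hY' := by
  refine ⟨hiY, w', ?_⟩
  intro T T' _ hT' j a b hj hjb
  refine lift_existsUnique_of_charts (j := j) (f := hY') (a := a ≫ iY) (b := b) hT' (fun c => ?_)
  obtain ⟨sq, ε, g1, g2⟩ := exists_infSq_of_chart_univ hY iY hY' hj hjb c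
  obtain ⟨l₀, hl₀, hu⟩ := std_existsUnique e hY iZ iY f' hY' hZ he hes hf' w HU sq
  refine ⟨(AlgSp.yon S).map ε.inv ≫ l₀, g2 l₀ hl₀.1 hl₀.2, fun l hl => ?_⟩
  have := hu _ (g1 l hl)
  rw [← this, ← Category.assoc, ← Functor.map_comp, Iso.inv_hom_id,
    CategoryTheory.Functor.map_id, Category.id_comp]

end Main

end Groth.Agent.Lib.T2H1.UnivDescent
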