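import Mathlib
import Groth.Prelude.Def_AlgSpInf
import Groth.Agent.Lib.T2H1FOThickBC
import Groth.Agent.Lib.T2H1FormalDescent

/-!
# Universal first order thickenings of algebraic spaces (helper1)
-/

set_option autoImplicit false
universe u
open CategoryTheory CategoryTheory.Limits AlgebraicGeometry Opposite
open AlgSp

namespace Groth.Agent.Lib.T2H1.UnivThick

open Groth.Agent.Lib.T2H1.FOThickBC Groth.Agent.Lib.T2H1.FOThickSch
  Groth.Agent.Lib.T2H1.SmoothLift Groth.Agent.Lib.T2H1.FormalDescent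

variable {S : Scheme.{u}}

/-- if `Spec (A ⧸ I) ⟶ Spec A` has square zero kernel then `I ^ 2 = ⊥`. -/
lemma sq_eq_bot_of_ker {A : Type u} [CommRing A] (I : Ideal A)
    (h : (Spec.map (CommRingCat.ofHom (Ideal.Quotient.mk I))).ker *
      (Spec.map (CommRingCat.ofHom (Ideal.Quotient.mk I))).ker = ⊥) : I ^ 2 = ⊥ := by
  have h1 := congr(($h).ideal ⟨⊤, isAffineOpen_top (Spec (.of A))⟩)
  rw [Scheme.IdealSheafData.ideal_mul, Pi.mul_apply, Scheme.Hom.ker_apply,
    Scheme.IdealSheafData.ideal_bot, Pi.bot_apply] at h1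
  have nat := Scheme.ΓSpecIso_naturality (CommRingCat.ofHom (Ideal.Quotient.mk I))
  have hinj : Function.Injective (Scheme.ΓSpecIso (CommRingCat.of (A ⧸ I))).hom :=
    (ConcreteCategory.bijective_of_isIso (Scheme.ΓSpecIso (CommRingCat.of (A ⧸ I))).hom).1
  have hmem : ∀ a ∈ I, (Scheme.ΓSpecIso (CommRingCat.of A)).inv a ∈
      RingHom.ker ((Spec.map (CommRingCat.ofHom (Ideal.Quotient.mk I))).app ⊤).hom := by
    intro a ha
    rw [RingHom.mem_ker]
    have := congr($(nat).hom ((Scheme.ΓSpecIso (CommRingCat.of A)).inv a))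
    simp only [CommRingCat.hom_comp, RingHom.comp_apply] at this
    have h2 : (Scheme.ΓSpecIso (CommRingCat.of A)).hom
        ((Scheme.ΓSpecIso (CommRingCat.of A)).inv a) = a := by
      change ((Scheme.ΓSpecIso (CommRingCat.of A)).inv ≫
        (Scheme.ΓSpecIso (CommRingCat.of A)).hom) a = a
      rw [Iso.inv_hom_id]
      rfl
    have h3 : (CommRingCat.ofHom (Ideal.Quotient.mk I)).hom
        ((Scheme.ΓSpecIso (CommRingCat.of A)).hom
          ((Scheme.ΓSpecIso (CommRingCat.of A)).inv a)) = 0 := by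
      erw [h2]
      exact Ideal.Quotient.eq_zero_iff_mem.2 ha
    exact hinj ((this.trans h3).trans (map_zero _).symm)
  rw [pow_two, eq_bot_iff, Ideal.mul_le]
  intro a ha b hb
  have h3 : (Scheme.ΓSpecIso (CommRingCat.of A)).inv a * (Scheme.ΓSpecIso (CommRingCat.of A)).inv b
      ∈ (⊥ : Ideal _) := by
    rw [← h1]
    exact Ideal.mul_mem_mul (hmem a ha) (hmem b hb)
  rw [Ideal.mem_bot, ← map_mul] at h3
  have hinj' : Function.Injective (Scheme.ΓSpecIso (CommRingCat.of A)).inv :=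
    (ConcreteCategory.bijective_of_isIso (Scheme.ΓSpecIso (CommRingCat.of A)).inv).1
  rw [Ideal.mem_bot]
  exact hinj' (by rw [h3, map_zero])

/-- the represented pullback of a thickening along a map from `Spec A`, in standard form. -/
theorem exists_std_pullback {F G : AlgSp.Sp S} (i : F ⟶ G) (hi : AlgSp.IsThickMor i)
    {A : Type u} [CommRing A] (str : Spec (.of A) ⟶ S)
    (l : (AlgSp.yon S).obj (ptA str) ⟶ G) :
    ∃ (K : Ideal A) (fK : (AlgSp.yon S).obj (ptAI K str) ⟶ F), (∀ x ∈ K, IsNilpotent x) ∧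
      IsPullback fK ((AlgSp.yon S).map (jA K str)) i l := by
  obtain ⟨U, u₀, aU, sqU⟩ := hi.1 l
  have hth := hi.2 l aU u₀ sqU
  obtain ⟨K, hK, eW, heW⟩ := exists_std_thick str u₀ hth.1 hth.2
  have heW' : eW.inv ≫ jA K str = u₀ := by rw [Iso.inv_comp_eq, heW]
  refine ⟨K, (AlgSp.yon S).map eW.hom ≫ aU, hK, ?_⟩
  refine IsPullback.of_iso sqU ((AlgSp.yon S).mapIso eW.symm) (Iso.refl _) (Iso.refl _)
    (Iso.refl _) ?_ ?_ ?_ ?_
  · simp only [Iso.refl_hom, Category.comp_id, Functor.mapIso_hom, Iso.symm_hom]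
    simp
  · simp only [Iso.refl_hom, Category.comp_id, Functor.mapIso_hom, Iso.symm_hom]
    rw [← Functor.map_comp, heW']
  · simp
  · simp

/-- the same for a first order thickening of an algebraic space: the ideal has square zero. -/
theorem exists_std_pullback_FO {F G : AlgSp.Sp S} (hG : AlgSp.IsAlgSpace G) (i : F ⟶ G)
    (hi : AlgSp.IsFOThickMor i) {A : Type u} [CommRing A] (str : Spec (.of A) ⟶ S)
    (l : (AlgSp.yon S).obj (ptA str) ⟶ G) :
    ∃ (K : Ideal A) (fK : (AlgSp.yon S).obj (ptAI K str) ⟶ F), K ^ 2 = ⊥ ∧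
      IsPullback fK ((AlgSp.yon S).map (jA K str)) i l := by
  obtain ⟨K, fK, -, sqK⟩ := exists_std_pullback i hi.1 str l
  refine ⟨K, fK, ?_, sqK⟩
  have hA : IsAffine (ptA str).left := by
    change IsAffine (Spec (.of A))
    infer_instance
  exact sq_eq_bot_of_ker K (sqZero_of_isPullback hG i hi hA l fK (jA K str) sqK)

section Maps

variable {A : Type u} [CommRing A] (str : Spec (.of A) ⟶ S) {B : Type u} [CommRing B]
  (φ : A →+* B) (I : Ideal A) (J : Ideal B)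

/-- the map `Spec (B ⧸ J) ⟶ Spec (A ⧸ I)` over `S` induced by `φ` with `I ≤ φ⁻¹ J`. -/
noncomputable def qMap (hle : I ≤ J.comap φ) :
    ptAI J (Spec.map (CommRingCat.ofHom φ) ≫ str) ⟶ ptAI I str :=
  Over.homMk (Spec.map (CommRingCat.ofHom (Ideal.quotientMap J φ hle))) (by
    change _ ≫ (_ ≫ str) = _ ≫ (_ ≫ str)
    rw [← Category.assoc, ← Category.assoc, ← Spec.map_comp, ← Spec.map_comp, ← CommRingCat.ofHom_comp,
      ← CommRingCat.ofHom_comp, Ideal.quotientMap_comp_mk])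

lemma qMap_comm (hle : I ≤ J.comap φ) :
    qMap str φ I J hle ≫ jA I str =
      jA J (Spec.map (CommRingCat.ofHom φ) ≫ str) ≫ βB str φ := by
  apply Over.OverMorphism.ext
  change Spec.map _ ≫ Spec.map _ = Spec.map _ ≫ Spec.map _
  rw [← Spec.map_comp, ← Spec.map_comp, ← CommRingCat.ofHom_comp,
    ← CommRingCat.ofHom_comp, Ideal.quotientMap_comp_mk]

end Maps

section Factor

variable {A : Type u} [CommRing A] (str : Spec (.of A) ⟶ S) {J K : Ideal A} (hJK : J ≤ K)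

/-- the map `Spec (A ⧸ K) ⟶ Spec (A ⧸ J)` over `S` for `J ≤ K`. -/
noncomputable def facMap : ptAI K str ⟶ ptB str (Ideal.Quotient.mk J) :=
  Over.homMk (Spec.map (CommRingCat.ofHom (Ideal.Quotient.factor hJK))) (by
    change _ ≫ (_ ≫ str) = _ ≫ str
    rw [← Category.assoc, ← Spec.map_comp, ← CommRingCat.ofHom_comp, Ideal.Quotient.factor_comp_mk])

lemma facMap_comm : facMap str hJK ≫ βB str (Ideal.Quotient.mk J) = jA K str := by
  apply Over.OverMorphism.ext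
  change Spec.map _ ≫ Spec.map _ = Spec.map _
  rw [← Spec.map_comp, ← CommRingCat.ofHom_comp, Ideal.Quotient.factor_comp_mk]

end Factor


/-- the structure morphism of a universal first order thickening is formally unramified. -/
theorem isFormallyUnramifiedMor_of_isUnivFOThick {Z Z' X : AlgSp.Sp S}
    (hZ' : AlgSp.IsAlgSpace Z') (h : Z ⟶ X) (i : Z ⟶ Z') (h' : Z' ⟶ X)
    (HU : AlgSp.IsUnivFOThick h i h') : AlgSp.IsFormallyUnramifiedMor h' := by
  intro sq l₁ l₂ h1t h1b h2t h2b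
  obtain ⟨hi, hih, huniv⟩ := HU
  obtain ⟨K₁, fK, hK₁, sqK⟩ := exists_std_pullback_FO hZ' i hi sq.str l₁
  obtain ⟨J, hJ⟩ : ∃ J : Ideal sq.A, J = K₁ * sq.I := ⟨_, rfl⟩
  obtain ⟨I₁, hI₁def⟩ : ∃ I₁ : Ideal (sq.A ⧸ J), I₁ = (K₁ ⊔ sq.I).map (Ideal.Quotient.mk J) :=
    ⟨_, rfl⟩
  have hI₁ : I₁ ^ 2 = ⊥ := by
    have h1 : (K₁ ⊔ sq.I) ^ 2 ≤ J := by
      rw [pow_two, Ideal.sup_mul, Ideal.mul_sup, Ideal.mul_sup, ← pow_two K₁, ← pow_two sq.I, hK₁,
        sq.sq_zero, hJ, Ideal.mul_comm sq.I K₁]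
      simp
    rw [hI₁def, ← Ideal.map_pow]
    exact le_bot_iff.1 ((Ideal.map_mono h1).trans (Ideal.map_quotient_self J).le)
  have hK₁le : K₁ ≤ I₁.comap (Ideal.Quotient.mk J) := by
    rw [hI₁def]
    exact le_sup_left.trans Ideal.le_comap_map
  have hIle : sq.I ≤ I₁.comap (Ideal.Quotient.mk J) := by
    rw [hI₁def]
    exact le_sup_right.trans Ideal.le_comap_map
  have hJK : J ≤ K₁ := by
    rw [hJ]
    exact (Ideal.mul_le_left : K₁ * sq.I ≤ K₁)
  have cK := qMap_comm sq.str (Ideal.Quotient.mk J) K₁ I₁ hK₁le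
  have cI := qMap_comm sq.str (Ideal.Quotient.mk J) sq.I I₁ hIle
  have hj₁ : AlgSp.IsFOThickMor ((AlgSp.yon S).map
      (jA I₁ (Spec.map (CommRingCat.ofHom (Ideal.Quotient.mk J)) ≫ sq.str))) :=
    isFOThickMor_yon_map _ (isFirstOrderThickening_Spec_mk _ I₁ hI₁)
  -- the two lifts agree on `Spec (A ⧸ K₁ I)`
  have c1a : (AlgSp.yon S).map
      (jA I₁ (Spec.map (CommRingCat.ofHom (Ideal.Quotient.mk J)) ≫ sq.str)) ≫
        ((AlgSp.yon S).map (βB sq.str (Ideal.Quotient.mk J)) ≫ l₁) =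
      ((AlgSp.yon S).map (qMap sq.str (Ideal.Quotient.mk J) K₁ I₁ hK₁le) ≫ fK) ≫ i := by
    rw [← Category.assoc, ← Functor.map_comp, ← cK, Functor.map_comp, Category.assoc, ← sqK.w,
      Category.assoc]
  have c2a : (AlgSp.yon S).map
      (jA I₁ (Spec.map (CommRingCat.ofHom (Ideal.Quotient.mk J)) ≫ sq.str)) ≫
        ((AlgSp.yon S).map (βB sq.str (Ideal.Quotient.mk J)) ≫ l₂) =
      ((AlgSp.yon S).map (qMap sq.str (Ideal.Quotient.mk J) K₁ I₁ hK₁le) ≫ fK) ≫ i := by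
    rw [← c1a, ← Category.assoc, ← Functor.map_comp, ← cI, Functor.map_comp, Category.assoc,
      ← Category.assoc _ _ l₁, ← Functor.map_comp, ← cI, Functor.map_comp, Category.assoc]
    congr 1
    exact h2t.trans h1t.symm
  have hcond1 : (AlgSp.yon S).map
      (jA I₁ (Spec.map (CommRingCat.ofHom (Ideal.Quotient.mk J)) ≫ sq.str)) ≫
        ((AlgSp.yon S).map (βB sq.str (Ideal.Quotient.mk J)) ≫ sq.bot) =
      ((AlgSp.yon S).map (qMap sq.str (Ideal.Quotient.mk J) K₁ I₁ hK₁le) ≫ fK) ≫ h := by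
    rw [← hih, ← Category.assoc _ i h', ← c1a]
    simp only [Category.assoc, h1b]
  obtain ⟨a', -, ha'u⟩ := huniv (AlgSp.IsAlgSpace.yon_obj _) (AlgSp.IsAlgSpace.yon_obj _) _ _ _
    hj₁ hcond1
  have star : (AlgSp.yon S).map (βB sq.str (Ideal.Quotient.mk J)) ≫ l₁ =
      (AlgSp.yon S).map (βB sq.str (Ideal.Quotient.mk J)) ≫ l₂ :=
    (ha'u _ ⟨c1a, by rw [Category.assoc, h1b]⟩).trans
      (ha'u _ ⟨c2a, by rw [Category.assoc, h2b]⟩).symm
  -- the two lifts agree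
  have hjK : AlgSp.IsFOThickMor ((AlgSp.yon S).map (jA K₁ sq.str)) :=
    isFOThickMor_yon_map _ (isFirstOrderThickening_Spec_mk _ K₁ hK₁)
  have hcond2 : (AlgSp.yon S).map (jA K₁ sq.str) ≫ sq.bot = fK ≫ h := by
    rw [← hih, ← Category.assoc, sqK.w, Category.assoc, h1b]
  obtain ⟨a'', -, hu2⟩ := huniv (AlgSp.IsAlgSpace.yon_obj _) (AlgSp.IsAlgSpace.yon_obj _) _ _ _
    hjK hcond2
  have d2 : (AlgSp.yon S).map (jA K₁ sq.str) ≫ l₂ = fK ≫ i := by
    rw [sqK.w, ← facMap_comm sq.str hJK, Functor.map_comp, Category.assoc, Category.assoc, star]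
  exact (hu2 l₁ ⟨sqK.w.symm, h1b⟩).trans (hu2 l₂ ⟨d2, h2b⟩).symm

end Groth.Agent.Lib.T2H1.UnivThick
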