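import Mathlib
import Groth.Agent.Lib.Helper14WEField
import Groth.Agent.Lib.Helper3IndEtFP

set_option autoImplicit false
universe u
open TensorProduct

namespace Groth.Agent.Lib.T2H1.WContr

/-- A binary product of flat modules is flat. -/
theorem flat_prod_module {R M N : Type*} [CommRing R] [AddCommGroup M] [AddCommGroup N]
    [Module R M] [Module R N] [Module.Flat R M] [Module.Flat R N] : Module.Flat R (M × N) := by
  rw [Module.Flat.iff_rTensor_injective']
  intro I
  rw [injective_iff_map_eq_zero]
  intro x hx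
  have h1 : (LinearMap.fst R M N).lTensor I x = 0 := by
    apply Module.Flat.rTensor_preserves_injective_linearMap (M := M) I.subtype
      Subtype.val_injective
    rw [map_zero, ← LinearMap.comp_apply, LinearMap.rTensor_comp_lTensor,
      ← LinearMap.lTensor_comp_rTensor, LinearMap.comp_apply, hx, map_zero]
  have h2 : (LinearMap.snd R M N).lTensor I x = 0 := by
    apply Module.Flat.rTensor_preserves_injective_linearMap (M := N) I.subtype
      Subtype.val_injective
    rw [map_zero, ← LinearMap.comp_apply, LinearMap.rTensor_comp_lTensor,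
      ← LinearMap.lTensor_comp_rTensor, LinearMap.comp_apply, hx, map_zero]
  have h3 : x = (LinearMap.inl R M N).lTensor I ((LinearMap.fst R M N).lTensor I x) +
      (LinearMap.inr R M N).lTensor I ((LinearMap.snd R M N).lTensor I x) := by
    rw [← LinearMap.comp_apply, ← LinearMap.comp_apply, ← LinearMap.lTensor_comp,
      ← LinearMap.lTensor_comp, ← LinearMap.add_apply, ← LinearMap.lTensor_add]
    have : (LinearMap.inl R M N).comp (LinearMap.fst R M N) +
        (LinearMap.inr R M N).comp (LinearMap.snd R M N) = LinearMap.id := by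
      ext <;> simp
    rw [this, LinearMap.lTensor_id, LinearMap.id_apply]
  rw [h3, h1, h2, map_zero, map_zero, add_zero]

/-- A ring map to a binary product is flat if both components are. -/
theorem flat_prod {R S₁ S₂ : Type*} [CommRing R] [CommRing S₁] [CommRing S₂]
    (f : R →+* S₁ × S₂) (h₁ : ((RingHom.fst S₁ S₂).comp f).Flat)
    (h₂ : ((RingHom.snd S₁ S₂).comp f).Flat) : f.Flat := by
  letI i1 : Algebra R S₁ := ((RingHom.fst S₁ S₂).comp f).toAlgebra
  letI i2 : Algebra R S₂ := ((RingHom.snd S₁ S₂).comp f).toAlgebra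
  haveI : Module.Flat R S₁ := h₁
  haveI : Module.Flat R S₂ := h₂
  have h : Module.Flat R (S₁ × S₂) := flat_prod_module
  have e : (Prod.instModule : Module R (S₁ × S₂)) = f.toAlgebra.toModule := by
    refine Module.ext' _ _ (fun r m => ?_)
    rfl
  show @Module.Flat R (S₁ × S₂) _ _ f.toAlgebra.toModule
  rw [← e]
  exact h

theorem flat_fst (S₁ S₂ : Type*) [CommRing S₁] [CommRing S₂] : (RingHom.fst S₁ S₂).Flat := by
  letI : Algebra (S₁ × S₂) S₁ := (RingHom.fst S₁ S₂).toAlgebra
  show Module.Flat (S₁ × S₂) S₁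
  let i : S₁ →ₗ[S₁ × S₂] S₁ × S₂ :=
    { toFun := fun b => (b, 0)
      map_add' := fun a b => by simp
      map_smul' := fun t b => by
        show ((RingHom.fst S₁ S₂) t * b, (0 : S₂)) = t * (b, 0)
        ext <;> simp }
  let r : S₁ × S₂ →ₗ[S₁ × S₂] S₁ :=
    { toFun := fun t => t.1
      map_add' := fun a b => rfl
      map_smul' := fun t b => rfl }
  exact Module.Flat.of_retract i r (by ext b; rfl)

theorem flat_snd (S₁ S₂ : Type*) [CommRing S₁] [CommRing S₂] : (RingHom.snd S₁ S₂).Flat := by
  letI : Algebra (S₁ × S₂) S₂ := (RingHom.snd S₁ S₂).toAlgebra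
  show Module.Flat (S₁ × S₂) S₂
  let i : S₂ →ₗ[S₁ × S₂] S₁ × S₂ :=
    { toFun := fun b => (0, b)
      map_add' := fun a b => by simp
      map_smul' := fun t b => by
        show ((0 : S₁), (RingHom.snd S₁ S₂) t * b) = t * (0, b)
        ext <;> simp }
  let r : S₁ × S₂ →ₗ[S₁ × S₂] S₂ :=
    { toFun := fun t => t.2
      map_add' := fun a b => rfl
      map_smul' := fun t b => rfl }
  exact Module.Flat.of_retract i r (by ext b; rfl)

/-- A binary product of weakly étale algebras is weakly étale. -/
theorem weaklyEtale_prod (A B₁ B₂ : Type u) [CommRing A] [CommRing B₁] [CommRing B₂]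
    [Algebra A B₁] [Algebra A B₂] [Algebra.WeaklyEtale A B₁] [Algebra.WeaklyEtale A B₂] :
    Algebra.WeaklyEtale A (B₁ × B₂) where
  flat := flat_prod_module
  flat_lmul' := by
    apply flat_prod
    · have h : (RingHom.fst B₁ B₂).comp (Algebra.TensorProduct.lmul' A (S := B₁ × B₂)).toRingHom =
          ((Algebra.TensorProduct.lmul' A (S := B₁)).comp
            (Algebra.TensorProduct.map (AlgHom.fst A B₁ B₂) (AlgHom.fst A B₁ B₂))).toRingHom := by
        have : (AlgHom.fst A B₁ B₂).comp (Algebra.TensorProduct.lmul' A (S := B₁ × B₂)) =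
            (Algebra.TensorProduct.lmul' A (S := B₁)).comp
              (Algebra.TensorProduct.map (AlgHom.fst A B₁ B₂) (AlgHom.fst A B₁ B₂)) := by
          ext <;> simp
        exact congrArg AlgHom.toRingHom this
      rw [h]
      refine RingHom.Flat.comp ?_ (Algebra.WeaklyEtale.flat_lmul' A B₁)
      exact RingHom.Flat.tensorProductMap (flat_fst B₁ B₂) (flat_fst B₁ B₂)
    · have h : (RingHom.snd B₁ B₂).comp (Algebra.TensorProduct.lmul' A (S := B₁ × B₂)).toRingHom =
          ((Algebra.TensorProduct.lmul' A (S := B₂)).comp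
            (Algebra.TensorProduct.map (AlgHom.snd A B₁ B₂) (AlgHom.snd A B₁ B₂))).toRingHom := by
        have : (AlgHom.snd A B₁ B₂).comp (Algebra.TensorProduct.lmul' A (S := B₁ × B₂)) =
            (Algebra.TensorProduct.lmul' A (S := B₂)).comp
              (Algebra.TensorProduct.map (AlgHom.snd A B₁ B₂) (AlgHom.snd A B₁ B₂)) := by
          ext <;> simp
        exact congrArg AlgHom.toRingHom this
      rw [h]
      refine RingHom.Flat.comp ?_ (Algebra.WeaklyEtale.flat_lmul' A B₂)
      exact RingHom.Flat.tensorProductMap (flat_snd B₁ B₂) (flat_snd B₁ B₂)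

/-- An idempotent of `A` lying in all primes of `Z` dies in a localization `B` whose spectrum
consists of the points specializing into `Z`. -/
theorem map_eq_zero_of_idem {A B : Type u} [CommRing A] [CommRing B] [Algebra A B]
    (Z : Set (PrimeSpectrum A))
    (hB : Set.range (PrimeSpectrum.comap (algebraMap A B)) = {x | ∃ z, z ∈ Z ∧ x ⤳ z})
    (c : A) (hc : IsIdempotentElem c) (hcZ : ∀ z ∈ Z, c ∈ z.asIdeal) : algebraMap A B c = 0 := by
  by_contra hne
  have hidem : IsIdempotentElem (algebraMap A B c) := hc.map _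
  have hnil : ¬ IsNilpotent (algebraMap A B c) := by
    intro h
    exact hne (hidem.eq_zero_of_isNilpotent h)
  rw [← mem_nilradical, nilradical_eq_sInf, Ideal.mem_sInf] at hnil
  push_neg at hnil
  obtain ⟨q, hq, hcq⟩ := hnil
  have hq' : q.IsPrime := hq
  have hx : PrimeSpectrum.comap (algebraMap A B) ⟨q, hq'⟩ ∈
      Set.range (PrimeSpectrum.comap (algebraMap A B)) := ⟨_, rfl⟩
  rw [hB] at hx
  obtain ⟨z, hzZ, hxz⟩ := hx
  rw [← PrimeSpectrum.le_iff_specializes] at hxz
  have hcx : c ∉ (PrimeSpectrum.comap (algebraMap A B) ⟨q, hq'⟩).asIdeal := hcq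
  have h1 : c * (1 - c) = 0 := by rw [mul_sub, mul_one, hc.eq, sub_self]
  have h2 : 1 - c ∈ (PrimeSpectrum.comap (algebraMap A B) ⟨q, hq'⟩).asIdeal := by
    have := (PrimeSpectrum.comap (algebraMap A B) ⟨q, hq'⟩).isPrime.mem_or_mem
      (show c * (1 - c) ∈ _ by rw [h1]; exact Ideal.zero_mem _)
    exact this.resolve_left hcx
  have h3 : 1 - c ∈ z.asIdeal := hxz h2
  have h4 : (1 : A) ∈ z.asIdeal := by
    have := z.asIdeal.add_mem h3 (hcZ z hzZ)
    simpa using this
  exact z.isPrime.ne_top ((Ideal.eq_top_iff_one _).mpr h4)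

/-- From a retraction of `B' × C` over `A` killing `(0,1)` in `B`, an `A`-algebra map `B' → B`. -/
theorem exists_algHom_of_retraction {A B : Type u} [CommRing A] [CommRing B] [Algebra A B]
    (B' C : Type u) [CommRing B'] [CommRing C] [Algebra A B'] [Algebra A C]
    (ρ : B' × C →ₐ[A] A) (h0 : algebraMap A B (ρ (0, 1)) = 0) : Nonempty (B' →ₐ[A] B) := by
  have h1 : algebraMap A B (ρ (1, 0)) = 1 := by
    have : ((1 : B'), (0 : C)) = 1 - (0, 1) := by ext <;> simp
    rw [this, map_sub, map_one, map_sub, h0, map_one, sub_zero]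
  let ψ : B' →+* B :=
    { toFun := fun b => algebraMap A B (ρ (b, 0))
      map_one' := h1
      map_mul' := fun a b => by
        show algebraMap A B (ρ (a * b, 0)) = _
        rw [← map_mul, ← map_mul]
        congr 2
        ext <;> simp
      map_zero' := by
        show algebraMap A B (ρ (0, 0)) = 0
        rw [show ((0 : B'), (0 : C)) = 0 from rfl, map_zero, map_zero]
      map_add' := fun a b => by
        show algebraMap A B (ρ (a + b, 0)) = _
        rw [← map_add, ← map_add]
        congr 2
        ext <;> simp }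
  have hψA : ∀ a : A, ψ (algebraMap A B' a) = algebraMap A B a := by
    intro a
    show algebraMap A B (ρ (algebraMap A B' a, 0)) = _
    have : ((algebraMap A B' a, (0 : C)) : B' × C) = a • (1, 0) := by
      ext <;> simp [Algebra.smul_def]
    rw [this, map_smul, smul_eq_mul, map_mul, h1, mul_one]
  exact ⟨{ ψ with commutes' := hψA }⟩

/-- From a retraction of `B' × C` over `A` killing `(0,1)` in `B`, a retraction of `B'` over the
localization `B`. -/
theorem exists_retraction {A B : Type u} [CommRing A] [CommRing B] [Algebra A B] (S : Submonoid A)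
    [IsLocalization S B] (B' C : Type u) [CommRing B'] [CommRing C] [Algebra B B'] [Algebra A B']
    [IsScalarTower A B B'] [Algebra A C]
    (ρ : B' × C →ₐ[A] A) (h0 : algebraMap A B (ρ (0, 1)) = 0) : Nonempty (B' →ₐ[B] B) := by
  obtain ⟨ψ⟩ := exists_algHom_of_retraction (B := B) B' C ρ h0
  have hψB : ψ.toRingHom.comp (algebraMap B B') = RingHom.id B := by
    apply IsLocalization.ringHom_ext S
    ext a
    simp only [RingHom.comp_apply, RingHom.id_apply]
    rw [← IsScalarTower.algebraMap_apply A B B']
    exact ψ.commutes a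
  exact ⟨{ ψ.toRingHom with commutes' := fun b => by simpa using congr($hψB b) }⟩

/-- The idempotent `ρ (0,1)` of a retraction of `B' × A_f` lies in every prime containing `f`. -/
theorem retraction_mem {A : Type u} [CommRing A] (B' : Type u) [CommRing B'] [Algebra A B']
    (f : A) (ρ : B' × Localization.Away f →ₐ[A] A) (z : Ideal A) (hfz : f ∈ z) :
    ρ (0, 1) ∈ z := by
  let w : B' × Localization.Away f := (0, IsLocalization.Away.invSelf f)
  have hw : (f • ((0 : B'), (1 : Localization.Away f))) * w = (0, 1) := by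
    refine Prod.ext ?_ ?_
    · simp [w]
    · show (f • (1 : Localization.Away f)) * IsLocalization.Away.invSelf f = 1
      rw [Algebra.smul_def, mul_one, IsLocalization.Away.mul_invSelf]
  have := congrArg ρ hw
  rw [map_mul, map_smul, smul_eq_mul] at this
  rw [← this]
  exact Ideal.mul_mem_right _ _ (Ideal.mul_mem_right _ _ hfz)

open Groth.Agent.Lib.Helper3.IndEt

set_option maxHeartbeats 1000000 in
/-- An étale algebra over a localization `S⁻¹A` descends to an étale algebra over some `A_s`. -/
theorem exists_descent_localization {A B : Type u} [CommRing A] [CommRing B] [Algebra A B]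
    (S : Submonoid A) [IsLocalization S B] (E : Type u) [CommRing E] [Algebra B E]
    [Algebra.Etale B E] :
    ∃ (s : S) (_ : Algebra (Localization.Away (s : A)) B)
      (_ : IsScalarTower A (Localization.Away (s : A)) B)
      (E₁ : Type u) (_ : CommRing E₁) (_ : Algebra (Localization.Away (s : A)) E₁)
      (_ : Algebra.Etale (Localization.Away (s : A)) E₁),
      Nonempty (B ⊗[Localization.Away (s : A)] E₁ ≃ₐ[B] E) := by
  obtain ⟨A₀, E₀, _, _, hfg, _, ⟨e⟩⟩ := Algebra.Etale.exists_subalgebra_fg ℤ B E
  haveI : Algebra.FiniteType ℤ A₀ := (Subalgebra.fg_iff_finiteType A₀).mp hfg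
  haveI : Algebra.FinitePresentation ℤ A₀ :=
    Algebra.FinitePresentation.of_finiteType.mp inferInstance
  let φ : A ⊗[ℤ] A₀ →ₐ[A] B :=
    Algebra.TensorProduct.lift (Algebra.ofId A B) A₀.val (fun _ _ => Commute.all _ _)
  obtain ⟨s, f, hf⟩ := exists_factor_localization (R := A) (C := A) (L := B) S φ
  letI : Algebra (Localization.Away (s : A)) B := (awayTo (R := A) (L := B) S s).toRingHom.toAlgebra
  haveI : IsScalarTower A (Localization.Away (s : A)) B :=
    IsScalarTower.of_algebraMap_eq (fun a => ((awayTo (R := A) (L := B) S s).commutes a).symm)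
  letI : Algebra A₀ (Localization.Away (s : A)) :=
    (f.toRingHom.comp (Algebra.TensorProduct.includeRight : A₀ →ₐ[ℤ] A ⊗[ℤ] A₀).toRingHom).toAlgebra
  haveI : IsScalarTower A₀ (Localization.Away (s : A)) B :=
    IsScalarTower.of_algebraMap_eq (fun a₀ => by
      show (a₀ : B) = awayTo (R := A) (L := B) S s (f ((1 : A) ⊗ₜ[ℤ] a₀))
      have := congr($hf ((1 : A) ⊗ₜ[ℤ] a₀))
      rw [AlgHom.comp_apply] at this
      rw [this]
      simp [φ])
  refine ⟨s, inferInstance, inferInstance, Localization.Away (s : A) ⊗[A₀] E₀, inferInstance,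
    inferInstance, inferInstance, ⟨?_⟩⟩
  exact (Algebra.TensorProduct.cancelBaseChange A₀ (Localization.Away (s : A)) B B E₀).trans e.symm

end Groth.Agent.Lib.T2H1.WContr
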