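import Mathlib
import Groth.Prelude.Def_AlgSpDec
import Groth.Prelude.Def_AlgSpCov
import Groth.Agent.Lib.T2H1RepIso
import Groth.Agent.Lib.Helper12LargestOpen
import Groth.Agent.Lib.Helper12OpenSub2
import Groth.Agent.Lib.Helper12Descent
import Groth.Agent.S9884
import Groth.Agent.S9906
import Groth.Agent.S9927
import Groth.Agent.S10176
import Groth.Agent.S10177

/-!
# Zariski coverings by images of étale charts with quasi-compact projections (helper1)
-/

set_option autoImplicit false
universe u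
open CategoryTheory CategoryTheory.Limits AlgebraicGeometry
open AlgSp

namespace Groth.Agent.Lib.T2H1.ZarCharts

variable {S : Scheme.{u}}

/-- a pullback over `a ≫ j, b ≫ j` with `j` mono is a pullback over `a, b`, and conversely. -/
lemma isPullback_comp_mono_iff {C : Type*} [Category C] {P A B X Y : C} (f : P ⟶ A) (g : P ⟶ B)
    (a : A ⟶ X) (b : B ⟶ X) (j : X ⟶ Y) [Mono j] :
    IsPullback f g (a ≫ j) (b ≫ j) ↔ IsPullback f g a b := by
  constructor
  · intro sq
    have w : f ≫ a = g ≫ b := by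
      rw [← cancel_mono j, Category.assoc, Category.assoc, sq.w]
    refine IsPullback.of_isLimit' ⟨w⟩ (PullbackCone.IsLimit.mk _
      (fun s => sq.lift s.fst s.snd (by rw [← Category.assoc, s.condition, Category.assoc]))
      (fun s => sq.lift_fst _ _ _) (fun s => sq.lift_snd _ _ _) ?_)
    intro s m h1 h2
    apply sq.hom_ext
    · rw [h1, sq.lift_fst]
    · rw [h2, sq.lift_snd]
  · intro sq
    have w : f ≫ a ≫ j = g ≫ b ≫ j := by
      rw [← Category.assoc, sq.w, Category.assoc]
    refine IsPullback.of_isLimit' ⟨w⟩ (PullbackCone.IsLimit.mk _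
      (fun s => sq.lift s.fst s.snd (by
        rw [← cancel_mono j, Category.assoc, Category.assoc, s.condition]))
      (fun s => sq.lift_fst _ _ _) (fun s => sq.lift_snd _ _ _) ?_)
    intro s m h1 h2
    apply sq.hom_ext
    · rw [h1, sq.lift_fst]
    · rw [h2, sq.lift_snd]

open Groth.Agent.Lib.Helper12 in
/-- étale charts, jointly surjective, with quasi-compact projections of `U_i ×_X U_i`, give a Zariski
covering by the open images, each chart being étale, surjective and quasi-compact onto its image. -/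
theorem exists_zarCover_of_charts (X : AlgSp.Space S) {ι : Type u} (U : ι → Over S)
    (φ : ∀ i, (AlgSp.yon S).obj (U i) ⟶ X.obj) (hφ : ∀ i, AlgSp.RepWith @Etale (φ i))
    (hsurj : ∀ x : AlgSp.Points X.obj, ∃ (i : ι) (v : ↥(U i).left), AlgSp.Points.ofPt (φ i) v = x)
    (hqc : ∀ (i : ι) (R : Over S) (s t : R ⟶ U i),
      IsPullback ((AlgSp.yon S).map t) ((AlgSp.yon S).map s) (φ i) (φ i) →
        QuasiCompact s.left ∧ QuasiCompact t.left) :
    ∃ (Xi : ι → AlgSp.Space S) (j : ∀ i, Xi i ⟶ X)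
      (a : ∀ i, (AlgSp.yon S).obj (U i) ⟶ (Xi i).obj),
      AlgSp.IsZarCover (fun i => (Xi i).obj) (fun i => (j i).hom) ∧
        ∀ i, a i ≫ (j i).hom = φ i ∧ AlgSp.RepWith @Etale (a i) ∧
          AlgSp.RepWith @Surjective (a i) ∧ AlgSp.RepWith @QuasiCompact (a i) := by
  have hW : ∀ i, IsOpen (Set.range (AlgSp.Points.ofPt (φ i))) := fun i =>
    (Groth.Agent.S10176.isOpenMap_ofPt (φ i) (hφ i)).isOpen_range
  have hfac : ∀ i, ∃ a' : (AlgSp.yon S).obj (U i) ⟶
      OpenSub.obj X.obj (Set.range (AlgSp.Points.ofPt (φ i))),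
      a' ≫ OpenSub.incl X.obj _ = φ i := fun i =>
    (OpenSub.factor_iff _ (φ i)).2 (fun t => ⟨t, rfl⟩)
  choose a ha using hfac
  have hinclo : ∀ i, AlgSp.RepWith @IsOpenImmersion
      (OpenSub.incl X.obj (Set.range (AlgSp.Points.ofPt (φ i)))) :=
    fun i => OpenSub.repWith_incl (hW i)
  refine ⟨fun i => ⟨OpenSub.obj X.obj (Set.range (AlgSp.Points.ofPt (φ i))),
      OpenSub.isAlgSpace_obj X.property (hW i)⟩,
    fun i => ⟨OpenSub.incl X.obj _⟩, a, ⟨hinclo, fun x => ?_⟩, fun i => ?_⟩
  · obtain ⟨i, v, rfl⟩ := hsurj x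
    refine ⟨i, ?_⟩
    show _ ∈ Set.range (AlgSp.Points.map (OpenSub.incl X.obj _))
    rw [OpenSub.range_map_incl]
    exact ⟨v, rfl⟩
  · have hsqa : IsPullback (𝟙 _) (a i) (φ i)
        (OpenSub.incl X.obj (Set.range (AlgSp.Points.ofPt (φ i)))) := by
      have := LargestOpen.isPullback_id_of_mono (a i)
        (OpenSub.incl X.obj (Set.range (AlgSp.Points.ofPt (φ i))))
      rwa [ha i] at this
    have hae : AlgSp.RepWith @Etale (a i) :=
      MorphismProperty.of_isPullback (P := AlgSp.RepWith @Etale) hsqa (hφ i)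
    have hinj := LargestOpen.injective_map_of_open _ (hinclo i)
    have has : AlgSp.RepWith @Surjective (a i) := by
      rw [Groth.Agent.S9906.repWith_surjective_iff (a i) hae.1]
      intro y
      have hy : AlgSp.Points.map (OpenSub.incl X.obj
          (Set.range (AlgSp.Points.ofPt (φ i)))) y ∈ Set.range (AlgSp.Points.ofPt (φ i)) :=
        (OpenSub.range_map_incl (Set.range (AlgSp.Points.ofPt (φ i)))).subset ⟨y, rfl⟩
      obtain ⟨v, hv⟩ := hy
      refine ⟨AlgSp.Points.ofPt (𝟙 _) v, ?_⟩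
      apply hinj
      rw [AlgSp.Points.map_ofPt, Category.id_comp, AlgSp.Points.map_ofPt, ha i, hv]
    refine ⟨ha i, hae, has, ?_⟩
    obtain ⟨R, w, pr', sq⟩ := hae.1 (a i)
    obtain ⟨t, rfl⟩ := (AlgSp.yon S).map_surjective pr'
    have sqφ : IsPullback ((AlgSp.yon S).map t) ((AlgSp.yon S).map w) (φ i) (φ i) := by
      have := (isPullback_comp_mono_iff _ _ (a i) (a i)
        (OpenSub.incl X.obj (Set.range (AlgSp.Points.ofPt (φ i))))).2 sq
      rwa [ha i] at this
    have hw : QuasiCompact w.left := (hqc i R w t sqφ).1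
    haveI : Epi (a i) := Groth.Agent.S9927.epi_of_repWith (a i) hae has
    haveI : Sheaf.IsLocallySurjective (a i) :=
      (Sheaf.isLocallySurjective_iff_epi _).mpr inferInstance
    haveI : MorphismProperty.IsLocalAtTarget (@QuasiCompact : MorphismProperty Scheme.{u})
        Scheme.fppfPrecoverage :=
      Groth.Agent.Lib.T2H1.RepIso.isLocalAtTarget_fppf _
        Groth.Agent.Lib.Helper12.descendsAlong_quasiCompact
    exact Groth.Agent.S9884.result S _ _ _ (a i) hae.1 (a i) _ _ _ sq @QuasiCompact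
      ((AlgSp.repWith_yon_map_iff _ _).2 hw)

end Groth.Agent.Lib.T2H1.ZarCharts
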