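import Groth.Agent.Lib.T2H2NegVan
import Groth.Agent.Lib.Helper17Hyp10
import Groth.Agent.Lib.Helper17Hyp16
import Groth.Agent.Lib.Helper17Hyp22

/-!
# Hypercohomology over members of an acyclic basis (T2H2)

If `E = R lim τ_{≥ -n} E` and `Hom(P₀[0], H^j(E)[k]) = 0` for all `j` and `k > 0`, then
`Hom(P₀[0], E[m]) ≃ Hom(P₀, H^m(E))` (`bijective_cm_of_acyc`).  On a site with a class `B` of
objects covering everything such that `H^p(U, H^q(K)) = 0` for `p > 0`, `U ∈ B`, this gives
`H^q(U, K) ≃ H^q(K)(U)` for `U ∈ B` (`site_main`).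
-/

set_option autoImplicit false
set_option linter.style.haveILetI false
universe w w' v v' u u'
open CategoryTheory CategoryTheory.Limits Opposite

namespace Groth.Agent.Lib.T2H2.AcycBasis

open Groth.Agent.Lib.Helper17.Hyp DerivedCategory Pretriangulated Groth.Agent.S14388
  Groth.Agent.Lib.T2H2.NegVan

section Abs

variable {A : Type (v + 1)} [Category.{v} A] [Abelian A] [HasDerivedCategory.{w} A]

/-- `Hom(P, H^j(E)[k]) = 0` for all `j` and all `k > 0`. -/
def Acyc (P E : DerivedCategory A) : Prop :=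
  ∀ (j k : ℤ), 0 < k →
    Subsingleton (P ⟶ ((singleFunctor A 0).obj ((homologyFunctor A j).obj E))⟦k⟧)

lemma Acyc.vanishAbove {P E : DerivedCategory A} (h : Acyc P E) : VanishAbove P E (fun _ => 0) :=
  fun m k hk => h (m - k) k hk

lemma isIso_homology_natTransTruncGEOfLE (E : DerivedCategory A) (a b m : ℤ) (hab : a ≤ b)
    (hm : b ≤ m) :
    IsIso ((homologyFunctor A m).map ((tt.natTransTruncGEOfLE a b hab).app E)) := by
  have h1 := isIso_homology_truncGEπ a m (le_trans hab hm) E
  have h2 := isIso_homology_truncGEπ b m hm E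
  have h3 := tt.π_natTransTruncGEOfLE_app a b hab E
  have h4 : (homologyFunctor A m).map ((tt.truncGEπ a).app E) ≫
      (homologyFunctor A m).map ((tt.natTransTruncGEOfLE a b hab).app E) =
        (homologyFunctor A m).map ((tt.truncGEπ b).app E) := by
    rw [← Functor.map_comp, h3]
  exact IsIso.of_isIso_fac_left h4

omit [Abelian A] [HasDerivedCategory.{w} A] in
lemma bijective_comp_iso {P X Y : A} (e : X ⟶ Y) [IsIso e] :
    Function.Bijective (fun s : P ⟶ X => s ≫ e) :=
  ⟨fun y y' h => (cancel_mono _).1 h, fun z => ⟨z ≫ inv e, by simp⟩⟩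

theorem bijective_cm_truncGE (P₀ : A) (E : DerivedCategory A) (hP : Acyc (dsgl P₀) E) (m : ℤ) :
    ∀ (d : ℕ) (a : ℤ), a + d = m →
      Function.Bijective (fun ξ : dsgl P₀ ⟶ ((tt.truncGE a).obj E)⟦m⟧ => cm ξ) := by
  intro d
  induction d with
  | zero =>
    intro a ha
    obtain rfl : a = m := by simpa using ha
    haveI : (((tt.truncGE a).obj E)⟦a⟧).IsGE 0 :=
      tt.isGE_shift ((tt.truncGE a).obj E) a a 0 (by omega)
    have h1 := bijective_c₀_of_isGE P₀ (((tt.truncGE a).obj E)⟦a⟧)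
    exact (bijective_comp_iso (shIso ((tt.truncGE a).obj E) a).hom).comp h1
  | succ d ih =>
    intro a ha
    have ih' := ih (a + 1) (by push_cast at ha; omega)
    have hpost := bijective_postcomp_natTransTruncGE' (dsgl P₀) E a (a + 1) m (m - a) (m + 1 - a)
      rfl (by omega) (by omega) (hP a (m - a) (by push_cast at ha; omega))
      (hP a (m + 1 - a) (by push_cast at ha; omega))
    have hle : a ≤ a + 1 := by omega
    haveI := isIso_homology_natTransTruncGEOfLE E a (a + 1) m hle
      (by push_cast at ha; omega)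
    have h3 := (bijective_comp_iso (P := P₀)
      (inv ((homologyFunctor A m).map ((tt.natTransTruncGEOfLE a (a + 1) hle).app E)))).comp
        (ih'.comp hpost)
    convert h3 using 1
    funext ξ
    dsimp only [Function.comp]
    rw [cm_comp]
    simp

theorem bijective_cm_of_acyc (E : DerivedCategory A) [HasProduct (CohCx.truncTower E)]
    (hL : CohCx.IsRlimVia (CohCx.truncTower E) (CohCx.truncTowerMap E) E (CohCx.toTruncTower E))
    (P₀ : A) (hP : Acyc (dsgl P₀) E) (m : ℤ) :
    Function.Bijective (fun ξ : dsgl P₀ ⟶ E⟦m⟧ => cm ξ) := by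
  have hV := hP.vanishAbove
  let N : ℕ := max (max (Nb (fun _ => 0) m) (Nb (fun _ => 0) (m - 1))) (-m).toNat
  have hN1 : Nb (fun _ => 0) m ≤ N := le_trans (le_max_left _ _) (le_max_left _ _)
  have hN2 : Nb (fun _ => 0) (m - 1) ≤ N := le_trans (le_max_right _ _) (le_max_left _ _)
  have hN3 : -(N : ℤ) ≤ m := by
    have : (-m).toNat ≤ N := le_max_right _ _
    omega
  have ev1 : EvBij (dsgl P₀) (CohCx.truncTower E) (CohCx.truncTowerMap E) m N :=
    fun n hn => bijective_truncTowerMap hV m n (le_trans hN1 hn)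
  have ev2 : EvBij (dsgl P₀) (CohCx.truncTower E) (CohCx.truncTowerMap E) (m - 1) N :=
    fun n hn => bijective_truncTowerMap hV (m - 1) n (le_trans hN2 hn)
  have hpost : Function.Bijective
      (fun y : dsgl P₀ ⟶ E⟦m⟧ => y ≫ (CohCx.toTruncTower E N)⟦m⟧') := by
    constructor
    · intro y y' hyy
      obtain ⟨g1, g2⟩ := good_of_evBij (dsgl P₀) m N ev2 ev1
      have h0 : y - y' = 0 := eq_zero_of_good hL _ m N g1 g2 (y - y') (by
        rw [Preadditive.sub_comp]
        exact sub_eq_zero.2 hyy)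
      exact sub_eq_zero.1 h0
    · intro ξ
      exact exists_lift_of_evBij hL (dsgl P₀) m N ev1 ξ
  have hT := bijective_cm_truncGE P₀ E hP m (m + N).toNat (-(N : ℤ)) (by omega)
  haveI : IsIso ((homologyFunctor A m).map (CohCx.toTruncTower E N)) :=
    isIso_homology_truncGEπ (-(N : ℤ)) m hN3 E
  have h3 := (bijective_comp_iso (P := P₀)
    (inv ((homologyFunctor A m).map (CohCx.toTruncTower E N)))).comp (hT.comp hpost)
  convert h3 using 1
  funext ξ
  dsimp only [Function.comp]
  rw [cm_comp]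
  simp

end Abs

section Site

variable {C : Type u} [SmallCategory C] {J : GrothendieckTopology C}
  [HasDerivedCategory.{u} (Sheaf J AddCommGrpCat.{u})]

lemma acyc_of_HU (K : DerivedCategory (Sheaf J AddCommGrpCat.{u})) (W : C)
    (h : ∀ (p : ℕ) (q : ℤ), Subsingleton (CohSite.HU (CohCx.HD K q) (p + 1) W)) :
    Acyc (dsgl (CohCx.freeSheaf J W)) K := by
  intro j k hk
  obtain ⟨p, rfl⟩ : ∃ p : ℕ, k = ((p + 1 : ℕ) : ℤ) := ⟨(k - 1).toNat, by push_cast; omega⟩
  exact @Equiv.subsingleton _ _ (Abelian.Ext.homEquiv (X := CohCx.freeSheaf J W)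
    (Y := CohCx.HD K j) (n := p + 1)).symm (h p j)

theorem site_main (K : DerivedCategory (Sheaf J AddCommGrpCat.{u})) (B : Set C)
    (hB : ∀ U : C, ∃ (ι : Type u) (Y : ι → C) (f : ∀ i, Y i ⟶ U),
      Sieve.ofArrows Y f ∈ J U ∧ ∀ i, Y i ∈ B)
    (h : ∀ U ∈ B, ∀ (p : ℕ) (q : ℤ), Subsingleton (CohSite.HU (CohCx.HD K q) (p + 1) U))
    (U : C) (hU : U ∈ B) (q : ℤ) :
    Function.Bijective (canonU K q U) := by
  haveI : HasProducts.{u} (DerivedCategory (Sheaf J AddCommGrpCat.{u})) :=
    Groth.Agent.Lib.Helper17.KInj.hasProducts_derivedCategory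
  haveI : HasProducts.{0} (DerivedCategory (Sheaf J AddCommGrpCat.{u})) :=
    has_smallest_products_of_hasProducts
  have hL : CohCx.IsRlimVia (CohCx.truncTower K) (CohCx.truncTowerMap K) K
      (CohCx.toTruncTower K) := by
    apply isRlimVia_truncTower_of_cofinal.{u, u} (fr := frSh J) (locFr_frSh J) K
    intro U'
    obtain ⟨ι, Y, f, hcov, hY⟩ := hB U'
    refine ⟨fun V _ => V ∈ B, ?_, ?_⟩
    · refine J.superset_covering ?_ hcov
      rintro V g ⟨W, a, b, ⟨i⟩, rfl⟩
      exact ⟨_, a, f i, hY i, rfl⟩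
    · intro V g hV
      refine ⟨fun _ => 0, fun T hT => ?_⟩
      refine ⟨fun W g' => T g' ∧ W ∈ B, fun W g' hg' => hg'.1, ?_, ?_⟩
      · apply J.transitive hT
        intro W g' hg'
        obtain ⟨ι', Y', f', hcov', hY'⟩ := hB W
        refine J.superset_covering ?_ hcov'
        rintro W' g'' ⟨W'', a, b, ⟨i⟩, rfl⟩
        refine ⟨_, a, f' i ≫ g', ⟨T.downward_closed hg' _, hY' i⟩, by simp⟩
      · intro W g' hg'
        exact (acyc_of_HU K W (h W hg'.2)).vanishAbove
  have hcm := bijective_cm_of_acyc K hL (CohCx.freeSheaf J U) (acyc_of_HU K U (h U hU)) q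
  exact (CohFree.homEquivSect J U (CohCx.HD K q)).bijective.comp hcm

end Site

end Groth.Agent.Lib.T2H2.AcycBasis
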