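import Groth.Agent.Lib.T2H2LpullAdjA
import Groth.Agent.Lib.Helper17KInjD1

/-!
# Morphisms in the derived category into `G_* J`, `J` K-injective, from adapted complexes (T2H2)

In the setting of `T2H2LpullAdjA` (`F ⊣ G`, `LF` left derived functor of `F` computed by a class `P`
of complexes, `RG` right derived functor of `G`): for a complex `K` on which the counit `α` of `LF`
is invertible and a K-injective complex `J`, every morphism `Q K ⟶ Q (G_* J)` in the derived
category is represented by a morphism of complexes, unique up to homotopy.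
-/

set_option autoImplicit false
set_option linter.style.haveILetI false

universe w w₁ w₂ v v' u u'

open CategoryTheory CategoryTheory.Limits HomologicalComplex MorphismProperty

namespace Groth.Agent.Lib.T2H2.AdjHomBij

open Groth.Agent.Lib.Helper17.KInj Groth.Agent.Lib.Helper1.CI Groth.Agent.Lib.T2H2.LpullAdj
  Groth.Agent.Lib.Helper17.SerreLoc

variable {A : Type u} [Category.{v} A] [Abelian A] {B : Type u'} [Category.{v'} B] [Abelian B]
  [IsGrothendieckAbelian.{w} B] [HasDerivedCategory.{w₁} A] [HasDerivedCategory.{w₂} B]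
  (F : A ⥤ B) (G : B ⥤ A) (adj : F ⊣ G) [F.Additive] [G.Additive]
  (LF : DerivedCategory A ⥤ DerivedCategory B)
  (α : DerivedCategory.Q ⋙ LF ⟶
    F.mapHomologicalComplex (ComplexShape.up ℤ) ⋙ DerivedCategory.Q)
  [LF.IsLeftDerivedFunctor α (HomologicalComplex.quasiIso A (ComplexShape.up ℤ))]
  (RG : DerivedCategory B ⥤ DerivedCategory A)
  (β : G.mapHomologicalComplex (ComplexShape.up ℤ) ⋙ DerivedCategory.Q ⟶
    DerivedCategory.Q ⋙ RG)
  [RG.IsRightDerivedFunctor β (HomologicalComplex.quasiIso B (ComplexShape.up ℤ))]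
  (P : ObjectProperty (CochainComplex A ℤ))
  (ρ : CochainComplex A ℤ ⥤ CochainComplex A ℤ) (π : ρ ⟶ 𝟭 (CochainComplex A ℤ))
  (hρ : ∀ X, P (ρ.obj X)) (hπ : ∀ X, QuasiIso (π.app X))
  (hF : ∀ {X Y : CochainComplex A ℤ} (f : X ⟶ Y), P X → P Y → QuasiIso f →
    QuasiIso ((F.mapHomologicalComplex (ComplexShape.up ℤ)).map f))

include hρ hπ hF in
/-- the key compatibility of the derived adjunction with the adjunction on complexes. -/
lemma Q_map_comp_β (K : CochainComplex A ℤ) (J : CochainComplex B ℤ)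
    (g : (F.mapHomologicalComplex (ComplexShape.up ℤ)).obj K ⟶ J) :
    DerivedCategory.Q.map ((adjHC adj (ComplexShape.up ℤ)).homEquiv K J g) ≫ β.app J =
      (derivedAdjunction.{w} F G adj LF α RG β P ρ π hρ hπ hF).homEquiv _ _
        (α.app K ≫ DerivedCategory.Q.map g) := by
  haveI := isLeftDerivedFunctor_comp_RG F LF α P ρ π hρ hπ hF RG
  haveI := isRightDerivedFunctor_comp_LF.{w} G RG β LF
  rw [Adjunction.homEquiv_unit, Adjunction.homEquiv_unit, Functor.map_comp, Functor.map_comp]
  have h1 := (adjHC adj (ComplexShape.up ℤ)).derivedη_fac_app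
    (HomologicalComplex.quasiIso A (ComplexShape.up ℤ)) α β K
  have h2 := β.naturality g
  dsimp at h2
  have h3 : (derivedAdjunction.{w} F G adj LF α RG β P ρ π hρ hπ hF).unit.app
      (DerivedCategory.Q.obj K) =
      ((adjHC adj (ComplexShape.up ℤ)).derivedη
        (HomologicalComplex.quasiIso A (ComplexShape.up ℤ)) α β).app (DerivedCategory.Q.obj K) :=
    rfl
  rw [h3, Category.assoc, h2, ← Category.assoc, ← h1, Category.assoc]

include adj β hρ hπ hF in
/-- morphisms `Q K ⟶ Q (G_* J)` are represented by morphisms of complexes. -/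
theorem exists_Q_map_eq (K : CochainComplex A ℤ) (hα : IsIso (α.app K))
    (J : CochainComplex B ℤ) [J.IsKInjective]
    (ψ : (DerivedCategory.Q : _ ⥤ DerivedCategory A).obj K ⟶
      DerivedCategory.Q.obj ((G.mapHomologicalComplex (ComplexShape.up ℤ)).obj J)) :
    ∃ h : K ⟶ (G.mapHomologicalComplex (ComplexShape.up ℤ)).obj J,
      DerivedCategory.Q.map h = ψ := by
  haveI : IsIso (β.app J) := isIso_app_of_isKInjective.{w} G RG β J
  haveI := hα
  obtain ⟨g, hg⟩ := Groth.Agent.Lib.Helper17.KInj.exists_Q_map_eq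
    (inv (α.app K) ≫ ((derivedAdjunction.{w} F G adj LF α RG β P ρ π hρ hπ hF).homEquiv _ _).symm
      (ψ ≫ β.app J))
  refine ⟨(adjHC adj (ComplexShape.up ℤ)).homEquiv K J g, ?_⟩
  rw [← cancel_mono (β.app J), Q_map_comp_β.{w} F G adj LF α RG β P ρ π hρ hπ hF, hg,
    IsIso.hom_inv_id_assoc, Equiv.apply_symm_apply]

include adj β hρ hπ hF in
/-- morphisms of complexes `K ⟶ G_* J` which agree in the derived category are homotopic. -/
theorem nonempty_homotopy_of_Q_map_eq (K : CochainComplex A ℤ) (hα : IsIso (α.app K))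
    (J : CochainComplex B ℤ) [J.IsKInjective]
    (h h' : K ⟶ (G.mapHomologicalComplex (ComplexShape.up ℤ)).obj J)
    (e : (DerivedCategory.Q : _ ⥤ DerivedCategory A).map h = DerivedCategory.Q.map h') :
    Nonempty (Homotopy h h') := by
  haveI : IsIso (β.app J) := isIso_app_of_isKInjective.{w} G RG β J
  haveI := hα
  obtain ⟨g, rfl⟩ := ((adjHC adj (ComplexShape.up ℤ)).homEquiv K J).surjective h
  obtain ⟨g', rfl⟩ := ((adjHC adj (ComplexShape.up ℤ)).homEquiv K J).surjective h'
  have h1 := Q_map_comp_β.{w} F G adj LF α RG β P ρ π hρ hπ hF K J g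
  have h2 := Q_map_comp_β.{w} F G adj LF α RG β P ρ π hρ hπ hF K J g'
  rw [e, h2] at h1
  have h3 := (cancel_epi (α.app K)).1 (((derivedAdjunction.{w} F G adj LF α RG β P ρ π hρ hπ
    hF).homEquiv _ _).injective h1)
  obtain ⟨H⟩ := homotopy_of_Q_map_eq h3.symm
  rw [Adjunction.homEquiv_unit, Adjunction.homEquiv_unit]
  exact ⟨(G.mapHomotopy H).compLeft _⟩

end Groth.Agent.Lib.T2H2.AdjHomBij
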