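import Mathlib
import Groth.Agent.Lib.Helper1PT2
import Groth.Agent.Lib.Helper13PullbackUnit
set_option backward.isDefEq.respectTransparency.types false

/-!
# The projection morphism `G ⊗ f_* O_X ⟶ f_* f^* G` (T2H2, affine projection formula, part A)

Construction of the morphism `beta f G : G ⊗ f_* O_X ⟶ f_* f^* G`, `g ⊗ a ↦ a • η(g)`, through the
sectionwise tensor product.
-/

set_option autoImplicit false
set_option linter.style.haveILetI false
set_option linter.unusedSectionVars false
universe u
open CategoryTheory CategoryTheory.Limits AlgebraicGeometry TopologicalSpace Opposite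
  MonoidalCategory TensorProduct

namespace Groth.Agent.Lib.T2H2.AffProj

open Groth.Agent.Lib.Helper1.PT Groth.Agent.Lib.Helper1.Sky Groth.Agent.Lib.Helper1.StalkTensor
  Groth.Agent.Lib.Helper21.ModTensor2

variable {X Y : Scheme.{u}} (f : X ⟶ Y) (G : Y.Modules)

/-- `f_* O_X` -/
noncomputable abbrev pushO : Y.Modules := (psh f).obj (Coh.structureModule X)

/-- `f_* f^* G` -/
noncomputable abbrev pushPull : Y.Modules := (psh f).obj ((plb f).obj G)

/-- the unit section `η(g)` over `f⁻¹ V` -/
noncomputable def unS (V : Y.Opens) (g : (toPM G).obj (op V)) :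
    (toPM ((plb f).obj G)).obj (op (f ⁻¹ᵁ V)) :=
  ((toPMMap (un f G)).app (op V)).hom g

/-- the underlying function of `bP` on sections: `(g, a) ↦ a • η(g)` -/
noncomputable def bFun (V : Y.Opens) (g : (toPM G).obj (op V))
    (a : (toPM (pushO f)).obj (op V)) : (toPM (pushPull f G)).obj (op V) :=
  (show (toPM (pushPull f G)).obj (op V) from
    ((show X.presheaf.obj (op (f ⁻¹ᵁ V)) from a) • unS f G V g))

lemma unS_add (V : Y.Opens) (g g' : (toPM G).obj (op V)) :
    unS f G V (g + g') = unS f G V g + unS f G V g' := map_add _ _ _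

lemma unS_smul (V : Y.Opens) (r : Y.presheaf.obj (op V)) (g : (toPM G).obj (op V)) :
    unS f G V (r • g) = (f.app V).hom r • unS f G V g := by
  unfold unS
  rw [map_smul]
  rfl

lemma bFun_add_left (V : Y.Opens) (g g' : (toPM G).obj (op V)) (a : (toPM (pushO f)).obj (op V)) :
    bFun f G V (g + g') a = bFun f G V g a + bFun f G V g' a := by
  unfold bFun
  rw [unS_add, smul_add]
  rfl

lemma bFun_add_right (V : Y.Opens) (g : (toPM G).obj (op V)) (a a' : (toPM (pushO f)).obj (op V)) :
    bFun f G V g (a + a') = bFun f G V g a + bFun f G V g a' := by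
  unfold bFun
  exact add_smul (show X.presheaf.obj (op (f ⁻¹ᵁ V)) from a) (show X.presheaf.obj (op (f ⁻¹ᵁ V)) from a')
    (unS f G V g)

lemma bFun_smul_left (V : Y.Opens) (r : Y.presheaf.obj (op V)) (g : (toPM G).obj (op V))
    (a : (toPM (pushO f)).obj (op V)) :
    bFun f G V (r • g) a = r • bFun f G V g a := by
  unfold bFun
  rw [unS_smul]
  show (show X.presheaf.obj (op (f ⁻¹ᵁ V)) from a) • ((f.app V).hom r • unS f G V g) =
    (f.app V).hom r • ((show X.presheaf.obj (op (f ⁻¹ᵁ V)) from a) • unS f G V g)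
  rw [← mul_smul, ← mul_smul, mul_comm]

lemma bFun_smul_right (V : Y.Opens) (r : Y.presheaf.obj (op V)) (g : (toPM G).obj (op V))
    (a : (toPM (pushO f)).obj (op V)) :
    bFun f G V g (r • a) = r • bFun f G V g a := by
  unfold bFun
  show ((f.app V).hom r * (show X.presheaf.obj (op (f ⁻¹ᵁ V)) from a)) • unS f G V g =
    (f.app V).hom r • ((show X.presheaf.obj (op (f ⁻¹ᵁ V)) from a) • unS f G V g)
  rw [mul_smul]

/-- the map on sections over `V` -/
noncomputable def bApp (V : (Opens Y)ᵒᵖ) :
    (toPM G ⊗ toPM (pushO f)).obj V ⟶ (toPM (pushPull f G)).obj V :=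
  ModuleCat.MonoidalCategory.tensorLift
    (M₁ := (toPM G).obj V) (M₂ := (toPM (pushO f)).obj V)
    (M₃ := (toPM (pushPull f G)).obj V)
    (fun g a => bFun f G V.unop g a)
    (fun g g' a => bFun_add_left f G V.unop g g' a)
    (fun r g a => bFun_smul_left f G V.unop r g a)
    (fun g a a' => bFun_add_right f G V.unop g a a')
    (fun r g a => bFun_smul_right f G V.unop r g a)

lemma bApp_tmul (V : (Opens Y)ᵒᵖ) (g : (toPM G).obj V) (a : (toPM (pushO f)).obj V) :
    (bApp f G V).hom (g ⊗ₜ a) = bFun f G V.unop g a := rfl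

lemma unS_map {V W : Y.Opens} (i : W ⟶ V) (g : (toPM G).obj (op V)) :
    (toPM ((plb f).obj G)).map ((Opens.map f.base).map i).op (unS f G V g) =
      unS f G W ((toPM G).map i.op g) := by
  unfold unS
  exact (PresheafOfModules.naturality_apply (toPMMap (un f G)) i.op g).symm

lemma bFun_map {V W : Y.Opens} (i : W ⟶ V) (g : (toPM G).obj (op V))
    (a : (toPM (pushO f)).obj (op V)) :
    (toPM ((plb f).obj G)).map ((Opens.map f.base).map i).op (bFun f G V g a) =
      bFun f G W ((toPM G).map i.op g) ((toPM (pushO f)).map i.op a) := by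
  unfold bFun
  refine (PresheafOfModules.map_smul (toPM ((plb f).obj G)) ((Opens.map f.base).map i).op
    (show X.presheaf.obj (op (f ⁻¹ᵁ V)) from a) (unS f G V g)).trans ?_
  rw [unS_map]
  rfl

/-- the projection morphism on the sectionwise tensor product -/
noncomputable def bP : toPM G ⊗ toPM (pushO f) ⟶ toPM (pushPull f G) where
  app V := bApp f G V
  naturality {V W} i := ModuleCat.MonoidalCategory.tensor_ext (fun g a => by
    exact (bFun_map f G i.unop g a).symm)

lemma bP_app_tmul (V : (Opens Y)ᵒᵖ) (g : (toPM G).obj V) (a : (toPM (pushO f)).obj V) :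
    ((bP f G).app V).hom (g ⊗ₜ a) = bFun f G V.unop g a := rfl

/-- the projection morphism `G ⊗ f_* O_X ⟶ f_* f^* G` -/
noncomputable def beta : tens G (pushO f) ⟶ pushPull f G :=
  ((adj Y.sheaf).homEquiv (toPM G ⊗ toPM (pushO f)) (pushPull f G)).symm (bP f G)

lemma etaX_beta :
    etaX (toPM G ⊗ toPM (pushO f)) ≫ toPMMap (beta f G) = bP f G := by
  have h := (adj Y.sheaf).homEquiv_unit (X := toPM G ⊗ toPM (pushO f))
    (Y := pushPull f G) (f := beta f G)
  have h2 : (adj Y.sheaf).homEquiv _ _ (beta f G) = bP f G :=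
    Equiv.apply_symm_apply _ _
  exact h.symm.trans h2

end Groth.Agent.Lib.T2H2.AffProj
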