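import Mathlib
import Groth.Agent.Lib.T2H2AffProjA
set_option backward.isDefEq.respectTransparency.types false

/-!
# The projection morphism is bijective on the sectionwise tensor product over affine opens
(T2H2, affine projection formula, part B)
-/

set_option autoImplicit false
set_option linter.style.haveILetI false
set_option linter.unusedSectionVars false
universe u
open CategoryTheory CategoryTheory.Limits AlgebraicGeometry TopologicalSpace Opposite
  MonoidalCategory TensorProduct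

namespace Groth.Agent.Lib.T2H2.AffProj

open Groth.Agent.Lib.Helper1.PT Groth.Agent.Lib.Helper1.Sky Groth.Agent.Lib.Helper1.StalkTensor
  Groth.Agent.Lib.Helper21.ModTensor2 Groth.Agent.Helper13PullbackUnit

variable {X Y : Scheme.{u}} (f : X ⟶ Y) (G : Y.Modules)

lemma unS_eq_unitSec (V : Y.Opens) (g : (toPM G).obj (op V)) :
    unS f G V g = unitSec f G (le_refl (f ⁻¹ᵁ V)) (show Γ(G, V) from g) := by
  rw [unitSec_apply]
  have : (homOfLE (le_refl (f ⁻¹ᵁ V))).op = 𝟙 (op (f ⁻¹ᵁ V)) := rfl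
  rw [this, ((Scheme.Modules.pullback f).obj G).presheaf.map_id]
  rfl

section bij

variable [G.IsQuasicoherent] {V : Y.Opens} (hV : IsAffineOpen V) (hU : IsAffineOpen (f ⁻¹ᵁ V))

/-- the swap `G(V) ⊗ A(V) → A(V) ⊗ G(V)` into the Mathlib tensor product -/
noncomputable def cMap (V : Y.Opens) :
    letI : Algebra Γ(Y, V) Γ(X, f ⁻¹ᵁ V) := (f.app V).hom.toAlgebra
    (toPM G ⊗ toPM (pushO f)).obj (op V) →+ Γ(X, f ⁻¹ᵁ V) ⊗[Γ(Y, V)] Γ(G, V) :=
  letI : Algebra Γ(Y, V) Γ(X, f ⁻¹ᵁ V) := (f.app V).hom.toAlgebra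
  TensorProduct.liftAddHom (R := Y.presheaf.obj (op V)) (M := (toPM G).obj (op V))
    (N := (toPM (pushO f)).obj (op V))
    (AddMonoidHom.mk' (fun p => AddMonoidHom.mk'
      (fun q => (show Γ(X, f ⁻¹ᵁ V) from q) ⊗ₜ[Γ(Y, V)] (show Γ(G, V) from p))
      (fun q q' => TensorProduct.add_tmul _ _ _))
      (fun p p' => by
        ext q
        exact TensorProduct.tmul_add _ _ _))
    (fun r p q => by
      show (show Γ(X, f ⁻¹ᵁ V) from q) ⊗ₜ[Γ(Y, V)] ((show Γ(Y, V) from r) • (show Γ(G, V) from p)) =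
        ((show Γ(Y, V) from r) • (show Γ(X, f ⁻¹ᵁ V) from q)) ⊗ₜ[Γ(Y, V)] (show Γ(G, V) from p)
      rw [TensorProduct.smul_tmul])

lemma cMap_tm (V : Y.Opens) (p : (toPM G).obj (op V)) (q : (toPM (pushO f)).obj (op V)) :
    letI : Algebra Γ(Y, V) Γ(X, f ⁻¹ᵁ V) := (f.app V).hom.toAlgebra
    cMap f G V (tm (toPM G) (toPM (pushO f)) p q) =
      (show Γ(X, f ⁻¹ᵁ V) from q) ⊗ₜ[Γ(Y, V)] (show Γ(G, V) from p) := rfl

/-- the inverse swap -/
noncomputable def cInv (V : Y.Opens) :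
    letI : Algebra Γ(Y, V) Γ(X, f ⁻¹ᵁ V) := (f.app V).hom.toAlgebra
    Γ(X, f ⁻¹ᵁ V) ⊗[Γ(Y, V)] Γ(G, V) →+ (toPM G ⊗ toPM (pushO f)).obj (op V) :=
  letI : Algebra Γ(Y, V) Γ(X, f ⁻¹ᵁ V) := (f.app V).hom.toAlgebra
  TensorProduct.liftAddHom (R := Γ(Y, V)) (M := Γ(X, f ⁻¹ᵁ V)) (N := Γ(G, V))
    (AddMonoidHom.mk' (fun b => AddMonoidHom.mk'
      (fun m => tm (toPM G) (toPM (pushO f)) (show (toPM G).obj (op V) from m)
        (show (toPM (pushO f)).obj (op V) from b))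
      (fun m m' => tm_add_left _ _ _))
      (fun b b' => by
        ext m
        exact tm_add_right _ _ _))
    (fun r b m => by
      show tm (toPM G) (toPM (pushO f)) (show (toPM G).obj (op V) from m)
          ((show Y.presheaf.obj (op V) from r) • (show (toPM (pushO f)).obj (op V) from b)) =
        tm (toPM G) (toPM (pushO f))
          ((show Y.presheaf.obj (op V) from r) • (show (toPM G).obj (op V) from m))
          (show (toPM (pushO f)).obj (op V) from b)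
      exact (tm_smul _ _ _).symm)

lemma cInv_tmul (V : Y.Opens) (b : Γ(X, f ⁻¹ᵁ V)) (m : Γ(G, V)) :
    letI : Algebra Γ(Y, V) Γ(X, f ⁻¹ᵁ V) := (f.app V).hom.toAlgebra
    cInv f G V (b ⊗ₜ[Γ(Y, V)] m) = tm (toPM G) (toPM (pushO f)) (show (toPM G).obj (op V) from m)
        (show (toPM (pushO f)).obj (op V) from b) := rfl

lemma cInv_cMap (V : Y.Opens) (t : (toPM G ⊗ toPM (pushO f)).obj (op V)) :
    cInv f G V (cMap f G V t) = t := by
  induction t using tm_induction with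
  | zero => rw [map_zero, map_zero]
  | tmul p q => rfl
  | add s t hs ht => rw [map_add, map_add, hs, ht]

include hV hU in
theorem bP_app_injective : Function.Injective ((bP f G).app (op V)).hom := by
  letI : Algebra Γ(Y, V) Γ(X, f ⁻¹ᵁ V) := (f.app V).hom.toAlgebra
  let l : Γ(G, V) →+ Γ(X, f ⁻¹ᵁ V) ⊗[Γ(Y, V)] Γ(G, V) :=
    (TensorProduct.mk Γ(Y, V) Γ(X, f ⁻¹ᵁ V) Γ(G, V) 1).toAddMonoidHom
  have hl : ∀ (r : Γ(Y, V)) (x : Γ(G, V)),
      l (r • x) = (f.appLE V (f ⁻¹ᵁ V) le_rfl r : Γ(X, f ⁻¹ᵁ V)) • l x := by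
    intro r x
    show (1 : Γ(X, f ⁻¹ᵁ V)) ⊗ₜ[Γ(Y, V)] (r • x) =
      (f.appLE V (f ⁻¹ᵁ V) le_rfl r : Γ(X, f ⁻¹ᵁ V)) • ((1 : Γ(X, f ⁻¹ᵁ V)) ⊗ₜ[Γ(Y, V)] x)
    rw [TensorProduct.tmul_smul, TensorProduct.smul_tmul', TensorProduct.smul_tmul',
      ← Scheme.Hom.app_eq_appLE, Algebra.smul_def, smul_eq_mul]
    rfl
  obtain ⟨l', hl', -⟩ := existsUnique_lift f G hV hU le_rfl _ l hl
  let ψ : (toPM G ⊗ toPM (pushO f)).obj (op V) →+ Γ(X, f ⁻¹ᵁ V) ⊗[Γ(Y, V)] Γ(G, V) :=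
    AddMonoidHom.mk' (fun t => l' (show Γ((Scheme.Modules.pullback f).obj G, f ⁻¹ᵁ V) from
      ((bP f G).app (op V)).hom t)) (fun a b => by
        rw [map_add]
        exact map_add l' _ _)
  have key : ∀ t, ψ t = cMap f G V t := by
    intro t
    induction t using tm_induction with
    | zero => rw [map_zero, map_zero]
    | tmul p q =>
      rw [cMap_tm]
      show l' (bFun f G V p q) = _
      unfold bFun
      rw [unS_eq_unitSec]
      refine (map_smul l' (show Γ(X, f ⁻¹ᵁ V) from q)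
        (unitSec f G (le_refl (f ⁻¹ᵁ V)) (show Γ(G, V) from p))).trans ?_
      rw [hl']
      show (show Γ(X, f ⁻¹ᵁ V) from q) • ((1 : Γ(X, f ⁻¹ᵁ V)) ⊗ₜ[Γ(Y, V)] (show Γ(G, V) from p)) = _
      rw [TensorProduct.smul_tmul', smul_eq_mul, mul_one]
    | add s t hs ht => rw [map_add, map_add, hs, ht]
  intro t t' h
  have h2 : ψ t = ψ t' := congrArg (fun z => l' (show Γ((Scheme.Modules.pullback f).obj G, f ⁻¹ᵁ V) from z)) h
  rw [key, key] at h2
  have h3 := congrArg (cInv f G V) h2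
  rw [cInv_cMap, cInv_cMap] at h3
  exact h3

omit [G.IsQuasicoherent] in
lemma exists_bP_smul (V : Y.Opens) (a : Γ(X, f ⁻¹ᵁ V)) (t : (toPM G ⊗ toPM (pushO f)).obj (op V)) :
    ∃ t' : (toPM G ⊗ toPM (pushO f)).obj (op V),
      (show Γ((Scheme.Modules.pullback f).obj G, f ⁻¹ᵁ V) from ((bP f G).app (op V)).hom t') =
        a • (show Γ((Scheme.Modules.pullback f).obj G, f ⁻¹ᵁ V) from ((bP f G).app (op V)).hom t) := by
  induction t using tm_induction with
  | zero =>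
    refine ⟨0, ?_⟩
    rw [map_zero]
    exact (smul_zero (A := Γ((Scheme.Modules.pullback f).obj G, f ⁻¹ᵁ V)) a).symm
  | tmul p q =>
    refine ⟨tm (toPM G) (toPM (pushO f)) p
      (show (toPM (pushO f)).obj (op V) from (a * (show Γ(X, f ⁻¹ᵁ V) from q))), ?_⟩
    show (a * (show Γ(X, f ⁻¹ᵁ V) from q)) • unS f G V p = a • ((show Γ(X, f ⁻¹ᵁ V) from q) • unS f G V p)
    rw [mul_smul]
  | add s t hs ht =>
    obtain ⟨s', hs'⟩ := hs
    obtain ⟨t', ht'⟩ := ht
    refine ⟨s' + t', ?_⟩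
    rw [map_add, map_add]
    refine Eq.trans ?_ (smul_add a _ _).symm
    exact congrArg₂ (· + ·) hs' ht'

include hV hU in
theorem bP_app_surjective : Function.Surjective ((bP f G).app (op V)).hom := by
  let W : Submodule Γ(X, f ⁻¹ᵁ V) Γ((Scheme.Modules.pullback f).obj G, f ⁻¹ᵁ V) :=
    Submodule.span _ (Set.range (unitSec f G (le_refl (f ⁻¹ᵁ V))))
  have hW : W = ⊤ := by
    obtain ⟨l', -, huniq⟩ := existsUnique_lift f G hV hU le_rfl
      (Γ((Scheme.Modules.pullback f).obj G, f ⁻¹ᵁ V) ⧸ W) (0 : Γ(G, V) →+ _)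
      (fun r x => by simp)
    have h1 := huniq W.mkQ (fun x => by
      show W.mkQ (unitSec f G (le_refl (f ⁻¹ᵁ V)) x) = 0
      rw [Submodule.mkQ_apply, Submodule.Quotient.mk_eq_zero]
      exact Submodule.subset_span ⟨x, rfl⟩)
    have h2 := huniq 0 (fun x => rfl)
    have h3 : W.mkQ = 0 := h1.trans h2.symm
    rw [← Submodule.ker_mkQ W, h3, LinearMap.ker_zero]
  intro p
  have hp : (show Γ((Scheme.Modules.pullback f).obj G, f ⁻¹ᵁ V) from p) ∈ W := by
    rw [hW]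
    exact Submodule.mem_top
  refine Submodule.span_induction
    (p := fun x _ => ∃ t : (toPM G ⊗ toPM (pushO f)).obj (op V),
      (show Γ((Scheme.Modules.pullback f).obj G, f ⁻¹ᵁ V) from ((bP f G).app (op V)).hom t) = x)
    ?_ ?_ ?_ ?_ hp
  · rintro x ⟨g, rfl⟩
    refine ⟨tm (toPM G) (toPM (pushO f)) (show (toPM G).obj (op V) from g)
      (show (toPM (pushO f)).obj (op V) from (1 : Γ(X, f ⁻¹ᵁ V))), ?_⟩
    show (1 : Γ(X, f ⁻¹ᵁ V)) • unS f G V (show (toPM G).obj (op V) from g) = _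
    rw [one_smul, unS_eq_unitSec]
  · exact ⟨0, map_zero _⟩
  · rintro x y - - ⟨s, hs⟩ ⟨t, ht⟩
    refine ⟨s + t, ?_⟩
    rw [map_add]
    exact congrArg₂ (· + ·) hs ht
  · rintro a x - ⟨t, ht⟩
    obtain ⟨t', ht'⟩ := exists_bP_smul f G V a t
    exact ⟨t', ht'.trans (congrArg (fun z => a • z) ht)⟩

include hV hU in
theorem bP_app_bijective : Function.Bijective ((bP f G).app (op V)).hom :=
  ⟨bP_app_injective f G hV hU, bP_app_surjective f G hV hU⟩

end bij

end Groth.Agent.Lib.T2H2.AffProj
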