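import Mathlib
import Groth.Agent.Lib.T2H2AffProjB
import Groth.Agent.Lib.Helper26FpqcMod
set_option backward.isDefEq.respectTransparency.types false

/-!
# The affine projection formula `G ⊗ f_* O_X ≅ f_* f^* G` (T2H2, affine projection formula, part C)

A morphism out of a sheafified presheaf of modules which is bijective on the presheaf over a basis of opens is an
isomorphism; applied to `beta f G` for an affine morphism `f` and a quasi-coherent module `G`.
-/

set_option autoImplicit false
set_option linter.style.haveILetI false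
set_option linter.unusedSectionVars false
universe u
open CategoryTheory CategoryTheory.Limits AlgebraicGeometry TopologicalSpace Opposite
  MonoidalCategory TensorProduct

namespace Groth.Agent.Lib.T2H2.AffProj

open Groth.Agent.Lib.Helper1.PT Groth.Agent.Lib.Helper1.Sky Groth.Agent.Lib.Helper1.StalkTensor
  Groth.Agent.Lib.Helper21.ModTensor2 Groth.Agent.Lib.Helper26.FpqcMod

section general

variable {Y : Scheme.{u}} {T : PMod Y.presheaf} {N : Y.Modules} (P : T ⟶ toPM N)
  (β : shX.obj T ⟶ N) (hβ : etaX T ≫ toPMMap β = P)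

include hβ in
lemma sm_beta_etaX (y : Y) (a : St T y) :
    sm (toPMMap β) y (sm (etaX T) y a) = sm P y a := by
  rw [← sm_comp, hβ]

include hβ in
/-- a morphism out of the sheafification which is bijective on the presheaf over arbitrarily small open neighbourhoods
of every point is an isomorphism -/
theorem isIso_of_bijective_basis
    (h : ∀ (y : Y) (V₀ : Y.Opens), y ∈ V₀ → ∃ V : Y.Opens, V ≤ V₀ ∧ y ∈ V ∧
      Function.Bijective (P.app (op V)).hom) : IsIso β := by
  rw [isIso_iff_stalk]
  intro y
  constructor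
  · rw [injective_iff_map_eq_zero]
    intro a ha
    rw [stalkFun_map_apply] at ha
    obtain ⟨a₀, rfl⟩ := (sm_etaX_bijective T y).2 a
    rw [sm_beta_etaX P β hβ] at ha
    obtain ⟨V₀, hy₀, τ, rfl⟩ := exists_gm_eq a₀
    rw [sm_gm] at ha
    have ha' : gm (toPM N) y V₀ hy₀ (P.app (op V₀) τ) = gm (toPM N) y V₀ hy₀ 0 :=
      ha.trans (map_zero _).symm
    obtain ⟨W, hyW, iU, iV, hres⟩ := gm_eq hy₀ hy₀ _ _ ha'
    obtain ⟨V, hVW, hyV, hbij⟩ := h y W hyW
    have hτ : rs T (homOfLE (hVW.trans iU.le)) τ = 0 := by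
      apply hbij.1
      rw [map_zero]
      have h1 : (P.app (op V)).hom (rs T (homOfLE (hVW.trans iU.le)) τ) =
          rs (toPM N) (homOfLE (hVW.trans iU.le)) ((P.app (op V₀)).hom τ) :=
        PresheafOfModules.naturality_apply P (homOfLE (hVW.trans iU.le)).op τ
      rw [h1]
      have h2 : rs (toPM N) (homOfLE (hVW.trans iU.le)) ((P.app (op V₀)).hom τ) =
          rs (toPM N) (homOfLE hVW) (rs (toPM N) iU ((P.app (op V₀)).hom τ)) :=
        (rs_rs iU (homOfLE hVW) _).symm
      rw [h2, hres, map_zero, map_zero]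
    have h3 : gm T y V₀ hy₀ τ = 0 := by
      rw [← gm_rs (homOfLE (hVW.trans iU.le)) hyV τ, hτ, map_zero]
    exact (congrArg (sm (etaX T) y) h3).trans (map_zero _)
  · intro b
    obtain ⟨V₀, hy₀, s, rfl⟩ := exists_gm_eq b
    obtain ⟨V, hVW, hyV, hbij⟩ := h y V₀ hy₀
    obtain ⟨τ, hτ⟩ := hbij.2 (rs (toPM N) (homOfLE hVW) s)
    refine ⟨sm (etaX T) y (gm T y V hyV τ), ?_⟩
    rw [stalkFun_map_apply, sm_beta_etaX P β hβ, sm_gm]
    refine (congrArg (gm (toPM N) y V hyV) hτ).trans ?_
    exact gm_rs (homOfLE hVW) hyV s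

end general

/-- **The affine projection formula**: for an affine morphism `f : X ⟶ Y` and a quasi-coherent module `G` on `Y`,
the projection morphism `G ⊗ f_* O_X ⟶ f_* f^* G` is an isomorphism. -/
theorem isIso_beta {X Y : Scheme.{u}} (f : X ⟶ Y) [IsAffineHom f] (G : Y.Modules) [G.IsQuasicoherent] :
    IsIso (beta f G) := by
  refine isIso_of_bijective_basis (bP f G) (beta f G) (etaX_beta f G) ?_
  intro y V₀ hy
  obtain ⟨V, hV, hyV, hVV₀⟩ := exists_isAffineOpen_mem_and_subset (x := y) (U := V₀) hy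
  exact ⟨V, hVV₀, hyV, bP_app_bijective f G hV (hV.preimage f)⟩

/-- the affine projection formula as an isomorphism `f_* f^* G ≅ G ⊗ f_* O_X` -/
theorem nonempty_pushPull_iso {X Y : Scheme.{u}} (f : X ⟶ Y) [IsAffineHom f] (G : Y.Modules)
    [G.IsQuasicoherent] :
    Nonempty ((Scheme.Modules.pushforward f).obj ((Scheme.Modules.pullback f).obj G) ≅
      CohB1.tensorMod G ((Scheme.Modules.pushforward f).obj (Coh.structureModule X))) :=
  haveI := isIso_beta f G
  ⟨(asIso (beta f G)).symm⟩

end Groth.Agent.Lib.T2H2.AffProj
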