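import Groth.Agent.Lib.T2H2ModLim2

/-!
# Transfer of maps from free modules along a pushforward, and local boundaries (T2H2)

For `f : X ⟶ S` and `V ⊆ S` open, `Hom(O_{f⁻¹V}-free, M) ≃ Hom(O_V-free, f_* M)` (`pushEquiv`),
naturally in `M` and `V`.  If `f_* I` is exact in degree `n`, a cocycle `O_{f⁻¹V}-free ⟶ I^n` is
locally on `V` a coboundary (`exists_local_boundary`).
-/

set_option autoImplicit false
set_option linter.style.haveILetI false
universe w u
open CategoryTheory CategoryTheory.Limits Opposite AlgebraicGeometry TopologicalSpace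

namespace Groth.Agent.Lib.T2H2.AffPush

open Groth.Agent.Lib.Helper17.Hyp Groth.Agent.S14388
  Groth.Agent.Lib.T2H2.ModLim Groth.Agent.Lib.T2H2.ModLim2
  Groth.Agent.Lib.Helper21 Groth.Agent.Lib.Helper21.FreeAb

section Site

variable {C : Type u} [SmallCategory C] {J : GrothendieckTopology C} (R : Sheaf J RingCat.{u})

lemma secR_res {U V : C} (g : V ⟶ U) (M : SheafOfModules.{u} R) (s : (frModR R).obj U ⟶ M) :
    secR R V M ((frModR R).map g ≫ s) =
      (((SheafOfModules.toSheaf R).obj M).obj.map g.op).hom (secR R U M s) := by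
  change CohFree.evalGen J V _ ((freeShRAdj R).homEquiv _ _ ((freeShR R).map (CohCx.freeSheafMap J g) ≫ s)) = _
  rw [Adjunction.homEquiv_naturality_left]
  exact CohFree.evalGen_freeSheafMap_comp J g _ _

end Site

section Sch

variable {X S : Scheme.{u}} (f : X ⟶ S)

/-- `Hom(O_{f⁻¹V}-free, M) ≃ Hom(O_V-free, f_* M)`. -/
noncomputable def pushEquiv (V : S.Opens) (M : X.Modules) :
    ((frX X).obj (f ⁻¹ᵁ V) ⟶ M) ≃ ((frX S).obj V ⟶ (Scheme.Modules.pushforward f).obj M) :=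
  (secR X.ringCatSheaf (f ⁻¹ᵁ V) M).trans
    (secR S.ringCatSheaf V ((Scheme.Modules.pushforward f).obj M)).symm

lemma secR_pushEquiv (V : S.Opens) (M : X.Modules) (s : (frX X).obj (f ⁻¹ᵁ V) ⟶ M) :
    secR S.ringCatSheaf V ((Scheme.Modules.pushforward f).obj M) (pushEquiv f V M s) =
      secR X.ringCatSheaf (f ⁻¹ᵁ V) M s :=
  (secR S.ringCatSheaf V ((Scheme.Modules.pushforward f).obj M)).apply_symm_apply _

lemma pushEquiv_comp (V : S.Opens) {M N : X.Modules} (φ : M ⟶ N)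
    (s : (frX X).obj (f ⁻¹ᵁ V) ⟶ M) :
    pushEquiv f V N (s ≫ φ) = pushEquiv f V M s ≫ (Scheme.Modules.pushforward f).map φ := by
  apply (secR S.ringCatSheaf V ((Scheme.Modules.pushforward f).obj N)).injective
  refine (secR_pushEquiv f V N _).trans ?_
  refine (secR_comp X.ringCatSheaf (f ⁻¹ᵁ V) φ s).trans ?_
  refine Eq.trans ?_ (secR_comp S.ringCatSheaf V ((Scheme.Modules.pushforward f).map φ) _).symm
  refine Eq.trans ?_ (congrArg _ (secR_pushEquiv f V M s).symm)
  rfl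

lemma pushEquiv_res {V V' : S.Opens} (g : V' ⟶ V) (M : X.Modules)
    (s : (frX X).obj (f ⁻¹ᵁ V) ⟶ M) :
    pushEquiv f V' M ((frX X).map ((Opens.map f.base).map g) ≫ s) =
      (frX S).map g ≫ pushEquiv f V M s := by
  apply (secR S.ringCatSheaf V' ((Scheme.Modules.pushforward f).obj M)).injective
  refine (secR_pushEquiv f V' M _).trans ?_
  refine (secR_res X.ringCatSheaf ((Opens.map f.base).map g) M s).trans ?_
  refine Eq.trans ?_ (secR_res S.ringCatSheaf g ((Scheme.Modules.pushforward f).obj M)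
    (pushEquiv f V M s)).symm
  refine Eq.trans ?_ (congrArg _ (secR_pushEquiv f V M s).symm)
  rfl

lemma pushEquiv_symm_comp (V : S.Opens) {M N : X.Modules} (φ : M ⟶ N)
    (s : (frX S).obj V ⟶ (Scheme.Modules.pushforward f).obj M) :
    (pushEquiv f V N).symm (s ≫ (Scheme.Modules.pushforward f).map φ) =
      (pushEquiv f V M).symm s ≫ φ := by
  apply (pushEquiv f V N).injective
  rw [Equiv.apply_symm_apply, pushEquiv_comp, Equiv.apply_symm_apply]

lemma pushEquiv_zero (V : S.Opens) (M : X.Modules) : pushEquiv f V M 0 = 0 := by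
  have h := pushEquiv_comp f V (0 : M ⟶ M) (0 : (frX X).obj (f ⁻¹ᵁ V) ⟶ M)
  rw [comp_zero, Functor.map_zero, comp_zero] at h
  exact h

/-- If `f_* I` is exact in degree `n`, a cocycle `O_{f⁻¹V}-free ⟶ I^n` is locally on `V` a
coboundary. -/
theorem exists_local_boundary (I : CochainComplex X.Modules ℤ) (n : ℤ)
    (hex : (((Scheme.Modules.pushforward f).mapHomologicalComplex (ComplexShape.up ℤ)).obj
      I).ExactAt n)
    (V : S.Opens) (φ : (frX X).obj (f ⁻¹ᵁ V) ⟶ I.X n) (hφ : φ ≫ I.d n (n + 1) = 0) :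
    ∃ T ∈ Opens.grothendieckTopology S V, ∀ ⦃V' : S.Opens⦄ (g : V' ⟶ V), T g →
      ∃ ψ : (frX X).obj (f ⁻¹ᵁ V') ⟶ I.X (n - 1),
        ψ ≫ I.d (n - 1) n = (frX X).map ((Opens.map f.base).map g) ≫ φ := by
  let Jc := ((Scheme.Modules.pushforward f).mapHomologicalComplex (ComplexShape.up ℤ)).obj I
  have hS : (Jc.sc' (n - 1) n (n + 1)).Exact :=
    (Jc.exactAt_iff' (n - 1) n (n + 1) (by simp) (by simp)).1 hex
  haveI : Epi (kernel.lift (Jc.sc' (n - 1) n (n + 1)).g (Jc.sc' (n - 1) n (n + 1)).f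
      (Jc.sc' (n - 1) n (n + 1)).zero) :=
    (Jc.sc' (n - 1) n (n + 1)).exact_iff_epi_kernel_lift.1 hS
  have hφ' : pushEquiv f V (I.X n) φ ≫ (Jc.sc' (n - 1) n (n + 1)).g = 0 := by
    change pushEquiv f V (I.X n) φ ≫ (Scheme.Modules.pushforward f).map (I.d n (n + 1)) = 0
    rw [← pushEquiv_comp, hφ, pushEquiv_zero]
  obtain ⟨T, hT, hT'⟩ := (locFr_frX S).lift
    (kernel.lift (Jc.sc' (n - 1) n (n + 1)).g (Jc.sc' (n - 1) n (n + 1)).f
      (Jc.sc' (n - 1) n (n + 1)).zero) V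
    (kernel.lift (Jc.sc' (n - 1) n (n + 1)).g (pushEquiv f V (I.X n) φ) hφ')
  refine ⟨T, hT, fun V' g hg => ?_⟩
  obtain ⟨s'', hs'⟩ := hT' g hg
  let s' : (frX S).obj V' ⟶ (Scheme.Modules.pushforward f).obj (I.X (n - 1)) := s''
  have h1 : s' ≫ (Scheme.Modules.pushforward f).map (I.d (n - 1) n) =
      (frX S).map g ≫ pushEquiv f V (I.X n) φ := by
    have h2 := congrArg (fun x => x ≫ kernel.ι (Jc.sc' (n - 1) n (n + 1)).g) hs'
    simp only [Category.assoc, kernel.lift_ι] at h2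
    exact h2
  refine ⟨(pushEquiv f V' (I.X (n - 1))).symm s', ?_⟩
  refine (pushEquiv_symm_comp f V' (I.d (n - 1) n) s').symm.trans ?_
  rw [h1, ← pushEquiv_res, Equiv.symm_apply_apply]

end Sch

end Groth.Agent.Lib.T2H2.AffPush
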