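import Groth.Agent.Lib.T2H2AffPushA
import Groth.Agent.Lib.Helper1BKF1

/-!
# Classes with values in a K-injective complex whose pushforward is acyclic vanish locally (T2H2)
-/

set_option autoImplicit false
set_option linter.style.haveILetI false
universe w u
open CategoryTheory CategoryTheory.Limits Opposite AlgebraicGeometry TopologicalSpace

namespace Groth.Agent.Lib.T2H2.AffPush

open Groth.Agent.Lib.Helper17.Hyp Groth.Agent.S14388 DerivedCategory
  Groth.Agent.Lib.T2H2.ModLim Groth.Agent.Lib.T2H2.ModLim2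

variable {X S : Scheme.{u}} (f : X ⟶ S)

theorem exists_local_boundary' (I : CochainComplex X.Modules ℤ) (a n b : ℤ) (ha : a + 1 = n)
    (hb : n + 1 = b)
    (hex : (((Scheme.Modules.pushforward f).mapHomologicalComplex (ComplexShape.up ℤ)).obj
      I).ExactAt n)
    (V : S.Opens) (φ : (frX X).obj (f ⁻¹ᵁ V) ⟶ I.X n) (hφ : φ ≫ I.d n b = 0) :
    ∃ T ∈ Opens.grothendieckTopology S V, ∀ ⦃V' : S.Opens⦄ (g : V' ⟶ V), T g →
      ∃ ψ : (frX X).obj (f ⁻¹ᵁ V') ⟶ I.X a,
        ψ ≫ I.d a n = (frX X).map ((Opens.map f.base).map g) ≫ φ := by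
  obtain rfl : a = n - 1 := by omega
  obtain rfl : b = n + 1 := by omega
  exact exists_local_boundary f I n hex V φ hφ

variable [HasDerivedCategory.{w} X.Modules]

/-- classes with values in a K-injective complex `I` with `f_* I` exact in degree `0` vanish
locally on the base. -/
theorem exists_cover_res_eq_zero (I : CochainComplex X.Modules ℤ) [I.IsKInjective]
    (hI : (((Scheme.Modules.pushforward f).mapHomologicalComplex (ComplexShape.up ℤ)).obj
      I).ExactAt 0)
    (V : S.Opens) (ξ : dsgl ((frX X).obj (f ⁻¹ᵁ V)) ⟶ Q.obj I) :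
    ∃ T ∈ Opens.grothendieckTopology S V, ∀ ⦃V' : S.Opens⦄ (g : V' ⟶ V), T g →
      res (frX X) ((Opens.map f.base).map g) ξ = 0 := by
  obtain ⟨g₀, hg₀⟩ := Groth.Agent.Lib.Helper17.KInj.exists_Q_map_eq ξ
  obtain ⟨φ, hφ, rfl⟩ := eq_fromSingle₀ g₀
  obtain ⟨T, hT, hT'⟩ := exists_local_boundary' f I (-1) 0 1 (by norm_num) (by norm_num) hI V φ hφ
  refine ⟨T, hT, fun V' g hg => ?_⟩
  obtain ⟨ψ, hψ⟩ := hT' g hg
  dsimp only [res]
  rw [← hg₀, ← Functor.map_comp, single_map_comp_fromSingle₀]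
  have h2 : fromSingle₀ ((frX X).map ((Opens.map f.base).map g) ≫ φ)
      (by rw [Category.assoc, hφ, comp_zero]) =
      fromSingle₀ (ψ ≫ I.d (-1) 0) (by rw [Category.assoc, I.d_comp_d, comp_zero]) := by
    congr 1
    exact hψ.symm
  rw [h2, Q_map_eq_of_homotopy (homotopyFromSingle₀ ψ _), Functor.map_zero]

/-- shifted version. -/
theorem exists_cover_res_eq_zero_shift (I : CochainComplex X.Modules ℤ) [I.IsKInjective]
    (hI : (((Scheme.Modules.pushforward f).mapHomologicalComplex (ComplexShape.up ℤ)).obj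
      I).Acyclic)
    (m : ℤ) (V : S.Opens) (ξ : dsgl ((frX X).obj (f ⁻¹ᵁ V)) ⟶ (Q.obj I)⟦m⟧) :
    ∃ T ∈ Opens.grothendieckTopology S V, ∀ ⦃V' : S.Opens⦄ (g : V' ⟶ V), T g →
      res (frX X) ((Opens.map f.base).map g) ξ = 0 := by
  let e : (Q.obj I)⟦m⟧ ≅ Q.obj (I⟦m⟧) := ((Q.commShiftIso m).app I).symm
  have hI' : (((Scheme.Modules.pushforward f).mapHomologicalComplex (ComplexShape.up ℤ)).obj
      (I⟦m⟧)).ExactAt 0 := by
    have h1 := (Groth.Agent.Lib.Helper1.BKF.acyc_iff_acyclic _).2 hI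
    have h2 := (h1.shift m).of_iso
      ((((Scheme.Modules.pushforward f).mapHomologicalComplex
        (ComplexShape.up ℤ)).commShiftIso m).app I).symm
    exact (Groth.Agent.Lib.Helper1.BKF.acyc_iff_acyclic _).1 h2 0
  obtain ⟨T, hT, hT'⟩ := exists_cover_res_eq_zero f (I⟦m⟧) hI' V (ξ ≫ e.hom)
  refine ⟨T, hT, fun V' g hg => ?_⟩
  have h := hT' g hg
  rw [res_comp] at h
  rw [← cancel_mono e.hom, h, zero_comp]

end Groth.Agent.Lib.T2H2.AffPush
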