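import Groth.Agent.Lib.T2H2ModLim2
import Groth.Agent.Lib.T2H2AcycBasis
import Groth.Agent.Lib.Helper2QCoh

/-!
# Hypercohomology of `D_QCoh` on affine opens, and vanishing of quasi-coherent modules (T2H2)
-/

set_option autoImplicit false
set_option linter.style.haveILetI false
universe w u
open CategoryTheory CategoryTheory.Limits Opposite AlgebraicGeometry TopologicalSpace

namespace Groth.Agent.Lib.T2H2.AffPush

open Groth.Agent.Lib.Helper17.Hyp Groth.Agent.S14388 DerivedCategory
  Groth.Agent.Lib.T2H2.ModLim Groth.Agent.Lib.T2H2.ModLim2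

variable {X : Scheme.{u}}

/-- For `E ∈ D_QCoh(O_X)` and `U` affine, `Hom_{D(O_X)}(O_U-free[0], E[m]) ≃ Hom(O_U-free, H^m E)`. -/
theorem bijective_cm_affine [HasDerivedCategory.{w} X.Modules] (E : DerivedCategory X.Modules)
    (hE : ∀ i : ℤ, ((homologyFunctor X.Modules i).obj E).IsQuasicoherent)
    {U : X.Opens} (hU : IsAffineOpen U) (m : ℤ) :
    Function.Bijective (fun ξ : dsgl ((frX X).obj U) ⟶ E⟦m⟧ => cm ξ) := by
  haveI := isGrothendieckAbelian_modules X
  haveI : HasProducts.{u} (DerivedCategory X.Modules) :=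
    Groth.Agent.Lib.Helper17.KInj.hasProducts_derivedCategory
  haveI : HasProducts.{0} (DerivedCategory X.Modules) :=
    has_smallest_products_of_hasProducts
  have hL := isRlimVia_truncTower_qcoh E hE
  refine Groth.Agent.Lib.T2H2.AcycBasis.bijective_cm_of_acyc E hL ((frX X).obj U) ?_ m
  intro j k hk
  haveI := hE j
  obtain ⟨p, rfl⟩ : ∃ p : ℕ, k = ((p + 1 : ℕ) : ℤ) := ⟨(k - 1).toNat, by push_cast; omega⟩
  exact subsingleton_hom_affine hU _ (p + 1) (Nat.succ_pos p)

/-- stalks of a quasi-coherent module vanish over an affine open without sections. -/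
theorem stalk_eq_zero_of_subsingleton (G : X.Modules) [G.IsQuasicoherent] {U : X.Opens}
    (hU : IsAffineOpen U) (h : Subsingleton Γ(G, U)) (x : X) (hxU : x ∈ U)
    (y : G.presheaf.stalk x) : y = 0 := by
  obtain ⟨s, m, hxs, hsm⟩ := Groth.Agent.Lib.Helper2.QCoh.exists_smul_eq_germ hU G x hxU y
  have hm : m = 0 := Subsingleton.elim _ _
  rw [hm, map_zero] at hsm
  have hu : IsUnit (X.presheaf.germ U x hxU s) := (X.mem_basicOpen s x hxU).1 hxs
  exact (hu.smul_eq_zero).1 hsm

theorem section_eq_zero_of_subsingleton (G : X.Modules) [G.IsQuasicoherent] {U : X.Opens}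
    (hU : IsAffineOpen U) (h : Subsingleton Γ(G, U)) {W : X.Opens} (hW : W ≤ U)
    (s : Γ(G, W)) : s = 0 := by
  refine TopCat.Presheaf.section_ext ⟨G.presheaf, G.isSheaf⟩ W s 0 (fun x hx => ?_)
  exact (stalk_eq_zero_of_subsingleton G hU h x (hW hx) _).trans
    (stalk_eq_zero_of_subsingleton G hU h x (hW hx) _).symm

/-- a quasi-coherent module is zero if `X` is covered by affine opens `U` with
`Hom(O_U-free, G) = 0`. -/
theorem isZero_of_subsingleton_hom (G : X.Modules) [G.IsQuasicoherent]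
    (h : ∀ x : X, ∃ U : X.Opens, IsAffineOpen U ∧ x ∈ U ∧ Subsingleton ((frX X).obj U ⟶ G)) :
    IsZero G := by
  rw [IsZero.iff_id_eq_zero]
  apply (locFr_frX X).gen
  intro W s
  rw [Category.comp_id]
  let T : Sieve W :=
    { arrows := fun W' _ => ∃ U : X.Opens, IsAffineOpen U ∧ Subsingleton ((frX X).obj U ⟶ G) ∧
        W' ≤ U
      downward_closed := by
        rintro W₁ W₂ g ⟨U, hU, hs, hle⟩ k
        exact ⟨U, hU, hs, le_trans k.le hle⟩ }
  have hT : T ∈ Opens.grothendieckTopology X W := by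
    intro x hx
    obtain ⟨U, hU, hxU, hs⟩ := h x
    exact ⟨W ⊓ U, homOfLE inf_le_left, ⟨U, hU, hs, inf_le_right⟩, ⟨hx, hxU⟩⟩
  apply (locFr_frX X).sep W s T hT
  rintro W' g ⟨U, hU, hs, hle⟩
  apply (secR X.ringCatSheaf W' G).injective
  have hΓ : Subsingleton Γ(G, U) :=
    @Equiv.subsingleton _ _ (secR X.ringCatSheaf U G).symm hs
  have h1 : ∀ t : Γ(G, W'), t = 0 := fun t => section_eq_zero_of_subsingleton G hU hΓ hle t
  exact (h1 _).trans (h1 _).symm

end Groth.Agent.Lib.T2H2.AffPush
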