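import Groth.Agent.Lib.T2H2AffPushB
import Groth.Agent.Lib.T2H2AffPushC
import Groth.Agent.Lib.Helper23QCohExt
import Groth.Agent.Lib.T2H8QCohDCoprod
import Groth.Agent.Lib.Helper17Hyp17
import Groth.Agent.Lib.Helper17KInjD5

/-!
# `Rf_*` detects vanishing on `D_QCoh` for affine `f` (T2H2)

* `isWeakSerre_qcProp`: quasi-coherent modules form a weak Serre subcategory of `Mod(O_X)`.
* `isZero_homology_of_acyclic_push`: for `f` affine and `C ∈ D_QCoh(O_X)` represented by a
  K-injective complex `I` with `f_* I` acyclic, all cohomology sheaves of `C` vanish.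
* `isIso_Q_map_of_quasiIso_push`: a morphism `a : I ⟶ I'` of K-injective complexes with
  quasi-coherent cohomology such that `f_* a` is a quasi-isomorphism is a quasi-isomorphism.
-/

set_option autoImplicit false
set_option linter.style.haveILetI false
universe w u
open CategoryTheory CategoryTheory.Limits Opposite AlgebraicGeometry TopologicalSpace ZeroObject

namespace Groth.Agent.Lib.T2H2.AffPush

open Groth.Agent.Lib.Helper17.Hyp Groth.Agent.S14388 DerivedCategory
  Groth.Agent.Lib.T2H2.ModLim Groth.Agent.Lib.T2H2.ModLim2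
  Groth.Agent.Lib.Helper23.QCohLocal Groth.Agent.Lib.T2H8.QCohDCoprod

section WS

variable {X : Scheme.{u}}

theorem isQuasicoherent_of_isZero (M : X.Modules) (hM : IsZero M) : M.IsQuasicoherent := by
  let F : Discrete PEmpty.{u + 1} ⥤ X.Modules := Functor.empty _
  have h : (colimit F).IsQuasicoherent := isQuasicoherent_colimit F (fun j => j.as.elim)
  have hz : IsZero (colimit F) := by
    rw [IsZero.iff_id_eq_zero]
    exact colimit.hom_ext (fun j => j.as.elim)
  exact isQCoh_of_iso (hz.iso hM) h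

/-- the property of being quasi-coherent. -/
def qcProp (X : Scheme.{u}) : ObjectProperty X.Modules := fun M => M.IsQuasicoherent

theorem isWeakSerre_qcProp (X : Scheme.{u}) : WSerre.IsWeakSerre (qcProp X) where
  exists_zero := ⟨0, isZero_zero _, isQuasicoherent_of_isZero _ (isZero_zero _)⟩
  kernels_le := by
    rintro _ ⟨f, k, hk, ⟨hX, hY⟩⟩
    haveI : (_ : X.Modules).IsQuasicoherent := hX
    haveI : (_ : X.Modules).IsQuasicoherent := hY
    exact isQCoh_of_iso (hk.conePointUniqueUpToIso (kernelIsKernel f)).symm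
      (isQuasicoherent_kernel f)
  cokernels_le := by
    rintro _ ⟨f, k, hk, ⟨hX, hY⟩⟩
    haveI : (_ : X.Modules).IsQuasicoherent := hX
    haveI : (_ : X.Modules).IsQuasicoherent := hY
    exact isQCoh_of_iso (hk.coconePointUniqueUpToIso (cokernelIsCokernel f)).symm
      (isQuasicoherent_cokernel f)
  prop_X₂_of_shortExact hS h1 h3 := isQuasicoherent_of_shortExact _ hS h1 h3

end WS

section Main

variable {X S : Scheme.{u}} (f : X ⟶ S) [HasDerivedCategory.{w} X.Modules]

/-- For `f` affine and `C ∈ D_QCoh(O_X)` represented by a K-injective complex `I` with `f_* I`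
acyclic, all cohomology sheaves of `C` vanish. -/
theorem isZero_homology_of_acyclic_push [IsAffineHom f] (C : DerivedCategory X.Modules)
    (hC : ∀ i : ℤ, ((homologyFunctor X.Modules i).obj C).IsQuasicoherent)
    (I : CochainComplex X.Modules ℤ) [I.IsKInjective] (e : C ≅ Q.obj I)
    (hI : (((Scheme.Modules.pushforward f).mapHomologicalComplex (ComplexShape.up ℤ)).obj
      I).Acyclic) (m : ℤ) :
    IsZero ((homologyFunctor X.Modules m).obj C) := by
  haveI := hC m
  apply isZero_of_subsingleton_hom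
  intro x
  obtain ⟨_, ⟨V, hV, rfl⟩, hxV, -⟩ := S.isBasis_affineOpens.exists_subset_of_mem_open
    (Set.mem_univ (f.base x)) isOpen_univ
  have hU : IsAffineOpen (f ⁻¹ᵁ V) := hV.preimage f
  refine ⟨f ⁻¹ᵁ V, hU, hxV, ?_⟩
  suffices h : ∀ s : (frX X).obj (f ⁻¹ᵁ V) ⟶ (homologyFunctor X.Modules m).obj C, s = 0 from
    ⟨fun s s' => (h s).trans (h s').symm⟩
  intro s
  obtain ⟨ξ, rfl⟩ := (bijective_cm_affine C hC hU m).2 s
  change cm ξ = 0
  obtain ⟨T, hT, hT'⟩ := exists_cover_res_eq_zero_shift f I hI m V (ξ ≫ e.hom⟦m⟧')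
  let T' : Sieve (f ⁻¹ᵁ V) :=
    { arrows := fun W' _ => ∃ (V' : S.Opens) (g : V' ⟶ V), T g ∧ W' ≤ f ⁻¹ᵁ V'
      downward_closed := by
        rintro W₁ W₂ k ⟨V', g, hg, hle⟩ k'
        exact ⟨V', g, hg, le_trans k'.le hle⟩ }
  have hT'' : T' ∈ Opens.grothendieckTopology X (f ⁻¹ᵁ V) := by
    intro x' hx'
    obtain ⟨V', g, hg, hxV'⟩ := hT (f.base x') hx'
    exact ⟨f ⁻¹ᵁ V', (Opens.map f.base).map g, ⟨V', g, hg, le_rfl⟩, hxV'⟩
  apply (locFr_frX X).sep (f ⁻¹ᵁ V) (cm ξ) T' hT''
  rintro W' k ⟨V', g, hg, hle⟩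
  have hk : k = homOfLE hle ≫ (Opens.map f.base).map g := Subsingleton.elim _ _
  have h0 : res (frX X) ((Opens.map f.base).map g) ξ = 0 := by
    have h1 := hT' g hg
    rw [res_comp] at h1
    have : IsIso (e.hom⟦m⟧') := inferInstance
    rw [← cancel_mono (e.hom⟦m⟧'), h1, zero_comp]
  rw [← cm_res, hk, ← res_res, h0, res_zero, cm_zero]

/-- a morphism `a : I ⟶ I'` of K-injective complexes with quasi-coherent cohomology such that
`f_* a` is a quasi-isomorphism (`f` affine) becomes an isomorphism in `D(O_X)`. -/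
theorem isIso_Q_map_of_quasiIso_push [IsAffineHom f] {I I' : CochainComplex X.Modules ℤ}
    [I.IsKInjective] [I'.IsKInjective]
    (hI : ∀ i : ℤ, ((homologyFunctor X.Modules i).obj (Q.obj I)).IsQuasicoherent)
    (hI' : ∀ i : ℤ, ((homologyFunctor X.Modules i).obj (Q.obj I')).IsQuasicoherent)
    (a : I ⟶ I')
    (ha : QuasiIso (((Scheme.Modules.pushforward f).mapHomologicalComplex
      (ComplexShape.up ℤ)).map a)) :
    IsIso (Q.map a) := by
  let T := Q.mapTriangle.obj (CochainComplex.mappingCone.triangle a)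
  have hT : T ∈ distTriang (DerivedCategory X.Modules) :=
    (mem_distTriang_iff T).2 ⟨_, _, a, ⟨Iso.refl _⟩⟩
  haveI := isWeakSerre_qcProp X
  have hC : ∀ i : ℤ, ((homologyFunctor X.Modules i).obj
      (Q.obj (CochainComplex.mappingCone a))).IsQuasicoherent := fun i =>
    prop_homology_obj₃ (qcProp X) T hT i (hI i) (hI' i) (hI (i + 1)) (hI' (i + 1))
  haveI := Groth.Agent.Lib.Helper17.KInj.isKInjective_mappingCone a
  have hAc : (((Scheme.Modules.pushforward f).mapHomologicalComplex (ComplexShape.up ℤ)).obj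
      (CochainComplex.mappingCone a)).Acyclic := by
    haveI := ha
    have h1 := Groth.Agent.Lib.Helper1.BKF.acyc_cone_of_quasiIso
      (((Scheme.Modules.pushforward f).mapHomologicalComplex (ComplexShape.up ℤ)).map a)
    exact (Groth.Agent.Lib.Helper1.BKF.acyc_iff_acyclic _).1
      (h1.of_iso (CochainComplex.mappingCone.mapHomologicalComplexIso a
        (Scheme.Modules.pushforward f)).symm)
  have hz : ∀ m : ℤ, IsZero ((homologyFunctor X.Modules m).obj T.obj₃) := fun m =>
    isZero_homology_of_acyclic_push f _ hC (CochainComplex.mappingCone a) (Iso.refl _) hAc m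
  rw [DerivedCategory.isIso_iff]
  intro n
  haveI : Epi ((homologyFunctor X.Modules n).map T.mor₁) :=
    (HomologySequence.epi_homologyMap_mor₁_iff T hT n).2 ((hz n).eq_of_tgt _ _)
  haveI : Mono ((homologyFunctor X.Modules n).map T.mor₁) :=
    (HomologySequence.mono_homologyMap_mor₁_iff T hT (n - 1) n (by omega)).2
      ((hz (n - 1)).eq_of_src _ _)
  exact isIso_of_mono_of_epi ((homologyFunctor X.Modules n).map T.mor₁)

end Main

end Groth.Agent.Lib.T2H2.AffPush
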