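import Groth.Agent.Lib.T2H2KtoDA
import Groth.Agent.Lib.T2H2TildeEqA
import Groth.Agent.Lib.T2H8PCohQCoh

/-!
# `Hom_K(O_U-free[0], G) = Hom_D(O_U-free[0], G)` for `U` affine and `G` termwise quasi-coherent
(T2H2)
-/

set_option autoImplicit false
set_option linter.style.haveILetI false
universe w u
open CategoryTheory CategoryTheory.Limits Opposite AlgebraicGeometry TopologicalSpace

namespace Groth.Agent.Lib.T2H2.AffQh

open Groth.Agent.Lib.Helper17.Hyp DerivedCategory Groth.Agent.S14388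
  Groth.Agent.Lib.T2H2.ModLim Groth.Agent.Lib.T2H2.ModLim2 Groth.Agent.Lib.T2H2.AffPush
  Groth.Agent.Lib.Helper23.QCohLocal Groth.Agent.Lib.T2H8.PCohQCoh
  Groth.Agent.Lib.T2H2.TildeEq Groth.Agent.Lib.T2H2.KtoD

variable {X : Scheme.{u}}

/-- extracting the coboundary from a null-homotopy of a map from a single-degree complex. -/
lemma eq_comp_d_of_homotopy {A : Type*} [Category A] [Abelian A] {P : A}
    {M : CochainComplex A ℤ} (χ : P ⟶ M.X 0)
    (hχ : χ ≫ M.d 0 1 = 0) (h : Homotopy (fromSingle₀ χ hχ) 0) :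
    ∃ w : P ⟶ M.X (-1), w ≫ M.d (-1) 0 = χ := by
  refine ⟨(HomologicalComplex.singleObjXSelf (ComplexShape.up ℤ) 0 P).inv ≫ h.hom 0 (-1), ?_⟩
  have h0 := h.comm 0
  rw [fromSingle₀_f] at h0
  have h1 : (dNext 0) h.hom = 0 := by
    rw [dNext_eq h.hom (show (ComplexShape.up ℤ).Rel 0 1 by simp)]
    rw [sgl_d, zero_comp]
  have h2 : (prevD 0) h.hom = h.hom 0 (-1) ≫ M.d (-1) 0 :=
    prevD_eq h.hom (show (ComplexShape.up ℤ).Rel (-1) 0 by simp)
  rw [h1, h2, zero_add, HomologicalComplex.zero_f, add_zero] at h0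
  rw [Category.assoc, ← h0, Iso.inv_hom_id_assoc]

variable [HasDerivedCategory.{w} X.Modules]

/-- for `U` affine and `G` a complex of quasi-coherent modules, homotopy classes of maps
`O_U-free[0] ⟶ G` are the morphisms in the derived category. -/
theorem qhBij_sgl_affine {U : X.Opens} (hU : IsAffineOpen U) (G : CochainComplex X.Modules ℤ)
    (hG : ∀ i : ℤ, (G.X i).IsQuasicoherent) : QhBij (sgl ((frX X).obj U)) G := by
  haveI := hG
  have hE : ∀ i : ℤ, ((homologyFunctor X.Modules i).obj (Q.obj G)).IsQuasicoherent := fun i =>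
    isQCoh_of_iso ((homologyFunctorFactors X.Modules i).app G).symm (isQCoh_homology G hG i)
  have hc := bijective_c₀_affine (Q.obj G) hE hU
  haveI : (G.homology 0).IsQuasicoherent := isQCoh_homology G hG 0
  haveI : ((G.sc 0).X₂).IsQuasicoherent := hG _
  haveI : ((G.sc 0).X₃).IsQuasicoherent := hG _
  haveI : (G.cycles 0).IsQuasicoherent :=
    isQCoh_of_iso (G.sc 0).cyclesIsoKernel.symm (isQuasicoherent_kernel (G.sc 0).g)
  -- key computation of `c₀` on chain maps
  have key : ∀ (χ : (frX X).obj U ⟶ G.X 0) (hχ : χ ≫ G.d 0 1 = 0),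
      c₀ (Q.map (fromSingle₀ χ hχ)) ≫ (homologyFunctorFactors X.Modules 0).hom.app G =
        G.liftCycles χ 1 (by simp) hχ ≫ G.homologyπ 0 := fun χ hχ =>
    (c₀_Q_map _).trans (homologyMap_fromSingle₀ χ hχ)
  constructor
  · intro φ₁ φ₂ hφ
    obtain ⟨g₁, rfl⟩ := (qq X.Modules).map_surjective φ₁
    obtain ⟨g₂, rfl⟩ := (qq X.Modules).map_surjective φ₂
    have hφ' : (Q : _ ⥤ DerivedCategory X.Modules).map g₁ = Q.map g₂ := hφ
    obtain ⟨χ, hχ, hg⟩ := eq_fromSingle₀ (g₁ - g₂)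
    have h0 : (Q : _ ⥤ DerivedCategory X.Modules).map (fromSingle₀ χ hχ) = 0 := by
      rw [← hg, Functor.map_sub, hφ', sub_self]
    have h1 : G.liftCycles χ 1 (by simp) hχ ≫ G.homologyπ 0 = 0 := by
      have hk := key χ hχ
      rw [h0, c₀_zero, zero_comp] at hk
      exact hk.symm
    -- exactness of `G^{-1} ⟶ Z^0 ⟶ H^0`
    let S : ShortComplex X.Modules :=
      ShortComplex.mk (G.toCycles (-1) 0) (G.homologyπ 0) (G.toCycles_comp_homologyπ (-1) 0)
    have hS : S.Exact :=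
      ShortComplex.exact_of_g_is_cokernel S (G.homologyIsCokernel (-1) 0 (by simp))
    haveI : Epi (kernel.lift S.g S.f S.zero) := S.exact_iff_epi_kernel_lift.1 hS
    haveI : (kernel S.g).IsQuasicoherent := isQuasicoherent_kernel S.g
    haveI : (S.X₁).IsQuasicoherent := hG _
    obtain ⟨w, hw⟩ := exists_lift_affine hU (kernel.lift S.g S.f S.zero)
      (kernel.lift S.g (G.liftCycles χ 1 (by simp) hχ) h1)
    have hw' : w ≫ G.d (-1) 0 = χ := by
      have h2 : (w ≫ kernel.lift S.g S.f S.zero) ≫ kernel.ι S.g ≫ G.iCycles 0 =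
          (kernel.lift S.g (G.liftCycles χ 1 (by simp) hχ) h1) ≫ kernel.ι S.g ≫ G.iCycles 0 := by
        rw [hw]
      rw [Category.assoc, kernel.lift_ι_assoc, kernel.lift_ι_assoc] at h2
      change w ≫ G.toCycles (-1) 0 ≫ G.iCycles 0 = _ at h2
      rw [G.toCycles_i, G.liftCycles_i] at h2
      exact h2
    subst hw'
    have h3 : (qq X.Modules).map (g₁ - g₂) = 0 := by
      rw [hg]
      exact (HomotopyCategory.eq_of_homotopy _ _ (homotopyFromSingle₀ w hχ)).trans
        (Functor.map_zero _ _ _)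
    rw [Functor.map_sub, sub_eq_zero] at h3
    exact h3
  · intro b
    let ξ : dsgl ((frX X).obj U) ⟶ Q.obj G := b
    obtain ⟨z, hz⟩ := exists_lift_affine hU (G.homologyπ 0)
      (c₀ ξ ≫ (homologyFunctorFactors X.Modules 0).hom.app G)
    have hχ : (z ≫ G.iCycles 0) ≫ G.d 0 1 = 0 := by
      rw [Category.assoc, G.iCycles_d, comp_zero]
    have hl : G.liftCycles (z ≫ G.iCycles 0) 1 (by simp) hχ = z := by
      rw [← cancel_mono (G.iCycles 0), G.liftCycles_i]
    have h1 : c₀ (Q.map (fromSingle₀ (z ≫ G.iCycles 0) hχ)) = c₀ ξ := by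
      rw [← cancel_mono ((homologyFunctorFactors X.Modules 0).hom.app G)]
      refine (key _ hχ).trans ?_
      rw [hl]
      exact hz
    refine ⟨(qq X.Modules).map (fromSingle₀ (z ≫ G.iCycles 0) hχ), ?_⟩
    exact hc.1 h1

end Groth.Agent.Lib.T2H2.AffQh
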