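import Groth.Agent.Lib.T2H2NegVan

/-!
# A local criterion for a chain map to be a quasi-isomorphism in degree `0` (T2H2)
-/

set_option autoImplicit false
set_option linter.style.haveILetI false
universe v v' u'
open CategoryTheory CategoryTheory.Limits

namespace Groth.Agent.Lib.T2H2.AffQh

open Groth.Agent.Lib.Helper17.Hyp Groth.Agent.Lib.T2H2.NegVan

variable {A : Type (v + 1)} [Category.{v} A] [Abelian A] {D : Type u'} [Category.{v'} D]
  {K : GrothendieckTopology D} {fr : D ⥤ A}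

/-- every covering can be refined to one whose members factor through the basis. -/
lemma exists_basis_refinement (Bs : Set D) (hB : IsBasisFor K Bs) (U : D) (S : Sieve U)
    (h : ∀ (W : D) (b : W ⟶ U), W ∈ Bs → S b) : S ∈ K U := by
  obtain ⟨T, hT, hT'⟩ := hB U
  apply K.superset_covering ?_ hT
  intro V g hg
  obtain ⟨W, a, b, hW, rfl⟩ := hT' g hg
  exact S.downward_closed (h W b hW) a

variable {M N : CochainComplex A ℤ} (g : M ⟶ N)

lemma comp_f_comp_d {P : A} (x : P ⟶ M.X 0) (hx : x ≫ M.d 0 1 = 0) :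
    (x ≫ g.f 0) ≫ N.d 0 1 = 0 := by
  rw [Category.assoc, g.comm, ← Category.assoc, hx, zero_comp]

lemma liftCycles_comp_homologyMap {P : A} (x : P ⟶ M.X 0) (hx : x ≫ M.d 0 1 = 0) :
    (M.liftCycles x 1 (by simp) hx ≫ M.homologyπ 0) ≫ HomologicalComplex.homologyMap g 0 =
      N.liftCycles (x ≫ g.f 0) 1 (by simp) (comp_f_comp_d g x hx) ≫ N.homologyπ 0 := by
  rw [Category.assoc, HomologicalComplex.homologyπ_naturality, ← Category.assoc,
    HomologicalComplex.liftCycles_comp_cyclesMap]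

lemma comp_toCycles_homologyπ {P : A} (w : P ⟶ N.X (-1)) :
    (w ≫ N.toCycles (-1) 0) ≫ N.homologyπ 0 = 0 := by
  rw [Category.assoc, N.toCycles_comp_homologyπ, comp_zero]

/-- locally a cocycle with vanishing class is a coboundary. -/
lemma exists_local_boundary_of_class_zero (hfr : LocFr K fr) (U : D) (y : fr.obj U ⟶ N.X 0)
    (hy : y ≫ N.d 0 1 = 0)
    (h0 : N.liftCycles y 1 (by simp) hy ≫ N.homologyπ 0 = 0) :
    ∃ T ∈ K U, ∀ ⦃V : D⦄ (f : V ⟶ U), T f →
      ∃ w : fr.obj V ⟶ N.X (-1), w ≫ N.d (-1) 0 = fr.map f ≫ y := by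
  let S : ShortComplex A :=
    ShortComplex.mk (N.toCycles (-1) 0) (N.homologyπ 0) (N.toCycles_comp_homologyπ (-1) 0)
  have hS : S.Exact :=
    ShortComplex.exact_of_g_is_cokernel S (N.homologyIsCokernel (-1) 0 (by simp))
  haveI : Epi (kernel.lift S.g S.f S.zero) := S.exact_iff_epi_kernel_lift.1 hS
  obtain ⟨T, hT, hT'⟩ := hfr.lift (kernel.lift S.g S.f S.zero) U
    (kernel.lift S.g (N.liftCycles y 1 (by simp) hy) h0)
  refine ⟨T, hT, fun V f hf => ?_⟩
  obtain ⟨w, hw⟩ := hT' f hf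
  refine ⟨w, ?_⟩
  have h2 : (w ≫ kernel.lift S.g S.f S.zero) ≫ kernel.ι S.g ≫ N.iCycles 0 =
      (fr.map f ≫ kernel.lift S.g (N.liftCycles y 1 (by simp) hy) h0) ≫
        kernel.ι S.g ≫ N.iCycles 0 := by rw [hw]
  rw [Category.assoc, kernel.lift_ι_assoc, Category.assoc, kernel.lift_ι_assoc] at h2
  change w ≫ N.toCycles (-1) 0 ≫ N.iCycles 0 = _ at h2
  rw [N.toCycles_i, N.liftCycles_i] at h2
  exact h2

/-- a local criterion for `H^0(g)` to be an isomorphism. -/
theorem quasiIsoAt_zero_of_local (hfr : LocFr K fr) (Bs : Set D) (hB : IsBasisFor K Bs)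
    (hsurj : ∀ W ∈ Bs, ∀ (y : fr.obj W ⟶ N.X 0), y ≫ N.d 0 1 = 0 →
      ∃ (x : fr.obj W ⟶ M.X 0) (w : fr.obj W ⟶ N.X (-1)), x ≫ M.d 0 1 = 0 ∧
        y = x ≫ g.f 0 + w ≫ N.d (-1) 0)
    (hinj : ∀ W ∈ Bs, ∀ (x : fr.obj W ⟶ M.X 0), x ≫ M.d 0 1 = 0 →
      ∀ (w : fr.obj W ⟶ N.X (-1)), x ≫ g.f 0 = w ≫ N.d (-1) 0 →
      ∃ w' : fr.obj W ⟶ M.X (-1), x = w' ≫ M.d (-1) 0) :
    QuasiIsoAt g 0 := by
  rw [quasiIsoAt_iff_isIso_homologyMap]
  haveI : Mono (HomologicalComplex.homologyMap g 0) := by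
    apply Abelian.mono_of_kernel_ι_eq_zero
    apply hfr.gen
    intro U s
    -- `s₁` is killed by `H^0(g)`
    have hs₁ : (s ≫ kernel.ι (HomologicalComplex.homologyMap g 0)) ≫
        HomologicalComplex.homologyMap g 0 = 0 := by
      rw [Category.assoc, kernel.condition, comp_zero]
    obtain ⟨s₁, hs₁def⟩ : ∃ s₁ : fr.obj U ⟶ M.homology 0,
      s₁ = s ≫ kernel.ι (HomologicalComplex.homologyMap g 0) := ⟨_, rfl⟩
    rw [← hs₁def] at hs₁ ⊢
    let S : Sieve U :=
      { arrows := fun V h => fr.map h ≫ s₁ = 0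
        downward_closed := by
          intro V V' h hh k
          rw [Functor.map_comp, Category.assoc, hh, comp_zero] }
    refine hfr.sep U s₁ S ?_ (fun V f hf => hf)
    obtain ⟨T, hT, hT'⟩ := hfr.lift (M.homologyπ 0) U s₁
    apply K.transitive hT S
    intro V f hf
    obtain ⟨z, hz⟩ := hT' f hf
    apply exists_basis_refinement Bs hB
    intro W b hW
    -- the cocycle over `W`
    have hx : (fr.map b ≫ z ≫ M.iCycles 0) ≫ M.d 0 1 = 0 := by
      rw [Category.assoc, Category.assoc, M.iCycles_d, comp_zero, comp_zero]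
    have hxl : M.liftCycles (fr.map b ≫ z ≫ M.iCycles 0) 1 (by simp) hx = fr.map b ≫ z := by
      rw [← cancel_mono (M.iCycles 0), M.liftCycles_i, Category.assoc]
    have hcl : N.liftCycles ((fr.map b ≫ z ≫ M.iCycles 0) ≫ g.f 0) 1 (by simp)
        (comp_f_comp_d g _ hx) ≫ N.homologyπ 0 = 0 := by
      rw [← liftCycles_comp_homologyMap g _ hx, hxl]
      simp only [Category.assoc]
      rw [reassoc_of% hz, hs₁, comp_zero, comp_zero]
    obtain ⟨T', hT'mem, hT''⟩ := exists_local_boundary_of_class_zero hfr W _ _ hcl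
    change fr.map (b ≫ f) ≫ s₁ = 0
    let S' : Sieve W :=
      { arrows := fun V' h => fr.map h ≫ fr.map (b ≫ f) ≫ s₁ = 0
        downward_closed := by
          intro V₁ V₂ h hh k
          rw [Functor.map_comp, Category.assoc, hh, comp_zero] }
    refine hfr.sep W _ S' ?_ (fun V' f' hf' => hf')
    apply K.transitive hT'mem S'
    intro V' f' hf'
    obtain ⟨w, hw⟩ := hT'' f' hf'
    apply exists_basis_refinement Bs hB
    intro W' b' hW'
    change fr.map (b' ≫ f') ≫ fr.map (b ≫ f) ≫ s₁ = 0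
    -- apply `hinj` over `W'`
    have hx' : (fr.map (b' ≫ f') ≫ fr.map b ≫ z ≫ M.iCycles 0) ≫ M.d 0 1 = 0 := by
      rw [Category.assoc, hx, comp_zero]
    obtain ⟨w', hw'⟩ := hinj W' hW' (fr.map (b' ≫ f') ≫ fr.map b ≫ z ≫ M.iCycles 0) hx'
      (fr.map b' ≫ w) (by
        simp only [Category.assoc, Functor.map_comp] at hw ⊢
        rw [hw])
    have hz' : fr.map (b' ≫ f') ≫ fr.map b ≫ z = w' ≫ M.toCycles (-1) 0 := by
      rw [← cancel_mono (M.iCycles 0), Category.assoc, Category.assoc, Category.assoc,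
        M.toCycles_i]
      exact hw'
    rw [fr.map_comp b f, Category.assoc, ← hz, reassoc_of% hz', M.toCycles_comp_homologyπ,
      comp_zero]
  haveI : Epi (HomologicalComplex.homologyMap g 0) := by
    apply epi_of_local_lift hfr
    intro U s
    let R : Sieve U :=
      { arrows := fun V h => ∃ s' : fr.obj V ⟶ M.homology 0,
          s' ≫ HomologicalComplex.homologyMap g 0 = fr.map h ≫ s
        downward_closed := by
          rintro V V' h ⟨s', hs'⟩ k
          exact ⟨fr.map k ≫ s', by rw [Category.assoc, hs', Functor.map_comp, Category.assoc]⟩ }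
    refine ⟨R.arrows, ?_, fun V h hh => hh⟩
    rw [Sieve.generate_sieve]
    obtain ⟨T, hT, hT'⟩ := hfr.lift (N.homologyπ 0) U s
    apply K.transitive hT R
    intro V f hf
    obtain ⟨z, hz⟩ := hT' f hf
    apply exists_basis_refinement Bs hB
    intro W b hW
    have hy : (fr.map b ≫ z ≫ N.iCycles 0) ≫ N.d 0 1 = 0 := by
      rw [Category.assoc, Category.assoc, N.iCycles_d, comp_zero, comp_zero]
    obtain ⟨x, w, hx, hxy⟩ := hsurj W hW (fr.map b ≫ z ≫ N.iCycles 0) hy
    refine ⟨M.liftCycles x 1 (by simp) hx ≫ M.homologyπ 0, ?_⟩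
    rw [liftCycles_comp_homologyMap g x hx]
    have hzz : fr.map b ≫ z = N.liftCycles (x ≫ g.f 0) 1 (by simp)
        (comp_f_comp_d g x hx) + w ≫ N.toCycles (-1) 0 := by
      rw [← cancel_mono (N.iCycles 0), Preadditive.add_comp, N.liftCycles_i, Category.assoc,
        Category.assoc, N.toCycles_i]
      exact hxy
    change _ = fr.map (b ≫ f) ≫ s
    rw [Functor.map_comp, Category.assoc, ← hz, ← Category.assoc, hzz, Preadditive.add_comp,
      comp_toCycles_homologyπ, add_zero]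
  exact isIso_of_mono_of_epi _

end Groth.Agent.Lib.T2H2.AffQh
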