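import Groth.Agent.Lib.T2H2AffQhA
import Groth.Agent.Lib.T2H2AffQhB
import Groth.Agent.Lib.T2H2AffPushA

/-!
# Pushforward along an affine morphism of a quasi-isomorphism from a complex of quasi-coherent
modules to a K-injective complex (T2H2)
-/

set_option autoImplicit false
set_option linter.style.haveILetI false
universe w u
open CategoryTheory CategoryTheory.Limits Opposite AlgebraicGeometry TopologicalSpace

namespace Groth.Agent.Lib.T2H2.AffQh

open Groth.Agent.Lib.Helper17.Hyp DerivedCategory Groth.Agent.S14388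
  Groth.Agent.Lib.T2H2.ModLim Groth.Agent.Lib.T2H2.ModLim2 Groth.Agent.Lib.T2H2.AffPush
  Groth.Agent.Lib.T2H2.KtoD Groth.Agent.Lib.T2H2.NegVan

section Chain

variable {A : Type*} [Category A] [Abelian A]

lemma fromSingle₀_comp {P : A} {M N : CochainComplex A ℤ} (χ : P ⟶ M.X 0)
    (hχ : χ ≫ M.d 0 1 = 0) (φ : M ⟶ N) :
    fromSingle₀ χ hχ ≫ φ = fromSingle₀ (χ ≫ φ.f 0)
      (by rw [Category.assoc, φ.comm, ← Category.assoc, hχ, zero_comp]) := by
  apply HomologicalComplex.from_single_hom_ext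
  rw [HomologicalComplex.comp_f, fromSingle₀_f, fromSingle₀_f, Category.assoc]

lemma fromSingle₀_sub {P : A} {M : CochainComplex A ℤ} (χ χ' : P ⟶ M.X 0)
    (hχ : χ ≫ M.d 0 1 = 0) (hχ' : χ' ≫ M.d 0 1 = 0) :
    fromSingle₀ χ hχ - fromSingle₀ χ' hχ' = fromSingle₀ (χ - χ')
      (by rw [Preadditive.sub_comp, hχ, hχ', sub_zero]) := by
  apply HomologicalComplex.from_single_hom_ext
  rw [HomologicalComplex.sub_f_apply, fromSingle₀_f, fromSingle₀_f, fromSingle₀_f,
    Preadditive.comp_sub]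

end Chain

section OnX

variable {X : Scheme.{u}} [HasDerivedCategory.{w} X.Modules]
  {F I : CochainComplex X.Modules ℤ} (φ : F ⟶ I) [QuasiIso φ] [I.IsKInjective]
  (hF : ∀ i : ℤ, (F.X i).IsQuasicoherent) {U : X.Opens} (hU : IsAffineOpen U)

include hF hU in
/-- `φ_*` is bijective on homotopy classes of maps from `O_U-free[0]`. -/
lemma bijective_comp_of_affine :
    Function.Bijective (fun a : (qq X.Modules).obj (sgl ((frX X).obj U)) ⟶ (qq X.Modules).obj F =>
      a ≫ (qq X.Modules).map φ) := by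
  have h1 : QhBij (sgl ((frX X).obj U)) F := qhBij_sgl_affine hU F hF
  have h2 : QhBij (sgl ((frX X).obj U)) I :=
    CochainComplex.IsKInjective.Qh_map_bijective _ I
  haveI : IsIso ((Qh (C := X.Modules)).map ((qq X.Modules).map φ)) := by
    change IsIso ((Q (C := X.Modules)).map φ)
    rw [isIso_Q_map_iff_quasiIso]
    infer_instance
  have h3 : Function.Bijective (fun b : Qh.obj ((qq X.Modules).obj (sgl ((frX X).obj U))) ⟶
      Qh.obj ((qq X.Modules).obj F) => b ≫ (Qh (C := X.Modules)).map ((qq X.Modules).map φ)) :=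
    ⟨fun b b' h => (cancel_mono _).1 h, fun c => ⟨c ≫ inv (Qh.map ((qq X.Modules).map φ)), by
      simp⟩⟩
  have hcomp : (fun a : (qq X.Modules).obj (sgl ((frX X).obj U)) ⟶ (qq X.Modules).obj I =>
      (Qh (C := X.Modules)).map a) ∘
      (fun a : (qq X.Modules).obj (sgl ((frX X).obj U)) ⟶ (qq X.Modules).obj F =>
        a ≫ (qq X.Modules).map φ) =
      (fun b : Qh.obj ((qq X.Modules).obj (sgl ((frX X).obj U))) ⟶
        Qh.obj ((qq X.Modules).obj F) => b ≫ (Qh (C := X.Modules)).map ((qq X.Modules).map φ)) ∘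
      (fun a : (qq X.Modules).obj (sgl ((frX X).obj U)) ⟶ (qq X.Modules).obj F =>
        (Qh (C := X.Modules)).map a) := by
    funext a
    dsimp only [Function.comp]
    rw [Functor.map_comp]
  have h4 := h3.comp h1
  rw [← hcomp] at h4
  exact (Function.Bijective.of_comp_iff' h2 _).1 h4

include hF hU in
lemma exists_of_cocycle_target (y : (frX X).obj U ⟶ I.X 0) (hy : y ≫ I.d 0 1 = 0) :
    ∃ (x : (frX X).obj U ⟶ F.X 0) (w : (frX X).obj U ⟶ I.X (-1)), x ≫ F.d 0 1 = 0 ∧
      y = x ≫ φ.f 0 + w ≫ I.d (-1) 0 := by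
  obtain ⟨a, ha⟩ := (bijective_comp_of_affine φ hF hU).2 ((qq X.Modules).map (fromSingle₀ y hy))
  obtain ⟨a', rfl⟩ := (qq X.Modules).map_surjective a
  obtain ⟨x, hx, rfl⟩ := eq_fromSingle₀ a'
  have ha' : (qq X.Modules).map (fromSingle₀ x hx ≫ φ) =
      (qq X.Modules).map (fromSingle₀ y hy) := by
    rw [Functor.map_comp]
    exact ha
  rw [fromSingle₀_comp] at ha'
  have h0 : (qq X.Modules).map (fromSingle₀ y hy - fromSingle₀ (x ≫ φ.f 0)
      (by rw [Category.assoc, φ.comm, ← Category.assoc, hx, zero_comp])) = 0 := by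
    rw [Functor.map_sub, ha', sub_self]
  rw [fromSingle₀_sub] at h0
  have hh : Homotopy (fromSingle₀ (y - x ≫ φ.f 0)
      (by rw [Preadditive.sub_comp, hy, Category.assoc, φ.comm, ← Category.assoc, hx, zero_comp,
        sub_zero])) 0 :=
    HomotopyCategory.homotopyOfEq _ _ (h0.trans (Functor.map_zero _ _ _).symm)
  obtain ⟨w, hw⟩ := eq_comp_d_of_homotopy _ _ hh
  exact ⟨x, w, hx, by rw [hw]; abel⟩

include hF hU in
lemma exists_of_boundary_source (x : (frX X).obj U ⟶ F.X 0) (hx : x ≫ F.d 0 1 = 0)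
    (w : (frX X).obj U ⟶ I.X (-1)) (hw : x ≫ φ.f 0 = w ≫ I.d (-1) 0) :
    ∃ w' : (frX X).obj U ⟶ F.X (-1), x = w' ≫ F.d (-1) 0 := by
  have h0 : (qq X.Modules).map (fromSingle₀ x hx) ≫ (qq X.Modules).map φ =
      0 ≫ (qq X.Modules).map φ := by
    have hc : (w ≫ I.d (-1) 0) ≫ I.d 0 1 = 0 := by
      rw [Category.assoc, I.d_comp_d, comp_zero]
    have e : fromSingle₀ x hx ≫ φ = fromSingle₀ (w ≫ I.d (-1) 0) hc := by
      apply HomologicalComplex.from_single_hom_ext
      rw [HomologicalComplex.comp_f, fromSingle₀_f, fromSingle₀_f, Category.assoc, hw]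
    rw [← Functor.map_comp, e, zero_comp]
    exact (HomotopyCategory.eq_of_homotopy _ _ (homotopyFromSingle₀ w hc)).trans
      (Functor.map_zero _ _ _)
  have h1 := (bijective_comp_of_affine φ hF hU).1 h0
  have hh : Homotopy (fromSingle₀ x hx) 0 :=
    HomotopyCategory.homotopyOfEq _ _ (h1.trans (Functor.map_zero _ _ _).symm)
  obtain ⟨w', hw'⟩ := eq_comp_d_of_homotopy _ _ hh
  exact ⟨w', hw'.symm⟩

end OnX

end Groth.Agent.Lib.T2H2.AffQh
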