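import Groth.Agent.Lib.T2H4LDerExist
set_option backward.isDefEq.respectTransparency.types false

/-!
# Every functor out of `K(A)` has a total left derived functor (T2H2)

Generalisation of helper4's `hasLBaseChange` (same proof): functorial K-projective resolutions
exist for complexes of modules over a ring.  In particular `DRing.HasLTensor A M` holds.
-/

set_option autoImplicit false
universe u v' u'
open CategoryTheory CategoryTheory.Limits HomologicalComplex MorphismProperty ZeroObject
attribute [local instance] HasDerivedCategory.standard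

namespace Groth.Agent.Lib.T2H2.LDerGen

open Groth.Agent.Lib.Helper1.KF Groth.Agent.Lib.Helper1.CI DerivedCategory
  Groth.Agent.Lib.Helper1.DT Groth.Agent.Lib.T2H4.LDerExist

variable {A : Type u} [CommRing A] {H : Type u'} [Category.{v'} H]
  (G : HomotopyCategory (ModuleCat.{u} A) (ComplexShape.up ℤ) ⥤ H)

/-- every functor `K(A) ⥤ H` has a total left derived functor -/
theorem hasLeftDerivedFunctor :
    G.HasLeftDerivedFunctor
      (HomotopyCategory.quasiIso (ModuleCat.{u} A) (ComplexShape.up ℤ)) := by
  obtain ⟨ρ, ψ, h⟩ := exists_functorial_kprojective_resolution A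
  have hρ : ∀ E, (fun E : Cx A => E.IsKProjective) (ρ.obj E) := fun E => (h E).1
  have hπ : ∀ E, HomologicalComplex.quasiIso (ModuleCat.{u} A) (ComplexShape.up ℤ) (ψ.app E) :=
    fun E => (h E).2
  have hF : ∀ {E E' : Cx A} (q : E ⟶ E'), E.IsKProjective → E'.IsKProjective →
      HomologicalComplex.quasiIso (ModuleCat.{u} A) (ComplexShape.up ℤ) q →
      IsIso ((HomotopyCategory.quotient _ _ ⋙ G).map q) := by
    intro E E' q hE hE' hq
    have : QuasiIso q := hq
    have : IsIso ((HomotopyCategory.quotient (ModuleCat.{u} A) (ComplexShape.up ℤ)).map q) :=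
      isIso_quotient_map q
    exact Functor.map_isIso G
      ((HomotopyCategory.quotient (ModuleCat.{u} A) (ComplexShape.up ℤ)).map q)
  have h1 := isLeftDerivedFunctor_res
    (HomologicalComplex.quasiIso (ModuleCat.{u} A) (ComplexShape.up ℤ))
    (HomotopyCategory.quotient (ModuleCat.{u} A) (ComplexShape.up ℤ) ⋙ DerivedCategory.Qh)
    (HomotopyCategory.quotient _ _ ⋙ G) (fun E : Cx A => E.IsKProjective) ρ ψ hρ hπ hF
  have h2 := isLeftDerivedFunctor_desc
    (HomologicalComplex.homotopyEquivalences (ModuleCat.{u} A) (ComplexShape.up ℤ))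
    (HomotopyCategory.quasiIso (ModuleCat.{u} A) (ComplexShape.up ℤ))
    (HomologicalComplex.quasiIso (ModuleCat.{u} A) (ComplexShape.up ℤ))
    (HomotopyCategory.quotient (ModuleCat.{u} A) (ComplexShape.up ℤ)) DerivedCategory.Qh
    G _
    (resCounit (HomologicalComplex.quasiIso (ModuleCat.{u} A) (ComplexShape.up ℤ))
      (HomotopyCategory.quotient (ModuleCat.{u} A) (ComplexShape.up ℤ) ⋙ DerivedCategory.Qh)
      (HomotopyCategory.quotient _ _ ⋙ G) (fun E : Cx A => E.IsKProjective) ρ ψ hρ hπ hF)
  exact @Functor.HasLeftDerivedFunctor.mk' _ _ _ _ _ _ _ _ _ _ _ _ h2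

/-- the derived tensor product with a module exists -/
theorem hasLTensor (A : Type u) [CommRing A] (M : ModuleCat.{u} A) : DRing.HasLTensor A M :=
  hasLeftDerivedFunctor _

end Groth.Agent.Lib.T2H2.LDerGen
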