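import Groth.Agent.Lib.T2H2AffRedD
import Groth.Agent.Lib.T2H2TildeLocF
import Groth.Agent.Lib.T2H2LDerGen
import Groth.Agent.S7031

/-!
# Bounded coherent complexes on regular schemes are perfect (T2H2)
-/

set_option autoImplicit false
set_option linter.style.haveILetI false
universe u
open CategoryTheory CategoryTheory.Limits AlgebraicGeometry Opposite

attribute [local instance] HasDerivedCategory.standard

namespace Groth.Agent.Lib.T2H2.AffRed

open Groth.Agent.Lib.T2H8.SchLocHtpy Groth.Agent.Lib.T2H8.PerfLocal
  Groth.Agent.Lib.T2H8.PCohTriangle Groth.Agent.Lib.T2H2.TildeLoc DerivedCategory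
  Groth.Agent.Lib.Helper23.QCohLocal

variable {X : Scheme.{u}}

attribute [local instance] algOx

/-- regularity of the stalks of `X` gives regularity of the localizations of the ring of an affine
chart -/
theorem isRegularLocalRing_atPrime_of_chart {A : Type u} [CommRing A]
    (j : Spec (CommRingCat.of A) ⟶ X) [IsOpenImmersion j]
    (hreg : ∀ x : X, IsRegularLocalRing (X.presheaf.stalk x)) (p : PrimeSpectrum A) :
    IsRegularLocalRing (Localization.AtPrime p.asIdeal) := by
  let x' : Spec (CommRingCat.of A) := p
  haveI := hreg (j x')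
  let e₁ : X.presheaf.stalk (j x') ≃+* (Spec (CommRingCat.of A)).presheaf.stalk x' :=
    (asIso (j.stalkMap x')).commRingCatIsoToRingEquiv
  haveI : IsRegularLocalRing ((Spec (CommRingCat.of A)).presheaf.stalk x') :=
    IsRegularLocalRing.of_ringEquiv e₁
  let e₂ : Groth.Agent.Lib.Helper1.Sky.Ox x' ≃ₐ[A] Localization.AtPrime p.asIdeal :=
    IsLocalization.algEquiv p.asIdeal.primeCompl _ _
  exact IsRegularLocalRing.of_ringEquiv e₂.toRingEquiv

/-- on a locally Noetherian scheme with regular local rings, bounded complexes with coherent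
cohomology are perfect -/
theorem isPerfect_of_bounded_coherent_of_regular [IsLocallyNoetherian X]
    (hreg : ∀ x : X, IsRegularLocalRing (X.presheaf.stalk x))
    (K : DCoh.D X) (a b : ℤ) [K.IsGE a] [K.IsLE b] (hK : DCoh.IsCohD K) : DCoh.IsPerfect K := by
  have hq : DCoh.IsQCohD K := fun i => (hK i).1
  rw [isPerfect_iff]
  intro x
  obtain ⟨A, _, _, j, _, x', hx'⟩ := exists_noetherian_affine_chart x
  obtain ⟨M, ⟨eM⟩⟩ := exists_tildeD_iso A ((rD j).obj K) (isQCohD_rD j K hq)
  haveI : ∀ N : ModuleCat.{u} A, DRing.HasLTensor A N :=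
    fun N => Groth.Agent.Lib.T2H2.LDerGen.hasLTensor A N
  have hM : DRing.IsPerfect A M := by
    refine (Groth.Agent.S7031.result A
      (fun p => isRegularLocalRing_atPrime_of_chart j hreg p) M).2 ⟨⟨a, b, fun i hi => ?_⟩,
        fun i => ?_⟩
    · have hz : IsZero (DCoh.HD K i) := by
        rcases hi with hi | hi
        · exact (DerivedCategory.isGE_iff K a).1 inferInstance i hi
        · exact (DerivedCategory.isLE_iff K b).1 inferInstance i hi
      have h1 : IsZero (tilde ((homologyFunctor (ModuleCat.{u} A) i).obj M)) :=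
        IsZero.of_iso ((Scheme.Modules.restrictFunctor j).map_isZero hz)
          (tildeHDIso j K M eM i)
      exact ModuleCat.subsingleton_of_isZero (isZero_of_isZero_tilde _ _ h1)
    · haveI : (DCoh.HD K i).IsQuasicoherent := hq i
      haveI : SheafOfModules.IsFiniteType (R := X.ringCatSheaf) (DCoh.HD K i) := (hK i).2
      have h1 : SheafOfModules.IsFiniteType (R := (Spec (CommRingCat.of A)).ringCatSheaf)
          ((DCoh.HD K i).restrict j) :=
        Groth.Agent.Lib.Helper23.FinType.isFiniteType_restrict j (DCoh.HD K i)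
      have h2 := Groth.Agent.Lib.Helper23.FinType.isFiniteType_of_iso
        (tildeHDIso j K M eM i).symm (hM := h1)
      exact (Groth.Agent.Lib.Helper23.FinType.isFiniteType_tilde_iff (CommRingCat.of A) _).1 h2
  have h1 : DCoh.IsPerfect ((rD j).obj K) :=
    isPerfect_of_iso eM (isPerfect_tildeD_of_isPerfect A M hM)
  rw [← hx']
  exact locPerf_of_isPerfect_rD j K x' h1

end Groth.Agent.Lib.T2H2.AffRed
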