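import Groth.Agent.Lib.T2H2AffRpushA
import Groth.Agent.Lib.T2H1RestrictPush

/-!
# `Rf_*` preserves `D_QCoh` for affine `f`: localization on the base (T2H2)
-/

set_option autoImplicit false
set_option linter.style.haveILetI false
universe u
open CategoryTheory CategoryTheory.Limits AlgebraicGeometry Opposite

attribute [local instance] HasDerivedCategory.standard

namespace Groth.Agent.Lib.T2H2.AffRpush

open Groth.Agent.Lib.Helper23.QCohLocal Groth.Agent.Lib.T2H8.PCohQCoh
  Groth.Agent.Lib.T2H8.PCohTriangle Groth.Agent.Lib.T2H2.KtoD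

/-- quasi-coherence can be checked on the open subschemes `V` for `V` affine open. -/
theorem isQuasicoherent_of_forall_affine_ι {X : Scheme.{u}} (M : X.Modules)
    (h : ∀ V : X.Opens, IsAffineOpen V → (M.restrict V.ι).IsQuasicoherent) :
    M.IsQuasicoherent := by
  refine isQuasicoherent_of_forall_affine M (fun V hV => ?_)
  haveI := h V hV
  let e : (M.restrict V.ι).restrict hV.isoSpec.inv ≅ M.restrict hV.fromSpec :=
    ((Scheme.Modules.restrictFunctorComp hV.isoSpec.inv V.ι).app M).symm ≪≫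
      (Scheme.Modules.restrictFunctorCongr hV.isoSpec_inv_ι).app M
  exact isQCoh_of_iso e
    (Scheme.Modules.isQuasicoherent_restrictFunctor hV.isoSpec.inv (M.restrict V.ι))

/-- `D_QCoh` can be checked on the open subschemes `V` for `V` affine open. -/
theorem isQCohD_of_forall_affine {X : Scheme.{u}} (K : DCoh.D X)
    (h : ∀ V : X.Opens, IsAffineOpen V → DCoh.IsQCohD ((DCoh.restrictD V.ι).obj K)) :
    DCoh.IsQCohD K := by
  intro i
  refine isQuasicoherent_of_forall_affine_ι _ (fun V hV => ?_)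
  exact isQCoh_of_iso
    ((mapDerivedCategoryHomologyIso (Scheme.Modules.restrictFunctor V.ι) i).app K) (h V hV i)

/-- a property of `Rf_* K` which may be checked after restriction to the opens of a family: reduce
to the restricted morphisms. -/
theorem isQCohD_restrictD_Rpush_iff {X S : Scheme.{u}} (f : X ⟶ S) [DCoh.HasRpush f]
    (V : S.Opens) [DCoh.HasRpush (f ∣_ V)] (K : DCoh.D X) :
    DCoh.IsQCohD ((DCoh.restrictD V.ι).obj ((DCoh.Rpush f).obj K)) ↔
      DCoh.IsQCohD ((DCoh.Rpush (f ∣_ V)).obj ((DCoh.restrictD (f ⁻¹ᵁ V).ι).obj K)) := by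
  obtain ⟨e⟩ := Groth.Agent.Lib.T2H1.RestrictPush.nonempty_restrictD_Rpush_iso f V
  exact ⟨Groth.Agent.Lib.T2H2.LpullQCoh.isQCohD_of_iso (e.app K),
    Groth.Agent.Lib.T2H2.LpullQCoh.isQCohD_of_iso (e.app K).symm⟩

/-- `Rf_*` preserves `D_QCoh` for an affine morphism `f`. -/
theorem isQCohD_Rpush_of_isAffineHom {X S : Scheme.{u}} (f : X ⟶ S) [IsAffineHom f]
    [DCoh.HasRpush f] (K : DCoh.D X) (hK : DCoh.IsQCohD K) :
    DCoh.IsQCohD ((DCoh.Rpush f).obj K) := by
  refine isQCohD_of_forall_affine _ (fun V hV => ?_)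
  haveI := Groth.Agent.Lib.T2H1.RpushSupport.hasRpush (f ∣_ V)
  rw [isQCohD_restrictD_Rpush_iff]
  haveI : IsAffineHom (f ∣_ V) :=
    IsZariskiLocalAtTarget.restrict (P := @IsAffineHom) inferInstance V
  haveI : IsAffine ((f ⁻¹ᵁ V : X.Opens) : Scheme.{u}) := hV.preimage f
  exact isQCohD_Rpush_of_isAffine (f ∣_ V) _ (isQCohD_restrictD (f ⁻¹ᵁ V).ι K hK)

end Groth.Agent.Lib.T2H2.AffRpush
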