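import Mathlib
import Groth.Agent.Lib.Helper14FTDimB

set_option autoImplicit false
universe u
open MvPolynomial

namespace Groth.Agent.Lib.T2H2.AlgIndepLin

theorem height_eq_two {k A : Type u} [Field k] [CommRing A] [IsDomain A] [Algebra k A]
    [Algebra.FiniteType k A] (p : Ideal A) [p.IsPrime]
    (hdim : ringKrullDim (A ⧸ p) + 2 = ringKrullDim A) : p.height = 2 := by
  obtain ⟨m, c, hcm, h1, h2, h3⟩ := Groth.Agent.Lib.Helper14.FTDim.exists_dim_height (k := k) A p
  rw [h1, h3] at hdim
  have h' : ((m - c + 2 : ℕ) : WithBot ℕ∞) = ((m : ℕ) : WithBot ℕ∞) := by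
    push_cast
    exact hdim
  have h'' : m - c + 2 = m := by exact_mod_cast h'
  have hc2 : c = 2 := by omega
  rw [h2, hc2]
  rfl

/-- if a prime minimal over `(a, b)` has height `2` in a noetherian domain containing a field, then
`a, b` are algebraically independent. -/
theorem algebraicIndependent_pair_of_height {k A : Type u} [Field k] [CommRing A] [IsDomain A]
    [Algebra k A] [IsNoetherianRing A] (a b : A) (p : Ideal A)
    (hp : p ∈ (Ideal.span {a, b}).minimalPrimes) (hht : p.height = 2) :
    AlgebraicIndependent k ![a, b] := by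
  have : p.IsPrime := hp.1.1
  by_contra hnot
  rw [algebraicIndependent_iff] at hnot
  push Not at hnot
  obtain ⟨Q, hQ0, hQ⟩ := hnot
  let f : MvPolynomial (Fin 2) k →ₐ[k] A := aeval ![a, b]
  let B : Subalgebra k A := f.range
  let fr : MvPolynomial (Fin 2) k →ₐ[k] B := f.rangeRestrict
  have hfr : Function.Surjective fr := f.rangeRestrict_surjective
  have hQfr : fr Q = 0 := Subtype.ext hQ0
  have hdimB : ringKrullDim B + 1 ≤ ringKrullDim (MvPolynomial (Fin 2) k) :=
    ringKrullDim_succ_le_of_surjective fr.toRingHom hfr (mem_nonZeroDivisors_of_ne_zero hQ) hQfr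
  rw [MvPolynomial.ringKrullDim_of_isNoetherianRing, ringKrullDim_eq_zero_of_field,
    Nat.card_eq_fintype_card, Fintype.card_fin, zero_add] at hdimB
  -- the prime below
  have hp0top : p.under B ≠ ⊤ := Ideal.IsPrime.ne_top inferInstance
  have hht0 : ((p.under B).height : WithBot ℕ∞) ≤ ringKrullDim B :=
    Ideal.height_le_ringKrullDim_of_ne_top hp0top
  have hht0' : (p.under B).height ≤ 1 := by
    have h1 : ((p.under B).height : WithBot ℕ∞) + 1 ≤ ((2 : ℕ) : WithBot ℕ∞) :=
      (add_le_add hht0 le_rfl).trans hdimB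
    have h2 : (((p.under B).height + 1 : ℕ∞) : WithBot ℕ∞) ≤ ((2 : ℕ∞) : WithBot ℕ∞) := by
      push_cast
      exact h1
    have h3 : (p.under B).height + 1 ≤ 1 + 1 := by
      have := WithBot.coe_le_coe.mp h2
      rwa [show (2 : ℕ∞) = 1 + 1 from by norm_num] at this
    exact (ENat.add_le_add_iff_right (by simp)).mp h3
  -- the height inequality
  have hmain := Ideal.height_le_height_add_of_liesOver (p.under B) p
  have haB : a ∈ B := ⟨X 0, by simp [f]⟩
  have hbB : b ∈ B := ⟨X 1, by simp [f]⟩
  have hspan : Ideal.span {a, b} ≤ (p.under B).map (algebraMap B A) := by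
    rw [Ideal.span_le]
    rintro x (rfl | rfl)
    · have hx : (⟨x, haB⟩ : B) ∈ p.under B := by
        rw [Ideal.mem_comap]
        exact hp.1.2 (Ideal.subset_span (by simp))
      exact Ideal.mem_map_of_mem (algebraMap B A) hx
    · have hx : (⟨x, hbB⟩ : B) ∈ p.under B := by
        rw [Ideal.mem_comap]
        exact hp.1.2 (Ideal.subset_span (by simp))
      exact Ideal.mem_map_of_mem (algebraMap B A) hx
  have hJp : (p.under B).map (algebraMap B A) ≤ p := Ideal.map_comap_le
  have hpmin : p ∈ ((p.under B).map (algebraMap B A)).minimalPrimes :=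
    ⟨⟨inferInstance, hJp⟩, fun q hq hqp => hp.2 ⟨hq.1, hspan.trans hq.2⟩ hqp⟩
  rw [Ideal.minimalPrimes_eq_comap] at hpmin
  obtain ⟨q, hq, hqp⟩ := hpmin
  have hmap : p.map (Ideal.Quotient.mk ((p.under B).map (algebraMap B A))) = q := by
    have h := Ideal.map_comap_of_surjective _ Ideal.Quotient.mk_surjective q
    rwa [hqp] at h
  have : q.IsPrime := hq.1.1
  have hq0 : q.height = 0 := Ideal.height_eq_zero_iff.mpr hq
  rw [hmap, hq0, add_zero, hht] at hmain
  have : (2 : ℕ∞) ≤ 1 := hmain.trans hht0'
  exact absurd this (by norm_num)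



section special
variable {k K : Type*} [Field k] [Field K] [Algebra k K] {n : ℕ}

/-- the triangular substitution `A ↦ A X_{i0} + B X_{i1}` -/
noncomputable def theta (k : Type*) [Field k] {n : ℕ} (i0 i1 : Fin n) :
    MvPolynomial (Fin n ⊕ Fin 2) k →ₐ[k] MvPolynomial (Fin n ⊕ Fin 2) k :=
  aeval (Sum.elim (fun i => X (Sum.inl i))
    ![X (Sum.inr 0) * X (Sum.inl i0) + X (Sum.inr 1) * X (Sum.inl i1), X (Sum.inr 1)])

/-- the inclusion into the fraction field -/
noncomputable def iota (k : Type*) [Field k] (n : ℕ) :
    MvPolynomial (Fin n ⊕ Fin 2) k →ₐ[k] FractionRing (MvPolynomial (Fin n ⊕ Fin 2) k) :=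
  IsScalarTower.toAlgHom k _ _

/-- the inverse substitution, in the fraction field -/
noncomputable def rho (k : Type*) [Field k] {n : ℕ} (i0 i1 : Fin n) :
    MvPolynomial (Fin n ⊕ Fin 2) k →ₐ[k] FractionRing (MvPolynomial (Fin n ⊕ Fin 2) k) :=
  aeval (Sum.elim (fun i => iota k n (X (Sum.inl i)))
    ![(iota k n (X (Sum.inr 0)) - iota k n (X (Sum.inr 1)) * iota k n (X (Sum.inl i1))) /
        iota k n (X (Sum.inl i0)),
      iota k n (X (Sum.inr 1))])

theorem iota_injective : Function.Injective (iota k n) :=
  IsFractionRing.injective _ _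

theorem theta_injective (i0 i1 : Fin n) : Function.Injective (theta k i0 i1) := by
  have hne : iota k n (X (Sum.inl i0)) ≠ 0 := by
    intro h
    rw [← map_zero (iota k n)] at h
    exact MvPolynomial.X_ne_zero _ (iota_injective h)
  have h : (rho k i0 i1).comp (theta k i0 i1) = iota k n := by
    apply MvPolynomial.algHom_ext
    rintro (i | j)
    · simp only [theta, rho, AlgHom.comp_apply, aeval_X, Sum.elim_inl]
    · fin_cases j
      · simp only [theta, rho, AlgHom.comp_apply, aeval_X, Sum.elim_inr, Fin.zero_eta,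
          Matrix.cons_val_zero, map_add, map_mul, Sum.elim_inl, Fin.isValue, Matrix.cons_val_one]
        rw [div_mul_cancel₀ _ hne]
        ring
      · simp only [theta, rho, AlgHom.comp_apply, aeval_X, Sum.elim_inr, Fin.mk_one,
          Matrix.cons_val_one, Matrix.cons_val_zero, Fin.isValue]
  intro x y hxy
  have h1 : iota k n x = iota k n y := by
    rw [← h, AlgHom.comp_apply, AlgHom.comp_apply, hxy]
  exact iota_injective h1

theorem special (a b : K) (hab : AlgebraicIndependent k ![a, b]) (i0 i1 : Fin n) :
    AlgebraicIndependent k (Sum.elim (X : Fin n → MvPolynomial (Fin n) K)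
      ![C a * X i0 + C b * X i1, C b]) := by
  have hz := hab.sumElim_comp (MvPolynomial.algebraicIndependent_X (Fin n) K)
  have hcomp : aeval (Sum.elim (X : Fin n → MvPolynomial (Fin n) K)
      ![C a * X i0 + C b * X i1, C b]) =
      (aeval (Sum.elim (X : Fin n → MvPolynomial (Fin n) K)
        (algebraMap K (MvPolynomial (Fin n) K) ∘ ![a, b]))).comp (theta k i0 i1) := by
    apply MvPolynomial.algHom_ext
    rintro (i | j)
    · simp only [theta, AlgHom.comp_apply, aeval_X, Sum.elim_inl]
    · fin_cases j
      · simp only [theta, AlgHom.comp_apply, aeval_X, Sum.elim_inr, Fin.zero_eta,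
          Matrix.cons_val_zero, map_add, map_mul, Sum.elim_inl, Fin.isValue, Matrix.cons_val_one,
          Function.comp_apply, MvPolynomial.algebraMap_eq]
      · simp only [theta, AlgHom.comp_apply, aeval_X, Sum.elim_inr, Fin.mk_one,
          Matrix.cons_val_one, Matrix.cons_val_zero, Fin.isValue, Function.comp_apply,
          MvPolynomial.algebraMap_eq]
  unfold AlgebraicIndependent
  rw [hcomp, AlgHom.coe_comp]
  exact Function.Injective.comp hz (theta_injective i0 i1)

end special



section ttrick
variable {k K : Type*} [Field k] [Field K] [Algebra k K] {n : ℕ}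

/-- the family `X_i, Σ γ_i X_i, b` -/
noncomputable def fam (γ : Fin n → K) (b : K) : Fin n ⊕ Fin 2 → MvPolynomial (Fin n) K :=
  Sum.elim X ![∑ i, C (γ i) * X i, C b]

variable (s : Fin n → Prop) [DecidablePred s]

/-- scaling the variables outside `s` by `T` -/
noncomputable def psi (K : Type*) [Field K] {n : ℕ} (s : Fin n → Prop) [DecidablePred s] :
    MvPolynomial (Fin n) K →ₐ[K] Polynomial (MvPolynomial (Fin n) K) :=
  aeval (fun i => if s i then Polynomial.C (X i) else Polynomial.X * Polynomial.C (X i))

/-- scaling the variables outside `s` by `T`, source side -/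
noncomputable def tau (k : Type*) [Field k] {n : ℕ} (s : Fin n → Prop) [DecidablePred s] :
    MvPolynomial (Fin n ⊕ Fin 2) k →ₐ[k] Polynomial (MvPolynomial (Fin n ⊕ Fin 2) k) :=
  aeval (Sum.elim
    (fun i => if s i then Polynomial.C (X (Sum.inl i)) else Polynomial.X * Polynomial.C (X (Sum.inl i)))
    (fun j => Polynomial.C (X (Sum.inr j))))

/-- coefficient map of `Φ'` -/
noncomputable def phic (k : Type*) [Field k] [Algebra k K] (γ : Fin n → K) (b : K) :
    MvPolynomial (Fin n ⊕ Fin 2) k →ₐ[k] Polynomial (MvPolynomial (Fin n) K) :=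
  aeval (Sum.elim (fun i => Polynomial.C (X i))
    ![psi K s (∑ i, C (γ i) * X i), Polynomial.C (C b)])

/-- the map `Φ'` -/
noncomputable def phi' (k : Type*) [Field k] [Algebra k K] (γ : Fin n → K) (b : K) :
    Polynomial (MvPolynomial (Fin n ⊕ Fin 2) k) →+* Polynomial (MvPolynomial (Fin n) K) :=
  Polynomial.eval₂RingHom (phic s k γ b).toRingHom Polynomial.X

theorem tau_eval_one (w : MvPolynomial (Fin n ⊕ Fin 2) k) : (tau k s w).eval 1 = w := by
  have h : ((Polynomial.aeval (R := MvPolynomial (Fin n ⊕ Fin 2) k) (1 : MvPolynomial (Fin n ⊕ Fin 2) k)).restrictScalars k).comp (tau k s) = AlgHom.id k _ := by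
    apply MvPolynomial.algHom_ext
    rintro (i | j)
    · by_cases hi : s i
      · simp [tau, hi]
      · simp [tau, hi]
    · simp [tau]
  have := congrArg (fun f => f w) h
  simpa using this

theorem phi'_tau (γ : Fin n → K) (b : K) (w : MvPolynomial (Fin n ⊕ Fin 2) k) :
    phi' s k γ b (tau k s w) = psi K s (aeval (fam γ b) w) := by
  have h : (phi' s k γ b).comp (tau k s).toRingHom =
      (psi K s).toRingHom.comp (aeval (R := k) (fam γ b)).toRingHom := by
    apply MvPolynomial.ringHom_ext
    · intro r
      simp [phi', tau, phic, psi]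
    · rintro (i | j)
      · by_cases hi : s i
        · simp [phi', tau, phic, psi, fam, hi]
        · simp [phi', tau, phic, psi, fam, hi]
      · fin_cases j
        · simp [phi', tau, phic, fam]
        · simp [phi', tau, phic, psi, fam]
  exact congrArg (fun f => f w) h

theorem phic_eval_zero (γ : Fin n → K) (b : K) (w : MvPolynomial (Fin n ⊕ Fin 2) k) :
    (phic s k γ b w).eval 0 = aeval (fam (fun i => if s i then γ i else 0) b) w := by
  have h : (Polynomial.evalRingHom (0 : MvPolynomial (Fin n) K)).comp (phic s k γ b).toRingHom =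
      (aeval (R := k) (fam (fun i => if s i then γ i else 0) b)).toRingHom := by
    apply MvPolynomial.ringHom_ext
    · intro r
      simp [phic]
    · rintro (i | j)
      · simp [phic, fam]
      · fin_cases j
        · simp only [phic, psi, fam, Fin.zero_eta, RingHom.coe_comp, Function.comp_apply,
            AlgHom.toRingHom_eq_coe, RingHom.coe_coe, aeval_X, Sum.elim_inr, Matrix.cons_val_zero,
            map_sum, map_mul, Polynomial.coe_evalRingHom, aeval_C, Polynomial.eval_finsetSum,
            Polynomial.eval_mul]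
          refine Finset.sum_congr rfl fun i _ => ?_
          by_cases hi : s i
          · simp [hi, MvPolynomial.algebraMap_eq]
          · simp [hi, MvPolynomial.algebraMap_eq]
        · simp [phic, fam]
  exact congrArg (fun f => f w) h

theorem phi'_eval_zero (γ : Fin n → K) (b : K)
    (r : Polynomial (MvPolynomial (Fin n ⊕ Fin 2) k)) :
    (phi' s k γ b r).eval 0 = aeval (fam (fun i => if s i then γ i else 0) b) (r.eval 0) := by
  have h : (Polynomial.evalRingHom (0 : MvPolynomial (Fin n) K)).comp (phi' s k γ b) =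
      (aeval (R := k) (fam (fun i => if s i then γ i else 0) b)).toRingHom.comp
        (Polynomial.evalRingHom 0) := by
    apply Polynomial.ringHom_ext
    · intro w
      simp [phi', phic_eval_zero]
    · simp [phi']
  exact congrArg (fun f => f r) h

/-- **Reduction**: injectivity for the truncated coefficients implies injectivity. -/
theorem algebraicIndependent_fam_of_truncate (γ : Fin n → K) (b : K)
    (h0 : AlgebraicIndependent k (fam (fun i => if s i then γ i else 0) b)) :
    AlgebraicIndependent k (fam γ b) := by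
  rw [algebraicIndependent_iff]
  intro Q hQ
  by_contra hQ0
  have hτ : tau k s Q ≠ 0 := by
    intro h
    apply hQ0
    rw [← tau_eval_one s Q, h, Polynomial.eval_zero]
  obtain ⟨R, hR, hRX⟩ := Polynomial.exists_eq_pow_rootMultiplicity_mul_and_not_dvd (tau k s Q) hτ 0
  rw [map_zero, sub_zero] at hR hRX
  have h1 : phi' s k γ b (tau k s Q) = 0 := by rw [phi'_tau, hQ, map_zero]
  rw [hR, map_mul, map_pow] at h1
  have hX : phi' s k γ b Polynomial.X = Polynomial.X := by simp [phi']
  rw [hX] at h1
  have h2 : phi' s k γ b R = 0 := by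
    rcases mul_eq_zero.mp h1 with h | h
    · exact absurd h (pow_ne_zero _ Polynomial.X_ne_zero)
    · exact h
  have h3 := phi'_eval_zero s γ b R
  rw [h2, Polynomial.eval_zero] at h3
  have h4 : R.eval 0 = 0 := (algebraicIndependent_iff.mp h0) _ h3.symm
  apply hRX
  rw [Polynomial.X_dvd_iff, Polynomial.coeff_zero_eq_eval_zero]
  exact h4

end ttrick


section main
variable {k K : Type*} [Field k] [Field K] [Algebra k K] {n : ℕ}

/-- **Main algebraic independence statement**: if `γ i0, γ i1` are algebraically independent over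
`k` (`i0 ≠ i1`), then `X_1, …, X_n, Σ γ_i X_i, γ_{i1}` are algebraically independent over `k`
in `K[X_1, …, X_n]`. -/
theorem algebraicIndependent_fam (γ : Fin n → K) (i0 i1 : Fin n) (h01 : i0 ≠ i1)
    (hab : AlgebraicIndependent k ![γ i0, γ i1]) :
    AlgebraicIndependent k (fam γ (γ i1)) := by
  classical
  apply algebraicIndependent_fam_of_truncate (fun i => i = i0 ∨ i = i1)
  have hsum : ∑ i, C (if i = i0 ∨ i = i1 then γ i else 0) * (X i : MvPolynomial (Fin n) K) =
      C (γ i0) * X i0 + C (γ i1) * X i1 := by
    rw [Finset.sum_eq_add i0 i1 h01]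
    · simp
    · intro c _ hc
      simp [hc.1, hc.2]
    · intro h
      exact absurd (Finset.mem_univ _) h
    · intro h
      exact absurd (Finset.mem_univ _) h
  unfold fam
  rw [hsum]
  exact special (γ i0) (γ i1) hab i0 i1

end main

end Groth.Agent.Lib.T2H2.AlgIndepLin
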