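import Mathlib
import Groth.Prelude.Def_Algz
import Groth.Agent.S9530

/-!
# Pro-isomorphic coherent formal modules are isomorphic (helper2)

Namespace `Groth.Agent.Lib.T2H2.AlgzA`.
-/

set_option autoImplicit false
universe v u
open CategoryTheory Limits Opposite TopologicalSpace AlgebraicGeometry

namespace Groth.Agent.Lib.T2H2.AlgzA

section General

variable {C : Type u} [Category.{v} C]

theorem tr_comp (F : ℕᵒᵖ ⥤ C) {a b c : ℕ} (h1 : a ≤ b) (h2 : b ≤ c) :
    ARSys.tr F h2 ≫ ARSys.tr F h1 = ARSys.tr F (h1.trans h2) := by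
  change F.map _ ≫ F.map _ = F.map _
  rw [← F.map_comp]; rfl

theorem tr_naturality {F G : ℕᵒᵖ ⥤ C} (β : F ⟶ G) {a b : ℕ} (h : a ≤ b) :
    ARSys.tr F h ≫ β.app (op a) = β.app (op b) ≫ ARSys.tr G h :=
  β.naturality (homOfLE h).op

/-- functors preserve pro-isomorphisms -/
theorem isProIso_whiskerRight {D : Type*} [Category D] {X Y : ℕᵒᵖ ⥤ C} (a : X ⟶ Y)
    (ha : DerCA.IsProIso a) (Φ : C ⥤ D) :
    DerCA.IsProIso (Functor.whiskerRight a Φ) := by
  intro n
  obtain ⟨m, h, b, h1, h2⟩ := ha n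
  refine ⟨m, h, Φ.map b, ?_, ?_⟩
  · change Φ.map _ ≫ Φ.map b = Φ.map _
    rw [← Φ.map_comp]; exact congrArg Φ.map h1
  · change Φ.map b ≫ Φ.map _ = Φ.map _
    rw [← Φ.map_comp]; exact congrArg Φ.map h2

/-- composing a pro-isomorphism with levelwise isomorphisms -/
theorem isProIso_comp_iso {X X' Y Y' : ℕᵒᵖ ⥤ C} (e : X' ≅ X) (a : X ⟶ Y) (e' : Y ≅ Y')
    (ha : DerCA.IsProIso a) : DerCA.IsProIso (e.hom ≫ a ≫ e'.hom) := by
  intro n
  obtain ⟨m, h, b, h1, h2⟩ := ha n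
  refine ⟨m, h, e'.inv.app (op m) ≫ b ≫ e.inv.app (op n), ?_, ?_⟩
  · simp only [NatTrans.comp_app, Category.assoc]
    rw [← NatTrans.comp_app_assoc e'.hom e'.inv, e'.hom_inv_id, NatTrans.id_app, Category.id_comp,
      reassoc_of% h1]
    rw [tr_naturality e.inv h, ← Category.assoc, ← NatTrans.comp_app, e.hom_inv_id,
      NatTrans.id_app, Category.id_comp]
  · simp only [NatTrans.comp_app, Category.assoc]
    rw [← NatTrans.comp_app_assoc e.inv e.hom, e.inv_hom_id, NatTrans.id_app, Category.id_comp,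
      reassoc_of% h2]
    rw [tr_naturality e'.hom h, ← Category.assoc, ← NatTrans.comp_app, e'.inv_hom_id,
      NatTrans.id_app, Category.id_comp]

theorem isProIsomorphic_of_iso {X X' Y Y' : ℕᵒᵖ ⥤ C} (e : X' ≅ X) (e' : Y ≅ Y')
    (h : Algz.IsProIsomorphic X Y) : Algz.IsProIsomorphic X' Y' := by
  obtain ⟨m, hm, hle, a, ha⟩ := h
  exact ⟨m, hm, hle, _, isProIso_comp_iso (Functor.isoWhiskerLeft (Monotone.functor hm).op e) a e' ha⟩

theorem isProIsomorphic_whiskerRight {D : Type*} [Category D] {X Y : ℕᵒᵖ ⥤ C}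
    (h : Algz.IsProIsomorphic X Y) (Φ : C ⥤ D) : Algz.IsProIsomorphic (X ⋙ Φ) (Y ⋙ Φ) := by
  obtain ⟨m, hm, hle, a, ha⟩ := h
  exact ⟨m, hm, hle, Functor.whiskerRight a Φ, isProIso_whiskerRight a ha Φ⟩

end General

section Coh

variable {A : Type u} [CommRing A] {X : Scheme.{u}} [X.Over (Spec (CommRingCat.of A))]

/-- pro-isomorphic coherent formal modules are isomorphic -/
theorem nonempty_iso_of_isProIsomorphic [IsNoetherian X] (I : Ideal A) (F G : ℕᵒᵖ ⥤ X.Modules)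
    (hF : Formal.IsCohFormal I F) (hG : Formal.IsCohFormal I G) (h : Algz.IsProIsomorphic F G) :
    Nonempty (F ≅ G) := by
  obtain ⟨m, hm, hle, a, ha⟩ := h
  let π : DerCA.reindex F hm ⟶ F :=
    { app := fun n => F.map (homOfLE (hle n.unop)).op
      naturality := by
        intro k n f
        change F.map _ ≫ F.map _ = F.map _ ≫ F.map _
        rw [← F.map_comp, ← F.map_comp]
        rfl }
  obtain ⟨β, hβ, -⟩ := Groth.Agent.S9530.result A I X F G hF hG m hm hle π (fun n => rfl) a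
  have hβn : ∀ n : ℕ, ARSys.tr F (hle n) ≫ β.app (op n) = a.app (op n) := fun n =>
    congrArg (fun t => t.app (op n)) hβ
  have hiso : ∀ n : ℕ, IsIso (β.app (op n)) := by
    intro n
    obtain ⟨k, hk, b, h1, h2⟩ : ∃ (k : ℕ) (hk : n ≤ k) (b : G.obj (op k) ⟶ F.obj (op (m n))),
        (ARSys.tr F (hle k) ≫ β.app (op k)) ≫ b = ARSys.tr F (hm hk) ∧
        b ≫ (ARSys.tr F (hle n) ≫ β.app (op n)) = ARSys.tr G hk := by
      obtain ⟨k, hk, b, h1, h2⟩ := ha n
      refine ⟨k, hk, b, ?_, ?_⟩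
      · rw [hβn]; exact h1
      · rw [hβn]; exact h2
    have epiG : Epi (ARSys.tr G hk) := Groth.Agent.S9530.epi_le hG n k hk
    have hk' : n ≤ m k := (hle n).trans (hm hk)
    have epiF : Epi (ARSys.tr F hk') := Groth.Agent.S9530.epi_le hF n (m k) _
    obtain ⟨γ, hγ'⟩ : ∃ γ : G.obj (op n) ⟶ F.obj (op n),
        ARSys.tr G hk ≫ γ = b ≫ ARSys.tr F (hle n) :=
      Groth.Agent.S9530.exists_factor hG n k hk (F.obj (op n))
        (b ≫ ARSys.tr F (hle n)) (by
          intro c hc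
          rw [Groth.Agent.S9530.smulMod_comp, hF.2.1 n c hc, comp_zero])
    have e1 : γ ≫ β.app (op n) = 𝟙 _ := by
      rw [← cancel_epi (ARSys.tr G hk), ← Category.assoc, hγ', Category.assoc, h2,
        Category.comp_id]
    have e2 : β.app (op n) ≫ γ = 𝟙 _ := by
      rw [← cancel_epi (ARSys.tr F hk'), Category.comp_id]
      calc ARSys.tr F hk' ≫ β.app (op n) ≫ γ
          = (ARSys.tr F (hle k) ≫ ARSys.tr F hk) ≫ β.app (op n) ≫ γ := by rw [tr_comp]
        _ = ARSys.tr F (hle k) ≫ (ARSys.tr F hk ≫ β.app (op n)) ≫ γ := by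
            simp only [Category.assoc]
        _ = ARSys.tr F (hle k) ≫ (β.app (op k) ≫ ARSys.tr G hk) ≫ γ := by rw [tr_naturality]
        _ = (ARSys.tr F (hle k) ≫ β.app (op k)) ≫ ARSys.tr G hk ≫ γ := by
            simp only [Category.assoc]
        _ = ((ARSys.tr F (hle k) ≫ β.app (op k)) ≫ b) ≫ ARSys.tr F (hle n) := by
            rw [hγ']; simp only [Category.assoc]
        _ = ARSys.tr F (hm hk) ≫ ARSys.tr F (hle n) := by rw [h1]
        _ = ARSys.tr F hk' := tr_comp F _ _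
    exact ⟨γ, e2, e1⟩
  have : ∀ n : ℕᵒᵖ, IsIso (β.app n) := fun n => hiso n.unop
  have : IsIso β := NatIso.isIso_of_isIso_app β
  exact ⟨asIso β⟩

end Coh

end Groth.Agent.Lib.T2H2.AlgzA
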