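import Mathlib
import Groth.Prelude.Def_Algz
import Groth.Agent.S9530
import Groth.Agent.Lib.T2H2AlgzA
import Groth.Agent.Lib.Helper23QCohAbelian
import Groth.Agent.Lib.T2H5Devissage
import Groth.Agent.Lib.Helper20FormalPull

/-!
# Quotients `M / J M` of modules, coherent formal modules, completions (helper2)

Namespace `Groth.Agent.Lib.T2H2.AlgzB`.
-/

set_option autoImplicit false
universe u
open CategoryTheory Limits Opposite TopologicalSpace AlgebraicGeometry

namespace Groth.Agent.Lib.T2H2.AlgzB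

open Groth.Agent.S9530

section Quot

variable {A : Type u} [CommRing A] {X : Scheme.{u}} [X.Over (Spec (CommRingCat.of A))]

/-- `t : M ⟶ M'` exhibits `M'` as `M / J M` -/
structure IsQuotBy (J : Ideal A) {M M' : X.Modules} (t : M ⟶ M') : Prop where
  epi : Epi t
  kill : ∀ a ∈ J, Formal.smulMod A M a ≫ t = 0
  fac : ∀ (T : X.Modules) (g : M ⟶ T), (∀ a ∈ J, Formal.smulMod A M a ≫ g = 0) →
    ∃ g' : M' ⟶ T, t ≫ g' = g

theorem isQuotBy_cokernelπ (J : Ideal A) (M : X.Modules) :
    IsQuotBy J (cokernel.π (Formal.smulFamily J M)) where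
  epi := inferInstance
  kill := (smulFamily_comp_eq_zero_iff _).1 (cokernel.condition _)
  fac _ g hg := ⟨cokernel.desc _ g ((smulFamily_comp_eq_zero_iff _).2 hg), cokernel.π_desc _ _ _⟩

theorem isQuotBy_modPowπ (I : Ideal A) (n : ℕ) (M : X.Modules) :
    IsQuotBy (I ^ n) (Formal.modPowπ I n M) := isQuotBy_cokernelπ _ M

theorem isQuotBy_iff (J : Ideal A) {M M' : X.Modules} (t : M ⟶ M') :
    IsQuotBy J t ↔ ∃ h : Formal.smulFamily J M ≫ t = 0, IsIso (cokernel.desc _ t h) := by
  constructor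
  · intro ht
    have h : Formal.smulFamily J M ≫ t = 0 := (smulFamily_comp_eq_zero_iff _).2 ht.kill
    refine ⟨h, ?_⟩
    have := ht.epi
    have hepi : Epi (cokernel.desc _ t h) := by
      have : Epi (cokernel.π (Formal.smulFamily J M) ≫ cokernel.desc _ t h) := by
        rw [cokernel.π_desc]; infer_instance
      exact epi_of_epi (cokernel.π (Formal.smulFamily J M)) _
    obtain ⟨g', hg'⟩ := ht.fac _ (cokernel.π (Formal.smulFamily J M))
      ((smulFamily_comp_eq_zero_iff _).1 (cokernel.condition _))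
    have : IsSplitMono (cokernel.desc _ t h) := ⟨⟨⟨g', by
      rw [← cancel_epi (cokernel.π (Formal.smulFamily J M)), ← Category.assoc, cokernel.π_desc,
        hg', Category.comp_id]⟩⟩⟩
    exact isIso_of_epi_of_isSplitMono _
  · rintro ⟨h, hiso⟩
    refine ⟨?_, (smulFamily_comp_eq_zero_iff _).1 h, ?_⟩
    · rw [← cokernel.π_desc _ t h]; infer_instance
    · intro T g hg
      refine ⟨inv (cokernel.desc _ t h) ≫ cokernel.desc _ g ((smulFamily_comp_eq_zero_iff _).2 hg), ?_⟩
      calc t ≫ inv (cokernel.desc _ t h) ≫ cokernel.desc _ g _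
          = (cokernel.π _ ≫ cokernel.desc _ t h) ≫ inv (cokernel.desc _ t h) ≫
              cokernel.desc _ g ((smulFamily_comp_eq_zero_iff _).2 hg) := by rw [cokernel.π_desc]
        _ = g := by rw [Category.assoc, IsIso.hom_inv_id_assoc, cokernel.π_desc]

theorem IsQuotBy.killedBy {J : Ideal A} {M M' : X.Modules} {t : M ⟶ M'} (ht : IsQuotBy J t) :
    Formal.KilledBy J M' := by
  intro a ha
  have := ht.epi
  rw [← cancel_epi t, comp_zero, ← smulMod_comp, ht.kill a ha]

theorem IsQuotBy.exists_iso {J : Ideal A} {M M' M'' : X.Modules} {t : M ⟶ M'} {t' : M ⟶ M''}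
    (ht : IsQuotBy J t) (ht' : IsQuotBy J t') : ∃ e : M' ≅ M'', t ≫ e.hom = t' := by
  obtain ⟨f, hf⟩ := ht.fac _ t' ht'.kill
  obtain ⟨g, hg⟩ := ht'.fac _ t ht.kill
  have := ht.epi
  have := ht'.epi
  refine ⟨⟨f, g, ?_, ?_⟩, hf⟩
  · rw [← cancel_epi t, ← Category.assoc, hf, hg, Category.comp_id]
  · rw [← cancel_epi t', ← Category.assoc, hg, hf, Category.comp_id]

theorem IsQuotBy.comp_iso {J : Ideal A} {M M' M'' : X.Modules} {t : M ⟶ M'}
    (ht : IsQuotBy J t) (e : M' ≅ M'') : IsQuotBy J (t ≫ e.hom) := by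
  have := ht.epi
  refine ⟨inferInstance, fun a ha => by rw [← Category.assoc, ht.kill a ha, zero_comp], ?_⟩
  intro T g hg
  obtain ⟨g', hg'⟩ := ht.fac T g hg
  exact ⟨e.inv ≫ g', by rw [Category.assoc, e.hom_inv_id_assoc, hg']⟩

theorem IsQuotBy.iso_comp {J : Ideal A} {N M M' : X.Modules} {t : M ⟶ M'}
    (ht : IsQuotBy J t) (e : N ≅ M) : IsQuotBy J (e.hom ≫ t) := by
  have := ht.epi
  refine ⟨inferInstance, fun a ha => by
    rw [← Category.assoc, smulMod_comp, Category.assoc, ht.kill a ha, comp_zero], ?_⟩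
  intro T g hg
  obtain ⟨g', hg'⟩ := ht.fac T (e.inv ≫ g) (fun a ha => by
    rw [← Category.assoc, smulMod_comp, Category.assoc, hg a ha, comp_zero])
  exact ⟨g', by rw [Category.assoc, hg', e.hom_inv_id_assoc]⟩

theorem IsQuotBy.of_eq {J : Ideal A} {M M' : X.Modules} {t t' : M ⟶ M'}
    (ht : IsQuotBy J t) (h : t = t') : IsQuotBy J t' := h ▸ ht

/-- the third condition in `IsCohFormal` via `IsQuotBy` -/
theorem isCohFormal_iff (I : Ideal A) (G : ℕᵒᵖ ⥤ X.Modules) :
    Formal.IsCohFormal I G ↔ (∀ n, Coh.IsCoh (G.obj (op n))) ∧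
      (∀ n, Formal.KilledBy (I ^ (n + 1)) (G.obj (op n))) ∧
      ∀ n, IsQuotBy (I ^ (n + 1)) (G.map (homOfLE (Nat.le_succ n)).op) := by
  unfold Formal.IsCohFormal
  refine and_congr Iff.rfl (and_congr Iff.rfl (forall_congr' fun n => ?_))
  exact (isQuotBy_iff _ _).symm

theorem isCohFormal_of_iso {I : Ideal A} {G G' : ℕᵒᵖ ⥤ X.Modules} (e : G ≅ G')
    (hG : Formal.IsCohFormal I G) : Formal.IsCohFormal I G' := by
  rw [isCohFormal_iff] at hG ⊢
  obtain ⟨h1, h2, h3⟩ := hG
  refine ⟨fun n => Groth.Agent.Lib.T2H5.Devissage.isCoh_of_iso (e.app (op n)) (h1 n), fun n a ha => ?_,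
    fun n => ?_⟩
  · have : Formal.smulMod A (G'.obj (op n)) a =
        (e.app (op n)).inv ≫ Formal.smulMod A (G.obj (op n)) a ≫ (e.app (op n)).hom := by
      rw [smulMod_comp, Iso.inv_hom_id_assoc]
    rw [this, h2 n a ha, zero_comp, comp_zero]
  · have key : G'.map (homOfLE (Nat.le_succ n)).op =
        (e.app (op (n + 1))).inv ≫ (G.map (homOfLE (Nat.le_succ n)).op ≫ (e.app (op n)).hom) := by
      rw [Iso.app_hom, e.hom.naturality, ← Iso.app_hom, Iso.inv_hom_id_assoc]
    rw [key]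
    exact ((h3 n).comp_iso (e.app (op n))).iso_comp (e.app (op (n + 1))).symm

end Quot


section Completion

variable {A : Type u} [CommRing A] {X : Scheme.{u}} [X.Over (Spec (CommRingCat.of A))]

theorem completion_obj (I : Ideal A) (N : X.Modules) (n : ℕ) :
    (Formal.completion I N).obj (op n) = Formal.modPow I (n + 1) N := rfl

theorem completion_map_succ (I : Ideal A) (N : X.Modules) (n : ℕ) :
    (Formal.completion I N).map (homOfLE (Nat.le_succ n)).op = Formal.modPowTrans I (n + 1) N :=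
  Functor.ofOpSequence_map_homOfLE_succ _ n

theorem isQuasicoherent_modPow (I : Ideal A) (n : ℕ) (N : X.Modules) [N.IsQuasicoherent] :
    (Formal.modPow I n N).IsQuasicoherent := by
  have : (∐ fun _ : ↥(I ^ n) => N).IsQuasicoherent :=
    Groth.Agent.Lib.Helper23.QCohLocal.isQuasicoherent_colimit
      (Discrete.functor fun _ : ↥(I ^ n) => N) (fun _ => ‹N.IsQuasicoherent›)
  exact Groth.Agent.Lib.Helper23.QCohLocal.isQuasicoherent_cokernel _

theorem isCoh_modPow (I : Ideal A) (n : ℕ) (N : X.Modules) (hN : Coh.IsCoh N) :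
    Coh.IsCoh (Formal.modPow I n N) := by
  have : N.IsQuasicoherent := hN.1
  have : Epi (Formal.modPowπ I n N) := (isQuotBy_modPowπ I n N).epi
  exact Groth.Agent.Lib.T2H5.Devissage.isCoh_of_epi (Formal.modPowπ I n N) hN
    (isQuasicoherent_modPow I n N)

/-- a quotient of a quotient -/
theorem isQuotBy_of_comp {J J' : Ideal A} {M M' M'' : X.Modules} {p : M ⟶ M'}
    {t : M' ⟶ M''} (hp : IsQuotBy J' p) (hpt : IsQuotBy J (p ≫ t)) : IsQuotBy J t := by
  have := hp.epi
  have := hpt.epi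
  refine ⟨epi_of_epi p t, fun a ha => ?_, fun T g hg => ?_⟩
  · rw [← cancel_epi p, comp_zero, ← Category.assoc, ← smulMod_comp, Category.assoc]
    exact hpt.kill a ha
  · obtain ⟨g', hg'⟩ := hpt.fac T (p ≫ g) (fun a ha => by
      rw [← Category.assoc, smulMod_comp, Category.assoc, hg a ha, comp_zero])
    refine ⟨g', ?_⟩
    rw [← cancel_epi p, ← Category.assoc, hg']

theorem isQuotBy_modPowTrans (I : Ideal A) (n : ℕ) (N : X.Modules) :
    IsQuotBy (I ^ n) (Formal.modPowTrans I n N) := by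
  refine isQuotBy_of_comp (isQuotBy_modPowπ I (n + 1) N) ?_
  rw [Formal.modPowπ_trans]
  exact isQuotBy_modPowπ I n N

theorem isCohFormal_completion (I : Ideal A) (N : X.Modules) (hN : Coh.IsCoh N) :
    Formal.IsCohFormal I (Formal.completion I N) := by
  rw [isCohFormal_iff]
  refine ⟨fun n => isCoh_modPow I (n + 1) N hN, fun n => (isQuotBy_modPowπ I (n + 1) N).killedBy,
    fun n => ?_⟩
  rw [completion_map_succ]
  exact isQuotBy_modPowTrans I (n + 1) N

/-- maps to a system from `N` which are levelwise quotients by `I ^ (n+1)` identify the system with the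
completion -/
theorem nonempty_completion_iso (I : Ideal A) (N : X.Modules) (G : ℕᵒᵖ ⥤ X.Modules)
    (ρ : ∀ n : ℕ, N ⟶ G.obj (op n)) (hρ : ∀ n, IsQuotBy (I ^ (n + 1)) (ρ n))
    (hcomp : ∀ n, ρ (n + 1) ≫ G.map (homOfLE (Nat.le_succ n)).op = ρ n) :
    Nonempty (Formal.completion I N ≅ G) := by
  have hex : ∀ n, ∃ e : Formal.modPow I (n + 1) N ≅ G.obj (op n),
      Formal.modPowπ I (n + 1) N ≫ e.hom = ρ n := fun n =>
    (isQuotBy_modPowπ I (n + 1) N).exists_iso (hρ n)
  choose e he using hex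
  let θ : Formal.completion I N ⟶ G := NatTrans.ofOpSequence (fun n => (e n).hom) (by
    intro n
    have := (isQuotBy_modPowπ I (n + 1 + 1) N).epi
    have h1 := completion_map_succ I N n
    refine (cancel_epi (Formal.modPowπ I (n + 1 + 1) N)).1 ?_
    calc Formal.modPowπ I (n + 1 + 1) N ≫
          (Formal.completion I N).map (homOfLE (n.le_add_right 1)).op ≫ (e n).hom
        = (Formal.modPowπ I (n + 1 + 1) N ≫ Formal.modPowTrans I (n + 1) N) ≫ (e n).hom := by
          rw [Category.assoc]; exact congrArg (fun t => _ ≫ t ≫ _) h1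
      _ = ρ n := by rw [Formal.modPowπ_trans, he]
      _ = (Formal.modPowπ I (n + 1 + 1) N ≫ (e (n + 1)).hom) ≫
            G.map (homOfLE (n.le_add_right 1)).op := by rw [he]; exact (hcomp n).symm
      _ = _ := Category.assoc _ _ _)
  have : ∀ n : ℕᵒᵖ, IsIso (θ.app n) := fun n => by
    change IsIso (e n.unop).hom
    infer_instance
  have : IsIso θ := NatIso.isIso_of_isIso_app θ
  exact ⟨asIso θ⟩

/-- completion is functorial for isomorphisms -/
theorem nonempty_completion_iso_of_iso (I : Ideal A) {N N' : X.Modules} (e : N ≅ N') :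
    Nonempty (Formal.completion I N ≅ Formal.completion I N') := by
  refine nonempty_completion_iso I N (Formal.completion I N')
    (fun n => e.hom ≫ Formal.modPowπ I (n + 1) N')
    (fun n => (isQuotBy_modPowπ I (n + 1) N').iso_comp e) (fun n => ?_)
  rw [Category.assoc]
  congr 1
  exact (congrArg (fun t => Formal.modPowπ I (n + 1 + 1) N' ≫ t) (completion_map_succ I N' n)).trans
    (Formal.modPowπ_trans I (n + 1) N')

end Completion


section Func

variable {A : Type u} [CommRing A] {X Y : Scheme.{u}} [X.Over (Spec (CommRingCat.of A))]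
  [Y.Over (Spec (CommRingCat.of A))] (Φ : X.Modules ⥤ Y.Modules) [Φ.IsLeftAdjoint] [Φ.Additive]
  (hΦ : ∀ (M : X.Modules) (a : A), Φ.map (Formal.smulMod A M a) = Formal.smulMod A (Φ.obj M) a)

include hΦ in
theorem smulFamily_map (J : Ideal A) (M : X.Modules) :
    Formal.smulFamily J (Φ.obj M) =
      sigmaComparison Φ (fun _ : J => M) ≫ Φ.map (Formal.smulFamily J M) := by
  apply Sigma.hom_ext
  intro a
  rw [ι_comp_sigmaComparison_assoc, ← Functor.map_comp]
  simp only [Formal.smulFamily, colimit.ι_desc, Cofan.mk_ι_app]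
  exact (hΦ M a).symm

include hΦ in
theorem IsQuotBy.map {J : Ideal A} {M M' : X.Modules} {t : M ⟶ M'} (ht : IsQuotBy J t) :
    IsQuotBy J (Φ.map t) := by
  rw [isQuotBy_iff] at ht ⊢
  obtain ⟨h, hiso⟩ := ht
  have h' : Formal.smulFamily J (Φ.obj M) ≫ Φ.map t = 0 := by
    rw [smulFamily_map Φ hΦ, Category.assoc, ← Functor.map_comp, h, Functor.map_zero, comp_zero]
  refine ⟨h', ?_⟩
  let c := CokernelCofork.ofπ t h
  have hc : IsColimit c := Groth.Agent.Lib.Helper20.FormalPull.isColimitOfIsIsoCokernelDesc _ t h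
  have hc' : IsColimit (c.map Φ) := CokernelCofork.mapIsColimit c hc Φ
  have hc'' := isCokernelEpiComp hc' (sigmaComparison Φ (fun _ : J => M)) (smulFamily_map Φ hΦ J M)
  exact Groth.Agent.Lib.Helper20.FormalPull.isIso_cokernelDesc_of_isColimit _ _ h' hc''

include hΦ in
theorem killedBy_map {J : Ideal A} {M : X.Modules} (h : Formal.KilledBy J M) :
    Formal.KilledBy J (Φ.obj M) := by
  intro a ha
  rw [← hΦ, h a ha, Functor.map_zero]

include hΦ in
theorem isCohFormal_comp (hcoh : ∀ M : X.Modules, Coh.IsCoh M → Coh.IsCoh (Φ.obj M)) {I : Ideal A}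
    {G : ℕᵒᵖ ⥤ X.Modules} (hG : Formal.IsCohFormal I G) : Formal.IsCohFormal I (G ⋙ Φ) := by
  rw [isCohFormal_iff] at hG ⊢
  obtain ⟨h1, h2, h3⟩ := hG
  exact ⟨fun n => hcoh _ (h1 n), fun n => killedBy_map Φ hΦ (h2 n), fun n => (h3 n).map Φ hΦ⟩

include hΦ in
theorem nonempty_completion_comp_iso (I : Ideal A) (N : X.Modules) :
    Nonempty (Formal.completion I N ⋙ Φ ≅ Formal.completion I (Φ.obj N)) := by
  obtain ⟨e⟩ := nonempty_completion_iso I (Φ.obj N) (Formal.completion I N ⋙ Φ)
    (fun n => Φ.map (Formal.modPowπ I (n + 1) N))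
    (fun n => (isQuotBy_modPowπ I (n + 1) N).map Φ hΦ) (fun n => by
      change Φ.map _ ≫ Φ.map _ = Φ.map _
      rw [← Φ.map_comp]
      congr 1
      exact (congrArg (fun t => Formal.modPowπ I (n + 1 + 1) N ≫ t) (completion_map_succ I N n)).trans
        (Formal.modPowπ_trans I (n + 1) N))
  exact ⟨e.symm⟩

end Func

end Groth.Agent.Lib.T2H2.AlgzB
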