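import Mathlib
import Groth.Prelude.Def_CohCmp
import Groth.Agent.Lib.T2H5PushEdge
import Groth.Agent.Lib.Helper23SectCmpLib
import Groth.Agent.Lib.T2H5RpushBC

/-!
# Restriction of cohomology classes between opens (`CohPull.resLE`): degree zero, naturality,
# connecting maps, and compatibility with the comparison maps `CohCmp.SectCmp` (helper5)

Namespace `Groth.Agent.Lib.T2H5.ResLE`.
-/

set_option autoImplicit false
set_option linter.style.haveILetI false
set_option linter.unusedSectionVars false
set_option linter.unusedVariables false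
set_option linter.unnecessarySimpa false
universe u
open CategoryTheory Opposite TopologicalSpace AlgebraicGeometry

namespace Groth.Agent.Lib.T2H5.ResLE
open Scheme.Modules

variable {X Y Z : Scheme.{u}}

lemma unit_pullbackComp (f : X ⟶ Y) (g : Y ⟶ Z) (M : Z.Modules) :
    (pullbackPushforwardAdjunction g).unit.app M ≫
      (pushforward g).map ((pullbackPushforwardAdjunction f).unit.app ((pullback g).obj M)) ≫
      (pushforwardComp f g).hom.app ((pullback f).obj ((pullback g).obj M)) =
    (pullbackPushforwardAdjunction (f ≫ g)).unit.app M ≫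
      (pushforward (f ≫ g)).map ((pullbackComp f g).inv.app M) := by
  have h := unit_conjugateEquiv ((pullbackPushforwardAdjunction g).comp (pullbackPushforwardAdjunction f))
    (pullbackPushforwardAdjunction (f ≫ g)) (pullbackComp f g).inv M
  rw [conjugateEquiv_pullbackComp_inv] at h
  rw [Adjunction.comp_unit_app, Category.assoc] at h
  exact h

lemma unit_pullbackId (M : X.Modules) :
    (pullbackPushforwardAdjunction (𝟙 X)).unit.app M ≫
      (pushforward (𝟙 X)).map ((pullbackId X).hom.app M) = (pushforwardId X).inv.app M := by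
  have h := unit_conjugateEquiv Adjunction.id (pullbackPushforwardAdjunction (𝟙 X)) (pullbackId X).hom M
  rw [conjugateEquiv_pullbackId_hom] at h
  exact h.symm.trans (Category.id_comp _)

lemma unit_restrictFunctorIsoPullback (f : X ⟶ Y) [IsOpenImmersion f] (M : Y.Modules) :
    (restrictAdjunction f).unit.app M ≫ (pushforward f).map ((restrictFunctorIsoPullback f).hom.app M) =
      (pullbackPushforwardAdjunction f).unit.app M :=
  Adjunction.unit_leftAdjointUniq_hom_app _ _ _

lemma unit_pullbackCongr {f g : X ⟶ Y} (hf : f = g) (M : Y.Modules) :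
    (pullbackPushforwardAdjunction f).unit.app M ≫ (pushforward f).map ((pullbackCongr hf).hom.app M) =
      (pullbackPushforwardAdjunction g).unit.app M ≫ (pushforwardCongr hf).inv.app ((pullback g).obj M) := by
  subst hf
  have h1 : (pullbackCongr (rfl : f = f)).hom.app M = 𝟙 _ := rfl
  have h2 : (pushforwardCongr (rfl : f = f)).inv.app ((pullback f).obj M) = 𝟙 _ := by
    ext U
    simp
  rw [h1, h2]
  congr 1

/-- Lemma A in `hom` form -/
lemma unit_pullbackComp_hom (f : X ⟶ Y) (g : Y ⟶ Z) (M : Z.Modules) :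
    (pullbackPushforwardAdjunction g).unit.app M ≫
      (pushforward g).map ((pullbackPushforwardAdjunction f).unit.app ((pullback g).obj M)) ≫
      (pushforward g).map ((pushforward f).map ((pullbackComp f g).hom.app M)) =
    (pullbackPushforwardAdjunction (f ≫ g)).unit.app M ≫
      (pushforwardComp f g).inv.app ((pullback (f ≫ g)).obj M) := by
  have h := unit_pullbackComp f g M
  have n := (pushforwardComp f g).inv.naturality ((pullbackComp f g).hom.app M)
  have h3 : (pullbackPushforwardAdjunction g).unit.app M ≫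
      (pushforward g).map ((pullbackPushforwardAdjunction f).unit.app ((pullback g).obj M)) =
      (pullbackPushforwardAdjunction (f ≫ g)).unit.app M ≫
      (pushforward (f ≫ g)).map ((pullbackComp f g).inv.app M) ≫
      (pushforwardComp f g).inv.app ((pullback f).obj ((pullback g).obj M)) := by
    rw [← Category.assoc, ← h]
    simp only [Category.assoc]
    rw [Iso.hom_inv_id_app]
    simp
  rw [← Category.assoc, h3]
  simp only [Category.assoc]
  have n' : (pushforwardComp f g).inv.app ((pullback f).obj ((pullback g).obj M)) ≫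
      (pushforward g).map ((pushforward f).map ((pullbackComp f g).hom.app M)) =
      (pushforward (f ≫ g)).map ((pullbackComp f g).hom.app M) ≫
        (pushforwardComp f g).inv.app ((pullback (f ≫ g)).obj M) := n.symm
  rw [n', ← Category.assoc ((pushforward (f ≫ g)).map _), ← Functor.map_comp, Iso.inv_hom_id_app]
  simp

section Chain

lemma L1 {V V' : Scheme.{u}} (f : V ⟶ X) [IsOpenImmersion f] (j : V' ⟶ V) (F : X.Modules) {N : V'.Modules}
    (t : (pullback j).obj ((pullback f).obj F) ⟶ N) :
    (restrictAdjunction f).unit.app F ≫ (pushforward f).map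
      ((pullbackPushforwardAdjunction j).unit.app ((restrictFunctor f).obj F) ≫
        (pushforward j).map ((pullback j).map ((restrictFunctorIsoPullback f).hom.app F) ≫ t)) =
    (pullbackPushforwardAdjunction f).unit.app F ≫ (pushforward f).map
      ((pullbackPushforwardAdjunction j).unit.app ((pullback f).obj F) ≫ (pushforward j).map t) := by
  have n := (pullbackPushforwardAdjunction j).unit.naturality ((restrictFunctorIsoPullback f).hom.app F)
  have n' : (pullbackPushforwardAdjunction j).unit.app ((restrictFunctor f).obj F) ≫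
      (pushforward j).map ((pullback j).map ((restrictFunctorIsoPullback f).hom.app F)) =
      (restrictFunctorIsoPullback f).hom.app F ≫
        (pullbackPushforwardAdjunction j).unit.app ((pullback f).obj F) := n.symm
  have inner : (pullbackPushforwardAdjunction j).unit.app ((restrictFunctor f).obj F) ≫
        (pushforward j).map ((pullback j).map ((restrictFunctorIsoPullback f).hom.app F) ≫ t) =
      (restrictFunctorIsoPullback f).hom.app F ≫
        ((pullbackPushforwardAdjunction j).unit.app ((pullback f).obj F) ≫ (pushforward j).map t) := by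
    rw [Functor.map_comp, ← Category.assoc, n', Category.assoc]
  rw [inner, Functor.map_comp, ← Category.assoc, unit_restrictFunctorIsoPullback]

lemma L2 (f : X ⟶ Y) (g : Y ⟶ Z) (M : Z.Modules) {N : X.Modules} (t : (pullback (f ≫ g)).obj M ⟶ N) :
    (pullbackPushforwardAdjunction g).unit.app M ≫ (pushforward g).map
      ((pullbackPushforwardAdjunction f).unit.app ((pullback g).obj M) ≫
        (pushforward f).map ((pullbackComp f g).hom.app M ≫ t)) =
    (pullbackPushforwardAdjunction (f ≫ g)).unit.app M ≫ (pushforward (f ≫ g)).map t ≫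
      (pushforwardComp f g).inv.app N := by
  have n : (pushforwardComp f g).inv.app ((pullback (f ≫ g)).obj M) ≫
      (pushforward g).map ((pushforward f).map t) =
      (pushforward (f ≫ g)).map t ≫ (pushforwardComp f g).inv.app N :=
    ((pushforwardComp f g).inv.naturality t).symm
  rw [← n, ← Category.assoc, ← unit_pullbackComp_hom]
  simp only [Functor.map_comp, Category.assoc]

@[reassoc]
lemma L3 {f g : X ⟶ Y} (hf : f = g) (M : Y.Modules) {N : X.Modules} (t : (pullback g).obj M ⟶ N) :
    (pullbackPushforwardAdjunction f).unit.app M ≫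
      (pushforward f).map ((pullbackCongr hf).hom.app M ≫ t) =
    (pullbackPushforwardAdjunction g).unit.app M ≫ (pushforward g).map t ≫
      (pushforwardCongr hf).inv.app N := by
  have n : (pushforwardCongr hf).inv.app ((pullback g).obj M) ≫ (pushforward f).map t =
      (pushforward g).map t ≫ (pushforwardCongr hf).inv.app N :=
    ((pushforwardCongr hf).inv.naturality t).symm
  rw [← n, ← Category.assoc, ← unit_pullbackCongr, Functor.map_comp, Category.assoc]

@[reassoc]
lemma L4 (f : X ⟶ Y) (g : Y ⟶ Z) (M : Z.Modules) {N : X.Modules}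
    (t : (pullback f).obj ((pullback g).obj M) ⟶ N) :
    (pullbackPushforwardAdjunction (f ≫ g)).unit.app M ≫
      (pushforward (f ≫ g)).map ((pullbackComp f g).inv.app M ≫ t) =
    (pullbackPushforwardAdjunction g).unit.app M ≫ (pushforward g).map
      ((pullbackPushforwardAdjunction f).unit.app ((pullback g).obj M) ≫ (pushforward f).map t) ≫
      (pushforwardComp f g).hom.app N := by
  have n : (pushforwardComp f g).hom.app ((pullback f).obj ((pullback g).obj M)) ≫
      (pushforward (f ≫ g)).map t =
      (pushforward g).map ((pushforward f).map t) ≫ (pushforwardComp f g).hom.app N :=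
    ((pushforwardComp f g).hom.naturality t).symm
  rw [Functor.map_comp, ← Category.assoc, ← unit_pullbackComp]
  simp only [Functor.map_comp, Category.assoc]
  rw [n]

lemma L5 {V : Scheme.{u}} (f : V ⟶ X) [IsOpenImmersion f] (G : X.Modules) {N : V.Modules}
    (t : (restrictFunctor f).obj G ⟶ N) :
    (pullbackPushforwardAdjunction f).unit.app G ≫
      (pushforward f).map ((restrictFunctorIsoPullback f).inv.app G ≫ t) =
    (restrictAdjunction f).unit.app G ≫ (pushforward f).map t := by
  rw [← unit_restrictFunctorIsoPullback, Functor.map_comp, Category.assoc,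
    ← Category.assoc ((pushforward f).map _), ← Functor.map_comp, Iso.hom_inv_id_app]
  simp

@[reassoc]
lemma L7 (F : X.Modules) {N : X.Modules} (t : F ⟶ N) :
    (pullbackPushforwardAdjunction (𝟙 X)).unit.app F ≫
      (pushforward (𝟙 X)).map ((pullbackId X).hom.app F ≫ t) =
    t ≫ (pushforwardId X).inv.app N := by
  have n : (pushforwardId X).inv.app F ≫ (pushforward (𝟙 X)).map t = t ≫ (pushforwardId X).inv.app N :=
    ((pushforwardId X).inv.naturality t).symm
  rw [Functor.map_comp, ← Category.assoc, unit_pullbackId, n]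

end Chain

section Main

variable {X : Scheme.{u}} (F : X.Modules) {U U' : X.Opens} (h : U' ≤ U)

omit F in
lemma hle {U U' : X.Opens} (h : U' ≤ U) : U' ≤ (𝟙 X) ⁻¹ᵁ U := by rwa [Scheme.Hom.id_preimage]

/-- the inclusion `U' ⟶ U` -/
noncomputable abbrev jj {U U' : X.Opens} (h : U' ≤ U) : (U' : Scheme.{u}) ⟶ (U : Scheme.{u}) :=
  Scheme.Hom.resLE (𝟙 X) U U' (hle h)

/-- the identification `j^*(F|_U) ≅ F|_{U'}` used by `CohPull.resLE` -/
noncomputable def rho : (pullback (jj h)).obj (F.restrict U.ι) ⟶ F.restrict U'.ι :=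
  (CohPull.pullOnIso (𝟙 X) U U' (hle h) F).hom ≫ (restrictFunctor U'.ι).map ((pullbackId X).hom.app F)

lemma rho_eq : rho F h =
    (pullback (jj h)).map ((restrictFunctorIsoPullback U.ι).hom.app F) ≫
      (pullbackComp (jj h) U.ι).hom.app F ≫
      (pullbackCongr (Scheme.Hom.resLE_comp_ι (𝟙 X) (hle h))).hom.app F ≫
      (pullbackComp U'.ι (𝟙 X)).inv.app F ≫
      (restrictFunctorIsoPullback U'.ι).inv.app ((pullback (𝟙 X)).obj F) ≫
      (restrictFunctor U'.ι).map ((pullbackId X).hom.app F) := by
  simp [rho, CohPull.pullOnIso]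

lemma T_eq : (restrictAdjunction U.ι).unit.app F ≫ (pushforward U.ι).map
      ((pullbackPushforwardAdjunction (jj h)).unit.app (F.restrict U.ι) ≫ (pushforward (jj h)).map (rho F h)) =
    (restrictAdjunction U'.ι).unit.app F ≫ (pushforwardId X).inv.app _ ≫
      (pushforwardComp U'.ι (𝟙 X)).hom.app _ ≫
      (pushforwardCongr (Scheme.Hom.resLE_comp_ι (𝟙 X) (hle h))).inv.app _ ≫
      (pushforwardComp (jj h) U.ι).inv.app _ := by
  rw [rho_eq]
  refine (L1 U.ι (jj h) F _).trans ?_
  refine (L2 (jj h) U.ι F _).trans ?_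
  rw [L3_assoc (Scheme.Hom.resLE_comp_ι (𝟙 X) (hle h)) F]
  rw [L4_assoc U'.ι (𝟙 X) F]
  rw [L5 U'.ι ((pullback (𝟙 X)).obj F)]
  have n6 : (restrictAdjunction U'.ι).unit.app ((pullback (𝟙 X)).obj F) ≫
      (pushforward U'.ι).map ((restrictFunctor U'.ι).map ((pullbackId X).hom.app F)) =
      (pullbackId X).hom.app F ≫ (restrictAdjunction U'.ι).unit.app F :=
    ((restrictAdjunction U'.ι).unit.naturality ((pullbackId X).hom.app F)).symm
  rw [n6, L7_assoc]

/-- the canonical map `F|_U ⟶ j_*(F|_{U'})` obtained from `rho` by adjunction -/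
noncomputable def theta' : F.restrict U.ι ⟶ (pushforward (jj h)).obj (F.restrict U'.ι) :=
  (pullbackPushforwardAdjunction (jj h)).unit.app (F.restrict U.ι) ≫ (pushforward (jj h)).map (rho F h)

lemma theta'_eq : theta' F h =
    (restrictFunctor U.ι).map ((restrictAdjunction U'.ι).unit.app F ≫ (pushforwardId X).inv.app _ ≫
      (pushforwardComp U'.ι (𝟙 X)).hom.app _ ≫
      (pushforwardCongr (Scheme.Hom.resLE_comp_ι (𝟙 X) (hle h))).inv.app _ ≫
      (pushforwardComp (jj h) U.ι).inv.app _) ≫
    (restrictAdjunction U.ι).counit.app _ := by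
  have h1 := T_eq F h
  have h2 : (restrictAdjunction U.ι).homEquiv _ _ (theta' F h) = _ :=
    ((restrictAdjunction U.ι).homEquiv_unit _ _ _).trans h1
  have h3 := congrArg ((restrictAdjunction U.ι).homEquiv _ _).symm h2
  rw [Equiv.symm_apply_apply] at h3
  rw [h3, Adjunction.homEquiv_counit]

lemma theta'_app (W : (U : Scheme.{u}).Opens) :
    (theta' F h).app W = F.presheaf.map (homOfLE (by
      intro x hx
      obtain ⟨y, hy, rfl⟩ := hx
      exact ⟨(jj h) y, hy, by
        have := Scheme.Hom.resLE_comp_ι (𝟙 X) (hle h)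
        have h2 := congrArg (fun φ : (U' : Scheme.{u}) ⟶ X => φ y) this
        simpa using h2⟩ : U'.ι ''ᵁ ((jj h) ⁻¹ᵁ W) ≤ U.ι ''ᵁ W)).op := by
  rw [theta'_eq]
  have hr : ∀ {A B : X.Modules} (φ : A ⟶ B), ((restrictFunctor U.ι).map φ).app W = φ.app (U.ι ''ᵁ W) :=
    fun _ => rfl
  simp only [Hom.comp_app, hr, restrictAdjunction_counit_app_app, restrictAdjunction_unit_app_app,
    pushforwardId_inv_app_app, pushforwardComp_hom_app_app, pushforwardComp_inv_app_app,
    pushforwardCongr_inv_app_app]
  erw [Category.id_comp, Category.id_comp, Category.comp_id]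
  rw [pushforward_obj_presheaf_map, restrict_map, restrict_map]
  refine (congrArg (fun z => z ≫ F.presheaf.map _) (F.presheaf.map_comp _ _).symm).trans ?_
  refine (F.presheaf.map_comp _ _).symm.trans ?_
  congr 1


open CohPull in
lemma resLE_eq (p : ℕ) (x : Coh.HHon X F U p) :
    CohPull.resLE F h p x = mapH (rho F h) p (pullMod (jj h) (F.restrict U.ι) p x) := by
  change mapH _ p (mapH _ p (pullMod (jj h) (F.restrict U.ι) p x)) = _
  rw [Groth.Agent.Lib.T2H5.PushEdge.H_map_comp, ← Functor.map_comp]
  rfl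

open CohPull in
omit h in
lemma equiv₀_sectH0 (V : X.Opens) (s : F.presheaf.obj (op V)) :
    Sheaf.H.equiv₀ (Coh.toAb (F.restrict V.ι))
      (Limits.isTerminalTop : Limits.IsTerminal (⊤ : (V : Scheme.{u}).Opens)) (sectH0 F V s) =
    F.presheaf.map (eqToHom V.ι_image_top).op s := by
  simp only [sectH0, AddEquiv.trans_apply, AddEquiv.apply_symm_apply]
  rfl

open CohPull in
lemma resLE_sectH0 (s : F.presheaf.obj (op U)) :
    CohPull.resLE F h 0 (sectH0 F U s) = sectH0 F U' (F.presheaf.map (homOfLE h).op s) := by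
  rw [resLE_eq]
  apply (Sheaf.H.equiv₀ (Coh.toAb (F.restrict U'.ι))
    (Limits.isTerminalTop : Limits.IsTerminal (⊤ : (U' : Scheme.{u}).Opens))).injective
  have h1 := Sheaf.H.equiv₀_naturality (Limits.isTerminalTop : Limits.IsTerminal (⊤ : (U' : Scheme.{u}).Opens))
    ((SheafOfModules.toSheaf (U' : Scheme.{u}).ringCatSheaf).map (rho F h))
    (pullMod (jj h) (F.restrict U.ι) 0 (sectH0 F U s))
  refine h1.symm.trans ?_
  rw [equiv₀_pullMod]
  have key : (theta' F h).app ⊤ (F.presheaf.map (eqToHom U.ι_image_top).op s) =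
      F.presheaf.map (eqToHom U'.ι_image_top).op (F.presheaf.map (homOfLE h).op s) := by
    rw [theta'_app]
    refine (ConcreteCategory.comp_apply _ _ s).symm.trans ?_
    refine Eq.trans ?_ (ConcreteCategory.comp_apply _ _ s)
    have e : F.presheaf.map (eqToHom U.ι_image_top).op ≫ F.presheaf.map (homOfLE (by
        rw [U'.ι_image_top, U.ι_image_top]; exact h : U'.ι ''ᵁ ⊤ ≤ U.ι ''ᵁ ⊤)).op =
        F.presheaf.map (homOfLE h).op ≫ F.presheaf.map (eqToHom U'.ι_image_top).op := by
      refine (F.presheaf.map_comp _ _).symm.trans ?_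
      refine Eq.trans ?_ (F.presheaf.map_comp _ _)
      congr 1
    exact congrArg (fun φ : F.presheaf.obj (op U) ⟶ F.presheaf.obj (op (U'.ι ''ᵁ ⊤)) =>
      (ConcreteCategory.hom φ) s) e
  refine Eq.trans ?_ (key.trans (equiv₀_sectH0 F U' _).symm)
  rw [equiv₀_sectH0]
  rfl

end Main

section Tw

open CohPull Groth.Agent.Lib.Helper16.ExtCompare Groth.Agent.Lib.Helper9.ExtNat Abelian

variable {A B : TopCat.{u}} (g : A ⟶ B)

/-- twisted pullback on cohomology: `H^n(B, M) → H^n(A, g⁻¹M) → H^n(A, N)` -/
noncomputable def tw {M : CohTop.Ab B} {N : CohTop.Ab A} (κ : (inv g).obj M ⟶ N) (n : ℕ) :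
    Sheaf.H M n →+ Sheaf.H N n :=
  (Sheaf.H.map κ n).comp (pullAb g M n)

lemma tw_apply {M : CohTop.Ab B} {N : CohTop.Ab A} (κ : (inv g).obj M ⟶ N) (n : ℕ) (x : Sheaf.H M n) :
    tw g κ n x = (cmp (inv g) (oneTo g) M n x).comp (Ext.mk₀ κ) (add_zero n) := rfl

lemma tw_nat {M M' : CohTop.Ab B} {N N' : CohTop.Ab A} (κ : (inv g).obj M ⟶ N) (κ' : (inv g).obj M' ⟶ N')
    (φ : M ⟶ M') (ψ : N ⟶ N') (w : κ ≫ ψ = (inv g).map φ ≫ κ') (n : ℕ)
    (x : Ext.{u} (CohTop.const B (ULift.{u} ℤ)) M n) :
    tw g κ' n (x.comp (Ext.mk₀ φ) (add_zero n)) = (tw g κ n x).comp (Ext.mk₀ ψ) (add_zero n) := by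
  rw [tw_apply, tw_apply, cmp_postcomp, Ext.comp_assoc_of_third_deg_zero,
    Ext.comp_assoc_of_third_deg_zero, Ext.mk₀_comp_mk₀, Ext.mk₀_comp_mk₀, w]

lemma tw_δ (S : ShortComplex (CohTop.Ab B)) (hS : S.ShortExact) (T : ShortComplex (CohTop.Ab A))
    (hT : T.ShortExact) (κ : S.map (inv g) ⟶ T) (n : ℕ)
    (x : Ext.{u} (CohTop.const B (ULift.{u} ℤ)) S.X₃ n) :
    tw g κ.τ₁ (n + 1) (x.comp hS.extClass rfl) = (tw g κ.τ₃ n x).comp hT.extClass rfl := by
  have h1 := Groth.Agent.Lib.T2H5.PushEdge.cmp_comp_extClass' g hS n x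
  have h2 := ShortComplex.ShortExact.extClass_naturality (hS.map_of_exact (inv g)) hT κ
  refine (tw_apply g κ.τ₁ (n + 1) _).trans ?_
  refine Eq.trans ?_ (congrArg (fun t => t.comp hT.extClass rfl) (tw_apply g κ.τ₃ n x)).symm
  refine (congrArg (fun t => t.comp (Ext.mk₀ κ.τ₁) (add_zero (n + 1))) h1).trans ?_
  refine (Ext.comp_assoc_of_third_deg_zero _ _ _ _).trans ?_
  refine (congrArg (fun t => (cmp (inv g) (oneTo g) S.X₃ n x).comp t rfl) h2).trans ?_
  exact (Ext.comp_assoc_of_second_deg_zero _ _ _ _).symm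

end Tw

end Groth.Agent.Lib.T2H5.ResLE
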