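import Mathlib
import Groth.Agent.Lib.T2H5ResLE

/-!
# `CohPull.resLE`: naturality in the module and compatibility with connecting maps (helper5)

Namespace `Groth.Agent.Lib.T2H5.ResLE`.
-/

set_option autoImplicit false
set_option linter.style.haveILetI false
set_option linter.unusedSectionVars false
set_option linter.unusedVariables false
set_option linter.unnecessarySimpa false
universe u
open CategoryTheory Opposite TopologicalSpace AlgebraicGeometry

namespace Groth.Agent.Lib.T2H5.ResLE
open Scheme.Modules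

section Nat

variable {X : Scheme.{u}} {U U' : X.Opens} (h : U' ≤ U)

/-- `rho` as a natural transformation -/
noncomputable def rhoNat : restrictFunctor U.ι ⋙ pullback (jj h) ⟶ restrictFunctor U'.ι :=
  Functor.whiskerRight (restrictFunctorIsoPullback U.ι).hom (pullback (jj h)) ≫
    (pullbackComp (jj h) U.ι).hom ≫
    (pullbackCongr (Scheme.Hom.resLE_comp_ι (𝟙 X) (hle h))).hom ≫
    (pullbackComp U'.ι (𝟙 X)).inv ≫
    Functor.whiskerLeft (pullback (𝟙 X)) (restrictFunctorIsoPullback U'.ι).inv ≫
    Functor.whiskerRight (pullbackId X).hom (restrictFunctor U'.ι) ≫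
    (Functor.leftUnitor _).hom

lemma rhoNat_app (F : X.Modules) : (rhoNat h).app F = rho F h := by
  rw [rho_eq]
  simp [rhoNat]

lemma rho_naturality {F G : X.Modules} (φ : F ⟶ G) :
    (pullback (jj h)).map ((restrictFunctor U.ι).map φ) ≫ rho G h =
      rho F h ≫ (restrictFunctor U'.ι).map φ := by
  rw [← rhoNat_app, ← rhoNat_app]
  exact (rhoNat h).naturality φ

end Nat

section Theta

open CohPull

variable {X Y : Scheme.{u}} (g : X ⟶ Y)

lemma theta_naturality {M M' : Y.Modules} (ψ : M ⟶ M') :
    theta g M ≫ (SheafOfModules.toSheaf X.ringCatSheaf).map ((pullback g).map ψ) =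
      (CohPull.inv g.base).map ((SheafOfModules.toSheaf Y.ringCatSheaf).map ψ) ≫ theta g M' := by
  let uM : Coh.toAb M ⟶ (CohTop.push g.base).obj (Coh.toAb ((pullback g).obj M)) :=
    (SheafOfModules.toSheaf Y.ringCatSheaf).map ((pullbackPushforwardAdjunction g).unit.app M)
  let uM' : Coh.toAb M' ⟶ (CohTop.push g.base).obj (Coh.toAb ((pullback g).obj M')) :=
    (SheafOfModules.toSheaf Y.ringCatSheaf).map ((pullbackPushforwardAdjunction g).unit.app M')
  let a : Coh.toAb ((pullback g).obj M) ⟶ Coh.toAb ((pullback g).obj M') :=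
    (SheafOfModules.toSheaf X.ringCatSheaf).map ((pullback g).map ψ)
  let b : Coh.toAb M ⟶ Coh.toAb M' := (SheafOfModules.toSheaf Y.ringCatSheaf).map ψ
  have e1 := (invPushAdj g.base).homEquiv_naturality_right_symm uM a
  have e2 := (invPushAdj g.base).homEquiv_naturality_left_symm b uM'
  have n := (pullbackPushforwardAdjunction g).unit.naturality ψ
  have h3 : uM ≫ (CohTop.push g.base).map a = b ≫ uM' := by
    have h4 : (SheafOfModules.toSheaf Y.ringCatSheaf).map ((pullbackPushforwardAdjunction g).unit.app M) ≫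
        (SheafOfModules.toSheaf Y.ringCatSheaf).map ((pushforward g).map ((pullback g).map ψ)) =
        (SheafOfModules.toSheaf Y.ringCatSheaf).map ψ ≫
        (SheafOfModules.toSheaf Y.ringCatSheaf).map ((pullbackPushforwardAdjunction g).unit.app M') := by
      refine ((SheafOfModules.toSheaf Y.ringCatSheaf).map_comp _ _).symm.trans ?_
      refine Eq.trans ?_ ((SheafOfModules.toSheaf Y.ringCatSheaf).map_comp _ _)
      exact congrArg (fun t => (SheafOfModules.toSheaf Y.ringCatSheaf).map t) n.symm
    exact h4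
  refine e1.symm.trans ?_
  refine Eq.trans ?_ e2
  exact congrArg (fun t => ((invPushAdj g.base).homEquiv _ _).symm t) h3

end Theta

section Kappa

open CohPull CohCmp Groth.Agent.Lib.Helper23.SectCmpLib Abelian

variable {X : Scheme.{u}} {U U' : X.Opens} (h : U' ≤ U)

/-- the comparison `j⁻¹(F|_U) ⟶ F|_{U'}` of abelian sheaves underlying `CohPull.resLE` -/
noncomputable def kappa (F : X.Modules) :
    (CohPull.inv (jj h).base).obj ((toAbOn X U).obj F) ⟶ (toAbOn X U').obj F :=
  theta (jj h) (F.restrict U.ι) ≫ (SheafOfModules.toSheaf (U' : Scheme.{u}).ringCatSheaf).map (rho F h)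

lemma kappa_naturality {F G : X.Modules} (φ : F ⟶ G) :
    kappa h F ≫ (toAbOn X U').map φ =
      (CohPull.inv (jj h).base).map ((toAbOn X U).map φ) ≫ kappa h G := by
  have h1 := theta_naturality (jj h) ((restrictFunctor U.ι).map φ)
  have h2 := rho_naturality h φ
  have h3 : (SheafOfModules.toSheaf (U' : Scheme.{u}).ringCatSheaf).map (rho F h) ≫ (toAbOn X U').map φ =
      (SheafOfModules.toSheaf (U' : Scheme.{u}).ringCatSheaf).map
        ((pullback (jj h)).map ((restrictFunctor U.ι).map φ)) ≫
      (SheafOfModules.toSheaf (U' : Scheme.{u}).ringCatSheaf).map (rho G h) := by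
    refine ((SheafOfModules.toSheaf (U' : Scheme.{u}).ringCatSheaf).map_comp _ _).symm.trans ?_
    refine Eq.trans ?_ ((SheafOfModules.toSheaf (U' : Scheme.{u}).ringCatSheaf).map_comp _ _)
    exact congrArg (fun t => (SheafOfModules.toSheaf (U' : Scheme.{u}).ringCatSheaf).map t) h2.symm
  unfold kappa
  rw [Category.assoc, h3, ← Category.assoc, h1, Category.assoc]
  rfl

lemma resLE_eq_tw (F : X.Modules) (p : ℕ) (x : Coh.HHon X F U p) :
    CohPull.resLE F h p x = tw (jj h).base (kappa h F) p x := by
  rw [resLE_eq]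
  change Sheaf.H.map _ p (Sheaf.H.map _ p (pullAb (jj h).base _ p x)) = _
  rw [Groth.Agent.Lib.T2H5.PushEdge.H_map_comp]
  rfl

lemma resLE_mapH {F G : X.Modules} (φ : F ⟶ G) (p : ℕ) (x : Coh.HHon X F U p) :
    CohPull.resLE G h p (mapH ((restrictFunctor U.ι).map φ) p x) =
      mapH ((restrictFunctor U'.ι).map φ) p (CohPull.resLE F h p x) := by
  rw [resLE_eq_tw, resLE_eq_tw]
  exact tw_nat (jj h).base (kappa h F) (kappa h G) ((toAbOn X U).map φ) ((toAbOn X U').map φ)
    (kappa_naturality h φ) p x

lemma resLE_extδ (S : ShortComplex X.Modules) (hS : S.ShortExact) (p : ℕ) (x : Coh.HHon X S.X₃ U p) :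
    CohPull.resLE S.X₁ h (p + 1) (extδ (toAbOn_shortExact U S hS) p x) =
      extδ (toAbOn_shortExact U' S hS) p (CohPull.resLE S.X₃ h p x) := by
  rw [resLE_eq_tw, resLE_eq_tw]
  let κ : (S.map (toAbOn X U)).map (CohPull.inv (jj h).base) ⟶ S.map (toAbOn X U') :=
    { τ₁ := kappa h S.X₁
      τ₂ := kappa h S.X₂
      τ₃ := kappa h S.X₃
      comm₁₂ := kappa_naturality h S.f
      comm₂₃ := kappa_naturality h S.g }
  exact tw_δ (jj h).base (S.map (toAbOn X U)) (toAbOn_shortExact U S hS) (S.map (toAbOn X U'))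
    (toAbOn_shortExact U' S hS) κ p x

end Kappa

end Groth.Agent.Lib.T2H5.ResLE
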