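import Mathlib
import Groth.Agent.Lib.T2H5ResLE2

/-!
# `CohPull.resLE` and the comparison maps `CohCmp.SectCmp`: restriction compatibility and local injectivity (helper5)

Namespace `Groth.Agent.Lib.T2H5.ResLE`.
-/

set_option autoImplicit false
set_option linter.style.haveILetI false
set_option linter.unusedSectionVars false
set_option linter.unusedVariables false
set_option linter.unnecessarySimpa false
universe u
open CategoryTheory Opposite TopologicalSpace AlgebraicGeometry

namespace Groth.Agent.Lib.T2H5.ResLE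
open Scheme.Modules

section Aux

open CohPull CohCmp Groth.Agent.Lib.Helper23.SectCmpLib Abelian

variable {X : Scheme.{u}}

lemma subsingleton_HHon_of_injective (I : X.Modules) [Injective I] (U : X.Opens) (p : ℕ) :
    Subsingleton (Coh.HHon X I U (p + 1)) :=
  (Groth.Agent.Lib.T2H5.RpushBC.subsingleton_HH_restrict_iff U I (p + 1)).2
    (Groth.Agent.Lib.Helper23.ModAbBridge.subsingleton_HE_of_injective I U p)

/-- `sectH0` is natural in the module -/
lemma sectH0_naturality {F G : X.Modules} (φ : F ⟶ G) (U : X.Opens) (s : F.presheaf.obj (op U)) :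
    sectH0 G U (φ.app U s) = mapH ((restrictFunctor U.ι).map φ) 0 (sectH0 F U s) := by
  apply (Sheaf.H.equiv₀ (Coh.toAb (G.restrict U.ι))
    (Limits.isTerminalTop : Limits.IsTerminal (⊤ : (U : Scheme.{u}).Opens))).injective
  have h1 := Sheaf.H.equiv₀_naturality (Limits.isTerminalTop : Limits.IsTerminal (⊤ : (U : Scheme.{u}).Opens))
    ((SheafOfModules.toSheaf (U : Scheme.{u}).ringCatSheaf).map ((restrictFunctor U.ι).map φ))
    (sectH0 F U s)
  refine Eq.trans ?_ h1
  rw [equiv₀_sectH0, equiv₀_sectH0]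
  have n := ConcreteCategory.congr_hom (φ.mapPresheaf.naturality (eqToHom U.ι_image_top).op) s
  exact n.symm

/-- the connecting map kills classes coming from the middle term -/
lemma extδ_mapH (S : ShortComplex X.Modules) (hS : S.ShortExact) (U : X.Opens) (p : ℕ)
    (x : Coh.HHon X S.X₂ U p) :
    extδ (toAbOn_shortExact U S hS) p (mapH ((restrictFunctor U.ι).map S.g) p x) = 0 := by
  have hA := toAbOn_shortExact U S hS
  have h1 : (Ext.mk₀ (S.map (toAbOn X U)).g).comp hA.extClass (zero_add 1) = 0 := hA.comp_extClass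
  let x' : Ext.{u} (CohTop.const (U : Scheme.{u}) (ULift.{u} ℤ)) ((S.map (toAbOn X U)).X₂) p := x
  change (x'.comp (Ext.mk₀ (S.map (toAbOn X U)).g) (add_zero p)).comp hA.extClass rfl = 0
  refine (Ext.comp_assoc_of_second_deg_zero x' _ hA.extClass rfl).trans ?_
  rw [h1, Ext.comp_zero]

/-- every class of degree `p + 1` of the first term is a boundary when the middle term is injective -/
lemma exists_extδ_eq (S : ShortComplex X.Modules) (hS : S.ShortExact) [Injective S.X₂] (U : X.Opens) (p : ℕ)
    (x : Coh.HHon X S.X₁ U (p + 1)) :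
    ∃ x' : Coh.HHon X S.X₃ U p, extδ (toAbOn_shortExact U S hS) p x' = x := by
  have hsub := subsingleton_HHon_of_injective S.X₂ U p
  have h0 : (x : Ext.{u} _ ((S.map (toAbOn X U)).X₁) (p + 1)).comp
      (Ext.mk₀ (S.map (toAbOn X U)).f) (add_zero (p + 1)) = 0 :=
    @Subsingleton.elim _ hsub _ _
  exact Ext.covariant_sequence_exact₁ _ (toAbOn_shortExact U S hS) x h0 rfl

/-- the connecting homomorphism, typed on `Coh.HHon` -/
noncomputable def dl (S : ShortComplex X.Modules) (hS : S.ShortExact) (U : X.Opens) (p : ℕ) :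
    Coh.HHon X S.X₃ U p →+ Coh.HHon X S.X₁ U (p + 1) :=
  extδ (toAbOn_shortExact U S hS) p

lemma resLE_dl (S : ShortComplex X.Modules) (hS : S.ShortExact) {U U' : X.Opens} (h : U' ≤ U) (p : ℕ)
    (x : Coh.HHon X S.X₃ U p) :
    CohPull.resLE S.X₁ h (p + 1) (dl S hS U p x) = dl S hS U' p (CohPull.resLE S.X₃ h p x) :=
  resLE_extδ h S hS p x

lemma dl_mapH (S : ShortComplex X.Modules) (hS : S.ShortExact) (U : X.Opens) (p : ℕ)
    (x : Coh.HHon X S.X₂ U p) :
    dl S hS U p (mapH ((restrictFunctor U.ι).map S.g) p x) = 0 :=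
  extδ_mapH S hS U p x

lemma exists_dl_eq (S : ShortComplex X.Modules) (hS : S.ShortExact) [Injective S.X₂] (U : X.Opens) (p : ℕ)
    (x : Coh.HHon X S.X₁ U (p + 1)) : ∃ x' : Coh.HHon X S.X₃ U p, dl S hS U p x' = x :=
  exists_extδ_eq S hS U p x

end Aux

section Lift

variable {Y : Scheme.{u}}

lemma subsingleton_sections_of_isZero (M : Y.Modules) (hM : Limits.IsZero M) (V : Y.Opens) :
    Subsingleton (M.presheaf.obj (op V)) := by
  have key : ∀ s : M.presheaf.obj (op V), s = 0 := by
    intro s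
    have h1 : (𝟙 M : M ⟶ M) = 0 := hM.eq_of_src _ _
    have h2 : (𝟙 M : M ⟶ M).app V s = s := rfl
    rw [h1] at h2
    exact h2.symm
  exact ⟨fun a b => (key a).trans (key b).symm⟩

open Groth.Agent.Lib.Helper23.SectCmpLib in
/-- local lifting along an exact sequence of modules -/
lemma exists_local_lift_of_exact (T : ShortComplex Y.Modules) (hT : T.Exact) (V : Y.Opens)
    (t : T.X₂.presheaf.obj (op V)) (ht : T.g.app V t = 0) (y : Y) (hy : y ∈ V) :
    ∃ (W : Y.Opens) (hWV : W ≤ V), y ∈ W ∧ ∃ s : T.X₁.presheaf.obj (op W),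
      T.f.app W s = T.X₂.presheaf.map (homOfLE hWV).op t := by
  obtain ⟨k, hk⟩ := Groth.Agent.Lib.T2H5.SerreRelGen.exists_kernel_section T.g V t ht
  have hepi : Epi (Limits.kernel.lift T.g T.f T.zero) := (ShortComplex.exact_iff_epi_kernel_lift _).1 hT
  obtain ⟨W, hWV, hyW, s, hs⟩ := exists_local_lift (Limits.kernel.lift T.g T.f T.zero) V k y hy
  refine ⟨W, hWV, hyW, s, ?_⟩
  have h1 : Limits.kernel.lift T.g T.f T.zero ≫ Limits.kernel.ι T.g = T.f := Limits.kernel.lift_ι _ _ _
  have h2 : T.f.app W s = (Limits.kernel.ι T.g).app W ((Limits.kernel.lift T.g T.f T.zero).app W s) :=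
    congrArg (fun ψ : T.X₁ ⟶ T.X₂ => ψ.app W s) h1.symm
  rw [h2, hs, ← hk]
  exact ConcreteCategory.congr_hom ((Limits.kernel.ι T.g).mapPresheaf.naturality (homOfLE hWV).op) k

end Lift

section Eps

open CohPull CohCmp Groth.Agent.Lib.Helper23.SectCmpLib Abelian Limits

variable {X Y : Scheme.{u}} (f : X ⟶ Y) [HasInjectiveResolutions X.Modules]
  {Δ : RDer.DerivedLES (pushforward f)} (E : CohCmp.SectCmp f Δ)

/-- the canonical short exact sequence `0 → F → I → I/F → 0` with `I` injective -/
noncomputable def sesInj [EnoughInjectives X.Modules] (F : X.Modules) : ShortComplex X.Modules :=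
  ShortComplex.mk (Injective.ι F) (cokernel.π (Injective.ι F)) (cokernel.condition _)

lemma sesInj_shortExact [EnoughInjectives X.Modules] (F : X.Modules) : (sesInj F).ShortExact :=
  { exact := ShortComplex.exact_cokernel _
    mono_f := inferInstanceAs (Mono (Injective.ι F))
    epi_g := inferInstanceAs (Epi (cokernel.π (Injective.ι F))) }

instance [EnoughInjectives X.Modules] (F : X.Modules) : Injective (sesInj F).X₂ :=
  inferInstanceAs (Injective (Injective.under F))

lemma enoughInjectives_modules (X : Scheme.{u}) : EnoughInjectives X.Modules := by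
  have := Groth.Agent.S0484.result (Opens.grothendieckTopology X) X.ringCatSheaf
  exact inferInstanceAs (EnoughInjectives (SheafOfModules.{u} X.ringCatSheaf))

lemma eps_dl (S : ShortComplex X.Modules) (hS : S.ShortExact) (V : Y.Opens) (p : ℕ)
    (x : Coh.HHon X S.X₃ (f ⁻¹ᵁ V) p) :
    E.ε V S.X₁ (p + 1) (dl S hS (f ⁻¹ᵁ V) p x) = (Δ.δ S hS p (p + 1) rfl).app V (E.ε V S.X₃ p x) :=
  E.delta V S hS (toAbOn_shortExact (f ⁻¹ᵁ V) S hS) p x

omit E in
lemma delta_res (S : ShortComplex X.Modules) (hS : S.ShortExact) (p : ℕ) {V W : Y.Opens} (hWV : W ≤ V)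
    (t : ((Coh.Rpush f p).obj S.X₃).presheaf.obj (op V)) :
    (Δ.δ S hS p (p + 1) rfl).app W (((Coh.Rpush f p).obj S.X₃).presheaf.map (homOfLE hWV).op t) =
      ((Coh.Rpush f (p + 1)).obj S.X₁).presheaf.map (homOfLE hWV).op ((Δ.δ S hS p (p + 1) rfl).app V t) :=
  ConcreteCategory.congr_hom ((Δ.δ S hS p (p + 1) rfl).mapPresheaf.naturality (homOfLE hWV).op) t

omit [HasInjectiveResolutions X.Modules] in
lemma tau_res [HasInjectiveResolutions X.Modules] (F : X.Modules) {V W : Y.Opens} (hWV : W ≤ V)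
    (s : F.presheaf.obj (op (f ⁻¹ᵁ V))) :
    ((pushforward f).toRightDerivedZero.app F).app W (F.presheaf.map (homOfLE (f.preimage_mono hWV)).op s) =
      ((Coh.Rpush f 0).obj F).presheaf.map (homOfLE hWV).op
        (((pushforward f).toRightDerivedZero.app F).app V s) :=
  ConcreteCategory.congr_hom
    (((pushforward f).toRightDerivedZero.app F).mapPresheaf.naturality (homOfLE hWV).op) s

end Eps

end Groth.Agent.Lib.T2H5.ResLE
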