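import Mathlib
import Groth.Agent.Lib.T2H5ResLE3

/-!
# Consequences of the long exact sequence of `Coh.HHon` for a short exact sequence of modules
with acyclic middle term (helper2)

Namespace `Groth.Agent.Lib.T2H2.PunctA`.
-/

set_option autoImplicit false
universe u
open CategoryTheory Opposite TopologicalSpace AlgebraicGeometry

namespace Groth.Agent.Lib.T2H2.PunctA

open Scheme.Modules CohPull CohCmp Groth.Agent.Lib.Helper23.SectCmpLib Abelian
  Groth.Agent.Lib.T2H5.ResLE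

variable {X : Scheme.{u}} (S : ShortComplex X.Modules) (hS : S.ShortExact) (U : X.Opens)

/-- exactness at `H^p(U, S.X₃)` -/
lemma exists_mapH_eq_of_dl_eq_zero (p : ℕ) (x : Coh.HHon X S.X₃ U p) (hx : dl S hS U p x = 0) :
    ∃ y : Coh.HHon X S.X₂ U p, mapH ((restrictFunctor U.ι).map S.g) p y = x :=
  Ext.covariant_sequence_exact₃ _ (toAbOn_shortExact U S hS) x rfl hx

/-- exactness at `H^{p+1}(U, S.X₁)` when `H^{p+1}(U, S.X₂) = 0` -/
lemma exists_dl_eq_of_subsingleton (p : ℕ) (h : Subsingleton (Coh.HHon X S.X₂ U (p + 1)))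
    (x : Coh.HHon X S.X₁ U (p + 1)) : ∃ x' : Coh.HHon X S.X₃ U p, dl S hS U p x' = x := by
  have h0 : (x : Ext.{u} _ ((S.map (toAbOn X U)).X₁) (p + 1)).comp
      (Ext.mk₀ (S.map (toAbOn X U)).f) (add_zero (p + 1)) = 0 :=
    @Subsingleton.elim _ h _ _
  exact Ext.covariant_sequence_exact₁ _ (toAbOn_shortExact U S hS) x h0 rfl

theorem dl_bijective (p : ℕ) (h0 : Subsingleton (Coh.HHon X S.X₂ U p))
    (h1 : Subsingleton (Coh.HHon X S.X₂ U (p + 1))) : Function.Bijective (dl S hS U p) := by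
  refine ⟨?_, fun x => exists_dl_eq_of_subsingleton S hS U p h1 x⟩
  rw [injective_iff_map_eq_zero]
  intro x hx
  obtain ⟨y, rfl⟩ := exists_mapH_eq_of_dl_eq_zero S hS U p x hx
  rw [Subsingleton.elim y 0, map_zero]

/-- the image of `Γ(U, S.X₂) → Γ(U, S.X₃)` -/
noncomputable def secRange : AddSubgroup (S.X₃.presheaf.obj (op U)) :=
  AddMonoidHom.range (S.g.app U).hom

include hS in
/-- `H^1(U, S.X₁) ≃ Γ(U, S.X₃) / im Γ(U, S.X₂)` when `H^1(U, S.X₂) = 0` -/
theorem nonempty_H1_equiv (h1 : Subsingleton (Coh.HHon X S.X₂ U 1)) :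
    Nonempty ((S.X₃.presheaf.obj (op U) ⧸ secRange S U) ≃+ Coh.HHon X S.X₁ U 1) := by
  let ψ : S.X₃.presheaf.obj (op U) →+ Coh.HHon X S.X₁ U 1 :=
    (dl S hS U 0).comp (sectH0 S.X₃ U).toAddMonoidHom
  have hsurj : Function.Surjective ψ := by
    intro x
    obtain ⟨x', hx'⟩ := exists_dl_eq_of_subsingleton S hS U 0 h1 x
    obtain ⟨s, rfl⟩ := (sectH0 S.X₃ U).surjective x'
    exact ⟨s, hx'⟩
  have hker : ψ.ker = secRange S U := by
    ext t
    rw [AddMonoidHom.mem_ker]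
    constructor
    · intro ht
      obtain ⟨y, hy⟩ := exists_mapH_eq_of_dl_eq_zero S hS U 0 (sectH0 S.X₃ U t) ht
      obtain ⟨s, rfl⟩ := (sectH0 S.X₂ U).surjective y
      refine ⟨s, ?_⟩
      apply (sectH0 S.X₃ U).injective
      rw [← hy]
      exact sectH0_naturality S.g U s
    · rintro ⟨s, rfl⟩
      change dl S hS U 0 (sectH0 S.X₃ U (S.g.app U s)) = 0
      rw [sectH0_naturality S.g U s]
      exact dl_mapH S hS U 0 _
  exact ⟨(QuotientAddGroup.quotientAddEquivOfEq hker.symm).trans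
    (QuotientAddGroup.quotientKerEquivOfSurjective ψ hsurj)⟩

end Groth.Agent.Lib.T2H2.PunctA
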