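import Mathlib
import Groth.Agent.Lib.T2H2PunctA
import Groth.Agent.Lib.T2H2FlasqueKz
import Groth.Agent.Lib.T2H5RpushBC
import Groth.Agent.Lib.Helper16Flasque
import Groth.Agent.Lib.Helper1ExtCech3
import Groth.Agent.Lib.Helper9LCDelta
import Groth.Agent.S9498

/-!
# Cohomology of the punctured spectrum: ingredients (helper2)

Namespace `Groth.Agent.Lib.T2H2.PunctB`.

* `subsingleton_HHon_of_isFlasque`: modules with flasque underlying abelian sheaf are acyclic on opens.
* `tildeSC`, `tildeSC_shortExact`: tilde of a short exact sequence.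
* `isFlasque_tilde_of_injective`: over a Noetherian ring the tilde of an injective module is flasque.
* `mem_secRange_iff`, `surjective_tilde_map_app_top`, `puncturedOpen_eq_Ufs`, `nonempty_lc_iso`.
-/

set_option autoImplicit false
universe u
open CategoryTheory Limits Opposite TopologicalSpace AlgebraicGeometry

namespace Groth.Agent.Lib.T2H2.PunctB


open Groth.Agent.Lib.T2H2.FlasqueKz Groth.Agent.Lib.T2H2.LowCechR

section General

variable {X : Scheme.{u}}

/-- a module whose underlying abelian sheaf is flasque is acyclic on every open -/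
theorem subsingleton_HHon_of_isFlasque (F : X.Modules)
    (hF : TopCat.Sheaf.IsFlasque (Coh.toAb F)) (U : X.Opens) (p : ℕ) :
    Subsingleton (Coh.HHon X F U (p + 1)) := by
  refine (Groth.Agent.Lib.T2H5.RpushBC.subsingleton_HH_restrict_iff U F (p + 1)).2 ?_
  have : TopCat.Sheaf.IsFlasque (Groth.Agent.Lib.Helper23.AffVanish.ab' F) := hF
  exact Groth.Agent.Lib.Helper16.Flasque.HU_subsingleton (X := X.toTopCat)
    (Groth.Agent.Lib.Helper23.AffVanish.ab' F) U p

end General

section Tilde

variable (R : Type u) [CommRing R]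

/-- the tilde functor is exact -/
theorem tilde_shortExact' (A : CommRingCat.{u}) (S : ShortComplex (ModuleCat.{u} A)) (hS : S.ShortExact) :
    (S.map (tilde.functor A)).ShortExact := by
  obtain ⟨h1, h2⟩ := Groth.Agent.S9498.aux A
  exact hS.map_of_exact (tilde.functor A)

/-- the tilde of a short complex of modules -/
noncomputable def tildeSC (S : ShortComplex (ModuleCat.{u} R)) :
    ShortComplex (Spec (CommRingCat.of R)).Modules :=
  ShortComplex.mk (tilde.map (R := CommRingCat.of R) S.f) (tilde.map (R := CommRingCat.of R) S.g)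
    (by rw [← tilde.map_comp, S.zero, tilde.map_zero])

theorem tildeSC_shortExact (S : ShortComplex (ModuleCat.{u} R)) (hS : S.ShortExact) :
    (tildeSC R S).ShortExact :=
  tilde_shortExact' (CommRingCat.of R) S hS

/-- over a Noetherian ring, the tilde of an injective module is flasque -/
theorem isFlasque_tilde_of_injective [IsNoetherianRing R] (J : Type u) [AddCommGroup J] [Module R J]
    [Module.Injective R J] : TopCat.Sheaf.IsFlasque (Coh.toAb (FM R J)) := by
  apply isFlasque_of_subsingleton_koszulHLim_one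
  intro fs
  obtain ⟨e⟩ := Groth.Agent.Lib.T2H2.KzCech.nonempty_koszulHLim_equiv_extCechH fs (ModuleCat.of R J) 1
  have hz := Groth.Agent.Lib.Helper1.ExtCech.isZero_extCechH_pos_of_injective fs (ModuleCat.of R J)
    (1 : ℤ) le_rfl
  have := ModuleCat.subsingleton_of_isZero hz
  exact e.toEquiv.subsingleton

end Tilde



open Groth.Agent.Lib.T2H2.FlasqueKz Groth.Agent.Lib.T2H2.LowCechR Groth.Agent.Lib.T2H2.PunctA
  Groth.Agent.Lib.Helper6

section General

variable {X : Scheme.{u}}

lemma app_res {F G : X.Modules} (φ : F ⟶ G) {U V : X.Opens} (h : V ≤ U) (s : Γ(F, U)) :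
    φ.app V (res F h s) = res G h (φ.app U s) :=
  ConcreteCategory.congr_hom (φ.mapPresheaf.naturality (homOfLE h).op) s

lemma mem_secRange_iff (S : ShortComplex X.Modules)
    (hfl : TopCat.Sheaf.IsFlasque (Coh.toAb S.X₂))
    (htop : Function.Surjective (S.g.app ⊤)) (U : X.Opens) (t : Γ(S.X₃, U)) :
    t ∈ secRange S U ↔ ∃ q : Γ(S.X₃, ⊤), res S.X₃ le_top q = t := by
  constructor
  · rintro ⟨s, rfl⟩
    obtain ⟨s', rfl⟩ := surjective_of_isFlasque S.X₂ hfl U s
    exact ⟨S.g.app ⊤ s', (app_res S.g le_top s').symm⟩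
  · rintro ⟨q, rfl⟩
    obtain ⟨j, rfl⟩ := htop q
    exact ⟨res S.X₂ le_top j, app_res S.g le_top j⟩

end General

section Tilde

variable (R : Type u) [CommRing R]

set_option backward.isDefEq.respectTransparency.types false in
lemma surjective_tilde_map_app_top {M N : ModuleCat.{u} R} (g : M ⟶ N)
    (hg : Function.Surjective g.hom) :
    Function.Surjective ((tilde.map (R := CommRingCat.of R) g).app ⊤) := by
  intro q
  have h1 := tilde.toOpen_map_app (R := CommRingCat.of R) g ⊤
  have hiso : Function.Surjective (tilde.toOpen (R := CommRingCat.of R) N ⊤).hom :=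
    ((ConcreteCategory.isIso_iff_bijective _).mp (tilde.isIso_toOpen_top (R := CommRingCat.of R) (M := N))).2
  obtain ⟨n, hn⟩ := hiso q
  obtain ⟨m, rfl⟩ := hg n
  refine ⟨(tilde.toOpen (R := CommRingCat.of R) M ⊤).hom m, ?_⟩
  have h2 := congrArg (fun f => f.hom m) h1
  exact h2.trans hn

end Tilde



open Groth.Agent.Lib.T2H2.FlasqueKz Groth.Agent.Lib.T2H2.LowCechR Groth.Agent.Lib.T2H2.PunctA
  Groth.Agent.Lib.Helper6

section Tilde

variable (R : Type u) [CommRing R]

lemma puncturedOpen_eq_Ufs (fs : List R) :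
    LocCoh.puncturedOpen R (Ideal.span {x : R | x ∈ fs}) = Ufs (φA R) fs := by
  apply Opens.ext
  rw [coe_Ufs]
  have h1 : ∀ f : R, (((Spec (CommRingCat.of R)).basicOpen (φA R f) : (Spec (CommRingCat.of R)).Opens) :
      Set (Spec (CommRingCat.of R))) = (PrimeSpectrum.basicOpen f : Set (PrimeSpectrum R)) := fun f =>
    congrArg (fun O : (Spec (CommRingCat.of R)).Opens => (O : Set (Spec (CommRingCat.of R))))
      (basicOpen_eq_of_affine (R := CommRingCat.of R) f)
  simp only [h1]
  change (PrimeSpectrum.zeroLocus (R := R) ((Ideal.span {x : R | x ∈ fs} : Ideal R) : Set R))ᶜ = _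
  rw [PrimeSpectrum.zeroLocus_span]
  ext x
  simp only [Set.mem_compl_iff, PrimeSpectrum.mem_zeroLocus, Set.subset_def, Set.mem_ofPred_eq,
    SetLike.mem_coe, exists_prop, not_forall]
  constructor
  · rintro ⟨f, hf, hx⟩
    exact Set.mem_iUnion₂.mpr ⟨f, hf, hx⟩
  · intro hx
    obtain ⟨f, hf, hx⟩ := Set.mem_iUnion₂.mp hx
    exact ⟨f, hf, hx⟩

section LC

open Groth.Agent.Lib.Helper9.DeltaDerived

/-- dimension shifting for local cohomology -/
theorem nonempty_lc_iso (I : Ideal R) (S : ShortComplex (ModuleCat.{u} R)) (hS : S.ShortExact)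
    [Injective S.X₂] (n : ℕ) :
    Nonempty ((localCohomology I (n + 1)).obj S.X₃ ≅ (localCohomology I (n + 1 + 1)).obj S.X₁) := by
  let D := Groth.Agent.Lib.Helper9.LCDelta.effDelta I
  have hz1 : IsZero ((localCohomology I (n + 1)).obj S.X₂) := D.isZero S.X₂ n
  have hz2 : IsZero ((localCohomology I (n + 1 + 1)).obj S.X₂) := D.isZero S.X₂ (n + 1)
  have hm : Mono (D.δ S hS (n + 1)) :=
    (D.exact₃ S hS (n + 1)).mono_g (hz1.eq_of_src _ _)
  have he : Epi (D.δ S hS (n + 1)) :=
    (D.exact₁ S hS (n + 1)).epi_f (hz2.eq_of_tgt _ _)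
  have : IsIso (D.δ S hS (n + 1)) := isIso_of_mono_of_epi _
  exact ⟨asIso (D.δ S hS (n + 1))⟩

end LC

end Tilde

end Groth.Agent.Lib.T2H2.PunctB
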