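import Mathlib
import Groth.Agent.Lib.T2H2PunctB
import Groth.Agent.Lib.Helper1ExtCech4

/-!
# Cohomology of the punctured spectrum `H^p(U, M~) ≃ H^{p+1}_I(M)` for `p ≥ 1` (helper2)

Namespace `Groth.Agent.Lib.T2H2.PunctC`.
-/

set_option autoImplicit false
universe u
open CategoryTheory Limits Opposite TopologicalSpace AlgebraicGeometry

namespace Groth.Agent.Lib.T2H2.PunctC

open Groth.Agent.Lib.T2H2.FlasqueKz Groth.Agent.Lib.T2H2.LowCechR Groth.Agent.Lib.T2H2.PunctA
  Groth.Agent.Lib.T2H2.PunctB Groth.Agent.Lib.Helper6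

variable (R : Type u) [CommRing R]

/-- comparison of the two cokernels -/
theorem nonempty_coker_equiv_secR (S : ShortComplex (ModuleCat.{u} R))
    (hfl : TopCat.Sheaf.IsFlasque (Coh.toAb (tildeSC R S).X₂))
    (hg : Function.Surjective S.g.hom) (U : (Spec (CommRingCat.of R)).Opens) :
    Nonempty ((Γ((tildeSC R S).X₃, U) ⧸ secRange (tildeSC R S) U) ≃+
      (SecR (FM R S.X₃) (φA R) U ⧸
        LinearMap.range (ρR (FM R S.X₃) (φA R) (ModuleCat.of R S.X₃) (eM R S.X₃) U))) := by
  let eH : Γ((tildeSC R S).X₃, U) ≃+ SecR (FM R S.X₃) (φA R) U :=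
    { toFun := fun s => ofSec s
      invFun := fun s => toSec s
      left_inv := fun _ => rfl
      right_inv := fun _ => rfl
      map_add' := fun _ _ => rfl }
  have hiff := mem_secRange_iff (tildeSC R S) hfl
    (surjective_tilde_map_app_top R S.g hg) U
  have he : AddSubgroup.map (eH : Γ((tildeSC R S).X₃, U) →+ SecR (FM R S.X₃) (φA R) U)
      (secRange (tildeSC R S) U) =
      (LinearMap.range (ρR (FM R S.X₃) (φA R) (ModuleCat.of R S.X₃) (eM R S.X₃) U)).toAddSubgroup := by
    ext n
    simp only [AddSubgroup.mem_map, Submodule.mem_toAddSubgroup, LinearMap.mem_range]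
    constructor
    · rintro ⟨t, ht, rfl⟩
      obtain ⟨q, rfl⟩ := (hiff t).mp ht
      refine ⟨(eM R S.X₃).symm (ofSec q), ?_⟩
      change resR (FM R S.X₃) (φA R) le_top ((eM R S.X₃) ((eM R S.X₃).symm (ofSec q))) = _
      rw [LinearEquiv.apply_symm_apply]
      rfl
    · rintro ⟨m, rfl⟩
      refine ⟨toSec (ρR (FM R S.X₃) (φA R) (ModuleCat.of R S.X₃) (eM R S.X₃) U m), ?_, rfl⟩
      exact (hiff _).mpr ⟨toSec (eM R S.X₃ m), rfl⟩
  exact ⟨QuotientAddGroup.congr (secRange (tildeSC R S) U)
    (LinearMap.range (ρR (FM R S.X₃) (φA R) (ModuleCat.of R S.X₃) (eM R S.X₃) U)).toAddSubgroup eH he⟩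


section Main

variable [IsNoetherianRing R]

/-- the canonical short exact sequence `0 → M → J → J/M → 0` with `J` injective -/
noncomputable def sesInj (M : ModuleCat.{u} R) : ShortComplex (ModuleCat.{u} R) :=
  ShortComplex.mk (Injective.ι M) (cokernel.π (Injective.ι M)) (cokernel.condition _)

omit [IsNoetherianRing R] in
lemma sesInj_shortExact (M : ModuleCat.{u} R) : (sesInj R M).ShortExact :=
  { exact := ShortComplex.exact_cokernel _
    mono_f := inferInstanceAs (Mono (Injective.ι M))
    epi_g := inferInstanceAs (Epi (cokernel.π (Injective.ι M))) }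

instance (M : ModuleCat.{u} R) : Injective (sesInj R M).X₂ :=
  inferInstanceAs (Injective (Injective.under M))

theorem main (fs : List R) (p : ℕ) : ∀ (M : ModuleCat.{u} R),
    Nonempty (Coh.HHon (Spec (CommRingCat.of R)) (tilde (R := CommRingCat.of R) M)
        (Ufs (φA R) fs) (p + 1) ≃+
      (localCohomology (Ideal.span {x : R | x ∈ fs}) (p + 1 + 1)).obj M) := by
  induction p with
  | zero =>
    intro M
    let S := sesInj R M
    have hS : S.ShortExact := sesInj_shortExact R M
    have hJ : Injective (ModuleCat.of R ↑(Injective.under M)) :=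
      (inferInstance : Injective (Injective.under M))
    have hinj : Module.Injective R S.X₂ :=
      Module.injective_module_of_injective_object R ↑(Injective.under M)
    have hfl : TopCat.Sheaf.IsFlasque (Coh.toAb (tildeSC R S).X₂) :=
      isFlasque_tilde_of_injective R S.X₂
    have hT := tildeSC_shortExact R S hS
    have h1 := subsingleton_HHon_of_isFlasque (tildeSC R S).X₂ hfl (Ufs (φA R) fs) 0
    obtain ⟨e1⟩ := nonempty_H1_equiv (tildeSC R S) hT (Ufs (φA R) fs) h1
    have hg : Function.Surjective S.g.hom := (ModuleCat.epi_iff_surjective S.g).mp hS.epi_g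
    obtain ⟨e2⟩ := nonempty_coker_equiv_secR R S hfl hg (Ufs (φA R) fs)
    obtain ⟨e3⟩ := nonempty_coker_equiv (FM R S.X₃) (φA R) (ModuleCat.of R S.X₃) (eM R S.X₃) fs
    obtain ⟨e4⟩ := Groth.Agent.Lib.T2H2.KzCech.nonempty_koszulHLim_equiv_extCechH fs
      (ModuleCat.of R S.X₃) 1
    obtain ⟨e5⟩ := Groth.Agent.Lib.Helper1.ExtCech4.nonempty_iso fs (ModuleCat.of R S.X₃) 1
    obtain ⟨e6⟩ := nonempty_lc_iso R (Ideal.span {x : R | x ∈ fs}) S hS 0
    exact ⟨e1.symm.trans (e2.trans (e3.toAddEquiv.trans (e4.toAddEquiv.trans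
      (e5.toLinearEquiv.toAddEquiv.trans e6.toLinearEquiv.toAddEquiv))))⟩
  | succ p ih =>
    intro M
    let S := sesInj R M
    have hS : S.ShortExact := sesInj_shortExact R M
    have hJ : Injective (ModuleCat.of R ↑(Injective.under M)) :=
      (inferInstance : Injective (Injective.under M))
    have hinj : Module.Injective R S.X₂ :=
      Module.injective_module_of_injective_object R ↑(Injective.under M)
    have hfl : TopCat.Sheaf.IsFlasque (Coh.toAb (tildeSC R S).X₂) :=
      isFlasque_tilde_of_injective R S.X₂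
    have hT := tildeSC_shortExact R S hS
    have h0 := subsingleton_HHon_of_isFlasque (tildeSC R S).X₂ hfl (Ufs (φA R) fs) p
    have h1 := subsingleton_HHon_of_isFlasque (tildeSC R S).X₂ hfl (Ufs (φA R) fs) (p + 1)
    have hb := dl_bijective (tildeSC R S) hT (Ufs (φA R) fs) (p + 1) h0 h1
    obtain ⟨e1⟩ := ih S.X₃
    obtain ⟨e6⟩ := nonempty_lc_iso R (Ideal.span {x : R | x ∈ fs}) S hS (p + 1)
    exact ⟨(AddEquiv.ofBijective _ hb).symm.trans (e1.trans e6.toLinearEquiv.toAddEquiv)⟩

end Main

end Groth.Agent.Lib.T2H2.PunctC
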