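import Mathlib
import Groth.Agent.Lib.T2H2PunctC
import Groth.Agent.Lib.Helper23Serre
import Groth.Agent.Lib.Helper23QCohLocal
import Groth.Prelude.Def_Wider

/-!
# The punctured spectrum is affine when `cd(R, I) = 1` (helper2)

Namespace `Groth.Agent.Lib.T2H2.PunctD`.
-/

set_option autoImplicit false
universe u
open CategoryTheory Limits Opposite TopologicalSpace AlgebraicGeometry

namespace Groth.Agent.Lib.T2H2.PunctD

open Groth.Agent.Lib.T2H2.FlasqueKz Groth.Agent.Lib.T2H2.LowCechR Groth.Agent.Lib.T2H2.PunctA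
  Groth.Agent.Lib.T2H2.PunctB Groth.Agent.Lib.T2H2.PunctC Groth.Agent.Lib.Helper6

variable (R : Type u) [CommRing R]

/-- every quasi-coherent module on a quasi-compact open of `Spec R` is the restriction of a tilde -/
theorem exists_tilde_restrict_iso (U : (Spec (CommRingCat.of R)).Opens) [QuasiCompact U.ι]
    (G : (U : Scheme.{u}).Modules) [G.IsQuasicoherent] :
    ∃ M : ModuleCat.{u} R, Nonempty ((tilde (R := CommRingCat.of R) M).restrict U.ι ≅ G) := by
  let P := (Scheme.Modules.pushforward U.ι).obj G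
  have hP : P.IsQuasicoherent := Groth.Agent.Lib.Helper23.QCohLocal.isQuasicoherent_pushforward U.ι G
  have hiso : IsIso (Scheme.Modules.fromTildeΓ (R := CommRingCat.of R) P) :=
    (isQuasicoherent_iff_isIso_fromTildeΓ (R := CommRingCat.of R) P).mp hP
  let e1 := (Scheme.Modules.restrictFunctor U.ι).mapIso (asIso (Scheme.Modules.fromTildeΓ (R := CommRingCat.of R) P))
  let e2 := (asIso (Scheme.Modules.restrictAdjunction U.ι).counit).app G
  exact ⟨_, ⟨e1 ≪≫ e2⟩⟩


section Iso

variable {X : Scheme.{u}}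

/-- cohomology is invariant under isomorphisms of modules -/
lemma subsingleton_HH_of_iso {F G : X.Modules} (e : F ≅ G) (n : ℕ)
    (h : Subsingleton (Coh.HH X F n)) : Subsingleton (Coh.HH X G n) := by
  refine ⟨fun x y => ?_⟩
  have key : ∀ z : Coh.HH X G n, CohPull.mapH e.hom n (CohPull.mapH e.inv n z) = z := by
    intro z
    change Sheaf.H.map ((SheafOfModules.toSheaf X.ringCatSheaf).map e.hom) n
      (Sheaf.H.map ((SheafOfModules.toSheaf X.ringCatSheaf).map e.inv) n z) = z
    have hcomp : (SheafOfModules.toSheaf X.ringCatSheaf).map e.inv ≫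
        (SheafOfModules.toSheaf X.ringCatSheaf).map e.hom = 𝟙 _ := by
      rw [← Functor.map_comp]
      exact (congrArg (SheafOfModules.toSheaf X.ringCatSheaf).map e.inv_hom_id).trans
        (CategoryTheory.Functor.map_id _ _)
    rw [← Sheaf.H.map_comp_apply, hcomp, Sheaf.H.map_id_apply]
  rw [← key x, ← key y, Subsingleton.elim (CohPull.mapH e.inv n x) (CohPull.mapH e.inv n y)]

end Iso

section Affine

variable [IsNoetherianRing R]

/-- `H^1_I(M)` is the cokernel of `M → Γ(U, M~)` -/
theorem nonempty_coker_equiv_lc (fs : List R) (M : ModuleCat.{u} R) :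
    Nonempty ((SecR (FM R M) (φA R) (Ufs (φA R) fs) ⧸
        LinearMap.range (ρR (FM R M) (φA R) (ModuleCat.of R M) (eM R M) (Ufs (φA R) fs))) ≃+
      (localCohomology (Ideal.span {x : R | x ∈ fs}) 1).obj M) := by
  obtain ⟨e3⟩ := nonempty_coker_equiv (FM R M) (φA R) (ModuleCat.of R M) (eM R M) fs
  obtain ⟨e4⟩ := Groth.Agent.Lib.T2H2.KzCech.nonempty_koszulHLim_equiv_extCechH fs
    (ModuleCat.of R M) 1
  obtain ⟨e5⟩ := Groth.Agent.Lib.Helper1.ExtCech4.nonempty_iso fs (ModuleCat.of R M) 1
  exact ⟨e3.toAddEquiv.trans (e4.toAddEquiv.trans e5.toLinearEquiv.toAddEquiv)⟩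

omit [IsNoetherianRing R] in
lemma subsingleton_secR_of_eq_bot (F : (Spec (CommRingCat.of R)).Modules)
    (V : (Spec (CommRingCat.of R)).Opens) (hV : V = ⊥) : Subsingleton (SecR F (φA R) V) := by
  subst hV
  infer_instance

theorem main (I : Ideal R) (h1 : LocCoh.CdLE R I 1) (h0 : ¬ LocCoh.CdLE R I 0) :
    Nonempty (↑(LocCoh.puncturedOpen R I) : Scheme.{u}) ∧
      IsAffine (↑(LocCoh.puncturedOpen R I) : Scheme.{u}) := by
  obtain ⟨s, hs⟩ := (IsNoetherian.noetherian I : I.FG)
  have hI : I = Ideal.span {x : R | x ∈ s.toList} := by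
    rw [← hs]
    congr 1
    ext x
    simp
  subst hI
  rw [puncturedOpen_eq_Ufs R s.toList]
  set fs := s.toList with hfs
  set U := Ufs (φA R) fs with hU
  constructor
  · by_contra hne
    apply h0
    intro M _ _ i hi
    rcases Nat.lt_or_ge 1 i with h2 | h2
    · exact h1 M i h2
    · obtain rfl : i = 1 := by omega
      have hbot : U = ⊥ := by
        rw [eq_bot_iff]
        intro x hx
        exact (hne ⟨⟨x, hx⟩⟩).elim
      obtain ⟨e⟩ := nonempty_coker_equiv_lc R fs (ModuleCat.of R M)
      have := subsingleton_secR_of_eq_bot R (FM R M) U hbot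
      have h3 : Subsingleton (SecR (FM R M) (φA R) U ⧸
          LinearMap.range (ρR (FM R M) (φA R) (ModuleCat.of R M) (eM R M) U)) :=
        Submodule.Quotient.subsingleton_iff.mpr (Subsingleton.elim _ _)
      exact e.symm.toEquiv.subsingleton
  · have hc : CompactSpace (U : Scheme.{u}) :=
      isCompact_iff_compactSpace.mp (NoetherianSpace.isCompact (α := PrimeSpectrum R) U.1)
    apply Groth.Agent.Lib.Helper23.Serre.isAffine_of_hyp
    intro G i hi hG
    have hG' : G.IsQuasicoherent := hG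
    obtain ⟨M, ⟨e⟩⟩ := exists_tilde_restrict_iso R U G
    obtain ⟨e2⟩ := Groth.Agent.Lib.T2H2.PunctC.main R fs 0 M
    have h2 : Subsingleton ((localCohomology (Ideal.span {x : R | x ∈ fs}) (0 + 1 + 1)).obj M) :=
      h1 M 2 (by omega)
    have h3 : Subsingleton (Coh.HH (U : Scheme.{u}) ((tilde (R := CommRingCat.of R) M).restrict U.ι) 1) :=
      e2.toEquiv.subsingleton
    exact subsingleton_HH_of_iso e 1 h3

end Affine

end Groth.Agent.Lib.T2H2.PunctD
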