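import Mathlib
import Groth.Agent.Lib.T2H2PunctA
import Groth.Prelude.Def_Canon
import Groth.Agent.Lib.T2H2FlasqueKz

/-!
# Linearity of the connecting maps of `Coh.HHon` over global functions, and over `R` on opens of `Spec R` (helper2)

Namespace `Groth.Agent.Lib.T2H2.PunctLin`.  NOTE: a `def` of type `Coh.HHon … →ₗ[R] Coh.HHon …` made the kernel blow up
(memory); the same term inside a theorem is fine, hence the existence forms `exists_dlR`, `nonempty_dl_linearEquiv`.
-/

set_option autoImplicit false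
universe u
open CategoryTheory Opposite TopologicalSpace AlgebraicGeometry

namespace Groth.Agent.Lib.T2H2.PunctLin

open Scheme.Modules CohPull CohCmp Groth.Agent.Lib.Helper23.SectCmpLib Abelian
  Groth.Agent.Lib.T2H5.ResLE Groth.Agent.Lib.T2H2.PunctA

section General

variable {X : Scheme.{u}} (S : ShortComplex X.Modules) (hS : S.ShortExact) (U : X.Opens)

/-- the endomorphism of the restricted short complex of abelian sheaves given by a global function -/
noncomputable def smulHom (r : Coh.Γtop (U : Scheme.{u})) :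
    S.map (toAbOn X U) ⟶ S.map (toAbOn X U) where
  τ₁ := Coh.smulAb (S.X₁.restrict U.ι) r
  τ₂ := Coh.smulAb (S.X₂.restrict U.ι) r
  τ₃ := Coh.smulAb (S.X₃.restrict U.ι) r
  comm₁₂ := (Canon.toSheaf_map_comp_smulAb ((restrictFunctor U.ι).map S.f) r).symm
  comm₂₃ := (Canon.toSheaf_map_comp_smulAb ((restrictFunctor U.ι).map S.g) r).symm

/-- the connecting homomorphism commutes with multiplication by global functions -/
theorem dl_smul (p : ℕ) (r : Coh.Γtop (U : Scheme.{u})) (x : Coh.HHon X S.X₃ U p) :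
    dl S hS U p (r • x) = r • dl S hS U p x := by
  have hA := toAbOn_shortExact U S hS
  have hnat := ShortComplex.ShortExact.extClass_naturality hA hA (smulHom S U r)
  let x' : Ext.{u} (CohTop.const (U : Scheme.{u}) (ULift.{u} ℤ)) ((S.map (toAbOn X U)).X₃) p := x
  change (x'.comp (Ext.mk₀ (smulHom S U r).τ₃) (add_zero p)).comp hA.extClass rfl =
    (x'.comp hA.extClass rfl).comp (Ext.mk₀ (smulHom S U r).τ₁) (add_zero (p + 1))
  rw [Ext.comp_assoc_of_second_deg_zero, ← hnat, Ext.comp_assoc_of_third_deg_zero]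

end General

section Sect

variable {X : Scheme.{u}}

/-- a function on `U` as a global function of the open subscheme `U` -/
noncomputable def toΓtop (U : X.Opens) : Γ(X, U) →+* Coh.Γtop (U : Scheme.{u}) :=
  (X.presheaf.map (eqToHom U.ι_image_top).op).hom

theorem sectH0_smul (F : X.Modules) (U : X.Opens) (t : Γ(X, U)) (s : Γ(F, U)) :
    sectH0 F U (t • s) = toΓtop U t • sectH0 F U s := by
  change _ = Sheaf.H.map (Coh.smulAb (F.restrict U.ι) (toΓtop U t)) 0 (sectH0 F U s)
  change (Sheaf.H.equiv₀ (Coh.toAb (F.restrict U.ι))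
      (Limits.isTerminalTop : Limits.IsTerminal (⊤ : (U : Scheme.{u}).Opens))).symm _ =
    Sheaf.H.map _ 0 ((Sheaf.H.equiv₀ (Coh.toAb (F.restrict U.ι))
      (Limits.isTerminalTop : Limits.IsTerminal (⊤ : (U : Scheme.{u}).Opens))).symm _)
  rw [Sheaf.H.equiv₀_symm_naturality]
  congr 1
  rw [Coh.smulAb_app]
  have h1 : Coh.resTop (U : Scheme.{u}) (op ⊤) (toΓtop U t) = toΓtop U t := by
    change ((U : Scheme.{u}).ringCatSheaf.obj.map (𝟙 _)).hom (toΓtop U t) = _
    rw [CategoryTheory.Functor.map_id]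
    rfl
  rw [h1]
  have h2 : ∀ (r : Γ((U : Scheme.{u}), ⊤)) (m : Γ(F, U.ι ''ᵁ ⊤)),
      @HSMul.hSMul (↑((U : Scheme.{u}).ringCatSheaf.obj.obj (op ⊤))) (↑((F.restrict U.ι).val.obj (op ⊤)))
        (↑((F.restrict U.ι).val.obj (op ⊤))) _ r m =
      (((U.ι.appIso ⊤).inv r : Γ(X, U.ι ''ᵁ ⊤)) • m : Γ(F, U.ι ''ᵁ ⊤)) := fun _ _ => rfl
  have h3 : ∀ r : Γ((U : Scheme.{u}), ⊤), ((U.ι.appIso ⊤).inv r : Γ(X, U.ι ''ᵁ ⊤)) = r := by
    intro r
    rw [Scheme.Opens.ι_appIso]
    rfl
  refine Eq.trans ?_ (h2 _ _).symm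
  rw [h3]
  exact Scheme.Modules.map_smul F (eqToHom U.ι_image_top) t s

end Sect


section SpecR

open Groth.Agent.Lib.T2H2.FlasqueKz Groth.Agent.Lib.T2H2.LowCechR Groth.Agent.Lib.Helper6

variable (R : Type u) [CommRing R]

lemma toΓtop_resf (U : (Spec (CommRingCat.of R)).Opens) (g : Γ(Spec (CommRingCat.of R), ⊤)) :
    toΓtop U (resf (le_top : U ≤ ⊤) g) = U.ι.appTop.hom g := by
  change ((Spec (CommRingCat.of R)).presheaf.map _ ≫ (Spec (CommRingCat.of R)).presheaf.map _).hom g = _
  rw [← Functor.map_comp]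
  rfl

/-- the `R`-module structure on cohomology of an open of `Spec R`, spelled out -/
lemma smul_HH_def (U : (Spec (CommRingCat.of R)).Opens) (G : (U : Scheme.{u}).Modules) (p : ℕ)
    (a : R) (x : Coh.HH (U : Scheme.{u}) G p) :
    a • x = (U.ι.appTop.hom (φA R a) : Coh.Γtop (U : Scheme.{u})) • x := rfl

variable {R}
variable (S : ShortComplex (Spec (CommRingCat.of R)).Modules) (hS : S.ShortExact)
  (U : (Spec (CommRingCat.of R)).Opens)

/-- `Γ(U, S.X₂) → Γ(U, S.X₃)` as an `R`-linear map -/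
noncomputable def secMapR : SecR S.X₂ (φA R) U →ₗ[R] SecR S.X₃ (φA R) U where
  toFun s := ofSec (S.g.app U (toSec s))
  map_add' s t := by
    apply toSec_injective
    simp [map_add]
  map_smul' a s := by
    apply toSec_injective
    rw [toSec_ofSec, toSec_smul, Scheme.Modules.Hom.app_smul]
    rfl

/-- sections to `H^1` of the kernel, as an `R`-linear map -/
noncomputable def psiR : SecR S.X₃ (φA R) U →ₗ[R] Coh.HHon (Spec (CommRingCat.of R)) S.X₁ U 1 where
  toFun s := dl S hS U 0 (sectH0 S.X₃ U (toSec s))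
  map_add' s t := by
    rw [toSec_add, map_add, map_add]
  map_smul' a s := by
    rw [toSec_smul, sectH0_smul, dl_smul, toΓtop_resf]
    rfl

lemma dl_smulR (p : ℕ) (a : R) (x : Coh.HHon (Spec (CommRingCat.of R)) S.X₃ U p) :
    dl S hS U p (a • x) = a • dl S hS U p x := by
  have h1 := smul_HH_def R U _ p a x
  have h2 := smul_HH_def R U _ (p + 1) a (dl S hS U p x)
  have h3 := dl_smul S hS U p (U.ι.appTop.hom (φA R a) : Coh.Γtop (U : Scheme.{u})) x
  exact (congrArg (dl S hS U p) h1).trans (h3.trans h2.symm)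

lemma isLinearMap_dl (p : ℕ) : IsLinearMap R (dl S hS U p) :=
  ⟨map_add _, fun a x => dl_smulR S hS U p a x⟩

/-- the connecting homomorphism as an `R`-linear map (existence form: a `def` of this type makes the kernel
blow up) -/
theorem exists_dlR (p : ℕ) : ∃ L : Coh.HHon (Spec (CommRingCat.of R)) S.X₃ U p →ₗ[R]
    Coh.HHon (Spec (CommRingCat.of R)) S.X₁ U (p + 1), ∀ x, L x = dl S hS U p x :=
  ⟨IsLinearMap.mk' _ (isLinearMap_dl S hS U p), fun _ => rfl⟩

include hS in
/-- `δ` as a linear equivalence when the middle term is acyclic in degrees `p`, `p+1` -/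
theorem nonempty_dl_linearEquiv (p : ℕ)
    (h0 : Subsingleton (Coh.HHon (Spec (CommRingCat.of R)) S.X₂ U p))
    (h1 : Subsingleton (Coh.HHon (Spec (CommRingCat.of R)) S.X₂ U (p + 1))) :
    Nonempty (Coh.HHon (Spec (CommRingCat.of R)) S.X₃ U p ≃ₗ[R]
      Coh.HHon (Spec (CommRingCat.of R)) S.X₁ U (p + 1)) := by
  obtain ⟨L, hL⟩ := exists_dlR S hS U p
  have hb : Function.Bijective L := by
    have : (L : _ → _) = dl S hS U p := funext hL
    rw [this]
    exact dl_bijective S hS U p h0 h1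
  exact ⟨LinearEquiv.ofBijective L hb⟩

include hS in
/-- `Γ(U, S.X₃) / im Γ(U, S.X₂) ≃ H^1(U, S.X₁)`, linearly, when `H^1(U, S.X₂) = 0` -/
theorem nonempty_H1_linearEquiv
    (h1 : Subsingleton (Coh.HHon (Spec (CommRingCat.of R)) S.X₂ U 1)) :
    Nonempty ((SecR S.X₃ (φA R) U ⧸ LinearMap.range (secMapR S U)) ≃ₗ[R]
      Coh.HHon (Spec (CommRingCat.of R)) S.X₁ U 1) := by
  have hsurj : Function.Surjective (psiR S hS U) := by
    intro x
    obtain ⟨x', hx'⟩ := exists_dl_eq_of_subsingleton S hS U 0 h1 x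
    obtain ⟨s, rfl⟩ := (sectH0 S.X₃ U).surjective x'
    exact ⟨ofSec s, hx'⟩
  have hker : LinearMap.ker (psiR S hS U) = LinearMap.range (secMapR S U) := by
    ext t
    rw [LinearMap.mem_ker, LinearMap.mem_range]
    constructor
    · intro ht
      obtain ⟨y, hy⟩ := exists_mapH_eq_of_dl_eq_zero S hS U 0 (sectH0 S.X₃ U (toSec t)) ht
      obtain ⟨s, rfl⟩ := (sectH0 S.X₂ U).surjective y
      refine ⟨ofSec s, ?_⟩
      apply toSec_injective
      apply (sectH0 S.X₃ U).injective
      rw [← hy]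
      exact sectH0_naturality S.g U s
    · rintro ⟨s, rfl⟩
      change dl S hS U 0 (sectH0 S.X₃ U (S.g.app U (toSec s))) = 0
      rw [sectH0_naturality S.g U (toSec s)]
      exact dl_mapH S hS U 0 _
  exact ⟨(Submodule.quotEquivOfEq _ _ hker.symm).trans
    ((psiR S hS U).quotKerEquivOfSurjective hsurj)⟩

end SpecR

end Groth.Agent.Lib.T2H2.PunctLin
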