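import Mathlib
import Groth.Agent.Lib.T2H2PunctLin
import Groth.Agent.Lib.T2H2PunctC

/-!
# `H^p(U, M~) ≃ₗ[R] H^{p+1}_I(M)` for `p ≥ 1`, `R` Noetherian (linear version) (helper2)

Namespace `Groth.Agent.Lib.T2H2.PunctLin2`.
-/

set_option autoImplicit false
universe u
open CategoryTheory Limits Opposite TopologicalSpace AlgebraicGeometry

namespace Groth.Agent.Lib.T2H2.PunctLin2

open Groth.Agent.Lib.T2H2.FlasqueKz Groth.Agent.Lib.T2H2.LowCechR Groth.Agent.Lib.T2H2.PunctA
  Groth.Agent.Lib.T2H2.PunctB Groth.Agent.Lib.T2H2.PunctC Groth.Agent.Lib.T2H2.PunctLin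
  Groth.Agent.Lib.Helper6

variable (R : Type u) [CommRing R]

/-- the two submodules of `Γ(U, Q~)` agree -/
theorem range_secMapR_eq (S : ShortComplex (ModuleCat.{u} R))
    (hfl : TopCat.Sheaf.IsFlasque (Coh.toAb (tildeSC R S).X₂))
    (hg : Function.Surjective S.g.hom) (U : (Spec (CommRingCat.of R)).Opens) :
    LinearMap.range (secMapR (tildeSC R S) U) =
      LinearMap.range (ρR (FM R S.X₃) (φA R) (ModuleCat.of R S.X₃) (eM R S.X₃) U) := by
  have hiff := mem_secRange_iff (tildeSC R S) hfl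
    (surjective_tilde_map_app_top R S.g hg) U
  ext n
  simp only [LinearMap.mem_range]
  constructor
  · rintro ⟨s, rfl⟩
    obtain ⟨q, hq⟩ := (hiff ((tildeSC R S).g.app U (toSec s))).mp ⟨toSec s, rfl⟩
    refine ⟨(eM R S.X₃).symm (ofSec q), ?_⟩
    change resR (FM R S.X₃) (φA R) le_top ((eM R S.X₃) ((eM R S.X₃).symm (ofSec q))) = _
    rw [LinearEquiv.apply_symm_apply]
    exact congrArg ofSec hq
  · rintro ⟨m, rfl⟩
    obtain ⟨s, hs⟩ := (hiff (toSec (ρR (FM R S.X₃) (φA R) (ModuleCat.of R S.X₃) (eM R S.X₃) U m))).mpr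
      ⟨toSec (eM R S.X₃ m), rfl⟩
    exact ⟨ofSec s, congrArg ofSec hs⟩

section Main

variable [IsNoetherianRing R]

theorem main_lin (fs : List R) (p : ℕ) : ∀ (M : ModuleCat.{u} R),
    Nonempty (Coh.HHon (Spec (CommRingCat.of R)) (tilde (R := CommRingCat.of R) M)
        (Ufs (φA R) fs) (p + 1) ≃ₗ[R]
      (localCohomology (Ideal.span {x : R | x ∈ fs}) (p + 1 + 1)).obj M) := by
  induction p with
  | zero =>
    intro M
    let S := sesInj R M
    have hS : S.ShortExact := sesInj_shortExact R M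
    have hJ : Injective (ModuleCat.of R ↑(Injective.under M)) :=
      (inferInstance : Injective (Injective.under M))
    have hinj : Module.Injective R S.X₂ :=
      Module.injective_module_of_injective_object R ↑(Injective.under M)
    have hfl : TopCat.Sheaf.IsFlasque (Coh.toAb (tildeSC R S).X₂) :=
      isFlasque_tilde_of_injective R S.X₂
    have hT := tildeSC_shortExact R S hS
    have h1 := subsingleton_HHon_of_isFlasque (tildeSC R S).X₂ hfl (Ufs (φA R) fs) 0
    obtain ⟨e1⟩ := nonempty_H1_linearEquiv (tildeSC R S) hT (Ufs (φA R) fs) h1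
    have hg : Function.Surjective S.g.hom := (ModuleCat.epi_iff_surjective S.g).mp hS.epi_g
    have e2 := Submodule.quotEquivOfEq _ _ (range_secMapR_eq R S hfl hg (Ufs (φA R) fs))
    obtain ⟨e3⟩ := nonempty_coker_equiv (FM R S.X₃) (φA R) (ModuleCat.of R S.X₃) (eM R S.X₃) fs
    obtain ⟨e4⟩ := Groth.Agent.Lib.T2H2.KzCech.nonempty_koszulHLim_equiv_extCechH fs
      (ModuleCat.of R S.X₃) 1
    obtain ⟨e5⟩ := Groth.Agent.Lib.Helper1.ExtCech4.nonempty_iso fs (ModuleCat.of R S.X₃) 1
    obtain ⟨e6⟩ := nonempty_lc_iso R (Ideal.span {x : R | x ∈ fs}) S hS 0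
    exact ⟨e1.symm.trans (e2.trans (e3.trans (e4.trans
      (e5.toLinearEquiv.trans e6.toLinearEquiv))))⟩
  | succ p ih =>
    intro M
    let S := sesInj R M
    have hS : S.ShortExact := sesInj_shortExact R M
    have hJ : Injective (ModuleCat.of R ↑(Injective.under M)) :=
      (inferInstance : Injective (Injective.under M))
    have hinj : Module.Injective R S.X₂ :=
      Module.injective_module_of_injective_object R ↑(Injective.under M)
    have hfl : TopCat.Sheaf.IsFlasque (Coh.toAb (tildeSC R S).X₂) :=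
      isFlasque_tilde_of_injective R S.X₂
    have hT := tildeSC_shortExact R S hS
    have h0 := subsingleton_HHon_of_isFlasque (tildeSC R S).X₂ hfl (Ufs (φA R) fs) p
    have h1 := subsingleton_HHon_of_isFlasque (tildeSC R S).X₂ hfl (Ufs (φA R) fs) (p + 1)
    obtain ⟨e0⟩ := nonempty_dl_linearEquiv (tildeSC R S) hT (Ufs (φA R) fs) (p + 1) h0 h1
    obtain ⟨e1⟩ := ih S.X₃
    obtain ⟨e6⟩ := nonempty_lc_iso R (Ideal.span {x : R | x ∈ fs}) S hS (p + 1)
    exact ⟨e0.symm.trans (e1.trans e6.toLinearEquiv)⟩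

end Main

end Groth.Agent.Lib.T2H2.PunctLin2
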