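import Mathlib
import Groth.Agent.Lib.T2H2PunctLin2
import Groth.Agent.Lib.T2H2PunctD
import Groth.Agent.Lib.Helper23Extend
import Groth.Agent.S0817

/-!
# Cohomology of coherent modules on the punctured spectrum of a Noetherian local ring is Artinian; Mittag-Leffler (helper2)

Namespace `Groth.Agent.Lib.T2H2.PunctE`.
-/

set_option autoImplicit false
universe u
open CategoryTheory Limits Opposite TopologicalSpace AlgebraicGeometry

namespace Groth.Agent.Lib.T2H2.PunctE

open Groth.Agent.Lib.T2H2.FlasqueKz Groth.Agent.Lib.T2H2.LowCechR Groth.Agent.Lib.T2H2.PunctA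
  Groth.Agent.Lib.T2H2.PunctB Groth.Agent.Lib.T2H2.PunctC Groth.Agent.Lib.T2H2.PunctLin
  Groth.Agent.Lib.T2H2.PunctLin2 Groth.Agent.Lib.Helper6

variable (R : Type u) [CommRing R]

/-- every coherent module on a quasi-compact open of `Spec R` is the restriction of the tilde of a finite module -/
theorem exists_finite_tilde_restrict_iso (U : (Spec (CommRingCat.of R)).Opens)
    (hU : IsCompact (U : Set (Spec (CommRingCat.of R)))) [QuasiCompact U.ι]
    (G : (U : Scheme.{u}).Modules) [G.IsQuasicoherent]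
    [SheafOfModules.IsFiniteType (R := (U : Scheme.{u}).ringCatSheaf) G] :
    ∃ (N : ModuleCat.{u} R) (_ : Module.Finite R N),
      Nonempty ((tilde (R := CommRingCat.of R) N).restrict U.ι ≅ G) := by
  let P := (Scheme.Modules.pushforward U.ι).obj G
  have hP : P.IsQuasicoherent := Groth.Agent.Lib.Helper23.QCohLocal.isQuasicoherent_pushforward U.ι G
  let e2 : P.restrict U.ι ≅ G := (asIso (Scheme.Modules.restrictAdjunction U.ι).counit).app G
  have hft : SheafOfModules.IsFiniteType (R := (U : Scheme.{u}).ringCatSheaf) (P.restrict U.ι) :=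
    Groth.Agent.Lib.Helper23.FinType.isFiniteType_of_iso e2.symm
  obtain ⟨N, hN, c, hc, hiso⟩ :=
    Groth.Agent.Lib.Helper23.Extend.exists_finite_mono_isIso_restrict (CommRingCat.of R) P U hU
  exact ⟨N, hN, ⟨@asIso _ _ _ _ ((Scheme.Modules.restrictFunctor U.ι).map
    (Groth.Agent.Lib.Helper23.Extend.adjTilde (CommRingCat.of R) P c)) hiso ≪≫ e2⟩⟩


section Artinian

variable [IsNoetherianRing R] [IsLocalRing R]

theorem isArtinian_HH_Ufs (fs : List R)
    (hfs : Ideal.span {x : R | x ∈ fs} = IsLocalRing.maximalIdeal R)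
    (F : ((Ufs (φA R) fs : (Spec (CommRingCat.of R)).Opens) : Scheme.{u}).Modules)
    (hF : Coh.IsCoh F) (q : ℕ) :
    IsArtinian R (Coh.HH ((Ufs (φA R) fs : (Spec (CommRingCat.of R)).Opens) : Scheme.{u}) F (q + 1)) := by
  have hF1 : F.IsQuasicoherent := hF.1
  have hF2 : SheafOfModules.IsFiniteType
      (R := ((Ufs (φA R) fs : (Spec (CommRingCat.of R)).Opens) : Scheme.{u}).ringCatSheaf) F := hF.2
  have hU : IsCompact ((Ufs (φA R) fs : (Spec (CommRingCat.of R)).Opens) :
      Set (Spec (CommRingCat.of R))) :=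
    NoetherianSpace.isCompact (α := PrimeSpectrum R) _
  obtain ⟨N, hN, ⟨e⟩⟩ := exists_finite_tilde_restrict_iso R (Ufs (φA R) fs) hU F
  obtain ⟨L⟩ := main_lin R fs q N
  have hArt : IsArtinian R
      ((localCohomology (Ideal.span {x : R | x ∈ fs}) (q + 1 + 1)).obj N) := by
    rw [hfs]
    exact Groth.Agent.S0817.result R N (q + 1 + 1)
  have hinj : Function.Injective (Canon.HHlin R e.inv (q + 1)) := by
    intro x y hxy
    have key : ∀ z, Canon.HHlin R e.hom (q + 1) (Canon.HHlin R e.inv (q + 1) z) = z := by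
      intro z
      change CohPull.mapH e.hom (q + 1) (CohPull.mapH e.inv (q + 1) z) = z
      have hcomp : (SheafOfModules.toSheaf _).map e.inv ≫ (SheafOfModules.toSheaf _).map e.hom =
          𝟙 _ := by
        rw [← Functor.map_comp]
        exact (congrArg (SheafOfModules.toSheaf _).map e.inv_hom_id).trans
          (CategoryTheory.Functor.map_id _ _)
      change Sheaf.H.map _ (q + 1) (Sheaf.H.map _ (q + 1) z) = z
      rw [← Sheaf.H.map_comp_apply, hcomp, Sheaf.H.map_id_apply]
    rw [← key x, ← key y, hxy]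
  exact isArtinian_of_injective (L.toLinearMap ∘ₗ Canon.HHlin R e.inv (q + 1))
    (L.injective.comp hinj)

end Artinian


section Final

variable [IsNoetherianRing R] [IsLocalRing R]

theorem exists_list_span_eq_maximalIdeal :
    ∃ fs : List R, Ideal.span {x : R | x ∈ fs} = IsLocalRing.maximalIdeal R ∧
      LocCoh.puncturedOpen R (IsLocalRing.maximalIdeal R) = Ufs (φA R) fs := by
  obtain ⟨s, hs⟩ := (IsNoetherian.noetherian (IsLocalRing.maximalIdeal R) :
    (IsLocalRing.maximalIdeal R).FG)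
  have hfs : Ideal.span {x : R | x ∈ s.toList} = IsLocalRing.maximalIdeal R := by
    rw [← hs]
    congr 1
    ext x
    simp
  refine ⟨s.toList, hfs, ?_⟩
  rw [← hfs]
  exact puncturedOpen_eq_Ufs R s.toList

/-- S8832: cohomology of a coherent module on the punctured spectrum is Artinian in positive degrees -/
theorem isArtinian_HH
    (F : (↑(LocCoh.puncturedOpen R (IsLocalRing.maximalIdeal R)) : Scheme.{u}).Modules)
    (hF : Coh.IsCoh F) (i : ℕ) (hi : 0 < i) :
    IsArtinian R (Coh.HH (↑(LocCoh.puncturedOpen R (IsLocalRing.maximalIdeal R)) : Scheme.{u}) F i) := by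
  obtain ⟨fs, hfs, hU⟩ := exists_list_span_eq_maximalIdeal R
  have gen : ∀ (V : (Spec (CommRingCat.of R)).Opens) (_ : V = Ufs (φA R) fs)
      (F : (V : Scheme.{u}).Modules), Coh.IsCoh F → IsArtinian R (Coh.HH (V : Scheme.{u}) F i) := by
    intro V hV
    subst hV
    intro F hF
    obtain ⟨q, rfl⟩ : ∃ q, i = q + 1 := ⟨i - 1, by omega⟩
    exact isArtinian_HH_Ufs R fs hfs F hF q
  exact gen _ hU F hF

end Final

section ML

variable {A : Type u} [CommRing A] {X : Scheme.{u}} [X.Over (Spec (CommRingCat.of A))]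

/-- abstract Mittag-Leffler from Artinian-ness -/
theorem exists_range_eq_of_isArtinian (G : ℕᵒᵖ ⥤ X.Modules) (i n : ℕ)
    [IsArtinian A (Coh.HH X (G.obj (op n)) i)] :
    ∃ (r : ℕ) (hnr : n ≤ r), ∀ (s : ℕ) (hrs : r ≤ s),
      Set.range (Sheaf.H.map ((SheafOfModules.toSheaf _).map
        (G.map (homOfLE (hnr.trans hrs : n ≤ s)).op)) i) =
      Set.range (Sheaf.H.map ((SheafOfModules.toSheaf _).map
        (G.map (homOfLE (hnr : n ≤ r)).op)) i) := by
  let J : ∀ s : ℕ, n ≤ s → Submodule A (Coh.HH X (G.obj (op n)) i) := fun s hs =>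
    LinearMap.range (Canon.HHlin A (G.map (homOfLE hs).op) i)
  have hJ : ∀ (s s' : ℕ) (hs : n ≤ s) (hss' : s ≤ s'), J s' (hs.trans hss') ≤ J s hs := by
    intro s s' hs hss'
    rintro _ ⟨x, rfl⟩
    refine ⟨Canon.HHlin A (G.map (homOfLE hss').op) i x, ?_⟩
    have hcomp : G.map (homOfLE hss').op ≫ G.map (homOfLE hs).op =
        G.map (homOfLE (hs.trans hss')).op := by
      rw [← G.map_comp]
      rfl
    have e1 : (SheafOfModules.toSheaf X.ringCatSheaf).map (G.map (homOfLE hss').op) ≫
        (SheafOfModules.toSheaf X.ringCatSheaf).map (G.map (homOfLE hs).op) =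
        (SheafOfModules.toSheaf X.ringCatSheaf).map (G.map (homOfLE (hs.trans hss')).op) := by
      exact (CategoryTheory.Functor.map_comp _ _ _).symm.trans
        (congrArg (SheafOfModules.toSheaf X.ringCatSheaf).map hcomp)
    change Sheaf.H.map ((SheafOfModules.toSheaf X.ringCatSheaf).map (G.map (homOfLE hs).op)) i
      (Sheaf.H.map ((SheafOfModules.toSheaf X.ringCatSheaf).map (G.map (homOfLE hss').op)) i x) =
      Sheaf.H.map ((SheafOfModules.toSheaf X.ringCatSheaf).map
        (G.map (homOfLE (hs.trans hss')).op)) i x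
    rw [← Sheaf.H.map_comp_apply, e1]
  have hc : ∀ (t : ℕ) (ht : n ≤ t), ((J t ht : Submodule A (Coh.HH X (G.obj (op n)) i)) :
      Set (Coh.HH X (G.obj (op n)) i)) =
      Set.range (Sheaf.H.map ((SheafOfModules.toSheaf X.ringCatSheaf).map
        (G.map (homOfLE ht).op)) i) := fun t ht => LinearMap.coe_range _
  obtain ⟨N, ⟨r, hr, rfl⟩, hmin⟩ := IsArtinian.set_has_minimal
    {N : Submodule A (Coh.HH X (G.obj (op n)) i) | ∃ (s : ℕ) (hs : n ≤ s), N = J s hs}
    ⟨J n le_rfl, n, le_rfl, rfl⟩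
  refine ⟨r, hr, fun s hrs => ?_⟩
  have hle : J s (hr.trans hrs) ≤ J r hr := hJ r s hr hrs
  have heq : J s (hr.trans hrs) = J r hr := by
    by_contra hne
    exact hmin (J s (hr.trans hrs)) ⟨s, hr.trans hrs, rfl⟩ (lt_of_le_of_ne hle hne)
  rw [← hc, ← hc, heq]

end ML

end Groth.Agent.Lib.T2H2.PunctE
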