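import Mathlib
import Groth.Prelude.Def_Algz
import Groth.Agent.Lib.T2H2AlgzB
import Groth.Agent.Lib.Helper23FinTypeLocal
import Groth.Agent.Lib.Helper23FinType2
import Groth.Agent.Lib.T2H2PunctE

/-!
# Restriction of coherent formal modules to opens; canonical extension implies extension (helper2)

Namespace `Groth.Agent.Lib.T2H2.AlgzC`.
-/

set_option autoImplicit false
universe u
open CategoryTheory Limits Opposite TopologicalSpace AlgebraicGeometry

namespace Groth.Agent.Lib.T2H2.AlgzC

open Groth.Agent.S9530 Groth.Agent.Lib.T2H2.AlgzA Groth.Agent.Lib.T2H2.AlgzB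

section Restrict

variable {A : Type u} [CommRing A] {X Y : Scheme.{u}} [X.Over (Spec (CommRingCat.of A))]
  [Y.Over (Spec (CommRingCat.of A))] (f : Y ⟶ X) [IsOpenImmersion f]
  (hf : f ≫ (X ↘ Spec (CommRingCat.of A)) = Y ↘ Spec (CommRingCat.of A))

include hf in
theorem restrict_map_smulMod (M : X.Modules) (a : A) :
    (Scheme.Modules.restrictFunctor f).map (Formal.smulMod A M a) =
      Formal.smulMod A ((Scheme.Modules.restrictFunctor f).obj M) a := by
  let ν := Scheme.Modules.restrictFunctorIsoPullback f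
  have h1 : (Scheme.Modules.restrictFunctor f).map (Formal.smulMod A M a) =
      ν.hom.app M ≫ (Scheme.Modules.pullback f).map (Formal.smulMod A M a) ≫ ν.inv.app M := by
    rw [← Category.assoc, ← ν.hom.naturality, Category.assoc, Iso.hom_inv_id_app, Category.comp_id]
  rw [h1, Groth.Agent.Lib.Helper20.FormalPull.pullback_map_smulMod f hf, smulMod_comp,
    Iso.hom_inv_id_app_assoc]

instance : (Scheme.Modules.restrictFunctor f).Additive :=
  (Scheme.Modules.restrictAdjunction f).left_adjoint_additive

include hf in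
theorem isCohFormal_restrict {I : Ideal A} {G : ℕᵒᵖ ⥤ X.Modules} (hG : Formal.IsCohFormal I G) :
    Formal.IsCohFormal I (G ⋙ Scheme.Modules.restrictFunctor f) := by
  refine isCohFormal_comp (Scheme.Modules.restrictFunctor f) (restrict_map_smulMod f hf) ?_ hG
  intro M hM
  have : M.IsQuasicoherent := hM.1
  have : SheafOfModules.IsFiniteType (R := X.ringCatSheaf) M := hM.2
  exact ⟨Scheme.Modules.isQuasicoherent_restrictFunctor f M,
    Groth.Agent.Lib.Helper23.FinType.isFiniteType_restrict f M⟩

include hf in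
theorem nonempty_completion_restrict_iso (I : Ideal A) (N : X.Modules) :
    Nonempty (Formal.completion I N ⋙ Scheme.Modules.restrictFunctor f ≅
      Formal.completion I ((Scheme.Modules.restrictFunctor f).obj N)) :=
  nonempty_completion_comp_iso (Scheme.Modules.restrictFunctor f) (restrict_map_smulMod f hf) I N

end Restrict


section Spec

variable (A : Type u) [CommRing A]

/-- the structure of `Spec A` over itself used in the statements -/
noncomputable abbrev iS : (Spec (CommRingCat.of A)).Over (Spec (CommRingCat.of A)) := ⟨𝟙 _⟩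

theorem hf_ι (U : (Spec (CommRingCat.of A)).Opens) :
    U.ι ≫ (@OverClass.hom _ _ (Spec (CommRingCat.of A)) (Spec (CommRingCat.of A)) (iS A)) =
      ((U : Scheme.{u}) ↘ Spec (CommRingCat.of A)) := Category.comp_id _

variable {A}

/-- the completion of a coherent module on a quasi-compact open of `Spec A` extends -/
theorem extends_of_completion_iso (I : Ideal A) (U : (Spec (CommRingCat.of A)).Opens)
    (hUc : IsCompact (U : Set (Spec (CommRingCat.of A))))
    (G : ℕᵒᵖ ⥤ (U : Scheme.{u}).Modules) (F : (U : Scheme.{u}).Modules) (hF : Coh.IsCoh F)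
    (e : Formal.completion I F ≅ G) :
    @Algz.Extends A _ (Spec (CommRingCat.of A)) (iS A) I U G := by
  have : CompactSpace (U : Scheme.{u}) := isCompact_iff_compactSpace.mp hUc
  have : QuasiCompact U.ι := inferInstance
  have : F.IsQuasicoherent := hF.1
  have : SheafOfModules.IsFiniteType (R := (U : Scheme.{u}).ringCatSheaf) F := hF.2
  obtain ⟨N, hN, ⟨e1⟩⟩ := Groth.Agent.Lib.T2H2.PunctE.exists_finite_tilde_restrict_iso A U hUc F
  have hcoh : Coh.IsCoh (tilde (R := CommRingCat.of A) N) :=
    ⟨inferInstance, (Groth.Agent.Lib.Helper23.FinType.isFiniteType_tilde_iff (CommRingCat.of A) N).2 hN⟩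
  refine ⟨@Formal.completion A _ (Spec (CommRingCat.of A)) (iS A) I (tilde (R := CommRingCat.of A) N),
    @isCohFormal_completion A _ (Spec (CommRingCat.of A)) (iS A) I _ hcoh, ?_⟩
  obtain ⟨e2⟩ := @nonempty_completion_restrict_iso A _ (Spec (CommRingCat.of A)) (U : Scheme.{u}) (iS A)
    _ U.ι _ (hf_ι A U) I (tilde (R := CommRingCat.of A) N)
  obtain ⟨e3⟩ := nonempty_completion_iso_of_iso I e1
  exact ⟨e2 ≪≫ e3 ≪≫ e⟩

end Spec


section Canon

variable (A : Type u) [CommRing A]

/-- the system of tildes of sections restricts to the original system -/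
theorem nonempty_restrict_sectSys_iso (U : (Spec (CommRingCat.of A)).Opens) [QuasiCompact U.ι]
    (G : ℕᵒᵖ ⥤ (U : Scheme.{u}).Modules) (hG : ∀ n, (G.obj n).IsQuasicoherent) :
    Nonempty (Algz.restrictSys U (Algz.sectSys A U G) ≅ G) := by
  have hiso : ∀ n, IsIso (Scheme.Modules.fromTildeΓ (R := CommRingCat.of A)
      ((Scheme.Modules.pushforward U.ι).obj (G.obj n))) := fun n => by
    have := hG n
    have hP := Groth.Agent.Lib.Helper23.QCohLocal.isQuasicoherent_pushforward U.ι (G.obj n)
    exact (isQuasicoherent_iff_isIso_fromTildeΓ (R := CommRingCat.of A) _).mp hP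
  refine ⟨NatIso.ofComponents (fun n =>
    (Scheme.Modules.restrictFunctor U.ι).mapIso (@asIso _ _ _ _ (Scheme.Modules.fromTildeΓ (R := CommRingCat.of A)
      ((Scheme.Modules.pushforward U.ι).obj (G.obj n))) (hiso n)) ≪≫
      (Scheme.Modules.restrictFunctorAdjCounitIso U.ι).app (G.obj n)) ?_⟩
  intro n k f
  have h1 := (Scheme.Modules.fromTildeΓNatTrans (R := CommRingCat.of A)).naturality
    ((Scheme.Modules.pushforward U.ι).map (G.map f))
  have h2 := (Scheme.Modules.restrictFunctorAdjCounitIso U.ι).hom.naturality (G.map f)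
  have h1' := congrArg (fun t => (Scheme.Modules.restrictFunctor U.ι).map t) h1
  simp only [Functor.map_comp] at h1'
  dsimp only [Iso.trans_hom, Functor.mapIso_hom, asIso_hom, Iso.app_hom]
  exact (Category.assoc _ _ _).symm.trans ((congrArg
    (fun t => t ≫ (Scheme.Modules.restrictFunctorAdjCounitIso U.ι).hom.app (G.obj k)) h1').trans
    ((Category.assoc _ _ _).trans ((congrArg (fun t => (Scheme.Modules.restrictFunctor U.ι).map
      (Scheme.Modules.fromTildeΓ (R := CommRingCat.of A)
      ((Scheme.Modules.pushforward U.ι).obj (G.obj n))) ≫ t) h2))))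

/-- canonical extension implies extension -/
theorem extends_of_canonicallyExtends [IsNoetherianRing A] (I : Ideal A)
    (U : (Spec (CommRingCat.of A)).Opens)
    (G : ℕᵒᵖ ⥤ (U : Scheme.{u}).Modules) (hG : Formal.IsCohFormal I G)
    (h : Algz.CanonicallyExtends A I U G) :
    @Algz.Extends A _ (Spec (CommRingCat.of A)) (iS A) I U G := by
  have : CompactSpace (U : Scheme.{u}) := isCompact_iff_compactSpace.mp
    (TopologicalSpace.NoetherianSpace.isCompact (U : Set (Spec (CommRingCat.of A))))
  have : IsNoetherian (U : Scheme.{u}) := {}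
  obtain ⟨G', hG', hpro⟩ := h
  obtain ⟨e⟩ := nonempty_restrict_sectSys_iso A U G (fun n => (hG.1 n.unop).1)
  have h1 : Algz.IsProIsomorphic G (Algz.restrictSys U G') :=
    isProIsomorphic_of_iso e.symm (Iso.refl _)
      (isProIsomorphic_whiskerRight hpro (Scheme.Modules.restrictFunctor U.ι))
  have h2 : Formal.IsCohFormal I (Algz.restrictSys U G') :=
    @isCohFormal_restrict A _ (Spec (CommRingCat.of A)) (U : Scheme.{u}) (iS A) _ U.ι _ (hf_ι A U) I G' hG'
  obtain ⟨e'⟩ := nonempty_iso_of_isProIsomorphic I G _ hG h2 h1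
  exact ⟨G', hG', ⟨e'.symm⟩⟩

end Canon

end Groth.Agent.Lib.T2H2.AlgzC
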