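import Mathlib
import Groth.Prelude.Def_Algz
import Groth.Agent.Lib.T2H2AlgzC
import Groth.Agent.Lib.Helper14InvLim

/-!
# Coherent formal modules on `Spec R` and systems of `R`-modules (helper2)

Namespace `Groth.Agent.Lib.T2H2.AlgzD`.
-/

set_option autoImplicit false
universe u
open CategoryTheory Limits Opposite TopologicalSpace AlgebraicGeometry

namespace Groth.Agent.Lib.T2H2.AlgzD

open Groth.Agent.S9530 Groth.Agent.Lib.T2H2.AlgzA Groth.Agent.Lib.T2H2.AlgzB
  Groth.Agent.Lib.T2H2.AlgzC

variable (R : CommRingCat.{u})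

/-- `Spec R` over itself -/
noncomputable abbrev iR : (Spec (CommRingCat.of R)).Over (Spec (CommRingCat.of R)) := ⟨𝟙 _⟩

/-- global sections as an `R`-module -/
noncomputable abbrev Γf : (Spec (CommRingCat.of R)).Modules ⥤ ModuleCat.{u} R := moduleSpecΓFunctor (R := R)

/-- the tilde functor -/
noncomputable abbrev Tf : ModuleCat.{u} R ⥤ (Spec (CommRingCat.of R)).Modules := tilde.functor R

/-- the adjunction -/
noncomputable abbrev adj : Tf R ⊣ Γf R := tilde.adjunction (R := R)

/-- multiplication on `Spec R` regarded over itself -/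
noncomputable abbrev sm (P : (Spec (CommRingCat.of R)).Modules) (a : R) : P ⟶ P :=
  @Formal.smulMod R _ (Spec (CommRingCat.of R)) (iR R) P a

variable {R}

attribute [local instance 2000] iR

theorem Γ_map_sm (P : (Spec (CommRingCat.of R)).Modules) (a : R) (x : (Γf R).obj P) :
    ((Γf R).map (sm R P a)).hom x = a • x := rfl

instance : (Γf R).Additive := (adj R).right_adjoint_additive

/-- a map out of a tilde kills `a` iff its adjoint kills `a • -` -/
theorem sm_comp_eq_zero_iff (M : ModuleCat.{u} R) (T : (Spec (CommRingCat.of R)).Modules)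
    (g : (Tf R).obj M ⟶ T) (a : R) :
    sm R _ a ≫ g = 0 ↔ ∀ x : M, ((adj R).homEquiv M T g).hom (a • x) = 0 := by
  have key : ∀ x : M, ((adj R).homEquiv M T (sm R _ a ≫ g)).hom x =
      ((adj R).homEquiv M T g).hom (a • x) := by
    intro x
    rw [Adjunction.homEquiv_unit, Adjunction.homEquiv_unit, Functor.map_comp]
    change ((Γf R).map g).hom (((Γf R).map (sm R _ a)).hom (((adj R).unit.app M).hom x)) =
      ((Γf R).map g).hom (((adj R).unit.app M).hom (a • x))
    rw [Γ_map_sm, map_smul (((adj R).unit.app M).hom)]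
  constructor
  · intro h x
    rw [← key, h, Adjunction.homEquiv_unit, Functor.map_zero, comp_zero]
    rfl
  · intro h
    apply ((adj R).homEquiv M T).injective
    ext x
    rw [key, h x, Adjunction.homEquiv_unit, Functor.map_zero, comp_zero]
    rfl


/-- factor a linear map through a surjection -/
theorem exists_factor_of_surjective {M N N' : ModuleCat.{u} R} (p : M ⟶ N)
    (hp : Function.Surjective p.hom) (g : M ⟶ N')
    (h : LinearMap.ker p.hom ≤ LinearMap.ker g.hom) : ∃ k : N ⟶ N', p ≫ k = g := by
  let e := p.hom.quotKerEquivOfSurjective hp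
  refine ⟨ModuleCat.ofHom ((Submodule.liftQ _ g.hom h).comp e.symm.toLinearMap), ?_⟩
  ext x
  change (Submodule.liftQ _ g.hom h) (e.symm (p.hom x)) = g.hom x
  have : e.symm (p.hom x) = Submodule.Quotient.mk x := by
    rw [LinearEquiv.symm_apply_eq]
    rfl
  rw [this, Submodule.liftQ_apply]

/-- quotient by a submodule in `ModuleCat` -/
theorem exists_quotient (N : ModuleCat.{u} R) (K : Submodule R N) :
    ∃ (Q : ModuleCat.{u} R) (q : N ⟶ Q), Function.Surjective q.hom ∧ LinearMap.ker q.hom = K :=
  ⟨ModuleCat.of R (N ⧸ K), ModuleCat.ofHom K.mkQ, K.mkQ_surjective, K.ker_mkQ⟩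

/-- the adjoint of the tilde of a map -/
theorem homEquiv_map (M N : ModuleCat.{u} R) (p : M ⟶ N) (x : M) :
    ((adj R).homEquiv M _ ((Tf R).map p)).hom x = ((adj R).unit.app N).hom (p.hom x) := by
  rw [Adjunction.homEquiv_unit]
  have h := (adj R).unit.naturality p
  exact (congrArg (fun t : M ⟶ (Γf R).obj ((Tf R).obj N) => t.hom x) h).symm

theorem unit_injective (N : ModuleCat.{u} R) : Function.Injective ((adj R).unit.app N).hom := by
  have : IsIso ((adj R).unit.app N) := inferInstance
  exact ((ModuleCat.mono_iff_injective _).1 inferInstance)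

/-- Lemma Q: a surjection onto global sections with kernel `J M` gives a quotient by `J` -/
theorem isQuotBy_of_surjective (J : Ideal R) (M : ModuleCat.{u} R)
    (P : (Spec (CommRingCat.of R)).Modules) [IsIso ((adj R).counit.app P)]
    (p : M ⟶ (Γf R).obj P) (hp : Function.Surjective p.hom)
    (hker : LinearMap.ker p.hom = J • (⊤ : Submodule R M)) :
    IsQuotBy J ((Tf R).map p ≫ (adj R).counit.app P) := by
  have hepi : Epi p := (ModuleCat.epi_iff_surjective p).2 hp
  have hkill : ∀ a ∈ J, sm R _ a ≫ (Tf R).map p = 0 := by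
    intro a ha
    rw [sm_comp_eq_zero_iff]
    intro x
    rw [homEquiv_map]
    have : a • x ∈ LinearMap.ker p.hom := by
      rw [hker]; exact Submodule.smul_mem_smul ha Submodule.mem_top
    rw [LinearMap.mem_ker.1 this, map_zero]
  refine ⟨inferInstance, ?_, ?_⟩
  · intro a ha
    rw [← Category.assoc]
    exact (congrArg (fun t => t ≫ (adj R).counit.app P) (hkill a ha)).trans zero_comp
  · intro T g hg
    -- the adjoint of `g` kills `J M`
    have hg' : LinearMap.ker p.hom ≤ LinearMap.ker ((adj R).homEquiv M T g).hom := by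
      rw [hker, Submodule.smul_le]
      intro a ha x _
      exact LinearMap.mem_ker.2 ((sm_comp_eq_zero_iff M T g a).1 (hg a ha) x)
    obtain ⟨h, hh⟩ := exists_factor_of_surjective p hp _ hg'
    refine ⟨inv ((adj R).counit.app P) ≫ ((adj R).homEquiv _ T).symm h, ?_⟩
    rw [Category.assoc, IsIso.hom_inv_id_assoc, ← Adjunction.homEquiv_naturality_left_symm, hh]
    exact Equiv.symm_apply_apply _ g

/-- Lemma K: a quotient by `J` of quasi-coherent modules is, on global sections, surjective with kernel
`J Γ(P)` -/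
theorem surjective_and_ker_of_isQuotBy (J : Ideal R) {P P' : (Spec (CommRingCat.of R)).Modules}
    [IsIso ((adj R).counit.app P)] [IsIso ((adj R).counit.app P')] (t : P ⟶ P')
    (ht : IsQuotBy J t) :
    Function.Surjective ((Γf R).map t).hom ∧
      LinearMap.ker ((Γf R).map t).hom = J • (⊤ : Submodule R ((Γf R).obj P)) := by
  have hepi := ht.epi
  constructor
  · have h0 : (Tf R).map ((Γf R).map t) ≫ (adj R).counit.app P' = (adj R).counit.app P ≫ t :=
      (adj R).counit.naturality t
    have h1 : (Tf R).map ((Γf R).map t) =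
        (adj R).counit.app P ≫ t ≫ inv ((adj R).counit.app P') := by
      rw [← Category.assoc, ← h0, Category.assoc, IsIso.hom_inv_id, Category.comp_id]
    have h2 : Epi ((Tf R).map ((Γf R).map t)) := by rw [h1]; infer_instance
    have h3 : Epi ((Γf R).map t) := (Tf R).epi_of_epi_map h2
    exact (ModuleCat.epi_iff_surjective _).1 h3
  · apply le_antisymm
    · intro x hx
      obtain ⟨Q, q, -, hq⟩ := exists_quotient ((Γf R).obj P) (J • ⊤)
      let g : P ⟶ (Tf R).obj Q := inv ((adj R).counit.app P) ≫ (Tf R).map q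
      have hg : ∀ a ∈ J, sm R P a ≫ g = 0 := by
        intro a ha
        have h0 : sm R ((Tf R).obj ((Γf R).obj P)) a ≫ (Tf R).map q = 0 := by
          rw [sm_comp_eq_zero_iff]
          intro y
          rw [homEquiv_map]
          have : a • y ∈ LinearMap.ker q.hom := by
            rw [hq]; exact Submodule.smul_mem_smul ha Submodule.mem_top
          rw [LinearMap.mem_ker.1 this, map_zero]
        have h1 : sm R P a ≫ inv ((adj R).counit.app P) =
            inv ((adj R).counit.app P) ≫ sm R ((Tf R).obj ((Γf R).obj P)) a :=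
          smulMod_comp _ a
        rw [← Category.assoc, h1, Category.assoc, h0, comp_zero]
      obtain ⟨g', hg'⟩ := ht.fac _ g hg
      -- `q ≫ unit = Γ t ≫ Γ g'`
      have h2 : q ≫ (adj R).unit.app Q = (Γf R).map t ≫ (Γf R).map g' := by
        rw [← Functor.map_comp, hg']
        have h3 : q ≫ (adj R).unit.app Q =
            (adj R).unit.app ((Γf R).obj P) ≫ (Γf R).map ((Tf R).map q) :=
          (adj R).unit.naturality q
        have h4 := (adj R).right_triangle_components P
        have h5 : (Γf R).map (inv ((adj R).counit.app P)) = (adj R).unit.app ((Γf R).obj P) := by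
          rw [← cancel_mono ((Γf R).map ((adj R).counit.app P)), ← Functor.map_comp,
            IsIso.inv_hom_id, h4]
          exact (Γf R).map_id _
        rw [Functor.map_comp, h5]
        exact h3
      have h6 : ((adj R).unit.app Q).hom (q.hom x) = 0 := by
        have := congrArg (fun s : (Γf R).obj P ⟶ (Γf R).obj ((Tf R).obj Q) => s.hom x) h2
        refine this.trans ?_
        change ((Γf R).map g').hom (((Γf R).map t).hom x) = 0
        rw [LinearMap.mem_ker.1 hx, map_zero]
      have h7 : q.hom x = 0 := unit_injective Q (h6.trans (map_zero _).symm)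
      rw [← hq]
      exact LinearMap.mem_ker.2 h7
    · rw [Submodule.smul_le]
      intro a ha x _
      rw [LinearMap.mem_ker, ← Γ_map_sm]
      change ((Γf R).map (sm R P a) ≫ (Γf R).map t).hom x = 0
      rw [← Functor.map_comp, ht.kill a ha, Functor.map_zero]
      rfl


section System

variable (I : Ideal R) (G : ℕᵒᵖ ⥤ (Spec (CommRingCat.of R)).Modules)

/-- the module of global sections of the `n`-th term -/
noncomputable def Nn (n : ℕ) : ModuleCat.{u} R := (Γf R).obj (G.obj (op n))

/-- the transition maps on global sections -/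
noncomputable def fn (n : ℕ) : Nn G (n + 1) ⟶ Nn G n :=
  (Γf R).map (G.map (homOfLE (Nat.le_succ n)).op)

/-- the module of compatible families of global sections -/
noncomputable def Lim : Submodule R (∀ n, Nn G n) where
  carrier := {x | ∀ n, (fn G n).hom (x (n + 1)) = x n}
  zero_mem' := by intro n; simp
  add_mem' := by
    intro x y hx hy n
    simp only [Pi.add_apply, map_add]
    rw [hx n, hy n]
  smul_mem' := by
    intro a x hx n
    simp only [Pi.smul_apply, map_smul]
    rw [hx n]

/-- the projections -/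
noncomputable def πn (n : ℕ) : ↥(Lim G) →ₗ[R] Nn G n := (LinearMap.proj n).comp (Lim G).subtype

theorem fn_comp_πn (n : ℕ) : (fn G n).hom ∘ₗ πn G (n + 1) = πn G n := by
  ext x
  exact x.2 n

theorem πn_inj (x : ↥(Lim G)) (hx : ∀ n, πn G n x = 0) : x = 0 := by
  apply Subtype.ext
  funext n
  exact hx n

theorem πn_lift (y : ∀ n, Nn G n) (hy : ∀ n, (fn G n).hom (y (n + 1)) = y n) :
    ∃ x : ↥(Lim G), ∀ n, πn G n x = y n := ⟨⟨y, hy⟩, fun _ => rfl⟩

variable {I G}

theorem isIso_counit (hG : Formal.IsCohFormal I G) (n : ℕ) :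
    IsIso ((adj R).counit.app (G.obj (op n))) := by
  have h : (G.obj (op n)).IsQuasicoherent := (hG.1 n).1
  exact (isQuasicoherent_iff_isIso_fromTildeΓ (R := R) (G.obj (op n))).mp h

theorem fn_surjective_and_ker (hG : Formal.IsCohFormal I G) (n : ℕ) :
    Function.Surjective (fn G n).hom ∧
      LinearMap.ker (fn G n).hom = I ^ (n + 1) • (⊤ : Submodule R (Nn G (n + 1))) := by
  have := isIso_counit hG n
  have := isIso_counit hG (n + 1)
  exact surjective_and_ker_of_isQuotBy (I ^ (n + 1)) _ (((isCohFormal_iff I G).1 hG).2.2 n)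

theorem finite_Nn [IsNoetherianRing R] (hG : Formal.IsCohFormal I G) (n : ℕ) :
    Module.Finite R (Nn G n) := by
  have := isIso_counit hG n
  have hft : SheafOfModules.IsFiniteType (R := (Spec (CommRingCat.of R)).ringCatSheaf)
      (G.obj (op n)) := (hG.1 n).2
  have e : G.obj (op n) ≅ tilde (R := R) (Nn G n) :=
    (asIso ((adj R).counit.app (G.obj (op n)))).symm
  have h2 : SheafOfModules.IsFiniteType (R := (Spec (CommRingCat.of R)).ringCatSheaf)
      (tilde (R := R) (Nn G n)) :=
    Groth.Agent.Lib.Helper23.FinType.isFiniteType_of_iso e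
  exact (Groth.Agent.Lib.Helper23.FinType.isFiniteType_tilde_iff R (Nn G n)).1 h2

variable (G) in
/-- the projections as morphisms -/
noncomputable def pc (n : ℕ) : ModuleCat.of R ↥(Lim G) ⟶ ModuleCat.of R ↑(Nn G n) :=
  ModuleCat.ofHom (πn G n)

/-- the maps from the tilde of the limit -/
noncomputable def ρn (n : ℕ) : (Tf R).obj (ModuleCat.of R ↥(Lim G)) ⟶ G.obj (op n) :=
  (Tf R).map (pc G n) ≫ (adj R).counit.app (G.obj (op n))

theorem ρn_succ (n : ℕ) : ρn (G := G) (n + 1) ≫ G.map (homOfLE (Nat.le_succ n)).op = ρn n := by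
  have h0 : (Tf R).map ((Γf R).map (G.map (homOfLE (Nat.le_succ n)).op)) ≫
      (adj R).counit.app (G.obj (op n)) =
      (adj R).counit.app (G.obj (op (n + 1))) ≫ G.map (homOfLE (Nat.le_succ n)).op :=
    (adj R).counit.naturality _
  have h1 : pc G (n + 1) ≫ ModuleCat.ofHom (fn G n).hom = pc G n := by
    ext x
    exact x.2 n
  have h2 : (Tf R).map (pc G (n + 1)) ≫ (Tf R).map ((Γf R).map (G.map (homOfLE (Nat.le_succ n)).op)) =
      (Tf R).map (pc G n) :=
    ((Tf R).map_comp _ _).symm.trans (congrArg (Tf R).map h1)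
  unfold ρn
  exact (Category.assoc _ _ _).trans ((congrArg (fun t => (Tf R).map (pc G (n + 1)) ≫ t) h0.symm).trans
    ((Category.assoc _ _ _).symm.trans (congrArg (fun t => t ≫ (adj R).counit.app (G.obj (op n))) h2)))

theorem isQuotBy_ρn [IsNoetherianRing R] (hG : Formal.IsCohFormal I G) (n : ℕ) :
    IsQuotBy (I ^ (n + 1)) (ρn (G := G) n) := by
  have := isIso_counit hG n
  have hI : I.FG := IsNoetherian.noetherian I
  have hf : ∀ k, Function.Surjective (fn G k).hom := fun k => (fn_surjective_and_ker hG k).1
  have hker : ∀ k, LinearMap.ker (fn G k).hom = I ^ (k + 1) • (⊤ : Submodule R (Nn G (k + 1))) :=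
    fun k => (fn_surjective_and_ker hG k).2
  refine isQuotBy_of_surjective (I ^ (n + 1)) (ModuleCat.of R ↥(Lim G)) (G.obj (op n))
    (pc G n) ?_ ?_
  · exact Groth.Agent.Lib.Helper14.proj_surjective (fun k => (fn G k).hom) (πn G) hf (πn_lift G) n
  · exact Groth.Agent.Lib.Helper14.ker_eq_pow_smul_top I (fun k => (fn G k).hom) (πn G) hI hf hker
      (fn_comp_πn G) (πn_inj G) (πn_lift G) n

/-- a coherent formal module on `Spec R` is the completion of the tilde of its module of compatible
families of sections -/
theorem nonempty_completion_tilde_iso [IsNoetherianRing R] (hG : Formal.IsCohFormal I G) :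
    Nonempty (Formal.completion I ((Tf R).obj (ModuleCat.of R ↥(Lim G))) ≅ G) :=
  nonempty_completion_iso I _ G (fun n => ρn n) (isQuotBy_ρn hG) ρn_succ

theorem finite_Lim [IsNoetherianRing R] [IsAdicComplete I R] (hG : Formal.IsCohFormal I G) :
    Module.Finite R ↥(Lim G) := by
  have hI : I.FG := IsNoetherian.noetherian I
  have hf : ∀ k, Function.Surjective (fn G k).hom := fun k => (fn_surjective_and_ker hG k).1
  have hker : ∀ k, LinearMap.ker (fn G k).hom = I ^ (k + 1) • (⊤ : Submodule R (Nn G (k + 1))) :=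
    fun k => (fn_surjective_and_ker hG k).2
  have := finite_Nn hG 0
  exact Groth.Agent.Lib.Helper14.finite_of_invLim I (fun k => (fn G k).hom) (πn G) hI hf hker
      (fn_comp_πn G) (πn_inj G) (πn_lift G)

end System

end Groth.Agent.Lib.T2H2.AlgzD
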