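import Mathlib
import Groth.Prelude.Def_Algz
import Groth.Agent.Lib.T2H2AlgzD

/-!
# Extension implies completion of a coherent module, over a complete base (helper2)

Namespace `Groth.Agent.Lib.T2H2.AlgzE`.
-/

set_option autoImplicit false
universe u
open CategoryTheory Limits Opposite TopologicalSpace AlgebraicGeometry

namespace Groth.Agent.Lib.T2H2.AlgzE

open Groth.Agent.S9530 Groth.Agent.Lib.T2H2.AlgzA Groth.Agent.Lib.T2H2.AlgzB
  Groth.Agent.Lib.T2H2.AlgzC Groth.Agent.Lib.T2H2.AlgzD

variable (R : CommRingCat.{u})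

/-- affine Grothendieck existence: over a Noetherian complete ring, every coherent formal module on `Spec R`
is the completion of a coherent module -/
theorem exists_coh_completion_iso_spec [IsNoetherianRing R] (I : Ideal R) [IsAdicComplete I R]
    (G : ℕᵒᵖ ⥤ (Spec (CommRingCat.of R)).Modules)
    (hG : @Formal.IsCohFormal R _ (Spec (CommRingCat.of R)) (iR R) I G) :
    ∃ N : (Spec (CommRingCat.of R)).Modules, Coh.IsCoh N ∧
      Nonempty (@Formal.completion R _ (Spec (CommRingCat.of R)) (iR R) I N ≅ G) := by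
  have hfin : Module.Finite R ↥(Lim G) := finite_Lim hG
  refine ⟨(Tf R).obj (ModuleCat.of R ↥(Lim G)), ⟨inferInstance, ?_⟩, nonempty_completion_tilde_iso hG⟩
  exact (Groth.Agent.Lib.Helper23.FinType.isFiniteType_tilde_iff R (ModuleCat.of R ↥(Lim G))).2 hfin

/-- if a system on an open of `Spec R` (`R` Noetherian and complete) extends, it is the completion of a
coherent module -/
theorem exists_coh_completion_iso_of_extends [IsNoetherianRing R] (I : Ideal R) [IsAdicComplete I R]
    (U : (Spec (CommRingCat.of R)).Opens) (G : ℕᵒᵖ ⥤ (U : Scheme.{u}).Modules)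
    (h : @Algz.Extends R _ (Spec (CommRingCat.of R)) (iR R) I U G) :
    ∃ F : (U : Scheme.{u}).Modules, Coh.IsCoh F ∧ Nonempty (Formal.completion I F ≅ G) := by
  obtain ⟨G', hG', ⟨e⟩⟩ := h
  obtain ⟨N, hN, ⟨e1⟩⟩ := exists_coh_completion_iso_spec R I G' hG'
  have : N.IsQuasicoherent := hN.1
  have : SheafOfModules.IsFiniteType (R := (Spec (CommRingCat.of R)).ringCatSheaf) N := hN.2
  refine ⟨N.restrict U.ι, ⟨Scheme.Modules.isQuasicoherent_restrictFunctor U.ι N,
    Groth.Agent.Lib.Helper23.FinType.isFiniteType_restrict U.ι N⟩, ?_⟩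
  obtain ⟨e2⟩ := @nonempty_completion_restrict_iso R _ (Spec (CommRingCat.of R)) (U : Scheme.{u}) (iR R)
    _ U.ι _ (Category.comp_id _) I N
  exact ⟨e2.symm ≪≫ Functor.isoWhiskerRight e1 (Scheme.Modules.restrictFunctor U.ι) ≪≫ e⟩

end Groth.Agent.Lib.T2H2.AlgzE
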