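import Mathlib
import Groth.Prelude.Def_Algz
import Groth.Agent.Lib.T2H2AlgzA

/-!
# Pro-isomorphisms of inverse systems: inverse data, cones, limits of modules (helper2)

Namespace `Groth.Agent.Lib.T2H2.AlgzF`.
-/

set_option autoImplicit false
universe v u
open CategoryTheory Limits Opposite

namespace Groth.Agent.Lib.T2H2.AlgzF

open Groth.Agent.Lib.T2H2.AlgzA

section General

variable {C : Type u} [Category.{v} C] {X Y : ℕᵒᵖ ⥤ C} {m : ℕ → ℕ} (hm : Monotone m)
  (a : DerCA.reindex X hm ⟶ Y)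

/-- the component of `a` with the expected source -/
def aa (n : ℕ) : X.obj (op (m n)) ⟶ Y.obj (op n) := a.app (op n)

theorem aa_naturality {i j : ℕ} (h : i ≤ j) :
    aa hm a j ≫ ARSys.tr Y h = ARSys.tr X (hm h) ≫ aa hm a i :=
  (a.naturality (homOfLE h).op).symm

/-- chosen inverse data of a pro-isomorphism -/
structure InvData where
  kk : ℕ → ℕ
  hkk : ∀ n, n ≤ kk n
  bb : ∀ n, Y.obj (op (kk n)) ⟶ X.obj (op (m n))
  h1 : ∀ n, aa hm a (kk n) ≫ bb n = ARSys.tr X (hm (hkk n))
  h2 : ∀ n, bb n ≫ aa hm a n = ARSys.tr Y (hkk n)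

theorem exists_invData (ha : DerCA.IsProIso a) : Nonempty (InvData hm a) := by
  choose kk hkk bb h1 h2 using ha
  exact ⟨⟨kk, hkk, bb, h1, h2⟩⟩

variable {hm a}

/-- compatibility of the chosen inverse maps -/
theorem InvData.star (D : InvData hm a) {n j : ℕ} (h : D.kk n ≤ j) :
    ARSys.tr Y (h.trans (D.hkk j)) ≫ D.bb n = D.bb j ≫ ARSys.tr X (hm ((D.hkk n).trans h)) := by
  calc ARSys.tr Y (h.trans (D.hkk j)) ≫ D.bb n
      = (ARSys.tr Y (D.hkk j) ≫ ARSys.tr Y h) ≫ D.bb n := by rw [tr_comp]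
    _ = ((D.bb j ≫ aa hm a j) ≫ ARSys.tr Y h) ≫ D.bb n := by rw [D.h2]
    _ = D.bb j ≫ (aa hm a j ≫ ARSys.tr Y h) ≫ D.bb n := by simp only [Category.assoc]
    _ = D.bb j ≫ (ARSys.tr X (hm h) ≫ aa hm a (D.kk n)) ≫ D.bb n := by rw [aa_naturality]
    _ = D.bb j ≫ ARSys.tr X (hm h) ≫ (aa hm a (D.kk n) ≫ D.bb n) := by simp only [Category.assoc]
    _ = D.bb j ≫ ARSys.tr X (hm h) ≫ ARSys.tr X (hm (D.hkk n)) := by rw [D.h1]
    _ = D.bb j ≫ ARSys.tr X (hm ((D.hkk n).trans h)) := by rw [tr_comp]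

variable (hle : ∀ n, n ≤ m n)

/-- the maps `Y_{kk n} ⟶ X_n` -/
def InvData.β (D : InvData hm a) (n : ℕ) : Y.obj (op (D.kk n)) ⟶ X.obj (op n) :=
  D.bb n ≫ ARSys.tr X (hle n)

theorem InvData.tr_β (D : InvData hm a) {n j : ℕ} (h : D.kk n ≤ j) :
    ARSys.tr Y (h.trans (D.hkk j)) ≫ D.β hle n =
      D.bb j ≫ ARSys.tr X ((hle n).trans (hm ((D.hkk n).trans h))) := by
  unfold InvData.β
  rw [← Category.assoc, D.star h, Category.assoc, tr_comp]

/-- `a_{kk n} ≫ β_n` is the transition map -/
theorem InvData.aa_β (D : InvData hm a) (n : ℕ) :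
    aa hm a (D.kk n) ≫ D.β hle n = ARSys.tr X ((hle n).trans (hm (D.hkk n))) := by
  unfold InvData.β
  rw [← Category.assoc, D.h1, tr_comp]

/-- a cone over `Y` induces a cone over `X` -/
def InvData.coneOf (D : InvData hm a) (c : Cone Y) : Cone X where
  pt := c.pt
  π :=
    { app := fun n => c.π.app (op (D.kk n.unop)) ≫ D.β hle n.unop
      naturality := by
        intro n' n f
        have hnn : n.unop ≤ n'.unop := leOfHom f.unop
        have hf : X.map f = ARSys.tr X hnn := rfl
        let j := max (D.kk n.unop) (D.kk n'.unop)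
        have e1 : ∀ (i : ℕ) (hi : D.kk i ≤ j), c.π.app (op (D.kk i)) =
            c.π.app (op (D.kk j)) ≫ ARSys.tr Y (hi.trans (D.hkk j)) := by
          intro i hi
          have := c.π.naturality (homOfLE (hi.trans (D.hkk j))).op
          simp only [Functor.const_obj_obj, Functor.const_obj_map, Category.id_comp] at this
          exact this
        have k1 : ∀ (i : ℕ) (hi : D.kk i ≤ j), c.π.app (op (D.kk i)) ≫ D.β hle i =
            c.π.app (op (D.kk j)) ≫ D.bb j ≫
              ARSys.tr X ((hle i).trans (hm ((D.hkk i).trans hi))) := by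
          intro i hi
          rw [e1 i hi, Category.assoc, D.tr_β hle hi]
        simp only [Functor.const_obj_obj, Functor.const_obj_map, Category.id_comp]
        rw [hf, k1 n.unop (le_max_left _ _), k1 n'.unop (le_max_right _ _), Category.assoc,
          Category.assoc, tr_comp] }

theorem InvData.coneOf_π (D : InvData hm a) (c : Cone Y) (n : ℕ) :
    (D.coneOf hle c).π.app (op n) = c.π.app (op (D.kk n)) ≫ D.β hle n := rfl

end General


section Modules

variable {A : Type u} [CommRing A] {X Y : ℕᵒᵖ ⥤ ModuleCat.{u} A} {m : ℕ → ℕ} {hm : Monotone m}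
  {a : DerCA.reindex X hm ⟶ Y} (hle : ∀ n, n ≤ m n)

theorem tr_apply_limitπ {i j : ℕ} (h : i ≤ j) (x : ↑(limit X)) :
    (ARSys.tr X h).hom ((limit.π X (op j)).hom x) = (limit.π X (op i)).hom x := by
  have := limit.w X (homOfLE h).op
  exact congrArg (fun t : limit X ⟶ X.obj (op i) => t.hom x) this

include hle in
/-- the limit topology on `lim X` is finer than the `I`-adic one if this holds for a pro-isomorphic `Y` -/
theorem ker_limitπ_le (D : InvData hm a) (I : Ideal A) (c : Cone Y)
    (hker : ∀ n, LinearMap.ker (c.π.app (op n)).hom ≤ I ^ (n + 1) • (⊤ : Submodule A c.pt))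
    (hlift : ∀ y : (∀ n, Y.obj (op n)),
      (∀ n, (Y.map (homOfLE (Nat.le_succ n)).op).hom (y (n + 1)) = y n) →
        ∃ ℓ : c.pt, ∀ n, (c.π.app (op n)).hom ℓ = y n)
    (k : ℕ) : ∃ n, LinearMap.ker (limit.π X (op n)).hom ≤ I ^ k • (⊤ : Submodule A ↑(limit X)) := by
  cases k with
  | zero =>
    refine ⟨0, ?_⟩
    rw [pow_zero, Ideal.one_eq_top, Submodule.top_smul]
    exact le_top
  | succ k =>
    refine ⟨m k, fun x hx => ?_⟩
    let y : ∀ n, Y.obj (op n) := fun j => (aa hm a j).hom ((limit.π X (op (m j))).hom x)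
    have hy : ∀ n, (Y.map (homOfLE (Nat.le_succ n)).op).hom (y (n + 1)) = y n := by
      intro n
      have h1 := aa_naturality hm a (Nat.le_succ n)
      have h2 := congrArg (fun t : X.obj (op (m (n + 1))) ⟶ Y.obj (op n) =>
        t.hom ((limit.π X (op (m (n + 1)))).hom x)) h1
      refine h2.trans ?_
      change (aa hm a n).hom ((ARSys.tr X (hm (Nat.le_succ n))).hom
        ((limit.π X (op (m (n + 1)))).hom x)) = _
      rw [tr_apply_limitπ]
    obtain ⟨ℓ, hℓ⟩ := hlift y hy
    have hℓk : ℓ ∈ I ^ (k + 1) • (⊤ : Submodule A c.pt) := by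
      apply hker k
      rw [LinearMap.mem_ker, hℓ k]
      change (aa hm a k).hom ((limit.π X (op (m k))).hom x) = 0
      rw [LinearMap.mem_ker.1 hx, map_zero]
    let ψ : c.pt ⟶ limit X := limit.lift X (D.coneOf hle c)
    have hψ : ψ.hom ℓ = x := by
      apply Concrete.limit_ext
      intro j
      obtain ⟨n⟩ := j
      have h1 : ψ ≫ limit.π X (op n) = c.π.app (op (D.kk n)) ≫ D.β hle n :=
        limit.lift_π _ _
      have h2 := congrArg (fun t : c.pt ⟶ X.obj (op n) => t.hom ℓ) h1
      refine h2.trans ?_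
      change (D.β hle n).hom ((c.π.app (op (D.kk n))).hom ℓ) = _
      rw [hℓ (D.kk n)]
      have h3 := congrArg (fun t : X.obj (op (m (D.kk n))) ⟶ X.obj (op n) =>
        t.hom ((limit.π X (op (m (D.kk n)))).hom x)) (D.aa_β hle n)
      refine h3.trans ?_
      exact tr_apply_limitπ _ x
    rw [← hψ]
    have h4 : Submodule.map ψ.hom (I ^ (k + 1) • (⊤ : Submodule A c.pt)) ≤
        I ^ (k + 1) • (⊤ : Submodule A ↑(limit X)) := by
      rw [Submodule.map_smul'']
      exact Submodule.smul_mono le_rfl le_top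
    exact h4 (Submodule.mem_map_of_mem hℓk)

/-- The subobject attached to a submodule. -/
noncomputable def subOf {Z : ModuleCat.{u} A} (S : Submodule A Z) : Subobject Z :=
  Subobject.mk (ModuleCat.ofHom S.subtype)

theorem imageSubobject_eq_subOf {X Z : ModuleCat.{u} A} (f : X ⟶ Z) :
    imageSubobject f = subOf (LinearMap.range f.hom) := by
  unfold subOf imageSubobject
  exact Subobject.mk_eq_mk_of_comm _ _ (ModuleCat.imageIsoRange f)
    (ModuleCat.imageIsoRange_hom_subtype f)

theorem range_tr_eq (D : InvData hm a)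
    (hsurj : ∀ {i j : ℕ} (h : i ≤ j), Function.Surjective (ARSys.tr Y h).hom) (n N : ℕ) (hn : n ≤ N)
    (hN : m (D.kk n) ≤ N) :
    LinearMap.range (ARSys.tr X hn).hom = LinearMap.range (D.β hle n).hom := by
  apply le_antisymm
  · have h1 : ARSys.tr X hn = ARSys.tr X hN ≫ aa hm a (D.kk n) ≫ D.β hle n := by
      rw [D.aa_β hle, tr_comp]
    rw [h1, ← Category.assoc, ModuleCat.hom_comp]
    exact LinearMap.range_comp_le_range _ _
  · let j := max (D.kk n) N
    have hj : D.kk n ≤ j := le_max_left _ _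
    have hNj : N ≤ m j := (le_max_right _ _).trans (hle j)
    have h1 : ARSys.tr Y (hj.trans (D.hkk j)) ≫ D.β hle n =
        (D.bb j ≫ ARSys.tr X hNj) ≫ ARSys.tr X hn := by
      rw [D.tr_β hle hj, Category.assoc, tr_comp]
    have h2 : LinearMap.range (D.β hle n).hom =
        LinearMap.range (ARSys.tr Y (hj.trans (D.hkk j)) ≫ D.β hle n).hom := by
      rw [ModuleCat.hom_comp, LinearMap.range_comp_of_range_eq_top]
      exact LinearMap.range_eq_top.2 (hsurj _)
    rw [h2, h1, ModuleCat.hom_comp]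
    exact LinearMap.range_comp_le_range _ _

include hle in
/-- Mittag-Leffler for a system pro-isomorphic to one with surjective transition maps -/
theorem isML_of_invData (D : InvData hm a)
    (hsurj : ∀ {i j : ℕ} (h : i ≤ j), Function.Surjective (ARSys.tr Y h).hom) : ARSys.IsML X := by
  intro n
  have hmn : n ≤ m (D.kk n) := (D.hkk n).trans (hle _)
  refine ⟨m (D.kk n) - n, fun s hs => ?_⟩
  rw [imageSubobject_eq_subOf, imageSubobject_eq_subOf]
  congr 1
  have e1 := range_tr_eq hle D hsurj n (n + s) (Nat.le_add_right n s) (by omega)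
  have e2 := range_tr_eq hle D hsurj n (n + (m (D.kk n) - n)) (Nat.le_add_right n _) (by omega)
  exact e1.trans e2.symm

end Modules

end Groth.Agent.Lib.T2H2.AlgzF
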