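import Mathlib
import Groth.Prelude.Def_Algz
import Groth.Agent.Lib.T2H2AlgzD
import Groth.Agent.Lib.T2H2AlgzF

/-!
# Consequences of canonical extension for the system of sections (helper2)

Namespace `Groth.Agent.Lib.T2H2.AlgzG`.
-/

set_option autoImplicit false
universe u
open CategoryTheory Limits Opposite TopologicalSpace AlgebraicGeometry

namespace Groth.Agent.Lib.T2H2.AlgzG

open Groth.Agent.S9530 Groth.Agent.Lib.T2H2.AlgzA Groth.Agent.Lib.T2H2.AlgzB
  Groth.Agent.Lib.T2H2.AlgzC Groth.Agent.Lib.T2H2.AlgzD Groth.Agent.Lib.T2H2.AlgzF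

variable (R : CommRingCat.{u})

attribute [local instance 2000] iR

/-- epimorphisms of quasi-coherent modules on `Spec R` are surjective on global sections -/
theorem surjective_Γ_map_of_epi {P P' : (Spec (CommRingCat.of R)).Modules}
    [IsIso ((adj R).counit.app P)] [IsIso ((adj R).counit.app P')] (t : P ⟶ P') [Epi t] :
    Function.Surjective ((Γf R).map t).hom := by
  have h0 : (Tf R).map ((Γf R).map t) ≫ (adj R).counit.app P' = (adj R).counit.app P ≫ t :=
    (adj R).counit.naturality t
  have h1 : (Tf R).map ((Γf R).map t) =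
      (adj R).counit.app P ≫ t ≫ inv ((adj R).counit.app P') := by
    rw [← Category.assoc, ← h0, Category.assoc, IsIso.hom_inv_id, Category.comp_id]
  have h2 : Epi ((Tf R).map ((Γf R).map t)) := by rw [h1]; infer_instance
  have h3 : Epi ((Γf R).map t) := (Tf R).epi_of_epi_map h2
  exact (ModuleCat.epi_iff_surjective _).1 h3

variable {R}

/-- the system of sections is pro-isomorphic to the system of global sections of a canonical extension -/
theorem isProIsomorphic_sectMod (U : (Spec (CommRingCat.of R)).Opens)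
    (G : ℕᵒᵖ ⥤ (U : Scheme.{u}).Modules) (G' : ℕᵒᵖ ⥤ (Spec (CommRingCat.of R)).Modules)
    (hpro : Algz.IsProIsomorphic (Algz.sectSys R U G) G') :
    Algz.IsProIsomorphic (Algz.sectMod R U G) (G' ⋙ Γf R) := by
  have h1 : Algz.IsProIsomorphic (Algz.sectSys R U G ⋙ Γf R) (G' ⋙ Γf R) :=
    isProIsomorphic_whiskerRight hpro (Γf R)
  have e : Algz.sectMod R U G ≅ Algz.sectSys R U G ⋙ Γf R :=
    (Functor.rightUnitor _).symm ≪≫
      Functor.isoWhiskerLeft (Algz.sectMod R U G) (tilde.toTildeΓNatIso (R := R)) ≪≫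
      (Functor.associator _ _ _).symm
  exact isProIsomorphic_of_iso e (Iso.refl _) h1

section Cone

variable (G' : ℕᵒᵖ ⥤ (Spec (CommRingCat.of R)).Modules)

/-- the cone of compatible families over the system of global sections -/
noncomputable def limCone : Cone (G' ⋙ Γf R) where
  pt := ModuleCat.of R ↥(Lim G')
  π := NatTrans.ofOpSequence (fun n => pc G' n) (by
    intro n
    simp only [Functor.const_obj_obj, Functor.const_obj_map, Category.id_comp]
    ext x
    exact (x.2 n).symm)

theorem limCone_π (n : ℕ) : ((limCone G').π.app (op n)).hom = πn G' n := rfl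

end Cone

variable [IsNoetherianRing R] {I : Ideal R} {G' : ℕᵒᵖ ⥤ (Spec (CommRingCat.of R)).Modules}

theorem ker_limCone_π (hG' : Formal.IsCohFormal I G') (n : ℕ) :
    LinearMap.ker ((limCone G').π.app (op n)).hom ≤
      I ^ (n + 1) • (⊤ : Submodule R (limCone G').pt) := by
  have hI : I.FG := IsNoetherian.noetherian I
  have hf : ∀ k, Function.Surjective (fn G' k).hom := fun k => (fn_surjective_and_ker hG' k).1
  have hker : ∀ k, LinearMap.ker (fn G' k).hom = I ^ (k + 1) • (⊤ : Submodule R (Nn G' (k + 1))) :=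
    fun k => (fn_surjective_and_ker hG' k).2
  exact (Groth.Agent.Lib.Helper14.ker_eq_pow_smul_top I (fun k => (fn G' k).hom) (πn G') hI hf hker
      (fn_comp_πn G') (πn_inj G') (πn_lift G') n).le

omit [IsNoetherianRing R] in
theorem tr_surjective (hG' : Formal.IsCohFormal I G') {i j : ℕ} (h : i ≤ j) :
    Function.Surjective (ARSys.tr (G' ⋙ Γf R) h).hom := by
  have := isIso_counit hG' i
  have := isIso_counit hG' j
  have : Epi (G'.map (homOfLE h).op) := epi_le hG' i j h
  exact surjective_Γ_map_of_epi R (G'.map (homOfLE h).op)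

/-- the limit topology of `lim H⁰(U, G_n)` is the `I`-adic one -/
theorem ker_limit_sectMod_le (U : (Spec (CommRingCat.of R)).Opens)
    (G : ℕᵒᵖ ⥤ (U : Scheme.{u}).Modules) (hG' : Formal.IsCohFormal I G')
    (hpro : Algz.IsProIsomorphic (Algz.sectSys R U G) G') (k : ℕ) :
    ∃ n : ℕ, LinearMap.ker (limit.π (Algz.sectMod R U G) (op n)).hom ≤
      I ^ k • (⊤ : Submodule R ↑(limit (Algz.sectMod R U G))) := by
  obtain ⟨m, hm, hle, a, ha⟩ := isProIsomorphic_sectMod U G G' hpro
  obtain ⟨D⟩ := exists_invData hm a ha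
  exact ker_limitπ_le hle D I (limCone G') (ker_limCone_π hG')
    (fun y hy => πn_lift G' y hy) k

/-- the system of sections is Mittag-Leffler -/
theorem isML_sectMod (U : (Spec (CommRingCat.of R)).Opens)
    (G : ℕᵒᵖ ⥤ (U : Scheme.{u}).Modules) (hG' : Formal.IsCohFormal I G')
    (hpro : Algz.IsProIsomorphic (Algz.sectSys R U G) G') :
    ARSys.IsML (Algz.sectMod R U G) := by
  obtain ⟨m, hm, hle, a, ha⟩ := isProIsomorphic_sectMod U G G' hpro
  obtain ⟨D⟩ := exists_invData hm a ha
  exact isML_of_invData hle D (fun h => tr_surjective hG' h)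

end Groth.Agent.Lib.T2H2.AlgzG
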