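import Mathlib
import Groth.Prelude.Def_Algz
import Groth.Agent.Lib.T2H2AlgzF
import Groth.Agent.Lib.Helper14InvLim

/-!
# Mittag-Leffler systems of modules: stable images are images of the limit (helper2)

Namespace `Groth.Agent.Lib.T2H2.AlgzH`.
-/

set_option autoImplicit false
universe u
open CategoryTheory Limits Opposite

namespace Groth.Agent.Lib.T2H2.AlgzH

open Groth.Agent.Lib.T2H2.AlgzA Groth.Agent.Lib.T2H2.AlgzF

variable {A : Type u} [CommRing A] (X : ℕᵒᵖ ⥤ ModuleCat.{u} A)

theorem subOf_injective {Z : ModuleCat.{u} A} {S S' : Submodule A Z} (h : subOf S = subOf S') :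
    S = S' := by
  have key : ∀ {T T' : Submodule A Z}, subOf T = subOf T' → T ≤ T' := by
    intro T T' hTT x hx
    have hle : Subobject.mk (ModuleCat.ofHom T.subtype) ≤ Subobject.mk (ModuleCat.ofHom T'.subtype) :=
      le_of_eq hTT
    have hc := Subobject.ofMkLEMk_comp hle
    have := congrArg (fun t : ModuleCat.of A ↥T ⟶ Z => t.hom ⟨x, hx⟩) hc
    have h2 : ((Subobject.ofMkLEMk (ModuleCat.ofHom T.subtype) (ModuleCat.ofHom T'.subtype) hle).hom
        ⟨x, hx⟩ : Z) = x := this
    rw [← h2]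
    exact Submodule.coe_mem _
  exact le_antisymm (key h) (key h.symm)

theorem tr_apply (X : ℕᵒᵖ ⥤ ModuleCat.{u} A) {i j k : ℕ} (h1 : i ≤ j) (h2 : j ≤ k) (x : X.obj (op k)) :
    (ARSys.tr X h1).hom ((ARSys.tr X h2).hom x) = (ARSys.tr X (h1.trans h2)).hom x := by
  have := tr_comp X h1 h2
  exact congrArg (fun t : X.obj (op k) ⟶ X.obj (op i) => t.hom x) this

/-- the cone of compatible sequences -/
noncomputable def seqSub : Submodule A (∀ n, X.obj (op n)) where
  carrier := {y | ∀ n, (ARSys.tr X (Nat.le_succ n)).hom (y (n + 1)) = y n}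
  zero_mem' := by intro n; simp
  add_mem' := by
    intro x y hx hy n
    simp only [Pi.add_apply, map_add]
    rw [hx n, hy n]
  smul_mem' := by
    intro a x hx n
    simp only [Pi.smul_apply, map_smul]
    rw [hx n]

noncomputable def seqCone : Cone X where
  pt := ModuleCat.of A ↥(seqSub X)
  π := NatTrans.ofOpSequence
    (fun n => ModuleCat.ofHom ((LinearMap.proj n).comp (seqSub X).subtype)) (by
    intro n
    simp only [Functor.const_obj_obj, Functor.const_obj_map, Category.id_comp]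
    ext x
    exact (x.2 n).symm)

/-- every compatible sequence comes from an element of the limit -/
theorem exists_limit_of_seq (y : ∀ n, X.obj (op n))
    (hy : ∀ n, (ARSys.tr X (Nat.le_succ n)).hom (y (n + 1)) = y n) :
    ∃ x : ↑(limit X), ∀ n, (limit.π X (op n)).hom x = y n := by
  refine ⟨(limit.lift X (seqCone X)).hom ⟨y, hy⟩, fun n => ?_⟩
  have h1 : limit.lift X (seqCone X) ≫ limit.π X (op n) = (seqCone X).π.app (op n) :=
    limit.lift_π _ _
  exact congrArg (fun t : (seqCone X).pt ⟶ X.obj (op n) => t.hom ⟨y, hy⟩) h1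

/-- Mittag-Leffler: eventually the images of the transition maps lie in the image of the limit -/
theorem exists_range_tr_le_range_limitπ (hX : ARSys.IsML X) (n : ℕ) :
    ∃ N₀ : ℕ, ∀ (N : ℕ) (hN : n ≤ N), N₀ ≤ N →
      LinearMap.range (ARSys.tr X hN).hom ≤ LinearMap.range (limit.π X (op n)).hom := by
  classical
  choose r hr using hX
  -- the stable images
  let S : ∀ k, Submodule A (X.obj (op k)) := fun k =>
    LinearMap.range (ARSys.tr X (Nat.le_add_right k (r k))).hom
  have hS : ∀ (k N : ℕ) (hkN : k ≤ N), k + r k ≤ N → LinearMap.range (ARSys.tr X hkN).hom = S k := by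
    intro k N hkN hN
    obtain ⟨s, rfl⟩ := Nat.exists_eq_add_of_le hkN
    have hs : r k ≤ s := by omega
    have := hr k s hs
    rw [imageSubobject_eq_subOf, imageSubobject_eq_subOf] at this
    exact subOf_injective this
  -- transition maps restrict to surjections between stable images
  have hmaps : ∀ k (y : X.obj (op (k + 1))), y ∈ S (k + 1) →
      (ARSys.tr X (Nat.le_succ k)).hom y ∈ S k := by
    intro k y hy
    let N := max (k + r k) (k + 1 + r (k + 1))
    have hN1 : k + 1 ≤ N := by omega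
    rw [← hS (k + 1) N hN1 (le_max_right _ _)] at hy
    obtain ⟨z, rfl⟩ := hy
    rw [tr_apply, ← hS k N (by omega) (le_max_left _ _)]
    exact ⟨z, rfl⟩
  have hsurj : ∀ k (y : X.obj (op k)), y ∈ S k →
      ∃ y' : X.obj (op (k + 1)), y' ∈ S (k + 1) ∧ (ARSys.tr X (Nat.le_succ k)).hom y' = y := by
    intro k y hy
    let N := max (k + r k) (k + 1 + r (k + 1))
    have hN1 : k + 1 ≤ N := by omega
    rw [← hS k N (by omega) (le_max_left _ _)] at hy
    obtain ⟨z, rfl⟩ := hy
    refine ⟨(ARSys.tr X hN1).hom z, ?_, tr_apply X _ _ z⟩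
    rw [← hS (k + 1) N hN1 (le_max_right _ _)]
    exact ⟨z, rfl⟩
  let f : ∀ k, ↥(S (k + 1)) → ↥(S k) := fun k y =>
    ⟨(ARSys.tr X (Nat.le_succ k)).hom y.1, hmaps k y.1 y.2⟩
  have hf : ∀ k, Function.Surjective (f k) := by
    intro k y
    obtain ⟨y', hy', hyy⟩ := hsurj k y.1 y.2
    exact ⟨⟨y', hy'⟩, Subtype.ext hyy⟩
  refine ⟨n + r n, fun N hN hN₀ => ?_⟩
  rw [hS n N hN hN₀]
  intro y hy
  obtain ⟨w, hw, hwn⟩ := Groth.Agent.Lib.Helper14.exists_compatible_of_surjective n
    (M := fun k => ↥(S k)) f hf ⟨y, hy⟩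
  obtain ⟨x, hx⟩ := exists_limit_of_seq X (fun k => (w k).1) (fun k => congrArg Subtype.val (hw k))
  exact ⟨x, (hx n).trans (congrArg Subtype.val hwn)⟩

end Groth.Agent.Lib.T2H2.AlgzH
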