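import Mathlib
import Groth.Prelude.Def_Algz
import Groth.Agent.Lib.T2H2AlgzG
import Groth.Agent.Lib.T2H2AlgzH

/-!
# The map from the tilde of the limit of sections is an epimorphism for Mittag-Leffler systems (helper2)

Namespace `Groth.Agent.Lib.T2H2.AlgzI`.
-/

set_option autoImplicit false
universe u
open CategoryTheory Limits Opposite TopologicalSpace AlgebraicGeometry

namespace Groth.Agent.Lib.T2H2.AlgzI

open Groth.Agent.S9530 Groth.Agent.Lib.T2H2.AlgzA Groth.Agent.Lib.T2H2.AlgzB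
  Groth.Agent.Lib.T2H2.AlgzC Groth.Agent.Lib.T2H2.AlgzD Groth.Agent.Lib.T2H2.AlgzF
  Groth.Agent.Lib.T2H2.AlgzH

variable {R : CommRingCat.{u}} (U : (Spec (CommRingCat.of R)).Opens)
  (G : ℕᵒᵖ ⥤ (U : Scheme.{u}).Modules)

/-- the restriction functor -/
noncomputable abbrev Rf : (Spec (CommRingCat.of R)).Modules ⥤ (U : Scheme.{u}).Modules :=
  Scheme.Modules.restrictFunctor U.ι

/-- the pushforward functor -/
noncomputable abbrev Pf : (U : Scheme.{u}).Modules ⥤ (Spec (CommRingCat.of R)).Modules :=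
  Scheme.Modules.pushforward U.ι

/-- the comparison `((Γ(j_* G_n))~)|_U ⟶ G_n` -/
noncomputable def eHom (n : ℕᵒᵖ) :
    (Rf U).obj ((Tf R).obj ((Γf R).obj ((Pf U).obj (G.obj n)))) ⟶ G.obj n :=
  (Rf U).map ((adj R).counit.app ((Pf U).obj (G.obj n))) ≫
    (Scheme.Modules.restrictAdjunction U.ι).counit.app (G.obj n)

theorem eHom_naturality {n k : ℕᵒᵖ} (f : n ⟶ k) :
    (Rf U).map ((Tf R).map ((Γf R).map ((Pf U).map (G.map f)))) ≫ eHom U G k =
      eHom U G n ≫ G.map f := by
  have h1 : (Tf R).map ((Γf R).map ((Pf U).map (G.map f))) ≫ (adj R).counit.app ((Pf U).obj (G.obj k)) =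
      (adj R).counit.app ((Pf U).obj (G.obj n)) ≫ (Pf U).map (G.map f) :=
    (adj R).counit.naturality ((Pf U).map (G.map f))
  have h2 : (Rf U).map ((Pf U).map (G.map f)) ≫
      (Scheme.Modules.restrictAdjunction U.ι).counit.app (G.obj k) =
      (Scheme.Modules.restrictAdjunction U.ι).counit.app (G.obj n) ≫ G.map f :=
    (Scheme.Modules.restrictAdjunction U.ι).counit.naturality (G.map f)
  unfold eHom
  rw [← Category.assoc, ← Functor.map_comp, h1, Functor.map_comp, Category.assoc, h2, Category.assoc]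

theorem isIso_eHom [QuasiCompact U.ι] (n : ℕᵒᵖ) [hq : (G.obj n).IsQuasicoherent] :
    IsIso (eHom U G n) := by
  have hP := Groth.Agent.Lib.Helper23.QCohLocal.isQuasicoherent_pushforward U.ι (G.obj n)
  have h1 : IsIso ((adj R).counit.app ((Pf U).obj (G.obj n))) :=
    (isQuasicoherent_iff_isIso_fromTildeΓ (R := R) _).mp hP
  unfold eHom
  infer_instance

/-- the double adjoint of a map `M ⟶ Γ(j_* G_n)` -/
theorem adjoint_eq (n : ℕᵒᵖ) (M : ModuleCat.{u} R) (c : M ⟶ (Γf R).obj ((Pf U).obj (G.obj n))) :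
    ((Scheme.Modules.restrictAdjunction U.ι).homEquiv _ (G.obj n)).symm
      (((adj R).homEquiv M ((Pf U).obj (G.obj n))).symm c) =
      (Rf U).map ((Tf R).map c) ≫ eHom U G n := by
  rw [Adjunction.homEquiv_counit, Adjunction.homEquiv_counit, Functor.map_comp, Category.assoc]
  rfl

/-- image factorisation with a second map landing in the image -/
theorem exists_image_factor {M N N' : ModuleCat.{u} R} (c : M ⟶ N) (t : N' ⟶ N)
    (hle : LinearMap.range t.hom ≤ LinearMap.range c.hom) :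
    ∃ (S : ModuleCat.{u} R) (p : M ⟶ S) (ι : S ⟶ N) (q : N' ⟶ S),
      Function.Surjective p.hom ∧ p ≫ ι = c ∧ q ≫ ι = t := by
  refine ⟨ModuleCat.of R ↥(LinearMap.range c.hom), ModuleCat.ofHom c.hom.rangeRestrict,
    ModuleCat.ofHom (LinearMap.range c.hom).subtype,
    ModuleCat.ofHom (LinearMap.codRestrict (LinearMap.range c.hom) t.hom
      (fun x => hle ⟨x, rfl⟩)), c.hom.surjective_rangeRestrict, ?_, ?_⟩
  · ext x; rfl
  · ext x; rfl

variable {U G}

theorem epi_adjoint_limitπ [QuasiCompact U.ι] {I : Ideal R} (hG : Formal.IsCohFormal I G)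
    (ha : ARSys.IsML (Algz.sectMod R U G)) (n : ℕ) :
    Epi (((Scheme.Modules.restrictAdjunction U.ι).homEquiv _ (G.obj (op n))).symm
      (((adj R).homEquiv (limit (Algz.sectMod R U G)) ((Pf U).obj (G.obj (op n)))).symm
        (limit.π (Algz.sectMod R U G) (op n)))) := by
  have hq : ∀ k : ℕ, (G.obj (op k)).IsQuasicoherent := fun k => (hG.1 k).1
  obtain ⟨N₀, hN₀⟩ := exists_range_tr_le_range_limitπ (Algz.sectMod R U G) ha n
  let N := max n N₀
  have hnN : n ≤ N := le_max_left _ _
  have hle := hN₀ N hnN (le_max_right _ _)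
  -- the image of the limit
  let c : limit (Algz.sectMod R U G) ⟶ (Γf R).obj ((Pf U).obj (G.obj (op n))) :=
    limit.π (Algz.sectMod R U G) (op n)
  let t : (Γf R).obj ((Pf U).obj (G.obj (op N))) ⟶ (Γf R).obj ((Pf U).obj (G.obj (op n))) :=
    (Γf R).map ((Pf U).map (G.map (homOfLE hnN).op))
  have hle' : LinearMap.range t.hom ≤ LinearMap.range c.hom := hle
  obtain ⟨S, p, ι, q, hp, hpι, hqι⟩ : ∃ (S : ModuleCat.{u} R) (p : limit (Algz.sectMod R U G) ⟶ S)
      (ι : S ⟶ (Γf R).obj ((Pf U).obj (G.obj (op n))))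
      (q : (Γf R).obj ((Pf U).obj (G.obj (op N))) ⟶ S),
      Function.Surjective p.hom ∧ p ≫ ι = c ∧ q ≫ ι = t := exists_image_factor c t hle'
  have := hq n
  have := hq N
  have hison := isIso_eHom U G (op n)
  have hisoN := isIso_eHom U G (op N)
  -- `t` restricts to an epimorphism
  have hepi_t : Epi ((Rf U).map ((Tf R).map t)) := by
    have hnat := eHom_naturality U G (homOfLE hnN).op
    have hGepi : Epi (G.map (homOfLE hnN).op) := epi_le hG n N hnN
    have h3 : (Rf U).map ((Tf R).map t) =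
        (eHom U G (op N) ≫ G.map (homOfLE hnN).op) ≫ inv (eHom U G (op n)) := by
      rw [← hnat, Category.assoc, IsIso.hom_inv_id, Category.comp_id]
    rw [h3]
    infer_instance
  have hepi_ι : Epi ((Rf U).map ((Tf R).map ι)) := by
    have h4 : (Rf U).map ((Tf R).map q) ≫ (Rf U).map ((Tf R).map ι) = (Rf U).map ((Tf R).map t) := by
      rw [← Functor.map_comp, ← Functor.map_comp, hqι]
    have : Epi ((Rf U).map ((Tf R).map q) ≫ (Rf U).map ((Tf R).map ι)) := by rw [h4]; exact hepi_t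
    exact epi_of_epi ((Rf U).map ((Tf R).map q)) _
  have hepi_p : Epi ((Rf U).map ((Tf R).map p)) := by
    have : Epi p := (ModuleCat.epi_iff_surjective p).2 hp
    infer_instance
  have hfin : ((Scheme.Modules.restrictAdjunction U.ι).homEquiv _ (G.obj (op n))).symm
      (((adj R).homEquiv (limit (Algz.sectMod R U G)) ((Pf U).obj (G.obj (op n)))).symm c) =
      (Rf U).map ((Tf R).map p) ≫ (Rf U).map ((Tf R).map ι) ≫ eHom U G (op n) := by
    rw [adjoint_eq, ← hpι, Functor.map_comp, Functor.map_comp, Category.assoc]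
  change Epi (((Scheme.Modules.restrictAdjunction U.ι).homEquiv _ (G.obj (op n))).symm
      (((adj R).homEquiv (limit (Algz.sectMod R U G)) ((Pf U).obj (G.obj (op n)))).symm c))
  rw [hfin]
  infer_instance

end Groth.Agent.Lib.T2H2.AlgzI
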