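import Mathlib
import Groth.Prelude.Def_Algz
import Groth.Agent.Lib.T2H2AlgzI

/-!
# Canonical extension from Mittag-Leffler, adic limit topology and finite images (helper2)

Namespace `Groth.Agent.Lib.T2H2.AlgzJ`.
-/

set_option autoImplicit false
universe u
open CategoryTheory Limits Opposite TopologicalSpace AlgebraicGeometry

namespace Groth.Agent.Lib.T2H2.AlgzJ

open Groth.Agent.S9530 Groth.Agent.Lib.T2H2.AlgzA Groth.Agent.Lib.T2H2.AlgzB
  Groth.Agent.Lib.T2H2.AlgzC Groth.Agent.Lib.T2H2.AlgzD Groth.Agent.Lib.T2H2.AlgzF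
  Groth.Agent.Lib.T2H2.AlgzH Groth.Agent.Lib.T2H2.AlgzI

section Maj

/-- a monotone majorant -/
def maj (f : ℕ → ℕ) (n : ℕ) : ℕ := n + (Finset.range (n + 1)).sup f

theorem maj_monotone (f : ℕ → ℕ) : Monotone (maj f) := by
  intro a b hab
  unfold maj
  have : (Finset.range (a + 1)).sup f ≤ (Finset.range (b + 1)).sup f :=
    Finset.sup_mono (Finset.range_mono (by omega))
  omega

theorem le_maj (f : ℕ → ℕ) (n : ℕ) : n ≤ maj f n := Nat.le_add_right _ _

theorem self_le_maj (f : ℕ → ℕ) (n : ℕ) : f n ≤ maj f n := by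
  unfold maj
  have : f n ≤ (Finset.range (n + 1)).sup f := Finset.le_sup (by simp)
  omega

end Maj

section Mod

variable {R : CommRingCat.{u}}

/-- image factorisation with a second map landing in the image -/
theorem exists_image_factor' {M N N' : ModuleCat.{u} R} (c : M ⟶ N) (t : N' ⟶ N)
    (hle : LinearMap.range t.hom ≤ LinearMap.range c.hom) :
    ∃ (S : ModuleCat.{u} R) (p : M ⟶ S) (ι : S ⟶ N) (q : N' ⟶ S),
      Function.Surjective p.hom ∧ Function.Injective ι.hom ∧ p ≫ ι = c ∧ q ≫ ι = t := by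
  refine ⟨ModuleCat.of R ↥(LinearMap.range c.hom), ModuleCat.ofHom c.hom.rangeRestrict,
    ModuleCat.ofHom (LinearMap.range c.hom).subtype,
    ModuleCat.ofHom (LinearMap.codRestrict (LinearMap.range c.hom) t.hom
      (fun x => hle ⟨x, rfl⟩)), c.hom.surjective_rangeRestrict, Subtype.val_injective, ?_, ?_⟩
  · ext x; rfl
  · ext x; rfl

/-- a map defined on the source of `t` through lifts along `c` -/
theorem exists_map_of_lifts {M N N' Q : ModuleCat.{u} R} (c : M ⟶ N) (t : N' ⟶ N) (g : M ⟶ Q)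
    (hle : LinearMap.range t.hom ≤ LinearMap.range c.hom)
    (hker : LinearMap.ker c.hom ≤ LinearMap.ker g.hom) :
    ∃ a : N' ⟶ Q, ∀ (x : N') (μ : M), c.hom μ = t.hom x → a.hom x = g.hom μ := by
  obtain ⟨S, p, ι, q, hp, hι, hpι, hqι⟩ := exists_image_factor' c t hle
  have hk : LinearMap.ker p.hom ≤ LinearMap.ker g.hom := by
    intro μ hμ
    apply hker
    rw [LinearMap.mem_ker, ← hpι]
    change ι.hom (p.hom μ) = 0
    rw [LinearMap.mem_ker.1 hμ, map_zero]
  obtain ⟨φ, hφ⟩ := exists_factor_of_surjective p hp g hk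
  refine ⟨q ≫ φ, fun x μ hxμ => ?_⟩
  have h1 : q.hom x = p.hom μ := by
    apply hι
    have e1 : ι.hom (q.hom x) = t.hom x := congrArg (fun s : N' ⟶ N => s.hom x) hqι
    have e2 : ι.hom (p.hom μ) = c.hom μ := congrArg (fun s : M ⟶ N => s.hom μ) hpι
    rw [e1, e2, hxμ]
  change φ.hom (q.hom x) = g.hom μ
  rw [h1]
  exact congrArg (fun s : M ⟶ Q => s.hom μ) hφ

end Mod


section QuotSys

variable {R : CommRingCat.{u}} (I : Ideal R) (M : ModuleCat.{u} R)

/-- `M / I^(n+1) M` -/
noncomputable def Qn (n : ℕ) : ModuleCat.{u} R :=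
  ModuleCat.of R (↑M ⧸ (I ^ (n + 1) • (⊤ : Submodule R M)))

/-- the projection -/
noncomputable def mkn (n : ℕ) : M ⟶ Qn I M n :=
  ModuleCat.ofHom (Submodule.mkQ (I ^ (n + 1) • (⊤ : Submodule R M)))

theorem pow_smul_le (n : ℕ) : I ^ (n + 1 + 1) • (⊤ : Submodule R M) ≤
    (I ^ (n + 1) • (⊤ : Submodule R M)).comap LinearMap.id := by
  rw [Submodule.comap_id]
  exact Submodule.smul_mono (Ideal.pow_le_pow_right (Nat.le_succ _)) le_rfl

/-- the transition maps -/
noncomputable def qtr (n : ℕ) : Qn I M (n + 1) ⟶ Qn I M n :=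
  ModuleCat.ofHom (Submodule.mapQ _ _ LinearMap.id (pow_smul_le I M n))

/-- the system `(M / I^(n+1) M)` -/
noncomputable def Qsys : ℕᵒᵖ ⥤ ModuleCat.{u} R := Functor.ofOpSequence (qtr I M)

theorem Qsys_map_succ (n : ℕ) : (Qsys I M).map (homOfLE (Nat.le_succ n)).op = qtr I M n :=
  Functor.ofOpSequence_map_homOfLE_succ _ n

theorem mkn_qtr (n : ℕ) : mkn I M (n + 1) ≫ qtr I M n = mkn I M n := by
  ext x
  rfl

/-- the cone of projections -/
noncomputable def mkCone : Cone (Qsys I M) where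
  pt := M
  π := NatTrans.ofOpSequence (fun n => mkn I M n) (by
    intro n
    simp only [Functor.const_obj_obj, Functor.const_obj_map, Category.id_comp]
    exact ((congrArg (fun t => mkn I M (n + 1) ≫ t) (Qsys_map_succ I M n)).trans (mkn_qtr I M n)).symm)

theorem mkn_tr {i j : ℕ} (h : i ≤ j) : mkn I M j ≫ ARSys.tr (Qsys I M) h = mkn I M i := by
  have := (mkCone I M).π.naturality (homOfLE h).op
  simp only [Functor.const_obj_obj, Functor.const_obj_map, Category.id_comp] at this
  exact this.symm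

theorem mkn_surjective (n : ℕ) : Function.Surjective (mkn I M n).hom :=
  Submodule.mkQ_surjective _

theorem ker_mkn (n : ℕ) : LinearMap.ker (mkn I M n).hom = I ^ (n + 1) • (⊤ : Submodule R M) :=
  Submodule.ker_mkQ _

theorem smul_Qn_eq_zero (n : ℕ) (a : R) (ha : a ∈ I ^ (n + 1)) (y : Qn I M n) : a • y = 0 := by
  obtain ⟨μ, rfl⟩ := mkn_surjective I M n y
  rw [← map_smul, ← LinearMap.mem_ker, ker_mkn]
  exact Submodule.smul_mem_smul ha Submodule.mem_top

theorem qtr_surjective (n : ℕ) : Function.Surjective (qtr I M n).hom := by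
  intro y
  obtain ⟨μ, rfl⟩ := mkn_surjective I M n y
  refine ⟨(mkn I M (n + 1)).hom μ, ?_⟩
  exact congrArg (fun t : M ⟶ Qn I M n => t.hom μ) (mkn_qtr I M n)

theorem ker_qtr (n : ℕ) :
    LinearMap.ker (qtr I M n).hom = I ^ (n + 1) • (⊤ : Submodule R (Qn I M (n + 1))) := by
  apply le_antisymm
  · intro y hy
    obtain ⟨μ, rfl⟩ := mkn_surjective I M (n + 1) y
    have h1 : (mkn I M n).hom μ = 0 := by
      have := congrArg (fun t : M ⟶ Qn I M n => t.hom μ) (mkn_qtr I M n)
      exact this.symm.trans (LinearMap.mem_ker.1 hy)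
    have h2 : μ ∈ I ^ (n + 1) • (⊤ : Submodule R M) := by
      rw [← ker_mkn]; exact LinearMap.mem_ker.2 h1
    have h3 : Submodule.map (mkn I M (n + 1)).hom (I ^ (n + 1) • (⊤ : Submodule R M)) ≤
        I ^ (n + 1) • (⊤ : Submodule R (Qn I M (n + 1))) := by
      rw [Submodule.map_smul'']
      exact Submodule.smul_mono le_rfl le_top
    exact h3 (Submodule.mem_map_of_mem h2)
  · rw [Submodule.smul_le]
    intro a ha y _
    rw [LinearMap.mem_ker, map_smul]
    exact smul_Qn_eq_zero I M n a ha _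

attribute [local instance 2000] iR

/-- the system of tildes of the quotients is a coherent formal module when the quotients are finite -/
theorem isCohFormal_Qsys_tilde (hfin : ∀ n, Module.Finite R (Qn I M n)) :
    Formal.IsCohFormal I (Qsys I M ⋙ Tf R) := by
  rw [isCohFormal_iff]
  have hkill : ∀ n, Formal.KilledBy (I ^ (n + 1)) ((Tf R).obj (Qn I M n)) := by
    intro n a ha
    have h0 := (sm_comp_eq_zero_iff (Qn I M n) _ (𝟙 ((Tf R).obj (Qn I M n))) a).2 (by
      intro x
      rw [smul_Qn_eq_zero I M n a ha x, map_zero])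
    rwa [Category.comp_id] at h0
  have hqc : ∀ n, ((Tf R).obj (Qn I M n)).IsQuasicoherent := fun n => inferInstance
  refine ⟨fun n => ⟨hqc n, ?_⟩, hkill, fun n => ?_⟩
  · exact (Groth.Agent.Lib.Helper23.FinType.isFiniteType_tilde_iff R (Qn I M n)).2 (hfin n)
  · have hiso : IsIso ((adj R).counit.app ((Tf R).obj (Qn I M n))) :=
      (isQuasicoherent_iff_isIso_fromTildeΓ (R := R) ((Tf R).obj (Qn I M n))).mp (hqc n)
    have hunit : Function.Bijective ((adj R).unit.app (Qn I M n)).hom :=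
      (ConcreteCategory.isIso_iff_bijective _).1 inferInstance
    have hq := isQuotBy_of_surjective (I ^ (n + 1)) (Qn I M (n + 1)) ((Tf R).obj (Qn I M n))
      (qtr I M n ≫ (adj R).unit.app (Qn I M n))
      (by
        rw [ModuleCat.hom_comp]
        exact hunit.2.comp (qtr_surjective I M n))
      (by
        rw [ModuleCat.hom_comp, LinearMap.ker_comp_of_ker_eq_bot _ (LinearMap.ker_eq_bot.2 hunit.1)]
        exact ker_qtr I M n)
    have h3 : (Tf R).map (qtr I M n ≫ (adj R).unit.app (Qn I M n)) ≫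
        (adj R).counit.app ((Tf R).obj (Qn I M n)) = (Tf R).map (qtr I M n) := by
      rw [Functor.map_comp, Category.assoc, (adj R).left_triangle_components, Category.comp_id]
    have h4 : (Qsys I M ⋙ Tf R).map (homOfLE (Nat.le_succ n)).op = (Tf R).map (qtr I M n) :=
      congrArg (Tf R).map (Qsys_map_succ I M n)
    rw [h4, ← h3]
    exact hq

end QuotSys


section ProIso

variable {R : CommRingCat.{u}} (I : Ideal R) (X : ℕᵒᵖ ⥤ ModuleCat.{u} R)

theorem ker_limitπ_antitone {i j : ℕ} (h : i ≤ j) :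
    LinearMap.ker (limit.π X (op j)).hom ≤ LinearMap.ker (limit.π X (op i)).hom := by
  intro x hx
  rw [LinearMap.mem_ker, ← tr_apply_limitπ h x, LinearMap.mem_ker.1 hx, map_zero]

/-- the quotients `M / I^(n+1) M` of the limit are finite -/
theorem finite_Qn
    (hb : ∀ k : ℕ, ∃ n : ℕ, LinearMap.ker (limit.π X (op n)).hom ≤
      I ^ k • (⊤ : Submodule R ↑(limit X)))
    (hc : ∀ n : ℕ, Module.Finite R ↥(LinearMap.range (limit.π X (op n)).hom)) (n : ℕ) :
    Module.Finite R (Qn I (limit X) n) := by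
  obtain ⟨p, hp⟩ := hb (n + 1)
  have := hc p
  let c := limit.π X (op p)
  let pr : limit X ⟶ ModuleCat.of R ↥(LinearMap.range c.hom) := ModuleCat.ofHom c.hom.rangeRestrict
  have hk : LinearMap.ker pr.hom ≤ LinearMap.ker (mkn I (limit X) n).hom := by
    rw [ker_mkn]
    refine le_trans ?_ hp
    intro x hx
    have : c.hom.rangeRestrict x = 0 := LinearMap.mem_ker.1 hx
    exact LinearMap.mem_ker.2 (congrArg Subtype.val this)
  obtain ⟨φ, hφ⟩ := exists_factor_of_surjective pr c.hom.surjective_rangeRestrict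
    (mkn I (limit X) n) hk
  have hsurj : Function.Surjective φ.hom := by
    intro y
    obtain ⟨μ, rfl⟩ := mkn_surjective I (limit X) n y
    exact ⟨pr.hom μ, congrArg (fun t : limit X ⟶ Qn I (limit X) n => t.hom μ) hφ⟩
  exact Module.Finite.of_surjective φ.hom hsurj

/-- a Mittag-Leffler system whose limit topology is `I`-adic is pro-isomorphic to the system of quotients of
its limit -/
theorem isProIsomorphic_Qsys
    (hkill : ∀ (n : ℕ) (a : R), a ∈ I ^ (n + 1) → ∀ x : X.obj (op n), a • x = 0)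
    (ha : ARSys.IsML X)
    (hb : ∀ k : ℕ, ∃ n : ℕ, LinearMap.ker (limit.π X (op n)).hom ≤
      I ^ k • (⊤ : Submodule R ↑(limit X))) :
    Algz.IsProIsomorphic X (Qsys I (limit X)) := by
  choose N₀ hN₀ using exists_range_tr_le_range_limitπ X ha
  choose p₀ hp₀ using hb
  let p : ℕ → ℕ := maj (fun n => p₀ (n + 1))
  have hnp : ∀ n, n ≤ p n := le_maj _
  have hp : ∀ n, LinearMap.ker (limit.π X (op (p n))).hom ≤
      I ^ (n + 1) • (⊤ : Submodule R ↑(limit X)) := fun n =>
    (ker_limitπ_antitone X (self_le_maj (fun n => p₀ (n + 1)) n)).trans (hp₀ (n + 1))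
  have hpmono : Monotone p := maj_monotone _
  let m : ℕ → ℕ := maj (fun n => max (N₀ (p n)) (p n))
  have hm : Monotone m := maj_monotone _
  have hle : ∀ n, n ≤ m n := le_maj _
  have hpm : ∀ n, p n ≤ m n := fun n =>
    (le_max_right _ _).trans (self_le_maj (fun n => max (N₀ (p n)) (p n)) n)
  have hNm : ∀ n, N₀ (p n) ≤ m n := fun n =>
    (le_max_left _ _).trans (self_le_maj (fun n => max (N₀ (p n)) (p n)) n)
  have hrange : ∀ n, LinearMap.range (ARSys.tr X (hpm n)).hom ≤
      LinearMap.range (limit.π X (op (p n))).hom := fun n => hN₀ (p n) (m n) (hpm n) (hNm n)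
  have hex : ∀ n, ∃ a : X.obj (op (m n)) ⟶ Qn I (limit X) n, ∀ (x : X.obj (op (m n)))
      (μ : ↑(limit X)), (limit.π X (op (p n))).hom μ = (ARSys.tr X (hpm n)).hom x →
        a.hom x = (mkn I (limit X) n).hom μ := fun n =>
    exists_map_of_lifts (limit.π X (op (p n))) (ARSys.tr X (hpm n)) (mkn I (limit X) n) (hrange n)
      (by rw [ker_mkn]; exact hp n)
  choose a ha' using hex
  have hlift : ∀ n (x : X.obj (op (m n))), ∃ μ : ↑(limit X),
      (limit.π X (op (p n))).hom μ = (ARSys.tr X (hpm n)).hom x := fun n x => hrange n ⟨x, rfl⟩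
  let α : DerCA.reindex X hm ⟶ Qsys I (limit X) := NatTrans.ofOpSequence (fun n => a n) (by
    intro n
    ext x
    obtain ⟨μ', hμ'⟩ := hlift (n + 1) x
    have e1 : (a (n + 1)).hom x = (mkn I (limit X) (n + 1)).hom μ' := ha' (n + 1) x μ' hμ'
    have e2 : (a n).hom ((ARSys.tr X (hm (Nat.le_succ n))).hom x) = (mkn I (limit X) n).hom μ' := by
      apply ha' n
      rw [tr_apply, ← tr_apply_limitπ (hpmono (Nat.le_succ n)) μ', hμ', tr_apply]
    have e3 : ((Qsys I (limit X)).map (homOfLE (n.le_add_right 1)).op).hom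
        ((mkn I (limit X) (n + 1)).hom μ') = (mkn I (limit X) n).hom μ' :=
      congrArg (fun t : limit X ⟶ Qn I (limit X) n => t.hom μ') (mkn_tr I (limit X) (Nat.le_succ n))
    change (a n).hom ((ARSys.tr X (hm (Nat.le_succ n))).hom x) =
      ((Qsys I (limit X)).map (homOfLE (n.le_add_right 1)).op).hom ((a (n + 1)).hom x)
    rw [e2, e1, e3])
  refine ⟨m, hm, hle, α, fun n => ?_⟩
  -- the map back
  have hkb : LinearMap.ker (mkn I (limit X) (m n)).hom ≤
      LinearMap.ker (limit.π X (op (m n))).hom := by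
    rw [ker_mkn, Submodule.smul_le]
    intro c hc μ _
    rw [LinearMap.mem_ker, map_smul]
    exact hkill (m n) c hc _
  obtain ⟨b, hb'⟩ := exists_factor_of_surjective (mkn I (limit X) (m n)) (mkn_surjective _ _ _)
    (limit.π X (op (m n))) hkb
  have hbμ : ∀ μ : ↑(limit X), b.hom ((mkn I (limit X) (m n)).hom μ) = (limit.π X (op (m n))).hom μ :=
    fun μ => congrArg (fun t : limit X ⟶ X.obj (op (m n)) => t.hom μ) hb'
  refine ⟨m n, hle n, b, ?_, ?_⟩
  · ext x
    obtain ⟨μ, hμ⟩ := hlift (m n) x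
    have e1 : (a (m n)).hom x = (mkn I (limit X) (m n)).hom μ := ha' (m n) x μ hμ
    change b.hom ((a (m n)).hom x) = (ARSys.tr X (hm (hle n))).hom x
    rw [e1, hbμ, ← tr_apply_limitπ (hnp (m n)) μ, hμ, tr_apply]
  · have hepi : Epi (mkn I (limit X) (m n)) :=
      (ModuleCat.epi_iff_surjective _).2 (mkn_surjective _ _ _)
    refine (cancel_epi (mkn I (limit X) (m n))).1 ?_
    have e1 : mkn I (limit X) (m n) ≫ ARSys.tr (Qsys I (limit X)) (hle n) = mkn I (limit X) n :=
      mkn_tr I (limit X) (hle n)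
    have e2 : limit.π X (op (m n)) ≫ a n = mkn I (limit X) n := by
      ext μ
      change (a n).hom ((limit.π X (op (m n))).hom μ) = (mkn I (limit X) n).hom μ
      apply ha' n
      rw [tr_apply_limitπ]
    have e3 : mkn I (limit X) (m n) ≫ (b ≫ a n) = mkn I (limit X) n := by
      rw [← Category.assoc, hb', e2]
    exact e3.trans e1.symm

end ProIso


section Main

variable {R : CommRingCat.{u}} (I : Ideal R) (U : (Spec (CommRingCat.of R)).Opens)
  (G : ℕᵒᵖ ⥤ (U : Scheme.{u}).Modules)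

attribute [local instance 2000] iR

/-- sections of a module killed by `J` are killed by `J` -/
theorem smul_sectMod_eq_zero (n : ℕ) (J : Ideal R) (hk : Formal.KilledBy J (G.obj (op n))) (a : R)
    (ha : a ∈ J) (x : (Algz.sectMod R U G).obj (op n)) : a • x = 0 := by
  have h1 : sm R ((Pf U).obj (G.obj (op n))) a = (Pf U).map (Formal.smulMod R (G.obj (op n)) a) := by
    unfold sm Formal.smulMod
    rw [Groth.Agent.Lib.Helper20.FormalPull.toGlobal_eq U.ι (Category.comp_id _) a]
    exact (Groth.Agent.Lib.Helper20.FormalPull.pushforward_map_smulModΓ U.ι _ _).symm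
  have h2 : sm R ((Pf U).obj (G.obj (op n))) a = 0 := by
    rw [h1, hk a ha, Functor.map_zero]
  have h3 : ((Γf R).map (sm R ((Pf U).obj (G.obj (op n))) a)).hom x = a • x := rfl
  rw [← h3, h2, Functor.map_zero]
  rfl

theorem canonicallyExtends_of_isML (hG : Formal.IsCohFormal I G)
    (ha : ARSys.IsML (Algz.sectMod R U G))
    (hb : ∀ k : ℕ, ∃ n : ℕ, LinearMap.ker (limit.π (Algz.sectMod R U G) (op n)).hom ≤
      I ^ k • (⊤ : Submodule R ↑(limit (Algz.sectMod R U G))))
    (hc : ∀ n : ℕ, Module.Finite R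
      ↥(LinearMap.range (limit.π (Algz.sectMod R U G) (op n)).hom)) :
    Algz.CanonicallyExtends R I U G := by
  refine ⟨Qsys I (limit (Algz.sectMod R U G)) ⋙ Tf R,
    isCohFormal_Qsys_tilde I _ (finite_Qn I _ hb hc), ?_⟩
  have hkill : ∀ (n : ℕ) (a : R), a ∈ I ^ (n + 1) → ∀ x : (Algz.sectMod R U G).obj (op n), a • x = 0 :=
    fun n a ha x => smul_sectMod_eq_zero U G n _ (hG.2.1 n) a ha x
  exact isProIsomorphic_whiskerRight (isProIsomorphic_Qsys I (Algz.sectMod R U G) hkill ha hb) (Tf R)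

end Main

end Groth.Agent.Lib.T2H2.AlgzJ
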