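import Mathlib
import Groth.Prelude.Def_Algz
import Groth.Agent.Lib.T2H2AlgzJ
import Groth.Agent.S9498

/-!
# The system `((M/I^(n+1)M)~|_U)` for `M = lim H⁰(U, G_n)` with `I`-adic limit topology (helper2)

Namespace `Groth.Agent.Lib.T2H2.AlgzK`.
-/

set_option autoImplicit false
universe u
open CategoryTheory Limits Opposite TopologicalSpace AlgebraicGeometry

namespace Groth.Agent.Lib.T2H2.AlgzK

open Groth.Agent.S9530 Groth.Agent.Lib.T2H2.AlgzA Groth.Agent.Lib.T2H2.AlgzB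
  Groth.Agent.Lib.T2H2.AlgzC Groth.Agent.Lib.T2H2.AlgzD Groth.Agent.Lib.T2H2.AlgzF
  Groth.Agent.Lib.T2H2.AlgzH Groth.Agent.Lib.T2H2.AlgzI Groth.Agent.Lib.T2H2.AlgzJ

attribute [local instance] Groth.Agent.Lib.Helper23.QCohLocal.restrictFunctor_isRightAdjoint

section Coh

variable {R : CommRingCat.{u}} [IsNoetherianRing R] {I : Ideal R}
  {U : (Spec (CommRingCat.of R)).Opens} [QuasiCompact U.ι] {G : ℕᵒᵖ ⥤ (U : Scheme.{u}).Modules}

/-- part (i): the restrictions of the `(M / I^(n+1) M)~` are coherent -/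
theorem isCoh_restrict_tilde_Qn (hG : Formal.IsCohFormal I G)
    (hb : ∀ k : ℕ, ∃ n : ℕ, LinearMap.ker (limit.π (Algz.sectMod R U G) (op n)).hom ≤
      I ^ k • (⊤ : Submodule R ↑(limit (Algz.sectMod R U G)))) (n : ℕ) :
    Coh.IsCoh ((Rf U).obj ((Tf R).obj (Qn I (limit (Algz.sectMod R U G)) n))) := by
  obtain ⟨p, hp⟩ := hb (n + 1)
  let c : limit (Algz.sectMod R U G) ⟶ (Γf R).obj ((Pf U).obj (G.obj (op p))) :=
    limit.π (Algz.sectMod R U G) (op p)
  obtain ⟨S, pr, ι, -, hpr, hι, hprι, -⟩ := exists_image_factor' c c le_rfl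
  -- `S~|_U` is a submodule of `G_p`
  have : (G.obj (op p)).IsQuasicoherent := (hG.1 p).1
  have hiso := isIso_eHom U G (op p)
  have hmono1 : Mono ι := (ModuleCat.mono_iff_injective ι).2 hι
  have hmono2 : Mono ((Tf R).map ι) := Groth.Agent.S9498.tilde_map_mono ι
  have hmono2' : Mono ((Rf U).map ((Tf R).map ι)) := inferInstance
  have hmono3 : Mono ((Rf U).map ((Tf R).map ι) ≫ eHom U G (op p)) := mono_comp _ _
  have hqS : ((Rf U).obj ((Tf R).obj S)).IsQuasicoherent := inferInstance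
  have hS : Coh.IsCoh ((Rf U).obj ((Tf R).obj S)) :=
    @Groth.Agent.Lib.T2H5.Devissage.isCoh_of_mono _ _ _ _
      ((Rf U).map ((Tf R).map ι) ≫ eHom U G (op p)) hmono3 (hG.1 p) hqS
  -- `M / I^(n+1) M` is a quotient of `S`
  have hk : LinearMap.ker pr.hom ≤ LinearMap.ker (mkn I (limit (Algz.sectMod R U G)) n).hom := by
    rw [ker_mkn]
    refine le_trans ?_ hp
    intro μ hμ
    rw [LinearMap.mem_ker]
    have e : c.hom μ = ι.hom (pr.hom μ) :=
      (congrArg (fun t : limit (Algz.sectMod R U G) ⟶ _ => t.hom μ) hprι).symm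
    refine e.trans ?_
    have e2 : pr.hom μ = 0 := LinearMap.mem_ker.1 hμ
    exact (congrArg (fun t => ι.hom t) e2).trans (map_zero _)
  obtain ⟨φ, hφ⟩ := exists_factor_of_surjective pr hpr (mkn I (limit (Algz.sectMod R U G)) n) hk
  have hsurj : Function.Surjective φ.hom := by
    intro y
    obtain ⟨μ, rfl⟩ := mkn_surjective I (limit (Algz.sectMod R U G)) n y
    exact ⟨pr.hom μ, congrArg (fun t : limit (Algz.sectMod R U G) ⟶ Qn I _ n => t.hom μ) hφ⟩
  have hepi : Epi φ := (ModuleCat.epi_iff_surjective φ).2 hsurj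
  have hepi1 : Epi ((Tf R).map φ) := inferInstance
  have hepi2 : Epi ((Rf U).map ((Tf R).map φ)) := inferInstance
  have hqQ : ((Rf U).obj ((Tf R).obj (Qn I (limit (Algz.sectMod R U G)) n))).IsQuasicoherent :=
    inferInstance
  exact @Groth.Agent.Lib.T2H5.Devissage.isCoh_of_epi _ _ _ ((Rf U).map ((Tf R).map φ)) hepi2 hS hqQ

end Coh

section Sections

variable {R : CommRingCat.{u}}

/-- a morphism of modules on `Spec R` on sections over `W`, as an `R`-linear map -/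
noncomputable abbrev appL {P P' : (Spec (CommRingCat.of R)).Modules} (φ : P ⟶ P')
    (W : (Spec (CommRingCat.of R)).Opens) :
    (modulesSpecToSheaf.obj P).1.obj (op W) ⟶ (modulesSpecToSheaf.obj P').1.obj (op W) :=
  (modulesSpecToSheaf.map φ).1.app (op W)

theorem appL_apply {P P' : (Spec (CommRingCat.of R)).Modules} (φ : P ⟶ P')
    (W : (Spec (CommRingCat.of R)).Opens) (x : Γ(P, W)) :
    (appL φ W).hom x = Scheme.Modules.Hom.app φ W x := rfl

theorem appL_comp {P P' P'' : (Spec (CommRingCat.of R)).Modules} (φ : P ⟶ P') (ψ : P' ⟶ P'')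
    (W : (Spec (CommRingCat.of R)).Opens) : appL (φ ≫ ψ) W = appL φ W ≫ appL ψ W := by
  have h := congrArg (fun t => t.1.app (op W)) (modulesSpecToSheaf.map_comp φ ψ)
  exact h

theorem appL_id (P : (Spec (CommRingCat.of R)).Modules)
    (W : (Spec (CommRingCat.of R)).Opens) : appL (𝟙 P) W = 𝟙 _ := by
  have h := congrArg (fun t => t.1.app (op W)) (modulesSpecToSheaf.map_id P)
  exact h

/-- Lemma A: a global section of a quasi-coherent module vanishing on `D(f)` is killed by a power of `f` -/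
theorem exists_pow_smul_eq_zero (P : (Spec (CommRingCat.of R)).Modules)
    [hP : IsIso ((adj R).counit.app P)] (f : R) (h : (Γf R).obj P)
    (hh : ((modulesSpecToSheaf.obj P).1.map (homOfLE (le_top : PrimeSpectrum.basicOpen f ≤ ⊤)).op).hom h = 0) :
    ∃ c : Submonoid.powers f, c • h = 0 := by
  have hP' : IsIso P.fromTildeΓ := hP
  have hl := (isIso_fromTildeΓ_iff_isLocalizing P).1 hP' f
  exact (@IsLocalizedModule.eq_zero_iff _ _ (.powers f) _ _ _ _ _ _ _ hl h).1 hh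

section Inj

variable {I : Ideal R}
  {U : (Spec (CommRingCat.of R)).Opens} [QuasiCompact U.ι] {G : ℕᵒᵖ ⥤ (U : Scheme.{u}).Modules}

theorem eq_zero_of_compatible (hG : Formal.IsCohFormal I G)
    (hb : ∀ k : ℕ, ∃ n : ℕ, LinearMap.ker (limit.π (Algz.sectMod R U G) (op n)).hom ≤
      I ^ k • (⊤ : Submodule R ↑(limit (Algz.sectMod R U G))))
    (ℓ : ∀ n : ℕ, Qn I (limit (Algz.sectMod R U G)) n ⟶ (Γf R).obj ((Pf U).obj (G.obj (op n))))
    (hℓ : ∀ n : ℕ, mkn I (limit (Algz.sectMod R U G)) n ≫ ℓ n = limit.π (Algz.sectMod R U G) (op n))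
    (f : R)
    (x : ∀ n : ℕ, Γ((Tf R).obj (Qn I (limit (Algz.sectMod R U G)) n),
      (PrimeSpectrum.basicOpen f : (Spec (CommRingCat.of R)).Opens)))
    (hx : ∀ n, Scheme.Modules.Hom.app ((Tf R).map (qtr I (limit (Algz.sectMod R U G)) n))
      (PrimeSpectrum.basicOpen f : (Spec (CommRingCat.of R)).Opens) (x (n + 1)) = x n)
    (hv : ∀ n, Scheme.Modules.Hom.app
      ((Tf R).map (ℓ n) ≫ (adj R).counit.app ((Pf U).obj (G.obj (op n))))
      (PrimeSpectrum.basicOpen f : (Spec (CommRingCat.of R)).Opens) (x n) = 0) (n₀ : ℕ) :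
    x n₀ = 0 := by
  classical
  let M := limit (Algz.sectMod R U G)
  let W : (Spec (CommRingCat.of R)).Opens := PrimeSpectrum.basicOpen f
  -- Step 1
  have step1 : ∀ d : ℕ, ∃ τ : Qn I M (n₀ + d) ⟶ Qn I M n₀, mkn I M (n₀ + d) ≫ τ = mkn I M n₀ ∧
      (appL ((Tf R).map τ) W).hom (x (n₀ + d)) = x n₀ := by
    intro d
    induction d with
    | zero =>
      refine ⟨𝟙 _, Category.comp_id _, ?_⟩
      have e1 : (Tf R).map (𝟙 (Qn I M n₀)) = 𝟙 _ := (Tf R).map_id _
      have e2 : appL ((Tf R).map (𝟙 (Qn I M n₀))) W = 𝟙 _ :=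
        (congrArg (fun t => appL t W) e1).trans (appL_id _ W)
      exact congrArg (fun t : (modulesSpecToSheaf.obj ((Tf R).obj (Qn I M n₀))).1.obj (op W) ⟶
        (modulesSpecToSheaf.obj ((Tf R).obj (Qn I M n₀))).1.obj (op W) => t.hom (x n₀)) e2
    | succ d ih =>
      obtain ⟨τ, h1, h2⟩ := ih
      refine ⟨qtr I M (n₀ + d) ≫ τ, ?_, ?_⟩
      · have e0 : mkn I M (n₀ + d + 1) ≫ qtr I M (n₀ + d) = mkn I M (n₀ + d) := mkn_qtr I M (n₀ + d)
        calc mkn I M (n₀ + d + 1) ≫ qtr I M (n₀ + d) ≫ τ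
            = (mkn I M (n₀ + d + 1) ≫ qtr I M (n₀ + d)) ≫ τ := (Category.assoc _ _ _).symm
          _ = mkn I M (n₀ + d) ≫ τ := congrArg (fun t => t ≫ τ) e0
          _ = mkn I M n₀ := h1
      · have e1 : appL ((Tf R).map (qtr I M (n₀ + d) ≫ τ)) W =
            appL ((Tf R).map (qtr I M (n₀ + d))) W ≫ appL ((Tf R).map τ) W :=
          (congrArg (fun t => appL t W) ((Tf R).map_comp _ _)).trans (appL_comp _ _ W)
        have e' : (appL ((Tf R).map (qtr I M (n₀ + d))) W).hom (x (n₀ + d + 1)) = x (n₀ + d) :=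
          hx (n₀ + d)
        have e2 := congrArg (fun t : (modulesSpecToSheaf.obj ((Tf R).obj (Qn I M (n₀ + d + 1)))).1.obj (op W) ⟶
          (modulesSpecToSheaf.obj ((Tf R).obj (Qn I M n₀))).1.obj (op W) => t.hom (x (n₀ + d + 1))) e1
        refine e2.trans ?_
        change (appL ((Tf R).map τ) W).hom
          ((appL ((Tf R).map (qtr I M (n₀ + d))) W).hom (x (n₀ + d + 1))) = x n₀
        exact (congrArg (fun t => (appL ((Tf R).map τ) W).hom t) e').trans h2
  -- Step 2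
  obtain ⟨p, hp⟩ := hb (n₀ + 1)
  obtain ⟨τ, hτ1, hτ2⟩ := step1 p
  have hker : LinearMap.ker (limit.π (Algz.sectMod R U G) (op (n₀ + p))).hom ≤
      I ^ (n₀ + 1) • (⊤ : Submodule R M) :=
    (ker_limitπ_antitone (Algz.sectMod R U G) (Nat.le_add_left p n₀)).trans hp
  -- Step 3
  obtain ⟨⟨q, s⟩, hqs⟩ := IsLocalizedModule.surj (.powers f)
    (tilde.toOpen (Qn I M (n₀ + p)) W).hom (x (n₀ + p))
  -- Step 4
  have hq : (G.obj (op (n₀ + p))).IsQuasicoherent := (hG.1 (n₀ + p)).1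
  have hP := Groth.Agent.Lib.Helper23.QCohLocal.isQuasicoherent_pushforward U.ι (G.obj (op (n₀ + p)))
  have hPiso : IsIso ((adj R).counit.app ((Pf U).obj (G.obj (op (n₀ + p))))) :=
    (isQuasicoherent_iff_isIso_fromTildeΓ (R := R) _).mp hP
  let P := (Pf U).obj (G.obj (op (n₀ + p)))
  have e1 : tilde.toOpen (Qn I M (n₀ + p)) W ≫
      appL ((Tf R).map (ℓ (n₀ + p)) ≫ (adj R).counit.app P) W =
      ℓ (n₀ + p) ≫ (modulesSpecToSheaf.obj P).1.map (homOfLE (le_top : W ≤ ⊤)).op := by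
    have a1 : appL ((Tf R).map (ℓ (n₀ + p)) ≫ (adj R).counit.app P) W =
        appL ((Tf R).map (ℓ (n₀ + p))) W ≫ appL ((adj R).counit.app P) W := appL_comp _ _ W
    have a2 : tilde.toOpen (Qn I M (n₀ + p)) W ≫ appL ((Tf R).map (ℓ (n₀ + p))) W =
        ℓ (n₀ + p) ≫ tilde.toOpen _ W := tilde.toOpen_map_app (ℓ (n₀ + p)) W
    have a3 : tilde.toOpen ((Γf R).obj P) W ≫ appL ((adj R).counit.app P) W =
        (modulesSpecToSheaf.obj P).1.map (homOfLE (le_top : W ≤ ⊤)).op :=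
      Scheme.Modules.toOpen_fromTildeΓ_app P W
    calc tilde.toOpen (Qn I M (n₀ + p)) W ≫
          appL ((Tf R).map (ℓ (n₀ + p)) ≫ (adj R).counit.app P) W
        = tilde.toOpen (Qn I M (n₀ + p)) W ≫ appL ((Tf R).map (ℓ (n₀ + p))) W ≫
            appL ((adj R).counit.app P) W :=
          congrArg (fun t => tilde.toOpen (Qn I M (n₀ + p)) W ≫ t) a1
      _ = (tilde.toOpen (Qn I M (n₀ + p)) W ≫ appL ((Tf R).map (ℓ (n₀ + p))) W) ≫
            appL ((adj R).counit.app P) W := (Category.assoc _ _ _).symm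
      _ = (ℓ (n₀ + p) ≫ tilde.toOpen _ W) ≫ appL ((adj R).counit.app P) W :=
          congrArg (fun t => t ≫ appL ((adj R).counit.app P) W) a2
      _ = ℓ (n₀ + p) ≫ tilde.toOpen _ W ≫ appL ((adj R).counit.app P) W := Category.assoc _ _ _
      _ = _ := congrArg (fun t => ℓ (n₀ + p) ≫ t) a3
  have h4 : ((modulesSpecToSheaf.obj P).1.map (homOfLE (le_top : W ≤ ⊤)).op).hom
      ((ℓ (n₀ + p)).hom q) = 0 := by
    have e2 := congrArg (fun t : Qn I M (n₀ + p) ⟶ (modulesSpecToSheaf.obj P).1.obj (op W) =>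
      t.hom q) e1
    refine e2.symm.trans ?_
    change (appL ((Tf R).map (ℓ (n₀ + p)) ≫ (adj R).counit.app P) W).hom
      ((tilde.toOpen (Qn I M (n₀ + p)) W).hom q) = 0
    have e3 : (appL ((Tf R).map (ℓ (n₀ + p)) ≫ (adj R).counit.app P) W).hom (x (n₀ + p)) = 0 :=
      hv (n₀ + p)
    have e4 : (appL ((Tf R).map (ℓ (n₀ + p)) ≫ (adj R).counit.app P) W).hom
        ((s : R) • x (n₀ + p)) =
        (s : R) • (appL ((Tf R).map (ℓ (n₀ + p)) ≫ (adj R).counit.app P) W).hom (x (n₀ + p)) :=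
      (appL ((Tf R).map (ℓ (n₀ + p)) ≫ (adj R).counit.app P) W).hom.map_smul _ _
    have hqs' : (s : R) • x (n₀ + p) = (tilde.toOpen (Qn I M (n₀ + p)) W).hom q := hqs
    calc (appL ((Tf R).map (ℓ (n₀ + p)) ≫ (adj R).counit.app P) W).hom
          ((tilde.toOpen (Qn I M (n₀ + p)) W).hom q)
        = (appL ((Tf R).map (ℓ (n₀ + p)) ≫ (adj R).counit.app P) W).hom ((s : R) • x (n₀ + p)) :=
          congrArg (fun t => (appL ((Tf R).map (ℓ (n₀ + p)) ≫ (adj R).counit.app P) W).hom t)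
            hqs'.symm
      _ = (s : R) • (appL ((Tf R).map (ℓ (n₀ + p)) ≫ (adj R).counit.app P) W).hom (x (n₀ + p)) := e4
      _ = (s : R) • 0 := congrArg (fun t => (s : R) • t) e3
      _ = 0 := smul_zero _
  -- Step 5
  obtain ⟨c, hc⟩ := exists_pow_smul_eq_zero P f ((ℓ (n₀ + p)).hom q) h4
  obtain ⟨μ, hμ⟩ := mkn_surjective I M (n₀ + p) ((c : R) • q)
  have h5 : (limit.π (Algz.sectMod R U G) (op (n₀ + p))).hom μ = 0 := by
    have e := congrArg (fun t : M ⟶ (Γf R).obj P => t.hom μ) (hℓ (n₀ + p))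
    refine e.symm.trans ?_
    change (ℓ (n₀ + p)).hom ((mkn I M (n₀ + p)).hom μ) = 0
    have e' : (ℓ (n₀ + p)).hom ((c : R) • q) = (c : R) • (ℓ (n₀ + p)).hom q :=
      (ℓ (n₀ + p)).hom.map_smul _ _
    exact (congrArg (fun t => (ℓ (n₀ + p)).hom t) hμ).trans (e'.trans hc)
  have h6 : (mkn I M n₀).hom μ = 0 := by
    have hm : μ ∈ LinearMap.ker (mkn I M n₀).hom := by
      rw [ker_mkn]; exact hker (LinearMap.mem_ker.2 h5)
    exact LinearMap.mem_ker.1 hm
  have h7 : τ.hom ((c : R) • q) = 0 := by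
    have e := congrArg (fun t : M ⟶ Qn I M n₀ => t.hom μ) hτ1
    have e' : τ.hom ((mkn I M (n₀ + p)).hom μ) = (mkn I M n₀).hom μ := e
    exact (congrArg (fun t => τ.hom t) hμ.symm).trans (e'.trans h6)
  -- Step 6
  have a2 : tilde.toOpen (Qn I M (n₀ + p)) W ≫ appL ((Tf R).map τ) W =
      τ ≫ tilde.toOpen (Qn I M n₀) W := tilde.toOpen_map_app τ W
  have h8 : ((c : R) * (s : R)) • x n₀ = 0 := by
    have b1 : (appL ((Tf R).map τ) W).hom (((c : R) * (s : R)) • x (n₀ + p)) =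
        ((c : R) * (s : R)) • (appL ((Tf R).map τ) W).hom (x (n₀ + p)) :=
      (appL ((Tf R).map τ) W).hom.map_smul _ _
    have hqs' : (s : R) • x (n₀ + p) = (tilde.toOpen (Qn I M (n₀ + p)) W).hom q := hqs
    have b2 : ((c : R) * (s : R)) • x (n₀ + p) =
        (tilde.toOpen (Qn I M (n₀ + p)) W).hom ((c : R) • q) := by
      rw [mul_smul, hqs']
      exact ((tilde.toOpen (Qn I M (n₀ + p)) W).hom.map_smul _ _).symm
    have b3 := congrArg (fun t : Qn I M (n₀ + p) ⟶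
      (modulesSpecToSheaf.obj ((Tf R).obj (Qn I M n₀))).1.obj (op W) => t.hom ((c : R) • q)) a2
    have b3' : (appL ((Tf R).map τ) W).hom ((tilde.toOpen (Qn I M (n₀ + p)) W).hom ((c : R) • q)) =
        (tilde.toOpen (Qn I M n₀) W).hom (τ.hom ((c : R) • q)) := b3
    have c1 : ((c : R) * (s : R)) • x n₀ =
        ((c : R) * (s : R)) • (appL ((Tf R).map τ) W).hom (x (n₀ + p)) :=
      congrArg (fun t => ((c : R) * (s : R)) • t) hτ2.symm
    have c2 : (appL ((Tf R).map τ) W).hom (((c : R) * (s : R)) • x (n₀ + p)) =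
        (appL ((Tf R).map τ) W).hom ((tilde.toOpen (Qn I M (n₀ + p)) W).hom ((c : R) • q)) :=
      congrArg (fun t => (appL ((Tf R).map τ) W).hom t) b2
    have c3 : (tilde.toOpen (Qn I M n₀) W).hom (τ.hom ((c : R) • q)) = 0 :=
      (congrArg (fun t => (tilde.toOpen (Qn I M n₀) W).hom t) h7).trans
        (map_zero (tilde.toOpen (Qn I M n₀) W).hom)
    exact c1.trans (b1.symm.trans (c2.trans (b3'.trans c3)))
  -- Step 7
  have hu := IsLocalizedModule.map_units (S := .powers f) (tilde.toOpen (Qn I M n₀) W).hom (c * s)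
  have hinj := ((Module.End.isUnit_iff _).1 hu).injective
  have h9 : ((c : R) * (s : R)) • x n₀ = ((c : R) * (s : R)) • (0 : Γ((Tf R).obj (Qn I M n₀), W)) :=
    h8.trans (smul_zero ((c : R) * (s : R))).symm
  exact hinj h9

end Inj


end Sections

end Groth.Agent.Lib.T2H2.AlgzK
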