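import Groth.Agent.S9530
import Groth.Prelude.Def_Formal2
import Mathlib

/-! helper9: cokernels of composites of monos; `M/(f)^k M` as cokernel of `f^k` (S8821). -/

set_option autoImplicit false
universe v u
open CategoryTheory CategoryTheory.Limits AlgebraicGeometry

namespace Groth.Agent.Lib.T2H9.CokPow

variable {C : Type u} [Category.{v} C] [Abelian C]

/-- If `φ : M ⟶ N` is mono and `π : N ⟶ Q` is a cokernel of `φ`, any map killed by `π` factors
through `φ`. -/
theorem exists_lift_of_comp_cokernel_eq_zero {M N Q T : C} (φ : M ⟶ N) [Mono φ] (π : N ⟶ Q)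
    (w : φ ≫ π = 0) (hπ : IsColimit (CokernelCofork.ofπ π w)) (x : T ⟶ N) (hx : x ≫ π = 0) :
    ∃ y : T ⟶ M, y ≫ φ = x := by
  have hk : IsLimit (KernelFork.ofι φ w) := Abelian.monoIsKernelOfCokernel _ hπ
  exact ⟨hk.lift (KernelFork.ofι x hx), hk.fac _ WalkingParallelPair.zero⟩

theorem epi_of_isCokernel {M N Q : C} (φ : M ⟶ N) (π : N ⟶ Q)
    (w : φ ≫ π = 0) (hπ : IsColimit (CokernelCofork.ofπ π w)) : Epi π :=
  epi_of_isColimit_cofork hπ

/-- For composable monos `u`, `v`: `0 → coker u → coker (u ≫ v) → coker v → 0` is short exact. -/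
theorem shortExact_cokernel_comp {A B D Qu Qv Quv : C} (u : A ⟶ B) (v : B ⟶ D) [Mono u] [Mono v]
    (c : A ⟶ D) (hc : u ≫ v = c)
    (πu : B ⟶ Qu) (πv : D ⟶ Qv) (πuv : D ⟶ Quv)
    (wu : u ≫ πu = 0) (wv : v ≫ πv = 0) (wuv : c ≫ πuv = 0)
    (hu : IsColimit (CokernelCofork.ofπ πu wu)) (hv : IsColimit (CokernelCofork.ofπ πv wv))
    (huv : IsColimit (CokernelCofork.ofπ πuv wuv))
    (i : Qu ⟶ Quv) (t : Quv ⟶ Qv) (hi : πu ≫ i = v ≫ πuv) (ht : πuv ≫ t = πv) :
    Mono i ∧ ∃ w : i ≫ t = 0, (ShortComplex.mk i t w).ShortExact := by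
  have eu : Epi πu := epi_of_isCokernel u πu wu hu
  have ev : Epi πv := epi_of_isCokernel v πv wv hv
  have euv : Epi πuv := epi_of_isCokernel c πuv wuv huv
  have hcm : Mono c := by rw [← hc]; exact mono_comp _ _
  have w : i ≫ t = 0 := by
    rw [← cancel_epi πu, ← Category.assoc, hi, Category.assoc, ht, wv, comp_zero]
  have hmono : Mono i := by
    apply Preadditive.mono_of_cancel_zero
    intro T x hx
    obtain ⟨T', e, he, x', hx'⟩ := surjective_up_to_refinements_of_epi πu x
    have h1 : (x' ≫ v) ≫ πuv = 0 := by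
      rw [Category.assoc, ← hi, ← Category.assoc, ← hx', Category.assoc, hx, comp_zero]
    obtain ⟨y, hy⟩ := exists_lift_of_comp_cokernel_eq_zero c πuv wuv huv (x' ≫ v) h1
    have h2 : y ≫ u = x' := by
      rw [← cancel_mono v, Category.assoc, hc, hy]
    have h3 : e ≫ x = 0 := by
      rw [hx', ← h2, Category.assoc, wu, comp_zero]
    rw [← cancel_epi e, h3, comp_zero]
  have hepi : Epi t := by
    have : Epi (πuv ≫ t) := by rw [ht]; exact ev
    exact epi_of_epi πuv t
  refine ⟨hmono, w, ?_⟩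
  have hex : (ShortComplex.mk i t w).Exact := by
    rw [ShortComplex.exact_iff_exact_up_to_refinements]
    intro T x hx
    dsimp at x hx
    obtain ⟨T', e, he, x', hx'⟩ := surjective_up_to_refinements_of_epi πuv x
    have h1 : x' ≫ πv = 0 := by
      rw [← ht, ← Category.assoc, ← hx', Category.assoc, hx, comp_zero]
    obtain ⟨y, hy⟩ := exists_lift_of_comp_cokernel_eq_zero v πv wv hv x' h1
    refine ⟨T', e, he, y ≫ πu, ?_⟩
    dsimp
    rw [Category.assoc, hi, ← Category.assoc, hy, hx']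
  exact { exact := hex, mono_f := hmono, epi_g := hepi }

end Groth.Agent.Lib.T2H9.CokPow

namespace Groth.Agent.Lib.T2H9.ModPow

variable {A : Type u} [CommRing A] {X : Scheme.{u}} [X.Over (Spec (CommRingCat.of A))]

theorem smulModΓ_mul (M : X.Modules) (r s : Coh.Γtop X) :
    Formal.smulModΓ M (r * s) = Formal.smulModΓ M s ≫ Formal.smulModΓ M r := by
  apply Scheme.Modules.hom_ext
  intro U
  ext m
  change @HSMul.hSMul (X.ringCatSheaf.obj.obj (Opposite.op U)) (M.val.obj (Opposite.op U))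
      (M.val.obj (Opposite.op U)) _ (Coh.resTop X (Opposite.op U) (r * s)) m =
    @HSMul.hSMul (X.ringCatSheaf.obj.obj (Opposite.op U)) (M.val.obj (Opposite.op U))
      (M.val.obj (Opposite.op U)) _ (Coh.resTop X (Opposite.op U) r)
      (@HSMul.hSMul (X.ringCatSheaf.obj.obj (Opposite.op U)) (M.val.obj (Opposite.op U))
      (M.val.obj (Opposite.op U)) _ (Coh.resTop X (Opposite.op U) s) m)
  rw [map_mul, mul_smul]

theorem smulModΓ_one (M : X.Modules) : Formal.smulModΓ M (1 : Coh.Γtop X) = 𝟙 M := by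
  apply Scheme.Modules.hom_ext
  intro U
  ext m
  change @HSMul.hSMul (X.ringCatSheaf.obj.obj (Opposite.op U)) (M.val.obj (Opposite.op U))
      (M.val.obj (Opposite.op U)) _ (Coh.resTop X (Opposite.op U) 1) m = m
  rw [map_one, one_smul]

variable (A) in
theorem smulMod_mul (M : X.Modules) (a b : A) :
    Formal.smulMod A M (a * b) = Formal.smulMod A M b ≫ Formal.smulMod A M a := by
  unfold Formal.smulMod
  rw [map_mul, smulModΓ_mul]

variable (A) in
theorem smulMod_one (M : X.Modules) : Formal.smulMod A M (1 : A) = 𝟙 M := by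
  unfold Formal.smulMod
  rw [map_one, smulModΓ_one]

variable (A) in
theorem mono_smulMod_pow (M : X.Modules) (f : A) (h : Mono (Formal.smulMod A M f)) (n : ℕ) :
    Mono (Formal.smulMod A M (f ^ n)) := by
  induction n with
  | zero => rw [pow_zero, smulMod_one]; infer_instance
  | succ n ih =>
    rw [pow_succ, smulMod_mul]
    exact mono_comp _ _

theorem smulMod_pow_comp_modPowπ (M : X.Modules) (f : A) (k : ℕ) :
    Formal.smulMod A M (f ^ k) ≫ Formal.modPowπ (Ideal.span ({f} : Set A)) k M = 0 := by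
  have h : Formal.smulFamily (Ideal.span ({f} : Set A) ^ k) M ≫
      Formal.modPowπ (Ideal.span ({f} : Set A)) k M = 0 := by
    unfold Formal.modPowπ
    exact cokernel.condition _
  have hmem : f ^ k ∈ Ideal.span ({f} : Set A) ^ k :=
    Ideal.pow_mem_pow (Ideal.subset_span (Set.mem_singleton f)) k
  exact (Groth.Agent.S9530.smulFamily_comp_eq_zero_iff _).mp h _ hmem

/-- `M ⟶ M / (f)^k M` is a cokernel of multiplication by `f ^ k`. -/
noncomputable def isColimitModPowπ (M : X.Modules) (f : A) (k : ℕ) :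
    IsColimit (CokernelCofork.ofπ (Formal.modPowπ (Ideal.span ({f} : Set A)) k M)
      (smulMod_pow_comp_modPowπ M f k)) := by
  have key : ∀ {T : X.Modules} (g : M ⟶ T), Formal.smulMod A M (f ^ k) ≫ g = 0 →
      Formal.smulFamily (Ideal.span ({f} : Set A) ^ k) M ≫ g = 0 := by
    intro T g hg
    rw [Groth.Agent.S9530.smulFamily_comp_eq_zero_iff]
    intro a ha
    rw [Ideal.span_singleton_pow, Ideal.mem_span_singleton'] at ha
    obtain ⟨b, rfl⟩ := ha
    rw [smulMod_mul, Category.assoc, Groth.Agent.S9530.smulMod_comp g b, ← Category.assoc, hg,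
      zero_comp]
  exact CokernelCofork.IsColimit.ofπ _ _
    (fun g hg => cokernel.desc _ g (key g hg))
    (fun g hg => cokernel.π_desc _ _ _)
    (fun g hg m hm => by
      apply coequalizer.hom_ext
      erw [cokernel.π_desc]
      exact hm)


theorem exists_shortExact_modPow (F : X.Modules) (f : A) (hF : Mono (Formal.smulMod A F f))
    (n : ℕ) :
    ∃ i : Formal.modPow (Ideal.span ({f} : Set A)) 1 F ⟶
        Formal.modPow (Ideal.span ({f} : Set A)) (n + 1) F,
      Mono i ∧
      Formal2.modPowLE (Ideal.span ({f} : Set A)) (Nat.le_add_left 1 n) F ≫ i =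
        Formal.smulMod A (Formal.modPow (Ideal.span ({f} : Set A)) (n + 1) F) (f ^ n) ∧
      ∃ w : i ≫ Formal.modPowTrans (Ideal.span ({f} : Set A)) n F = 0,
        (ShortComplex.mk i (Formal.modPowTrans (Ideal.span ({f} : Set A)) n F) w).ShortExact := by
  have m1 : Mono (Formal.smulMod A F (f ^ 1)) := mono_smulMod_pow A F f hF 1
  have mn : Mono (Formal.smulMod A F (f ^ n)) := mono_smulMod_pow A F f hF n
  have hc : Formal.smulMod A F (f ^ 1) ≫ Formal.smulMod A F (f ^ n) =
      Formal.smulMod A F (f ^ (n + 1)) := by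
    rw [← smulMod_mul, ← pow_add]
  have hdesc : Formal.smulMod A F (f ^ 1) ≫ (Formal.smulMod A F (f ^ n) ≫
      Formal.modPowπ (Ideal.span ({f} : Set A)) (n + 1) F) = 0 := by
    rw [← Category.assoc, hc, smulMod_pow_comp_modPowπ]
  have hi := (isColimitModPowπ F f 1).fac
    (CokernelCofork.ofπ (Formal.smulMod A F (f ^ n) ≫
      Formal.modPowπ (Ideal.span ({f} : Set A)) (n + 1) F) hdesc) WalkingParallelPair.one
  have key := Groth.Agent.Lib.T2H9.CokPow.shortExact_cokernel_comp
    (Formal.smulMod A F (f ^ 1)) (Formal.smulMod A F (f ^ n)) (Formal.smulMod A F (f ^ (n + 1))) hc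
    (Formal.modPowπ (Ideal.span ({f} : Set A)) 1 F)
    (Formal.modPowπ (Ideal.span ({f} : Set A)) n F)
    (Formal.modPowπ (Ideal.span ({f} : Set A)) (n + 1) F)
    (smulMod_pow_comp_modPowπ F f 1) (smulMod_pow_comp_modPowπ F f n)
    (smulMod_pow_comp_modPowπ F f (n + 1))
    (isColimitModPowπ F f 1) (isColimitModPowπ F f n) (isColimitModPowπ F f (n + 1))
    ((isColimitModPowπ F f 1).desc (CokernelCofork.ofπ (Formal.smulMod A F (f ^ n) ≫
      Formal.modPowπ (Ideal.span ({f} : Set A)) (n + 1) F) hdesc))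
    (Formal.modPowTrans (Ideal.span ({f} : Set A)) n F) hi (Formal.modPowπ_trans _ n F)
  refine ⟨_, key.1, ?_, key.2⟩
  have he : Epi (Formal.modPowπ (Ideal.span ({f} : Set A)) (n + 1) F) :=
    Groth.Agent.Lib.T2H9.CokPow.epi_of_isCokernel _ _ (smulMod_pow_comp_modPowπ F f (n + 1))
      (isColimitModPowπ F f (n + 1))
  rw [← cancel_epi (Formal.modPowπ (Ideal.span ({f} : Set A)) (n + 1) F), ← Category.assoc,
    Formal2.modPowπ_modPowLE]
  exact hi.trans (Groth.Agent.S9530.smulMod_comp _ _)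

end Groth.Agent.Lib.T2H9.ModPow
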