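import Mathlib
import Groth.Prelude.Def_Algz
import Groth.Agent.Lib.T2H2AlgzD
import Groth.Agent.Lib.T2H9ModPow
import Groth.Agent.Lib.Helper13QcqsBC
import Groth.Agent.Lib.T2H5GenIsoD

/-!
# Canonical extensions and flat base change (helper2)

Namespace `Groth.Agent.Lib.T2H2.AlgzL`.
-/

set_option autoImplicit false
universe u
open CategoryTheory Limits Opposite TopologicalSpace AlgebraicGeometry

namespace Groth.Agent.Lib.T2H2.AlgzL

open Groth.Agent.S9530 Groth.Agent.Lib.T2H2.AlgzA Groth.Agent.Lib.T2H2.AlgzB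
  Groth.Agent.Lib.T2H2.AlgzC

section Add

variable {X : Scheme.{u}}

theorem smulModΓ_add (M : X.Modules) (r s : Coh.Γtop X) :
    Formal.smulModΓ M (r + s) = Formal.smulModΓ M r + Formal.smulModΓ M s := by
  apply Scheme.Modules.hom_ext
  intro U
  ext m
  change @HSMul.hSMul (X.ringCatSheaf.obj.obj (Opposite.op U)) (M.val.obj (Opposite.op U))
      (M.val.obj (Opposite.op U)) _ (Coh.resTop X (Opposite.op U) (r + s)) m =
    @HSMul.hSMul (X.ringCatSheaf.obj.obj (Opposite.op U)) (M.val.obj (Opposite.op U))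
      (M.val.obj (Opposite.op U)) _ (Coh.resTop X (Opposite.op U) r) m +
    @HSMul.hSMul (X.ringCatSheaf.obj.obj (Opposite.op U)) (M.val.obj (Opposite.op U))
      (M.val.obj (Opposite.op U)) _ (Coh.resTop X (Opposite.op U) s) m
  rw [map_add, add_smul]

theorem smulModΓ_zero (M : X.Modules) : Formal.smulModΓ M (0 : Coh.Γtop X) = 0 := by
  apply Scheme.Modules.hom_ext
  intro U
  ext m
  change @HSMul.hSMul (X.ringCatSheaf.obj.obj (Opposite.op U)) (M.val.obj (Opposite.op U))
      (M.val.obj (Opposite.op U)) _ (Coh.resTop X (Opposite.op U) 0) m = 0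
  rw [map_zero, zero_smul]

end Add

section Transfer

variable {A A' : Type u} [CommRing A] [CommRing A'] (ψ : A →+* A') {X : Scheme.{u}}
  (iA : X.Over (Spec (CommRingCat.of A))) (iA' : X.Over (Spec (CommRingCat.of A')))
  (hψ : ∀ a : A, Coh.toGlobal iA.hom a = Coh.toGlobal iA'.hom (ψ a))

include hψ in
theorem smulMod_transfer (M : X.Modules) (a : A) :
    @Formal.smulMod A' _ X iA' M (ψ a) = @Formal.smulMod A _ X iA M a := by
  unfold Formal.smulMod
  exact congrArg (fun t => Formal.smulModΓ M t) (hψ a).symm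

include hψ in
/-- a morphism out of `M` killing `J` (over `A`) kills `J A'` (over `A'`) -/
theorem comp_eq_zero_transfer (J : Ideal A) {M T : X.Modules} (g : M ⟶ T)
    (hg : ∀ a ∈ J, @Formal.smulMod A _ X iA M a ≫ g = 0) :
    ∀ a' ∈ J.map ψ, @Formal.smulMod A' _ X iA' M a' ≫ g = 0 := by
  intro a' ha'
  unfold Ideal.map at ha'
  induction ha' using Submodule.span_induction with
  | mem x hx =>
    obtain ⟨a, ha, rfl⟩ := hx
    rw [smulMod_transfer ψ iA iA' hψ]
    exact hg a ha
  | zero =>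
    have : @Formal.smulMod A' _ X iA' M 0 = 0 := by
      unfold Formal.smulMod
      rw [map_zero, smulModΓ_zero]
    rw [this, zero_comp]
  | add x y _ _ hx hy =>
    have : @Formal.smulMod A' _ X iA' M (x + y) =
        @Formal.smulMod A' _ X iA' M x + @Formal.smulMod A' _ X iA' M y := by
      unfold Formal.smulMod
      rw [map_add, smulModΓ_add]
    rw [this, Preadditive.add_comp, hx, hy, add_zero]
  | smul c x _ hx =>
    have : @Formal.smulMod A' _ X iA' M (c • x) =
        @Formal.smulMod A' _ X iA' M c ≫ @Formal.smulMod A' _ X iA' M x := by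
      rw [smul_eq_mul, mul_comm]
      exact @Groth.Agent.Lib.T2H9.ModPow.smulMod_mul A' _ X iA' M x c
    rw [this, Category.assoc, hx, comp_zero]

include hψ in
theorem killedBy_transfer (J : Ideal A) (M : X.Modules) (h : @Formal.KilledBy A _ X iA J M) :
    @Formal.KilledBy A' _ X iA' (J.map ψ) M := by
  intro a' ha'
  have := comp_eq_zero_transfer ψ iA iA' hψ J (𝟙 M) (fun a ha => by rw [Category.comp_id]; exact h a ha)
    a' ha'
  rwa [Category.comp_id] at this

include hψ in
theorem isQuotBy_transfer (J : Ideal A) {M M' : X.Modules} (t : M ⟶ M')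
    (ht : @IsQuotBy A _ X iA J M M' t) : @IsQuotBy A' _ X iA' (J.map ψ) M M' t := by
  refine @IsQuotBy.mk A' _ X iA' (J.map ψ) M M' t ht.epi ?_ ?_
  · exact comp_eq_zero_transfer ψ iA iA' hψ J t ht.kill
  · intro T g hg
    refine ht.fac T g (fun a ha => ?_)
    rw [← smulMod_transfer ψ iA iA' hψ]
    exact hg (ψ a) (Ideal.mem_map_of_mem ψ ha)

include hψ in
theorem isCohFormal_transfer (I : Ideal A) (G : ℕᵒᵖ ⥤ X.Modules)
    (hG : @Formal.IsCohFormal A _ X iA I G) : @Formal.IsCohFormal A' _ X iA' (I.map ψ) G := by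
  rw [@isCohFormal_iff A _ X iA] at hG
  rw [@isCohFormal_iff A' _ X iA']
  obtain ⟨h1, h2, h3⟩ := hG
  refine ⟨h1, fun n => ?_, fun n => ?_⟩
  · rw [← Ideal.map_pow]
    exact killedBy_transfer ψ iA iA' hψ _ _ (h2 n)
  · rw [← Ideal.map_pow]
    exact isQuotBy_transfer ψ iA iA' hψ _ _ (h3 n)

end Transfer

section BCNat

open Scheme.Modules Groth.Agent.Helper13AffBC

variable {X S X' S' : Scheme.{u}} (f : X ⟶ S) (g : S' ⟶ S) (g' : X' ⟶ X) (f' : X' ⟶ S')
  (h : IsPullback g' f' f g)

theorem vMap_naturality {F F' : X.Modules} (α : F ⟶ F') :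
    (pushforward f).map α ≫ vMap f g g' f' h F' =
      vMap f g g' f' h F ≫ (pushforward g).map ((pushforward f').map
        ((Scheme.Modules.pullback g').map α)) := by
  unfold vMap
  have e1 : (pushforward f).map α ≫
      (pushforward f).map ((pullbackPushforwardAdjunction g').unit.app F') =
      (pushforward f).map ((pullbackPushforwardAdjunction g').unit.app F) ≫
        (pushforward f).map ((pushforward g').map ((Scheme.Modules.pullback g').map α)) := by
    rw [← Functor.map_comp, ← Functor.map_comp]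
    exact congrArg (pushforward f).map ((pullbackPushforwardAdjunction g').unit.naturality α)
  have e2 := (pushforwardComp g' f).hom.naturality ((Scheme.Modules.pullback g').map α)
  have e3 := (pushforwardCongr h.w).hom.naturality ((Scheme.Modules.pullback g').map α)
  have e4 := (pushforwardComp f' g).inv.naturality ((Scheme.Modules.pullback g').map α)
  simp only [Functor.comp_map] at e2 e3 e4
  rw [← Category.assoc, e1, Category.assoc, Category.assoc, Category.assoc, Category.assoc,
    ← e4, reassoc_of% e2, reassoc_of% e3]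

theorem bcMap_naturality {F F' : X.Modules} (α : F ⟶ F') :
    (Scheme.Modules.pullback g).map ((pushforward f).map α) ≫ bcMap f g g' f' h F' =
      bcMap f g g' f' h F ≫ (pushforward f').map ((Scheme.Modules.pullback g').map α) := by
  unfold bcMap
  rw [← Adjunction.homEquiv_naturality_left_symm, ← Adjunction.homEquiv_naturality_right_symm,
    vMap_naturality]

end BCNat

section CounitIso

open Groth.Agent.Lib.T2H2.AlgzD

variable {R : CommRingCat.{u}}

/-- a system of quasi-coherent modules on `Spec R` is the system of tildes of its global sections -/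
noncomputable def counitIso (H : ℕᵒᵖ ⥤ (Spec (CommRingCat.of R)).Modules)
    (hH : ∀ n, IsIso ((adj R).counit.app (H.obj n))) : H ⋙ Γf R ⋙ Tf R ≅ H :=
  NatIso.ofComponents (fun n => @asIso _ _ _ _ ((adj R).counit.app (H.obj n)) (hH n))
    (fun m => (adj R).counit.naturality (H.map m))

end CounitIso

section Main

open Groth.Agent.Lib.T2H2.AlgzD Groth.Agent.Helper13AffBC

variable {A A' : Type u} [CommRing A] [CommRing A'] (ψ : A →+* A')

theorem toGlobal_specMap (a : A) :
    Coh.toGlobal (Spec.map (CommRingCat.ofHom ψ)) a =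
      Coh.toGlobal (𝟙 (Spec (CommRingCat.of A'))) (ψ a) := by
  unfold Coh.toGlobal
  have h := Scheme.ΓSpecIso_inv_naturality (CommRingCat.ofHom ψ)
  have h2 := congrArg (fun t => t.hom a) h
  simp only [CommRingCat.hom_comp, RingHom.comp_apply] at h2
  change (Spec.map (CommRingCat.ofHom ψ)).appTop.hom ((Scheme.ΓSpecIso (CommRingCat.of A)).inv.hom a) =
    (Scheme.Hom.appTop (𝟙 (Spec (CommRingCat.of A')))).hom
      ((Scheme.ΓSpecIso (CommRingCat.of A')).inv.hom (ψ a))
  rw [← h2]
  simp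

theorem isCohFormal_pullback_specMap (I : Ideal A)
    (G₀ : ℕᵒᵖ ⥤ (Spec (CommRingCat.of A)).Modules)
    (hG₀ : @Formal.IsCohFormal A _ (Spec (CommRingCat.of A)) ⟨𝟙 _⟩ I G₀) :
    @Formal.IsCohFormal A' _ (Spec (CommRingCat.of A')) ⟨𝟙 _⟩ (I.map ψ)
      (G₀ ⋙ Scheme.Modules.pullback (Spec.map (CommRingCat.ofHom ψ))) := by
  let φ := Spec.map (CommRingCat.ofHom ψ)
  have : (Scheme.Modules.pullback φ).IsLeftAdjoint :=
    (Scheme.Modules.pullbackPushforwardAdjunction φ).isLeftAdjoint
  have : (Scheme.Modules.pullback φ).Additive :=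
    (Scheme.Modules.pullbackPushforwardAdjunction φ).left_adjoint_additive
  have h1 : @Formal.IsCohFormal A _ (Spec (CommRingCat.of A')) ⟨φ⟩ I
      (G₀ ⋙ Scheme.Modules.pullback φ) :=
    @isCohFormal_comp A _ (Spec (CommRingCat.of A)) (Spec (CommRingCat.of A')) ⟨𝟙 _⟩ ⟨φ⟩
      (Scheme.Modules.pullback φ) inferInstance inferInstance
      (fun M a => @Groth.Agent.Lib.Helper20.FormalPull.pullback_map_smulMod A _
        (Spec (CommRingCat.of A')) (Spec (CommRingCat.of A)) ⟨φ⟩ ⟨𝟙 _⟩ φ (Category.comp_id φ) M a)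
      (fun M hM => Groth.Agent.Lib.T2H5.GenIsoD.isCoh_pullback φ M hM) I G₀ hG₀
  exact isCohFormal_transfer ψ ⟨φ⟩ ⟨𝟙 _⟩ (toGlobal_specMap ψ) I _ h1

/-- flat base change of the system of sections -/
theorem nonempty_sectSys_baseChange_iso (hflat : ψ.Flat) (U : (Spec (CommRingCat.of A)).Opens)
    (hUc : IsCompact (U : Set (Spec (CommRingCat.of A))))
    (G : ℕᵒᵖ ⥤ (U : Scheme.{u}).Modules) (hq : ∀ n, (G.obj n).IsQuasicoherent) :
    Nonempty (Algz.sectSys A' (Spec.map (CommRingCat.ofHom ψ) ⁻¹ᵁ U)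
        (G ⋙ Scheme.Modules.pullback (Spec.map (CommRingCat.ofHom ψ) ∣_ U)) ≅
      Algz.sectSys A U G ⋙ Scheme.Modules.pullback (Spec.map (CommRingCat.ofHom ψ))) := by
  let φ := Spec.map (CommRingCat.ofHom ψ)
  let U' := φ ⁻¹ᵁ U
  have hflat' : Flat φ := Flat.SpecMap_iff.2 hflat
  have : CompactSpace (U : Scheme.{u}) := isCompact_iff_compactSpace.mp hUc
  have : QuasiCompact U.ι := inferInstance
  have hU'c : IsCompact (U' : Set (Spec (CommRingCat.of A'))) :=
    QuasiCompact.isCompact_preimage (f := φ) _ U.isOpen hUc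
  have : CompactSpace (U' : Scheme.{u}) := isCompact_iff_compactSpace.mp hU'c
  have : QuasiCompact U'.ι := inferInstance
  have hpb : IsPullback (φ ∣_ U) U'.ι U.ι φ := isPullback_morphismRestrict φ U
  -- the two systems of quasi-coherent modules
  let H : ℕᵒᵖ ⥤ (Spec (CommRingCat.of A)).Modules := G ⋙ Scheme.Modules.pushforward U.ι
  let H' : ℕᵒᵖ ⥤ (Spec (CommRingCat.of A')).Modules :=
    G ⋙ Scheme.Modules.pullback (φ ∣_ U) ⋙ Scheme.Modules.pushforward U'.ι
  have hH : ∀ n, IsIso ((adj (CommRingCat.of A)).counit.app (H.obj n)) := by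
    intro n
    have := hq n
    have hP := Groth.Agent.Lib.Helper23.QCohLocal.isQuasicoherent_pushforward U.ι (G.obj n)
    exact (isQuasicoherent_iff_isIso_fromTildeΓ (R := CommRingCat.of A) _).mp hP
  have hH' : ∀ n, IsIso ((adj (CommRingCat.of A')).counit.app (H'.obj n)) := by
    intro n
    have := hq n
    have hP := Groth.Agent.Lib.Helper23.QCohLocal.isQuasicoherent_pushforward U'.ι
      ((Scheme.Modules.pullback (φ ∣_ U)).obj (G.obj n))
    exact (isQuasicoherent_iff_isIso_fromTildeΓ (R := CommRingCat.of A') _).mp hP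
  have hbc : ∀ n, IsIso (bcMap U.ι φ (φ ∣_ U) U'.ι hpb (G.obj n)) := by
    intro n
    have := hq n
    exact Groth.Agent.Helper13QcqsBC.isIso_bcMap_of_flat U.ι φ (φ ∣_ U) U'.ι hpb (G.obj n)
  have E1 : H' ⋙ Γf (CommRingCat.of A') ⋙ Tf (CommRingCat.of A') ≅ H' :=
    counitIso (R := CommRingCat.of A') H' hH'
  have E2 : H ⋙ Scheme.Modules.pullback φ ≅ H' :=
    NatIso.ofComponents (fun n => @asIso _ _ _ _ (bcMap U.ι φ (φ ∣_ U) U'.ι hpb (G.obj n)) (hbc n))
      (fun m => bcMap_naturality U.ι φ (φ ∣_ U) U'.ι hpb (G.map m))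
  have E3 : (H ⋙ Γf (CommRingCat.of A) ⋙ Tf (CommRingCat.of A)) ⋙ Scheme.Modules.pullback φ ≅
      H ⋙ Scheme.Modules.pullback φ :=
    Functor.isoWhiskerRight (counitIso (R := CommRingCat.of A) H hH) (Scheme.Modules.pullback φ)
  exact ⟨E1 ≪≫ E2.symm ≪≫ E3.symm⟩

/-- canonical extensions are preserved by flat base change -/
theorem canonicallyExtends_baseChange (hflat : ψ.Flat) (I : Ideal A)
    (U : (Spec (CommRingCat.of A)).Opens)
    (hUc : IsCompact (U : Set (Spec (CommRingCat.of A))))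
    (G : ℕᵒᵖ ⥤ (U : Scheme.{u}).Modules) (hq : ∀ n, (G.obj n).IsQuasicoherent)
    (h : Algz.CanonicallyExtends A I U G) :
    Algz.CanonicallyExtends A' (I.map ψ) (Spec.map (CommRingCat.ofHom ψ) ⁻¹ᵁ U)
      (G ⋙ Scheme.Modules.pullback (Spec.map (CommRingCat.ofHom ψ) ∣_ U)) := by
  obtain ⟨G₀, hG₀, hpro⟩ := h
  obtain ⟨e⟩ := nonempty_sectSys_baseChange_iso ψ hflat U hUc G hq
  refine ⟨G₀ ⋙ Scheme.Modules.pullback (Spec.map (CommRingCat.ofHom ψ)),
    isCohFormal_pullback_specMap ψ I G₀ hG₀, ?_⟩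
  exact isProIsomorphic_of_iso e (Iso.refl _)
    (isProIsomorphic_whiskerRight hpro (Scheme.Modules.pullback (Spec.map (CommRingCat.ofHom ψ))))

end Main

end Groth.Agent.Lib.T2H2.AlgzL
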