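import Mathlib
import Groth.Prelude.Def_Algz
import Groth.Agent.Lib.T2H2AlgzK
import Groth.Agent.Lib.Helper23Extend2

/-!
# Coherent formal modules on a punctured spectrum come from systems of finite modules (helper2)

Namespace `Groth.Agent.Lib.T2H2.AlgzM`.
-/

set_option autoImplicit false
universe u
open CategoryTheory Limits Opposite TopologicalSpace AlgebraicGeometry

namespace Groth.Agent.Lib.T2H2.AlgzM

open Groth.Agent.S9530 Groth.Agent.Lib.T2H2.AlgzA Groth.Agent.Lib.T2H2.AlgzB
  Groth.Agent.Lib.T2H2.AlgzC Groth.Agent.Lib.T2H2.AlgzD Groth.Agent.Lib.T2H2.AlgzI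
  Groth.Agent.Lib.T2H2.AlgzJ Groth.Agent.Lib.T2H2.AlgzK

section Cofinal

variable {R : CommRingCat.{u}}

/-- `N ⊆ Γ(B)` is cofinal on `U`: for every `f` with `D(f) ≤ U`, every global section has an `f`-power multiple
in `N` -/
def Cofinal (B : (Spec (CommRingCat.of R)).Modules) (U : (Spec (CommRingCat.of R)).Opens)
    (N : Submodule R ((Γf R).obj B)) : Prop :=
  ∀ f : R, (PrimeSpectrum.basicOpen f : (Spec (CommRingCat.of R)).Opens) ≤ U →
    ∀ h : (Γf R).obj B, ∃ k : ℕ, f ^ k • h ∈ N

/-- the map `N~ ⟶ B` attached to `c : N ⟶ Γ(B)` -/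
noncomputable abbrev adjT (B : (Spec (CommRingCat.of R)).Modules) {N : ModuleCat.{u} R}
    (c : N ⟶ (Γf R).obj B) : (Tf R).obj N ⟶ B :=
  (Tf R).map c ≫ (adj R).counit.app B

/-- on sections over `W`, `adjT c` after `toOpen` is `c` followed by restriction -/
theorem toOpen_adjT (B : (Spec (CommRingCat.of R)).Modules) {N : ModuleCat.{u} R}
    (c : N ⟶ (Γf R).obj B) (W : (Spec (CommRingCat.of R)).Opens) :
    tilde.toOpen N W ≫ appL (adjT B c) W =
      c ≫ (modulesSpecToSheaf.obj B).1.map (homOfLE (le_top : W ≤ ⊤)).op := by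
  have a1 : appL (adjT B c) W = appL ((Tf R).map c) W ≫ appL ((adj R).counit.app B) W :=
    appL_comp _ _ W
  have a2 : tilde.toOpen N W ≫ appL ((Tf R).map c) W = c ≫ tilde.toOpen _ W :=
    tilde.toOpen_map_app c W
  have a3 : tilde.toOpen ((Γf R).obj B) W ≫ appL ((adj R).counit.app B) W =
      (modulesSpecToSheaf.obj B).1.map (homOfLE (le_top : W ≤ ⊤)).op :=
    Scheme.Modules.toOpen_fromTildeΓ_app B W
  calc tilde.toOpen N W ≫ appL (adjT B c) W
      = tilde.toOpen N W ≫ appL ((Tf R).map c) W ≫ appL ((adj R).counit.app B) W :=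
        congrArg (fun t => tilde.toOpen N W ≫ t) a1
    _ = (tilde.toOpen N W ≫ appL ((Tf R).map c) W) ≫ appL ((adj R).counit.app B) W :=
        (Category.assoc _ _ _).symm
    _ = (c ≫ tilde.toOpen _ W) ≫ appL ((adj R).counit.app B) W :=
        congrArg (fun t => t ≫ appL ((adj R).counit.app B) W) a2
    _ = c ≫ tilde.toOpen _ W ≫ appL ((adj R).counit.app B) W := Category.assoc _ _ _
    _ = _ := congrArg (fun t => c ≫ t) a3

/-- Step C, local form: `adjT c` is bijective on sections over `D(f)` when `c` is injective and every global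
section of `B` has an `f`-power multiple in the image of `c` -/
theorem bijective_app_adjT (B : (Spec (CommRingCat.of R)).Modules) [hB : IsIso ((adj R).counit.app B)]
    {N : ModuleCat.{u} R} (c : N ⟶ (Γf R).obj B) (hc : Function.Injective c.hom) (f : R)
    (hcof : ∀ h : (Γf R).obj B, ∃ (k : ℕ) (n : N), c.hom n = f ^ k • h) :
    Function.Bijective (appL (adjT B c)
      (PrimeSpectrum.basicOpen f : (Spec (CommRingCat.of R)).Opens)).hom := by
  let W : (Spec (CommRingCat.of R)).Opens := PrimeSpectrum.basicOpen f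
  let φ := appL (adjT B c) W
  let ρ := (modulesSpecToSheaf.obj B).1.map (homOfLE (le_top : W ≤ ⊤)).op
  have hB' : IsIso B.fromTildeΓ := hB
  have hρ : IsLocalizedModule (.powers f) ρ.hom := (isIso_fromTildeΓ_iff_isLocalizing B).1 hB' f
  have key : ∀ n : N, φ.hom ((tilde.toOpen N W).hom n) = ρ.hom (c.hom n) := fun n =>
    congrArg (fun t : N ⟶ (modulesSpecToSheaf.obj B).1.obj (op W) => t.hom n) (toOpen_adjT B c W)
  have hunitN : ∀ u : Submonoid.powers f, Function.Bijective
      (fun σ : (modulesSpecToSheaf.obj ((Tf R).obj N)).1.obj (op W) => (u : R) • σ) := by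
    intro u
    have hu := IsLocalizedModule.map_units (S := .powers f) (tilde.toOpen N W).hom u
    exact (Module.End.isUnit_iff _).1 hu
  have hunitB : ∀ u : Submonoid.powers f, Function.Injective
      (fun σ : (modulesSpecToSheaf.obj B).1.obj (op W) => (u : R) • σ) := by
    intro u
    have hu := IsLocalizedModule.map_units (S := Submonoid.powers f) ρ.hom u
    exact ((Module.End.isUnit_iff _).1 hu).injective
  constructor
  · rw [← LinearMap.ker_eq_bot, LinearMap.ker_eq_bot']
    intro σ hσ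
    obtain ⟨⟨n, s⟩, hns⟩ := IsLocalizedModule.surj (.powers f) (tilde.toOpen N W).hom σ
    have hns' : (s : R) • σ = (tilde.toOpen N W).hom n := hns
    have hσ0 : φ.hom σ = 0 := hσ
    have h1 : ρ.hom (c.hom n) = 0 := by
      refine (key n).symm.trans ?_
      refine (congrArg (fun t => φ.hom t) hns'.symm).trans ?_
      refine (φ.hom.map_smul (s : R) σ).trans ?_
      exact (congrArg (fun t => (s : R) • t) hσ0).trans (smul_zero _)
    obtain ⟨u, hu⟩ := (IsLocalizedModule.eq_zero_iff (Submonoid.powers f) ρ.hom).1 h1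
    have hu' : (u : R) • c.hom n = 0 := hu
    have h2 : c.hom ((u : R) • n) = 0 := by rw [map_smul]; exact hu'
    have h3 : (u : R) • n = 0 := hc (h2.trans (map_zero _).symm)
    have h4 : (u : R) • ((s : R) • σ) = 0 := by
      refine (congrArg (fun t => (u : R) • t) hns').trans ?_
      refine ((tilde.toOpen N W).hom.map_smul (u : R) n).symm.trans ?_
      exact (congrArg (fun t => (tilde.toOpen N W).hom t) h3).trans (map_zero _)
    have h5 : (s : R) • σ = 0 := (hunitN u).1 (h4.trans (smul_zero _).symm)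
    exact (hunitN s).1 (h5.trans (smul_zero _).symm)
  · intro z
    obtain ⟨⟨h, s⟩, hhs⟩ := IsLocalizedModule.surj (Submonoid.powers f) ρ.hom z
    have hhs' : (s : R) • z = ρ.hom h := hhs
    obtain ⟨k, n, hn⟩ := hcof h
    let u : Submonoid.powers f := ⟨f ^ k, k, rfl⟩ * s
    obtain ⟨σ, hσ⟩ := (hunitN u).2 ((tilde.toOpen N W).hom n)
    have hσ' : (u : R) • σ = (tilde.toOpen N W).hom n := hσ
    refine ⟨σ, hunitB u ?_⟩
    change (u : R) • φ.hom σ = (u : R) • z
    refine (φ.hom.map_smul (u : R) σ).symm.trans ?_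
    refine (congrArg (fun t => φ.hom t) hσ').trans ?_
    refine (key n).trans ?_
    refine (congrArg (fun t => ρ.hom t) hn).trans ?_
    refine (ρ.hom.map_smul (f ^ k) h).trans ?_
    refine (congrArg (fun t => f ^ k • t) hhs'.symm).trans ?_
    exact smul_smul _ _ _

theorem isAffineOpen_basicOpen (f : R) :
    @IsAffineOpen (Spec (CommRingCat.of R))
      (PrimeSpectrum.basicOpen f : (Spec (CommRingCat.of R)).Opens) := by
  have h := (isAffineOpen_top (Spec (CommRingCat.of R))).basicOpen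
    ((Scheme.ΓSpecIso (CommRingCat.of R)).inv f)
  have e : (Spec (CommRingCat.of R)).basicOpen ((Scheme.ΓSpecIso (CommRingCat.of R)).inv f) =
      (PrimeSpectrum.basicOpen f : (Spec (CommRingCat.of R)).Opens) :=
    basicOpen_eq_of_affine (R := CommRingCat.of R) f
  exact e ▸ h

/-- Step C: `adjT c` restricts to an isomorphism over `U` when `c` is injective with cofinal image -/
theorem isIso_restrict_adjT (B : (Spec (CommRingCat.of R)).Modules) [hB : IsIso ((adj R).counit.app B)]
    [B.IsQuasicoherent] (U : (Spec (CommRingCat.of R)).Opens)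
    {N : ModuleCat.{u} R} (c : N ⟶ (Γf R).obj B) (hc : Function.Injective c.hom)
    (hcof : ∀ f : R, (PrimeSpectrum.basicOpen f : (Spec (CommRingCat.of R)).Opens) ≤ U →
      ∀ h : (Γf R).obj B, ∃ (k : ℕ) (n : N), c.hom n = f ^ k • h) :
    IsIso ((Rf U).map (adjT B c)) := by
  let κ := {f : R // (PrimeSpectrum.basicOpen f : (Spec (CommRingCat.of R)).Opens) ≤ U}
  refine Groth.Agent.Lib.Helper23.Extend.isIso_restrict_of_bijective_app (adjT B c) U
    (fun k : κ => (PrimeSpectrum.basicOpen k.1 : (Spec (CommRingCat.of R)).Opens))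
    (fun k => isAffineOpen_basicOpen k.1) (fun k => k.2) ?_ (fun k => ?_)
  · intro x hx
    obtain ⟨_, ⟨_, ⟨f, rfl⟩, rfl⟩, hxf, hfU⟩ :=
      PrimeSpectrum.isBasis_basic_opens.exists_subset_of_mem_open hx U.2
    exact Opens.mem_iSup.2 ⟨⟨f, hfU⟩, hxf⟩
  · exact bijective_app_adjT B c hc k.1 (hcof k.1 k.2)

/-- converse of Step C, local form -/
theorem exists_pow_smul_mem_range (B : (Spec (CommRingCat.of R)).Modules)
    [hB : IsIso ((adj R).counit.app B)]
    {N : ModuleCat.{u} R} (c : N ⟶ (Γf R).obj B) (f : R)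
    (hsurj : Function.Surjective (appL (adjT B c)
      (PrimeSpectrum.basicOpen f : (Spec (CommRingCat.of R)).Opens)).hom)
    (h : (Γf R).obj B) : ∃ (k : ℕ) (n : N), c.hom n = f ^ k • h := by
  let W : (Spec (CommRingCat.of R)).Opens := PrimeSpectrum.basicOpen f
  let φ := appL (adjT B c) W
  let ρ := (modulesSpecToSheaf.obj B).1.map (homOfLE (le_top : W ≤ ⊤)).op
  have hB' : IsIso B.fromTildeΓ := hB
  have hρ : IsLocalizedModule (.powers f) ρ.hom := (isIso_fromTildeΓ_iff_isLocalizing B).1 hB' f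
  have key : ∀ n : N, φ.hom ((tilde.toOpen N W).hom n) = ρ.hom (c.hom n) := fun n =>
    congrArg (fun t : N ⟶ (modulesSpecToSheaf.obj B).1.obj (op W) => t.hom n) (toOpen_adjT B c W)
  obtain ⟨σ, hσ⟩ := hsurj (ρ.hom h)
  have hσ' : φ.hom σ = ρ.hom h := hσ
  obtain ⟨⟨n, s⟩, hns⟩ := IsLocalizedModule.surj (.powers f) (tilde.toOpen N W).hom σ
  have hns' : (s : R) • σ = (tilde.toOpen N W).hom n := hns
  have h1 : ρ.hom (c.hom n - (s : R) • h) = 0 := by
    have e1 : ρ.hom (c.hom n) = (s : R) • ρ.hom h := by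
      refine (key n).symm.trans ?_
      refine (congrArg (fun t => φ.hom t) hns'.symm).trans ?_
      refine (φ.hom.map_smul (s : R) σ).trans ?_
      exact congrArg (fun t => (s : R) • t) hσ'
    have e2 : ρ.hom ((s : R) • h) = (s : R) • ρ.hom h := ρ.hom.map_smul _ _
    have e3 : ρ.hom (c.hom n - (s : R) • h) = ρ.hom (c.hom n) - ρ.hom ((s : R) • h) :=
      ρ.hom.map_sub _ _
    rw [e3, e1, e2, sub_self]
  obtain ⟨u, hu⟩ := (IsLocalizedModule.eq_zero_iff (Submonoid.powers f) ρ.hom).1 h1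
  have hu' : (u : R) • (c.hom n - (s : R) • h) = 0 := hu
  obtain ⟨k, hk⟩ := (u * s).2
  refine ⟨k, (u : R) • n, ?_⟩
  rw [map_smul]
  rw [smul_sub, sub_eq_zero, smul_smul] at hu'
  rw [hu']
  congr 1
  exact hk.symm

/-- Step A: a finite cofinal submodule of global sections -/
theorem exists_finite_cofinal (B : (Spec (CommRingCat.of R)).Modules) [B.IsQuasicoherent]
    (U : (Spec (CommRingCat.of R)).Opens)
    (hUc : IsCompact (U : Set (Spec (CommRingCat.of R))))
    [SheafOfModules.IsFiniteType (R := (U : Scheme.{u}).ringCatSheaf) (B.restrict U.ι)] :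
    ∃ N : Submodule R ((Γf R).obj B), Module.Finite R N ∧ Cofinal B U N := by
  have hB : IsIso ((adj R).counit.app B) :=
    (isQuasicoherent_iff_isIso_fromTildeΓ (R := R) B).mp inferInstance
  obtain ⟨N, hN, c, -, hiso⟩ :=
    Groth.Agent.Lib.Helper23.Extend.exists_finite_mono_isIso_restrict (CommRingCat.of R) B U hUc
  have e : Groth.Agent.Lib.Helper23.Extend.adjTilde (CommRingCat.of R) B c = adjT B c :=
    Adjunction.homEquiv_counit _ _ _ _
  rw [e, Groth.Agent.Lib.Helper23.Extend.isIso_restrict_iff, Scheme.Opens.opensRange_ι] at hiso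
  refine ⟨LinearMap.range c.hom, Module.Finite.range c.hom, fun f hf h => ?_⟩
  have h1 := hiso (PrimeSpectrum.basicOpen f : (Spec (CommRingCat.of R)).Opens) hf
  have h2' : Function.Bijective (Scheme.Modules.Hom.app (adjT B c)
      (PrimeSpectrum.basicOpen f : (Spec (CommRingCat.of R)).Opens)) :=
    (ConcreteCategory.isIso_iff_bijective _).1 h1
  have h2 : Function.Bijective (appL (adjT B c)
      (PrimeSpectrum.basicOpen f : (Spec (CommRingCat.of R)).Opens)).hom := h2'
  obtain ⟨k, n, hn⟩ := exists_pow_smul_mem_range B c f h2.2 h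
  exact ⟨k, n, hn⟩

end Cofinal

section Trans

variable {R : CommRingCat.{u}}

attribute [local instance 2000] iR

/-- `Γ` as `appL` over `⊤` is natural with respect to restriction -/
theorem appL_res {P P' : (Spec (CommRingCat.of R)).Modules} (τ : P ⟶ P')
    (W : (Spec (CommRingCat.of R)).Opens) (x : (Γf R).obj P) :
    ((modulesSpecToSheaf.obj P').1.map (homOfLE (le_top : W ≤ ⊤)).op).hom (((Γf R).map τ).hom x) =
      (appL τ W).hom (((modulesSpecToSheaf.obj P).1.map (homOfLE (le_top : W ≤ ⊤)).op).hom x) := by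
  have h := (modulesSpecToSheaf.map τ).1.naturality (homOfLE (le_top : W ≤ ⊤)).op
  exact (congrArg (fun t : (modulesSpecToSheaf.obj P).1.obj (op ⊤) ⟶
    (modulesSpecToSheaf.obj P').1.obj (op W) => t.hom x) h).symm

/-- a morphism of quasi-coherent modules on `Spec R` killing `J` whose restriction to `U` is a quotient by `J`:
on global sections its kernel and cokernel are `f`-power torsion modulo `J`, for `D(f) ≤ U` -/
theorem ker_coker_of_isQuotBy_restrict (J : Ideal R) (n : ℕ) (I : Ideal R) (hJ : J = I ^ n)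
    (U : (Spec (CommRingCat.of R)).Opens)
    {P P' : (Spec (CommRingCat.of R)).Modules} [hP : IsIso ((adj R).counit.app P)]
    [hP' : IsIso ((adj R).counit.app P')] (β : P ⟶ P')
    (hkill : ∀ a ∈ J, sm R P a ≫ β = 0)
    (hβ : IsQuotBy J ((Rf U).map β)) (f : R)
    (hf : (PrimeSpectrum.basicOpen f : (Spec (CommRingCat.of R)).Opens) ≤ U) :
    (∀ y : (Γf R).obj P', ∃ (k : ℕ) (h : (Γf R).obj P), ((Γf R).map β).hom h = f ^ k • y) ∧
    (∀ h : (Γf R).obj P, ((Γf R).map β).hom h = 0 →
      ∃ k : ℕ, f ^ k • h ∈ J • (⊤ : Submodule R ((Γf R).obj P))) := by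
  subst hJ
  let W : (Spec (CommRingCat.of R)).Opens := PrimeSpectrum.basicOpen f
  have hPq : P.IsQuasicoherent := (isQuasicoherent_iff_isIso_fromTildeΓ (R := R) P).mpr hP
  -- the quotient `Q = P / J P`
  let Q := Formal.modPow I n P
  let q : P ⟶ Q := Formal.modPowπ I n P
  have hq : IsQuotBy (I ^ n) q := isQuotBy_modPowπ I n P
  have hQq : Q.IsQuasicoherent := isQuasicoherent_modPow I n P
  have hQ : IsIso ((adj R).counit.app Q) := (isQuasicoherent_iff_isIso_fromTildeΓ (R := R) Q).mp hQq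
  obtain ⟨τ, hτ⟩ := hq.fac P' β hkill
  -- `τ` restricts to an isomorphism over `U`
  have hqU : IsQuotBy (I ^ n) ((Rf U).map q) :=
    hq.map (Rf U) (restrict_map_smulMod U.ι (hf_ι R U))
  obtain ⟨e, he⟩ := hqU.exists_iso hβ
  have hτU : (Rf U).map τ = e.hom := by
    have := hqU.epi
    refine (cancel_epi ((Rf U).map q)).1 ?_
    rw [he, ← Functor.map_comp, hτ]
  have hiso : IsIso ((Rf U).map τ) := by rw [hτU]; infer_instance
  rw [Groth.Agent.Lib.Helper23.Extend.isIso_restrict_iff, Scheme.Opens.opensRange_ι] at hiso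
  have h1 := hiso W hf
  have hbij' : Function.Bijective (Scheme.Modules.Hom.app τ W) :=
    (ConcreteCategory.isIso_iff_bijective _).1 h1
  have hbij : Function.Bijective (appL τ W).hom := hbij'
  -- Lemma K for `q`
  obtain ⟨hqs, hqk⟩ := surjective_and_ker_of_isQuotBy (I ^ n) q hq
  have hΓ : ∀ h : (Γf R).obj P, ((Γf R).map τ).hom (((Γf R).map q).hom h) = ((Γf R).map β).hom h := by
    intro h
    have := congrArg (fun t => ((Γf R).map t).hom h) hτ
    simpa using this
  -- localizations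
  have hQ' : IsIso Q.fromTildeΓ := hQ
  have hP'' : IsIso P'.fromTildeΓ := hP'
  let ρQ := (modulesSpecToSheaf.obj Q).1.map (homOfLE (le_top : W ≤ ⊤)).op
  let ρP' := (modulesSpecToSheaf.obj P').1.map (homOfLE (le_top : W ≤ ⊤)).op
  have hρQ : IsLocalizedModule (.powers f) ρQ.hom := (isIso_fromTildeΓ_iff_isLocalizing Q).1 hQ' f
  have hρP' : IsLocalizedModule (.powers f) ρP'.hom :=
    (isIso_fromTildeΓ_iff_isLocalizing P').1 hP'' f
  constructor
  · intro y
    obtain ⟨σ, hσ⟩ := hbij.2 (ρP'.hom y)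
    obtain ⟨⟨qb, s⟩, hqs'⟩ := IsLocalizedModule.surj (Submonoid.powers f) ρQ.hom σ
    have hqs'' : (s : R) • σ = ρQ.hom qb := hqs'
    obtain ⟨h, hh⟩ := hqs qb
    have e1 : ρP'.hom (((Γf R).map β).hom h) = ρP'.hom ((s : R) • y) := by
      rw [← hΓ h, hh]
      refine (appL_res τ W qb).trans ?_
      change (appL τ W).hom (ρQ.hom qb) = _
      rw [← hqs'']
      refine ((appL τ W).hom.map_smul (s : R) σ).trans ?_
      rw [hσ]
      exact (ρP'.hom.map_smul (s : R) y).symm
    have e2 : ρP'.hom (((Γf R).map β).hom h - (s : R) • y) = 0 := by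
      have e3 : ρP'.hom (((Γf R).map β).hom h - (s : R) • y) =
          ρP'.hom (((Γf R).map β).hom h) - ρP'.hom ((s : R) • y) := ρP'.hom.map_sub _ _
      rw [e3, e1, sub_self]
    obtain ⟨v, hv⟩ := (IsLocalizedModule.eq_zero_iff (Submonoid.powers f) ρP'.hom).1 e2
    have hv' : (v : R) • (((Γf R).map β).hom h - (s : R) • y) = 0 := hv
    obtain ⟨k, hk⟩ := (v * s).2
    refine ⟨k, (v : R) • h, ?_⟩
    rw [map_smul]
    rw [smul_sub, sub_eq_zero, smul_smul] at hv'
    rw [hv']
    congr 1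
    exact hk.symm
  · intro h hh
    have e1 : (appL τ W).hom (ρQ.hom (((Γf R).map q).hom h)) = 0 := by
      refine (appL_res τ W _).symm.trans ?_
      refine (congrArg (fun t => ρP'.hom t) ((hΓ h).trans hh)).trans ?_
      exact map_zero ρP'.hom
    have e2 : ρQ.hom (((Γf R).map q).hom h) = 0 := hbij.1 (e1.trans (map_zero _).symm)
    obtain ⟨v, hv⟩ := (IsLocalizedModule.eq_zero_iff (Submonoid.powers f) ρQ.hom).1 e2
    have hv' : (v : R) • ((Γf R).map q).hom h = 0 := hv
    obtain ⟨k, hk⟩ := v.2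
    refine ⟨k, ?_⟩
    have hk' : f ^ k = (v : R) := hk
    rw [← hqk, LinearMap.mem_ker, map_smul, hk']
    exact hv'

end Trans

section Main

variable {R : CommRingCat.{u}} {I : Ideal R}
  (U : (Spec (CommRingCat.of R)).Opens) (G : ℕᵒᵖ ⥤ (U : Scheme.{u}).Modules)

attribute [local instance 2000] iR

/-- `j_* G_n` -/
noncomputable abbrev Bn (n : ℕ) : (Spec (CommRingCat.of R)).Modules := (Pf U).obj (G.obj (op n))

/-- `j_*` of the transition map -/
noncomputable abbrev βn (n : ℕ) : Bn U G (n + 1) ⟶ Bn U G n :=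
  (Pf U).map (G.map (homOfLE (Nat.le_succ n)).op)

/-- the transition maps on sections -/
noncomputable abbrev tn (n : ℕ) : (Γf R).obj (Bn U G (n + 1)) ⟶ (Γf R).obj (Bn U G n) :=
  (Γf R).map (βn U G n)

variable {U G}

theorem isIso_counit_Bn [QuasiCompact U.ι] (hG : Formal.IsCohFormal I G) (n : ℕ) :
    IsIso ((adj R).counit.app (Bn U G n)) := by
  have : (G.obj (op n)).IsQuasicoherent := (hG.1 n).1
  have hP := Groth.Agent.Lib.Helper23.QCohLocal.isQuasicoherent_pushforward U.ι (G.obj (op n))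
  exact (isQuasicoherent_iff_isIso_fromTildeΓ (R := R) _).mp hP

theorem sm_Bn_eq_zero (hG : Formal.IsCohFormal I G) (n : ℕ) (a : R) (ha : a ∈ I ^ (n + 1)) :
    sm R (Bn U G n) a = 0 := by
  have h1 : sm R (Bn U G n) a = (Pf U).map (Formal.smulMod R (G.obj (op n)) a) := by
    unfold sm Formal.smulMod
    rw [Groth.Agent.Lib.Helper20.FormalPull.toGlobal_eq U.ι (Category.comp_id _) a]
    exact (Groth.Agent.Lib.Helper20.FormalPull.pushforward_map_smulModΓ U.ι _ _).symm
  rw [h1, hG.2.1 n a ha, Functor.map_zero]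

theorem sm_comp_βn (hG : Formal.IsCohFormal I G) (n : ℕ) (a : R) (ha : a ∈ I ^ (n + 1)) :
    sm R (Bn U G (n + 1)) a ≫ βn U G n = 0 := by
  have h := smulMod_comp (A := R) (βn U G n) a
  have h' : sm R (Bn U G (n + 1)) a ≫ βn U G n = βn U G n ≫ sm R (Bn U G n) a := h
  rw [h', sm_Bn_eq_zero hG n a ha, comp_zero]

theorem isQuotBy_restrict_βn (hG : Formal.IsCohFormal I G) (n : ℕ) :
    IsQuotBy (I ^ (n + 1)) ((Rf U).map (βn U G n)) := by
  have h3 := ((isCohFormal_iff I G).1 hG).2.2 n
  have hnat := (Scheme.Modules.restrictAdjunction U.ι).counit.naturality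
    (G.map (homOfLE (Nat.le_succ n)).op)
  have hnat' : (Rf U).map (βn U G n) ≫
      (Scheme.Modules.restrictAdjunction U.ι).counit.app (G.obj (op n)) =
      (Scheme.Modules.restrictAdjunction U.ι).counit.app (G.obj (op (n + 1))) ≫
        G.map (homOfLE (Nat.le_succ n)).op := hnat
  have h4 : IsQuotBy (I ^ (n + 1)) ((Rf U).map (βn U G n) ≫
      (Scheme.Modules.restrictAdjunction U.ι).counit.app (G.obj (op n))) := by
    rw [hnat']
    exact h3.iso_comp (asIso ((Scheme.Modules.restrictAdjunction U.ι).counit.app (G.obj (op (n + 1)))))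
  have h5 := h4.comp_iso (asIso ((Scheme.Modules.restrictAdjunction U.ι).counit.app (G.obj (op n)))).symm
  have e : ((Rf U).map (βn U G n) ≫
      (Scheme.Modules.restrictAdjunction U.ι).counit.app (G.obj (op n))) ≫
      (asIso ((Scheme.Modules.restrictAdjunction U.ι).counit.app (G.obj (op n)))).symm.hom =
      (Rf U).map (βn U G n) := by
    rw [Category.assoc]
    simp
  exact e ▸ h5

variable (U G) in
/-- recursive choice of the finite submodules -/
noncomputable def Msub (N : ∀ n, Submodule R ((Γf R).obj (Bn U G n))) :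
    ∀ n, Submodule R ((Γf R).obj (Bn U G n))
  | 0 => N 0
  | n + 1 => N (n + 1) ⊓ (Msub N n).comap (tn U G n).hom

theorem Msub_le (N : ∀ n, Submodule R ((Γf R).obj (Bn U G n))) (n : ℕ) : Msub U G N n ≤ N n := by
  cases n with
  | zero => exact le_rfl
  | succ n => exact inf_le_left

theorem Msub_succ_le_comap (N : ∀ n, Submodule R ((Γf R).obj (Bn U G n))) (n : ℕ) :
    Msub U G N (n + 1) ≤ (Msub U G N n).comap (tn U G n).hom := inf_le_right

theorem cofinal_Msub (N : ∀ n, Submodule R ((Γf R).obj (Bn U G n)))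
    (hN : ∀ n, Cofinal (Bn U G n) U (N n)) (n : ℕ) : Cofinal (Bn U G n) U (Msub U G N n) := by
  induction n with
  | zero => exact hN 0
  | succ n ih =>
    intro f hf h
    obtain ⟨k, hk⟩ := hN (n + 1) f hf h
    obtain ⟨l, hl⟩ := ih f hf ((tn U G n).hom h)
    refine ⟨k + l, ?_, ?_⟩
    · rw [pow_add, mul_comm, mul_smul]
      exact Submodule.smul_mem _ _ hk
    · change (tn U G n).hom (f ^ (k + l) • h) ∈ Msub U G N n
      rw [map_smul, pow_add, mul_smul]
      exact Submodule.smul_mem _ _ hl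

/-- from `f`-power multiples for all `f ∈ 𝔞` to a power of `𝔞` -/
theorem exists_pow_le_of_forall_pow_smul_mem {M : Type*} [AddCommGroup M] [Module R M]
    (𝔞 : Ideal R) (h𝔞 : 𝔞.FG) (S : Submodule R M) (x : M)
    (h : ∀ f ∈ 𝔞, ∃ k : ℕ, f ^ k • x ∈ S) : ∃ m : ℕ, ∀ a ∈ 𝔞 ^ m, a • x ∈ S := by
  let J : Ideal R := S.comap (LinearMap.toSpanSingleton R M x)
  have hle : 𝔞 ≤ J.radical := by
    intro f hf
    obtain ⟨k, hk⟩ := h f hf
    exact ⟨k, by change (LinearMap.toSpanSingleton R M x) (f ^ k) ∈ S; simpa using hk⟩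
  obtain ⟨m, hm⟩ := Ideal.exists_pow_le_of_le_radical_of_fg hle h𝔞
  refine ⟨m, fun a ha => ?_⟩
  have := hm ha
  change (LinearMap.toSpanSingleton R M x) a ∈ S at this
  simpa using this

/-- elements of `J • ⊤` have `f`-power multiples in `J • N` for cofinal `N` -/
theorem exists_pow_smul_mem_smul {B : (Spec (CommRingCat.of R)).Modules}
    {N : Submodule R ((Γf R).obj B)} (hN : Cofinal B U N) (J : Ideal R) (f : R)
    (hf : (PrimeSpectrum.basicOpen f : (Spec (CommRingCat.of R)).Opens) ≤ U)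
    (h : (Γf R).obj B) (hh : h ∈ J • (⊤ : Submodule R ((Γf R).obj B))) :
    ∃ l : ℕ, f ^ l • h ∈ J • N := by
  refine Submodule.smul_induction_on (p := fun h => ∃ l : ℕ, f ^ l • h ∈ J • N) hh ?_ ?_
  · intro a ha x _
    obtain ⟨l, hl⟩ := hN f hf x
    refine ⟨l, ?_⟩
    rw [smul_comm]
    exact Submodule.smul_mem_smul ha hl
  · intro x y hx hy
    obtain ⟨l1, h1⟩ := hx
    obtain ⟨l2, h2⟩ := hy
    refine ⟨l1 + l2, ?_⟩
    rw [smul_add]
    refine Submodule.add_mem _ ?_ ?_
    · rw [pow_add, mul_comm, mul_smul]; exact Submodule.smul_mem _ _ h1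
    · rw [pow_add, mul_smul]; exact Submodule.smul_mem _ _ h2

section SubHom

variable {R' : Type u} [CommRing R']

/-- the inclusion of a submodule as a morphism -/
noncomputable def subHom {H : ModuleCat.{u} R'} (S : Submodule R' H) : ModuleCat.of R' S ⟶ H :=
  ModuleCat.ofHom S.subtype

theorem subHom_apply {H : ModuleCat.{u} R'} (S : Submodule R' H) (x : S) :
    (subHom S).hom x = (x : H) := rfl

theorem subHom_injective {H : ModuleCat.{u} R'} (S : Submodule R' H) :
    Function.Injective (subHom S).hom := Subtype.val_injective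

theorem subHom_comp {H H' : ModuleCat.{u} R'} (t : H ⟶ H') (S : Submodule R' H)
    (S' : Submodule R' H') (hle : S ≤ S'.comap t.hom) :
    ModuleCat.ofHom (t.hom.restrict hle) ≫ subHom S' = subHom S ≫ t := by
  ext x
  rfl

end SubHom

theorem exists_module_system [IsNoetherianRing R]
    (hUc : IsCompact (U : Set (Spec (CommRingCat.of R))))
    (𝔞 : Ideal R) (h𝔞 : ∀ f ∈ 𝔞, (PrimeSpectrum.basicOpen f : (Spec (CommRingCat.of R)).Opens) ≤ U)
    (hG : Formal.IsCohFormal I G) :
    ∃ (M : ℕ → Type u) (_ : ∀ n, AddCommGroup (M n)) (_ : ∀ n, Module R (M n))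
      (g : ∀ n, M (n + 1) →ₗ[R] M n),
      (∀ n, Module.Finite R (M n)) ∧ (∀ n, I ^ (n + 1) • (⊤ : Submodule R (M n)) = ⊥) ∧
      (∀ n (x : M (n + 1)), g n x = 0 →
        ∃ m : ℕ, ∀ a ∈ 𝔞 ^ m, a • x ∈ I ^ (n + 1) • (⊤ : Submodule R (M (n + 1)))) ∧
      (∀ n (y : M n), ∃ m : ℕ, ∀ a ∈ 𝔞 ^ m, a • y ∈ LinearMap.range (g n)) ∧
      Nonempty (G ≅ Functor.ofOpSequence
        (X := fun n => (Rf U).obj ((Tf R).obj (ModuleCat.of R (M n))))
        (fun n => (Rf U).map ((Tf R).map (ModuleCat.ofHom (g n))))) := by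
  have : CompactSpace (U : Scheme.{u}) := isCompact_iff_compactSpace.mp hUc
  have : QuasiCompact U.ι := inferInstance
  have hq : ∀ n, (G.obj (op n)).IsQuasicoherent := fun n => (hG.1 n).1
  have hBq : ∀ n, (Bn U G n).IsQuasicoherent := fun n => by
    have := hq n
    exact Groth.Agent.Lib.Helper23.QCohLocal.isQuasicoherent_pushforward U.ι (G.obj (op n))
  have hBiso : ∀ n, IsIso ((adj R).counit.app (Bn U G n)) := fun n => isIso_counit_Bn hG n
  have hBft : ∀ n, SheafOfModules.IsFiniteType (R := (U : Scheme.{u}).ringCatSheaf)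
      ((Bn U G n).restrict U.ι) := fun n => by
    have : SheafOfModules.IsFiniteType (R := (U : Scheme.{u}).ringCatSheaf) (G.obj (op n)) :=
      (hG.1 n).2
    have e : G.obj (op n) ≅ (Bn U G n).restrict U.ι :=
      (asIso ((Scheme.Modules.restrictAdjunction U.ι).counit.app (G.obj (op n)))).symm
    exact Groth.Agent.Lib.Helper23.FinType.isFiniteType_of_iso e
  have hex : ∀ n, ∃ N : Submodule R ((Γf R).obj (Bn U G n)), Module.Finite R N ∧
      Cofinal (Bn U G n) U N := fun n => by
    have := hBq n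
    have := hBft n
    exact exists_finite_cofinal (Bn U G n) U hUc
  choose N hNfin hNcof using hex
  let Ms := Msub U G N
  have hcof : ∀ n, Cofinal (Bn U G n) U (Ms n) := cofinal_Msub N hNcof
  have hfin : ∀ n, Module.Finite R (Ms n) := fun n => by
    have := hNfin n
    have : IsNoetherian R (N n) := isNoetherian_of_isNoetherianRing_of_finite R (N n)
    exact Module.Finite.of_injective (Submodule.inclusion (Msub_le N n))
      (Submodule.inclusion_injective _)
  let g : ∀ n, Ms (n + 1) →ₗ[R] Ms n := fun n =>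
    (tn U G n).hom.restrict (Msub_succ_le_comap N n)
  have hg : ∀ n (x : Ms (n + 1)), ((g n x : Ms n) : (Γf R).obj (Bn U G n)) =
      (tn U G n).hom (x : (Γf R).obj (Bn U G (n + 1))) := fun n x => rfl
  have hkillH : ∀ (n : ℕ) (a : R), a ∈ I ^ (n + 1) → ∀ x : (Γf R).obj (Bn U G n), a • x = 0 :=
    fun n a ha x => smul_sectMod_eq_zero U G n _ (hG.2.1 n) a ha x
  have hKC := fun n f hf => @ker_coker_of_isQuotBy_restrict R (I ^ (n + 1)) (n + 1) I rfl U
    (Bn U G (n + 1)) (Bn U G n) (hBiso (n + 1)) (hBiso n) (βn U G n) (sm_comp_βn hG n)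
    (isQuotBy_restrict_βn hG n) f hf
  have h𝔞fg : 𝔞.FG := IsNoetherian.noetherian 𝔞
  refine ⟨fun n => Ms n, fun n => inferInstance, fun n => inferInstance, g, hfin, ?_, ?_, ?_, ?_⟩
  · -- killed by `I ^ (n + 1)`
    intro n
    rw [eq_bot_iff, Submodule.smul_le]
    intro a ha x _
    rw [Submodule.mem_bot]
    apply Subtype.ext
    exact hkillH n a ha x
  · -- kernel
    intro n x hx
    have hx' : (tn U G n).hom (x : (Γf R).obj (Bn U G (n + 1))) = 0 := by
      rw [← hg, hx]; rfl
    refine exists_pow_le_of_forall_pow_smul_mem 𝔞 h𝔞fg _ x (fun f hf => ?_)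
    obtain ⟨k, hk⟩ := (hKC n f (h𝔞 f hf)).2 _ hx'
    obtain ⟨l, hl⟩ := exists_pow_smul_mem_smul (hcof (n + 1)) (I ^ (n + 1)) f (h𝔞 f hf) _ hk
    refine ⟨l + k, ?_⟩
    have e1 : (I ^ (n + 1) • (⊤ : Submodule R (Ms (n + 1)))).map (Ms (n + 1)).subtype =
        I ^ (n + 1) • Ms (n + 1) := by
      rw [Submodule.map_smul'', Submodule.map_subtype_top]
    have e2 : (Ms (n + 1)).subtype (f ^ (l + k) • x) ∈
        (I ^ (n + 1) • (⊤ : Submodule R (Ms (n + 1)))).map (Ms (n + 1)).subtype := by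
      rw [e1]
      have e3 : (Ms (n + 1)).subtype (f ^ (l + k) • x) =
          f ^ l • f ^ k • (x : (Γf R).obj (Bn U G (n + 1))) := by
        rw [pow_add, mul_smul]; rfl
      rw [e3]
      exact hl
    obtain ⟨z, hz, hzx⟩ := e2
    have : z = f ^ (l + k) • x := Subtype.ext (by simpa using hzx)
    rwa [this] at hz
  · -- cokernel
    intro n y
    refine exists_pow_le_of_forall_pow_smul_mem 𝔞 h𝔞fg _ y (fun f hf => ?_)
    obtain ⟨k, h, hh⟩ := (hKC n f (h𝔞 f hf)).1 (y : (Γf R).obj (Bn U G n))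
    obtain ⟨l, hl⟩ := hcof (n + 1) f (h𝔞 f hf) h
    refine ⟨l + k, ⟨⟨f ^ l • h, hl⟩, ?_⟩⟩
    apply Subtype.ext
    change (tn U G n).hom (f ^ l • h) = f ^ (l + k) • (y : (Γf R).obj (Bn U G n))
    rw [map_smul, pow_add, mul_smul]
    exact congrArg (fun t => f ^ l • t) hh
  · -- the isomorphism
    let c : ∀ n, ModuleCat.of R (Ms n) ⟶ (Γf R).obj (Bn U G n) := fun n =>
      subHom (H := (Γf R).obj (Bn U G n)) (Ms n)
    have hcg : ∀ n, ModuleCat.ofHom (g n) ≫ c n = c (n + 1) ≫ tn U G n := fun n =>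
      subHom_comp (tn U G n) (Ms (n + 1)) (Ms n) (Msub_succ_le_comap N n)
    let θ : ∀ n, (Rf U).obj ((Tf R).obj (ModuleCat.of R (Ms n))) ⟶ G.obj (op n) := fun n =>
      (Rf U).map ((Tf R).map (c n)) ≫ eHom U G (op n)
    have hθiso : ∀ n, IsIso (θ n) := fun n => by
      have := hBiso n
      have := hBq n
      have h1 : IsIso ((Rf U).map (adjT (Bn U G n) (c n))) :=
        isIso_restrict_adjT (Bn U G n) U (c n)
          (subHom_injective (H := (Γf R).obj (Bn U G n)) (Ms n)) (fun f hf h => by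
          obtain ⟨k, hk⟩ := hcof n f hf h
          exact ⟨k, ⟨_, hk⟩, rfl⟩)
      have h2 : θ n = (Rf U).map (adjT (Bn U G n) (c n)) ≫
          (Scheme.Modules.restrictAdjunction U.ι).counit.app (G.obj (op n)) := by
        change (Rf U).map ((Tf R).map (c n)) ≫ ((Rf U).map ((adj R).counit.app (Bn U G n)) ≫
          (Scheme.Modules.restrictAdjunction U.ι).counit.app (G.obj (op n))) = _
        rw [← Category.assoc, ← Functor.map_comp]
      rw [h2]
      infer_instance
    let T : ℕᵒᵖ ⥤ (U : Scheme.{u}).Modules := Functor.ofOpSequence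
      (X := fun n => (Rf U).obj ((Tf R).obj (ModuleCat.of R (Ms n))))
      (fun n => (Rf U).map ((Tf R).map (ModuleCat.ofHom (g n))))
    let Θ : T ⟶ G := NatTrans.ofOpSequence (fun n => θ n) (fun n => by
      have e1 : T.map (homOfLE (n.le_add_right 1)).op =
          (Rf U).map ((Tf R).map (ModuleCat.ofHom (g n))) :=
        Functor.ofOpSequence_map_homOfLE_succ _ n
      have e2 : (Rf U).map ((Tf R).map (ModuleCat.ofHom (g n))) ≫ (Rf U).map ((Tf R).map (c n)) =
          (Rf U).map ((Tf R).map (c (n + 1))) ≫ (Rf U).map ((Tf R).map (tn U G n)) := by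
        rw [← Functor.map_comp, ← Functor.map_comp, ← Functor.map_comp, ← Functor.map_comp, hcg n]
      have e3 : (Rf U).map ((Tf R).map (tn U G n)) ≫ eHom U G (op n) =
          eHom U G (op (n + 1)) ≫ G.map (homOfLE (Nat.le_succ n)).op :=
        eHom_naturality U G (homOfLE (Nat.le_succ n)).op
      have e4 : θ n = (Rf U).map ((Tf R).map (c n)) ≫ eHom U G (op n) := rfl
      have e5 : θ (n + 1) = (Rf U).map ((Tf R).map (c (n + 1))) ≫ eHom U G (op (n + 1)) := rfl
      calc T.map (homOfLE (n.le_add_right 1)).op ≫ θ n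
          = ((Rf U).map ((Tf R).map (ModuleCat.ofHom (g n))) ≫ (Rf U).map ((Tf R).map (c n))) ≫
              eHom U G (op n) := by
            rw [e1, e4]
            exact (Category.assoc _ _ _).symm
        _ = (Rf U).map ((Tf R).map (c (n + 1))) ≫ (Rf U).map ((Tf R).map (tn U G n)) ≫
              eHom U G (op n) := by
            rw [e2]
            exact Category.assoc _ _ _
        _ = θ (n + 1) ≫ G.map (homOfLE (n.le_add_right 1)).op := by
            rw [e3, e5]
            exact (Category.assoc _ _ _).symm)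
    have : ∀ n : ℕᵒᵖ, IsIso (Θ.app n) := fun n => by
      change IsIso (θ n.unop)
      exact hθiso n.unop
    have : IsIso Θ := NatIso.isIso_of_isIso_app Θ
    exact ⟨(asIso Θ).symm⟩

end Main

end Groth.Agent.Lib.T2H2.AlgzM
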