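import Mathlib
import Groth.Agent.Lib.LeadAzumayaLocal

/-!
# The centre of an Azumaya algebra

The centre of an Azumaya algebra over an arbitrary commutative ring is the base ring.
-/

namespace Groth.Agent.Lib.T2H2.AzCenter

open scoped TensorProduct
open MulOpposite

variable {R : Type*} [CommRing R] {A : Type*} [Ring A] [Algebra R A] [IsAzumaya R A]

/-- the values of the functionals on a faithful finite projective module generate the unit
ideal -/
theorem exists_contractLeft_eq_one : ∃ w : Module.Dual R A ⊗[R] A, contractLeft R A w = 1 := by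
  let τ : Ideal R := LinearMap.range (contractLeft R A)
  obtain ⟨n, x, ξ, hx⟩ := Groth.Agent.Lib.LeadAzumaya.exists_dualBasis (R := R) A
  have hle : (⊤ : Submodule R A) ≤ τ • (⊤ : Submodule R A) := by
    intro a _
    rw [hx a]
    refine Submodule.sum_mem _ fun i _ => ?_
    refine Submodule.smul_mem_smul ?_ trivial
    exact ⟨ξ i ⊗ₜ[R] a, by simp [contractLeft_apply]⟩
  obtain ⟨r, hr1, hr2⟩ := Submodule.exists_sub_one_mem_and_smul_eq_zero_of_fg_of_le_smul τ
    (⊤ : Submodule R A) Module.Finite.fg_top hle
  have h0 : r = 0 := by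
    have h1 : r • (1 : A) = 0 := hr2 1 trivial
    rw [← Algebra.algebraMap_eq_smul_one] at h1
    exact FaithfulSMul.algebraMap_injective R A (h1.trans (map_zero _).symm)
  rw [h0, zero_sub] at hr1
  have h1 : (1 : R) ∈ τ := by
    have := τ.neg_mem hr1
    rwa [neg_neg] at this
  exact h1

/-- the centre of an Azumaya algebra is the base ring -/
theorem exists_algebraMap_eq_of_central (z : A) (hz : ∀ x : A, z * x = x * z) :
    ∃ r : R, algebraMap R A r = z := by
  have hinj := (IsAzumaya.bij (R := R) (A := A)).1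
  have heq : (z ⊗ₜ[R] (1 : Aᵐᵒᵖ)) = ((1 : A) ⊗ₜ[R] (op z)) := by
    apply hinj
    ext x
    simp [AlgHom.mulLeftRight_apply, hz x]
  -- `φ x • z = φ (z * x) • 1`
  have key : ∀ (φ : Module.Dual R A) (x : A), φ x • z = φ (z * x) • (1 : A) := by
    intro φ x
    let ψ : A ⊗[R] Aᵐᵒᵖ →ₗ[R] A :=
      TensorProduct.lift (LinearMap.mk₂ R (fun (a : A) (b : Aᵐᵒᵖ) => φ a • b.unop)
        (fun a a' b => by rw [map_add, add_smul])
        (fun c a b => by rw [map_smul, smul_eq_mul, mul_smul])
        (fun a b b' => by rw [unop_add, smul_add])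
        (fun c a b => by rw [unop_smul, smul_comm]))
    have h1 : ∀ (a : A) (b : Aᵐᵒᵖ), ψ (a ⊗ₜ b) = φ a • b.unop := by
      intro a b
      simp [ψ]
    have h2 := congrArg (fun w => ψ ((x ⊗ₜ[R] (1 : Aᵐᵒᵖ)) * w)) heq
    simp only [Algebra.TensorProduct.tmul_mul_tmul, h1, mul_one, one_mul, unop_one, unop_op]
      at h2
    rw [← hz x] at h2
    exact h2.symm
  obtain ⟨w, hw⟩ := exists_contractLeft_eq_one (R := R) (A := A)
  have hall : ∀ w : Module.Dual R A ⊗[R] A, contractLeft R A w • z =
      contractLeft R A (LinearMap.lTensor _ (LinearMap.mulLeft R z) w) • (1 : A) := by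
    intro w
    induction w using TensorProduct.induction_on with
    | zero => simp
    | tmul φ x =>
      rw [LinearMap.lTensor_tmul, contractLeft_apply, contractLeft_apply, key]
      rfl
    | add a b ha hb => rw [map_add, add_smul, ha, hb, map_add, map_add, add_smul]
  have := hall w
  rw [hw, one_smul] at this
  exact ⟨_, (Algebra.algebraMap_eq_smul_one _).trans this.symm⟩

end Groth.Agent.Lib.T2H2.AzCenter
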