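import Mathlib
import Groth.Agent.Lib.Helper7AzFib
import Groth.Agent.Lib.LeadLocalInner

namespace Groth.Agent.Lib.T2H2.AzCharpoly

open scoped TensorProduct

section matbc

variable (S S' : Type*) [CommRing S] [CommRing S'] [Algebra S S']
  (n : Type*) [Fintype n] [DecidableEq n]

/-- base change of a matrix algebra -/
noncomputable def matBaseChange : S' ⊗[S] Matrix n n S ≃ₐ[S'] Matrix n n S' :=
  AlgEquiv.ofRingEquiv (f := (matrixEquivTensor n S S').symm.toRingEquiv) (by
    intro s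
    rw [Algebra.TensorProduct.algebraMap_apply]
    show (matrixEquivTensor n S S').symm (_ ⊗ₜ 1) = _
    rw [matrixEquivTensor_apply_symm, Matrix.map_one _ (map_zero _) (map_one _)]
    exact (Algebra.algebraMap_eq_smul_one s).symm)

theorem matBaseChange_tmul (a : S') (x : Matrix n n S) :
    matBaseChange S S' n (a ⊗ₜ x) = a • x.map (algebraMap S S') :=
  matrixEquivTensor_apply_symm n S S' a x

theorem matBaseChange_one_tmul (x : Matrix n n S) :
    matBaseChange S S' n (1 ⊗ₜ x) = x.map (algebraMap S S') := by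
  rw [matBaseChange_tmul, one_smul]

end matbc

section charpoly

theorem charpoly_algEquiv_local {S : Type*} [CommRing S] [IsLocalRing S] {n : ℕ}
    (θ : Matrix (Fin n) (Fin n) S ≃ₐ[S] Matrix (Fin n) (Fin n) S) (x : Matrix (Fin n) (Fin n) S) :
    (θ x).charpoly = x.charpoly := by
  rcases Nat.eq_zero_or_pos n with h0 | hpos
  · subst h0
    rw [Subsingleton.elim (θ x) x]
  · have : Nonempty (Fin n) := ⟨⟨0, hpos⟩⟩
    have := IsAzumaya.matrix S (Fin n)
    obtain ⟨a, ha⟩ := Groth.Agent.Lib.LeadLocalInner.exists_unit_conj θ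
    rw [ha x]
    have h := Matrix.charpoly_units_conj a x
    rwa [← Matrix.coe_units_inv] at h

theorem charpoly_algEquiv {S : Type*} [CommRing S] {n : ℕ}
    (θ : Matrix (Fin n) (Fin n) S ≃ₐ[S] Matrix (Fin n) (Fin n) S) (x : Matrix (Fin n) (Fin n) S) :
    (θ x).charpoly = x.charpoly := by
  ext i
  rw [← sub_eq_zero]
  apply eq_zero_of_localization
  intro J hJ
  have := hJ.isPrime
  let S' := Localization.AtPrime J
  let τ := matBaseChange S S' (Fin n)
  let θ' : Matrix (Fin n) (Fin n) S' ≃ₐ[S'] Matrix (Fin n) (Fin n) S' :=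
    τ.symm.trans ((Algebra.TensorProduct.congr (AlgEquiv.refl : S' ≃ₐ[S'] S') θ).trans τ)
  have h1 : θ' (x.map (algebraMap S S')) = (θ x).map (algebraMap S S') := by
    rw [← matBaseChange_one_tmul, ← matBaseChange_one_tmul]
    simp [θ', τ]
  have h2 := charpoly_algEquiv_local θ' (x.map (algebraMap S S'))
  rw [h1, Matrix.charpoly_map, Matrix.charpoly_map] at h2
  rw [map_sub, sub_eq_zero, ← Polynomial.coeff_map, ← Polynomial.coeff_map, h2]

theorem charpoly_eq_of_algEquiv {S : Type*} [CommRing S] {B : Type*} [Ring B] [Algebra S B] {n : ℕ}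
    (Φ Ψ : B ≃ₐ[S] Matrix (Fin n) (Fin n) S) (b : B) : (Φ b).charpoly = (Ψ b).charpoly := by
  have h := charpoly_algEquiv (Φ.symm.trans Ψ) (Φ b)
  rw [← h]
  simp

end charpoly



section split

variable {R : Type*} [CommRing R] {A : Type*} [Ring A] [Algebra R A]
  {R' : Type*} [CommRing R'] [Algebra R R'] {n : ℕ}
  (φ : R' ⊗[R] A ≃ₐ[R'] Matrix (Fin n) (Fin n) R')
  (S : Type*) [CommRing S] [Algebra R S] [Algebra R' S] [IsScalarTower R R' S]

/-- base change of a splitting -/
noncomputable def splitBaseChange : S ⊗[R] A ≃ₐ[S] Matrix (Fin n) (Fin n) S :=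
  (Groth.Agent.Lib.Helper7.AzFib.cancelBaseChangeAlg R R' S A).symm.trans
    ((Algebra.TensorProduct.congr (AlgEquiv.refl : S ≃ₐ[S] S) φ).trans
      (matBaseChange R' S (Fin n)))

theorem cancel_symm_one_tmul (a : A) :
    (Groth.Agent.Lib.Helper7.AzFib.cancelBaseChangeAlg R R' S A).symm (1 ⊗ₜ a) =
      (1 : S) ⊗ₜ[R'] ((1 : R') ⊗ₜ[R] a) :=
  TensorProduct.AlgebraTensorModule.cancelBaseChange_symm_tmul R R' S (1 : S) a

theorem splitBaseChange_one_tmul (a : A) :
    splitBaseChange φ S (1 ⊗ₜ a) = (φ (1 ⊗ₜ a)).map (algebraMap R' S) := by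
  unfold splitBaseChange
  rw [AlgEquiv.trans_apply, cancel_symm_one_tmul, AlgEquiv.trans_apply,
    Algebra.TensorProduct.congr_apply, Algebra.TensorProduct.map_tmul]
  exact matBaseChange_one_tmul R' S (Fin n) _

end split

section main

variable {R : Type*} [CommRing R] {A : Type*} [Ring A] [Algebra R A] (a : A) {n : ℕ}
  {R' : Type*} [CommRing R'] [Algebra R R']
  (φ : R' ⊗[R] A ≃ₐ[R'] Matrix (Fin n) (Fin n) R')
  {R'' : Type*} [CommRing R''] [Algebra R R'']
  (ψ : R'' ⊗[R] A ≃ₐ[R''] Matrix (Fin n) (Fin n) R'')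

theorem compare (S : Type*) [CommRing S] [Algebra R S] [Algebra R' S] [IsScalarTower R R' S]
    [Algebra R'' S] [IsScalarTower R R'' S] :
    (φ (1 ⊗ₜ a)).charpoly.map (algebraMap R' S) = (ψ (1 ⊗ₜ a)).charpoly.map (algebraMap R'' S) := by
  rw [← Matrix.charpoly_map, ← Matrix.charpoly_map, ← splitBaseChange_one_tmul,
    ← splitBaseChange_one_tmul]
  exact charpoly_eq_of_algEquiv _ _ _

end main



section main2

variable {R : Type*} [CommRing R] {A : Type*} [Ring A] [Algebra R A] (a : A) {n : ℕ}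
  {R' : Type*} [CommRing R'] [Algebra R R'] [Module.FaithfullyFlat R R']
  (φ : R' ⊗[R] A ≃ₐ[R'] Matrix (Fin n) (Fin n) R')
  {R'' : Type*} [CommRing R''] [Algebra R R''] [Module.FaithfullyFlat R R'']
  (ψ : R'' ⊗[R] A ≃ₐ[R''] Matrix (Fin n) (Fin n) R'')

theorem exists_descent :
    ∃ p : Polynomial R, p.map (algebraMap R R') = (φ (1 ⊗ₜ a)).charpoly := by
  have h1 := @compare R _ A _ _ a n R' _ _ φ R' _ _ φ (R' ⊗[R] R') _ _
    Algebra.TensorProduct.leftAlgebra _ Algebra.TensorProduct.rightAlgebra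
    Algebra.TensorProduct.right_isScalarTower
  have h2 : (φ (1 ⊗ₜ a)).charpoly ∈ Polynomial.lifts (algebraMap R R') := by
    rw [Polynomial.lifts_iff_coeff_lifts]
    intro i
    have h3 := congrArg (fun q => Polynomial.coeff q i) h1
    simp only [Polynomial.coeff_map] at h3
    have heff := Algebra.IsEffective.of_faithfullyFlat R R'
    have h4 := (heff ((φ (1 ⊗ₜ a)).charpoly.coeff i)).1 (by
      rw [Algebra.TensorProduct.includeLeftSubRight_apply, sub_eq_zero]
      exact h3)
    obtain ⟨r, hr⟩ := h4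
    exact ⟨r, hr⟩
  exact (Polynomial.mem_lifts _).1 h2

theorem map_eq_of_map_eq (p : Polynomial R)
    (hp : p.map (algebraMap R R') = (φ (1 ⊗ₜ a)).charpoly) :
    p.map (algebraMap R R'') = (ψ (1 ⊗ₜ a)).charpoly := by
  let _ : Algebra R'' (R' ⊗[R] R'') := Algebra.TensorProduct.rightAlgebra
  have h1 := compare a φ ψ (R' ⊗[R] R'')
  have hinj : Function.Injective (algebraMap R'' (R' ⊗[R] R'')) :=
    Algebra.TensorProduct.includeRight_injective (R := R) (A := R') (B := R'')
      (FaithfulSMul.algebraMap_injective R R')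
  apply Polynomial.map_injective _ hinj
  rw [← h1, ← hp, Polynomial.map_map, Polynomial.map_map,
    ← IsScalarTower.algebraMap_eq, ← IsScalarTower.algebraMap_eq]

theorem aeval_eq_zero (p : Polynomial R)
    (hp : p.map (algebraMap R R') = (φ (1 ⊗ₜ a)).charpoly) :
    Polynomial.aeval a p = 0 := by
  apply Module.FaithfullyFlat.tensorProduct_mk_injective (A := R) (B := R') A
  rw [map_zero]
  apply φ.injective
  rw [map_zero]
  have h1 : TensorProduct.mk R R' A 1 (Polynomial.aeval a p) =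
      Polynomial.aeval ((1 : R') ⊗ₜ[R] a) p := by
    have := Polynomial.aeval_algHom_apply
      (Algebra.TensorProduct.includeRight : A →ₐ[R] R' ⊗[R] A) a p
    simpa using this.symm
  rw [h1, ← Polynomial.aeval_map_algebraMap R', hp]
  have h2 := Polynomial.aeval_algHom_apply
    (φ : R' ⊗[R] A →ₐ[R'] Matrix (Fin n) (Fin n) R') ((1 : R') ⊗ₜ[R] a) (φ (1 ⊗ₜ a)).charpoly
  rw [AlgEquiv.coe_toAlgHom] at h2
  rw [← h2]
  exact Matrix.aeval_self_charpoly _

theorem main : ∃ p : Polynomial R,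
      p.map (algebraMap R R') = (φ ((1 : R') ⊗ₜ[R] a)).charpoly ∧
        p.map (algebraMap R R'') = (ψ ((1 : R'') ⊗ₜ[R] a)).charpoly ∧
          Polynomial.aeval a p = 0 := by
  obtain ⟨p, hp⟩ := exists_descent a φ
  exact ⟨p, hp, map_eq_of_map_eq a φ ψ p hp, aeval_eq_zero a φ p hp⟩

end main2

end Groth.Agent.Lib.T2H2.AzCharpoly
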