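import Mathlib
import Groth.Agent.Lib.Helper26HenselIdem
import Groth.Agent.Lib.LeadAzumaya
import Groth.Agent.Lib.LeadAzumayaLocal

/-!
# Lifting isomorphisms of Azumaya algebras over a henselian local ring (universe polymorphic)

Idempotent lifting for finite noncommutative algebras over a henselian local ring, and the lifting
of an isomorphism of special fibres of two Azumaya algebras `A`, `B` through a lifted rank one
idempotent of `A ⊗ Bᵐᵒᵖ`.
-/

namespace Groth.Agent.Lib.T2H2.AzHensIsoU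

open Polynomial
open scoped TensorProduct

universe u v w

section idem

variable {R : Type u} [CommRing R] [HenselianLocalRing R] {Γ : Type v} [Ring Γ] [Algebra R Γ]
  [Module.Finite R Γ] {T : Type*} [Ring T] (Λ : Γ →+* T)

/-- an element of `𝔪 C` is killed by a monic polynomial `X ^ n + (coefficients in 𝔪)` -/
theorem exists_monic_aeval_eq_zero (x : Γ)
    (hx : x ∈ (IsLocalRing.maximalIdeal R) • (⊤ : Submodule R Γ)) :
    ∃ p : R[X], p.Monic ∧ (∀ k, k < p.natDegree → p.coeff k ∈ IsLocalRing.maximalIdeal R) ∧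
      aeval x p = 0 := by
  have hrange : LinearMap.range (LinearMap.mulLeft R x) ≤
      (IsLocalRing.maximalIdeal R) • (⊤ : Submodule R Γ) := by
    rintro _ ⟨y, rfl⟩
    rw [LinearMap.mulLeft_apply]
    refine Submodule.smul_induction_on hx ?_ ?_
    · intro r hr c _
      rw [smul_mul_assoc]
      exact Submodule.smul_mem_smul hr trivial
    · intro a b ha hb
      rw [add_mul]
      exact Submodule.add_mem _ ha hb
  obtain ⟨p, hpm, -, hpc, hpa⟩ :=
    LinearMap.exists_monic_and_natDegree_eq_and_coeff_mem_pow_and_aeval_eq_zero R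
      (LinearMap.mulLeft R x) (IsLocalRing.maximalIdeal R) hrange
  refine ⟨p, hpm, ?_, ?_⟩
  · intro k hk
    exact Ideal.pow_le_self (Nat.sub_ne_zero_of_lt hk) (hpc k)
  · have h1 := Polynomial.aeval_algHom_apply (Algebra.lmul R Γ) x p
    have h2 : Algebra.lmul R Γ x = LinearMap.mulLeft R x := rfl
    rw [h2, hpa] at h1
    have h3 := LinearMap.congr_fun h1 1
    simp only [LinearMap.zero_apply] at h3
    rw [Algebra.coe_lmul_eq_mul, LinearMap.mul_apply', mul_one] at h3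
    exact h3.symm


omit [Module.Finite R Γ] in
theorem smul_one_mem (r : R) (hr : r ∈ IsLocalRing.maximalIdeal R) :
    algebraMap R Γ r ∈ (IsLocalRing.maximalIdeal R) • (⊤ : Submodule R Γ) := by
  rw [Algebra.algebraMap_eq_smul_one]
  exact Submodule.smul_mem_smul hr trivial

/-- idempotents lift along `C → C / 𝔪 C` for a finite (not necessarily commutative) algebra `C`
over a henselian local ring -/
theorem exists_idempotent_lift
    (hker : ∀ x, Λ x = 0 ↔ x ∈ (IsLocalRing.maximalIdeal R) • (⊤ : Submodule R Γ))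
    (ε : T) (hε : IsIdempotentElem ε) (hr : ε ∈ Λ.range) :
    ∃ e : Γ, IsIdempotentElem e ∧ Λ e = ε := by
  classical
  obtain ⟨c, rfl⟩ := hr
  -- the commutative algebra `R[c]`, as a quotient of `R[X]`
  let φ : R[X] →ₐ[R] Γ := aeval c
  let ι : (R[X] ⧸ RingHom.ker φ) →ₐ[R] Γ := Ideal.kerLiftAlg φ
  have hι : Function.Injective ι := Ideal.kerLiftAlg_injective φ
  have hint : Algebra.IsIntegral R (R[X] ⧸ RingHom.ker φ) := by
    constructor
    intro d
    rw [← isIntegral_algHom_iff ι hι]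
    exact IsIntegral.of_finite R (ι d)
  let q := Ideal.Quotient.mk ((IsLocalRing.maximalIdeal R).map
    (algebraMap R (R[X] ⧸ RingHom.ker φ)))
  have hkill : ∀ a ∈ (IsLocalRing.maximalIdeal R).map (algebraMap R (R[X] ⧸ RingHom.ker φ)),
      (Λ.comp ι.toRingHom) a = 0 := by
    intro a ha
    have hle : (IsLocalRing.maximalIdeal R).map (algebraMap R (R[X] ⧸ RingHom.ker φ)) ≤
        RingHom.ker (Λ.comp ι.toRingHom) := by
      rw [Ideal.map_le_iff_le_comap]
      intro r hr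
      rw [Ideal.mem_comap, RingHom.mem_ker, RingHom.comp_apply]
      have : ι.toRingHom (algebraMap R (R[X] ⧸ RingHom.ker φ) r) = algebraMap R Γ r :=
        ι.commutes r
      rw [this, hker]
      exact smul_one_mem r hr
    exact hle ha
  let f : ((R[X] ⧸ RingHom.ker φ) ⧸ (IsLocalRing.maximalIdeal R).map
      (algebraMap R (R[X] ⧸ RingHom.ker φ))) →+* T :=
    Ideal.Quotient.lift _ (Λ.comp ι.toRingHom) hkill
  have hf : ∀ d, f (q d) = Λ (ι d) := fun d => rfl
  have hnil : ∀ y ∈ RingHom.ker (R := (R[X] ⧸ RingHom.ker φ) ⧸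
      (IsLocalRing.maximalIdeal R).map (algebraMap R (R[X] ⧸ RingHom.ker φ))) f,
      IsNilpotent y := by
    intro y hy
    obtain ⟨d, rfl⟩ := Ideal.Quotient.mk_surjective y
    change f (q d) = 0 at hy
    rw [hf, hker] at hy
    obtain ⟨p, hpm, hpc, hpa⟩ := exists_monic_aeval_eq_zero (ι d) hy
    have hd : aeval d p = 0 := by
      apply hι
      rw [← Polynomial.aeval_algHom_apply, hpa, map_zero]
    refine ⟨p.natDegree, ?_⟩
    have h1 : q (aeval d p) = 0 := by rw [hd, map_zero]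
    rw [hpm.as_sum, map_add, map_pow, aeval_X, map_sum, map_add, map_sum] at h1
    have h2 : ∀ i ∈ Finset.range p.natDegree, q (aeval d (C (p.coeff i) * X ^ i)) = 0 := by
      intro i hi
      change Ideal.Quotient.mk _ _ = 0
      rw [Ideal.Quotient.eq_zero_iff_mem, map_mul, aeval_C]
      exact Ideal.mul_mem_right _ _ (Ideal.mem_map_of_mem _ (hpc i (Finset.mem_range.1 hi)))
    rw [Finset.sum_eq_zero h2, add_zero, map_pow] at h1
    exact h1
  have hrange : Λ c ∈ RingHom.range (R := (R[X] ⧸ RingHom.ker φ) ⧸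
      (IsLocalRing.maximalIdeal R).map (algebraMap R (R[X] ⧸ RingHom.ker φ))) f := by
    refine ⟨q (Ideal.Quotient.mk _ X), ?_⟩
    rw [hf]
    congr 1
    show φ X = c
    exact aeval_X c
  obtain ⟨ē, hē, hfē⟩ := exists_isIdempotentElem_eq_of_ker_isNilpotent
    (R := (R[X] ⧸ RingHom.ker φ) ⧸ (IsLocalRing.maximalIdeal R).map
      (algebraMap R (R[X] ⧸ RingHom.ker φ))) f hnil (Λ c) hrange hε
  obtain ⟨e, he, hqe⟩ := Groth.Agent.Lib.Helper26.HenselIdem.idem_surjOn R
    (IsLocalRing.maximalIdeal R) (R[X] ⧸ RingHom.ker φ) hē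
  refine ⟨ι e, he.map ι, ?_⟩
  rw [← hf]
  change f (Ideal.Quotient.mk _ e) = _
  rw [hqe, hfē]

end idem


section Lam

variable (R : Type u) [CommRing R] [IsLocalRing R] (A : Type v) [Ring A] [Algebra R A]
  (B : Type w) [Ring B] [Algebra R B]

local notation "𝕜" => IsLocalRing.ResidueField R

variable (e₀ : (IsLocalRing.ResidueField R ⊗[R] A) ≃ₐ[IsLocalRing.ResidueField R]
  (IsLocalRing.ResidueField R ⊗[R] B))

/-- left multiplication by `e₀ (1 ⊗ a)` -/
noncomputable def leftHom : A →ₐ[R] Module.End 𝕜 (𝕜 ⊗[R] B) :=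
  ((Algebra.lmul 𝕜 (𝕜 ⊗[R] B)).restrictScalars R).comp
    ((e₀.toAlgHom.restrictScalars R).comp (Algebra.TensorProduct.includeRight : A →ₐ[R] 𝕜 ⊗[R] A))

theorem leftHom_apply (a : A) (z : 𝕜 ⊗[R] B) :
    leftHom R A B e₀ a z = e₀ ((1 : 𝕜) ⊗ₜ[R] a) * z := rfl

/-- right multiplication by `1 ⊗ b` -/
noncomputable def rightHom : Bᵐᵒᵖ →ₐ[R] Module.End 𝕜 (𝕜 ⊗[R] B) where
  toFun b := LinearMap.mulRight 𝕜 ((1 : 𝕜) ⊗ₜ[R] b.unop)
  map_one' := by
    ext z
    simp
  map_mul' x y := by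
    ext z
    simp [mul_assoc]
  map_zero' := by
    ext z
    simp
  map_add' x y := by
    ext z
    simp [TensorProduct.tmul_add, mul_add]
  commutes' r := by
    ext z
    simp [Algebra.algebraMap_eq_smul_one, TensorProduct.tmul_smul]

theorem rightHom_apply (b : Bᵐᵒᵖ) (z : 𝕜 ⊗[R] B) :
    rightHom R B b z = z * ((1 : 𝕜) ⊗ₜ[R] b.unop) := rfl

/-- the action of `A ⊗ Bᵐᵒᵖ` on the special fibre of `B` -/
noncomputable def Lam : A ⊗[R] Bᵐᵒᵖ →ₐ[R] Module.End 𝕜 (𝕜 ⊗[R] B) :=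
  Algebra.TensorProduct.lift (leftHom R A B e₀) (rightHom R B) (by
    intro a b
    apply LinearMap.ext
    intro z
    show leftHom R A B e₀ a (rightHom R B b z) = rightHom R B b (leftHom R A B e₀ a z)
    rw [leftHom_apply, rightHom_apply, rightHom_apply, leftHom_apply, mul_assoc])

theorem Lam_tmul_apply (a : A) (b : Bᵐᵒᵖ) (z : 𝕜 ⊗[R] B) :
    Lam R A B e₀ (a ⊗ₜ[R] b) z = e₀ ((1 : 𝕜) ⊗ₜ[R] a) * z * ((1 : 𝕜) ⊗ₜ[R] b.unop) := by
  rw [Lam, Algebra.TensorProduct.lift_tmul, Module.End.mul_apply, leftHom_apply, rightHom_apply,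
    mul_assoc]


variable [IsAzumaya R A] [IsAzumaya R B]

omit [IsAzumaya R A] in
theorem Lam_surjective : Function.Surjective (Lam R A B e₀) := by
  have hAz : IsAzumaya 𝕜 (𝕜 ⊗[R] B) := Groth.Agent.Lib.LeadAzumaya.isAzumaya_baseChange 𝕜 B
  intro T
  obtain ⟨z, rfl⟩ := (IsAzumaya.bij (R := 𝕜) (A := 𝕜 ⊗[R] B)).2 T
  induction z using TensorProduct.induction_on with
  | zero => exact ⟨0, by simp⟩
  | add x y hx hy =>
    obtain ⟨x', hx'⟩ := hx
    obtain ⟨y', hy'⟩ := hy
    exact ⟨x' + y', by rw [map_add, hx', hy', map_add]⟩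
  | tmul x y =>
    obtain ⟨a', ha'⟩ := (TensorProduct.mk_surjective R A 𝕜 Ideal.Quotient.mk_surjective)
      (e₀.symm x)
    obtain ⟨b, hb⟩ := (TensorProduct.mk_surjective R B 𝕜 Ideal.Quotient.mk_surjective) y.unop
    rw [TensorProduct.mk_apply] at ha' hb
    refine ⟨a' ⊗ₜ MulOpposite.op b, ?_⟩
    apply LinearMap.ext
    intro w
    rw [Lam_tmul_apply, AlgHom.mulLeftRight_apply, ha', MulOpposite.unop_op, hb,
      AlgEquiv.apply_symm_apply]

theorem Lam_eq_zero_iff (x : A ⊗[R] Bᵐᵒᵖ) : Lam R A B e₀ x = 0 ↔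
    x ∈ (IsLocalRing.maximalIdeal R) • (⊤ : Submodule R (A ⊗[R] Bᵐᵒᵖ)) := by
  classical
  have hAzA : IsAzumaya 𝕜 (𝕜 ⊗[R] A) := Groth.Agent.Lib.LeadAzumaya.isAzumaya_baseChange 𝕜 A
  have hAzB : IsAzumaya 𝕜 (𝕜 ⊗[R] B) := Groth.Agent.Lib.LeadAzumaya.isAzumaya_baseChange 𝕜 B
  have hfA : Module.Free R A := Module.free_of_flat_of_isLocalRing
  have hfB : Module.Free R B := Module.free_of_flat_of_isLocalRing
  constructor
  · intro hx
    let Lk : 𝕜 ⊗[R] (A ⊗[R] Bᵐᵒᵖ) →ₗ[𝕜] Module.End 𝕜 (𝕜 ⊗[R] B) :=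
      LinearMap.liftBaseChange 𝕜 (Lam R A B e₀).toLinearMap
    have hLk : ∀ y, Lk ((1 : 𝕜) ⊗ₜ[R] y) = Lam R A B e₀ y := by
      intro y
      simp [Lk]
    have hsurj : Function.Surjective Lk := by
      intro T
      obtain ⟨y, hy⟩ := Lam_surjective R A B e₀ T
      exact ⟨(1 : 𝕜) ⊗ₜ[R] y, by rw [hLk, hy]⟩
    have hdim : Module.finrank 𝕜 (𝕜 ⊗[R] (A ⊗[R] Bᵐᵒᵖ)) =
        Module.finrank 𝕜 (Module.End 𝕜 (𝕜 ⊗[R] B)) := by
      have h1 : Module.finrank 𝕜 (𝕜 ⊗[R] A) = Module.finrank 𝕜 (𝕜 ⊗[R] B) :=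
        e₀.toLinearEquiv.finrank_eq
      rw [Module.finrank_baseChange, Module.finrank_baseChange] at h1
      rw [Module.finrank_baseChange, Module.finrank_tensorProduct, Module.finrank_linearMap,
        Module.finrank_baseChange, (MulOpposite.opLinearEquiv R (M := B)).symm.finrank_eq, h1]
    have hinj : Function.Injective Lk :=
      (LinearMap.injective_iff_surjective_of_finrank_eq_finrank hdim).2 hsurj
    have h0 : (1 : 𝕜) ⊗ₜ[R] x = 0 := by
      apply hinj
      rw [hLk, hx, map_zero]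
    have h1 : ((1 : R ⧸ IsLocalRing.maximalIdeal R) ⊗ₜ[R] x = 0) := h0
    rwa [← (TensorProduct.quotTensorEquivQuotSMul (A ⊗[R] Bᵐᵒᵖ)
      (IsLocalRing.maximalIdeal R)).map_eq_zero_iff,
      TensorProduct.quotTensorEquivQuotSMul_mk_one_tmul, Submodule.Quotient.mk_eq_zero] at h1
  · intro hx
    refine Submodule.smul_induction_on hx ?_ ?_
    · intro r hr c _
      rw [map_smul, ← algebraMap_smul 𝕜 r]
      have : algebraMap R 𝕜 r = 0 := by
        rw [IsLocalRing.ResidueField.algebraMap_eq, IsLocalRing.residue_eq_zero_iff]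
        exact hr
      rw [this, zero_smul]
    · intro a b ha hb
      rw [map_add, ha, hb, add_zero]

end Lam


section main

variable (R : Type u) [CommRing R] [HenselianLocalRing R] (A : Type v) [Ring A] [Algebra R A]
  [IsAzumaya R A] (B : Type w) [Ring B] [Algebra R B] [IsAzumaya R B]
  (e₀ : (IsLocalRing.ResidueField R ⊗[R] A) ≃ₐ[IsLocalRing.ResidueField R]
    (IsLocalRing.ResidueField R ⊗[R] B))

local notation "𝕜" => IsLocalRing.ResidueField R

theorem main : ∃ e : A ≃ₐ[R] B, ∀ a : A,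
    e₀ ((1 : 𝕜) ⊗ₜ[R] a) = (1 : 𝕜) ⊗ₜ[R] (e a) := by
  classical
  have hAzB : IsAzumaya 𝕜 (𝕜 ⊗[R] B) := Groth.Agent.Lib.LeadAzumaya.isAzumaya_baseChange 𝕜 B
  have hfA : Module.Free R A := Module.free_of_flat_of_isLocalRing
  have hfB : Module.Free R B := Module.free_of_flat_of_isLocalRing
  have hnt : Nontrivial (𝕜 ⊗[R] B) :=
    (FaithfulSMul.algebraMap_injective 𝕜 (𝕜 ⊗[R] B)).nontrivial
  -- a functional with `lam 1 = 1`
  obtain ⟨lam, hlam⟩ : ∃ l : Module.Dual 𝕜 (𝕜 ⊗[R] B), l 1 = 1 :=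
    Module.Projective.exists_dual_eq_one 𝕜 one_ne_zero
  -- the rank one idempotent of the fibre
  let ε₀ : Module.End 𝕜 (𝕜 ⊗[R] B) := LinearMap.smulRight lam (1 : 𝕜 ⊗[R] B)
  have hε₀a : ∀ w, ε₀ w = lam w • (1 : 𝕜 ⊗[R] B) := fun w => rfl
  have hε₀ : IsIdempotentElem ε₀ := by
    apply LinearMap.ext
    intro w
    rw [Module.End.mul_apply, hε₀a, hε₀a, map_smul, hlam, smul_eq_mul, mul_one]
  obtain ⟨e, he, hΛe⟩ := exists_idempotent_lift (Lam R A B e₀).toRingHom
    (Lam_eq_zero_iff R A B e₀) ε₀ hε₀ (by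
      obtain ⟨y, hy⟩ := Lam_surjective R A B e₀ ε₀
      exact ⟨y, hy⟩)
  change Lam R A B e₀ e = ε₀ at hΛe
  have hee : e * e = e := he.eq
  -- evaluation at `1`
  let ev : A ⊗[R] Bᵐᵒᵖ →ₗ[R] 𝕜 ⊗[R] B :=
    { toFun := fun x => Lam R A B e₀ x 1
      map_add' := fun x y => by rw [map_add, LinearMap.add_apply]
      map_smul' := fun r x => by rw [map_smul, LinearMap.smul_apply, RingHom.id_apply] }
  have hev : ∀ x, ev x = Lam R A B e₀ x 1 := fun x => rfl
  have hΛe1 : Lam R A B e₀ e 1 = 1 := by rw [hΛe, hε₀a, hlam, one_smul]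
  let α : A →ₗ[R] A ⊗[R] Bᵐᵒᵖ :=
    (LinearMap.mulRight R e) ∘ₗ
      (Algebra.TensorProduct.includeLeft : A →ₐ[R] A ⊗[R] Bᵐᵒᵖ).toLinearMap
  let β : B →ₗ[R] A ⊗[R] Bᵐᵒᵖ :=
    (LinearMap.mulRight R e) ∘ₗ
      (Algebra.TensorProduct.includeRight : Bᵐᵒᵖ →ₐ[R] A ⊗[R] Bᵐᵒᵖ).toLinearMap ∘ₗ
      (MulOpposite.opLinearEquiv R : B ≃ₗ[R] Bᵐᵒᵖ).toLinearMap
  have hα : ∀ a, α a = (a ⊗ₜ[R] (1 : Bᵐᵒᵖ)) * e := fun a => rfl
  have hβ : ∀ b, β b = ((1 : A) ⊗ₜ[R] MulOpposite.op b) * e := fun b => rfl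
  have hevα : ∀ a, ev (α a) = e₀ ((1 : 𝕜) ⊗ₜ[R] a) := by
    intro a
    rw [hev, hα, map_mul, Module.End.mul_apply, hΛe1, Lam_tmul_apply, MulOpposite.unop_one,
      ← Algebra.TensorProduct.one_def, mul_one, mul_one]
  have hevβ : ∀ b, ev (β b) = (1 : 𝕜) ⊗ₜ[R] b := by
    intro b
    rw [hev, hβ, map_mul, Module.End.mul_apply, hΛe1, Lam_tmul_apply, MulOpposite.unop_op,
      ← Algebra.TensorProduct.one_def, map_one, one_mul, one_mul]
  have hαe : ∀ a, α a * e = α a := fun a => by rw [hα, mul_assoc, hee]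
  have hβe : ∀ b, β b * e = β b := fun b => by rw [hβ, mul_assoc, hee]
  -- the key congruence
  have hkey : ∀ x y : A ⊗[R] Bᵐᵒᵖ, x * e = x → y * e = y → ev x = ev y →
      x - y ∈ (IsLocalRing.maximalIdeal R) • (LinearMap.range (LinearMap.mulRight R e)) := by
    intro x y hx hy hxy
    have h1 : ∀ z : A ⊗[R] Bᵐᵒᵖ, z * e = z → ∀ w, Lam R A B e₀ z w = lam w • ev z := by
      intro z hz w
      rw [← hz, map_mul, Module.End.mul_apply, hΛe, hε₀a, map_smul, hev, hz]
    have h2 : Lam R A B e₀ (x - y) = 0 := by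
      apply LinearMap.ext
      intro w
      rw [map_sub, LinearMap.sub_apply, h1 x hx, h1 y hy, hxy, sub_self, LinearMap.zero_apply]
    rw [Lam_eq_zero_iff] at h2
    have h3 : (x - y) = LinearMap.mulRight R e (x - y) := by
      rw [LinearMap.mulRight_apply, sub_mul, hx, hy]
    rw [h3, LinearMap.range_eq_map, ← Submodule.map_smul'']
    exact Submodule.mem_map_of_mem h2
  have hPfg : (LinearMap.range (LinearMap.mulRight R e)).FG := by
    rw [LinearMap.range_eq_map]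
    exact Module.Finite.fg_top.map _
  have hPmem : ∀ x ∈ LinearMap.range (LinearMap.mulRight R e), x * e = x := by
    rintro _ ⟨y, rfl⟩
    rw [LinearMap.mulRight_apply, mul_assoc, hee]
  have hjac : IsLocalRing.maximalIdeal R ≤ Ideal.jacobson ⊥ := by
    rw [IsLocalRing.jacobson_eq_maximalIdeal ⊥ bot_ne_top]
  have hsurjA := TensorProduct.mk_surjective R A 𝕜 Ideal.Quotient.mk_surjective
  have hsurjB := TensorProduct.mk_surjective R B 𝕜 Ideal.Quotient.mk_surjective
  have hrangeβ : LinearMap.range β = LinearMap.range (LinearMap.mulRight R e) := by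
    apply le_antisymm
    · rintro _ ⟨b, rfl⟩
      exact ⟨_, rfl⟩
    · apply Submodule.le_of_le_smul_of_le_jacobson_bot hPfg hjac
      intro x hx
      obtain ⟨b, hb⟩ := hsurjB (ev x)
      rw [TensorProduct.mk_apply] at hb
      have h1 := hkey x (β b) (hPmem x hx) (hβe b) (by rw [hevβ, hb])
      have h2 : x = β b + (x - β b) := by abel
      rw [h2]
      exact Submodule.add_mem_sup ⟨b, rfl⟩ h1
  have hrangeα : LinearMap.range α = LinearMap.range (LinearMap.mulRight R e) := by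
    apply le_antisymm
    · rintro _ ⟨a, rfl⟩
      exact ⟨_, rfl⟩
    · apply Submodule.le_of_le_smul_of_le_jacobson_bot hPfg hjac
      intro x hx
      obtain ⟨a, ha⟩ := hsurjA (e₀.symm (ev x))
      rw [TensorProduct.mk_apply] at ha
      have h1 := hkey x (α a) (hPmem x hx) (hαe a) (by rw [hevα, ha, AlgEquiv.apply_symm_apply])
      have h2 : x = α a + (x - α a) := by abel
      rw [h2]
      exact Submodule.add_mem_sup ⟨a, rfl⟩ h1
  -- injectivity
  let evk : 𝕜 ⊗[R] (A ⊗[R] Bᵐᵒᵖ) →ₗ[𝕜] 𝕜 ⊗[R] B := LinearMap.liftBaseChange 𝕜 ev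
  have hevk : ∀ (c : 𝕜) x, evk (c ⊗ₜ[R] x) = c • ev x := by
    intro c x
    simp [evk]
  have hβinj : Function.Injective β := by
    have h1 : Function.Injective (β.lTensor 𝕜) := by
      apply Function.LeftInverse.injective (g := evk)
      intro z
      induction z using TensorProduct.induction_on with
      | zero => simp
      | add x y hx hy => rw [map_add, map_add, hx, hy]
      | tmul c b =>
        rw [LinearMap.lTensor_tmul, hevk, hevβ, TensorProduct.smul_tmul', smul_eq_mul, mul_one]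
    obtain ⟨l', hl'⟩ :=
      (IsLocalRing.split_injective_iff_lTensor_residueField_injective β).2 h1
    exact Function.LeftInverse.injective (g := l') (fun b => LinearMap.congr_fun hl' b)
  have hαinj : Function.Injective α := by
    have h1 : Function.Injective (α.lTensor 𝕜) := by
      have h2 : ∀ z, evk (α.lTensor 𝕜 z) = e₀ z := by
        intro z
        induction z using TensorProduct.induction_on with
        | zero => simp
        | add x y hx hy => rw [map_add, map_add, map_add, hx, hy]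
        | tmul c a =>
          rw [LinearMap.lTensor_tmul, hevk, hevα, ← map_smul, TensorProduct.smul_tmul',
            smul_eq_mul, mul_one]
      intro z z' hzz'
      apply e₀.injective
      rw [← h2, ← h2, hzz']
    obtain ⟨l', hl'⟩ :=
      (IsLocalRing.split_injective_iff_lTensor_residueField_injective α).2 h1
    exact Function.LeftInverse.injective (g := l') (fun a => LinearMap.congr_fun hl' a)
  -- the isomorphism
  let φ : A ≃ₗ[R] B :=
    (LinearEquiv.ofInjective α hαinj).trans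
      ((LinearEquiv.ofEq _ _ (hrangeα.trans hrangeβ.symm)).trans
        (LinearEquiv.ofInjective β hβinj).symm)
  have hφ : ∀ a, β (φ a) = α a := by
    intro a
    have h1 : (LinearEquiv.ofInjective β hβinj) (φ a) =
        (LinearEquiv.ofEq _ _ (hrangeα.trans hrangeβ.symm)) (LinearEquiv.ofInjective α hαinj a) := by
      simp [φ]
    have h2 := congrArg Subtype.val h1
    simpa using h2
  have hφ1 : φ 1 = 1 := by
    apply hβinj
    rw [hφ, hα, hβ, MulOpposite.op_one]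
  have hφmul : ∀ a a', φ (a * a') = φ a * φ a' := by
    intro a a'
    apply hβinj
    rw [hφ, hα]
    have h1 : (a * a') ⊗ₜ[R] (1 : Bᵐᵒᵖ) = (a ⊗ₜ[R] (1 : Bᵐᵒᵖ)) * (a' ⊗ₜ[R] (1 : Bᵐᵒᵖ)) := by
      rw [Algebra.TensorProduct.tmul_mul_tmul, one_mul]
    rw [h1, mul_assoc, ← hα a', ← hφ a', hβ, ← mul_assoc,
      Algebra.TensorProduct.tmul_mul_tmul, mul_one, one_mul]
    have h2 : a ⊗ₜ[R] MulOpposite.op (φ a') =
        ((1 : A) ⊗ₜ[R] MulOpposite.op (φ a')) * (a ⊗ₜ[R] (1 : Bᵐᵒᵖ)) := by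
      rw [Algebra.TensorProduct.tmul_mul_tmul, one_mul, mul_one]
    rw [h2, mul_assoc, ← hα a, ← hφ a, hβ, ← mul_assoc, Algebra.TensorProduct.tmul_mul_tmul,
      one_mul, ← MulOpposite.op_mul, hβ]
  refine ⟨AlgEquiv.ofLinearEquiv φ hφ1 hφmul, fun a => ?_⟩
  rw [← hevα, ← hφ, hevβ]
  rfl

end main

end Groth.Agent.Lib.T2H2.AzHensIsoU
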