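import Mathlib
import Groth.Agent.Lib.LeadAzumaya
import Groth.Agent.Lib.LeadAzumayaLocal
import Groth.Agent.Lib.LeadCSA
import Groth.Agent.Lib.T2H2AzCharpoly
import Groth.Agent.Lib.T2H2AzHensIsoU

/-!
# Homomorphisms of Azumaya algebras of equal rank

An algebra homomorphism between Azumaya algebras of the same rank is bijective, and an Azumaya
algebra of degree `n` over a strictly henselian local ring is a matrix algebra.
-/

namespace Groth.Agent.Lib.T2H2.AzHom

open scoped TensorProduct

section surj

variable {R : Type*} [CommRing R]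

/-- a linear map into a finite module that is surjective on all fibres is surjective -/
theorem surjective_of_forall_residueField {M N : Type*} [AddCommGroup M] [Module R M]
    [AddCommGroup N] [Module R N] [Module.Finite R N] (φ : M →ₗ[R] N)
    (h : ∀ p : PrimeSpectrum R,
      Function.Surjective (LinearMap.lTensor p.asIdeal.ResidueField φ)) :
    Function.Surjective φ := by
  let C := N ⧸ LinearMap.range φ
  let π : N →ₗ[R] C := (LinearMap.range φ).mkQ
  have hπ : Function.Surjective π := Submodule.mkQ_surjective _
  have hex : Function.Exact φ π := LinearMap.exact_map_mkQ_range φ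
  have hC : Subsingleton C := by
    by_contra hM
    rw [not_subsingleton_iff_nontrivial] at hM
    obtain ⟨p, hp⟩ := Module.nonempty_support_of_nontrivial (R := R) (M := C)
    rw [Module.mem_support_iff_nontrivial_residueField_tensorProduct] at hp
    have hex' := lTensor_exact p.asIdeal.ResidueField hex hπ
    have hz : ∀ z : p.asIdeal.ResidueField ⊗[R] C, z = 0 := by
      intro z
      obtain ⟨w, rfl⟩ := LinearMap.lTensor_surjective p.asIdeal.ResidueField hπ z
      obtain ⟨v, rfl⟩ := h p w
      exact (hex' _).mpr ⟨v, rfl⟩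
    obtain ⟨a, b, hab⟩ := hp.exists_pair_ne
    exact hab (by rw [hz a, hz b])
  rw [← LinearMap.range_eq_top]
  exact Submodule.Quotient.subsingleton_iff.mp hC

end surj

section hom

variable {R : Type*} [CommRing R] {A A' : Type*} [Ring A] [Ring A'] [Algebra R A] [Algebra R A']
  [IsAzumaya R A] [IsAzumaya R A']

/-- an algebra homomorphism between Azumaya algebras of the same rank is bijective -/
theorem bijective_of_isAzumaya (f : A →ₐ[R] A')
    (hr : ∀ p : PrimeSpectrum R, Module.rankAtStalk A p = Module.rankAtStalk A' p) :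
    Function.Bijective f := by
  have hsurj : Function.Surjective f.toLinearMap := by
    apply surjective_of_forall_residueField
    intro p
    let K := p.asIdeal.ResidueField
    have hAz : IsAzumaya K (K ⊗[R] A) := Groth.Agent.Lib.LeadAzumaya.isAzumaya_baseChange K A
    have hAz' : IsAzumaya K (K ⊗[R] A') := Groth.Agent.Lib.LeadAzumaya.isAzumaya_baseChange K A'
    have hsimple : IsSimpleRing (K ⊗[R] A) :=
      Groth.Agent.Lib.LeadAzumaya.isSimpleRing_of_isAzumaya_field (k := K)
    have hnt : Nontrivial (K ⊗[R] A') :=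
      (FaithfulSMul.algebraMap_injective K (K ⊗[R] A')).nontrivial
    let fK : K ⊗[R] A →ₐ[K] K ⊗[R] A' := Algebra.TensorProduct.map (AlgHom.id K K) f
    have hinj : Function.Injective fK := RingHom.injective fK.toRingHom
    have hdim : Module.finrank K (K ⊗[R] A) = Module.finrank K (K ⊗[R] A') := by
      have h1 := Module.rankAtStalk_eq (R := R) (M := A) p
      have h2 := Module.rankAtStalk_eq (R := R) (M := A') p
      rw [hr p] at h1
      exact h1.symm.trans h2
    have hsurjK : Function.Surjective fK.toLinearMap :=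
      (LinearMap.injective_iff_surjective_of_finrank_eq_finrank hdim).1 hinj
    have heq : LinearMap.lTensor K f.toLinearMap = fK.toLinearMap.restrictScalars R := by
      apply TensorProduct.ext'
      intro x y
      simp [fK]
    intro z
    obtain ⟨w, hw⟩ := hsurjK z
    refine ⟨w, ?_⟩
    rw [← hw]
    exact LinearMap.congr_fun heq w
  exact Module.bijective_of_surjective_of_rankAtStalk_eq (φ := f.toLinearMap) hsurj
    (fun m _ => hr ⟨m, inferInstance⟩)

end hom

section shens

universe u v

variable (T : Type u) [CommRing T] [HenselianLocalRing T]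
  [IsSepClosed (IsLocalRing.ResidueField T)] (A : Type v) [Ring A] [Algebra T A] [IsAzumaya T A]

/-- an Azumaya algebra of degree `n` over a strictly henselian local ring is a matrix algebra -/
theorem nonempty_algEquiv_matrix_of_strictHenselian (n : ℕ) (hr : Module.finrank T A = n ^ 2) :
    Nonempty (A ≃ₐ[T] Matrix (Fin n) (Fin n) T) := by
  classical
  let k := IsLocalRing.ResidueField T
  have hAzk : IsAzumaya k (k ⊗[T] A) := Groth.Agent.Lib.LeadAzumaya.isAzumaya_baseChange k A
  have hsimple : IsSimpleRing (k ⊗[T] A) :=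
    Groth.Agent.Lib.LeadAzumaya.isSimpleRing_of_isAzumaya_field (k := k)
  have hfA : Module.Free T A := Module.free_of_flat_of_isLocalRing
  obtain ⟨m, hm, ⟨φ⟩⟩ := Groth.Agent.Lib.LeadCSA.exists_algEquiv_matrix_of_isSepClosed
    (k := k) (A := k ⊗[T] A)
  have h1 : Module.finrank k (k ⊗[T] A) = n ^ 2 := by
    rw [Module.finrank_baseChange, hr]
  have h2 : Module.finrank k (k ⊗[T] A) = m * m := by
    rw [φ.toLinearEquiv.finrank_eq, Module.finrank_matrix, Module.finrank_self, mul_one,
      Fintype.card_fin]
  have hmn : m = n := by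
    rw [h1, pow_two] at h2
    exact (Nat.mul_self_inj.mp h2).symm
  subst hmn
  have : Nonempty (Fin m) := ⟨⟨0, Nat.pos_of_ne_zero hm⟩⟩
  have hAzM : IsAzumaya T (Matrix (Fin m) (Fin m) T) := IsAzumaya.matrix T (Fin m)
  let e₀ : k ⊗[T] A ≃ₐ[k] k ⊗[T] Matrix (Fin m) (Fin m) T :=
    φ.trans (Groth.Agent.Lib.T2H2.AzCharpoly.matBaseChange T k (Fin m)).symm
  obtain ⟨e, -⟩ := Groth.Agent.Lib.T2H2.AzHensIsoU.main T A (Matrix (Fin m) (Fin m) T) e₀
  exact ⟨e⟩

end shens

end Groth.Agent.Lib.T2H2.AzHom
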