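import Mathlib
import Groth.Agent.Lib.Helper3IndEt
import Groth.Agent.Lib.Helper3IndEtFlat

/-!
# Etale localisation on a base ring

Tools for passing from a local ind-etale algebra (for instance a strict henselisation of a local
ring of the base) to an honest etale faithfully flat algebra: finite etale covers, lifting of
elements of a tensor product to a finite stage, and descent of vanishing to a finite stage.
-/

namespace Groth.Agent.Lib.T2H2.EtLoc

open scoped TensorProduct

universe u w

section cover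

variable (S : Type u) [CommRing S]

/-- finitely many members of a family of etale algebras hitting every prime form a faithfully
flat product -/
theorem exists_finite_etale_cover
    (𝓔 : PrimeSpectrum S → Type u) [∀ p, CommRing (𝓔 p)] [∀ p, Algebra S (𝓔 p)]
    [∀ p, Algebra.Etale S (𝓔 p)]
    (h : ∀ p, p ∈ Set.range (PrimeSpectrum.comap (algebraMap S (𝓔 p)))) :
    ∃ t : Finset (PrimeSpectrum S), Module.FaithfullyFlat S (∀ i : t, 𝓔 i) := by
  let U : PrimeSpectrum S → Set (PrimeSpectrum S) :=
    fun p => Set.range (PrimeSpectrum.comap (algebraMap S (𝓔 p)))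
  have hopen : ∀ p, IsOpen (U p) := fun p =>
    (PrimeSpectrum.isOpenMap_comap_of_hasGoingDown_of_finitePresentation
      (R := S) (S := 𝓔 p)).isOpen_range
  have hcover : (Set.univ : Set (PrimeSpectrum S)) ⊆ ⋃ p, U p := fun p _ =>
    Set.mem_iUnion.mpr ⟨p, h p⟩
  obtain ⟨t, ht⟩ := isCompact_univ.elim_finite_subcover U hopen hcover
  refine ⟨t, ?_⟩
  apply Module.FaithfullyFlat.of_comap_surjective
  intro p
  have hp := ht (Set.mem_univ p)
  simp only [Set.mem_iUnion] at hp
  obtain ⟨i, hi, q, hq⟩ := hp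
  refine ⟨PrimeSpectrum.comap (Pi.evalRingHom (fun j : t => 𝓔 j) ⟨i, hi⟩) q, ?_⟩
  rw [← hq]
  rfl

end cover

section vanish

open Groth.Agent.Lib.Helper3.IndEt

variable {S : Type u} [CommRing S] {B : Type u} [CommRing B] [IsLocalRing B] [Algebra S B]
  (H : Obj.Factor S B)
  {E : Type u} [CommRing E] [Algebra S E] [Algebra.Etale S E] (g : E →ₐ[S] B)
  (M : Type w) [AddCommGroup M] [Module S M]

include H in
/-- an element of `E ⊗ M` dying in `B ⊗ M` is killed by an element of `E` invertible in `B` -/
theorem exists_smul_eq_zero (z : E ⊗[S] M) (hz : LinearMap.rTensor M g.toLinearMap z = 0) :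
    ∃ t : E, IsUnit (g t) ∧ t • z = 0 := by
  let _ : Algebra E B := g.toRingHom.toAlgebra
  have hsm : ∀ (e : E) (b : B), e • b = g e * b := fun _ _ => rfl
  have : IsScalarTower S E B := IsScalarTower.of_algebraMap_eq (fun s => (g.commutes s).symm)
  have hflatS : Module.Flat S B := flat_of_factor' H
  have hflatE : Module.Flat E B := flat_of_unramified S E B
  let N := E ⊗[S] M
  let I : Ideal E := LinearMap.ker (LinearMap.toSpanSingleton E N z)
  let ι : (E ⧸ I) →ₗ[E] N := Submodule.liftQ I (LinearMap.toSpanSingleton E N z) le_rfl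
  have hι : Function.Injective ι := by
    rw [← LinearMap.ker_eq_bot]
    exact Submodule.ker_liftQ_eq_bot _ _ _ le_rfl
  have hinj : Function.Injective (LinearMap.lTensor B ι) :=
    Module.Flat.lTensor_preserves_injective_linearMap ι hι
  let c : B ⊗[E] (E ⊗[S] M) ≃ₗ[B] B ⊗[S] M :=
    TensorProduct.AlgebraTensorModule.cancelBaseChange S E B B M
  have hc : ∀ w : E ⊗[S] M, c ((1 : B) ⊗ₜ[E] w) = LinearMap.rTensor M g.toLinearMap w := by
    intro w
    induction w using TensorProduct.induction_on with
    | zero => simp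
    | tmul e m =>
      rw [TensorProduct.AlgebraTensorModule.cancelBaseChange_tmul, hsm, mul_one]
      rfl
    | add x y hx hy => rw [TensorProduct.tmul_add, map_add, hx, hy, map_add]
  have h0 : (1 : B) ⊗ₜ[E] z = 0 := by
    apply c.injective
    rw [hc, hz, map_zero]
  have hx : (1 : B) ⊗ₜ[E] (Ideal.Quotient.mk I 1) = 0 := by
    apply hinj
    rw [LinearMap.lTensor_tmul, map_zero]
    have : ι (Ideal.Quotient.mk I 1) = z := by
      show LinearMap.toSpanSingleton E N z 1 = z
      rw [LinearMap.toSpanSingleton_apply, one_smul]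
    rw [this, h0]
  have h1 : (1 : B) ∈ I • (⊤ : Submodule E B) := by
    have := congrArg (TensorProduct.tensorQuotEquivQuotSMul B I) hx
    rw [TensorProduct.tensorQuotEquivQuotSMul_tmul_mk, map_zero, one_smul,
      Submodule.Quotient.mk_eq_zero] at this
    exact this
  by_contra hcon
  push Not at hcon
  have hle : I • (⊤ : Submodule E B) ≤ (IsLocalRing.maximalIdeal B).restrictScalars E := by
    rw [Submodule.smul_le]
    intro t ht b _
    show t • b ∈ IsLocalRing.maximalIdeal B
    rw [hsm]
    refine Ideal.mul_mem_right _ _ ?_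
    rw [IsLocalRing.mem_maximalIdeal, mem_nonunits_iff]
    intro hu
    apply hcon t hu
    have : LinearMap.toSpanSingleton E N z t = 0 := ht
    rwa [LinearMap.toSpanSingleton_apply] at this
  have h2 : (1 : B) ∈ IsLocalRing.maximalIdeal B := hle h1
  exact (IsLocalRing.maximalIdeal.isMaximal B).ne_top ((Ideal.eq_top_iff_one _).mpr h2)

include H in
/-- finitely many elements of `E ⊗ M` dying in `B ⊗ M` are killed by one element of `E`
invertible in `B` -/
theorem exists_smul_eq_zero_fin {ι : Type*} [Finite ι] (z : ι → E ⊗[S] M)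
    (hz : ∀ i, LinearMap.rTensor M g.toLinearMap (z i) = 0) :
    ∃ t : E, IsUnit (g t) ∧ ∀ i, t • z i = 0 := by
  classical
  have := Fintype.ofFinite ι
  choose t ht1 ht2 using fun i => exists_smul_eq_zero H g M (z i) (hz i)
  refine ⟨∏ i, t i, ?_, fun i => ?_⟩
  · rw [map_prod]
    exact IsUnit.prod_univ_iff.mpr fun i => ht1 i
  · rw [← Finset.mul_prod_erase Finset.univ t (Finset.mem_univ i), mul_comm, mul_smul, ht2,
      smul_zero]

omit [IsLocalRing B] [Algebra.Etale S E] in
/-- the base change of an algebra map is semilinear -/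
theorem rTensor_smul {E' : Type*} [CommRing E'] [Algebra S E'] (h : E →ₐ[S] E') (t : E)
    (z : E ⊗[S] M) :
    LinearMap.rTensor M h.toLinearMap (t • z) = h t • LinearMap.rTensor M h.toLinearMap z := by
  induction z using TensorProduct.induction_on with
  | zero => simp
  | tmul e m =>
    rw [TensorProduct.smul_tmul', LinearMap.rTensor_tmul, LinearMap.rTensor_tmul,
      TensorProduct.smul_tmul', smul_eq_mul, smul_eq_mul]
    simp
  | add x y hx hy => rw [smul_add, map_add, hx, hy, map_add, smul_add]

include H in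
/-- finitely many elements of `E ⊗ M` dying in `B ⊗ M` die at a further etale stage -/
theorem exists_stage_eq_zero {ι : Type*} [Finite ι] (z : ι → E ⊗[S] M)
    (hz : ∀ i, LinearMap.rTensor M g.toLinearMap (z i) = 0) :
    ∃ (E' : Type u) (_ : CommRing E') (_ : Algebra S E') (_ : Algebra.Etale S E')
      (h : E →ₐ[S] E') (g' : E' →ₐ[S] B), g'.comp h = g ∧
        ∀ i, LinearMap.rTensor M h.toLinearMap (z i) = 0 := by
  obtain ⟨t, ht, htz⟩ := exists_smul_eq_zero_fin H g M z hz
  have hu : ∀ y : Submonoid.powers t, IsUnit (g y) := by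
    rintro ⟨_, n, rfl⟩
    rw [map_pow]
    exact ht.pow n
  let g' : Localization.Away t →ₐ[S] B := IsLocalization.liftAlgHom (M := Submonoid.powers t) hu
  let h : E →ₐ[S] Localization.Away t := IsScalarTower.toAlgHom S E (Localization.Away t)
  refine ⟨Localization.Away t, inferInstance, inferInstance, inferInstance, h, g', ?_, ?_⟩
  · apply AlgHom.ext
    intro e
    show g' (algebraMap E (Localization.Away t) e) = g e
    exact IsLocalization.lift_eq _ e
  · intro i
    have h1 := rTensor_smul M h t (z i)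
    rw [htz i, map_zero] at h1
    have h2 : IsUnit (h t) := IsLocalization.Away.algebraMap_isUnit t
    obtain ⟨v, hv⟩ := h2
    rw [← hv] at h1
    have h3 := congrArg (fun w => (↑v⁻¹ : Localization.Away t) • w) h1
    simp only [smul_zero, smul_smul, Units.inv_mul, one_smul] at h3
    exact h3.symm

end vanish

section lift

open Groth.Agent.Lib.Helper3.IndEt

variable {S : Type u} [CommRing S] {B : Type u} [CommRing B] [Algebra S B]
  (M : Type w) [AddCommGroup M] [Module S M]

/-- two etale stages have a common refinement -/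
theorem exists_refine {E₁ E₂ : Type u} [CommRing E₁] [CommRing E₂] [Algebra S E₁] [Algebra S E₂]
    [Algebra.Etale S E₁] [Algebra.Etale S E₂] (g₁ : E₁ →ₐ[S] B) (g₂ : E₂ →ₐ[S] B) :
    ∃ (E : Type u) (_ : CommRing E) (_ : Algebra S E) (_ : Algebra.Etale S E) (g : E →ₐ[S] B)
      (h₁ : E₁ →ₐ[S] E) (h₂ : E₂ →ₐ[S] E), g.comp h₁ = g₁ ∧ g.comp h₂ = g₂ :=
  ⟨E₁ ⊗[S] E₂, inferInstance, inferInstance, etale_tensor S E₁ E₂,
    Algebra.TensorProduct.productMap g₁ g₂, Algebra.TensorProduct.includeLeft,
    Algebra.TensorProduct.includeRight, Algebra.TensorProduct.productMap_left g₁ g₂,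
    Algebra.TensorProduct.productMap_right g₁ g₂⟩

/-- what lifts to a stage lifts to any refinement -/
theorem range_rTensor_comp_le {E₁ E : Type*} [CommRing E₁] [CommRing E] [Algebra S E₁]
    [Algebra S E] (g : E →ₐ[S] B) (h₁ : E₁ →ₐ[S] E) :
    LinearMap.range (LinearMap.rTensor M (g.comp h₁).toLinearMap) ≤
      LinearMap.range (LinearMap.rTensor M g.toLinearMap) := by
  rintro _ ⟨z, rfl⟩
  refine ⟨LinearMap.rTensor M h₁.toLinearMap z, ?_⟩
  rw [← LinearMap.comp_apply, ← LinearMap.rTensor_comp]
  rfl

variable (H : Obj.Factor S B)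

include H in
/-- every element of `B ⊗ M` lifts to an etale stage -/
theorem exists_lift_one (y : B ⊗[S] M) :
    ∃ (E : Type u) (_ : CommRing E) (_ : Algebra S E) (_ : Algebra.Etale S E) (g : E →ₐ[S] B),
      y ∈ LinearMap.range (LinearMap.rTensor M g.toLinearMap) := by
  induction y using TensorProduct.induction_on with
  | zero =>
    exact ⟨S, inferInstance, inferInstance, inferInstance, Algebra.ofId S B, Submodule.zero_mem _⟩
  | tmul b m =>
    let ψ : MvPolynomial (Fin 1) S →ₐ[S] B := MvPolynomial.aeval (fun _ => b)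
    obtain ⟨E, _, _, _, f, g, hfg⟩ := H (MvPolynomial (Fin 1) S) ψ
    refine ⟨E, inferInstance, inferInstance, inferInstance, g,
      ⟨f (MvPolynomial.X 0) ⊗ₜ[S] m, ?_⟩⟩
    rw [LinearMap.rTensor_tmul]
    have := congr($hfg (MvPolynomial.X 0))
    rw [AlgHom.comp_apply] at this
    show g (f (MvPolynomial.X 0)) ⊗ₜ[S] m = b ⊗ₜ[S] m
    rw [this]
    simp [ψ]
  | add y₁ y₂ h₁ h₂ =>
    obtain ⟨E₁, _, _, _, g₁, hy₁⟩ := h₁
    obtain ⟨E₂, _, _, _, g₂, hy₂⟩ := h₂
    obtain ⟨E, _, _, _, g, k₁, k₂, hk₁, hk₂⟩ := exists_refine g₁ g₂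
    refine ⟨E, inferInstance, inferInstance, inferInstance, g, Submodule.add_mem _ ?_ ?_⟩
    · apply range_rTensor_comp_le M g k₁
      rw [hk₁]
      exact hy₁
    · apply range_rTensor_comp_le M g k₂
      rw [hk₂]
      exact hy₂

include H in
/-- finitely many elements of `B ⊗ M` lift to a common etale stage -/
theorem exists_lift_fin (k : ℕ) (y : Fin k → B ⊗[S] M) :
    ∃ (E : Type u) (_ : CommRing E) (_ : Algebra S E) (_ : Algebra.Etale S E) (g : E →ₐ[S] B),
      ∀ i, y i ∈ LinearMap.range (LinearMap.rTensor M g.toLinearMap) := by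
  induction k with
  | zero =>
    exact ⟨S, inferInstance, inferInstance, inferInstance, Algebra.ofId S B, fun i => i.elim0⟩
  | succ k ih =>
    obtain ⟨E₁, _, _, _, g₁, hy₁⟩ := ih (fun i => y i.castSucc)
    obtain ⟨E₂, _, _, _, g₂, hy₂⟩ := exists_lift_one M H (y (Fin.last k))
    obtain ⟨E, _, _, _, g, k₁, k₂, hk₁, hk₂⟩ := exists_refine g₁ g₂
    refine ⟨E, inferInstance, inferInstance, inferInstance, g, fun i => ?_⟩
    refine Fin.lastCases ?_ (fun j => ?_) i
    · apply range_rTensor_comp_le M g k₂
      rw [hk₂]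
      exact hy₂
    · apply range_rTensor_comp_le M g k₁
      rw [hk₁]
      exact hy₁ j

include H in
/-- a finite family of elements of `B ⊗ M` lifts to a common etale stage -/
theorem exists_lift_finite {ι : Type*} [Finite ι] (y : ι → B ⊗[S] M) :
    ∃ (E : Type u) (_ : CommRing E) (_ : Algebra S E) (_ : Algebra.Etale S E) (g : E →ₐ[S] B),
      ∀ i, y i ∈ LinearMap.range (LinearMap.rTensor M g.toLinearMap) := by
  obtain ⟨k, ⟨e⟩⟩ := Finite.exists_equiv_fin ι
  obtain ⟨E, _, _, _, g, hg⟩ := exists_lift_fin M H k (fun j => y (e.symm j))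
  refine ⟨E, inferInstance, inferInstance, inferInstance, g, fun i => ?_⟩
  have := hg (e i)
  rwa [e.symm_apply_apply] at this

end lift

end Groth.Agent.Lib.T2H2.EtLoc
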