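import Mathlib
import Groth.Agent.Lib.Helper24G0
import Groth.Agent.Lib.Helper3HenselInt
import Groth.Agent.Lib.Helper15QuadEtale

namespace Groth.Agent.Lib.T2H2.InvHens

open IsLocalRing Polynomial

universe u v

/-- A local ring integral over a henselian local ring is henselian (any universes). -/
theorem henselian_of_isIntegral (A : Type u) [CommRing A] [HenselianLocalRing A]
    (C : Type v) [CommRing C] [IsLocalRing C] [Algebra A C] [Algebra.IsIntegral A C] :
    HenselianLocalRing C := by
  refine ⟨fun f hf a₀ h0 h1 => ?_⟩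
  classical
  let s : Set C := (f.coeffs : Set C) ∪ {a₀}
  have hsfin : s.Finite := (Finset.finite_toSet _).union (Set.finite_singleton _)
  let C' : Subalgebra A C := Algebra.adjoin A s
  have hfin : Module.Finite A C' :=
    Algebra.finite_adjoin_of_finite_of_isIntegral hsfin (fun x _ => Algebra.IsIntegral.isIntegral x)
  have hloc : IsLocalHom C'.val.toRingHom :=
    Groth.Agent.Lib.Helper3.HenselInt.isLocalHom_subalgebra_val C'
  have : IsLocalRing C' := RingHom.domain_isLocalRing C'.val.toRingHom
  have : HenselianLocalRing C' := Groth.Agent.Lib.Helper24G0.henselian_of_finite A C'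
  -- lift the polynomial
  have hcoef : ∀ n, f.coeff n ∈ C' := by
    intro n
    by_cases h : f.coeff n = 0
    · rw [h]; exact zero_mem _
    · exact Algebra.subset_adjoin (Or.inl (Finset.mem_coe.mpr (Polynomial.coeff_mem_coeffs h)))
  have ha₀ : a₀ ∈ C' := Algebra.subset_adjoin (Or.inr rfl)
  have hlift : f ∈ Polynomial.lifts C'.val.toRingHom := by
    rw [Polynomial.lifts_iff_coeff_lifts]
    intro n
    exact ⟨⟨f.coeff n, hcoef n⟩, rfl⟩
  obtain ⟨g, hg, hgdeg, hgmonic⟩ := Polynomial.lifts_and_degree_eq_and_monic hlift hf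
  let a₀' : C' := ⟨a₀, ha₀⟩
  have heval : ∀ (p : C'[X]) (x : C'), C'.val.toRingHom (p.eval x) =
      (p.map C'.val.toRingHom).eval (C'.val.toRingHom x) := by
    intro p x
    rw [Polynomial.eval_map, Polynomial.eval₂_hom]
  have h0' : g.eval a₀' ∈ maximalIdeal C' := by
    rw [mem_maximalIdeal, mem_nonunits_iff]
    intro hu
    have := hu.map C'.val.toRingHom
    rw [heval, hg] at this
    exact h0 this
  have h1' : IsUnit (g.derivative.eval a₀') := by
    apply isUnit_of_map_unit C'.val.toRingHom
    rw [heval, ← Polynomial.derivative_map, hg]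
    exact h1
  obtain ⟨a, har, ha⟩ := HenselianLocalRing.is_henselian g hgmonic a₀' h0' h1'
  refine ⟨C'.val.toRingHom a, ?_, ?_⟩
  · rw [Polynomial.IsRoot, ← hg, ← heval, har, map_zero]
  · have : (a : C) - a₀ = C'.val.toRingHom (a - a₀') := by simp [a₀']
    show (a : C) - a₀ ∈ maximalIdeal C
    rw [this, mem_maximalIdeal, mem_nonunits_iff]
    intro hu
    exact ha (isUnit_of_map_unit C'.val.toRingHom _ hu)


open Groth.Agent.Lib.Helper15.QuadEtale

section strict

variable (S : Type u) [CommRing S] [IsLocalRing S] (T : Type v) [CommRing T] [IsLocalRing T]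
  [Algebra S T] [Algebra.IsIntegral S T]

theorem isLocalHom_of_isIntegral : IsLocalHom (algebraMap S T) := by
  constructor
  intro s hs
  by_contra hns
  have h1 : s ∈ maximalIdeal S := (mem_maximalIdeal _).2 hns
  have hmax : ((maximalIdeal T).comap (algebraMap S T)).IsMaximal :=
    Ideal.isMaximal_comap_of_isIntegral_of_isMaximal (R := S) (maximalIdeal T)
  have h2 : (maximalIdeal T).comap (algebraMap S T) = maximalIdeal S :=
    IsLocalRing.eq_maximalIdeal hmax
  rw [← h2, Ideal.mem_comap] at h1
  exact (mem_maximalIdeal _).1 h1 hs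

theorem isSepClosed_residueField [IsSepClosed (ResidueField S)] :
    IsSepClosed (ResidueField T) := by
  have : IsLocalHom (algebraMap S T) := isLocalHom_of_isIntegral S T
  have halg : Algebra.IsAlgebraic (ResidueField S) (ResidueField T) := by
    constructor
    intro x
    obtain ⟨t, rfl⟩ := residue_surjective x
    obtain ⟨p, hpm, hp⟩ := Algebra.IsIntegral.isIntegral (R := S) t
    refine ⟨p.map (residue S), (hpm.map _).ne_zero, ?_⟩
    rw [aeval_def, eval₂_map]
    have h1 : (algebraMap (ResidueField S) (ResidueField T)).comp (residue S) =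
        (residue T).comp (algebraMap S T) := by
      ext s
      rfl
    rw [h1, ← hom_eval₂, hp, map_zero]
  exact Algebra.IsAlgebraic.isSepClosed (F := ResidueField S)

end strict

section Inv

variable {S : Type u} {R : Type v} [CommRing S] [CommRing R] [Algebra S R]
  (lam : R ≃+* R) (hlam : Function.Involutive lam) (hS : RInv.IsFixedRing S R lam)

omit hlam hS in
theorem quadratic_eq_zero (y : R) (t n : S) (ht : algebraMap S R t = y + lam y)
    (hn : algebraMap S R n = y * lam y) :
    y ^ 2 - algebraMap S R t * y + algebraMap S R n = 0 := by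
  rw [ht, hn]; ring

include hlam hS in
theorem isIntegral : Algebra.IsIntegral S R := by
  constructor
  intro y
  obtain ⟨t, ht⟩ := exists_trace lam hlam hS y
  obtain ⟨n, hn⟩ := exists_norm lam hlam hS y
  refine ⟨X ^ 2 - (C t * X - C n), ?_, ?_⟩
  · apply monic_X_pow_sub
    refine lt_of_le_of_lt (degree_sub_le _ _) ?_
    rw [max_lt_iff]
    constructor
    · exact lt_of_le_of_lt (degree_C_mul_X_le t) (by norm_num)
    · exact lt_of_le_of_lt degree_C_le (by norm_num)
  · simp only [eval₂_sub, eval₂_pow, eval₂_X, eval₂_mul, eval₂_C]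
    have := quadratic_eq_zero lam y t n ht hn
    linear_combination this

variable [HenselianLocalRing S]

include hlam hS in
theorem mem_of_mem_maximalIdeal {s : S} (hs : s ∈ maximalIdeal S) (M : Ideal R) [hM : M.IsMaximal] :
    algebraMap S R s ∈ M := by
  have h := algebraMap_mem_jacobson lam hlam hS hs
  rw [← Ideal.jacobson_bot] at h
  exact (Ideal.mem_sInf.mp h) ⟨bot_le, hM⟩

include hlam hS in
theorem exists_idempotent (M : Ideal R) [hM : M.IsMaximal]
    (hne : M.comap (lam : R →+* R) ≠ M) :
    ∃ e : R, IsIdempotentElem e ∧ e ∈ M ∧ 1 - e ∈ M.comap (lam : R →+* R) := by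
  have hM' : (M.comap (lam : R →+* R)).IsMaximal :=
    Ideal.comap_isMaximal_of_surjective _ lam.surjective
  obtain ⟨y, hyM, hyM'⟩ : ∃ y, y ∈ M ∧ y ∉ M.comap (lam : R →+* R) := by
    by_contra hcon
    push Not at hcon
    exact hne (hM.eq_of_le hM'.ne_top hcon).symm
  have hlamy : lam y ∉ M := hyM'
  obtain ⟨t, ht⟩ := exists_trace lam hlam hS y
  obtain ⟨n, hn⟩ := exists_norm lam hlam hS y
  have hnm : n ∈ maximalIdeal S := by
    rw [mem_maximalIdeal, mem_nonunits_iff]
    intro hu
    have h1 : IsUnit (y * lam y) := hn ▸ hu.map (algebraMap S R)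
    have h2 : IsUnit y := isUnit_of_mul_isUnit_left h1
    exact hM.ne_top (Ideal.eq_top_of_isUnit_mem _ hyM h2)
  have htu : IsUnit t := by
    by_contra h
    have h1 : t ∈ maximalIdeal S := (mem_maximalIdeal _).2 h
    have h2 := mem_of_mem_maximalIdeal lam hlam hS h1 M
    rw [ht] at h2
    exact hlamy ((Ideal.add_mem_iff_right _ hyM).1 h2)
  -- Hensel
  have hfm : (X ^ 2 - (C t * X - C n) : S[X]).Monic := by
    apply monic_X_pow_sub
    refine lt_of_le_of_lt (degree_sub_le _ _) ?_
    rw [max_lt_iff]
    constructor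
    · exact lt_of_le_of_lt (degree_C_mul_X_le t) (by norm_num)
    · exact lt_of_le_of_lt degree_C_le (by norm_num)
  have h0 : (X ^ 2 - (C t * X - C n) : S[X]).eval 0 ∈ maximalIdeal S := by
    simpa using hnm
  have h1 : IsUnit ((X ^ 2 - (C t * X - C n) : S[X]).derivative.eval 0) := by
    simpa using htu
  obtain ⟨a, ha, ham⟩ := HenselianLocalRing.is_henselian _ hfm 0 h0 h1
  rw [sub_zero] at ham
  have ha' : a ^ 2 - (t * a - n) = 0 := by
    simpa [Polynomial.IsRoot] using ha
  have hd : IsUnit (t - 2 * a) := by
    by_contra h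
    have h1 : t - 2 * a ∈ maximalIdeal S := (mem_maximalIdeal _).2 h
    have h2 : t ∈ maximalIdeal S := by
      have := Ideal.add_mem _ h1 (Ideal.mul_mem_left _ 2 ham)
      simpa using this
    exact (mem_maximalIdeal _).1 h2 htu
  obtain ⟨d', hd'⟩ := hd.exists_left_inv
  have haM : ∀ (N : Ideal R) [N.IsMaximal], algebraMap S R a ∈ N :=
    fun N _ => mem_of_mem_maximalIdeal lam hlam hS ham N
  have hq := quadratic_eq_zero lam y t n ht hn
  have ha'' : algebraMap S R a ^ 2 - (algebraMap S R t * algebraMap S R a - algebraMap S R n) = 0 := by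
    rw [← map_pow, ← map_mul, ← map_sub, ← map_sub, ha', map_zero]
  have hd'' : algebraMap S R d' * (algebraMap S R t - 2 * algebraMap S R a) = 1 := by
    have := congrArg (algebraMap S R) hd'
    rw [map_mul, map_sub, map_mul, map_ofNat, map_one] at this
    exact this
  refine ⟨algebraMap S R d' * (y - algebraMap S R a), ?_, ?_, ?_⟩
  · show _ * _ = _
    linear_combination (algebraMap S R d') ^ 2 * hq - (algebraMap S R d') ^ 2 * ha'' +
      (algebraMap S R d') * (y - algebraMap S R a) * hd''
  · exact Ideal.mul_mem_left _ _ (Ideal.sub_mem _ hyM (haM M))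
  · have hidem : (algebraMap S R d' * (y - algebraMap S R a)) *
        (1 - algebraMap S R d' * (y - algebraMap S R a)) = 0 := by
      linear_combination -(algebraMap S R d') ^ 2 * hq + (algebraMap S R d') ^ 2 * ha'' -
        (algebraMap S R d') * (y - algebraMap S R a) * hd''
    have h0' : (algebraMap S R d' * (y - algebraMap S R a)) *
        (1 - algebraMap S R d' * (y - algebraMap S R a)) ∈ M.comap (lam : R →+* R) := by
      rw [hidem]; exact Ideal.zero_mem _
    rcases hM'.isPrime.mem_or_mem h0' with h | h
    · exfalso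
      apply hyM'
      have h2 : (algebraMap S R t - 2 * algebraMap S R a) *
          (algebraMap S R d' * (y - algebraMap S R a)) ∈ M.comap (lam : R →+* R) :=
        Ideal.mul_mem_left _ _ h
      have h3 : (algebraMap S R t - 2 * algebraMap S R a) *
          (algebraMap S R d' * (y - algebraMap S R a)) = y - algebraMap S R a := by
        linear_combination (y - algebraMap S R a) * hd''
      rw [h3] at h2
      have := Ideal.add_mem _ h2 (haM (M.comap (lam : R →+* R)))
      simpa using this
    · exact h

end Inv

section quot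

variable {R : Type v} [CommRing R]

/-- the quotient by an idempotent lying in exactly one of the two maximal ideals is local -/
theorem isLocalRing_quotient_idem (e : R) (M M' : Ideal R) [hM : M.IsMaximal]
    (heM : e ∈ M) (heM' : 1 - e ∈ M') (hM'top : M' ≠ ⊤)
    (horb : ∀ (N : Ideal R), N.IsMaximal → N = M ∨ N = M') :
    IsLocalRing (R ⧸ Ideal.span {e}) := by
  have hle : Ideal.span {e} ≤ M := (Ideal.span_singleton_le_iff_mem _).2 heM
  have hne : Ideal.span {e} ≠ ⊤ := fun h => hM.ne_top (top_le_iff.1 (h ▸ hle))
  have : Nontrivial (R ⧸ Ideal.span {e}) := Ideal.Quotient.nontrivial_iff.2 hne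
  have key : ∀ N : Ideal (R ⧸ Ideal.span {e}), N.IsMaximal →
      N.comap (Ideal.Quotient.mk (Ideal.span {e})) = M := by
    intro N hN
    have h1 : (N.comap (Ideal.Quotient.mk (Ideal.span {e}))).IsMaximal :=
      Ideal.comap_isMaximal_of_surjective _ Ideal.Quotient.mk_surjective
    rcases horb _ h1 with h | h
    · exact h
    · exfalso
      have h2 : e ∈ N.comap (Ideal.Quotient.mk (Ideal.span {e})) := by
        rw [Ideal.mem_comap]
        have : Ideal.Quotient.mk (Ideal.span {e}) e = 0 :=
          Ideal.Quotient.eq_zero_iff_mem.2 (Ideal.mem_span_singleton_self e)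
        rw [this]
        exact N.zero_mem
      rw [h] at h2
      apply hM'top
      rw [Ideal.eq_top_iff_one]
      have := Ideal.add_mem _ h2 heM'
      simpa using this
  obtain ⟨N₀, hN₀⟩ := Ideal.exists_maximal (R ⧸ Ideal.span {e})
  refine IsLocalRing.of_unique_max_ideal ⟨N₀, hN₀, fun N hN => ?_⟩
  apply Ideal.comap_injective_of_surjective _ Ideal.Quotient.mk_surjective
  rw [key N hN, key N₀ hN₀]

end quot

section main

variable (S : Type u) (R : Type v) [CommRing S] [CommRing R] [Algebra S R]
  (lam : R ≃+* R) (hlam : Function.Involutive lam) (hS : RInv.IsFixedRing S R lam)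
  [HenselianLocalRing S] [IsSepClosed (IsLocalRing.ResidueField S)]

include hlam hS in
theorem main : ∃ (ι : Type) (_ : Fintype ι) (T : ι → Type v) (_ : ∀ i, CommRing (T i))
    (_ : ∀ i, HenselianLocalRing (T i)),
    (∀ i, IsSepClosed (IsLocalRing.ResidueField (T i))) ∧ Nonempty (R ≃+* (∀ i, T i)) := by
  classical
  have hint : Algebra.IsIntegral S R := isIntegral lam hlam hS
  have hnt : Nontrivial R := hS.1.nontrivial
  obtain ⟨M, hM⟩ := Ideal.exists_maximal R
  have hM' : (M.comap (lam : R →+* R)).IsMaximal :=
    Ideal.comap_isMaximal_of_surjective _ lam.surjective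
  have horb : ∀ (N : Ideal R), N.IsMaximal → N = M ∨ N = M.comap (lam : R →+* R) :=
    fun N hN => maximal_orbit lam hlam hS M N
  by_cases hMM : M.comap (lam : R →+* R) = M
  · -- the local case
    have hloc : IsLocalRing R := by
      refine IsLocalRing.of_unique_max_ideal ⟨M, hM, fun N hN => ?_⟩
      rcases horb N hN with h | h
      · exact h
      · rw [h, hMM]
    have hhens : HenselianLocalRing R := henselian_of_isIntegral S R
    refine ⟨Unit, inferInstance, fun _ => R, fun _ => inferInstance, fun _ => hhens,
      fun _ => isSepClosed_residueField S R, ⟨(RingEquiv.piUnique (fun _ : Unit => R)).symm⟩⟩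
  · -- two maximal ideals
    obtain ⟨e, he, heM, heM'⟩ := exists_idempotent lam hlam hS M hMM
    let I : Bool → Ideal R := fun b => cond b (Ideal.span {e}) (Ideal.span {1 - e})
    have hI1 : IsLocalRing (R ⧸ I true) :=
      isLocalRing_quotient_idem e M (M.comap (lam : R →+* R)) heM heM' hM'.ne_top horb
    have hI0 : IsLocalRing (R ⧸ I false) := by
      have h1 : 1 - (1 - e) ∈ M := by rw [sub_sub_cancel]; exact heM
      exact isLocalRing_quotient_idem (1 - e) (M.comap (lam : R →+* R)) M heM' h1 hM.ne_top
        (fun N hN => (horb N hN).symm)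
    have hloc : ∀ b, IsLocalRing (R ⧸ I b) := fun b => by cases b <;> assumption
    have hintq : ∀ b, Algebra.IsIntegral S (R ⧸ I b) := fun b =>
      ⟨fun x => by
        obtain ⟨r, rfl⟩ := Ideal.Quotient.mk_surjective x
        exact (Algebra.IsIntegral.isIntegral (R := S) r).map (Ideal.Quotient.mkₐ S (I b))⟩
    have hhens : ∀ b, HenselianLocalRing (R ⧸ I b) := fun b =>
      have := hloc b
      have := hintq b
      henselian_of_isIntegral S (R ⧸ I b)
    have hcop : Pairwise (Function.onFun IsCoprime I) := by
      have h10 : IsCoprime (Ideal.span {e}) (Ideal.span {1 - e}) := by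
        rw [Ideal.isCoprime_span_singleton_iff]
        exact ⟨1, 1, by ring⟩
      intro a b hab
      cases a <;> cases b
      · exact absurd rfl hab
      · exact h10.symm
      · exact h10
      · exact absurd rfl hab
    have hinf : ⨅ b, I b = ⊥ := by
      rw [iInf_bool_eq, eq_bot_iff]
      rintro x ⟨hx1, hx0⟩
      change x ∈ Ideal.span {e} at hx1
      change x ∈ Ideal.span {1 - e} at hx0
      rw [Ideal.mem_span_singleton'] at hx1 hx0
      obtain ⟨a, rfl⟩ := hx1
      obtain ⟨b, hb⟩ := hx0
      have hee : e * e = e := he.eq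
      have : a * e = 0 := by
        calc a * e = (a * e) * e := by rw [mul_assoc, hee]
          _ = (b * (1 - e)) * e := by rw [hb]
          _ = b * (e - e * e) := by ring
          _ = 0 := by rw [hee, sub_self, mul_zero]
      rw [this]
      exact Ideal.zero_mem _
    refine ⟨Bool, inferInstance, fun b => R ⧸ I b, fun b => inferInstance, hhens, fun b => ?_, ?_⟩
    · have := hloc b
      have := hintq b
      exact isSepClosed_residueField S (R ⧸ I b)
    · exact ⟨(RingEquiv.quotientBot R).symm.trans
        ((Ideal.quotEquivOfEq hinf.symm).trans (Ideal.quotientInfRingEquivPiQuotient I hcop))⟩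

end main

end Groth.Agent.Lib.T2H2.InvHens
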