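import Mathlib

/-!
# Matrix units

Systems of matrix units in a ring, and the algebra homomorphism from the matrix algebra they
define.
-/

namespace Groth.Agent.Lib.T2H2.MatUnits

/-- a full system of `n × n` matrix units in a ring -/
def IsMatUnits {Γ : Type*} [Ring Γ] {n : ℕ} (e : Fin n → Fin n → Γ) : Prop :=
  (∀ i j k l, e i j * e k l = if j = k then e i l else 0) ∧ ∑ i, e i i = 1

theorem IsMatUnits.map {Γ Γ' : Type*} [Ring Γ] [Ring Γ'] (f : Γ →+* Γ') {n : ℕ}
    {e : Fin n → Fin n → Γ} (he : IsMatUnits e) : IsMatUnits (fun i j => f (e i j)) := by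
  refine ⟨fun i j k l => ?_, ?_⟩
  · rw [← map_mul, he.1]
    split_ifs
    · rfl
    · rw [map_zero]
  · rw [← map_sum, he.2, map_one]

theorem IsMatUnits.mapEquiv {Γ Γ' : Type*} [Ring Γ] [Ring Γ'] (f : Γ ≃+* Γ') {n : ℕ}
    {e : Fin n → Fin n → Γ} (he : IsMatUnits e) : IsMatUnits (fun i j => f (e i j)) :=
  he.map f.toRingHom

theorem isMatUnits_single (C : Type*) [CommRing C] (n : ℕ) :
    IsMatUnits (fun i j => (Matrix.single i j (1 : C) : Matrix (Fin n) (Fin n) C)) := by
  refine ⟨fun i j k l => ?_, Matrix.sum_single_one⟩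
  show Matrix.single i j (1 : C) * Matrix.single k l (1 : C) = _
  split_ifs with h
  · subst h
    rw [Matrix.single_mul_single_same, mul_one]
  · exact Matrix.single_mul_single_of_ne _ i j k h _

theorem isMatUnits_pi {ι : Type*} (Γ : ι → Type*) [∀ i, Ring (Γ i)] {n : ℕ}
    (e : ∀ i, Fin n → Fin n → Γ i) (he : ∀ i, IsMatUnits (e i)) :
    IsMatUnits (fun a b => (fun i => e i a b : ∀ i, Γ i)) := by
  refine ⟨fun a b c d => ?_, ?_⟩
  · funext i
    rw [Pi.mul_apply, (he i).1]
    split_ifs <;> rfl
  · funext i
    rw [Finset.sum_apply, (he i).2]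
    rfl

section hom

variable {C : Type*} [CommRing C] {Γ : Type*} [Ring Γ] [Algebra C Γ] {n : ℕ}
  (e : Fin n → Fin n → Γ)

/-- the linear map `X ↦ ∑ X i j • e i j` -/
noncomputable def matLin : Matrix (Fin n) (Fin n) C →ₗ[C] Γ where
  toFun X := ∑ i, ∑ j, X i j • e i j
  map_add' X Y := by
    simp only [Matrix.add_apply, add_smul, Finset.sum_add_distrib]
  map_smul' c X := by
    simp only [Matrix.smul_apply, smul_eq_mul, mul_smul, Finset.smul_sum, RingHom.id_apply]

theorem matLin_apply (X : Matrix (Fin n) (Fin n) C) : matLin e X = ∑ i, ∑ j, X i j • e i j := rfl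

variable {e}

/-- the algebra homomorphism from the matrix algebra defined by a system of matrix units -/
noncomputable def matHom (he : IsMatUnits e) : Matrix (Fin n) (Fin n) C →ₐ[C] Γ :=
  AlgHom.ofLinearMap (matLin e)
    (by
      rw [matLin_apply]
      have : ∀ i, ∑ j, (1 : Matrix (Fin n) (Fin n) C) i j • e i j = e i i := by
        intro i
        rw [Finset.sum_eq_single i]
        · rw [Matrix.one_apply_eq, one_smul]
        · intro j _ hj
          rw [Matrix.one_apply_ne hj.symm, zero_smul]
        · intro h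
          exact absurd (Finset.mem_univ i) h
      simp_rw [this]
      exact he.2)
    (by
      intro X Y
      rw [matLin_apply, matLin_apply, matLin_apply, Finset.sum_mul_sum]
      refine Finset.sum_congr rfl fun i _ => ?_
      have h1 : ∀ k : Fin n, (∑ j, X i j • e i j) * (∑ l, Y k l • e k l) =
          ∑ l, (X i k * Y k l) • e i l := by
        intro k
        rw [Finset.sum_mul_sum]
        rw [Finset.sum_eq_single k]
        · refine Finset.sum_congr rfl fun l _ => ?_
          rw [smul_mul_smul_comm, he.1, if_pos rfl]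
        · intro j _ hj
          refine Finset.sum_eq_zero fun l _ => ?_
          rw [smul_mul_smul_comm, he.1, if_neg hj, smul_zero]
        · intro h
          exact absurd (Finset.mem_univ k) h
      simp_rw [h1]
      rw [Finset.sum_comm]
      refine Finset.sum_congr rfl fun l _ => ?_
      rw [Matrix.mul_apply, Finset.sum_smul])

theorem matHom_apply (he : IsMatUnits e) (X : Matrix (Fin n) (Fin n) C) :
    matHom he X = ∑ i, ∑ j, X i j • e i j := rfl

end hom

end Groth.Agent.Lib.T2H2.MatUnits
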