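import Mathlib
import Groth.Prelude.Def_AzInv
import Groth.Agent.Lib.T2H2EtLoc
import Groth.Agent.Lib.T2H2AzHom
import Groth.Agent.Lib.T2H2MatUnits
import Groth.Agent.Lib.T2H2InvHens
import Groth.Agent.Lib.Helper3IndEtHz
import Groth.Agent.Lib.Helper3IndEtComp
import Groth.Agent.S15586
import Groth.Agent.S0537
import Groth.Agent.S9470

/-!
# Etale-local splitting of an Azumaya algebra over the fixed ring of an involution

Let `R` be a ring with involution with fixed ring `S` and `A` an Azumaya `R`-algebra of degree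
`n`.  We show that `A` acquires a full system of matrix units after an etale faithfully flat base
change of `S`.
-/

namespace Groth.Agent.Lib.T2H2.AzInvSplit

open scoped TensorProduct
open Groth.Agent.Lib.T2H2.MatUnits

universe u v w

section theta

attribute [local instance] Algebra.TensorProduct.rightAlgebra

variable (S : Type u) (R : Type v) [CommRing S] [CommRing R] [Algebra S R]
  (A : Type w) [Ring A] [Algebra S A] [Algebra R A] [IsScalarTower S R A]
  (E : Type*) [CommRing E] [Algebra S E]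

/-- `(E ⊗_S R) ⊗_R A ≃ E ⊗_S A` for a noncommutative algebra `A` -/
noncomputable def θ : (E ⊗[S] R) ⊗[R] A ≃ₐ[E] E ⊗[S] A := by
  refine AlgEquiv.symm
    (AlgEquiv.ofLinearEquiv (Algebra.IsPushout.cancelBaseChange S E R (E ⊗[S] R) A).symm ?_ ?_)
  · simp [Algebra.TensorProduct.one_def]
  · apply LinearMap.map_mul_of_map_mul_tmul
    simp

theorem θ_symm_tmul (e : E) (a : A) :
    (θ S R A E).symm (e ⊗ₜ a) = (e ⊗ₜ[S] (1 : R)) ⊗ₜ[R] a := by
  simp [θ]

theorem θ_tmul (e : E) (r : R) (a : A) :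
    (θ S R A E) ((e ⊗ₜ[S] r) ⊗ₜ[R] a) = e ⊗ₜ[S] (r • a) := by
  rw [← (θ S R A E).symm.injective.eq_iff, AlgEquiv.symm_apply_apply, θ_symm_tmul]
  have h : (e ⊗ₜ[S] r : E ⊗[S] R) = r • (e ⊗ₜ[S] (1 : R)) := by
    rw [Algebra.smul_def]
    show _ = ((1 : E) ⊗ₜ[S] r) * _
    rw [Algebra.TensorProduct.tmul_mul_tmul, one_mul, mul_one]
  rw [h, TensorProduct.smul_tmul]

variable {S R A E}

/-- a full system of matrix units in `E ⊗_S A` yields the splitting isomorphism -/
theorem exists_iso_of_isMatUnits (n : ℕ) (hn : 0 < n) (hA : AzInv.IsAzumayaDeg R A n)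
    (e : Fin n → Fin n → E ⊗[S] A) (he : IsMatUnits e) :
    ∃ f : E ⊗[S] A ≃ₐ[E] Matrix (Fin n) (Fin n) (E ⊗[S] R),
      ∀ (r : R) (x : E ⊗[S] A),
        f (((1 : E) ⊗ₜ[S] algebraMap R A r) * x) =
          Matrix.scalar (Fin n) ((1 : E) ⊗ₜ[S] r) * f x := by
  classical
  have := hA.1
  have : Nonempty (Fin n) := ⟨⟨0, hn⟩⟩
  have hAz : IsAzumaya (E ⊗[S] R) ((E ⊗[S] R) ⊗[R] A) :=
    Groth.Agent.Lib.LeadAzumaya.isAzumaya_baseChange (E ⊗[S] R) A
  have hAzM : IsAzumaya (E ⊗[S] R) (Matrix (Fin n) (Fin n) (E ⊗[S] R)) :=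
    IsAzumaya.matrix (E ⊗[S] R) (Fin n)
  have hê : IsMatUnits (fun i j => (θ S R A E).symm (e i j)) :=
    he.map ((θ S R A E).symm : E ⊗[S] A →+* (E ⊗[S] R) ⊗[R] A)
  let G : Matrix (Fin n) (Fin n) (E ⊗[S] R) →ₐ[E ⊗[S] R] (E ⊗[S] R) ⊗[R] A := matHom hê
  have hrank : ∀ p : PrimeSpectrum (E ⊗[S] R),
      Module.rankAtStalk (Matrix (Fin n) (Fin n) (E ⊗[S] R)) p =
        Module.rankAtStalk ((E ⊗[S] R) ⊗[R] A) p := by
    intro p
    have hnt : Nontrivial (E ⊗[S] R) := p.nontrivial
    rw [Module.rankAtStalk_baseChange, hA.2]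
    have h1 := congrFun (Module.rankAtStalk_eq_finrank_of_free (R := E ⊗[S] R)
      (M := Matrix (Fin n) (Fin n) (E ⊗[S] R))) p
    rw [h1]
    simp [Module.finrank_matrix, pow_two]
  have hG : Function.Bijective G := Groth.Agent.Lib.T2H2.AzHom.bijective_of_isAzumaya G hrank
  let Ge : Matrix (Fin n) (Fin n) (E ⊗[S] R) ≃ₐ[E ⊗[S] R] (E ⊗[S] R) ⊗[R] A :=
    AlgEquiv.ofBijective G hG
  refine ⟨(θ S R A E).symm.trans (Ge.symm.restrictScalars E), fun r x => ?_⟩
  show Ge.symm ((θ S R A E).symm (((1 : E) ⊗ₜ[S] algebraMap R A r) * x)) =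
    Matrix.scalar (Fin n) ((1 : E) ⊗ₜ[S] r) * Ge.symm ((θ S R A E).symm x)
  have h1 : (θ S R A E).symm ((1 : E) ⊗ₜ[S] algebraMap R A r) =
      algebraMap (E ⊗[S] R) ((E ⊗[S] R) ⊗[R] A) ((1 : E) ⊗ₜ[S] r) := by
    rw [← (θ S R A E).injective.eq_iff, AlgEquiv.apply_symm_apply,
      Algebra.TensorProduct.algebraMap_apply]
    show _ = (θ S R A E) (((1 : E) ⊗ₜ[S] r) ⊗ₜ[R] (1 : A))
    rw [θ_tmul, Algebra.algebraMap_eq_smul_one]
  rw [map_mul, h1, map_mul, AlgEquiv.commutes]
  rfl

end theta

section pi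

variable {S : Type u} [CommRing S] (A : Type w) [Ring A] [Algebra S A]

/-- tensor product with a finite product of rings on the left -/
noncomputable def piLeft {ι : Type*} [Fintype ι] [DecidableEq ι] (E : ι → Type*)
    [∀ i, CommRing (E i)] [∀ i, Algebra S (E i)] :
    (∀ i, E i) ⊗[S] A ≃+* ∀ i, E i ⊗[S] A :=
  ((Algebra.TensorProduct.comm S (∀ i, E i) A).toRingEquiv.trans
    (Algebra.TensorProduct.piRight S S A E).toRingEquiv).trans
    (RingEquiv.piCongrRight fun i => (Algebra.TensorProduct.comm S A (E i)).toRingEquiv)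

theorem piLeft_tmul {ι : Type*} [Fintype ι] [DecidableEq ι] (E : ι → Type*)
    [∀ i, CommRing (E i)] [∀ i, Algebra S (E i)] (x : ∀ i, E i) (a : A) (i : ι) :
    piLeft A E (x ⊗ₜ[S] a) i = x i ⊗ₜ[S] a := rfl

/-- matrix units over the factors give matrix units over a finite product -/
theorem exists_isMatUnits_pi {ι : Type*} [Finite ι] (E : ι → Type*)
    [∀ i, CommRing (E i)] [∀ i, Algebra S (E i)] (n : ℕ)
    (h : ∀ i, ∃ e : Fin n → Fin n → E i ⊗[S] A, IsMatUnits e) :
    ∃ e : Fin n → Fin n → (∀ i, E i) ⊗[S] A, IsMatUnits e := by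
  classical
  have := Fintype.ofFinite ι
  choose e he using h
  exact ⟨fun a b => (piLeft A E).symm (fun i => e i a b),
    (isMatUnits_pi (fun i => E i ⊗[S] A) e he).mapEquiv (piLeft A E).symm⟩

end pi

section prodSplit

open IsLocalRing

/-- an Azumaya algebra of degree `n` over a finite product of strictly henselian local rings has
a full system of matrix units -/
theorem exists_isMatUnits_of_prod (C : Type*) [CommRing C] {ι : Type} [Fintype ι]
    (T : ι → Type*) [∀ i, CommRing (T i)] [∀ i, HenselianLocalRing (T i)]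
    (hsc : ∀ i, IsSepClosed (ResidueField (T i))) (φ : C ≃+* ∀ i, T i)
    (Γ : Type*) [Ring Γ] [Algebra C Γ] [IsAzumaya C Γ] (n : ℕ)
    (hr : ∀ p : PrimeSpectrum C, Module.rankAtStalk Γ p = n ^ 2) :
    ∃ e : Fin n → Fin n → Γ, IsMatUnits e := by
  classical
  let _ : ∀ i, Algebra C (T i) := fun i =>
    ((Pi.evalRingHom T i).comp (φ : C →+* ∀ i, T i)).toAlgebra
  let φa : C ≃ₐ[C] ∀ i, T i := AlgEquiv.ofRingEquiv (f := φ) (fun c => rfl)
  let Ψ : Γ ≃+* ∀ i, T i ⊗[C] Γ :=
    (((Algebra.TensorProduct.rid C C Γ).symm.toRingEquiv.trans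
      (Algebra.TensorProduct.congr (AlgEquiv.refl : Γ ≃ₐ[C] Γ) φa).toRingEquiv).trans
      (Algebra.TensorProduct.piRight C C Γ T).toRingEquiv).trans
      (RingEquiv.piCongrRight fun i => (Algebra.TensorProduct.comm C Γ (T i)).toRingEquiv)
  have hiso : ∀ i, Nonempty (T i ⊗[C] Γ ≃ₐ[T i] Matrix (Fin n) (Fin n) (T i)) := by
    intro i
    have := hsc i
    have hAz : IsAzumaya (T i) (T i ⊗[C] Γ) :=
      Groth.Agent.Lib.LeadAzumaya.isAzumaya_baseChange (T i) Γ
    have hfree : Module.Free (T i) (T i ⊗[C] Γ) := Module.free_of_flat_of_isLocalRing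
    refine Groth.Agent.Lib.T2H2.AzHom.nonempty_algEquiv_matrix_of_strictHenselian (T i)
      (T i ⊗[C] Γ) n ?_
    have h1 := congrFun (Module.rankAtStalk_eq_finrank_of_free (R := T i)
      (M := T i ⊗[C] Γ)) (IsLocalRing.closedPoint (T i))
    have h2 := Module.rankAtStalk_baseChange (R := C) (M := Γ) (S := T i)
      (IsLocalRing.closedPoint (T i))
    rw [hr] at h2
    rw [h2] at h1
    exact h1.symm
  let α := fun i => (hiso i).some
  let Ω : Γ ≃+* ∀ i, Matrix (Fin n) (Fin n) (T i) :=
    Ψ.trans (RingEquiv.piCongrRight fun i => (α i).toRingEquiv)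
  exact ⟨fun a b => Ω.symm (fun i => Matrix.single a b (1 : T i)),
    (isMatUnits_pi (fun i => Matrix (Fin n) (Fin n) (T i)) _
      (fun i => isMatUnits_single (T i) n)).mapEquiv Ω.symm⟩

end prodSplit

section blevel

attribute [local instance] Algebra.TensorProduct.rightAlgebra

variable {S : Type u} {R : Type v} [CommRing S] [CommRing R] [Algebra S R]
  (lam : R ≃ₐ[S] R) (hlam : ∀ r, lam (lam r) = r) (hfix : RInv.IsFixedRing S R lam.toRingEquiv)
  (A : Type w) [Ring A] [Algebra S A] [Algebra R A] [IsScalarTower S R A]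

omit hfix in
include hlam in
/-- the base change of the involution is an involution -/
theorem involutive_congr (B : Type*) [CommRing B] [Algebra S B] :
    Function.Involutive
      (Algebra.TensorProduct.congr (AlgEquiv.refl : B ≃ₐ[S] B) lam).toRingEquiv := by
  intro x
  show Algebra.TensorProduct.congr (AlgEquiv.refl : B ≃ₐ[S] B) lam
    (Algebra.TensorProduct.congr (AlgEquiv.refl : B ≃ₐ[S] B) lam x) = x
  induction x using TensorProduct.induction_on with
  | zero => simp
  | tmul b r => simp [hlam]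
  | add x y hx hy => rw [map_add, map_add, hx, hy]

include hlam hfix in
/-- over a strictly henselian local flat `S`-algebra `B`, the algebra `B ⊗_S A` has a full system
of matrix units -/
theorem exists_isMatUnits_of_strictHenselian (B : Type u) [CommRing B] [HenselianLocalRing B]
    [IsSepClosed (IsLocalRing.ResidueField B)] [Algebra S B] [Module.Flat S B]
    (n : ℕ) (hA : AzInv.IsAzumayaDeg R A n) :
    ∃ e : Fin n → Fin n → B ⊗[S] A, IsMatUnits e := by
  have := hA.1
  have hfixB := Groth.Agent.S15586.result S R B lam (fun r => hlam r) hfix (Or.inl inferInstance)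
  have hinvB := involutive_congr lam hlam B
  obtain ⟨ι, _, T, _, _, hsc, ⟨φ⟩⟩ := Groth.Agent.Lib.T2H2.InvHens.main B (B ⊗[S] R)
    (Algebra.TensorProduct.congr (AlgEquiv.refl : B ≃ₐ[S] B) lam).toRingEquiv hinvB hfixB
  have hAz : IsAzumaya (B ⊗[S] R) ((B ⊗[S] R) ⊗[R] A) :=
    Groth.Agent.Lib.LeadAzumaya.isAzumaya_baseChange (B ⊗[S] R) A
  have hr : ∀ p : PrimeSpectrum (B ⊗[S] R),
      Module.rankAtStalk ((B ⊗[S] R) ⊗[R] A) p = n ^ 2 := by
    intro p
    rw [Module.rankAtStalk_baseChange, hA.2]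
  obtain ⟨e, he⟩ := exists_isMatUnits_of_prod (B ⊗[S] R) T hsc φ ((B ⊗[S] R) ⊗[R] A) n hr
  exact ⟨fun a b => θ S R A B (e a b), he.mapEquiv (θ S R A B).toRingEquiv⟩

end blevel

section spread

open Groth.Agent.Lib.Helper3.IndEt Groth.Agent.Lib.T2H2.EtLoc

variable {S : Type u} [CommRing S] (A : Type w) [Ring A] [Algebra S A]

/-- the base change of an algebra map, as a linear map -/
theorem rTensor_eq_map {E E' : Type*} [CommRing E] [CommRing E'] [Algebra S E] [Algebra S E']
    (g : E →ₐ[S] E') (z : E ⊗[S] A) :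
    LinearMap.rTensor A g.toLinearMap z = Algebra.TensorProduct.map g (AlgHom.id S A) z := rfl

/-- matrix units over a local ind-etale algebra descend to an etale stage -/
theorem exists_etale_isMatUnits (B : Type u) [CommRing B] [IsLocalRing B] [Algebra S B]
    (H : Obj.Factor S B) (n : ℕ) (e : Fin n → Fin n → B ⊗[S] A) (he : IsMatUnits e) :
    ∃ (E : Type u) (_ : CommRing E) (_ : Algebra S E) (_ : Algebra.Etale S E)
      (_ : E →ₐ[S] B) (e' : Fin n → Fin n → E ⊗[S] A), IsMatUnits e' := by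
  classical
  obtain ⟨E₀, _, _, _, g₀, hg₀⟩ := exists_lift_finite A H
    (fun x : Fin n × Fin n => e x.1 x.2)
  choose e₀ he₀ using hg₀
  simp only [rTensor_eq_map] at he₀
  let z : Option ((Fin n × Fin n) × (Fin n × Fin n)) → E₀ ⊗[S] A := fun x =>
    match x with
    | none => ∑ i, e₀ (i, i) - 1
    | some ((i, j), (k, l)) => e₀ (i, j) * e₀ (k, l) - (if j = k then e₀ (i, l) else 0)
  have hz : ∀ x, LinearMap.rTensor A g₀.toLinearMap (z x) = 0 := by
    intro x
    rw [rTensor_eq_map]
    match x with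
    | none =>
      show Algebra.TensorProduct.map g₀ (AlgHom.id S A) (∑ i, e₀ (i, i) - 1) = 0
      rw [map_sub, map_sum, map_one]
      simp_rw [he₀]
      rw [he.2, sub_self]
    | some ((i, j), (k, l)) =>
      show Algebra.TensorProduct.map g₀ (AlgHom.id S A)
        (e₀ (i, j) * e₀ (k, l) - (if j = k then e₀ (i, l) else 0)) = 0
      rw [map_sub, map_mul, he₀, he₀, he.1]
      split_ifs
      · rw [he₀, sub_self]
      · rw [map_zero, sub_self]
  obtain ⟨E', _, _, _, h, g', -, hz'⟩ := exists_stage_eq_zero H g₀ A z hz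
  simp only [rTensor_eq_map] at hz'
  refine ⟨E', inferInstance, inferInstance, inferInstance, g',
    fun i j => Algebra.TensorProduct.map h (AlgHom.id S A) (e₀ (i, j)), fun i j k l => ?_, ?_⟩
  · have := hz' (some ((i, j), (k, l)))
    change Algebra.TensorProduct.map h (AlgHom.id S A)
      (e₀ (i, j) * e₀ (k, l) - (if j = k then e₀ (i, l) else 0)) = 0 at this
    rw [map_sub, map_mul, sub_eq_zero] at this
    rw [this]
    split_ifs
    · rfl
    · rw [map_zero]
  · have := hz' none
    change Algebra.TensorProduct.map h (AlgHom.id S A) (∑ i, e₀ (i, i) - 1) = 0 at this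
    rw [map_sub, map_sum, map_one, sub_eq_zero] at this
    exact this

end spread

section shens

open Groth.Agent.Lib.Helper3.IndEt IsLocalRing

/-- a strict henselisation of the local ring of `S` at a prime `p`, as an ind-etale local
`S`-algebra whose closed point lies over `p` -/
theorem exists_strictHenselization_atPrime (S : Type u) [CommRing S] (p : PrimeSpectrum S) :
    ∃ (B : Type u) (_ : CommRing B) (_ : HenselianLocalRing B)
      (_ : IsSepClosed (ResidueField B)) (_ : Algebra S B),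
      Obj.Factor S B ∧ (maximalIdeal B).comap (algebraMap S B) = p.asIdeal := by
  obtain ⟨B, _, _, _, _, hB⟩ := Groth.Agent.S0537.result (Localization.AtPrime p.asIdeal)
  have hH : HenselianLocalRing B := hB.henselian
  have hsc : IsSepClosed (ResidueField B) := hB.isSepClosure.sep_closed
  let _ : Algebra S B :=
    ((algebraMap (Localization.AtPrime p.asIdeal) B).comp
      (algebraMap S (Localization.AtPrime p.asIdeal))).toAlgebra
  have : IsScalarTower S (Localization.AtPrime p.asIdeal) B :=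
    IsScalarTower.of_algebraMap_eq (fun _ => rfl)
  refine ⟨B, inferInstance, hH, hsc, inferInstance, ?_, ?_⟩
  · have h1 : EtPBC.IsIndEtale S (Localization.AtPrime p.asIdeal) :=
      isIndEtale_of_factor (Groth.Agent.S9470.factor_localization S p.asIdeal.primeCompl _)
    have h2 : EtPBC.IsIndEtale (Localization.AtPrime p.asIdeal) B :=
      isIndEtale_of_isStrictHenselization _ B
    exact factor_of_isIndEtale (isIndEtale_comp S (Localization.AtPrime p.asIdeal) B h1 h2)
  · rw [IsScalarTower.algebraMap_eq S (Localization.AtPrime p.asIdeal) B, ← Ideal.comap_comap,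
      ((local_hom_TFAE (algebraMap (Localization.AtPrime p.asIdeal) B)).out 0 4 rfl rfl).mp
        inferInstance]
    exact IsLocalization.AtPrime.under_maximalIdeal (Localization.AtPrime p.asIdeal) p.asIdeal

end shens

section main

open Groth.Agent.Lib.Helper3.IndEt Groth.Agent.Lib.T2H2.EtLoc IsLocalRing

variable {S : Type u} {R : Type v} [CommRing S] [CommRing R] [Algebra S R]
  (lam : R ≃ₐ[S] R) (hlam : ∀ r, lam (lam r) = r) (hfix : RInv.IsFixedRing S R lam.toRingEquiv)
  (A : Type w) [Ring A] [Algebra S A] [Algebra R A] [IsScalarTower S R A]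

include hlam hfix in
/-- every prime of `S` is hit by an etale `S`-algebra over which `A` has matrix units -/
theorem exists_etale_isMatUnits_at (n : ℕ) (hA : AzInv.IsAzumayaDeg R A n)
    (p : PrimeSpectrum S) :
    ∃ (E : Type u) (_ : CommRing E) (_ : Algebra S E) (_ : Algebra.Etale S E),
      p ∈ Set.range (PrimeSpectrum.comap (algebraMap S E)) ∧
        ∃ e : Fin n → Fin n → E ⊗[S] A, IsMatUnits e := by
  obtain ⟨B, _, _, _, _, H, hp⟩ := exists_strictHenselization_atPrime S p
  have hflat : Module.Flat S B := flat_of_factor' H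
  obtain ⟨e, he⟩ := exists_isMatUnits_of_strictHenselian lam hlam hfix A B n hA
  obtain ⟨E, _, _, _, g, e', he'⟩ := exists_etale_isMatUnits A B H n e he
  refine ⟨E, inferInstance, inferInstance, inferInstance,
    ⟨PrimeSpectrum.comap g.toRingHom (closedPoint B), ?_⟩, e', he'⟩
  apply PrimeSpectrum.ext
  show ((maximalIdeal B).comap g.toRingHom).comap (algebraMap S E) = p.asIdeal
  rw [Ideal.comap_comap, AlgHom.toRingHom_eq_coe, AlgHom.comp_algebraMap, hp]

include hlam hfix in
/-- `A` has a full system of matrix units after an etale faithfully flat base change of the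
fixed ring `S` -/
theorem main (n : ℕ) (hA : AzInv.IsAzumayaDeg R A n) :
    ∃ (S' : Type u) (_ : CommRing S') (_ : Algebra S S') (_ : Algebra.Etale S S')
      (_ : Module.FaithfullyFlat S S') (e : Fin n → Fin n → S' ⊗[S] A), IsMatUnits e := by
  choose 𝓔 i1 i2 i3 hr he using exists_etale_isMatUnits_at lam hlam hfix A n hA
  obtain ⟨t, ht⟩ := exists_finite_etale_cover S 𝓔 hr
  exact ⟨∀ i : t, 𝓔 i, inferInstance, inferInstance, inferInstance, ht,
    exists_isMatUnits_pi A (fun i : t => 𝓔 i) n (fun i => he i)⟩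

end main

end Groth.Agent.Lib.T2H2.AzInvSplit
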