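import Mathlib
import Groth.Agent.Lib.T2H2AzInvSplit
import Groth.Agent.Lib.LeadLocalInner

/-!
# Automorphisms of an Azumaya algebra are inner etale-locally on the fixed ring

Let `R` be a ring with involution with fixed ring `S`, `A` an Azumaya `R`-algebra and `ψ` an
`R`-algebra automorphism of `A`.  We show that `ψ` becomes inner after an etale faithfully flat
base change of `S`.
-/

namespace Groth.Agent.Lib.T2H2.AzInvInner

open scoped TensorProduct
open Groth.Agent.Lib.T2H2.AzInvSplit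

universe u v w

section prodDecomp

variable (C : Type*) [CommRing C] {ι : Type*} [Fintype ι] [DecidableEq ι] (T : ι → Type*)
  [∀ i, CommRing (T i)] [∀ i, Algebra C (T i)] (φ : C ≃ₐ[C] ∀ i, T i)
  (Γ : Type*) [Ring Γ] [Algebra C Γ]

/-- an algebra over a finite product of rings is the product of its base changes -/
noncomputable def prodDecomp : Γ ≃+* ∀ i, T i ⊗[C] Γ :=
  (((Algebra.TensorProduct.rid C C Γ).symm.toRingEquiv.trans
    (Algebra.TensorProduct.congr (AlgEquiv.refl : Γ ≃ₐ[C] Γ) φ).toRingEquiv).trans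
    (Algebra.TensorProduct.piRight C C Γ T).toRingEquiv).trans
    (RingEquiv.piCongrRight fun i => (Algebra.TensorProduct.comm C Γ (T i)).toRingEquiv)

theorem prodDecomp_apply (x : Γ) (i : ι) : prodDecomp C T φ Γ x i = (1 : T i) ⊗ₜ[C] x := by
  show Algebra.TensorProduct.comm C Γ (T i) (Algebra.TensorProduct.piRight C C Γ T
    (Algebra.TensorProduct.congr (AlgEquiv.refl : Γ ≃ₐ[C] Γ) φ
      ((Algebra.TensorProduct.rid C C Γ).symm x)) i) = _
  rw [Algebra.TensorProduct.rid_symm_apply, Algebra.TensorProduct.congr_apply,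
    Algebra.TensorProduct.map_tmul, Algebra.TensorProduct.piRight_tmul]
  simp

end prodDecomp

section prodInner

/-- automorphisms of an Azumaya algebra over a finite product of local rings are inner -/
theorem exists_conj_of_prod (C : Type*) [CommRing C] {ι : Type} [Fintype ι]
    (T : ι → Type*) [∀ i, CommRing (T i)] [∀ i, IsLocalRing (T i)] (φ : C ≃+* ∀ i, T i)
    (Γ : Type*) [Ring Γ] [Algebra C Γ] [IsAzumaya C Γ] (σ : Γ ≃ₐ[C] Γ) :
    ∃ v v' : Γ, v * v' = 1 ∧ v' * v = 1 ∧ ∀ x, σ x * v = v * x := by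
  classical
  let _ : ∀ i, Algebra C (T i) := fun i =>
    ((Pi.evalRingHom T i).comp (φ : C →+* ∀ i, T i)).toAlgebra
  let φa : C ≃ₐ[C] ∀ i, T i := AlgEquiv.ofRingEquiv (f := φ) (fun c => rfl)
  let Ψ := prodDecomp C T φa Γ
  have hΨ : ∀ x i, Ψ x i = (1 : T i) ⊗ₜ[C] x := prodDecomp_apply C T φa Γ
  have hconj : ∀ i, ∃ a : (T i ⊗[C] Γ)ˣ, ∀ y : T i ⊗[C] Γ,
      Algebra.TensorProduct.congr (AlgEquiv.refl : T i ≃ₐ[T i] T i) σ y =
        (a : T i ⊗[C] Γ) * y * (a⁻¹ : (T i ⊗[C] Γ)ˣ) := by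
    intro i
    have hAz : IsAzumaya (T i) (T i ⊗[C] Γ) :=
      Groth.Agent.Lib.LeadAzumaya.isAzumaya_baseChange (T i) Γ
    exact Groth.Agent.Lib.LeadLocalInner.exists_unit_conj _
  choose a ha using hconj
  refine ⟨Ψ.symm (fun i => (a i : T i ⊗[C] Γ)),
    Ψ.symm (fun i => ((a i)⁻¹ : (T i ⊗[C] Γ)ˣ)), ?_, ?_, fun x => ?_⟩
  · rw [← map_mul, ← map_one Ψ.symm]
    congr 1
    funext i
    simp
  · rw [← map_mul, ← map_one Ψ.symm]
    congr 1
    funext i
    simp
  · apply Ψ.injective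
    rw [map_mul, map_mul, RingEquiv.apply_symm_apply]
    funext i
    rw [Pi.mul_apply, Pi.mul_apply, hΨ, hΨ]
    have h1 := ha i ((1 : T i) ⊗ₜ[C] x)
    rw [Algebra.TensorProduct.congr_apply, Algebra.TensorProduct.map_tmul] at h1
    rw [show ((AlgEquiv.refl : T i ≃ₐ[T i] T i) : T i →ₐ[T i] T i) (1 : T i) = 1 from rfl] at h1
    show (1 : T i) ⊗ₜ[C] σ x * (a i : T i ⊗[C] Γ) = _
    have h3 : (1 : T i) ⊗ₜ[C] σ x = (1 : T i) ⊗ₜ[C] (σ : Γ →ₐ[C] Γ) x := rfl
    rw [h3, h1, mul_assoc, Units.inv_mul, mul_one]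

end prodInner

section psi

variable {S : Type u} {R : Type v} [CommRing S] [CommRing R] [Algebra S R]
  {A : Type w} [Ring A] [Algebra S A] [Algebra R A] [IsScalarTower S R A] (ψ : A ≃ₐ[R] A)

/-- the base change of `ψ` to `E ⊗_S A` -/
noncomputable def psiE (E : Type*) [CommRing E] [Algebra S E] : E ⊗[S] A →ₐ[S] E ⊗[S] A :=
  Algebra.TensorProduct.map (AlgHom.id S E) ((ψ.restrictScalars S : A ≃ₐ[S] A) : A →ₐ[S] A)

theorem psiE_tmul (E : Type*) [CommRing E] [Algebra S E] (e : E) (a : A) :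
    psiE ψ E (e ⊗ₜ[S] a) = e ⊗ₜ[S] ψ a := rfl

/-- naturality of the base change of `ψ` -/
theorem map_psiE {E E' : Type*} [CommRing E] [CommRing E'] [Algebra S E] [Algebra S E']
    (h : E →ₐ[S] E') (x : E ⊗[S] A) :
    Algebra.TensorProduct.map h (AlgHom.id S A) (psiE ψ E x) =
      psiE ψ E' (Algebra.TensorProduct.map h (AlgHom.id S A) x) := by
  induction x using TensorProduct.induction_on with
  | zero => simp
  | tmul e a => rfl
  | add x y hx hy => rw [map_add, map_add, hx, hy, map_add, map_add]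

omit [Algebra S R] [IsScalarTower S R A] in
/-- elements `e ⊗ r • 1` are central -/
theorem central_tmul (E : Type*) [CommRing E] [Algebra S E] (e : E) (r : R) (y : E ⊗[S] A) :
    (e ⊗ₜ[S] algebraMap R A r) * y = y * (e ⊗ₜ[S] algebraMap R A r) := by
  induction y using TensorProduct.induction_on with
  | zero => simp
  | tmul e' a =>
    rw [Algebra.TensorProduct.tmul_mul_tmul, Algebra.TensorProduct.tmul_mul_tmul, mul_comm,
      Algebra.commutes]
  | add x y hx hy => rw [mul_add, add_mul, hx, hy]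

theorem psiE_central (E : Type*) [CommRing E] [Algebra S E] (e : E) (r : R) :
    psiE ψ E (e ⊗ₜ[S] algebraMap R A r) = e ⊗ₜ[S] algebraMap R A r := by
  rw [psiE_tmul, AlgEquiv.commutes]

/-- the conjugation relation for all elements follows from the relation on module generators -/
theorem conj_of_generators (E : Type*) [CommRing E] [Algebra S E] (s : Set A)
    (hs : Submodule.span R s = ⊤) (v : E ⊗[S] A)
    (hv : ∀ a ∈ s, psiE ψ E ((1 : E) ⊗ₜ[S] a) * v = v * ((1 : E) ⊗ₜ[S] a)) (x : E ⊗[S] A) :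
    psiE ψ E x * v = v * x := by
  induction x using TensorProduct.induction_on with
  | zero => simp
  | add x y hx hy => rw [map_add, add_mul, mul_add, hx, hy]
  | tmul e a =>
    have ha : a ∈ Submodule.span R s := by rw [hs]; trivial
    induction ha using Submodule.span_induction generalizing e with
    | zero => simp
    | add a b _ _ hxa hxb => rw [TensorProduct.tmul_add, map_add, add_mul, mul_add, hxa, hxb]
    | mem a has =>
      have h1 : e ⊗ₜ[S] a = (e ⊗ₜ[S] algebraMap R A 1) * ((1 : E) ⊗ₜ[S] a) := by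
        rw [Algebra.TensorProduct.tmul_mul_tmul, mul_one, map_one, one_mul]
      rw [h1, map_mul, psiE_central, mul_assoc, hv a has, ← mul_assoc, central_tmul, mul_assoc]
    | smul r a _ hxa =>
      have h1 : e ⊗ₜ[S] (r • a) = ((1 : E) ⊗ₜ[S] algebraMap R A r) * (e ⊗ₜ[S] a) := by
        rw [Algebra.TensorProduct.tmul_mul_tmul, one_mul, ← Algebra.smul_def]
      rw [h1, map_mul, psiE_central, mul_assoc, hxa, ← mul_assoc, central_tmul, mul_assoc]

end psi

section blevel

attribute [local instance] Algebra.TensorProduct.rightAlgebra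

variable {S : Type u} {R : Type v} [CommRing S] [CommRing R] [Algebra S R]
  (lam : R ≃ₐ[S] R) (hlam : ∀ r, lam (lam r) = r) (hfix : RInv.IsFixedRing S R lam.toRingEquiv)
  {A : Type w} [Ring A] [Algebra S A] [Algebra R A] [IsScalarTower S R A] (ψ : A ≃ₐ[R] A)

/-- `θ` intertwines the two base changes of `ψ` -/
theorem θ_psi (B : Type*) [CommRing B] [Algebra S B] (y : (B ⊗[S] R) ⊗[R] A) :
    θ S R A B (Algebra.TensorProduct.congr
      (AlgEquiv.refl : (B ⊗[S] R) ≃ₐ[B ⊗[S] R] (B ⊗[S] R)) ψ y) = psiE ψ B (θ S R A B y) := by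
  induction y using TensorProduct.induction_on with
  | zero => simp
  | add x y hx hy => rw [map_add, map_add, hx, hy, map_add, map_add]
  | tmul c a =>
    rw [Algebra.TensorProduct.congr_apply, Algebra.TensorProduct.map_tmul]
    show θ S R A B (c ⊗ₜ[R] ψ a) = psiE ψ B (θ S R A B (c ⊗ₜ[R] a))
    induction c using TensorProduct.induction_on with
    | zero => simp
    | add c d hc hd =>
      rw [TensorProduct.add_tmul, TensorProduct.add_tmul, map_add, map_add, map_add, hc, hd]
    | tmul b r => rw [θ_tmul, θ_tmul, psiE_tmul, map_smul]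

include hlam hfix in
/-- over a strictly henselian local flat `S`-algebra `B`, the base change of `ψ` is inner -/
theorem exists_conj_of_strictHenselian (B : Type u) [CommRing B] [HenselianLocalRing B]
    [IsSepClosed (IsLocalRing.ResidueField B)] [Algebra S B] [Module.Flat S B]
    [IsAzumaya R A] :
    ∃ v v' : B ⊗[S] A, v * v' = 1 ∧ v' * v = 1 ∧ ∀ x, psiE ψ B x * v = v * x := by
  have hfixB := Groth.Agent.S15586.result S R B lam (fun r => hlam r) hfix (Or.inl inferInstance)
  have hinvB := involutive_congr lam hlam B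
  obtain ⟨ι, _, T, _, _, hsc, ⟨φ⟩⟩ := Groth.Agent.Lib.T2H2.InvHens.main B (B ⊗[S] R)
    (Algebra.TensorProduct.congr (AlgEquiv.refl : B ≃ₐ[S] B) lam).toRingEquiv hinvB hfixB
  have hAz : IsAzumaya (B ⊗[S] R) ((B ⊗[S] R) ⊗[R] A) :=
    Groth.Agent.Lib.LeadAzumaya.isAzumaya_baseChange (B ⊗[S] R) A
  obtain ⟨v, v', h1, h2, h3⟩ := exists_conj_of_prod (B ⊗[S] R) T φ ((B ⊗[S] R) ⊗[R] A)
    (Algebra.TensorProduct.congr (AlgEquiv.refl : (B ⊗[S] R) ≃ₐ[B ⊗[S] R] (B ⊗[S] R)) ψ)
  refine ⟨θ S R A B v, θ S R A B v', ?_, ?_, fun x => ?_⟩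
  · rw [← map_mul, h1, map_one]
  · rw [← map_mul, h2, map_one]
  · obtain ⟨y, rfl⟩ := (θ S R A B).surjective x
    rw [← θ_psi, ← map_mul, h3, map_mul]

end blevel

section spread

open Groth.Agent.Lib.Helper3.IndEt Groth.Agent.Lib.T2H2.EtLoc

variable {S : Type u} {R : Type v} [CommRing S] [CommRing R] [Algebra S R]
  {A : Type w} [Ring A] [Algebra S A] [Algebra R A] [IsScalarTower S R A] (ψ : A ≃ₐ[R] A)

/-- a conjugating unit over a local ind-etale algebra descends to an etale stage -/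
theorem exists_etale_conj [Module.Finite R A] (B : Type u) [CommRing B] [IsLocalRing B]
    [Algebra S B] (H : Obj.Factor S B) (u u' : B ⊗[S] A) (h1 : u * u' = 1) (h2 : u' * u = 1)
    (h3 : ∀ x, psiE ψ B x * u = u * x) :
    ∃ (E : Type u) (_ : CommRing E) (_ : Algebra S E) (_ : Algebra.Etale S E)
      (_ : E →ₐ[S] B) (v v' : E ⊗[S] A), v * v' = 1 ∧ v' * v = 1 ∧
        ∀ x, psiE ψ E x * v = v * x := by
  classical
  obtain ⟨s, hs⟩ := (Module.Finite.fg_top : (⊤ : Submodule R A).FG)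
  obtain ⟨E₀, _, _, _, g₀, hg₀⟩ := exists_lift_finite A H
    (fun b : Bool => if b then u else u')
  obtain ⟨v₀, hv₀⟩ := hg₀ true
  obtain ⟨v₀', hv₀'⟩ := hg₀ false
  simp only [rTensor_eq_map, if_true, Bool.false_eq_true, if_false] at hv₀ hv₀'
  let z : Option (Option s) → E₀ ⊗[S] A := fun x =>
    match x with
    | none => v₀ * v₀' - 1
    | some none => v₀' * v₀ - 1
    | some (some a) => psiE ψ E₀ ((1 : E₀) ⊗ₜ[S] (a : A)) * v₀ - v₀ * ((1 : E₀) ⊗ₜ[S] (a : A))
  have hz : ∀ x, LinearMap.rTensor A g₀.toLinearMap (z x) = 0 := by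
    intro x
    rw [rTensor_eq_map]
    match x with
    | none =>
      show Algebra.TensorProduct.map g₀ (AlgHom.id S A) (v₀ * v₀' - 1) = 0
      rw [map_sub, map_mul, map_one, hv₀, hv₀', h1, sub_self]
    | some none =>
      show Algebra.TensorProduct.map g₀ (AlgHom.id S A) (v₀' * v₀ - 1) = 0
      rw [map_sub, map_mul, map_one, hv₀, hv₀', h2, sub_self]
    | some (some a) =>
      show Algebra.TensorProduct.map g₀ (AlgHom.id S A)
        (psiE ψ E₀ ((1 : E₀) ⊗ₜ[S] (a : A)) * v₀ - v₀ * ((1 : E₀) ⊗ₜ[S] (a : A))) = 0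
      rw [map_sub, map_mul, map_mul, map_psiE, hv₀, h3, sub_self]
  obtain ⟨E', _, _, _, h, g', -, hz'⟩ := exists_stage_eq_zero H g₀ A z hz
  simp only [rTensor_eq_map] at hz'
  refine ⟨E', inferInstance, inferInstance, inferInstance, g',
    Algebra.TensorProduct.map h (AlgHom.id S A) v₀,
    Algebra.TensorProduct.map h (AlgHom.id S A) v₀', ?_, ?_, ?_⟩
  · have := hz' none
    change Algebra.TensorProduct.map h (AlgHom.id S A) (v₀ * v₀' - 1) = 0 at this
    rwa [map_sub, map_mul, map_one, sub_eq_zero] at this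
  · have := hz' (some none)
    change Algebra.TensorProduct.map h (AlgHom.id S A) (v₀' * v₀ - 1) = 0 at this
    rwa [map_sub, map_mul, map_one, sub_eq_zero] at this
  · apply conj_of_generators ψ E' (s : Set A) hs
    intro a ha
    have := hz' (some (some ⟨a, ha⟩))
    change Algebra.TensorProduct.map h (AlgHom.id S A)
      (psiE ψ E₀ ((1 : E₀) ⊗ₜ[S] a) * v₀ - v₀ * ((1 : E₀) ⊗ₜ[S] a)) = 0 at this
    rw [map_sub, map_mul, map_mul, map_psiE, sub_eq_zero, Algebra.TensorProduct.map_tmul,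
      map_one] at this
    exact this

end spread

section pi

variable {S : Type u} {R : Type v} [CommRing S] [CommRing R] [Algebra S R]
  {A : Type w} [Ring A] [Algebra S A] [Algebra R A] [IsScalarTower S R A] (ψ : A ≃ₐ[R] A)

theorem piLeft_psiE {ι : Type*} [Fintype ι] [DecidableEq ι] (E : ι → Type*)
    [∀ i, CommRing (E i)] [∀ i, Algebra S (E i)] (x : (∀ i, E i) ⊗[S] A) (i : ι) :
    piLeft A E (psiE ψ (∀ i, E i) x) i = psiE ψ (E i) (piLeft A E x i) := by
  induction x using TensorProduct.induction_on with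
  | zero => simp
  | tmul e a => rw [psiE_tmul, piLeft_tmul, piLeft_tmul, psiE_tmul]
  | add x y hx hy => rw [map_add, map_add, Pi.add_apply, hx, hy, map_add, Pi.add_apply, map_add]

/-- conjugating units over the factors give one over a finite product -/
theorem exists_conj_pi {ι : Type*} [Finite ι] (E : ι → Type*)
    [∀ i, CommRing (E i)] [∀ i, Algebra S (E i)]
    (h : ∀ i, ∃ v v' : E i ⊗[S] A, v * v' = 1 ∧ v' * v = 1 ∧
      ∀ x, psiE ψ (E i) x * v = v * x) :
    ∃ v v' : (∀ i, E i) ⊗[S] A, v * v' = 1 ∧ v' * v = 1 ∧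
      ∀ x, psiE ψ (∀ i, E i) x * v = v * x := by
  classical
  have := Fintype.ofFinite ι
  choose v v' h1 h2 h3 using h
  refine ⟨(piLeft A E).symm (fun i => v i), (piLeft A E).symm (fun i => v' i), ?_, ?_,
    fun x => ?_⟩
  · rw [← map_mul, ← map_one (piLeft A E).symm]
    congr 1
    funext i
    exact h1 i
  · rw [← map_mul, ← map_one (piLeft A E).symm]
    congr 1
    funext i
    exact h2 i
  · apply (piLeft A E).injective
    rw [map_mul, map_mul, RingEquiv.apply_symm_apply]
    funext i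
    rw [Pi.mul_apply, Pi.mul_apply, piLeft_psiE, h3]

end pi

section main

open Groth.Agent.Lib.Helper3.IndEt Groth.Agent.Lib.T2H2.EtLoc IsLocalRing

variable {S : Type u} {R : Type v} [CommRing S] [CommRing R] [Algebra S R]
  (lam : R ≃ₐ[S] R) (hlam : ∀ r, lam (lam r) = r) (hfix : RInv.IsFixedRing S R lam.toRingEquiv)
  {A : Type w} [Ring A] [Algebra S A] [Algebra R A] [IsScalarTower S R A] (ψ : A ≃ₐ[R] A)

include hlam hfix in
theorem exists_etale_conj_at [IsAzumaya R A] (p : PrimeSpectrum S) :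
    ∃ (E : Type u) (_ : CommRing E) (_ : Algebra S E) (_ : Algebra.Etale S E),
      p ∈ Set.range (PrimeSpectrum.comap (algebraMap S E)) ∧
        ∃ v v' : E ⊗[S] A, v * v' = 1 ∧ v' * v = 1 ∧ ∀ x, psiE ψ E x * v = v * x := by
  obtain ⟨B, _, _, _, _, H, hp⟩ := exists_strictHenselization_atPrime S p
  have hflat : Module.Flat S B := flat_of_factor' H
  obtain ⟨u, u', h1, h2, h3⟩ := exists_conj_of_strictHenselian lam hlam hfix ψ B
  obtain ⟨E, _, _, _, g, v, v', hv⟩ := exists_etale_conj ψ B H u u' h1 h2 h3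
  refine ⟨E, inferInstance, inferInstance, inferInstance,
    ⟨PrimeSpectrum.comap g.toRingHom (closedPoint B), ?_⟩, v, v', hv⟩
  apply PrimeSpectrum.ext
  show ((maximalIdeal B).comap g.toRingHom).comap (algebraMap S E) = p.asIdeal
  rw [Ideal.comap_comap, AlgHom.toRingHom_eq_coe, AlgHom.comp_algebraMap, hp]

include hlam hfix in
/-- `ψ` is inner after an etale faithfully flat base change of the fixed ring `S` -/
theorem main [IsAzumaya R A] :
    ∃ (S' : Type u) (_ : CommRing S') (_ : Algebra S S') (_ : Algebra.Etale S S')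
      (_ : Module.FaithfullyFlat S S') (v v' : S' ⊗[S] A), v * v' = 1 ∧ v' * v = 1 ∧
        ∀ x, psiE ψ S' x * v = v * x := by
  choose 𝓔 i1 i2 i3 hr he using exists_etale_conj_at lam hlam hfix ψ
  obtain ⟨t, ht⟩ := exists_finite_etale_cover S 𝓔 hr
  exact ⟨∀ i : t, 𝓔 i, inferInstance, inferInstance, inferInstance, ht,
    exists_conj_pi ψ (fun i : t => 𝓔 i) (fun i => he i)⟩

end main

end Groth.Agent.Lib.T2H2.AzInvInner
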