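import Mathlib
import Groth.Agent.Lib.T2H2AzInvInner
import Groth.Agent.Lib.T2H2AzCenter

/-!
# Automorphisms commuting with an involution are conjugations by unitary elements etale-locally

Let `R` be a ring with involution `lam` with fixed ring `S`, `A` an Azumaya `R`-algebra with a
`lam`-involution `t` and `ψ` an automorphism of `(A, t)`.  If units have square roots etale
locally on `S`, then `ψ` is conjugation by a unitary element etale-locally on `S`.
-/

namespace Groth.Agent.Lib.T2H2.AzInvUnitary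

open scoped TensorProduct
open Groth.Agent.Lib.T2H2.AzInvSplit Groth.Agent.Lib.T2H2.AzInvInner

universe u v w

section tE

variable {S : Type u} {R : Type v} [CommRing S] [CommRing R] [Algebra S R]
  {A : Type w} [Ring A] [Algebra S A] [Algebra R A] [IsScalarTower S R A]
  (lam : R ≃ₐ[S] R) (t : AzInv.LamInv R A lam)

theorem bc_mul (E : Type*) [CommRing E] [Algebra S E] (x y : E ⊗[S] A) :
    t.bc S lam E (x * y) = t.bc S lam E y * t.bc S lam E x := by
  induction x using TensorProduct.induction_on with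
  | zero => simp
  | add x x' hx hx' => rw [add_mul, map_add, hx, hx', map_add, mul_add]
  | tmul e a =>
    induction y using TensorProduct.induction_on with
    | zero => simp
    | add y y' hy hy' => rw [mul_add, map_add, hy, hy', map_add, add_mul]
    | tmul e' a' =>
      rw [Algebra.TensorProduct.tmul_mul_tmul, AzInv.LamInv.bc_tmul, AzInv.LamInv.bc_tmul,
        AzInv.LamInv.bc_tmul, Algebra.TensorProduct.tmul_mul_tmul, t.map_mul, mul_comm]

theorem bc_bc (E : Type*) [CommRing E] [Algebra S E] (x : E ⊗[S] A) :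
    t.bc S lam E (t.bc S lam E x) = x := by
  induction x using TensorProduct.induction_on with
  | zero => simp
  | add x x' hx hx' => rw [map_add, map_add, hx, hx']
  | tmul e a => rw [AzInv.LamInv.bc_tmul, AzInv.LamInv.bc_tmul, t.invol]

theorem bc_one (E : Type*) [CommRing E] [Algebra S E] :
    t.bc S lam E (1 : E ⊗[S] A) = 1 := by
  rw [Algebra.TensorProduct.one_def, AzInv.LamInv.bc_tmul, t.map_one]

/-- naturality of the base-changed involution -/
theorem map_bc {E E' : Type*} [CommRing E] [CommRing E'] [Algebra S E] [Algebra S E']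
    (h : E →ₐ[S] E') (x : E ⊗[S] A) :
    Algebra.TensorProduct.map h (AlgHom.id S A) (t.bc S lam E x) =
      t.bc S lam E' (Algebra.TensorProduct.map h (AlgHom.id S A) x) := by
  induction x using TensorProduct.induction_on with
  | zero => simp
  | add x x' hx hx' => rw [map_add, map_add, hx, hx', map_add, map_add]
  | tmul e a =>
    rw [AzInv.LamInv.bc_tmul, Algebra.TensorProduct.map_tmul, Algebra.TensorProduct.map_tmul,
      AzInv.LamInv.bc_tmul]
    rfl

/-- the base changes of `ψ` and `t` commute -/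
theorem psiE_bc (ψ : A ≃ₐ[R] A) (hψ : AzInv.IsInvHom t t ψ) (E : Type*) [CommRing E]
    [Algebra S E] (x : E ⊗[S] A) :
    psiE ψ E (t.bc S lam E x) = t.bc S lam E (psiE ψ E x) := by
  induction x using TensorProduct.induction_on with
  | zero => simp
  | add x x' hx hx' => rw [map_add, map_add, hx, hx', map_add, map_add]
  | tmul e a =>
    rw [AzInv.LamInv.bc_tmul, psiE_tmul, psiE_tmul, AzInv.LamInv.bc_tmul, hψ a]

end tE

section scalar

attribute [local instance] Algebra.TensorProduct.rightAlgebra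

variable {S : Type u} {R : Type v} [CommRing S] [CommRing R] [Algebra S R]
  {A : Type w} [Ring A] [Algebra S A] [Algebra R A] [IsScalarTower S R A]
  (lam : R ≃ₐ[S] R) (hlam : ∀ r, lam (lam r) = r) (hfix : RInv.IsFixedRing S R lam.toRingEquiv)
  (t : AzInv.LamInv R A lam) (E : Type*) [CommRing E] [Algebra S E]

variable (S R A) in
/-- the canonical map `E ⊗ R → E ⊗ A` -/
noncomputable def iotaE : E ⊗[S] R →ₐ[S] E ⊗[S] A :=
  Algebra.TensorProduct.map (AlgHom.id S E) (IsScalarTower.toAlgHom S R A)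

theorem iotaE_tmul (e : E) (r : R) :
    iotaE S R A E (e ⊗ₜ[S] r) = e ⊗ₜ[S] algebraMap R A r := rfl

theorem θ_algebraMap (c : E ⊗[S] R) :
    θ S R A E (algebraMap (E ⊗[S] R) ((E ⊗[S] R) ⊗[R] A) c) = iotaE S R A E c := by
  rw [Algebra.TensorProduct.algebraMap_apply]
  show θ S R A E (c ⊗ₜ[R] (1 : A)) = _
  induction c using TensorProduct.induction_on with
  | zero => simp
  | add c d hc hd => rw [TensorProduct.add_tmul, map_add, hc, hd, map_add]
  | tmul e r => rw [θ_tmul, iotaE_tmul, Algebra.algebraMap_eq_smul_one]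

theorem iotaE_injective [IsAzumaya R A] : Function.Injective (iotaE S R A E) := by
  have hAz : IsAzumaya (E ⊗[S] R) ((E ⊗[S] R) ⊗[R] A) :=
    Groth.Agent.Lib.LeadAzumaya.isAzumaya_baseChange (E ⊗[S] R) A
  intro c d hcd
  rw [← θ_algebraMap, ← θ_algebraMap] at hcd
  exact FaithfulSMul.algebraMap_injective (E ⊗[S] R) ((E ⊗[S] R) ⊗[R] A)
    ((θ S R A E).injective hcd)

theorem exists_iotaE_eq_of_central [IsAzumaya R A] (z : E ⊗[S] A) (hz : ∀ y, z * y = y * z) :
    ∃ c : E ⊗[S] R, iotaE S R A E c = z := by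
  have hAz : IsAzumaya (E ⊗[S] R) ((E ⊗[S] R) ⊗[R] A) :=
    Groth.Agent.Lib.LeadAzumaya.isAzumaya_baseChange (E ⊗[S] R) A
  obtain ⟨c, hc⟩ := Groth.Agent.Lib.T2H2.AzCenter.exists_algebraMap_eq_of_central
    (R := E ⊗[S] R) ((θ S R A E).symm z) (fun x => by
      apply (θ S R A E).injective
      rw [map_mul, map_mul, AlgEquiv.apply_symm_apply, hz])
  refine ⟨c, ?_⟩
  rw [← θ_algebraMap, hc, AlgEquiv.apply_symm_apply]

theorem bc_iotaE (c : E ⊗[S] R) :
    t.bc S lam E (iotaE S R A E c) =
      iotaE S R A E (Algebra.TensorProduct.congr (AlgEquiv.refl : E ≃ₐ[S] E) lam c) := by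
  induction c using TensorProduct.induction_on with
  | zero => simp
  | add c d hc hd => rw [map_add, map_add, hc, hd, map_add, map_add]
  | tmul e r =>
    rw [iotaE_tmul, AzInv.LamInv.bc_tmul, t.map_algebraMap, Algebra.TensorProduct.congr_apply,
      Algebra.TensorProduct.map_tmul, iotaE_tmul]
    rfl

include hlam hfix in
/-- a central element fixed by the involution comes from `E` -/
theorem exists_tmul_one_eq [IsAzumaya R A] [Module.Flat S E] (z : E ⊗[S] A)
    (hz : ∀ y, z * y = y * z) (hzt : t.bc S lam E z = z) :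
    ∃ s : E, s ⊗ₜ[S] (1 : A) = z := by
  have hfixE := Groth.Agent.S15586.result S R E lam (fun r => hlam r) hfix (Or.inl inferInstance)
  obtain ⟨c, rfl⟩ := exists_iotaE_eq_of_central (R := R) E z hz
  rw [bc_iotaE] at hzt
  have h1 := iotaE_injective E hzt
  obtain ⟨s, hs⟩ := (hfixE.2 c).mp h1
  refine ⟨s, ?_⟩
  rw [← hs, Algebra.TensorProduct.algebraMap_apply]
  show _ = iotaE S R A E (s ⊗ₜ[S] (1 : R))
  rw [iotaE_tmul, map_one]

include hlam hfix in
theorem tmul_one_injective [IsAzumaya R A] [Module.Flat S E] :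
    Function.Injective (fun s : E => s ⊗ₜ[S] (1 : A)) := by
  have hfixE := Groth.Agent.S15586.result S R E lam (fun r => hlam r) hfix (Or.inl inferInstance)
  intro s s' h
  apply hfixE.1
  apply iotaE_injective (R := R) (A := A) E
  rw [Algebra.TensorProduct.algebraMap_apply, Algebra.TensorProduct.algebraMap_apply]
  show iotaE S R A E (s ⊗ₜ[S] (1 : R)) = iotaE S R A E (s' ⊗ₜ[S] (1 : R))
  rw [iotaE_tmul, iotaE_tmul, map_one]
  exact h

include hlam hfix in
/-- for a conjugating unit `v` of an automorphism commuting with `t`, the element `t v * v` is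
a unit of `E` -/
theorem exists_unit_scalar [IsAzumaya R A] [Module.Flat S E] (ψ : A ≃ₐ[R] A)
    (hψ : AzInv.IsInvHom t t ψ) (v v' : E ⊗[S] A) (h1 : v * v' = 1) (h2 : v' * v = 1)
    (h3 : ∀ x, psiE ψ E x * v = v * x) :
    ∃ s : Eˣ, t.bc S lam E v * v = (s : E) ⊗ₜ[S] (1 : A) := by
  have hpsi : ∀ x, psiE ψ E x = v * x * v' := by
    intro x
    rw [← h3, mul_assoc, h1, mul_one]
  have htv : t.bc S lam E v * t.bc S lam E v' = 1 := by
    rw [← bc_mul, h2, bc_one]
  have htv' : t.bc S lam E v' * t.bc S lam E v = 1 := by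
    rw [← bc_mul, h1, bc_one]
  have hc : ∀ y, (t.bc S lam E v * v) * y = y * (t.bc S lam E v * v) := by
    intro y
    have h4 := psiE_bc lam t ψ hψ E (t.bc S lam E y)
    rw [bc_bc, hpsi, hpsi, bc_mul, bc_mul, bc_bc] at h4
    -- `v * y * v' = t v' * (y * t v)`
    have h5 : t.bc S lam E v * (v * y * v') * v =
        t.bc S lam E v * (t.bc S lam E v' * (y * t.bc S lam E v)) * v := by rw [h4]
    calc (t.bc S lam E v * v) * y = t.bc S lam E v * (v * y * v') * v := by
          simp only [mul_assoc, h2, mul_one]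
      _ = t.bc S lam E v * (t.bc S lam E v' * (y * t.bc S lam E v)) * v := h5
      _ = y * (t.bc S lam E v * v) := by
          simp only [mul_assoc]
          rw [← mul_assoc (t.bc S lam E v) (t.bc S lam E v'), htv, one_mul]
  have hcd : (t.bc S lam E v * v) * (v' * t.bc S lam E v') = 1 := by
    rw [mul_assoc, ← mul_assoc v, h1, one_mul, htv]
  have hdc : (v' * t.bc S lam E v') * (t.bc S lam E v * v) = 1 := by
    rw [mul_assoc, ← mul_assoc (t.bc S lam E v'), htv', one_mul, h2]
  have hd : ∀ y, (v' * t.bc S lam E v') * y = y * (v' * t.bc S lam E v') := by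
    intro y
    calc (v' * t.bc S lam E v') * y
        = (v' * t.bc S lam E v') * y * ((t.bc S lam E v * v) * (v' * t.bc S lam E v')) := by
          rw [hcd, mul_one]
      _ = (v' * t.bc S lam E v') * ((t.bc S lam E v * v) * y) * (v' * t.bc S lam E v') := by
          rw [hc y]
          simp only [mul_assoc]
      _ = y * (v' * t.bc S lam E v') := by
          rw [← mul_assoc (v' * t.bc S lam E v'), hdc, one_mul]
  have htc : t.bc S lam E (t.bc S lam E v * v) = t.bc S lam E v * v := by
    rw [bc_mul, bc_bc]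
  have htd : t.bc S lam E (v' * t.bc S lam E v') = v' * t.bc S lam E v' := by
    rw [bc_mul, bc_bc]
  obtain ⟨s, hs⟩ := exists_tmul_one_eq lam hlam hfix t E _ hc htc
  obtain ⟨s', hs'⟩ := exists_tmul_one_eq lam hlam hfix t E _ hd htd
  have hss' : s * s' = 1 := by
    apply tmul_one_injective (A := A) lam hlam hfix E
    show (s * s') ⊗ₜ[S] (1 : A) = (1 : E) ⊗ₜ[S] (1 : A)
    rw [← Algebra.TensorProduct.one_def, ← hcd, ← hs, ← hs',
      Algebra.TensorProduct.tmul_mul_tmul, mul_one]
  exact ⟨⟨s, s', hss', by rw [mul_comm, hss']⟩, hs.symm⟩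

end scalar

section main

variable {S : Type u} {R : Type v} [CommRing S] [CommRing R] [Algebra S R]
  (lam : R ≃ₐ[S] R) (hlam : ∀ r, lam (lam r) = r) (hfix : RInv.IsFixedRing S R lam.toRingEquiv)
  (hsq : ∀ (S₁ : Type u) [CommRing S₁] [Algebra S S₁] [Algebra.Etale S S₁] (x : S₁ˣ),
    ∃ (S₂ : Type u) (_ : CommRing S₂) (_ : Algebra S₁ S₂) (_ : Algebra.Etale S₁ S₂)
      (_ : Module.FaithfullyFlat S₁ S₂) (y : S₂), y * y = algebraMap S₁ S₂ ↑x)
  {A : Type w} [Ring A] [Algebra S A] [Algebra R A] [IsScalarTower S R A] [IsAzumaya R A]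
  (t : AzInv.LamInv R A lam) (ψ : A ≃ₐ[R] A) (hψ : AzInv.IsInvHom t t ψ)

include hlam hfix hsq hψ in
/-- an automorphism commuting with the involution is conjugation by a unitary element after an
etale faithfully flat base change of `S` -/
theorem main :
    ∃ (S' : Type u) (_ : CommRing S') (_ : Algebra S S') (_ : Algebra.Etale S S')
      (_ : Module.FaithfullyFlat S S') (u : (S' ⊗[S] A)ˣ),
      t.bc S lam S' (↑u : S' ⊗[S] A) * ↑u = 1 ∧
        ∀ x : S' ⊗[S] A,
          Algebra.TensorProduct.congr (AlgEquiv.refl : S' ≃ₐ[S'] S') (ψ.restrictScalars S) x =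
            ↑u * x * ↑u⁻¹ := by
  obtain ⟨S₁, _, _, _, hff₁, v, v', h1, h2, h3⟩ :=
    Groth.Agent.Lib.T2H2.AzInvInner.main lam hlam hfix ψ
  obtain ⟨s, hs⟩ := exists_unit_scalar lam hlam hfix t S₁ ψ hψ v v' h1 h2 h3
  obtain ⟨S₂, _, _, _, hff₂, y, hy⟩ := hsq S₁ s⁻¹
  let _ : Algebra S S₂ := ((algebraMap S₁ S₂).comp (algebraMap S S₁)).toAlgebra
  have : IsScalarTower S S₁ S₂ := IsScalarTower.of_algebraMap_eq (fun _ => rfl)
  have : Algebra.Etale S S₂ := Algebra.Etale.comp S S₁ S₂
  have : Module.FaithfullyFlat S S₂ := Module.FaithfullyFlat.trans S S₁ S₂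
  let h : S₁ →ₐ[S] S₂ := IsScalarTower.toAlgHom S S₁ S₂
  let H : S₁ ⊗[S] A →ₐ[S] S₂ ⊗[S] A := Algebra.TensorProduct.map h (AlgHom.id S A)
  have hyu : IsUnit y := by
    have : IsUnit (y * y) := by
      rw [hy]
      exact (Units.isUnit _).map _
    exact isUnit_of_mul_isUnit_left this
  obtain ⟨yu, rfl⟩ := hyu
  have hHv : H v * H v' = 1 := by rw [← map_mul, h1, map_one]
  have hHv' : H v' * H v = 1 := by rw [← map_mul, h2, map_one]
  have hconj : ∀ x, psiE ψ S₂ x * H v = H v * x := by
    apply conj_of_generators ψ S₂ Set.univ Submodule.span_univ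
    intro a _
    have e1 : (1 : S₂) ⊗ₜ[S] a = H ((1 : S₁) ⊗ₜ[S] a) := by
      rw [Algebra.TensorProduct.map_tmul, map_one]
      rfl
    rw [e1, ← map_psiE, ← map_mul, h3, map_mul]
  let u : (S₂ ⊗[S] A)ˣ :=
    ⟨(yu : S₂) • H v, ((yu⁻¹ : S₂ˣ) : S₂) • H v',
      by rw [smul_mul_smul_comm, Units.mul_inv, hHv, one_smul],
      by rw [smul_mul_smul_comm, Units.inv_mul, hHv', one_smul]⟩
  refine ⟨S₂, inferInstance, inferInstance, inferInstance, inferInstance, u, ?_, fun x => ?_⟩
  · show t.bc S lam S₂ ((yu : S₂) • H v) * ((yu : S₂) • H v) = 1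
    rw [map_smul, smul_mul_smul_comm, ← map_bc, ← map_mul, hs, hy,
      Algebra.TensorProduct.map_tmul, map_one]
    show h ((s⁻¹ : S₁ˣ) : S₁) • (h (s : S₁) ⊗ₜ[S] (1 : A)) = 1
    rw [TensorProduct.smul_tmul', smul_eq_mul, ← map_mul, Units.inv_mul, map_one]
    rfl
  · show psiE ψ S₂ x = ((yu : S₂) • H v) * x * (((yu⁻¹ : S₂ˣ) : S₂) • H v')
    rw [smul_mul_assoc, smul_mul_assoc, mul_smul_comm, smul_smul, Units.mul_inv, one_smul,
      ← hconj, mul_assoc, hHv, mul_one]

end main

end Groth.Agent.Lib.T2H2.AzInvUnitary
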