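import Mathlib
import Groth.Agent.Lib.T2H2AzInvUnitary

/-!
# Isomorphisms of algebras with involution from adapted matrix units

Let `(A, t)` be an Azumaya algebra of degree `n` with a `lam`-involution.  A full system of
matrix units `e i j` of `E ⊗_S A` with `t (e i j) = e j i` identifies `E ⊗_S A`, with its
involution, with the matrix algebra over `E ⊗_S R` with the `lam`-transpose.  Two algebras with
involution with such matrix units are therefore isomorphic over `E`.
-/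

namespace Groth.Agent.Lib.T2H2.AzInvIso

open scoped TensorProduct
open Groth.Agent.Lib.T2H2.MatUnits Groth.Agent.Lib.T2H2.AzInvSplit
  Groth.Agent.Lib.T2H2.AzInvInner Groth.Agent.Lib.T2H2.AzInvUnitary

universe u v w w'

section iso

attribute [local instance] Algebra.TensorProduct.rightAlgebra

variable {S : Type u} {R : Type v} [CommRing S] [CommRing R] [Algebra S R]
  {A : Type w} [Ring A] [Algebra S A] [Algebra R A] [IsScalarTower S R A]
  {E : Type*} [CommRing E] [Algebra S E]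

/-- the splitting isomorphism defined by a full system of matrix units, with the formula for
its inverse -/
theorem exists_iso_with_formula (n : ℕ) (hn : 0 < n) (hA : AzInv.IsAzumayaDeg R A n)
    (e : Fin n → Fin n → E ⊗[S] A) (he : IsMatUnits e) :
    ∃ f : E ⊗[S] A ≃ₐ[E] Matrix (Fin n) (Fin n) (E ⊗[S] R),
      ∀ X, f.symm X = ∑ i, ∑ j, iotaE S R A E (X i j) * e i j := by
  classical
  have := hA.1
  have : Nonempty (Fin n) := ⟨⟨0, hn⟩⟩
  have hAz : IsAzumaya (E ⊗[S] R) ((E ⊗[S] R) ⊗[R] A) :=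
    Groth.Agent.Lib.LeadAzumaya.isAzumaya_baseChange (E ⊗[S] R) A
  have hAzM : IsAzumaya (E ⊗[S] R) (Matrix (Fin n) (Fin n) (E ⊗[S] R)) :=
    IsAzumaya.matrix (E ⊗[S] R) (Fin n)
  have hê : IsMatUnits (fun i j => (θ S R A E).symm (e i j)) :=
    he.map ((θ S R A E).symm : E ⊗[S] A →+* (E ⊗[S] R) ⊗[R] A)
  let G : Matrix (Fin n) (Fin n) (E ⊗[S] R) →ₐ[E ⊗[S] R] (E ⊗[S] R) ⊗[R] A := matHom hê
  have hrank : ∀ p : PrimeSpectrum (E ⊗[S] R),
      Module.rankAtStalk (Matrix (Fin n) (Fin n) (E ⊗[S] R)) p =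
        Module.rankAtStalk ((E ⊗[S] R) ⊗[R] A) p := by
    intro p
    have hnt : Nontrivial (E ⊗[S] R) := p.nontrivial
    rw [Module.rankAtStalk_baseChange, hA.2]
    have h1 := congrFun (Module.rankAtStalk_eq_finrank_of_free (R := E ⊗[S] R)
      (M := Matrix (Fin n) (Fin n) (E ⊗[S] R))) p
    rw [h1]
    simp [Module.finrank_matrix, pow_two]
  have hG : Function.Bijective G := Groth.Agent.Lib.T2H2.AzHom.bijective_of_isAzumaya G hrank
  let Ge : Matrix (Fin n) (Fin n) (E ⊗[S] R) ≃ₐ[E ⊗[S] R] (E ⊗[S] R) ⊗[R] A :=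
    AlgEquiv.ofBijective G hG
  refine ⟨(θ S R A E).symm.trans (Ge.symm.restrictScalars E), fun X => ?_⟩
  show θ S R A E (G X) = _
  rw [matHom_apply, map_sum]
  refine Finset.sum_congr rfl fun i _ => ?_
  rw [map_sum]
  refine Finset.sum_congr rfl fun j _ => ?_
  rw [Algebra.smul_def, map_mul, θ_algebraMap, AlgEquiv.apply_symm_apply]

/-- the elements of `E ⊗ R` are central in `E ⊗ A` -/
theorem iotaE_central (c : E ⊗[S] R) (y : E ⊗[S] A) :
    iotaE S R A E c * y = y * iotaE S R A E c := by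
  induction c using TensorProduct.induction_on with
  | zero => simp
  | add c d hc hd => rw [map_add, add_mul, mul_add, hc, hd]
  | tmul e r => rw [iotaE_tmul, central_tmul]

variable (lam : R ≃ₐ[S] R) (t : AzInv.LamInv R A lam)

/-- the involution corresponds to the `lam`-transpose under the inverse of the splitting -/
theorem bc_formula (n : ℕ) (e : Fin n → Fin n → E ⊗[S] A)
    (het : ∀ i j, t.bc S lam E (e i j) = e j i)
    (X : Matrix (Fin n) (Fin n) (E ⊗[S] R)) :
    t.bc S lam E (∑ i, ∑ j, iotaE S R A E (X i j) * e i j) =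
      ∑ i, ∑ j, iotaE S R A E
        (Algebra.TensorProduct.congr (AlgEquiv.refl : E ≃ₐ[S] E) lam (X j i)) * e i j := by
  rw [map_sum, Finset.sum_comm]
  refine Finset.sum_congr rfl fun i _ => ?_
  rw [map_sum]
  refine Finset.sum_congr rfl fun j _ => ?_
  rw [bc_mul, bc_iotaE, het, iotaE_central]

omit [Algebra R A] [IsScalarTower S R A] in
theorem smul_formula [Algebra R A] [IsScalarTower S R A] (n : ℕ) (e : Fin n → Fin n → E ⊗[S] A)
    (c : E ⊗[S] R) (X : Matrix (Fin n) (Fin n) (E ⊗[S] R)) :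
    iotaE S R A E c * (∑ i, ∑ j, iotaE S R A E (X i j) * e i j) =
      ∑ i, ∑ j, iotaE S R A E ((c • X) i j) * e i j := by
  rw [Finset.mul_sum]
  refine Finset.sum_congr rfl fun i _ => ?_
  rw [Finset.mul_sum]
  refine Finset.sum_congr rfl fun j _ => ?_
  rw [← mul_assoc, ← map_mul, Matrix.smul_apply, smul_eq_mul]

end iso

section two

attribute [local instance] Algebra.TensorProduct.rightAlgebra

variable {S : Type u} {R : Type v} [CommRing S] [CommRing R] [Algebra S R]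
  {A₁ : Type w} [Ring A₁] [Algebra S A₁] [Algebra R A₁] [IsScalarTower S R A₁]
  {A₂ : Type w'} [Ring A₂] [Algebra S A₂] [Algebra R A₂] [IsScalarTower S R A₂]
  (lam : R ≃ₐ[S] R) (t₁ : AzInv.LamInv R A₁ lam) (t₂ : AzInv.LamInv R A₂ lam)
  {E : Type*} [CommRing E] [Algebra S E]

/-- two Azumaya algebras with involution of the same degree with adapted matrix units over `E`
are isomorphic over `E` -/
theorem exists_iso_of_adapted (n : ℕ) (hn : 0 < n) (hA₁ : AzInv.IsAzumayaDeg R A₁ n)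
    (hA₂ : AzInv.IsAzumayaDeg R A₂ n)
    (e₁ : Fin n → Fin n → E ⊗[S] A₁) (he₁ : IsMatUnits e₁)
    (het₁ : ∀ i j, t₁.bc S lam E (e₁ i j) = e₁ j i)
    (e₂ : Fin n → Fin n → E ⊗[S] A₂) (he₂ : IsMatUnits e₂)
    (het₂ : ∀ i j, t₂.bc S lam E (e₂ i j) = e₂ j i) :
    ∃ f : E ⊗[S] A₁ ≃ₐ[E] E ⊗[S] A₂,
      (∀ (r : R) (x : E ⊗[S] A₁),
        f (((1 : E) ⊗ₜ[S] algebraMap R A₁ r) * x) = ((1 : E) ⊗ₜ[S] algebraMap R A₂ r) * f x) ∧
      ∀ x, f (t₁.bc S lam E x) = t₂.bc S lam E (f x) := by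
  obtain ⟨f₁, hf₁⟩ := exists_iso_with_formula n hn hA₁ e₁ he₁
  obtain ⟨f₂, hf₂⟩ := exists_iso_with_formula n hn hA₂ e₂ he₂
  refine ⟨f₁.trans f₂.symm, fun r x => ?_, fun x => ?_⟩
  · obtain ⟨X, rfl⟩ := f₁.symm.surjective x
    show f₂.symm (f₁ (((1 : E) ⊗ₜ[S] algebraMap R A₁ r) * f₁.symm X)) =
      ((1 : E) ⊗ₜ[S] algebraMap R A₂ r) * f₂.symm (f₁ (f₁.symm X))
    rw [AlgEquiv.apply_symm_apply, ← iotaE_tmul, ← iotaE_tmul, hf₁ X, smul_formula, ← hf₁,
      AlgEquiv.apply_symm_apply, hf₂ X, smul_formula, ← hf₂]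
  · obtain ⟨X, rfl⟩ := f₁.symm.surjective x
    show f₂.symm (f₁ (t₁.bc S lam E (f₁.symm X))) = t₂.bc S lam E (f₂.symm (f₁ (f₁.symm X)))
    rw [AlgEquiv.apply_symm_apply, hf₁ X, bc_formula lam t₁ n e₁ het₁, hf₂ X,
      bc_formula lam t₂ n e₂ het₂]
    have h1 := hf₁ (Matrix.of fun i j =>
      Algebra.TensorProduct.congr (AlgEquiv.refl : E ≃ₐ[S] E) lam (X j i))
    have h2 := hf₂ (Matrix.of fun i j =>
      Algebra.TensorProduct.congr (AlgEquiv.refl : E ≃ₐ[S] E) lam (X j i))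
    simp only [Matrix.of_apply] at h1 h2
    rw [← h1, AlgEquiv.apply_symm_apply, h2]

/-- naturality of the base-changed involution in the algebra -/
theorem map_bc_right (g : A₁ →ₐ[S] A₂) (hg : ∀ a, g (t₁ a) = t₂ (g a)) (x : E ⊗[S] A₁) :
    Algebra.TensorProduct.map (AlgHom.id S E) g (t₁.bc S lam E x) =
      t₂.bc S lam E (Algebra.TensorProduct.map (AlgHom.id S E) g x) := by
  induction x using TensorProduct.induction_on with
  | zero => simp
  | add x y hx hy => rw [map_add, map_add, hx, hy, map_add, map_add]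
  | tmul e a =>
    rw [AzInv.LamInv.bc_tmul, Algebra.TensorProduct.map_tmul, Algebra.TensorProduct.map_tmul,
      AzInv.LamInv.bc_tmul, hg]

end two

end Groth.Agent.Lib.T2H2.AzInvIso
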