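import Mathlib
import Groth.Agent.Lib.Helper15QuadEtale

/-!
# The swap idempotent of a split quadratic etale algebra with involution

Let `S` be a strictly henselian local ring and `R` a commutative ring with an involution `lam`
with fixed ring `S`.  If some `r - lam r` is a unit, then `R` has an idempotent `e` with
`lam e = 1 - e`.
-/

namespace Groth.Agent.Lib.T2H2.QuadSwap

open Polynomial IsLocalRing Groth.Agent.Lib.Helper15.QuadEtale

universe u v

variable {S : Type u} {R : Type v} [CommRing S] [CommRing R] [Algebra S R]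
  (lam : R ≃+* R) (hlam : Function.Involutive lam) (hS : RInv.IsFixedRing S R lam)
  [HenselianLocalRing S] [IsSepClosed (ResidueField S)]

include hlam hS in
theorem exists_swap_idempotent (r : R) (hr : IsUnit (r - lam r)) :
    ∃ e : R, e * e = e ∧ lam e = 1 - e := by
  obtain ⟨t, ht⟩ := exists_trace lam hlam hS r
  obtain ⟨n, hn⟩ := exists_norm lam hlam hS r
  have hd : algebraMap S R (t ^ 2 - 4 * n) = (r - lam r) ^ 2 := by
    rw [map_sub, map_pow, map_mul, map_ofNat, ht, hn]
    ring
  have hdu : IsUnit (t ^ 2 - 4 * n) :=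
    isUnit_of_isUnit_algebraMap lam hS _ (hd ▸ hr.pow 2)
  have hfm : (X ^ 2 - (C t * X - C n) : S[X]).Monic := by
    apply monic_X_pow_sub
    refine lt_of_le_of_lt (degree_sub_le _ _) ?_
    rw [max_lt_iff]
    constructor
    · exact lt_of_le_of_lt (degree_C_mul_X_le t) (by norm_num)
    · exact lt_of_le_of_lt degree_C_le (by norm_num)
  have hnd : (X ^ 2 - (C t * X - C n) : S[X]).natDegree = 2 := by
    have h1 : (C t * X - C n : S[X]).natDegree < (X ^ 2 : S[X]).natDegree := by
      rw [natDegree_X_pow]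
      refine lt_of_le_of_lt (natDegree_sub_le _ _) ?_
      rw [max_lt_iff]
      constructor
      · exact lt_of_le_of_lt (natDegree_C_mul_le _ _) (by rw [natDegree_X]; norm_num)
      · rw [natDegree_C]; norm_num
    rw [natDegree_sub_eq_left_of_natDegree_lt h1, natDegree_X_pow]
  have hder : (X ^ 2 - (C t * X - C n) : S[X]).derivative = 2 * X - C t := by
    simp [derivative_sub, derivative_mul]
    ring
  have hid : (2 * X - C t : S[X]) * (2 * X - C t) - 4 * (X ^ 2 - (C t * X - C n)) =
      C (t ^ 2 - 4 * n) := by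
    rw [map_sub, map_pow, map_mul, map_ofNat]
    ring
  -- a root in the residue field
  let k := ResidueField S
  have hdk : residue S (t ^ 2 - 4 * n) ≠ 0 := by
    rw [ne_eq, residue_eq_zero_iff]
    exact fun h => (mem_maximalIdeal _).1 h hdu
  have hsep : ((X ^ 2 - (C t * X - C n) : S[X]).map (residue S)).Separable := by
    rw [Polynomial.separable_def, Polynomial.derivative_map, hder]
    have hidk := congrArg (Polynomial.map (residue S)) hid
    rw [Polynomial.map_sub, Polynomial.map_mul, Polynomial.map_mul, Polynomial.map_C,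
      Polynomial.map_ofNat] at hidk
    refine ⟨-(C (residue S (t ^ 2 - 4 * n))⁻¹ * 4),
      C (residue S (t ^ 2 - 4 * n))⁻¹ * (2 * X - C t : S[X]).map (residue S), ?_⟩
    have : C (residue S (t ^ 2 - 4 * n))⁻¹ * C (residue S (t ^ 2 - 4 * n)) = (1 : k[X]) := by
      rw [← C_mul, inv_mul_cancel₀ hdk, C_1]
    linear_combination (C (residue S (t ^ 2 - 4 * n))⁻¹ : k[X]) * hidk + this
  have hdeg : ((X ^ 2 - (C t * X - C n) : S[X]).map (residue S)).degree ≠ 0 := by
    apply degree_ne_of_natDegree_ne
    rw [hfm.natDegree_map, hnd]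
    norm_num
  obtain ⟨ρ, hρ⟩ := IsSepClosed.exists_root _ hdeg hsep
  obtain ⟨a₀, rfl⟩ := residue_surjective ρ
  have h₁ : (X ^ 2 - (C t * X - C n) : S[X]).eval a₀ ∈ maximalIdeal S := by
    rw [← residue_eq_zero_iff, ← Polynomial.eval₂_at_apply, ← Polynomial.eval_map]
    exact hρ
  have hid0 := congrArg (Polynomial.eval a₀) hid
  rw [eval_sub, eval_mul, eval_mul, eval_C] at hid0
  have h₂ : IsUnit ((X ^ 2 - (C t * X - C n) : S[X]).derivative.eval a₀) := by
    rw [hder]
    by_contra hnu
    have hm : (2 * X - C t : S[X]).eval a₀ ∈ maximalIdeal S := (mem_maximalIdeal _).2 hnu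
    have : t ^ 2 - 4 * n ∈ maximalIdeal S := by
      rw [← hid0]
      exact Ideal.sub_mem _ (Ideal.mul_mem_left _ _ hm) (Ideal.mul_mem_left _ _ h₁)
    exact (mem_maximalIdeal _).1 this hdu
  obtain ⟨a, ha, -⟩ := HenselianLocalRing.is_henselian _ hfm a₀ h₁ h₂
  have ha' : a ^ 2 - (t * a - n) = 0 := by
    simpa [Polynomial.IsRoot] using ha
  have hdisc : (t - 2 * a) ^ 2 = t ^ 2 - 4 * n := by
    linear_combination 4 * ha'
  have hu : IsUnit (t - 2 * a) := by
    have : IsUnit ((t - 2 * a) ^ 2) := hdisc ▸ hdu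
    exact (isUnit_pow_iff (by norm_num)).1 this
  obtain ⟨d', hd'⟩ := hu.exists_left_inv
  have hq : r ^ 2 - algebraMap S R t * r + algebraMap S R n = 0 := by
    rw [ht, hn]; ring
  have ha'' : algebraMap S R a ^ 2 - (algebraMap S R t * algebraMap S R a - algebraMap S R n) = 0 := by
    rw [← map_pow, ← map_mul, ← map_sub, ← map_sub, ha', map_zero]
  have hd'' : algebraMap S R d' * (algebraMap S R t - 2 * algebraMap S R a) = 1 := by
    have := congrArg (algebraMap S R) hd'
    rw [map_mul, map_sub, map_mul, map_ofNat, map_one] at this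
    exact this
  refine ⟨algebraMap S R d' * (r - algebraMap S R a), ?_, ?_⟩
  · linear_combination (algebraMap S R d') ^ 2 * hq - (algebraMap S R d') ^ 2 * ha'' +
      (algebraMap S R d') * (r - algebraMap S R a) * hd''
  · rw [map_mul, map_sub, lam_algebraMap lam hS, lam_algebraMap lam hS]
    have hlr : lam r = algebraMap S R t - r := by rw [ht]; ring
    rw [hlr]
    linear_combination hd''

end Groth.Agent.Lib.T2H2.QuadSwap
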