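import Mathlib
import Groth.Agent.Lib.T2H2AzInvUnitary
import Groth.Agent.Lib.T2H2QuadSwap
import Groth.Agent.S15574

/-!
# Involutions of Azumaya algebras over a quadratic etale extension

Let `R` be a quadratic etale `S`-algebra with involution `lam` with fixed ring `S`, and `(A, t)`
an Azumaya `R`-algebra of degree `n` with a `lam`-involution.  Etale-locally on `S` the algebra
`A` has a full system of matrix units `e i j` with `t (e i j) = e j i`.
-/

namespace Groth.Agent.Lib.T2H2.AzInvQuad

open scoped TensorProduct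
open Groth.Agent.Lib.T2H2.MatUnits Groth.Agent.Lib.T2H2.AzInvSplit
  Groth.Agent.Lib.T2H2.AzInvInner Groth.Agent.Lib.T2H2.AzInvUnitary

universe u v w

section adapt

variable {Γ : Type*} [Ring Γ] (τ : Γ → Γ) (hadd : ∀ x y, τ (x + y) = τ x + τ y)
  (hmul : ∀ x y, τ (x * y) = τ y * τ x) (hinv : ∀ x, τ (τ x) = x) (hone : τ 1 = 1)
  (p : Γ) (hp : p * p = p) (hpc : ∀ y, p * y = y * p) (hτp : τ p = 1 - p)

include hadd hmul hinv hone hp hpc hτp in
/-- matrix units adapted to an anti-involution exchanging a central idempotent with its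
complement -/
theorem isMatUnits_adapt {n : ℕ} (ε : Fin n → Fin n → Γ) (hε : IsMatUnits ε) :
    IsMatUnits (fun i j => p * ε i j + (1 - p) * τ (ε j i)) ∧
      ∀ i j, τ (p * ε i j + (1 - p) * τ (ε j i)) = p * ε j i + (1 - p) * τ (ε i j) := by
  have hzero : τ 0 = 0 := by
    have := hadd 0 0
    rw [add_zero] at this
    exact left_eq_add.mp this
  have hq : (1 - p) * (1 - p) = 1 - p := by
    rw [mul_sub, sub_mul, sub_mul, hp]; simp
  have hpq : p * (1 - p) = 0 := by rw [mul_sub, hp, mul_one, sub_self]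
  have hqp : (1 - p) * p = 0 := by rw [sub_mul, hp, one_mul, sub_self]
  have hqc : ∀ y, (1 - p) * y = y * (1 - p) := by
    intro y
    rw [sub_mul, mul_sub, hpc, one_mul, mul_one]
  have hτq : τ (1 - p) = p := by
    have h1 : τ (1 - p) + τ p = 1 := by rw [← hadd, sub_add_cancel, hone]
    rw [hτp] at h1
    have : τ (1 - p) = 1 - (1 - p) := eq_sub_of_add_eq h1
    rw [this, sub_sub_cancel]
  have hsum : ∀ (s : Finset (Fin n)) (f : Fin n → Γ), τ (∑ i ∈ s, f i) = ∑ i ∈ s, τ (f i) := by
    intro s f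
    classical
    induction s using Finset.induction_on with
    | empty => simp [hzero]
    | insert a s ha ih => rw [Finset.sum_insert ha, Finset.sum_insert ha, hadd, ih]
  refine ⟨⟨fun i j k l => ?_, ?_⟩, fun i j => ?_⟩
  · have h1 : (p * ε i j + (1 - p) * τ (ε j i)) * (p * ε k l + (1 - p) * τ (ε l k)) =
        p * (ε i j * ε k l) + (1 - p) * (τ (ε j i) * τ (ε l k)) := by
      have e1 : p * ε i j * (p * ε k l) = p * (ε i j * ε k l) := by
        rw [mul_assoc, ← mul_assoc (ε i j), ← hpc, mul_assoc, ← mul_assoc, hp]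
      have e2 : p * ε i j * ((1 - p) * τ (ε l k)) = 0 := by
        rw [mul_assoc, ← mul_assoc (ε i j), ← hqc, mul_assoc, ← mul_assoc, hpq, zero_mul]
      have e3 : (1 - p) * τ (ε j i) * (p * ε k l) = 0 := by
        rw [mul_assoc, ← mul_assoc (τ (ε j i)), ← hpc, mul_assoc, ← mul_assoc, hqp, zero_mul]
      have e4 : (1 - p) * τ (ε j i) * ((1 - p) * τ (ε l k)) =
          (1 - p) * (τ (ε j i) * τ (ε l k)) := by
        rw [mul_assoc, ← mul_assoc (τ (ε j i)), ← hqc, mul_assoc, ← mul_assoc, hq]
      rw [add_mul, mul_add, mul_add, e1, e2, e3, e4, add_zero, zero_add]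
    rw [h1, ← hmul, hε.1, hε.1]
    by_cases hjk : j = k
    · subst hjk
      simp
    · rw [if_neg hjk, if_neg (fun h => hjk h.symm), if_neg hjk, hzero, mul_zero, mul_zero,
        add_zero]
  · rw [Finset.sum_add_distrib, ← Finset.mul_sum, ← Finset.mul_sum, ← hsum, hε.2, hone, mul_one,
      mul_one, add_sub_cancel]
  · rw [hadd, hmul, hmul, hinv, hτp, hτq, ← hqc, ← hpc, add_comm]

end adapt

section blevel

attribute [local instance] Algebra.TensorProduct.rightAlgebra

variable {S : Type u} {R : Type v} [CommRing S] [CommRing R] [Algebra S R]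
  (lam : R ≃ₐ[S] R) (hlam : ∀ r, lam (lam r) = r) (hfix : RInv.IsFixedRing S R lam.toRingEquiv)
  {A : Type w} [Ring A] [Algebra S A] [Algebra R A] [IsScalarTower S R A]
  (t : AzInv.LamInv R A lam)

/-- base change of a quadratic etale algebra -/
theorem isQuadEtale_baseChange (hq : RInv.IsQuadEtale S R) (B : Type*) [CommRing B]
    [Algebra S B] : RInv.IsQuadEtale B (B ⊗[S] R) := by
  obtain ⟨h1, h2, h3, h4⟩ := hq
  refine ⟨inferInstance, inferInstance, inferInstance, fun p => ?_⟩
  rw [Module.rankAtStalk_baseChange, h4]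

omit [IsScalarTower S R A] in
/-- the elements of `E ⊗ R` are central in `E ⊗ A` -/
theorem iotaE_central [IsScalarTower S R A] (E : Type*) [CommRing E] [Algebra S E]
    (c : E ⊗[S] R) (y : E ⊗[S] A) :
    iotaE S R A E c * y = y * iotaE S R A E c := by
  induction c using TensorProduct.induction_on with
  | zero => simp
  | add c d hc hd => rw [map_add, add_mul, mul_add, hc, hd]
  | tmul e r => rw [iotaE_tmul, central_tmul]

include hlam hfix in
/-- over a strictly henselian local flat `S`-algebra `B`, with `R` quadratic etale over `S`, the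
algebra `B ⊗_S A` has a full system of matrix units adapted to the involution -/
theorem exists_adapted_of_strictHenselian (hq : RInv.IsQuadEtale S R) (B : Type u) [CommRing B]
    [HenselianLocalRing B] [IsSepClosed (IsLocalRing.ResidueField B)] [Algebra S B]
    [Module.Flat S B] (n : ℕ) (hA : AzInv.IsAzumayaDeg R A n) :
    ∃ e : Fin n → Fin n → B ⊗[S] A, IsMatUnits e ∧
      ∀ i j, t.bc S lam B (e i j) = e j i := by
  have hfixB := Groth.Agent.S15586.result S R B lam (fun r => hlam r) hfix (Or.inl inferInstance)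
  have hinvB := involutive_congr lam hlam B
  have hqB := isQuadEtale_baseChange hq B
  obtain ⟨r, hr⟩ := Groth.Agent.S15574.result B (B ⊗[S] R) _ hinvB hfixB hqB
  obtain ⟨e₀, he₀, hle₀⟩ := Groth.Agent.Lib.T2H2.QuadSwap.exists_swap_idempotent _ hinvB hfixB r hr
  obtain ⟨ε, hε⟩ := exists_isMatUnits_of_strictHenselian lam hlam hfix A B n hA
  have hτp : t.bc S lam B (iotaE S R A B e₀) = 1 - iotaE S R A B e₀ := by
    rw [bc_iotaE]
    have : Algebra.TensorProduct.congr (AlgEquiv.refl : B ≃ₐ[S] B) lam e₀ = 1 - e₀ := hle₀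
    rw [this, map_sub, map_one]
  obtain ⟨h1, h2⟩ := isMatUnits_adapt (t.bc S lam B) (fun x y => map_add _ x y)
    (bc_mul lam t B) (bc_bc lam t B) (bc_one lam t B) (iotaE S R A B e₀)
    (by rw [← map_mul, he₀]) (iotaE_central B e₀) hτp ε hε
  exact ⟨_, h1, h2⟩

end blevel

section spread

open Groth.Agent.Lib.Helper3.IndEt Groth.Agent.Lib.T2H2.EtLoc

variable {S : Type u} {R : Type v} [CommRing S] [CommRing R] [Algebra S R]
  (lam : R ≃ₐ[S] R)
  {A : Type w} [Ring A] [Algebra S A] [Algebra R A] [IsScalarTower S R A]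
  (t : AzInv.LamInv R A lam)

/-- adapted matrix units over a local ind-etale algebra descend to an etale stage -/
theorem exists_etale_adapted (B : Type u) [CommRing B] [IsLocalRing B] [Algebra S B]
    (H : Obj.Factor S B) (n : ℕ) (e : Fin n → Fin n → B ⊗[S] A) (he : IsMatUnits e)
    (het : ∀ i j, t.bc S lam B (e i j) = e j i) :
    ∃ (E : Type u) (_ : CommRing E) (_ : Algebra S E) (_ : Algebra.Etale S E)
      (_ : E →ₐ[S] B) (e' : Fin n → Fin n → E ⊗[S] A), IsMatUnits e' ∧
        ∀ i j, t.bc S lam E (e' i j) = e' j i := by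
  classical
  obtain ⟨E₀, _, _, _, g₀, hg₀⟩ := exists_lift_finite A H
    (fun x : Fin n × Fin n => e x.1 x.2)
  choose e₀ he₀ using hg₀
  simp only [rTensor_eq_map] at he₀
  let z : Option ((Fin n × Fin n) × (Fin n × Fin n)) ⊕ (Fin n × Fin n) → E₀ ⊗[S] A := fun x =>
    match x with
    | Sum.inl none => ∑ i, e₀ (i, i) - 1
    | Sum.inl (some ((i, j), (k, l))) =>
      e₀ (i, j) * e₀ (k, l) - (if j = k then e₀ (i, l) else 0)
    | Sum.inr (i, j) => t.bc S lam E₀ (e₀ (i, j)) - e₀ (j, i)
  have hz : ∀ x, LinearMap.rTensor A g₀.toLinearMap (z x) = 0 := by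
    intro x
    rw [rTensor_eq_map]
    match x with
    | Sum.inl none =>
      show Algebra.TensorProduct.map g₀ (AlgHom.id S A) (∑ i, e₀ (i, i) - 1) = 0
      rw [map_sub, map_sum, map_one]
      simp_rw [he₀]
      rw [he.2, sub_self]
    | Sum.inl (some ((i, j), (k, l))) =>
      show Algebra.TensorProduct.map g₀ (AlgHom.id S A)
        (e₀ (i, j) * e₀ (k, l) - (if j = k then e₀ (i, l) else 0)) = 0
      rw [map_sub, map_mul, he₀, he₀, he.1]
      split_ifs
      · rw [he₀, sub_self]
      · rw [map_zero, sub_self]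
    | Sum.inr (i, j) =>
      show Algebra.TensorProduct.map g₀ (AlgHom.id S A)
        (t.bc S lam E₀ (e₀ (i, j)) - e₀ (j, i)) = 0
      rw [map_sub, map_bc, he₀, he₀, het, sub_self]
  obtain ⟨E', _, _, _, h, g', -, hz'⟩ := exists_stage_eq_zero H g₀ A z hz
  simp only [rTensor_eq_map] at hz'
  refine ⟨E', inferInstance, inferInstance, inferInstance, g',
    fun i j => Algebra.TensorProduct.map h (AlgHom.id S A) (e₀ (i, j)),
    ⟨fun i j k l => ?_, ?_⟩, fun i j => ?_⟩
  · have := hz' (Sum.inl (some ((i, j), (k, l))))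
    change Algebra.TensorProduct.map h (AlgHom.id S A)
      (e₀ (i, j) * e₀ (k, l) - (if j = k then e₀ (i, l) else 0)) = 0 at this
    rw [map_sub, map_mul, sub_eq_zero] at this
    rw [this]
    split_ifs
    · rfl
    · rw [map_zero]
  · have := hz' (Sum.inl none)
    change Algebra.TensorProduct.map h (AlgHom.id S A) (∑ i, e₀ (i, i) - 1) = 0 at this
    rw [map_sub, map_sum, map_one, sub_eq_zero] at this
    exact this
  · have := hz' (Sum.inr (i, j))
    change Algebra.TensorProduct.map h (AlgHom.id S A)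
      (t.bc S lam E₀ (e₀ (i, j)) - e₀ (j, i)) = 0 at this
    rw [map_sub, map_bc, sub_eq_zero] at this
    exact this

end spread

section pi

variable {S : Type u} {R : Type v} [CommRing S] [CommRing R] [Algebra S R]
  (lam : R ≃ₐ[S] R)
  {A : Type w} [Ring A] [Algebra S A] [Algebra R A] [IsScalarTower S R A]
  (t : AzInv.LamInv R A lam)

theorem piLeft_bc {ι : Type*} [Fintype ι] [DecidableEq ι] (E : ι → Type*)
    [∀ i, CommRing (E i)] [∀ i, Algebra S (E i)] (x : (∀ i, E i) ⊗[S] A) (i : ι) :
    piLeft A E (t.bc S lam (∀ i, E i) x) i = t.bc S lam (E i) (piLeft A E x i) := by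
  induction x using TensorProduct.induction_on with
  | zero => simp
  | tmul e a =>
    rw [AzInv.LamInv.bc_tmul, piLeft_tmul, piLeft_tmul, AzInv.LamInv.bc_tmul]
  | add x y hx hy => rw [map_add, map_add, Pi.add_apply, hx, hy, map_add, Pi.add_apply, map_add]

/-- adapted matrix units over the factors give adapted matrix units over a finite product -/
theorem exists_adapted_pi {ι : Type*} [Finite ι] (E : ι → Type*)
    [∀ i, CommRing (E i)] [∀ i, Algebra S (E i)] (n : ℕ)
    (h : ∀ i, ∃ e : Fin n → Fin n → E i ⊗[S] A, IsMatUnits e ∧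
      ∀ a b, t.bc S lam (E i) (e a b) = e b a) :
    ∃ e : Fin n → Fin n → (∀ i, E i) ⊗[S] A, IsMatUnits e ∧
      ∀ a b, t.bc S lam (∀ i, E i) (e a b) = e b a := by
  classical
  have := Fintype.ofFinite ι
  choose e he het using h
  refine ⟨fun a b => (piLeft A E).symm (fun i => e i a b),
    (isMatUnits_pi (fun i => E i ⊗[S] A) e he).mapEquiv (piLeft A E).symm, fun a b => ?_⟩
  apply (piLeft A E).injective
  funext i
  rw [piLeft_bc, RingEquiv.apply_symm_apply, RingEquiv.apply_symm_apply, het]

end pi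

section main

open Groth.Agent.Lib.Helper3.IndEt Groth.Agent.Lib.T2H2.EtLoc IsLocalRing

variable {S : Type u} {R : Type v} [CommRing S] [CommRing R] [Algebra S R]
  (lam : R ≃ₐ[S] R) (hlam : ∀ r, lam (lam r) = r) (hfix : RInv.IsFixedRing S R lam.toRingEquiv)
  {A : Type w} [Ring A] [Algebra S A] [Algebra R A] [IsScalarTower S R A]
  (t : AzInv.LamInv R A lam)

include hlam hfix in
theorem exists_etale_adapted_at (hq : RInv.IsQuadEtale S R) (n : ℕ)
    (hA : AzInv.IsAzumayaDeg R A n) (p : PrimeSpectrum S) :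
    ∃ (E : Type u) (_ : CommRing E) (_ : Algebra S E) (_ : Algebra.Etale S E),
      p ∈ Set.range (PrimeSpectrum.comap (algebraMap S E)) ∧
        ∃ e : Fin n → Fin n → E ⊗[S] A, IsMatUnits e ∧
          ∀ a b, t.bc S lam E (e a b) = e b a := by
  obtain ⟨B, _, _, _, _, H, hp⟩ := exists_strictHenselization_atPrime S p
  have hflat : Module.Flat S B := flat_of_factor' H
  obtain ⟨e, he, het⟩ := exists_adapted_of_strictHenselian lam hlam hfix t hq B n hA
  obtain ⟨E, _, _, _, g, e', he'⟩ := exists_etale_adapted lam t B H n e he het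
  refine ⟨E, inferInstance, inferInstance, inferInstance,
    ⟨PrimeSpectrum.comap g.toRingHom (closedPoint B), ?_⟩, e', he'⟩
  apply PrimeSpectrum.ext
  show ((maximalIdeal B).comap g.toRingHom).comap (algebraMap S E) = p.asIdeal
  rw [Ideal.comap_comap, AlgHom.toRingHom_eq_coe, AlgHom.comp_algebraMap, hp]

include hlam hfix in
/-- with `R` quadratic etale over `S`, the algebra `A` has a full system of matrix units adapted
to the involution after an etale faithfully flat base change of `S` -/
theorem main (hq : RInv.IsQuadEtale S R) (n : ℕ) (hA : AzInv.IsAzumayaDeg R A n) :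
    ∃ (S' : Type u) (_ : CommRing S') (_ : Algebra S S') (_ : Algebra.Etale S S')
      (_ : Module.FaithfullyFlat S S') (e : Fin n → Fin n → S' ⊗[S] A), IsMatUnits e ∧
        ∀ a b, t.bc S lam S' (e a b) = e b a := by
  choose 𝓔 i1 i2 i3 hr he using exists_etale_adapted_at lam hlam hfix t hq n hA
  obtain ⟨T, hT⟩ := exists_finite_etale_cover S 𝓔 hr
  exact ⟨∀ i : T, 𝓔 i, inferInstance, inferInstance, inferInstance, hT,
    exists_adapted_pi lam t (fun i : T => 𝓔 i) n (fun i => he i)⟩

end main

end Groth.Agent.Lib.T2H2.AzInvQuad
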