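import Mathlib
import Groth.Agent.Lib.T2H2MatUnits

set_option autoImplicit false
set_option linter.unusedSectionVars false

namespace Groth.Agent.Lib.T2H2.HermInv

open Matrix Groth.Agent.Lib.T2H2.MatUnits

universe u

variable {C : Type u} [CommRing C] [StarRing C] {n : ℕ}

/-- A semilinear anti-involution of a matrix algebra of odd size over a commutative ring with
involution is, if automorphisms are inner and hermitian forms diagonalisable, diagonal in a
suitable system of matrix units. -/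
theorem exists_matUnits_of_antiInvolution (hn : Odd n)
    (τ : Matrix (Fin n) (Fin n) C → Matrix (Fin n) (Fin n) C)
    (hadd : ∀ X Y, τ (X + Y) = τ X + τ Y) (hmul : ∀ X Y, τ (X * Y) = τ Y * τ X)
    (hinv : ∀ X, τ (τ X) = X) (hsmul : ∀ (c : C) X, τ (c • X) = star c • τ X)
    (HI : ∀ σ : Matrix (Fin n) (Fin n) C ≃ₐ[C] Matrix (Fin n) (Fin n) C,
      ∃ v v' : Matrix (Fin n) (Fin n) C, v * v' = 1 ∧ v' * v = 1 ∧ ∀ X, σ X * v = v * X)
    (HD : ∀ w : Matrix (Fin n) (Fin n) C, IsUnit w → wᴴ = w →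
      ∃ v₀ : Matrix (Fin n) (Fin n) C, IsUnit v₀ ∧ ∃ d : Fin n → C, v₀ᴴ * w * v₀ = diagonal d) :
    ∃ (e : Fin n → Fin n → Matrix (Fin n) (Fin n) C) (d d' : Fin n → C), IsMatUnits e ∧
      (∀ i, star (d i) = d i) ∧ (∀ i, d i * d' i = 1) ∧
      ∀ i j, τ (e i j) = (d j * d' i) • e j i := by
  classical
  -- τ 1 = 1
  have hone : τ 1 = 1 := by
    calc τ 1 = τ 1 * τ (τ 1) := by rw [hinv, Matrix.mul_one]
      _ = τ (τ 1 * 1) := (hmul _ _).symm
      _ = 1 := by rw [Matrix.mul_one, hinv]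
  -- the automorphism
  let σ : Matrix (Fin n) (Fin n) C ≃ₐ[C] Matrix (Fin n) (Fin n) C :=
    { toFun := fun X => τ Xᴴ
      invFun := fun X => (τ X)ᴴ
      left_inv := fun X => by
        show (τ (τ Xᴴ))ᴴ = X
        rw [hinv, conjTranspose_conjTranspose]
      right_inv := fun X => by
        show τ ((τ X)ᴴᴴ) = X
        rw [conjTranspose_conjTranspose, hinv]
      map_mul' := fun X Y => by
        show τ (X * Y)ᴴ = τ Xᴴ * τ Yᴴ
        rw [conjTranspose_mul, hmul]
      map_add' := fun X Y => by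
        show τ (X + Y)ᴴ = τ Xᴴ + τ Yᴴ
        rw [conjTranspose_add, hadd]
      commutes' := fun c => by
        show τ (algebraMap C (Matrix (Fin n) (Fin n) C) c)ᴴ = algebraMap C _ c
        rw [Algebra.algebraMap_eq_smul_one, conjTranspose_smul, conjTranspose_one, hsmul,
          star_star, hone] }
  obtain ⟨v, v', hvv', hv'v, hσ⟩ := HI σ
  have hτv : ∀ Y, τ Y * v = v * Yᴴ := by
    intro Y
    have := hσ Yᴴ
    rw [show σ Yᴴ = τ Yᴴᴴ from rfl, conjTranspose_conjTranspose] at this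
    exact this
  have hv'H : v'ᴴ * vᴴ = 1 := by rw [← conjTranspose_mul, hvv', conjTranspose_one]
  have hvH' : vᴴ * v'ᴴ = 1 := by rw [← conjTranspose_mul, hv'v, conjTranspose_one]
  -- the central element
  have hz : ∀ Y, Y * (v * v'ᴴ) = (v * v'ᴴ) * Y := by
    intro Y
    have h1 : Y * v = v * (τ Y)ᴴ := by
      have := hτv (τ Y)
      rw [hinv] at this
      exact this
    have h2 : vᴴ * (τ Y)ᴴ = Y * vᴴ := by
      have := congrArg conjTranspose (hτv Y)
      rw [conjTranspose_mul, conjTranspose_mul, conjTranspose_conjTranspose] at this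
      exact this
    calc Y * (v * v'ᴴ) = (Y * v) * v'ᴴ := by rw [Matrix.mul_assoc]
      _ = v * (τ Y)ᴴ * v'ᴴ := by rw [h1]
      _ = v * (v'ᴴ * vᴴ) * (τ Y)ᴴ * v'ᴴ := by rw [hv'H, Matrix.mul_one]
      _ = v * v'ᴴ * (vᴴ * (τ Y)ᴴ) * v'ᴴ := by simp only [Matrix.mul_assoc]
      _ = v * v'ᴴ * (Y * vᴴ) * v'ᴴ := by rw [h2]
      _ = v * v'ᴴ * Y * (vᴴ * v'ᴴ) := by simp only [Matrix.mul_assoc]
      _ = v * v'ᴴ * Y := by rw [hvH', Matrix.mul_one]
  obtain ⟨c, hc⟩ : v * v'ᴴ ∈ Set.range (Matrix.scalar (Fin n)) :=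
    mem_range_scalar_iff_commute_single'.mpr fun i j => hz _
  have hvc : v = c • vᴴ := by
    calc v = v * (v'ᴴ * vᴴ) := by rw [hv'H, Matrix.mul_one]
      _ = (v * v'ᴴ) * vᴴ := by rw [Matrix.mul_assoc]
      _ = c • vᴴ := by rw [← hc, Matrix.scalar_apply, ← Matrix.smul_one_eq_diagonal,
          Matrix.smul_mul, Matrix.one_mul]
  have hvHc : vᴴ = star c • v := by
    have := congrArg conjTranspose hvc
    rw [conjTranspose_smul, conjTranspose_conjTranspose] at this
    exact this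
  obtain ⟨m, hm⟩ := hn
  have hn0 : 0 < n := by omega
  have hcc : c * star c = 1 := by
    have h1 : v = (c * star c) • v := by
      conv_lhs => rw [hvc, hvHc, smul_smul]
    have h2 : (1 : Matrix (Fin n) (Fin n) C) = (c * star c) • 1 := by
      calc (1 : Matrix (Fin n) (Fin n) C) = v * v' := hvv'.symm
        _ = ((c * star c) • v) * v' := by rw [← h1]
        _ = (c * star c) • 1 := by rw [Matrix.smul_mul, hvv']
    have h3 := congrFun (congrFun h2 ⟨0, hn0⟩) ⟨0, hn0⟩
    rw [Matrix.smul_apply, Matrix.one_apply_eq, smul_eq_mul, mul_one] at h3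
    exact h3.symm
  -- determinants
  have hδ : v.det = c ^ n * star v.det := by
    conv_lhs => rw [hvc]
    rw [det_smul, det_conjTranspose, Fintype.card_fin]
  have hδδ' : v.det * v'.det = 1 := by rw [← det_mul, hvv', det_one]
  have hsδδ' : star v.det * star v'.det = 1 := by rw [← star_mul', hδδ', star_one]
  set δ := v.det with hδdef
  set δ' := v'.det with hδ'def
  -- the scalar
  let s : C := c ^ m * δ'
  let s' : C := star c ^ m * δ
  have hss' : s * s' = 1 := by
    calc s * s' = (c * star c) ^ m * (δ * δ') := by simp only [s, s']; ring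
      _ = 1 := by rw [hcc, hδδ', one_pow, one_mul]
  have hstars : star s * star c = s := by
    have he : (star c * c) ^ (m + 1) = 1 := by rw [mul_comm, hcc, one_pow]
    calc star s * star c = star c ^ (m + 1) * star δ' := by
          simp only [s, star_mul', star_pow]; ring
      _ = star c ^ (m + 1) * star δ' * (δ * δ') := by rw [hδδ', mul_one]
      _ = star c ^ (m + 1) * star δ' * (c ^ n * star δ * δ') := by rw [← hδ]
      _ = (star c * c) ^ (m + 1) * c ^ m * (star δ * star δ') * δ' := by rw [hm]; ring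
      _ = c ^ m * δ' := by rw [he, hsδδ']; ring
  -- the hermitian matrix
  let w : Matrix (Fin n) (Fin n) C := s • v
  let w' : Matrix (Fin n) (Fin n) C := s' • v'
  have hww' : w * w' = 1 := by
    simp only [w, w']
    rw [Matrix.smul_mul, Matrix.mul_smul, smul_smul, hvv', hss', one_smul]
  have hw'w : w' * w = 1 := by
    simp only [w, w']
    rw [Matrix.smul_mul, Matrix.mul_smul, smul_smul, hv'v, mul_comm s' s, hss', one_smul]
  have hwH : wᴴ = w := by
    simp only [w]
    rw [conjTranspose_smul, hvHc, smul_smul, hstars]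
  have hτw : ∀ Y, τ Y * w = w * Yᴴ := by
    intro Y
    simp only [w]
    rw [Matrix.mul_smul, hτv, Matrix.smul_mul]
  have hwu : IsUnit w := ⟨⟨w, w', hww', hw'w⟩, rfl⟩
  obtain ⟨v₀, hv₀, d, hd⟩ := HD w hwu hwH
  have hv₀u : IsUnit v₀ := hv₀
  obtain ⟨u₀, hvu, huv⟩ : ∃ u₀, v₀ * u₀ = 1 ∧ u₀ * v₀ = 1 := by
    obtain ⟨⟨_, u₀, h1, h2⟩, rfl⟩ := hv₀
    exact ⟨u₀, h1, h2⟩
  have hu0H : u₀ᴴ * v₀ᴴ = 1 := by rw [← conjTranspose_mul, hvu, conjTranspose_one]
  have hv0H : v₀ᴴ * u₀ᴴ = 1 := by rw [← conjTranspose_mul, huv, conjTranspose_one]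
  have hwD : w = u₀ᴴ * diagonal d * u₀ := by
    rw [← hd]
    calc w = (u₀ᴴ * v₀ᴴ) * w * (v₀ * u₀) := by rw [hu0H, hvu, Matrix.one_mul, Matrix.mul_one]
      _ = u₀ᴴ * (v₀ᴴ * w * v₀) * u₀ := by simp only [Matrix.mul_assoc]
  have hdstar : ∀ i, star (d i) = d i := by
    have h1 : (diagonal d)ᴴ = diagonal d := by
      rw [← hd, conjTranspose_mul, conjTranspose_mul, conjTranspose_conjTranspose, hwH,
        Matrix.mul_assoc]
    rw [diagonal_conjTranspose] at h1
    intro i
    exact congrFun (diagonal_injective h1) i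
  have hdu : ∀ i, IsUnit (d i) := by
    have h1 : IsUnit (diagonal d) := by
      rw [← hd]
      exact (((isUnit_conjTranspose v₀).mpr hv₀u).mul hwu).mul hv₀u
    rw [isUnit_diagonal, Pi.isUnit_iff] at h1
    exact h1
  choose d' hd' using fun i => (hdu i).exists_right_inv
  refine ⟨fun i j => u₀ᴴ * single i j 1 * v₀ᴴ, d, d', ⟨?_, ?_⟩, hdstar, hd', ?_⟩
  · intro i j k l
    have h1 : u₀ᴴ * single i j 1 * v₀ᴴ * (u₀ᴴ * single k l 1 * v₀ᴴ)
        = u₀ᴴ * (single i j 1 * single k l 1) * v₀ᴴ := by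
      calc u₀ᴴ * single i j 1 * v₀ᴴ * (u₀ᴴ * single k l 1 * v₀ᴴ)
          = u₀ᴴ * single i j 1 * (v₀ᴴ * u₀ᴴ) * single k l 1 * v₀ᴴ := by
            simp only [Matrix.mul_assoc]
        _ = u₀ᴴ * (single i j 1 * single k l 1) * v₀ᴴ := by
            rw [hv0H, Matrix.mul_one]; simp only [Matrix.mul_assoc]
    rw [h1, (isMatUnits_single C n).1]
    split_ifs
    · rfl
    · rw [Matrix.mul_zero, Matrix.zero_mul]
  · rw [← Finset.sum_mul, ← Finset.mul_sum, (isMatUnits_single C n).2, Matrix.mul_one, hu0H]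
  · intro i j
    have hcancel : ∀ X Y : Matrix (Fin n) (Fin n) C, X * w = Y * w → X = Y := by
      intro X Y h
      calc X = X * w * w' := by rw [Matrix.mul_assoc, hww', Matrix.mul_one]
        _ = Y * w * w' := by rw [h]
        _ = Y := by rw [Matrix.mul_assoc, hww', Matrix.mul_one]
    apply hcancel
    rw [hτw]
    have h1 : (u₀ᴴ * single i j 1 * v₀ᴴ)ᴴ = v₀ * single j i 1 * u₀ := by
      rw [conjTranspose_mul, conjTranspose_mul, conjTranspose_conjTranspose,
        conjTranspose_conjTranspose, conjTranspose_single, star_one, Matrix.mul_assoc]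
    rw [h1, hwD]
    have h2 : u₀ᴴ * diagonal d * u₀ * (v₀ * single j i 1 * u₀)
        = u₀ᴴ * (diagonal d * single j i 1) * u₀ := by
      calc u₀ᴴ * diagonal d * u₀ * (v₀ * single j i 1 * u₀)
          = u₀ᴴ * diagonal d * (u₀ * v₀) * single j i 1 * u₀ := by simp only [Matrix.mul_assoc]
        _ = u₀ᴴ * (diagonal d * single j i 1) * u₀ := by
            rw [huv, Matrix.mul_one]; simp only [Matrix.mul_assoc]
    have h3 : (d j * d' i) • (u₀ᴴ * single j i 1 * v₀ᴴ) * (u₀ᴴ * diagonal d * u₀)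
        = u₀ᴴ * ((d j * d' i) • (single j i 1 * diagonal d)) * u₀ := by
      rw [Matrix.smul_mul]
      calc (d j * d' i) • (u₀ᴴ * single j i 1 * v₀ᴴ * (u₀ᴴ * diagonal d * u₀))
          = (d j * d' i) • (u₀ᴴ * single j i 1 * (v₀ᴴ * u₀ᴴ) * diagonal d * u₀) := by
            simp only [Matrix.mul_assoc]
        _ = u₀ᴴ * ((d j * d' i) • (single j i 1 * diagonal d)) * u₀ := by
            rw [hv0H, Matrix.mul_one]
            simp only [Matrix.mul_assoc, Matrix.mul_smul, Matrix.smul_mul]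
    rw [h2, h3]
    congr 2
    ext a b
    rw [Matrix.diagonal_mul, Matrix.smul_apply, Matrix.mul_diagonal, Matrix.single_apply]
    split_ifs with hab
    · obtain ⟨rfl, rfl⟩ := hab
      rw [smul_eq_mul, mul_one, one_mul, mul_assoc, mul_comm (d' _), hd', mul_one]
    · simp

end Groth.Agent.Lib.T2H2.HermInv
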