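import Mathlib

/-!
Diagonalisation of `ε`-hermitian forms over a commutative ring with involution whose symmetric and
antisymmetric non-units lie in the Jacobson radical (e.g. the fixed ring is local).
-/

set_option autoImplicit false
set_option linter.unusedSectionVars false

namespace Groth.Agent.Lib.T2H2.HermDiag

open Matrix

universe u w w'

section Alt

variable {R : Type*} [CommRing R] {ι : Type*} [Fintype ι] [DecidableEq ι]

/-- the determinant of an alternating matrix of odd size is zero. -/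
theorem det_eq_zero_of_alt (M : Matrix ι ι R) (h0 : ∀ i, M i i = 0)
    (hs : ∀ i j, M i j = - M j i) (hodd : Odd (Fintype.card ι)) : M.det = 0 := by
  rw [Matrix.det_apply]
  refine Finset.sum_involution (fun σ _ => σ⁻¹) ?_ ?_ ?_ ?_
  · intro σ _
    have h1 : ∏ i, M (σ⁻¹ i) i = ∏ i, M i (σ i) := by
      rw [← Equiv.prod_comp σ]
      simp
    have h2 : ∏ i, M i (σ i) = - ∏ i, M (σ i) i := by
      calc ∏ i, M i (σ i) = ∏ i, (-1) * M (σ i) i := by
            refine Finset.prod_congr rfl fun i _ => ?_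
            rw [hs]; ring
        _ = (-1) ^ (Fintype.card ι) * ∏ i, M (σ i) i := by
            rw [Finset.prod_mul_distrib, Finset.prod_const, Finset.card_univ]
        _ = - ∏ i, M (σ i) i := by rw [hodd.neg_one_pow]; ring
    rw [Equiv.Perm.sign_inv, h1, h2]
    simp
  · intro σ _ hne hinv
    have hfix : ∃ a, σ a = a := by
      have : Fact (Nat.Prime 2) := ⟨Nat.prime_two⟩
      refine Equiv.Perm.exists_fixed_point_of_prime (p := 2) (n := 1) ?_ ?_
      · intro h2
        exact (Nat.not_even_iff_odd.mpr hodd) (even_iff_two_dvd.mpr h2)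
      · rw [pow_one, pow_two]
        calc σ * σ = σ⁻¹ * σ := by rw [hinv]
          _ = 1 := inv_mul_cancel σ
    obtain ⟨a, ha⟩ := hfix
    apply hne
    have : ∏ i, M (σ i) i = 0 := by
      refine Finset.prod_eq_zero (Finset.mem_univ a) ?_
      rw [ha, h0]
    rw [this, smul_zero]
  · intro σ _; exact Finset.mem_univ _
  · intro σ _; exact inv_inv σ

end Alt

section Jac

variable {A : Type u} [CommRing A]

theorem isUnit_add_of_mem_jacobson {a x : A} (ha : IsUnit a) (hx : x ∈ Ring.jacobson A) :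
    IsUnit (a + x) := by
  obtain ⟨a', ha'⟩ := ha.exists_right_inv
  rw [← Ideal.jacobson_bot, Ideal.mem_jacobson_bot] at hx
  have h1 := hx a'
  have h2 : a + x = a * (x * a' + 1) := by
    calc a + x = a + x * (a * a') := by rw [ha', mul_one]
      _ = a * (x * a' + 1) := by ring
  rw [h2]
  exact ha.mul h1

theorem star_mem_jacobson [StarRing A] {x : A} (hx : x ∈ Ring.jacobson A) :
    star x ∈ Ring.jacobson A := by
  rw [← Ideal.jacobson_bot, Ideal.mem_jacobson_bot] at hx ⊢
  intro y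
  have h1 := hx (star y)
  have h2 : star x * y + 1 = star (x * star y + 1) := by
    simp [mul_comm]
  rw [h2]
  exact h1.star

theorem jacobson_ne_top [Nontrivial A] : Ring.jacobson A ≠ ⊤ := by
  rw [← Ideal.jacobson_bot, Ne, Ideal.jacobson_eq_top_iff]
  exact bot_ne_top

end Jac

section Star

variable {A : Type u} [CommRing A] [StarRing A]
variable {ι : Type w} [Fintype ι] [DecidableEq ι]

/-- `h` is `ε`-hermitian. -/
def Herm (ε : A) (h : Matrix ι ι A) : Prop := ε • hᴴ = h

/-- congruence of matrices. -/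
def Cong (h h' : Matrix ι ι A) : Prop := ∃ v : Matrix ι ι A, IsUnit v ∧ vᴴ * h * v = h'

/-- congruent to a diagonal matrix. -/
def Diag (h : Matrix ι ι A) : Prop :=
  ∃ v : Matrix ι ι A, IsUnit v ∧ ∃ d : ι → A, vᴴ * h * v = diagonal d

/-- some congruent matrix has a unit on the diagonal. -/
def Rep (h : Matrix ι ι A) : Prop :=
  ∃ v : Matrix ι ι A, IsUnit v ∧ ∃ i, IsUnit ((vᴴ * h * v) i i)

theorem star_eps {ε : A} (hε : ε = 1 ∨ ε = -1) : star ε = ε := by
  rcases hε with rfl | rfl <;> simp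

theorem eps_mul_eps {ε : A} (hε : ε = 1 ∨ ε = -1) : ε * ε = 1 := by
  rcases hε with rfl | rfl <;> simp

theorem Herm.cong {ε : A} {h : Matrix ι ι A} (hh : Herm ε h) (v : Matrix ι ι A) :
    Herm ε (vᴴ * h * v) := by
  unfold Herm at hh ⊢
  rw [conjTranspose_mul, conjTranspose_mul, conjTranspose_conjTranspose, ← Matrix.mul_assoc,
    ← Matrix.smul_mul, ← Matrix.mul_smul, hh]

theorem Herm.apply {ε : A} {h : Matrix ι ι A} (hh : Herm ε h) (i j : ι) :
    h i j = ε * star (h j i) := by
  have := congrFun (congrFun hh i) j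
  rw [Matrix.smul_apply, conjTranspose_apply, smul_eq_mul] at this
  exact this.symm

theorem Cong.refl (h : Matrix ι ι A) : Cong h h :=
  ⟨1, isUnit_one, by simp⟩

theorem Cong.trans {h h' h'' : Matrix ι ι A} (h1 : Cong h h') (h2 : Cong h' h'') : Cong h h'' := by
  obtain ⟨v, hv, rfl⟩ := h1
  obtain ⟨v', hv', rfl⟩ := h2
  refine ⟨v * v', hv.mul hv', ?_⟩
  rw [conjTranspose_mul]
  simp only [Matrix.mul_assoc]

theorem Cong.isUnit {h h' : Matrix ι ι A} (h1 : Cong h h') (hu : IsUnit h) : IsUnit h' := by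
  obtain ⟨v, hv, rfl⟩ := h1
  exact (((isUnit_conjTranspose v).mpr hv).mul hu).mul hv

theorem Cong.herm {ε : A} {h h' : Matrix ι ι A} (h1 : Cong h h') (hh : Herm ε h) : Herm ε h' := by
  obtain ⟨v, hv, rfl⟩ := h1
  exact hh.cong v

theorem Diag.of_cong {h h' : Matrix ι ι A} (h1 : Cong h h') (h2 : Diag h') : Diag h := by
  obtain ⟨v, hv, rfl⟩ := h1
  obtain ⟨v', hv', d, hd⟩ := h2
  refine ⟨v * v', hv.mul hv', d, ?_⟩
  rw [← hd, conjTranspose_mul]
  simp only [Matrix.mul_assoc]

theorem Diag.of_submatrix {κ : Type w} [Fintype κ] [DecidableEq κ] (e : κ ≃ ι)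
    {h : Matrix ι ι A} (h1 : Diag (h.submatrix e e)) : Diag h := by
  obtain ⟨v, hv, d, hd⟩ := h1
  refine ⟨v.submatrix e.symm e.symm, (isUnit_submatrix_equiv e.symm e.symm).mpr hv,
    d ∘ e.symm, ?_⟩
  have h2 : h = (h.submatrix e e).submatrix e.symm e.symm := by simp
  rw [← submatrix_diagonal_equiv, ← hd, ← submatrix_mul_equiv _ _ e.symm e.symm e.symm,
    ← submatrix_mul_equiv _ _ e.symm e.symm e.symm, conjTranspose_submatrix, ← h2]

theorem transvection_apply (h : Matrix ι ι A) {j k : ι} (c : A) :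
    ((transvection k j c)ᴴ * h * transvection k j c) j j
      = h j j + c * h j k + star c * h k j + star c * c * h k k := by
  have h1 : (transvection k j c)ᴴ = 1 + single j k (star c) := by
    rw [transvection, conjTranspose_add, conjTranspose_one, conjTranspose_single]
  rw [h1, transvection]
  simp only [Matrix.add_mul, Matrix.mul_add, Matrix.one_mul, Matrix.mul_one, Matrix.add_apply,
    mul_single_apply_same, single_mul_apply_same]
  ring

theorem mem_jacobson_of_not_rep {ε : A} (hε : ε = 1 ∨ ε = -1)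
    (HU : ∀ a : A, (star a = a ∨ star a = -a) → a ∉ Ring.jacobson A → IsUnit a)
    {h : Matrix ι ι A} (hh : Herm ε h) (hrep : ¬ Rep h) (v : Matrix ι ι A) (hv : IsUnit v)
    (i : ι) : (vᴴ * h * v) i i ∈ Ring.jacobson A := by
  by_contra hcon
  apply hrep
  refine ⟨v, hv, i, HU _ ?_ hcon⟩
  have h1 := (hh.cong v).apply i i
  rcases hε with rfl | rfl
  · left; rw [one_mul] at h1; exact h1.symm
  · right; linear_combination h1

theorem diag_mem_jacobson_of_not_rep {ε : A} (hε : ε = 1 ∨ ε = -1)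
    (HU : ∀ a : A, (star a = a ∨ star a = -a) → a ∉ Ring.jacobson A → IsUnit a)
    {h : Matrix ι ι A} (hh : Herm ε h) (hrep : ¬ Rep h) (i : ι) : h i i ∈ Ring.jacobson A := by
  have := mem_jacobson_of_not_rep hε HU hh hrep 1 isUnit_one i
  simpa using this

theorem isUnit_transvection {j k : ι} (hjk : k ≠ j) (c : A) :
    IsUnit (transvection k j c) := by
  rw [isUnit_iff_isUnit_det, det_transvection_of_ne k j hjk]
  exact isUnit_one

theorem trace_mem_jacobson_of_not_rep [Nonempty ι] {ε : A} (hε : ε = 1 ∨ ε = -1)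
    (HU : ∀ a : A, (star a = a ∨ star a = -a) → a ∉ Ring.jacobson A → IsUnit a)
    {h : Matrix ι ι A} (hu : IsUnit h) (hh : Herm ε h) (hrep : ¬ Rep h) (c : A) :
    c + ε * star c ∈ Ring.jacobson A := by
  have hd := diag_mem_jacobson_of_not_rep hε HU hh hrep
  have ht : ∀ (j k : ι) (c : A), c * h j k + ε * star (c * h j k) ∈ Ring.jacobson A := by
    intro j k c
    by_cases hjk : k = j
    · subst hjk
      have h1 : c * h k k ∈ Ring.jacobson A := Ideal.mul_mem_left _ _ (hd k)
      exact add_mem h1 (Ideal.mul_mem_left _ _ (star_mem_jacobson h1))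
    · have h1 := mem_jacobson_of_not_rep hε HU hh hrep _ (isUnit_transvection hjk c) j
      rw [transvection_apply] at h1
      have h2 : c * h j k + ε * star (c * h j k)
          = (h j j + c * h j k + star c * h k j + star c * c * h k k) - h j j
            - star c * c * h k k := by
        rw [hh.apply k j, star_mul']
        ring
      rw [h2]
      exact sub_mem (sub_mem h1 (hd j)) (Ideal.mul_mem_left _ _ (hd k))
  obtain ⟨j⟩ := ‹Nonempty ι›
  have hinv : h * h⁻¹ = 1 := Matrix.mul_nonsing_inv h ((isUnit_iff_isUnit_det h).mp hu)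
  have hsum : ∑ k, (c * h⁻¹ k j) * h j k = c := by
    have h1 := congrFun (congrFun hinv j) j
    rw [Matrix.mul_apply, Matrix.one_apply_eq] at h1
    calc ∑ k, (c * h⁻¹ k j) * h j k = c * ∑ k, h j k * h⁻¹ k j := by
          rw [Finset.mul_sum]
          refine Finset.sum_congr rfl fun k _ => ?_
          ring
      _ = c := by rw [h1, mul_one]
  have h3 : c + ε * star c
      = ∑ k, ((c * h⁻¹ k j) * h j k + ε * star ((c * h⁻¹ k j) * h j k)) := by
    rw [Finset.sum_add_distrib, ← Finset.mul_sum, ← star_sum, hsum]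
  rw [h3]
  exact Ideal.sum_mem _ fun k _ => ht j k _

theorem consequences_of_not_rep [Nonempty ι] {ε : A} (hε : ε = 1 ∨ ε = -1)
    (HU : ∀ a : A, (star a = a ∨ star a = -a) → a ∉ Ring.jacobson A → IsUnit a)
    {h : Matrix ι ι A} (hu : IsUnit h) (hh : Herm ε h) (hrep : ¬ Rep h) :
    ε + 1 ∈ Ring.jacobson A ∧ ∀ c : A, star c - c ∈ Ring.jacobson A := by
  have h1 := trace_mem_jacobson_of_not_rep hε HU hu hh hrep
  have h2 : ε + 1 ∈ Ring.jacobson A := by
    have := h1 1
    rw [star_one, mul_one, add_comm] at this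
    exact this
  refine ⟨h2, fun c => ?_⟩
  have h3 : star c - c = ε * (c + ε * star c) - (ε + 1) * c := by
    have := eps_mul_eps hε
    linear_combination (- star c) * this
  rw [h3]
  exact sub_mem (Ideal.mul_mem_left _ _ (h1 c)) (Ideal.mul_mem_right _ _ h2)

theorem rep_of_odd [Nontrivial A] {ε : A} (hε : ε = 1 ∨ ε = -1)
    (HU : ∀ a : A, (star a = a ∨ star a = -a) → a ∉ Ring.jacobson A → IsUnit a)
    {h : Matrix ι ι A} (hu : IsUnit h) (hh : Herm ε h) (hodd : Odd (Fintype.card ι)) :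
    Rep h := by
  by_contra hrep
  have hne : Nonempty ι := by
    rw [← Fintype.card_pos_iff]
    exact hodd.pos
  obtain ⟨h1, h2⟩ := consequences_of_not_rep hε HU hu hh hrep
  have hd := diag_mem_jacobson_of_not_rep hε HU hh hrep
  have hnt : Nontrivial (A ⧸ Ring.jacobson A) :=
    Ideal.Quotient.nontrivial_iff.mpr jacobson_ne_top
  let π : A →+* A ⧸ Ring.jacobson A := Ideal.Quotient.mk _
  have hdet : (π.mapMatrix h).det = 0 := by
    refine det_eq_zero_of_alt _ (fun i => ?_) (fun i j => ?_) hodd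
    · rw [RingHom.mapMatrix_apply, Matrix.map_apply]
      exact Ideal.Quotient.eq_zero_iff_mem.mpr (hd i)
    · rw [RingHom.mapMatrix_apply, Matrix.map_apply, Matrix.map_apply, ← map_neg,
        ← sub_eq_zero, ← map_sub]
      refine Ideal.Quotient.eq_zero_iff_mem.mpr ?_
      have h3 : h i j - - h j i = (ε + 1) * star (h j i) - (star (h j i) - h j i) := by
        rw [hh.apply i j]; ring
      rw [h3]
      exact sub_mem (Ideal.mul_mem_right _ _ h1) (h2 _)
  rw [← RingHom.map_det] at hdet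
  have h4 : IsUnit (π h.det) := ((isUnit_iff_isUnit_det h).mp hu).map π
  rw [hdet] at h4
  exact not_isUnit_zero h4

variable {m : Type w} [Fintype m] [DecidableEq m] {p : Type w'} [Fintype p] [DecidableEq p]

theorem Diag.of_subsingleton [Subsingleton ι] (h : Matrix ι ι A) : Diag h := by
  refine ⟨1, isUnit_one, fun i => h i i, ?_⟩
  ext i j
  obtain rfl := Subsingleton.elim i j
  simp

theorem Herm.of_fromBlocks {ε : A} {S : Matrix m m A} {B : Matrix m p A} {C : Matrix p m A}
    {D : Matrix p p A} (hh : Herm ε (fromBlocks S B C D)) :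
    Herm ε S ∧ ε • Cᴴ = B ∧ ε • Bᴴ = C ∧ Herm ε D := by
  unfold Herm at hh
  rw [fromBlocks_conjTranspose, fromBlocks_smul, fromBlocks_inj] at hh
  exact hh

theorem isUnit_of_fromBlocks {S : Matrix m m A} {D : Matrix p p A}
    (hu : IsUnit (fromBlocks S 0 0 D)) : IsUnit S ∧ IsUnit D := by
  rw [isUnit_iff_isUnit_det, det_fromBlocks_zero₂₁] at hu
  rw [isUnit_iff_isUnit_det, isUnit_iff_isUnit_det]
  exact ⟨isUnit_of_mul_isUnit_left hu, isUnit_of_mul_isUnit_right hu⟩

theorem Diag.fromBlocks {S : Matrix m m A} {D : Matrix p p A} (hS : Diag S) (hD : Diag D) :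
    Diag (fromBlocks S 0 0 D) := by
  obtain ⟨v₁, hv₁, d₁, hd₁⟩ := hS
  obtain ⟨v₂, hv₂, d₂, hd₂⟩ := hD
  refine ⟨Matrix.fromBlocks v₁ 0 0 v₂, ?_, Sum.elim d₁ d₂, ?_⟩
  · rw [isUnit_iff_isUnit_det, det_fromBlocks_zero₂₁]
    exact ((isUnit_iff_isUnit_det _).mp hv₁).mul ((isUnit_iff_isUnit_det _).mp hv₂)
  · rw [fromBlocks_conjTranspose, fromBlocks_multiply, fromBlocks_multiply,
      ← fromBlocks_diagonal, ← hd₁, ← hd₂]
    simp

/-- Schur complement step. -/
theorem cong_fromBlocks {ε : A} (A₁ : Matrix m m A) (B₁ : Matrix m p A) (C₁ : Matrix p m A)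
    (D₁ : Matrix p p A) (hh : Herm ε (fromBlocks A₁ B₁ C₁ D₁)) (hD : IsUnit D₁) :
    Cong (fromBlocks A₁ B₁ C₁ D₁) (fromBlocks (A₁ - B₁ * D₁⁻¹ * C₁) 0 0 D₁) := by
  have hDinv : D₁ * D₁⁻¹ = 1 := Matrix.mul_nonsing_inv D₁ ((isUnit_iff_isUnit_det D₁).mp hD)
  let v : Matrix (m ⊕ p) (m ⊕ p) A := fromBlocks 1 0 (-(D₁⁻¹ * C₁)) 1
  have hv : IsUnit v := by
    rw [isUnit_iff_isUnit_det, det_fromBlocks_zero₁₂]
    simp
  have h1 : vᴴ * fromBlocks A₁ B₁ C₁ D₁ * v
      = fromBlocks (A₁ - B₁ * D₁⁻¹ * C₁) (B₁ + (-(D₁⁻¹ * C₁))ᴴ * D₁) 0 D₁ := by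
    have h2 : fromBlocks A₁ B₁ C₁ D₁ * v = fromBlocks (A₁ - B₁ * D₁⁻¹ * C₁) B₁ 0 D₁ := by
      simp only [v, fromBlocks_multiply]
      congr 1
      · simp [Matrix.mul_assoc, sub_eq_add_neg]
      · simp
      · rw [Matrix.mul_one, Matrix.mul_neg, ← Matrix.mul_assoc, hDinv, Matrix.one_mul,
          add_neg_cancel]
      · simp
    rw [Matrix.mul_assoc, h2]
    simp only [v, fromBlocks_conjTranspose, fromBlocks_multiply]
    congr 1 <;> simp
  have h3 : Herm ε (vᴴ * fromBlocks A₁ B₁ C₁ D₁ * v) := hh.cong v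
  rw [h1] at h3
  have h4 := h3.of_fromBlocks.2.1
  rw [conjTranspose_zero, smul_zero] at h4
  refine ⟨v, hv, ?_⟩
  rw [h1, ← h4]


/-- backtracking step: if no congruent matrix of `S` has a unit on the diagonal, change the
pivot so that the new complement has one. -/
theorem exists_cong_rep [Unique p] {ε : A} (hε : ε = 1 ∨ ε = -1) (S : Matrix m m A)
    (D₁ : Matrix p p A) (hS : IsUnit S) (hh : Herm ε (fromBlocks S 0 0 D₁))
    (ha : IsUnit (D₁ default default))
    (hJ : ∀ v : Matrix m m A, IsUnit v → ∀ i, (vᴴ * S * v) i i ∈ Ring.jacobson A) (k : m) :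
    ∃ (S'' : Matrix m m A) (D' : Matrix p p A),
      Cong (fromBlocks S 0 0 D₁) (fromBlocks S'' 0 0 D') ∧ Rep S'' := by
  have hSinv : S * S⁻¹ = 1 := mul_nonsing_inv S ((isUnit_iff_isUnit_det S).mp hS)
  let ek : Matrix m p A := single k default 1
  let u : Matrix m p A := S⁻¹ * ek
  have hSu : S * u = ek := by rw [← Matrix.mul_assoc, hSinv, Matrix.one_mul]
  let w : Matrix (m ⊕ p) (m ⊕ p) A := fromBlocks 1 u 0 1
  have hw : IsUnit w := by
    rw [isUnit_iff_isUnit_det, det_fromBlocks_zero₂₁]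
    simp
  let D' : Matrix p p A := uᴴ * S * u + D₁
  have h1 : wᴴ * fromBlocks S 0 0 D₁ * w = fromBlocks S ek (uᴴ * S) D' := by
    simp only [w, fromBlocks_conjTranspose, fromBlocks_multiply]
    congr 1 <;> simp [hSu, D', Matrix.mul_assoc]
  have h2 : Herm ε (fromBlocks S ek (uᴴ * S) D') := h1 ▸ hh.cong w
  have h3 : ε • ekᴴ = uᴴ * S := h2.of_fromBlocks.2.2.1
  have hD'dd : D' default default = D₁ default default + (S⁻¹ᴴ * S * S⁻¹) k k := by
    have h5 : uᴴ * S * u = ekᴴ * (S⁻¹ᴴ * S * S⁻¹) * ek := by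
      simp only [u, conjTranspose_mul, Matrix.mul_assoc]
    simp only [D', Matrix.add_apply, h5, ek, conjTranspose_single, star_one,
      mul_single_apply_same, single_mul_apply_same]
    ring
  have hD' : IsUnit D' := by
    rw [isUnit_iff_isUnit_det, det_unique, hD'dd]
    exact isUnit_add_of_mem_jacobson ha (hJ S⁻¹ (isUnit_nonsing_inv_iff.mpr hS) k)
  have hD'inv : D' * D'⁻¹ = 1 := mul_nonsing_inv D' ((isUnit_iff_isUnit_det D').mp hD')
  refine ⟨S - ek * D'⁻¹ * (uᴴ * S), D',
    Cong.trans ⟨w, hw, h1⟩ (cong_fromBlocks _ _ _ _ h2 hD'), 1, isUnit_one, k, ?_⟩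
  have h4 : ((1 : Matrix m m A)ᴴ * (S - ek * D'⁻¹ * (uᴴ * S)) * (1 : Matrix m m A) :
      Matrix m m A) k k
      = - (D'⁻¹ default default * ε) + S k k := by
    rw [conjTranspose_one, Matrix.one_mul, Matrix.mul_one, Matrix.sub_apply, ← h3,
      Matrix.mul_assoc]
    simp only [ek]
    rw [single_mul_apply_same, Matrix.mul_apply, Fintype.sum_unique]
    simp
    ring
  rw [h4]
  refine isUnit_add_of_mem_jacobson ?_ (by simpa using hJ 1 isUnit_one k)
  have h6 : IsUnit (D'⁻¹ default default) := by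
    have := congrFun (congrFun hD'inv default) default
    rw [Matrix.mul_apply, Fintype.sum_unique, Matrix.one_apply_eq] at this
    exact IsUnit.of_mul_eq_one _ (by rw [mul_comm]; exact this)
  have h7 : IsUnit ε := by
    rcases hε with rfl | rfl
    · exact isUnit_one
    · exact isUnit_one.neg
  exact (h6.mul h7).neg


theorem Herm.submatrix {κ : Type w'} [Fintype κ] [DecidableEq κ] (e : κ ≃ ι) {ε : A}
    {h : Matrix ι ι A} (hh : Herm ε h) : Herm ε (h.submatrix e e) := by
  unfold Herm at hh ⊢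
  conv_rhs => rw [← hh]
  ext i j
  simp

/-- an invertible `ε`-hermitian matrix with a unit value is diagonalisable. -/
theorem diag_of_rep {ε : A} (hε : ε = 1 ∨ ε = -1)
    (HU : ∀ a : A, (star a = a ∨ star a = -a) → a ∉ Ring.jacobson A → IsUnit a) :
    ∀ (n : ℕ) (ι : Type w) [Fintype ι] [DecidableEq ι], Fintype.card ι = n →
      ∀ h : Matrix ι ι A, IsUnit h → Herm ε h → Rep h → Diag h := by
  intro n
  induction n with
  | zero =>
    intro ι _ _ hc h _ _ _
    have : IsEmpty ι := Fintype.card_eq_zero_iff.mp hc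
    exact Diag.of_subsingleton h
  | succ n ih =>
    intro ι _ _ hc h hu hh hrep
    obtain ⟨v₀, hv₀, i₀, hi₀⟩ := hrep
    have hc0 : Cong h (v₀ᴴ * h * v₀) := ⟨v₀, hv₀, rfl⟩
    refine Diag.of_cong hc0 ?_
    have hu₁ := hc0.isUnit hu
    have hh₁ := hc0.herm hh
    generalize v₀ᴴ * h * v₀ = h₁ at hi₀ hu₁ hh₁
    let e : {y // y ≠ i₀} ⊕ PUnit.{w+1} ≃ ι :=
      (Equiv.optionEquivSumPUnit _).symm.trans (Equiv.optionSubtypeNe i₀)
    have he : ∀ x, e (Sum.inr x) = i₀ := by
      intro x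
      simp [e]
    refine Diag.of_submatrix e ?_
    have huH : IsUnit (h₁.submatrix e e) := (isUnit_submatrix_equiv e e).mpr hu₁
    have hhH : Herm ε (h₁.submatrix e e) := hh₁.submatrix e
    have hD : IsUnit (h₁.submatrix e e).toBlocks₂₂ := by
      rw [isUnit_iff_isUnit_det, det_unique]
      simpa [toBlocks₂₂, he] using hi₀
    generalize h₁.submatrix e e = H at huH hhH hD
    rw [← fromBlocks_toBlocks H] at huH hhH ⊢
    have hc1 := cong_fromBlocks _ _ _ _ hhH hD
    refine Diag.of_cong hc1 ?_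
    have hu2 := hc1.isUnit huH
    have hh2 := hc1.herm hhH
    have hD2 : IsUnit (H.toBlocks₂₂ default default) := by
      rw [isUnit_iff_isUnit_det, det_unique] at hD
      exact hD
    generalize H.toBlocks₁₁ - H.toBlocks₁₂ * H.toBlocks₂₂⁻¹ * H.toBlocks₂₁ = S at hc1 hu2 hh2
    have hcard : Fintype.card {y // y ≠ i₀} = n := by
      have := Fintype.card_congr e
      rw [Fintype.card_sum, Fintype.card_punit, hc] at this
      omega
    by_cases hS : Rep S ∨ IsEmpty {y // y ≠ i₀}
    · have hdS : Diag S := by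
        rcases hS with hS | hS
        · exact ih _ hcard S (isUnit_of_fromBlocks hu2).1 hh2.of_fromBlocks.1 hS
        · exact Diag.of_subsingleton S
      exact hdS.fromBlocks (Diag.of_subsingleton _)
    · push Not at hS
      obtain ⟨hS1, hS2⟩ := hS
      obtain ⟨k⟩ := hS2
      obtain ⟨S'', D', hc2, hrep2⟩ := exists_cong_rep hε S _ (isUnit_of_fromBlocks hu2).1 hh2 hD2
        (mem_jacobson_of_not_rep hε HU hh2.of_fromBlocks.1 hS1) k
      refine Diag.of_cong hc2 ?_
      have hu3 := hc2.isUnit hu2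
      have hh3 := hc2.herm hh2
      exact (ih _ hcard S'' (isUnit_of_fromBlocks hu3).1 hh3.of_fromBlocks.1 hrep2).fromBlocks
        (Diag.of_subsingleton _)

/-- main theorem in star-ring form. -/
theorem diag_of_cases [Nontrivial A] {ε : A} (hε : ε = 1 ∨ ε = -1)
    (HU : ∀ a : A, (star a = a ∨ star a = -a) → a ∉ Ring.jacobson A → IsUnit a)
    (h : Matrix ι ι A) (hu : IsUnit h) (hh : Herm ε h)
    (hcase : (∃ a : A, star a - a ∉ Ring.jacobson A) ∨ ε + 1 ∉ Ring.jacobson A ∨
      Odd (Fintype.card ι)) : Diag h := by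
  by_cases hne : Nonempty ι
  · refine diag_of_rep hε HU _ ι rfl h hu hh ?_
    by_contra hrep
    obtain ⟨h1, h2⟩ := consequences_of_not_rep hε HU hu hh hrep
    rcases hcase with ⟨a, ha⟩ | hc | hc
    · exact ha (h2 a)
    · exact hc h1
    · exact hrep (rep_of_odd hε HU hu hh hc)
  · rw [not_nonempty_iff] at hne
    exact Diag.of_subsingleton h

end Star

end Groth.Agent.Lib.T2H2.HermDiag
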