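import Mathlib
import Groth.Agent.Lib.T2H2AzInvIso
import Groth.Agent.Lib.T2H2AzInvQuad
import Groth.Agent.Lib.T2H2HermInv
import Groth.Agent.S15583

/-!
# Involutions of Azumaya algebras of odd degree

Let `R` be a commutative ring with involution `lam` with fixed ring `S`, and `(A, t)` an Azumaya
`R`-algebra of odd degree `n` with a `lam`-involution.  If units have square roots etale-locally
on `S`, then etale-locally on `S` the algebra `A` has a full system of matrix units `e i j` with
`t (e i j) = e j i`.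
-/

set_option autoImplicit false

namespace Groth.Agent.Lib.T2H2.AzInvOdd

open scoped TensorProduct
open Matrix
open Groth.Agent.Lib.T2H2.MatUnits Groth.Agent.Lib.T2H2.AzInvSplit
  Groth.Agent.Lib.T2H2.AzInvInner Groth.Agent.Lib.T2H2.AzInvUnitary
  Groth.Agent.Lib.T2H2.AzInvIso

universe u v w

section spread

open Groth.Agent.Lib.Helper3.IndEt Groth.Agent.Lib.T2H2.EtLoc

variable {S : Type u} {R : Type v} [CommRing S] [CommRing R] [Algebra S R]
  (lam : R ≃ₐ[S] R)
  {A : Type w} [Ring A] [Algebra S A] [Algebra R A] [IsScalarTower S R A]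
  (t : AzInv.LamInv R A lam)

/-- matrix units of `E ⊗ A` which the involution transposes up to units of `E` -/
def SemiAdapted (E : Type*) [CommRing E] [Algebra S E] (n : ℕ) : Prop :=
  ∃ (e : Fin n → Fin n → E ⊗[S] A) (d d' : Fin n → E), IsMatUnits e ∧
    (∀ i, d i * d' i = 1) ∧ ∀ i j, t.bc S lam E (e i j) = (d j * d' i) • e j i

omit [Algebra S R] [Algebra R A] in
theorem map_map {E E' E'' : Type*} [CommRing E] [CommRing E'] [CommRing E''] [Algebra S E]
    [Algebra S E'] [Algebra S E''] (h : E →ₐ[S] E') (h' : E' →ₐ[S] E'') (x : E ⊗[S] A) :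
    Algebra.TensorProduct.map h' (AlgHom.id S A) (Algebra.TensorProduct.map h (AlgHom.id S A) x)
      = Algebra.TensorProduct.map (h'.comp h) (AlgHom.id S A) x := by
  induction x using TensorProduct.induction_on with
  | zero => simp
  | tmul e a => rfl
  | add x y hx hy => simp only [map_add, hx, hy]

omit [Algebra S R] [Algebra R A] in
theorem map_smul' {E E' : Type*} [CommRing E] [CommRing E'] [Algebra S E]
    [Algebra S E'] (h : E →ₐ[S] E') (c : E) (x : E ⊗[S] A) :
    Algebra.TensorProduct.map h (AlgHom.id S A) (c • x)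
      = h c • Algebra.TensorProduct.map h (AlgHom.id S A) x := by
  induction x using TensorProduct.induction_on with
  | zero => simp
  | tmul e a =>
    rw [TensorProduct.smul_tmul', Algebra.TensorProduct.map_tmul, Algebra.TensorProduct.map_tmul,
      TensorProduct.smul_tmul', smul_eq_mul, smul_eq_mul, map_mul]
  | add x y hx hy => simp only [smul_add, map_add, hx, hy]

/-- units of an ind-etale algebra lift to an etale stage -/
theorem exists_lift_units (B : Type u) [CommRing B] [Algebra S B]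
    (H : Obj.Factor S B) (n : ℕ) (b b' : Fin n → B) (hbb' : ∀ i, b i * b' i = 1) :
    ∃ (E : Type u) (_ : CommRing E) (_ : Algebra S E) (_ : Algebra.Etale S E) (g : E →ₐ[S] B)
      (d d' : Fin n → E), (∀ i, d i * d' i = 1) ∧ (∀ i, g (d i) = b i) ∧
        (∀ i, g (d' i) = b' i) := by
  classical
  let rel : Fin n → MvPolynomial (Fin n ⊕ Fin n) S :=
    fun i => MvPolynomial.X (Sum.inl i) * MvPolynomial.X (Sum.inr i) - 1
  let I : Ideal (MvPolynomial (Fin n ⊕ Fin n) S) := Ideal.span (Set.range rel)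
  have hI : I.FG := Submodule.fg_span (Set.finite_range rel)
  have : Algebra.FinitePresentation S (MvPolynomial (Fin n ⊕ Fin n) S ⧸ I) :=
    Algebra.FinitePresentation.quotient hI
  let ψ₀ : MvPolynomial (Fin n ⊕ Fin n) S →ₐ[S] B := MvPolynomial.aeval (Sum.elim b b')
  have hψ₀ : ∀ x ∈ I, ψ₀ x = 0 := by
    have hle : I ≤ RingHom.ker ψ₀.toRingHom := by
      rw [Ideal.span_le]
      rintro _ ⟨i, rfl⟩
      show ψ₀ (rel i) = 0
      simp [rel, ψ₀, hbb']
    intro x hx
    exact hle hx
  let ψ : (MvPolynomial (Fin n ⊕ Fin n) S ⧸ I) →ₐ[S] B := Ideal.Quotient.liftₐ I ψ₀ hψ₀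
  obtain ⟨E, _, _, _, f, g, hfg⟩ := H (MvPolynomial (Fin n ⊕ Fin n) S ⧸ I) ψ
  refine ⟨E, inferInstance, inferInstance, inferInstance, g,
    fun i => f (Ideal.Quotient.mk I (MvPolynomial.X (Sum.inl i))),
    fun i => f (Ideal.Quotient.mk I (MvPolynomial.X (Sum.inr i))), fun i => ?_, fun i => ?_,
    fun i => ?_⟩
  · rw [← map_mul, ← map_mul]
    have h1 : Ideal.Quotient.mk I (MvPolynomial.X (Sum.inl i) * MvPolynomial.X (Sum.inr i))
        = 1 := by
      rw [← map_one (Ideal.Quotient.mk I), Ideal.Quotient.eq]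
      exact Ideal.subset_span ⟨i, rfl⟩
    rw [h1, map_one]
  · have := congr($hfg (Ideal.Quotient.mk I (MvPolynomial.X (Sum.inl i))))
    rw [AlgHom.comp_apply] at this
    rw [this]
    simp [ψ, ψ₀]
  · have := congr($hfg (Ideal.Quotient.mk I (MvPolynomial.X (Sum.inr i))))
    rw [AlgHom.comp_apply] at this
    rw [this]
    simp [ψ, ψ₀]


/-- semi-adapted matrix units over a local ind-etale algebra descend to an etale stage -/
theorem exists_etale_semiadapted (B : Type u) [CommRing B] [IsLocalRing B] [Algebra S B]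
    (H : Obj.Factor S B) (n : ℕ) (hB : SemiAdapted lam t B n) :
    ∃ (E : Type u) (_ : CommRing E) (_ : Algebra S E) (_ : Algebra.Etale S E)
      (_ : E →ₐ[S] B), SemiAdapted lam t E n := by
  classical
  obtain ⟨e, b, b', he, hbb', het⟩ := hB
  obtain ⟨E₁, _, _, _, g₁, d₁, d₁', hd₁, hg₁, hg₁'⟩ := exists_lift_units B H n b b' hbb'
  obtain ⟨E₀, _, _, _, g₀, hg₀⟩ := exists_lift_finite A H
    (fun x : Fin n × Fin n => e x.1 x.2)
  choose e₀ he₀ using hg₀
  simp only [rTensor_eq_map] at he₀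
  obtain ⟨E₂, _, _, _, g₂, k₁, k₀, hk₁, hk₀⟩ := exists_refine g₁ g₀
  let e₂ : Fin n × Fin n → E₂ ⊗[S] A :=
    fun x => Algebra.TensorProduct.map k₀ (AlgHom.id S A) (e₀ x)
  have he₂ : ∀ x, Algebra.TensorProduct.map g₂ (AlgHom.id S A) (e₂ x) = e x.1 x.2 := by
    intro x
    simp only [e₂]
    rw [map_map, hk₀, he₀]
  let d₂ : Fin n → E₂ := fun i => k₁ (d₁ i)
  let d₂' : Fin n → E₂ := fun i => k₁ (d₁' i)
  have hd₂ : ∀ i, d₂ i * d₂' i = 1 := by
    intro i
    simp only [d₂, d₂']
    rw [← map_mul, hd₁, map_one]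
  have hgd₂ : ∀ i, g₂ (d₂ i) = b i := by
    intro i
    rw [← hg₁ i, ← hk₁]
    rfl
  have hgd₂' : ∀ i, g₂ (d₂' i) = b' i := by
    intro i
    rw [← hg₁' i, ← hk₁]
    rfl
  let z : Option ((Fin n × Fin n) × (Fin n × Fin n)) ⊕ (Fin n × Fin n) → E₂ ⊗[S] A := fun x =>
    match x with
    | Sum.inl none => ∑ i, e₂ (i, i) - 1
    | Sum.inl (some ((i, j), (k, l))) =>
      e₂ (i, j) * e₂ (k, l) - (if j = k then e₂ (i, l) else 0)
    | Sum.inr (i, j) => t.bc S lam E₂ (e₂ (i, j)) - (d₂ j * d₂' i) • e₂ (j, i)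
  have hz : ∀ x, LinearMap.rTensor A g₂.toLinearMap (z x) = 0 := by
    intro x
    rw [rTensor_eq_map]
    match x with
    | Sum.inl none =>
      show Algebra.TensorProduct.map g₂ (AlgHom.id S A) (∑ i, e₂ (i, i) - 1) = 0
      rw [map_sub, map_sum, map_one]
      simp_rw [he₂]
      rw [he.2, sub_self]
    | Sum.inl (some ((i, j), (k, l))) =>
      show Algebra.TensorProduct.map g₂ (AlgHom.id S A)
        (e₂ (i, j) * e₂ (k, l) - (if j = k then e₂ (i, l) else 0)) = 0
      rw [map_sub, map_mul, he₂, he₂, he.1]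
      split_ifs
      · rw [he₂, sub_self]
      · rw [map_zero, sub_self]
    | Sum.inr (i, j) =>
      show Algebra.TensorProduct.map g₂ (AlgHom.id S A)
        (t.bc S lam E₂ (e₂ (i, j)) - (d₂ j * d₂' i) • e₂ (j, i)) = 0
      rw [map_sub, map_bc, map_smul', he₂, he₂, het, map_mul, hgd₂, hgd₂', sub_self]
  obtain ⟨E', _, _, _, h, g', -, hz'⟩ := exists_stage_eq_zero H g₂ A z hz
  simp only [rTensor_eq_map] at hz'
  refine ⟨E', inferInstance, inferInstance, inferInstance, g',
    fun i j => Algebra.TensorProduct.map h (AlgHom.id S A) (e₂ (i, j)),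
    fun i => h (d₂ i), fun i => h (d₂' i),
    ⟨fun i j k l => ?_, ?_⟩, fun i => ?_, fun i j => ?_⟩
  · have := hz' (Sum.inl (some ((i, j), (k, l))))
    change Algebra.TensorProduct.map h (AlgHom.id S A)
      (e₂ (i, j) * e₂ (k, l) - (if j = k then e₂ (i, l) else 0)) = 0 at this
    rw [map_sub, map_mul, sub_eq_zero] at this
    rw [this]
    split_ifs
    · rfl
    · rw [map_zero]
  · have := hz' (Sum.inl none)
    change Algebra.TensorProduct.map h (AlgHom.id S A) (∑ i, e₂ (i, i) - 1) = 0 at this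
    rw [map_sub, map_sum, map_one, sub_eq_zero] at this
    exact this
  · rw [← map_mul, hd₂, map_one]
  · have := hz' (Sum.inr (i, j))
    change Algebra.TensorProduct.map h (AlgHom.id S A)
      (t.bc S lam E₂ (e₂ (i, j)) - (d₂ j * d₂' i) • e₂ (j, i)) = 0 at this
    rw [map_sub, map_bc, map_smul', sub_eq_zero, map_mul] at this
    exact this

end spread

section blevel

variable {S : Type u} {R : Type v} [CommRing S] [CommRing R] [Algebra S R]
  (lam : R ≃ₐ[S] R) (hlam : ∀ r, lam (lam r) = r) (hfix : RInv.IsFixedRing S R lam.toRingEquiv)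
  {A : Type w} [Ring A] [Algebra S A] [Algebra R A] [IsScalarTower S R A]
  (t : AzInv.LamInv R A lam)

include hlam hfix in
/-- over a strictly henselian local flat `S`-algebra `B`, an Azumaya algebra of odd degree with a
`lam`-involution has matrix units which the involution transposes up to units of `B`. -/
theorem exists_semiadapted_of_strictHenselian (B : Type u) [CommRing B] [HenselianLocalRing B]
    [IsSepClosed (IsLocalRing.ResidueField B)] [Algebra S B] [Module.Flat S B]
    (n : ℕ) (hn : Odd n) (hA : AzInv.IsAzumayaDeg R A n) :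
    ∃ (e : Fin n → Fin n → B ⊗[S] A) (b b' : Fin n → B), IsMatUnits e ∧
      (∀ i, b i * b' i = 1) ∧ ∀ i j, t.bc S lam B (e i j) = (b j * b' i) • e j i := by
  classical
  have hn0 : 0 < n := hn.pos
  have : Nonempty (Fin n) := ⟨⟨0, hn0⟩⟩
  have hfixB := Groth.Agent.S15586.result S R B lam (fun r => hlam r) hfix (Or.inl inferInstance)
  have hinvB := involutive_congr lam hlam B
  obtain ⟨ι, _, T, _, _, hsc, ⟨φ⟩⟩ := Groth.Agent.Lib.T2H2.InvHens.main B (B ⊗[S] R)
    (Algebra.TensorProduct.congr (AlgEquiv.refl : B ≃ₐ[S] B) lam).toRingEquiv hinvB hfixB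
  obtain ⟨ε, hε⟩ := exists_isMatUnits_of_strictHenselian lam hlam hfix A B n hA
  obtain ⟨f, hf⟩ := exists_iso_with_formula n hn0 hA ε hε
  let lamC : (B ⊗[S] R) ≃+* (B ⊗[S] R) :=
    (Algebra.TensorProduct.congr (AlgEquiv.refl : B ≃ₐ[S] B) lam).toRingEquiv
  have hlamC : ∀ c, lamC c = Algebra.TensorProduct.congr (AlgEquiv.refl : B ≃ₐ[S] B) lam c :=
    fun _ => rfl
  let _ : StarRing (B ⊗[S] R) :=
    { star := lamC
      star_involutive := hinvB
      star_mul := fun a b => by
        show lamC (a * b) = lamC b * lamC a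
        rw [map_mul, mul_comm]
      star_add := fun a b => map_add lamC a b }
  have hstar : ∀ c : B ⊗[S] R, star c = lamC c := fun _ => rfl
  -- the transported involution
  let τ : Matrix (Fin n) (Fin n) (B ⊗[S] R) → Matrix (Fin n) (Fin n) (B ⊗[S] R) :=
    fun X => f (t.bc S lam B (f.symm X))
  have hfsmul : ∀ (c : B ⊗[S] R) X, f.symm (c • X) = iotaE S R A B c * f.symm X := by
    intro c X
    rw [hf, hf, smul_formula]
  have hfiota : ∀ (c : B ⊗[S] R) Z, f (iotaE S R A B c * Z) = c • f Z := by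
    intro c Z
    apply f.symm.injective
    rw [hfsmul, AlgEquiv.symm_apply_apply, AlgEquiv.symm_apply_apply]
  have hadd : ∀ X Y, τ (X + Y) = τ X + τ Y := by
    intro X Y
    simp only [τ, map_add]
  have hmul : ∀ X Y, τ (X * Y) = τ Y * τ X := by
    intro X Y
    simp only [τ, map_mul, bc_mul]
  have hinv : ∀ X, τ (τ X) = X := by
    intro X
    simp only [τ, AlgEquiv.symm_apply_apply, bc_bc, AlgEquiv.apply_symm_apply]
  have hsmul : ∀ (c : B ⊗[S] R) X, τ (c • X) = star c • τ X := by
    intro c X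
    simp only [τ]
    rw [hfsmul, bc_mul, bc_iotaE, ← iotaE_central, hfiota]
    rfl
  have HI : ∀ σ : Matrix (Fin n) (Fin n) (B ⊗[S] R) ≃ₐ[B ⊗[S] R]
      Matrix (Fin n) (Fin n) (B ⊗[S] R),
      ∃ v v' : Matrix (Fin n) (Fin n) (B ⊗[S] R), v * v' = 1 ∧ v' * v = 1 ∧
        ∀ X, σ X * v = v * X := by
    intro σ
    have hAzM : IsAzumaya (B ⊗[S] R) (Matrix (Fin n) (Fin n) (B ⊗[S] R)) :=
      IsAzumaya.matrix (B ⊗[S] R) (Fin n)
    exact exists_conj_of_prod (B ⊗[S] R) T φ (Matrix (Fin n) (Fin n) (B ⊗[S] R)) σ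
  have HD : ∀ w : Matrix (Fin n) (Fin n) (B ⊗[S] R), IsUnit w → wᴴ = w →
      ∃ v₀ : Matrix (Fin n) (Fin n) (B ⊗[S] R), IsUnit v₀ ∧
        ∃ d : Fin n → B ⊗[S] R, v₀ᴴ * w * v₀ = diagonal d := by
    intro w hwu hwH
    have herm : (1 : B ⊗[S] R) • (w.map lamC).transpose = w := by
      rw [one_smul]
      exact hwH
    exact Groth.Agent.S15583.result B (B ⊗[S] R) lamC hinvB hfixB n 1 (Or.inl rfl) w hwu herm
      (Or.inr (Or.inr hn))
  obtain ⟨e₁, d, d', he₁, hdstar, hdd', hτe⟩ :=
    Groth.Agent.Lib.T2H2.HermInv.exists_matUnits_of_antiInvolution hn τ hadd hmul hinv hsmul HI HD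
  -- the scalars come from `B`
  have hb : ∀ i, ∃ b : B, algebraMap B (B ⊗[S] R) b = d i := by
    intro i
    exact (hfixB.2 (d i)).mp (hdstar i)
  choose b hb using hb
  have hbu : ∀ i, IsUnit (b i) := by
    intro i
    apply Groth.Agent.Lib.Helper15.QuadEtale.isUnit_of_isUnit_algebraMap lamC hfixB
    rw [hb]
    exact IsUnit.of_mul_eq_one _ (hdd' i)
  choose b' hb' using fun i => (hbu i).exists_right_inv
  have hd' : ∀ i, d' i = algebraMap B (B ⊗[S] R) (b' i) := by
    intro i
    calc d' i = d' i * (d i * algebraMap B (B ⊗[S] R) (b' i)) := by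
          rw [← hb, ← map_mul, hb', map_one, mul_one]
      _ = (d i * d' i) * algebraMap B (B ⊗[S] R) (b' i) := by ring
      _ = algebraMap B (B ⊗[S] R) (b' i) := by rw [hdd', one_mul]
  refine ⟨fun i j => f.symm (e₁ i j), b, b', he₁.mapEquiv f.symm.toRingEquiv, hb', fun i j => ?_⟩
  have h1 : t.bc S lam B (f.symm (e₁ i j)) = f.symm (τ (e₁ i j)) := by
    simp only [τ, AlgEquiv.symm_apply_apply]
  rw [h1, hτe, ← hb, hd', ← map_mul, algebraMap_smul, map_smul]

end blevel

section sqrt

variable {S : Type u} [CommRing S]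

/-- finitely many units of an etale algebra acquire square roots on an etale cover -/
theorem exists_sqrt_family
    (hsq : ∀ (S₁ : Type u) [CommRing S₁] [Algebra S S₁] [Algebra.Etale S S₁] (x : S₁ˣ),
      ∃ (S₂ : Type u) (_ : CommRing S₂) (_ : Algebra S₁ S₂) (_ : Algebra.Etale S₁ S₂)
        (_ : Module.FaithfullyFlat S₁ S₂) (y : S₂), y * y = algebraMap S₁ S₂ ↑x)
    (E : Type u) [CommRing E] [Algebra S E] [Algebra.Etale S E] :
    ∀ (k : ℕ) (x : Fin k → Eˣ),
      ∃ (E' : Type u) (_ : CommRing E') (_ : Algebra S E') (_ : Algebra.Etale S E')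
        (h : E →ₐ[S] E'), Function.Surjective (PrimeSpectrum.comap h.toRingHom) ∧
          ∃ y : Fin k → E', ∀ i, y i * y i = h (x i) := by
  intro k
  induction k with
  | zero =>
    intro x
    exact ⟨E, inferInstance, inferInstance, inferInstance, AlgHom.id S E,
      fun p => ⟨p, rfl⟩, fun i => i.elim0, fun i => i.elim0⟩
  | succ k ih =>
    intro x
    obtain ⟨E₁, _, _, _, h₁, hs₁, y₁, hy₁⟩ := ih (fun i => x i.castSucc)
    obtain ⟨S₂, _, _, _, hff, y, hy⟩ := hsq E₁ (Units.map h₁.toRingHom.toMonoidHom (x (Fin.last k)))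
    let _ : Algebra S S₂ := ((algebraMap E₁ S₂).comp (algebraMap S E₁)).toAlgebra
    have : IsScalarTower S E₁ S₂ := IsScalarTower.of_algebraMap_eq (fun _ => rfl)
    have : Algebra.Etale S S₂ := Algebra.Etale.comp S E₁ S₂
    let h₂ : E₁ →ₐ[S] S₂ := IsScalarTower.toAlgHom S E₁ S₂
    refine ⟨S₂, inferInstance, inferInstance, inferInstance, h₂.comp h₁, ?_,
      Fin.lastCases y (fun i => h₂ (y₁ i)), fun i => ?_⟩
    · intro p
      obtain ⟨q, hq⟩ := hs₁ p
      obtain ⟨q', hq'⟩ := PrimeSpectrum.comap_surjective_of_faithfullyFlat (A := E₁) (B := S₂) q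
      refine ⟨q', ?_⟩
      rw [← hq, ← hq']
      rfl
    · refine Fin.lastCases ?_ (fun j => ?_) i
      · simp only [Fin.lastCases_last]
        exact hy
      · simp only [Fin.lastCases_castSucc]
        rw [← map_mul, hy₁]
        rfl

end sqrt

section rescale

variable {S : Type u} {R : Type v} [CommRing S] [CommRing R] [Algebra S R]
  (lam : R ≃ₐ[S] R)
  {A : Type w} [Ring A] [Algebra S A] [Algebra R A] [IsScalarTower S R A]
  (t : AzInv.LamInv R A lam)

/-- semi-adapted matrix units become adapted once the units have square roots -/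
theorem adapted_of_sqrt {E E' : Type*} [CommRing E] [CommRing E'] [Algebra S E] [Algebra S E']
    (h : E →ₐ[S] E') (n : ℕ) (e : Fin n → Fin n → E ⊗[S] A) (d d' : Fin n → E)
    (he : IsMatUnits e) (hdd' : ∀ i, d i * d' i = 1)
    (het : ∀ i j, t.bc S lam E (e i j) = (d j * d' i) • e j i)
    (y : Fin n → E') (hy : ∀ i, y i * y i = h (d i)) :
    ∃ e' : Fin n → Fin n → E' ⊗[S] A, IsMatUnits e' ∧
      ∀ i j, t.bc S lam E' (e' i j) = e' j i := by
  classical
  let y' : Fin n → E' := fun i => y i * h (d' i)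
  have hyy' : ∀ i, y i * y' i = 1 := by
    intro i
    simp only [y']
    rw [← mul_assoc, hy, ← map_mul, hdd', map_one]
  have hy'2 : ∀ i, y' i * y' i = h (d' i) := by
    intro i
    calc y' i * y' i = (y i * y i) * h (d' i) * h (d' i) := by simp only [y']; ring
      _ = h (d i * d' i) * h (d' i) := by rw [hy, map_mul]
      _ = h (d' i) := by rw [hdd', map_one, one_mul]
  let ê : Fin n → Fin n → E' ⊗[S] A :=
    fun i j => Algebra.TensorProduct.map h (AlgHom.id S A) (e i j)
  have hê : IsMatUnits ê := he.map (Algebra.TensorProduct.map h (AlgHom.id S A)).toRingHom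
  have hêt : ∀ i j, t.bc S lam E' (ê i j) = (h (d j) * h (d' i)) • ê j i := by
    intro i j
    simp only [ê]
    rw [← map_bc, het, map_smul', map_mul]
  refine ⟨fun i j => (y i * y' j) • ê i j, ⟨fun i j k l => ?_, ?_⟩, fun i j => ?_⟩
  · rw [smul_mul_smul_comm, hê.1]
    split_ifs with hjk
    · subst hjk
      congr 1
      calc y i * y' j * (y j * y' l) = y i * y' l * (y j * y' j) := by ring
        _ = y i * y' l := by rw [hyy', mul_one]
    · rw [smul_zero]
  · simp_rw [hyy', one_smul]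
    exact hê.2
  · rw [map_smul, hêt, smul_smul]
    congr 1
    calc y i * y' j * (h (d j) * h (d' i))
        = y i * y' j * ((y j * y j) * (y' i * y' i)) := by rw [hy, hy'2]
      _ = y j * y' i * ((y i * y' i) * (y j * y' j)) := by ring
      _ = y j * y' i := by rw [hyy', hyy', mul_one, mul_one]

end rescale

section main

open Groth.Agent.Lib.Helper3.IndEt Groth.Agent.Lib.T2H2.EtLoc IsLocalRing

variable {S : Type u} {R : Type v} [CommRing S] [CommRing R] [Algebra S R]
  (lam : R ≃ₐ[S] R) (hlam : ∀ r, lam (lam r) = r) (hfix : RInv.IsFixedRing S R lam.toRingEquiv)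
  {A : Type w} [Ring A] [Algebra S A] [Algebra R A] [IsScalarTower S R A]
  (t : AzInv.LamInv R A lam)

include hlam hfix in
theorem exists_etale_adapted_at
    (hsq : ∀ (S₁ : Type u) [CommRing S₁] [Algebra S S₁] [Algebra.Etale S S₁] (x : S₁ˣ),
      ∃ (S₂ : Type u) (_ : CommRing S₂) (_ : Algebra S₁ S₂) (_ : Algebra.Etale S₁ S₂)
        (_ : Module.FaithfullyFlat S₁ S₂) (y : S₂), y * y = algebraMap S₁ S₂ ↑x)
    (n : ℕ) (hn : Odd n) (hA : AzInv.IsAzumayaDeg R A n) (p : PrimeSpectrum S) :
    ∃ (E : Type u) (_ : CommRing E) (_ : Algebra S E) (_ : Algebra.Etale S E),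
      p ∈ Set.range (PrimeSpectrum.comap (algebraMap S E)) ∧
        ∃ e : Fin n → Fin n → E ⊗[S] A, IsMatUnits e ∧
          ∀ a b, t.bc S lam E (e a b) = e b a := by
  obtain ⟨B, _, _, _, _, H, hp⟩ := exists_strictHenselization_atPrime S p
  have hflat : Module.Flat S B := flat_of_factor' H
  have hB : SemiAdapted lam t B n :=
    exists_semiadapted_of_strictHenselian lam hlam hfix t B n hn hA
  obtain ⟨E, _, _, _, g, e, d, d', he, hdd', het⟩ := exists_etale_semiadapted lam t B H n hB
  let x : Fin n → Eˣ := fun i => ⟨d i, d' i, hdd' i, by rw [mul_comm]; exact hdd' i⟩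
  obtain ⟨E', _, _, _, h, hs, y, hy⟩ := exists_sqrt_family hsq E n x
  refine ⟨E', inferInstance, inferInstance, inferInstance, ?_,
    adapted_of_sqrt lam t h n e d d' he hdd' het y hy⟩
  obtain ⟨q, hq⟩ := hs (PrimeSpectrum.comap g.toRingHom (closedPoint B))
  refine ⟨q, ?_⟩
  apply PrimeSpectrum.ext
  have h1 : (PrimeSpectrum.comap (algebraMap S E') q).asIdeal
      = ((PrimeSpectrum.comap h.toRingHom q).asIdeal).comap (algebraMap S E) := by
    show q.asIdeal.comap (algebraMap S E') = (q.asIdeal.comap h.toRingHom).comap (algebraMap S E)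
    rw [Ideal.comap_comap, AlgHom.toRingHom_eq_coe, AlgHom.comp_algebraMap]
  rw [h1, hq]
  show ((maximalIdeal B).comap g.toRingHom).comap (algebraMap S E) = p.asIdeal
  rw [Ideal.comap_comap, AlgHom.toRingHom_eq_coe, AlgHom.comp_algebraMap, hp]

include hlam hfix in
/-- in odd degree, if units have square roots etale-locally, the algebra `A` has a full system of
matrix units adapted to the involution after an etale faithfully flat base change of `S` -/
theorem main
    (hsq : ∀ (S₁ : Type u) [CommRing S₁] [Algebra S S₁] [Algebra.Etale S S₁] (x : S₁ˣ),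
      ∃ (S₂ : Type u) (_ : CommRing S₂) (_ : Algebra S₁ S₂) (_ : Algebra.Etale S₁ S₂)
        (_ : Module.FaithfullyFlat S₁ S₂) (y : S₂), y * y = algebraMap S₁ S₂ ↑x)
    (n : ℕ) (hn : Odd n) (hA : AzInv.IsAzumayaDeg R A n) :
    ∃ (S' : Type u) (_ : CommRing S') (_ : Algebra S S') (_ : Algebra.Etale S S')
      (_ : Module.FaithfullyFlat S S') (e : Fin n → Fin n → S' ⊗[S] A), IsMatUnits e ∧
        ∀ a b, t.bc S lam S' (e a b) = e b a := by
  choose 𝓔 i1 i2 i3 hr he using exists_etale_adapted_at lam hlam hfix t hsq n hn hA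
  obtain ⟨T, hT⟩ := exists_finite_etale_cover S 𝓔 hr
  exact ⟨∀ i : T, 𝓔 i, inferInstance, inferInstance, inferInstance, hT,
    Groth.Agent.Lib.T2H2.AzInvQuad.exists_adapted_pi lam t (fun i : T => 𝓔 i) n (fun i => he i)⟩

end main

end Groth.Agent.Lib.T2H2.AzInvOdd
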