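import Mathlib
import Groth.Agent.Lib.T2H2AzInvIso
import Groth.Agent.Lib.T2H2AzInvQuad
import Groth.Agent.Lib.T2H2AzInvOdd

/-!
# Matrix units on which an involution acts through structure constants

Let `(A, t)` be an algebra with a `lam`-involution.  A full system of matrix units `e i j` of
`E ⊗_S A` is adapted to the structure constants `c` if `t (e i j) = ∑ c i j k l • e k l`.  Such
systems descend from local ind-etale algebras to etale stages, are stable under base change and
finite products, and two Azumaya algebras with involution of the same degree with matrix units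
adapted to the same constants are isomorphic.
-/

set_option autoImplicit false

namespace Groth.Agent.Lib.T2H2.AzInvPat

open scoped TensorProduct
open Groth.Agent.Lib.T2H2.MatUnits Groth.Agent.Lib.T2H2.AzInvSplit
  Groth.Agent.Lib.T2H2.AzInvInner Groth.Agent.Lib.T2H2.AzInvUnitary
  Groth.Agent.Lib.T2H2.AzInvIso

universe u v w w'

theorem sum4_comm {M : Type*} [AddCommMonoid M] {n : ℕ} (F : Fin n → Fin n → Fin n → Fin n → M) :
    ∑ i, ∑ j, ∑ k, ∑ l, F i j k l = ∑ k, ∑ l, ∑ i, ∑ j, F i j k l := by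
  calc ∑ i, ∑ j, ∑ k, ∑ l, F i j k l = ∑ i, ∑ k, ∑ j, ∑ l, F i j k l :=
        Finset.sum_congr rfl fun i _ => Finset.sum_comm
    _ = ∑ k, ∑ i, ∑ j, ∑ l, F i j k l := Finset.sum_comm
    _ = ∑ k, ∑ i, ∑ l, ∑ j, F i j k l :=
        Finset.sum_congr rfl fun k _ => Finset.sum_congr rfl fun i _ => Finset.sum_comm
    _ = ∑ k, ∑ l, ∑ i, ∑ j, F i j k l := Finset.sum_congr rfl fun k _ => Finset.sum_comm

section basic

variable {S : Type u} {R : Type v} [CommRing S] [CommRing R] [Algebra S R]
  (lam : R ≃ₐ[S] R)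
  {A : Type w} [Ring A] [Algebra S A] [Algebra R A] [IsScalarTower S R A]
  (t : AzInv.LamInv R A lam)

/-- matrix units of `E ⊗ A` on which the involution acts through the structure constants `c` -/
def PatAdapted (E : Type*) [CommRing E] [Algebra S E] (n : ℕ)
    (c : Fin n → Fin n → Fin n → Fin n → E) : Prop :=
  ∃ e : Fin n → Fin n → E ⊗[S] A, IsMatUnits e ∧
    ∀ i j, t.bc S lam E (e i j) = ∑ k, ∑ l, c i j k l • e k l

/-- integral structure constants -/
def castPat (E : Type*) [CommRing E] (n : ℕ) (c : ℕ → ℕ → ℕ → ℕ → ℤ) :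
    Fin n → Fin n → Fin n → Fin n → E := fun i j k l => ((c i j k l : ℤ) : E)

theorem PatAdapted.map {E E' : Type*} [CommRing E] [CommRing E'] [Algebra S E] [Algebra S E']
    (h : E →ₐ[S] E') {n : ℕ} {c : Fin n → Fin n → Fin n → Fin n → E}
    (hE : PatAdapted lam t E n c) : PatAdapted lam t E' n (fun i j k l => h (c i j k l)) := by
  obtain ⟨e, he, het⟩ := hE
  refine ⟨fun i j => Algebra.TensorProduct.map h (AlgHom.id S A) (e i j),
    he.map (Algebra.TensorProduct.map h (AlgHom.id S A)).toRingHom, fun i j => ?_⟩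
  rw [← map_bc, het, map_sum]
  refine Finset.sum_congr rfl fun k _ => ?_
  rw [map_sum]
  refine Finset.sum_congr rfl fun l _ => ?_
  rw [Groth.Agent.Lib.T2H2.AzInvOdd.map_smul']

theorem PatAdapted.map_cast {E E' : Type*} [CommRing E] [CommRing E'] [Algebra S E]
    [Algebra S E'] (h : E →ₐ[S] E') {n : ℕ} {c : ℕ → ℕ → ℕ → ℕ → ℤ}
    (hE : PatAdapted lam t E n (castPat E n c)) : PatAdapted lam t E' n (castPat E' n c) := by
  have := hE.map lam t h
  have h2 : (fun i j k l => h (castPat E n c i j k l)) = castPat E' n c := by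
    funext i j k l
    simp only [castPat, map_intCast]
  rwa [h2] at this

end basic

section spread

open Groth.Agent.Lib.Helper3.IndEt Groth.Agent.Lib.T2H2.EtLoc

variable {S : Type u} {R : Type v} [CommRing S] [CommRing R] [Algebra S R]
  (lam : R ≃ₐ[S] R)
  {A : Type w} [Ring A] [Algebra S A] [Algebra R A] [IsScalarTower S R A]
  (t : AzInv.LamInv R A lam)

/-- matrix units adapted to integral structure constants over a local ind-etale algebra descend
to an etale stage -/
theorem exists_etale_pat (B : Type u) [CommRing B] [IsLocalRing B] [Algebra S B]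
    (H : Obj.Factor S B) (n : ℕ) (c : ℕ → ℕ → ℕ → ℕ → ℤ)
    (hB : PatAdapted lam t B n (castPat B n c)) :
    ∃ (E : Type u) (_ : CommRing E) (_ : Algebra S E) (_ : Algebra.Etale S E)
      (_ : E →ₐ[S] B), PatAdapted lam t E n (castPat E n c) := by
  classical
  obtain ⟨e, he, het⟩ := hB
  obtain ⟨E₀, _, _, _, g₀, hg₀⟩ := exists_lift_finite A H
    (fun x : Fin n × Fin n => e x.1 x.2)
  choose e₀ he₀ using hg₀
  simp only [rTensor_eq_map] at he₀
  let z : Option ((Fin n × Fin n) × (Fin n × Fin n)) ⊕ (Fin n × Fin n) → E₀ ⊗[S] A := fun x =>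
    match x with
    | Sum.inl none => ∑ i, e₀ (i, i) - 1
    | Sum.inl (some ((i, j), (k, l))) =>
      e₀ (i, j) * e₀ (k, l) - (if j = k then e₀ (i, l) else 0)
    | Sum.inr (i, j) =>
      t.bc S lam E₀ (e₀ (i, j)) - ∑ k, ∑ l, castPat E₀ n c i j k l • e₀ (k, l)
  have hz : ∀ x, LinearMap.rTensor A g₀.toLinearMap (z x) = 0 := by
    intro x
    rw [rTensor_eq_map]
    match x with
    | Sum.inl none =>
      show Algebra.TensorProduct.map g₀ (AlgHom.id S A) (∑ i, e₀ (i, i) - 1) = 0
      rw [map_sub, map_sum, map_one]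
      simp_rw [he₀]
      rw [he.2, sub_self]
    | Sum.inl (some ((i, j), (k, l))) =>
      show Algebra.TensorProduct.map g₀ (AlgHom.id S A)
        (e₀ (i, j) * e₀ (k, l) - (if j = k then e₀ (i, l) else 0)) = 0
      rw [map_sub, map_mul, he₀, he₀, he.1]
      split_ifs
      · rw [he₀, sub_self]
      · rw [map_zero, sub_self]
    | Sum.inr (i, j) =>
      show Algebra.TensorProduct.map g₀ (AlgHom.id S A)
        (t.bc S lam E₀ (e₀ (i, j)) - ∑ k, ∑ l, castPat E₀ n c i j k l • e₀ (k, l)) = 0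
      rw [map_sub, map_bc, he₀, het, map_sum, sub_eq_zero]
      refine Finset.sum_congr rfl fun k _ => ?_
      rw [map_sum]
      refine Finset.sum_congr rfl fun l _ => ?_
      rw [Groth.Agent.Lib.T2H2.AzInvOdd.map_smul', he₀]
      simp only [castPat, map_intCast]
  obtain ⟨E', _, _, _, h, g', -, hz'⟩ := exists_stage_eq_zero H g₀ A z hz
  simp only [rTensor_eq_map] at hz'
  refine ⟨E', inferInstance, inferInstance, inferInstance, g',
    fun i j => Algebra.TensorProduct.map h (AlgHom.id S A) (e₀ (i, j)),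
    ⟨fun i j k l => ?_, ?_⟩, fun i j => ?_⟩
  · have := hz' (Sum.inl (some ((i, j), (k, l))))
    change Algebra.TensorProduct.map h (AlgHom.id S A)
      (e₀ (i, j) * e₀ (k, l) - (if j = k then e₀ (i, l) else 0)) = 0 at this
    rw [map_sub, map_mul, sub_eq_zero] at this
    rw [this]
    split_ifs
    · rfl
    · rw [map_zero]
  · have := hz' (Sum.inl none)
    change Algebra.TensorProduct.map h (AlgHom.id S A) (∑ i, e₀ (i, i) - 1) = 0 at this
    rw [map_sub, map_sum, map_one, sub_eq_zero] at this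
    exact this
  · have := hz' (Sum.inr (i, j))
    change Algebra.TensorProduct.map h (AlgHom.id S A)
      (t.bc S lam E₀ (e₀ (i, j)) - ∑ k, ∑ l, castPat E₀ n c i j k l • e₀ (k, l)) = 0 at this
    rw [map_sub, map_bc, sub_eq_zero] at this
    rw [this, map_sum]
    refine Finset.sum_congr rfl fun k _ => ?_
    rw [map_sum]
    refine Finset.sum_congr rfl fun l _ => ?_
    rw [Groth.Agent.Lib.T2H2.AzInvOdd.map_smul']
    simp only [castPat, map_intCast]

end spread

section pi

variable {S : Type u} {R : Type v} [CommRing S] [CommRing R] [Algebra S R]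
  (lam : R ≃ₐ[S] R)
  {A : Type w} [Ring A] [Algebra S A] [Algebra R A] [IsScalarTower S R A]
  (t : AzInv.LamInv R A lam)

omit [Algebra R A] in
theorem piLeft_smul {ι : Type*} [Fintype ι] [DecidableEq ι] (E : ι → Type*)
    [∀ i, CommRing (E i)] [∀ i, Algebra S (E i)] (c : ∀ i, E i) (x : (∀ i, E i) ⊗[S] A)
    (i : ι) : piLeft A E (c • x) i = c i • piLeft A E x i := by
  induction x using TensorProduct.induction_on with
  | zero => simp
  | tmul e a =>
    rw [TensorProduct.smul_tmul', piLeft_tmul, piLeft_tmul, TensorProduct.smul_tmul']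
    rfl
  | add x y hx hy =>
    rw [smul_add, map_add, Pi.add_apply, hx, hy, map_add, Pi.add_apply, smul_add]

/-- adapted matrix units over the factors give adapted matrix units over a finite product -/
theorem patAdapted_pi {ι : Type*} [Finite ι] (E : ι → Type*)
    [∀ i, CommRing (E i)] [∀ i, Algebra S (E i)] (n : ℕ)
    (c : ∀ i, Fin n → Fin n → Fin n → Fin n → E i)
    (h : ∀ i, PatAdapted lam t (E i) n (c i)) :
    PatAdapted lam t (∀ i, E i) n (fun a b k l i => c i a b k l) := by
  classical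
  have := Fintype.ofFinite ι
  choose e he het using h
  refine ⟨fun a b => (piLeft A E).symm (fun i => e i a b),
    (isMatUnits_pi (fun i => E i ⊗[S] A) e he).mapEquiv (piLeft A E).symm, fun a b => ?_⟩
  apply (piLeft A E).injective
  funext i
  rw [Groth.Agent.Lib.T2H2.AzInvQuad.piLeft_bc, RingEquiv.apply_symm_apply, het, map_sum,
    Finset.sum_apply]
  refine Finset.sum_congr rfl fun k _ => ?_
  rw [map_sum, Finset.sum_apply]
  refine Finset.sum_congr rfl fun l _ => ?_
  rw [piLeft_smul, RingEquiv.apply_symm_apply]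

end pi

section iso

attribute [local instance] Algebra.TensorProduct.rightAlgebra

variable {S : Type u} {R : Type v} [CommRing S] [CommRing R] [Algebra S R]
  (lam : R ≃ₐ[S] R)
  {A : Type w} [Ring A] [Algebra S A] [Algebra R A] [IsScalarTower S R A]
  (t : AzInv.LamInv R A lam)
  {E : Type*} [CommRing E] [Algebra S E]

omit [Algebra R A] [IsScalarTower S R A] in
theorem iotaE_smul [Algebra R A] [IsScalarTower S R A] (c : E) (y : E ⊗[S] R) :
    iotaE S R A E (c • y) = c • iotaE S R A E y := by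
  induction y using TensorProduct.induction_on with
  | zero => simp
  | tmul e r =>
    rw [TensorProduct.smul_tmul', iotaE_tmul, iotaE_tmul, TensorProduct.smul_tmul']
  | add x y hx hy => rw [smul_add, map_add, hx, hy, map_add, smul_add]

/-- the involution in the coordinates given by adapted matrix units -/
theorem bc_formula_pat (n : ℕ) (e : Fin n → Fin n → E ⊗[S] A)
    (c : Fin n → Fin n → Fin n → Fin n → E)
    (het : ∀ i j, t.bc S lam E (e i j) = ∑ k, ∑ l, c i j k l • e k l)
    (X : Matrix (Fin n) (Fin n) (E ⊗[S] R)) :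
    t.bc S lam E (∑ i, ∑ j, iotaE S R A E (X i j) * e i j) =
      ∑ k, ∑ l, iotaE S R A E (∑ i, ∑ j, c i j k l •
        Algebra.TensorProduct.congr (AlgEquiv.refl : E ≃ₐ[S] E) lam (X i j)) * e k l := by
  have h1 : ∀ i j, t.bc S lam E (iotaE S R A E (X i j) * e i j) =
      ∑ k, ∑ l, iotaE S R A E (c i j k l •
        Algebra.TensorProduct.congr (AlgEquiv.refl : E ≃ₐ[S] E) lam (X i j)) * e k l := by
    intro i j
    rw [bc_mul, bc_iotaE, het, Finset.sum_mul]
    refine Finset.sum_congr rfl fun k _ => ?_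
    rw [Finset.sum_mul]
    refine Finset.sum_congr rfl fun l _ => ?_
    rw [iotaE_smul, smul_mul_assoc, smul_mul_assoc, iotaE_central]
  have h2 : t.bc S lam E (∑ i, ∑ j, iotaE S R A E (X i j) * e i j) =
      ∑ i, ∑ j, ∑ k, ∑ l, iotaE S R A E (c i j k l •
        Algebra.TensorProduct.congr (AlgEquiv.refl : E ≃ₐ[S] E) lam (X i j)) * e k l := by
    rw [map_sum]
    refine Finset.sum_congr rfl fun i _ => ?_
    rw [map_sum]
    refine Finset.sum_congr rfl fun j _ => ?_
    exact h1 i j
  rw [h2, sum4_comm]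
  refine Finset.sum_congr rfl fun k _ => ?_
  refine Finset.sum_congr rfl fun l _ => ?_
  simp_rw [map_sum, Finset.sum_mul]

end iso

section two

attribute [local instance] Algebra.TensorProduct.rightAlgebra

variable {S : Type u} {R : Type v} [CommRing S] [CommRing R] [Algebra S R]
  {A₁ : Type w} [Ring A₁] [Algebra S A₁] [Algebra R A₁] [IsScalarTower S R A₁]
  {A₂ : Type w'} [Ring A₂] [Algebra S A₂] [Algebra R A₂] [IsScalarTower S R A₂]
  (lam : R ≃ₐ[S] R) (t₁ : AzInv.LamInv R A₁ lam) (t₂ : AzInv.LamInv R A₂ lam)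
  {E : Type*} [CommRing E] [Algebra S E]

/-- two Azumaya algebras with involution of the same degree with matrix units adapted to the
same structure constants over `E` are isomorphic over `E` -/
theorem exists_iso_of_pat (n : ℕ) (hn : 0 < n) (hA₁ : AzInv.IsAzumayaDeg R A₁ n)
    (hA₂ : AzInv.IsAzumayaDeg R A₂ n) (c : Fin n → Fin n → Fin n → Fin n → E)
    (h₁ : PatAdapted lam t₁ E n c) (h₂ : PatAdapted lam t₂ E n c) :
    ∃ f : E ⊗[S] A₁ ≃ₐ[E] E ⊗[S] A₂,
      (∀ (r : R) (x : E ⊗[S] A₁),
        f (((1 : E) ⊗ₜ[S] algebraMap R A₁ r) * x) = ((1 : E) ⊗ₜ[S] algebraMap R A₂ r) * f x) ∧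
      ∀ x, f (t₁.bc S lam E x) = t₂.bc S lam E (f x) := by
  obtain ⟨e₁, he₁, het₁⟩ := h₁
  obtain ⟨e₂, he₂, het₂⟩ := h₂
  obtain ⟨f₁, hf₁⟩ := exists_iso_with_formula n hn hA₁ e₁ he₁
  obtain ⟨f₂, hf₂⟩ := exists_iso_with_formula n hn hA₂ e₂ he₂
  refine ⟨f₁.trans f₂.symm, fun r x => ?_, fun x => ?_⟩
  · obtain ⟨X, rfl⟩ := f₁.symm.surjective x
    show f₂.symm (f₁ (((1 : E) ⊗ₜ[S] algebraMap R A₁ r) * f₁.symm X)) =
      ((1 : E) ⊗ₜ[S] algebraMap R A₂ r) * f₂.symm (f₁ (f₁.symm X))
    rw [AlgEquiv.apply_symm_apply, ← iotaE_tmul, ← iotaE_tmul, hf₁ X, smul_formula, ← hf₁,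
      AlgEquiv.apply_symm_apply, hf₂ X, smul_formula, ← hf₂]
  · obtain ⟨X, rfl⟩ := f₁.symm.surjective x
    show f₂.symm (f₁ (t₁.bc S lam E (f₁.symm X))) = t₂.bc S lam E (f₂.symm (f₁ (f₁.symm X)))
    rw [AlgEquiv.apply_symm_apply, hf₁ X, bc_formula_pat lam t₁ n e₁ c het₁, hf₂ X,
      bc_formula_pat lam t₂ n e₂ c het₂]
    have h1 := hf₁ (Matrix.of fun k l => ∑ i, ∑ j, c i j k l •
      Algebra.TensorProduct.congr (AlgEquiv.refl : E ≃ₐ[S] E) lam (X i j))
    have h2 := hf₂ (Matrix.of fun k l => ∑ i, ∑ j, c i j k l •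
      Algebra.TensorProduct.congr (AlgEquiv.refl : E ≃ₐ[S] E) lam (X i j))
    simp only [Matrix.of_apply] at h1 h2
    rw [← h1, AlgEquiv.apply_symm_apply, h2]

end two

end Groth.Agent.Lib.T2H2.AzInvPat
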