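import Mathlib

set_option autoImplicit false

namespace Groth.Agent.Lib.T2H2.HensSqrt

open Polynomial IsLocalRing

universe u

/-- in a strictly henselian local ring in which `2` is invertible every unit is a square -/
theorem exists_sq_eq (B : Type u) [CommRing B] [HenselianLocalRing B]
    [IsSepClosed (ResidueField B)] (h2 : IsUnit (2 : B)) (s : B) (hs : IsUnit s) :
    ∃ y : B, y * y = s := by
  have hs' : residue B s ≠ 0 := by
    intro h
    exact (residue_eq_zero_iff s).mp h |> fun hm => (mem_maximalIdeal s).mp hm hs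
  have h2' : ((2 : ℕ) : ResidueField B) ≠ 0 := by
    intro h
    have h3 : residue B (2 : B) = 0 := by
      rw [map_ofNat]
      exact_mod_cast h
    exact (mem_maximalIdeal (2 : B)).mp ((residue_eq_zero_iff _).mp h3) h2
  have hsep : (X ^ 2 - C (residue B s) : (ResidueField B)[X]).Separable :=
    separable_X_pow_sub_C _ h2' hs'
  have hdeg : (X ^ 2 - C (residue B s) : (ResidueField B)[X]).degree ≠ 0 := by
    rw [degree_X_pow_sub_C (by norm_num)]
    norm_num
  obtain ⟨x, hx⟩ := IsSepClosed.exists_root _ hdeg hsep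
  obtain ⟨a₀, rfl⟩ := residue_surjective x
  have hx' : residue B (a₀ ^ 2 - s) = 0 := by
    simpa [IsRoot] using hx
  have ha₀ : IsUnit a₀ := by
    by_contra hcon
    have h3 : residue B a₀ = 0 := (residue_eq_zero_iff _).mpr ((mem_maximalIdeal _).mpr hcon)
    rw [map_sub, map_pow, h3] at hx'
    apply hs'
    simpa using hx'
  obtain ⟨a, ha, -⟩ := HenselianLocalRing.is_henselian (X ^ 2 - C s : B[X])
    (monic_X_pow_sub_C s (by norm_num)) a₀
    (by
      have : (X ^ 2 - C s : B[X]).eval a₀ = a₀ ^ 2 - s := by simp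
      rw [this]
      exact (residue_eq_zero_iff _).mp hx')
    (by
      have : (derivative (X ^ 2 - C s : B[X])).eval a₀ = 2 * a₀ := by
        simp
        ring
      rw [this]
      exact h2.mul ha₀)
  refine ⟨a, ?_⟩
  have : (X ^ 2 - C s : B[X]).eval a = a ^ 2 - s := by simp
  rw [IsRoot, this, sub_eq_zero] at ha
  rw [← ha, pow_two]

end Groth.Agent.Lib.T2H2.HensSqrt
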