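import Mathlib

set_option autoImplicit false

namespace Groth.Agent.Lib.T2H2.Herm22

open Matrix

universe u

variable {C : Type u} [CommRing C] [StarRing C]

/-- explicit normalisation of a `2 × 2` skew-hermitian matrix, given an isotropic vector
`(1, z)` and an inverse `r` of `b - z d` -/
theorem normalize (a b d z r hf : C) (hd : star d = -d) (hz : star z = -z)
    (hhf : 2 * hf = 1) (shf : star hf = hf)
    (E1 : a + (b + star b) * z - d * z * z = 0) (E2 : (b - z * d) * r = 1) :
    (!![1, hf * (star r * d * r); z, r + hf * (star r * d * r) * z] : Matrix (Fin 2) (Fin 2) C)ᴴ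
      * !![a, b; -star b, d] * !![1, hf * (star r * d * r); z, r + hf * (star r * d * r) * z]
      = !![0, 1; -1, 0] := by
  have sE2 : (star b - z * d) * star r = 1 := by
    have := congrArg star E2
    simpa [star_mul', star_sub, hz, hd] using this
  ext i j
  fin_cases i <;> fin_cases j
  · simp [Matrix.mul_apply, Fin.sum_univ_two, hz]
    linear_combination E1
  · simp [Matrix.mul_apply, Fin.sum_univ_two, hz]
    linear_combination (hf * (star r * d * r)) * E1 + E2
  · simp [Matrix.mul_apply, Fin.sum_univ_two, hz, hd, shf, star_mul', star_add]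
    linear_combination (-(hf * (star r * d * r))) * E1 - sE2
  · simp [Matrix.mul_apply, Fin.sum_univ_two, hz, hd, shf, star_mul', star_add]
    linear_combination (-(hf * (star r * d * r))^2) * E1 - (hf * (star r * d * r)) * E2
      - (hf * (star r * d * r)) * sE2 - (star r * d * r) * hhf

/-- normalisation of a `2 × 2` skew-hermitian matrix `[[a, b], [-b*, d]]` given a symmetric
square root `X` of `(b + b*)² + 4ad`, an inverse `u` of `b + b* + X`, an inverse `κ` of twice the
determinant and a half -/
theorem exists_normalize (a b d X u κ hf : C) (ha : star a = -a) (hd : star d = -d)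
    (hu : star u = u) (hhf : 2 * hf = 1) (shf : star hf = hf)
    (R1 : u * (b + star b + X) = 1) (R2 : X * X = (b + star b) * (b + star b) + 4 * a * d)
    (R3 : 2 * (a * d + b * star b) * κ = 1) :
    ∃ v : Matrix (Fin 2) (Fin 2) C, IsUnit v ∧
      vᴴ * !![a, b; -star b, d] * v = !![0, 1; -1, 0] := by
  have hz : star (-(2 * a * u)) = -(-(2 * a * u)) := by
    simp [star_mul', ha, hu]
  have E1 : a + (b + star b) * (-(2 * a * u)) - d * (-(2 * a * u)) * (-(2 * a * u)) = 0 := by
    linear_combination (a * u ^ 2) * R2
      + a * (2 * (b + star b) * u - 2 - (u * (b + star b + X) - 1)) * R1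
  have E2 : (b - (-(2 * a * u)) * d) * ((X - b + star b) * κ) = 1 := by
    linear_combination κ * (b * u) * R2
      + κ * (2 * a * d - b * (X - (b + star b))) * R1 + R3
  have key := normalize a b d (-(2 * a * u)) ((X - b + star b) * κ) hf hd hz hhf shf E1 E2
  refine ⟨_, ?_, key⟩
  have hdet := congrArg det key
  rw [det_mul, det_mul, det_conjTranspose] at hdet
  have h1 : (!![0, 1; -1, 0] : Matrix (Fin 2) (Fin 2) C).det = 1 := by
    simp [det_fin_two]
  rw [h1] at hdet
  rw [isUnit_iff_isUnit_det]
  exact IsUnit.of_mul_eq_one _ (by rw [mul_comm]; exact hdet)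

end Groth.Agent.Lib.T2H2.Herm22
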