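import Mathlib
import Groth.Agent.Lib.T2H2HermDiag

set_option autoImplicit false
set_option linter.unusedSectionVars false

namespace Groth.Agent.Lib.T2H2.HermAlt

open Matrix Groth.Agent.Lib.T2H2.HermDiag

universe u

variable {C : Type u} [CommRing C]

/-- entries of the standard alternating matrix with blocks on the index pairs `{2k, 2k+1}` -/
def jn (a b : ℕ) : C :=
  if a / 2 = b / 2 then
    (if a % 2 = 0 ∧ b % 2 = 1 then 1 else if a % 2 = 1 ∧ b % 2 = 0 then -1 else 0)
  else 0

theorem jn_add_two (a b : ℕ) : (jn (a + 2) (b + 2) : C) = jn a b := by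
  unfold jn
  simp [Nat.add_div_right, Nat.add_mod_right]

theorem jn_of_ne {a b : ℕ} (h : a / 2 ≠ b / 2) : (jn a b : C) = 0 := by
  unfold jn
  rw [if_neg h]

/-- block diagonal with `2 × 2` blocks congruent to the standard one modulo `I` -/
def Good (I : Ideal C) {n : ℕ} (M : Matrix (Fin n) (Fin n) C) : Prop :=
  ∀ i j : Fin n, M i j - jn i.val j.val ∈ I ∧ (i.val / 2 ≠ j.val / 2 → M i j = 0)

/-- the index equivalence putting a `2 × 2` block first -/
def e2 (m : ℕ) : Fin m ⊕ Fin 2 ≃ Fin (m + 2) where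
  toFun x := Sum.elim (fun b => ⟨b.val + 2, by omega⟩) (fun a => ⟨a.val, by omega⟩) x
  invFun i := if h : i.val < 2 then Sum.inr ⟨i.val, h⟩ else Sum.inl ⟨i.val - 2, by omega⟩
  left_inv := by
    rintro (b | a)
    · simp
    · have := a.isLt
      simp
      omega
  right_inv := by
    intro i
    by_cases h : i.val < 2
    · simp [h]
    · simp [h]
      apply Fin.ext
      simp
      omega

theorem e2_inl (m : ℕ) (b : Fin m) : ((e2 m (Sum.inl b)) : Fin (m + 2)).val = b.val + 2 := rfl

theorem e2_inr (m : ℕ) (a : Fin 2) : ((e2 m (Sum.inr a)) : Fin (m + 2)).val = a.val := rfl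

theorem good_fromBlocks (I : Ideal C) {m : ℕ} (M : Matrix (Fin m) (Fin m) C)
    (P : Matrix (Fin 2) (Fin 2) C) (hM : Good I M) (hP : Good I P) :
    Good I ((fromBlocks M 0 0 P).submatrix (e2 m).symm (e2 m).symm) := by
  intro i j
  obtain ⟨x, rfl⟩ := (e2 m).surjective i
  obtain ⟨y, rfl⟩ := (e2 m).surjective j
  rw [submatrix_apply, Equiv.symm_apply_apply, Equiv.symm_apply_apply]
  rcases x with b | a <;> rcases y with b' | a'
  · rw [fromBlocks_apply₁₁, e2_inl, e2_inl, jn_add_two]
    refine ⟨(hM b b').1, fun h => (hM b b').2 ?_⟩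
    intro h'
    apply h
    omega
  · rw [fromBlocks_apply₁₂, e2_inl, e2_inr]
    have hne : (b.val + 2) / 2 ≠ a'.val / 2 := by
      have := a'.isLt
      omega
    rw [jn_of_ne hne]
    simp
  · rw [fromBlocks_apply₂₁, e2_inl, e2_inr]
    have hne : a.val / 2 ≠ (b'.val + 2) / 2 := by
      have := a.isLt
      omega
    rw [jn_of_ne hne]
    simp
  · rw [fromBlocks_apply₂₂, e2_inr, e2_inr]
    exact hP a a'

variable [StarRing C]

theorem Cong.of_submatrix {ι κ : Type*} [Fintype ι] [DecidableEq ι] [Fintype κ] [DecidableEq κ]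
    (e : κ ≃ ι) {h : Matrix ι ι C} {X : Matrix κ κ C} (h1 : Cong (h.submatrix e e) X) :
    Cong h (X.submatrix e.symm e.symm) := by
  obtain ⟨v, hv, rfl⟩ := h1
  refine ⟨v.submatrix e.symm e.symm, (isUnit_submatrix_equiv e.symm e.symm).mpr hv, ?_⟩
  have h2 : h = (h.submatrix e e).submatrix e.symm e.symm := by simp
  rw [← submatrix_mul_equiv _ _ e.symm e.symm e.symm,
    ← submatrix_mul_equiv _ _ e.symm e.symm e.symm, conjTranspose_submatrix, ← h2]

theorem Cong.of_perm {ι : Type*} [Fintype ι] [DecidableEq ι] (σ : ι ≃ ι) {h Y : Matrix ι ι C}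
    (h1 : Cong (h.submatrix σ σ) Y) : Cong h Y := by
  obtain ⟨v, hv, rfl⟩ := h1
  refine ⟨v.submatrix σ.symm (Equiv.refl ι),
    (isUnit_submatrix_equiv σ.symm (Equiv.refl ι)).mpr hv, ?_⟩
  have h2 : h = (h.submatrix σ σ).submatrix σ.symm σ.symm := by simp
  conv_lhs => rw [h2]
  rw [conjTranspose_submatrix, submatrix_mul_equiv, submatrix_mul_equiv]
  simp

theorem not_isUnit_of_mem_jacobson [Nontrivial C] {x : C} (hx : x ∈ Ring.jacobson C) :
    ¬ IsUnit x := by
  intro hu
  exact jacobson_ne_top ((Ideal.eq_top_iff_one _).mpr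
    (by
      obtain ⟨y, hy⟩ := hu.exists_left_inv
      rw [← hy]
      exact Ideal.mul_mem_left _ _ hx))

/-- normal form of invertible skew-hermitian matrices over a local ring in which antisymmetric
elements lie in the radical -/
theorem exists_good (I : Ideal C) [IsLocalRing C]
    (hanti : ∀ x : C, star x = -x → x ∈ Ring.jacobson C)
    (hstep : ∀ P : Matrix (Fin 2) (Fin 2) C, Herm (-1) P → IsUnit (P 0 1) →
      ∃ u : Matrix (Fin 2) (Fin 2) C, IsUnit u ∧ Good I (uᴴ * P * u)) :
    ∀ (n : ℕ) (h : Matrix (Fin n) (Fin n) C), IsUnit h → Herm (-1) h →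
      Even n ∧ ∃ v : Matrix (Fin n) (Fin n) C, IsUnit v ∧ Good I (vᴴ * h * v) := by
  intro n
  induction n using Nat.strong_induction_on with
  | _ n ih =>
    intro h hu hh
    rcases n with _ | n'
    · exact ⟨Even.zero, 1, isUnit_one, fun i => i.elim0⟩
    -- diagonal entries are in the radical
    have hdiag : ∀ i, h i i ∈ Ring.jacobson C := by
      intro i
      apply hanti
      have := hh.apply i i
      rw [neg_one_mul] at this
      linear_combination this
    -- a unit in row `0`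
    have hinv : h * h⁻¹ = 1 := Matrix.mul_nonsing_inv h ((isUnit_iff_isUnit_det h).mp hu)
    obtain ⟨j, hj⟩ : ∃ j, IsUnit (h 0 j) := by
      by_contra hcon
      push Not at hcon
      have h1 := congrFun (congrFun hinv 0) 0
      rw [Matrix.mul_apply, Matrix.one_apply_eq] at h1
      have h2 : (1 : C) ∈ IsLocalRing.maximalIdeal C := by
        rw [← h1]
        refine Ideal.sum_mem _ fun k _ => Ideal.mul_mem_right _ _ ?_
        exact (IsLocalRing.mem_maximalIdeal _).mpr (hcon k)
      exact (IsLocalRing.maximalIdeal.isMaximal C).ne_top ((Ideal.eq_top_iff_one _).mpr h2)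
    have hj0 : j ≠ 0 := by
      rintro rfl
      exact not_isUnit_of_mem_jacobson (hdiag 0) hj
    obtain ⟨m, rfl⟩ : ∃ m, n' = m + 1 := by
      rcases n' with _ | m
      · exact absurd (Fin.ext (by have := j.isLt; simp)) hj0
      · exact ⟨m, rfl⟩
    -- move the unit to position `(0, 1)`
    let σ : Fin (m + 2) ≃ Fin (m + 2) := Equiv.swap j 1
    have hσ0 : σ 0 = 0 := Equiv.swap_apply_of_ne_of_ne hj0.symm Fin.zero_ne_one
    have hσ1 : σ 1 = j := Equiv.swap_apply_right j 1
    have he0 : e2 m (Sum.inr 0) = 0 := rfl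
    have he1 : e2 m (Sum.inr 1) = 1 := rfl
    have hu₁ : IsUnit (h.submatrix σ σ) := (isUnit_submatrix_equiv σ σ).mpr hu
    have hh₁ : Herm (-1) (h.submatrix σ σ) := hh.submatrix σ
    have huH : IsUnit ((h.submatrix σ σ).submatrix (e2 m) (e2 m)) :=
      (isUnit_submatrix_equiv (e2 m) (e2 m)).mpr hu₁
    have hhH : Herm (-1) ((h.submatrix σ σ).submatrix (e2 m) (e2 m)) := hh₁.submatrix (e2 m)
    have hP01 : IsUnit (((h.submatrix σ σ).submatrix (e2 m) (e2 m)).toBlocks₂₂ 0 1) := by
      show IsUnit (h (σ (e2 m (Sum.inr 0))) (σ (e2 m (Sum.inr 1))))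
      rw [he0, he1, hσ0, hσ1]
      exact hj
    have key : ∃ (M : Matrix (Fin m) (Fin m) C) (P' : Matrix (Fin 2) (Fin 2) C),
        Cong ((h.submatrix σ σ).submatrix (e2 m) (e2 m)) (fromBlocks M 0 0 P') ∧ Good I M ∧
          Good I P' ∧ Even m := by
      generalize (h.submatrix σ σ).submatrix (e2 m) (e2 m) = H at huH hhH hP01
      rw [← fromBlocks_toBlocks H] at huH hhH ⊢
      generalize H.toBlocks₁₁ = A₁ at huH hhH ⊢
      generalize H.toBlocks₁₂ = B₁ at huH hhH ⊢
      generalize H.toBlocks₂₁ = C₁ at huH hhH ⊢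
      generalize H.toBlocks₂₂ = P at huH hhH hP01 ⊢
      obtain ⟨hA₁, hCB, hBC, hhP⟩ := hhH.of_fromBlocks
      obtain ⟨u, hu', hgood⟩ := hstep P hhP hP01
      have hPu : IsUnit P := by
        rw [isUnit_iff_isUnit_det, det_fin_two]
        have h00 : P 0 0 ∈ Ring.jacobson C := hanti _ (by
          have := hhP.apply 0 0
          rw [neg_one_mul] at this
          linear_combination this)
        have h10 : P 1 0 = - star (P 0 1) := by
          have := hhP.apply 1 0
          rwa [neg_one_mul] at this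
        have h3 : P 0 0 * P 1 1 - P 0 1 * P 1 0 = P 0 1 * star (P 0 1) + P 0 0 * P 1 1 := by
          rw [h10]; ring
        rw [h3]
        exact isUnit_add_of_mem_jacobson (hP01.mul hP01.star) (Ideal.mul_mem_right _ _ h00)
      let U : Matrix (Fin m ⊕ Fin 2) (Fin m ⊕ Fin 2) C := fromBlocks 1 0 0 u
      have hU : IsUnit U := by
        rw [isUnit_iff_isUnit_det, det_fromBlocks_zero₂₁, det_one, one_mul]
        exact (isUnit_iff_isUnit_det u).mp hu'
      have hUH : Uᴴ * fromBlocks A₁ B₁ C₁ P * U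
          = fromBlocks A₁ (B₁ * u) (uᴴ * C₁) (uᴴ * P * u) := by
        simp only [U, fromBlocks_conjTranspose, fromBlocks_multiply]
        congr 1 <;> simp
      have hc1 : Cong (fromBlocks A₁ B₁ C₁ P)
          (fromBlocks A₁ (B₁ * u) (uᴴ * C₁) (uᴴ * P * u)) := ⟨U, hU, hUH⟩
      have hh1 := hc1.herm hhH
      have hu1 := hc1.isUnit huH
      have hP'u : IsUnit (uᴴ * P * u) := (((isUnit_conjTranspose u).mpr hu').mul hPu).mul hu'
      have hc2 := cong_fromBlocks _ _ _ _ hh1 hP'u
      have hh2 := hc2.herm hh1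
      have hu2 := hc2.isUnit hu1
      obtain ⟨hev, v', hv', hgood'⟩ := ih m (by omega) _ (isUnit_of_fromBlocks hu2).1
        hh2.of_fromBlocks.1
      let V : Matrix (Fin m ⊕ Fin 2) (Fin m ⊕ Fin 2) C := fromBlocks v' 0 0 1
      have hV : IsUnit V := by
        rw [isUnit_iff_isUnit_det, det_fromBlocks_zero₂₁, det_one, mul_one]
        exact (isUnit_iff_isUnit_det v').mp hv'
      refine ⟨_, uᴴ * P * u, (hc1.trans hc2).trans ⟨V, hV, ?_⟩, hgood', hgood, hev⟩
      simp only [V, fromBlocks_conjTranspose, fromBlocks_multiply]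
      congr 1 <;> simp
    obtain ⟨M, P', hc, hM, hP', hev⟩ := key
    obtain ⟨v, hv, hvh⟩ := Cong.of_perm σ (Cong.of_submatrix (e2 m) hc)
    refine ⟨?_, v, hv, ?_⟩
    · obtain ⟨k, hk⟩ := hev
      exact ⟨k + 1, by omega⟩
    · rw [hvh]
      exact good_fromBlocks I M P' hM hP'

end Groth.Agent.Lib.T2H2.HermAlt
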