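import Mathlib
import Groth.Agent.Lib.T2H2MatUnits
import Groth.Agent.Lib.T2H2HermDiag
import Groth.Agent.Lib.T2H2HermAlt
import Groth.Agent.Lib.T2H2Herm22

set_option autoImplicit false
set_option linter.unusedSectionVars false

namespace Groth.Agent.Lib.T2H2.HermClass

open Matrix Groth.Agent.Lib.T2H2.MatUnits Groth.Agent.Lib.T2H2.HermDiag
  Groth.Agent.Lib.T2H2.HermAlt

universe u

section jn

variable {C : Type u} [CommRing C]

/-- the partner index -/
def swN (a : ℕ) : ℕ := if a % 2 = 0 then a + 1 else a - 1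

theorem swN_swN (a : ℕ) : swN (swN a) = a := by
  unfold swN
  split_ifs <;> omega

theorem swN_lt {n a : ℕ} (hn : Even n) (ha : a < n) : swN a < n := by
  obtain ⟨k, rfl⟩ := hn
  unfold swN
  split_ifs <;> omega

theorem jn_eq (a b : ℕ) :
    (jn a b : C) = if b = swN a then (if a % 2 = 0 then 1 else -1) else 0 := by
  unfold jn swN
  split_ifs
  all_goals first | rfl | (exfalso; omega)

/-- the standard alternating matrix -/
def Jn (C : Type u) [CommRing C] (n : ℕ) : Matrix (Fin n) (Fin n) C :=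
  Matrix.of fun i j => jn i.val j.val

theorem Jn_mul_Jn {n : ℕ} (hn : Even n) : Jn C n * Jn C n = -1 := by
  ext i k
  rw [Matrix.mul_apply, Finset.sum_eq_single (⟨swN i.val, swN_lt hn i.isLt⟩ : Fin n)]
  · simp only [Jn, Matrix.of_apply, Matrix.neg_apply, Matrix.one_apply]
    rw [jn_eq i.val, if_pos rfl, jn_eq (swN i.val), swN_swN]
    have h1 : swN i.val % 2 = 0 ↔ ¬ (i.val % 2 = 0) := by
      unfold swN
      split_ifs <;> omega
    by_cases hik : i = k
    · subst hik
      rw [if_pos rfl, if_pos rfl]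
      by_cases h0 : i.val % 2 = 0
      · rw [if_pos h0, if_neg (fun h => (h1.mp h) h0)]
        ring
      · rw [if_neg h0, if_pos (h1.mpr h0)]
        ring
    · have hki : ¬ (k.val = i.val) := fun h => hik (Fin.ext h.symm)
      simp [hki, hik]
  · intro l _ hl
    simp only [Jn, Matrix.of_apply]
    rw [jn_eq i.val, if_neg (fun h => hl (Fin.ext h)), zero_mul]
  · intro h
    exact absurd (Finset.mem_univ _) h

end jn

variable {C : Type u} [CommRing C] [StarRing C] {n : ℕ}

/-- a semilinear anti-involution of a matrix algebra is the adjoint involution of an invertible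
matrix `v` with `v = c • vᴴ` and `c * star c = 1`, when automorphisms are inner -/
theorem exists_conj_form (hn : 0 < n)
    (τ : Matrix (Fin n) (Fin n) C → Matrix (Fin n) (Fin n) C)
    (hadd : ∀ X Y, τ (X + Y) = τ X + τ Y) (hmul : ∀ X Y, τ (X * Y) = τ Y * τ X)
    (hinv : ∀ X, τ (τ X) = X) (hsmul : ∀ (c : C) X, τ (c • X) = star c • τ X)
    (HI : ∀ σ : Matrix (Fin n) (Fin n) C ≃ₐ[C] Matrix (Fin n) (Fin n) C,
      ∃ v v' : Matrix (Fin n) (Fin n) C, v * v' = 1 ∧ v' * v = 1 ∧ ∀ X, σ X * v = v * X) :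
    ∃ (v v' : Matrix (Fin n) (Fin n) C) (c : C), v * v' = 1 ∧ v' * v = 1 ∧
      (∀ Y, τ Y * v = v * Yᴴ) ∧ vᴴ = star c • v ∧ c * star c = 1 := by
  classical
  have hone : τ 1 = 1 := by
    calc τ 1 = τ 1 * τ (τ 1) := by rw [hinv, Matrix.mul_one]
      _ = τ (τ 1 * 1) := (hmul _ _).symm
      _ = 1 := by rw [Matrix.mul_one, hinv]
  let σ : Matrix (Fin n) (Fin n) C ≃ₐ[C] Matrix (Fin n) (Fin n) C :=
    { toFun := fun X => τ Xᴴ
      invFun := fun X => (τ X)ᴴ
      left_inv := fun X => by
        show (τ (τ Xᴴ))ᴴ = X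
        rw [hinv, conjTranspose_conjTranspose]
      right_inv := fun X => by
        show τ ((τ X)ᴴᴴ) = X
        rw [conjTranspose_conjTranspose, hinv]
      map_mul' := fun X Y => by
        show τ (X * Y)ᴴ = τ Xᴴ * τ Yᴴ
        rw [conjTranspose_mul, hmul]
      map_add' := fun X Y => by
        show τ (X + Y)ᴴ = τ Xᴴ + τ Yᴴ
        rw [conjTranspose_add, hadd]
      commutes' := fun c => by
        show τ (algebraMap C (Matrix (Fin n) (Fin n) C) c)ᴴ = algebraMap C _ c
        rw [Algebra.algebraMap_eq_smul_one, conjTranspose_smul, conjTranspose_one, hsmul,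
          star_star, hone] }
  obtain ⟨v, v', hvv', hv'v, hσ⟩ := HI σ
  have hτv : ∀ Y, τ Y * v = v * Yᴴ := by
    intro Y
    have := hσ Yᴴ
    rw [show σ Yᴴ = τ Yᴴᴴ from rfl, conjTranspose_conjTranspose] at this
    exact this
  have hv'H : v'ᴴ * vᴴ = 1 := by rw [← conjTranspose_mul, hvv', conjTranspose_one]
  have hvH' : vᴴ * v'ᴴ = 1 := by rw [← conjTranspose_mul, hv'v, conjTranspose_one]
  have hz : ∀ Y, Y * (v * v'ᴴ) = (v * v'ᴴ) * Y := by
    intro Y
    have h1 : Y * v = v * (τ Y)ᴴ := by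
      have := hτv (τ Y)
      rw [hinv] at this
      exact this
    have h2 : vᴴ * (τ Y)ᴴ = Y * vᴴ := by
      have := congrArg conjTranspose (hτv Y)
      rw [conjTranspose_mul, conjTranspose_mul, conjTranspose_conjTranspose] at this
      exact this
    calc Y * (v * v'ᴴ) = (Y * v) * v'ᴴ := by rw [Matrix.mul_assoc]
      _ = v * (τ Y)ᴴ * v'ᴴ := by rw [h1]
      _ = v * (v'ᴴ * vᴴ) * (τ Y)ᴴ * v'ᴴ := by rw [hv'H, Matrix.mul_one]
      _ = v * v'ᴴ * (vᴴ * (τ Y)ᴴ) * v'ᴴ := by simp only [Matrix.mul_assoc]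
      _ = v * v'ᴴ * (Y * vᴴ) * v'ᴴ := by rw [h2]
      _ = v * v'ᴴ * Y * (vᴴ * v'ᴴ) := by simp only [Matrix.mul_assoc]
      _ = v * v'ᴴ * Y := by rw [hvH', Matrix.mul_one]
  obtain ⟨c, hc⟩ : v * v'ᴴ ∈ Set.range (Matrix.scalar (Fin n)) :=
    mem_range_scalar_iff_commute_single'.mpr fun i j => hz _
  have hvc : v = c • vᴴ := by
    calc v = v * (v'ᴴ * vᴴ) := by rw [hv'H, Matrix.mul_one]
      _ = (v * v'ᴴ) * vᴴ := by rw [Matrix.mul_assoc]
      _ = c • vᴴ := by rw [← hc, Matrix.scalar_apply, ← Matrix.smul_one_eq_diagonal,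
          Matrix.smul_mul, Matrix.one_mul]
  have hvHc : vᴴ = star c • v := by
    have := congrArg conjTranspose hvc
    rw [conjTranspose_smul, conjTranspose_conjTranspose] at this
    exact this
  have hcc : c * star c = 1 := by
    have h1 : v = (c * star c) • v := by
      conv_lhs => rw [hvc, hvHc, smul_smul]
    have h2 : (1 : Matrix (Fin n) (Fin n) C) = (c * star c) • 1 := by
      calc (1 : Matrix (Fin n) (Fin n) C) = v * v' := hvv'.symm
        _ = ((c * star c) • v) * v' := by rw [← h1]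
        _ = (c * star c) • 1 := by rw [Matrix.smul_mul, hvv']
    have h3 := congrFun (congrFun h2 ⟨0, hn⟩) ⟨0, hn⟩
    rw [Matrix.smul_apply, Matrix.one_apply_eq, smul_eq_mul, mul_one] at h3
    exact h3.symm
  exact ⟨v, v', c, hvv', hv'v, hτv, hvHc, hcc⟩

/-- with `2` invertible the matrix can be taken hermitian or skew-hermitian -/
theorem exists_herm_form (hn : 0 < n) (h2 : IsUnit (2 : C))
    (HS : ∀ x : C, star x = x → ¬ IsUnit x → x ∈ Ring.jacobson C)
    (τ : Matrix (Fin n) (Fin n) C → Matrix (Fin n) (Fin n) C)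
    (hadd : ∀ X Y, τ (X + Y) = τ X + τ Y) (hmul : ∀ X Y, τ (X * Y) = τ Y * τ X)
    (hinv : ∀ X, τ (τ X) = X) (hsmul : ∀ (c : C) X, τ (c • X) = star c • τ X)
    (HI : ∀ σ : Matrix (Fin n) (Fin n) C ≃ₐ[C] Matrix (Fin n) (Fin n) C,
      ∃ v v' : Matrix (Fin n) (Fin n) C, v * v' = 1 ∧ v' * v = 1 ∧ ∀ X, σ X * v = v * X) :
    ∃ (w w' : Matrix (Fin n) (Fin n) C) (ε : C), (ε = 1 ∨ ε = -1) ∧ w * w' = 1 ∧ w' * w = 1 ∧
      (∀ Y, τ Y * w = w * Yᴴ) ∧ wᴴ = ε • w := by
  obtain ⟨v, v', c, hvv', hv'v, hτv, hvHc, hcc⟩ := exists_conj_form hn τ hadd hmul hinv hsmul HI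
  -- the scalar `s` with `star s * star c = ε * s`
  have key : ∃ (s s' ε : C), (ε = 1 ∨ ε = -1) ∧ s * s' = 1 ∧ star s * star c = ε * s := by
    by_cases hβ : IsUnit ((1 + c) * star (1 + c))
    · have hs : IsUnit (1 + star c) := by
        have := isUnit_of_mul_isUnit_right hβ
        simpa using this
      obtain ⟨s', hs'⟩ := hs.exists_right_inv
      refine ⟨1 + star c, s', 1, Or.inl rfl, hs', ?_⟩
      simp only [star_add, star_one, star_star]
      linear_combination hcc
    · have hβJ : (1 + c) * star (1 + c) ∈ Ring.jacobson C :=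
        HS _ (by simp [star_mul', mul_comm]) hβ
      have hsq : (1 + c) * (1 + c) ∈ Ring.jacobson C := by
        have h3 : (1 + c) * (1 + c) = c * ((1 + c) * star (1 + c)) := by
          simp only [star_add, star_one]
          linear_combination (-(1 + c)) * hcc
        rw [h3]
        exact Ideal.mul_mem_left _ _ hβJ
      have h1c : 1 + c ∈ Ring.jacobson C := by
        rw [← Ideal.jacobson_bot, Ideal.jacobson, Ideal.mem_sInf] at hsq ⊢
        intro M hM
        have := hsq hM
        exact (hM.2.isPrime.mem_or_mem this).elim id id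
      have hu : IsUnit (1 - c) := by
        have h3 : 1 - c = 2 + -(1 + c) := by ring
        rw [h3]
        exact isUnit_add_of_mem_jacobson h2 (neg_mem h1c)
      have hs : IsUnit (1 - star c) := by
        have := hu.star
        simpa using this
      obtain ⟨s', hs'⟩ := hs.exists_right_inv
      refine ⟨1 - star c, s', -1, Or.inr rfl, hs', ?_⟩
      simp only [star_sub, star_one, star_star]
      linear_combination (-1 : C) * hcc
  obtain ⟨s, s', ε, hε, hss', hsc⟩ := key
  refine ⟨s • v, s' • v', ε, hε, ?_, ?_, fun Y => ?_, ?_⟩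
  · rw [Matrix.smul_mul, Matrix.mul_smul, smul_smul, hvv', hss', one_smul]
  · rw [Matrix.smul_mul, Matrix.mul_smul, smul_smul, hv'v, mul_comm s' s, hss', one_smul]
  · rw [Matrix.mul_smul, hτv, Matrix.smul_mul]
  · rw [conjTranspose_smul, hvHc, smul_smul, hsc, smul_smul]

/-- matrix units adapted to the Gram matrix `G` of a hermitian form -/
theorem units_of_gram (τ : Matrix (Fin n) (Fin n) C → Matrix (Fin n) (Fin n) C)
    (w w' : Matrix (Fin n) (Fin n) C) (hww' : w * w' = 1) (hτw : ∀ Y, τ Y * w = w * Yᴴ)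
    (v₁ u₁ : Matrix (Fin n) (Fin n) C) (hvu : v₁ * u₁ = 1) (huv : u₁ * v₁ = 1)
    (G G' : Matrix (Fin n) (Fin n) C) (hG'G : G' * G = 1) (hgram : v₁ᴴ * w * v₁ = G) :
    IsMatUnits (fun i j => u₁ᴴ * single i j 1 * v₁ᴴ) ∧
      ∀ i j, τ (u₁ᴴ * single i j 1 * v₁ᴴ) =
        ∑ k, ∑ l, (G k j * G' i l) • (u₁ᴴ * single k l 1 * v₁ᴴ) := by
  classical
  have hu0H : u₁ᴴ * v₁ᴴ = 1 := by rw [← conjTranspose_mul, hvu, conjTranspose_one]
  have hv0H : v₁ᴴ * u₁ᴴ = 1 := by rw [← conjTranspose_mul, huv, conjTranspose_one]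
  have hwG : w = u₁ᴴ * G * u₁ := by
    rw [← hgram]
    calc w = (u₁ᴴ * v₁ᴴ) * w * (v₁ * u₁) := by rw [hu0H, hvu, Matrix.one_mul, Matrix.mul_one]
      _ = u₁ᴴ * (v₁ᴴ * w * v₁) * u₁ := by simp only [Matrix.mul_assoc]
  refine ⟨⟨?_, ?_⟩, ?_⟩
  · intro i j k l
    have h1 : u₁ᴴ * single i j 1 * v₁ᴴ * (u₁ᴴ * single k l 1 * v₁ᴴ)
        = u₁ᴴ * (single i j 1 * single k l 1) * v₁ᴴ := by
      calc u₁ᴴ * single i j 1 * v₁ᴴ * (u₁ᴴ * single k l 1 * v₁ᴴ)
          = u₁ᴴ * single i j 1 * (v₁ᴴ * u₁ᴴ) * single k l 1 * v₁ᴴ := by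
            simp only [Matrix.mul_assoc]
        _ = u₁ᴴ * (single i j 1 * single k l 1) * v₁ᴴ := by
            rw [hv0H, Matrix.mul_one]; simp only [Matrix.mul_assoc]
    rw [h1, (isMatUnits_single C n).1]
    split_ifs
    · rfl
    · rw [Matrix.mul_zero, Matrix.zero_mul]
  · rw [← Finset.sum_mul, ← Finset.mul_sum, (isMatUnits_single C n).2, Matrix.mul_one, hu0H]
  · intro i j
    have hcancel : ∀ X Y : Matrix (Fin n) (Fin n) C, X * w = Y * w → X = Y := by
      intro X Y h
      calc X = X * w * w' := by rw [Matrix.mul_assoc, hww', Matrix.mul_one]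
        _ = Y * w * w' := by rw [h]
        _ = Y := by rw [Matrix.mul_assoc, hww', Matrix.mul_one]
    have hM : G * single j i 1 * G' = ∑ k, ∑ l, (G k j * G' i l) • single k l (1 : C) := by
      ext a b
      rw [Matrix.mul_apply, Finset.sum_eq_single i]
      · rw [mul_single_apply_same, mul_one, Matrix.sum_apply, Finset.sum_eq_single a]
        · rw [Matrix.sum_apply, Finset.sum_eq_single b]
          · simp
          · intro l _ hl
            simp [hl]
          · intro h; exact absurd (Finset.mem_univ _) h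
        · intro k _ hk
          rw [Matrix.sum_apply]
          refine Finset.sum_eq_zero fun l _ => ?_
          simp [hk]
        · intro h; exact absurd (Finset.mem_univ _) h
      · intro x _ hx
        rw [mul_single_apply_of_ne _ _ _ _ _ hx, zero_mul]
      · intro h; exact absurd (Finset.mem_univ _) h
    have hsum : ∑ k, ∑ l, (G k j * G' i l) • (u₁ᴴ * single k l 1 * v₁ᴴ)
        = u₁ᴴ * (G * single j i 1 * G') * v₁ᴴ := by
      rw [hM, Matrix.mul_sum, Matrix.sum_mul]
      refine Finset.sum_congr rfl fun k _ => ?_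
      rw [Matrix.mul_sum, Matrix.sum_mul]
      refine Finset.sum_congr rfl fun l _ => ?_
      rw [Matrix.mul_smul, Matrix.smul_mul]
    apply hcancel
    rw [hτw, hsum]
    have h1 : (u₁ᴴ * single i j 1 * v₁ᴴ)ᴴ = v₁ * single j i 1 * u₁ := by
      rw [conjTranspose_mul, conjTranspose_mul, conjTranspose_conjTranspose,
        conjTranspose_conjTranspose, conjTranspose_single, star_one, Matrix.mul_assoc]
    rw [h1, hwG]
    calc u₁ᴴ * G * u₁ * (v₁ * single j i 1 * u₁)
        = u₁ᴴ * G * (u₁ * v₁) * single j i 1 * u₁ := by simp only [Matrix.mul_assoc]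
      _ = u₁ᴴ * G * single j i 1 * u₁ := by rw [huv, Matrix.mul_one]
      _ = u₁ᴴ * G * single j i 1 * (G' * G) * u₁ := by rw [hG'G, Matrix.mul_one]
      _ = u₁ᴴ * (G * single j i 1 * G') * (v₁ᴴ * u₁ᴴ) * G * u₁ := by
          rw [hv0H, Matrix.mul_one]; simp only [Matrix.mul_assoc]
      _ = u₁ᴴ * (G * single j i 1 * G') * v₁ᴴ * (u₁ᴴ * G * u₁) := by
          simp only [Matrix.mul_assoc]


theorem star_inv_of_symm {x y : C} (hx : star x = x) (hxy : x * y = 1) : star y = y := by
  calc star y = star y * (x * y) := by rw [hxy, mul_one]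
    _ = star (x * y) * y := by rw [star_mul', hx]; ring
    _ = y := by rw [hxy, star_one, one_mul]

/-- the `2 × 2` step over a local ring with square roots -/
theorem step22 [Nontrivial C] (h2 : IsUnit (2 : C))
    (HU : ∀ a : C, (star a = a ∨ star a = -a) → a ∉ Ring.jacobson C → IsUnit a)
    (HQ : ∀ x : C, star x = x → IsUnit x → ∃ y, star y = y ∧ y * y = x)
    (hid : ∀ a : C, star a - a ∈ Ring.jacobson C)
    (hanti : ∀ x : C, star x = -x → x ∈ Ring.jacobson C)
    (P : Matrix (Fin 2) (Fin 2) C) (hP : Herm (-1) P) (hb : IsUnit (P 0 1)) :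
    ∃ u : Matrix (Fin 2) (Fin 2) C, IsUnit u ∧ Good (⊥ : Ideal C) (uᴴ * P * u) := by
  have ha : star (P 0 0) = -P 0 0 := by
    have := hP.apply 0 0
    rw [neg_one_mul] at this
    linear_combination this
  have hd : star (P 1 1) = -P 1 1 := by
    have := hP.apply 1 1
    rw [neg_one_mul] at this
    linear_combination this
  have h10 : P 1 0 = -star (P 0 1) := by
    have := hP.apply 1 0
    rwa [neg_one_mul] at this
  have haJ := hanti _ ha
  have hT : IsUnit (P 0 1 + star (P 0 1)) := by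
    have h3 : P 0 1 + star (P 0 1) = 2 * P 0 1 + (star (P 0 1) - P 0 1) := by ring
    rw [h3]
    exact isUnit_add_of_mem_jacobson (h2.mul hb) (hid _)
  have hsT : star (P 0 1 + star (P 0 1)) = P 0 1 + star (P 0 1) := by
    rw [star_add, star_star, add_comm]
  have hadJ : 4 * P 0 0 * P 1 1 ∈ Ring.jacobson C := by
    rw [mul_assoc, mul_comm 4, mul_assoc]
    exact Ideal.mul_mem_right _ _ haJ
  have hs : IsUnit ((P 0 1 + star (P 0 1)) * (P 0 1 + star (P 0 1)) + 4 * P 0 0 * P 1 1) :=
    isUnit_add_of_mem_jacobson (hT.mul hT) hadJ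
  have hss : star ((P 0 1 + star (P 0 1)) * (P 0 1 + star (P 0 1)) + 4 * P 0 0 * P 1 1)
      = (P 0 1 + star (P 0 1)) * (P 0 1 + star (P 0 1)) + 4 * P 0 0 * P 1 1 := by
    rw [star_add, star_mul', hsT, star_mul', star_mul', ha, hd]
    simp only [star_ofNat]
    ring
  obtain ⟨X₀, hX₀s, hX₀⟩ := HQ _ hss hs
  -- choose the sign of the square root
  obtain ⟨X, hXs, hX, hXT⟩ : ∃ X : C, star X = X ∧
      X * X = (P 0 1 + star (P 0 1)) * (P 0 1 + star (P 0 1)) + 4 * P 0 0 * P 1 1 ∧
      X - (P 0 1 + star (P 0 1)) ∈ Ring.jacobson C := by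
    by_cases h3 : X₀ - (P 0 1 + star (P 0 1)) ∈ Ring.jacobson C
    · exact ⟨X₀, hX₀s, hX₀, h3⟩
    · refine ⟨-X₀, by rw [star_neg, hX₀s], by rw [neg_mul_neg, hX₀], ?_⟩
      by_contra h4
      have hu3 : IsUnit (X₀ - (P 0 1 + star (P 0 1))) :=
        HU _ (Or.inl (by rw [star_sub, hX₀s, hsT])) h3
      have hu4 : IsUnit (-X₀ - (P 0 1 + star (P 0 1))) :=
        HU _ (Or.inl (by rw [star_sub, star_neg, hX₀s, hsT])) h4
      have h5 : (X₀ - (P 0 1 + star (P 0 1))) * (-X₀ - (P 0 1 + star (P 0 1)))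
          = -(4 * P 0 0 * P 1 1) := by
        linear_combination (-1 : C) * hX₀
      have h6 := hu3.mul hu4
      rw [h5] at h6
      exact not_isUnit_of_mem_jacobson (neg_mem hadJ) h6
  have hTX : IsUnit (P 0 1 + star (P 0 1) + X) := by
    have h3 : P 0 1 + star (P 0 1) + X
        = 2 * (P 0 1 + star (P 0 1)) + (X - (P 0 1 + star (P 0 1))) := by ring
    rw [h3]
    exact isUnit_add_of_mem_jacobson (h2.mul hT) hXT
  obtain ⟨u, hu⟩ := hTX.exists_right_inv
  have hus : star u = u :=
    star_inv_of_symm (by rw [star_add, hsT, hXs]) hu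
  obtain ⟨hf, hhf⟩ := h2.exists_right_inv
  have shf : star hf = hf := star_inv_of_symm (by simp) hhf
  have hδ : IsUnit (2 * (P 0 0 * P 1 1 + P 0 1 * star (P 0 1))) := by
    refine h2.mul ?_
    rw [add_comm]
    exact isUnit_add_of_mem_jacobson (hb.mul hb.star) (Ideal.mul_mem_right _ _ haJ)
  obtain ⟨κ, hκ⟩ := hδ.exists_right_inv
  obtain ⟨v, hv, hvh⟩ := Groth.Agent.Lib.T2H2.Herm22.exists_normalize (P 0 0) (P 0 1) (P 1 1)
    X u κ hf ha hd hus hhf shf (by rw [mul_comm]; exact hu) hX hκ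
  have hPeq : P = !![P 0 0, P 0 1; -star (P 0 1), P 1 1] := by
    ext i j
    fin_cases i <;> fin_cases j <;> simp [h10]
  refine ⟨v, hv, ?_⟩
  rw [hPeq, hvh]
  intro i j
  refine ⟨?_, fun hne => absurd (by have := i.isLt; have := j.isLt; omega) hne⟩
  fin_cases i <;> fin_cases j <;> simp [jn]

/-- classification of semilinear anti-involutions of a matrix algebra: etale-locally there are
matrix units which the involution transposes, or transposes up to the standard alternating
matrix -/
theorem exists_units [Nontrivial C] (hn : 0 < n) (h2 : IsUnit (2 : C))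
    (HU : ∀ a : C, (star a = a ∨ star a = -a) → a ∉ Ring.jacobson C → IsUnit a)
    (HLoc : (∀ a : C, star a - a ∈ Ring.jacobson C) → IsLocalRing C)
    (HQ : ∀ x : C, star x = x → IsUnit x → ∃ y, star y = y ∧ y * y = x)
    (τ : Matrix (Fin n) (Fin n) C → Matrix (Fin n) (Fin n) C)
    (hadd : ∀ X Y, τ (X + Y) = τ X + τ Y) (hmul : ∀ X Y, τ (X * Y) = τ Y * τ X)
    (hinv : ∀ X, τ (τ X) = X) (hsmul : ∀ (c : C) X, τ (c • X) = star c • τ X)
    (HI : ∀ σ : Matrix (Fin n) (Fin n) C ≃ₐ[C] Matrix (Fin n) (Fin n) C,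
      ∃ v v' : Matrix (Fin n) (Fin n) C, v * v' = 1 ∧ v' * v = 1 ∧ ∀ X, σ X * v = v * X) :
    ∃ e : Fin n → Fin n → Matrix (Fin n) (Fin n) C, IsMatUnits e ∧
      ((∀ i j, τ (e i j) = e j i) ∨
        ((∀ a : C, star a - a ∈ Ring.jacobson C) ∧ Even n ∧
          ∀ i j, τ (e i j) =
            ∑ k, ∑ l, ((jn k.val j.val : C) * (-(jn i.val l.val : C))) • e k l)) := by
  classical
  have HS : ∀ x : C, star x = x → ¬ IsUnit x → x ∈ Ring.jacobson C := by
    intro x hx hnu
    by_contra hcon
    exact hnu (HU x (Or.inl hx) hcon)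
  obtain ⟨w, w', ε, hε, hww', hw'w, hτw, hwH⟩ :=
    exists_herm_form hn h2 HS τ hadd hmul hinv hsmul HI
  have hwu : IsUnit w := ⟨⟨w, w', hww', hw'w⟩, rfl⟩
  have hherm : Herm ε w := by
    show ε • wᴴ = w
    rw [hwH, smul_smul, eps_mul_eps hε, one_smul]
  by_cases hcase : (∃ a : C, star a - a ∉ Ring.jacobson C) ∨ ε + 1 ∉ Ring.jacobson C
  · -- the diagonalisable case
    obtain ⟨v₀, hv₀, d, hd⟩ := diag_of_cases hε HU w hwu hherm
      (hcase.elim Or.inl (fun h => Or.inr (Or.inl h)))
    obtain ⟨u₀, hvu, huv⟩ : ∃ u₀, v₀ * u₀ = 1 ∧ u₀ * v₀ = 1 := by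
      obtain ⟨⟨_, u₀, h1, h2⟩, rfl⟩ := hv₀
      exact ⟨u₀, h1, h2⟩
    have hdstar : ∀ i, star (d i) = ε * d i := by
      have h1 : (diagonal d)ᴴ = ε • diagonal d := by
        rw [← hd, conjTranspose_mul, conjTranspose_mul, conjTranspose_conjTranspose, hwH]
        simp only [Matrix.mul_smul, Matrix.smul_mul, Matrix.mul_assoc]
      rw [diagonal_conjTranspose, ← diagonal_smul] at h1
      intro i
      exact congrFun (diagonal_injective h1) i
    have hdu : ∀ i, IsUnit (d i) := by
      have h1 : IsUnit (diagonal d) := by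
        rw [← hd]
        exact (((isUnit_conjTranspose v₀).mpr hv₀).mul hwu).mul hv₀
      rw [isUnit_diagonal, Pi.isUnit_iff] at h1
      exact h1
    obtain ⟨μ', hμ'⟩ := (hdu ⟨0, hn⟩).exists_right_inv
    have hsμ' : star μ' = ε * μ' := by
      have h3 : star (d ⟨0, hn⟩) * star μ' = 1 := by rw [← star_mul', hμ', star_one]
      rw [hdstar] at h3
      have h4 := eps_mul_eps hε
      calc star μ' = (ε * ε) * ((d ⟨0, hn⟩ * μ') * star μ') := by
            rw [h4, hμ', one_mul, one_mul]
        _ = ε * μ' * (ε * d ⟨0, hn⟩ * star μ') := by ring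
        _ = ε * μ' := by rw [h3, mul_one]
    have hbs : ∀ i, star (d i * μ') = d i * μ' := by
      intro i
      rw [star_mul', hdstar, hsμ']
      have h4 := eps_mul_eps hε
      calc ε * d i * (ε * μ') = (ε * ε) * (d i * μ') := by ring
        _ = d i * μ' := by rw [h4, one_mul]
    have hbu : ∀ i, IsUnit (d i * μ') := fun i =>
      (hdu i).mul (IsUnit.of_mul_eq_one _ (by rw [mul_comm]; exact hμ'))
    choose y hys hy using fun i => HQ _ (hbs i) (hbu i)
    have hyu : ∀ i, IsUnit (y i) := fun i =>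
      isUnit_of_mul_isUnit_left (by rw [hy]; exact hbu i)
    choose y' hy' using fun i => (hyu i).exists_right_inv
    have hy's : ∀ i, star (y' i) = y' i := fun i => star_inv_of_symm (hys i) (hy' i)
    refine ⟨fun i j => (diagonal y * u₀)ᴴ * single i j 1 * (v₀ * diagonal y')ᴴ, ?_⟩
    have key := units_of_gram τ (μ' • w) (d ⟨0, hn⟩ • w')
      (by rw [Matrix.smul_mul, Matrix.mul_smul, smul_smul, hww', mul_comm, hμ', one_smul])
      (fun Y => by rw [Matrix.mul_smul, hτw, Matrix.smul_mul])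
      (v₀ * diagonal y') (diagonal y * u₀)
      (by
        calc v₀ * diagonal y' * (diagonal y * u₀) = v₀ * (diagonal y' * diagonal y) * u₀ := by
              simp only [Matrix.mul_assoc]
          _ = 1 := by
              rw [diagonal_mul_diagonal]
              have : (fun i => y' i * y i) = fun _ => (1 : C) := by
                funext i; rw [mul_comm]; exact hy' i
              rw [this, diagonal_one, Matrix.mul_one, hvu])
      (by
        calc diagonal y * u₀ * (v₀ * diagonal y') = diagonal y * (u₀ * v₀) * diagonal y' := by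
              simp only [Matrix.mul_assoc]
          _ = 1 := by
              rw [huv, Matrix.mul_one, diagonal_mul_diagonal]
              have : (fun i => y i * y' i) = fun _ => (1 : C) := by
                funext i; exact hy' i
              rw [this, diagonal_one])
      1 1 (Matrix.one_mul 1)
      (by
        rw [conjTranspose_mul, diagonal_conjTranspose]
        have h5 : star y' = y' := by funext i; exact hy's i
        rw [h5]
        calc diagonal y' * v₀ᴴ * (μ' • w) * (v₀ * diagonal y')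
            = μ' • (diagonal y' * (v₀ᴴ * w * v₀) * diagonal y') := by
              simp only [Matrix.mul_smul, Matrix.smul_mul, Matrix.mul_assoc]
          _ = 1 := by
              rw [hd, diagonal_mul_diagonal, diagonal_mul_diagonal, ← diagonal_smul,
                ← diagonal_one]
              congr 1
              funext i
              simp only [Pi.smul_apply, smul_eq_mul]
              calc μ' * (y' i * d i * y' i) = (d i * μ') * (y' i * y' i) := by ring
                _ = (y i * y' i) * (y i * y' i) := by rw [← hy i]; ring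
                _ = 1 := by rw [hy' i, one_mul])
    refine ⟨key.1, Or.inl fun i j => ?_⟩
    rw [key.2 i j]
    simp only [Matrix.one_apply]
    rw [Finset.sum_eq_single j]
    · rw [Finset.sum_eq_single i]
      · simp
      · intro l _ hl
        simp [hl.symm]
      · intro h; exact absurd (Finset.mem_univ _) h
    · intro k _ hk
      refine Finset.sum_eq_zero fun l _ => ?_
      simp [hk]
    · intro h; exact absurd (Finset.mem_univ _) h
  · -- the alternating case
    push Not at hcase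
    obtain ⟨hid, hε1⟩ := hcase
    have hεm : ε = -1 := by
      rcases hε with rfl | rfl
      · exfalso
        have : (2 : C) ∈ Ring.jacobson C := by
          have h3 : (1 : C) + 1 = 2 := by norm_num
          rw [← h3]
          exact hε1
        exact not_isUnit_of_mem_jacobson this h2
      · rfl
    subst hεm
    have hloc : IsLocalRing C := HLoc hid
    have hanti : ∀ x : C, star x = -x → x ∈ Ring.jacobson C := by
      intro x hx
      obtain ⟨c, hc⟩ := h2.exists_left_inv
      have h3 := hid x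
      rw [hx] at h3
      have h4 : x = (-c) * (-x - x) := by
        calc x = (c * 2) * x := by rw [hc, one_mul]
          _ = (-c) * (-x - x) := by ring
      rw [h4]
      exact Ideal.mul_mem_left _ _ h3
    obtain ⟨hev, v₀, hv₀, hgood⟩ := exists_good (⊥ : Ideal C) hanti
      (fun P hP hb => step22 h2 HU HQ hid hanti P hP hb) n w hwu hherm
    obtain ⟨u₀, hvu, huv⟩ : ∃ u₀, v₀ * u₀ = 1 ∧ u₀ * v₀ = 1 := by
      obtain ⟨⟨_, u₀, h1, h2⟩, rfl⟩ := hv₀
      exact ⟨u₀, h1, h2⟩
    have hgram : v₀ᴴ * w * v₀ = Jn C n := by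
      ext i j
      have := (hgood i j).1
      rw [Ideal.mem_bot, sub_eq_zero] at this
      exact this
    have key := units_of_gram τ w w' hww' hτw v₀ u₀ hvu huv (Jn C n) (-Jn C n)
      (by rw [Matrix.neg_mul, Jn_mul_Jn hev, neg_neg]) hgram
    exact ⟨_, key.1, Or.inr ⟨hid, hev, fun i j => key.2 i j⟩⟩

end Groth.Agent.Lib.T2H2.HermClass
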