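import Mathlib
import Groth.Agent.Lib.T2H2AzInvPat
import Groth.Agent.Lib.T2H2HermClass
import Groth.Agent.Lib.T2H2HensSqrt

/-!
# Classification of involutions of Azumaya algebras over strictly henselian local rings

Let `R` be a ring with involution `lam` with fixed ring `S`, let `(A, t)` be an Azumaya
`R`-algebra of degree `n` with a `lam`-involution and `B` a strictly henselian local flat
`S`-algebra in which `2` is invertible.  Then `B ⊗ A` has a full system of matrix units which the
involution transposes, or the involution of `B ⊗ R` is the identity modulo the radical, `n` is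
even and `B ⊗ A` has matrix units which the involution transposes up to the standard alternating
matrix.
-/

set_option autoImplicit false

namespace Groth.Agent.Lib.T2H2.AzInvClass

open scoped TensorProduct
open Matrix
open Groth.Agent.Lib.T2H2.MatUnits Groth.Agent.Lib.T2H2.AzInvSplit
  Groth.Agent.Lib.T2H2.AzInvInner Groth.Agent.Lib.T2H2.AzInvUnitary
  Groth.Agent.Lib.T2H2.AzInvIso Groth.Agent.Lib.T2H2.AzInvPat
  Groth.Agent.Lib.T2H2.HermAlt

universe u v w

/-- the structure constants of the transpose -/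
def cOrth (i j k l : ℕ) : ℤ := if k = j ∧ l = i then 1 else 0

/-- the structure constants of the standard symplectic involution -/
def cSymp (i j k l : ℕ) : ℤ := (jn k j : ℤ) * (-(jn i l : ℤ))

theorem jn_cast {C : Type*} [CommRing C] (a b : ℕ) : (((jn a b : ℤ)) : C) = jn a b := by
  unfold jn
  split_ifs <;> simp

theorem sum_cOrth {E : Type*} [CommRing E] {M : Type*} [AddCommGroup M] [Module E M] {n : ℕ}
    (e : Fin n → Fin n → M) (i j : Fin n) :
    ∑ k, ∑ l, castPat E n cOrth i j k l • e k l = e j i := by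
  rw [Finset.sum_eq_single j]
  · rw [Finset.sum_eq_single i]
    · simp [castPat, cOrth]
    · intro l _ hl
      have : ¬ (l.val = i.val) := fun h => hl (Fin.ext h)
      simp [castPat, cOrth, this]
    · intro h; exact absurd (Finset.mem_univ _) h
  · intro k _ hk
    refine Finset.sum_eq_zero fun l _ => ?_
    have : ¬ (k.val = j.val) := fun h => hk (Fin.ext h)
    simp [castPat, cOrth, this]
  · intro h; exact absurd (Finset.mem_univ _) h

section blevel

variable {S : Type u} {R : Type v} [CommRing S] [CommRing R] [Algebra S R]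
  (lam : R ≃ₐ[S] R) (hlam : ∀ r, lam (lam r) = r) (hfix : RInv.IsFixedRing S R lam.toRingEquiv)
  {A : Type w} [Ring A] [Algebra S A] [Algebra R A] [IsScalarTower S R A]
  (t : AzInv.LamInv R A lam)

include hlam hfix in
/-- over a strictly henselian local flat `S`-algebra `B` in which `2` is invertible, an Azumaya
algebra with a `lam`-involution has matrix units adapted to the transpose or to the standard
symplectic involution. -/
theorem exists_pat_of_strictHenselian (B : Type u) [CommRing B] [HenselianLocalRing B]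
    [IsSepClosed (IsLocalRing.ResidueField B)] [Algebra S B] [Module.Flat S B]
    (h2 : IsUnit (2 : B)) (n : ℕ) (hn : 0 < n) (hA : AzInv.IsAzumayaDeg R A n) :
    PatAdapted lam t B n (castPat B n cOrth) ∨
      ((∀ a : B ⊗[S] R, Algebra.TensorProduct.congr (AlgEquiv.refl : B ≃ₐ[S] B) lam a - a ∈
          Ring.jacobson (B ⊗[S] R)) ∧ Nontrivial (B ⊗[S] R) ∧ Even n ∧
        PatAdapted lam t B n (castPat B n cSymp)) := by
  classical
  have : Nonempty (Fin n) := ⟨⟨0, hn⟩⟩
  rcases subsingleton_or_nontrivial (B ⊗[S] R) with hsub | hnt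
  · -- the trivial case
    have hsubA : Subsingleton (B ⊗[S] A) := by
      have h1 : (1 : B ⊗[S] A) = 0 := by
        rw [← map_one (iotaE S R A B), Subsingleton.elim (1 : B ⊗[S] R) 0, map_zero]
      exact subsingleton_of_zero_eq_one h1.symm
    exact Or.inl ⟨fun _ _ => 0, ⟨fun _ _ _ _ => Subsingleton.elim _ _, Subsingleton.elim _ _⟩,
      fun _ _ => Subsingleton.elim _ _⟩
  have hfixB := Groth.Agent.S15586.result S R B lam (fun r => hlam r) hfix (Or.inl inferInstance)
  have hinvB := involutive_congr lam hlam B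
  obtain ⟨ι, _, T, _, _, hsc, ⟨φ⟩⟩ := Groth.Agent.Lib.T2H2.InvHens.main B (B ⊗[S] R)
    (Algebra.TensorProduct.congr (AlgEquiv.refl : B ≃ₐ[S] B) lam).toRingEquiv hinvB hfixB
  obtain ⟨ε, hε⟩ := exists_isMatUnits_of_strictHenselian lam hlam hfix A B n hA
  obtain ⟨f, hf⟩ := exists_iso_with_formula n hn hA ε hε
  let lamC : (B ⊗[S] R) ≃+* (B ⊗[S] R) :=
    (Algebra.TensorProduct.congr (AlgEquiv.refl : B ≃ₐ[S] B) lam).toRingEquiv
  have hlamC : ∀ c, lamC c = Algebra.TensorProduct.congr (AlgEquiv.refl : B ≃ₐ[S] B) lam c :=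
    fun _ => rfl
  let _ : StarRing (B ⊗[S] R) :=
    { star := lamC
      star_involutive := hinvB
      star_mul := fun a b => by
        show lamC (a * b) = lamC b * lamC a
        rw [map_mul, mul_comm]
      star_add := fun a b => map_add lamC a b }
  have hstar : ∀ c : B ⊗[S] R, star c = lamC c := fun _ => rfl
  -- the transported involution
  let τ : Matrix (Fin n) (Fin n) (B ⊗[S] R) → Matrix (Fin n) (Fin n) (B ⊗[S] R) :=
    fun X => f (t.bc S lam B (f.symm X))
  have hfsmul : ∀ (c : B ⊗[S] R) X, f.symm (c • X) = iotaE S R A B c * f.symm X := by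
    intro c X
    rw [hf, hf, smul_formula]
  have hfiota : ∀ (c : B ⊗[S] R) Z, f (iotaE S R A B c * Z) = c • f Z := by
    intro c Z
    apply f.symm.injective
    rw [hfsmul, AlgEquiv.symm_apply_apply, AlgEquiv.symm_apply_apply]
  have hadd : ∀ X Y, τ (X + Y) = τ X + τ Y := by
    intro X Y
    simp only [τ, map_add]
  have hmul : ∀ X Y, τ (X * Y) = τ Y * τ X := by
    intro X Y
    simp only [τ, map_mul, bc_mul]
  have hinv : ∀ X, τ (τ X) = X := by
    intro X
    simp only [τ, AlgEquiv.symm_apply_apply, bc_bc, AlgEquiv.apply_symm_apply]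
  have hsmul : ∀ (c : B ⊗[S] R) X, τ (c • X) = star c • τ X := by
    intro c X
    simp only [τ]
    rw [hfsmul, bc_mul, bc_iotaE, ← iotaE_central, hfiota]
    rfl
  have HI : ∀ σ : Matrix (Fin n) (Fin n) (B ⊗[S] R) ≃ₐ[B ⊗[S] R]
      Matrix (Fin n) (Fin n) (B ⊗[S] R),
      ∃ v v' : Matrix (Fin n) (Fin n) (B ⊗[S] R), v * v' = 1 ∧ v' * v = 1 ∧
        ∀ X, σ X * v = v * X := by
    intro σ
    have hAzM : IsAzumaya (B ⊗[S] R) (Matrix (Fin n) (Fin n) (B ⊗[S] R)) :=
      IsAzumaya.matrix (B ⊗[S] R) (Fin n)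
    exact exists_conj_of_prod (B ⊗[S] R) T φ (Matrix (Fin n) (Fin n) (B ⊗[S] R)) σ
  have h2C : IsUnit (2 : B ⊗[S] R) := by
    have := h2.map (algebraMap B (B ⊗[S] R))
    rwa [map_ofNat] at this
  have HU : ∀ a : B ⊗[S] R, (star a = a ∨ star a = -a) → a ∉ Ring.jacobson (B ⊗[S] R) →
      IsUnit a := by
    intro a ha hJ
    rcases ha with ha | ha
    · obtain ⟨b, rfl⟩ := (hfixB.2 a).mp ha
      by_contra hnu
      apply hJ
      apply Groth.Agent.Lib.Helper15.QuadEtale.algebraMap_mem_jacobson lamC hinvB hfixB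
      rw [IsLocalRing.mem_maximalIdeal]
      intro hb
      exact hnu (hb.map _)
    · have hex : ∃ M : Ideal (B ⊗[S] R), M.IsMaximal ∧ a ∉ M := by
        by_contra hcon
        push Not at hcon
        apply hJ
        rw [← Ideal.jacobson_bot]
        exact Ideal.mem_sInf.mpr fun M hM => hcon M hM.2
      obtain ⟨M, hM, haM⟩ := hex
      exact Groth.Agent.Lib.Helper15.QuadEtale.isUnit_of_anti_of_notMem lamC hinvB hfixB a ha M
        haM
  have HLoc : (∀ a : B ⊗[S] R, star a - a ∈ Ring.jacobson (B ⊗[S] R)) →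
      IsLocalRing (B ⊗[S] R) := by
    intro hid
    obtain ⟨M, hM⟩ := Ideal.exists_maximal (B ⊗[S] R)
    refine IsLocalRing.of_unique_max_ideal ⟨M, hM, fun N hN => ?_⟩
    rcases Groth.Agent.Lib.Helper15.QuadEtale.maximal_orbit lamC hinvB hfixB M N with h1 | h1
    · exact h1
    · rw [h1]
      ext x
      rw [Ideal.mem_comap]
      have hx : lamC x - x ∈ M := by
        have := hid x
        rw [← Ideal.jacobson_bot] at this
        exact (Ideal.mem_sInf.mp this) ⟨bot_le, hM⟩
      constructor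
      · intro h3
        have := sub_mem h3 hx
        simpa using this
      · intro h3
        have := add_mem hx h3
        simpa using this
  have HQ : ∀ x : B ⊗[S] R, star x = x → IsUnit x → ∃ y, star y = y ∧ y * y = x := by
    intro x hx hxu
    obtain ⟨b, rfl⟩ := (hfixB.2 x).mp hx
    have hbu : IsUnit b :=
      Groth.Agent.Lib.Helper15.QuadEtale.isUnit_of_isUnit_algebraMap lamC hfixB b hxu
    obtain ⟨y, hy⟩ := Groth.Agent.Lib.T2H2.HensSqrt.exists_sq_eq B h2 b hbu
    exact ⟨algebraMap B (B ⊗[S] R) y, (hfixB.2 _).mpr ⟨y, rfl⟩, by rw [← map_mul, hy]⟩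
  obtain ⟨e₁, he₁, hcases⟩ := Groth.Agent.Lib.T2H2.HermClass.exists_units hn h2C HU HLoc HQ τ
    hadd hmul hinv hsmul HI
  have htr : ∀ i j, t.bc S lam B (f.symm (e₁ i j)) = f.symm (τ (e₁ i j)) := by
    intro i j
    simp only [τ, AlgEquiv.symm_apply_apply]
  have hzs : ∀ (z : ℤ) (X : Matrix (Fin n) (Fin n) (B ⊗[S] R)),
      f.symm ((z : B ⊗[S] R) • X) = (z : B) • f.symm X := by
    intro z X
    rw [Int.cast_smul_eq_zsmul, map_zsmul, Int.cast_smul_eq_zsmul]
  rcases hcases with hO | ⟨hid, hev, hSp⟩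
  · refine Or.inl ⟨fun i j => f.symm (e₁ i j), he₁.mapEquiv f.symm.toRingEquiv, fun i j => ?_⟩
    rw [sum_cOrth, htr, hO]
  · refine Or.inr ⟨hid, hnt, hev, fun i j => f.symm (e₁ i j), he₁.mapEquiv f.symm.toRingEquiv,
      fun i j => ?_⟩
    rw [htr, hSp, map_sum]
    refine Finset.sum_congr rfl fun k _ => ?_
    rw [map_sum]
    refine Finset.sum_congr rfl fun l _ => ?_
    have h3 : ((jn k.val j.val : B ⊗[S] R) * (-(jn i.val l.val : B ⊗[S] R))) =
        ((cSymp i.val j.val k.val l.val : ℤ) : B ⊗[S] R) := by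
      simp only [cSymp, Int.cast_mul, Int.cast_neg, jn_cast]
    rw [h3, hzs]
    rfl

end blevel

end Groth.Agent.Lib.T2H2.AzInvClass
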