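import Mathlib
import Groth.Agent.Lib.T2H2AzInvPat
import Groth.Agent.Lib.T2H2AzInvClass
import Groth.Agent.Lib.Helper7AzFib

/-!
# Matrix algebras over an Azumaya algebra with involution

The matrix algebra `M_m(A)` over an Azumaya algebra `A` of degree `n` is Azumaya of degree
`m * n`, and matrix units of `E ⊗ A` adapted to periodic structure constants induce such matrix
units of `E ⊗ M_m(A)` for the involution induced on the matrix algebra.
-/

set_option autoImplicit false

namespace Groth.Agent.Lib.T2H2.AzInvMat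

open scoped TensorProduct
open Groth.Agent.Lib.T2H2.MatUnits Groth.Agent.Lib.T2H2.AzInvPat

universe u v w

section rho

variable {S : Type*} [CommRing S] {A : Type*} [Ring A] [Algebra S A]
  (E : Type*) [CommRing E] [Algebra S E] {m : ℕ}

/-- the inclusion of `E ⊗ A` in `E ⊗ M_m(A)` at the place `(k, l)` -/
noncomputable def rho (k l : Fin m) : E ⊗[S] A →ₗ[E] E ⊗[S] Matrix (Fin m) (Fin m) A :=
  LinearMap.baseChange E (Matrix.singleLinearMap S k l)

theorem rho_tmul (k l : Fin m) (b : E) (a : A) :
    rho (S := S) E k l (b ⊗ₜ[S] a) = b ⊗ₜ[S] Matrix.single k l a := by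
  simp [rho]

theorem rho_mul (k l k' l' : Fin m) (x y : E ⊗[S] A) :
    rho E k l x * rho E k' l' y = if l = k' then rho E k l' (x * y) else 0 := by
  induction x using TensorProduct.induction_on with
  | zero => simp
  | add x x' hx hx' =>
    rw [map_add, add_mul, hx, hx', add_mul]
    split_ifs
    · rw [map_add]
    · rw [add_zero]
  | tmul b a =>
    induction y using TensorProduct.induction_on with
    | zero => simp
    | add y₁ y₂ hy hy' =>
      rw [map_add, mul_add, hy, hy', mul_add]
      split_ifs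
      · rw [map_add]
      · rw [add_zero]
    | tmul b' a' =>
      rw [rho_tmul, rho_tmul, Algebra.TensorProduct.tmul_mul_tmul,
        Algebra.TensorProduct.tmul_mul_tmul]
      split_ifs with h
      · subst h
        rw [rho_tmul, Matrix.single_mul_single_same]
      · rw [Matrix.single_mul_single_of_ne _ _ _ _ h, TensorProduct.tmul_zero]

theorem sum_rho_one : ∑ k : Fin m, rho (S := S) (A := A) E k k 1 = 1 := by
  have h1 : ∀ k : Fin m, rho (S := S) (A := A) E k k 1 = (1 : E) ⊗ₜ[S] Matrix.single k k 1 := by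
    intro k
    rw [Algebra.TensorProduct.one_def, rho_tmul]
  simp_rw [h1]
  rw [← TensorProduct.tmul_sum, Matrix.sum_single_one, Algebra.TensorProduct.one_def]

end rho

section matBC

variable {S : Type*} [CommRing S] {A : Type*} [Ring A] [Algebra S A]
  (E : Type*) [CommRing E] [Algebra S E] (m : ℕ)

/-- the comparison map from the base change of a matrix algebra -/
noncomputable def matBCHom :
    E ⊗[S] Matrix (Fin m) (Fin m) A →ₐ[E] Matrix (Fin m) (Fin m) (E ⊗[S] A) :=
  Algebra.TensorProduct.lift (Algebra.ofId E _)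
    ((Algebra.TensorProduct.includeRight : A →ₐ[S] E ⊗[S] A).mapMatrix)
    (fun x _ => Algebra.commutes x _)

theorem matBCHom_tmul_apply (b : E) (M : Matrix (Fin m) (Fin m) A) (k l : Fin m) :
    matBCHom (S := S) E m (b ⊗ₜ[S] M) k l = b ⊗ₜ[S] M k l := by
  simp only [matBCHom, Algebra.TensorProduct.lift_tmul, Algebra.ofId_apply, AlgHom.mapMatrix_apply]
  rw [Algebra.algebraMap_eq_smul_one, Matrix.smul_mul, Matrix.one_mul, Matrix.smul_apply,
    Matrix.map_apply]
  show b • ((1 : E) ⊗ₜ[S] M k l) = _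
  rw [TensorProduct.smul_tmul', smul_eq_mul, mul_one]

theorem matBCHom_rho (k l : Fin m) (x : E ⊗[S] A) :
    matBCHom E m (rho E k l x) = Matrix.single k l x := by
  induction x using TensorProduct.induction_on with
  | zero => simp
  | add x y hx hy => rw [map_add, map_add, hx, hy, Matrix.single_add]
  | tmul b a =>
    rw [rho_tmul]
    ext i j
    rw [matBCHom_tmul_apply, Matrix.single_apply, Matrix.single_apply]
    split_ifs
    · rfl
    · rw [TensorProduct.tmul_zero]

/-- the inverse of the comparison map -/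
noncomputable def matBCInv (X : Matrix (Fin m) (Fin m) (E ⊗[S] A)) :
    E ⊗[S] Matrix (Fin m) (Fin m) A := ∑ k, ∑ l, rho E k l (X k l)

theorem matBCHom_matBCInv (X : Matrix (Fin m) (Fin m) (E ⊗[S] A)) :
    matBCHom E m (matBCInv E m X) = X := by
  unfold matBCInv
  rw [map_sum]
  simp_rw [map_sum, matBCHom_rho]
  exact (Matrix.matrix_eq_sum_single X).symm

theorem matBCInv_matBCHom (z : E ⊗[S] Matrix (Fin m) (Fin m) A) :
    matBCInv E m (matBCHom E m z) = z := by
  induction z using TensorProduct.induction_on with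
  | zero =>
    unfold matBCInv
    simp
  | add x y hx hy =>
    rw [map_add]
    unfold matBCInv at hx hy ⊢
    simp only [Matrix.add_apply, map_add, Finset.sum_add_distrib]
    rw [hx, hy]
  | tmul b M =>
    unfold matBCInv
    simp_rw [matBCHom_tmul_apply, rho_tmul]
    simp_rw [← TensorProduct.tmul_sum]
    rw [← Matrix.matrix_eq_sum_single M]

/-- base change commutes with the formation of matrix algebras -/
noncomputable def matBC :
    E ⊗[S] Matrix (Fin m) (Fin m) A ≃ₐ[E] Matrix (Fin m) (Fin m) (E ⊗[S] A) :=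
  AlgEquiv.ofBijective (matBCHom E m)
    ⟨Function.LeftInverse.injective (matBCInv_matBCHom E m),
      Function.RightInverse.surjective (matBCHom_matBCInv E m)⟩

end matBC

section azumaya

variable {R : Type*} [CommRing R] (A : Type*) [Ring A] [Algebra R A]

omit [Ring A] [Algebra R A] in
theorem projective_pi {ι : Type*} [Fintype ι] [DecidableEq ι] (M : ι → Type*)
    [∀ i, AddCommGroup (M i)] [∀ i, Module R (M i)] (h : ∀ i, Module.Projective R (M i)) :
    Module.Projective R (∀ i, M i) :=
  Module.Projective.of_equiv (DirectSum.linearEquivFunOnFintype R ι M)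

/-- matrix algebras over Azumaya algebras are Azumaya -/
theorem isAzumaya_matrix [IsAzumaya R A] (m : ℕ) (hm : 0 < m) :
    IsAzumaya R (Matrix (Fin m) (Fin m) A) := by
  have : Nonempty (Fin m) := ⟨⟨0, hm⟩⟩
  have hfin : Module.Finite R (Matrix (Fin m) (Fin m) A) :=
    inferInstanceAs (Module.Finite R (Fin m → Fin m → A))
  have hproj : Module.Projective R (Matrix (Fin m) (Fin m) A) :=
    projective_pi (fun _ : Fin m => Fin m → A) fun _ =>
      projective_pi (fun _ : Fin m => A) fun _ => inferInstance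
  refine Groth.Agent.Lib.Helper7.AzFib.isAzumaya_of_fibres _ fun p _ => ?_
  obtain ⟨hc, hs⟩ := Groth.Agent.Lib.Helper7.AzFib.fibre_csa_of_isAzumaya A p
  let φ := matBC (S := R) (A := A) p.ResidueField m
  have h1 : Algebra.IsCentral p.ResidueField
      (Matrix (Fin m) (Fin m) (p.ResidueField ⊗[R] A)) := inferInstance
  have h2 : IsSimpleRing (Matrix (Fin m) (Fin m) (p.ResidueField ⊗[R] A)) := inferInstance
  exact ⟨Algebra.IsCentral.of_algEquiv _ _ _ φ.symm, IsSimpleRing.of_ringEquiv φ.symm.toRingEquiv h2⟩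

/-- the degree of a matrix algebra over an Azumaya algebra -/
theorem isAzumayaDeg_matrix {n : ℕ} (hA : AzInv.IsAzumayaDeg R A n) (m : ℕ) (hm : 0 < m) :
    AzInv.IsAzumayaDeg R (Matrix (Fin m) (Fin m) A) (m * n) := by
  have := hA.1
  refine ⟨isAzumaya_matrix A m hm, fun p => ?_⟩
  have h1 : Module.rankAtStalk (Matrix (Fin m) (Fin m) A) p =
      Module.rankAtStalk (Fin m → Fin m → A) p := rfl
  have hfl : ∀ _ : Fin m, Module.Flat R (Fin m → A) := fun _ =>
    @Module.Flat.of_projective R _ _ _ _ (projective_pi (fun _ : Fin m => A) fun _ => inferInstance)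
  rw [h1, @Module.rankAtStalk_pi R _ (Fin m) _ (fun _ => Fin m → A) _ _ hfl _ p,
    finsum_eq_sum_of_fintype]
  simp_rw [Module.rankAtStalk_pi, finsum_eq_sum_of_fintype, hA.2]
  simp only [Finset.sum_const, Finset.card_univ, Fintype.card_fin, smul_eq_mul]
  ring

end azumaya

section k4

variable {S : Type u} {R : Type v} [CommRing S] [CommRing R] [Algebra S R]
  (lam : R ≃ₐ[S] R)
  {A : Type w} [Ring A] [Algebra S A] [Algebra R A] [IsScalarTower S R A]
  (t : AzInv.LamInv R A lam)
  {E : Type*} [CommRing E] [Algebra S E]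

omit [Algebra S A] [IsScalarTower S R A] in
theorem matrix_single (m : ℕ) (k l : Fin m) (a : A) :
    t.matrix (Fin m) (Matrix.single k l a) = Matrix.single l k (t a) := by
  ext i j
  rw [AzInv.LamInv.matrix_apply, Matrix.single_apply, Matrix.single_apply]
  by_cases h : k = j ∧ l = i
  · rw [if_pos h, if_pos ⟨h.2, h.1⟩]
  · rw [if_neg h, if_neg (fun h' => h ⟨h'.2, h'.1⟩), t.map_zero]

theorem matrix_bc_rho (m : ℕ) (k l : Fin m) (x : E ⊗[S] A) :
    (t.matrix (Fin m)).bc S lam E (rho E k l x) = rho E l k (t.bc S lam E x) := by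
  induction x using TensorProduct.induction_on with
  | zero => simp
  | add x y hx hy => rw [map_add, map_add, hx, hy, map_add, map_add]
  | tmul b a =>
    rw [rho_tmul, AzInv.LamInv.bc_tmul, AzInv.LamInv.bc_tmul, rho_tmul, matrix_single]

theorem sum_prod_ite {M : Type*} [AddCommMonoid M] {m n : ℕ} (K L : Fin m)
    (G : Fin n → Fin n → M) :
    ∑ x : Fin m × Fin n, ∑ y : Fin m × Fin n,
      (if x.1 = K ∧ y.1 = L then G x.2 y.2 else 0) = ∑ i, ∑ j, G i j := by
  rw [Fintype.sum_prod_type, Finset.sum_eq_single K]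
  · refine Finset.sum_congr rfl fun i _ => ?_
    rw [Fintype.sum_prod_type, Finset.sum_eq_single L]
    · refine Finset.sum_congr rfl fun j _ => ?_
      rw [if_pos ⟨rfl, rfl⟩]
    · intro l _ hl
      refine Finset.sum_eq_zero fun j _ => ?_
      rw [if_neg (fun h => hl h.2)]
    · intro h; exact absurd (Finset.mem_univ _) h
  · intro k _ hk
    refine Finset.sum_eq_zero fun i _ => ?_
    refine Finset.sum_eq_zero fun y _ => ?_
    rw [if_neg (fun h => hk h.1)]
  · intro h; exact absurd (Finset.mem_univ _) h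

/-- matrix units adapted to periodic structure constants induce such matrix units of the matrix
algebra -/
theorem patAdapted_matrix (c : ℕ → ℕ → ℕ → ℕ → ℤ) (n m : ℕ)
    (hper : ∀ k l k' l' i j i' j', i < n → j < n → i' < n → j' < n →
      c (i + n * k) (j + n * l) (i' + n * k') (j' + n * l') =
        if k' = l ∧ l' = k then c i j i' j' else 0)
    (h : PatAdapted lam t E n (castPat E n c)) :
    PatAdapted lam (t.matrix (Fin m)) E (m * n) (castPat E (m * n) c) := by
  classical
  obtain ⟨e, he, het⟩ := h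
  let π : Fin (m * n) → Fin m × Fin n := finProdFinEquiv.symm
  have hπ : ∀ a : Fin (m * n), a.val = (π a).2.val + n * (π a).1.val := by
    intro a
    have h1 : (finProdFinEquiv (π a)).val = a.val :=
      congrArg Fin.val (finProdFinEquiv.apply_symm_apply a)
    exact h1.symm.trans rfl
  have hπinj : ∀ a b : Fin (m * n), π a = π b → a = b :=
    fun a b hab => finProdFinEquiv.symm.injective hab
  refine ⟨fun a b => rho E (π a).1 (π b).1 (e (π a).2 (π b).2), ⟨fun a b c' d => ?_, ?_⟩,
    fun a b => ?_⟩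
  · rw [rho_mul, he.1]
    by_cases hbc : b = c'
    · subst hbc
      rw [if_pos rfl, if_pos rfl, if_pos rfl]
    · rw [if_neg hbc]
      by_cases h1 : (π b).1 = (π c').1
      · rw [if_pos h1]
        have h2 : (π b).2 ≠ (π c').2 := fun h2 => hbc (hπinj b c' (Prod.ext h1 h2))
        rw [if_neg h2, map_zero]
      · rw [if_neg h1]
  · have h1 : ∑ a : Fin (m * n), rho E (π a).1 (π a).1 (e (π a).2 (π a).2) =
        ∑ x : Fin m × Fin n, rho E x.1 x.1 (e x.2 x.2) :=
      Fintype.sum_equiv finProdFinEquiv.symm _ _ (fun a => rfl)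
    rw [h1, Fintype.sum_prod_type]
    simp_rw [← map_sum, he.2]
    exact sum_rho_one E
  · rw [matrix_bc_rho, het, map_sum]
    have h1 : ∑ a' : Fin (m * n), ∑ b' : Fin (m * n), castPat E (m * n) c a b a' b' •
          rho E (π a').1 (π b').1 (e (π a').2 (π b').2) =
        ∑ x : Fin m × Fin n, ∑ y : Fin m × Fin n,
          (if x.1 = (π b).1 ∧ y.1 = (π a).1 then
            castPat E n c (π a).2 (π b).2 x.2 y.2 • rho E (π b).1 (π a).1 (e x.2 y.2) else 0) := by
      refine Fintype.sum_equiv finProdFinEquiv.symm _ _ (fun a' => ?_)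
      refine Fintype.sum_equiv finProdFinEquiv.symm _ _ (fun b' => ?_)
      show castPat E (m * n) c a b a' b' • rho E (π a').1 (π b').1 (e (π a').2 (π b').2) =
        (if (π a').1 = (π b).1 ∧ (π b').1 = (π a).1 then
            castPat E n c (π a).2 (π b).2 (π a').2 (π b').2 •
              rho E (π b).1 (π a).1 (e (π a').2 (π b').2) else 0)
      have h3 : castPat E (m * n) c a b a' b' =
          if ((π a').1 : ℕ) = (π b).1 ∧ ((π b').1 : ℕ) = (π a).1 then
            castPat E n c (π a).2 (π b).2 (π a').2 (π b').2 else 0 := by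
        unfold castPat
        rw [hπ a, hπ b, hπ a', hπ b', hper _ _ _ _ _ _ _ _ (π a).2.isLt (π b).2.isLt
          (π a').2.isLt (π b').2.isLt]
        split_ifs
        · rfl
        · rw [Int.cast_zero]
      rw [h3]
      by_cases h4 : (π a').1 = (π b).1 ∧ (π b').1 = (π a).1
      · rw [if_pos h4, if_pos ⟨congrArg Fin.val h4.1, congrArg Fin.val h4.2⟩, h4.1, h4.2]
      · rw [if_neg h4, if_neg (fun h5 => h4 ⟨Fin.ext h5.1, Fin.ext h5.2⟩), zero_smul]
    rw [h1, sum_prod_ite (π b).1 (π a).1 (fun i' j' =>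
      castPat E n c (π a).2 (π b).2 i' j' • rho E (π b).1 (π a).1 (e i' j'))]
    refine Finset.sum_congr rfl fun i' _ => ?_
    rw [map_sum]
    refine Finset.sum_congr rfl fun j' _ => ?_
    rw [map_smul]

end k4

section periodic

open Groth.Agent.Lib.T2H2.AzInvClass Groth.Agent.Lib.T2H2.HermAlt

theorem cOrth_periodic (n : ℕ) (k l k' l' i j i' j' : ℕ) (hi : i < n) (hj : j < n)
    (hi' : i' < n) (hj' : j' < n) :
    cOrth (i + n * k) (j + n * l) (i' + n * k') (j' + n * l') =
      if k' = l ∧ l' = k then cOrth i j i' j' else 0 := by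
  have key : ∀ a b x y : ℕ, a < n → b < n → (a + n * x = b + n * y ↔ x = y ∧ a = b) := by
    intro a b x y ha hb
    constructor
    · intro h
      have h1 : (a + n * x) / n = (b + n * y) / n := by rw [h]
      have hn : 0 < n := by omega
      rw [Nat.add_mul_div_left _ _ hn, Nat.add_mul_div_left _ _ hn, Nat.div_eq_of_lt ha,
        Nat.div_eq_of_lt hb, zero_add, zero_add] at h1
      subst h1
      exact ⟨rfl, by omega⟩
    · rintro ⟨rfl, rfl⟩
      rfl
  unfold cOrth
  by_cases h1 : k' = l ∧ l' = k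
  · rw [if_pos h1]
    by_cases h2 : i' = j ∧ j' = i
    · rw [if_pos h2, if_pos ⟨(key _ _ _ _ hi' hj).mpr ⟨h1.1, h2.1⟩,
        (key _ _ _ _ hj' hi).mpr ⟨h1.2, h2.2⟩⟩]
    · rw [if_neg h2, if_neg]
      rintro ⟨h3, h4⟩
      exact h2 ⟨((key _ _ _ _ hi' hj).mp h3).2, ((key _ _ _ _ hj' hi).mp h4).2⟩
  · rw [if_neg h1, if_neg]
    rintro ⟨h3, h4⟩
    exact h1 ⟨((key _ _ _ _ hi' hj).mp h3).1, ((key _ _ _ _ hj' hi).mp h4).1⟩

theorem jn_periodic (n : ℕ) (hn : Even n) (a b x y : ℕ) (ha : a < n) (hb : b < n) :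
    (jn (a + n * x) (b + n * y) : ℤ) = if x = y then jn a b else 0 := by
  obtain ⟨r, rfl⟩ := hn
  have h0 : ∀ z : ℕ, (r + r) * z = 2 * (r * z) := fun z => by ring
  have h1 : ∀ c z : ℕ, (c + (r + r) * z) / 2 = c / 2 + r * z := by
    intro c z
    rw [h0, Nat.add_mul_div_left _ _ (by norm_num : 0 < 2)]
  have h2 : ∀ c z : ℕ, (c + (r + r) * z) % 2 = c % 2 := by
    intro c z
    rw [h0, Nat.add_mul_mod_self_left]
  unfold jn
  rw [h1, h1, h2, h2]
  by_cases hxy : x = y
  · subst hxy
    rw [if_pos rfl]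
    by_cases h3 : a / 2 = b / 2
    · rw [if_pos h3, if_pos (by rw [h3])]
    · rw [if_neg h3, if_neg (fun h => h3 (by omega))]
  · rw [if_neg hxy, if_neg]
    intro h
    apply hxy
    have ha2 : a / 2 < r := by omega
    have hb2 : b / 2 < r := by omega
    have h5 : (a / 2 + r * x) / r = (b / 2 + r * y) / r := by rw [h]
    have hr : 0 < r := by omega
    rw [Nat.add_mul_div_left _ _ hr, Nat.add_mul_div_left _ _ hr, Nat.div_eq_of_lt ha2,
      Nat.div_eq_of_lt hb2, zero_add, zero_add] at h5
    exact h5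

theorem cSymp_periodic (n : ℕ) (hn : Even n) (k l k' l' i j i' j' : ℕ) (hi : i < n) (hj : j < n)
    (hi' : i' < n) (hj' : j' < n) :
    cSymp (i + n * k) (j + n * l) (i' + n * k') (j' + n * l') =
      if k' = l ∧ l' = k then cSymp i j i' j' else 0 := by
  unfold cSymp
  rw [jn_periodic n hn _ _ _ _ hi' hj, jn_periodic n hn _ _ _ _ hi hj']
  by_cases h1 : k' = l
  · by_cases h2 : k = l'
    · rw [if_pos h1, if_pos h2, if_pos ⟨h1, h2.symm⟩]
    · rw [if_pos h1, if_neg h2, if_neg (show ¬(k' = l ∧ l' = k) from fun h => h2 h.2.symm),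
        neg_zero, mul_zero]
  · rw [if_neg h1, if_neg (show ¬(k' = l ∧ l' = k) from fun h => h1 h.1), zero_mul]

end periodic

end Groth.Agent.Lib.T2H2.AzInvMat
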