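import Mathlib
import Groth.Agent.Lib.T2H2HermAlt

/-!
# An orthogonal and a symplectic involution of matrix algebras are not isomorphic

Let `C` be a nontrivial commutative ring with an involution which is the identity modulo the
Jacobson radical, in which `2` is invertible.  The conjugate transpose of a matrix algebra over
`C` is not isomorphic to the adjoint involution of a skew-hermitian matrix.
-/

set_option autoImplicit false

namespace Groth.Agent.Lib.T2H2.HermMu

open Matrix Groth.Agent.Lib.T2H2.HermAlt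

universe u

variable {C : Type u} [CommRing C] [StarRing C]

theorem mu_lemma [Nontrivial C] (h2 : IsUnit (2 : C))
    (hid : ∀ a : C, star a - a ∈ Ring.jacobson C) {N N' : ℕ} (hN : 0 < N)
    (HI : ∀ σ : Matrix (Fin N) (Fin N) C ≃ₐ[C] Matrix (Fin N) (Fin N) C,
      ∃ v v' : Matrix (Fin N) (Fin N) C, v * v' = 1 ∧ v' * v = 1 ∧ ∀ X, σ X * v = v * X)
    (K K' : Matrix (Fin N') (Fin N') C) (hK'K : K' * K = 1) (hKH : K'ᴴ = -K')
    (G : Matrix (Fin N) (Fin N) C ≃ₐ[C] Matrix (Fin N') (Fin N') C)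
    (hG : ∀ X, G Xᴴ = K * (G X)ᴴ * K') : False := by
  classical
  have hNN : N = N' := by
    have h1 := G.toLinearEquiv.finrank_eq
    rw [Module.finrank_matrix, Module.finrank_matrix] at h1
    simp only [Fintype.card_fin, Module.finrank_self, mul_one] at h1
    exact Nat.mul_self_inj.mp h1
  subst hNN
  obtain ⟨v, v', hvv', hv'v, hσ⟩ := HI G
  have hGX : ∀ X, G X = v * X * v' := by
    intro X
    calc G X = G X * (v * v') := by rw [hvv', Matrix.mul_one]
      _ = (G X * v) * v' := by rw [Matrix.mul_assoc]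
      _ = v * X * v' := by rw [hσ]
  have hvH : vᴴ * v'ᴴ = 1 := by rw [← conjTranspose_mul, hv'v, conjTranspose_one]
  have hv'H : v'ᴴ * vᴴ = 1 := by rw [← conjTranspose_mul, hvv', conjTranspose_one]
  -- the element `g = vᴴ K' v` is central
  have hcomm : ∀ Y : Matrix (Fin N) (Fin N) C, (vᴴ * K' * v) * Y = Y * (vᴴ * K' * v) := by
    intro Y
    have h1 := hG Yᴴ
    rw [conjTranspose_conjTranspose, hGX, hGX, conjTranspose_mul, conjTranspose_mul,
      conjTranspose_conjTranspose] at h1
    calc vᴴ * K' * v * Y = vᴴ * K' * (v * Y * (v' * v)) := by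
          rw [hv'v, Matrix.mul_one]
          simp only [Matrix.mul_assoc]
      _ = vᴴ * K' * (v * Y * v') * v := by simp only [Matrix.mul_assoc]
      _ = vᴴ * K' * (K * (v'ᴴ * (Y * vᴴ)) * K') * v := by rw [h1]
      _ = vᴴ * (K' * K) * v'ᴴ * Y * (vᴴ * K' * v) := by simp only [Matrix.mul_assoc]
      _ = Y * (vᴴ * K' * v) := by rw [hK'K, Matrix.mul_one, hvH, Matrix.one_mul]
  obtain ⟨μ, hμ⟩ : vᴴ * K' * v ∈ Set.range (Matrix.scalar (Fin N)) :=
    mem_range_scalar_iff_commute_single'.mpr fun i j => (hcomm _).symm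
  rw [Matrix.scalar_apply, ← Matrix.smul_one_eq_diagonal] at hμ
  -- `star μ = -μ`
  have hgH : (vᴴ * K' * v)ᴴ = -(vᴴ * K' * v) := by
    rw [conjTranspose_mul, conjTranspose_mul, conjTranspose_conjTranspose, hKH]
    simp only [Matrix.mul_neg, Matrix.neg_mul, Matrix.mul_assoc]
  rw [← hμ, conjTranspose_smul, conjTranspose_one] at hgH
  have hsμ : star μ = -μ := by
    have := congrFun (congrFun hgH ⟨0, hN⟩) ⟨0, hN⟩
    simpa using this
  -- `μ` is a unit
  have hunit : IsUnit μ := by
    have h1 : (vᴴ * K' * v) * (v' * K * v'ᴴ) = 1 := by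
      calc vᴴ * K' * v * (v' * K * v'ᴴ) = vᴴ * K' * (v * v') * K * v'ᴴ := by
            simp only [Matrix.mul_assoc]
        _ = vᴴ * (K' * K) * v'ᴴ := by rw [hvv', Matrix.mul_one]; simp only [Matrix.mul_assoc]
        _ = 1 := by rw [hK'K, Matrix.mul_one, hvH]
    rw [← hμ, Matrix.smul_mul, Matrix.one_mul] at h1
    have := congrFun (congrFun h1 ⟨0, hN⟩) ⟨0, hN⟩
    rw [Matrix.smul_apply, Matrix.one_apply_eq, smul_eq_mul] at this
    exact IsUnit.of_mul_eq_one _ this
  -- contradiction
  have hμJ : μ ∈ Ring.jacobson C := by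
    obtain ⟨c, hc⟩ := h2.exists_left_inv
    have h3 := hid μ
    rw [hsμ] at h3
    have h4 : μ = (-c) * (-μ - μ) := by
      calc μ = (c * 2) * μ := by rw [hc, one_mul]
        _ = (-c) * (-μ - μ) := by ring
    rw [h4]
    exact Ideal.mul_mem_left _ _ h3
  exact not_isUnit_of_mem_jacobson hμJ hunit

end Groth.Agent.Lib.T2H2.HermMu
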