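import Mathlib
import Groth.Agent.Lib.T2H2AzInvPat
import Groth.Agent.Lib.T2H2AzInvClass
import Groth.Agent.Lib.T2H2AzInvMat
import Groth.Agent.Lib.T2H2HermMu

/-!
# The type of an involution of an Azumaya algebra is well defined

Isomorphisms of algebras with involution over an `S`-algebra can be base changed and inverted,
and over a strictly henselian local ring an algebra with matrix units adapted to the transpose
is not isomorphic to an algebra with matrix units adapted to the standard symplectic involution,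
when the involution of the base is the identity modulo the radical.
-/

set_option autoImplicit false

namespace Groth.Agent.Lib.T2H2.AzInvType

open scoped TensorProduct
open Matrix
open Groth.Agent.Lib.T2H2.MatUnits Groth.Agent.Lib.T2H2.AzInvSplit
  Groth.Agent.Lib.T2H2.AzInvInner Groth.Agent.Lib.T2H2.AzInvUnitary
  Groth.Agent.Lib.T2H2.AzInvIso Groth.Agent.Lib.T2H2.AzInvPat
  Groth.Agent.Lib.T2H2.AzInvClass Groth.Agent.Lib.T2H2.HermAlt

universe u v w w'

section bc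

variable {S : Type u} {R : Type v} [CommRing S] [CommRing R] [Algebra S R]
  {A₁ : Type w} [Ring A₁] [Algebra S A₁] [Algebra R A₁] [IsScalarTower S R A₁]
  {A₂ : Type w'} [Ring A₂] [Algebra S A₂] [Algebra R A₂] [IsScalarTower S R A₂]
  (lam : R ≃ₐ[S] R) (t₁ : AzInv.LamInv R A₁ lam) (t₂ : AzInv.LamInv R A₂ lam)

/-- the inverse of an isomorphism of algebras with involution -/
theorem iso_symm {E : Type*} [CommRing E] [Algebra S E] (f : E ⊗[S] A₁ ≃ₐ[E] E ⊗[S] A₂)
    (ha : ∀ (r : R) (x : E ⊗[S] A₁),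
      f (((1 : E) ⊗ₜ[S] algebraMap R A₁ r) * x) = ((1 : E) ⊗ₜ[S] algebraMap R A₂ r) * f x)
    (hb : ∀ x, f (t₁.bc S lam E x) = t₂.bc S lam E (f x)) :
    (∀ (r : R) (y : E ⊗[S] A₂),
      f.symm (((1 : E) ⊗ₜ[S] algebraMap R A₂ r) * y) =
        ((1 : E) ⊗ₜ[S] algebraMap R A₁ r) * f.symm y) ∧
      ∀ y, f.symm (t₂.bc S lam E y) = t₁.bc S lam E (f.symm y) := by
  refine ⟨fun r y => ?_, fun y => ?_⟩
  · apply f.injective
    rw [ha, AlgEquiv.apply_symm_apply, AlgEquiv.apply_symm_apply]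
  · apply f.injective
    rw [hb, AlgEquiv.apply_symm_apply, AlgEquiv.apply_symm_apply]

omit [Algebra S R] [Algebra R A₂] [IsScalarTower S R A₂] in
theorem tmul_one_central {E : Type*} [CommRing E] [Algebra S E] (b : E) (y : E ⊗[S] A₂) :
    (b ⊗ₜ[S] (1 : A₂)) * y = y * (b ⊗ₜ[S] (1 : A₂)) := by
  induction y using TensorProduct.induction_on with
  | zero => simp
  | add y y' hy hy' => rw [mul_add, add_mul, hy, hy']
  | tmul e a =>
    rw [Algebra.TensorProduct.tmul_mul_tmul, Algebra.TensorProduct.tmul_mul_tmul, mul_comm,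
      one_mul, mul_one]

/-- the base change of a homomorphism of algebras over `S₀` along `S₀ → B` -/
noncomputable def bcHom {S₀ B : Type*} [CommRing S₀] [Algebra S S₀] [CommRing B] [Algebra S B]
    (g : S₀ →ₐ[S] B) (f : S₀ ⊗[S] A₁ →ₐ[S₀] S₀ ⊗[S] A₂) : B ⊗[S] A₁ →ₐ[B] B ⊗[S] A₂ :=
  Algebra.TensorProduct.lift (Algebra.ofId B (B ⊗[S] A₂))
    (((Algebra.TensorProduct.map g (AlgHom.id S A₂)).comp (f.restrictScalars S)).comp
      (Algebra.TensorProduct.includeRight : A₁ →ₐ[S] S₀ ⊗[S] A₁))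
    (fun b _ => by
      rw [Algebra.ofId_apply, Algebra.TensorProduct.algebraMap_apply]
      exact tmul_one_central b _)

omit [Algebra S R] [Algebra R A₁] [IsScalarTower S R A₁] [Algebra R A₂] [IsScalarTower S R A₂] in
theorem bcHom_tmul {S₀ B : Type*} [CommRing S₀] [Algebra S S₀] [CommRing B] [Algebra S B]
    (g : S₀ →ₐ[S] B) (f : S₀ ⊗[S] A₁ →ₐ[S₀] S₀ ⊗[S] A₂) (b : B) (a : A₁) :
    bcHom g f (b ⊗ₜ[S] a) = (b ⊗ₜ[S] (1 : A₂)) *
      Algebra.TensorProduct.map g (AlgHom.id S A₂) (f ((1 : S₀) ⊗ₜ[S] a)) := by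
  simp only [bcHom, Algebra.TensorProduct.lift_tmul, Algebra.ofId_apply,
    Algebra.TensorProduct.algebraMap_apply]
  rfl

omit [Algebra S R] [Algebra R A₁] [IsScalarTower S R A₁] [Algebra R A₂] [IsScalarTower S R A₂] in
/-- the base change is compatible with the original homomorphism -/
theorem bcHom_map {S₀ B : Type*} [CommRing S₀] [Algebra S S₀] [CommRing B] [Algebra S B]
    (g : S₀ →ₐ[S] B) (f : S₀ ⊗[S] A₁ →ₐ[S₀] S₀ ⊗[S] A₂) (z : S₀ ⊗[S] A₁) :
    bcHom g f (Algebra.TensorProduct.map g (AlgHom.id S A₁) z) =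
      Algebra.TensorProduct.map g (AlgHom.id S A₂) (f z) := by
  induction z using TensorProduct.induction_on with
  | zero => simp
  | add x y hx hy => simp only [map_add, hx, hy]
  | tmul s a =>
    rw [Algebra.TensorProduct.map_tmul, AlgHom.id_apply, bcHom_tmul]
    have h1 : s ⊗ₜ[S] a = s • ((1 : S₀) ⊗ₜ[S] a) := by
      rw [TensorProduct.smul_tmul', smul_eq_mul, mul_one]
    rw [h1, map_smul, Algebra.smul_def, map_mul, Algebra.TensorProduct.algebraMap_apply,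
      Algebra.TensorProduct.map_tmul, map_one]
    rfl

omit [Algebra S R] [Algebra R A₁] [IsScalarTower S R A₁] [Algebra R A₂] [IsScalarTower S R A₂] in
theorem bcHom_bcHom_symm {S₀ B : Type*} [CommRing S₀] [Algebra S S₀] [CommRing B] [Algebra S B]
    (g : S₀ →ₐ[S] B) (f' : S₀ ⊗[S] A₁ ≃ₐ[S₀] S₀ ⊗[S] A₂) (y : B ⊗[S] A₂) :
    bcHom g (f' : S₀ ⊗[S] A₁ →ₐ[S₀] S₀ ⊗[S] A₂)
      (bcHom g (f'.symm : S₀ ⊗[S] A₂ →ₐ[S₀] S₀ ⊗[S] A₁) y) = y := by
  induction y using TensorProduct.induction_on with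
  | zero => simp
  | add x y hx hy => simp only [map_add, hx, hy]
  | tmul b a =>
    rw [bcHom_tmul, map_mul, bcHom_map]
    have h1 : (b ⊗ₜ[S] (1 : A₁)) = algebraMap B (B ⊗[S] A₁) b := by
      rw [Algebra.TensorProduct.algebraMap_apply]
      rfl
    rw [h1, AlgHom.commutes, Algebra.TensorProduct.algebraMap_apply]
    show (algebraMap B B b ⊗ₜ[S] (1 : A₂)) *
      Algebra.TensorProduct.map g (AlgHom.id S A₂) (f' (f'.symm ((1 : S₀) ⊗ₜ[S] a))) = _
    rw [AlgEquiv.apply_symm_apply, Algebra.TensorProduct.map_tmul, map_one,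
      Algebra.TensorProduct.tmul_mul_tmul, AlgHom.id_apply, one_mul, mul_one]
    rfl

/-- isomorphisms of algebras with involution can be base changed -/
theorem exists_bc_iso {S₀ B : Type*} [CommRing S₀] [Algebra S S₀] [CommRing B] [Algebra S B]
    (g : S₀ →ₐ[S] B) (f : S₀ ⊗[S] A₁ ≃ₐ[S₀] S₀ ⊗[S] A₂)
    (ha : ∀ (r : R) (x : S₀ ⊗[S] A₁),
      f (((1 : S₀) ⊗ₜ[S] algebraMap R A₁ r) * x) = ((1 : S₀) ⊗ₜ[S] algebraMap R A₂ r) * f x)
    (hb : ∀ x, f (t₁.bc S lam S₀ x) = t₂.bc S lam S₀ (f x)) :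
    ∃ F : B ⊗[S] A₁ ≃ₐ[B] B ⊗[S] A₂,
      (∀ (r : R) (x : B ⊗[S] A₁),
        F (((1 : B) ⊗ₜ[S] algebraMap R A₁ r) * x) = ((1 : B) ⊗ₜ[S] algebraMap R A₂ r) * F x) ∧
      ∀ x, F (t₁.bc S lam B x) = t₂.bc S lam B (F x) := by
  let F : B ⊗[S] A₁ ≃ₐ[B] B ⊗[S] A₂ :=
    AlgEquiv.ofAlgHom (bcHom g (f : S₀ ⊗[S] A₁ →ₐ[S₀] S₀ ⊗[S] A₂))
      (bcHom g (f.symm : S₀ ⊗[S] A₂ →ₐ[S₀] S₀ ⊗[S] A₁))
      (AlgHom.ext fun y => bcHom_bcHom_symm g f y)
      (AlgHom.ext fun y => by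
        have := bcHom_bcHom_symm g f.symm y
        simpa using this)
  have hF : ∀ (b : B) (a : A₁), F (b ⊗ₜ[S] a) = (b ⊗ₜ[S] (1 : A₂)) *
      Algebra.TensorProduct.map g (AlgHom.id S A₂) (f ((1 : S₀) ⊗ₜ[S] a)) :=
    fun b a => bcHom_tmul g _ b a
  refine ⟨F, fun r x => ?_, fun x => ?_⟩
  · induction x using TensorProduct.induction_on with
    | zero => simp
    | add x y hx hy => rw [mul_add, map_add, hx, hy, map_add, mul_add]
    | tmul b a =>
      rw [Algebra.TensorProduct.tmul_mul_tmul, one_mul, hF, hF]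
      have h1 : (1 : S₀) ⊗ₜ[S] (algebraMap R A₁ r * a) =
          ((1 : S₀) ⊗ₜ[S] algebraMap R A₁ r) * ((1 : S₀) ⊗ₜ[S] a) := by
        rw [Algebra.TensorProduct.tmul_mul_tmul, one_mul]
      rw [h1, ha, map_mul, Algebra.TensorProduct.map_tmul, map_one, AlgHom.id_apply,
        ← mul_assoc, tmul_one_central, mul_assoc]
  · induction x using TensorProduct.induction_on with
    | zero => simp
    | add x y hx hy => rw [map_add, map_add, hx, hy, map_add, map_add]
    | tmul b a =>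
      rw [AzInv.LamInv.bc_tmul, hF, hF, bc_mul, AzInv.LamInv.bc_tmul, t₂.map_one,
        tmul_one_central]
      have h1 : (1 : S₀) ⊗ₜ[S] t₁ a = t₁.bc S lam S₀ ((1 : S₀) ⊗ₜ[S] a) := by
        rw [AzInv.LamInv.bc_tmul]
      rw [h1, hb, map_bc]

end bc

section shens

open Groth.Agent.Lib.Helper3.IndEt IsLocalRing

/-- a strict henselisation of an etale `S`-algebra `S₀` at a prime, as an ind-etale local
`S`-algebra under `S₀` -/
theorem exists_strictHenselization_over (S : Type u) [CommRing S] (S₀ : Type u) [CommRing S₀]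
    [Algebra S S₀] [Algebra.Etale S S₀] (q : PrimeSpectrum S₀) :
    ∃ (B : Type u) (_ : CommRing B) (_ : HenselianLocalRing B)
      (_ : IsSepClosed (ResidueField B)) (_ : Algebra S B),
      Obj.Factor S B ∧ Nonempty (S₀ →ₐ[S] B) ∧
        (maximalIdeal B).comap (algebraMap S B) = q.asIdeal.comap (algebraMap S S₀) := by
  obtain ⟨B, _, _, _, _, H₀, hq⟩ := exists_strictHenselization_atPrime S₀ q
  let _ : Algebra S B := ((algebraMap S₀ B).comp (algebraMap S S₀)).toAlgebra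
  have : IsScalarTower S S₀ B := IsScalarTower.of_algebraMap_eq (fun _ => rfl)
  refine ⟨B, inferInstance, inferInstance, inferInstance, inferInstance, ?_,
    ⟨IsScalarTower.toAlgHom S S₀ B⟩, ?_⟩
  · exact factor_of_isIndEtale (isIndEtale_comp S S₀ B (isIndEtale_of_etale S S₀)
      (isIndEtale_of_factor H₀))
  · rw [IsScalarTower.algebraMap_eq S S₀ B, ← Ideal.comap_comap, hq]

end shens

section jn

variable {C : Type*} [CommRing C]

theorem jn_swap (a b : ℕ) : (jn b a : C) = -jn a b := by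
  unfold jn
  by_cases h : a / 2 = b / 2
  · rw [if_pos h, if_pos h.symm]
    split_ifs <;> first | (exfalso; omega) | simp
  · rw [if_neg h, if_neg (fun h' => h h'.symm), neg_zero]

theorem star_jn [StarRing C] (a b : ℕ) : star (jn a b : C) = jn a b := by
  unfold jn
  split_ifs <;> simp

theorem Jn_conjTranspose [StarRing C] (n : ℕ) :
    (Groth.Agent.Lib.T2H2.HermClass.Jn C n)ᴴ = -Groth.Agent.Lib.T2H2.HermClass.Jn C n := by
  ext i j
  rw [conjTranspose_apply, Matrix.neg_apply]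
  simp only [Groth.Agent.Lib.T2H2.HermClass.Jn, Matrix.of_apply]
  rw [star_jn, jn_swap]

theorem sum_cOrth' {E : Type*} [CommRing E] {M : Type*} [AddCommGroup M] [Module E M] {n : ℕ}
    (y : Fin n → Fin n → M) (k l : Fin n) :
    ∑ i, ∑ j, castPat E n cOrth i j k l • y i j = y l k := by
  rw [Finset.sum_eq_single l]
  · rw [Finset.sum_eq_single k]
    · simp [castPat, cOrth]
    · intro j _ hj
      have : ¬ (k.val = j.val) := fun h => hj (Fin.ext h.symm)
      simp [castPat, cOrth, this]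
    · intro h; exact absurd (Finset.mem_univ _) h
  · intro i _ hi
    refine Finset.sum_eq_zero fun j _ => ?_
    have : ¬ (l.val = i.val) := fun h => hi (Fin.ext h.symm)
    simp [castPat, cOrth, this]
  · intro h; exact absurd (Finset.mem_univ _) h

end jn

section mixed

attribute [local instance] Algebra.TensorProduct.rightAlgebra

variable {S : Type u} {R : Type v} [CommRing S] [CommRing R] [Algebra S R]
  {A₁ : Type w} [Ring A₁] [Algebra S A₁] [Algebra R A₁] [IsScalarTower S R A₁]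
  {A₂ : Type w'} [Ring A₂] [Algebra S A₂] [Algebra R A₂] [IsScalarTower S R A₂]
  (lam : R ≃ₐ[S] R) (hlam : ∀ r, lam (lam r) = r) (hfix : RInv.IsFixedRing S R lam.toRingEquiv)
  (t₁ : AzInv.LamInv R A₁ lam) (t₂ : AzInv.LamInv R A₂ lam)

include hlam hfix in
/-- over a strictly henselian local ring, an algebra with involution of orthogonal type is not
isomorphic to one of symplectic type -/
theorem no_mixed (B : Type u) [CommRing B] [HenselianLocalRing B]
    [IsSepClosed (IsLocalRing.ResidueField B)] [Algebra S B] [Module.Flat S B]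
    (h2 : IsUnit (2 : B)) (N N' : ℕ) (hN : 0 < N) (hN' : 0 < N')
    (hA₁ : AzInv.IsAzumayaDeg R A₁ N) (hA₂ : AzInv.IsAzumayaDeg R A₂ N')
    (h₁ : PatAdapted lam t₁ B N (castPat B N cOrth))
    (h₂ : PatAdapted lam t₂ B N' (castPat B N' cSymp)) (hev : Even N')
    (hid : ∀ a : B ⊗[S] R, Algebra.TensorProduct.congr (AlgEquiv.refl : B ≃ₐ[S] B) lam a - a ∈
      Ring.jacobson (B ⊗[S] R))
    (hnt : Nontrivial (B ⊗[S] R))
    (F : B ⊗[S] A₁ ≃ₐ[B] B ⊗[S] A₂)
    (ha : ∀ (r : R) (x : B ⊗[S] A₁),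
      F (((1 : B) ⊗ₜ[S] algebraMap R A₁ r) * x) = ((1 : B) ⊗ₜ[S] algebraMap R A₂ r) * F x)
    (hb : ∀ x, F (t₁.bc S lam B x) = t₂.bc S lam B (F x)) : False := by
  classical
  have : Nonempty (Fin N) := ⟨⟨0, hN⟩⟩
  obtain ⟨e₁, he₁, het₁⟩ := h₁
  obtain ⟨e₂, he₂, het₂⟩ := h₂
  obtain ⟨f₁, hf₁⟩ := exists_iso_with_formula N hN hA₁ e₁ he₁
  obtain ⟨f₂, hf₂⟩ := exists_iso_with_formula N' hN' hA₂ e₂ he₂
  have hfixB := Groth.Agent.S15586.result S R B lam (fun r => hlam r) hfix (Or.inl inferInstance)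
  have hinvB := involutive_congr lam hlam B
  obtain ⟨ι, _, T, _, _, hsc, ⟨φ⟩⟩ := Groth.Agent.Lib.T2H2.InvHens.main B (B ⊗[S] R)
    (Algebra.TensorProduct.congr (AlgEquiv.refl : B ≃ₐ[S] B) lam).toRingEquiv hinvB hfixB
  let lamC : (B ⊗[S] R) ≃+* (B ⊗[S] R) :=
    (Algebra.TensorProduct.congr (AlgEquiv.refl : B ≃ₐ[S] B) lam).toRingEquiv
  let _ : StarRing (B ⊗[S] R) :=
    { star := lamC
      star_involutive := hinvB
      star_mul := fun a b => by
        show lamC (a * b) = lamC b * lamC a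
        rw [map_mul, mul_comm]
      star_add := fun a b => map_add lamC a b }
  have hstar : ∀ c : B ⊗[S] R, star c =
      Algebra.TensorProduct.congr (AlgEquiv.refl : B ≃ₐ[S] B) lam c := fun _ => rfl
  have h2C : IsUnit (2 : B ⊗[S] R) := by
    have := h2.map (algebraMap B (B ⊗[S] R))
    rwa [map_ofNat] at this
  have HI : ∀ σ : Matrix (Fin N) (Fin N) (B ⊗[S] R) ≃ₐ[B ⊗[S] R]
      Matrix (Fin N) (Fin N) (B ⊗[S] R),
      ∃ v v' : Matrix (Fin N) (Fin N) (B ⊗[S] R), v * v' = 1 ∧ v' * v = 1 ∧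
        ∀ X, σ X * v = v * X := by
    intro σ
    have hAzM : IsAzumaya (B ⊗[S] R) (Matrix (Fin N) (Fin N) (B ⊗[S] R)) :=
      IsAzumaya.matrix (B ⊗[S] R) (Fin N)
    exact exists_conj_of_prod (B ⊗[S] R) T φ (Matrix (Fin N) (Fin N) (B ⊗[S] R)) σ
  -- linearity over `B ⊗ R`
  have hfsmul₁ : ∀ (c : B ⊗[S] R) X, f₁.symm (c • X) = iotaE S R A₁ B c * f₁.symm X := by
    intro c X
    rw [hf₁, hf₁, smul_formula]
  have hfsmul₂ : ∀ (c : B ⊗[S] R) X, f₂.symm (c • X) = iotaE S R A₂ B c * f₂.symm X := by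
    intro c X
    rw [hf₂, hf₂, smul_formula]
  have hfiota₂ : ∀ (c : B ⊗[S] R) Z, f₂ (iotaE S R A₂ B c * Z) = c • f₂ Z := by
    intro c Z
    apply f₂.symm.injective
    rw [hfsmul₂, AlgEquiv.symm_apply_apply, AlgEquiv.symm_apply_apply]
  have hFiota : ∀ (c : B ⊗[S] R) x, F (iotaE S R A₁ B c * x) = iotaE S R A₂ B c * F x := by
    intro c x
    induction c using TensorProduct.induction_on with
    | zero => simp
    | add c d hc hd => rw [map_add, add_mul, map_add, hc, hd, map_add, add_mul]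
    | tmul b r =>
      have h3 : iotaE S R A₁ B (b ⊗ₜ[S] r) = b • ((1 : B) ⊗ₜ[S] algebraMap R A₁ r) := by
        rw [iotaE_tmul, TensorProduct.smul_tmul', smul_eq_mul, mul_one]
      have h4 : iotaE S R A₂ B (b ⊗ₜ[S] r) = b • ((1 : B) ⊗ₜ[S] algebraMap R A₂ r) := by
        rw [iotaE_tmul, TensorProduct.smul_tmul', smul_eq_mul, mul_one]
      rw [h3, h4, smul_mul_assoc, map_smul, ha, smul_mul_assoc]
  let G₀ : Matrix (Fin N) (Fin N) (B ⊗[S] R) ≃+* Matrix (Fin N') (Fin N') (B ⊗[S] R) :=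
    (f₁.symm.toRingEquiv.trans F.toRingEquiv).trans f₂.toRingEquiv
  have hG₀ : ∀ X, G₀ X = f₂ (F (f₁.symm X)) := fun _ => rfl
  have hG₀smul : ∀ (c : B ⊗[S] R) X, G₀ (c • X) = c • G₀ X := by
    intro c X
    rw [hG₀, hG₀, hfsmul₁, hFiota, hfiota₂]
  let G : Matrix (Fin N) (Fin N) (B ⊗[S] R) ≃ₐ[B ⊗[S] R]
      Matrix (Fin N') (Fin N') (B ⊗[S] R) :=
    AlgEquiv.ofRingEquiv (f := G₀) (fun c => by
      rw [Algebra.algebraMap_eq_smul_one, hG₀smul, map_one, ← Algebra.algebraMap_eq_smul_one])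
  have hGX : ∀ X, G X = f₂ (F (f₁.symm X)) := fun _ => rfl
  -- the involutions in coordinates
  have hT₁ : ∀ X, t₁.bc S lam B (f₁.symm X) = f₁.symm Xᴴ := by
    intro X
    rw [hf₁ X, bc_formula_pat lam t₁ N e₁ _ het₁, hf₁ Xᴴ]
    refine Finset.sum_congr rfl fun k _ => ?_
    refine Finset.sum_congr rfl fun l _ => ?_
    rw [sum_cOrth' (fun i j => Algebra.TensorProduct.congr (AlgEquiv.refl : B ≃ₐ[S] B) lam
      (X i j)) k l, conjTranspose_apply, hstar]
  have hT₂ : ∀ Y, t₂.bc S lam B (f₂.symm Y) =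
      f₂.symm (Groth.Agent.Lib.T2H2.HermClass.Jn (B ⊗[S] R) N' * Yᴴ *
        (-Groth.Agent.Lib.T2H2.HermClass.Jn (B ⊗[S] R) N')) := by
    intro Y
    rw [hf₂ Y, bc_formula_pat lam t₂ N' e₂ _ het₂, hf₂]
    refine Finset.sum_congr rfl fun k _ => ?_
    refine Finset.sum_congr rfl fun l _ => ?_
    congr 2
    rw [Matrix.mul_apply]
    refine Finset.sum_congr rfl fun i _ => ?_
    rw [Matrix.mul_apply, Finset.sum_mul]
    refine Finset.sum_congr rfl fun j _ => ?_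
    rw [conjTranspose_apply, hstar, Matrix.neg_apply]
    simp only [Groth.Agent.Lib.T2H2.HermClass.Jn, Matrix.of_apply, castPat, cSymp]
    rw [Int.cast_smul_eq_zsmul, zsmul_eq_mul, Int.cast_mul, Int.cast_neg, jn_cast, jn_cast]
    ring
  have hG : ∀ X, G Xᴴ = Groth.Agent.Lib.T2H2.HermClass.Jn (B ⊗[S] R) N' * (G X)ᴴ *
      (-Groth.Agent.Lib.T2H2.HermClass.Jn (B ⊗[S] R) N') := by
    intro X
    rw [hGX, ← hT₁, hb]
    have h3 : F (f₁.symm X) = f₂.symm (G X) := by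
      rw [hGX, AlgEquiv.symm_apply_apply]
    rw [h3, hT₂, AlgEquiv.apply_symm_apply]
  refine Groth.Agent.Lib.T2H2.HermMu.mu_lemma h2C hid hN HI
    (Groth.Agent.Lib.T2H2.HermClass.Jn (B ⊗[S] R) N')
    (-Groth.Agent.Lib.T2H2.HermClass.Jn (B ⊗[S] R) N') ?_ ?_ G hG
  · rw [Matrix.neg_mul, Groth.Agent.Lib.T2H2.HermClass.Jn_mul_Jn hev, neg_neg]
  · rw [conjTranspose_neg, Jn_conjTranspose]

end mixed

end Groth.Agent.Lib.T2H2.AzInvType
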