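import Mathlib
import Groth.Agent.Lib.T2H2AzInvType

/-!
# Involutions of the first kind: the orthogonal and the symplectic type

Let `S` be a ring in which `2` is invertible with connected spectrum and `(A, t)` an Azumaya
algebra with an involution of the first kind.  Then `A` has matrix units adapted to the
transpose on an etale covering, or the degree is even and `A` has matrix units adapted to the
standard symplectic involution on an etale covering.
-/

set_option autoImplicit false

namespace Groth.Agent.Lib.T2H2.AzInvFirst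

open scoped TensorProduct
open Groth.Agent.Lib.T2H2.MatUnits Groth.Agent.Lib.T2H2.AzInvSplit
  Groth.Agent.Lib.T2H2.AzInvInner Groth.Agent.Lib.T2H2.AzInvUnitary
  Groth.Agent.Lib.T2H2.AzInvIso Groth.Agent.Lib.T2H2.AzInvPat
  Groth.Agent.Lib.T2H2.AzInvClass Groth.Agent.Lib.T2H2.AzInvMat
  Groth.Agent.Lib.T2H2.AzInvType
  Groth.Agent.Lib.Helper3.IndEt Groth.Agent.Lib.T2H2.EtLoc IsLocalRing

universe u v w

theorem mem_range_tensor {R : Type*} [CommRing R] (E₁ E₂ : Type*) [CommRing E₁] [CommRing E₂]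
    [Algebra R E₁] [Algebra R E₂] (p : PrimeSpectrum R)
    (h₁ : p ∈ Set.range (PrimeSpectrum.comap (algebraMap R E₁)))
    (h₂ : p ∈ Set.range (PrimeSpectrum.comap (algebraMap R E₂))) :
    p ∈ Set.range (PrimeSpectrum.comap (algebraMap R (E₁ ⊗[R] E₂))) := by
  rw [← PrimeSpectrum.nontrivial_iff_mem_rangeComap] at h₁ h₂ ⊢
  let κ := p.asIdeal.ResidueField
  have hff : Module.FaithfullyFlat κ (κ ⊗[R] E₁) := inferInstance
  have h3 : Nontrivial ((κ ⊗[R] E₁) ⊗[κ] (κ ⊗[R] E₂)) :=
    (Module.FaithfullyFlat.nontrivial_tensorProduct_iff_right κ (κ ⊗[R] E₁)).mpr h₂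
  have e1 : (κ ⊗[R] E₁) ⊗[κ] (κ ⊗[R] E₂) ≃ₗ[κ] (κ ⊗[R] E₁) ⊗[R] E₂ :=
    TensorProduct.AlgebraTensorModule.cancelBaseChange R κ κ (κ ⊗[R] E₁) E₂
  have e2 : (κ ⊗[R] E₁) ⊗[R] E₂ ≃ₗ[R] κ ⊗[R] (E₁ ⊗[R] E₂) := TensorProduct.assoc R κ E₁ E₂
  exact (e1.toEquiv.trans e2.toEquiv).symm.nontrivial

variable {S : Type u} {R : Type v} [CommRing S] [CommRing R] [Algebra S R]
  (lam : R ≃ₐ[S] R) (hlam : ∀ r, lam (lam r) = r) (hfix : RInv.IsFixedRing S R lam.toRingEquiv)
  {A : Type w} [Ring A] [Algebra S A] [Algebra R A] [IsScalarTower S R A]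
  (t : AzInv.LamInv R A lam)

include hlam hfix in
/-- on an etale neighbourhood of any prime there are matrix units adapted to the transpose or
to the standard symplectic involution -/
theorem exists_pat_at (h2 : IsUnit (2 : S)) (n : ℕ) (hn : 0 < n)
    (hA : AzInv.IsAzumayaDeg R A n) (p : PrimeSpectrum S) :
    ∃ (E : Type u) (_ : CommRing E) (_ : Algebra S E) (_ : Algebra.Etale S E),
      p ∈ Set.range (PrimeSpectrum.comap (algebraMap S E)) ∧
        (PatAdapted lam t E n (castPat E n cOrth) ∨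
          (Even n ∧ PatAdapted lam t E n (castPat E n cSymp))) := by
  obtain ⟨B, _, _, _, _, H, hp⟩ := exists_strictHenselization_atPrime S p
  have hflat : Module.Flat S B := flat_of_factor' H
  have h2B : IsUnit (2 : B) := by
    have := h2.map (algebraMap S B)
    rwa [map_ofNat] at this
  have hrange : ∀ (E : Type u) [CommRing E] [Algebra S E] (g : E →ₐ[S] B),
      p ∈ Set.range (PrimeSpectrum.comap (algebraMap S E)) := by
    intro E _ _ g
    refine ⟨PrimeSpectrum.comap g.toRingHom (closedPoint B), ?_⟩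
    apply PrimeSpectrum.ext
    show ((maximalIdeal B).comap g.toRingHom).comap (algebraMap S E) = p.asIdeal
    rw [Ideal.comap_comap, AlgHom.toRingHom_eq_coe, AlgHom.comp_algebraMap, hp]
  rcases exists_pat_of_strictHenselian lam hlam hfix t B h2B n hn hA with
    hO | ⟨-, -, hev, hS⟩
  · obtain ⟨E, _, _, _, g, hE⟩ := exists_etale_pat lam t B H n cOrth hO
    exact ⟨E, inferInstance, inferInstance, inferInstance, hrange E g, Or.inl hE⟩
  · obtain ⟨E, _, _, _, g, hE⟩ := exists_etale_pat lam t B H n cSymp hS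
    exact ⟨E, inferInstance, inferInstance, inferInstance, hrange E g, Or.inr ⟨hev, hE⟩⟩

omit [IsScalarTower S R A] in
theorem congr_refl_eq (hlamid : ∀ r, lam r = r) (B : Type*) [CommRing B] [Algebra S B]
    (a : B ⊗[S] R) : Algebra.TensorProduct.congr (AlgEquiv.refl : B ≃ₐ[S] B) lam a = a := by
  induction a using TensorProduct.induction_on with
  | zero => simp
  | add x y hx hy => rw [map_add, hx, hy]
  | tmul b r =>
    rw [Algebra.TensorProduct.congr_apply, Algebra.TensorProduct.map_tmul]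
    show b ⊗ₜ[S] lam r = _
    rw [hlamid]

include hlam hfix in
/-- for an involution of the first kind the two cases exclude each other over a common point -/
theorem not_orth_and_symp (hlamid : ∀ r, lam r = r) (h2 : IsUnit (2 : S)) (n : ℕ) (hn : 0 < n)
    (hA : AzInv.IsAzumayaDeg R A n)
    (E₁ E₂ : Type u) [CommRing E₁] [CommRing E₂] [Algebra S E₁] [Algebra S E₂]
    [Algebra.Etale S E₁] [Algebra.Etale S E₂] (p : PrimeSpectrum S)
    (h₁ : p ∈ Set.range (PrimeSpectrum.comap (algebraMap S E₁)))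
    (h₂ : p ∈ Set.range (PrimeSpectrum.comap (algebraMap S E₂)))
    (hO : PatAdapted lam t E₁ n (castPat E₁ n cOrth)) (hev : Even n)
    (hS : PatAdapted lam t E₂ n (castPat E₂ n cSymp)) : False := by
  obtain ⟨Q, -⟩ := mem_range_tensor E₁ E₂ p h₁ h₂
  have hE : Algebra.Etale S (E₁ ⊗[S] E₂) := etale_tensor S E₁ E₂
  obtain ⟨B, _, _, _, _, H, ⟨g⟩, -⟩ := exists_strictHenselization_over S (E₁ ⊗[S] E₂) Q
  have hflat : Module.Flat S B := flat_of_factor' H
  have h2B : IsUnit (2 : B) := by
    have := h2.map (algebraMap S B)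
    rwa [map_ofNat] at this
  have hOB := hO.map_cast lam t (g.comp (Algebra.TensorProduct.includeLeft : E₁ →ₐ[S] E₁ ⊗[S] E₂))
  have hSB := hS.map_cast lam t (g.comp (Algebra.TensorProduct.includeRight : E₂ →ₐ[S] E₁ ⊗[S] E₂))
  have hfixB := Groth.Agent.S15586.result S R B lam (fun r => hlam r) hfix (Or.inl inferInstance)
  have hnt : Nontrivial (B ⊗[S] R) := hfixB.1.nontrivial
  refine no_mixed lam hlam hfix t t B h2B n n hn hn hA hA hOB hSB hev (fun a => ?_) hnt
    AlgEquiv.refl (fun r x => rfl) (fun x => rfl)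
  rw [congr_refl_eq lam hlamid, sub_self]
  exact zero_mem _

include hlam hfix in
/-- over a connected base an involution of the first kind is of orthogonal or of symplectic type
on an etale covering -/
theorem orth_or_symp [PreconnectedSpace (PrimeSpectrum S)] (hlamid : ∀ r, lam r = r)
    (h2 : IsUnit (2 : S)) (n : ℕ) (hn : 0 < n) (hA : AzInv.IsAzumayaDeg R A n) :
    (∃ (S' : Type u) (_ : CommRing S') (_ : Algebra S S') (_ : Algebra.Etale S S')
      (_ : Module.FaithfullyFlat S S'), PatAdapted lam t S' n (castPat S' n cOrth)) ∨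
    (Even n ∧ ∃ (S' : Type u) (_ : CommRing S') (_ : Algebra S S') (_ : Algebra.Etale S S')
      (_ : Module.FaithfullyFlat S S'), PatAdapted lam t S' n (castPat S' n cSymp)) := by
  let Ω : Set (PrimeSpectrum S) := {p | ∃ (E : Type u) (_ : CommRing E) (_ : Algebra S E)
    (_ : Algebra.Etale S E), p ∈ Set.range (PrimeSpectrum.comap (algebraMap S E)) ∧
      PatAdapted lam t E n (castPat E n cOrth)}
  let Sy : Set (PrimeSpectrum S) := {p | ∃ (E : Type u) (_ : CommRing E) (_ : Algebra S E)
    (_ : Algebra.Etale S E), p ∈ Set.range (PrimeSpectrum.comap (algebraMap S E)) ∧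
      (Even n ∧ PatAdapted lam t E n (castPat E n cSymp))}
  have hopen : ∀ (E : Type u) [CommRing E] [Algebra S E] [Algebra.Etale S E],
      IsOpen (Set.range (PrimeSpectrum.comap (algebraMap S E))) := fun E _ _ _ =>
    (PrimeSpectrum.isOpenMap_comap_of_hasGoingDown_of_finitePresentation
      (R := S) (S := E)).isOpen_range
  have hΩ : IsOpen Ω := by
    rw [isOpen_iff_forall_mem_open]
    rintro p ⟨E, _, _, _, hp, hE⟩
    exact ⟨_, fun p' hp' => ⟨E, inferInstance, inferInstance, inferInstance, hp', hE⟩,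
      hopen E, hp⟩
  have hSy : IsOpen Sy := by
    rw [isOpen_iff_forall_mem_open]
    rintro p ⟨E, _, _, _, hp, hE⟩
    exact ⟨_, fun p' hp' => ⟨E, inferInstance, inferInstance, inferInstance, hp', hE⟩,
      hopen E, hp⟩
  have hcover : ∀ p, p ∈ Ω ∨ p ∈ Sy := by
    intro p
    obtain ⟨E, _, _, _, hp, hE | hE⟩ := exists_pat_at lam hlam hfix t h2 n hn hA p
    · exact Or.inl ⟨E, inferInstance, inferInstance, inferInstance, hp, hE⟩
    · exact Or.inr ⟨E, inferInstance, inferInstance, inferInstance, hp, hE⟩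
  have hdisj : ∀ p, p ∈ Ω → p ∈ Sy → False := by
    rintro p ⟨E₁, _, _, _, hp₁, hE₁⟩ ⟨E₂, _, _, _, hp₂, hev, hE₂⟩
    exact not_orth_and_symp lam hlam hfix t hlamid h2 n hn hA E₁ E₂ p hp₁ hp₂ hE₁ hev hE₂
  have hcompl : Ωᶜ = Sy := by
    ext p
    constructor
    · intro hp
      exact (hcover p).resolve_left hp
    · intro hp hp'
      exact hdisj p hp' hp
  have hclopen : IsClopen Ω := ⟨by rw [← isOpen_compl_iff, hcompl]; exact hSy, hΩ⟩
  by_cases hΩu : Ω = Set.univ
  · left
    have hall : ∀ p, p ∈ Ω := fun p => by rw [hΩu]; trivial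
    choose 𝓔 i1 i2 i3 hr hc using hall
    obtain ⟨T, hT⟩ := exists_finite_etale_cover S 𝓔 hr
    have h1 := patAdapted_pi lam t (fun i : T => 𝓔 i) n (fun i => castPat (𝓔 i) n cOrth)
      (fun i => hc i)
    exact ⟨∀ i : T, 𝓔 i, inferInstance, inferInstance, inferInstance, hT, h1⟩
  · right
    have hΩe : Ω = ∅ := (isClopen_iff.mp hclopen).resolve_right hΩu
    have hall : ∀ p, p ∈ Sy := by
      intro p
      rw [← hcompl, hΩe]
      exact fun h => h
    have hev : Even n := by
      have hne : ∃ p, p ∉ Ω := by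
        by_contra hcon
        push Not at hcon
        exact hΩu (Set.eq_univ_of_forall hcon)
      obtain ⟨p, -⟩ := hne
      obtain ⟨E, _, _, _, -, hev, -⟩ := hall p
      exact hev
    choose 𝓔 i1 i2 i3 hr hc using hall
    obtain ⟨T, hT⟩ := exists_finite_etale_cover S 𝓔 hr
    have h1 := patAdapted_pi lam t (fun i : T => 𝓔 i) n (fun i => castPat (𝓔 i) n cSymp)
      (fun i => (hc i).2)
    exact ⟨hev, ∀ i : T, 𝓔 i, inferInstance, inferInstance, inferInstance, hT, h1⟩

end Groth.Agent.Lib.T2H2.AzInvFirst
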