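import Mathlib
import Groth.Agent.Lib.T2H2AzInvIso

/-!
# The standard algebras with involution

The `1 × 1` matrix algebra over `(A, t)` and the matrix algebra over `R` with the `lam`-transpose,
as Azumaya algebras with involution carrying adapted matrix units.
-/

namespace Groth.Agent.Lib.T2H2.AzInvStd

open scoped TensorProduct
open Groth.Agent.Lib.T2H2.MatUnits Groth.Agent.Lib.T2H2.AzInvIso

universe u v w

section one

variable (R : Type v) [CommRing R] (A : Type w) [Ring A] [Algebra R A]

/-- `A` is the `1 × 1` matrix algebra over itself -/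
def oneEquiv : A ≃ₐ[R] Matrix (Fin 1) (Fin 1) A where
  toFun a := Matrix.of fun _ _ => a
  invFun M := M 0 0
  left_inv a := rfl
  right_inv M := by
    ext i j
    rw [Subsingleton.elim i 0, Subsingleton.elim j 0]
    rfl
  map_mul' a b := by
    ext i j
    simp [Matrix.mul_apply]
  map_add' a b := by
    ext i j
    rfl
  commutes' r := by
    ext i j
    rw [Subsingleton.elim i 0, Subsingleton.elim j 0]
    simp [Matrix.algebraMap_matrix_apply]

theorem oneEquiv_apply (a : A) (i j : Fin 1) : oneEquiv R A a i j = a := rfl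

variable {R A}

theorem isAzumayaDeg_one {n : ℕ} (hA : AzInv.IsAzumayaDeg R A n) :
    AzInv.IsAzumayaDeg R (Matrix (Fin 1) (Fin 1) A) n := by
  have := hA.1
  refine ⟨IsAzumaya.of_AlgEquiv R A _ (oneEquiv R A), fun p => ?_⟩
  rw [← hA.2 p]
  exact (congrFun (Module.rankAtStalk_eq_of_equiv (oneEquiv R A).toLinearEquiv) p).symm

theorem matrix_oneEquiv {lam : R → R} (t : AzInv.LamInv R A lam) (a : A) :
    t.matrix (Fin 1) (oneEquiv R A a) = oneEquiv R A (t a) := by
  ext i j
  rfl

end one

section std

variable (R : Type v) [CommRing R]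

theorem isAzumayaDeg_matrix (n : ℕ) (hn : 0 < n) :
    AzInv.IsAzumayaDeg R (Matrix (Fin n) (Fin n) R) n := by
  have : Nonempty (Fin n) := ⟨⟨0, hn⟩⟩
  refine ⟨IsAzumaya.matrix R (Fin n), fun p => ?_⟩
  have hnt : Nontrivial R := p.nontrivial
  have h1 := congrFun (Module.rankAtStalk_eq_finrank_of_free (R := R)
    (M := Matrix (Fin n) (Fin n) R)) p
  rw [h1]
  simp [Module.finrank_matrix, pow_two]

variable {R}

theorem matrix_self_single {F : Type*} [FunLike F R R] [RingHomClass F R R] (lam' : F)
    (hlam : ∀ r : R, lam' (lam' r) = r) (n : ℕ) (i j : Fin n) :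
    (AzInv.LamInv.self lam' hlam).matrix (Fin n) (Matrix.single i j (1 : R)) =
      Matrix.single j i (1 : R) := by
  ext a b
  rw [AzInv.LamInv.matrix_apply, AzInv.LamInv.self_apply, Matrix.single_apply,
    Matrix.single_apply]
  by_cases h : i = b ∧ j = a
  · rw [if_pos h, if_pos ⟨h.2, h.1⟩, map_one]
  · rw [if_neg h, if_neg (fun h' => h ⟨h'.2, h'.1⟩), map_zero]

end std

end Groth.Agent.Lib.T2H2.AzInvStd
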