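import Mathlib
import Groth.Agent.Lib.T2H2AzInvFirst
import Groth.Agent.Lib.T2H2AzInvStd

/-!
# The standard orthogonal and symplectic algebras with involution

Matrix units of the matrix algebra over `R` with the `lam`-transpose and of the matrix algebras
over the `2 × 2` matrix algebra with the standard symplectic involution, and the resulting
comparison of an algebra with involution having adapted matrix units with these models.
-/

set_option autoImplicit false

namespace Groth.Agent.Lib.T2H2.AzInvStd2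

open scoped TensorProduct
open Groth.Agent.Lib.T2H2.MatUnits Groth.Agent.Lib.T2H2.AzInvSplit
  Groth.Agent.Lib.T2H2.AzInvInner Groth.Agent.Lib.T2H2.AzInvUnitary
  Groth.Agent.Lib.T2H2.AzInvIso Groth.Agent.Lib.T2H2.AzInvPat
  Groth.Agent.Lib.T2H2.AzInvClass Groth.Agent.Lib.T2H2.AzInvMat
  Groth.Agent.Lib.T2H2.AzInvType Groth.Agent.Lib.T2H2.AzInvStd
  Groth.Agent.Lib.T2H2.HermAlt

universe u v w w'

theorem symp2_single {R : Type*} [CommRing R] (J J' : Matrix (Fin 2) (Fin 2) R)
    (hJ : J = Matrix.of ![![0, -1], ![1, 0]]) (hJ' : J' = Matrix.of ![![0, 1], ![-1, 0]])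
    (a b : Fin 2) :
    J * Matrix.single b a (1 : R) * J' =
      ∑ k, ∑ l, castPat ℤ 2 cSymp a b k l •
        (Matrix.single k l (1 : R) : Matrix (Fin 2) (Fin 2) R) := by
  subst hJ hJ'
  fin_cases a <;> fin_cases b <;> ext i j <;> fin_cases i <;> fin_cases j <;>
    simp [castPat, cSymp, jn, Matrix.mul_apply, Fin.sum_univ_two, Matrix.single_apply,
      Matrix.vecMul, dotProduct]

section transport

variable {S : Type u} {R : Type v} [CommRing S] [CommRing R] [Algebra S R]
  (lam : R ≃ₐ[S] R)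
  {A₁ : Type w} [Ring A₁] [Algebra S A₁] [Algebra R A₁] [IsScalarTower S R A₁]
  {A₂ : Type w'} [Ring A₂] [Algebra S A₂] [Algebra R A₂] [IsScalarTower S R A₂]
  (t₁ : AzInv.LamInv R A₁ lam) (t₂ : AzInv.LamInv R A₂ lam)
  {E : Type*} [CommRing E] [Algebra S E]

omit [Algebra S R] [Algebra R A₁] [IsScalarTower S R A₁] [Algebra R A₂] [IsScalarTower S R A₂] in
theorem map_right_smul (φ : A₁ →ₐ[S] A₂) (c : E) (x : E ⊗[S] A₁) :
    Algebra.TensorProduct.map (AlgHom.id S E) φ (c • x) =
      c • Algebra.TensorProduct.map (AlgHom.id S E) φ x := by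
  induction x using TensorProduct.induction_on with
  | zero => simp
  | add x y hx hy => rw [smul_add, map_add, hx, hy, map_add, smul_add]
  | tmul e a =>
    rw [TensorProduct.smul_tmul', Algebra.TensorProduct.map_tmul, Algebra.TensorProduct.map_tmul,
      TensorProduct.smul_tmul']
    rfl

/-- adapted matrix units can be transported along a homomorphism of algebras with involution -/
theorem PatAdapted.of_algHom (φ : A₁ →ₐ[S] A₂) (hφ : ∀ a, φ (t₁ a) = t₂ (φ a)) {n : ℕ}
    {c : Fin n → Fin n → Fin n → Fin n → E} (h : PatAdapted lam t₁ E n c) :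
    PatAdapted lam t₂ E n c := by
  obtain ⟨e, he, het⟩ := h
  refine ⟨fun i j => Algebra.TensorProduct.map (AlgHom.id S E) φ (e i j),
    he.map (Algebra.TensorProduct.map (AlgHom.id S E) φ).toRingHom, fun i j => ?_⟩
  rw [← map_bc_right lam t₁ t₂ φ hφ, het, map_sum]
  refine Finset.sum_congr rfl fun k _ => ?_
  rw [map_sum]
  refine Finset.sum_congr rfl fun l _ => ?_
  rw [map_right_smul]

/-- matrix units of an algebra adapted to integral structure constants give adapted matrix units
of every base change -/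
theorem patAdapted_of_units (n : ℕ) (c : ℕ → ℕ → ℕ → ℕ → ℤ) (e₀ : Fin n → Fin n → A₁)
    (he₀ : IsMatUnits e₀)
    (het₀ : ∀ i j, t₁ (e₀ i j) = ∑ k, ∑ l, castPat ℤ n c i j k l • e₀ k l)
    (E : Type*) [CommRing E] [Algebra S E] :
    PatAdapted lam t₁ E n (castPat E n c) := by
  refine ⟨fun i j => (1 : E) ⊗ₜ[S] e₀ i j,
    he₀.map (Algebra.TensorProduct.includeRight : A₁ →ₐ[S] E ⊗[S] A₁).toRingHom, fun i j => ?_⟩
  rw [AzInv.LamInv.bc_tmul, het₀, TensorProduct.tmul_sum]
  refine Finset.sum_congr rfl fun k _ => ?_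
  rw [TensorProduct.tmul_sum]
  refine Finset.sum_congr rfl fun l _ => ?_
  have h1 : castPat ℤ n c i j k l = c i j k l := by simp [castPat]
  rw [h1, TensorProduct.tmul_smul]
  simp only [castPat]
  rw [Int.cast_smul_eq_zsmul]

end transport

section models

variable {S : Type u} {R : Type v} [CommRing S] [CommRing R] [Algebra S R]
  (lam : R ≃ₐ[S] R) (hlam : ∀ r, lam (lam r) = r)
  {A : Type w} [Ring A] [Algebra S A] [Algebra R A] [IsScalarTower S R A]
  (t : AzInv.LamInv R A lam)

/-- the `1 × 1` matrix algebra -/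
theorem patAdapted_one {E : Type*} [CommRing E] [Algebra S E] {n : ℕ}
    {c : Fin n → Fin n → Fin n → Fin n → E} (h : PatAdapted lam t E n c) :
    PatAdapted lam (t.matrix (Fin 1)) E n c :=
  PatAdapted.of_algHom lam t (t.matrix (Fin 1))
    (((oneEquiv R A).restrictScalars S : A ≃ₐ[S] _) : A →ₐ[S] Matrix (Fin 1) (Fin 1) A)
    (fun a => (matrix_oneEquiv t a).symm) h

/-- the matrix algebra over `R` with the `lam`-transpose -/
theorem patAdapted_self (n : ℕ) (E : Type*) [CommRing E] [Algebra S E] :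
    PatAdapted lam ((AzInv.LamInv.self lam hlam).matrix (Fin n)) E n (castPat E n cOrth) := by
  refine patAdapted_of_units lam _ n cOrth (fun i j => Matrix.single i j (1 : R))
    (isMatUnits_single R n) (fun i j => ?_) E
  rw [sum_cOrth (E := ℤ) (fun k l => (Matrix.single k l (1 : R) : Matrix (Fin n) (Fin n) R)) i j,
    matrix_self_single]

/-- the `2 × 2` matrix algebra with the standard symplectic involution -/
theorem patAdapted_symp2 (J : (Matrix (Fin 2) (Fin 2) R)ˣ)
    (hJ : (↑J : Matrix (Fin 2) (Fin 2) R) = Matrix.of ![![0, -1], ![1, 0]])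
    (hJt : AzInv.LamInv.transpose lam (Fin 2) hlam (↑J : Matrix (Fin 2) (Fin 2) R) =
      (-1 : R) • (↑J : Matrix (Fin 2) (Fin 2) R))
    (hneg : lam (-1) * (-1) = 1) (E : Type*) [CommRing E] [Algebra S E] :
    PatAdapted lam ((AzInv.LamInv.transpose lam (Fin 2) hlam).conj J (-1) hJt hneg) E 2
      (castPat E 2 cSymp) := by
  refine patAdapted_of_units lam _ 2 cSymp (fun i j => Matrix.single i j (1 : R))
    (isMatUnits_single R 2) (fun a b => ?_) E
  have hJ' : ((J⁻¹ : (Matrix (Fin 2) (Fin 2) R)ˣ) : Matrix (Fin 2) (Fin 2) R) =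
      Matrix.of ![![0, 1], ![-1, 0]] := by
    have h1 : (↑J : Matrix (Fin 2) (Fin 2) R) * Matrix.of ![![0, 1], ![-1, 0]] = 1 := by
      rw [hJ]
      ext i j
      fin_cases i <;> fin_cases j <;> simp [Matrix.mul_apply, Fin.sum_univ_two]
    exact (Units.inv_eq_of_mul_eq_one_right h1)
  have h2 : AzInv.LamInv.transpose lam (Fin 2) hlam (Matrix.single a b (1 : R)) =
      Matrix.single b a (1 : R) := by
    ext i j
    rw [AzInv.LamInv.transpose_apply, Matrix.single_apply, Matrix.single_apply]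
    by_cases h : a = j ∧ b = i
    · rw [if_pos h, if_pos ⟨h.2, h.1⟩, map_one]
    · rw [if_neg h, if_neg (fun h' => h ⟨h'.2, h'.1⟩), map_zero]
  rw [AzInv.LamInv.conj_apply, h2]
  exact symp2_single _ _ hJ hJ' a b

end models

section final

variable {S : Type u} {R : Type v} [CommRing S] [CommRing R] [Algebra S R]
  (lam : R ≃ₐ[S] R) (hlam : ∀ r, lam (lam r) = r)
  {A : Type w} [Ring A] [Algebra S A] [Algebra R A] [IsScalarTower S R A]
  (t : AzInv.LamInv R A lam)

/-- matrix units adapted to the transpose on an etale covering: the neutral type -/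
theorem sameType_self_of_orth (n : ℕ) (hn : 0 < n) (hA : AzInv.IsAzumayaDeg R A n)
    (h : ∃ (S' : Type u) (_ : CommRing S') (_ : Algebra S S') (_ : Algebra.Etale S S')
      (_ : Module.FaithfullyFlat S S'), PatAdapted lam t S' n (castPat S' n cOrth)) :
    AzInv.SameType S lam t (AzInv.LamInv.self lam hlam) := by
  obtain ⟨S', _, _, _, hff, hS'⟩ := h
  obtain ⟨f, hf1, hf2⟩ := exists_iso_of_pat lam (t.matrix (Fin 1))
    ((AzInv.LamInv.self lam hlam).matrix (Fin n)) n hn (isAzumayaDeg_one hA)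
    (Groth.Agent.Lib.T2H2.AzInvStd.isAzumayaDeg_matrix R n hn) _ (patAdapted_one lam t hS')
    (patAdapted_self lam hlam n S')
  exact ⟨1, n, one_pos, hn, S', inferInstance, inferInstance, inferInstance, hff, f, hf1, hf2⟩

/-- matrix units adapted to the standard symplectic involution on an etale covering: the
symplectic type -/
theorem sameType_symp_of_symp (J : (Matrix (Fin 2) (Fin 2) R)ˣ)
    (hJ : (↑J : Matrix (Fin 2) (Fin 2) R) = Matrix.of ![![0, -1], ![1, 0]])
    (hJt : AzInv.LamInv.transpose lam (Fin 2) hlam (↑J : Matrix (Fin 2) (Fin 2) R) =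
      (-1 : R) • (↑J : Matrix (Fin 2) (Fin 2) R))
    (hneg : lam (-1) * (-1) = 1)
    (n : ℕ) (hn : 0 < n) (hA : AzInv.IsAzumayaDeg R A n) (hev : Even n)
    (h : ∃ (S' : Type u) (_ : CommRing S') (_ : Algebra S S') (_ : Algebra.Etale S S')
      (_ : Module.FaithfullyFlat S S'), PatAdapted lam t S' n (castPat S' n cSymp)) :
    AzInv.SameType S lam t ((AzInv.LamInv.transpose lam (Fin 2) hlam).conj J (-1) hJt hneg) := by
  obtain ⟨S', _, _, _, hff, hS'⟩ := h
  obtain ⟨r, hr⟩ := hev
  have hr2 : n = r * 2 := by omega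
  subst hr2
  have hr0 : 0 < r := by omega
  obtain ⟨f, hf1, hf2⟩ := exists_iso_of_pat lam (t.matrix (Fin 1))
    (((AzInv.LamInv.transpose lam (Fin 2) hlam).conj J (-1) hJt hneg).matrix (Fin r)) (r * 2) hn
    (isAzumayaDeg_one hA)
    (Groth.Agent.Lib.T2H2.AzInvMat.isAzumayaDeg_matrix (Matrix (Fin 2) (Fin 2) R)
      (Groth.Agent.Lib.T2H2.AzInvStd.isAzumayaDeg_matrix R 2 two_pos) r hr0) _
    (patAdapted_one lam t hS')
    (patAdapted_matrix lam _ cSymp 2 r (cSymp_periodic 2 even_two)
      (patAdapted_symp2 lam hlam J hJ hJt hneg S'))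
  exact ⟨1, r, one_pos, hr0, S', inferInstance, inferInstance, inferInstance, hff, f, hf1, hf2⟩

end final

end Groth.Agent.Lib.T2H2.AzInvStd2
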