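import Mathlib
import Groth.Agent.Lib.T2H2AzInvStd2

/-!
# Involutions over an everywhere ramified quotient are ordinary

Let `R` be a ring with involution `lam` with fixed ring `S` in which `2` is invertible, such
that every prime of `S` is a branch point.  The symplectic locus of an Azumaya algebra with
involution is cut out by an idempotent `ε` of `S`, and the algebra is locally isomorphic to the
matrix algebra with the adjoint involution of the matrix `(1 - ε) + ε J`.
-/

set_option autoImplicit false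

namespace Groth.Agent.Lib.T2H2.AzInvRam

open scoped TensorProduct
open Matrix
open Groth.Agent.Lib.T2H2.MatUnits Groth.Agent.Lib.T2H2.AzInvPat
  Groth.Agent.Lib.T2H2.AzInvClass Groth.Agent.Lib.T2H2.AzInvType
  Groth.Agent.Lib.T2H2.HermAlt Groth.Agent.Lib.T2H2.HermClass

universe u v w

section model

variable {R : Type v} [CommRing R]

/-- the standard symplectic involution on matrix units, for every size -/
theorem symp_single (n : ℕ) (a b : Fin n) :
    Jn R n * Matrix.single b a (1 : R) * (-Jn R n) =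
      ∑ k, ∑ l, castPat ℤ n cSymp a b k l •
        (Matrix.single k l (1 : R) : Matrix (Fin n) (Fin n) R) := by
  have h1 : ∑ k, ∑ l, castPat ℤ n cSymp a b k l •
      (Matrix.single k l (1 : R) : Matrix (Fin n) (Fin n) R) =
      Matrix.of fun k l => ((cSymp a.val b.val k.val l.val : ℤ) : R) := by
    conv_rhs => rw [Matrix.matrix_eq_sum_single
      (Matrix.of fun k l : Fin n => ((cSymp a.val b.val k.val l.val : ℤ) : R))]
    refine Finset.sum_congr rfl fun k _ => ?_
    refine Finset.sum_congr rfl fun l _ => ?_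
    rw [Matrix.smul_single]
    simp [castPat]
  rw [h1]
  ext k l
  rw [Matrix.mul_apply, Finset.sum_eq_single a]
  · rw [Matrix.mul_single_apply_same, Matrix.neg_apply, Matrix.of_apply]
    simp only [Jn, Matrix.of_apply, cSymp, Int.cast_mul, Int.cast_neg, jn_cast, mul_one]
  · intro y _ hy
    rw [Matrix.mul_single_apply_of_ne _ _ _ _ _ hy, zero_mul]
  · intro h; exact absurd (Finset.mem_univ _) h

/-- the matrix `(1 - ε) + ε J` -/
def wMat (ε : R) (n : ℕ) : Matrix (Fin n) (Fin n) R :=
  (1 - ε) • (1 : Matrix (Fin n) (Fin n) R) + ε • Jn R n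

/-- the inverse of `wMat` -/
def wInv (ε : R) (n : ℕ) : Matrix (Fin n) (Fin n) R :=
  (1 - ε) • (1 : Matrix (Fin n) (Fin n) R) - ε • Jn R n

theorem smul_comb_mul (a b : R) (ha : a * a = a) (hb : b * b = b) (hab : a * b = 0) (n : ℕ)
    (J Y : Matrix (Fin n) (Fin n) R) :
    (a • (1 : Matrix (Fin n) (Fin n) R) + b • J) * Y * (a • (1 : Matrix (Fin n) (Fin n) R) - b • J)
      = a • Y + b • (J * Y * (-J)) := by
  have hba : b * a = 0 := by rw [mul_comm]; exact hab
  calc (a • (1 : Matrix (Fin n) (Fin n) R) + b • J) * Y * (a • (1 : Matrix (Fin n) (Fin n) R) - b • J)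
      = (a * a) • Y + (a * b) • (J * Y) - ((b * a) • (Y * J) + (b * b) • (J * Y * J)) := by
        simp only [Matrix.add_mul, Matrix.mul_sub, Matrix.smul_mul, Matrix.mul_smul,
          Matrix.one_mul, Matrix.mul_one, smul_add, smul_smul]
    _ = a • Y + b • (J * Y * (-J)) := by
        rw [ha, hb, hab, hba, zero_smul, zero_smul, add_zero, zero_add, Matrix.mul_neg, smul_neg,
          sub_eq_add_neg]

theorem wMat_mul_mul_wInv (ε : R) (n : ℕ) (hε : ε * ε = ε)
    (Y : Matrix (Fin n) (Fin n) R) :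
    wMat ε n * Y * wInv ε n = (1 - ε) • Y + ε • (Jn R n * Y * (-Jn R n)) :=
  smul_comb_mul (1 - ε) ε (by linear_combination hε) hε (by linear_combination -hε) n _ Y

theorem wMat_mul_wInv (ε : R) (n : ℕ) (hε : ε * ε = ε) (hεn : ε = 0 ∨ Even n) :
    wMat ε n * wInv ε n = 1 := by
  have h := wMat_mul_mul_wInv ε n hε 1
  rw [Matrix.mul_one] at h
  rw [h, Matrix.mul_one, Matrix.mul_neg]
  rcases hεn with rfl | hev
  · simp
  · rw [Jn_mul_Jn hev, neg_neg, ← add_smul, sub_add_cancel, one_smul]

theorem wInv_mul_wMat (ε : R) (n : ℕ) (hε : ε * ε = ε) (hεn : ε = 0 ∨ Even n) :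
    wInv ε n * wMat ε n = 1 := by
  have h := smul_comb_mul (1 - ε) ε (by linear_combination hε) hε (by linear_combination -hε) n
    (-Jn R n) 1
  rw [Matrix.mul_one, smul_neg, ← sub_eq_add_neg, neg_neg, sub_neg_eq_add] at h
  have h' : wInv ε n * wMat ε n = (1 - ε) • 1 + ε • (-Jn R n * 1 * Jn R n) := by
    rw [← h]
    rfl
  rw [h', Matrix.mul_one, Matrix.neg_mul]
  rcases hεn with rfl | hev
  · simp
  · rw [Jn_mul_Jn hev, neg_neg, ← add_smul, sub_add_cancel, one_smul]

theorem wMat_apply (ε : R) (n : ℕ) (i j : Fin n) :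
    wMat ε n i j = (1 - ε) * (if i = j then 1 else 0) + ε * jn i.val j.val := by
  simp [wMat, Jn, Matrix.one_apply]

theorem map_jn {R' : Type*} [CommRing R'] (f : R →+* R') (a b : ℕ) :
    f (jn a b : R) = jn a b := by
  unfold jn
  split_ifs <;> simp

theorem lamTr_wMat {F : Type*} [FunLike F R R] [RingHomClass F R R] (lam' : F)
    (hlam : ∀ r : R, lam' (lam' r) = r) (ε : R) (n : ℕ) (hε : ε * ε = ε) (hlε : lam' ε = ε) :
    AzInv.LamInv.transpose lam' (Fin n) hlam (wMat ε n) = (1 - 2 * ε) • wMat ε n := by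
  ext i j
  rw [AzInv.LamInv.transpose_apply, Matrix.smul_apply, wMat_apply, wMat_apply, map_add, map_mul,
    map_mul, map_sub, map_one, hlε]
  have h1 : lam' (jn (j : ℕ) (i : ℕ) : R) = jn (j : ℕ) (i : ℕ) := map_jn (lam' : R →+* R) _ _
  rw [h1, jn_swap (i : ℕ) (j : ℕ)]
  by_cases hij : i = j
  · subst hij
    rw [if_pos rfl, map_one, smul_eq_mul]
    linear_combination (-2 + 2 * jn (i : ℕ) (i : ℕ)) * hε
  · rw [if_neg hij, if_neg (fun h => hij h.symm), map_zero, smul_eq_mul]
    linear_combination (2 * jn (i : ℕ) (j : ℕ)) * hε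

end model

section pattern

variable {S : Type u} {R : Type v} [CommRing S] [CommRing R] [Algebra S R]
  (lam : R ≃ₐ[S] R) (hlam : ∀ r, lam (lam r) = r)

/-- the patterns of the model algebra with involution where `ε` vanishes, resp. is one -/
theorem patAdapted_model (ε : S) (hε : ε * ε = ε) (n : ℕ) (W : (Matrix (Fin n) (Fin n) R)ˣ)
    (hW : (↑W : Matrix (Fin n) (Fin n) R) = wMat (algebraMap S R ε) n)
    (hW' : ((W⁻¹ : (Matrix (Fin n) (Fin n) R)ˣ) : Matrix (Fin n) (Fin n) R) =
      wInv (algebraMap S R ε) n)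
    (e : R) (hw : AzInv.LamInv.transpose lam (Fin n) hlam (↑W : Matrix (Fin n) (Fin n) R) =
      e • (↑W : Matrix (Fin n) (Fin n) R)) (he : lam e * e = 1)
    (E : Type*) [CommRing E] [Algebra S E] :
    (algebraMap S E ε = 0 →
      PatAdapted lam ((AzInv.LamInv.transpose lam (Fin n) hlam).conj W e hw he) E n
        (castPat E n cOrth)) ∧
    (algebraMap S E ε = 1 →
      PatAdapted lam ((AzInv.LamInv.transpose lam (Fin n) hlam).conj W e hw he) E n
        (castPat E n cSymp)) := by
  have hεR : algebraMap S R ε * algebraMap S R ε = algebraMap S R ε := by rw [← map_mul, hε]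
  have hunits : IsMatUnits (fun i j => (1 : E) ⊗ₜ[S]
      (Matrix.single i j (1 : R) : Matrix (Fin n) (Fin n) R)) :=
    (isMatUnits_single R n).map (Algebra.TensorProduct.includeRight :
      Matrix (Fin n) (Fin n) R →ₐ[S] E ⊗[S] Matrix (Fin n) (Fin n) R).toRingHom
  have h2 : ∀ a b : Fin n, AzInv.LamInv.transpose lam (Fin n) hlam (Matrix.single a b (1 : R)) =
      Matrix.single b a (1 : R) := by
    intro a b
    ext i j
    rw [AzInv.LamInv.transpose_apply, Matrix.single_apply, Matrix.single_apply]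
    by_cases h : a = j ∧ b = i
    · rw [if_pos h, if_pos ⟨h.2, h.1⟩, map_one]
    · rw [if_neg h, if_neg (fun h' => h ⟨h'.2, h'.1⟩), map_zero]
  have hbc : ∀ a b : Fin n,
      ((AzInv.LamInv.transpose lam (Fin n) hlam).conj W e hw he).bc S lam E
        ((1 : E) ⊗ₜ[S] (Matrix.single a b (1 : R) : Matrix (Fin n) (Fin n) R)) =
      algebraMap S E (1 - ε) • ((1 : E) ⊗ₜ[S]
        (Matrix.single b a (1 : R) : Matrix (Fin n) (Fin n) R)) +
      algebraMap S E ε • ((1 : E) ⊗ₜ[S]
        (Jn R n * Matrix.single b a (1 : R) * (-Jn R n))) := by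
    intro a b
    rw [AzInv.LamInv.bc_tmul, AzInv.LamInv.conj_apply, h2, hW, hW',
      wMat_mul_mul_wInv _ n hεR, TensorProduct.tmul_add]
    have h3 : (1 : R) - algebraMap S R ε = algebraMap S R (1 - ε) := by rw [map_sub, map_one]
    rw [h3, algebraMap_smul, algebraMap_smul, TensorProduct.tmul_smul, TensorProduct.tmul_smul,
      algebraMap_smul, algebraMap_smul]
  constructor
  · intro h0
    refine ⟨_, hunits, fun a b => ?_⟩
    rw [hbc, map_sub, map_one, h0, sub_zero, one_smul, zero_smul, add_zero,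
      sum_cOrth (E := E) (fun k l => (1 : E) ⊗ₜ[S]
        (Matrix.single k l (1 : R) : Matrix (Fin n) (Fin n) R)) a b]
  · intro h1
    refine ⟨_, hunits, fun a b => ?_⟩
    rw [hbc, map_sub, map_one, h1, sub_self, one_smul, zero_smul, zero_add, symp_single,
      TensorProduct.tmul_sum]
    refine Finset.sum_congr rfl fun k _ => ?_
    rw [TensorProduct.tmul_sum]
    refine Finset.sum_congr rfl fun l _ => ?_
    have h4 : castPat ℤ n cSymp a b k l = cSymp a b k l := by simp [castPat]
    rw [h4, TensorProduct.tmul_smul]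
    simp only [castPat]
    rw [Int.cast_smul_eq_zsmul]

end pattern

section branch

open Groth.Agent.Lib.T2H2.AzInvSplit Groth.Agent.Lib.T2H2.AzInvFirst
  Groth.Agent.Lib.Helper3.IndEt Groth.Agent.Lib.T2H2.EtLoc IsLocalRing

theorem eq_zero_of_idem_of_forall_mem {E : Type*} [CommRing E] (x : E) (hx : x * x = x)
    (h : ∀ Q : PrimeSpectrum E, x ∈ Q.asIdeal) : x = 0 := by
  have h1 : x ∈ nilradical E := by
    rw [nilradical_eq_sInf, Ideal.mem_sInf]
    intro Q hQ
    exact h ⟨Q, hQ⟩
  obtain ⟨k, hk⟩ := h1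
  cases k with
  | zero =>
    rw [pow_zero] at hk
    calc x = x * 1 := (mul_one x).symm
      _ = 0 := by rw [hk, mul_zero]
  | succ k =>
    have h2 : IsIdempotentElem x := hx
    rw [h2.pow_succ_eq] at hk
    exact hk

variable {S : Type u} {R : Type v} [CommRing S] [CommRing R] [Algebra S R]
  (lam : R ≃ₐ[S] R) (hlam : ∀ r, lam (lam r) = r) (hfix : RInv.IsFixedRing S R lam.toRingEquiv)
  {A : Type w} [Ring A] [Algebra S A] [Algebra R A] [IsScalarTower S R A]
  (t : AzInv.LamInv R A lam)

include hlam hfix in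
/-- over a local flat `S`-algebra whose closed point lies over a branch point the involution is
the identity modulo the radical -/
theorem hid_of_branch (p : PrimeSpectrum S)
    (hbr : ∀ q : PrimeSpectrum R, q.asIdeal.comap (algebraMap S R) = p.asIdeal →
      ∀ r, lam r - r ∈ q.asIdeal)
    (B : Type u) [CommRing B] [IsLocalRing B] [Algebra S B] [Module.Flat S B]
    (hB : (maximalIdeal B).comap (algebraMap S B) = p.asIdeal) (a : B ⊗[S] R) :
    Algebra.TensorProduct.congr (AlgEquiv.refl : B ≃ₐ[S] B) lam a - a ∈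
      Ring.jacobson (B ⊗[S] R) := by
  have hfixB := Groth.Agent.S15586.result S R B lam (fun r => hlam r) hfix (Or.inl inferInstance)
  have hinvB := involutive_congr lam hlam B
  rw [← Ideal.jacobson_bot, Ideal.jacobson, Ideal.mem_sInf]
  rintro M ⟨-, hM⟩
  have h1 : maximalIdeal B ≤ M.comap (algebraMap B (B ⊗[S] R)) := by
    intro b hb
    have h3 := Groth.Agent.Lib.Helper15.QuadEtale.algebraMap_mem_jacobson
      (Algebra.TensorProduct.congr (AlgEquiv.refl : B ≃ₐ[S] B) lam).toRingEquiv hinvB hfixB hb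
    rw [← Ideal.jacobson_bot] at h3
    exact (Ideal.mem_sInf.mp h3) ⟨bot_le, hM⟩
  have h2 : M.comap (algebraMap B (B ⊗[S] R)) = maximalIdeal B :=
    ((maximalIdeal.isMaximal B).eq_of_le (Ideal.comap_ne_top _ hM.ne_top) h1).symm
  have hMp : M.IsPrime := hM.isPrime
  let q' : PrimeSpectrum R :=
    ⟨M.comap (Algebra.TensorProduct.includeRight : R →ₐ[S] B ⊗[S] R).toRingHom, inferInstance⟩
  have hq' : q'.asIdeal.comap (algebraMap S R) = p.asIdeal := by
    rw [← hB, ← h2, Ideal.comap_comap, Ideal.comap_comap]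
    congr 1
    rw [AlgHom.toRingHom_eq_coe, AlgHom.comp_algebraMap, ← IsScalarTower.algebraMap_eq]
  induction a using TensorProduct.induction_on with
  | zero => simp
  | add x y hx hy =>
    rw [map_add, add_sub_add_comm]
    exact add_mem hx hy
  | tmul b r =>
    rw [Algebra.TensorProduct.congr_apply, Algebra.TensorProduct.map_tmul]
    show b ⊗ₜ[S] lam r - b ⊗ₜ[S] r ∈ M
    rw [← TensorProduct.tmul_sub]
    have h4 : b ⊗ₜ[S] (lam r - r) = (b ⊗ₜ[S] (1 : R)) * ((1 : B) ⊗ₜ[S] (lam r - r)) := by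
      rw [Algebra.TensorProduct.tmul_mul_tmul, mul_one, one_mul]
    rw [h4]
    exact Ideal.mul_mem_left _ _ (hbr q' hq' r)

include hlam hfix in
/-- over a branch point the two cases exclude each other -/
theorem not_orth_and_symp_branch (h2 : IsUnit (2 : S)) (n : ℕ) (hn : 0 < n)
    (hA : AzInv.IsAzumayaDeg R A n)
    (E₁ E₂ : Type u) [CommRing E₁] [CommRing E₂] [Algebra S E₁] [Algebra S E₂]
    [Algebra.Etale S E₁] [Algebra.Etale S E₂] (p : PrimeSpectrum S)
    (hbr : ∀ q : PrimeSpectrum R, q.asIdeal.comap (algebraMap S R) = p.asIdeal →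
      ∀ r, lam r - r ∈ q.asIdeal)
    (h₁ : p ∈ Set.range (PrimeSpectrum.comap (algebraMap S E₁)))
    (h₂ : p ∈ Set.range (PrimeSpectrum.comap (algebraMap S E₂)))
    (hO : PatAdapted lam t E₁ n (castPat E₁ n cOrth)) (hev : Even n)
    (hS : PatAdapted lam t E₂ n (castPat E₂ n cSymp)) : False := by
  obtain ⟨Q, hQ⟩ := mem_range_tensor E₁ E₂ p h₁ h₂
  have hE : Algebra.Etale S (E₁ ⊗[S] E₂) := etale_tensor S E₁ E₂
  obtain ⟨B, _, _, _, _, H, ⟨g⟩, hmax⟩ := exists_strictHenselization_over S (E₁ ⊗[S] E₂) Q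
  have hflat : Module.Flat S B := flat_of_factor' H
  have h2B : IsUnit (2 : B) := by
    have := h2.map (algebraMap S B)
    rwa [map_ofNat] at this
  have hOB := hO.map_cast lam t (g.comp (Algebra.TensorProduct.includeLeft : E₁ →ₐ[S] E₁ ⊗[S] E₂))
  have hSB := hS.map_cast lam t (g.comp (Algebra.TensorProduct.includeRight : E₂ →ₐ[S] E₁ ⊗[S] E₂))
  have hfixB := Groth.Agent.S15586.result S R B lam (fun r => hlam r) hfix (Or.inl inferInstance)
  have hnt : Nontrivial (B ⊗[S] R) := hfixB.1.nontrivial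
  have hBp : (maximalIdeal B).comap (algebraMap S B) = p.asIdeal := by
    rw [hmax, ← hQ]
    rfl
  exact no_mixed lam hlam hfix t t B h2B n n hn hn hA hA hOB hSB hev
    (hid_of_branch lam hlam hfix p hbr B hBp) hnt AlgEquiv.refl (fun r x => rfl) (fun x => rfl)

include hlam hfix in
/-- when every point is a branch point the symplectic locus is cut out by an idempotent -/
theorem exists_idempotent_type (h2 : IsUnit (2 : S))
    (hbr : ∀ (p : PrimeSpectrum S) (q : PrimeSpectrum R),
      q.asIdeal.comap (algebraMap S R) = p.asIdeal → ∀ r, lam r - r ∈ q.asIdeal)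
    (n : ℕ) (hn : 0 < n) (hA : AzInv.IsAzumayaDeg R A n) :
    ∃ ε : S, ε * ε = ε ∧ (ε = 0 ∨ Even n) ∧ ∀ p : PrimeSpectrum S,
      ∃ (E : Type u) (_ : CommRing E) (_ : Algebra S E) (_ : Algebra.Etale S E),
        p ∈ Set.range (PrimeSpectrum.comap (algebraMap S E)) ∧
          ((algebraMap S E ε = 0 ∧ PatAdapted lam t E n (castPat E n cOrth)) ∨
            (algebraMap S E ε = 1 ∧ PatAdapted lam t E n (castPat E n cSymp))) := by
  let Ω : Set (PrimeSpectrum S) := {p | ∃ (E : Type u) (_ : CommRing E) (_ : Algebra S E)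
    (_ : Algebra.Etale S E), p ∈ Set.range (PrimeSpectrum.comap (algebraMap S E)) ∧
      PatAdapted lam t E n (castPat E n cOrth)}
  let Sy : Set (PrimeSpectrum S) := {p | ∃ (E : Type u) (_ : CommRing E) (_ : Algebra S E)
    (_ : Algebra.Etale S E), p ∈ Set.range (PrimeSpectrum.comap (algebraMap S E)) ∧
      (Even n ∧ PatAdapted lam t E n (castPat E n cSymp))}
  have hopen : ∀ (E : Type u) [CommRing E] [Algebra S E] [Algebra.Etale S E],
      IsOpen (Set.range (PrimeSpectrum.comap (algebraMap S E))) := fun E _ _ _ =>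
    (PrimeSpectrum.isOpenMap_comap_of_hasGoingDown_of_finitePresentation
      (R := S) (S := E)).isOpen_range
  have hΩ : IsOpen Ω := by
    rw [isOpen_iff_forall_mem_open]
    rintro p ⟨E, _, _, _, hp, hE⟩
    exact ⟨_, fun p' hp' => ⟨E, inferInstance, inferInstance, inferInstance, hp', hE⟩,
      hopen E, hp⟩
  have hSy : IsOpen Sy := by
    rw [isOpen_iff_forall_mem_open]
    rintro p ⟨E, _, _, _, hp, hE⟩
    exact ⟨_, fun p' hp' => ⟨E, inferInstance, inferInstance, inferInstance, hp', hE⟩,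
      hopen E, hp⟩
  have hcover : ∀ p, p ∈ Ω ∨ p ∈ Sy := by
    intro p
    obtain ⟨E, _, _, _, hp, hE | hE⟩ := exists_pat_at lam hlam hfix t h2 n hn hA p
    · exact Or.inl ⟨E, inferInstance, inferInstance, inferInstance, hp, hE⟩
    · exact Or.inr ⟨E, inferInstance, inferInstance, inferInstance, hp, hE⟩
  have hdisj : ∀ p, p ∈ Ω → p ∈ Sy → False := by
    rintro p ⟨E₁, _, _, _, hp₁, hE₁⟩ ⟨E₂, _, _, _, hp₂, hev, hE₂⟩
    exact not_orth_and_symp_branch lam hlam hfix t h2 n hn hA E₁ E₂ p (hbr p) hp₁ hp₂ hE₁ hev hE₂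
  have hcompl : Syᶜ = Ω := by
    ext p
    constructor
    · intro hp
      exact (hcover p).resolve_right hp
    · intro hp hp'
      exact hdisj p hp hp'
  have hclopen : IsClopen Sy := ⟨by rw [← isOpen_compl_iff, hcompl]; exact hΩ, hSy⟩
  obtain ⟨ε, hε, hSyε⟩ := PrimeSpectrum.isClopen_iff.mp hclopen
  have hmemSy : ∀ p : PrimeSpectrum S, p ∈ Sy ↔ ε ∉ p.asIdeal := by
    intro p
    rw [hSyε]
    exact PrimeSpectrum.mem_basicOpen ε p
  refine ⟨ε, hε, ?_, fun p => ?_⟩
  · by_cases hne : Sy.Nonempty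
    · obtain ⟨p, E, _, _, _, -, hev, -⟩ := hne
      exact Or.inr hev
    · left
      apply eq_zero_of_idem_of_forall_mem ε hε
      intro Q
      by_contra hQ
      exact hne ⟨Q, (hmemSy Q).mpr hQ⟩
  · rcases hcover p with hp | hp
    · obtain ⟨E, _, _, _, hpE, hE⟩ := hp
      refine ⟨E, inferInstance, inferInstance, inferInstance, hpE, Or.inl ⟨?_, hE⟩⟩
      apply eq_zero_of_idem_of_forall_mem _ (by rw [← map_mul, hε])
      intro Q
      have h3 : PrimeSpectrum.comap (algebraMap S E) Q ∈ Ω :=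
        ⟨E, inferInstance, inferInstance, inferInstance, ⟨Q, rfl⟩, hE⟩
      have h4 : PrimeSpectrum.comap (algebraMap S E) Q ∉ Sy := fun h => hdisj _ h3 h
      rw [hmemSy, not_not] at h4
      exact h4
    · obtain ⟨E, _, _, _, hpE, hE⟩ := hp
      refine ⟨E, inferInstance, inferInstance, inferInstance, hpE, Or.inr ⟨?_, hE.2⟩⟩
      have h5 : 1 - algebraMap S E ε = 0 := by
        apply eq_zero_of_idem_of_forall_mem
        · have h6 : algebraMap S E ε * algebraMap S E ε = algebraMap S E ε := by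
            rw [← map_mul, hε]
          linear_combination h6
        · intro Q
          have h3 : PrimeSpectrum.comap (algebraMap S E) Q ∈ Sy :=
            ⟨E, inferInstance, inferInstance, inferInstance, ⟨Q, rfl⟩, hE⟩
          rw [hmemSy] at h3
          have h6 : algebraMap S E ε * (1 - algebraMap S E ε) ∈ Q.asIdeal := by
            have h7 : algebraMap S E ε * (1 - algebraMap S E ε) = 0 := by
              have h8 : algebraMap S E ε * algebraMap S E ε = algebraMap S E ε := by
                rw [← map_mul, hε]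
              linear_combination -h8
            rw [h7]
            exact zero_mem _
          exact (Q.isPrime.mem_or_mem h6).resolve_left h3
      linear_combination -h5

end branch

section final

open Groth.Agent.Lib.T2H2.EtLoc

variable {S : Type u} {R : Type v} [CommRing S] [CommRing R] [Algebra S R]
  (lam : R ≃ₐ[S] R) (hlam : ∀ r, lam (lam r) = r)
  {A : Type w} [Ring A] [Algebra S A] [Algebra R A] [IsScalarTower S R A]
  (t : AzInv.LamInv R A lam)

/-- an algebra with involution which is of orthogonal type where the idempotent `ε` vanishes and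
of symplectic type where it is one is locally isomorphic to a matrix algebra over `R` with the
adjoint involution of a global `ε'`-hermitian matrix -/
theorem final (ε : S) (hε : ε * ε = ε) (n : ℕ) (hεn : ε = 0 ∨ Even n) (hn : 0 < n)
    (hA : AzInv.IsAzumayaDeg R A n)
    (hloc : ∀ p : PrimeSpectrum S,
      ∃ (E : Type u) (_ : CommRing E) (_ : Algebra S E) (_ : Algebra.Etale S E),
        p ∈ Set.range (PrimeSpectrum.comap (algebraMap S E)) ∧
          ((algebraMap S E ε = 0 ∧ PatAdapted lam t E n (castPat E n cOrth)) ∨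
            (algebraMap S E ε = 1 ∧ PatAdapted lam t E n (castPat E n cSymp)))) :
    ∃ (w : (Matrix (Fin n) (Fin n) R)ˣ) (e : R)
      (hw : AzInv.LamInv.transpose lam (Fin n) hlam (↑w : Matrix (Fin n) (Fin n) R) =
        e • (↑w : Matrix (Fin n) (Fin n) R))
      (he : lam e * e = 1),
      AzInv.LocIsoEt S lam t ((AzInv.LamInv.transpose lam (Fin n) hlam).conj w e hw he) := by
  have hεR : algebraMap S R ε * algebraMap S R ε = algebraMap S R ε := by rw [← map_mul, hε]
  have hεnR : algebraMap S R ε = 0 ∨ Even n := by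
    rcases hεn with rfl | h
    · exact Or.inl (map_zero _)
    · exact Or.inr h
  have hlε : lam (algebraMap S R ε) = algebraMap S R ε := lam.commutes ε
  let W : (Matrix (Fin n) (Fin n) R)ˣ :=
    ⟨wMat (algebraMap S R ε) n, wInv (algebraMap S R ε) n, wMat_mul_wInv _ n hεR hεnR,
      wInv_mul_wMat _ n hεR hεnR⟩
  have hw : AzInv.LamInv.transpose lam (Fin n) hlam (↑W : Matrix (Fin n) (Fin n) R) =
      (1 - 2 * algebraMap S R ε) • (↑W : Matrix (Fin n) (Fin n) R) :=
    lamTr_wMat lam hlam _ n hεR hlε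
  have he : lam (1 - 2 * algebraMap S R ε) * (1 - 2 * algebraMap S R ε) = 1 := by
    rw [map_sub, map_mul, map_one, map_ofNat, hlε]
    linear_combination 4 * hεR
  refine ⟨W, 1 - 2 * algebraMap S R ε, hw, he, ?_⟩
  have hmodel := fun (E : Type u) [CommRing E] [Algebra S E] =>
    patAdapted_model lam hlam ε hε n W rfl rfl (1 - 2 * algebraMap S R ε) hw he E
  have hloc' : ∀ p : PrimeSpectrum S,
      ∃ (E : Type u) (_ : CommRing E) (_ : Algebra S E) (_ : Algebra.Etale S E),
        p ∈ Set.range (PrimeSpectrum.comap (algebraMap S E)) ∧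
          ∃ c : ℕ → ℕ → ℕ → ℕ → ℤ, PatAdapted lam t E n (castPat E n c) ∧
            PatAdapted lam ((AzInv.LamInv.transpose lam (Fin n) hlam).conj W
              (1 - 2 * algebraMap S R ε) hw he) E n (castPat E n c) := by
    intro p
    obtain ⟨E, _, _, _, hp, ⟨h0, hO⟩ | ⟨h1, hS⟩⟩ := hloc p
    · exact ⟨E, inferInstance, inferInstance, inferInstance, hp, cOrth, hO, (hmodel E).1 h0⟩
    · exact ⟨E, inferInstance, inferInstance, inferInstance, hp, cSymp, hS, (hmodel E).2 h1⟩
  choose 𝓔 i1 i2 i3 hr c hc hc' using hloc'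
  obtain ⟨T, hT⟩ := exists_finite_etale_cover S 𝓔 hr
  have h1 := patAdapted_pi lam t (fun i : T => 𝓔 i) n (fun i => castPat (𝓔 i) n (c i))
    (fun i => hc i)
  have h2' := patAdapted_pi lam ((AzInv.LamInv.transpose lam (Fin n) hlam).conj W
    (1 - 2 * algebraMap S R ε) hw he) (fun i : T => 𝓔 i) n
    (fun i => castPat (𝓔 i) n (c i)) (fun i => hc' i)
  obtain ⟨f, hf1, hf2⟩ := exists_iso_of_pat lam t _ n hn hA
    (Groth.Agent.Lib.T2H2.AzInvStd.isAzumayaDeg_matrix R n hn) _ h1 h2'
  exact ⟨∀ i : T, 𝓔 i, inferInstance, inferInstance, inferInstance, hT, f, hf1, hf2⟩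

end final

end Groth.Agent.Lib.T2H2.AzInvRam
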