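import Mathlib
import Groth.Agent.Lib.T2H2AzInvType

/-!
# Involutions of the same type are locally isomorphic

Let `R` be a ring with involution `lam` with fixed ring `S` in which `2` is invertible.  Two
Azumaya algebras with `lam`-involution of the same degree and of the same type are isomorphic
locally for the etale topology of `S`.
-/

set_option autoImplicit false

namespace Groth.Agent.Lib.T2H2.AzInvSame

open scoped TensorProduct
open Groth.Agent.Lib.T2H2.MatUnits Groth.Agent.Lib.T2H2.AzInvSplit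
  Groth.Agent.Lib.T2H2.AzInvInner Groth.Agent.Lib.T2H2.AzInvUnitary
  Groth.Agent.Lib.T2H2.AzInvIso Groth.Agent.Lib.T2H2.AzInvPat
  Groth.Agent.Lib.T2H2.AzInvClass Groth.Agent.Lib.T2H2.AzInvMat
  Groth.Agent.Lib.T2H2.AzInvType
  Groth.Agent.Lib.Helper3.IndEt Groth.Agent.Lib.T2H2.EtLoc IsLocalRing

universe u v w w'

variable {S : Type u} {R : Type v} [CommRing S] [CommRing R] [Algebra S R]
  (lam : R ≃ₐ[S] R) (hlam : ∀ r, lam (lam r) = r) (hfix : RInv.IsFixedRing S R lam.toRingEquiv)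
  {A : Type w} [Ring A] [Algebra S A] [Algebra R A] [IsScalarTower S R A]
  {A' : Type w'} [Ring A'] [Algebra S A'] [Algebra R A'] [IsScalarTower S R A']
  (t : AzInv.LamInv R A lam) (t' : AzInv.LamInv R A' lam)

include hlam hfix in
/-- involutions of the same type have matrix units adapted to the same structure constants on
an etale neighbourhood of any prime -/
theorem exists_common_pat_at (h2 : IsUnit (2 : S)) (n : ℕ) (hn : 0 < n)
    (hA : AzInv.IsAzumayaDeg R A n) (hA' : AzInv.IsAzumayaDeg R A' n)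
    (m m' : ℕ) (hm : 0 < m) (hm' : 0 < m')
    (S₀ : Type u) [CommRing S₀] [Algebra S S₀] [Algebra.Etale S S₀] [Module.FaithfullyFlat S S₀]
    (f₀ : S₀ ⊗[S] Matrix (Fin m) (Fin m) A ≃ₐ[S₀] S₀ ⊗[S] Matrix (Fin m') (Fin m') A')
    (ha : ∀ (r : R) (x : S₀ ⊗[S] Matrix (Fin m) (Fin m) A),
      f₀ (((1 : S₀) ⊗ₜ[S] algebraMap R (Matrix (Fin m) (Fin m) A) r) * x) =
        ((1 : S₀) ⊗ₜ[S] algebraMap R (Matrix (Fin m') (Fin m') A') r) * f₀ x)
    (hb : ∀ x, f₀ ((t.matrix (Fin m)).bc S lam S₀ x) = (t'.matrix (Fin m')).bc S lam S₀ (f₀ x))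
    (p : PrimeSpectrum S) :
    ∃ (E : Type u) (_ : CommRing E) (_ : Algebra S E) (_ : Algebra.Etale S E),
      p ∈ Set.range (PrimeSpectrum.comap (algebraMap S E)) ∧
        ∃ c : ℕ → ℕ → ℕ → ℕ → ℤ, PatAdapted lam t E n (castPat E n c) ∧
          PatAdapted lam t' E n (castPat E n c) := by
  obtain ⟨q, hq⟩ := PrimeSpectrum.comap_surjective_of_faithfullyFlat (A := S) (B := S₀) p
  obtain ⟨B, _, _, _, _, H, ⟨g⟩, hmax⟩ := exists_strictHenselization_over S S₀ q
  have hflat : Module.Flat S B := flat_of_factor' H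
  have h2B : IsUnit (2 : B) := by
    have := h2.map (algebraMap S B)
    rwa [map_ofNat] at this
  obtain ⟨F, hFa, hFb⟩ := exists_bc_iso lam (t.matrix (Fin m)) (t'.matrix (Fin m')) g f₀ ha hb
  have hmn : 0 < m * n := Nat.mul_pos hm hn
  have hmn' : 0 < m' * n := Nat.mul_pos hm' hn
  have hcommon : ∃ c : ℕ → ℕ → ℕ → ℕ → ℤ, PatAdapted lam t B n (castPat B n c) ∧
      PatAdapted lam t' B n (castPat B n c) := by
    rcases exists_pat_of_strictHenselian lam hlam hfix t B h2B n hn hA with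
      hO₁ | ⟨hid₁, hnt₁, hev₁, hS₁⟩ <;>
    rcases exists_pat_of_strictHenselian lam hlam hfix t' B h2B n hn hA' with
      hO₂ | ⟨hid₂, hnt₂, hev₂, hS₂⟩
    · exact ⟨cOrth, hO₁, hO₂⟩
    · exfalso
      exact no_mixed lam hlam hfix (t.matrix (Fin m)) (t'.matrix (Fin m')) B h2B (m * n) (m' * n)
        hmn hmn' (isAzumayaDeg_matrix A hA m hm) (isAzumayaDeg_matrix A' hA' m' hm')
        (patAdapted_matrix lam t cOrth n m (cOrth_periodic n) hO₁)
        (patAdapted_matrix lam t' cSymp n m' (cSymp_periodic n hev₂) hS₂)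
        (hev₂.mul_left m') hid₂ hnt₂ F hFa hFb
    · exfalso
      obtain ⟨hFa', hFb'⟩ := iso_symm lam (t.matrix (Fin m)) (t'.matrix (Fin m')) F hFa hFb
      exact no_mixed lam hlam hfix (t'.matrix (Fin m')) (t.matrix (Fin m)) B h2B (m' * n) (m * n)
        hmn' hmn (isAzumayaDeg_matrix A' hA' m' hm') (isAzumayaDeg_matrix A hA m hm)
        (patAdapted_matrix lam t' cOrth n m' (cOrth_periodic n) hO₂)
        (patAdapted_matrix lam t cSymp n m (cSymp_periodic n hev₁) hS₁)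
        (hev₁.mul_left m) hid₁ hnt₁ F.symm hFa' hFb'
    · exact ⟨cSymp, hS₁, hS₂⟩
  obtain ⟨c, hc, hc'⟩ := hcommon
  obtain ⟨E₁, _, _, _, g₁, hE₁⟩ := exists_etale_pat lam t B H n c hc
  obtain ⟨E₂, _, _, _, g₂, hE₂⟩ := exists_etale_pat lam t' B H n c hc'
  obtain ⟨E, _, _, _, gE, k₁, k₂, hk₁, hk₂⟩ := exists_refine g₁ g₂
  refine ⟨E, inferInstance, inferInstance, inferInstance,
    ⟨PrimeSpectrum.comap gE.toRingHom (closedPoint B), ?_⟩, c, hE₁.map_cast lam t k₁,
    hE₂.map_cast lam t' k₂⟩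
  apply PrimeSpectrum.ext
  show ((maximalIdeal B).comap gE.toRingHom).comap (algebraMap S E) = p.asIdeal
  rw [Ideal.comap_comap, AlgHom.toRingHom_eq_coe, AlgHom.comp_algebraMap, hmax, ← hq]
  rfl

include hlam hfix in
/-- involutions of the same type on algebras of the same degree are locally isomorphic, when
`2` is invertible -/
theorem main (h2 : IsUnit (2 : S)) (n : ℕ) (hn : 0 < n)
    (hA : AzInv.IsAzumayaDeg R A n) (hA' : AzInv.IsAzumayaDeg R A' n)
    (h : AzInv.SameType S lam t t') : AzInv.LocIsoEt S lam t t' := by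
  obtain ⟨m, m', hm, hm', S₀, _, _, _, _, f₀, ha, hb⟩ := h
  choose 𝓔 i1 i2 i3 hr c hc hc' using
    exists_common_pat_at lam hlam hfix t t' h2 n hn hA hA' m m' hm hm' S₀ f₀ ha hb
  obtain ⟨T, hT⟩ := exists_finite_etale_cover S 𝓔 hr
  have h1 := patAdapted_pi lam t (fun i : T => 𝓔 i) n (fun i => castPat (𝓔 i) n (c i))
    (fun i => hc i)
  have h2' := patAdapted_pi lam t' (fun i : T => 𝓔 i) n (fun i => castPat (𝓔 i) n (c i))
    (fun i => hc' i)
  obtain ⟨f, hf1, hf2⟩ := exists_iso_of_pat lam t t' n hn hA hA' _ h1 h2'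
  exact ⟨∀ i : T, 𝓔 i, inferInstance, inferInstance, inferInstance, hT, f, hf1, hf2⟩

/-- algebras with adapted matrix units over two etale covers are locally isomorphic -/
theorem locIso_of_adapted (n : ℕ) (hn : 0 < n)
    (hA : AzInv.IsAzumayaDeg R A n) (hA' : AzInv.IsAzumayaDeg R A' n)
    (h₁ : ∃ (S₁ : Type u) (_ : CommRing S₁) (_ : Algebra S S₁) (_ : Algebra.Etale S S₁)
      (_ : Module.FaithfullyFlat S S₁) (e : Fin n → Fin n → S₁ ⊗[S] A), IsMatUnits e ∧
        ∀ a b, t.bc S lam S₁ (e a b) = e b a)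
    (h₂ : ∃ (S₂ : Type u) (_ : CommRing S₂) (_ : Algebra S S₂) (_ : Algebra.Etale S S₂)
      (_ : Module.FaithfullyFlat S S₂) (e : Fin n → Fin n → S₂ ⊗[S] A'), IsMatUnits e ∧
        ∀ a b, t'.bc S lam S₂ (e a b) = e b a) :
    AzInv.LocIsoEt S lam t t' := by
  obtain ⟨S₁, _, _, _, _, e₁, he₁, het₁⟩ := h₁
  obtain ⟨S₂, _, _, _, _, e₂, he₂, het₂⟩ := h₂
  have hE : Algebra.Etale S (S₁ ⊗[S] S₂) := etale_tensor S S₁ S₂
  have hFF : Module.FaithfullyFlat S (S₁ ⊗[S] S₂) := Module.FaithfullyFlat.trans S S₁ _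
  let k₁ : S₁ →ₐ[S] S₁ ⊗[S] S₂ := Algebra.TensorProduct.includeLeft
  let k₂ : S₂ →ₐ[S] S₁ ⊗[S] S₂ := Algebra.TensorProduct.includeRight
  obtain ⟨f, hf1, hf2⟩ := exists_iso_of_adapted lam t t' (E := S₁ ⊗[S] S₂) n hn hA hA'
    (fun a b => Algebra.TensorProduct.map k₁ (AlgHom.id S A) (e₁ a b))
    (he₁.map (Algebra.TensorProduct.map k₁ (AlgHom.id S A)).toRingHom)
    (fun a b => by rw [← map_bc, het₁])
    (fun a b => Algebra.TensorProduct.map k₂ (AlgHom.id S A') (e₂ a b))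
    (he₂.map (Algebra.TensorProduct.map k₂ (AlgHom.id S A')).toRingHom)
    (fun a b => by rw [← map_bc, het₂])
  exact ⟨S₁ ⊗[S] S₂, inferInstance, inferInstance, hE, hFF, f, hf1, hf2⟩

end Groth.Agent.Lib.T2H2.AzInvSame
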