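import Mathlib
import Groth.Agent.S17360
import Groth.Agent.Lib.Helper10AzSign

/-!
# Dimension of the symmetric elements of an involution in a signed permutation basis

Linear algebra used to compute the type (orthogonal or symplectic) of an involution of the first
kind on a fibre of an Azumaya algebra from the dimension of its symmetric elements.
-/

set_option autoImplicit false

namespace Groth.Agent.Lib.T2H2.AzInvSign

open Module

section eigen

variable {F : Type*} [Field F] {V : Type*} [AddCommGroup V] [Module F V]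

/-- the eigenspace of a linear map -/
def eig (τ : V →ₗ[F] V) (s : F) : Submodule F V := LinearMap.ker (τ - s • LinearMap.id)

theorem mem_eig (τ : V →ₗ[F] V) (s : F) (x : V) : x ∈ eig τ s ↔ τ x = s • x := by
  unfold eig
  rw [LinearMap.mem_ker, LinearMap.sub_apply, LinearMap.smul_apply, LinearMap.id_apply,
    sub_eq_zero]

theorem disjoint_eig (h2 : (2 : F) ≠ 0) (τ : V →ₗ[F] V) : Disjoint (eig τ 1) (eig τ (-1)) := by
  rw [Submodule.disjoint_def]
  intro x h1 h2'
  rw [mem_eig, one_smul] at h1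
  rw [mem_eig, neg_one_smul] at h2'
  have h3 : (2 : F) • x = 0 := by
    rw [two_smul]
    nth_rewrite 1 [← h1]
    rw [h2', neg_add_cancel]
  rcases smul_eq_zero.mp h3 with h | h
  · exact absurd h h2
  · exact h

variable {ι : Type*} [Fintype ι] [LinearOrder ι]

theorem card_le_finrank_eig (h2 : (2 : F) ≠ 0) (τ : V →ₗ[F] V) (hτ2 : ∀ x, τ (τ x) = x)
    (b : Basis ι F V) (σ : ι → ι) (ε : ι → F) (hσ : ∀ i, σ (σ i) = i)
    (hε : ∀ i, ε i = 1 ∨ ε i = -1) (hτ : ∀ i, τ (b i) = ε i • b (σ i)) (s : F)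
    (hs : s = 1 ∨ s = -1) :
    Nat.card {i : ι // i < σ i ∨ (σ i = i ∧ ε i = s)} ≤ finrank F (eig τ s) := by
  classical
  have : Module.Finite F V := Module.Finite.of_basis b
  have h2u : IsUnit (2 : F) := isUnit_iff_ne_zero.mpr h2
  have hli := Groth.Agent.S17360.linearIndependent_eigen h2u τ b σ ε hσ hε hτ s hs
  let v : {i : ι // i < σ i ∨ (σ i = i ∧ ε i = s)} → eig τ s := fun i =>
    ⟨b i.1 + s • τ (b i.1), (mem_eig τ s _).mpr (Groth.Agent.S17360.eigen_apply τ hτ2 s hs _)⟩
  have hv : LinearIndependent F v := by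
    apply LinearIndependent.of_comp (eig τ s).subtype
    exact hli
  have := hv.fintype_card_le_finrank
  rwa [Nat.card_eq_fintype_card]

theorem finrank_eig (h2 : (2 : F) ≠ 0) (τ : V →ₗ[F] V) (hτ2 : ∀ x, τ (τ x) = x)
    (b : Basis ι F V) (σ : ι → ι) (ε : ι → F) (hσ : ∀ i, σ (σ i) = i)
    (hε : ∀ i, ε i = 1 ∨ ε i = -1) (hτ : ∀ i, τ (b i) = ε i • b (σ i)) (s : F)
    (hs : s = 1 ∨ s = -1) :
    finrank F (eig τ s) = Nat.card {i : ι // i < σ i ∨ (σ i = i ∧ ε i = s)} := by
  classical
  have : Module.Finite F V := Module.Finite.of_basis b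
  have h2u : IsUnit (2 : F) := isUnit_iff_ne_zero.mpr h2
  have a1 := card_le_finrank_eig h2 τ hτ2 b σ ε hσ hε hτ 1 (Or.inl rfl)
  have a2 := card_le_finrank_eig h2 τ hτ2 b σ ε hσ hε hτ (-1) (Or.inr rfl)
  have c1 := Groth.Agent.S17360.count_eigen h2u σ ε hσ hε 1 (Or.inl rfl)
  have c2 := Groth.Agent.S17360.count_eigen h2u σ ε hσ hε (-1) (Or.inr rfl)
  rw [neg_neg] at c2
  have hd := Submodule.finrank_add_finrank_le_of_disjoint (disjoint_eig h2 τ)
  rw [finrank_eq_card_basis b] at hd
  rcases hs with rfl | rfl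
  · omega
  · omega

end eigen

section swap

variable {F : Type*} [Field F] {V : Type*} [AddCommGroup V] [Module F V]

theorem card_fix (n : ℕ) (P : Prop) [Decidable P] :
    Nat.card {i : Fin n × Fin n // Prod.swap i = i ∧ P} = if P then n else 0 := by
  classical
  split_ifs with h
  · have e : {i : Fin n × Fin n // Prod.swap i = i ∧ P} ≃ Fin n :=
      { toFun := fun i => i.1.1
        invFun := fun k => ⟨(k, k), rfl, h⟩
        left_inv := by
          rintro ⟨⟨i, j⟩, h1, -⟩
          have : j = i := congrArg Prod.fst h1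
          subst this
          rfl
        right_inv := fun k => rfl }
    rw [Nat.card_congr e, Nat.card_eq_fintype_card, Fintype.card_fin]
  · have : IsEmpty {i : Fin n × Fin n // Prod.swap i = i ∧ P} := ⟨fun x => h x.2.2⟩
    exact Nat.card_of_isEmpty

open Classical in
theorem finrank_eig_swap (h2 : (2 : F) ≠ 0) (τ : V →ₗ[F] V) (hτ2 : ∀ x, τ (τ x) = x) (n : ℕ)
    (b : Basis (Fin n × Fin n) F V) (s₀ : F) (hs₀ : s₀ = 1 ∨ s₀ = -1)
    (hτ : ∀ i j, τ (b (i, j)) = s₀ • b (j, i)) (s : F) (hs : s = 1 ∨ s = -1) :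
    2 * finrank F (eig τ s) + (if s₀ = -s then n else 0) =
      n * n + (if s₀ = s then n else 0) := by
  let _ : LinearOrder (Fin n × Fin n) :=
    LinearOrder.lift' (Fintype.equivFin (Fin n × Fin n)) (Equiv.injective _)
  have h2u : IsUnit (2 : F) := isUnit_iff_ne_zero.mpr h2
  have h1 := finrank_eig h2 τ hτ2 b Prod.swap (fun _ => s₀) Prod.swap_swap (fun _ => hs₀)
    (fun i => hτ i.1 i.2) s hs
  have c1 := Groth.Agent.S17360.count_eigen h2u (Prod.swap : Fin n × Fin n → Fin n × Fin n)
    (fun _ => s₀) Prod.swap_swap (fun _ => hs₀) s hs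
  rw [card_fix, card_fix, Fintype.card_prod, Fintype.card_fin] at c1
  rw [h1]
  exact c1

theorem one_ne_neg_one (h2 : (2 : F) ≠ 0) : (1 : F) ≠ -1 := by
  intro h
  apply h2
  have : (1 : F) + 1 = 0 := by nth_rewrite 2 [h]; simp
  rw [← this]; norm_num

/-- a basis which the involution transposes: the symmetric elements have dimension
`n (n + 1) / 2` -/
theorem finrank_eig_swap_pos (h2 : (2 : F) ≠ 0) (τ : V →ₗ[F] V) (hτ2 : ∀ x, τ (τ x) = x) (n : ℕ)
    (b : Basis (Fin n × Fin n) F V) (hτ : ∀ i j, τ (b (i, j)) = b (j, i)) :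
    2 * finrank F (eig τ 1) = n * n + n := by
  have h := finrank_eig_swap h2 τ hτ2 n b 1 (Or.inl rfl) (fun i j => by rw [hτ, one_smul]) 1
    (Or.inl rfl)
  rw [if_neg (one_ne_neg_one h2), if_pos rfl] at h
  exact h

/-- a basis which the involution transposes up to the sign `-1`: the symmetric elements have
dimension `n (n - 1) / 2` -/
theorem finrank_eig_swap_neg (h2 : (2 : F) ≠ 0) (τ : V →ₗ[F] V) (hτ2 : ∀ x, τ (τ x) = x) (n : ℕ)
    (b : Basis (Fin n × Fin n) F V) (hτ : ∀ i j, τ (b (i, j)) = -b (j, i)) :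
    2 * finrank F (eig τ 1) + n = n * n := by
  have h := finrank_eig_swap h2 τ hτ2 n b (-1) (Or.inr rfl)
    (fun i j => by rw [hτ, neg_one_smul]) 1 (Or.inl rfl)
  rw [if_pos rfl, if_neg (fun h => one_ne_neg_one h2 h.symm)] at h
  exact h

end swap

section sym

open Groth.Agent.Lib.Helper10.AzSign TensorProduct

universe v w

variable {R : Type v} {A : Type w} [CommRing R] [Ring A] [Algebra R A] {lam : R → R}
  (t : AzInv.LamInv R A lam) (F : Type*) [Field F] [Algebra R F]
  (hram : ∀ r : R, algebraMap R F (lam r) = algebraMap R F r)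

include hram in
theorem finrank_symSpan_eq_finrank_eig [Module.Finite R A] (h2 : (2 : F) ≠ 0)
    (u : R) (hu : 2 * u = 1) (hlu : lam u = u) :
    finrank F (symSpan t F) = finrank F (eig (fibreInv t F hram) 1) := by
  have : Module.Finite F (F ⊗[R] A) := inferInstance
  have h1 : symSpan t F ≤ eig (fibreInv t F hram) 1 := by
    apply Submodule.span_le.mpr
    rintro _ ⟨a, rfl⟩
    rw [SetLike.mem_coe, mem_eig, fibreInv_tmul, a.2, one_smul]
  have h1' : skewSpan t F ≤ eig (fibreInv t F hram) (-1) := by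
    apply Submodule.span_le.mpr
    rintro _ ⟨a, rfl⟩
    rw [SetLike.mem_coe, mem_eig, fibreInv_tmul, a.2, neg_one_smul, TensorProduct.tmul_neg]
  have h3 := finrank_symSpan_add_finrank_skewSpan t F hram h2 u hu hlu
  have h4 := Submodule.finrank_add_finrank_le_of_disjoint (disjoint_eig h2 (fibreInv t F hram))
  have h5 := Submodule.finrank_mono h1
  have h6 := Submodule.finrank_mono h1'
  omega

end sym

end Groth.Agent.Lib.T2H2.AzInvSign
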