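import Mathlib
import Groth.Agent.S17360
import Groth.Agent.Lib.Helper10AzSign
import Groth.Agent.Lib.T2H2AzInvRam
import Groth.Agent.Lib.T2H2AzInvSignA

/-!
# The type of an involution at a ramified prime from matrix units adapted to structure constants

Matrix units of `B ⊗_S A` adapted to the orthogonal or symplectic structure constants map to
matrix units of the fibre `F ⊗_R A` over a field `F` under `B` and `R`; the dimension of the span
of the symmetric elements is computed there and descends to the residue field.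
-/

set_option autoImplicit false

namespace Groth.Agent.Lib.T2H2.AzInvSign

open Module
open scoped TensorProduct
open Groth.Agent.Lib.Helper10.AzSign
open Groth.Agent.Lib.T2H2.MatUnits Groth.Agent.Lib.T2H2.AzInvPat
  Groth.Agent.Lib.T2H2.AzInvClass

section fibre

universe v w

variable {R : Type v} {A : Type w} [CommRing R] [Ring A] [Algebra R A] {lam : R → R}
  (t : AzInv.LamInv R A lam) (F : Type*) [Field F] [Algebra R F]
  (hram : ∀ r : R, algebraMap R F (lam r) = algebraMap R F r)

theorem fibreInv_fibreInv (x : F ⊗[R] A) : fibreInv t F hram (fibreInv t F hram x) = x := by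
  induction x using TensorProduct.induction_on with
  | zero => simp
  | add x y hx hy => rw [map_add, map_add, hx, hy]
  | tmul c a => rw [fibreInv_tmul, fibreInv_tmul, t.invol]

theorem fibreInv_mul (x y : F ⊗[R] A) :
    fibreInv t F hram (x * y) = fibreInv t F hram y * fibreInv t F hram x := by
  induction x using TensorProduct.induction_on with
  | zero => simp
  | add x x' hx hx' => rw [add_mul, map_add, hx, hx', map_add, mul_add]
  | tmul c a =>
    induction y using TensorProduct.induction_on with
    | zero => simp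
    | add y y' hy hy' => rw [mul_add, map_add, hy, hy', map_add, add_mul]
    | tmul c' a' =>
      rw [Algebra.TensorProduct.tmul_mul_tmul, fibreInv_tmul, fibreInv_tmul, fibreInv_tmul,
        Algebra.TensorProduct.tmul_mul_tmul, t.map_mul, mul_comm c c']

theorem finrank_fibre {n : ℕ} (hA : AzInv.IsAzumayaDeg R A n) :
    finrank F (F ⊗[R] A) = n ^ 2 := by
  have := hA.1
  have h := Module.rankAtStalk_baseChange (R := R) (M := A) (S := F)
    (⟨⊥, Ideal.isPrime_bot⟩ : PrimeSpectrum F)
  rw [hA.2, Module.rankAtStalk_eq_finrank_of_free] at h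
  exact h

end fibre

section transfer

universe u v w

variable {S : Type u} {R : Type v} [CommRing S] [CommRing R] [Algebra S R]
  (lam : R ≃ₐ[S] R)
  {A : Type w} [Ring A] [Algebra S A] [Algebra R A] [IsScalarTower S R A]
  (t : AzInv.LamInv R A lam)
  {B : Type*} [CommRing B] [Algebra S B]
  (F : Type*) [Field F] [Algebra R F] [Algebra S F] [IsScalarTower S R F] (β : B →ₐ[S] F)
  (hram : ∀ r : R, algebraMap R F (lam r) = algebraMap R F r)

variable (R A) in
/-- the map from the base change to `B` to the fibre over `F` -/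
noncomputable def psi : B ⊗[S] A →ₐ[S] F ⊗[R] A :=
  (Algebra.TensorProduct.mapOfCompatibleSMul R S S F A).comp
    (Algebra.TensorProduct.map β (AlgHom.id S A))

theorem psi_tmul (b : B) (a : A) : psi R A F β (b ⊗ₜ[S] a) = β b ⊗ₜ[R] a := rfl

theorem fibreInv_psi (x : B ⊗[S] A) :
    fibreInv t F hram (psi R A F β x) = psi R A F β (t.bc S lam B x) := by
  induction x using TensorProduct.induction_on with
  | zero => simp
  | add x y hx hy => rw [map_add, map_add, hx, hy, map_add, map_add]
  | tmul b a => rw [psi_tmul, fibreInv_tmul, AzInv.LamInv.bc_tmul, psi_tmul]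

theorem psi_intCast_smul (z : ℤ) (x : B ⊗[S] A) :
    psi R A F β ((z : B) • x) = (z : F) • psi R A F β x := by
  rw [Int.cast_smul_eq_zsmul, Int.cast_smul_eq_zsmul, map_zsmul]

include hram β in
/-- matrix units adapted to integral structure constants give such matrix units of the fibre -/
theorem exists_fibre_units (n : ℕ) (c : ℕ → ℕ → ℕ → ℕ → ℤ)
    (h : PatAdapted lam t B n (castPat B n c)) :
    ∃ e : Fin n → Fin n → F ⊗[R] A, IsMatUnits e ∧
      ∀ i j, fibreInv t F hram (e i j) = ∑ k, ∑ l, castPat F n c i j k l • e k l := by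
  obtain ⟨e, he, het⟩ := h
  refine ⟨fun i j => psi R A F β (e i j), he.map (psi R A F β).toRingHom, fun i j => ?_⟩
  rw [fibreInv_psi, het, map_sum]
  refine Finset.sum_congr rfl fun k _ => ?_
  rw [map_sum]
  refine Finset.sum_congr rfl fun l _ => ?_
  exact psi_intCast_smul F β _ _

end transfer

section matrix

variable {F : Type*} [Field F] {Γ : Type*} [Ring Γ] [Algebra F Γ]

theorem matHom_single {n : ℕ} {e : Fin n → Fin n → Γ} (he : IsMatUnits e) (i j : Fin n) :
    matHom (C := F) he (Matrix.single i j (1 : F)) = e i j := by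
  rw [matHom_apply, Finset.sum_eq_single i]
  · rw [Finset.sum_eq_single j]
    · rw [Matrix.single_apply_same, one_smul]
    · intro b _ hb
      rw [Matrix.single_apply_of_ne _ _ _ _ _ (fun h => hb h.2.symm), zero_smul]
    · intro h; exact absurd (Finset.mem_univ _) h
  · intro a _ ha
    refine Finset.sum_eq_zero fun b _ => ?_
    rw [Matrix.single_apply_of_ne _ _ _ _ _ (fun h => ha h.1.symm), zero_smul]
  · intro h; exact absurd (Finset.mem_univ _) h

/-- a system of matrix units of size `n` in an algebra of dimension `n ^ 2` over a field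
identifies it with the matrix algebra -/
theorem exists_algEquiv_of_matUnits (n : ℕ) (hn : 0 < n) (hΓ : finrank F Γ = n ^ 2)
    (e : Fin n → Fin n → Γ) (he : IsMatUnits e) :
    ∃ Φ : Matrix (Fin n) (Fin n) F ≃ₐ[F] Γ, ∀ i j, Φ (Matrix.single i j 1) = e i j := by
  have : Nonempty (Fin n) := ⟨⟨0, hn⟩⟩
  have hpos : 0 < finrank F Γ := by rw [hΓ]; positivity
  have : Nontrivial Γ := Module.nontrivial_of_finrank_pos hpos
  have : Module.Finite F Γ := Module.finite_of_finrank_pos hpos
  have hinj : Function.Injective (matHom (C := F) he) :=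
    RingHom.injective (matHom (C := F) he).toRingHom
  have hdim : finrank F (Matrix (Fin n) (Fin n) F) = finrank F Γ := by
    rw [Module.finrank_matrix, hΓ, Fintype.card_fin, Module.finrank_self, mul_one, sq]
  have hsurj : Function.Surjective (matHom (C := F) he) :=
    (LinearMap.injective_iff_surjective_of_finrank_eq_finrank hdim
      (f := (matHom (C := F) he).toLinearMap)).mp hinj
  exact ⟨AlgEquiv.ofBijective (matHom (C := F) he) ⟨hinj, hsurj⟩, fun i j => matHom_single he i j⟩

/-- a linear map which is given on the matrix units by `X ↦ W Xᵀ W'` -/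
theorem eq_mul_transpose_mul {n : ℕ} (τ : Γ →ₗ[F] Γ) (Φ : Matrix (Fin n) (Fin n) F ≃ₐ[F] Γ)
    (W W' : Matrix (Fin n) (Fin n) F)
    (h : ∀ i j, τ (Φ (Matrix.single i j 1)) = Φ (W * Matrix.single j i 1 * W'))
    (X : Matrix (Fin n) (Fin n) F) : τ (Φ X) = Φ (W * X.transpose * W') := by
  let L₁ : Matrix (Fin n) (Fin n) F →ₗ[F] Γ := τ ∘ₗ Φ.toLinearMap
  let L₂ : Matrix (Fin n) (Fin n) F →ₗ[F] Γ := Φ.toLinearMap ∘ₗ LinearMap.mulRight F W' ∘ₗ
    LinearMap.mulLeft F W ∘ₗ (Matrix.transposeLinearEquiv (Fin n) (Fin n) F F).toLinearMap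
  have h12 : L₁ = L₂ := by
    apply (Matrix.stdBasis F (Fin n) (Fin n)).ext
    rintro ⟨i, j⟩
    rw [Matrix.stdBasis_eq_single]
    show τ (Φ (Matrix.single i j 1)) = Φ (W * (Matrix.single i j (1 : F)).transpose * W')
    rw [h, Matrix.transpose_single]
  exact LinearMap.congr_fun h12 X

/-- the dimension of the symmetric elements of an involution of the shape `X ↦ W Xᵀ (s₀ W)` with
`W Wᵀ = 1` -/
theorem exists_basis_of_formula {n : ℕ} (τ : Γ →ₗ[F] Γ) (Φ : Matrix (Fin n) (Fin n) F ≃ₐ[F] Γ)
    (W : Matrix (Fin n) (Fin n) F) (hW : W * W.transpose = 1) (s₀ : F)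
    (hτ : ∀ X, τ (Φ X) = Φ (W * X.transpose * (s₀ • W))) :
    ∃ b : Basis (Fin n × Fin n) F Γ, ∀ i j, τ (b (i, j)) = s₀ • b (j, i) := by
  have hW' : W.transpose * W = 1 := mul_eq_one_comm.mp hW
  let ρ : Matrix (Fin n) (Fin n) F ≃ₗ[F] Matrix (Fin n) (Fin n) F :=
    LinearEquiv.ofLinearMap (LinearMap.mulRight F W) (LinearMap.mulRight F W.transpose)
      (by ext X : 1; simp [Matrix.mul_assoc, hW'])
      (by ext X : 1; simp [Matrix.mul_assoc, hW])
  refine ⟨((Matrix.stdBasis F (Fin n) (Fin n)).map ρ).map Φ.toLinearEquiv, fun i j => ?_⟩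
  simp only [Basis.map_apply, Matrix.stdBasis_eq_single]
  show τ (Φ (Matrix.single i j 1 * W)) = s₀ • Φ (Matrix.single j i 1 * W)
  rw [hτ, Matrix.transpose_mul, Matrix.transpose_single, ← Matrix.mul_assoc,
    hW, Matrix.one_mul, Matrix.mul_smul, map_smul]

end matrix

section main

universe v w

open Groth.Agent.Lib.T2H2.HermClass Groth.Agent.Lib.T2H2.HermAlt Groth.Agent.Lib.T2H2.AzInvType

variable {R : Type v} {A : Type w} [CommRing R] [Ring A] [Algebra R A] {lam : R → R}
  (t : AzInv.LamInv R A lam) (F : Type*) [Field F] [Algebra R F]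
  (hram : ∀ r : R, algebraMap R F (lam r) = algebraMap R F r)

include hram in
/-- orthogonal structure constants: the symmetric elements of the fibre have dimension
`n (n + 1) / 2` -/
theorem finrank_symSpan_orth {n : ℕ} (hn : 0 < n) (hA : AzInv.IsAzumayaDeg R A n)
    (h2 : (2 : F) ≠ 0) (u : R) (hu : 2 * u = 1) (hlu : lam u = u)
    (e : Fin n → Fin n → F ⊗[R] A) (he : IsMatUnits e)
    (het : ∀ i j, fibreInv t F hram (e i j) = ∑ k, ∑ l, castPat F n cOrth i j k l • e k l) :
    2 * finrank F (symSpan t F) = n * n + n := by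
  have := hA.1
  obtain ⟨Φ, hΦ⟩ := exists_algEquiv_of_matUnits n hn (finrank_fibre F hA) e he
  have hform := eq_mul_transpose_mul (fibreInv t F hram) Φ 1 ((1 : F) • 1) (fun i j => by
    rw [hΦ, het, sum_cOrth, one_smul, Matrix.one_mul, Matrix.mul_one, hΦ])
  obtain ⟨b, hb⟩ := exists_basis_of_formula (fibreInv t F hram) Φ 1
    (by rw [Matrix.transpose_one, Matrix.mul_one]) 1 hform
  rw [finrank_symSpan_eq_finrank_eig t F hram h2 u hu hlu]
  exact finrank_eig_swap_pos h2 _ (fibreInv_fibreInv t F hram) n b
    (fun i j => by rw [hb, one_smul])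

theorem Jn_transpose (C : Type*) [CommRing C] (n : ℕ) : (Jn C n).transpose = -Jn C n := by
  ext i j
  rw [Matrix.transpose_apply, Matrix.neg_apply]
  simp only [Jn, Matrix.of_apply]
  rw [jn_swap]

include hram in
/-- symplectic structure constants: the symmetric elements of the fibre have dimension
`n (n - 1) / 2` -/
theorem finrank_symSpan_symp {n : ℕ} (hn : 0 < n) (hev : Even n) (hA : AzInv.IsAzumayaDeg R A n)
    (h2 : (2 : F) ≠ 0) (u : R) (hu : 2 * u = 1) (hlu : lam u = u)
    (e : Fin n → Fin n → F ⊗[R] A) (he : IsMatUnits e)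
    (het : ∀ i j, fibreInv t F hram (e i j) = ∑ k, ∑ l, castPat F n cSymp i j k l • e k l) :
    2 * finrank F (symSpan t F) + n = n * n := by
  have := hA.1
  obtain ⟨Φ, hΦ⟩ := exists_algEquiv_of_matUnits n hn (finrank_fibre F hA) e he
  have hform := eq_mul_transpose_mul (fibreInv t F hram) Φ (Jn F n) ((-1 : F) • Jn F n)
    (fun i j => by
      rw [hΦ, het, neg_one_smul, Groth.Agent.Lib.T2H2.AzInvRam.symp_single n i j, map_sum]
      refine Finset.sum_congr rfl fun k _ => ?_
      rw [map_sum]
      refine Finset.sum_congr rfl fun l _ => ?_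
      rw [map_zsmul, hΦ]
      simp only [castPat, Int.cast_id]
      rw [Int.cast_smul_eq_zsmul])
  obtain ⟨b, hb⟩ := exists_basis_of_formula (fibreInv t F hram) Φ (Jn F n)
    (by rw [Jn_transpose, Matrix.mul_neg, Jn_mul_Jn hev, neg_neg]) (-1) hform
  rw [finrank_symSpan_eq_finrank_eig t F hram h2 u hu hlu]
  exact finrank_eig_swap_neg h2 _ (fibreInv_fibreInv t F hram) n b
    (fun i j => by rw [hb, neg_one_smul])

end main

section descent

universe v w

variable {R : Type v} {A : Type w} [CommRing R] [Ring A] [Algebra R A] {lam : R → R}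
  (t : AzInv.LamInv R A lam) (κ F : Type*) [Field κ] [Field F] [Algebra R κ] [Algebra R F]
  [Algebra κ F] [IsScalarTower R κ F]

variable (A) in
/-- the comparison map between the fibres over a field and over an extension -/
noncomputable def iotaF : κ ⊗[R] A →ₗ[R] F ⊗[R] A :=
  (IsScalarTower.toAlgHom R κ F).toLinearMap.rTensor A

theorem iotaF_tmul (c : κ) (a : A) : iotaF A κ F (c ⊗ₜ[R] a) = algebraMap κ F c ⊗ₜ[R] a := rfl

theorem iotaF_smul (c : κ) (x : κ ⊗[R] A) :
    iotaF A κ F (c • x) = algebraMap κ F c • iotaF A κ F x := by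
  induction x using TensorProduct.induction_on with
  | zero => simp
  | add x y hx hy => rw [smul_add, map_add, hx, hy, map_add, smul_add]
  | tmul c' a =>
    rw [TensorProduct.smul_tmul', iotaF_tmul, iotaF_tmul, TensorProduct.smul_tmul', smul_eq_mul,
      smul_eq_mul, map_mul]

theorem finrank_span_le [Module.Finite R A] {ι' : Type*} (g : ι' → A) :
    finrank F (Submodule.span F (Set.range fun i => (1 : F) ⊗ₜ[R] g i)) ≤
      finrank κ (Submodule.span κ (Set.range fun i => (1 : κ) ⊗ₜ[R] g i)) := by
  set W := Submodule.span κ (Set.range fun i => (1 : κ) ⊗ₜ[R] g i) with hW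
  let w := Module.finBasis κ W
  have hle : Submodule.span F (Set.range fun i => (1 : F) ⊗ₜ[R] g i) ≤
      Submodule.span F (Set.range fun j => iotaF A κ F (w j : κ ⊗[R] A)) := by
    apply Submodule.span_le.mpr
    rintro _ ⟨i, rfl⟩
    have hmem : (1 : κ) ⊗ₜ[R] g i ∈ W := Submodule.subset_span ⟨i, rfl⟩
    have h1 : (1 : F) ⊗ₜ[R] g i = iotaF A κ F ((1 : κ) ⊗ₜ[R] g i) := by
      rw [iotaF_tmul, map_one]
    have h2 : ((1 : κ) ⊗ₜ[R] g i : κ ⊗[R] A) =
        ∑ j, (w.repr ⟨_, hmem⟩ j) • (w j : κ ⊗[R] A) := by
      have := congrArg (Subtype.val) (w.sum_repr ⟨_, hmem⟩)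
      simp only [Submodule.coe_sum, Submodule.coe_smul] at this
      exact this.symm
    show (1 : F) ⊗ₜ[R] g i ∈ _
    rw [h1, h2, map_sum]
    refine Submodule.sum_mem _ fun j _ => ?_
    rw [iotaF_smul]
    exact Submodule.smul_mem _ _ (Submodule.subset_span ⟨j, rfl⟩)
  refine (Submodule.finrank_mono hle).trans ?_
  refine (finrank_range_le_card _).trans ?_
  rw [Fintype.card_fin]

variable (hramκ : ∀ r : R, algebraMap R κ (lam r) = algebraMap R κ r)

include hramκ in
/-- the dimension of the span of the symmetric elements does not change under extension of the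
field -/
theorem finrank_symSpan_descent [Module.Finite R A]
    (hdim : finrank κ (κ ⊗[R] A) = finrank F (F ⊗[R] A)) (h2 : (2 : κ) ≠ 0)
    (u : R) (hu : 2 * u = 1) (hlu : lam u = u) :
    finrank κ (symSpan t κ) = finrank F (symSpan t F) := by
  have hramF : ∀ r : R, algebraMap R F (lam r) = algebraMap R F r := by
    intro r
    rw [IsScalarTower.algebraMap_apply R κ F, hramκ, ← IsScalarTower.algebraMap_apply R κ F]
  have h2F : (2 : F) ≠ 0 := by
    intro h
    apply h2
    apply (algebraMap κ F).injective
    rw [map_ofNat, h, map_zero]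
  have s1 := finrank_symSpan_add_finrank_skewSpan t κ hramκ h2 u hu hlu
  have s2 := finrank_symSpan_add_finrank_skewSpan t F hramF h2F u hu hlu
  have l1 : finrank F (symSpan t F) ≤ finrank κ (symSpan t κ) :=
    finrank_span_le κ F (fun a : {a : A // t a = a} => (a : A))
  have l2 : finrank F (skewSpan t F) ≤ finrank κ (skewSpan t κ) :=
    finrank_span_le κ F (fun a : {a : A // t a = -a} => (a : A))
  omega

end descent

section residue

universe v

variable {R : Type v} [CommRing R] (q : Ideal R) [q.IsPrime] (F : Type*) [Field F] [Algebra R F]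

/-- a field over `R` whose structure map has kernel `q` is an extension of the residue field -/
theorem exists_algebra_residueField (hker : RingHom.ker (algebraMap R F) = q) :
    ∃ (_ : Algebra q.ResidueField F), IsScalarTower R q.ResidueField F := by
  have h1 : q ≤ RingHom.ker (algebraMap R F) := hker.ge
  have h2 : q.primeCompl ≤ (IsUnit.submonoid F).comap (algebraMap R F) := by
    intro r hr
    show IsUnit (algebraMap R F r)
    rw [isUnit_iff_ne_zero]
    intro h0
    apply hr
    rw [← hker]
    exact h0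
  refine ⟨(Ideal.ResidueField.lift q (algebraMap R F) h1 h2).toAlgebra, ?_⟩
  let _ : Algebra q.ResidueField F := (Ideal.ResidueField.lift q (algebraMap R F) h1 h2).toAlgebra
  exact IsScalarTower.of_algebraMap_eq fun r =>
    (Ideal.ResidueField.lift_algebraMap q (algebraMap R F) h1 h2 r).symm

end residue

theorem two_mul_choose (n : ℕ) : 2 * (n + 1).choose 2 = n * n + n := by
  induction n with
  | zero => simp
  | succ n ih =>
    rw [Nat.choose_succ_succ' (n + 1) 1, Nat.choose_one_right]
    linarith

section atMax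

universe u v w

variable {S : Type u} {R : Type v} [CommRing S] [CommRing R] [Algebra S R]
  (lam : R ≃ₐ[S] R)
  {A : Type w} [Ring A] [Algebra S A] [Algebra R A] [IsScalarTower S R A]
  (t : AzInv.LamInv R A lam)

/-- the type of an involution at a ramified prime, read off from adapted matrix units over an
`S`-algebra `B` and a maximal ideal of `B ⊗ R` over the prime -/
theorem sign_at_maximal (h2 : IsUnit (2 : S)) {n : ℕ} (hn : 0 < n)
    (hA : AzInv.IsAzumayaDeg R A n) (B : Type*) [CommRing B] [Algebra S B]
    (M : Ideal (B ⊗[S] R)) [M.IsMaximal] (q : PrimeSpectrum R)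
    (hqM : M.comap (Algebra.TensorProduct.includeRight : R →ₐ[S] B ⊗[S] R).toRingHom = q.asIdeal)
    (hq : ∀ r : R, lam r - r ∈ q.asIdeal) :
    (PatAdapted lam t B n (castPat B n cOrth) →
      Module.finrank q.asIdeal.ResidueField
        (Submodule.span q.asIdeal.ResidueField
          (Set.range fun a : {a : A // t a = a} =>
            (1 : q.asIdeal.ResidueField) ⊗ₜ[R] (a : A))) = Nat.choose (n + 1) 2) ∧
    (Even n → PatAdapted lam t B n (castPat B n cSymp) →
      Module.finrank q.asIdeal.ResidueField
        (Submodule.span q.asIdeal.ResidueField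
          (Set.range fun a : {a : A // t a = a} =>
            (1 : q.asIdeal.ResidueField) ⊗ₜ[R] (a : A))) ≠ Nat.choose (n + 1) 2) := by
  have := hA.1
  let F := (B ⊗[S] R) ⧸ M
  let _ : Field F := Ideal.Quotient.field M
  let _ : Algebra R F := ((Ideal.Quotient.mk M).comp
    (Algebra.TensorProduct.includeRight : R →ₐ[S] B ⊗[S] R).toRingHom).toAlgebra
  have : IsScalarTower S R F := IsScalarTower.of_algebraMap_eq fun s => by
    show Ideal.Quotient.mk M (algebraMap S (B ⊗[S] R) s) =
      Ideal.Quotient.mk M ((Algebra.TensorProduct.includeRight : R →ₐ[S] B ⊗[S] R)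
        (algebraMap S R s))
    rw [AlgHom.commutes]
  let β : B →ₐ[S] F := (Ideal.Quotient.mkₐ S M).comp
    (Algebra.TensorProduct.includeLeft : B →ₐ[S] B ⊗[S] R)
  have hker : RingHom.ker (algebraMap R F) = q.asIdeal := by
    rw [← hqM]
    ext r
    rw [RingHom.mem_ker, Ideal.mem_comap]
    exact Ideal.Quotient.eq_zero_iff_mem
  obtain ⟨_, _⟩ := exists_algebra_residueField q.asIdeal F hker
  set κ := q.asIdeal.ResidueField with hκ
  have hramκ : ∀ r : R, algebraMap R κ (lam r) = algebraMap R κ r := by
    intro r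
    rw [← sub_eq_zero, ← map_sub, Ideal.algebraMap_residueField_eq_zero]
    exact hq r
  have hramF : ∀ r : R, algebraMap R F (lam r) = algebraMap R F r := by
    intro r
    rw [IsScalarTower.algebraMap_apply R κ F, hramκ, ← IsScalarTower.algebraMap_apply R κ F]
  obtain ⟨u', hu'⟩ := h2.exists_right_inv
  have hu : 2 * algebraMap S R u' = 1 := by
    rw [← map_ofNat (algebraMap S R) 2, ← map_mul, hu', map_one]
  have hlu : lam (algebraMap S R u') = algebraMap S R u' := lam.commutes u'
  have h2κ : (2 : κ) ≠ 0 := by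
    intro h0
    have := congrArg (algebraMap R κ) hu
    rw [map_mul, map_ofNat, h0, zero_mul, map_one] at this
    exact zero_ne_one this
  have h2F : (2 : F) ≠ 0 := by
    intro h
    apply h2κ
    apply (algebraMap κ F).injective
    rw [map_ofNat, h, map_zero]
  have hdim : finrank κ (κ ⊗[R] A) = finrank F (F ⊗[R] A) := by
    rw [finrank_fibre κ hA, finrank_fibre F hA]
  have hdesc := finrank_symSpan_descent t κ F hramκ hdim h2κ _ hu hlu
  have hc := two_mul_choose n
  refine ⟨fun hO => ?_, fun hev hS => ?_⟩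
  · obtain ⟨e, he, het⟩ := exists_fibre_units lam t F β hramF n cOrth hO
    have h3 := finrank_symSpan_orth t F hramF hn hA h2F _ hu hlu e he het
    show finrank κ (symSpan t κ) = _
    omega
  · obtain ⟨e, he, het⟩ := exists_fibre_units lam t F β hramF n cSymp hS
    have h3 := finrank_symSpan_symp t F hramF hn hev hA h2F _ hu hlu e he het
    show finrank κ (symSpan t κ) ≠ _
    omega

end atMax

end Groth.Agent.Lib.T2H2.AzInvSign
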