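import Mathlib
import Groth.Agent.Lib.T2H2AzInvSignB
import Groth.Agent.Lib.T2H2AzInvSame
import Groth.Agent.S15587

/-!
# Involutions have the same type iff their signs agree on the ramification locus
-/

set_option autoImplicit false

namespace Groth.Agent.Lib.T2H2.AzInvSign

open Module
open scoped TensorProduct
open Groth.Agent.Lib.T2H2.MatUnits Groth.Agent.Lib.T2H2.AzInvSplit
  Groth.Agent.Lib.T2H2.AzInvInner Groth.Agent.Lib.T2H2.AzInvUnitary
  Groth.Agent.Lib.T2H2.AzInvIso Groth.Agent.Lib.T2H2.AzInvPat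
  Groth.Agent.Lib.T2H2.AzInvClass Groth.Agent.Lib.T2H2.AzInvMat
  Groth.Agent.Lib.T2H2.AzInvType
  Groth.Agent.Lib.Helper3.IndEt Groth.Agent.Lib.T2H2.EtLoc IsLocalRing

universe u v w w'

section unique

variable {S : Type u} {R : Type v} [CommRing S] [CommRing R] [Algebra S R]
  (lam : R ≃ₐ[S] R) (hlam : ∀ r, lam (lam r) = r) (hfix : RInv.IsFixedRing S R lam.toRingEquiv)

include hlam hfix in
/-- a ramified prime is the only prime over its contraction -/
theorem eq_of_ramified (q q' : Ideal R) [q.IsPrime] [q'.IsPrime] (hq : ∀ r, lam r - r ∈ q)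
    (h : q'.comap (algebraMap S R) = q.comap (algebraMap S R)) : q' = q := by
  have hnorm : ∀ x : R, ∃ s : S, algebraMap S R s = x * lam x := fun x =>
    Groth.Agent.Lib.Helper15.QuadEtale.exists_norm lam.toRingEquiv (fun r => hlam r) hfix x
  have htr : ∀ x : R, ∃ s : S, algebraMap S R s = x + lam x := fun x =>
    Groth.Agent.Lib.Helper15.QuadEtale.exists_trace lam.toRingEquiv (fun r => hlam r) hfix x
  apply le_antisymm
  · intro x hx
    obtain ⟨s, hs⟩ := hnorm x
    have h1 : s ∈ q'.comap (algebraMap S R) := by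
      rw [Ideal.mem_comap, hs]
      exact Ideal.mul_mem_right _ _ hx
    rw [h, Ideal.mem_comap, hs] at h1
    rcases Ideal.IsPrime.mem_or_mem inferInstance h1 with h2 | h2
    · exact h2
    · have : x = lam x - (lam x - x) := by ring
      rw [this]
      exact Ideal.sub_mem _ h2 (hq x)
  · intro x hx
    have hlx : lam x ∈ q := by
      have : lam x = x + (lam x - x) := by ring
      rw [this]
      exact Ideal.add_mem _ hx (hq x)
    obtain ⟨s₁, hs₁⟩ := htr x
    obtain ⟨s₂, hs₂⟩ := hnorm x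
    have h1 : s₁ ∈ q.comap (algebraMap S R) := by
      rw [Ideal.mem_comap, hs₁]
      exact Ideal.add_mem _ hx hlx
    have h2 : s₂ ∈ q.comap (algebraMap S R) := by
      rw [Ideal.mem_comap, hs₂]
      exact Ideal.mul_mem_right _ _ hx
    rw [← h, Ideal.mem_comap, hs₁] at h1
    rw [← h, Ideal.mem_comap, hs₂] at h2
    have h3 : x * x ∈ q' := by
      have : x * x = (x + lam x) * x - x * lam x := by ring
      rw [this]
      exact Ideal.sub_mem _ (Ideal.mul_mem_right _ _ h1) h2
    rcases Ideal.IsPrime.mem_or_mem inferInstance h3 with h4 | h4 <;> exact h4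

end unique

section main

variable {S : Type u} {R : Type v} [CommRing S] [CommRing R] [Algebra S R]
  (lam : R ≃ₐ[S] R) (hlam : ∀ r, lam (lam r) = r) (hfix : RInv.IsFixedRing S R lam.toRingEquiv)
  {A : Type w} [Ring A] [Algebra S A] [Algebra R A] [IsScalarTower S R A]
  {A' : Type w'} [Ring A'] [Algebra S A'] [Algebra R A'] [IsScalarTower S R A']
  (t : AzInv.LamInv R A lam) (t' : AzInv.LamInv R A' lam)

include hlam hfix in
/-- involutions of the same type have the same sign at every ramified prime -/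
theorem forward (h2 : IsUnit (2 : S)) (n n' : ℕ) (hn : 0 < n) (hn' : 0 < n')
    (hA : AzInv.IsAzumayaDeg R A n) (hA' : AzInv.IsAzumayaDeg R A' n')
    (h : AzInv.SameType S lam t t') (q : PrimeSpectrum R)
    (hq : ∀ r : R, lam r - r ∈ q.asIdeal) :
    (Module.finrank q.asIdeal.ResidueField
        (Submodule.span q.asIdeal.ResidueField
          (Set.range fun a : {a : A // t a = a} =>
            (1 : q.asIdeal.ResidueField) ⊗ₜ[R] (a : A))) = Nat.choose (n + 1) 2 ↔
      Module.finrank q.asIdeal.ResidueField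
        (Submodule.span q.asIdeal.ResidueField
          (Set.range fun a : {a : A' // t' a = a} =>
            (1 : q.asIdeal.ResidueField) ⊗ₜ[R] (a : A'))) = Nat.choose (n' + 1) 2) := by
  obtain ⟨m, m', hm, hm', S₀, _, _, _, _, f₀, ha, hb⟩ := h
  obtain ⟨q₀, hq₀⟩ := PrimeSpectrum.comap_surjective_of_faithfullyFlat (A := S) (B := S₀)
    (PrimeSpectrum.comap (algebraMap S R) q)
  obtain ⟨B, _, _, _, _, H, ⟨g⟩, hmax⟩ := exists_strictHenselization_over S S₀ q₀
  have hflat : Module.Flat S B := flat_of_factor' H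
  have h2B : IsUnit (2 : B) := by
    have := h2.map (algebraMap S B)
    rwa [map_ofNat] at this
  obtain ⟨Fi, hFa, hFb⟩ := exists_bc_iso lam (t.matrix (Fin m)) (t'.matrix (Fin m')) g f₀ ha hb
  have hfixB := Groth.Agent.S15586.result S R B lam (fun r => hlam r) hfix (Or.inl inferInstance)
  have hnt : Nontrivial (B ⊗[S] R) := hfixB.1.nontrivial
  obtain ⟨M, hM⟩ := Ideal.exists_maximal (B ⊗[S] R)
  have hint : Algebra.IsIntegral S R :=
    Groth.Agent.S15587.Aux.QE8.isIntegral lam.toRingEquiv (fun r => hlam r) hfix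
  have hMB : M.comap (algebraMap B (B ⊗[S] R)) = maximalIdeal B :=
    IsLocalRing.eq_maximalIdeal (Ideal.isMaximal_comap_of_isIntegral_of_isMaximal M)
  have hq'p : (M.comap (Algebra.TensorProduct.includeRight : R →ₐ[S] B ⊗[S] R).toRingHom).comap
      (algebraMap S R) = q.asIdeal.comap (algebraMap S R) := by
    have h1 : ((Algebra.TensorProduct.includeRight : R →ₐ[S] B ⊗[S] R).toRingHom).comp
        (algebraMap S R) = (algebraMap B (B ⊗[S] R)).comp (algebraMap S B) := by
      ext s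
      show (Algebra.TensorProduct.includeRight : R →ₐ[S] B ⊗[S] R) (algebraMap S R s) = _
      rw [AlgHom.commutes]
      exact IsScalarTower.algebraMap_apply S B (B ⊗[S] R) s
    rw [Ideal.comap_comap, h1, ← Ideal.comap_comap, hMB, hmax]
    have := congrArg PrimeSpectrum.asIdeal hq₀
    exact this
  have hqq' : M.comap (Algebra.TensorProduct.includeRight : R →ₐ[S] B ⊗[S] R).toRingHom =
      q.asIdeal := eq_of_ramified lam hlam hfix q.asIdeal _ hq hq'p
  obtain ⟨hO, hS⟩ := sign_at_maximal lam t h2 hn hA B M q hqq' hq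
  obtain ⟨hO', hS'⟩ := sign_at_maximal lam t' h2 hn' hA' B M q hqq' hq
  have hmn : 0 < m * n := Nat.mul_pos hm hn
  have hmn' : 0 < m' * n' := Nat.mul_pos hm' hn'
  rcases exists_pat_of_strictHenselian lam hlam hfix t B h2B n hn hA with
    hO₁ | ⟨hid₁, hnt₁, hev₁, hS₁⟩ <;>
  rcases exists_pat_of_strictHenselian lam hlam hfix t' B h2B n' hn' hA' with
    hO₂ | ⟨hid₂, hnt₂, hev₂, hS₂⟩
  · exact ⟨fun _ => hO' hO₂, fun _ => hO hO₁⟩
  · exfalso
    exact no_mixed lam hlam hfix (t.matrix (Fin m)) (t'.matrix (Fin m')) B h2B (m * n) (m' * n')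
      hmn hmn' (isAzumayaDeg_matrix A hA m hm) (isAzumayaDeg_matrix A' hA' m' hm')
      (patAdapted_matrix lam t cOrth n m (cOrth_periodic n) hO₁)
      (patAdapted_matrix lam t' cSymp n' m' (cSymp_periodic n' hev₂) hS₂)
      (hev₂.mul_left m') hid₂ hnt₂ Fi hFa hFb
  · exfalso
    obtain ⟨hFa', hFb'⟩ := iso_symm lam (t.matrix (Fin m)) (t'.matrix (Fin m')) Fi hFa hFb
    exact no_mixed lam hlam hfix (t'.matrix (Fin m')) (t.matrix (Fin m)) B h2B (m' * n') (m * n)
      hmn' hmn (isAzumayaDeg_matrix A' hA' m' hm') (isAzumayaDeg_matrix A hA m hm)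
      (patAdapted_matrix lam t' cOrth n' m' (cOrth_periodic n') hO₂)
      (patAdapted_matrix lam t cSymp n m (cSymp_periodic n hev₁) hS₁)
      (hev₁.mul_left m) hid₁ hnt₁ Fi.symm hFa' hFb'
  · exact ⟨fun h => absurd h (hS hev₁ hS₁), fun h => absurd h (hS' hev₂ hS₂)⟩

include hlam hfix in
/-- if the signs agree at all ramified primes over `p`, the two matrix algebras have adapted
matrix units for common structure constants on an etale neighbourhood of `p` -/
theorem exists_common_pat_at' (h2 : IsUnit (2 : S)) (n n' : ℕ) (hn : 0 < n) (hn' : 0 < n')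
    (hA : AzInv.IsAzumayaDeg R A n) (hA' : AzInv.IsAzumayaDeg R A' n')
    (Hs : ∀ q : PrimeSpectrum R, (∀ r : R, lam r - r ∈ q.asIdeal) →
      (Module.finrank q.asIdeal.ResidueField
          (Submodule.span q.asIdeal.ResidueField
            (Set.range fun a : {a : A // t a = a} =>
              (1 : q.asIdeal.ResidueField) ⊗ₜ[R] (a : A))) = Nat.choose (n + 1) 2 ↔
        Module.finrank q.asIdeal.ResidueField
          (Submodule.span q.asIdeal.ResidueField
            (Set.range fun a : {a : A' // t' a = a} =>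
              (1 : q.asIdeal.ResidueField) ⊗ₜ[R] (a : A'))) = Nat.choose (n' + 1) 2))
    (p : PrimeSpectrum S) :
    ∃ (E : Type u) (_ : CommRing E) (_ : Algebra S E) (_ : Algebra.Etale S E),
      p ∈ Set.range (PrimeSpectrum.comap (algebraMap S E)) ∧
        ∃ c : ℕ → ℕ → ℕ → ℕ → ℤ,
          PatAdapted lam (t.matrix (Fin n')) E (n' * n) (castPat E (n' * n) c) ∧
          PatAdapted lam (t'.matrix (Fin n)) E (n' * n) (castPat E (n' * n) c) := by
  obtain ⟨B, _, _, _, _, H, -, hmax⟩ := exists_strictHenselization_over S S p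
  have hflat : Module.Flat S B := flat_of_factor' H
  have h2B : IsUnit (2 : B) := by
    have := h2.map (algebraMap S B)
    rwa [map_ofNat] at this
  -- the mixed cases are excluded by the hypothesis on the signs
  have hmixed : ∀ (hid : ∀ a : B ⊗[S] R,
      Algebra.TensorProduct.congr (AlgEquiv.refl : B ≃ₐ[S] B) lam a - a ∈
        Ring.jacobson (B ⊗[S] R)) (_ : Nontrivial (B ⊗[S] R)),
      ∃ q : PrimeSpectrum R, (∀ r : R, lam r - r ∈ q.asIdeal) ∧
        ∃ (M : Ideal (B ⊗[S] R)) (_ : M.IsMaximal),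
          M.comap (Algebra.TensorProduct.includeRight : R →ₐ[S] B ⊗[S] R).toRingHom =
            q.asIdeal := by
    intro hid hnt
    obtain ⟨M, hM⟩ := Ideal.exists_maximal (B ⊗[S] R)
    refine ⟨⟨M.comap (Algebra.TensorProduct.includeRight : R →ₐ[S] B ⊗[S] R).toRingHom,
      inferInstance⟩, fun r => ?_, M, hM, rfl⟩
    show (Algebra.TensorProduct.includeRight : R →ₐ[S] B ⊗[S] R) (lam r - r) ∈ M
    have h1 := hid ((1 : B) ⊗ₜ[S] r)
    rw [Ring.jacobson_eq_sInf_isMaximal, Submodule.mem_sInf] at h1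
    have h3 := h1 M hM
    rw [Algebra.TensorProduct.congr_apply, Algebra.TensorProduct.map_tmul] at h3
    rw [map_sub]
    exact h3
  have hcommon : ∃ c : ℕ → ℕ → ℕ → ℕ → ℤ,
      PatAdapted lam (t.matrix (Fin n')) B (n' * n) (castPat B (n' * n) c) ∧
      PatAdapted lam (t'.matrix (Fin n)) B (n' * n) (castPat B (n' * n) c) := by
    rcases exists_pat_of_strictHenselian lam hlam hfix t B h2B n hn hA with
      hO₁ | ⟨hid₁, hnt₁, hev₁, hS₁⟩ <;>
    rcases exists_pat_of_strictHenselian lam hlam hfix t' B h2B n' hn' hA' with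
      hO₂ | ⟨hid₂, hnt₂, hev₂, hS₂⟩
    · refine ⟨cOrth, patAdapted_matrix lam t cOrth n n' (cOrth_periodic n) hO₁, ?_⟩
      have := patAdapted_matrix lam t' cOrth n' n (cOrth_periodic n') hO₂
      rwa [Nat.mul_comm n n'] at this
    · exfalso
      obtain ⟨q, hq, M, hM, hqM⟩ := hmixed hid₂ hnt₂
      obtain ⟨hO, -⟩ := sign_at_maximal lam t h2 hn hA B M q hqM hq
      obtain ⟨-, hS'⟩ := sign_at_maximal lam t' h2 hn' hA' B M q hqM hq
      exact hS' hev₂ hS₂ ((Hs q hq).mp (hO hO₁))
    · exfalso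
      obtain ⟨q, hq, M, hM, hqM⟩ := hmixed hid₁ hnt₁
      obtain ⟨-, hS⟩ := sign_at_maximal lam t h2 hn hA B M q hqM hq
      obtain ⟨hO', -⟩ := sign_at_maximal lam t' h2 hn' hA' B M q hqM hq
      exact hS hev₁ hS₁ ((Hs q hq).mpr (hO' hO₂))
    · refine ⟨cSymp, patAdapted_matrix lam t cSymp n n' (cSymp_periodic n hev₁) hS₁, ?_⟩
      have := patAdapted_matrix lam t' cSymp n' n (cSymp_periodic n' hev₂) hS₂
      rwa [Nat.mul_comm n n'] at this
  obtain ⟨c, hc, hc'⟩ := hcommon
  obtain ⟨E₁, _, _, _, g₁, hE₁⟩ := exists_etale_pat lam (t.matrix (Fin n')) B H (n' * n) c hc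
  obtain ⟨E₂, _, _, _, g₂, hE₂⟩ := exists_etale_pat lam (t'.matrix (Fin n)) B H (n' * n) c hc'
  obtain ⟨E, _, _, _, gE, k₁, k₂, hk₁, hk₂⟩ := exists_refine g₁ g₂
  refine ⟨E, inferInstance, inferInstance, inferInstance,
    ⟨PrimeSpectrum.comap gE.toRingHom (closedPoint B), ?_⟩, c,
    hE₁.map_cast lam (t.matrix (Fin n')) k₁, hE₂.map_cast lam (t'.matrix (Fin n)) k₂⟩
  apply PrimeSpectrum.ext
  show ((maximalIdeal B).comap gE.toRingHom).comap (algebraMap S E) = p.asIdeal
  rw [Ideal.comap_comap, AlgHom.toRingHom_eq_coe, AlgHom.comp_algebraMap, hmax]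
  rfl

include hlam hfix in
/-- involutions whose signs agree at every ramified prime have the same type -/
theorem backward (h2 : IsUnit (2 : S)) (n n' : ℕ) (hn : 0 < n) (hn' : 0 < n')
    (hA : AzInv.IsAzumayaDeg R A n) (hA' : AzInv.IsAzumayaDeg R A' n')
    (Hs : ∀ q : PrimeSpectrum R, (∀ r : R, lam r - r ∈ q.asIdeal) →
      (Module.finrank q.asIdeal.ResidueField
          (Submodule.span q.asIdeal.ResidueField
            (Set.range fun a : {a : A // t a = a} =>
              (1 : q.asIdeal.ResidueField) ⊗ₜ[R] (a : A))) = Nat.choose (n + 1) 2 ↔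
        Module.finrank q.asIdeal.ResidueField
          (Submodule.span q.asIdeal.ResidueField
            (Set.range fun a : {a : A' // t' a = a} =>
              (1 : q.asIdeal.ResidueField) ⊗ₜ[R] (a : A'))) = Nat.choose (n' + 1) 2)) :
    AzInv.SameType S lam t t' := by
  refine ⟨n', n, hn', hn, ?_⟩
  choose 𝓔 i1 i2 i3 hr c hc hc' using
    exists_common_pat_at' lam hlam hfix t t' h2 n n' hn hn' hA hA' Hs
  obtain ⟨T, hT⟩ := exists_finite_etale_cover S 𝓔 hr
  have h1 := patAdapted_pi lam (t.matrix (Fin n')) (fun i : T => 𝓔 i) (n' * n)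
    (fun i => castPat (𝓔 i) (n' * n) (c i)) (fun i => hc i)
  have h2' := patAdapted_pi lam (t'.matrix (Fin n)) (fun i : T => 𝓔 i) (n' * n)
    (fun i => castPat (𝓔 i) (n' * n) (c i)) (fun i => hc' i)
  have hdeg : AzInv.IsAzumayaDeg R (Matrix (Fin n) (Fin n) A') (n' * n) := by
    have := isAzumayaDeg_matrix A' hA' n hn
    rwa [Nat.mul_comm n n'] at this
  obtain ⟨f, hf1, hf2⟩ := exists_iso_of_pat lam (t.matrix (Fin n')) (t'.matrix (Fin n)) (n' * n)
    (Nat.mul_pos hn' hn) (isAzumayaDeg_matrix A hA n' hn') hdeg _ h1 h2'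
  exact ⟨∀ i : T, 𝓔 i, inferInstance, inferInstance, inferInstance, hT, f, hf1, hf2⟩

end main

end Groth.Agent.Lib.T2H2.AzInvSign
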