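import Mathlib
import Groth.Agent.Lib.LeadCSA
import Groth.Agent.Lib.LeadAzumayaLocal

namespace Groth.Agent.Lib.T2H2.MaxEtaleFree

open scoped TensorProduct

section LB

variable {R : Type*} [CommRing R] {E : Type*} [CommRing E] [Algebra R E]
  {A : Type*} [Ring A] [Algebra R A] (u : E →ₐ[R] A) [Module E A] [IsScalarTower R E A]
  (hmod : ∀ (e : E) (a : A), e • a = a * u e)

/-- left multiplication as an `E`-linear endomorphism, for the right `E`-structure -/
def leftMul : A →ₐ[R] Module.End E A where
  toFun a :=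
    { toFun := fun y => a * y
      map_add' := fun y z => mul_add a y z
      map_smul' := fun e y => by
        simp only [RingHom.id_apply, hmod, mul_assoc] }
  map_one' := by ext y; simp
  map_mul' a b := by ext y; simp [mul_assoc]
  map_zero' := by ext y; simp
  map_add' a b := by ext y; simp [add_mul]
  commutes' r := by
    ext y
    simp [Algebra.smul_def]

@[simp] theorem leftMul_apply (a y : A) : leftMul u hmod a y = a * y := rfl

variable (F : Type*) [Field F] [Algebra E F] [Algebra R F] [IsScalarTower R E F]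

/-- the action of `F ⊗[R] A` on the fibre `F ⊗[E] A` -/
noncomputable def fibreAct : F ⊗[R] A →ₐ[F] Module.End F (F ⊗[E] A) :=
  Algebra.TensorProduct.lift (Algebra.ofId F (Module.End F (F ⊗[E] A)))
    (((Module.End.baseChangeHom E F A).restrictScalars R).comp (leftMul u hmod))
    (fun f a => Algebra.commutes f _)

theorem fibreAct_tmul (f : F) (a : A) (f' : F) (y : A) :
    fibreAct u hmod F (f ⊗ₜ[R] a) (f' ⊗ₜ[E] y) = (f * f') ⊗ₜ[E] (a * y) := by
  rw [fibreAct, Algebra.TensorProduct.lift_tmul]
  have h1 : (((Module.End.baseChangeHom E F A).restrictScalars R).comp (leftMul u hmod)) a =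
      (leftMul u hmod a).baseChange F := rfl
  rw [h1, Module.End.mul_apply, LinearMap.baseChange_tmul, leftMul_apply, Algebra.ofId_apply,
    Module.algebraMap_end_apply, TensorProduct.smul_tmul', smul_eq_mul]

include u hmod in
theorem finrank_le_sq [IsSimpleRing (F ⊗[R] A)] [Nontrivial (F ⊗[E] A)]
    [Module.Finite F (F ⊗[E] A)] :
    Module.finrank F (F ⊗[R] A) ≤ Module.finrank F (F ⊗[E] A) ^ 2 := by
  have hinj : Function.Injective (fibreAct u hmod F) :=
    (fibreAct u hmod F).toRingHom.injective
  have h1 := LinearMap.finrank_le_finrank_of_injective (f := (fibreAct u hmod F).toLinearMap) hinj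
  rw [Module.finrank_linearMap, ← pow_two] at h1
  exact h1

end LB



section nontriv

variable {R : Type*} [CommRing R] {E : Type*} [CommRing E] [Algebra R E]
  {A : Type*} [Ring A] [Algebra R A] (u : E →ₐ[R] A) [Module E A]
  (hmod : ∀ (e : E) (a : A), e • a = a * u e)

include hmod in
theorem nontrivial_fibre (hu : Function.Injective u) [Module.Finite E A] (P : Ideal E)
    (hP : P ≠ ⊤) : Nontrivial ((E ⧸ P) ⊗[E] A) := by
  have e := TensorProduct.quotTensorEquivQuotSMul A P
  suffices h : Nontrivial (A ⧸ (P • ⊤ : Submodule E A)) from e.toEquiv.nontrivial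
  rw [Submodule.Quotient.nontrivial_iff]
  intro htop
  obtain ⟨x, hx1, hx2⟩ := Submodule.exists_sub_one_mem_and_smul_eq_zero_of_fg_of_le_smul P
    (⊤ : Submodule E A) Module.Finite.fg_top (by rw [htop])
  have h1 := hx2 1 trivial
  rw [hmod, one_mul] at h1
  have h2 : x = 0 := hu (by rw [h1, map_zero])
  rw [h2, zero_sub] at hx1
  apply hP
  rw [Ideal.eq_top_iff_one]
  simpa using P.neg_mem hx1

end nontriv

section arith

theorem eq_of_weighted_sum {ι : Type*} [Fintype ι] (w ρ : ι → ℕ) (r : ℕ) (hw : ∀ i, 0 < w i)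
    (hρ : ∀ i, r ≤ ρ i) (h1 : ∑ i, w i = r) (h2 : ∑ i, w i * ρ i = r ^ 2) : ∀ i, ρ i = r := by
  have h3 : ∑ i, w i * ρ i = ∑ i, w i * (ρ i - r) + ∑ i, w i * r := by
    rw [← Finset.sum_add_distrib]
    apply Finset.sum_congr rfl
    intro i _
    rw [← mul_add, Nat.sub_add_cancel (hρ i)]
  rw [← Finset.sum_mul, h1, h2, pow_two] at h3
  have h4 : ∑ i, w i * (ρ i - r) = 0 := by omega
  intro i
  have h5 := (Finset.sum_eq_zero_iff.1 h4) i (Finset.mem_univ i)
  rcases Nat.mul_eq_zero.1 h5 with h | h
  · exact absurd h (hw i).ne'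
  · have := hρ i
    omega

end arith

section count

attribute [local instance] Ideal.Quotient.field

variable {k : Type*} [Field k] {E : Type*} [CommRing E] [Algebra k E] [Module.Finite k E]
  [IsReduced E]

theorem finrank_eq_sum [Fintype (MaximalSpectrum E)] (M : Type*) [AddCommGroup M] [Module E M]
    [Module k M] [IsScalarTower k E M] [Module.Finite k M] :
    Module.finrank k M = ∑ P : MaximalSpectrum E, Module.finrank k (E ⧸ P.asIdeal) *
      Module.finrank (E ⧸ P.asIdeal) ((E ⧸ P.asIdeal) ⊗[E] M) := by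
  classical
  have : IsArtinianRing E := IsArtinianRing.of_finite k E
  let e1 : M ≃ₗ[E] E ⊗[E] M := (TensorProduct.lid E M).symm
  let e2 : E ⊗[E] M ≃ₗ[E] (∀ P : MaximalSpectrum E, E ⧸ P.asIdeal) ⊗[E] M :=
    TensorProduct.congr (IsArtinianRing.equivPi E).toLinearEquiv (LinearEquiv.refl E M)
  let e3 : (∀ P : MaximalSpectrum E, E ⧸ P.asIdeal) ⊗[E] M ≃ₗ[E]
      ∀ P : MaximalSpectrum E, (E ⧸ P.asIdeal) ⊗[E] M :=
    TensorProduct.piLeft E M (fun P : MaximalSpectrum E => E ⧸ P.asIdeal)
  let e : M ≃ₗ[k] ∀ P : MaximalSpectrum E, (E ⧸ P.asIdeal) ⊗[E] M :=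
    ((e1.trans e2).trans e3).restrictScalars k
  have hfin : ∀ P : MaximalSpectrum E, Module.Finite k ((E ⧸ P.asIdeal) ⊗[E] M) := by
    intro P
    have : Module.Finite E M := Module.Finite.of_restrictScalars_finite k E M
    exact Module.Finite.trans (E ⧸ P.asIdeal) _
  rw [e.finrank_eq, Module.finrank_pi_fintype]
  apply Finset.sum_congr rfl
  intro P _
  exact (Module.finrank_mul_finrank k (E ⧸ P.asIdeal) _).symm

end count



section FC

attribute [local instance] Ideal.Quotient.field

variable {k : Type*} [Field k] {E : Type*} [CommRing E] [Algebra k E] [Algebra.Etale k E]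
  [Module.Finite k E]
  {A : Type*} [Ring A] [Algebra k A] [Algebra.IsCentral k A] [IsSimpleRing A]
  [FiniteDimensional k A]
  (u : E →ₐ[k] A) [Module E A] [IsScalarTower k E A] (hmod : ∀ (e : E) (a : A), e • a = a * u e)

include hmod in
/-- field case: `A` is free of rank `r` over a maximal étale subalgebra -/
theorem nonempty_basis_of_field (hu : Function.Injective u) (r : ℕ)
    (hE : Module.finrank k E = r) (hA : Module.finrank k A = r ^ 2) :
    Nonempty (Module.Basis (Fin r) E A) := by
  classical
  have : IsReduced E := Algebra.FormallyUnramified.isReduced_of_field k E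
  have : IsArtinianRing E := IsArtinianRing.of_finite k E
  have : Fintype (MaximalSpectrum E) := Fintype.ofFinite _
  have : Module.Finite E A := Module.Finite.of_restrictScalars_finite k E A
  have : Module.Flat E A := Algebra.FormallyUnramified.flat_of_restrictScalars k E A
  -- lower bound
  have hlow : ∀ P : MaximalSpectrum E,
      r ≤ Module.finrank (E ⧸ P.asIdeal) ((E ⧸ P.asIdeal) ⊗[E] A) := by
    intro P
    have : IsSimpleRing ((E ⧸ P.asIdeal) ⊗[k] A) :=
      Groth.Agent.Lib.LeadCSA.isSimpleRing_baseChange (E ⧸ P.asIdeal)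
    have : Nontrivial ((E ⧸ P.asIdeal) ⊗[E] A) :=
      nontrivial_fibre u hmod hu P.asIdeal P.isMaximal.ne_top
    have h1 := finrank_le_sq u hmod (E ⧸ P.asIdeal)
    rw [Module.finrank_baseChange, hA] at h1
    exact (Nat.pow_le_pow_iff_left (by norm_num)).1 h1
  -- counting
  have hcA := finrank_eq_sum (k := k) (E := E) A
  have hcE := finrank_eq_sum (k := k) (E := E) E
  have hone : ∀ P : MaximalSpectrum E,
      Module.finrank (E ⧸ P.asIdeal) ((E ⧸ P.asIdeal) ⊗[E] E) = 1 := by
    intro P
    rw [(TensorProduct.AlgebraTensorModule.rid E (E ⧸ P.asIdeal) (E ⧸ P.asIdeal)).finrank_eq,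
      Module.finrank_self]
  simp only [hone, mul_one] at hcE
  rw [hE] at hcE
  rw [hA] at hcA
  have hrk := eq_of_weighted_sum (fun P : MaximalSpectrum E => Module.finrank k (E ⧸ P.asIdeal))
    (fun P => Module.finrank (E ⧸ P.asIdeal) ((E ⧸ P.asIdeal) ⊗[E] A)) r
    (fun P => Module.finrank_pos) hlow hcE.symm hcA.symm
  exact Module.nonempty_basis_of_flat_of_finrank_eq E A r hrk

end FC



section lift

universe u

variable (R : Type u) [CommRing R] [IsLocalRing R] (A : Type u) [Ring A] [Algebra R A]
  (E : Type u) [CommRing E] [Algebra R E] (u : E →ₐ[R] A)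

local notation "𝕜" => IsLocalRing.ResidueField R

omit [IsLocalRing R] in
theorem isScalarTower_of_hmod [Module E A] (hmod : ∀ (e : E) (a : A), e • a = a * u e) :
    IsScalarTower R E A := by
  constructor
  intro c e a
  rw [hmod, hmod, map_smul, mul_smul_comm]

/-- the base change of `u` to the residue field -/
noncomputable def u₀ : 𝕜 ⊗[R] E →ₐ[𝕜] 𝕜 ⊗[R] A := Algebra.TensorProduct.map (AlgHom.id 𝕜 𝕜) u

theorem u₀_eq (z : 𝕜 ⊗[R] E) : u₀ R A E u z = u.toLinearMap.lTensor 𝕜 z := by
  induction z using TensorProduct.induction_on with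
  | zero => simp
  | tmul x y => simp [u₀]
  | add x y hx hy => rw [map_add, map_add, hx, hy]

theorem u₀_comm (x y : 𝕜 ⊗[R] E) : Commute (u₀ R A E u x) (u₀ R A E u y) := by
  show u₀ R A E u x * u₀ R A E u y = u₀ R A E u y * u₀ R A E u x
  rw [← map_mul, ← map_mul, mul_comm]

/-- the module structure of the special fibre of `A` over the special fibre of `E` -/
@[reducible] noncomputable def fibreModule : Module (𝕜 ⊗[R] E) (𝕜 ⊗[R] A) :=
  Module.compHom (𝕜 ⊗[R] A) ((u₀ R A E u).toRingHom.toOpposite (u₀_comm R A E u))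

variable [IsAzumaya R A] [Algebra.Etale R E] [Module.Finite R E] [Module.Free R E]

theorem exists_basis (hu : Function.Injective (u.toLinearMap.lTensor 𝕜)) (r : ℕ)
    (hA : Module.finrank R A = r ^ 2) (hE : Module.finrank R E = r) :
    ∃ c : Fin r → A, ∃ ε : Module.Basis (Fin r) R E,
      Function.Bijective (Finsupp.linearCombination R
        (fun p : Fin r × Fin r => c p.2 * u (ε p.1))) := by
  classical
  let _ : Module (𝕜 ⊗[R] E) (𝕜 ⊗[R] A) := fibreModule R A E u
  have hmod₀ : ∀ (e : 𝕜 ⊗[R] E) (a : 𝕜 ⊗[R] A), e • a = a * u₀ R A E u e := fun e a => rfl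
  have hst : IsScalarTower 𝕜 (𝕜 ⊗[R] E) (𝕜 ⊗[R] A) := by
    constructor
    intro c e a
    rw [hmod₀, hmod₀, map_smul, mul_smul_comm]
  have hAz : IsAzumaya 𝕜 (𝕜 ⊗[R] A) := Groth.Agent.Lib.LeadAzumaya.isAzumaya_baseChange 𝕜 A
  have hsimple : IsSimpleRing (𝕜 ⊗[R] A) :=
    Groth.Agent.Lib.LeadAzumaya.isSimpleRing_of_isAzumaya_field (k := 𝕜)
  have hfree : Module.Free R A := Module.free_of_flat_of_isLocalRing
  have hdimA : Module.finrank 𝕜 (𝕜 ⊗[R] A) = r ^ 2 := by
    rw [Module.finrank_baseChange, hA]
  have hdimE : Module.finrank 𝕜 (𝕜 ⊗[R] E) = r := by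
    rw [Module.finrank_baseChange, hE]
  have hu₀ : Function.Injective (u₀ R A E u) := by
    intro x y hxy
    rw [u₀_eq, u₀_eq] at hxy
    exact hu hxy
  obtain ⟨b₀⟩ := nonempty_basis_of_field (u₀ R A E u) hmod₀ hu₀ r hdimE hdimA
  have hsurj := TensorProduct.mk_surjective R A 𝕜 Ideal.Quotient.mk_surjective
  choose c hc using fun i => hsurj (b₀ i)
  let ε : Module.Basis (Fin r) R E := Module.finBasisOfFinrankEq R E hE
  refine ⟨c, ε, ?_⟩
  apply Module.IsLocalRing.linearCombination_bijective_of_flat
  let B : Module.Basis (Fin r × Fin r) 𝕜 (𝕜 ⊗[R] A) := (ε.baseChange 𝕜).smulTower b₀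
  have hB : (TensorProduct.mk R 𝕜 A 1 ∘ fun p : Fin r × Fin r => c p.2 * u (ε p.1)) = B := by
    funext p
    simp only [Function.comp_apply, B, Module.Basis.smulTower_apply, Module.Basis.baseChange_apply,
      hmod₀]
    rw [← hc p.2]
    simp [u₀]
  rw [hB, ← Module.Basis.coe_repr_symm]
  exact B.repr.symm.bijective

end lift



section basis

variable {R : Type*} [CommRing R] {A : Type*} [Ring A] [Algebra R A]
  {E : Type*} [CommRing E] [Algebra R E] (u : E →ₐ[R] A) [Module E A]
  (hmod : ∀ (e : E) (a : A), e • a = a * u e)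

include hmod in
/-- if the products `c i * u (ε j)` form an `R`-basis of `A`, for an `R`-basis `ε` of `E`, then the
`c i` form an `E`-basis of `A` -/
theorem basis_of_bijective {r : ℕ} (c : Fin r → A) (ε : Module.Basis (Fin r) R E)
    (hbij : Function.Bijective (Finsupp.linearCombination R
        (fun p : Fin r × Fin r => c p.2 * u (ε p.1)))) :
    Nonempty (Module.Basis (Fin r) E A) := by
  classical
  have hli : LinearIndependent E c := by
    rw [Fintype.linearIndependent_iff]
    intro g hg i
    let l : Fin r × Fin r →₀ R := Finsupp.equivFunOnFinite.symm (fun p => ε.repr (g p.2) p.1)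
    have h1 : Finsupp.linearCombination R (fun p : Fin r × Fin r => c p.2 * u (ε p.1)) l = 0 := by
      rw [Finsupp.linearCombination_apply, Finsupp.sum_fintype _ _ (by simp),
        Fintype.sum_prod_type_right]
      rw [← hg]
      apply Finset.sum_congr rfl
      intro i _
      have h2 : g i = ∑ j, ε.repr (g i) j • ε j := (ε.sum_repr (g i)).symm
      conv_rhs => rw [hmod, h2, map_sum, Finset.mul_sum]
      apply Finset.sum_congr rfl
      intro j _
      simp only [l, map_smul, mul_smul_comm]
      rfl
    have h3 : l = 0 := hbij.1 (by rw [h1, map_zero])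
    have h4 : ε.repr (g i) = 0 := by
      ext j
      have := DFunLike.congr_fun h3 (j, i)
      simpa [l] using this
    simpa using h4
  have hspan : ⊤ ≤ Submodule.span E (Set.range c) := by
    intro a _
    obtain ⟨l, rfl⟩ := hbij.2 a
    rw [Finsupp.linearCombination_apply, Finsupp.sum_fintype _ _ (by simp)]
    apply Submodule.sum_mem
    intro p _
    have : l p • (c p.2 * u (ε p.1)) = (l p • ε p.1) • c p.2 := by
      rw [hmod, map_smul, mul_smul_comm]
    rw [this]
    exact Submodule.smul_mem _ _ (Submodule.subset_span ⟨p.2, rfl⟩)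
  exact ⟨Module.Basis.mk hli hspan⟩

end basis


section final

universe u

variable (R : Type u) [CommRing R] [IsLocalRing R] (A : Type u) [Ring A] [Algebra R A]
  [IsAzumaya R A] (E : Type u) [CommRing E] [Algebra R E] [Algebra.Etale R E] [Module.Finite R E]
  [Module.Free R E] (u : E →ₐ[R] A) [Module E A]
  (hmod : ∀ (e : E) (a : A), e • a = a * u e)

include hmod in
theorem nonempty_basis (hu : Function.Injective (u.toLinearMap.lTensor (IsLocalRing.ResidueField R)))
    (r : ℕ) (hA : Module.finrank R A = r ^ 2) (hE : Module.finrank R E = r) :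
    Nonempty (Module.Basis (Fin r) E A) := by
  obtain ⟨c, ε, hbij⟩ := exists_basis R A E u hu r hA hE
  exact basis_of_bijective u hmod c ε hbij

include hmod in
theorem free_and_finrank
    (hu : Function.Injective (u.toLinearMap.lTensor (IsLocalRing.ResidueField R)))
    (r : ℕ) (hA : Module.finrank R A = r ^ 2) (hE : Module.finrank R E = r) :
    Module.Free E A ∧ Module.finrank E A = r := by
  obtain ⟨b⟩ := nonempty_basis R A E u hmod hu r hA hE
  refine ⟨Module.Free.of_basis b, ?_⟩
  rcases Nat.eq_zero_or_pos r with h0 | hpos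
  · have hfree : Module.Free R A := Module.free_of_flat_of_isLocalRing
    have : Subsingleton A := by
      rw [h0] at hA
      have h1 : Module.finrank R A = 0 := by rw [hA]; norm_num
      exact (Module.finrank_eq_zero_iff_of_free R A).1 h1
    exfalso
    have h2 : (1 : R) = 0 := by
      apply FaithfulSMul.eq_of_smul_eq_smul (α := A)
      intro a
      exact Subsingleton.elim _ _
    exact one_ne_zero h2
  · have : Nontrivial E := by
      have h1 : 0 < Module.finrank R E := by rw [hE]; exact hpos
      exact Module.nontrivial_of_finrank_pos (R := R) h1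
    rw [Module.finrank_eq_card_basis b, Fintype.card_fin]

end final



section split

universe u

variable (R : Type u) [CommRing R] [IsLocalRing R] (A : Type u) [Ring A] [Algebra R A]
  [IsAzumaya R A] (E : Type u) [CommRing E] [Algebra R E] [Algebra.Etale R E] [Module.Finite R E]
  [Module.Free R E] (u : E →ₐ[R] A) [Module E A] [IsScalarTower R E A]
  (hmod : ∀ (e : E) (a : A), e • a = a * u e)

/-- the comparison map `E ⊗ A → End_E A` -/
noncomputable def splitHom : E ⊗[R] A →ₐ[E] Module.End E A :=
  Algebra.TensorProduct.lift (Algebra.ofId E (Module.End E A)) (leftMul u hmod)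
    (fun e a => Algebra.commutes e _)

theorem splitHom_tmul_apply (e : E) (a y : A) :
    splitHom R A E u hmod (e ⊗ₜ[R] a) y = a * y * u e := by
  rw [splitHom, Algebra.TensorProduct.lift_tmul, Module.End.mul_apply, leftMul_apply,
    Algebra.ofId_apply, Module.algebraMap_end_apply, hmod]

/-- a retraction of the comparison map -/
noncomputable def splitRetr (ρ : A →ₗ[R] E) : Module.End E A →ₗ[R] E ⊗[R] A :=
  ((TensorProduct.comm R A E).toLinearMap ∘ₗ
    (TensorProduct.map LinearMap.id (ρ ∘ₗ (MulOpposite.opLinearEquiv R).symm.toLinearMap)) ∘ₗ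
    (AlgEquiv.ofBijective (AlgHom.mulLeftRight R A) IsAzumaya.bij).symm.toLinearEquiv.toLinearMap) ∘ₗ
  ({ toFun := fun T => T.restrictScalars R
     map_add' := fun _ _ => rfl
     map_smul' := fun _ _ => rfl } : Module.End E A →ₗ[R] Module.End R A)

theorem splitRetr_splitHom (ρ : A →ₗ[R] E) (hρ : ∀ e, ρ (u e) = e) (z : E ⊗[R] A) :
    splitRetr R A E ρ (splitHom R A E u hmod z) = z := by
  induction z using TensorProduct.induction_on with
  | zero => simp
  | add x y hx hy => rw [map_add, map_add, hx, hy]
  | tmul e a =>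
    have h1 : (splitHom R A E u hmod (e ⊗ₜ[R] a)).restrictScalars R =
        AlgHom.mulLeftRight R A (a ⊗ₜ[R] MulOpposite.op (u e)) := by
      ext y
      simp [splitHom_tmul_apply]
    simp only [splitRetr, LinearMap.coe_comp, Function.comp_apply, LinearMap.coe_mk, AddHom.coe_mk]
    rw [h1]
    have h2 : (AlgEquiv.ofBijective (AlgHom.mulLeftRight R A) IsAzumaya.bij).symm.toLinearEquiv.toLinearMap
        (AlgHom.mulLeftRight R A (a ⊗ₜ[R] MulOpposite.op (u e))) = a ⊗ₜ[R] MulOpposite.op (u e) := by
      exact (AlgEquiv.ofBijective (AlgHom.mulLeftRight R A) IsAzumaya.bij).symm_apply_apply _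
    rw [h2]
    simp [hρ]


include hmod in
theorem splitHom_bijective
    (hu : Function.Injective (u.toLinearMap.lTensor (IsLocalRing.ResidueField R)))
    (r : ℕ) (hA : Module.finrank R A = r ^ 2) (hE : Module.finrank R E = r) :
    Function.Bijective (splitHom R A E u hmod) := by
  have hfreeAR : Module.Free R A := Module.free_of_flat_of_isLocalRing
  obtain ⟨ρ, hρ⟩ :=
    (IsLocalRing.split_injective_iff_lTensor_residueField_injective u.toLinearMap).2 hu
  have hρ' : ∀ e, ρ (u e) = e := fun e => by simpa using LinearMap.congr_fun hρ e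
  obtain ⟨hfreeA, hrk⟩ := free_and_finrank R A E u hmod hu r hA hE
  have hne : Nontrivial E := by
    rcases Nat.eq_zero_or_pos r with h0 | hpos
    · exfalso
      have : Subsingleton A := by
        rw [h0] at hA
        have h1 : Module.finrank R A = 0 := by rw [hA]; norm_num
        exact (Module.finrank_eq_zero_iff_of_free R A).1 h1
      have h2 : (1 : R) = 0 := by
        apply FaithfulSMul.eq_of_smul_eq_smul (α := A)
        intro a
        exact Subsingleton.elim _ _
      exact one_ne_zero h2
    · exact Module.nontrivial_of_finrank_pos (R := R) (by rw [hE]; exact hpos)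
  have : Module.Finite E A := Module.Finite.of_restrictScalars_finite R E A
  have : Module.Free R (Module.End E A) := Module.Free.trans (R := R) (S := E)
  have : Module.Finite R (Module.End E A) := Module.Finite.trans E _
  have h1 : Module.finrank R (E ⊗[R] A) = r * r ^ 2 := by
    rw [Module.finrank_tensorProduct, hE, hA]
  have h2 : Module.finrank R (Module.End E A) = r * r ^ 2 := by
    rw [← Module.finrank_mul_finrank R E (Module.End E A), hE, Module.finrank_linearMap, hrk]
    ring
  let θ : Module.End E A ≃ₗ[R] E ⊗[R] A := LinearEquiv.ofFinrankEq _ _ (h2.trans h1.symm)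
  have hsurj : Function.Surjective (splitRetr R A E ρ) :=
    fun z => ⟨splitHom R A E u hmod z, splitRetr_splitHom R A E u hmod ρ hρ' z⟩
  have hinj : Function.Injective (splitRetr R A E ρ) :=
    OrzechProperty.injective_of_surjective_of_injective θ.toLinearMap _ θ.injective hsurj
  constructor
  · intro x y hxy
    have := congrArg (splitRetr R A E ρ) hxy
    rwa [splitRetr_splitHom R A E u hmod ρ hρ', splitRetr_splitHom R A E u hmod ρ hρ'] at this
  · intro T
    refine ⟨splitRetr R A E ρ T, hinj ?_⟩
    rw [splitRetr_splitHom R A E u hmod ρ hρ']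

end split


section S5711

universe u

variable (R : Type u) [CommRing R] [IsLocalRing R] (A : Type u) [Ring A] [Algebra R A]
  [IsAzumaya R A] (E : Type u) [CommRing E] [Algebra R E] [Algebra.Etale R E] [Module.Finite R E]
  [Module.Free R E] (u : E →ₐ[R] A) [Module E A]

theorem main (r : ℕ) (hA : Module.finrank R A = r ^ 2) (hE : Module.finrank R E = r)
    (hu : Function.Injective (u.toLinearMap.lTensor (IsLocalRing.ResidueField R)))
    (hmod : ∀ (e : E) (a : A), e • a = a * u e) :
    Module.Free E A ∧ Module.finrank E A = r ∧ Nonempty ((E ⊗[R] A) ≃ₐ[E] Module.End E A) := by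
  have hst : IsScalarTower R E A := isScalarTower_of_hmod R A E u hmod
  obtain ⟨h1, h2⟩ := free_and_finrank R A E u hmod hu r hA hE
  exact ⟨h1, h2, ⟨AlgEquiv.ofBijective (splitHom R A E u hmod)
    (splitHom_bijective R A E u hmod hu r hA hE)⟩⟩

end S5711

end Groth.Agent.Lib.T2H2.MaxEtaleFree
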