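import Mathlib
import Groth.Agent.Lib.LeadCSA
import Groth.Agent.Lib.LeadAzumayaLocal

namespace Groth.Agent.Lib.T2H2.RegElt

open Polynomial
open scoped TensorProduct

section partI

variable {K V : Type*} [Field K] [AddCommGroup V] [Module K V] [FiniteDimensional K V]

/-- `Y ↦ X * Y - Y * X` on an algebra -/
def adMap (k : Type*) [CommRing k] {E : Type*} [Ring E] [Algebra k E] (x : E) : E →ₗ[k] E :=
  LinearMap.mulLeft k x - LinearMap.mulRight k x

@[simp] theorem adMap_apply (k : Type*) [CommRing k] {E : Type*} [Ring E] [Algebra k E] (x y : E) :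
    adMap k x y = x * y - y * x := rfl

theorem mem_ker_adMap (k : Type*) [CommRing k] {E : Type*} [Ring E] [Algebra k E] (x y : E) :
    y ∈ LinearMap.ker (adMap k x) ↔ x * y = y * x := by
  rw [LinearMap.mem_ker, adMap_apply, sub_eq_zero]

theorem finrank_centralizer_le (X : Module.End K V) (hsplit : (minpoly K X).Splits)
    (hsep : (minpoly K X).Separable)
    (hdeg : (minpoly K X).natDegree = Module.finrank K V) :
    Module.finrank K (LinearMap.ker (adMap K X)) ≤ Module.finrank K V := by
  classical
  set s : Finset K := (minpoly K X).roots.toFinset with hs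
  have hcard : s.card = Module.finrank K V := by
    rw [hs, Multiset.toFinset_card_of_nodup (nodup_roots hsep), ← hsplit.natDegree_eq_card_roots,
      hdeg]
  have hne : minpoly K X ≠ 0 := minpoly.ne_zero (Algebra.IsIntegral.isIntegral X)
  have hev : ∀ μ : s, X.HasEigenvalue (μ : K) := by
    intro μ
    apply Module.End.hasEigenvalue_of_isRoot
    have h0 : (μ : K) ∈ (minpoly K X).roots.toFinset := μ.2
    rw [Multiset.mem_toFinset, mem_roots hne] at h0
    exact h0
  choose w hw using fun μ : s => (hev μ).exists_hasEigenvector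
  have hli : LinearIndependent K w :=
    Module.End.eigenvectors_linearIndependent' X (fun μ : s => (μ : K)) Subtype.coe_injective w hw
  have hspan : Submodule.span K (Set.range w) = ⊤ := by
    apply hli.span_eq_top_of_card_eq_finrank'
    rw [Fintype.card_coe, hcard]
  let v : V := ∑ μ : s, w μ
  let ev : LinearMap.ker (adMap K X) →ₗ[K] V :=
    (LinearMap.applyₗ v).comp (LinearMap.ker (adMap K X)).subtype
  have hinj : Function.Injective ev := by
    rw [injective_iff_map_eq_zero]
    intro Y hY
    have hYc : X * (Y : Module.End K V) = (Y : Module.End K V) * X :=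
      (mem_ker_adMap K X _).1 Y.2
    have hYv : (Y : Module.End K V) v = 0 := hY
    have hmem : ∀ μ : s, (Y : Module.End K V) (w μ) ∈ X.eigenspace (μ : K) := by
      intro μ
      rw [Module.End.mem_eigenspace_iff]
      have h1 : X ((Y : Module.End K V) (w μ)) = (Y : Module.End K V) (X (w μ)) := by
        have := congrArg (fun Z : Module.End K V => Z (w μ)) hYc
        simpa using this
      rw [h1, (hw μ).apply_eq_smul, map_smul]
    have hsum : ∑ μ : s, (Y : Module.End K V) (w μ) = 0 := by
      rw [← map_sum]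
      exact hYv
    have hind := (iSupIndep_iff_finsetSum_eq_zero_imp_eq_zero X.eigenspace).1
      X.eigenspaces_iSupIndep
    have hzero : ∀ μ : s, (Y : Module.End K V) (w μ) = 0 := by
      intro μ
      let u : K → V := fun ν => if h : ν ∈ s then (Y : Module.End K V) (w ⟨ν, h⟩) else 0
      have h2 := hind s u (by
        intro ν hν
        simp only [u, dif_pos hν]
        exact hmem ⟨ν, hν⟩) (by
        rw [← Finset.sum_coe_sort]
        rw [← hsum]
        apply Finset.sum_congr rfl
        intro ν _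
        simp only [u, dif_pos ν.2])
      have h3 := h2 μ μ.2
      simpa only [u, dif_pos μ.2] using h3
    apply Subtype.ext
    show (Y : Module.End K V) = 0
    apply LinearMap.ext_on_range hspan
    intro μ
    rw [hzero μ, LinearMap.zero_apply]
  exact LinearMap.finrank_le_finrank_of_injective hinj

end partI


section partII

variable {k : Type*} [Field k] {A : Type*} [Ring A] [Algebra k A]

/-- minimal polynomial after base change -/
theorem minpoly_baseChange (K : Type*) [Field K] [Algebra k K] (x : A) (hx : IsIntegral k x) :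
    minpoly K ((1 : K) ⊗ₜ[k] x) = (minpoly k x).map (algebraMap k K) := by
  have hann : aeval ((1 : K) ⊗ₜ[k] x) ((minpoly k x).map (algebraMap k K)) = 0 := by
    rw [Polynomial.aeval_map_algebraMap]
    have := Polynomial.aeval_algHom_apply
      (Algebra.TensorProduct.includeRight : A →ₐ[k] K ⊗[k] A) x (minpoly k x)
    rw [Algebra.TensorProduct.includeRight_apply] at this
    rw [this, minpoly.aeval, map_zero]
  have hmonic : ((minpoly k x).map (algebraMap k K)).Monic := (minpoly.monic hx).map _
  symm
  apply minpoly.unique' K _ hmonic hann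
  intro q hq
  by_contra hcon
  push Not at hcon
  obtain ⟨hq0, hqa⟩ := hcon
  set r := (minpoly k x).natDegree with hr
  have hdeg : q.natDegree < r := by
    have h1 : ((minpoly k x).map (algebraMap k K)).natDegree = r := natDegree_map _
    have h2 : ((minpoly k x).map (algebraMap k K)) ≠ 0 := hmonic.ne_zero
    rw [degree_eq_natDegree hq0, degree_eq_natDegree h2, h1] at hq
    exact_mod_cast hq
  have hli : LinearIndependent K (fun i : Fin r => (1 : K) ⊗ₜ[k] (x ^ (i : ℕ))) :=
    Module.Flat.linearIndependent_one_tmul (S := K) (linearIndependent_pow (K := k) x)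
  rw [Polynomial.aeval_eq_sum_range' hdeg] at hqa
  have hpow : ∀ i : ℕ, ((1 : K) ⊗ₜ[k] x) ^ i = (1 : K) ⊗ₜ[k] (x ^ i) := by
    intro i
    rw [Algebra.TensorProduct.tmul_pow, one_pow]
  simp only [hpow] at hqa
  rw [← Fin.sum_univ_eq_sum_range (fun i => q.coeff i • ((1 : K) ⊗ₜ[k] (x ^ i))) r] at hqa
  have hz := (Fintype.linearIndependent_iff.1 hli) (fun i : Fin r => q.coeff i) hqa
  apply hq0
  ext i
  rw [coeff_zero]
  by_cases hi : i < r
  · exact hz ⟨i, hi⟩
  · exact coeff_eq_zero_of_natDegree_lt (by omega)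

end partII


section partIIb

variable {k : Type*} [Field k] {A : Type*} [Ring A] [Algebra k A]

theorem lTensor_adMap (K : Type*) [Field K] [Algebra k K] (x : A) :
    TensorProduct.AlgebraTensorModule.lTensor K K (adMap k x) = adMap K ((1 : K) ⊗ₜ[k] x) := by
  ext a
  simp [adMap_apply, TensorProduct.tmul_sub]

theorem finrank_ker_adMap_le [Algebra.IsCentral k A] [IsSimpleRing A] [FiniteDimensional k A]
    (r : ℕ) (hdim : Module.finrank k A = r ^ 2) (x : A)
    (hsep : (minpoly k x).Separable) (hdeg : (minpoly k x).natDegree = r) :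
    Module.finrank k (LinearMap.ker (adMap k x)) ≤ r := by
  let K := AlgebraicClosure k
  have h1 : IsSimpleRing (K ⊗[k] A) := Groth.Agent.Lib.LeadCSA.isSimpleRing_baseChange K
  have h2 : Algebra.IsCentral K (K ⊗[k] A) := Groth.Agent.Lib.LeadCSA.isCentral_baseChange K
  obtain ⟨n, hn, ⟨φ⟩⟩ :=
    Groth.Agent.Lib.LeadCSA.exists_algEquiv_matrix_of_isSepClosed (k := K) (A := K ⊗[k] A)
  have hnr : n = r := by
    have e1 : Module.finrank K (K ⊗[k] A) = r ^ 2 := by
      rw [Module.finrank_baseChange, hdim]
    have e2 := φ.toLinearEquiv.finrank_eq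
    rw [e1, Module.finrank_matrix] at e2
    simp only [Module.finrank_self, Fintype.card_fin, mul_one] at e2
    nlinarith [sq_nonneg (n - r : ℤ), e2]
  let ψ : K ⊗[k] A ≃ₐ[K] Module.End K (Fin n → K) := φ.trans Matrix.toLinAlgEquiv'
  let X := ψ ((1 : K) ⊗ₜ[k] x)
  have hx : IsIntegral k x := Algebra.IsIntegral.isIntegral x
  have hmin : minpoly K X = (minpoly k x).map (algebraMap k K) := by
    rw [← minpoly_baseChange K x hx]
    exact minpoly.algEquiv_eq ψ _
  have hI := finrank_centralizer_le X (hmin ▸ IsAlgClosed.splits _) (hmin ▸ hsep.map)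
    (by rw [hmin, natDegree_map, hdeg, Module.finrank_fin_fun, hnr])
  rw [Module.finrank_fin_fun] at hI
  refine le_trans ?_ (le_of_le_of_eq hI hnr)
  -- kernel of ad (1 ⊗ x) injects into kernel of ad X
  let j : LinearMap.ker (adMap K ((1 : K) ⊗ₜ[k] x)) →ₗ[K] LinearMap.ker (adMap K X) :=
    LinearMap.codRestrict _ (ψ.toLinearMap.comp (LinearMap.ker (adMap K ((1 : K) ⊗ₜ[k] x))).subtype)
      (by
        intro y
        rw [mem_ker_adMap]
        have := (mem_ker_adMap K _ _).1 y.2
        simp only [LinearMap.coe_comp, Function.comp_apply, Submodule.coe_subtype,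
          AlgEquiv.toLinearMap_apply, X]
        rw [← map_mul, ← map_mul, this])
  have hj : Function.Injective j := by
    intro y y' h
    have := congrArg Subtype.val h
    simp only [j, LinearMap.codRestrict_apply, LinearMap.coe_comp, Function.comp_apply,
      Submodule.coe_subtype, AlgEquiv.toLinearMap_apply] at this
    exact Subtype.ext (ψ.injective this)
  have h3 := LinearMap.finrank_le_finrank_of_injective hj
  refine le_trans (le_of_eq ?_) h3
  have e := (LinearMap.tensorKerEquiv K K (adMap k x)).finrank_eq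
  rw [Module.finrank_baseChange, lTensor_adMap] at e
  exact e

end partIIb


section adjoin

variable {k : Type*} [Field k] {A : Type*} [Ring A] [Algebra k A]

/-- the span of the first `natDegree (minpoly)` powers is the subalgebra generated by `x` -/
theorem span_pow_eq_adjoin (x : A) (hx : IsIntegral k x) :
    Submodule.span k (Set.range (fun i : Fin (minpoly k x).natDegree => x ^ (i : ℕ))) =
      Subalgebra.toSubmodule (Algebra.adjoin k ({x} : Set A)) := by
  apply le_antisymm
  · rw [Submodule.span_le]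
    rintro _ ⟨i, rfl⟩
    exact Subalgebra.pow_mem _ (Algebra.subset_adjoin (Set.mem_singleton x)) _
  · intro y hy
    rw [Subalgebra.mem_toSubmodule, Algebra.adjoin_singleton_eq_range_aeval] at hy
    obtain ⟨p, rfl⟩ := hy
    have hmon := minpoly.monic hx
    have h1 : aeval x p = aeval x (p %ₘ minpoly k x) := by
      conv_lhs => rw [← modByMonic_add_div p (minpoly k x)]
      rw [map_add, map_mul, minpoly.aeval, zero_mul, add_zero]
    show aeval x p ∈ _
    by_cases h0 : (minpoly k x).natDegree = 0
    · have h3 := minpoly.aeval k x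
      rw [eq_one_of_monic_natDegree_zero hmon h0, map_one] at h3
      have h4 : aeval x p = 0 := by rw [← mul_one (aeval x p), h3, mul_zero]
      rw [h4]
      exact Submodule.zero_mem _
    have h2 : (p %ₘ minpoly k x).natDegree < (minpoly k x).natDegree :=
      natDegree_modByMonic_lt p hmon (fun h => by rw [h, natDegree_one] at h0; exact h0 rfl)
    rw [h1, aeval_eq_sum_range' h2]
    apply Submodule.sum_mem
    intro i hi
    apply Submodule.smul_mem
    apply Submodule.subset_span
    exact ⟨⟨i, Finset.mem_range.1 hi⟩, rfl⟩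

theorem natDegree_minpoly_eq_finrank_adjoin (x : A) (hx : IsIntegral k x) :
    (minpoly k x).natDegree = Module.finrank k (Algebra.adjoin k ({x} : Set A)) := by
  have h1 := finrank_span_eq_card (linearIndependent_pow (K := k) x)
  rw [span_pow_eq_adjoin x hx, Fintype.card_fin] at h1
  rw [← h1]
  rfl

end adjoin


section partIII

variable {R : Type*} [CommRing R] [IsLocalRing R] {A : Type*} [Ring A] [Algebra R A]

local notation "𝕜" => IsLocalRing.ResidueField R

theorem one_tmul_pow (ξ : A) (i : ℕ) :
    ((1 : 𝕜) ⊗ₜ[R] ξ) ^ i = (1 : 𝕜) ⊗ₜ[R] (ξ ^ i) := by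
  rw [Algebra.TensorProduct.tmul_pow, one_pow]

theorem main [IsAzumaya R A] (r : ℕ) (hA : Module.finrank R A = r ^ 2) (ξ : A)
    (hsep : Algebra.IsSeparable 𝕜 (Algebra.adjoin 𝕜 ({(1 : 𝕜) ⊗ₜ[R] ξ} : Set (𝕜 ⊗[R] A))))
    (hrk : Module.finrank 𝕜 (Algebra.adjoin 𝕜 ({(1 : 𝕜) ⊗ₜ[R] ξ} : Set (𝕜 ⊗[R] A))) = r) :
    LinearIndependent R (fun i : Fin r => ξ ^ (i : ℕ)) ∧
      ξ ^ r ∈ Submodule.span R (Set.range (fun i : Fin r => ξ ^ (i : ℕ))) := by
  classical
  set x : 𝕜 ⊗[R] A := (1 : 𝕜) ⊗ₜ[R] ξ with hxdef
  have hAz : IsAzumaya 𝕜 (𝕜 ⊗[R] A) := Groth.Agent.Lib.LeadAzumaya.isAzumaya_baseChange 𝕜 A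
  have hsimple : IsSimpleRing (𝕜 ⊗[R] A) :=
    Groth.Agent.Lib.LeadAzumaya.isSimpleRing_of_isAzumaya_field (k := 𝕜)
  have hfree : Module.Free R A := Module.free_of_flat_of_isLocalRing
  have hdim : Module.finrank 𝕜 (𝕜 ⊗[R] A) = r ^ 2 := by
    rw [Module.finrank_baseChange, hA]
  have hxint : IsIntegral 𝕜 x := Algebra.IsIntegral.isIntegral x
  have hdeg : (minpoly 𝕜 x).natDegree = r := by
    rw [natDegree_minpoly_eq_finrank_adjoin x hxint, hrk]
  have hsepx : (minpoly 𝕜 x).Separable := by
    let xB : Algebra.adjoin 𝕜 ({x} : Set (𝕜 ⊗[R] A)) := ⟨x, Algebra.subset_adjoin (Set.mem_singleton x)⟩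
    have h1 : IsSeparable 𝕜 xB := Algebra.IsSeparable.isSeparable 𝕜 xB
    have h2 := minpoly.algHom_eq (Algebra.adjoin 𝕜 ({x} : Set (𝕜 ⊗[R] A))).val
      Subtype.val_injective xB
    have h3 : (Algebra.adjoin 𝕜 ({x} : Set (𝕜 ⊗[R] A))).val xB = x := rfl
    rw [h3] at h2
    rw [h2]
    exact h1
  -- powers are linearly independent
  have hpowk : LinearIndependent 𝕜 (fun i : Fin r => x ^ (i : ℕ)) := by
    have := linearIndependent_pow (K := 𝕜) x
    rw [hdeg] at this
    exact this
  have hli : LinearIndependent R (fun i : Fin r => ξ ^ (i : ℕ)) := by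
    apply Module.IsLocalRing.linearIndependent_of_flat
    have : (TensorProduct.mk R 𝕜 A 1 ∘ fun i : Fin r => ξ ^ (i : ℕ)) =
        fun i : Fin r => x ^ (i : ℕ) := by
      ext i
      simp only [Function.comp_apply, TensorProduct.mk_apply, hxdef, one_tmul_pow]
    rw [this]
    exact hpowk
  refine ⟨hli, ?_⟩
  -- centralizer of `x`
  have hC : Module.finrank 𝕜 (LinearMap.ker (adMap 𝕜 x)) ≤ r :=
    finrank_ker_adMap_le r hdim x hsepx hdeg
  set V : Submodule 𝕜 (𝕜 ⊗[R] A) :=
    Submodule.span 𝕜 (Set.range (fun i : Fin r => x ^ (i : ℕ))) with hV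
  have hVle : V ≤ LinearMap.ker (adMap 𝕜 x) := by
    rw [hV, Submodule.span_le]
    rintro _ ⟨i, rfl⟩
    rw [SetLike.mem_coe, mem_ker_adMap]
    exact (pow_mul_comm' x i).symm
  have hVrank : Module.finrank 𝕜 V = r := by
    rw [hV, finrank_span_eq_card hpowk, Fintype.card_fin]
  have hVeq : V = LinearMap.ker (adMap 𝕜 x) :=
    Submodule.eq_of_le_of_finrank_le hVle (by rw [hVrank]; exact hC)
  obtain ⟨W, hW⟩ := Submodule.exists_isCompl V
  let s := Module.finrank 𝕜 W
  let bW : Module.Basis (Fin s) 𝕜 W := Module.finBasis 𝕜 W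
  let w : Fin s → 𝕜 ⊗[R] A := fun j => (bW j : 𝕜 ⊗[R] A)
  have hwli : LinearIndependent 𝕜 w :=
    bW.linearIndependent.map' W.subtype (Submodule.ker_subtype W)
  have hwspan : Submodule.span 𝕜 (Set.range w) = W := by
    have h1 : Set.range w = W.subtype '' (Set.range bW) := by
      rw [← Set.range_comp]
      rfl
    rw [h1, ← Submodule.map_span, bW.span_eq, Submodule.map_subtype_top]
  have hsurj := TensorProduct.mk_surjective R A 𝕜 Ideal.Quotient.mk_surjective
  choose y hy using fun j => hsurj (w j)
  let u : Fin r ⊕ Fin s → A := Sum.elim (fun i => ξ ^ (i : ℕ)) y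
  have hmku : (TensorProduct.mk R 𝕜 A 1 ∘ u) = Sum.elim (fun i : Fin r => x ^ (i : ℕ)) w := by
    ext (i | j)
    · simp only [Function.comp_apply, u, Sum.elim_inl, TensorProduct.mk_apply, hxdef, one_tmul_pow]
    · simp only [Function.comp_apply, u, Sum.elim_inr, hy]
  have hu'li : LinearIndependent 𝕜 (Sum.elim (fun i : Fin r => x ^ (i : ℕ)) w) :=
    hpowk.sum_type hwli (by rw [← hV, hwspan]; exact hW.disjoint)
  have hu'span :
      Submodule.span 𝕜 (Set.range (Sum.elim (fun i : Fin r => x ^ (i : ℕ)) w)) = ⊤ := by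
    rw [Set.Sum.elim_range, Submodule.span_union, ← hV, hwspan]
    exact hW.sup_eq_top
  have hbij : Function.Bijective (Finsupp.linearCombination R u) := by
    apply Module.IsLocalRing.linearCombination_bijective_of_flat
    rw [hmku]
    refine ⟨hu'li, ?_⟩
    rw [← LinearMap.range_eq_top, Finsupp.range_linearCombination, hu'span]
  have hTli : LinearIndependent R (fun j => adMap R ξ (y j)) := by
    apply Module.IsLocalRing.linearIndependent_of_flat
    have h1 : (TensorProduct.mk R 𝕜 A 1 ∘ fun j => adMap R ξ (y j)) = (adMap 𝕜 x) ∘ w := by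
      ext j
      simp only [Function.comp_apply, adMap_apply, ← hy j, TensorProduct.mk_apply, hxdef,
        Algebra.TensorProduct.tmul_mul_tmul, one_mul, TensorProduct.tmul_sub]
    rw [h1]
    apply hwli.map
    rw [hwspan, ← hVeq]
    exact hW.symm.disjoint
  obtain ⟨l, hl⟩ := hbij.2 (ξ ^ r)
  rw [Finsupp.linearCombination_apply, Finsupp.sum_fintype l (fun i a => a • u i) (fun i => zero_smul R (u i)),
    Fintype.sum_sum_type] at hl
  simp only [u, Sum.elim_inl, Sum.elim_inr] at hl
  have hcomm : ∀ i : ℕ, adMap R ξ (ξ ^ i) = 0 := by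
    intro i
    rw [adMap_apply, sub_eq_zero]
    exact (pow_mul_comm' ξ i).symm
  have hT := congrArg (adMap R ξ) hl
  rw [map_add, map_sum, map_sum, hcomm] at hT
  simp only [map_smul, hcomm, smul_zero, Finset.sum_const_zero, zero_add] at hT
  have hz := (Fintype.linearIndependent_iff.1 hTli) (fun j => l (Sum.inr j)) hT
  simp only [hz, zero_smul, Finset.sum_const_zero, add_zero] at hl
  rw [← hl]
  apply Submodule.sum_mem
  intro i _
  apply Submodule.smul_mem
  exact Submodule.subset_span ⟨i, rfl⟩

end partIII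

end Groth.Agent.Lib.T2H2.RegElt
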