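import Mathlib
import Groth.Agent.Lib.T2H2RegElt
import Groth.Agent.Lib.LeadCSA

namespace Groth.Agent.Lib.T2H2.MaxEtale

open Polynomial
open scoped TensorProduct

section sep

variable {k : Type*} [Field k] {A : Type*} [Ring A] [Algebra k A]

/-- over an algebraically closed field: if `x` has a separable minimal polynomial then so has
every polynomial expression in `x` -/
theorem separable_minpoly_aeval_of_isAlgClosed {K : Type*} [Field K] [IsAlgClosed K]
    {B : Type*} [Ring B] [Algebra K B] (x : B) (hx : IsIntegral K x)
    (hsep : (minpoly K x).Separable) (p : K[X]) :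
    (minpoly K (aeval x p)).Separable := by
  classical
  have hz : IsIntegral K (aeval x p) := by
    have : aeval x p ∈ Algebra.adjoin K ({x} : Set B) := by
      rw [Algebra.adjoin_singleton_eq_range_aeval]; exact ⟨p, rfl⟩
    exact IsIntegral.of_mem_of_fg _ (hx.fg_adjoin_singleton) _ this
  set m := minpoly K (aeval x p) with hm
  set g := minpoly K x with hg
  -- the radical of m
  set m' : K[X] := ∏ β ∈ m.roots.toFinset, (X - C β) with hm'
  have hm'sep : m'.Separable := by
    rw [hm']
    apply separable_prod'
    · intro a _ b _ hab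
      exact isCoprime_X_sub_C_of_isUnit_sub (sub_ne_zero.2 hab).isUnit
    · intro a _
      exact separable_X_sub_C
  -- g divides m' ∘ p
  have hgsplit : g.Splits := IsAlgClosed.splits g
  have hgprod : g = ∏ α ∈ g.roots.toFinset, (X - C α) := by
    have h1 := hgsplit.eq_prod_roots_of_monic (minpoly.monic hx)
    have h2 : g.roots.Nodup := nodup_roots hsep
    conv_lhs => rw [h1]
    rw [Finset.prod_multiset_map_count]
    apply Finset.prod_congr rfl
    intro α hα
    rw [Multiset.count_eq_one_of_mem h2 (Multiset.mem_toFinset.1 hα), pow_one]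
  have hdvd : g ∣ m'.comp p := by
    rw [hgprod]
    apply Finset.prod_dvd_of_coprime
    · intro a _ b _ hab
      exact isCoprime_X_sub_C_of_isUnit_sub (sub_ne_zero.2 hab).isUnit
    · intro α hα
      rw [dvd_iff_isRoot, IsRoot, eval_comp]
      have hα' : g.IsRoot α := (mem_roots'.1 (Multiset.mem_toFinset.1 hα)).2
      -- m (p α) = 0
      have h1 : g ∣ m.comp p := by
        apply minpoly.dvd
        rw [aeval_comp]
        exact minpoly.aeval K _
      have h2 : (m.comp p).IsRoot α := by
        obtain ⟨q, hq⟩ := h1
        rw [IsRoot, hq, eval_mul, hα', zero_mul]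
      rw [IsRoot, eval_comp] at h2
      have h3 : eval α p ∈ m.roots.toFinset := by
        rw [Multiset.mem_toFinset, mem_roots']
        exact ⟨minpoly.ne_zero hz, h2⟩
      rw [hm', eval_prod]
      exact Finset.prod_eq_zero h3 (by simp)
  have hann : aeval (aeval x p) m' = 0 := by
    rw [← aeval_comp]
    obtain ⟨q, hq⟩ := hdvd
    rw [hq, map_mul, minpoly.aeval, zero_mul]
  exact hm'sep.of_dvd (minpoly.dvd K _ hann)

/-- if `x` has a separable minimal polynomial then so has every polynomial expression in `x` -/
theorem separable_minpoly_aeval (x : A) (hsep : (minpoly k x).Separable) (p : k[X]) :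
    (minpoly k (aeval x p)).Separable := by
  have hx : IsIntegral k x := by
    by_contra h
    rw [minpoly.eq_zero h] at hsep
    exact not_separable_zero hsep
  have hz : IsIntegral k (aeval x p) := by
    have : aeval x p ∈ Algebra.adjoin k ({x} : Set A) := by
      rw [Algebra.adjoin_singleton_eq_range_aeval]; exact ⟨p, rfl⟩
    exact IsIntegral.of_mem_of_fg _ (hx.fg_adjoin_singleton) _ this
  set K := AlgebraicClosure k
  have h1 := Groth.Agent.Lib.T2H2.RegElt.minpoly_baseChange K x hx
  have h2 := Groth.Agent.Lib.T2H2.RegElt.minpoly_baseChange K (aeval x p) hz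
  have hx' : IsIntegral K ((1 : K) ⊗ₜ[k] x) := by
    refine ⟨(minpoly k x).map (algebraMap k K), (minpoly.monic hx).map _, ?_⟩
    rw [← h1]; exact minpoly.aeval K _
  have h3 : (1 : K) ⊗ₜ[k] (aeval x p) = aeval ((1 : K) ⊗ₜ[k] x) (p.map (algebraMap k K)) := by
    rw [Polynomial.aeval_map_algebraMap]
    have := Polynomial.aeval_algHom_apply
      (Algebra.TensorProduct.includeRight : A →ₐ[k] K ⊗[k] A) x p
    rw [Algebra.TensorProduct.includeRight_apply] at this
    rw [this]; rfl
  have h4 := separable_minpoly_aeval_of_isAlgClosed ((1 : K) ⊗ₜ[k] x) hx'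
    (by rw [h1]; exact hsep.map) (p.map (algebraMap k K))
  rw [← h3, h2] at h4
  exact (separable_map (algebraMap k K)).1 h4

/-- the subalgebra generated by an element with separable minimal polynomial is separable -/
theorem isSeparable_adjoin_singleton (x : A) (hsep : (minpoly k x).Separable) :
    Algebra.IsSeparable k (Algebra.adjoin k ({x} : Set A)) := by
  constructor
  rintro ⟨z, hz⟩
  have hz' := hz
  rw [Algebra.adjoin_singleton_eq_range_aeval] at hz'
  obtain ⟨p, hp⟩ := hz'
  unfold IsSeparable
  have := minpoly.algHom_eq (Algebra.adjoin k ({x} : Set A)).val Subtype.val_injective ⟨z, hz⟩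
  rw [← this]
  show (minpoly k z).Separable
  rw [← hp]
  exact separable_minpoly_aeval x hsep p

end sep



section fin

variable {k : Type*} [Field k]

/-- a finite division algebra which is central over `k` is `k` -/
theorem algebraMap_surjective_of_finite {D : Type*} [DivisionRing D] [Algebra k D]
    [Algebra.IsCentral k D] [Finite D] : Function.Surjective (algebraMap k D) := by
  intro d
  let _ : Field D := littleWedderburn D
  have hd : d ∈ Subalgebra.center k D := by
    rw [Subalgebra.mem_center_iff]
    intro b
    exact mul_comm b d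
  have := Algebra.IsCentral.out (K := k) hd
  rw [Algebra.mem_bot] at this
  exact this

/-- a field extension of degree `n` embeds into the `n × n` matrices over any `k`-algebra -/
theorem exists_algHom_matrix {F : Type*} [Field F] [Algebra k F] [FiniteDimensional k F]
    {D : Type*} [Ring D] [Nontrivial D] [Algebra k D] (n : ℕ) (hn : Module.finrank k F = n) :
    ∃ φ : F →ₐ[k] Matrix (Fin n) (Fin n) D, Function.Injective φ := by
  classical
  let b : Module.Basis (Fin n) k F := Module.finBasisOfFinrankEq k F hn
  let φ1 : F →ₐ[k] Module.End k F := Algebra.lmul k F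
  let φ2 : Module.End k F ≃ₐ[k] Matrix (Fin n) (Fin n) k := algEquivMatrix b
  let φ3 : Matrix (Fin n) (Fin n) k →ₐ[k] Matrix (Fin n) (Fin n) D := (Algebra.ofId k D).mapMatrix
  refine ⟨φ3.comp (φ2.toAlgHom.comp φ1), ?_⟩
  have h1 : Function.Injective φ1 := Algebra.lmul_injective
  have h3 : Function.Injective φ3 := by
    intro M N h
    ext i j
    have := congrFun (congrFun h i) j
    simp only [φ3, AlgHom.mapMatrix_apply, Matrix.map_apply] at this
    exact (algebraMap k D).injective this
  exact h3.comp (φ2.injective.comp h1)

theorem exists_separable_natDegree_of_finite [Finite k] (n : ℕ) [NeZero n]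
    {D : Type*} [Ring D] [Nontrivial D] [Algebra k D] :
    ∃ x : Matrix (Fin n) (Fin n) D, (minpoly k x).Separable ∧ (minpoly k x).natDegree = n := by
  obtain ⟨p, hp⟩ := CharP.exists k
  have : Fact p.Prime := ⟨CharP.char_is_prime k p⟩
  let F := FiniteField.Extension k p n
  have hF : Module.finrank k F = n := FiniteField.finrank_extension k p n
  obtain ⟨θ, hθ⟩ := Field.exists_primitive_element k F
  obtain ⟨φ, hφ⟩ := exists_algHom_matrix (k := k) (F := F) (D := D) n hF
  refine ⟨φ θ, ?_, ?_⟩
  · rw [minpoly.algHom_eq φ hφ θ]
    exact Algebra.IsSeparable.isSeparable k θ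
  · rw [minpoly.algHom_eq φ hφ θ]
    have hint : IsIntegral k θ := Algebra.IsIntegral.isIntegral θ
    rw [← IntermediateField.adjoin.finrank hint, hθ, IntermediateField.finrank_top', hF]

end fin



section shift

variable {k : Type*} [Field k]

theorem comp_shift_comp (f : k[X]) (a b : k) :
    (f.comp (X - C a)).comp (X + C b) = f.comp (X - C (a - b)) := by
  rw [comp_assoc]
  congr 1
  simp only [sub_comp, X_comp, C_comp, map_sub]
  ring

/-- the set of translations fixing a nonconstant polynomial is finite -/
theorem finite_shift_stabilizer (f : k[X]) (hf : f.natDegree ≠ 0) :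
    {δ : k | f.comp (X - C δ) = f}.Finite := by
  classical
  set K := AlgebraicClosure k
  have hdeg : (f.map (algebraMap k K)).degree ≠ 0 := by
    rw [degree_map]
    intro h
    exact hf (natDegree_eq_zero_iff_degree_le_zero.2 h.le)
  obtain ⟨α, hα⟩ := IsAlgClosed.exists_root (f.map (algebraMap k K)) hdeg
  have hf0 : f.map (algebraMap k K) ≠ 0 := by
    rw [Polynomial.map_ne_zero_iff (algebraMap k K).injective]
    intro h
    rw [h] at hf
    simp at hf
  refine Set.Finite.of_injOn (f := fun δ : k => α + algebraMap k K δ)
    (t := ((f.map (algebraMap k K)).roots.toFinset : Set K)) ?_ ?_ (Finset.finite_toSet _)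
  · intro δ hδ
    change f.comp (X - C δ) = f at hδ
    simp only [Finset.mem_coe, Multiset.mem_toFinset]
    rw [mem_roots hf0, IsRoot]
    have h1 : (f.map (algebraMap k K)).comp (X - C (algebraMap k K δ)) = f.map (algebraMap k K) := by
      conv_rhs => rw [← hδ]
      rw [Polynomial.map_comp]
      simp
    rw [← h1, eval_comp]
    simpa using hα
  · intro a _ b _ h
    simp only [add_right_inj] at h
    exact (algebraMap k K).injective h

/-- in an infinite field there is a sequence whose pairwise differences avoid a finite set -/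
theorem exists_seq_diff_notMem [Infinite k] (B : Set k) (hB : B.Finite) :
    ∃ c : ℕ → k, ∀ i j, i ≠ j → c i - c j ∉ B := by
  classical
  have h : ∀ s : Finset k, (∀ x ∈ s, True) →
      ∃ y, True ∧ ∀ x ∈ s, (x - y ∉ B ∧ y - x ∉ B) := by
    intro s _
    let bad : Finset k := s.biUnion (fun x => hB.toFinset.image (fun δ => x - δ) ∪
      hB.toFinset.image (fun δ => x + δ))
    obtain ⟨y, hy⟩ := Infinite.exists_notMem_finset bad
    refine ⟨y, trivial, fun x hx => ⟨fun h1 => hy ?_, fun h2 => hy ?_⟩⟩
    · simp only [bad, Finset.mem_biUnion, Finset.mem_union, Finset.mem_image,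
        Set.Finite.mem_toFinset]
      exact ⟨x, hx, Or.inl ⟨x - y, h1, by ring⟩⟩
    · simp only [bad, Finset.mem_biUnion, Finset.mem_union, Finset.mem_image,
        Set.Finite.mem_toFinset]
      exact ⟨x, hx, Or.inr ⟨y - x, h2, by ring⟩⟩
  obtain ⟨c, -, hc⟩ := exists_seq_of_forall_finset_exists (fun _ : k => True)
    (fun a b => a - b ∉ B ∧ b - a ∉ B) h
  refine ⟨c, fun i j hij => ?_⟩
  rcases lt_or_gt_of_ne hij with h1 | h1
  · exact (hc i j h1).1
  · exact (hc j i h1).2

end shift



section inf

variable {k : Type*} [Field k]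

theorem aeval_diagonal {D : Type*} [Ring D] [Algebra k D] {n : ℕ} (v : Fin n → D) (p : k[X]) :
    aeval (Matrix.diagonal v) p = Matrix.diagonal (fun i => aeval (v i) p) := by
  have h1 := Polynomial.aeval_algHom_apply (Matrix.diagonalAlgHom k (n := Fin n) (α := D)) v p
  have h2 : (Matrix.diagonalAlgHom k (n := Fin n) (α := D)) v = Matrix.diagonal v := rfl
  rw [h2] at h1
  rw [h1]
  show Matrix.diagonal (aeval v p) = _
  congr 1
  funext i
  have h3 := Polynomial.aeval_algHom_apply (Pi.evalAlgHom k (fun _ : Fin n => D) i) v p
  exact h3.symm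

variable {D : Type*} [DivisionRing D] [Algebra k D] [FiniteDimensional k D]
  [Algebra.IsCentral k D]

theorem exists_separable_natDegree_of_infinite [Infinite k] (n d : ℕ)
    (hd : Module.finrank k D = d ^ 2) :
    ∃ x : Matrix (Fin n) (Fin n) D, (minpoly k x).Separable ∧ (minpoly k x).natDegree = n * d := by
  classical
  obtain ⟨L, hcomm, hsep, hcent⟩ :=
    Groth.Agent.Lib.LeadCSA.exists_separable_self_centralizing (k := k) (D := D)
  let _ : Field L := Groth.Agent.Lib.LeadCSA.fieldOfComm L hcomm
  have hLd : Module.finrank k L = d := by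
    have h := Groth.Agent.Lib.LeadCSA.centralizer_finrank L
    rw [hcent, hd, ← pow_two] at h
    exact (Nat.pow_left_injective (n := 2) (by norm_num) h).symm
  obtain ⟨y, hy⟩ := Field.exists_primitive_element k L
  have hyint : IsIntegral k y := Algebra.IsIntegral.isIntegral y
  set f := minpoly k y with hf
  have hfdeg : f.natDegree = d := by
    rw [hf, ← IntermediateField.adjoin.finrank hyint, hy, IntermediateField.finrank_top', hLd]
  have hfmonic : f.Monic := minpoly.monic hyint
  by_cases hd0 : d = 0
  · exfalso
    have : 0 < Module.finrank k D := Module.finrank_pos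
    rw [hd, hd0] at this
    simp at this
  have hB := finite_shift_stabilizer f (by rw [hfdeg]; exact hd0)
  obtain ⟨c, hc⟩ := exists_seq_diff_notMem _ hB
  -- the elements
  let z : Fin n → L := fun i => y + algebraMap k L (c i)
  let v : Fin n → D := fun i => (z i : D)
  have hzint : ∀ i, IsIntegral k (z i) := fun i => Algebra.IsIntegral.isIntegral _
  have hminz : ∀ i, minpoly k (z i) = f.comp (X - C (c i)) := fun i =>
    minpoly.add_algebraMap y (c i)
  have hminv : ∀ i, minpoly k (v i) = f.comp (X - C (c i)) := by
    intro i
    rw [← hminz i]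
    exact minpoly.algHom_eq L.val Subtype.val_injective (z i)
  have hvint : ∀ i, IsIntegral k (v i) := fun i => (hzint i).map L.val
  let F : Fin n → k[X] := fun i => f.comp (X - C (c i))
  have hFirr : ∀ i, Irreducible (F i) := fun i => by
    show Irreducible (f.comp (X - C (c i)))
    rw [← hminz i]; exact minpoly.irreducible (hzint i)
  have hFmonic : ∀ i, (F i).Monic := fun i => by
    show (f.comp (X - C (c i))).Monic
    rw [← hminz i]; exact minpoly.monic (hzint i)
  have hFsep : ∀ i, (F i).Separable := fun i => by
    show (f.comp (X - C (c i))).Separable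
    rw [← hminz i]; exact Algebra.IsSeparable.isSeparable k (z i)
  have hFdeg : ∀ i, (F i).natDegree = d := fun i => by
    show (f.comp (X - C (c i))).natDegree = d
    rw [natDegree_comp, natDegree_X_sub_C, mul_one, hfdeg]
  have hFne : ∀ i j, i ≠ j → F i ≠ F j := by
    intro i j hij h
    have h1 : (f.comp (X - C (c i))).comp (X + C (c j)) =
        (f.comp (X - C (c j))).comp (X + C (c j)) := by
      show (F i).comp _ = (F j).comp _
      rw [h]
    rw [comp_shift_comp, comp_shift_comp, sub_self, map_zero, sub_zero, comp_X] at h1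
    exact hc i j (fun h' => hij (Fin.ext h')) h1
  have hFcop : ∀ i j, i ≠ j → IsCoprime (F i) (F j) := by
    intro i j hij
    rcases (hFirr i).isCoprime_or_dvd (F j) with h | h
    · exact h
    · exfalso
      apply hFne i j hij
      exact eq_of_monic_of_associated (hFmonic i) (hFmonic j)
        ((hFirr i).associated_of_dvd (hFirr j) h)
  set g : k[X] := ∏ i, F i with hg
  have hgmonic : g.Monic := monic_prod_of_monic _ _ (fun i _ => hFmonic i)
  have hgsep : g.Separable :=
    separable_prod' (fun i _ j _ hij => hFcop i j hij) (fun i _ => hFsep i)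
  have hgdeg : g.natDegree = n * d := by
    rw [hg, natDegree_prod_of_monic _ _ (fun i _ => hFmonic i)]
    simp [hFdeg]
  set x : Matrix (Fin n) (Fin n) D := Matrix.diagonal v with hx
  have hann : aeval x g = 0 := by
    rw [hx, aeval_diagonal]
    have : (fun i => aeval (v i) g) = 0 := by
      funext i
      have hdvd : F i ∣ g := Finset.dvd_prod_of_mem _ (Finset.mem_univ i)
      obtain ⟨q, hq⟩ := hdvd
      have h0 : aeval (v i) (F i) = 0 := by
        show aeval (v i) (f.comp (X - C (c i))) = 0
        rw [← hminv i]; exact minpoly.aeval k _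
      rw [hq, map_mul, h0, zero_mul]; rfl
    rw [this]; simp
  have hdvd : ∀ p : k[X], aeval x p = 0 → g ∣ p := by
    intro p hp
    rw [hx, aeval_diagonal] at hp
    apply Finset.prod_dvd_of_coprime
    · intro i _ j _ hij
      exact hFcop i j hij
    · intro i _
      have h1 : aeval (v i) p = 0 := by
        have := congrFun (congrFun hp i) i
        simpa using this
      show f.comp (X - C (c i)) ∣ p
      rw [← hminv i]
      exact minpoly.dvd k _ h1
  have hxint : IsIntegral k x := ⟨g, hgmonic, hann⟩
  have hmin : minpoly k x = g := by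
    apply eq_of_monic_of_associated (minpoly.monic hxint) hgmonic
    exact associated_of_dvd_dvd (minpoly.dvd k x hann) (hdvd _ (minpoly.aeval k x))
  exact ⟨x, by rw [hmin]; exact hgsep, by rw [hmin]; exact hgdeg⟩

end inf



section main

variable {k : Type*} [Field k] {A : Type*} [Ring A] [Algebra k A] [Algebra.IsCentral k A]
  [IsSimpleRing A] [FiniteDimensional k A]

/-- a central simple algebra of dimension `r ^ 2` contains an element whose minimal polynomial is
separable of degree `r` -/
theorem exists_separable_natDegree (r : ℕ) (hA : Module.finrank k A = r ^ 2) :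
    ∃ x : A, (minpoly k x).Separable ∧ (minpoly k x).natDegree = r := by
  classical
  have : IsArtinianRing A := IsArtinianRing.of_finite k A
  obtain ⟨n, hn, D, _, _, _, ⟨e⟩⟩ := IsSimpleRing.exists_algEquiv_matrix_divisionRing_finite k A
  have hcM : Algebra.IsCentral k (Matrix (Fin n) (Fin n) D) := Algebra.IsCentral.of_algEquiv k _ _ e
  have hcD : Algebra.IsCentral k D := Groth.Agent.Lib.LeadCSA.isCentral_of_matrix (n := n)
  obtain ⟨d, hd0, hd⟩ := Groth.Agent.Lib.LeadCSA.exists_finrank_eq_sq (k := k) (A := D)
  have hnd : n * d = r := by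
    have h1 : Module.finrank k A = Module.finrank k (Matrix (Fin n) (Fin n) D) :=
      LinearEquiv.finrank_eq e.toLinearEquiv
    rw [Module.finrank_matrix, hA, hd] at h1
    simp only [Fintype.card_fin] at h1
    have h2 : r ^ 2 = (n * d) ^ 2 := by rw [h1]; ring
    exact (Nat.pow_left_injective (n := 2) (by norm_num) h2).symm
  suffices h : ∃ X : Matrix (Fin n) (Fin n) D,
      (minpoly k X).Separable ∧ (minpoly k X).natDegree = r by
    obtain ⟨X, h1, h2⟩ := h
    refine ⟨e.symm X, ?_, ?_⟩
    · rw [minpoly.algEquiv_eq]; exact h1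
    · rw [minpoly.algEquiv_eq]; exact h2
  rcases finite_or_infinite k with hfin | hinf
  · have : Finite D := Module.finite_of_finite k
    have hsurj := algebraMap_surjective_of_finite (k := k) (D := D)
    have h1 : Module.finrank k D = 1 := by
      have e' : k ≃ₗ[k] D := LinearEquiv.ofBijective (Algebra.linearMap k D)
        ⟨(algebraMap k D).injective, hsurj⟩
      rw [← e'.finrank_eq, Module.finrank_self]
    have hd1 : d = 1 := by
      rw [hd] at h1
      exact Nat.eq_one_of_mul_eq_one_left (by rw [← pow_two]; exact h1)
    rw [hd1, mul_one] at hnd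
    rw [← hnd]
    exact exists_separable_natDegree_of_finite n
  · rw [← hnd]
    exact exists_separable_natDegree_of_infinite n d hd

/-- a central simple algebra of dimension `r ^ 2` contains an element generating an étale
subalgebra of dimension `r` -/
theorem exists_regular (r : ℕ) (hA : Module.finrank k A = r ^ 2) :
    ∃ x : A, Algebra.IsSeparable k (Algebra.adjoin k ({x} : Set A)) ∧
      Module.finrank k (Algebra.adjoin k ({x} : Set A)) = r := by
  obtain ⟨x, h1, h2⟩ := exists_separable_natDegree (k := k) (A := A) r hA
  refine ⟨x, isSeparable_adjoin_singleton x h1, ?_⟩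
  rw [← Groth.Agent.Lib.T2H2.RegElt.natDegree_minpoly_eq_finrank_adjoin x
    (Algebra.IsIntegral.isIntegral x), h2]

end main

end Groth.Agent.Lib.T2H2.MaxEtale
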