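import Mathlib
import Groth.Agent.Lib.T2H2MaxEtale
import Groth.Agent.Lib.Helper18Monogenic

namespace Groth.Agent.Lib.T2H2.MaxEtaleLocal

open Polynomial
open scoped TensorProduct

universe u

section lin

variable {k : Type*} [Field k] {V W ι : Type*} [AddCommGroup V] [Module k V] [AddCommGroup W]
  [Module k W]

/-- a linear map sending a basis to a linearly independent family is injective -/
theorem injective_of_basis_linearIndependent (b : Module.Basis ι k V) (f : V →ₗ[k] W)
    (h : LinearIndependent k (fun i => f (b i))) : Function.Injective f := by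
  have h1 : f = (Finsupp.linearCombination k (fun i => f (b i))).comp b.repr.toLinearMap := by
    apply b.ext
    intro i
    simp
  rw [h1]
  exact (Function.Injective.comp (g := Finsupp.linearCombination k (fun i => f (b i))) h
    b.repr.injective)

end lin

section main

variable (R : Type u) [CommRing R] [IsLocalRing R] (A : Type u) [Ring A] [Algebra R A]
  [IsAzumaya R A]

local notation "𝕜" => IsLocalRing.ResidueField R

/-- a monic polynomial `P` of degree `r`, separable mod the maximal ideal, and `ξ : A` with `P ξ = 0`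
such that the powers `1 ⊗ ξ ^ i`, `i < r`, are linearly independent in the special fibre -/
theorem exists_poly (r : ℕ) (hA : Module.finrank R A = r ^ 2) :
    ∃ (P : R[X]) (ξ : A), P.Monic ∧ P.natDegree = r ∧ P.Separable ∧ aeval ξ P = 0 ∧
      LinearIndependent 𝕜 (fun i : Fin r => (1 : 𝕜) ⊗ₜ[R] (ξ ^ (i : ℕ))) := by
  classical
  have hAz : IsAzumaya 𝕜 (𝕜 ⊗[R] A) := Groth.Agent.Lib.LeadAzumaya.isAzumaya_baseChange 𝕜 A
  have hsimple : IsSimpleRing (𝕜 ⊗[R] A) :=
    Groth.Agent.Lib.LeadAzumaya.isSimpleRing_of_isAzumaya_field (k := 𝕜)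
  have hfree : Module.Free R A := Module.free_of_flat_of_isLocalRing
  have hdim : Module.finrank 𝕜 (𝕜 ⊗[R] A) = r ^ 2 := by
    rw [Module.finrank_baseChange, hA]
  obtain ⟨x, hxsep, hxdeg⟩ :=
    Groth.Agent.Lib.T2H2.MaxEtale.exists_separable_natDegree (k := 𝕜) (A := 𝕜 ⊗[R] A) r hdim
  have hxint : IsIntegral 𝕜 x := Algebra.IsIntegral.isIntegral x
  have hsurj := TensorProduct.mk_surjective R A 𝕜 Ideal.Quotient.mk_surjective
  obtain ⟨ξ, hξ⟩ := hsurj x
  rw [TensorProduct.mk_apply] at hξ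
  have hsepA : Algebra.IsSeparable 𝕜
      (Algebra.adjoin 𝕜 ({(1 : 𝕜) ⊗ₜ[R] ξ} : Set (𝕜 ⊗[R] A))) := by
    rw [hξ]; exact Groth.Agent.Lib.T2H2.MaxEtale.isSeparable_adjoin_singleton x hxsep
  have hrk : Module.finrank 𝕜
      (Algebra.adjoin 𝕜 ({(1 : 𝕜) ⊗ₜ[R] ξ} : Set (𝕜 ⊗[R] A))) = r := by
    rw [hξ, ← Groth.Agent.Lib.T2H2.RegElt.natDegree_minpoly_eq_finrank_adjoin x hxint, hxdeg]
  obtain ⟨hli, hspan⟩ := Groth.Agent.Lib.T2H2.RegElt.main r hA ξ hsepA hrk
  rw [Submodule.mem_span_range_iff_exists_fun] at hspan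
  obtain ⟨l, hl⟩ := hspan
  set Q : R[X] := ∑ i : Fin r, C (l i) * X ^ (i : ℕ) with hQ
  have hQdeg : Q.degree < r := Polynomial.degree_sum_fin_lt l
  set P : R[X] := X ^ r - Q with hP
  have hPmonic : P.Monic := monic_X_pow_sub hQdeg
  have hPdeg : P.natDegree = r := by
    have h1 : (X ^ r - Q).degree = (X ^ r : R[X]).degree :=
      degree_sub_eq_left_of_degree_lt (by rw [degree_X_pow]; exact hQdeg)
    rw [degree_X_pow] at h1
    exact natDegree_eq_of_degree_eq_some h1
  have hPann : aeval ξ P = 0 := by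
    rw [hP, map_sub, map_pow, aeval_X, hQ, map_sum, ← hl, sub_eq_zero]
    apply Finset.sum_congr rfl
    intro i _
    rw [map_mul, aeval_C, map_pow, aeval_X, Algebra.smul_def]
  have hpowk : LinearIndependent 𝕜 (fun i : Fin r => x ^ (i : ℕ)) := by
    have := linearIndependent_pow (K := 𝕜) x
    rw [hxdeg] at this
    exact this
  have hpow : ∀ i : ℕ, (1 : 𝕜) ⊗ₜ[R] (ξ ^ i) = x ^ i := by
    intro i
    rw [← hξ, Algebra.TensorProduct.tmul_pow, one_pow]
  refine ⟨P, ξ, hPmonic, hPdeg, ?_, hPann, ?_⟩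
  · apply Groth.Agent.Lib.Helper18Monogenic.separable_of_map_residue hPmonic
    have h1 : aeval x (P.map (IsLocalRing.residue R)) = 0 := by
      have h2 : (IsLocalRing.residue R) = algebraMap R 𝕜 := rfl
      rw [h2, Polynomial.aeval_map_algebraMap]
      have := Polynomial.aeval_algHom_apply
        (Algebra.TensorProduct.includeRight : A →ₐ[R] 𝕜 ⊗[R] A) ξ P
      rw [Algebra.TensorProduct.includeRight_apply, hξ] at this
      rw [this, hPann, map_zero]
    have h3 : minpoly 𝕜 x = P.map (IsLocalRing.residue R) := by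
      symm
      apply eq_of_monic_of_dvd_of_natDegree_le (minpoly.monic hxint) (hPmonic.map _)
        (minpoly.dvd 𝕜 x h1)
      rw [hPmonic.natDegree_map, hPdeg, hxdeg]
    rw [← h3]
    exact hxsep
  · simp only [hpow]
    exact hpowk

omit [IsAzumaya R A] in
theorem exists_etale_of_poly (r : ℕ) (P : R[X]) (ξ : A) (hPm : P.Monic) (hPd : P.natDegree = r)
    (hPs : P.Separable) (hPa : aeval ξ P = 0)
    (hli : LinearIndependent 𝕜 (fun i : Fin r => (1 : 𝕜) ⊗ₜ[R] (ξ ^ (i : ℕ)))) :
    ∃ (E : Type u) (_ : CommRing E) (_ : Algebra R E), Algebra.Etale R E ∧ Module.Finite R E ∧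
      Module.Free R E ∧ Module.finrank R E = r ∧ ∃ u : E →ₐ[R] A,
        Function.Injective (u.toLinearMap.lTensor 𝕜) := by
  classical
  let pb : PowerBasis R (AdjoinRoot P) := AdjoinRoot.powerBasis' hPm
  have hdim : pb.dim = r := by rw [AdjoinRoot.powerBasis'_dim, hPd]
  have hfe : Algebra.FormallyEtale R (AdjoinRoot P) :=
    Groth.Agent.Lib.Helper18Monogenic.formallyEtale_of_separable P hPm hPs
  let u : AdjoinRoot P →ₐ[R] A := Ideal.Quotient.liftₐ (Ideal.span {P}) (aeval ξ) (by
    intro a ha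
    rw [Ideal.mem_span_singleton] at ha
    obtain ⟨q, rfl⟩ := ha
    rw [map_mul, hPa, zero_mul])
  have hu : ∀ p : R[X], u (AdjoinRoot.mk P p) = aeval ξ p := fun p => rfl
  refine ⟨AdjoinRoot P, inferInstance, inferInstance, ⟨hfe, inferInstance⟩, pb.finite,
    Module.Free.of_basis pb.basis, ?_, u, ?_⟩
  · rw [pb.finrank, hdim]
  · -- injectivity on the fibre
    let b : Module.Basis (Fin pb.dim) 𝕜 (𝕜 ⊗[R] AdjoinRoot P) := pb.basis.baseChange 𝕜
    have h1 : ⇑(u.toLinearMap.lTensor 𝕜) = ⇑(u.toLinearMap.baseChange 𝕜) := by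
      ext z; rfl
    rw [h1]
    apply injective_of_basis_linearIndependent b
    have h2 : (fun i => (u.toLinearMap.baseChange 𝕜) (b i)) =
        fun i : Fin pb.dim => (1 : 𝕜) ⊗ₜ[R] (ξ ^ (i : ℕ)) := by
      funext i
      simp only [b, Module.Basis.baseChange_apply, LinearMap.baseChange_tmul,
        AlgHom.toLinearMap_apply, PowerBasis.coe_basis, map_pow]
      congr 2
      show u (AdjoinRoot.root P) = ξ
      rw [AdjoinRoot.root, hu, aeval_X]
    rw [h2]
    have h3 := (linearIndependent_equiv (finCongr hdim)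
      (f := fun i : Fin r => (1 : 𝕜) ⊗ₜ[R] (ξ ^ (i : ℕ)))).2 hli
    exact h3

/-- an Azumaya algebra of rank `r ^ 2` over a local ring has a maximal étale subalgebra -/
theorem exists_maximal_etale (r : ℕ) (hA : Module.finrank R A = r ^ 2) :
    ∃ (E : Type u) (_ : CommRing E) (_ : Algebra R E), Algebra.Etale R E ∧ Module.Finite R E ∧
      Module.Free R E ∧ Module.finrank R E = r ∧ ∃ u : E →ₐ[R] A,
        Function.Injective (u.toLinearMap.lTensor 𝕜) := by
  obtain ⟨P, ξ, hPm, hPd, hPs, hPa, hli⟩ := exists_poly R A r hA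
  exact exists_etale_of_poly R A r P ξ hPm hPd hPs hPa hli

end main

end Groth.Agent.Lib.T2H2.MaxEtaleLocal
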