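import Mathlib
import Groth.Agent.Lib.T2H2MaxEtaleFree
import Groth.Agent.Lib.T2H2MaxEtaleLocal
import Groth.Agent.Lib.Helper7AzFib

/-!
# Splitting an Azumaya algebra by a finite étale cover near a prime

Global version (over a neighbourhood `D(f)` of a prime `p`) of the splitting of an Azumaya algebra by
a maximal étale subalgebra: local data at `p` with global elements, spreading out, and the comparison
map `E ⊗ A → End_E A`.
-/

namespace Groth.Agent.Lib.T2H2.AzSplitNear

open Polynomial
open scoped TensorProduct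
open Groth.Agent.Lib.T2H2.MaxEtaleFree

universe u



section gsplit

variable {S : Type*} [CommRing S] {A : Type*} [Ring A] [Algebra S A]
  {E : Type*} [CommRing E] [Algebra S E] (u : E →ₐ[S] A) [Module E A] [IsScalarTower S E A]
  (hmod : ∀ (e : E) (a : A), e • a = a * u e)

/-- the comparison map `E ⊗ A → End_E A` -/
noncomputable def gsplitHom : E ⊗[S] A →ₐ[E] Module.End E A :=
  Algebra.TensorProduct.lift (Algebra.ofId E (Module.End E A)) (leftMul u hmod)
    (fun e _ => Algebra.commutes e _)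

theorem gsplitHom_tmul_apply (e : E) (a y : A) :
    gsplitHom u hmod (e ⊗ₜ[S] a) y = a * y * u e := by
  rw [gsplitHom, Algebra.TensorProduct.lift_tmul, Module.End.mul_apply, leftMul_apply,
    Algebra.ofId_apply, Module.algebraMap_end_apply, hmod]

variable [IsAzumaya S A]

/-- a retraction of the comparison map -/
noncomputable def gsplitRetr (ρ : A →ₗ[S] E) : Module.End E A →ₗ[S] E ⊗[S] A :=
  ((TensorProduct.comm S A E).toLinearMap ∘ₗ
    (TensorProduct.map LinearMap.id (ρ ∘ₗ (MulOpposite.opLinearEquiv S).symm.toLinearMap)) ∘ₗ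
    (AlgEquiv.ofBijective (AlgHom.mulLeftRight S A) IsAzumaya.bij).symm.toLinearEquiv.toLinearMap) ∘ₗ
  ({ toFun := fun T => T.restrictScalars S
     map_add' := fun _ _ => rfl
     map_smul' := fun _ _ => rfl } : Module.End E A →ₗ[S] Module.End S A)

theorem gsplitRetr_gsplitHom (ρ : A →ₗ[S] E) (hρ : ∀ e, ρ (u e) = e) (z : E ⊗[S] A) :
    gsplitRetr (E := E) ρ (gsplitHom u hmod z) = z := by
  induction z using TensorProduct.induction_on with
  | zero => simp
  | add x y hx hy => rw [map_add, map_add, hx, hy]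
  | tmul e a =>
    have h1 : (gsplitHom u hmod (e ⊗ₜ[S] a)).restrictScalars S =
        AlgHom.mulLeftRight S A (a ⊗ₜ[S] MulOpposite.op (u e)) := by
      ext y
      simp [gsplitHom_tmul_apply]
    simp only [gsplitRetr, LinearMap.coe_comp, Function.comp_apply, LinearMap.coe_mk, AddHom.coe_mk]
    rw [h1]
    have h2 : (AlgEquiv.ofBijective (AlgHom.mulLeftRight S A) IsAzumaya.bij).symm.toLinearEquiv.toLinearMap
        (AlgHom.mulLeftRight S A (a ⊗ₜ[S] MulOpposite.op (u e))) = a ⊗ₜ[S] MulOpposite.op (u e) := by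
      exact (AlgEquiv.ofBijective (AlgHom.mulLeftRight S A) IsAzumaya.bij).symm_apply_apply _
    rw [h2]
    simp [hρ]

omit [IsScalarTower S E A] [IsAzumaya S A] in
include hmod in
/-- `1` is unimodular in the free `E`-module `A`: existence of an `E`-linear retraction of `u` -/
theorem exists_retraction {r : ℕ} (hr : 0 < r) (b : Module.Basis (Fin r) E A) :
    ∃ ρ : A →ₗ[E] E, ∀ e, ρ (u e) = e := by
  classical
  let w : Fin r → E := fun i => b.repr 1 i
  have h1 : (1 : A) = ∑ i, w i • b i := (b.sum_repr 1).symm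
  have hI : Ideal.span (Set.range w) = ⊤ := by
    by_contra hne
    obtain ⟨𝔫, h𝔫, hle⟩ := Ideal.exists_le_maximal _ hne
    have hw : ∀ i, w i ∈ 𝔫 := fun i => hle (Ideal.subset_span ⟨i, rfl⟩)
    -- every element lies in `𝔫 • ⊤`
    have hall : ∀ a : A, ∀ i, b.repr a i ∈ 𝔫 := by
      intro a i
      have h2 : a = ∑ j, w j • (a * b j) := by
        conv_lhs => rw [← mul_one a, h1, Finset.mul_sum]
        apply Finset.sum_congr rfl
        intro j _
        rw [hmod, hmod, mul_assoc]
      rw [h2, map_sum, Finsupp.coe_finsetSum, Finset.sum_apply]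
      apply Ideal.sum_mem
      intro j _
      rw [map_smul, Finsupp.smul_apply, smul_eq_mul]
      exact 𝔫.mul_mem_right _ (hw j)
    have h3 := hall (b ⟨0, hr⟩) ⟨0, hr⟩
    rw [b.repr_self, Finsupp.single_eq_same] at h3
    exact h𝔫.ne_top ((Ideal.eq_top_iff_one _).2 h3)
  have h4 : (1 : E) ∈ Ideal.span (Set.range w) := by rw [hI]; trivial
  rw [Ideal.mem_span_range_iff_exists_fun] at h4
  obtain ⟨μ, hμ⟩ := h4
  let ρ : A →ₗ[E] E := ∑ i, μ i • ((Finsupp.lapply i : (Fin r →₀ E) →ₗ[E] E) ∘ₗ b.repr.toLinearMap)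
  refine ⟨ρ, fun e => ?_⟩
  have h5 : u e = e • (1 : A) := by rw [hmod, one_mul]
  rw [h5, map_smul]
  have h6 : ρ 1 = 1 := by
    simp only [ρ, LinearMap.sum_apply, LinearMap.smul_apply, LinearMap.coe_comp, Function.comp_apply,
      LinearEquiv.coe_coe, Finsupp.lapply_apply, smul_eq_mul]
    exact hμ
  rw [h6, smul_eq_mul, mul_one]


include hmod in
theorem gsplitHom_bijective {r : ℕ} (hr : 0 < r) (b : Module.Basis (Fin r) E A)
    (ε : Module.Basis (Fin r) S E) : Function.Bijective (gsplitHom u hmod) := by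
  classical
  obtain ⟨ρE, hρ⟩ := exists_retraction u hmod hr b
  let ρ : A →ₗ[S] E := ρE.restrictScalars S
  have hρ' : ∀ e, ρ (u e) = e := hρ
  have : Module.Finite S E := Module.Finite.of_basis ε
  let B1 : Module.Basis (Fin r × Fin r) E (Matrix (Fin r) (Fin r) E) :=
    Matrix.stdBasis E (Fin r) (Fin r)
  let B2 : Module.Basis (Fin r × Fin r) E (E ⊗[S] A) := (ε.smulTower b).baseChange E
  let θE : Module.End E A ≃ₗ[E] E ⊗[S] A :=
    (algEquivMatrix b).toLinearEquiv.trans (B1.equiv B2 (Equiv.refl _))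
  let θ : Module.End E A ≃ₗ[S] E ⊗[S] A := θE.restrictScalars S
  have hsurj : Function.Surjective (gsplitRetr (E := E) ρ) :=
    fun z => ⟨gsplitHom u hmod z, gsplitRetr_gsplitHom u hmod ρ hρ' z⟩
  have hinj : Function.Injective (gsplitRetr (E := E) ρ) :=
    OrzechProperty.injective_of_surjective_of_injective θ.toLinearMap _ θ.injective hsurj
  constructor
  · intro x y hxy
    have := congrArg (gsplitRetr (E := E) ρ) hxy
    rwa [gsplitRetr_gsplitHom u hmod ρ hρ', gsplitRetr_gsplitHom u hmod ρ hρ'] at this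
  · intro T
    refine ⟨gsplitRetr (E := E) ρ T, hinj ?_⟩
    rw [gsplitRetr_gsplitHom u hmod ρ hρ']

include hmod in
/-- the resulting splitting -/
theorem nonempty_algEquiv_matrix {r : ℕ} (hr : 0 < r) (b : Module.Basis (Fin r) E A)
    (ε : Module.Basis (Fin r) S E) :
    Nonempty ((E ⊗[S] A) ≃ₐ[E] Matrix (Fin r) (Fin r) E) := by
  classical
  exact ⟨(AlgEquiv.ofBijective (gsplitHom u hmod) (gsplitHom_bijective u hmod hr b ε)).trans
    (algEquivMatrix b)⟩

end gsplit





section scale

variable {k : Type*} [Field k] {B : Type*} [Ring B] [Algebra k B]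

theorem adjoin_smul_singleton (x : B) (c : k) (hc : c ≠ 0) :
    Algebra.adjoin k ({c • x} : Set B) = Algebra.adjoin k ({x} : Set B) := by
  apply le_antisymm
  · apply Algebra.adjoin_le
    intro y hy
    rw [Set.mem_singleton_iff] at hy
    rw [hy]
    exact Subalgebra.smul_mem _ (Algebra.subset_adjoin (Set.mem_singleton x)) c
  · apply Algebra.adjoin_le
    intro y hy
    rw [Set.mem_singleton_iff] at hy
    rw [hy]
    have h2 := Subalgebra.smul_mem (Algebra.adjoin k ({c • x} : Set B))
      (Algebra.subset_adjoin (Set.mem_singleton (c • x))) c⁻¹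
    rwa [smul_smul, inv_mul_cancel₀ hc, one_smul] at h2

theorem separable_minpoly_smul (x : B) (hsep : (minpoly k x).Separable) (c : k) :
    (minpoly k (c • x)).Separable := by
  have := Groth.Agent.Lib.T2H2.MaxEtale.separable_minpoly_aeval x hsep (C c * X)
  rwa [map_mul, aeval_C, aeval_X, ← Algebra.smul_def] at this

theorem natDegree_minpoly_smul (x : B) (hx : IsIntegral k x) (c : k) (hc : c ≠ 0) :
    (minpoly k (c • x)).natDegree = (minpoly k x).natDegree := by
  have hx' : IsIntegral k (c • x) := hx.smul c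
  rw [Groth.Agent.Lib.T2H2.RegElt.natDegree_minpoly_eq_finrank_adjoin x hx,
    Groth.Agent.Lib.T2H2.RegElt.natDegree_minpoly_eq_finrank_adjoin (c • x) hx',
    adjoin_smul_singleton x c hc]

end scale

section loc

variable (R : Type u) [CommRing R] [IsLocalRing R] (A : Type u) [Ring A] [Algebra R A]
  [IsAzumaya R A]

local notation "𝕜" => IsLocalRing.ResidueField R

theorem exists_finrank_eq_sq_local : ∃ r : ℕ, 0 < r ∧ Module.finrank R A = r ^ 2 := by
  have hAz : IsAzumaya 𝕜 (𝕜 ⊗[R] A) := Groth.Agent.Lib.LeadAzumaya.isAzumaya_baseChange 𝕜 A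
  have hsimple : IsSimpleRing (𝕜 ⊗[R] A) :=
    Groth.Agent.Lib.LeadAzumaya.isSimpleRing_of_isAzumaya_field (k := 𝕜)
  have hfree : Module.Free R A := Module.free_of_flat_of_isLocalRing
  obtain ⟨n, hn, h⟩ := Groth.Agent.Lib.LeadCSA.exists_finrank_eq_sq (k := 𝕜) (A := 𝕜 ⊗[R] A)
  rw [Module.finrank_baseChange] at h
  exact ⟨n, Nat.pos_of_ne_zero hn, h⟩

/-- variant of `exists_poly` with a prescribed element -/
theorem exists_poly_of_elt (r : ℕ) (hA : Module.finrank R A = r ^ 2) (ξ : A)
    (hsep : (minpoly 𝕜 ((1 : 𝕜) ⊗ₜ[R] ξ)).Separable)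
    (hdeg : (minpoly 𝕜 ((1 : 𝕜) ⊗ₜ[R] ξ)).natDegree = r) :
    ∃ P : R[X], P.Monic ∧ P.natDegree = r ∧ P.Separable ∧ aeval ξ P = 0 ∧
      LinearIndependent 𝕜 (fun i : Fin r => (1 : 𝕜) ⊗ₜ[R] (ξ ^ (i : ℕ))) := by
  classical
  have hAz : IsAzumaya 𝕜 (𝕜 ⊗[R] A) := Groth.Agent.Lib.LeadAzumaya.isAzumaya_baseChange 𝕜 A
  have hsimple : IsSimpleRing (𝕜 ⊗[R] A) :=
    Groth.Agent.Lib.LeadAzumaya.isSimpleRing_of_isAzumaya_field (k := 𝕜)
  have hfree : Module.Free R A := Module.free_of_flat_of_isLocalRing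
  set x : 𝕜 ⊗[R] A := (1 : 𝕜) ⊗ₜ[R] ξ with hx
  have hxint : IsIntegral 𝕜 x := Algebra.IsIntegral.isIntegral x
  have hsepA : Algebra.IsSeparable 𝕜
      (Algebra.adjoin 𝕜 ({x} : Set (𝕜 ⊗[R] A))) :=
    Groth.Agent.Lib.T2H2.MaxEtale.isSeparable_adjoin_singleton x hsep
  have hrk : Module.finrank 𝕜
      (Algebra.adjoin 𝕜 ({x} : Set (𝕜 ⊗[R] A))) = r := by
    rw [← Groth.Agent.Lib.T2H2.RegElt.natDegree_minpoly_eq_finrank_adjoin x hxint, hdeg]
  obtain ⟨hli, hspan⟩ := Groth.Agent.Lib.T2H2.RegElt.main r hA ξ hsepA hrk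
  rw [Submodule.mem_span_range_iff_exists_fun] at hspan
  obtain ⟨l, hl⟩ := hspan
  set Q : R[X] := ∑ i : Fin r, C (l i) * X ^ (i : ℕ) with hQ
  have hQdeg : Q.degree < r := Polynomial.degree_sum_fin_lt l
  set P : R[X] := X ^ r - Q with hP
  have hPmonic : P.Monic := monic_X_pow_sub hQdeg
  have hPdeg : P.natDegree = r := by
    have h1 : (X ^ r - Q).degree = (X ^ r : R[X]).degree :=
      degree_sub_eq_left_of_degree_lt (by rw [degree_X_pow]; exact hQdeg)
    rw [degree_X_pow] at h1
    exact natDegree_eq_of_degree_eq_some h1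
  have hPann : aeval ξ P = 0 := by
    rw [hP, map_sub, map_pow, aeval_X, hQ, map_sum, ← hl, sub_eq_zero]
    apply Finset.sum_congr rfl
    intro i _
    rw [map_mul, aeval_C, map_pow, aeval_X, Algebra.smul_def]
  have hpowk : LinearIndependent 𝕜 (fun i : Fin r => x ^ (i : ℕ)) := by
    have := linearIndependent_pow (K := 𝕜) x
    rw [hdeg] at this
    exact this
  have hpow : ∀ i : ℕ, (1 : 𝕜) ⊗ₜ[R] (ξ ^ i) = x ^ i := by
    intro i
    rw [hx, Algebra.TensorProduct.tmul_pow, one_pow]
  refine ⟨P, hPmonic, hPdeg, ?_, hPann, ?_⟩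
  · apply Groth.Agent.Lib.Helper18Monogenic.separable_of_map_residue hPmonic
    have h1 : aeval x (P.map (IsLocalRing.residue R)) = 0 := by
      have h2 : (IsLocalRing.residue R) = algebraMap R 𝕜 := rfl
      rw [h2, Polynomial.aeval_map_algebraMap]
      have := Polynomial.aeval_algHom_apply
        (Algebra.TensorProduct.includeRight : A →ₐ[R] 𝕜 ⊗[R] A) ξ P
      rw [Algebra.TensorProduct.includeRight_apply] at this
      rw [hx, this, hPann, map_zero]
    have h3 : minpoly 𝕜 x = P.map (IsLocalRing.residue R) := by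
      symm
      apply eq_of_monic_of_dvd_of_natDegree_le (minpoly.monic hxint) (hPmonic.map _)
        (minpoly.dvd 𝕜 x h1)
      rw [hPmonic.natDegree_map, hPdeg, hdeg]
    rw [← h3]
    exact hsep
  · simp only [hpow]
    exact hpowk

end loc


section adj

variable {R : Type*} [CommRing R] {A : Type*} [Ring A] [Algebra R A]
  (P : R[X]) (ξ : A) (hPa : aeval ξ P = 0)

/-- the map `R[X]/(P) → A`, `X ↦ ξ` -/
noncomputable def rootHom : AdjoinRoot P →ₐ[R] A :=
  Ideal.Quotient.liftₐ (Ideal.span {P}) (aeval ξ) (by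
    intro a ha
    rw [Ideal.mem_span_singleton] at ha
    obtain ⟨q, rfl⟩ := ha
    rw [map_mul, hPa, zero_mul])

theorem rootHom_mk (q : R[X]) : rootHom P ξ hPa (AdjoinRoot.mk P q) = aeval ξ q := rfl

theorem rootHom_root : rootHom P ξ hPa (AdjoinRoot.root P) = ξ := by
  rw [AdjoinRoot.root, rootHom_mk, aeval_X]

theorem rootHom_comm (x y : AdjoinRoot P) : Commute (rootHom P ξ hPa x) (rootHom P ξ hPa y) := by
  show rootHom P ξ hPa x * rootHom P ξ hPa y = rootHom P ξ hPa y * rootHom P ξ hPa x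
  rw [← map_mul, ← map_mul, mul_comm]

/-- `A` as a module over `R[X]/(P)` by right multiplication -/
@[reducible] noncomputable def rootModule : Module (AdjoinRoot P) A :=
  Module.compHom A ((rootHom P ξ hPa).toRingHom.toOpposite (rootHom_comm P ξ hPa))

end adj

section loc2

variable (R : Type u) [CommRing R] [IsLocalRing R] (A : Type u) [Ring A] [Algebra R A]

local notation "𝕜" => IsLocalRing.ResidueField R

theorem rootHom_injective_fibre (r : ℕ) (P : R[X]) (ξ : A) (hPm : P.Monic) (hPd : P.natDegree = r)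
    (hPa : aeval ξ P = 0)
    (hli : LinearIndependent 𝕜 (fun i : Fin r => (1 : 𝕜) ⊗ₜ[R] (ξ ^ (i : ℕ)))) :
    Function.Injective ((rootHom P ξ hPa).toLinearMap.lTensor 𝕜) := by
  classical
  let pb : PowerBasis R (AdjoinRoot P) := AdjoinRoot.powerBasis' hPm
  have hdim : pb.dim = r := by rw [AdjoinRoot.powerBasis'_dim, hPd]
  let b : Module.Basis (Fin pb.dim) 𝕜 (𝕜 ⊗[R] AdjoinRoot P) := pb.basis.baseChange 𝕜
  have h1 : ⇑((rootHom P ξ hPa).toLinearMap.lTensor 𝕜) =
      ⇑((rootHom P ξ hPa).toLinearMap.baseChange 𝕜) := by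
    ext z; rfl
  rw [h1]
  apply Groth.Agent.Lib.T2H2.MaxEtaleLocal.injective_of_basis_linearIndependent b
  have h2 : (fun i => ((rootHom P ξ hPa).toLinearMap.baseChange 𝕜) (b i)) =
      fun i : Fin pb.dim => (1 : 𝕜) ⊗ₜ[R] (ξ ^ (i : ℕ)) := by
    funext i
    simp only [b, Module.Basis.baseChange_apply, LinearMap.baseChange_tmul,
      AlgHom.toLinearMap_apply, PowerBasis.coe_basis, map_pow]
    congr 2
    show rootHom P ξ hPa (AdjoinRoot.root P) = ξ
    exact rootHom_root P ξ hPa
  rw [h2]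
  have h3 := (linearIndependent_equiv (finCongr hdim)
    (f := fun i : Fin r => (1 : 𝕜) ⊗ₜ[R] (ξ ^ (i : ℕ)))).2 hli
  exact h3

variable [IsAzumaya R A]

/-- local splitting data, with the elements taken from a prescribed set `T` containing a unit
multiple of every element -/
theorem exists_local_data_aux (T : Set A) (hT : ∀ y : A, ∃ s : R, IsUnit s ∧ s • y ∈ T) :
    ∃ (r : ℕ) (_ : 0 < r) (ξ : A) (c : Fin r → A) (P : R[X]), ξ ∈ T ∧ (∀ i, c i ∈ T) ∧
      P.Monic ∧ P.natDegree = r ∧ P.Separable ∧ aeval ξ P = 0 ∧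
      Function.Bijective (Finsupp.linearCombination R
        (fun q : Fin r × Fin r => c q.2 * ξ ^ (q.1 : ℕ))) := by
  classical
  obtain ⟨r, hr, hA⟩ := exists_finrank_eq_sq_local R A
  have hAz : IsAzumaya 𝕜 (𝕜 ⊗[R] A) := Groth.Agent.Lib.LeadAzumaya.isAzumaya_baseChange 𝕜 A
  have hsimple : IsSimpleRing (𝕜 ⊗[R] A) :=
    Groth.Agent.Lib.LeadAzumaya.isSimpleRing_of_isAzumaya_field (k := 𝕜)
  have hfree : Module.Free R A := Module.free_of_flat_of_isLocalRing
  have hdim : Module.finrank 𝕜 (𝕜 ⊗[R] A) = r ^ 2 := by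
    rw [Module.finrank_baseChange, hA]
  obtain ⟨x, hxsep, hxdeg⟩ :=
    Groth.Agent.Lib.T2H2.MaxEtale.exists_separable_natDegree (k := 𝕜) (A := 𝕜 ⊗[R] A) r hdim
  have hxint : IsIntegral 𝕜 x := Algebra.IsIntegral.isIntegral x
  have hsurj := TensorProduct.mk_surjective R A 𝕜 Ideal.Quotient.mk_surjective
  obtain ⟨y, hy⟩ := hsurj x
  rw [TensorProduct.mk_apply] at hy
  obtain ⟨s, hs, hsy⟩ := hT y
  set ξ : A := s • y with hξ
  have hres : IsLocalRing.residue R s ≠ 0 := by
    rw [Ne, IsLocalRing.residue_eq_zero_iff]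
    exact fun h => (IsLocalRing.mem_maximalIdeal _).1 h hs
  have h1ξ : (1 : 𝕜) ⊗ₜ[R] ξ = IsLocalRing.residue R s • x := by
    rw [hξ, ← hy, TensorProduct.tmul_smul, TensorProduct.smul_tmul', TensorProduct.smul_tmul',
      smul_eq_mul, mul_one, Algebra.smul_def, mul_one]
    rfl
  have hsep : (minpoly 𝕜 ((1 : 𝕜) ⊗ₜ[R] ξ)).Separable := by
    rw [h1ξ]; exact separable_minpoly_smul x hxsep _
  have hdeg : (minpoly 𝕜 ((1 : 𝕜) ⊗ₜ[R] ξ)).natDegree = r := by
    rw [h1ξ, natDegree_minpoly_smul x hxint _ hres, hxdeg]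
  obtain ⟨P, hPm, hPd, hPs, hPa, hli⟩ := exists_poly_of_elt R A r hA ξ hsep hdeg
  have hinj := rootHom_injective_fibre R A r P ξ hPm hPd hPa hli
  let pb : PowerBasis R (AdjoinRoot P) := AdjoinRoot.powerBasis' hPm
  have hpbdim : pb.dim = r := by rw [AdjoinRoot.powerBasis'_dim, hPd]
  have hfe : Algebra.FormallyEtale R (AdjoinRoot P) :=
    Groth.Agent.Lib.Helper18Monogenic.formallyEtale_of_separable P hPm hPs
  have het : Algebra.Etale R (AdjoinRoot P) := ⟨hfe, inferInstance⟩
  have hfin : Module.Finite R (AdjoinRoot P) := pb.finite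
  have hfr : Module.Free R (AdjoinRoot P) := Module.Free.of_basis pb.basis
  have hE : Module.finrank R (AdjoinRoot P) = r := by rw [pb.finrank, hpbdim]
  let _ : Module (AdjoinRoot P) A := rootModule P ξ hPa
  have hmod : ∀ (e : AdjoinRoot P) (a : A), e • a = a * rootHom P ξ hPa e := fun e a => rfl
  have hst : IsScalarTower R (AdjoinRoot P) A := isScalarTower_of_hmod R A (AdjoinRoot P) (rootHom P ξ hPa) hmod
  obtain ⟨b⟩ := nonempty_basis R A (AdjoinRoot P) (rootHom P ξ hPa) hmod hinj r hA hE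
  choose t ht htb using fun i => hT (b i)
  let b' : Module.Basis (Fin r) (AdjoinRoot P) A :=
    b.isUnitSMul (w := fun i => algebraMap R (AdjoinRoot P) (t i)) (fun i => (ht i).map _)
  have hb' : ∀ i, b' i = t i • b i := by
    intro i
    rw [Module.Basis.isUnitSMul_apply, algebraMap_smul]
  let ε : Module.Basis (Fin r) R (AdjoinRoot P) := pb.basis.reindex (finCongr hpbdim)
  have hε : ∀ j : Fin r, ε j = AdjoinRoot.root P ^ (j : ℕ) := by
    intro j
    simp [ε, pb]
  let B : Module.Basis (Fin r × Fin r) R A := ε.smulTower b'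
  refine ⟨r, hr, ξ, fun i => t i • b i, P, hsy, htb, hPm, hPd, hPs, hPa, ?_⟩
  have hB : (fun q : Fin r × Fin r => (t q.2 • b q.2) * ξ ^ (q.1 : ℕ)) = B := by
    funext q
    simp only [B, Module.Basis.smulTower_apply, hmod, hε, map_pow, rootHom_root, hb']
  rw [hB, ← Module.Basis.coe_repr_symm]
  exact B.repr.symm.bijective

end loc2


section glob

variable (R : Type u) [CommRing R] (A : Type u) [Ring A] [Algebra R A] [IsAzumaya R A]
  (p : Ideal R) [p.IsPrime]

/-- local splitting data at a prime, with global elements -/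
theorem exists_local_data :
    ∃ (r : ℕ) (_ : 0 < r) (ξ : A) (c : Fin r → A) (P : (Localization.AtPrime p)[X]),
      P.Monic ∧ P.natDegree = r ∧ P.Separable ∧
      aeval ((1 : Localization.AtPrime p) ⊗ₜ[R] ξ) P = 0 ∧
      Function.Bijective (Finsupp.linearCombination (Localization.AtPrime p)
        (fun q : Fin r × Fin r =>
          (1 : Localization.AtPrime p) ⊗ₜ[R] (c q.2 * ξ ^ (q.1 : ℕ)))) := by
  classical
  have hAz : IsAzumaya (Localization.AtPrime p) (Localization.AtPrime p ⊗[R] A) :=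
    Groth.Agent.Lib.LeadAzumaya.isAzumaya_baseChange (Localization.AtPrime p) A
  let T : Set (Localization.AtPrime p ⊗[R] A) :=
    Set.range (fun a : A => (1 : Localization.AtPrime p) ⊗ₜ[R] a)
  have hT : ∀ y : Localization.AtPrime p ⊗[R] A,
      ∃ s : Localization.AtPrime p, IsUnit s ∧ s • y ∈ T := by
    intro y
    obtain ⟨⟨a, m⟩, h⟩ := IsLocalizedModule.surj p.primeCompl
      (TensorProduct.mk R (Localization.AtPrime p) A 1) y
    refine ⟨algebraMap R (Localization.AtPrime p) m,
      IsLocalization.map_units (Localization.AtPrime p) m, a, ?_⟩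
    rw [algebraMap_smul]
    exact h.symm
  obtain ⟨r, hr, ξ', c', P, ⟨ξ, rfl⟩, hc, hPm, hPd, hPs, hPa, hbij⟩ :=
    exists_local_data_aux (Localization.AtPrime p) (Localization.AtPrime p ⊗[R] A) T hT
  choose c hc using hc
  refine ⟨r, hr, ξ, c, P, hPm, hPd, hPs, hPa, ?_⟩
  have : (fun q : Fin r × Fin r =>
      (1 : Localization.AtPrime p) ⊗ₜ[R] (c q.2 * ξ ^ (q.1 : ℕ))) =
      fun q : Fin r × Fin r => c' q.2 * ((1 : Localization.AtPrime p) ⊗ₜ[R] ξ) ^ (q.1 : ℕ) := by
    funext q
    rw [← hc q.2, Algebra.TensorProduct.tmul_pow, one_pow, Algebra.TensorProduct.tmul_mul_tmul,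
      one_mul]
  rw [this]
  exact hbij

end glob





section spreadPoly

attribute [local instance] Polynomial.algebra in
theorem exists_C_mul_eq_zero {R : Type*} [CommRing R] (M : Submonoid R) (S : Type*) [CommRing S]
    [Algebra R S] [IsLocalization M S] (W : R[X]) (h : W.map (algebraMap R S) = 0) :
    ∃ m ∈ M, C m * W = 0 := by
  have := Polynomial.isLocalization M S
  have h2 : algebraMap R[X] S[X] W = 0 := h
  rw [IsLocalization.map_eq_zero_iff (M.map C) S[X] W] at h2
  obtain ⟨⟨_, m, hm, rfl⟩, hc⟩ := h2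
  exact ⟨m, hm, hc⟩

theorem nontrivial_away {R : Type*} [CommRing R] (p : Ideal R) [p.IsPrime] (t : R) (ht : t ∉ p) :
    Nontrivial (Localization.Away t) := by
  by_contra hne
  rw [not_nontrivial_iff_subsingleton,
    IsLocalization.subsingleton_iff (M := Submonoid.powers t)] at hne
  obtain ⟨n, hn⟩ := (Submonoid.mem_powers_iff _ _).1 hne
  apply ht
  apply Ideal.IsPrime.mem_of_pow_mem inferInstance n
  rw [hn]
  exact p.zero_mem

variable {R : Type u} [CommRing R] {A : Type u} [Ring A] [Algebra R A]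

theorem exists_poly_away (p : Ideal R) [p.IsPrime] (r : ℕ) (ξ : A)
    (P : (Localization.AtPrime p)[X]) (hPm : P.Monic) (hPd : P.natDegree = r) (hPs : P.Separable)
    (hPa : aeval ((1 : Localization.AtPrime p) ⊗ₜ[R] ξ) P = 0) :
    ∃ g, g ∉ p ∧ ∀ t, g ∣ t → t ∉ p → ∃ Q : (Localization.Away t)[X], Q.Monic ∧ Q.natDegree = r ∧
      Q.Separable ∧ aeval ((1 : Localization.Away t) ⊗ₜ[R] ξ) Q = 0 := by
  classical
  obtain ⟨s, hsM, hs⟩ := IsLocalization.integerNormalization_spec p.primeCompl P
  set P' : R[X] := IsLocalization.integerNormalization p.primeCompl P with hP'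
  have hdeg' : P'.natDegree ≤ r := by
    rw [natDegree_le_iff_coeff_eq_zero]
    intro N hN
    by_contra hne
    have h1 : N ∈ P'.support := mem_support_iff.2 hne
    have h2 := IsLocalization.integerNormalization_support p.primeCompl P h1
    rw [mem_support_iff] at h2
    exact h2 (coeff_eq_zero_of_natDegree_lt (by rw [hPd]; exact hN))
  have hcoeff : algebraMap R (Localization.AtPrime p) (P'.coeff r) =
      algebraMap R (Localization.AtPrime p) s := by
    have := congrArg (fun q => q.coeff r) hs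
    simp only [coeff_map, coeff_smul] at this
    rw [this, ← hPd, hPm.coeff_natDegree, Algebra.smul_def, mul_one]
  obtain ⟨⟨c, hcM⟩, hc⟩ := (IsLocalization.eq_iff_exists p.primeCompl (Localization.AtPrime p)).1 hcoeff
  have ha : (TensorProduct.mk R (Localization.AtPrime p) A 1) (aeval ξ P') = 0 := by
    rw [TensorProduct.mk_apply]
    have h1 := Polynomial.aeval_algHom_apply
      (Algebra.TensorProduct.includeRight : A →ₐ[R] (Localization.AtPrime p) ⊗[R] A) ξ P'
    rw [Algebra.TensorProduct.includeRight_apply, Algebra.TensorProduct.includeRight_apply] at h1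
    rw [← h1, ← Polynomial.aeval_map_algebraMap (Localization.AtPrime p), hs,
      ← algebraMap_smul (Localization.AtPrime p) s P, map_smul, hPa, smul_zero]
  obtain ⟨⟨m, hmM⟩, hm⟩ := IsLocalizedModule.exists_of_eq (S := p.primeCompl)
    (f := TensorProduct.mk R (Localization.AtPrime p) A 1) (x₁ := aeval ξ P') (x₂ := 0)
    (by rw [ha, map_zero])
  rw [smul_zero] at hm
  change m • aeval ξ P' = 0 at hm
  -- Bezout
  obtain ⟨a, b, hab⟩ := hPs
  obtain ⟨sa, hsaM, hsa⟩ := IsLocalization.integerNormalization_spec p.primeCompl a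
  obtain ⟨sb, hsbM, hsb⟩ := IsLocalization.integerNormalization_spec p.primeCompl b
  set a' : R[X] := IsLocalization.integerNormalization p.primeCompl a with ha'
  set b' : R[X] := IsLocalization.integerNormalization p.primeCompl b with hb'
  let W : R[X] := C sb * a' * P' + C sa * b' * derivative P' - C (sa * sb * s)
  have hW : W.map (algebraMap R (Localization.AtPrime p)) = 0 := by
    simp only [W, Polynomial.map_sub, Polynomial.map_add, Polynomial.map_mul, Polynomial.map_C,
      ← derivative_map, hs, hsa, hsb, derivative_smul]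
    rw [← algebraMap_smul (Localization.AtPrime p) s P,
      ← algebraMap_smul (Localization.AtPrime p) s (derivative P),
      ← algebraMap_smul (Localization.AtPrime p) sa a,
      ← algebraMap_smul (Localization.AtPrime p) sb b]
    simp only [smul_eq_C_mul, map_mul]
    linear_combination (C (algebraMap R (Localization.AtPrime p) sa) *
      C (algebraMap R (Localization.AtPrime p) sb) * C (algebraMap R (Localization.AtPrime p) s)) * hab
  obtain ⟨m', hm'M, hm'⟩ := exists_C_mul_eq_zero p.primeCompl (Localization.AtPrime p) W hW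
  refine ⟨s * c * m * m' * sa * sb, ?_, ?_⟩
  · have : s * c * m * m' * sa * sb ∈ p.primeCompl :=
      Submonoid.mul_mem _ (Submonoid.mul_mem _ (Submonoid.mul_mem _ (Submonoid.mul_mem _
        (Submonoid.mul_mem _ hsM hcM) hmM) hm'M) hsaM) hsbM
    exact this
  intro t htd htp
  have hnt : Nontrivial (Localization.Away t) := nontrivial_away p t htp
  have hu : IsUnit (algebraMap R (Localization.Away t) t) :=
    IsLocalization.Away.algebraMap_isUnit t
  have hus : IsUnit (algebraMap R (Localization.Away t) s) :=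
    isUnit_of_dvd_unit (map_dvd _ (dvd_trans ⟨c * m * m' * sa * sb, by ring⟩ htd)) hu
  have huc : IsUnit (algebraMap R (Localization.Away t) c) :=
    isUnit_of_dvd_unit (map_dvd _ (dvd_trans ⟨s * m * m' * sa * sb, by ring⟩ htd)) hu
  have hum : IsUnit (algebraMap R (Localization.Away t) m) :=
    isUnit_of_dvd_unit (map_dvd _ (dvd_trans ⟨s * c * m' * sa * sb, by ring⟩ htd)) hu
  have hum' : IsUnit (algebraMap R (Localization.Away t) m') :=
    isUnit_of_dvd_unit (map_dvd _ (dvd_trans ⟨s * c * m * sa * sb, by ring⟩ htd)) hu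
  have husa : IsUnit (algebraMap R (Localization.Away t) sa) :=
    isUnit_of_dvd_unit (map_dvd _ (dvd_trans ⟨s * c * m * m' * sb, by ring⟩ htd)) hu
  have husb : IsUnit (algebraMap R (Localization.Away t) sb) :=
    isUnit_of_dvd_unit (map_dvd _ (dvd_trans ⟨s * c * m * m' * sa, by ring⟩ htd)) hu
  set f := algebraMap R (Localization.Away t) with hf
  obtain ⟨si, hsi⟩ := hus.exists_left_inv
  set PS : (Localization.Away t)[X] := P'.map f with hPS
  set Q : (Localization.Away t)[X] := C si * PS with hQ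
  have hQS : PS = C (f s) * Q := by
    rw [hQ, ← mul_assoc, ← C_mul, mul_comm (f s) si, hsi, C_1, one_mul]
  have hQdeg : Q.natDegree ≤ r :=
    (natDegree_C_mul_le _ _).trans (natDegree_map_le.trans hdeg')
  have hQcoeff : Q.coeff r = 1 := by
    rw [hQ, coeff_C_mul, hPS, coeff_map]
    have h1 : f c * f (P'.coeff r) = f c * f s := by
      rw [← map_mul, ← map_mul]
      exact congrArg f hc
    have h2 : f (P'.coeff r) = f s := huc.mul_left_cancel h1
    rw [h2, hsi]
  have hQm : Q.Monic := monic_of_natDegree_le_of_coeff_eq_one r hQdeg hQcoeff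
  have hQd : Q.natDegree = r :=
    natDegree_eq_of_le_of_coeff_ne_zero hQdeg (by rw [hQcoeff]; exact one_ne_zero)
  have hWS : W.map f = 0 := by
    have h1 : (C m' * W).map f = 0 := by rw [hm', Polynomial.map_zero]
    rw [Polynomial.map_mul, map_C] at h1
    obtain ⟨mi, hmi⟩ := hum'.exists_left_inv
    calc W.map f = C (mi * f m') * W.map f := by rw [hmi, C_1, one_mul]
      _ = C mi * (C (f m') * W.map f) := by rw [C_mul, mul_assoc]
      _ = 0 := by rw [h1, mul_zero]
  have hsep : Q.Separable := by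
    obtain ⟨σi, hσi⟩ := (husa.mul (husb.mul hus)).exists_left_inv
    refine ⟨C σi * (C (f sb) * a'.map f * C (f s)), C σi * (C (f sa) * b'.map f * C (f s)), ?_⟩
    have h2 : C (f sb) * a'.map f * PS + C (f sa) * b'.map f * derivative PS =
        C (f sa * f sb * f s) := by
      have := hWS
      simp only [W, Polynomial.map_sub, Polynomial.map_add, Polynomial.map_mul, Polynomial.map_C,
        ← derivative_map, map_mul] at this
      rw [C_mul, C_mul]
      exact sub_eq_zero.1 this
    rw [hQS, derivative_C_mul] at h2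
    have h3 : (C σi : (Localization.Away t)[X]) * C (f sa * f sb * f s) = 1 := by
      rw [← C_mul, mul_assoc (f sa), hσi, C_1]
    linear_combination (C σi) * h2 + h3
  have hae : aeval ((1 : Localization.Away t) ⊗ₜ[R] ξ) Q = 0 := by
    have h1 := Polynomial.aeval_algHom_apply
      (Algebra.TensorProduct.includeRight : A →ₐ[R] (Localization.Away t) ⊗[R] A) ξ P'
    rw [Algebra.TensorProduct.includeRight_apply, Algebra.TensorProduct.includeRight_apply] at h1
    have h2 : (1 : Localization.Away t) ⊗ₜ[R] (aeval ξ P') = 0 := by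
      obtain ⟨mi, hmi⟩ := hum.exists_left_inv
      calc (1 : Localization.Away t) ⊗ₜ[R] (aeval ξ P')
          = (m • mi) ⊗ₜ[R] (aeval ξ P') := by rw [Algebra.smul_def, mul_comm, hmi]
        _ = mi ⊗ₜ[R] (m • aeval ξ P') := by rw [TensorProduct.smul_tmul]
        _ = 0 := by rw [hm, TensorProduct.tmul_zero]
    rw [hQ, map_mul, aeval_C, hPS, hf, Polynomial.aeval_map_algebraMap, h1, h2, mul_zero]
  exact ⟨Q, hQm, hQd, hsep, hae⟩

end spreadPoly





section spreadBij

variable {R : Type*} [CommRing R] (S : Submonoid R)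
  {M M' N N' : Type*} [AddCommGroup M] [AddCommGroup M'] [AddCommGroup N] [AddCommGroup N']
  [Module R M] [Module R M'] [Module R N] [Module R N']
  (f₀ : M →ₗ[R] M') (f₁ : N →ₗ[R] N') [IsLocalizedModule S f₀] [IsLocalizedModule S f₁]

theorem bijective_map_iff (g : M →ₗ[R] N) :
    Function.Bijective (IsLocalizedModule.map S f₀ f₁ g) ↔
      Function.Bijective (LocalizedModule.map S g) := by
  have h := IsLocalizedModule.map_iso_commute S f₀ f₁ g
  have h1 : ⇑(IsLocalizedModule.map S f₀ f₁ g) ∘ ⇑(IsLocalizedModule.iso S f₀) =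
      ⇑(IsLocalizedModule.iso S f₁) ∘ ⇑(LocalizedModule.map S g) := by
    funext x
    exact LinearMap.congr_fun h x
  constructor
  · intro hb
    have h2 : Function.Bijective (⇑(IsLocalizedModule.iso S f₁) ∘ ⇑(LocalizedModule.map S g)) := by
      rw [← h1]
      exact hb.comp (IsLocalizedModule.iso S f₀).bijective
    exact (Function.Bijective.of_comp_iff' (IsLocalizedModule.iso S f₁).bijective _).1 h2
  · intro hb
    have h2 : Function.Bijective
        (⇑(IsLocalizedModule.map S f₀ f₁ g) ∘ ⇑(IsLocalizedModule.iso S f₀)) := by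
      rw [h1]
      exact (IsLocalizedModule.iso S f₁).bijective.comp hb
    exact (Function.Bijective.of_comp_iff _ (IsLocalizedModule.iso S f₀).bijective).1 h2

end spreadBij

section spreadBasis

variable {R : Type u} [CommRing R] {A : Type u} [AddCommGroup A] [Module R A]
  [Module.FinitePresentation R A]

theorem exists_bijective_away {ι : Type*} [Finite ι] (v : ι → A) (p : Ideal R) [p.IsPrime]
    (h : Function.Bijective (Finsupp.linearCombination (Localization.AtPrime p)
      (fun i => (1 : Localization.AtPrime p) ⊗ₜ[R] v i))) :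
    ∃ g, g ∉ p ∧ ∀ t, g ∣ t → Function.Bijective (Finsupp.linearCombination (Localization.Away t)
      (fun i => (1 : Localization.Away t) ⊗ₜ[R] v i)) := by
  classical
  have h1 := IsLocalizedModule.map_linearCombination p.primeCompl (Localization.AtPrime p)
    (TensorProduct.mk R (Localization.AtPrime p) A 1) (v := v)
  have hb : Function.Bijective (IsLocalizedModule.map p.primeCompl
      (Finsupp.mapRange.linearMap (Algebra.linearMap R (Localization.AtPrime p)))
      (TensorProduct.mk R (Localization.AtPrime p) A 1) (Finsupp.linearCombination R v)) := by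
    rw [h1]
    exact h
  obtain ⟨g, hg, H⟩ := exists_bijective_map_powers p.primeCompl _ _ (Finsupp.linearCombination R v) hb
  refine ⟨g, hg, fun t ht => ?_⟩
  have h2 := H t ht
  rw [← bijective_map_iff (Submonoid.powers t)
    (Finsupp.mapRange.linearMap (Algebra.linearMap R (Localization.Away t)))
    (TensorProduct.mk R (Localization.Away t) A 1),
    IsLocalizedModule.map_linearCombination (Submonoid.powers t) (Localization.Away t)] at h2
  exact h2

end spreadBasis


section final

variable (R : Type u) [CommRing R] (A : Type u) [Ring A] [Algebra R A] [IsAzumaya R A]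
  (p : Ideal R) [p.IsPrime]

/-- an Azumaya algebra is split by a finite étale faithfully flat cover of a neighbourhood of any
given prime -/
theorem main : ∃ f : R, f ∉ p ∧ ∃ (R' : Type u) (_ : CommRing R') (_ : Algebra R R')
    (_ : Algebra (Localization.Away f) R') (_ : IsScalarTower R (Localization.Away f) R'),
    Module.Finite (Localization.Away f) R' ∧ Algebra.Etale (Localization.Away f) R' ∧
    Module.FaithfullyFlat (Localization.Away f) R' ∧
    ∃ r : ℕ, 1 ≤ r ∧ Nonempty ((R' ⊗[R] A) ≃ₐ[R'] Matrix (Fin r) (Fin r) R') := by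
  classical
  obtain ⟨r, hr, ξ, c, P, hPm, hPd, hPs, hPa, hbij⟩ := exists_local_data R A p
  have hfp : Module.FinitePresentation R A := Module.finitePresentation_of_projective R A
  obtain ⟨g₁, hg₁, H₁⟩ :=
    exists_bijective_away (fun q : Fin r × Fin r => c q.2 * ξ ^ (q.1 : ℕ)) p hbij
  obtain ⟨g₂, hg₂, H₂⟩ := exists_poly_away p r ξ P hPm hPd hPs hPa
  have hf : g₁ * g₂ ∉ p := Ideal.IsPrime.mul_notMem inferInstance hg₁ hg₂
  obtain ⟨Q, hQm, hQd, hQs, hQa⟩ := H₂ (g₁ * g₂) (Dvd.intro_left _ rfl) hf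
  have hB := H₁ (g₁ * g₂) (Dvd.intro _ rfl)
  have hnt : Nontrivial (Localization.Away (g₁ * g₂)) := nontrivial_away p _ hf
  have hAz : IsAzumaya (Localization.Away (g₁ * g₂)) (Localization.Away (g₁ * g₂) ⊗[R] A) :=
    Groth.Agent.Lib.LeadAzumaya.isAzumaya_baseChange (Localization.Away (g₁ * g₂)) A
  let pb : PowerBasis (Localization.Away (g₁ * g₂)) (AdjoinRoot Q) := AdjoinRoot.powerBasis' hQm
  have hpbdim : pb.dim = r := by rw [AdjoinRoot.powerBasis'_dim, hQd]
  have hfe : Algebra.FormallyEtale (Localization.Away (g₁ * g₂)) (AdjoinRoot Q) :=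
    Groth.Agent.Lib.Helper18Monogenic.formallyEtale_of_separable Q hQm hQs
  have het : Algebra.Etale (Localization.Away (g₁ * g₂)) (AdjoinRoot Q) := ⟨hfe, inferInstance⟩
  have hfin : Module.Finite (Localization.Away (g₁ * g₂)) (AdjoinRoot Q) := pb.finite
  have hfr : Module.Free (Localization.Away (g₁ * g₂)) (AdjoinRoot Q) :=
    Module.Free.of_basis pb.basis
  let ε : Module.Basis (Fin r) (Localization.Away (g₁ * g₂)) (AdjoinRoot Q) :=
    pb.basis.reindex (finCongr hpbdim)
  have hε : ∀ j : Fin r, ε j = AdjoinRoot.root Q ^ (j : ℕ) := by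
    intro j
    simp [ε, pb]
  have hE : Module.finrank (Localization.Away (g₁ * g₂)) (AdjoinRoot Q) = r := by
    rw [pb.finrank, hpbdim]
  have hntE : Nontrivial (AdjoinRoot Q) :=
    Module.nontrivial_of_finrank_pos (R := Localization.Away (g₁ * g₂)) (by rw [hE]; exact hr)
  refine ⟨g₁ * g₂, hf, AdjoinRoot Q, inferInstance, inferInstance, inferInstance, inferInstance,
    hfin, het, inferInstance, r, hr, ?_⟩
  let _ : Module (AdjoinRoot Q) (Localization.Away (g₁ * g₂) ⊗[R] A) :=
    rootModule Q ((1 : Localization.Away (g₁ * g₂)) ⊗ₜ[R] ξ) hQa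
  have hmod : ∀ (e : AdjoinRoot Q) (a : Localization.Away (g₁ * g₂) ⊗[R] A),
      e • a = a * rootHom Q ((1 : Localization.Away (g₁ * g₂)) ⊗ₜ[R] ξ) hQa e := fun e a => rfl
  have hst : IsScalarTower (Localization.Away (g₁ * g₂)) (AdjoinRoot Q)
      (Localization.Away (g₁ * g₂) ⊗[R] A) :=
    isScalarTower_of_hmod (Localization.Away (g₁ * g₂)) (Localization.Away (g₁ * g₂) ⊗[R] A)
      (AdjoinRoot Q) (rootHom Q ((1 : Localization.Away (g₁ * g₂)) ⊗ₜ[R] ξ) hQa) hmod
  have hbij' : Function.Bijective (Finsupp.linearCombination (Localization.Away (g₁ * g₂))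
      (fun q : Fin r × Fin r => ((1 : Localization.Away (g₁ * g₂)) ⊗ₜ[R] c q.2) *
        rootHom Q ((1 : Localization.Away (g₁ * g₂)) ⊗ₜ[R] ξ) hQa (ε q.1))) := by
    have : (fun q : Fin r × Fin r => ((1 : Localization.Away (g₁ * g₂)) ⊗ₜ[R] c q.2) *
        rootHom Q ((1 : Localization.Away (g₁ * g₂)) ⊗ₜ[R] ξ) hQa (ε q.1)) =
        fun q : Fin r × Fin r =>
          (1 : Localization.Away (g₁ * g₂)) ⊗ₜ[R] (c q.2 * ξ ^ (q.1 : ℕ)) := by
      funext q
      rw [hε, map_pow, rootHom_root, Algebra.TensorProduct.tmul_pow, one_pow,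
        Algebra.TensorProduct.tmul_mul_tmul, one_mul]
    rw [this]
    exact hB
  obtain ⟨b⟩ := basis_of_bijective
    (rootHom Q ((1 : Localization.Away (g₁ * g₂)) ⊗ₜ[R] ξ) hQa) hmod
    (fun i => (1 : Localization.Away (g₁ * g₂)) ⊗ₜ[R] c i) ε hbij'
  obtain ⟨e⟩ := nonempty_algEquiv_matrix
    (rootHom Q ((1 : Localization.Away (g₁ * g₂)) ⊗ₜ[R] ξ) hQa) hmod hr b ε
  exact ⟨(Groth.Agent.Lib.Helper7.AzFib.cancelBaseChangeAlg R (Localization.Away (g₁ * g₂))
    (AdjoinRoot Q) A).symm.trans e⟩

end final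

end Groth.Agent.Lib.T2H2.AzSplitNear
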