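import Mathlib

set_option autoImplicit false

namespace Groth.Agent.Lib.T2H2.BertiniAut

open MvPolynomial

universe u

section aut
variable {k K : Type u} [Field k] [Field K] [Algebra k K] {ι : Type}
variable (c : ι → k) (i₀ j₀ : ι)

/-- the linear form `c_{i₀} X_{j₀} - c_{j₀} X_{i₀}`, which vanishes at `c`. -/
noncomputable def lam : MvPolynomial ι K :=
  C (algebraMap k K (c i₀)) * X j₀ - C (algebraMap k K (c j₀)) * X i₀

/-- the substitution `X_i ↦ X_i + a c_i λ^e`. -/
noncomputable def tau (e : ℕ) (a : k) : MvPolynomial ι K →ₐ[K] MvPolynomial ι K :=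
  aeval (fun i => X i + C (algebraMap k K (a * c i)) * (lam (K := K) c i₀ j₀) ^ e)

@[simp] lemma tau_X (e : ℕ) (a : k) (i : ι) :
    tau (K := K) c i₀ j₀ e a (X i) = X i + C (algebraMap k K (a * c i)) * (lam (K := K) c i₀ j₀) ^ e := by
  simp [tau]

@[simp] lemma tau_C (e : ℕ) (a : k) (r : K) :
    tau (K := K) c i₀ j₀ e a (C r) = C r := by
  simp [tau]

lemma tau_lam (e : ℕ) (a : k) :
    tau (K := K) c i₀ j₀ e a (lam c i₀ j₀) = lam c i₀ j₀ := by
  have h1 : tau (K := K) c i₀ j₀ e a (lam c i₀ j₀) =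
      C (algebraMap k K (c i₀)) * (X j₀ + C (algebraMap k K (a * c j₀)) * (lam (K := K) c i₀ j₀) ^ e)
        - C (algebraMap k K (c j₀)) *
          (X i₀ + C (algebraMap k K (a * c i₀)) * (lam (K := K) c i₀ j₀) ^ e) := by
    conv_lhs => rw [lam]
    simp only [map_sub, map_mul, tau_X, tau_C]
  rw [h1]
  simp only [map_mul]
  conv_rhs => rw [lam]
  ring

lemma tau_comp (e : ℕ) (a b : k) :
    (tau (K := K) c i₀ j₀ e a).comp (tau c i₀ j₀ e b) = tau c i₀ j₀ e (a + b) := by
  apply MvPolynomial.algHom_ext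
  intro i
  simp only [AlgHom.comp_apply, tau_X, map_add, map_mul, map_pow, tau_lam, tau_C]
  simp only [add_mul, map_add, map_mul]
  ring

lemma tau_zero (e : ℕ) : tau (K := K) c i₀ j₀ e 0 = AlgHom.id K _ := by
  apply MvPolynomial.algHom_ext
  intro i
  simp

lemma tau_injective (e : ℕ) (a : k) : Function.Injective (tau (K := K) c i₀ j₀ e a) := by
  have h : (tau (K := K) c i₀ j₀ e (-a)).comp (tau c i₀ j₀ e a) = AlgHom.id K _ := by
    rw [tau_comp, neg_add_cancel, tau_zero]
  exact Function.LeftInverse.injective (g := tau (K := K) c i₀ j₀ e (-a)) fun p => by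
    have := congrArg (fun f => f p) h
    simpa using this

/-- the fraction field of the polynomial ring. -/
abbrev Om (K : Type u) [Field K] (ι : Type) := FractionRing (MvPolynomial ι K)

/-- the automorphism of the rational function field induced by `tau`. -/
noncomputable def sigma (e : ℕ) (a : k) : Om K ι →ₐ[K] Om K ι :=
  IsFractionRing.liftAlgHom
    (g := (IsScalarTower.toAlgHom K (MvPolynomial ι K) (Om K ι)).comp (tau c i₀ j₀ e a))
    ((IsFractionRing.injective (MvPolynomial ι K) (Om K ι)).comp (tau_injective c i₀ j₀ e a))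

lemma sigma_algebraMap (e : ℕ) (a : k) (p : MvPolynomial ι K) :
    sigma c i₀ j₀ e a (algebraMap (MvPolynomial ι K) (Om K ι) p) =
      algebraMap (MvPolynomial ι K) (Om K ι) (tau c i₀ j₀ e a p) := by
  rw [sigma, IsFractionRing.liftAlgHom_apply, IsFractionRing.lift_algebraMap]
  rfl

lemma sigma_comp_apply (e : ℕ) (a b : k) (u : Om K ι) :
    sigma c i₀ j₀ e a (sigma c i₀ j₀ e b u) = sigma c i₀ j₀ e (a + b) u := by
  have h : ((sigma (K := K) c i₀ j₀ e a).comp (sigma c i₀ j₀ e b)).toRingHom =
      (sigma (K := K) c i₀ j₀ e (a + b)).toRingHom := by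
    apply IsLocalization.ringHom_ext (nonZeroDivisors (MvPolynomial ι K))
    ext p
    · simp only [AlgHom.toRingHom_eq_coe, RingHom.coe_comp, RingHom.coe_coe, Function.comp_apply,
        AlgHom.comp_apply]
      rw [← MvPolynomial.algebraMap_eq, sigma_algebraMap, sigma_algebraMap, sigma_algebraMap,
        ← AlgHom.comp_apply, tau_comp]
    · simp only [AlgHom.toRingHom_eq_coe, RingHom.coe_comp, RingHom.coe_coe, Function.comp_apply,
        AlgHom.comp_apply]
      rw [sigma_algebraMap, sigma_algebraMap, sigma_algebraMap, ← AlgHom.comp_apply, tau_comp]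
  exact congrArg (fun f : Om K ι →+* Om K ι => f u) h

lemma sigma_zero_apply (e : ℕ) (u : Om K ι) : sigma (K := K) c i₀ j₀ e 0 u = u := by
  have h : (sigma (K := K) c i₀ j₀ e 0).toRingHom = RingHom.id _ := by
    apply IsLocalization.ringHom_ext (nonZeroDivisors (MvPolynomial ι K))
    ext p
    · simp only [AlgHom.toRingHom_eq_coe, RingHom.coe_comp, RingHom.coe_coe, Function.comp_apply,
        RingHomCompTriple.comp_eq]
      rw [← MvPolynomial.algebraMap_eq, sigma_algebraMap, tau_zero]; rfl
    · simp only [AlgHom.toRingHom_eq_coe, RingHom.coe_comp, RingHom.coe_coe, Function.comp_apply,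
        RingHomCompTriple.comp_eq]
      rw [sigma_algebraMap, tau_zero]; rfl
  exact congrArg (fun f : Om K ι →+* Om K ι => f u) h

lemma sigma_neg_sigma (e : ℕ) (a : k) (u : Om K ι) :
    sigma c i₀ j₀ e (-a) (sigma c i₀ j₀ e a u) = u := by
  rw [sigma_comp_apply, neg_add_cancel, sigma_zero_apply]

end aut

end Groth.Agent.Lib.T2H2.BertiniAut
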