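import Mathlib

set_option autoImplicit false

namespace Groth.Agent.Lib.T2H2.FgAlgClosure

open IntermediateField

universe u v

section lindep
variable {F : Type u} {E : Type v} [Field F] [Field E] [Algebra F E]

/-- Elements algebraic over `F` that are `F`-linearly independent stay linearly independent over
`F[t]` for an algebraically independent family `t`. -/
theorem linearIndependent_adjoin {ι κ : Type*} {t : ι → E} (ht : AlgebraicIndependent F t)
    {a : κ → E} (ha : ∀ j, IsAlgebraic F (a j)) (hli : LinearIndependent F a) :
    LinearIndependent (Algebra.adjoin F (Set.range t)) a := by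
  classical
  let A := algebraicClosure F E
  have htA : AlgebraicIndependent A t := ht.algebraicClosure
  rw [linearIndependent_iff']
  intro s g hg j hj
  -- each coefficient is a polynomial in `t`
  have hgP : ∀ i, ∃ P : MvPolynomial ι F, MvPolynomial.aeval t P = (g i : E) := by
    intro i
    have h2 : Algebra.adjoin F (Set.range t) = (MvPolynomial.aeval t).range :=
      Algebra.adjoin_range_eq_range_aeval F t
    have h1 : ∀ z ∈ Algebra.adjoin F (Set.range t), ∃ P : MvPolynomial ι F,
        MvPolynomial.aeval t P = z := by
      intro z hz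
      rw [h2] at hz
      exact hz
    exact h1 _ (g i).2
  choose P hP using hgP
  let a' : κ → A := fun i => ⟨a i, (mem_algebraicClosure_iff).mpr (ha i)⟩
  let G : MvPolynomial ι A := ∑ i ∈ s, MvPolynomial.C (a' i) * MvPolynomial.map (algebraMap F A) (P i)
  have hG : MvPolynomial.aeval t G = 0 := by
    simp only [G, map_sum, map_mul, MvPolynomial.aeval_C, MvPolynomial.aeval_map_algebraMap]
    rw [← hg]
    refine Finset.sum_congr rfl fun i _ => ?_
    rw [hP, Algebra.smul_def, mul_comm]
    rfl
  have hG0 : G = 0 := htA (by rw [hG, map_zero])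
  have hcoeff : ∀ μ, ∑ i ∈ s, (P i).coeff μ • a i = 0 := by
    intro μ
    have h3 := congrArg (fun Q => ((MvPolynomial.coeff μ Q : A) : E)) hG0
    simp only [G, MvPolynomial.coeff_sum, MvPolynomial.coeff_C_mul, MvPolynomial.coeff_map,
      MvPolynomial.coeff_zero, ZeroMemClass.coe_zero] at h3
    rw [← h3]
    simp only [AddSubmonoidClass.coe_finsetSum, MulMemClass.coe_mul]
    refine Finset.sum_congr rfl fun i _ => ?_
    rw [Algebra.smul_def, mul_comm]
    rfl
  have hPj : P j = 0 := by
    ext μ
    rw [MvPolynomial.coeff_zero]
    exact (linearIndependent_iff'.mp hli) s (fun i => (P i).coeff μ) (hcoeff μ) j hj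
  ext
  rw [← hP, hPj]; simp

end lindep

section main
variable {F : Type u} {E : Type v} [Field F] [Field E] [Algebra F E]

theorem finite_algebraicClosure [Algebra.EssFiniteType F E] :
    Module.Finite F (algebraicClosure F E) := by
  classical
  obtain ⟨S, hS⟩ := IntermediateField.fg_top F E
  have halg : Algebra.IsAlgebraic (Algebra.adjoin F (S : Set E)) E := by
    constructor
    intro e
    have he : e ∈ IntermediateField.adjoin F (S : Set E) := hS ▸ IntermediateField.mem_top
    obtain ⟨r, hr, s, hs, rfl⟩ := IntermediateField.mem_adjoin_iff_div.mp he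
    have h1 : IsAlgebraic (Algebra.adjoin F (S : Set E)) r :=
      isAlgebraic_algebraMap (⟨r, hr⟩ : Algebra.adjoin F (S : Set E))
    have h2 : IsAlgebraic (Algebra.adjoin F (S : Set E)) s :=
      isAlgebraic_algebraMap (⟨s, hs⟩ : Algebra.adjoin F (S : Set E))
    rw [div_eq_mul_inv]
    exact h1.mul h2.inv
  obtain ⟨t, htS, htb⟩ := exists_isTranscendenceBasis_subset (R := F) (S : Set E)
  let Ft := IntermediateField.adjoin F (Set.range ((↑) : t → E))
  have hFtalg : Algebra.IsAlgebraic Ft E := htb.isAlgebraic_field
  have : Algebra.EssFiniteType Ft E := Algebra.EssFiniteType.of_comp F Ft E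
  have hfin : Module.Finite Ft E := Algebra.finite_of_essFiniteType_of_isAlgebraic
  set N := Module.finrank Ft E with hN
  have hrank : Module.rank F (algebraicClosure F E) ≤ N := by
    refine rank_le fun s hs => ?_
    -- the family `(i : s) ↦ (i : E)` is linearly independent over `Ft`
    have hli : LinearIndependent F (fun i : s => ((i : algebraicClosure F E) : E)) :=
      hs.map' (algebraicClosure F E).val.toLinearMap
        (LinearMap.ker_eq_bot.mpr (algebraicClosure F E).val.injective)
    have hli2 := linearIndependent_adjoin htb.1
      (a := fun i : s => ((i : algebraicClosure F E) : E))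
      (fun i => mem_algebraicClosure_iff.mp (i : algebraicClosure F E).2) hli
    open scoped IntermediateField.algebraAdjoinAdjoin in
    have hli3 : LinearIndependent Ft (fun i : s => ((i : algebraicClosure F E) : E)) :=
      (LinearIndependent.iff_fractionRing
        (Algebra.adjoin F (Set.range ((↑) : t → E))) Ft).mp hli2
    have := hli3.fintype_card_le_finrank
    simpa using this
  exact Module.rank_lt_aleph0_iff.mp (lt_of_le_of_lt hrank (Cardinal.natCast_lt_aleph0))

theorem finite_separableClosure [Algebra.EssFiniteType F E] :
    Module.Finite F (separableClosure F E) := by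
  have := finite_algebraicClosure (F := F) (E := E)
  have hle : separableClosure F E ≤ algebraicClosure F E := by
    intro z hz
    rw [mem_separableClosure_iff] at hz
    exact mem_algebraicClosure_iff.mpr hz.isIntegral.isAlgebraic
  exact Module.Finite.of_injective (IntermediateField.inclusion hle).toLinearMap
    (IntermediateField.inclusion hle).injective

end main


section pigeon
variable {F : Type u} {E : Type v} [Field F] [Field E] [Algebra F E]

/-- In a finitely generated field extension, among infinitely many separable elements two
generate comparable simple extensions. -/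
theorem exists_ne_mem_adjoin_simple [Algebra.EssFiniteType F E] (θ : ℕ → E)
    (hθ : ∀ e, IsSeparable F (θ e)) : ∃ e₁ e₂ : ℕ, e₁ ≠ e₂ ∧ θ e₁ ∈ F⟮θ e₂⟯ := by
  let S := separableClosure F E
  have hfin : Module.Finite F S := finite_separableClosure
  have hprim := Field.exists_primitive_element F S
  have hfinI : Finite (IntermediateField F S) :=
    Field.finite_intermediateField_of_exists_primitive_element F S hprim
  let t : ℕ → S := fun e => ⟨θ e, mem_separableClosure_iff.mpr (hθ e)⟩
  let f : ℕ → IntermediateField F S := fun e => F⟮t e⟯
  obtain ⟨e₁, e₂, hne, heq⟩ := Finite.exists_ne_map_eq_of_infinite f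
  refine ⟨e₁, e₂, hne, ?_⟩
  have h1 : t e₁ ∈ F⟮t e₂⟯ := by
    have : t e₁ ∈ f e₁ := mem_adjoin_simple_self F (t e₁)
    rw [heq] at this
    exact this
  have h2 : (F⟮t e₂⟯).map S.val = F⟮θ e₂⟯ := by
    rw [IntermediateField.adjoin_map]
    simp [t]
  rw [← h2]
  exact ⟨t e₁, h1, rfl⟩

end pigeon

end Groth.Agent.Lib.T2H2.FgAlgClosure
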