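import Mathlib

set_option autoImplicit false

namespace Groth.Agent.Lib.T2H2.SepClosed

open Polynomial IntermediateField TensorProduct

universe u v w

/-- `F` is separably closed in `E`: every element of `E` separable over `F` lies in `F`. -/
def SepClosedIn (F : Type u) (E : Type v) [Field F] [Field E] [Algebra F E] : Prop :=
  ∀ θ : E, IsSeparable F θ → θ ∈ (algebraMap F E).range

section basic
variable {F : Type u} {E : Type v} [Field F] [Field E] [Algebra F E]

/-- A monic divisor over `E` of a separable polynomial over `F` has coefficients in `F` when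
`F` is separably closed in `E`. -/
theorem mem_lifts_of_dvd (h : SepClosedIn F E) {P : F[X]} (hsep : P.Separable)
    {Q : E[X]} (hQ : Q.Monic) (hdvd : Q ∣ P.map (algebraMap F E)) :
    Q ∈ Polynomial.lifts (algebraMap F E) := by
  classical
  let Ω := AlgebraicClosure E
  have hP0 : P ≠ 0 := hsep.ne_zero
  have hdvd' : Q.map (algebraMap E Ω) ∣ P.map (algebraMap F Ω) := by
    have := Polynomial.map_dvd (algebraMap E Ω) hdvd
    rwa [Polynomial.map_map, ← IsScalarTower.algebraMap_eq] at this
  have hsplit : (Q.map (algebraMap E Ω)).Splits := IsAlgClosed.splits _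
  have hprod := hsplit.eq_prod_roots_of_monic (hQ.map _)
  -- roots are separable over `F`
  have hroots : ∀ r ∈ (Q.map (algebraMap E Ω)).roots, r ∈ separableClosure F Ω := by
    intro r hr
    rw [mem_separableClosure_iff]
    have hr0 : (Q.map (algebraMap E Ω)).IsRoot r := (Polynomial.mem_roots'.mp hr).2
    have hr1 : (P.map (algebraMap F Ω)).IsRoot r := by
      obtain ⟨c, hc⟩ := hdvd'
      rw [hc, IsRoot, eval_mul, hr0, zero_mul]
    have hr2 : aeval r P = 0 := by rwa [IsRoot, eval_map_algebraMap] at hr1
    exact hsep.of_dvd (minpoly.dvd F r hr2)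
  have hmem : Q.map (algebraMap E Ω) ∈
      Polynomial.liftsRing (algebraMap (separableClosure F Ω) Ω) := by
    rw [hprod]
    refine Subring.multiset_prod_mem _ _ ?_
    intro p hp
    rw [Multiset.mem_map] at hp
    obtain ⟨r, hr, rfl⟩ := hp
    refine Subring.sub_mem _ ((lifts_iff_liftsRing _ _).mp (X_mem_lifts _)) ?_
    exact (lifts_iff_liftsRing _ _).mp
      (C_mem_lifts (algebraMap (separableClosure F Ω) Ω) ⟨r, hroots r hr⟩)
  rw [Polynomial.lifts_iff_coeff_lifts]
  intro n
  have hn : (Q.map (algebraMap E Ω)).coeff n ∈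
      Set.range (algebraMap (separableClosure F Ω) Ω) :=
    (Polynomial.lifts_iff_coeff_lifts _).mp ((lifts_iff_liftsRing _ _).mpr hmem) n
  obtain ⟨s, hs⟩ := hn
  have hs' : IsSeparable F (algebraMap E Ω (Q.coeff n)) := by
    rw [coeff_map] at hs
    rw [← hs]
    exact (mem_separableClosure_iff).mp s.2
  have hs'' : IsSeparable F (Q.coeff n) := by
    unfold IsSeparable at hs' ⊢
    rwa [minpoly.algebraMap_eq (algebraMap E Ω).injective] at hs'
  exact h _ hs''

/-- An irreducible separable polynomial over `F` stays irreducible over `E` when `F` is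
separably closed in `E`. -/
theorem irreducible_map (h : SepClosedIn F E) {P : F[X]} (hsep : P.Separable)
    (hirr : Irreducible P) : Irreducible (P.map (algebraMap F E)) := by
  have hnu : ¬ IsUnit (P.map (algebraMap F E)) := by
    intro hu
    have := Polynomial.natDegree_eq_zero_of_isUnit hu
    rw [natDegree_map] at this
    exact hirr.natDegree_pos.ne' this
  obtain ⟨Q, hQm, hQirr, hQdvd⟩ :=
    Polynomial.exists_monic_irreducible_factor _ hnu
  obtain ⟨Q₀, hQ₀⟩ := mem_lifts_of_dvd h hsep hQm hQdvd
  have hdvd0 : Q₀ ∣ P := by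
    rw [← Polynomial.map_dvd_map' (algebraMap F E)]
    have hQ₀' : Q₀.map (algebraMap F E) = Q := hQ₀
    rw [hQ₀']; exact hQdvd
  have hQ₀nu : ¬ IsUnit Q₀ := by
    intro hu
    apply hQirr.not_isUnit
    rw [← hQ₀]
    exact hu.map (Polynomial.mapRingHom (algebraMap F E))
  have hassoc : Associated Q₀ P := by
    rcases hdvd0 with ⟨c, hc⟩
    rcases hirr.isUnit_or_isUnit hc with hu | hu
    · exact absurd hu hQ₀nu
    · exact ⟨hu.unit, by rw [hc]; simp⟩
  have hassoc' : Associated Q (P.map (algebraMap F E)) := by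
    rw [← hQ₀]
    exact hassoc.map (Polynomial.mapRingHom (algebraMap F E)).toMonoidHom
  exact hassoc'.irreducible hQirr

end basic


section disjoint
variable {F : Type u} {E : Type v} [Field F] [Field E] [Algebra F E]
variable {Ω : Type w} [Field Ω] [Algebra F Ω] [Algebra E Ω] [IsScalarTower F E Ω]

theorem minpoly_eq_map (h : SepClosedIn F E) {α : Ω} (hα : IsSeparable F α) :
    minpoly E α = (minpoly F α).map (algebraMap F E) := by
  have hint : IsIntegral F α := hα.isIntegral
  have hirr := irreducible_map h hα (minpoly.irreducible hint)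
  symm
  refine minpoly.eq_of_irreducible_of_monic hirr ?_ ((minpoly.monic hint).map _)
  rw [aeval_map_algebraMap, minpoly.aeval]

theorem linearDisjoint_adjoin_simple (h : SepClosedIn F E) {α : Ω} (hα : IsSeparable F α) :
    (F⟮α⟯).LinearDisjoint E := by
  have hint : IsIntegral F α := hα.isIntegral
  let pb := IntermediateField.adjoin.powerBasis hint
  refine IntermediateField.LinearDisjoint.of_basis_left pb.basis ?_
  have hmin := minpoly_eq_map h hα
  have hdeg : (minpoly E α).natDegree = pb.dim := by
    rw [hmin, natDegree_map]; rfl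
  have hli := linearIndependent_pow (K := E) α
  have hli' := hli.comp (Fin.cast hdeg.symm) (Fin.cast_injective _)
  convert hli' using 1
  ext i
  have := pb.basis_eq_pow i
  simp only [Function.comp_apply, IntermediateField.coe_val]
  rw [this]
  simp [pb]

theorem linearDisjoint_of_finite_separable (h : SepClosedIn F E) (F' : IntermediateField F Ω)
    [FiniteDimensional F F'] [Algebra.IsSeparable F F'] : F'.LinearDisjoint E := by
  obtain ⟨α, hα⟩ := Field.exists_primitive_element F F'
  have hα' : IsSeparable F (α : Ω) := by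
    have h1 : IsSeparable F α := Algebra.IsSeparable.isSeparable F α
    unfold IsSeparable at h1 ⊢
    rwa [← minpoly.algebraMap_eq (algebraMap F' Ω).injective] at h1
  have heq : F⟮(α : Ω)⟯ = F' := by
    have h2 := congrArg (IntermediateField.map F'.val) hα
    rw [IntermediateField.adjoin_map] at h2
    simp only [Set.image_singleton, IntermediateField.coe_val] at h2
    rw [h2, ← AlgHom.fieldRange_eq_map, IntermediateField.fieldRange_val]
  rw [← heq]
  exact linearDisjoint_adjoin_simple h hα'

theorem linearDisjoint_separableClosure (h : SepClosedIn F E) :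
    (separableClosure F Ω).LinearDisjoint E := by
  unfold IntermediateField.LinearDisjoint Subalgebra.LinearDisjoint
  refine Submodule.LinearDisjoint.of_linearDisjoint_fg_left _ _ ?_
  intro M' hM' hfg
  obtain ⟨t, ht⟩ := hfg
  have htS : ∀ x ∈ (t : Set Ω), x ∈ separableClosure F Ω := by
    intro x hx
    exact hM' (ht ▸ Submodule.subset_span hx)
  let F' : IntermediateField F Ω := IntermediateField.adjoin F (t : Set Ω)
  have hsepx : ∀ x ∈ (t : Set Ω), IsSeparable F x := fun x hx =>
    mem_separableClosure_iff.mp (htS x hx)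
  have : FiniteDimensional F F' :=
    IntermediateField.finiteDimensional_adjoin (fun x hx => (hsepx x hx).isIntegral)
  have : Algebra.IsSeparable F F' :=
    (IntermediateField.isSeparable_adjoin_iff_isSeparable F Ω).mpr hsepx
  have hF' := linearDisjoint_of_finite_separable (Ω := Ω) h F'
  unfold IntermediateField.LinearDisjoint Subalgebra.LinearDisjoint at hF'
  refine Submodule.LinearDisjoint.of_le_left_of_flat hF' ?_
  rw [← ht, Submodule.span_le]
  intro x hx
  exact IntermediateField.subset_adjoin F _ hx

end disjoint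


section irr
variable {F : Type u} {E : Type v} [Field F] [Field E] [Algebra F E]

theorem isDomain_sepClosure_tensor (h : SepClosedIn F E) (A : Type w) [Field A] [Algebra F A] :
    IsDomain ((separableClosure F A) ⊗[F] E) := by
  let Ω := AlgebraicClosure E
  let S := separableClosure F A
  have : Algebra.IsAlgebraic F S := inferInstance
  let fa : S →ₐ[F] Ω := IsAlgClosed.lift
  let fb : E →ₐ[F] Ω := IsScalarTower.toAlgHom F E Ω
  have hle : fa.fieldRange ≤ separableClosure F Ω := by
    rintro _ ⟨s, rfl⟩
    rw [mem_separableClosure_iff]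
    have hs : IsSeparable F s := Algebra.IsSeparable.isSeparable F s
    unfold IsSeparable at hs ⊢
    change (minpoly F (fa s)).Separable
    rwa [minpoly.algHom_eq fa fa.injective]
  have H0 := linearDisjoint_separableClosure (Ω := Ω) h
  have H1 : fa.fieldRange.LinearDisjoint E := H0.of_le_left hle
  have H : fa.fieldRange.LinearDisjoint fb.fieldRange := by
    rw [IntermediateField.linearDisjoint_iff']
    exact H1
  exact IntermediateField.LinearDisjoint.isDomain' H

theorem irreducibleSpace_tensor (h : SepClosedIn F E) (A : Type w) [Field A] [Algebra F A]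
    [Algebra.IsAlgebraic F A] : IrreducibleSpace (PrimeSpectrum (A ⊗[F] E)) := by
  let S := separableClosure F A
  have : IsDomain (S ⊗[F] E) := isDomain_sepClosure_tensor h A
  have : IsPurelyInseparable S A := separableClosure.isPurelyInseparable F A
  have hh := PrimeSpectrum.isHomeomorph_comap_tensorProductMap_of_isPurelyInseparable
    (K := S) (R := F) (S := E) A
  have : IrreducibleSpace (PrimeSpectrum (S ⊗[F] E)) := inferInstance
  exact (hh.homeomorph).irreducibleSpace_iff.mpr this

theorem irreducibleSpace_tensor' (h : SepClosedIn F E) (A : Type w) [Field A] [Algebra F A]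
    [Algebra.IsAlgebraic F A] : IrreducibleSpace (PrimeSpectrum (E ⊗[F] A)) := by
  have := irreducibleSpace_tensor h A
  let e : E ⊗[F] A ≃+* A ⊗[F] E := (Algebra.TensorProduct.comm F E A).toRingEquiv
  exact (PrimeSpectrum.homeomorphOfRingEquiv e).irreducibleSpace_iff.mpr this

end irr


section conv
variable {F : Type u} {E : Type v} [Field F] [Field E] [Algebra F E]

/-- If `θ ∈ E` is separable over `F` and not in `F`, then the spectrum of `E ⊗ F(θ)` is not
irreducible. -/
theorem not_isPrime_nilradical_of_not_mem {θ : E} (hsep : IsSeparable F θ)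
    (hθ : θ ∉ (algebraMap F E).range) : ¬ (nilradical (E ⊗[F] F⟮θ⟯)).IsPrime := by
  classical
  intro hprime
  have hint : IsIntegral F θ := hsep.isIntegral
  set P := minpoly F θ with hP
  let γ : F⟮θ⟯ := AdjoinSimple.gen F θ
  have hroot : (P.map (algebraMap F E)).IsRoot θ := by
    rw [IsRoot, eval_map_algebraMap, hP, minpoly.aeval]
  obtain ⟨Q, hQ⟩ := dvd_iff_isRoot.mpr hroot
  -- `Q θ ≠ 0`
  have hder : aeval θ (derivative P) ≠ 0 :=
    hsep.aeval_derivative_ne_zero (minpoly.aeval F θ)
  have hQθ : eval θ Q ≠ 0 := by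
    have h1 : derivative (P.map (algebraMap F E)) = Q + (X - C θ) * derivative Q := by
      rw [hQ, derivative_mul]; simp
    have h2 : eval θ (derivative (P.map (algebraMap F E))) = eval θ Q := by
      rw [h1]; simp
    rw [← h2, derivative_map, eval_map_algebraMap]
    exact hder
  -- the degree of `Q` is positive
  have hdeg2 : 2 ≤ P.natDegree := (minpoly.two_le_natDegree_iff hint).mpr hθ
  have hQ0 : Q ≠ 0 := by
    rintro rfl
    simp at hQθ
  have hQdeg : Q.natDegree ≠ 0 := by
    have h3 : (P.map (algebraMap F E)).natDegree = 1 + Q.natDegree := by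
      rw [hQ, natDegree_mul (X_sub_C_ne_zero θ) hQ0, natDegree_X_sub_C]
    rw [natDegree_map] at h3
    omega
  -- another root
  let Ω := AlgebraicClosure E
  obtain ⟨θ', hθ'⟩ := IsAlgClosed.exists_aeval_eq_zero Ω Q
    (by
      intro h0
      exact hQdeg (natDegree_eq_zero_iff_degree_le_zero.mpr h0.le))
  have hθ'P : aeval θ' P = 0 := by
    have h4 : aeval θ' (P.map (algebraMap F E)) = 0 := by
      rw [hQ, map_mul, hθ', mul_zero]
    rwa [aeval_map_algebraMap] at h4
  have hne : algebraMap E Ω θ ≠ θ' := by
    intro heq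
    apply hQθ
    have h5 : aeval (algebraMap E Ω θ) Q = 0 := by rw [heq, hθ']
    rw [aeval_algebraMap_apply, coe_aeval_eq_eval] at h5
    exact (map_eq_zero _).mp h5
  -- the two homomorphisms
  let φ : F⟮θ⟯ →ₐ[F] Ω := (algHomAdjoinIntegralEquiv F hint).symm
    ⟨θ', by rw [mem_aroots]; exact ⟨minpoly.ne_zero hint, hθ'P⟩⟩
  have hφ : φ γ = θ' := algHomAdjoinIntegralEquiv_symm_apply_gen F hint _
  let ν : E ⊗[F] F⟮θ⟯ →ₐ[E] Ω :=
    Algebra.TensorProduct.lift (Algebra.ofId E Ω) φ (fun _ _ => Commute.all _ _)
  let μ : E ⊗[F] F⟮θ⟯ →ₐ[E] E :=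
    Algebra.TensorProduct.lift (Algebra.ofId E E) (F⟮θ⟯.val) (fun _ _ => Commute.all _ _)
  -- the two zero divisors
  let a : E ⊗[F] F⟮θ⟯ := θ ⊗ₜ 1 - 1 ⊗ₜ γ
  let b : E ⊗[F] F⟮θ⟯ := aeval ((1 : E) ⊗ₜ[F] γ) Q
  have hab : a * b = 0 := by
    have h6 : aeval ((1 : E) ⊗ₜ[F] γ) (P.map (algebraMap F E)) = 0 := by
      rw [aeval_map_algebraMap]
      have : ((1 : E) ⊗ₜ[F] γ) = (Algebra.TensorProduct.includeRight : F⟮θ⟯ →ₐ[F] E ⊗[F] F⟮θ⟯) γ :=
        rfl
      rw [this, aeval_algHom_apply]
      have hγ : aeval γ P = 0 := by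
        rw [hP]; exact minpoly_gen F θ ▸ minpoly.aeval F γ
      rw [hγ, map_zero]
    rw [hQ, map_mul] at h6
    have h7 : aeval ((1 : E) ⊗ₜ[F] γ) (X - C θ) = - a := by
      simp only [map_sub, aeval_X, aeval_C, a]
      rw [Algebra.TensorProduct.algebraMap_apply]
      simp
    rw [h7] at h6
    have h6' : -a * b = 0 := h6
    calc a * b = -(-a * b) := by ring
      _ = 0 := by rw [h6', neg_zero]
  have ha : a ∉ nilradical (E ⊗[F] F⟮θ⟯) := by
    intro hn
    obtain ⟨n, hn⟩ := mem_nilradical.mp hn
    have h8 : ν a = algebraMap E Ω θ - θ' := by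
      simp [a, ν, hφ]
    have h9 : (ν a) ^ n = 0 := by
      have := map_pow ν.toRingHom a n
      rw [hn, map_zero] at this
      exact this.symm
    rw [h8] at h9
    exact hne (sub_eq_zero.mp (IsNilpotent.eq_zero ⟨n, h9⟩))
  have hb : b ∉ nilradical (E ⊗[F] F⟮θ⟯) := by
    intro hn
    obtain ⟨n, hn⟩ := mem_nilradical.mp hn
    have h8 : μ b = eval θ Q := by
      simp only [b]
      rw [← aeval_algHom_apply]
      simp [μ, γ, coe_aeval_eq_eval]
    have h9 : (μ b) ^ n = 0 := by
      have := map_pow μ.toRingHom b n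
      rw [hn, map_zero] at this
      exact this.symm
    rw [h8] at h9
    exact hQθ (IsNilpotent.eq_zero ⟨n, h9⟩)
  have := hprime.mem_or_mem (show a * b ∈ nilradical _ by rw [hab]; exact zero_mem _)
  rcases this with h | h
  · exact ha h
  · exact hb h

end conv

end Groth.Agent.Lib.T2H2.SepClosed
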