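import Mathlib
import Groth.Agent.Lib.T2H2SepClosed

set_option autoImplicit false

namespace Groth.Agent.Lib.T2H2.SepClosed

open Polynomial IntermediateField

universe u v w

section powmem
variable {L : Type u} {M : Type v} [Field L] [Field M] [Algebra L M]

theorem exists_pow_mem_of_isIntegral (h : SepClosedIn L M) (q : ℕ) [ExpChar L q] {c : M}
    (hc : IsIntegral L c) : ∃ n : ℕ, c ^ q ^ n ∈ (algebraMap L M).range := by
  obtain ⟨g, h1, n, h2⟩ := (minpoly.irreducible hc).hasSeparableContraction q
  exact ⟨n, h _ <| h1.of_dvd <| minpoly.dvd L _ <| by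
      simpa only [expand_aeval, minpoly.aeval] using congr_arg (aeval c) h2⟩

end powmem

section ratfunc
variable {L : Type u} {M : Type v} {Ω : Type w} [Field L] [Field M] [Field Ω]
  [Algebra L M] [Algebra M Ω] [Algebra L Ω] [IsScalarTower L M Ω]
variable {σ : Type*} {x : σ → Ω}

attribute [local instance] MvPolynomial.algebraMvPolynomial

/-- Key integrality statement: an element of `M(x)` algebraic over `L(x)` is of the form
`aeval x W / aeval x d` with `d ∈ L[x]` nonzero and `W ∈ M[x]` with coefficients integral over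
`L`. -/
theorem exists_integral_coeff (hx : AlgebraicIndependent M x) {u : Ω}
    (hu : u ∈ IntermediateField.adjoin M (Set.range x))
    (halg : IsAlgebraic (IntermediateField.adjoin L (Set.range x)) u) :
    ∃ (d : MvPolynomial σ L) (W : MvPolynomial σ M), d ≠ 0 ∧
      (∀ n, IsIntegral L (W.coeff n)) ∧
      MvPolynomial.aeval x d * u = MvPolynomial.aeval x W := by
  classical
  have hxL : AlgebraicIndependent L x := hx.restrictScalars (algebraMap L M).injective
  let φL : MvPolynomial σ L →+* Ω := (MvPolynomial.aeval x : MvPolynomial σ L →ₐ[L] Ω).toRingHom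
  let φM : MvPolynomial σ M →+* Ω := (MvPolynomial.aeval x : MvPolynomial σ M →ₐ[M] Ω).toRingHom
  let m : MvPolynomial σ L →+* MvPolynomial σ M := MvPolynomial.map (algebraMap L M)
  have hφ : φM.comp m = φL := by
    ext a
    · simp [φM, φL, m, ← IsScalarTower.algebraMap_apply]
    · simp [φM, φL, m]
  have hφLinj : Function.Injective φL := hxL
  have hφMinj : Function.Injective φM := hx
  -- step 1: an integral multiple
  obtain ⟨d, hd0, hdint⟩ : ∃ d : MvPolynomial σ L, d ≠ 0 ∧ φL.IsIntegralElem (φL d * u) := by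
    open scoped IntermediateField.algebraAdjoinAdjoin in
    have h1 : IsAlgebraic (Algebra.adjoin L (Set.range x)) u :=
      (IsFractionRing.isAlgebraic_iff (Algebra.adjoin L (Set.range x))
        (IntermediateField.adjoin L (Set.range x)) Ω).mpr halg
    obtain ⟨y, hy0, hyint⟩ := h1.exists_integral_multiple
    have hy : (y : Ω) ∈ (MvPolynomial.aeval x : MvPolynomial σ L →ₐ[L] Ω).range := by
      rw [← Algebra.adjoin_range_eq_range_aeval]; exact y.2
    obtain ⟨d, hd⟩ := hy
    refine ⟨d, ?_, ?_⟩
    · rintro rfl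
      apply hy0
      ext
      rw [← hd]; simp
    · obtain ⟨p, hpm, hp⟩ := hyint
      -- lift `p` along the surjection onto the adjoin
      let f : MvPolynomial σ L →+* Algebra.adjoin L (Set.range x) :=
        ((MvPolynomial.aeval x : MvPolynomial σ L →ₐ[L] Ω).codRestrict
          (Algebra.adjoin L (Set.range x)) (fun a => by
            rw [Algebra.adjoin_range_eq_range_aeval]; exact ⟨a, rfl⟩)).toRingHom
      have hf : Function.Surjective f := by
        rintro ⟨z, hz⟩
        rw [Algebra.adjoin_range_eq_range_aeval] at hz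
        obtain ⟨a, rfl⟩ := hz
        exact ⟨a, rfl⟩
      obtain ⟨p', hp'map, -, hp'm⟩ :=
        Polynomial.lifts_and_natDegree_eq_and_monic (Polynomial.mem_lifts_of_surjective hf p) hpm
      refine ⟨p', hp'm, ?_⟩
      have hcomp : φL = (algebraMap (Algebra.adjoin L (Set.range x)) Ω).comp f := by
        ext a <;> rfl
      have hyu : φL d * u = y • u := by
        rw [Algebra.smul_def]; congr 1
      rw [hyu, hcomp, ← Polynomial.eval₂_map, hp'map]
      exact hp
  obtain ⟨p, hpm, hp⟩ := hdint
  -- step 2: write `u` as a fraction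
  obtain ⟨r, s, hrs⟩ := (IntermediateField.mem_adjoin_range_iff M x u).mp hu
  -- step 3: the multiple lies in `M[x]`
  obtain ⟨W, hW⟩ : ∃ W : MvPolynomial σ M, φM W = φL d * u := by
    by_cases hs0 : s = 0
    · refine ⟨0, ?_⟩
      rw [hrs, hs0]; simp
    let K := FractionRing (MvPolynomial σ M)
    let ι : K →+* Ω := IsFractionRing.lift hφMinj
    have hι : ∀ a : MvPolynomial σ M, ι (algebraMap _ K a) = φM a := fun a =>
      IsFractionRing.lift_algebraMap hφMinj a
    let w' : K := algebraMap _ K (m d * r) / algebraMap _ K s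
    have hw' : ι w' = φL d * u := by
      simp only [w', map_div₀, hι, map_mul]
      rw [hrs, ← hφ]
      simp only [RingHom.comp_apply]
      rw [mul_div_assoc]
      rfl
    have hint : IsIntegral (MvPolynomial σ M) w' := by
      refine ⟨p.map m, hpm.map m, ?_⟩
      apply ι.injective
      rw [map_zero, Polynomial.hom_eval₂, hw', Polynomial.eval₂_map]
      have : (ι.comp (algebraMap (MvPolynomial σ M) K)).comp m = φL := by
        rw [← hφ]; congr 1; exact RingHom.ext hι
      rw [this]; exact hp
    obtain ⟨W, hWeq⟩ := IsIntegrallyClosed.isIntegral_iff.mp hint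
    exact ⟨W, by rw [← hι, hWeq, hw']⟩
  refine ⟨d, W, hd0, ?_, hW.symm⟩
  -- step 4: integrality of `W` over `L[x]`
  have hWint : IsIntegral (MvPolynomial σ L) W := by
    refine ⟨p, hpm, ?_⟩
    apply hφMinj
    rw [map_zero, Polynomial.hom_eval₂, hW]
    have : φM.comp (algebraMap (MvPolynomial σ L) (MvPolynomial σ M)) = φL := hφ
    rw [this]; exact hp
  exact MvPolynomial.isIntegral_iff_isIntegral_coeff.mp hWint

/-- If `L` is separably closed in `M` and `x` is algebraically independent over `M`, then `L(x)`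
is separably closed in `M(x)`. -/
theorem mem_adjoin_of_isSeparable (h : SepClosedIn L M) (hx : AlgebraicIndependent M x) {u : Ω}
    (hu : u ∈ IntermediateField.adjoin M (Set.range x))
    (hsep : IsSeparable (IntermediateField.adjoin L (Set.range x)) u) :
    u ∈ IntermediateField.adjoin L (Set.range x) := by
  classical
  set A := IntermediateField.adjoin L (Set.range x) with hA
  obtain ⟨d, W, hd0, hWint, hdW⟩ := exists_integral_coeff hx hu hsep.isIntegral.isAlgebraic
  have hxL : AlgebraicIndependent L x := hx.restrictScalars (algebraMap L M).injective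
  let q := ringExpChar L
  have : ExpChar L q := ringExpChar.expChar L
  have : ExpChar A q := expChar_of_injective_algebraMap (algebraMap L A).injective q
  have hcoef : ∀ n, algebraMap M Ω (W.coeff n) ∈ perfectClosure A Ω := by
    intro n
    obtain ⟨e, c, hc⟩ := exists_pow_mem_of_isIntegral h q (hWint n)
    rw [mem_perfectClosure_iff_pow_mem q]
    refine ⟨e, ⟨algebraMap L A c, ?_⟩⟩
    rw [← map_pow, ← hc, ← IsScalarTower.algebraMap_apply, ← IsScalarTower.algebraMap_apply]
  have hxmem : ∀ i, x i ∈ perfectClosure A Ω := fun i =>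
    (perfectClosure A Ω).algebraMap_mem ⟨x i, subset_adjoin _ _ ⟨i, rfl⟩⟩
  have hW : MvPolynomial.aeval x W ∈ perfectClosure A Ω := by
    rw [MvPolynomial.aeval_def, MvPolynomial.eval₂_eq]
    exact sum_mem fun n _ => mul_mem (hcoef n) (prod_mem fun i _ => pow_mem (hxmem i) _)
  have hdA : MvPolynomial.aeval x d ∈ A := by
    have : MvPolynomial.aeval x d ∈ Algebra.adjoin L (Set.range x) := by
      rw [Algebra.adjoin_range_eq_range_aeval]; exact ⟨d, rfl⟩
    exact IntermediateField.algebra_adjoin_le_adjoin L _ this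
  have hd : MvPolynomial.aeval x d ∈ perfectClosure A Ω :=
    (perfectClosure A Ω).algebraMap_mem ⟨_, hdA⟩
  have hd0' : MvPolynomial.aeval x d ≠ 0 := by
    intro h0
    exact hd0 (hxL (by rw [h0, map_zero]))
  have hu' : u ∈ perfectClosure A Ω := by
    have : u = MvPolynomial.aeval x W / MvPolynomial.aeval x d := by
      rw [← hdW]; field_simp
    rw [this]; exact div_mem hW hd
  have hsep' : IsSeparable A (⟨u, hu'⟩ : perfectClosure A Ω) := by
    unfold IsSeparable at hsep ⊢
    rwa [← minpoly.algebraMap_eq (algebraMap (perfectClosure A Ω) Ω).injective]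
  obtain ⟨a, ha⟩ := IsPurelyInseparable.inseparable A
    (⟨u, hu'⟩ : perfectClosure A Ω) hsep'
  have : u = (a : Ω) := by
    have := congrArg (fun z : perfectClosure A Ω => (z : Ω)) ha
    exact this.symm
  rw [this]; exact a.2

end ratfunc


section transfer
variable {A B Ω Ω' : Type*} [Field A] [Field B] [Field Ω] [Field Ω'] [Algebra A Ω] [Algebra B Ω']

theorem isSeparable_transfer (ρ : A →+* B) (σ : Ω →+* Ω')
    (hcomm : σ.comp (algebraMap A Ω) = (algebraMap B Ω').comp ρ) {θ : Ω} (h : IsSeparable A θ) :
    IsSeparable B (σ θ) := by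
  have hsep : ((minpoly A θ).map ρ).Separable := Polynomial.Separable.map h
  have hroot : Polynomial.aeval (σ θ) ((minpoly A θ).map ρ) = 0 := by
    rw [Polynomial.aeval_def, Polynomial.eval₂_map, ← hcomm, ← Polynomial.hom_eval₂,
      ← Polynomial.aeval_def, minpoly.aeval, map_zero]
  exact hsep.of_dvd (minpoly.dvd B _ hroot)

theorem isAlgebraic_transfer (ρ : A →+* B) (σ : Ω →+* Ω')
    (hcomm : σ.comp (algebraMap A Ω) = (algebraMap B Ω').comp ρ) {θ : Ω} (h : IsAlgebraic A θ) :
    IsAlgebraic B (σ θ) := by
  obtain ⟨p, hp0, hp⟩ := h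
  refine ⟨p.map ρ, (Polynomial.map_ne_zero_iff ρ.injective).mpr hp0, ?_⟩
  rw [Polynomial.aeval_def, Polynomial.eval₂_map, ← hcomm, ← Polynomial.hom_eval₂,
    ← Polynomial.aeval_def, hp, map_zero]

end transfer

section sub
variable {k : Type u} {Ω : Type v} [Field k] [Field Ω] [Algebra k Ω]

/-- the inclusion of intermediate fields, possibly over different bases, as a ring hom. -/
noncomputable def inclRingHom {k' : Type*} [Field k'] [Algebra k' Ω]
    (A : IntermediateField k Ω) (B : IntermediateField k' Ω)
    (h : ∀ z, z ∈ A → z ∈ B) : A →+* B :=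
  (A.val.toRingHom).codRestrict B (fun z => h _ z.2)

theorem inclRingHom_comm {k' : Type*} [Field k'] [Algebra k' Ω]
    (A : IntermediateField k Ω) (B : IntermediateField k' Ω)
    (h : ∀ z, z ∈ A → z ∈ B) :
    (RingHom.id Ω).comp (algebraMap A Ω) = (algebraMap B Ω).comp (inclRingHom A B h) := by
  ext z; rfl

theorem isSeparable_of_le {k' : Type*} [Field k'] [Algebra k' Ω]
    (A : IntermediateField k Ω) (B : IntermediateField k' Ω)
    (h : ∀ z, z ∈ A → z ∈ B) {θ : Ω} (hθ : IsSeparable A θ) : IsSeparable B θ :=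
  isSeparable_transfer (inclRingHom A B h) (RingHom.id Ω) (inclRingHom_comm A B h) hθ

theorem isAlgebraic_of_le {k' : Type*} [Field k'] [Algebra k' Ω]
    (A : IntermediateField k Ω) (B : IntermediateField k' Ω)
    (h : ∀ z, z ∈ A → z ∈ B) {θ : Ω} (hθ : IsAlgebraic A θ) : IsAlgebraic B θ :=
  isAlgebraic_transfer (inclRingHom A B h) (RingHom.id Ω) (inclRingHom_comm A B h) hθ

/-- Version of `mem_adjoin_of_isSeparable` for intermediate fields of a common extension. -/
theorem mem_adjoin_of_isSeparable' (L M : IntermediateField k Ω) (hLM : L ≤ M)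
    (hsc : ∀ u ∈ M, IsSeparable L u → u ∈ L) {σ : Type*} {x : σ → Ω}
    (hx : AlgebraicIndependent M x) {u : Ω}
    (hu : u ∈ adjoin k ((M : Set Ω) ∪ Set.range x))
    (hsep : IsSeparable (adjoin k ((L : Set Ω) ∪ Set.range x)) u) :
    u ∈ adjoin k ((L : Set Ω) ∪ Set.range x) := by
  let _ : Algebra L M := (IntermediateField.inclusion hLM).toAlgebra
  have : IsScalarTower L M Ω := IsScalarTower.of_algebraMap_eq (fun _ => rfl)
  have hsc' : SepClosedIn L M := by
    intro z hz
    have hz' : IsSeparable L (z : Ω) := by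
      unfold IsSeparable at hz ⊢
      have := minpoly.algebraMap_eq (A := L) (algebraMap M Ω).injective z
      rw [show algebraMap M Ω z = (z : Ω) from rfl] at this
      rwa [this]
    exact ⟨⟨z, hsc z z.2 hz'⟩, rfl⟩
  have hu' : u ∈ adjoin M (Set.range x) := by
    have := restrictScalars_adjoin k M (Set.range x)
    rw [← this] at hu
    exact hu
  have hLx := restrictScalars_adjoin k L (Set.range x)
  have hsep' : IsSeparable (adjoin L (Set.range x)) u := by
    refine isSeparable_of_le _ _ (fun z hz => ?_) hsep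
    rw [← hLx] at hz
    exact hz
  have := mem_adjoin_of_isSeparable hsc' hx hu' hsep'
  rw [← hLx]
  exact this

end sub


section maps
variable {k k' : Type*} {Ω Ω' : Type*} [Field k] [Field k'] [Field Ω] [Field Ω']
  [Algebra k Ω] [Algebra k' Ω']

/-- restriction of a ring hom to intermediate fields. -/
noncomputable def restrictHom (A : IntermediateField k Ω) (B : IntermediateField k' Ω')
    (σ : Ω →+* Ω') (h : ∀ z, z ∈ A → σ z ∈ B) : A →+* B :=
  (σ.comp A.val.toRingHom).codRestrict B (fun z => h _ z.2)

theorem restrictHom_comm (A : IntermediateField k Ω) (B : IntermediateField k' Ω')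
    (σ : Ω →+* Ω') (h : ∀ z, z ∈ A → σ z ∈ B) :
    σ.comp (algebraMap A Ω) = (algebraMap B Ω').comp (restrictHom A B σ h) := by
  ext z; rfl

theorem isSeparable_map (A : IntermediateField k Ω) (B : IntermediateField k' Ω')
    (σ : Ω →+* Ω') (h : ∀ z, z ∈ A → σ z ∈ B) {θ : Ω} (hθ : IsSeparable A θ) :
    IsSeparable B (σ θ) :=
  isSeparable_transfer (restrictHom A B σ h) σ (restrictHom_comm A B σ h) hθ

theorem isAlgebraic_map (A : IntermediateField k Ω) (B : IntermediateField k' Ω')
    (σ : Ω →+* Ω') (h : ∀ z, z ∈ A → σ z ∈ B) {θ : Ω} (hθ : IsAlgebraic A θ) :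
    IsAlgebraic B (σ θ) :=
  isAlgebraic_transfer (restrictHom A B σ h) σ (restrictHom_comm A B σ h) hθ

end maps

end Groth.Agent.Lib.T2H2.SepClosed
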