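import Mathlib
import Groth.Agent.Lib.T2H2SepClosedRat
import Groth.Agent.Lib.T2H2FgAlgClosure
import Groth.Agent.Lib.T2H2BertiniAut

set_option autoImplicit false

namespace Groth.Agent.Lib.T2H2.BertiniField

open MvPolynomial IntermediateField
open Groth.Agent.Lib.T2H2.SepClosed Groth.Agent.Lib.T2H2.FgAlgClosure
open Groth.Agent.Lib.T2H2.BertiniAut

universe u

section setup
variable {k K : Type u} [Field k] [Field K] [Algebra k K] {ι : Type}
variable (g : ι → K) (c : ι → k) (i₀ j₀ : ι)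

/-- the variables in the rational function field. -/
noncomputable def xv (i : ι) : Om K ι := algebraMap (MvPolynomial ι K) (Om K ι) (X i)

/-- the generic linear combination. -/
noncomputable def xi [Fintype ι] : Om K ι := ∑ i, algebraMap K (Om K ι) (g i) * xv i

/-- the fixed linear combination. -/
noncomputable def dl [Fintype ι] : Om K ι := algebraMap K (Om K ι) (∑ i, c i • g i)

/-- the linear form in the function field. -/
noncomputable def lamO : Om K ι := algebraMap (MvPolynomial ι K) (Om K ι) (lam c i₀ j₀)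

lemma lamO_eq : lamO (K := K) c i₀ j₀ =
    algebraMap k (Om K ι) (c i₀) * xv j₀ - algebraMap k (Om K ι) (c j₀) * xv i₀ := by
  simp only [lamO, lam, xv, map_sub, map_mul]
  rw [← MvPolynomial.algebraMap_eq, ← IsScalarTower.algebraMap_apply K (MvPolynomial ι K) (Om K ι),
    ← IsScalarTower.algebraMap_apply K (MvPolynomial ι K) (Om K ι),
    ← IsScalarTower.algebraMap_apply k K (Om K ι), ← IsScalarTower.algebraMap_apply k K (Om K ι)]

lemma sigma_xv (e : ℕ) (a : k) (i : ι) :
    sigma (K := K) c i₀ j₀ e a (xv i) =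
      xv i + algebraMap k (Om K ι) (a * c i) * lamO c i₀ j₀ ^ e := by
  rw [xv, sigma_algebraMap, tau_X]
  simp only [map_add, map_mul, map_pow]
  rw [← MvPolynomial.algebraMap_eq, ← IsScalarTower.algebraMap_apply K (MvPolynomial ι K) (Om K ι),
    ← IsScalarTower.algebraMap_apply k K (Om K ι)]
  rfl

lemma sigma_lamO (e : ℕ) (a : k) :
    sigma (K := K) c i₀ j₀ e a (lamO c i₀ j₀) = lamO c i₀ j₀ := by
  rw [lamO, sigma_algebraMap, tau_lam]

lemma sigma_algebraMapK (e : ℕ) (a : k) (r : K) :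
    sigma (K := K) c i₀ j₀ e a (algebraMap K (Om K ι) r) = algebraMap K (Om K ι) r :=
  (sigma c i₀ j₀ e a).commutes r

lemma sigma_algebraMapk (e : ℕ) (a : k) (r : k) :
    sigma (K := K) c i₀ j₀ e a (algebraMap k (Om K ι) r) = algebraMap k (Om K ι) r := by
  rw [IsScalarTower.algebraMap_apply k K (Om K ι), sigma_algebraMapK]

lemma sigma_dl [Fintype ι] (e : ℕ) (a : k) :
    sigma (K := K) c i₀ j₀ e a (dl g c) = dl g c := sigma_algebraMapK c i₀ j₀ e a _

lemma sigma_xi [Fintype ι] (e : ℕ) (a : k) :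
    sigma (K := K) c i₀ j₀ e a (xi g) =
      xi g + algebraMap k (Om K ι) a * lamO c i₀ j₀ ^ e * dl g c := by
  simp only [xi, map_sum, map_mul, sigma_algebraMapK, sigma_xv, dl]
  simp only [mul_add, Finset.sum_add_distrib]
  congr 1
  rw [Finset.mul_sum]
  refine Finset.sum_congr rfl fun i _ => ?_
  rw [Algebra.smul_def, map_mul, ← IsScalarTower.algebraMap_apply k K (Om K ι)]
  ring

lemma algebraicIndependent_xv : AlgebraicIndependent K (xv : ι → Om K ι) := by
  have h := (MvPolynomial.algebraicIndependent_X ι K).map'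
    (f := IsScalarTower.toAlgHom K (MvPolynomial ι K) (Om K ι))
    (IsFractionRing.injective (MvPolynomial ι K) (Om K ι))
  exact h

lemma aeval_xv (p : MvPolynomial ι K) :
    MvPolynomial.aeval (xv : ι → Om K ι) p = algebraMap (MvPolynomial ι K) (Om K ι) p := by
  have : (MvPolynomial.aeval (xv : ι → Om K ι)) =
      IsScalarTower.toAlgHom K (MvPolynomial ι K) (Om K ι) := by
    apply MvPolynomial.algHom_ext
    intro i
    simp [xv]
  rw [this]; rfl

lemma adjoin_xv_eq_top : IntermediateField.adjoin K (Set.range (xv : ι → Om K ι)) = ⊤ := by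
  rw [eq_top_iff]
  intro u _
  rw [IntermediateField.mem_adjoin_range_iff]
  obtain ⟨p, q, _, rfl⟩ := IsFractionRing.div_surjective (A := MvPolynomial ι K) u
  exact ⟨p, q, by rw [aeval_xv, aeval_xv]⟩

/-- `k(x)` is separably closed in `K(x)` if `k` is separably closed in `K`. -/
lemma sepClosed_K0 (hsc : SepClosedIn k K) (u : Om K ι)
    (hu : IsSeparable (IntermediateField.adjoin k (Set.range (xv : ι → Om K ι))) u) :
    u ∈ IntermediateField.adjoin k (Set.range (xv : ι → Om K ι)) :=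
  mem_adjoin_of_isSeparable hsc algebraicIndependent_xv
    (by rw [adjoin_xv_eq_top]; exact IntermediateField.mem_top) hu

end setup


section core
variable {k K : Type u} [Field k] [Field K] [Algebra k K] {ι : Type} [Fintype ι]
variable (g : ι → K) (c : ι → k) (i₀ j₀ : ι)

lemma mapsTo_adjoin {Ω : Type*} [Field Ω] [Algebra k Ω] (f : Ω →ₐ[k] Ω) (S : Set Ω)
    (B : IntermediateField k Ω) (h : ∀ s ∈ S, f s ∈ B) : ∀ z ∈ IntermediateField.adjoin k S, f z ∈ B := by
  have : IntermediateField.adjoin k S ≤ B.comap f := by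
    rw [IntermediateField.adjoin_le_iff]
    intro s hs
    exact h s hs
  intro z hz
  exact this hz

/-- the field `k(x)`. -/
noncomputable def K0 : IntermediateField k (Om K ι) :=
  IntermediateField.adjoin k (Set.range (xv : ι → Om K ι))

/-- the field `k(x, ξ + h δ)`. -/
noncomputable def K1 (h : Om K ι) : IntermediateField k (Om K ι) :=
  IntermediateField.adjoin k (Set.range (xv : ι → Om K ι) ∪ {xi g + h * dl g c})

/-- the field `k(x, ξ, δ)`. -/
noncomputable def K2 : IntermediateField k (Om K ι) :=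
  IntermediateField.adjoin k (Set.range (xv : ι → Om K ι) ∪ {xi g, dl g c})

lemma xv_mem_K0 (i : ι) : (xv i : Om K ι) ∈ K0 (k := k) (K := K) (ι := ι) :=
  IntermediateField.subset_adjoin _ _ ⟨i, rfl⟩

lemma K0_le_K1 (h : Om K ι) : K0 (k := k) ≤ K1 g c h :=
  IntermediateField.adjoin.mono _ _ _ Set.subset_union_left

lemma K0_le_K2 : K0 (k := k) ≤ K2 g c :=
  IntermediateField.adjoin.mono _ _ _ Set.subset_union_left

lemma gen_mem_K1 (h : Om K ι) : xi g + h * dl g c ∈ K1 (k := k) g c h :=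
  IntermediateField.subset_adjoin _ _ (Set.mem_union_right _ rfl)

lemma xi_mem_K2 : xi g ∈ K2 (k := k) g c :=
  IntermediateField.subset_adjoin _ _ (Set.mem_union_right _ (by simp))

lemma dl_mem_K2 : dl g c ∈ K2 (k := k) g c :=
  IntermediateField.subset_adjoin _ _ (Set.mem_union_right _ (by simp))

lemma lamO_mem_K0 : lamO (K := K) c i₀ j₀ ∈ K0 (k := k) (K := K) (ι := ι) := by
  rw [lamO_eq]
  exact sub_mem (mul_mem (IntermediateField.algebraMap_mem _ _) (xv_mem_K0 _)) (mul_mem (IntermediateField.algebraMap_mem _ _) (xv_mem_K0 _))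

lemma K1_le_K2 {h : Om K ι} (hh : h ∈ K0 (k := k) (K := K) (ι := ι)) : K1 (k := k) g c h ≤ K2 g c := by
  rw [K1, IntermediateField.adjoin_le_iff]
  rintro z (⟨i, rfl⟩ | hz)
  · exact K0_le_K2 g c (xv_mem_K0 i)
  · rw [Set.mem_singleton_iff] at hz
    rw [hz]
    exact add_mem (xi_mem_K2 g c) (mul_mem (K0_le_K2 g c hh) (dl_mem_K2 g c))

/-- `sigma` as a `k`-algebra homomorphism. -/
noncomputable def sigk (e : ℕ) (a : k) : Om K ι →ₐ[k] Om K ι :=
  (sigma (K := K) c i₀ j₀ e a).restrictScalars k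

lemma sigk_apply (e : ℕ) (a : k) (u : Om K ι) :
    sigk (K := K) c i₀ j₀ e a u = sigma c i₀ j₀ e a u := rfl

lemma sigk_xv_mem (e : ℕ) (a : k) (i : ι) :
    sigk (K := K) c i₀ j₀ e a (xv i) ∈ K0 (k := k) (K := K) (ι := ι) := by
  rw [sigk_apply, sigma_xv]
  exact add_mem (xv_mem_K0 i) (mul_mem (IntermediateField.algebraMap_mem _ _) (pow_mem (lamO_mem_K0 c i₀ j₀) e))

lemma sigk_mapsTo_K0 (e : ℕ) (a : k) :
    ∀ z ∈ K0 (k := k) (K := K) (ι := ι), sigk (K := K) c i₀ j₀ e a z ∈ K0 (k := k) (K := K) (ι := ι) := by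
  apply mapsTo_adjoin
  rintro _ ⟨i, rfl⟩
  exact sigk_xv_mem c i₀ j₀ e a i

lemma sigk_mapsTo_K1 (e : ℕ) :
    ∀ z ∈ K1 (k := k) g c 0, sigk (K := K) c i₀ j₀ e 1 z ∈ K1 (k := k) g c (lamO c i₀ j₀ ^ e) := by
  apply mapsTo_adjoin
  rintro z (⟨i, rfl⟩ | hz)
  · exact K0_le_K1 g c _ (sigk_xv_mem c i₀ j₀ e 1 i)
  · rw [Set.mem_singleton_iff] at hz
    rw [hz, sigk_apply, zero_mul, add_zero, sigma_xi, map_one, one_mul]
    exact gen_mem_K1 g c _

lemma sigk_neg_mapsTo_K1 (e : ℕ) :
    ∀ z ∈ K1 (k := k) g c (lamO c i₀ j₀ ^ e), sigk (K := K) c i₀ j₀ e (-1) z ∈ K1 (k := k) g c 0 := by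
  apply mapsTo_adjoin
  rintro z (⟨i, rfl⟩ | hz)
  · exact K0_le_K1 g c _ (sigk_xv_mem c i₀ j₀ e (-1) i)
  · rw [Set.mem_singleton_iff] at hz
    rw [hz, sigk_apply, map_add, map_mul, map_pow, sigma_lamO, sigma_dl, sigma_xi, map_neg, map_one]
    have : xi g + -1 * lamO c i₀ j₀ ^ e * dl g c + lamO c i₀ j₀ ^ e * dl g c = xi g + 0 * dl g c := by
      ring
    rw [this]
    exact gen_mem_K1 g c _

lemma lam_ne_zero [DecidableEq ι] (hc : c i₀ ≠ 0) (hij : j₀ ≠ i₀) : lam (K := K) c i₀ j₀ ≠ 0 := by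
  intro h0
  have h1 := congrArg (MvPolynomial.eval (fun i => if i = j₀ then (1 : K) else 0)) h0
  simp only [lam, map_sub, map_mul, eval_C, eval_X, map_zero, if_true, if_neg hij.symm, mul_one,
    mul_zero, sub_zero] at h1
  exact hc ((map_eq_zero _).mp h1)

lemma lam_isHomogeneous : (lam (K := K) c i₀ j₀).IsHomogeneous 1 := by
  unfold lam
  refine MvPolynomial.IsHomogeneous.sub ?_ ?_
  · have := (MvPolynomial.isHomogeneous_C ι (algebraMap k K (c i₀))).mul
      (MvPolynomial.isHomogeneous_X K j₀)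
    simpa using this
  · have := (MvPolynomial.isHomogeneous_C ι (algebraMap k K (c j₀))).mul
      (MvPolynomial.isHomogeneous_X K i₀)
    simpa using this

lemma lamO_pow_injective [DecidableEq ι] (hc : c i₀ ≠ 0) (hij : j₀ ≠ i₀) :
    Function.Injective (fun e : ℕ => lamO (K := K) c i₀ j₀ ^ e) := by
  intro e₁ e₂ h
  simp only [lamO, ← map_pow] at h
  have h' := IsFractionRing.injective (MvPolynomial ι K) (Om K ι) h
  have h1 := (lam_isHomogeneous (K := K) c i₀ j₀).pow e₁
  have h2 := (lam_isHomogeneous (K := K) c i₀ j₀).pow e₂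
  rw [h'] at h1
  have := h1.inj_right h2 (pow_ne_zero _ (lam_ne_zero c i₀ j₀ hc hij))
  simpa using this

lemma transcendental_dl
    (hind : AlgebraicIndependent k (Sum.elim (xv : ι → Om K ι) ![xi g, dl g c])) :
    Transcendental (K1 (k := k) g c 0) (dl g c) := by
  have h1 := hind.transcendental_adjoin (s := {Sum.inr 1}ᶜ) (i := Sum.inr 1) (by simp)
  have himg : (Sum.elim (xv : ι → Om K ι) ![xi g, dl g c]) '' {Sum.inr 1}ᶜ =
      Set.range (xv : ι → Om K ι) ∪ {xi g + 0 * dl g c} := by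
    ext w
    simp only [Set.mem_image, Set.mem_compl_iff, Set.mem_singleton_iff, Set.mem_union,
      Set.mem_range, zero_mul, add_zero]
    constructor
    · rintro ⟨(i | j), hne, rfl⟩
      · exact Or.inl ⟨i, rfl⟩
      · fin_cases j
        · exact Or.inr rfl
        · exact absurd rfl hne
    · rintro (⟨i, rfl⟩ | rfl)
      · exact ⟨Sum.inl i, by simp, rfl⟩
      · exact ⟨Sum.inr 0, by simp, rfl⟩
  rw [himg] at h1
  simp only [Sum.elim_inr, Matrix.cons_val_one, Matrix.cons_val_zero] at h1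
  intro halg
  apply h1
  open scoped IntermediateField.algebraAdjoinAdjoin in
  exact (IsFractionRing.isAlgebraic_iff
    (Algebra.adjoin k (Set.range (xv : ι → Om K ι) ∪ {xi g + 0 * dl g c}))
    (IntermediateField.adjoin k (Set.range (xv : ι → Om K ι) ∪ {xi g + 0 * dl g c}))
    (Om K ι)).mpr halg

lemma essFiniteType_Om [Algebra.EssFiniteType k K] : Algebra.EssFiniteType k (Om K ι) := by
  have h1 : Algebra.EssFiniteType K (MvPolynomial ι K) := inferInstance
  have h2 : Algebra.EssFiniteType (MvPolynomial ι K) (Om K ι) :=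
    .of_isLocalization _ (nonZeroDivisors _)
  have h3 : Algebra.EssFiniteType K (Om K ι) := .comp K (MvPolynomial ι K) (Om K ι)
  exact .comp k K (Om K ι)

theorem core [DecidableEq ι] [Algebra.EssFiniteType k K] (hsc : SepClosedIn k K)
    (hind : AlgebraicIndependent k (Sum.elim (xv : ι → Om K ι) ![xi g, dl g c]))
    (hc : c i₀ ≠ 0) (hij : j₀ ≠ i₀) (θ : Om K ι) (hθ : IsSeparable (K1 (k := k) g c 0) θ) :
    θ ∈ K1 (k := k) g c 0 := by
  classical
  set Λ := lamO (K := K) c i₀ j₀ with hΛ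
  have hΛ0 : ∀ e, Λ ^ e ∈ K0 (k := k) (K := K) (ι := ι) :=
    fun e => pow_mem (lamO_mem_K0 c i₀ j₀) e
  -- the conjugates
  let th : ℕ → Om K ι := fun e => sigk (K := K) c i₀ j₀ e 1 θ
  have hth1 : ∀ e, IsSeparable (K1 (k := k) g c (Λ ^ e)) (th e) := fun e =>
    isSeparable_map (K1 g c 0) (K1 g c (Λ ^ e)) (sigk c i₀ j₀ e 1).toRingHom
      (sigk_mapsTo_K1 g c i₀ j₀ e) hθ
  have hth2 : ∀ e, IsSeparable (K2 (k := k) g c) (th e) := fun e =>
    isSeparable_of_le _ _ (fun z hz => K1_le_K2 g c (hΛ0 e) hz) (hth1 e)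
  -- pigeonhole
  have : Algebra.EssFiniteType k (Om K ι) := essFiniteType_Om
  have : Algebra.EssFiniteType (K2 (k := k) g c) (Om K ι) :=
    Algebra.EssFiniteType.of_comp k _ _
  obtain ⟨e₁, e₂, hne, hmem⟩ := exists_ne_mem_adjoin_simple th hth2
  set B := K1 (k := k) g c (Λ ^ e₂) with hB
  set ξ₁ := xi g + Λ ^ e₁ * dl g c with hξ₁
  set ξ₂ := xi g + Λ ^ e₂ * dl g c with hξ₂
  have hΛne : Λ ^ e₁ - Λ ^ e₂ ≠ 0 :=
    sub_ne_zero.mpr (fun h => hne (lamO_pow_injective c i₀ j₀ hc hij h))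
  -- `δ` is transcendental over `B`
  have htr1 : Transcendental B (dl g c) := by
    intro halg
    have h1 := isAlgebraic_map B (K1 g c 0) (sigk c i₀ j₀ e₂ (-1)).toRingHom
      (sigk_neg_mapsTo_K1 g c i₀ j₀ e₂) halg
    have h2 : (sigk (K := K) c i₀ j₀ e₂ (-1)).toRingHom (dl g c) = dl g c :=
      sigma_dl g c i₀ j₀ e₂ (-1)
    rw [h2] at h1
    exact transcendental_dl g c hind h1
  have hdl_eq : dl g c = (ξ₁ - ξ₂) / (Λ ^ e₁ - Λ ^ e₂) := by
    rw [hξ₁, hξ₂, eq_div_iff hΛne]; ring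
  -- `ξ₁` is transcendental over `B`
  have htr2 : Transcendental B ξ₁ := by
    intro halg
    apply htr1
    let C := algebraicClosure B (Om K ι)
    have h1 : ξ₁ ∈ C := mem_algebraicClosure_iff.mpr halg
    have h2 : ξ₂ ∈ C := C.algebraMap_mem ⟨ξ₂, gen_mem_K1 g c _⟩
    have h3 : ∀ e, Λ ^ e ∈ C := fun e => C.algebraMap_mem ⟨Λ ^ e, K0_le_K1 g c _ (hΛ0 e)⟩
    have h4 : dl g c ∈ C := by
      rw [hdl_eq]; exact div_mem (sub_mem h1 h2) (sub_mem (h3 _) (h3 _))
    exact mem_algebraicClosure_iff.mp h4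
  -- the field of elements algebraic over `B`
  let C' : IntermediateField k (Om K ι) := (algebraicClosure B (Om K ι)).restrictScalars k
  have hBC : ∀ z, z ∈ B → z ∈ C' := fun z hz =>
    (algebraicClosure B (Om K ι)).algebraMap_mem ⟨z, hz⟩
  have hK0C : K0 (k := k) (K := K) (ι := ι) ≤ C' := fun z hz => hBC z (K0_le_K1 g c _ hz)
  have hsc' : ∀ u ∈ C', IsSeparable (K0 (k := k) (K := K) (ι := ι)) u →
      u ∈ K0 (k := k) (K := K) (ι := ι) := fun u _ hu => sepClosed_K0 hsc u hu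
  have hx : AlgebraicIndependent C' (fun _ : Unit => ξ₁) := by
    rw [algebraicIndependent_unique_type_iff]
    intro halg
    apply htr2
    have h1 : IsAlgebraic (algebraicClosure B (Om K ι)) ξ₁ :=
      isAlgebraic_of_le C' (algebraicClosure B (Om K ι)) (fun z hz => hz) halg
    exact h1.restrictScalars B
  have hu : th e₁ ∈ IntermediateField.adjoin k
      ((C' : Set (Om K ι)) ∪ Set.range (fun _ : Unit => ξ₁)) := by
    rw [Set.range_const]
    set D := IntermediateField.adjoin k ((C' : Set (Om K ι)) ∪ {ξ₁}) with hD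
    have hCD : ∀ z ∈ C', z ∈ D := fun z hz => IntermediateField.subset_adjoin _ _ (Or.inl hz)
    have hξ₁D : ξ₁ ∈ D := IntermediateField.subset_adjoin _ _ (Or.inr rfl)
    have hξ₂D : ξ₂ ∈ D := hCD _ (hBC _ (gen_mem_K1 g c _))
    have hΛD : ∀ e, Λ ^ e ∈ D := fun e => hCD _ (hK0C (hΛ0 e))
    have hdlD : dl g c ∈ D := by
      rw [hdl_eq]; exact div_mem (sub_mem hξ₁D hξ₂D) (sub_mem (hΛD _) (hΛD _))
    have hxiD : xi g ∈ D := by
      have h5 : xi g = ξ₁ - Λ ^ e₁ * dl g c := by rw [hξ₁]; ring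
      rw [h5]; exact sub_mem hξ₁D (mul_mem (hΛD _) hdlD)
    have hK2D : K2 (k := k) g c ≤ D := by
      rw [K2, IntermediateField.adjoin_le_iff]
      rintro z (⟨i, rfl⟩ | hz)
      · exact hCD _ (hK0C (xv_mem_K0 i))
      · rcases hz with rfl | hz
        · exact hxiD
        · rw [Set.mem_singleton_iff] at hz; rw [hz]; exact hdlD
    have hth2D : th e₂ ∈ D :=
      hCD _ (mem_algebraicClosure_iff.mpr (hth1 e₂).isIntegral.isAlgebraic)
    have h6 : ((K2 (k := k) g c)⟮th e₂⟯).restrictScalars k ≤ D := by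
      rw [IntermediateField.restrictScalars_adjoin, IntermediateField.adjoin_le_iff]
      rintro z (hz | hz)
      · exact hK2D hz
      · rw [Set.mem_singleton_iff] at hz; rw [hz]; exact hth2D
    exact h6 hmem
  have hsep : IsSeparable (IntermediateField.adjoin k
      ((K0 (k := k) (K := K) (ι := ι) : Set (Om K ι)) ∪ Set.range (fun _ : Unit => ξ₁)))
      (th e₁) := by
    refine isSeparable_of_le (K1 g c (Λ ^ e₁)) _ ?_ (hth1 e₁)
    intro z hz
    have h7 : K1 (k := k) g c (Λ ^ e₁) ≤ IntermediateField.adjoin k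
        ((K0 (k := k) (K := K) (ι := ι) : Set (Om K ι)) ∪ Set.range fun _ : Unit => ξ₁) := by
      rw [K1, IntermediateField.adjoin_le_iff]
      rintro w (⟨i, rfl⟩ | hw)
      · exact IntermediateField.subset_adjoin _ _ (Or.inl (xv_mem_K0 i))
      · rw [Set.mem_singleton_iff] at hw
        rw [hw]; exact IntermediateField.subset_adjoin _ _ (Or.inr ⟨(), rfl⟩)
    exact h7 hz
  have hfinal := mem_adjoin_of_isSeparable' (K0 (k := k) (K := K) (ι := ι)) C' hK0C hsc' hx hu hsep
  have hth1K : th e₁ ∈ K1 (k := k) g c (Λ ^ e₁) := by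
    have h8 : IntermediateField.adjoin k
        ((K0 (k := k) (K := K) (ι := ι) : Set (Om K ι)) ∪ Set.range fun _ : Unit => ξ₁) ≤
        K1 g c (Λ ^ e₁) := by
      rw [IntermediateField.adjoin_le_iff]
      rintro w (hw | ⟨_, rfl⟩)
      · exact K0_le_K1 g c _ hw
      · exact gen_mem_K1 g c _
    exact h8 hfinal
  have h9 := sigk_neg_mapsTo_K1 g c i₀ j₀ e₁ _ hth1K
  have h10 : sigk (K := K) c i₀ j₀ e₁ (-1) (th e₁) = θ := sigma_neg_sigma c i₀ j₀ e₁ 1 θ
  rwa [h10] at h9

end core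

section final
variable {k K : Type u} [Field k] [Field K] [Algebra k K] {ι : Type} [Fintype ι] [DecidableEq ι]
variable (g : ι → K) (c : ι → k)

lemma exists_indices
    (hind : AlgebraicIndependent k (Sum.elim (xv : ι → Om K ι) ![xi g, dl g c])) :
    ∃ i₀ j₀ : ι, c i₀ ≠ 0 ∧ j₀ ≠ i₀ := by
  have htr : Transcendental k (dl (ι := ι) g c) := hind.transcendental (Sum.inr 1)
  obtain ⟨i₀, hi₀⟩ : ∃ i₀, c i₀ ≠ 0 := by
    by_contra hcon
    push Not at hcon
    apply htr
    have : dl (ι := ι) g c = 0 := by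
      simp [dl, hcon]
    rw [this]
    exact isAlgebraic_zero
  by_contra hcon
  push Not at hcon
  have hall : ∀ j, j = i₀ := fun j => hcon i₀ j hi₀
  have huniv : (Finset.univ : Finset ι) = {i₀} := by
    ext j; simp [hall j]
  have hxi : xi (ι := ι) g = algebraMap K (Om K ι) (g i₀) * xv i₀ := by
    simp [xi, huniv]
  have hdl : dl (ι := ι) g c = algebraMap k (Om K ι) (c i₀) * algebraMap K (Om K ι) (g i₀) := by
    simp only [dl, huniv, Finset.sum_singleton]
    rw [Algebra.smul_def, map_mul, ← IsScalarTower.algebraMap_apply k K (Om K ι)]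
  let P : MvPolynomial (ι ⊕ Fin 2) k :=
    C (c i₀) * X (Sum.inr 0) - X (Sum.inr 1) * X (Sum.inl i₀)
  have hP : MvPolynomial.aeval (Sum.elim (xv : ι → Om K ι) ![xi g, dl g c]) P = 0 := by
    simp only [P, map_sub, map_mul, aeval_C, aeval_X, Sum.elim_inr, Sum.elim_inl,
      Matrix.cons_val_zero, Matrix.cons_val_one]
    rw [hxi, hdl]; ring
  have hP0 : P = 0 := hind (by rw [hP, map_zero])
  have h1 := congrArg (MvPolynomial.eval (Sum.elim (fun _ : ι => (0 : k)) ![1, 0])) hP0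
  simp [P] at h1
  exact hi₀ h1

theorem main (hfg : (⊤ : IntermediateField k K).FG) (hsc : SepClosedIn k K)
    (hind : AlgebraicIndependent k (Sum.elim (xv : ι → Om K ι) ![xi g, dl g c])) :
    SepClosedIn (K1 (k := k) g c 0) (Om K ι) := by
  have : Algebra.EssFiniteType k K := IntermediateField.fg_top_iff.mp hfg
  obtain ⟨i₀, j₀, hc, hij⟩ := exists_indices g c hind
  intro θ hθ
  exact ⟨⟨θ, core g c i₀ j₀ hsc hind hc hij θ hθ⟩, rfl⟩

end final

section final'
variable {k K : Type u} [Field k] [Field K] [Algebra k K] {ι : Type} [Fintype ι] [DecidableEq ι]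
variable (g : ι → K) (c : ι → k)

theorem main' (hfg : (⊤ : IntermediateField k K).FG) (hsc : SepClosedIn k K)
    (hind : AlgebraicIndependent k (Sum.elim (xv : ι → Om K ι) ![xi g, dl g c]))
    (A : IntermediateField k (Om K ι)) (hA : A = K1 (k := k) g c 0) :
    SepClosedIn A (Om K ι) := by
  subst hA
  exact main g c hfg hsc hind

end final'

end Groth.Agent.Lib.T2H2.BertiniField
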