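import Mathlib

/-!
# Naturality of the associator for the action of bifunctors on homological complexes (T2H2)

`HomologicalComplex.mapBifunctorAssociator` is natural in the three complexes.
-/

set_option autoImplicit false

open CategoryTheory Category Limits HomologicalComplex

namespace Groth.Agent.Lib.T2H2.BifAssocNat

variable {C₁ C₂ C₁₂ C₂₃ C₃ C₄ : Type*}
  [Category C₁] [Category C₂] [Category C₃] [Category C₄] [Category C₁₂] [Category C₂₃]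
  [HasZeroMorphisms C₁] [HasZeroMorphisms C₂] [HasZeroMorphisms C₃]
  [Preadditive C₁₂] [Preadditive C₂₃] [Preadditive C₄]
  {F₁₂ : C₁ ⥤ C₂ ⥤ C₁₂} {G : C₁₂ ⥤ C₃ ⥤ C₄}
  {F : C₁ ⥤ C₂₃ ⥤ C₄} {G₂₃ : C₂ ⥤ C₃ ⥤ C₂₃}
  [F₁₂.PreservesZeroMorphisms] [∀ (X₁ : C₁), (F₁₂.obj X₁).PreservesZeroMorphisms]
  [G.Additive] [∀ (X₁₂ : C₁₂), (G.obj X₁₂).PreservesZeroMorphisms]
  [G₂₃.PreservesZeroMorphisms] [∀ (X₂ : C₂), (G₂₃.obj X₂).PreservesZeroMorphisms]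
  [F.PreservesZeroMorphisms] [∀ (X₁ : C₁), (F.obj X₁).Additive]
  (associator : bifunctorComp₁₂ F₁₂ G ≅ bifunctorComp₂₃ F G₂₃)
  {ι₁ ι₂ ι₃ ι₁₂ ι₂₃ ι₄ : Type*} [DecidableEq ι₄]
  {c₁ : ComplexShape ι₁} {c₂ : ComplexShape ι₂} {c₃ : ComplexShape ι₃}
  {K₁ L₁ : HomologicalComplex C₁ c₁} {K₂ L₂ : HomologicalComplex C₂ c₂}
  {K₃ L₃ : HomologicalComplex C₃ c₃}
  (f₁ : K₁ ⟶ L₁) (f₂ : K₂ ⟶ L₂) (f₃ : K₃ ⟶ L₃)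
  (c₁₂ : ComplexShape ι₁₂) (c₂₃ : ComplexShape ι₂₃) (c₄ : ComplexShape ι₄)
  [TotalComplexShape c₁ c₂ c₁₂] [TotalComplexShape c₁₂ c₃ c₄]
  [TotalComplexShape c₂ c₃ c₂₃] [TotalComplexShape c₁ c₂₃ c₄]
  [HasMapBifunctor K₁ K₂ F₁₂ c₁₂] [HasMapBifunctor K₂ K₃ G₂₃ c₂₃]
  [HasMapBifunctor L₁ L₂ F₁₂ c₁₂] [HasMapBifunctor L₂ L₃ G₂₃ c₂₃]
  [ComplexShape.Associative c₁ c₂ c₃ c₁₂ c₂₃ c₄]
  [DecidableEq ι₁₂] [DecidableEq ι₂₃]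
  [HasMapBifunctor (mapBifunctor K₁ K₂ F₁₂ c₁₂) K₃ G c₄]
  [HasMapBifunctor K₁ (mapBifunctor K₂ K₃ G₂₃ c₂₃) F c₄]
  [HasMapBifunctor (mapBifunctor L₁ L₂ F₁₂ c₁₂) L₃ G c₄]
  [HasMapBifunctor L₁ (mapBifunctor L₂ L₃ G₂₃ c₂₃) F c₄]

lemma ι₁₂_map (i₁ : ι₁) (i₂ : ι₂) (i₃ : ι₃) (j : ι₄)
    (h : ComplexShape.r c₁ c₂ c₃ c₁₂ c₄ (i₁, i₂, i₃) = j) :
    mapBifunctor₁₂.ι F₁₂ G K₁ K₂ K₃ c₁₂ c₄ i₁ i₂ i₃ j h ≫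
      (mapBifunctorMap (mapBifunctorMap f₁ f₂ F₁₂ c₁₂) f₃ G c₄).f j =
    (G.map ((F₁₂.map (f₁.f i₁)).app (K₂.X i₂) ≫
        (F₁₂.obj (L₁.X i₁)).map (f₂.f i₂))).app (K₃.X i₃) ≫
      (G.obj ((F₁₂.obj (L₁.X i₁)).obj (L₂.X i₂))).map (f₃.f i₃) ≫
      mapBifunctor₁₂.ι F₁₂ G L₁ L₂ L₃ c₁₂ c₄ i₁ i₂ i₃ j h := by
  rw [mapBifunctor₁₂.ι_eq F₁₂ G K₁ K₂ K₃ c₁₂ c₄ i₁ i₂ i₃ _ j rfl h,
    mapBifunctor₁₂.ι_eq F₁₂ G L₁ L₂ L₃ c₁₂ c₄ i₁ i₂ i₃ _ j rfl h, assoc, ι_mapBifunctorMap,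
    ← NatTrans.comp_app_assoc, ← Functor.map_comp, ι_mapBifunctorMap, Functor.map_comp,
    Functor.map_comp, NatTrans.comp_app, NatTrans.comp_app, Functor.map_comp, NatTrans.comp_app,
    assoc, assoc, assoc, NatTrans.naturality_assoc]

attribute [reassoc] ι₁₂_map

lemma ι₂₃_map (i₁ : ι₁) (i₂ : ι₂) (i₃ : ι₃) (j : ι₄)
    (h : ComplexShape.r c₁ c₂ c₃ c₁₂ c₄ (i₁, i₂, i₃) = j) :
    mapBifunctor₂₃.ι F G₂₃ K₁ K₂ K₃ c₁₂ c₂₃ c₄ i₁ i₂ i₃ j h ≫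
      (mapBifunctorMap f₁ (mapBifunctorMap f₂ f₃ G₂₃ c₂₃) F c₄).f j =
    (F.map (f₁.f i₁)).app ((G₂₃.obj (K₂.X i₂)).obj (K₃.X i₃)) ≫
      (F.obj (L₁.X i₁)).map ((G₂₃.map (f₂.f i₂)).app (K₃.X i₃) ≫
        (G₂₃.obj (L₂.X i₂)).map (f₃.f i₃)) ≫
      mapBifunctor₂₃.ι F G₂₃ L₁ L₂ L₃ c₁₂ c₂₃ c₄ i₁ i₂ i₃ j h := by
  have h' : ComplexShape.π c₁ c₂₃ c₄ (i₁, ComplexShape.π c₂ c₃ c₂₃ (i₂, i₃)) = j := by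
    rw [← h, ← ComplexShape.assoc c₁ c₂ c₃ c₁₂ c₂₃ c₄]; rfl
  rw [mapBifunctor₂₃.ι_eq F G₂₃ K₁ K₂ K₃ c₁₂ c₂₃ c₄ i₁ i₂ i₃ _ j rfl h',
    mapBifunctor₂₃.ι_eq F G₂₃ L₁ L₂ L₃ c₁₂ c₂₃ c₄ i₁ i₂ i₃ _ j rfl h', assoc, ι_mapBifunctorMap,
    NatTrans.naturality_assoc, ← Functor.map_comp_assoc, ι_mapBifunctorMap, Functor.map_comp,
    Functor.map_comp, Functor.map_comp, assoc, assoc, assoc]

variable [HasGoodTrifunctor₁₂Obj F₁₂ G K₁ K₂ K₃ c₁₂ c₄]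
  [HasGoodTrifunctor₂₃Obj F G₂₃ K₁ K₂ K₃ c₁₂ c₂₃ c₄]
  [HasGoodTrifunctor₁₂Obj F₁₂ G L₁ L₂ L₃ c₁₂ c₄]
  [HasGoodTrifunctor₂₃Obj F G₂₃ L₁ L₂ L₃ c₁₂ c₂₃ c₄]

set_option backward.isDefEq.respectTransparency false in
/-- `mapBifunctorAssociator` is natural in the three complexes -/
theorem mapBifunctorAssociator_hom_naturality :
    mapBifunctorMap (mapBifunctorMap f₁ f₂ F₁₂ c₁₂) f₃ G c₄ ≫
        (mapBifunctorAssociator associator L₁ L₂ L₃ c₁₂ c₂₃ c₄).hom =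
      (mapBifunctorAssociator associator K₁ K₂ K₃ c₁₂ c₂₃ c₄).hom ≫
        mapBifunctorMap f₁ (mapBifunctorMap f₂ f₃ G₂₃ c₂₃) F c₄ := by
  ext j : 1
  apply mapBifunctor₁₂.hom_ext
  intro i₁ i₂ i₃ h
  have e1 : (mapBifunctorAssociator associator L₁ L₂ L₃ c₁₂ c₂₃ c₄).hom.f j =
      (mapBifunctorAssociatorX associator L₁ L₂ L₃ c₁₂ c₂₃ c₄ j).hom := rfl
  have e2 : (mapBifunctorAssociator associator K₁ K₂ K₃ c₁₂ c₂₃ c₄).hom.f j =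
      (mapBifunctorAssociatorX associator K₁ K₂ K₃ c₁₂ c₂₃ c₄ j).hom := rfl
  rw [comp_f, comp_f, e1, e2, ι₁₂_map_assoc, ι_mapBifunctorAssociatorX_hom,
    ι_mapBifunctorAssociatorX_hom_assoc]
  have e3 := ι₂₃_map (F := F) (G₂₃ := G₂₃) f₁ f₂ f₃ c₁₂ c₂₃ c₄ i₁ i₂ i₃ j h
  rw [e3]
  have n1 := NatTrans.naturality_app_app associator.hom (f₁.f i₁) (K₂.X i₂) (K₃.X i₃)
  have n2 := NatTrans.naturality_app (associator.hom.app (L₁.X i₁)) (K₃.X i₃) (f₂.f i₂)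
  have n3 := ((associator.hom.app (L₁.X i₁)).app (L₂.X i₂)).naturality (f₃.f i₃)
  have n1' : (G.map ((F₁₂.map (f₁.f i₁)).app (K₂.X i₂))).app (K₃.X i₃) ≫
      ((associator.hom.app (L₁.X i₁)).app (K₂.X i₂)).app (K₃.X i₃) =
      ((associator.hom.app (K₁.X i₁)).app (K₂.X i₂)).app (K₃.X i₃) ≫
        (F.map (f₁.f i₁)).app ((G₂₃.obj (K₂.X i₂)).obj (K₃.X i₃)) := n1
  have n2' : (G.map ((F₁₂.obj (L₁.X i₁)).map (f₂.f i₂))).app (K₃.X i₃) ≫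
      ((associator.hom.app (L₁.X i₁)).app (L₂.X i₂)).app (K₃.X i₃) =
      ((associator.hom.app (L₁.X i₁)).app (K₂.X i₂)).app (K₃.X i₃) ≫
        (F.obj (L₁.X i₁)).map ((G₂₃.map (f₂.f i₂)).app (K₃.X i₃)) := n2
  have n3' : (G.obj ((F₁₂.obj (L₁.X i₁)).obj (L₂.X i₂))).map (f₃.f i₃) ≫
      ((associator.hom.app (L₁.X i₁)).app (L₂.X i₂)).app (L₃.X i₃) =
      ((associator.hom.app (L₁.X i₁)).app (L₂.X i₂)).app (K₃.X i₃) ≫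
        (F.obj (L₁.X i₁)).map ((G₂₃.obj (L₂.X i₂)).map (f₃.f i₃)) := n3
  rw [Functor.map_comp, NatTrans.comp_app, Functor.map_comp, assoc, assoc,
    reassoc_of% n3', reassoc_of% n2', reassoc_of% n1']

end Groth.Agent.Lib.T2H2.BifAssocNat
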