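import Mathlib
import Groth.Prelude.Def_BlowUp2

/-!
# Helper library (helper2): the affine blow-up algebra `A[I/a]` as the union of the `I^n / a^n`
-/

set_option autoImplicit false
universe u
noncomputable section

namespace Groth.Agent.Lib.T2H2.BlowTor

variable {A : Type u} [CommRing A] (I : Ideal A) (a₀ : A)

/-- the inverse of `a₀` in the localization -/
abbrev uu : Localization.Away a₀ := IsLocalization.Away.invSelf a₀

lemma alg_mul_uu : algebraMap A (Localization.Away a₀) a₀ * uu a₀ = 1 :=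
  IsLocalization.Away.mul_invSelf a₀

lemma alg_pow_mul_uu_pow (n : ℕ) :
    algebraMap A (Localization.Away a₀) (a₀ ^ n) * uu a₀ ^ n = 1 := by
  rw [map_pow, ← mul_pow, alg_mul_uu, one_pow]

/-- `x ↦ x / a₀^n` -/
def psi (n : ℕ) : A →ₗ[A] Localization.Away a₀ :=
  (LinearMap.mulRight A (uu a₀ ^ n)).comp (Algebra.linearMap A (Localization.Away a₀))

lemma psi_apply (n : ℕ) (x : A) :
    psi a₀ n x = algebraMap A (Localization.Away a₀) x * uu a₀ ^ n := rfl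

lemma psi_mul (n m : ℕ) (x y : A) : psi a₀ (n + m) (x * y) = psi a₀ n x * psi a₀ m y := by
  rw [psi_apply, psi_apply, psi_apply, map_mul, pow_add]
  ring

lemma psi_pow_mul (n m : ℕ) (x : A) : psi a₀ (n + m) (a₀ ^ m * x) = psi a₀ n x := by
  rw [psi_apply, psi_apply, map_mul, pow_add]
  have := alg_pow_mul_uu_pow a₀ m
  calc algebraMap A (Localization.Away a₀) (a₀ ^ m) * algebraMap A (Localization.Away a₀) x *
        (uu a₀ ^ n * uu a₀ ^ m)
      = (algebraMap A (Localization.Away a₀) (a₀ ^ m) * uu a₀ ^ m) *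
        (algebraMap A (Localization.Away a₀) x * uu a₀ ^ n) := by ring
    _ = algebraMap A (Localization.Away a₀) x * uu a₀ ^ n := by rw [this, one_mul]

lemma psi_eq_zero {n : ℕ} {x : A} (h : psi a₀ n x = 0) : ∃ m : ℕ, a₀ ^ m * x = 0 := by
  have h1 : algebraMap A (Localization.Away a₀) x = 0 := by
    have := psi_pow_mul a₀ 0 n x
    rw [zero_add] at this
    have h2 : psi a₀ n (a₀ ^ n * x) = 0 := by
      rw [psi_apply, map_mul, mul_assoc, ← psi_apply, h, mul_zero]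
    rw [h2] at this
    rw [psi_apply, pow_zero, mul_one] at this
    exact this.symm
  obtain ⟨⟨_, m, rfl⟩, hm⟩ := (IsLocalization.map_eq_zero_iff (Submonoid.powers a₀) _ x).1 h1
  exact ⟨m, hm⟩

lemma gen_eq (x : A) :
    IsLocalization.mk' (Localization.Away a₀) x
      (⟨a₀, Submonoid.mem_powers a₀⟩ : Submonoid.powers a₀) = psi a₀ 1 x := by
  rw [psi_apply, pow_one, IsLocalization.mk'_eq_mul_mk'_one]
  rfl

lemma psi_mem (n : ℕ) : ∀ x ∈ I ^ n, psi a₀ n x ∈ BlowUp.affineAlgebra A I a₀ := by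
  induction n with
  | zero =>
    intro x _
    rw [psi_apply, pow_zero, mul_one]
    exact Subalgebra.algebraMap_mem _ x
  | succ n ih =>
    intro x hx
    rw [pow_succ] at hx
    induction hx using Submodule.mul_induction_on' with
    | mem_mul_mem y hy z hz =>
      rw [psi_mul]
      refine Subalgebra.mul_mem _ (ih y hy) ?_
      rw [← gen_eq]
      exact Algebra.subset_adjoin ⟨z, hz, rfl⟩
    | add x _ y _ hx hy =>
      rw [map_add]
      exact Subalgebra.add_mem _ hx hy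

lemma exists_eq_psi (ha₀ : a₀ ∈ I) (b : Localization.Away a₀)
    (hb : b ∈ BlowUp.affineAlgebra A I a₀) : ∃ n : ℕ, ∃ x ∈ I ^ n, b = psi a₀ n x := by
  induction hb using Algebra.adjoin_induction with
  | mem q hq =>
    obtain ⟨x, hx, rfl⟩ := hq
    exact ⟨1, x, by rwa [pow_one], gen_eq a₀ x⟩
  | algebraMap r =>
    refine ⟨0, r, by rw [pow_zero, Ideal.one_eq_top]; trivial, ?_⟩
    rw [psi_apply, pow_zero, mul_one]
  | add q q' _ _ h h' =>
    obtain ⟨n, x, hx, rfl⟩ := h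
    obtain ⟨m, x', hx', rfl⟩ := h'
    refine ⟨n + m, a₀ ^ m * x + a₀ ^ n * x', ?_, ?_⟩
    · refine Ideal.add_mem _ ?_ ?_
      · rw [add_comm n m, pow_add]
        exact Ideal.mul_mem_mul (Ideal.pow_mem_pow ha₀ m) hx
      · rw [pow_add]
        exact Ideal.mul_mem_mul (Ideal.pow_mem_pow ha₀ n) hx'
    · rw [map_add, psi_pow_mul, add_comm n m, psi_pow_mul]
  | mul q q' _ _ h h' =>
    obtain ⟨n, x, hx, rfl⟩ := h
    obtain ⟨m, x', hx', rfl⟩ := h'
    refine ⟨n + m, x * x', ?_, (psi_mul a₀ n m x x').symm⟩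
    rw [pow_add]
    exact Ideal.mul_mem_mul hx hx'

/-- `I^n → A[I/a₀]`, `x ↦ x / a₀^n` -/
def phi (n : ℕ) : ↥(I ^ n) →ₗ[A] ↥(BlowUp.affineAlgebra A I a₀) :=
  LinearMap.codRestrict (Subalgebra.toSubmodule (BlowUp.affineAlgebra A I a₀))
    ((psi a₀ n).comp (I ^ n).subtype) (fun x => psi_mem I a₀ n x.1 x.2)

lemma phi_coe (n : ℕ) (x : ↥(I ^ n)) : ((phi I a₀ n x : ↥(BlowUp.affineAlgebra A I a₀)) :
    Localization.Away a₀) = psi a₀ n x.1 := rfl

/-- transition maps `I^n → I^m`, multiplication by `a₀^(m-n)` -/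
def trn (ha₀ : a₀ ∈ I) {n m : ℕ} (h : n ≤ m) : ↥(I ^ n) →ₗ[A] ↥(I ^ m) :=
  LinearMap.codRestrict (I ^ m) ((LinearMap.mulLeft A (a₀ ^ (m - n))).comp (I ^ n).subtype)
    (fun x => by
      have : I ^ m = I ^ (m - n) * I ^ n := by rw [← pow_add, Nat.sub_add_cancel h]
      rw [this]
      exact Ideal.mul_mem_mul (Ideal.pow_mem_pow ha₀ _) x.2)

lemma trn_coe (ha₀ : a₀ ∈ I) {n m : ℕ} (h : n ≤ m) (x : ↥(I ^ n)) :
    (trn I a₀ ha₀ h x : A) = a₀ ^ (m - n) * x.1 := rfl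

lemma trn_self (ha₀ : a₀ ∈ I) (n : ℕ) (x : ↥(I ^ n)) : trn I a₀ ha₀ (le_refl n) x = x := by
  apply Subtype.ext
  rw [trn_coe, Nat.sub_self, pow_zero, one_mul]

lemma trn_trn (ha₀ : a₀ ∈ I) {n m k : ℕ} (h : n ≤ m) (h' : m ≤ k) (x : ↥(I ^ n)) :
    trn I a₀ ha₀ h' (trn I a₀ ha₀ h x) = trn I a₀ ha₀ (h.trans h') x := by
  apply Subtype.ext
  rw [trn_coe, trn_coe, trn_coe, ← mul_assoc, ← pow_add]
  congr 2
  lia

lemma phi_trn (ha₀ : a₀ ∈ I) {n m : ℕ} (h : n ≤ m) (x : ↥(I ^ n)) :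
    phi I a₀ m (trn I a₀ ha₀ h x) = phi I a₀ n x := by
  apply Subtype.ext
  rw [phi_coe, phi_coe, trn_coe]
  obtain ⟨d, rfl⟩ : ∃ d, m = n + d := ⟨m - n, by lia⟩
  rw [Nat.add_sub_cancel_left]
  exact psi_pow_mul a₀ n d x.1

lemma phi_surjective (ha₀ : a₀ ∈ I) (b : ↥(BlowUp.affineAlgebra A I a₀)) :
    ∃ (n : ℕ) (x : ↥(I ^ n)), phi I a₀ n x = b := by
  obtain ⟨n, x, hx, hb⟩ := exists_eq_psi I a₀ ha₀ b.1 b.2
  exact ⟨n, ⟨x, hx⟩, Subtype.ext hb.symm⟩

lemma phi_eq_zero (ha₀ : a₀ ∈ I) {n : ℕ} {x : ↥(I ^ n)} (h : phi I a₀ n x = 0) :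
    ∃ m : ℕ, trn I a₀ ha₀ (Nat.le_add_right n m) x = 0 := by
  have h1 : psi a₀ n x.1 = 0 := by
    rw [← phi_coe, h]
    rfl
  obtain ⟨m, hm⟩ := psi_eq_zero a₀ h1
  refine ⟨m, Subtype.ext ?_⟩
  rw [trn_coe, Nat.add_sub_cancel_left, hm]
  rfl

end Groth.Agent.Lib.T2H2.BlowTor

end
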