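import Mathlib

/-!
# Helper library (helper2): the modules `A[X]/(I' + X)^q` (uniform Tor annihilation, algebra part)

For an ideal `I'` of `A` put `𝔫 = I'·A[X] + (X)`.  Then `p ∈ 𝔫^q` iff `coeff p j ∈ I'^(q-j)` for
all `j`.  We define the `A`-modules `Nq q = A[X]/𝔫^q` with transition maps, multiplication maps,
`divX`, the splitting `A/I'^q → Nq q → A/I'^q`, and the map `Nq q → A/(I' + f)^q` of evaluation
at `f`, whose kernel is `(X - f)·Nq q`.
-/

set_option autoImplicit false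
universe u
open Polynomial
noncomputable section

namespace Groth.Agent.Lib.T2H2.UTor

variable {A : Type u} [CommRing A] (I' : Ideal A) (f : A)

/-- the ideal `I' A[X] + (X)` -/
def nn : Ideal A[X] := I'.map (C : A →+* A[X]) ⊔ Ideal.span {X}

/-- polynomials with `j`-th coefficient in `I'^(q-j)` -/
def JJ (q : ℕ) : Ideal A[X] where
  carrier := {p | ∀ j, p.coeff j ∈ I' ^ (q - j)}
  add_mem' := fun {p p'} hp hp' j => by
    rw [coeff_add]
    exact Ideal.add_mem _ (hp j) (hp' j)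
  zero_mem' := fun j => by simp
  smul_mem' := fun r p hp l => by
    rw [smul_eq_mul, coeff_mul]
    refine Ideal.sum_mem _ fun x hx => ?_
    have hk : x.2 ≤ l := by
      have : x.1 + x.2 = l := Finset.HasAntidiagonal.mem_antidiagonal.1 hx
      lia
    exact Ideal.mul_mem_left _ _ (Ideal.pow_le_pow_right (by lia) (hp x.2))

lemma mem_JJ (q : ℕ) (p : A[X]) : p ∈ JJ I' q ↔ ∀ j, p.coeff j ∈ I' ^ (q - j) := Iff.rfl

lemma JJ_mul (a b : ℕ) : JJ I' a * JJ I' b ≤ JJ I' (a + b) := by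
  rw [Ideal.mul_le]
  intro r hr s hs l
  rw [coeff_mul]
  refine Ideal.sum_mem _ fun x hx => ?_
  have hx' : x.1 + x.2 = l := Finset.HasAntidiagonal.mem_antidiagonal.1 hx
  have h1 : r.coeff x.1 * s.coeff x.2 ∈ I' ^ ((a - x.1) + (b - x.2)) := by
    rw [pow_add]
    exact Ideal.mul_mem_mul (hr x.1) (hs x.2)
  exact Ideal.pow_le_pow_right (by lia) h1

lemma nn_le_JJ_one : nn I' ≤ JJ I' 1 := by
  refine sup_le ?_ ?_
  · rw [Ideal.map_le_iff_le_comap]
    intro a ha j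
    rw [coeff_C]
    split_ifs with h
    · subst h
      simpa using ha
    · exact Ideal.zero_mem _
  · rw [Ideal.span_le]
    rintro p hp j
    rw [Set.mem_singleton_iff] at hp
    subst hp
    rw [coeff_X]
    split_ifs with h
    · subst h
      simp
    · exact Ideal.zero_mem _

lemma nn_pow_le_JJ (q : ℕ) : nn I' ^ q ≤ JJ I' q := by
  induction q with
  | zero =>
    intro p _ j
    simp
  | succ q ih =>
    rw [pow_succ]
    exact (Ideal.mul_mono ih (nn_le_JJ_one I')).trans (JJ_mul I' q 1)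

lemma C_mem_nn_pow {a : A} {m : ℕ} (ha : a ∈ I' ^ m) : C a ∈ nn I' ^ m := by
  have h1 : C a ∈ (I'.map (C : A →+* A[X])) ^ m := by
    rw [← Ideal.map_pow]
    exact Ideal.mem_map_of_mem _ ha
  exact Ideal.pow_right_mono le_sup_left m h1

lemma X_pow_mem_nn_pow (m : ℕ) : (X : A[X]) ^ m ∈ nn I' ^ m :=
  Ideal.pow_mem_pow (le_sup_right (a := I'.map (C : A →+* A[X]))
    (Ideal.subset_span (Set.mem_singleton X))) m

lemma JJ_le_nn_pow (q : ℕ) : JJ I' q ≤ nn I' ^ q := by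
  intro p hp
  rw [p.as_sum_range_C_mul_X_pow]
  refine Ideal.sum_mem _ fun j _ => ?_
  have h1 : C (p.coeff j) * X ^ j ∈ nn I' ^ ((q - j) + j) := by
    rw [pow_add]
    exact Ideal.mul_mem_mul (C_mem_nn_pow I' (hp j)) (X_pow_mem_nn_pow I' j)
  exact Ideal.pow_le_pow_right (by lia) h1

lemma mem_nn_pow_iff (q : ℕ) (p : A[X]) : p ∈ nn I' ^ q ↔ ∀ j, p.coeff j ∈ I' ^ (q - j) :=
  ⟨fun h => nn_pow_le_JJ I' q h, fun h => JJ_le_nn_pow I' q h⟩

/-- `𝔫^q` as an `A`-submodule of `A[X]` -/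
def nnA (q : ℕ) : Submodule A A[X] := (nn I' ^ q).restrictScalars A

lemma mem_nnA (q : ℕ) (p : A[X]) : p ∈ nnA I' q ↔ ∀ j, p.coeff j ∈ I' ^ (q - j) :=
  mem_nn_pow_iff I' q p

lemma mem_nnA' (q : ℕ) (p : A[X]) : p ∈ nnA I' q ↔ p ∈ nn I' ^ q := Iff.rfl

/-- the `A`-module `A[X]/𝔫^q` -/
abbrev Nq (q : ℕ) : Type u := A[X] ⧸ nnA I' q

/-- transition maps -/
def trans {q q' : ℕ} (h : q' ≤ q) : Nq I' q →ₗ[A] Nq I' q' :=
  Submodule.mapQ _ _ LinearMap.id (fun _ hp => Ideal.pow_le_pow_right h hp)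

/-- multiplication by a polynomial -/
def mulP (g : A[X]) (q : ℕ) : Nq I' q →ₗ[A] Nq I' q :=
  Submodule.mapQ _ _ (LinearMap.mulLeft A g) (fun p hp => Ideal.mul_mem_left _ g hp)

/-- multiplication by `X^d` raising the level -/
def mulXd (q d : ℕ) : Nq I' q →ₗ[A] Nq I' (q + d) :=
  Submodule.mapQ _ _ (LinearMap.mulLeft A (X ^ d)) (fun p hp => by
    rw [Submodule.mem_comap, mem_nnA]
    rw [mem_nnA] at hp
    intro j
    rw [LinearMap.mulLeft_apply, coeff_X_pow_mul']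
    split_ifs with h
    · have : q + d - j = q - (j - d) := by lia
      rw [this]
      exact hp _
    · exact Ideal.zero_mem _)

/-- `divX` as an `A`-linear map -/
def divXl : A[X] →ₗ[A] A[X] where
  toFun := divX
  map_add' := fun _ _ => divX_add
  map_smul' a p := by
    rw [RingHom.id_apply, smul_eq_C_mul, smul_eq_C_mul, divX_C_mul]

/-- `divX` lowering the level -/
def divXq (q : ℕ) : Nq I' (q + 1) →ₗ[A] Nq I' q :=
  Submodule.mapQ _ _ divXl (fun p hp => by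
    rw [Submodule.mem_comap, mem_nnA]
    rw [mem_nnA] at hp
    intro j
    show (divX p).coeff j ∈ _
    rw [coeff_divX]
    have : q - j = q + 1 - (j + 1) := by lia
    rw [this]
    exact hp _)

/-- constants -/
def sig (q : ℕ) : (A ⧸ I' ^ q) →ₗ[A] Nq I' q :=
  Submodule.mapQ (I' ^ q) (nnA I' q) (monomial 0) (fun a ha => by
    rw [Submodule.mem_comap, mem_nnA']
    exact C_mem_nn_pow I' ha)

/-- constant coefficient -/
def pi0 (q : ℕ) : Nq I' q →ₗ[A] (A ⧸ I' ^ q) :=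
  Submodule.mapQ (nnA I' q) (I' ^ q) (lcoeff A 0) (fun p hp => by
    rw [Submodule.mem_comap]
    rw [mem_nnA] at hp
    exact hp 0)

/-- transition maps of the quotients `A/I^q` -/
def tr (I : Ideal A) {q q' : ℕ} (h : q' ≤ q) : (A ⧸ I ^ q) →ₗ[A] (A ⧸ I ^ q') :=
  Submodule.mapQ (I ^ q) (I ^ q') LinearMap.id (Ideal.pow_le_pow_right h)

lemma decomp (q : ℕ) (y : Nq I' (q + 1)) :
    mulXd I' q 1 (divXq I' q y) + sig I' (q + 1) (pi0 I' (q + 1) y) = y := by
  obtain ⟨p, rfl⟩ := Submodule.mkQ_surjective _ y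
  show Submodule.Quotient.mk (X ^ 1 * divX p) + Submodule.Quotient.mk (monomial 0 (p.coeff 0)) =
    Submodule.Quotient.mk p
  rw [← Submodule.Quotient.mk_add, pow_one, monomial_zero_left, X_mul_divX_add]

lemma trans_mulXd {q q' : ℕ} (h : q' ≤ q) (d : ℕ) (y : Nq I' q) :
    trans I' (Nat.add_le_add_right h d) (mulXd I' q d y) = mulXd I' q' d (trans I' h y) := by
  obtain ⟨p, rfl⟩ := Submodule.mkQ_surjective _ y
  rfl

lemma trans_sig {q q' : ℕ} (h : q' ≤ q) (y : A ⧸ I' ^ q) :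
    trans I' h (sig I' q y) = sig I' q' (tr I' h y) := by
  obtain ⟨p, rfl⟩ := Submodule.mkQ_surjective _ y
  rfl

lemma trans_trans {q q' q'' : ℕ} (h : q' ≤ q) (h' : q'' ≤ q') (y : Nq I' q) :
    trans I' h' (trans I' h y) = trans I' (h'.trans h) y := by
  obtain ⟨p, rfl⟩ := Submodule.mkQ_surjective _ y
  rfl

lemma tr_tr (I : Ideal A) {q q' q'' : ℕ} (h : q' ≤ q) (h' : q'' ≤ q') (y : A ⧸ I ^ q) :
    tr I h' (tr I h y) = tr I (h'.trans h) y := by
  obtain ⟨p, rfl⟩ := Submodule.mkQ_surjective _ y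
  rfl

lemma trans_mulP {q q' : ℕ} (h : q' ≤ q) (g : A[X]) (y : Nq I' q) :
    trans I' h (mulP I' g q y) = mulP I' g q' (trans I' h y) := by
  obtain ⟨p, rfl⟩ := Submodule.mkQ_surjective _ y
  rfl

lemma mulP_mulP (g g' : A[X]) (q : ℕ) (y : Nq I' q) :
    mulP I' g q (mulP I' g' q y) = mulP I' (g * g') q y := by
  obtain ⟨p, rfl⟩ := Submodule.mkQ_surjective _ y
  show Submodule.Quotient.mk (g * (g' * p)) = Submodule.Quotient.mk (g * g' * p)
  rw [mul_assoc]

lemma mulP_comm (g g' : A[X]) (q : ℕ) (y : Nq I' q) :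
    mulP I' g q (mulP I' g' q y) = mulP I' g' q (mulP I' g q y) := by
  rw [mulP_mulP, mulP_mulP, mul_comm]

lemma mulP_C (a : A) (q : ℕ) (y : Nq I' q) : mulP I' (C a) q y = a • y := by
  obtain ⟨p, rfl⟩ := Submodule.mkQ_surjective _ y
  show Submodule.Quotient.mk (C a * p) = a • Submodule.Quotient.mk p
  rw [← Submodule.Quotient.mk_smul, smul_eq_C_mul]

lemma mulP_X_pow (q' d : ℕ) (y : Nq I' (q' + d)) :
    mulP I' (X ^ d) (q' + d) y = mulXd I' q' d (trans I' (Nat.le_add_right q' d) y) := by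
  obtain ⟨p, rfl⟩ := Submodule.mkQ_surjective _ y
  rfl

lemma mulP_X_pow_eq_zero {q d : ℕ} (h : q ≤ d) (y : Nq I' q) : mulP I' (X ^ d) q y = 0 := by
  obtain ⟨p, rfl⟩ := Submodule.mkQ_surjective _ y
  show Submodule.Quotient.mk (X ^ d * p) = 0
  rw [Submodule.Quotient.mk_eq_zero, mem_nnA']
  exact Ideal.mul_mem_right _ _ (Ideal.pow_le_pow_right h (X_pow_mem_nn_pow I' d))

lemma subsingleton_Nq_zero : Subsingleton (Nq I' 0) := by
  refine ⟨fun y y' => ?_⟩
  obtain ⟨p, rfl⟩ := Submodule.mkQ_surjective _ y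
  obtain ⟨p', rfl⟩ := Submodule.mkQ_surjective _ y'
  rw [Submodule.mkQ_apply, Submodule.mkQ_apply, Submodule.Quotient.eq, mem_nnA', pow_zero,
    Ideal.one_eq_top]
  trivial

end Groth.Agent.Lib.T2H2.UTor

end
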