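import Mathlib
import Groth.Agent.Lib.T2H2UTorA

/-!
# Helper library (helper2): evaluation `A[X]/𝔫^q → A/(I'+f)^q`, its kernel, Artin–Rees
-/

set_option autoImplicit false
universe u
open Polynomial
noncomputable section

namespace Groth.Agent.Lib.T2H2.UTor

variable {A : Type u} [CommRing A] (I' : Ideal A) (f : A)

/-- the ideal `I' + (f)` -/
abbrev II : Ideal A := I' ⊔ Ideal.span {f}

lemma map_eval_nn_le : (nn I').map (evalRingHom f) ≤ II I' f := by
  rw [nn, Ideal.map_sup, Ideal.map_map, Ideal.map_span]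
  refine sup_le ?_ ?_
  · have : (evalRingHom f).comp (C : A →+* A[X]) = RingHom.id A := by
      ext a
      simp
    rw [this, Ideal.map_id]
    exact le_sup_left
  · rw [Set.image_singleton]
    have : evalRingHom f X = f := by simp
    rw [this]
    exact le_sup_right

lemma eval_mem_of_mem_nn_pow {q : ℕ} {p : A[X]} (hp : p ∈ nn I' ^ q) :
    p.eval f ∈ II I' f ^ q := by
  have h1 : evalRingHom f p ∈ (nn I' ^ q).map (evalRingHom f) := Ideal.mem_map_of_mem _ hp
  rw [Ideal.map_pow] at h1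
  exact Ideal.pow_right_mono (map_eval_nn_le I' f) q h1

/-- evaluation at `f` -/
def eps (q : ℕ) : Nq I' q →ₗ[A] (A ⧸ II I' f ^ q) :=
  Submodule.mapQ (nnA I' q) (II I' f ^ q) (leval f) (fun p hp => by
    rw [Submodule.mem_comap]
    exact eval_mem_of_mem_nn_pow I' f hp)

lemma eps_mk (q : ℕ) (p : A[X]) :
    eps I' f q (Submodule.Quotient.mk p) = Submodule.Quotient.mk (p.eval f) := rfl

lemma eps_surjective (q : ℕ) : Function.Surjective (eps I' f q) := by
  intro y
  obtain ⟨a, rfl⟩ := Submodule.mkQ_surjective _ y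
  exact ⟨Submodule.Quotient.mk (C a), by rw [eps_mk, eval_C]; rfl⟩

lemma eps_trans {q q' : ℕ} (h : q' ≤ q) (y : Nq I' q) :
    eps I' f q' (trans I' h y) = tr (II I' f) h (eps I' f q y) := by
  obtain ⟨p, rfl⟩ := Submodule.mkQ_surjective _ y
  rfl

lemma eps_mulP (g : A[X]) (q : ℕ) (y : Nq I' q) :
    eps I' f q (mulP I' g q y) = g.eval f • eps I' f q y := by
  obtain ⟨p, rfl⟩ := Submodule.mkQ_surjective _ y
  show Submodule.Quotient.mk ((g * p).eval f) = g.eval f • Submodule.Quotient.mk (p.eval f)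
  rw [eval_mul, ← Submodule.Quotient.mk_smul, smul_eq_mul]

/-- the polynomial `X - f` -/
abbrev gg : A[X] := X - C f

/-- multiplication by `X - f` -/
abbrev DD (q : ℕ) : Nq I' q →ₗ[A] Nq I' q := mulP I' (gg f) q

lemma eps_DD (q : ℕ) (y : Nq I' q) : eps I' f q (DD I' f q y) = 0 := by
  rw [eps_mulP]
  simp

lemma C_mem_sup_of_mem_pow (q : ℕ) {b : A} (hb : b ∈ II I' f ^ q) :
    C b ∈ nn I' ^ q ⊔ Ideal.span {gg f} := by
  have h1 : (II I' f).map (C : A →+* A[X]) ≤ nn I' ⊔ Ideal.span {gg f} := by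
    rw [Ideal.map_sup, Ideal.map_span, Set.image_singleton]
    refine sup_le (le_sup_of_le_left le_sup_left) ?_
    rw [Ideal.span_le, Set.singleton_subset_iff]
    have : (C f : A[X]) = X - gg f := by simp [gg]
    show C f ∈ _
    rw [this]
    exact Ideal.sub_mem _ (Ideal.mem_sup_left (Ideal.mem_sup_right
      (Ideal.subset_span (Set.mem_singleton _))))
      (Ideal.mem_sup_right (Ideal.subset_span (Set.mem_singleton _)))
  have h2 : ∀ m : ℕ, (nn I' ⊔ Ideal.span {gg f}) ^ m ≤ nn I' ^ m ⊔ Ideal.span {gg f} := by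
    intro m
    induction m with
    | zero => simp
    | succ m ih =>
      rw [pow_succ]
      refine (Ideal.mul_mono ih le_rfl).trans ?_
      rw [Ideal.mul_le]
      intro r hr s hs
      obtain ⟨r1, hr1, r2, hr2, rfl⟩ := Submodule.mem_sup.1 hr
      obtain ⟨s1, hs1, s2, hs2, rfl⟩ := Submodule.mem_sup.1 hs
      have e : (r1 + r2) * (s1 + s2) = r1 * s1 + (r1 * s2 + r2 * (s1 + s2)) := by ring
      rw [e]
      refine Ideal.add_mem _ (Ideal.mem_sup_left ?_) (Ideal.mem_sup_right ?_)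
      · rw [pow_succ]
        exact Ideal.mul_mem_mul hr1 hs1
      · exact Ideal.add_mem _ (Ideal.mul_mem_left _ _ hs2) (Ideal.mul_mem_right _ _ hr2)
  have h3 : C b ∈ ((II I' f).map (C : A →+* A[X])) ^ q := by
    rw [← Ideal.map_pow]
    exact Ideal.mem_map_of_mem _ hb
  exact h2 q (Ideal.pow_right_mono h1 q h3)

lemma exists_of_eps_eq_zero (q : ℕ) (y : Nq I' q) (hy : eps I' f q y = 0) :
    ∃ z, DD I' f q z = y := by
  obtain ⟨p, rfl⟩ := Submodule.mkQ_surjective _ y
  rw [Submodule.mkQ_apply, eps_mk, Submodule.Quotient.mk_eq_zero] at hy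
  obtain ⟨n, hn, m, hm, hnm⟩ := Submodule.mem_sup.1 (C_mem_sup_of_mem_pow I' f q hy)
  obtain ⟨r, hr⟩ := Ideal.mem_span_singleton'.1 hm
  obtain ⟨r', hr'⟩ : gg f ∣ p - C (p.eval f) := X_sub_C_dvd_sub_C_eval
  refine ⟨Submodule.Quotient.mk (r' + r), ?_⟩
  show Submodule.Quotient.mk (gg f * (r' + r)) = Submodule.Quotient.mk p
  rw [Submodule.Quotient.eq, mem_nnA']
  have e : gg f * (r' + r) - p = -n := by
    have h1 : gg f * r' = p - C (p.eval f) := hr'.symm
    have h2 : r * gg f = m := hr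
    have h3 : C (p.eval f) = n + m := hnm.symm
    rw [mul_add, h1, mul_comm (gg f) r, h2, h3]
    ring
  rw [e]
  exact (Ideal.neg_mem_iff _).2 hn

lemma gg_mul_cancel {p p' : A[X]} (h : gg f * p = gg f * p') : p = p' :=
  (monic_X_sub_C f).isRegular.left h

section AR

variable [IsNoetherianRing A]

/-- Artin–Rees for `(X - f) ∩ 𝔫^q` -/
lemma exists_AR : ∃ c : ℕ, ∀ (q q' : ℕ), q' + c ≤ q → ∀ p : A[X], gg f * p ∈ nn I' ^ q →
    p ∈ nn I' ^ q' := by
  obtain ⟨k, hk⟩ := Ideal.exists_pow_inf_eq_pow_smul (nn I')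
    (Ideal.span {gg f} : Submodule A[X] A[X])
  refine ⟨k, fun q q' hq p hp => ?_⟩
  have hqk : q ≥ k := by lia
  have h1 : gg f * p ∈ (nn I' ^ q • ⊤ ⊓ (Ideal.span {gg f} : Submodule A[X] A[X]) :
      Submodule A[X] A[X]) := by
    refine ⟨?_, Ideal.mul_mem_right _ _ (Ideal.subset_span (Set.mem_singleton _))⟩
    rw [Ideal.smul_top_eq_map]
    simpa using hp
  rw [hk q hqk] at h1
  have h2 : (nn I' ^ (q - k) • (nn I' ^ k • ⊤ ⊓ (Ideal.span {gg f} : Submodule A[X] A[X])) :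
      Submodule A[X] A[X]) ≤ (nn I' ^ (q - k) * Ideal.span {gg f} : Ideal A[X]) := by
    rw [← smul_eq_mul]
    exact Submodule.smul_mono le_rfl inf_le_right
  have h3 := h2 h1
  rw [mul_comm, Ideal.mem_span_singleton_mul] at h3
  obtain ⟨p', hp', hpp⟩ := h3
  have : p = p' := gg_mul_cancel f hpp.symm
  rw [this]
  exact Ideal.pow_le_pow_right (by lia) hp'

end AR

/-- elements killed by `X - f` in level `q`, whose representatives lie in `𝔫^q'` with
`q' + c ≤ q`, are killed by `(I' + f)^c`. -/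
lemma smul_eq_zero_of_mem_ker (c : ℕ)
    (hc : ∀ (q q' : ℕ), q' + c ≤ q → ∀ p : A[X], gg f * p ∈ nn I' ^ q → p ∈ nn I' ^ q')
    (q : ℕ) (y : Nq I' q) (hy : DD I' f q y = 0) (a : A) (ha : a ∈ II I' f ^ c) : a • y = 0 := by
  obtain ⟨p, rfl⟩ := Submodule.mkQ_surjective _ y
  have hy' : gg f * p ∈ nn I' ^ q := by
    have : Submodule.Quotient.mk (gg f * p) = (0 : Nq I' q) := hy
    rwa [Submodule.Quotient.mk_eq_zero, mem_nnA'] at this
  obtain ⟨n, hn, m, hm, hnm⟩ := Submodule.mem_sup.1 (C_mem_sup_of_mem_pow I' f c ha)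
  obtain ⟨r, hr⟩ := Ideal.mem_span_singleton'.1 hm
  rw [Submodule.mkQ_apply, ← Submodule.Quotient.mk_smul, Submodule.Quotient.mk_eq_zero, mem_nnA',
    smul_eq_C_mul, ← hnm, add_mul]
  refine Ideal.add_mem _ ?_ ?_
  · by_cases hqc : c ≤ q
    · have hp : p ∈ nn I' ^ (q - c) := hc q (q - c) (by lia) p hy'
      have h1 : n * p ∈ nn I' ^ (c + (q - c)) := by
        rw [pow_add]
        exact Ideal.mul_mem_mul hn hp
      have e : c + (q - c) = q := by lia
      rwa [e] at h1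
    · exact Ideal.mul_mem_right _ _ (Ideal.pow_le_pow_right (by lia) hn)
  · rw [← hr, mul_assoc]
    exact Ideal.mul_mem_left _ _ hy'

/-- elements killed by `X - f` die under transition by `c`. -/
lemma trans_eq_zero_of_mem_ker (c : ℕ)
    (hc : ∀ (q q' : ℕ), q' + c ≤ q → ∀ p : A[X], gg f * p ∈ nn I' ^ q → p ∈ nn I' ^ q')
    {q q' : ℕ} (h : q' ≤ q) (hq : q' + c ≤ q) (y : Nq I' q) (hy : DD I' f q y = 0) :
    trans I' h y = 0 := by
  obtain ⟨p, rfl⟩ := Submodule.mkQ_surjective _ y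
  have hy' : gg f * p ∈ nn I' ^ q := by
    have : Submodule.Quotient.mk (gg f * p) = (0 : Nq I' q) := hy
    rwa [Submodule.Quotient.mk_eq_zero, mem_nnA'] at this
  show Submodule.Quotient.mk p = (0 : Nq I' q')
  rw [Submodule.Quotient.mk_eq_zero, mem_nnA']
  exact hc q q' hq p hy'

end Groth.Agent.Lib.T2H2.UTor

end
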