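import Mathlib
import Groth.Agent.Lib.Helper8NatBal

/-!
# Helper library (helper2): abstract Tor-like δ-functors on modules and a three-step chase
-/

set_option autoImplicit false
universe u
open CategoryTheory CategoryTheory.Limits

namespace Groth.Agent.Lib.T2H2.UTor

open Groth.Agent.Lib.Helper8.NatBal

variable {A : Type u} [CommRing A]

/-- a Tor-like δ-functor on `A`-modules: additive, `A`-linear on scalar endomorphisms, with natural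
connecting maps and the exactness of `DeltaData`. -/
structure TorLike (A : Type u) [CommRing A] where
  T : ℕ → ModuleCat.{u} A ⥤ ModuleCat.{u} A
  map_add : ∀ (i : ℕ) {X Y : ModuleCat.{u} A} (f g : X ⟶ Y),
    (T i).map (f + g) = (T i).map f + (T i).map g
  map_smul_id : ∀ (i : ℕ) (X : ModuleCat.{u} A) (a : A),
    (T i).map (a • 𝟙 X) = a • 𝟙 ((T i).obj X)
  D : DeltaData T

namespace TorLike

variable (T : TorLike A)

lemma map_zero (i : ℕ) (X Y : ModuleCat.{u} A) : (T.T i).map (0 : X ⟶ Y) = 0 := by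
  have h := T.map_add i (0 : X ⟶ Y) 0
  rw [add_zero] at h
  have h2 : (T.T i).map (0 : X ⟶ Y) + 0 = (T.T i).map 0 + (T.T i).map 0 := by rw [add_zero]; exact h
  exact (add_left_cancel h2).symm

lemma smul_id_eq_zero_of_subsingleton (i : ℕ) (X : ModuleCat.{u} A) [Subsingleton X] (a : A) :
    a • 𝟙 ((T.T i).obj X) = 0 := by
  have h0 : 𝟙 X = 0 := (ModuleCat.isZero_of_subsingleton X).eq_of_src _ _
  have h1 : 𝟙 ((T.T i).obj X) = 0 := by rw [← (T.T i).map_id, h0, T.map_zero]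
  rw [h1, smul_zero]

lemma map_eq_zero_of_subsingleton_tgt (i : ℕ) {X Y : ModuleCat.{u} A} [Subsingleton Y] (g : X ⟶ Y) :
    (T.T i).map g = 0 := by
  have h0 : g = 0 := (ModuleCat.isZero_of_subsingleton Y).eq_of_tgt _ _
  rw [h0, T.map_zero]

/-- `a • 𝟙` vanishes on `T_i Z` if `𝟙 Z` is a sum of two maps factoring through objects where it
does. -/
lemma smul_id_eq_zero_of_decomp (i : ℕ) {Z Y₁ Y₂ : ModuleCat.{u} A} (α₁ : Z ⟶ Y₁) (β₁ : Y₁ ⟶ Z)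
    (α₂ : Z ⟶ Y₂) (β₂ : Y₂ ⟶ Z) (h : α₁ ≫ β₁ + α₂ ≫ β₂ = 𝟙 Z) (a : A)
    (h₁ : a • 𝟙 ((T.T i).obj Y₁) = 0) (h₂ : a • 𝟙 ((T.T i).obj Y₂) = 0) :
    a • 𝟙 ((T.T i).obj Z) = 0 := by
  have e : 𝟙 ((T.T i).obj Z) =
      (T.T i).map α₁ ≫ 𝟙 _ ≫ (T.T i).map β₁ + (T.T i).map α₂ ≫ 𝟙 _ ≫ (T.T i).map β₂ := by
    rw [Category.id_comp, Category.id_comp, ← (T.T i).map_comp, ← (T.T i).map_comp, ← T.map_add, h,
      (T.T i).map_id]
  have e2 : a • 𝟙 ((T.T i).obj Z) =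
      (T.T i).map α₁ ≫ (a • 𝟙 _) ≫ (T.T i).map β₁ + (T.T i).map α₂ ≫ (a • 𝟙 _) ≫ (T.T i).map β₂ := by
    conv_lhs => rw [e]
    rw [smul_add, Linear.smul_comp, Linear.smul_comp, Linear.comp_smul, Linear.comp_smul]
  rw [e2, h₁, h₂]
  simp

end TorLike

/-- two short exact sequences `0 → K → N → R → 0`, `0 → R → N → C → 0`. -/
structure Lvl (A : Type u) [CommRing A] where
  K : ModuleCat.{u} A
  N : ModuleCat.{u} A
  R : ModuleCat.{u} A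
  C : ModuleCat.{u} A
  k : K ⟶ N
  p : N ⟶ R
  j : R ⟶ N
  e : N ⟶ C
  w₁ : k ≫ p = 0
  w₂ : j ≫ e = 0
  h₁ : (ShortComplex.mk k p w₁).ShortExact
  h₂ : (ShortComplex.mk j e w₂).ShortExact

/-- morphisms of levels. -/
structure Lvl.Hom (L L' : Lvl A) where
  φK : L.K ⟶ L'.K
  φN : L.N ⟶ L'.N
  φR : L.R ⟶ L'.R
  φC : L.C ⟶ L'.C
  cK : φK ≫ L'.k = L.k ≫ φN
  cp : φN ≫ L'.p = L.p ≫ φR
  cj : φR ≫ L'.j = L.j ≫ φN
  ce : φN ≫ L'.e = L.e ≫ φC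

namespace Lvl

/-- first short complex -/
abbrev S₁ (L : Lvl A) : ShortComplex (ModuleCat.{u} A) := ShortComplex.mk L.k L.p L.w₁
/-- second short complex -/
abbrev S₂ (L : Lvl A) : ShortComplex (ModuleCat.{u} A) := ShortComplex.mk L.j L.e L.w₂

/-- morphism of first short complexes -/
def Hom.m₁ {L L' : Lvl A} (Φ : L.Hom L') : L.S₁ ⟶ L'.S₁ where
  τ₁ := Φ.φK
  τ₂ := Φ.φN
  τ₃ := Φ.φR
  comm₁₂ := Φ.cK
  comm₂₃ := Φ.cp

/-- morphism of second short complexes -/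
def Hom.m₂ {L L' : Lvl A} (Φ : L.Hom L') : L.S₂ ⟶ L'.S₂ where
  τ₁ := Φ.φR
  τ₂ := Φ.φN
  τ₃ := Φ.φC
  comm₁₂ := Φ.cj
  comm₂₃ := Φ.ce

end Lvl

lemma app_eq {X Y : ModuleCat.{u} A} {a b : X ⟶ Y} (h : a = b) (x : X) : a.hom x = b.hom x := by
  rw [h]

/-- the three-step chase. -/
theorem chase (T : TorLike A) (n : ℕ) {L₀ L₁ L₂ L₃ : Lvl A} (Φ₁ : L₀.Hom L₁) (Φ₂ : L₁.Hom L₂)
    (Φ₃ : L₂.Hom L₃) (h1 : (T.T n).map Φ₁.φK = 0) (h2 : (T.T (n + 1)).map Φ₂.φN = 0)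
    (h3 : (T.T (n + 2)).map Φ₃.φN = 0) :
    (T.T (n + 2)).map (Φ₁.φC ≫ Φ₂.φC ≫ Φ₃.φC) = 0 := by
  apply ModuleCat.hom_ext
  apply LinearMap.ext
  intro u
  rw [Functor.map_comp, Functor.map_comp]
  show ((T.T (n + 2)).map Φ₃.φC).hom (((T.T (n + 2)).map Φ₂.φC).hom
    (((T.T (n + 2)).map Φ₁.φC).hom u)) = 0
  set u₁ := ((T.T (n + 2)).map Φ₁.φC).hom u with hu₁
  -- step 1
  have n1 := T.D.δ_naturality Φ₁.m₁ L₀.h₁ L₁.h₁ n
  have n2 := T.D.δ_naturality Φ₁.m₂ L₀.h₂ L₁.h₂ (n + 1)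
  have k1 : (T.D.δ L₁.S₁ L₁.h₁ n).hom ((T.D.δ L₁.S₂ L₁.h₂ (n + 1)).hom u₁) = 0 := by
    have e1 := app_eq n2 u
    rw [ModuleCat.hom_comp, ModuleCat.hom_comp, LinearMap.comp_apply, LinearMap.comp_apply] at e1
    change (T.D.δ L₁.S₂ L₁.h₂ (n + 1)).hom u₁ = _ at e1
    rw [e1]
    have e2 := app_eq n1 ((T.D.δ L₀.S₂ L₀.h₂ (n + 1)).hom u)
    rw [ModuleCat.hom_comp, ModuleCat.hom_comp, LinearMap.comp_apply, LinearMap.comp_apply] at e2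
    refine e2.trans ?_
    change ((T.T n).map Φ₁.φK).hom _ = 0
    rw [h1]
    rfl
  obtain ⟨z, hz⟩ := (ShortComplex.moduleCat_exact_iff _).1 (T.D.exact₁ L₁.S₁ L₁.h₁ n) _ k1
  change ((T.T (n + 1)).map L₁.p).hom z = _ at hz
  -- step 2
  set u₂ := ((T.T (n + 2)).map Φ₂.φC).hom u₁ with hu₂
  have n3 := T.D.δ_naturality Φ₂.m₂ L₁.h₂ L₂.h₂ (n + 1)
  have k2 : (T.D.δ L₂.S₂ L₂.h₂ (n + 1)).hom u₂ = 0 := by
    have e1 := app_eq n3 u₁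
    rw [ModuleCat.hom_comp, ModuleCat.hom_comp, LinearMap.comp_apply, LinearMap.comp_apply] at e1
    change (T.D.δ L₂.S₂ L₂.h₂ (n + 1)).hom u₂ = _ at e1
    rw [e1, ← hz]
    change ((T.T (n + 1)).map Φ₂.φR).hom (((T.T (n + 1)).map L₁.p).hom z) = 0
    have e3 : (T.T (n + 1)).map L₁.p ≫ (T.T (n + 1)).map Φ₂.φR =
        (T.T (n + 1)).map Φ₂.φN ≫ (T.T (n + 1)).map L₂.p := by
      rw [← Functor.map_comp, ← Functor.map_comp, Φ₂.cp]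
    have e4 := app_eq e3 z
    rw [ModuleCat.hom_comp, ModuleCat.hom_comp, LinearMap.comp_apply, LinearMap.comp_apply] at e4
    rw [e4, h2]
    simp
  obtain ⟨y, hy⟩ := (ShortComplex.moduleCat_exact_iff _).1 (T.D.exact₁ L₂.S₂ L₂.h₂ (n + 1)) _ k2
  change ((T.T (n + 2)).map L₂.e).hom y = _ at hy
  -- step 3
  rw [← hy]
  have e5 : (T.T (n + 2)).map L₂.e ≫ (T.T (n + 2)).map Φ₃.φC =
      (T.T (n + 2)).map Φ₃.φN ≫ (T.T (n + 2)).map L₃.e := by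
    rw [← Functor.map_comp, ← Functor.map_comp, Φ₃.ce]
  have e6 := app_eq e5 y
  rw [ModuleCat.hom_comp, ModuleCat.hom_comp, LinearMap.comp_apply, LinearMap.comp_apply] at e6
  rw [e6, h3]
  simp

end Groth.Agent.Lib.T2H2.UTor
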