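import Mathlib
import Groth.Agent.Lib.T2H2UTorB
import Groth.Agent.Lib.T2H2UTorC

/-!
# Helper library (helper2): uniform annihilation / pro-vanishing of Tor-like functors on `A/I^q`
(induction on the number of generators of `I`)
-/

set_option autoImplicit false
universe u
open CategoryTheory CategoryTheory.Limits Polynomial
noncomputable section

namespace Groth.Agent.Lib.T2H2.UTor

variable {A : Type u} [CommRing A]

/-- the property proved by induction: for `i > m`, `I^ca` kills `T_i(A/I^q)` and the transition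
maps by at least `ct` vanish on `T_i`. -/
def Good (I : Ideal A) (m ca ct : ℕ) : Prop :=
  ∀ (T : TorLike A) (i : ℕ), m < i →
    (∀ (q : ℕ) (a : A), a ∈ I ^ ca → a • 𝟙 ((T.T i).obj (ModuleCat.of A (A ⧸ I ^ q))) = 0) ∧
    (∀ (q q' : ℕ) (h : q' ≤ q), q' + ct ≤ q → (T.T i).map (ModuleCat.ofHom (tr I h)) = 0)

section Step

variable (I' : Ideal A) (f : A)

/-- the level `q` -/
def lvl (q : ℕ) : Lvl A where
  K := ModuleCat.of A (LinearMap.ker (DD I' f q))
  N := ModuleCat.of A (Nq I' q)
  R := ModuleCat.of A (LinearMap.range (DD I' f q))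
  C := ModuleCat.of A (A ⧸ II I' f ^ q)
  k := ModuleCat.ofHom (LinearMap.ker (DD I' f q)).subtype
  p := ModuleCat.ofHom (DD I' f q).rangeRestrict
  j := ModuleCat.ofHom (LinearMap.range (DD I' f q)).subtype
  e := ModuleCat.ofHom (eps I' f q)
  w₁ := by
    apply ModuleCat.hom_ext
    apply LinearMap.ext
    rintro ⟨y, hy⟩
    apply Subtype.ext
    exact hy
  w₂ := by
    apply ModuleCat.hom_ext
    apply LinearMap.ext
    rintro ⟨y, z, rfl⟩
    exact eps_DD I' f q z
  h₁ :=
    { exact := by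
        rw [ShortComplex.moduleCat_exact_iff]
        intro y hy
        have hy' : DD I' f q y = 0 := congrArg Subtype.val hy
        exact ⟨⟨y, hy'⟩, rfl⟩
      mono_f := by
        rw [ModuleCat.mono_iff_injective]
        exact Subtype.val_injective
      epi_g := by
        rw [ModuleCat.epi_iff_surjective]
        exact LinearMap.surjective_rangeRestrict _ }
  h₂ :=
    { exact := by
        rw [ShortComplex.moduleCat_exact_iff]
        intro y hy
        obtain ⟨z, hz⟩ := exists_of_eps_eq_zero I' f q y hy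
        exact ⟨⟨y, z, hz⟩, rfl⟩
      mono_f := by
        rw [ModuleCat.mono_iff_injective]
        exact Subtype.val_injective
      epi_g := by
        rw [ModuleCat.epi_iff_surjective]
        exact eps_surjective I' f q }

/-- morphisms of levels from compatible maps -/
def lvlHom {q q' : ℕ} (ψ : Nq I' q →ₗ[A] Nq I' q')
    (χ : (A ⧸ II I' f ^ q) →ₗ[A] (A ⧸ II I' f ^ q'))
    (hD : ∀ y, ψ (DD I' f q y) = DD I' f q' (ψ y))
    (hε : ∀ y, eps I' f q' (ψ y) = χ (eps I' f q y)) : (lvl I' f q).Hom (lvl I' f q') where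
  φK := ModuleCat.ofHom (ψ.restrict (p := LinearMap.ker (DD I' f q))
    (q := LinearMap.ker (DD I' f q')) (fun y hy => by
      rw [LinearMap.mem_ker] at hy ⊢
      rw [← hD, hy, map_zero]))
  φN := ModuleCat.ofHom ψ
  φR := ModuleCat.ofHom (ψ.restrict (p := LinearMap.range (DD I' f q))
    (q := LinearMap.range (DD I' f q')) (fun y hy => by
      obtain ⟨z, rfl⟩ := hy
      exact ⟨ψ z, (hD z).symm⟩))
  φC := ModuleCat.ofHom χ
  cK := rfl
  cp := by
    apply ModuleCat.hom_ext
    apply LinearMap.ext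
    intro y
    apply Subtype.ext
    exact (hD y).symm
  cj := rfl
  ce := by
    apply ModuleCat.hom_ext
    apply LinearMap.ext
    intro y
    exact hε y

/-- transition morphism of levels -/
def lvlTrans {q q' : ℕ} (h : q' ≤ q) : (lvl I' f q).Hom (lvl I' f q') :=
  lvlHom I' f (trans I' h) (tr (II I' f) h) (fun y => trans_mulP I' h (gg f) y)
    (fun y => eps_trans I' f h y)

/-- multiplication morphism of levels -/
def lvlMul (g : A[X]) (q : ℕ) : (lvl I' f q).Hom (lvl I' f q) :=
  lvlHom I' f (mulP I' g q) (g.eval f • LinearMap.id) (fun y => mulP_comm I' g (gg f) q y)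
    (fun y => eps_mulP I' f g q y)

lemma ofHom_mulP_C (a : A) (q : ℕ) :
    ModuleCat.ofHom (mulP I' (C a) q) = a • 𝟙 (ModuleCat.of A (Nq I' q)) := by
  apply ModuleCat.hom_ext
  apply LinearMap.ext
  intro y
  exact mulP_C I' a q y

lemma id_decomp (q : ℕ) :
    ModuleCat.ofHom (divXq I' q) ≫ ModuleCat.ofHom (mulXd I' q 1) +
      ModuleCat.ofHom (pi0 I' (q + 1)) ≫ ModuleCat.ofHom (sig I' (q + 1)) =
        𝟙 (ModuleCat.of A (Nq I' (q + 1))) := by
  apply ModuleCat.hom_ext
  apply LinearMap.ext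
  intro y
  exact decomp I' q y

variable {I'} {m ca ct : ℕ} (hG : Good I' m ca ct)
include hG

lemma F2a (T : TorLike A) (j : ℕ) (hj : m < j) (a : A) (ha : a ∈ I' ^ ca) :
    ∀ q : ℕ, a • 𝟙 ((T.T j).obj (ModuleCat.of A (Nq I' q))) = 0 := by
  intro q
  induction q with
  | zero =>
    have := subsingleton_Nq_zero I'
    exact T.smul_id_eq_zero_of_subsingleton j (ModuleCat.of A (Nq I' 0)) a
  | succ q ih =>
    exact T.smul_id_eq_zero_of_decomp j _ _ _ _ (id_decomp I' q) a ih ((hG T j hj).1 (q + 1) a ha)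

lemma F2b (T : TorLike A) (j : ℕ) (hj : m < j) :
    ∀ (q' q : ℕ) (h : q' ≤ q), q' + ct ≤ q → (T.T j).map (ModuleCat.ofHom (trans I' h)) = 0 := by
  intro q'
  induction q' with
  | zero =>
    intro q h _
    have := subsingleton_Nq_zero I'
    exact T.map_eq_zero_of_subsingleton_tgt j (Y := ModuleCat.of A (Nq I' 0)) _
  | succ q' ih =>
    intro q h hq
    obtain ⟨q₀, rfl⟩ : ∃ q₀, q = q₀ + 1 := ⟨q - 1, by lia⟩
    have h₀ : q' ≤ q₀ := by lia
    have e : ModuleCat.ofHom (trans I' h) =
        ModuleCat.ofHom (divXq I' q₀) ≫ ModuleCat.ofHom (trans I' h₀) ≫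
            ModuleCat.ofHom (mulXd I' q' 1) +
          ModuleCat.ofHom (pi0 I' (q₀ + 1)) ≫ ModuleCat.ofHom (tr I' h) ≫
            ModuleCat.ofHom (sig I' (q' + 1)) := by
      apply ModuleCat.hom_ext
      apply LinearMap.ext
      intro y
      have hy := decomp I' q₀ y
      show trans I' h y = mulXd I' q' 1 (trans I' h₀ (divXq I' q₀ y)) +
        sig I' (q' + 1) (tr I' h (pi0 I' (q₀ + 1) y))
      conv_lhs => rw [← hy]
      rw [map_add, ← trans_mulXd, trans_sig]
    rw [e, T.map_add, Functor.map_comp, Functor.map_comp, Functor.map_comp, Functor.map_comp,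
      ih q₀ h₀ (by lia), (hG T j hj).2 (q₀ + 1) (q' + 1) h (by lia)]
    simp

lemma F2c (T : TorLike A) (j : ℕ) (hj : m < j) (q : ℕ) :
    (T.T j).map (ModuleCat.ofHom (mulP I' (X ^ ct) q)) = 0 := by
  by_cases hq : q ≤ ct
  · have : mulP I' (X ^ ct) q = 0 := by
      apply LinearMap.ext
      intro y
      exact mulP_X_pow_eq_zero I' hq y
    rw [this]
    exact T.map_zero j _ _
  · obtain ⟨q', rfl⟩ : ∃ q', q = q' + ct := ⟨q - ct, by lia⟩
    have e : ModuleCat.ofHom (mulP I' (X ^ ct) (q' + ct)) =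
        ModuleCat.ofHom (trans I' (Nat.le_add_right q' ct)) ≫ ModuleCat.ofHom (mulXd I' q' ct) := by
      apply ModuleCat.hom_ext
      apply LinearMap.ext
      intro y
      exact mulP_X_pow I' q' ct y
    rw [e, Functor.map_comp, F2b hG T j hj q' (q' + ct) _ le_rfl]
    simp

end Step

end Groth.Agent.Lib.T2H2.UTor

end
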