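import Mathlib
import Groth.Agent.Lib.T2H2UTorD

/-!
# Helper library (helper2): the inductive step and the induction on generators for uniform
annihilation / pro-vanishing of Tor-like functors on `A/I^q`
-/

set_option autoImplicit false
universe u
open CategoryTheory CategoryTheory.Limits Polynomial
noncomputable section

namespace Groth.Agent.Lib.T2H2.UTor

variable {A : Type u} [CommRing A]

/-- the ideal of scalars killing the identity of an object -/
def annId (Z : ModuleCat.{u} A) : Ideal A where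
  carrier := {a | a • 𝟙 Z = 0}
  add_mem' := fun {a b} ha hb => by
    change a • 𝟙 Z = 0 at ha
    change b • 𝟙 Z = 0 at hb
    change (a + b) • 𝟙 Z = 0
    rw [add_smul, ha, hb, add_zero]
  zero_mem' := zero_smul _ _
  smul_mem' := fun r a ha => by
    change a • 𝟙 Z = 0 at ha
    change (r • a) • 𝟙 Z = 0
    rw [smul_eq_mul, mul_smul, ha, smul_zero]

lemma mem_annId (Z : ModuleCat.{u} A) (a : A) : a ∈ annId Z ↔ a • 𝟙 Z = 0 := Iff.rfl

section Step

variable (I' : Ideal A) (f : A)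

lemma keyMul (T : TorLike A) (n q : ℕ) (g₁ g₂ g₃ : A[X])
    (h1 : ∀ y, DD I' f q y = 0 → mulP I' g₁ q y = 0)
    (h2 : (T.T (n + 1)).map (ModuleCat.ofHom (mulP I' g₂ q)) = 0)
    (h3 : (T.T (n + 2)).map (ModuleCat.ofHom (mulP I' g₃ q)) = 0) :
    (g₁.eval f * (g₂.eval f * g₃.eval f)) •
      𝟙 ((T.T (n + 2)).obj (ModuleCat.of A (A ⧸ II I' f ^ q))) = 0 := by
  have hK : (lvlMul I' f g₁ q).φK = 0 := by
    apply ModuleCat.hom_ext
    apply LinearMap.ext
    rintro ⟨y, hy⟩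
    apply Subtype.ext
    exact h1 y hy
  have hc := chase T n (lvlMul I' f g₁ q) (lvlMul I' f g₂ q) (lvlMul I' f g₃ q)
    (by rw [hK]; exact T.map_zero n _ _) h2 h3
  have e : (lvlMul I' f g₁ q).φC ≫ (lvlMul I' f g₂ q).φC ≫ (lvlMul I' f g₃ q).φC =
      (g₁.eval f * (g₂.eval f * g₃.eval f)) • 𝟙 (ModuleCat.of A (A ⧸ II I' f ^ q)) := by
    apply ModuleCat.hom_ext
    apply LinearMap.ext
    intro y
    show g₃.eval f • (g₂.eval f • (g₁.eval f • y)) = (g₁.eval f * (g₂.eval f * g₃.eval f)) • y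
    rw [smul_smul, smul_smul]
    congr 1
    ring
  have hc' : (T.T (n + 2)).map ((g₁.eval f * (g₂.eval f * g₃.eval f)) •
      𝟙 (ModuleCat.of A (A ⧸ II I' f ^ q))) = 0 := by
    rw [← e]
    exact hc
  rwa [T.map_smul_id] at hc'

variable {I'} {m ca ct : ℕ} (hG : Good I' m ca ct)
include hG

lemma keyTrans (T : TorLike A) (n : ℕ) (hm : m < n + 1) (c₁ : ℕ)
    (hc₁ : ∀ (q q' : ℕ), q' + c₁ ≤ q → ∀ p : A[X], gg f * p ∈ nn I' ^ q → p ∈ nn I' ^ q')
    {q q' : ℕ} (h : q' ≤ q) (hq : q' + (c₁ + 2 * ct) ≤ q) :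
    (T.T (n + 2)).map (ModuleCat.ofHom (tr (II I' f) h)) = 0 := by
  have h₁ : q' + 2 * ct ≤ q := by lia
  have h₂ : q' + ct ≤ q' + 2 * ct := by lia
  have h₃ : q' ≤ q' + ct := by lia
  have hK : (lvlTrans I' f h₁).φK = 0 := by
    apply ModuleCat.hom_ext
    apply LinearMap.ext
    rintro ⟨y, hy⟩
    apply Subtype.ext
    exact trans_eq_zero_of_mem_ker I' f c₁ hc₁ h₁ (by lia) y hy
  have hc := chase T n (lvlTrans I' f h₁) (lvlTrans I' f h₂) (lvlTrans I' f h₃)
    (by rw [hK]; exact T.map_zero n _ _) (F2b hG T (n + 1) hm _ _ h₂ (by lia))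
    (F2b hG T (n + 2) (by lia) _ _ h₃ le_rfl)
  have e : (lvlTrans I' f h₁).φC ≫ (lvlTrans I' f h₂).φC ≫ (lvlTrans I' f h₃).φC =
      ModuleCat.ofHom (tr (II I' f) h) := by
    apply ModuleCat.hom_ext
    apply LinearMap.ext
    intro y
    show tr (II I' f) h₃ (tr (II I' f) h₂ (tr (II I' f) h₁ y)) = tr (II I' f) h y
    rw [tr_tr, tr_tr]
  rw [e] at hc
  exact hc

theorem good_step [IsNoetherianRing A] : ∃ ca' ct' : ℕ, Good (II I' f) (m + 1) ca' ct' := by
  obtain ⟨c₁, hc₁⟩ := exists_AR I' f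
  refine ⟨c₁ + (2 * ca + (c₁ + 2 * ct)), c₁ + 2 * ct, fun T i hi => ?_⟩
  obtain ⟨n, rfl⟩ : ∃ n, i = n + 2 := ⟨i - 2, by lia⟩
  have hm : m < n + 1 := by lia
  refine ⟨fun q a ha => ?_, fun q q' h hq => keyTrans f hG T n hm c₁ hc₁ h hq⟩
  rw [← mem_annId]
  have hi1 : II I' f ^ c₁ * (I' ^ ca * I' ^ ca) ≤
      annId ((T.T (n + 2)).obj (ModuleCat.of A (A ⧸ II I' f ^ q))) := by
    rw [Ideal.mul_le]
    intro a₁ ha₁ b hb
    induction hb using Submodule.mul_induction_on' with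
    | mem_mul_mem a₂ ha₂ a₃ ha₃ =>
      rw [mem_annId]
      have := keyMul I' f T n q (C a₁) (C a₂) (C a₃)
        (fun y hy => by
          rw [mulP_C]
          exact smul_eq_zero_of_mem_ker I' f c₁ hc₁ q y hy a₁ ha₁)
        (by rw [ofHom_mulP_C, T.map_smul_id]; exact F2a hG T (n + 1) hm a₂ ha₂ q)
        (by rw [ofHom_mulP_C, T.map_smul_id]; exact F2a hG T (n + 2) (by lia) a₃ ha₃ q)
      simpa using this
    | add x _ y _ hx hy =>
      rw [mul_add]
      exact Ideal.add_mem _ hx hy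
  have hi2 : Ideal.span {f ^ (c₁ + 2 * ct)} ≤
      annId ((T.T (n + 2)).obj (ModuleCat.of A (A ⧸ II I' f ^ q))) := by
    rw [Ideal.span_singleton_le_iff_mem, mem_annId]
    have hf : f ^ c₁ ∈ II I' f ^ c₁ :=
      Ideal.pow_mem_pow (Ideal.mem_sup_right (Ideal.mem_span_singleton_self f)) c₁
    have := keyMul I' f T n q (C (f ^ c₁)) (X ^ ct) (X ^ ct)
      (fun y hy => by
        rw [mulP_C]
        exact smul_eq_zero_of_mem_ker I' f c₁ hc₁ q y hy _ hf)
      (F2c hG T (n + 1) hm q) (F2c hG T (n + 2) (by lia) q)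
    rw [eval_C, eval_pow, eval_X, ← pow_add, ← pow_add, ← two_mul] at this
    exact this
  have hle : II I' f ^ (c₁ + (2 * ca + (c₁ + 2 * ct))) ≤
      annId ((T.T (n + 2)).obj (ModuleCat.of A (A ⧸ II I' f ^ q))) := by
    rw [pow_add]
    refine (Ideal.mul_mono_right Ideal.sup_pow_add_le_pow_sup_pow).trans ?_
    rw [Ideal.mul_sup]
    refine sup_le ?_ ?_
    · rw [two_mul, pow_add]
      exact hi1
    · rw [Ideal.span_singleton_pow]
      exact Ideal.mul_le_right.trans hi2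
  exact hle ha

end Step

end Groth.Agent.Lib.T2H2.UTor

end
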