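import Mathlib
import Groth.Agent.Lib.T2H2UTorE
import Groth.Agent.Lib.Helper8TorFlip

/-!
# Helper library (helper2): `Tor_i(-, M)` as a Tor-like δ-functor, and the uniform annihilation /
pro-vanishing of `Tor_i(M, A/I^q)` for `i` bigger than the number of generators of `I`
-/

set_option autoImplicit false
universe u
open CategoryTheory CategoryTheory.Limits MonoidalCategory
noncomputable section

namespace Groth.Agent.Lib.T2H2.UTor

open Groth.Agent.Helper13Tor Groth.Agent.Lib.Helper8.NatBal Groth.Agent.Lib.Helper8.TorFlip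

variable {A : Type u} [CommRing A]

lemma homologyMap_smul' {K L : ChainComplex (ModuleCat.{u} A) ℕ} (a : A) (φ : K ⟶ L) (i : ℕ) :
    HomologicalComplex.homologyMap (a • φ) i = a • HomologicalComplex.homologyMap φ i := by
  have h : (HomologicalComplex.shortComplexFunctor (ModuleCat.{u} A) (ComplexShape.down ℕ) i).map
      (a • φ) = a • (HomologicalComplex.shortComplexFunctor (ModuleCat.{u} A)
        (ComplexShape.down ℕ) i).map φ := by
    ext <;> rfl
  show ShortComplex.homologyMap _ = _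
  rw [h, ShortComplex.homologyMap_smul]
  rfl

lemma tCmap_add {X X' : ModuleCat.{u} A} (f g : X ⟶ X') (Q : ChainComplex (ModuleCat.{u} A) ℕ) :
    tCmap (f + g) Q = tCmap f Q + tCmap g Q := by
  refine HomologicalComplex.hom_ext _ _ fun j => ?_
  show (f + g) ▷ Q.X j = f ▷ Q.X j + g ▷ Q.X j
  exact MonoidalPreadditive.add_whiskerRight _ _

lemma tCmap_smul_id (X : ModuleCat.{u} A) (a : A) (Q : ChainComplex (ModuleCat.{u} A) ℕ) :
    tCmap (a • 𝟙 X) Q = a • 𝟙 (tC X Q) := by
  refine HomologicalComplex.hom_ext _ _ fun j => ?_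
  show (a • 𝟙 X) ▷ Q.X j = a • 𝟙 (X ⊗ Q.X j)
  rw [MonoidalLinear.smul_whiskerRight, id_whiskerRight]

/-- `Tor_i(-, M)` as a Tor-like δ-functor. -/
def torLike (M : ModuleCat.{u} A) : TorLike A where
  T i := (Tor (ModuleCat.{u} A) i).flip.obj M
  map_add i X Y f g := by
    show ((Tor (ModuleCat.{u} A) i).map (f + g)).app M =
      ((Tor (ModuleCat.{u} A) i).map f).app M + ((Tor (ModuleCat.{u} A) i).map g).app M
    rw [tor_map_app_eq (projectiveResolution M) (f + g) i,
      tor_map_app_eq (projectiveResolution M) f i, tor_map_app_eq (projectiveResolution M) g i,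
      tCmap_add, HomologicalComplex.homologyMap_add, Preadditive.add_comp, Preadditive.comp_add]
  map_smul_id i X a := by
    show ((Tor (ModuleCat.{u} A) i).map (a • 𝟙 X)).app M =
      a • 𝟙 (((Tor (ModuleCat.{u} A) i).obj X).obj M)
    rw [tor_map_app_eq (projectiveResolution M) (a • 𝟙 X) i, tCmap_smul_id, homologyMap_smul',
      HomologicalComplex.homologyMap_id, Linear.smul_comp, Linear.comp_smul, Category.id_comp,
      Iso.hom_inv_id]
  D :=
    { δ := fun S hS n => δQ S hS (projectiveResolution M) n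
      δ_naturality := fun φ hS hS' n => (δQ_naturality₁ φ hS hS' (projectiveResolution M) n).symm
      w₁ := fun S hS n => map_comp_δQ S hS _ n
      w₂ := fun S hS n => δQ_comp_map S hS _ n
      exact₁ := fun S hS n => δQ_exact₃ S hS (projectiveResolution M) n
      exact₂ := fun S hS n => δQ_exact₁ S hS (projectiveResolution M) n
      isZero_of_projective := fun X _ n => isZero_tor_of_flat M X (n + 1) (by omega) }


/-! ### The induction on generators -/

lemma Good.mono {I : Ideal A} {m m' ca ct : ℕ} (h : Good I m ca ct) (hm : m ≤ m') :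
    Good I m' ca ct := fun T i hi => h T i (lt_of_le_of_lt hm hi)

lemma id_eq_zero_bot (T : TorLike A) (n q : ℕ) :
    𝟙 ((T.T (n + 1)).obj (ModuleCat.of A (A ⧸ (⊥ : Ideal A) ^ q))) = 0 := by
  rcases Nat.eq_zero_or_pos q with rfl | hq
  · have hs : Subsingleton (A ⧸ (⊥ : Ideal A) ^ 0) := by
      rw [pow_zero, Ideal.one_eq_top]
      exact Submodule.Quotient.subsingleton_iff.2 rfl
    have := T.smul_id_eq_zero_of_subsingleton (n + 1) (ModuleCat.of A (A ⧸ (⊥ : Ideal A) ^ 0)) 1
    rwa [one_smul] at this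
  · have hb : (⊥ : Ideal A) ^ q = ⊥ := Ideal.bot_pow (Nat.pos_iff_ne_zero.1 hq)
    have hp : Module.Projective A (A ⧸ (⊥ : Ideal A) ^ q) :=
      Module.Projective.of_equiv (Submodule.quotEquivOfEqBot _ hb).symm
    have : Projective (ModuleCat.of A (A ⧸ (⊥ : Ideal A) ^ q)) :=
      (IsProjective.iff_projective _).1 hp
    exact (T.D.isZero_of_projective (ModuleCat.of A (A ⧸ (⊥ : Ideal A) ^ q)) n).eq_of_src _ _

lemma good_bot : Good (⊥ : Ideal A) 0 0 0 := by
  intro T i hi
  obtain ⟨n, rfl⟩ : ∃ n, i = n + 1 := ⟨i - 1, by lia⟩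
  refine ⟨fun q a _ => ?_, fun q q' h _ => ?_⟩
  · rw [id_eq_zero_bot, smul_zero]
  · have h1 : (T.T (n + 1)).map (ModuleCat.ofHom (tr (⊥ : Ideal A) h)) =
        (T.T (n + 1)).map (ModuleCat.ofHom (tr (⊥ : Ideal A) h)) ≫ 𝟙 _ := (Category.comp_id _).symm
    rw [h1, id_eq_zero_bot, comp_zero]

theorem exists_good_span [IsNoetherianRing A] (s : Finset A) :
    ∃ ca ct : ℕ, Good (Ideal.span (s : Set A)) s.card ca ct := by
  classical
  induction s using Finset.induction_on with
  | empty =>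
    refine ⟨0, 0, ?_⟩
    rw [Finset.coe_empty, Ideal.span_empty, Finset.card_empty]
    exact good_bot
  | insert f s hf ih =>
    obtain ⟨ca, ct, h⟩ := ih
    obtain ⟨ca', ct', h'⟩ := good_step f h
    refine ⟨ca', ct', ?_⟩
    rw [Finset.card_insert_of_notMem hf, Finset.coe_insert, Ideal.span_insert, sup_comm]
    exact h'

/-- **Uniform pro-vanishing**: `Tor_i(M, A/I^q) → Tor_i(M, A/I^{q'})` vanishes for `q' + c ≤ q`,
`i > t`, uniformly in `M`. -/
theorem exists_tor_trans_eq_zero [IsNoetherianRing A] (I : Ideal A) (t : ℕ) (s : Finset A)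
    (hs : I = Ideal.span (s : Set A)) (ht : s.card ≤ t) :
    ∃ c : ℕ, ∀ (M : ModuleCat.{u} A) (i : ℕ), t < i → ∀ (q q' : ℕ) (h : q' ≤ q), q' + c ≤ q →
      ((Tor (ModuleCat.{u} A) i).obj M).map (ModuleCat.ofHom (tr I h)) = 0 := by
  obtain ⟨ca, ct, hG⟩ := exists_good_span s
  rw [← hs] at hG
  refine ⟨ct, fun M i hi q q' h hq => ?_⟩
  have h0 : ((Tor (ModuleCat.{u} A) i).flip.obj M).map (ModuleCat.ofHom (tr I h)) = 0 :=
    ((hG.mono ht) (torLike M) i hi).2 q q' h hq
  have h0' : ((Tor (ModuleCat.{u} A) i).map (ModuleCat.ofHom (tr I h))).app M = 0 := h0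
  have hn := α_naturality₂ i M (ModuleCat.ofHom (tr I h))
  rw [h0', comp_zero] at hn
  exact (cancel_mono (α i M (ModuleCat.of A (A ⧸ I ^ q'))).hom).1 (by rw [hn, zero_comp])

/-- **Uniform annihilation**: `I^c` kills `Tor_i(M, A/I^q)` for `i > t`, uniformly in `M`, `q`. -/
theorem exists_tor_smul_eq_zero [IsNoetherianRing A] (I : Ideal A) (t : ℕ) (s : Finset A)
    (hs : I = Ideal.span (s : Set A)) (ht : s.card ≤ t) :
    ∃ c : ℕ, ∀ (M : ModuleCat.{u} A) (i q : ℕ), t < i → ∀ a ∈ I ^ c,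
      ∀ x : ((Tor (ModuleCat.{u} A) i).obj M).obj (ModuleCat.of A (A ⧸ I ^ q)), a • x = 0 := by
  obtain ⟨ca, ct, hG⟩ := exists_good_span s
  rw [← hs] at hG
  refine ⟨ca, fun M i q hi a ha x => ?_⟩
  have h0 : a • 𝟙 (((Tor (ModuleCat.{u} A) i).obj (ModuleCat.of A (A ⧸ I ^ q))).obj M) = 0 :=
    ((hG.mono ht) (torLike M) i hi).1 q a ha
  let e := α i M (ModuleCat.of A (A ⧸ I ^ q))
  have h1 : a • e.hom.hom x = 0 := by
    exact app_eq h0 (e.hom.hom x)
  have h2 : e.hom.hom (a • x) = 0 := by rw [LinearMap.map_smul, h1]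
  have h3 : e.inv.hom (e.hom.hom (a • x)) = a • x := by
    exact app_eq e.hom_inv_id (a • x)
  rw [← h3, h2, LinearMap.map_zero]

end Groth.Agent.Lib.T2H2.UTor

end
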