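import Mathlib
import Groth.Agent.Lib.T2H2BlowTorA
import Groth.Agent.Lib.T2H2UTorF
import Groth.Agent.Lib.Helper13TorColim

/-!
# Helper library (helper2): `A[I/a₀] = colim I^n` and uniform annihilation of `Tor_i(A[I/a₀], M)`
-/

set_option autoImplicit false
universe u
open CategoryTheory CategoryTheory.Limits
noncomputable section

namespace Groth.Agent.Lib.T2H2.BlowTor

open Groth.Agent.Lib.T2H2.UTor Groth.Agent.Lib.Helper8.NatBal

variable {A : Type u} [CommRing A]

section Colim

variable {J : Type u} [SmallCategory J] [IsFiltered J]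

omit [IsFiltered J] in
lemma cocone_w_apply {G : J ⥤ ModuleCat.{u} A} (c : Cocone G) {i j : J} (f : i ⟶ j)
    (y : G.obj i) : (c.ι.app j).hom ((G.map f).hom y) = (c.ι.app i).hom y := by
  rw [← c.w f]
  rfl

/-- elementwise criterion for filtered colimit cocones of modules -/
def isColimitOfGood {G : J ⥤ ModuleCat.{u} A} {c : Cocone G}
    (surj : ∀ x : c.pt, ∃ (i : J) (y : G.obj i), (c.ι.app i).hom y = x)
    (inj : ∀ (i : J) (y : G.obj i), (c.ι.app i).hom y = 0 →
      ∃ (j : J) (f : i ⟶ j), (G.map f).hom y = 0) : IsColimit c := by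
  haveI : ReflectsColimit G (forget (ModuleCat.{u} A)) :=
    reflectsColimit_of_reflectsIsomorphisms _ _
  apply isColimitOfReflects (forget (ModuleCat.{u} A))
  apply Types.FilteredColimit.isColimitOf
  · intro x
    obtain ⟨i, y, hy⟩ := surj x
    exact ⟨i, y, hy.symm⟩
  · intro i j xi xj h
    let k₀ := IsFiltered.max i j
    let a : i ⟶ k₀ := IsFiltered.leftToMax i j
    let b : j ⟶ k₀ := IsFiltered.rightToMax i j
    have h0 : (c.ι.app k₀).hom ((G.map a).hom xi - (G.map b).hom xj) = 0 := by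
      rw [map_sub, cocone_w_apply, cocone_w_apply, sub_eq_zero]
      exact h
    obtain ⟨k, f, hf⟩ := inj k₀ _ h0
    refine ⟨k, a ≫ f, b ≫ f, ?_⟩
    rw [map_sub, sub_eq_zero] at hf
    change (G.map (a ≫ f)).hom xi = (G.map (b ≫ f)).hom xj
    rw [G.map_comp, G.map_comp]
    exact hf

end Colim

section Blow

variable (I : Ideal A) (a₀ : A) (ha₀ : a₀ ∈ I)

/-- the diagram `I^0 → I^1 → I^2 → ⋯` with transition maps multiplication by `a₀` -/
def Gfun : ULift.{u} ℕ ⥤ ModuleCat.{u} A where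
  obj k := ModuleCat.of A ↥(I ^ k.down)
  map {k l} h := ModuleCat.ofHom (trn I a₀ ha₀ h.le)
  map_id k := by
    apply ModuleCat.hom_ext
    apply LinearMap.ext
    intro x
    exact trn_self I a₀ ha₀ k.down x
  map_comp {k l m} f g := by
    apply ModuleCat.hom_ext
    apply LinearMap.ext
    intro x
    exact (trn_trn I a₀ ha₀ f.le g.le x).symm

/-- the cocone with point `A[I/a₀]` -/
def cocone : Cocone (Gfun I a₀ ha₀) where
  pt := ModuleCat.of A ↥(BlowUp.affineAlgebra A I a₀)
  ι :=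
    { app := fun k => ModuleCat.ofHom (phi I a₀ k.down)
      naturality := fun k l h => by
        apply ModuleCat.hom_ext
        apply LinearMap.ext
        intro x
        exact phi_trn I a₀ ha₀ h.le x }

/-- `A[I/a₀] = colim I^n` -/
def isColimitCocone : IsColimit (cocone I a₀ ha₀) :=
  isColimitOfGood
    (fun b => by
      obtain ⟨n, x, hx⟩ := phi_surjective I a₀ ha₀ b
      exact ⟨ULift.up n, x, hx⟩)
    (fun k x hx => by
      obtain ⟨m, hm⟩ := phi_eq_zero I a₀ ha₀ (n := k.down) (x := x) hx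
      exact ⟨ULift.up (k.down + m), homOfLE (Nat.le_add_right k.down m), hm⟩)

end Blow

section TorPart

/-- in a Tor-like δ-functor, a scalar killing `T_{j+2}(A/K)` kills `T_{j+1}(K)`. -/
lemma smul_id_eq_zero_of_quot (T : TorLike A) (K : Ideal A) (j : ℕ) (x : A)
    (h : x • 𝟙 ((T.T (j + 2)).obj (ModuleCat.of A (A ⧸ K))) = 0) :
    x • 𝟙 ((T.T (j + 1)).obj (ModuleCat.of A ↥K)) = 0 := by
  let S : ShortComplex (ModuleCat.{u} A) :=
    ShortComplex.mk (ModuleCat.ofHom (Submodule.subtype K)) (ModuleCat.ofHom (Submodule.mkQ K)) (by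
      apply ModuleCat.hom_ext
      apply LinearMap.ext
      intro y
      exact (Submodule.Quotient.mk_eq_zero K).2 y.2)
  have hS : S.ShortExact :=
    { exact := by
        rw [ShortComplex.moduleCat_exact_iff]
        intro y hy
        exact ⟨⟨y, (Submodule.Quotient.mk_eq_zero K).1 hy⟩, rfl⟩
      mono_f := by
        rw [ModuleCat.mono_iff_injective]
        exact Subtype.val_injective
      epi_g := by
        rw [ModuleCat.epi_iff_surjective]
        exact Submodule.mkQ_surjective K }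
  have hp : Projective (ModuleCat.of A A) :=
    (IsProjective.iff_projective _).1 inferInstance
  have hz : IsZero ((T.T (j + 1)).obj S.X₂) := T.D.isZero_of_projective (ModuleCat.of A A) j
  have hepi : Epi (T.D.δ S hS (j + 1)) :=
    (T.D.exact₂ S hS (j + 1)).epi_f (hz.eq_of_tgt _ _)
  have e : T.D.δ S hS (j + 1) ≫ (x • 𝟙 ((T.T (j + 1)).obj S.X₁)) = 0 := by
    rw [Linear.comp_smul, Category.comp_id]
    have : x • T.D.δ S hS (j + 1) = (x • 𝟙 ((T.T (j + 1 + 1)).obj S.X₃)) ≫ T.D.δ S hS (j + 1) := by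
      rw [Linear.smul_comp, Category.id_comp]
    rw [this]
    have h' : x • 𝟙 ((T.T (j + 1 + 1)).obj S.X₃) = 0 := h
    rw [h', zero_comp]
  exact (cancel_epi (T.D.δ S hS (j + 1))).1 (by rw [e, comp_zero])

lemma smul_id_eq_zero_of_isColimit {J : Type u} [SmallCategory J] {F : J ⥤ ModuleCat.{u} A}
    {c : Cocone F} (hc : IsColimit c) (x : A) (h : ∀ k, x • 𝟙 (F.obj k) = 0) :
    x • 𝟙 c.pt = 0 := by
  refine hc.hom_ext fun k => ?_
  rw [comp_zero, Linear.comp_smul, Category.comp_id]
  have : x • c.ι.app k = (x • 𝟙 (F.obj k)) ≫ c.ι.app k := by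
    rw [Linear.smul_comp, Category.id_comp]
  rw [this, h k, zero_comp]

variable [IsNoetherianRing A]

/-- **Uniform annihilation of `Tor_i(A[I/a₀], M)`**. -/
theorem exists_smul_tor_blow_eq_zero (t : ℕ) (a : Fin (t + 1) → A) :
    ∃ c : ℕ, ∀ (M : ModuleCat.{u} A) (i : ℕ), t + 1 ≤ i →
      ∀ x ∈ Ideal.span (Set.range a) ^ c,
        ∀ y : ((Tor (ModuleCat.{u} A) i).obj (ModuleCat.of A
          ↥(BlowUp.affineAlgebra A (Ideal.span (Set.range a)) (a 0)))).obj M, x • y = 0 := by
  classical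
  obtain ⟨ca, ct, hG⟩ := exists_good_span (Finset.univ.image a)
  have hI : Ideal.span ((Finset.univ.image a : Finset A) : Set A) = Ideal.span (Set.range a) := by
    rw [Finset.coe_image, Finset.coe_univ, Set.image_univ]
  rw [hI] at hG
  have hcard : (Finset.univ.image a).card ≤ t + 1 := by
    refine Finset.card_image_le.trans ?_
    rw [Finset.card_univ, Fintype.card_fin]
  have hG' := hG.mono hcard
  have ha₀ : a 0 ∈ Ideal.span (Set.range a) := Ideal.subset_span ⟨0, rfl⟩
  refine ⟨ca, fun M i hi x hx y => ?_⟩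
  obtain ⟨j, rfl⟩ : ∃ j, i = j + 1 := ⟨i - 1, by lia⟩
  have hstage : ∀ n : ℕ, x • 𝟙 (((torLike M).T (j + 1)).obj
      (ModuleCat.of A ↥(Ideal.span (Set.range a) ^ n))) = 0 := fun n =>
    smul_id_eq_zero_of_quot (torLike M) _ j x ((hG' (torLike M) (j + 2) (by lia)).1 n x hx)
  have := Groth.Agent.Helper13Tor.preservesColimitsOfShape_tor_flip M (j + 1) (ULift.{u} ℕ)
  have hc := isColimitOfPreserves ((Tor (ModuleCat.{u} A) (j + 1)).flip.obj M)
    (isColimitCocone (Ideal.span (Set.range a)) (a 0) ha₀)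
  have hzero : x • 𝟙 (((Tor (ModuleCat.{u} A) (j + 1)).flip.obj M).obj
      (ModuleCat.of A ↥(BlowUp.affineAlgebra A (Ideal.span (Set.range a)) (a 0)))) = 0 :=
    smul_id_eq_zero_of_isColimit hc x (fun k => hstage k.down)
  exact app_eq hzero y

end TorPart

end Groth.Agent.Lib.T2H2.BlowTor

end
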