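import Mathlib

/-!
# Kronecker powers of matrices and the canonical rank-one matrix

For a commutative ring `S` we consider the Kronecker product
`kron x : Matrix (Fin n → Fin n) (Fin n → Fin n) S` of a family `x : Fin n → Matrix (Fin n) (Fin n) S`
and the rank-one matrix `alt = ε εᵀ`, where `ε f` is the sign of `f` when `f` is a permutation and
`0` otherwise.  The matrix `alt` is fixed by conjugation by Kronecker powers of invertible matrices.
-/

namespace Groth.Agent.Lib.T2H2.BrTor

open Matrix

section kron

variable {S : Type*} [CommRing S] {n : ℕ}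

/-- the index type `Fin n → Fin n` -/
abbrev Idx (n : ℕ) : Type := Fin n → Fin n

/-- Kronecker product of a family of `n × n` matrices indexed by `Fin n` -/
def kron (x : Fin n → Matrix (Fin n) (Fin n) S) : Matrix (Idx n) (Idx n) S :=
  fun f g => ∏ i, x i (f i) (g i)

theorem kron_apply (x : Fin n → Matrix (Fin n) (Fin n) S) (f g : Idx n) :
    kron x f g = ∏ i, x i (f i) (g i) := rfl

theorem kron_one : kron (1 : Fin n → Matrix (Fin n) (Fin n) S) = 1 := by
  ext f g
  rw [kron_apply]
  simp only [Pi.one_apply, Matrix.one_apply]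
  rw [Finset.prod_ite_zero]
  simp [funext_iff]

theorem kron_mul (x y : Fin n → Matrix (Fin n) (Fin n) S) :
    kron (x * y) = kron x * kron y := by
  ext f g
  rw [kron_apply, Matrix.mul_apply]
  simp only [Pi.mul_apply, Matrix.mul_apply, kron_apply]
  rw [Finset.prod_univ_sum, Fintype.piFinset_univ]
  apply Finset.sum_congr rfl
  intro h _
  rw [Finset.prod_mul_distrib]

theorem kron_map {S' : Type*} [CommRing S'] (u : S →+* S')
    (x : Fin n → Matrix (Fin n) (Fin n) S) :
    (kron x).map u = kron (fun i => (x i).map u) := by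
  ext f g
  simp [kron_apply, map_prod]

theorem kron_update (m : Fin n → Matrix (Fin n) (Fin n) S) (i : Fin n)
    (v : Matrix (Fin n) (Fin n) S) (f g : Idx n) :
    kron (Function.update m i v) f g =
      v (f i) (g i) * ∏ j ∈ Finset.univ \ {i}, m j (f j) (g j) := by
  rw [kron_apply]
  have h : ∀ j, (Function.update m i v j) (f j) (g j) =
      Function.update (fun j => m j (f j) (g j)) i (v (f i) (g i)) j := by
    intro j
    exact Function.apply_update (fun j (M : Matrix (Fin n) (Fin n) S) => M (f j) (g j)) m i v j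
  simp_rw [h]
  exact Finset.prod_update_of_mem (Finset.mem_univ i) _ _

/-- `kron` as a multilinear map -/
def kronMulti (S : Type*) [CommRing S] (n : ℕ) :
    MultilinearMap S (fun _ : Fin n => Matrix (Fin n) (Fin n) S) (Matrix (Idx n) (Idx n) S) where
  toFun := kron
  map_update_add' := by
    intro inst m i x y
    obtain rfl : inst = instDecidableEqFin n := Subsingleton.elim _ _
    ext f g
    rw [Matrix.add_apply, kron_update, kron_update, kron_update, Matrix.add_apply, add_mul]
  map_update_smul' := by
    intro inst m i c x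
    obtain rfl : inst = instDecidableEqFin n := Subsingleton.elim _ _
    ext f g
    rw [Matrix.smul_apply, kron_update, kron_update, Matrix.smul_apply, smul_eq_mul, smul_eq_mul,
      mul_assoc]

@[simp] theorem kronMulti_apply (x : Fin n → Matrix (Fin n) (Fin n) S) :
    kronMulti S n x = kron x := rfl

end kron

section eps

variable (S : Type*) [CommRing S] (n : ℕ)

open Classical in
/-- the sign vector: the sign of `f` if `f` is a permutation, and `0` otherwise -/
noncomputable def eps : Idx n → S :=
  fun f => if h : Function.Bijective f then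
    ((Equiv.Perm.sign (Equiv.ofBijective f h) : ℤ) : S) else 0

variable {S n}

theorem eps_perm (σ : Equiv.Perm (Fin n)) : eps S n ⇑σ = ((Equiv.Perm.sign σ : ℤ) : S) := by
  unfold eps
  rw [dif_pos σ.bijective]
  congr 3
  ext i
  rfl

theorem eps_of_not_bijective (f : Idx n) (hf : ¬ Function.Bijective f) : eps S n f = 0 := by
  unfold eps
  rw [dif_neg hf]

theorem eps_id : eps S n id = 1 := by
  have h := eps_perm (S := S) (1 : Equiv.Perm (Fin n))
  rw [Equiv.Perm.sign_one] at h
  simpa using h

theorem eps_map {S' : Type*} [CommRing S'] (u : S →+* S') (f : Idx n) :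
    u (eps S n f) = eps S' n f := by
  by_cases hf : Function.Bijective f
  · obtain ⟨σ, rfl⟩ : ∃ σ : Equiv.Perm (Fin n), ⇑σ = f := ⟨Equiv.ofBijective f hf, rfl⟩
    rw [eps_perm, eps_perm, map_intCast]
  · rw [eps_of_not_bijective f hf, eps_of_not_bijective f hf, map_zero]

theorem sum_mul_eps (F : Idx n → S) :
    ∑ g, F g * eps S n g =
      ∑ σ : Equiv.Perm (Fin n), F ⇑σ * ((Equiv.Perm.sign σ : ℤ) : S) := by
  symm
  apply Finset.sum_of_injOn (fun σ : Equiv.Perm (Fin n) => (⇑σ : Idx n))
  · intro σ _ τ _ h
    exact DFunLike.coe_injective h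
  · intro _ _
    exact Finset.mem_coe.2 (Finset.mem_univ _)
  · intro g _ hg
    rw [eps_of_not_bijective, mul_zero]
    intro hbij
    exact hg ⟨Equiv.ofBijective g hbij, Finset.mem_coe.2 (Finset.mem_univ _), rfl⟩
  · intro σ _
    rw [eps_perm]

theorem det_submatrix_left (u : Matrix (Fin n) (Fin n) S) (f : Idx n) :
    (u.submatrix f id).det = eps S n f * u.det := by
  by_cases hf : Function.Bijective f
  · obtain ⟨σ, rfl⟩ : ∃ σ : Equiv.Perm (Fin n), ⇑σ = f := ⟨Equiv.ofBijective f hf, rfl⟩
    rw [Matrix.det_permute, eps_perm]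
  · rw [eps_of_not_bijective f hf, zero_mul]
    have hni : ¬ Function.Injective f := fun h => hf (Finite.injective_iff_bijective.1 h)
    rw [Function.not_injective_iff] at hni
    obtain ⟨i, j, hij, hne⟩ := hni
    apply Matrix.det_zero_of_row_eq hne
    funext k
    simp [Matrix.submatrix_apply, hij]

theorem det_submatrix_right (u : Matrix (Fin n) (Fin n) S) (g : Idx n) :
    (u.submatrix id g).det = eps S n g * u.det := by
  rw [← Matrix.det_transpose, Matrix.transpose_submatrix, det_submatrix_left,
    Matrix.det_transpose]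

theorem kron_const_mulVec_eps (u : Matrix (Fin n) (Fin n) S) :
    (kron (fun _ => u)) *ᵥ (eps S n) = u.det • eps S n := by
  funext f
  show ∑ g, kron (fun _ => u) f g * eps S n g = _
  simp only [kron_apply]
  rw [sum_mul_eps]
  have h1 : ∑ σ : Equiv.Perm (Fin n), (∏ i, u (f i) (σ i)) * ((Equiv.Perm.sign σ : ℤ) : S) =
      (u.submatrix f id).det := by
    rw [← Matrix.det_transpose, Matrix.det_apply']
    apply Finset.sum_congr rfl
    intro σ _
    rw [mul_comm]
    rfl
  rw [h1, det_submatrix_left, Pi.smul_apply, smul_eq_mul, mul_comm]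

theorem eps_vecMul_kron_const (u : Matrix (Fin n) (Fin n) S) :
    (eps S n) ᵥ* (kron (fun _ => u)) = u.det • eps S n := by
  funext g
  show ∑ f, eps S n f * kron (fun _ => u) f g = _
  simp only [kron_apply]
  have h0 : ∑ f, eps S n f * ∏ i, u (f i) (g i) = ∑ f, (∏ i, u (f i) (g i)) * eps S n f :=
    Finset.sum_congr rfl (fun f _ => mul_comm _ _)
  rw [h0, sum_mul_eps (fun f => ∏ i, u (f i) (g i))]
  have h1 : ∑ σ : Equiv.Perm (Fin n), (∏ i, u (σ i) (g i)) * ((Equiv.Perm.sign σ : ℤ) : S) =
      (u.submatrix id g).det := by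
    rw [Matrix.det_apply']
    apply Finset.sum_congr rfl
    intro σ _
    rw [mul_comm]
    rfl
  rw [h1, det_submatrix_right, Pi.smul_apply, smul_eq_mul, mul_comm]

end eps

section alt

variable (S : Type*) [CommRing S] (n : ℕ)

/-- the canonical rank-one matrix `ε εᵀ` -/
noncomputable def alt : Matrix (Idx n) (Idx n) S := Matrix.vecMulVec (eps S n) (eps S n)

variable {S n}

theorem alt_apply (f g : Idx n) : alt S n f g = eps S n f * eps S n g := rfl

theorem alt_map {S' : Type*} [CommRing S'] (u : S →+* S') : (alt S n).map u = alt S' n := by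
  ext f g
  rw [Matrix.map_apply, alt_apply, alt_apply, map_mul, eps_map, eps_map]

theorem kron_const_mul_alt (u : Matrix (Fin n) (Fin n) S) :
    kron (fun _ => u) * alt S n = u.det • alt S n := by
  unfold alt
  rw [Matrix.mul_vecMulVec, kron_const_mulVec_eps, Matrix.smul_vecMulVec]

theorem alt_mul_kron_const (u : Matrix (Fin n) (Fin n) S) :
    alt S n * kron (fun _ => u) = u.det • alt S n := by
  unfold alt
  rw [Matrix.vecMulVec_mul, eps_vecMul_kron_const, Matrix.vecMulVec_smul]

theorem kron_const_mul_alt_mul_kron_const (w w' : Matrix (Fin n) (Fin n) S) (h : w * w' = 1) :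
    kron (fun _ => w) * alt S n * kron (fun _ => w') = alt S n := by
  rw [kron_const_mul_alt, Matrix.smul_mul, alt_mul_kron_const, smul_smul, ← Matrix.det_mul, h,
    Matrix.det_one, one_smul]

/-- the map `v ↦ v εᵀ` -/
noncomputable def colMap (S : Type*) [CommRing S] (n : ℕ) :
    (Idx n → S) →ₗ[S] Matrix (Idx n) (Idx n) S where
  toFun v := Matrix.vecMulVec v (eps S n)
  map_add' v w := Matrix.add_vecMulVec v w _
  map_smul' c v := Matrix.smul_vecMulVec c v _

theorem colMap_apply (v : Idx n → S) : colMap S n v = Matrix.vecMulVec v (eps S n) := rfl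

theorem colMap_injective : Function.Injective (colMap S n) := by
  intro v w h
  funext f
  have h1 := congrFun (congrFun h f) id
  rw [colMap_apply, colMap_apply, Matrix.vecMulVec_apply, Matrix.vecMulVec_apply, eps_id, mul_one,
    mul_one] at h1
  exact h1

theorem mul_alt_eq (X : Matrix (Idx n) (Idx n) S) :
    X * alt S n = colMap S n (X *ᵥ eps S n) := by
  rw [colMap_apply]
  unfold alt
  rw [Matrix.mul_vecMulVec]

theorem colMap_eq_mul_alt (v : Idx n → S) :
    colMap S n v = Matrix.vecMulVec v (Pi.single id 1) * alt S n := by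
  rw [colMap_apply]
  unfold alt
  rw [Matrix.vecMulVec_mul_vecMulVec]
  have : (Pi.single (id : Idx n) (1 : S)) ⬝ᵥ eps S n = 1 := by
    rw [single_dotProduct, one_mul, eps_id]
  rw [this, one_smul]

/-- the left ideal generated by `alt` is the image of `colMap` -/
theorem range_mulRight_alt :
    LinearMap.range (LinearMap.mulRight S (alt S n)) = LinearMap.range (colMap S n) := by
  ext Y
  constructor
  · rintro ⟨X, rfl⟩
    exact ⟨X *ᵥ eps S n, (mul_alt_eq X).symm⟩
  · rintro ⟨v, rfl⟩
    exact ⟨Matrix.vecMulVec v (Pi.single id 1), (colMap_eq_mul_alt v).symm⟩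

end alt

end Groth.Agent.Lib.T2H2.BrTor
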