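import Mathlib
import Groth.Agent.Lib.T2H2BrTorA
import Groth.Agent.Lib.T2H2AzHom
import Groth.Agent.Lib.LeadLocalInner

/-!
# The representation of a tensor power of an algebra attached to a matrix representation

For an `R`-algebra `A`, a commutative `R`-algebra `S` and an `R`-algebra homomorphism
`α : A → M_n(S)` we construct `rho α : A^{⊗ n} → M_{n^n}(S)` (Kronecker product) and its `S`-linear
extension `Psi α : S ⊗ A^{⊗ n} → M_{n^n}(S)`, and prove compatibility with base change and with
conjugation.
-/

namespace Groth.Agent.Lib.T2H2.BrTor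

open scoped TensorProduct

section rho

variable {R : Type*} [CommRing R] {A : Type*} [Ring A] [Algebra R A] {n : ℕ}
  {S : Type*} [CommRing S] [Algebra R S]

/-- the multilinear map `a ↦ kron (α ∘ a)` -/
noncomputable def rhoMulti (α : A →ₐ[R] Matrix (Fin n) (Fin n) S) :
    MultilinearMap R (fun _ : Fin n => A) (Matrix (Idx n) (Idx n) S) :=
  ((kronMulti S n).restrictScalars R).compLinearMap (fun _ => α.toLinearMap)

theorem rhoMulti_apply (α : A →ₐ[R] Matrix (Fin n) (Fin n) S) (a : Fin n → A) :
    rhoMulti α a = kron (fun i => α (a i)) := rfl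

/-- the algebra homomorphism from the tensor power given by the Kronecker product -/
noncomputable def rho (α : A →ₐ[R] Matrix (Fin n) (Fin n) S) :
    (⨂[R] _ : Fin n, A) →ₐ[R] Matrix (Idx n) (Idx n) S :=
  PiTensorProduct.liftAlgHom (rhoMulti α)
    (by
      rw [rhoMulti_apply]
      have : (fun i : Fin n => α ((1 : Fin n → A) i)) = 1 := by
        funext i
        simp
      rw [this, kron_one])
    (by
      intro x y
      rw [rhoMulti_apply, rhoMulti_apply, rhoMulti_apply, ← kron_mul]
      congr 1
      funext i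
      simp)

theorem rho_tprod (α : A →ₐ[R] Matrix (Fin n) (Fin n) S) (a : Fin n → A) :
    rho α (PiTensorProduct.tprod R a) = kron (fun i => α (a i)) := by
  unfold rho
  rw [PiTensorProduct.liftAlgHom_apply, PiTensorProduct.lift.tprod, rhoMulti_apply]

/-- the `S`-linear extension of `rho` -/
noncomputable def Psi (α : A →ₐ[R] Matrix (Fin n) (Fin n) S) :
    S ⊗[R] (⨂[R] _ : Fin n, A) →ₐ[S] Matrix (Idx n) (Idx n) S :=
  Algebra.TensorProduct.lift (Algebra.ofId S _) (rho α) (fun s _ => Algebra.commutes s _)

theorem Psi_tmul (α : A →ₐ[R] Matrix (Fin n) (Fin n) S) (s : S) (b : ⨂[R] _ : Fin n, A) :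
    Psi α (s ⊗ₜ b) = s • rho α b := by
  unfold Psi
  rw [Algebra.TensorProduct.lift_tmul, Algebra.ofId_apply, ← Algebra.smul_def]

/-- compatibility of `rho` with base change -/
theorem rho_baseChange {S' : Type*} [CommRing S'] [Algebra R S'] (u : S →ₐ[R] S')
    (α : A →ₐ[R] Matrix (Fin n) (Fin n) S) (b : ⨂[R] _ : Fin n, A) :
    rho (u.mapMatrix.comp α) b = (rho α b).map u := by
  have h : (rho (u.mapMatrix.comp α)).toLinearMap =
      (u.mapMatrix (m := Idx n)).toLinearMap ∘ₗ (rho α).toLinearMap := by
    apply PiTensorProduct.ext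
    apply MultilinearMap.ext
    intro a
    show rho (u.mapMatrix.comp α) (PiTensorProduct.tprod R a) =
      (rho α (PiTensorProduct.tprod R a)).map u
    rw [rho_tprod, rho_tprod]
    exact (kron_map (u : S →+* S') (fun i => α (a i))).symm
  exact LinearMap.congr_fun h b

/-- compatibility of `Psi` with base change -/
theorem Psi_baseChange {S' : Type*} [CommRing S'] [Algebra R S'] (u : S →ₐ[R] S')
    (α : A →ₐ[R] Matrix (Fin n) (Fin n) S) (x : S ⊗[R] (⨂[R] _ : Fin n, A)) :
    Psi (u.mapMatrix.comp α) (Algebra.TensorProduct.map u (AlgHom.id R _) x) =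
      (Psi α x).map u := by
  induction x using TensorProduct.induction_on with
  | zero => simp
  | add x y hx hy =>
    rw [map_add, map_add, hx, hy, map_add, Matrix.map_add (hf := fun a b => map_add u a b)]
  | tmul s b =>
    rw [Algebra.TensorProduct.map_tmul, Psi_tmul, Psi_tmul, rho_baseChange, AlgHom.id_apply]
    ext f g
    simp

/-- compatibility of `rho` with conjugation -/
theorem rho_conj (α α' : A →ₐ[R] Matrix (Fin n) (Fin n) S) (w w' : Matrix (Fin n) (Fin n) S)
    (h : ∀ a, α' a = w * α a * w') (b : ⨂[R] _ : Fin n, A) :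
    rho α' b = kron (fun _ => w) * rho α b * kron (fun _ => w') := by
  have h1 : (rho α').toLinearMap =
      (LinearMap.mulLeft R (kron (fun _ : Fin n => w)) ∘ₗ
        LinearMap.mulRight R (kron (fun _ : Fin n => w'))) ∘ₗ (rho α).toLinearMap := by
    apply PiTensorProduct.ext
    apply MultilinearMap.ext
    intro a
    show rho α' (PiTensorProduct.tprod R a) =
      kron (fun _ => w) * (rho α (PiTensorProduct.tprod R a) * kron (fun _ => w'))
    rw [rho_tprod, rho_tprod, ← kron_mul, ← kron_mul]
    congr 1
    funext i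
    rw [h, Pi.mul_apply, Pi.mul_apply, mul_assoc]
  have h2 := LinearMap.congr_fun h1 b
  rw [mul_assoc]
  exact h2

/-- compatibility of `Psi` with conjugation -/
theorem Psi_conj (α α' : A →ₐ[R] Matrix (Fin n) (Fin n) S) (w w' : Matrix (Fin n) (Fin n) S)
    (h : ∀ a, α' a = w * α a * w') (x : S ⊗[R] (⨂[R] _ : Fin n, A)) :
    Psi α' x = kron (fun _ => w) * Psi α x * kron (fun _ => w') := by
  induction x using TensorProduct.induction_on with
  | zero => simp
  | add x y hx hy => rw [map_add, map_add, hx, hy, mul_add, add_mul]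
  | tmul s b =>
    rw [Psi_tmul, Psi_tmul, rho_conj α α' w w' h, Matrix.mul_smul, Matrix.smul_mul]

end rho

end Groth.Agent.Lib.T2H2.BrTor
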