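import Mathlib
import Groth.Agent.Lib.T2H2BrTorB
import Groth.Agent.Lib.LeadAzumaya

/-!
# Bijectivity and invariance for the representation of a tensor power

`A` is an Azumaya `R`-algebra of constant rank `n ^ 2`.  Every `R`-algebra map `α : A → M_n(S)`
induces an isomorphism `S ⊗ A ≃ M_n(S)`, any two such are conjugate when `S` is local, and the
preimage of `alt` under `Psi α` does not depend on `α`.
-/

namespace Groth.Agent.Lib.T2H2.BrTor

open scoped TensorProduct

section bij

variable {R : Type*} [CommRing R] {A : Type*} [Ring A] [Algebra R A] {n : ℕ}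
  {S : Type*} [CommRing S] [Algebra R S]

/-- the `S`-linear extension of `α` -/
noncomputable def phi (α : A →ₐ[R] Matrix (Fin n) (Fin n) S) :
    S ⊗[R] A →ₐ[S] Matrix (Fin n) (Fin n) S :=
  Algebra.TensorProduct.lift (Algebra.ofId S _) α (fun s _ => Algebra.commutes s _)

theorem phi_one_tmul (α : A →ₐ[R] Matrix (Fin n) (Fin n) S) (a : A) :
    phi α (1 ⊗ₜ a) = α a := by
  unfold phi
  rw [Algebra.TensorProduct.lift_tmul, map_one, one_mul]

theorem rankAtStalk_matrix (m : Type*) [Fintype m] [DecidableEq m] (q : PrimeSpectrum S) :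
    Module.rankAtStalk (R := S) (Matrix m m S) q = Fintype.card m * Fintype.card m := by
  have hnt : Nontrivial S := q.nontrivial
  have h1 := congrFun (Module.rankAtStalk_eq_finrank_of_free (R := S) (M := Matrix m m S)) q
  rw [h1]
  simp [Module.finrank_matrix]

variable [IsAzumaya R A]
  (hrk : ∀ p : PrimeSpectrum R, Module.rankAtStalk (R := R) A p = n ^ 2)

include hrk in
theorem phi_bijective (hn : 0 < n) (α : A →ₐ[R] Matrix (Fin n) (Fin n) S) :
    Function.Bijective (phi α) := by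
  have : Nonempty (Fin n) := ⟨⟨0, hn⟩⟩
  have hAz : IsAzumaya S (S ⊗[R] A) := Groth.Agent.Lib.LeadAzumaya.isAzumaya_baseChange S A
  have hAzM : IsAzumaya S (Matrix (Fin n) (Fin n) S) := IsAzumaya.matrix S (Fin n)
  apply Groth.Agent.Lib.T2H2.AzHom.bijective_of_isAzumaya
  intro q
  rw [Module.rankAtStalk_baseChange, hrk, rankAtStalk_matrix]
  simp [pow_two]

include hrk in
/-- over a local ring any two matrix representations of `A` are conjugate -/
theorem exists_conj_of_isLocalRing [IsLocalRing S] (hn : 0 < n)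
    (α₁ α₂ : A →ₐ[R] Matrix (Fin n) (Fin n) S) :
    ∃ w w' : Matrix (Fin n) (Fin n) S, w * w' = 1 ∧ ∀ a, α₂ a = w * α₁ a * w' := by
  have : Nonempty (Fin n) := ⟨⟨0, hn⟩⟩
  have hAzM : IsAzumaya S (Matrix (Fin n) (Fin n) S) := IsAzumaya.matrix S (Fin n)
  let e₁ := AlgEquiv.ofBijective (phi α₁) (phi_bijective hrk hn α₁)
  let e₂ := AlgEquiv.ofBijective (phi α₂) (phi_bijective hrk hn α₂)
  obtain ⟨c, hc⟩ := Groth.Agent.Lib.LeadLocalInner.exists_unit_conj (e₁.symm.trans e₂)
  refine ⟨c, ((c⁻¹ : (Matrix (Fin n) (Fin n) S)ˣ) : Matrix (Fin n) (Fin n) S), c.mul_inv,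
    fun a => ?_⟩
  rw [← hc (α₁ a)]
  have h1 : e₁.symm (α₁ a) = 1 ⊗ₜ a := by
    rw [AlgEquiv.symm_apply_eq]
    exact (phi_one_tmul α₁ a).symm
  rw [AlgEquiv.trans_apply, h1]
  exact (phi_one_tmul α₂ a).symm

end bij

section inv

variable {R : Type*} [CommRing R] {A : Type*} [Ring A] [Algebra R A] {n : ℕ}
  [IsAzumaya R A]
  (hrk : ∀ p : PrimeSpectrum R, Module.rankAtStalk (R := R) A p = n ^ 2)
  {T : Type*} [CommRing T] [Algebra R T]

include hrk in
/-- the preimage of `alt` under `Psi α` does not depend on `α` -/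
theorem Psi_eq_alt_of_Psi_eq_alt (hn : 0 < n) (α₁ α₂ : A →ₐ[R] Matrix (Fin n) (Fin n) T)
    (y : T ⊗[R] (⨂[R] _ : Fin n, A)) (h : Psi α₁ y = alt T n) : Psi α₂ y = alt T n := by
  ext f g
  rw [← sub_eq_zero]
  apply eq_zero_of_localization
  intro J hJ
  have := hJ.isPrime
  let T' := Localization.AtPrime J
  let u : T →ₐ[R] T' := IsScalarTower.toAlgHom R T T'
  have halt : (alt T n).map ⇑u = alt T' n := alt_map (u : T →+* T')
  have h1 := Psi_baseChange u α₁ y
  rw [h, halt] at h1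
  obtain ⟨w, w', hw, hconj⟩ :=
    exists_conj_of_isLocalRing hrk hn (u.mapMatrix.comp α₁) (u.mapMatrix.comp α₂)
  have h2 := Psi_conj _ _ w w' hconj (Algebra.TensorProduct.map u (AlgHom.id R _) y)
  rw [h1, kron_const_mul_alt_mul_kron_const w w' hw] at h2
  have h3 := Psi_baseChange u α₂ y
  rw [h2] at h3
  have h4 := congrFun (congrFun h3 f) g
  rw [Matrix.map_apply] at h4
  rw [map_sub, sub_eq_zero]
  show u (Psi α₂ y f g) = u (alt T n f g)
  rw [← h4, ← halt]
  rfl

end inv

end Groth.Agent.Lib.T2H2.BrTor
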