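import Mathlib
import Groth.Agent.S19587

/-!
# Tensor powers of an Azumaya algebra are Azumaya

For an Azumaya `R`-algebra `A` and a finite type `ι` the algebra `⨂[R] _ : ι, A` is Azumaya and its
rank is the `|ι|`-th power of the rank of `A`.
-/

namespace Groth.Agent.Lib.T2H2.BrTor

open scoped TensorProduct
open PiTensorProduct

section algEquiv

variable {R : Type*} [CommRing R] {A : Type*} [Ring A] [Algebra R A]

/-- multiplicativity of a linear map out of a tensor power may be checked on pure tensors -/
theorem map_mul_of_tprod {ι : Type*} {C : Type*} [Ring C] [Algebra R C]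
    (L : (⨂[R] _ : ι, A) →ₗ[R] C)
    (h : ∀ a b : ι → A, L (tprod R a * tprod R b) = L (tprod R a) * L (tprod R b)) :
    ∀ x y, L (x * y) = L x * L y := by
  rw [LinearMap.map_mul_iff]
  ext a b
  exact h a b

/-- an algebra equivalence from a linear equivalence which is multiplicative on pure tensors -/
noncomputable def algEquivOfTprod {ι : Type*} {C : Type*} [Ring C] [Algebra R C]
    (L : (⨂[R] _ : ι, A) ≃ₗ[R] C) (h1 : L (tprod R 1) = 1)
    (h : ∀ a b : ι → A, L (tprod R a * tprod R b) = L (tprod R a) * L (tprod R b)) :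
    (⨂[R] _ : ι, A) ≃ₐ[R] C :=
  AlgEquiv.ofLinearEquiv L h1 (map_mul_of_tprod L.toLinearMap h)

/-- reindexing as an algebra equivalence -/
noncomputable def reindexAlg {ι ι' : Type*} (e : ι ≃ ι') :
    (⨂[R] _ : ι, A) ≃ₐ[R] ⨂[R] _ : ι', A :=
  algEquivOfTprod (PiTensorProduct.reindex R (fun _ => A) e)
    (by
      rw [PiTensorProduct.reindex_tprod]
      rfl)
    (by
      intro a b
      rw [PiTensorProduct.tprod_mul_tprod, PiTensorProduct.reindex_tprod,
        PiTensorProduct.reindex_tprod, PiTensorProduct.reindex_tprod,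
        PiTensorProduct.tprod_mul_tprod]
      rfl)

/-- the tensor power over an empty type -/
noncomputable def emptyAlg {ι : Type*} [IsEmpty ι] : (⨂[R] _ : ι, A) ≃ₐ[R] R :=
  algEquivOfTprod (PiTensorProduct.isEmptyEquiv ι)
    (by rw [PiTensorProduct.isEmptyEquiv_apply_tprod])
    (by
      intro a b
      rw [PiTensorProduct.tprod_mul_tprod, PiTensorProduct.isEmptyEquiv_apply_tprod,
        PiTensorProduct.isEmptyEquiv_apply_tprod, PiTensorProduct.isEmptyEquiv_apply_tprod,
        mul_one])

/-- the linear equivalence splitting off one factor -/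
noncomputable def optionLin (ι : Type*) :
    (⨂[R] _ : Option ι, A) ≃ₗ[R] (⨂[R] _ : ι, A) ⊗[R] A :=
  (PiTensorProduct.reindex R (fun _ => A) (Equiv.optionEquivSumPUnit.{0} ι)) ≪≫ₗ
    (PiTensorProduct.tmulEquiv R A).symm ≪≫ₗ
      (TensorProduct.congr (LinearEquiv.refl R _)
        (PiTensorProduct.subsingletonEquiv (s := fun _ => A) PUnit.unit))

theorem optionLin_tprod (ι : Type*) (a : Option ι → A) :
    optionLin (R := R) ι (tprod R a) = (tprod R (fun i => a (some i))) ⊗ₜ[R] a none := by
  unfold optionLin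
  rw [LinearEquiv.trans_apply, LinearEquiv.trans_apply, PiTensorProduct.reindex_tprod,
    PiTensorProduct.tmulEquiv_symm_apply, TensorProduct.congr_tmul,
    PiTensorProduct.subsingletonEquiv_apply_tprod]
  rfl

/-- splitting off one factor, as an algebra equivalence -/
noncomputable def optionAlg (ι : Type*) :
    (⨂[R] _ : Option ι, A) ≃ₐ[R] (⨂[R] _ : ι, A) ⊗[R] A :=
  algEquivOfTprod (optionLin ι)
    (by
      rw [optionLin_tprod]
      rfl)
    (by
      intro a b
      rw [PiTensorProduct.tprod_mul_tprod, optionLin_tprod, optionLin_tprod, optionLin_tprod,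
        Algebra.TensorProduct.tmul_mul_tmul, PiTensorProduct.tprod_mul_tprod]
      rfl)

end algEquiv

section azumaya

variable {R : Type*} [CommRing R] {A : Type*} [Ring A] [Algebra R A] [IsAzumaya R A]

/-- tensor powers of an Azumaya algebra are Azumaya, with the expected rank -/
theorem isAzumaya_piTensor (ι : Type) [Finite ι] :
    IsAzumaya R (⨂[R] _ : ι, A) ∧
      ∀ p : PrimeSpectrum R, Module.rankAtStalk (R := R) (⨂[R] _ : ι, A) p =
        (Module.rankAtStalk (R := R) A p) ^ Nat.card ι := by
  induction ι using Finite.induction_empty_option with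
  | of_equiv e ih =>
    obtain ⟨h1, h2⟩ := ih
    refine ⟨IsAzumaya.of_AlgEquiv _ _ _ (reindexAlg e), fun p => ?_⟩
    rw [← Nat.card_congr e, ← h2 p,
      Module.rankAtStalk_eq_of_equiv (reindexAlg (R := R) (A := A) e).toLinearEquiv]
  | h_empty =>
    refine ⟨IsAzumaya.of_AlgEquiv _ _ _ (emptyAlg (R := R) (A := A) (ι := PEmpty)).symm, fun p => ?_⟩
    have hnt : Nontrivial R := p.nontrivial
    rw [Module.rankAtStalk_eq_of_equiv (emptyAlg (R := R) (A := A) (ι := PEmpty)).toLinearEquiv,
      Module.rankAtStalk_self]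
    simp
  | h_option ih =>
    rename_i ι _
    obtain ⟨h1, h2⟩ := ih
    have hfin : Module.Finite R A := IsAzumaya.toFinite
    have hproj : Module.Projective R A := IsAzumaya.toProjective
    have hfin' : Module.Finite R (⨂[R] _ : ι, A) := h1.toFinite
    have hproj' : Module.Projective R (⨂[R] _ : ι, A) := h1.toProjective
    have hAz : IsAzumaya R ((⨂[R] _ : ι, A) ⊗[R] A) := Groth.Agent.S19587.result R _ A
    refine ⟨IsAzumaya.of_AlgEquiv _ _ _ (optionAlg (R := R) (A := A) ι).symm, fun p => ?_⟩
    rw [Module.rankAtStalk_eq_of_equiv (optionAlg (R := R) (A := A) ι).toLinearEquiv,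
      Module.rankAtStalk_tensorProduct, Pi.mul_apply, h2 p]
    have : Nat.card (Option ι) = Nat.card ι + 1 := by
      rw [Nat.card_eq_fintype_card, Nat.card_eq_fintype_card, Fintype.card_option]
    rw [this, pow_succ]

end azumaya

end Groth.Agent.Lib.T2H2.BrTor
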