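import Mathlib
import Groth.Agent.S5720
import Groth.Agent.Lib.T2H2EtLoc
import Groth.Agent.Lib.T2H2BrTorC

/-!
# A global faithfully flat matrix representation of an Azumaya algebra of constant rank
-/

namespace Groth.Agent.Lib.T2H2.BrTor

open scoped TensorProduct

universe u

section piMat

variable {R : Type*} [CommRing R] {A : Type*} [Ring A] [Algebra R A] {n : ℕ}
  {ι : Type*} (E : ι → Type*) [∀ i, CommRing (E i)] [∀ i, Algebra R (E i)]

/-- a family of matrix representations gives a matrix representation over the product -/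
noncomputable def piMatHom (α : ∀ i, A →ₐ[R] Matrix (Fin n) (Fin n) (E i)) :
    A →ₐ[R] Matrix (Fin n) (Fin n) (∀ i, E i) where
  toFun a := Matrix.of fun j k => fun i => α i a j k
  map_one' := by
    ext j k i
    simp [Matrix.one_apply]
    split_ifs <;> rfl
  map_mul' a b := by
    ext j k i
    simp [Matrix.mul_apply]
  map_zero' := by
    ext j k i
    simp
  map_add' a b := by
    ext j k i
    simp
  commutes' r := by
    ext j k i
    simp [Matrix.algebraMap_matrix_apply]
    split_ifs <;> rfl

end piMat

section local_rep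

variable {R : Type u} [CommRing R] {A : Type u} [Ring A] [Algebra R A] [IsAzumaya R A] {n : ℕ}
  (hrk : ∀ p : PrimeSpectrum R, Module.rankAtStalk (R := R) A p = n ^ 2)

include hrk in
theorem exists_local_rep (p : PrimeSpectrum R) :
    ∃ (E : Type u) (_ : CommRing E) (_ : Algebra R E) (_ : Algebra.Etale R E),
      p ∈ Set.range (PrimeSpectrum.comap (algebraMap R E)) ∧
        Nonempty (A →ₐ[R] Matrix (Fin n) (Fin n) E) := by
  obtain ⟨f, hf, E, _, _, _, _, hfin, het, hff, r, hr, ⟨e⟩⟩ :=
    Groth.Agent.S5720.result R A p.asIdeal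
  have hetf : Algebra.Etale R (Localization.Away f) := Algebra.Etale.of_isLocalizationAway f
  have hetE : Algebra.Etale R E := Algebra.Etale.comp R (Localization.Away f) E
  have hmem : p ∈ Set.range (PrimeSpectrum.comap (algebraMap R E)) := by
    rw [PrimeSpectrum.mem_range_comap_iff]
    rw [IsScalarTower.algebraMap_eq R (Localization.Away f) E, ← Ideal.map_map,
      ← Ideal.comap_comap, Ideal.comap_map_eq_self_of_faithfullyFlat]
    apply IsLocalization.under_map_of_isPrime_disjoint (Submonoid.powers f) _ p.isPrime
    rw [Ideal.disjoint_powers_iff_notMem _ p.isPrime.isRadical]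
    exact hf
  obtain ⟨q, hq⟩ := hmem
  have hrn : r = n := by
    have h1 := Module.rankAtStalk_baseChange (R := R) (M := A) (S := E) q
    rw [hq, hrk, Module.rankAtStalk_eq_of_equiv e.toLinearEquiv, rankAtStalk_matrix] at h1
    simp only [Fintype.card_fin] at h1
    rw [← pow_two] at h1
    exact Nat.pow_left_injective (by norm_num) h1
  subst hrn
  exact ⟨E, inferInstance, inferInstance, hetE, ⟨q, hq⟩,
    ⟨(e.restrictScalars R).toAlgHom.comp Algebra.TensorProduct.includeRight⟩⟩

include hrk in
/-- a faithfully flat algebra over which `A` has a matrix representation -/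
theorem exists_global_rep :
    ∃ (S : Type u) (_ : CommRing S) (_ : Algebra R S) (_ : Module.FaithfullyFlat R S),
      Nonempty (A →ₐ[R] Matrix (Fin n) (Fin n) S) := by
  choose 𝓔 i1 i2 i3 hr hα using exists_local_rep (A := A) hrk
  obtain ⟨t, ht⟩ := Groth.Agent.Lib.T2H2.EtLoc.exists_finite_etale_cover R 𝓔 hr
  exact ⟨∀ i : t, 𝓔 i, inferInstance, inferInstance, ht,
    ⟨piMatHom (fun i : t => 𝓔 i) (fun i => (hα i).some)⟩⟩

end local_rep

end Groth.Agent.Lib.T2H2.BrTor
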