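import Mathlib
import Groth.Agent.Lib.T2H2BrTorC
import Groth.Agent.Lib.T2H2BrTorD

/-!
# Descent of the canonical rank-one element to a tensor power of an Azumaya algebra
-/

namespace Groth.Agent.Lib.T2H2.BrTor

open scoped TensorProduct

section descent

variable {R : Type*} [CommRing R] {S : Type*} [CommRing S] [Algebra R S]
  [Module.FaithfullyFlat R S] (M : Type*) [AddCommGroup M] [Module R M] [Module.Flat R M]

/-- faithfully flat descent of elements of a flat module -/
theorem exists_of_descent (x : S ⊗[R] M)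
    (h : (Algebra.TensorProduct.includeLeft : S →ₐ[R] S ⊗[R] S).toLinearMap.rTensor M x =
      (Algebra.TensorProduct.includeRight : S →ₐ[R] S ⊗[R] S).toLinearMap.rTensor M x) :
    ∃ m : M, x = 1 ⊗ₜ m := by
  have heff : Function.Exact (Algebra.linearMap R S)
      (Algebra.TensorProduct.includeLeftSubRight R S) := Algebra.IsEffective.of_faithfullyFlat R S
  have hex := Module.Flat.rTensor_exact M heff
  have h0 : (Algebra.TensorProduct.includeLeftSubRight R S).rTensor M x = 0 := by
    unfold Algebra.TensorProduct.includeLeftSubRight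
    rw [LinearMap.rTensor_sub, LinearMap.sub_apply, h, sub_self]
  obtain ⟨y, hy⟩ := (hex x).1 h0
  refine ⟨TensorProduct.lid R M y, ?_⟩
  rw [← hy]
  have hy2 : y = (1 : R) ⊗ₜ[R] (TensorProduct.lid R M y) := by
    apply (TensorProduct.lid R M).injective
    rw [TensorProduct.lid_tmul, one_smul]
  conv_lhs => rw [hy2]
  rw [LinearMap.rTensor_tmul, Algebra.linearMap_apply, map_one]

end descent

section elt

variable {R : Type*} [CommRing R] {A : Type*} [Ring A] [Algebra R A] {n : ℕ}
  [IsAzumaya R A]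
  (hrk : ∀ p : PrimeSpectrum R, Module.rankAtStalk (R := R) A p = n ^ 2)
  {S : Type*} [CommRing S] [Algebra R S]

include hrk in
theorem Psi_bijective (α : A →ₐ[R] Matrix (Fin n) (Fin n) S) : Function.Bijective (Psi α) := by
  obtain ⟨hB, hBr⟩ := isAzumaya_piTensor (R := R) (A := A) (Fin n)
  have : Nonempty (Idx n) := ⟨id⟩
  have hAz : IsAzumaya S (S ⊗[R] (⨂[R] _ : Fin n, A)) :=
    Groth.Agent.Lib.LeadAzumaya.isAzumaya_baseChange S _
  have hAzM : IsAzumaya S (Matrix (Idx n) (Idx n) S) := IsAzumaya.matrix S (Idx n)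
  apply Groth.Agent.Lib.T2H2.AzHom.bijective_of_isAzumaya
  intro q
  rw [Module.rankAtStalk_baseChange, hBr, hrk, rankAtStalk_matrix]
  simp only [Nat.card_eq_fintype_card, Fintype.card_fin, Fintype.card_pi, Finset.prod_const,
    Finset.card_univ]
  rw [← pow_mul, two_mul, pow_add]

variable [Module.FaithfullyFlat R S]

include hrk in
/-- the canonical rank-one element descends to the tensor power -/
theorem exists_elt (hn : 0 < n) (α : A →ₐ[R] Matrix (Fin n) (Fin n) S) :
    ∃ s : ⨂[R] _ : Fin n, A, Psi α (1 ⊗ₜ s) = alt S n := by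
  obtain ⟨hB, hBr⟩ := isAzumaya_piTensor (R := R) (A := A) (Fin n)
  have hproj : Module.Projective R (⨂[R] _ : Fin n, A) := hB.toProjective
  obtain ⟨x, hx⟩ := (Psi_bijective hrk α).2 (alt S n)
  let T := S ⊗[R] S
  let u₁ : S →ₐ[R] T := Algebra.TensorProduct.includeLeft
  let u₂ : S →ₐ[R] T := Algebra.TensorProduct.includeRight
  have h1 := Psi_baseChange u₁ α x
  have halt₁ : (alt S n).map ⇑u₁ = alt T n := alt_map (u₁ : S →+* T)
  rw [hx, halt₁] at h1
  have h2 := Psi_baseChange u₂ α x
  have halt₂ : (alt S n).map ⇑u₂ = alt T n := alt_map (u₂ : S →+* T)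
  rw [hx, halt₂] at h2
  have h3 := Psi_eq_alt_of_Psi_eq_alt hrk hn (u₁.mapMatrix.comp α) (u₂.mapMatrix.comp α) _ h1
  have h4 : Algebra.TensorProduct.map u₁ (AlgHom.id R (⨂[R] _ : Fin n, A)) x =
      Algebra.TensorProduct.map u₂ (AlgHom.id R (⨂[R] _ : Fin n, A)) x :=
    (Psi_bijective hrk (u₂.mapMatrix.comp α)).1 (h3.trans h2.symm)
  obtain ⟨s, hs⟩ := exists_of_descent (⨂[R] _ : Fin n, A) x h4
  exact ⟨s, hs ▸ hx⟩

end elt

end Groth.Agent.Lib.T2H2.BrTor
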