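import Mathlib
import Groth.Agent.Lib.T2H2BrTorE
import Groth.Agent.Lib.T2H2BrTorF
import Groth.Agent.S19589

/-!
# The tensor power of an Azumaya algebra of degree `n` is an endomorphism algebra
-/

namespace Groth.Agent.Lib.T2H2.BrTor

open scoped TensorProduct

section ideal

variable {R : Type*} [CommRing R] {B : Type*} [Ring B] [Algebra R B] (s : B)

/-- the left ideal `B s` as an `R`-submodule -/
abbrev leftIdeal : Submodule R B := LinearMap.range (LinearMap.mulRight R s)

theorem mul_mem_leftIdeal (b : B) {x : B} (hx : x ∈ leftIdeal (R := R) s) :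
    b * x ∈ leftIdeal (R := R) s := by
  obtain ⟨c, rfl⟩ := hx
  exact ⟨b * c, by simp [mul_assoc]⟩

/-- the action of `B` on the left ideal `B s` -/
noncomputable def actHom : B →ₐ[R] Module.End R (leftIdeal (R := R) s) where
  toFun b := (LinearMap.mulLeft R b).restrict (fun x hx => mul_mem_leftIdeal s b hx)
  map_one' := by
    ext x
    simp
  map_mul' a b := by
    ext x
    simp
  map_zero' := by
    ext x
    simp
  map_add' a b := by
    ext x
    simp [add_mul]
  commutes' r := by
    ext x
    simp [Algebra.smul_def]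

end ideal

section main

variable {R : Type*} [CommRing R] {A : Type*} [Ring A] [Algebra R A] {n : ℕ}
  [IsAzumaya R A]
  (hrk : ∀ p : PrimeSpectrum R, Module.rankAtStalk (R := R) A p = n ^ 2)
  {S : Type*} [CommRing S] [Algebra R S] [Module.FaithfullyFlat R S]
  (α : A →ₐ[R] Matrix (Fin n) (Fin n) S) (s : ⨂[R] _ : Fin n, A)
  (hs : Psi α (1 ⊗ₜ s) = alt S n)

/-- the comparison map `S ⊗ B s → M_N(S)` -/
noncomputable def Fmap : S ⊗[R] (leftIdeal (R := R) s) →ₗ[S] Matrix (Idx n) (Idx n) S :=
  (Psi α).toLinearMap ∘ₗ (LinearMap.baseChange S (leftIdeal (R := R) s).subtype)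

include hrk in
theorem Fmap_injective : Function.Injective (Fmap α s) := by
  unfold Fmap
  rw [LinearMap.coe_comp]
  apply Function.Injective.comp
  · exact (Psi_bijective hrk α).1
  · rw [LinearMap.baseChange_eq_ltensor]
    exact Module.Flat.lTensor_preserves_injective_linearMap _ Subtype.val_injective

/-- the surjection `S ⊗ B → S ⊗ B s` -/
noncomputable def Gmap : S ⊗[R] (⨂[R] _ : Fin n, A) →ₗ[S] S ⊗[R] (leftIdeal (R := R) s) :=
  LinearMap.baseChange S (LinearMap.mulRight R s).rangeRestrict

omit [IsAzumaya R A] [Module.FaithfullyFlat R S] in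
theorem Gmap_surjective : Function.Surjective (Gmap (S := S) s) := by
  unfold Gmap
  rw [LinearMap.baseChange_eq_ltensor]
  exact LinearMap.lTensor_surjective _ (LinearMap.surjective_rangeRestrict _)

omit [IsAzumaya R A] [Module.FaithfullyFlat R S] in
include hs in
theorem Fmap_Gmap (x : S ⊗[R] (⨂[R] _ : Fin n, A)) :
    Fmap α s (Gmap s x) = Psi α x * alt S n := by
  induction x using TensorProduct.induction_on with
  | zero => simp
  | add x y hx hy => rw [map_add, map_add, hx, hy, map_add, add_mul]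
  | tmul t b =>
    unfold Fmap Gmap
    rw [LinearMap.baseChange_tmul, LinearMap.comp_apply, LinearMap.baseChange_tmul]
    show Psi α (t ⊗ₜ[R] (b * s)) = _
    rw [← hs, ← map_mul, Algebra.TensorProduct.tmul_mul_tmul, mul_one]

omit [Module.FaithfullyFlat R S] in
include hrk hs in
theorem range_Fmap : LinearMap.range (Fmap α s) = LinearMap.range (colMap S n) := by
  rw [← range_mulRight_alt]
  ext Y
  constructor
  · rintro ⟨z, rfl⟩
    obtain ⟨x, rfl⟩ := Gmap_surjective s z
    exact ⟨Psi α x, (Fmap_Gmap α s hs x).symm⟩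
  · rintro ⟨X, rfl⟩
    obtain ⟨x, rfl⟩ := (Psi_bijective hrk α).2 X
    exact ⟨Gmap s x, Fmap_Gmap α s hs x⟩

include hrk hs in
/-- the base change of the left ideal is free -/
theorem nonempty_linearEquiv :
    Nonempty (S ⊗[R] (leftIdeal (R := R) s) ≃ₗ[S] (Idx n → S)) :=
  ⟨(LinearEquiv.ofInjective (Fmap α s) (Fmap_injective hrk α s)) ≪≫ₗ
    (LinearEquiv.ofEq _ _ (range_Fmap hrk α s hs)) ≪≫ₗ
      (LinearEquiv.ofInjective (colMap S n) colMap_injective).symm⟩

include hrk hs in
theorem finite_projective_leftIdeal :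
    Module.Finite R (leftIdeal (R := R) s) ∧ Module.Projective R (leftIdeal (R := R) s) := by
  obtain ⟨Λ⟩ := nonempty_linearEquiv hrk α s hs
  have h1 : Module.Finite S (S ⊗[R] (leftIdeal (R := R) s)) := Module.Finite.equiv Λ.symm
  have h2 : Module.Projective S (S ⊗[R] (leftIdeal (R := R) s)) :=
    Module.Projective.of_equiv Λ.symm
  exact Groth.Agent.Lib.LeadAzumaya.finite_projective_of_faithfullyFlat_baseChange S _

include hrk hs in
theorem rankAtStalk_leftIdeal (p : PrimeSpectrum R) :
    Module.rankAtStalk (R := R) (leftIdeal (R := R) s) p = n ^ n := by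
  obtain ⟨Λ⟩ := nonempty_linearEquiv hrk α s hs
  obtain ⟨hfin, hproj⟩ := finite_projective_leftIdeal hrk α s hs
  obtain ⟨q, rfl⟩ := PrimeSpectrum.comap_surjective_of_faithfullyFlat (A := R) (B := S) p
  have hnt : Nontrivial S := q.nontrivial
  rw [← Module.rankAtStalk_baseChange, Module.rankAtStalk_eq_of_equiv Λ,
    Module.rankAtStalk_eq_finrank_of_free]
  simp

include hrk hs in
theorem faithfulSMul_leftIdeal : FaithfulSMul R (leftIdeal (R := R) s) := by
  obtain ⟨Λ⟩ := nonempty_linearEquiv hrk α s hs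
  refine ⟨fun {r₁ r₂} h => ?_⟩
  have h1 : ∀ z : S ⊗[R] (leftIdeal (R := R) s), r₁ • z = r₂ • z := by
    intro z
    induction z using TensorProduct.induction_on with
    | zero => simp
    | add x y hx hy => rw [smul_add, smul_add, hx, hy]
    | tmul t e => rw [TensorProduct.smul_tmul', TensorProduct.smul_tmul', TensorProduct.smul_tmul,
        TensorProduct.smul_tmul r₂, h e]
  have h2 := h1 (Λ.symm (fun _ => 1))
  have h3 := congrArg Λ h2
  rw [← algebraMap_smul S r₁, ← algebraMap_smul S r₂, map_smul, map_smul,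
    LinearEquiv.apply_symm_apply] at h3
  have h4 := congrFun h3 id
  simp only [Pi.smul_apply, smul_eq_mul, mul_one] at h4
  exact FaithfulSMul.algebraMap_injective R S h4

include hrk hs in
theorem rankAtStalk_end_leftIdeal (p : PrimeSpectrum R) :
    Module.rankAtStalk (R := R) (Module.End R (leftIdeal (R := R) s)) p = n ^ n * n ^ n := by
  obtain ⟨Λ⟩ := nonempty_linearEquiv hrk α s hs
  obtain ⟨hfin, hproj⟩ := finite_projective_leftIdeal hrk α s hs
  have hfaith := faithfulSMul_leftIdeal hrk α s hs
  have hAz : IsAzumaya R (Module.End R (leftIdeal (R := R) s)) := Groth.Agent.S19589.result R _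
  have hfin' : Module.Finite R (Module.End R (leftIdeal (R := R) s)) := hAz.toFinite
  have hproj' : Module.Projective R (Module.End R (leftIdeal (R := R) s)) := hAz.toProjective
  obtain ⟨q, rfl⟩ := PrimeSpectrum.comap_surjective_of_faithfullyFlat (A := R) (B := S) p
  have hnt : Nontrivial S := q.nontrivial
  let e1 : S ⊗[R] Module.End R (leftIdeal (R := R) s) ≃ₗ[S]
      Module.End S (S ⊗[R] (leftIdeal (R := R) s)) :=
    LinearEquiv.ofBijective (LinearMap.tensorProductEnd R S (leftIdeal (R := R) s))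
      (Groth.Agent.Lib.LeadAzumaya.tensorProductEnd_bijective S (leftIdeal (R := R) s))
  let e2 : Module.End S (S ⊗[R] (leftIdeal (R := R) s)) ≃ₗ[S] Module.End S (Idx n → S) :=
    LinearEquiv.conj Λ
  let e3 : Module.End S (Idx n → S) ≃ₗ[S] Matrix (Idx n) (Idx n) S := LinearMap.toMatrix'
  rw [← Module.rankAtStalk_baseChange,
    Module.rankAtStalk_eq_of_equiv (e1 ≪≫ₗ e2 ≪≫ₗ e3), rankAtStalk_matrix]
  simp

include hrk hs in
/-- the tensor power is the endomorphism algebra of the left ideal -/
theorem actHom_bijective : Function.Bijective (actHom (R := R) s) := by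
  obtain ⟨hB, hBr⟩ := isAzumaya_piTensor (R := R) (A := A) (Fin n)
  obtain ⟨hfin, hproj⟩ := finite_projective_leftIdeal hrk α s hs
  have hfaith := faithfulSMul_leftIdeal hrk α s hs
  have hAz : IsAzumaya R (Module.End R (leftIdeal (R := R) s)) := Groth.Agent.S19589.result R _
  refine Groth.Agent.Lib.T2H2.AzHom.bijective_of_isAzumaya (A := ⨂[R] _ : Fin n, A)
    (A' := Module.End R (leftIdeal (R := R) s)) (actHom (R := R) s) (fun p => ?_)
  rw [rankAtStalk_end_leftIdeal hrk α s hs, hBr, hrk]
  simp only [Nat.card_eq_fintype_card, Fintype.card_fin]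
  rw [← pow_mul, two_mul, pow_add]

end main

section final

universe u

variable {R : Type u} [CommRing R] {A : Type u} [Ring A] [Algebra R A] [IsAzumaya R A] {n : ℕ}
  (hrk : ∀ p : PrimeSpectrum R, Module.rankAtStalk (R := R) A p = n ^ 2)

include hrk in
theorem main_pos (hn : 0 < n) :
    ∃ (E : Type u) (_ : AddCommGroup E) (_ : Module R E), Module.Finite R E ∧
      Module.Projective R E ∧
      (∀ p : PrimeSpectrum R, Module.rankAtStalk (R := R) E p = n ^ n) ∧
      Nonempty ((⨂[R] _ : Fin n, A) ≃ₐ[R] Module.End R E) := by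
  obtain ⟨S, _, _, _, ⟨α⟩⟩ := exists_global_rep (A := A) hrk
  obtain ⟨s, hs⟩ := exists_elt hrk hn α
  obtain ⟨hfin, hproj⟩ := finite_projective_leftIdeal hrk α s hs
  exact ⟨leftIdeal (R := R) s, inferInstance, inferInstance, hfin, hproj,
    rankAtStalk_leftIdeal hrk α s hs,
    ⟨AlgEquiv.ofBijective (actHom (R := R) s) (actHom_bijective hrk α s hs)⟩⟩

end final

end Groth.Agent.Lib.T2H2.BrTor
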