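import Mathlib

/-!
# Proportional effective Cartier divisors (T2 helper2)
-/

namespace Groth.Agent.Lib.T2H2.CDivPow

open AlgebraicGeometry CategoryTheory TopologicalSpace

universe u

section ring

variable {S : Type*} [CommRing S]

theorem isUnit_of_pow_dvd_pow {d : S} (hd : d ∈ nonZeroDivisors S) {a b : ℕ} (hab : a < b)
    (h : d ^ b ∣ d ^ a) : IsUnit d := by
  obtain ⟨c, hc⟩ := h
  obtain ⟨k, rfl⟩ : ∃ k, b = a + (k + 1) := ⟨b - a - 1, by omega⟩
  have h1 : d ^ a * (1 - d ^ (k + 1) * c) = 0 := by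
    rw [mul_sub, mul_one, ← mul_assoc, ← pow_add, ← hc, sub_self]
  have hda : d ^ a ∈ nonZeroDivisors S := pow_mem hd a
  have h2 : 1 - d ^ (k + 1) * c = 0 := by
    have := (mem_nonZeroDivisors_iff.mp hda).1 (1 - d ^ (k + 1) * c)
    rw [mul_comm] at h1
    exact (mem_nonZeroDivisors_iff_right.mp hda) _ h1
  have h3 : d * (d ^ k * c) = 1 := by
    rw [sub_eq_zero] at h2
    rw [h2, pow_succ]; ring
  exact IsUnit.of_mul_eq_one _ h3

theorem isUnit_of_ratio_ne {d e : S} (hd : d ∈ nonZeroDivisors S)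
    {m n m' n' : ℕ}
    (h1 : (Ideal.span {d}) ^ m = (Ideal.span {e}) ^ n)
    (h2 : (Ideal.span {d}) ^ m' = (Ideal.span {e}) ^ n') (hne : m * n' ≠ m' * n) : IsUnit d := by
  have e1 : (Ideal.span {d}) ^ (m * n') = (Ideal.span {d}) ^ (m' * n) := by
    rw [pow_mul, h1, ← pow_mul, mul_comm n n', pow_mul, ← h2, ← pow_mul]
  rw [Ideal.span_singleton_pow, Ideal.span_singleton_pow] at e1
  rcases lt_or_gt_of_ne hne with h | h
  · apply isUnit_of_pow_dvd_pow hd h
    rw [← Ideal.span_singleton_le_span_singleton, e1]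
  · apply isUnit_of_pow_dvd_pow hd h
    rw [← Ideal.span_singleton_le_span_singleton, e1]

end ring

section scheme

variable {X : Scheme.{u}}

/-- `D` is generated by a nonzerodivisor on the affine open `U`. -/
def PrincipalOn (D : X.IdealSheafData) (U : X.affineOpens) : Prop :=
  ∃ g : Γ(X, U), g ∈ nonZeroDivisors Γ(X, U) ∧ D.ideal U = Ideal.span {g}

theorem PrincipalOn.basicOpen {D : X.IdealSheafData} {U : X.affineOpens} (h : PrincipalOn D U)
    (f : Γ(X, U)) : PrincipalOn D (X.affineBasicOpen f) := by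
  obtain ⟨g, hg, hD⟩ := h
  have inst := U.2.isLocalization_basicOpen f
  refine ⟨algebraMap Γ(X, U) Γ(X, X.basicOpen f) g, ?_, ?_⟩
  · exact IsLocalization.map_nonZeroDivisors_le (Submonoid.powers f) Γ(X, X.basicOpen f)
      ⟨g, hg, rfl⟩
  · rw [← D.map_ideal_basicOpen U f, hD, Ideal.map_span, Set.image_singleton]
    rfl

/-- the relation `m D = n E` on the affine open `U`. -/
def Valid (D E : X.IdealSheafData) (U : X.affineOpens) (m n : ℕ) : Prop :=
  D.ideal U ^ m = E.ideal U ^ n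

theorem Valid.of_le {D E : X.IdealSheafData} {U V : X.affineOpens} (h : V ≤ U) {m n : ℕ}
    (hv : Valid D E U m n) : Valid D E V m n := by
  unfold Valid at hv ⊢
  rw [← D.map_ideal h, ← E.map_ideal h, ← Ideal.map_pow, ← Ideal.map_pow, hv]

theorem Valid.mul {D E : X.IdealSheafData} {U : X.affineOpens} {m n : ℕ}
    (hv : Valid D E U m n) (c : ℕ) : Valid D E U (c * m) (c * n) := by
  unfold Valid at hv ⊢
  rw [mul_comm c m, mul_comm c n, pow_mul, pow_mul, hv]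

end scheme

section point

variable {X : Scheme.{u}} {D E : X.IdealSheafData}

theorem exists_refine {x : X} {UD UE : X.affineOpens} (hxD : x ∈ UD.1) (hxE : x ∈ UE.1)
    (hD : PrincipalOn D UD) (hE : PrincipalOn E UE) :
    ∃ V : X.affineOpens, x ∈ V.1 ∧ V ≤ UD ∧ V ≤ UE ∧ PrincipalOn D V ∧ PrincipalOn E V := by
  obtain ⟨f, g, hfg, hxf⟩ := exists_basicOpen_le_affine_inter UD.2 UE.2 x ⟨hxD, hxE⟩
  have hV : X.affineBasicOpen f = X.affineBasicOpen g := Subtype.ext hfg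
  refine ⟨X.affineBasicOpen f, hxf, X.affineBasicOpen_le f, ?_, hD.basicOpen f, ?_⟩
  · rw [hV]; exact X.affineBasicOpen_le g
  · rw [hV]; exact hE.basicOpen g

theorem exists_refine_le {x : X} {V U : X.affineOpens} (hxV : x ∈ V.1) (hxU : x ∈ U.1)
    (hD : PrincipalOn D V) (hE : PrincipalOn E V) :
    ∃ W : X.affineOpens, x ∈ W.1 ∧ W ≤ V ∧ W ≤ U ∧ PrincipalOn D W ∧ PrincipalOn E W := by
  obtain ⟨f, g, hfg, hxf⟩ := exists_basicOpen_le_affine_inter V.2 U.2 x ⟨hxV, hxU⟩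
  have hV : X.affineBasicOpen f = X.affineBasicOpen g := Subtype.ext hfg
  refine ⟨X.affineBasicOpen f, hxf, X.affineBasicOpen_le f, ?_, hD.basicOpen f, hE.basicOpen f⟩
  rw [hV]; exact X.affineBasicOpen_le g

theorem not_mem_support_of_eq_top {I : X.IdealSheafData} {x : X} {U : X.affineOpens}
    (hxU : x ∈ U.1) (h : I.ideal U = ⊤) : x ∉ I.support := by
  rw [Scheme.IdealSheafData.mem_support_iff_of_mem hxU, Scheme.mem_zeroLocus_iff]
  intro hc
  have h1 : (1 : Γ(X, U.1)) ∈ (I.ideal U : Set Γ(X, U.1)) := by rw [h]; trivial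
  have := hc 1 h1
  rw [Scheme.basicOpen_of_isUnit _ isUnit_one] at this
  exact this hxU

theorem ratio_eq_of_mem_support {x : X}
    (hx : x ∈ (D.support : Set X) ∪ (E.support : Set X))
    {UD UE U₁ U₂ : X.affineOpens} (hxD : x ∈ UD.1) (hxE : x ∈ UE.1) (hx1 : x ∈ U₁.1)
    (hx2 : x ∈ U₂.1) (hD : PrincipalOn D UD) (hE : PrincipalOn E UE) {m n m' n' : ℕ}
    (h1 : Valid D E U₁ m n) (h2 : Valid D E U₂ m' n') : m * n' = m' * n := by
  obtain ⟨V₁, hxV₁, -, -, hD₁, hE₁⟩ := exists_refine hxD hxE hD hE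
  obtain ⟨V₂, hxV₂, -, hV₂U, hD₂, hE₂⟩ := exists_refine_le hxV₁ hx1 hD₁ hE₁
  obtain ⟨V₃, hxV₃, hV₃V₂, hV₃U, hD₃, hE₃⟩ := exists_refine_le hxV₂ hx2 hD₂ hE₂
  have v1 : Valid D E V₃ m n := h1.of_le (hV₃V₂.trans hV₂U)
  have v2 : Valid D E V₃ m' n' := h2.of_le hV₃U
  obtain ⟨d, hd, hDd⟩ := hD₃
  obtain ⟨e, he, hEe⟩ := hE₃
  unfold Valid at v1 v2
  rw [hDd, hEe] at v1 v2
  by_contra hne
  have hdu : IsUnit d := isUnit_of_ratio_ne hd v1 v2 hne
  have heu : IsUnit e := isUnit_of_ratio_ne he v1.symm v2.symm (by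
    intro h; apply hne; rw [mul_comm m n', mul_comm m' n]; exact h.symm)
  have hDtop : D.ideal V₃ = ⊤ := by rw [hDd]; exact Ideal.span_singleton_eq_top.mpr hdu
  have hEtop : E.ideal V₃ = ⊤ := by rw [hEe]; exact Ideal.span_singleton_eq_top.mpr heu
  rcases hx with hx | hx
  · exact not_mem_support_of_eq_top hxV₃ hDtop hx
  · exact not_mem_support_of_eq_top hxV₃ hEtop hx

end point

section away

variable {X : Scheme.{u}} {D E : X.IdealSheafData}

theorem exists_eq_top_of_not_mem_support {I : X.IdealSheafData} {x : X} (hx : x ∉ I.support) :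
    ∃ V : X.affineOpens, x ∈ V.1 ∧ I.ideal V = ⊤ := by
  obtain ⟨_, ⟨U, hU, rfl⟩, hxU, -⟩ :=
    X.isBasis_affineOpens.exists_subset_of_mem_open (Set.mem_univ x) isOpen_univ
  let U' : X.affineOpens := ⟨U, hU⟩
  have hxU' : x ∈ U'.1 := hxU
  rw [Scheme.IdealSheafData.mem_support_iff_of_mem hxU', Scheme.mem_zeroLocus_iff] at hx
  push Not at hx
  obtain ⟨f, hf, hxf⟩ := hx
  refine ⟨X.affineBasicOpen f, hxf, ?_⟩
  rw [← I.map_ideal_basicOpen U' f]
  apply Ideal.eq_top_of_isUnit_mem _ (Ideal.mem_map_of_mem _ hf)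
  exact X.toRingedSpace.isUnit_res_basicOpen f

theorem eq_top_of_le {I : X.IdealSheafData} {U V : X.affineOpens} (h : V ≤ U)
    (hU : I.ideal U = ⊤) : I.ideal V = ⊤ := by
  rw [← I.map_ideal h, hU, Ideal.map_top]

theorem exists_both_top {x : X} (hx : x ∉ (D.support : Set X) ∪ (E.support : Set X)) :
    ∃ V : X.affineOpens, x ∈ V.1 ∧ D.ideal V = ⊤ ∧ E.ideal V = ⊤ := by
  rw [Set.mem_union, not_or] at hx
  obtain ⟨V₁, hx₁, h₁⟩ := exists_eq_top_of_not_mem_support (I := D) hx.1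
  obtain ⟨V₂, hx₂, h₂⟩ := exists_eq_top_of_not_mem_support (I := E) hx.2
  obtain ⟨f, g, hfg, hxf⟩ := exists_basicOpen_le_affine_inter V₁.2 V₂.2 x ⟨hx₁, hx₂⟩
  have hV : X.affineBasicOpen f = X.affineBasicOpen g := Subtype.ext hfg
  refine ⟨X.affineBasicOpen f, hxf, eq_top_of_le (X.affineBasicOpen_le f) h₁, ?_⟩
  rw [hV]
  exact eq_top_of_le (X.affineBasicOpen_le g) h₂

end away

section arith

theorem par_trans {a b c d e f : ℕ} (h1 : a * d = c * b) (h2 : c * f = e * d)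
    (hcd : (c, d) ≠ (0, 0)) : a * f = e * b := by
  by_cases hc : c = 0
  · subst hc
    have hd : d ≠ 0 := by
      intro hd; apply hcd; rw [hd]
    have ha : a = 0 := by
      rcases Nat.mul_eq_zero.mp (by rw [h1, zero_mul] : a * d = 0) with h | h
      · exact h
      · exact absurd h hd
    have he : e = 0 := by
      rcases Nat.mul_eq_zero.mp (by rw [← h2, zero_mul] : e * d = 0) with h | h
      · exact h
      · exact absurd h hd
    rw [ha, he, zero_mul, zero_mul]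
  · have : c * (a * f) = c * (e * b) := by
      calc c * (a * f) = a * (c * f) := by ring
        _ = a * (e * d) := by rw [h2]
        _ = e * (a * d) := by ring
        _ = e * (c * b) := by rw [h1]
        _ = c * (e * b) := by ring
    exact Nat.eq_of_mul_eq_mul_left (Nat.pos_of_ne_zero hc) this

end arith

section global

variable {X : Scheme.{u}} {D E : X.IdealSheafData}

theorem exists_parallel (hD : ∀ x : X, ∃ U : X.affineOpens, x ∈ U.1 ∧ PrincipalOn D U)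
    (hE : ∀ x : X, ∃ U : X.affineOpens, x ∈ U.1 ∧ PrincipalOn E U)
    (hconn : IsPreconnected ((D.support : Set X) ∪ (E.support : Set X)))
    (hloc : ∀ x : X, ∃ U : X.affineOpens, x ∈ U.1 ∧
      ∃ m n : ℕ, (m, n) ≠ (0, 0) ∧ Valid D E U m n)
    {x₀ : X} (hx₀ : x₀ ∈ (D.support : Set X) ∪ (E.support : Set X))
    {U₀ : X.affineOpens} (hxU₀ : x₀ ∈ U₀.1) {m₀ n₀ : ℕ} (h0 : (m₀, n₀) ≠ (0, 0))
    (hv₀ : Valid D E U₀ m₀ n₀) :
    ∀ x : X, ∃ U : X.affineOpens, x ∈ U.1 ∧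
      ∃ m n : ℕ, (m, n) ≠ (0, 0) ∧ Valid D E U m n ∧ m * n₀ = m₀ * n := by
  classical
  set S : Set X := (D.support : Set X) ∪ (E.support : Set X) with hS
  let O₁ : Set X := {x | ∃ U : X.affineOpens, x ∈ U.1 ∧
      ∃ m n : ℕ, (m, n) ≠ (0, 0) ∧ Valid D E U m n ∧ m * n₀ = m₀ * n}
  let O₂ : Set X := {x | ∃ U : X.affineOpens, x ∈ U.1 ∧
      ∃ m n : ℕ, (m, n) ≠ (0, 0) ∧ Valid D E U m n ∧ m * n₀ ≠ m₀ * n}
  have hO₁ : IsOpen O₁ := by
    rw [isOpen_iff_forall_mem_open]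
    rintro x ⟨U, hxU, h⟩
    exact ⟨U.1.1, fun y hy => ⟨U, hy, h⟩, U.1.2, hxU⟩
  have hO₂ : IsOpen O₂ := by
    rw [isOpen_iff_forall_mem_open]
    rintro x ⟨U, hxU, h⟩
    exact ⟨U.1.1, fun y hy => ⟨U, hy, h⟩, U.1.2, hxU⟩
  have hcov : S ⊆ O₁ ∪ O₂ := by
    intro x _
    obtain ⟨U, hxU, m, n, hmn, hv⟩ := hloc x
    by_cases h : m * n₀ = m₀ * n
    · exact Or.inl ⟨U, hxU, m, n, hmn, hv, h⟩
    · exact Or.inr ⟨U, hxU, m, n, hmn, hv, h⟩
  have hdisj : ¬ (S ∩ (O₁ ∩ O₂)).Nonempty := by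
    rintro ⟨x, hxS, ⟨U, hxU, m, n, hmn, hv, hpar⟩, ⟨U', hxU', m', n', hmn', hv', hnpar⟩⟩
    obtain ⟨UD, hxD, hPD⟩ := hD x
    obtain ⟨UE, hxE, hPE⟩ := hE x
    have hr : m' * n = m * n' := ratio_eq_of_mem_support hxS hxD hxE hxU' hxU hPD hPE hv' hv
    exact hnpar (par_trans hr hpar hmn)
  have hx₀O : (S ∩ O₁).Nonempty := ⟨x₀, hx₀, U₀, hxU₀, m₀, n₀, h0, hv₀, rfl⟩
  have hSO₁ : S ⊆ O₁ := by
    intro y hy
    by_contra hyO
    have hy2 : y ∈ O₂ := by
      rcases hcov hy with h | h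
      · exact absurd h hyO
      · exact h
    exact hdisj (hconn O₁ O₂ hO₁ hO₂ hcov hx₀O ⟨y, hy, hy2⟩)
  intro x
  by_cases hx : x ∈ S
  · exact hSO₁ hx
  · obtain ⟨V, hxV, hDV, hEV⟩ := exists_both_top (D := D) (E := E) hx
    refine ⟨V, hxV, m₀, n₀, h0, ?_, rfl⟩
    unfold Valid
    rw [hDV, hEV, Ideal.top_pow, Ideal.top_pow]

end global

section final

variable {X : Scheme.{u}} {D E : X.IdealSheafData}

theorem exists_global_of_parallel [CompactSpace X] {m₀ n₀ : ℕ} (h0 : (m₀, n₀) ≠ (0, 0))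
    (h : ∀ x : X, ∃ U : X.affineOpens, x ∈ U.1 ∧
      ∃ m n : ℕ, (m, n) ≠ (0, 0) ∧ Valid D E U m n ∧ m * n₀ = m₀ * n) :
    ∃ m n : ℕ, (m, n) ≠ (0, 0) ∧ D ^ m = E ^ n := by
  classical
  choose U hxU m n hmn hv hpar using h
  obtain ⟨t, ht⟩ := isCompact_univ.elim_finite_subcover (fun x => ((U x).1 : Set X))
    (fun x => (U x).1.2) (fun x _ => Set.mem_iUnion.mpr ⟨x, hxU x⟩)
  let P : ℕ := ∏ x ∈ t, (m x + n x)
  have hPpos : 0 < P := by
    apply Finset.prod_pos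
    intro x _
    by_contra hle
    have h1 : m x + n x = 0 := by omega
    apply hmn x
    have hm : m x = 0 := by omega
    have hn : n x = 0 := by omega
    rw [hm, hn]
  refine ⟨m₀ * P, n₀ * P, ?_, ?_⟩
  · intro hc
    apply h0
    have h1 : m₀ * P = 0 := congrArg Prod.fst hc
    have h2 : n₀ * P = 0 := congrArg Prod.snd hc
    have hm : m₀ = 0 := by
      rcases Nat.mul_eq_zero.mp h1 with h | h
      · exact h
      · omega
    have hn : n₀ = 0 := by
      rcases Nat.mul_eq_zero.mp h2 with h | h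
      · exact h
      · omega
    rw [hm, hn]
  · apply Scheme.IdealSheafData.ext_of_iSup_eq_top (fun x : t => U x.1)
    · rw [eq_top_iff]
      intro y _
      have := ht (Set.mem_univ y)
      simp only [Set.mem_iUnion] at this
      obtain ⟨x, hxt, hy⟩ := this
      exact TopologicalSpace.Opens.mem_iSup.mpr ⟨⟨x, hxt⟩, hy⟩
    · rintro ⟨x, hxt⟩
      change D.ideal (U x) ^ (m₀ * P) = E.ideal (U x) ^ (n₀ * P)
      have hP : P = (m x + n x) * ∏ y ∈ t.erase x, (m y + n y) :=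
        (Finset.mul_prod_erase t (fun y => m y + n y) hxt).symm
      set P' := ∏ y ∈ t.erase x, (m y + n y) with hP'
      have e1 : m₀ * P = ((m₀ + n₀) * P') * m x := by
        rw [hP]
        have := hpar x
        calc m₀ * ((m x + n x) * P') = (m₀ * m x + m₀ * n x) * P' := by ring
          _ = (m₀ * m x + m x * n₀) * P' := by rw [this]
          _ = ((m₀ + n₀) * P') * m x := by ring
      have e2 : n₀ * P = ((m₀ + n₀) * P') * n x := by
        rw [hP]
        have := hpar x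
        calc n₀ * ((m x + n x) * P') = (m x * n₀ + n₀ * n x) * P' := by ring
          _ = (m₀ * n x + n₀ * n x) * P' := by rw [this]
          _ = ((m₀ + n₀) * P') * n x := by ring
      rw [e1, e2]
      exact (hv x).mul _

/-- the main statement -/
theorem main [CompactSpace X]
    (hD : ∀ x : X, ∃ U : X.affineOpens, x ∈ U.1 ∧ PrincipalOn D U)
    (hE : ∀ x : X, ∃ U : X.affineOpens, x ∈ U.1 ∧ PrincipalOn E U)
    (hconn : IsPreconnected ((D.support : Set X) ∪ (E.support : Set X)))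
    (hloc : ∀ x : X, ∃ U : X.affineOpens, x ∈ U.1 ∧
      ∃ m n : ℕ, (m, n) ≠ (0, 0) ∧ Valid D E U m n) :
    ∃ m n : ℕ, (m, n) ≠ (0, 0) ∧ D ^ m = E ^ n := by
  by_cases hne : ((D.support : Set X) ∪ (E.support : Set X)).Nonempty
  · obtain ⟨x₀, hx₀⟩ := hne
    obtain ⟨U₀, hxU₀, m₀, n₀, h0, hv₀⟩ := hloc x₀
    exact exists_global_of_parallel h0 (exists_parallel hD hE hconn hloc hx₀ hxU₀ h0 hv₀)
  · rw [Set.not_nonempty_iff_eq_empty, Set.union_empty_iff] at hne
    have hDt : D = ⊤ := by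
      rw [← Scheme.IdealSheafData.support_eq_bot_iff]
      exact TopologicalSpace.Closeds.ext hne.1
    have hEt : E = ⊤ := by
      rw [← Scheme.IdealSheafData.support_eq_bot_iff]
      exact TopologicalSpace.Closeds.ext hne.2
    exact ⟨1, 1, by simp, by rw [hDt, hEt]⟩

end final

end Groth.Agent.Lib.T2H2.CDivPow
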