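import Mathlib
import Groth.Agent.Lib.Helper7Cartier2
import Groth.Agent.Lib.Helper7H1Fields

/-!
# Cartier's equality in terms of `H¹(L_{L/K})` (helper2)
-/

set_option autoImplicit false
universe u

namespace Groth.Agent.Lib.T2H2.CartierH1

open Algebra

section Functoriality

variable {R : Type*} {S : Type*} {S₂ : Type*} {S' : Type*} {T : Type*} {T₂ : Type*} [CommRing R] [CommRing S] [CommRing S₂] [CommRing S']
  [CommRing T] [CommRing T₂]
  [Algebra R S] [Algebra S S₂] [Algebra R S₂] [IsScalarTower R S S₂]
  [Algebra R S'] [Algebra S' T] [Algebra T T₂] [Algebra S' T₂] [IsScalarTower S' T T₂]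
  [Algebra S T] [Algebra R T] [IsScalarTower R S T] [IsScalarTower R S' T]
  [Algebra S₂ T₂] [Algebra S T₂] [IsScalarTower S S₂ T₂] [IsScalarTower S T T₂]
  [Algebra R T₂] [IsScalarTower R S₂ T₂] [IsScalarTower R S' T₂]

/-- Functoriality of `Algebra.H1Cotangent.map` for composable squares. -/
theorem h1map_comp_apply (x : H1Cotangent R S') :
    H1Cotangent.map S S₂ T T₂ (H1Cotangent.map R S S' T x) = H1Cotangent.map R S₂ S' T₂ x := by
  unfold H1Cotangent.map
  rw [← Extension.H1Cotangent.map_comp_apply]
  exact congrFun (congrArg DFunLike.coe (Extension.H1Cotangent.map_eq _ _)) x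

end Functoriality

section Cartier

open Groth.Agent.Lib.Helper7.ExalLib

variable (K L : Type u) [Field K] [Field L] [Algebra K L]

/-- `H¹(L_{L/ℤ}) → H¹(L_{L/K})` vanishes (it factors through `H¹` over the prime field). -/
theorem map_int_eq_zero (x : H1Cotangent ℤ L) : H1Cotangent.map ℤ K L L x = 0 := by
  obtain ⟨p, hp⟩ := CharP.exists K
  rcases CharP.char_is_prime_or_zero K p with hpp | rfl
  · have : Fact p.Prime := ⟨hpp⟩
    have : CharP L p := charP_of_injective_algebraMap (algebraMap K L).injective p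
    let _ : Algebra (ZMod p) K := ZMod.algebra K p
    let _ : Algebra (ZMod p) L := ZMod.algebra L p
    have : IsScalarTower (ZMod p) K L := IsScalarTower.of_algebraMap_eq' (Subsingleton.elim _ _)
    have := Groth.Agent.Lib.Helper19.PBasis.formallySmooth_zmod p L
    have : Subsingleton (H1Cotangent (ZMod p) L) :=
      Algebra.FormallySmooth.subsingleton_h1Cotangent
    rw [← h1map_comp_apply (R := ℤ) (S := ZMod p) (S₂ := K) (S' := L) (T := L) (T₂ := L) x,
      Subsingleton.elim (H1Cotangent.map ℤ (ZMod p) L L x) 0, map_zero]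
  · have : CharZero K := CharP.charP_to_charZero K
    have : CharZero L := charZero_of_injective_algebraMap (algebraMap K L).injective
    have : IsScalarTower ℚ K L := IsScalarTower.of_algebraMap_eq' (RingHom.ext_rat _ _)
    have := Groth.Agent.Lib.Helper7.CoefField.formallySmooth_rat L
    have : Subsingleton (H1Cotangent ℚ L) :=
      Algebra.FormallySmooth.subsingleton_h1Cotangent
    rw [← h1map_comp_apply (R := ℤ) (S := ℚ) (S₂ := K) (S' := L) (T := L) (T₂ := L) x,
      Subsingleton.elim (H1Cotangent.map ℤ ℚ L L x) 0, map_zero]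

theorem δ_int_injective : Function.Injective (H1Cotangent.δ ℤ K L) := by
  rw [injective_iff_map_eq_zero]
  intro z hz
  obtain ⟨w, rfl⟩ := (H1Cotangent.exact_map_δ ℤ K L z).1 hz
  exact map_int_eq_zero K L w

/-- **Cartier's equality**: `dim H¹(L_{L/K}) + trdeg_K L = dim Ω_{L/K}` for a finitely generated
field extension. -/
theorem cartier_h1 [Algebra.EssFiniteType K L] :
    Module.Finite L (H1Cotangent K L) ∧ Module.Finite L (Ω[L⁄K]) ∧
      Module.finrank L (H1Cotangent K L) + Cardinal.toNat (Algebra.trdeg K L) =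
        Module.finrank L (Ω[L⁄K]) := by
  obtain ⟨f1, f2, -, heq⟩ := cartierEQ_of_essFiniteType (K := K) (L := L)
  have himp : EGA41.imperfection ℤ K L = LinearMap.range (H1Cotangent.δ ℤ K L) :=
    imperfection_eq_range_delta
  let e : H1Cotangent K L ≃ₗ[L] LinearMap.range (H1Cotangent.δ ℤ K L) :=
    LinearEquiv.ofInjective _ (δ_int_injective K L)
  rw [himp] at f2 heq
  refine ⟨Module.Finite.equiv e.symm, f1, ?_⟩
  rw [e.finrank_eq]
  exact heq

end Cartier

end Groth.Agent.Lib.T2H2.CartierH1
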