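import Mathlib
import Groth.Prelude.Def_FlatMod2
import Groth.Agent.Lib.Helper4ModEpi

/-!
# Generators of a finite module from generators over an open cover (helper2)

Namespace `Groth.Agent.Lib.T2H2.GenCover`.

* `GenData`, `exists_generators`: the purely algebraic induction (partition of unity on the last open).
* `exists_genData_of_sections`, `exists_genData`: extraction of the algebraic data from an epimorphism
  `O_U^n ⟶ M~|_U`.
-/

set_option autoImplicit false
universe u

namespace Groth.Agent.Lib.T2H2.GenCover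

section Algebra

variable {R : Type u} [CommRing R]

/-- algebraic "generating data over an open": a set of pairs `(h, y)`, thought of as the basic opens `D(h)`
with the sections `y j / h`; they are compatible on overlaps and generate `M` over each `D(h)` -/
structure GenData (M : Type u) [AddCommGroup M] [Module R M] (n : ℕ)
    (T : Set (R × (Fin n → M))) : Prop where
  compat : ∀ a ∈ T, ∀ a' ∈ T, ∀ j : Fin n, ∃ t : ℕ,
    (a.1 * a'.1) ^ t • (a'.1 • a.2 j - a.1 • a'.2 j) = 0
  gen : ∀ a ∈ T, ∀ g : M, ∃ t : ℕ, a.1 ^ t • g ∈ Submodule.span R (Set.range a.2)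

theorem GenData.map_mkQ {M : Type u} [AddCommGroup M] [Module R M] {n : ℕ}
    {T : Set (R × (Fin n → M))} (hT : GenData M n T) (N : Submodule R M) :
    GenData (M ⧸ N) n ((fun a : R × (Fin n → M) => (a.1, fun j => N.mkQ (a.2 j))) '' T) := by
  constructor
  · rintro _ ⟨a, ha, rfl⟩ _ ⟨a', ha', rfl⟩ j
    obtain ⟨t, ht⟩ := hT.compat a ha a' ha' j
    refine ⟨t, ?_⟩
    have h1 := congrArg N.mkQ ht
    simpa only [map_smul, map_sub, map_zero] using h1
  · rintro _ ⟨a, ha, rfl⟩ g
    obtain ⟨g, rfl⟩ := N.mkQ_surjective g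
    obtain ⟨t, ht⟩ := hT.gen a ha g
    refine ⟨t, ?_⟩
    have h1 : N.mkQ (a.1 ^ t • g) ∈ Submodule.map N.mkQ (Submodule.span R (Set.range a.2)) :=
      Submodule.mem_map_of_mem ht
    rw [Submodule.map_span, ← Set.range_comp] at h1
    rw [map_smul] at h1
    exact h1

/-- the partition of unity step -/
theorem step {M : Type u} [AddCommGroup M] [Module R M] {n : ℕ}
    {T : Set (R × (Fin n → M))} (hT : GenData M n T) (I : Ideal R)
    (hI : I ⊔ Ideal.span ((fun a : R × (Fin n → M) => a.1) '' T) = ⊤) :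
    ∃ x : Fin n → M, ∀ p : Ideal R, p.IsPrime → I ≤ p → ∀ g : M,
      ∃ u : R, u ∉ p ∧ u • g ∈ Submodule.span R (Set.range x) := by
  classical
  have h1 : (1 : R) ∈ I ⊔ Ideal.span ((fun a : R × (Fin n → M) => a.1) '' T) := by
    rw [hI]; exact Submodule.mem_top
  obtain ⟨b, hb, c, hc, hbc⟩ := Submodule.mem_sup.1 h1
  obtain ⟨r, f, gg, hfg⟩ := Submodule.mem_span_set'.1 hc
  have hex : ∀ k : Fin r, ∃ a : R × (Fin n → M), a ∈ T ∧ a.1 = (gg k : R) := fun k => (gg k).2
  choose a haT ha1 using hex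
  -- uniform exponent
  have hcomp : ∀ klj : Fin r × Fin r × Fin n, ∃ t : ℕ,
      ((a klj.1).1 * (a klj.2.1).1) ^ t •
        ((a klj.2.1).1 • (a klj.1).2 klj.2.2 - (a klj.1).1 • (a klj.2.1).2 klj.2.2) = 0 :=
    fun klj => hT.compat _ (haT klj.1) _ (haT klj.2.1) klj.2.2
  choose tt htt using hcomp
  let t : ℕ := Finset.univ.sup tt
  have ht : ∀ k l j, ((a k).1 * (a l).1) ^ t • ((a l).1 • (a k).2 j) =
      ((a k).1 * (a l).1) ^ t • ((a k).1 • (a l).2 j) := by
    intro k l j
    have hle : tt (k, l, j) ≤ t := Finset.le_sup (f := tt) (Finset.mem_univ (k, l, j))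
    have h0 := htt (k, l, j)
    have h2 : ((a k).1 * (a l).1) ^ t • ((a l).1 • (a k).2 j - (a k).1 • (a l).2 j) = 0 := by
      obtain ⟨d, hd⟩ := Nat.exists_eq_add_of_le hle
      rw [hd, pow_add, mul_comm, mul_smul]
      exact (congrArg (fun z => ((a k).1 * (a l).1) ^ d • z) h0).trans (smul_zero _)
    rw [smul_sub] at h2
    exact sub_eq_zero.1 h2
  -- the ideal `I + (h_k^(t+1))` is the unit ideal
  have hI2 : I ⊔ Ideal.span (Set.range fun k : Fin r => (a k).1 ^ (t + 1)) = ⊤ := by
    by_contra hne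
    obtain ⟨p, hp, hle⟩ := Ideal.exists_le_maximal _ hne
    have hpp := hp.isPrime
    have hIp : I ≤ p := le_trans le_sup_left hle
    have hk : ∀ k : Fin r, (a k).1 ∈ p := by
      intro k
      have : (a k).1 ^ (t + 1) ∈ p := hle (Submodule.mem_sup_right (Ideal.subset_span ⟨k, rfl⟩))
      exact hpp.mem_of_pow_mem _ this
    have hcp : c ∈ p := by
      rw [← hfg]
      refine Submodule.sum_mem _ (fun k _ => ?_)
      rw [← ha1 k]
      exact Submodule.smul_mem _ _ (hk k)
    have : (1 : R) ∈ p := by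
      rw [← hbc]
      exact p.add_mem (hIp hb) hcp
    exact hpp.ne_top ((Ideal.eq_top_iff_one p).2 this)
  have h1' : (1 : R) ∈ I ⊔ Ideal.span (Set.range fun k : Fin r => (a k).1 ^ (t + 1)) := by
    rw [hI2]; exact Submodule.mem_top
  obtain ⟨b', hb', c', hc', hbc'⟩ := Submodule.mem_sup.1 h1'
  obtain ⟨f', hf'⟩ := Ideal.mem_span_range_iff_exists_fun.1 hc'
  let x : Fin n → M := fun j => ∑ k, (f' k * (a k).1 ^ t) • (a k).2 j
  -- key relation
  have hkey : ∀ l j, (a l).1 ^ (t + 1) • x j = ((a l).1 ^ t * c') • (a l).2 j := by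
    intro l j
    show (a l).1 ^ (t + 1) • (∑ k, (f' k * (a k).1 ^ t) • (a k).2 j) = _
    rw [Finset.smul_sum, ← hf', Finset.mul_sum, Finset.sum_smul]
    refine Finset.sum_congr rfl (fun k _ => ?_)
    have e1 : (a l).1 ^ (t + 1) • ((f' k * (a k).1 ^ t) • (a k).2 j) =
        f' k • (((a k).1 * (a l).1) ^ t • ((a l).1 • (a k).2 j)) := by
      simp only [smul_smul]
      congr 1
      ring
    have e2 : ((a l).1 ^ t * (f' k * (a k).1 ^ (t + 1))) • (a l).2 j =
        f' k • (((a k).1 * (a l).1) ^ t • ((a k).1 • (a l).2 j)) := by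
      simp only [smul_smul]
      congr 1
      ring
    rw [e1, e2, ht k l j]
  refine ⟨x, ?_⟩
  intro p hp hIp g
  have hb'p : b' ∈ p := hIp hb'
  have hc'p : c' ∉ p := by
    intro hcp
    have : (1 : R) ∈ p := by
      rw [← hbc']
      exact p.add_mem hb'p hcp
    exact hp.ne_top ((Ideal.eq_top_iff_one p).2 this)
  have hexl : ∃ l : Fin r, (a l).1 ∉ p := by
    by_contra hcon
    push Not at hcon
    apply hc'p
    rw [← hf']
    refine Submodule.sum_mem _ (fun k _ => ?_)
    exact p.mul_mem_left _ (p.pow_mem_of_mem (hcon k) _ (Nat.succ_pos t))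
  obtain ⟨l, hl⟩ := hexl
  obtain ⟨t', ht'⟩ := hT.gen _ (haT l) g
  refine ⟨(a l).1 ^ t * c' * (a l).1 ^ t', ?_, ?_⟩
  · intro hmem
    rcases hp.mem_or_mem hmem with h2 | h2
    · rcases hp.mem_or_mem h2 with h3 | h3
      · exact hl (hp.mem_of_pow_mem _ h3)
      · exact hc'p h3
    · exact hl (hp.mem_of_pow_mem _ h2)
  · rw [mul_smul]
    have hle : Submodule.span R (Set.range (a l).2) ≤
        Submodule.comap (LinearMap.lsmul R M ((a l).1 ^ t * c')) (Submodule.span R (Set.range x)) := by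
      rw [Submodule.span_le]
      rintro _ ⟨j, rfl⟩
      show ((a l).1 ^ t * c') • (a l).2 j ∈ Submodule.span R (Set.range x)
      rw [← hkey l j]
      exact Submodule.smul_mem _ _ (Submodule.subset_span ⟨j, rfl⟩)
    exact hle ht'

theorem annihilator_le_quotient {M : Type u} [AddCommGroup M] [Module R M] (N : Submodule R M) :
    Module.annihilator R M ≤ Module.annihilator R (M ⧸ N) := by
  intro r hr
  rw [Module.mem_annihilator] at hr ⊢
  intro z
  obtain ⟨g, rfl⟩ := N.mkQ_surjective z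
  rw [← map_smul, hr g, map_zero]

/-- the algebraic form of the statement -/
theorem exists_generators (m : ℕ) : ∀ (M : Type u) [AddCommGroup M] [Module R M] [Module.Finite R M]
    (n : ℕ) (T : Fin m → Set (R × (Fin n → M))), (∀ i, GenData M n (T i)) →
    (∀ p : Ideal R, p.IsPrime → Module.annihilator R M ≤ p → ∃ i, ∃ a ∈ T i, a.1 ∉ p) →
    ∃ s : Fin (n * m) → M, Submodule.span R (Set.range s) = ⊤ := by
  induction m with
  | zero =>
    intro M _ _ _ n T hT hcov
    have hann : Module.annihilator R M = ⊤ := by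
      by_contra hne
      obtain ⟨p, hp, hle⟩ := Ideal.exists_le_maximal _ hne
      obtain ⟨i, -⟩ := hcov p hp.isPrime hle
      exact i.elim0
    have hsub : ∀ x : M, x = 0 := fun x => by
      have h1 : (1 : R) ∈ Module.annihilator R M := hann ▸ Submodule.mem_top
      have h2 := Module.mem_annihilator.1 h1 x
      rwa [one_smul] at h2
    refine ⟨fun _ => 0, ?_⟩
    rw [eq_top_iff]
    intro x _
    rw [hsub x]
    exact Submodule.zero_mem _
  | succ m ih =>
    intro M _ _ _ n T hT hcov
    let I : Ideal R := Module.annihilator R M ⊔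
      Ideal.span {r | ∃ i : Fin m, ∃ a ∈ T i.castSucc, a.1 = r}
    have hI : I ⊔ Ideal.span ((fun a : R × (Fin n → M) => a.1) '' T (Fin.last m)) = ⊤ := by
      by_contra hne
      obtain ⟨p, hp, hle⟩ := Ideal.exists_le_maximal _ hne
      have h1 : Module.annihilator R M ≤ p := le_trans (le_trans le_sup_left le_sup_left) hle
      obtain ⟨i, a, ha, hap⟩ := hcov p hp.isPrime h1
      refine hap ?_
      induction i using Fin.lastCases with
      | last => exact hle (Submodule.mem_sup_right (Ideal.subset_span ⟨a, ha, rfl⟩))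
      | cast i =>
        exact hle (Submodule.mem_sup_left (Submodule.mem_sup_right
          (Ideal.subset_span ⟨i, a, ha, rfl⟩)))
    obtain ⟨x, hx⟩ := step (hT (Fin.last m)) I hI
    let N : Submodule R M := Submodule.span R (Set.range x)
    have hcov' : ∀ p : Ideal R, p.IsPrime → Module.annihilator R (M ⧸ N) ≤ p →
        ∃ i : Fin m, ∃ a ∈ (fun a : R × (Fin n → M) => (a.1, fun j => N.mkQ (a.2 j))) ''
          T i.castSucc, a.1 ∉ p := by
      intro p hp hle
      by_contra hcon
      push Not at hcon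
      have hIp : I ≤ p := by
        refine sup_le (le_trans (annihilator_le_quotient N) hle) (Ideal.span_le.2 ?_)
        rintro r ⟨i, a, ha, rfl⟩
        exact hcon i _ ⟨a, ha, rfl⟩
      have hns : (⟨p, hp⟩ : PrimeSpectrum R) ∉ Module.support R (M ⧸ N) := by
        rw [Module.notMem_support_iff']
        intro z
        obtain ⟨g, rfl⟩ := N.mkQ_surjective z
        obtain ⟨u, hu, hug⟩ := hx p hp hIp g
        refine ⟨u, hu, ?_⟩
        rw [← map_smul]
        exact (Submodule.Quotient.mk_eq_zero N).2 hug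
      exact hns (Module.mem_support_iff_of_finite.2 hle)
    obtain ⟨s', hs'⟩ := ih (M ⧸ N) n _ (fun i => (hT i.castSucc).map_mkQ N) hcov'
    have hlift : ∀ i, ∃ z : M, N.mkQ z = s' i := fun i => N.mkQ_surjective (s' i)
    choose s'' hs'' using hlift
    have hsup : Submodule.span R (Set.range s'') ⊔ N = ⊤ := by
      rw [eq_top_iff]
      intro g _
      have h1 : N.mkQ g ∈ Submodule.span R (Set.range s') := by rw [hs']; exact Submodule.mem_top
      have h2 : Set.range s' = N.mkQ '' Set.range s'' := by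
        rw [← Set.range_comp]
        congr 1
        funext i
        exact (hs'' i).symm
      rw [h2, ← Submodule.map_span] at h1
      obtain ⟨z, hz, hzg⟩ := h1
      have h3 : g - z ∈ N := by
        rw [← Submodule.Quotient.mk_eq_zero N, Submodule.Quotient.mk_sub]
        exact sub_eq_zero.2 hzg.symm
      have : g = z + (g - z) := by abel
      rw [this]
      exact Submodule.add_mem_sup hz h3
    have hcard : n * (m + 1) = n * m + n := by ring
    refine ⟨fun i => Sum.elim s'' x (finSumFinEquiv.symm (Fin.cast hcard i)), ?_⟩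
    have hr : (Set.range fun i : Fin (n * (m + 1)) =>
        Sum.elim s'' x (finSumFinEquiv.symm (Fin.cast hcard i))) = Set.range s'' ∪ Set.range x := by
      rw [← Set.Sum.elim_range]
      have hsurj : Function.Surjective fun i : Fin (n * (m + 1)) =>
          finSumFinEquiv.symm (Fin.cast hcard i) := by
        intro y
        refine ⟨Fin.cast hcard.symm (finSumFinEquiv y), ?_⟩
        simp
      exact hsurj.range_comp (Sum.elim s'' x)
    rw [hr, Submodule.span_union]
    exact hsup

end Algebra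

section Free

open CategoryTheory Limits Opposite AlgebraicGeometry TopologicalSpace

variable {X : Scheme.{u}}

/-- the unit section of the structure module -/
noncomputable def one (V : X.Opens) : Γ(Coh.structureModule X, V) := (1 : Γ(X, V))

theorem res_one {V W : X.Opens} (hle : W ≤ V) :
    (Coh.structureModule X).presheaf.map (homOfLE hle).op (one V) = one W :=
  _root_.map_one (X.presheaf.map (homOfLE hle).op).hom

theorem smul_one' (V : X.Opens) (r : Γ(X, V)) : (r • one V : Γ(Coh.structureModule X, V)) = r :=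
  mul_one r

/-- a section of the structure module as a section of the structure sheaf -/
def asRing (V : X.Opens) (r : Γ(Coh.structureModule X, V)) : Γ(X, V) := r

/-- a morphism out of the structure module is determined by the image of `1` -/
theorem app_unit_eq {P : X.Modules} (ψ : Coh.structureModule X ⟶ P) (V : X.Opens)
    (r : Γ(Coh.structureModule X, V)) :
    ψ.app V r = asRing V r • P.presheaf.map (homOfLE (le_top : V ≤ ⊤)).op (ψ.app ⊤ (one ⊤)) := by
  have h1 : ψ.app V (one V) = P.presheaf.map (homOfLE (le_top : V ≤ ⊤)).op (ψ.app ⊤ (one ⊤)) := by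
    rw [← res_one (le_top : V ≤ ⊤)]
    exact congr($(ψ.mapPresheaf.naturality (homOfLE (le_top : V ≤ ⊤)).op) (one ⊤))
  rw [← h1, ← Scheme.Modules.Hom.app_smul, smul_one']
  rfl


/-- evaluation on sections as an additive map -/
noncomputable def appHom (P Q : X.Modules) (V : X.Opens) : (P ⟶ Q) →+ (Γ(P, V) →+ Γ(Q, V)) where
  toFun ψ := (ψ.app V).hom
  map_zero' := rfl
  map_add' _ _ := rfl

/-- the projections of the free module -/
noncomputable def prj (X : Scheme.{u}) (n : ℕ) (j : Fin n) :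
    FlatMod.freeMod X n ⟶ Coh.structureModule X :=
  Sigma.desc (fun i : Fin n => if i = j then 𝟙 (Coh.structureModule X) else 0)

theorem sum_prj_ι (X : Scheme.{u}) (n : ℕ) :
    ∑ j : Fin n, prj X n j ≫ Sigma.ι (fun _ : Fin n => Coh.structureModule X) j =
      𝟙 (FlatMod.freeMod X n) := by
  classical
  apply Sigma.hom_ext
  intro i
  rw [Preadditive.comp_sum, Category.comp_id, Finset.sum_eq_single i]
  · rw [← Category.assoc]
    simp [prj]
  · intro k _ hki
    rw [← Category.assoc]
    simp [prj, hki.symm]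
  · intro h
    exact absurd (Finset.mem_univ i) h

theorem app_free_eq {n : ℕ} {P : X.Modules} (φ : FlatMod.freeMod X n ⟶ P) (V : X.Opens)
    (c : Γ(FlatMod.freeMod X n, V)) :
    φ.app V c = ∑ j, asRing V ((prj X n j).app V c) •
      P.presheaf.map (homOfLE (le_top : V ≤ ⊤)).op
        ((Sigma.ι (fun _ : Fin n => Coh.structureModule X) j ≫ φ).app ⊤ (one ⊤)) := by
  have h1 : φ = ∑ j : Fin n, prj X n j ≫ (Sigma.ι (fun _ : Fin n => Coh.structureModule X) j ≫ φ) := by
    have h2 := congrArg (fun t => t ≫ φ) (sum_prj_ι X n)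
    simp only [Preadditive.sum_comp, Category.assoc, Category.id_comp] at h2
    exact h2.symm
  have h3 : (appHom _ _ V φ) c = (appHom _ _ V (∑ j : Fin n, prj X n j ≫
      (Sigma.ι (fun _ : Fin n => Coh.structureModule X) j ≫ φ))) c := by
    rw [← h1]
  rw [map_sum, AddMonoidHom.finsetSum_apply] at h3
  refine h3.trans ?_
  refine Finset.sum_congr rfl (fun j _ => ?_)
  exact app_unit_eq (Sigma.ι (fun _ : Fin n => Coh.structureModule X) j ≫ φ) V
    ((prj X n j).app V c)

end Free

section Bridge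

open CategoryTheory Limits Opposite AlgebraicGeometry TopologicalSpace

variable {R : CommRingCat.{u}} (M : ModuleCat.{u} R)

/-- the basic open `D(h)` as an open of the scheme `Spec R` -/
abbrev D (h : R) : (Spec R).Opens := PrimeSpectrum.basicOpen h

/-- sections of `M~` over `W`, as an `R`-module -/
noncomputable abbrev Sec (W : (Spec R).Opens) : ModuleCat.{u} R :=
  (modulesSpecToSheaf.obj (tilde M)).1.obj (op W)

/-- restriction of sections of `M~`, as an `R`-linear map -/
noncomputable abbrev res {W W' : (Spec R).Opens} (hle : W' ≤ W) : Sec M W ⟶ Sec M W' :=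
  (modulesSpecToSheaf.obj (tilde M)).1.map (homOfLE hle).op

theorem res_res {W W' W'' : (Spec R).Opens} (h1 : W' ≤ W) (h2 : W'' ≤ W') (x : Sec M W) :
    (res M h2).hom ((res M h1).hom x) = (res M (h2.trans h1)).hom x := by
  have h := (modulesSpecToSheaf.obj (tilde M)).1.map_comp (homOfLE h1).op (homOfLE h2).op
  exact (congrArg (fun t : Sec M W ⟶ Sec M W'' => t.hom x) h).symm

theorem res_toOpen {W W' : (Spec R).Opens} (hle : W' ≤ W) (y : M) :
    (res M hle).hom ((tilde.toOpen M W).hom y) = (tilde.toOpen M W').hom y := rfl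

theorem D_mul_le_left (f g : R) : D (f * g) ≤ D f := PrimeSpectrum.basicOpen_mul_le_left f g
theorem D_mul_le_right (f g : R) : D (f * g) ≤ D g := PrimeSpectrum.basicOpen_mul_le_right f g

theorem mem_D_iff (h : R) (p : PrimeSpectrum R) : p ∈ D h ↔ h ∉ p.asIdeal := Iff.rfl

/-- a section of `M~` over `D(f)` vanishing is killed by a power of `f` -/
theorem exists_pow_smul_eq_zero (f : R) (y : M) (hy : (tilde.toOpen M (D f)).hom y = 0) :
    ∃ t : ℕ, f ^ t • y = 0 := by
  obtain ⟨c, hc⟩ := (IsLocalizedModule.eq_zero_iff (Submonoid.powers f) (tilde.toOpen M (D f)).hom).1 hy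
  obtain ⟨t, ht⟩ := c.2
  refine ⟨t, ?_⟩
  have hc' : (c : R) • y = 0 := hc
  rw [← ht] at hc'
  exact hc'


theorem exists_genData_of_sections {n : ℕ} (U' : (Spec R).Opens) (s : Fin n → Sec M U')
    (hF : ∀ (g : M) (p : PrimeSpectrum R), p ∈ U' → ∃ (h' : R) (hle : D h' ≤ U') (E : ℕ)
      (ρ : Fin n → R), h' ∉ p.asIdeal ∧
        h' ^ E • (tilde.toOpen M (D h')).hom g = ∑ j, ρ j • (res M hle).hom (s j)) :
    ∃ T : Set (R × (Fin n → M)), GenData (R := R) M n T ∧
      ∀ p : PrimeSpectrum R, p ∈ U' → ∃ a ∈ T, a.1 ∉ p.asIdeal := by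
  classical
  let T : Set (R × (Fin n → M)) := {a | ∃ hle : D a.1 ≤ U', ∀ j,
    a.1 • (res M hle).hom (s j) = (tilde.toOpen M (D a.1)).hom (a.2 j)}
  -- restriction of the relation to a smaller basic open
  have hrel : ∀ a ∈ T, ∀ (W : (Spec R).Opens) (hW : W ≤ D a.1) (hWU : W ≤ U') (j : Fin n),
      a.1 • (res M hWU).hom (s j) = (tilde.toOpen M W).hom (a.2 j) := by
    rintro a ⟨hle, ha⟩ W hW hWU j
    have h1 := congrArg (fun z => (res M hW).hom z) (ha j)
    have h2 : (res M hW).hom (a.1 • (res M hle).hom (s j)) =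
        a.1 • (res M hW).hom ((res M hle).hom (s j)) := (res M hW).hom.map_smul _ _
    rw [res_res] at h2
    exact h2.symm.trans (h1.trans (res_toOpen M hW (a.2 j)))
  refine ⟨T, ⟨?_, ?_⟩, ?_⟩
  · -- compat
    intro a ha a' ha' j
    have hWU : D (a.1 * a'.1) ≤ U' := (D_mul_le_left a.1 a'.1).trans ha.1
    have e1 := hrel a ha (D (a.1 * a'.1)) (D_mul_le_left _ _) hWU j
    have e2 := hrel a' ha' (D (a.1 * a'.1)) (D_mul_le_right _ _) hWU j
    apply exists_pow_smul_eq_zero M (a.1 * a'.1)
    rw [map_sub, map_smul, map_smul, ← e1, ← e2, smul_comm, sub_self]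
  · -- gen
    intro a ha g
    let 𝔞 : Ideal R := Submodule.comap (LinearMap.toSpanSingleton R M g)
      (Submodule.span R (Set.range a.2))
    have hrad : a.1 ∈ 𝔞.radical := by
      rw [Ideal.radical_eq_sInf, Ideal.mem_sInf]
      rintro q ⟨hq, hqp⟩
      by_contra hnq
      have hqU : (⟨q, hqp⟩ : PrimeSpectrum R) ∈ U' := ha.1 ((mem_D_iff a.1 ⟨q, hqp⟩).2 hnq)
      obtain ⟨h', hle', E, ρ, hh', hE⟩ := hF g ⟨q, hqp⟩ hqU
      have hh'q : h' ∉ q := hh'
      have hWU : D (h' * a.1) ≤ U' := (D_mul_le_left h' a.1).trans hle'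
      have e1 := hrel a ha (D (h' * a.1)) (D_mul_le_right _ _) hWU
      have e2 := congrArg (fun z => (res M (D_mul_le_left h' a.1)).hom z) hE
      have e3 : (res M (D_mul_le_left h' a.1)).hom (h' ^ E • (tilde.toOpen M (D h')).hom g) =
          h' ^ E • (tilde.toOpen M (D (h' * a.1))).hom g :=
        ((res M (D_mul_le_left h' a.1)).hom.map_smul _ _).trans
          (congrArg (fun z => h' ^ E • z) (res_toOpen M _ g))
      have e4 : (res M (D_mul_le_left h' a.1)).hom (∑ j, ρ j • (res M hle').hom (s j)) =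
          ∑ j, ρ j • (res M hWU).hom (s j) := by
        rw [map_sum]
        refine Finset.sum_congr rfl (fun j _ => ?_)
        rw [map_smul, res_res]
      have e5 : h' ^ E • (tilde.toOpen M (D (h' * a.1))).hom g =
          ∑ j, ρ j • (res M hWU).hom (s j) := e3.symm.trans (e2.trans e4)
      have e6 : (tilde.toOpen M (D (h' * a.1))).hom ((a.1 * h' ^ E) • g - ∑ j, ρ j • a.2 j) = 0 := by
        rw [map_sub, map_smul, map_sum, mul_smul, e5, Finset.smul_sum, sub_eq_zero]
        refine Finset.sum_congr rfl (fun j _ => ?_)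
        rw [map_smul, smul_comm, e1 j]
      obtain ⟨t, ht⟩ := exists_pow_smul_eq_zero M (h' * a.1) _ e6
      rw [smul_sub, sub_eq_zero, smul_smul] at ht
      have hu : (h' * a.1) ^ t * (a.1 * h' ^ E) ∈ 𝔞 := by
        show ((h' * a.1) ^ t * (a.1 * h' ^ E)) • g ∈ Submodule.span R (Set.range a.2)
        rw [ht]
        refine Submodule.smul_mem _ _ (Submodule.sum_mem _ (fun j _ => ?_))
        exact Submodule.smul_mem _ _ (Submodule.subset_span ⟨j, rfl⟩)
      have hmem := hq hu
      rcases hqp.mem_or_mem hmem with h1 | h1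
      · rcases hqp.mem_or_mem (hqp.mem_of_pow_mem _ h1) with h2 | h2
        · exact hh'q h2
        · exact hnq h2
      · rcases hqp.mem_or_mem h1 with h2 | h2
        · exact hnq h2
        · exact hh'q (hqp.mem_of_pow_mem _ h2)
    obtain ⟨t, ht⟩ := hrad
    exact ⟨t, ht⟩
  · -- cover
    intro p hp
    obtain ⟨W, ⟨h₀, rfl⟩, hpW, hWU⟩ := (Opens.isBasis_iff_nbhd.1 PrimeSpectrum.isBasis_basic_opens) hp
    have hsurj : ∀ j, ∃ (y : M) (e : ℕ), h₀ ^ e • (res M hWU).hom (s j) =
        (tilde.toOpen M (D h₀)).hom y := by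
      intro j
      obtain ⟨⟨y, c⟩, hyc⟩ := IsLocalizedModule.surj (Submonoid.powers h₀)
        (tilde.toOpen M (D h₀)).hom ((res M hWU).hom (s j))
      obtain ⟨e, he⟩ := c.2
      refine ⟨y, e, ?_⟩
      have hyc' : (c : R) • (res M hWU).hom (s j) = (tilde.toOpen M (D h₀)).hom y := hyc
      rw [← he] at hyc'
      exact hyc'
    choose y e hye using hsurj
    let E : ℕ := ∑ j, e j
    have hDle : D (h₀ ^ (E + 1)) ≤ D h₀ :=
      le_of_eq (PrimeSpectrum.basicOpen_pow h₀ (E + 1) (Nat.succ_pos E))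
    refine ⟨(h₀ ^ (E + 1), fun j => h₀ ^ (E + 1 - e j) • y j), ⟨hDle.trans hWU, ?_⟩, ?_⟩
    · intro j
      show h₀ ^ (E + 1) • (res M (hDle.trans hWU)).hom (s j) =
        (tilde.toOpen M (D (h₀ ^ (E + 1)))).hom (h₀ ^ (E + 1 - e j) • y j)
      have hej : e j ≤ E := Finset.single_le_sum (f := e) (fun _ _ => Nat.zero_le _) (Finset.mem_univ j)
      have hpow : h₀ ^ (E + 1) = h₀ ^ (E + 1 - e j) * h₀ ^ e j := by
        rw [← pow_add]
        congr 1
        omega
      have h1 := congrArg (fun z => (res M hDle).hom z) (hye j)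
      have h2 : (res M hDle).hom (h₀ ^ e j • (res M hWU).hom (s j)) =
          h₀ ^ e j • (res M (hDle.trans hWU)).hom (s j) := by
        rw [map_smul, res_res]
      have h3 : h₀ ^ e j • (res M (hDle.trans hWU)).hom (s j) =
          (tilde.toOpen M (D (h₀ ^ (E + 1)))).hom (y j) :=
        h2.symm.trans (h1.trans (res_toOpen M hDle (y j)))
      have h4 : h₀ ^ (E + 1) • (res M (hDle.trans hWU)).hom (s j) =
          h₀ ^ (E + 1 - e j) • (h₀ ^ e j • (res M (hDle.trans hWU)).hom (s j)) := by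
        rw [smul_smul, ← hpow]
      rw [h4, h3, map_smul]
    · show h₀ ^ (E + 1) ∉ p.asIdeal
      intro hmem
      exact hpW (p.2.mem_of_pow_mem _ hmem)


/-- a section in `Sec M W` as an element of `Γ(M~, W)` -/
def toΓ (W : (Spec R).Opens) (z : Sec M W) : Γ(tilde M, W) := z

/-- a function on an open of the open subscheme as a function on its image -/
def toSpec (U : (Spec R).Opens) (V : (↑U : Scheme.{u}).Opens) (r : Γ((↑U : Scheme.{u}), V)) :
    Γ(Spec R, U.ι ''ᵁ V) := r

theorem toΓ_smul (W : (Spec R).Opens) (a : R) (z : Sec M W) :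
    toΓ M W (a • z) = algebraMap R Γ(Spec R, W) a • toΓ M W z :=
  (algebraMap_smul Γ(Spec R, W) a (toΓ M W z)).symm

theorem toΓ_res {W W' : (Spec R).Opens} (hle : W' ≤ W) (z : Sec M W) :
    toΓ M W' ((res M hle).hom z) = (tilde M).presheaf.map (homOfLE hle).op (toΓ M W z) := rfl

theorem toΓ_sum {ι : Type} (t : Finset ι) (W : (Spec R).Opens) (f : ι → Sec M W) :
    toΓ M W (∑ i ∈ t, f i) = ∑ i ∈ t, toΓ M W (f i) := rfl

/-- a section of the restriction as a section over the image -/
def ofRestrict (U : (Spec R).Opens) (V : (↑U : Scheme.{u}).Opens)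
    (z : Γ((tilde M).restrict U.ι, V)) : Γ(tilde M, U.ι ''ᵁ V) := z

theorem restrict_smul (U : (Spec R).Opens) (V : (↑U : Scheme.{u}).Opens) (r : Γ((↑U : Scheme.{u}), V))
    (z : Γ((tilde M).restrict U.ι, V)) :
    ofRestrict M U V (r • z) = toSpec U V r • ofRestrict M U V z := by
  have h1 : ofRestrict M U V (r • z) = (U.ι.appIso V).inv r • ofRestrict M U V z := rfl
  rw [h1, Scheme.Opens.ι_appIso]
  rfl

/-- the sections of `M~` over `U` given by a morphism from the free module -/
noncomputable def sect {n : ℕ} (U : (Spec R).Opens)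
    (φ : FlatMod.freeMod (↑U : Scheme.{u}) n ⟶ (tilde M).restrict U.ι) (j : Fin n) :
    Sec M (U.ι ''ᵁ ⊤) :=
  (Sigma.ι (fun _ : Fin n => Coh.structureModule (↑U : Scheme.{u})) j ≫ φ).app ⊤ (one ⊤)

theorem exists_local_comb {n : ℕ} (U : (Spec R).Opens)
    (φ : FlatMod.freeMod (↑U : Scheme.{u}) n ⟶ (tilde M).restrict U.ι) [Epi φ]
    (g : M) (p : PrimeSpectrum R) (hp : p ∈ U.ι ''ᵁ ⊤) :
    ∃ (h' : R) (hle : D h' ≤ U.ι ''ᵁ ⊤) (E : ℕ) (ρ : Fin n → R), h' ∉ p.asIdeal ∧
      h' ^ E • (tilde.toOpen M (D h')).hom g = ∑ j, ρ j • (res M hle).hom (sect M U φ j) := by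
  classical
  obtain ⟨x, -, hx⟩ := hp
  let γ : Γ((tilde M).restrict U.ι, ⊤) := (tilde.toOpen M (U.ι ''ᵁ ⊤)).hom g
  obtain ⟨V, hV, hxV, c, hc⟩ :=
    Groth.Agent.Lib.Helper4.ModEpi.exists_app_eq_of_epi φ ⊤ γ x trivial
  let W : (Spec R).Opens := U.ι ''ᵁ V
  have hW : W ≤ U.ι ''ᵁ ⊤ := (U.ι.opensFunctor.map (homOfLE hV)).le
  have hpW : p ∈ W := ⟨x, hxV, hx⟩
  have eq1 : toΓ M W ((tilde.toOpen M W).hom g) =
      ∑ j, toSpec U V (asRing V ((prj _ n j).app V c)) •
        toΓ M W ((res M hW).hom (sect M U φ j)) := by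
    have h1 := app_free_eq φ V c
    rw [hc] at h1
    refine Eq.trans ?_ (h1.trans ?_)
    · rfl
    · refine Finset.sum_congr rfl (fun j _ => ?_)
      exact restrict_smul M U V _ _
  obtain ⟨W', ⟨h', hW'⟩, hpW'', hW'W'⟩ :=
    (Opens.isBasis_iff_nbhd.1 PrimeSpectrum.isBasis_basic_opens) hpW
  have hDW' : D h' = W' := hW'
  have hW'W : D h' ≤ W := by rw [hDW']; exact hW'W'
  have hpW' : h' ∉ p.asIdeal := by
    have h3 : p ∈ D h' := by rw [hDW']; exact hpW''
    exact h3
  have hle : D h' ≤ U.ι ''ᵁ ⊤ := le_trans hW'W hW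
  -- restrict to `D(h')`
  let r' : Fin n → Γ(Spec R, D h') := fun j =>
    (Spec R).presheaf.map (homOfLE hW'W).op (toSpec U V (asRing V ((prj _ n j).app V c)))
  have eq2 : toΓ M (D h') ((tilde.toOpen M (D h')).hom g) =
      ∑ j, r' j • toΓ M (D h') ((res M hle).hom (sect M U φ j)) := by
    have h1 := congrArg (fun z => (tilde M).presheaf.map (homOfLE hW'W).op z) eq1
    have h2 : (tilde M).presheaf.map (homOfLE hW'W).op (toΓ M W ((tilde.toOpen M W).hom g)) =
        toΓ M (D h') ((tilde.toOpen M (D h')).hom g) := res_toOpen M hW'W g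
    refine h2.symm.trans (h1.trans ?_)
    show (tilde M).presheaf.map (homOfLE hW'W).op
      (∑ j, toSpec U V (asRing V ((prj _ n j).app V c)) •
        toΓ M W ((res M hW).hom (sect M U φ j))) = _
    rw [map_sum]
    refine Finset.sum_congr rfl (fun j _ => ?_)
    refine (Scheme.Modules.map_smul (tilde M) (homOfLE hW'W) _ _).trans ?_
    congr 1
  -- clear denominators
  have hsurj : ∀ j, ∃ (e : ℕ) (a : R), r' j * algebraMap R Γ(Spec R, D h') h' ^ e =
      algebraMap R Γ(Spec R, D h') a := fun j => IsLocalization.Away.surj h' (r' j)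
  choose e a hea using hsurj
  let E : ℕ := ∑ j, e j
  refine ⟨h', hle, E, fun j => a j * h' ^ (E - e j), hpW', ?_⟩
  have hE : ∀ j, algebraMap R Γ(Spec R, D h') (h' ^ E) * r' j =
      algebraMap R Γ(Spec R, D h') (a j * h' ^ (E - e j)) := by
    intro j
    have hej : e j ≤ E := Finset.single_le_sum (f := e) (fun _ _ => Nat.zero_le _) (Finset.mem_univ j)
    have hpow : h' ^ E = h' ^ e j * h' ^ (E - e j) := by
      rw [← pow_add]
      congr 1
      omega
    rw [hpow, map_mul, map_mul, map_pow, ← hea j]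
    ring
  have key : toΓ M (D h') (h' ^ E • (tilde.toOpen M (D h')).hom g) =
      toΓ M (D h') (∑ j, (a j * h' ^ (E - e j)) • (res M hle).hom (sect M U φ j)) := by
    rw [toΓ_smul, eq2, Finset.smul_sum, toΓ_sum]
    refine Finset.sum_congr rfl (fun j _ => ?_)
    rw [smul_smul, hE j, toΓ_smul]
  exact key


/-- the algebraic generating data extracted from an epimorphism `O_U^n ⟶ M~|_U` -/
theorem exists_genData {n : ℕ} (U : (Spec R).Opens)
    (φ : FlatMod.freeMod (↑U : Scheme.{u}) n ⟶ (tilde M).restrict U.ι) [Epi φ] :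
    ∃ T : Set (R × (Fin n → M)), GenData (R := R) M n T ∧
      ∀ p : PrimeSpectrum R, p ∈ U → ∃ a ∈ T, a.1 ∉ p.asIdeal := by
  obtain ⟨T, hT, hcov⟩ := exists_genData_of_sections M (U.ι ''ᵁ ⊤) (sect M U φ)
    (fun g p hp => exists_local_comb M U φ g p hp)
  refine ⟨T, hT, fun p hp => hcov p ?_⟩
  rw [Scheme.Opens.ι_image_top]
  exact hp

end Bridge

end Groth.Agent.Lib.T2H2.GenCover
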