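import Mathlib
import Groth.Agent.Lib.T2H5GenIsoF
import Groth.Agent.Lib.Helper2FibreCrit2

/-!
# Serre classes of coherent modules on a Noetherian scheme (helper2)

Namespace `Groth.Agent.Lib.T2H2.SerreCoh`.  Uses helper5's dévissage libraries.
-/

set_option autoImplicit false
set_option linter.style.haveILetI false
set_option linter.unusedSectionVars false
universe u
open CategoryTheory CategoryTheory.Limits AlgebraicGeometry Opposite TopologicalSpace

namespace Groth.Agent.Lib.T2H2.SerreCoh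

open Groth.Agent.Lib.T2H5.IdealMul Groth.Agent.Lib.T2H5.Devissage Groth.Agent.Lib.T2H5.GenIsoA
open Groth.Agent.Lib.T2H5.GenIsoB Groth.Agent.Lib.T2H5.GenIsoC Groth.Agent.Lib.T2H5.GenIsoD
open Groth.Agent.Lib.T2H5.GenIsoE
open Groth.Agent.Lib.Helper23.ModLocal Groth.Agent.Lib.Helper23.QCohLocal Groth.Agent.Lib.Helper23.FinType
open Groth.Agent.Lib.Helper4.NormDelta Groth.Agent.Lib.Helper23.StalkLin
open Scheme.IdealSheafData

variable {X : Scheme.{u}}

/-- the image of `(I F)_y ⟶ F_y` lies in `𝔪_y F_y` for `y ∈ V(I)` -/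
theorem stalkLin_idealMulι_mem (I : X.IdealSheafData) (F : X.Modules) [F.IsQuasicoherent] (y : X)
    (hy : y ∈ I.support) (t : ((Dual3.idealMul I).obj F).presheaf.stalk y) :
    stalkLin (Dual3.idealMulι I F) y t ∈
      (IsLocalRing.maximalIdeal (X.presheaf.stalk y) • ⊤ :
        Submodule (X.presheaf.stalk y) (F.presheaf.stalk y)) := by
  obtain ⟨V, hyV, s, rfl⟩ := ((Dual3.idealMul I).obj F).presheaf.exists_germ_eq t
  obtain ⟨V', hV', hyV', hV'V⟩ := exists_isAffineOpen_mem_and_subset (x := y) (U := V) hyV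
  have hres : ((Dual3.idealMul I).obj F).presheaf.germ V y hyV s =
      ((Dual3.idealMul I).obj F).presheaf.germ V' y hyV'
        (((Dual3.idealMul I).obj F).presheaf.map (homOfLE hV'V).op s) :=
    (TopCat.Presheaf.germ_res_apply _ (homOfLE hV'V) y hyV' s).symm
  rw [hres]
  set s' := ((Dual3.idealMul I).obj F).presheaf.map (homOfLE hV'V).op s with hs'
  rw [stalkLin_germ]
  have hmem : (Dual3.idealMulι I F).app V' s' ∈
      (I.ideal ⟨V', hV'⟩ • ⊤ : Submodule Γ(X, V') Γ(F, V')) :=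
    (exists_idealMulι_app_eq_iff I F ⟨V', hV'⟩ _).1 ⟨s', rfl⟩
  refine Submodule.smul_induction_on hmem ?_ ?_
  · intro a ha g _
    rw [Groth.Agent.Lib.Helper2.QCoh.germ_smul]
    exact Submodule.smul_mem_smul (germ_mem_maximalIdeal I ⟨V', hV'⟩ y hyV' hy a ha)
      Submodule.mem_top
  · intro g₁ g₂ h₁ h₂
    rw [map_add]
    exact Submodule.add_mem _ h₁ h₂

/-- Nakayama: `F / I F` is nonzero at the points of `Supp F ∩ V(I)` -/
theorem mem_support_pushPull (I : X.IdealSheafData) (F : X.Modules) (hF : Coh.IsCoh F) (y : X)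
    (hyI : y ∈ I.support) (hyF : y ∈ CohB1.support F) :
    y ∈ CohB1.support ((Scheme.Modules.pushforward I.subschemeι).obj
      ((Scheme.Modules.pullback I.subschemeι).obj F)) := by
  haveI := hF.1
  haveI : SheafOfModules.IsFiniteType (R := X.ringCatSheaf) F := hF.2
  intro hsub
  apply hyF
  have hS := shortExact_idealMul I F
  have hex := stalkLin_exact _ hS y
  have hsurj : Function.Surjective (stalkLin (Dual3.idealMulι I F) y) := by
    intro z
    have h0 : stalkLin (unit I F) y z = 0 := Subsingleton.elim _ _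
    exact (hex z).1 h0
  haveI : Module.Finite (X.presheaf.stalk y) (F.presheaf.stalk y) :=
    Groth.Agent.Lib.Helper2.FibreCrit.finite_stalk F y
  have hle : (⊤ : Submodule (X.presheaf.stalk y) (F.presheaf.stalk y)) ≤
      IsLocalRing.maximalIdeal (X.presheaf.stalk y) • ⊤ := by
    intro z _
    obtain ⟨t, rfl⟩ := hsurj z
    exact stalkLin_idealMulι_mem I F y hyI t
  have hbot : (⊤ : Submodule (X.presheaf.stalk y) (F.presheaf.stalk y)) = ⊥ :=
    Submodule.eq_bot_of_le_smul_of_le_jacobson_bot _ _ (Module.Finite.fg_top) hle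
      (IsLocalRing.maximalIdeal_le_jacobson _)
  refine ⟨fun a b => ?_⟩
  have ha : a ∈ (⊤ : Submodule (X.presheaf.stalk y) (F.presheaf.stalk y)) := Submodule.mem_top
  have hb : b ∈ (⊤ : Submodule (X.presheaf.stalk y) (F.presheaf.stalk y)) := Submodule.mem_top
  rw [hbot, Submodule.mem_bot] at ha hb
  rw [ha, hb]


/-! ### Serre classes on coherent modules -/

/-- a Serre class on coherent modules: in a short exact sequence of coherent modules, the middle term belongs to the
class iff both outer terms do -/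
def IsSerre (P : ObjectProperty X.Modules) : Prop :=
  ∀ S : ShortComplex X.Modules, S.ShortExact → Coh.IsCoh S.X₁ → Coh.IsCoh S.X₂ → Coh.IsCoh S.X₃ →
    (P S.X₂ ↔ P S.X₁ ∧ P S.X₃)

section Serre

variable [IsLocallyNoetherian X] {P : ObjectProperty X.Modules} (hP : IsSerre P)

theorem isCoh_of_isZero {F N : X.Modules} (hF : Coh.IsCoh F) (hN : IsZero N) : Coh.IsCoh N :=
  isCoh_of_iso ((isZero_cokernel_of_epi (𝟙 F)).iso hN) (isCoh_cokernel (𝟙 F) hF hF)

include hP in
theorem IsSerre.sub {A B : X.Modules} (f : A ⟶ B) [Mono f] (hA : Coh.IsCoh A) (hB : Coh.IsCoh B)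
    (h : P B) : P A := by
  have hS : (ShortComplex.mk f (cokernel.π f) (cokernel.condition f)).ShortExact :=
    { exact := ShortComplex.exact_cokernel f
      mono_f := inferInstanceAs (Mono f)
      epi_g := inferInstanceAs (Epi (cokernel.π f)) }
  exact ((hP _ hS hA hB (isCoh_cokernel f hA hB)).1 h).1

include hP in
theorem IsSerre.quot {A B : X.Modules} (g : A ⟶ B) [Epi g] (hA : Coh.IsCoh A) (hB : Coh.IsCoh B)
    (h : P A) : P B := by
  have hS : (ShortComplex.mk (kernel.ι g) g (kernel.condition g)).ShortExact :=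
    { exact := ShortComplex.exact_kernel g
      mono_f := inferInstanceAs (Mono (kernel.ι g))
      epi_g := inferInstanceAs (Epi g) }
  exact ((hP _ hS (isCoh_kernel g hA hB) hA hB).1 h).2

include hP in
theorem IsSerre.ext (S : ShortComplex X.Modules) (hS : S.ShortExact) (h1 : Coh.IsCoh S.X₁)
    (h2 : Coh.IsCoh S.X₂) (h3 : Coh.IsCoh S.X₃) (p1 : P S.X₁) (p3 : P S.X₃) : P S.X₂ :=
  (hP S hS h1 h2 h3).2 ⟨p1, p3⟩

include hP in
theorem IsSerre.of_iso {M N : X.Modules} (e : M ≅ N) (hM : Coh.IsCoh M) (h : P M) : P N :=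
  hP.quot e.hom hM (isCoh_of_iso e hM) h

include hP in
theorem IsSerre.of_isZero {F N : X.Modules} (hF : Coh.IsCoh F) (hPF : P F) (hN : IsZero N) : P N := by
  have hNc := isCoh_of_isZero hF hN
  haveI : Mono (0 : N ⟶ F) := ⟨fun _ _ _ => hN.eq_of_tgt _ _⟩
  exact hP.sub (0 : N ⟶ F) hNc hF hPF

end Serre

/-- the support condition is a Serre class -/
theorem isSerre_support (Z : Set X) : IsSerre (X := X) (fun M => CohB1.support M ⊆ Z) := by
  intro S hS _ _ _
  haveI := hS.mono_f
  haveI := hS.epi_g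
  constructor
  · intro h
    exact ⟨(support_subset_of_mono S.f).trans h, (support_subset_of_epi S.g).trans h⟩
  · rintro ⟨h1, h3⟩ y hy
    by_contra hyZ
    have e1 : lenAt y S.X₁ = 0 := (lenAt_eq_zero_iff y S.X₁).2 fun h => hyZ (h1 h)
    have e3 : lenAt y S.X₃ = 0 := (lenAt_eq_zero_iff y S.X₃).2 fun h => hyZ (h3 h)
    have e2 : lenAt y S.X₂ = 0 := by rw [lenAt_shortExact y S hS, e1, e3, add_zero]
    exact (lenAt_eq_zero_iff y S.X₂).1 e2 hy

/-- **Gabriel**: a Serre class of coherent modules containing `F` contains every coherent module supported in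
`Supp F` -/
theorem serre_of_support_subset [IsNoetherian X] {P : ObjectProperty X.Modules} (hP : IsSerre P)
    (F : X.Modules) (hF : Coh.IsCoh F) (hPF : P F) (E : X.Modules) (hE : Coh.IsCoh E)
    (hsupp : CohB1.support E ⊆ CohB1.support F) : P E := by
  classical
  let P' : X.Modules → Prop := fun M => Coh.IsCoh M → P M
  have hP' : ∀ M N : X.Modules, Nonempty (M ≅ N) → P' M → P' N := by
    rintro M N ⟨e⟩ hM hN
    exact hP.of_iso e (isCoh_of_iso e.symm hN) (hM (isCoh_of_iso e.symm hN))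
  have h0 : ∀ M : X.Modules, IsZero M → P' M := fun M hM _ => hP.of_isZero hF hPF hM
  have hext : ∀ S : ShortComplex X.Modules, S.ShortExact → Coh.IsCoh S.X₁ → Coh.IsCoh S.X₂ →
      Coh.IsCoh S.X₃ → P' S.X₁ → P' S.X₃ → P' S.X₂ :=
    fun S hS c1 c2 c3 p1 p3 _ => hP.ext S hS c1 c2 c3 (p1 c1) (p3 c3)
  refine Groth.Agent.Lib.T2H5.Devissage.core P' hP' h0 hext (CohB1.support F) ?_ E hE hsupp hE
  intro Z hZ hZirr hZF ihN M hM hMk _
  obtain ⟨y, hy⟩ := QuasiSober.sober hZirr hZ
  have hyZ : closure {y} = Z := hy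
  have hyZ' : y ∈ Z := hyZ ▸ subset_closure (Set.mem_singleton y)
  set I := vanishingIdeal ⟨Z, hZ⟩ with hI
  have hyI : y ∈ I.support := by
    have h1 : (I.support : Set X) = Z := by rw [hI, coe_support_vanishingIdeal]; rfl
    have h2 : y ∈ (I.support : Set X) := by rw [h1]; exact hyZ'
    exact h2
  haveI := hF.1
  have hS := shortExact_idealMul I F
  have hIF : Coh.IsCoh ((Dual3.idealMul I).obj F) := isCoh_idealMul I F hF
  have hG : Coh.IsCoh ((Scheme.Modules.pushforward I.subschemeι).obj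
      ((Scheme.Modules.pullback I.subschemeι).obj F)) := isCoh_pushPull I F hF
  have hPG : P ((Scheme.Modules.pushforward I.subschemeι).obj
      ((Scheme.Modules.pullback I.subschemeι).obj F)) := ((hP _ hS hIF hF hG).1 hPF).2
  have hex : ∀ S : ShortComplex X.Modules, S.ShortExact → Coh.IsCoh S.X₁ → Coh.IsCoh S.X₂ →
      Coh.IsCoh S.X₃ → CohB1.support S.X₂ ⊆ Z →
      (P' S.X₁ → P' S.X₂ → P' S.X₃) ∧ (P' S.X₁ → P' S.X₃ → P' S.X₂) ∧
        (P' S.X₂ → P' S.X₃ → P' S.X₁) := by
    intro S hS c1 c2 c3 _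
    refine ⟨fun _ p2 _ => ((hP S hS c1 c2 c3).1 (p2 c2)).2,
      fun p1 p3 _ => hP.ext S hS c1 c2 c3 (p1 c1) (p3 c3),
      fun p2 _ _ => ((hP S hS c1 c2 c3).1 (p2 c2)).1⟩
  obtain ⟨m, c, hmc, hall⟩ := irr_step P' hP' h0 Z hZ hZirr hex ihN y hyZ _ hG
    (killed_pushPull I F) (fun _ => hPG)
  have hne : lenAt y ((Scheme.Modules.pushforward I.subschemeι).obj
      ((Scheme.Modules.pullback I.subschemeι).obj F)) ≠ 0 := by
    intro h0'
    exact (lenAt_eq_zero_iff y _).1 h0' (mem_support_pushPull I F hF y hyI (hZF hyZ'))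
  have hm : m ≠ 0 := by
    rintro rfl
    apply hne
    rw [hmc]
    simp
  have hsig : Coh.IsCoh (∐ fun _ : Fin m => M) := isCoh_sigma _ fun _ => hM
  have hPs : P (∐ fun _ : Fin m => M) := hall M hM hMk hsig
  let j0 : Fin m := ⟨0, Nat.pos_of_ne_zero hm⟩
  haveI : Mono (Sigma.ι (fun _ : Fin m => M) j0) := by
    haveI : IsSplitMono (Sigma.ι (fun _ : Fin m => M) j0) :=
      IsSplitMono.mk' ⟨Sigma.desc (fun j => if j = j0 then 𝟙 M else 0), by simp⟩
    infer_instance
  exact hP.sub (Sigma.ι (fun _ : Fin m => M) j0) hM hsig hPs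


/-! ### the structure module of a closed subset -/

theorem support_structureModule : CohB1.support (Coh.structureModule X) = Set.univ := by
  ext x
  simp only [Set.mem_univ, iff_true]
  change ¬ Subsingleton _
  rw [not_subsingleton_iff_nontrivial]
  infer_instance

/-- the structure module of the reduced closed subscheme on `Z`, as an `O_X`-module -/
noncomputable def OZ (Z : Closeds X) : X.Modules :=
  (Scheme.Modules.pushforward (vanishingIdeal Z).subschemeι).obj
    ((Scheme.Modules.pullback (vanishingIdeal Z).subschemeι).obj (Coh.structureModule X))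

theorem isCoh_OZ (Z : Closeds X) : Coh.IsCoh (OZ Z) :=
  isCoh_pushPull (vanishingIdeal Z) _ Groth.Agent.Lib.T2H5.GenIsoF.isCoh_structureModule

theorem support_OZ (Z : Closeds X) : CohB1.support (OZ Z) = (Z : Set X) := by
  have hr : Set.range (vanishingIdeal Z).subschemeι = (Z : Set X) :=
    range_subschemeι_vanishingIdeal (Z : Set X) Z.2
  have hcl : IsClosed (Set.range (vanishingIdeal Z).subschemeι) := by rw [hr]; exact Z.2
  refine Set.Subset.antisymm ?_ ?_
  · exact (support_pushforward_subset (vanishingIdeal Z).subschemeι _ hcl).trans hr.le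
  · intro y hy
    have hyI : y ∈ (vanishingIdeal Z).support := by
      have h1 : ((vanishingIdeal Z).support : Set X) = (Z : Set X) := coe_support_vanishingIdeal Z
      have h2 : y ∈ ((vanishingIdeal Z).support : Set X) := by rw [h1]; exact hy
      exact h2
    exact mem_support_pushPull (vanishingIdeal Z) (Coh.structureModule X)
      Groth.Agent.Lib.T2H5.GenIsoF.isCoh_structureModule y hyI
      (by rw [support_structureModule]; trivial)


/-! ### irreducible closed subsets and irreducible Serre classes -/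

section Irr

variable [IsLocallyNoetherian X]

theorem biprodSC_shortExact (A B : X.Modules) :
    (ShortComplex.mk (biprod.inl : A ⟶ A ⊞ B) (biprod.snd : A ⊞ B ⟶ B) (by simp)).ShortExact :=
  (ShortComplex.Splitting.ofHasBinaryBiproduct A B).shortExact

theorem IsSerre.biprod {P : ObjectProperty X.Modules} (hP : IsSerre P) {A B : X.Modules}
    (hA : Coh.IsCoh A) (hB : Coh.IsCoh B) (pA : P A) (pB : P B) : P (A ⊞ B) :=
  hP.ext _ (biprodSC_shortExact A B) hA (isCoh_biprod A B hA hB) hB pA pB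

theorem support_biprod {A B : X.Modules} (hA : Coh.IsCoh A) (hB : Coh.IsCoh B) :
    CohB1.support (A ⊞ B) = CohB1.support A ∪ CohB1.support B := by
  have hAB := isCoh_biprod A B hA hB
  refine Set.Subset.antisymm ?_ ?_
  · exact (isSerre_support (CohB1.support A ∪ CohB1.support B) _ (biprodSC_shortExact A B) hA hAB hB).2
      ⟨Set.subset_union_left, Set.subset_union_right⟩
  · have h := (isSerre_support (CohB1.support (A ⊞ B)) _ (biprodSC_shortExact A B) hA hAB hB).1 le_rfl
    exact Set.union_subset h.1 h.2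

end Irr

/-- if `Z` is (pre)irreducible, the Serre class of coherent modules supported in `Z` is irreducible -/
theorem serre_irreducible_of_isPreirreducible [IsNoetherian X] (Z : Closeds X)
    (hZ : IsPreirreducible (Z : Set X)) (J₁ J₂ : ObjectProperty X.Modules)
    (h₁ : IsSerre J₁) (h₂ : IsSerre J₂)
    (hgen : ∀ Q : ObjectProperty X.Modules, IsSerre Q →
      (∀ M : X.Modules, Coh.IsCoh M → J₁ M → Q M) → (∀ M : X.Modules, Coh.IsCoh M → J₂ M → Q M) →
      ∀ M : X.Modules, Coh.IsCoh M → CohB1.support M ⊆ (Z : Set X) → Q M) :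
    (∀ M : X.Modules, Coh.IsCoh M → CohB1.support M ⊆ (Z : Set X) → J₁ M) ∨
      (∀ M : X.Modules, Coh.IsCoh M → CohB1.support M ⊆ (Z : Set X) → J₂ M) := by
  classical
  by_cases hne₂ : ∃ N₂ : X.Modules, Coh.IsCoh N₂ ∧ J₂ N₂
  · by_cases hne₁ : ∃ N₁ : X.Modules, Coh.IsCoh N₁ ∧ J₁ N₁
    · obtain ⟨N₁, hN₁, hJN₁⟩ := hne₁
      obtain ⟨N₂, hN₂, hJN₂⟩ := hne₂
      let Q : ObjectProperty X.Modules := fun M => ∃ M₁ M₂ : X.Modules, Coh.IsCoh M₁ ∧ Coh.IsCoh M₂ ∧
        J₁ M₁ ∧ J₂ M₂ ∧ CohB1.support M ⊆ CohB1.support M₁ ∪ CohB1.support M₂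
      have hQ : IsSerre Q := by
        intro S hS c1 c2 c3
        haveI := hS.mono_f
        haveI := hS.epi_g
        constructor
        · rintro ⟨M₁, M₂, hM₁, hM₂, j1, j2, hs⟩
          exact ⟨⟨M₁, M₂, hM₁, hM₂, j1, j2, (support_subset_of_mono S.f).trans hs⟩,
            ⟨M₁, M₂, hM₁, hM₂, j1, j2, (support_subset_of_epi S.g).trans hs⟩⟩
        · rintro ⟨⟨M₁, M₂, hM₁, hM₂, j1, j2, hs⟩, ⟨M₁', M₂', hM₁', hM₂', j1', j2', hs'⟩⟩
          refine ⟨M₁ ⊞ M₁', M₂ ⊞ M₂', isCoh_biprod _ _ hM₁ hM₁', isCoh_biprod _ _ hM₂ hM₂',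
            h₁.biprod hM₁ hM₁' j1 j1', h₂.biprod hM₂ hM₂' j2 j2', ?_⟩
          rw [support_biprod hM₁ hM₁', support_biprod hM₂ hM₂']
          refine (isSerre_support _ S hS c1 c2 c3).2 ⟨hs.trans ?_, hs'.trans ?_⟩
          · exact Set.union_subset_union Set.subset_union_left Set.subset_union_left
          · exact Set.union_subset_union Set.subset_union_right Set.subset_union_right
      have hQ₁ : ∀ M : X.Modules, Coh.IsCoh M → J₁ M → Q M := fun M hM j =>
        ⟨M, N₂, hM, hN₂, j, hJN₂, Set.subset_union_left⟩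
      have hQ₂ : ∀ M : X.Modules, Coh.IsCoh M → J₂ M → Q M := fun M hM j =>
        ⟨N₁, M, hN₁, hM, hJN₁, j, Set.subset_union_right⟩
      obtain ⟨M₁, M₂, hM₁, hM₂, j1, j2, hs⟩ := hgen Q hQ hQ₁ hQ₂ (OZ Z) (isCoh_OZ Z) (support_OZ Z).le
      rw [support_OZ] at hs
      rcases (isPreirreducible_iff_isClosed_union_isClosed.1 hZ) _ _
        (isClosed_support M₁ hM₁) (isClosed_support M₂ hM₂) hs with h | h
      · exact Or.inl fun M hM hMZ => serre_of_support_subset h₁ M₁ hM₁ j1 M hM (hMZ.trans h)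
      · exact Or.inr fun M hM hMZ => serre_of_support_subset h₂ M₂ hM₂ j2 M hM (hMZ.trans h)
    · refine Or.inr (hgen J₂ h₂ (fun M hM j => ?_) (fun M _ j => j))
      exact absurd ⟨M, hM, j⟩ hne₁
  · refine Or.inl (hgen J₁ h₁ (fun M _ j => j) (fun M hM j => ?_))
    exact absurd ⟨M, hM, j⟩ hne₂

/-- if the Serre class of coherent modules supported in `Z` is irreducible, then `Z` is (pre)irreducible -/
theorem isPreirreducible_of_serre_irreducible [IsNoetherian X] (Z : Closeds X)
    (h : ∀ J₁ J₂ : ObjectProperty X.Modules, IsSerre J₁ → IsSerre J₂ →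
      (∀ M : X.Modules, Coh.IsCoh M → J₁ M → CohB1.support M ⊆ (Z : Set X)) →
      (∀ M : X.Modules, Coh.IsCoh M → J₂ M → CohB1.support M ⊆ (Z : Set X)) →
      (∀ Q : ObjectProperty X.Modules, IsSerre Q →
        (∀ M : X.Modules, Coh.IsCoh M → J₁ M → Q M) → (∀ M : X.Modules, Coh.IsCoh M → J₂ M → Q M) →
        ∀ M : X.Modules, Coh.IsCoh M → CohB1.support M ⊆ (Z : Set X) → Q M) →
      (∀ M : X.Modules, Coh.IsCoh M → CohB1.support M ⊆ (Z : Set X) → J₁ M) ∨
        (∀ M : X.Modules, Coh.IsCoh M → CohB1.support M ⊆ (Z : Set X) → J₂ M)) :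
    IsPreirreducible (Z : Set X) := by
  rw [isPreirreducible_iff_isClosed_union_isClosed]
  intro z₁ z₂ hz₁ hz₂ hcov
  let Z₁ : Closeds X := ⟨(Z : Set X) ∩ z₁, Z.2.inter hz₁⟩
  let Z₂ : Closeds X := ⟨(Z : Set X) ∩ z₂, Z.2.inter hz₂⟩
  have hgen : ∀ Q : ObjectProperty X.Modules, IsSerre Q →
      (∀ M : X.Modules, Coh.IsCoh M → CohB1.support M ⊆ (Z₁ : Set X) → Q M) →
      (∀ M : X.Modules, Coh.IsCoh M → CohB1.support M ⊆ (Z₂ : Set X) → Q M) →
      ∀ M : X.Modules, Coh.IsCoh M → CohB1.support M ⊆ (Z : Set X) → Q M := by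
    intro Q hQ q1 q2 M hM hMZ
    have p1 : Q (OZ Z₁) := q1 _ (isCoh_OZ Z₁) (support_OZ Z₁).le
    have p2 : Q (OZ Z₂) := q2 _ (isCoh_OZ Z₂) (support_OZ Z₂).le
    refine serre_of_support_subset hQ (OZ Z₁ ⊞ OZ Z₂) (isCoh_biprod _ _ (isCoh_OZ Z₁) (isCoh_OZ Z₂))
      (hQ.biprod (isCoh_OZ Z₁) (isCoh_OZ Z₂) p1 p2) M hM ?_
    rw [support_biprod (isCoh_OZ Z₁) (isCoh_OZ Z₂), support_OZ, support_OZ]
    intro x hx
    rcases hcov (hMZ hx) with h1 | h2
    · exact Or.inl ⟨hMZ hx, h1⟩
    · exact Or.inr ⟨hMZ hx, h2⟩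
  rcases h (fun M => CohB1.support M ⊆ (Z₁ : Set X)) (fun M => CohB1.support M ⊆ (Z₂ : Set X))
    (isSerre_support _) (isSerre_support _) (fun M _ hs => hs.trans Set.inter_subset_left)
    (fun M _ hs => hs.trans Set.inter_subset_left) hgen with h1 | h2
  · left
    have h3 := h1 (OZ Z) (isCoh_OZ Z) (support_OZ Z).le
    rw [support_OZ] at h3
    exact h3.trans Set.inter_subset_right
  · right
    have h3 := h2 (OZ Z) (isCoh_OZ Z) (support_OZ Z).le
    rw [support_OZ] at h3
    exact h3.trans Set.inter_subset_right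

end Groth.Agent.Lib.T2H2.SerreCoh
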