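import Mathlib
import Groth.Agent.Lib.T2H2SerreCoh
import Groth.Agent.Lib.T2H2GenCover
import Groth.Agent.Lib.T2H5ExtendHom
import Groth.Agent.Lib.Helper21RetractFree
import Groth.Agent.Lib.T2H5Dev2

/-!
# The centre of the category of coherent modules on a Noetherian scheme (helper2)

Namespace `Groth.Agent.Lib.T2H2.CentreCoh`.
-/

set_option autoImplicit false
set_option linter.style.haveILetI false
set_option linter.unusedSectionVars false
universe u
open CategoryTheory CategoryTheory.Limits AlgebraicGeometry Opposite TopologicalSpace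

namespace Groth.Agent.Lib.T2H2.CentreCoh

open Groth.Agent.Lib.T2H5.IdealMul Groth.Agent.Lib.T2H5.Devissage
open Groth.Agent.Lib.T2H2.GenCover
open Scheme.IdealSheafData

variable {X : Scheme.{u}}

/-- an ideal sheaf is the unit ideal on affine opens disjoint from its support -/
theorem ideal_eq_top_of_disjoint (K : X.IdealSheafData) (W : X.affineOpens)
    (h : ∀ x ∈ W.1, x ∉ (K.support : Set X)) : K.ideal W = ⊤ := by
  have h1 := (W.2.fromSpec_image_zeroLocus (K.ideal W : Set Γ(X, W.1))).trans_subset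
    (zeroLocus_inter_subset_supportSet K W)
  have h2 : PrimeSpectrum.zeroLocus (K.ideal W : Set Γ(X, W.1)) = ∅ := by
    rw [Set.eq_empty_iff_forall_notMem]
    intro p hp
    have h3 : W.2.fromSpec p ∈ K.supportSet := h1 ⟨p, hp, rfl⟩
    have h4 : W.2.fromSpec p ∈ W.1 := by
      have := W.2.range_fromSpec
      have h5 : W.2.fromSpec p ∈ Set.range W.2.fromSpec := ⟨p, rfl⟩
      rw [this] at h5
      exact h5
    exact h _ h4 h3
  exact PrimeSpectrum.zeroLocus_empty_iff_eq_top.mp h2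


/-- the unit section lifts to `K · O_X` over affine opens disjoint from the support of `K` -/
theorem exists_lift_one (K : X.IdealSheafData) (W : X.affineOpens)
    (h : ∀ x ∈ W.1, x ∉ (K.support : Set X)) :
    ∃ t : Γ((Dual3.idealMul K).obj (Coh.structureModule X), W.1),
      (Dual3.idealMulι K (Coh.structureModule X)).app W.1 t = one W.1 := by
  refine (exists_idealMulι_app_eq_iff K (Coh.structureModule X) W (one W.1)).2 ?_
  rw [ideal_eq_top_of_disjoint K W h]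
  have h1 : one W.1 = (1 : Γ(X, W.1)) • one W.1 := (one_smul _ _).symm
  rw [h1]
  exact Submodule.smul_mem_smul Submodule.mem_top Submodule.mem_top

abbrev CohCat (X : Scheme.{u}) := ObjectProperty.FullSubcategory (fun M : X.Modules => Coh.IsCoh M)

/-- the structure module as an object of `Coh(X)` -/
noncomputable def Oc (X : Scheme.{u}) : CohCat X :=
  ⟨Coh.structureModule X, Groth.Agent.Lib.T2H5.GenIsoF.isCoh_structureModule⟩

/-- the global function attached to a natural endomorphism of the identity of `Coh(X)` -/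
noncomputable def rOf (φ : 𝟭 (CohCat X) ⟶ 𝟭 (CohCat X)) : Γ(X, ⊤) :=
  asRing ⊤ ((φ.app (Oc X)).hom.app ⊤ (one ⊤))

/-- the key step: on an affine open `V`, the component `φ_M` is multiplication by `r` -/
theorem app_eq_smul_of_affine [IsNoetherian X] (φ : 𝟭 (CohCat X) ⟶ 𝟭 (CohCat X)) (M : CohCat X)
    (V : X.Opens) (hV : IsAffineOpen V) (m : Γ(M.obj, V.ι ''ᵁ ⊤)) :
    (φ.app M).hom.app (V.ι ''ᵁ ⊤) m =
      X.presheaf.map (homOfLE (le_top : V.ι ''ᵁ ⊤ ≤ ⊤)).op (rOf φ) • m := by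
  classical
  haveI := M.property.1
  have hV'eq : V.ι ''ᵁ ⊤ = V := V.ι_image_top
  have hV' : IsAffineOpen (V.ι ''ᵁ ⊤) := by rw [hV'eq]; exact hV
  let Zc : Closeds X := ⟨(V : Set X)ᶜ, V.2.isClosed_compl⟩
  set I := vanishingIdeal Zc with hI
  have hU : (V : Set X) = ((I.support : Set X))ᶜ := by
    rw [hI, coe_support_vanishingIdeal]
    exact (compl_compl _).symm
  -- the morphism `O_V ⟶ M|_V` of the section `m`
  let μ₀ : Groth.Agent.Lib.Helper21.RetractFree.O (↑V : Scheme.{u}) ⟶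
      (Scheme.Modules.restrictFunctor V.ι).obj M.obj :=
    (Groth.Agent.Lib.Helper21.RetractFree.unitEquiv (↑V : Scheme.{u}) _).symm m
  have hμ₀ : μ₀.app ⊤ (1 : Γ((↑V : Scheme.{u}), ⊤)) = m :=
    (Groth.Agent.Lib.Helper21.RetractFree.unitEquiv_apply (↑V : Scheme.{u}) _ μ₀).symm.trans
      ((Groth.Agent.Lib.Helper21.RetractFree.unitEquiv (↑V : Scheme.{u})
        ((Scheme.Modules.restrictFunctor V.ι).obj M.obj)).apply_symm_apply m)
  let μ : (Scheme.Modules.restrictFunctor V.ι).obj (Coh.structureModule X) ⟶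
      (Scheme.Modules.restrictFunctor V.ι).obj M.obj :=
    (Scheme.Modules.restrictUnitIso V.ι).hom ≫ μ₀
  obtain ⟨n, ψ, hψ⟩ := Groth.Agent.Lib.T2H5.ExtendHom.exists_pow_extension M.obj (Coh.structureModule X)
    Groth.Agent.Lib.T2H5.GenIsoF.isCoh_structureModule I V hU μ
  have hdisj : ∀ x ∈ V.ι ''ᵁ ⊤, x ∉ ((I ^ n).support : Set X) := by
    intro x hx
    rw [hV'eq] at hx
    exact Groth.Agent.Lib.T2H5.Dev2.notMem_support_pow_vanishingIdeal _ _ n x (fun h => h hx)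
  obtain ⟨t, ht⟩ := exists_lift_one (I ^ n) ⟨V.ι ''ᵁ ⊤, hV'⟩ hdisj
  -- `ψ t = m`
  have hone : (Scheme.Modules.restrictUnitIso V.ι).hom.app ⊤ (one (V.ι ''ᵁ ⊤)) =
      (1 : Γ((↑V : Scheme.{u}), ⊤)) := by
    exact map_one (V.ι.appIso ⊤).hom.hom
  let t' : Γ((Scheme.Modules.restrictFunctor V.ι).obj
      ((Dual3.idealMul (I ^ n)).obj (Coh.structureModule X)), ⊤) := t
  have hψt : ψ.app (V.ι ''ᵁ ⊤) t = m := by
    have h1 := congrArg (fun f : (Scheme.Modules.restrictFunctor V.ι).obj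
      ((Dual3.idealMul (I ^ n)).obj (Coh.structureModule X)) ⟶
        (Scheme.Modules.restrictFunctor V.ι).obj M.obj => f.app ⊤ t') hψ
    have h2 : ((Scheme.Modules.restrictFunctor V.ι).map ψ).app ⊤ t' = ψ.app (V.ι ''ᵁ ⊤) t := rfl
    have h3 : ((Scheme.Modules.restrictFunctor V.ι).map
        (Dual3.idealMulι (I ^ n) (Coh.structureModule X)) ≫ μ).app ⊤ t' =
        μ₀.app ⊤ ((Scheme.Modules.restrictUnitIso V.ι).hom.app ⊤
          ((Dual3.idealMulι (I ^ n) (Coh.structureModule X)).app (V.ι ''ᵁ ⊤) t)) := rfl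
    have h4 : ψ.app (V.ι ''ᵁ ⊤) t = μ₀.app ⊤ ((Scheme.Modules.restrictUnitIso V.ι).hom.app ⊤
          ((Dual3.idealMulι (I ^ n) (Coh.structureModule X)).app (V.ι ''ᵁ ⊤) t)) :=
      h2.symm.trans (h1.trans h3)
    rw [ht, hone] at h4
    exact h4.trans hμ₀
  -- naturality
  have hJc : Coh.IsCoh ((Dual3.idealMul (I ^ n)).obj (Coh.structureModule X)) :=
    isCoh_idealMul (I ^ n) _ Groth.Agent.Lib.T2H5.GenIsoF.isCoh_structureModule
  let Jc : CohCat X := ⟨_, hJc⟩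
  let ιc : Jc ⟶ Oc X := ObjectProperty.homMk (Dual3.idealMulι (I ^ n) (Coh.structureModule X))
  let ψc : Jc ⟶ M := ObjectProperty.homMk ψ
  let φO : Coh.structureModule X ⟶ Coh.structureModule X := (φ.app (Oc X)).hom
  let φJ : (Dual3.idealMul (I ^ n)).obj (Coh.structureModule X) ⟶
      (Dual3.idealMul (I ^ n)).obj (Coh.structureModule X) := (φ.app Jc).hom
  let φM : M.obj ⟶ M.obj := (φ.app M).hom
  have n1 : Dual3.idealMulι (I ^ n) (Coh.structureModule X) ≫ φO =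
      φJ ≫ Dual3.idealMulι (I ^ n) (Coh.structureModule X) :=
    congrArg (fun f => f.hom) (φ.naturality ιc)
  have n2 : ψ ≫ φM = φJ ≫ ψ :=
    congrArg (fun f => f.hom) (φ.naturality ψc)
  let ρ : Γ(X, V.ι ''ᵁ ⊤) := X.presheaf.map (homOfLE (le_top : V.ι ''ᵁ ⊤ ≤ ⊤)).op (rOf φ)
  have e1 : (Dual3.idealMulι (I ^ n) (Coh.structureModule X)).app (V.ι ''ᵁ ⊤)
      (φJ.app (V.ι ''ᵁ ⊤) t) = φO.app (V.ι ''ᵁ ⊤) (one (V.ι ''ᵁ ⊤)) := by
    have h1 := congrArg (fun f : (Dual3.idealMul (I ^ n)).obj (Coh.structureModule X) ⟶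
      Coh.structureModule X => f.app (V.ι ''ᵁ ⊤) t) n1
    have h2 : φO.app (V.ι ''ᵁ ⊤)
        ((Dual3.idealMulι (I ^ n) (Coh.structureModule X)).app (V.ι ''ᵁ ⊤) t) =
        (Dual3.idealMulι (I ^ n) (Coh.structureModule X)).app (V.ι ''ᵁ ⊤)
          (φJ.app (V.ι ''ᵁ ⊤) t) := h1
    rw [ht] at h2
    exact h2.symm
  have e2 : φO.app (V.ι ''ᵁ ⊤) (one (V.ι ''ᵁ ⊤)) = ρ • one (V.ι ''ᵁ ⊤) := by
    rw [app_unit_eq φO (V.ι ''ᵁ ⊤) (one (V.ι ''ᵁ ⊤)), smul_one']
    exact one_smul _ _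
  have e3 : φJ.app (V.ι ''ᵁ ⊤) t = ρ • t := by
    haveI : Mono (Dual3.idealMulι (I ^ n) (Coh.structureModule X)) := Dual3.mono_idealMulι _ _
    apply Groth.Agent.Lib.Helper20.StalkExact.injective_app_of_mono
      (Dual3.idealMulι (I ^ n) (Coh.structureModule X)) (V.ι ''ᵁ ⊤)
    rw [e1, e2, Scheme.Modules.Hom.app_smul, ht]
  have e4 : φM.app (V.ι ''ᵁ ⊤) (ψ.app (V.ι ''ᵁ ⊤) t) =
      ψ.app (V.ι ''ᵁ ⊤) (φJ.app (V.ι ''ᵁ ⊤) t) :=
    congrArg (fun f : (Dual3.idealMul (I ^ n)).obj (Coh.structureModule X) ⟶ M.obj =>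
      f.app (V.ι ''ᵁ ⊤) t) n2
  rw [hψt, e3, Scheme.Modules.Hom.app_smul, hψt] at e4
  exact e4


/-- on every open, the component `φ_M` is multiplication by `r` -/
theorem app_eq_smul [IsNoetherian X] (φ : 𝟭 (CohCat X) ⟶ 𝟭 (CohCat X)) (M : CohCat X)
    (W : X.Opens) (m : Γ(M.obj, W)) :
    (φ.app M).hom.app W m = X.presheaf.map (homOfLE (le_top : W ≤ ⊤)).op (rOf φ) • m := by
  refine TopCat.Presheaf.IsSheaf.section_ext (U := op W) M.obj.isSheaf ?_
  intro x hx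
  have aux : ∀ V : X.Opens, IsAffineOpen V → x ∈ V → V ≤ W → ∃ V' : X.Opens, ∃ hV' : V' ≤ W, x ∈ V' ∧
      M.obj.presheaf.map (homOfLE hV').op ((φ.app M).hom.app W m) =
        M.obj.presheaf.map (homOfLE hV').op
          (X.presheaf.map (homOfLE (le_top : W ≤ ⊤)).op (rOf φ) • m) := by
    intro V hV hxV hVW
    have hV'eq : V.ι ''ᵁ ⊤ = V := V.ι_image_top
    have hle : V.ι ''ᵁ ⊤ ≤ W := by rw [hV'eq]; exact hVW
    refine ⟨V.ι ''ᵁ ⊤, hle, by rw [hV'eq]; exact hxV, ?_⟩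
    have h1 := app_eq_smul_of_affine φ M V hV (M.obj.presheaf.map (homOfLE hle).op m)
    have hn : M.obj.presheaf.map (homOfLE hle).op ((φ.app M).hom.app W m) =
        (φ.app M).hom.app (V.ι ''ᵁ ⊤) (M.obj.presheaf.map (homOfLE hle).op m) :=
      (congr($((φ.app M).hom.mapPresheaf.naturality (homOfLE hle).op) m)).symm
    have hr : X.presheaf.map (homOfLE hle).op
        (X.presheaf.map (homOfLE (le_top : W ≤ ⊤)).op (rOf φ)) =
        X.presheaf.map (homOfLE (le_top : V.ι ''ᵁ ⊤ ≤ ⊤)).op (rOf φ) := by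
      rw [← CommRingCat.comp_apply, ← Functor.map_comp]
      rfl
    refine hn.trans (h1.trans ?_)
    rw [Scheme.Modules.map_smul, hr]
  obtain ⟨_, ⟨V, hV, rfl⟩, hxV, hVW⟩ := X.isBasis_affineOpens.exists_subset_of_mem_open hx W.2
  exact aux V hV hxV hVW

/-- **the centre of `Coh(X)`** is the ring of global functions -/
theorem existsUnique_centre [IsNoetherian X] (φ : 𝟭 (CohCat X) ⟶ 𝟭 (CohCat X)) :
    ∃! r : Coh.Γtop X, ∀ M : CohCat X,
      (SheafOfModules.toSheaf X.ringCatSheaf).map (φ.app M).hom = Coh.smulAb M.obj r := by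
  refine ⟨rOf φ, ?_, ?_⟩
  · intro M
    ext U m
    rw [Coh.smulAb_app]
    exact app_eq_smul φ M U.unop m
  · intro r' hr'
    have h1 := congrArg (fun f : Coh.toAb (Oc X).obj ⟶ Coh.toAb (Oc X).obj =>
      f.hom.app (op ⊤) (one ⊤)) (hr' (Oc X))
    have h2 : (Coh.smulAb (Oc X).obj r').hom.app (op ⊤) (one ⊤) = r' := by
      rw [Coh.smulAb_app]
      have h3 : Coh.resTop X (op ⊤) r' = r' := by
        exact congrArg (fun g : X.ringCatSheaf.obj.obj (op ⊤) ⟶ X.ringCatSheaf.obj.obj (op ⊤) => g.hom r')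
          (X.ringCatSheaf.obj.map_id (op ⊤))
      rw [h3]
      exact smul_one' ⊤ r'
    exact (h2.symm.trans h1.symm)

end Groth.Agent.Lib.T2H2.CentreCoh
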