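import Mathlib
import Groth.Prelude.Def_Coh
import Groth.Agent.Lib.Helper16ClosedEmb
import Groth.Agent.Lib.T2H5ClosedTransfer
import Groth.Agent.Lib.T2H5GenIsoD
import Groth.Agent.Lib.T2H5Devissage

/-!
# T2H6ClosedFull: the direct image along a closed immersion is fully faithful on ALL modules (helper6)

`pushforward_full i`, `pushforward_fullyFaithful`, `isIso_counit` (the counit `i^* i_* M ⟶ M` is an isomorphism for
every `O_X`-module `M`), `isCoh_of_pushforward` (Noetherian target).
-/

set_option autoImplicit false
set_option linter.style.haveILetI false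
set_option linter.unusedSectionVars false
universe u
open CategoryTheory CategoryTheory.Limits Opposite TopologicalSpace AlgebraicGeometry

namespace Groth.Agent.Lib.T2H6.ClosedFull

open Groth.Agent.Lib.Helper16.ClosedEmb

variable {X Y : Scheme.{u}} (i : X ⟶ Y)

/-- scalar multiplication on a direct image -/
theorem pushforward_smul (M : X.Modules) (W : Y.Opens) (a : Γ(Y, W))
    (m : Γ((Scheme.Modules.pushforward i).obj M, W)) :
    a • m = (show Γ(M, i ⁻¹ᵁ W) from ((i.app W).hom a • (show Γ(M, i ⁻¹ᵁ W) from m))) := rfl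

variable [IsClosedImmersion i]

/-- the abelian-sheaf preimage of a morphism between direct images -/
noncomputable def preAb {F G : X.Modules}
    (ψ : (Scheme.Modules.pushforward i).obj F ⟶ (Scheme.Modules.pushforward i).obj G) :
    Coh.toAb F ⟶ Coh.toAb G :=
  preimage i.base i.isClosedEmbedding
    (show (CohTop.push i.base).obj (Coh.toAb F) ⟶ (CohTop.push i.base).obj (Coh.toAb G) from
      (SheafOfModules.toSheaf Y.ringCatSheaf).map ψ)

theorem preAb_app {F G : X.Modules}
    (ψ : (Scheme.Modules.pushforward i).obj F ⟶ (Scheme.Modules.pushforward i).obj G) (W : Y.Opens)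
    (m : Γ(F, i ⁻¹ᵁ W)) :
    (preAb i ψ).hom.app (op (i ⁻¹ᵁ W)) m = ψ.app W m := by
  have h := map_preimage i.base i.isClosedEmbedding
    (show (CohTop.push i.base).obj (Coh.toAb F) ⟶ (CohTop.push i.base).obj (Coh.toAb G) from
      (SheafOfModules.toSheaf Y.ringCatSheaf).map ψ)
  have h2 := congrArg (fun t => t.hom.app (op W)) h
  exact ConcreteCategory.congr_hom h2 m


theorem preAb_naturality {F G : X.Modules}
    (ψ : (Scheme.Modules.pushforward i).obj F ⟶ (Scheme.Modules.pushforward i).obj G)
    {U V : X.Opens} (f : V ⟶ U) (m : Γ(F, U)) :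
    G.presheaf.map f.op ((preAb i ψ).hom.app (op U) m) =
      (preAb i ψ).hom.app (op V) (F.presheaf.map f.op m) :=
  (ConcreteCategory.congr_hom ((preAb i ψ).hom.naturality f.op) m).symm

/-- the abelian preimage is `O_X`-linear -/
theorem preAb_smul {F G : X.Modules}
    (ψ : (Scheme.Modules.pushforward i).obj F ⟶ (Scheme.Modules.pushforward i).obj G)
    (U : X.Opens) (r : Γ(X, U)) (m : Γ(F, U)) :
    (preAb i ψ).hom.app (op U) (r • m) = r • (show Γ(G, U) from (preAb i ψ).hom.app (op U) m) := by
  refine G.isSheaf.section_ext (U := op U) (fun x hx => ?_)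
  have hx' : i.base x ∈ vObj i.base i.isClosedEmbedding U := by
    rw [mem_vObj]
    intro z hz
    have : z = x := i.isClosedEmbedding.injective hz
    rw [this]; exact hx
  obtain ⟨W, hW, hxW, hWle⟩ := Opens.isBasis_iff_nbhd.mp Y.isBasis_affineOpens hx'
  have hV : i ⁻¹ᵁ W ≤ U := by
    intro z hz
    exact (mem_vObj i.base i.isClosedEmbedding).1 (hWle hz) z rfl
  refine ⟨i ⁻¹ᵁ W, hV, hxW, ?_⟩
  obtain ⟨a, ha⟩ := Scheme.Hom.app_surjective i W hW (X.presheaf.map (homOfLE hV).op r)
  rw [preAb_naturality, Scheme.Modules.map_smul, Scheme.Modules.map_smul, preAb_naturality, ← ha]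
  have e1 : ((i.app W).hom a • F.presheaf.map (homOfLE hV).op m : Γ(F, i ⁻¹ᵁ W)) =
      (show Γ(F, i ⁻¹ᵁ W) from
        (a • (show Γ((Scheme.Modules.pushforward i).obj F, W) from F.presheaf.map (homOfLE hV).op m))) := rfl
  rw [e1, preAb_app, Scheme.Modules.Hom.app_smul, preAb_app]
  rfl


/-- the preimage of a morphism between direct images along a closed immersion -/
noncomputable def preMod {F G : X.Modules}
    (ψ : (Scheme.Modules.pushforward i).obj F ⟶ (Scheme.Modules.pushforward i).obj G) : F ⟶ G :=
  (⟨PresheafOfModules.homMk (M₁ := F.val) (M₂ := G.val) (preAb i ψ).hom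
    (fun U r m => preAb_smul i ψ U.unop r m)⟩ : SheafOfModules.Hom F G)

theorem preMod_app {F G : X.Modules}
    (ψ : (Scheme.Modules.pushforward i).obj F ⟶ (Scheme.Modules.pushforward i).obj G) (U : X.Opens)
    (m : Γ(F, U)) : (preMod i ψ).app U m = (preAb i ψ).hom.app (op U) m := rfl

theorem pushforward_map_preMod {F G : X.Modules}
    (ψ : (Scheme.Modules.pushforward i).obj F ⟶ (Scheme.Modules.pushforward i).obj G) :
    (Scheme.Modules.pushforward i).map (preMod i ψ) = ψ := by
  apply Scheme.Modules.hom_ext
  intro W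
  ext m
  rw [Scheme.Modules.pushforward_map_app]
  exact (preMod_app i ψ (i ⁻¹ᵁ W) m).trans (preAb_app i ψ W m)

/-- **the direct image along a closed immersion is full on all modules** -/
theorem pushforward_full : (Scheme.Modules.pushforward i).Full :=
  ⟨fun ψ => ⟨preMod i ψ, pushforward_map_preMod i ψ⟩⟩

/-- the direct image along a closed immersion is fully faithful -/
noncomputable def pushforwardFullyFaithful : (Scheme.Modules.pushforward i).FullyFaithful := by
  haveI := pushforward_full i
  haveI := Groth.Agent.Lib.T2H5.ClosedTransfer.pushforward_faithful i i.isClosedEmbedding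
  exact Functor.FullyFaithful.ofFullyFaithful _

/-- the counit `i^* i_* M ⟶ M` is an isomorphism for EVERY module `M` -/
theorem isIso_counit (M : X.Modules) :
    IsIso ((Scheme.Modules.pullbackPushforwardAdjunction i).counit.app M) := by
  haveI := pushforward_full i
  haveI := Groth.Agent.Lib.T2H5.ClosedTransfer.pushforward_faithful i i.isClosedEmbedding
  infer_instance

/-- `M ≅ i^* i_* M` -/
noncomputable def counitIso (M : X.Modules) :
    (Scheme.Modules.pullback i).obj ((Scheme.Modules.pushforward i).obj M) ≅ M :=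
  haveI := isIso_counit i M
  asIso ((Scheme.Modules.pullbackPushforwardAdjunction i).counit.app M)


/-- a module whose direct image along a closed immersion is coherent is coherent -/
theorem isCoh_of_pushforward (M : X.Modules)
    (h : Coh.IsCoh ((Scheme.Modules.pushforward i).obj M)) : Coh.IsCoh M :=
  Groth.Agent.Lib.T2H5.Devissage.isCoh_of_iso (counitIso i M)
    (Groth.Agent.Lib.T2H5.GenIsoD.isCoh_pullback i _ h)

end Groth.Agent.Lib.T2H6.ClosedFull
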