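import Groth.Agent.Lib.T2H2BifAssocNat
import Groth.Agent.Lib.Helper1BKF17
import Groth.Agent.Lib.Helper1LDer4

set_option backward.isDefEq.respectTransparency.types false

/-!
# Associativity of the derived tensor product on a ringed site (T2H2)

For complexes `K`, `L` of `O`-modules with `L` K-flat, `(- ⊗^L K) ⊗^L L ≅ - ⊗^L Tot(K ⊗ L)` as
functors on `D(O)`; hence `RHom(Tot(K ⊗ L), -) ≅ RHom(K, RHom(L, -))` for any right adjoints.
-/

set_option autoImplicit false
universe u
open CategoryTheory CategoryTheory.Limits HomologicalComplex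

attribute [local instance] HasDerivedCategory.standard

namespace Groth.Agent.Lib.T2H2.LTensorAssoc

open Groth.Agent.Lib.Helper1.BKF Groth.Agent.Lib.T2H2.BifAssocNat

variable {C : Type u} [SmallCategory C] {J : GrothendieckTopology C} {O : Sheaf J CommRingCat.{u}}

/-- the natural isomorphism `Tot(Tot(X ⊗ K) ⊗ L) ≅ Tot(X ⊗ Tot(K ⊗ L))` of functors in `X` -/
noncomputable def trAssoc (K L : CochainComplex (ModSite.Mod O) ℤ) :
    (ModSite.tensorCx O).flip.obj K ⋙ (ModSite.tensorCx O).flip.obj L ≅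
      (ModSite.tensorCx O).flip.obj (((ModSite.tensorCx O).obj K).obj L) :=
  NatIso.ofComponents (fun X => totAssoc X K L) (fun {X Y} f => by
    have h := mapBifunctorAssociator_hom_naturality (assocT O) f (𝟙 K) (𝟙 L)
      (ComplexShape.up ℤ) (ComplexShape.up ℤ) (ComplexShape.up ℤ)
    have e : mapBifunctorMap (𝟙 K) (𝟙 L) (ModSite.tensorBi O) (ComplexShape.up ℤ) = 𝟙 _ :=
      ((ModSite.tensorCx O).obj K).map_id L
    rw [e] at h
    exact h)

section derived

variable (K L : CochainComplex (ModSite.Mod O) ℤ)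
  [ModSite.HasLTensorCx K] [ModSite.HasLTensorCx L]

/-- quasi-isomorphisms of complexes of `O`-modules -/
abbrev W (O : Sheaf J CommRingCat.{u}) : MorphismProperty (CochainComplex (ModSite.Mod O) ℤ) :=
  HomologicalComplex.quasiIso (ModSite.Mod O) (ComplexShape.up ℤ)

/-- the counit of `- ⊗^L K` -/
noncomputable abbrev counit (K : CochainComplex (ModSite.Mod O) ℤ) [ModSite.HasLTensorCx K] :
    DerivedCategory.Q ⋙ ModSite.LTensorCx K ⟶ ModSite.tensorCxQ K :=
  (ModSite.tensorCxQ K).totalLeftDerivedCounit DerivedCategory.Q (W O)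

/-- the comparison `Q ⋙ ((- ⊗^L K) ⊗^L L) ⟶ Q(Tot(- ⊗ Tot(K ⊗ L)))` -/
noncomputable def β :
    DerivedCategory.Q ⋙ (ModSite.LTensorCx K ⋙ ModSite.LTensorCx L) ⟶
      ModSite.tensorCxQ (((ModSite.tensorCx O).obj K).obj L) :=
  (Functor.associator DerivedCategory.Q (ModSite.LTensorCx K) (ModSite.LTensorCx L)).inv ≫
    Functor.whiskerRight (counit K) (ModSite.LTensorCx L) ≫
    (Functor.associator ((ModSite.tensorCx O).flip.obj K) DerivedCategory.Q
      (ModSite.LTensorCx L)).hom ≫
    Functor.whiskerLeft ((ModSite.tensorCx O).flip.obj K) (counit L) ≫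
    (Functor.associator ((ModSite.tensorCx O).flip.obj K) ((ModSite.tensorCx O).flip.obj L)
      DerivedCategory.Q).inv ≫
    Functor.whiskerRight (trAssoc K L).hom DerivedCategory.Q

lemma β_app (X : CochainComplex (ModSite.Mod O) ℤ) :
    (β K L).app X = (ModSite.LTensorCx L).map ((counit K).app X) ≫
      (counit L).app ((((ModSite.tensorCx O).flip.obj K)).obj X) ≫
        DerivedCategory.Q.map ((trAssoc K L).hom.app X) := by
  simp [β]

variable {K L}

include K in
lemma isIso_β_app (hL : ModSite.IsKFlat L) (X : CochainComplex (ModSite.Mod O) ℤ)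
    (hX : ModSite.IsKFlat X) : IsIso ((β K L).app X) := by
  have : IsIso ((counit K).app X) := isIso_counit_of_isKFlat K _ (counit K) X hX
  have : IsIso (counit L) :=
    Functor.isIso_of_isLeftDerivedFunctor_of_inverts _ (counit L)
      (inverts_tensorCxQ_of_isKFlat L hL)
  rw [β_app]
  infer_instance

variable (K L) in
/-- `(- ⊗^L K) ⊗^L L` is a left derived functor of `Q(Tot(- ⊗ Tot(K ⊗ L)))` when `L` is K-flat -/
lemma isLeftDerivedFunctor_comp (hL : ModSite.IsKFlat L)
    [ModSite.HasLTensorCx (((ModSite.tensorCx O).obj K).obj L)] :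
    (ModSite.LTensorCx K ⋙ ModSite.LTensorCx L).IsLeftDerivedFunctor (β K L) (W O) := by
  obtain ⟨R, ψ, hR⟩ := exists_functorial_kflat_flat_resolution O
  exact Groth.Agent.Lib.Helper1.LDerRes.isLeftDerivedFunctor_of_isIso_good DerivedCategory.Q (W O)
    (ModSite.tensorCxQ (((ModSite.tensorCx O).obj K).obj L)) R ψ
    (fun X => (hR X).2.2.1) (fun X => ModSite.IsKFlat X) (fun X => (hR X).1)
    (fun X Y f hf hX hY => by
      have : QuasiIso f := (HomologicalComplex.mem_quasiIso_iff f).1 hf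
      have := quasiIso_TR_map_of_isKFlat_of_isKFlat X Y hX hY f
        (((ModSite.tensorCx O).obj K).obj L)
      exact inferInstanceAs (IsIso (DerivedCategory.Q.map
        ((TR (ModSite.tensorBi O) (((ModSite.tensorCx O).obj K).obj L)).map f))))
    _ (β K L) (fun X hX => isIso_β_app hL X hX)

variable (K L) in
/-- `- ⊗^L Tot(K ⊗ L) ≅ (- ⊗^L K) ⊗^L L` for `L` K-flat -/
noncomputable def lTensorCxCompIso (hL : ModSite.IsKFlat L)
    [ModSite.HasLTensorCx (((ModSite.tensorCx O).obj K).obj L)] :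
    ModSite.LTensorCx (((ModSite.tensorCx O).obj K).obj L) ≅
      ModSite.LTensorCx K ⋙ ModSite.LTensorCx L :=
  haveI := isLeftDerivedFunctor_comp K L hL
  Functor.leftDerivedUnique (LF := ModSite.LTensorCx (((ModSite.tensorCx O).obj K).obj L))
    (LF' := ModSite.LTensorCx K ⋙ ModSite.LTensorCx L)
    (α := counit (((ModSite.tensorCx O).obj K).obj L)) (α'₂ := β K L) (W O)

/-- any right adjoints satisfy `RHom(Tot(K ⊗ L), -) ≅ RHom(K, RHom(L, -))` for `L` K-flat -/
theorem nonempty_rightAdjoint_iso (hL : ModSite.IsKFlat L)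
    [ModSite.HasLTensorCx (((ModSite.tensorCx O).obj K).obj L)]
    {RK RL RKL : DCoh.DMod (ModSite.ringSh O) ⥤ DCoh.DMod (ModSite.ringSh O)}
    (adjK : ModSite.LTensorCx K ⊣ RK) (adjL : ModSite.LTensorCx L ⊣ RL)
    (adjKL : ModSite.LTensorCx (((ModSite.tensorCx O).obj K).obj L) ⊣ RKL) :
    Nonempty (RKL ≅ RL ⋙ RK) :=
  ⟨Adjunction.rightAdjointUniq adjKL
    ((adjK.comp adjL).ofNatIsoLeft (lTensorCxCompIso K L hL).symm)⟩

end derived

end Groth.Agent.Lib.T2H2.LTensorAssoc
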