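import Groth.Agent.Lib.T2H2ClosedProjD
import Groth.Agent.Lib.T2H2LTensorAssoc
import Groth.Agent.Lib.T2H2LpullAdjB
import Groth.Agent.S0960

set_option backward.isDefEq.respectTransparency.types false

/-!
# The derived projection formula for a closed immersion and a K-flat complex
(T2H2, closed immersion projection formula, part E)
-/

set_option autoImplicit false
set_option linter.style.haveILetI false
universe u
open CategoryTheory CategoryTheory.Limits AlgebraicGeometry HomologicalComplex

attribute [local instance] HasDerivedCategory.standard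

namespace Groth.Agent.Lib.T2H2.ClosedProj

open Groth.Agent.Lib.Helper1.Sky Groth.Agent.Lib.Helper1.PT Groth.Agent.Lib.Helper1.BKF
  Groth.Agent.Lib.T2H2.LpullAdj

section site

variable {C : Type u} [SmallCategory C] {J : GrothendieckTopology C} {O : Sheaf J CommRingCat.{u}}

/-- `K ⊗^L P ≅ Tot(K ⊗ P)` in `D(O)` for `P` K-flat and `K` arbitrary -/
noncomputable def lTensorCxIsoOfIsKFlatRight (P : CochainComplex (ModSite.Mod O) ℤ)
    (hP : ModSite.IsKFlat P) [ModSite.HasLTensorCx P] (K : CochainComplex (ModSite.Mod O) ℤ) :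
    (ModSite.LTensorCx P).obj (DerivedCategory.Q.obj K) ≅
      DerivedCategory.Q.obj (((ModSite.tensorCx O).obj K).obj P) :=
  haveI : IsIso (Groth.Agent.Lib.T2H2.LTensorAssoc.counit P) :=
    Functor.isIso_of_isLeftDerivedFunctor_of_inverts _ (Groth.Agent.Lib.T2H2.LTensorAssoc.counit P)
      (inverts_tensorCxQ_of_isKFlat P hP)
  asIso ((Groth.Agent.Lib.T2H2.LTensorAssoc.counit P).app K)

end site

variable {X Y : Scheme.{u}} (f : X ⟶ Y) [IsClosedImmersion f]

instance preservesFiniteColimits_psh : PreservesFiniteColimits (psh f) := by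
  haveI : PreservesColimitsOfSize.{u, u} (psh f) :=
    ⟨fun {K} _ => Groth.Agent.Lib.T2H4.ClosedAdj.preservesColimitsOfShape_pushforward f K⟩
  exact PreservesColimitsOfSize.preservesFiniteColimits.{u, u} _

instance preservesFiniteLimits_psh : PreservesFiniteLimits (psh f) := by
  haveI : PreservesLimitsOfSize.{0, 0} (psh f) := (ppAdj f).rightAdjoint_preservesLimits
  exact PreservesLimitsOfSize.preservesFiniteLimits.{0, 0} _

lemma inverts_pushCxQ :
    (HomologicalComplex.quasiIso X.Modules (ComplexShape.up ℤ)).IsInvertedBy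
      ((psh f).mapHomologicalComplex (ComplexShape.up ℤ) ⋙
        (DerivedCategory.Q : CochainComplex Y.Modules ℤ ⥤ _)) := fun K L q hq => by
  rw [HomologicalComplex.mem_quasiIso_iff] at hq
  haveI := hq
  dsimp only [Functor.comp_map]
  rw [DerivedCategory.isIso_Q_map_iff_quasiIso]
  infer_instance

variable [DCoh.HasRpush f]

/-- `Rf_* Q(K) ≅ Q(f_* K)` for a closed immersion `f` -/
noncomputable def rpushIsoOfClosed (K : CochainComplex X.Modules ℤ) :
    (DCoh.Rpush f).obj (DerivedCategory.Q.obj K) ≅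
      DerivedCategory.Q.obj (((psh f).mapHomologicalComplex (ComplexShape.up ℤ)).obj K) :=
  haveI : IsIso (rpushβ f) :=
    Functor.isIso_of_isRightDerivedFunctor_of_inverts _ (rpushβ f) (inverts_pushCxQ f)
  (asIso ((rpushβ f).app K)).symm

/-- the derived projection formula for a closed immersion `f` and a K-flat complex `P` -/
theorem nonempty_projFormula (P : CochainComplex Y.Modules ℤ) (hP : DCoh.IsKFlat P)
    [DCoh.HasLTensorCx P] [DCoh.HasLTensorCx ((pullC f).obj P)] (E : DCoh.D X) :
    Nonempty ((DCoh.LTensorCx P).obj ((DCoh.Rpush f).obj E) ≅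
      (DCoh.Rpush f).obj ((DCoh.LTensorCx ((pullC f).obj P)).obj E)) := by
  let E₀ := (DerivedCategory.Q (C := X.Modules)).objPreimage E
  have e0 : DerivedCategory.Q.obj E₀ ≅ E := (DerivedCategory.Q (C := X.Modules)).objObjPreimageIso E
  have hfP : DCoh.IsKFlat ((pullC f).obj P) := Groth.Agent.S0960.isKFlat_pullC f P hP
  haveI hI1 : ModSite.HasLTensorCx (O := Y.sheaf) P := (inferInstance : DCoh.HasLTensorCx P)
  haveI hI2 : ModSite.HasLTensorCx (O := X.sheaf) ((pullC f).obj P) :=
    (inferInstance : DCoh.HasLTensorCx ((pullC f).obj P))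
  -- left hand side
  have l1 : (DCoh.LTensorCx P).obj ((DCoh.Rpush f).obj (DerivedCategory.Q.obj E₀)) ≅
      (DCoh.LTensorCx P).obj (DerivedCategory.Q.obj
        (((psh f).mapHomologicalComplex (ComplexShape.up ℤ)).obj E₀)) :=
    (DCoh.LTensorCx P).mapIso (rpushIsoOfClosed f E₀)
  have l2 : (DCoh.LTensorCx P).obj (DerivedCategory.Q.obj
        (((psh f).mapHomologicalComplex (ComplexShape.up ℤ)).obj E₀)) ≅
      DerivedCategory.Q.obj ((DCoh.tensorCx.obj
        (((psh f).mapHomologicalComplex (ComplexShape.up ℤ)).obj E₀)).obj P) :=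
    lTensorCxIsoOfIsKFlatRight (O := Y.sheaf) P hP _
  -- right hand side
  have r1 : (DCoh.LTensorCx ((pullC f).obj P)).obj (DerivedCategory.Q.obj E₀) ≅
      DerivedCategory.Q.obj ((DCoh.tensorCx.obj E₀).obj ((pullC f).obj P)) :=
    lTensorCxIsoOfIsKFlatRight (O := X.sheaf) ((pullC f).obj P) hfP E₀
  have r2 := rpushIsoOfClosed f ((DCoh.tensorCx.obj E₀).obj ((pullC f).obj P))
  obtain ⟨c⟩ := nonempty_pushTotIso f E₀ P
  have c' : DerivedCategory.Q.obj (((psh f).mapHomologicalComplex (ComplexShape.up ℤ)).obj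
      ((DCoh.tensorCx.obj E₀).obj ((pullC f).obj P))) ≅
      DerivedCategory.Q.obj ((DCoh.tensorCx.obj
        (((psh f).mapHomologicalComplex (ComplexShape.up ℤ)).obj E₀)).obj P) :=
    DerivedCategory.Q.mapIso c
  exact ⟨(DCoh.LTensorCx P).mapIso ((DCoh.Rpush f).mapIso e0.symm) ≪≫ l1 ≪≫ l2 ≪≫ c'.symm ≪≫
    r2.symm ≪≫ (DCoh.Rpush f).mapIso (r1.symm ≪≫
      (DCoh.LTensorCx ((pullC f).obj P)).mapIso e0)⟩

end Groth.Agent.Lib.T2H2.ClosedProj
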