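import Mathlib

/-!
# A recognition criterion for localization functors (helper2)

Namespace `Groth.Agent.Lib.T2H2.LocFrac`.

If `L : C ⥤ D` is essentially surjective, every morphism `L A ⟶ L B` is a right fraction
`(L s)⁻¹ ≫ L f` with `L s` invertible, and two morphisms identified by `L` are equalized by
precomposition with a morphism inverted by `L`, then `L` is a localization functor for the class of
morphisms it inverts.
-/

set_option autoImplicit false
set_option linter.style.haveILetI false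
open CategoryTheory

namespace Groth.Agent.Lib.T2H2.LocFrac

universe v₁ v₂ u₁ u₂
variable {C : Type u₁} [Category.{v₁} C] {D : Type u₂} [Category.{v₂} D] (L : C ⥤ D)

/-- the class of morphisms inverted by `L` -/
abbrev WL : MorphismProperty C := (MorphismProperty.isomorphisms D).inverseImage L

theorem wl_iff {A B : C} (f : A ⟶ B) : WL L f ↔ IsIso (L.map f) := Iff.rfl

theorem hasRightCalculusOfFractions
    (hfull : ∀ (A B : C) (g : L.obj A ⟶ L.obj B), ∃ (A' : C) (s : A' ⟶ A) (f : A' ⟶ B),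
      IsIso (L.map s) ∧ L.map s ≫ g = L.map f)
    (hfaith : ∀ (A B : C) (f g : A ⟶ B), L.map f = L.map g →
      ∃ (A' : C) (s : A' ⟶ A), IsIso (L.map s) ∧ s ≫ f = s ≫ g) :
    (WL L).HasRightCalculusOfFractions where
  exists_rightFraction X Y φ := by
    haveI hs : IsIso (L.map φ.s) := φ.hs
    obtain ⟨A', t, g, ht, hg⟩ := hfull X Y (L.map φ.f ≫ inv (L.map φ.s))
    have h1 : L.map (t ≫ φ.f) = L.map (g ≫ φ.s) := by
      rw [L.map_comp, L.map_comp, ← hg]
      simp
    obtain ⟨A'', u, hu, hu'⟩ := hfaith _ _ _ _ h1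
    refine ⟨⟨u ≫ t, ?_, u ≫ g⟩, ?_⟩
    · change IsIso (L.map (u ≫ t))
      rw [L.map_comp]
      infer_instance
    · simpa using hu'
  ext X Y Y' f₁ f₂ s hs h := by
    haveI hs' : IsIso (L.map s) := hs
    have h1 : L.map f₁ = L.map f₂ := by
      rw [← cancel_mono (L.map s), ← L.map_comp, ← L.map_comp, h]
    obtain ⟨A', t, ht, h'⟩ := hfaith _ _ _ _ h1
    exact ⟨A', t, ht, h'⟩

theorem isLocalization [L.EssSurj]
    (hfull : ∀ (A B : C) (g : L.obj A ⟶ L.obj B), ∃ (A' : C) (s : A' ⟶ A) (f : A' ⟶ B),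
      IsIso (L.map s) ∧ L.map s ≫ g = L.map f)
    (hfaith : ∀ (A B : C) (f g : A ⟶ B), L.map f = L.map g →
      ∃ (A' : C) (s : A' ⟶ A), IsIso (L.map s) ∧ s ≫ f = s ≫ g) :
    L.IsLocalization (WL L) := by
  haveI := hasRightCalculusOfFractions L hfull hfaith
  have hL : (WL L).IsInvertedBy L := fun _ _ f hf => hf
  let Q := (WL L).Q
  have hQ : (WL L).IsInvertedBy Q := Localization.inverts Q (WL L)
  let G : (WL L).Localization ⥤ D := Localization.lift L hL Q
  let e : Q ⋙ G ≅ L := Localization.fac L hL Q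
  have hnat : ∀ {A B : C} (f : A ⟶ B), G.map (Q.map f) = e.hom.app A ≫ L.map f ≫ e.inv.app B := by
    intro A B f
    have := e.hom.naturality f
    rw [← Category.assoc, ← this]
    simp
  -- compatibility of `G` with right fractions
  have hfrac : ∀ {A B : C} (φ : (WL L).RightFraction A B),
      G.map (φ.map Q hQ) = e.hom.app A ≫ φ.map L hL ≫ e.inv.app B := by
    intro A B φ
    haveI : IsIso (Q.map φ.s) := hQ _ φ.hs
    haveI : IsIso (G.map (Q.map φ.s)) := inferInstance
    rw [← cancel_epi (G.map (Q.map φ.s)), ← G.map_comp, MorphismProperty.RightFraction.map_s_comp_map,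
      hnat, hnat]
    simp only [Category.assoc, Iso.inv_hom_id_app_assoc, MorphismProperty.RightFraction.map_s_comp_map_assoc]
  have key_inj : ∀ (A B : C) (a b : Q.obj A ⟶ Q.obj B), G.map a = G.map b → a = b := by
    intro A B a b hab
    obtain ⟨φ, rfl⟩ := Localization.exists_rightFraction Q (WL L) a
    obtain ⟨ψ, rfl⟩ := Localization.exists_rightFraction Q (WL L) b
    rw [MorphismProperty.RightFraction.map_eq_iff]
    have h1 : φ.map L hL = ψ.map L hL := by
      have h2 := hab
      rw [hfrac, hfrac] at h2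
      simpa using h2
    obtain ⟨ρ, hρ⟩ := MorphismProperty.HasRightCalculusOfFractions.exists_rightFraction
      (W := WL L) (MorphismProperty.LeftFraction.mk φ.s ψ.s ψ.hs)
    dsimp at hρ
    have h3 : L.map (ρ.s ≫ φ.f) = L.map (ρ.f ≫ ψ.f) := by
      have e1 : L.map (ρ.s ≫ φ.f) = L.map (ρ.s ≫ φ.s) ≫ φ.map L hL := by
        rw [L.map_comp, L.map_comp, Category.assoc, MorphismProperty.RightFraction.map_s_comp_map]
      have e2 : L.map (ρ.f ≫ ψ.f) = L.map (ρ.f ≫ ψ.s) ≫ ψ.map L hL := by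
        rw [L.map_comp, L.map_comp, Category.assoc, MorphismProperty.RightFraction.map_s_comp_map]
      rw [e1, e2, hρ, h1]
    obtain ⟨Z, u, hu, hu'⟩ := hfaith _ _ _ _ h3
    refine ⟨Z, u ≫ ρ.s, u ≫ ρ.f, ?_, ?_, ?_⟩
    · rw [Category.assoc, Category.assoc, hρ]
    · rw [Category.assoc, Category.assoc, hu']
    · change IsIso (L.map ((u ≫ ρ.s) ≫ φ.s))
      haveI : IsIso (L.map ρ.s) := ρ.hs
      haveI : IsIso (L.map φ.s) := φ.hs
      rw [L.map_comp, L.map_comp]
      infer_instance
  have key_surj : ∀ (A B : C) (h : G.obj (Q.obj A) ⟶ G.obj (Q.obj B)),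
      ∃ a : Q.obj A ⟶ Q.obj B, G.map a = h := by
    intro A B h
    obtain ⟨A', s, f, hs, hf⟩ := hfull A B (e.inv.app A ≫ h ≫ e.hom.app B)
    let φ : (WL L).RightFraction A B := ⟨s, hs, f⟩
    refine ⟨φ.map Q hQ, ?_⟩
    rw [hfrac]
    have h4 : φ.map L hL = e.inv.app A ≫ h ≫ e.hom.app B := by
      haveI : IsIso (L.map φ.s) := hs
      rw [← cancel_epi (L.map φ.s), MorphismProperty.RightFraction.map_s_comp_map]
      exact hf.symm
    rw [h4]
    simp
  haveI : Q.EssSurj := Localization.essSurj Q (WL L)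
  haveI : G.Faithful := ⟨fun {X Y} a b hab => by
    let iX := Q.objObjPreimageIso X
    let iY := Q.objObjPreimageIso Y
    have h5 : iX.hom ≫ a ≫ iY.inv = iX.hom ≫ b ≫ iY.inv := by
      apply key_inj
      simp only [G.map_comp, hab]
    simpa using h5⟩
  haveI : G.Full := ⟨fun {X Y} g => by
    let iX := Q.objObjPreimageIso X
    let iY := Q.objObjPreimageIso Y
    obtain ⟨a, ha⟩ := key_surj _ _ (G.map iX.hom ≫ g ≫ G.map iY.inv)
    refine ⟨iX.inv ≫ a ≫ iY.hom, ?_⟩
    rw [G.map_comp, G.map_comp, ha]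
    simp [← G.map_comp_assoc, ← G.map_comp]⟩
  haveI : G.EssSurj := ⟨fun d => ⟨Q.obj (L.objPreimage d), ⟨e.app _ ≪≫ L.objObjPreimageIso d⟩⟩⟩
  haveI : G.IsEquivalence := { }
  exact Functor.IsLocalization.of_equivalence_target Q (WL L) L G.asEquivalence e

end Groth.Agent.Lib.T2H2.LocFrac
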