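import Mathlib
import Groth.Agent.Lib.T2H5Dev2
import Groth.Agent.Lib.Helper23QCohExtend
import Groth.Agent.Lib.Helper23FinTypeLocal
import Groth.Agent.Lib.T2H2LocFrac

/-!
# Restriction of coherent modules to an open subscheme is a localization (helper2)

Namespace `Groth.Agent.Lib.T2H2.CohLoc`.
-/

set_option autoImplicit false
set_option linter.style.haveILetI false
set_option linter.unusedSectionVars false
universe u
open CategoryTheory CategoryTheory.Limits AlgebraicGeometry Opposite TopologicalSpace

namespace Groth.Agent.Lib.T2H2.CohLoc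

open Groth.Agent.Lib.T2H5.GenIsoA Groth.Agent.Lib.T2H5.GenIsoB Groth.Agent.Lib.T2H5.GenIsoF
open Groth.Agent.Lib.T2H5.SubSec Groth.Agent.Lib.T2H5.ExtendHom Groth.Agent.Lib.T2H5.Dev2
open Groth.Agent.Lib.Helper23.ModLocal Groth.Agent.Lib.Helper23.QCohLocal Groth.Agent.Lib.Helper23.FinType
open Groth.Agent.Lib.Helper23.Extend Groth.Agent.Lib.Helper2.ModExact

attribute [local instance] restrictFunctor_isRightAdjoint

variable {X : Scheme.{u}}

/-- restriction to `U` kills modules supported off `U`. -/
theorem isZero_restrict_of_support (U : X.Opens) (K : X.Modules)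
    (h : CohB1.support K ⊆ (↑U : Set X)ᶜ) :
    IsZero ((Scheme.Modules.restrictFunctor U.ι).obj K) := by
  refine isZero_of_forall_eq_zero fun V s => ?_
  refine section_eq_zero_of_support (M := K) (U.ι ''ᵁ V) (fun x hx hxs => ?_) s
  have hxU : x ∈ U := by
    have h1 := Scheme.Hom.image_le_opensRange U.ι V hx
    rwa [Scheme.Opens.opensRange_ι] at h1
  exact h hxs hxU

/-- a morphism restricts to an isomorphism over `U` iff its kernel and cokernel are supported off `U`. -/
theorem isIso_restrict_iff_support (U : X.Opens) {A B : X.Modules} (f : A ⟶ B) :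
    IsIso ((Scheme.Modules.restrictFunctor U.ι).map f) ↔
      CohB1.support (kernel f) ⊆ (↑U : Set X)ᶜ ∧ CohB1.support (cokernel f) ⊆ (↑U : Set X)ᶜ := by
  let Rj := Scheme.Modules.restrictFunctor U.ι
  constructor
  · intro h
    have h1 : IsoOn f U := by
      have := (isIso_restrict_iff U.ι f).1 h
      rwa [Scheme.Opens.opensRange_ι] at this
    exact ⟨fun y hy hyU => notMem_support_kernel_of_isoOn f U h1 y hyU hy,
      fun y hy hyU => notMem_support_cokernel_of_isoOn f U h1 y hyU hy⟩
  · rintro ⟨hk, hc⟩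
    have h1 : IsZero (kernel (Rj.map f)) :=
      (isZero_restrict_of_support U _ hk).of_iso (PreservesKernel.iso Rj f).symm
    have h2 : IsZero (cokernel (Rj.map f)) :=
      (isZero_restrict_of_support U _ hc).of_iso (PreservesCokernel.iso Rj f).symm
    haveI : Mono (Rj.map f) := Preadditive.mono_of_isZero_kernel _ h1
    haveI : Epi (Rj.map f) := Preadditive.epi_of_isZero_cokernel _ h2
    exact isIso_of_mono_of_epi _

/-- **Extension of coherent modules** from an open subscheme of a Noetherian scheme. -/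
theorem exists_coh_extension [IsNoetherian X] (U : X.Opens) (N : (↑U : Scheme.{u}).Modules)
    (hN : Coh.IsCoh N) :
    ∃ M : X.Modules, Coh.IsCoh M ∧ Nonempty ((Scheme.Modules.restrictFunctor U.ι).obj M ≅ N) := by
  haveI : N.IsQuasicoherent := hN.1
  haveI : (Coh.structureModule X).IsQuasicoherent := (isCoh_structureModule (Z := X)).1
  obtain ⟨H, ψ, e, hH, -⟩ := exists_extension U.ι (Coh.structureModule X) N 0
  haveI : H.IsQuasicoherent := hH
  haveI : SheafOfModules.IsFiniteType (R := (↑U : Scheme.{u}).ringCatSheaf) N := hN.2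
  haveI : SheafOfModules.IsFiniteType (R := (↑U : Scheme.{u}).ringCatSheaf) (H.restrict U.ι) :=
    isFiniteType_of_iso e.symm
  have hft : FTOn H U := by
    have := ftOn_of_isFiniteType_restrict U.ι H
    rwa [Scheme.Opens.opensRange_ι] at this
  obtain ⟨F, κ, -, hFq, hFft, hκ⟩ := exists_sub_isFiniteType H U (NoetherianSpace.isCompact _) hft
  haveI : IsIso ((Scheme.Modules.restrictFunctor U.ι).map κ) :=
    (isIso_restrict_iff U.ι κ).2 (by rw [Scheme.Opens.opensRange_ι]; exact hκ)
  exact ⟨F, ⟨hFq, hFft⟩, ⟨asIso ((Scheme.Modules.restrictFunctor U.ι).map κ) ≪≫ e⟩⟩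

/-- **Fractions**: a morphism between restrictions of coherent modules is a right fraction of morphisms of
coherent modules. -/
theorem exists_fraction [IsNoetherian X] (U : X.Opens) (A B : X.Modules) (hA : Coh.IsCoh A)
    (hB : Coh.IsCoh B)
    (g : (Scheme.Modules.restrictFunctor U.ι).obj A ⟶ (Scheme.Modules.restrictFunctor U.ι).obj B) :
    ∃ (H : X.Modules) (p : H ⟶ A) (q : H ⟶ B), Coh.IsCoh H ∧
      IsIso ((Scheme.Modules.restrictFunctor U.ι).map p) ∧
      (Scheme.Modules.restrictFunctor U.ι).map p ≫ g = (Scheme.Modules.restrictFunctor U.ι).map q := by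
  haveI : B.IsQuasicoherent := hB.1
  obtain ⟨H, p, q, hH, hp, hq⟩ := exists_coh_graph_hom U A B hA g
  refine ⟨H, p, q, hH, ?_, hq.symm⟩
  exact (isIso_restrict_iff U.ι p).2 (by rw [Scheme.Opens.opensRange_ι]; exact hp)

/-- **Equalizing**: two morphisms of coherent modules which agree over `U` are equalized by a morphism
of coherent modules which is an isomorphism over `U`. -/
theorem exists_equalizing [IsNoetherian X] (U : X.Opens) (A B : X.Modules) (hA : Coh.IsCoh A)
    (hB : Coh.IsCoh B) (f g : A ⟶ B)
    (h : (Scheme.Modules.restrictFunctor U.ι).map f = (Scheme.Modules.restrictFunctor U.ι).map g) :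
    ∃ (K : X.Modules) (s : K ⟶ A), Coh.IsCoh K ∧
      IsIso ((Scheme.Modules.restrictFunctor U.ι).map s) ∧ s ≫ f = s ≫ g := by
  let Rj := Scheme.Modules.restrictFunctor U.ι
  refine ⟨kernel (f - g), kernel.ι (f - g), isCoh_kernel _ hA hB, ?_, ?_⟩
  · have h0 : Rj.map (f - g) = 0 := by
      rw [Functor.map_sub, h, sub_self]
    have h1 : ∀ (m : Rj.obj A ⟶ Rj.obj B), m = 0 → IsIso (kernel.ι m) := by
      intro m hm
      subst hm
      infer_instance
    haveI : IsIso (kernel.ι (Rj.map (f - g))) := h1 _ h0
    have h2 : Rj.map (kernel.ι (f - g)) =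
        (PreservesKernel.iso Rj (f - g)).hom ≫ kernel.ι (Rj.map (f - g)) := by
      rw [PreservesKernel.iso_hom, kernelComparison_comp_ι]
    change IsIso (Rj.map (kernel.ι (f - g)))
    rw [h2]
    infer_instance
  · have := kernel.condition (f - g)
    rwa [Preadditive.comp_sub, sub_eq_zero] at this

end Groth.Agent.Lib.T2H2.CohLoc
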