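import Mathlib

/-!
# Primes of coheight one in Noetherian local rings and one-dimensional closed subschemes

* `prime_eq_bot_or_maximal`, `exists_coheight_one`: in a Noetherian local ring, a nonempty open
  subset of the punctured spectrum contains a prime `q` with `V(q) = {q, m}` (Krull's principal
  ideal theorem and prime avoidance).
* `isOpen_singleton_of_locallyOfFiniteType_field`: in a scheme locally of finite type over a field
  a closed point without proper generizations is isolated.
* `exists_generization`, `main`: on a scheme locally of finite type over a locally Noetherian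
  base, a closed subscheme through `x`, quasi-finite at `x` over the base, with generic point in
  a prescribed open set and outside the fibre.
* `exists_le_of_mem_closure`, `exists_specializes_of_mem_closure`: points of the closure of an
  open subset of a locally Noetherian scheme are specializations of points of the open subset.
-/

universe u

namespace Groth.Agent.Lib.T2H2.CoheightOne

open IsLocalRing AlgebraicGeometry CategoryTheory

/-- In a Noetherian local domain in which every nonzero prime contains a fixed nonzero element,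
every prime is zero or maximal. -/
theorem prime_eq_bot_or_maximal {C : Type*} [CommRing C] [IsDomain C] [IsNoetherianRing C]
    [IsLocalRing C] (b : C) (hb : b ≠ 0)
    (h : ∀ P : Ideal C, P.IsPrime → P ≠ ⊥ → b ∈ P) (P : Ideal C) [hP : P.IsPrime] :
    P = ⊥ ∨ P = maximalIdeal C := by
  by_contra hcon
  push Not at hcon
  obtain ⟨hP0, hPm⟩ := hcon
  have hPlt : P < maximalIdeal C := lt_of_le_of_ne (le_maximalIdeal hP.ne_top) hPm
  have hbm : b ∈ maximalIdeal C := hPlt.le (h P hP hP0)
  -- the maximal ideal is covered by the minimal primes over `(b)`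
  have hfin : ((Ideal.span {b}).minimalPrimes).Finite :=
    Ideal.finite_minimalPrimes_of_isNoetherianRing C _
  have hcov : ((maximalIdeal C : Ideal C) : Set C) ⊆
      ⋃ i ∈ ((hfin.toFinset : Finset (Ideal C)) : Set (Ideal C)), (i : Set C) := by
    intro x hx
    have hbne : (Ideal.span {b} : Ideal C) ≠ ⊤ := by
      intro htop
      rw [Ideal.span_singleton_eq_top] at htop
      exact (mem_maximalIdeal b).mp hbm htop
    by_cases hx0 : x = 0
    · obtain ⟨p, hp⟩ := Ideal.nonempty_minimalPrimes hbne
      simp only [Set.mem_iUnion]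
      exact ⟨p, by simpa using hp, by rw [hx0]; exact p.zero_mem⟩
    · have hxne : (Ideal.span {x} : Ideal C) ≠ ⊤ := by
        intro htop
        rw [Ideal.span_singleton_eq_top] at htop
        exact (mem_maximalIdeal x).mp hx htop
      obtain ⟨p, hp⟩ := Ideal.nonempty_minimalPrimes hxne
      have hpp : p.IsPrime := hp.1.1
      have hxp : x ∈ p := hp.1.2 (Ideal.mem_span_singleton_self x)
      have hp0 : p ≠ ⊥ := fun h0 => hx0 (by rw [h0] at hxp; exact hxp)
      have hht : p.height ≤ 1 :=
        Ideal.height_le_one_of_isPrincipal_of_mem_minimalPrimes (Ideal.span {x}) p hp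
      have hbp : b ∈ p := h p hpp hp0
      obtain ⟨p', hp', hp'le⟩ := Ideal.exists_minimalPrimes_le (I := Ideal.span {b}) (J := p)
        ((Ideal.span_singleton_le_iff_mem _).mpr hbp)
      have hp'p : p'.IsPrime := hp'.1.1
      have hp'0 : p' ≠ ⊥ := fun h0 =>
        hb (by have := hp'.1.2 (Ideal.mem_span_singleton_self b); rw [h0] at this; exact this)
      have heq : p' = p := by
        by_contra hne
        have hlt : p' < p := lt_of_le_of_ne hp'le hne
        have h1 : (⊥ : Ideal C) < p' := bot_lt_iff_ne_bot.mpr hp'0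
        have := Ideal.height_add_one_le_of_lt_of_isPrime hlt
        have h2 := Ideal.height_add_one_le_of_lt_of_isPrime h1
        have h3 : (2 : ℕ∞) ≤ p.height := by
          calc (2 : ℕ∞) = 0 + 1 + 1 := by norm_num
            _ ≤ (⊥ : Ideal C).height + 1 + 1 := by gcongr; exact zero_le
            _ ≤ p'.height + 1 := by gcongr
            _ ≤ p.height := this
        exact absurd (h3.trans hht) (by norm_num)
      simp only [Set.mem_iUnion]
      exact ⟨p', by simpa using hp', by rw [heq]; exact hxp⟩
  rw [Ideal.subset_union_prime (maximalIdeal C) (maximalIdeal C)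
    (fun i hi _ _ => by
      have : i ∈ (Ideal.span {b}).minimalPrimes := by simpa using hi
      exact this.1.1)] at hcov
  obtain ⟨p, hp, hmp⟩ := hcov
  have hpm : p ∈ (Ideal.span {b}).minimalPrimes := by simpa using hp
  have hpp : p.IsPrime := hpm.1.1
  have hht : p.height ≤ 1 :=
    Ideal.height_le_one_of_isPrincipal_of_mem_minimalPrimes (Ideal.span {b}) p hpm
  have hPltp : P < p := lt_of_lt_of_le hPlt hmp
  have h1 : (⊥ : Ideal C) < P := bot_lt_iff_ne_bot.mpr hP0
  have := Ideal.height_add_one_le_of_lt_of_isPrime hPltp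
  have h2 := Ideal.height_add_one_le_of_lt_of_isPrime h1
  have h3 : (2 : ℕ∞) ≤ p.height := by
    calc (2 : ℕ∞) = 0 + 1 + 1 := by norm_num
      _ ≤ (⊥ : Ideal C).height + 1 + 1 := by gcongr; exact zero_le
      _ ≤ P.height + 1 := by gcongr
      _ ≤ p.height := this
  exact absurd (h3.trans hht) (by norm_num)

/-- In a Noetherian local ring, a nonempty open subset of the spectrum not containing the closed
point contains a prime `q` such that the only primes containing `q` are `q` and the maximal
ideal. -/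
theorem exists_coheight_one {B : Type*} [CommRing B] [IsNoetherianRing B] [IsLocalRing B]
    (W : Set (PrimeSpectrum B)) (hW : IsOpen W) (hne : W.Nonempty) (hm : closedPoint B ∉ W) :
    ∃ q ∈ W, ∀ P : PrimeSpectrum B, q ≤ P → P = q ∨ P = closedPoint B := by
  classical
  let 𝒮 : Set (Ideal B) := {I | ∃ h : I.IsPrime, (⟨I, h⟩ : PrimeSpectrum B) ∈ W}
  have h𝒮 : 𝒮.Nonempty := by
    obtain ⟨p, hp⟩ := hne
    exact ⟨p.asIdeal, p.isPrime, hp⟩
  obtain ⟨q0, ⟨hq0p, hq0W⟩, hmax⟩ :=
    (set_has_maximal_iff_noetherian (R := B) (M := B)).mpr inferInstance 𝒮 h𝒮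
  let q : PrimeSpectrum B := ⟨q0, hq0p⟩
  obtain ⟨_, ⟨b, rfl⟩, hqb, hbW⟩ :=
    PrimeSpectrum.isTopologicalBasis_basic_opens.exists_subset_of_mem_open hq0W hW
  have hbq : b ∉ q0 := hqb
  have hqm : q0 ≠ maximalIdeal B := by
    intro he
    apply hm
    have : closedPoint B = q := PrimeSpectrum.ext he.symm
    rw [this]; exact hq0W
  let C := B ⧸ q0
  have : IsLocalRing C := .of_surjective' (Ideal.Quotient.mk q0) Ideal.Quotient.mk_surjective
  have hmk : Function.Surjective (Ideal.Quotient.mk q0) := Ideal.Quotient.mk_surjective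
  have hb0 : (Ideal.Quotient.mk q0 b : C) ≠ 0 := by
    rw [Ne, Ideal.Quotient.eq_zero_iff_mem]; exact hbq
  have key : ∀ P : Ideal C, P.IsPrime → P ≠ ⊥ → (Ideal.Quotient.mk q0 b : C) ∈ P := by
    intro P hP hP0
    by_contra hbP
    let P' : Ideal B := P.comap (Ideal.Quotient.mk q0)
    have hP' : P'.IsPrime := Ideal.comap_isPrime _ _
    have hle : q0 ≤ P' := by
      intro x hx
      change Ideal.Quotient.mk q0 x ∈ P
      rw [Ideal.Quotient.eq_zero_iff_mem.mpr hx]; exact P.zero_mem
    have hne' : q0 ≠ P' := by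
      intro he
      apply hP0
      rw [eq_bot_iff]
      intro y hy
      obtain ⟨x, rfl⟩ := hmk y
      have : x ∈ P' := hy
      rw [← he] at this
      simp [Ideal.Quotient.eq_zero_iff_mem.mpr this]
    have hmem : P' ∈ 𝒮 := ⟨hP', hbW (show b ∉ P' from hbP)⟩
    exact hmax P' hmem (lt_of_le_of_ne hle hne')
  refine ⟨q, hq0W, fun P hqP => ?_⟩
  have hker : RingHom.ker (Ideal.Quotient.mk q0) ≤ P.asIdeal := by
    rw [Ideal.mk_ker]; exact hqP
  have hPbar : (P.asIdeal.map (Ideal.Quotient.mk q0)).IsPrime :=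
    Ideal.map_isPrime_of_surjective hmk hker
  have hcm : (P.asIdeal.map (Ideal.Quotient.mk q0)).comap (Ideal.Quotient.mk q0) = P.asIdeal := by
    rw [Ideal.comap_map_of_surjective _ hmk, ← RingHom.ker_eq_comap_bot, sup_eq_left]
    exact hker
  rcases prime_eq_bot_or_maximal _ hb0 key (P.asIdeal.map (Ideal.Quotient.mk q0)) with h0 | h1
  · left
    apply PrimeSpectrum.ext
    rw [← hcm, h0, ← RingHom.ker_eq_comap_bot, Ideal.mk_ker]
  · right
    apply PrimeSpectrum.ext
    change P.asIdeal = maximalIdeal B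
    have hmaxc : ((maximalIdeal C).comap (Ideal.Quotient.mk q0)).IsMaximal :=
      Ideal.comap_isMaximal_of_surjective _ hmk
    rw [← hcm, h1]
    exact IsLocalRing.eq_maximalIdeal hmaxc

/-- A point of a scheme locally of finite type over a field which is closed and has no proper
generization is isolated. -/
theorem isOpen_singleton_of_locallyOfFiniteType_field {F : Scheme.{u}} {K : Type u} [Field K]
    (h : F ⟶ Spec (.of K)) [LocallyOfFiniteType h] (y : F)
    (hcl : ∀ y', y ⤳ y' → y' = y) (hgen : ∀ y', y' ⤳ y → y' = y) : IsOpen ({y} : Set F) := by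
  obtain ⟨_, ⟨W, hW : IsAffineOpen W, rfl⟩, hyW, -⟩ :=
    F.isBasis_affineOpens.exists_subset_of_mem_open (Set.mem_univ y) isOpen_univ
  have hft : RingHom.FiniteType (h.appLE ⊤ W le_top).hom :=
    HasRingHomProperty.appLE (P := @LocallyOfFiniteType) h inferInstance
      ⟨⊤, isAffineOpen_top _⟩ ⟨W, hW⟩ le_top
  let e : Γ(Spec (.of K), ⊤) ≃+* K := (Scheme.ΓSpecIso (.of K)).commRingCatIsoToRingEquiv
  have hfld : IsField Γ(Spec (.of K), ⊤) := e.toMulEquiv.isField (Field.toIsField K)
  let _ : Field Γ(Spec (.of K), ⊤) := hfld.toField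
  algebraize [(h.appLE ⊤ W le_top).hom]
  have hft' : Algebra.FiniteType Γ(Spec (.of K), ⊤) Γ(F, W) := hft
  have : IsNoetherianRing Γ(F, W) := Algebra.FiniteType.isNoetherianRing Γ(Spec (.of K), ⊤) _
  have : IsJacobsonRing Γ(F, W) := isJacobsonRing_of_finiteType (A := Γ(Spec (.of K), ⊤))
  let p : ↥(Spec Γ(F, W)) := hW.primeIdealOf ⟨y, hyW⟩
  have hp : hW.fromSpec p = y := hW.fromSpec_primeIdealOf ⟨y, hyW⟩
  have hemb := hW.fromSpec.isOpenEmbedding
  have hopen : IsOpen ({p} : Set ↥(Spec Γ(F, W))) := by
    have htfae := PrimeSpectrum.isOpen_singleton_tfae_of_isNoetherian_of_isJacobsonRing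
      (R := Γ(F, W)) p
    change IsOpen ({p} : Set (PrimeSpectrum Γ(F, W)))
    refine (htfae.out 2 0).mp ?_
    refine ⟨?_, ?_⟩
    · rw [← closure_subset_iff_isClosed]
      intro p' hp'
      rw [← specializes_iff_mem_closure] at hp'
      have h1 : hW.fromSpec p ⤳ hW.fromSpec p' := hp'.map hW.fromSpec.continuous
      rw [hp] at h1
      have h2 := hcl _ h1
      rw [← hp] at h2
      exact hemb.injective h2
    · intro a b hab ha
      rw [Set.mem_singleton_iff] at ha ⊢
      rw [ha] at hab
      have h1 : hW.fromSpec b ⤳ hW.fromSpec p := hab.map hW.fromSpec.continuous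
      rw [hp] at h1
      have h2 := hgen _ h1
      rw [← hp] at h2
      exact hemb.injective h2
  have := hemb.isOpenMap _ hopen
  have heq : (hW.fromSpec '' {p} : Set F) = {y} := by
    ext a
    constructor
    · rintro ⟨b, hb, rfl⟩
      rw [Set.mem_singleton_iff] at hb
      rw [hb]
      exact hp
    · intro ha
      rw [Set.mem_singleton_iff] at ha
      exact ⟨p, rfl, hp.trans ha.symm⟩
  rwa [heq] at this

/-- On a locally Noetherian scheme: a generization `z` of `x` lying in a given open `U` and
outside the fibre of `x`, such that the only points between `z` and `x` are `z` and `x`. -/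
theorem exists_generization {X S : Scheme.{u}} (f : X ⟶ S) [IsLocallyNoetherian X] (x : X)
    (U : X.Opens) (hx' : ∃ x' : X, x' ∈ U ∧ x' ⤳ x ∧ f x' ≠ f x) :
    ∃ z : X, z ∈ U ∧ z ⤳ x ∧ f z ≠ f x ∧ ∀ y : X, z ⤳ y → y ⤳ x → y = z ∨ y = x := by
  obtain ⟨x', hx'U, hx'x, hfx'⟩ := hx'
  let B := X.presheaf.stalk x
  let j := X.fromSpecStalk x
  have hj : Topology.IsEmbedding j := (X.fromSpecStalk x).isEmbedding
  have hjc : j (closedPoint B) = x := Scheme.fromSpecStalk_closedPoint
  have hcomm : Spec.map (f.stalkMap x) ≫ S.fromSpecStalk (f x) = j ≫ f :=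
    Scheme.SpecMap_stalkMap_fromSpecStalk f
  let W : Set ↥(Spec (X.presheaf.stalk x)) := (j ⁻¹' (U : Set X)) ∩ {P | f (j P) = f x}ᶜ
  have hW : IsOpen W := by
    refine (U.2.preimage j.continuous).inter ?_
    have h1 : ∀ P : ↥(Spec (X.presheaf.stalk x)),
        f (j P) = S.fromSpecStalk (f x) (Spec.map (f.stalkMap x) P) := by
      intro P
      rw [← Scheme.Hom.comp_apply, ← Scheme.Hom.comp_apply, hcomm]
    have : {P : ↥(Spec (X.presheaf.stalk x)) | f (j P) = f x} =
        (Spec.map (f.stalkMap x) ⁻¹' {closedPoint (S.presheaf.stalk (f x))}) := by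
      refine Set.ext fun P => ⟨fun h2 => ?_, fun h2 => ?_⟩
      · change f (j P) = f x at h2
        change Spec.map (f.stalkMap x) P = closedPoint (S.presheaf.stalk (f x))
        rw [h1] at h2
        apply (S.fromSpecStalk (f x)).isEmbedding.injective
        rw [h2]; exact Scheme.fromSpecStalk_closedPoint.symm
      · change Spec.map (f.stalkMap x) P = closedPoint (S.presheaf.stalk (f x)) at h2
        change f (j P) = f x
        rw [h1, h2]; exact Scheme.fromSpecStalk_closedPoint
    rw [isOpen_compl_iff, this]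
    exact (isClosed_singleton_closedPoint _).preimage (Spec.map (f.stalkMap x)).continuous
  have hne : W.Nonempty := by
    have : x' ∈ Set.range j := by
      rw [Scheme.range_fromSpecStalk]; exact hx'x
    obtain ⟨P, hP⟩ := this
    refine ⟨P, ?_, ?_⟩
    · change j P ∈ U; rw [hP]; exact hx'U
    · change ¬ (f (j P) = f x); rw [hP]; exact hfx'
  have hm : closedPoint B ∉ W := by
    rintro ⟨-, h2⟩
    apply h2
    change f (j (closedPoint B)) = f x
    rw [hjc]
  obtain ⟨q, ⟨hqU, hqf⟩, hq⟩ := exists_coheight_one (B := B) W hW hne hm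
  refine ⟨j q, hqU, ?_, hqf, ?_⟩
  · have : j q ∈ Set.range j := ⟨q, rfl⟩
    rw [Scheme.range_fromSpecStalk] at this; exact this
  · intro y hzy hyx
    have : y ∈ Set.range j := by
      rw [Scheme.range_fromSpecStalk]; exact hyx
    obtain ⟨P, rfl⟩ := this
    have hqP : q ≤ P := by
      rw [PrimeSpectrum.le_iff_specializes]
      exact hj.toIsInducing.specializes_iff.mp hzy
    rcases hq P hqP with h | h
    · left; rw [h]
    · right; rw [h]; exact hjc

/-- The closed subscheme `closure {z}` for a suitable generization `z` of `x`. -/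
theorem main {X S : Scheme.{u}} (f : X ⟶ S) [LocallyOfFiniteType f] [IsLocallyNoetherian S]
    (x : X) (hcl : IsClosed (Subtype.val ⁻¹' {x} : Set ↑(f ⁻¹' {f x}))) (U : X.Opens)
    (hx' : ∃ x' : X, x' ∈ U ∧ x' ⤳ x ∧ f x' ≠ f x) :
    ∃ (I : X.IdealSheafData) (z₀ x₀ : ↑I.subscheme), I.subschemeι x₀ = x ∧
      (I.subschemeι ≫ f).QuasiFiniteAt x₀ ∧
      I.subschemeι z₀ ∈ U ∧ I.subschemeι z₀ ⤳ x ∧ f (I.subschemeι z₀) ≠ f x := by
  have : IsLocallyNoetherian X := LocallyOfFiniteType.isLocallyNoetherian f
  obtain ⟨z, hzU, hzx, hfz, hbetween⟩ := exists_generization f x U hx'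
  let I : X.IdealSheafData :=
    Scheme.IdealSheafData.vanishingIdeal ⟨closure {z}, isClosed_closure⟩
  have hrange : Set.range I.subschemeι = closure {z} := by
    rw [Scheme.IdealSheafData.range_subschemeι]
    exact Scheme.IdealSheafData.coe_support_vanishingIdeal _
  obtain ⟨z₀, hz₀⟩ : z ∈ Set.range I.subschemeι := by
    rw [hrange]; exact subset_closure rfl
  obtain ⟨x₀, hx₀⟩ : x ∈ Set.range I.subschemeι := by
    rw [hrange]; exact hzx.mem_closure
  refine ⟨I, z₀, x₀, hx₀, ?_, by rw [hz₀]; exact hzU, by rw [hz₀]; exact hzx,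
    by rw [hz₀]; exact hfz⟩
  let g := I.subschemeι ≫ f
  have hinj : Function.Injective I.subschemeι := I.subschemeι.isEmbedding.injective
  have hfinj : Function.Injective (g.fiberι (g x₀)) := (g.fiberι (g x₀)).isEmbedding.injective
  have hgx₀ : g x₀ = f x := by
    change (I.subschemeι ≫ f) x₀ = f x
    rw [Scheme.Hom.comp_apply, hx₀]
  have hfib : ∀ y' : g.fiber (g x₀), f (I.subschemeι (g.fiberι (g x₀) y')) = f x := by
    intro y'
    have h1 : g.fiberι (g x₀) y' ∈ g ⁻¹' {g x₀} := by
      rw [← g.range_fiberι]; exact ⟨y', rfl⟩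
    have h2 : g (g.fiberι (g x₀) y') = g x₀ := h1
    exact ((Scheme.Hom.comp_apply _ _ _).symm.trans h2).trans hgx₀
  -- it suffices to treat the underlying point
  have hkey : ∀ y' : g.fiber (g x₀), I.subschemeι (g.fiberι (g x₀) y') = x → y' = g.asFiber x₀ := by
    intro y' hy'
    apply hfinj
    rw [g.fiberι_asFiber]
    apply hinj
    rw [hy', hx₀]
  have hlft : LocallyOfFiniteType (g.fiberToSpecResidueField (g x₀)) :=
    MorphismProperty.pullback_snd _ _ inferInstance
  rw [Scheme.Hom.quasiFiniteAt_iff_isOpen_singleton_asFiber]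
  refine isOpen_singleton_of_locallyOfFiniteType_field (K := S.residueField (g x₀))
    (g.fiberToSpecResidueField (g x₀)) (g.asFiber x₀) ?_ ?_
  · intro y' hy'
    apply hkey
    have h1 : x₀ ⤳ g.fiberι (g x₀) y' := by
      have := hy'.map (g.fiberι (g x₀)).continuous
      rwa [g.fiberι_asFiber] at this
    have h2 : x ⤳ I.subschemeι (g.fiberι (g x₀) y') := by
      have := h1.map I.subschemeι.continuous
      rwa [hx₀] at this
    have h3 : (⟨x, rfl⟩ : ↑(f ⁻¹' {f x})) ⤳ ⟨I.subschemeι (g.fiberι (g x₀) y'), hfib y'⟩ := by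
      rw [subtype_specializes_iff]; exact h2
    have h4 := hcl.stableUnderSpecialization h3 rfl
    exact h4
  · intro y' hy'
    apply hkey
    have h1 : g.fiberι (g x₀) y' ⤳ x₀ := by
      have := hy'.map (g.fiberι (g x₀)).continuous
      rwa [g.fiberι_asFiber] at this
    have h2 : I.subschemeι (g.fiberι (g x₀) y') ⤳ x := by
      have := h1.map I.subschemeι.continuous
      rwa [hx₀] at this
    have h3 : z ⤳ I.subschemeι (g.fiberι (g x₀) y') := by
      rw [specializes_iff_mem_closure, ← hrange]; exact ⟨_, rfl⟩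
    rcases hbetween _ h3 h2 with h | h
    · exfalso
      apply hfz
      rw [← h]; exact hfib y'
    · exact h

/-- A point in the closure of a quasi-compact open of a prime spectrum is a specialization of a
point of that open. -/
theorem exists_le_of_mem_closure {R : Type*} [CommRing R] {U : Set (PrimeSpectrum R)}
    (hU : IsOpen U) (hUc : IsCompact U) {p : PrimeSpectrum R} (hp : p ∈ closure U) :
    ∃ P ∈ U, P ≤ p := by
  obtain ⟨t, rfl⟩ := PrimeSpectrum.isCompact_isOpen_iff.mp ⟨hUc, hU⟩
  have hcov : (PrimeSpectrum.zeroLocus (t : Set R))ᶜ =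
      ⋃ r ∈ (t : Set R), (PrimeSpectrum.basicOpen r : Set (PrimeSpectrum R)) := by
    ext P
    simp only [Set.mem_compl_iff, PrimeSpectrum.mem_zeroLocus, Set.not_subset, Set.mem_iUnion,
      SetLike.mem_coe, PrimeSpectrum.mem_basicOpen, exists_prop]
  rw [hcov, t.finite_toSet.closure_biUnion] at hp
  simp only [Set.mem_iUnion] at hp
  obtain ⟨r, hr, hpr⟩ := hp
  rw [← PrimeSpectrum.localization_away_comap_range (Localization.Away r) r,
    PrimeSpectrum.closure_range_comap] at hpr
  have hle : (⊥ : Ideal (Localization.Away r)).comap (algebraMap R (Localization.Away r)) ≤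
      p.asIdeal := hpr
  obtain ⟨Q, -, hQ, hQp⟩ := Ideal.exists_ideal_comap_le_prime p.asIdeal ⊥ hle
  refine ⟨PrimeSpectrum.comap (algebraMap R (Localization.Away r)) ⟨Q, hQ⟩, ?_, hQp⟩
  rw [hcov]
  simp only [Set.mem_iUnion]
  refine ⟨r, hr, ?_⟩
  rw [← PrimeSpectrum.localization_away_comap_range (Localization.Away r) r]
  exact ⟨_, rfl⟩

/-- On a locally Noetherian scheme, a point in the closure of an open set is a specialization of
a point of that open set. -/
theorem exists_specializes_of_mem_closure {X : Scheme.{u}} [IsLocallyNoetherian X] (U : X.Opens)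
    (x : X) (hx : x ∈ closure (U : Set X)) : ∃ x' ∈ U, x' ⤳ x := by
  obtain ⟨_, ⟨V, hV : IsAffineOpen V, rfl⟩, hxV, -⟩ :=
    X.isBasis_affineOpens.exists_subset_of_mem_open (Set.mem_univ x) isOpen_univ
  have : IsNoetherianRing Γ(X, V) := IsLocallyNoetherian.component_noetherian ⟨V, hV⟩
  let p : ↥(Spec Γ(X, V)) := hV.primeIdealOf ⟨x, hxV⟩
  have hp : hV.fromSpec p = x := hV.fromSpec_primeIdealOf ⟨x, hxV⟩
  let U' : Set (PrimeSpectrum Γ(X, V)) := hV.fromSpec ⁻¹' (U : Set X)
  have hU' : IsOpen U' := U.2.preimage hV.fromSpec.continuous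
  have hpU' : p ∈ closure U' := by
    change p ∈ closure (hV.fromSpec ⁻¹' (U : Set X))
    rw [← hV.fromSpec.isOpenEmbedding.isOpenMap.preimage_closure_eq_closure_preimage
      hV.fromSpec.continuous]
    change hV.fromSpec p ∈ closure (U : Set X)
    rw [hp]; exact hx
  obtain ⟨P, hPU, hPp⟩ := exists_le_of_mem_closure hU'
    (TopologicalSpace.NoetherianSpace.isCompact U') hpU'
  refine ⟨hV.fromSpec P, hPU, ?_⟩
  rw [← hp]
  exact ((PrimeSpectrum.le_iff_specializes _ _).mp hPp).map hV.fromSpec.continuous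

end Groth.Agent.Lib.T2H2.CoheightOne
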