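import Mathlib
import Groth.Prelude.Def_SGA1

/-!
# Quasi-finite points over a complete Noetherian local ring

* `isPrecomplete_pi`, `finite_of_finite_quotient`: complete Nakayama — a Noetherian local algebra
  over a complete local ring with finite closed fibre is finite.
* `finite_quotient_of_quasiFinite`: the closed fibre of a quasi-finite algebra is a finite module.
* `quasiFiniteAt_of_finite_fiber`: points of finite fibres are quasi-finite points.
* `isFinite_fromSpecStalk_comp`: the local ring of a quasi-finite point over the closed point is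
  finite over a complete Noetherian local base.
* `univSubmersive_of_finite_family`: a morphism dominated by a finite jointly surjective family of
  universally closed morphisms is universally submersive.
* `main`: a surjective morphism of finite type to a complete Noetherian local scheme with finite
  closed fibre, all of whose points specialize into the closed fibre, is universally submersive.
-/

universe u

namespace Groth.Agent.Lib.T2H2.CompleteFinite

open IsLocalRing TensorProduct AlgebraicGeometry CategoryTheory Limits

/-- finite free modules over a precomplete ring are precomplete. -/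
theorem isPrecomplete_pi {A : Type*} [CommRing A] (I : Ideal A) [IsPrecomplete I A] (n : ℕ) :
    IsPrecomplete I (Fin n → A) := by
  rw [isPrecomplete_iff]
  intro f hf
  have hcomp : ∀ i : Fin n, ∃ L : A, ∀ k, f k i ≡ L [SMOD (I ^ k • ⊤ : Submodule A A)] := by
    intro i
    apply IsPrecomplete.prec ‹IsPrecomplete I A›
    intro m k hmk
    have h1 := hf hmk
    have h2 := SModEq.map h1 (LinearMap.proj (R := A) (φ := fun _ : Fin n => A) i)
    refine SModEq.mono ?_ h2
    rw [Submodule.map_smul'']
    exact Submodule.smul_mono le_rfl le_top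
  choose L hL using hcomp
  refine ⟨L, fun k => ?_⟩
  rw [SModEq.sub_mem]
  have h1 : ∀ i, f k i - L i ∈ I ^ k := by
    intro i
    have := (hL i k)
    rw [SModEq.sub_mem] at this
    simpa using this
  have h2 : f k - L = ∑ i, (f k i - L i) • (Pi.single i (1 : A) : Fin n → A) := by
    ext j
    simp [Finset.sum_apply, Pi.single_apply]
  rw [h2]
  refine Submodule.sum_mem _ fun i _ => ?_
  exact Submodule.smul_mem_smul (h1 i) (Submodule.mem_top)

/-- A Noetherian local algebra over a complete Noetherian local ring whose closed fibre is finite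
is finite (complete Nakayama). -/
theorem finite_of_finite_quotient {A N : Type*} [CommRing A] [CommRing N] [IsLocalRing A]
    [IsPrecomplete (maximalIdeal A) A] [Algebra A N] [IsNoetherianRing N] [IsLocalRing N]
    [IsLocalHom (algebraMap A N)]
    (hfin : Module.Finite A (N ⧸ (maximalIdeal A).map (algebraMap A N))) : Module.Finite A N := by
  classical
  set I := maximalIdeal A with hI
  have hle : I.map (algebraMap A N) ≤ maximalIdeal N :=
    IsLocalRing.map_maximalIdeal_le (algebraMap A N)
  have hH : IsHausdorff (I.map (algebraMap A N)) N :=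
    IsHausdorff.of_le_jacobson _ _ (hle.trans (maximalIdeal_le_jacobson _))
  have hH' : IsHausdorff I N := IsHausdorff.map_algebraMap_iff.mp hH
  obtain ⟨n, s, hs⟩ := Module.Finite.exists_fin (R := A) (M := N ⧸ I.map (algebraMap A N))
  choose t ht using fun i => Ideal.Quotient.mk_surjective (s i)
  let f : (Fin n → A) →ₗ[A] N := Fintype.linearCombination A t
  have : IsPrecomplete I (Fin n → A) := isPrecomplete_pi I n
  have hsurj : Function.Surjective f := by
    apply surjective_of_mkQ_comp_surjective (I := I)
    intro y
    obtain ⟨y', rfl⟩ := Submodule.mkQ_surjective _ y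
    -- compare with the quotient by the extended ideal
    have hy : (Ideal.Quotient.mk (I.map (algebraMap A N)) y') ∈
        Submodule.span A (Set.range s) := by rw [hs]; trivial
    obtain ⟨c, hc⟩ := (Submodule.mem_span_range_iff_exists_fun A).mp hy
    refine ⟨c, ?_⟩
    change Submodule.mkQ _ (f c) = Submodule.mkQ _ y'
    rw [← sub_eq_zero, ← map_sub, Submodule.mkQ_apply, Submodule.Quotient.mk_eq_zero,
      Ideal.smul_top_eq_map, Submodule.restrictScalars_mem, ← Ideal.Quotient.eq]
    rw [← hc]
    simp only [f, Fintype.linearCombination_apply, map_sum]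
    refine Finset.sum_congr rfl fun i _ => ?_
    rw [← ht i, Algebra.smul_def, Algebra.smul_def, map_mul]
    rfl
  exact Module.Finite.of_surjective f hsurj

/-- the closed fibre of a quasi-finite algebra over a local ring is a finite module. -/
theorem finite_quotient_of_quasiFinite {R S : Type*} [CommRing R] [CommRing S] [IsLocalRing R]
    [Algebra R S] [Algebra.QuasiFinite R S] :
    Module.Finite R (S ⧸ (maximalIdeal R).map (algebraMap R S)) := by
  let e : (maximalIdeal R).Fiber S ≃ₐ[R] S ⧸ (maximalIdeal R).map (algebraMap R S) :=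
    (Algebra.TensorProduct.congr (.symm <| .ofBijective _
      (Ideal.bijective_algebraMap_quotient_residueField (maximalIdeal R))) .refl).trans <|
    (Algebra.TensorProduct.comm _ _ _).trans
    ((Algebra.TensorProduct.quotIdealMapEquivTensorQuot S (maximalIdeal R)).symm.restrictScalars _)
  have : Module.Finite R ((maximalIdeal R).Fiber S) :=
    .trans (maximalIdeal R).ResidueField _
  exact .of_surjective e.toLinearMap e.surjective

/-- a point of a finite fibre of a morphism locally of finite type is a quasi-finite point. -/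
theorem quasiFiniteAt_of_finite_fiber {X Y : Scheme.{u}} (g : X ⟶ Y) [LocallyOfFiniteType g]
    (x : X) (hfin : (g ⁻¹' {g x}).Finite) : g.QuasiFiniteAt x := by
  rw [Scheme.Hom.quasiFiniteAt_iff_isOpen_singleton_asFiber]
  have hF : Finite ↥(g.fiber (g x)) := by
    have : Finite ↥(g ⁻¹' {g x}) := hfin
    exact (g.fiberHomeo (g x)).toEquiv.finite_iff.mpr this
  have hlft : LocallyOfFiniteType (g.fiberToSpecResidueField (g x)) :=
    MorphismProperty.pullback_snd _ _ inferInstance
  have hlqf : LocallyQuasiFinite (g.fiberToSpecResidueField (g x)) :=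
    .of_finite_preimage_singleton _ fun _ => Set.toFinite _
  have hdisc := (g.fiberToSpecResidueField (g x)).isDiscrete_preimage_singleton
    (g.fiberToSpecResidueField (g x) (g.asFiber x))
  have := hdisc.to_subtype
  have hopen : IsOpen ({⟨g.asFiber x, rfl⟩} : Set ↥((g.fiberToSpecResidueField (g x)) ⁻¹'
      {g.fiberToSpecResidueField (g x) (g.asFiber x)})) := isOpen_discrete _
  obtain ⟨W, hW, hWeq⟩ := isOpen_induced_iff.mp hopen
  have : W = {g.asFiber x} := by
    ext y
    constructor
    · intro hy
      have hy' : (⟨y, Subsingleton.elim _ _⟩ : ↥((g.fiberToSpecResidueField (g x)) ⁻¹'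
          {g.fiberToSpecResidueField (g x) (g.asFiber x)})) ∈ Subtype.val ⁻¹' W := hy
      rw [hWeq] at hy'
      exact congrArg Subtype.val hy'
    · intro hy
      rw [Set.mem_singleton_iff] at hy
      rw [hy]
      have : (⟨g.asFiber x, rfl⟩ : ↥((g.fiberToSpecResidueField (g x)) ⁻¹'
          {g.fiberToSpecResidueField (g x) (g.asFiber x)})) ∈ Subtype.val ⁻¹' W := by
        rw [hWeq]; rfl
      exact this
  rwa [this] at hW

/-- over a complete Noetherian local ring, the local ring of a quasi-finite point over the closed
point is finite over the base. -/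
theorem isFinite_fromSpecStalk_comp (A : Type u) [CommRing A] [IsNoetherianRing A] [IsLocalRing A]
    [IsAdicComplete (maximalIdeal A) A] {S' : Scheme.{u}} (g : S' ⟶ Spec (CommRingCat.of A))
    [LocallyOfFiniteType g] (s' : S') (hs' : g s' = closedPoint A) (hq : g.QuasiFiniteAt s') :
    IsFinite (S'.fromSpecStalk s' ≫ g) := by
  have : IsLocallyNoetherian S' := LocallyOfFiniteType.isLocallyNoetherian g
  have hlqf : LocallyQuasiFinite (S'.fromSpecStalk s' ≫ g) := Scheme.Hom.quasiFiniteAt_iff.mp hq
  obtain ⟨φ, hφ⟩ := Spec.map_surjective (S'.fromSpecStalk s' ≫ g)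
  rw [← hφ] at hlqf ⊢
  rw [HasRingHomProperty.Spec_iff (P := @LocallyQuasiFinite)] at hlqf
  rw [IsFinite.SpecMap_iff]
  have hloc : IsLocalHom φ.hom := by
    have h1 : (Spec.map φ) (closedPoint (S'.presheaf.stalk s')) = closedPoint A := by
      rw [hφ, Scheme.Hom.comp_apply, Scheme.fromSpecStalk_closedPoint, hs']
    have h2 : (maximalIdeal (S'.presheaf.stalk s')).comap φ.hom = maximalIdeal A :=
      congrArg PrimeSpectrum.asIdeal h1
    exact ((IsLocalRing.local_hom_TFAE φ.hom).out 0 4).mpr h2
  algebraize [φ.hom]
  have hQF : Algebra.QuasiFinite A (S'.presheaf.stalk s') := hlqf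
  have h3 := finite_quotient_of_quasiFinite (R := A) (S := S'.presheaf.stalk s')
  have h4 : Module.Finite A (S'.presheaf.stalk s') := finite_of_finite_quotient h3
  exact h4

/-- A morphism `g : X ⟶ Y` is universally submersive as soon as there is a finite family of
morphisms `k i : Z i ⟶ X`, jointly surjective onto `Y` after composing with `g`... precisely:
the `k i ≫ g` are universally closed and every point of `Y` is in the image of some `k i ≫ g`. -/
theorem univSubmersive_of_finite_family {X Y : Scheme.{u}} (g : X ⟶ Y) {ι : Type*} [Finite ι]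
    (Z : ι → Scheme.{u}) (k : ∀ i, Z i ⟶ X) (hcl : ∀ i, UniversallyClosed (k i ≫ g))
    (hsurj : ∀ y : Y, ∃ i, ∃ z : Z i, (k i ≫ g) z = y) : SGA1.UnivSubmersive g := by
  intro X' Y' i₁ i₂ f' hpb
  change Topology.IsQuotientMap f'
  rw [Topology.isQuotientMap_iff_isClosed]
  have hsurj' : ∀ y' : Y', ∃ i, ∃ w : ↥(pullback (k i ≫ g) i₂), (pullback.snd (k i ≫ g) i₂) w = y' := by
    intro y'
    obtain ⟨i, z, hz⟩ := hsurj (i₂ y')
    obtain ⟨w, -, hw⟩ := Scheme.Pullback.exists_preimage_pullback z y' hz
    exact ⟨i, w, hw⟩
  -- the lifts to `X'`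
  let k' : ∀ i, pullback (k i ≫ g) i₂ ⟶ X' := fun i =>
    hpb.lift (pullback.snd _ _) (pullback.fst _ _ ≫ k i)
      (by rw [Category.assoc, ← pullback.condition])
  have hk' : ∀ i, k' i ≫ f' = pullback.snd (k i ≫ g) i₂ := fun i => hpb.lift_fst _ _ _
  refine ⟨?_, fun E => ⟨fun hE => hE.preimage f'.continuous, fun hE => ?_⟩⟩
  · intro y'
    obtain ⟨i, w, hw⟩ := hsurj' y'
    refine ⟨k' i w, ?_⟩
    rw [← Scheme.Hom.comp_apply, hk', hw]
  · have hEeq : E = ⋃ i, (pullback.snd (k i ≫ g) i₂) '' ((pullback.snd (k i ≫ g) i₂) ⁻¹' E) := by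
      ext y'
      simp only [Set.mem_iUnion, Set.mem_image, Set.mem_preimage]
      constructor
      · intro hy'
        obtain ⟨i, w, hw⟩ := hsurj' y'
        exact ⟨i, w, by rw [hw]; exact hy', hw⟩
      · rintro ⟨i, w, hw, rfl⟩
        exact hw
    rw [hEeq]
    refine isClosed_iUnion_of_finite fun i => ?_
    have hcl' : UniversallyClosed (pullback.snd (k i ≫ g) i₂) :=
      MorphismProperty.pullback_snd _ _ (hcl i)
    apply (pullback.snd (k i ≫ g) i₂).isClosedMap
    have : (pullback.snd (k i ≫ g) i₂) ⁻¹' E = (k' i) ⁻¹' (f' ⁻¹' E) := by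
      ext w
      simp only [Set.mem_preimage]
      rw [← Scheme.Hom.comp_apply, hk']
    rw [this]
    exact hE.preimage (k' i).continuous

theorem main (A : Type u) [CommRing A]
    [IsNoetherianRing A] [IsLocalRing A] [IsAdicComplete (IsLocalRing.maximalIdeal A) A]
    {S' : Scheme.{u}} (g : S' ⟶ Spec (CommRingCat.of A)) [LocallyOfFiniteType g]
    [Surjective g]
    (hfin : (g.base ⁻¹' {IsLocalRing.closedPoint A}).Finite)
    (hsp : ∀ t : S', ∃ s' : S', g.base s' = IsLocalRing.closedPoint A ∧ t ⤳ s') :
    SGA1.UnivSubmersive g := by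
  have : Finite ↥(g.base ⁻¹' {IsLocalRing.closedPoint A}) := hfin
  refine univSubmersive_of_finite_family g (ι := ↥(g.base ⁻¹' {IsLocalRing.closedPoint A}))
    (fun i => Spec (S'.presheaf.stalk i.1)) (fun i => S'.fromSpecStalk i.1) (fun i => ?_)
    (fun y => ?_)
  · have hi : g i.1 = closedPoint A := i.2
    have hq : g.QuasiFiniteAt i.1 := by
      apply quasiFiniteAt_of_finite_fiber
      have : g i.1 = closedPoint A := hi
      rw [this]; exact hfin
    have := isFinite_fromSpecStalk_comp A g i.1 hi hq
    infer_instance
  · obtain ⟨t, rfl⟩ := g.surjective y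
    obtain ⟨s', hs', hts'⟩ := hsp t
    have : t ∈ Set.range (S'.fromSpecStalk s') := by
      rw [Scheme.range_fromSpecStalk]; exact hts'
    obtain ⟨z, hz⟩ := this
    refine ⟨⟨s', hs'⟩, z, ?_⟩
    rw [Scheme.Hom.comp_apply, hz]

end Groth.Agent.Lib.T2H2.CompleteFinite
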