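import Mathlib

namespace Groth.Agent.Lib.T2H2.Corner

open scoped TensorProduct
open MulOpposite

universe u v

section retract

variable {R : Type*} [CommRing R] {M N X Y : Type*}
  [AddCommGroup M] [Module R M] [AddCommGroup N] [Module R N]

theorem bijective_of_retract
    (i : N →ₗ[R] M) (p : M →ₗ[R] N) (hpi : ∀ n, p (i n) = n)
    (s : Y → X) (t : X → Y) (hts : ∀ y, t (s y) = y)
    (F : X → Module.End R M) (hF : Function.Bijective F)
    (G : Y → Module.End R N)
    (h1 : ∀ y m, F (s y) m = i (G y (p m)))
    (h2 : ∀ x n, G (t x) n = p (F x (i n))) : Function.Bijective G := by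
  constructor
  · intro y y' hy
    have h0 : F (s y) = F (s y') := by
      ext m
      rw [h1, h1, hy]
    have h3 : s y = s y' := hF.1 h0
    rw [← hts y, h3, hts]
  · intro φ
    obtain ⟨x, hx⟩ := hF.2 (i ∘ₗ φ ∘ₗ p)
    refine ⟨t x, ?_⟩
    ext n
    rw [h2, hx]
    simp [hpi]

end retract

section corner

variable {R : Type u} [CommRing R] {A : Type v} [Ring A] [Algebra R A]
variable {e : A} (he : IsIdempotentElem e)

theorem corner_val_mul (x y : he.Corner) : (x * y).1 = x.1 * y.1 := rfl
theorem corner_val_add (x y : he.Corner) : (x + y).1 = x.1 + y.1 := rfl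
theorem corner_val_zero : (0 : he.Corner).1 = 0 := rfl
theorem corner_val_one : (1 : he.Corner).1 = e := rfl
theorem corner_val_neg (x : he.Corner) : (-x).1 = -x.1 := rfl

theorem corner_left (x : he.Corner) : e * x.1 = x.1 :=
  ((Subsemigroup.mem_corner_iff he).1 x.2).1

theorem corner_right (x : he.Corner) : x.1 * e = x.1 :=
  ((Subsemigroup.mem_corner_iff he).1 x.2).2

instance cornerSMul : SMul R he.Corner :=
  ⟨fun r x => ⟨r • x.1, by
    obtain ⟨a, ha⟩ := x.2
    exact ⟨r • a, by simp only [← ha, mul_smul_comm, smul_mul_assoc]⟩⟩⟩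

theorem corner_val_smul (r : R) (x : he.Corner) : (r • x).1 = r • x.1 := rfl

/-- the inclusion as additive monoid hom -/
def cornerValAdd : he.Corner →+ A where
  toFun x := x.1
  map_zero' := rfl
  map_add' _ _ := rfl

instance cornerModule : Module R he.Corner :=
  Function.Injective.module R (cornerValAdd he) (fun _ _ h => Subtype.ext h) (fun _ _ => rfl)

instance cornerAlgebra : Algebra R he.Corner :=
  Algebra.ofModule
    (fun r x y => Subtype.ext (by
      simp only [corner_val_mul, corner_val_smul, smul_mul_assoc]))
    (fun r x y => Subtype.ext (by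
      simp only [corner_val_mul, corner_val_smul, mul_smul_comm]))

variable (R) in
/-- inclusion of the corner -/
def ι : he.Corner →ₗ[R] A where
  toFun x := x.1
  map_add' _ _ := rfl
  map_smul' _ _ := rfl

variable (R) in
/-- projection onto the corner -/
def π : A →ₗ[R] he.Corner where
  toFun a := ⟨e * a * e, ⟨a, rfl⟩⟩
  map_add' a b := Subtype.ext (by simp [corner_val_add, mul_add, add_mul])
  map_smul' r a := Subtype.ext (by simp [corner_val_smul])

@[simp] theorem ι_apply (x : he.Corner) : ι R he x = x.1 := rfl
@[simp] theorem π_apply_val (a : A) : (π R he a).1 = e * a * e := rfl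

theorem π_ι (x : he.Corner) : π R he (ι R he x) = x := by
  apply Subtype.ext
  simp [corner_left, corner_right]

instance corner_finite [Module.Finite R A] : Module.Finite R he.Corner :=
  Module.Finite.of_surjective (π R he) (fun x => ⟨ι R he x, π_ι he x⟩)

instance corner_projective [Module.Projective R A] : Module.Projective R he.Corner :=
  Module.Projective.of_split (ι R he) (π R he) (LinearMap.ext fun x => π_ι (R := R) he x)

end corner



section azumaya

variable {R : Type u} [CommRing R] {A : Type v} [Ring A] [Algebra R A]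
variable {e : A} (he : IsIdempotentElem e)

variable (R) in
/-- opposite of a linear map -/
def opMap {M N : Type*} [AddCommGroup M] [Module R M] [AddCommGroup N] [Module R N]
    (f : M →ₗ[R] N) : Mᵐᵒᵖ →ₗ[R] Nᵐᵒᵖ :=
  (opLinearEquiv R).toLinearMap ∘ₗ f ∘ₗ (opLinearEquiv R).symm.toLinearMap

@[simp] theorem opMap_apply {M N : Type*} [AddCommGroup M] [Module R M] [AddCommGroup N]
    [Module R N] (f : M →ₗ[R] N) (x : Mᵐᵒᵖ) : opMap R f x = op (f x.unop) := rfl

theorem map_retract {M N M' N' : Type*} [AddCommGroup M] [Module R M] [AddCommGroup N]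
    [Module R N] [AddCommGroup M'] [Module R M'] [AddCommGroup N'] [Module R N']
    (i : N →ₗ[R] M) (p : M →ₗ[R] N) (hpi : ∀ n, p (i n) = n)
    (i' : N' →ₗ[R] M') (p' : M' →ₗ[R] N') (hpi' : ∀ n, p' (i' n) = n) (y : N ⊗[R] N') :
    TensorProduct.map p p' (TensorProduct.map i i' y) = y := by
  induction y using TensorProduct.induction_on with
  | zero => simp
  | tmul a b => simp [hpi, hpi']
  | add a b ha hb => simp [ha, hb]

theorem corner_bij [IsAzumaya R A] :
    Function.Bijective (AlgHom.mulLeftRight R he.Corner) := by
  have hA := IsAzumaya.bij (R := R) (A := A)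
  refine bijective_of_retract (ι R he) (π R he) (π_ι he)
    (TensorProduct.map (ι R he) (opMap R (ι R he)))
    (TensorProduct.map (π R he) (opMap R (π R he))) ?_
    (AlgHom.mulLeftRight R A) hA
    (AlgHom.mulLeftRight R he.Corner) ?_ ?_
  · intro y
    refine map_retract _ _ (π_ι he) _ _ ?_ y
    intro n
    rw [opMap_apply, opMap_apply, unop_op, π_ι, op_unop]
  · intro y m
    induction y using TensorProduct.induction_on with
    | zero => simp [corner_val_zero]
    | tmul b c =>
      simp only [TensorProduct.map_tmul, AlgHom.mulLeftRight_apply,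
        opMap_apply, unop_op, ι_apply, corner_val_mul, π_apply_val]
      rw [show b.1 * (e * m * e) * c.unop.1 = (b.1 * e) * m * (e * c.unop.1) by
        simp only [mul_assoc]]
      rw [corner_right, corner_left]
    | add a b ha hb => simp only [map_add, LinearMap.add_apply, ha, hb]
  · intro x n
    induction x using TensorProduct.induction_on with
    | zero => simp
    | tmul a c =>
      apply Subtype.ext
      simp only [TensorProduct.map_tmul, AlgHom.mulLeftRight_apply,
        opMap_apply, unop_op, ι_apply, corner_val_mul, π_apply_val]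
      rw [show e * a * e * n.1 * (e * c.unop * e) = e * a * (e * n.1 * e) * c.unop * e by
        simp only [mul_assoc]]
      rw [corner_left, corner_right]
      simp only [mul_assoc]
    | add a b ha hb => simp only [map_add, LinearMap.add_apply, ha, hb]

end azumaya



section leftideal

variable {R : Type u} [CommRing R] {A : Type v} [Ring A] [Algebra R A]

/-- the left ideal `A e` -/
def leftIdeal (e : A) : Submodule A A where
  carrier := {x | x * e = x}
  add_mem' := by
    intro a b ha hb
    simp only [Set.mem_ofPred_eq] at ha hb ⊢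
    rw [add_mul, ha, hb]
  zero_mem' := zero_mul e
  smul_mem' := by
    intro c x hx
    simp only [Set.mem_ofPred_eq] at hx ⊢
    rw [smul_eq_mul, mul_assoc, hx]

theorem mem_leftIdeal {e x : A} : x ∈ leftIdeal e ↔ x * e = x := Iff.rfl

theorem leftIdeal_right {e : A} (q : leftIdeal e) : q.1 * e = q.1 := q.2

variable {e : A} (he : IsIdempotentElem e)

variable (R) in
/-- inclusion of the left ideal -/
def j (e : A) : leftIdeal e →ₗ[R] A := (leftIdeal e).subtype.restrictScalars R

include he in
theorem mul_mem_leftIdeal (a : A) : a * e ∈ leftIdeal e := by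
  rw [mem_leftIdeal, mul_assoc, he.eq]

variable (R) in
/-- projection onto the left ideal -/
def ρ : A →ₗ[R] leftIdeal e where
  toFun a := ⟨a * e, mul_mem_leftIdeal he a⟩
  map_add' a b := Subtype.ext (by simp [add_mul])
  map_smul' r a := Subtype.ext (by simp)

@[simp] theorem j_apply (q : leftIdeal e) : j R e q = q.1 := rfl
@[simp] theorem ρ_apply_val (a : A) : (ρ R he a).1 = a * e := rfl

theorem ρ_j (q : leftIdeal e) : ρ R he (j R e q) = q :=
  Subtype.ext (by simp [leftIdeal_right])

include he in
theorem leftIdeal_finite [Module.Finite R A] :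
    Module.Finite R (leftIdeal e) :=
  Module.Finite.of_surjective (ρ R he) (fun x => ⟨j R e x, ρ_j he x⟩)

include he in
theorem leftIdeal_projective [Module.Projective R A] :
    Module.Projective R (leftIdeal e) :=
  Module.Projective.of_split (j R e) (ρ R he) (LinearMap.ext fun x => ρ_j (R := R) he x)

/-- right multiplication by a corner element on the left ideal -/
def rightMul (b : he.Corner) : Module.End R (leftIdeal e) where
  toFun q := ⟨q.1 * b.1, by rw [mem_leftIdeal, mul_assoc, corner_right]⟩
  map_add' a c := Subtype.ext (by simp [add_mul])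
  map_smul' r a := Subtype.ext (by simp)

@[simp] theorem rightMul_apply_val (b : he.Corner) (q : leftIdeal e) :
    (rightMul (R := R) he b q).1 = q.1 * b.1 := rfl

/-- right multiplication as an algebra map from the opposite of the corner -/
def rightMulHom : he.Cornerᵐᵒᵖ →ₐ[R] Module.End R (leftIdeal e) where
  toFun c := rightMul he c.unop
  map_one' := by
    ext q
    simp [corner_val_one, leftIdeal_right]
  map_mul' c d := by
    ext q
    simp [corner_val_mul, mul_assoc]
  map_zero' := by
    ext q
    simp [corner_val_zero]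
  map_add' c d := by
    ext q
    simp [corner_val_add, mul_add]
  commutes' r := by
    ext q
    simp [Algebra.algebraMap_eq_smul_one, corner_val_smul, corner_val_one, leftIdeal_right]

/-- the algebra map `A ⊗ (eAe)ᵒᵖ → End (Ae)` -/
def Ψ : A ⊗[R] he.Cornerᵐᵒᵖ →ₐ[R] Module.End R (leftIdeal e) :=
  Algebra.TensorProduct.lift (Algebra.lsmul R R (leftIdeal e)) (rightMulHom he) (by
    intro a c
    ext q
    simp [rightMulHom, mul_assoc])

theorem Ψ_tmul_val (a : A) (c : he.Cornerᵐᵒᵖ) (q : leftIdeal e) :
    (Ψ (R := R) he (a ⊗ₜ c) q).1 = a * (q.1 * c.unop.1) := by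
  simp [Ψ, rightMulHom]

end leftideal



section more

variable {R : Type u} [CommRing R] {A : Type v} [Ring A] [Algebra R A]
variable {e : A} (he : IsIdempotentElem e)

theorem Ψ_bij [IsAzumaya R A] : Function.Bijective (Ψ (R := R) he) := by
  have hA := IsAzumaya.bij (R := R) (A := A)
  refine bijective_of_retract (j R e) (ρ R he) (ρ_j he)
    (TensorProduct.map LinearMap.id (opMap R (ι R he)))
    (TensorProduct.map LinearMap.id (opMap R (π R he))) ?_
    (AlgHom.mulLeftRight R A) hA (Ψ he) ?_ ?_
  · intro y
    refine map_retract _ _ (fun _ => rfl) _ _ ?_ y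
    intro n
    rw [opMap_apply, opMap_apply, unop_op, π_ι, op_unop]
  · intro y m
    induction y using TensorProduct.induction_on with
    | zero => simp
    | tmul b c =>
      simp only [TensorProduct.map_tmul, AlgHom.mulLeftRight_apply,
        opMap_apply, unop_op, ι_apply, LinearMap.id_apply, j_apply, Ψ_tmul_val, ρ_apply_val]
      rw [mul_assoc m e, corner_left, mul_assoc]
    | add a b ha hb => simp only [map_add, LinearMap.add_apply, ha, hb]
  · intro x n
    induction x using TensorProduct.induction_on with
    | zero => simp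
    | tmul a c =>
      apply Subtype.ext
      simp only [TensorProduct.map_tmul, AlgHom.mulLeftRight_apply,
        opMap_apply, unop_op, LinearMap.id_apply, j_apply, Ψ_tmul_val, ρ_apply_val,
        π_apply_val]
      rw [show a * (n.1 * (e * c.unop * e)) = a * (n.1 * e) * c.unop * e by
        simp only [mul_assoc]]
      rw [leftIdeal_right]
    | add a b ha hb => simp only [map_add, LinearMap.add_apply, ha, hb]

end more



section conn

variable {R : Type u} [CommRing R] [ConnectedSpace (PrimeSpectrum R)]
  {M : Type v} [AddCommGroup M] [Module R M] [Module.Finite R M] [Module.Projective R M]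

theorem rankAtStalk_eq_of_connected (p q : PrimeSpectrum R) :
    Module.rankAtStalk M p = Module.rankAtStalk M q := by
  have := Module.finitePresentation_of_projective R M
  exact (Module.isLocallyConstant_rankAtStalk (R := R) (M := M)).apply_eq_of_preconnectedSpace p q

theorem rankAtStalk_pos_of_connected [Nontrivial M] (p : PrimeSpectrum R) :
    0 < Module.rankAtStalk M p := by
  by_contra h0
  have h0' : Module.rankAtStalk M p = 0 := by omega
  have h1 : Module.rankAtStalk (R := R) M = 0 := by
    ext q
    rw [rankAtStalk_eq_of_connected q p, h0']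
    rfl
  rw [Module.rankAtStalk_eq_zero_iff_subsingleton] at h1
  exact not_subsingleton M h1

theorem faithful_of_connected [Nontrivial M] : FaithfulSMul R M := by
  refine ⟨fun {r s} h => ?_⟩
  rw [← sub_eq_zero]
  apply eq_zero_of_localization
  intro J hJ
  have := hJ.isPrime
  have : Module.Free (Localization.AtPrime J) (LocalizedModule J.primeCompl M) :=
    Module.free_of_flat_of_isLocalRing
  have : Nontrivial (LocalizedModule J.primeCompl M) := by
    have h1 := rankAtStalk_pos_of_connected (M := M) (⟨J, hJ.isPrime⟩ : PrimeSpectrum R)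
    exact Module.nontrivial_of_finrank_pos (R := Localization.AtPrime J) h1
  apply FaithfulSMul.eq_of_smul_eq_smul (α := LocalizedModule J.primeCompl M)
  intro x
  induction x using LocalizedModule.induction_on with
  | h m t =>
    rw [algebraMap_smul, zero_smul, LocalizedModule.smul'_mk, sub_smul, h m, sub_self,
      LocalizedModule.zero_mk]

end conn



section prim

variable {R : Type u} [CommRing R] {A : Type v} [Ring A] [Algebra R A]

/-- `A (f + g) ≃ A f × A g` for orthogonal idempotents -/
def leftIdealSumEquiv {f g : A} (hf : IsIdempotentElem f) (hg : IsIdempotentElem g)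
    (hfg : f * g = 0) (hgf : g * f = 0) :
    leftIdeal (f + g) ≃ₗ[R] leftIdeal f × leftIdeal g where
  toFun x := (⟨x.1 * f, mul_mem_leftIdeal hf _⟩, ⟨x.1 * g, mul_mem_leftIdeal hg _⟩)
  map_add' x y := by
    apply Prod.ext <;> apply Subtype.ext <;> simp [add_mul]
  map_smul' r x := by
    apply Prod.ext <;> apply Subtype.ext <;> simp
  invFun y := ⟨y.1.1 + y.2.1, by
    rw [mem_leftIdeal, add_mul, mul_add, mul_add]
    have h1 := leftIdeal_right y.1
    have h2 := leftIdeal_right y.2
    rw [h1, h2]
    rw [← h1, mul_assoc, hfg, mul_zero, ← h2, mul_assoc, hgf, mul_zero]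
    simp⟩
  left_inv x := by
    apply Subtype.ext
    have h := leftIdeal_right x
    simp only
    rw [← mul_add, h]
  right_inv y := by
    have h1 := leftIdeal_right y.1
    have h2 := leftIdeal_right y.2
    apply Prod.ext <;> apply Subtype.ext <;> simp only [add_mul]
    · rw [h1, ← h2, mul_assoc, hgf, mul_zero, add_zero]
    · rw [h2, ← h1, mul_assoc, hfg, mul_zero, zero_add]

theorem leftIdeal_nontrivial {g : A} (hg : IsIdempotentElem g) (hne : g ≠ 0) :
    Nontrivial (leftIdeal g) :=
  ⟨⟨⟨g, hg.eq⟩, 0, fun h => hne (congrArg Subtype.val h)⟩⟩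

theorem exists_primitive [ConnectedSpace (PrimeSpectrum R)] [Module.Finite R A]
    [Module.Projective R A] [Nontrivial A] :
    ∃ e : A, IsIdempotentElem e ∧ e ≠ 0 ∧
      ∀ b : A, IsIdempotentElem b → e * b = b → b * e = b → b = 0 ∨ b = e := by
  classical
  let p₀ : PrimeSpectrum R := Classical.arbitrary _
  let d : A → ℕ := fun f => Module.rankAtStalk (R := R) (leftIdeal f) p₀
  let P : ℕ → Prop := fun n => ∃ f : A, IsIdempotentElem f ∧ f ≠ 0 ∧ d f = n
  have hP : ∃ n, P n := ⟨d 1, 1, IsIdempotentElem.one, one_ne_zero, rfl⟩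
  obtain ⟨e, he, hne, hde⟩ := Nat.find_spec hP
  refine ⟨e, he, hne, ?_⟩
  intro b hb heb hbe
  by_contra hcon
  push Not at hcon
  obtain ⟨hb0, hbe'⟩ := hcon
  have hg : IsIdempotentElem (e - b) := by
    unfold IsIdempotentElem
    rw [mul_sub, sub_mul, sub_mul, he.eq, hb.eq, heb, hbe]
    abel
  have hbg : b * (e - b) = 0 := by rw [mul_sub, hbe, hb.eq, sub_self]
  have hgb : (e - b) * b = 0 := by rw [sub_mul, heb, hb.eq, sub_self]
  have hgne : e - b ≠ 0 := fun h => hbe' (sub_eq_zero.1 h).symm
  have hfin1 := leftIdeal_finite (R := R) hb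
  have hproj1 := leftIdeal_projective (R := R) hb
  have hfin2 := leftIdeal_finite (R := R) hg
  have hproj2 := leftIdeal_projective (R := R) hg
  have hnt := leftIdeal_nontrivial hg hgne
  have hsum : d (b + (e - b)) = d b + d (e - b) := by
    have h1 := Module.rankAtStalk_eq_of_equiv (R := R) (leftIdealSumEquiv (R := R) hb hg hbg hgb)
    have h2 := Module.rankAtStalk_prod (R := R) (leftIdeal b) (leftIdeal (e - b))
    show Module.rankAtStalk (R := R) (leftIdeal (b + (e - b))) p₀ = _
    rw [h1, h2]
    rfl
  have hpos : 0 < d (e - b) := rankAtStalk_pos_of_connected (M := leftIdeal (e - b)) p₀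
  have hle : Nat.find hP ≤ d b := Nat.find_min' hP ⟨b, hb, hb0, rfl⟩
  rw [add_sub_cancel] at hsum
  omega

end prim



section final

variable {R : Type u} [CommRing R] {A : Type u} [Ring A] [Algebra R A]
variable {e : A} (he : IsIdempotentElem e)

/-- the Brauer equivalence between `A` and its corner -/
noncomputable def brauerEquiv [IsAzumaya R A] :
    A ⊗[R] Module.End R he.Corner ≃ₐ[R] he.Corner ⊗[R] Module.End R (leftIdeal e) :=
  let e1 : Module.End R he.Corner ≃ₐ[R] he.Corner ⊗[R] he.Cornerᵐᵒᵖ :=
    (AlgEquiv.ofBijective (AlgHom.mulLeftRight R he.Corner) (corner_bij he)).symm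
  let e2 : A ⊗[R] he.Cornerᵐᵒᵖ ≃ₐ[R] Module.End R (leftIdeal e) :=
    AlgEquiv.ofBijective (Ψ he) (Ψ_bij he)
  (Algebra.TensorProduct.congr AlgEquiv.refl e1).trans <|
    (Algebra.TensorProduct.assoc R R R A he.Corner he.Cornerᵐᵒᵖ).symm.trans <|
    (Algebra.TensorProduct.congr (Algebra.TensorProduct.comm R A he.Corner) AlgEquiv.refl).trans <|
    (Algebra.TensorProduct.assoc R R R he.Corner A he.Cornerᵐᵒᵖ).trans <|
    Algebra.TensorProduct.congr AlgEquiv.refl e2

theorem main [ConnectedSpace (PrimeSpectrum R)] [IsAzumaya R A] :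
    ∃ (B : Type u) (_ : Ring B) (_ : Algebra R B) (_ : IsAzumaya R B) (P Q : Type u)
      (_ : AddCommGroup P) (_ : Module R P) (_ : AddCommGroup Q) (_ : Module R Q),
      (∀ b : B, IsIdempotentElem b → b = 0 ∨ b = 1) ∧ Module.Finite R P ∧ Module.Projective R P ∧
      FaithfulSMul R P ∧ Module.Finite R Q ∧ Module.Projective R Q ∧ FaithfulSMul R Q ∧
      Nonempty (A ⊗[R] Module.End R P ≃ₐ[R] B ⊗[R] Module.End R Q) := by
  have hRnt : Nontrivial R := by
    have : Nonempty (PrimeSpectrum R) := ConnectedSpace.toNonempty
    exact (PrimeSpectrum.nonempty_iff_nontrivial).1 this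
  have hAnt : Nontrivial A := by
    refine ⟨⟨1, 0, fun h => ?_⟩⟩
    have h1 : (1 : R) = 0 := by
      apply FaithfulSMul.eq_of_smul_eq_smul (α := A)
      intro a
      rw [one_smul, zero_smul, ← one_mul a, h, zero_mul]
    exact one_ne_zero h1
  obtain ⟨e, he, hne, hmin⟩ := exists_primitive (R := R) (A := A)
  have hBnt : Nontrivial he.Corner := ⟨⟨1, 0, fun h => hne (congrArg Subtype.val h)⟩⟩
  have hBf : FaithfulSMul R he.Corner := faithful_of_connected (R := R) (M := he.Corner)
  have hQfin := leftIdeal_finite (R := R) he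
  have hQproj := leftIdeal_projective (R := R) he
  have hQnt := leftIdeal_nontrivial he hne
  have hQf : FaithfulSMul R (leftIdeal e) := faithful_of_connected (R := R) (M := leftIdeal e)
  have hAz : IsAzumaya R he.Corner := { bij := corner_bij he }
  refine ⟨he.Corner, inferInstance, inferInstance, hAz, he.Corner, leftIdeal e, inferInstance,
    inferInstance, inferInstance, inferInstance, ?_, inferInstance, inferInstance, hBf, hQfin,
    hQproj, hQf, ⟨brauerEquiv he⟩⟩
  intro b hb
  have hb1 : IsIdempotentElem b.1 := by
    have := congrArg Subtype.val hb.eq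
    rwa [corner_val_mul] at this
  rcases hmin b.1 hb1 (corner_left he b) (corner_right he b) with h | h
  · left
    exact Subtype.ext h
  · right
    exact Subtype.ext h

end final

end Groth.Agent.Lib.T2H2.Corner
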