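import Mathlib
import Groth.Agent.Lib.Helper1BKF1
import Groth.Agent.Lib.Helper17KInjD1

/-!
# Acyclicity for `Hom(P, -)` of complexes whose maps from the shifts of `P` in the derived
category are computed in the homotopy category (T2H2)
-/

set_option autoImplicit false
set_option linter.style.haveILetI false

universe w v u

open CategoryTheory CategoryTheory.Limits HomologicalComplex Opposite

namespace Groth.Agent.Lib.T2H2.CoyonedaAcyc

open CochainComplex HomComplex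

variable {𝒜 : Type u} [Category.{v} 𝒜] [Abelian 𝒜] (P : 𝒜)

/-- the morphism of complexes `P[-m] ⟶ L` given by a cycle `P ⟶ L^m`. -/
noncomputable def fromS {L : CochainComplex 𝒜 ℤ} {m : ℤ} (x : P ⟶ L.X m)
    (hx : x ≫ L.d m (m + 1) = 0) : (CochainComplex.singleFunctor 𝒜 m).obj P ⟶ L :=
  Cocycle.homOf (Cocycle.fromSingleMk x (add_zero m) (m + 1) rfl hx)

lemma exists_fromS_eq {L : CochainComplex 𝒜 ℤ} {m : ℤ}
    (h : (CochainComplex.singleFunctor 𝒜 m).obj P ⟶ L) :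
    ∃ (x : P ⟶ L.X m) (hx : x ≫ L.d m (m + 1) = 0), fromS P x hx = h := by
  obtain ⟨x, hx, e⟩ := Cocycle.fromSingleMk_surjective (Cocycle.ofHom h) m (add_zero m)
    (m + 1) rfl
  exact ⟨x, hx, by rw [fromS, e, Cocycle.homOf_ofHom_eq_self]⟩

lemma fromS_comp {L L' : CochainComplex 𝒜 ℤ} {m : ℤ} (x : P ⟶ L.X m)
    (hx : x ≫ L.d m (m + 1) = 0) (q : L ⟶ L') :
    fromS P x hx ≫ q = fromS P (x ≫ q.f m) (by
      rw [Category.assoc, q.comm, ← Category.assoc, hx, zero_comp]) := by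
  rw [fromS, fromS, Cocycle.fromSingleMk_postcomp x (add_zero m) (m + 1) rfl hx q]
  ext i
  simp [Cocycle.postcomp]

lemma fromS_zero (L : CochainComplex 𝒜 ℤ) (m : ℤ) :
    fromS P (0 : P ⟶ L.X m) (by simp) = 0 := by
  rw [fromS, Cocycle.fromSingleMk_zero]
  ext i
  simp

lemma nonempty_homotopy_fromS_iff {L : CochainComplex 𝒜 ℤ} {m : ℤ} (x x' : P ⟶ L.X m)
    (hx : x ≫ L.d m (m + 1) = 0) (hx' : x' ≫ L.d m (m + 1) = 0) (m' : ℤ) (hm' : m' + 1 = m) :
    Nonempty (Homotopy (fromS P x hx) (fromS P x' hx')) ↔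
      ∃ b : P ⟶ L.X m', b ≫ L.d m' m = x - x' := by
  rw [← Cocycle.fromSingleMk_mem_coboundaries_iff (x - x') (add_zero m) (m + 1) rfl
    (by rw [Preadditive.sub_comp, hx, hx', sub_zero]) m' hm',
    Cocycle.fromSingleMk_sub x x' (add_zero m) (m + 1) rfl hx hx',
    mem_coboundaries_iff _ (-1) (by simp)]
  rw [(Cochain.equivHomotopy _ _).nonempty_congr]
  simp only [fromS, Cocycle.cochain_ofHom_homOf_eq_coe]
  constructor
  · rintro ⟨⟨z, hz⟩⟩
    refine ⟨z, ?_⟩
    rw [Cocycle.coe_sub, hz]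
    abel
  · rintro ⟨z, hz⟩
    refine ⟨⟨z, ?_⟩⟩
    rw [hz, Cocycle.coe_sub]
    abel

variable [HasDerivedCategory.{w} 𝒜]

/-- morphisms from the shifts of `P` to `C` in the derived category are computed in the homotopy
category. -/
structure Rep (C : CochainComplex 𝒜 ℤ) : Prop where
  surj : ∀ (m : ℤ) (ψ : (DerivedCategory.Q : _ ⥤ DerivedCategory 𝒜).obj
      ((CochainComplex.singleFunctor 𝒜 m).obj P) ⟶ DerivedCategory.Q.obj C),
    ∃ h : (CochainComplex.singleFunctor 𝒜 m).obj P ⟶ C, DerivedCategory.Q.map h = ψ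
  inj : ∀ (m : ℤ) (h h' : (CochainComplex.singleFunctor 𝒜 m).obj P ⟶ C),
    (DerivedCategory.Q : _ ⥤ DerivedCategory 𝒜).map h = DerivedCategory.Q.map h' →
      Nonempty (Homotopy h h')

lemma Rep.of_isKInjective (I : CochainComplex 𝒜 ℤ) [I.IsKInjective] : Rep P I where
  surj _ ψ := Groth.Agent.Lib.Helper17.KInj.exists_Q_map_eq ψ
  inj _ _ _ e := Groth.Agent.Lib.Helper17.KInj.homotopy_of_Q_map_eq e

open CochainComplex.mappingCone in
/-- cycles of `Hom(P, cone q)` are boundaries. -/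
theorem exists_of_cycle_cone {C I : CochainComplex 𝒜 ℤ} (q : C ⟶ I) [QuasiIso q]
    (hC : Rep P C) (hI : Rep P I) (n : ℤ) (s : P ⟶ (mappingCone q).X n)
    (hs : s ≫ (mappingCone q).d n (n + 1) = 0) :
    ∃ t : P ⟶ (mappingCone q).X (n - 1), t ≫ (mappingCone q).d (n - 1) n = s := by
  haveI : IsIso ((DerivedCategory.Q : _ ⥤ DerivedCategory 𝒜).map q) := by
    rw [DerivedCategory.isIso_Q_map_iff_quasiIso]
    infer_instance
  -- the two components of `s`
  obtain ⟨s₁, hs₁⟩ : ∃ s₁ : P ⟶ C.X (n + 1), s₁ = s ≫ (fst q).1.v n (n + 1) rfl := ⟨_, rfl⟩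
  obtain ⟨s₂, hs₂⟩ : ∃ s₂ : P ⟶ I.X n, s₂ = s ≫ (snd q).v n n (add_zero n) := ⟨_, rfl⟩
  have e₁ : s₁ ≫ C.d (n + 1) (n + 1 + 1) = 0 := by
    have := congrArg (fun φ => φ ≫ (fst q).1.v (n + 1) (n + 1 + 1) rfl) hs
    simp only [Category.assoc, zero_comp] at this
    rw [d_fst_v q n (n + 1) (n + 1 + 1) rfl rfl, Preadditive.comp_neg, neg_eq_zero,
      ← Category.assoc, ← hs₁] at this
    exact this
  have e₂ : s₁ ≫ q.f (n + 1) + s₂ ≫ I.d n (n + 1) = 0 := by
    have := congrArg (fun φ => φ ≫ (snd q).v (n + 1) (n + 1) (add_zero _)) hs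
    simp only [Category.assoc, zero_comp] at this
    rw [d_snd_v q n (n + 1) rfl, Preadditive.comp_add, ← Category.assoc, ← Category.assoc,
      ← hs₁, ← hs₂] at this
    exact this
  -- step 1: `s₁` is a boundary
  obtain ⟨a, ha⟩ : ∃ a : P ⟶ C.X n, a ≫ C.d n (n + 1) = s₁ := by
    have h1 : Nonempty (Homotopy (fromS P s₁ e₁ ≫ q) (fromS P 0 (by simp))) := by
      rw [fromS_comp, nonempty_homotopy_fromS_iff P _ _ _ _ n rfl]
      refine ⟨-s₂, ?_⟩
      rw [sub_zero, Preadditive.neg_comp, neg_eq_iff_add_eq_zero]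
      exact (add_comm _ _).trans e₂
    obtain ⟨H⟩ := h1
    have h2 : (DerivedCategory.Q : _ ⥤ DerivedCategory 𝒜).map (fromS P s₁ e₁) = 0 := by
      have h3 : (DerivedCategory.Q : _ ⥤ DerivedCategory 𝒜).map (fromS P s₁ e₁ ≫ q) = 0 := by
        rw [DerivedCategory.Q_map_eq_of_homotopy (h := H), fromS_zero, Functor.map_zero]
      rw [Functor.map_comp] at h3
      rw [← cancel_mono ((DerivedCategory.Q : _ ⥤ DerivedCategory 𝒜).map q), h3, zero_comp]
    have h4 := hC.inj (n + 1) (fromS P s₁ e₁) (fromS P 0 (by simp))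
      (by rw [h2, fromS_zero, Functor.map_zero])
    rw [nonempty_homotopy_fromS_iff P _ _ _ _ n rfl] at h4
    obtain ⟨a, ha⟩ := h4
    exact ⟨a, by rw [ha, sub_zero]⟩
  -- step 2
  have hz : (s₂ + a ≫ q.f n) ≫ I.d n (n + 1) = 0 := by
    rw [Preadditive.add_comp, Category.assoc, q.comm, ← Category.assoc, ha]
    exact (add_comm _ _).trans e₂
  obtain ⟨h, hh⟩ := hC.surj n ((DerivedCategory.Q : _ ⥤ DerivedCategory 𝒜).map
    (fromS P _ hz) ≫ inv (DerivedCategory.Q.map q))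
  obtain ⟨c, hc, rfl⟩ := exists_fromS_eq P h
  have h5 : (DerivedCategory.Q : _ ⥤ DerivedCategory 𝒜).map (fromS P c hc ≫ q) =
      DerivedCategory.Q.map (fromS P _ hz) := by
    rw [Functor.map_comp, hh, Category.assoc, IsIso.inv_hom_id, Category.comp_id]
  have h6 := hI.inj n _ _ h5
  rw [fromS_comp, nonempty_homotopy_fromS_iff P _ _ _ _ (n - 1) (by simp)] at h6
  obtain ⟨b, hb⟩ := h6
  refine ⟨(-a + c) ≫ (inl q).v n (n - 1) (by omega) + (-b) ≫ (inr q).f (n - 1), ?_⟩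
  apply ext_to q n (n + 1) rfl
  · rw [← hs₁, ← ha]
    simp [hc]
  · rw [← hs₂]
    simp
    rw [hb]
    abel

open Groth.Agent.Lib.Helper1.BKF in
/-- `Hom(P, -)` sends the quasi-isomorphism `q` to a quasi-isomorphism. -/
theorem quasiIso_coyoneda_map {C I : CochainComplex 𝒜 ℤ} (q : C ⟶ I) [QuasiIso q]
    (hC : Rep P C) (hI : Rep P I) :
    QuasiIso (((preadditiveCoyoneda.obj (op P)).mapHomologicalComplex (ComplexShape.up ℤ)).map q) := by
  apply quasiIso_of_acyc_cone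
  refine Acyc.of_iso (CochainComplex.mappingCone.mapHomologicalComplexIso q
    (preadditiveCoyoneda.obj (op P))) ?_
  rw [acyc_iff_acyclic]
  intro n
  rw [HomologicalComplex.exactAt_iff' _ (n - 1) n (n + 1) (by simp) (by simp),
    ShortComplex.ab_exact_iff]
  intro s hs
  exact exists_of_cycle_cone P q hC hI n s hs

open Groth.Agent.Lib.Helper1.BKF in
/-- a functor isomorphic to `Hom(P, -)` sends the quasi-isomorphism `q` to a quasi-isomorphism. -/
theorem quasiIso_map_of_iso_coyoneda (Γ : 𝒜 ⥤ AddCommGrpCat.{v}) [Γ.Additive]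
    (e : Γ ≅ preadditiveCoyoneda.obj (op P)) {C I : CochainComplex 𝒜 ℤ} (q : C ⟶ I) [QuasiIso q]
    (hC : Rep P C) (hI : Rep P I) :
    QuasiIso ((Γ.mapHomologicalComplex (ComplexShape.up ℤ)).map q) := by
  have h := quasiIso_coyoneda_map P q hC hI
  let E := NatIso.mapHomologicalComplex e (ComplexShape.up ℤ)
  have nat := E.hom.naturality q
  have h2 : (Γ.mapHomologicalComplex (ComplexShape.up ℤ)).map q =
      E.hom.app C ≫ ((preadditiveCoyoneda.obj (op P)).mapHomologicalComplex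
        (ComplexShape.up ℤ)).map q ≫ E.inv.app I := by
    rw [← Category.assoc, ← nat, Category.assoc, ← NatTrans.comp_app, E.hom_inv_id,
      NatTrans.id_app, Category.comp_id]
  rw [h2]
  infer_instance

end Groth.Agent.Lib.T2H2.CoyonedaAcyc
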