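import Mathlib
import Groth.Prelude.Def_W4stkflatp2Cpct
import Groth.Agent.Lib.T2H2LocFrac

/-!
# The category of compactifications: fractions (helper2)

Namespace `Groth.Agent.Lib.T2H2.CpctLoc`.
-/

set_option autoImplicit false
set_option linter.style.haveILetI false
set_option linter.unusedSectionVars false
universe u
open CategoryTheory CategoryTheory.Limits AlgebraicGeometry

namespace Groth.Agent.Lib.T2H2.CpctLoc

open Cpct

variable {S : Scheme.{u}}

theorem restr_ι {A B : Pair S} (f : A ⟶ B) :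
    restr f ≫ B.U.ι = A.U.ι ≫ (Pair.Hom.bar f).left := by
  simp [restr]

theorem isIso_map_iff {A B : Pair S} (f : A ⟶ B) :
    IsIso ((openFunctor S).map f) ↔ IsIso (restr f) := by
  rw [← ObjectProperty.isIso_hom_iff]
  change IsIso (openOver.map f) ↔ _
  constructor
  · intro h
    exact (inferInstance : IsIso ((Over.forget S).map (openOver.map f)))
  · intro h
    haveI : IsIso ((Over.forget S).map (openOver.map f)) := h
    exact isIso_of_reflects_iso _ (Over.forget S)

theorem isoOpen_eq : isoOpen S = LocFrac.WL (openFunctor S) := by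
  funext A B f
  apply propext
  rw [LocFrac.wl_iff, isIso_map_iff]
  rfl

/-- a mono with a section is an iso -/
theorem isIso_of_mono_of_section {C : Type*} [Category C] {X Y : C} (m : X ⟶ Y) [Mono m] (σ : Y ⟶ X)
    (h : σ ≫ m = 𝟙 Y) : IsIso m := by
  refine ⟨σ, ?_, h⟩
  rw [← cancel_mono m, Category.assoc, h, Category.comp_id, Category.id_comp]

/-- **Equalizing**. -/
theorem exists_equalizing (A B : Pair S) (f g : A ⟶ B) (h : restr f = restr g) :
    ∃ (A' : Pair S) (s : A' ⟶ A), IsIso (restr s) ∧ s ≫ f = s ≫ g := by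
  haveI : IsProper B.bar.hom := B.isProper
  haveI : IsProper A.bar.hom := A.isProper
  let E : Over S := equalizer (Pair.Hom.bar f) (Pair.Hom.bar g)
  let ι : E ⟶ A.bar := equalizer.ι (Pair.Hom.bar f) (Pair.Hom.bar g)
  haveI : IsClosedImmersion ι.left := isClosedImmersion_equalizer_ι_left _ _
  have hE : IsProper E.hom := by
    have : E.hom = ι.left ≫ A.bar.hom := (Over.w ι).symm
    rw [this]
    infer_instance
  let A' : Pair S :=
    { bar := E
      U := ι.left ⁻¹ᵁ A.U
      isProper := hE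
      isCompact := Scheme.Hom.isCompact_preimage ι.left A.isCompact }
  let s : A' ⟶ A := ⟨ι, fun x hx => hx⟩
  -- the lift of `A.U`
  have hcond : (Over.homMk A.U.ι : Over.mk (A.U.ι ≫ A.bar.hom) ⟶ A.bar) ≫ Pair.Hom.bar f =
      (Over.homMk A.U.ι : Over.mk (A.U.ι ≫ A.bar.hom) ⟶ A.bar) ≫ Pair.Hom.bar g := by
    ext1
    simp only [Over.comp_left, Over.homMk_left]
    rw [← restr_ι f, ← restr_ι g, h]
  let ℓ : Over.mk (A.U.ι ≫ A.bar.hom) ⟶ E := equalizer.lift _ hcond
  have hℓ : ℓ.left ≫ ι.left = A.U.ι := by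
    have h1 : ℓ ≫ ι = (Over.homMk A.U.ι : Over.mk (A.U.ι ≫ A.bar.hom) ⟶ A.bar) :=
      equalizer.lift_ι _ hcond
    have h2 := congrArg (fun k => k.left) h1
    exact h2
  have hrange : Set.range ℓ.left ⊆ Set.range A'.U.ι := by
    rintro _ ⟨a, rfl⟩
    rw [Scheme.Opens.range_ι]
    change ι.left (ℓ.left a) ∈ A.U
    rw [← Scheme.Hom.comp_apply, hℓ]
    exact a.2
  let σ : (A.U : Scheme.{u}) ⟶ (A'.U : Scheme.{u}) := IsOpenImmersion.lift A'.U.ι ℓ.left hrange
  have hσ : σ ≫ A'.U.ι = ℓ.left := IsOpenImmersion.lift_fac _ _ _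
  haveI : Mono (restr s) := by
    have h1 : restr s ≫ A.U.ι = A'.U.ι ≫ ι.left := restr_ι s
    haveI : Mono (A'.U.ι ≫ ι.left) := mono_comp _ _
    haveI : Mono (restr s ≫ A.U.ι) := by rw [h1]; infer_instance
    exact mono_of_mono (restr s) A.U.ι
  refine ⟨A', s, ?_, ?_⟩
  · refine isIso_of_mono_of_section (restr s) σ ?_
    rw [← cancel_mono A.U.ι, Category.assoc, restr_ι s, ← Category.assoc, hσ, Category.id_comp]
    exact hℓ
  · apply Pair.Hom.ext
    exact equalizer.condition _ _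

/-- **Fractions**: closure of the graph. -/
theorem exists_fraction [QuasiSeparatedSpace S] (A B : Pair S)
    (g : (openFunctor S).obj A ⟶ (openFunctor S).obj B) :
    ∃ (A' : Pair S) (s : A' ⟶ A) (f : A' ⟶ B), IsIso (restr s) ∧
      (openFunctor S).map s ≫ g = (openFunctor S).map f := by
  haveI : IsProper B.bar.hom := B.isProper
  haveI : IsProper A.bar.hom := A.isProper
  let g₀ : (A.U : Scheme.{u}) ⟶ (B.U : Scheme.{u}) := g.hom.left
  have hg₀ : g₀ ≫ B.U.ι ≫ B.bar.hom = A.U.ι ≫ A.bar.hom := Over.w g.hom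
  let P : Scheme.{u} := pullback A.bar.hom B.bar.hom
  let Γ : (A.U : Scheme.{u}) ⟶ P := pullback.lift A.U.ι (g₀ ≫ B.U.ι) (by
    rw [Category.assoc, hg₀])
  have hΓ1 : Γ ≫ pullback.fst A.bar.hom B.bar.hom = A.U.ι := pullback.lift_fst _ _ _
  have hΓ2 : Γ ≫ pullback.snd A.bar.hom B.bar.hom = g₀ ≫ B.U.ι := pullback.lift_snd _ _ _
  haveI : IsImmersion (Γ ≫ pullback.fst A.bar.hom B.bar.hom) := by rw [hΓ1]; infer_instance
  haveI : IsImmersion Γ := IsImmersion.of_comp Γ (pullback.fst A.bar.hom B.bar.hom)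
  haveI : CompactSpace (A.U : Scheme.{u}) := isCompact_iff_compactSpace.mp A.isCompact
  haveI : IsProper (pullback.fst A.bar.hom B.bar.hom ≫ A.bar.hom) := inferInstance
  haveI : QuasiSeparatedSpace P :=
    quasiSeparatedSpace_of_quasiSeparated (pullback.fst A.bar.hom B.bar.hom ≫ A.bar.hom)
  haveI : QuasiCompact Γ := inferInstance
  haveI : IsOpenImmersion Γ.toImage := inferInstance
  have hfac : Γ.toImage ≫ Γ.imageι = Γ := Γ.toImage_imageι
  let A' : Pair S :=
    { bar := Over.mk (Γ.imageι ≫ pullback.fst A.bar.hom B.bar.hom ≫ A.bar.hom)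
      U := Γ.toImage.opensRange
      isProper := by
        change IsProper (Γ.imageι ≫ pullback.fst A.bar.hom B.bar.hom ≫ A.bar.hom)
        infer_instance
      isCompact := by
        change IsCompact (Set.range Γ.toImage)
        exact isCompact_range Γ.toImage.continuous }
  let s : A' ⟶ A :=
    { bar := Over.homMk (Γ.imageι ≫ pullback.fst A.bar.hom B.bar.hom) (by simp [A'])
      le := by
        rintro _ ⟨a, rfl⟩
        change (Γ.imageι ≫ pullback.fst A.bar.hom B.bar.hom) (Γ.toImage a) ∈ A.U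
        rw [← Scheme.Hom.comp_apply, ← Category.assoc, hfac, hΓ1]
        exact a.2 }
  let f : A' ⟶ B :=
    { bar := Over.homMk (Γ.imageι ≫ pullback.snd A.bar.hom B.bar.hom) (by
        simp only [Over.mk_left, Over.mk_hom, A', Category.assoc]
        rw [pullback.condition])
      le := by
        rintro _ ⟨a, rfl⟩
        change (Γ.imageι ≫ pullback.snd A.bar.hom B.bar.hom) (Γ.toImage a) ∈ B.U
        rw [← Scheme.Hom.comp_apply, ← Category.assoc, hfac, hΓ2, Scheme.Hom.comp_apply]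
        exact (g₀ a).2 }
  let θ : (A.U : Scheme.{u}) ≅ (A'.U : Scheme.{u}) := Γ.toImage.isoOpensRange
  have hθ : θ.hom ≫ A'.U.ι = Γ.toImage := Γ.toImage.isoOpensRange_hom_ι
  have hs : θ.hom ≫ restr s = 𝟙 _ := by
    rw [← cancel_mono A.U.ι, Category.assoc, restr_ι s, Category.id_comp]
    change θ.hom ≫ A'.U.ι ≫ Γ.imageι ≫ pullback.fst A.bar.hom B.bar.hom = _
    rw [← Category.assoc, hθ, ← Category.assoc, hfac, hΓ1]
  have hs' : restr s = θ.inv := by
    rw [← cancel_epi θ.hom, hs, Iso.hom_inv_id]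
  refine ⟨A', s, f, by rw [hs']; infer_instance, ?_⟩
  apply ObjectProperty.hom_ext
  apply Over.OverMorphism.ext
  change restr s ≫ g₀ = restr f
  rw [← cancel_epi θ.hom, ← cancel_mono B.U.ι, ← Category.assoc, hs, Category.id_comp,
    Category.assoc, restr_ι f]
  change _ = θ.hom ≫ A'.U.ι ≫ Γ.imageι ≫ pullback.snd A.bar.hom B.bar.hom
  rw [← Category.assoc θ.hom, hθ, ← Category.assoc, hfac, hΓ2]

end Groth.Agent.Lib.T2H2.CpctLoc
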