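import Mathlib

/-!
# Subcomplexes given by submodules, and the Artin–Rees vanishing of `J^(n+m) ⊗ K ⟶ J^m ⊗ K` (helper2)
-/

set_option autoImplicit false
universe w u
open CategoryTheory MonoidalCategory Limits

namespace Groth.Agent.Lib.T2H2.IdealPowZero

variable {A : Type u} [CommRing A]

section Sub

variable (E : CochainComplex (ModuleCat.{u} A) ℤ) (N : ∀ i, Submodule A (E.X i))
    (hN : ∀ i j, N i ≤ (N j).comap (E.d i j).hom)

/-- the subcomplex of `E` given by a family of submodules stable under `d` -/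
def subCx : CochainComplex (ModuleCat.{u} A) ℤ where
  X i := ModuleCat.of A (N i)
  d i j := ModuleCat.ofHom ((E.d i j).hom.restrict (hN i j))
  shape i j h := by
    apply ModuleCat.hom_ext
    apply LinearMap.ext
    intro x
    apply Subtype.ext
    simp [E.shape i j h]
  d_comp_d' i j k _ _ := by
    apply ModuleCat.hom_ext
    apply LinearMap.ext
    intro x
    apply Subtype.ext
    exact congrArg (fun k => k.hom x.1) (E.d_comp_d i j k)

/-- the inclusion of a subcomplex -/
def subCxι : subCx E N hN ⟶ E where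
  f i := ModuleCat.ofHom (N i).subtype
  comm' i j _ := by
    apply ModuleCat.hom_ext
    apply LinearMap.ext
    intro x
    rfl

/-- lifting a chain map with values in the submodules -/
def subCxLift {F : CochainComplex (ModuleCat.{u} A) ℤ} (f : F ⟶ E)
    (hf : ∀ i (x : F.X i), (f.f i).hom x ∈ N i) : F ⟶ subCx E N hN where
  f i := ModuleCat.ofHom ((f.f i).hom.codRestrict (N i) (hf i))
  comm' i j _ := by
    apply ModuleCat.hom_ext
    apply LinearMap.ext
    intro x
    apply Subtype.ext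
    exact congrArg (fun k => k.hom x) (f.comm i j)

lemma subCxLift_ι {F : CochainComplex (ModuleCat.{u} A) ℤ} (f : F ⟶ E)
    (hf : ∀ i (x : F.X i), (f.f i).hom x ∈ N i) :
    subCxLift E N hN f hf ≫ subCxι E N hN = f := by
  apply HomologicalComplex.hom_ext
  intro i
  apply ModuleCat.hom_ext
  apply LinearMap.ext
  intro x
  rfl

lemma exactAt_subCx (q : ℤ)
    (h : ∀ x ∈ N q, (E.d q (q + 1)).hom x = 0 →
      ∃ y ∈ N (q - 1), (E.d (q - 1) q).hom y = x) :
    (subCx E N hN).ExactAt q := by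
  rw [HomologicalComplex.exactAt_iff' _ (q - 1) q (q + 1) (by simp) (by simp),
    ShortComplex.moduleCat_exact_iff]
  intro x hx
  obtain ⟨y, hy, hyx⟩ := h x.1 x.2 (congrArg Subtype.val hx)
  exact ⟨⟨y, hy⟩, Subtype.ext hyx⟩

end Sub

/-- acyclic complexes are zero in the derived category -/
lemma isZero_Q_obj_of_exactAt {C : Type*} [Category C] [Abelian C] [HasDerivedCategory.{w} C]
    (K : CochainComplex C ℤ) (h : ∀ i, K.ExactAt i) :
    IsZero (DerivedCategory.Q.obj K) := by
  have h' : ∀ i, IsZero (K.homology i) := fun i =>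
    (HomologicalComplex.exactAt_iff_isZero_homology K i).1 (h i)
  have hq : QuasiIso (0 : K ⟶ K) := by
    rw [quasiIso_iff]
    intro i
    rw [quasiIsoAt_iff_isIso_homologyMap]
    exact ⟨⟨0, (h' i).eq_of_src _ _, (h' i).eq_of_src _ _⟩⟩
  have hi : IsIso (DerivedCategory.Q.map (0 : K ⟶ K)) :=
    (DerivedCategory.isIso_Q_map_iff_quasiIso (φ := (0 : K ⟶ K))).2 hq
  rw [Functor.map_zero] at hi
  rw [IsZero.iff_id_eq_zero]
  have := IsIso.hom_inv_id (0 : DerivedCategory.Q.obj K ⟶ DerivedCategory.Q.obj K)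
  rw [zero_comp] at this
  exact this.symm

section Mu

variable (I : Ideal A) (M : Type u) [AddCommGroup M] [Module A M]

/-- the multiplication map `I ⊗ M ⟶ M` -/
noncomputable def mu : TensorProduct A I M →ₗ[A] M :=
  (TensorProduct.lid A M).toLinearMap ∘ₗ (LinearMap.rTensor M (Submodule.subtype I))

@[simp]
lemma mu_tmul (r : I) (x : M) : mu I M (r ⊗ₜ x) = (r : A) • x := by
  simp [mu]

lemma mu_injective [Module.Flat A M] : Function.Injective (mu I M) := by
  unfold mu
  rw [LinearMap.coe_comp]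
  exact (TensorProduct.lid A M).injective.comp
    (Module.Flat.rTensor_preserves_injective_linearMap _ Subtype.val_injective)

lemma mu_mem (t : TensorProduct A I M) : mu I M t ∈ I • (⊤ : Submodule A M) := by
  induction t using TensorProduct.induction_on with
  | zero => simp
  | tmul r x =>
    rw [mu_tmul]
    exact Submodule.smul_mem_smul r.2 trivial
  | add a b ha hb =>
    rw [map_add]
    exact add_mem ha hb

lemma exists_mu_eq (y : M) (hy : y ∈ I • (⊤ : Submodule A M)) : ∃ t, mu I M t = y := by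
  refine Submodule.smul_induction_on hy (fun r hr x _ => ⟨(⟨r, hr⟩ : I) ⊗ₜ x, mu_tmul ..⟩) ?_
  rintro a b ⟨s, hs⟩ ⟨t, ht⟩
  exact ⟨s + t, by rw [map_add, hs, ht]⟩

variable {M} in
lemma mu_lTensor {M' : Type u} [AddCommGroup M'] [Module A M'] (f : M →ₗ[A] M')
    (t : TensorProduct A I M) : mu I M' (LinearMap.lTensor I f t) = f (mu I M t) := by
  induction t using TensorProduct.induction_on with
  | zero => simp
  | tmul r x => simp
  | add a b ha hb => simp only [map_add, ha, hb]

variable {I} in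
lemma mu_rTensor {I' : Ideal A} (h : I ≤ I') (t : TensorProduct A I M) :
    mu I' M (LinearMap.rTensor M (Submodule.inclusion h) t) = mu I M t := by
  induction t using TensorProduct.induction_on with
  | zero => simp
  | tmul r x => simp
  | add a b ha hb => simp only [map_add, ha, hb]

end Mu

section Main

variable (K : CochainComplex (ModuleCat.{u} A) ℤ) (J : Ideal A)

/-- cycles of `K` -/
def Zc (q : ℤ) : Submodule A (K.X q) := LinearMap.ker (K.d q (q + 1)).hom

lemma exists_d_eq_smul (hJ : ∀ q : ℤ, ∀ x ∈ J, ∀ c : ↑(K.homology q), x • c = 0)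
    (q : ℤ) (r : A) (hr : r ∈ J) (z : K.X q) (hz : (K.d q (q + 1)).hom z = 0) :
    ∃ y : K.X (q - 1), (K.d (q - 1) q).hom y = r • z := by
  let S := K.sc' (q - 1) q (q + 1)
  let e : K.homology q ≅ S.moduleCatLeftHomologyData.H :=
    ShortComplex.homologyMapIso (K.isoSc' (q - 1) q (q + 1) (by simp) (by simp)) ≪≫
      S.moduleCatHomologyIso
  let z' : LinearMap.ker S.g.hom := ⟨z, LinearMap.mem_ker.2 hz⟩
  let w : S.moduleCatLeftHomologyData.H := (LinearMap.range S.moduleCatToCycles).mkQ z'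
  have h1 := hJ q r hr (e.inv.hom w)
  have h2 := congrArg e.hom.hom h1
  rw [map_smul, map_zero] at h2
  have h3 : e.hom.hom (e.inv.hom w) = w := by
    rw [← LinearMap.comp_apply, ← ModuleCat.hom_comp, e.inv_hom_id]
    rfl
  rw [h3] at h2
  have h4 : r • w = (LinearMap.range S.moduleCatToCycles).mkQ (r • z') := (map_smul _ _ _).symm
  rw [h4] at h2
  have h5 : r • z' ∈ LinearMap.range S.moduleCatToCycles :=
    (Submodule.Quotient.mk_eq_zero (LinearMap.range S.moduleCatToCycles)).1 h2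
  obtain ⟨y, hy⟩ := h5
  exact ⟨y, congrArg Subtype.val hy⟩

lemma exists_AR [IsNoetherianRing A] (M : Type u) [AddCommGroup M] [Module A M] [Module.Finite A M]
    (N : Submodule A M) :
    ∃ c : ℕ, ∀ n : ℕ, J ^ (n + c) • (⊤ : Submodule A M) ⊓ N ≤ J ^ n • N := by
  obtain ⟨k, hk⟩ := Ideal.exists_pow_inf_eq_pow_smul J N
  refine ⟨k, fun n => ?_⟩
  rw [hk (n + k) (Nat.le_add_left k n), Nat.add_sub_cancel]
  exact Submodule.smul_mono le_rfl inf_le_right

lemma exists_AR_uniform [IsNoetherianRing A] (a b : ℤ) (hfin : ∀ q : ℤ, Module.Finite A (K.X q)) :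
    ∃ c : ℕ, ∀ q : ℤ, a ≤ q → q ≤ b → ∀ n : ℕ,
      J ^ (n + c) • (⊤ : Submodule A (K.X q)) ⊓ Zc K q ≤ J ^ n • Zc K q := by
  have h := fun q : ℤ => (have := hfin q; exists_AR J (K.X q) (Zc K q))
  choose c hc using h
  refine ⟨∑ q ∈ Finset.Icc a b, c q, fun q ha hb n => ?_⟩
  have hle : c q ≤ ∑ q ∈ Finset.Icc a b, c q :=
    Finset.single_le_sum (f := c) (fun _ _ => Nat.zero_le _) (Finset.mem_Icc.2 ⟨ha, hb⟩)
  exact le_trans (inf_le_inf_right _
    (Submodule.smul_mono_left (Ideal.pow_le_pow_right (by lia)))) (hc q n)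

lemma exists_preimage (hJ : ∀ q : ℤ, ∀ x ∈ J, ∀ c : ↑(K.homology q), x • c = 0)
    (q : ℤ) (c : ℕ)
    (hc : ∀ n : ℕ, J ^ (n + c) • (⊤ : Submodule A (K.X q)) ⊓ Zc K q ≤ J ^ n • Zc K q)
    (n : ℕ) (z : K.X q) (hz : (K.d q (q + 1)).hom z = 0)
    (hz' : z ∈ J ^ (n + (c + 1)) • (⊤ : Submodule A (K.X q))) :
    ∃ y ∈ J ^ n • (⊤ : Submodule A (K.X (q - 1))), (K.d (q - 1) q).hom y = z := by
  have h1 : z ∈ J ^ (n + 1) • Zc K q :=
    hc (n + 1) ⟨by rwa [show n + 1 + c = n + (c + 1) by ring], LinearMap.mem_ker.2 hz⟩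
  have h2 : J • Zc K q ≤ LinearMap.range (K.d (q - 1) q).hom := by
    rw [Submodule.smul_le]
    intro r hr z hz
    obtain ⟨y, hy⟩ := exists_d_eq_smul K J hJ q r hr z (LinearMap.mem_ker.1 hz)
    exact ⟨y, hy⟩
  have h3 : J ^ (n + 1) • Zc K q ≤
      Submodule.map (K.d (q - 1) q).hom (J ^ n • (⊤ : Submodule A (K.X (q - 1)))) := by
    rw [pow_succ, Submodule.mul_smul, Submodule.map_smul'', Submodule.map_top]
    exact Submodule.smul_mono le_rfl h2
  obtain ⟨y, hy, hyz⟩ := h3 h1
  exact ⟨y, hy, hyz⟩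

/-- the tensored complex `J^k ⊗ K` -/
noncomputable abbrev T (k : ℕ) : CochainComplex (ModuleCat.{u} A) ℤ :=
  (((curriedTensor (ModuleCat.{u} A)).obj (ModuleCat.of A ↥(J ^ k))).mapHomologicalComplex
    (ComplexShape.up ℤ)).obj K

theorem Q_map_eq_zero [HasDerivedCategory.{w} (ModuleCat.{u} A)]
    (hflat : ∀ q : ℤ, Module.Flat A (K.X q))
    (m n : ℕ) (e : ℤ → ℕ) (he1 : ∀ q, m ≤ e q) (he2 : ∀ q, e q ≤ n + m)
    (hex : ∀ q : ℤ, ∀ z : K.X q, (K.d q (q + 1)).hom z = 0 →
      z ∈ J ^ (e q) • (⊤ : Submodule A (K.X q)) →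
      ∃ y ∈ J ^ (e (q - 1)) • (⊤ : Submodule A (K.X (q - 1))), (K.d (q - 1) q).hom y = z) :
    DerivedCategory.Q.map
      ((NatTrans.mapHomologicalComplex
        ((curriedTensor (ModuleCat.{u} A)).map
          (ModuleCat.ofHom (Submodule.inclusion (p := J ^ (n + m)) (p' := J ^ m)
            (Ideal.pow_le_pow_right (Nat.le_add_left m n)))))
        (ComplexShape.up ℤ)).app K) = 0 := by
  let W : ∀ q, Submodule A (K.X q) := fun q =>
    (J ^ (e q) • ⊤) ⊓ ⨅ j : ℤ, Submodule.comap (K.d q j).hom (J ^ (e j) • ⊤)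
  have hW : ∀ q (x : K.X q), x ∈ W q ↔ x ∈ J ^ (e q) • (⊤ : Submodule A (K.X q)) ∧
      ∀ j : ℤ, (K.d q j).hom x ∈ J ^ (e j) • (⊤ : Submodule A (K.X j)) := by
    intro q x
    simp only [W, Submodule.mem_inf, Submodule.mem_iInf, Submodule.mem_comap]
  let N : ∀ q, Submodule A ((T K J m).X q) := fun q =>
    Submodule.comap (mu (J ^ m) (K.X q)) (W q)
  have hd : ∀ (k : ℕ) (i j : ℤ) (t : (T K J k).X i),
      mu (J ^ k) (K.X j) (((T K J k).d i j).hom t) = (K.d i j).hom (mu (J ^ k) (K.X i) t) :=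
    fun k i j t => mu_lTensor (J ^ k) (K.d i j).hom t
  have hN : ∀ i j, N i ≤ (N j).comap ((T K J m).d i j).hom := by
    intro i j t ht
    have ht' : mu (J ^ m) (K.X i) t ∈ W i := ht
    rw [hW] at ht'
    show mu (J ^ m) (K.X j) (((T K J m).d i j).hom t) ∈ W j
    rw [hd, hW]
    refine ⟨ht'.2 j, fun k => ?_⟩
    have : (K.d j k).hom ((K.d i j).hom (mu (J ^ m) (K.X i) t)) = 0 :=
      congrArg (fun f => f.hom (mu (J ^ m) (K.X i) t)) (K.d_comp_d i j k)
    rw [this]
    exact zero_mem _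
  let ι := (NatTrans.mapHomologicalComplex
        ((curriedTensor (ModuleCat.{u} A)).map
          (ModuleCat.ofHom (Submodule.inclusion (p := J ^ (n + m)) (p' := J ^ m)
            (Ideal.pow_le_pow_right (Nat.le_add_left m n)))))
        (ComplexShape.up ℤ)).app K
  have hι : ∀ q (t : (T K J (n + m)).X q),
      mu (J ^ m) (K.X q) ((ι.f q).hom t) = mu (J ^ (n + m)) (K.X q) t :=
    fun q t => mu_rTensor (K.X q) (Ideal.pow_le_pow_right (Nat.le_add_left m n)) t
  have hf : ∀ i (x : (T K J (n + m)).X i), (ι.f i).hom x ∈ N i := by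
    intro i x
    show mu (J ^ m) (K.X i) ((ι.f i).hom x) ∈ W i
    rw [hι, hW]
    refine ⟨Submodule.smul_mono_left (Ideal.pow_le_pow_right (he2 i)) (mu_mem _ _ x), fun j => ?_⟩
    rw [← hd]
    exact Submodule.smul_mono_left (Ideal.pow_le_pow_right (he2 j)) (mu_mem _ _ _)
  have hz : IsZero (DerivedCategory.Q.obj (subCx (T K J m) N hN)) := by
    apply isZero_Q_obj_of_exactAt
    intro q
    apply exactAt_subCx
    intro x hx hdx
    have hx' : mu (J ^ m) (K.X q) x ∈ W q := hx
    rw [hW] at hx'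
    have hz1 : (K.d q (q + 1)).hom (mu (J ^ m) (K.X q) x) = 0 := by
      rw [← hd, hdx]
      exact map_zero (mu (J ^ m) (K.X (q + 1)))
    obtain ⟨y, hy, hyz⟩ := hex q _ hz1 hx'.1
    obtain ⟨y', hy'⟩ := exists_mu_eq (J ^ m) (K.X (q - 1)) y
      (Submodule.smul_mono_left (Ideal.pow_le_pow_right (he1 (q - 1))) hy)
    refine ⟨y', ?_, ?_⟩
    · show mu (J ^ m) (K.X (q - 1)) y' ∈ W (q - 1)
      rw [hy', hW]
      refine ⟨hy, fun j => ?_⟩
      by_cases hj : j = q
      · subst hj
        rw [hyz]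
        exact hx'.1
      · rw [K.shape (q - 1) j (by simp only [ComplexShape.up_Rel]; lia)]
        exact zero_mem _
    · have := hflat q
      apply mu_injective (J ^ m) (K.X q)
      rw [hd, hy', hyz]
  have hfac : ι = subCxLift (T K J m) N hN ι hf ≫ subCxι (T K J m) N hN :=
    (subCxLift_ι (T K J m) N hN ι hf).symm
  show DerivedCategory.Q.map ι = 0
  rw [hfac, Functor.map_comp, hz.eq_of_tgt (DerivedCategory.Q.map (subCxLift (T K J m) N hN ι hf)) 0,
    zero_comp]

theorem exists_pow_tensor_map_eq_zero [IsNoetherianRing A]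
    [HasDerivedCategory.{w} (ModuleCat.{u} A)] (a b : ℤ)
    (hK : ∀ q : ℤ, q < a ∨ b < q → Limits.IsZero (K.X q))
    (hfin : ∀ q : ℤ, Module.Finite A (K.X q)) (hproj : ∀ q : ℤ, Module.Projective A (K.X q))
    (hJ : ∀ q : ℤ, ∀ x ∈ J, ∀ c : ↑(K.homology q), x • c = 0) :
    ∃ n : ℕ, ∀ m : ℕ, 0 < m →
      DerivedCategory.Q.map
        ((NatTrans.mapHomologicalComplex
          ((curriedTensor (ModuleCat.{u} A)).map
            (ModuleCat.ofHom (Submodule.inclusion (p := J ^ (n + m)) (p' := J ^ m)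
              (Ideal.pow_le_pow_right (Nat.le_add_left m n)))))
          (ComplexShape.up ℤ)).app K) = 0 := by
  obtain ⟨c, hc⟩ := exists_AR_uniform K J a b hfin
  set L := (b - a + 2).toNat with hL
  refine ⟨L * (c + 1), fun m _ => ?_⟩
  have hflat : ∀ q : ℤ, Module.Flat A (K.X q) := fun q => by
    have := hproj q
    infer_instance
  refine Q_map_eq_zero K J hflat m (L * (c + 1))
    (fun q => m + min (q - a + 1).toNat L * (c + 1)) (fun q => Nat.le_add_right _ _)
    (fun q => ?_) ?_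
  · rw [add_comm]
    exact Nat.add_le_add_right (Nat.mul_le_mul_right _ (min_le_right _ _)) _
  · intro q z hz hz'
    by_cases hq : a ≤ q ∧ q ≤ b
    · obtain ⟨hqa, hqb⟩ := hq
      refine exists_preimage K J hJ q c (hc q hqa hqb) _ z hz ?_
      refine Submodule.smul_mono_left (Ideal.pow_le_pow_right ?_) hz'
      have h1 : min (q - 1 - a + 1).toNat L + 1 ≤ min (q - a + 1).toNat L := by
        rw [hL]
        lia
      calc m + min (q - 1 - a + 1).toNat L * (c + 1) + (c + 1)
          = m + (min (q - 1 - a + 1).toNat L + 1) * (c + 1) := by ring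
        _ ≤ m + min (q - a + 1).toNat L * (c + 1) :=
            Nat.add_le_add_left (Nat.mul_le_mul_right _ h1) _
    · have hzero : IsZero (K.X q) := hK q (by lia)
      have hz0 : z = 0 := by
        have : Subsingleton (K.X q) := ModuleCat.subsingleton_of_isZero hzero
        exact Subsingleton.elim _ _
      exact ⟨0, zero_mem _, by rw [map_zero, hz0]⟩

end Main

end Groth.Agent.Lib.T2H2.IdealPowZero
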