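import Mathlib
import Groth.Agent.Lib.T2H2IdealPowZero

/-!
# Kill systems: uniform vanishing of `T(I^n M ⟶ M)` for middle-exact functors killed by `I` (helper2)

A `KillSys A` is a class `Z` of morphisms of `A`-modules ("the morphisms sent to zero by some family of
additive functors `T`, covariant or contravariant, exact in the middle on short exact sequences").
If every `f ∈ I` acts as zero (`Z (f • 𝟙 X)` for all `X`), `A` is Noetherian and `M` is finite, then
`Z (I^n M ⟶ M)` for some `n > 0` (`KillSys.exists_pow`).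
-/

set_option autoImplicit false
universe u
open CategoryTheory CategoryTheory.Limits

namespace Groth.Agent.Lib.T2H2.Kill

variable {A : Type u} [CommRing A]

/-- a class of morphisms behaving like the kernel of a middle-exact family of additive functors -/
structure KillSys (A : Type u) [CommRing A] where
  /-- the morphisms that are killed -/
  Z : ∀ {X Y : ModuleCat.{u} A}, (X ⟶ Y) → Prop
  zero : ∀ (X Y : ModuleCat.{u} A), Z (0 : X ⟶ Y)
  comp_left : ∀ {X Y W : ModuleCat.{u} A} (φ : X ⟶ Y) {ψ : Y ⟶ W}, Z ψ → Z (φ ≫ ψ)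
  comp_right : ∀ {X Y W : ModuleCat.{u} A} {φ : X ⟶ Y} (ψ : Y ⟶ W), Z φ → Z (φ ≫ ψ)
  exact : ∀ (S : ShortComplex (ModuleCat.{u} A)) (_ : S.ShortExact) {W M : ModuleCat.{u} A}
    (φ : W ⟶ S.X₂) (ψ : S.X₂ ⟶ M), Z (φ ≫ S.g) → Z (S.f ≫ ψ) → Z (φ ≫ ψ)

variable (K : KillSys A)

/-- `f` acts as zero -/
def KillSys.Kills (f : A) : Prop := ∀ X : ModuleCat.{u} A, K.Z (f • 𝟙 X)

lemma Z_of_isZero_src {X Y : ModuleCat.{u} A} (φ : X ⟶ Y) (hX : IsZero X) : K.Z φ := by
  have : φ = 0 := hX.eq_of_src _ _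
  rw [this]
  exact K.zero X Y

lemma Z_of_exact_id (S : ShortComplex (ModuleCat.{u} A)) (hS : S.ShortExact)
    {W : ModuleCat.{u} A} (φ : W ⟶ S.X₂) (hf : K.Z S.f) (h : K.Z (φ ≫ S.g)) : K.Z φ := by
  have h1 := K.exact S hS φ (𝟙 S.X₂) h (by rw [Category.comp_id]; exact hf)
  rwa [Category.comp_id] at h1

section Modules

variable {M : Type u} [AddCommGroup M] [Module A M]

lemma Z_of_le {S S' : Submodule A M} (h : S ≤ S') (h' : K.Z (ModuleCat.ofHom S'.subtype)) :
    K.Z (ModuleCat.ofHom S.subtype) := by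
  have : ModuleCat.ofHom S.subtype =
      ModuleCat.ofHom (Submodule.inclusion h) ≫ ModuleCat.ofHom S'.subtype := rfl
  rw [this]
  exact K.comp_left _ h'

/-- modules killed by a power of `f`: reduce from `I' ⊔ (f)` to `I'` -/
lemma Z_incl_of_killed (I' : Ideal A) (f : A) (c n' : ℕ) (hX : ∀ x : M, f ^ c • x = 0)
    (h : K.Z (ModuleCat.ofHom (I' ^ n' • ⊤ : Submodule A M).subtype)) :
    K.Z (ModuleCat.ofHom ((I' ⊔ Ideal.span {f}) ^ (n' + c) • ⊤ : Submodule A M).subtype) := by
  refine Z_of_le K ?_ h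
  refine le_trans (Submodule.smul_mono_left Ideal.sup_pow_add_le_pow_sup_pow) ?_
  rw [Submodule.sup_smul, Ideal.span_singleton_pow]
  refine sup_le le_rfl ?_
  rw [Submodule.smul_le]
  intro r hr x _
  obtain ⟨a, rfl⟩ := Ideal.mem_span_singleton'.1 hr
  rw [mul_smul, hX, smul_zero]
  exact zero_mem _

end Modules

section TorsionFree

variable (M : Type u) [AddCommGroup M] [Module A M] (f : A)

/-- multiplication by `f` -/
abbrev mulF : M →ₗ[A] M := LinearMap.lsmul A M f

/-- the quotient `M / fM` -/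
abbrev QuotF : Type u := M ⧸ LinearMap.range (mulF M f)

lemma smul_quotF (y : QuotF M f) : f ^ 1 • y = 0 := by
  obtain ⟨x, rfl⟩ := Submodule.mkQ_surjective _ y
  rw [pow_one, ← map_smul, Submodule.mkQ_apply, Submodule.Quotient.mk_eq_zero]
  exact ⟨x, rfl⟩

/-- the short exact sequence `0 → M → M → M/fM → 0` for `f` a nonzerodivisor on `M` -/
noncomputable def scF : ShortComplex (ModuleCat.{u} A) :=
  ShortComplex.mk (ModuleCat.ofHom (mulF M f))
    (ModuleCat.ofHom (LinearMap.range (mulF M f)).mkQ) (by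
      apply ModuleCat.hom_ext
      apply LinearMap.ext
      intro x
      show (LinearMap.range (mulF M f)).mkQ (mulF M f x) = 0
      rw [Submodule.mkQ_apply, Submodule.Quotient.mk_eq_zero]
      exact ⟨x, rfl⟩)

lemma scF_shortExact (hf : ∀ x : M, f • x = 0 → x = 0) : (scF M f).ShortExact where
  exact := by
    rw [ShortComplex.moduleCat_exact_iff]
    intro x hx
    have hx' : (LinearMap.range (mulF M f)).mkQ x = 0 := hx
    rw [Submodule.mkQ_apply, Submodule.Quotient.mk_eq_zero] at hx'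
    exact hx'
  mono_f := by
    rw [ModuleCat.mono_iff_injective]
    intro x y hxy
    have h1 : f • x = f • y := hxy
    have h2 : f • (x - y) = 0 := by rw [smul_sub, h1, sub_self]
    exact sub_eq_zero.1 (hf _ h2)
  epi_g := by
    rw [ModuleCat.epi_iff_surjective]
    exact Submodule.mkQ_surjective _

lemma scF_f_eq : (scF M f).f = f • 𝟙 (ModuleCat.of A M) := rfl

variable {M f} in
lemma Z_incl_of_torsionFree (hN : K.Kills f) (hf : ∀ x : M, f • x = 0 → x = 0)
    (I : Ideal A) (n : ℕ)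
    (h : K.Z (ModuleCat.ofHom (I ^ n • ⊤ : Submodule A (QuotF M f)).subtype)) :
    K.Z (ModuleCat.ofHom (I ^ n • ⊤ : Submodule A M).subtype) := by
  refine Z_of_exact_id K (scF M f) (scF_shortExact M f hf) _ ?_ ?_
  · rw [scF_f_eq]
    exact hN _
  · have hmem : ∀ x ∈ (I ^ n • ⊤ : Submodule A M),
        (LinearMap.range (mulF M f)).mkQ x ∈ (I ^ n • ⊤ : Submodule A (QuotF M f)) := by
      intro x hx
      have h1 : (LinearMap.range (mulF M f)).mkQ x ∈
          Submodule.map (LinearMap.range (mulF M f)).mkQ (I ^ n • ⊤ : Submodule A M) :=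
        Submodule.mem_map_of_mem hx
      rw [Submodule.map_smul''] at h1
      exact Submodule.smul_mono le_rfl le_top h1
    exact K.comp_left (ModuleCat.ofHom ((LinearMap.range (mulF M f)).mkQ.restrict hmem)) h

end TorsionFree

section General

variable {M : Type u} [AddCommGroup M] [Module A M]

lemma mkQ_mem_smul_top (M' : Submodule A M) (J : Ideal A) (x : M)
    (hx : x ∈ (J • ⊤ : Submodule A M)) : M'.mkQ x ∈ (J • ⊤ : Submodule A (M ⧸ M')) := by
  have h1 : M'.mkQ x ∈ Submodule.map M'.mkQ (J • ⊤ : Submodule A M) :=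
    Submodule.mem_map_of_mem hx
  rw [Submodule.map_smul''] at h1
  exact Submodule.smul_mono le_rfl le_top h1

lemma exists_mkQ_eq (M' : Submodule A M) (J : Ideal A) (y : M ⧸ M')
    (hy : y ∈ (J • ⊤ : Submodule A (M ⧸ M'))) : ∃ x ∈ (J • ⊤ : Submodule A M), M'.mkQ x = y := by
  have h1 : (J • ⊤ : Submodule A (M ⧸ M')) = Submodule.map M'.mkQ (J • ⊤ : Submodule A M) := by
    rw [Submodule.map_smul'', Submodule.map_top, Submodule.range_mkQ]
  rw [h1] at hy
  exact hy

/-- the formal combination step -/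
theorem Z_incl_of_sub_quot (I : Ideal A) (M' : Submodule A M) (k na nb : ℕ)
    (X : Type u) [AddCommGroup X] [Module A X]
    (ρ : ↥(I ^ k • ⊤ : Submodule A M) →ₗ[A] X) (hρsurj : Function.Surjective ρ)
    (hker : ∀ x : ↥(I ^ k • ⊤ : Submodule A M), ρ x = 0 → x.1 ∈ M')
    (ha : K.Z (ModuleCat.ofHom (I ^ na • ⊤ : Submodule A ↥M').subtype))
    (hAR : (I ^ k • ⊤ : Submodule A M) ⊓ M' ≤ I ^ na • M')
    (hb : K.Z (ModuleCat.ofHom (I ^ nb • ⊤ : Submodule A X).subtype)) :
    K.Z (ModuleCat.ofHom (I ^ (nb + k) • ⊤ : Submodule A M).subtype) := by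
  let Ks : Submodule A M := I ^ k • ⊤
  let L : Submodule A ↥Ks := LinearMap.ker ρ
  let S : ShortComplex (ModuleCat.{u} A) :=
    ShortComplex.mk (ModuleCat.ofHom L.subtype) (ModuleCat.ofHom ρ) (by
      apply ModuleCat.hom_ext
      apply LinearMap.ext
      intro x
      exact x.2)
  have hS : S.ShortExact :=
    { exact := by
        rw [ShortComplex.moduleCat_exact_iff]
        intro x hx
        exact ⟨⟨x, hx⟩, rfl⟩
      mono_f := by
        rw [ModuleCat.mono_iff_injective]
        exact Subtype.val_injective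
      epi_g := by
        rw [ModuleCat.epi_iff_surjective]
        exact hρsurj }
  have hle : (I ^ (nb + k) • ⊤ : Submodule A M) ≤ Ks :=
    Submodule.smul_mono_left (Ideal.pow_le_pow_right (Nat.le_add_left k nb))
  -- (a)
  have hθ : ∀ y : ↥(I ^ (nb + k) • ⊤ : Submodule A M),
      ρ (Submodule.inclusion hle y) ∈ (I ^ nb • ⊤ : Submodule A X) := by
    have hsub : (I ^ (nb + k) • ⊤ : Submodule A M) ≤
        Submodule.map Ks.subtype (Submodule.comap ρ (I ^ nb • ⊤ : Submodule A X)) := by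
      rw [pow_add, Submodule.mul_smul, Submodule.smul_le]
      intro r hr z hz
      refine ⟨r • ⟨z, hz⟩, ?_, rfl⟩
      show ρ (r • ⟨z, hz⟩) ∈ (I ^ nb • ⊤ : Submodule A X)
      rw [map_smul]
      exact Submodule.smul_mem_smul hr trivial
    intro y
    obtain ⟨w, hw, hwy⟩ := hsub y.2
    have : w = Submodule.inclusion hle y := Subtype.ext hwy
    rw [← this]
    exact hw
  have hA : K.Z (ModuleCat.ofHom (Submodule.inclusion hle) ≫ ModuleCat.ofHom ρ) := by
    have : ModuleCat.ofHom (Submodule.inclusion hle) ≫ ModuleCat.ofHom ρ =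
        ModuleCat.ofHom ((ρ.comp (Submodule.inclusion hle)).codRestrict
          (I ^ nb • ⊤ : Submodule A X) hθ) ≫
          ModuleCat.ofHom (I ^ nb • ⊤ : Submodule A X).subtype := rfl
    rw [this]
    exact K.comp_left _ hb
  -- (c)
  let j : ↥(I ^ na • ⊤ : Submodule A ↥M') →ₗ[A] M :=
    M'.subtype.comp (I ^ na • ⊤ : Submodule A ↥M').subtype
  have hj : Function.Injective j := Subtype.val_injective.comp Subtype.val_injective
  have hjrange : LinearMap.range j = I ^ na • M' := by
    rw [LinearMap.range_comp, Submodule.range_subtype, Submodule.map_smul'',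
      Submodule.map_subtype_top]
  have hLmem : ∀ l : ↥L, (Ks.subtype.comp L.subtype) l ∈ LinearMap.range j := by
    intro l
    rw [hjrange]
    refine hAR ⟨l.1.2, ?_⟩
    exact hker l.1 l.2
  let ψ : ↥L →ₗ[A] ↥(I ^ na • ⊤ : Submodule A ↥M') :=
    (LinearEquiv.ofInjective j hj).symm.toLinearMap.comp
      ((Ks.subtype.comp L.subtype).codRestrict (LinearMap.range j) hLmem)
  have hψ : ∀ l : ↥L, j (ψ l) = l.1.1 := by
    intro l
    have := (LinearEquiv.ofInjective j hj).apply_symm_apply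
      (((Ks.subtype.comp L.subtype).codRestrict (LinearMap.range j) hLmem) l)
    exact congrArg Subtype.val this
  have hC : K.Z (ModuleCat.ofHom L.subtype ≫ ModuleCat.ofHom Ks.subtype) := by
    have : ModuleCat.ofHom L.subtype ≫ ModuleCat.ofHom Ks.subtype =
        ModuleCat.ofHom ψ ≫ (ModuleCat.ofHom (I ^ na • ⊤ : Submodule A ↥M').subtype ≫
          ModuleCat.ofHom M'.subtype) := by
      apply ModuleCat.hom_ext
      apply LinearMap.ext
      intro l
      exact (hψ l).symm
    rw [this]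
    exact K.comp_left _ (K.comp_right _ ha)
  -- conclusion
  exact K.exact S hS (ModuleCat.ofHom (Submodule.inclusion hle)) (ModuleCat.ofHom Ks.subtype) hA hC

end General

section Induction

variable [IsNoetherianRing A]

/-- stabilization of `f`-power torsion -/
lemma exists_ker_pow_stable (M : Type u) [AddCommGroup M] [Module A M] [Module.Finite A M]
    (f : A) :
    ∃ c : ℕ, ∀ m, c ≤ m →
      LinearMap.ker (mulF M (f ^ c)) = LinearMap.ker (mulF M (f ^ m)) := by
  have : IsNoetherian A M := isNoetherian_of_isNoetherianRing_of_finite A M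
  let g : ℕ →o Submodule A M := ⟨fun k => LinearMap.ker (mulF M (f ^ k)), by
    intro k k' hkk x hx
    have hx' : f ^ k • x = 0 := hx
    show f ^ k' • x = 0
    obtain ⟨d, rfl⟩ := Nat.exists_eq_add_of_le hkk
    rw [pow_add, mul_comm, mul_smul, hx', smul_zero]⟩
  exact monotone_stabilizes_iff_noetherian.2 this g

/-- the property to be proved, for all finite modules -/
def P (I : Ideal A) : Prop :=
  ∀ (M : Type u) [AddCommGroup M] [Module A M] [Module.Finite A M],
    ∃ n : ℕ, 0 < n ∧ K.Z (ModuleCat.ofHom (I ^ n • ⊤ : Submodule A M).subtype)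

theorem P_step (I' : Ideal A) (f : A) (hN : K.Kills f) (hI' : P K I') :
    P K (I' ⊔ Ideal.span {f}) := by
  have h1 : ∀ (X : Type u) [AddCommGroup X] [Module A X] [Module.Finite A X] (c : ℕ),
      (∀ x : X, f ^ c • x = 0) → ∃ n : ℕ, 0 < n ∧
        K.Z (ModuleCat.ofHom ((I' ⊔ Ideal.span {f}) ^ n • ⊤ : Submodule A X).subtype) := by
    intro X _ _ _ c hX
    obtain ⟨n', hn', h⟩ := hI' X
    exact ⟨n' + c, by lia, Z_incl_of_killed K I' f c n' hX h⟩
  have h2 : ∀ (X : Type u) [AddCommGroup X] [Module A X] [Module.Finite A X],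
      (∀ x : X, f • x = 0 → x = 0) → ∃ n : ℕ, 0 < n ∧
        K.Z (ModuleCat.ofHom ((I' ⊔ Ideal.span {f}) ^ n • ⊤ : Submodule A X).subtype) := by
    intro X _ _ _ hf
    obtain ⟨n, hn, h⟩ := h1 (QuotF X f) 1 (smul_quotF X f)
    exact ⟨n, hn, Z_incl_of_torsionFree K hN hf _ n h⟩
  intro M _ _ _
  have hnoeth : IsNoetherian A M := isNoetherian_of_isNoetherianRing_of_finite A M
  obtain ⟨c, hc⟩ := exists_ker_pow_stable M f
  set I : Ideal A := I' ⊔ Ideal.span {f} with hI
  let M' : Submodule A M := LinearMap.ker (mulF M (f ^ c))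
  obtain ⟨na, hna, ha⟩ := h1 ↥M' c (fun x => Subtype.ext (x.2 : f ^ c • x.1 = 0))
  obtain ⟨c', hc'⟩ := Groth.Agent.Lib.T2H2.IdealPowZero.exists_AR I M M'
  have htf : ∀ y : M ⧸ M', f • y = 0 → y = 0 := by
    intro y hy
    obtain ⟨x, rfl⟩ := Submodule.mkQ_surjective _ y
    rw [← map_smul, Submodule.mkQ_apply, Submodule.Quotient.mk_eq_zero] at hy
    have hy' : f ^ c • (f • x) = 0 := hy
    have h3 : x ∈ LinearMap.ker (mulF M (f ^ (c + 1))) := by
      show f ^ (c + 1) • x = 0
      rw [pow_succ, mul_smul]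
      exact hy'
    rw [← hc (c + 1) (Nat.le_succ c)] at h3
    rw [Submodule.mkQ_apply, Submodule.Quotient.mk_eq_zero]
    exact h3
  let Xs : Submodule A (M ⧸ M') := I ^ (na + c') • ⊤
  obtain ⟨nb, hnb, hb⟩ := h2 ↥Xs (fun y hy => by
    have h3 : f • y.1 = 0 := congrArg Subtype.val hy
    exact Subtype.ext (htf y.1 h3))
  let ρ : ↥(I ^ (na + c') • ⊤ : Submodule A M) →ₗ[A] ↥Xs :=
    M'.mkQ.restrict (fun x hx => mkQ_mem_smul_top M' (I ^ (na + c')) x hx)
  refine ⟨nb + (na + c'), by lia, Z_incl_of_sub_quot K I M' (na + c') na nb ↥Xs ρ ?_ ?_ ha ?_ hb⟩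
  · intro y
    obtain ⟨x, hx, hxy⟩ := exists_mkQ_eq M' (I ^ (na + c')) y.1 y.2
    exact ⟨⟨x, hx⟩, Subtype.ext hxy⟩
  · intro x hx
    have h3 : M'.mkQ x.1 = 0 := congrArg Subtype.val hx
    rwa [Submodule.mkQ_apply, Submodule.Quotient.mk_eq_zero] at h3
  · exact hc' na

theorem P_span (s : Finset A) (hN : ∀ a ∈ s, K.Kills a) :
    P K (Ideal.span (s : Set A)) := by
  classical
  induction s using Finset.induction_on with
  | empty =>
    intro M _ _ _
    refine ⟨1, one_pos, Z_of_isZero_src K _ ?_⟩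
    have hS : ((Ideal.span ((∅ : Finset A) : Set A)) ^ 1 • ⊤ : Submodule A M) = ⊥ := by
      simp
    have : Subsingleton ↥((Ideal.span ((∅ : Finset A) : Set A)) ^ 1 • ⊤ : Submodule A M) := by
      refine ⟨fun x y => Subtype.ext ?_⟩
      have hx : x.1 ∈ (⊥ : Submodule A M) := hS ▸ x.2
      have hy : y.1 ∈ (⊥ : Submodule A M) := hS ▸ y.2
      rw [Submodule.mem_bot] at hx hy
      rw [hx, hy]
    exact ModuleCat.isZero_of_subsingleton _
  | insert f s hfs ih =>
    rw [Finset.coe_insert, Ideal.span_insert, sup_comm]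
    exact P_step K _ f (hN f (Finset.mem_insert_self f s))
      (ih (fun a ha => hN a (Finset.mem_insert_of_mem ha)))

theorem KillSys.exists_pow (I : Ideal A) (hI : ∀ f ∈ I, K.Kills f) (M : Type u) [AddCommGroup M]
    [Module A M] [Module.Finite A M] :
    ∃ n : ℕ, 0 < n ∧ K.Z (ModuleCat.ofHom (I ^ n • ⊤ : Submodule A M).subtype) := by
  obtain ⟨s, hs⟩ := (IsNoetherian.noetherian I : I.FG)
  have h := P_span K s (fun a ha => hI a (by
    rw [← hs]
    exact Ideal.subset_span ha)) M
  rw [show Ideal.span (s : Set A) = I from hs] at h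
  exact h

end Induction

end Groth.Agent.Lib.T2H2.Kill
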