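import Mathlib
import Groth.Agent.Lib.T2H2KillSys
import Groth.Agent.Lib.T2H2IdealPowZero

/-!
# Killing `J^N • L ⟶ L` for bounded complexes of finite modules (helper2)

For `C ∈ D(A)` with `f • 𝟙 C = 0` for all `f ∈ J`, `A` Noetherian and `L` a bounded complex of finite
modules there is `N > 0` such that every `ξ : Q(L) ⟶ C` vanishes on the subcomplex `J^N • L`.
-/

set_option autoImplicit false
universe u
open CategoryTheory CategoryTheory.Limits
attribute [local instance] HasDerivedCategory.standard

namespace Groth.Agent.Lib.T2H2.CxKill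

open Groth.Agent.Lib.T2H2.Kill Groth.Agent.Lib.T2H2.IdealPowZero DerivedCategory

variable {A : Type u} [CommRing A]

/-- cochain complexes of `A`-modules -/
abbrev CxA (A : Type u) [CommRing A] := CochainComplex (ModuleCat.{u} A) ℤ

/-- the module `X` as a complex in degree `a` -/
noncomputable abbrev sgAt (a : ℤ) : ModuleCat.{u} A ⥤ CxA A :=
  HomologicalComplex.single (ModuleCat.{u} A) (ComplexShape.up ℤ) a

lemma sgAt_map_smul (a : ℤ) (f : A) {X Y : ModuleCat.{u} A} (φ : X ⟶ Y) :
    (sgAt (A := A) a).map (f • φ) = f • (sgAt (A := A) a).map φ := by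
  apply HomologicalComplex.from_single_hom_ext
  rw [HomologicalComplex.smul_f_apply, HomologicalComplex.single_map_f_self,
    HomologicalComplex.single_map_f_self]
  simp only [Linear.smul_comp, Linear.comp_smul]

section ZC

variable (C : DerivedCategory (ModuleCat.{u} A))

/-- every morphism from `Q(L)` to `C` vanishes on `φ` -/
def ZC {L' L : CxA A} (φ : L' ⟶ L) : Prop := ∀ ξ : Q.obj L ⟶ C, Q.map φ ≫ ξ = 0

variable {C}

lemma ZC.comp_left {L'' L' L : CxA A} (φ : L'' ⟶ L') {ψ : L' ⟶ L} (h : ZC C ψ) : ZC C (φ ≫ ψ) := by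
  intro ξ
  rw [Functor.map_comp, Category.assoc, h ξ, comp_zero]

lemma ZC.comp_right {L'' L' L : CxA A} {φ : L'' ⟶ L'} (ψ : L' ⟶ L) (h : ZC C φ) : ZC C (φ ≫ ψ) := by
  intro ξ
  rw [Functor.map_comp, Category.assoc]
  exact h _

lemma ZC.of_eq {L' L : CxA A} {φ φ' : L' ⟶ L} (h : ZC C φ) (e : φ = φ') : ZC C φ' := e ▸ h

lemma ZC.exact (S : ShortComplex (CxA A)) (hS : S.ShortExact) {W M : CxA A} (φ : W ⟶ S.X₂)
    (ψ : S.X₂ ⟶ M) (h1 : ZC C (φ ≫ S.g)) (h2 : ZC C (S.f ≫ ψ)) : ZC C (φ ≫ ψ) := by
  intro ξ
  have hT := triangleOfSES_distinguished hS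
  have h3 : (triangleOfSES hS).mor₁ ≫ (Q.map ψ ≫ ξ) = 0 := by
    have := h2 ξ
    rw [Functor.map_comp, Category.assoc] at this
    exact this
  obtain ⟨ξ', hξ'⟩ := Pretriangulated.Triangle.yoneda_exact₂ _ hT _ h3
  rw [Functor.map_comp, Category.assoc]
  refine (congrArg (fun t => Q.map φ ≫ t) hξ').trans ?_
  have := h1 ξ'
  rw [Functor.map_comp, Category.assoc] at this
  exact this

lemma ZC.of_isZero_tgt {L' L : CxA A} (φ : L' ⟶ L) (h : ∀ i, IsZero (L.X i)) : ZC C φ := by
  intro ξ
  have h1 : 𝟙 L = 0 := by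
    apply HomologicalComplex.hom_ext
    intro i
    exact (h i).eq_of_src _ _
  have h2 : 𝟙 (Q.obj L) = 0 := by rw [← Q.map_id, h1, Functor.map_zero]
  have : ξ = 0 := by rw [← Category.id_comp ξ, h2, zero_comp]
  rw [this, comp_zero]

variable (C)

/-- the kill system of `C` in degree `a` -/
noncomputable def homKillAt (a : ℤ) : KillSys A where
  Z {X Y} φ := ZC C ((sgAt (A := A) a).map φ)
  zero X Y ξ := by
    rw [Functor.map_zero, Functor.map_zero, zero_comp]
  comp_left φ ψ hψ := by
    rw [Functor.map_comp]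
    exact ZC.comp_left _ hψ
  comp_right ψ hφ := by
    rw [Functor.map_comp]
    exact ZC.comp_right _ hφ
  exact S hS W M φ ψ h1 h2 := by
    have hS' := hS.map_of_exact (sgAt (A := A) a)
    rw [Functor.map_comp] at h1 h2 ⊢
    exact ZC.exact (S.map (sgAt (A := A) a)) hS' _ _ h1 h2

lemma homKillAt_kills (a : ℤ) (f : A) (hf : f • 𝟙 C = 0) : (homKillAt C a).Kills f := by
  intro X ξ
  rw [sgAt_map_smul, Functor.map_smul, Linear.smul_comp, CategoryTheory.Functor.map_id,
    CategoryTheory.Functor.map_id, Category.id_comp]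
  have : f • ξ = ξ ≫ (f • 𝟙 C) := by rw [Linear.comp_smul, Category.comp_id]
  rw [this, hf, comp_zero]

end ZC

section SmulCx

variable (J : Ideal A) (L : CxA A)

lemma smul_top_stable (i j : ℤ) :
    (J • (⊤ : Submodule A (L.X i))) ≤ (J • (⊤ : Submodule A (L.X j))).comap (L.d i j).hom :=
  Submodule.smul_top_le_comap_smul_top J (L.d i j).hom

/-- the subcomplex `J • L` -/
def smulCx : CxA A := subCx L (fun i => J • (⊤ : Submodule A (L.X i))) (smul_top_stable J L)

/-- the inclusion `J • L ⟶ L` -/
def smulCxι : smulCx J L ⟶ L := subCxι L _ (smul_top_stable J L)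

/-- lifting to `J • L` -/
def smulCxLift {F : CxA A} (f : F ⟶ L)
    (hf : ∀ i (x : F.X i), (f.f i).hom x ∈ J • (⊤ : Submodule A (L.X i))) : F ⟶ smulCx J L :=
  subCxLift L _ (smul_top_stable J L) f hf

lemma smulCxLift_ι {F : CxA A} (f : F ⟶ L)
    (hf : ∀ i (x : F.X i), (f.f i).hom x ∈ J • (⊤ : Submodule A (L.X i))) :
    smulCxLift J L f hf ≫ smulCxι J L = f :=
  subCxLift_ι L _ (smul_top_stable J L) f hf

lemma smulCxι_mem (i : ℤ) (x : (smulCx J L).X i) :
    ((smulCxι J L).f i).hom x ∈ J • (⊤ : Submodule A (L.X i)) := x.2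

lemma smulCxι_injective (i : ℤ) : Function.Injective ((smulCxι J L).f i).hom :=
  Subtype.val_injective

lemma isZero_smulCx_X (i : ℤ) (h : IsZero (L.X i)) : IsZero ((smulCx J L).X i) := by
  have : Subsingleton (L.X i) := ModuleCat.subsingleton_of_isZero h
  have : Subsingleton ↥(J • (⊤ : Submodule A (L.X i))) :=
    ⟨fun x y => Subtype.ext (Subsingleton.elim _ _)⟩
  exact ModuleCat.isZero_of_subsingleton (ModuleCat.of A ↥(J • (⊤ : Submodule A (L.X i))))

lemma finite_smulCx_X [IsNoetherianRing A] (i : ℤ) [Module.Finite A (L.X i)] :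
    Module.Finite A ((smulCx J L).X i) := by
  have : IsNoetherian A (L.X i) := isNoetherian_of_isNoetherianRing_of_finite A (L.X i)
  exact Module.Finite.iff_fg.2 (IsNoetherian.noetherian _)

end SmulCx

section Trunc

variable (M : CxA A) (a : ℤ)

/-- the submodules defining the stupid truncation `σ_{>a}` -/
def truncSub (i : ℤ) : Submodule A (M.X i) := if a < i then ⊤ else ⊥

lemma truncSub_stable (i j : ℤ) :
    truncSub M a i ≤ (truncSub M a j).comap (M.d i j).hom := by
  intro x hx
  by_cases hij : i + 1 = j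
  · by_cases hi : a < i
    · have hj : a < j := by omega
      show (M.d i j).hom x ∈ truncSub M a j
      rw [truncSub, if_pos hj]
      trivial
    · rw [truncSub, if_neg hi] at hx
      rw [(Submodule.mem_bot A).1 hx]
      show (M.d i j).hom 0 ∈ truncSub M a j
      rw [map_zero]
      exact zero_mem _
  · show (M.d i j).hom x ∈ truncSub M a j
    rw [M.shape i j hij]
    exact zero_mem _

/-- the stupid truncation `σ_{>a} M` as a subcomplex -/
def trunc : CxA A := subCx M (truncSub M a) (truncSub_stable M a)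

/-- the inclusion `σ_{>a} M ⟶ M` -/
def truncι : trunc M a ⟶ M := subCxι M _ (truncSub_stable M a)

lemma isZero_trunc_X_of_le (i : ℤ) (h : i ≤ a) : IsZero ((trunc M a).X i) := by
  have : Subsingleton ↥(truncSub M a i) := by
    rw [truncSub, if_neg (by omega)]
    infer_instance
  exact ModuleCat.isZero_of_subsingleton (ModuleCat.of A ↥(truncSub M a i))

lemma isZero_trunc_X (i : ℤ) (h : IsZero (M.X i)) : IsZero ((trunc M a).X i) := by
  have : Subsingleton (M.X i) := ModuleCat.subsingleton_of_isZero h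
  have : Subsingleton ↥(truncSub M a i) := ⟨fun x y => Subtype.ext (Subsingleton.elim _ _)⟩
  exact ModuleCat.isZero_of_subsingleton (ModuleCat.of A ↥(truncSub M a i))

lemma finite_trunc_X [IsNoetherianRing A] (i : ℤ) [Module.Finite A (M.X i)] :
    Module.Finite A ((trunc M a).X i) := by
  have : IsNoetherian A (M.X i) := isNoetherian_of_isNoetherianRing_of_finite A (M.X i)
  exact Module.Finite.iff_fg.2 (IsNoetherian.noetherian _)

variable (hM : IsZero (M.X (a - 1)))

/-- the projection `M ⟶ M^a[-a]` when `M^{a-1} = 0` -/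
noncomputable def toSg : M ⟶ (sgAt (A := A) a).obj (M.X a) :=
  HomologicalComplex.mkHomToSingle (𝟙 (M.X a)) (by
    intro i hi
    have : i = a - 1 := by
      have : i + 1 = a := hi
      omega
    subst this
    exact hM.eq_of_src _ _)

lemma toSg_f : (toSg M a hM).f a =
    (HomologicalComplex.singleObjXSelf (ComplexShape.up ℤ) a (M.X a)).inv := by
  rw [toSg, HomologicalComplex.mkHomToSingle_f, Category.id_comp]

/-- the short complex `σ_{>a} M ⟶ M ⟶ M^a[-a]` -/
noncomputable def truncSC : ShortComplex (CxA A) :=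
  ShortComplex.mk (truncι M a) (toSg M a hM) (by
    apply HomologicalComplex.to_single_hom_ext
    rw [HomologicalComplex.comp_f, HomologicalComplex.zero_f]
    exact (isZero_trunc_X_of_le M a a le_rfl).eq_of_src _ _)

lemma truncSC_shortExact (hM' : ∀ i, i < a → IsZero (M.X i)) : (truncSC M a hM).ShortExact := by
  apply HomologicalComplex.shortExact_of_degreewise_shortExact
  intro i
  have hf : ∀ x : (trunc M a).X i, ((truncι M a).f i).hom x = x.1 := fun x => rfl
  refine ShortComplex.ShortExact.mk' ?_ ?_ ?_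
  · have key : ∀ x : M.X i, ((toSg M a hM).f i).hom x = 0 → x ∈ truncSub M a i := by
      intro x hx'
      by_cases h1 : a < i
      · rw [truncSub, if_pos h1]
        trivial
      · rw [truncSub, if_neg h1]
        by_cases h2 : i = a
        · subst h2
          rw [toSg_f] at hx'
          have hinj : Function.Injective
              (HomologicalComplex.singleObjXSelf (ComplexShape.up ℤ) i (M.X i)).inv.hom :=
            (ModuleCat.mono_iff_injective _).1 inferInstance
          rw [Submodule.mem_bot]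
          exact hinj (hx'.trans (map_zero _).symm)
        · have : Subsingleton (M.X i) :=
            ModuleCat.subsingleton_of_isZero (hM' i (by omega))
          rw [Submodule.mem_bot]
          exact Subsingleton.elim _ _
    rw [ShortComplex.moduleCat_exact_iff]
    intro x hx
    have hmem := key x hx
    exact ⟨⟨x, hmem⟩, rfl⟩
  · rw [ModuleCat.mono_iff_injective]
    exact Subtype.val_injective
  · rw [ModuleCat.epi_iff_surjective]
    by_cases h2 : i = a
    · subst h2
      show Function.Surjective ((toSg M i hM).f i).hom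
      rw [toSg_f]
      exact (ModuleCat.epi_iff_surjective _).1 inferInstance
    · intro y
      have hz : IsZero (((sgAt (A := A) a).obj (M.X a)).X i) :=
        HomologicalComplex.isZero_single_obj_X (ComplexShape.up ℤ) a (M.X a) i h2
      have : Subsingleton (((sgAt (A := A) a).obj (M.X a)).X i) :=
        ModuleCat.subsingleton_of_isZero hz
      exact ⟨0, @Subsingleton.elim _ this _ _⟩

end Trunc

section LemmaA

variable [IsNoetherianRing A] (J : Ideal A) (C : DerivedCategory (ModuleCat.{u} A))

omit [IsNoetherianRing A] in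
lemma truncSub_mem_of_not_lt (M : CxA A) (a i : ℤ) (h : ¬ a < i) (x : M.X i)
    (hx : x ∈ truncSub M a i) : x = 0 := by
  rw [truncSub, if_neg h] at hx
  exact (Submodule.mem_bot A).1 hx

theorem exists_pow_ZC_aux (hC : ∀ f ∈ J, f • 𝟙 C = 0) : ∀ (d : ℕ) (a : ℤ) (L : CxA A),
    (∀ i, i < a ∨ a + d ≤ i → IsZero (L.X i)) → (∀ i, Module.Finite A (L.X i)) →
    ∃ N : ℕ, 0 < N ∧ ZC C (smulCxι (J ^ N) L) := by
  intro d
  induction d with
  | zero =>
    intro a L hL _
    exact ⟨1, one_pos, ZC.of_isZero_tgt _ (fun i => hL i (by omega))⟩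
  | succ d ih =>
    intro a L hL hfin
    obtain ⟨N', hN', hZ'⟩ := ih (a + 1) (trunc L a) (fun i hi => by
      rcases hi with hi | hi
      · exact isZero_trunc_X_of_le L a i (by omega)
      · exact isZero_trunc_X L a i (hL i (Or.inr (by omega)))) (fun i => finite_trunc_X L a i)
    have hMz : ∀ i, i < a → IsZero ((smulCx (J ^ N') L).X i) :=
      fun i hi => isZero_smulCx_X _ L i (hL i (Or.inl hi))
    have hM : IsZero ((smulCx (J ^ N') L).X (a - 1)) := hMz _ (by omega)
    have hS := truncSC_shortExact (smulCx (J ^ N') L) a hM hMz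
    have hfinM : Module.Finite A ((smulCx (J ^ N') L).X a) := finite_smulCx_X (J ^ N') L a
    obtain ⟨N'', hN'', hZ''⟩ := KillSys.exists_pow (homKillAt C a) J
      (fun f hf => homKillAt_kills C a f (hC f hf)) ((smulCx (J ^ N') L).X a)
    refine ⟨N' + N'', by omega, ?_⟩
    have hφmem : ∀ i (x : (smulCx (J ^ (N' + N'')) L).X i),
        ((smulCxι (J ^ (N' + N'')) L).f i).hom x ∈ (J ^ N') • (⊤ : Submodule A (L.X i)) :=
      fun i x => Submodule.smul_mono_left (Ideal.pow_le_pow_right (Nat.le_add_right N' N'')) x.2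
    have hφψ : smulCxLift (J ^ N') L (smulCxι _ L) hφmem ≫ smulCxι (J ^ N') L =
        smulCxι (J ^ (N' + N'')) L := smulCxLift_ι _ _ _ _
    rw [← hφψ]
    refine ZC.exact (truncSC (smulCx (J ^ N') L) a hM) hS
      (smulCxLift (J ^ N') L (smulCxι _ L) hφmem) (smulCxι (J ^ N') L) ?_ ?_
    · -- the quotient part
      have hmem2 : ∀ x : (smulCx (J ^ (N' + N'')) L).X a,
          ((smulCxLift (J ^ N') L (smulCxι _ L) hφmem).f a).hom x ∈
            (J ^ N'' • ⊤ : Submodule A ((smulCx (J ^ N') L).X a)) := by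
        intro x
        refine (Submodule.mem_smul_top_iff (J ^ N'') (J ^ N' • (⊤ : Submodule A (L.X a)))
          (((smulCxLift (J ^ N') L (smulCxι _ L) hφmem).f a).hom x)).2 ?_
        refine (show (x.1 : L.X a) ∈ J ^ N'' • (J ^ N' • (⊤ : Submodule A (L.X a))) from ?_)
        rw [← Submodule.mul_smul, ← pow_add, add_comm]
        exact x.2
      have hsrc : IsZero ((smulCx (J ^ (N' + N'')) L).X (a - 1)) :=
        isZero_smulCx_X _ L _ (hL _ (Or.inl (by omega)))
      let g₂ : smulCx (J ^ (N' + N'')) L ⟶ (sgAt (A := A) a).obj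
          (ModuleCat.of A ↥(J ^ N'' • ⊤ : Submodule A ((smulCx (J ^ N') L).X a))) :=
        HomologicalComplex.mkHomToSingle (ModuleCat.ofHom
          (((smulCxLift (J ^ N') L (smulCxι _ L) hφmem).f a).hom.codRestrict _ hmem2)) (by
          intro i hi
          have : i = a - 1 := by
            have : i + 1 = a := hi
            omega
          subst this
          exact hsrc.eq_of_src _ _)
      have heq : smulCxLift (J ^ N') L (smulCxι _ L) hφmem ≫ toSg (smulCx (J ^ N') L) a hM =
          g₂ ≫ (sgAt (A := A) a).map (ModuleCat.ofHom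
            (J ^ N'' • ⊤ : Submodule A ((smulCx (J ^ N') L).X a)).subtype) := by
        apply HomologicalComplex.to_single_hom_ext
        rw [HomologicalComplex.comp_f, HomologicalComplex.comp_f, toSg_f,
          HomologicalComplex.mkHomToSingle_f, HomologicalComplex.single_map_f_self]
        simp only [Category.assoc, Iso.inv_hom_id_assoc]
        rw [← Category.assoc]
        congr 1
      exact (ZC.comp_left g₂ hZ'').of_eq heq.symm
    · -- the sub part
      have hmem0 : ∀ i (x : (trunc (smulCx (J ^ N') L) a).X i),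
          ((truncι (smulCx (J ^ N') L) a ≫ smulCxι (J ^ N') L).f i).hom x ∈ truncSub L a i := by
        intro i x
        by_cases h : a < i
        · rw [truncSub, if_pos h]
          trivial
        · have hx0 : x.1 = 0 := truncSub_mem_of_not_lt _ a i h x.1 x.2
          have : ((truncι (smulCx (J ^ N') L) a ≫ smulCxι (J ^ N') L).f i).hom x = (x.1).1 := rfl
          rw [this, hx0]
          exact zero_mem _
      let g₀ : trunc (smulCx (J ^ N') L) a ⟶ trunc L a :=
        subCxLift L _ (truncSub_stable L a) (truncι (smulCx (J ^ N') L) a ≫ smulCxι (J ^ N') L) hmem0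
      have hg₀ : g₀ ≫ truncι L a = truncι (smulCx (J ^ N') L) a ≫ smulCxι (J ^ N') L :=
        subCxLift_ι L _ (truncSub_stable L a) _ hmem0
      have hmem1 : ∀ i (x : (trunc (smulCx (J ^ N') L) a).X i),
          (g₀.f i).hom x ∈ (J ^ N') • (⊤ : Submodule A ((trunc L a).X i)) := by
        intro i x
        refine (Submodule.mem_smul_top_iff (J ^ N') (truncSub L a i) ((g₀.f i).hom x)).2 ?_
        have hval : @Subtype.val (L.X i) (fun y => y ∈ truncSub L a i) ((g₀.f i).hom x) =
            (x.1).1 := rfl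
        refine (show (@Subtype.val (L.X i) (fun y => y ∈ truncSub L a i) ((g₀.f i).hom x)) ∈
          J ^ N' • truncSub L a i from ?_)
        rw [hval]
        by_cases h : a < i
        · have ht : truncSub L a i = ⊤ := by rw [truncSub, if_pos h]
          rw [ht]
          exact (x.1).2
        · have hx0 : x.1 = 0 := truncSub_mem_of_not_lt _ a i h x.1 x.2
          rw [hx0]
          exact zero_mem _
      have hg₁ : smulCxLift (J ^ N') (trunc L a) g₀ hmem1 ≫ smulCxι (J ^ N') (trunc L a) = g₀ :=
        smulCxLift_ι _ _ _ _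
      have := (ZC.comp_right (truncι L a) hZ').comp_left (smulCxLift (J ^ N') (trunc L a) g₀ hmem1)
      rw [← Category.assoc, hg₁, hg₀] at this
      exact this

theorem exists_pow_ZC (hC : ∀ f ∈ J, f • 𝟙 C = 0) (L : CxA A) (a b : ℤ)
    (hL : ∀ i, i < a ∨ b < i → IsZero (L.X i)) (hfin : ∀ i, Module.Finite A (L.X i)) :
    ∃ N : ℕ, 0 < N ∧ ZC C (smulCxι (J ^ N) L) :=
  exists_pow_ZC_aux J C hC (b + 1 - a).toNat a L (fun i hi => hL i (by omega)) hfin

end LemmaA

end Groth.Agent.Lib.T2H2.CxKill
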