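import Groth.Agent.Lib.Helper17Hyp3
import Groth.Agent.Lib.Helper17Hyp9

/-!
# Maps out of a projective separator in the derived category (T2H2)

For a projective object `P` of a Grothendieck abelian category,
`Hom_{D(A)}(P[0], K) ≃ Hom_A(P, H^0 K)` for every `K` (`bijective_c₀_of_projective`).  If `P` is
moreover a separator, a morphism `ψ` of `D(A)` such that `Hom(P[0], ψ)` is bijective induces an
isomorphism on `H^0`.
-/

set_option autoImplicit false
set_option linter.style.haveILetI false
universe w w' v u
open CategoryTheory CategoryTheory.Limits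

namespace Groth.Agent.Lib.T2H2.DAdj

open Groth.Agent.Lib.Helper17.Hyp DerivedCategory

section Proj

variable {A : Type u} [Category.{v} A] [Abelian A]

/-- a projective separator gives a `LocFr` structure for the trivial topology on a point. -/
theorem locFr_trivial (P : A) [Projective P] (hP : IsSeparator P) :
    LocFr (GrothendieckTopology.trivial (Discrete PUnit.{1}))
      ((Functor.const (Discrete PUnit.{1})).obj P) where
  lift {F G} π _ U s := by
    refine ⟨⊤, (GrothendieckTopology.trivial _).top_mem U, fun V f _ => ?_⟩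
    let s₀ : P ⟶ G := s
    let t : P ⟶ F := Projective.factorThru s₀ π
    refine ⟨t, ?_⟩
    refine (Projective.factorThru_comp s₀ π).trans ?_
    exact (Category.id_comp _).symm
  sep {G} U s T hT h := by
    rw [GrothendieckTopology.trivial_covering] at hT
    subst hT
    have := h (𝟙 U) trivial
    simpa using this
  gen {G G'} π h := by
    apply hP.def
    intro a
    rw [comp_zero]
    exact h ⟨PUnit.unit⟩ a

variable [HasDerivedCategory.{w} A]

lemma res_id (P : A) (U : Discrete PUnit.{1}) {K : DerivedCategory A}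
    (ξ : dsgl (((Functor.const (Discrete PUnit.{1})).obj P).obj U) ⟶ K) :
    res ((Functor.const (Discrete PUnit.{1})).obj P) (𝟙 U) ξ = ξ := by
  dsimp only [res]
  rw [CategoryTheory.Functor.map_id, CategoryTheory.Functor.map_id,
    CategoryTheory.Functor.map_id]
  exact Category.id_comp _

/-- `Hom_{D(A)}(P[0], K) ≃ Hom_A(P, H^0 K)` for `P` a projective separator. -/
theorem bijective_c₀_of_projective [IsGrothendieckAbelian.{w'} A] (P : A) [Projective P]
    (hP : IsSeparator P) (K : DerivedCategory A) :
    Function.Bijective (fun ξ : dsgl P ⟶ K => c₀ ξ) := by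
  have h := locFr_trivial P hP
  constructor
  · intro ξ ξ' hξ
    have h0 : c₀ (ξ - ξ') = 0 := by
      have h1 : c₀ (ξ - ξ' + ξ') = c₀ (ξ - ξ') + c₀ ξ' := c₀_add _ _
      rw [sub_add_cancel] at h1
      dsimp only at hξ
      rw [hξ] at h1
      exact (add_eq_right.1 h1.symm)
    obtain ⟨T, hT, hT'⟩ := exists_cover_eq_zero.{w, w'} h K ⟨PUnit.unit⟩ (ξ - ξ') h0
    rw [GrothendieckTopology.trivial_covering] at hT
    subst hT
    have h2 := hT' (𝟙 _) trivial
    rw [res_id] at h2
    exact sub_eq_zero.1 h2
  · intro s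
    obtain ⟨T, hT, hT'⟩ := exists_lift_c₀ h K ⟨PUnit.unit⟩ s
    rw [GrothendieckTopology.trivial_covering] at hT
    subst hT
    obtain ⟨ξ, hξ⟩ := hT' (𝟙 _) trivial
    refine ⟨ξ, ?_⟩
    dsimp only
    rw [hξ]
    simp

omit [HasDerivedCategory.{w} A] in
/-- a morphism `ψ` with `Hom(P, ψ)` bijective, `P` a projective separator, is an isomorphism. -/
theorem isIso_of_bijective_hom (P : A) (hP : IsSeparator P) {M M' : A} (ψ : M ⟶ M')
    (h : Function.Bijective (fun a : P ⟶ M => a ≫ ψ)) : IsIso ψ := by
  haveI : Mono ψ := by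
    apply Preadditive.mono_of_kernel_zero
    apply hP.def
    intro a
    rw [comp_zero]
    have h1 : (a ≫ kernel.ι ψ) ≫ ψ = (0 : P ⟶ M) ≫ ψ := by
      rw [Category.assoc, kernel.condition, comp_zero, zero_comp]
    exact h.1 h1
  haveI : Epi ψ := by
    apply Preadditive.epi_of_cokernel_zero
    apply hP.def
    intro a
    rw [comp_zero]
    obtain ⟨b, hb⟩ := h.2 a
    dsimp only at hb
    rw [← hb, Category.assoc, cokernel.condition, comp_zero]
  exact isIso_of_mono_of_epi ψ

/-- if `Hom(P[0], ψ)` is bijective then `H^0(ψ)` is an isomorphism. -/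
theorem isIso_homology_zero_of_bijective [IsGrothendieckAbelian.{w'} A] (P : A) [Projective P]
    (hP : IsSeparator P) {K K' : DerivedCategory A} (ψ : K ⟶ K')
    (h : Function.Bijective (fun ξ : dsgl P ⟶ K => ξ ≫ ψ)) :
    IsIso ((homologyFunctor A 0).map ψ) := by
  apply isIso_of_bijective_hom P hP
  have hK := bijective_c₀_of_projective.{w, w'} P hP K
  have hK' := bijective_c₀_of_projective.{w, w'} P hP K'
  have hcomp : (fun a : P ⟶ (homologyFunctor A 0).obj K => a ≫ (homologyFunctor A 0).map ψ) ∘
      (fun ξ : dsgl P ⟶ K => c₀ ξ) =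
      (fun ξ : dsgl P ⟶ K' => c₀ ξ) ∘ (fun ξ : dsgl P ⟶ K => ξ ≫ ψ) := by
    funext ξ
    dsimp only [Function.comp]
    rw [c₀_comp]
  have h2 : Function.Bijective
      ((fun a : P ⟶ (homologyFunctor A 0).obj K => a ≫ (homologyFunctor A 0).map ψ) ∘
      (fun ξ : dsgl P ⟶ K => c₀ ξ)) := by
    rw [hcomp]
    exact hK'.comp h
  exact (Function.Bijective.of_comp_iff _ hK).1 h2

end Proj

end Groth.Agent.Lib.T2H2.DAdj
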