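import Groth.Agent.Lib.T2H2DAdjA
import Groth.Agent.Lib.T2H8PCohTriangle

/-!
# Abstract criterion for `L = F.mapDerivedCategory` to be fully faithful with a given image (T2H2)

`F : A ⥤ B` exact, `L = F.mapDerivedCategory`, `adj : L ⊣ Rr`.  Given test objects `P : A`,
`P₁ ≅ F P` computing `H^0` on `D(A)`, resp. on a class `𝒬 ⊆ D(B)` containing the image of `L`:
* `bijective_map_of_c₀`: `L` is bijective on `Hom(P[0], K)`;
* `isIso_unit_app`: the unit of `adj` is an isomorphism;
* `isIso_counit_app`: the counit of `adj` is an isomorphism on `𝒬`.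
-/

set_option autoImplicit false
set_option linter.style.haveILetI false
universe w₁ w₂ v₁ v₂ u₁ u₂
open CategoryTheory CategoryTheory.Limits

namespace Groth.Agent.Lib.T2H2.DAdj

open Groth.Agent.Lib.Helper17.Hyp DerivedCategory Groth.Agent.Lib.T2H8.PCohTriangle

variable {A : Type u₁} [Category.{v₁} A] [Abelian A] [HasDerivedCategory.{w₁} A]
  {B : Type u₂} [Category.{v₂} B] [Abelian B] [HasDerivedCategory.{w₂} B]
  (F : A ⥤ B) [F.Additive] [PreservesFiniteLimits F] [PreservesFiniteColimits F]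

/-- `(F P)[0] ≅ L(P[0])`. -/
noncomputable def sglMapIso (P : A) : dsgl (F.obj P) ≅ F.mapDerivedCategory.obj (dsgl P) :=
  ((F.mapDerivedCategorySingleFunctor 0).app P).symm

/-- the comparison map `Hom(P[0], K) → Hom(P₁[0], L K)`. -/
noncomputable def transfer {P : A} {P₁ : B} (θ : P₁ ≅ F.obj P) {K : DerivedCategory A}
    (ξ : dsgl P ⟶ K) : dsgl P₁ ⟶ F.mapDerivedCategory.obj K :=
  Q.map ((HomologicalComplex.single B (ComplexShape.up ℤ) 0).map θ.hom) ≫
    (sglMapIso F P).hom ≫ F.mapDerivedCategory.map ξ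

lemma isIso_transfer_pre {P : A} {P₁ : B} (θ : P₁ ≅ F.obj P) :
    IsIso (Q.map ((HomologicalComplex.single B (ComplexShape.up ℤ) 0).map θ.hom) ≫
      (sglMapIso F P).hom) := by
  haveI : IsIso (Q.map ((HomologicalComplex.single B (ComplexShape.up ℤ) 0).map θ.hom)) :=
    inferInstanceAs (IsIso ((HomologicalComplex.single B (ComplexShape.up ℤ) 0 ⋙ Q).map θ.hom))
  infer_instance

/-- the automorphism-agnostic formula for `c₀` of a transferred class. -/
lemma c₀_transfer {P : A} {P₁ : B} (θ : P₁ ≅ F.obj P) :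
    ∃ u : P₁ ≅ F.obj P, ∀ {K : DerivedCategory A} (ξ : dsgl P ⟶ K),
      c₀ (transfer F θ ξ) = u.hom ≫ F.map (c₀ ξ) ≫
        (mapDerivedCategoryHomologyIso F 0).inv.app K := by
  haveI := isIso_transfer_pre F θ
  haveI : IsIso (c₀ (Q.map ((HomologicalComplex.single B (ComplexShape.up ℤ) 0).map θ.hom) ≫
      (sglMapIso F P).hom)) := by
    dsimp only [c₀]
    infer_instance
  refine ⟨asIso (c₀ (Q.map ((HomologicalComplex.single B (ComplexShape.up ℤ) 0).map θ.hom) ≫
      (sglMapIso F P).hom)) ≪≫ (mapDerivedCategoryHomologyIso F 0).app (dsgl P) ≪≫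
      F.mapIso (e₀ P), fun {K} ξ => ?_⟩
  have hn := (mapDerivedCategoryHomologyIso F 0).hom.naturality ξ
  dsimp only [Functor.comp_map] at hn
  dsimp only [transfer, Iso.trans_hom, asIso_hom, Iso.app_hom, Functor.mapIso_hom]
  rw [← Category.assoc (Q.map _) _ _, c₀_comp]
  simp only [Category.assoc]
  congr 1
  dsimp only [c₀]
  have key : F.map (e₀ P).hom ≫ F.map ((e₀ P).inv ≫ (homologyFunctor A 0).map ξ) =
      F.map ((homologyFunctor A 0).map ξ) := by
    rw [← Functor.map_comp, Iso.hom_inv_id_assoc]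
  have key' := key =≫ (mapDerivedCategoryHomologyIso F 0).inv.app K
  simp only [Category.assoc] at key'
  rw [key', ← Category.assoc, ← hn, Category.assoc, Iso.hom_inv_id_app]
  exact (Category.comp_id _).symm

/-- `L` is bijective on `Hom(P[0], K)`. -/
theorem bijective_map_of_c₀ {P : A} {P₁ : B} (θ : P₁ ≅ F.obj P)
    (hA : ∀ K : DerivedCategory A, Function.Bijective (fun ξ : dsgl P ⟶ K => c₀ ξ))
    (𝒬 : ObjectProperty (DerivedCategory B))
    (hB : ∀ K : DerivedCategory B, 𝒬 K → Function.Bijective (fun ξ : dsgl P₁ ⟶ K => c₀ ξ))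
    (hL : ∀ K : DerivedCategory A, 𝒬 (F.mapDerivedCategory.obj K))
    (hF : ∀ M : A, Function.Bijective (fun a : P ⟶ M => F.map a))
    (K : DerivedCategory A) :
    Function.Bijective (fun ξ : dsgl P ⟶ K => F.mapDerivedCategory.map ξ) := by
  obtain ⟨u, hu⟩ := c₀_transfer F θ
  haveI := isIso_transfer_pre F θ
  -- the composite `c₀ ∘ transfer` is bijective
  have h1 : Function.Bijective (fun ξ : dsgl P ⟶ K => c₀ (transfer F θ ξ)) := by
    have e : (fun ξ : dsgl P ⟶ K => c₀ (transfer F θ ξ)) =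
        (fun b : F.obj P ⟶ F.obj ((homologyFunctor A 0).obj K) =>
          u.hom ≫ b ≫ (mapDerivedCategoryHomologyIso F 0).inv.app K) ∘
        (fun a : P ⟶ (homologyFunctor A 0).obj K => F.map a) ∘
        (fun ξ : dsgl P ⟶ K => c₀ ξ) := by
      funext ξ
      exact hu ξ
    rw [e]
    refine Function.Bijective.comp ?_ ((hF _).comp (hA K))
    constructor
    · intro b b' hb
      dsimp only at hb
      rw [cancel_epi u.hom, cancel_mono] at hb
      exact hb
    · intro c
      refine ⟨u.inv ≫ c ≫ (mapDerivedCategoryHomologyIso F 0).hom.app K, ?_⟩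
      dsimp only
      simp
  have h2 : Function.Bijective (fun ξ : dsgl P ⟶ K => transfer F θ ξ) :=
    (Function.Bijective.of_comp_iff' (hB _ (hL K)) _).1 h1
  constructor
  · intro ξ ξ' h
    apply h2.1
    dsimp only [transfer]
    dsimp only at h
    rw [h]
  · intro ζ
    obtain ⟨ξ, hξ⟩ := h2.2 ((Q.map ((HomologicalComplex.single B (ComplexShape.up ℤ) 0).map θ.hom) ≫
      (sglMapIso F P).hom) ≫ ζ)
    refine ⟨ξ, ?_⟩
    dsimp only [transfer] at hξ
    dsimp only
    rw [← Category.assoc] at hξ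
    exact (cancel_epi _).1 hξ

end Groth.Agent.Lib.T2H2.DAdj
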