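import Mathlib

/-!
# Right adjoints of inclusions of full subcategories commute with right adjoints preserving them
(T2H2)

Let `L ⊣ R` be an adjunction between `D` and `C`, `P ⊆ C` and `Q ⊆ D` full subcategories with
`L Q ⊆ P` and `R P ⊆ Q`, and assume the inclusions have right adjoints `GP`, `GQ`.  Then the
comparison map `R (GP K) ⟶ GQ (R K)` is an isomorphism.
-/

set_option autoImplicit false
set_option linter.style.haveILetI false
universe v₁ v₂ u₁ u₂
open CategoryTheory

namespace Groth.Agent.Lib.T2H2.DQComp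

variable {C : Type u₁} [Category.{v₁} C] {D : Type u₂} [Category.{v₂} D]
  (P : ObjectProperty C) (Q : ObjectProperty D)
  {L : D ⥤ C} {R : C ⥤ D} (adj : L ⊣ R)
  {GP : C ⥤ P.FullSubcategory} (adjP : P.ι ⊣ GP)
  {GQ : D ⥤ Q.FullSubcategory} (adjQ : Q.ι ⊣ GQ)

include adjP in
omit Q in
/-- composition with the counit is bijective on maps from objects of the subcategory. -/
lemma bijective_comp_counit (N : C) (hN : P N) (K : C) :
    Function.Bijective (fun ψ : N ⟶ P.ι.obj (GP.obj K) => ψ ≫ adjP.counit.app K) := by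
  have h : (fun ψ : N ⟶ P.ι.obj (GP.obj K) => ψ ≫ adjP.counit.app K) =
      (adjP.homEquiv ⟨N, hN⟩ K).symm ∘
        (P.fullyFaithfulι.homEquiv (X := ⟨N, hN⟩) (Y := GP.obj K)).symm := by
    funext ψ
    change ψ ≫ adjP.counit.app K = (adjP.homEquiv ⟨N, hN⟩ K).symm (P.fullyFaithfulι.preimage ψ)
    rw [Adjunction.homEquiv_counit, Functor.FullyFaithful.map_preimage]
  rw [h]
  exact (Equiv.bijective _).comp (Equiv.bijective _)

include adj adjP in
/-- the comparison map `R (GP K) ⟶ GQ (R K)` is an isomorphism. -/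
theorem isIso_comparison (hL : ∀ M : D, Q M → P (L.obj M)) (hR : ∀ K : C, P K → Q (R.obj K))
    (K : C) :
    IsIso (adjQ.homEquiv (⟨R.obj (P.ι.obj (GP.obj K)), hR _ (GP.obj K).property⟩ :
        Q.FullSubcategory) (R.obj K) (R.map (adjP.counit.app K))) := by
  rw [isIso_iff_yoneda_map_bijective]
  intro M
  have h : (fun g : M ⟶ (⟨R.obj (P.ι.obj (GP.obj K)), hR _ (GP.obj K).property⟩ :
        Q.FullSubcategory) => g ≫ adjQ.homEquiv (⟨R.obj (P.ι.obj (GP.obj K)),
          hR _ (GP.obj K).property⟩ : Q.FullSubcategory) (R.obj K)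
          (R.map (adjP.counit.app K))) =
      (adjQ.homEquiv M (R.obj K)) ∘ (adj.homEquiv (Q.ι.obj M) K) ∘
        (fun ψ : L.obj (Q.ι.obj M) ⟶ P.ι.obj (GP.obj K) => ψ ≫ adjP.counit.app K) ∘
        (adj.homEquiv (Q.ι.obj M) (P.ι.obj (GP.obj K))).symm ∘
        (Q.fullyFaithfulι.homEquiv (X := M)
          (Y := (⟨R.obj (P.ι.obj (GP.obj K)), hR _ (GP.obj K).property⟩ :
            Q.FullSubcategory))) := by
    funext g
    dsimp only [Function.comp]
    rw [Adjunction.homEquiv_naturality_right, Equiv.apply_symm_apply,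
      ← Adjunction.homEquiv_naturality_left]
    rfl
  rw [h]
  exact (Equiv.bijective _).comp ((Equiv.bijective _).comp
    ((bijective_comp_counit P adjP _ (hL _ M.property) K).comp
      ((Equiv.bijective _).comp (Equiv.bijective _))))

/-- the comparison maps as a natural transformation. -/
def comparison (hR : ∀ K : C, P K → Q (R.obj K)) :
    GP ⋙ P.ι ⋙ R ⟶ R ⋙ GQ ⋙ Q.ι where
  app K := Q.ι.map (adjQ.homEquiv (⟨R.obj (P.ι.obj (GP.obj K)), hR _ (GP.obj K).property⟩ :
        Q.FullSubcategory) (R.obj K) (R.map (adjP.counit.app K)))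
  naturality K K' φ := by
    have h1 : (Q.fullyFaithfulι.preimage (X := (⟨R.obj (P.ι.obj (GP.obj K)),
          hR _ (GP.obj K).property⟩ : Q.FullSubcategory))
        (Y := (⟨R.obj (P.ι.obj (GP.obj K')), hR _ (GP.obj K').property⟩ : Q.FullSubcategory))
        (R.map (P.ι.map (GP.map φ)))) ≫
        adjQ.homEquiv (⟨R.obj (P.ι.obj (GP.obj K')), hR _ (GP.obj K').property⟩ :
          Q.FullSubcategory) (R.obj K') (R.map (adjP.counit.app K')) =
        adjQ.homEquiv (⟨R.obj (P.ι.obj (GP.obj K)), hR _ (GP.obj K).property⟩ :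
          Q.FullSubcategory) (R.obj K) (R.map (adjP.counit.app K)) ≫ GQ.map (R.map φ) := by
      rw [← Adjunction.homEquiv_naturality_left, ← Adjunction.homEquiv_naturality_right,
        Functor.FullyFaithful.map_preimage, ← R.map_comp, ← R.map_comp]
      congr 2
      exact adjP.counit.naturality φ
    have h2 := congrArg (fun x => Q.ι.map x) h1
    simp only [Functor.map_comp] at h2
    exact h2

include adj in
/-- the comparison is a natural isomorphism. -/
theorem isIso_comparison_natTrans (hL : ∀ M : D, Q M → P (L.obj M))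
    (hR : ∀ K : C, P K → Q (R.obj K)) : IsIso (comparison P Q adjP adjQ hR) := by
  haveI : ∀ K, IsIso ((comparison P Q adjP adjQ hR).app K) := by
    intro K
    haveI := isIso_comparison P Q adj adjP adjQ hL hR K
    exact Functor.map_isIso Q.ι (adjQ.homEquiv (⟨R.obj (P.ι.obj (GP.obj K)),
      hR _ (GP.obj K).property⟩ : Q.FullSubcategory) (R.obj K) (R.map (adjP.counit.app K)))
  exact NatIso.isIso_of_isIso_app _

end Groth.Agent.Lib.T2H2.DQComp
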