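import Mathlib
import Groth.Agent.S5168
import Groth.Agent.S0302
import Groth.Agent.S0304
import Groth.Agent.S0306
import Groth.Agent.S0307

/-!
# Torsion modules with Weyl-type operators are injective (helper2)

* `exists_retraction`, `extend_one`, `extend_pow`, `injective_of_torsion`: if `y` acts surjectively
  on a `y`-power torsion module `M` over a Noetherian ring and `M[y]` is injective over `A/y`,
  then `M` is injective.
* `smul_surjective_of_weyl`, `injective_of_weyl`: modules with operators `D i` satisfying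
  `[D i, x j] = δ i j`, torsion for the `x i`, over a `ℚ`-like ring with `(x)` maximal, are injective.
* `exists_equiv_finsupp_of_injective_torsion`: injective `m`-power torsion modules over a Noetherian
  local ring are direct sums of copies of the injective hull of the residue field.
* `span_X_isMaximal`: the variables generate a maximal ideal of `k[[X_1..X_d]]`.
-/

set_option autoImplicit false
universe u
open scoped TensorProduct
open InjHull IsLocalRing

namespace Groth.Agent.Lib.T2H2.DTors

section
variable {A : Type u} [CommRing A]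

/-- Summand lemma: if `y` acts surjectively on `M`, `M[y]` is injective over `A/y`, and
`ι : M → P` is injective with `y P ⊆ ι(M)`, then `ι` has a retraction. -/
theorem exists_retraction (y : A) (M : Type u) [AddCommGroup M] [Module A M]
    (hsurj : ∀ z : M, ∃ w : M, y • w = z)
    (hinj : Module.Injective (A ⧸ Ideal.span {y}) (Submodule.torsionBy A M y))
    (P : Type u) [AddCommGroup P] [Module A P] (ι : M →ₗ[A] P) (hι : Function.Injective ι)
    (hP : ∀ p : P, ∃ m : M, y • p = ι m) : ∃ ρ : P →ₗ[A] M, ρ ∘ₗ ι = LinearMap.id := by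
  -- the torsion parts
  let M' := Submodule.torsionBy A M y
  let T := Submodule.torsionBy A P y
  -- restriction of ι to torsion, as a map of A/y-modules
  let ι'A : M' →ₗ[A] T := ι.restrict (p := M') (q := T) (by
    intro m hm
    rw [Submodule.mem_torsionBy_iff] at hm ⊢
    rw [← map_smul, hm, map_zero])
  let ι' : M' →ₗ[A ⧸ Ideal.span {y}] T :=
    { toFun := ι'A
      map_add' := ι'A.map_add
      map_smul' := by
        intro b x
        obtain ⟨b, rfl⟩ := Ideal.Quotient.mk_surjective b
        simp only [RingHom.id_apply]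
        rw [Submodule.torsionBy.mk_ideal_smul, Submodule.torsionBy.mk_ideal_smul, map_smul] }
  have hι' : Function.Injective ι' := by
    intro a b hab
    apply Subtype.ext
    apply hι
    exact congrArg Subtype.val hab
  obtain ⟨ρ0, hρ0⟩ := Module.Injective.extension_property (A ⧸ Ideal.span {y}) M' M' T ι' hι'
    LinearMap.id
  have hρ0' : ∀ m : M', ρ0 (ι' m) = m := fun m => LinearMap.congr_fun hρ0 m
  -- ρ0 as an A-linear map
  let ρ0A : T →ₗ[A] M' :=
    { toFun := ρ0
      map_add' := ρ0.map_add
      map_smul' := by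
        intro b x
        simp only [RingHom.id_apply]
        rw [← Submodule.torsionBy.mk_ideal_smul, map_smul, Submodule.torsionBy.mk_ideal_smul] }
  -- the complement
  let C : Submodule A P := Submodule.map T.subtype (LinearMap.ker ρ0A)
  have hcompl : IsCompl (LinearMap.range ι) C := by
    constructor
    · rw [Submodule.disjoint_def]
      rintro p ⟨m, rfl⟩ ⟨t, ht, hteq⟩
      have hmT : ι m ∈ T := by rw [← hteq]; exact t.2
      have hm' : m ∈ M' := by
        rw [Submodule.mem_torsionBy_iff] at hmT ⊢
        apply hι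
        rw [map_smul, hmT, map_zero]
      have h1 : ι' ⟨m, hm'⟩ = t := by
        apply Subtype.ext
        exact hteq.symm
      have h2 : ρ0 t = 0 := ht
      rw [← h1, hρ0'] at h2
      have : m = 0 := congrArg Subtype.val h2
      rw [this, map_zero]
    · rw [codisjoint_iff, eq_top_iff]
      intro p _
      obtain ⟨m1, hm1⟩ := hP p
      obtain ⟨m, rfl⟩ := hsurj m1
      have ht : p - ι m ∈ T := by
        rw [Submodule.mem_torsionBy_iff, smul_sub, hm1, map_smul, sub_self]
      let t : T := ⟨p - ι m, ht⟩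
      have hker : t - ι' (ρ0 t) ∈ LinearMap.ker ρ0A := by
        rw [LinearMap.mem_ker]
        change ρ0 (t - ι' (ρ0 t)) = 0
        rw [map_sub, hρ0', sub_self]
      have hdecomp : p = ι (m + (ρ0 t : M)) + ((t - ι' (ρ0 t) : T) : P) := by
        have : ((ι' (ρ0 t) : T) : P) = ι (ρ0 t : M) := rfl
        rw [Submodule.coe_sub, this, map_add]
        change p = ι m + ι ↑(ρ0 t) + (p - ι m - ι ↑(ρ0 t))
        abel
      rw [hdecomp]
      apply Submodule.add_mem_sup
      · exact ⟨_, rfl⟩
      · exact ⟨_, hker, rfl⟩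
  let e : M ≃ₗ[A] LinearMap.range ι := LinearEquiv.ofInjective ι hι
  refine ⟨e.symm.toLinearMap ∘ₗ Submodule.projectionOnto _ _ hcompl, ?_⟩
  ext m
  simp only [LinearMap.comp_apply, LinearMap.id_apply, LinearEquiv.coe_coe]
  have h1 : Submodule.projectionOnto _ _ hcompl (ι m) = ⟨ι m, ⟨m, rfl⟩⟩ :=
    Submodule.projectionOnto_apply_left hcompl ⟨ι m, ⟨m, rfl⟩⟩
  rw [h1]
  apply e.injective
  rw [LinearEquiv.apply_symm_apply]
  rfl

/-- one-step extension: `j : Y → X` injective with `y X ⊆ j(Y)`; every map `Y → M` extends. -/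
theorem extend_one (y : A) (M : Type u) [AddCommGroup M] [Module A M]
    (hsurj : ∀ z : M, ∃ w : M, y • w = z)
    (hinj : Module.Injective (A ⧸ Ideal.span {y}) (Submodule.torsionBy A M y))
    (X Y : Type u) [AddCommGroup X] [Module A X] [AddCommGroup Y] [Module A Y]
    (j : Y →ₗ[A] X) (hj : Function.Injective j) (hX : ∀ ξ : X, ∃ η : Y, y • ξ = j η)
    (g : Y →ₗ[A] M) : ∃ g' : X →ₗ[A] M, g' ∘ₗ j = g := by
  -- the pushout
  let φ : Y →ₗ[A] M × X := LinearMap.prod g (-j)
  let K : Submodule A (M × X) := LinearMap.range φ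
  let ι : M →ₗ[A] (M × X) ⧸ K := K.mkQ ∘ₗ LinearMap.inl A M X
  let κ : X →ₗ[A] (M × X) ⧸ K := K.mkQ ∘ₗ LinearMap.inr A M X
  have hcomm : ∀ η : Y, κ (j η) = ι (g η) := by
    intro η
    change Submodule.Quotient.mk ((0 : M), j η) = Submodule.Quotient.mk (g η, (0 : X))
    rw [eq_comm]
    apply (Submodule.Quotient.eq K).mpr
    refine LinearMap.mem_range.mpr ⟨η, ?_⟩
    simp [φ]
  have hι : Function.Injective ι := by
    rw [← LinearMap.ker_eq_bot, LinearMap.ker_eq_bot']
    intro m hm
    have hm' : ((m, (0 : X)) : M × X) ∈ K := (Submodule.Quotient.mk_eq_zero K).mp hm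
    obtain ⟨η, hη⟩ := LinearMap.mem_range.mp hm'
    have hη' : (g η, -j η) = (m, (0 : X)) := hη
    rw [Prod.mk.injEq, neg_eq_zero] at hη'
    have : η = 0 := hj (by rw [hη'.2, map_zero])
    rw [← hη'.1, this, map_zero]
  have hP : ∀ p : (M × X) ⧸ K, ∃ m : M, y • p = ι m := by
    intro p
    obtain ⟨⟨m, ξ⟩, rfl⟩ := K.mkQ_surjective p
    obtain ⟨η, hη⟩ := hX ξ
    refine ⟨y • m + g η, ?_⟩
    have h1 : K.mkQ (m, ξ) = ι m + κ ξ := by
      simp only [ι, κ, LinearMap.comp_apply, ← map_add]
      congr 1
      simp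
    rw [h1, smul_add, ← map_smul, ← map_smul, hη, hcomm, map_add]
  obtain ⟨ρ, hρ⟩ := exists_retraction y M hsurj hinj ((M × X) ⧸ K) ι hι hP
  refine ⟨ρ ∘ₗ κ, ?_⟩
  ext η
  simp only [LinearMap.comp_apply]
  rw [hcomm]
  exact LinearMap.congr_fun hρ (g η)

/-- `k`-step extension. -/
theorem extend_pow (y : A) (M : Type u) [AddCommGroup M] [Module A M]
    (hsurj : ∀ z : M, ∃ w : M, y • w = z)
    (hinj : Module.Injective (A ⧸ Ideal.span {y}) (Submodule.torsionBy A M y)) (k : ℕ) :
    ∀ (X Y : Type u) [AddCommGroup X] [Module A X] [AddCommGroup Y] [Module A Y]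
    (j : Y →ₗ[A] X) (_ : Function.Injective j) (_ : ∀ ξ : X, ∃ η : Y, y ^ k • ξ = j η)
    (g : Y →ₗ[A] M), ∃ g' : X →ₗ[A] M, g' ∘ₗ j = g := by
  induction k with
  | zero =>
    intro X Y _ _ _ _ j hj hX g
    have hbij : Function.Bijective j := ⟨hj, fun ξ => by
      obtain ⟨η, hη⟩ := hX ξ
      exact ⟨η, by rw [← hη, pow_zero, one_smul]⟩⟩
    let e := LinearEquiv.ofBijective j hbij
    refine ⟨g ∘ₗ e.symm.toLinearMap, ?_⟩
    ext η
    simp only [LinearMap.comp_apply, LinearEquiv.coe_coe]
    congr 1
    exact e.symm_apply_apply η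
  | succ k ih =>
    intro X Y _ _ _ _ j hj hX g
    let N1 : Submodule A X := LinearMap.range j ⊔ LinearMap.range (LinearMap.lsmul A X y)
    let j1 : Y →ₗ[A] N1 := j.codRestrict N1
      (fun η => Submodule.mem_sup_left (LinearMap.mem_range.mpr ⟨η, rfl⟩))
    have hj1 : Function.Injective j1 := by
      intro a b hab
      apply hj
      exact congrArg Subtype.val hab
    have hN1 : ∀ ξ : N1, ∃ η : Y, y ^ k • ξ = j1 η := by
      rintro ⟨ξ, hξ⟩
      obtain ⟨a, ⟨η1, rfl⟩, b, ⟨ξ2, rfl⟩, rfl⟩ := Submodule.mem_sup.mp hξ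
      obtain ⟨η2, hη2⟩ := hX ξ2
      refine ⟨y ^ k • η1 + η2, ?_⟩
      apply Subtype.ext
      change y ^ k • (j η1 + y • ξ2) = j (y ^ k • η1 + η2)
      rw [map_add, map_smul, ← hη2, pow_succ, mul_smul, smul_add]
    obtain ⟨g1, hg1⟩ := ih N1 Y j1 hj1 hN1 g
    have hX1 : ∀ ξ : X, ∃ η : N1, y • ξ = N1.subtype η := by
      intro ξ
      exact ⟨⟨y • ξ, Submodule.mem_sup_right (LinearMap.mem_range.mpr ⟨ξ, rfl⟩)⟩, rfl⟩
    obtain ⟨g', hg'⟩ := extend_one y M hsurj hinj X N1 N1.subtype N1.subtype_injective hX1 g1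
    refine ⟨g', ?_⟩
    ext η
    have h1 : j η = N1.subtype (j1 η) := rfl
    rw [LinearMap.comp_apply, h1, ← LinearMap.comp_apply, hg', ← LinearMap.comp_apply, hg1]

/-- Lemma H. -/
theorem injective_of_torsion [IsNoetherianRing A] (y : A) (M : Type u) [AddCommGroup M]
    [Module A M] (htors : ∀ z : M, ∃ n : ℕ, y ^ n • z = 0)
    (hsurj : ∀ z : M, ∃ w : M, y • w = z)
    (hinj : Module.Injective (A ⧸ Ideal.span {y}) (Submodule.torsionBy A M y)) :
    Module.Injective A M := by
  have hH : LocCoh.IsPowerTorsion (Ideal.span {y}) M := by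
    intro z
    obtain ⟨n, hn⟩ := htors z
    refine ⟨n, fun a ha => ?_⟩
    rw [Ideal.span_singleton_pow, Ideal.mem_span_singleton] at ha
    obtain ⟨c, rfl⟩ := ha
    rw [mul_comm, mul_smul, hn, smul_zero]
  rw [Groth.Agent.S5168.result A (Ideal.span {y}) M hH]
  intro X _ _ _ ⟨k, hk⟩ N g
  have hX : ∀ ξ : X, ∃ η : N, y ^ k • ξ = N.subtype η := by
    intro ξ
    have h1 : y ^ k • ξ ∈ (Ideal.span {y} ^ k) • (⊤ : Submodule A X) :=
      Submodule.smul_mem_smul (Ideal.pow_mem_pow (Ideal.mem_span_singleton_self y) k)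
        Submodule.mem_top
    rw [hk, Submodule.mem_bot] at h1
    exact ⟨0, by rw [h1, map_zero]⟩
  exact extend_pow y M hsurj hinj k X N N.subtype N.subtype_injective hX g

/-- step (i): surjectivity of `y` from a Weyl-type operator. -/
theorem smul_surjective_of_weyl (y : A) (hunit : ∀ n : ℕ, 0 < n → IsUnit ((n : A)))
    (M : Type u) [AddCommGroup M] [Module A M] (D : M →+ M)
    (hD : ∀ z : M, D (y • z) = z + y • D z) (htors : ∀ z : M, ∃ n : ℕ, y ^ n • z = 0) :
    ∀ z : M, ∃ w : M, y • w = z := by
  have hpow : ∀ (n : ℕ) (z : M), D (y ^ (n + 1) • z) = ((n + 1 : ℕ) : A) • (y ^ n • z) +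
      y ^ (n + 1) • D z := by
    intro n
    induction n with
    | zero =>
      intro z
      simp only [zero_add, pow_one, pow_zero, one_smul, Nat.cast_one]
      exact hD z
    | succ n ih =>
      intro z
      rw [pow_succ' y (n + 1), mul_smul, hD, ih]
      simp only [smul_add, ← mul_smul, ← add_assoc, ← add_smul]
      congr 2
      push_cast
      ring
  have key : ∀ (n : ℕ) (z : M), y ^ n • z = 0 → ∃ w : M, y • w = z := by
    intro n
    induction n with
    | zero =>
      intro z hz
      rw [pow_zero, one_smul] at hz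
      exact ⟨0, by rw [hz, smul_zero]⟩
    | succ n ih =>
      intro z hz
      have h1 : D (y ^ (n + 1) • z) = 0 := by rw [hz, map_zero]
      rw [hpow] at h1
      have h2 : y ^ n • (((n + 1 : ℕ) : A) • z + y • D z) = 0 := by
        rw [smul_add, smul_comm, ← mul_smul (y ^ n) y, ← pow_succ]
        exact h1
      obtain ⟨w', hw'⟩ := ih _ h2
      obtain ⟨u, hu⟩ := hunit (n + 1) (Nat.succ_pos n)
      refine ⟨(↑u⁻¹ : A) • (w' - D z), ?_⟩
      rw [smul_comm, smul_sub, hw', add_sub_cancel_right, ← hu, ← mul_smul, Units.inv_mul,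
        one_smul]
  intro z
  obtain ⟨n, hn⟩ := htors z
  exact key n z hn


end

/-- every module over a ring whose zero ideal is maximal is injective -/
theorem injective_of_bot_isMaximal (A : Type u) [CommRing A] (h : (⊥ : Ideal A).IsMaximal)
    (M : Type u) [AddCommGroup M] [Module A M] : Module.Injective A M := by
  apply Module.Baer.injective
  intro I g
  rcases eq_or_ne I ⊥ with hI | hI
  · refine ⟨0, fun x hx => ?_⟩
    have hx0 : x = 0 := by rw [hI] at hx; exact hx
    subst hx0
    have : (⟨0, hx⟩ : I) = 0 := rfl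
    rw [this, map_zero, map_zero]
  · have hItop : I = ⊤ := h.1.2 I (bot_lt_iff_ne_bot.mpr hI)
    have h1 : (1 : A) ∈ I := by rw [hItop]; exact Submodule.mem_top
    refine ⟨LinearMap.toSpanSingleton A M (g ⟨1, h1⟩), fun x hx => ?_⟩
    rw [LinearMap.toSpanSingleton_apply, ← map_smul]
    congr 1
    apply Subtype.ext
    simp

/-- Lemma G -/
theorem injective_of_weyl (d : ℕ) : ∀ (A : Type u) [CommRing A] [IsNoetherianRing A]
    (_ : ∀ n : ℕ, 0 < n → IsUnit ((n : A))) (x : Fin d → A)
    (_ : (Ideal.span (Set.range x)).IsMaximal)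
    (M : Type u) [AddCommGroup M] [Module A M] (D : Fin d → M →+ M)
    (_ : ∀ (i j : Fin d) (z : M), D i (x j • z) = (if i = j then z else 0) + x j • D i z)
    (_ : ∀ z : M, ∃ n : ℕ, ∀ i, x i ^ n • z = 0), Module.Injective A M := by
  induction d with
  | zero =>
    intro A _ _ hunit x hmax M _ _ D hD htors
    apply injective_of_bot_isMaximal A _ M
    have : Set.range x = ∅ := Set.range_eq_empty x
    rw [this, Ideal.span_empty] at hmax
    exact hmax
  | succ d ih =>
    intro A _ _ hunit x hmax M _ _ D hD htors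
    let y : A := x (Fin.last d)
    have hy : ∀ z : M, ∃ n : ℕ, y ^ n • z = 0 := fun z => by
      obtain ⟨n, hn⟩ := htors z
      exact ⟨n, hn (Fin.last d)⟩
    have hsurj : ∀ z : M, ∃ w : M, y • w = z :=
      smul_surjective_of_weyl y hunit M (D (Fin.last d)) (fun z => by
        have := hD (Fin.last d) (Fin.last d) z
        rw [if_pos rfl] at this
        exact this) hy
    apply injective_of_torsion y M hy hsurj
    -- the induction hypothesis on M[y] over A/y
    let π := Ideal.Quotient.mk (Ideal.span {y})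
    let x' : Fin d → A ⧸ Ideal.span {y} := fun i => π (x (Fin.castSucc i))
    have hmem : ∀ (i : Fin d) (z : M), z ∈ Submodule.torsionBy A M y →
        D (Fin.castSucc i) z ∈ Submodule.torsionBy A M y := by
      intro i z hz
      rw [Submodule.mem_torsionBy_iff] at hz ⊢
      have h1 := hD (Fin.castSucc i) (Fin.last d) z
      rw [if_neg (Fin.castSucc_lt_last i).ne] at h1
      have h2 : D (Fin.castSucc i) (y • z) = 0 := by rw [hz, map_zero]
      rw [h1, zero_add] at h2
      exact h2
    let D' : Fin d → Submodule.torsionBy A M y →+ Submodule.torsionBy A M y := fun i =>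
      { toFun := fun z => ⟨D (Fin.castSucc i) z.1, hmem i z.1 z.2⟩
        map_zero' := by
          apply Subtype.ext
          simp
        map_add' := fun a b => by
          apply Subtype.ext
          simp }
    apply ih (A ⧸ Ideal.span {y}) ?_ x' ?_ (Submodule.torsionBy A M y) D' ?_ ?_
    · intro n hn
      have := (hunit n hn).map π
      rwa [map_natCast] at this
    · -- maximality
      have hsurjπ : Function.Surjective π := Ideal.Quotient.mk_surjective
      have hmap : Ideal.map π (Ideal.span (Set.range x)) = Ideal.span (Set.range x') := by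
        rw [Ideal.map_span]
        apply le_antisymm
        · rw [Ideal.span_le]
          rintro _ ⟨_, ⟨i, rfl⟩, rfl⟩
          induction i using Fin.lastCases with
          | last =>
            have : π (x (Fin.last d)) = 0 :=
              Ideal.Quotient.eq_zero_iff_mem.mpr (Ideal.mem_span_singleton_self y)
            rw [this]
            exact Submodule.zero_mem _
          | cast i => exact Ideal.subset_span ⟨i, rfl⟩
        · rw [Ideal.span_le]
          rintro _ ⟨i, rfl⟩
          exact Ideal.subset_span ⟨_, ⟨Fin.castSucc i, rfl⟩, rfl⟩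
      rw [← hmap]
      rcases Ideal.map_eq_top_or_isMaximal_of_surjective π hsurjπ hmax with h | h
      · exfalso
        have h1 := congrArg (Ideal.comap π) h
        rw [Ideal.comap_map_of_surjective π hsurjπ, Ideal.comap_top] at h1
        have hker : Ideal.comap π ⊥ ≤ Ideal.span (Set.range x) := by
          rw [← RingHom.ker_eq_comap_bot, Ideal.mk_ker, Ideal.span_le]
          rintro _ rfl
          exact Ideal.subset_span ⟨Fin.last d, rfl⟩
        rw [sup_eq_left.mpr hker] at h1
        exact hmax.ne_top h1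
      · exact h
    · intro i j z
      apply Subtype.ext
      have h1 := hD (Fin.castSucc i) (Fin.castSucc j) z.1
      change D (Fin.castSucc i) (x (Fin.castSucc j) • z.1) = _
      rw [h1]
      by_cases hij : i = j
      · subst hij
        simp only [if_true]
        rfl
      · have hne : Fin.castSucc i ≠ Fin.castSucc j := fun h => hij (Fin.castSucc_injective d h)
        simp only [if_neg hij, if_neg hne]
        rfl
    · intro z
      obtain ⟨n, hn⟩ := htors z.1
      refine ⟨n, fun i => ?_⟩
      apply Subtype.ext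
      have h1 : x' i ^ n = π (x (Fin.castSucc i) ^ n) := by rw [map_pow]
      rw [h1, Submodule.torsionBy.mk_ideal_smul]
      exact hn (Fin.castSucc i)

theorem exists_equiv_finsupp_of_injective_torsion (A : Type u) [CommRing A] [IsLocalRing A]
    [IsNoetherianRing A] (E : Type u) [AddCommGroup E] [Module A E]
    (e : ResidueField A →ₗ[A] E) (he : IsInjectiveHull e)
    (M : Type u) [AddCommGroup M] [Module A M] (hinj : Module.Injective A M)
    (hM : LocCoh.IsPowerTorsion (maximalIdeal A) M) :
    ∃ J : Type u, Nonempty (M ≃ₗ[A] (J →₀ E)) := by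
  classical
  obtain ⟨ι, F, hint, hF⟩ := Groth.Agent.S0307.result A M hinj
  have hEi : ∀ i, Nonempty (F i ≃ₗ[A] E) := by
    intro i
    obtain ⟨hind, hinji⟩ := hF i
    have hnt : Nontrivial (F i) := hind.1
    obtain ⟨p, hp, f, hfinj⟩ := Groth.Agent.S0306.exists_prime_embedding (R := A) (F i)
    have hrange : LinearMap.range f ≠ ⊥ := by
      intro h0
      rw [LinearMap.range_eq_bot] at h0
      have h1 : f 1 = f 0 := by rw [h0]; rfl
      exact one_ne_zero (hfinj h1)
    have hull : IsInjectiveHull f :=
      ⟨⟨hfinj, fun N hN => (Groth.Agent.S0304.result A (F i) hind hinji).1 N _ hN hrange⟩, hinji⟩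
    -- p is the maximal ideal
    have hpm : p = maximalIdeal A := by
      obtain ⟨n, hn⟩ := hM ((f 1 : F i) : M)
      have hle : maximalIdeal A ^ n ≤ p := by
        intro a ha
        have h1 : a • ((f 1 : F i) : M) = 0 := hn a ha
        have h2 : f (a • (1 : A ⧸ p)) = 0 := by
          rw [map_smul]
          apply Subtype.ext
          exact h1
        have h3 : a • (1 : A ⧸ p) = 0 := hfinj (by rw [h2, map_zero])
        rw [Algebra.smul_def, mul_one, Ideal.Quotient.algebraMap_eq,
          Ideal.Quotient.eq_zero_iff_mem] at h3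
        exact h3
      have hle' : maximalIdeal A ≤ p := hp.le_of_pow_le hle
      exact ((maximalIdeal.isMaximal A).eq_of_le hp.ne_top hle').symm
    subst hpm
    obtain ⟨eqv, _⟩ := Groth.Agent.S0302.result A (ResidueField A) (F i) E f hull e he
    exact ⟨eqv⟩
  let eq1 : DirectSum ι (fun i => F i) ≃ₗ[A] M :=
    LinearEquiv.ofBijective (DirectSum.coeLinearMap F) hint
  let eq2 : (Π₀ i, F i) ≃ₗ[A] (Π₀ _ : ι, E) :=
    DFinsupp.mapRange.linearEquiv (fun i => (hEi i).some)
  let eq3 : (ι →₀ E) ≃ₗ[A] (Π₀ _ : ι, E) := finsuppLequivDFinsupp A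
  exact ⟨ι, ⟨eq1.symm ≪≫ₗ eq2 ≪≫ₗ eq3.symm⟩⟩

open MvPowerSeries in
theorem mem_span_X_aux (k : Type u) [CommRing k] (d : ℕ) (j : ℕ) (hj : j ≤ d) :
    ∀ f : MvPowerSeries (Fin d) k,
      (∀ m : Fin d →₀ ℕ, (∀ i : Fin d, (i : ℕ) < j → m i = 0) → coeff m f = 0) →
      f ∈ Ideal.span (Set.range (fun i : Fin d => (X i : MvPowerSeries (Fin d) k))) := by
  classical
  induction j with
  | zero =>
    intro f hf
    have : f = 0 := by
      ext m
      rw [hf m (fun i hi => absurd hi (Nat.not_lt_zero _)), map_zero]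
    rw [this]
    exact Submodule.zero_mem _
  | succ j ih =>
    intro f hf
    let jj : Fin d := ⟨j, hj⟩
    let g : MvPowerSeries (Fin d) k := fun m => if m jj = 0 then 0 else coeff m f
    have hg : (X jj : MvPowerSeries (Fin d) k) ∣ g := by
      rw [X_dvd_iff]
      intro m hm
      change (if m jj = 0 then 0 else coeff m f) = 0
      rw [if_pos hm]
    have hgmem : g ∈ Ideal.span (Set.range (fun i : Fin d => (X i : MvPowerSeries (Fin d) k))) := by
      obtain ⟨c, hc⟩ := hg
      rw [hc]
      exact Ideal.mul_mem_right _ _ (Ideal.subset_span ⟨jj, rfl⟩)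
    have hrest : f - g ∈
        Ideal.span (Set.range (fun i : Fin d => (X i : MvPowerSeries (Fin d) k))) := by
      apply ih (Nat.le_of_succ_le hj)
      intro m hm
      rw [map_sub]
      change coeff m f - (if m jj = 0 then 0 else coeff m f) = 0
      by_cases hmj : m jj = 0
      · rw [if_pos hmj, sub_zero]
        apply hf
        intro i hi
        rcases Nat.lt_succ_iff_lt_or_eq.mp hi with h | h
        · exact hm i h
        · have : i = jj := Fin.ext h
          rw [this]; exact hmj
      · rw [if_neg hmj, sub_self]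
    have := Submodule.add_mem _ hrest hgmem
    rwa [sub_add_cancel] at this

open MvPowerSeries in
theorem span_X_isMaximal (k : Type u) [Field k] (d : ℕ) :
    (Ideal.span (Set.range (fun i : Fin d => (X i : MvPowerSeries (Fin d) k)))).IsMaximal := by
  have heq : Ideal.span (Set.range (fun i : Fin d => (X i : MvPowerSeries (Fin d) k))) =
      RingHom.ker (constantCoeff (σ := Fin d) (R := k)) := by
    apply le_antisymm
    · rw [Ideal.span_le]
      rintro _ ⟨i, rfl⟩
      rw [SetLike.mem_coe, RingHom.mem_ker]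
      exact constantCoeff_X i
    · intro f hf
      rw [RingHom.mem_ker] at hf
      apply mem_span_X_aux k d d le_rfl f
      intro m hm
      have : m = 0 := by
        ext i
        exact hm i i.2
      rw [this]
      exact hf
  rw [heq]
  exact RingHom.ker_isMaximal_of_surjective _ (fun a => ⟨C a, constantCoeff_C a⟩)

end Groth.Agent.Lib.T2H2.DTors
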