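import Groth.Agent.Lib.T2H1DerivedComp

/-!
# Right derived functor of a composite `F ⋙ G` when `F` sends K-injectives to `G`-acyclics (T2H2)
-/

set_option autoImplicit false
set_option linter.style.haveILetI false

universe w w' w₁ w₂ w₃ v v' v'' u u' u''

open CategoryTheory CategoryTheory.Limits HomologicalComplex MorphismProperty

namespace Groth.Agent.Lib.T2H2.DerivedCompB

open Groth.Agent.Lib.Helper17.KInj

variable {A : Type u} [Category.{v} A] [Abelian A] [IsGrothendieckAbelian.{w} A]
  {B : Type u'} [Category.{v'} B] [Abelian B]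
  {C : Type u''} [Category.{v''} C] [Abelian C]
  [HasDerivedCategory.{w₁} A] [HasDerivedCategory.{w₂} B] [HasDerivedCategory.{w₃} C]
  (F : A ⥤ B) [F.Additive] (RF : DerivedCategory A ⥤ DerivedCategory B)
  (βF : F.mapHomologicalComplex (ComplexShape.up ℤ) ⋙ DerivedCategory.Q ⟶ DerivedCategory.Q ⋙ RF)
  [RF.IsRightDerivedFunctor βF (HomologicalComplex.quasiIso A (ComplexShape.up ℤ))]
  (G : B ⥤ C) [G.Additive] (RG : DerivedCategory B ⥤ DerivedCategory C)
  (βG : G.mapHomologicalComplex (ComplexShape.up ℤ) ⋙ DerivedCategory.Q ⟶ DerivedCategory.Q ⋙ RG)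

/-- the unit of `RF ⋙ RG` as a candidate right derived functor of `F ⋙ G`. -/
noncomputable def unitComp :
    (F ⋙ G).mapHomologicalComplex (ComplexShape.up ℤ) ⋙ DerivedCategory.Q ⟶
      DerivedCategory.Q ⋙ (RF ⋙ RG) :=
  Functor.whiskerRight (Functor.mapHomologicalComplexCompIso (Iso.refl (F ⋙ G))
      (ComplexShape.up ℤ)).inv DerivedCategory.Q ≫
    (Functor.associator _ _ _).hom ≫
    Functor.whiskerLeft (F.mapHomologicalComplex (ComplexShape.up ℤ)) βG ≫
    (Functor.associator _ _ _).inv ≫
    Functor.whiskerRight βF RG ≫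
    (Functor.associator _ _ _).hom

/-- if `F` sends K-injective complexes to complexes on which the unit of `RG` is invertible, then
`RF ⋙ RG` is the right derived functor of `F ⋙ G`. -/
theorem isRightDerivedFunctor_unitComp
    (hF : ∀ (I : CochainComplex A ℤ) [I.IsKInjective],
      IsIso (βG.app ((F.mapHomologicalComplex (ComplexShape.up ℤ)).obj I))) :
    (RF ⋙ RG).IsRightDerivedFunctor (unitComp F RF βF G RG βG)
      (HomologicalComplex.quasiIso A (ComplexShape.up ℤ)) := by
  refine (fibLocalizerMorphism_derives.{w} _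
    (isInvertedBy_mapHomologicalComplex_comp_Q (F ⋙ G))).isRightDerivedFunctor_of_isIso _
    (fun I => ?_)
  haveI := I.property.isKInjective
  haveI := hF I.obj
  haveI := isIso_app_of_isKInjective.{w} F RF βF I.obj
  simp only [unitComp, NatTrans.comp_app, Functor.whiskerRight_app, Functor.whiskerLeft_app,
    Functor.associator_hom_app, Functor.associator_inv_app, Category.comp_id, Category.id_comp]
  haveI h1 : IsIso (RG.map (βF.app I.obj)) := inferInstance
  haveI h2 : IsIso (βG.app ((F.mapHomologicalComplex (ComplexShape.up ℤ)).obj I.obj)) :=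
    inferInstance
  haveI h3 : IsIso (DerivedCategory.Q.map
      ((Functor.mapHomologicalComplexCompIso (Iso.refl (F ⋙ G)) (ComplexShape.up ℤ)).inv.app
        I.obj)) := inferInstance
  exact IsIso.comp_isIso' h3 (IsIso.comp_isIso' h2 h1)

end Groth.Agent.Lib.T2H2.DerivedCompB
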