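import Mathlib
import Groth.Prelude.Def_FlatCA
import Groth.Agent.Lib.Helper4TensorDim
import Groth.Agent.Lib.Helper20SuppBC
import Groth.Agent.Lib.Helper3FlatBC

/-!
# Base change of one-step dévissages (helper2)

* `ringKrullDim_quotient_map_of_isPushout`: dimension of a quotient of a finite type algebra over a field is
  invariant under extension of the base field.
* `supportDim_fiberMod_baseChange`: the dimension of the support of the fibre module is invariant under
  base change `R → R'` (primes `p' | p`).
* `smoothRelDim_of_isPushout`, `geomIrredFibres_of_isPushout`.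
* `isOneStepDevissage_baseChange`.
-/

set_option autoImplicit false
set_option linter.style.haveILetI false
universe u

namespace Groth.Agent.Lib.T2H2.DevBC

open TensorProduct

/-- Dimension of a quotient is invariant under extension of the base field. -/
theorem ringKrullDim_quotient_map_of_isPushout (k k' T T' : Type u) [Field k] [Field k']
    [Algebra k k'] [CommRing T] [Algebra k T] [Algebra.FiniteType k T] [CommRing T']
    [Algebra k T'] [Algebra k' T'] [Algebra T T'] [IsScalarTower k k' T'] [IsScalarTower k T T']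
    [Algebra.IsPushout k T k' T'] (J : Ideal T) :
    ringKrullDim (T' ⧸ J.map (algebraMap T T')) = ringKrullDim (T ⧸ J) := by
  let e : T ⊗[k] k' ≃ₐ[T] T' := Algebra.IsPushout.equiv k T k' T'
  have hmap : J.map (algebraMap T T') =
      (J.map (algebraMap T (T ⊗[k] k'))).map (e : T ⊗[k] k' →+* T') := by
    rw [Ideal.map_map]
    congr 1
    ext t
    exact (e.commutes t).symm
  let e1 : (T ⊗[k] k') ⧸ J.map (algebraMap T (T ⊗[k] k')) ≃+* T' ⧸ J.map (algebraMap T T') :=
    Ideal.quotientEquiv _ _ e.toRingEquiv hmap
  let e2 : (T ⧸ J) ⊗[k] k' ≃ₐ[k] (T ⊗[k] k') ⧸ J.map (algebraMap T (T ⊗[k] k')) :=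
    Algebra.TensorProduct.quotientTensorEquiv (R := k) k k' T J
  rw [← ringKrullDim_eq_of_ringEquiv e1, ← ringKrullDim_eq_of_ringEquiv e2.toRingEquiv,
    Groth.Agent.Lib.Helper4.TensorDim.ringKrullDim_tensor_eq_add k (T ⧸ J) k',
    ringKrullDim_eq_zero_of_field, add_zero]

theorem supportDim_eq_of_support_eq_preimage {T T' : Type u} [CommRing T] [CommRing T']
    [Algebra T T'] (F : Type u) [AddCommGroup F] [Module T F] [Module.Finite T F]
    (F' : Type u) [AddCommGroup F'] [Module T' F']
    (h : Module.support T' F' = PrimeSpectrum.comap (algebraMap T T') ⁻¹' Module.support T F)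
    (hdim : ∀ J : Ideal T, ringKrullDim (T' ⧸ J.map (algebraMap T T')) = ringKrullDim (T ⧸ J)) :
    Module.supportDim T' F' = Module.supportDim T F := by
  rw [Module.supportDim_eq_ringKrullDim_quotient_annihilator (R := T), ← hdim,
    ringKrullDim_quotient, Module.supportDim, h, Module.support_eq_zeroLocus,
    PrimeSpectrum.preimage_comap_zeroLocus, ← PrimeSpectrum.zeroLocus_span, ← Ideal.map]

section FibreBC
variable {R R' S S' : Type u} [CommRing R] [CommRing R'] [CommRing S] [CommRing S'] [Algebra R R']
  [Algebra R S] [Algebra R' S'] [Algebra R S'] [Algebra S S'] [IsScalarTower R R' S']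
  [IsScalarTower R S S'] [Algebra.IsPushout R R' S S'] [Algebra.FiniteType R S]
  (p : Ideal R) [p.IsPrime] (p' : Ideal R') [p'.IsPrime] [p'.LiesOver p]
  (N : Type u) [AddCommGroup N] [Module S N] [Module.Finite S N]
  (N' : Type u) [AddCommGroup N'] [Module S' N'] [Module S N'] [IsScalarTower S S' N']
  (f : N →ₗ[S] N') (hf : IsBaseChange S' f)

attribute [local instance] Algebra.TensorProduct.rightAlgebra

include hf in
theorem supportDim_fiberMod_baseChange :
    Module.supportDim (p'.Fiber S') (FlatCA.fiberMod p' S' N') =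
      Module.supportDim (p.Fiber S) (FlatCA.fiberMod p S N) := by
  letI algkk' : Algebra p.ResidueField p'.ResidueField :=
    (Ideal.ResidueField.mapₐ p p' (Algebra.ofId R R') (Ideal.LiesOver.over)).toRingHom.toAlgebra
  haveI tRkk' : IsScalarTower R p.ResidueField p'.ResidueField :=
    IsScalarTower.of_algebraMap_eq fun r =>
      ((Ideal.ResidueField.mapₐ p p' (Algebra.ofId R R') (Ideal.LiesOver.over)).commutes r).symm
  letI algST' : Algebra S (p'.Fiber S') :=
    ((algebraMap S' (p'.Fiber S')).comp (algebraMap S S')).toAlgebra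
  haveI tSS'T' : IsScalarTower S S' (p'.Fiber S') := IsScalarTower.of_algebraMap_eq fun s => rfl
  haveI tkk'T' : IsScalarTower p.ResidueField p'.ResidueField (p'.Fiber S') := inferInstance
  haveI tRST' : IsScalarTower R S (p'.Fiber S') := IsScalarTower.of_algebraMap_eq fun r => by
    rw [IsScalarTower.algebraMap_apply S S' (p'.Fiber S'), ← IsScalarTower.algebraMap_apply R S S',
      IsScalarTower.algebraMap_apply R R' S', ← IsScalarTower.algebraMap_apply R' S' (p'.Fiber S'),
      ← IsScalarTower.algebraMap_apply R R' (p'.Fiber S')]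
  haveI tRkT' : IsScalarTower R p.ResidueField (p'.Fiber S') :=
    IsScalarTower.of_algebraMap_eq fun r => by
      rw [IsScalarTower.algebraMap_apply p.ResidueField p'.ResidueField (p'.Fiber S'),
        ← IsScalarTower.algebraMap_apply R p.ResidueField p'.ResidueField,
        ← IsScalarTower.algebraMap_apply R p'.ResidueField (p'.Fiber S')]
  haveI tRS'T' : IsScalarTower R S' (p'.Fiber S') := IsScalarTower.of_algebraMap_eq fun r => by
    rw [IsScalarTower.algebraMap_apply R R' S', ← IsScalarTower.algebraMap_apply R' S' (p'.Fiber S'),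
      ← IsScalarTower.algebraMap_apply R R' (p'.Fiber S')]
  -- the map of fibre rings
  let ψ : p.Fiber S →ₐ[p.ResidueField] p'.Fiber S' :=
    Algebra.TensorProduct.lift (Algebra.ofId p.ResidueField (p'.Fiber S'))
      (IsScalarTower.toAlgHom R S (p'.Fiber S')) (fun _ _ => Commute.all _ _)
  letI algTT' : Algebra (p.Fiber S) (p'.Fiber S') := ψ.toRingHom.toAlgebra
  haveI tkTT' : IsScalarTower p.ResidueField (p.Fiber S) (p'.Fiber S') :=
    IsScalarTower.of_algebraMap_eq fun a => (ψ.commutes a).symm
  haveI tSTT' : IsScalarTower S (p.Fiber S) (p'.Fiber S') :=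
    IsScalarTower.of_algebraMap_eq fun s => by
      change _ = ψ ((1 : p.ResidueField) ⊗ₜ[R] s)
      simp only [ψ, Algebra.TensorProduct.lift_tmul, map_one, one_mul]
      rfl
  haveI tRTT' : IsScalarTower R (p.Fiber S) (p'.Fiber S') :=
    IsScalarTower.of_algebraMap_eq (R := R) (S := p.Fiber S) (A := p'.Fiber S') fun r => by
      rw [IsScalarTower.algebraMap_apply R p.ResidueField (p.Fiber S),
        ← IsScalarTower.algebraMap_apply p.ResidueField (p.Fiber S) (p'.Fiber S'),
        ← IsScalarTower.algebraMap_apply R p.ResidueField (p'.Fiber S')]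
  have hpoA : Algebra.IsPushout R p'.ResidueField S (p'.Fiber S') :=
    (Algebra.IsPushout.comp_iff R R' S (S' := S') (T := p'.ResidueField)
      (T' := p'.Fiber S')).mpr inferInstance
  have hpoB : Algebra.IsPushout p.ResidueField p'.ResidueField (p.Fiber S) (p'.Fiber S') :=
    (Algebra.IsPushout.comp_iff R p.ResidueField S (S' := p.Fiber S) (T := p'.ResidueField)
      (T' := p'.Fiber S')).mp hpoA
  haveI hpoC : Algebra.IsPushout p.ResidueField (p.Fiber S) p'.ResidueField (p'.Fiber S') :=
    hpoB.symm
  haveI : Module.Finite S' N' := Module.Finite.equiv hf.equiv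
  haveI : Module.Finite (p.Fiber S) (FlatCA.fiberMod p S N) :=
    inferInstanceAs (Module.Finite (p.Fiber S) ((p.Fiber S) ⊗[S] N))
  refine supportDim_eq_of_support_eq_preimage (T := p.Fiber S) (T' := p'.Fiber S')
    (FlatCA.fiberMod p S N) (FlatCA.fiberMod p' S' N') ?_
    (fun J => ringKrullDim_quotient_map_of_isPushout p.ResidueField p'.ResidueField
      (p.Fiber S) (p'.Fiber S') J)
  ext q'
  rw [Set.mem_preimage]
  change q' ∈ Module.support (p'.Fiber S') ((p'.Fiber S') ⊗[S'] N') ↔
    PrimeSpectrum.comap (algebraMap (p.Fiber S) (p'.Fiber S')) q' ∈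
      Module.support (p.Fiber S) ((p.Fiber S) ⊗[S] N)
  rw [Groth.Agent.Lib.Helper20.SuppBC.mem_support_baseChange_iff,
    Groth.Agent.Lib.Helper20.SuppBC.mem_support_baseChange_iff,
    ← LinearEquiv.support_eq hf.equiv,
    Groth.Agent.Lib.Helper20.SuppBC.mem_support_baseChange_iff]
  have heq : PrimeSpectrum.comap (algebraMap S S')
        (PrimeSpectrum.comap (algebraMap S' (p'.Fiber S')) q') =
      PrimeSpectrum.comap (algebraMap S (p.Fiber S))
        (PrimeSpectrum.comap (algebraMap (p.Fiber S) (p'.Fiber S')) q') := by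
    rw [← PrimeSpectrum.comap_comp_apply, ← PrimeSpectrum.comap_comp_apply,
      ← IsScalarTower.algebraMap_eq S S' (p'.Fiber S'),
      ← IsScalarTower.algebraMap_eq S (p.Fiber S) (p'.Fiber S')]
  rw [heq]

end FibreBC

open CategoryTheory AlgebraicGeometry in
theorem smoothRelDim_of_isPushout {R R' D D' : Type u} [CommRing R] [CommRing R'] [CommRing D]
    [CommRing D'] [Algebra R R'] [Algebra R D] [Algebra R' D'] [Algebra R D'] [Algebra D D']
    [IsScalarTower R R' D'] [IsScalarTower R D D'] [Algebra.IsPushout R R' D D'] (n : ℕ)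
    (h : FlatCA.SmoothRelDim n R D) : FlatCA.SmoothRelDim n R' D' := by
  have hpush := CommRingCat.isPushout_of_isPushout R R' D D'
  have hpb := isPullback_SpecMap_of_isPushout _ _ _ _ hpush
  exact (smoothOfRelativeDimension_isStableUnderBaseChange n).of_isPullback hpb.flip h

open CategoryTheory AlgebraicGeometry in
theorem geomIrredFibres_of_isPushout {R R' D D' : Type u} [CommRing R] [CommRing R'] [CommRing D]
    [CommRing D'] [Algebra R R'] [Algebra R D] [Algebra R' D'] [Algebra R D'] [Algebra D D']
    [IsScalarTower R R' D'] [IsScalarTower R D D'] [Algebra.IsPushout R R' D D']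
    (h : FlatCA.GeomIrredFibres R D) : FlatCA.GeomIrredFibres R' D' := by
  have hpush := CommRingCat.isPushout_of_isPushout R R' D D'
  have hpb := isPullback_SpecMap_of_isPushout _ _ _ _ hpush
  exact MorphismProperty.of_isPullback (P := @GeometricallyIrreducible) hpb.flip h

theorem isOneStepDevissage_baseChange
    (R S : Type u) [CommRing R] [CommRing S] [Algebra R S] [Algebra.FiniteType R S]
    (N : Type u) [AddCommGroup N] [Module S N] [Module R N] [IsScalarTower R S N] [Module.Finite S N]
    (p : Ideal R) [p.IsPrime]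
    (C D G : Type u) [CommRing C] [CommRing D] [Algebra S C] [Algebra R C] [IsScalarTower R S C]
    [Algebra R D] [Algebra D C] [IsScalarTower R D C] [AddCommGroup G] [Module C G] [Module S G]
    [IsScalarTower S C G] (n : ℕ)
    (h : FlatCA.IsOneStepDevissage R S N p C D G n)
    (R' : Type u) [CommRing R'] [Algebra R R'] (p' : Ideal R') [p'.IsPrime] [p'.LiesOver p]
    (S' C' D' : Type u) [CommRing S'] [CommRing C'] [CommRing D']
    [Algebra R' S'] [Algebra R S'] [Algebra S S'] [IsScalarTower R R' S'] [IsScalarTower R S S']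
    [Algebra.IsPushout R R' S S']
    [Algebra R' C'] [Algebra R C'] [Algebra C C'] [IsScalarTower R R' C'] [IsScalarTower R C C']
    [Algebra.IsPushout R R' C C']
    [Algebra R' D'] [Algebra R D'] [Algebra D D'] [IsScalarTower R R' D'] [IsScalarTower R D D']
    [Algebra.IsPushout R R' D D']
    [Algebra S' C'] [IsScalarTower R' S' C'] [Algebra S C'] [IsScalarTower S S' C'] [IsScalarTower S C C']
    [Algebra D' C'] [IsScalarTower R' D' C'] [Algebra D C'] [IsScalarTower D D' C'] [IsScalarTower D C C']
    (N' : Type u) [AddCommGroup N'] [Module S' N'] [Module R' N'] [IsScalarTower R' S' N']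
    [Module S N'] [IsScalarTower S S' N'] (f : N →ₗ[S] N') (hf : IsBaseChange S' f)
    (G' : Type u) [AddCommGroup G'] [Module C' G'] [Module S' G'] [IsScalarTower S' C' G']
    [Module C G'] [IsScalarTower C C' G'] (g : G →ₗ[C] G') (hg : IsBaseChange C' g) :
    FlatCA.IsOneStepDevissage R' S' N' p' C' D' G' n := by
  obtain ⟨⟨e⟩, hsurj, hfp, hfinDC, hfinCG, hsm, hirr, hdim⟩ := h
  -- the pushout squares `S → C`, `S' → C'` and `D → C`, `D' → C'`
  haveI tRS'C' : IsScalarTower R S' C' := IsScalarTower.of_algebraMap_eq (R := R) (S := S') (A := C')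
    fun r => by
      rw [IsScalarTower.algebraMap_apply R R' S', ← IsScalarTower.algebraMap_apply R' S' C',
        ← IsScalarTower.algebraMap_apply R R' C']
  haveI tRD'C' : IsScalarTower R D' C' := IsScalarTower.of_algebraMap_eq (R := R) (S := D') (A := C')
    fun r => by
      rw [IsScalarTower.algebraMap_apply R R' D', ← IsScalarTower.algebraMap_apply R' D' C',
        ← IsScalarTower.algebraMap_apply R R' C']
  haveI hpoS : Algebra.IsPushout R S R' S' := Algebra.IsPushout.symm inferInstance
  haveI hpoC : Algebra.IsPushout R C R' C' := Algebra.IsPushout.symm inferInstance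
  haveI hpoD : Algebra.IsPushout R D R' D' := Algebra.IsPushout.symm inferInstance
  haveI hSC : Algebra.IsPushout S C S' C' :=
    (Algebra.IsPushout.comp_iff R S R' (S' := S') (T := C) (T' := C')).mp inferInstance
  haveI hDC : Algebra.IsPushout D C D' C' :=
    (Algebra.IsPushout.comp_iff R D R' (S' := D') (T := C) (T' := C')).mp inferInstance
  haveI hSC' : Algebra.IsPushout S S' C C' := hSC.symm
  haveI hDC' : Algebra.IsPushout D D' C C' := hDC.symm
  refine ⟨?_, ?_, ?_, ?_, ?_, smoothRelDim_of_isPushout n hsm, geomIrredFibres_of_isPushout hirr, ?_⟩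
  · letI modSG' : Module S G' := Module.compHom G' (algebraMap S S')
    haveI tSS'G' : IsScalarTower S S' G' := IsScalarTower.of_algebraMap_smul fun r x => rfl
    haveI tSCG' : IsScalarTower S C G' := by
      refine IsScalarTower.of_algebraMap_smul fun s x => ?_
      rw [← algebraMap_smul C' (algebraMap S C s) x, ← IsScalarTower.algebraMap_apply S C C',
        IsScalarTower.algebraMap_apply S S' C', algebraMap_smul, algebraMap_smul]
    have h2 : IsBaseChange S' (g.restrictScalars S) :=
      Groth.Agent.Lib.Helper3.FlatLoc.isBaseChange_restrictScalars_of_isPushout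
        (A := S) (R := S') (PA := C) (PR := C') g hg
    exact ⟨hf.equiv.symm ≪≫ₗ
      (AlgebraTensorModule.congr (LinearEquiv.refl S' S') e) ≪≫ₗ h2.equiv⟩
  · intro c'
    refine hSC'.out.inductionOn c' (fun x => ∃ s', algebraMap S' C' s' = x) ⟨0, map_zero _⟩
      ?_ ?_ ?_
    · intro c
      obtain ⟨s, rfl⟩ := hsurj c
      refine ⟨algebraMap S S' s, ?_⟩
      change _ = algebraMap C C' (algebraMap S C s)
      rw [← IsScalarTower.algebraMap_apply S S' C', ← IsScalarTower.algebraMap_apply S C C']
    · rintro s' x ⟨t, rfl⟩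
      exact ⟨s' * t, by rw [map_mul, Algebra.smul_def]⟩
    · rintro x y ⟨a, rfl⟩ ⟨b, rfl⟩
      exact ⟨a + b, map_add _ _ _⟩
  · exact Algebra.FinitePresentation.equiv (Algebra.IsPushout.equiv S S' C C')
  · exact Module.Finite.equiv (Algebra.IsPushout.equiv D D' C C').toLinearEquiv
  · exact Module.Finite.equiv hg.equiv
  · rw [← hdim]
    exact supportDim_fiberMod_baseChange p p' N N' f hf

end Groth.Agent.Lib.T2H2.DevBC
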