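import Mathlib
import Groth.Prelude.Def_FlatCA
import Groth.Agent.Lib.Helper20SuppBC
import Groth.Agent.S1224

/-!
# Base change with trivial residue field extension (helper2)

Let `R → R'` be a ring map and `p'` a prime of `R'` over `p` such that `κ(p) → κ(p')` is surjective.
* `exists_approx`, `exists_approx_pushout`: elements of a base change `B' = B ⊗_R R'` are fractions
  `b/s` (`s ∈ R \ p`) modulo `p' B'`.
* `eq_of_comap_eq`: primes of `B'` over `p'` are determined by their contraction to `B`.
* `residueField_map_surjective`: the residue field extension at such a prime is trivial.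
* `transcendenceBasis_transport`: transport of generating transcendence bases along compatible isomorphisms.
* `eq_fiberIdeal_comap`: a prime of the fibre ring is the extension of its contraction.
* `exists_fiber_ringHom`: the map of fibre rings, its effect on supports, bijectivity.
-/

set_option autoImplicit false
set_option linter.style.haveILetI false
universe u
open TensorProduct

namespace Groth.Agent.Lib.T2H2.DevBC2


section Approx

variable {R R' : Type u} [CommRing R] [CommRing R'] [Algebra R R']
  (p : Ideal R) [p.IsPrime] (p' : Ideal R') [p'.IsPrime] [hp' : p'.LiesOver p]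
  (hκ : Function.Surjective (Ideal.ResidueField.mapₐ p p' (Algebra.ofId R R') hp'.over))

include hκ in
/-- Elements of `R'` are fractions of elements of `R` modulo `p'`. -/
theorem exists_approx (r' : R') :
    ∃ s : R, s ∉ p ∧ ∃ r : R, algebraMap R R' s * r' - algebraMap R R' r ∈ p' := by
  obtain ⟨a, ha⟩ := hκ (algebraMap R' p'.ResidueField r')
  obtain ⟨x, y, hy, rfl⟩ := IsFractionRing.div_surjective (A := R ⧸ p) a
  obtain ⟨r, rfl⟩ := Ideal.Quotient.mk_surjective x
  obtain ⟨s, rfl⟩ := Ideal.Quotient.mk_surjective y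
  have hs : s ∉ p := by
    intro hs
    have : Ideal.Quotient.mk p s = 0 := Ideal.Quotient.eq_zero_iff_mem.mpr hs
    rw [this] at hy
    exact zero_notMem_nonZeroDivisors hy
  refine ⟨s, hs, r, ?_⟩
  rw [← Ideal.algebraMap_residueField_eq_zero, map_sub, map_mul, sub_eq_zero]
  have h1 : ∀ t : R, (Ideal.ResidueField.mapₐ p p' (Algebra.ofId R R') hp'.over)
      (algebraMap (R ⧸ p) p.ResidueField (Ideal.Quotient.mk p t)) =
      algebraMap R' p'.ResidueField (algebraMap R R' t) := fun t => by
    rw [Ideal.algebraMap_quotient_residueField_mk, Ideal.ResidueField.mapₐ_apply,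
      Ideal.ResidueField.map_algebraMap]
    rfl
  have hne : algebraMap R' p'.ResidueField (algebraMap R R' s) ≠ 0 := by
    rw [Ne, Ideal.algebraMap_residueField_eq_zero]
    intro h
    apply hs
    rw [hp'.over]
    exact h
  rw [← ha, map_div₀, h1, h1, mul_div_cancel₀ _ hne]

variable {B B' : Type u} [CommRing B] [CommRing B'] [Algebra R B] [Algebra R' B'] [Algebra R B']
  [Algebra B B'] [IsScalarTower R R' B'] [IsScalarTower R B B'] [Algebra.IsPushout R R' B B']

include hκ in
/-- Elements of the base change `B'` are fractions of elements of `B` modulo `p' B'`. -/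
theorem exists_approx_pushout (x : B') :
    ∃ s : R, s ∉ p ∧ ∃ b : B,
      algebraMap R B' s * x - algebraMap B B' b ∈ p'.map (algebraMap R' B') := by
  have hbc : IsBaseChange R' (IsScalarTower.toAlgHom R B B').toLinearMap :=
    Algebra.IsPushout.out
  refine hbc.inductionOn x (fun x => ∃ s : R, s ∉ p ∧ ∃ b : B,
      algebraMap R B' s * x - algebraMap B B' b ∈ p'.map (algebraMap R' B')) ?_ ?_ ?_ ?_
  · exact ⟨1, fun h => (Ideal.IsPrime.ne_top inferInstance) ((Ideal.eq_top_iff_one p).mpr h), 0,
      by simp⟩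
  · intro b
    refine ⟨1, fun h => (Ideal.IsPrime.ne_top inferInstance) ((Ideal.eq_top_iff_one p).mpr h), b,
      ?_⟩
    simp
  · rintro r' x ⟨s, hs, b, hb⟩
    obtain ⟨s₀, hs₀, r₀, hr₀⟩ := exists_approx p p' hκ r'
    refine ⟨s₀ * s, fun h => (Ideal.IsPrime.mem_or_mem inferInstance h).elim hs₀ hs, r₀ • b, ?_⟩
    have h1 : algebraMap R' B' (algebraMap R R' s₀ * r' - algebraMap R R' r₀) ∈
        p'.map (algebraMap R' B') := Ideal.mem_map_of_mem _ hr₀
    have key : algebraMap R B' (s₀ * s) * (r' • x) - algebraMap B B' (r₀ • b) =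
        algebraMap R' B' (algebraMap R R' s₀ * r' - algebraMap R R' r₀) *
          (algebraMap R B' s * x) +
        algebraMap R B' r₀ * (algebraMap R B' s * x - algebraMap B B' b) := by
      rw [Algebra.smul_def, Algebra.smul_def, map_mul, map_sub, map_mul, map_mul,
        ← IsScalarTower.algebraMap_apply R R' B', ← IsScalarTower.algebraMap_apply R R' B',
        ← IsScalarTower.algebraMap_apply R B B']
      ring
    rw [key]
    exact Ideal.add_mem _ (Ideal.mul_mem_right _ _ h1) (Ideal.mul_mem_left _ _ hb)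
  · rintro x y ⟨s₁, hs₁, b₁, hb₁⟩ ⟨s₂, hs₂, b₂, hb₂⟩
    refine ⟨s₁ * s₂, fun h => (Ideal.IsPrime.mem_or_mem inferInstance h).elim hs₁ hs₂,
      s₂ • b₁ + s₁ • b₂, ?_⟩
    have key : algebraMap R B' (s₁ * s₂) * (x + y) - algebraMap B B' (s₂ • b₁ + s₁ • b₂) =
        algebraMap R B' s₂ * (algebraMap R B' s₁ * x - algebraMap B B' b₁) +
        algebraMap R B' s₁ * (algebraMap R B' s₂ * y - algebraMap B B' b₂) := by
      rw [map_add, Algebra.smul_def, Algebra.smul_def, map_mul, map_mul, map_mul,
        ← IsScalarTower.algebraMap_apply R B B', ← IsScalarTower.algebraMap_apply R B B']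
      ring
    rw [key]
    exact Ideal.add_mem _ (Ideal.mul_mem_left _ _ hb₁) (Ideal.mul_mem_left _ _ hb₂)

include hκ in
/-- A prime of the base change lying over `p'` is determined by its contraction. -/
theorem eq_of_comap_eq (Q₁ Q₂ : Ideal B') [Q₁.IsPrime] [Q₂.IsPrime] [h₁ : Q₁.LiesOver p']
    [h₂ : Q₂.LiesOver p']
    (h : Q₁.comap (algebraMap B B') = Q₂.comap (algebraMap B B')) : Q₁ = Q₂ := by
  have aux : ∀ (Q₁ Q₂ : Ideal B') [Q₁.IsPrime] [Q₂.IsPrime] [Q₁.LiesOver p'] [Q₂.LiesOver p'],
      Q₁.comap (algebraMap B B') = Q₂.comap (algebraMap B B') → Q₁ ≤ Q₂ := by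
    intro Q₁ Q₂ _ _ h₁ h₂ h x hx
    obtain ⟨s, hs, b, hb⟩ := exists_approx_pushout p p' hκ (B := B) x
    have hle₁ : p'.map (algebraMap R' B') ≤ Q₁ := by
      rw [Ideal.map_le_iff_le_comap, ← Ideal.under_def, ← h₁.over]
    have hle₂ : p'.map (algebraMap R' B') ≤ Q₂ := by
      rw [Ideal.map_le_iff_le_comap, ← Ideal.under_def, ← h₂.over]
    have hb₁ : algebraMap B B' b ∈ Q₁ := by
      have := Ideal.sub_mem _ (Ideal.mul_mem_left Q₁ (algebraMap R B' s) hx) (hle₁ hb)
      rwa [sub_sub_cancel] at this
    have hb₂ : algebraMap B B' b ∈ Q₂ := by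
      have : b ∈ Q₂.comap (algebraMap B B') := h ▸ hb₁
      exact this
    have hsx : algebraMap R B' s * x ∈ Q₂ := by
      have := Ideal.add_mem _ (hle₂ hb) hb₂
      rwa [sub_add_cancel] at this
    rcases Ideal.IsPrime.mem_or_mem inferInstance hsx with hs' | hx'
    · exfalso
      apply hs
      rw [hp'.over, Ideal.mem_comap, h₂.over, Ideal.under_def, Ideal.mem_comap,
        ← IsScalarTower.algebraMap_apply]
      exact hs'
    · exact hx'
  exact le_antisymm (aux Q₁ Q₂ h) (aux Q₂ Q₁ h.symm)

include hκ in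
theorem mem_range_residueField_map (Q : Ideal B) [Q.IsPrime] (Q' : Ideal B') [Q'.IsPrime]
    [h' : Q'.LiesOver p'] (hQ : Q = Q'.comap (algebraMap B B')) (x : B') :
    algebraMap B' Q'.ResidueField x ∈
      (Ideal.ResidueField.map Q Q' (algebraMap B B') hQ).range := by
  obtain ⟨s, hs, b, hb⟩ := exists_approx_pushout p p' hκ (B := B) x
  have hle : p'.map (algebraMap R' B') ≤ Q' := by
    rw [Ideal.map_le_iff_le_comap, ← Ideal.under_def, ← h'.over]
  have h0 : algebraMap B' Q'.ResidueField (algebraMap R B' s * x - algebraMap B B' b) = 0 :=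
    Ideal.algebraMap_residueField_eq_zero.mpr (hle hb)
  rw [map_sub, map_mul, sub_eq_zero] at h0
  have hsne : algebraMap B' Q'.ResidueField (algebraMap R B' s) ≠ 0 := by
    rw [Ne, Ideal.algebraMap_residueField_eq_zero]
    intro hs'
    apply hs
    rw [hp'.over, Ideal.mem_comap, h'.over, Ideal.under_def, Ideal.mem_comap,
      ← IsScalarTower.algebraMap_apply]
    exact hs'
  have h1 : ∀ t : B, algebraMap B' Q'.ResidueField (algebraMap B B' t) =
      Ideal.ResidueField.map Q Q' (algebraMap B B') hQ (algebraMap B Q.ResidueField t) :=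
    fun t => (Ideal.ResidueField.map_algebraMap Q Q' (algebraMap B B') hQ t).symm
  have hx : algebraMap B' Q'.ResidueField x =
      Ideal.ResidueField.map Q Q' (algebraMap B B') hQ
        (algebraMap B Q.ResidueField b / algebraMap B Q.ResidueField (algebraMap R B s)) := by
    rw [map_div₀, ← h1, ← h1, ← IsScalarTower.algebraMap_apply R B B', ← h0,
      mul_div_cancel_left₀ _ hsne]
  rw [hx]
  exact ⟨_, rfl⟩

include hκ in
/-- The residue field extension at a prime over `p'` of the base change is trivial. -/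
theorem residueField_map_surjective (Q : Ideal B) [Q.IsPrime] (Q' : Ideal B') [Q'.IsPrime]
    [h' : Q'.LiesOver p'] (hQ : Q = Q'.comap (algebraMap B B')) :
    Function.Surjective (Ideal.ResidueField.map Q Q' (algebraMap B B') hQ) := by
  intro z
  obtain ⟨x, y, hy, rfl⟩ := IsFractionRing.div_surjective (A := B' ⧸ Q') z
  obtain ⟨x, rfl⟩ := Ideal.Quotient.mk_surjective x
  obtain ⟨y, rfl⟩ := Ideal.Quotient.mk_surjective y
  rw [Ideal.algebraMap_quotient_residueField_mk, Ideal.algebraMap_quotient_residueField_mk]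
  obtain ⟨a, ha⟩ := mem_range_residueField_map p p' hκ Q Q' hQ x
  obtain ⟨c, hc⟩ := mem_range_residueField_map p p' hκ Q Q' hQ y
  exact ⟨a / c, by rw [map_div₀, ha, hc]⟩

end Approx



/-- Transport of a generating transcendence basis along compatible isomorphisms of fields. -/
theorem transcendenceBasis_transport {K K' L L' : Type u} [Field K] [Field K'] [Field L] [Field L']
    [Algebra K L] [Algebra K' L'] (f : K →+* K') (hf : Function.Bijective f) (g : L →+* L')
    (hg : Function.Bijective g) (hcomp : g.comp (algebraMap K L) = (algebraMap K' L').comp f)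
    {ι : Type u} (x : ι → L) (hx : IsTranscendenceBasis K x)
    (hadj : IntermediateField.adjoin K (Set.range x) = ⊤) :
    IsTranscendenceBasis K' (g ∘ x) ∧ IntermediateField.adjoin K' (Set.range (g ∘ x)) = ⊤ := by
  letI algKK' : Algebra K K' := f.toAlgebra
  letI algKL' : Algebra K L' := ((algebraMap K' L').comp f).toAlgebra
  haveI : IsScalarTower K K' L' := IsScalarTower.of_algebraMap_eq (R := K) (S := K') (A := L')
    fun a => rfl
  let ge : L ≃ₐ[K] L' := AlgEquiv.ofBijective
    { g with commutes' := fun a => RingHom.congr_fun hcomp a } hg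
  have hge : (ge : L → L') = g := rfl
  have h1 : IsTranscendenceBasis K (g ∘ x) := ge.isTranscendenceBasis hx
  have h2 : IntermediateField.adjoin K (Set.range (g ∘ x)) = ⊤ := by
    rw [Set.range_comp, ← hge]
    have := IntermediateField.adjoin_map (F := K) (S := Set.range x) ge.toAlgHom
    rw [hadj] at this
    have h3 : IntermediateField.adjoin K ((ge : L → L') '' Set.range x) =
        IntermediateField.map (ge : L →ₐ[K] L') ⊤ := this.symm
    rw [h3, ← AlgHom.fieldRange_eq_map, AlgHom.fieldRange_eq_top]
    exact ge.surjective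
  constructor
  · refine ⟨?_, fun s hs hsub => ?_⟩
    · exact AlgebraicIndependent.ringHom_of_comp_eq (R := K) (S := K') (A := L') (B := L')
        f (RingHom.id L') h1.1 hf.2 Function.injective_id rfl
    · exact h1.2 s (hs.restrictScalars (R := K) hf.1) hsub
  · rw [eq_top_iff]
    intro a _
    have ha : a ∈ IntermediateField.adjoin K (Set.range (g ∘ x)) := h2 ▸ IntermediateField.mem_top
    have hle : IntermediateField.adjoin K (Set.range (g ∘ x)) ≤
        (IntermediateField.adjoin K' (Set.range (g ∘ x))).restrictScalars K :=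
      IntermediateField.adjoin_le_iff.mpr (IntermediateField.subset_adjoin K' _)
    exact hle ha



attribute [local instance] Algebra.TensorProduct.rightAlgebra

/-- A prime of the fibre ring is the extension of its contraction. -/
theorem eq_fiberIdeal_comap {R S : Type u} [CommRing R] [CommRing S] [Algebra R S] (p : Ideal R)
    [p.IsPrime] (P : Ideal (p.Fiber S)) [P.IsPrime] :
    P = FlatCA.fiberIdeal p (P.comap
      (Algebra.TensorProduct.includeRight (R := R) (A := p.ResidueField) (B := S)).toRingHom) := by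
  apply le_antisymm
  · intro x hx
    obtain ⟨r, hr, s, e⟩ := Ideal.Fiber.exists_smul_eq_one_tmul p x
    have hs : (1 : p.ResidueField) ⊗ₜ[R] s ∈ P := by
      rw [← e, Algebra.smul_def]
      exact Ideal.mul_mem_left _ _ hx
    have hs' : (1 : p.ResidueField) ⊗ₜ[R] s ∈ FlatCA.fiberIdeal p (P.comap
        (Algebra.TensorProduct.includeRight (R := R) (A := p.ResidueField) (B := S)).toRingHom) :=
      Ideal.mem_map_of_mem _ (show s ∈ P.comap _ from hs)
    have hunit : IsUnit (algebraMap R (p.Fiber S) r) := by
      rw [IsScalarTower.algebraMap_apply R p.ResidueField (p.Fiber S)]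
      apply IsUnit.map
      rw [isUnit_iff_ne_zero, Ne, Ideal.algebraMap_residueField_eq_zero]
      exact hr
    have hx' : x = ↑(hunit.unit⁻¹) * ((1 : p.ResidueField) ⊗ₜ[R] s) := by
      rw [← e, Algebra.smul_def, ← mul_assoc, IsUnit.val_inv_mul, one_mul]
    rw [hx']
    exact Ideal.mul_mem_left _ _ hs'
  · exact Ideal.map_comap_le

section FibreBC
variable {R R' S S' : Type u} [CommRing R] [CommRing R'] [CommRing S] [CommRing S'] [Algebra R R']
  [Algebra R S] [Algebra R' S'] [Algebra R S'] [Algebra S S'] [IsScalarTower R R' S']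
  [IsScalarTower R S S'] [Algebra.IsPushout R R' S S']
  (p : Ideal R) [p.IsPrime] (p' : Ideal R') [p'.IsPrime] [hp' : p'.LiesOver p]
  (N : Type u) [AddCommGroup N] [Module S N] [Module.Finite S N]
  (N' : Type u) [AddCommGroup N'] [Module S' N'] [Module S N'] [IsScalarTower S S' N']
  (f : N →ₗ[S] N') (hf : IsBaseChange S' f)

include hf in
/-- The map of fibre rings under base change, with its basic properties. -/
theorem exists_fiber_ringHom :
    ∃ ψ : p.Fiber S →+* p'.Fiber S',
      (∀ s : S, ψ ((1 : p.ResidueField) ⊗ₜ[R] s) =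
        (1 : p'.ResidueField) ⊗ₜ[R'] (algebraMap S S' s)) ∧
      (Module.support (p'.Fiber S') (FlatCA.fiberMod p' S' N') =
        PrimeSpectrum.comap ψ ⁻¹' Module.support (p.Fiber S) (FlatCA.fiberMod p S N)) ∧
      (Function.Bijective (Ideal.ResidueField.mapₐ p p' (Algebra.ofId R R') hp'.over) →
        Function.Bijective ψ) := by
  letI algkk' : Algebra p.ResidueField p'.ResidueField :=
    (Ideal.ResidueField.mapₐ p p' (Algebra.ofId R R') (Ideal.LiesOver.over)).toRingHom.toAlgebra
  haveI tRkk' : IsScalarTower R p.ResidueField p'.ResidueField :=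
    IsScalarTower.of_algebraMap_eq fun r =>
      ((Ideal.ResidueField.mapₐ p p' (Algebra.ofId R R') (Ideal.LiesOver.over)).commutes r).symm
  letI algST' : Algebra S (p'.Fiber S') :=
    ((algebraMap S' (p'.Fiber S')).comp (algebraMap S S')).toAlgebra
  haveI tSS'T' : IsScalarTower S S' (p'.Fiber S') := IsScalarTower.of_algebraMap_eq fun s => rfl
  haveI tkk'T' : IsScalarTower p.ResidueField p'.ResidueField (p'.Fiber S') := inferInstance
  haveI tRST' : IsScalarTower R S (p'.Fiber S') := IsScalarTower.of_algebraMap_eq fun r => by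
    rw [IsScalarTower.algebraMap_apply S S' (p'.Fiber S'), ← IsScalarTower.algebraMap_apply R S S',
      IsScalarTower.algebraMap_apply R R' S', ← IsScalarTower.algebraMap_apply R' S' (p'.Fiber S'),
      ← IsScalarTower.algebraMap_apply R R' (p'.Fiber S')]
  haveI tRkT' : IsScalarTower R p.ResidueField (p'.Fiber S') :=
    IsScalarTower.of_algebraMap_eq fun r => by
      rw [IsScalarTower.algebraMap_apply p.ResidueField p'.ResidueField (p'.Fiber S'),
        ← IsScalarTower.algebraMap_apply R p.ResidueField p'.ResidueField,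
        ← IsScalarTower.algebraMap_apply R p'.ResidueField (p'.Fiber S')]
  haveI tRS'T' : IsScalarTower R S' (p'.Fiber S') := IsScalarTower.of_algebraMap_eq fun r => by
    rw [IsScalarTower.algebraMap_apply R R' S', ← IsScalarTower.algebraMap_apply R' S' (p'.Fiber S'),
      ← IsScalarTower.algebraMap_apply R R' (p'.Fiber S')]
  let ψ : p.Fiber S →ₐ[p.ResidueField] p'.Fiber S' :=
    Algebra.TensorProduct.lift (Algebra.ofId p.ResidueField (p'.Fiber S'))
      (IsScalarTower.toAlgHom R S (p'.Fiber S')) (fun _ _ => Commute.all _ _)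
  letI algTT' : Algebra (p.Fiber S) (p'.Fiber S') := ψ.toRingHom.toAlgebra
  haveI tkTT' : IsScalarTower p.ResidueField (p.Fiber S) (p'.Fiber S') :=
    IsScalarTower.of_algebraMap_eq fun a => (ψ.commutes a).symm
  have hψs : ∀ s : S, ψ ((1 : p.ResidueField) ⊗ₜ[R] s) =
      (1 : p'.ResidueField) ⊗ₜ[R'] (algebraMap S S' s) := fun s => by
    simp only [ψ, Algebra.TensorProduct.lift_tmul, map_one, one_mul]
    rfl
  haveI tSTT' : IsScalarTower S (p.Fiber S) (p'.Fiber S') :=
    IsScalarTower.of_algebraMap_eq fun s => by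
      change _ = ψ ((1 : p.ResidueField) ⊗ₜ[R] s)
      rw [hψs]
      rfl
  haveI tRTT' : IsScalarTower R (p.Fiber S) (p'.Fiber S') :=
    IsScalarTower.of_algebraMap_eq (R := R) (S := p.Fiber S) (A := p'.Fiber S') fun r => by
      rw [IsScalarTower.algebraMap_apply R p.ResidueField (p.Fiber S),
        ← IsScalarTower.algebraMap_apply p.ResidueField (p.Fiber S) (p'.Fiber S'),
        ← IsScalarTower.algebraMap_apply R p.ResidueField (p'.Fiber S')]
  have hpoA : Algebra.IsPushout R p'.ResidueField S (p'.Fiber S') :=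
    (Algebra.IsPushout.comp_iff R R' S (S' := S') (T := p'.ResidueField)
      (T' := p'.Fiber S')).mpr inferInstance
  have hpoB : Algebra.IsPushout p.ResidueField p'.ResidueField (p.Fiber S) (p'.Fiber S') :=
    (Algebra.IsPushout.comp_iff R p.ResidueField S (S' := p.Fiber S) (T := p'.ResidueField)
      (T' := p'.Fiber S')).mp hpoA
  haveI : Module.Finite S' N' := Module.Finite.equiv hf.equiv
  refine ⟨ψ.toRingHom, hψs, ?_, ?_⟩
  · ext q'
    rw [Set.mem_preimage]
    change q' ∈ Module.support (p'.Fiber S') ((p'.Fiber S') ⊗[S'] N') ↔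
      PrimeSpectrum.comap (algebraMap (p.Fiber S) (p'.Fiber S')) q' ∈
        Module.support (p.Fiber S) ((p.Fiber S) ⊗[S] N)
    rw [Groth.Agent.Lib.Helper20.SuppBC.mem_support_baseChange_iff,
      Groth.Agent.Lib.Helper20.SuppBC.mem_support_baseChange_iff,
      ← LinearEquiv.support_eq hf.equiv,
      Groth.Agent.Lib.Helper20.SuppBC.mem_support_baseChange_iff]
    have heq : PrimeSpectrum.comap (algebraMap S S')
          (PrimeSpectrum.comap (algebraMap S' (p'.Fiber S')) q') =
        PrimeSpectrum.comap (algebraMap S (p.Fiber S))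
          (PrimeSpectrum.comap (algebraMap (p.Fiber S) (p'.Fiber S')) q') := by
      rw [← PrimeSpectrum.comap_comp_apply, ← PrimeSpectrum.comap_comp_apply,
        ← IsScalarTower.algebraMap_eq S S' (p'.Fiber S'),
        ← IsScalarTower.algebraMap_eq S (p.Fiber S) (p'.Fiber S')]
    rw [heq]
  · intro hbij
    have hbc : IsBaseChange p'.ResidueField
        (IsScalarTower.toAlgHom p.ResidueField (p.Fiber S) (p'.Fiber S')).toLinearMap := hpoB.out
    let e0 : p.ResidueField ≃ₗ[p.ResidueField] p'.ResidueField :=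
      LinearEquiv.ofBijective (Algebra.linearMap p.ResidueField p'.ResidueField) hbij
    let e1 : p.Fiber S ≃ₗ[p.ResidueField] p'.ResidueField ⊗[p.ResidueField] p.Fiber S :=
      (TensorProduct.lid p.ResidueField (p.Fiber S)).symm ≪≫ₗ
        TensorProduct.congr e0 (LinearEquiv.refl p.ResidueField (p.Fiber S))
    have hfun : ∀ t : p.Fiber S, ψ t = hbc.equiv (e1 t) := fun t => by
      simp only [e1, e0, LinearEquiv.trans_apply, TensorProduct.lid_symm_apply,
        TensorProduct.congr_tmul, LinearEquiv.ofBijective_apply, Algebra.linearMap_apply, map_one,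
        LinearEquiv.refl_apply, IsBaseChange.equiv_tmul, one_smul]
      rfl
    have : (ψ.toRingHom : p.Fiber S → p'.Fiber S') = hbc.equiv ∘ e1 := funext hfun
    rw [this]
    exact hbc.equiv.bijective.comp e1.bijective

end FibreBC

end Groth.Agent.Lib.T2H2.DevBC2
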