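import Groth.Agent.Lib.T2H2DevBC
import Groth.Agent.Lib.T2H2DevBC2
import Groth.Agent.Lib.Helper4FibDimE

set_option autoImplicit false
set_option linter.style.haveILetI false
universe u
open TensorProduct

namespace Groth.Agent.Lib.T2H2.DevBC3

open Groth.Agent.Lib.T2H2.DevBC Groth.Agent.Lib.T2H2.DevBC2

attribute [local instance] Algebra.TensorProduct.rightAlgebra

theorem oneStepDevissageAt_baseChange
    (R S : Type u) [CommRing R] [CommRing S] [Algebra R S] [Algebra.FiniteType R S]
    (N : Type u) [AddCommGroup N] [Module S N] [Module R N] [IsScalarTower R S N] [Module.Finite S N]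
    (p : Ideal R) [p.IsPrime] (q : Ideal S) [q.IsPrime] [q.LiesOver p]
    (C D G : Type u) [CommRing C] [CommRing D] [Algebra S C] [Algebra R C] [IsScalarTower R S C]
    [Algebra R D] [Algebra D C] [IsScalarTower R D C] [AddCommGroup G] [Module C G] [Module S G]
    [IsScalarTower S C G] (n : ℕ)
    (h : FlatCA.IsOneStepDevissage R S N p C D G n)
    (z : Ideal C) [z.IsPrime] (y : Ideal D) [y.IsPrime] [z.LiesOver q] [z.LiesOver y] [y.LiesOver p]
    (h1 : ∃ (ξ : PrimeSpectrum (p.Fiber S)) (hξ : ξ ∈ Module.support (p.Fiber S) (FlatCA.fiberMod p S N)),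
      ξ.asIdeal = FlatCA.fiberIdeal p q ∧
      FlatMor.localDim (Module.support (p.Fiber S) (FlatCA.fiberMod p S N)) ⟨ξ, hξ⟩ = n)
    (h3 : ∀ (z₁ : Ideal C) [z₁.IsPrime], z₁.LiesOver y → z₁ = z)
    (h4 : FlatCA.PurelyTranscendental p y)
    (R' : Type u) [CommRing R'] [Algebra R R'] (p' : Ideal R') [p'.IsPrime] [hp' : p'.LiesOver p]
    (hκ : Function.Bijective (Ideal.ResidueField.mapₐ p p' (Algebra.ofId R R') hp'.over))
    (S' C' D' : Type u) [CommRing S'] [CommRing C'] [CommRing D']
    [Algebra R' S'] [Algebra R S'] [Algebra S S'] [IsScalarTower R R' S'] [IsScalarTower R S S']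
    [Algebra.IsPushout R R' S S']
    [Algebra R' C'] [Algebra R C'] [Algebra C C'] [IsScalarTower R R' C'] [IsScalarTower R C C']
    [Algebra.IsPushout R R' C C']
    [Algebra R' D'] [Algebra R D'] [Algebra D D'] [IsScalarTower R R' D'] [IsScalarTower R D D']
    [Algebra.IsPushout R R' D D']
    [Algebra S' C'] [IsScalarTower R' S' C'] [Algebra S C'] [IsScalarTower S S' C'] [IsScalarTower S C C']
    [Algebra D' C'] [IsScalarTower R' D' C'] [Algebra D C'] [IsScalarTower D D' C'] [IsScalarTower D C C']
    (N' : Type u) [AddCommGroup N'] [Module S' N'] [Module R' N'] [IsScalarTower R' S' N']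
    [Module S N'] [IsScalarTower S S' N'] (f : N →ₗ[S] N') (hf : IsBaseChange S' f)
    (G' : Type u) [AddCommGroup G'] [Module C' G'] [Module S' G'] [IsScalarTower S' C' G']
    [Module C G'] [IsScalarTower C C' G'] (g : G →ₗ[C] G') (hg : IsBaseChange C' g)
    (q' : Ideal S') [q'.IsPrime] [q'.LiesOver q] [q'.LiesOver p']
    (z' : Ideal C') [z'.IsPrime] [z'.LiesOver z] [z'.LiesOver p']
    (y' : Ideal D') [y'.IsPrime] [y'.LiesOver y] [y'.LiesOver p'] :
    (∀ (q₁ : Ideal S') [q₁.IsPrime], q₁.LiesOver q → q₁.LiesOver p' → q₁ = q') ∧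
    FlatCA.IsOneStepDevissage R' S' N' p' C' D' G' n ∧
    (∃ (ξ' : PrimeSpectrum (p'.Fiber S')) (hξ' : ξ' ∈ Module.support (p'.Fiber S') (FlatCA.fiberMod p' S' N')),
      ξ'.asIdeal = FlatCA.fiberIdeal p' q' ∧
      FlatMor.localDim (Module.support (p'.Fiber S') (FlatCA.fiberMod p' S' N')) ⟨ξ', hξ'⟩ = n) ∧
    z'.LiesOver q' ∧ z'.LiesOver y' ∧
    (∀ (z₁ : Ideal C') [z₁.IsPrime], z₁.LiesOver y' → z₁ = z') ∧
    FlatCA.PurelyTranscendental p' y' := by
  have hκs := hκ.2
  have ha : ∀ (q₁ : Ideal S') [q₁.IsPrime], q₁.LiesOver q → q₁.LiesOver p' → q₁ = q' := by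
    intro q₁ _ h1 h2
    refine eq_of_comap_eq p p' hκs (B := S) q₁ q' ?_
    rw [← Ideal.under_def, ← Ideal.under_def, ← h1.over,
      ← (inferInstance : q'.LiesOver q).over]
  refine ⟨ha, isOneStepDevissage_baseChange R S N p C D G n h R' p' S' C' D' N' f hf G' g hg,
    ?_, ?_, ?_, ?_, ?_⟩
  · -- local dimension of the support of the fibre module
    obtain ⟨ξ, hξ, hξq, hξdim⟩ := h1
    obtain ⟨ψ, hψs, hsupp, hψbij⟩ := exists_fiber_ringHom p p' N N' f hf
    have hψ : Function.Bijective ψ := hψbij hκ
    let Ψ : p.Fiber S ≃+* p'.Fiber S' := RingEquiv.ofBijective ψ hψ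
    let H : PrimeSpectrum (p'.Fiber S') ≃ₜ PrimeSpectrum (p.Fiber S) :=
      (PrimeSpectrum.homeomorphOfRingEquiv Ψ).symm
    have hH : ∀ x', H x' = PrimeSpectrum.comap ψ x' := fun x' => rfl
    let E : Module.support (p'.Fiber S') (FlatCA.fiberMod p' S' N') ≃ₜ
        Module.support (p.Fiber S) (FlatCA.fiberMod p S N) :=
      H.subtype (fun x' => by rw [hsupp, Set.mem_preimage, hH])
    let ξ' := E.symm ⟨ξ, hξ⟩
    have hEξ' : E ξ' = ⟨ξ, hξ⟩ := E.apply_symm_apply _
    have hξ'ξ : PrimeSpectrum.comap ψ ξ'.1 = ξ := congrArg Subtype.val hEξ'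
    refine ⟨ξ'.1, ξ'.2, ?_, ?_⟩
    · -- the ideal
      rw [eq_fiberIdeal_comap p' ξ'.1.asIdeal]
      congr 1
      haveI hover' : ξ'.1.asIdeal.LiesOver p' := inferInstance
      haveI h1 : (ξ'.1.asIdeal.comap (Algebra.TensorProduct.includeRight (R := R')
          (A := p'.ResidueField) (B := S')).toRingHom).LiesOver p' := ⟨by
        rw [Ideal.under_def, Ideal.comap_comap]
        have : (Algebra.TensorProduct.includeRight (R := R') (A := p'.ResidueField)
            (B := S')).toRingHom.comp (algebraMap R' S') = algebraMap R' (p'.Fiber S') := by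
          ext r
          exact (Algebra.TensorProduct.includeRight (R := R') (A := p'.ResidueField)
            (B := S')).commutes r
        rw [this]
        exact hover'.over⟩
      have h2 : (ξ'.1.asIdeal.comap (Algebra.TensorProduct.includeRight (R := R')
          (A := p'.ResidueField) (B := S')).toRingHom).LiesOver q := ⟨by
        rw [Ideal.under_def, Ideal.comap_comap]
        have hcomp : (Algebra.TensorProduct.includeRight (R := R') (A := p'.ResidueField)
            (B := S')).toRingHom.comp (algebraMap S S') =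
            ψ.comp (Algebra.TensorProduct.includeRight (R := R) (A := p.ResidueField)
              (B := S)).toRingHom := by
          ext s
          exact (hψs s).symm
        rw [hcomp, ← Ideal.comap_comap]
        have : ξ'.1.asIdeal.comap ψ = ξ.asIdeal := congrArg PrimeSpectrum.asIdeal hξ'ξ
        rw [this, hξq, Groth.Agent.S1224.comap_fiberIdeal]⟩
      exact ha _ h2 h1
    · rw [← hξdim, ← hEξ']
      exact Groth.Agent.Lib.Helper4.FibDim.localDim_eq_of_homeomorph E ξ'
  · -- z' lies over q'
    have hz'p' : p' = z'.comap (algebraMap R' C') := (inferInstance : z'.LiesOver p').over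
    have hz'z : z = z'.comap (algebraMap C C') := (inferInstance : z'.LiesOver z).over
    have hzq : q = z.comap (algebraMap S C) := (inferInstance : z.LiesOver q).over
    have h1 : (z'.comap (algebraMap S' C')).LiesOver p' := ⟨by
      rw [Ideal.under_def, Ideal.comap_comap, ← IsScalarTower.algebraMap_eq]
      exact hz'p'⟩
    have h2 : (z'.comap (algebraMap S' C')).LiesOver q := ⟨by
      rw [Ideal.under_def, Ideal.comap_comap, ← IsScalarTower.algebraMap_eq,
        IsScalarTower.algebraMap_eq S C C', ← Ideal.comap_comap, ← hz'z]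
      exact hzq⟩
    exact ⟨(ha _ h2 h1).symm⟩
  · -- z' lies over y'
    have hz'p' : p' = z'.comap (algebraMap R' C') := (inferInstance : z'.LiesOver p').over
    have hz'z : z = z'.comap (algebraMap C C') := (inferInstance : z'.LiesOver z).over
    have hzy : y = z.comap (algebraMap D C) := (inferInstance : z.LiesOver y).over
    have hy'y : y = y'.comap (algebraMap D D') := (inferInstance : y'.LiesOver y).over
    haveI h1 : (z'.comap (algebraMap D' C')).LiesOver p' := ⟨by
      rw [Ideal.under_def, Ideal.comap_comap, ← IsScalarTower.algebraMap_eq]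
      exact hz'p'⟩
    have h2 : (z'.comap (algebraMap D' C')).comap (algebraMap D D') =
        y'.comap (algebraMap D D') := by
      rw [Ideal.comap_comap, ← IsScalarTower.algebraMap_eq,
        IsScalarTower.algebraMap_eq D C C', ← Ideal.comap_comap, ← hz'z, ← hzy, ← hy'y]
    exact ⟨(eq_of_comap_eq p p' hκs (B := D) _ _ h2).symm⟩
  · -- uniqueness of z'
    intro z₁ _ hz₁
    have hz₁y' : y' = z₁.comap (algebraMap D' C') := hz₁.over
    have hy'p' : p' = y'.comap (algebraMap R' D') := (inferInstance : y'.LiesOver p').over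
    have hy'y : y = y'.comap (algebraMap D D') := (inferInstance : y'.LiesOver y).over
    have hz'z : z = z'.comap (algebraMap C C') := (inferInstance : z'.LiesOver z).over
    haveI h1 : z₁.LiesOver p' := ⟨by
      rw [Ideal.under_def, IsScalarTower.algebraMap_eq R' D' C', ← Ideal.comap_comap, ← hz₁y']
      exact hy'p'⟩
    have h2 : (z₁.comap (algebraMap C C')).LiesOver y := ⟨by
      rw [Ideal.under_def, Ideal.comap_comap, ← IsScalarTower.algebraMap_eq,
        IsScalarTower.algebraMap_eq D D' C', ← Ideal.comap_comap, ← hz₁y']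
      exact hy'y⟩
    have h3 : z₁.comap (algebraMap C C') = z := h3 _ h2
    exact eq_of_comap_eq p p' hκs (B := C) z₁ z' (by rw [h3, ← hz'z])
  · -- purely transcendental
    have hy'y : y = y'.comap (algebraMap D D') := (inferInstance : y'.LiesOver y).over
    have hyp : p = y.comap (algebraMap R D) := (inferInstance : y.LiesOver p).over
    have hy'p' : p' = y'.comap (algebraMap R' D') := (inferInstance : y'.LiesOver p').over
    unfold FlatCA.PurelyTranscendental at h4 ⊢
    obtain ⟨ι, x, hx, hadj⟩ := h4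
    let g₁ : y.ResidueField →+* y'.ResidueField :=
      Ideal.ResidueField.map y y' (algebraMap D D') hy'y
    have hg₁ : Function.Bijective g₁ :=
      ⟨g₁.injective, residueField_map_surjective p p' hκs (B := D) y y' hy'y⟩
    refine ⟨ι, g₁ ∘ x, ?_⟩
    refine @transcendenceBasis_transport p.ResidueField p'.ResidueField y.ResidueField
      y'.ResidueField _ _ _ _
      (Ideal.ResidueField.mapₐ p y (Algebra.ofId R D) hyp).toRingHom.toAlgebra
      (Ideal.ResidueField.mapₐ p' y' (Algebra.ofId R' D') hy'p').toRingHom.toAlgebra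
      (Ideal.ResidueField.mapₐ p p' (Algebra.ofId R R') hp'.over).toRingHom hκ g₁ hg₁ ?_ ι x hx hadj
    apply Ideal.ResidueField.ringHom_ext
    ext r
    simp only [RingHom.coe_comp, Function.comp_apply]
    change g₁ ((Ideal.ResidueField.mapₐ p y (Algebra.ofId R D) hyp) (algebraMap R p.ResidueField r)) =
      (Ideal.ResidueField.mapₐ p' y' (Algebra.ofId R' D') hy'p')
        ((Ideal.ResidueField.mapₐ p p' (Algebra.ofId R R') hp'.over) (algebraMap R p.ResidueField r))
    rw [Ideal.ResidueField.mapₐ_apply, Ideal.ResidueField.mapₐ_apply, Ideal.ResidueField.mapₐ_apply,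
      Ideal.ResidueField.map_algebraMap, Ideal.ResidueField.map_algebraMap,
      Ideal.ResidueField.map_algebraMap, Ideal.ResidueField.map_algebraMap]
    change algebraMap D' y'.ResidueField (algebraMap D D' (algebraMap R D r)) =
      algebraMap D' y'.ResidueField (algebraMap R' D' (algebraMap R R' r))
    rw [← IsScalarTower.algebraMap_apply R D D', ← IsScalarTower.algebraMap_apply R R' D']

end Groth.Agent.Lib.T2H2.DevBC3
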