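import Groth.Agent.Lib.T2H2DevBC3

/-!
# Base change of a complete dévissage at a point: pointwise ingredients (helper2)

Let `R → R'` be a ring map and `p'` a prime over `p` with `κ(p) → κ(p')` bijective.
* `purelyTranscendental_of_isPushout`: pure transcendence of the residue field of a prime of a base
  change.
* `exists_localDim_fiber_of_isPushout`: the local dimension of the support of the fibre module.
-/

set_option autoImplicit false
set_option linter.style.haveILetI false
set_option linter.unusedSectionVars false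
universe u
open TensorProduct

namespace Groth.Agent.Lib.T2H2.DevBC4

open Groth.Agent.Lib.T2H2.DevBC2 Groth.Agent.Lib.T2H2.DevBC

attribute [local instance] Algebra.TensorProduct.rightAlgebra

section PT

variable {R R' D D' : Type u} [CommRing R] [CommRing R'] [CommRing D] [CommRing D']
  [Algebra R R'] [Algebra R D] [Algebra R' D'] [Algebra R D'] [Algebra D D']
  [IsScalarTower R R' D'] [IsScalarTower R D D'] [Algebra.IsPushout R R' D D']
  (p : Ideal R) [p.IsPrime] (p' : Ideal R') [p'.IsPrime] [hp' : p'.LiesOver p]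
  (hκ : Function.Bijective (Ideal.ResidueField.mapₐ p p' (Algebra.ofId R R') hp'.over))

include hκ in
theorem purelyTranscendental_of_isPushout (y : Ideal D) [y.IsPrime] [y.LiesOver p]
    (y' : Ideal D') [y'.IsPrime] [y'.LiesOver y] [y'.LiesOver p']
    (h4 : FlatCA.PurelyTranscendental p y) : FlatCA.PurelyTranscendental p' y' := by
  have hκs := hκ.2
  have hy'y : y = y'.comap (algebraMap D D') := (inferInstance : y'.LiesOver y).over
  have hyp : p = y.comap (algebraMap R D) := (inferInstance : y.LiesOver p).over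
  have hy'p' : p' = y'.comap (algebraMap R' D') := (inferInstance : y'.LiesOver p').over
  unfold FlatCA.PurelyTranscendental at h4 ⊢
  obtain ⟨ι, x, hx, hadj⟩ := h4
  let g₁ : y.ResidueField →+* y'.ResidueField :=
    Ideal.ResidueField.map y y' (algebraMap D D') hy'y
  have hg₁ : Function.Bijective g₁ :=
    ⟨g₁.injective, residueField_map_surjective p p' hκs (B := D) y y' hy'y⟩
  refine ⟨ι, g₁ ∘ x, ?_⟩
  refine @transcendenceBasis_transport p.ResidueField p'.ResidueField y.ResidueField
    y'.ResidueField _ _ _ _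
    (Ideal.ResidueField.mapₐ p y (Algebra.ofId R D) hyp).toRingHom.toAlgebra
    (Ideal.ResidueField.mapₐ p' y' (Algebra.ofId R' D') hy'p').toRingHom.toAlgebra
    (Ideal.ResidueField.mapₐ p p' (Algebra.ofId R R') hp'.over).toRingHom hκ g₁ hg₁ ?_ ι x hx hadj
  apply Ideal.ResidueField.ringHom_ext
  ext r
  simp only [RingHom.coe_comp, Function.comp_apply]
  change g₁ ((Ideal.ResidueField.mapₐ p y (Algebra.ofId R D) hyp) (algebraMap R p.ResidueField r)) =
    (Ideal.ResidueField.mapₐ p' y' (Algebra.ofId R' D') hy'p')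
      ((Ideal.ResidueField.mapₐ p p' (Algebra.ofId R R') hp'.over) (algebraMap R p.ResidueField r))
  rw [Ideal.ResidueField.mapₐ_apply, Ideal.ResidueField.mapₐ_apply, Ideal.ResidueField.mapₐ_apply,
    Ideal.ResidueField.map_algebraMap, Ideal.ResidueField.map_algebraMap,
    Ideal.ResidueField.map_algebraMap, Ideal.ResidueField.map_algebraMap]
  change algebraMap D' y'.ResidueField (algebraMap D D' (algebraMap R D r)) =
    algebraMap D' y'.ResidueField (algebraMap R' D' (algebraMap R R' r))
  rw [← IsScalarTower.algebraMap_apply R D D', ← IsScalarTower.algebraMap_apply R R' D']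

end PT

section LD

variable {R R' S S' : Type u} [CommRing R] [CommRing R'] [CommRing S] [CommRing S'] [Algebra R R']
  [Algebra R S] [Algebra R' S'] [Algebra R S'] [Algebra S S'] [IsScalarTower R R' S']
  [IsScalarTower R S S'] [Algebra.IsPushout R R' S S']
  (p : Ideal R) [p.IsPrime] (p' : Ideal R') [p'.IsPrime] [hp' : p'.LiesOver p]
  (hκ : Function.Bijective (Ideal.ResidueField.mapₐ p p' (Algebra.ofId R R') hp'.over))
  (N : Type u) [AddCommGroup N] [Module S N] [Module.Finite S N]
  (N' : Type u) [AddCommGroup N'] [Module S' N'] [Module S N'] [IsScalarTower S S' N']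
  (f : N →ₗ[S] N') (hf : IsBaseChange S' f)

include hκ hf in
theorem exists_localDim_fiber_of_isPushout (q : Ideal S) [q.IsPrime] [q.LiesOver p]
    (q' : Ideal S') [q'.IsPrime] [q'.LiesOver q] [q'.LiesOver p'] (n : WithBot ℕ∞)
    (h1 : ∃ (ξ : PrimeSpectrum (p.Fiber S))
      (hξ : ξ ∈ Module.support (p.Fiber S) (FlatCA.fiberMod p S N)),
      ξ.asIdeal = FlatCA.fiberIdeal p q ∧
      FlatMor.localDim (Module.support (p.Fiber S) (FlatCA.fiberMod p S N)) ⟨ξ, hξ⟩ = n) :
    ∃ (ξ' : PrimeSpectrum (p'.Fiber S'))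
      (hξ' : ξ' ∈ Module.support (p'.Fiber S') (FlatCA.fiberMod p' S' N')),
      ξ'.asIdeal = FlatCA.fiberIdeal p' q' ∧
      FlatMor.localDim (Module.support (p'.Fiber S') (FlatCA.fiberMod p' S' N')) ⟨ξ', hξ'⟩ = n := by
  have hκs := hκ.2
  have ha : ∀ (q₁ : Ideal S') [q₁.IsPrime], q₁.LiesOver q → q₁.LiesOver p' → q₁ = q' := by
    intro q₁ _ h1 h2
    refine eq_of_comap_eq p p' hκs (B := S) q₁ q' ?_
    rw [← Ideal.under_def, ← Ideal.under_def, ← h1.over,
      ← (inferInstance : q'.LiesOver q).over]
  obtain ⟨ξ, hξ, hξq, hξdim⟩ := h1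
  obtain ⟨ψ, hψs, hsupp, hψbij⟩ := exists_fiber_ringHom p p' N N' f hf
  have hψ : Function.Bijective ψ := hψbij hκ
  let Ψ : p.Fiber S ≃+* p'.Fiber S' := RingEquiv.ofBijective ψ hψ
  let H : PrimeSpectrum (p'.Fiber S') ≃ₜ PrimeSpectrum (p.Fiber S) :=
    (PrimeSpectrum.homeomorphOfRingEquiv Ψ).symm
  have hH : ∀ x', H x' = PrimeSpectrum.comap ψ x' := fun x' => rfl
  let E : Module.support (p'.Fiber S') (FlatCA.fiberMod p' S' N') ≃ₜ
      Module.support (p.Fiber S) (FlatCA.fiberMod p S N) :=
    H.subtype (fun x' => by rw [hsupp, Set.mem_preimage, hH])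
  let ξ' := E.symm ⟨ξ, hξ⟩
  have hEξ' : E ξ' = ⟨ξ, hξ⟩ := E.apply_symm_apply _
  have hξ'ξ : PrimeSpectrum.comap ψ ξ'.1 = ξ := congrArg Subtype.val hEξ'
  refine ⟨ξ'.1, ξ'.2, ?_, ?_⟩
  · -- the ideal
    rw [eq_fiberIdeal_comap p' ξ'.1.asIdeal]
    congr 1
    haveI hover' : ξ'.1.asIdeal.LiesOver p' := inferInstance
    haveI h1 : (ξ'.1.asIdeal.comap (Algebra.TensorProduct.includeRight (R := R')
        (A := p'.ResidueField) (B := S')).toRingHom).LiesOver p' := ⟨by
      rw [Ideal.under_def, Ideal.comap_comap]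
      have : (Algebra.TensorProduct.includeRight (R := R') (A := p'.ResidueField)
          (B := S')).toRingHom.comp (algebraMap R' S') = algebraMap R' (p'.Fiber S') := by
        ext r
        exact (Algebra.TensorProduct.includeRight (R := R') (A := p'.ResidueField)
          (B := S')).commutes r
      rw [this]
      exact hover'.over⟩
    have h2 : (ξ'.1.asIdeal.comap (Algebra.TensorProduct.includeRight (R := R')
        (A := p'.ResidueField) (B := S')).toRingHom).LiesOver q := ⟨by
      rw [Ideal.under_def, Ideal.comap_comap]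
      have hcomp : (Algebra.TensorProduct.includeRight (R := R') (A := p'.ResidueField)
          (B := S')).toRingHom.comp (algebraMap S S') =
          ψ.comp (Algebra.TensorProduct.includeRight (R := R) (A := p.ResidueField)
            (B := S)).toRingHom := by
        ext s
        exact (hψs s).symm
      rw [hcomp, ← Ideal.comap_comap]
      have : ξ'.1.asIdeal.comap ψ = ξ.asIdeal := congrArg PrimeSpectrum.asIdeal hξ'ξ
      rw [this, hξq, Groth.Agent.S1224.comap_fiberIdeal]⟩
    exact ha _ h2 h1
  · rw [← hξdim, ← hEξ']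
    exact Groth.Agent.Lib.Helper4.FibDim.localDim_eq_of_homeomorph E ξ'

end LD

end Groth.Agent.Lib.T2H2.DevBC4
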