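import Mathlib
import Groth.Prelude.Def_FlatCA
import Groth.Agent.Lib.Helper3FlatBC
import Groth.Agent.Lib.Helper2PullbackFlat
import Groth.Agent.Lib.Helper18StdEtaleCover

/-!
# Flatness above the closed points under finite / flat local extensions (helper2)

* `exists_ringHom`, `isPushout_right`: the canonical map `B ⊗_A A' → C ⊗_A A'` between abstract models
  of base changes, and the pushout square `B → C`, `B' → C'`.
* `flat_localizedModule_of_equiv`, `flat_localizedModule_of_equiv_of_isIntegral`: flatness over the base
  at a prime versus the primes above it in an integral extension, for the same module.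
* `flat_localizedModule_iff_of_isBaseChange`: the same for a flat base change of the intermediate ring.
* `flatAbove_iff_of_finite`, `flatAbove_iff_of_flat`: the two statements on flatness above the closed points.
-/

set_option autoImplicit false
set_option linter.style.haveILetI false
set_option linter.unusedSectionVars false
universe u

namespace Groth.Agent.Lib.T2H2.FlatAbove

open TensorProduct Groth.Agent.Lib.Helper3.FlatLoc

/-- The canonical map `B' → C'` between base changes. -/
theorem exists_ringHom {A B C A' B' C' : Type u} [CommRing A] [CommRing B] [CommRing C]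
    [CommRing A'] [CommRing B'] [CommRing C']
    [Algebra A B] [Algebra B C] [Algebra A C] [IsScalarTower A B C]
    [Algebra A A'] [Algebra B B'] [Algebra A' B'] [Algebra A B'] [IsScalarTower A B B']
    [IsScalarTower A A' B'] [Algebra.IsPushout A B A' B']
    [Algebra C C'] [Algebra A' C'] [Algebra A C'] [IsScalarTower A C C'] [IsScalarTower A A' C'] :
    ∃ φ : B' →+* C', φ.comp (algebraMap B B') = (algebraMap C C').comp (algebraMap B C) ∧
      φ.comp (algebraMap A' B') = algebraMap A' C' := by
  let f : B →ₐ[A] C' := (IsScalarTower.toAlgHom A C C').comp (IsScalarTower.toAlgHom A B C)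
  let g : A' →ₐ[A] C' := IsScalarTower.toAlgHom A A' C'
  have H : ∀ x y, f x * g y = g y * f x := fun _ _ => mul_comm _ _
  refine ⟨(Algebra.pushoutDesc B' f g H).toRingHom, ?_, ?_⟩
  · ext b; exact Algebra.pushoutDesc_left B' f g H b
  · ext a; exact Algebra.pushoutDesc_right B' f g H a

theorem isPushout_right {A B C A' B' C' : Type u} [CommRing A] [CommRing B] [CommRing C]
    [CommRing A'] [CommRing B'] [CommRing C']
    [Algebra A B] [Algebra B C] [Algebra A C] [IsScalarTower A B C]
    [Algebra A A'] [Algebra B B'] [Algebra A' B'] [Algebra A B'] [IsScalarTower A B B']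
    [IsScalarTower A A' B'] [Algebra.IsPushout A B A' B']
    [Algebra C C'] [Algebra A' C'] [Algebra A C'] [IsScalarTower A C C'] [IsScalarTower A A' C']
    [Algebra.IsPushout A C A' C']
    [Algebra B' C'] [Algebra B C'] [IsScalarTower B C C'] [IsScalarTower B B' C']
    [IsScalarTower A' B' C'] [IsScalarTower A B' C'] :
    Algebra.IsPushout B C B' C' :=
  (Algebra.IsPushout.comp_iff A B A' (S' := B') (T := C) (T' := C')).mp inferInstance

section Finite

variable {R S S' : Type u} [CommRing R] [CommRing S] [CommRing S'] [Algebra R S] [Algebra S S']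
  [Algebra R S'] [IsScalarTower R S S']
  {M M' : Type u} [AddCommGroup M] [Module S M] [Module R M] [IsScalarTower R S M]
  [AddCommGroup M'] [Module S' M'] [Module S M'] [IsScalarTower S S' M'] [Module R M']
  [IsScalarTower R S' M'] [IsScalarTower R S M']

theorem lTensor_congr (θ : M ≃ₗ[S] M') (I : Ideal R) (z : M ⊗[R] I) :
    I.subtype.lTensor M' (AlgebraTensorModule.congr θ (LinearEquiv.refl R I) z) =
      AlgebraTensorModule.congr θ (LinearEquiv.refl R R) (I.subtype.lTensor M z) := by
  induction z with
  | zero => simp
  | add a b ha hb => simp only [map_add, ha, hb]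
  | tmul m i => simp

/-- Flatness at a prime passes to a prime above along a semilinear identification. -/
theorem flat_localizedModule_of_equiv (θ : M ≃ₗ[S] M') (q' : Ideal S') [q'.IsPrime]
    (q : Ideal S) [q.IsPrime] (hq : q'.comap (algebraMap S S') = q)
    (h : Module.Flat R (LocalizedModule q.primeCompl M)) :
    Module.Flat R (LocalizedModule q'.primeCompl M') := by
  rw [flat_localizedModule_iff'] at h ⊢
  intro I z' hz'
  let Θ : M ⊗[R] I ≃ₗ[S] M' ⊗[R] I := AlgebraTensorModule.congr θ (LinearEquiv.refl R I)
  let ΘR : M ⊗[R] R ≃ₗ[S] M' ⊗[R] R := AlgebraTensorModule.congr θ (LinearEquiv.refl R R)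
  have h1 : I.subtype.lTensor M (Θ.symm z') = 0 := by
    apply ΘR.injective
    rw [map_zero]
    have := lTensor_congr θ I (Θ.symm z')
    rw [← this]
    change I.subtype.lTensor M' (Θ (Θ.symm z')) = 0
    rw [Θ.apply_symm_apply, hz']
  obtain ⟨s, hs, hsz⟩ := h I (Θ.symm z') h1
  refine ⟨algebraMap S S' s, ?_, ?_⟩
  · intro hmem
    apply hs
    rw [← hq]
    exact hmem
  · rw [algebraMap_smul]
    have : Θ (s • Θ.symm z') = 0 := by rw [hsz, map_zero]
    rwa [map_smul, Θ.apply_symm_apply] at this

/-- Flatness at a prime follows from flatness at all primes above, for an integral extension. -/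
theorem flat_localizedModule_of_equiv_of_isIntegral [Algebra.IsIntegral S S'] (θ : M ≃ₗ[S] M')
    (q : Ideal S) [q.IsPrime]
    (H : ∀ (q' : Ideal S') [q'.IsPrime], q'.comap (algebraMap S S') = q →
      Module.Flat R (LocalizedModule q'.primeCompl M')) :
    Module.Flat R (LocalizedModule q.primeCompl M) := by
  rw [flat_localizedModule_iff']
  intro I z hz
  let Θ : M ⊗[R] I ≃ₗ[S] M' ⊗[R] I := AlgebraTensorModule.congr θ (LinearEquiv.refl R I)
  have h1 : I.subtype.lTensor M' (Θ z) = 0 := by
    rw [lTensor_congr θ I z, hz, map_zero]
  let J : Ideal S' := LinearMap.ker (LinearMap.toSpanSingleton S' (M' ⊗[R] I) (Θ z))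
  have hJ : ∀ s : S', s ∈ J ↔ s • Θ z = 0 := fun s => by
    rw [LinearMap.mem_ker, LinearMap.toSpanSingleton_apply]
  by_contra hcon
  push Not at hcon
  have hJq : J.comap (algebraMap S S') ≤ q := by
    intro b hb
    by_contra hbq
    apply hcon b hbq
    apply Θ.injective
    rw [map_smul, map_zero, ← algebraMap_smul S' b (Θ z)]
    exact (hJ _).mp hb
  obtain ⟨Q', hQJ, hQ'prime, hQq⟩ := Ideal.exists_ideal_over_prime_of_isIntegral q J hJq
  have hflat := H Q' hQq
  rw [flat_localizedModule_iff'] at hflat
  obtain ⟨s, hs, hsz⟩ := hflat I (Θ z) h1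
  exact hs (hQJ ((hJ s).mpr hsz))

end Finite

section FlatBC

variable {R S S' : Type u} [CommRing R] [CommRing S] [CommRing S'] [Algebra R S] [Algebra S S']
  [Algebra R S'] [IsScalarTower R S S']
  {M M' : Type u} [AddCommGroup M] [Module S M] [Module R M] [IsScalarTower R S M]
  [AddCommGroup M'] [Module S' M'] [Module S M'] [IsScalarTower S S' M'] [Module R M']
  [IsScalarTower R S' M'] [IsScalarTower R S M']

/-- Flatness over the base at a prime and at a prime above it, along a flat base change of the
intermediate ring. -/
theorem flat_localizedModule_iff_of_isBaseChange (f : M →ₗ[S] M') (hf : IsBaseChange S' f)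
    (q : Ideal S) [q.IsPrime] (q' : Ideal S') [q'.IsPrime] [q'.LiesOver q]
    (hflat : Module.Flat S (Localization.AtPrime q')) :
    Module.Flat R (LocalizedModule q.primeCompl M) ↔
      Module.Flat R (LocalizedModule q'.primeCompl M') := by
  letI algBC := Localization.AtPrime.algebraOfLiesOver q q'
  have hBC : Module.Flat (Localization.AtPrime q) (Localization.AtPrime q') :=
    (Module.flat_iff_of_isLocalization (Localization.AtPrime q) q.primeCompl _).mpr hflat
  haveI : IsLocalHom (algebraMap (Localization.AtPrime q) (Localization.AtPrime q')) := by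
    rw [Localization.AtPrime.IsLiesOverAlgebra.algebraMap_eq]
    exact Localization.isLocalHom_localRingHom _ _ _ _
  haveI hff : Module.FaithfullyFlat (Localization.AtPrime q) (Localization.AtPrime q') :=
    Module.FaithfullyFlat.of_flat_of_isLocalHom
  letI modB : Module (Localization.AtPrime q) (LocalizedModule q'.primeCompl M') :=
    Module.compHom _ (algebraMap (Localization.AtPrime q) (Localization.AtPrime q'))
  haveI : IsScalarTower (Localization.AtPrime q) (Localization.AtPrime q')
      (LocalizedModule q'.primeCompl M') :=
    IsScalarTower.of_algebraMap_smul fun r x => rfl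
  haveI : IsScalarTower S S' (LocalizedModule q'.primeCompl M') := by
    refine ⟨fun r r' x => ?_⟩
    induction x using LocalizedModule.induction_on with
    | h m s => rw [LocalizedModule.smul'_mk, LocalizedModule.smul'_mk, LocalizedModule.smul'_mk,
        smul_assoc]
  haveI : IsScalarTower S (Localization.AtPrime q') (LocalizedModule q'.primeCompl M') := by
    refine IsScalarTower.of_algebraMap_smul fun r x => ?_
    rw [IsScalarTower.algebraMap_apply S S' (Localization.AtPrime q'), algebraMap_smul,
      algebraMap_smul]
  haveI : IsScalarTower S (Localization.AtPrime q) (LocalizedModule q'.primeCompl M') := by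
    refine IsScalarTower.of_algebraMap_smul fun r x => ?_
    change algebraMap (Localization.AtPrime q) (Localization.AtPrime q')
      (algebraMap S (Localization.AtPrime q) r) • x = r • x
    rw [← IsScalarTower.algebraMap_apply S (Localization.AtPrime q) (Localization.AtPrime q'),
      algebraMap_smul]
  obtain ⟨μ, hμ, -⟩ := Groth.Agent.Lib.Helper2.PullbackFlat.exists_isBaseChange_localization
    (B := S) (C := S') (R := Localization.AtPrime q) (S := Localization.AtPrime q')
    q.primeCompl q'.primeCompl (LocalizedModule.mkLinearMap q.primeCompl M) f hf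
    (LocalizedModule.mkLinearMap q'.primeCompl M')
  haveI : IsScalarTower R (Localization.AtPrime q) (Localization.AtPrime q') := by
    refine IsScalarTower.of_algebraMap_eq fun r => ?_
    rw [IsScalarTower.algebraMap_apply R S (Localization.AtPrime q),
      ← IsScalarTower.algebraMap_apply S (Localization.AtPrime q) (Localization.AtPrime q'),
      IsScalarTower.algebraMap_apply S S' (Localization.AtPrime q'),
      ← IsScalarTower.algebraMap_apply R S S',
      ← IsScalarTower.algebraMap_apply R S' (Localization.AtPrime q')]
  haveI : IsScalarTower R S' (LocalizedModule q'.primeCompl M') := by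
    refine ⟨fun r r' x => ?_⟩
    induction x using LocalizedModule.induction_on with
    | h m s => rw [LocalizedModule.smul'_mk, LocalizedModule.smul'_mk, LocalizedModule.smul'_mk,
        smul_assoc]
  haveI : IsScalarTower R (Localization.AtPrime q') (LocalizedModule q'.primeCompl M') := by
    refine IsScalarTower.of_algebraMap_smul fun r x => ?_
    rw [IsScalarTower.algebraMap_apply R S' (Localization.AtPrime q'), algebraMap_smul,
      algebraMap_smul]
  haveI : IsScalarTower R S (LocalizedModule q.primeCompl M) := by
    refine ⟨fun r r' x => ?_⟩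
    induction x using LocalizedModule.induction_on with
    | h m s => rw [LocalizedModule.smul'_mk, LocalizedModule.smul'_mk, LocalizedModule.smul'_mk,
        smul_assoc]
  haveI : IsScalarTower R (Localization.AtPrime q) (LocalizedModule q.primeCompl M) := by
    refine IsScalarTower.of_algebraMap_smul fun r x => ?_
    rw [IsScalarTower.algebraMap_apply R S (Localization.AtPrime q), algebraMap_smul,
      algebraMap_smul]
  constructor
  · intro h
    exact Groth.Agent.Lib.Helper2.PullbackFlat.flat_of_isBaseChange (Λ := R) hμ
  · intro h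
    exact Groth.Agent.Lib.Helper2.PullbackFlat.flat_of_isBaseChange_of_faithfullyFlat (Λ := R) hμ

end FlatBC

section Main

open IsLocalRing

variable {A B C : Type u} [CommRing A] [IsLocalRing A] [CommRing B] [IsLocalRing B] [CommRing C]
    [IsLocalRing C]
    [Algebra A B] [IsLocalHom (algebraMap A B)] [Algebra B C] [IsLocalHom (algebraMap B C)]
    [Algebra A C] [IsScalarTower A B C]

theorem map_maximalIdeal_le_comap {B' C' : Type u} [CommRing B'] [CommRing C'] [Algebra B B']
    [Algebra C C'] [Algebra B' C'] [Algebra B C'] [IsScalarTower B C C'] [IsScalarTower B B' C']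
    (Q' : Ideal C') (h : (maximalIdeal C).map (algebraMap C C') ≤ Q') :
    (maximalIdeal B).map (algebraMap B B') ≤ Q'.comap (algebraMap B' C') := by
  rw [Ideal.map_le_iff_le_comap]
  intro b hb
  rw [Ideal.mem_comap, Ideal.mem_comap, ← IsScalarTower.algebraMap_apply B B' C',
    IsScalarTower.algebraMap_apply B C C']
  apply h
  apply Ideal.mem_map_of_mem
  have hloc : IsLocalHom (algebraMap B C) := inferInstance
  have h2 : (maximalIdeal B).map (algebraMap B C) ≤ maximalIdeal C :=
    ((IsLocalRing.local_hom_TFAE (algebraMap B C)).out 0 2).mp hloc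
  exact h2 (Ideal.mem_map_of_mem _ hb)

theorem flatAbove_iff_of_finite [Module.Finite B C]
    (N : Type u) [AddCommGroup N] [Module C N] [Module B N] [IsScalarTower B C N]
    (A' : Type u) [CommRing A'] [IsLocalRing A'] [Algebra A A'] [IsLocalHom (algebraMap A A')]
    (B' M' : Type u) [CommRing B'] [Algebra B B'] [Algebra A' B'] [Algebra A B'] [IsScalarTower A B B'] [IsScalarTower A A' B']
        [Algebra.IsPushout A B A' B']
        [AddCommGroup M'] [Module B' M'] [Module B M'] [IsScalarTower B B' M'] [Module A' M'] [IsScalarTower A' B' M']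
        (fB : N →ₗ[B] M') (hfB : IsBaseChange B' fB)
    (C' N' : Type u) [CommRing C'] [Algebra C C'] [Algebra A' C'] [Algebra A C'] [IsScalarTower A C C'] [IsScalarTower A A' C']
        [Algebra.IsPushout A C A' C']
        [AddCommGroup N'] [Module C' N'] [Module C N'] [IsScalarTower C C' N'] [Module A' N'] [IsScalarTower A' C' N']
        (fC : N →ₗ[C] N') (hfC : IsBaseChange C' fC) :
    FlatCA.FlatAboveClosedPoints B A' B' M' ↔ FlatCA.FlatAboveClosedPoints C A' C' N' := by
  obtain ⟨φ, hφ1, hφ2⟩ := exists_ringHom (A := A) (B := B) (C := C) (A' := A') (B' := B') (C' := C')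
  letI algB'C' : Algebra B' C' := φ.toAlgebra
  letI algBC' : Algebra B C' := ((algebraMap C C').comp (algebraMap B C)).toAlgebra
  haveI : IsScalarTower B C C' := IsScalarTower.of_algebraMap_eq fun x => rfl
  haveI : IsScalarTower B B' C' :=
    IsScalarTower.of_algebraMap_eq fun x => (RingHom.congr_fun hφ1 x).symm
  haveI : IsScalarTower A' B' C' :=
    IsScalarTower.of_algebraMap_eq fun x => (RingHom.congr_fun hφ2 x).symm
  haveI : IsScalarTower A B' C' := IsScalarTower.of_algebraMap_eq fun x => by
    rw [IsScalarTower.algebraMap_apply A A' B', ← IsScalarTower.algebraMap_apply A' B' C',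
      ← IsScalarTower.algebraMap_apply A A' C']
  haveI hpo : Algebra.IsPushout B C B' C' := isPushout_right (A := A) (A' := A')
  haveI hpo' : Algebra.IsPushout B B' C C' := hpo.symm
  haveI : Algebra.IsIntegral B' C' := Algebra.IsPushout.isIntegral (R := B) (S := C) (A := B') (SA := C')
  letI modB'N' : Module B' N' := Module.compHom N' (algebraMap B' C')
  haveI : IsScalarTower B' C' N' := IsScalarTower.of_algebraMap_smul fun r x => rfl
  letI modBN' : Module B N' := Module.compHom N' (algebraMap B C)
  haveI : IsScalarTower B C N' := IsScalarTower.of_algebraMap_smul fun r x => rfl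
  haveI : IsScalarTower B B' N' := by
    refine IsScalarTower.of_algebraMap_smul fun r x => ?_
    rw [← algebraMap_smul C' (algebraMap B B' r) x, ← IsScalarTower.algebraMap_apply B B' C',
      IsScalarTower.algebraMap_apply B C C', algebraMap_smul, algebraMap_smul]
  haveI : IsScalarTower A' B' N' := by
    refine IsScalarTower.of_algebraMap_smul fun r x => ?_
    rw [← algebraMap_smul C' (algebraMap A' B' r) x, ← IsScalarTower.algebraMap_apply A' B' C',
      algebraMap_smul]
  have h2 : IsBaseChange B' (fC.restrictScalars B) :=
    isBaseChange_restrictScalars_of_isPushout (A := B) (R := B') (PA := C) (PR := C') fC hfC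
  let θ : M' ≃ₗ[B'] N' := hfB.equiv.symm ≪≫ₗ h2.equiv
  constructor
  · intro H Q' hQ' hle
    let q : Ideal B' := Q'.comap (algebraMap B' C')
    have hq : (maximalIdeal A').map (algebraMap A' B') ⊔ (maximalIdeal B).map (algebraMap B B') ≤ q := by
      refine sup_le ?_ (map_maximalIdeal_le_comap Q' (le_sup_right.trans hle))
      rw [Ideal.map_le_iff_le_comap]
      intro a ha
      rw [Ideal.mem_comap, Ideal.mem_comap, ← IsScalarTower.algebraMap_apply A' B' C']
      exact hle (Ideal.mem_sup_left (Ideal.mem_map_of_mem _ ha))
    exact flat_localizedModule_of_equiv (R := A') θ Q' q rfl (H q hq)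
  · intro H q hq hle
    refine flat_localizedModule_of_equiv_of_isIntegral (R := A') θ q fun Q' hQ' hQq => H Q' ?_
    refine sup_le ?_ ?_
    · rw [Ideal.map_le_iff_le_comap]
      intro a ha
      rw [Ideal.mem_comap, IsScalarTower.algebraMap_apply A' B' C', ← Ideal.mem_comap, hQq]
      exact hle (Ideal.mem_sup_left (Ideal.mem_map_of_mem _ ha))
    · rw [Ideal.map_le_iff_le_comap]
      have hmB : (Q'.comap (algebraMap C C')).comap (algebraMap B C) = maximalIdeal B := by
        have hprime : ((Q'.comap (algebraMap C C')).comap (algebraMap B C)).IsPrime := inferInstance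
        refine ((maximalIdeal.isMaximal B).eq_of_le hprime.ne_top ?_).symm
        intro b hb
        rw [Ideal.mem_comap, Ideal.mem_comap, ← IsScalarTower.algebraMap_apply B C C',
          IsScalarTower.algebraMap_apply B B' C', ← Ideal.mem_comap, hQq]
        exact hle (Ideal.mem_sup_right (Ideal.mem_map_of_mem _ hb))
      have hmax : (Q'.comap (algebraMap C C')).IsMaximal :=
        Ideal.isMaximal_of_isIntegral_of_isMaximal_comap (R := B) _
          (hmB ▸ maximalIdeal.isMaximal B)
      exact (IsLocalRing.eq_maximalIdeal hmax).symm.le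

theorem flatAbove_iff_of_flat [Module.Flat B C]
    (M : Type u) [AddCommGroup M] [Module B M] (N : Type u) [AddCommGroup N] [Module C N] [Module B N] [IsScalarTower B C N]
    (g : M →ₗ[B] N) (hg : IsBaseChange C g)
    (A' : Type u) [CommRing A'] [IsLocalRing A'] [Algebra A A'] [IsLocalHom (algebraMap A A')]
    (B' M' : Type u) [CommRing B'] [Algebra B B'] [Algebra A' B'] [Algebra A B'] [IsScalarTower A B B'] [IsScalarTower A A' B']
        [Algebra.IsPushout A B A' B']
        [AddCommGroup M'] [Module B' M'] [Module B M'] [IsScalarTower B B' M'] [Module A' M'] [IsScalarTower A' B' M']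
        (fB : M →ₗ[B] M') (hfB : IsBaseChange B' fB)
    (C' N' : Type u) [CommRing C'] [Algebra C C'] [Algebra A' C'] [Algebra A C'] [IsScalarTower A C C'] [IsScalarTower A A' C']
        [Algebra.IsPushout A C A' C']
        [AddCommGroup N'] [Module C' N'] [Module C N'] [IsScalarTower C C' N'] [Module A' N'] [IsScalarTower A' C' N']
        (fC : N →ₗ[C] N') (hfC : IsBaseChange C' fC) :
    FlatCA.FlatAboveClosedPoints B A' B' M' ↔ FlatCA.FlatAboveClosedPoints C A' C' N' := by
  obtain ⟨φ, hφ1, hφ2⟩ := exists_ringHom (A := A) (B := B) (C := C) (A' := A') (B' := B') (C' := C')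
  letI algB'C' : Algebra B' C' := φ.toAlgebra
  letI algBC' : Algebra B C' := ((algebraMap C C').comp (algebraMap B C)).toAlgebra
  haveI : IsScalarTower B C C' := IsScalarTower.of_algebraMap_eq fun x => rfl
  haveI : IsScalarTower B B' C' :=
    IsScalarTower.of_algebraMap_eq fun x => (RingHom.congr_fun hφ1 x).symm
  haveI : IsScalarTower A' B' C' :=
    IsScalarTower.of_algebraMap_eq fun x => (RingHom.congr_fun hφ2 x).symm
  haveI : IsScalarTower A B' C' := IsScalarTower.of_algebraMap_eq fun x => by
    rw [IsScalarTower.algebraMap_apply A A' B', ← IsScalarTower.algebraMap_apply A' B' C',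
      ← IsScalarTower.algebraMap_apply A A' C']
  haveI hpo : Algebra.IsPushout B C B' C' := isPushout_right (A := A) (A' := A')
  haveI hpo' : Algebra.IsPushout B B' C C' := hpo.symm
  haveI : Module.Flat B' C' := Module.Flat.isBaseChange B B' C C' hpo'.out
  letI modB'N' : Module B' N' := Module.compHom N' (algebraMap B' C')
  haveI : IsScalarTower B' C' N' := IsScalarTower.of_algebraMap_smul fun r x => rfl
  letI modBN' : Module B N' := Module.compHom N' (algebraMap B C)
  haveI : IsScalarTower B C N' := IsScalarTower.of_algebraMap_smul fun r x => rfl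
  haveI : IsScalarTower B C' N' := by
    refine IsScalarTower.of_algebraMap_smul fun r x => ?_
    rw [IsScalarTower.algebraMap_apply B C C', algebraMap_smul, algebraMap_smul]
  haveI : IsScalarTower B B' N' := by
    refine IsScalarTower.of_algebraMap_smul fun r x => ?_
    rw [← algebraMap_smul C' (algebraMap B B' r) x, ← IsScalarTower.algebraMap_apply B B' C',
      algebraMap_smul]
  haveI : IsScalarTower A' B' N' := by
    refine IsScalarTower.of_algebraMap_smul fun r x => ?_
    rw [← algebraMap_smul C' (algebraMap A' B' r) x, ← IsScalarTower.algebraMap_apply A' B' C',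
      algebraMap_smul]
  have h2 : IsBaseChange C' ((fC.restrictScalars B).comp g) := IsBaseChange.comp hg hfC
  let θ : M' →ₗ[B'] N' := hfB.lift ((fC.restrictScalars B).comp g)
  have hθ : IsBaseChange C' θ := by
    refine IsBaseChange.of_comp hfB ?_
    rw [IsBaseChange.lift_comp]
    exact h2
  constructor
  · intro H Q' hQ' hle
    let q : Ideal B' := Q'.comap (algebraMap B' C')
    have hq : (maximalIdeal A').map (algebraMap A' B') ⊔ (maximalIdeal B).map (algebraMap B B') ≤ q := by
      refine sup_le ?_ (map_maximalIdeal_le_comap Q' (le_sup_right.trans hle))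
      rw [Ideal.map_le_iff_le_comap]
      intro a ha
      rw [Ideal.mem_comap, Ideal.mem_comap, ← IsScalarTower.algebraMap_apply A' B' C']
      exact hle (Ideal.mem_sup_left (Ideal.mem_map_of_mem _ ha))
    haveI : Q'.LiesOver q := ⟨rfl⟩
    have hfl : Module.Flat B' (Localization.AtPrime Q') := Module.Flat.trans B' C' _
    exact (flat_localizedModule_iff_of_isBaseChange (R := A') θ hθ q Q' hfl).mp (H q hq)
  · intro H q hq hle
    have hunder : (maximalIdeal C).under B = q.under B := by
      have hloc : IsLocalHom (algebraMap B C) := inferInstance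
      have h1 : (maximalIdeal C).comap (algebraMap B C) = maximalIdeal B :=
        ((IsLocalRing.local_hom_TFAE (algebraMap B C)).out 0 4).mp hloc
      have hprime : (q.comap (algebraMap B B')).IsPrime := inferInstance
      have h3 : maximalIdeal B = q.comap (algebraMap B B') := by
        refine (maximalIdeal.isMaximal B).eq_of_le hprime.ne_top ?_
        rw [← Ideal.map_le_iff_le_comap]
        exact le_sup_right.trans hle
      rw [Ideal.under_def, Ideal.under_def, h1, h3]
    obtain ⟨𝔔, h𝔔, h𝔔1, h𝔔2⟩ := Groth.Agent.Lib.Helper18StdEtaleCover.exists_prime_tensor B C B'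
      (maximalIdeal C) q hunder
    let e : C ⊗[B] B' ≃ₐ[C] C' := Algebra.IsPushout.equiv B C B' C'
    let Q' : Ideal C' := 𝔔.comap (e.symm : C' →+* C ⊗[B] B')
    have hQ'prime : Q'.IsPrime := Ideal.comap_isPrime _ _
    have hQq : Q'.comap (algebraMap B' C') = q := by
      ext b
      rw [← h𝔔2, Ideal.mem_comap, Ideal.mem_comap, Ideal.mem_comap]
      change e.symm (algebraMap B' C' b) ∈ 𝔔 ↔ _
      rw [Algebra.IsPushout.equiv_symm_algebraMap_right]
      rfl
    have hQC : Q'.comap (algebraMap C C') = maximalIdeal C := by
      ext c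
      rw [← h𝔔1, Ideal.mem_comap, Ideal.mem_comap, Ideal.mem_comap]
      change e.symm (algebraMap C C' c) ∈ 𝔔 ↔ _
      rw [Algebra.IsPushout.equiv_symm_algebraMap_left]
      rfl
    haveI : Q'.LiesOver q := ⟨hQq.symm⟩
    have hfl : Module.Flat B' (Localization.AtPrime Q') := Module.Flat.trans B' C' _
    refine (flat_localizedModule_iff_of_isBaseChange (R := A') θ hθ q Q' hfl).mpr (H Q' ?_)
    refine sup_le ?_ ?_
    · rw [Ideal.map_le_iff_le_comap]
      intro a ha
      rw [Ideal.mem_comap, IsScalarTower.algebraMap_apply A' B' C', ← Ideal.mem_comap, hQq]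
      exact hle (Ideal.mem_sup_left (Ideal.mem_map_of_mem _ ha))
    · rw [Ideal.map_le_iff_le_comap, hQC]

end Main

end Groth.Agent.Lib.T2H2.FlatAbove
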