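import Groth.Agent.Lib.T2H2DevBC4
import Groth.Agent.Lib.Helper18StdEtaleCover
import Groth.Agent.Lib.Helper3FlatBC
import Groth.Agent.Lib.T2H2FlatAbove

/-!
# Base change of a complete dévissage at a point (helper2)

* `exists_prime_of_isPushout`: primes of a pushout over compatible primes.
* `isPushout_step`, `step`: one step of the dévissage.
* `completeDevissageAt_baseChange`.
-/

set_option autoImplicit false
set_option linter.style.haveILetI false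
set_option linter.unusedSectionVars false
universe u
open TensorProduct

namespace Groth.Agent.Lib.T2H2.DevBC5

open Groth.Agent.Lib.T2H2.DevBC2 Groth.Agent.Lib.T2H2.DevBC Groth.Agent.Lib.T2H2.DevBC4

attribute [local instance] Algebra.TensorProduct.rightAlgebra

theorem exists_prime_of_isPushout {R A B T : Type u} [CommRing R] [CommRing A] [CommRing B]
    [CommRing T] [Algebra R A] [Algebra R B] [Algebra A T] [Algebra B T] [Algebra R T]
    [IsScalarTower R A T] [IsScalarTower R B T] [Algebra.IsPushout R A B T]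
    (P : Ideal A) [P.IsPrime] (Q : Ideal B) [Q.IsPrime] (h : P.under R = Q.under R) :
    ∃ 𝔔 : Ideal T, 𝔔.IsPrime ∧ 𝔔.comap (algebraMap A T) = P ∧ 𝔔.comap (algebraMap B T) = Q := by
  obtain ⟨𝔔₀, h𝔔₀, hL, hR⟩ :=
    Groth.Agent.Lib.Helper18StdEtaleCover.exists_prime_tensor R A B P Q h
  let e : A ⊗[R] B ≃ₐ[A] T := Algebra.IsPushout.equiv R A B T
  refine ⟨𝔔₀.comap (e.symm : T →+* A ⊗[R] B), Ideal.comap_isPrime _ _, ?_, ?_⟩
  · rw [Ideal.comap_comap, ← hL]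
    congr 1
    ext a
    simp only [RingHom.coe_comp, Function.comp_apply]
    exact Algebra.IsPushout.equiv_symm_algebraMap_left R A B T a
  · rw [Ideal.comap_comap, ← hR]
    congr 1
    ext b
    simp only [RingHom.coe_comp, Function.comp_apply]
    exact Algebra.IsPushout.equiv_symm_algebraMap_right R A B T b

section Step

variable {R R' : Type u} [CommRing R] [CommRing R'] [Algebra R R']
  (p : Ideal R) [p.IsPrime] (p' : Ideal R') [p'.IsPrime] [hp' : p'.LiesOver p]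
  (hκ : Function.Bijective (Ideal.ResidueField.mapₐ p p' (Algebra.ofId R R') hp'.over))
  {A B A' B' M M' : Type u} [CommRing A] [CommRing B] [CommRing A'] [CommRing B']
  [Algebra R A] [Algebra R B] [Algebra B A] [IsScalarTower R B A]
  [Algebra R' A'] [Algebra R' B'] [Algebra B' A'] [IsScalarTower R' B' A']
  [Algebra A A'] [Algebra R A'] [IsScalarTower R R' A'] [IsScalarTower R A A']
  [Algebra B B'] [Algebra R B'] [IsScalarTower R R' B'] [IsScalarTower R B B']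
  [Algebra B A'] [IsScalarTower B A A'] [IsScalarTower B B' A']
  [AddCommGroup M] [Module A M] [Module B M] [IsScalarTower B A M]
  [AddCommGroup M'] [Module A' M'] [Module B' M'] [IsScalarTower B' A' M'] [Module A M']
  [IsScalarTower A A' M']

theorem isPushout_step (hA : Algebra.IsPushout R R' A A') (hB : Algebra.IsPushout R R' B B') :
    Algebra.IsPushout B B' A A' := by
  haveI := hA.symm
  haveI := hB.symm
  haveI : IsScalarTower R B' A' := IsScalarTower.of_algebraMap_eq fun r => by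
    rw [IsScalarTower.algebraMap_apply R R' A', IsScalarTower.algebraMap_apply R' B' A',
      ← IsScalarTower.algebraMap_apply R R' B']
  have h := Groth.Agent.Lib.T2H2.FlatAbove.isPushout_right (A := R) (B := B) (C := A)
    (A' := R') (B' := B') (C' := A')
  exact h.symm

include hκ in
theorem step (hA : Algebra.IsPushout R R' A A') (hB : Algebra.IsPushout R R' B B')
    (g : M →ₗ[A] M') (hg : IsBaseChange A' g) [Module.Finite B A] [Module.Finite A M]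
    (qB : Ideal B) [qB.IsPrime] [qB.LiesOver p] (qA : Ideal A) [qA.IsPrime] [qA.LiesOver qB]
    (hpt : FlatCA.PurelyTranscendental p qB)
    (huniq : ∀ (Q : Ideal A) [Q.IsPrime], Q.LiesOver qB → Q = qA)
    (d : ℕ) (hrel : FlatCA.SmoothRelDim d R B)
    (hloc : ∃ (x : PrimeSpectrum (p.Fiber B))
      (hx : x ∈ Module.support (p.Fiber B) (FlatCA.fiberMod p B M)),
      x.asIdeal = FlatCA.fiberIdeal p qB ∧
      FlatMor.localDim (Module.support (p.Fiber B) (FlatCA.fiberMod p B M)) ⟨x, hx⟩ = d)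
    (QB : Ideal B') [QB.IsPrime] [QB.LiesOver p'] [QB.LiesOver qB]
    (QA : Ideal A') [QA.IsPrime] [QA.LiesOver QB] [QA.LiesOver qA] :
    FlatCA.PurelyTranscendental p' QB ∧
    (∀ (P₁ : Ideal A') [P₁.IsPrime], P₁.LiesOver QB → P₁ = QA) ∧
    FlatCA.SmoothRelDim d R' B' ∧
    (∃ (x : PrimeSpectrum (p'.Fiber B'))
      (hx : x ∈ Module.support (p'.Fiber B') (FlatCA.fiberMod p' B' M')),
      x.asIdeal = FlatCA.fiberIdeal p' QB ∧
      FlatMor.localDim (Module.support (p'.Fiber B') (FlatCA.fiberMod p' B' M')) ⟨x, hx⟩ = d) := by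
  haveI := hA
  haveI := hB
  haveI hBA : Algebra.IsPushout B B' A A' := isPushout_step hA hB
  refine ⟨purelyTranscendental_of_isPushout p p' hκ qB QB hpt, ?_,
    smoothRelDim_of_isPushout d hrel, ?_⟩
  · intro P₁ _ hP₁
    haveI : P₁.LiesOver p' := Ideal.LiesOver.trans P₁ QB p'
    haveI : QA.LiesOver p' := Ideal.LiesOver.trans QA QB p'
    have h1 : (P₁.comap (algebraMap A A')).LiesOver qB := ⟨by
      rw [Ideal.under_def, Ideal.comap_comap, ← IsScalarTower.algebraMap_eq,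
        IsScalarTower.algebraMap_eq B B' A', ← Ideal.comap_comap, ← Ideal.under_def B' P₁,
        ← hP₁.over]
      exact (inferInstance : QB.LiesOver qB).over⟩
    have h2 : P₁.comap (algebraMap A A') = qA := huniq _ h1
    refine eq_of_comap_eq p p' hκ.2 (B := A) P₁ QA ?_
    rw [h2]
    exact (inferInstance : QA.LiesOver qA).over
  · letI modBM' : Module B M' := Module.compHom M' (algebraMap B B')
    haveI : IsScalarTower B B' M' := IsScalarTower.of_algebraMap_smul fun r x => rfl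
    haveI : IsScalarTower B A M' := IsScalarTower.of_algebraMap_smul fun b x => by
      rw [← algebraMap_smul A' (algebraMap B A b) x, ← IsScalarTower.algebraMap_apply B A A',
        IsScalarTower.algebraMap_apply B B' A', algebraMap_smul, algebraMap_smul]
    have hgB : IsBaseChange B' (g.restrictScalars B) :=
      Groth.Agent.Lib.Helper3.FlatLoc.isBaseChange_restrictScalars_of_isPushout (A := B)
        (R := B') (PA := A) (PR := A') (X := M) (Y := M') g hg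
    haveI : Module.Finite B M := Module.Finite.trans A M
    exact exists_localDim_fiber_of_isPushout p p' hκ M M' (g.restrictScalars B) hgB qB QB d hloc

end Step

theorem completeDevissageAt_baseChange
    (R S : Type u) [CommRing R] [CommRing S] [Algebra R S] [Algebra.FiniteType R S]
    (N : Type u) [AddCommGroup N] [Module S N] [Module.Finite S N]
    (p : Ideal R) [p.IsPrime] (q : Ideal S) [q.IsPrime] (𝒟 : FlatCA.CompleteDevissage R S N p)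
    (𝒜 : FlatCA.CompleteDevissageAt R S N p q 𝒟)
    (R' : Type u) [CommRing R'] [Algebra R R'] (p' : Ideal R') [p'.IsPrime] [hp' : p'.LiesOver p]
    (hκ : Function.Bijective (Ideal.ResidueField.mapₐ p p' (Algebra.ofId R R') hp'.over))
    (S' : Type u) [CommRing S'] [Algebra R' S'] [Algebra R S'] [Algebra S S'] [IsScalarTower R R' S']
    [IsScalarTower R S S'] [Algebra.IsPushout R R' S S']
    (N' : Type u) [AddCommGroup N'] [Module S' N'] [Module S N'] [IsScalarTower S S' N']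
    (f : N →ₗ[S] N') (hf : IsBaseChange S' f)
    (q' : Ideal S') [q'.IsPrime] [q'.LiesOver q] [q'.LiesOver p']
    (𝒟' : FlatCA.CompleteDevissage R' S' N' p') (hn : 𝒟'.n = 𝒟.n)
    (htail : ∀ i, 𝒟.n ≤ i → ∃ (Q : Ideal (𝒟'.B i)) (P : Ideal (𝒟'.A i)),
      Q.IsPrime ∧ P.IsPrime ∧ Q.LiesOver p' ∧ P.LiesOver Q)
    [aA : ∀ i : Fin 𝒟.n, Algebra (𝒟.A i) (𝒟'.A i)] [rA : ∀ i : Fin 𝒟.n, Algebra R (𝒟'.A i)]
      [∀ i : Fin 𝒟.n, IsScalarTower R (R') (𝒟'.A i)] [∀ i : Fin 𝒟.n, IsScalarTower R (𝒟.A i) (𝒟'.A i)]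
      [aB : ∀ i : Fin 𝒟.n, Algebra (𝒟.B i) (𝒟'.B i)] [rB : ∀ i : Fin 𝒟.n, Algebra R (𝒟'.B i)]
      [∀ i : Fin 𝒟.n, IsScalarTower R (R') (𝒟'.B i)] [∀ i : Fin 𝒟.n, IsScalarTower R (𝒟.B i) (𝒟'.B i)]
      [bA : ∀ i : Fin 𝒟.n, Algebra (𝒟.B i) (𝒟'.A i)] [∀ i : Fin 𝒟.n, IsScalarTower (𝒟.B i) (𝒟.A i) (𝒟'.A i)]
      [∀ i : Fin 𝒟.n, IsScalarTower (𝒟.B i) (𝒟'.B i) (𝒟'.A i)]
      [bA' : ∀ i : Fin 𝒟.n, Algebra (𝒟.B i) (𝒟'.A (i + 1))]
      [∀ i : Fin 𝒟.n, IsScalarTower (𝒟.B i) (𝒟'.B i) (𝒟'.A (i + 1))]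
      [sA : Algebra S (𝒟'.A 0)] [IsScalarTower S (S') (𝒟'.A 0)]
      [mA : ∀ i : Fin 𝒟.n, Module (𝒟.A i) (𝒟'.M i)] [∀ i : Fin 𝒟.n, IsScalarTower (𝒟.A i) (𝒟'.A i) (𝒟'.M i)]
      (gM : ∀ i : Fin 𝒟.n, 𝒟.M i →ₗ[𝒟.A i] 𝒟'.M i)
    (hbc : (letI := aA ⟨0, 𝒟.pos⟩; IsScalarTower S (𝒟.A 0) (𝒟'.A 0)) ∧
      (∀ x : N, 𝒟'.isoN (f x) = gM ⟨0, 𝒟.pos⟩ (𝒟.isoN x)) ∧
      (∀ (i : Fin 𝒟.n) (h : (i : ℕ) + 1 < 𝒟.n),
        letI := aA ⟨i + 1, h⟩; IsScalarTower (𝒟.B i) (𝒟.A (i + 1)) (𝒟'.A (i + 1))) ∧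
      ∀ i : Fin 𝒟.n,
        Algebra.IsPushout R R' (𝒟.A i) (𝒟'.A i) ∧ Algebra.IsPushout R R' (𝒟.B i) (𝒟'.B i) ∧
        IsBaseChange (𝒟'.A i) (gM i)) :
    ∃ 𝒜' : FlatCA.CompleteDevissageAt R' S' N' p' q' 𝒟', 𝒜'.d = 𝒜.d ∧
      ∀ i : Fin 𝒟.n, (𝒜'.qB i).LiesOver (𝒜.qB i) ∧ (𝒜'.qA i).LiesOver (𝒜.qA i) := by
  obtain ⟨hS0, hisoN, hBA1, hall⟩ := hbc
  have hκs := hκ.2
  -- the primes at the genuine steps
  have hexFin : ∀ I : Fin 𝒟.n, ∃ (Q : Ideal (𝒟'.B I)) (P : Ideal (𝒟'.A I)),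
      Q.IsPrime ∧ P.IsPrime ∧ Q.LiesOver p' ∧ P.LiesOver Q ∧
      Q.LiesOver (𝒜.qB I) ∧ P.LiesOver (𝒜.qA I) := by
    intro I
    obtain ⟨hpoA, hpoB, -⟩ := hall I
    haveI := hpoA
    haveI := hpoB
    haveI := 𝒜.hqB I
    haveI := 𝒜.hqA I
    haveI := 𝒜.overB I
    haveI := 𝒜.overA I
    obtain ⟨Q, hQ, hQp', hQq⟩ := exists_prime_of_isPushout (R := R) (A := R') (B := 𝒟.B I)
      (T := 𝒟'.B I) p' (𝒜.qB I) (by
        rw [← hp'.over, ← (𝒜.overB I).over])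
    haveI := hQ
    haveI hBA : Algebra.IsPushout (𝒟.B I) (𝒟'.B I) (𝒟.A I) (𝒟'.A I) := isPushout_step hpoA hpoB
    obtain ⟨P, hP, hPQ, hPq⟩ := exists_prime_of_isPushout (R := 𝒟.B I) (A := 𝒟'.B I) (B := 𝒟.A I)
      (T := 𝒟'.A I) Q (𝒜.qA I) (by
        rw [Ideal.under_def, hQq, ← (𝒜.overA I).over])
    exact ⟨Q, P, hQ, hP, ⟨hQp'.symm⟩, ⟨hPQ.symm⟩, ⟨hQq.symm⟩, ⟨hPq.symm⟩⟩
  have hex : ∀ i : ℕ, ∃ (Q : Ideal (𝒟'.B i)) (P : Ideal (𝒟'.A i)),
      Q.IsPrime ∧ P.IsPrime ∧ Q.LiesOver p' ∧ P.LiesOver Q ∧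
      ∀ h : i < 𝒟.n,
        (Q : Ideal (𝒟'.B ((⟨i, h⟩ : Fin 𝒟.n) : ℕ))).LiesOver (𝒜.qB ((⟨i, h⟩ : Fin 𝒟.n) : ℕ)) ∧
        (P : Ideal (𝒟'.A ((⟨i, h⟩ : Fin 𝒟.n) : ℕ))).LiesOver
          (𝒜.qA ((⟨i, h⟩ : Fin 𝒟.n) : ℕ)) := by
    intro i
    by_cases h : i < 𝒟.n
    · obtain ⟨Q, P, h1, h2, h3, h4, h5, h6⟩ := hexFin ⟨i, h⟩
      exact ⟨Q, P, h1, h2, h3, h4, fun _ => ⟨h5, h6⟩⟩
    · obtain ⟨Q, P, h1, h2, h3, h4⟩ := htail i (not_lt.mp h)
      exact ⟨Q, P, h1, h2, h3, h4, fun h' => absurd h' h⟩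
  choose qB qA hqBp hqAp hoverB hoverA hlift using hex
  have hstep : ∀ (i : ℕ) (h : i < 𝒟.n),
      @FlatCA.PurelyTranscendental R' (𝒟'.B i) _ _ _ p' (qB i) _ (hqBp i) (hoverB i) ∧
      (∀ (P₁ : Ideal (𝒟'.A i)) [P₁.IsPrime], P₁.LiesOver (qB i) → P₁ = qA i) ∧
      FlatCA.SmoothRelDim (𝒜.d i) R' (𝒟'.B i) ∧
      (∃ (x : PrimeSpectrum (p'.Fiber (𝒟'.B i)))
        (hx : x ∈ Module.support (p'.Fiber (𝒟'.B i)) (FlatCA.fiberMod p' (𝒟'.B i) (𝒟'.M i))),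
        x.asIdeal = FlatCA.fiberIdeal p' (qB i) ∧
        FlatMor.localDim (Module.support (p'.Fiber (𝒟'.B i))
          (FlatCA.fiberMod p' (𝒟'.B i) (𝒟'.M i))) ⟨x, hx⟩ = 𝒜.d i) := by
    intro i h
    let I : Fin 𝒟.n := ⟨i, h⟩
    obtain ⟨hpoA, hpoB, hgM⟩ := hall I
    haveI := 𝒜.hqB i
    haveI := 𝒜.hqA i
    haveI := 𝒜.overB i
    haveI := 𝒜.overA i
    haveI := hqBp i
    haveI := hqAp i
    haveI := hoverB i
    haveI := hoverA i
    haveI := (hlift i h).1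
    haveI := (hlift i h).2
    haveI := 𝒟.finiteBA i h
    haveI := 𝒟.finiteM i h
    exact step p p' hκ (A := 𝒟.A I) (B := 𝒟.B I) (A' := 𝒟'.A I) (B' := 𝒟'.B I) (M := 𝒟.M I)
      (M' := 𝒟'.M I) hpoA hpoB (gM I) hgM (𝒜.qB I) (𝒜.qA I) (𝒜.pureTrans i h) (𝒜.uniq i h)
      (𝒜.d i) (𝒜.relDim i h) (𝒜.locDim i h) (qB i) (qA i)
  -- `qA i` lies over `p'`
  have hoverAp' : ∀ i, ((qA i).under R') = p' := by
    intro i
    haveI := hoverA i
    haveI := hoverB i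
    rw [Ideal.under_def, IsScalarTower.algebraMap_eq R' (𝒟'.B i) (𝒟'.A i), ← Ideal.comap_comap,
      ← Ideal.under_def (𝒟'.B i) (qA i), ← (hoverA i).over]
    exact (hoverB i).over.symm
  have hq0 : (qA 0).comap (algebraMap S' (𝒟'.A 0)) = q' := by
    haveI := hqAp 0
    let I0 : Fin 𝒟.n := ⟨0, 𝒟.pos⟩
    letI := aA I0
    haveI : IsScalarTower S (𝒟.A I0) (𝒟'.A I0) := hS0
    haveI h1 : ((qA 0).comap (algebraMap S' (𝒟'.A 0))).LiesOver p' := ⟨by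
      rw [Ideal.under_def, Ideal.comap_comap, ← IsScalarTower.algebraMap_eq]
      exact (hoverAp' 0).symm⟩
    refine eq_of_comap_eq p p' hκs (B := S) _ q' ?_
    rw [Ideal.comap_comap, ← IsScalarTower.algebraMap_eq,
      IsScalarTower.algebraMap_eq S (𝒟.A I0) (𝒟'.A I0), ← Ideal.comap_comap]
    have h2 : (qA 0).comap (algebraMap (𝒟.A I0) (𝒟'.A I0)) = 𝒜.qA 0 :=
      ((hlift 0 𝒟.pos).2.over).symm
    rw [h2, 𝒜.q0]
    exact (inferInstance : q'.LiesOver q).over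
  have hqStep : ∀ i, i + 1 < 𝒟.n →
      (qA (i + 1)).comap (algebraMap (𝒟'.B i) (𝒟'.A (i + 1))) = qB i := by
    intro i h
    have hi : i < 𝒟.n := by omega
    let I : Fin 𝒟.n := ⟨i, hi⟩
    obtain ⟨-, hpoB, -⟩ := hall I
    haveI := hpoB
    haveI := hqAp (i + 1)
    haveI := hqBp i
    haveI := hoverB i
    letI := aA ⟨i + 1, h⟩
    haveI : IsScalarTower (𝒟.B I) (𝒟.A (I + 1)) (𝒟'.A (I + 1)) := hBA1 I h
    haveI h1 : ((qA (i + 1)).comap (algebraMap (𝒟'.B i) (𝒟'.A (i + 1)))).LiesOver p' := ⟨by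
      rw [Ideal.under_def, Ideal.comap_comap, ← IsScalarTower.algebraMap_eq]
      exact (hoverAp' (i + 1)).symm⟩
    refine eq_of_comap_eq p p' hκs (B := 𝒟.B I) (B' := 𝒟'.B I) _ (qB i) ?_
    rw [Ideal.comap_comap, ← IsScalarTower.algebraMap_eq (𝒟.B I) (𝒟'.B I) (𝒟'.A (I + 1)),
      IsScalarTower.algebraMap_eq (𝒟.B I) (𝒟.A (I + 1)) (𝒟'.A (I + 1)), ← Ideal.comap_comap]
    have h2 : (qA (i + 1)).comap (algebraMap (𝒟.A (I + 1)) (𝒟'.A (I + 1))) = 𝒜.qA (i + 1) :=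
      ((hlift (i + 1) h).2.over).symm
    rw [h2, 𝒜.qStep i h]
    exact ((hlift i hi).1.over)
  refine ⟨{
    qB := qB
    qA := qA
    hqB := hqBp
    hqA := hqAp
    overB := hoverB
    overA := hoverA
    pureTrans := fun i hi => (hstep i (hn ▸ hi)).1
    uniq := fun i hi => (hstep i (hn ▸ hi)).2.1
    q0 := hq0
    qStep := fun i hi => hqStep i (hn ▸ hi)
    d := 𝒜.d
    relDim := fun i hi => (hstep i (hn ▸ hi)).2.2.1
    locDim := fun i hi => (hstep i (hn ▸ hi)).2.2.2 }, rfl, fun i => ?_⟩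
  exact hlift i i.2

end Groth.Agent.Lib.T2H2.DevBC5
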