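import Mathlib
import Groth.Prelude.Def_FlatCA
import Groth.Agent.Lib.T2H2DevBC
import Groth.Agent.Lib.Helper6ReducedSmooth
import Groth.Agent.Lib.Helper3FlatBC

/-!
# Base change of a complete dévissage: abstract steps (helper2)

* `isPrime_map_of_smooth_geomIrred`: `pB` is prime for `B` smooth with geometrically irreducible
  fibres.
* `comap_map_eq_of_isPushout`: contraction of `p'B'` to a flat `B`.
* `fibreIso_step`, `isoCoker_step`, `range_step`, `surjective_step`, `isoN_step`: the module-level
  steps; `surjective_of_isPushout`, `finitePresentation_of_isPushout`, `finite_of_isPushout`,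
  `smooth_of_isPushout`: the ring-level steps.
-/

set_option autoImplicit false
set_option linter.style.haveILetI false
set_option linter.unusedSectionVars false
universe u
open TensorProduct

namespace Groth.Agent.Lib.T2H2.DevBCX

attribute [local instance] Algebra.TensorProduct.rightAlgebra

section L1

open CategoryTheory AlgebraicGeometry

/-- the fibre ring of a smooth algebra with geometrically irreducible fibres is a domain. -/
theorem isDomain_fiber_of_smooth_geomIrred {R B : Type u} [CommRing R] [CommRing B] [Algebra R B]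
    [Algebra.Smooth R B] (hirr : FlatCA.GeomIrredFibres R B) (p : Ideal R) [p.IsPrime] :
    IsDomain (p.Fiber B) := by
  haveI : Algebra.Smooth p.ResidueField (p.Fiber B) := inferInstance
  haveI : IsReduced (p.Fiber B) :=
    Groth.Agent.Lib.Helper6.isReduced_of_smooth p.ResidueField (p.Fiber B)
  have h1 : FlatCA.GeomIrredFibres p.ResidueField (p.Fiber B) :=
    Groth.Agent.Lib.T2H2.DevBC.geomIrredFibres_of_isPushout (R := R) (R' := p.ResidueField)
      (D := B) (D' := p.Fiber B) hirr
  unfold FlatCA.GeomIrredFibres at h1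
  haveI := h1
  haveI : IrreducibleSpace (Spec (CommRingCat.of (p.Fiber B))) :=
    GeometricallyIrreducible.irreducibleSpace_of_subsingleton
      (Spec.map (CommRingCat.ofHom (algebraMap p.ResidueField (p.Fiber B))))
  have h2 : IrreducibleSpace (PrimeSpectrum (p.Fiber B)) := this
  rw [PrimeSpectrum.irreducibleSpace_iff_isPrime_nilradical, nilradical_eq_zero] at h2
  haveI : (⊥ : Ideal (p.Fiber B)).IsPrime := h2
  exact IsDomain.of_bot_isPrime _

/-- the kernel of `B → κ(p) ⊗ B` is `pB` when `B` is flat. -/
theorem ker_toFiber_of_flat {R B : Type u} [CommRing R] [CommRing B] [Algebra R B]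
    [Module.Flat R B] (p : Ideal R) [p.IsPrime] :
    RingHom.ker (algebraMap B (p.Fiber B)) = p.map (algebraMap R B) := by
  apply le_antisymm
  · intro b hb
    rw [RingHom.mem_ker] at hb
    -- injectivity of `(R/p) ⊗ B → κ(p) ⊗ B`
    have hinj : Function.Injective
        ((IsScalarTower.toAlgHom R (R ⧸ p) p.ResidueField).toLinearMap.rTensor B) :=
      Module.Flat.rTensor_preserves_injective_linearMap _
        (IsFractionRing.injective (R ⧸ p) p.ResidueField)
    have h1 : ((IsScalarTower.toAlgHom R (R ⧸ p) p.ResidueField).toLinearMap.rTensor B)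
        ((1 : R ⧸ p) ⊗ₜ[R] b) = 0 := by
      rw [LinearMap.rTensor_tmul]
      change (algebraMap (R ⧸ p) p.ResidueField 1) ⊗ₜ[R] b = 0
      rw [map_one]
      exact hb
    have h2 : ((1 : R ⧸ p) ⊗ₜ[R] b) = 0 := hinj (by rw [h1, map_zero])
    have h3 := congrArg (TensorProduct.quotTensorEquivQuotSMul B p) h2
    rw [map_zero, ← map_one (Ideal.Quotient.mk p), TensorProduct.quotTensorEquivQuotSMul_mk_tmul,
      one_smul] at h3
    have h4 : b ∈ p • (⊤ : Submodule R B) := (Submodule.Quotient.mk_eq_zero _).mp h3
    rw [Ideal.smul_top_eq_map] at h4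
    exact h4
  · rw [Ideal.map_le_iff_le_comap]
    intro r hr
    rw [Ideal.mem_comap, RingHom.mem_ker, ← IsScalarTower.algebraMap_apply,
      IsScalarTower.algebraMap_apply R p.ResidueField (p.Fiber B)]
    rw [Ideal.algebraMap_residueField_eq_zero.mpr hr, map_zero]

theorem isPrime_map_of_smooth_geomIrred {R B : Type u} [CommRing R] [CommRing B] [Algebra R B]
    [Algebra.Smooth R B] (hirr : FlatCA.GeomIrredFibres R B) (p : Ideal R) [p.IsPrime] :
    (p.map (algebraMap R B)).IsPrime := by
  haveI := isDomain_fiber_of_smooth_geomIrred hirr p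
  haveI : Module.Flat R B := Algebra.Smooth.flat R B
  rw [← ker_toFiber_of_flat p]
  exact RingHom.ker_isPrime _

end L1

section L2

variable {R R' B B' : Type u} [CommRing R] [CommRing R'] [CommRing B] [CommRing B']
  [Algebra R R'] [Algebra R B] [Algebra R' B'] [Algebra R B'] [Algebra B B']
  [IsScalarTower R R' B'] [IsScalarTower R B B'] [Algebra.IsPushout R R' B B']
  (p : Ideal R) [p.IsPrime] (p' : Ideal R') [p'.IsPrime] [hp' : p'.LiesOver p]

/-- contraction of `p'B'` to `B` for a flat algebra `B`. -/
theorem comap_map_eq_of_isPushout [Module.Flat R B] :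
    (p'.map (algebraMap R' B')).comap (algebraMap B B') = p.map (algebraMap R B) := by
  apply le_antisymm
  · intro b hb
    rw [Ideal.mem_comap] at hb
    letI algkk' : Algebra p.ResidueField p'.ResidueField :=
      (Ideal.ResidueField.mapₐ p p' (Algebra.ofId R R') (Ideal.LiesOver.over)).toRingHom.toAlgebra
    haveI tRkk' : IsScalarTower R p.ResidueField p'.ResidueField :=
      IsScalarTower.of_algebraMap_eq fun r =>
        ((Ideal.ResidueField.mapₐ p p' (Algebra.ofId R R') (Ideal.LiesOver.over)).commutes r).symm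
    haveI : Module.Flat R' B' :=
      Module.Flat.of_linearEquiv (Algebra.IsPushout.equiv R R' B B').symm.toLinearEquiv
    have h0 : (1 : p'.ResidueField) ⊗ₜ[R'] (algebraMap B B' b) = 0 := by
      have : algebraMap B B' b ∈ RingHom.ker (algebraMap B' (p'.Fiber B')) := by
        rw [ker_toFiber_of_flat p']; exact hb
      exact this
    -- transport to `κ' ⊗[R] B`
    let e : R' ⊗[R] B ≃ₐ[R'] B' := Algebra.IsPushout.equiv R R' B B'
    have h1 : (1 : p'.ResidueField) ⊗ₜ[R] b = 0 := by
      have := congrArg (fun z => (AlgebraTensorModule.cancelBaseChange R R' p'.ResidueField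
        p'.ResidueField B) ((LinearEquiv.lTensor p'.ResidueField e.symm.toLinearEquiv) z)) h0
      simp only [map_zero] at this
      rw [LinearEquiv.lTensor_tmul] at this
      have he : e.symm.toLinearEquiv (algebraMap B B' b) = (1 : R') ⊗ₜ[R] b :=
        Algebra.IsPushout.equiv_symm_algebraMap_right R R' B B' b
      rw [he, AlgebraTensorModule.cancelBaseChange_tmul, one_smul] at this
      exact this
    have h2 : (1 : p'.ResidueField) ⊗ₜ[p.ResidueField] ((1 : p.ResidueField) ⊗ₜ[R] b) = 0 := by
      have := congrArg (AlgebraTensorModule.cancelBaseChange R p.ResidueField p'.ResidueField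
        p'.ResidueField B).symm h1
      rw [map_zero, AlgebraTensorModule.cancelBaseChange_symm_tmul] at this
      exact this
    have h3 : (1 : p.ResidueField) ⊗ₜ[R] b = 0 :=
      Module.FaithfullyFlat.tensorProduct_mk_injective (A := p.ResidueField)
        (B := p'.ResidueField) (p.Fiber B) (by rw [map_zero]; exact h2)
    have h4 : b ∈ RingHom.ker (algebraMap B (p.Fiber B)) := h3
    rw [ker_toFiber_of_flat p] at h4
    exact h4
  · rw [Ideal.map_le_iff_le_comap]
    intro r hr
    rw [Ideal.mem_comap, Ideal.mem_comap, ← IsScalarTower.algebraMap_apply,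
      IsScalarTower.algebraMap_apply R R' B']
    apply Ideal.mem_map_of_mem
    have := hp'.over
    rw [this] at hr
    exact hr

end L2


section L3

/-- base change to `L` of a map and of its base change along `B → B'` agree. -/
theorem bijective_baseChange_iff {B B' L : Type u} [CommRing B] [CommRing B'] [CommRing L]
    [Algebra B B'] [Algebra B' L] [Algebra B L] [IsScalarTower B B' L]
    {F M F' M' : Type u} [AddCommGroup F] [AddCommGroup M] [AddCommGroup F'] [AddCommGroup M']
    [Module B F] [Module B M] [Module B' F'] [Module B' M'] [Module B F'] [Module B M']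
    [IsScalarTower B B' F'] [IsScalarTower B B' M']
    (α : F →ₗ[B] M) (α' : F' →ₗ[B'] M') (ι : F →ₗ[B] F') (g : M →ₗ[B] M')
    (hι : IsBaseChange B' ι) (hg : IsBaseChange B' g) (hcomm : ∀ x, α' (ι x) = g (α x)) :
    Function.Bijective (α'.baseChange L) ↔ Function.Bijective (α.baseChange L) := by
  have hF : IsBaseChange L (((TensorProduct.mk B' L F' 1).restrictScalars B).comp ι) :=
    IsBaseChange.comp hι (TensorProduct.isBaseChange B' F' L)
  have hM : IsBaseChange L (((TensorProduct.mk B' L M' 1).restrictScalars B).comp g) :=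
    IsBaseChange.comp hg (TensorProduct.isBaseChange B' M' L)
  let eF : L ⊗[B] F ≃ₗ[L] L ⊗[B'] F' := hF.equiv
  let eM : L ⊗[B] M ≃ₗ[L] L ⊗[B'] M' := hM.equiv
  have hsq : (α'.baseChange L) ∘ₗ eF.toLinearMap = eM.toLinearMap ∘ₗ (α.baseChange L) := by
    apply TensorProduct.AlgebraTensorModule.ext
    intro l x
    simp only [LinearMap.comp_apply, LinearEquiv.coe_coe, LinearMap.baseChange_tmul, eF, eM,
      IsBaseChange.equiv_tmul, map_smul, LinearMap.coe_restrictScalars, TensorProduct.mk_apply,
      hcomm]
  have h1 : ∀ z, (α'.baseChange L) (eF z) = eM ((α.baseChange L) z) := fun z =>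
    LinearMap.congr_fun hsq z
  constructor
  · intro h
    have : (α.baseChange L : L ⊗[B] F → L ⊗[B] M) = eM.symm ∘ (α'.baseChange L) ∘ eF := by
      ext z
      simp only [Function.comp_apply, h1, LinearEquiv.symm_apply_apply]
    rw [this]
    exact eM.symm.bijective.comp (h.comp eF.bijective)
  · intro h
    have : (α'.baseChange L : L ⊗[B'] F' → L ⊗[B'] M') = eM ∘ (α.baseChange L) ∘ eF.symm := by
      ext z
      simp only [Function.comp_apply, ← h1, LinearEquiv.apply_symm_apply]
    rw [this]
    exact eM.bijective.comp (h.comp eF.symm.bijective)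

end L3


section L4

theorem fibreIso_step {B B' : Type u} [CommRing B] [CommRing B'] [Algebra B B']
    (P : Ideal B) [P.IsPrime] (P' : Ideal B') [P'.IsPrime] (hP : P = P'.comap (algebraMap B B'))
    {M M' : Type u} [AddCommGroup M] [AddCommGroup M'] [Module B M] [Module B' M'] [Module B M']
    [IsScalarTower B B' M'] (r : ℕ) (α : (Fin r → B) →ₗ[B] M) (α' : (Fin r → B') →ₗ[B'] M')
    (g : M →ₗ[B] M') (hg : IsBaseChange B' g)
    (hα : ∀ j, α' (Pi.single j 1) = g (α (Pi.single j 1)))
    (h : Function.Bijective (α.baseChange P.ResidueField)) :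
    Function.Bijective (α'.baseChange P'.ResidueField) := by
  letI aBL : Algebra B P'.ResidueField :=
    ((algebraMap B' P'.ResidueField).comp (algebraMap B B')).toAlgebra
  haveI tBB'L : IsScalarTower B B' P'.ResidueField := IsScalarTower.of_algebraMap_eq fun _ => rfl
  letI aκL : Algebra P.ResidueField P'.ResidueField :=
    (Ideal.ResidueField.map P P' (algebraMap B B') hP).toAlgebra
  haveI tBκL : IsScalarTower B P.ResidueField P'.ResidueField :=
    IsScalarTower.of_algebraMap_eq fun b =>
      (Ideal.ResidueField.map_algebraMap P P' (algebraMap B B') hP b).symm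
  -- step A
  have hι : IsBaseChange B' ((Algebra.linearMap B B').compLeft (Fin r)) :=
    IsBaseChange.finitePow (Fin r) (IsBaseChange.linearMap B B')
  have hcomm : ∀ x, α' (((Algebra.linearMap B B').compLeft (Fin r)) x) = g (α x) := by
    have : (α'.restrictScalars B) ∘ₗ ((Algebra.linearMap B B').compLeft (Fin r)) = g ∘ₗ α := by
      apply LinearMap.pi_ext'
      intro j
      ext
      simp only [LinearMap.comp_apply, LinearMap.coe_restrictScalars, LinearMap.coe_single]
      have h1 : ((Algebra.linearMap B B').compLeft (Fin r)) (Pi.single j (1 : B)) =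
          Pi.single j (1 : B') := by
        ext k
        simp only [LinearMap.compLeft_apply, Function.comp_apply, Algebra.linearMap_apply]
        by_cases hk : k = j
        · subst hk; simp
        · simp [Pi.single_eq_of_ne hk]
      rw [h1, hα]
    exact fun x => LinearMap.congr_fun this x
  rw [bijective_baseChange_iff (L := P'.ResidueField) α α' _ g hι hg hcomm]
  -- step B
  rw [← bijective_baseChange_iff (B := B) (B' := P.ResidueField) (L := P'.ResidueField) α
    (α.baseChange P.ResidueField) (TensorProduct.mk B P.ResidueField _ 1)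
    (TensorProduct.mk B P.ResidueField _ 1) (TensorProduct.isBaseChange B _ P.ResidueField)
    (TensorProduct.isBaseChange B _ P.ResidueField) (fun x => by simp)]
  -- step C
  let e := LinearEquiv.ofBijective (α.baseChange P.ResidueField) h
  have : ((α.baseChange P.ResidueField).baseChange P'.ResidueField :
      P'.ResidueField ⊗[P.ResidueField] (P.ResidueField ⊗[B] (Fin r → B)) →
        P'.ResidueField ⊗[P.ResidueField] (P.ResidueField ⊗[B] M)) =
      (LinearEquiv.lTensor P'.ResidueField e) := by
    ext z
    rfl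
  rw [this]
  exact (LinearEquiv.lTensor P'.ResidueField e).bijective

end L4

section L5

variable {B B' : Type u} [CommRing B] [CommRing B'] [Algebra B B']
  {M M' P P' : Type u} [AddCommGroup M] [AddCommGroup M'] [AddCommGroup P] [AddCommGroup P']
  [Module B M] [Module B' M'] [Module B M'] [IsScalarTower B B' M']
  [Module B P] [Module B' P'] [Module B P'] [IsScalarTower B B' P']

/-- base change of a cokernel identification. -/
theorem isoCoker_step (g : M →ₗ[B] M') (hg : IsBaseChange B' g) (gP : P →ₗ[B] P')
    (hgP : IsBaseChange B' gP) (K : Submodule B M) (e : (M ⧸ K) ≃ₗ[B] P) :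
    Nonempty ((M' ⧸ Submodule.span B' (g '' (K : Set M))) ≃ₗ[B'] P') := by
  set K' : Submodule B' M' := Submodule.span B' (g '' (K : Set M)) with hK'
  -- forward map
  let φ₀ : M' →ₗ[B'] P' := hg.lift (gP ∘ₗ e.toLinearMap ∘ₗ K.mkQ)
  have hφ₀ : ∀ x, φ₀ (g x) = gP (e (K.mkQ x)) := fun x => hg.lift_eq _ x
  have hK'le : K' ≤ LinearMap.ker φ₀ := by
    rw [hK', Submodule.span_le]
    rintro _ ⟨k, hk, rfl⟩
    rw [SetLike.mem_coe, LinearMap.mem_ker, hφ₀]
    have : K.mkQ k = 0 := (Submodule.Quotient.mk_eq_zero K).mpr hk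
    rw [this, map_zero, map_zero]
  let φ : (M' ⧸ K') →ₗ[B'] P' := K'.liftQ φ₀ hK'le
  -- backward map
  let ψ₁ : M →ₗ[B] (M' ⧸ K') := (K'.mkQ.restrictScalars B) ∘ₗ g
  have hKle : K ≤ LinearMap.ker ψ₁ := by
    intro k hk
    rw [LinearMap.mem_ker]
    change K'.mkQ (g k) = 0
    rw [Submodule.mkQ_apply, Submodule.Quotient.mk_eq_zero]
    exact Submodule.subset_span ⟨k, hk, rfl⟩
  let ψ₀ : P →ₗ[B] (M' ⧸ K') := (K.liftQ ψ₁ hKle) ∘ₗ e.symm.toLinearMap
  let ψ : P' →ₗ[B'] (M' ⧸ K') := hgP.lift ψ₀
  have hψ : ∀ y, ψ (gP y) = ψ₀ y := fun y => hgP.lift_eq _ y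
  have hψ₀ : ∀ x, ψ₀ (e (K.mkQ x)) = K'.mkQ (g x) := by
    intro x
    change (K.liftQ ψ₁ hKle) (e.symm (e (K.mkQ x))) = _
    rw [LinearEquiv.symm_apply_apply]
    rfl
  have h1 : φ ∘ₗ ψ = LinearMap.id := by
    apply hgP.algHom_ext
    intro y
    obtain ⟨z, rfl⟩ := e.surjective y
    obtain ⟨x, rfl⟩ := K.mkQ_surjective z
    change φ (ψ (gP (e (K.mkQ x)))) = gP (e (K.mkQ x))
    rw [hψ, hψ₀]
    change φ₀ (g x) = _
    rw [hφ₀]
  have h2 : ψ ∘ₗ φ = LinearMap.id := by
    apply Submodule.linearMap_qext
    apply hg.algHom_ext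
    intro x
    change ψ (φ₀ (g x)) = K'.mkQ (g x)
    rw [hφ₀, hψ, hψ₀]
  exact ⟨LinearEquiv.ofLinearMap φ ψ h1 h2⟩

end L5

section L6

variable {B B' : Type u} [CommRing B] [CommRing B'] [Algebra B B']
  {M M' : Type u} [AddCommGroup M] [AddCommGroup M']
  [Module B M] [Module B' M'] [Module B M'] [IsScalarTower B B' M']

theorem apply_eq_sum_single (r : ℕ) (α : (Fin r → B) →ₗ[B] M) (x : Fin r → B) :
    α x = ∑ j, x j • α (Pi.single j 1) := by
  conv_lhs => rw [← Finset.univ_sum_single x]
  rw [map_sum]
  refine Finset.sum_congr rfl fun j _ => ?_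
  rw [← map_smul]
  congr 1
  rw [← Pi.single_smul, smul_eq_mul, mul_one]

/-- the image of the base-changed map from a free module. -/
theorem range_step (r : ℕ) (α : (Fin r → B) →ₗ[B] M) (α' : (Fin r → B') →ₗ[B'] M')
    (g : M →ₗ[B] M') (hα : ∀ j, α' (Pi.single j 1) = g (α (Pi.single j 1))) :
    LinearMap.range α' = Submodule.span B' (g '' (LinearMap.range α : Set M)) := by
  apply le_antisymm
  · rintro _ ⟨x, rfl⟩
    rw [apply_eq_sum_single r α' x]
    refine Submodule.sum_mem _ fun j _ => Submodule.smul_mem _ _ ?_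
    rw [hα]
    exact Submodule.subset_span ⟨_, ⟨_, rfl⟩, rfl⟩
  · rw [Submodule.span_le]
    rintro _ ⟨_, ⟨y, rfl⟩, rfl⟩
    rw [SetLike.mem_coe, apply_eq_sum_single r α y, map_sum]
    refine Submodule.sum_mem _ fun j _ => ?_
    rw [map_smul, ← hα, ← algebraMap_smul B' (y j)]
    exact Submodule.smul_mem _ _ ⟨_, rfl⟩

/-- surjectivity passes to the base-changed map from a free module. -/
theorem surjective_step (r : ℕ) (α : (Fin r → B) →ₗ[B] M) (α' : (Fin r → B') →ₗ[B'] M')
    (g : M →ₗ[B] M') (hg : IsBaseChange B' g)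
    (hα : ∀ j, α' (Pi.single j 1) = g (α (Pi.single j 1))) (h : Function.Surjective α) :
    Function.Surjective α' := by
  rw [← LinearMap.range_eq_top, range_step r α α' g hα, LinearMap.range_eq_top.mpr h]
  rw [Submodule.top_coe, Set.image_univ, eq_top_iff]
  intro x _
  refine hg.inductionOn x (fun x => x ∈ Submodule.span B' (Set.range g)) (Submodule.zero_mem _)
    (fun m => Submodule.subset_span ⟨m, rfl⟩) (fun s n hn => Submodule.smul_mem _ s hn)
    (fun a b ha hb => Submodule.add_mem _ ha hb)

end L6

section L7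

/-- base change of the identification `N ≅ M₀`, with its compatibility. -/
theorem isoN_step {S C G N : Type u} [CommRing S] [CommRing C] [Algebra S C]
    [AddCommGroup G] [Module C G] [Module S G] [IsScalarTower S C G]
    [AddCommGroup N] [Module S N] (e : N ≃ₗ[S] G)
    {S' C' : Type u} [CommRing S'] [CommRing C'] [Algebra S S'] [Algebra C C']
    [Algebra S' C'] [Algebra S C'] [IsScalarTower S S' C'] [IsScalarTower S C C']
    (hSC' : Algebra.IsPushout S S' C C')
    {N' : Type u} [AddCommGroup N'] [Module S' N'] [Module S N'] [IsScalarTower S S' N']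
    (f : N →ₗ[S] N') (hf : IsBaseChange S' f)
    {G' : Type u} [AddCommGroup G'] [Module C' G'] [Module S' G'] [IsScalarTower S' C' G']
    [Module C G'] [IsScalarTower C C' G'] (g : G →ₗ[C] G') (hg : IsBaseChange C' g) :
    ∃ e' : N' ≃ₗ[S'] G', ∀ x, e' (f x) = g (e x) := by
  haveI := hSC'
  letI modSG' : Module S G' := Module.compHom G' (algebraMap S S')
  haveI tSS'G' : IsScalarTower S S' G' := IsScalarTower.of_algebraMap_smul fun r x => rfl
  haveI tSCG' : IsScalarTower S C G' := by
    refine IsScalarTower.of_algebraMap_smul fun s x => ?_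
    rw [← algebraMap_smul C' (algebraMap S C s) x, ← IsScalarTower.algebraMap_apply S C C',
      IsScalarTower.algebraMap_apply S S' C', algebraMap_smul, algebraMap_smul]
  have h2 : IsBaseChange S' (g.restrictScalars S) :=
    Groth.Agent.Lib.Helper3.FlatLoc.isBaseChange_restrictScalars_of_isPushout
      (A := S) (R := S') (PA := C) (PR := C') g hg
  refine ⟨hf.equiv.symm ≪≫ₗ
    (AlgebraTensorModule.congr (LinearEquiv.refl S' S') e) ≪≫ₗ h2.equiv, fun x => ?_⟩
  rw [LinearEquiv.trans_apply, LinearEquiv.trans_apply, hf.equiv_symm_apply,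
    AlgebraTensorModule.congr_tmul, h2.equiv_tmul, LinearEquiv.refl_apply, one_smul]
  rfl

/-- surjectivity of the structure map passes to a pushout. -/
theorem surjective_of_isPushout {S C S' C' : Type u} [CommRing S] [CommRing C] [CommRing S']
    [CommRing C'] [Algebra S C] [Algebra S S'] [Algebra C C'] [Algebra S' C'] [Algebra S C']
    [IsScalarTower S S' C'] [IsScalarTower S C C'] (hSC' : Algebra.IsPushout S S' C C')
    (hsurj : Function.Surjective (algebraMap S C)) : Function.Surjective (algebraMap S' C') := by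
  intro c'
  refine hSC'.out.inductionOn c' (fun x => ∃ s', algebraMap S' C' s' = x) ⟨0, map_zero _⟩
    ?_ ?_ ?_
  · intro c
    obtain ⟨s, rfl⟩ := hsurj c
    refine ⟨algebraMap S S' s, ?_⟩
    change _ = algebraMap C C' (algebraMap S C s)
    rw [← IsScalarTower.algebraMap_apply S S' C', ← IsScalarTower.algebraMap_apply S C C']
  · rintro s' x ⟨t, rfl⟩
    exact ⟨s' * t, by rw [map_mul, Algebra.smul_def]⟩
  · rintro x y ⟨a, rfl⟩ ⟨b, rfl⟩
    exact ⟨a + b, map_add _ _ _⟩

theorem finitePresentation_of_isPushout {S C S' C' : Type u} [CommRing S] [CommRing C]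
    [CommRing S'] [CommRing C'] [Algebra S C] [Algebra S S'] [Algebra C C'] [Algebra S' C']
    [Algebra S C'] [IsScalarTower S S' C'] [IsScalarTower S C C']
    (hSC' : Algebra.IsPushout S S' C C') [Algebra.FinitePresentation S C] :
    Algebra.FinitePresentation S' C' := by
  haveI := hSC'
  exact Algebra.FinitePresentation.equiv (Algebra.IsPushout.equiv S S' C C')

theorem finite_of_isPushout {S C S' C' : Type u} [CommRing S] [CommRing C]
    [CommRing S'] [CommRing C'] [Algebra S C] [Algebra S S'] [Algebra C C'] [Algebra S' C']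
    [Algebra S C'] [IsScalarTower S S' C'] [IsScalarTower S C C']
    (hSC' : Algebra.IsPushout S S' C C') [Module.Finite S C] :
    Module.Finite S' C' := by
  haveI := hSC'
  exact Module.Finite.equiv (Algebra.IsPushout.equiv S S' C C').toLinearEquiv

theorem smooth_of_isPushout {S C S' C' : Type u} [CommRing S] [CommRing C]
    [CommRing S'] [CommRing C'] [Algebra S C] [Algebra S S'] [Algebra C C'] [Algebra S' C']
    [Algebra S C'] [IsScalarTower S S' C'] [IsScalarTower S C C']
    (hSC' : Algebra.IsPushout S S' C C') [Algebra.Smooth S C] :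
    Algebra.Smooth S' C' := by
  haveI := hSC'
  exact Algebra.Smooth.of_equiv (Algebra.IsPushout.equiv S S' C C')

end L7

end Groth.Agent.Lib.T2H2.DevBCX
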