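import Groth.Agent.Lib.T2H2DevBCX1
import Groth.Agent.Lib.T2H2DevBC5

/-!
# Base change of a complete dévissage: the construction (helper2)

* `QB`: the uniform family `R' ⊗ B` (when `c`) or `R'` (otherwise), with `eB`, `algB`,
  `isPushout_QB`, `mapQB`.
* `Bf`, `Af`, `Mf`, `αf`: the families of the base-changed dévissage; `bcDev`: the structure.
-/

set_option autoImplicit false
set_option linter.style.haveILetI false
set_option linter.unusedSectionVars false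
universe u
open TensorProduct

namespace Groth.Agent.Lib.T2H2.DevBCX

attribute [local instance] Algebra.TensorProduct.rightAlgebra

section Generic

variable (R : Type u) [CommRing R] (R' : Type u) [CommRing R'] [Algebra R R']

/-- the ideal of `(R' ⊗ B) × R'` cutting out the first factor (if `c`) or the second factor. -/
noncomputable def JB (B : Type u) [CommRing B] [Algebra R B] (c : Prop) [Decidable c] :
    Ideal ((R' ⊗[R] B) × R') :=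
  if c then RingHom.ker (AlgHom.fst R' (R' ⊗[R] B) R') else RingHom.ker (AlgHom.snd R' (R' ⊗[R] B) R')

/-- `R' ⊗ B` if `c`, and `R'` otherwise, as a uniform type. -/
abbrev QB (B : Type u) [CommRing B] [Algebra R B] (c : Prop) [Decidable c] : Type u :=
  ((R' ⊗[R] B) × R') ⧸ JB R R' B c

variable (B A : Type u) [CommRing B] [CommRing A] [Algebra R B] [Algebra R A] [Algebra B A]
  [IsScalarTower R B A] (c : Prop) [Decidable c]

theorem JB_pos (hc : c) : JB R R' B c = RingHom.ker (AlgHom.fst R' (R' ⊗[R] B) R') := if_pos hc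

theorem JB_neg (hc : ¬ c) : JB R R' B c = RingHom.ker (AlgHom.snd R' (R' ⊗[R] B) R') := if_neg hc

/-- the map `QB → R' ⊗ A` induced by `B → A` (if `c`) or the structure map of `R' ⊗ A`. -/
noncomputable def mapQB : QB R R' B c →ₐ[R'] R' ⊗[R] A :=
  if hc : c then
    Ideal.Quotient.liftₐ (JB R R' B c)
      ((Algebra.TensorProduct.map (AlgHom.id R' R') (IsScalarTower.toAlgHom R B A)).comp
        (AlgHom.fst R' (R' ⊗[R] B) R'))
      (by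
        intro x hx
        rw [JB_pos R R' B c hc, RingHom.mem_ker] at hx
        rw [AlgHom.comp_apply, hx, map_zero])
  else
    Ideal.Quotient.liftₐ (JB R R' B c)
      ((Algebra.ofId R' (R' ⊗[R] A)).comp (AlgHom.snd R' (R' ⊗[R] B) R'))
      (by
        intro x hx
        rw [JB_neg R R' B c hc, RingHom.mem_ker] at hx
        rw [AlgHom.comp_apply, hx, map_zero])

theorem mapQB_mk_pos (hc : c) (x : (R' ⊗[R] B) × R') :
    mapQB R R' B A c (Ideal.Quotient.mk _ x) =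
      Algebra.TensorProduct.map (AlgHom.id R' R') (IsScalarTower.toAlgHom R B A) x.1 := by
  rw [mapQB, dif_pos hc]
  rfl

/-- `QB ≅ R' ⊗ B` when `c` holds. -/
noncomputable def eB (hc : c) : QB R R' B c ≃ₐ[R'] R' ⊗[R] B :=
  (Ideal.quotientEquivAlgOfEq R' (JB_pos R R' B c hc)).trans
    (Ideal.quotientKerAlgEquivOfSurjective (f := AlgHom.fst R' (R' ⊗[R] B) R')
      (fun x => ⟨(x, 0), rfl⟩))

theorem eB_mk (hc : c) (x : (R' ⊗[R] B) × R') : eB R R' B c hc (Ideal.Quotient.mk _ x) = x.1 :=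
  rfl

theorem eB_symm_apply (hc : c) (x : R' ⊗[R] B) (y : R') :
    (eB R R' B c hc).symm x = Ideal.Quotient.mk _ (x, y) := by
  rw [AlgEquiv.symm_apply_eq, eB_mk]

/-- `QB ≅ R'` when `c` fails. -/
noncomputable def eB' (hc : ¬ c) : QB R R' B c ≃ₐ[R'] R' :=
  (Ideal.quotientEquivAlgOfEq R' (JB_neg R R' B c hc)).trans
    (Ideal.quotientKerAlgEquivOfSurjective (f := AlgHom.snd R' (R' ⊗[R] B) R')
      (fun x => ⟨(0, x), rfl⟩))

/-- the `B`-algebra structure on `QB` when `c` holds. -/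
@[reducible] noncomputable def algB (hc : c) : Algebra B (QB R R' B c) :=
  (((eB R R' B c hc).symm : R' ⊗[R] B →ₐ[R'] QB R R' B c).toRingHom.comp
    (Algebra.TensorProduct.includeRight (R := R) (A := R') (B := B)).toRingHom).toAlgebra

theorem algebraMap_algB (hc : c) (b : B) (y : R') :
    letI := algB R R' B c hc
    algebraMap B (QB R R' B c) b = Ideal.Quotient.mk _ ((1 : R') ⊗ₜ[R] b, y) := by
  letI := algB R R' B c hc
  change (eB R R' B c hc).symm ((1 : R') ⊗ₜ[R] b) = _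
  exact eB_symm_apply R R' B c hc _ y

theorem eB_algebraMap (hc : c) (b : B) :
    letI := algB R R' B c hc
    eB R R' B c hc (algebraMap B (QB R R' B c) b) = (1 : R') ⊗ₜ[R] b := by
  letI := algB R R' B c hc
  change eB R R' B c hc ((eB R R' B c hc).symm ((1 : R') ⊗ₜ[R] b)) = _
  rw [AlgEquiv.apply_symm_apply]

theorem isScalarTower_algB (hc : c) :
    letI := algB R R' B c hc
    IsScalarTower R B (QB R R' B c) := by
  letI := algB R R' B c hc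
  refine IsScalarTower.of_algebraMap_eq fun r => ?_
  apply (eB R R' B c hc).injective
  rw [eB_algebraMap, IsScalarTower.algebraMap_apply R R' (QB R R' B c), AlgEquiv.commutes,
    Algebra.TensorProduct.algebraMap_apply, Algebra.algebraMap_eq_smul_one (A := B),
    ← TensorProduct.smul_tmul, Algebra.algebraMap_eq_smul_one (A := R'), algebraMap_smul]

theorem isPushout_QB (hc : c) :
    letI := algB R R' B c hc
    haveI := isScalarTower_algB R R' B c hc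
    Algebra.IsPushout R R' B (QB R R' B c) := by
  letI := algB R R' B c hc
  haveI := isScalarTower_algB R R' B c hc
  refine Algebra.IsPushout.of_equiv (R := R) (R' := R') (S := B) (S' := R' ⊗[R] B)
    (eB R R' B c hc).symm ?_
  rfl

/-- compatibility of `QB → R' ⊗ A` with `B → A`. -/
theorem mapQB_algebraMap (hc : c) (b : B) :
    letI := algB R R' B c hc
    mapQB R R' B A c (algebraMap B (QB R R' B c) b) = (1 : R') ⊗ₜ[R] algebraMap B A b := by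
  letI := algB R R' B c hc
  rw [algebraMap_algB R R' B c hc b 0, mapQB_mk_pos R R' B A c hc]
  simp

/-- in the degenerate case, the extension of a prime of `R'` to `QB` is prime. -/
theorem isPrime_map_QB_neg (hc : ¬ c) (p' : Ideal R') [p'.IsPrime] :
    (p'.map (algebraMap R' (QB R R' B c))).IsPrime := by
  have h : p'.map (algebraMap R' (QB R R' B c)) =
      p'.comap ((eB' R R' B c hc : QB R R' B c →ₐ[R'] R') : QB R R' B c →+* R') := by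
    have h1 : algebraMap R' (QB R R' B c) =
        (((eB' R R' B c hc).symm : R' →ₐ[R'] QB R R' B c) : R' →+* QB R R' B c) := by
      ext r
      exact ((eB' R R' B c hc).symm.commutes r).symm
    rw [h1]
    exact Ideal.map_symm (eB' R R' B c hc).toRingEquiv
  rw [h]
  exact Ideal.comap_isPrime _ _

end Generic


section Families

variable {R S : Type u} [CommRing R] [CommRing S] [Algebra R S] {N : Type u} [AddCommGroup N]
  [Module S N] {p : Ideal R} [p.IsPrime] (𝒟 : FlatCA.CompleteDevissage R S N p)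
  (R' : Type u) [CommRing R'] [Algebra R R']

/-- the base-changed smooth algebras (and `R'` beyond the length). -/
abbrev Bf (i : ℕ) : Type u := QB R R' (𝒟.B i) (i < 𝒟.n)

/-- the base-changed rings carrying the modules. -/
abbrev Af (i : ℕ) : Type u := R' ⊗[R] 𝒟.A i

noncomputable instance algBfAf (i : ℕ) : Algebra (Bf 𝒟 R' i) (Af 𝒟 R' i) :=
  (mapQB R R' (𝒟.B i) (𝒟.A i) (i < 𝒟.n)).toRingHom.toAlgebra

instance towerBfAf (i : ℕ) : IsScalarTower R' (Bf 𝒟 R' i) (Af 𝒟 R' i) :=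
  IsScalarTower.of_algebraMap_eq (R := R') (S := Bf 𝒟 R' i) (A := Af 𝒟 R' i) fun r =>
    ((mapQB R R' (𝒟.B i) (𝒟.A i) (i < 𝒟.n)).commutes r).symm

noncomputable instance algBfAf' (i : ℕ) : Algebra (Bf 𝒟 R' i) (Af 𝒟 R' (i + 1)) :=
  (mapQB R R' (𝒟.B i) (𝒟.A (i + 1)) (i < 𝒟.n)).toRingHom.toAlgebra

instance towerBfAf' (i : ℕ) : IsScalarTower R' (Bf 𝒟 R' i) (Af 𝒟 R' (i + 1)) :=
  IsScalarTower.of_algebraMap_eq (R := R') (S := Bf 𝒟 R' i) (A := Af 𝒟 R' (i + 1)) fun r =>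
    ((mapQB R R' (𝒟.B i) (𝒟.A (i + 1)) (i < 𝒟.n)).commutes r).symm

noncomputable instance algBAf (i : ℕ) : Algebra (𝒟.B i) (Af 𝒟 R' i) :=
  ((algebraMap (𝒟.A i) (Af 𝒟 R' i)).comp (algebraMap (𝒟.B i) (𝒟.A i))).toAlgebra

instance towerBAAf (i : ℕ) : IsScalarTower (𝒟.B i) (𝒟.A i) (Af 𝒟 R' i) :=
  IsScalarTower.of_algebraMap_eq fun _ => rfl

noncomputable instance algBAf' (i : ℕ) : Algebra (𝒟.B i) (Af 𝒟 R' (i + 1)) :=
  ((algebraMap (𝒟.A (i + 1)) (Af 𝒟 R' (i + 1))).comp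
    (algebraMap (𝒟.B i) (𝒟.A (i + 1)))).toAlgebra

instance towerBAAf' (i : ℕ) : IsScalarTower (𝒟.B i) (𝒟.A (i + 1)) (Af 𝒟 R' (i + 1)) :=
  IsScalarTower.of_algebraMap_eq fun _ => rfl

noncomputable instance algSAf : Algebra S (Af 𝒟 R' 0) :=
  ((algebraMap (𝒟.A 0) (Af 𝒟 R' 0)).comp (algebraMap S (𝒟.A 0))).toAlgebra

instance towerSAAf : IsScalarTower S (𝒟.A 0) (Af 𝒟 R' 0) :=
  IsScalarTower.of_algebraMap_eq fun _ => rfl

instance towerRSAf : IsScalarTower R S (Af 𝒟 R' 0) :=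
  IsScalarTower.of_algebraMap_eq fun r => by
    rw [IsScalarTower.algebraMap_apply S (𝒟.A 0) (Af 𝒟 R' 0),
      ← IsScalarTower.algebraMap_apply R S (𝒟.A 0),
      ← IsScalarTower.algebraMap_apply R (𝒟.A 0) (Af 𝒟 R' 0)]

/-- the `A i`-algebra structure on `R' ⊗ A i`. -/
@[reducible] noncomputable def algAAf (i : ℕ) : Algebra (𝒟.A i) (Af 𝒟 R' i) := inferInstance

theorem towerRAAf (i : ℕ) : IsScalarTower R (𝒟.A i) (Af 𝒟 R' i) := inferInstance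

theorem pushoutA (i : ℕ) : Algebra.IsPushout R R' (𝒟.A i) (Af 𝒟 R' i) :=
  TensorProduct.isPushout

/-- the base-changed modules. -/
def Mf (i : ℕ) : Type u := Af 𝒟 R' i ⊗[𝒟.A i] 𝒟.M i

noncomputable instance (i : ℕ) : AddCommGroup (Mf 𝒟 R' i) :=
  inferInstanceAs (AddCommGroup (Af 𝒟 R' i ⊗[𝒟.A i] 𝒟.M i))

noncomputable instance modAfMf (i : ℕ) : Module (Af 𝒟 R' i) (Mf 𝒟 R' i) :=
  inferInstanceAs (Module (Af 𝒟 R' i) (Af 𝒟 R' i ⊗[𝒟.A i] 𝒟.M i))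

noncomputable instance modAMf (i : ℕ) : Module (𝒟.A i) (Mf 𝒟 R' i) :=
  inferInstanceAs (Module (𝒟.A i) (Af 𝒟 R' i ⊗[𝒟.A i] 𝒟.M i))

instance towerAAfMf (i : ℕ) : IsScalarTower (𝒟.A i) (Af 𝒟 R' i) (Mf 𝒟 R' i) :=
  inferInstanceAs (IsScalarTower (𝒟.A i) (Af 𝒟 R' i) (Af 𝒟 R' i ⊗[𝒟.A i] 𝒟.M i))

/-- the base-change maps on modules. -/
noncomputable def mkM (i : ℕ) : 𝒟.M i →ₗ[𝒟.A i] Mf 𝒟 R' i :=
  TensorProduct.mk (𝒟.A i) (Af 𝒟 R' i) (𝒟.M i) 1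

theorem isBaseChange_mkM (i : ℕ) : IsBaseChange (Af 𝒟 R' i) (mkM 𝒟 R' i) :=
  TensorProduct.isBaseChange (𝒟.A i) (𝒟.M i) (Af 𝒟 R' i)

noncomputable instance modBfMf (i : ℕ) : Module (Bf 𝒟 R' i) (Mf 𝒟 R' i) :=
  Module.compHom (Mf 𝒟 R' i) (algebraMap (Bf 𝒟 R' i) (Af 𝒟 R' i))

instance towerBfAfMf (i : ℕ) : IsScalarTower (Bf 𝒟 R' i) (Af 𝒟 R' i) (Mf 𝒟 R' i) :=
  IsScalarTower.of_algebraMap_smul fun _ _ => rfl

noncomputable instance modR'Mf (i : ℕ) : Module R' (Mf 𝒟 R' i) :=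
  Module.compHom (Mf 𝒟 R' i) (algebraMap R' (Af 𝒟 R' i))

instance towerR'AfMf (i : ℕ) : IsScalarTower R' (Af 𝒟 R' i) (Mf 𝒟 R' i) :=
  IsScalarTower.of_algebraMap_smul fun _ _ => rfl

instance towerR'BfMf (i : ℕ) : IsScalarTower R' (Bf 𝒟 R' i) (Mf 𝒟 R' i) :=
  IsScalarTower.of_algebraMap_smul (R := R') (A := Bf 𝒟 R' i) (M := Mf 𝒟 R' i) fun r x => by
    change algebraMap (Bf 𝒟 R' i) (Af 𝒟 R' i) (algebraMap R' (Bf 𝒟 R' i) r) • x =
      algebraMap R' (Af 𝒟 R' i) r • x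
    rw [← IsScalarTower.algebraMap_apply R' (Bf 𝒟 R' i) (Af 𝒟 R' i)]

noncomputable instance modBfMf' (i : ℕ) : Module (Bf 𝒟 R' i) (Mf 𝒟 R' (i + 1)) :=
  Module.compHom (Mf 𝒟 R' (i + 1)) (algebraMap (Bf 𝒟 R' i) (Af 𝒟 R' (i + 1)))

instance towerBfAfMf' (i : ℕ) :
    IsScalarTower (Bf 𝒟 R' i) (Af 𝒟 R' (i + 1)) (Mf 𝒟 R' (i + 1)) :=
  IsScalarTower.of_algebraMap_smul fun _ _ => rfl

/-- the base-changed maps from finite free modules. -/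
noncomputable def αf (i : ℕ) : (Fin (𝒟.r i) → Bf 𝒟 R' i) →ₗ[Bf 𝒟 R' i] Mf 𝒟 R' i :=
  Fintype.linearCombination (Bf 𝒟 R' i) (fun j => mkM 𝒟 R' i (𝒟.α i (Pi.single j 1)))

theorem αf_single (i : ℕ) (j : Fin (𝒟.r i)) :
    αf 𝒟 R' i (Pi.single j 1) = mkM 𝒟 R' i (𝒟.α i (Pi.single j 1)) := by
  rw [αf, Fintype.linearCombination_apply_single, one_smul]

end Families


section Lt

variable {R S : Type u} [CommRing R] [CommRing S] [Algebra R S] {N : Type u} [AddCommGroup N]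
  [Module S N] {p : Ideal R} [p.IsPrime] (𝒟 : FlatCA.CompleteDevissage R S N p)
  (R' : Type u) [CommRing R'] [Algebra R R'] {i : ℕ} (hi : i < 𝒟.n)

/-- the `B i`-algebra structure on `Bf i` at a genuine step. -/
@[reducible] noncomputable def algBBf : Algebra (𝒟.B i) (Bf 𝒟 R' i) :=
  algB R R' (𝒟.B i) (i < 𝒟.n) hi

theorem towerRBBf : letI := algBBf 𝒟 R' hi; IsScalarTower R (𝒟.B i) (Bf 𝒟 R' i) :=
  isScalarTower_algB R R' (𝒟.B i) (i < 𝒟.n) hi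

theorem pushoutB : letI := algBBf 𝒟 R' hi; haveI := towerRBBf 𝒟 R' hi
    Algebra.IsPushout R R' (𝒟.B i) (Bf 𝒟 R' i) :=
  isPushout_QB R R' (𝒟.B i) (i < 𝒟.n) hi

theorem towerBBfAf : letI := algBBf 𝒟 R' hi; IsScalarTower (𝒟.B i) (Bf 𝒟 R' i) (Af 𝒟 R' i) :=
  letI := algBBf 𝒟 R' hi
  IsScalarTower.of_algebraMap_eq (R := 𝒟.B i) (S := Bf 𝒟 R' i) (A := Af 𝒟 R' i) fun b =>
    (mapQB_algebraMap R R' (𝒟.B i) (𝒟.A i) (i < 𝒟.n) hi b).symm

theorem towerBBfAf' :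
    letI := algBBf 𝒟 R' hi; IsScalarTower (𝒟.B i) (Bf 𝒟 R' i) (Af 𝒟 R' (i + 1)) :=
  letI := algBBf 𝒟 R' hi
  IsScalarTower.of_algebraMap_eq (R := 𝒟.B i) (S := Bf 𝒟 R' i) (A := Af 𝒟 R' (i + 1)) fun b =>
    (mapQB_algebraMap R R' (𝒟.B i) (𝒟.A (i + 1)) (i < 𝒟.n) hi b).symm

theorem pushoutBA : letI := algBBf 𝒟 R' hi; haveI := towerBBfAf 𝒟 R' hi
    Algebra.IsPushout (𝒟.B i) (Bf 𝒟 R' i) (𝒟.A i) (Af 𝒟 R' i) := by
  letI := algBBf 𝒟 R' hi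
  haveI := towerBBfAf 𝒟 R' hi
  haveI := towerRBBf 𝒟 R' hi
  exact Groth.Agent.Lib.T2H2.DevBC5.isPushout_step (R := R) (R' := R') (A := 𝒟.A i)
    (B := 𝒟.B i) (A' := Af 𝒟 R' i) (B' := Bf 𝒟 R' i) (pushoutA 𝒟 R' i) (pushoutB 𝒟 R' hi)

theorem pushoutBA' : letI := algBBf 𝒟 R' hi; haveI := towerBBfAf' 𝒟 R' hi
    Algebra.IsPushout (𝒟.B i) (Bf 𝒟 R' i) (𝒟.A (i + 1)) (Af 𝒟 R' (i + 1)) := by
  letI := algBBf 𝒟 R' hi
  haveI := towerBBfAf' 𝒟 R' hi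
  haveI := towerRBBf 𝒟 R' hi
  exact Groth.Agent.Lib.T2H2.DevBC5.isPushout_step (R := R) (R' := R') (A := 𝒟.A (i + 1))
    (B := 𝒟.B i) (A' := Af 𝒟 R' (i + 1)) (B' := Bf 𝒟 R' i) (pushoutA 𝒟 R' (i + 1))
    (pushoutB 𝒟 R' hi)

include hi in
theorem smoothBf : Algebra.Smooth R' (Bf 𝒟 R' i) := by
  letI := algBBf 𝒟 R' hi
  haveI := towerRBBf 𝒟 R' hi
  haveI := 𝒟.smooth i hi
  exact smooth_of_isPushout (pushoutB 𝒟 R' hi)

include hi in
theorem geomIrredBf : FlatCA.GeomIrredFibres R' (Bf 𝒟 R' i) := by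
  letI := algBBf 𝒟 R' hi
  haveI := towerRBBf 𝒟 R' hi
  haveI := pushoutB 𝒟 R' hi
  exact Groth.Agent.Lib.T2H2.DevBC.geomIrredFibres_of_isPushout (R := R) (R' := R')
    (D := 𝒟.B i) (D' := Bf 𝒟 R' i) (𝒟.geomIrred i hi)

include hi in
theorem finiteBfAf : Module.Finite (Bf 𝒟 R' i) (Af 𝒟 R' i) := by
  letI := algBBf 𝒟 R' hi
  haveI := towerBBfAf 𝒟 R' hi
  haveI := 𝒟.finiteBA i hi
  exact finite_of_isPushout (pushoutBA 𝒟 R' hi)

include hi in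
theorem finiteAfMf : Module.Finite (Af 𝒟 R' i) (Mf 𝒟 R' i) := by
  haveI := 𝒟.finiteM i hi
  exact inferInstanceAs (Module.Finite (Af 𝒟 R' i) (Af 𝒟 R' i ⊗[𝒟.A i] 𝒟.M i))

theorem surjBfAf' (h : i + 1 < 𝒟.n) :
    Function.Surjective (algebraMap (Bf 𝒟 R' i) (Af 𝒟 R' (i + 1))) := by
  have hi : i < 𝒟.n := by omega
  letI := algBBf 𝒟 R' hi
  haveI := towerBBfAf' 𝒟 R' hi
  exact surjective_of_isPushout (pushoutBA' 𝒟 R' hi) (𝒟.surjBA' i h)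

theorem fpBfAf' (h : i + 1 < 𝒟.n) :
    Algebra.FinitePresentation (Bf 𝒟 R' i) (Af 𝒟 R' (i + 1)) := by
  have hi : i < 𝒟.n := by omega
  letI := algBBf 𝒟 R' hi
  haveI := towerBBfAf' 𝒟 R' hi
  haveI := 𝒟.fpBA' i h
  exact finitePresentation_of_isPushout (pushoutBA' 𝒟 R' hi)

theorem isPrimeBf (p' : Ideal R') [p'.IsPrime] (j : ℕ) :
    (p'.map (algebraMap R' (Bf 𝒟 R' j))).IsPrime := by
  by_cases hj : j < 𝒟.n
  · haveI := smoothBf 𝒟 R' hj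
    exact isPrime_map_of_smooth_geomIrred (geomIrredBf 𝒟 R' hj) p'
  · exact isPrime_map_QB_neg R R' (𝒟.B j) (j < 𝒟.n) hj p'

end Lt


section Mod

variable {R S : Type u} [CommRing R] [CommRing S] [Algebra R S] {N : Type u} [AddCommGroup N]
  [Module S N] {p : Ideal R} [p.IsPrime] (𝒟 : FlatCA.CompleteDevissage R S N p)
  (R' : Type u) [CommRing R'] [Algebra R R']

noncomputable instance modBMf (i : ℕ) : Module (𝒟.B i) (Mf 𝒟 R' i) :=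
  Module.compHom (Mf 𝒟 R' i) (algebraMap (𝒟.B i) (𝒟.A i))

instance towerBAMf (i : ℕ) : IsScalarTower (𝒟.B i) (𝒟.A i) (Mf 𝒟 R' i) :=
  IsScalarTower.of_algebraMap_smul (R := 𝒟.B i) (A := 𝒟.A i) (M := Mf 𝒟 R' i) fun _ _ => rfl

noncomputable instance modBMf' (i : ℕ) : Module (𝒟.B i) (Mf 𝒟 R' (i + 1)) :=
  Module.compHom (Mf 𝒟 R' (i + 1)) (algebraMap (𝒟.B i) (𝒟.A (i + 1)))

instance towerBAMf' (i : ℕ) : IsScalarTower (𝒟.B i) (𝒟.A (i + 1)) (Mf 𝒟 R' (i + 1)) :=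
  IsScalarTower.of_algebraMap_smul (R := 𝒟.B i) (A := 𝒟.A (i + 1)) (M := Mf 𝒟 R' (i + 1))
    fun _ _ => rfl

variable {i : ℕ} (hi : i < 𝒟.n)

theorem towerBBfMf : letI := algBBf 𝒟 R' hi; IsScalarTower (𝒟.B i) (Bf 𝒟 R' i) (Mf 𝒟 R' i) := by
  letI := algBBf 𝒟 R' hi
  haveI := towerBBfAf 𝒟 R' hi
  refine IsScalarTower.of_algebraMap_smul (R := 𝒟.B i) (A := Bf 𝒟 R' i) (M := Mf 𝒟 R' i)
    fun b x => ?_
  change algebraMap (Bf 𝒟 R' i) (Af 𝒟 R' i) (algebraMap (𝒟.B i) (Bf 𝒟 R' i) b) • x =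
    algebraMap (𝒟.B i) (𝒟.A i) b • x
  rw [← IsScalarTower.algebraMap_apply (𝒟.B i) (Bf 𝒟 R' i) (Af 𝒟 R' i),
    IsScalarTower.algebraMap_apply (𝒟.B i) (𝒟.A i) (Af 𝒟 R' i), algebraMap_smul]

theorem towerBBfMf' :
    letI := algBBf 𝒟 R' hi; IsScalarTower (𝒟.B i) (Bf 𝒟 R' i) (Mf 𝒟 R' (i + 1)) := by
  letI := algBBf 𝒟 R' hi
  haveI := towerBBfAf' 𝒟 R' hi
  refine IsScalarTower.of_algebraMap_smul (R := 𝒟.B i) (A := Bf 𝒟 R' i) (M := Mf 𝒟 R' (i + 1))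
    fun b x => ?_
  change algebraMap (Bf 𝒟 R' i) (Af 𝒟 R' (i + 1)) (algebraMap (𝒟.B i) (Bf 𝒟 R' i) b) • x =
    algebraMap (𝒟.B i) (𝒟.A (i + 1)) b • x
  rw [← IsScalarTower.algebraMap_apply (𝒟.B i) (Bf 𝒟 R' i) (Af 𝒟 R' (i + 1)),
    IsScalarTower.algebraMap_apply (𝒟.B i) (𝒟.A (i + 1)) (Af 𝒟 R' (i + 1)), algebraMap_smul]

theorem isBaseChange_gB : letI := algBBf 𝒟 R' hi; haveI := towerBBfMf 𝒟 R' hi
    IsBaseChange (Bf 𝒟 R' i) ((mkM 𝒟 R' i).restrictScalars (𝒟.B i)) := by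
  letI := algBBf 𝒟 R' hi
  haveI := towerBBfMf 𝒟 R' hi
  haveI := towerBBfAf 𝒟 R' hi
  haveI := pushoutBA 𝒟 R' hi
  exact Groth.Agent.Lib.Helper3.FlatLoc.isBaseChange_restrictScalars_of_isPushout
    (A := 𝒟.B i) (R := Bf 𝒟 R' i) (PA := 𝒟.A i) (PR := Af 𝒟 R' i) (X := 𝒟.M i)
    (Y := Mf 𝒟 R' i) (mkM 𝒟 R' i) (isBaseChange_mkM 𝒟 R' i)

theorem isBaseChange_gB' : letI := algBBf 𝒟 R' hi; haveI := towerBBfMf' 𝒟 R' hi
    IsBaseChange (Bf 𝒟 R' i) ((mkM 𝒟 R' (i + 1)).restrictScalars (𝒟.B i)) := by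
  letI := algBBf 𝒟 R' hi
  haveI := towerBBfMf' 𝒟 R' hi
  haveI := towerBBfAf' 𝒟 R' hi
  haveI := pushoutBA' 𝒟 R' hi
  exact Groth.Agent.Lib.Helper3.FlatLoc.isBaseChange_restrictScalars_of_isPushout
    (A := 𝒟.B i) (R := Bf 𝒟 R' i) (PA := 𝒟.A (i + 1)) (PR := Af 𝒟 R' (i + 1))
    (X := 𝒟.M (i + 1)) (Y := Mf 𝒟 R' (i + 1)) (mkM 𝒟 R' (i + 1)) (isBaseChange_mkM 𝒟 R' (i + 1))

include hi in
theorem range_αf : LinearMap.range (αf 𝒟 R' i) =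
    Submodule.span (Bf 𝒟 R' i) ((mkM 𝒟 R' i) '' (LinearMap.range (𝒟.α i) : Set (𝒟.M i))) := by
  letI := algBBf 𝒟 R' hi
  haveI := towerBBfMf 𝒟 R' hi
  exact range_step (𝒟.r i) (𝒟.α i) (αf 𝒟 R' i) ((mkM 𝒟 R' i).restrictScalars (𝒟.B i))
    (αf_single 𝒟 R' i)

include hi in
theorem fibreIso_f (p' : Ideal R') [p'.IsPrime] [p'.LiesOver p] :
    haveI := isPrimeBf 𝒟 R' p' i
    Function.Bijective ((αf 𝒟 R' i).baseChange
      (p'.map (algebraMap R' (Bf 𝒟 R' i))).ResidueField) := by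
  haveI := isPrimeBf 𝒟 R' p' i
  letI := algBBf 𝒟 R' hi
  haveI := towerBBfMf 𝒟 R' hi
  haveI := towerRBBf 𝒟 R' hi
  haveI := pushoutB 𝒟 R' hi
  haveI := 𝒟.smooth i hi
  haveI : Module.Flat R (𝒟.B i) := Algebra.Smooth.flat R (𝒟.B i)
  have hP : p.map (algebraMap R (𝒟.B i)) =
      (p'.map (algebraMap R' (Bf 𝒟 R' i))).comap (algebraMap (𝒟.B i) (Bf 𝒟 R' i)) :=
    (comap_map_eq_of_isPushout (R := R) (R' := R') (B := 𝒟.B i) (B' := Bf 𝒟 R' i) p p').symm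
  exact fibreIso_step (p.map (algebraMap R (𝒟.B i))) (p'.map (algebraMap R' (Bf 𝒟 R' i))) hP
    (𝒟.r i) (𝒟.α i) (αf 𝒟 R' i) ((mkM 𝒟 R' i).restrictScalars (𝒟.B i))
    (isBaseChange_gB 𝒟 R' hi) (αf_single 𝒟 R' i) (𝒟.fibreIso i hi)

theorem isoCoker_f (h : i + 1 < 𝒟.n) :
    Nonempty ((Mf 𝒟 R' i ⧸ LinearMap.range (αf 𝒟 R' i)) ≃ₗ[Bf 𝒟 R' i] Mf 𝒟 R' (i + 1)) := by
  have hi : i < 𝒟.n := by omega
  letI := algBBf 𝒟 R' hi
  haveI := towerBBfMf 𝒟 R' hi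
  haveI := towerBBfMf' 𝒟 R' hi
  obtain ⟨e⟩ := isoCoker_step ((mkM 𝒟 R' i).restrictScalars (𝒟.B i)) (isBaseChange_gB 𝒟 R' hi)
    ((mkM 𝒟 R' (i + 1)).restrictScalars (𝒟.B i)) (isBaseChange_gB' 𝒟 R' hi)
    (LinearMap.range (𝒟.α i)) (𝒟.isoCoker i h)
  exact ⟨(Submodule.quotEquivOfEq _ _ (range_αf 𝒟 R' hi)) ≪≫ₗ e⟩

theorem cokerLast_f : Function.Surjective (αf 𝒟 R' (𝒟.n - 1)) := by
  have hi : 𝒟.n - 1 < 𝒟.n := by have := 𝒟.pos; omega
  letI := algBBf 𝒟 R' hi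
  haveI := towerBBfMf 𝒟 R' hi
  exact surjective_step (𝒟.r (𝒟.n - 1)) (𝒟.α (𝒟.n - 1)) (αf 𝒟 R' (𝒟.n - 1))
    ((mkM 𝒟 R' (𝒟.n - 1)).restrictScalars (𝒟.B (𝒟.n - 1))) (isBaseChange_gB 𝒟 R' hi)
    (αf_single 𝒟 R' (𝒟.n - 1)) 𝒟.cokerLast

end Mod


section SPart

variable {R S : Type u} [CommRing R] [CommRing S] [Algebra R S] {N : Type u} [AddCommGroup N]
  [Module S N] {p : Ideal R} [p.IsPrime] (𝒟 : FlatCA.CompleteDevissage R S N p)
  (R' : Type u) [CommRing R'] [Algebra R R']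
  (S' : Type u) [CommRing S'] [Algebra R' S'] [Algebra R S'] [Algebra S S'] [IsScalarTower R R' S']
  [IsScalarTower R S S'] [Algebra.IsPushout R R' S S']

/-- the map `S' → R' ⊗ A₀`. -/
noncomputable def mapSA : S' →ₐ[R] Af 𝒟 R' 0 :=
  Algebra.pushoutDesc S' (IsScalarTower.toAlgHom R R' (Af 𝒟 R' 0))
    (IsScalarTower.toAlgHom R S (Af 𝒟 R' 0)) (fun _ _ => mul_comm _ _)

/-- the `S'`-algebra structure on `R' ⊗ A₀`. -/
@[reducible] noncomputable def algS'Af : Algebra S' (Af 𝒟 R' 0) :=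
  (mapSA 𝒟 R' S').toRingHom.toAlgebra

theorem towerR'S'Af : letI := algS'Af 𝒟 R' S'; IsScalarTower R' S' (Af 𝒟 R' 0) :=
  letI := algS'Af 𝒟 R' S'
  IsScalarTower.of_algebraMap_eq (R := R') (S := S') (A := Af 𝒟 R' 0) fun r =>
    (Algebra.pushoutDesc_left S' (IsScalarTower.toAlgHom R R' (Af 𝒟 R' 0))
      (IsScalarTower.toAlgHom R S (Af 𝒟 R' 0)) (fun _ _ => mul_comm _ _) r).symm

theorem towerSS'Af : letI := algS'Af 𝒟 R' S'; IsScalarTower S S' (Af 𝒟 R' 0) :=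
  letI := algS'Af 𝒟 R' S'
  IsScalarTower.of_algebraMap_eq (R := S) (S := S') (A := Af 𝒟 R' 0) fun r =>
    (Algebra.pushoutDesc_right S' (IsScalarTower.toAlgHom R R' (Af 𝒟 R' 0))
      (IsScalarTower.toAlgHom R S (Af 𝒟 R' 0)) (fun _ _ => mul_comm _ _) r).symm

/-- the `S'`-module structure on `M'₀`. -/
@[reducible] noncomputable def modS'Mf : Module S' (Mf 𝒟 R' 0) :=
  letI := algS'Af 𝒟 R' S'
  Module.compHom (Mf 𝒟 R' 0) (algebraMap S' (Af 𝒟 R' 0))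

theorem towerS'AfMf : letI := algS'Af 𝒟 R' S'; letI := modS'Mf 𝒟 R' S'
    IsScalarTower S' (Af 𝒟 R' 0) (Mf 𝒟 R' 0) :=
  letI := algS'Af 𝒟 R' S'
  letI := modS'Mf 𝒟 R' S'
  IsScalarTower.of_algebraMap_smul (R := S') (A := Af 𝒟 R' 0) (M := Mf 𝒟 R' 0) fun _ _ => rfl

theorem pushoutSA : letI := algS'Af 𝒟 R' S'; haveI := towerSS'Af 𝒟 R' S'
    Algebra.IsPushout S S' (𝒟.A 0) (Af 𝒟 R' 0) := by
  letI := algS'Af 𝒟 R' S'
  haveI := towerSS'Af 𝒟 R' S'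
  haveI := towerR'S'Af 𝒟 R' S'
  exact Groth.Agent.Lib.T2H2.DevBC5.isPushout_step (R := R) (R' := R') (A := 𝒟.A 0)
    (B := S) (A' := Af 𝒟 R' 0) (B' := S') (pushoutA 𝒟 R' 0) inferInstance

theorem surjS'Af : letI := algS'Af 𝒟 R' S'
    Function.Surjective (algebraMap S' (Af 𝒟 R' 0)) := by
  letI := algS'Af 𝒟 R' S'
  haveI := towerSS'Af 𝒟 R' S'
  exact surjective_of_isPushout (pushoutSA 𝒟 R' S') 𝒟.surjSA

theorem fpS'Af : letI := algS'Af 𝒟 R' S'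
    Algebra.FinitePresentation S' (Af 𝒟 R' 0) := by
  letI := algS'Af 𝒟 R' S'
  haveI := towerSS'Af 𝒟 R' S'
  haveI := 𝒟.fpSA
  exact finitePresentation_of_isPushout (pushoutSA 𝒟 R' S')

theorem exists_isoN {N' : Type u} [AddCommGroup N'] [Module S' N'] [Module S N']
    [IsScalarTower S S' N'] (f : N →ₗ[S] N') (hf : IsBaseChange S' f) :
    letI := modS'Mf 𝒟 R' S'
    ∃ e' : N' ≃ₗ[S'] Mf 𝒟 R' 0, ∀ x, e' (f x) = mkM 𝒟 R' 0 (𝒟.isoN x) := by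
  letI := algS'Af 𝒟 R' S'
  letI := modS'Mf 𝒟 R' S'
  haveI := towerSS'Af 𝒟 R' S'
  haveI := towerS'AfMf 𝒟 R' S'
  exact isoN_step 𝒟.isoN (pushoutSA 𝒟 R' S') f hf (mkM 𝒟 R' 0) (isBaseChange_mkM 𝒟 R' 0)

end SPart


section Struct

variable {R S : Type u} [CommRing R] [CommRing S] [Algebra R S] {N : Type u} [AddCommGroup N]
  [Module S N] {p : Ideal R} [p.IsPrime] (𝒟 : FlatCA.CompleteDevissage R S N p)
  (R' : Type u) [CommRing R'] [Algebra R R'] (p' : Ideal R') [p'.IsPrime] [p'.LiesOver p]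
  (S' : Type u) [CommRing S'] [Algebra R' S'] [Algebra R S'] [Algebra S S'] [IsScalarTower R R' S']
  [IsScalarTower R S S'] [Algebra.IsPushout R R' S S']
  {N' : Type u} [AddCommGroup N'] [Module S' N'] [Module S N'] [IsScalarTower S S' N']
  (f : N →ₗ[S] N') (hf : IsBaseChange S' f)

/-- the base change of a complete dévissage. -/
noncomputable def bcDev : FlatCA.CompleteDevissage R' S' N' p' where
  n := 𝒟.n
  pos := 𝒟.pos
  A := Af 𝒟 R'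
  B := Bf 𝒟 R'
  M := Mf 𝒟 R'
  r := 𝒟.r
  cA := fun _ => inferInstance
  cB := fun _ => inferInstance
  aRA := fun _ => inferInstance
  aRB := fun _ => inferInstance
  aBA := fun i => algBfAf 𝒟 R' i
  tRBA := fun i => towerBfAf 𝒟 R' i
  aSA := algS'Af 𝒟 R' S'
  tRSA := towerR'S'Af 𝒟 R' S'
  aBA' := fun i => algBfAf' 𝒟 R' i
  tRBA' := fun i => towerBfAf' 𝒟 R' i
  gM := fun _ => inferInstance
  mAM := fun i => modAfMf 𝒟 R' i
  mBM := fun i => modBfMf 𝒟 R' i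
  tBAM := fun i => towerBfAfMf 𝒟 R' i
  mRM := fun i => modR'Mf 𝒟 R' i
  tRBM := fun i => towerR'BfMf 𝒟 R' i
  mSM := modS'Mf 𝒟 R' S'
  tSAM := towerS'AfMf 𝒟 R' S'
  mB'M := fun i => modBfMf' 𝒟 R' i
  tB'AM := fun i => towerBfAfMf' 𝒟 R' i
  hp := fun i => isPrimeBf 𝒟 R' p' i
  α := αf 𝒟 R'
  surjSA := surjS'Af 𝒟 R' S'
  fpSA := fpS'Af 𝒟 R' S'
  surjBA' := fun _ h => surjBfAf' 𝒟 R' h
  fpBA' := fun _ h => fpBfAf' 𝒟 R' h
  finiteBA := fun _ h => finiteBfAf 𝒟 R' h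
  smooth := fun _ h => smoothBf 𝒟 R' h
  geomIrred := fun _ h => geomIrredBf 𝒟 R' h
  finiteM := fun _ h => finiteAfMf 𝒟 R' h
  isoN := Classical.choose (exists_isoN 𝒟 R' S' f hf)
  isoCoker := fun _ h => (isoCoker_f 𝒟 R' h).some
  fibreIso := fun _ h => fibreIso_f 𝒟 R' h p'
  cokerLast := cokerLast_f 𝒟 R'

theorem bcDev_isoN (x : N) :
    (bcDev 𝒟 R' p' S' f hf).isoN (f x) = mkM 𝒟 R' 0 (𝒟.isoN x) :=
  Classical.choose_spec (exists_isoN 𝒟 R' S' f hf) x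

end Struct

end Groth.Agent.Lib.T2H2.DevBCX
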