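import Groth.Agent.Lib.Helper3SmDim
import Groth.Agent.Lib.Helper7TopDim
import Groth.Agent.Lib.Helper20SuppBC
import Groth.Agent.Lib.Helper29HLVT
import Groth.Agent.Lib.Helper3FlatBC
import Groth.Agent.Lib.T2H2FlatAbove
import Groth.Prelude.Def_FlatCA

/-!
# One step of a dévissage: the free part and the drop of the fibre dimension (helper2)

* `ringKrullDim_fiber_le_of_smoothRelDim`: fibres of a ring map smooth of relative dimension `n` have dimension `≤ n`.
* `krullDim_lt_of_generic_not_mem`: a set of primes of the fibre ring avoiding the generic point `pD` has smaller dimension.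
* `comap_ne_of_mem_support_fiberMod`, `subsingleton_tensor_quotient_range`, `exists_linearMap_baseChange_bijective`.
* `supportDim_eq_of_finite`, `supportDim_fiberMod_eq_of_finite`: dimension of supports along finite maps.
* `oneStepDevissage_basis_and_drop`.
-/

set_option autoImplicit false
set_option linter.style.haveILetI false
set_option linter.unusedSectionVars false
universe u

namespace Groth.Agent.Lib.T2H2.DevStep

open AlgebraicGeometry CategoryTheory TensorProduct
open Groth.Agent.Lib.Helper4.FibDim Groth.Agent.Lib.Helper3.SmDim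

attribute [local instance] Algebra.TensorProduct.rightAlgebra

theorem localDim_fiber_of_smoothRelDim (n : ℕ) (R D : Type u) [CommRing R] [CommRing D]
    [Algebra R D] (h : FlatCA.SmoothRelDim n R D) (P : PrimeSpectrum R)
    (Q' : PrimeSpectrum (P.asIdeal.Fiber D)) :
    FlatMor.localDim (PrimeSpectrum (P.asIdeal.Fiber D)) Q' = (n : WithBot ℕ∞) := by
  let e := PrimeSpectrum.preimageHomeomorphFiber R D P
  obtain ⟨⟨q, hq⟩, rfl⟩ := e.surjective Q'
  have hq' : PrimeSpectrum.comap (algebraMap R D) q = P := hq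
  subst hq'
  haveI : SmoothOfRelativeDimension n (Spec.map (CommRingCat.ofHom (algebraMap R D))) := h
  have h1 := fibreDimAt_eq_of_smoothOfRelativeDimension n
    (Spec.map (CommRingCat.ofHom (algebraMap R D))) q
  rw [fibreDimAt_eq_fibLD] at h1
  have h2 : fibLD (PrimeSpectrum.comap (algebraMap R D)) q = (n : WithBot ℕ∞) := h1
  rw [fibLD_comap_eq] at h2
  exact h2

theorem ringKrullDim_fiber_le_of_smoothRelDim (n : ℕ) (R D : Type u) [CommRing R] [CommRing D]
    [Algebra R D] (h : FlatCA.SmoothRelDim n R D) (p : Ideal R) [p.IsPrime] :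
    ringKrullDim (p.Fiber D) ≤ (n : WithBot ℕ∞) := by
  rw [← PrimeSpectrum.topologicalKrullDim_eq_ringKrullDim,
    Groth.Agent.Lib.Helper7.TopDim.topologicalKrullDim_eq_iSup_localDim]
  refine iSup_le fun Q' => ?_
  exact (localDim_fiber_of_smoothRelDim n R D h ⟨p, inferInstance⟩ Q').le

theorem krullDim_lt_of_generic_not_mem (n : ℕ) (R D : Type u) [CommRing R] [CommRing D]
    [Algebra R D] (p : Ideal R) [p.IsPrime] [hpD : (p.map (algebraMap R D)).IsPrime]
    (hdim : ringKrullDim (p.Fiber D) ≤ (n : WithBot ℕ∞))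
    (Z : Set (PrimeSpectrum (p.Fiber D)))
    (hZ : ∀ Q' ∈ Z, Q'.asIdeal.comap (Algebra.TensorProduct.includeRight (R := R)
      (A := p.ResidueField) (B := D)).toRingHom ≠ p.map (algebraMap R D)) :
    Order.krullDim Z < (n : WithBot ℕ∞) := by
  by_cases hne : Z.Nonempty
  swap
  · rw [Set.not_nonempty_iff_eq_empty] at hne
    subst hne
    rw [Order.krullDim_eq_bot]
    exact WithBot.bot_lt_coe _
  obtain ⟨Q₀, hQ₀⟩ := hne
  let ι := PrimeSpectrum.primesOverOrderIsoFiber R D p
  -- every prime of the fibre contracts to a prime over `p`, hence containing `pD`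
  have hle : ∀ Q' : PrimeSpectrum (p.Fiber D), p.map (algebraMap R D) ≤ (ι.symm Q').1 := by
    intro Q'
    have hover : (ι.symm Q').1.LiesOver p := (ι.symm Q').2.2
    rw [Ideal.map_le_iff_le_comap]
    exact hover.over.le
  have hover0 : (p.map (algebraMap R D)).LiesOver p := by
    have hover : (ι.symm Q₀).1.LiesOver p := (ι.symm Q₀).2.2
    refine ⟨le_antisymm Ideal.le_comap_map ?_⟩
    calc (p.map (algebraMap R D)).under R ≤ (ι.symm Q₀).1.under R := Ideal.comap_mono (hle Q₀)
      _ = p := hover.over.symm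
  let P₀ : p.primesOver D := ⟨p.map (algebraMap R D), hpD, hover0⟩
  have hlt : ∀ Q' ∈ Z, ι P₀ < Q' := by
    intro Q' hQ'
    have h1 : P₀ < ι.symm Q' := by
      refine lt_of_le_of_ne (hle Q') ?_
      intro heq
      apply hZ Q' hQ'
      have := congrArg Subtype.val heq
      rw [PrimeSpectrum.coe_primesOverOrderIsoFiber_symm_apply] at this
      exact this.symm
    have h2 := ι.lt_iff_lt.mpr h1
    rwa [OrderIso.apply_symm_apply] at h2
  have key : ∀ s : LTSeries Z, s.length + 1 ≤ n := by
    intro s
    let t : LTSeries (PrimeSpectrum (p.Fiber D)) :=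
      (s.map Subtype.val (fun a b hab => hab)).cons (ι P₀) (by
        change ι P₀ < (s.map Subtype.val (fun a b hab => hab)).head
        rw [LTSeries.head_map]
        exact hlt _ s.head.2)
    have h1 : (t.length : WithBot ℕ∞) ≤ Order.krullDim (PrimeSpectrum (p.Fiber D)) :=
      Order.LTSeries.length_le_krullDim t
    have h2 : (t.length : WithBot ℕ∞) ≤ (n : WithBot ℕ∞) := h1.trans hdim
    have h3 : t.length = s.length + 1 := by
      simp [t]
    rw [h3] at h2
    exact_mod_cast h2
  have hn : 1 ≤ n := by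
    have := key (RelSeries.singleton _ ⟨Q₀, hQ₀⟩)
    simpa using this
  obtain ⟨m, rfl⟩ : ∃ m, n = m + 1 := ⟨n - 1, by omega⟩
  have hle' : Order.krullDim Z ≤ (m : WithBot ℕ∞) := by
    unfold Order.krullDim
    refine iSup_le fun s => ?_
    have := key s
    have h4 : s.length ≤ m := by omega
    exact_mod_cast h4
  refine lt_of_le_of_lt hle' ?_
  exact_mod_cast Nat.lt_succ_self m

theorem comap_ne_of_mem_support_fiberMod (R D : Type u) [CommRing R] [CommRing D]
    [Algebra R D] (p : Ideal R) [p.IsPrime] [hpD : (p.map (algebraMap R D)).IsPrime]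
    (Q : Type u) [AddCommGroup Q] [Module D Q] [Module.Finite D Q]
    (hQ : Subsingleton ((p.map (algebraMap R D)).ResidueField ⊗[D] Q))
    (Q' : PrimeSpectrum (p.Fiber D)) (hQ' : Q' ∈ Module.support (p.Fiber D) (FlatCA.fiberMod p D Q)) :
    Q'.asIdeal.comap (Algebra.TensorProduct.includeRight (R := R)
      (A := p.ResidueField) (B := D)).toRingHom ≠ p.map (algebraMap R D) := by
  intro heq
  have h1 : Q'.comap (algebraMap D (p.Fiber D)) ∈ Module.support D Q :=
    (Groth.Agent.Lib.Helper20.SuppBC.mem_support_baseChange_iff (A := D) (B := p.Fiber D) (N := Q) Q').mp hQ'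
  have h2 : Q'.comap (algebraMap D (p.Fiber D)) = ⟨p.map (algebraMap R D), hpD⟩ :=
    PrimeSpectrum.ext heq
  rw [h2, Module.mem_support_iff_nontrivial_residueField_tensorProduct] at h1
  exact not_subsingleton _ hQ

theorem subsingleton_tensor_quotient_range {D κ : Type*} [CommRing D] [CommRing κ] [Algebra D κ]
    {F G : Type*} [AddCommGroup F] [Module D F] [AddCommGroup G] [Module D G] (α : F →ₗ[D] G)
    (h : Function.Surjective (α.baseChange κ)) : Subsingleton (κ ⊗[D] (G ⧸ LinearMap.range α)) := by
  refine ⟨fun a b => ?_⟩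
  suffices H : ∀ x : κ ⊗[D] (G ⧸ LinearMap.range α), x = 0 by rw [H a, H b]
  intro x
  obtain ⟨y, rfl⟩ := LinearMap.lTensor_surjective κ (LinearMap.range α).mkQ_surjective x
  obtain ⟨z, rfl⟩ := h y
  rw [LinearMap.baseChange_eq_ltensor, ← LinearMap.lTensor_comp_apply, LinearMap.range_mkQ_comp,
    LinearMap.lTensor_zero, LinearMap.zero_apply]

theorem exists_linearMap_baseChange_bijective {D κ : Type u} [CommRing D] [Field κ] [Algebra D κ]
    (G : Type u) [AddCommGroup G] [Module D G] [Module.Finite D G] :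
    ∃ (r : ℕ) (α : (Fin r → D) →ₗ[D] G), Function.Bijective (α.baseChange κ) ∧
      (Nontrivial (κ ⊗[D] G) → 0 < r) := by
  classical
  let T : Set (κ ⊗[D] G) := Set.range fun g : G => (1 : κ) ⊗ₜ[D] g
  have hT : Submodule.span κ T = ⊤ := by
    rw [eq_top_iff]
    rintro x -
    induction x with
    | zero => exact zero_mem _
    | add x y hx hy => exact add_mem hx hy
    | tmul c g =>
      have : c ⊗ₜ[D] g = c • ((1 : κ) ⊗ₜ[D] g) := by
        rw [TensorProduct.smul_tmul', smul_eq_mul, mul_one]
      rw [this]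
      exact Submodule.smul_mem _ _ (Submodule.subset_span ⟨g, rfl⟩)
  obtain ⟨b, hbT, hbspan, hbli⟩ := exists_linearIndependent κ T
  haveI : Module.Finite κ (κ ⊗[D] G) := inferInstance
  have hbfin : b.Finite := hbli.setFinite
  haveI : Finite b := hbfin.to_subtype
  let r := Nat.card b
  let e : b ≃ Fin r := Finite.equivFin b
  have hg : ∀ j : Fin r, ∃ g : G, (1 : κ) ⊗ₜ[D] g = ((e.symm j : b) : κ ⊗[D] G) := fun j =>
    hbT (e.symm j).2
  choose g hgj using hg
  let α : (Fin r → D) →ₗ[D] G := (Pi.basisFun D (Fin r)).constr D g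
  have hli : LinearIndependent κ (fun j : Fin r => ((e.symm j : b) : κ ⊗[D] G)) :=
    hbli.comp _ e.symm.injective
  have hsp : ⊤ ≤ Submodule.span κ (Set.range fun j : Fin r => ((e.symm j : b) : κ ⊗[D] G)) := by
    rw [← hT, ← hbspan]
    apply Submodule.span_mono
    intro x hx
    exact ⟨e ⟨x, hx⟩, by simp⟩
  let B₂ : Module.Basis (Fin r) κ (κ ⊗[D] G) := Module.Basis.mk hli hsp
  let B₁ : Module.Basis (Fin r) κ (κ ⊗[D] (Fin r → D)) := (Pi.basisFun D (Fin r)).baseChange κ
  have heq : α.baseChange κ = (B₁.equiv B₂ (Equiv.refl _)).toLinearMap := by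
    apply B₁.ext
    intro j
    rw [LinearEquiv.coe_coe, Module.Basis.equiv_apply]
    simp only [B₁, B₂, Module.Basis.baseChange_apply, LinearMap.baseChange_tmul, Equiv.refl_apply,
      Module.Basis.mk_apply]
    rw [← hgj j]
    congr 1
    simp [α]
  refine ⟨r, α, ?_, fun hnt => ?_⟩
  · rw [heq]
    exact (B₁.equiv B₂ (Equiv.refl _)).bijective
  · by_contra hr
    have hr0 : r = 0 := by omega
    have : IsEmpty (Fin r) := by rw [hr0]; infer_instance
    have hsub : Subsingleton (κ ⊗[D] G) := by
      refine ⟨fun x y => ?_⟩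
      apply B₂.ext_elem
      intro j
      exact (IsEmpty.false j).elim
    exact not_subsingleton _ hsub

/-- The dimension of the support of a module does not change along a finite ring map. -/
theorem supportDim_eq_of_finite {A B : Type u} [CommRing A] [CommRing B] [Algebra A B]
    [Module.Finite A B] (M : Type u) [AddCommGroup M] [Module B M] [Module A M]
    [IsScalarTower A B M] [Module.Finite B M] :
    Module.supportDim A M = Module.supportDim B M := by
  haveI : Module.Finite A M := Module.Finite.trans B M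
  rw [Module.supportDim_eq_ringKrullDim_quotient_annihilator,
    Module.supportDim_eq_ringKrullDim_quotient_annihilator]
  have h : Module.annihilator A M = (Module.annihilator B M).comap (algebraMap A B) := by
    ext a
    rw [Ideal.mem_comap, Module.mem_annihilator, Module.mem_annihilator]
    exact forall_congr' fun m => by rw [algebraMap_smul]
  rw [h]
  exact Groth.Agent.Lib.Helper29.HLVT.ringKrullDim_quotient_comap_of_isIntegral A B _

theorem supportDim_fiberMod_eq_of_finite {R A B : Type u} [CommRing R] [CommRing A] [CommRing B]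
    [Algebra R A] [Algebra R B] [Algebra A B] [IsScalarTower R A B] [Module.Finite A B]
    (p : Ideal R) [p.IsPrime] (M : Type u) [AddCommGroup M] [Module B M] [Module A M]
    [IsScalarTower A B M] [Module.Finite B M] :
    Module.supportDim (p.Fiber A) (FlatCA.fiberMod p A M) =
      Module.supportDim (p.Fiber B) (FlatCA.fiberMod p B M) := by
  let φ : p.Fiber A →ₐ[p.ResidueField] p.Fiber B :=
    Algebra.TensorProduct.map (AlgHom.id _ _) (IsScalarTower.toAlgHom R A B)
  letI algAkBk : Algebra (p.Fiber A) (p.Fiber B) := φ.toRingHom.toAlgebra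
  letI algABk : Algebra A (p.Fiber B) := ((algebraMap B (p.Fiber B)).comp (algebraMap A B)).toAlgebra
  haveI t1 : IsScalarTower A B (p.Fiber B) := IsScalarTower.of_algebraMap_eq fun a => rfl
  haveI t2 : IsScalarTower A (p.Fiber A) (p.Fiber B) := IsScalarTower.of_algebraMap_eq fun a => by
    change _ = φ ((1 : p.ResidueField) ⊗ₜ[R] a)
    simp only [φ, Algebra.TensorProduct.map_tmul, map_one]
    rfl
  haveI t3 : IsScalarTower p.ResidueField (p.Fiber A) (p.Fiber B) :=
    IsScalarTower.of_algebraMap_eq fun a => (φ.commutes a).symm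
  haveI t4 : IsScalarTower R (p.Fiber A) (p.Fiber B) :=
    IsScalarTower.of_algebraMap_eq (R := R) (S := p.Fiber A) (A := p.Fiber B) fun r => by
      rw [IsScalarTower.algebraMap_apply R p.ResidueField (p.Fiber A),
        ← IsScalarTower.algebraMap_apply p.ResidueField (p.Fiber A) (p.Fiber B),
        ← IsScalarTower.algebraMap_apply R p.ResidueField (p.Fiber B)]
  haveI hpo1 : Algebra.IsPushout R A p.ResidueField (p.Fiber A) := TensorProduct.isPushout'
  haveI hpo2 : Algebra.IsPushout R B p.ResidueField (p.Fiber B) := TensorProduct.isPushout'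
  have hpo3 : Algebra.IsPushout A B (p.Fiber A) (p.Fiber B) :=
    Groth.Agent.Lib.T2H2.FlatAbove.isPushout_right (A := R) (B := A) (C := B)
      (A' := p.ResidueField) (B' := p.Fiber A) (C' := p.Fiber B)
  haveI hpo4 : Algebra.IsPushout A (p.Fiber A) B (p.Fiber B) := hpo3.symm
  -- finiteness
  haveI hfinBk : Module.Finite (p.Fiber A) (p.Fiber B) := by
    have hbc : IsBaseChange (p.Fiber A) (IsScalarTower.toAlgHom A B (p.Fiber B)).toLinearMap :=
      hpo4.out
    exact Module.Finite.equiv hbc.equiv
  haveI t5 : IsScalarTower (p.Fiber A) (p.Fiber B) ((p.Fiber B) ⊗[B] M) := inferInstance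
  haveI t6 : IsScalarTower A (p.Fiber B) ((p.Fiber B) ⊗[B] M) := inferInstance
  haveI t7 : IsScalarTower A B ((p.Fiber B) ⊗[B] M) := inferInstance
  haveI t8 : IsScalarTower A (p.Fiber A) ((p.Fiber B) ⊗[B] M) := inferInstance
  have hbcB : IsBaseChange (p.Fiber B) (TensorProduct.mk B (p.Fiber B) M 1) :=
    TensorProduct.isBaseChange B M (p.Fiber B)
  have hbcA : IsBaseChange (p.Fiber A) ((TensorProduct.mk B (p.Fiber B) M 1).restrictScalars A) :=
    Groth.Agent.Lib.Helper3.FlatLoc.isBaseChange_restrictScalars_of_isPushout (A := A)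
      (R := p.Fiber A) (PA := B) (PR := p.Fiber B) (X := M) (Y := (p.Fiber B) ⊗[B] M) _ hbcB
  let e : (p.Fiber A) ⊗[A] M ≃ₗ[p.Fiber A] (p.Fiber B) ⊗[B] M := hbcA.equiv
  haveI : Module.Finite (p.Fiber B) ((p.Fiber B) ⊗[B] M) := inferInstance
  have h1 : Module.supportDim (p.Fiber A) ((p.Fiber A) ⊗[A] M) =
      Module.supportDim (p.Fiber A) ((p.Fiber B) ⊗[B] M) :=
    Module.supportDim_eq_of_equiv e
  have h2 : Module.supportDim (p.Fiber A) ((p.Fiber B) ⊗[B] M) =
      Module.supportDim (p.Fiber B) ((p.Fiber B) ⊗[B] M) :=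
    supportDim_eq_of_finite (A := p.Fiber A) (B := p.Fiber B) ((p.Fiber B) ⊗[B] M)
  exact h1.trans h2

theorem oneStepDevissage_basis_and_drop {R S : Type u} [CommRing R] [CommRing S] [Algebra R S]
    [Algebra.FiniteType R S]
    (N : Type u) [AddCommGroup N] [Module S N] [Module R N] [IsScalarTower R S N] [Module.Finite S N]
    (p : Ideal R) [p.IsPrime]
    (C D G : Type u) [CommRing C] [CommRing D] [Algebra S C] [Algebra R C] [IsScalarTower R S C]
    [Algebra R D] [Algebra D C] [IsScalarTower R D C] [AddCommGroup G] [Module C G] [Module S G]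
    [IsScalarTower S C G]
    [Module D G] [IsScalarTower D C G] [Module R G] [IsScalarTower R D G]
    (n : ℕ) (h : FlatCA.IsOneStepDevissage R S N p C D G n) [(p.map (algebraMap R D)).IsPrime] :
    (∃ (r : ℕ) (α : (Fin r → D) →ₗ[D] G), 0 < r ∧
      Function.Bijective (α.baseChange (p.map (algebraMap R D)).ResidueField)) ∧
    ∀ (r : ℕ) (α : (Fin r → D) →ₗ[D] G),
      Function.Bijective (α.baseChange (p.map (algebraMap R D)).ResidueField) →
      Module.supportDim (p.Fiber D) (FlatCA.fiberMod p D (G ⧸ LinearMap.range α)) <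
        (n : WithBot ℕ∞) := by
  obtain ⟨⟨eNG⟩, hsurj, hfp, hfinDC, hfinCG, hsm, hirr, hdim⟩ := h
  haveI := hfinDC
  haveI := hfinCG
  haveI : Module.Finite D G := Module.Finite.trans C G
  haveI : Module.Finite S C := Module.Finite.of_surjective (Algebra.linearMap S C) hsurj
  have hA : ringKrullDim (p.Fiber D) ≤ (n : WithBot ℕ∞) :=
    ringKrullDim_fiber_le_of_smoothRelDim n R D hsm p
  have key : ∀ (Q : Type u) [AddCommGroup Q] [Module D Q] [Module.Finite D Q],
      Subsingleton ((p.map (algebraMap R D)).ResidueField ⊗[D] Q) →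
      Module.supportDim (p.Fiber D) (FlatCA.fiberMod p D Q) < (n : WithBot ℕ∞) := by
    intro Q _ _ _ hsub
    unfold Module.supportDim
    exact krullDim_lt_of_generic_not_mem n R D p hA _
      (fun Q' hQ' => comap_ne_of_mem_support_fiberMod R D p Q hsub Q' hQ')
  have hC : Module.supportDim (p.Fiber D) (FlatCA.fiberMod p D G) = (n : WithBot ℕ∞) := by
    rw [supportDim_fiberMod_eq_of_finite (A := D) (B := C) p G,
      ← supportDim_fiberMod_eq_of_finite (A := S) (B := C) p G, ← hdim]
    exact (Module.supportDim_eq_of_equiv (LinearEquiv.baseChange S (p.Fiber S) N G eNG)).symm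
  constructor
  · obtain ⟨r, α, hbij, hpos⟩ :=
      exists_linearMap_baseChange_bijective (D := D) (κ := (p.map (algebraMap R D)).ResidueField) G
    refine ⟨r, α, hpos ?_, hbij⟩
    by_contra hnt
    rw [not_nontrivial_iff_subsingleton] at hnt
    have := key G hnt
    rw [hC] at this
    exact lt_irrefl _ this
  · intro r α hα
    exact key (G ⧸ LinearMap.range α) (subsingleton_tensor_quotient_range α hα.2)

end Groth.Agent.Lib.T2H2.DevStep
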