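import Mathlib

/-!
# A transposition acts by `(-1)^s` on `J^s / J^(s+1)` for the pair-diagonal ideal `J`
(T2 helper2)
-/

namespace Groth.Agent.Lib.T2H2.DiagSwap

open TensorProduct PiTensorProduct

universe u v

variable {k : Type u} [CommRing k] {A : Type v} [CommRing A] [Algebra k A] {n : ℕ}

/-- reindexing as an algebra endomorphism of the tensor power -/
noncomputable def tau (σ : Equiv.Perm (Fin n)) :
    (⨂[k] _ : Fin n, A) →ₐ[k] (⨂[k] _ : Fin n, A) :=
  AlgHom.ofLinearMap (PiTensorProduct.reindex k (fun _ : Fin n => A) σ).toLinearMap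
    (by
      change PiTensorProduct.reindex k (fun _ : Fin n => A) σ (PiTensorProduct.tprod k 1) =
        PiTensorProduct.tprod k 1
      rw [PiTensorProduct.reindex_tprod]
      rfl)
    ((LinearMap.map_mul_iff _).mpr (by
      ext x y
      change PiTensorProduct.reindex k (fun _ : Fin n => A) σ
          (PiTensorProduct.tprod k x * PiTensorProduct.tprod k y) =
        PiTensorProduct.reindex k (fun _ : Fin n => A) σ (PiTensorProduct.tprod k x) *
        PiTensorProduct.reindex k (fun _ : Fin n => A) σ (PiTensorProduct.tprod k y)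
      rw [tprod_mul_tprod, PiTensorProduct.reindex_tprod, PiTensorProduct.reindex_tprod,
        PiTensorProduct.reindex_tprod, tprod_mul_tprod]
      rfl))

theorem tau_apply (σ : Equiv.Perm (Fin n)) (x : ⨂[k] _ : Fin n, A) :
    tau (k := k) (A := A) σ x = PiTensorProduct.reindex k (fun _ : Fin n => A) σ x := rfl

theorem tau_single (σ : Equiv.Perm (Fin n)) (l : Fin n) (a : A) :
    tau (k := k) (A := A) σ (singleAlgHom (R := k) (A := fun _ : Fin n => A) l a) =
      singleAlgHom (R := k) (A := fun _ : Fin n => A) (σ l) a := by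
  rw [tau_apply]
  change PiTensorProduct.reindex k (fun _ : Fin n => A) σ
      (PiTensorProduct.tprod k (Pi.mulSingle l a)) =
    PiTensorProduct.tprod k (Pi.mulSingle (σ l) a)
  rw [PiTensorProduct.reindex_tprod]
  congr 1
  funext t
  by_cases h : t = σ l
  · subst h
    simp
  · have h' : σ.symm t ≠ l := by
      intro h2
      apply h
      rw [← h2]
      simp
    rw [Pi.mulSingle_eq_of_ne h, Pi.mulSingle_eq_of_ne h']

section abstract

variable {R : Type*} [CommRing R] (τ : R →+* R) {ι : Type*} (g : ι → R)

theorem add_mem_sq (hg : ∀ a, τ (g a) = - g a)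
    (hτ : ∀ r, τ r - r ∈ Ideal.span (Set.range g)) :
    ∀ b ∈ Ideal.span (Set.range g), τ b + b ∈ (Ideal.span (Set.range g)) ^ 2 := by
  intro b hb
  induction hb using Submodule.span_induction with
  | mem x hx =>
    obtain ⟨a, rfl⟩ := hx
    rw [hg a, neg_add_cancel]
    exact Submodule.zero_mem _
  | zero => simp
  | add x y _ _ hx hy =>
    have : τ (x + y) + (x + y) = (τ x + x) + (τ y + y) := by rw [map_add]; ring
    rw [this]
    exact Submodule.add_mem _ hx hy
  | smul r x hx ih =>
    have : τ (r • x) + r • x = τ r * (τ x + x) - (τ r - r) * x := by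
      rw [smul_eq_mul, map_mul]; ring
    rw [this]
    refine Submodule.sub_mem _ (Ideal.mul_mem_left _ _ ih) ?_
    rw [pow_two]
    exact Ideal.mul_mem_mul (hτ r) hx

theorem map_mem (hg : ∀ a, τ (g a) = - g a)
    (hτ : ∀ r, τ r - r ∈ Ideal.span (Set.range g)) :
    ∀ b ∈ Ideal.span (Set.range g), τ b ∈ Ideal.span (Set.range g) := by
  intro b hb
  have h1 := add_mem_sq τ g hg hτ b hb
  have h2 : τ b = (τ b + b) - b := by ring
  rw [h2]
  exact Submodule.sub_mem _ (Ideal.pow_le_self (by norm_num) h1) hb

theorem sub_sign_mem (hg : ∀ a, τ (g a) = - g a)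
    (hτ : ∀ r, τ r - r ∈ Ideal.span (Set.range g)) (s : ℕ) :
    ∀ y ∈ (Ideal.span (Set.range g)) ^ s,
      τ y - (-1) ^ s * y ∈ (Ideal.span (Set.range g)) ^ (s + 1) := by
  induction s with
  | zero =>
    intro y _
    simpa using hτ y
  | succ s ih =>
    intro y hy
    rw [pow_succ] at hy
    refine Submodule.mul_induction_on hy ?_ ?_
    · intro a ha b hb
      have key : τ (a * b) - (-1) ^ (s + 1) * (a * b) =
          (τ a - (-1) ^ s * a) * τ b + (-1) ^ s * (a * (τ b + b)) := by
        rw [map_mul, pow_succ]; ring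
      rw [key]
      refine Submodule.add_mem _ ?_ ?_
      · rw [pow_succ (Ideal.span (Set.range g)) (s + 1)]
        exact Ideal.mul_mem_mul (ih a ha) (map_mem τ g hg hτ b hb)
      · apply Ideal.mul_mem_left
        have : (Ideal.span (Set.range g)) ^ (s + 1 + 1) =
            (Ideal.span (Set.range g)) ^ s * (Ideal.span (Set.range g)) ^ 2 := by
          rw [← pow_add]
        rw [this]
        exact Ideal.mul_mem_mul ha (add_mem_sq τ g hg hτ b hb)
    · intro x y hx hy
      have : τ (x + y) - (-1) ^ (s + 1) * (x + y) =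
          (τ x - (-1) ^ (s + 1) * x) + (τ y - (-1) ^ (s + 1) * y) := by
        rw [map_add]; ring
      rw [this]
      exact Submodule.add_mem _ hx hy

end abstract

section concrete

variable (k A) in
/-- the generators of the pair-diagonal ideal -/
noncomputable def gen (i j : Fin n) (a : A) : ⨂[k] _ : Fin n, A :=
  singleAlgHom (R := k) (A := fun _ : Fin n => A) i a -
    singleAlgHom (R := k) (A := fun _ : Fin n => A) j a

theorem tau_gen (i j : Fin n) (a : A) :
    tau (k := k) (A := A) (Equiv.swap i j) (gen k A i j a) = - gen k A i j a := by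
  unfold gen
  rw [map_sub, tau_single, tau_single, Equiv.swap_apply_left, Equiv.swap_apply_right]
  ring

theorem tau_sub_mem (i j : Fin n) (r : ⨂[k] _ : Fin n, A) :
    tau (k := k) (A := A) (Equiv.swap i j) r - r ∈ Ideal.span (Set.range (gen k A i j)) := by
  set J := Ideal.span (Set.range (gen k A i j)) with hJ
  have hgen : ∀ a, gen k A i j a ∈ J := fun a => Ideal.subset_span ⟨a, rfl⟩
  let π : (⨂[k] _ : Fin n, A) →ₐ[k] ((⨂[k] _ : Fin n, A) ⧸ J) := Ideal.Quotient.mkₐ k J
  have heq : π.comp (tau (k := k) (A := A) (Equiv.swap i j)) = π := by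
    apply PiTensorProduct.algHom_ext
    intro l
    ext a
    simp only [AlgHom.comp_apply]
    rw [tau_single]
    change Ideal.Quotient.mk J _ = Ideal.Quotient.mk J _
    rw [Ideal.Quotient.eq]
    by_cases hi : l = i
    · subst hi
      rw [Equiv.swap_apply_left]
      have := hgen a
      have h2 : singleAlgHom (R := k) (A := fun _ : Fin n => A) j a -
          singleAlgHom (R := k) (A := fun _ : Fin n => A) l a = - gen k A l j a := by
        unfold gen; ring
      rw [h2]
      exact Submodule.neg_mem _ this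
    · by_cases hj : l = j
      · subst hj
        rw [Equiv.swap_apply_right]
        exact hgen a
      · rw [Equiv.swap_apply_of_ne_of_ne hi hj, sub_self]
        exact Submodule.zero_mem _
  have := DFunLike.congr_fun heq r
  simp only [AlgHom.comp_apply] at this
  change Ideal.Quotient.mk J _ = Ideal.Quotient.mk J _ at this
  rwa [Ideal.Quotient.eq] at this

/-- an element of an odd power `J^s` fixed by the transposition lies in `J^(s+1)`, when `2` is
invertible. -/
theorem mem_pow_succ_of_fixed (h2 : IsUnit (2 : k)) (i j : Fin n) (s : ℕ) (hs : Odd s)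
    (x : ⨂[k] _ : Fin n, A)
    (hfix : PiTensorProduct.reindex k (fun _ : Fin n => A) (Equiv.swap i j) x = x)
    (hx : x ∈ (Ideal.span (Set.range (gen k A i j))) ^ s) :
    x ∈ (Ideal.span (Set.range (gen k A i j))) ^ (s + 1) := by
  have h := sub_sign_mem (tau (k := k) (A := A) (Equiv.swap i j)).toRingHom (gen k A i j)
    (fun a => tau_gen i j a) (fun r => tau_sub_mem i j r) s x hx
  have h3 : (tau (k := k) (A := A) (Equiv.swap i j)).toRingHom x = x := hfix
  rw [h3, hs.neg_one_pow] at h
  have h4 : x - -1 * x = (2 : k) • x := by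
    rw [two_smul]; ring
  rw [h4] at h
  obtain ⟨u, hu⟩ := h2
  have h5 : x = (↑u⁻¹ : k) • ((2 : k) • x) := by
    rw [smul_smul, ← hu, Units.inv_mul, one_smul]
  rw [h5]
  exact Submodule.smul_of_tower_mem _ _ h

end concrete

end Groth.Agent.Lib.T2H2.DiagSwap
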