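import Mathlib

/-!
# Invariants of the big diagonal on the symmetric cube: the algebra

For a commutative algebra `A` over a field `k` in which `6` is invertible we study the restriction
`r : A ⊗ A ⊗ A → A ⊗ A`, `a ⊗ b ⊗ c ↦ ab ⊗ c` on symmetric tensors.
-/

set_option autoImplicit false

open TensorProduct

namespace Groth.Agent.Lib.T2H2.DiagSym3

universe u v

variable (k : Type u) [Field k] (A : Type v) [CommRing A] [Algebra k A]

/-- `a ↦ a ⊗ 1`. -/
noncomputable abbrev L : A →ₐ[k] A ⊗[k] A := Algebra.TensorProduct.includeLeft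
/-- `a ↦ 1 ⊗ a`. -/
noncomputable abbrev Rr : A →ₐ[k] A ⊗[k] A := Algebra.TensorProduct.includeRight

/-- `s a = 2 a ⊗ 1 + 1 ⊗ a`. -/
noncomputable def s (a : A) : A ⊗[k] A := 2 * L k A a + Rr k A a

/-- `u a = 1 ⊗ a - a ⊗ 1`. -/
noncomputable def uu (a : A) : A ⊗[k] A := Rr k A a - L k A a

/-- The subalgebra generated by the `s a`. -/
noncomputable def S' : Subalgebra k (A ⊗[k] A) := Algebra.adjoin k (Set.range (s k A))

variable {k A}

theorem s_mem (a : A) : s k A a ∈ S' k A := Algebra.subset_adjoin ⟨a, rfl⟩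

theorem half_mem (h2 : (2 : k) ≠ 0) {x : A ⊗[k] A} (hx : 2 * x ∈ S' k A) : x ∈ S' k A := by
  have : x = (2 : k)⁻¹ • (2 * x) := by
    rw [two_mul, smul_add, ← two_smul k ((2 : k)⁻¹ • x), smul_smul, mul_inv_cancel₀ h2, one_smul]
  rw [this]
  exact (S' k A).smul_mem hx _

theorem third_mem (h3 : (3 : k) ≠ 0) {x : A ⊗[k] A} (hx : 3 * x ∈ S' k A) : x ∈ S' k A := by
  have : x = (3 : k)⁻¹ • (3 * x) := by
    have h : (3 : A ⊗[k] A) * x = (3 : k) • x := by
      rw [Algebra.smul_def, map_ofNat]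
    rw [h, smul_smul, inv_mul_cancel₀ h3, one_smul]
  rw [this]
  exact (S' k A).smul_mem hx _

theorem uu_mul_mem (h2 : (2 : k) ≠ 0) (a b : A) : uu k A a * uu k A b ∈ S' k A := by
  apply half_mem h2
  have : 2 * (uu k A a * uu k A b) = 3 * s k A (a * b) - s k A a * s k A b := by
    simp only [uu, s, map_mul]; ring
  rw [this]
  exact sub_mem (mul_mem (by
    have : (3 : A ⊗[k] A) = algebraMap k _ 3 := (map_ofNat _ 3).symm
    rw [this]; exact (S' k A).algebraMap_mem _) (s_mem _)) (mul_mem (s_mem _) (s_mem _))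

theorem natCast_mem (n : ℕ) : (n : A ⊗[k] A) ∈ S' k A := by
  have : (n : A ⊗[k] A) = algebraMap k _ n := (map_natCast _ n).symm
  rw [this]; exact (S' k A).algebraMap_mem _

theorem uu_mul_mul_mem (h2 : (2 : k) ≠ 0) (a b c : A) :
    uu k A a * uu k A b * uu k A c ∈ S' k A := by
  apply half_mem h2
  have : 2 * (uu k A a * uu k A b * uu k A c) =
      2 * (s k A a * s k A b * s k A c)
        - 3 * (s k A (a * b) * s k A c + s k A (a * c) * s k A b + s k A (b * c) * s k A a)
        + 9 * s k A (a * b * c) := by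
    simp only [uu, s, map_mul]; ring
  rw [this]
  have h2' : (2 : A ⊗[k] A) ∈ S' k A := by exact_mod_cast natCast_mem (k := k) (A := A) 2
  have h3' : (3 : A ⊗[k] A) ∈ S' k A := by exact_mod_cast natCast_mem (k := k) (A := A) 3
  have h9' : (9 : A ⊗[k] A) ∈ S' k A := by exact_mod_cast natCast_mem (k := k) (A := A) 9
  exact add_mem (sub_mem (mul_mem h2' (mul_mem (mul_mem (s_mem _) (s_mem _)) (s_mem _)))
    (mul_mem h3' (add_mem (add_mem (mul_mem (s_mem _) (s_mem _)) (mul_mem (s_mem _) (s_mem _)))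
      (mul_mem (s_mem _) (s_mem _))))) (mul_mem h9' (s_mem _))

theorem L_mul_mem (h3 : (3 : k) ≠ 0) (c : A) {w : A ⊗[k] A} (hw : w ∈ S' k A)
    (hw' : uu k A c * w ∈ S' k A) : L k A c * w ∈ S' k A := by
  apply third_mem h3
  have : 3 * (L k A c * w) = s k A c * w - uu k A c * w := by
    simp only [uu, s]; ring
  rw [this]
  exact sub_mem (mul_mem (s_mem _) hw) hw'

/-- `y * (u a * u b) ∈ S'` for all `y`. -/
theorem mul_uu_mul_mem (h2 : (2 : k) ≠ 0) (h3 : (3 : k) ≠ 0) (y : A ⊗[k] A) (a b : A) :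
    y * (uu k A a * uu k A b) ∈ S' k A := by
  induction y using TensorProduct.induction_on with
  | zero => rw [zero_mul]; exact zero_mem _
  | add y z hy hz => rw [add_mul]; exact add_mem hy hz
  | tmul c e =>
    have hce : c ⊗ₜ[k] e = L k A (c * e) + L k A c * uu k A e := by
      simp only [uu, L, Rr, Algebra.TensorProduct.includeLeft_apply,
        Algebra.TensorProduct.includeRight_apply, mul_sub, Algebra.TensorProduct.tmul_mul_tmul,
        mul_one, one_mul]
      abel
    rw [hce, add_mul]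
    refine add_mem ?_ ?_
    · refine L_mul_mem h3 _ (uu_mul_mem h2 a b) ?_
      have := uu_mul_mul_mem h2 (c * e) a b
      rwa [mul_assoc] at this
    · rw [mul_assoc]
      refine L_mul_mem h3 _ ?_ ?_
      · have := uu_mul_mul_mem h2 e a b
        rwa [mul_assoc] at this
      · have := mul_mem (uu_mul_mem h2 c e) (uu_mul_mem h2 a b)
        rwa [mul_assoc] at this

theorem ideal_sq_le (h2 : (2 : k) ≠ 0) (h3 : (3 : k) ≠ 0) {z : A ⊗[k] A}
    (hz : z ∈ KaehlerDifferential.ideal k A ^ 2) : z ∈ S' k A := by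
  have hI : KaehlerDifferential.ideal k A = Ideal.span (Set.range (uu k A)) :=
    (KaehlerDifferential.span_range_eq_ideal k A).symm
  rw [hI, pow_two, Ideal.span_mul_span'] at hz
  have key : ∀ y : A ⊗[k] A, y * z ∈ S' k A := by
    induction hz using Submodule.span_induction with
    | mem x hx =>
      obtain ⟨_, ⟨a, rfl⟩, _, ⟨b, rfl⟩, rfl⟩ := hx
      intro y
      exact mul_uu_mul_mem h2 h3 y a b
    | zero => intro y; rw [mul_zero]; exact zero_mem _
    | add x y _ _ hx hy => intro w; rw [mul_add]; exact add_mem (hx w) (hy w)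
    | smul t x _ hx => intro w; rw [smul_eq_mul, ← mul_assoc]; exact hx _
  simpa using key 1

/-! ### The restriction map and the invariants -/

variable (k A)

/-- `a ⊗ (b ⊗ c) ↦ ab ⊗ c` as an algebra map. -/
noncomputable def rA : A ⊗[k] (A ⊗[k] A) →ₐ[k] A ⊗[k] A :=
  Algebra.TensorProduct.productMap (L k A) (AlgHom.id k (A ⊗[k] A))

/-- Swap of the first two factors. -/
noncomputable def τ₁ : A ⊗[k] (A ⊗[k] A) →ₐ[k] A ⊗[k] (A ⊗[k] A) :=
  (Algebra.TensorProduct.leftComm k A A A).toAlgHom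

/-- Swap of the last two factors. -/
noncomputable def τ₂ : A ⊗[k] (A ⊗[k] A) →ₐ[k] A ⊗[k] (A ⊗[k] A) :=
  Algebra.TensorProduct.map (AlgHom.id k A) (Algebra.TensorProduct.comm k A A).toAlgHom

/-- The subalgebra of symmetric tensors. -/
noncomputable def Inv : Subalgebra k (A ⊗[k] (A ⊗[k] A)) :=
  AlgHom.equalizer (τ₁ k A) (AlgHom.id k _) ⊓ AlgHom.equalizer (τ₂ k A) (AlgHom.id k _)

variable {k A}

@[simp] theorem rA_tmul (a b c : A) : rA k A (a ⊗ₜ[k] (b ⊗ₜ[k] c)) = (a * b) ⊗ₜ[k] c := by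
  simp [rA, Algebra.TensorProduct.productMap_apply_tmul, Algebra.TensorProduct.tmul_mul_tmul]

@[simp] theorem τ₁_tmul (a b c : A) : τ₁ k A (a ⊗ₜ[k] (b ⊗ₜ[k] c)) = b ⊗ₜ[k] (a ⊗ₜ[k] c) := rfl

@[simp] theorem τ₂_tmul (a b c : A) : τ₂ k A (a ⊗ₜ[k] (b ⊗ₜ[k] c)) = a ⊗ₜ[k] (c ⊗ₜ[k] b) := rfl

theorem τ₁_apply (x : A ⊗[k] (A ⊗[k] A)) : τ₁ k A x = TensorProduct.leftComm k A A A x := by
  induction x using TensorProduct.induction_on with
  | zero => simp
  | add x y hx hy => rw [map_add, map_add, hx, hy]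
  | tmul a y =>
    induction y using TensorProduct.induction_on with
    | zero => simp
    | add y z hy hz => rw [TensorProduct.tmul_add, map_add, map_add, hy, hz]
    | tmul b c => rfl

theorem τ₂_apply (x : A ⊗[k] (A ⊗[k] A)) :
    τ₂ k A x = LinearMap.lTensor A (TensorProduct.comm k A A).toLinearMap x := by
  induction x using TensorProduct.induction_on with
  | zero => simp
  | add x y hx hy => rw [map_add, map_add, hx, hy]
  | tmul a y =>
    induction y using TensorProduct.induction_on with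
    | zero => simp
    | add y z hy hz => rw [TensorProduct.tmul_add, map_add, map_add, hy, hz]
    | tmul b c => rfl

/-- The power sum `a ⊗ 1 ⊗ 1 + 1 ⊗ a ⊗ 1 + 1 ⊗ 1 ⊗ a`. -/
noncomputable def pw (a : A) : A ⊗[k] (A ⊗[k] A) :=
  a ⊗ₜ[k] ((1 : A) ⊗ₜ[k] (1 : A)) + (1 : A) ⊗ₜ[k] (a ⊗ₜ[k] (1 : A)) +
    (1 : A) ⊗ₜ[k] ((1 : A) ⊗ₜ[k] a)

theorem pw_mem (a : A) : pw (k := k) a ∈ Inv k A := by
  refine ⟨?_, ?_⟩
  · change τ₁ k A (pw a) = pw a
    simp only [pw, map_add, τ₁_tmul]
    abel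
  · change τ₂ k A (pw a) = pw a
    simp only [pw, map_add, τ₂_tmul]
    abel

theorem rA_pw (a : A) : rA k A (pw a) = s k A a := by
  simp only [pw, map_add, rA_tmul, s, L, Rr, Algebra.TensorProduct.includeLeft_apply,
    Algebra.TensorProduct.includeRight_apply, mul_one, one_mul]
  rw [two_mul]

theorem S'_le : S' k A ≤ (Inv k A).map (rA k A) := by
  refine Algebra.adjoin_le ?_
  rintro _ ⟨a, rfl⟩
  exact ⟨pw a, pw_mem a, rA_pw a⟩

/-! ### The differential operator `D` -/

section D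

variable (D : A ⊗[k] A →ₗ[k] Ω[A⁄k])
  (hD : ∀ a b : A, D (a ⊗ₜ[k] b) =
    (2 : A) • (a • KaehlerDifferential.D k A b) - b • KaehlerDifferential.D k A a)

include hD

theorem D_eq (y : A ⊗[k] A) :
    D y = 3 • (KaehlerDifferential.D k A).tensorProductTo y -
      KaehlerDifferential.D k A (Algebra.TensorProduct.lmul' k y) := by
  induction y using TensorProduct.induction_on with
  | zero => simp
  | add y z hy hz => rw [map_add, map_add, map_add, map_add, hy, hz, smul_add]; abel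
  | tmul a b =>
    rw [hD, Derivation.tensorProductTo_tmul, Algebra.TensorProduct.lmul'_apply_tmul, Derivation.leibniz]
    module

theorem mem_S'_of_D_eq_zero (h2 : (2 : k) ≠ 0) (h3 : (3 : k) ≠ 0) (y : A ⊗[k] A) (hy : D y = 0) :
    y ∈ S' k A := by
  set a : A := Algebra.TensorProduct.lmul' k y with ha
  set y₁ : A ⊗[k] A := 3 • y - s k A a with hy₁
  have hs : s k A a = a ⊗ₜ[k] (1 : A) + a ⊗ₜ[k] (1 : A) + (1 : A) ⊗ₜ[k] a := by
    simp only [s, L, Rr, Algebra.TensorProduct.includeLeft_apply,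
      Algebra.TensorProduct.includeRight_apply, two_mul]
  have hm : Algebra.TensorProduct.lmul' k y₁ = 0 := by
    rw [hy₁, map_sub, map_nsmul, hs, map_add, map_add, Algebra.TensorProduct.lmul'_apply_tmul,
      Algebra.TensorProduct.lmul'_apply_tmul, ← ha]
    simp only [mul_one, one_mul]
    rw [succ_nsmul, succ_nsmul, one_nsmul]
    abel
  have hmem : y₁ ∈ KaehlerDifferential.ideal k A := hm
  have hD₁ : (KaehlerDifferential.D k A).tensorProductTo y₁ = 0 := by
    have h := D_eq D hD y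
    rw [hy, ← ha] at h
    rw [hy₁, map_sub, map_nsmul, hs, map_add, map_add, Derivation.tensorProductTo_tmul,
      Derivation.tensorProductTo_tmul, Derivation.map_one_eq_zero, smul_zero, add_zero, zero_add,
      one_smul]
    exact h.symm
  have hcot : (KaehlerDifferential.ideal k A).toCotangent ⟨y₁, hmem⟩ = 0 := by
    rw [← KaehlerDifferential.D_tensorProductTo]
    exact hD₁
  rw [Ideal.toCotangent_eq_zero] at hcot
  have h1 : y₁ ∈ S' k A := ideal_sq_le h2 h3 hcot
  apply third_mem h3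
  have : 3 * y = y₁ + s k A a := by
    rw [hy₁, nsmul_eq_mul]; simp
  rw [this]
  exact add_mem h1 (s_mem _)

/-- Sum over the six permutations. -/
noncomputable def sym6 (x : A ⊗[k] (A ⊗[k] A)) : A ⊗[k] (A ⊗[k] A) :=
  x + τ₁ k A x + τ₂ k A x + τ₁ k A (τ₂ k A x) + τ₂ k A (τ₁ k A x) + τ₁ k A (τ₂ k A (τ₁ k A x))

omit hD in
theorem sym6_add (x y : A ⊗[k] (A ⊗[k] A)) : sym6 (x + y) = sym6 x + sym6 y := by
  simp only [sym6, map_add]; abel

theorem D_rA_sym6 (x : A ⊗[k] (A ⊗[k] A)) : D (rA k A (sym6 x)) = 0 := by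
  induction x using TensorProduct.induction_on with
  | zero => simp [sym6]
  | add x y hx hy => rw [sym6_add, map_add, map_add, hx, hy, add_zero]
  | tmul a y =>
    induction y using TensorProduct.induction_on with
    | zero => simp [sym6]
    | add y z hy hz =>
      rw [TensorProduct.tmul_add, sym6_add, map_add, map_add, hy, hz, add_zero]
    | tmul b c =>
      simp only [sym6, τ₁_tmul, τ₂_tmul, map_add, rA_tmul, hD, Derivation.leibniz]
      module

theorem D_rA_eq_zero_of_inv (h6 : (6 : k) ≠ 0) (x : A ⊗[k] (A ⊗[k] A))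
    (h₁ : τ₁ k A x = x) (h₂ : τ₂ k A x = x) : D (rA k A x) = 0 := by
  have h := D_rA_sym6 D hD x
  have hx : sym6 x = (6 : k) • x := by
    simp only [sym6, h₁, h₂]
    rw [show (6 : k) = 1 + 1 + 1 + 1 + 1 + 1 by norm_num]
    simp only [add_smul, one_smul]
  rw [hx, map_smul, map_smul] at h
  exact (smul_eq_zero.mp h).resolve_left h6

theorem D_surjective (h3 : (3 : k) ≠ 0) : Function.Surjective D := by
  intro ω
  have hω : ω ∈ Submodule.span A (Set.range (KaehlerDifferential.D k A)) := by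
    rw [KaehlerDifferential.span_range_derivation]; trivial
  have key : ∀ a : A, a • ω ∈ LinearMap.range D := by
    induction hω using Submodule.span_induction with
    | mem x hx =>
      obtain ⟨b, rfl⟩ := hx
      intro a
      refine ⟨(3 : k)⁻¹ • (2 • (a ⊗ₜ[k] b) + b ⊗ₜ[k] a), ?_⟩
      rw [map_smul, map_add, map_nsmul, hD, hD]
      have : (2 • ((2 : A) • a • (KaehlerDifferential.D k A) b - b • (KaehlerDifferential.D k A) a) +
          ((2 : A) • b • (KaehlerDifferential.D k A) a - a • (KaehlerDifferential.D k A) b))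
          = (3 : k) • (a • KaehlerDifferential.D k A b) := by
        rw [show (3 : k) • (a • KaehlerDifferential.D k A b) =
          (3 : ℕ) • (a • KaehlerDifferential.D k A b) from by
            rw [← Nat.cast_smul_eq_nsmul k]; norm_num]
        module
      rw [this, smul_smul, inv_mul_cancel₀ h3, one_smul]
    | zero => intro a; rw [smul_zero]; exact zero_mem _
    | add x y _ _ hx hy => intro a; rw [smul_add]; exact add_mem (hx a) (hy a)
    | smul t x _ hx => intro a; rw [smul_smul]; exact hx _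
  simpa using key 1

end D

/-! ### Invariants under one transposition: pairs of restrictions -/

section Pair

variable (k A)

/-- `a ⊗ (u ⊗ v) ↦ uv ⊗ a` as an algebra map. -/
noncomputable def rB : A ⊗[k] (A ⊗[k] A) →ₐ[k] A ⊗[k] A :=
  Algebra.TensorProduct.productMap (Rr k A) ((L k A).comp (Algebra.TensorProduct.lmul' k))

/-- Both restrictions. -/
noncomputable def ρ : A ⊗[k] (A ⊗[k] A) →ₐ[k] (A ⊗[k] A) × (A ⊗[k] A) :=
  (rA k A).prod (rB k A)

/-- `α a = (a ⊗ 1, 1 ⊗ a)`. -/
noncomputable def α (a : A) : (A ⊗[k] A) × (A ⊗[k] A) := (L k A a, Rr k A a)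

/-- `β u = (u ⊗ 1 + 1 ⊗ u, 2 u ⊗ 1)`. -/
noncomputable def β (a : A) : (A ⊗[k] A) × (A ⊗[k] A) := (L k A a + Rr k A a, 2 * L k A a)

/-- `γ u = β u - 2 α u = (u_u, -2 u_u)`. -/
noncomputable def γ (a : A) : (A ⊗[k] A) × (A ⊗[k] A) := (uu k A a, -2 * uu k A a)

/-- The subalgebra generated by the `α a` and `β a`. -/
noncomputable def S₂ : Subalgebra k ((A ⊗[k] A) × (A ⊗[k] A)) :=
  Algebra.adjoin k (Set.range (α k A) ∪ Set.range (β k A))

/-- The subalgebra of tensors invariant under the swap of the last two factors. -/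
noncomputable def Inv₂ : Subalgebra k (A ⊗[k] (A ⊗[k] A)) :=
  AlgHom.equalizer (τ₂ k A) (AlgHom.id k _)

variable {k A}

@[simp] theorem rB_tmul (a b c : A) : rB k A (a ⊗ₜ[k] (b ⊗ₜ[k] c)) = (b * c) ⊗ₜ[k] a := by
  simp [rB, Algebra.TensorProduct.productMap_apply_tmul, Algebra.TensorProduct.tmul_mul_tmul]

theorem α_mem (a : A) : α k A a ∈ S₂ k A := Algebra.subset_adjoin (Or.inl ⟨a, rfl⟩)

theorem β_mem (a : A) : β k A a ∈ S₂ k A := Algebra.subset_adjoin (Or.inr ⟨a, rfl⟩)

theorem natCast_mem₂ (n : ℕ) : (n : (A ⊗[k] A) × (A ⊗[k] A)) ∈ S₂ k A := by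
  have : (n : (A ⊗[k] A) × (A ⊗[k] A)) = algebraMap k _ n := (map_natCast _ n).symm
  rw [this]; exact (S₂ k A).algebraMap_mem _

theorem γ_mem (a : A) : γ k A a ∈ S₂ k A := by
  have : γ k A a = β k A a - 2 * α k A a := by
    ext
    · simp only [γ, β, α, uu, Prod.fst_sub, Prod.fst_mul]
      change _ = _ - (2 : A ⊗[k] A) * _
      ring
    · simp only [γ, β, α, uu, Prod.snd_sub, Prod.snd_mul]
      change _ = _ - (2 : A ⊗[k] A) * _
      ring
  rw [this]
  exact sub_mem (β_mem a) (mul_mem (by exact_mod_cast natCast_mem₂ (k := k) (A := A) 2) (α_mem a))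

theorem half_mem₂ (h2 : (2 : k) ≠ 0) {x : (A ⊗[k] A) × (A ⊗[k] A)} (hx : 2 * x ∈ S₂ k A) :
    x ∈ S₂ k A := by
  have : x = (2 : k)⁻¹ • (2 * x) := by
    rw [two_mul, smul_add, ← two_smul k ((2 : k)⁻¹ • x), smul_smul, mul_inv_cancel₀ h2, one_smul]
  rw [this]
  exact (S₂ k A).smul_mem hx _

theorem zero_uu_mul_mem (h2 : (2 : k) ≠ 0) (a b : A) :
    ((0 : A ⊗[k] A), uu k A a * uu k A b) ∈ S₂ k A := by
  apply half_mem₂ h2
  have : 2 * ((0 : A ⊗[k] A), uu k A a * uu k A b) =
      (β k A a * β k A b - β k A (a * b) - 2 * α k A (a * b)) -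
        (α k A a * γ k A b + α k A b * γ k A a) := by
    ext
    · simp only [γ, β, α, uu, Prod.fst_sub, Prod.fst_mul, Prod.fst_add, map_mul]
      change (2 : A ⊗[k] A) * 0 = _ - (2 : A ⊗[k] A) * _ - _
      ring
    · simp only [γ, β, α, uu, Prod.snd_sub, Prod.snd_mul, Prod.snd_add, map_mul]
      change (2 : A ⊗[k] A) * _ = _ - (2 : A ⊗[k] A) * _ - _
      ring
  rw [this]
  have h2' : (2 : (A ⊗[k] A) × (A ⊗[k] A)) ∈ S₂ k A := by
    exact_mod_cast natCast_mem₂ (k := k) (A := A) 2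
  exact sub_mem (sub_mem (sub_mem (mul_mem (β_mem _) (β_mem _)) (β_mem _))
    (mul_mem h2' (α_mem _))) (add_mem (mul_mem (α_mem _) (γ_mem _)) (mul_mem (α_mem _) (γ_mem _)))

theorem uu_mul_zero_mem (h2 : (2 : k) ≠ 0) (a b : A) :
    (uu k A a * uu k A b, (0 : A ⊗[k] A)) ∈ S₂ k A := by
  have : (uu k A a * uu k A b, (0 : A ⊗[k] A)) =
      γ k A a * γ k A b - 4 * ((0 : A ⊗[k] A), uu k A a * uu k A b) := by
    ext
    · simp only [γ, Prod.fst_sub, Prod.fst_mul]
      change _ = _ - (4 : A ⊗[k] A) * 0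
      ring
    · simp only [γ, Prod.snd_sub, Prod.snd_mul]
      change _ = _ - (4 : A ⊗[k] A) * _
      ring
  rw [this]
  exact sub_mem (mul_mem (γ_mem _) (γ_mem _))
    (mul_mem (by exact_mod_cast natCast_mem₂ (k := k) (A := A) 4) (zero_uu_mul_mem h2 a b))

/-- The set of `w` with `(0, w) ∈ S₂` is an ideal. -/
theorem zero_mul_mem (h2 : (2 : k) ≠ 0) (y : A ⊗[k] A) {w : A ⊗[k] A}
    (hw : ((0 : A ⊗[k] A), w) ∈ S₂ k A) : ((0 : A ⊗[k] A), y * w) ∈ S₂ k A := by
  have hR : ∀ (e : A) (w : A ⊗[k] A), ((0 : A ⊗[k] A), w) ∈ S₂ k A →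
      ((0 : A ⊗[k] A), Rr k A e * w) ∈ S₂ k A := by
    intro e w hw
    have : ((0 : A ⊗[k] A), Rr k A e * w) = α k A e * ((0 : A ⊗[k] A), w) := by
      ext <;> simp [α]
    rw [this]; exact mul_mem (α_mem _) hw
  have hu : ∀ (e : A) (w : A ⊗[k] A), ((0 : A ⊗[k] A), w) ∈ S₂ k A →
      ((0 : A ⊗[k] A), uu k A e * w) ∈ S₂ k A := by
    intro e w hw
    apply half_mem₂ h2
    have : 2 * ((0 : A ⊗[k] A), uu k A e * w) = - (γ k A e * ((0 : A ⊗[k] A), w)) := by
      ext
      · simp only [γ, Prod.fst_neg, Prod.fst_mul]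
        change (2 : A ⊗[k] A) * 0 = _
        ring
      · simp only [γ, Prod.snd_neg, Prod.snd_mul]
        change (2 : A ⊗[k] A) * _ = _
        ring
    rw [this]; exact neg_mem (mul_mem (γ_mem _) hw)
  have hL : ∀ (e : A) (w : A ⊗[k] A), ((0 : A ⊗[k] A), w) ∈ S₂ k A →
      ((0 : A ⊗[k] A), L k A e * w) ∈ S₂ k A := by
    intro e w hw
    have : ((0 : A ⊗[k] A), L k A e * w) =
        ((0 : A ⊗[k] A), Rr k A e * w) - ((0 : A ⊗[k] A), uu k A e * w) := by
      ext
      · simp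
      · simp only [uu, Prod.snd_sub]; ring
    rw [this]; exact sub_mem (hR e w hw) (hu e w hw)
  induction y using TensorProduct.induction_on with
  | zero => rw [zero_mul]; exact zero_mem _
  | add y z hy hz =>
    have : ((0 : A ⊗[k] A), (y + z) * w) = ((0 : A ⊗[k] A), y * w) + ((0 : A ⊗[k] A), z * w) := by
      ext
      · simp
      · simp [add_mul]
    rw [this]; exact add_mem hy hz
  | tmul c e =>
    have : c ⊗ₜ[k] e * w = L k A c * (Rr k A e * w) := by
      rw [← mul_assoc]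
      simp [L, Rr, Algebra.TensorProduct.tmul_mul_tmul]
    rw [this]
    exact hL c _ (hR e _ hw)

/-- The set of `w` with `(w, 0) ∈ S₂` is an ideal. -/
theorem mul_zero_mem (y : A ⊗[k] A) {w : A ⊗[k] A}
    (hw : (w, (0 : A ⊗[k] A)) ∈ S₂ k A) : (y * w, (0 : A ⊗[k] A)) ∈ S₂ k A := by
  have hL : ∀ (e : A) (w : A ⊗[k] A), (w, (0 : A ⊗[k] A)) ∈ S₂ k A →
      (L k A e * w, (0 : A ⊗[k] A)) ∈ S₂ k A := by
    intro e w hw
    have : (L k A e * w, (0 : A ⊗[k] A)) = α k A e * (w, (0 : A ⊗[k] A)) := by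
      ext <;> simp [α]
    rw [this]; exact mul_mem (α_mem _) hw
  have hu : ∀ (e : A) (w : A ⊗[k] A), (w, (0 : A ⊗[k] A)) ∈ S₂ k A →
      (uu k A e * w, (0 : A ⊗[k] A)) ∈ S₂ k A := by
    intro e w hw
    have : (uu k A e * w, (0 : A ⊗[k] A)) = γ k A e * (w, (0 : A ⊗[k] A)) := by
      ext <;> simp [γ]
    rw [this]; exact mul_mem (γ_mem _) hw
  have hR : ∀ (e : A) (w : A ⊗[k] A), (w, (0 : A ⊗[k] A)) ∈ S₂ k A →
      (Rr k A e * w, (0 : A ⊗[k] A)) ∈ S₂ k A := by
    intro e w hw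
    have : (Rr k A e * w, (0 : A ⊗[k] A)) =
        (L k A e * w, (0 : A ⊗[k] A)) + (uu k A e * w, (0 : A ⊗[k] A)) := by
      ext
      · simp only [uu, Prod.fst_add]; ring
      · simp
    rw [this]; exact add_mem (hL e w hw) (hu e w hw)
  induction y using TensorProduct.induction_on with
  | zero => rw [zero_mul]; exact zero_mem _
  | add y z hy hz =>
    have : ((y + z) * w, (0 : A ⊗[k] A)) = (y * w, (0 : A ⊗[k] A)) + (z * w, (0 : A ⊗[k] A)) := by
      ext
      · simp [add_mul]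
      · simp
    rw [this]; exact add_mem hy hz
  | tmul c e =>
    have : c ⊗ₜ[k] e * w = L k A c * (Rr k A e * w) := by
      rw [← mul_assoc]
      simp [L, Rr, Algebra.TensorProduct.tmul_mul_tmul]
    rw [this]
    exact hL c _ (hR e _ hw)

theorem zero_ideal_sq_mem (h2 : (2 : k) ≠ 0) {z : A ⊗[k] A}
    (hz : z ∈ KaehlerDifferential.ideal k A ^ 2) : ((0 : A ⊗[k] A), z) ∈ S₂ k A := by
  have hI : KaehlerDifferential.ideal k A = Ideal.span (Set.range (uu k A)) :=
    (KaehlerDifferential.span_range_eq_ideal k A).symm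
  rw [hI, pow_two, Ideal.span_mul_span'] at hz
  induction hz using Submodule.span_induction with
  | mem x hx =>
    obtain ⟨_, ⟨a, rfl⟩, _, ⟨b, rfl⟩, rfl⟩ := hx
    exact zero_uu_mul_mem h2 a b
  | zero => exact zero_mem _
  | add x y _ _ hx hy =>
    have : ((0 : A ⊗[k] A), x + y) = ((0 : A ⊗[k] A), x) + ((0 : A ⊗[k] A), y) := by
      ext <;> simp
    rw [this]; exact add_mem hx hy
  | smul t x _ hx => rw [smul_eq_mul]; exact zero_mul_mem h2 t hx

/-- `(z, -2 z) ∈ S₂` for `z` in the diagonal ideal. -/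
theorem ideal_anti_mem (h2 : (2 : k) ≠ 0) {z : A ⊗[k] A}
    (hz : z ∈ KaehlerDifferential.ideal k A) : (z, -2 * z) ∈ S₂ k A := by
  have hz' : z ∈ Submodule.span A (Set.range fun s : A => (1 : A) ⊗ₜ[k] s - s ⊗ₜ[k] (1 : A)) := by
    rw [KaehlerDifferential.submodule_span_range_eq_ideal]; exact hz
  induction hz' using Submodule.span_induction with
  | mem x hx =>
    obtain ⟨b, rfl⟩ := hx
    exact γ_mem b
  | zero =>
    have : ((0 : A ⊗[k] A), -2 * (0 : A ⊗[k] A)) = 0 := by ext <;> simp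
    rw [this]; exact zero_mem _
  | add x y _ _ hx hy =>
    have : (x + y, -2 * (x + y)) = (x, -2 * x) + (y, -2 * y) := by
      ext
      · simp
      · simp [mul_add]
    rw [this]
    exact add_mem (hx (by
      rw [← Submodule.restrictScalars_mem A, ← KaehlerDifferential.submodule_span_range_eq_ideal]
      assumption)) (hy (by
      rw [← Submodule.restrictScalars_mem A, ← KaehlerDifferential.submodule_span_range_eq_ideal]
      assumption))
  | smul c x hx' hx =>
    have hxI : x ∈ KaehlerDifferential.ideal k A := by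
      rw [← Submodule.restrictScalars_mem A, ← KaehlerDifferential.submodule_span_range_eq_ideal]
      exact hx'
    have hcx : c • x = L k A c * x := by
      rw [Algebra.smul_def]; rfl
    have : (c • x, -2 * (c • x)) =
        α k A c * (x, -2 * x) + ((0 : A ⊗[k] A), 2 * (uu k A c * x)) := by
      rw [hcx]
      ext
      · simp [α]
      · simp only [α, uu, Prod.snd_add, Prod.snd_mul]; ring
    rw [this]
    refine add_mem (mul_mem (α_mem _) (hx hxI)) ?_
    have h2x : (2 : A ⊗[k] A) * (uu k A c * x) ∈ KaehlerDifferential.ideal k A ^ 2 := by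
      rw [pow_two]
      refine Ideal.mul_mem_left _ _ (Ideal.mul_mem_mul ?_ hxI)
      exact KaehlerDifferential.one_smul_sub_smul_one_mem_ideal k c
    exact zero_ideal_sq_mem h2 h2x

end Pair

section Psi

variable (ψ : (A ⊗[k] A) × (A ⊗[k] A) →ₗ[k] Ω[A⁄k])
  (hψ : ∀ a u b v : A, ψ (a ⊗ₜ[k] u, b ⊗ₜ[k] v) =
    (2 : A) • (a • KaehlerDifferential.D k A u) - v • KaehlerDifferential.D k A b)

include hψ

theorem ψ_left (p : A ⊗[k] A) :
    ψ (p, 0) = 2 • (KaehlerDifferential.D k A).tensorProductTo p := by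
  induction p using TensorProduct.induction_on with
  | zero =>
    have : ((0 : A ⊗[k] A), (0 : A ⊗[k] A)) = 0 := rfl
    rw [this, map_zero, map_zero, smul_zero]
  | add y z hy hz =>
    have : (y + z, (0 : A ⊗[k] A)) = (y, 0) + (z, 0) := by ext <;> simp
    rw [this, map_add, map_add, hy, hz, smul_add]
  | tmul a u =>
    have h := hψ a u 0 0
    rw [TensorProduct.zero_tmul] at h
    rw [h, Derivation.tensorProductTo_tmul]
    simp only [map_zero, smul_zero, sub_zero]
    rw [ofNat_smul_eq_nsmul]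

theorem ψ_right (q : A ⊗[k] A) :
    ψ (0, q) = (KaehlerDifferential.D k A).tensorProductTo q -
      KaehlerDifferential.D k A (Algebra.TensorProduct.lmul' k q) := by
  induction q using TensorProduct.induction_on with
  | zero =>
    have : ((0 : A ⊗[k] A), (0 : A ⊗[k] A)) = 0 := rfl
    rw [this, map_zero, map_zero, map_zero, map_zero, sub_zero]
  | add y z hy hz =>
    have : ((0 : A ⊗[k] A), y + z) = (0, y) + (0, z) := by ext <;> simp
    rw [this, map_add, map_add, map_add, map_add, hy, hz]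
    abel
  | tmul b v =>
    have h := hψ 0 0 b v
    rw [TensorProduct.zero_tmul] at h
    rw [h, Derivation.tensorProductTo_tmul, Algebra.TensorProduct.lmul'_apply_tmul,
      Derivation.leibniz]
    simp only [map_zero, smul_zero]
    module

theorem ψ_eq (p q : A ⊗[k] A) :
    ψ (p, q) = 2 • (KaehlerDifferential.D k A).tensorProductTo p +
      (KaehlerDifferential.D k A).tensorProductTo q -
      KaehlerDifferential.D k A (Algebra.TensorProduct.lmul' k q) := by
  have : (p, q) = (p, 0) + (0, q) := by ext <;> simp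
  rw [this, map_add, ψ_left ψ hψ, ψ_right ψ hψ]
  abel

theorem mem_S₂_of_ψ_eq_zero (h2 : (2 : k) ≠ 0) (p q : A ⊗[k] A)
    (hm : Algebra.TensorProduct.lmul' k p = Algebra.TensorProduct.lmul' k q)
    (h : ψ (p, q) = 0) : (p, q) ∈ S₂ k A := by
  set a : A := Algebra.TensorProduct.lmul' k p with ha
  set z : A ⊗[k] A := p - L k A a with hz
  set w : A ⊗[k] A := q - Rr k A a with hw
  have hmz : Algebra.TensorProduct.lmul' k z = 0 := by
    rw [hz, map_sub, ← ha]
    simp [L]
  have hmw : Algebra.TensorProduct.lmul' k w = 0 := by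
    rw [hw, map_sub, ← hm]
    simp [Rr]
  set t : A ⊗[k] A := 2 • z + w with ht
  have hmt : t ∈ KaehlerDifferential.ideal k A := by
    change Algebra.TensorProduct.lmul' k t = 0
    rw [ht, map_add, map_nsmul, hmz, hmw, smul_zero, add_zero]
  have hD₁ : (KaehlerDifferential.D k A).tensorProductTo t = 0 := by
    have h' := ψ_eq ψ hψ p q
    rw [h, ← hm] at h'
    have hL : (KaehlerDifferential.D k A).tensorProductTo (L k A a) = 0 := by
      change (KaehlerDifferential.D k A).tensorProductTo (a ⊗ₜ[k] (1 : A)) = 0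
      rw [Derivation.tensorProductTo_tmul, Derivation.map_one_eq_zero, smul_zero]
    have hR : (KaehlerDifferential.D k A).tensorProductTo (Rr k A a) =
        KaehlerDifferential.D k A a := by
      change (KaehlerDifferential.D k A).tensorProductTo ((1 : A) ⊗ₜ[k] a) = _
      rw [Derivation.tensorProductTo_tmul, one_smul]
    rw [ht, map_add, map_nsmul, hz, hw, map_sub, map_sub, hL, hR, sub_zero]
    rw [h']
    abel
  have hcot : (KaehlerDifferential.ideal k A).toCotangent ⟨t, hmt⟩ = 0 := by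
    rw [← KaehlerDifferential.D_tensorProductTo]
    exact hD₁
  rw [Ideal.toCotangent_eq_zero] at hcot
  have hzI : z ∈ KaehlerDifferential.ideal k A := hmz
  have : (p, q) = α k A a + (z, -2 * z) + ((0 : A ⊗[k] A), t) := by
    ext
    · simp only [α, hz, Prod.fst_add]; ring
    · simp only [α, ht, hw, hz, Prod.snd_add, nsmul_eq_mul]
      push_cast
      ring
  rw [this]
  exact add_mem (add_mem (α_mem _) (ideal_anti_mem h2 hzI)) (zero_ideal_sq_mem h2 hcot)

theorem ψ_ρ_sym2 (x : A ⊗[k] (A ⊗[k] A)) :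
    ψ (rA k A (x + τ₂ k A x), rB k A (x + τ₂ k A x)) = 0 := by
  induction x using TensorProduct.induction_on with
  | zero =>
    simp only [map_zero, add_zero]
    exact map_zero ψ
  | add x y hx hy =>
    have : (rA k A (x + y + τ₂ k A (x + y)), rB k A (x + y + τ₂ k A (x + y))) =
        (rA k A (x + τ₂ k A x), rB k A (x + τ₂ k A x)) +
        (rA k A (y + τ₂ k A y), rB k A (y + τ₂ k A y)) := by
      ext
      · simp only [map_add, Prod.fst_add]; abel
      · simp only [map_add, Prod.snd_add]; abel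
    rw [this, map_add, hx, hy, add_zero]
  | tmul a y =>
    induction y using TensorProduct.induction_on with
    | zero =>
      simp only [TensorProduct.tmul_zero, map_zero, add_zero]
      exact map_zero ψ
    | add y z hy hz =>
      have : (rA k A (a ⊗ₜ[k] (y + z) + τ₂ k A (a ⊗ₜ[k] (y + z))),
          rB k A (a ⊗ₜ[k] (y + z) + τ₂ k A (a ⊗ₜ[k] (y + z)))) =
          (rA k A (a ⊗ₜ[k] y + τ₂ k A (a ⊗ₜ[k] y)), rB k A (a ⊗ₜ[k] y + τ₂ k A (a ⊗ₜ[k] y))) +
          (rA k A (a ⊗ₜ[k] z + τ₂ k A (a ⊗ₜ[k] z)), rB k A (a ⊗ₜ[k] z + τ₂ k A (a ⊗ₜ[k] z))) := by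
        ext
        · simp only [TensorProduct.tmul_add, map_add, Prod.fst_add]; abel
        · simp only [TensorProduct.tmul_add, map_add, Prod.snd_add]; abel
      rw [this, map_add, hy, hz, add_zero]
    | tmul b c =>
      rw [ψ_eq ψ hψ]
      simp only [τ₂_tmul, map_add, rA_tmul, rB_tmul, Derivation.tensorProductTo_tmul,
        Algebra.TensorProduct.lmul'_apply_tmul, Derivation.leibniz]
      module

theorem ψ_ρ_eq_zero_of_inv (h2 : (2 : k) ≠ 0) (x : A ⊗[k] (A ⊗[k] A))
    (hx : τ₂ k A x = x) : ψ (rA k A x, rB k A x) = 0 := by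
  have h := ψ_ρ_sym2 ψ hψ x
  rw [hx] at h
  have h' : (rA k A (x + x), rB k A (x + x)) = (2 : k) • (rA k A x, rB k A x) := by
    ext
    · simp only [map_add, two_smul, Prod.fst_add]
    · simp only [map_add, two_smul, Prod.snd_add]
  rw [h', map_smul] at h
  exact (smul_eq_zero.mp h).resolve_left h2

theorem ψ_surjective (h2 : (2 : k) ≠ 0) (ω : Ω[A⁄k]) :
    ∃ p q : A ⊗[k] A, Algebra.TensorProduct.lmul' k p = Algebra.TensorProduct.lmul' k q ∧
      ψ (p, q) = ω := by
  obtain ⟨x, hx⟩ := KaehlerDifferential.tensorProductTo_surjective k A ((2 : k)⁻¹ • ω)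
  refine ⟨x - L k A (Algebra.TensorProduct.lmul' k x), 0, ?_, ?_⟩
  · rw [map_sub, map_zero]
    simp [L]
  · rw [ψ_left ψ hψ, map_sub, hx]
    have hL : (KaehlerDifferential.D k A).tensorProductTo
        (L k A (Algebra.TensorProduct.lmul' k x)) = 0 := by
      change (KaehlerDifferential.D k A).tensorProductTo (_ ⊗ₜ[k] (1 : A)) = 0
      rw [Derivation.tensorProductTo_tmul, Derivation.map_one_eq_zero, smul_zero]
    have h22 : ((2 : ℕ) : k) * (2 : k)⁻¹ = 1 := by
      push_cast; exact mul_inv_cancel₀ h2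
    rw [hL, sub_zero, ← Nat.cast_smul_eq_nsmul k, smul_smul, h22, one_smul]

omit hψ in
theorem S₂_le : S₂ k A ≤ (Inv₂ k A).map (ρ k A) := by
  refine Algebra.adjoin_le ?_
  rintro _ (⟨a, rfl⟩ | ⟨a, rfl⟩)
  · refine ⟨a ⊗ₜ[k] ((1 : A) ⊗ₜ[k] (1 : A)), ?_, ?_⟩
    · change τ₂ k A _ = AlgHom.id k _ _
      rw [τ₂_tmul]; rfl
    · change (rA k A _, rB k A _) = _
      rw [rA_tmul, rB_tmul]
      simp [α, L, Rr]
  · refine ⟨(1 : A) ⊗ₜ[k] (a ⊗ₜ[k] (1 : A)) + (1 : A) ⊗ₜ[k] ((1 : A) ⊗ₜ[k] a), ?_, ?_⟩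
    · change τ₂ k A _ = AlgHom.id k _ _
      rw [map_add, τ₂_tmul, τ₂_tmul, add_comm]; rfl
    · change (rA k A _, rB k A _) = _
      rw [map_add, map_add, rA_tmul, rB_tmul, rA_tmul, rB_tmul]
      simp [β, L, Rr, two_mul]

end Psi

end Groth.Agent.Lib.T2H2.DiagSym3
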