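import Mathlib
import Groth.Agent.Lib.Helper7LeftInv

/-!
# Projectivity of `M/VM` for Dieudonné modules over perfect rings (helper2)

General algebra part:
* `projective_quotient_of_forall_maximal`: a quotient `P ⧸ S` of a finite projective module by a
  finitely generated submodule is projective as soon as `S ∩ 𝔮P ⊆ 𝔮S` for all maximal ideals `𝔮`.
* `semilinear_key`: the abstract semilinear computation.
-/

set_option autoImplicit false
set_option linter.unusedSectionVars false
universe u v

namespace Groth.Agent.Lib.T2H2.DieuProj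

open TensorProduct

section General

theorem lTensor_injective_of_equiv' {R : Type*} [CommRing R] {N N' K₁ K₂ : Type*} [AddCommGroup N]
    [Module R N] [AddCommGroup N'] [Module R N'] [AddCommGroup K₁] [Module R K₁] [AddCommGroup K₂]
    [Module R K₂] (e : K₁ ≃ₗ[R] K₂) (f : N →ₗ[R] N') (h : Function.Injective (f.lTensor K₁)) :
    Function.Injective (f.lTensor K₂) := by
  have hcomm : (e.symm : K₂ →ₗ[R] K₁).rTensor N' ∘ₗ f.lTensor K₂ =
      f.lTensor K₁ ∘ₗ (e.symm : K₂ →ₗ[R] K₁).rTensor N := by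
    rw [LinearMap.rTensor_comp_lTensor, LinearMap.lTensor_comp_rTensor]
  have hinj : Function.Injective ((e.symm : K₂ →ₗ[R] K₁).rTensor N) := (e.symm.rTensor N).injective
  have h2 : Function.Injective ((e.symm : K₂ →ₗ[R] K₁).rTensor N' ∘ₗ f.lTensor K₂) := by
    rw [hcomm]
    exact h.comp hinj
  exact Function.Injective.of_comp h2

variable {R : Type u} [CommRing R] {P : Type v} [AddCommGroup P] [Module R P]

/-- injectivity of `(R/𝔮) ⊗ S → (R/𝔮) ⊗ P` from `S ∩ 𝔮P ⊆ 𝔮S` -/
theorem lTensor_quotient_subtype_injective (S : Submodule R P) (𝔮 : Ideal R)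
    (h : S ⊓ 𝔮 • (⊤ : Submodule R P) ≤ 𝔮 • S) :
    Function.Injective (S.subtype.lTensor (R ⧸ 𝔮)) := by
  rw [injective_iff_map_eq_zero]
  intro z hz
  obtain ⟨s, rfl⟩ := TensorProduct.mk_surjective R S (R ⧸ 𝔮) Ideal.Quotient.mk_surjective z
  rw [TensorProduct.mk_apply, LinearMap.lTensor_tmul] at hz
  have h1 := congrArg (quotTensorEquivQuotSMul P 𝔮) hz
  rw [quotTensorEquivQuotSMul_mk_one_tmul, map_zero, Submodule.Quotient.mk_eq_zero] at h1
  have h2 : (s : P) ∈ 𝔮 • S := h ⟨s.2, h1⟩
  have h3 : 𝔮 • S = (𝔮 • (⊤ : Submodule R S)).map S.subtype := by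
    rw [Submodule.map_smul'', Submodule.map_top, Submodule.range_subtype]
  rw [h3] at h2
  obtain ⟨s', hs', hs's⟩ := h2
  have h4 : s' = s := Subtype.ext hs's
  rw [h4] at hs'
  apply (quotTensorEquivQuotSMul S 𝔮).injective
  rw [TensorProduct.mk_apply, quotTensorEquivQuotSMul_mk_one_tmul, map_zero,
    Submodule.Quotient.mk_eq_zero]
  exact hs'

theorem projective_quotient_of_forall_maximal [Module.Finite R P] [Module.Projective R P]
    (S : Submodule R P) (hS : S.FG)
    (h : ∀ 𝔮 : Ideal R, 𝔮.IsMaximal → S ⊓ 𝔮 • (⊤ : Submodule R P) ≤ 𝔮 • S) :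
    Module.Projective R (P ⧸ S) := by
  have hfpP : Module.FinitePresentation R P := Module.finitePresentation_of_projective R P
  have hfp : Module.FinitePresentation R (P ⧸ S) :=
    Module.finitePresentation_of_surjective S.mkQ S.mkQ_surjective (by rwa [Submodule.ker_mkQ])
  have hfinS : Module.Finite R S := Module.Finite.iff_fg.mpr hS
  apply Module.projective_of_localization_maximal
  intro 𝔮 h𝔮
  have hprime : 𝔮.IsPrime := h𝔮.isPrime
  have hfree : Module.Free (Localization.AtPrime 𝔮) (LocalizedModule 𝔮.primeCompl P) :=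
    Module.free_of_flat_of_isLocalRing
  have hinj0 : Function.Injective (S.subtype.lTensor (R ⧸ 𝔮)) :=
    lTensor_quotient_subtype_injective S 𝔮 (h 𝔮 h𝔮)
  let e : (R ⧸ 𝔮) ≃ₗ[R] 𝔮.ResidueField :=
    LinearEquiv.ofBijective
      (IsScalarTower.toAlgHom R (R ⧸ 𝔮) 𝔮.ResidueField).toLinearMap
      (Ideal.bijective_algebraMap_quotient_residueField 𝔮)
  have hinj1 : Function.Injective (S.subtype.lTensor 𝔮.ResidueField) :=
    lTensor_injective_of_equiv' e S.subtype hinj0
  have hinj2 := (Groth.Agent.Lib.Helper7.LeftInv.injective_lTensor_iff 𝔮 S.subtype).mp hinj1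
  have hfreeQ : Module.Free (Localization.AtPrime 𝔮) (LocalizedModule 𝔮.primeCompl (P ⧸ S)) :=
    Module.free_of_lTensor_residueField_injective
      (LocalizedModule.map 𝔮.primeCompl S.subtype) (LocalizedModule.map 𝔮.primeCompl S.mkQ)
      (LocalizedModule.map_surjective _ _ S.mkQ_surjective)
      (LocalizedModule.map_exact _ _ _ (LinearMap.exact_subtype_mkQ S)) hinj2
  infer_instance

end General

section Semilinear

variable {W : Type*} [CommRing W] {M : Type*} [AddCommGroup M] [Module W M]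

theorem mem_span_singleton_smul_top_iff (c : W) (x : M) :
    x ∈ Ideal.span {c} • (⊤ : Submodule W M) ↔ ∃ y : M, x = c • y := by
  rw [Submodule.ideal_span_singleton_smul, Submodule.mem_smul_pointwise_iff_exists]
  constructor
  · rintro ⟨y, -, rfl⟩; exact ⟨y, rfl⟩
  · rintro ⟨y, rfl⟩; exact ⟨y, Submodule.mem_top, rfl⟩

/-- the abstract semilinear computation -/
theorem semilinear_key (σ σ' : W →+* W)
    (c : W) (hc : σ c = c) (hc' : σ' c = c)
    (F : M →ₛₗ[σ] M) (V : M →ₛₗ[σ'] M)
    (hFV : ∀ m : M, F (V m) = c • m) (hVF : ∀ m : M, V (F m) = c • m)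
    (I : Ideal W) (hI : ∀ a ∈ I, σ a ∈ I) (hI' : ∀ a ∈ I, σ' a ∈ I)
    (HT : ∀ z : M, c • z ∈ I • (⊤ : Submodule W M) →
      z ∈ I • (⊤ : Submodule W M) ⊔ Ideal.span {c} • (⊤ : Submodule W M))
    (x : M) (hx : V x ∈ I • (⊤ : Submodule W M) ⊔ Ideal.span {c} • (⊤ : Submodule W M)) :
    V x ∈ I • Submodule.span W (Set.range V) ⊔ Ideal.span {c} • (⊤ : Submodule W M) := by
  have hFI : ∀ a ∈ I • (⊤ : Submodule W M), F a ∈ I • (⊤ : Submodule W M) := by
    intro a ha
    induction ha using Submodule.smul_induction_on' with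
    | smul r hr m hm =>
      rw [map_smulₛₗ]
      exact Submodule.smul_mem_smul (hI r hr) Submodule.mem_top
    | add x hx y hy ihx ihy =>
      rw [map_add]
      exact Submodule.add_mem _ ihx ihy
  have hVI : ∀ a ∈ I • (⊤ : Submodule W M), V a ∈ I • Submodule.span W (Set.range V) := by
    intro a ha
    induction ha using Submodule.smul_induction_on' with
    | smul r hr m hm =>
      rw [map_smulₛₗ]
      exact Submodule.smul_mem_smul (hI' r hr) (Submodule.subset_span ⟨m, rfl⟩)
    | add x hx y hy ihx ihy =>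
      rw [map_add]
      exact Submodule.add_mem _ ihx ihy
  obtain ⟨a, ha, b, hb, hab⟩ := Submodule.mem_sup.mp hx
  obtain ⟨y, rfl⟩ := (mem_span_singleton_smul_top_iff c b).mp hb
  have h1 : c • (x - F y) = F a := by
    rw [smul_sub, ← hFV x, ← hab, map_add, map_smulₛₗ, hc]
    abel
  have h2 := HT (x - F y) (h1 ▸ hFI a ha)
  obtain ⟨a', ha', b', hb', hab'⟩ := Submodule.mem_sup.mp h2
  obtain ⟨z, rfl⟩ := (mem_span_singleton_smul_top_iff c b').mp hb'
  have h3 : x = F y + a' + c • z := by
    rw [add_assoc, hab']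
    abel
  have h4 : V x = V a' + c • (y + V z) := by
    conv_lhs => rw [h3]
    rw [map_add, map_add, hVF, map_smulₛₗ, hc', smul_add]
    abel
  rw [h4]
  exact Submodule.add_mem_sup (hVI a' ha')
    ((mem_span_singleton_smul_top_iff c _).mpr ⟨_, rfl⟩)

end Semilinear

section TorsionFree

variable {W : Type*} [CommRing W] (c : W) (I : Ideal W)

/-- the property: `c z ∈ I L ⇒ z ∈ I L + c L` -/
def TF (L : Type*) [AddCommGroup L] [Module W L] : Prop :=
  ∀ z : L, c • z ∈ I • (⊤ : Submodule W L) →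
    z ∈ I • (⊤ : Submodule W L) ⊔ Ideal.span {c} • (⊤ : Submodule W L)

theorem map_smul_top_le {L L' : Type*} [AddCommGroup L] [Module W L] [AddCommGroup L']
    [Module W L'] (J : Ideal W) (g : L →ₗ[W] L') {x : L} (hx : x ∈ J • (⊤ : Submodule W L)) :
    g x ∈ J • (⊤ : Submodule W L') := by
  have h1 : g x ∈ (J • (⊤ : Submodule W L)).map g := Submodule.mem_map_of_mem hx
  rw [Submodule.map_smul''] at h1
  exact Submodule.smul_mono le_rfl le_top h1

theorem TF_of_retract {L M : Type*} [AddCommGroup L] [Module W L] [AddCommGroup M] [Module W M]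
    (g : M →ₗ[W] L) (f : L →ₗ[W] M) (hfg : ∀ m, f (g m) = m) (h : TF c I L) : TF c I M := by
  intro z hz
  have h1 : c • g z ∈ I • (⊤ : Submodule W L) := by
    rw [← map_smul]
    exact map_smul_top_le I g hz
  have h2 := h (g z) h1
  rw [← Submodule.sup_smul] at h2 ⊢
  have h3 := map_smul_top_le (I ⊔ Ideal.span {c}) f h2
  rwa [hfg] at h3

theorem mem_smul_top_pi {L : Type*} [AddCommGroup L] [Module W L] (J : Ideal W) {r : ℕ}
    (x : Fin r → L) :
    x ∈ J • (⊤ : Submodule W (Fin r → L)) ↔ ∀ i, x i ∈ J • (⊤ : Submodule W L) := by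
  constructor
  · intro hx i
    exact map_smul_top_le J (LinearMap.proj i : (Fin r → L) →ₗ[W] L) hx
  · intro hx
    have h1 : x = ∑ i, (LinearMap.single W (fun _ : Fin r => L) i) (x i) := by
      funext j
      simp [Finset.sum_apply, Pi.single_apply]
    rw [h1]
    exact Submodule.sum_mem _ fun i _ => map_smul_top_le J _ (hx i)

theorem TF_pi {L : Type*} [AddCommGroup L] [Module W L] (r : ℕ) (h : TF c I L) :
    TF c I (Fin r → L) := by
  intro z hz
  rw [← Submodule.sup_smul, mem_smul_top_pi]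
  intro i
  rw [Submodule.sup_smul]
  apply h
  have := (mem_smul_top_pi I (c • z)).mp hz i
  simpa using this

theorem TF_self (h : ∀ w : W, c * w ∈ I → w ∈ I) : TF c I W := by
  intro z hz
  apply Submodule.mem_sup_left
  rw [smul_eq_mul, Ideal.mul_top] at hz ⊢
  exact h z hz

theorem mem_smul_top_quotient (J : Ideal W) (x : W ⧸ J) :
    x ∈ I • (⊤ : Submodule W (W ⧸ J)) ↔ ∃ a ∈ I, Ideal.Quotient.mk J a = x := by
  constructor
  · intro hx
    induction hx using Submodule.smul_induction_on' with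
    | smul r hr m hm =>
      obtain ⟨w, rfl⟩ := Ideal.Quotient.mk_surjective m
      exact ⟨r * w, I.mul_mem_right _ hr, by rw [map_mul]; rfl⟩
    | add x hx y hy ihx ihy =>
      obtain ⟨a, ha, rfl⟩ := ihx
      obtain ⟨b, hb, rfl⟩ := ihy
      exact ⟨a + b, I.add_mem ha hb, map_add _ _ _⟩
  · rintro ⟨a, ha, rfl⟩
    have : Ideal.Quotient.mk J a = a • (1 : W ⧸ J) := by
      rw [Algebra.smul_def, mul_one]; rfl
    rw [this]
    exact Submodule.smul_mem_smul ha Submodule.mem_top

theorem TF_quotient_pow (h : ∀ w : W, c * w ∈ I → w ∈ I) (n : ℕ) (hn : 2 ≤ n) :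
    TF c I (W ⧸ Ideal.span {c ^ n}) := by
  intro z hz
  obtain ⟨z₀, rfl⟩ := Ideal.Quotient.mk_surjective z
  obtain ⟨a, ha, ha'⟩ := (mem_smul_top_quotient I _ _).mp hz
  have h1 : c • (Ideal.Quotient.mk (Ideal.span {c ^ n}) z₀) =
      Ideal.Quotient.mk (Ideal.span {c ^ n}) (c * z₀) := by
    rw [Algebra.smul_def, map_mul]; rfl
  rw [h1, Ideal.Quotient.eq, Ideal.mem_span_singleton'] at ha'
  obtain ⟨d, hd⟩ := ha'
  have h2 : c * (z₀ + c ^ (n - 1) * d) = a := by
    have h3 : c ^ n = c * c ^ (n - 1) := by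
      rw [← pow_succ', Nat.sub_add_cancel (by omega)]
    have : c * (z₀ + c ^ (n - 1) * d) = c * z₀ + d * c ^ n := by rw [h3]; ring
    rw [this, hd]; ring
  have h4 : z₀ + c ^ (n - 1) * d ∈ I := h _ (h2 ▸ ha)
  have h5 : Ideal.Quotient.mk (Ideal.span {c ^ n}) z₀ =
      Ideal.Quotient.mk (Ideal.span {c ^ n}) (z₀ + c ^ (n - 1) * d) +
        c • Ideal.Quotient.mk (Ideal.span {c ^ n}) (- (c ^ (n - 2) * d)) := by
    have h6 : c ^ (n - 1) = c * c ^ (n - 2) := by
      rw [← pow_succ']
      congr 1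
      omega
    rw [Algebra.smul_def]
    change _ = Ideal.Quotient.mk _ _ + Ideal.Quotient.mk _ c * _
    rw [← map_mul, ← map_add, h6]
    congr 1
    ring
  rw [h5]
  exact Submodule.add_mem_sup ((mem_smul_top_quotient I _ _).mpr ⟨_, h4, rfl⟩)
    (Submodule.smul_mem_smul (Ideal.mem_span_singleton_self c) Submodule.mem_top)

end TorsionFree

section Witt

variable {p : ℕ} [Fact p.Prime] {k : Type u} [CommRing k] [CharP k p] [PerfectRing k p]

/-- Witt vectors with all coefficients in `q` -/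
noncomputable def wittIdeal (q : Ideal k) : Ideal (WittVector p k) :=
  RingHom.ker (WittVector.map (Ideal.Quotient.mk q))

theorem mem_wittIdeal (q : Ideal k) (w : WittVector p k) :
    w ∈ wittIdeal q ↔ ∀ i, w.coeff i ∈ q := by
  rw [wittIdeal, RingHom.mem_ker, WittVector.ext_iff]
  simp only [WittVector.map_coeff, WittVector.zero_coeff, Ideal.Quotient.eq_zero_iff_mem]

theorem frobenius_mem_wittIdeal (q : Ideal k) (w : WittVector p k) (hw : w ∈ wittIdeal q) :
    WittVector.frobenius w ∈ wittIdeal q := by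
  rw [mem_wittIdeal] at hw ⊢
  intro i
  rw [WittVector.coeff_frobenius_charP]
  exact Ideal.pow_mem_of_mem _ (hw i) _ (Fact.out : p.Prime).pos

theorem frobeniusEquiv_symm_mem_wittIdeal (q : Ideal k) (hq : ∀ a : k, a ^ p ∈ q → a ∈ q)
    (w : WittVector p k) (hw : w ∈ wittIdeal q) :
    ((WittVector.frobeniusEquiv p k).symm : WittVector p k →+* WittVector p k) w ∈
      wittIdeal q := by
  rw [mem_wittIdeal] at hw ⊢
  intro i
  apply hq
  have h1 : WittVector.frobenius
      (((WittVector.frobeniusEquiv p k).symm : WittVector p k →+* WittVector p k) w) = w :=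
    (WittVector.frobeniusEquiv p k).apply_symm_apply w
  rw [← WittVector.coeff_frobenius_charP, h1]
  exact hw i

theorem coeff_p_mul_succ (w : WittVector p k) (i : ℕ) :
    ((p : WittVector p k) * w).coeff (i + 1) = w.coeff i ^ p := by
  rw [mul_comm, ← WittVector.verschiebung_frobenius, WittVector.verschiebung_coeff_succ,
    WittVector.coeff_frobenius_charP]

theorem mem_wittIdeal_of_p_mul_mem (q : Ideal k) (hq : ∀ a : k, a ^ p ∈ q → a ∈ q)
    (w : WittVector p k) (hw : (p : WittVector p k) * w ∈ wittIdeal q) : w ∈ wittIdeal q := by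
  rw [mem_wittIdeal] at hw ⊢
  intro i
  apply hq
  rw [← coeff_p_mul_succ]
  exact hw (i + 1)

theorem exists_eq_teichmuller_add_p_mul (w : WittVector p k) :
    ∃ w' : WittVector p k, w = WittVector.teichmuller p (w.coeff 0) + (p : WittVector p k) * w' := by
  set x := w - WittVector.teichmuller p (w.coeff 0) with hx
  have hx0 : x.coeff 0 = 0 := by
    change WittVector.constantCoeff x = 0
    rw [hx, map_sub]
    change w.coeff 0 - (WittVector.teichmuller p (w.coeff 0)).coeff 0 = 0
    rw [WittVector.teichmuller_coeff_zero, sub_self]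
  have h1 : WittVector.verschiebung (x.shift 1) = x := by
    have := WittVector.verschiebung_shift x 0 (by
      intro i hi
      have : i = 0 := by omega
      rw [this, hx0])
    rw [this]
    ext j
    rw [WittVector.shift_coeff, zero_add]
  obtain ⟨y, hy⟩ := (WittVector.frobenius_bijective p k).surjective (x.shift 1)
  refine ⟨y, ?_⟩
  have h2 : x = (p : WittVector p k) * y := by
    rw [← h1, ← hy, WittVector.verschiebung_frobenius, mul_comm]
  rw [← h2, hx]
  ring

variable (𝔔 : Ideal (WittVector p k))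

/-- the ideal of `k` of constant coefficients of elements of `𝔔` -/
noncomputable def coeffIdeal : Ideal k := 𝔔.map (WittVector.constantCoeff : WittVector p k →+* k)

theorem constantCoeff_surjective :
    Function.Surjective (WittVector.constantCoeff : WittVector p k →+* k) := fun a =>
  ⟨WittVector.teichmuller p a, WittVector.teichmuller_coeff_zero p a⟩

theorem mem_coeffIdeal (a : k) : a ∈ coeffIdeal 𝔔 ↔ ∃ w ∈ 𝔔, w.coeff 0 = a :=
  Ideal.mem_map_iff_of_surjective _ constantCoeff_surjective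

variable {𝔔}

theorem teichmuller_mem_iff (hp : (p : WittVector p k) ∈ 𝔔) (a : k) :
    WittVector.teichmuller p a ∈ 𝔔 ↔ a ∈ coeffIdeal 𝔔 := by
  constructor
  · intro h
    exact (mem_coeffIdeal 𝔔 a).mpr ⟨_, h, WittVector.teichmuller_coeff_zero p a⟩
  · intro h
    obtain ⟨w, hw, rfl⟩ := (mem_coeffIdeal 𝔔 a).mp h
    obtain ⟨w', hw'⟩ := exists_eq_teichmuller_add_p_mul w
    have : WittVector.teichmuller p (w.coeff 0) = w - (p : WittVector p k) * w' := by
      rw [eq_sub_iff_add_eq, ← hw']
    rw [this]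
    exact 𝔔.sub_mem hw (𝔔.mul_mem_right _ hp)

theorem coeffIdeal_radical (hp : (p : WittVector p k) ∈ 𝔔) [𝔔.IsPrime] (a : k)
    (ha : a ^ p ∈ coeffIdeal 𝔔) : a ∈ coeffIdeal 𝔔 := by
  rw [← teichmuller_mem_iff hp] at ha ⊢
  rw [map_pow] at ha
  exact Ideal.IsPrime.mem_of_pow_mem inferInstance _ ha

theorem mem_of_coeff_zero_mem (hp : (p : WittVector p k) ∈ 𝔔) (w : WittVector p k)
    (hw : w.coeff 0 ∈ coeffIdeal 𝔔) : w ∈ 𝔔 := by
  obtain ⟨w', hw'⟩ := exists_eq_teichmuller_add_p_mul w
  rw [hw']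
  exact 𝔔.add_mem ((teichmuller_mem_iff hp _).mpr hw) (𝔔.mul_mem_right _ hp)

theorem wittIdeal_le (hp : (p : WittVector p k) ∈ 𝔔) : wittIdeal (coeffIdeal 𝔔) ≤ 𝔔 := by
  intro w hw
  exact mem_of_coeff_zero_mem hp w ((mem_wittIdeal _ w).mp hw 0)

theorem le_wittIdeal_sup : 𝔔 ≤ wittIdeal (coeffIdeal 𝔔) ⊔ Ideal.span {(p : WittVector p k)} := by
  intro w hw
  obtain ⟨w', hw'⟩ := exists_eq_teichmuller_add_p_mul w
  rw [hw']
  refine Submodule.add_mem_sup ?_ (Ideal.mul_mem_right _ _ (Ideal.mem_span_singleton_self _))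
  rw [mem_wittIdeal]
  intro i
  rcases Nat.eq_zero_or_pos i with rfl | hi
  · rw [WittVector.teichmuller_coeff_zero]
    exact (mem_coeffIdeal 𝔔 _).mpr ⟨w, hw, rfl⟩
  · rw [WittVector.teichmuller_coeff_pos p _ i hi]
    exact Ideal.zero_mem _

end Witt

section Core

variable {p : ℕ} [Fact p.Prime] {k : Type u} [CommRing k] [CharP k p] [PerfectRing k p]
variable (M : Type v) [AddCommGroup M] [Module (WittVector p k) M]


theorem mk_smul' (w : (WittVector p k)) (t : (M ⧸ (Ideal.span {(p : WittVector p k)} • (⊤ : Submodule (WittVector p k) M)))) : (Ideal.Quotient.mk (Ideal.span {(p : WittVector p k)}) w) • t = w • t := by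
  have : (Ideal.Quotient.mk (Ideal.span {(p : WittVector p k)}) w) = w • (1 : (WittVector p k ⧸ Ideal.span {(p : WittVector p k)})) := by rw [Algebra.smul_def, mul_one]; rfl
  rw [this, smul_assoc, one_smul]

variable {M}
variable (V : M →ₛₗ[((WittVector.frobeniusEquiv p k).symm : (WittVector p k) →+* (WittVector p k))] M)

/-- the image of `V` in `M/pM` -/
noncomputable abbrev imV : Submodule (WittVector p k ⧸ Ideal.span {(p : WittVector p k)}) (M ⧸ (Ideal.span {(p : WittVector p k)} • (⊤ : Submodule (WittVector p k) M))) :=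
  Submodule.span (WittVector p k ⧸ Ideal.span {(p : WittVector p k)}) (Set.range fun m : M => (Ideal.span {(p : WittVector p k)} • (⊤ : Submodule (WittVector p k) M)).mkQ (V m))

theorem V_frobenius_smul (w : (WittVector p k)) (x : M) : V (WittVector.frobenius w • x) = w • V x := by
  rw [map_smulₛₗ]
  congr 1
  exact (WittVector.frobeniusEquiv p k).symm_apply_apply w

theorem mem_imV (s : (M ⧸ (Ideal.span {(p : WittVector p k)} • (⊤ : Submodule (WittVector p k) M)))) : s ∈ imV V ↔ ∃ x : M, (Ideal.span {(p : WittVector p k)} • (⊤ : Submodule (WittVector p k) M)).mkQ (V x) = s := by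
  constructor
  · intro hs
    induction hs using Submodule.span_induction with
    | mem t ht => exact ht
    | zero => exact ⟨0, by rw [map_zero, map_zero]⟩
    | add a b _ _ iha ihb =>
      obtain ⟨x, rfl⟩ := iha
      obtain ⟨y, rfl⟩ := ihb
      exact ⟨x + y, by rw [map_add, map_add]⟩
    | smul r t _ iht =>
      obtain ⟨x, rfl⟩ := iht
      obtain ⟨w, rfl⟩ := Ideal.Quotient.mk_surjective r
      exact ⟨WittVector.frobenius w • x, by rw [V_frobenius_smul, map_smul, mk_smul']⟩
  · rintro ⟨x, rfl⟩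
    exact Submodule.subset_span ⟨x, rfl⟩

theorem mkQ_mem_imV_of_mem_span (m : M) (hm : m ∈ Submodule.span (WittVector p k) (Set.range V)) :
    (Ideal.span {(p : WittVector p k)} • (⊤ : Submodule (WittVector p k) M)).mkQ m ∈ imV V := by
  induction hm using Submodule.span_induction with
  | mem t ht =>
    obtain ⟨x, rfl⟩ := ht
    exact Submodule.subset_span ⟨x, rfl⟩
  | zero => rw [map_zero]; exact Submodule.zero_mem _
  | add a b _ _ iha ihb => rw [map_add]; exact Submodule.add_mem _ iha ihb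
  | smul w t _ iht =>
    rw [map_smul, ← mk_smul']
    exact Submodule.smul_mem _ _ iht

theorem imV_fg [Module.Finite (WittVector p k) M] : (imV V).FG := by
  classical
  obtain ⟨T, hT⟩ := (Module.Finite.fg_top : (⊤ : Submodule (WittVector p k) M).FG)
  refine ⟨T.image (fun m : M => (Ideal.span {(p : WittVector p k)} • (⊤ : Submodule (WittVector p k) M)).mkQ (V m)), ?_⟩
  rw [Finset.coe_image]
  apply le_antisymm
  · exact Submodule.span_mono (Set.image_subset_range _ _)
  · rw [Submodule.span_le]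
    rintro _ ⟨m, rfl⟩
    have hm : m ∈ Submodule.span (WittVector p k) (T : Set M) := by rw [hT]; exact Submodule.mem_top
    change (Ideal.span {(p : WittVector p k)} • (⊤ : Submodule (WittVector p k) M)).mkQ (V m) ∈ Submodule.span (WittVector p k ⧸ Ideal.span {(p : WittVector p k)}) ((fun m : M => (Ideal.span {(p : WittVector p k)} • (⊤ : Submodule (WittVector p k) M)).mkQ (V m)) '' (T : Set M))
    induction hm using Submodule.span_induction with
    | mem t ht => exact Submodule.subset_span ⟨t, ht, rfl⟩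
    | zero => rw [map_zero, map_zero]; exact Submodule.zero_mem _
    | add a b _ _ iha ihb => rw [map_add, map_add]; exact Submodule.add_mem _ iha ihb
    | smul w t _ iht =>
      rw [map_smulₛₗ, map_smul, ← mk_smul']
      exact Submodule.smul_mem _ _ iht

theorem exists_rep_of_mem_smul_top (𝔮 : Ideal (WittVector p k ⧸ Ideal.span {(p : WittVector p k)})) (t : (M ⧸ (Ideal.span {(p : WittVector p k)} • (⊤ : Submodule (WittVector p k) M))))
    (ht : t ∈ 𝔮 • (⊤ : Submodule (WittVector p k ⧸ Ideal.span {(p : WittVector p k)}) (M ⧸ (Ideal.span {(p : WittVector p k)} • (⊤ : Submodule (WittVector p k) M))))) :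
    ∃ y ∈ (𝔮.comap (Ideal.Quotient.mk (Ideal.span {(p : WittVector p k)}))) • (⊤ : Submodule (WittVector p k) M), (Ideal.span {(p : WittVector p k)} • (⊤ : Submodule (WittVector p k) M)).mkQ y = t := by
  induction ht using Submodule.smul_induction_on' with
  | smul r hr m hm =>
    obtain ⟨w, rfl⟩ := Ideal.Quotient.mk_surjective r
    obtain ⟨m', rfl⟩ := Submodule.mkQ_surjective _ m
    refine ⟨w • m', Submodule.smul_mem_smul (Ideal.mem_comap.mpr hr) Submodule.mem_top, ?_⟩
    rw [map_smul, mk_smul']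
  | add a ha b hb iha ihb =>
    obtain ⟨x, hx, rfl⟩ := iha
    obtain ⟨y, hy, rfl⟩ := ihb
    exact ⟨x + y, Submodule.add_mem _ hx hy, map_add _ _ _⟩

variable (F : M →ₛₗ[(WittVector.frobenius : (WittVector p k) →+* (WittVector p k))] M)

theorem imV_inf_le (hFV : ∀ m : M, F (V m) = (p : (WittVector p k)) • m) (hVF : ∀ m : M, V (F m) = (p : (WittVector p k)) • m)
    (hT : ∀ I : Ideal (WittVector p k), (∀ w : (WittVector p k), (p : (WittVector p k)) * w ∈ I → w ∈ I) → TF (p : (WittVector p k)) I M)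
    (𝔮 : Ideal (WittVector p k ⧸ Ideal.span {(p : WittVector p k)})) (h𝔮 : 𝔮.IsMaximal) :
    imV V ⊓ 𝔮 • (⊤ : Submodule (WittVector p k ⧸ Ideal.span {(p : WittVector p k)}) (M ⧸ (Ideal.span {(p : WittVector p k)} • (⊤ : Submodule (WittVector p k) M)))) ≤ 𝔮 • imV V := by
  rintro s ⟨hs, hs'⟩
  obtain ⟨x, rfl⟩ := (mem_imV V s).mp hs
  obtain ⟨y, hy, hyx⟩ := exists_rep_of_mem_smul_top 𝔮 _ hs'
  have hprime : 𝔮.IsPrime := h𝔮.isPrime
  set 𝔔 : Ideal (WittVector p k) := 𝔮.comap (Ideal.Quotient.mk (Ideal.span {(p : WittVector p k)})) with h𝔔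
  have hp𝔔 : (p : (WittVector p k)) ∈ 𝔔 := by
    rw [h𝔔, Ideal.mem_comap]
    have : Ideal.Quotient.mk (Ideal.span {(p : WittVector p k)}) (p : (WittVector p k)) = 0 :=
      Ideal.Quotient.eq_zero_iff_mem.mpr (Ideal.mem_span_singleton_self _)
    rw [this]
    exact Ideal.zero_mem _
  have hpI𝔔 : (Ideal.span {(p : WittVector p k)}) ≤ 𝔔 := (Ideal.span_singleton_le_iff_mem _).mpr hp𝔔
  set I : Ideal (WittVector p k) := wittIdeal (coeffIdeal 𝔔) with hI
  have hq : ∀ a : k, a ^ p ∈ coeffIdeal 𝔔 → a ∈ coeffIdeal 𝔔 := coeffIdeal_radical hp𝔔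
  -- `V x ∈ 𝔔 M`
  have h1 : V x ∈ 𝔔 • (⊤ : Submodule (WittVector p k) M) := by
    have h2 : V x - y ∈ (Ideal.span {(p : WittVector p k)}) • (⊤ : Submodule (WittVector p k) M) := by
      rw [← Submodule.Quotient.mk_eq_zero, Submodule.Quotient.mk_sub, sub_eq_zero]
      exact hyx.symm
    have h3 : V x = (V x - y) + y := by abel
    rw [h3]
    exact Submodule.add_mem _ (Submodule.smul_mono_left hpI𝔔 h2) hy
  have h4 : V x ∈ I • (⊤ : Submodule (WittVector p k) M) ⊔ (Ideal.span {(p : WittVector p k)}) • (⊤ : Submodule (WittVector p k) M) := by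
    rw [← Submodule.sup_smul]
    exact Submodule.smul_mono_left le_wittIdeal_sup h1
  have h5 := semilinear_key (WittVector.frobenius : (WittVector p k) →+* (WittVector p k))
    ((WittVector.frobeniusEquiv p k).symm : (WittVector p k) →+* (WittVector p k)) (p : (WittVector p k)) (map_natCast _ p) (map_natCast _ p)
    F V hFV hVF I (fun a ha => frobenius_mem_wittIdeal _ a ha)
    (fun a ha => frobeniusEquiv_symm_mem_wittIdeal _ hq a ha)
    (hT I (fun w hw => mem_wittIdeal_of_p_mul_mem _ hq w hw)) x h4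
  obtain ⟨a, ha, b, hb, hab⟩ := Submodule.mem_sup.mp h5
  have h6 : (Ideal.span {(p : WittVector p k)} • (⊤ : Submodule (WittVector p k) M)).mkQ (V x) = (Ideal.span {(p : WittVector p k)} • (⊤ : Submodule (WittVector p k) M)).mkQ a := by
    rw [← hab, map_add]
    have : (Ideal.span {(p : WittVector p k)} • (⊤ : Submodule (WittVector p k) M)).mkQ b = 0 := (Submodule.Quotient.mk_eq_zero _).mpr hb
    rw [this, add_zero]
  rw [h6]
  clear hab h6
  induction ha using Submodule.smul_induction_on' with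
  | smul r hr m hm =>
    rw [map_smul, ← mk_smul']
    refine Submodule.smul_mem_smul ?_ (mkQ_mem_imV_of_mem_span V m hm)
    exact Ideal.mem_comap.mp (wittIdeal_le hp𝔔 hr)
  | add c hc d hd ihc ihd =>
    rw [map_add]
    exact Submodule.add_mem _ ihc ihd

theorem projective_quotient_imV [Module.Finite (WittVector p k) M] [Module.Projective (WittVector p k ⧸ Ideal.span {(p : WittVector p k)}) (M ⧸ (Ideal.span {(p : WittVector p k)} • (⊤ : Submodule (WittVector p k) M)))]
    (hFV : ∀ m : M, F (V m) = (p : (WittVector p k)) • m) (hVF : ∀ m : M, V (F m) = (p : (WittVector p k)) • m)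
    (hT : ∀ I : Ideal (WittVector p k), (∀ w : (WittVector p k), (p : (WittVector p k)) * w ∈ I → w ∈ I) → TF (p : (WittVector p k)) I M) :
    Module.Projective (WittVector p k ⧸ Ideal.span {(p : WittVector p k)}) ((M ⧸ (Ideal.span {(p : WittVector p k)} • (⊤ : Submodule (WittVector p k) M))) ⧸ imV V) := by
  have : Module.Finite (WittVector p k ⧸ Ideal.span {(p : WittVector p k)}) (M ⧸ (Ideal.span {(p : WittVector p k)} • (⊤ : Submodule (WittVector p k) M))) := Module.Finite.of_restrictScalars_finite (WittVector p k) (WittVector p k ⧸ Ideal.span {(p : WittVector p k)}) (M ⧸ (Ideal.span {(p : WittVector p k)} • (⊤ : Submodule (WittVector p k) M)))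
  exact projective_quotient_of_forall_maximal (imV V) (imV_fg V)
    (fun 𝔮 h𝔮 => imV_inf_le V F hFV hVF hT 𝔮 h𝔮)

end Core

end Groth.Agent.Lib.T2H2.DieuProj
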