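import Mathlib
import Groth.Agent.Lib.Helper28DepthFlat
import Groth.Agent.Lib.Helper28DepthAss
import Groth.Agent.Lib.Helper5RLR3
import Groth.Agent.Lib.Helper5IntDim
import Groth.Agent.Lib.Helper14LocalDimB
import Groth.Agent.Lib.Helper28ComplNagata
import Groth.Agent.Lib.Helper28ComplFlatLocal

/-!
# Depth of the dual over a Noether normalisation, and dimension of components under flat maps

* `HomMod R A X`: the `A`-module `Hom_R(A, X)` (action by precomposition with multiplication).
* `exists_linearMap_apply_ne_zero`: a finite torsion-free module over a domain has enough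
  functionals.
* `two_le_ringKrullDim_quotient_of_flat`: `C → D` flat local, `C` complete, all components of `C`
  of dimension `≥ 2` ⇒ the same for `D`.
-/

set_option autoImplicit false
universe u

namespace Groth.Agent.Lib.T2H2.DualDepth

section HomMod

variable (R A X : Type*) [CommRing R] [CommRing A] [Algebra R A] [AddCommGroup X] [Module R X]

/-- `Hom_R(A, X)` as a type synonym carrying an `A`-module structure. -/
def HomMod : Type _ := A →ₗ[R] X

instance : AddCommGroup (HomMod R A X) := inferInstanceAs (AddCommGroup (A →ₗ[R] X))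

instance instModuleBase : Module R (HomMod R A X) := inferInstanceAs (Module R (A →ₗ[R] X))

variable {R A X}

/-- The underlying linear map. -/
def HomMod.toLin (φ : HomMod R A X) : A →ₗ[R] X := φ

/-- Constructor. -/
def HomMod.ofLin (φ : A →ₗ[R] X) : HomMod R A X := φ

@[ext]
theorem HomMod.ext {φ ψ : HomMod R A X} (h : ∀ a, φ.toLin a = ψ.toLin a) : φ = ψ :=
  LinearMap.ext h

noncomputable instance instModuleTop : Module A (HomMod R A X) where
  smul a φ := HomMod.ofLin (φ.toLin ∘ₗ LinearMap.mulLeft R a)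
  one_smul φ := by
    apply HomMod.ext; intro z
    change φ.toLin (1 * z) = _
    rw [one_mul]
  mul_smul a b φ := by
    apply HomMod.ext; intro z
    change φ.toLin (a * b * z) = φ.toLin (b * (a * z))
    congr 1; ring
  smul_zero a := by
    apply HomMod.ext; intro z
    rfl
  smul_add a φ ψ := by
    apply HomMod.ext; intro z
    rfl
  add_smul a b φ := by
    apply HomMod.ext; intro z
    change φ.toLin ((a + b) * z) = φ.toLin (a * z) + φ.toLin (b * z)
    rw [add_mul, map_add]
  zero_smul φ := by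
    apply HomMod.ext; intro z
    change φ.toLin (0 * z) = 0
    rw [zero_mul, map_zero]

theorem HomMod.smul_apply (a : A) (φ : HomMod R A X) (z : A) :
    (a • φ).toLin z = φ.toLin (a * z) := rfl

theorem HomMod.base_smul_apply (r : R) (φ : HomMod R A X) (z : A) :
    (r • φ).toLin z = r • φ.toLin z := rfl

instance : IsScalarTower R A (HomMod R A X) where
  smul_assoc r a φ := by
    apply HomMod.ext; intro z
    rw [HomMod.smul_apply, HomMod.base_smul_apply, HomMod.smul_apply, smul_mul_assoc, map_smul]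

end HomMod

section Functional

variable {R : Type*} [CommRing R] [IsDomain R] {E : Type*} [AddCommGroup E] [Module R E]
  [Module.Finite R E]

/-- A finite torsion-free module over a domain has a functional not vanishing at a given nonzero
element. -/
theorem exists_linearMap_apply_ne_zero (htf : ∀ (r : R) (x : E), r • x = 0 → r = 0 ∨ x = 0)
    (e : E) (he : e ≠ 0) : ∃ φ : E →ₗ[R] R, φ e ≠ 0 := by
  classical
  let L := FractionRing R
  let V := LocalizedModule (nonZeroDivisors R) E
  have hev : (LocalizedModule.mkLinearMap (nonZeroDivisors R) E e : V) ≠ 0 := by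
    intro h
    obtain ⟨s, hs⟩ := (IsLocalizedModule.eq_zero_iff (nonZeroDivisors R)
      (LocalizedModule.mkLinearMap (nonZeroDivisors R) E)).mp h
    rcases htf (s : R) e hs with h0 | h0
    · exact nonZeroDivisors.coe_ne_zero s h0
    · exact he h0
  obtain ⟨ψ, hψ⟩ : ∃ ψ : Module.Dual L V, ψ (LocalizedModule.mkLinearMap (nonZeroDivisors R) E e) ≠ 0 := by
    by_contra hcon
    push Not at hcon
    exact hev ((Module.forall_dual_apply_eq_zero_iff L _).mp hcon)
  let χ : E →ₗ[R] L := (ψ.restrictScalars R) ∘ₗ LocalizedModule.mkLinearMap (nonZeroDivisors R) E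
  obtain ⟨t, ht⟩ := (Module.Finite.fg_top : (⊤ : Submodule R E).FG)
  obtain ⟨b, hb⟩ := IsLocalization.exist_integer_multiples_of_finset (nonZeroDivisors R)
    (t.image χ)
  let ρ : R →ₗ[R] L := Algebra.linearMap R L
  have hρ : Function.Injective ρ := IsFractionRing.injective R L
  have hrange : ∀ x : E, ((b : R) • χ) x ∈ LinearMap.range ρ := by
    intro x
    have hx : x ∈ Submodule.span R (t : Set E) := by rw [ht]; trivial
    induction hx using Submodule.span_induction with
    | mem y hy =>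
      obtain ⟨r, hr⟩ := hb (χ y) (Finset.mem_image_of_mem χ hy)
      exact ⟨r, hr⟩
    | zero => rw [map_zero]; exact zero_mem _
    | add y z _ _ hy hz => rw [map_add]; exact add_mem hy hz
    | smul r y _ hy => rw [map_smul]; exact Submodule.smul_mem _ r hy
  let φ : E →ₗ[R] R :=
    (LinearEquiv.ofInjective ρ hρ).symm.toLinearMap ∘ₗ
      LinearMap.codRestrict (LinearMap.range ρ) ((b : R) • χ) hrange
  refine ⟨φ, fun h0 => ?_⟩
  have h1 : ρ (φ e) = ((b : R) • χ) e := by
    have := (LinearEquiv.ofInjective ρ hρ).apply_symm_apply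
      (LinearMap.codRestrict (LinearMap.range ρ) ((b : R) • χ) hrange e)
    exact congrArg Subtype.val this
  rw [h0, map_zero] at h1
  have h2 : (b : R) • χ e = 0 := h1.symm
  rw [Algebra.smul_def, mul_eq_zero] at h2
  rcases h2 with h2 | h2
  · rw [map_eq_zero_iff _ (IsFractionRing.injective R L)] at h2
    exact nonZeroDivisors.coe_ne_zero b h2
  · exact hψ h2

end Functional

section Main

open IsLocalRing TensorProduct

/-- Core: `C → D` flat local, `Q` a minimal prime of `D` over `P`, `C/P` finite over a regular local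
ring `P₀` (injectively) and of dimension `≥ 2`; then `dim D/Q ≥ 2`. -/
theorem two_le_ringKrullDim_quotient_core (C D : Type u) [CommRing C] [CommRing D]
    [IsNoetherianRing C] [IsNoetherianRing D] [IsLocalRing C] [IsLocalRing D] [Algebra C D]
    [IsLocalHom (algebraMap C D)] [Module.Flat C D]
    (Q : Ideal D) (hQ : Q ∈ minimalPrimes D) (P : Ideal C) [P.IsPrime]
    (hPQ : P.map (algebraMap C D) ≤ Q)
    (P₀ : Type u) [CommRing P₀] [IsRegularLocalRing P₀] (f : P₀ →+* C ⧸ P)
    (hinj : Function.Injective f) (hfin : f.Finite)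
    (h2 : (2 : WithBot ℕ∞) ≤ ringKrullDim (C ⧸ P)) :
    (2 : WithBot ℕ∞) ≤ ringKrullDim (D ⧸ Q) := by
  classical
  have hQp : Q.IsPrime := hQ.1.1
  have hPne : P ≠ ⊤ := Ideal.IsPrime.ne_top'
  have : IsLocalRing (C ⧸ P) := Groth.Agent.Lib.Helper5.isLocalRing_quotient hPne
  let _ : Algebra P₀ (C ⧸ P) := f.toAlgebra
  have hfinM : Module.Finite P₀ (C ⧸ P) := hfin
  have hdomP₀ : IsDomain P₀ := Groth.Agent.Lib.Helper5.isDomain_of_isRegularLocalRing P₀
  have hNoeth : IsNoetherianRing P₀ := inferInstance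
  have hfaith : FaithfulSMul P₀ (C ⧸ P) := (faithfulSMul_iff_algebraMap_injective _ _).mpr hinj
  have hint : Algebra.IsIntegral P₀ (C ⧸ P) := inferInstance
  have hlocf : IsLocalHom (algebraMap P₀ (C ⧸ P)) := inferInstance
  -- dimension and depth of `P₀`
  have hdim : ringKrullDim (C ⧸ P) = ringKrullDim P₀ :=
    Groth.Agent.Lib.Helper5.ringKrullDim_eq_of_isIntegral_of_injective P₀ (C ⧸ P) hinj
  have hCM := Groth.Agent.Lib.Helper5.isCohenMacaulayLocalRing_of_isRegularLocalRing (R := P₀)
  have hdepthP₀ : (2 : ℕ∞) ≤ LocCoh.depth P₀ P₀ := by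
    have h3 := hCM.supportDim_eq_depth
    rw [Module.supportDim_self_eq_ringKrullDim, ← hdim] at h3
    rw [h3] at h2
    have h4 : ((2 : ℕ∞) : WithBot ℕ∞) ≤ ((LocCoh.depth P₀ P₀ : ℕ∞) : WithBot ℕ∞) := h2
    exact WithBot.coe_le_coe.mp h4
  -- the module `N`
  have hN2 : (2 : ℕ∞) ≤ LocCoh.idealDepth (maximalIdeal P₀) (HomMod P₀ (C ⧸ P) P₀) :=
    Groth.Agent.Lib.Helper28.two_le_idealDepth_dual (maximalIdeal P₀) (C ⧸ P) hdepthP₀
  have hNfinP₀ : Module.Finite P₀ (HomMod P₀ (C ⧸ P) P₀) :=
    inferInstanceAs (Module.Finite P₀ ((C ⧸ P) →ₗ[P₀] P₀))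
  have hNfinCbar : Module.Finite (C ⧸ P) (HomMod P₀ (C ⧸ P) P₀) :=
    Module.Finite.of_restrictScalars_finite P₀ (C ⧸ P) _
  have hdepth1 : LocCoh.depth P₀ (HomMod P₀ (C ⧸ P) P₀) =
      LocCoh.depth (C ⧸ P) (HomMod P₀ (C ⧸ P) P₀) :=
    Groth.Agent.Lib.Helper28.depth_eq_depth_of_isLocalHom_of_finite
  let _ : Module C (HomMod P₀ (C ⧸ P) P₀) :=
    Module.compHom (HomMod P₀ (C ⧸ P) P₀) (algebraMap C (C ⧸ P))
  have htower : IsScalarTower C (C ⧸ P) (HomMod P₀ (C ⧸ P) P₀) :=
    ⟨fun c c' φ => by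
      change (c • c') • φ = (algebraMap C (C ⧸ P) c) • (c' • φ)
      rw [Algebra.smul_def, mul_smul]⟩
  have hNfinC : Module.Finite C (HomMod P₀ (C ⧸ P) P₀) := Module.Finite.trans (C ⧸ P) _
  have hlocq : IsLocalHom (algebraMap C (C ⧸ P)) :=
    .of_surjective _ Ideal.Quotient.mk_surjective
  have hdepth2 : LocCoh.depth C (HomMod P₀ (C ⧸ P) P₀) =
      LocCoh.depth (C ⧸ P) (HomMod P₀ (C ⧸ P) P₀) :=
    Groth.Agent.Lib.Helper28.depth_eq_depth_of_isLocalHom_of_finite
  have hdepthC : (2 : ℕ∞) ≤ LocCoh.depth C (HomMod P₀ (C ⧸ P) P₀) := by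
    rw [hdepth2, ← hdepth1]
    exact hN2
  have hdepthD : (2 : ℕ∞) ≤ LocCoh.depth D (D ⊗[C] HomMod P₀ (C ⧸ P) P₀) := by
    rw [Groth.Agent.Lib.Helper28.depth_tensor_of_flat (R := C) (S := D)
      (HomMod P₀ (C ⧸ P) P₀) D]
    exact le_trans hdepthC le_self_add
  -- a torsion-free element of `N`
  obtain ⟨φ₀, hφ₀⟩ := exists_linearMap_apply_ne_zero (R := P₀) (E := C ⧸ P)
    (fun r x hrx => by
      rw [Algebra.smul_def, mul_eq_zero] at hrx
      rcases hrx with h | h
      · left
        exact (map_eq_zero_iff _ hinj).mp h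
      · right; exact h) 1 one_ne_zero
  let ν : HomMod P₀ (C ⧸ P) P₀ := HomMod.ofLin φ₀
  have hann : ∀ c : C ⧸ P, c • ν = 0 → c = 0 := by
    intro c hc
    by_contra hc0
    have hne := Ideal.comap_ne_bot_of_integral_mem (R := P₀) (I := Ideal.span {c}) hc0
      (Ideal.mem_span_singleton_self c) (Algebra.IsIntegral.isIntegral c)
    obtain ⟨a, ha, ha0⟩ := Submodule.exists_mem_ne_zero_of_ne_bot hne
    rw [Ideal.mem_comap, Ideal.mem_span_singleton'] at ha
    obtain ⟨w, hw⟩ := ha
    apply hφ₀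
    have h1 : a • φ₀ 1 = 0 := by
      rw [← map_smul, Algebra.smul_def, mul_one, ← hw, mul_comm]
      have := congrArg (fun ψ : HomMod P₀ (C ⧸ P) P₀ => ψ.toLin w) hc
      exact this
    rcases smul_eq_zero.mp h1 with h | h
    · exact absurd h ha0
    · exact h
  let ι : (C ⧸ P) →ₗ[C] HomMod P₀ (C ⧸ P) P₀ :=
    (LinearMap.toSpanSingleton (C ⧸ P) (HomMod P₀ (C ⧸ P) P₀) ν).restrictScalars C
  have hι : Function.Injective ι := by
    rw [← LinearMap.ker_eq_bot, LinearMap.ker_eq_bot']
    intro c hc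
    exact hann c hc
  have hιD := Module.Flat.lTensor_preserves_injective_linearMap (M := D) ι hι
  -- the annihilator of `D ⊗ N` is contained in `Q`
  have hannD : Module.annihilator D (D ⊗[C] HomMod P₀ (C ⧸ P) P₀) ≤ Q := by
    intro a ha
    apply hPQ
    have h1 : a • ((1 : D) ⊗ₜ[C] ν) = 0 := Module.mem_annihilator.mp ha _
    have h2 : ι.lTensor D (a ⊗ₜ[C] (1 : C ⧸ P)) = 0 := by
      rw [LinearMap.lTensor_tmul]
      have : ι 1 = ν := by
        change (1 : C ⧸ P) • ν = ν
        exact one_smul _ ν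
      rw [this, ← h1, TensorProduct.smul_tmul', smul_eq_mul, mul_one]
    have h3 : a ⊗ₜ[C] (1 : C ⧸ P) = 0 := hιD (by rw [h2, map_zero])
    have h4 := congrArg (TensorProduct.tensorQuotEquivQuotSMul D P) h3
    rw [map_zero, ← map_one (Ideal.Quotient.mk P), TensorProduct.tensorQuotEquivQuotSMul_tmul_mk,
      one_smul, Submodule.Quotient.mk_eq_zero, Ideal.smul_top_eq_map] at h4
    exact h4
  have hQmin : Q ∈ (Module.annihilator D (D ⊗[C] HomMod P₀ (C ⧸ P) P₀)).minimalPrimes :=
    ⟨⟨hQp, hannD⟩, fun q hq hqQ => hQ.2 ⟨hq.1, bot_le⟩ hqQ⟩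
  have hQass : Q ∈ associatedPrimes D (D ⊗[C] HomMod P₀ (C ⧸ P) P₀) :=
    Module.associatedPrimes.minimalPrimes_annihilator_subset_associatedPrimes D _ hQmin
  exact Groth.Agent.Lib.Helper28.natCast_le_ringKrullDim_quotient_of_le_depth 2
    (D ⊗[C] HomMod P₀ (C ⧸ P) P₀) hdepthD Q hQass

end Main

section Complete

open IsLocalRing

/-- `C → D` a flat local homomorphism of Noetherian local rings with `C` complete.  If every
irreducible component of `Spec C` has dimension at least `2`, so does every irreducible component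
of `Spec D`. -/
theorem two_le_ringKrullDim_quotient_of_flat (C D : Type u) [CommRing C] [CommRing D]
    [IsNoetherianRing C] [IsNoetherianRing D] [IsLocalRing C] [IsLocalRing D] [Algebra C D]
    [IsLocalHom (algebraMap C D)] [Module.Flat C D] [IsAdicComplete (maximalIdeal C) C]
    (hC : ∀ P ∈ minimalPrimes C, (2 : WithBot ℕ∞) ≤ ringKrullDim (C ⧸ P)) :
    ∀ Q ∈ minimalPrimes D, (2 : WithBot ℕ∞) ≤ ringKrullDim (D ⧸ Q) := by
  intro Q hQ
  have hP := Groth.Agent.Lib.Helper14.LocalDim.comap_mem_minimalPrimes_of_flat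
    (A := C) (A' := D) Q hQ
  have hPp : (Q.comap (algebraMap C D)).IsPrime := hP.1.1
  have hloc : IsLocalRing (C ⧸ Q.comap (algebraMap C D)) :=
    Groth.Agent.Lib.Helper5.isLocalRing_quotient hPp.ne_top
  have hcompl := Groth.Agent.Lib.Helper28.isAdicComplete_quotient_local (Q.comap (algebraMap C D))
  obtain ⟨Λ, instΛ, n, f, hΛ, hinj, hfin, -⟩ :=
    Groth.Agent.S0581.result (C ⧸ Q.comap (algebraMap C D))
  have key : ∀ [IsRegularLocalRing Λ], (2 : WithBot ℕ∞) ≤ ringKrullDim (D ⧸ Q) := by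
    intro _
    have : IsRegularLocalRing (MvPowerSeries (Fin n) Λ) :=
      Groth.Agent.Lib.Helper19.isRegularLocalRing_mvPowerSeries_of_isRegularLocalRing Λ n
    exact two_le_ringKrullDim_quotient_core C D Q hQ (Q.comap (algebraMap C D))
      Ideal.map_comap_le (MvPowerSeries (Fin n) Λ) f hinj hfin (hC _ hP)
  rcases hΛ with hfield | hcohen
  · let _ : Field Λ := hfield.toField
    exact key
  · obtain ⟨hdom, hdvr, hcompl', -⟩ := hcohen
    exact key

end Complete

end Groth.Agent.Lib.T2H2.DualDepth
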