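import Mathlib
import Groth.Agent.Lib.T2H2EtSlice

/-!
# Unramified quasi-sections over a discrete valuation ring (helper2)

Through a point of the special fibre of a finite type algebra `A` over a discrete valuation ring
`B`, smooth at the point and with residue field `B / m_B`, there passes an étale slice
(`T2H2EtSlice`); its local ring is a discrete valuation ring, unramified over `B` with trivial
residue field extension (`exists_dvr_of_point`).
-/

set_option autoImplicit false
universe u

namespace Groth.Agent.Lib.T2H2.DvrSlice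

open AlgebraicGeometry CategoryTheory Limits IsLocalRing
open Groth.Agent.Lib.T2H2.EtSlice

/-- A Noetherian local ring whose maximal ideal is generated by a non-nilpotent element is a
domain. -/
theorem isDomain_of_maximalIdeal_eq_span {R : Type*} [CommRing R] [IsLocalRing R]
    [IsNoetherianRing R] (t : R) (ht : maximalIdeal R = Ideal.span {t}) (hpow : ∀ n : ℕ, t ^ n ≠ 0) :
    IsDomain R := by
  have hkrull : ⨅ n : ℕ, maximalIdeal R ^ n = ⊥ :=
    Ideal.iInf_pow_eq_bot_of_isLocalRing _ (Ideal.IsPrime.ne_top')
  -- every nonzero element is a unit times a power of `t`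
  have key : ∀ x : R, x ≠ 0 → ∃ (n : ℕ) (u : R), IsUnit u ∧ x = u * t ^ n := by
    intro x hx
    have hex : ∃ n : ℕ, x ∉ maximalIdeal R ^ n := by
      by_contra hcon
      push Not at hcon
      apply hx
      have : x ∈ ⨅ n : ℕ, maximalIdeal R ^ n := by
        rw [Ideal.mem_iInf]; exact hcon
      rwa [hkrull, Ideal.mem_bot] at this
    classical
    let n := Nat.find hex
    have hn : x ∉ maximalIdeal R ^ n := Nat.find_spec hex
    have hn0 : n ≠ 0 := by
      intro h0
      apply hn
      rw [h0, pow_zero, Ideal.one_eq_top]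
      trivial
    obtain ⟨m, hm⟩ : ∃ m, n = m + 1 := Nat.exists_eq_succ_of_ne_zero hn0
    have hmem : x ∈ maximalIdeal R ^ m := by
      by_contra hcon
      have := Nat.find_min' hex hcon
      omega
    rw [ht, Ideal.span_singleton_pow, Ideal.mem_span_singleton'] at hmem
    obtain ⟨u, hu⟩ := hmem
    refine ⟨m, u, ?_, hu.symm⟩
    by_contra hnu
    have hum : u ∈ maximalIdeal R := (mem_maximalIdeal u).mpr hnu
    apply hn
    rw [hm, pow_succ', ← hu]
    have htm : t ∈ maximalIdeal R := by rw [ht]; exact Ideal.mem_span_singleton_self _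
    exact Ideal.mul_mem_mul hum (Ideal.pow_mem_pow htm m)
  have hnzd : NoZeroDivisors R := by
    refine ⟨fun {a b} hab => ?_⟩
    by_contra hcon
    push Not at hcon
    obtain ⟨n, u, hu, rfl⟩ := key a hcon.1
    obtain ⟨m, v, hv, rfl⟩ := key b hcon.2
    have h1 : (u * v) * t ^ (n + m) = 0 := by
      rw [← hab, pow_add]; ring
    have h2 : t ^ (n + m) = 0 := by
      have := (hu.mul hv).mul_right_eq_zero.mp h1
      exact this
    exact hpow _ h2
  exact NoZeroDivisors.to_isDomain R

/-- A Noetherian local ring whose maximal ideal is generated by a non-nilpotent element is a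
discrete valuation ring. -/
theorem exists_isDiscreteValuationRing {R : Type*} [CommRing R] [IsLocalRing R]
    [IsNoetherianRing R] (t : R) (ht : maximalIdeal R = Ideal.span {t}) (hpow : ∀ n : ℕ, t ^ n ≠ 0) :
    ∃ (_ : IsDomain R), IsDiscreteValuationRing R := by
  have hdom := isDomain_of_maximalIdeal_eq_span t ht hpow
  refine ⟨hdom, ?_⟩
  have hnf : ¬ IsField R := by
    rw [isField_iff_maximalIdeal_eq, ht, Ideal.span_singleton_eq_bot]
    simpa using hpow 1
  refine ((IsDiscreteValuationRing.TFAE R hnf).out 0 4).mpr ?_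
  rw [ht]
  exact ⟨⟨t, rfl⟩⟩

/-- `exists_etale_slice` with closedness in the fibre phrased through specializations. -/
theorem exists_etale_slice' {X S : Scheme.{u}} (f : X ⟶ S) [Smooth f] (x : X)
    (hcl : ∀ x' : X, f x' = f x → x ⤳ x' → x' = x)
    (hsep : letI := (f.residueFieldMap x).hom.toAlgebra
      Algebra.IsSeparable (S.residueField (f x)) (X.residueField x)) :
    ∃ (Z : Scheme.{u}) (i : Z ⟶ X) (z : Z), IsImmersion i ∧ Etale (i ≫ f) ∧ i z = x ∧
      ∀ z' : ↥Z, f (i z') = f x → z' = z :=
  exists_etale_slice f x ((isClosed_singleton_asFiber_iff f x).mpr hcl) hsep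

/-- Étale slices for morphisms smooth near the point. -/
theorem exists_etale_slice_of_nbhd {X S : Scheme.{u}} (f : X ⟶ S) (x : X) (W : X.Opens)
    (hxW : x ∈ W) (hW : Smooth (W.ι ≫ f))
    (hcl : ∀ x' : X, f x' = f x → x ⤳ x' → x' = x)
    (hsep : letI := (f.residueFieldMap x).hom.toAlgebra
      Algebra.IsSeparable (S.residueField (f x)) (X.residueField x)) :
    ∃ (Z : Scheme.{u}) (i : Z ⟶ X) (z : Z), IsImmersion i ∧ Etale (i ≫ f) ∧ i z = x ∧
      ∀ z' : ↥Z, f (i z') = f x → z' = z := by
  obtain ⟨y, rfl⟩ : ∃ y : W, W.ι y = x := ⟨⟨x, hxW⟩, rfl⟩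
  have hcl' : ∀ y' : W, (W.ι ≫ f) y' = (W.ι ≫ f) y → y ⤳ y' → y' = y := by
    intro y' hy' hsp
    apply W.ι.isEmbedding.injective
    exact hcl (W.ι y') hy' (hsp.map W.ι.continuous)
  obtain ⟨Z, i, z, hi, het, hiz, huniq⟩ := exists_etale_slice' (W.ι ≫ f) y hcl'
    (isSeparable_comp_of_isImmersion f W.ι y hsep)
  refine ⟨Z, i ≫ W.ι, z, inferInstance, ?_, ?_, ?_⟩
  · rw [Category.assoc]; exact het
  · rw [Scheme.Hom.comp_apply, hiz]
  · intro z' hz'
    exact huniq z' hz'

/-- The canonical map from a ring to the stalk of its spectrum at a point. -/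
noncomputable def toStalk (R : CommRingCat.{u}) (x : Spec R) : R ⟶ (Spec R).presheaf.stalk x :=
  (Scheme.ΓSpecIso R).inv ≫ (Spec R).presheaf.germ ⊤ x trivial

theorem toStalk_eq (R : CommRingCat.{u}) (x : Spec R) :
    toStalk R x = CommRingCat.ofHom (algebraMap R (Localization.AtPrime x.asIdeal)) ≫
      (Spec.stalkIso R x).inv :=
  (Spec.algebraMap_stalkIso_inv x).symm

/-- A ring isomorphism of local rings maps the maximal ideal onto the maximal ideal. -/
theorem map_maximalIdeal_of_bijective {R S : Type*} [CommRing R] [CommRing S] [IsLocalRing R]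
    [IsLocalRing S] (e : R →+* S) (he : Function.Bijective e) :
    Ideal.map e (maximalIdeal R) = maximalIdeal S := by
  have : IsLocalHom e := by
    have := isLocalHom_equiv (RingEquiv.ofBijective e he)
    exact ⟨fun a ha => this.map_nonunit a ha⟩
  apply le_antisymm
  · exact map_maximalIdeal_le e
  · intro y hy
    obtain ⟨x, rfl⟩ := he.2 y
    apply Ideal.mem_map_of_mem
    rw [mem_maximalIdeal, mem_nonunits_iff] at hy ⊢
    exact fun h => hy (h.map e)

theorem toStalk_mem_maximalIdeal_iff (R : CommRingCat.{u}) (x : Spec R) (a : R) :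
    toStalk R x a ∈ maximalIdeal ((Spec R).presheaf.stalk x) ↔ a ∈ x.asIdeal := by
  rw [toStalk_eq, CommRingCat.comp_apply]
  have hloc : IsLocalHom (Spec.stalkIso R x).inv.hom := isLocalHom_of_isIso _
  rw [← IsLocalization.AtPrime.to_map_mem_maximal_iff (Localization.AtPrime x.asIdeal) x.asIdeal a]
  simp only [mem_maximalIdeal, mem_nonunits_iff]
  rw [not_iff_not]
  exact isUnit_map_iff (Spec.stalkIso R x).inv.hom _

theorem map_toStalk (R : CommRingCat.{u}) (x : Spec R) :
    Ideal.map (toStalk R x).hom x.asIdeal = maximalIdeal ((Spec R).presheaf.stalk x) := by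
  rw [toStalk_eq, CommRingCat.hom_comp, ← Ideal.map_map, CommRingCat.hom_ofHom,
    Localization.AtPrime.map_eq_maximalIdeal]
  exact map_maximalIdeal_of_bijective _ (ConcreteCategory.bijective_of_isIso (Spec.stalkIso R x).inv)

theorem flat_toStalk (R : CommRingCat.{u}) (x : Spec R) : (toStalk R x).hom.Flat := by
  rw [toStalk_eq, CommRingCat.hom_comp]
  refine RingHom.Flat.comp ?_ ?_
  · rw [CommRingCat.hom_ofHom, RingHom.flat_algebraMap_iff]
    exact IsLocalization.flat _ x.asIdeal.primeCompl
  · exact RingHom.Flat.of_bijective (ConcreteCategory.bijective_of_isIso (Spec.stalkIso R x).inv)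

/-- Naturality of `toStalk` with respect to an arbitrary morphism into `Spec R`. -/
theorem toStalk_stalkMap {Z : Scheme.{u}} (R : CommRingCat.{u}) (i : Z ⟶ Spec R) (z : Z) :
    toStalk R (i z) ≫ i.stalkMap z =
      (Scheme.ΓSpecIso R).inv ≫ i.appTop ≫ Z.presheaf.germ ⊤ z trivial := by
  rw [toStalk, Category.assoc, Scheme.Hom.germ_stalkMap]
  rfl

/-- Naturality of `toStalk` with respect to ring maps. -/
theorem toStalk_naturality {R S : CommRingCat.{u}} (φ : R ⟶ S) (x : Spec S) :
    φ ≫ toStalk S x = toStalk R (Spec.map φ x) ≫ (Spec.map φ).stalkMap x := by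
  rw [toStalk_stalkMap, toStalk, ← Category.assoc, Scheme.ΓSpecIso_inv_naturality, Category.assoc]

/-- Smoothness at a prime gives formal smoothness of the stalk map of `Spec`. -/
theorem formallySmooth_stalkMap_Spec {B A : Type u} [CommRing B] [CommRing A] [Algebra B A]
    (x : Spec (CommRingCat.of A)) [Algebra.IsSmoothAt B x.asIdeal] :
    ((Spec.map (CommRingCat.ofHom (algebraMap B A))).stalkMap x).hom.FormallySmooth := by
  rw [RingHom.FormallySmooth.respectsIso.arrow_mk_iso_iff
    (Scheme.arrowStalkMapSpecIso (CommRingCat.ofHom (algebraMap B A)) x)]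
  let p : Ideal B := (x.comap (algebraMap B A)).asIdeal
  have : x.asIdeal.LiesOver p := ⟨rfl⟩
  let _ := Localization.AtPrime.algebraOfLiesOver p x.asIdeal
  have h1 : Algebra.FormallySmooth (Localization.AtPrime p) (Localization.AtPrime x.asIdeal) :=
    (Algebra.FormallySmooth.iff_restrictScalars (R := B) (A := Localization.AtPrime p)
      (B := Localization.AtPrime x.asIdeal)).mp
      (inferInstanceAs (Algebra.IsSmoothAt B x.asIdeal))
  rw [← RingHom.formallySmooth_algebraMap] at h1
  exact h1

/-- If a local ring `B` maps onto the residue field of a prime `p` lying over its maximal ideal,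
then `p` is maximal. -/
theorem isMaximal_of_surjective_residueField {B A : Type*} [CommRing B] [CommRing A] [Algebra B A]
    [IsLocalRing B] (p : Ideal A) [p.IsPrime]
    (hp : p.comap (algebraMap B A) = maximalIdeal B)
    (hres : Function.Surjective ((algebraMap A p.ResidueField).comp (algebraMap B A))) :
    p.IsMaximal := by
  apply Ideal.Quotient.maximal_of_isField
  refine ⟨⟨0, 1, zero_ne_one⟩, mul_comm, ?_⟩
  intro a ha
  obtain ⟨a, rfl⟩ := Ideal.Quotient.mk_surjective a
  have hap : a ∉ p := fun h => ha (Ideal.Quotient.eq_zero_iff_mem.mpr h)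
  obtain ⟨b, hb⟩ := hres (algebraMap A p.ResidueField a)
  have hmem : algebraMap B A b - a ∈ p := by
    rw [← Ideal.algebraMap_residueField_eq_zero, map_sub, sub_eq_zero]
    exact hb
  have hbu : IsUnit b := by
    by_contra hnu
    have hbm : b ∈ maximalIdeal B := (mem_maximalIdeal b).mpr hnu
    rw [← hp, Ideal.mem_comap] at hbm
    apply hap
    have := p.sub_mem hbm hmem
    simpa using this
  obtain ⟨c, hc⟩ := hbu.exists_right_inv
  refine ⟨Ideal.Quotient.mk p (algebraMap B A c), ?_⟩
  rw [← map_mul, ← map_one (Ideal.Quotient.mk p), Ideal.Quotient.eq]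
  have h1 : a * algebraMap B A c - 1 = -(algebraMap B A b - a) * algebraMap B A c := by
    have h2 : algebraMap B A b * algebraMap B A c = 1 := by rw [← map_mul, hc, map_one]
    linear_combination h2
  rw [h1]
  exact p.mul_mem_right _ (p.neg_mem hmem)

/-- A maximal ideal gives a point of `Spec` without proper specializations. -/
theorem eq_of_specializes_of_isMaximal {A : CommRingCat.{u}} (x x' : Spec A)
    (hx : x.asIdeal.IsMaximal) (h : x ⤳ x') : x' = x := by
  have hcl : IsClosed ({x} : Set (Spec A)) :=
    (PrimeSpectrum.isClosed_singleton_iff_isMaximal x).mpr hx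
  have := h.mem_closed hcl (Set.mem_singleton x)
  exact this

theorem toStalk_residue (R : CommRingCat.{u}) (x : Spec R) :
    toStalk R x ≫ (Spec R).residue x =
      CommRingCat.ofHom (algebraMap R x.asIdeal.ResidueField) ≫
        (Scheme.Spec.residueFieldIso R x).inv := by
  rw [toStalk, Category.assoc]
  exact (Scheme.Spec.algebraMap_residueFieldIso_inv R x).symm

/-- A surjective field homomorphism is a separable extension. -/
theorem isSeparable_of_surjective {K L : Type*} [Field K] [Field L] (g : K →+* L)
    (hg : Function.Surjective g) :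
    letI := g.toAlgebra
    Algebra.IsSeparable K L := by
  let _ := g.toAlgebra
  refine ⟨fun x => ?_⟩
  obtain ⟨k, rfl⟩ := hg x
  exact isSeparable_algebraMap k

/-- The residue field map of `Spec A ⟶ Spec B` at `x` is surjective if `B` maps onto `κ(x)`. -/
theorem residueFieldMap_surjective_Spec {B A : Type u} [CommRing B] [CommRing A] [Algebra B A]
    (x : Spec (CommRingCat.of A))
    (hres : Function.Surjective ((algebraMap A x.asIdeal.ResidueField).comp (algebraMap B A))) :
    Function.Surjective
      ((Spec.map (CommRingCat.ofHom (algebraMap B A))).residueFieldMap x).hom := by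
  intro t
  obtain ⟨t', rfl⟩ : ∃ t', (Scheme.Spec.residueFieldIso (CommRingCat.of A) x).inv t' = t :=
    (ConcreteCategory.bijective_of_isIso (Scheme.Spec.residueFieldIso (CommRingCat.of A) x).inv).2 t
  obtain ⟨b, rfl⟩ := hres t'
  refine ⟨(Spec (CommRingCat.of B)).residue _ (toStalk (CommRingCat.of B) _ b), ?_⟩
  have h1 := congr($(toStalk_residue (CommRingCat.of A) x) (algebraMap B A b))
  have h2 := congr($(toStalk_naturality (CommRingCat.ofHom (algebraMap B A)) x) b)
  have h3 := congr($(Scheme.residue_residueFieldMap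
    (Spec.map (CommRingCat.ofHom (algebraMap B A))) x) (toStalk (CommRingCat.of B) _ b))
  simp only [CommRingCat.comp_apply] at h1 h2 h3
  erw [h3, ← h2]
  exact h1

/-- A flat ring map from a domain to a nontrivial ring is injective. -/
theorem injective_of_flat_of_isDomain {R S : Type*} [CommRing R] [IsDomain R] [CommRing S]
    [Nontrivial S] (g : R →+* S) (hg : g.Flat) : Function.Injective g := by
  algebraize [g]
  rw [injective_iff_map_eq_zero]
  intro b hb
  by_contra hne
  have hreg : IsSMulRegular R b := (IsRegular.of_ne_zero hne).left.isSMulRegular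
  have h1 : IsSMulRegular S (algebraMap R S b) := IsSMulRegular.of_flat hreg
  have h2 : algebraMap R S b = 0 := hb
  rw [h2] at h1
  have h3 : (0 : S) • (1 : S) = (0 : S) • (0 : S) := by simp
  exact one_ne_zero (h1 h3)

/-- The residue field map of an immersion is surjective. -/
theorem residueFieldMap_surjective_of_isImmersion {X Y : Scheme.{u}} (j : Y ⟶ X) [IsImmersion j]
    (y : Y) : Function.Surjective (j.residueFieldMap y).hom := by
  intro b
  obtain ⟨b', rfl⟩ := IsLocalRing.residue_surjective b
  obtain ⟨a, rfl⟩ := j.stalkMap_surjective y b'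
  exact ⟨IsLocalRing.residue _ a, rfl⟩

/-- The local ring of an étale `Spec B`-scheme `Z` (for `B` a DVR) at a point over the closed
point, immersed in `Spec A` with trivial residue field extension over `B`. -/
theorem dvr_of_etale_immersion (B : Type u) [CommRing B] [IsDomain B] [IsDiscreteValuationRing B]
    (A : Type u) [CommRing A] [Algebra B A] {Z : Scheme.{u}} (i : Z ⟶ Spec (CommRingCat.of A))
    [IsImmersion i] [Etale (i ≫ Spec.map (CommRingCat.ofHom (algebraMap B A)))] (z : Z)
    (hp : (i z).asIdeal.comap (algebraMap B A) = maximalIdeal B)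
    (hres : Function.Surjective
      ((algebraMap A (i z).asIdeal.ResidueField).comp (algebraMap B A))) :
    ∃ (B' : Type u) (_ : CommRing B') (_ : IsDomain B') (_ : IsDiscreteValuationRing B')
      (ψ : A →+* B'),
      Ideal.comap ψ (maximalIdeal B') = (i z).asIdeal ∧
      Function.Injective (ψ.comp (algebraMap B A)) ∧
      Ideal.map (ψ.comp (algebraMap B A)) (maximalIdeal B) = maximalIdeal B' ∧
      Function.Surjective ((IsLocalRing.residue B').comp (ψ.comp (algebraMap B A))) := by
  let φ : CommRingCat.of B ⟶ CommRingCat.of A := CommRingCat.ofHom (algebraMap B A)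
  let f : Spec (CommRingCat.of A) ⟶ Spec (CommRingCat.of B) := Spec.map φ
  let g : Z ⟶ Spec (CommRingCat.of B) := i ≫ f
  have hgE : Etale g := ‹_›
  let ψ : A →+* Z.presheaf.stalk z := (toStalk (CommRingCat.of A) (i z) ≫ i.stalkMap z).hom
  -- the composite with `B → A`
  have hψB : ψ.comp (algebraMap B A) =
      (toStalk (CommRingCat.of B) (g z) ≫ g.stalkMap z).hom := by
    have h1 : φ ≫ toStalk (CommRingCat.of A) (i z) ≫ i.stalkMap z =
        toStalk (CommRingCat.of B) (g z) ≫ g.stalkMap z := by
      rw [← Category.assoc, toStalk_naturality φ (i z), Category.assoc]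
      congr 1
      exact (Scheme.Hom.stalkMap_comp i f z).symm
    rw [← h1]
    rfl
  have hgz : (g z).asIdeal = maximalIdeal B := hp
  -- Noetherian
  have hZN : IsLocallyNoetherian Z := LocallyOfFiniteType.isLocallyNoetherian g
  -- flatness and injectivity
  have hflat : (toStalk (CommRingCat.of B) (g z) ≫ g.stalkMap z).hom.Flat := by
    rw [CommRingCat.hom_comp]
    exact RingHom.Flat.comp (flat_toStalk _ _) (Flat.stalkMap g z)
  have hinj : Function.Injective (ψ.comp (algebraMap B A)) := by
    rw [hψB]
    exact injective_of_flat_of_isDomain _ hflat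
  -- unramified
  have hmap : Ideal.map (ψ.comp (algebraMap B A)) (maximalIdeal B) =
      maximalIdeal (Z.presheaf.stalk z) := by
    rw [hψB, CommRingCat.hom_comp, ← Ideal.map_map, ← hgz, map_toStalk]
    obtain ⟨_, ⟨V, hV, rfl⟩, hzV, -⟩ :=
      Z.isBasis_affineOpens.exists_subset_of_mem_open (Set.mem_univ z) isOpen_univ
    have hVS : V ≤ g ⁻¹ᵁ ⊤ := fun _ _ => trivial
    have hsmV := g.smooth_appLE (isAffineOpen_top _) hV hVS
    let _ := (g.stalkMap z).hom.toAlgebra
    have : IsLocalHom (algebraMap ((Spec (CommRingCat.of B)).presheaf.stalk (g z))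
        (Z.presheaf.stalk z)) := inferInstanceAs (IsLocalHom (g.stalkMap z).hom)
    have heft : Algebra.EssFiniteType ((Spec (CommRingCat.of B)).presheaf.stalk (g z))
        (Z.presheaf.stalk z) :=
      Groth.Agent.Lib.T2H2.SliceSepSch.essFiniteType_stalkMap_of_chart g z (isAffineOpen_top _) hV
        hVS hzV (RingHom.FiniteType.of_finitePresentation hsmV.finitePresentation)
    have hfu : Algebra.FormallyUnramified ((Spec (CommRingCat.of B)).presheaf.stalk (g z))
        (Z.presheaf.stalk z) := FormallyUnramified.stalkMap g z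
    exact Algebra.FormallyUnramified.map_maximalIdeal
  -- residue fields
  have hressurj : Function.Surjective
      ((IsLocalRing.residue (Z.presheaf.stalk z)).comp (ψ.comp (algebraMap B A))) := by
    have h1 : (toStalk (CommRingCat.of A) (i z) ≫ i.stalkMap z) ≫ Z.residue z =
        (CommRingCat.ofHom (algebraMap A (i z).asIdeal.ResidueField) ≫
          (Scheme.Spec.residueFieldIso (CommRingCat.of A) (i z)).inv) ≫
            i.residueFieldMap z := by
      rw [Category.assoc, ← Scheme.residue_residueFieldMap, ← Category.assoc, toStalk_residue]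
    intro t
    obtain ⟨t1, rfl⟩ := residueFieldMap_surjective_of_isImmersion i z t
    obtain ⟨t2, rfl⟩ := (ConcreteCategory.bijective_of_isIso
      (Scheme.Spec.residueFieldIso (CommRingCat.of A) (i z)).inv).2 t1
    obtain ⟨b, rfl⟩ := hres t2
    refine ⟨b, ?_⟩
    exact congr($h1 (algebraMap B A b))
  -- the discrete valuation ring structure
  obtain ⟨ϖ, hϖ⟩ := IsDiscreteValuationRing.exists_irreducible B
  have hmB : maximalIdeal B = Ideal.span {ϖ} := hϖ.maximalIdeal_eq
  have hspan : maximalIdeal (Z.presheaf.stalk z) =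
      Ideal.span {ψ (algebraMap B A ϖ)} := by
    rw [← hmap, hmB, Ideal.map_span, Set.image_singleton]
    rfl
  have hpow : ∀ n : ℕ, (ψ (algebraMap B A ϖ)) ^ n ≠ 0 := by
    intro n h0
    have h1 : (ψ.comp (algebraMap B A)) (ϖ ^ n) = 0 := by
      rw [map_pow]; exact h0
    have h2 := (injective_iff_map_eq_zero _).mp hinj _ h1
    exact hϖ.ne_zero (pow_eq_zero_iff'.mp h2).1
  obtain ⟨hdom, hdvr⟩ := exists_isDiscreteValuationRing _ hspan hpow
  refine ⟨Z.presheaf.stalk z, inferInstance, hdom, hdvr, ψ, ?_, hinj, hmap, hressurj⟩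
  ext a
  rw [Ideal.mem_comap]
  change (i.stalkMap z).hom (toStalk (CommRingCat.of A) (i z) a) ∈ _ ↔ _
  rw [← toStalk_mem_maximalIdeal_iff]
  simp only [mem_maximalIdeal, mem_nonunits_iff]
  rw [not_iff_not]
  exact isUnit_map_iff (i.stalkMap z).hom _

/-- **Unramified quasi-sections through smooth points over a discrete valuation ring**, for a
point of `Spec A`. -/
theorem exists_dvr_of_point (B : Type u) [CommRing B] [IsDomain B] [IsDiscreteValuationRing B]
    (A : Type u) [CommRing A] [Algebra B A] [Algebra.FiniteType B A]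
    (x : Spec (CommRingCat.of A))
    (hp : x.asIdeal.comap (algebraMap B A) = maximalIdeal B)
    [Algebra.IsSmoothAt B x.asIdeal]
    (hres : Function.Surjective
      ((algebraMap A x.asIdeal.ResidueField).comp (algebraMap B A))) :
    ∃ (B' : Type u) (_ : CommRing B') (_ : IsDomain B') (_ : IsDiscreteValuationRing B')
      (ψ : A →+* B'),
      Ideal.comap ψ (maximalIdeal B') = x.asIdeal ∧
      Function.Injective (ψ.comp (algebraMap B A)) ∧
      Ideal.map (ψ.comp (algebraMap B A)) (maximalIdeal B) = maximalIdeal B' ∧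
      Function.Surjective ((IsLocalRing.residue B').comp (ψ.comp (algebraMap B A))) := by
  have hfp : LocallyOfFinitePresentation (Spec.map (CommRingCat.ofHom (algebraMap B A))) := by
    rw [HasRingHomProperty.Spec_iff (P := @LocallyOfFinitePresentation)]
    exact RingHom.finitePresentation_algebraMap.mpr
      (Algebra.FinitePresentation.of_finiteType.mp inferInstance)
  have hfs := formallySmooth_stalkMap_Spec (B := B) x
  obtain ⟨W, hxW, hW⟩ := Groth.Agent.Lib.Helper20.FlatDesc.exists_smooth_nbhd
    (Spec.map (CommRingCat.ofHom (algebraMap B A))) x hfs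
  have hmax := isMaximal_of_surjective_residueField x.asIdeal hp hres
  have hcl : ∀ x' : Spec (CommRingCat.of A),
      (Spec.map (CommRingCat.ofHom (algebraMap B A))) x' =
        (Spec.map (CommRingCat.ofHom (algebraMap B A))) x → x ⤳ x' → x' = x :=
    fun x' _ h => eq_of_specializes_of_isMaximal x x' hmax h
  have hsep := isSeparable_of_surjective _ (residueFieldMap_surjective_Spec x hres)
  obtain ⟨Z, i, z, hi, het, rfl, -⟩ := exists_etale_slice_of_nbhd
    (Spec.map (CommRingCat.ofHom (algebraMap B A))) x W hxW hW hcl hsep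
  exact dvr_of_etale_immersion B A i z hp hres

end Groth.Agent.Lib.T2H2.DvrSlice
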