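import Groth.Agent.Lib.T2H2FlatAbove
import Groth.Agent.Lib.Helper14WEFlat

/-!
# Elementary dévissage: flatness statements (helper2)

* `flat_localizedModule_powers_of_forall_prime`: flatness over the base on a basic open from flatness at its primes.
* `flatAt_iff_of_etale`, `flatAt_iff_of_surjective`: pointwise transfer of flatness along étale neighbourhoods
  and closed subschemes.
* `elemDevissage_flat_iff`.
-/

set_option autoImplicit false
set_option linter.style.haveILetI false
set_option linter.unusedSectionVars false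
universe u

namespace Groth.Agent.Lib.T2H2.ElemDev

open TensorProduct Groth.Agent.Lib.Helper3.FlatLoc Groth.Agent.Lib.T2H2.FlatAbove

section LocGlob

variable {R S : Type u} [CommRing R] [CommRing S] [Algebra R S] {M : Type u} [AddCommGroup M]
  [Module S M] [Module R M] [IsScalarTower R S M]

/-- Flatness over the base on a basic open follows from flatness at all its primes. -/
theorem flat_localizedModule_powers_of_forall_prime (g : S)
    (H : ∀ (Q : Ideal S) [Q.IsPrime], g ∉ Q → Module.Flat R (LocalizedModule Q.primeCompl M)) :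
    Module.Flat R (LocalizedModule (Submonoid.powers g) M) := by
  rw [flat_localizedModule_iff']
  intro I z hz
  let J : Ideal S := LinearMap.ker (LinearMap.toSpanSingleton S (M ⊗[R] I) z)
  have hJ : ∀ s : S, s ∈ J ↔ s • z = 0 := fun s => by
    rw [LinearMap.mem_ker, LinearMap.toSpanSingleton_apply]
  have hg : g ∈ J.radical := by
    rw [Ideal.radical_eq_sInf, Ideal.mem_sInf]
    rintro K ⟨hJK, hK⟩
    by_contra hgK
    have hflat := H K hgK
    rw [flat_localizedModule_iff'] at hflat
    obtain ⟨s, hs, hsz⟩ := hflat I z hz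
    exact hs (hJK ((hJ s).mpr hsz))
  obtain ⟨k, hk⟩ := hg
  exact ⟨g ^ k, ⟨k, rfl⟩, (hJ _).mp hk⟩

theorem flat_localizedModule_prime_of_powers (g : S) (Q : Ideal S) [Q.IsPrime] (hg : g ∉ Q)
    (h : Module.Flat R (LocalizedModule (Submonoid.powers g) M)) :
    Module.Flat R (LocalizedModule Q.primeCompl M) :=
  flat_localizedModule_of_le ((Submonoid.powers_le (P := Q.primeCompl)).mpr hg) h

/-- A module killed by an element of the multiplicative set has flat (zero) localization. -/
theorem flat_localizedModule_of_smul_eq_zero (T : Submonoid S) (a : S) (ha : a ∈ T)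
    (h0 : ∀ m : M, a • m = 0) : Module.Flat R (LocalizedModule T M) := by
  rw [flat_localizedModule_iff']
  intro I z _
  refine ⟨a, ha, ?_⟩
  clear * - h0
  induction z with
  | zero => rw [smul_zero]
  | add x y hx hy => rw [smul_add, hx, hy, add_zero]
  | tmul m i => rw [TensorProduct.smul_tmul', h0, TensorProduct.zero_tmul]

end LocGlob

section Pointwise

/-- Flatness at a prime over an étale base, along an étale extension of the algebra. -/
theorem flatAt_iff_of_etale {R S R' S' : Type u} [CommRing R] [CommRing S] [CommRing R']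
    [CommRing S'] [Algebra R S] [Algebra R R'] [Algebra S S'] [Algebra R' S'] [Algebra R S']
    [IsScalarTower R R' S'] [IsScalarTower R S S'] [Algebra.Etale R R'] [Algebra.Etale S S']
    {N N' : Type u} [AddCommGroup N] [Module S N] [Module R N] [IsScalarTower R S N]
    [AddCommGroup N'] [Module S' N'] [Module S N'] [IsScalarTower S S' N'] [Module R' N']
    [IsScalarTower R' S' N'] [Module R N'] [IsScalarTower R R' N'] [IsScalarTower R S' N']
    [IsScalarTower R S N'] (f : N →ₗ[S] N') (hf : IsBaseChange S' f)
    (Q' : Ideal S') [Q'.IsPrime] :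
    Module.Flat R (LocalizedModule (Q'.comap (algebraMap S S')).primeCompl N) ↔
      Module.Flat R' (LocalizedModule Q'.primeCompl N') := by
  haveI : Q'.LiesOver (Q'.comap (algebraMap S S')) := ⟨rfl⟩
  have hfl : Module.Flat S (Localization.AtPrime Q') := Module.Flat.trans S S' _
  have h1 := flat_localizedModule_iff_of_isBaseChange (R := R) f hf
    (Q'.comap (algebraMap S S')) Q' hfl
  haveI : IsScalarTower R R' (LocalizedModule Q'.primeCompl N') := by
    refine ⟨fun r r' x => ?_⟩
    induction x using LocalizedModule.induction_on with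
    | h m s => rw [LocalizedModule.smul'_mk, LocalizedModule.smul'_mk, LocalizedModule.smul'_mk,
        smul_assoc]
  rw [h1]
  constructor
  · intro h
    exact Groth.Agent.Lib.Helper14.WEFlat.flat_of_flat_of_weaklyEtale R R' _
  · intro h
    exact Module.Flat.trans R R' _

/-- Flatness at a prime of a closed subscheme versus the ambient scheme. -/
theorem flatAt_iff_of_surjective {R' S' C : Type u} [CommRing R'] [CommRing S'] [CommRing C]
    [Algebra R' S'] [Algebra S' C] [Algebra R' C] [IsScalarTower R' S' C]
    (hsurj : Function.Surjective (algebraMap S' C))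
    {N' G : Type u} [AddCommGroup N'] [Module S' N'] [Module R' N'] [IsScalarTower R' S' N']
    [AddCommGroup G] [Module C G] [Module S' G] [IsScalarTower S' C G] [Module R' G]
    [IsScalarTower R' C G] [IsScalarTower R' S' G] (iso : N' ≃ₗ[S'] G) (Z : Ideal C) [Z.IsPrime] :
    Module.Flat R' (LocalizedModule (Z.comap (algebraMap S' C)).primeCompl N') ↔
      Module.Flat R' (LocalizedModule Z.primeCompl G) := by
  haveI : Algebra.IsIntegral S' C := Algebra.isIntegral_of_surjective hsurj
  constructor
  · intro h
    exact flat_localizedModule_of_equiv (R := R') iso Z _ rfl h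
  · intro h
    refine flat_localizedModule_of_equiv_of_isIntegral (R := R') (S := S') (S' := C) iso _
      fun Q' hQ' hQ'Z => ?_
    have : Q' = Z := Ideal.comap_injective_of_surjective _ hsurj hQ'Z
    subst this
    exact h

end Pointwise

theorem flat_congr_prime {R S : Type u} [CommRing R] [CommRing S] [Algebra R S] {M : Type u}
    [AddCommGroup M] [Module S M] [Module R M] [IsScalarTower R S M] {Q₁ Q₂ : Ideal S}
    [Q₁.IsPrime] [Q₂.IsPrime] (h : Q₁ = Q₂) :
    Module.Flat R (LocalizedModule Q₁.primeCompl M) ↔
      Module.Flat R (LocalizedModule Q₂.primeCompl M) := by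
  subst h
  rfl

theorem elemDevissage_flat_iff {R S : Type u} [CommRing R] [CommRing S] [Algebra R S] [Algebra.FiniteType R S]
    (N : Type u) [AddCommGroup N] [Module S N] [Module R N] [IsScalarTower R S N] [Module.Finite S N]
    (p : Ideal R) [p.IsPrime] (q : Ideal S) [q.IsPrime] [q.LiesOver p] (n : ℕ) (E : FlatCA.ElemDevissage R S N p q n) :
    [FlatCA.FlatAt R q N, FlatCA.FlatAt E.R' E.z E.G, FlatCA.FlatAt E.R' E.y E.G].TFAE ∧
    [∃ g : S, g ∉ q ∧ Module.Flat R (LocalizedModule (Submonoid.powers g) N),
     ∃ g : E.C, g ∉ E.z ∧ Module.Flat E.R' (LocalizedModule (Submonoid.powers g) E.G),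
     ∃ g : E.D, g ∉ E.y ∧ Module.Flat E.R' (LocalizedModule (Submonoid.powers g) E.G)].TFAE := by
  obtain ⟨hetR, hpover, -⟩ := E.etaleR
  obtain ⟨hetS, hqover, -⟩ := E.etaleS
  haveI := hetR
  haveI := hetS
  -- module structures on `N'`
  letI modR'N' : Module E.R' E.N' := Module.compHom E.N' (algebraMap E.R' E.S')
  haveI tR'S'N' : IsScalarTower E.R' E.S' E.N' := IsScalarTower.of_algebraMap_smul fun r x => rfl
  letI modRN' : Module R E.N' := Module.compHom E.N' (algebraMap R E.S')
  haveI tRS'N' : IsScalarTower R E.S' E.N' := IsScalarTower.of_algebraMap_smul fun r x => rfl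
  haveI tRR'N' : IsScalarTower R E.R' E.N' := by
    refine IsScalarTower.of_algebraMap_smul fun r x => ?_
    rw [← algebraMap_smul E.S' (algebraMap R E.R' r) x, ← IsScalarTower.algebraMap_apply R E.R' E.S',
      algebraMap_smul]
  haveI tRSN' : IsScalarTower R S E.N' := by
    refine IsScalarTower.of_algebraMap_smul fun r x => ?_
    rw [← algebraMap_smul E.S' (algebraMap R S r) x, ← IsScalarTower.algebraMap_apply R S E.S',
      algebraMap_smul]
  haveI tR'S'G : IsScalarTower E.R' E.S' E.G := by
    refine IsScalarTower.of_algebraMap_smul fun r x => ?_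
    rw [← algebraMap_smul E.C (algebraMap E.R' E.S' r) x,
      ← IsScalarTower.algebraMap_apply E.R' E.S' E.C, algebraMap_smul]
  haveI : Algebra.IsIntegral E.D E.C := by
    haveI := E.finiteDC
    infer_instance
  -- pointwise statements
  have P1 : ∀ (Q' : Ideal E.S') [Q'.IsPrime],
      Module.Flat R (LocalizedModule (Q'.comap (algebraMap S E.S')).primeCompl N) ↔
        Module.Flat E.R' (LocalizedModule Q'.primeCompl E.N') := fun Q' _ =>
    flatAt_iff_of_etale (R := R) (R' := E.R') E.f E.isBaseChange Q'
  have P2 : ∀ (Z : Ideal E.C) [Z.IsPrime],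
      Module.Flat E.R' (LocalizedModule (Z.comap (algebraMap E.S' E.C)).primeCompl E.N') ↔
        Module.Flat E.R' (LocalizedModule Z.primeCompl E.G) := fun Z _ =>
    flatAt_iff_of_surjective (R' := E.R') E.surjC E.iso Z
  have P3 : ∀ (Z : Ideal E.C) [Z.IsPrime],
      Module.Flat E.R' (LocalizedModule (Z.comap (algebraMap E.D E.C)).primeCompl E.G) →
        Module.Flat E.R' (LocalizedModule Z.primeCompl E.G) := fun Z _ h =>
    flat_localizedModule_of_equiv (R := E.R') (S := E.D) (S' := E.C) (LinearEquiv.refl E.D E.G) Z _ rfl h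
  have P3' : ∀ (Y : Ideal E.D) [Y.IsPrime],
      (∀ (Z : Ideal E.C) [Z.IsPrime], Z.comap (algebraMap E.D E.C) = Y →
        Module.Flat E.R' (LocalizedModule Z.primeCompl E.G)) →
        Module.Flat E.R' (LocalizedModule Y.primeCompl E.G) := fun Y _ H =>
    flat_localizedModule_of_equiv_of_isIntegral (R := E.R') (S := E.D) (S' := E.C)
      (LinearEquiv.refl E.D E.G) Y H
  have hqq' : E.q'.comap (algebraMap S E.S') = q := hqover.over.symm
  have hzq' : E.z.comap (algebraMap E.S' E.C) = E.q' := E.zOver.over.symm
  have hzy : E.z.comap (algebraMap E.D E.C) = E.y := E.zOverY.over.symm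
  constructor
  · unfold FlatCA.FlatAt
    tfae_have 1 → 2 := fun h =>
      (P2 E.z).mp ((flat_congr_prime hzq'.symm).mp ((P1 E.q').mp ((flat_congr_prime hqq'.symm).mp h)))
    tfae_have 2 → 3 := fun h => P3' E.y fun Z _ hZ => by
      have hZz : Z = E.z := E.uniq Z ⟨hZ.symm⟩
      exact (flat_congr_prime hZz).mpr h
    tfae_have 3 → 1 := fun h =>
      (flat_congr_prime hqq'.symm).mpr ((P1 E.q').mpr ((flat_congr_prime hzq'.symm).mpr
        ((P2 E.z).mpr (P3 E.z ((flat_congr_prime hzy.symm).mp h)))))
    tfae_finish
  · tfae_have 1 → 2 := by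
      rintro ⟨g, hg, hflat⟩
      refine ⟨algebraMap E.S' E.C (algebraMap S E.S' g), ?_, ?_⟩
      · intro hmem
        apply hg
        rw [← hqq', Ideal.mem_comap, ← hzq', Ideal.mem_comap]
        exact hmem
      · refine flat_localizedModule_powers_of_forall_prime _ fun Z _ hZ => ?_
        refine (P2 Z).mp ((P1 (Z.comap (algebraMap E.S' E.C))).mp ?_)
        exact flat_localizedModule_prime_of_powers g _ (fun hmem => hZ hmem) hflat
    tfae_have 2 → 3 := by
      rintro ⟨g, hg, hflat⟩
      have hex : ∃ h : E.D, algebraMap E.D E.C h ∈ (Ideal.span {g}).radical ∧ h ∉ E.y := by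
        by_contra hcon
        push Not at hcon
        have hle : (Ideal.span {g}).radical.comap (algebraMap E.D E.C) ≤ E.y := fun h hh => hcon h hh
        obtain ⟨Q, hQ, hQprime, hQy⟩ :=
          Ideal.exists_ideal_over_prime_of_isIntegral E.y (Ideal.span {g}).radical hle
        have hQz : Q = E.z := E.uniq Q ⟨hQy.symm⟩
        apply hg
        rw [← hQz]
        exact hQ (Ideal.le_radical (Ideal.mem_span_singleton_self g))
      obtain ⟨h, hh, hhy⟩ := hex
      refine ⟨h, hhy, ?_⟩
      refine flat_localizedModule_powers_of_forall_prime _ fun Y _ hY => ?_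
      refine P3' Y fun Z _ hZ => ?_
      refine flat_localizedModule_prime_of_powers g Z (fun hgZ => hY ?_) hflat
      rw [← hZ, Ideal.mem_comap]
      have hle : (Ideal.span {g}).radical ≤ Z := by
        rw [Ideal.IsPrime.radical_le_iff inferInstance, Ideal.span_singleton_le_iff_mem]
        exact hgZ
      exact hle hh
    tfae_have 3 → 1 := by
      rintro ⟨h, hhy, hflat⟩
      obtain ⟨h', hh'⟩ := E.surjC (algebraMap E.D E.C h)
      have hhz : algebraMap E.D E.C h ∉ E.z := fun hmem => hhy (by rw [← hzy]; exact hmem)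
      have hh'q' : h' ∉ E.q' := fun hmem => hhz (by
        rw [← hzq', Ideal.mem_comap, hh'] at hmem
        exact hmem)
      have key : ∀ (Q' : Ideal E.S') [Q'.IsPrime], h' ∉ Q' →
          Module.Flat E.R' (LocalizedModule Q'.primeCompl E.N') := by
        intro Q' _ hQ'
        by_cases hker : RingHom.ker (algebraMap E.S' E.C) ≤ Q'
        · haveI hZprime : (Q'.map (algebraMap E.S' E.C)).IsPrime :=
            Ideal.map_isPrime_of_surjective E.surjC hker
          have hcomap : (Q'.map (algebraMap E.S' E.C)).comap (algebraMap E.S' E.C) = Q' := by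
            rw [Ideal.comap_map_of_surjective _ E.surjC, ← RingHom.ker_eq_comap_bot]
            exact sup_eq_left.mpr hker
          have hhZ : algebraMap E.D E.C h ∉ Q'.map (algebraMap E.S' E.C) := fun hmem => hQ' (by
            rw [← hcomap, Ideal.mem_comap, hh']
            exact hmem)
          have h1 : Module.Flat E.R' (LocalizedModule (Q'.map (algebraMap E.S' E.C)).primeCompl E.G) :=
            P3 _ (flat_localizedModule_prime_of_powers h _ (fun hmem => hhZ hmem) hflat)
          exact (flat_congr_prime hcomap).mp ((P2 _).mpr h1)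
        · obtain ⟨a, hak, haQ⟩ := Set.not_subset.mp hker
          refine flat_localizedModule_of_smul_eq_zero _ a haQ fun m => ?_
          apply E.iso.injective
          rw [map_smul, map_zero, ← algebraMap_smul E.C a (E.iso m),
            (RingHom.mem_ker).mp hak, zero_smul]
      have hopen : IsOpen (PrimeSpectrum.comap (algebraMap S E.S') ''
          (PrimeSpectrum.basicOpen h' : Set (PrimeSpectrum E.S'))) :=
        PrimeSpectrum.isOpenMap_comap_of_hasGoingDown_of_finitePresentation _
          (PrimeSpectrum.basicOpen h').isOpen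
      have hqmem : (⟨q, inferInstance⟩ : PrimeSpectrum S) ∈
          PrimeSpectrum.comap (algebraMap S E.S') ''
            (PrimeSpectrum.basicOpen h' : Set (PrimeSpectrum E.S')) :=
        ⟨⟨E.q', inferInstance⟩, hh'q', PrimeSpectrum.ext hqq'⟩
      obtain ⟨_, ⟨g, rfl⟩, hqg, hgU⟩ :=
        PrimeSpectrum.isTopologicalBasis_basic_opens.exists_subset_of_mem_open hqmem hopen
      refine ⟨g, hqg, ?_⟩
      refine flat_localizedModule_powers_of_forall_prime _ fun Q _ hQ => ?_
      obtain ⟨Q', hQ'mem, hQ'Q⟩ := hgU (show (⟨Q, inferInstance⟩ : PrimeSpectrum S) ∈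
        (PrimeSpectrum.basicOpen g : Set (PrimeSpectrum S)) from hQ)
      have hQ'Q' : Q'.asIdeal.comap (algebraMap S E.S') = Q :=
        congrArg PrimeSpectrum.asIdeal hQ'Q
      exact (flat_congr_prime hQ'Q').mp ((P1 Q'.asIdeal).mpr (key Q'.asIdeal hQ'mem))
    tfae_finish

end Groth.Agent.Lib.T2H2.ElemDev
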