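import Groth.Agent.Lib.T2H2ElemDev
import Groth.Agent.Lib.Helper2FPAff
import Groth.Agent.Lib.Helper2FinPushFP

/-!
# Elementary dévissage: finite presentation statements (helper2)

For a submonoid `T` of a ring `A` and an `A`-module `M` we study the property
`Module.FinitePresentation (Localization T) (LocalizedModule T M)`.

* `fp_iff_of_isLocalizedModule`: it can be checked on any model of the localization.
* `fp_congr_submonoid`, `fp_congr_equiv`.
* `finitePresentation_of_isBaseChange_of_faithfullyFlat`: faithfully flat descent of finite presentation.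
* `fp_isBaseChange`: base change along `A → B` (and faithfully flat descent).
* `fp_iff_of_finite`: along a finite, finitely presented `A → B`.
-/

set_option autoImplicit false
set_option linter.style.haveILetI false
set_option linter.unusedSectionVars false
universe u

namespace Groth.Agent.Lib.T2H2.ElemDevFP

open TensorProduct

section Model

variable {A : Type u} [CommRing A] (T : Submonoid A) {M : Type u} [AddCommGroup M] [Module A M]

/-- Finite presentation of the localization can be checked on any model. -/
theorem fp_iff_of_isLocalizedModule (A' : Type u) [CommRing A'] [Algebra A A'] [IsLocalization T A']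
    {M' : Type u} [AddCommGroup M'] [Module A M'] [Module A' M'] [IsScalarTower A A' M']
    (f : M →ₗ[A] M') [IsLocalizedModule T f] :
    Module.FinitePresentation (Localization T) (LocalizedModule T M) ↔
      Module.FinitePresentation A' M' := by
  let ρ : Localization T ≃ₐ[A] A' := IsLocalization.algEquiv T (Localization T) A'
  let e : LocalizedModule T M ≃ₗ[A] M' := IsLocalizedModule.iso T f
  refine Groth.Agent.Lib.Helper2.FPAff.finitePresentation_iff_of_semilinear
    (ρ : Localization T →+* A') ρ.bijective e.toAddEquiv fun r x => ?_
  obtain ⟨a, t, rfl⟩ := IsLocalization.exists_mk'_eq T r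
  apply IsLocalizedModule.smul_injective f t
  change (t : A) • e (IsLocalization.mk' (Localization T) a t • x) =
    (t : A) • (ρ (IsLocalization.mk' (Localization T) a t) • e x)
  rw [← map_smul, ← algebraMap_smul (Localization T) (t : A), smul_smul,
    IsLocalization.mk'_spec', algebraMap_smul, map_smul]
  rw [IsLocalization.algEquiv_mk', ← algebraMap_smul A' (t : A), smul_smul,
    IsLocalization.mk'_spec', algebraMap_smul]

theorem fp_congr_submonoid {T₁ T₂ : Submonoid A} (h : T₁ = T₂) :
    Module.FinitePresentation (Localization T₁) (LocalizedModule T₁ M) ↔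
      Module.FinitePresentation (Localization T₂) (LocalizedModule T₂ M) := by
  subst h
  rfl

theorem fp_congr_equiv {M₂ : Type u} [AddCommGroup M₂] [Module A M₂] (e : M ≃ₗ[A] M₂) :
    Module.FinitePresentation (Localization T) (LocalizedModule T M) ↔
      Module.FinitePresentation (Localization T) (LocalizedModule T M₂) := by
  haveI : IsLocalizedModule T ((LocalizedModule.mkLinearMap T M₂) ∘ₗ (e : M →ₗ[A] M₂)) :=
    IsLocalizedModule.of_linearEquiv_right T (LocalizedModule.mkLinearMap T M₂) e
  exact fp_iff_of_isLocalizedModule T (Localization T)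
    ((LocalizedModule.mkLinearMap T M₂) ∘ₗ (e : M →ₗ[A] M₂))

end Model

section Descent

/-- Faithfully flat descent of finite presentation of modules. -/
theorem finitePresentation_of_isBaseChange_of_faithfullyFlat {A B : Type*} [CommRing A] [CommRing B]
    [Algebra A B] [Module.FaithfullyFlat A B] {M M' : Type*} [AddCommGroup M] [Module A M]
    [AddCommGroup M'] [Module B M'] [Module A M'] [IsScalarTower A B M'] (μ : M →ₗ[A] M')
    (hμ : IsBaseChange B μ) [Module.FinitePresentation B M'] : Module.FinitePresentation A M := by
  haveI hfp : Module.FinitePresentation B (B ⊗[A] M) := Module.FinitePresentation.of_equiv hμ.equiv.symm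
  haveI : Module.Finite A M := Module.Finite.of_finite_tensorProduct_of_faithfullyFlat B
  obtain ⟨n, g, hg⟩ := Module.Finite.exists_fin' A M
  refine Module.finitePresentation_of_free_of_surjective g hg ?_
  rw [← Module.Finite.iff_fg]
  have hex : Function.Exact ((LinearMap.ker g).subtype.baseChange B) (g.baseChange B) :=
    lTensor_exact B g.exact_subtype_ker_map hg
  have hsurj : Function.Surjective (g.baseChange B) := LinearMap.lTensor_surjective B hg
  have hfg : (LinearMap.ker (g.baseChange B)).FG :=
    Module.FinitePresentation.fg_ker (g.baseChange B) hsurj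
  rw [LinearMap.exact_iff] at hex
  rw [hex] at hfg
  have hinj : Function.Injective ((LinearMap.ker g).subtype.baseChange B) :=
    Module.Flat.lTensor_preserves_injective_linearMap _ (Submodule.injective_subtype _)
  haveI : Module.Finite B (LinearMap.range ((LinearMap.ker g).subtype.baseChange B)) :=
    Module.Finite.iff_fg.2 hfg
  haveI : Module.Finite B (B ⊗[A] (LinearMap.ker g)) :=
    Module.Finite.equiv (LinearEquiv.ofInjective _ hinj).symm
  exact Module.Finite.of_finite_tensorProduct_of_faithfullyFlat B

end Descent

section BaseChange

variable {A B : Type u} [CommRing A] [CommRing B] [Algebra A B] (T : Submonoid A) (T' : Submonoid B)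
  {M M' : Type u} [AddCommGroup M] [Module A M] [AddCommGroup M'] [Module B M'] [Module A M']
  [IsScalarTower A B M']

/-- Base change of finite presentation of localizations, and its faithfully flat descent. -/
theorem fp_isBaseChange
    (hT : ∀ t ∈ T, IsUnit (algebraMap B (Localization T') (algebraMap A B t)))
    (ν : M →ₗ[A] M') (hν : IsBaseChange B ν) :
    (Module.FinitePresentation (Localization T) (LocalizedModule T M) →
      Module.FinitePresentation (Localization T') (LocalizedModule T' M')) ∧
    (Module.Flat A B →
      (∀ (P : Ideal A) [P.IsPrime], Disjoint (T : Set A) P →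
        ∃ P' : Ideal B, P'.IsPrime ∧ Disjoint (T' : Set B) P' ∧ P'.comap (algebraMap A B) = P) →
      Module.FinitePresentation (Localization T') (LocalizedModule T' M') →
      Module.FinitePresentation (Localization T) (LocalizedModule T M)) := by
  have hT' : ∀ y : T, IsUnit (algebraMap A (Localization T') y) := fun y => by
    rw [IsScalarTower.algebraMap_apply A B (Localization T')]
    exact hT y y.2
  let ρ : Localization T →+* Localization T' := IsLocalization.lift (M := T) hT'
  letI algAB : Algebra (Localization T) (Localization T') := ρ.toAlgebra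
  haveI : IsScalarTower A (Localization T) (Localization T') :=
    IsScalarTower.of_algebraMap_eq fun a => (IsLocalization.lift_eq hT' a).symm
  letI modB : Module (Localization T) (LocalizedModule T' M') :=
    Module.compHom _ (algebraMap (Localization T) (Localization T'))
  haveI : IsScalarTower (Localization T) (Localization T') (LocalizedModule T' M') :=
    IsScalarTower.of_algebraMap_smul fun r x => rfl
  haveI : IsScalarTower A (Localization T) (LocalizedModule T' M') := by
    refine IsScalarTower.of_algebraMap_smul fun r x => ?_
    change algebraMap (Localization T) (Localization T')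
      (algebraMap A (Localization T) r) • x = r • x
    rw [← IsScalarTower.algebraMap_apply A (Localization T) (Localization T'),
      algebraMap_smul]
  obtain ⟨μ, hμ, -⟩ := Groth.Agent.Lib.Helper2.PullbackFlat.exists_isBaseChange_localization
    (B := A) (C := B) (R := Localization T) (S := Localization T')
    T T' (LocalizedModule.mkLinearMap T M) ν hν (LocalizedModule.mkLinearMap T' M')
  refine ⟨fun h => FinitePresentation.of_isBaseChange μ hμ, fun hflat hprime h => ?_⟩
  haveI : Module.Flat B (Localization T') := IsLocalization.flat _ T'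
  haveI : Module.Flat A (Localization T') := Module.Flat.trans A B _
  haveI : Module.Flat (Localization T) (Localization T') :=
    (Module.flat_iff_of_isLocalization (Localization T) T _).mpr inferInstance
  haveI : Module.FaithfullyFlat (Localization T) (Localization T') := by
    refine Module.FaithfullyFlat.of_comap_surjective fun P => ?_
    obtain ⟨hPprime, hPdisj⟩ :=
      (IsLocalization.isPrime_iff_isPrime_disjoint T (Localization T) P.asIdeal).mp P.2
    haveI := hPprime
    obtain ⟨P', hP'prime, hP'disj, hP'P⟩ := hprime (P.asIdeal.under A) hPdisj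
    refine ⟨⟨P'.map (algebraMap B (Localization T')),
      IsLocalization.isPrime_of_isPrime_disjoint T' _ P' hP'prime hP'disj⟩, ?_⟩
    apply PrimeSpectrum.ext
    change (P'.map (algebraMap B (Localization T'))).comap
      (algebraMap (Localization T) (Localization T')) = P.asIdeal
    rw [← IsLocalization.map_under T (Localization T) P.asIdeal,
      ← IsLocalization.map_under T (Localization T) ((P'.map (algebraMap B (Localization T'))).comap
      (algebraMap (Localization T) (Localization T')))]
    congr 1
    rw [Ideal.under_def, Ideal.comap_comap, ← IsScalarTower.algebraMap_eq,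
      IsScalarTower.algebraMap_eq A B (Localization T'), ← Ideal.comap_comap, ← Ideal.under_def B,
      IsLocalization.under_map_of_isPrime_disjoint T' _ hP'prime hP'disj, hP'P]
  exact finitePresentation_of_isBaseChange_of_faithfullyFlat μ hμ

end BaseChange

section Finite

variable {A B : Type u} [CommRing A] [CommRing B] [Algebra A B] (T : Submonoid A)
  {M : Type u} [AddCommGroup M] [Module B M] [Module A M] [IsScalarTower A B M]

/-- Finite presentation of localizations along a finite, finitely presented ring map. -/
theorem fp_iff_of_finite [Module.Finite A B] [Module.FinitePresentation A B] :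
    Module.FinitePresentation (Localization T) (LocalizedModule T M) ↔
      Module.FinitePresentation (Localization (Algebra.algebraMapSubmonoid B T))
        (LocalizedModule (Algebra.algebraMapSubmonoid B T) M) := by
  let AT := Localization T
  let BT := Localization (Algebra.algebraMapSubmonoid B T)
  let MT := LocalizedModule (Algebra.algebraMapSubmonoid B T) M
  letI modAT : Module AT MT := Module.compHom _ (algebraMap AT BT)
  haveI : IsScalarTower AT BT MT := IsScalarTower.of_algebraMap_smul fun r x => rfl
  haveI : IsScalarTower A AT MT := by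
    refine IsScalarTower.of_algebraMap_smul fun r x => ?_
    change algebraMap AT BT (algebraMap A AT r) • x = r • x
    rw [← IsScalarTower.algebraMap_apply A AT BT, algebraMap_smul]
  haveI : IsLocalizedModule T
      ((LocalizedModule.mkLinearMap (Algebra.algebraMapSubmonoid B T) M).restrictScalars A) :=
    IsLocalizedModule.restrictScalars T _
  have h1 := fp_iff_of_isLocalizedModule T AT (M' := MT)
    ((LocalizedModule.mkLinearMap (Algebra.algebraMapSubmonoid B T) M).restrictScalars A)
  have hbc : IsBaseChange AT (IsScalarTower.toAlgHom A B BT).toLinearMap :=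
    (isLocalizedModule_iff_isBaseChange T AT _).mp inferInstance
  haveI : Module.FinitePresentation AT BT := FinitePresentation.of_isBaseChange _ hbc
  rw [h1]
  exact (Groth.Agent.Lib.Helper2.FinPushFP.finitePresentation_iff_of_finite (A := AT) (B := BT)
    (N := MT)).symm

end Finite

section Aux

theorem isUnit_algebraMap_of_mul_mem {B : Type u} [CommRing B] (T' : Submonoid B) (x c : B)
    (h : x * c ∈ T') : IsUnit (algebraMap B (Localization T') x) := by
  have h1 : IsUnit (algebraMap B (Localization T') (x * c)) :=
    IsLocalization.map_units (Localization T') ⟨x * c, h⟩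
  rw [map_mul] at h1
  exact isUnit_of_mul_isUnit_left h1

theorem isUnit_algebraMap_pow_of_mul_mem {B : Type u} [CommRing B] (T' : Submonoid B) (x c : B)
    (h : x * c ∈ T') (t : B) (ht : t ∈ Submonoid.powers x) :
    IsUnit (algebraMap B (Localization T') t) := by
  obtain ⟨k, rfl⟩ := ht
  rw [map_pow]
  exact (isUnit_algebraMap_of_mul_mem T' x c h).pow k

theorem disjoint_primeCompl_iff {A : Type u} [CommRing A] (q P : Ideal A) [q.IsPrime] :
    Disjoint (q.primeCompl : Set A) P ↔ P ≤ q := by
  rw [Set.disjoint_left]
  constructor
  · intro h x hx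
    by_contra hxq
    exact h hxq hx
  · intro h x hx hxP
    exact hx (h hxP)

theorem fp_id_of_units {C : Type u} [CommRing C] (T₁ T₂ : Submonoid C) {G : Type u} [AddCommGroup G]
    [Module C G] (hT : ∀ t ∈ T₁, IsUnit (algebraMap C (Localization T₂) t))
    (h : Module.FinitePresentation (Localization T₁) (LocalizedModule T₁ G)) :
    Module.FinitePresentation (Localization T₂) (LocalizedModule T₂ G) :=
  (fp_isBaseChange (A := C) (B := C) T₁ T₂ hT (LinearMap.id : G →ₗ[C] G)
    (IsBaseChange.of_equiv (TensorProduct.lid C G) (fun x => by simp))).1 h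

end Aux

section Main

open AlgebraicGeometry in
theorem finitePresentation_of_smoothRelDim (n : ℕ) (R S : Type u) [CommRing R] [CommRing S]
    [Algebra R S] (h : FlatCA.SmoothRelDim n R S) : Algebra.FinitePresentation R S := by
  have h1 : Smooth (Spec.map (CommRingCat.ofHom (algebraMap R S))) := h.smooth
  have h2 : LocallyOfFinitePresentation (Spec.map (CommRingCat.ofHom (algebraMap R S))) :=
    inferInstance
  have h3 := (HasRingHomProperty.Spec_iff (P := @LocallyOfFinitePresentation)).mp h2
  exact (RingHom.finitePresentation_algebraMap).mp h3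

theorem elemDevissage_fp {R S : Type u} [CommRing R] [CommRing S] [Algebra R S]
    [Algebra.FinitePresentation R S]
    (N : Type u) [AddCommGroup N] [Module S N] [Module R N] [IsScalarTower R S N] [Module.Finite S N]
    (p : Ideal R) [p.IsPrime] (q : Ideal S) [q.IsPrime] [q.LiesOver p] (n : ℕ)
    (E : FlatCA.ElemDevissage R S N p q n) :
    Algebra.FinitePresentation E.D E.C ∧
    [Module.FinitePresentation (Localization.AtPrime q) (LocalizedModule q.primeCompl N),
     Module.FinitePresentation (Localization.AtPrime E.z) (LocalizedModule E.z.primeCompl E.G),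
     Module.FinitePresentation (Localization.AtPrime E.y) (LocalizedModule E.y.primeCompl E.G)].TFAE ∧
    [∃ g : S, g ∉ q ∧ Module.FinitePresentation (Localization.Away g)
        (LocalizedModule (Submonoid.powers g) N),
     ∃ g : E.C, g ∉ E.z ∧ Module.FinitePresentation (Localization.Away g)
        (LocalizedModule (Submonoid.powers g) E.G),
     ∃ g : E.D, g ∉ E.y ∧ Module.FinitePresentation (Localization.Away g)
        (LocalizedModule (Submonoid.powers g) E.G)].TFAE := by
  obtain ⟨hetR, hpover, -⟩ := E.etaleR
  obtain ⟨hetS, hqover, -⟩ := E.etaleS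
  haveI := hetR
  haveI := hetS
  haveI := E.fpC
  haveI := E.finiteDC
  haveI := E.finiteG
  haveI fpR'D : Algebra.FinitePresentation E.R' E.D := finitePresentation_of_smoothRelDim n _ _ E.smooth
  haveI fpRS' : Algebra.FinitePresentation R E.S' := Algebra.FinitePresentation.trans R S E.S'
  haveI fpR'S' : Algebra.FinitePresentation E.R' E.S' :=
    Algebra.FinitePresentation.of_restrict_scalars_finitePresentation R E.R' E.S'
  haveI fpR'C : Algebra.FinitePresentation E.R' E.C := Algebra.FinitePresentation.trans E.R' E.S' E.C
  haveI fpDC : Algebra.FinitePresentation E.D E.C :=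
    Algebra.FinitePresentation.of_restrict_scalars_finitePresentation E.R' E.D E.C
  haveI : Module.FinitePresentation E.D E.C :=
    Module.FinitePresentation.of_finite_of_finitePresentation _ _
  haveI : Module.Finite E.S' E.C := Module.Finite.of_surjective (Algebra.linearMap E.S' E.C) E.surjC
  haveI : Module.FinitePresentation E.S' E.C :=
    Module.FinitePresentation.of_finite_of_finitePresentation _ _
  haveI : Algebra.IsIntegral E.D E.C := inferInstance
  have hqq' : E.q'.comap (algebraMap S E.S') = q := hqover.over.symm
  have hzq' : E.z.comap (algebraMap E.S' E.C) = E.q' := E.zOver.over.symm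
  have hzy : E.z.comap (algebraMap E.D E.C) = E.y := E.zOverY.over.symm
  -- general transfer steps
  have X1 := fun (T : Submonoid S) (T' : Submonoid E.S')
      (hT : ∀ t ∈ T, IsUnit (algebraMap E.S' (Localization T') (algebraMap S E.S' t))) =>
    fp_isBaseChange T T' hT E.f E.isBaseChange
  have X2 := fun (T' : Submonoid E.S') => fp_congr_equiv T' E.iso
  have X3 := fun (T' : Submonoid E.S') => fp_iff_of_finite (A := E.S') (B := E.C) T' (M := E.G)
  have X4 := fun (T : Submonoid E.D) => fp_iff_of_finite (A := E.D) (B := E.C) T (M := E.G)
  -- the submonoid of `z`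
  have hsubz : Algebra.algebraMapSubmonoid E.C E.q'.primeCompl = E.z.primeCompl := by
    ext c
    constructor
    · rintro ⟨s, hs, rfl⟩
      intro hmem
      apply hs
      rw [← hzq']
      exact hmem
    · intro hc
      obtain ⟨s, rfl⟩ := E.surjC c
      refine ⟨s, fun hs => hc ?_, rfl⟩
      rw [← hzq'] at hs
      exact hs
  -- primes of `C` not meeting the image of `D ∖ y` lie in `z`
  have K1 : ∀ (P : Ideal E.C) [P.IsPrime],
      Disjoint (Algebra.algebraMapSubmonoid E.C E.y.primeCompl : Set E.C) P → P ≤ E.z := by
    intro P _ hdisj
    have hle : P.comap (algebraMap E.D E.C) ≤ E.y := by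
      intro d hd
      by_contra hdy
      exact Set.disjoint_left.mp hdisj ⟨d, hdy, rfl⟩ hd
    obtain ⟨Q, hQ, hQprime, hQy⟩ := Ideal.exists_ideal_over_prime_of_isIntegral E.y P hle
    have hQz : Q = E.z := E.uniq Q ⟨hQy.symm⟩
    rw [← hQz]
    exact hQ
  constructor
  · exact fpDC
  constructor
  · have hT1 : ∀ t ∈ q.primeCompl,
        IsUnit (algebraMap E.S' (Localization E.q'.primeCompl) (algebraMap S E.S' t)) := by
      intro t ht
      refine IsLocalization.map_units (Localization E.q'.primeCompl)
        (⟨algebraMap S E.S' t, fun hmem => ht ?_⟩ : E.q'.primeCompl)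
      rw [← hqq']
      exact hmem
    have hT2 : ∀ t ∈ Algebra.algebraMapSubmonoid E.C E.y.primeCompl,
        IsUnit (algebraMap E.C (Localization E.z.primeCompl) t) := by
      rintro _ ⟨d, hd, rfl⟩
      refine IsLocalization.map_units (Localization E.z.primeCompl)
        (⟨algebraMap E.D E.C d, fun hmem => hd ?_⟩ : E.z.primeCompl)
      rw [← hzy]
      exact hmem
    tfae_have 1 → 2 := fun h =>
      (fp_congr_submonoid hsubz).mp ((X3 _).mp ((X2 _).mp ((X1 _ _ hT1).1 h)))
    tfae_have 2 → 1 := fun h => by
      refine (X1 _ _ hT1).2 inferInstance ?_ ((X2 _).mpr ((X3 _).mpr ((fp_congr_submonoid hsubz).mpr h)))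
      intro P _ hP
      rw [disjoint_primeCompl_iff] at hP
      haveI : Algebra.HasGoingDown S E.S' := Algebra.HasGoingDown.of_flat
      obtain ⟨P', hP'le, hP'prime, hP'over⟩ := Ideal.exists_ideal_le_liesOver_of_le E.q' hP
      exact ⟨P', hP'prime, (disjoint_primeCompl_iff _ _).mpr hP'le, hP'over.over.symm⟩
    tfae_have 2 → 3 := fun h => by
      refine (X4 _).mpr ?_
      refine (fp_isBaseChange (A := E.C) (B := E.C) _ _ hT2 (LinearMap.id : E.G →ₗ[E.C] E.G)
        (IsBaseChange.of_equiv (TensorProduct.lid E.C E.G) (fun x => by simp))).2 inferInstance ?_ h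
      intro P _ hP
      exact ⟨P, inferInstance, (disjoint_primeCompl_iff _ _).mpr (K1 P hP), Ideal.comap_id P⟩
    tfae_have 3 → 2 := fun h => fp_id_of_units _ _ hT2 ((X4 _).mp h)
    tfae_finish
  · tfae_have 1 → 2 := by
      rintro ⟨g, hg, hfp⟩
      refine ⟨algebraMap E.S' E.C (algebraMap S E.S' g), ?_, ?_⟩
      · intro hmem
        apply hg
        rw [← hqq', Ideal.mem_comap, ← hzq', Ideal.mem_comap]
        exact hmem
      · have hT : ∀ t ∈ Submonoid.powers g, IsUnit (algebraMap E.S'
            (Localization (Submonoid.powers (algebraMap S E.S' g))) (algebraMap S E.S' t)) := by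
          rintro _ ⟨k, rfl⟩
          rw [map_pow, map_pow]
          exact (IsLocalization.map_units _
            (⟨_, Submonoid.mem_powers _⟩ : Submonoid.powers (algebraMap S E.S' g))).pow k
        exact (fp_congr_submonoid (Algebra.algebraMapSubmonoid_powers _)).mp
          ((X3 _).mp ((X2 _).mp ((X1 _ _ hT).1 hfp)))
    tfae_have 2 → 3 := by
      rintro ⟨g, hg, hfp⟩
      have hex : ∃ h : E.D, algebraMap E.D E.C h ∈ (Ideal.span {g}).radical ∧ h ∉ E.y := by
        by_contra hcon
        push Not at hcon
        have hle : (Ideal.span {g}).radical.comap (algebraMap E.D E.C) ≤ E.y := fun h hh => hcon h hh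
        obtain ⟨Q, hQ, hQprime, hQy⟩ :=
          Ideal.exists_ideal_over_prime_of_isIntegral E.y (Ideal.span {g}).radical hle
        have hQz : Q = E.z := E.uniq Q ⟨hQy.symm⟩
        apply hg
        rw [← hQz]
        exact hQ (Ideal.le_radical (Ideal.mem_span_singleton_self g))
      obtain ⟨h, ⟨k, hk⟩, hhy⟩ := hex
      obtain ⟨c, hc⟩ := Ideal.mem_span_singleton'.mp hk
      refine ⟨h, hhy, (X4 _).mpr ((fp_congr_submonoid (Algebra.algebraMapSubmonoid_powers _)).mpr ?_)⟩
      refine fp_id_of_units _ _ (isUnit_algebraMap_pow_of_mul_mem _ g c ?_) hfp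
      rw [mul_comm, hc]
      exact ⟨k, rfl⟩
    tfae_have 3 → 1 := by
      rintro ⟨h, hhy, hfp⟩
      obtain ⟨h', hh'⟩ := E.surjC (algebraMap E.D E.C h)
      have hhz : algebraMap E.D E.C h ∉ E.z := fun hmem => hhy (by rw [← hzy]; exact hmem)
      have hh'q' : h' ∉ E.q' := fun hmem => hhz (by
        rw [← hzq', Ideal.mem_comap, hh'] at hmem
        exact hmem)
      have h1 : Module.FinitePresentation (Localization (Submonoid.powers (algebraMap E.D E.C h)))
          (LocalizedModule (Submonoid.powers (algebraMap E.D E.C h)) E.G) :=
        (fp_congr_submonoid (Algebra.algebraMapSubmonoid_powers _)).mp ((X4 _).mp hfp)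
      have h2 : Module.FinitePresentation (Localization (Submonoid.powers h'))
          (LocalizedModule (Submonoid.powers h') E.N') := by
        refine (X2 _).mpr ((X3 _).mpr ?_)
        refine (fp_congr_submonoid ?_).mp h1
        rw [Algebra.algebraMapSubmonoid_powers, hh']
      have hopen : IsOpen (PrimeSpectrum.comap (algebraMap S E.S') ''
          (PrimeSpectrum.basicOpen h' : Set (PrimeSpectrum E.S'))) :=
        PrimeSpectrum.isOpenMap_comap_of_hasGoingDown_of_finitePresentation _
          (PrimeSpectrum.basicOpen h').isOpen
      have hqmem : (⟨q, inferInstance⟩ : PrimeSpectrum S) ∈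
          PrimeSpectrum.comap (algebraMap S E.S') ''
            (PrimeSpectrum.basicOpen h' : Set (PrimeSpectrum E.S')) :=
        ⟨⟨E.q', inferInstance⟩, hh'q', PrimeSpectrum.ext hqq'⟩
      obtain ⟨_, ⟨g, rfl⟩, hqg, hgU⟩ :=
        PrimeSpectrum.isTopologicalBasis_basic_opens.exists_subset_of_mem_open hqmem hopen
      refine ⟨g, hqg, ?_⟩
      have h3 : Module.FinitePresentation
          (Localization (Submonoid.powers (h' * algebraMap S E.S' g)))
          (LocalizedModule (Submonoid.powers (h' * algebraMap S E.S' g)) E.N') :=
        fp_id_of_units _ _ (isUnit_algebraMap_pow_of_mul_mem _ h' (algebraMap S E.S' g)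
          (Submonoid.mem_powers _)) h2
      have hT : ∀ t ∈ Submonoid.powers g, IsUnit (algebraMap E.S'
          (Localization (Submonoid.powers (h' * algebraMap S E.S' g))) (algebraMap S E.S' t)) := by
        rintro _ ⟨k, rfl⟩
        rw [map_pow, map_pow]
        refine (isUnit_algebraMap_of_mul_mem _ (algebraMap S E.S' g) h' ?_).pow k
        rw [mul_comm]
        exact Submonoid.mem_powers _
      refine (X1 _ _ hT).2 inferInstance ?_ h3
      intro P _ hP
      rw [Ideal.disjoint_powers_iff_notMem _ (Ideal.IsPrime.isRadical inferInstance)] at hP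
      obtain ⟨Q', hQ'mem, hQ'Q⟩ := hgU (show (⟨P, inferInstance⟩ : PrimeSpectrum S) ∈
        (PrimeSpectrum.basicOpen g : Set (PrimeSpectrum S)) from hP)
      have hQ'P : Q'.asIdeal.comap (algebraMap S E.S') = P :=
        congrArg PrimeSpectrum.asIdeal hQ'Q
      refine ⟨Q'.asIdeal, Q'.2, ?_, hQ'P⟩
      rw [Ideal.disjoint_powers_iff_notMem _ (Ideal.IsPrime.isRadical Q'.2)]
      intro hmem
      rcases Q'.2.mem_or_mem hmem with h4 | h4
      · exact hQ'mem h4
      · apply hP
        rw [← hQ'P, Ideal.mem_comap]
        exact h4
    tfae_finish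

end Main

end Groth.Agent.Lib.T2H2.ElemDevFP
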