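import Mathlib

/-!
# Étale neighbourhoods are dominated by finite flat covers (helper2)

Used for S1390: a standard étale algebra `R[X]_g/(f)` is dominated, locally on the finite free
splitting algebra of the monic polynomial `f`, by localizations of that splitting algebra.
-/

set_option autoImplicit false

namespace Groth.Agent.Lib.T2H2.EtaleDom

open Polynomial TensorProduct AlgebraicGeometry CategoryTheory Limits

universe u

/-- Over a pair of primes with the same contraction there is a prime of the tensor product. -/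
theorem exists_prime_tensor {R A B : Type u} [CommRing R] [CommRing A] [CommRing B]
    [Algebra R A] [Algebra R B]
    (p : Ideal A) [p.IsPrime] (q : Ideal B) [q.IsPrime]
    (h : p.comap (algebraMap R A) = q.comap (algebraMap R B)) :
    ∃ r : Ideal (A ⊗[R] B), r.IsPrime ∧
      r.comap (Algebra.TensorProduct.includeLeftRingHom (R := R) (A := A) (B := B)) = p ∧
      r.comap (Algebra.TensorProduct.includeRight (R := R) (A := A) (B := B)).toRingHom = q := by
  let x : Spec (.of A) := ⟨p, inferInstance⟩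
  let y : Spec (.of B) := ⟨q, inferInstance⟩
  have hxy : (Spec.map (CommRingCat.ofHom (algebraMap R A))) x =
      (Spec.map (CommRingCat.ofHom (algebraMap R B))) y := PrimeSpectrum.ext h
  obtain ⟨z, hz1, hz2⟩ := Scheme.Pullback.exists_preimage_pullback x y hxy
  let r := (pullbackSpecIso R A B).hom z
  refine ⟨r.asIdeal, r.isPrime, ?_, ?_⟩
  · have h1 : Spec.map (CommRingCat.ofHom
        (Algebra.TensorProduct.includeLeftRingHom (R := R) (A := A) (B := B))) r = x := by
      rw [← pullbackSpecIso_inv_fst, ← hz1]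
      simp only [r, ← Scheme.Hom.comp_apply, Iso.hom_inv_id_assoc]
    exact congrArg PrimeSpectrum.asIdeal h1
  · have h1 : Spec.map (CommRingCat.ofHom
        (Algebra.TensorProduct.includeRight (R := R) (A := A) (B := B)).toRingHom) r = y := by
      erw [← pullbackSpecIso_inv_snd, ← hz2]
      simp only [r, ← Scheme.Hom.comp_apply, Iso.hom_inv_id_assoc]
    exact congrArg PrimeSpectrum.asIdeal h1


/-- A standard étale algebra is dominated, locally on a finite free cover splitting the defining
monic polynomial, by localizations of that cover. -/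
theorem exists_finite_free_dominating {R S : Type u} [CommRing R] [Nontrivial R] [CommRing S]
    [Algebra R S] (P : StandardEtalePresentation R S) :
    ∃ (T : Type u) (_ : CommRing T) (_ : Algebra R T), Module.Finite R T ∧ Module.Free R T ∧
      Nontrivial T ∧
      ∀ (t : Ideal T) [t.IsPrime] (q : Ideal S) [q.IsPrime],
        t.comap (algebraMap R T) = q.comap (algebraMap R S) →
        ∃ (y : T) (σ : S →ₐ[R] Localization.Away y), y ∉ t ∧
          ∀ (t' : Ideal (Localization.Away y)) [t'.IsPrime],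
            t'.comap (algebraMap T (Localization.Away y)) = t → t'.comap σ.toRingHom = q := by
  obtain ⟨T, _, _, hfin, hfree, hnt, hsplit⟩ := P.monic_f.exists_splits_map
  rw [splits_iff_exists_multiset] at hsplit
  obtain ⟨m, hm⟩ := hsplit
  rw [(P.monic_f.map _).leadingCoeff, map_one, one_mul] at hm
  refine ⟨T, inferInstance, inferInstance, hfin, hfree, hnt, ?_⟩
  intro t _ q _ htq
  obtain ⟨r, hr, hr1, hr2⟩ := exists_prime_tensor t q htq
  let D := (T ⊗[R] S) ⧸ r
  let γT : T →ₐ[R] D := (Ideal.Quotient.mkₐ R r).comp Algebra.TensorProduct.includeLeft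
  let γS : S →ₐ[R] D := (Ideal.Quotient.mkₐ R r).comp Algebra.TensorProduct.includeRight
  have hkT : ∀ a : T, γT a = 0 ↔ a ∈ t := by
    intro a
    rw [← hr1]
    exact Ideal.Quotient.eq_zero_iff_mem
  have hkS : ∀ b : S, γS b = 0 ↔ b ∈ q := by
    intro b
    rw [← hr2]
    exact Ideal.Quotient.eq_zero_iff_mem
  -- the image of `x` in `D` is a root of `f`, hence equals the image of one of the roots
  have h0 : aeval (γS P.x) P.f = 0 := by
    rw [aeval_algHom_apply, P.hasMap.1, map_zero]
  have hmapD : P.f.map (algebraMap R D) = (m.map (fun a => X - C (γT a))).prod := by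
    have : algebraMap R D = (γT : T →+* D).comp (algebraMap R T) := by
      ext c; simp
    rw [this, ← Polynomial.map_map, hm, Polynomial.map_multiset_prod, Multiset.map_map]
    congr 1
    refine Multiset.map_congr rfl fun a _ => ?_
    simp
  obtain ⟨a, ham, ha⟩ : ∃ a ∈ m, γS P.x = γT a := by
    rw [aeval_def, eval₂_eq_eval_map, hmapD, eval_multiset_prod, Multiset.map_map,
      Multiset.prod_eq_zero_iff, Multiset.mem_map] at h0
    obtain ⟨a, ham, ha⟩ := h0
    refine ⟨a, ham, ?_⟩
    simpa [sub_eq_zero] using ha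
  -- `a` is a root of `f` in `T`
  have hroot : aeval a P.f = 0 := by
    rw [aeval_def, eval₂_eq_eval_map, hm, eval_multiset_prod, Multiset.map_map]
    exact Multiset.prod_eq_zero (Multiset.mem_map.mpr ⟨a, ham, by simp⟩)
  let y : T := aeval a P.g
  have hγy : γT y = γS (aeval P.x P.g) := by
    simp only [y]
    rw [← aeval_algHom_apply, ← aeval_algHom_apply, ha]
  have hunit : IsUnit (γT y) := by
    rw [hγy]
    exact P.hasMap.2.map γS
  have hyt : y ∉ t := by
    intro hy
    rw [← hkT] at hy
    rw [hy] at hunit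
    exact not_isUnit_zero hunit
  have hmap : P.HasMap (algebraMap T (Localization.Away y) a) := by
    refine ⟨?_, ?_⟩
    · rw [aeval_algebraMap_apply, hroot, map_zero]
    · rw [aeval_algebraMap_apply]
      exact IsLocalization.Away.algebraMap_isUnit y
  let σ : S →ₐ[R] Localization.Away y := (P.lift _ hmap).comp P.equivRing.toAlgHom
  have hσx : σ P.x = algebraMap T (Localization.Away y) a := by
    simp [σ]
  refine ⟨y, σ, hyt, ?_⟩
  intro t' _ ht'
  let Ω := FractionRing D
  let ι : D →ₐ[R] Ω := IsScalarTower.toAlgHom R D Ω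
  have hι : Function.Injective ι := IsFractionRing.injective D Ω
  have hu' : IsUnit ((ι.comp γT) y) := hunit.map ι
  let γ' : Localization.Away y →ₐ[R] Ω := IsLocalization.Away.liftAlgHom y hu'
  have hγ'T : ∀ c : T, γ' (algebraMap T _ c) = ι (γT c) := by
    intro c
    simp [γ']
  have hcomp : γ'.comp σ = ι.comp γS := by
    refine P.hom_ext ?_
    rw [AlgHom.comp_apply, hσx, hγ'T]
    exact (congrArg ι ha).symm
  have hker : RingHom.ker (γ' : Localization.Away y →+* Ω) = t' := by
    have h1 : (RingHom.ker (γ' : Localization.Away y →+* Ω)).comap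
        (algebraMap T (Localization.Away y)) = t := by
      ext c
      rw [Ideal.mem_comap, RingHom.mem_ker]
      change γ' _ = 0 ↔ _
      rw [hγ'T, ← hkT, map_eq_zero_iff ι hι]
    have e1 := IsLocalization.map_under (Submonoid.powers y) (Localization.Away y)
      (RingHom.ker (γ' : Localization.Away y →+* Ω))
    have e2 := IsLocalization.map_under (Submonoid.powers y) (Localization.Away y) t'
    rw [← e1, ← e2]
    congr 1
    exact h1.trans ht'.symm
  ext b
  rw [Ideal.mem_comap, ← hker, RingHom.mem_ker, ← hkS]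
  change (γ'.comp σ) b = 0 ↔ _
  rw [hcomp, AlgHom.comp_apply, map_eq_zero_iff ι hι]


/-- An étale neighbourhood is dominated, Zariski locally on a finite flat cover of an affine
neighbourhood of the base point, by that cover. -/
theorem exists_finite_flat_dominating {U S : Scheme.{u}} (e : U ⟶ S) [Etale e] (u : U) (s : S)
    (hu : e u = s) :
    ∃ (V : S.Opens) (T : Scheme.{u}) (π : T ⟶ (V : Scheme.{u})), s ∈ V ∧ IsAffineOpen V ∧
      Surjective π ∧ IsFinite π ∧ Flat π ∧ LocallyOfFinitePresentation π ∧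
      ∀ t : T, V.ι (π t) = s → ∃ (W : T.Opens) (h : (W : Scheme.{u}) ⟶ U), t ∈ W ∧
        h ≫ e = W.ι ≫ π ≫ V.ι ∧ ∀ ht : t ∈ W, h ⟨t, ht⟩ = u := by
  subst hu
  obtain ⟨_, ⟨V', hV', rfl⟩, hsV, -⟩ :=
    S.isBasis_affineOpens.exists_subset_of_mem_open (Set.mem_univ (e u)) isOpen_univ
  let V : S.Opens := V'
  have hV : IsAffineOpen V := hV'
  have huV : u ∈ (e ⁻¹ᵁ V : Set U) := hsV
  obtain ⟨_, ⟨U₁', hU₁', rfl⟩, huU₁, hU₁V⟩ :=
    U.isBasis_affineOpens.exists_subset_of_mem_open huV (e ⁻¹ᵁ V).isOpen
  let U₁ : U.Opens := U₁'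
  have hU₁ : IsAffineOpen U₁ := hU₁'
  have e₀ : U₁ ≤ e ⁻¹ᵁ V := hU₁V
  let φ := e.appLE V U₁ e₀
  let _ : Algebra Γ(S, V) Γ(U, U₁) := φ.hom.toAlgebra
  have hét : Algebra.Etale Γ(S, V) Γ(U, U₁) :=
    HasRingHomProperty.appLE @Etale e inferInstance ⟨V, hV⟩ ⟨U₁, hU₁⟩ e₀
  let qu := hU₁.primeIdealOf ⟨u, huU₁⟩
  let ps := hV.primeIdealOf ⟨e u, hsV⟩
  have hquu : hU₁.fromSpec qu = u := hU₁.fromSpec_primeIdealOf ⟨u, huU₁⟩
  have hpss : hV.fromSpec ps = e u := hV.fromSpec_primeIdealOf ⟨e u, hsV⟩
  have hqups : qu.asIdeal.comap φ.hom = ps.asIdeal := by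
    have := IsAffineOpen.comap_primeIdealOf_appLE (f := e) V hV U₁ hU₁ e₀ huU₁
    exact congrArg PrimeSpectrum.asIdeal this
  obtain ⟨f, hfq, hstd⟩ :=
    Algebra.IsEtaleAt.exists_isStandardEtale (R := Γ(S, V)) qu.asIdeal
  obtain ⟨P⟩ := hstd.nonempty_standardEtalePresentation
  have hntR : Nontrivial Γ(S, V) := by
    have h1 : Nonempty (PrimeSpectrum Γ(S, V)) := ⟨ps⟩
    exact PrimeSpectrum.nonempty_iff_nontrivial.mp h1
  obtain ⟨T, _, _, hfin, hfree, hnt, hdom⟩ := exists_finite_free_dominating P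
  let π₀ : Spec (.of T) ⟶ Spec Γ(S, V) := Spec.map (CommRingCat.ofHom (algebraMap Γ(S, V) T))
  let π : Spec (.of T) ⟶ (V : Scheme.{u}) := π₀ ≫ hV.isoSpec.inv
  have hπι : π ≫ V.ι = π₀ ≫ hV.fromSpec := by
    simp only [π, Category.assoc, IsAffineOpen.isoSpec_inv_ι]
  have hπ₀surj : Surjective π₀ := by
    constructor
    intro x
    obtain ⟨x', hx'⟩ := PrimeSpectrum.comap_surjective_of_faithfullyFlat (A := Γ(S, V)) (B := T) x
    exact ⟨x', hx'⟩
  have hπ₀fin : IsFinite π₀ := by
    rw [IsFinite.SpecMap_iff]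
    exact RingHom.finite_algebraMap.mpr hfin
  have hπ₀flat : Flat π₀ := by
    rw [Flat.SpecMap_iff]
    exact RingHom.flat_algebraMap_iff.mpr inferInstance
  have hπ₀fp : LocallyOfFinitePresentation π₀ := by
    rw [HasRingHomProperty.Spec_iff (P := @LocallyOfFinitePresentation)]
    have : Module.FinitePresentation Γ(S, V) T := Module.finitePresentation_of_projective _ _
    exact RingHom.finitePresentation_algebraMap.mpr inferInstance
  refine ⟨V, Spec (.of T), π, hsV, hV, inferInstance, inferInstance, inferInstance, inferInstance,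
    ?_⟩
  intro t ht
  -- the prime of `T` lies over the prime of `s`
  have ht1 : π₀ t = ps := by
    apply hV.fromSpec.isOpenEmbedding.injective
    rw [hpss, ← ht, ← Scheme.Hom.comp_apply, ← Scheme.Hom.comp_apply, hπι]
  have ht2 : t.asIdeal.comap (algebraMap Γ(S, V) T) = ps.asIdeal :=
    congrArg PrimeSpectrum.asIdeal ht1
  -- the prime of the standard étale chart
  have hdisj : Disjoint (Submonoid.powers f : Set Γ(U, U₁)) (qu.asIdeal : Set Γ(U, U₁)) :=
    (Ideal.disjoint_powers_iff_notMem_of_isPrime _).mpr hfq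
  let q' : Ideal (Localization.Away f) := Ideal.map (algebraMap Γ(U, U₁) (Localization.Away f))
    qu.asIdeal
  have hq'prime : q'.IsPrime :=
    IsLocalization.isPrime_of_isPrime_disjoint (Submonoid.powers f) _ _ qu.isPrime hdisj
  have hq'comap : q'.comap (algebraMap Γ(U, U₁) (Localization.Away f)) = qu.asIdeal :=
    IsLocalization.under_map_of_isPrime_disjoint (Submonoid.powers f) _ qu.isPrime hdisj
  have hq'R : q'.comap (algebraMap Γ(S, V) (Localization.Away f)) = ps.asIdeal := by
    rw [IsScalarTower.algebraMap_eq Γ(S, V) Γ(U, U₁) (Localization.Away f), ← Ideal.comap_comap,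
      hq'comap]
    exact hqups
  obtain ⟨y, σ, hyt, hσ⟩ := hdom t.asIdeal q' (ht2.trans hq'R.symm)
  let ιy : Spec (.of (Localization.Away y)) ⟶ Spec (.of T) :=
    Spec.map (CommRingCat.ofHom (algebraMap T (Localization.Away y)))
  let W : (Spec (.of T)).Opens := PrimeSpectrum.basicOpen y
  have hrange : Set.range W.ι ⊆ Set.range ιy := by
    rw [Scheme.Opens.range_ι]
    intro x hx
    have := PrimeSpectrum.localization_away_comap_range (Localization.Away y) y
    rw [Set.ext_iff] at this
    exact (this x).mpr hx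
  let j : (W : Scheme.{u}) ⟶ Spec (.of (Localization.Away y)) := IsOpenImmersion.lift ιy W.ι hrange
  have hj : j ≫ ιy = W.ι := IsOpenImmersion.lift_fac _ _ _
  let ψ : Γ(U, U₁) →+* Localization.Away y :=
    σ.toRingHom.comp (algebraMap Γ(U, U₁) (Localization.Away f))
  let h₀ : Spec (.of (Localization.Away y)) ⟶ U := Spec.map (CommRingCat.ofHom ψ) ≫ hU₁.fromSpec
  refine ⟨W, j ≫ h₀, hyt, ?_, ?_⟩
  · have h1 : hU₁.fromSpec ≫ e = Spec.map φ ≫ hV.fromSpec :=
      (IsAffineOpen.SpecMap_appLE_fromSpec e hV hU₁ e₀).symm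
    have h2 : Spec.map (CommRingCat.ofHom ψ) ≫ Spec.map φ = ιy ≫ π₀ := by
      rw [← Spec.map_comp, ← Spec.map_comp]
      congr 1
      ext r
      change σ (algebraMap Γ(U, U₁) (Localization.Away f) (algebraMap Γ(S, V) Γ(U, U₁) r)) =
        algebraMap T (Localization.Away y) (algebraMap Γ(S, V) T r)
      rw [← IsScalarTower.algebraMap_apply, ← IsScalarTower.algebraMap_apply, AlgHom.commutes]
    simp only [h₀, Category.assoc]
    rw [h1, reassoc_of% h2, reassoc_of% hj, hπι]
  · intro htW
    change h₀ (j ⟨t, htW⟩) = u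
    have hj1 : ιy (j ⟨t, htW⟩) = t := by
      rw [← Scheme.Hom.comp_apply, hj]
      rfl
    have hj2 : (j ⟨t, htW⟩).asIdeal.comap (algebraMap T (Localization.Away y)) = t.asIdeal :=
      congrArg PrimeSpectrum.asIdeal hj1
    have hj3 := hσ (j ⟨t, htW⟩).asIdeal hj2
    have hj4 : (Spec.map (CommRingCat.ofHom ψ)) (j ⟨t, htW⟩) = qu := by
      apply PrimeSpectrum.ext
      change Ideal.comap ψ (j ⟨t, htW⟩).asIdeal = _
      rw [← hq'comap, ← hj3, Ideal.comap_comap]
    change hU₁.fromSpec ((Spec.map (CommRingCat.ofHom ψ)) (j ⟨t, htW⟩)) = u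
    rw [hj4, hquu]

end Groth.Agent.Lib.T2H2.EtaleDom
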