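import Mathlib

/-!
# Lifting étale neighbourhoods from a fibre to the total space (algebra core)
-/
set_option autoImplicit false
universe u
open TensorProduct Polynomial
namespace Groth.Agent.Lib.T2H2.EtaleLiftFibre

section denom

variable {B Bb : Type u} [CommRing B] [CommRing Bb] [Algebra B Bb]

/-- Property (P): every element of `Bb` is a fraction of elements of `B` with unit denominator. -/
def FracProp (B Bb : Type u) [CommRing B] [CommRing Bb] [Algebra B Bb] : Prop :=
  ∀ β : Bb, ∃ t b : B, IsUnit (algebraMap B Bb t) ∧ algebraMap B Bb t * β = algebraMap B Bb b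

theorem exists_denom_finset (hP : FracProp B Bb) (s : Finset Bb) :
    ∃ t : B, IsUnit (algebraMap B Bb t) ∧ ∀ β ∈ s, ∃ b : B, algebraMap B Bb t * β = algebraMap B Bb b := by
  classical
  induction s using Finset.induction_on with
  | empty => exact ⟨1, by simp, by simp⟩
  | insert β s _ ih =>
    obtain ⟨t, ht, h⟩ := ih
    obtain ⟨t', b', ht', h'⟩ := hP β
    refine ⟨t * t', by rw [map_mul]; exact ht.mul ht', ?_⟩
    intro γ hγ
    rw [Finset.mem_insert] at hγ
    rcases hγ with rfl | hγ
    · exact ⟨t * b', by rw [map_mul, map_mul, mul_assoc, h']⟩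
    · obtain ⟨b, hb⟩ := h γ hγ
      exact ⟨t' * b, by rw [map_mul, map_mul, mul_comm (algebraMap B Bb t), mul_assoc, hb]⟩

theorem exists_denom_poly (hP : FracProp B Bb) (p q : Bb[X]) :
    ∃ t : B, IsUnit (algebraMap B Bb t) ∧
      (∀ n, ∃ b : B, algebraMap B Bb t * p.coeff n = algebraMap B Bb b) ∧
      (∀ n, ∃ b : B, algebraMap B Bb t * q.coeff n = algebraMap B Bb b) := by
  classical
  obtain ⟨t, ht, h⟩ := exists_denom_finset hP (p.support.image p.coeff ∪ q.support.image q.coeff)
  refine ⟨t, ht, fun n => ?_, fun n => ?_⟩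
  · by_cases hn : n ∈ p.support
    · exact h _ (Finset.mem_union_left _ (Finset.mem_image_of_mem _ hn))
    · exact ⟨0, by rw [Polynomial.notMem_support_iff.mp hn]; simp⟩
  · by_cases hn : n ∈ q.support
    · exact h _ (Finset.mem_union_right _ (Finset.mem_image_of_mem _ hn))
    · exact ⟨0, by rw [Polynomial.notMem_support_iff.mp hn]; simp⟩

end denom


section denom

variable {B Bb : Type u} [CommRing B] [CommRing Bb] [Algebra B Bb]

theorem mem_lifts_of_denom (t : B) (ht : IsUnit (algebraMap B Bb t)) (p : Bb[X])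
    (h : ∀ n, ∃ b : B, algebraMap B Bb t * p.coeff n = algebraMap B Bb b) :
    p ∈ Polynomial.lifts (IsLocalization.Away.lift (S := Localization.Away t) t ht) := by
  rw [Polynomial.lifts_iff_coeff_lifts]
  intro n
  obtain ⟨b, hb⟩ := h n
  refine ⟨IsLocalization.mk' (Localization.Away t) b (⟨t, Submonoid.mem_powers t⟩ : Submonoid.powers t), ?_⟩
  apply ht.mul_left_cancel
  rw [hb]
  have h1 : algebraMap B Bb t = IsLocalization.Away.lift (S := Localization.Away t) t ht
      (algebraMap B (Localization.Away t) t) := by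
    rw [IsLocalization.Away.lift_eq]
  rw [h1, ← map_mul, mul_comm]
  have h2 : IsLocalization.mk' (Localization.Away t) b (⟨t, Submonoid.mem_powers t⟩ : Submonoid.powers t) *
      algebraMap B (Localization.Away t) t = algebraMap B (Localization.Away t) b :=
    IsLocalization.mk'_spec (Localization.Away t) b ⟨t, Submonoid.mem_powers t⟩
  rw [h2, IsLocalization.Away.lift_eq]

end denom


section pair

variable {R : Type u} [CommRing R]

theorem hasMap_iff_of_g_mul_derivative (P P' : StandardEtalePair R) (hf : P'.f = P.f)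
    (hg : P'.g = P.g * derivative P.f) {S : Type u} [CommRing S] [Algebra R S] (x : S) :
    P'.HasMap x ↔ P.HasMap x := by
  constructor
  · rintro ⟨h1, h2⟩
    rw [hf] at h1
    rw [hg, map_mul] at h2
    exact ⟨h1, isUnit_of_mul_isUnit_left h2⟩
  · intro h
    refine ⟨by rw [hf]; exact h.1, ?_⟩
    rw [hg, map_mul]
    exact h.2.mul h.isUnit_derivative_f

theorem nonempty_algEquiv_of_g_mul_derivative (P P' : StandardEtalePair R) (hf : P'.f = P.f)
    (hg : P'.g = P.g * derivative P.f) : Nonempty (P'.Ring ≃ₐ[R] P.Ring) := by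
  have h1 : P'.HasMap P.X := (hasMap_iff_of_g_mul_derivative P P' hf hg P.X).mpr P.hasMap_X
  have h2 : P.HasMap P'.X := (hasMap_iff_of_g_mul_derivative P P' hf hg P'.X).mp P'.hasMap_X
  refine ⟨AlgEquiv.ofAlgHom (P'.lift P.X h1) (P.lift P'.X h2) ?_ ?_⟩
  · apply P.hom_ext
    simp [StandardEtalePair.lift_X]
  · apply P'.hom_ext
    simp [StandardEtalePair.lift_X]

end pair


section core

variable {B Bb : Type u} [CommRing B] [CommRing Bb] [Algebra B Bb]

theorem exists_lift_etale (hP : FracProp B Bb) (Cb : Type u) [CommRing Cb] [Algebra Bb Cb]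
    [Algebra.Etale Bb Cb] (q : Ideal Cb) [q.IsPrime] :
    ∃ (C : Type u) (_ : CommRing C) (_ : Algebra B C) (_ : Algebra.Etale B C) (h : Cb) (_ : h ∉ q)
      (e : C ⊗[B] Bb ≃+* Localization.Away h),
      ∀ β : Bb, e (1 ⊗ₜ β) = algebraMap Bb (Localization.Away h) β := by
  have hntC : Nontrivial Cb := ⟨⟨0, 1, fun h01 => (inferInstance : q.IsPrime).ne_top (by
    rw [Ideal.eq_top_iff_one, ← h01]; exact q.zero_mem)⟩⟩
  have hntB : Nontrivial Bb := (algebraMap Bb Cb).domain_nontrivial
  obtain ⟨h, hq, hstd⟩ := Algebra.IsEtaleAt.exists_isStandardEtale (R := Bb) q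
  obtain ⟨Pb⟩ := hstd.nonempty_standardEtalePresentation
  obtain ⟨t, ht, hf, hg⟩ := exists_denom_poly hP Pb.f Pb.g
  obtain ⟨f₀, hf₀, -, hf₀m⟩ := Polynomial.lifts_and_degree_eq_and_monic
    (mem_lifts_of_denom t ht Pb.f hf) Pb.monic_f
  obtain ⟨g₀, hg₀⟩ := (Polynomial.mem_lifts _).mp (mem_lifts_of_denom t ht Pb.g hg)
  let _ : Algebra (Localization.Away t) Bb :=
    (IsLocalization.Away.lift (S := Localization.Away t) t ht).toAlgebra
  have htower : IsScalarTower B (Localization.Away t) Bb := .of_algebraMap_eq' (by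
    ext b
    simp [RingHom.algebraMap_toAlgebra])
  let P : StandardEtalePair (Localization.Away t) :=
    { f := f₀, monic_f := hf₀m, g := g₀ * derivative f₀, cond := ⟨g₀, 0, 1, by ring⟩ }
  let _ : Algebra B P.Ring :=
    ((algebraMap (Localization.Away t) P.Ring).comp (algebraMap B (Localization.Away t))).toAlgebra
  have htower2 : IsScalarTower B (Localization.Away t) P.Ring := .of_algebraMap_eq' rfl
  have het1 : Algebra.Etale B (Localization.Away t) := Algebra.Etale.of_isLocalizationAway t
  have het : Algebra.Etale B P.Ring := Algebra.Etale.comp B (Localization.Away t) P.Ring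
  refine ⟨P.Ring, inferInstance, inferInstance, het, h, hq, ?_⟩
  let Q : StandardEtalePresentation (Localization.Away t) P.Ring :=
    ⟨P, P.X, P.hasMap_X, by simpa [StandardEtalePair.lift_X_left] using Function.bijective_id⟩
  let Qb : StandardEtalePresentation Bb (Bb ⊗[Localization.Away t] P.Ring) := Q.baseChange
  have hf' : Qb.P.f = Pb.f := hf₀
  have hg' : Qb.P.g = Pb.g * derivative Pb.f := by
    change (g₀ * derivative f₀).map _ = _
    rw [Polynomial.map_mul, ← Polynomial.derivative_map]
    have h1 : g₀.map (algebraMap (Localization.Away t) Bb) = Pb.g := hg₀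
    have h2 : f₀.map (algebraMap (Localization.Away t) Bb) = Pb.f := hf₀
    rw [h1, h2]
  obtain ⟨e₃⟩ := nonempty_algEquiv_of_g_mul_derivative Pb.P Qb.P hf' hg'
  have hcompat : TensorProduct.CompatibleSMul B (Localization.Away t) Bb P.Ring :=
    IsLocalization.tensorProduct_compatibleSMul (Submonoid.powers t) (Localization.Away t) Bb P.Ring
  let e₁ : Bb ⊗[Localization.Away t] P.Ring ≃ₐ[Bb] Bb ⊗[B] P.Ring :=
    Algebra.TensorProduct.equivOfCompatibleSMul B (Localization.Away t) Bb Bb P.Ring
  let E : Bb ⊗[B] P.Ring ≃ₐ[Bb] Localization.Away h :=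
    e₁.symm.trans (Qb.equivRing.trans (e₃.trans Pb.equivRing.symm))
  refine ⟨(Algebra.TensorProduct.comm B P.Ring Bb).toRingEquiv.trans E.toRingEquiv, fun β => ?_⟩
  have : (Algebra.TensorProduct.comm B P.Ring Bb) ((1 : P.Ring) ⊗ₜ[B] β) =
      algebraMap Bb (Bb ⊗[B] P.Ring) β := by
    simp [Algebra.TensorProduct.algebraMap_apply]
  change E ((Algebra.TensorProduct.comm B P.Ring Bb) ((1 : P.Ring) ⊗ₜ[B] β)) = _
  rw [this, E.commutes]

end core

end Groth.Agent.Lib.T2H2.EtaleLiftFibre
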