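import Groth.Agent.Lib.T2H2EtaleLiftFibre
import Groth.Prelude.Def_MoreMor

/-!
# Lifting étale neighbourhoods from a fibre to the total space (scheme part)
-/
set_option autoImplicit false
universe u
open TensorProduct CategoryTheory CategoryTheory.Limits AlgebraicGeometry
namespace Groth.Agent.Lib.T2H2.EtaleLiftFibre

theorem isPullback_comp_mono {C : Type*} [Category C] {P X Y Z W : C} {fst : P ⟶ X} {snd : P ⟶ Y}
    {f : X ⟶ Z} {g : Y ⟶ Z} (h : IsPullback fst snd f g) (i : Z ⟶ W) [Mono i] :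
    IsPullback fst snd (f ≫ i) (g ≫ i) :=
  ⟨⟨by rw [reassoc_of% h.w]⟩, ⟨PullbackCone.isLimitOfCompMono f g i _ h.isLimit⟩⟩

/-- the residue field of a point of an affine open is the fraction field of the image of sections -/
theorem exists_evaluation_mul_eq {S : Scheme.{u}} {W : S.Opens} (hW : IsAffineOpen W) (s : S)
    (hs : s ∈ W) (c : S.residueField s) :
    ∃ a a' : Γ(S, W), (S.presheaf.germ W s hs ≫ S.residue s) a' ≠ 0 ∧
      (S.presheaf.germ W s hs ≫ S.residue s) a' * c = (S.presheaf.germ W s hs ≫ S.residue s) a := by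
  obtain ⟨z, rfl⟩ := Scheme.residue_surjective S s c
  let _ := S.presheaf.algebra_section_stalk (⟨s, hs⟩ : W)
  have hloc := hW.isLocalization_stalk ⟨s, hs⟩
  obtain ⟨⟨a, a'⟩, h⟩ := IsLocalization.surj (hW.primeIdealOf ⟨s, hs⟩).asIdeal.primeCompl z
  have hu : IsUnit (algebraMap Γ(S, W) (S.presheaf.stalk s) a') :=
    IsLocalization.map_units (S.presheaf.stalk s) a'
  have hmap : ∀ b : Γ(S, W), algebraMap Γ(S, W) (S.presheaf.stalk s) b =
      S.presheaf.germ W s hs b := fun _ => rfl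
  refine ⟨a, a', ?_, ?_⟩
  · rw [CommRingCat.comp_apply, ← hmap]
    exact (hu.map (S.residue s).hom).ne_zero
  · rw [CommRingCat.comp_apply, CommRingCat.comp_apply, ← hmap, ← hmap, ← h, map_mul, mul_comm]


theorem fracProp_tensor {A B K : Type u} [CommRing A] [CommRing B] [CommRing K] [Algebra A B]
    [Algebra A K]
    (hK : ∀ c : K, ∃ a a' : A, IsUnit (algebraMap A K a') ∧
      algebraMap A K a' * c = algebraMap A K a) :
    FracProp B (B ⊗[A] K) := by
  have hunit : ∀ a' : A, IsUnit (algebraMap A K a') →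
      IsUnit (algebraMap B (B ⊗[A] K) (algebraMap A B a')) := by
    intro a' ha'
    have : algebraMap B (B ⊗[A] K) (algebraMap A B a') =
        (Algebra.TensorProduct.includeRight : K →ₐ[A] B ⊗[A] K) (algebraMap A K a') := by
      rw [Algebra.TensorProduct.algebraMap_apply, Algebra.algebraMap_self, RingHom.id_apply,
        Algebra.TensorProduct.includeRight_apply, Algebra.algebraMap_eq_smul_one,
        Algebra.algebraMap_eq_smul_one, TensorProduct.smul_tmul]
    rw [this]
    exact ha'.map _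
  intro β
  induction β using TensorProduct.induction_on with
  | zero => exact ⟨1, 0, by rw [map_one]; exact isUnit_one, by simp⟩
  | tmul b c =>
    obtain ⟨a, a', ha', h⟩ := hK c
    refine ⟨algebraMap A B a', a • b, hunit a' ha', ?_⟩
    rw [Algebra.TensorProduct.algebraMap_apply, Algebra.TensorProduct.algebraMap_apply,
      Algebra.algebraMap_self, RingHom.id_apply, RingHom.id_apply,
      Algebra.TensorProduct.tmul_mul_tmul, one_mul, Algebra.algebraMap_eq_smul_one, smul_mul_assoc,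
      one_mul, TensorProduct.smul_tmul, TensorProduct.smul_tmul a b (1 : K)]
    congr 1
    rw [Algebra.smul_def, h, Algebra.algebraMap_eq_smul_one]
  | add x y hx hy =>
    obtain ⟨t₁, b₁, ht₁, h₁⟩ := hx
    obtain ⟨t₂, b₂, ht₂, h₂⟩ := hy
    refine ⟨t₁ * t₂, t₂ * b₁ + t₁ * b₂, by rw [map_mul]; exact ht₁.mul ht₂, ?_⟩
    rw [mul_add, map_mul, map_add, map_mul, map_mul, ← h₁, ← h₂]
    ring

theorem exists_fibre_chart {X S : Scheme.{u}} (f : X ⟶ S) (x : X) :
    ∃ (B Bb : Type u) (_ : CommRing B) (_ : CommRing Bb) (_ : Algebra B Bb)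
      (j : Spec (.of B) ⟶ X) (lam : Spec (.of Bb) ⟶ f.fiber (f x)),
      IsOpenImmersion j ∧ FracProp B Bb ∧
      IsPullback (Spec.map (CommRingCat.ofHom (algebraMap B Bb))) lam j (f.fiberι (f x)) ∧
      x ∈ Set.range j := by
  obtain ⟨W, hW, hsW, -⟩ := TopologicalSpace.Opens.isBasis_iff_nbhd.mp S.isBasis_affineOpens
    (show f x ∈ (⊤ : S.Opens) from trivial)
  obtain ⟨U₀, hU₀, hxU, hUW⟩ := TopologicalSpace.Opens.isBasis_iff_nbhd.mp X.isBasis_affineOpens
    (show x ∈ f ⁻¹ᵁ W from hsW)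
  let a : Γ(S, W) ⟶ Γ(X, U₀) := f.appLE W U₀ hUW
  let k : Γ(S, W) ⟶ S.residueField (f x) := S.presheaf.germ W (f x) hsW ≫ S.residue (f x)
  let _ : Algebra Γ(S, W) Γ(X, U₀) := a.hom.toAlgebra
  let _ : Algebra Γ(S, W) (S.residueField (f x)) := k.hom.toAlgebra
  have hσ : Spec.map k ≫ hW.fromSpec = S.fromSpecResidueField (f x) := by
    simp only [k, Spec.map_comp, Category.assoc, Scheme.fromSpecResidueField]
    rw [← hW.fromSpecStalk_eq_fromSpecStalk hsW]
    rfl
  have hpush := CommRingCat.isPushout_tensorProduct Γ(S, W) Γ(X, U₀) (S.residueField (f x))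
  have hpb0 := isPullback_SpecMap_of_isPushout _ _ _ _ hpush
  have hpb1 := isPullback_comp_mono hpb0 hW.fromSpec
  have ha : Spec.map (CommRingCat.ofHom (algebraMap Γ(S, W) Γ(X, U₀))) ≫ hW.fromSpec =
      hU₀.fromSpec ≫ f := hW.SpecMap_appLE_fromSpec f hU₀ hUW
  have hk : Spec.map (CommRingCat.ofHom (algebraMap Γ(S, W) (S.residueField (f x)))) ≫
      hW.fromSpec = S.fromSpecResidueField (f x) := hσ
  rw [ha, hk] at hpb1
  have t := IsPullback.of_hasPullback f (S.fromSpecResidueField (f x))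
  have hpb2 := IsPullback.of_bot' hpb1 t
  refine ⟨Γ(X, U₀), Γ(X, U₀) ⊗[Γ(S, W)] (S.residueField (f x)), inferInstance, inferInstance,
    inferInstance, hU₀.fromSpec, _, inferInstance, ?_, hpb2, ?_⟩
  · apply fracProp_tensor
    intro c
    obtain ⟨a₁, a₂, h1, h2⟩ := exists_evaluation_mul_eq hW (f x) hsW c
    exact ⟨a₁, a₂, isUnit_iff_ne_zero.mpr h1, h2⟩
  · rw [hU₀.range_fromSpec]
    exact hxU


/-- the top square of fibres is a pullback -/
theorem isPullback_fiberMap {U X S : Scheme.{u}} (p : U ⟶ X) (f : X ⟶ S) (s : S) :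
    IsPullback ((p ≫ f).fiberι s) (MoreMor.fiberMap p f s) p (f.fiberι s) := by
  have t := IsPullback.of_hasPullback f (S.fromSpecResidueField s)
  have s' := IsPullback.of_hasPullback (p ≫ f) (S.fromSpecResidueField s)
  have h := IsPullback.of_bot' s' t
  have e : t.lift (pullback.fst (p ≫ f) (S.fromSpecResidueField s) ≫ p)
      (pullback.snd (p ≫ f) (S.fromSpecResidueField s))
      (by rw [Category.assoc, s'.w]) = MoreMor.fiberMap p f s := by
    apply pullback.hom_ext
    · rw [t.lift_fst]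
      exact (pullback.lift_fst _ _ _).symm
    · rw [t.lift_snd]
      exact (pullback.lift_snd _ _ _).symm
  rw [e] at h
  exact h

theorem exists_preimage_of_isPullback {P X Y Z : Scheme.{u}} {fst : P ⟶ X} {snd : P ⟶ Y}
    {f : X ⟶ Z} {g : Y ⟶ Z} (h : IsPullback fst snd f g) (x : X) (y : Y) (hxy : f x = g y) :
    ∃ z : P, fst z = x ∧ snd z = y := by
  obtain ⟨w, hw1, hw2⟩ := Scheme.Pullback.exists_preimage_pullback x y hxy
  refine ⟨h.isoPullback.inv w, ?_, ?_⟩
  · rw [← Scheme.Hom.comp_apply, h.isoPullback_inv_fst, hw1]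
  · rw [← Scheme.Hom.comp_apply, h.isoPullback_inv_snd, hw2]

theorem main {X S V : Scheme.{u}} (f : X ⟶ S) (x : X)
    (g : V ⟶ f.fiber (f x)) [Etale g] (v : V) (hv : g v = f.asFiber x) :
    ∃ (U : Scheme.{u}) (p : U ⟶ X) (u : U) (m : (p ≫ f).fiber (f x) ⟶ V)
      (u' : ↑((p ≫ f).fiber (f x))),
      Etale p ∧ p u = x ∧ IsOpenImmersion m ∧ m ≫ g = MoreMor.fiberMap p f (f x) ∧
      (p ≫ f).fiberι (f x) u' = u ∧ m u' = v := by
  obtain ⟨B, Bb, _, _, _, j, lam, hj, hP, hpb, hxj⟩ := exists_fibre_chart f x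
  have hlam : IsOpenImmersion lam := MorphismProperty.of_isPullback (P := @IsOpenImmersion) hpb hj
  obtain ⟨y, hy⟩ := hxj
  obtain ⟨z, -, hz⟩ := exists_preimage_of_isPullback hpb y (f.asFiber x)
    (by rw [hy, Scheme.Hom.fiberι_asFiber])
  obtain ⟨v', hv'1, hv'2⟩ := Scheme.Pullback.exists_preimage_pullback (f := g) (g := lam) v z
    (hv.trans hz.symm)
  obtain ⟨V₀, hV₀, hv'V₀, -⟩ := TopologicalSpace.Opens.isBasis_iff_nbhd.mp
    (pullback g lam).isBasis_affineOpens (show v' ∈ (⊤ : (pullback g lam).Opens) from trivial)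
  let ψ : CommRingCat.of Bb ⟶ Γ(pullback g lam, V₀) :=
    Spec.preimage (hV₀.fromSpec ≫ pullback.snd g lam)
  have hψ : Spec.map ψ = hV₀.fromSpec ≫ pullback.snd g lam := Spec.map_preimage _
  let _ : Algebra Bb Γ(pullback g lam, V₀) := ψ.hom.toAlgebra
  have hetale : Algebra.Etale Bb Γ(pullback g lam, V₀) := by
    have h1 : Etale (Spec.map ψ) := by rw [hψ]; infer_instance
    exact (HasRingHomProperty.Spec_iff (P := @Etale)).mp h1
  obtain ⟨q, hq⟩ : ∃ q : Spec Γ(pullback g lam, V₀), hV₀.fromSpec q = v' := by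
    have : v' ∈ Set.range hV₀.fromSpec := by rw [hV₀.range_fromSpec]; exact hv'V₀
    exact this
  obtain ⟨C, _, _, hC, h, hhq, e, he⟩ := exists_lift_etale hP Γ(pullback g lam, V₀) q.asIdeal
  -- the étale neighbourhood
  have hpC : Etale (Spec.map (CommRingCat.ofHom (algebraMap B C))) :=
    (HasRingHomProperty.Spec_iff (P := @Etale)).mpr (RingHom.etale_algebraMap.mpr hC)
  obtain ⟨p, hpdef⟩ : ∃ p : Spec (CommRingCat.of C) ⟶ X,
      p = Spec.map (CommRingCat.ofHom (algebraMap B C)) ≫ j := ⟨_, rfl⟩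
  have hp : Etale p := by rw [hpdef]; infer_instance
  -- the fibre of `U` as a spectrum
  have hpush := CommRingCat.isPushout_tensorProduct B C Bb
  have hpbT := isPullback_SpecMap_of_isPushout _ _ _ _ hpush
  have hpbU := (hpbT.flip.paste_horiz hpb.flip).flip
  rw [← hpdef] at hpbU
  have hfm := isPullback_fiberMap p f (f x)
  let θ := hfm.isoIsPullback _ _ hpbU
  have hθ1 : θ.hom ≫ Spec.map (CommRingCat.ofHom
      (Algebra.TensorProduct.includeLeftRingHom : C →+* C ⊗[B] Bb)) =
      (p ≫ f).fiberι (f x) :=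
    hfm.isoIsPullback_hom_fst _ _ hpbU
  have hθ2 : θ.hom ≫ Spec.map (CommRingCat.ofHom
      (Algebra.TensorProduct.includeRight : Bb →ₐ[B] C ⊗[B] Bb).toRingHom) ≫ lam =
      MoreMor.fiberMap p f (f x) :=
    hfm.isoIsPullback_hom_snd _ _ hpbU
  -- the morphism `m`
  let εiso := e.symm.toCommRingCatIso
  let m : (p ≫ f).fiber (f x) ⟶ V := θ.hom ≫ Spec.map εiso.hom ≫
    Spec.map (CommRingCat.ofHom (algebraMap Γ(pullback g lam, V₀) (Localization.Away h))) ≫
    hV₀.fromSpec ≫ pullback.fst g lam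
  have hm_open : IsOpenImmersion m := inferInstance
  have hring : ψ ≫ CommRingCat.ofHom (algebraMap Γ(pullback g lam, V₀) (Localization.Away h)) ≫
      εiso.hom = CommRingCat.ofHom
      (Algebra.TensorProduct.includeRight : Bb →ₐ[B] C ⊗[B] Bb).toRingHom := by
    ext β
    change e.symm (algebraMap Γ(pullback g lam, V₀) (Localization.Away h)
      (algebraMap Bb Γ(pullback g lam, V₀) β)) = (1 : C) ⊗ₜ[B] β
    rw [← IsScalarTower.algebraMap_apply, ← he, RingEquiv.symm_apply_apply]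
  have hmg : m ≫ g = MoreMor.fiberMap p f (f x) := by
    rw [← hθ2, ← hring]
    simp only [m, Category.assoc, Spec.map_comp]
    rw [pullback.condition, ← Category.assoc hV₀.fromSpec, ← hψ]
  -- the points
  obtain ⟨q', hq'⟩ : ∃ q' : Spec (CommRingCat.of (Localization.Away h)),
      Spec.map (CommRingCat.ofHom (algebraMap Γ(pullback g lam, V₀) (Localization.Away h))) q' = q := by
    have : q ∈ Set.range (PrimeSpectrum.comap
        (algebraMap Γ(pullback g lam, V₀) (Localization.Away h))) := by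
      rw [PrimeSpectrum.localization_away_comap_range (Localization.Away h) h]
      exact hhq
    exact this
  let φ := θ.hom ≫ Spec.map εiso.hom
  have hφ : φ (inv φ q') = q' := by
    rw [← Scheme.Hom.comp_apply, IsIso.inv_hom_id]
    rfl
  have hmu : m (inv φ q') = v := by
    have : m = φ ≫ Spec.map (CommRingCat.ofHom
        (algebraMap Γ(pullback g lam, V₀) (Localization.Away h))) ≫
        hV₀.fromSpec ≫ pullback.fst g lam := by
      simp only [m, φ, Category.assoc]
    rw [this, Scheme.Hom.comp_apply, hφ, Scheme.Hom.comp_apply, hq', Scheme.Hom.comp_apply, hq, hv'1]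
  refine ⟨Spec (CommRingCat.of C), p, (p ≫ f).fiberι (f x) (inv φ q'), m, inv φ q', hp, ?_,
    hm_open, hmg, rfl, hmu⟩
  rw [← Scheme.Hom.comp_apply, hfm.w, Scheme.Hom.comp_apply, ← hmg, Scheme.Hom.comp_apply, hmu, hv,
    Scheme.Hom.fiberι_asFiber]


end Groth.Agent.Lib.T2H2.EtaleLiftFibre
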