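/-
helper2 (team 2): an immersion of a compact scheme into an affine scheme, locally of finite type over an affine base,
remains an immersion after replacing the affine target by any affine scheme under it whose ring of functions
contains finitely many prescribed functions (EGA IV 8.10.5-style "stage" lemma, affine core).
-/
import Mathlib

set_option autoImplicit false
universe u
open CategoryTheory CategoryTheory.Limits AlgebraicGeometry TopologicalSpace Opposite

namespace Groth.Agent.Lib.T2H2.ImmStage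


variable {X Z : Scheme.{u}}

theorem isIso_ι_of_eq_top (T : X.Opens) (hT : T = ⊤) : IsIso T.ι := by
  subst hT; exact (inferInstance : IsIso X.topIso.hom)

/-- gluing: a target-local property stable under postcomposition with open immersions can be checked
on a family of opens of the target whose preimages cover the source. -/
theorem of_restrict_cover (P : MorphismProperty Scheme.{u}) [IsZariskiLocalAtTarget P]
    (hP : ∀ {A B C : Scheme.{u}} (a : A ⟶ B) (b : B ⟶ C) [IsOpenImmersion b], P a → P (a ≫ b))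
    (h : X ⟶ Z) {ι : Type*} (V : ι → Z.Opens) (hcov : ⨆ i, h ⁻¹ᵁ V i = ⊤)
    (hV : ∀ i, P (h ∣_ V i)) : P h := by
  let W : Z.Opens := ⨆ i, V i
  have hW : h ⁻¹ᵁ W = ⊤ := by
    rw [eq_top_iff, ← hcov]
    exact iSup_le fun i => h.preimage_mono (le_iSup V i)
  have hPW : P (h ∣_ W) := by
    rw [IsZariskiLocalAtTarget.iff_of_iSup_eq_top (P := P) (fun i => W.ι ⁻¹ᵁ V i)]
    · intro i
      rw [MorphismProperty.arrow_mk_iso_iff P (morphismRestrictRestrict h W (W.ι ⁻¹ᵁ V i))]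
      have e : W.ι ''ᵁ (W.ι ⁻¹ᵁ V i) = V i := by
        rw [Scheme.Hom.image_preimage_eq_opensRange_inf, Scheme.Opens.opensRange_ι]
        exact inf_eq_right.2 (le_iSup V i)
      rw [MorphismProperty.arrow_mk_iso_iff P (morphismRestrictEq h e)]
      exact hV i
    · rw [eq_top_iff]
      rintro ⟨x, hx⟩ -
      obtain ⟨i, hi⟩ := TopologicalSpace.Opens.mem_iSup.1 hx
      exact TopologicalSpace.Opens.mem_iSup.2 ⟨i, hi⟩
  have : IsIso (h ⁻¹ᵁ W).ι := isIso_ι_of_eq_top _ hW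
  rw [← MorphismProperty.cancel_left_of_respectsIso P (h ⁻¹ᵁ W).ι, ← morphismRestrict_ι]
  exact hP _ _ hPW



/-- data at a basic open of the affine target: finitely many global functions controlling the ring of functions on
the preimage -/
theorem exists_finset_basic {X Z B : Scheme.{u}} [IsAffine Z] [IsAffine B]
    (g : X ⟶ Z) (p : Z ⟶ B) [LocallyOfFiniteType (g ≫ p)] (a : Γ(Z, ⊤))
    (haff : IsAffineOpen (g ⁻¹ᵁ Z.basicOpen a))
    (hsurj : Function.Surjective (g.app (Z.basicOpen a)).hom) :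
    ∃ T : Finset Γ(Z, ⊤), ∀ (V : Z.Opens) (_ : V = Z.basicOpen a) (S : Subring Γ(X, g ⁻¹ᵁ V)),
      (∀ r : Γ(B, ⊤), ((g ≫ p).appLE ⊤ (g ⁻¹ᵁ V) (fun _ _ => trivial)).hom r ∈ S) →
      (∀ c ∈ T, ∀ (n : ℕ) (z : Γ(Z, V)),
        z * ((Z.presheaf.map (homOfLE (le_top : V ≤ ⊤)).op).hom a) ^ n =
          (Z.presheaf.map (homOfLE (le_top : V ≤ ⊤)).op).hom c → (g.app V).hom z ∈ S) →
      S = ⊤ := by
  classical
  have hft : ((g ≫ p).appLE ⊤ (g ⁻¹ᵁ Z.basicOpen a) (fun _ _ => trivial)).hom.FiniteType :=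
    (g ≫ p).finiteType_appLE (isAffineOpen_top B) haff _
  let alg : Algebra Γ(B, ⊤) Γ(X, g ⁻¹ᵁ Z.basicOpen a) :=
    ((g ≫ p).appLE ⊤ (g ⁻¹ᵁ Z.basicOpen a) (fun _ _ => trivial)).hom.toAlgebra
  obtain ⟨G, hG⟩ := (show Algebra.FiniteType Γ(B, ⊤) Γ(X, g ⁻¹ᵁ Z.basicOpen a) from hft).out
  have hloc := (isAffineOpen_top Z).isLocalization_of_eq_basicOpen a
    (homOfLE (le_top : Z.basicOpen a ≤ ⊤)) rfl
  let algZ : Algebra Γ(Z, ⊤) Γ(Z, Z.basicOpen a) :=
    (Z.presheaf.map (homOfLE (le_top : Z.basicOpen a ≤ ⊤)).op).hom.toAlgebra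
  -- choose preimages and numerators
  have hex : ∀ b : Γ(X, g ⁻¹ᵁ Z.basicOpen a), ∃ (c : Γ(Z, ⊤)) (n : ℕ) (z : Γ(Z, Z.basicOpen a)),
      (g.app (Z.basicOpen a)).hom z = b ∧
      z * ((Z.presheaf.map (homOfLE (le_top : Z.basicOpen a ≤ ⊤)).op).hom a) ^ n =
          (Z.presheaf.map (homOfLE (le_top : Z.basicOpen a ≤ ⊤)).op).hom c := by
    intro b
    obtain ⟨z, hz⟩ := hsurj b
    obtain ⟨n, c, hc⟩ := IsLocalization.Away.surj (S := Γ(Z, Z.basicOpen a)) a z
    exact ⟨c, n, z, hz, hc⟩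
  choose cf nf zf hzf hcf using hex
  refine ⟨G.image cf, ?_⟩
  intro V hV S h1 h2
  subst hV
  rw [eq_top_iff]
  rintro x -
  have hx : x ∈ Algebra.adjoin Γ(B, ⊤) (G : Set Γ(X, g ⁻¹ᵁ Z.basicOpen a)) := by
    rw [hG]; trivial
  induction hx using Algebra.adjoin_induction with
  | mem b hb =>
    rw [← hzf b]
    exact h2 (cf b) (Finset.mem_image_of_mem _ hb) (nf b) (zf b) (hcf b)
  | algebraMap r => exact h1 r
  | add x y _ _ hx hy => exact S.add_mem hx hy
  | mul x y _ _ hx hy => exact S.mul_mem hx hy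



theorem surjective_app_of_eq {X Y : Scheme.{u}} (f : X ⟶ Y) {U U' : Y.Opens} (e : U' = U)
    (h : Function.Surjective (f.app U).hom) : Function.Surjective (f.app U').hom := by
  subst e; exact h

theorem surjective_appTop_restrict {X Y : Scheme.{u}} (f : X ⟶ Y) (U : Y.Opens)
    (h : Function.Surjective (f.app U).hom) : Function.Surjective (f ∣_ U).appTop.hom := by
  intro b
  obtain ⟨b1, hb1⟩ := (ConcreteCategory.bijective_of_isIso
    (X.presheaf.map (eqToHom (image_morphismRestrict_preimage f U ⊤)).op)).2 b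
  obtain ⟨y, hy⟩ := surjective_app_of_eq f (U' := U.ι ''ᵁ ⊤) (by simp) h b1
  refine ⟨y, ?_⟩
  rw [morphismRestrict_appTop]
  exact (congrArg _ hy).trans hb1

/-- the restriction of `g ≫ ψ` over a basic open `D(a')` is a closed immersion, when the finitely many functions
controlling `g` over `D(ψ^♯ a')` are in the image of `ψ^♯`. -/
theorem isClosedImmersion_restrict_stage {X Z Z' B : Scheme.{u}} [IsAffine Z] [IsAffine Z']
    (g : X ⟶ Z) (p : Z ⟶ B) (ψ : Z ⟶ Z') (p' : Z' ⟶ B) (hp : ψ ≫ p' = p) (a' : Γ(Z', ⊤))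
    (T : Finset Γ(Z, ⊤))
    (hT : ∀ (V : Z.Opens) (_ : V = Z.basicOpen (ψ.appTop.hom a')) (S : Subring Γ(X, g ⁻¹ᵁ V)),
      (∀ r : Γ(B, ⊤), ((g ≫ p).appLE ⊤ (g ⁻¹ᵁ V) (fun _ _ => trivial)).hom r ∈ S) →
      (∀ c ∈ T, ∀ (n : ℕ) (z : Γ(Z, V)),
        z * ((Z.presheaf.map (homOfLE (le_top : V ≤ ⊤)).op).hom (ψ.appTop.hom a')) ^ n =
          (Z.presheaf.map (homOfLE (le_top : V ≤ ⊤)).op).hom c → (g.app V).hom z ∈ S) →
      S = ⊤)
    (haff : IsAffineOpen (g ⁻¹ᵁ Z.basicOpen (ψ.appTop.hom a')))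
    (hTr : ∀ t ∈ T, t ∈ Set.range ψ.appTop.hom) :
    IsClosedImmersion ((g ≫ ψ) ∣_ Z'.basicOpen a') := by
  subst hp
  have hV : ψ ⁻¹ᵁ Z'.basicOpen a' = Z.basicOpen (ψ.appTop.hom a') := Scheme.preimage_basicOpen_top ψ a'
  have : IsAffine (Z'.basicOpen a').toScheme := (isAffineOpen_top Z').basicOpen a'
  rw [HasAffineProperty.iff_of_isAffine (P := @IsClosedImmersion)]
  refine ⟨?_, ?_⟩
  · change IsAffineOpen (g ⁻¹ᵁ (ψ ⁻¹ᵁ Z'.basicOpen a'))
    rw [hV]; exact haff
  · apply surjective_appTop_restrict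
    rw [← RingHom.range_eq_top, Scheme.Hom.comp_app]
    let res' : Γ(Z', ⊤) ⟶ Γ(Z', Z'.basicOpen a') := Z'.presheaf.map (homOfLE le_top).op
    have hnat : ∀ x : Γ(Z', ⊤), (ψ.app (Z'.basicOpen a')).hom (res'.hom x) =
        (Z.presheaf.map (homOfLE (le_top : ψ ⁻¹ᵁ Z'.basicOpen a' ≤ ⊤)).op).hom (ψ.appTop.hom x) := by
      intro x
      have := ψ.naturality (homOfLE (le_top : Z'.basicOpen a' ≤ ⊤)).op
      exact congrArg (fun φ => φ.hom x) this
    apply hT (ψ ⁻¹ᵁ Z'.basicOpen a') hV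
    · intro r
      have e1 : (g ≫ ψ ≫ p').appLE ⊤ (g ⁻¹ᵁ (ψ ⁻¹ᵁ Z'.basicOpen a')) (fun _ _ => trivial) =
          p'.appLE ⊤ (Z'.basicOpen a') (fun _ _ => trivial) ≫ (g ≫ ψ).app (Z'.basicOpen a') := by
        rw [Scheme.Hom.app_eq_appLE, Scheme.Hom.appLE_comp_appLE]
        simp only [Category.assoc]
        rfl
      rw [e1]
      exact ⟨_, rfl⟩
    · intro c hc n z hz
      obtain ⟨c', rfl⟩ := hTr c hc
      have hu : IsUnit (res'.hom a') := Z'.toRingedSpace.isUnit_res_basicOpen a'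
      obtain ⟨w, hw⟩ := hu
      have hz' : z = (ψ.app (Z'.basicOpen a')).hom (res'.hom c' * ((w⁻¹ : (Γ(Z', Z'.basicOpen a'))ˣ) : Γ(Z', Z'.basicOpen a')) ^ n) := by
        have hwa : (ψ.app (Z'.basicOpen a')).hom (w : Γ(Z', Z'.basicOpen a')) =
            (Z.presheaf.map (homOfLE (le_top : ψ ⁻¹ᵁ Z'.basicOpen a' ≤ ⊤)).op).hom (ψ.appTop.hom a') := by
          rw [hw]; exact hnat a'
        rw [map_mul, map_pow, hnat c', ← hz, mul_assoc, ← hwa, ← mul_pow, ← map_mul]
        simp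
      rw [hz']
      exact ⟨_, rfl⟩




/-- over an affine open inside the coborder of its range, an immersion is (affine-locally) a closed immersion -/
theorem affine_surj_of_le_coborderRange {X Z : Scheme.{u}} (g : X ⟶ Z) [IsImmersion g] (V : Z.Opens)
    (hV : IsAffineOpen V) (hle : V ≤ g.coborderRange) :
    IsAffineOpen (g ⁻¹ᵁ V) ∧ Function.Surjective (g.app V).hom := by
  let W := g.coborderRange
  let V₀ : W.toScheme.Opens := W.ι ⁻¹ᵁ V
  have hVV : W.ι ''ᵁ V₀ = V := by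
    rw [Scheme.Hom.image_preimage_eq_opensRange_inf, Scheme.Opens.opensRange_ι]
    exact inf_eq_right.2 hle
  have hV₀ : IsAffineOpen V₀ := by
    rw [← Scheme.Hom.isAffineOpen_iff_of_isOpenImmersion W.ι, hVV]; exact hV
  have hpre : g.liftCoborder ⁻¹ᵁ V₀ = g ⁻¹ᵁ V := by
    rw [Scheme.Hom.liftCoborder_preimage, hVV]
  refine ⟨?_, ?_⟩
  · rw [← hpre]; exact hV₀.preimage g.liftCoborder
  · have h1 : Function.Surjective (g.liftCoborder.app V₀).hom := g.liftCoborder.app_surjective V₀ hV₀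
    rw [liftCoborder_app] at h1
    have h2 : Function.Surjective (g.app (W.ι ''ᵁ V₀)).hom := by
      intro b
      obtain ⟨y, hy⟩ := h1 ((X.presheaf.map (eqToHom (g.liftCoborder_preimage V₀)).op).hom b)
      refine ⟨y, ?_⟩
      exact (ConcreteCategory.bijective_of_isIso
        (X.presheaf.map (eqToHom (g.liftCoborder_preimage V₀)).op)).1 hy
    exact surjective_app_of_eq g hVV.symm h2

/-- a compact source of an immersion into an affine scheme is covered by finitely many preimages of basic opens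
lying in the coborder of the range -/
theorem exists_finset_cover {X Z : Scheme.{u}} [CompactSpace X] [IsAffine Z] (g : X ⟶ Z) [IsImmersion g] :
    ∃ F : Finset Γ(Z, ⊤), (∀ a ∈ F, Z.basicOpen a ≤ g.coborderRange) ∧
      (⨆ a : F, g ⁻¹ᵁ Z.basicOpen a.1) = ⊤ := by
  classical
  have hx : ∀ x : X, ∃ a : Γ(Z, ⊤), g x ∈ Z.basicOpen a ∧ Z.basicOpen a ≤ g.coborderRange := by
    intro x
    have hxW : g x ∈ g.coborderRange := by
      have := g.liftCoborder_ι
      have h2 : g x = g.coborderRange.ι (g.liftCoborder x) := by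
        conv_lhs => rw [← this]
        rfl
      rw [h2]
      exact (g.liftCoborder x).2
    obtain ⟨_, ⟨_, ⟨a, rfl⟩, rfl⟩, hxa, hle⟩ :=
      (isBasis_basicOpen Z).exists_subset_of_mem_open hxW g.coborderRange.2
    exact ⟨a, hxa, hle⟩
  choose a ha hle using hx
  obtain ⟨t, ht⟩ := isCompact_univ.elim_finite_subcover (fun x : X => ((g ⁻¹ᵁ Z.basicOpen (a x) : X.Opens) : Set X))
    (fun x => (g ⁻¹ᵁ Z.basicOpen (a x)).2) (fun x _ => Set.mem_iUnion.2 ⟨x, ha x⟩)
  refine ⟨t.image a, ?_, ?_⟩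
  · intro b hb
    obtain ⟨x, _, rfl⟩ := Finset.mem_image.1 hb
    exact hle x
  · rw [eq_top_iff]
    intro x _
    obtain ⟨y, hy⟩ := Set.mem_iUnion.1 (ht (Set.mem_univ x))
    obtain ⟨hyt, hxy⟩ := Set.mem_iUnion.1 hy
    exact TopologicalSpace.Opens.mem_iSup.2 ⟨⟨a y, Finset.mem_image_of_mem _ hyt⟩, hxy⟩


/-- **affine stage lemma**: `g : X ⟶ Z` an immersion, `X` compact, `Z`, `B` affine, `g ≫ p` locally of finite type.
There are finitely many global functions on `Z` such that for every morphism `ψ : Z ⟶ Z'` of affine `B`-schemes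
whose `ψ^♯` hits them, `g ≫ ψ` is still an immersion. -/
theorem exists_finset_stage {X Z B : Scheme.{u}} [CompactSpace X] [IsAffine Z] [IsAffine B]
    (g : X ⟶ Z) (p : Z ⟶ B) [IsImmersion g] [LocallyOfFiniteType (g ≫ p)] :
    ∃ T : Finset Γ(Z, ⊤), ∀ (Z' : Scheme.{u}) [IsAffine Z'] (ψ : Z ⟶ Z') (p' : Z' ⟶ B), ψ ≫ p' = p →
      (∀ t ∈ T, t ∈ Set.range ψ.appTop.hom) → IsImmersion (g ≫ ψ) := by
  classical
  obtain ⟨F, hF, hcov⟩ := exists_finset_cover g
  have hdata : ∀ a : Γ(Z, ⊤), a ∈ F → IsAffineOpen (g ⁻¹ᵁ Z.basicOpen a) ∧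
      Function.Surjective (g.app (Z.basicOpen a)).hom := fun a ha =>
    affine_surj_of_le_coborderRange g _ ((isAffineOpen_top Z).basicOpen a) (hF a ha)
  have hT := fun a : F => exists_finset_basic g p a.1 (hdata a.1 a.2).1 (hdata a.1 a.2).2
  choose Tf hTf using hT
  refine ⟨F ∪ F.attach.biUnion Tf, ?_⟩
  intro Z' _ ψ p' hp hr
  have ha' : ∀ a : F, ∃ a' : Γ(Z', ⊤), ψ.appTop.hom a' = a.1 := fun a =>
    hr a.1 (Finset.mem_union_left _ a.2)
  choose a' ha' using ha'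
  refine of_restrict_cover @IsImmersion (fun a b _ h => ?_) (g ≫ ψ)
    (fun a : F => Z'.basicOpen (a' a)) ?_ ?_
  · have : IsImmersion a := h
    infer_instance
  · have : ∀ a : F, (g ≫ ψ) ⁻¹ᵁ Z'.basicOpen (a' a) = g ⁻¹ᵁ Z.basicOpen a.1 := by
      intro a
      rw [Scheme.Hom.comp_preimage, Scheme.preimage_basicOpen_top, ha']
    simp_rw [this]
    exact hcov
  · intro a
    have := isClosedImmersion_restrict_stage g p ψ p' hp (a' a) (Tf a)
      (by rw [ha' a]; exact hTf a) (by rw [ha' a]; exact (hdata a.1 a.2).1)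
      (fun t ht => hr t (Finset.mem_union_right _
        (Finset.mem_biUnion.2 ⟨a, Finset.mem_attach _ _, ht⟩)))
    infer_instance

end Groth.Agent.Lib.T2H2.ImmStage
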