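import Mathlib

/-!
# helper6 (team 2): Chow's lemma — general lemmas on scheme-theoretic images and immersions
-/

set_option autoImplicit false
set_option linter.unusedSectionVars false
universe u

open CategoryTheory CategoryTheory.Limits AlgebraicGeometry TopologicalSpace Opposite

namespace Groth.Agent.Lib.T2H6.ChowGen

/-- the canonical map to the scheme-theoretic image is scheme-theoretically dominant. -/
theorem isSchemeTheoreticallyDominant_toImage {X Y : Scheme.{u}} (f : X ⟶ Y) [QuasiCompact f] :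
    IsSchemeTheoreticallyDominant f.toImage := by
  rw [isSchemeTheoreticallyDominant_iff]
  refine Scheme.IdealSheafData.ext_of_iSup_eq_top
    (fun U : Y.affineOpens => (⟨f.imageι ⁻¹ᵁ U.1, U.2.preimage f.imageι⟩ : f.image.affineOpens)) ?_ ?_
  · rw [eq_top_iff]
    intro x _
    obtain ⟨V, hV, hxV, -⟩ := exists_isAffineOpen_mem_and_subset (X := Y) (x := f.imageι x)
      (U := ⊤) trivial
    exact Opens.mem_iSup.2 ⟨⟨V, hV⟩, hxV⟩
  · intro U
    rw [Scheme.Hom.ker_apply, Scheme.IdealSheafData.ideal_bot]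
    exact (RingHom.injective_iff_ker_eq_bot _).1 (f.toImage_app_injective U)

/-- restriction of a scheme-theoretically dominant quasi-compact morphism to an open of the target. -/
theorem isSchemeTheoreticallyDominant_morphismRestrict {X Y : Scheme.{u}} (t : X ⟶ Y)
    [IsSchemeTheoreticallyDominant t] [QuasiCompact t] (V : Y.Opens) :
    IsSchemeTheoreticallyDominant (t ∣_ V) :=
  IsSchemeTheoreticallyDominant.of_isPullback (isPullback_morphismRestrict t V).flip

/-- two morphisms to a separated `Z`-scheme that agree over `Z` and on a scheme-theoretically dominant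
morphism agree. -/
theorem ext_of_isSchemeTheoreticallyDominant {W X Y Z : Scheme.{u}} {f g : X ⟶ Y}
    (s : Y ⟶ Z) [IsSeparated s] (h : f ≫ s = g ≫ s)
    (ι : W ⟶ X) [IsSchemeTheoreticallyDominant ι] (hU : ι ≫ f = ι ≫ g) : f = g := by
  let X' : Over Z := Over.mk (f ≫ s)
  let Y' : Over Z := Over.mk s
  let U' : Over Z := Over.mk (ι ≫ f ≫ s)
  let f' : X' ⟶ Y' := Over.homMk f
  let g' : X' ⟶ Y' := Over.homMk g
  let ι' : U' ⟶ X' := Over.homMk ι
  have : IsSeparated Y'.hom := ‹_›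
  have hlift : (equalizer.lift (f := f') (g := g') ι' (by ext1; exact hU)).left ≫
      (equalizer.ι f' g').left = ι := by
    rw [← Over.comp_left, equalizer.lift_ι]
    rfl
  have hker : (equalizer.ι f' g').left.ker = ⊥ := by
    rw [eq_bot_iff]
    have h1 := Scheme.Hom.le_ker_comp
      (equalizer.lift (f := f') (g := g') ι' (by ext1; exact hU)).left (equalizer.ι f' g').left
    rw [hlift, IsSchemeTheoreticallyDominant.ker_eq_bot ι] at h1
    exact h1
  have := (IsClosedImmersion.isIso_iff_ker_eq_bot (f := (equalizer.ι f' g').left)).2 hker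
  rw [← cancel_epi (equalizer.ι f' g').left]
  exact congr($(equalizer.condition f' g').left)

/-- if the restriction of `h` over an open `Y₀` factors through a closed subscheme of `Y₀`, so does the
restriction of the scheme-theoretic image of `h`. -/
theorem exists_lift_image_restrict {U Y Z : Scheme.{u}} (h : U ⟶ Y) [QuasiCompact h] (Y₀ : Y.Opens)
    (z : Z ⟶ (Y₀ : Scheme.{u})) [IsClosedImmersion z]
    (g : ((h ⁻¹ᵁ Y₀ : U.Opens) : Scheme.{u}) ⟶ Z) (hg : g ≫ z = h ∣_ Y₀) :
    ∃ g' : ((h.imageι ⁻¹ᵁ Y₀ : h.image.Opens) : Scheme.{u}) ⟶ Z, g' ≫ z = h.imageι ∣_ Y₀ := by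
  haveI := isSchemeTheoreticallyDominant_toImage h
  have hcomp : ∀ (h' : U ⟶ Y) (e : h' = h), z.ker ≤ (h' ∣_ Y₀).ker := by
    rintro h' rfl
    rw [← hg]
    exact Scheme.Hom.le_ker_comp _ _
  haveI := isSchemeTheoreticallyDominant_morphismRestrict h.toImage (h.imageι ⁻¹ᵁ Y₀)
  have h0 : z.ker ≤ ((h.toImage ∣_ h.imageι ⁻¹ᵁ Y₀) ≫ (h.imageι ∣_ Y₀)).ker :=
    (hcomp (h.toImage ≫ h.imageι) h.toImage_imageι).trans
      (le_of_eq (congrArg Scheme.Hom.ker (morphismRestrict_comp h.toImage h.imageι Y₀)))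
  have h2 : ((h.toImage ∣_ h.imageι ⁻¹ᵁ Y₀) ≫ (h.imageι ∣_ Y₀)).ker = (h.imageι ∣_ Y₀).ker := by
    rw [Scheme.Hom.ker_comp, IsSchemeTheoreticallyDominant.ker_eq_bot (h.toImage ∣_ h.imageι ⁻¹ᵁ Y₀),
      Scheme.IdealSheafData.map_bot]
  have h1 : z.ker ≤ (h.imageι ∣_ Y₀).ker := h0.trans (le_of_eq h2)
  exact ⟨IsClosedImmersion.lift z (h.imageι ∣_ Y₀) h1, IsClosedImmersion.lift_fac _ _ _⟩

/-- a morphism which restricts to closed immersions over opens of the target whose preimages cover the source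
is an immersion. -/
theorem isImmersion_of_closedImmersion_cover {X P : Scheme.{u}} (ψ : X ⟶ P) {κ : Type*}
    (W : κ → P.Opens) (hcov : ∀ x : X, ∃ i, ψ x ∈ W i) (h : ∀ i, IsClosedImmersion (ψ ∣_ W i)) :
    IsImmersion ψ := by
  set W₀ : P.Opens := ⨆ i, W i with hW₀
  have hrange : Set.range ψ ⊆ Set.range W₀.ι := by
    rintro _ ⟨x, rfl⟩
    obtain ⟨i, hi⟩ := hcov x
    rw [Scheme.Opens.range_ι]
    exact Opens.mem_iSup.2 ⟨i, hi⟩
  set g := IsOpenImmersion.lift W₀.ι ψ hrange with hg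
  have hfac : g ≫ W₀.ι = ψ := IsOpenImmersion.lift_fac _ _ _
  have key : ∀ (ψ' : X ⟶ P) (e : ψ' = ψ) (i : κ), IsClosedImmersion (ψ' ∣_ W i) := by
    rintro ψ' rfl i; exact h i
  haveI : IsClosedImmersion g := by
    refine IsZariskiLocalAtTarget.of_iSup_eq_top (P := @IsClosedImmersion)
      (fun i => W₀.ι ⁻¹ᵁ W i) ?_ (fun i => ?_)
    · rw [eq_top_iff]
      rintro w -
      obtain ⟨i, hi⟩ := Opens.mem_iSup.1 w.2
      exact Opens.mem_iSup.2 ⟨i, hi⟩
    · have h2 := key (g ≫ W₀.ι) hfac i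
      have e := morphismRestrict_comp g W₀.ι (W i)
      rw [e] at h2
      haveI h3 : IsClosedImmersion ((g ∣_ W₀.ι ⁻¹ᵁ W i) ≫ (W₀.ι ∣_ W i)) := h2
      exact IsClosedImmersion.of_comp (g ∣_ W₀.ι ⁻¹ᵁ W i) (W₀.ι ∣_ W i)
  rw [← hfac]
  infer_instance

end Groth.Agent.Lib.T2H6.ChowGen
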