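import Mathlib
import Groth.Agent.Lib.T2H6ChowGen

set_option autoImplicit false

/-!
# The scheme-theoretic closure of a quasi-compact open subscheme
-/

namespace Groth.Agent.Lib.T2H6.ChowClos

open CategoryTheory CategoryTheory.Limits AlgebraicGeometry Opposite TopologicalSpace

universe u

noncomputable section

variable {X : Scheme.{u}} (W : X.Opens) [QuasiCompact W.ι]

/-- the scheme-theoretic closure of `W` -/
abbrev Z : Scheme.{u} := W.ι.image

/-- the closed immersion of the closure -/
abbrev ζ : Z W ⟶ X := W.ι.imageι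

/-- the open immersion of `W` into its closure -/
abbrev w : (W : Scheme.{u}) ⟶ Z W := W.ι.toImage

theorem w_ζ : w W ≫ ζ W = W.ι := W.ι.toImage_imageι

instance : IsSchemeTheoreticallyDominant (w W) :=
  Groth.Agent.Lib.T2H6.ChowGen.isSchemeTheoreticallyDominant_toImage W.ι

theorem range_ζ : Set.range (ζ W).base = closure (W : Set X) := by
  have h1 : Set.range (ζ W).base = (W.ι.ker.support : Set X) :=
    Scheme.IdealSheafData.range_subschemeι _
  rw [h1, Scheme.Hom.support_ker, Scheme.Opens.range_ι]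

theorem range_w_le : Set.range (w W).base ⊆ ((ζ W ⁻¹ᵁ W : (Z W).Opens) : Set (Z W)) := by
  rintro _ ⟨y, rfl⟩
  change (ζ W).base ((w W).base y) ∈ W
  have h := congr($(w_ζ W).base y)
  rw [Scheme.Hom.comp_base, TopCat.comp_app] at h
  rw [h]
  exact y.2

theorem dense_preimage : Dense ((ζ W ⁻¹ᵁ W : (Z W).Opens) : Set (Z W)) :=
  (w W).denseRange.mono (range_w_le W)

instance isIso_ζ_restrict : IsIso (ζ W ∣_ W) := by
  have hp := isPullback_morphismRestrict (ζ W) W
  let s : (W : Scheme.{u}) ⟶ ((ζ W ⁻¹ᵁ W : (Z W).Opens) : Scheme.{u}) :=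
    hp.lift (𝟙 _) (w W) (by rw [Category.id_comp, w_ζ])
  have hs : s ≫ (ζ W ∣_ W) = 𝟙 _ := hp.lift_fst _ _ _
  haveI : IsSplitEpi (ζ W ∣_ W) := ⟨⟨s, hs⟩⟩
  haveI : IsClosedImmersion (ζ W ∣_ W) := inferInstance
  exact isIso_of_mono_of_isSplitEpi _

theorem isReduced [IsReduced (W : Scheme.{u})] : IsReduced (Z W) :=
  IsSchemeTheoreticallyDominant.isReduced (w W)

theorem irreducibleSpace [IrreducibleSpace (W : Scheme.{u})] : IrreducibleSpace (Z W) := by
  have h1 : IsIrreducible (Set.range (w W).base) := by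
    rw [← Set.image_univ]
    exact (IrreducibleSpace.isIrreducible_univ _).image _ (w W).continuous.continuousOn
  have h2 : closure (Set.range (w W).base) = Set.univ := (w W).denseRange.closure_eq
  have h3 : IsIrreducible (Set.univ : Set (Z W)) := by
    rw [← h2]; exact h1.closure
  exact (irreducibleSpace_def _).mpr h3

end

end Groth.Agent.Lib.T2H6.ChowClos
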