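import Mathlib
import Groth.Prelude.Def_RelProj
import Groth.Agent.Lib.T2H6HProjChart
import Groth.Agent.Lib.T2H6VAmpleG
import Groth.Agent.S9705
import Groth.Agent.Lib.Helper23RestrJ

set_option autoImplicit false
set_option backward.isDefEq.respectTransparency false

/-!
# Projectivity and quasi-projectivity from immersions into `P^N_S`
-/

namespace Groth.Agent.Lib.T2H6.ChowProj

open CategoryTheory CategoryTheory.Limits AlgebraicGeometry Opposite TopologicalSpace

universe u

/-- a proper morphism `π : X' ⟶ X` such that `X'` is immersed in some `P^N_S` over `S` is H-projective. -/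
theorem isHProjective_of_isProper_of_immersion {X' X S : Scheme.{u}} (π : X' ⟶ X) [IsProper π]
    (f : X ⟶ S) (N : ℕ) (ψ : X' ⟶ CohB1.ProjSpaceOver N S) [IsImmersion ψ]
    (hψ : ψ ≫ CohB1.ProjSpaceOver.toBase N S = π ≫ f) : RelProj.IsHProjective π := by
  let i' : X' ⟶ CohB1.ProjSpaceOver N X :=
    pullback.lift (ψ ≫ pullback.fst (CohB1.ProjSpace.toSpec N (ULift.{u} ℤ))
      (specULiftZIsTerminal.from S)) π (specULiftZIsTerminal.hom_ext _ _)
  have h1 : i' ≫ CohB1.ProjSpaceOver.toBase N X = π := pullback.lift_snd _ _ _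
  haveI hsep : IsProper (CohB1.ProjSpaceOver.toBase N X) := Groth.Agent.S9705.isProper_toBase N X
  haveI : IsProper (i' ≫ CohB1.ProjSpaceOver.toBase N X) := by rw [h1]; infer_instance
  haveI : IsProper i' := IsProper.of_comp i' (CohB1.ProjSpaceOver.toBase N X)
  let m : CohB1.ProjSpaceOver N X ⟶ CohB1.ProjSpaceOver N S :=
    pullback.lift (pullback.fst (CohB1.ProjSpace.toSpec N (ULift.{u} ℤ))
      (specULiftZIsTerminal.from X)) (pullback.snd (CohB1.ProjSpace.toSpec N (ULift.{u} ℤ))
      (specULiftZIsTerminal.from X) ≫ f) (specULiftZIsTerminal.hom_ext _ _)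
  have m_fst : m ≫ pullback.fst (CohB1.ProjSpace.toSpec N (ULift.{u} ℤ))
      (specULiftZIsTerminal.from S) = pullback.fst (CohB1.ProjSpace.toSpec N (ULift.{u} ℤ))
      (specULiftZIsTerminal.from X) := pullback.lift_fst _ _ _
  have m_snd : m ≫ pullback.snd (CohB1.ProjSpace.toSpec N (ULift.{u} ℤ))
      (specULiftZIsTerminal.from S) = pullback.snd (CohB1.ProjSpace.toSpec N (ULift.{u} ℤ))
      (specULiftZIsTerminal.from X) ≫ f := pullback.lift_snd _ _ _
  have i_fst : i' ≫ pullback.fst (CohB1.ProjSpace.toSpec N (ULift.{u} ℤ))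
      (specULiftZIsTerminal.from X) = ψ ≫ pullback.fst (CohB1.ProjSpace.toSpec N (ULift.{u} ℤ))
      (specULiftZIsTerminal.from S) := pullback.lift_fst _ _ _
  have i_snd : i' ≫ pullback.snd (CohB1.ProjSpace.toSpec N (ULift.{u} ℤ))
      (specULiftZIsTerminal.from X) = π := pullback.lift_snd _ _ _
  have h2 : i' ≫ m = ψ := by
    apply pullback.hom_ext
    · rw [Category.assoc, m_fst, i_fst]
    · rw [Category.assoc, m_snd, ← Category.assoc, i_snd]
      exact hψ.symm
  haveI : Mono (i' ≫ m) := by rw [h2]; infer_instance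
  haveI : Mono i' := mono_of_mono i' m
  exact ⟨N, i', (IsClosedImmersion.iff_isProper_and_mono _).mpr ⟨inferInstance, inferInstance⟩, h1⟩

/-- a proper morphism `π : X' ⟶ X` such that `X'` is immersed in some `P^N_S` over `S` is projective. -/
theorem isProjective_of_isProper_of_immersion {X' X S : Scheme.{u}} (π : X' ⟶ X) [IsProper π]
    (f : X ⟶ S) (N : ℕ) (ψ : X' ⟶ CohB1.ProjSpaceOver N S) [IsImmersion ψ]
    (hψ : ψ ≫ CohB1.ProjSpaceOver.toBase N S = π ≫ f) : RelProj.IsProjective π := by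
  obtain ⟨n, i, hi, rfl⟩ := isHProjective_of_isProper_of_immersion π f N ψ hψ
  exact Groth.Agent.Lib.T2H6.HProjChart.isProjective i

/-- a quasi-compact morphism factoring through an immersion into `P^n_S` is quasi-projective. -/
theorem isQuasiProjective_of_immersion {X S : Scheme.{u}} (g : X ⟶ S) [QuasiCompact g] (n : ℕ)
    (i : X ⟶ CohB1.ProjSpaceOver n S) [IsImmersion i]
    (hcomp : i ≫ CohB1.ProjSpaceOver.toBase n S = g) : RelProj.IsQuasiProjective g := by
  let p : CohB1.ProjSpaceOver n S ⟶ S := CohB1.ProjSpaceOver.toBase n S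
  haveI hp : IsProper p := Groth.Agent.S9705.isProper_toBase n S
  have hcomp' : i ≫ p = g := hcomp
  refine ⟨?_, inferInstance, ?_⟩
  · rw [← hcomp']; infer_instance
  · have hva : RelAmple.IsRelVeryAmplePn g
        ((Scheme.Modules.pullback i).obj (Twist.twistOver n S 1)) :=
      ⟨n, i, inferInstance, hcomp, ⟨Iso.refl _⟩⟩
    have hinv : PicF.IsInvertible
        ((Scheme.Modules.pullback i).obj (Twist.twistOver n S 1)) :=
      Groth.Agent.Lib.Helper23.PB.isInvertible_pullback i _
        (Groth.Agent.Lib.Helper23.PB.isInvertible_pullback _ _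
          (Groth.Agent.Lib.T2H5.Twist.isInvertible_twist n (ULift.{u} ℤ) 1))
    exact ⟨_, Groth.Agent.Lib.T2H6.VAmpleF.isRelAmple_of_pow_veryAmple g _ hinv 1 Nat.one_pos
      (Groth.Agent.Lib.T2H6.VAmpleB.of_iso g
        (Groth.Agent.Lib.Helper23.TensorUnit.unitTensorIso _).symm hva)⟩

end Groth.Agent.Lib.T2H6.ChowProj
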