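import Groth.Agent.Lib.T2H6Chow
import Groth.Agent.Lib.T2H6ChowClos
import Groth.Agent.Lib.T2H6ChowProj

/-!
# helper6 (team 2): Chow's lemma, variants (projective form; no irreducibility hypothesis)
-/

set_option autoImplicit false
set_option linter.unusedSectionVars false
universe u

open CategoryTheory CategoryTheory.Limits AlgebraicGeometry TopologicalSpace Opposite

namespace Groth.Agent.Lib.T2H6.Chow2

/-- **Chow's lemma for a finite affine cover with dense intersection.** -/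
theorem chow_of_cover {X S : Scheme.{u}} (f : X ⟶ S) [CompactSpace S] [QuasiSeparatedSpace S]
    [IsSeparated f] [LocallyOfFiniteType f] [QuasiCompact f]
    {k : ℕ} (Uo : Fin k → X.Opens) (hcov : ⨆ i, Uo i = ⊤) (haff : ∀ i, IsAffineOpen (Uo i))
    (hUd : Dense ((⨅ i, Uo i : X.Opens) : Set X)) :
    ∃ (n : ℕ) (X' : Scheme.{u}) (π : X' ⟶ X) (j : X' ⟶ CohB1.ProjSpaceOver n S),
      IsImmersion j ∧ j ≫ CohB1.ProjSpaceOver.toBase n S = π ≫ f ∧ IsProper π ∧ Surjective π ∧
      IsIso (π ∣_ (⨅ i, Uo i)) := by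
  haveI : CompactSpace X := QuasiCompact.compactSpace_of_compactSpace f
  haveI : QuasiSeparatedSpace X := quasiSeparatedSpace_of_quasiSeparated f
  -- the dense open `U`
  let U : X.Opens := ⨅ i, Uo i
  have hU : ∀ i, U ≤ Uo i := fun i => iInf_le Uo i
  have hUc : IsCompact (U : Set X) :=
    Groth.Agent.Lib.T2H6.Chow.isCompact_iInf Uo (fun i => (haff i).isCompact)
  haveI : CompactSpace (U : Scheme.{u}) := isCompact_iff_compactSpace.1 hUc
  haveI : QuasiCompact U.ι := inferInstance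
  -- the immersions of the `Uo i`
  have himm : ∀ i, ∃ (n : ℕ) (j : ((Uo i : X.Opens) : Scheme.{u}) ⟶ CohB1.ProjSpaceOver n S), IsImmersion j ∧
      j ≫ CohB1.ProjSpaceOver.toBase n S = (Uo i).ι ≫ f := by
    intro i
    haveI : IsAffine ((Uo i : X.Opens) : Scheme.{u}) := haff i
    exact Groth.Agent.Lib.T2H6.VAmpleG.exists_immersion_of_isAmple ((Uo i).ι ≫ f) (Coh.structureModule _)
      ((Groth.Agent.Lib.Helper23.AmpleIso.isQuasiAffine_iff_isAmple_structureModule _).1 inferInstance)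
  choose n j hjimm hjcomp using himm
  haveI : ∀ i, IsImmersion (j i) := hjimm
  obtain ⟨P, p, pr, N, φ, hφ, hφp, hpr, hlift⟩ := Groth.Agent.Lib.T2H6.ChowProd.exists_prod S k n
  obtain ⟨jU, hjUp, hjU⟩ := hlift (U : Scheme.{u}) (U.ι ≫ f) (fun i => X.homOfLE (hU i) ≫ j i)
    (fun i => by rw [Category.assoc, hjcomp i, Scheme.homOfLE_ι_assoc])
  haveI : ∀ i, IsSeparated (CohB1.ProjSpaceOver.toBase (n i) S) := fun i => by
    have := Groth.Agent.S9705.isProper_toBase (n i) S
    infer_instance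
  haveI : IsProper p := by
    have := Groth.Agent.S9705.isProper_toBase N S
    rw [← hφp]
    infer_instance
  obtain ⟨X', π, ψ, hψ, hψp, hπ, hπs, hπi⟩ := Groth.Agent.Lib.T2H6.ChowCore.core f p Uo
    (fun x => by
      have : x ∈ (⨆ i, Uo i : X.Opens) := by rw [hcov]; trivial
      exact Opens.mem_iSup.1 this)
    U hU hUd (fun i => CohB1.ProjSpaceOver (n i) S) (fun i => CohB1.ProjSpaceOver.toBase (n i) S)
    pr hpr (fun i => (j i).coborderRange) (fun i => (j i).liftCoborder)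
    (fun i => by rw [Scheme.Hom.liftCoborder_ι, hjcomp i])
    jU hjUp (fun i => by rw [Scheme.Hom.liftCoborder_ι, hjU i])
  refine ⟨N, X', π, ψ ≫ φ, inferInstance, ?_, hπ, hπs, hπi⟩
  rw [Category.assoc, hφp, hψp]

/-- post-processing of Chow covers: replace `X'` by the scheme-theoretic closure of `π⁻¹U`. -/
theorem refine {X' X : Scheme.{u}} (π : X' ⟶ X) [IsProper π] (U : X.Opens) (hUd : Dense (U : Set X))
    [QuasiCompact (π ⁻¹ᵁ U).ι] [IsIso (π ∣_ U)] :
    ∃ (X'' : Scheme.{u}) (c : X'' ⟶ X'), IsClosedImmersion c ∧ Surjective (c ≫ π) ∧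
      Dense (((c ≫ π) ⁻¹ᵁ U : X''.Opens) : Set X'') ∧ IsIso ((c ≫ π) ∣_ U) ∧
      (IsReduced X → IsReduced X'') ∧ (IrreducibleSpace X → IrreducibleSpace X'') := by
  let W : X'.Opens := π ⁻¹ᵁ U
  refine ⟨ChowClos.Z W, ChowClos.ζ W, inferInstance, ?_, ChowClos.dense_preimage W, ?_, ?_, ?_⟩
  · -- surjective
    have hcl : IsClosed (Set.range (ChowClos.ζ W ≫ π).base) :=
      (ChowClos.ζ W ≫ π).isClosedMap.isClosed_range
    have hsub : (U : Set X) ⊆ Set.range (ChowClos.ζ W ≫ π).base := by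
      intro x hx
      have hs : Function.Surjective (π ∣_ U).base := (π ∣_ U).surjective
      obtain ⟨y, hy⟩ := hs ⟨x, hx⟩
      have hyr : y.1 ∈ Set.range (ChowClos.ζ W).base := by
        rw [ChowClos.range_ζ]
        exact subset_closure y.2
      obtain ⟨z, hz⟩ := hyr
      refine ⟨z, ?_⟩
      rw [Scheme.Hom.comp_base, TopCat.comp_app, hz]
      have := morphismRestrict_base_coe π U y
      rw [← this, hy]
    have : Set.range (ChowClos.ζ W ≫ π).base = Set.univ := by
      rw [Set.eq_univ_iff_forall]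
      intro x
      have hx : x ∈ closure (U : Set X) := hUd x
      exact (hcl.closure_subset_iff.2 hsub) hx
    exact ⟨Set.range_eq_univ.1 this⟩
  · rw [morphismRestrict_comp]
    have h1 : IsIso (ChowClos.ζ W ∣_ π ⁻¹ᵁ U) := ChowClos.isIso_ζ_restrict W
    have h2 : IsIso (π ∣_ U) := inferInstance
    exact @IsIso.comp_isIso _ _ _ _ _ _ _ h1 h2
  · intro hred
    haveI : IsReduced (U : Scheme.{u}) := inferInstance
    haveI : IsReduced (W : Scheme.{u}) := isReduced_of_isOpenImmersion (π ∣_ U)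
    exact ChowClos.isReduced W
  · intro hirr
    have hUne : (U : Set X).Nonempty := hUd.nonempty
    haveI : IrreducibleSpace (U : Scheme.{u}) := by
      have h1 : IsIrreducible (U : Set X) :=
        ⟨hUne, (IrreducibleSpace.isIrreducible_univ X).isPreirreducible.open_subset U.2 (Set.subset_univ _)⟩
      have := (isIrreducible_iff_irreducibleSpace (s := (U : Set X))).1 h1
      exact this
    haveI : IrreducibleSpace (W : Scheme.{u}) := by
      let e := (asIso (π ∣_ U)).symm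
      have h1 : IsIrreducible (Set.range e.hom.base) := by
        rw [← Set.image_univ]
        exact (IrreducibleSpace.isIrreducible_univ _).image _ e.hom.continuous.continuousOn
      have h2 : Set.range e.hom.base = Set.univ := Set.range_eq_univ.2 e.hom.surjective
      rw [h2] at h1
      exact (irreducibleSpace_def _).mpr h1
    exact ChowClos.irreducibleSpace W

/-- the two alternative hypotheses of EGA II 5.6 both give a qcqs base and finitely many components. -/
theorem hyp {X S : Scheme.{u}} (r : X ⟶ S) [LocallyOfFiniteType r] [QuasiCompact r]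
    (h : IsNoetherian S ∨ (CompactSpace S ∧ S.IsSeparated ∧ (irreducibleComponents X).Finite)) :
    CompactSpace S ∧ QuasiSeparatedSpace S ∧ (irreducibleComponents X).Finite := by
  rcases h with h | ⟨h1, h2, h3⟩
  · haveI := h
    haveI : IsLocallyNoetherian X := LocallyOfFiniteType.isLocallyNoetherian r
    haveI : CompactSpace X := QuasiCompact.compactSpace_of_compactSpace r
    haveI : IsNoetherian X := ⟨⟩
    exact ⟨inferInstance, inferInstance, NoetherianSpace.finite_irreducibleComponents⟩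
  · haveI := h2
    exact ⟨h1, inferInstance, h3⟩

/-- **Chow's lemma**, full form (EGA II 5.6.1) with an immersion into `P^n_S`. -/
theorem chow_full {X S : Scheme.{u}} (r : X ⟶ S) [CompactSpace S] [QuasiSeparatedSpace S]
    [IsSeparated r] [LocallyOfFiniteType r] [QuasiCompact r]
    (hirr : (irreducibleComponents X).Finite) :
    ∃ (n : ℕ) (X' : Scheme.{u}) (f : X' ⟶ X) (j : X' ⟶ CohB1.ProjSpaceOver n S),
      IsImmersion j ∧ j ≫ CohB1.ProjSpaceOver.toBase n S = f ≫ r ∧ IsProper f ∧ Surjective f ∧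
      (∃ U : X.Opens, Dense (U : Set X) ∧ Dense ((f ⁻¹ᵁ U : X'.Opens) : Set X') ∧ IsIso (f ∣_ U)) ∧
      (IsReduced X → IsReduced X') ∧ (IrreducibleSpace X → IrreducibleSpace X') := by
  haveI : CompactSpace X := QuasiCompact.compactSpace_of_compactSpace r
  haveI : QuasiSeparatedSpace X := quasiSeparatedSpace_of_quasiSeparated r
  obtain ⟨k, Uo, hcov, hUo⟩ := Groth.Agent.Lib.T2H6.ChowTop.exists_finite_dense_affine_cover hirr
  have hUd : Dense ((⨅ i, Uo i : X.Opens) : Set X) :=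
    Groth.Agent.Lib.T2H6.ChowTop.dense_iInf_of_dense Uo (fun i => (hUo i).2)
  obtain ⟨n, X', π, j, hj, hjc, hπ, hπs, hπi⟩ := chow_of_cover r Uo hcov (fun i => (hUo i).1) hUd
  have hUc : IsCompact ((⨅ i, Uo i : X.Opens) : Set X) :=
    Groth.Agent.Lib.T2H6.Chow.isCompact_iInf Uo (fun i => (hUo i).1.isCompact)
  have hWc : IsCompact ((π ⁻¹ᵁ (⨅ i, Uo i) : X'.Opens) : Set X') :=
    QuasiCompact.isCompact_preimage (f := π) _ (⨅ i, Uo i).2 hUc
  haveI : CompactSpace ((π ⁻¹ᵁ (⨅ i, Uo i) : X'.Opens) : Scheme.{u}) := isCompact_iff_compactSpace.1 hWc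
  haveI : QuasiSeparatedSpace X' := quasiSeparatedSpace_of_quasiSeparated π
  haveI : QuasiCompact (π ⁻¹ᵁ (⨅ i, Uo i)).ι := inferInstance
  obtain ⟨X'', c, hc, hs, hd, hi, hred, hirr'⟩ := refine π (⨅ i, Uo i) hUd
  refine ⟨n, X'', c ≫ π, c ≫ j, inferInstance, ?_, inferInstance, hs, ⟨_, hUd, hd, hi⟩, hred, hirr'⟩
  rw [Category.assoc, hjc, Category.assoc]

theorem mem_iInf_finite {X : Scheme.{u}} {ι : Type*} [Finite ι] (U : ι → X.Opens) (x : X) :
    x ∈ (⨅ i, U i : X.Opens) ↔ ∀ i, x ∈ U i := by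
  rw [← SetLike.mem_coe, Opens.coe_iInf, Set.mem_iInter]
  rfl

/-- a quasi-compact scheme has a finite affine open cover indexed by `Fin n`. -/
theorem exists_finite_affine_cover (X : Scheme.{u}) [CompactSpace X] :
    ∃ (n : ℕ) (U : Fin n → X.Opens), (⨆ i, U i) = ⊤ ∧ ∀ i, IsAffineOpen (U i) := by
  classical
  have hex : ∀ x : X, ∃ V : X.Opens, IsAffineOpen V ∧ x ∈ V := by
    intro x
    obtain ⟨V, hV, hxV, -⟩ := exists_isAffineOpen_mem_and_subset (X := X) (x := x) (U := ⊤) trivial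
    exact ⟨V, hV, hxV⟩
  choose W hWaff hxW using hex
  obtain ⟨T, hT⟩ := isCompact_univ.elim_finite_subcover (fun x => ((W x : X.Opens) : Set X))
    (fun x => (W x).2) (fun x _ => Set.mem_iUnion.2 ⟨x, hxW x⟩)
  let e := T.equivFin
  refine ⟨T.card, fun i => W (e.symm i).1, ?_, fun i => hWaff _⟩
  rw [eq_top_iff]
  intro y _
  obtain ⟨x, hx⟩ := Set.mem_iUnion.1 (hT (Set.mem_univ y))
  obtain ⟨hxT, hy⟩ := Set.mem_iUnion.1 hx
  refine Opens.mem_iSup.2 ⟨e ⟨x, hxT⟩, ?_⟩
  change y ∈ W (e.symm (e ⟨x, hxT⟩)).1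
  rw [Equiv.symm_apply_apply]
  exact hy

/-- **Chow's lemma without irreducibility hypotheses**: the open of isomorphism is only nonempty. -/
theorem chow_nonempty {X S : Scheme.{u}} (f : X ⟶ S) [CompactSpace S] [QuasiSeparatedSpace S]
    [IsSeparated f] [LocallyOfFiniteType f] [QuasiCompact f] [Nonempty X] :
    ∃ (n : ℕ) (X' : Scheme.{u}) (π : X' ⟶ X) (j : X' ⟶ CohB1.ProjSpaceOver n S),
      IsImmersion j ∧ j ≫ CohB1.ProjSpaceOver.toBase n S = π ≫ f ∧ IsProper π ∧
      ∃ U : X.Opens, (U : Set X).Nonempty ∧ IsIso (π ∣_ U) := by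
  classical
  haveI : CompactSpace X := QuasiCompact.compactSpace_of_compactSpace f
  haveI : QuasiSeparatedSpace X := quasiSeparatedSpace_of_quasiSeparated f
  obtain ⟨k, Uo, hcov, haff⟩ := exists_finite_affine_cover X
  -- a maximal set of indices with nonempty intersection
  let p : Finset (Fin k) → Prop := fun K => ∃ x : X, ∀ a ∈ K, x ∈ Uo a
  have hp0 : p ∅ := ⟨Classical.arbitrary X, fun a ha => absurd ha (Finset.notMem_empty a)⟩
  obtain ⟨K, -, hK⟩ := Finite.exists_le_maximal (p := p) hp0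
  let W : X.Opens := ⨅ i : K, Uo i.1
  have hmemW : ∀ x : X, x ∈ W ↔ ∀ a ∈ K, x ∈ Uo a := by
    intro x
    rw [mem_iInf_finite]
    exact ⟨fun h a ha => h ⟨a, ha⟩, fun h i => h i.1 i.2⟩
  have hWne : (W : Set X).Nonempty := by
    obtain ⟨x, hx⟩ := hK.prop
    exact ⟨x, (hmemW x).2 hx⟩
  have hWc : IsCompact (W : Set X) :=
    Groth.Agent.Lib.T2H6.Chow.isCompact_iInf (fun i : K => Uo i.1) (fun i => (haff i.1).isCompact)
  haveI : CompactSpace (W : Scheme.{u}) := isCompact_iff_compactSpace.1 hWc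
  haveI : QuasiCompact W.ι := inferInstance
  -- an affine open meeting the closure of `W` has index in `K`
  have hmax : ∀ (a : Fin k) (x : X), x ∈ closure (W : Set X) → x ∈ Uo a → a ∈ K := by
    intro a x hx hxa
    obtain ⟨y, hya, hyW⟩ := mem_closure_iff.1 hx (Uo a : Set X) (Uo a).2 hxa
    have hp' : p (insert a K) := by
      refine ⟨y, fun b hb => ?_⟩
      rcases Finset.mem_insert.1 hb with rfl | hb
      · exact hya
      · exact (hmemW y).1 hyW b hb
    exact hK.le_of_ge hp' (Finset.subset_insert a K) (Finset.mem_insert_self a K)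
  -- the closure of `W` and its cover
  let e := K.equivFin
  let Uo' : Fin K.card → (ChowClos.Z W).Opens := fun i => ChowClos.ζ W ⁻¹ᵁ Uo (e.symm i).1
  have haff' : ∀ i, IsAffineOpen (Uo' i) := fun i => (haff _).preimage (ChowClos.ζ W)
  have hinf : (⨅ i, Uo' i) = ChowClos.ζ W ⁻¹ᵁ W := by
    ext z
    rw [SetLike.mem_coe, SetLike.mem_coe, mem_iInf_finite]
    change (∀ i, (ChowClos.ζ W).base z ∈ Uo (e.symm i).1) ↔ (ChowClos.ζ W).base z ∈ W
    rw [hmemW]
    constructor
    · intro h a ha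
      have := h (e ⟨a, ha⟩)
      rwa [Equiv.symm_apply_apply] at this
    · intro h i
      exact h _ (e.symm i).2
  have hcov' : (⨆ i, Uo' i) = ⊤ := by
    rw [eq_top_iff]
    intro z _
    have hz : (ChowClos.ζ W).base z ∈ closure (W : Set X) := by
      rw [← ChowClos.range_ζ]; exact ⟨z, rfl⟩
    have : (ChowClos.ζ W).base z ∈ (⨆ i, Uo i : X.Opens) := by rw [hcov]; trivial
    obtain ⟨a, ha⟩ := Opens.mem_iSup.1 this
    have haK := hmax a _ hz ha
    refine Opens.mem_iSup.2 ⟨e ⟨a, haK⟩, ?_⟩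
    change (ChowClos.ζ W).base z ∈ Uo (e.symm (e ⟨a, haK⟩)).1
    rw [Equiv.symm_apply_apply]
    exact ha
  have hUd' : Dense ((⨅ i, Uo' i : (ChowClos.Z W).Opens) : Set (ChowClos.Z W)) := by
    rw [hinf]; exact ChowClos.dense_preimage W
  obtain ⟨n, X', π₀, j, hj, hjc, hπ₀, -, hπi⟩ := chow_of_cover (ChowClos.ζ W ≫ f) Uo' hcov' haff' hUd'
  haveI := hπ₀
  refine ⟨n, X', π₀ ≫ ChowClos.ζ W, j, hj, by rw [hjc, Category.assoc], inferInstance, W, hWne, ?_⟩
  rw [morphismRestrict_comp]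
  have h1 : IsIso (π₀ ∣_ (ChowClos.ζ W ⁻¹ᵁ W)) := hinf ▸ hπi
  have h2 : IsIso (ChowClos.ζ W ∣_ W) := ChowClos.isIso_ζ_restrict W
  exact @IsIso.comp_isIso _ _ _ _ _ _ _ h1 h2

end Groth.Agent.Lib.T2H6.Chow2
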