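-- helper6 (team 2): a quasi-coherent algebra of finite type on a qcqs scheme is generated by a quasi-coherent
-- submodule of finite type (EGA I 9.6.5-style); local-to-global for generation by a submodule.
import Mathlib
import Groth.Prelude.Def_RelSpec
import Groth.Prelude.Def_CohB1
import Groth.Agent.Lib.Helper18QCAlg1
import Groth.Agent.Lib.Helper23FTsub
import Groth.Agent.Lib.T2H6Chow2

set_option autoImplicit false
universe u
open CategoryTheory CategoryTheory.Limits AlgebraicGeometry TopologicalSpace Opposite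

namespace Groth.Agent.Lib.T2H6.QCAlgGen

open Groth.Agent.Lib.Helper23.QCohLocal Groth.Agent.Helper18QCAlg

noncomputable section

variable {X : Scheme.{u}} (B : RelSpec.QCAlg X) (E : X.Modules) (j : E ⟶ B.toModule)

/-- the map `j` on sections, with values in the ring `B(U)` -/
def jU (U : X.Opens) (e : E.val.obj (op U)) : B.presheaf.obj (op U) := (j.val.app (op U)).hom e

/-- restriction of sections of `B` -/
abbrev resB {U V : X.Opens} (h : V ≤ U) : B.presheaf.obj (op U) →+* B.presheaf.obj (op V) :=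
  (B.presheaf.map (homOfLE h).op).hom

/-- restriction of functions -/
abbrev resO {U V : X.Opens} (h : V ≤ U) : Γ(X, U) →+* Γ(X, V) := (X.presheaf.map (homOfLE h).op).hom

/-- the subring of `B(U)` generated by the functions and the sections of `E` -/
def A (U : X.Opens) : Subring (B.presheaf.obj (op U)) :=
  Subring.closure (Set.range (B.str.app (op U)).hom ∪ Set.range (jU B E j U))

theorem str_mem (U : X.Opens) (r : Γ(X, U)) : (B.str.app (op U)).hom r ∈ A B E j U :=
  Subring.subset_closure (Or.inl ⟨r, rfl⟩)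

theorem jU_mem (U : X.Opens) (e : E.val.obj (op U)) : jU B E j U e ∈ A B E j U :=
  Subring.subset_closure (Or.inr ⟨e, rfl⟩)

theorem jU_res {U V : X.Opens} (h : V ≤ U) (e : E.val.obj (op U)) :
    resB B h (jU B E j U e) = jU B E j V ((E.val.map (homOfLE h).op).hom e) := by
  have := j.val.naturality (homOfLE h).op
  exact (congr($(this).hom e)).symm

theorem jU_smul (U : X.Opens) (r : Γ(X, U)) (e : E.val.obj (op U)) :
    jU B E j U ((show X.ringCatSheaf.obj.obj (op U) from r) • e) =
      (B.str.app (op U)).hom r * jU B E j U e :=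
  (j.val.app (op U)).hom.map_smul _ e

theorem res_mem {U V : X.Opens} (h : V ≤ U) {x : B.presheaf.obj (op U)} (hx : x ∈ A B E j U) :
    resB B h x ∈ A B E j V := by
  have : A B E j U ≤ (A B E j V).comap (resB B h) := by
    refine Subring.closure_le.2 ?_
    rintro y (⟨r, rfl⟩ | ⟨e, rfl⟩)
    · change resB B h ((B.str.app (op U)).hom r) ∈ A B E j V
      rw [str_res_apply']
      exact str_mem B E j V _
    · change resB B h (jU B E j U e) ∈ A B E j V
      rw [jU_res]
      exact jU_mem B E j V _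
  exact this hx

theorem str_pow_res {U V : X.Opens} (h : V ≤ U) (g : Γ(X, U)) (N : ℕ) :
    resB B h ((B.str.app (op U)).hom g ^ N) = (B.str.app (op V)).hom (resO h g) ^ N := by
  rw [map_pow, str_res_apply']

/-- descent of membership from a basic open, up to a power of the function -/
theorem exists_pow_mul_of_mem_basicOpen [E.IsQuasicoherent] {U : X.Opens} (hU : IsAffineOpen U)
    (g : Γ(X, U)) {y : B.presheaf.obj (op (X.basicOpen g))} (hy : y ∈ A B E j (X.basicOpen g)) :
    ∃ (N : ℕ) (z : B.presheaf.obj (op U)), z ∈ A B E j U ∧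
      resB B (X.basicOpen_le g) z =
        (B.str.app (op (X.basicOpen g))).hom (resO (X.basicOpen_le g) g) ^ N * y := by
  induction hy using Subring.closure_induction with
  | mem y hy =>
    rcases hy with ⟨s', rfl⟩ | ⟨e', rfl⟩
    · haveI := hU.isLocalization_basicOpen g
      obtain ⟨⟨s, m⟩, hm⟩ := IsLocalization.surj (Submonoid.powers g) s'
      obtain ⟨N, hN⟩ := m.2
      refine ⟨N, (B.str.app (op U)).hom s, str_mem B E j U s, ?_⟩
      rw [str_res_apply', ← map_pow, ← map_mul]
      congr 1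
      have hm' : s' * resO (X.basicOpen_le g) (m : Γ(X, U)) = resO (X.basicOpen_le g) s := hm
      rw [← hm', ← hN, map_pow, mul_comm]
    · obtain ⟨N, t, ht⟩ := exists_extension_qcqs' hU.isCompact hU.isQuasiSeparated E g
        (X.basicOpen g) rfl (X.basicOpen_le g) e'
      refine ⟨N, jU B E j U t, jU_mem B E j U t, ?_⟩
      rw [jU_res]
      have ht' : (E.val.map (homOfLE (X.basicOpen_le g)).op).hom t =
          (show X.ringCatSheaf.obj.obj (op (X.basicOpen g)) from
            (resO (X.basicOpen_le g) g) ^ N) • e' := ht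
      rw [ht', jU_smul, map_pow]
  | zero => exact ⟨0, 0, Subring.zero_mem _, by simp⟩
  | one => exact ⟨0, 1, Subring.one_mem _, by simp⟩
  | add a b _ _ ha hb =>
    obtain ⟨N₁, z₁, hz₁, h₁⟩ := ha
    obtain ⟨N₂, z₂, hz₂, h₂⟩ := hb
    refine ⟨N₁ + N₂, (B.str.app (op U)).hom g ^ N₂ * z₁ + (B.str.app (op U)).hom g ^ N₁ * z₂,
      Subring.add_mem _ (Subring.mul_mem _ (Subring.pow_mem _ (str_mem B E j U g) _) hz₁)
        (Subring.mul_mem _ (Subring.pow_mem _ (str_mem B E j U g) _) hz₂), ?_⟩
    rw [map_add, map_mul, map_mul, str_pow_res, str_pow_res, h₁, h₂]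
    ring
  | neg a _ ha =>
    obtain ⟨N, z, hz, h⟩ := ha
    exact ⟨N, -z, Subring.neg_mem _ hz, by rw [map_neg, h, mul_neg]⟩
  | mul a b _ _ ha hb =>
    obtain ⟨N₁, z₁, hz₁, h₁⟩ := ha
    obtain ⟨N₂, z₂, hz₂, h₂⟩ := hb
    refine ⟨N₁ + N₂, z₁ * z₂, Subring.mul_mem _ hz₁ hz₂, ?_⟩
    rw [map_mul, h₁, h₂]
    ring

/-- if the restriction of `x` to a basic open is generated, then a power of the function times `x` is -/
theorem exists_pow_mul_mem [E.IsQuasicoherent] {U : X.Opens} (hU : IsAffineOpen U)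
    (g : Γ(X, U)) (x : B.presheaf.obj (op U))
    (hx : resB B (X.basicOpen_le g) x ∈ A B E j (X.basicOpen g)) :
    ∃ M : ℕ, (B.str.app (op U)).hom (g ^ M) * x ∈ A B E j U := by
  obtain ⟨N, z, hz, h⟩ := exists_pow_mul_of_mem_basicOpen B E j hU g hx
  have h0 : resB B (X.basicOpen_le g) (z - (B.str.app (op U)).hom g ^ N * x) = 0 := by
    rw [map_sub, map_mul, str_pow_res, h, sub_self]
  obtain ⟨M, hM⟩ := exists_pow_aux B hU g _ h0
  refine ⟨M + N, ?_⟩
  have h1 : (B.str.app (op U)).hom (g ^ (M + N)) * x = (B.str.app (op U)).hom (g ^ M) * z := by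
    rw [mul_sub, sub_eq_zero] at hM
    rw [hM, pow_add, map_mul, map_pow, map_pow, mul_assoc]
  rw [h1]
  exact Subring.mul_mem _ (str_mem B E j U _) hz

/-- local-to-global: an element which is generated locally on an affine open is generated -/
theorem mem_of_forall_exists_basicOpen [E.IsQuasicoherent] {U : X.Opens} (hU : IsAffineOpen U)
    (x : B.presheaf.obj (op U))
    (h : ∀ p ∈ U, ∃ g : Γ(X, U), p ∈ X.basicOpen g ∧
      resB B (X.basicOpen_le g) x ∈ A B E j (X.basicOpen g)) : x ∈ A B E j U := by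
  let I : Ideal Γ(X, U) :=
    { carrier := {a | (B.str.app (op U)).hom a * x ∈ A B E j U}
      add_mem' := fun {a b} ha hb => by
        change (B.str.app (op U)).hom (a + b) * x ∈ A B E j U
        rw [map_add, add_mul]; exact Subring.add_mem _ ha hb
      zero_mem' := by
        change (B.str.app (op U)).hom 0 * x ∈ A B E j U
        rw [map_zero, zero_mul]; exact Subring.zero_mem _
      smul_mem' := fun c a ha => by
        change (B.str.app (op U)).hom (c * a) * x ∈ A B E j U
        rw [map_mul, mul_assoc]; exact Subring.mul_mem _ (str_mem B E j U c) ha }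
  have key : ∀ p : U, ∃ g : Γ(X, U), p.1 ∈ X.basicOpen g ∧ g ∈ I := by
    intro p
    obtain ⟨g, hpg, hg⟩ := h p.1 p.2
    obtain ⟨M, hM⟩ := exists_pow_mul_mem B E j hU g x hg
    refine ⟨g ^ (M + 1), ?_, ?_⟩
    · rw [X.basicOpen_pow g (Nat.succ_pos M)]; exact hpg
    · change (B.str.app (op U)).hom (g ^ (M + 1)) * x ∈ A B E j U
      rw [pow_succ', map_mul, mul_assoc]
      exact Subring.mul_mem _ (str_mem B E j U g) hM
  choose g hpg hgI using key
  have hcov : ⨆ f : Set.range g, X.basicOpen f.1 = U := by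
    apply le_antisymm
    · exact iSup_le fun f => X.basicOpen_le f.1
    · intro p hp
      exact Opens.mem_iSup.2 ⟨⟨g ⟨p, hp⟩, ⟨p, hp⟩, rfl⟩, hpg ⟨p, hp⟩⟩
  have hspan : Ideal.span (Set.range g) = ⊤ := (IsAffineOpen.iSup_basicOpen_eq_self_iff hU).1 hcov
  have hI : I = ⊤ := by
    rw [eq_top_iff, ← hspan, Ideal.span_le]
    rintro _ ⟨p, rfl⟩
    exact hgI p
  have h1 : (1 : Γ(X, U)) ∈ I := by rw [hI]; trivial
  have h2 : (B.str.app (op U)).hom 1 * x ∈ A B E j U := h1
  rwa [map_one, one_mul] at h2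

/-- if `B(U)` is generated for an affine `U`, so is `B(W)` for every basic open `W` of `U` -/
theorem eq_top_of_basicOpen {U : X.Opens} (hU : IsAffineOpen U) (hA : A B E j U = ⊤)
    (g : Γ(X, U)) (W : X.Opens) (hW : W = X.basicOpen g) : A B E j W = ⊤ := by
  subst hW
  rw [eq_top_iff]
  rintro y -
  obtain ⟨n, t, ht⟩ := exists_extension_aux B hU g y
  have ht1 : resB B (X.basicOpen_le g) t ∈ A B E j (X.basicOpen g) :=
    res_mem B E j (X.basicOpen_le g) (by rw [hA]; trivial)
  have hunit : IsUnit (resO (X.basicOpen_le g) g) := RingedSpace.isUnit_res_basicOpen _ g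
  obtain ⟨u, hu⟩ := hunit
  have hy : y = (B.str.app (op (X.basicOpen g))).hom (((u⁻¹ : (Γ(X, X.basicOpen g))ˣ) :
      Γ(X, X.basicOpen g)) ^ n) * resB B (X.basicOpen_le g) t := by
    rw [ht, ← mul_assoc, ← map_mul, ← mul_pow, ← hu, Units.inv_mul, one_pow, map_one, one_mul]
  rw [hy]
  exact Subring.mul_mem _ (str_mem B E j _ _) ht1

/-- **local-to-global for generation**: if `B` is generated by `E` over the members of an affine open cover, it is
generated over every affine open -/
theorem eq_top_of_cover [E.IsQuasicoherent] {ι : Type*} (V : ι → X.Opens) (hV : ∀ i, IsAffineOpen (V i))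
    (hcov : ∀ x : X, ∃ i, x ∈ V i) (hA : ∀ i, A B E j (V i) = ⊤)
    {U : X.Opens} (hU : IsAffineOpen U) : A B E j U = ⊤ := by
  rw [eq_top_iff]
  rintro x -
  refine mem_of_forall_exists_basicOpen B E j hU x fun p hp => ?_
  obtain ⟨i, hi⟩ := hcov p
  obtain ⟨f, g, hfg, hpf⟩ := exists_basicOpen_le_affine_inter hU (hV i) p ⟨hp, hi⟩
  refine ⟨f, hpf, ?_⟩
  rw [eq_top_of_basicOpen B E j (hV i) (hA i) g (X.basicOpen f) hfg]
  trivial

/-- **EGA I 9.6.5-style**: on a qcqs scheme, a quasi-coherent algebra of finite type is generated by a quasi-coherent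
submodule of finite type -/
theorem exists_generating_sub [CompactSpace X] [QuasiSeparatedSpace X]
    (hB : ∀ U : X.affineOpens, (B.str.app (op (U : X.Opens))).hom.FiniteType) :
    ∃ (E : X.Modules) (j : E ⟶ B.toModule), Mono j ∧ E.IsQuasicoherent ∧
      SheafOfModules.IsFiniteType (R := X.ringCatSheaf) E ∧
      ∀ U : X.affineOpens, A B E j U.1 = ⊤ := by
  classical
  obtain ⟨n, V, hVcov, hVaff⟩ := Groth.Agent.Lib.T2H6.Chow2.exists_finite_affine_cover X
  have hfg : ∀ i : Fin n, ∃ T : Finset (B.presheaf.obj (op (V i))),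
      Subring.closure (Set.range (B.str.app (op (V i))).hom ∪ (T : Set _)) = ⊤ := by
    intro i
    have h1 := hB ⟨V i, hVaff i⟩
    letI : Algebra Γ(X, V i) (B.presheaf.obj (op (V i))) := (B.str.app (op (V i))).hom.toAlgebra
    have h2 : Algebra.FiniteType Γ(X, V i) (B.presheaf.obj (op (V i))) := h1
    obtain ⟨T, hT⟩ := h2.out
    refine ⟨T, ?_⟩
    have h3 := Algebra.adjoin_eq_ring_closure (R := Γ(X, V i)) (T : Set (B.presheaf.obj (op (V i))))
    rw [hT] at h3
    exact h3.symm
  choose T hT using hfg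
  let l : List (Σ U : X.affineOpens, Γ(B.toModule, U.1)) :=
    (List.finRange n).flatMap (fun i => (T i).toList.map
      (fun b => (⟨⟨V i, hVaff i⟩, (show Γ(B.toModule, V i) from b)⟩ :
        Σ U : X.affineOpens, Γ(B.toModule, U.1))))
  let a₀ : Σ U : X.affineOpens, Γ(B.toModule, U.1) := ⟨⟨⊥, isAffineOpen_bot X⟩, 0⟩
  obtain ⟨E, j, hmono, hq, hft, hmem⟩ :=
    Groth.Agent.Lib.Helper23.FTsub.exists_ft_sub_list B.toModule a₀ l
  haveI := hq
  refine ⟨E, j, hmono, hq, hft, fun U => ?_⟩
  refine eq_top_of_cover B E j V hVaff (fun x => ?_) (fun i => ?_) U.2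
  · have hx : x ∈ (⨆ i, V i : X.Opens) := by rw [hVcov]; trivial
    exact Opens.mem_iSup.1 hx
  · rw [eq_top_iff, ← hT i]
    refine Subring.closure_mono ?_
    rintro y (hy | hy)
    · exact Or.inl hy
    · right
      have hyl : (⟨⟨V i, hVaff i⟩, (show Γ(B.toModule, V i) from y)⟩ :
          Σ U : X.affineOpens, Γ(B.toModule, U.1)) ∈ a₀ :: l := by
        refine List.mem_cons_of_mem _ ?_
        refine List.mem_flatMap.2 ⟨i, List.mem_finRange i, ?_⟩
        exact List.mem_map.2 ⟨y, Finset.mem_toList.2 hy, rfl⟩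
      obtain ⟨g, hg⟩ := hmem _ hyl
      exact ⟨g, hg⟩

end

end Groth.Agent.Lib.T2H6.QCAlgGen
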