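-- helper6 (team 2): the quasi-coherent subalgebra of a quasi-coherent algebra generated by a quasi-coherent submodule
-- (EGA I 9.6.6-style: a quasi-coherent algebra is the union of its quasi-coherent subalgebras of finite type).
import Mathlib
import Groth.Agent.Lib.T2H6QCAlgGen
import Groth.Agent.Lib.Helper23FinType2

set_option autoImplicit false
universe u
open CategoryTheory CategoryTheory.Limits AlgebraicGeometry TopologicalSpace Opposite

namespace Groth.Agent.Lib.T2H6.QCAlgSub

open Groth.Agent.Lib.Helper23.QCohLocal Groth.Agent.Helper18QCAlg Groth.Agent.Lib.T2H6.QCAlgGen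

noncomputable section

variable {X : Scheme.{u}} (B : RelSpec.QCAlg X) (E : X.Modules) (j : E ⟶ B.toModule)

theorem resB_resB {U V W : X.Opens} (h : V ≤ U) (h' : W ≤ V) (s : B.presheaf.obj (op U)) :
    resB B h' (resB B h s) = resB B (h'.trans h) s := by
  change (B.presheaf.map _).hom ((B.presheaf.map _).hom s) = (B.presheaf.map _).hom s
  rw [← CommRingCat.comp_apply, ← Functor.map_comp]
  rfl

theorem resB_refl (U : X.Opens) (s : B.presheaf.obj (op U)) : resB B (le_refl U) s = s := by
  change (B.presheaf.map (𝟙 _)).hom s = s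
  rw [B.presheaf.map_id]; rfl

/-- the sections of `B` which are, over every affine open, generated by functions and sections of `E` -/
def Bsub (V : X.Opens) : Subring (B.presheaf.obj (op V)) where
  carrier := {s | ∀ (W : X.Opens), IsAffineOpen W → ∀ h : W ≤ V, resB B h s ∈ A B E j W}
  mul_mem' := fun {a b} ha hb W hW h => by
    rw [map_mul]; exact Subring.mul_mem _ (ha W hW h) (hb W hW h)
  one_mem' := fun W _ h => by rw [map_one]; exact Subring.one_mem _
  add_mem' := fun {a b} ha hb W hW h => by
    rw [map_add]; exact Subring.add_mem _ (ha W hW h) (hb W hW h)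
  zero_mem' := fun W _ h => by rw [map_zero]; exact Subring.zero_mem _
  neg_mem' := fun {a} ha W hW h => by rw [map_neg]; exact Subring.neg_mem _ (ha W hW h)

theorem mem_Bsub {V : X.Opens} {s : B.presheaf.obj (op V)} :
    s ∈ Bsub B E j V ↔ ∀ (W : X.Opens), IsAffineOpen W → ∀ h : W ≤ V, resB B h s ∈ A B E j W :=
  Iff.rfl

theorem res_mem_Bsub {U V : X.Opens} (h : V ≤ U) {s : B.presheaf.obj (op U)}
    (hs : s ∈ Bsub B E j U) : resB B h s ∈ Bsub B E j V := by
  intro W hW h'
  rw [resB_resB]
  exact hs W hW (h'.trans h)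

theorem mem_Bsub_iff_of_affine {U : X.Opens} (hU : IsAffineOpen U) (s : B.presheaf.obj (op U)) :
    s ∈ Bsub B E j U ↔ s ∈ A B E j U := by
  constructor
  · intro hs
    have := hs U hU le_rfl
    rwa [resB_refl] at this
  · intro hs W _ h
    exact res_mem B E j h hs

/-- restriction on the subrings -/
def resSub {U V : X.Opens} (h : V ≤ U) : Bsub B E j U →+* Bsub B E j V :=
  ((resB B h).comp (Bsub B E j U).subtype).codRestrict (Bsub B E j V)
    (fun s => res_mem_Bsub B E j h s.2)

@[simp] theorem coe_resSub {U V : X.Opens} (h : V ≤ U) (s : Bsub B E j U) :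
    ((resSub B E j h s : Bsub B E j V) : B.presheaf.obj (op V)) = resB B h s.1 := rfl

/-- the presheaf of subrings -/
def P : TopCat.Presheaf CommRingCat.{u} X.carrier where
  obj V := CommRingCat.of (Bsub B E j V.unop)
  map {U V} i := CommRingCat.ofHom (resSub B E j i.unop.le)
  map_id U := by
    refine CommRingCat.hom_ext (RingHom.ext fun s => Subtype.ext ?_)
    exact resB_refl B _ s.1
  map_comp {U V W} i k := by
    refine CommRingCat.hom_ext (RingHom.ext fun s => Subtype.ext ?_)
    exact (resB_resB B _ _ s.1).symm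

/-- the inclusion into `B` -/
def incl : P B E j ⟶ B.presheaf where
  app V := CommRingCat.ofHom (Bsub B E j V.unop).subtype
  naturality {U V} i := by
    refine CommRingCat.hom_ext (RingHom.ext fun s => ?_)
    rfl

theorem str_mem_Bsub (V : X.Opens) (r : Γ(X, V)) : (B.str.app (op V)).hom r ∈ Bsub B E j V := by
  intro W _ h
  rw [str_res_apply']
  exact str_mem B E j W _

/-- the structure map -/
def strP : X.presheaf ⟶ P B E j where
  app V := CommRingCat.ofHom ((B.str.app V).hom.codRestrict (Bsub B E j V.unop)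
    (fun r => str_mem_Bsub B E j V.unop r))
  naturality {U V} i := by
    refine CommRingCat.hom_ext (RingHom.ext fun r => Subtype.ext ?_)
    have := B.str.naturality i
    exact congr($(this).hom r)

theorem strP_incl : strP B E j ≫ incl B E j = B.str := by
  ext V : 2
  exact RingHom.ext fun r => rfl

theorem isSheaf_P [E.IsQuasicoherent] : TopCat.Presheaf.IsSheaf (P B E j) := by
  rw [TopCat.Presheaf.isSheaf_iff_isSheafUniqueGluing]
  intro ι W sf hsf
  have hcompat : TopCat.Presheaf.IsCompatible B.presheaf W (fun i => (sf i).1) := by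
    intro i k
    exact congrArg Subtype.val (hsf i k)
  obtain ⟨s, hs, huniq⟩ :=
    TopCat.Sheaf.existsUnique_gluing ⟨B.presheaf, B.isSheaf⟩ W (fun i => (sf i).1) hcompat
  have hsmem : s ∈ Bsub B E j (iSup W) := by
    intro V hV h
    refine mem_of_forall_exists_basicOpen B E j hV _ fun p hp => ?_
    obtain ⟨i, hi⟩ := Opens.mem_iSup.1 (h hp)
    obtain ⟨g, hg1, hg2⟩ := hV.exists_basicOpen_le ⟨p, hi⟩ hp
    refine ⟨g, hg2, ?_⟩
    have hsi : resB B (le_iSup W i) s = (sf i).1 := hs i
    have h1 : resB B (X.basicOpen_le g) (resB B h s) = resB B hg1 (sf i).1 := by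
      rw [resB_resB, ← hsi, resB_resB]
    rw [h1]
    exact (sf i).2 _ (hV.basicOpen g) hg1
  refine ⟨⟨s, hsmem⟩, fun i => Subtype.ext (hs i), fun s' hs' => Subtype.ext ?_⟩
  exact huniq s'.1 fun i => congrArg Subtype.val (hs' i)

theorem isQC_P [E.IsQuasicoherent] : RelSpec.IsQC (P B E j) (strP B E j) := by
  intro U hU r
  letI := ((P B E j).map (homOfLE (X.basicOpen_le r)).op).hom.toAlgebra
  refine IsLocalization.Away.mk _ ?_ ?_ ?_
  · have hunit : IsUnit (resO (X.basicOpen_le r) r) := RingedSpace.isUnit_res_basicOpen _ r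
    have h2 := hunit.map ((strP B E j).app (op (X.basicOpen r))).hom
    convert h2 using 1
    exact Subtype.ext (str_res_apply' B _ r)
  · intro z
    have hz : z.1 ∈ A B E j (X.basicOpen r) :=
      (mem_Bsub_iff_of_affine B E j (hU.basicOpen r) z.1).1 z.2
    obtain ⟨N, z', hz', h⟩ := exists_pow_mul_of_mem_basicOpen B E j hU r hz
    refine ⟨N, ⟨z', (mem_Bsub_iff_of_affine B E j hU z').2 hz'⟩, Subtype.ext ?_⟩
    change z.1 * (resB B (X.basicOpen_le r) ((B.str.app (op U)).hom r)) ^ N =
      resB B (X.basicOpen_le r) z'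
    rw [h, str_res_apply', mul_comm]
  · intro a b hab
    have h0 : resB B (X.basicOpen_le r) (a.1 - b.1) = 0 := by
      rw [map_sub, sub_eq_zero]; exact congrArg Subtype.val hab
    obtain ⟨n, hn⟩ := exists_pow_aux B hU r _ h0
    refine ⟨n, Subtype.ext ?_⟩
    change (B.str.app (op U)).hom r ^ n * a.1 = (B.str.app (op U)).hom r ^ n * b.1
    rw [mul_sub, sub_eq_zero, map_pow] at hn
    exact hn

/-- the quasi-coherent subalgebra of `B` generated by the image of `E` -/
def Bq [E.IsQuasicoherent] : RelSpec.QCAlg X where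
  presheaf := P B E j
  isSheaf := isSheaf_P B E j
  str := strP B E j
  isQC := isQC_P B E j

/-- the inclusion `Bq ⟶ B` -/
def φ [E.IsQuasicoherent] : Bq B E j ⟶ B := ⟨incl B E j, strP_incl B E j⟩

theorem φ_injective [E.IsQuasicoherent] (V : X.Opens) :
    Function.Injective ((φ B E j).hom.app (op V)).hom := fun _ _ h => Subtype.ext h

theorem mem_range_φ [E.IsQuasicoherent] (V : X.Opens) (s : B.presheaf.obj (op V))
    (hs : s ∈ Bsub B E j V) : s ∈ Set.range ((φ B E j).hom.app (op V)).hom := ⟨⟨s, hs⟩, rfl⟩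

theorem jU_zero (V : X.Opens) : jU B E j V 0 = 0 := map_zero (j.val.app (op V)).hom

theorem jU_add (V : X.Opens) (a b : E.val.obj (op V)) :
    jU B E j V (a + b) = jU B E j V a + jU B E j V b := map_add (j.val.app (op V)).hom a b

/-- the subalgebra generated by a finite-type quasi-coherent module is of finite type over affine opens -/
theorem finiteType_Bq [E.IsQuasicoherent] [hE : SheafOfModules.IsFiniteType (R := X.ringCatSheaf) E]
    {V : X.Opens} (hV : IsAffineOpen V) : ((Bq B E j).str.app (op V)).hom.FiniteType := by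
  classical
  have hfin : Module.Finite Γ(X, V) Γ(E, V) :=
    Groth.Agent.Lib.Helper23.FinType.finite_of_isFiniteType E hV
  obtain ⟨T, hT⟩ := hfin.fg_top
  letI : Algebra Γ(X, V) (B.presheaf.obj (op V)) := (B.str.app (op V)).hom.toAlgebra
  letI : Algebra Γ(X, V) (Bsub B E j V) := ((strP B E j).app (op V)).hom.toAlgebra
  have hmemT : ∀ t : Γ(E, V), jU B E j V t ∈ Bsub B E j V := fun t =>
    (mem_Bsub_iff_of_affine B E j hV _).2 (jU_mem B E j V t)
  let G : Finset (Bsub B E j V) := T.image (fun t => ⟨jU B E j V t, hmemT t⟩)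
  change Algebra.FiniteType Γ(X, V) (Bsub B E j V)
  refine ⟨⟨G, ?_⟩⟩
  rw [eq_top_iff]
  rintro z -
  let ι : Bsub B E j V →ₐ[Γ(X, V)] B.presheaf.obj (op V) :=
    { (Bsub B E j V).subtype with commutes' := fun r => rfl }
  have hι : Function.Injective ι := Subtype.val_injective
  have hjmem : ∀ e : Γ(E, V), jU B E j V e ∈
      (Algebra.adjoin Γ(X, V) (ι '' (G : Set (Bsub B E j V)))).toSubring := by
    intro e
    have he : e ∈ Submodule.span Γ(X, V) (T : Set Γ(E, V)) := by
      rw [hT]; trivial
    induction he using Submodule.span_induction with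
    | mem t ht =>
      exact Algebra.subset_adjoin
        ⟨⟨jU B E j V t, hmemT t⟩, Finset.mem_coe.2 (Finset.mem_image_of_mem _ ht), rfl⟩
    | zero =>
      have h0 : jU B E j V (0 : Γ(E, V)) = 0 := jU_zero B E j V
      rw [h0]; exact Subalgebra.zero_mem _
    | add a b _ _ ha hb =>
      have h0 : jU B E j V (a + b) = jU B E j V a + jU B E j V b := jU_add B E j V a b
      rw [h0]; exact Subalgebra.add_mem _ ha hb
    | smul r a _ ha =>
      have h0 : jU B E j V (r • a) = (B.str.app (op V)).hom r * jU B E j V a :=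
        jU_smul B E j V r a
      rw [h0]; exact Subalgebra.mul_mem _ (Subalgebra.algebraMap_mem _ r) ha
  have h1 : A B E j V ≤ (Algebra.adjoin Γ(X, V) (ι '' (G : Set (Bsub B E j V)))).toSubring := by
    refine Subring.closure_le.2 ?_
    rintro y (⟨r, rfl⟩ | ⟨e, rfl⟩)
    · exact Subalgebra.algebraMap_mem _ r
    · exact hjmem e
  have h2 : ι z ∈ Algebra.adjoin Γ(X, V) (ι '' (G : Set (Bsub B E j V))) :=
    h1 ((mem_Bsub_iff_of_affine B E j hV z.1).1 z.2)
  rw [← AlgHom.map_adjoin] at h2
  obtain ⟨w, hw, hwz⟩ := h2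
  rwa [← hι hwz]

/-- **EGA I 9.6.6-style**: a section of `B` coming from a quasi-coherent submodule of finite type lies in a
quasi-coherent subalgebra of finite type -/
theorem exists_subalgebra_of_section [E.IsQuasicoherent]
    [SheafOfModules.IsFiniteType (R := X.ringCatSheaf) E] (U : X.Opens)
    (b : B.presheaf.obj (op U)) (g : E.val.obj (op U)) (hg : (j.val.app (op U)).hom g = b) :
    ∃ (B' : RelSpec.QCAlg X) (φ : B' ⟶ B),
      (∀ V : X.Opens, Function.Injective (φ.hom.app (op V)).hom) ∧
      (∀ V : X.affineOpens, (B'.str.app (op (V : X.Opens))).hom.FiniteType) ∧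
      b ∈ Set.range (φ.hom.app (op U)).hom := by
  refine ⟨Bq B E j, φ B E j, φ_injective B E j, fun V => finiteType_Bq B E j V.2, ?_⟩
  refine mem_range_φ B E j U b ?_
  intro W _ h
  have hb : b = jU B E j U g := hg.symm
  rw [hb, jU_res]
  exact jU_mem B E j W _

end

end Groth.Agent.Lib.T2H6.QCAlgSub
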