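/-
helper2 (team 2): an immersion of a scheme of finite type over a qcqs base `Y` into the relative spectrum of a
quasi-coherent algebra `C` stays an immersion into `Spec(C')` for a quasi-coherent subalgebra `C' ⊆ C` of finite type
(EGA IV 8.10.5 / II 6.x style), glued from the affine stage lemma of `T2H2ImmStageA`.
-/
import Mathlib
import Groth.Agent.Lib.T2H6QCAlgSub
import Groth.Agent.Lib.T2H2ImmStageA

set_option autoImplicit false
universe u
open CategoryTheory CategoryTheory.Limits AlgebraicGeometry TopologicalSpace Opposite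

namespace Groth.Agent.Lib.T2H2.ImmStageB

open Groth.Agent.Lib.T2H6.QCAlgSub Groth.Agent.Lib.T2H6.QCAlgGen Groth.Agent.Lib.T2H2.ImmStage



/-- on a qcqs scheme, finitely many sections of a quasi-coherent algebra over affine opens lie in a quasi-coherent
subalgebra of finite type -/
theorem exists_ft_subalgebra_list {Y : Scheme.{u}} [CompactSpace Y] [QuasiSeparatedSpace Y]
    (C : RelSpec.QCAlg Y) (l : List (Σ U : Y.affineOpens, C.presheaf.obj (op U.1))) :
    ∃ (C' : RelSpec.QCAlg Y) (φ : C' ⟶ C),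
      (∀ V : Y.Opens, Function.Injective (φ.hom.app (op V)).hom) ∧
      (∀ V : Y.affineOpens, (C'.str.app (op (V : Y.Opens))).hom.FiniteType) ∧
      ∀ p ∈ l, p.2 ∈ Set.range (φ.hom.app (op p.1.1)).hom := by
  have : C.toModule.IsQuasicoherent := Groth.Agent.Helper18QCAlg.isQuasicoherent_toModule C
  let l' : List (Σ U : Y.affineOpens, Γ(C.toModule, U.1)) := l.map (fun p => ⟨p.1, p.2⟩)
  obtain ⟨K', i, -, hq, hf, hl⟩ := Groth.Agent.Lib.Helper23.FTsub.exists_ft_sub_list C.toModule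
    ⟨⟨⊥, isAffineOpen_bot Y⟩, 0⟩ l'
  have : K'.IsQuasicoherent := hq
  have : SheafOfModules.IsFiniteType (R := Y.ringCatSheaf) K' := hf
  refine ⟨Bq C K' i, φ C K' i, φ_injective C K' i, fun V => finiteType_Bq C K' i V.2, ?_⟩
  intro p hp
  obtain ⟨g, hg⟩ := hl ⟨p.1, p.2⟩ (List.mem_cons_of_mem _ (List.mem_map.2 ⟨p, hp, rfl⟩))
  refine mem_range_φ C K' i p.1.1 p.2 ?_
  rw [mem_Bsub_iff_of_affine C K' i p.1.2]
  have : p.2 = jU C K' i p.1.1 g := hg.symm
  rw [this]
  exact jU_mem C K' i _ g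




noncomputable section

variable {X Y : Scheme.{u}} (C : RelSpec.QCAlg Y) (f : X ⟶ Y) (g : X ⟶ C.spec) (hg : g ≫ C.π = f)

include hg in
theorem range_subset (U : Y.Opens) (hU : IsAffineOpen U) :
    Set.range ((f ⁻¹ᵁ U).ι ≫ g) ⊆ Set.range (C.ι U hU) := by
  subst hg
  rintro _ ⟨x, rfl⟩
  have h1 : ((((g ≫ C.π) ⁻¹ᵁ U).ι ≫ g) x) ∈ (C.ι U hU).opensRange := by
    rw [← C.π_preimage U hU]
    exact x.2
  exact h1

/-- the restriction of a `Y`-morphism `g : X ⟶ Spec(C)` over an affine open `U ⊆ Y`, as a morphism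
`f⁻¹(U) ⟶ Spec C(U)` -/
def chartMap (U : Y.Opens) (hU : IsAffineOpen U) :
    (f ⁻¹ᵁ U).toScheme ⟶ Spec (C.presheaf.obj (op U)) :=
  IsOpenImmersion.lift (C.ι U hU) ((f ⁻¹ᵁ U).ι ≫ g) (range_subset C f g hg U hU)

theorem chartMap_ι (U : Y.Opens) (hU : IsAffineOpen U) :
    chartMap C f g hg U hU ≫ C.ι U hU = (f ⁻¹ᵁ U).ι ≫ g :=
  IsOpenImmersion.lift_fac _ _ _

theorem chartMap_str (U : Y.Opens) (hU : IsAffineOpen U) :
    chartMap C f g hg U hU ≫ Spec.map (C.str.app (op U)) ≫ hU.fromSpec = (f ⁻¹ᵁ U).ι ≫ f := by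
  rw [← C.ι_π U hU, reassoc_of% (chartMap_ι C f g hg U hU), hg]

instance isImmersion_chartMap [IsImmersion g] (U : Y.Opens) (hU : IsAffineOpen U) :
    IsImmersion (chartMap C f g hg U hU) := by
  have : IsImmersion (chartMap C f g hg U hU ≫ C.ι U hU) := by
    rw [chartMap_ι]; infer_instance
  exact IsImmersion.of_comp _ (C.ι U hU)

include hg in
/-- local criterion: `g` is an immersion if its chart maps over an affine open cover of `Y` are -/
theorem isImmersion_of_charts {ι : Type*} (U : ι → Y.Opens) (hU : ∀ i, IsAffineOpen (U i))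
    (hcov : ⨆ i, U i = ⊤)
    (c : ∀ i, (f ⁻¹ᵁ U i).toScheme ⟶ Spec (C.presheaf.obj (op (U i))))
    (hc : ∀ i, c i ≫ C.ι (U i) (hU i) = (f ⁻¹ᵁ U i).ι ≫ g) (h : ∀ i, IsImmersion (c i)) :
    IsImmersion g := by
  rw [IsZariskiLocalAtTarget.iff_of_iSup_eq_top (P := @IsImmersion) (fun i => C.π ⁻¹ᵁ U i)
    (C.π.iSup_preimage_eq_top hcov)]
  intro i
  have key : ∀ W : X.Opens, W = f ⁻¹ᵁ U i → IsImmersion (W.ι ≫ g) := by
    intro W hW
    subst hW
    rw [← hc i]
    have := h i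
    infer_instance
  have : IsImmersion ((g ∣_ (C.π ⁻¹ᵁ U i)) ≫ (C.π ⁻¹ᵁ U i).ι) := by
    rw [morphismRestrict_ι]
    exact key _ (by subst hg; rfl)
  exact IsImmersion.of_comp (g ∣_ (C.π ⁻¹ᵁ U i)) (C.π ⁻¹ᵁ U i).ι

theorem mem_range_appTop_SpecMap {R S : CommRingCat.{u}} (φ : R ⟶ S) (t : Γ(Spec S, ⊤))
    (h : (Scheme.ΓSpecIso S).hom.hom t ∈ Set.range φ.hom) : t ∈ Set.range (Spec.map φ).appTop.hom := by
  obtain ⟨s, hs⟩ := h
  refine ⟨(Scheme.ΓSpecIso R).inv.hom s, ?_⟩
  have h1 := Scheme.ΓSpecIso_naturality φ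
  have h2 : (Scheme.ΓSpecIso S).hom.hom ((Spec.map φ).appTop.hom ((Scheme.ΓSpecIso R).inv.hom s)) =
      φ.hom ((Scheme.ΓSpecIso R).hom.hom ((Scheme.ΓSpecIso R).inv.hom s)) :=
    congrArg (fun ψ => ψ.hom ((Scheme.ΓSpecIso R).inv.hom s)) h1
  have h3 : (Scheme.ΓSpecIso R).hom.hom ((Scheme.ΓSpecIso R).inv.hom s) = s := by
    rw [← CommRingCat.comp_apply, Iso.inv_hom_id]; rfl
  rw [h3, hs] at h2
  exact (ConcreteCategory.bijective_of_isIso (Scheme.ΓSpecIso S).hom).1 h2

/-- the finitely many sections of `C(U)` controlling the immersion over `U` -/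
theorem exists_finset_chart [QuasiCompact f] [LocallyOfFiniteType f] [IsImmersion g]
    (U : Y.Opens) (hU : IsAffineOpen U) :
    ∃ T : Finset (C.presheaf.obj (op U)), ∀ (C' : RelSpec.QCAlg Y) (φ : C' ⟶ C),
      (∀ t ∈ T, t ∈ Set.range (φ.hom.app (op U)).hom) →
      IsImmersion (chartMap C f g hg U hU ≫ Spec.map (φ.hom.app (op U))) := by
  classical
  have : CompactSpace (f ⁻¹ᵁ U).toScheme :=
    isCompact_iff_compactSpace.mp (f.isCompact_preimage hU.isCompact)
  have : LocallyOfFiniteType (chartMap C f g hg U hU ≫ Spec.map (C.str.app (op U))) := by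
    have : LocallyOfFiniteType ((chartMap C f g hg U hU ≫ Spec.map (C.str.app (op U))) ≫
        hU.fromSpec) := by
      rw [Category.assoc, chartMap_str]; infer_instance
    exact locallyOfFiniteType_of_comp _ hU.fromSpec
  obtain ⟨T, hT⟩ := exists_finset_stage (chartMap C f g hg U hU) (Spec.map (C.str.app (op U)))
  refine ⟨T.image (Scheme.ΓSpecIso (C.presheaf.obj (op U))).hom.hom, ?_⟩
  intro C' φ hr
  refine hT (Spec (C'.presheaf.obj (op U))) (Spec.map (φ.hom.app (op U)))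
    (Spec.map (C'.str.app (op U))) ?_ ?_
  · rw [← Spec.map_comp]
    congr 1
    exact NatTrans.congr_app φ.comm (op U)
  · intro t ht
    exact mem_range_appTop_SpecMap _ t (hr _ (Finset.mem_image_of_mem _ ht))


include hg in
/-- **stage theorem**: over a qcqs base, a `Y`-immersion `g : X ⟶ Spec(C)` of a scheme of finite type over `Y`
remains an immersion into `Spec(C')` for some quasi-coherent subalgebra `C' ⊆ C` of finite type; moreover `C'` can be
taken to contain any given finite list of sections of `C` over affine opens. -/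
theorem exists_ft_sub_isImmersion [CompactSpace Y] [QuasiSeparatedSpace Y] [QuasiCompact f]
    [LocallyOfFiniteType f] [IsImmersion g]
    (l₀ : List (Σ U : Y.affineOpens, C.presheaf.obj (op U.1))) :
    ∃ (C' : RelSpec.QCAlg Y) (φ : C' ⟶ C),
      (∀ V : Y.Opens, Function.Injective (φ.hom.app (op V)).hom) ∧
      (∀ V : Y.affineOpens, (C'.str.app (op (V : Y.Opens))).hom.FiniteType) ∧
      (∀ p ∈ l₀, p.2 ∈ Set.range (φ.hom.app (op p.1.1)).hom) ∧
      IsImmersion (g ≫ RelSpec.QCAlg.specMap φ) := by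
  classical
  obtain ⟨s, hsfin, hs⟩ := (isCompact_iff_finite_and_eq_biUnion_affineOpens (U := (⊤ : Y.Opens))).1
    isCompact_univ
  have hT := fun U : Y.affineOpens => exists_finset_chart C f g hg U.1 U.2
  choose T hT using hT
  let l : List (Σ U : Y.affineOpens, C.presheaf.obj (op U.1)) :=
    hsfin.toFinset.toList.flatMap (fun U => (T U).toList.map (fun t => ⟨U, t⟩))
  obtain ⟨C', φ, hinj, hft, hl⟩ := exists_ft_subalgebra_list C (l₀ ++ l)
  refine ⟨C', φ, hinj, hft, fun p hp => hl p (List.mem_append_left _ hp), ?_⟩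
  have hg' : (g ≫ RelSpec.QCAlg.specMap φ) ≫ C'.π = f := by
    rw [Category.assoc, RelSpec.QCAlg.specMap_π, hg]
  refine isImmersion_of_charts C' f (g ≫ RelSpec.QCAlg.specMap φ) hg'
    (fun i : s => i.1.1) (fun i => i.1.2) ?_
    (fun i => chartMap C f g hg i.1.1 i.1.2 ≫ Spec.map (φ.hom.app (op i.1.1))) ?_ ?_
  · rw [hs, iSup_subtype]
  · intro i
    rw [Category.assoc, ← RelSpec.QCAlg.ι_specMap, reassoc_of% (chartMap_ι C f g hg i.1.1 i.1.2)]
  · intro i
    refine hT i.1 C' φ (fun t ht => hl ⟨i.1, t⟩ (List.mem_append_right _ ?_))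
    apply List.mem_flatMap.2
    refine ⟨i.1, Finset.mem_toList.2 (hsfin.mem_toFinset.2 i.2), ?_⟩
    exact List.mem_map.2 ⟨t, Finset.mem_toList.2 ht, rfl⟩

end

end Groth.Agent.Lib.T2H2.ImmStageB
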