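-- helper6 (team 2): an affine morphism is the relative spectrum of its direct-image algebra; an affine morphism of
-- finite type over a qcqs base embeds as a closed subscheme into a vector bundle V(E), E of finite type (EGA II 1.7.?).
import Mathlib
import Groth.Agent.Lib.T2H6QCAlgGen
import Groth.Agent.Lib.Helper10QAffRelSpec
import Groth.Agent.Lib.Helper13SymAlg
import Groth.Agent.Lib.Helper13SymAlgLocal
import Groth.Agent.Lib.Helper13RelSpecLocal

set_option autoImplicit false
universe u
open CategoryTheory CategoryTheory.Limits AlgebraicGeometry TopologicalSpace Opposite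

namespace Groth.Agent.Lib.T2H6.AffVB

open Groth.Agent.Lib.Helper10.QAffRelSpec Groth.Agent.Lib.T2H6.QCAlgGen

noncomputable section

variable {X S : Scheme.{u}} (f : X ⟶ S)

/-- for an affine morphism `f`, the canonical morphism `X ⟶ Spec_S (f_* O_X)` is an isomorphism -/
theorem isIso_can [IsAffineHom f] : IsIso (can f) := by
  have hiso : IsIso (RelSpec.QCAlg.directImage f).gammaMap :=
    Groth.Agent.S8255.result (RelSpec.QCAlg.directImage f)
  have hloc : ∀ U : S.affineOpens,
      IsIso ((f ⁻¹ᵁ U.1).toSpecΓ ≫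
        Spec.map ((RelSpec.QCAlg.directImage f).gammaMap.app (op U.1))) := by
    intro U
    haveI h0 : IsIso ((RelSpec.QCAlg.directImage f).gammaMap.app (op U.1)) :=
      @NatIso.isIso_app_of_isIso _ _ _ _ _ _ _ hiso (op U.1)
    haveI h1 : IsIso (Spec.map ((RelSpec.QCAlg.directImage f).gammaMap.app (op U.1))) := by
      infer_instance
    have hV : IsAffineOpen (f ⁻¹ᵁ U.1) := U.2.preimage f
    haveI h2 : IsIso (f ⁻¹ᵁ U.1).toSpecΓ := by
      have h3 : (f ⁻¹ᵁ U.1).toSpecΓ = hV.isoSpec.hom := rfl
      rw [h3]; infer_instance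
    exact @IsIso.comp_isIso _ _ _ _ _ _ _ h2 h1
  haveI hoi : IsOpenImmersion (can f) := by
    refine isOpenImmersion_of_local _ (RelSpec.QCAlg.directImage f).π f (can_π f) fun U => ?_
    rw [ι_can f U.1 U.2, ← Category.assoc]
    haveI := hloc U
    infer_instance
  haveI hsurj : Surjective (can f) := by
    refine ⟨fun p => ?_⟩
    obtain ⟨_, ⟨W, hW, rfl⟩, hxW, -⟩ := S.isBasis_affineOpens.exists_subset_of_mem_open
      (Set.mem_univ ((RelSpec.QCAlg.directImage f).π.base p)) isOpen_univ
    have hp : p ∈ (RelSpec.QCAlg.directImage f).π ⁻¹ᵁ W := hxW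
    have hW' := hW.preimage (RelSpec.QCAlg.directImage f).π
    rw [← hW'.opensRange_fromSpec] at hp
    obtain ⟨q, hq⟩ := hp
    haveI := hloc ⟨W, hW⟩
    obtain ⟨x, hx⟩ := (ConcreteCategory.bijective_of_isIso (C := TopCat) ((f ⁻¹ᵁ W).toSpecΓ ≫
        Spec.map ((RelSpec.QCAlg.directImage f).gammaMap.app (op W))).base).2 q
    refine ⟨(f ⁻¹ᵁ W).ι.base x, ?_⟩
    have h1 := ι_can f W hW
    have h2 := congrArg (fun t => t.base x) h1
    simp only [Scheme.Hom.comp_base, TopCat.hom_comp, ContinuousMap.comp_apply] at h2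
    rw [← hq, ← hx]
    simpa using h2
  haveI : Epi (can f).base := (TopCat.epi_iff_surjective _).2 hsurj.surj
  exact (isIso_iff_isOpenImmersion_and_epi_base (can f)).2 ⟨hoi, inferInstance⟩

/-- the direct-image algebra of an affine morphism locally of finite type is of finite type over affine opens -/
theorem finiteType_directImage [IsAffineHom f] [LocallyOfFiniteType f] (U : S.affineOpens) :
    ((RelSpec.QCAlg.directImage f).str.app (op U.1)).hom.FiniteType := by
  have h := f.finiteType_appLE U.2 (U.2.preimage f) le_rfl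
  rwa [← Scheme.Hom.app_eq_appLE] at h

open Groth.Agent.Helper13SymAlg Groth.Agent.Helper13SymLoc in
/-- if `E` generates `B` over `U`, the map from the symmetric algebra of `E(U)` is surjective -/
theorem surjective_σ (B : RelSpec.QCAlg S) (E : S.Modules) [E.IsQuasicoherent] (φ : E ⟶ B.toModule)
    (U : S.Opens) (hA : A B E φ U = ⊤) : Function.Surjective (σ E B φ U) := by
  have hle : A B E φ U ≤ (σ E B φ U).range := by
    refine Subring.closure_le.2 ?_
    rintro y (⟨r, rfl⟩ | ⟨e, rfl⟩)
    · refine ⟨algebraMap Γ(S, U) _ r, ?_⟩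
      unfold σ
      rw [symLift_algebraMap]
    · refine ⟨SymmetricAlgebra.ι Γ(S, U) Γ(E, U) e, ?_⟩
      unfold σ
      rw [symLift_ι]
      rfl
  intro y
  have hy : y ∈ A B E φ U := by rw [hA]; trivial
  exact hle hy

open Groth.Agent.Helper13SymAlg in
/-- **EGA II 1.7.?-style**: an affine morphism of finite type to a qcqs scheme is a closed subscheme of a vector bundle
`V(E)` with `E` quasi-coherent of finite type -/
theorem exists_closedImmersion_vectorBundle [CompactSpace S] [QuasiSeparatedSpace S]
    [IsAffineHom f] [LocallyOfFiniteType f] :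
    ∃ (E : S.Modules) (_ : Coh.IsCoh E) (A : RelSpec.QCAlg S) (j : E ⟶ A.toModule)
      (_ : RelSpec.IsSymAlg E A j) (i : X ⟶ A.spec), IsClosedImmersion i ∧ i ≫ A.π = f := by
  obtain ⟨E, k, -, hq, hft, hgen⟩ :=
    exists_generating_sub (RelSpec.QCAlg.directImage f) (finiteType_directImage f)
  haveI : E.IsQuasicoherent := hq
  haveI := isIso_can f
  let θ : symAlg E ⟶ RelSpec.QCAlg.directImage f := ψ E (RelSpec.QCAlg.directImage f) k
  haveI : IsClosedImmersion (RelSpec.QCAlg.specMap θ) := by
    refine Groth.Agent.Helper13RelSpecLocal.specMap_of_target_local θ @IsClosedImmersion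
      fun U hU => ?_
    apply IsClosedImmersion.spec_of_surjective
    have e1 := σ_comp E (j E) θ U
    rw [j_ψ E (RelSpec.QCAlg.directImage f) k] at e1
    have hs := surjective_σ (RelSpec.QCAlg.directImage f) E k U (hgen ⟨U, hU⟩)
    rw [e1, RingHom.coe_comp] at hs
    exact Function.Surjective.of_comp hs
  refine ⟨E, ⟨hq, hft⟩, symAlg E, j E, isSymAlg E, can f ≫ RelSpec.QCAlg.specMap θ,
    inferInstance, ?_⟩
  rw [Category.assoc, RelSpec.QCAlg.specMap_π, can_π]

end

end Groth.Agent.Lib.T2H6.AffVB
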