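/-
helper2 (team 2): finiteness of relative spectra of finite quasi-coherent algebras, the relative normalization as a
relative spectrum, and the factorization "immersion followed by finite" when `X ⟶ normalization` is an immersion.
-/
import Mathlib
import Groth.Agent.Lib.T2H2ImmStageB
import Groth.Agent.Lib.T2H6AffVB
import Groth.Agent.S8255

set_option autoImplicit false
universe u
open CategoryTheory CategoryTheory.Limits AlgebraicGeometry TopologicalSpace Opposite

namespace Groth.Agent.Lib.T2H2.ImmStageC

open Groth.Agent.Lib.T2H2.ImmStageB Groth.Agent.Lib.Helper10.QAffRelSpec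

noncomputable section

variable {Y : Scheme.{u}}

theorem isIso_gammaAff (A : RelSpec.QCAlg Y) (U : Y.Opens) (hU : IsAffineOpen U) :
    IsIso (A.gammaAff U hU) := by
  have hiso : IsIso A.gammaMap := Groth.Agent.S8255.result A
  rw [← A.gammaMap_app U hU]
  exact @NatIso.isIso_app_of_isIso _ _ _ _ _ _ _ hiso (op U)

/-- the relative spectrum of a quasi-coherent algebra with finite sections over affine opens is finite over the
base -/
theorem isFinite_π (A : RelSpec.QCAlg Y)
    (h : ∀ (U : Y.Opens) (_ : IsAffineOpen U), (A.str.app (op U)).hom.Finite) : IsFinite A.π := by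
  refine (isFinite_iff _).2 ⟨inferInstance, fun U hU => ?_⟩
  have := isIso_gammaAff A U hU
  have e : A.π.app U = A.str.app (op U) ≫ inv (A.gammaAff U hU) := by
    rw [← A.π_app_gammaAff U hU, Category.assoc, IsIso.hom_inv_id, Category.comp_id]
  rw [e, CommRingCat.hom_comp]
  refine RingHom.Finite.comp ?_ (h U hU)
  exact RingHom.Finite.of_surjective _
    (ConcreteCategory.bijective_of_isIso (inv (A.gammaAff U hU))).2

/-- a subalgebra of an integral algebra is integral (sectionwise) -/
theorem isIntegral_of_injective {A A' : RelSpec.QCAlg Y} (φ : A' ⟶ A) (U : Y.Opens)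
    (hinj : Function.Injective (φ.hom.app (op U)).hom) (hA : (A.str.app (op U)).hom.IsIntegral) :
    (A'.str.app (op U)).hom.IsIntegral := by
  intro x
  obtain ⟨P, hP, hPx⟩ := hA ((φ.hom.app (op U)).hom x)
  refine ⟨P, hP, hinj ?_⟩
  rw [map_zero, Polynomial.hom_eval₂]
  have : (φ.hom.app (op U)).hom.comp (A'.str.app (op U)).hom = (A.str.app (op U)).hom := by
    rw [← CommRingCat.hom_comp]
    exact congrArg CommRingCat.Hom.hom (NatTrans.congr_app φ.comm (op U))
  rw [this]
  exact hPx

/-- a quasi-coherent subalgebra of finite type of an integral algebra has finite relative spectrum -/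
theorem isFinite_π_of_sub {A A' : RelSpec.QCAlg Y} (φ : A' ⟶ A)
    (hinj : ∀ V : Y.Opens, Function.Injective (φ.hom.app (op V)).hom)
    (hft : ∀ V : Y.affineOpens, (A'.str.app (op (V : Y.Opens))).hom.FiniteType)
    (hA : ∀ (U : Y.Opens) (_ : IsAffineOpen U), (A.str.app (op U)).hom.IsIntegral) :
    IsFinite A'.π :=
  isFinite_π A' fun U hU =>
    (isIntegral_of_injective φ U (hinj U) (hA U hU)).to_finite (hft ⟨U, hU⟩)

variable {X : Scheme.{u}} (f : X ⟶ Y) [QuasiCompact f] [QuasiSeparated f]

/-- the integral closure of `O_Y` in `f_* O_X`, as a quasi-coherent algebra (the direct image of the structure sheaf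
of the relative normalization) -/
abbrev normAlg : RelSpec.QCAlg Y := RelSpec.QCAlg.directImage f.fromNormalization

theorem isIntegral_normAlg (U : Y.Opens) (hU : IsAffineOpen U) :
    ((normAlg f).str.app (op U)).hom.IsIntegral :=
  f.fromNormalization.isIntegral_app U hU

/-- the canonical morphism `X ⟶ Spec(normAlg f)` -/
def toNormSpec : X ⟶ (normAlg f).spec := f.toNormalization ≫ can f.fromNormalization

theorem toNormSpec_π : toNormSpec f ≫ (normAlg f).π = f := by
  rw [toNormSpec, Category.assoc, can_π, Scheme.Hom.toNormalization_fromNormalization]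

instance isIso_can_fromNormalization : IsIso (can f.fromNormalization) :=
  Groth.Agent.Lib.T2H6.AffVB.isIso_can f.fromNormalization

instance [IsImmersion f.toNormalization] : IsImmersion (toNormSpec f) := by
  unfold toNormSpec; infer_instance

/-- if the canonical morphism to the relative normalization is an immersion, `f` factors as an immersion followed
by a finite morphism (through the relative spectrum of a finite quasi-coherent algebra) -/
theorem exists_immersion_finite [CompactSpace Y] [QuasiSeparatedSpace Y] [LocallyOfFiniteType f]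
    [IsImmersion f.toNormalization] :
    ∃ (C' : RelSpec.QCAlg Y) (g' : X ⟶ C'.spec), IsImmersion g' ∧ IsFinite C'.π ∧ g' ≫ C'.π = f := by
  obtain ⟨C', φ, hinj, hft, -, himm⟩ :=
    exists_ft_sub_isImmersion (normAlg f) f (toNormSpec f) (toNormSpec_π f) []
  refine ⟨C', toNormSpec f ≫ RelSpec.QCAlg.specMap φ, himm,
    isFinite_π_of_sub φ hinj hft (isIntegral_normAlg f), ?_⟩
  rw [Category.assoc, RelSpec.QCAlg.specMap_π, toNormSpec_π]

end

end Groth.Agent.Lib.T2H2.ImmStageC
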