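/-
helper2 (team 2): extending a finite morphism over a quasi-compact open of a qcqs scheme to a finite morphism over the
whole scheme (Stacks-style consequence of Zariski's main theorem S0385).
-/
import Mathlib
import Groth.Agent.S0385

set_option autoImplicit false
universe u
open CategoryTheory CategoryTheory.Limits AlgebraicGeometry TopologicalSpace Opposite

namespace Groth.Agent.Lib.T2H2.FinExt

variable {S V : Scheme.{u}}

/-- if `j : V ⟶ T` lies over `v : V ⟶ U₀` along an open immersion `U₀ ⟶ S`, with `v` universally closed and `T ⟶ S`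
separated, then the range of `j` is closed in the preimage of `U₀` -/
theorem mem_range_of_mem_closure {T U₀ : Scheme.{u}} (j : V ⟶ T) (π₀ : T ⟶ S) (ι : U₀ ⟶ S)
    [IsOpenImmersion ι] (v : V ⟶ U₀) [UniversallyClosed v] [IsSeparated π₀] (h : j ≫ π₀ = v ≫ ι)
    (x : T) (hx : x ∈ closure (Set.range j)) (hxU : π₀ x ∈ Set.range ι) : x ∈ Set.range j := by
  let j' : V ⟶ pullback π₀ ι := pullback.lift j v h
  have hj'1 : j' ≫ pullback.fst π₀ ι = j := pullback.lift_fst _ _ _
  have hj'2 : j' ≫ pullback.snd π₀ ι = v := pullback.lift_snd _ _ _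
  have : UniversallyClosed (j' ≫ pullback.snd π₀ ι) := by rw [hj'2]; infer_instance
  have : UniversallyClosed j' := UniversallyClosed.of_comp_of_isSeparated j' (pullback.snd π₀ ι)
  have hcl : IsClosed (Set.range j') := j'.isClosedMap.isClosed_range
  have hxr : x ∈ Set.range (pullback.fst π₀ ι) := by
    rw [Scheme.Pullback.range_fst]; exact hxU
  obtain ⟨p, rfl⟩ := hxr
  have hpre : (pullback.fst π₀ ι) ⁻¹' (Set.range j) = Set.range j' := by
    ext q
    constructor
    · rintro ⟨y, hy⟩
      refine ⟨y, (pullback.fst π₀ ι).isOpenEmbedding.injective ?_⟩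
      rw [← hy, ← hj'1]; rfl
    · rintro ⟨y, rfl⟩
      exact ⟨y, by rw [← hj'1]; rfl⟩
  have hp : p ∈ closure (Set.range j') := by
    rw [← hpre, ← (pullback.fst π₀ ι).isOpenEmbedding.isOpenMap.preimage_closure_eq_closure_preimage
      (pullback.fst π₀ ι).continuous]
    exact hx
  rw [hcl.closure_eq] at hp
  obtain ⟨y, rfl⟩ := hp
  exact ⟨y, by rw [← hj'1]; rfl⟩

/-- a finite morphism over a quasi-compact open of a qcqs scheme extends to a finite morphism over the whole scheme
(Zariski's main theorem + scheme-theoretic closure) -/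
theorem exists_finite_extension [CompactSpace S] [QuasiSeparatedSpace S] (U : S.Opens)
    (hU : IsCompact (U : Set S)) (v : V ⟶ (U : Scheme.{u})) [IsFinite v] :
    ∃ (Z : Scheme.{u}) (π : Z ⟶ S) (i : V ⟶ Z), IsFinite π ∧ IsOpenImmersion i ∧ i ≫ π = v ≫ U.ι ∧
      ∀ z : Z, π z ∈ U → z ∈ Set.range i := by
  have : CompactSpace (U : Scheme.{u}) := isCompact_iff_compactSpace.mp hU
  have : QuasiCompact U.ι := inferInstance
  obtain ⟨T, j, π₀, hj, hjqc, hπ₀, hfac⟩ := Groth.Agent.S0385.result (v ≫ U.ι)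
  refine ⟨j.image, j.imageι ≫ π₀, j.toImage, inferInstance, inferInstance, ?_, ?_⟩
  · rw [Scheme.Hom.toImage_imageι_assoc, hfac]
  · intro z hz
    have hx : j.imageι z ∈ closure (Set.range j) := by
      have h1 : z ∈ closure (Set.range j.toImage) := j.toImage.denseRange z
      have h2 := image_closure_subset_closure_image j.imageι.continuous (Set.mem_image_of_mem _ h1)
      rw [← Set.range_comp] at h2
      have h3 : (j.imageι : j.image → T) ∘ (j.toImage : V → j.image) = (j : V → T) := by
        funext y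
        conv_rhs => rw [← j.toImage_imageι]
        rfl
      rwa [h3] at h2
    have hxU : π₀ (j.imageι z) ∈ Set.range U.ι := by
      rw [Scheme.Opens.range_ι]; exact hz
    obtain ⟨y, hy⟩ := mem_range_of_mem_closure j π₀ U.ι v hfac (j.imageι z) hx hxU
    refine ⟨y, j.imageι.isEmbedding.injective ?_⟩
    rw [← hy]
    conv_rhs => rw [← j.toImage_imageι]
    rfl

/-- an open immersion onto the preimage of an open gives a cartesian square -/
theorem isPullback_of_range {Z : Scheme.{u}} (π : Z ⟶ S) (i : V ⟶ Z) [IsOpenImmersion i] (U : S.Opens)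
    (v : V ⟶ (U : Scheme.{u})) (hfac : i ≫ π = v ≫ U.ι) (hr : ∀ z : Z, π z ∈ U → z ∈ Set.range i) :
    IsPullback i v π U.ι := by
  refine (IsOpenImmersion.isPullback v i U.ι π hfac ?_).flip
  ext z
  rw [Scheme.Opens.opensRange_ι]
  constructor
  · intro hz; exact hr z hz
  · rintro ⟨y, rfl⟩
    change π (i y) ∈ U
    have : π (i y) = U.ι (v y) := by
      have := congrArg (fun φ : V ⟶ S => φ y) hfac
      exact this
    rw [this]
    exact (v y).2

/-- the surjective version: a surjective finite morphism over a quasi-compact open extends to a surjective finite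
morphism (add the reduced closed complement) -/
theorem exists_surjective_finite_extension [CompactSpace S] [QuasiSeparatedSpace S] (U : S.Opens)
    (hU : IsCompact (U : Set S)) (v : V ⟶ (U : Scheme.{u})) [IsFinite v] [Surjective v] :
    ∃ (V' : Scheme.{u}) (π : V' ⟶ S) (i : V ⟶ V'), Surjective π ∧ IsFinite π ∧ IsPullback i v π U.ι := by
  obtain ⟨Z, πZ, iZ, hπZ, hiZ, hfac, hr⟩ := exists_finite_extension U hU v
  let K : TopologicalSpace.Closeds S := ⟨(U : Set S)ᶜ, U.2.isClosed_compl⟩
  let I := Scheme.IdealSheafData.vanishingIdeal K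
  have hrange : Set.range I.subschemeι = (U : Set S)ᶜ := by
    rw [Scheme.IdealSheafData.range_subschemeι, Scheme.IdealSheafData.coe_support_vanishingIdeal]
    rfl
  let π : Z ⨿ I.subscheme ⟶ S := coprod.desc πZ I.subschemeι
  let i : V ⟶ Z ⨿ I.subscheme := iZ ≫ coprod.inl
  have hi : i ≫ π = v ≫ U.ι := by
    change (iZ ≫ coprod.inl) ≫ coprod.desc πZ I.subschemeι = _
    rw [Category.assoc, coprod.inl_desc, hfac]
  refine ⟨Z ⨿ I.subscheme, π, i, ⟨fun s => ?_⟩, inferInstance, ?_⟩
  · by_cases hs : s ∈ U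
    · obtain ⟨y, hy⟩ := ‹Surjective v›.surj ⟨s, hs⟩
      refine ⟨i y, ?_⟩
      have h1 : π (i y) = U.ι (v y) := congrArg (fun φ : V ⟶ S => φ y) hi
      rw [h1, hy]; rfl
    · have hs' : s ∈ Set.range I.subschemeι := by rw [hrange]; exact hs
      obtain ⟨z', hz'⟩ := hs'
      refine ⟨(coprod.inr : I.subscheme ⟶ Z ⨿ I.subscheme) z', ?_⟩
      have h1 : π ((coprod.inr : I.subscheme ⟶ Z ⨿ I.subscheme) z') = I.subschemeι z' :=
        congrArg (fun φ : I.subscheme ⟶ S => φ z') (coprod.inr_desc πZ I.subschemeι)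
      rw [h1, hz']
  · refine isPullback_of_range π i U v hi ?_
    intro w hw
    obtain ⟨(z | z'), rfl⟩ := (coprodMk Z I.subscheme).surjective w
    · rw [coprodMk_inl] at hw ⊢
      have h1 : π ((coprod.inl : Z ⟶ Z ⨿ I.subscheme) z) = πZ z :=
        congrArg (fun φ : Z ⟶ S => φ z) (coprod.inl_desc πZ I.subschemeι)
      rw [h1] at hw
      obtain ⟨y, rfl⟩ := hr z hw
      exact ⟨y, rfl⟩
    · rw [coprodMk_inr] at hw
      have h1 : π ((coprod.inr : I.subscheme ⟶ Z ⨿ I.subscheme) z') = I.subschemeι z' :=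
        congrArg (fun φ : I.subscheme ⟶ S => φ z') (coprod.inr_desc πZ I.subschemeι)
      rw [h1] at hw
      have h2 : I.subschemeι z' ∈ (U : Set S)ᶜ := by rw [← hrange]; exact ⟨z', rfl⟩
      exact absurd hw h2

/-- the affine version: over `Spec A`, the extension is the spectrum of a finite `A`-algebra -/
theorem exists_finite_algebra (A : Type u) [CommRing A] (U : (Spec (CommRingCat.of A)).Opens)
    (hU : IsCompact (U : Set (Spec (CommRingCat.of A)))) (U' : Scheme.{u})
    (g : U' ⟶ (U : Scheme.{u})) [IsFinite g] :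
    ∃ (B : Type u) (_ : CommRing B) (_ : Algebra A B) (i : U' ⟶ Spec (CommRingCat.of B)),
      Module.Finite A B ∧ IsPullback i g (Spec.map (CommRingCat.ofHom (algebraMap A B))) U.ι := by
  obtain ⟨Z, π, iZ, hπ, hiZ, hfac, hr⟩ := exists_finite_extension U hU g
  have : IsAffine Z := isAffine_of_isAffineHom π
  let φ : CommRingCat.of A ⟶ Γ(Z, ⊤) := (Scheme.ΓSpecIso (CommRingCat.of A)).inv ≫ π.appTop
  let alg : Algebra A Γ(Z, ⊤) := φ.hom.toAlgebra
  have hφ : Z.isoSpec.hom ≫ Spec.map φ = π := by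
    rw [Spec.map_comp, ← Category.assoc, Scheme.isoSpec_hom_naturality, Scheme.isoSpec_Spec_hom,
      Category.assoc, ← Spec.map_comp, Iso.inv_hom_id, Spec.map_id, Category.comp_id]
  have hφ' : CommRingCat.ofHom (algebraMap A Γ(Z, ⊤)) = φ := rfl
  refine ⟨Γ(Z, ⊤), inferInstance, alg, iZ ≫ Z.isoSpec.hom, ?_, ?_⟩
  · have h1 : π.appTop.hom.Finite := π.finite_appTop
    have h2 : φ.hom.Finite := by
      rw [CommRingCat.hom_comp]
      exact h1.comp (RingHom.Finite.of_surjective _
        (ConcreteCategory.bijective_of_isIso (Scheme.ΓSpecIso (CommRingCat.of A)).inv).2)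
    exact h2
  · rw [hφ']
    refine isPullback_of_range (Spec.map φ) (iZ ≫ Z.isoSpec.hom) U g ?_ ?_
    · rw [Category.assoc, hφ, hfac]
    · intro z' hz'
      obtain ⟨z, rfl⟩ : ∃ z, Z.isoSpec.hom z = z' :=
        (ConcreteCategory.bijective_of_isIso (C := TopCat) Z.isoSpec.hom.base).2 z'
      have h1 : Spec.map φ (Z.isoSpec.hom z) = π z :=
        congrArg (fun ψ : Z ⟶ Spec (CommRingCat.of A) => ψ z) hφ
      rw [h1] at hz'
      obtain ⟨y, rfl⟩ := hr z hz'
      exact ⟨y, rfl⟩

end Groth.Agent.Lib.T2H2.FinExt
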