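import Groth.Agent.Lib.T2H2FppfFinite
import Groth.Agent.Lib.T2H2EtaleDom

/-!
# Two-step finite locally free refinement of fppf coverings (helper2)

Used for S7198: combine the étale-local finite flat refinement of an fppf cover (`T2H2FppfFinite`)
with the domination of an étale neighbourhood by a finite flat cover (`T2H2EtaleDom`), shrinking
the base using that finite morphisms are closed.
-/

set_option autoImplicit false
universe w u

namespace Groth.Agent.Lib.T2H2.FinLocFreeRefine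

open AlgebraicGeometry CategoryTheory Limits

/-- Point version of `FppfFinite.exists_etale_finite_flat_refinement`: the flat finitely presented
morphism need not be surjective, only hit the given point. -/
theorem exists_etale_finite_flat_refinement_of_mem_range {S₁ S : Scheme.{u}} (g : S₁ ⟶ S) [Flat g]
    [LocallyOfFinitePresentation g] (s : S) (hs : s ∈ Set.range g) :
    ∃ (S' V : Scheme.{u}) (e : S' ⟶ S) (π : V ⟶ S'), Etale e ∧ s ∈ Set.range ⇑e ∧ Surjective π ∧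
      IsFinite π ∧ Flat π ∧ LocallyOfFinitePresentation π ∧ ∃ r : V ⟶ S₁, r ≫ g = π ≫ e := by
  let S0 : S.Opens := ⟨Set.range g, g.isOpenMap.isOpen_range⟩
  have h1 : Flat (g ∣_ S0) := IsZariskiLocalAtTarget.restrict ‹Flat g› S0
  have h2 : LocallyOfFinitePresentation (g ∣_ S0) :=
    IsZariskiLocalAtTarget.restrict ‹LocallyOfFinitePresentation g› S0
  have h3 : Surjective (g ∣_ S0) := by
    constructor
    rintro ⟨_, ⟨a, rfl⟩⟩
    refine ⟨⟨a, ⟨a, rfl⟩⟩, ?_⟩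
    apply Subtype.ext
    exact morphismRestrict_base_coe g S0 _
  obtain ⟨S', V, e, π, het, ⟨s', hs'⟩, hsurj, hfin, hfl, hfp, r, hr⟩ :=
    Groth.Agent.Lib.T2H2.FppfFinite.exists_etale_finite_flat_refinement (g ∣_ S0) ⟨s, hs⟩
  refine ⟨S', V, e ≫ S0.ι, π, inferInstance, ⟨s', ?_⟩, hsurj, hfin, hfl, hfp,
    r ≫ (g ⁻¹ᵁ S0).ι, ?_⟩
  · rw [Scheme.Hom.comp_apply, hs']
    rfl
  · rw [Category.assoc, ← morphismRestrict_ι, reassoc_of% hr]


/-- The restriction of an open immersion `U₀ ⟶ S` over a smaller open `U ≤ U₀` is an isomorphism. -/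
theorem isIso_ι_restrict {S : Scheme.{u}} {U₀ U : S.Opens} (hle : U ≤ U₀) :
    IsIso (U₀.ι ∣_ U) := by
  rw [isIso_iff_isOpenImmersion_and_surjective]
  refine ⟨inferInstance, ⟨?_⟩⟩
  rintro ⟨x, hx⟩
  refine ⟨⟨⟨x, hle hx⟩, hx⟩, ?_⟩
  apply Subtype.ext
  exact morphismRestrict_base_coe U₀.ι U _

/-- A target-local property of a morphism to an open subscheme `U₀` of `S` is inherited by its
restriction over a smaller open `U ≤ U₀` of `S`. -/
theorem restrict_le_of_isZariskiLocalAtTarget (P : MorphismProperty Scheme.{u})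
    [IsZariskiLocalAtTarget P] {S T₀ : Scheme.{u}} {U₀ U : S.Opens} (hle : U ≤ U₀)
    (π₀ : T₀ ⟶ (U₀ : Scheme.{u})) (h : P π₀) : P ((π₀ ≫ U₀.ι) ∣_ U) := by
  have := isIso_ι_restrict hle
  rw [morphismRestrict_comp]
  exact (P.cancel_right_of_respectsIso (π₀ ∣_ U₀.ι ⁻¹ᵁ U) (U₀.ι ∣_ U)).mpr
    (IsZariskiLocalAtTarget.restrict h _)


/-- An fppf covering family is refined, around any point of the base, by two successive steps of
"Zariski open, then surjective finite locally free". -/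
theorem exists_two_step_refinement {S : Scheme.{u}} {ι : Type w} (X : ι → Scheme.{u})
    (f : ∀ i, X i ⟶ S) (hflat : ∀ i, Flat (f i)) (hfp : ∀ i, LocallyOfFinitePresentation (f i))
    (hsurj : ∀ s : S, ∃ (i : ι) (x : X i), f i x = s) (s : S) :
    ∃ (U : S.Opens) (W : Scheme.{u}) (π : W ⟶ U.toScheme), s ∈ U ∧
      (IsFinite π ∧ Flat π ∧ LocallyOfFinitePresentation π) ∧ Surjective π ∧
      ∀ w : W, ∃ (W' : W.Opens) (T : Scheme.{u}) (ρ : T ⟶ W'.toScheme) (i : ι) (r : T ⟶ X i),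
        w ∈ W' ∧ (IsFinite ρ ∧ Flat ρ ∧ LocallyOfFinitePresentation ρ) ∧ Surjective ρ ∧
          r ≫ f i = ρ ≫ W'.ι ≫ π ≫ U.ι := by
  obtain ⟨i₀, x₀, hx₀⟩ := hsurj s
  have := hflat i₀
  have := hfp i₀
  obtain ⟨S', V, e, πV, het, ⟨s', hs'⟩, hVsurj, hVfin, hVfl, hVfp, r, hr⟩ :=
    exists_etale_finite_flat_refinement_of_mem_range (f i₀) s ⟨x₀, hx₀⟩
  obtain ⟨U₀, T₀, π₀, hsU₀, -, hπ₀surj, hπ₀fin, hπ₀fl, hπ₀fp, hdom⟩ :=
    Groth.Agent.Lib.T2H2.EtaleDom.exists_finite_flat_dominating e s' s hs'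
  -- the opens of `T₀` that map to `S'` over `S`
  let 𝒲 : Set T₀.Opens := {Wt | ∃ h : (Wt : Scheme.{u}) ⟶ S', h ≫ e = Wt.ι ≫ π₀ ≫ U₀.ι}
  let O : T₀.Opens := sSup 𝒲
  have hOfib : ∀ t : T₀, U₀.ι (π₀ t) = s → t ∈ O := by
    intro t ht
    obtain ⟨Wt, h, htW, hh, -⟩ := hdom t ht
    exact TopologicalSpace.Opens.mem_sSup.mpr ⟨Wt, ⟨h, hh⟩, htW⟩
  have hclosed : IsClosed (π₀ '' (O : Set T₀)ᶜ) :=
    π₀.isClosedMap _ O.isOpen.isClosed_compl
  let U₁ : (U₀ : Scheme.{u}).Opens := ⟨(π₀ '' (O : Set T₀)ᶜ)ᶜ, hclosed.isOpen_compl⟩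
  let U : S.Opens := U₀.ι ''ᵁ U₁
  have hle : U ≤ U₀ := by
    rintro x ⟨y, -, rfl⟩
    exact y.2
  have hsU : s ∈ U := by
    refine ⟨⟨s, hsU₀⟩, ?_, rfl⟩
    rintro ⟨z, hz, hzs⟩
    refine hz (hOfib z ?_)
    rw [hzs]
    rfl
  let W : T₀.Opens := (π₀ ≫ U₀.ι) ⁻¹ᵁ U
  let π : (W : Scheme.{u}) ⟶ (U : Scheme.{u}) := (π₀ ≫ U₀.ι) ∣_ U
  have hπ : π ≫ U.ι = W.ι ≫ π₀ ≫ U₀.ι := morphismRestrict_ι _ _
  refine ⟨U, W, π, hsU, ⟨restrict_le_of_isZariskiLocalAtTarget @IsFinite hle π₀ hπ₀fin,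
    restrict_le_of_isZariskiLocalAtTarget @Flat hle π₀ hπ₀fl,
    restrict_le_of_isZariskiLocalAtTarget @LocallyOfFinitePresentation hle π₀ hπ₀fp⟩,
    restrict_le_of_isZariskiLocalAtTarget @Surjective hle π₀ hπ₀surj, ?_⟩
  rintro ⟨w₀, hw₀⟩
  -- `w₀` lies in `O`
  have hw₀O : w₀ ∈ O := by
    obtain ⟨y, hy, hyw⟩ := hw₀
    have hy' : y = π₀ w₀ := U₀.ι.isOpenEmbedding.injective hyw
    by_contra hcon
    exact hy ⟨w₀, hcon, hy'.symm⟩
  obtain ⟨Wt, ⟨h, hh⟩, hwWt⟩ := TopologicalSpace.Opens.mem_sSup.mp hw₀O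
  let W' : (W : Scheme.{u}).Opens := W.ι ⁻¹ᵁ Wt
  let k : (W' : Scheme.{u}) ⟶ S' := (W.ι ∣_ Wt) ≫ h
  refine ⟨W', pullback k πV, pullback.fst k πV, i₀, pullback.snd k πV ≫ r, hwWt,
    ⟨inferInstance, inferInstance, inferInstance⟩, inferInstance, ?_⟩
  rw [Category.assoc, hr, ← pullback.condition_assoc]
  simp only [k, Category.assoc]
  rw [hh, hπ]
  have : (W.ι ∣_ Wt) ≫ Scheme.Opens.ι Wt = W'.ι ≫ W.ι := morphismRestrict_ι _ _
  rw [reassoc_of% this]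

end Groth.Agent.Lib.T2H2.FinLocFreeRefine
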