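import Groth.Agent.Lib.T2H2IsoBCA
import Groth.Agent.Lib.T2H2AffRedB
import Groth.Agent.Lib.T2H2TildePushC
import Groth.Agent.Lib.T2H1RestrictPush
import Groth.Agent.Lib.T2H1RpushSupport
import Groth.Agent.Lib.Helper1Restrict
import Groth.Agent.S7268

/-!
# Direct images along affine morphisms on affine charts (T2H2)

For `f : X ⟶ Y`, `V ⊆ Y` an affine open with affine preimage `U = f⁻¹V`, the restriction of
`Rf_* E` to the chart `Spec Γ(Y, V)` is `R(Spec φ)_*` of the restriction of `E` to the chart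
`Spec Γ(X, U)`, where `φ = f.app V`.
-/

set_option autoImplicit false
set_option linter.style.haveILetI false
universe u
open CategoryTheory CategoryTheory.Limits AlgebraicGeometry Opposite

attribute [local instance] HasDerivedCategory.standard

namespace Groth.Agent.Lib.T2H2.FinPush

open Scheme.Modules Groth.Agent.Lib.T2H8.PerfLocal Groth.Agent.Lib.T2H2.AffRed
  Groth.Agent.Lib.T2H2.TildeLoc Groth.Agent.Lib.T2H2.IsoBC DerivedCategory
  Groth.Agent.Lib.T2H1.RpushSupport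

variable {X Y : Scheme.{u}} (f : X ⟶ Y) {V : Y.Opens} (hV : IsAffineOpen V)
  (hU : IsAffineOpen (f ⁻¹ᵁ V))

/-- the commutative square of isomorphisms relating `f ∣_ V` and `Spec (f.app V)` -/
lemma isoSpec_inv_comp_morphismRestrict :
    hU.isoSpec.inv ≫ (f ∣_ V) = Spec.map (f.app V) ≫ hV.isoSpec.inv := by
  rw [← cancel_mono V.ι, Category.assoc, Category.assoc, morphismRestrict_ι,
    IsAffineOpen.isoSpec_inv_ι, ← Category.assoc, IsAffineOpen.isoSpec_inv_ι,
    Scheme.Hom.app_eq_appLE, IsAffineOpen.SpecMap_appLE_fromSpec]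

/-- `(Rf_* E)|_{Spec A} ≅ R(Spec φ)_* (E|_{Spec B})` for affine charts. -/
theorem nonempty_rD_Rpush_chart_iso [DCoh.HasRpush f] [DCoh.HasRpush (Spec.map (f.app V))]
    (E : DCoh.D X) :
    Nonempty ((rD hV.fromSpec).obj ((DCoh.Rpush f).obj E) ≅
      (DCoh.Rpush (Spec.map (f.app V))).obj ((rD hU.fromSpec).obj E)) := by
  haveI := hasRpush (f ∣_ V)
  obtain ⟨e1⟩ := Groth.Agent.Lib.T2H1.RestrictPush.nonempty_restrictD_Rpush_iso f V
  obtain ⟨e2⟩ := nonempty_Rpush_rD_iso hU.isoSpec.symm hV.isoSpec.symm (f ∣_ V)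
    (Spec.map (f.app V)) (isoSpec_inv_comp_morphismRestrict f hV hU)
  exact ⟨((rDComp hV.isoSpec.inv V.ι hV.fromSpec rfl).app ((DCoh.Rpush f).obj E)).symm ≪≫
    (rD hV.isoSpec.inv).mapIso (e1.app E) ≪≫ e2.app ((rD (f ⁻¹ᵁ V).ι).obj E) ≪≫
    (DCoh.Rpush (Spec.map (f.app V))).mapIso
      ((rDComp hU.isoSpec.inv (f ⁻¹ᵁ V).ι hU.fromSpec rfl).app E)⟩

end Groth.Agent.Lib.T2H2.FinPush
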