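import Groth.Agent.Lib.T2H2FinPushA

/-!
# Pseudo-coherence and direct images along affine morphisms (T2H2)
-/

set_option autoImplicit false
set_option linter.style.haveILetI false
universe u
open CategoryTheory CategoryTheory.Limits AlgebraicGeometry Opposite

attribute [local instance] HasDerivedCategory.standard

namespace Groth.Agent.Lib.T2H2.FinPush

open Scheme.Modules Groth.Agent.Lib.T2H8.PerfLocal Groth.Agent.Lib.T2H2.AffRed
  Groth.Agent.Lib.T2H2.TildeLoc Groth.Agent.Lib.T2H2.IsoBC DerivedCategory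
  Groth.Agent.Lib.T2H1.RpushSupport Groth.Agent.Lib.T2H1.RestrictPush

variable {X Y : Scheme.{u}} (f : X ⟶ Y) {V : Y.Opens} (hV : IsAffineOpen V)
  (hU : IsAffineOpen (f ⁻¹ᵁ V))

/-- underived: `(f_* M)|_{Spec A} ≅ (Spec φ)_* (M|_{Spec B})` -/
noncomputable def chartPushIso (M : X.Modules) :
    (restrictFunctor hV.fromSpec).obj ((pushforward f).obj M) ≅
      (pushforward (Spec.map (f.app V))).obj ((restrictFunctor hU.fromSpec).obj M) :=
  ((restrictFunctorComp hV.isoSpec.inv V.ι).app ((pushforward f).obj M)) ≪≫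
  (restrictFunctor hV.isoSpec.inv).mapIso ((pushRestrictIso f V).app M) ≪≫
  (pushRestrictIsoOfIso hU.isoSpec.symm hV.isoSpec.symm (f ∣_ V) (Spec.map (f.app V))
    (isoSpec_inv_comp_morphismRestrict f hV hU)).app ((restrictFunctor (f ⁻¹ᵁ V).ι).obj M) ≪≫
  (pushforward (Spec.map (f.app V))).mapIso
    ((restrictFunctorComp hU.isoSpec.inv (f ⁻¹ᵁ V).ι).symm.app M)

include hV hU in
/-- `Γ(X, f⁻¹V)` is a pseudo-coherent `Γ(Y, V)`-module when `f_* O_X` is pseudo-coherent. -/
theorem bpc_of_isPseudoCoherentD_push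
    (hO : ∀ m : ℤ, DCoh.IsPseudoCoherentD m
      (DCoh.inD Y ((pushforward f).obj (Coh.structureModule X)))) :
    Groth.Agent.Lib.Helper1.Restrict.BPC (A := Γ(Y, V)) (B := Γ(X, f ⁻¹ᵁ V)) (f.app V).hom := by
  intro j
  refine isPC_of_isPseudoCoherentD_tildeD Γ(Y, V) _ j ?_
  have h := isPseudoCoherentD_rD hV.fromSpec j _ (hO j)
  refine isPseudoCoherentD_of_iso ?_ j h
  exact ((restrictFunctor hV.fromSpec).mapDerivedCategorySingleFunctor 0).app _ ≪≫
    (singleFunctor _ 0).mapIso (chartPushIso f hV hU (Coh.structureModule X) ≪≫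
      (pushforward (Spec.map (f.app V))).mapIso (restrictUnitIso hU.fromSpec ≪≫ tildeSelf.symm) ≪≫
      (Groth.Agent.Lib.T2H2.TildePush.tildePushIso (f.app V)).app (ModuleCat.of _ _)) ≪≫
    (((tilde.functor _).mapDerivedCategorySingleFunctor 0).app _).symm

end Groth.Agent.Lib.T2H2.FinPush
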