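import Mathlib
import Groth.Prelude.Def_FlatCA
import Groth.Prelude.Def_Fitting
import Groth.Agent.S6890
import Groth.Agent.S6891
import Groth.Agent.S6892
import Groth.Agent.S12084

/-!
# Fitting ideals and étale localizations of finite locally free algebras

For `A → C` finite, `h ∈ C` with `D = C_h` unramified over `A`, and an ideal `J` of `C`, the extension of
`Fitt_0^A(C/J)` to `D` is `J D · J'` for an ideal `J'` of `D`.
-/

set_option autoImplicit false

universe u

open TensorProduct

namespace Groth.Agent.Lib.T2H2.FittEtale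

section basic

variable {R : Type u} [CommRing R] {M : Type u} [AddCommGroup M] [Module R M]

theorem fittingZero_eq : FlatCA.fittingZero R M = Fitt.ideal R M 0 := by
  unfold FlatCA.fittingZero Fitt.ideal
  congr 1
  ext d
  constructor
  · rintro ⟨n, x, a, hx, ha, rfl⟩
    exact ⟨n, x, a, hx, fun i _ => ha i, rfl⟩
  · rintro ⟨n, x, a, hx, ha, rfl⟩
    exact ⟨n, x, a, hx, fun i => ha i (by simp), rfl⟩

theorem fitt_congr {M' : Type u} [AddCommGroup M'] [Module R M'] [Module.Finite R M]
    (e : M ≃ₗ[R] M') (k : ℕ) : Fitt.ideal R M k = Fitt.ideal R M' k := by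
  have : Module.Finite R M' := Module.Finite.equiv e
  apply le_antisymm
  · exact (Groth.Agent.S6892.result M M' k).2.2 e.toLinearMap e.surjective
  · exact (Groth.Agent.S6892.result M' M k).2.2 e.symm.toLinearMap e.symm.surjective

theorem fitt_zero_cyclic (g : M) (hg : Submodule.span R {g} = ⊤) :
    Fitt.ideal R M 0 = Module.annihilator R M := by
  apply le_antisymm Groth.Agent.S6891.fitt_zero_le_annihilator
  intro s hs
  unfold Fitt.ideal
  apply Ideal.subset_span
  refine ⟨1, fun _ => g, Matrix.of fun _ _ => s, ?_, fun i _ => ?_, ?_⟩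
  · rw [← hg]
    congr 1
    ext y
    simp
  · rw [Module.mem_annihilator] at hs
    simp [hs]
  · simp

end basic

section elem

variable {A C : Type u} [CommRing A] [CommRing C] [Algebra A C]

/-- the multiplication map `D ⊗_A C → D`. -/
noncomputable def mu (h : C) : (Localization.Away h) ⊗[A] C →ₐ[A] Localization.Away h :=
  Algebra.TensorProduct.productMap (AlgHom.id A (Localization.Away h))
    (IsScalarTower.toAlgHom A C (Localization.Away h))

@[simp] theorem mu_tmul (h : C) (d : Localization.Away h) (c : C) :
    mu (A := A) h (d ⊗ₜ c) = d * algebraMap C (Localization.Away h) c := by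
  simp [mu]

/-- the localization map `D ⊗_A C → D ⊗_A D`. -/
noncomputable def psi (h : C) :
    (Localization.Away h) ⊗[A] C →ₐ[A] (Localization.Away h) ⊗[A] (Localization.Away h) :=
  Algebra.TensorProduct.map (AlgHom.id A (Localization.Away h))
    (IsScalarTower.toAlgHom A C (Localization.Away h))

@[simp] theorem psi_tmul (h : C) (d : Localization.Away h) (c : C) :
    psi (A := A) h (d ⊗ₜ c) = d ⊗ₜ algebraMap C (Localization.Away h) c := by
  simp [psi]

theorem lmul_psi (h : C) (x : (Localization.Away h) ⊗[A] C) :
    Algebra.TensorProduct.lmul' A (psi (A := A) h x) = mu h x := by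
  induction x using TensorProduct.induction_on with
  | zero => simp
  | tmul d c => simp
  | add x y hx hy => simp [hx, hy]

theorem isLocalization_psi (h : C) :
    @IsLocalization _ _ ((Submonoid.powers h).map
      (Algebra.TensorProduct.includeRight (R := A) (A := Localization.Away h)))
      ((Localization.Away h) ⊗[A] (Localization.Away h)) _ (psi (A := A) h).toRingHom.toAlgebra := by
  let _ : Algebra ((Localization.Away h) ⊗[A] C)
      ((Localization.Away h) ⊗[A] (Localization.Away h)) := (psi (A := A) h).toRingHom.toAlgebra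
  have : IsScalarTower (Localization.Away h) ((Localization.Away h) ⊗[A] C)
      ((Localization.Away h) ⊗[A] (Localization.Away h)) :=
    by
      refine IsScalarTower.of_algebraMap_eq (R := Localization.Away h)
        (S := (Localization.Away h) ⊗[A] C)
        (A := (Localization.Away h) ⊗[A] (Localization.Away h)) (fun x => ?_)
      change (x ⊗ₜ[A] (1 : Localization.Away h) : (Localization.Away h) ⊗[A] (Localization.Away h))
        = psi (A := A) h (x ⊗ₜ 1)
      simp
  exact IsLocalization.tensorProduct_tensorProduct_right A (Localization.Away h)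
    (Submonoid.powers h) (Localization.Away h)
    (by ext; simp [RingHom.algebraMap_toAlgebra, psi])

/-- the element `1 ⊗ c - c ⊗ 1`, linear in `c`. -/
noncomputable def kk (h : C) : C →ₗ[A] (Localization.Away h) ⊗[A] C :=
  (TensorProduct.mk A (Localization.Away h) C 1) -
    ((TensorProduct.mk A (Localization.Away h) C).flip 1).comp
      (IsScalarTower.toAlgHom A C (Localization.Away h)).toLinearMap

@[simp] theorem kk_apply (h : C) (c : C) :
    kk (A := A) h c = (1 : Localization.Away h) ⊗ₜ[A] c -
      algebraMap C (Localization.Away h) c ⊗ₜ[A] (1 : C) := by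
  simp [kk]

theorem exists_elem [Module.Finite A C] (h : C)
    [Algebra.FormallyUnramified A (Localization.Away h)]
    [Algebra.EssFiniteType A (Localization.Away h)] :
    ∃ e : (Localization.Away h) ⊗[A] C, mu h e = 1 ∧ ∀ c : C, e * kk h c = 0 := by
  classical
  let M' : Submonoid ((Localization.Away h) ⊗[A] C) := (Submonoid.powers h).map
      (Algebra.TensorProduct.includeRight (R := A) (A := Localization.Away h))
  let _ : Algebra ((Localization.Away h) ⊗[A] C)
      ((Localization.Away h) ⊗[A] (Localization.Away h)) := (psi (A := A) h).toRingHom.toAlgebra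
  have hloc : IsLocalization M' ((Localization.Away h) ⊗[A] (Localization.Away h)) :=
    isLocalization_psi h
  have hmap : ∀ x : (Localization.Away h) ⊗[A] C,
      algebraMap ((Localization.Away h) ⊗[A] C)
        ((Localization.Away h) ⊗[A] (Localization.Away h)) x = psi h x := fun _ => rfl
  obtain ⟨⟨t', s⟩, hts⟩ := IsLocalization.surj M'
    (Algebra.FormallyUnramified.elem A (Localization.Away h))
  simp only at hts
  have hk : ∀ c : C, ∃ m : M', (m : (Localization.Away h) ⊗[A] C) * (t' * kk h c) = 0 := by
    intro c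
    have h0 : algebraMap ((Localization.Away h) ⊗[A] C)
        ((Localization.Away h) ⊗[A] (Localization.Away h)) (t' * kk h c) = 0 := by
      rw [map_mul, ← hts, hmap (kk h c), kk_apply, map_sub, psi_tmul, psi_tmul]
      simp only [map_one]
      rw [mul_comm (Algebra.FormallyUnramified.elem A (Localization.Away h)), mul_assoc,
        mul_comm (Algebra.FormallyUnramified.elem A (Localization.Away h)),
        Algebra.FormallyUnramified.one_tmul_sub_tmul_one_mul_elem, mul_zero]
    exact (IsLocalization.map_eq_zero_iff M' _ _).mp h0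
  choose m hm using hk
  obtain ⟨S, hS⟩ := Module.Finite.fg_top (R := A) (M := C)
  let mm : M' := ∏ c ∈ S, m c
  have hmm : ∀ c : C, (mm : (Localization.Away h) ⊗[A] C) * (t' * kk h c) = 0 := by
    intro c
    have hlin : (LinearMap.mulLeft A ((mm : (Localization.Away h) ⊗[A] C) * t')).comp (kk h) = 0 := by
      apply LinearMap.ext_on hS
      intro c hc
      simp only [LinearMap.comp_apply, LinearMap.mulLeft_apply, LinearMap.zero_apply]
      have : (mm : (Localization.Away h) ⊗[A] C) = (∏ c' ∈ S.erase c, m c' : M') * m c := by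
        simp only [mm]
        rw [← Finset.prod_erase_mul S _ hc]
        simp
      rw [this, mul_assoc, mul_assoc, hm c, mul_zero]
    have := LinearMap.congr_fun hlin c
    simpa [mul_assoc] using this
  have hunit : ∀ x : M', IsUnit (mu (A := A) h (x : (Localization.Away h) ⊗[A] C)) := by
    rintro ⟨_, y, hy, rfl⟩
    simpa using IsLocalization.map_units (Localization.Away h) (⟨y, hy⟩ : Submonoid.powers h)
  have hmut' : mu h t' = mu h (s : (Localization.Away h) ⊗[A] C) := by
    rw [← lmul_psi, ← hmap, ← hts, map_mul, Algebra.FormallyUnramified.lmul_elem, one_mul, hmap,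
      lmul_psi]
  obtain ⟨u, hu⟩ := (hunit mm).mul (hunit s)
  refine ⟨((↑u⁻¹ : Localization.Away h) ⊗ₜ[A] (1 : C)) * (mm * t'), ?_, ?_⟩
  · rw [map_mul, map_mul, hmut', ← hu, mu_tmul, map_one, mul_one, Units.inv_mul]
  · intro c
    rw [mul_assoc, mul_assoc, hmm c, mul_zero]

end elem

section main

variable {A C : Type u} [CommRing A] [CommRing C] [Algebra A C] (h : C) (J : Ideal C)

/-- the quotient map `D ⊗ C → D ⊗ C/J`. -/
noncomputable def phi : (Localization.Away h) ⊗[A] C →ₐ[A] (Localization.Away h) ⊗[A] (C ⧸ J) :=
  Algebra.TensorProduct.map (AlgHom.id A (Localization.Away h)) (Ideal.Quotient.mkₐ A J)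

@[simp] theorem phi_tmul (d : Localization.Away h) (c : C) :
    phi (A := A) h J (d ⊗ₜ c) = d ⊗ₜ Ideal.Quotient.mk J c := by
  simp [phi]

theorem phi_surjective : Function.Surjective (phi (A := A) h J) :=
  Algebra.TensorProduct.map_surjective _ _ Function.surjective_id (Ideal.Quotient.mkₐ_surjective A J)

theorem ker_phi : RingHom.ker (phi (A := A) h J) =
    J.map (Algebra.TensorProduct.includeRight : C →ₐ[A] (Localization.Away h) ⊗[A] C) := by
  rw [phi, Algebra.TensorProduct.lTensor_ker _ (Ideal.Quotient.mkₐ_surjective A J)]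
  congr 1
  exact Ideal.Quotient.mkₐ_ker A J

variable {h} in
theorem e_mul {e : (Localization.Away h) ⊗[A] C} (he : ∀ c : C, e * kk h c = 0)
    (x : (Localization.Away h) ⊗[A] C) : e * x = e * (mu h x ⊗ₜ[A] (1 : C)) := by
  induction x using TensorProduct.induction_on with
  | zero => simp
  | tmul d c =>
    have h1 := he c
    rw [kk_apply, mul_sub, sub_eq_zero] at h1
    have h2 : d ⊗ₜ[A] c = (d ⊗ₜ[A] (1 : C)) * ((1 : Localization.Away h) ⊗ₜ[A] c) := by simp
    have h3 : (mu h (d ⊗ₜ[A] c)) ⊗ₜ[A] (1 : C) = (d ⊗ₜ[A] (1 : C)) *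
        (algebraMap C (Localization.Away h) c ⊗ₜ[A] (1 : C)) := by simp
    rw [h3, h2, mul_left_comm, h1, mul_left_comm]
  | add x y hx hy => rw [mul_add, hx, hy, map_add, TensorProduct.add_tmul, mul_add]

theorem main [Module.Finite A C] [Algebra.FormallyUnramified A (Localization.Away h)]
    [Algebra.EssFiniteType A (Localization.Away h)] :
    ∃ J' : Ideal (Localization.Away h),
      (Fitt.ideal A (C ⧸ J) 0).map (algebraMap A (Localization.Away h)) =
        J.map (algebraMap C (Localization.Away h)) * J' ∧
      (Module.FinitePresentation A (C ⧸ J) → J'.FG) := by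
  obtain ⟨e, he1, he⟩ := exists_elem (A := A) h
  have hee : e * e = e := by
    rw [e_mul he e, he1, ← Algebra.TensorProduct.one_def, mul_one]
  have hebeb : phi h J e * phi h J e = phi h J e := by rw [← map_mul, hee]
  let p : (Localization.Away h) ⊗[A] (C ⧸ J) →ₗ[Localization.Away h]
      (Localization.Away h) ⊗[A] (C ⧸ J) := LinearMap.mulLeft (Localization.Away h) (phi h J e)
  have hp : IsIdempotentElem p := by
    ext x
    simp only [p]
    change phi h J e * (phi h J e * _) = phi h J e * _
    rw [← mul_assoc, hebeb]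
  have hcompl : IsCompl (LinearMap.range p) (LinearMap.ker p) := LinearMap.IsIdempotentElem.isCompl hp
  -- scalar multiplication
  have hsmul : ∀ (d : Localization.Away h) (q : (Localization.Away h) ⊗[A] (C ⧸ J)),
      d • q = (d ⊗ₜ[A] (1 : C ⧸ J)) * q := by
    intro d q
    induction q using TensorProduct.induction_on with
    | zero => simp
    | tmul a b => simp [TensorProduct.smul_tmul']
    | add x y hx hy => rw [smul_add, hx, hy, mul_add]
  -- the key formula
  have hkey : ∀ x : (Localization.Away h) ⊗[A] C, phi h J e * phi h J x = mu h x • phi h J e := by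
    intro x
    rw [← map_mul, e_mul he x, map_mul, phi_tmul, map_one, hsmul, mul_comm]
  have hmem : phi h J e ∈ LinearMap.range p := ⟨1, by simp [p]⟩
  have hspan : Submodule.span (Localization.Away h)
      {(⟨phi h J e, hmem⟩ : LinearMap.range p)} = ⊤ := by
    rw [eq_top_iff]
    rintro ⟨y, q, rfl⟩ -
    obtain ⟨x, rfl⟩ := phi_surjective (A := A) h J q
    rw [Submodule.mem_span_singleton]
    refine ⟨mu h x, ?_⟩
    apply Subtype.ext
    simp only [p, LinearMap.mulLeft_apply, SetLike.mk_smul_mk]
    exact (hkey x).symm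
  have hann : Module.annihilator (Localization.Away h) (LinearMap.range p) =
      J.map (algebraMap C (Localization.Away h)) := by
    apply le_antisymm
    · intro d hd
      rw [Module.mem_annihilator] at hd
      have h1 := congrArg Subtype.val (hd ⟨phi h J e, hmem⟩)
      simp only [SetLike.mk_smul_mk, ZeroMemClass.coe_zero] at h1
      rw [hsmul] at h1
      have h2 : (d ⊗ₜ[A] (1 : C)) * e ∈ RingHom.ker (phi (A := A) h J) := by
        rw [RingHom.mem_ker, map_mul, phi_tmul, map_one]
        exact h1
      rw [ker_phi] at h2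
      have h4 : J.map (Algebra.TensorProduct.includeRight :
          C →ₐ[A] (Localization.Away h) ⊗[A] C) ≤
          (J.map (algebraMap C (Localization.Away h))).comap (mu (A := A) h) := by
        rw [Ideal.map_le_iff_le_comap]
        intro j hj
        rw [Ideal.mem_comap, Ideal.mem_comap]
        simpa using Ideal.mem_map_of_mem (algebraMap C (Localization.Away h)) hj
      have h3 := h4 h2
      rw [Ideal.mem_comap, map_mul, he1, mu_tmul, map_one, mul_one, mul_one] at h3
      exact h3
    · rw [Ideal.map_le_iff_le_comap]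
      intro j hj
      rw [Ideal.mem_comap, Module.mem_annihilator]
      rintro ⟨y, q, rfl⟩
      apply Subtype.ext
      simp only [p, LinearMap.mulLeft_apply, SetLike.mk_smul_mk, ZeroMemClass.coe_zero]
      have h1 := he j
      rw [kk_apply, mul_sub, sub_eq_zero] at h1
      have h2 : (algebraMap C (Localization.Away h) j) • phi h J e = 0 := by
        rw [hsmul]
        have : (algebraMap C (Localization.Away h) j ⊗ₜ[A] (1 : C ⧸ J)) =
            phi h J (algebraMap C (Localization.Away h) j ⊗ₜ[A] (1 : C)) := by simp
        rw [this, ← map_mul, mul_comm, ← h1, map_mul, phi_tmul, Ideal.Quotient.eq_zero_iff_mem.mpr hj,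
          TensorProduct.tmul_zero, mul_zero]
      rw [← smul_mul_assoc, h2, zero_mul]
  have hfinQ : Module.Finite (Localization.Away h) ((Localization.Away h) ⊗[A] (C ⧸ J)) :=
    inferInstance
  have hfin1 : Module.Finite (Localization.Away h) (LinearMap.range p) := inferInstance
  have hfin2 : Module.Finite (Localization.Away h) (LinearMap.ker p) :=
    Module.Finite.equiv (Submodule.quotientEquivOfIsCompl _ _ hcompl)
  refine ⟨Fitt.ideal (Localization.Away h) (LinearMap.ker p) 0, ?_, ?_⟩
  · have eqv : ((Localization.Away h) ⊗[A] (C ⧸ J)) ≃ₗ[Localization.Away h]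
        (LinearMap.range p × LinearMap.ker p) := (Submodule.prodEquivOfIsCompl _ _ hcompl).symm
    have hF1 : Fitt.ideal (Localization.Away h) (LinearMap.range p) 0 =
        J.map (algebraMap C (Localization.Away h)) := by
      rw [← hann]
      exact fitt_zero_cyclic (R := Localization.Away h) (M := LinearMap.range p)
        ⟨phi h J e, hmem⟩ hspan
    rw [← Groth.Agent.S6890.result (C ⧸ J) 0,
      fitt_congr (M' := LinearMap.range p × LinearMap.ker p) eqv 0,
      Groth.Agent.S12084.result, ← hF1]
    simp
  · intro hfp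
    have hfpQ : Module.FinitePresentation (Localization.Away h)
        ((Localization.Away h) ⊗[A] (C ⧸ J)) := inferInstance
    have hfpK : Module.FinitePresentation (Localization.Away h) (LinearMap.ker p) := by
      obtain ⟨l, hl⟩ : ∃ l : ((Localization.Away h) ⊗[A] (C ⧸ J)) →ₗ[Localization.Away h]
          LinearMap.ker p, l = (Submodule.quotientEquivOfIsCompl _ _ hcompl).toLinearMap.comp
            (LinearMap.range p).mkQ := ⟨_, rfl⟩
      refine Module.finitePresentation_of_surjective (R := Localization.Away h)
        (M := (Localization.Away h) ⊗[A] (C ⧸ J)) (N := LinearMap.ker p) l ?_ ?_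
      · rw [hl]
        exact (Submodule.quotientEquivOfIsCompl _ _ hcompl).surjective.comp
          (Submodule.mkQ_surjective _)
      · rw [hl, LinearEquiv.ker_comp, Submodule.ker_mkQ]
        exact (Module.Finite.iff_fg).mp hfin1
    exact (Groth.Agent.S6892.result (LinearMap.ker p) (LinearMap.ker p) 0).2.1 hfpK

end main

theorem finitePresentation_quotient {A C : Type u} [CommRing A] [CommRing C] [Algebra A C]
    [Module.Finite A C] [Module.FinitePresentation A C] (J : Ideal C) (hJ : J.FG) :
    Module.FinitePresentation A (C ⧸ J) := by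
  refine Module.finitePresentation_of_surjective (Ideal.Quotient.mkₐ A J).toLinearMap
    (Ideal.Quotient.mkₐ_surjective A J) ?_
  have h1 : LinearMap.ker (Ideal.Quotient.mkₐ A J).toLinearMap = J.restrictScalars A := by
    ext x
    simp [Ideal.Quotient.eq_zero_iff_mem]
  rw [h1]
  have : Module.Finite C J := Module.Finite.iff_fg.mpr hJ
  have : Module.Finite A J := Module.Finite.trans C J
  have : Module.Finite A (J.restrictScalars A) :=
    Module.Finite.equiv ((Submodule.restrictScalarsEquiv A C C J).symm.restrictScalars A)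
  exact Module.Finite.iff_fg.mp this

section etale

/-- A finitely generated ideal of a localization is the extension of a finitely generated ideal. -/
theorem exists_fg_map_eq {C : Type u} [CommRing C] (M : Submonoid C) (S : Type u) [CommRing S]
    [Algebra C S] [IsLocalization M S] (I : Ideal S) (hI : I.FG) :
    ∃ I₀ : Ideal C, I₀.FG ∧ I₀.map (algebraMap C S) = I := by
  classical
  obtain ⟨s, rfl⟩ := hI
  have hex : ∀ y : S, ∃ (c : C) (m : M), y * algebraMap C S m = algebraMap C S c := by
    intro y
    obtain ⟨⟨c, m⟩, h⟩ := IsLocalization.surj M y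
    exact ⟨c, m, h⟩
  choose c m hcm using hex
  refine ⟨Ideal.span (s.image c : Set C), ⟨s.image c, rfl⟩, ?_⟩
  rw [Ideal.map_span]
  apply le_antisymm
  · rw [Ideal.span_le]
    rintro _ ⟨x, hx, rfl⟩
    simp only [Finset.coe_image, Set.mem_image, Finset.mem_coe] at hx
    obtain ⟨y, hy, rfl⟩ := hx
    rw [← hcm y]
    exact Ideal.mul_mem_right _ _ (Ideal.subset_span hy)
  · rw [Ideal.span_le]
    intro y hy
    have hu : IsUnit (algebraMap C S (m y)) := IsLocalization.map_units S (m y)
    obtain ⟨u, hu'⟩ := hu
    have : y = algebraMap C S (c y) * (↑u⁻¹ : S) := by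
      rw [← hcm y, ← hu', mul_assoc, Units.mul_inv, mul_one]
    rw [this]
    apply Ideal.mul_mem_right
    apply Ideal.subset_span
    exact ⟨c y, by simpa using ⟨y, hy, rfl⟩, rfl⟩

theorem core {A C : Type u} [CommRing A] [CommRing C] [Algebra A C] [Module.Finite A C]
    [Module.FinitePresentation A C] (h : C) [Algebra.FormallyUnramified A (Localization.Away h)]
    [Algebra.EssFiniteType A (Localization.Away h)] (a : A)
    (Jh : Ideal (Localization.Away h)) (hJh : Jh.FG)
    (ha : ∃ N : ℕ, algebraMap A (Localization.Away h) (a ^ N) ∈ Jh) :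
    ∃ (I : Ideal A) (J' : Ideal (Localization.Away h)), I.FG ∧ a ∈ I.radical ∧ J'.FG ∧
      I.map (algebraMap A (Localization.Away h)) = Jh * J' := by
  obtain ⟨N, hN⟩ := ha
  obtain ⟨J0, hJ0fg, hJ0⟩ := exists_fg_map_eq (Submonoid.powers h) (Localization.Away h) Jh hJh
  let JC : Ideal C := J0 ⊔ Ideal.span {algebraMap A C (a ^ N)}
  have hJCfg : JC.FG := Submodule.FG.sup hJ0fg ⟨{algebraMap A C (a ^ N)}, by simp⟩
  have hJCmap : JC.map (algebraMap C (Localization.Away h)) = Jh := by
    rw [Ideal.map_sup, hJ0, Ideal.map_span, Set.image_singleton, sup_eq_left, Ideal.span_le,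
      Set.singleton_subset_iff, ← IsScalarTower.algebraMap_apply]
    exact hN
  obtain ⟨J', h1, h2⟩ := main (A := A) h JC
  have hfp : Module.FinitePresentation A (C ⧸ JC) := finitePresentation_quotient JC hJCfg
  refine ⟨Fitt.ideal A (C ⧸ JC) 0, J',
    (Groth.Agent.S6892.result (C ⧸ JC) (C ⧸ JC) 0).2.1 hfp, ?_, h2 hfp, by rw [h1, hJCmap]⟩
  obtain ⟨n, hn⟩ := Groth.Agent.S6891.pow_mem_fitt_zero_of_mem_annihilator (R := A) (M := C ⧸ JC)
  refine ⟨N * n, ?_⟩
  rw [pow_mul]
  apply hn
  rw [Module.mem_annihilator]
  intro x
  obtain ⟨c, rfl⟩ := Ideal.Quotient.mk_surjective x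
  rw [Algebra.smul_def, IsScalarTower.algebraMap_apply A C (C ⧸ JC), Ideal.Quotient.algebraMap_eq,
    ← map_mul, Ideal.Quotient.eq_zero_iff_mem]
  exact Ideal.mul_mem_right _ _ (Ideal.mem_sup_right (Ideal.subset_span rfl))

theorem etale_main {A B : Type u} [CommRing A] [CommRing B] [Algebra A B] [Algebra.Etale A B]
    (a : A) (J : Ideal B) (hJ : J.FG) (hJa : algebraMap A B a ∈ J.radical)
    (q : Ideal B) [q.IsPrime] :
    ∃ (I : Ideal A) (g : B) (J' : Ideal (Localization.Away g)), I.FG ∧ a ∈ I.radical ∧ g ∉ q ∧
      J'.FG ∧ I.map (algebraMap A (Localization.Away g)) =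
        J.map (algebraMap B (Localization.Away g)) * J' := by
  obtain ⟨g, hgq, hstd⟩ := Algebra.IsEtaleAt.exists_isStandardEtale (R := A) q
  obtain ⟨P⟩ := hstd.nonempty_standardEtalePresentation
  let ε : Localization.Away g ≃ₐ[A] Localization.Away (AdjoinRoot.mk P.f P.g) :=
    P.equivRing.trans P.P.equivAwayAdjoinRoot
  have : Module.Finite A (AdjoinRoot P.f) := P.monic_f.finite_adjoinRoot
  have : Module.Free A (AdjoinRoot P.f) := P.monic_f.free_adjoinRoot
  have : Module.FinitePresentation A (AdjoinRoot P.f) :=
    Module.finitePresentation_of_projective A _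
  have : Algebra.Etale A (Localization.Away (AdjoinRoot.mk P.f P.g)) := Algebra.Etale.of_equiv ε
  obtain ⟨N, hN⟩ := hJa
  let Jh : Ideal (Localization.Away (AdjoinRoot.mk P.f P.g)) :=
    (J.map (algebraMap B (Localization.Away g))).map
      (ε : Localization.Away g →+* Localization.Away (AdjoinRoot.mk P.f P.g))
  have hJh : Jh.FG := (hJ.map _).map _
  have haN : algebraMap A (Localization.Away (AdjoinRoot.mk P.f P.g)) (a ^ N) ∈ Jh := by
    have : algebraMap A (Localization.Away (AdjoinRoot.mk P.f P.g)) (a ^ N) =
        ε (algebraMap B (Localization.Away g) ((algebraMap A B a) ^ N)) := by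
      rw [← map_pow, ← IsScalarTower.algebraMap_apply, ε.commutes]
    rw [this]
    exact Ideal.mem_map_of_mem _ (Ideal.mem_map_of_mem _ hN)
  obtain ⟨I, J'h, hI, haI, hJ'h, heq⟩ := core (AdjoinRoot.mk P.f P.g) a Jh hJh ⟨N, haN⟩
  refine ⟨I, g, J'h.map (ε.symm : _ →+* Localization.Away g), hI, haI, hgq, hJ'h.map _, ?_⟩
  have h1 : I.map (algebraMap A (Localization.Away g)) =
      (I.map (algebraMap A (Localization.Away (AdjoinRoot.mk P.f P.g)))).map
        (ε.symm : _ →+* Localization.Away g) := by
    rw [Ideal.map_map]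
    congr 1
    ext x
    simp
  rw [h1, heq, Ideal.map_mul]
  congr 1
  simp only [Jh]
  rw [Ideal.map_map]
  have : ((ε.symm : _ →+* Localization.Away g)).comp
      (ε : Localization.Away g →+* Localization.Away (AdjoinRoot.mk P.f P.g)) =
      RingHom.id _ := by
    ext x
    simp
  rw [this, Ideal.map_id]

end etale

end Groth.Agent.Lib.T2H2.FittEtale
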