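import Mathlib
import Groth.Agent.Lib.Helper18Fitt20
import Groth.Agent.Lib.Helper13Ses

/-!
# Lipman's lemma on Fitting ideals (helper2)

If `Fit_k(M) = (f)` with `f` a nonzerodivisor and `Fit_{k-1}(M) = 0`, then the relation module of
`M` is projective, the `f`-power torsion of `M` is killed by `f`, etc.  The core is a Cramer-rule
computation with the "`T`-form" of the Fitting ideals (helper18).
-/

set_option autoImplicit false
universe u

namespace Groth.Agent.Lib.T2H2.FittLipman

open Groth.Agent.Helper18Fitt Matrix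

variable {R : Type u} [CommRing R] {M : Type u} [AddCommGroup M] [Module R M]

/-- The presentation map `Rⁿ → M` attached to a tuple. -/
noncomputable def pres {n : ℕ} (x : Fin n → M) : (Fin n → R) →ₗ[R] M :=
  Fintype.linearCombination R x

theorem pres_apply {n : ℕ} (x : Fin n → M) (w : Fin n → R) : pres x w = ∑ j, w j • x j := by
  simp [pres, Fintype.linearCombination_apply]

theorem pres_surjective {n : ℕ} (x : Fin n → M) (hx : Submodule.span R (Set.range x) = ⊤) :
    Function.Surjective (pres (R := R) x) := by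
  rw [← LinearMap.range_eq_top, pres, Fintype.range_linearCombination, hx]

/-- A "good matrix": at most `k` free rows, the other rows are relations, determinant `b * f`. -/
structure Good {n : ℕ} (x : Fin n → M) (k : ℕ) (f : R) where
  B : Matrix (Fin n) (Fin n) R
  S : Finset (Fin n)
  b : R
  card_le : S.card ≤ k
  rel : ∀ i, i ∉ S → pres x (B i) = 0
  det_eq : B.det = b * f

/-- Cramer's rule, row form. -/
theorem cramer_rows {n : ℕ} (B : Matrix (Fin n) (Fin n) R) (w : Fin n → R) :
    ∑ r, (B.updateRow r w).det • B r = B.det • w := by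
  have h := Matrix.mulVec_cramer Bᵀ w
  rw [Matrix.det_transpose] at h
  rw [← h]
  funext j
  simp only [Finset.sum_apply, Pi.smul_apply, smul_eq_mul, Matrix.mulVec, dotProduct,
    Matrix.transpose_apply, Matrix.cramer_transpose_apply]
  exact Finset.sum_congr rfl fun r _ => mul_comm _ _

variable {n : ℕ} {x : Fin n → M} {k : ℕ} {f : R}

theorem det_update_eq_zero (G : Good x k f) (hk : k = 0 ∨ T (R := R) (k - 1) (Fin n) x = ⊥)
    {w : Fin n → R} (hw : pres x w = 0) {r : Fin n} (hr : r ∈ G.S) :
    (G.B.updateRow r w).det = 0 := by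
  have hcard : 1 ≤ G.S.card := Finset.card_pos.mpr ⟨r, hr⟩
  have hk1 : 1 ≤ k := hcard.trans G.card_le
  rcases hk with hk | hk
  · omega
  have hmem : (G.B.updateRow r w).det ∈ T (R := R) (k - 1) (Fin n) x := by
    refine mem_T_of _ (G.S.erase r) ?_ ?_
    · rw [Finset.card_erase_of_mem hr]
      have := G.card_le
      omega
    · intro i hi
      by_cases hir : i = r
      · subst hir
        have := hw
        rw [pres_apply] at this
        simpa [Matrix.updateRow_self] using this
      · have hiS : i ∉ G.S := fun h => hi (Finset.mem_erase.mpr ⟨hir, h⟩)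
        have := G.rel i hiS
        rw [pres_apply] at this
        simpa [Matrix.updateRow_ne hir] using this
  rw [hk] at hmem
  exact hmem

theorem det_update_mem (G : Good x k f) (hT : T (R := R) k (Fin n) x = Ideal.span {f})
    {w : Fin n → R} (hw : pres x w = 0) {r : Fin n} (hr : r ∉ G.S) :
    (G.B.updateRow r w).det ∈ Ideal.span {f} := by
  rw [← hT]
  refine mem_T_of _ G.S G.card_le ?_
  intro i hi
  by_cases hir : i = r
  · subst hir
    have := hw
    rw [pres_apply] at this
    simpa [Matrix.updateRow_self] using this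
  · have := G.rel i hi
    rw [pres_apply] at this
    simpa [Matrix.updateRow_ne hir] using this

/-- `b * f` kills every `f`-power torsion element. -/
theorem good_smul_eq_zero (G : Good x k f) (hf : f ∈ nonZeroDivisors R)
    (hk : k = 0 ∨ T (R := R) (k - 1) (Fin n) x = ⊥) (hx : Submodule.span R (Set.range x) = ⊤)
    (y : M) (N : ℕ) (hy : f ^ N • y = 0) : (G.b * f) • y = 0 := by
  obtain ⟨w, rfl⟩ := pres_surjective x hx y
  have hw : pres x (f ^ N • w) = 0 := by rw [map_smul]; exact hy
  have hzero : ∀ r ∈ G.S, (G.B.updateRow r w).det = 0 := by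
    intro r hr
    have h1 := det_update_eq_zero G hk hw hr
    rw [Matrix.det_updateRow_smul] at h1
    have hfN : f ^ N ∈ nonZeroDivisors R := pow_mem hf N
    exact (mul_left_mem_nonZeroDivisors_eq_zero_iff hfN).mp h1
  have h2 := congrArg (pres x) (cramer_rows G.B w)
  rw [map_sum, G.det_eq, map_smul] at h2
  rw [← h2]
  apply Finset.sum_eq_zero
  intro r _
  rw [map_smul]
  by_cases hr : r ∈ G.S
  · rw [hzero r hr, zero_smul]
  · rw [G.rel r hr, smul_zero]

/-- A finite family of good matrices whose `b`'s generate the unit ideal. -/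
theorem exists_goods (hf : f ∈ nonZeroDivisors R)
    (hT : T (R := R) k (Fin n) x = Ideal.span {f}) :
    ∃ (m : ℕ) (coef : Fin m → R) (G : Fin m → Good x k f), ∑ i, coef i * (G i).b = 1 := by
  have hfT : f ∈ T (R := R) k (Fin n) x := by rw [hT]; exact Ideal.mem_span_singleton_self f
  unfold T at hfT
  obtain ⟨m, coef, g, hsum⟩ := Submodule.mem_span_set'.mp hfT
  have hg : ∀ i : Fin m, ∃ G : Good x k f, G.b * f = (g i : R) := by
    intro i
    obtain ⟨a, S, hS, hrel, hdet⟩ := (g i).2
    have hmem : (g i : R) ∈ Ideal.span {f} := by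
      rw [← hT]; exact Ideal.subset_span (g i).2
    obtain ⟨b, hb⟩ := Ideal.mem_span_singleton'.mp hmem
    refine ⟨⟨a, S, b, hS, ?_, ?_⟩, hb⟩
    · intro i hi
      rw [pres_apply]
      exact hrel i hi
    · rw [hb]; exact hdet.symm
  choose G hG using hg
  refine ⟨m, coef, G, ?_⟩
  have h1 : (∑ i, coef i * (G i).b) * f = 1 * f := by
    rw [one_mul, Finset.sum_mul]
    refine Eq.trans ?_ hsum
    refine Finset.sum_congr rfl fun i _ => ?_
    rw [mul_assoc, hG i, smul_eq_mul]
  exact (mul_cancel_right_mem_nonZeroDivisors hf).mp h1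

/-- Under the Fitting hypotheses, `f` kills the `f`-power torsion. -/
theorem smul_eq_zero_of_pow_smul_eq_zero (hf : f ∈ nonZeroDivisors R)
    (hT : T (R := R) k (Fin n) x = Ideal.span {f})
    (hk : k = 0 ∨ T (R := R) (k - 1) (Fin n) x = ⊥) (hx : Submodule.span R (Set.range x) = ⊤)
    (y : M) (N : ℕ) (hy : f ^ N • y = 0) : f • y = 0 := by
  obtain ⟨m, coef, G, hsum⟩ := exists_goods hf hT
  have h1 : f • y = (∑ i, coef i * (G i).b) • (f • y) := by rw [hsum, one_smul]
  rw [h1, Finset.sum_smul]
  apply Finset.sum_eq_zero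
  intro i _
  rw [mul_smul, ← mul_smul (G i).b, good_smul_eq_zero (G i) hf hk hx y N hy, smul_zero]

theorem smul_injective_pi (hf : f ∈ nonZeroDivisors R) {v v' : Fin n → R}
    (h : f • v = f • v') : v = v' := by
  funext r
  have := congrFun h r
  simp only [Pi.smul_apply, smul_eq_mul] at this
  exact (mul_cancel_left_mem_nonZeroDivisors hf).mp this

/-- The Cramer coefficients of a relation, divided by `f`, as a linear map. -/
theorem exists_coeff (G : Good x k f) (hf : f ∈ nonZeroDivisors R)
    (hT : T (R := R) k (Fin n) x = Ideal.span {f})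
    (hk : k = 0 ∨ T (R := R) (k - 1) (Fin n) x = ⊥) :
    ∃ c' : LinearMap.ker (pres (R := R) x) →ₗ[R] (Fin n → R),
      ∀ w, (∀ r ∈ G.S, c' w r = 0) ∧ ∀ r, f * c' w r = (G.B.updateRow r w.1).det := by
  classical
  let μ : (Fin n → R) →ₗ[R] (Fin n → R) := f • LinearMap.id
  have hμ : Function.Injective μ := by
    intro v v' h
    exact smul_injective_pi hf h
  let cR : LinearMap.ker (pres (R := R) x) →ₗ[R] (Fin n → R) :=
    (Matrix.cramer G.Bᵀ).comp (LinearMap.ker (pres (R := R) x)).subtype
  have hcR : ∀ w r, cR w r = (G.B.updateRow r w.1).det := by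
    intro w r
    exact Matrix.cramer_transpose_apply _ _ _
  have hmem : ∀ w, cR w ∈ LinearMap.range μ := by
    intro w
    have h1 : ∀ r, ∃ c : R, f * c = cR w r := by
      intro r
      rw [hcR]
      by_cases hr : r ∈ G.S
      · exact ⟨0, by rw [mul_zero, det_update_eq_zero G hk (LinearMap.mem_ker.mp w.2) hr]⟩
      · obtain ⟨c, hc⟩ := Ideal.mem_span_singleton'.mp
          (det_update_mem G hT (LinearMap.mem_ker.mp w.2) hr)
        exact ⟨c, by rw [mul_comm]; exact hc⟩
    choose c hc using h1
    refine ⟨c, ?_⟩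
    funext r
    simp only [μ, LinearMap.smul_apply, LinearMap.id_apply, Pi.smul_apply, smul_eq_mul]
    exact hc r
  let c' : LinearMap.ker (pres (R := R) x) →ₗ[R] (Fin n → R) :=
    (LinearEquiv.ofInjective μ hμ).symm.toLinearMap.comp (cR.codRestrict (LinearMap.range μ) hmem)
  have hc' : ∀ w, μ (c' w) = cR w := by
    intro w
    have := (LinearEquiv.ofInjective μ hμ).apply_symm_apply (cR.codRestrict (LinearMap.range μ) hmem w)
    exact congrArg Subtype.val this
  have hc'2 : ∀ w r, f * c' w r = (G.B.updateRow r w.1).det := by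
    intro w r
    rw [← hcR, ← hc' w]
    simp [μ]
  refine ⟨c', fun w => ⟨fun r hr => ?_, hc'2 w⟩⟩
  have h1 := hc'2 w r
  rw [det_update_eq_zero G hk (LinearMap.mem_ker.mp w.2) hr] at h1
  exact (mul_left_mem_nonZeroDivisors_eq_zero_iff hf).mp h1

/-- Combination of the relation rows of a good matrix. -/
noncomputable def rowComb (G : Good x k f) : (Fin n → R) →ₗ[R] (Fin n → R) :=
  ∑ r ∈ Finset.univ.filter (fun r => r ∉ G.S),
    (LinearMap.proj r : (Fin n → R) →ₗ[R] R).smulRight (G.B r)

theorem rowComb_apply (G : Good x k f) (v : Fin n → R) :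
    rowComb G v = ∑ r ∈ Finset.univ.filter (fun r => r ∉ G.S), v r • G.B r := by
  simp [rowComb, LinearMap.sum_apply]

theorem pres_rowComb (G : Good x k f) (v : Fin n → R) : pres x (rowComb G v) = 0 := by
  rw [rowComb_apply, map_sum]
  apply Finset.sum_eq_zero
  intro r hr
  rw [map_smul, G.rel r (Finset.mem_filter.mp hr).2, smul_zero]

theorem rowComb_coeff (G : Good x k f) (hf : f ∈ nonZeroDivisors R)
    (hk : k = 0 ∨ T (R := R) (k - 1) (Fin n) x = ⊥)
    (c' : LinearMap.ker (pres (R := R) x) →ₗ[R] (Fin n → R))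
    (hc' : ∀ w, (∀ r ∈ G.S, c' w r = 0) ∧ ∀ r, f * c' w r = (G.B.updateRow r w.1).det)
    (w : LinearMap.ker (pres (R := R) x)) : rowComb G (c' w) = G.b • w.1 := by
  apply smul_injective_pi hf
  rw [rowComb_apply, Finset.smul_sum, smul_smul, mul_comm f G.b, ← G.det_eq, ← cramer_rows G.B w.1]
  rw [Finset.sum_filter]
  refine Finset.sum_congr rfl fun r _ => ?_
  by_cases hr : r ∈ G.S
  · simp only [hr, not_true_eq_false, if_false]
    rw [det_update_eq_zero G hk (LinearMap.mem_ker.mp w.2) hr, zero_smul]
  · simp only [hr, not_false_eq_true, if_true]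
    rw [smul_smul, (hc' w).2 r]

/-- The relation module is projective. -/
theorem projective_ker (hf : f ∈ nonZeroDivisors R)
    (hT : T (R := R) k (Fin n) x = Ideal.span {f})
    (hk : k = 0 ∨ T (R := R) (k - 1) (Fin n) x = ⊥) :
    Module.Projective R (LinearMap.ker (pres (R := R) x)) := by
  classical
  obtain ⟨m, coef, G, hsum⟩ := exists_goods hf hT
  choose c' hc' using fun j => exists_coeff (G j) hf hT hk
  let i : LinearMap.ker (pres (R := R) x) →ₗ[R] (Fin m → Fin n → R) :=
    LinearMap.pi fun j => coef j • c' j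
  let p0 : (Fin m → Fin n → R) →ₗ[R] (Fin n → R) :=
    ∑ j, (rowComb (G j)).comp (LinearMap.proj j)
  have hp0 : ∀ v, p0 v ∈ LinearMap.ker (pres (R := R) x) := by
    intro v
    rw [LinearMap.mem_ker]
    simp only [p0, LinearMap.sum_apply, LinearMap.comp_apply, map_sum]
    apply Finset.sum_eq_zero
    intro j _
    exact pres_rowComb (G j) _
  let p : (Fin m → Fin n → R) →ₗ[R] LinearMap.ker (pres (R := R) x) :=
    p0.codRestrict _ hp0
  refine Module.Projective.of_split i p ?_
  ext1 w
  apply Subtype.ext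
  simp only [LinearMap.comp_apply, LinearMap.id_apply, p, LinearMap.codRestrict_apply, p0,
    LinearMap.sum_apply, LinearMap.proj_apply, i, LinearMap.pi_apply, LinearMap.smul_apply]
  have h1 : ∀ j, rowComb (G j) (coef j • c' j w) = (coef j * (G j).b) • w.1 := by
    intro j
    rw [map_smul, rowComb_coeff (G j) hf hk (c' j) (hc' j) w, smul_smul]
  simp only [h1]
  rw [← Finset.sum_smul, hsum, one_smul]

section Main

open CategoryTheory

variable (M) [Module.FinitePresentation R M] (k : ℕ) (f : R)

/-- `pd M ≤ 1`. -/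
theorem pdLT_two (hf0 : f ∈ nonZeroDivisors R) (hf : Fitt.ideal R M k = Ideal.span {f})
    (hk : k = 0 ∨ Fitt.ideal R M (k - 1) = ⊥) :
    HasProjectiveDimensionLT (ModuleCat.of R M) 2 := by
  obtain ⟨n, x, hx⟩ := Module.Finite.exists_fin (R := R) (M := M)
  have hT : T (R := R) k (Fin n) x = Ideal.span {f} := by rw [← fitt_eq_T x hx k]; exact hf
  have hk' : k = 0 ∨ T (R := R) (k - 1) (Fin n) x = ⊥ :=
    hk.imp id (fun h => by rw [← fitt_eq_T x hx]; exact h)
  have hK := projective_ker hf0 hT hk'
  have h1 : HasProjectiveDimensionLT (ModuleCat.of R (LinearMap.ker (pres (R := R) x))) (0 + 1) :=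
    projective_iff_hasProjectiveDimensionLT_one.1
      ((IsProjective.iff_projective (LinearMap.ker (pres (R := R) x))).1 hK)
  exact ((Groth.Agent.Helper13Ses.sesKer_shortExact (pres (R := R) x)
    (pres_surjective x hx)).hasProjectiveDimensionLT_X₃_iff 0
    ((IsProjective.iff_projective (Fin n → R)).1 inferInstance)).2 h1

/-- `f`-power torsion is `f`-torsion. -/
theorem torsion_iff (hf0 : f ∈ nonZeroDivisors R) (hf : Fitt.ideal R M k = Ideal.span {f})
    (hk : k = 0 ∨ Fitt.ideal R M (k - 1) = ⊥) (y : M) :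
    (∃ N : ℕ, f ^ N • y = 0) ↔ f • y = 0 := by
  obtain ⟨n, x, hx⟩ := Module.Finite.exists_fin (R := R) (M := M)
  have hT : T (R := R) k (Fin n) x = Ideal.span {f} := by rw [← fitt_eq_T x hx k]; exact hf
  have hk' : k = 0 ∨ T (R := R) (k - 1) (Fin n) x = ⊥ :=
    hk.imp id (fun h => by rw [← fitt_eq_T x hx]; exact h)
  constructor
  · rintro ⟨N, hN⟩
    exact smul_eq_zero_of_pow_smul_eq_zero hf0 hT hk' hx y N hN
  · intro h
    exact ⟨1, by rw [pow_one]; exact h⟩

theorem ker_eq_powTorsion (hf0 : f ∈ nonZeroDivisors R) (hf : Fitt.ideal R M k = Ideal.span {f})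
    (hk : k = 0 ∨ Fitt.ideal R M (k - 1) = ⊥) :
    LinearMap.ker (f • (LinearMap.id : M →ₗ[R] M)) = FlatCA.powTorsion R f M := by
  ext y
  rw [mem_powTorsion_iff, torsion_iff M k f hf0 hf hk y, LinearMap.mem_ker, LinearMap.smul_apply,
    LinearMap.id_apply]

/-- `M / M'` is locally free of rank `k`. -/
theorem locFree_quot (hf0 : f ∈ nonZeroDivisors R) (hf : Fitt.ideal R M k = Ideal.span {f})
    (hk : k = 0 ∨ Fitt.ideal R M (k - 1) = ⊥) :
    LocFree (R := R) (M ⧸ LinearMap.ker (f • (LinearMap.id : M →ₗ[R] M))) k := by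
  have key : ∀ N : Submodule R M, N = FlatCA.powTorsion R f M → LocFree (R := R) (M ⧸ N) k := by
    rintro _ rfl
    have htop : Fitt.ideal R (M ⧸ FlatCA.powTorsion R f M) k = ⊤ :=
      fitt_quot_torsion_eq_top M k f hf
    apply locFree_of_fitt
    · intro j hj
      rcases hk with hk | hk
      · omega
      have h1 : Fitt.ideal R M j = ⊥ := by
        rw [eq_bot_iff, ← hk]
        exact fitt_mono (by omega)
      exact fitt_quot_torsion_eq_bot M j f hf0 h1
    · intro j hj
      rw [eq_top_iff, ← htop]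
      exact fitt_mono hj
  exact key _ (ker_eq_powTorsion M k f hf0 hf hk)

/-- A finite module which is locally free (basic open form) is projective. -/
theorem projective_of_locFree (Q : Type u) [AddCommGroup Q] [Module R Q] [Module.Finite R Q]
    (r : ℕ) (h : LocFree (R := R) Q r) : Module.Projective R Q := by
  let s : Set R := {g | Module.Free (Localization.Away g) (LocalizedModule (Submonoid.powers g) Q)}
  have hs : Ideal.span s = ⊤ := by
    by_contra hne
    obtain ⟨m, hm, hle⟩ := Ideal.exists_le_maximal _ hne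
    obtain ⟨g, hgm, hfree, -⟩ := h m
    exact hgm (hle (Ideal.subset_span hfree))
  have hfp : Module.FinitePresentation R Q := by
    refine Module.FinitePresentation.of_localizationSpan s hs ?_
    intro g
    have : Module.Free (Localization.Away g.1) (LocalizedModule (Submonoid.powers g.1) Q) := g.2
    exact Module.finitePresentation_of_projective _ _
  have hflat : Module.Flat R Q := by
    refine Module.flat_of_localized_span R Q s hs ?_
    intro g
    have : Module.Free (Localization.Away g.1) (LocalizedModule (Submonoid.powers g.1) Q) := g.2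
    exact Module.Flat.trans R (Localization.Away g.1) _
  exact Module.Flat.projective_of_finitePresentation

end Main

/-- Splitting off a projective quotient: `M ≃ M/N × N` together with a retraction onto `N`. -/
theorem exists_split_of_projective_quotient {M : Type u} [AddCommGroup M] [Module R M]
    (N : Submodule R M) [Module.Projective R (M ⧸ N)] :
    ∃ (e : M ≃ₗ[R] (M ⧸ N) × N) (ρ : M →ₗ[R] N), ρ.comp N.subtype = LinearMap.id := by
  obtain ⟨σ, hσ⟩ := Module.projective_lifting_property N.mkQ (LinearMap.id : (M ⧸ N) →ₗ[R] M ⧸ N)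
    N.mkQ_surjective
  have hσ' : ∀ q, N.mkQ (σ q) = q := fun q => LinearMap.congr_fun hσ q
  let ρ0 : M →ₗ[R] M := LinearMap.id - σ.comp N.mkQ
  have hρ0 : ∀ y, ρ0 y ∈ N := by
    intro y
    rw [← Submodule.Quotient.mk_eq_zero, ← Submodule.mkQ_apply]
    simp only [ρ0, LinearMap.sub_apply, LinearMap.id_apply, LinearMap.comp_apply, map_sub, hσ',
      sub_self]
  let ρ : M →ₗ[R] N := ρ0.codRestrict N hρ0
  have hρN : ∀ m : N, ρ m.1 = m := by
    intro m
    apply Subtype.ext
    have h0 : N.mkQ m.1 = 0 := by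
      rw [Submodule.mkQ_apply, Submodule.Quotient.mk_eq_zero]; exact m.2
    simp only [ρ, LinearMap.codRestrict_apply, ρ0, LinearMap.sub_apply, LinearMap.id_apply,
      LinearMap.comp_apply, h0, map_zero, sub_zero]
  have hρσ : ∀ q, ρ (σ q) = 0 := by
    intro q
    apply Subtype.ext
    simp only [ρ, LinearMap.codRestrict_apply, ρ0, LinearMap.sub_apply, LinearMap.id_apply,
      LinearMap.comp_apply, hσ', sub_self, ZeroMemClass.coe_zero]
  have hρval : ∀ y, (ρ y : M) = y - σ (N.mkQ y) := by
    intro y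
    simp only [ρ, LinearMap.codRestrict_apply, ρ0, LinearMap.sub_apply, LinearMap.id_apply,
      LinearMap.comp_apply]
  have hco : ∀ (q : M ⧸ N) (m : N), (σ.coprod N.subtype) (q, m) = σ q + m.1 := by
    intro q m
    simp [LinearMap.coprod_apply]
  have hpr : ∀ y, (N.mkQ.prod ρ) y = (N.mkQ y, ρ y) := fun y => rfl
  refine ⟨LinearEquiv.ofLinearMap (N.mkQ.prod ρ) (σ.coprod N.subtype) ?_ ?_, ρ, ?_⟩
  · apply LinearMap.ext
    rintro ⟨q, m⟩
    have h0 : N.mkQ m.1 = 0 := by
      rw [Submodule.mkQ_apply, Submodule.Quotient.mk_eq_zero]; exact m.2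
    rw [LinearMap.comp_apply, hco, hpr, LinearMap.id_apply, map_add, map_add, hσ', h0, add_zero,
      hρσ, zero_add, hρN]
  · apply LinearMap.ext
    intro y
    rw [LinearMap.comp_apply, hpr, hco, hρval, LinearMap.id_apply]
    abel
  · apply LinearMap.ext
    intro m
    exact hρN m

section Main2

open CategoryTheory

variable (M) [Module.FinitePresentation R M] (k : ℕ) (f : R)

/-- The splitting `M ≃ M/M' × M'` and `pd M' ≤ 1`. -/
theorem split_and_pd (hf0 : f ∈ nonZeroDivisors R) (hf : Fitt.ideal R M k = Ideal.span {f})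
    (hk : k = 0 ∨ Fitt.ideal R M (k - 1) = ⊥) :
    HasProjectiveDimensionLT
      (ModuleCat.of R ↥(LinearMap.ker (f • (LinearMap.id : M →ₗ[R] M)))) 2 ∧
    Nonempty (M ≃ₗ[R] (M ⧸ LinearMap.ker (f • (LinearMap.id : M →ₗ[R] M))) ×
      ↥(LinearMap.ker (f • (LinearMap.id : M →ₗ[R] M)))) := by
  have hproj : Module.Projective R (M ⧸ LinearMap.ker (f • (LinearMap.id : M →ₗ[R] M))) :=
    projective_of_locFree _ k (locFree_quot M k f hf0 hf hk)
  obtain ⟨e, ρ, hρ⟩ := exists_split_of_projective_quotient
    (LinearMap.ker (f • (LinearMap.id : M →ₗ[R] M)))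
  refine ⟨?_, ⟨e⟩⟩
  have hM : HasProjectiveDimensionLT (ModuleCat.of R M) 2 := pdLT_two M k f hf0 hf hk
  let rt : Retract (ModuleCat.of R ↥(LinearMap.ker (f • (LinearMap.id : M →ₗ[R] M))))
      (ModuleCat.of R M) :=
    { i := ModuleCat.ofHom (LinearMap.ker (f • (LinearMap.id : M →ₗ[R] M))).subtype
      r := ModuleCat.ofHom ρ
      retract := by
        rw [← ModuleCat.ofHom_comp, hρ]
        rfl }
  exact rt.hasProjectiveDimensionLT 2

end Main2

end Groth.Agent.Lib.T2H2.FittLipman
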