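import Mathlib
import Groth.Agent.Lib.Helper3FlatBC
import Groth.Agent.Lib.Helper26FpqcFlat

set_option autoImplicit false
set_option linter.style.haveILetI false
universe u

namespace Groth.Agent.Lib.T2H2.FlatAtDesc

open TensorProduct

/-- Localisation at a prime of a pushout is flat over the other leg when the local ring of the
prime below is flat over the base. -/
theorem flat_localization_of_isPushout {R S R' S' : Type u} [CommRing R] [CommRing S] [CommRing R']
    [CommRing S'] [Algebra R S] [Algebra R R'] [Algebra S S'] [Algebra R' S'] [Algebra R S']
    [IsScalarTower R S S'] [IsScalarTower R R' S'] [Algebra.IsPushout R S R' S']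
    (q' : Ideal S') [q'.IsPrime] (p' : Ideal R') [p'.IsPrime] [q'.LiesOver p']
    (hflat : Module.Flat R (Localization.AtPrime p')) :
    Module.Flat S (Localization.AtPrime q') := by
  have e1 : LocalizedModule p'.primeCompl R' ≃ₗ[R'] Localization.AtPrime p' :=
    IsLocalizedModule.iso p'.primeCompl (Algebra.linearMap R' (Localization.AtPrime p'))
  have h1 : Module.Flat R (LocalizedModule p'.primeCompl R') :=
    Module.Flat.of_linearEquiv (e1.restrictScalars R)
  have hbc : IsBaseChange S ((Algebra.linearMap R' S').restrictScalars R) :=
    Algebra.IsPushout.out
  have h2 : Module.Flat S (LocalizedModule q'.primeCompl S') :=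
    Groth.Agent.Lib.Helper3.FlatLoc.flat_localizedModule_of_isBaseChange
      (A := R) (R := S) (SA := R') (SR := S') (MA := R') (MR := S')
      (Algebra.linearMap R' S') hbc p'.primeCompl q'.primeCompl
      (fun s hs hs' => hs (by
        rw [Ideal.LiesOver.over (p := p') (P := q')]
        exact hs')) h1
  have e2 : LocalizedModule q'.primeCompl S' ≃ₗ[S'] Localization.AtPrime q' :=
    IsLocalizedModule.iso q'.primeCompl (Algebra.linearMap S' (Localization.AtPrime q'))
  exact Module.Flat.of_linearEquiv (e2.restrictScalars S).symm

/-- Descent of flatness at a prime along a pushout whose local ring below is flat over the base. -/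
theorem flat_localizedModule_descent {R S R' S' : Type u} [CommRing R] [CommRing S] [CommRing R']
    [CommRing S'] [Algebra R S] [Algebra R R'] [Algebra S S'] [Algebra R' S'] [Algebra R S']
    [IsScalarTower R S S'] [IsScalarTower R R' S'] [Algebra.IsPushout R S R' S']
    {M M' : Type u} [AddCommGroup M] [Module S M] [Module R M] [IsScalarTower R S M]
    [AddCommGroup M'] [Module S' M'] [Module R' M'] [IsScalarTower R' S' M'] [Module S M']
    [IsScalarTower S S' M'] [Module R M'] [IsScalarTower R R' M'] [IsScalarTower R S M']
    [IsScalarTower R S' M']
    (f : M →ₗ[S] M') (hf : IsBaseChange S' f)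
    (q : Ideal S) [q.IsPrime] (q' : Ideal S') [q'.IsPrime] [q'.LiesOver q]
    (p' : Ideal R') [p'.IsPrime] [q'.LiesOver p']
    (hflat : Module.Flat R (Localization.AtPrime p'))
    (h : Module.Flat R' (LocalizedModule q'.primeCompl M')) :
    Module.Flat R (LocalizedModule q.primeCompl M) := by
  letI algBC := Localization.AtPrime.algebraOfLiesOver q q'
  letI algDC := Localization.AtPrime.algebraOfLiesOver p' q'
  have hSC : Module.Flat S (Localization.AtPrime q') :=
    flat_localization_of_isPushout (R := R) (S := S) (R' := R') (S' := S') q' p' hflat
  have hBC : Module.Flat (Localization.AtPrime q) (Localization.AtPrime q') :=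
    (Module.flat_iff_of_isLocalization (Localization.AtPrime q) q.primeCompl _).mpr hSC
  haveI : IsLocalHom (algebraMap (Localization.AtPrime q) (Localization.AtPrime q')) := by
    rw [Localization.AtPrime.IsLiesOverAlgebra.algebraMap_eq]
    exact Localization.isLocalHom_localRingHom _ _ _ _
  haveI hff : Module.FaithfullyFlat (Localization.AtPrime q) (Localization.AtPrime q') :=
    Module.FaithfullyFlat.of_flat_of_isLocalHom
  -- `N'` as a module over `D = R'_{p'}`
  letI modD : Module (Localization.AtPrime p') (LocalizedModule q'.primeCompl M') :=
    Module.compHom _ (algebraMap (Localization.AtPrime p') (Localization.AtPrime q'))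
  haveI : IsScalarTower R' (Localization.AtPrime p') (LocalizedModule q'.primeCompl M') := by
    refine IsScalarTower.of_algebraMap_smul fun r x => ?_
    change algebraMap (Localization.AtPrime p') (Localization.AtPrime q')
      (algebraMap R' (Localization.AtPrime p') r) • x = r • x
    rw [← IsScalarTower.algebraMap_apply R' (Localization.AtPrime p') (Localization.AtPrime q'),
      algebraMap_smul]
  have hD : Module.Flat (Localization.AtPrime p') (LocalizedModule q'.primeCompl M') :=
    (Module.flat_iff_of_isLocalization (Localization.AtPrime p') p'.primeCompl _).mpr h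
  haveI : IsScalarTower R R' (LocalizedModule q'.primeCompl M') := by
    refine ⟨fun r r' x => ?_⟩
    induction x using LocalizedModule.induction_on with
    | h m s => rw [LocalizedModule.smul'_mk, LocalizedModule.smul'_mk, LocalizedModule.smul'_mk,
        smul_assoc]
  haveI : IsScalarTower R (Localization.AtPrime p') (LocalizedModule q'.primeCompl M') := by
    refine IsScalarTower.of_algebraMap_smul fun r x => ?_
    rw [IsScalarTower.algebraMap_apply R R' (Localization.AtPrime p'), algebraMap_smul,
      algebraMap_smul]
  have hRN' : Module.Flat R (LocalizedModule q'.primeCompl M') :=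
    Module.Flat.trans R (Localization.AtPrime p') _
  -- `N'` as a module over `B = S_q`
  letI modB : Module (Localization.AtPrime q) (LocalizedModule q'.primeCompl M') :=
    Module.compHom _ (algebraMap (Localization.AtPrime q) (Localization.AtPrime q'))
  haveI : IsScalarTower (Localization.AtPrime q) (Localization.AtPrime q')
      (LocalizedModule q'.primeCompl M') :=
    IsScalarTower.of_algebraMap_smul fun r x => rfl
  haveI : IsScalarTower S S' (LocalizedModule q'.primeCompl M') := by
    refine ⟨fun r r' x => ?_⟩
    induction x using LocalizedModule.induction_on with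
    | h m s => rw [LocalizedModule.smul'_mk, LocalizedModule.smul'_mk, LocalizedModule.smul'_mk,
        smul_assoc]
  haveI : IsScalarTower S (Localization.AtPrime q') (LocalizedModule q'.primeCompl M') := by
    refine IsScalarTower.of_algebraMap_smul fun r x => ?_
    rw [IsScalarTower.algebraMap_apply S S' (Localization.AtPrime q'), algebraMap_smul,
      algebraMap_smul]
  haveI : IsScalarTower S (Localization.AtPrime q) (LocalizedModule q'.primeCompl M') := by
    refine IsScalarTower.of_algebraMap_smul fun r x => ?_
    change algebraMap (Localization.AtPrime q) (Localization.AtPrime q')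
      (algebraMap S (Localization.AtPrime q) r) • x = r • x
    rw [← IsScalarTower.algebraMap_apply S (Localization.AtPrime q) (Localization.AtPrime q'),
      algebraMap_smul]
  have hN : IsBaseChange (Localization.AtPrime q) (LocalizedModule.mkLinearMap q.primeCompl M) :=
    IsLocalizedModule.isBaseChange q.primeCompl _ _
  have hN' : IsBaseChange (Localization.AtPrime q')
      (LocalizedModule.mkLinearMap q'.primeCompl M') :=
    IsLocalizedModule.isBaseChange q'.primeCompl _ _
  let g0 : M →ₗ[S] LocalizedModule q'.primeCompl M' :=
    ((LocalizedModule.mkLinearMap q'.primeCompl M').restrictScalars S).comp f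
  have hg0 : IsBaseChange (Localization.AtPrime q') g0 := IsBaseChange.comp hf hN'
  let g : LocalizedModule q.primeCompl M →ₗ[Localization.AtPrime q]
      LocalizedModule q'.primeCompl M' := hN.lift g0
  have hg : IsBaseChange (Localization.AtPrime q') g := by
    refine IsBaseChange.of_comp hN ?_
    rw [hN.lift_comp g0]
    exact hg0
  have hCN : Module.Flat R (Localization.AtPrime q' ⊗[Localization.AtPrime q]
      LocalizedModule q.primeCompl M) :=
    Module.Flat.of_linearEquiv (hg.equiv.restrictScalars R)
  exact Groth.Agent.Lib.Helper26.FpqcFlat.flat_of_faithfullyFlat_tensor (R := R)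
    (A := Localization.AtPrime q) (A' := Localization.AtPrime q') hCN

end Groth.Agent.Lib.T2H2.FlatAtDesc
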