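import Mathlib
import Groth.Prelude.Def_FlatFun
import Groth.Prelude.Def_FlatMod2
import Groth.Agent.Lib.Helper2PullbackSec2
import Groth.Agent.Lib.Helper26FlatLimC
import Groth.Agent.Lib.Helper4VarDim13

/-!
# Flatness in dimensions `≥ n` and étale localisation on the source (helper2)
-/

set_option autoImplicit false
universe u
open CategoryTheory CategoryTheory.Limits AlgebraicGeometry Opposite

namespace Groth.Agent.Lib.T2H2.FlatDimEt

/-- If `G` on `Y` is flat over `T` in dimensions `≥ n` and `k : Y' ⟶ Y` is étale, then `k^* G` is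
flat over `T` in dimensions `≥ n`. -/
theorem dimFibresLT_of_etale {Y' Y T : Scheme.{u}} (k : Y' ⟶ Y) [Etale k] (q : Y ⟶ T) (q' : Y' ⟶ T)
    (hq : k ≫ q = q') (G : Y.Modules) [G.IsQuasicoherent] (G' : Y'.Modules)
    (e : (Scheme.Modules.pullback k).obj G ≅ G') (n : ℕ)
    (hT : FlatFun.DimFibresLT n q {x | ¬ FlatMod.IsFlatOverAt q G x}) :
    FlatFun.DimFibresLT n q' {x | ¬ FlatMod.IsFlatOverAt q' G' x} := by
  subst hq
  intro x' hx'
  have hx : ¬ FlatMod.IsFlatOverAt q G (k x') := fun hfl => hx'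
    (Groth.Agent.Lib.Helper26.FlatLim.isFlatOverAt_of_iso _ e x'
      ((Groth.Agent.Lib.Helper2.PullbackSec.isFlatOverAt_pullback_iff k q G x'
        (Flat.stalkMap k x')).1 hfl))
  have h1 := hT (k x') hx
  have h2 := Groth.Agent.Lib.Helper4.VarDim.trdeg_residueFieldMap_comp k q x'
  have : LocallyQuasiFinite k :=
    Groth.Agent.Lib.Helper4.VarDim.locallyQuasiFinite_of_formallyUnramified k
  have h3 := Groth.Agent.Lib.Helper4.VarDim.trdeg_residueFieldMap_eq_zero_of_locallyQuasiFinite k x'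
  rw [h3, add_zero] at h2
  show @Algebra.trdeg _ _ _ _ ((k ≫ q).residueFieldMap x').hom.toAlgebra < _
  rw [← h2]
  exact h1

end Groth.Agent.Lib.T2H2.FlatDimEt
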