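import Mathlib

set_option autoImplicit false
universe u
open TensorProduct IsLocalRing
open scoped Pointwise

namespace Groth.Agent.Lib.T2H2.FlatRegQuot

section step

variable {A B M : Type u} [CommRing A] [CommRing B] [Algebra A B] [AddCommGroup M] [Module B M]
  [Module A M] [IsScalarTower A B M] [IsNoetherianRing B] [IsLocalRing B] [Module.Finite B M]

/-- If `r ∈ 𝔪_B` is `M`-regular and `M / rM` is flat over `A`, then `M` is flat over `A`
(`B` Noetherian local, `M` finite over `B`; no hypothesis on `A`). -/
theorem flat_of_flat_quotSMulTop (r : B) (hr : r ∈ maximalIdeal B) (hreg : IsSMulRegular M r)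
    (hfl : Module.Flat A (QuotSMulTop r M)) : Module.Flat A M := by
  rw [Module.Flat.iff_lTensor_injective]
  intro I hI
  have : Module.Finite A I := Module.Finite.iff_fg.mpr hI
  -- `N = M ⊗ I` is a finite `B`-module
  have hfin : Module.Finite B (M ⊗[A] I) :=
    Module.Finite.equiv (TensorProduct.AlgebraTensorModule.cancelBaseChange A B B M I)
  have : IsNoetherian B (M ⊗[A] I) := isNoetherian_of_isNoetherianRing_of_finite B _
  let φ : M ⊗[A] I →ₗ[B] M :=
    (TensorProduct.AlgebraTensorModule.rid A B M).toLinearMap ∘ₗ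
      TensorProduct.AlgebraTensorModule.lTensor B M I.subtype
  have hφ : ∀ x, φ x = TensorProduct.rid A M (LinearMap.lTensor M I.subtype x) := fun x => rfl
  set K : Submodule B (M ⊗[A] I) := LinearMap.ker φ with hK
  have hKfg : K.FG := IsNoetherian.noetherian K
  -- flatness of the quotient
  let q : M →ₗ[A] QuotSMulTop r M := ((r • (⊤ : Submodule B M)).mkQ).restrictScalars A
  let ι : ↥(r • (⊤ : Submodule B M)) →ₗ[A] M := ((r • (⊤ : Submodule B M)).subtype).restrictScalars A
  have hex : Function.Exact ι q := LinearMap.exact_subtype_mkQ (r • (⊤ : Submodule B M))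
  have hqs : Function.Surjective q := Submodule.mkQ_surjective _
  have hex2 : Function.Exact (LinearMap.rTensor I ι) (LinearMap.rTensor I q) :=
    rTensor_exact I hex hqs
  have hinjq : Function.Injective (LinearMap.lTensor (QuotSMulTop r M) I.subtype) :=
    Module.Flat.lTensor_preserves_injective_linearMap _ Subtype.val_injective
  have hrange : ∀ t : ↥(r • (⊤ : Submodule B M)) ⊗[A] I, ∃ y : M ⊗[A] I,
      LinearMap.rTensor I ι t = r • y := by
    intro t
    induction t using TensorProduct.induction_on with
    | zero => exact ⟨0, by simp⟩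
    | add a b ha hb =>
      obtain ⟨ya, hya⟩ := ha
      obtain ⟨yb, hyb⟩ := hb
      exact ⟨ya + yb, by rw [map_add, hya, hyb, smul_add]⟩
    | tmul m i =>
      obtain ⟨m, hm⟩ := m
      obtain ⟨m', -, rfl⟩ := (Submodule.mem_smul_pointwise_iff_exists _ _ _).1 hm
      exact ⟨m' ⊗ₜ i, by simp [ι, TensorProduct.smul_tmul']⟩
  have hle : K ≤ (Ideal.span {r} : Ideal B) • K := by
    intro x hx
    have hx0 : LinearMap.lTensor M I.subtype x = 0 := by
      have : φ x = 0 := hx
      rw [hφ] at this
      exact (TensorProduct.rid A M).injective (by rw [this, map_zero])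
    have h1 : LinearMap.rTensor I q x = 0 := by
      apply hinjq
      rw [map_zero, ← LinearMap.comp_apply, LinearMap.lTensor_comp_rTensor,
        ← LinearMap.rTensor_comp_lTensor, LinearMap.comp_apply, hx0, map_zero]
    obtain ⟨t, ht⟩ := (hex2 x).1 h1
    obtain ⟨y, hy⟩ := hrange t
    have hxy : x = r • y := by rw [← ht, hy]
    have hyK : y ∈ K := by
      have h2 : φ x = r • φ y := by rw [hxy, map_smul]
      have h3 : φ x = 0 := hx
      rw [h3] at h2
      have : r • φ y = r • 0 := by rw [smul_zero, ← h2]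
      exact hreg this
    rw [hxy]
    exact Submodule.smul_mem_smul (Ideal.mem_span_singleton_self r) hyK
  have hKbot : K = ⊥ := by
    apply Submodule.eq_bot_of_le_smul_of_le_jacobson_bot _ K hKfg hle
    rw [IsLocalRing.jacobson_eq_maximalIdeal ⊥ bot_ne_top, Ideal.span_singleton_le_iff_mem]
    exact hr
  intro x y hxy
  have : φ (x - y) = 0 := by rw [hφ, map_sub, hxy, sub_self, map_zero]
  have hmem : x - y ∈ K := this
  rw [hKbot, Submodule.mem_bot] at hmem
  exact sub_eq_zero.mp hmem

end step

section seq

open RingTheory.Sequence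

variable {A B : Type u} [CommRing A] [CommRing B] [Algebra A B] [IsNoetherianRing B] [IsLocalRing B]

theorem flat_of_flat_quot_ofList_aux : ∀ (n : ℕ) (M : Type u) [AddCommGroup M] [Module B M]
    [Module A M] [IsScalarTower A B M] [Module.Finite B M] (rs : List B), rs.length = n →
    (∀ r ∈ rs, r ∈ maximalIdeal B) → IsWeaklyRegular M rs →
    Module.Flat A (M ⧸ (Ideal.ofList rs • ⊤ : Submodule B M)) → Module.Flat A M := by
  intro n
  induction n with
  | zero =>
    intro M _ _ _ _ _ rs hlen _ _ hfl
    obtain rfl : rs = [] := List.eq_nil_of_length_eq_zero hlen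
    have hbot : (Ideal.ofList ([] : List B) • ⊤ : Submodule B M) = ⊥ := by
      rw [Ideal.ofList_nil, Submodule.bot_smul]
    exact Module.Flat.of_linearEquiv
      ((Submodule.quotEquivOfEqBot _ hbot).restrictScalars A).symm
  | succ n ih =>
    intro M _ _ _ _ _ rs hlen hmem hreg hfl
    obtain ⟨r, rs', rfl⟩ := List.exists_cons_of_length_eq_add_one hlen
    rw [isWeaklyRegular_cons_iff] at hreg
    have hlen' : rs'.length = n := by simpa using hlen
    have hfl' : Module.Flat A
        (QuotSMulTop r M ⧸ (Ideal.ofList rs' • ⊤ : Submodule B (QuotSMulTop r M))) :=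
      Module.Flat.of_linearEquiv
        ((Submodule.quotOfListConsSMulTopEquivQuotSMulTopInner M r rs').restrictScalars A).symm
    have h1 : Module.Flat A (QuotSMulTop r M) :=
      ih (QuotSMulTop r M) rs' hlen' (fun x hx => hmem x (List.mem_cons_of_mem _ hx)) hreg.2 hfl'
    exact flat_of_flat_quotSMulTop r (hmem r List.mem_cons_self) hreg.1 h1

/-- `B` Noetherian local, `rs` a weakly regular sequence in `𝔪_B` with `B/(rs)` flat over `A`:
then `B` is flat over `A`. -/
theorem flat_of_flat_quot_ofList (rs : List B) (hmem : ∀ r ∈ rs, r ∈ maximalIdeal B)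
    (hreg : IsWeaklyRegular B rs) (hfl : Module.Flat A (B ⧸ Ideal.ofList rs)) : Module.Flat A B := by
  refine flat_of_flat_quot_ofList_aux rs.length B rs rfl hmem hreg ?_
  have heq : (Ideal.ofList rs • ⊤ : Submodule B B) = Ideal.ofList rs := by
    rw [smul_eq_mul, Ideal.mul_top]
  exact Module.Flat.of_linearEquiv
    ((Submodule.quotEquivOfEq _ _ heq).restrictScalars A)

end seq

section hom

open RingTheory.Sequence

/-- ring-hom form. -/
theorem flat_of_surjective_of_ker_eq_ofList {A B C : Type u} [CommRing A] [CommRing B] [CommRing C]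
    [IsNoetherianRing B] [IsLocalRing B] (φ : A →+* B) (ψ : B →+* C) (hψ : Function.Surjective ψ)
    (rs : List B) (hmem : ∀ r ∈ rs, r ∈ maximalIdeal B) (hreg : IsWeaklyRegular B rs)
    (hker : RingHom.ker ψ = Ideal.ofList rs) (hfl : (ψ.comp φ).Flat) : φ.Flat := by
  algebraize [φ, ψ.comp φ]
  let e0 : (B ⧸ Ideal.ofList rs) ≃+* C :=
    (Ideal.quotEquivOfEq hker.symm).trans (RingHom.quotientKerEquivOfSurjective hψ)
  have he0 : ∀ b : B, e0 (Ideal.Quotient.mk _ b) = ψ b := fun b => rfl
  let e : (B ⧸ Ideal.ofList rs) ≃ₗ[A] C :=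
    { e0 with
      map_smul' := by
        intro a x
        obtain ⟨b, rfl⟩ := Ideal.Quotient.mk_surjective x
        change e0 (a • Ideal.Quotient.mk _ b) = a • e0 (Ideal.Quotient.mk _ b)
        rw [Algebra.smul_def, Algebra.smul_def, he0]
        change e0 (Ideal.Quotient.mk _ (φ a) * Ideal.Quotient.mk _ b) = (ψ.comp φ) a * ψ b
        rw [← map_mul, he0, map_mul]
        rfl }
  have : Module.Flat A (B ⧸ Ideal.ofList rs) := Module.Flat.of_linearEquiv e
  exact flat_of_flat_quot_ofList rs hmem hreg this

end hom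

end Groth.Agent.Lib.T2H2.FlatRegQuot
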