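import Groth.Agent.Lib.T2H2QFCover

/-!
# fppf covers are dominated étale locally by finite locally free covers (helper2)

Used for S1379: slice the fppf cover to a quasi-finite flat one (`T2H2QFCover`), then apply
Mathlib's étale-local structure theorem for quasi-finite algebras.
-/

set_option autoImplicit false
universe u

namespace Groth.Agent.Lib.T2H2.FppfFinite

open TensorProduct AlgebraicGeometry CategoryTheory

/-- Étale-local structure of a flat finitely presented algebra quasi-finite at a prime: after an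
étale base change a finite flat finitely presented direct factor through the prime splits off. -/
theorem exists_etale_finite_flat_of_quasiFiniteAt {R C : Type u} [CommRing R] [CommRing C]
    [Algebra R C] [Module.Flat R C] [Algebra.FinitePresentation R C] (p : Ideal R) [p.IsPrime]
    (q : Ideal C) [q.IsPrime] [q.LiesOver p] [Algebra.QuasiFiniteAt R q] :
    ∃ (R' : Type u) (_ : CommRing R') (_ : Algebra R R') (_ : Algebra.Etale R R')
      (A : Type u) (_ : CommRing A) (_ : Algebra R' A) (ψ : C →+* A) (P_A : Ideal A)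
      (_ : P_A.IsPrime),
      (algebraMap R' A).comp (algebraMap R R') = ψ.comp (algebraMap R C) ∧
      Module.Finite R' A ∧ Module.Flat R' A ∧ Algebra.FinitePresentation R' A ∧
      (P_A.comap ((algebraMap R' A).comp (algebraMap R R'))) = p := by
  obtain ⟨R', _, _, hét, P, hP, hPp, e, he, P', hP', hP'P, hP'q, heP', -, hfin, -⟩ :=
    Algebra.exists_etale_isIdempotentElem_forall_liesOver_eq p q
  have hdisj : Disjoint (Submonoid.powers e : Set (R' ⊗[R] C)) (P' : Set (R' ⊗[R] C)) := by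
    rw [Set.disjoint_left]
    rintro x ⟨n, rfl⟩ hx
    exact heP' (hP'.mem_of_pow_mem n hx)
  refine ⟨R', inferInstance, inferInstance, hét, Localization.Away e, inferInstance, inferInstance,
    (algebraMap (R' ⊗[R] C) (Localization.Away e)).comp
      Algebra.TensorProduct.includeRight.toRingHom,
    P'.map (algebraMap (R' ⊗[R] C) (Localization.Away e)),
    IsLocalization.isPrime_of_isPrime_disjoint (Submonoid.powers e) _ P' hP' hdisj, ?_, hfin, ?_,
    ?_, ?_⟩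
  · ext r
    simp only [RingHom.comp_apply, AlgHom.toRingHom_eq_coe, RingHom.coe_coe,
      Algebra.TensorProduct.includeRight_apply]
    rw [IsScalarTower.algebraMap_apply R' (R' ⊗[R] C) (Localization.Away e)]
    congr 1
    rw [Algebra.TensorProduct.algebraMap_apply, Algebra.algebraMap_self, RingHom.id_apply,
      Algebra.algebraMap_eq_smul_one, Algebra.algebraMap_eq_smul_one, TensorProduct.smul_tmul]
  · exact Module.Flat.trans R' (R' ⊗[R] C) (Localization.Away e)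
  · exact Algebra.FinitePresentation.trans R' (R' ⊗[R] C) (Localization.Away e)
  · rw [← Ideal.comap_comap, IsScalarTower.algebraMap_eq R' (R' ⊗[R] C) (Localization.Away e),
      ← Ideal.comap_comap]
    have h1 : (P'.map (algebraMap (R' ⊗[R] C) (Localization.Away e))).comap
        (algebraMap (R' ⊗[R] C) (Localization.Away e)) = P' :=
      IsLocalization.under_map_of_isPrime_disjoint (Submonoid.powers e) _ hP' hdisj
    rw [h1]
    have h2 : P'.comap (algebraMap R' (R' ⊗[R] C)) = P := (hP'P.over).symm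
    rw [h2]
    exact (hPp.over).symm

/-- An fppf cover by one morphism is dominated, étale locally around any point of the base, by a
surjective finite flat finitely presented morphism. -/
theorem exists_etale_finite_flat_refinement {S₁ S : Scheme.{u}} (g : S₁ ⟶ S) [Flat g]
    [LocallyOfFinitePresentation g] [Surjective g] (s : S) :
    ∃ (S' V : Scheme.{u}) (e : S' ⟶ S) (π : V ⟶ S'), Etale e ∧ s ∈ Set.range ⇑e ∧ Surjective π ∧
      IsFinite π ∧ Flat π ∧ LocallyOfFinitePresentation π ∧ ∃ r : V ⟶ S₁, r ≫ g = π ≫ e := by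
  obtain ⟨Z, j, hZaff, hfl, hfp, hqf, ⟨z, hz⟩⟩ :=
    Groth.Agent.Lib.T2H2.QFCover.exists_lqf_flat_slice g s (g.surjective s)
  obtain ⟨_, ⟨V₀', hV₀', rfl⟩, hsV₀, -⟩ :=
    S.isBasis_affineOpens.exists_subset_of_mem_open (Set.mem_univ s) isOpen_univ
  let V₀ : S.Opens := V₀'
  have hV₀ : IsAffineOpen V₀ := hV₀'
  have hzV₀ : z ∈ ((j ≫ g) ⁻¹ᵁ V₀ : Set Z) := by
    change (j ≫ g) z ∈ V₀
    rw [hz]
    exact hsV₀
  obtain ⟨_, ⟨Z₀', hZ₀', rfl⟩, hzZ₀, hZ₀V⟩ :=
    Z.isBasis_affineOpens.exists_subset_of_mem_open hzV₀ ((j ≫ g) ⁻¹ᵁ V₀).isOpen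
  let Z₀ : Z.Opens := Z₀'
  have hZ₀ : IsAffineOpen Z₀ := hZ₀'
  have e₀ : Z₀ ≤ (j ≫ g) ⁻¹ᵁ V₀ := hZ₀V
  let φ := (j ≫ g).appLE V₀ Z₀ e₀
  let _ : Algebra Γ(S, V₀) Γ(Z, Z₀) := φ.hom.toAlgebra
  have hflat : Module.Flat Γ(S, V₀) Γ(Z, Z₀) :=
    HasRingHomProperty.appLE @Flat (j ≫ g) hfl ⟨V₀, hV₀⟩ ⟨Z₀, hZ₀⟩ e₀
  have hfp' : Algebra.FinitePresentation Γ(S, V₀) Γ(Z, Z₀) :=
    HasRingHomProperty.appLE @LocallyOfFinitePresentation (j ≫ g) hfp ⟨V₀, hV₀⟩ ⟨Z₀, hZ₀⟩ e₀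
  have hqf' : Algebra.QuasiFinite Γ(S, V₀) Γ(Z, Z₀) :=
    HasRingHomProperty.appLE @LocallyQuasiFinite (j ≫ g) hqf ⟨V₀, hV₀⟩ ⟨Z₀, hZ₀⟩ e₀
  have hsz : (j ≫ g) z = s := hz
  have hlies : (hZ₀.primeIdealOf ⟨z, hzZ₀⟩).asIdeal.LiesOver
      (hV₀.primeIdealOf ⟨(j ≫ g) z, e₀ hzZ₀⟩).asIdeal := by
    constructor
    have := IsAffineOpen.comap_primeIdealOf_appLE (f := j ≫ g) V₀ hV₀ Z₀ hZ₀ e₀ hzZ₀
    exact (congrArg PrimeSpectrum.asIdeal this).symm
  obtain ⟨R', _, _, hét, A, _, _, ψ, P_A, hP_A, hcomm, hfin, hflatA, hfpA, hPA⟩ :=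
    exists_etale_finite_flat_of_quasiFiniteAt
      (hV₀.primeIdealOf ⟨(j ≫ g) z, e₀ hzZ₀⟩).asIdeal (hZ₀.primeIdealOf ⟨z, hzZ₀⟩).asIdeal
  -- the schemes
  let π₀ : Spec (.of A) ⟶ Spec (.of R') := Spec.map (CommRingCat.ofHom (algebraMap R' A))
  let ε₀ : Spec (.of R') ⟶ S :=
    Spec.map (CommRingCat.ofHom (algebraMap Γ(S, V₀) R')) ≫ hV₀.fromSpec
  let ρ₀ : Spec (.of A) ⟶ S₁ := Spec.map (CommRingCat.ofHom ψ) ≫ hZ₀.fromSpec ≫ j
  have hsq : ρ₀ ≫ g = π₀ ≫ ε₀ := by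
    have h1 : hZ₀.fromSpec ≫ (j ≫ g) = Spec.map φ ≫ hV₀.fromSpec :=
      (IsAffineOpen.SpecMap_appLE_fromSpec (j ≫ g) hV₀ hZ₀ e₀).symm
    simp only [ρ₀, π₀, ε₀, Category.assoc]
    rw [h1, ← Spec.map_comp_assoc, ← Spec.map_comp_assoc]
    congr 2
    ext x
    exact (RingHom.congr_fun hcomm x).symm
  have hπfin : IsFinite π₀ := by
    rw [IsFinite.SpecMap_iff]
    exact RingHom.finite_algebraMap.mpr hfin
  have hπflat : Flat π₀ := by
    rw [Flat.SpecMap_iff]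
    exact RingHom.flat_algebraMap_iff.mpr hflatA
  have hπfp : LocallyOfFinitePresentation π₀ := by
    rw [HasRingHomProperty.Spec_iff (P := @LocallyOfFinitePresentation)]
    exact RingHom.finitePresentation_algebraMap.mpr hfpA
  have hεet : Etale ε₀ := by
    have : Etale (Spec.map (CommRingCat.ofHom (algebraMap Γ(S, V₀) R'))) := by
      rw [HasRingHomProperty.Spec_iff (P := @Etale)]
      exact RingHom.etale_algebraMap.mpr hét
    infer_instance
  let U : (Spec (.of R')).Opens := ⟨Set.range π₀, π₀.isOpenMap.isOpen_range⟩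
  have hPAU : π₀ ⟨P_A, hP_A⟩ ∈ U := ⟨⟨P_A, hP_A⟩, rfl⟩
  refine ⟨U, (π₀ ⁻¹ᵁ U : (Spec (.of A)).Opens), U.ι ≫ ε₀, π₀ ∣_ U, inferInstance, ?_, ?_,
    IsZariskiLocalAtTarget.restrict hπfin U, IsZariskiLocalAtTarget.restrict hπflat U,
    IsZariskiLocalAtTarget.restrict hπfp U, (π₀ ⁻¹ᵁ U).ι ≫ ρ₀, ?_⟩
  · refine ⟨⟨π₀ ⟨P_A, hP_A⟩, hPAU⟩, ?_⟩
    change ε₀ (π₀ ⟨P_A, hP_A⟩) = s
    rw [← hsz]
    have h1 : (Spec.map (CommRingCat.ofHom (algebraMap Γ(S, V₀) R'))) (π₀ ⟨P_A, hP_A⟩) =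
        hV₀.primeIdealOf ⟨(j ≫ g) z, e₀ hzZ₀⟩ := by
      apply PrimeSpectrum.ext
      change Ideal.comap (algebraMap Γ(S, V₀) R') (Ideal.comap (algebraMap R' A) P_A) = _
      rw [Ideal.comap_comap]
      exact hPA
    change hV₀.fromSpec ((Spec.map (CommRingCat.ofHom (algebraMap Γ(S, V₀) R')))
      (π₀ ⟨P_A, hP_A⟩)) = _
    rw [h1]
    exact hV₀.fromSpec_primeIdealOf ⟨(j ≫ g) z, e₀ hzZ₀⟩
  · constructor
    rintro ⟨u, ⟨a, rfl⟩⟩
    refine ⟨⟨a, ⟨a, rfl⟩⟩, ?_⟩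
    apply Subtype.ext
    exact morphismRestrict_base_coe π₀ U _
  · rw [Category.assoc, hsq, morphismRestrict_ι_assoc]

end Groth.Agent.Lib.T2H2.FppfFinite
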