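import Groth.Agent.Lib.T2H1FlatAmpDescend
import Groth.Agent.Lib.T2H2FpqcPCohA

/-!
# fppf descent of pseudo-coherence, part A: the derived pullback along a flat morphism (T2H2)

For a flat morphism `f`, `Lf^*` is computed objectwise by the exact functor `f^*`.
-/

set_option autoImplicit false
set_option linter.style.haveILetI false
universe u
open CategoryTheory CategoryTheory.Limits AlgebraicGeometry Opposite

attribute [local instance] HasDerivedCategory.standard

namespace Groth.Agent.Lib.T2H2.FppfPCoh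

open Groth.Agent.Lib.Helper1.Sky Groth.Agent.Lib.Helper1.KBC Groth.Agent.Lib.Helper1.PT
  Groth.Agent.Lib.T2H1.FlatAmpDescend

variable {X' X : Scheme.{u}} (f : X' ⟶ X) [Flat f] [DCoh.HasLpull f]

/-- for flat `f`, `Lf^* E` is `f^*` applied to `E` (objectwise) -/
theorem nonempty_lpull_iso_mapD [PreservesFiniteLimits (Scheme.Modules.pullback f)]
    (E : DCoh.D X) :
    Nonempty ((DCoh.Lpull f).obj E ≅ (Scheme.Modules.pullback f).mapDerivedCategory.obj E) := by
  obtain ⟨P, hP, ⟨eK⟩⟩ := exists_kflat_rep E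
  exact ⟨(DCoh.Lpull f).mapIso eK ≪≫ lpullIsoK f P hP ≪≫
    ((Scheme.Modules.pullback f).mapDerivedCategoryFactors.app P).symm ≪≫
    (Scheme.Modules.pullback f).mapDerivedCategory.mapIso eK.symm⟩

/-- for flat `f`, `H^i(Lf^* E) = f^* H^i(E)` -/
theorem nonempty_HD_lpull_iso (E : DCoh.D X) (i : ℤ) :
    Nonempty (DCoh.HD ((DCoh.Lpull f).obj E) i ≅
      (Scheme.Modules.pullback f).obj (DCoh.HD E i)) := by
  obtain ⟨P, hP, ⟨eK⟩⟩ := exists_kflat_rep E
  haveI := Groth.Agent.Lib.T2H5.FlatPullback.preservesFiniteLimits_pullback f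
  have e2 : (DCoh.Lpull f).obj E ≅ DCoh.toD X' ((pullC f).obj P) :=
    (DCoh.Lpull f).mapIso eK ≪≫ lpullIsoK f P hP
  have e1 : (plb f).obj (P.homology i) ≅ ((pullC f).obj P).homology i :=
    ((P.sc i).mapHomologyIso (plb f)).symm
  have e3 : DCoh.HD E i ≅ P.homology i :=
    (DerivedCategory.homologyFunctor X.Modules i).mapIso eK ≪≫
      (DerivedCategory.homologyFunctorFactors X.Modules i).app P
  exact ⟨(DerivedCategory.homologyFunctor X'.Modules i).mapIso e2 ≪≫
    (DerivedCategory.homologyFunctorFactors X'.Modules i).app ((pullC f).obj P) ≪≫ e1.symm ≪≫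
    (plb f).mapIso e3.symm⟩

end Groth.Agent.Lib.T2H2.FppfPCoh
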