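import Groth.Agent.Lib.T2H2PCohTrunc
import Groth.Agent.Lib.T2H2AffRedB

/-!
# fppf descent of pseudo-coherence, part B: killing the top cohomology locally (T2H2)

* `isZero_homology_obj₃`: vanishing of the cohomology of the cone.
* `exists_local_approx_top`: if `H^j(K) = 0` for `j > i` and `P ⟶ H^i(K)` is an epimorphism from a
  finite locally free module, then locally there is a map from `P[-i]` to `K` inducing that
  epimorphism on `H^i`.
* `isPseudoCoherentD_Q_obj`: strictly perfect complexes are pseudo-coherent.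
-/

set_option autoImplicit false
set_option linter.style.haveILetI false
universe u
open CategoryTheory CategoryTheory.Limits CategoryTheory.Pretriangulated AlgebraicGeometry Opposite

attribute [local instance] HasDerivedCategory.standard

namespace Groth.Agent.Lib.T2H2.FppfPCoh

open Groth.Agent.Lib.T2H8.SchLocHtpy Groth.Agent.Lib.T2H8.PerfLocal
  Groth.Agent.Lib.T2H8.PCohTriangle Groth.Agent.Lib.T2H2.PCohTrunc DerivedCategory

section Cone

universe w₁ v₁ u₁

variable {A : Type u₁} [Category.{v₁} A] [Abelian A] [HasDerivedCategory.{w₁} A]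

/-- in a distinguished triangle, `H^j` of the third vertex vanishes if `H^j` of the first map is an
epimorphism and `H^{j+1}` of the first vertex vanishes. -/
theorem isZero_homology_obj₃ (T : Triangle (DerivedCategory A)) (hT : T ∈ distTriang _) (j : ℤ)
    (h1 : Epi ((homologyFunctor A j).map T.mor₁))
    (h2 : IsZero ((homologyFunctor A (j + 1)).obj T.obj₁)) :
    IsZero ((homologyFunctor A j).obj T.obj₃) := by
  have hz : (homologyFunctor A j).map T.mor₂ = 0 := by
    rw [← cancel_epi ((homologyFunctor A j).map T.mor₁), ← Functor.map_comp,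
      comp_distTriang_mor_zero₁₂ T hT, Functor.map_zero, comp_zero]
  haveI : Epi ((homologyFunctor A j).map T.mor₂) :=
    (HomologySequence.exact₃ T hT j (j + 1) rfl).epi_f (h2.eq_of_tgt _ _)
  rw [IsZero.iff_id_eq_zero, ← cancel_epi ((homologyFunctor A j).map T.mor₂), hz]
  simp

end Cone

variable {Y : Scheme.{u}}

/-- strictly perfect complexes are `m`-pseudo-coherent for all `m` -/
theorem isPseudoCoherentD_Q_obj (S : CochainComplex Y.Modules ℤ) (hS : DCoh.IsStrictlyPerfect S)
    (m : ℤ) : DCoh.IsPseudoCoherentD m (Q.obj S) := by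
  rw [isPseudoCoherentD_iff]
  intro x
  exact ⟨Y, 𝟙 Y, inferInstance, x, rfl, (rC (𝟙 Y)).obj S,
    ((Scheme.Modules.restrictFunctor (𝟙 Y)).mapDerivedCategoryFactors.app S).inv,
    isStrictlyPerfect_restrict (𝟙 Y) S hS, isApprox_of_isIso m _⟩

/-- killing the top cohomology: a local map from a finite locally free module placed in degree `i`
which is an epimorphism on `H^i`. -/
theorem exists_local_approx_top (K : DCoh.D Y) (i : ℤ)
    (hK : ∀ j : ℤ, i < j → IsZero (DCoh.HD K j)) (P : Y.Modules) (hP : FlatMod.IsFinLocFree P)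
    (π : P ⟶ DCoh.HD K i) [Epi π] (y : Y) :
    ∃ (W : Y.Opens) (E : CochainComplex (W : Scheme.{u}).Modules ℤ)
      (α : Q.obj E ⟶ (rD W.ι).obj K), y ∈ W ∧ DCoh.IsStrictlyPerfect E ∧
      (∀ j : ℤ, j ≠ i → IsZero (E.X j)) ∧
      Epi ((homologyFunctor (W : Scheme.{u}).Modules i).map α) := by
  let t := (DerivedCategory.TStructure.t : Triangulated.TStructure (DCoh.D Y))
  haveI : K.IsLE i := (DerivedCategory.isLE_iff K i).2 hK
  let B : DCoh.D Y := (t.truncGE i).obj K
  let pB : K ⟶ B := (t.truncGEπ i).app K
  haveI : B.IsGE i := by dsimp [B]; infer_instance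
  haveI : B.IsLE i := by
    change t.IsLE ((t.truncGE i).obj K) i
    infer_instance
  have hpB : IsApprox i pB := isApprox_truncGEπ K i i le_rfl
  obtain ⟨A, ⟨e⟩⟩ := exists_iso_singleFunctor_obj_of_isGE_of_isLE B i
  haveI : IsIso ((homologyFunctor Y.Modules i).map pB) := isIso_homology_truncGEπ K i i le_rfl
  let θ : DCoh.HD K i ≅ A :=
    asIso ((homologyFunctor Y.Modules i).map pB) ≪≫ (homologyFunctor Y.Modules i).mapIso e ≪≫
      (singleFunctorCompHomologyFunctorIso Y.Modules i).app A
  -- the complex `P[-i]`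
  let E : CochainComplex Y.Modules ℤ := (CochainComplex.singleFunctor Y.Modules i).obj P
  have hEX : ∀ j : ℤ, j ≠ i → IsZero (E.X j) := fun j hj =>
    HomologicalComplex.isZero_single_obj_X (ComplexShape.up ℤ) i P j hj
  have hE : DCoh.IsStrictlyPerfect E := by
    refine ⟨⟨i, i, fun j hj => hEX j (by omega)⟩, fun j => ?_⟩
    by_cases hj : j = i
    · subst hj
      exact isFinLocFree_of_iso (HomologicalComplex.singleObjXSelf (ComplexShape.up ℤ) j P).symm hP
    · exact Groth.Agent.Lib.T2H8.PCohFT.isFinLocFree_of_isZero (hEX j hj)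
  let g : P ⟶ A := π ≫ θ.hom
  haveI : Epi g := epi_comp _ _
  let γ : Q.obj E ⟶ B :=
    ((singleFunctorIsoCompQ Y.Modules i).app P).inv ≫ (singleFunctor Y.Modules i).map g ≫ e.inv
  -- `H^i(γ)` is an epimorphism
  have hγ : Epi ((homologyFunctor Y.Modules i).map γ) := by
    have h1 : Epi ((homologyFunctor Y.Modules i).map ((singleFunctor Y.Modules i).map g)) := by
      have key : Arrow.mk ((homologyFunctor Y.Modules i).map ((singleFunctor Y.Modules i).map g)) ≅
          Arrow.mk g :=
        Arrow.isoMk ((singleFunctorCompHomologyFunctorIso Y.Modules i).app P)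
          ((singleFunctorCompHomologyFunctorIso Y.Modules i).app A)
          ((singleFunctorCompHomologyFunctorIso Y.Modules i).hom.naturality g).symm
      exact ((MorphismProperty.epimorphisms Y.Modules).arrow_mk_iso_iff key).2
        (inferInstanceAs (Epi g))
    dsimp only [γ]
    rw [Functor.map_comp, Functor.map_comp]
    infer_instance
  -- lift through `K`
  let F := (Q : _ ⥤ DCoh.D Y).objPreimage K
  let e₀ : Q.obj F ≅ K := Q.objObjPreimageIso K
  let β : Q.obj F ⟶ B := e₀.hom ≫ pB
  have hβ : IsApprox i β := (isApprox_of_isIso i _).comp hpB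
  obtain ⟨W, c, hyW, hc⟩ := exists_local_lift hE i (fun j hj => hEX j (by omega)) β hβ γ y
  let fE := (Scheme.Modules.restrictFunctor W.ι).mapDerivedCategoryFactors.app E
  let fF := (Scheme.Modules.restrictFunctor W.ι).mapDerivedCategoryFactors.app F
  let α : Q.obj ((rC W.ι).obj E) ⟶ (rD W.ι).obj K := Q.map c ≫ fF.inv ≫ (rD W.ι).map e₀.hom
  refine ⟨W, (rC W.ι).obj E, α, hyW, isStrictlyPerfect_restrict W.ι E hE,
    fun j hj => (Scheme.Modules.restrictFunctor W.ι).map_isZero (hEX j hj), ?_⟩
  have hα : α ≫ (rD W.ι).map pB = fE.inv ≫ (rD W.ι).map γ := by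
    rw [← hc]
    simp only [α, β, fE, fF, Functor.map_comp, Category.assoc, Iso.inv_hom_id_assoc]
  have hpB' := hpB.map (Scheme.Modules.restrictFunctor W.ι)
  haveI : IsIso ((homologyFunctor (W : Scheme.{u}).Modules i).map ((rD W.ι).map pB)) := by
    have key : Arrow.mk ((homologyFunctor (W : Scheme.{u}).Modules i).map ((rD W.ι).map pB)) ≅
        Arrow.mk ((Scheme.Modules.restrictFunctor W.ι).map
          ((homologyFunctor Y.Modules i).map pB)) :=
      Arrow.isoMk ((mapDerivedCategoryHomologyIso (Scheme.Modules.restrictFunctor W.ι) i).app K)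
        ((mapDerivedCategoryHomologyIso (Scheme.Modules.restrictFunctor W.ι) i).app B)
        ((mapDerivedCategoryHomologyIso (Scheme.Modules.restrictFunctor W.ι) i).hom.naturality
          pB).symm
    exact ((MorphismProperty.isomorphisms _).arrow_mk_iso_iff key).2
      (inferInstanceAs (IsIso ((Scheme.Modules.restrictFunctor W.ι).map
        ((homologyFunctor Y.Modules i).map pB))))
  haveI : Epi ((homologyFunctor (W : Scheme.{u}).Modules i).map ((rD W.ι).map γ)) := by
    have key : Arrow.mk ((homologyFunctor (W : Scheme.{u}).Modules i).map ((rD W.ι).map γ)) ≅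
        Arrow.mk ((Scheme.Modules.restrictFunctor W.ι).map
          ((homologyFunctor Y.Modules i).map γ)) :=
      Arrow.isoMk ((mapDerivedCategoryHomologyIso (Scheme.Modules.restrictFunctor W.ι) i).app _)
        ((mapDerivedCategoryHomologyIso (Scheme.Modules.restrictFunctor W.ι) i).app B)
        ((mapDerivedCategoryHomologyIso (Scheme.Modules.restrictFunctor W.ι) i).hom.naturality
          γ).symm
    exact ((MorphismProperty.epimorphisms _).arrow_mk_iso_iff key).2
      (inferInstanceAs (Epi ((Scheme.Modules.restrictFunctor W.ι).map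
        ((homologyFunctor Y.Modules i).map γ))))
  clear_value α
  have h3 : (homologyFunctor (W : Scheme.{u}).Modules i).map α ≫
      (homologyFunctor (W : Scheme.{u}).Modules i).map ((rD W.ι).map pB) =
      (homologyFunctor (W : Scheme.{u}).Modules i).map fE.inv ≫
        (homologyFunctor (W : Scheme.{u}).Modules i).map ((rD W.ι).map γ) := by
    rw [← Functor.map_comp, hα, Functor.map_comp]
  rw [(IsIso.eq_comp_inv _).2 h3]
  infer_instance

end Groth.Agent.Lib.T2H2.FppfPCoh
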