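import Groth.Agent.Lib.T2H2FppfPCohA
import Groth.Agent.Lib.T2H2FppfPCohB
import Groth.Agent.Lib.T2H2FppfFTC
import Groth.Agent.Lib.T2H8PCohSingle
import Groth.Agent.Lib.Helper1Sky11
import Groth.Agent.Lib.Helper23FinTypeLocal

/-!
# fppf descent of pseudo-coherence, part C: the descending induction (T2H2)
-/

set_option autoImplicit false
set_option linter.style.haveILetI false
universe u
open CategoryTheory CategoryTheory.Limits CategoryTheory.Pretriangulated AlgebraicGeometry Opposite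

attribute [local instance] HasDerivedCategory.standard

namespace Groth.Agent.Lib.T2H2.FppfPCoh

open Groth.Agent.Lib.T2H8.SchLocHtpy Groth.Agent.Lib.T2H8.PerfLocal
  Groth.Agent.Lib.T2H8.PCohTriangle Groth.Agent.Lib.T2H2.PCohTrunc Groth.Agent.Lib.T2H2.AffRed
  Groth.Agent.Lib.T2H2.FpqcPCoh Groth.Agent.Lib.Helper1.Sky DerivedCategory

/-- `m`-pseudo-coherence implies `m'`-pseudo-coherence for `m ≤ m'` -/
lemma isPseudoCoherentD_mono {X : Scheme.{u}} (K : DCoh.D X) {m m' : ℤ} (h : m ≤ m')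
    (hK : DCoh.IsPseudoCoherentD m K) : DCoh.IsPseudoCoherentD m' K := by
  rw [isPseudoCoherentD_iff] at hK ⊢
  intro x
  obtain ⟨U, j, hj, x', hx', E, α, hE, hα⟩ := hK x
  exact ⟨U, j, hj, x', hx', E, α, hE, fun i hi => hα.1 i (by omega), hα.epi m' h⟩

/-- the inductive step of the descent of pseudo-coherence -/
theorem locPCoh_step {X' X : Scheme.{u}} (f : X' ⟶ X) [Flat f] [Surjective f]
    [LocallyOfFinitePresentation f] [DCoh.HasLpull f] (m i : ℤ) (hmi : m ≤ i)
    (IH : ∀ {Z' Z : Scheme.{u}} (g : Z' ⟶ Z) [Flat g] [Surjective g]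
      [LocallyOfFinitePresentation g] [DCoh.HasLpull g] (C : DCoh.D Z),
      (∀ j : ℤ, i ≤ j → IsZero (DCoh.HD C j)) →
      DCoh.IsPseudoCoherentD m ((DCoh.Lpull g).obj C) → DCoh.IsPseudoCoherentD m C)
    (E : DCoh.D X) (hE : ∀ j : ℤ, i < j → IsZero (DCoh.HD E j))
    (h : DCoh.IsPseudoCoherentD m ((DCoh.Lpull f).obj E)) (x : X) : LocPCoh m E x := by
  -- Step 1: `H^i(E)` is of finite type
  have hFT : CohB1.IsFT (DCoh.HD E i) := by
    have hf : IsOpenMap f := f.isOpenMap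
    apply Groth.Agent.Lib.T2H2.FppfFT.isFT_of_isFT_pullback (DCoh.HD E i) f hf
    obtain ⟨e⟩ := nonempty_HD_lpull_iso f E i
    have h1 : CohB1.IsFT (DCoh.HD ((DCoh.Lpull f).obj E) i) :=
      (Groth.Agent.Lib.T2H8.PCohFT.main_S0890 i _ (isPseudoCoherentD_mono _ hmi h)).1
        (fun j hj => by
          obtain ⟨e'⟩ := nonempty_HD_lpull_iso f E j
          exact IsZero.of_iso ((Scheme.Modules.pullback f).map_isZero (hE j hj)) e')
    haveI : SheafOfModules.IsFiniteType (R := X'.ringCatSheaf)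
      (DCoh.HD ((DCoh.Lpull f).obj E) i) := h1
    exact Groth.Agent.Lib.Helper23.FinType.isFiniteType_of_iso e
  -- Step 2: a local epimorphism from a finite locally free module
  obtain ⟨V, P, π, hxV, hP, hπ⟩ :=
    Groth.Agent.Lib.T2H8.PCohSingle.exists_epi_of_isFT (DCoh.HD E i) hFT x
  let KV : DCoh.D (V : Scheme.{u}) := (rD V.ι).obj E
  let κ : ∀ j : ℤ, DCoh.HD KV j ≅ (Scheme.Modules.restrictFunctor V.ι).obj (DCoh.HD E j) :=
    fun j => (mapDerivedCategoryHomologyIso (Scheme.Modules.restrictFunctor V.ι) j).app E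
  have hKV : ∀ j : ℤ, i < j → IsZero (DCoh.HD KV j) := fun j hj =>
    IsZero.of_iso ((Scheme.Modules.restrictFunctor V.ι).map_isZero (hE j hj)) (κ j)
  haveI : Epi (π ≫ (κ i).inv) := epi_comp _ _
  -- Step 3: kill the top cohomology locally
  obtain ⟨W, S, α, hyW, hS, hSX, hα⟩ :=
    exists_local_approx_top KV i hKV P hP (π ≫ (κ i).inv) ⟨x, hxV⟩
  obtain ⟨C, β, δ, hT⟩ := Pretriangulated.distinguished_cocone_triangle α
  have hC : ∀ j : ℤ, i ≤ j → IsZero (DCoh.HD C j) := fun j hj => by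
    refine isZero_homology_obj₃ (Triangle.mk α β δ) hT j ?_ ?_
    · rcases hj.lt_or_eq with h' | h'
      · have hz : IsZero ((homologyFunctor (W : Scheme.{u}).Modules j).obj ((rD W.ι).obj KV)) :=
          IsZero.of_iso ((Scheme.Modules.restrictFunctor W.ι).map_isZero (hKV j h'))
            ((mapDerivedCategoryHomologyIso (Scheme.Modules.restrictFunctor W.ι) j).app KV)
        exact ⟨fun _ _ _ => hz.eq_of_src _ _⟩
      · subst h'
        exact hα
    · refine IsZero.of_iso ?_ ((homologyFunctorFactors (W : Scheme.{u}).Modules (j + 1)).app S)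
      exact (HomologicalComplex.exactAt_iff_isZero_homology _ _).1
        (ShortComplex.exact_of_isZero_X₂ _ (hSX (j + 1) (by omega)))
  -- Step 4: base change to `W`
  let jW : (W : Scheme.{u}) ⟶ X := W.ι ≫ V.ι
  let g := pullback.snd f jW
  let k := pullback.fst f jW
  haveI : Surjective g := MorphismProperty.pullback_snd (P := @Surjective) f jW inferInstance
  haveI : DCoh.HasLpull g := hasLpull _
  haveI := Groth.Agent.Lib.T2H5.FlatPullback.preservesFiniteLimits_pullback g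
  have hg : g ≫ jW = k ≫ f := pullback.condition.symm
  obtain ⟨e₁⟩ := nonempty_rD_lpull_iso f k jW g hg E
  let e₂ : (rD W.ι).obj KV ≅ (rD jW).obj E := (rDComp W.ι V.ι jW rfl).app E
  have h2 : DCoh.IsPseudoCoherentD m ((DCoh.Lpull g).obj ((rD W.ι).obj KV)) :=
    isPseudoCoherentD_of_iso (e₁ ≪≫ (DCoh.Lpull g).mapIso e₂.symm) m
      (isPseudoCoherentD_rD k m _ h)
  let G := (Scheme.Modules.pullback g).mapDerivedCategory
  have hGT : G.mapTriangle.obj (Triangle.mk α β δ) ∈ distTriang _ := G.map_distinguished _ hT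
  obtain ⟨a₁⟩ := nonempty_lpull_iso_mapD g (Q.obj S)
  obtain ⟨a₂⟩ := nonempty_lpull_iso_mapD g ((rD W.ι).obj KV)
  obtain ⟨a₃⟩ := nonempty_lpull_iso_mapD g C
  have h1' : DCoh.IsPseudoCoherentD (m + 1) (G.obj (Q.obj S)) :=
    isPseudoCoherentD_of_iso a₁ (m + 1)
      (isPseudoCoherentD_lpull g (m + 1) _ (isPseudoCoherentD_Q_obj S hS (m + 1)))
  have h2' : DCoh.IsPseudoCoherentD m (G.obj ((rD W.ι).obj KV)) :=
    isPseudoCoherentD_of_iso a₂ m h2
  have h3' : DCoh.IsPseudoCoherentD m (G.obj C) := (main_S0889 m _ hGT).1 h1' h2'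
  have h3 : DCoh.IsPseudoCoherentD m ((DCoh.Lpull g).obj C) :=
    isPseudoCoherentD_of_iso a₃.symm m h3'
  have hCpc : DCoh.IsPseudoCoherentD m C := IH g C hC h3
  have hKW : DCoh.IsPseudoCoherentD m ((rD W.ι).obj KV) :=
    (main_S0889 m _ hT).2.1 (isPseudoCoherentD_Q_obj S hS m) hCpc
  exact locPCoh_of_isPseudoCoherentD_rD jW m E ⟨⟨x, hxV⟩, hyW⟩
    (isPseudoCoherentD_of_iso e₂ m hKW)

end Groth.Agent.Lib.T2H2.FppfPCoh
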