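import Groth.Agent.Lib.T2H2FppfPCohC
import Groth.Agent.Lib.T2H8PCohBdd

/-!
# fppf descent of pseudo-coherence, part D: the theorem (T2H2)

`isPseudoCoherentD_of_lpull_fppf`: if `f` is flat, surjective and locally of finite presentation
and `Lf^* E` is `m`-pseudo-coherent, then `E` is `m`-pseudo-coherent (for arbitrary `E` in
`D(O_X)`).
-/

set_option autoImplicit false
set_option linter.style.haveILetI false
universe u
open CategoryTheory CategoryTheory.Limits CategoryTheory.Pretriangulated AlgebraicGeometry Opposite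

attribute [local instance] HasDerivedCategory.standard

namespace Groth.Agent.Lib.T2H2.FppfPCoh

open Groth.Agent.Lib.T2H8.SchLocHtpy Groth.Agent.Lib.T2H8.PerfLocal
  Groth.Agent.Lib.T2H8.PCohTriangle Groth.Agent.Lib.T2H2.PCohTrunc Groth.Agent.Lib.T2H2.AffRed
  Groth.Agent.Lib.T2H2.FpqcPCoh Groth.Agent.Lib.Helper1.Sky DerivedCategory
  Groth.Agent.Lib.T2H1.FlatAmpDescend

/-- descent for objects bounded above, by induction on the bound -/
theorem descend_aux (m : ℤ) : ∀ (n : ℕ) {X' X : Scheme.{u}} (f : X' ⟶ X) [Flat f] [Surjective f]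
    [LocallyOfFinitePresentation f] [DCoh.HasLpull f] (E : DCoh.D X),
    (∀ j : ℤ, m + n ≤ j → IsZero (DCoh.HD E j)) →
    DCoh.IsPseudoCoherentD m ((DCoh.Lpull f).obj E) → DCoh.IsPseudoCoherentD m E := by
  intro n
  induction n with
  | zero =>
    intro X' X f _ _ _ _ E hE _
    haveI : E.IsLE (m - 1) :=
      (DerivedCategory.isLE_iff E (m - 1)).2 (fun j hj => hE j (by push_cast; omega))
    exact isPseudoCoherentD_of_isLE E m
  | succ n ih =>
    intro X' X f _ _ _ _ E hE h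
    rw [isPseudoCoherentD_iff]
    intro x
    exact locPCoh_step f m (m + n) (by omega) (fun g _ _ _ _ C hC hpc => ih g C hC hpc) E
      (fun j hj => hE j (by push_cast; omega)) h x

/-- **fppf descent of pseudo-coherence** for arbitrary objects of `D(O_X)` -/
theorem isPseudoCoherentD_of_lpull_fppf {X' X : Scheme.{u}} (f : X' ⟶ X) [Flat f] [Surjective f]
    [LocallyOfFinitePresentation f] [DCoh.HasLpull f] (E : DCoh.D X) (m : ℤ)
    (h : DCoh.IsPseudoCoherentD m ((DCoh.Lpull f).obj E)) : DCoh.IsPseudoCoherentD m E := by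
  rw [isPseudoCoherentD_iff]
  intro x
  obtain ⟨x', rfl⟩ := f.surjective x
  obtain ⟨U', j', hj', y', hy', hP⟩ := (isPseudoCoherentD_iff m _).1 h x'
  have hP' : PCohAt m ((DCoh.Lpull f).obj E) j'.opensRange.ι :=
    hP.refine j'.isoOpensRange.inv j'.opensRange.ι j'.isoOpensRange_inv_comp
  obtain ⟨b, hb⟩ := Groth.Agent.Lib.T2H8.PCohBdd.PCohAt.exists_bound hP'
  let W' : X'.Opens := j'.opensRange
  have hxW' : x' ∈ W' := ⟨y', hy'⟩
  let V : X.Opens := ⟨f '' (W' : Set X'), f.isOpenMap _ W'.isOpen⟩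
  have hxV : f x' ∈ V := ⟨x', hxW', rfl⟩
  have hr : Set.range (W'.ι ≫ f) ⊆ Set.range V.ι := by
    rw [Scheme.Opens.range_ι]
    rintro _ ⟨z, rfl⟩
    exact ⟨z.1, z.2, rfl⟩
  let fU : (W' : Scheme.{u}) ⟶ (V : Scheme.{u}) := IsOpenImmersion.lift V.ι (W'.ι ≫ f) hr
  have hfac : fU ≫ V.ι = W'.ι ≫ f := IsOpenImmersion.lift_fac _ _ _
  haveI : Flat fU := MorphismProperty.of_postcomp (W := @Flat) (W' := @IsOpenImmersion) fU V.ι
    inferInstance (by rw [hfac]; infer_instance)
  haveI : LocallyOfFinitePresentation fU :=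
    MorphismProperty.of_postcomp (W := @LocallyOfFinitePresentation) (W' := @IsOpenImmersion)
      fU V.ι inferInstance (by rw [hfac]; infer_instance)
  haveI : Surjective fU := ⟨fun y => by
    obtain ⟨z, hz, hzy⟩ := y.2
    refine ⟨⟨z, hz⟩, ?_⟩
    apply V.ι.isOpenEmbedding.injective
    have h1 : (fU ≫ V.ι) ⟨z, hz⟩ = (W'.ι ≫ f) ⟨z, hz⟩ := by rw [hfac]
    exact h1.trans hzy⟩
  haveI : DCoh.HasLpull fU := hasLpull _
  obtain ⟨e₁⟩ := nonempty_rD_lpull_iso f W'.ι V.ι fU hfac E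
  have hpc : DCoh.IsPseudoCoherentD m ((DCoh.Lpull fU).obj ((rD V.ι).obj E)) :=
    isPseudoCoherentD_of_iso e₁ m (isPseudoCoherentD_rD W'.ι m _ h)
  have hz : ∀ j : ℤ, b < j → IsZero (DCoh.HD ((rD V.ι).obj E) j) := fun j hj => by
    apply isZero_of_isZero_pullback fU
    obtain ⟨e'⟩ := nonempty_HD_lpull_iso fU ((rD V.ι).obj E) j
    refine IsZero.of_iso ?_ e'.symm
    exact IsZero.of_iso (hb j hj)
      ((homologyFunctor (W' : Scheme.{u}).Modules j).mapIso e₁.symm ≪≫
        (mapDerivedCategoryHomologyIso (Scheme.Modules.restrictFunctor W'.ι) j).app _)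
  have hfin := descend_aux m (b + 1 - m).toNat fU ((rD V.ι).obj E)
    (fun j hj => hz j (by omega)) hpc
  exact locPCoh_of_isPseudoCoherentD_rD V.ι m E ⟨f x', hxV⟩ hfin

end Groth.Agent.Lib.T2H2.FppfPCoh
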