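import Mathlib
import Groth.Agent.Lib.T2H2QFCover

/-!
# fppf sheaves are Zariski sheaves satisfying descent for quasi-finite flat affine covers

Every fppf covering of an affine scheme is refined by a finite family of affine schemes which are
flat, locally of finite presentation and locally quasi-finite over the base
(`exists_refinement`, using `QFCover.exists_lqf_flat_slice`).  Hence a Zariski sheaf which satisfies
the sheaf condition for single flat, surjective, lfp, locally quasi-finite morphisms of affine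
schemes is an fppf sheaf.
-/

open CategoryTheory AlgebraicGeometry Limits
universe w u

namespace Groth.Agent.Lib.T2H2.FppfSheaf

open Scheme Groth.Agent.Lib.T2H2.QFCover

theorem fwd (F : Scheme.{u}ᵒᵖ ⥤ Type w) (hF : Presieve.IsSheaf Scheme.fppfTopology F) :
    Presieve.IsSheaf Scheme.zariskiTopology F ∧
        ∀ (T S : Scheme.{u}) [IsAffine T] [IsAffine S] (f : T ⟶ S)
          [Flat f] [Surjective f] [LocallyOfFinitePresentation f] [LocallyQuasiFinite f],
          Presieve.IsSheafFor F (Presieve.singleton f) := by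
  refine ⟨Presieve.isSheaf_of_le _
    (Precoverage.toGrothendieck_mono zariskiPrecoverage_le_fppfPrecoverage) hF, ?_⟩
  intro T S _ _ f _ _ _ _
  rw [Presieve.isSheafFor_iff_generate]
  exact hF _ (Precoverage.generate_mem_toGrothendieck f.singleton_mem_fppfPrecoverage)

theorem reduce_affine (F : Scheme.{u}ᵒᵖ ⥤ Type w)
    (hzar : Presieve.IsSheaf Scheme.zariskiTopology F)
    (H : ∀ (R : CommRingCat.{u}) (𝒰 : Scheme.Cover.{u} fppfPrecoverage (Spec R)),
      Presieve.IsSheafFor F 𝒰.presieve₀) :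
    Presieve.IsSheaf Scheme.fppfTopology F := by
  have : Precoverage.Small.{u} fppfPrecoverage.{u} :=
    inferInstanceAs (Precoverage.Small.{u} (precoverage (@Flat ⊓ @LocallyOfFinitePresentation)))
  rw [Precoverage.isSheaf_toGrothendieck_iff_of_isStableUnderBaseChange_of_small.{u}]
  intro T (𝒰 : Scheme.Cover _ _)
  wlog hT : ∃ (R : CommRingCat.{u}), T = Spec R generalizing T
  · refine T.affineOneHypercover.isSheafFor_of_pullback hzar ?_ ?_
    · intro i
      rw [← Sieve.pullbackArrows_comm, ← Presieve.ofArrows_pullback,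
        ← Presieve.isSheafFor_iff_generate]
      exact this (𝒰.pullback₂ (T.affineCover.f i)) ⟨_, rfl⟩
    · intro i j k
      rw [← Sieve.pullbackArrows_comm, ← Presieve.isSeparatedFor_iff_generate]
      apply Presieve.IsSheafFor.isSeparatedFor
      rw [← Presieve.ofArrows_pullback]
      exact this (𝒰.pullback₂ _) ⟨_, rfl⟩
  obtain ⟨R, rfl⟩ := hT
  exact H R 𝒰

theorem isSheafFor_of_finite_affine (F : Scheme.{u}ᵒᵖ ⥤ Type w)
    (hzar : Presieve.IsSheaf Scheme.zariskiTopology F)
    (hff : ∀ (T S : Scheme.{u}) [IsAffine T] [IsAffine S] (f : T ⟶ S)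
          [Flat f] [Surjective f] [LocallyOfFinitePresentation f] [LocallyQuasiFinite f],
          Presieve.IsSheafFor F (Presieve.singleton f))
    {S : Scheme.{u}} [IsAffine S]
    (𝒰 : Scheme.Cover.{u} (precoverage (@Flat ⊓ @LocallyOfFinitePresentation)) S)
    [Finite 𝒰.I₀] (h1 : ∀ j, IsAffine (𝒰.X j)) (h2 : ∀ j, LocallyQuasiFinite (𝒰.f j)) :
    Presieve.IsSheafFor F (.ofArrows 𝒰.X 𝒰.f) := by
  rw [← Scheme.Cover.isSheafFor_sigma_iff hzar, Presieve.ofArrows_of_unique]
  have : IsAffine (𝒰.sigma.X default) := by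
    change IsAffine (∐ 𝒰.X)
    infer_instance
  have : Flat (𝒰.sigma.f default) := (𝒰.sigma.map_prop _).1
  have : LocallyOfFinitePresentation (𝒰.sigma.f default) := (𝒰.sigma.map_prop _).2
  have : Surjective (𝒰.sigma.f default) := by
    change Surjective (Sigma.desc 𝒰.f)
    infer_instance
  have : LocallyQuasiFinite (𝒰.sigma.f default) := by
    change LocallyQuasiFinite (Sigma.desc 𝒰.f)
    rw [IsZariskiLocalAtSource.iff_of_openCover (P := @LocallyQuasiFinite) (sigmaOpenCover 𝒰.X)]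
    intro i
    have e : (sigmaOpenCover 𝒰.X).f i ≫ Sigma.desc 𝒰.f = 𝒰.f i :=
      Sigma.ι_desc 𝒰.f i
    rw [e]
    exact h2 i
  exact hff _ _ _

theorem exists_refinement {R : CommRingCat.{u}}
    (𝒰 : Scheme.Cover.{u} (precoverage (@Flat ⊓ @LocallyOfFinitePresentation)) (Spec R)) :
    ∃ (𝒱 : Scheme.Cover.{u} (precoverage (@Flat ⊓ @LocallyOfFinitePresentation)) (Spec R))
      (_ : 𝒱.toPreZeroHypercover.Hom 𝒰.toPreZeroHypercover),
      Finite 𝒱.I₀ ∧ (∀ j, IsAffine (𝒱.X j)) ∧ ∀ j, LocallyQuasiFinite (𝒱.f j) := by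
  have h1 : ∀ s : Spec R, ∃ (i : 𝒰.I₀) (Z : Scheme.{u}) (g : Z ⟶ 𝒰.X i), IsAffine Z ∧
      Flat (g ≫ 𝒰.f i) ∧ LocallyOfFinitePresentation (g ≫ 𝒰.f i) ∧
      LocallyQuasiFinite (g ≫ 𝒰.f i) ∧ s ∈ Set.range ⇑(g ≫ 𝒰.f i) := by
    intro s
    obtain ⟨i, y, hy⟩ := 𝒰.exists_eq s
    have : Flat (𝒰.f i) := (𝒰.map_prop i).1
    have : LocallyOfFinitePresentation (𝒰.f i) := (𝒰.map_prop i).2
    obtain ⟨Z, g, h⟩ := exists_lqf_flat_slice (𝒰.f i) s ⟨y, hy⟩
    exact ⟨i, Z, g, h⟩
  choose i Z g hZ hfl hfp hqf hs using h1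
  have hopen : ∀ s, IsOpen (Set.range ⇑(g s ≫ 𝒰.f (i s))) := fun s =>
    (g s ≫ 𝒰.f (i s)).isOpenMap.isOpen_range
  obtain ⟨t, ht⟩ := isCompact_univ.elim_finite_subcover _ hopen
    (fun s _ => Set.mem_iUnion.2 ⟨s, hs s⟩)
  refine ⟨Cover.mkOfCovers t (fun s => Z s) (fun s => g s ≫ 𝒰.f (i s)) ?_ ?_,
    ⟨fun (s : t) => i s, fun (s : t) => g s, fun (s : t) => rfl⟩, ?_, ?_, ?_⟩
  · intro x
    obtain ⟨s, hs', hx⟩ := Set.mem_iUnion₂.1 (ht (Set.mem_univ x))
    obtain ⟨y, hy⟩ := hx
    exact ⟨⟨s, hs'⟩, y, hy⟩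
  · intro s
    exact ⟨hfl s, hfp s⟩
  · exact Finite.of_fintype t
  · intro (s : t)
    exact hZ s
  · intro (s : t)
    exact hqf s

theorem isSheafFor_affine (F : Scheme.{u}ᵒᵖ ⥤ Type w)
    (hzar : Presieve.IsSheaf Scheme.zariskiTopology F)
    (hff : ∀ (T S : Scheme.{u}) [IsAffine T] [IsAffine S] (f : T ⟶ S)
          [Flat f] [Surjective f] [LocallyOfFinitePresentation f] [LocallyQuasiFinite f],
          Presieve.IsSheafFor F (Presieve.singleton f))
    (R : CommRingCat.{u})
    (𝒰 : Scheme.Cover.{u} (precoverage (@Flat ⊓ @LocallyOfFinitePresentation)) (Spec R)) :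
    Presieve.IsSheafFor F (.ofArrows 𝒰.X 𝒰.f) := by
  obtain ⟨𝒱, f, hfin, haff, hqf⟩ := exists_refinement 𝒰
  have H (V : Scheme.{u}) (g : V ⟶ Spec R) : Presieve.IsSheafFor F
      (.ofArrows (𝒱.pullback₂ g).X (𝒱.pullback₂ g).f) := by
    refine V.affineOneHypercover.isSheafFor_of_pullback hzar (fun i ↦ ?_) (fun i j k ↦ ?_)
    · rw [← Sieve.pullbackArrows_comm, ← Presieve.ofArrows_pullback,
        ← Presieve.isSheafFor_iff_generate]
      let 𝒰' := (𝒱.pullback₂ g).pullback₂ (V.affineCover.f i)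
      have : IsAffine (V.affineCover.X i) := inferInstanceAs (IsAffine (Spec _))
      have : Finite 𝒰'.I₀ := hfin
      refine isSheafFor_of_finite_affine F hzar hff 𝒰' ?_ ?_
      · intro l
        exact .of_isIso (pullbackLeftPullbackSndIso (𝒱.f l) g (V.affineCover.f i)).hom
      · intro l
        change LocallyQuasiFinite (pullback.snd _ _)
        have : LocallyQuasiFinite (pullback.snd (𝒱.f l) g) :=
          MorphismProperty.pullback_snd (P := @LocallyQuasiFinite) _ _ (hqf l)
        exact MorphismProperty.pullback_snd (P := @LocallyQuasiFinite) _ _ this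
    · rw [← Sieve.pullbackArrows_comm, ← Presieve.ofArrows_pullback,
        ← Presieve.isSeparatedFor_iff_generate]
      let 𝒰' := (𝒱.pullback₂ g).pullback₂ (V.affineOneHypercover.p₁ k ≫ V.affineOneHypercover.f i)
      have : Finite 𝒰'.I₀ := hfin
      have : IsAffine (V.affineOneHypercover.Y k) := inferInstanceAs (IsAffine (Spec _))
      refine (isSheafFor_of_finite_affine F hzar hff 𝒰' ?_ ?_).isSeparatedFor
      · intro l
        exact .of_isIso (pullbackLeftPullbackSndIso (𝒱.f l) g _).hom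
      · intro l
        change LocallyQuasiFinite (pullback.snd _ _)
        have : LocallyQuasiFinite (pullback.snd (𝒱.f l) g) :=
          MorphismProperty.pullback_snd (P := @LocallyQuasiFinite) _ _ (hqf l)
        exact MorphismProperty.pullback_snd (P := @LocallyQuasiFinite) _ _ this
  exact Precoverage.ZeroHypercover.Hom.isSheafFor_iff f
    (isSheafFor_of_finite_affine F hzar hff 𝒱 haff hqf) (fun g => (H _ g).isSeparatedFor)

theorem isSheaf_fppf_iff (F : Scheme.{u}ᵒᵖ ⥤ Type w) :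
    Presieve.IsSheaf Scheme.fppfTopology F ↔
      Presieve.IsSheaf Scheme.zariskiTopology F ∧
        ∀ (T S : Scheme.{u}) [IsAffine T] [IsAffine S] (f : T ⟶ S)
          [Flat f] [Surjective f] [LocallyOfFinitePresentation f] [LocallyQuasiFinite f],
          Presieve.IsSheafFor F (Presieve.singleton f) := by
  refine ⟨fwd F, fun ⟨hzar, hff⟩ => reduce_affine F hzar fun R 𝒰 => ?_⟩
  exact isSheafFor_affine F hzar hff R 𝒰

end Groth.Agent.Lib.T2H2.FppfSheaf
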