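import Mathlib
import Groth.Agent.Lib.T2H2FppfFTC

/-!
# fpqc descent of finite type for arbitrary modules (T2H2)

If `f : X' ⟶ X` is flat, surjective and quasi-compact and `f^* M` is of finite type, then `M` is
of finite type (no quasi-coherence assumption).  The open-map argument of the fppf case is
replaced by the fact that `f` is a quotient map.
-/

set_option autoImplicit false
set_option linter.style.haveILetI false
set_option linter.unusedSectionVars false
universe u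
open CategoryTheory CategoryTheory.Limits AlgebraicGeometry TopologicalSpace Opposite

namespace Groth.Agent.Lib.T2H2.FpqcFT

open Groth.Agent.Lib.Helper1.PT Groth.Agent.Lib.Helper1.Sky Groth.Agent.Lib.Helper1.StalkTensor
open Groth.Agent.Lib.Helper6 Groth.Agent.Lib.T2H2.FppfFT

variable {X : Scheme.{u}} (M : X.Modules)

/-- spreading out: if the germ of `s` at `y` lies in the span of the germs of a finite family `t`,
the same holds at all points of a neighbourhood of `y` -/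
theorem exists_nhd_gm_mem_span (V : X.Opens) {T : Type u} [Finite T]
    (t : T → (toPM M).obj (op V)) (s : (toPM M).obj (op V)) (y : X) (hy : y ∈ V)
    (h : gm (toPM M) y V hy s ∈ Submodule.span (Groth.Agent.Lib.Helper1.Sky.Ox y)
      (Set.range fun τ => gm (toPM M) y V hy (t τ))) :
    ∃ (V' : X.Opens) (_ : y ∈ V') (hV' : V' ≤ V), ∀ (z : X) (hz : z ∈ V'),
      gm (toPM M) z V (hV' hz) s ∈ Submodule.span (Groth.Agent.Lib.Helper1.Sky.Ox z)
        (Set.range fun τ => gm (toPM M) z V (hV' hz) (t τ)) := by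
  classical
  haveI := Fintype.ofFinite T
  obtain ⟨c, hc⟩ := (Submodule.mem_span_range_iff_exists_fun _).1 h
  have hrep := fun τ => exists_gr_eq (R := X.presheaf) (x := y) (c τ)
  choose U hU α hα using hrep
  let U₁ : X.Opens := ⟨(⋂ τ, (U τ : Set X)) ∩ V,
    (isOpen_iInter_of_finite fun τ => (U τ).isOpen).inter V.isOpen⟩
  have hyU₁ : y ∈ U₁ := ⟨Set.mem_iInter.2 hU, hy⟩
  have hU₁V : U₁ ≤ V := fun z hz => hz.2
  have hU₁U : ∀ τ, U₁ ≤ U τ := fun τ z hz => Set.mem_iInter.1 hz.1 τ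
  let s₁ : (toPM M).obj (op U₁) :=
    ∑ τ, rr X.presheaf (homOfLE (hU₁U τ)) (α τ) • rs (toPM M) (homOfLE hU₁V) (t τ)
  have h1 : gm (toPM M) y U₁ hyU₁ s₁ = gm (toPM M) y U₁ hyU₁ (rs (toPM M) (homOfLE hU₁V) s) := by
    rw [gm_rs, ← hc, map_sum]
    refine Finset.sum_congr rfl fun τ _ => ?_
    rw [gm_smul, gr_rr, gm_rs, hα]
  obtain ⟨W, hyW, iU, iV, hW⟩ := gm_eq hyU₁ hyU₁ _ _ h1
  refine ⟨W, hyW, iU.le.trans hU₁V, fun z hz => ?_⟩
  have h2 : gm (toPM M) z V ((iU.le.trans hU₁V) hz) s =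
      gm (toPM M) z W hz (rs (toPM M) iV (rs (toPM M) (homOfLE hU₁V) s)) := by
    rw [gm_rs, gm_rs]
  rw [h2, ← hW, map_sum, map_sum]
  refine Submodule.sum_mem _ fun τ _ => ?_
  rw [rs_smul, gm_smul, gm_rs, gm_rs]
  exact Submodule.smul_mem _ _ (Submodule.subset_span ⟨τ, rfl⟩)

/-- **fpqc descent of finite type** for arbitrary `O`-modules: if `f` is flat, surjective and
quasi-compact and `f^* M` is of finite type, then `M` is of finite type -/
theorem isFT_of_isFT_pullback_fpqc {X' : Scheme.{u}} (f : X' ⟶ X) [Flat f] [Surjective f]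
    [QuasiCompact f] (hM : CohB1.IsFT ((Scheme.Modules.pullback f).obj M)) : CohB1.IsFT M := by
  apply Groth.Agent.Lib.T2H8.PCohFT.isFT_of_locally
  intro x
  obtain ⟨x', rfl⟩ := f.surjective x
  obtain ⟨W, hxW, V, hWV, T, hT, t, ht⟩ := exists_generators_base f M hM x'
  haveI := hT
  let G : Set X := {y | ∃ hy : y ∈ V, Submodule.span (Groth.Agent.Lib.Helper1.Sky.Ox y)
    (Set.range fun τ => gm (toPM M) y V hy (t τ)) = ⊤}
  have hGV : G ⊆ V := fun y hy => hy.1
  have hGopen : IsOpen G := by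
    rw [← (Flat.isQuotientMap_of_surjective f).isOpen_preimage]
    rw [isOpen_iff_forall_mem_open]
    rintro z' ⟨hz'V, hz'⟩
    obtain ⟨Wz, hzWz, Vz, hWVz, Tz, hTz, tz, htz⟩ := exists_generators_base f M hM z'
    haveI := hTz
    let V₁ : X.Opens := V ⊓ Vz
    have hzV₁ : f z' ∈ V₁ := ⟨hz'V, hWVz hzWz⟩
    let t₁ : T → (toPM M).obj (op V₁) := fun τ => rs (toPM M) (homOfLE inf_le_left) (t τ)
    have key : ∀ u : Tz, ∃ (V' : X.Opens) (_ : f z' ∈ V') (hV' : V' ≤ V₁),
        ∀ (z : X) (hz : z ∈ V'), gm (toPM M) z Vz ((hV' hz).2) (tz u) ∈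
          Submodule.span (Groth.Agent.Lib.Helper1.Sky.Ox z)
            (Set.range fun τ => gm (toPM M) z V ((hV' hz).1) (t τ)) := by
      intro u
      have h0 : gm (toPM M) (f z') V₁ hzV₁ (rs (toPM M) (homOfLE inf_le_right) (tz u)) ∈
          Submodule.span (Groth.Agent.Lib.Helper1.Sky.Ox (f z'))
            (Set.range fun τ => gm (toPM M) (f z') V₁ hzV₁ (t₁ τ)) := by
        have e : (fun τ => gm (toPM M) (f z') V₁ hzV₁ (t₁ τ)) =
            fun τ => gm (toPM M) (f z') V hz'V (t τ) := by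
          funext τ
          exact gm_rs _ _ _
        rw [e, hz']
        trivial
      obtain ⟨V', hV'z, hV', H⟩ := exists_nhd_gm_mem_span M V₁ t₁ _ (f z') hzV₁ h0
      refine ⟨V', hV'z, hV', fun z hz => ?_⟩
      have h1 := H z hz
      rw [gm_rs] at h1
      have e : (fun τ => gm (toPM M) z V₁ (hV' hz) (t₁ τ)) =
          fun τ => gm (toPM M) z V (hV' hz).1 (t τ) := by
        funext τ
        exact gm_rs _ _ _
      rwa [e] at h1
    choose V' hV'z hV' H using key
    let V'' : X.Opens := ⟨(⋂ u, (V' u : Set X)) ∩ V₁,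
      (isOpen_iInter_of_finite fun u => (V' u).isOpen).inter V₁.isOpen⟩
    refine ⟨(Wz : Set X') ∩ f ⁻¹' (V'' : Set X), ?_,
      Wz.isOpen.inter (V''.isOpen.preimage f.continuous), ⟨hzWz, Set.mem_iInter.2 hV'z, hzV₁⟩⟩
    rintro y' ⟨hy'W, hy'V, hy'V₁⟩
    have hyu : ∀ u, f y' ∈ V' u := fun u => Set.mem_iInter.1 hy'V u
    refine ⟨hy'V₁.1, ?_⟩
    rw [eq_top_iff, ← htz y' hy'W, Submodule.span_le]
    rintro _ ⟨u, rfl⟩
    exact H u (f y') (hyu u)
  let V₂ : X.Opens := ⟨G, hGopen⟩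
  have hV : V₂ ≤ V := hGV
  have hx : f x' ∈ V₂ := ⟨hWV hxW, ht x' hxW⟩
  have hspan : ∀ (z : X) (hz : z ∈ V₂), Submodule.span (Groth.Agent.Lib.Helper1.Sky.Ox z)
      (Set.range fun τ => gm (toPM M) z V (hV hz) (t τ)) = ⊤ := fun z hz => hz.2
  refine ⟨↑V₂, V₂.ι, inferInstance, ⟨f x', hx⟩, rfl,
    { I := T
      s := fun τ => restrSection M V₂ V hV (t τ)
      epi := epi_free_restrSection M V₂ V hV t hspan }, ⟨hT⟩⟩

end Groth.Agent.Lib.T2H2.FpqcFT
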