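import Groth.Agent.Lib.T2H2FppfPCohD
import Groth.Agent.Lib.T2H2FpqcFT

/-!
# fpqc descent of pseudo-coherence for arbitrary objects of `D(O_X)` (T2H2)

Same descending induction as in the fppf case (`T2H2FppfPCohC/D`), with the fpqc descent of finite
type `T2H2FpqcFT` and boundedness obtained from quasi-compactness.
-/

set_option autoImplicit false
set_option linter.style.haveILetI false
universe u
open CategoryTheory CategoryTheory.Limits CategoryTheory.Pretriangulated AlgebraicGeometry Opposite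

attribute [local instance] HasDerivedCategory.standard

namespace Groth.Agent.Lib.T2H2.FpqcGen

open Groth.Agent.Lib.T2H8.SchLocHtpy Groth.Agent.Lib.T2H8.PerfLocal
  Groth.Agent.Lib.T2H8.PCohTriangle Groth.Agent.Lib.T2H2.PCohTrunc Groth.Agent.Lib.T2H2.AffRed
  Groth.Agent.Lib.T2H2.FpqcPCoh Groth.Agent.Lib.Helper1.Sky DerivedCategory
  Groth.Agent.Lib.T2H2.FppfPCoh Groth.Agent.Lib.T2H1.FlatAmpDescend

/-- the inductive step of the fpqc descent of pseudo-coherence -/
theorem locPCoh_step_fpqc {X' X : Scheme.{u}} (f : X' ⟶ X) [Flat f] [Surjective f]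
    [QuasiCompact f] [DCoh.HasLpull f] (m i : ℤ) (hmi : m ≤ i)
    (IH : ∀ {Z' Z : Scheme.{u}} (g : Z' ⟶ Z) [Flat g] [Surjective g]
      [QuasiCompact g] [DCoh.HasLpull g] (C : DCoh.D Z),
      (∀ j : ℤ, i ≤ j → IsZero (DCoh.HD C j)) →
      DCoh.IsPseudoCoherentD m ((DCoh.Lpull g).obj C) → DCoh.IsPseudoCoherentD m C)
    (E : DCoh.D X) (hE : ∀ j : ℤ, i < j → IsZero (DCoh.HD E j))
    (h : DCoh.IsPseudoCoherentD m ((DCoh.Lpull f).obj E)) (x : X) : LocPCoh m E x := by
  -- Step 1: `H^i(E)` is of finite type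
  have hFT : CohB1.IsFT (DCoh.HD E i) := by
    apply Groth.Agent.Lib.T2H2.FpqcFT.isFT_of_isFT_pullback_fpqc (DCoh.HD E i) f
    obtain ⟨e⟩ := nonempty_HD_lpull_iso f E i
    have h1 : CohB1.IsFT (DCoh.HD ((DCoh.Lpull f).obj E) i) :=
      (Groth.Agent.Lib.T2H8.PCohFT.main_S0890 i _ (isPseudoCoherentD_mono _ hmi h)).1
        (fun j hj => by
          obtain ⟨e'⟩ := nonempty_HD_lpull_iso f E j
          exact IsZero.of_iso ((Scheme.Modules.pullback f).map_isZero (hE j hj)) e')
    haveI : SheafOfModules.IsFiniteType (R := X'.ringCatSheaf)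
      (DCoh.HD ((DCoh.Lpull f).obj E) i) := h1
    exact Groth.Agent.Lib.Helper23.FinType.isFiniteType_of_iso e
  -- Step 2: a local epimorphism from a finite locally free module
  obtain ⟨V, P, π, hxV, hP, hπ⟩ :=
    Groth.Agent.Lib.T2H8.PCohSingle.exists_epi_of_isFT (DCoh.HD E i) hFT x
  let KV : DCoh.D (V : Scheme.{u}) := (rD V.ι).obj E
  let κ : ∀ j : ℤ, DCoh.HD KV j ≅ (Scheme.Modules.restrictFunctor V.ι).obj (DCoh.HD E j) :=
    fun j => (mapDerivedCategoryHomologyIso (Scheme.Modules.restrictFunctor V.ι) j).app E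
  have hKV : ∀ j : ℤ, i < j → IsZero (DCoh.HD KV j) := fun j hj =>
    IsZero.of_iso ((Scheme.Modules.restrictFunctor V.ι).map_isZero (hE j hj)) (κ j)
  haveI : Epi (π ≫ (κ i).inv) := epi_comp _ _
  -- Step 3: kill the top cohomology locally
  obtain ⟨W, S, α, hyW, hS, hSX, hα⟩ :=
    exists_local_approx_top KV i hKV P hP (π ≫ (κ i).inv) ⟨x, hxV⟩
  obtain ⟨C, β, δ, hT⟩ := Pretriangulated.distinguished_cocone_triangle α
  have hC : ∀ j : ℤ, i ≤ j → IsZero (DCoh.HD C j) := fun j hj => by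
    refine isZero_homology_obj₃ (Triangle.mk α β δ) hT j ?_ ?_
    · rcases hj.lt_or_eq with h' | h'
      · have hz : IsZero ((homologyFunctor (W : Scheme.{u}).Modules j).obj ((rD W.ι).obj KV)) :=
          IsZero.of_iso ((Scheme.Modules.restrictFunctor W.ι).map_isZero (hKV j h'))
            ((mapDerivedCategoryHomologyIso (Scheme.Modules.restrictFunctor W.ι) j).app KV)
        exact ⟨fun _ _ _ => hz.eq_of_src _ _⟩
      · subst h'
        exact hα
    · refine IsZero.of_iso ?_ ((homologyFunctorFactors (W : Scheme.{u}).Modules (j + 1)).app S)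
      exact (HomologicalComplex.exactAt_iff_isZero_homology _ _).1
        (ShortComplex.exact_of_isZero_X₂ _ (hSX (j + 1) (by omega)))
  -- Step 4: base change to `W`
  let jW : (W : Scheme.{u}) ⟶ X := W.ι ≫ V.ι
  let g := pullback.snd f jW
  let k := pullback.fst f jW
  haveI : Surjective g := MorphismProperty.pullback_snd (P := @Surjective) f jW inferInstance
  haveI : DCoh.HasLpull g := hasLpull _
  haveI := Groth.Agent.Lib.T2H5.FlatPullback.preservesFiniteLimits_pullback g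
  have hg : g ≫ jW = k ≫ f := pullback.condition.symm
  obtain ⟨e₁⟩ := nonempty_rD_lpull_iso f k jW g hg E
  let e₂ : (rD W.ι).obj KV ≅ (rD jW).obj E := (rDComp W.ι V.ι jW rfl).app E
  have h2 : DCoh.IsPseudoCoherentD m ((DCoh.Lpull g).obj ((rD W.ι).obj KV)) :=
    isPseudoCoherentD_of_iso (e₁ ≪≫ (DCoh.Lpull g).mapIso e₂.symm) m
      (isPseudoCoherentD_rD k m _ h)
  let G := (Scheme.Modules.pullback g).mapDerivedCategory
  have hGT : G.mapTriangle.obj (Triangle.mk α β δ) ∈ distTriang _ := G.map_distinguished _ hT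
  obtain ⟨a₁⟩ := nonempty_lpull_iso_mapD g (Q.obj S)
  obtain ⟨a₂⟩ := nonempty_lpull_iso_mapD g ((rD W.ι).obj KV)
  obtain ⟨a₃⟩ := nonempty_lpull_iso_mapD g C
  have h1' : DCoh.IsPseudoCoherentD (m + 1) (G.obj (Q.obj S)) :=
    isPseudoCoherentD_of_iso a₁ (m + 1)
      (isPseudoCoherentD_lpull g (m + 1) _ (isPseudoCoherentD_Q_obj S hS (m + 1)))
  have h2' : DCoh.IsPseudoCoherentD m (G.obj ((rD W.ι).obj KV)) :=
    isPseudoCoherentD_of_iso a₂ m h2
  have h3' : DCoh.IsPseudoCoherentD m (G.obj C) := (main_S0889 m _ hGT).1 h1' h2'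
  have h3 : DCoh.IsPseudoCoherentD m ((DCoh.Lpull g).obj C) :=
    isPseudoCoherentD_of_iso a₃.symm m h3'
  have hCpc : DCoh.IsPseudoCoherentD m C := IH g C hC h3
  have hKW : DCoh.IsPseudoCoherentD m ((rD W.ι).obj KV) :=
    (main_S0889 m _ hT).2.1 (isPseudoCoherentD_Q_obj S hS m) hCpc
  exact locPCoh_of_isPseudoCoherentD_rD jW m E ⟨⟨x, hxV⟩, hyW⟩
    (isPseudoCoherentD_of_iso e₂ m hKW)

/-- descent for objects bounded above, by induction on the bound -/
theorem descend_aux_fpqc (m : ℤ) : ∀ (n : ℕ) {X' X : Scheme.{u}} (f : X' ⟶ X) [Flat f]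
    [Surjective f] [QuasiCompact f] [DCoh.HasLpull f] (E : DCoh.D X),
    (∀ j : ℤ, m + n ≤ j → IsZero (DCoh.HD E j)) →
    DCoh.IsPseudoCoherentD m ((DCoh.Lpull f).obj E) → DCoh.IsPseudoCoherentD m E := by
  intro n
  induction n with
  | zero =>
    intro X' X f _ _ _ _ E hE _
    haveI : E.IsLE (m - 1) :=
      (DerivedCategory.isLE_iff E (m - 1)).2 (fun j hj => hE j (by push_cast; omega))
    exact isPseudoCoherentD_of_isLE E m
  | succ n ih =>
    intro X' X f _ _ _ _ E hE h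
    rw [isPseudoCoherentD_iff]
    intro x
    exact locPCoh_step_fpqc f m (m + n) (by omega) (fun g _ _ _ _ C hC hpc => ih g C hC hpc) E
      (fun j hj => hE j (by push_cast; omega)) h x

/-- **fpqc descent of pseudo-coherence** for arbitrary objects of `D(O_X)` -/
theorem isPseudoCoherentD_of_lpull_fpqc {X' X : Scheme.{u}} (f : X' ⟶ X) [Flat f] [Surjective f]
    [QuasiCompact f] [DCoh.HasLpull f] (E : DCoh.D X) (m : ℤ)
    (h : DCoh.IsPseudoCoherentD m ((DCoh.Lpull f).obj E)) : DCoh.IsPseudoCoherentD m E := by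
  rw [isPseudoCoherentD_iff]
  intro x
  obtain ⟨V, hV, hxV, -⟩ := exists_isAffineOpen_mem_and_subset (x := x) (U := ⊤) trivial
  let g := pullback.snd f V.ι
  let k := pullback.fst f V.ι
  haveI : Surjective g := MorphismProperty.pullback_snd (P := @Surjective) f V.ι inferInstance
  haveI : QuasiCompact g := MorphismProperty.pullback_snd (P := @QuasiCompact) f V.ι inferInstance
  haveI : DCoh.HasLpull g := hasLpull _
  haveI : CompactSpace (V : Scheme.{u}) := isCompact_iff_compactSpace.1 hV.isCompact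
  haveI : CompactSpace (pullback f V.ι : Scheme.{u}) := QuasiCompact.compactSpace_of_compactSpace g
  have hg : g ≫ V.ι = k ≫ f := pullback.condition.symm
  obtain ⟨e₁⟩ := nonempty_rD_lpull_iso f k V.ι g hg E
  have hpc : DCoh.IsPseudoCoherentD m ((DCoh.Lpull g).obj ((rD V.ι).obj E)) :=
    isPseudoCoherentD_of_iso e₁ m (isPseudoCoherentD_rD k m _ h)
  obtain ⟨b, hb⟩ := Groth.Agent.Lib.T2H8.PCohBdd.exists_bound_of_isPseudoCoherentD m _ hpc
  have hz : ∀ j : ℤ, b < j → IsZero (DCoh.HD ((rD V.ι).obj E) j) := fun j hj => by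
    apply isZero_of_isZero_pullback g
    obtain ⟨e'⟩ := nonempty_HD_lpull_iso g ((rD V.ι).obj E) j
    exact IsZero.of_iso (hb j hj) e'.symm
  have hfin := descend_aux_fpqc m (b + 1 - m).toNat g ((rD V.ι).obj E)
    (fun j hj => hz j (by omega)) hpc
  exact locPCoh_of_isPseudoCoherentD_rD V.ι m E ⟨x, hxV⟩ hfin

end Groth.Agent.Lib.T2H2.FpqcGen
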