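import Groth.Agent.Lib.T2H2FpqcGenA
import Groth.Agent.Lib.T2H2AffRedC
import Groth.Agent.Lib.T2H1FlatAmpDescend
set_option backward.isDefEq.respectTransparency.types false

/-!
# fpqc descent of perfectness for arbitrary objects of `D(O_X)` (T2H2)

* `hasTorAmplitudeIn_of_family`: tor amplitude descends along a jointly surjective family of flat
  morphisms.
* `isPerfect_of_lpull_fpqc`: if `f` is flat, surjective and quasi-compact and `Lf^* E` is perfect,
  then `E` is perfect.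
-/

set_option autoImplicit false
set_option linter.style.haveILetI false
universe u
open CategoryTheory CategoryTheory.Limits CategoryTheory.Pretriangulated AlgebraicGeometry Opposite
  HomologicalComplex

attribute [local instance] HasDerivedCategory.standard

namespace Groth.Agent.Lib.T2H2.FpqcGen

open Groth.Agent.Lib.Helper1.BKF Groth.Agent.Lib.Helper1.CI Groth.Agent.Lib.Helper1.Sky
  Groth.Agent.Lib.Helper1.KBC Groth.Agent.Lib.Helper1.StalkTensor Groth.Agent.Lib.Helper1.PT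
  Groth.Agent.Lib.T2H1.TorAmpQCoh Groth.Agent.Lib.T2H1.FlatAmpDescend

section Family

variable {Y : Scheme.{u}} {K : Type*} (W : K → Scheme.{u}) (g : ∀ k, W k ⟶ Y) [∀ k, Flat (g k)]
  (hsurj : ∀ y : Y, ∃ (k : K) (w : W k), g k w = y)

include hsurj in
/-- pullback along a jointly surjective family of flat morphisms reflects zero objects -/
theorem isZero_of_forall_isZero_pullback (M : Y.Modules)
    (h : ∀ k, IsZero ((Scheme.Modules.pullback (g k)).obj M)) : IsZero M := by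
  apply isZero_of_forall_isZero_stalk
  intro y
  obtain ⟨k, x, rfl⟩ := hsurj y
  have h1 : IsZero ((ModuleCat.extendScalars.{u, u, u} ((g k).stalkMap x).hom).obj
      ((stalkFun ((g k) x)).obj M)) :=
    IsZero.of_iso ((stalkFun x).map_isZero (h k)) ((stalkPullbackIso (g k) x).app M).symm
  exact isZero_of_isZero_extendScalars ((g k).stalkMap x).hom (Flat.stalkMap (g k) x) _ h1

include hsurj in
/-- tor amplitude (derived tensor form) descends along jointly surjective families of flat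
morphisms -/
theorem hasTorAmplitudeIn_of_family [∀ k, DCoh.HasLpull (g k)] (E : DCoh.D Y) (a b : ℤ)
    (h : ∀ k, DCoh.HasTorAmplitudeIn a b ((DCoh.Lpull (g k)).obj E)) :
    DCoh.HasTorAmplitudeIn a b E := by
  intro G _ i hi
  obtain ⟨P, hP, ⟨eK⟩⟩ := exists_kflat_rep E
  have key1 : DCoh.HD ((DCoh.LTensorMod G).obj E) i ≅ ((Ttw G).obj P).homology i :=
    (DerivedCategory.homologyFunctor Y.Modules i).mapIso ((DCoh.LTensorMod G).mapIso eK) ≪≫
      HDltmIso G P hP i
  refine IsZero.of_iso ?_ key1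
  refine isZero_of_forall_isZero_pullback W g hsurj _ (fun k => ?_)
  haveI := Groth.Agent.Lib.T2H5.FlatPullback.preservesFiniteLimits_pullback (g k)
  have e1 : (plb (g k)).obj (((Ttw G).obj P).homology i) ≅
      ((pullC (g k)).obj ((Ttw G).obj P)).homology i :=
    ((((Ttw G).obj P).sc i).mapHomologyIso (plb (g k))).symm
  refine IsZero.of_iso ?_ (e1 ≪≫
    (HomologicalComplex.homologyFunctor _ _ i).mapIso (pullTtwIso (g k) G P))
  have hfP : DCoh.IsKFlat ((pullC (g k)).obj P) := Groth.Agent.S0960.isKFlat_pullC (g k) P hP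
  haveI : DCoh.HasLTensorMod ((plb (g k)).obj G) := hasLTensorMod _
  have e2 : (DCoh.Lpull (g k)).obj E ≅ DCoh.toD (W k) ((pullC (g k)).obj P) :=
    (DCoh.Lpull (g k)).mapIso eK ≪≫ lpullIsoK (g k) P hP
  have h0 := h k ((plb (g k)).obj G) i hi
  exact IsZero.of_iso h0 ((HDltmIso ((plb (g k)).obj G) _ hfP i).symm ≪≫
    (DerivedCategory.homologyFunctor (W k).Modules i).mapIso
      ((DCoh.LTensorMod ((plb (g k)).obj G)).mapIso e2.symm))

end Family

section Main

open Groth.Agent.Lib.T2H8.SchLocHtpy Groth.Agent.Lib.T2H8.PerfLocal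
  Groth.Agent.Lib.T2H8.PCohTriangle Groth.Agent.Lib.T2H2.AffRed Groth.Agent.Lib.T2H2.FpqcPCoh
  DerivedCategory

lemma hasFlatAmplitudeIn_mono {X : Scheme.{u}} {K : DCoh.D X} {a b a' b' : ℤ} (ha : a' ≤ a)
    (hb : b ≤ b') (h : DCoh.HasFlatAmplitudeIn a b K) : DCoh.HasFlatAmplitudeIn a' b' K := by
  obtain ⟨E, hE, hfl, e⟩ := h
  exact ⟨E, fun i hi => hE i (by omega), hfl, e⟩

/-- **fpqc descent of perfectness** for arbitrary objects of `D(O_X)` -/
theorem isPerfect_of_lpull_fpqc {X' X : Scheme.{u}} (f : X' ⟶ X) [Flat f] [Surjective f]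
    [QuasiCompact f] [DCoh.HasLpull f] (E : DCoh.D X)
    (h : DCoh.IsPerfect ((DCoh.Lpull f).obj E)) : DCoh.IsPerfect E := by
  have hpc : ∀ m : ℤ, DCoh.IsPseudoCoherentD m E := fun m =>
    isPseudoCoherentD_of_lpull_fpqc f E m (isPseudoCoherentD_of_isPerfect _ h m)
  refine isPerfect_of_pc_of_locHasFiniteTorDim E hpc ?_
  intro x
  obtain ⟨V, hV, hxV, -⟩ := exists_isAffineOpen_mem_and_subset (x := x) (U := ⊤) trivial
  have htd := locHasFiniteTorDim_of_isPerfect _ h
  let L := (DCoh.Lpull f).obj E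
  let F₀ := (Q : _ ⥤ DCoh.D X').objPreimage L
  let e₀ : Q.obj F₀ ≅ L := Q.objObjPreimageIso L
  choose Wx ax bx hxW H using htd
  have hfa : ∀ x' : X', DCoh.HasFlatAmplitudeIn (ax x') (bx x') ((rD (Wx x').ι).obj L) :=
    fun x' => hasFlatAmplitudeIn_of_iso
      (((Scheme.Modules.restrictFunctor (Wx x').ι).mapDerivedCategoryFactors.app F₀).symm ≪≫
        (rD (Wx x').ι).mapIso e₀) _ _ (H x' F₀ ⟨e₀⟩)
  have hc : IsCompact ((f ⁻¹ᵁ V : X'.Opens) : Set X') := f.isCompact_preimage hV.isCompact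
  obtain ⟨s, -, hs⟩ := hc.elim_nhds_subcover (fun x' => (Wx x' : Set X'))
    (fun x' _ => (Wx x').isOpen.mem_nhds (hxW x'))
  obtain ⟨B, hB⟩ := (s.image bx).exists_le
  obtain ⟨A', hA'⟩ := (s.image (fun x' => - ax x')).exists_le
  let A : ℤ := -A'
  have hA : ∀ k ∈ s, A ≤ ax k := fun k hk => by
    have h1 := hA' _ (Finset.mem_image_of_mem (fun x' => - ax x') hk)
    simp only [A]
    omega
  let a := min A B
  let b := max A B
  have hab : a ≤ b := le_trans (min_le_left _ _) (le_max_left _ _)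
  -- the family
  let Wk : s → X'.Opens := fun k => Wx k.1 ⊓ f ⁻¹ᵁ V
  have hr : ∀ k : s, Set.range ((Wk k).ι ≫ f) ⊆ Set.range V.ι := by
    intro k
    rw [Scheme.Opens.range_ι]
    rintro _ ⟨z, rfl⟩
    exact z.2.2
  let g : ∀ k : s, ((Wk k : X'.Opens) : Scheme.{u}) ⟶ (V : Scheme.{u}) := fun k =>
    IsOpenImmersion.lift V.ι ((Wk k).ι ≫ f) (hr k)
  have hfac : ∀ k, g k ≫ V.ι = (Wk k).ι ≫ f := fun k => IsOpenImmersion.lift_fac _ _ _
  haveI : ∀ k, Flat (g k) := fun k =>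
    MorphismProperty.of_postcomp (W := @Flat) (W' := @IsOpenImmersion) (g k) V.ι
      inferInstance (by rw [hfac]; infer_instance)
  haveI : ∀ k, DCoh.HasLpull (g k) := fun k => hasLpull _
  have hsurj : ∀ y : (V : Scheme.{u}),
      ∃ (k : s) (w : ((Wk k : X'.Opens) : Scheme.{u})), g k w = y := by
    intro y
    obtain ⟨x'', hx''⟩ := f.surjective y.1
    have hx''V : x'' ∈ f ⁻¹ᵁ V := by
      change f x'' ∈ V
      rw [hx'']
      exact y.2
    have h0 := hs hx''V
    simp only [Set.mem_iUnion] at h0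
    obtain ⟨k, hk, hxk⟩ := h0
    refine ⟨⟨k, hk⟩, ⟨x'', hxk, hx''V⟩, ?_⟩
    apply V.ι.isOpenEmbedding.injective
    have h1 : (g ⟨k, hk⟩ ≫ V.ι) ⟨x'', hxk, hx''V⟩ =
        ((Wk ⟨k, hk⟩).ι ≫ f) ⟨x'', hxk, hx''V⟩ := by rw [hfac]
    exact h1.trans hx''
  -- tor amplitude of the pullbacks
  have hta : ∀ k : s, DCoh.HasTorAmplitudeIn a b
      ((DCoh.Lpull (g k)).obj ((rD V.ι).obj E)) := by
    intro k
    obtain ⟨e₁⟩ := nonempty_rD_lpull_iso f (Wk k).ι V.ι (g k) (hfac k) E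
    let i : ((Wk k : X'.Opens) : Scheme.{u}) ⟶ ((Wx k.1 : X'.Opens) : Scheme.{u}) :=
      X'.homOfLE inf_le_left
    have hi : i ≫ (Wx k.1).ι = (Wk k).ι := X'.homOfLE_ι _
    have h1 : DCoh.HasFlatAmplitudeIn (ax k.1) (bx k.1) ((rD (Wk k).ι).obj L) :=
      hasFlatAmplitudeIn_of_iso ((rDComp i (Wx k.1).ι (Wk k).ι hi).app L) _ _
        (hasFlatAmplitudeIn_rD i _ _ _ (hfa k.1))
    have h2 : DCoh.HasFlatAmplitudeIn a b ((rD (Wk k).ι).obj L) :=
      hasFlatAmplitudeIn_mono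
        (le_trans (min_le_left _ _) (hA _ k.2))
        (le_trans (hB _ (Finset.mem_image_of_mem bx k.2)) (le_max_right _ _)) h1
    exact hasTorAmplitudeIn_of_hasFlatAmplitudeIn a b (hasFlatAmplitudeIn_of_iso e₁ a b h2)
  have hV' : DCoh.HasTorAmplitudeIn a b ((rD V.ι).obj E) :=
    hasTorAmplitudeIn_of_family _ g hsurj _ a b hta
  have hfaV : DCoh.HasFlatAmplitudeIn a b ((rD V.ι).obj E) :=
    hasFlatAmplitudeIn_of_hasTorAmplitudeIn _ a b hab (fun G => hasLTensorMod G) hV'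
  refine ⟨V, a, b, hxV, fun F' ⟨eF'⟩ => ?_⟩
  exact hasFlatAmplitudeIn_of_iso ((rD V.ι).mapIso eF'.symm ≪≫
    (Scheme.Modules.restrictFunctor V.ι).mapDerivedCategoryFactors.app F') a b hfaV

end Main

end Groth.Agent.Lib.T2H2.FpqcGen
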