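import Mathlib

/-!
# Index additivity for linear maps with finite-dimensional kernel and cokernel (helper2)
-/

set_option autoImplicit false
universe u

namespace Groth.Agent.Lib.T2H2.FredIndex

variable {F : Type*} [Field F] {X Y Z : Type*} [AddCommGroup X] [Module F X]
  [AddCommGroup Y] [Module F Y] [AddCommGroup Z] [Module F Z]

theorem mkQ_eq_zero_iff {W : Type*} [AddCommGroup W] [Module F W] (N : Submodule F W) (w : W) :
    N.mkQ w = 0 ↔ w ∈ N := by
  rw [Submodule.mkQ_apply, Submodule.Quotient.mk_eq_zero]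

/-- A linear map with finite-dimensional kernel and cokernel. -/
structure IsFred (φ : X →ₗ[F] Y) : Prop where
  ker : Module.Finite F (LinearMap.ker φ)
  coker : Module.Finite F (Y ⧸ LinearMap.range φ)

/-- Index data: `finrank ker + b = finrank coker + a` expresses `ind φ = a - b`. -/
def HasIndex (φ : X →ₗ[F] Y) (a b : ℕ) : Prop :=
  IsFred φ ∧ Module.finrank F (LinearMap.ker φ) + b = Module.finrank F (Y ⧸ LinearMap.range φ) + a

theorem hasIndex_comp (φ : X →ₗ[F] Y) (ψ : Y →ₗ[F] Z) (hφ : IsFred φ) (hψ : IsFred ψ) :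
    IsFred (ψ ∘ₗ φ) ∧
      Module.finrank F (LinearMap.ker (ψ ∘ₗ φ)) + Module.finrank F (Y ⧸ LinearMap.range φ) +
          Module.finrank F (Z ⧸ LinearMap.range ψ) =
        Module.finrank F (LinearMap.ker φ) + Module.finrank F (LinearMap.ker ψ) +
          Module.finrank F (Z ⧸ LinearMap.range (ψ ∘ₗ φ)) := by
  have := hφ.ker
  have := hφ.coker
  have := hψ.ker
  have := hψ.coker
  -- the map `ker (ψ φ) → ker ψ`
  let r : LinearMap.ker (ψ ∘ₗ φ) →ₗ[F] LinearMap.ker ψ :=
    (φ.comp (LinearMap.ker (ψ ∘ₗ φ)).subtype).codRestrict (LinearMap.ker ψ) (fun x => by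
      have := x.2
      rw [LinearMap.mem_ker, LinearMap.comp_apply] at this
      simpa [LinearMap.mem_ker] using this)
  have hr_apply : ∀ x, (r x : Y) = φ x.1 := fun x => rfl
  -- the map `ker ψ → Y / range φ`
  let s : LinearMap.ker ψ →ₗ[F] Y ⧸ LinearMap.range φ :=
    (LinearMap.range φ).mkQ.comp (LinearMap.ker ψ).subtype
  -- the map `Y / range φ → Z / range (ψ φ)`
  let t : (Y ⧸ LinearMap.range φ) →ₗ[F] Z ⧸ LinearMap.range (ψ ∘ₗ φ) :=
    (LinearMap.range φ).mapQ (LinearMap.range (ψ ∘ₗ φ)) ψ (by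
      rintro _ ⟨x, rfl⟩
      exact ⟨x, rfl⟩)
  have ht_apply : ∀ y, t ((LinearMap.range φ).mkQ y) = (LinearMap.range (ψ ∘ₗ φ)).mkQ (ψ y) :=
    fun y => rfl
  -- the map `Z / range (ψ φ) → Z / range ψ`
  let q : (Z ⧸ LinearMap.range (ψ ∘ₗ φ)) →ₗ[F] Z ⧸ LinearMap.range ψ :=
    (LinearMap.range (ψ ∘ₗ φ)).mapQ (LinearMap.range ψ) LinearMap.id (by
      rintro _ ⟨x, rfl⟩
      exact ⟨φ x, rfl⟩)
  have hq_apply : ∀ z, q ((LinearMap.range (ψ ∘ₗ φ)).mkQ z) = (LinearMap.range ψ).mkQ z :=
    fun z => rfl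
  -- exactness facts
  have hker_r : LinearMap.ker r = (LinearMap.ker φ).comap (LinearMap.ker (ψ ∘ₗ φ)).subtype := by
    ext x
    rw [LinearMap.mem_ker, Submodule.mem_comap, LinearMap.mem_ker, Submodule.subtype_apply,
      ← hr_apply, ← Submodule.coe_eq_zero]
  have hrs : LinearMap.range r = LinearMap.ker s := by
    ext y
    rw [LinearMap.mem_range, LinearMap.mem_ker]
    constructor
    · rintro ⟨x, rfl⟩
      simp only [s, LinearMap.comp_apply, Submodule.subtype_apply]
      rw [mkQ_eq_zero_iff, hr_apply]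
      exact ⟨x.1, rfl⟩
    · intro hy
      simp only [s, LinearMap.comp_apply, Submodule.subtype_apply] at hy
      rw [mkQ_eq_zero_iff] at hy
      obtain ⟨x, hx⟩ := hy
      have hxk : x ∈ LinearMap.ker (ψ ∘ₗ φ) := by
        rw [LinearMap.mem_ker, LinearMap.comp_apply, hx]
        exact y.2
      exact ⟨⟨x, hxk⟩, Subtype.ext hx⟩
  have hst : LinearMap.range s = LinearMap.ker t := by
    ext y
    obtain ⟨y, rfl⟩ := (LinearMap.range φ).mkQ_surjective y
    rw [LinearMap.mem_range, LinearMap.mem_ker, ht_apply, mkQ_eq_zero_iff]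
    constructor
    · rintro ⟨k, hk⟩
      simp only [s, LinearMap.comp_apply, Submodule.subtype_apply] at hk
      have h1 : (LinearMap.range φ).mkQ (k.1 - y) = 0 := by rw [map_sub, hk, sub_self]
      rw [mkQ_eq_zero_iff] at h1
      obtain ⟨x, hx⟩ := h1
      refine ⟨-x, ?_⟩
      have hk2 : ψ k.1 = 0 := k.2
      rw [LinearMap.comp_apply, map_neg, hx, map_neg, map_sub, hk2, zero_sub, neg_neg]
    · rintro ⟨x, hx⟩
      rw [LinearMap.comp_apply] at hx
      have hk : y - φ x ∈ LinearMap.ker ψ := by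
        rw [LinearMap.mem_ker, map_sub, hx, sub_self]
      refine ⟨⟨y - φ x, hk⟩, ?_⟩
      simp only [s, LinearMap.comp_apply, Submodule.subtype_apply, map_sub]
      have : (LinearMap.range φ).mkQ (φ x) = 0 := by
        rw [mkQ_eq_zero_iff]; exact ⟨x, rfl⟩
      rw [this, sub_zero]
  have htq : LinearMap.range t = LinearMap.ker q := by
    ext z
    obtain ⟨z, rfl⟩ := (LinearMap.range (ψ ∘ₗ φ)).mkQ_surjective z
    rw [LinearMap.mem_range, LinearMap.mem_ker, hq_apply, mkQ_eq_zero_iff]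
    constructor
    · rintro ⟨y, hy⟩
      obtain ⟨y, rfl⟩ := (LinearMap.range φ).mkQ_surjective y
      rw [ht_apply] at hy
      have h1 : (LinearMap.range (ψ ∘ₗ φ)).mkQ (ψ y - z) = 0 := by rw [map_sub, hy, sub_self]
      rw [mkQ_eq_zero_iff] at h1
      obtain ⟨x, hx⟩ := h1
      refine ⟨y - φ x, ?_⟩
      rw [map_sub]
      rw [LinearMap.comp_apply] at hx
      rw [hx]; abel
    · rintro ⟨y, rfl⟩
      exact ⟨(LinearMap.range φ).mkQ y, ht_apply y⟩
  have hq_surj : Function.Surjective q := by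
    intro z
    obtain ⟨z, rfl⟩ := (LinearMap.range ψ).mkQ_surjective z
    exact ⟨(LinearMap.range (ψ ∘ₗ φ)).mkQ z, hq_apply z⟩
  -- finiteness of ker (ψ φ)
  have e : LinearMap.ker r ≃ₗ[F] LinearMap.ker φ := by
    rw [hker_r]
    exact Submodule.comapSubtypeEquivOfLe (by
      intro x hx
      rw [LinearMap.mem_ker, LinearMap.comp_apply, LinearMap.mem_ker.mp hx, map_zero])
  have hfin_kr : Module.Finite F (LinearMap.ker r) := Module.Finite.equiv e.symm
  have hfin_ker : Module.Finite F (LinearMap.ker (ψ ∘ₗ φ)) := by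
    have h2 : Module.Finite F (LinearMap.ker (ψ ∘ₗ φ) ⧸ LinearMap.ker r) :=
      Module.Finite.equiv r.quotKerEquivRange.symm
    exact Module.Finite.of_submodule_quotient (LinearMap.ker r)
  have hfin_coker : Module.Finite F (Z ⧸ LinearMap.range (ψ ∘ₗ φ)) := by
    have h1 : Module.Finite F (LinearMap.ker q) := by rw [← htq]; infer_instance
    have h2 : Module.Finite F ((Z ⧸ LinearMap.range (ψ ∘ₗ φ)) ⧸ LinearMap.ker q) :=
      Module.Finite.equiv (q.quotKerEquivOfSurjective hq_surj).symm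
    exact Module.Finite.of_submodule_quotient (LinearMap.ker q)
  refine ⟨⟨hfin_ker, hfin_coker⟩, ?_⟩
  have c1 := LinearMap.finrank_range_add_finrank_ker r
  have c2 := LinearMap.finrank_range_add_finrank_ker s
  have c3 := LinearMap.finrank_range_add_finrank_ker t
  have c4 := LinearMap.finrank_range_add_finrank_ker q
  rw [LinearMap.range_eq_top.mpr hq_surj, finrank_top] at c4
  rw [← hrs] at c2
  rw [← hst] at c3
  rw [← htq] at c4
  have c5 := e.finrank_eq
  omega

end Groth.Agent.Lib.T2H2.FredIndex
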