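import Groth.Agent.Lib.T2H2CoyonedaAcyc
import Groth.Agent.Lib.T2H2AdjHomBij
import Groth.Agent.Lib.T2H2LpullAdjB
import Groth.Agent.Lib.Helper21UnitHom
import Groth.Agent.Lib.Helper21ExtZero5
import Groth.Agent.Lib.T2H1MVTri

/-!
# The direct image of a K-injective complex is acyclic for global sections (T2H2)
-/

set_option autoImplicit false
set_option linter.style.haveILetI false
universe u
open CategoryTheory CategoryTheory.Limits AlgebraicGeometry Opposite

attribute [local instance] HasDerivedCategory.standard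

namespace Groth.Agent.Lib.T2H2.GammaPushAcyc

open Groth.Agent.Lib.T2H2.CoyonedaAcyc Groth.Agent.Lib.T2H2.AdjHomBij
  Groth.Agent.Lib.T2H2.LpullAdj Groth.Agent.Lib.Helper1.Sky Groth.Agent.Lib.Helper17.KInj
  Groth.Agent.Lib.Helper1.CI Groth.Agent.Lib.Helper1.BKF

/-- the structure sheaf as an `O_Y`-module. -/
noncomputable abbrev OY (Y : Scheme.{u}) : Y.Modules := SheafOfModules.unit Y.ringCatSheaf

open Groth.Agent.Lib.Helper21.UnitHom in
/-- `Hom(O_Y, -) ≅ Γ(Y, -)`. -/
noncomputable def coyonedaGammaIso (Y : Scheme.{u}) :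
    preadditiveCoyoneda.obj (op (OY Y)) ≅ DCoh.gammaAb Y :=
  NatIso.ofComponents (fun M => (unitHomAddEquiv (R := Y.ringCatSheaf) (T := (⊤ : Y.Opens))
    isTerminalTop M).toAddCommGrpIso)
    (fun {M N} φ => by
      ext f
      rfl)

/-- `O_Y[-m]` is K-flat with flat terms. -/
theorem kffs_single (Y : Scheme.{u}) (m : ℤ) :
    KFFs ((CochainComplex.singleFunctor Y.Modules m).obj (OY Y)) := by
  have h := kff_of_concentrated (O := Y.sheaf)
    ((CochainComplex.singleFunctor Y.Modules m).obj (OY Y)) m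
    (fun q hq => HomologicalComplex.isZero_single_obj_X (ComplexShape.up ℤ) m (OY Y) q hq)
    (Groth.Agent.Lib.Helper21.ModTensor5.isFlat_of_iso Y.sheaf
      (HomologicalComplex.singleObjXSelf (ComplexShape.up ℤ) m (OY Y)).symm
      (Groth.Agent.Lib.Helper21.ExtZeroS.isFlat_unit Y.sheaf))
  exact h

/-- morphisms `O_Y[-m] ⟶ g_* B` in the derived category, `B` K-injective, are computed in the
homotopy category. -/
theorem rep_pushforward {X Y : Scheme.{u}} (g : X ⟶ Y) (B : CochainComplex X.Modules ℤ)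
    [B.IsKInjective] :
    Rep (OY Y) (((Scheme.Modules.pushforward g).mapHomologicalComplex (ComplexShape.up ℤ)).obj B) := by
  haveI : DCoh.HasLpull g := hasLpull _
  haveI : DCoh.HasRpush g := Groth.Agent.Lib.T2H1.RpushSupport.hasRpush g
  obtain ⟨R, ψ, h⟩ : ∃ (R : CochainComplex Y.Modules ℤ ⥤ CochainComplex Y.Modules ℤ)
      (ψ : R ⟶ 𝟭 (CochainComplex Y.Modules ℤ)),
      ∀ G : CochainComplex Y.Modules ℤ, ModSite.IsKFlat (O := Y.sheaf) (R.obj G) ∧
        (∀ n : ℤ, ModSite.IsFlat (O := Y.sheaf) ((R.obj G).X n)) ∧ QuasiIso (ψ.app G) ∧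
        ∀ n : ℤ, Epi ((ψ.app G).f n) := exists_functorial_kflat_flat_resolution Y.sheaf
  have hρ : ∀ G, KFFs (R.obj G) := fun G => ⟨(h G).1, (h G).2.1⟩
  have hπ : ∀ G, QuasiIso (ψ.app G) := fun G => (h G).2.2.1
  have hF : ∀ {E E' : CochainComplex Y.Modules ℤ} (q : E ⟶ E'), KFFs E → KFFs E' → QuasiIso q →
      QuasiIso (((Scheme.Modules.pullback g).mapHomologicalComplex (ComplexShape.up ℤ)).map q) :=
    fun {E E'} q hE hE' hq => by
      haveI := hq
      exact quasiIso_pullC_map g q hE hE'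
  have hα : ∀ m : ℤ, IsIso ((lpullα g).app
      ((CochainComplex.singleFunctor Y.Modules m).obj (OY Y))) := fun m =>
    isIso_α_app (Scheme.Modules.pullback g) (DCoh.Lpull g) (lpullα g) (fun E => KFFs E) R ψ
      hρ hπ hF _ (kffs_single Y m)
  constructor
  · intro m ψ'
    exact exists_Q_map_eq.{u} (Scheme.Modules.pullback g) (Scheme.Modules.pushforward g)
      (Scheme.Modules.pullbackPushforwardAdjunction g) (DCoh.Lpull g) (lpullα g)
      (DCoh.Rpush g) (rpushβ g) (fun E => KFFs E) R ψ hρ hπ hF _ (hα m) B ψ'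
  · intro m h₁ h₂ e
    exact nonempty_homotopy_of_Q_map_eq.{u} (Scheme.Modules.pullback g)
      (Scheme.Modules.pushforward g)
      (Scheme.Modules.pullbackPushforwardAdjunction g) (DCoh.Lpull g) (lpullα g)
      (DCoh.Rpush g) (rpushβ g) (fun E => KFFs E) R ψ hρ hπ hF _ (hα m) B h₁ h₂ e

/-- global sections send a K-injective resolution of `g_* B` to a quasi-isomorphism. -/
theorem quasiIso_gamma_map {X Y : Scheme.{u}} (g : X ⟶ Y) (B : CochainComplex X.Modules ℤ)
    [B.IsKInjective] {I : CochainComplex Y.Modules ℤ} [I.IsKInjective]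
    (q : ((Scheme.Modules.pushforward g).mapHomologicalComplex (ComplexShape.up ℤ)).obj B ⟶ I)
    [QuasiIso q] :
    QuasiIso (((DCoh.gammaAb Y).mapHomologicalComplex (ComplexShape.up ℤ)).map q) :=
  quasiIso_map_of_iso_coyoneda (OY Y) (DCoh.gammaAb Y) (coyonedaGammaIso Y).symm q
    (rep_pushforward g B) (Rep.of_isKInjective _ I)

/-- the unit of `RΓ(Y, -)` is an isomorphism at `g_* B`, `B` K-injective. -/
theorem isIso_unit_app_pushforward {X Y : Scheme.{u}} (g : X ⟶ Y)
    (B : CochainComplex X.Modules ℤ) [B.IsKInjective] [DCoh.HasRΓ Y]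
    (β : (DCoh.gammaAb Y).mapHomologicalComplex (ComplexShape.up ℤ) ⋙ DerivedCategory.Q ⟶
      DerivedCategory.Q ⋙ DCoh.RΓ Y)
    [(DCoh.RΓ Y).IsRightDerivedFunctor β
      (HomologicalComplex.quasiIso Y.Modules (ComplexShape.up ℤ))] :
    IsIso (β.app (((Scheme.Modules.pushforward g).mapHomologicalComplex
      (ComplexShape.up ℤ)).obj B)) := by
  haveI := Groth.Agent.Lib.T2H1.RestrictPush.isGrothendieckAbelian_modules Y
  obtain ⟨I, q, hI, hq, -, -⟩ := exists_kInjective_resolution.{u} Y.Modules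
    (((Scheme.Modules.pushforward g).mapHomologicalComplex (ComplexShape.up ℤ)).obj B)
  haveI := hI
  haveI := hq
  haveI := quasiIso_gamma_map g B q
  haveI h1 : IsIso (β.app I) := isIso_app_of_isKInjective.{u} (DCoh.gammaAb Y) (DCoh.RΓ Y) β I
  haveI h2 : IsIso ((DerivedCategory.Q : _ ⥤ DerivedCategory Y.Modules).map q) := by
    rw [DerivedCategory.isIso_Q_map_iff_quasiIso]
    infer_instance
  haveI h3 : IsIso ((DerivedCategory.Q : _ ⥤ DerivedCategory AddCommGrpCat.{u}).map
      (((DCoh.gammaAb Y).mapHomologicalComplex (ComplexShape.up ℤ)).map q)) := by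
    rw [DerivedCategory.isIso_Q_map_iff_quasiIso]
    infer_instance
  have nat := β.naturality q
  dsimp at nat
  have h4 : β.app (((Scheme.Modules.pushforward g).mapHomologicalComplex
      (ComplexShape.up ℤ)).obj B) =
      DerivedCategory.Q.map (((DCoh.gammaAb Y).mapHomologicalComplex (ComplexShape.up ℤ)).map q) ≫
        β.app I ≫ inv ((DCoh.RΓ Y).map (DerivedCategory.Q.map q)) := by
    rw [← Category.assoc, IsIso.eq_comp_inv]
    exact nat.symm
  rw [h4]
  infer_instance

end Groth.Agent.Lib.T2H2.GammaPushAcyc
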