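import Groth.Agent.Lib.T2H2GammaPushAcyc
import Groth.Agent.Lib.T2H2DerivedCompB

/-!
# `RΓ(Y, Rf_* E) ≅ RΓ(X, E)` (T2H2)
-/

set_option autoImplicit false
set_option linter.style.haveILetI false
universe u
open CategoryTheory CategoryTheory.Limits AlgebraicGeometry Opposite

attribute [local instance] HasDerivedCategory.standard

namespace Groth.Agent.Lib.T2H2.GammaPushComp

open Groth.Agent.Lib.T2H2.GammaPushAcyc Groth.Agent.Lib.T2H2.DerivedCompB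
  Groth.Agent.Lib.T2H1.MVTri Groth.Agent.Lib.T2H1.DerivedComp Groth.Agent.Lib.T2H1.RestrictPush

/-- `RΓ(Y, Rf_* E) ≅ RΓ(X, E)`, naturally in `E`. -/
theorem nonempty_Rpush_RΓ_iso {X Y : Scheme.{u}} (f : X ⟶ Y) [DCoh.HasRpush f] [DCoh.HasRΓ X]
    [DCoh.HasRΓ Y] : Nonempty (DCoh.Rpush f ⋙ DCoh.RΓ Y ≅ DCoh.RΓ X) := by
  obtain ⟨βf, hβf⟩ := exists_unit_Rpush f
  obtain ⟨βY, hβY⟩ := exists_unit_RΓ Y
  obtain ⟨βX, hβX⟩ := exists_unit_RΓ X
  haveI := isRightDerivedFunctor_unitComp.{u} (Scheme.Modules.pushforward f) (DCoh.Rpush f) βf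
    (DCoh.gammaAb Y) (DCoh.RΓ Y) βY (fun I _ => isIso_unit_app_pushforward f I βY)
  exact ⟨derivedIso (pushGammaIso f) _ _
    (unitComp (Scheme.Modules.pushforward f) (DCoh.Rpush f) βf (DCoh.gammaAb Y) (DCoh.RΓ Y) βY) βX⟩

end Groth.Agent.Lib.T2H2.GammaPushComp
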