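import Mathlib
import Groth.Agent.S0386

/-!
# Generic flatness over a reduced base with quasi-compact set of maximal points (helper2)

Used for S14790: the local rings at maximal points of a reduced scheme are fields, the flat locus of
a finitely presented morphism is open, and the image of its closed complement under a quasi-compact
morphism stays away from the maximal points.
-/

set_option autoImplicit false
universe u

namespace Groth.Agent.Lib.T2H2.GenFlat

open AlgebraicGeometry CategoryTheory Limits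

/-- The local ring of a reduced scheme at a point without proper generizations is a field. -/
theorem isField_stalk_of_maximal {Y : Scheme.{u}} [IsReduced Y] (η : Y)
    (hη : ∀ y' : Y, y' ⤳ η → y' = η) : IsField (Y.presheaf.stalk η) := by
  rw [IsLocalRing.isField_iff_maximalIdeal_eq]
  have hprime : ∀ (J : Ideal (Y.presheaf.stalk η)), J.IsPrime →
      J = IsLocalRing.maximalIdeal (Y.presheaf.stalk η) := by
    intro J hJ
    have h1 : (⟨J, hJ⟩ : PrimeSpectrum (Y.presheaf.stalk η)) =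
        IsLocalRing.closedPoint (Y.presheaf.stalk η) := by
      apply (Y.fromSpecStalk η).isEmbedding.injective
      rw [Scheme.fromSpecStalk_closedPoint]
      apply hη
      have h2 : (Y.fromSpecStalk η) ⟨J, hJ⟩ ∈ Set.range (Y.fromSpecStalk η) := ⟨_, rfl⟩
      rw [Scheme.range_fromSpecStalk] at h2
      exact h2
    exact congrArg PrimeSpectrum.asIdeal h1
  have h3 : IsLocalRing.maximalIdeal (Y.presheaf.stalk η) ≤ nilradical (Y.presheaf.stalk η) := by
    rw [nilradical_eq_sInf]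
    refine le_sInf fun J hJ => ?_
    rw [hprime J hJ]
  rw [nilradical_eq_zero] at h3
  exact le_bot_iff.mp h3

/-- Over a point without proper generizations of a reduced scheme every morphism is flat. -/
theorem flat_stalkMap_of_maximal {X Y : Scheme.{u}} [IsReduced Y] (f : X ⟶ Y) (x : X)
    (hη : ∀ y' : Y, y' ⤳ f x → y' = f x) : (f.stalkMap x).hom.Flat := by
  have hfield := isField_stalk_of_maximal (f x) hη
  let _ : Field (Y.presheaf.stalk (f x)) := hfield.toField
  let _ : Algebra (Y.presheaf.stalk (f x)) (X.presheaf.stalk x) := (f.stalkMap x).hom.toAlgebra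
  change Module.Flat (Y.presheaf.stalk (f x)) (X.presheaf.stalk x)
  infer_instance


/-- Chart-level separation: a point without proper generizations whose fibre misses a closed set
has a basic open neighbourhood over which one affine chart misses the closed set. -/
theorem exists_basicOpen_disjoint_chart {X Y : Scheme.{u}} (f : X ⟶ Y) {V : Y.Opens}
    (hV : IsAffineOpen V) {X₁ : X.Opens} (hX₁ : IsAffineOpen X₁) (hle : X₁ ≤ f ⁻¹ᵁ V) (Z : Set X)
    (hZ : IsClosed Z) (η : Y) (hηV : η ∈ V) (hη : ∀ y' : Y, y' ⤳ η → y' = η)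
    (hdisj : ∀ x ∈ Z, x ∈ X₁ → f x ≠ η) :
    ∃ a : Γ(Y, V), η ∈ Y.basicOpen a ∧ ∀ x ∈ Z, x ∈ X₁ → f x ∉ Y.basicOpen a := by
  let φ := f.appLE V X₁ hle
  let pη := hV.primeIdealOf ⟨η, hηV⟩
  have hpη : hV.fromSpec pη = η := hV.fromSpec_primeIdealOf ⟨η, hηV⟩
  let Z₁ : Set (PrimeSpectrum Γ(X, X₁)) := hX₁.fromSpec ⁻¹' Z
  have hZ₁ : IsClosed Z₁ := hZ.preimage hX₁.fromSpec.continuous
  let J := PrimeSpectrum.vanishingIdeal Z₁
  have hZJ : PrimeSpectrum.zeroLocus (J : Set Γ(X, X₁)) = Z₁ := by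
    rw [PrimeSpectrum.zeroLocus_vanishingIdeal_eq_closure, hZ₁.closure_eq]
  have h1 : hX₁.fromSpec ≫ f = Spec.map φ ≫ hV.fromSpec :=
    (IsAffineOpen.SpecMap_appLE_fromSpec f hV hX₁ hle).symm
  have hkey : ¬ J.comap φ.hom ≤ pη.asIdeal := by
    intro hle'
    obtain ⟨q, hq₁, hq₂⟩ := Ideal.exists_minimalPrimes_le hle'
    have hqprime := hq₁.1.1
    have hq_eq : q = pη.asIdeal := by
      have hspec : (⟨q, hqprime⟩ : PrimeSpectrum Γ(Y, V)) ⤳ pη :=
        (PrimeSpectrum.le_iff_specializes _ _).mp hq₂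
      have h2 := hspec.map hV.fromSpec.continuous
      rw [hpη] at h2
      have h3 := hη _ h2
      have h4 : (⟨q, hqprime⟩ : PrimeSpectrum Γ(Y, V)) = pη :=
        hV.fromSpec.isOpenEmbedding.injective (h3.trans hpη.symm)
      exact congrArg PrimeSpectrum.asIdeal h4
    rw [hq_eq] at hq₁
    obtain ⟨p', hp', hJp', hp'η⟩ := Ideal.exists_comap_eq_of_mem_minimalPrimes φ.hom _ hq₁
    let x' : Spec Γ(X, X₁) := ⟨p', hp'⟩
    have hx'Z : hX₁.fromSpec x' ∈ Z := by
      have h5 : x' ∈ PrimeSpectrum.zeroLocus (J : Set Γ(X, X₁)) := hJp'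
      rw [hZJ] at h5
      exact h5
    have hx'X₁ : hX₁.fromSpec x' ∈ X₁ := by
      have h5 : hX₁.fromSpec x' ∈ Set.range hX₁.fromSpec := ⟨x', rfl⟩
      rw [hX₁.range_fromSpec] at h5
      exact h5
    refine hdisj _ hx'Z hx'X₁ ?_
    rw [← Scheme.Hom.comp_apply, h1, Scheme.Hom.comp_apply]
    have h6 : Spec.map φ x' = pη := PrimeSpectrum.ext hp'η
    rw [h6, hpη]
  obtain ⟨a, haJ, hapη⟩ := SetLike.not_le_iff_exists.mp hkey
  refine ⟨a, ?_, ?_⟩
  · have h5 : pη ∈ hV.fromSpec ⁻¹ᵁ Y.basicOpen a := by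
      rw [hV.fromSpec_preimage_basicOpen]
      exact hapη
    rw [← hpη]
    exact h5
  · intro x hxZ hxX₁ hfx
    let qx := hX₁.primeIdealOf ⟨x, hxX₁⟩
    have hqx : hX₁.fromSpec qx = x := hX₁.fromSpec_primeIdealOf ⟨x, hxX₁⟩
    have hqxZ : qx ∈ Z₁ := by
      change hX₁.fromSpec qx ∈ Z
      rw [hqx]
      exact hxZ
    have hJqx : J ≤ qx.asIdeal := by
      rw [← hZJ] at hqxZ
      exact hqxZ
    have h5 : φ.hom a ∈ qx.asIdeal := hJqx haJ
    have h6 := IsAffineOpen.comap_primeIdealOf_appLE (f := f) V hV X₁ hX₁ hle hxX₁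
    have h7 : hV.primeIdealOf ⟨f x, hle hxX₁⟩ ∈ hV.fromSpec ⁻¹ᵁ Y.basicOpen a := by
      change hV.fromSpec (hV.primeIdealOf ⟨f x, hle hxX₁⟩) ∈ Y.basicOpen a
      rw [hV.fromSpec_primeIdealOf]
      exact hfx
    rw [hV.fromSpec_preimage_basicOpen, ← h6] at h7
    exact h7 h5


/-- A point without proper generizations whose fibre misses a closed set has a quasi-compact open
neighbourhood whose preimage misses the closed set (for a quasi-compact morphism). -/
theorem exists_nhd_preimage_disjoint {X Y : Scheme.{u}} (f : X ⟶ Y) [QuasiCompact f] (Z : Set X)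
    (hZ : IsClosed Z) (η : Y) (hη : ∀ y' : Y, y' ⤳ η → y' = η) (hdisj : ∀ x ∈ Z, f x ≠ η) :
    ∃ O : Y.Opens, η ∈ O ∧ IsCompact (O : Set Y) ∧ ∀ x ∈ Z, f x ∉ O := by
  obtain ⟨_, ⟨V', hV', rfl⟩, hηV, -⟩ :=
    Y.isBasis_affineOpens.exists_subset_of_mem_open (Set.mem_univ η) isOpen_univ
  let V : Y.Opens := V'
  have hV : IsAffineOpen V := hV'
  have hcomp : IsCompact ((f ⁻¹ᵁ V : X.Opens) : Set X) :=
    QuasiCompact.isCompact_preimage (f := f) _ V.isOpen hV.isCompact
  obtain ⟨s, hs, hsV⟩ := isCompact_iff_finite_and_eq_biUnion_affineOpens.mp hcomp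
  have hle : ∀ i ∈ s, (i : X.Opens) ≤ f ⁻¹ᵁ V := by
    intro i hi
    rw [hsV]
    exact le_iSup₂ (f := fun (i : X.affineOpens) (_ : i ∈ s) => (i : X.Opens)) i hi
  have hind : ∀ s' : Set X.affineOpens, s'.Finite → s' ⊆ s →
      ∃ a : Γ(Y, V), η ∈ Y.basicOpen a ∧
        ∀ x ∈ Z, (∃ i ∈ s', x ∈ (i : X.Opens)) → f x ∉ Y.basicOpen a := by
    intro s' hs'
    induction s', hs' using Set.Finite.induction_on with
    | empty =>
      intro _
      refine ⟨1, ?_, ?_⟩
      · rw [Scheme.basicOpen_of_isUnit _ isUnit_one]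
        exact hηV
      · rintro x - ⟨i, hi, -⟩
        exact absurd hi (Set.notMem_empty i)
    | insert hi₀ hfin ih =>
      rename_i i₀ s₀
      intro hsub
      obtain ⟨a, ha1, ha2⟩ := ih (fun j hj => hsub (Set.mem_insert_of_mem _ hj))
      obtain ⟨b, hb1, hb2⟩ := exists_basicOpen_disjoint_chart f hV i₀.2
        (hle i₀ (hsub (Set.mem_insert _ _))) Z hZ η hηV hη (fun x hx _ => hdisj x hx)
      refine ⟨a * b, ?_, ?_⟩
      · rw [Scheme.basicOpen_mul]
        exact ⟨ha1, hb1⟩
      · rintro x hxZ ⟨i, hi, hxi⟩ hfx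
        rw [Scheme.basicOpen_mul] at hfx
        rcases hi with rfl | hi
        · exact hb2 x hxZ hxi hfx.2
        · exact ha2 x hxZ ⟨i, hi, hxi⟩ hfx.1
  obtain ⟨a, ha1, ha2⟩ := hind s hs subset_rfl
  refine ⟨Y.basicOpen a, ha1, (hV.basicOpen a).isCompact, ?_⟩
  intro x hxZ hfx
  have hxV : x ∈ f ⁻¹ᵁ V := Y.basicOpen_le a hfx
  rw [hsV] at hxV
  simp only [TopologicalSpace.Opens.mem_iSup] at hxV
  obtain ⟨i, hi, hxi⟩ := hxV
  exact ha2 x hxZ ⟨i, hi, hxi⟩ hfx


/-- Every point of a scheme has a generization without proper generizations. -/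
theorem exists_maximal_generization (Y : Scheme.{u}) (y : Y) :
    ∃ η : Y, η ⤳ y ∧ ∀ y' : Y, y' ⤳ η → y' = η := by
  obtain ⟨η, hη⟩ := QuasiSober.sober (isIrreducible_irreducibleComponent (x := y))
    isClosed_irreducibleComponent
  have hcl : closure ({η} : Set Y) = irreducibleComponent y := hη
  refine ⟨η, ?_, ?_⟩
  · rw [specializes_iff_mem_closure, hcl]
    exact mem_irreducibleComponent
  · intro y' hy'
    have h1 : irreducibleComponent y ⊆ closure ({y'} : Set Y) := by
      rw [← hcl]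
      exact (specializes_iff_closure_subset.mp hy')
    have h2 : closure ({y'} : Set Y) = irreducibleComponent y :=
      eq_irreducibleComponent isIrreducible_singleton.closure.isPreirreducible h1
    have h3 : η ⤳ y' := by
      rw [specializes_iff_mem_closure, hcl, ← h2]
      exact subset_closure rfl
    exact (hy'.antisymm h3).eq

/-- Generic flatness over a reduced base with quasi-compact set of maximal points. -/
theorem exists_dense_open_flat {X Y : Scheme.{u}} [IsReduced Y]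
    (hgen : IsCompact {y : Y | ∀ y' : Y, y' ⤳ y → y' = y})
    (f : X ⟶ Y) [LocallyOfFinitePresentation f] [QuasiCompact f] :
    ∃ U : Y.Opens, Dense (U : Set Y) ∧ IsCompact (U : Set Y) ∧ Flat (f ∣_ U) := by
  have hWopen : IsOpen {x : X | (f.stalkMap x).hom.Flat} := Groth.Agent.S0386.result f
  let Z : Set X := {x : X | (f.stalkMap x).hom.Flat}ᶜ
  have hZ : IsClosed Z := hWopen.isClosed_compl
  let M : Set Y := {y : Y | ∀ y' : Y, y' ⤳ y → y' = y}
  have hO : ∀ η ∈ M, ∃ O : Y.Opens, η ∈ O ∧ IsCompact (O : Set Y) ∧ ∀ x ∈ Z, f x ∉ O := by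
    intro η hη
    refine exists_nhd_preimage_disjoint f Z hZ η hη ?_
    intro x hxZ hfx
    apply hxZ
    refine flat_stalkMap_of_maximal f x ?_
    rw [hfx]
    exact hη
  choose! O hO1 hO2 hO3 using hO
  obtain ⟨t, htM, htfin, hcover⟩ := hgen.elim_finite_subcover_image (b := M)
    (c := fun η => (O η : Set Y)) (fun η _ => (O η).isOpen)
    (fun η hη => Set.mem_biUnion hη (hO1 η hη))
  let U : Y.Opens := ⟨⋃ η ∈ t, (O η : Set Y), isOpen_biUnion fun η _ => (O η).isOpen⟩
  refine ⟨U, ?_, htfin.isCompact_biUnion fun η hη => hO2 η (htM hη), ?_⟩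
  · rw [dense_iff_inter_open]
    rintro O' hO' ⟨y, hy⟩
    obtain ⟨η, hηy, hηM⟩ := exists_maximal_generization Y y
    exact ⟨η, hηy.mem_open hO' hy, hcover hηM⟩
  · refine Flat.of_stalkMap _ (fun x => ?_)
    refine (RingHom.Flat.respectsIso.arrow_mk_iso_iff (morphismRestrictStalkMap f U x)).mpr ?_
    have hx : f x.1 ∈ U := x.2
    obtain ⟨η, hηt, hxη⟩ := Set.mem_iUnion₂.mp hx
    by_contra hcon
    exact hO3 η (htM hηt) x.1 hcon hxη

end Groth.Agent.Lib.T2H2.GenFlat
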