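import Groth.Agent.Lib.Helper11GenFlat
import Groth.Agent.Lib.Helper11RedCl

/-!
# Points near the generic fibre are specializations of points of the generic fibre (helper2, team 2)

Namespace `Groth.Agent.Lib.T2H2.GenSpec`.

* `exists_open_forall_exists_specializes`: for a morphism of finite type `f : X ⟶ Y` with irreducible target there is
  a nonempty open `V` of `Y` such that every point of `f⁻¹ V` is a specialization of a point of the generic fibre
  (generic flatness on the reduction of `Y`, plus going down for flat morphisms).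
-/

set_option autoImplicit false
universe u
open CategoryTheory CategoryTheory.Limits AlgebraicGeometry TopologicalSpace

namespace Groth.Agent.Lib.T2H2.GenSpec

theorem exists_open_forall_exists_specializes {X Y : Scheme.{u}} (f : X ⟶ Y) [IrreducibleSpace ↑Y]
    [LocallyOfFiniteType f] [QuasiCompact f] :
    ∃ V : Y.Opens, (V : Set ↑Y).Nonempty ∧
      ∀ x : X, f x ∈ V → ∃ x₀ : X, f x₀ = genericPoint ↑Y ∧ x₀ ⤳ x := by
  -- the reduction of `Y`
  obtain ⟨I, hI⟩ : ∃ I : Y.IdealSheafData, I = Scheme.IdealSheafData.vanishingIdeal (⊤ : Closeds Y) :=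
    ⟨_, rfl⟩
  have hred : IsReduced I.subscheme := by
    rw [hI]
    exact Groth.Agent.Lib.Helper11RedCl.isReduced_subscheme_vanishingIdeal _
  have hrange : Set.range I.subschemeι = Set.univ := by
    rw [hI, Groth.Agent.Lib.Helper11RedCl.range_subschemeι_vanishingIdeal]
    rfl
  have hsurj : Function.Surjective I.subschemeι := Set.range_eq_univ.mp hrange
  have hemb : Topology.IsClosedEmbedding I.subschemeι := I.subschemeι.isClosedEmbedding
  have hhomeo : IsHomeomorph I.subschemeι :=
    isHomeomorph_iff_isEmbedding_surjective.mpr ⟨hemb.isEmbedding, hsurj⟩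
  have hne : Nonempty I.subscheme := by
    obtain ⟨y⟩ := (inferInstance : Nonempty Y)
    obtain ⟨y', -⟩ := hsurj y
    exact ⟨y'⟩
  have hirr : IrreducibleSpace I.subscheme := by
    have h1 : IsPreirreducible (Set.univ : Set I.subscheme) := by
      have := (PreirreducibleSpace.isPreirreducible_univ (X := Y)).preimage hhomeo.isOpenEmbedding
      simpa using this
    exact { isPreirreducible_univ := h1, toNonempty := hne }
  have hint : IsIntegral I.subscheme := isIntegral_of_irreducibleSpace_of_isReduced _
  -- an affine open of the reduction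
  obtain ⟨y₀⟩ := hne
  obtain ⟨V', hV', hy₀, -⟩ := exists_isAffineOpen_mem_and_subset (X := I.subscheme) (x := y₀)
    (U := ⊤) trivial
  have : Nonempty V' := ⟨⟨y₀, hy₀⟩⟩
  have hdom : IsDomain Γ(I.subscheme, V') := inferInstance
  obtain ⟨a, ha0, ha⟩ := Groth.Agent.Lib.Helper11GenFlat.exists_flat_stalkMap
    (pullback.snd f I.subschemeι) V' hV'
  have hDne : ((I.subscheme.basicOpen a : I.subscheme.Opens) : Set I.subscheme).Nonempty := by
    by_contra hne
    have hbot : I.subscheme.basicOpen a = ⊥ := by
      ext z
      simp only [Opens.coe_bot, Set.mem_empty_iff_false, iff_false]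
      exact fun hz => hne ⟨z, hz⟩
    exact ha0 ((AlgebraicGeometry.basicOpen_eq_bot_iff a).1 hbot)
  have hflat : Flat (((pullback.snd f I.subschemeι) ⁻¹ᵁ I.subscheme.basicOpen a).ι ≫
      pullback.snd f I.subschemeι) := by
    rw [Flat.iff_flat_stalkMap]
    intro z
    rw [Scheme.Hom.stalkMap_comp]
    exact (RingHom.Flat.respectsIso.cancel_right_isIso _
      (((pullback.snd f I.subschemeι) ⁻¹ᵁ I.subscheme.basicOpen a).ι.stalkMap z)).mpr (ha _ z.2)
  have hgen := Flat.generalizingMap (((pullback.snd f I.subschemeι) ⁻¹ᵁ I.subscheme.basicOpen a).ι ≫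
      pullback.snd f I.subschemeι)
  -- the generic point
  have hgp : I.subschemeι (genericPoint I.subscheme) = genericPoint Y := by
    have h1 : IsGenericPoint (I.subschemeι (genericPoint I.subscheme))
        (closure (I.subschemeι '' Set.univ)) :=
      (genericPoint_spec I.subscheme).image I.subschemeι.continuous
    rw [Set.image_univ, hrange, closure_univ] at h1
    exact h1.eq (genericPoint_spec Y)
  refine ⟨⟨I.subschemeι '' (I.subscheme.basicOpen a : Set I.subscheme),
    hhomeo.isOpenMap _ (I.subscheme.basicOpen a).2⟩, hDne.image _, ?_⟩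
  rintro x ⟨y', hy', hy'x⟩
  have hsurj' : Surjective I.subschemeι := ⟨hsurj⟩
  obtain ⟨x', hx'⟩ := (inferInstance : Surjective (pullback.fst f I.subschemeι)).surj x
  have hfx' : (pullback.snd f I.subschemeι) x' = y' := by
    apply hemb.injective
    rw [hy'x, ← hx', ← Scheme.Hom.comp_apply, ← Scheme.Hom.comp_apply, pullback.condition]
  have hx'D : x' ∈ (pullback.snd f I.subschemeι) ⁻¹ᵁ I.subscheme.basicOpen a := by
    change (pullback.snd f I.subschemeι) x' ∈ I.subscheme.basicOpen a
    rw [hfx']
    exact hy'
  have hsp : genericPoint I.subscheme ⤳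
      (((pullback.snd f I.subschemeι) ⁻¹ᵁ I.subscheme.basicOpen a).ι ≫
        pullback.snd f I.subschemeι) ⟨x', hx'D⟩ :=
    genericPoint_specializes _
  obtain ⟨z, hz, hzη⟩ := hgen hsp
  refine ⟨(pullback.fst f I.subschemeι) z.1, ?_, ?_⟩
  · have h1 : (pullback.snd f I.subschemeι) z.1 = genericPoint I.subscheme := hzη
    rw [← Scheme.Hom.comp_apply, pullback.condition, Scheme.Hom.comp_apply, h1, hgp]
  · rw [← hx']
    apply Specializes.map _ (pullback.fst f I.subschemeι).continuous
    exact hz.map continuous_subtype_val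

end Groth.Agent.Lib.T2H2.GenSpec
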