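import Mathlib

set_option autoImplicit false
open MeasureTheory Topology

namespace Groth.Agent.Lib.T2H2.HaarDev

section meas
variable {ι : Type*} {X : Type*} [TopologicalSpace X] [CompactSpace X] [T2Space X]
  [MeasurableSpace X] [BorelSpace X]

/-- the subalgebra generated by the functions of one coordinate -/
def coordAlg (ι X : Type*) [TopologicalSpace X] : Subalgebra ℝ C(ι → X, ℝ) :=
  Algebra.adjoin ℝ {f | ∃ (i : ι) (g : C(X, ℝ)), f = g.comp (ContinuousMap.eval i)}

omit [MeasurableSpace X] [BorelSpace X] in
theorem coordAlg_separatesPoints : (coordAlg ι X).SeparatesPoints := by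
  intro u v huv
  obtain ⟨i, hi⟩ : ∃ i, u i ≠ v i := by
    by_contra h
    push Not at h
    exact huv (funext h)
  obtain ⟨g, hgc, hg0, hg1⟩ :=
    CompletelyRegularSpace.completely_regular (u i) {v i} isClosed_singleton (by simpa using hi)
  let g' : C(X, ℝ) := ⟨fun x => (g x : ℝ), by fun_prop⟩
  refine ⟨_, ⟨g'.comp (ContinuousMap.eval i), Algebra.subset_adjoin ⟨i, g', rfl⟩, rfl⟩, ?_⟩
  have h1 : (g (v i) : ℝ) = 1 := by
    have := hg1 (Set.mem_singleton (v i))
    simp [this]
  have h0 : (g (u i) : ℝ) = 0 := by simp [hg0]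
  change (g (u i) : ℝ) ≠ (g (v i) : ℝ)
  rw [h0, h1]
  exact zero_ne_one

omit [CompactSpace X] [T2Space X] in
theorem measurable_of_mem_coordAlg (f : C(ι → X, ℝ)) (hf : f ∈ coordAlg ι X) :
    Measurable f := by
  induction hf using Algebra.adjoin_induction with
  | mem f hf =>
    obtain ⟨i, g, rfl⟩ := hf
    exact g.continuous.measurable.comp (measurable_pi_apply i)
  | algebraMap r => exact measurable_const
  | add f g _ _ hf hg => exact hf.add hg
  | mul f g _ _ hf hg => exact hf.mul hg

/-- **Continuous functions on a finite power of a compact Hausdorff space are measurable for the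
product σ-algebra** (no countability assumption). -/
theorem measurable_of_continuous_pi (F : (ι → X) → ℝ) (hF : Continuous F) : Measurable F := by
  have key : ∀ n : ℕ, ∃ g : coordAlg ι X, ∀ x, ‖((g : C(ι → X, ℝ)) : (ι → X) → ℝ) x - F x‖ < 1 / (n + 1) :=
    fun n => ContinuousMap.exists_mem_subalgebra_near_continuous_of_separatesPoints _
      coordAlg_separatesPoints F hF _ (by positivity)
  choose g hg using key
  refine measurable_of_tendsto_metrizable (f := fun n => ((g n : C(ι → X, ℝ)) : (ι → X) → ℝ))
    (fun n => measurable_of_mem_coordAlg _ (g n).2) ?_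
  rw [tendsto_pi_nhds]
  intro x
  rw [Metric.tendsto_atTop]
  intro ε hε
  obtain ⟨N, hN⟩ := exists_nat_one_div_lt hε
  refine ⟨N, fun n hn => ?_⟩
  rw [Real.dist_eq]
  refine (hg n x).trans (lt_of_le_of_lt ?_ hN)
  apply one_div_le_one_div_of_le (by positivity)
  exact_mod_cast Nat.succ_le_succ hn

theorem integrable_of_continuous_pi (ν : Measure (ι → X)) [IsFiniteMeasure ν] (F : (ι → X) → ℝ)
    (hF : Continuous F) : Integrable F ν := by
  obtain ⟨C, hC⟩ := isCompact_univ.exists_bound_of_continuousOn hF.continuousOn
  exact (integrable_const C).mono' (measurable_of_continuous_pi F hF).aestronglyMeasurable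
    (ae_of_all _ fun x => hC x (Set.mem_univ x))

theorem lipschitz_integral_pi (ν : Measure (ι → X)) [IsFiniteMeasure ν] :
    LipschitzWith (ν Set.univ).toNNReal (fun f : C(ι → X, ℝ) => ∫ u, f u ∂ν) := by
  refine LipschitzWith.of_dist_le_mul fun f h => ?_
  rw [Real.dist_eq, ← integral_sub (integrable_of_continuous_pi ν f f.continuous)
    (integrable_of_continuous_pi ν h h.continuous), dist_eq_norm]
  have h1 : ‖∫ u, (f u - h u) ∂ν‖ ≤ ‖f - h‖ * ν.real Set.univ := by
    apply norm_integral_le_of_norm_le_const
    exact ae_of_all _ fun u => (f - h).norm_coe_le_norm u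
  rw [Real.norm_eq_abs] at h1
  rw [mul_comm]
  exact h1

theorem continuous_integral_pi {Z : Type*} [TopologicalSpace Z] (ν : Measure (ι → X))
    [IsFiniteMeasure ν] (H : Z → (ι → X) → ℝ) (hH : Continuous (Function.uncurry H)) :
    Continuous (fun z => ∫ u, H z u ∂ν) := by
  let Hc : C(Z × (ι → X), ℝ) := ⟨Function.uncurry H, hH⟩
  have h1 : (fun z => ∫ u, H z u ∂ν) = (fun f : C(ι → X, ℝ) => ∫ u, f u ∂ν) ∘ Hc.curry := by
    ext z
    rfl
  rw [h1]
  exact (lipschitz_integral_pi ν).continuous.comp Hc.curry.continuous

end meas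



section comb
variable {ι : Type*} [DecidableEq ι] {G : Type*} [AddCommGroup G]

theorem comb (A : Finset ι → G → ℝ) (x : ι → G) (T : Finset ι)
    (hA : ∀ S ⊆ T, ∀ j ∈ T, j ∉ S → ∀ y,
      A S y = A (insert j S) y + A (insert j S) (x j) - A (insert j S) (y + x j)) :
    ∀ S ⊆ T, ∀ y, A ∅ y = A S 0 + ∑ I ∈ S.powerset,
      (-1 : ℝ) ^ I.card * (A S (y + ∑ i ∈ I, x i) - A S (∑ i ∈ I, x i)) := by
  intro S
  induction S using Finset.induction_on with
  | empty =>
    intro _ y
    simp
  | insert j S₀ hj ih =>
    intro hST y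
    have hS₀T : S₀ ⊆ T := (Finset.subset_insert j S₀).trans hST
    have hjT : j ∈ T := hST (Finset.mem_insert_self j S₀)
    rw [ih hS₀T y, Finset.sum_powerset_insert hj]
    have h0 : A S₀ 0 = A (insert j S₀) 0 := by
      rw [hA S₀ hS₀T j hjT hj 0, zero_add]
      ring
    rw [h0]
    congr 1
    rw [← Finset.sum_add_distrib]
    refine Finset.sum_congr rfl fun I hI => ?_
    have hjI : j ∉ I := fun h => hj (Finset.mem_powerset.mp hI h)
    rw [Finset.card_insert_of_notMem hjI, Finset.sum_insert hjI,
      hA S₀ hS₀T j hjT hj (y + ∑ i ∈ I, x i), hA S₀ hS₀T j hjT hj (∑ i ∈ I, x i), pow_succ]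
    have e1 : y + ∑ i ∈ I, x i + x j = y + (x j + ∑ i ∈ I, x i) := by abel
    have e2 : ∑ i ∈ I, x i + x j = x j + ∑ i ∈ I, x i := by abel
    rw [e1, e2]
    ring

end comb



section mix
variable {G : Type*} {m : ℕ}

/-- coordinate `0` is `y`, the coordinates in `S` come from `u`, the others from `x` -/
def mix (S : Finset (Fin (m + 1))) (y : G) (u : Fin m → G) (x : Fin (m + 1) → G) :
    Fin (m + 1) → G :=
  fun i => if h : i = 0 then y else if i ∈ S then u (i.pred h) else x i

theorem mix_zero (S : Finset (Fin (m + 1))) (y : G) (u : Fin m → G) (x : Fin (m + 1) → G) :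
    mix S y u x 0 = y := by simp [mix]

theorem mix_empty (y : G) (u : Fin m → G) (x : Fin (m + 1) → G) :
    mix ∅ y u x = Function.update x 0 y := by
  funext i
  by_cases h : i = 0
  · subst h; simp [mix]
  · simp [mix, h]

theorem mix_univ (y : G) (u : Fin m → G) (x : Fin (m + 1) → G) :
    mix (Finset.univ.erase 0) y u x = Fin.cons y u := by
  funext i
  by_cases h : i = 0
  · subst h; simp [mix]
  · obtain ⟨k, rfl⟩ := Fin.exists_succ_eq.mpr h
    simp [mix, h]

variable [TopologicalSpace G]

theorem continuous_mix (S : Finset (Fin (m + 1))) :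
    Continuous (fun p : G × (Fin m → G) × (Fin (m + 1) → G) => mix S p.1 p.2.1 p.2.2) := by
  refine continuous_pi fun i => ?_
  by_cases h : i = 0
  · simp only [mix, h, dite_true]
    exact continuous_fst
  · by_cases hS : i ∈ S
    · simp only [mix, h, dite_false, hS, if_true]
      exact (continuous_apply _).comp (continuous_fst.comp continuous_snd)
    · simp only [mix, h, dite_false, hS, if_false]
      exact (continuous_apply _).comp (continuous_snd.comp continuous_snd)

end mix

section upd
variable {G : Type*} [AddCommGroup G] {m : ℕ}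

omit [AddCommGroup G] in
theorem update_mix_same (S : Finset (Fin (m + 1))) (j : Fin (m + 1)) (hj : j ≠ 0) (y y' : G)
    (u : Fin m → G) (x : Fin (m + 1) → G) :
    Function.update (Function.update (mix (insert j S) y u x) 0 y') j (u (j.pred hj)) =
      mix (insert j S) y' u x := by
  funext i
  by_cases hi0 : i = 0
  · subst hi0
    rw [Function.update_of_ne (Ne.symm hj), Function.update_self, mix_zero]
  · by_cases hij : i = j
    · subst hij
      rw [Function.update_self]
      simp [mix, hi0]
    · rw [Function.update_of_ne hij, Function.update_of_ne hi0]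
      simp [mix, hi0]

omit [AddCommGroup G] in
theorem update_mix_x (S : Finset (Fin (m + 1))) (j : Fin (m + 1)) (hj : j ≠ 0) (hjS : j ∉ S)
    (y y' : G) (u : Fin m → G) (x : Fin (m + 1) → G) :
    Function.update (Function.update (mix (insert j S) y u x) 0 y') j (x j) = mix S y' u x := by
  funext i
  by_cases hi0 : i = 0
  · subst hi0
    rw [Function.update_of_ne (Ne.symm hj), Function.update_self, mix_zero]
  · by_cases hij : i = j
    · subst hij
      rw [Function.update_self]
      simp [mix, hi0, hjS]
    · rw [Function.update_of_ne hij, Function.update_of_ne hi0]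
      simp [mix, hi0, hij]

theorem update_mix_add (S : Finset (Fin (m + 1))) (j : Fin (m + 1)) (hj : j ≠ 0) (y y' b : G)
    (u : Fin m → G) (x : Fin (m + 1) → G) :
    Function.update (Function.update (mix (insert j S) y u x) 0 y') j (b + u (j.pred hj)) =
      mix (insert j S) y' (Pi.single (j.pred hj) b + u) x := by
  funext i
  by_cases hi0 : i = 0
  · subst hi0
    rw [Function.update_of_ne (Ne.symm hj), Function.update_self, mix_zero]
  · by_cases hij : i = j
    · subst hij
      rw [Function.update_self]
      simp [mix, hi0]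
    · rw [Function.update_of_ne hij, Function.update_of_ne hi0]
      have hne : i.pred hi0 ≠ j.pred hj := fun h => hij (Fin.pred_inj.mp h)
      simp [mix, hi0, hij]

end upd


end Groth.Agent.Lib.T2H2.HaarDev
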