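import Mathlib
import Groth.Agent.Lib.T2H2HaarDevA

set_option autoImplicit false
open MeasureTheory Topology

namespace Groth.Agent.Lib.T2H2.HaarDev

section main
variable {G : Type*} [AddCommGroup G] [TopologicalSpace G] [IsTopologicalAddGroup G]
  [CompactSpace G] [T2Space G] [MeasurableSpace G] [BorelSpace G]
  (μ : Measure G) [μ.IsAddHaarMeasure] [IsProbabilityMeasure μ]
  {m : ℕ} (ψ : (Fin (m + 1) → G) → ℝ)

/-- partial integral of `ψ` over the coordinates in `S` -/
noncomputable def Psi (S : Finset (Fin (m + 1))) (y : G) (x : Fin (m + 1) → G) : ℝ :=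
  ∫ u, ψ (mix S y u x) ∂(Measure.pi (fun _ : Fin m => μ))

variable {ψ}

theorem continuous_psi_mix (hψc : Continuous ψ) (S : Finset (Fin (m + 1))) (y : G)
    (x : Fin (m + 1) → G) : Continuous (fun u : Fin m → G => ψ (mix S y u x)) :=
  hψc.comp ((continuous_mix S).comp
    (continuous_const.prodMk (continuous_id.prodMk continuous_const)))

theorem integrable_psi_mix (hψc : Continuous ψ) (S : Finset (Fin (m + 1))) (y : G)
    (x : Fin (m + 1) → G) :
    Integrable (fun u : Fin m → G => ψ (mix S y u x)) (Measure.pi (fun _ : Fin m => μ)) :=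
  integrable_of_continuous_pi _ _ (continuous_psi_mix hψc S y x)

theorem Psi_rel (hψc : Continuous ψ)
    (hψ : ∀ (j : Fin (m + 1)), 0 ≠ j → ∀ (x : Fin (m + 1) → G) (a b c : G),
      ψ (Function.update (Function.update x 0 (a + b)) j c) +
        ψ (Function.update (Function.update x 0 a) j b) =
      ψ (Function.update (Function.update x 0 a) j (b + c)) +
        ψ (Function.update (Function.update x 0 b) j c))
    (S : Finset (Fin (m + 1))) (j : Fin (m + 1)) (hj : j ≠ 0) (hjS : j ∉ S) (y : G)
    (x : Fin (m + 1) → G) :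
    Psi μ ψ S y x = Psi μ ψ (insert j S) y x + Psi μ ψ (insert j S) (x j) x -
      Psi μ ψ (insert j S) (y + x j) x := by
  have hpt : ∀ u : Fin m → G, ψ (mix (insert j S) (y + x j) u x) + ψ (mix S y u x) =
      ψ (mix (insert j S) y (Pi.single (j.pred hj) (x j) + u) x) +
        ψ (mix (insert j S) (x j) u x) := by
    intro u
    have := hψ j (Ne.symm hj) (mix (insert j S) y u x) y (x j) (u (j.pred hj))
    rwa [update_mix_same, update_mix_x S j hj hjS, update_mix_add, update_mix_same] at this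
  have hint := integral_congr_ae (μ := Measure.pi (fun _ : Fin m => μ)) (ae_of_all _ hpt)
  rw [integral_add (integrable_psi_mix μ hψc _ _ _) (integrable_psi_mix μ hψc _ _ _),
    integral_add ?_ (integrable_psi_mix μ hψc _ _ _)] at hint
  · have htr := integral_add_left_eq_self (μ := Measure.pi (fun _ : Fin m => μ))
      (fun u => ψ (mix (insert j S) y u x)) (Pi.single (j.pred hj) (x j))
    rw [htr] at hint
    unfold Psi
    linarith
  · exact (integrable_psi_mix μ hψc (insert j S) y x).comp_add_left (Pi.single (j.pred hj) (x j))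

theorem Psi_empty (x : Fin (m + 1) → G) :
    Psi μ ψ ∅ (x 0) x = ψ x := by
  unfold Psi
  simp only [mix_empty, Function.update_eq_self]
  rw [integral_const, probReal_univ, one_smul]

theorem Psi_univ (y : G) (x : Fin (m + 1) → G) :
    Psi μ ψ (Finset.univ.erase 0) y x =
      ∫ u, ψ (Fin.cons y u) ∂(Measure.pi (fun _ : Fin m => μ)) := by
  unfold Psi
  simp only [mix_univ]

theorem sign_aux (k : ℕ) (z : ℝ) :
    (-1 : ℝ) ^ (m + 1 + k) * ((-1 : ℝ) ^ m * z) = -((-1 : ℝ) ^ k * z) := by
  have h2 : ((-1 : ℝ) ^ m) * ((-1 : ℝ) ^ m) = 1 := by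
    rw [← mul_pow]
    simp
  rw [pow_add, pow_add, pow_one]
  linear_combination (-((-1 : ℝ) ^ k * z)) * h2

/-- **Part 1**: `ψ` is the `(m+1)`-st deviation of `φ`. -/
theorem part1 (hψc : Continuous ψ)
    (hψ : ∀ (j : Fin (m + 1)), 0 ≠ j → ∀ (x : Fin (m + 1) → G) (a b c : G),
      ψ (Function.update (Function.update x 0 (a + b)) j c) +
        ψ (Function.update (Function.update x 0 a) j b) =
      ψ (Function.update (Function.update x 0 a) j (b + c)) +
        ψ (Function.update (Function.update x 0 b) j c))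
    (x : Fin (m + 1) → G) :
    ψ x = ∑ I ∈ ((Finset.univ : Finset (Fin (m + 1))).powerset.erase ∅),
      (-1 : ℝ) ^ (m + 1 + I.card) * ((-1 : ℝ) ^ m *
        ∫ u, ψ (Fin.cons (∑ i ∈ I, x i) u) ∂(Measure.pi (fun _ : Fin m => μ))) := by
  classical
  set T : Finset (Fin (m + 1)) := Finset.univ.erase 0 with hT
  have h0T : (0 : Fin (m + 1)) ∉ T := by simp [hT]
  have hins : (Finset.univ : Finset (Fin (m + 1))) = insert 0 T := by
    rw [hT, Finset.insert_erase (Finset.mem_univ _)]
  have hcomb := comb (fun S y => Psi μ ψ S y x) x T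
    (fun S _ j hjT hjS y => Psi_rel μ hψc hψ S j (by
      intro h
      exact h0T (h ▸ hjT)) hjS y x) T subset_rfl (x 0)
  have hJ : ∀ y, Psi μ ψ T y x =
      ∫ u, ψ (Fin.cons y u) ∂(Measure.pi (fun _ : Fin m => μ)) := fun y => Psi_univ μ y x
  simp only [hJ, Psi_empty μ x] at hcomb
  have hempty : (-1 : ℝ) ^ (m + 1 + (∅ : Finset (Fin (m + 1))).card) * ((-1 : ℝ) ^ m *
      ∫ u, ψ (Fin.cons (∑ i ∈ (∅ : Finset (Fin (m + 1))), x i) u)
        ∂(Measure.pi (fun _ : Fin m => μ))) =
      -∫ u, ψ (Fin.cons 0 u) ∂(Measure.pi (fun _ : Fin m => μ)) := by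
    rw [sign_aux, Finset.card_empty, pow_zero, one_mul, Finset.sum_empty]
  rw [hcomb, Finset.sum_erase_eq_sub (Finset.empty_mem_powerset _), hins,
    Finset.sum_powerset_insert h0T, ← Finset.sum_add_distrib, hempty, sub_neg_eq_add, add_comm]
  congr 1
  refine Finset.sum_congr rfl fun I hI => ?_
  have h0I : (0 : Fin (m + 1)) ∉ I := fun h => h0T (Finset.mem_powerset.mp hI h)
  rw [sign_aux, sign_aux, Finset.card_insert_of_notMem h0I, Finset.sum_insert h0I, pow_succ]
  ring

theorem continuous_cons :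
    Continuous (fun p : G × (Fin m → G) => (Fin.cons p.1 p.2 : Fin (m + 1) → G)) := by
  refine continuous_pi fun i => ?_
  refine Fin.cases ?_ (fun k => ?_) i
  · simp only [Fin.cons_zero]
    exact continuous_fst
  · simp only [Fin.cons_succ]
    exact (continuous_apply k).comp continuous_snd

/-- **Part 2**: `φ` is continuous. -/
theorem part2 (hψc : Continuous ψ) :
    Continuous (fun g : G => (-1 : ℝ) ^ m *
      ∫ u, ψ (Fin.cons g u) ∂(Measure.pi (fun _ : Fin m => μ))) := by
  refine continuous_const.mul ?_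
  exact continuous_integral_pi (Measure.pi (fun _ : Fin m => μ)) (fun g u => ψ (Fin.cons g u))
    (hψc.comp continuous_cons)

theorem integral_translate (φ' : G → ℝ) (g : G)
    (I : Finset (Fin (m + 1))) (h0I : (0 : Fin (m + 1)) ∉ I) (hI : I.Nonempty) :
    ∫ u, φ' (g + ∑ i ∈ I, (Fin.cons g u : Fin (m + 1) → G) i)
        ∂(Measure.pi (fun _ : Fin m => μ)) =
      ∫ u, φ' (∑ i ∈ I, (Fin.cons g u : Fin (m + 1) → G) i)
        ∂(Measure.pi (fun _ : Fin m => μ)) := by
  classical
  obtain ⟨j, hjI⟩ := hI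
  have hj0 : j ≠ 0 := fun h => h0I (h ▸ hjI)
  have htr := integral_add_left_eq_self (μ := Measure.pi (fun _ : Fin m => μ))
    (fun u => φ' (∑ i ∈ I, (Fin.cons g u : Fin (m + 1) → G) i)) (Pi.single (j.pred hj0) g)
  rw [← htr]
  refine integral_congr_ae (ae_of_all _ fun u => ?_)
  change φ' _ = φ' _
  congr 1
  have hterm : ∀ i ∈ I, (Fin.cons g (Pi.single (j.pred hj0) g + u) : Fin (m + 1) → G) i =
      (if i = j then g else 0) + (Fin.cons g u : Fin (m + 1) → G) i := by
    intro i hiI
    have hi0 : i ≠ 0 := fun h => h0I (h ▸ hiI)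
    obtain ⟨k, rfl⟩ := Fin.exists_succ_eq.mpr hi0
    rw [Fin.cons_succ, Fin.cons_succ, Pi.add_apply]
    congr 1
    by_cases hkj : k.succ = j
    · subst hkj
      simp
    · have : k ≠ j.pred hj0 := by
        intro h
        apply hkj
        rw [h, Fin.succ_pred]
      rw [Pi.single_eq_of_ne this, if_neg hkj]
  rw [Finset.sum_congr rfl hterm, Finset.sum_add_distrib, Finset.sum_ite_eq' I j, if_pos hjI]

/-- **Part 3**: uniqueness. -/
theorem part3 (φ' : G → ℝ) (hφ' : Continuous φ')
    (h : ∀ x : Fin (m + 1) → G,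
      ψ x = ∑ I ∈ ((Finset.univ : Finset (Fin (m + 1))).powerset.erase ∅),
        (-1 : ℝ) ^ (m + 1 + I.card) * φ' (∑ i ∈ I, x i)) :
    φ' = fun g => (-1 : ℝ) ^ m * ∫ u, ψ (Fin.cons g u) ∂(Measure.pi (fun _ : Fin m => μ)) := by
  classical
  funext g
  set T : Finset (Fin (m + 1)) := Finset.univ.erase 0 with hT
  have h0T : (0 : Fin (m + 1)) ∉ T := by simp [hT]
  have hins : (Finset.univ : Finset (Fin (m + 1))) = insert 0 T := by
    rw [hT, Finset.insert_erase (Finset.mem_univ _)]
  have hcont : ∀ I : Finset (Fin (m + 1)), Continuous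
      (fun u : Fin m → G => φ' (∑ i ∈ I, (Fin.cons g u : Fin (m + 1) → G) i)) := by
    intro I
    refine hφ'.comp (continuous_finsetSum _ fun i _ => ?_)
    exact (continuous_apply i).comp (continuous_cons.comp (continuous_const.prodMk continuous_id))
  have hintg : ∀ I : Finset (Fin (m + 1)), Integrable
      (fun u : Fin m → G => φ' (∑ i ∈ I, (Fin.cons g u : Fin (m + 1) → G) i))
      (Measure.pi (fun _ : Fin m => μ)) := fun I => integrable_of_continuous_pi _ _ (hcont I)
  have h1 : ∫ u, ψ (Fin.cons g u) ∂(Measure.pi (fun _ : Fin m => μ)) =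
      ∑ I ∈ ((Finset.univ : Finset (Fin (m + 1))).powerset.erase ∅),
        (-1 : ℝ) ^ (m + 1 + I.card) *
          ∫ u, φ' (∑ i ∈ I, (Fin.cons g u : Fin (m + 1) → G) i)
            ∂(Measure.pi (fun _ : Fin m => μ)) := by
    simp only [h]
    rw [integral_finsetSum _ fun I _ => (hintg I).const_mul _]
    refine Finset.sum_congr rfl fun I _ => ?_
    rw [integral_const_mul]
  have h2 : ∫ u, ψ (Fin.cons g u) ∂(Measure.pi (fun _ : Fin m => μ)) = (-1 : ℝ) ^ m * φ' g := by
    rw [h1, Finset.sum_erase_eq_sub (Finset.empty_mem_powerset _), hins,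
      Finset.sum_powerset_insert h0T, ← Finset.sum_add_distrib,
      Finset.sum_eq_single_of_mem ∅ (Finset.empty_mem_powerset _)]
    · simp only [Finset.card_empty, Finset.sum_empty, add_zero, insert_empty_eq,
        Finset.card_singleton, Finset.sum_singleton, Fin.cons_zero, integral_const, probReal_univ,
        one_smul, add_sub_cancel_left]
      rw [pow_add, pow_add, pow_one]
      ring
    · intro I hI hne
      have h0I : (0 : Fin (m + 1)) ∉ I := fun h => h0T (Finset.mem_powerset.mp hI h)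
      have hIne : I.Nonempty := Finset.nonempty_iff_ne_empty.mpr hne
      rw [Finset.card_insert_of_notMem h0I]
      simp only [Finset.sum_insert h0I, Fin.cons_zero]
      rw [integral_translate μ φ' g I h0I hIne, ← add_assoc, pow_succ]
      ring
  rw [h2, ← mul_assoc, ← mul_pow]
  simp

end main

end Groth.Agent.Lib.T2H2.HaarDev
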