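import Mathlib
import Groth.Agent.Lib.T2H2KillSys

/-!
# The kill system `Hom_{D(A)}(-[0], C)` (helper2)

For `C ∈ D(A)`, the class of module maps `φ : X ⟶ Y` such that every `ξ : Y[0] ⟶ C` in `D(A)` satisfies
`φ[0] ≫ ξ = 0` is a `KillSys`; an element `f` with `f • 𝟙 C = 0` is killed.
-/

set_option autoImplicit false
universe u
open CategoryTheory CategoryTheory.Limits
attribute [local instance] HasDerivedCategory.standard

namespace Groth.Agent.Lib.T2H2.HomKill

open Groth.Agent.Lib.T2H2.Kill DerivedCategory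

variable {A : Type u} [CommRing A]

/-- the module `X` as a complex in degree `0` -/
noncomputable abbrev sg : ModuleCat.{u} A ⥤ CochainComplex (ModuleCat.{u} A) ℤ :=
  HomologicalComplex.single (ModuleCat.{u} A) (ComplexShape.up ℤ) 0

lemma sg_map_smul (f : A) {X Y : ModuleCat.{u} A} (φ : X ⟶ Y) :
    (sg (A := A)).map (f • φ) = f • (sg (A := A)).map φ := by
  apply HomologicalComplex.from_single_hom_ext
  rw [HomologicalComplex.smul_f_apply, HomologicalComplex.single_map_f_self,
    HomologicalComplex.single_map_f_self]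
  simp only [Linear.smul_comp, Linear.comp_smul]

/-- the kill system of `C` -/
noncomputable def homKill (C : DerivedCategory (ModuleCat.{u} A)) : KillSys A where
  Z {X Y} φ := ∀ ξ : Q.obj ((sg (A := A)).obj Y) ⟶ C, Q.map ((sg (A := A)).map φ) ≫ ξ = 0
  zero X Y ξ := by
    rw [Functor.map_zero, Functor.map_zero, zero_comp]
  comp_left φ ψ hψ ξ := by
    rw [Functor.map_comp, Functor.map_comp, Category.assoc, hψ ξ, comp_zero]
  comp_right ψ hφ ξ := by
    rw [Functor.map_comp, Functor.map_comp, Category.assoc]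
    exact hφ _
  exact S hS W M φ ψ h1 h2 ξ := by
    have hS' := hS.map_of_exact (sg (A := A))
    have hT := triangleOfSES_distinguished hS'
    have h3 : (triangleOfSES hS').mor₁ ≫ (Q.map ((sg (A := A)).map ψ) ≫ ξ) = 0 := by
      have := h2 ξ
      rw [Functor.map_comp, Functor.map_comp, Category.assoc] at this
      exact this
    obtain ⟨ξ', hξ'⟩ := Pretriangulated.Triangle.yoneda_exact₂ _ hT _ h3
    rw [Functor.map_comp, Functor.map_comp, Category.assoc]
    refine (congrArg (fun t => Q.map ((sg (A := A)).map φ) ≫ t) hξ').trans ?_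
    have := h1 ξ'
    rw [Functor.map_comp, Functor.map_comp, Category.assoc] at this
    exact this

lemma homKill_Z_iff (C : DerivedCategory (ModuleCat.{u} A)) {X Y : ModuleCat.{u} A} (φ : X ⟶ Y) :
    (homKill C).Z φ ↔
      ∀ ξ : Q.obj ((sg (A := A)).obj Y) ⟶ C, Q.map ((sg (A := A)).map φ) ≫ ξ = 0 := Iff.rfl

lemma homKill_kills (C : DerivedCategory (ModuleCat.{u} A)) (f : A) (hf : f • 𝟙 C = 0) :
    (homKill C).Kills f := by
  intro X ξ
  rw [sg_map_smul, Functor.map_smul, Linear.smul_comp, CategoryTheory.Functor.map_id,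
    CategoryTheory.Functor.map_id, Category.id_comp]
  have : f • ξ = ξ ≫ (f • 𝟙 C) := by rw [Linear.comp_smul, Category.comp_id]
  rw [this, hf, comp_zero]

end Groth.Agent.Lib.T2H2.HomKill
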