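import Mathlib

/-!
# The affine Horrocks theorem over a local ring (Nashier–Nichols proof)

`R` local, `P` a finite projective `R[X]`-module, `F` monic, and maps `φ : P → R[X]^r`,
`ψ : R[X]^r → P` with `φ ψ = F`, `ψ φ = F` (a localisation-free way of saying that `P_F` is free of
rank `r`).  Then `P` is free (`horrocks_free`).
-/

set_option autoImplicit false
open Polynomial TensorProduct IsLocalRing
universe u v

namespace Groth.Agent.Lib.T2H2.Horr

attribute [local instance] Polynomial.algebra

section helpers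
variable {R : Type u} [CommRing R]

/-- multiplying by an element of `I[X]` lands in `I • ⊤` (as `R`-submodule). -/
lemma smul_mem_smul_top {Z : Type v} [AddCommGroup Z] [Module R[X] Z] [Module R Z]
    [IsScalarTower R R[X] Z] (I : Ideal R) {c : R[X]} (hc : c ∈ I.map (C : R →+* R[X])) (z : Z) :
    c • z ∈ (I • (⊤ : Submodule R Z)) := by
  rw [Ideal.mem_map_C_iff] at hc
  have h : c • z = ∑ n ∈ Finset.range (c.natDegree + 1), c.coeff n • ((X : R[X]) ^ n • z) := by
    conv_lhs => rw [c.as_sum_range_C_mul_X_pow]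
    rw [Finset.sum_smul]
    refine Finset.sum_congr rfl fun n _ => ?_
    rw [mul_smul, ← algebraMap_eq, algebraMap_smul]
  rw [h]
  exact Submodule.sum_mem _ fun n _ => Submodule.smul_mem_smul (hc n) Submodule.mem_top

/-- A module over `R[X]`, finitely generated and killed by a monic polynomial, is finite over `R`. -/
lemma finite_of_monic_smul {Z : Type v} [AddCommGroup Z] [Module R[X] Z] [Module R Z]
    [IsScalarTower R R[X] Z] [Module.Finite R[X] Z] (χ : R[X]) (hχ : χ.Monic)
    (h : ∀ z : Z, χ • z = 0) : Module.Finite R Z := by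
  nontriviality R
  obtain ⟨n, s, hs⟩ := Module.Finite.exists_fin (R := R[X]) (M := Z)
  let d := χ.natDegree
  let Φ : (Fin n → degreeLT R d) →ₗ[R] Z :=
    ∑ i, (((LinearMap.toSpanSingleton R[X] Z (s i)).restrictScalars R) ∘ₗ
      (degreeLT R d).subtype ∘ₗ (LinearMap.proj i : (Fin n → degreeLT R d) →ₗ[R] degreeLT R d))
  have hΦ : ∀ v, Φ v = ∑ i, ((v i : R[X])) • s i := by
    intro v
    simp [Φ, LinearMap.sum_apply]
  haveI : Module.Finite R (degreeLT R d) := Module.Finite.equiv (degreeLTEquiv R d).symm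
  refine Module.Finite.of_surjective Φ ?_
  intro z
  have hz : z ∈ Submodule.span R[X] (Set.range s) := by rw [hs]; trivial
  obtain ⟨c, rfl⟩ := (Submodule.mem_span_range_iff_exists_fun _).1 hz
  refine ⟨fun i => ⟨c i %ₘ χ, ?_⟩, ?_⟩
  · rw [mem_degreeLT]
    exact lt_of_lt_of_le (degree_modByMonic_lt _ hχ) (degree_le_natDegree)
  · rw [hΦ]
    refine Finset.sum_congr rfl fun i _ => ?_
    conv_rhs => rw [← modByMonic_add_div (c i) χ, add_smul, mul_smul, h, add_zero]

/-- In a free module of rank `≥ 2` over `K[X]`, every vector is killed by a surjective functional. -/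
lemma exists_functional {K : Type u} [Field K] {ι : Type v} [Fintype ι] [DecidableEq ι]
    (i₀ i₁ : ι) (h01 : i₀ ≠ i₁) (x : ι → K[X]) :
    ∃ ℓ : (ι → K[X]) →ₗ[K[X]] K[X], ℓ x = 0 ∧ ∃ w, ℓ w = 1 := by
  classical
  set a := x i₀ with ha
  set b := x i₁ with hb
  set d := EuclideanDomain.gcd a b with hd
  by_cases hd0 : d = 0
  · obtain ⟨ha0, hb0⟩ := EuclideanDomain.gcd_eq_zero_iff.1 hd0
    refine ⟨LinearMap.proj i₀, ?_, Pi.single i₀ 1, ?_⟩
    · simpa [ha] using ha0
    · simp
  · have hda : d * (a / d) = a := EuclideanDomain.mul_div_cancel' hd0 (EuclideanDomain.gcd_dvd_left a b)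
    have hdb : d * (b / d) = b := EuclideanDomain.mul_div_cancel' hd0 (EuclideanDomain.gcd_dvd_right a b)
    obtain ⟨y₀, hy₀⟩ : ∃ y₀, y₀ = a / d := ⟨_, rfl⟩
    obtain ⟨y₁, hy₁⟩ : ∃ y₁, y₁ = b / d := ⟨_, rfl⟩
    rw [← hy₀] at hda
    rw [← hy₁] at hdb
    have hbez : y₀ * EuclideanDomain.gcdA a b + y₁ * EuclideanDomain.gcdB a b = 1 := by
      have h := EuclideanDomain.gcd_eq_gcd_ab a b
      rw [← hd] at h
      apply mul_left_cancel₀ hd0
      calc d * (y₀ * EuclideanDomain.gcdA a b + y₁ * EuclideanDomain.gcdB a b)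
          = (d * y₀) * EuclideanDomain.gcdA a b + (d * y₁) * EuclideanDomain.gcdB a b := by ring
        _ = d * 1 := by rw [hda, hdb, mul_one]; exact h.symm
    refine ⟨y₁ • LinearMap.proj i₀ - y₀ • LinearMap.proj i₁, ?_,
      Pi.single i₀ (EuclideanDomain.gcdB a b) - Pi.single i₁ (EuclideanDomain.gcdA a b), ?_⟩
    · simp only [LinearMap.sub_apply, LinearMap.smul_apply, LinearMap.proj_apply, smul_eq_mul]
      calc y₁ * x i₀ - y₀ * x i₁ = y₁ * (d * y₀) - y₀ * (d * y₁) := by rw [hda, hdb]
        _ = 0 := by ring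
    · simp only [LinearMap.sub_apply, LinearMap.smul_apply, LinearMap.proj_apply, smul_eq_mul,
        Pi.sub_apply, Pi.single_eq_same, Pi.single_eq_of_ne h01, Pi.single_eq_of_ne h01.symm]
      linear_combination hbez

section alg
variable {B : Type u} [CommRing B]

/-- extension by zero at index `0`. -/
def extZero (r : ℕ) : (Fin (r + 1) → B) →ₗ[B] (Fin (r + 2) → B) :=
  LinearMap.pi (Fin.cases (motive := fun _ => (Fin (r + 1) → B) →ₗ[B] B) 0
    (fun i => LinearMap.proj i))

@[simp] lemma extZero_zero (r : ℕ) (y : Fin (r + 1) → B) : extZero r y 0 = 0 := by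
  simp [extZero]

@[simp] lemma extZero_succ (r : ℕ) (y : Fin (r + 1) → B) (i : Fin (r + 1)) :
    extZero r y i.succ = y i := by
  simp [extZero]

/-- The splitting step: pure algebra. -/
theorem nn_step {P : Type v} [AddCommGroup P] [Module B P] (r : ℕ)
    (F : B) (φ : P →ₗ[B] (Fin (r + 2) → B))
    (ψ : (Fin (r + 2) → B) →ₗ[B] P) (h1 : ∀ y, φ (ψ y) = F • y)
    (h2 : ∀ x, ψ (φ x) = F • x) (p : P) (lam : P →ₗ[B] B) (hlam : lam p = 1) :
    ∃ (φ' : LinearMap.ker lam →ₗ[B] (Fin (r + 1) → B))
      (ψ' : (Fin (r + 1) → B) →ₗ[B] LinearMap.ker lam),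
      (∀ y, φ' (ψ' y) = (F * (φ p) 0) • y) ∧ (∀ x, ψ' (φ' x) = (F * (φ p) 0) • x) := by
  set G := (φ p) 0 with hG
  let φ0 : P →ₗ[B] (Fin (r + 1) → B) :=
    LinearMap.pi fun i => G • (LinearMap.proj i.succ ∘ₗ φ) - (φ p) i.succ • (LinearMap.proj 0 ∘ₗ φ)
  have hφ0 : ∀ x i, φ0 x i = G * (φ x) i.succ - (φ p) i.succ * (φ x) 0 := by
    intro x i
    simp [φ0]
  let pr : P →ₗ[B] LinearMap.ker lam :=
    LinearMap.codRestrict (LinearMap.ker lam) (LinearMap.id - lam.smulRight p) (by
      intro x
      rw [LinearMap.mem_ker]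
      simp [hlam])
  have hpr : ∀ x, ((pr x : LinearMap.ker lam) : P) = x - lam x • p := by
    intro x
    simp [pr]
  refine ⟨φ0 ∘ₗ (LinearMap.ker lam).subtype, pr ∘ₗ ψ ∘ₗ extZero r, ?_, ?_⟩
  · intro y
    funext i
    simp only [LinearMap.comp_apply, Submodule.subtype_apply, hφ0, hpr, map_sub, map_smul, h1,
      Pi.sub_apply, Pi.smul_apply, extZero_succ, extZero_zero, smul_eq_mul, ← hG]
    ring
  · intro x
    apply Subtype.ext
    have hx : lam (x : P) = 0 := x.2
    have hext : extZero r (φ0 (x : P)) = G • φ (x : P) - (φ (x : P)) 0 • φ p := by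
      funext j
      refine Fin.cases ?_ (fun i => ?_) j
      · rw [extZero_zero, Pi.sub_apply, Pi.smul_apply, Pi.smul_apply, smul_eq_mul, smul_eq_mul]
        ring
      · rw [extZero_succ, hφ0, Pi.sub_apply, Pi.smul_apply, Pi.smul_apply, smul_eq_mul, smul_eq_mul]
        ring
    have h3 : ((pr ∘ₗ ψ ∘ₗ extZero r) ((φ0 ∘ₗ (LinearMap.ker lam).subtype) x) : P) =
        ψ (extZero r (φ0 (x : P))) - lam (ψ (extZero r (φ0 (x : P)))) • p := hpr _
    rw [h3, hext, map_sub, map_smul, map_smul, h2, h2, map_sub, map_smul, map_smul, map_smul, hx,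
      map_smul, hlam, Submodule.coe_smul]
    simp only [smul_eq_mul, mul_zero, mul_one, smul_zero, zero_sub, neg_smul]
    module

/-- A unimodular element splits off a free rank one summand. -/
lemma ker_split {P : Type v} [AddCommGroup P] [Module B P] (lam : P →ₗ[B] B) (p : P)
    (hlam : lam p = 1) : Nonempty (P ≃ₗ[B] B × LinearMap.ker lam) := by
  let pr : P →ₗ[B] LinearMap.ker lam :=
    LinearMap.codRestrict (LinearMap.ker lam) (LinearMap.id - lam.smulRight p) (by
      intro x
      rw [LinearMap.mem_ker]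
      simp [hlam])
  have hpr : ∀ x, ((pr x : LinearMap.ker lam) : P) = x - lam x • p := by
    intro x
    simp [pr]
  refine ⟨LinearEquiv.ofLinearMap (LinearMap.prod lam pr)
    ((LinearMap.toSpanSingleton B P p).coprod (LinearMap.ker lam).subtype) ?_ ?_⟩
  · refine LinearMap.ext fun ⟨b, y⟩ => ?_
    have hy : lam (y : P) = 0 := y.2
    refine Prod.ext ?_ (Subtype.ext ?_)
    · simp [hlam, hy]
    · simp [hpr, hlam, hy]
  · refine LinearMap.ext fun x => ?_
    simp [hpr]

end alg

variable [IsLocalRing R]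

/-- Nakayama in the form we need. -/
lemma nakayama_top {Z : Type v} [AddCommGroup Z] [Module R Z] [Module.Finite R Z]
    (W : Submodule R Z)
    (h : ∀ z : Z, ∃ w ∈ W, z - w ∈ (maximalIdeal R • (⊤ : Submodule R Z))) : W = ⊤ := by
  refine top_le_iff.1 ?_
  refine Submodule.le_of_le_smul_of_le_jacobson_bot (I := maximalIdeal R) Module.Finite.fg_top ?_ ?_
  · rw [IsLocalRing.jacobson_eq_maximalIdeal ⊥ bot_ne_top]
  · intro z _
    obtain ⟨w, hw, hzw⟩ := h z
    have : z = w + (z - w) := by abel
    rw [this]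
    exact Submodule.add_mem_sup hw hzw

lemma ker_pi : RingHom.ker (mapRingHom (residue R)) = (maximalIdeal R).map (C : R →+* R[X]) := by
  rw [Polynomial.ker_mapRingHom, ker_residue]

lemma mem_mapC_iff_pi {c : R[X]} :
    c ∈ (maximalIdeal R).map (C : R →+* R[X]) ↔ c.map (residue R) = 0 := by
  rw [← ker_pi, RingHom.mem_ker, coe_mapRingHom]

lemma coord_mem_of_mem_smul_top {n : ℕ} {v : Fin n → R[X]}
    (hv : v ∈ (maximalIdeal R • (⊤ : Submodule R (Fin n → R[X])))) (j : Fin n) :
    v j ∈ (maximalIdeal R).map (C : R →+* R[X]) := by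
  refine Submodule.smul_induction_on hv ?_ ?_
  · intro m hm w _
    rw [Pi.smul_apply, smul_eq_C_mul]
    exact Ideal.mul_mem_right _ _ (Ideal.mem_map_of_mem _ hm)
  · intro x y hx hy
    rw [Pi.add_apply]; exact Ideal.add_mem _ hx hy

/-- A monic polynomial is a nonzerodivisor on `P/𝔪P` for `P` finite projective over `R[X]`. -/
lemma reg_mod {P : Type v} [AddCommGroup P] [Module R[X] P] [Module R P]
    [IsScalarTower R R[X] P] [Module.Finite R[X] P] [Module.Projective R[X] P]
    (F : R[X]) (hF : F.Monic) (y : P)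
    (hy : F • y ∈ (maximalIdeal R • (⊤ : Submodule R P))) :
    y ∈ (maximalIdeal R • (⊤ : Submodule R P)) := by
  obtain ⟨n, f, g, -, -, hfg⟩ := Module.Finite.exists_comp_eq_id_of_projective R[X] P
  have hg : ∀ x : P, x ∈ (maximalIdeal R • (⊤ : Submodule R P)) →
      g x ∈ (maximalIdeal R • (⊤ : Submodule R (Fin n → R[X]))) := by
    intro x hx
    refine Submodule.smul_induction_on hx ?_ ?_
    · intro m hm w _
      have : g (m • w) = m • g w := by
        rw [← algebraMap_smul R[X] m w, map_smul, algebraMap_smul]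
      rw [this]
      exact Submodule.smul_mem_smul hm Submodule.mem_top
    · intro x y hx hy
      rw [map_add]; exact Submodule.add_mem _ hx hy
  have h1 : ∀ j, (g y) j ∈ (maximalIdeal R).map (C : R →+* R[X]) := by
    intro j
    have h2 := coord_mem_of_mem_smul_top (hg _ hy) j
    rw [map_smul, Pi.smul_apply, smul_eq_mul, mem_mapC_iff_pi, Polynomial.map_mul] at h2
    rw [mem_mapC_iff_pi]
    have hFm : (F.map (residue R)).Monic := hF.map _
    rcases mul_eq_zero.1 h2 with h3 | h3
    · exact absurd h3 hFm.ne_zero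
    · exact h3
  have h3 : y = f (g y) := by
    have := LinearMap.congr_fun hfg y
    simpa using this.symm
  rw [h3, LinearMap.pi_apply_eq_sum_univ f (g y)]
  exact Submodule.sum_mem _ fun j _ => smul_mem_smul_top _ (h1 j) _

/-- Nashier–Nichols: an ideal of `R[X]` (`R` local) containing a monic polynomial and an element
congruent to `1` modulo `𝔪` is the unit ideal. -/
lemma ideal_eq_top_of_monic (I : Ideal R[X]) (F : R[X]) (hF : F.Monic) (hFI : F ∈ I)
    (x : R[X]) (hxI : x ∈ I) (hx : x.map (residue R) = 1) : I = ⊤ := by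
  haveI : Module.Finite R (R[X] ⧸ I) := by
    refine finite_of_monic_smul F hF ?_
    intro z
    obtain ⟨b, rfl⟩ := Submodule.Quotient.mk_surjective I z
    rw [← Submodule.Quotient.mk_smul, Submodule.Quotient.mk_eq_zero, smul_eq_mul]
    exact Ideal.mul_mem_right _ _ hFI
  have hW := nakayama_top (R := R) (Z := R[X] ⧸ I) ⊥ ?_
  · have h1 : (1 : R[X] ⧸ I) ∈ (⊥ : Submodule R (R[X] ⧸ I)) := by rw [hW]; trivial
    rw [Submodule.mem_bot, ← map_one (Ideal.Quotient.mk I), Ideal.Quotient.eq_zero_iff_mem] at h1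
    exact (Ideal.eq_top_iff_one I).2 h1
  · intro z
    obtain ⟨b, rfl⟩ := Submodule.Quotient.mk_surjective I z
    refine ⟨0, Submodule.zero_mem _, ?_⟩
    rw [sub_zero]
    have h1 : (Submodule.Quotient.mk b : R[X] ⧸ I) = (1 - x) • Submodule.Quotient.mk b := by
      rw [sub_smul, one_smul, ← Submodule.Quotient.mk_smul, eq_comm, sub_eq_self,
        Submodule.Quotient.mk_eq_zero, smul_eq_mul]
      exact Ideal.mul_mem_right _ _ hxI
    rw [h1]
    refine smul_mem_smul_top _ ?_ _
    rw [mem_mapC_iff_pi, Polynomial.map_sub, hx, Polynomial.map_one, sub_self]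

lemma map_mem_smul_top {P Q : Type v} [AddCommGroup P] [Module R P] [AddCommGroup Q] [Module R Q]
    (f : P →ₗ[R] Q) {x : P} (hx : x ∈ (maximalIdeal R • (⊤ : Submodule R P))) :
    f x ∈ (maximalIdeal R • (⊤ : Submodule R Q)) := by
  refine Submodule.smul_induction_on hx ?_ ?_
  · intro m hm w _
    rw [map_smul]
    exact Submodule.smul_mem_smul hm Submodule.mem_top
  · intro x y hx hy
    rw [map_add]; exact Submodule.add_mem _ hx hy

/-- The rank one case of the affine Horrocks theorem. -/
theorem free_rank_one {P : Type v} [AddCommGroup P] [Module R[X] P] [Module R P]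
    [IsScalarTower R R[X] P] [Module.Finite R[X] P] [Module.Projective R[X] P]
    (F : R[X]) (hF : F.Monic) (φ₁ : P →ₗ[R[X]] R[X]) (p₀ : P) (h1 : φ₁ p₀ = F)
    (h2 : ∀ x, F • x = φ₁ x • p₀) : Module.Free R[X] P := by
  have hreg : ∀ G : R[X], G.Monic → ∀ x : P, G • x = 0 → x = 0 := by
    intro G hG x hx
    have := Module.Flat.isSMulRegular_of_isRegular (M := P) hG.isRegular
    exact this (by simpa using hx)
  have hinj : Function.Injective φ₁ := by
    rw [injective_iff_map_eq_zero]
    intro x hx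
    exact hreg F hF x (by rw [h2, hx, zero_smul])
  set π := mapRingHom (residue R) with hπ
  have hπs : Function.Surjective π := Polynomial.map_surjective _ residue_surjective
  let J' : Ideal R[X] := LinearMap.range φ₁
  have hFJ : F ∈ J' := ⟨p₀, h1⟩
  let Jb : Ideal (ResidueField R)[X] := J'.map π
  have hJb : Jb ≠ ⊥ := by
    intro h
    have : π F ∈ Jb := Ideal.mem_map_of_mem _ hFJ
    rw [h, Ideal.mem_bot] at this
    exact (hF.map (residue R)).ne_zero this
  obtain ⟨c, hc, hJc⟩ := Polynomial.exists_monic_span Jb hJb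
  set d := c.natDegree with hd
  -- step 1: a monic of degree d in J'
  haveI : Module.Finite R (R[X] ⧸ J') := by
    refine finite_of_monic_smul F hF ?_
    intro z
    obtain ⟨b, rfl⟩ := Submodule.Quotient.mk_surjective J' z
    rw [← Submodule.Quotient.mk_smul, Submodule.Quotient.mk_eq_zero, smul_eq_mul]
    exact Ideal.mul_mem_right _ _ hFJ
  let mkR : R[X] →ₗ[R] (R[X] ⧸ J') := (Submodule.mkQ J').restrictScalars R
  have hW := nakayama_top (R := R) (Z := R[X] ⧸ J') ((degreeLT R d).map mkR) ?_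
  swap
  · intro z
    obtain ⟨b, rfl⟩ := Submodule.Quotient.mk_surjective J' z
    have hrlift : (π b %ₘ c) ∈ lifts (residue R) :=
      (mem_lifts _).2 (Polynomial.map_surjective _ residue_surjective _)
    obtain ⟨r₀, hr₀, hr₀d⟩ := exists_degree_eq_of_mem_lifts hrlift
    have hcq : c * (π b /ₘ c) ∈ Jb := by
      rw [hJc]; exact Ideal.mul_mem_right _ _ (Ideal.mem_span_singleton_self c)
    obtain ⟨j, hj, hjc⟩ := (Ideal.mem_map_iff_of_surjective π hπs).1 hcq
    refine ⟨mkR r₀, Submodule.mem_map_of_mem ?_, ?_⟩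
    · rw [mem_degreeLT, hr₀d]
      exact lt_of_lt_of_le (degree_modByMonic_lt _ hc) degree_le_natDegree
    · have h3 : (Submodule.Quotient.mk b : R[X] ⧸ J') - mkR r₀ =
          (b - r₀ - j) • (Submodule.Quotient.mk (1 : R[X]) : R[X] ⧸ J') := by
        rw [← Submodule.Quotient.mk_smul, smul_eq_mul, mul_one]
        show Submodule.Quotient.mk b - Submodule.Quotient.mk r₀ = _
        rw [← Submodule.Quotient.mk_sub, eq_comm, ← sub_eq_zero, ← Submodule.Quotient.mk_sub,
          Submodule.Quotient.mk_eq_zero]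
        have : b - r₀ - j - (b - r₀) = -j := by ring
        rw [this]
        exact J'.neg_mem hj
      rw [h3]
      refine smul_mem_smul_top _ ?_ _
      rw [mem_mapC_iff_pi]
      have h4 : π (b - r₀ - j) = 0 := by
        rw [map_sub, map_sub, hjc]
        have : π r₀ = π b %ₘ c := hr₀
        rw [this]
        have := modByMonic_add_div (π b) c
        linear_combination -this
      exact h4
  have hXd : mkR (X ^ d) ∈ (degreeLT R d).map mkR := by rw [hW]; trivial
  obtain ⟨r, hr, hrX⟩ := hXd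
  have hχJ : X ^ d - r ∈ J' := by
    have : (Submodule.Quotient.mk (X ^ d - r) : R[X] ⧸ J') = 0 := by
      rw [Submodule.Quotient.mk_sub]
      have h5 : (Submodule.Quotient.mk r : R[X] ⧸ J') = Submodule.Quotient.mk (X ^ d) := hrX
      rw [h5, sub_self]
    exact (Submodule.Quotient.mk_eq_zero J').1 this
  rw [SetLike.mem_coe, mem_degreeLT] at hr
  have hχm : (X ^ d - r).Monic := monic_X_pow_sub hr
  set χ := X ^ d - r with hχ
  have hχd : χ.natDegree = d := by
    rw [hχ]
    refine natDegree_eq_of_degree_eq_some ?_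
    rw [degree_sub_eq_left_of_degree_lt (by rwa [degree_X_pow]), degree_X_pow]
  have hπχ : π χ = c := by
    have h6 : π χ ∈ Jb := Ideal.mem_map_of_mem _ hχJ
    rw [hJc, Ideal.mem_span_singleton] at h6
    refine eq_of_monic_of_dvd_of_natDegree_le hc (hχm.map _) h6 ?_
    show (χ.map (residue R)).natDegree ≤ _
    rw [hχm.natDegree_map, hχd]
  obtain ⟨pχ, hpχ⟩ := hχJ
  have hk : ∀ x, χ • x = φ₁ x • pχ := by
    intro x
    apply hinj
    rw [map_smul, map_smul, hpχ, smul_eq_mul, smul_eq_mul, mul_comm]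
  -- step 2: pχ generates P
  let N : Submodule R[X] P := Submodule.span R[X] {pχ}
  haveI : Module.Finite R (P ⧸ N) := by
    refine finite_of_monic_smul χ hχm ?_
    intro z
    obtain ⟨x, rfl⟩ := Submodule.Quotient.mk_surjective N z
    rw [← Submodule.Quotient.mk_smul, Submodule.Quotient.mk_eq_zero, hk]
    exact Submodule.smul_mem _ _ (Submodule.mem_span_singleton_self _)
  have hZ := nakayama_top (R := R) (Z := P ⧸ N) ⊥ ?_
  swap
  · intro z
    obtain ⟨x, rfl⟩ := Submodule.Quotient.mk_surjective N z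
    refine ⟨0, Submodule.zero_mem _, ?_⟩
    rw [sub_zero]
    have h7 : π (φ₁ x) ∈ Jb := Ideal.mem_map_of_mem _ ⟨x, rfl⟩
    rw [hJc, Ideal.mem_span_singleton, ← hπχ] at h7
    obtain ⟨qb, hqb⟩ := h7
    obtain ⟨b, rfl⟩ := hπs qb
    set y := x - b • pχ with hy
    have h8 : (Submodule.Quotient.mk x : P ⧸ N) = Submodule.Quotient.mk y := by
      rw [hy, Submodule.Quotient.mk_sub, eq_comm, sub_eq_self, Submodule.Quotient.mk_eq_zero]
      exact Submodule.smul_mem _ _ (Submodule.mem_span_singleton_self _)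
    rw [h8]
    have h9 : φ₁ y ∈ (maximalIdeal R).map (C : R →+* R[X]) := by
      rw [mem_mapC_iff_pi]
      show π (φ₁ y) = 0
      rw [hy, map_sub, map_smul, hpχ, smul_eq_mul, map_sub, hqb, map_mul, mul_comm, sub_self]
    have h10 : y ∈ (maximalIdeal R • (⊤ : Submodule R P)) := by
      refine reg_mod F hF y ?_
      rw [h2]
      exact smul_mem_smul_top _ h9 _
    exact map_mem_smul_top ((Submodule.mkQ N).restrictScalars R) h10
  have hN : N = ⊤ := by
    rw [eq_top_iff]
    intro x _
    have : (Submodule.Quotient.mk x : P ⧸ N) ∈ (⊥ : Submodule R (P ⧸ N)) := by rw [hZ]; trivial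
    rw [Submodule.mem_bot] at this
    exact (Submodule.Quotient.mk_eq_zero N).1 this
  have hbij : Function.Bijective (LinearMap.toSpanSingleton R[X] P pχ) := by
    constructor
    · rw [injective_iff_map_eq_zero]
      intro b hb
      rw [LinearMap.toSpanSingleton_apply] at hb
      have := congrArg φ₁ hb
      rw [map_smul, hpχ, map_zero, smul_eq_mul] at this
      exact hχm.isRegular.right.eq_iff.1 (by rw [this, zero_mul])
    · intro x
      have : x ∈ N := by rw [hN]; trivial
      obtain ⟨b, hb⟩ := Submodule.mem_span_singleton.1 this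
      exact ⟨b, by rw [LinearMap.toSpanSingleton_apply, hb]⟩
  exact Module.Free.of_equiv (LinearEquiv.ofBijective _ hbij)

lemma exists_one_tmul {P : Type v} [AddCommGroup P] [Module R[X] P]
    (z : (ResidueField R)[X] ⊗[R[X]] P) : ∃ x : P, z = 1 ⊗ₜ x := by
  induction z using TensorProduct.induction_on with
  | zero => exact ⟨0, by simp⟩
  | tmul c x =>
    obtain ⟨b, rfl⟩ := Polynomial.map_surjective _ residue_surjective c
    refine ⟨b • x, ?_⟩
    rw [← TensorProduct.smul_tmul, Algebra.smul_def, mul_one]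
    rfl
  | add z w hz hw =>
    obtain ⟨x, rfl⟩ := hz
    obtain ⟨y, rfl⟩ := hw
    exact ⟨x + y, by rw [TensorProduct.tmul_add]⟩

/-- Nashier–Nichols: a unimodular element whose order ideal contains a monic. -/
theorem nn_unimodular {P : Type v} [AddCommGroup P] [Module R[X] P]
    [Module.Finite R[X] P] [Module.Projective R[X] P] (r : ℕ)
    (F : R[X]) (hF : F.Monic) (φ : P →ₗ[R[X]] (Fin (r + 2) → R[X]))
    (ψ : (Fin (r + 2) → R[X]) →ₗ[R[X]] P) (h1 : ∀ y, φ (ψ y) = F • y) :
    ∃ (p : P) (lam : P →ₗ[R[X]] R[X]), lam p = 1 ∧ ((φ p) 0).Monic := by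
  classical
  let k := ResidueField R
  have hπF : (F.map (residue R)) ≠ 0 := (hF.map _).ne_zero
  -- rank of the reduction
  have hrank : r + 2 ≤ Module.finrank k[X] (k[X] ⊗[R[X]] P) := by
    have hinj : Function.Injective (ψ.baseChange k[X]) := by
      rw [injective_iff_map_eq_zero]
      intro z hz
      have h3 : (φ.baseChange k[X]) ((ψ.baseChange k[X]) z) = (algebraMap R[X] k[X] F) • z := by
        rw [← LinearMap.comp_apply, ← LinearMap.baseChange_comp]
        have : φ ∘ₗ ψ = F • LinearMap.id := by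
          refine LinearMap.ext fun y => ?_
          rw [LinearMap.comp_apply, h1, LinearMap.smul_apply, LinearMap.id_apply]
        rw [this, LinearMap.baseChange_smul, LinearMap.baseChange_id, LinearMap.smul_apply,
          LinearMap.id_apply]
        exact (algebraMap_smul k[X] F z).symm
      rw [hz, map_zero] at h3
      have hreg : IsRegular (algebraMap R[X] k[X] F) := IsRegular.of_ne_zero hπF
      exact (hreg.isSMulRegular (M := k[X] ⊗[R[X]] (Fin (r + 2) → R[X]))) (by
        simpa using h3.symm)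
    have := LinearMap.finrank_le_finrank_of_injective hinj
    rwa [Module.finrank_baseChange, Module.finrank_fin_fun] at this
  let bas := Module.finBasis k[X] (k[X] ⊗[R[X]] P)
  let θ := bas.equivFun
  let p0 : P := ψ (fun j => if (0 : Fin (r + 2)) = j then 1 else 0)
  obtain ⟨ℓ, hℓ0, w, hw⟩ := exists_functional
    (⟨0, by omega⟩ : Fin (Module.finrank k[X] (k[X] ⊗[R[X]] P))) ⟨1, by omega⟩
    (by simp [Fin.ext_iff]) (θ ((1 : k[X]) ⊗ₜ[R[X]] p0))
  let μ : P →ₗ[R[X]] k[X] :=
    ((ℓ ∘ₗ θ.toLinearMap).restrictScalars R[X]) ∘ₗ (TensorProduct.mk R[X] k[X] P 1)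
  have hμ : ∀ x, μ x = ℓ (θ ((1 : k[X]) ⊗ₜ[R[X]] x)) := fun x => rfl
  obtain ⟨q, hq⟩ : ∃ q, μ q = 1 := by
    obtain ⟨q, hq⟩ := exists_one_tmul (θ.symm w)
    refine ⟨q, ?_⟩
    rw [hμ, ← hq, LinearEquiv.apply_symm_apply, hw]
  have hsurj : Function.Surjective (Algebra.linearMap R[X] k[X]) :=
    Polynomial.map_surjective _ residue_surjective
  obtain ⟨lam0, hlam0⟩ := Module.projective_lifting_property (Algebra.linearMap R[X] k[X]) μ hsurj
  have hlam0' : ∀ x, (lam0 x).map (residue R) = μ x := fun x => LinearMap.congr_fun hlam0 x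
  set N := ((φ q) 0).natDegree + 1 with hN
  set p := q + (X : R[X]) ^ N • p0 with hp
  have hφp0 : φ p0 = F • (fun j => if (0 : Fin (r + 2)) = j then 1 else 0) := h1 _
  have hG : (φ p) 0 = (φ q) 0 + X ^ N * F := by
    rw [hp, map_add, map_smul, hφp0]
    simp
  have hGm : ((φ p) 0).Monic := by
    rw [hG]
    refine Monic.add_of_right ((monic_X_pow N).mul hF) ?_
    rw [hF.degree_mul, degree_X_pow]
    have h5 : ((φ q) 0).degree < (N : WithBot ℕ) := by
      refine lt_of_le_of_lt degree_le_natDegree ?_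
      rw [hN]; exact_mod_cast Nat.lt_succ_self _
    refine lt_of_lt_of_le h5 ?_
    have h6 : (0 : WithBot ℕ) ≤ F.degree := by
      rw [degree_eq_natDegree hF.ne_zero]; exact_mod_cast Nat.zero_le _
    calc (N : WithBot ℕ) = N + 0 := by simp
      _ ≤ N + F.degree := by gcongr
  let I : Ideal R[X] := LinearMap.range (LinearMap.applyₗ (R := R[X]) (M₂ := R[X]) p)
  have hI : I = ⊤ := by
    refine ideal_eq_top_of_monic I _ hGm ⟨LinearMap.proj 0 ∘ₗ φ, rfl⟩ (lam0 p) ⟨lam0, rfl⟩ ?_
    rw [hlam0', hp, map_add, map_smul, hq]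
    have : μ p0 = 0 := by rw [hμ]; exact hℓ0
    rw [this, smul_zero, add_zero]
  have h1I : (1 : R[X]) ∈ I := by rw [hI]; trivial
  obtain ⟨lam, hlam⟩ := h1I
  exact ⟨p, lam, hlam, hGm⟩

/-- **Affine Horrocks** (local case): a finite projective module over `R[X]`, `R` local, which is
isogenous to a free module via a monic polynomial, is free. -/
theorem horrocks_free : ∀ (r : ℕ) (P : Type v) [AddCommGroup P] [Module R[X] P] [Module R P]
    [IsScalarTower R R[X] P] [Module.Finite R[X] P] [Module.Projective R[X] P]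
    (F : R[X]) (_ : F.Monic) (φ : P →ₗ[R[X]] (Fin r → R[X]))
    (ψ : (Fin r → R[X]) →ₗ[R[X]] P), (∀ y, φ (ψ y) = F • y) → (∀ x, ψ (φ x) = F • x) →
    Module.Free R[X] P := by
  intro r
  induction r with
  | zero =>
    intro P _ _ _ _ _ _ F hF φ ψ h1 h2
    haveI : Subsingleton P := by
      refine ⟨fun x y => ?_⟩
      have h0 : ∀ z : P, z = 0 := by
        intro z
        have h3 : F • z = 0 := by
          rw [← h2, Subsingleton.elim (φ z) 0, map_zero]
        have := Module.Flat.isSMulRegular_of_isRegular (M := P) hF.isRegular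
        exact this (by simpa using h3)
      rw [h0 x, h0 y]
    infer_instance
  | succ r ih =>
    intro P _ _ _ _ _ _ F hF φ ψ h1 h2
    rcases r with _ | r
    · refine free_rank_one F hF (LinearMap.proj 0 ∘ₗ φ) (ψ (fun _ => 1)) ?_ ?_
      · rw [LinearMap.comp_apply, h1]
        simp
      · intro x
        have h3 : φ x = (φ x) 0 • (fun _ => (1 : R[X])) := by
          funext i
          have hi : i = 0 := Fin.ext (Nat.lt_one_iff.1 i.2)
          rw [hi]
          simp
        rw [← h2]
        conv_lhs => rw [h3, map_smul]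
        rfl
    · obtain ⟨p, lam, hlam, hGm⟩ := nn_unimodular r F hF φ ψ h1
      obtain ⟨φ', ψ', h1', h2'⟩ := nn_step r F φ ψ h1 h2 p lam hlam
      obtain ⟨e⟩ := ker_split lam p hlam
      haveI : Module.Finite R[X] (R[X] × LinearMap.ker lam) := Module.Finite.equiv e
      haveI : Module.Projective R[X] (R[X] × LinearMap.ker lam) := Module.Projective.of_equiv e
      haveI : Module.Finite R[X] (LinearMap.ker lam) :=
        Module.Finite.of_surjective (LinearMap.snd R[X] R[X] (LinearMap.ker lam))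
          LinearMap.snd_surjective
      haveI : Module.Projective R[X] (LinearMap.ker lam) :=
        Module.Projective.of_split (LinearMap.inr R[X] R[X] (LinearMap.ker lam))
          (LinearMap.snd R[X] R[X] (LinearMap.ker lam)) (by ext; simp)
      haveI : Module.Free R[X] (LinearMap.ker lam) :=
        ih (LinearMap.ker lam) (F * (φ p) 0) (hF.mul hGm) φ' ψ' h1' h2'
      exact Module.Free.of_equiv e.symm

end helpers

end Groth.Agent.Lib.T2H2.Horr
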