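import Mathlib

/-!
# Idempotent matrices: isogenies, clearing denominators, and the module dictionary

* `Isog s e e'` : localisation-free form of "`im e` and `im e'` become isomorphic after inverting `s`".
* `Isog.descend` : clearing denominators along a localisation.
* `exists_idempotent`, `Isog.rgEquiv`, `Isog.of_rgEquiv`, `rgBaseChange` : dictionary between finite
  projective modules and idempotent matrices.
-/

set_option autoImplicit false
open Polynomial TensorProduct
universe u v w

namespace Groth.Agent.Lib.T2H2.Horr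

section isog
variable {C : Type u} [CommRing C] {C' : Type v} [CommRing C']
variable {m m' m'' : Type w} [Fintype m] [Fintype m'] [Fintype m'']

/-- Localisation-free form of "the images of the idempotents `e`, `e'` become isomorphic after
inverting `s`". -/
def Isog (s : C) (e : Matrix m m C) (e' : Matrix m' m' C) : Prop :=
  ∃ (a : Matrix m' m C) (b : Matrix m m' C), a * b = s • e' ∧ b * a = s • e ∧
    e' * a = a ∧ a * e = a ∧ e * b = b ∧ b * e' = b

lemma map_smul_mat {k l : Type w} (f : C →+* C') (r : C) (A : Matrix k l C) :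
    (r • A).map f = f r • A.map f := by
  ext i j; simp

lemma Isog.map (f : C →+* C') {s : C} {e : Matrix m m C} {e' : Matrix m' m' C}
    (h : Isog s e e') : Isog (f s) (e.map f) (e'.map f) := by
  obtain ⟨a, b, h1, h2, h3, h4, h5, h6⟩ := h
  refine ⟨a.map f, b.map f, ?_, ?_, ?_, ?_, ?_, ?_⟩
  · rw [← Matrix.map_mul, h1, map_smul_mat]
  · rw [← Matrix.map_mul, h2, map_smul_mat]
  · rw [← Matrix.map_mul, h3]
  · rw [← Matrix.map_mul, h4]
  · rw [← Matrix.map_mul, h5]
  · rw [← Matrix.map_mul, h6]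

lemma Isog.symm {s : C} {e : Matrix m m C} {e' : Matrix m' m' C}
    (h : Isog s e e') : Isog s e' e := by
  obtain ⟨a, b, h1, h2, h3, h4, h5, h6⟩ := h
  exact ⟨b, a, h2, h1, h5, h6, h3, h4⟩

lemma Isog.comp {s s' : C} {e : Matrix m m C} {e' : Matrix m' m' C} {e'' : Matrix m'' m'' C}
    (h : Isog s e e') (h' : Isog s' e' e'') : Isog (s * s') e e'' := by
  obtain ⟨a, b, h1, h2, h3, h4, h5, h6⟩ := h
  obtain ⟨a', b', h1', h2', h3', h4', h5', h6'⟩ := h'
  refine ⟨a' * a, b * b', ?_, ?_, ?_, ?_, ?_, ?_⟩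
  · calc a' * a * (b * b') = a' * (a * b) * b' := by simp only [Matrix.mul_assoc]
      _ = s • (a' * e' * b') := by rw [h1]; simp only [Matrix.mul_smul, Matrix.smul_mul]
      _ = (s * s') • e'' := by rw [h4', h1', smul_smul]
  · calc b * b' * (a' * a) = b * (b' * a') * a := by simp only [Matrix.mul_assoc]
      _ = s' • (b * e' * a) := by rw [h2']; simp only [Matrix.mul_smul, Matrix.smul_mul]
      _ = (s * s') • e := by rw [h6, h2, smul_smul, mul_comm]
  · rw [← Matrix.mul_assoc, h3']
  · rw [Matrix.mul_assoc, h4]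
  · rw [← Matrix.mul_assoc, h5]
  · rw [Matrix.mul_assoc, h6']

lemma Isog.mul_left (t : C) {s : C} {e : Matrix m m C} {e' : Matrix m' m' C}
    (h : Isog s e e') : Isog (t * s) e e' := by
  obtain ⟨a, b, h1, h2, h3, h4, h5, h6⟩ := h
  refine ⟨t • a, b, ?_, ?_, ?_, ?_, h5, h6⟩
  · rw [Matrix.smul_mul, h1, smul_smul]
  · rw [Matrix.mul_smul, h2, smul_smul]
  · rw [Matrix.mul_smul, h3]
  · rw [Matrix.smul_mul, h4]

lemma Isog.of_unit {w s : C} (hw : IsUnit w) {e : Matrix m m C} {e' : Matrix m' m' C}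
    (h : Isog (w * s) e e') : Isog s e e' := by
  obtain ⟨w', rfl⟩ := hw
  have := h.mul_left (↑w'⁻¹ : C)
  rwa [← mul_assoc, Units.inv_mul, one_mul] at this

lemma Isog.congr_scalar {s t : C} (hst : s = t) {e : Matrix m m C} {e' : Matrix m' m' C}
    (h : Isog s e e') : Isog t e e' := hst ▸ h

/-- un-normalised data suffice when `s = 1`. -/
lemma Isog.of_raw {e : Matrix m m C} {e' : Matrix m' m' C} (he : e * e = e) (he' : e' * e' = e')
    (a : Matrix m' m C) (b : Matrix m m' C) (hab : a * b = e') (hba : b * a = e) :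
    Isog 1 e e' := by
  refine ⟨e' * a * e, e * b * e', ?_, ?_, ?_, ?_, ?_, ?_⟩
  · rw [one_smul]
    calc e' * a * e * (e * b * e') = e' * a * (e * e) * b * e' := by
          simp only [Matrix.mul_assoc]
      _ = e' * (a * b) * (a * b) * e' := by rw [he, ← hba]; simp only [Matrix.mul_assoc]
      _ = e' := by rw [hab, he', he', he']
  · rw [one_smul]
    calc e * b * e' * (e' * a * e) = e * b * (e' * e') * a * e := by
          simp only [Matrix.mul_assoc]
      _ = e * (b * a) * (b * a) * e := by rw [he', ← hab]; simp only [Matrix.mul_assoc]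
      _ = e := by rw [hba, he, he, he]
  · rw [← Matrix.mul_assoc, ← Matrix.mul_assoc, he']
  · rw [Matrix.mul_assoc, he]
  · rw [← Matrix.mul_assoc, ← Matrix.mul_assoc, he]
  · rw [Matrix.mul_assoc, he']

lemma Isog.refl {e : Matrix m m C} (he : e * e = e) : Isog 1 e e :=
  ⟨e, e, by rw [he, one_smul], by rw [he, one_smul], he, he, he, he⟩

end isog

section clearing
variable {C : Type u} [CommRing C] {S : Type v} [CommRing S] [Algebra C S]
  (M : Submonoid C) [IsLocalization M S]
variable {m m' : Type w} [Fintype m] [Fintype m']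

include M in
lemma exists_lift_smul {k l : Type w} [Finite k] [Finite l] (α : Matrix k l S) :
    ∃ (s : M) (a : Matrix k l C), a.map (algebraMap C S) = (algebraMap C S s) • α := by
  obtain ⟨s, hs⟩ := IsLocalization.exist_integer_multiples_of_finite M
    (fun ij : k × l => α ij.1 ij.2)
  choose a ha using hs
  refine ⟨s, Matrix.of fun i j => a (i, j), ?_⟩
  ext i j
  simp only [Matrix.map_apply, Matrix.of_apply, Matrix.smul_apply, ha (i, j), Algebra.smul_def]
  rfl

include M in
lemma exists_smul_eq_zero {k l : Type w} [Fintype k] [Fintype l] (W : Matrix k l C)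
    (hW : W.map (algebraMap C S) = 0) : ∃ t : M, (t : C) • W = 0 := by
  classical
  have h : ∀ ij : k × l, ∃ t : M, (t : C) * W ij.1 ij.2 = 0 := by
    intro ij
    have : algebraMap C S (W ij.1 ij.2) = 0 := by
      have := congrFun (congrFun hW ij.1) ij.2
      simpa using this
    exact (IsLocalization.map_eq_zero_iff M S _).1 this
  choose t ht using h
  refine ⟨∏ ij, t ij, ?_⟩
  ext i j
  rw [Matrix.smul_apply, Matrix.zero_apply, smul_eq_mul, Submonoid.coe_finsetProd,
    ← Finset.mul_prod_erase Finset.univ (fun ij => (t ij : C)) (Finset.mem_univ (i, j)),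
    mul_comm ((t (i, j) : C)), mul_assoc, ht (i, j), mul_zero]

include M in
/-- Clearing denominators in an isogeny. -/
theorem Isog.descend {e : Matrix m m C} {e' : Matrix m' m' C} (he : e * e = e)
    (he' : e' * e' = e') (u : S) (m₀ : M) (F₀ : C)
    (hu : u * algebraMap C S m₀ = algebraMap C S F₀)
    (h : Isog u (e.map (algebraMap C S)) (e'.map (algebraMap C S))) :
    ∃ t : M, Isog ((t : C) * F₀) e e' := by
  obtain ⟨α, β, h1, h2, h3, h4, h5, h6⟩ := h
  obtain ⟨s₁, a₁, ha₁⟩ := exists_lift_smul M α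
  obtain ⟨s₂, b₁, hb₁⟩ := exists_lift_smul M β
  set φ := algebraMap C S with hφ
  set a₂ := e' * a₁ * e with ha₂
  set b₂ := e * b₁ * e' with hb₂
  have hφa₂ : a₂.map φ = φ s₁ • α := by
    rw [ha₂, Matrix.map_mul, Matrix.map_mul, ha₁, Matrix.mul_smul, Matrix.smul_mul, h3, h4]
  have hφb₂ : b₂.map φ = φ s₂ • β := by
    rw [hb₂, Matrix.map_mul, Matrix.map_mul, hb₁, Matrix.mul_smul, Matrix.smul_mul, h5, h6]
  have hW₁ : ((m₀ : C) • (a₂ * b₂) - ((s₁ : C) * s₂ * F₀) • e').map φ = 0 := by
    rw [Matrix.map_sub (f := φ) (by intros; simp), map_smul_mat, map_smul_mat, Matrix.map_mul,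
      hφa₂, hφb₂, Matrix.smul_mul, Matrix.mul_smul, h1, map_mul, map_mul, ← hu]
    simp only [smul_smul]
    rw [sub_eq_zero]
    congr 1
    ring
  have hW₂ : ((m₀ : C) • (b₂ * a₂) - ((s₁ : C) * s₂ * F₀) • e).map φ = 0 := by
    rw [Matrix.map_sub (f := φ) (by intros; simp), map_smul_mat, map_smul_mat, Matrix.map_mul,
      hφa₂, hφb₂, Matrix.smul_mul, Matrix.mul_smul, h2, map_mul, map_mul, ← hu]
    simp only [smul_smul]
    rw [sub_eq_zero]
    congr 1
    ring
  obtain ⟨t₁, ht₁⟩ := exists_smul_eq_zero M _ hW₁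
  obtain ⟨t₂, ht₂⟩ := exists_smul_eq_zero M _ hW₂
  rw [smul_sub, sub_eq_zero, smul_smul, smul_smul] at ht₁ ht₂
  refine ⟨t₁ * t₂ * s₁ * s₂, ((t₁ : C) * t₂ * m₀) • a₂, b₂, ?_, ?_, ?_, ?_, ?_, ?_⟩
  · rw [Matrix.smul_mul]
    calc ((t₁ : C) * t₂ * m₀) • (a₂ * b₂) = (t₂ : C) • (((t₁ : C) * m₀) • (a₂ * b₂)) := by
          rw [smul_smul]; congr 1; ring
      _ = (↑(t₁ * t₂ * s₁ * s₂) * F₀) • e' := by
          rw [ht₁, smul_smul]; congr 1; push_cast; ring
  · rw [Matrix.mul_smul]
    calc ((t₁ : C) * t₂ * m₀) • (b₂ * a₂) = (t₁ : C) • (((t₂ : C) * m₀) • (b₂ * a₂)) := by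
          rw [smul_smul]; congr 1; ring
      _ = (↑(t₁ * t₂ * s₁ * s₂) * F₀) • e := by
          rw [ht₂, smul_smul]; congr 1; push_cast; ring
  · rw [Matrix.mul_smul, ha₂, ← Matrix.mul_assoc, ← Matrix.mul_assoc, he']
  · rw [Matrix.smul_mul, ha₂, Matrix.mul_assoc, he]
  · rw [hb₂, ← Matrix.mul_assoc, ← Matrix.mul_assoc, he]
  · rw [hb₂, Matrix.mul_assoc, he']

end clearing

section dict
variable {C : Type u} [CommRing C]
variable {m m' : Type w} [Fintype m] [Fintype m']

/-- The image of a (typically idempotent) matrix. -/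
abbrev Rg (e : Matrix m m C) : Submodule C (m → C) := LinearMap.range e.mulVecLin

lemma mem_Rg {e : Matrix m m C} (he : e * e = e) {x : m → C} : x ∈ Rg e ↔ e.mulVec x = x := by
  constructor
  · rintro ⟨y, rfl⟩
    rw [Matrix.mulVecLin_apply, Matrix.mulVec_mulVec, he]
  · intro h
    exact ⟨x, by rw [Matrix.mulVecLin_apply, h]⟩

/-- `D1`: a finite projective module is the image of an idempotent matrix. -/
theorem exists_idempotent (M : Type v) [AddCommGroup M] [Module C M] [Module.Finite C M]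
    [Module.Projective C M] :
    ∃ (n : ℕ) (e : Matrix (Fin n) (Fin n) C), e * e = e ∧ Nonempty (M ≃ₗ[C] Rg e) := by
  classical
  obtain ⟨n, f, g, hf, hg, hfg⟩ := Module.Finite.exists_comp_eq_id_of_projective C M
  let E : (Fin n → C) →ₗ[C] (Fin n → C) := g ∘ₗ f
  have hEE : E ∘ₗ E = E := by
    show (g ∘ₗ f) ∘ₗ (g ∘ₗ f) = g ∘ₗ f
    rw [LinearMap.comp_assoc, ← LinearMap.comp_assoc f g f, hfg, LinearMap.id_comp]
  refine ⟨n, LinearMap.toMatrix' E, ?_, ?_⟩
  · rw [← LinearMap.toMatrix'_comp, hEE]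
  · have h1 : (LinearMap.toMatrix' E).mulVecLin = E := by
      rw [← Matrix.toLin'_apply', Matrix.toLin'_toMatrix']
    have h2 : Rg (LinearMap.toMatrix' E) = LinearMap.range g := by
      show LinearMap.range _ = _
      rw [h1]
      show LinearMap.range (g ∘ₗ f) = _
      rw [LinearMap.range_comp, LinearMap.range_eq_top.2 hf, Submodule.map_top]
    exact ⟨(LinearEquiv.ofInjective g hg).trans (LinearEquiv.ofEq _ _ h2.symm)⟩

/-- `D2` (⇐). -/
theorem Isog.rgEquiv {e : Matrix m m C} {e' : Matrix m' m' C} (h : Isog 1 e e') :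
    Nonempty (Rg e ≃ₗ[C] Rg e') := by
  obtain ⟨a, b, h1, h2, h3, h4, h5, h6⟩ := h
  rw [one_smul] at h1 h2
  have he : e * e = e := by
    calc e * e = e * (b * a) := by rw [h2]
      _ = e := by rw [← Matrix.mul_assoc, h5, h2]
  have he' : e' * e' = e' := by
    calc e' * e' = e' * (a * b) := by rw [h1]
      _ = e' := by rw [← Matrix.mul_assoc, h3, h1]
  let f : Rg e →ₗ[C] Rg e' := LinearMap.codRestrict (Rg e') (a.mulVecLin ∘ₗ (Rg e).subtype) (by
    intro x
    rw [mem_Rg he']
    simp only [LinearMap.comp_apply, Submodule.subtype_apply, Matrix.mulVecLin_apply,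
      Matrix.mulVec_mulVec, h3])
  let g : Rg e' →ₗ[C] Rg e := LinearMap.codRestrict (Rg e) (b.mulVecLin ∘ₗ (Rg e').subtype) (by
    intro x
    rw [mem_Rg he]
    simp only [LinearMap.comp_apply, Submodule.subtype_apply, Matrix.mulVecLin_apply,
      Matrix.mulVec_mulVec, h5])
  refine ⟨LinearEquiv.ofLinearMap f g ?_ ?_⟩
  · refine LinearMap.ext fun x => Subtype.ext ?_
    have hx := (mem_Rg he').1 x.2
    simp only [f, g, LinearMap.comp_apply, LinearMap.codRestrict_apply, Submodule.subtype_apply,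
      Matrix.mulVecLin_apply, Matrix.mulVec_mulVec, h1, hx, LinearMap.id_apply]
  · refine LinearMap.ext fun x => Subtype.ext ?_
    have hx := (mem_Rg he).1 x.2
    simp only [f, g, LinearMap.comp_apply, LinearMap.codRestrict_apply, Submodule.subtype_apply,
      Matrix.mulVecLin_apply, Matrix.mulVec_mulVec, h2, hx, LinearMap.id_apply]

/-- `D2` (⇒). -/
theorem Isog.of_rgEquiv [DecidableEq m] [DecidableEq m'] {e : Matrix m m C} {e' : Matrix m' m' C}
    (he : e * e = e) (he' : e' * e' = e') (θ : Rg e ≃ₗ[C] Rg e') : Isog 1 e e' := by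
  let A : (m → C) →ₗ[C] (m' → C) :=
    (Rg e').subtype ∘ₗ θ.toLinearMap ∘ₗ e.mulVecLin.rangeRestrict
  let B : (m' → C) →ₗ[C] (m → C) :=
    (Rg e).subtype ∘ₗ θ.symm.toLinearMap ∘ₗ e'.mulVecLin.rangeRestrict
  have h1 : ∀ x : Rg e, e.mulVecLin.rangeRestrict (x : m → C) = x := by
    intro x
    apply Subtype.ext
    show e.mulVecLin (x : m → C) = x
    rw [Matrix.mulVecLin_apply]
    exact (mem_Rg he).1 x.2
  have h1' : ∀ x : Rg e', e'.mulVecLin.rangeRestrict (x : m' → C) = x := by
    intro x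
    apply Subtype.ext
    show e'.mulVecLin (x : m' → C) = x
    rw [Matrix.mulVecLin_apply]
    exact (mem_Rg he').1 x.2
  have hAB : A ∘ₗ B = e'.mulVecLin := by
    refine LinearMap.ext fun y => ?_
    simp only [A, B, LinearMap.comp_apply, Submodule.subtype_apply, LinearEquiv.coe_coe, h1,
      LinearEquiv.apply_symm_apply]
    rfl
  have hBA : B ∘ₗ A = e.mulVecLin := by
    refine LinearMap.ext fun y => ?_
    simp only [A, B, LinearMap.comp_apply, Submodule.subtype_apply, LinearEquiv.coe_coe, h1',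
      LinearEquiv.symm_apply_apply]
    rfl
  refine Isog.of_raw he he' (LinearMap.toMatrix' A) (LinearMap.toMatrix' B) ?_ ?_
  · rw [← LinearMap.toMatrix'_comp, hAB, ← Matrix.toLin'_apply', LinearMap.toMatrix'_toLin']
  · rw [← LinearMap.toMatrix'_comp, hBA, ← Matrix.toLin'_apply', LinearMap.toMatrix'_toLin']

/-- `D3`: base change of the image of an idempotent matrix. -/
theorem rgBaseChange [DecidableEq m] (S : Type v) [CommRing S] [Algebra C S] {e : Matrix m m C}
    (he : e * e = e) :
    Nonempty (S ⊗[C] Rg e ≃ₗ[S] Rg (e.map (algebraMap C S))) := by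
  set e' := e.map (algebraMap C S) with he'
  have hee' : e' * e' = e' := by rw [he', ← Matrix.map_mul, he]
  let ι₀ : (m → C) →ₗ[C] (m → S) :=
    LinearMap.pi fun i => (Algebra.linearMap C S) ∘ₗ LinearMap.proj i
  have hι₀ : ∀ x, ι₀ x = (algebraMap C S) ∘ x := fun x => rfl
  let fwd : S ⊗[C] Rg e →ₗ[S] (m → S) := LinearMap.liftBaseChange S (ι₀ ∘ₗ (Rg e).subtype)
  let col : m → Rg e := fun i => ⟨e.mulVecLin (Pi.single i 1), ⟨_, rfl⟩⟩
  let bwd : (m → S) →ₗ[S] S ⊗[C] Rg e :=
    ∑ i, (LinearMap.proj i : (m → S) →ₗ[S] S).smulRight ((1 : S) ⊗ₜ[C] col i)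
  have hbwd : ∀ y, bwd y = ∑ i, y i • ((1 : S) ⊗ₜ[C] col i) := by
    intro y
    simp [bwd, LinearMap.sum_apply]
  have hmap : ∀ x : m → C, (algebraMap C S) ∘ (e.mulVec x) = e'.mulVec ((algebraMap C S) ∘ x) := by
    intro x
    funext i
    exact RingHom.map_mulVec (algebraMap C S) e x i
  have h1 : ∀ z, bwd (fwd z) = z := by
    intro z
    induction z using TensorProduct.induction_on with
    | zero => simp
    | add z w hz hw => rw [map_add, map_add, hz, hw]
    | tmul s x =>
      rw [LinearMap.liftBaseChange_tmul, map_smul, hbwd]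
      have h3 : ∀ i, (ι₀ ((Rg e).subtype x)) i • ((1 : S) ⊗ₜ[C] col i) =
          (1 : S) ⊗ₜ[C] ((x : m → C) i • col i) := by
        intro i
        rw [TensorProduct.tmul_smul, ← algebraMap_smul S ((x : m → C) i)]
        rfl
      simp only [LinearMap.comp_apply, h3]
      rw [← TensorProduct.tmul_sum]
      have h4 : ∑ i, (x : m → C) i • col i = x := by
        apply Subtype.ext
        rw [Submodule.coe_sum]
        simp only [Submodule.coe_smul, col]
        have hx := (mem_Rg he).1 x.2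
        calc ∑ i, (x : m → C) i • e.mulVecLin (Pi.single i 1)
            = e.mulVecLin (∑ i, (x : m → C) i • Pi.single (M := fun _ ↦ C) i 1) := by
              rw [map_sum]
              exact Finset.sum_congr rfl fun i _ => (map_smul _ _ _).symm
          _ = e.mulVecLin (x : m → C) := by rw [← pi_eq_sum_univ']
          _ = x := hx
      rw [h4, TensorProduct.smul_tmul', smul_eq_mul, mul_one]
  have h2 : ∀ y, fwd (bwd y) = e'.mulVec y := by
    intro y
    rw [hbwd, map_sum]
    have h5 : ∀ i, fwd (y i • ((1 : S) ⊗ₜ[C] col i)) = y i • e'.mulVec (Pi.single i 1) := by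
      intro i
      rw [map_smul, LinearMap.liftBaseChange_tmul, one_smul, LinearMap.comp_apply, hι₀]
      show y i • ((algebraMap C S) ∘ (e.mulVec (Pi.single i 1))) = _
      rw [hmap]
      congr 2
      funext j
      simp [Pi.single_apply]
    simp only [h5]
    calc ∑ i, y i • e'.mulVec (Pi.single i 1)
        = e'.mulVecLin (∑ i, y i • Pi.single (M := fun _ ↦ S) i 1) := by
          rw [map_sum]
          refine Finset.sum_congr rfl fun i _ => ?_
          rw [map_smul, Matrix.mulVecLin_apply]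
      _ = e'.mulVec y := by rw [← pi_eq_sum_univ']; rfl
  have hinj : Function.Injective fwd := Function.LeftInverse.injective h1
  have hrange : LinearMap.range fwd = Rg e' := by
    apply le_antisymm
    · rintro _ ⟨z, rfl⟩
      rw [mem_Rg hee', ← h2, h1]
    · rintro _ ⟨y, rfl⟩
      exact ⟨bwd y, by rw [h2]; rfl⟩
  exact ⟨(LinearEquiv.ofInjective fwd hinj).trans (LinearEquiv.ofEq _ _ hrange)⟩

end dict

end Groth.Agent.Lib.T2H2.Horr
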