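import Groth.Agent.Lib.T2H2HorrB

/-!
# Quillen patching for idempotent matrices over `A[X]`
-/

set_option autoImplicit false
universe u v w

namespace Groth.Agent.Lib.T2H2.Horr

section absalg
variable {D : Type u} [CommRing D] {𝓡 : Type v} [Ring 𝓡] [Algebra D 𝓡]

/-- universal identity obtained by cancelling `y`. -/
lemma star_of (s y : D) (E E₁ E₀ A₀ A₁ B₀ B₁ Δ Δe : 𝓡)
    (hA : A₁ = A₀ + y • Δ) (hE : E₁ = E + y • Δe) (hEE : E * E = E)
    (hB₀A₀ : B₀ * A₀ = s • E) (hB₁A₁ : B₁ * A₁ = s • E₁) (hA₁B₁ : A₁ * B₁ = s • E₀)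
    (hB₀E₀ : B₀ * E₀ = B₀)
    (hreg : ∀ W : 𝓡, y • W = 0 → W = 0) :
    (s * s) • (E * Δe) + s • ((B₀ * Δ) * E₁ - E * (B₁ * Δ)) - y • ((B₀ * Δ) * (B₁ * Δ)) = 0 := by
  apply hreg
  have hσ : B₀ * A₁ = s • E + y • (B₀ * Δ) := by
    rw [hA, mul_add, hB₀A₀, mul_smul_comm]
  have hτ : B₁ * A₀ = s • E₁ - y • (B₁ * Δ) := by
    have : A₀ = A₁ - y • Δ := by rw [hA]; abel
    rw [this, mul_sub, hB₁A₁, mul_smul_comm]
  have hprod : (B₀ * A₁) * (B₁ * A₀) = (s * s) • E := by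
    calc (B₀ * A₁) * (B₁ * A₀) = B₀ * (A₁ * B₁) * A₀ := by simp only [mul_assoc]
      _ = s • (B₀ * E₀ * A₀) := by rw [hA₁B₁, mul_smul_comm, smul_mul_assoc]
      _ = (s * s) • E := by rw [hB₀E₀, hB₀A₀, smul_smul]
  have hEE₁ : E * E₁ = E + y • (E * Δe) := by
    rw [hE, mul_add, hEE, mul_smul_comm]
  rw [hσ, hτ] at hprod
  have h2 : (s • E + y • (B₀ * Δ)) * (s • E₁ - y • (B₁ * Δ)) =
      (s * s) • (E * E₁) - (s * y) • (E * (B₁ * Δ)) + (s * y) • ((B₀ * Δ) * E₁)
        - (y * y) • ((B₀ * Δ) * (B₁ * Δ)) := by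
    simp only [add_mul, mul_sub, smul_mul_assoc, mul_smul_comm]
    module
  rw [h2, hEE₁] at hprod
  have h3 : y • ((s * s) • (E * Δe) + s • ((B₀ * Δ) * E₁ - E * (B₁ * Δ))
      - y • ((B₀ * Δ) * (B₁ * Δ))) =
      ((s * s) • (E + y • (E * Δe)) - (s * y) • (E * (B₁ * Δ)) + (s * y) • ((B₀ * Δ) * E₁)
        - (y * y) • ((B₀ * Δ) * (B₁ * Δ))) - (s * s) • E := by
    module
  rw [h3, hprod, sub_self]

lemma glue_of (s y : D) (E E' Δe P Q : 𝓡) (hEE : E * E = E)
    (hE' : E' = E + (s * s * y) • Δe)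
    (hstar : (s * s) • (E * Δe) + s • (P * E' - E * Q) - (s * s * y) • (P * Q) = 0) :
    (E + (s * y) • P) * (E' - (s * y) • Q) = E := by
  have hEE' : E * E' = E + (s * s * y) • (E * Δe) := by
    rw [hE', mul_add, hEE, mul_smul_comm]
  have h2 : (E + (s * y) • P) * (E' - (s * y) • Q) =
      E * E' - (s * y) • (E * Q) + (s * y) • (P * E') - (s * y * (s * y)) • (P * Q) := by
    simp only [add_mul, mul_sub, smul_mul_assoc, mul_smul_comm]
    module
  rw [h2, hEE']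
  have h3 : E + (s * s * y) • (E * Δe) - (s * y) • (E * Q) + (s * y) • (P * E')
      - (s * y * (s * y)) • (P * Q) =
      E + y • ((s * s) • (E * Δe) + s • (P * E' - E * Q) - (s * s * y) • (P * Q)) := by
    module
  rw [h3, hstar, smul_zero, add_zero]

lemma aux_a1 (y : D) (a Δ : 𝓡) : a = a + y • Δ + (-y) • Δ := by
  rw [neg_smul, add_neg_cancel_right]

lemma aux_a2 (c y : D) (a Δ : 𝓡) : a = a + (c * y) • Δ + (c * -y) • Δ := by
  rw [mul_neg, neg_smul, add_neg_cancel_right]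

lemma aux_a3 (c y : D) (a Q : 𝓡) : a + (c * -y) • Q = a - (c * y) • Q := by
  rw [mul_neg, neg_smul, sub_eq_add_neg]

lemma aux_a4 (c y : D) (a P : 𝓡) : a - (c * -y) • P = a + (c * y) • P := by
  rw [mul_neg, neg_smul, sub_neg_eq_add]

end absalg

section matalg
variable {D : Type u} [CommRing D] {n : Type w} [Fintype n] [DecidableEq n]

lemma star_of_mat (s y : D) (E E₁ E₀ A₀ A₁ B₀ B₁ Δ Δe : Matrix n n D)
    (hA : A₁ = A₀ + y • Δ) (hE : E₁ = E + y • Δe) (hEE : E * E = E)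
    (hB₀A₀ : B₀ * A₀ = s • E) (hB₁A₁ : B₁ * A₁ = s • E₁) (hA₁B₁ : A₁ * B₁ = s • E₀)
    (hB₀E₀ : B₀ * E₀ = B₀)
    (hreg : ∀ W : Matrix n n D, y • W = 0 → W = 0) :
    (s * s) • (E * Δe) + s • ((B₀ * Δ) * E₁ - E * (B₁ * Δ)) - y • ((B₀ * Δ) * (B₁ * Δ)) = 0 :=
  star_of s y E E₁ E₀ A₀ A₁ B₀ B₁ Δ Δe hA hE hEE hB₀A₀ hB₁A₁ hA₁B₁ hB₀E₀ hreg

lemma glue_of_mat (s y : D) (E E' Δe P Q : Matrix n n D) (hEE : E * E = E)
    (hE' : E' = E + (s * s * y) • Δe)
    (hstar : (s * s) • (E * Δe) + s • (P * E' - E * Q) - (s * s * y) • (P * Q) = 0) :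
    (E + (s * y) • P) * (E' - (s * y) • Q) = E :=
  glue_of s y E E' Δe P Q hEE hE' hstar

lemma aux_m1 (y : D) (a Δ : Matrix n n D) : a = a + y • Δ + (-y) • Δ := aux_a1 y a Δ

lemma aux_m2 (c y : D) (a Δ : Matrix n n D) : a = a + (c * y) • Δ + (c * -y) • Δ :=
  aux_a2 c y a Δ

lemma aux_m3 (c y : D) (a Q : Matrix n n D) : a + (c * -y) • Q = a - (c * y) • Q :=
  aux_a3 c y a Q

lemma aux_m4 (c y : D) (a P : Matrix n n D) : a - (c * -y) • P = a + (c * y) • P :=
  aux_a4 c y a P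

end matalg

open Polynomial Polynomial.Bivariate

section patch
variable {A : Type u} [CommRing A] {n : Type w} [Fintype n]

/-- evaluate a polynomial matrix at a point of an `A`-algebra. -/
noncomputable def evm {D' : Type v} [CommRing D'] [Algebra A D'] (p : D') (e : Matrix n n A[X]) :
    Matrix n n D' := e.map (aeval p)

lemma evm_mul {D' : Type v} [CommRing D'] [Algebra A D'] (p : D') (e f : Matrix n n A[X]) :
    evm p (e * f) = evm p e * evm p f := by
  unfold evm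
  exact Matrix.map_mul (f := (aeval p : A[X] →ₐ[A] D'))

lemma evm_smul {D' : Type v} [CommRing D'] [Algebra A D'] (p : D') (c : A[X]) (e : Matrix n n A[X]) :
    evm p (c • e) = aeval p c • evm p e := by
  unfold evm
  ext i j
  simp

lemma evm_algHom {D' : Type v} [CommRing D'] [Algebra A D'] {D'' : Type v} [CommRing D'']
    [Algebra A D''] (ψ : D' →ₐ[A] D'') (p : D') (e : Matrix n n A[X]) :
    (evm p e).map ψ = evm (ψ p) e := by
  unfold evm
  ext i j
  simp only [Matrix.map_apply]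
  exact (aeval_algHom_apply ψ p (e i j)).symm

lemma evm_X (e : Matrix n n A[X]) : evm (X : A[X]) e = e := by
  unfold evm
  ext i j
  simp

lemma evm_zero (e : Matrix n n A[X]) :
    evm (0 : A[X]) e = e.map ((C : A →+* A[X]).comp (evalRingHom 0)) := by
  unfold evm
  ext i j
  simp only [Matrix.map_apply, RingHom.comp_apply, coe_evalRingHom]
  rw [aeval_def, eval₂_at_zero, ← coeff_zero_eq_eval_zero]
  rfl

lemma evm_CX (e : Matrix n n A[X]) :
    evm (C X : A[X][Y]) e = e.map (C : A[X] →+* A[X][Y]) := by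
  unfold evm
  refine Matrix.ext fun i j => ?_
  simp only [Matrix.map_apply]
  have := aeval_algHom_apply (CAlgHom : A[X] →ₐ[A] A[X][Y]) (X : A[X]) (e i j)
  simpa using this

/-- the relation "`e(p)` and `e(q)` have isomorphic images". -/
def Rel {D' : Type v} [CommRing D'] [Algebra A D'] (e : Matrix n n A[X]) (p q : D') : Prop :=
  Isog (1 : D') (evm p e) (evm q e)

lemma Rel.refl {D' : Type v} [CommRing D'] [Algebra A D'] {e : Matrix n n A[X]} (he : e * e = e)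
    (p : D') : Rel e p p := by
  refine Isog.refl ?_
  rw [← evm_mul, he]

lemma Rel.symm {D' : Type v} [CommRing D'] [Algebra A D'] {e : Matrix n n A[X]} {p q : D'}
    (h : Rel e p q) : Rel e q p := Isog.symm h

lemma Rel.trans {D' : Type v} [CommRing D'] [Algebra A D'] {e : Matrix n n A[X]} {p q r : D'}
    (h : Rel e p q) (h' : Rel e q r) : Rel e p r := by
  have := Isog.comp h h'
  rwa [mul_one] at this

lemma Rel.map {D' : Type v} [CommRing D'] [Algebra A D'] {D'' : Type v} [CommRing D'']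
    [Algebra A D''] (ψ : D' →ₐ[A] D'') {e : Matrix n n A[X]} {p q : D'} (h : Rel e p q) :
    Rel e (ψ p) (ψ q) := by
  have := Isog.map (ψ : D' →+* D'') h
  rw [map_one] at this
  have h1 := evm_algHom ψ p e
  have h2 := evm_algHom ψ q e
  unfold Rel
  rw [← h1, ← h2]
  exact this

lemma coeff_zero_aeval (p : A[X]) : (aeval (C X + Y : A[X][Y]) p).coeff 0 = p := by
  have h : (constantCoeff.comp ((aeval (C X + Y : A[X][Y]) : A[X] →ₐ[A] A[X][Y]) : A[X] →+* A[X][Y]))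
      = RingHom.id A[X] := by
    apply Polynomial.ringHom_ext <;> simp
  exact RingHom.congr_fun h p

lemma exists_delta (w : Matrix n n A[X]) :
    ∃ Δ : Matrix n n A[X][Y], evm (C X + Y : A[X][Y]) w = evm (C X : A[X][Y]) w + (Y : A[X][Y]) • Δ := by
  refine ⟨Matrix.of fun i j => divX (aeval (C X + Y : A[X][Y]) (w i j) - C (w i j)), ?_⟩
  rw [evm_CX]
  refine Matrix.ext fun i j => ?_
  simp only [evm, Matrix.map_apply, Matrix.add_apply, Matrix.smul_apply, Matrix.of_apply,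
    smul_eq_mul]
  have h := divX_mul_X_add (aeval (C X + Y : A[X][Y]) (w i j) - C (w i j))
  rw [coeff_sub, coeff_zero_aeval, coeff_C_zero, sub_self, map_zero, add_zero] at h
  rw [mul_comm, h]
  ring

omit [Fintype n] in
lemma Y_smul_reg (W : Matrix n n A[X][Y]) (h : (Y : A[X][Y]) • W = 0) : W = 0 := by
  refine Matrix.ext fun i j => ?_
  have h1 := congrFun (congrFun h i) j
  simp only [Matrix.smul_apply, Matrix.zero_apply, smul_eq_mul] at h1
  exact (isRegular_X (R := A[X])).left (by simpa using h1)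

omit [Fintype n] in
lemma negY_smul_reg (W : Matrix n n A[X][Y]) (h : (-(Y : A[X][Y])) • W = 0) : W = 0 := by
  apply Y_smul_reg
  have h2 : (Y : A[X][Y]) • W = -((-(Y : A[X][Y])) • W) := by
    refine Matrix.ext fun i j => ?_
    simp only [Matrix.smul_apply, Matrix.neg_apply, smul_eq_mul]
    ring
  rw [h2, h, neg_zero]

/-- The local step of Quillen patching. -/
theorem local_step (e : Matrix n n A[X]) (he : e * e = e) (s : A)
    (h : Isog (C s) e (e.map ((C : A →+* A[X]).comp (evalRingHom 0)))) :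
    Rel e (C X + CC (s * s) * Y : A[X][Y]) (C X) := by
  classical
  obtain ⟨a, b, h1, h2, h3, h4, h5, h6⟩ := h
  set e₀ := e.map ((C : A →+* A[X]).comp (evalRingHom 0)) with he₀
  have hconst : ∀ (p q : A[X][Y]), evm p e₀ = evm q e₀ := by
    intro p q
    refine Matrix.ext fun i j => ?_
    simp [evm, he₀]
  obtain ⟨Δ, hΔ⟩ := exists_delta a
  obtain ⟨Δe, hΔe⟩ := exists_delta e
  set p₁ : A[X][Y] := C X + Y with hp₁
  set p₀ : A[X][Y] := C X with hp₀
  have hs : ∀ p : A[X][Y], aeval p (C s : A[X]) = CC s := by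
    intro p
    rw [aeval_C]
    rfl
  have r1 : evm p₀ b * evm p₀ a = (CC s : A[X][Y]) • evm p₀ e := by
    rw [← evm_mul, h2, evm_smul, hs]
  have r2 : evm p₁ b * evm p₁ a = (CC s : A[X][Y]) • evm p₁ e := by
    rw [← evm_mul, h2, evm_smul, hs]
  have r3 : evm p₁ a * evm p₁ b = (CC s : A[X][Y]) • evm p₀ e₀ := by
    rw [← evm_mul, h1, evm_smul, hs, hconst p₁ p₀]
  have r3' : evm p₀ a * evm p₀ b = (CC s : A[X][Y]) • evm p₀ e₀ := by
    rw [← evm_mul, h1, evm_smul, hs]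
  have r4 : evm p₀ b * evm p₀ e₀ = evm p₀ b := by rw [← evm_mul, h6]
  have r4' : evm p₁ b * evm p₀ e₀ = evm p₁ b := by rw [hconst p₀ p₁, ← evm_mul, h6]
  have rE : evm p₀ e * evm p₀ e = evm p₀ e := by rw [← evm_mul, he]
  have rE₁ : evm p₁ e * evm p₁ e = evm p₁ e := by rw [← evm_mul, he]
  have star1 := star_of_mat (CC s : A[X][Y]) Y (evm p₀ e) (evm p₁ e) (evm p₀ e₀) (evm p₀ a) (evm p₁ a)
    (evm p₀ b) (evm p₁ b) Δ Δe hΔ hΔe rE r1 r2 r3 r4 Y_smul_reg
  have star2 := star_of_mat (CC s : A[X][Y]) (-(Y : A[X][Y])) (evm p₁ e) (evm p₀ e) (evm p₀ e₀) (evm p₁ a)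
    (evm p₀ a) (evm p₁ b) (evm p₀ b) Δ Δe
    (by rw [hΔ]; exact aux_m1 (D := A[X][Y]) (n := n) Y (evm p₀ a) Δ)
    (by rw [hΔe]; exact aux_m1 (D := A[X][Y]) (n := n) Y (evm p₀ e) Δe) rE₁ r2 r1 r3'
    r4' negY_smul_reg
  -- specialise `Y ↦ s² Y`
  set g : A[X][Y] := CC (s * s) with hg
  let Sg : A[X][Y] →ₐ[A] A[X][Y] := aevalAeval (C X : A[X][Y]) (g * Y)
  have hSgC : ∀ q : A[X], Sg (C q) = C q := by
    intro q
    have h7 : Sg (C q) = aeval (C X : A[X][Y]) q := aevalAeval_C _ _ q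
    have h8 := aeval_algHom_apply (CAlgHom : A[X] →ₐ[A] A[X][Y]) (X : A[X]) q
    rw [h7]
    simpa using h8
  have hSgY : Sg Y = g * Y := aevalAeval_Y _ _
  have hSgs : Sg (CC s) = CC s := hSgC (C s)
  let SgM : Matrix n n A[X][Y] →+* Matrix n n A[X][Y] := (Sg : A[X][Y] →+* A[X][Y]).mapMatrix
  have hSgM : ∀ W, SgM W = W.map Sg := fun W => rfl
  have hS0 : ∀ w : Matrix n n A[X], SgM (evm p₀ w) = evm p₀ w := by
    intro w
    rw [hSgM, evm_algHom, hp₀, hSgC]
  set pg : A[X][Y] := C X + g * Y with hpg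
  have hS1 : ∀ w : Matrix n n A[X], SgM (evm p₁ w) = evm pg w := by
    intro w
    rw [hSgM, evm_algHom, hp₁, map_add, hSgY, hp₀, hSgC]
  have hSsmul : ∀ (c : A[X][Y]) (W : Matrix n n A[X][Y]), SgM (c • W) = Sg c • SgM W := by
    intro c W
    rw [hSgM, hSgM]
    exact map_smul_mat (Sg : A[X][Y] →+* A[X][Y]) c W
  have star1g := congrArg SgM star1
  have star2g := congrArg SgM star2
  simp only [map_add, map_sub, map_mul, map_zero, map_neg, hSsmul, hS0, hS1, hSgY, hSgs] at star1g star2g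
  have hgs : g = CC s * CC s := by
    rw [hg]
    show C (C (s * s)) = C (C s) * C (C s)
    rw [C_mul, C_mul]
  have hE' : evm pg e = evm p₀ e + (CC s * CC s * Y : A[X][Y]) • SgM Δe := by
    have := congrArg SgM hΔe
    rw [hS1, map_add, hS0, hSsmul, hSgY] at this
    rw [this, hgs]
  have hE : evm p₀ e = evm pg e + (CC s * CC s * (-(Y : A[X][Y]))) • SgM Δe := by
    rw [hE']
    exact aux_m2 (D := A[X][Y]) (n := n) (CC s * CC s) Y (evm p₀ e) (SgM Δe)
  have rEg : evm pg e * evm pg e = evm pg e := by rw [← evm_mul, he]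
  have g1 := glue_of_mat (CC s : A[X][Y]) Y (evm p₀ e) (evm pg e) (SgM Δe) (evm p₀ b * SgM Δ)
    (evm pg b * SgM Δ) rE hE' ?_
  have g2 := glue_of_mat (CC s : A[X][Y]) (-(Y : A[X][Y])) (evm pg e) (evm p₀ e) (SgM Δe)
    (evm pg b * SgM Δ) (evm p₀ b * SgM Δ) rEg hE ?_
  · unfold Rel
    have e1 : evm pg e + (CC s * -(Y : A[X][Y])) • (evm pg b * SgM Δ) =
        evm pg e - (CC s * (Y : A[X][Y])) • (evm pg b * SgM Δ) :=
      aux_m3 (D := A[X][Y]) (n := n) (CC s) Y _ _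
    have e2 : evm p₀ e - (CC s * -(Y : A[X][Y])) • (evm p₀ b * SgM Δ) =
        evm p₀ e + (CC s * (Y : A[X][Y])) • (evm p₀ b * SgM Δ) :=
      aux_m4 (D := A[X][Y]) (n := n) (CC s) Y _ _
    rw [e1, e2] at g2
    exact Isog.of_raw rEg rE _ _ g1 g2
  · rw [hgs] at star2g
    have hneg : (CC s * CC s * (-(Y : A[X][Y])) : A[X][Y]) = -(CC s * CC s * Y) := by ring
    rw [hneg]
    exact star2g
  · rw [hgs] at star1g
    exact star1g

lemma aevalAeval_CC {D' : Type v} [CommRing D'] [Algebra A D'] (x y : D') (c : A) :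
    aevalAeval x y (CC c : A[X][Y]) = algebraMap A D' c := by
  rw [aevalAeval_C, aeval_C]

lemma CC_eq_algebraMap (c : A) : (CC c : A[X][Y]) = algebraMap A A[X][Y] c := rfl

/-- The Quillen set of `e`, as an ideal. -/
def quillenIdeal (e : Matrix n n A[X]) (he : e * e = e) : Ideal A where
  carrier := {g | Rel e (C X + CC g * Y : A[X][Y]) (C X)}
  zero_mem' := by
    show Rel e (C X + CC 0 * Y : A[X][Y]) (C X)
    have : (C X + CC 0 * Y : A[X][Y]) = C X := by simp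
    rw [this]
    exact Rel.refl he _
  add_mem' := by
    intro g h hg hh
    show Rel e (C X + CC (g + h) * Y : A[X][Y]) (C X)
    have hg' : Rel e (C X + CC g * Y : A[X][Y]) (C X) := hg
    have hh' : Rel e (C X + CC h * Y : A[X][Y]) (C X) := hh
    let ψ : A[X][Y] →ₐ[A] A[X][Y] := aevalAeval (C X + CC g * Y : A[X][Y]) Y
    have h1 := Rel.map ψ hh'
    have h2 : ψ (C X + CC h * Y) = C X + CC (g + h) * Y := by
      rw [map_add, map_mul, aevalAeval_X, aevalAeval_Y, aevalAeval_CC, ← CC_eq_algebraMap]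
      simp only [CC, map_add]
      ring
    have h3 : ψ (C X) = C X + CC g * Y := aevalAeval_X _ _
    rw [h2, h3] at h1
    exact h1.trans hg'
  smul_mem' := by
    intro c g hg
    show Rel e (C X + CC (c • g) * Y : A[X][Y]) (C X)
    have hg' : Rel e (C X + CC g * Y : A[X][Y]) (C X) := hg
    let ψ : A[X][Y] →ₐ[A] A[X][Y] := aevalAeval (C X : A[X][Y]) (CC c * Y)
    have h1 := Rel.map ψ hg'
    have h2 : ψ (C X + CC g * Y) = C X + CC (c • g) * Y := by
      rw [map_add, map_mul, aevalAeval_X, aevalAeval_Y, aevalAeval_CC, ← CC_eq_algebraMap]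
      simp only [CC, smul_eq_mul, map_mul]
      ring
    have h3 : ψ (C X) = C X := aevalAeval_X _ _
    rw [h2, h3] at h1
    exact h1

/-- **Quillen patching**, matrix form. -/
theorem patch (e : Matrix n n A[X]) (he : e * e = e)
    (hloc : ∀ 𝔪 : Ideal A, 𝔪.IsMaximal →
      ∃ s, s ∉ 𝔪 ∧ Isog (C s) e (e.map ((C : A →+* A[X]).comp (evalRingHom 0)))) :
    Isog 1 e (e.map ((C : A →+* A[X]).comp (evalRingHom 0))) := by
  have htop : quillenIdeal e he = ⊤ := by
    by_contra hne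
    obtain ⟨𝔪, hmax, hle⟩ := Ideal.exists_le_maximal _ hne
    obtain ⟨s, hs, hiso⟩ := hloc 𝔪 hmax
    have h1 : s * s ∈ quillenIdeal e he := local_step e he s hiso
    have h2 := hle h1
    rcases hmax.isPrime.mem_or_mem h2 with h3 | h3 <;> exact hs h3
  have h1 : (1 : A) ∈ quillenIdeal e he := by rw [htop]; trivial
  have h1' : Rel e (C X + CC 1 * Y : A[X][Y]) (C X) := h1
  let ψ : A[X][Y] →ₐ[A] A[X] := aevalAeval (0 : A[X]) (X : A[X])
  have h2 := Rel.map ψ h1'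
  have h3 : ψ (C X + CC 1 * Y) = X := by
    rw [map_add, map_mul, aevalAeval_X, aevalAeval_Y, aevalAeval_CC]
    simp
  have h4 : ψ (C X) = 0 := aevalAeval_X _ _
  rw [h3, h4] at h2
  unfold Rel at h2
  rwa [evm_X, evm_zero] at h2

end patch

end Groth.Agent.Lib.T2H2.Horr
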