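import Groth.Agent.Lib.T2H2HorrA
import Groth.Agent.Lib.T2H2HorrC

/-!
# From a `ℙ¹`-extension to "extended from the base" (matrix form)
-/

set_option autoImplicit false
open Polynomial TensorProduct
open scoped LaurentPolynomial
universe u v w

namespace Groth.Agent.Lib.T2H2.Horr

section local1
variable {C : Type u} [CommRing C]

lemma rg_finite {m : Type} [Fintype m] (e : Matrix m m C) : Module.Finite C (Rg e) :=
  Module.Finite.range _

lemma rg_projective {m : Type} [Fintype m] (e : Matrix m m C) (he : e * e = e) :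
    Module.Projective C (Rg e) := by
  classical
  refine Module.Projective.of_split (Rg e).subtype e.mulVecLin.rangeRestrict ?_
  refine LinearMap.ext fun x => Subtype.ext ?_
  show e.mulVecLin (x : m → C) = x
  rw [Matrix.mulVecLin_apply]
  exact (mem_Rg he).1 x.2

/-- A free `Rg e` gives an isogeny with an identity matrix. -/
lemma isog_one_of_free [Nontrivial C] {m : Type} [Fintype m] [DecidableEq m] (e : Matrix m m C)
    (he : e * e = e) (hfree : Module.Free C (Rg e)) :
    ∃ r : ℕ, Isog (1 : C) e (1 : Matrix (Fin r) (Fin r) C) := by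
  haveI := rg_finite e
  let r := Module.finrank C (Rg e)
  let bas := Module.finBasis C (Rg e)
  have h1 : Rg (1 : Matrix (Fin r) (Fin r) C) = ⊤ := by
    rw [eq_top_iff]
    intro x _
    exact ⟨x, by simp⟩
  let θ : Rg e ≃ₗ[C] Rg (1 : Matrix (Fin r) (Fin r) C) :=
    bas.equivFun.trans ((LinearEquiv.ofTop _ h1).symm)
  exact ⟨r, Isog.of_rgEquiv he (by simp) θ⟩

/-- Near a prime, the image of an idempotent matrix is free. -/
theorem exists_isog_of_prime {m : Type} [Fintype m] [DecidableEq m] (e : Matrix m m C)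
    (he : e * e = e) (𝔫 : Ideal C) [𝔫.IsPrime] :
    ∃ g, g ∉ 𝔫 ∧ ∃ r : ℕ, Isog g e (1 : Matrix (Fin r) (Fin r) C) := by
  let S := Localization.AtPrime 𝔫
  set eS := e.map (algebraMap C S) with heS
  have heS2 : eS * eS = eS := by rw [heS, ← Matrix.map_mul, he]
  haveI := rg_finite eS
  haveI := rg_projective eS heS2
  have hfree : Module.Free S (Rg eS) := Module.free_of_flat_of_isLocalRing
  obtain ⟨r, hr⟩ := isog_one_of_free eS heS2 hfree
  have h1 : (1 : Matrix (Fin r) (Fin r) S) = (1 : Matrix (Fin r) (Fin r) C).map (algebraMap C S) := by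
    rw [Matrix.map_one] <;> simp
  rw [h1] at hr
  obtain ⟨t, ht⟩ := Isog.descend 𝔫.primeCompl he (by simp) (1 : S) 1 1 (by simp) hr
  refine ⟨t, t.2, r, ?_⟩
  rwa [mul_one] at ht

end local1

section local2
variable {R : Type u} [CommRing R] [IsLocalRing R]

/-- Affine Horrocks in matrix form. -/
theorem isog_one_of_isog_monic {m : Type} [Fintype m] [DecidableEq m] (e : Matrix m m R[X])
    (he : e * e = e) (r : ℕ) (F : R[X]) (hF : F.Monic)
    (h : Isog F e (1 : Matrix (Fin r) (Fin r) R[X])) :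
    ∃ r' : ℕ, Isog (1 : R[X]) e (1 : Matrix (Fin r') (Fin r') R[X]) := by
  obtain ⟨a, b, h1, h2, h3, h4, h5, h6⟩ := h
  haveI := rg_finite e
  haveI := rg_projective e he
  let φ : Rg e →ₗ[R[X]] (Fin r → R[X]) := a.mulVecLin ∘ₗ (Rg e).subtype
  let ψ : (Fin r → R[X]) →ₗ[R[X]] Rg e :=
    LinearMap.codRestrict (Rg e) b.mulVecLin (by
      intro y
      rw [mem_Rg he, Matrix.mulVecLin_apply, Matrix.mulVec_mulVec, h5])
  have hfree : Module.Free R[X] (Rg e) := by
    refine horrocks_free r (Rg e) F hF φ ψ ?_ ?_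
    · intro y
      show a.mulVec (b.mulVec y) = F • y
      rw [Matrix.mulVec_mulVec, h1, Matrix.smul_mulVec, Matrix.one_mulVec]
    · intro x
      apply Subtype.ext
      show b.mulVec (a.mulVec (x : m → R[X])) = F • (x : m → R[X])
      rw [Matrix.mulVec_mulVec, h2, Matrix.smul_mulVec, (mem_Rg he).1 x.2]
  exact isog_one_of_free e he hfree

end local2

section laurent
variable {A : Type u} [CommRing A]

/-- Transfer of a trivialisation near infinity to a trivialisation away from a monic-like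
polynomial. -/
theorem isog_of_laurent {m m' : Type} [Fintype m] [DecidableEq m] [Fintype m'] [DecidableEq m']
    (e : Matrix m m A[X]) (e' : Matrix m' m' A[X]) (he : e * e = e)
    (hL : Isog (1 : A[T;T⁻¹]) (e.map (algebraMap A[X] A[T;T⁻¹]))
      (e'.map (fun p => LaurentPolynomial.invert (toLaurent p))))
    (r : ℕ) (g : A[X]) (hg : Isog g e' (1 : Matrix (Fin r) (Fin r) A[X])) :
    ∃ c : ℕ, Isog (X ^ c * g.reverse) e (1 : Matrix (Fin r) (Fin r) A[X]) := by
  let ι' : A[X] →+* A[T;T⁻¹] :=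
    ((LaurentPolynomial.invert (R := A)).toAlgHom.toRingHom).comp (algebraMap A[X] A[T;T⁻¹])
  have h1 := hg.map ι'
  have h2 : (1 : Matrix (Fin r) (Fin r) A[X]).map ι' = 1 := by
    rw [Matrix.map_one] <;> simp
  have h3 : e'.map ι' = e'.map (fun p => LaurentPolynomial.invert (toLaurent p)) := rfl
  rw [h2, h3] at h1
  have h4 := hL.comp h1
  have h5 : (1 : Matrix (Fin r) (Fin r) A[T;T⁻¹]) =
      (1 : Matrix (Fin r) (Fin r) A[X]).map (algebraMap A[X] A[T;T⁻¹]) := by
    rw [Matrix.map_one] <;> simp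
  rw [h5] at h4
  have hu : (1 * ι' g) * algebraMap A[X] A[T;T⁻¹] (X ^ g.natDegree) =
      algebraMap A[X] A[T;T⁻¹] g.reverse := by
    rw [one_mul, LaurentPolynomial.algebraMap_eq_toLaurent, LaurentPolynomial.algebraMap_eq_toLaurent,
      LaurentPolynomial.toLaurent_reverse, toLaurent_X_pow]
    rfl
  obtain ⟨t, ht⟩ := Isog.descend (Submonoid.powers (X : A[X])) he (by simp) (1 * ι' g)
    ⟨X ^ g.natDegree, g.natDegree, rfl⟩ g.reverse hu h4
  obtain ⟨c, hc⟩ := t.2
  have hc' : (X : A[X]) ^ c = t := hc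
  exact ⟨c, by rw [hc']; exact ht⟩

attribute [local instance] Polynomial.algebra

/-- The local input for Quillen patching, from a `ℙ¹`-extension. -/
theorem local_data {m m' : Type} [Fintype m] [DecidableEq m] [Fintype m'] [DecidableEq m']
    (e : Matrix m m A[X]) (e' : Matrix m' m' A[X]) (he : e * e = e) (he' : e' * e' = e')
    (hL : Isog (1 : A[T;T⁻¹]) (e.map (algebraMap A[X] A[T;T⁻¹]))
      (e'.map (fun p => LaurentPolynomial.invert (toLaurent p))))
    (𝔪 : Ideal A) (hm : 𝔪.IsMaximal) :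
    ∃ s, s ∉ 𝔪 ∧ Isog (C s) e (e.map ((C : A →+* A[X]).comp (evalRingHom 0))) := by
  haveI := hm.isPrime
  let 𝔫 : Ideal A[X] := 𝔪.comap (evalRingHom 0)
  haveI : 𝔫.IsPrime := Ideal.comap_isPrime _ _
  obtain ⟨g, hg𝔫, r, hgiso⟩ := exists_isog_of_prime e' he' 𝔫
  have hg0 : g.coeff 0 ∉ 𝔪 := by
    rwa [Ideal.mem_comap, coe_evalRingHom, ← coeff_zero_eq_eval_zero] at hg𝔫
  obtain ⟨c, hc⟩ := isog_of_laurent e e' he hL r g hgiso
  let R := Localization.AtPrime 𝔪
  let f : A →+* R := algebraMap A R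
  let φ : A[X] →+* R[X] := mapRingHom f
  have h1 := hc.map φ
  have h1one : (1 : Matrix (Fin r) (Fin r) A[X]).map φ = 1 := by
    rw [Matrix.map_one] <;> simp
  rw [h1one] at h1
  set F' := X ^ c * g.reverse with hF'
  have hdeg : F'.natDegree ≤ c + g.natDegree := by
    refine natDegree_mul_le.trans ?_
    refine add_le_add (natDegree_X_pow_le _) (reverse_natDegree_le g)
  have hcoeff : F'.coeff (c + g.natDegree) = g.coeff 0 := by
    rw [hF', add_comm, coeff_X_pow_mul, coeff_reverse, revAt_le le_rfl, Nat.sub_self]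
  have hu : IsUnit (f (g.coeff 0)) :=
    IsLocalization.map_units R (⟨g.coeff 0, hg0⟩ : 𝔪.primeCompl)
  obtain ⟨u, hu'⟩ := hu
  set F := C (↑u⁻¹ : R) * φ F' with hFdef
  have hFm : F.Monic := by
    refine monic_of_natDegree_le_of_coeff_eq_one (c + g.natDegree) ?_ ?_
    · refine natDegree_mul_le.trans ?_
      rw [natDegree_C, zero_add]
      exact natDegree_map_le.trans hdeg
    · rw [hFdef, coeff_C_mul]
      show _ * (F'.map f).coeff _ = 1
      rw [coeff_map, hcoeff, ← hu', Units.inv_mul]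
  have hφF' : φ F' = C (u : R) * F := by
    rw [hFdef, ← mul_assoc, ← C_mul, Units.mul_inv, C_1, one_mul]
  rw [hφF'] at h1
  have h2 : Isog F (e.map φ) (1 : Matrix (Fin r) (Fin r) R[X]) :=
    Isog.of_unit (Polynomial.isUnit_C.2 u.isUnit) h1
  have heφ : e.map φ * e.map φ = e.map φ := by rw [← Matrix.map_mul, he]
  obtain ⟨r', hr'⟩ := isog_one_of_isog_monic (e.map φ) heφ r F hFm h2
  let ρA : A[X] →+* A[X] := (C : A →+* A[X]).comp (evalRingHom 0)
  let ρR : R[X] →+* R[X] := (C : R →+* R[X]).comp (evalRingHom 0)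
  have h3 := hr'.map ρR
  have h3one : (1 : Matrix (Fin r') (Fin r') R[X]).map ρR = 1 := by
    rw [Matrix.map_one] <;> simp
  have h4 : (e.map φ).map ρR = (e.map ρA).map φ := by
    refine Matrix.ext fun i j => ?_
    simp only [Matrix.map_apply, ρA, ρR, φ, RingHom.comp_apply, coe_evalRingHom, coe_mapRingHom,
      ← coeff_zero_eq_eval_zero, coeff_map, map_C]
  rw [h3one, h4, map_one] at h3
  have h5 : Isog (1 : R[X]) (e.map φ) ((e.map ρA).map φ) := by
    have := hr'.comp h3.symm
    rwa [mul_one] at this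
  have he₀ : e.map ρA * e.map ρA = e.map ρA := by rw [← Matrix.map_mul, he]
  haveI := Polynomial.isLocalization 𝔪.primeCompl R
  obtain ⟨t, ht⟩ := Isog.descend (𝔪.primeCompl.map (C : A →+* A[X])) he he₀ (1 : R[X]) 1 1
    (by simp) h5
  obtain ⟨s, hs, hst⟩ := t.2
  refine ⟨s, hs, ?_⟩
  have hst' : (C s : A[X]) = t := hst
  rw [mul_one] at ht
  rw [hst']
  exact ht

/-- **Horrocks–Quillen**, matrix form: if the idempotent `e` over `A[X]` becomes equivalent over
`A[T;T⁻¹]` to the pull-back along `T ↦ T⁻¹` of an idempotent `e'` over `A[X]`, then `e` is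
equivalent to its constant term. -/
theorem isog_const_of_laurent {m m' : Type} [Fintype m] [DecidableEq m] [Fintype m']
    [DecidableEq m'] (e : Matrix m m A[X]) (e' : Matrix m' m' A[X]) (he : e * e = e)
    (he' : e' * e' = e')
    (hL : Isog (1 : A[T;T⁻¹]) (e.map (algebraMap A[X] A[T;T⁻¹]))
      (e'.map (fun p => LaurentPolynomial.invert (toLaurent p)))) :
    Isog (1 : A[X]) e (e.map ((C : A →+* A[X]).comp (evalRingHom 0))) :=
  patch e he fun 𝔪 hm => local_data e e' he he' hL 𝔪 hm

end laurent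

end Groth.Agent.Lib.T2H2.Horr
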