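import Groth.Agent.Lib.T2H2HorrD

/-!
# Horrocks–Quillen for modules: extended from `A` iff extends to `ℙ¹_A`
-/

set_option autoImplicit false
open Polynomial TensorProduct
open scoped LaurentPolynomial
universe u v w

namespace Groth.Agent.Lib.T2H2.Horr

section modules
variable {A : Type u} [CommRing A]

/-- (A): from the matrix statement to an extended module. -/
theorem extended_of_isog {m : Type} [Fintype m] [DecidableEq m] (e : Matrix m m A[X])
    (he : e * e = e)
    (h : Isog (1 : A[X]) e (e.map ((C : A →+* A[X]).comp (evalRingHom 0)))) :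
    Nonempty (Rg e ≃ₗ[A[X]] (A[X] ⊗[A] Rg (e.map (evalRingHom (0 : A))))) := by
  set eb : Matrix m m A := e.map (evalRingHom (0 : A)) with heb
  have hebb : eb * eb = eb := by rw [heb, ← Matrix.map_mul, he]
  obtain ⟨θ⟩ := h.rgEquiv
  obtain ⟨β⟩ := rgBaseChange A[X] hebb
  have h2 : eb.map (algebraMap A A[X]) = e.map ((C : A →+* A[X]).comp (evalRingHom 0)) := by
    rw [heb, Matrix.map_map]
    rfl
  rw [h2] at β
  exact ⟨θ.trans β.symm⟩

/-- entrywise application of a ring automorphism to the image of a matrix -/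
lemma map_mem_Rg {L : Type u} [CommRing L] {m : Type} [Fintype m] (τ : L →+* L) (E : Matrix m m L)
    (hE : E * E = E) {y : m → L} (hy : y ∈ Rg E) : τ ∘ y ∈ Rg (E.map τ) := by
  have hE' : E.map τ * E.map τ = E.map τ := by rw [← Matrix.map_mul, hE]
  rw [mem_Rg hE']
  have h1 := (mem_Rg hE).1 hy
  funext i
  rw [← RingHom.map_mulVec, h1]
  rfl

/-- (B): a semilinear isomorphism of the images gives a linear isomorphism after twisting. -/
theorem isog_of_semilinear {L : Type u} [CommRing L] {m m' : Type} [Fintype m] [DecidableEq m]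
    [Fintype m'] [DecidableEq m'] (τ : L →+* L) (hτ : ∀ l, τ (τ l) = l)
    (E : Matrix m m L) (E' : Matrix m' m' L) (hE : E * E = E) (hE' : E' * E' = E')
    (f : Rg E → Rg E') (hadd : ∀ x y, f (x + y) = f x + f y) (hsmul : ∀ (l : L) x, f (l • x) = τ l • f x)
    (hbij : Function.Bijective f) : Isog (1 : L) E (E'.map τ) := by
  have hEτ : E'.map τ * E'.map τ = E'.map τ := by rw [← Matrix.map_mul, hE']
  have hττ : (E'.map τ).map τ = E' := by
    rw [Matrix.map_map]
    refine Matrix.ext fun i j => ?_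
    simp [hτ]
  let K : Rg E' → Rg (E'.map τ) := fun y => ⟨τ ∘ (y : m' → L), map_mem_Rg τ E' hE' y.2⟩
  let K' : Rg (E'.map τ) → Rg E' := fun y =>
    ⟨τ ∘ (y : m' → L), by have := map_mem_Rg τ (E'.map τ) hEτ y.2; rwa [hττ] at this⟩
  have hKK' : ∀ y, K (K' y) = y := by
    intro y
    apply Subtype.ext
    funext i
    simp [K, K', hτ]
  have hK'K : ∀ y, K' (K y) = y := by
    intro y
    apply Subtype.ext
    funext i
    simp [K, K', hτ]
  let g : Rg E →ₗ[L] Rg (E'.map τ) :=
    { toFun := fun x => K (f x)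
      map_add' := by
        intro x y
        apply Subtype.ext
        funext i
        simp [K, hadd]
      map_smul' := by
        intro l x
        apply Subtype.ext
        funext i
        simp [K, hsmul, hτ] }
  have hg : Function.Bijective g := by
    constructor
    · intro x y hxy
      apply hbij.1
      have := congrArg K' hxy
      simpa [g, hK'K] using this
    · intro y
      obtain ⟨x, hx⟩ := hbij.2 (K' y)
      exact ⟨x, by simp [g, hx, hKK']⟩
  exact Isog.of_rgEquiv hE hEτ (LinearEquiv.ofBijective g hg)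

/-- The implication "extends to `ℙ¹` ⇒ extended from `A`". -/
theorem extended_of_P1 (M : Type u) [AddCommGroup M] [Module A[X] M]
    [Module.Finite A[X] M] [Module.Projective A[X] M]
    (N : Type u) [AddCommGroup N] [Module A[X] N]
    [Module.Finite A[X] N] [Module.Projective A[X] N]
    (f : (A[T;T⁻¹] ⊗[A[X]] M) →ₛₗ[(LaurentPolynomial.invert (R := A)).toRingEquiv.toRingHom]
            (A[T;T⁻¹] ⊗[A[X]] N)) (hf : Function.Bijective f) :
    ∃ (P : Type u) (_ : AddCommGroup P) (_ : Module A P), Nonempty (M ≃ₗ[A[X]] (A[X] ⊗[A] P)) := by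
  obtain ⟨n, e, he, ⟨θM⟩⟩ := exists_idempotent (C := A[X]) M
  obtain ⟨n', e', he', ⟨θN⟩⟩ := exists_idempotent (C := A[X]) N
  let ΘM := LinearEquiv.baseChange A[X] A[T;T⁻¹] M (Rg e) θM
  let ΘN := LinearEquiv.baseChange A[X] A[T;T⁻¹] N (Rg e') θN
  obtain ⟨DM⟩ := rgBaseChange A[T;T⁻¹] he
  obtain ⟨DN⟩ := rgBaseChange A[T;T⁻¹] he'
  let τ : A[T;T⁻¹] →+* A[T;T⁻¹] := (LaurentPolynomial.invert (R := A)).toRingEquiv.toRingHom
  have hτ : ∀ l, τ (τ l) = l := fun l => LaurentPolynomial.involutive_invert l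
  set E := e.map (algebraMap A[X] A[T;T⁻¹]) with hE
  set E' := e'.map (algebraMap A[X] A[T;T⁻¹]) with hE'
  have hEE : E * E = E := by rw [hE, ← Matrix.map_mul, he]
  have hEE' : E' * E' = E' := by rw [hE', ← Matrix.map_mul, he']
  let g : Rg E → Rg E' := fun x => DN (ΘN (f (ΘM.symm (DM.symm x))))
  have h1 : Isog (1 : A[T;T⁻¹]) E (E'.map τ) := by
    refine isog_of_semilinear τ hτ E E' hEE hEE' g ?_ ?_ ?_
    · intro x y
      simp only [g, map_add]
    · intro l x
      simp only [g, map_smul, LinearMap.map_smulₛₗ]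
      rfl
    · exact DN.bijective.comp (ΘN.bijective.comp (hf.comp (ΘM.symm.bijective.comp DM.symm.bijective)))
  have h2 : E'.map τ = e'.map (fun p => LaurentPolynomial.invert (toLaurent p)) := by
    rw [hE', Matrix.map_map]
    rfl
  rw [h2] at h1
  have h3 := isog_const_of_laurent e e' he he' h1
  obtain ⟨β⟩ := extended_of_isog e he h3
  exact ⟨Rg (e.map (evalRingHom (0 : A))), inferInstance, inferInstance, ⟨θM.trans β⟩⟩

/-- The implication "extended from `A` ⇒ extends to `ℙ¹`" (with `N = M`). -/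
theorem P1_of_extended (M : Type u) [AddCommGroup M] [Module A[X] M]
    (P : Type u) [AddCommGroup P] [Module A P] (h : M ≃ₗ[A[X]] (A[X] ⊗[A] P)) :
    ∃ f : (A[T;T⁻¹] ⊗[A[X]] M) →ₛₗ[(LaurentPolynomial.invert (R := A)).toRingEquiv.toRingHom]
            (A[T;T⁻¹] ⊗[A[X]] M), Function.Bijective f := by
  haveI : IsScalarTower A A[X] A[T;T⁻¹] := IsScalarTower.of_algebraMap_eq fun a => by
    rw [LaurentPolynomial.algebraMap_eq_toLaurent, Polynomial.algebraMap_apply,
      Algebra.algebraMap_self, RingHom.id_apply, Polynomial.toLaurent_C]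
    rfl
  let Θ : A[T;T⁻¹] ⊗[A[X]] M ≃ₗ[A[T;T⁻¹]] A[T;T⁻¹] ⊗[A] P :=
    (LinearEquiv.baseChange A[X] A[T;T⁻¹] M (A[X] ⊗[A] P) h).trans
      (AlgebraTensorModule.cancelBaseChange A A[X] A[T;T⁻¹] A[T;T⁻¹] P)
  let J : A[T;T⁻¹] ⊗[A] P →ₗ[A] A[T;T⁻¹] ⊗[A] P :=
    TensorProduct.map (LaurentPolynomial.invert (R := A)).toLinearMap LinearMap.id
  have hJ : ∀ (l : A[T;T⁻¹]) z, J (l • z) = LaurentPolynomial.invert l • J z := by
    intro l z
    induction z using TensorProduct.induction_on with
    | zero => simp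
    | tmul a p =>
      simp only [J, TensorProduct.smul_tmul', TensorProduct.map_tmul, smul_eq_mul, LinearMap.id_apply,
        AlgEquiv.toLinearMap_apply, map_mul]
    | add z w hz hw => rw [smul_add, map_add, hz, hw, map_add, smul_add]
  have hJJ : ∀ z, J (J z) = z := by
    intro z
    induction z using TensorProduct.induction_on with
    | zero => simp
    | tmul a p =>
      simp only [J, TensorProduct.map_tmul, LinearMap.id_apply, AlgEquiv.toLinearMap_apply]
      rw [LaurentPolynomial.involutive_invert a]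
    | add z w hz hw => rw [map_add, map_add, hz, hw]
  let f : (A[T;T⁻¹] ⊗[A[X]] M) →ₛₗ[(LaurentPolynomial.invert (R := A)).toRingEquiv.toRingHom]
            (A[T;T⁻¹] ⊗[A[X]] M) :=
    { toFun := fun x => Θ.symm (J (Θ x))
      map_add' := by intro x y; simp only [map_add]
      map_smul' := by
        intro l x
        simp only [map_smul, hJ]
        rfl }
  refine ⟨f, ?_⟩
  have hff : ∀ x, f (f x) = x := by
    intro x
    show Θ.symm (J (Θ (Θ.symm (J (Θ x))))) = x
    rw [LinearEquiv.apply_symm_apply, hJJ, LinearEquiv.symm_apply_apply]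
  exact Function.Involutive.bijective hff

end modules

end Groth.Agent.Lib.T2H2.Horr
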