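import Groth.Agent.Lib.T2H2HorrE

/-!
# Zariski gluing of idempotent matrices and the monic inversion principle for constant idempotents
-/

set_option autoImplicit false
open Polynomial TensorProduct Matrix
open scoped LaurentPolynomial
universe u v w

namespace Groth.Agent.Lib.T2H2.Horr

section glue
variable {C : Type u} [CommRing C] {m m' : Type} [Fintype m] [Fintype m']

omit [Fintype m] [Fintype m'] in
lemma smul_fromRows' {k : Type} (c : C) (A : Matrix m k C) (B : Matrix m' k C) :
    c • fromRows A B = fromRows (c • A) (c • B) := by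
  ext (i | i) j <;> simp

omit [Fintype m] [Fintype m'] in
lemma smul_fromCols' {k : Type} (c : C) (A : Matrix k m C) (B : Matrix k m' C) :
    c • fromCols A B = fromCols (c • A) (c • B) := by
  ext i (j | j) <;> simp

/-- Zariski gluing of the images of two idempotent matrices along an isogeny, in matrix form. -/
theorem exists_glue (ε : Matrix m m C) (ε' : Matrix m' m' C) (hε : ε * ε = ε) (hε' : ε' * ε' = ε')
    (a : Matrix m' m C) (b : Matrix m m' C) (s g p q : C)
    (hab : a * b = (s * g) • ε') (hba : b * a = (s * g) • ε)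
    (h3 : ε' * a = a) (h4 : a * ε = a) (h5 : ε * b = b) (h6 : b * ε' = b)
    (hpq : q * s + p * g = 1) :
    ∃ eN : Matrix (m ⊕ m') (m ⊕ m') C, eN * eN = eN ∧ Isog g eN ε' ∧ Isog s eN ε := by
  classical
  set Φ : Matrix m' (m ⊕ m') C := fromCols a (g • ε') with hΦ
  set Λ : Matrix m (m ⊕ m') C := fromCols (s • ε) b with hΛ
  set Ξ : Matrix (m ⊕ m') m C := fromRows ((q * s) • ε) (p • a) with hΞ
  set Θ : Matrix (m ⊕ m') m' C := fromRows (q • b) ((p * g) • ε') with hΘ
  set eN : Matrix (m ⊕ m') (m ⊕ m') C := fromRows (q • Λ) (p • Φ) with heN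
  have R1 : Φ * Ξ = a := by
    rw [hΦ, hΞ, fromCols_mul_fromRows, Matrix.mul_smul, Matrix.smul_mul, Matrix.mul_smul, h4, h3,
      smul_smul, ← add_smul]
    convert one_smul C _ using 2
    all_goals linear_combination hpq
  have R2 : Φ * Θ = g • ε' := by
    rw [hΦ, hΘ, fromCols_mul_fromRows, Matrix.mul_smul, Matrix.smul_mul, Matrix.mul_smul, hab, hε',
      smul_smul, smul_smul, ← add_smul]
    congr 1
    linear_combination g * hpq
  have R3 : Λ * Ξ = s • ε := by
    rw [hΛ, hΞ, fromCols_mul_fromRows, Matrix.mul_smul, Matrix.smul_mul, Matrix.mul_smul, hba, hε,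
      smul_smul, smul_smul, ← add_smul]
    congr 1
    linear_combination s * hpq
  have R4 : Λ * Θ = b := by
    rw [hΛ, hΘ, fromCols_mul_fromRows, Matrix.mul_smul, Matrix.smul_mul, Matrix.mul_smul, h5, h6,
      smul_smul, ← add_smul]
    convert one_smul C _ using 2
    all_goals linear_combination hpq
  have R5 : ε * Λ = Λ := by
    rw [hΛ, mul_fromCols, Matrix.mul_smul, hε, h5]
  have R6 : b * Φ = g • Λ := by
    rw [hΦ, hΛ, mul_fromCols, Matrix.mul_smul, hba, h6, smul_fromCols', smul_smul, mul_comm g s]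
  have R8 : a * Λ = s • Φ := by
    rw [hΦ, hΛ, mul_fromCols, Matrix.mul_smul, hab, h4, smul_fromCols', smul_smul]
  have R9 : ε' * Φ = Φ := by
    rw [hΦ, mul_fromCols, Matrix.mul_smul, hε', h3]
  have R7 : Λ * eN = Λ := by
    rw [heN]
    nth_rewrite 1 [hΛ]
    rw [fromCols_mul_fromRows, Matrix.smul_mul, Matrix.mul_smul, Matrix.mul_smul, R5, R6, smul_smul,
      smul_smul, ← add_smul]
    convert one_smul C _ using 2
    all_goals linear_combination hpq
  have R10 : Φ * eN = Φ := by
    rw [heN]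
    nth_rewrite 1 [hΦ]
    rw [fromCols_mul_fromRows, Matrix.smul_mul, Matrix.mul_smul, Matrix.mul_smul, R8, R9, smul_smul,
      smul_smul, ← add_smul]
    convert one_smul C _ using 2
    all_goals linear_combination hpq
  have hee : eN * eN = eN := by
    nth_rewrite 1 [heN]
    rw [fromRows_mul, Matrix.smul_mul, Matrix.smul_mul, R7, R10]
  have hΘΦ : Θ * Φ = g • eN := by
    rw [hΘ, fromRows_mul, Matrix.smul_mul, Matrix.smul_mul, R6, R9, heN, smul_fromRows', smul_smul,
      smul_smul, smul_smul]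
    congr 2 <;> ring
  have hΞΛ : Ξ * Λ = s • eN := by
    rw [hΞ, fromRows_mul, Matrix.smul_mul, Matrix.smul_mul, R5, R8, heN, smul_fromRows', smul_smul,
      smul_smul, smul_smul]
    congr 2 <;> ring
  have heΞ : eN * Ξ = Ξ := by
    rw [heN, fromRows_mul, Matrix.smul_mul, Matrix.smul_mul, R3, R1, smul_smul]
  have heΘ : eN * Θ = Θ := by
    rw [heN, fromRows_mul, Matrix.smul_mul, Matrix.smul_mul, R4, R2, smul_smul]
  have hΘε : Θ * ε' = Θ := by
    rw [hΘ, fromRows_mul, Matrix.smul_mul, Matrix.smul_mul, h6, hε']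
  have hΞε : Ξ * ε = Ξ := by
    rw [hΞ, fromRows_mul, Matrix.smul_mul, Matrix.smul_mul, hε, h4]
  exact ⟨eN, hee, ⟨Φ, Θ, R2, hΘΦ, R9, R10, heΘ, hΘε⟩, ⟨Λ, Ξ, R3, hΞΛ, R5, R7, heΞ, hΞε⟩⟩

end glue

section monic
variable {A : Type u} [CommRing A] {m m' : Type} [Fintype m] [Fintype m'] [DecidableEq m]
  [DecidableEq m']

omit [Fintype m] [DecidableEq m] in
lemma map_C_map_eval (ε : Matrix m m A) (x : A) :
    (ε.map (Polynomial.C : A →+* A[X])).map (evalRingHom x) = ε := by
  rw [Matrix.map_map]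
  refine Matrix.ext fun i j => ?_
  simp

omit [Fintype m] [DecidableEq m] in
lemma map_C_map_invert (ε : Matrix m m A) :
    (ε.map (Polynomial.C : A →+* A[X])).map (fun p => LaurentPolynomial.invert (toLaurent p)) =
      (ε.map (Polynomial.C : A →+* A[X])).map (algebraMap A[X] A[T;T⁻¹]) := by
  rw [Matrix.map_map, Matrix.map_map]
  refine Matrix.ext fun i j => ?_
  simp

/-- Constant idempotents that are isogenous over `A[X]` via a monic polynomial are equivalent
over `A`. -/
theorem isog_one_of_isog_monic_const (ε : Matrix m m A) (ε' : Matrix m' m' A) (hε : ε * ε = ε)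
    (hε' : ε' * ε' = ε') (F : A[X]) (hF : F.Monic)
    (h : Isog F (ε.map (Polynomial.C : A →+* A[X])) (ε'.map (Polynomial.C : A →+* A[X]))) :
    Isog (1 : A) ε ε' := by
  set E := ε.map (Polynomial.C : A →+* A[X]) with hE
  set E' := ε'.map (Polynomial.C : A →+* A[X]) with hE'
  have hEE : E * E = E := by rw [hE, ← Matrix.map_mul, hε]
  have hEE' : E' * E' = E' := by rw [hE', ← Matrix.map_mul, hε']
  -- pass to the coordinate at infinity
  let ι' : A[X] →+* A[T;T⁻¹] :=
    ((LaurentPolynomial.invert (R := A)).toAlgHom.toRingHom).comp (algebraMap A[X] A[T;T⁻¹])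
  have h1 := h.map ι'
  have h1a : E.map ι' = E.map (algebraMap A[X] A[T;T⁻¹]) := map_C_map_invert ε
  have h1b : E'.map ι' = E'.map (algebraMap A[X] A[T;T⁻¹]) := map_C_map_invert ε'
  rw [h1a, h1b] at h1
  have hu : ι' F * algebraMap A[X] A[T;T⁻¹] (X ^ F.natDegree) =
      algebraMap A[X] A[T;T⁻¹] F.reverse := by
    rw [LaurentPolynomial.algebraMap_eq_toLaurent, LaurentPolynomial.algebraMap_eq_toLaurent,
      LaurentPolynomial.toLaurent_reverse, toLaurent_X_pow]
    rfl
  obtain ⟨t, ht⟩ := Isog.descend (Submonoid.powers (X : A[X])) hEE hEE' (ι' F)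
    ⟨X ^ F.natDegree, F.natDegree, rfl⟩ F.reverse hu h1
  obtain ⟨c, hc⟩ := t.2
  have hc' : (X : A[X]) ^ c = t := hc
  rw [← hc'] at ht
  set g := F.reverse with hg
  have hg0 : g.coeff 0 = 1 := by rw [hg, coeff_zero_reverse]; exact hF
  -- coprimality
  have hcop : IsCoprime ((X : A[X]) ^ c) g := by
    refine IsCoprime.pow_left ?_
    refine ⟨-divX g, 1, ?_⟩
    have := divX_mul_X_add g
    rw [hg0, map_one] at this
    linear_combination -this
  obtain ⟨q, p, hpq⟩ := hcop
  obtain ⟨a, b, hab, hba, h3, h4, h5, h6⟩ := ht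
  obtain ⟨eN, hee, hN1, hN2⟩ := exists_glue E E' hEE hEE' a b (X ^ c) g p q hab hba h3 h4 h5 h6 hpq
  -- eN extends to the projective line
  have h2 := hN2.map (algebraMap A[X] A[T;T⁻¹])
  have h2u : IsUnit (algebraMap A[X] A[T;T⁻¹] (X ^ c)) := by
    rw [LaurentPolynomial.algebraMap_eq_toLaurent, toLaurent_X_pow]
    exact LaurentPolynomial.isUnit_T _
  have h2' : Isog (1 : A[T;T⁻¹]) (eN.map (algebraMap A[X] A[T;T⁻¹]))
      (E.map (fun p => LaurentPolynomial.invert (toLaurent p))) := by
    rw [map_C_map_invert]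
    refine Isog.of_unit h2u ?_
    rwa [mul_one]
  have h3' := isog_const_of_laurent eN E hee hEE h2'
  -- evaluate
  have k1 := h3'.map (evalRingHom (1 : A))
  have k1' : (eN.map ((Polynomial.C : A →+* A[X]).comp (evalRingHom 0))).map (evalRingHom (1 : A)) =
      eN.map (evalRingHom (0 : A)) := by
    rw [Matrix.map_map]
    refine Matrix.ext fun i j => ?_
    simp
  rw [k1', map_one] at k1
  have k2 := hN1.map (evalRingHom (0 : A))
  rw [hE', map_C_map_eval, coe_evalRingHom, ← coeff_zero_eq_eval_zero, hg0] at k2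
  have k3 := hN2.map (evalRingHom (1 : A))
  rw [hE, map_C_map_eval, coe_evalRingHom, eval_pow, eval_X, one_pow] at k3
  have k4 := (k3.symm.comp k1).comp k2
  rwa [mul_one, mul_one] at k4

end monic

end Groth.Agent.Lib.T2H2.Horr
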