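import Groth.Agent.Lib.T2H2HorrF

/-!
# Horrocks–Quillen, part G: from power series isogenies to polynomial isogenies

* `isog_one_of_isog_const_unitCoeff`: constant idempotents isogenous over `A[X]` via `X^c * g`
  with `g(0) = 1` are equivalent over `A`.
* `isog_poly_of_isog_powerSeries`: an isogeny over `R⟦X⟧` through `X^j` between constant
  idempotents gives an isogeny over `R[X]` through `X^j * g` with `g(0) = 1`.
-/

set_option autoImplicit false
open Polynomial TensorProduct Matrix
open scoped LaurentPolynomial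
universe u v w

namespace Groth.Agent.Lib.T2H2.Horr

section unitcoeff
variable {A : Type u} [CommRing A] {m m' : Type} [Fintype m] [Fintype m'] [DecidableEq m]
  [DecidableEq m']

/-- Constant idempotents that are isogenous over `A[X]` via `X^c * g` with `g(0) = 1` are
equivalent over `A`. -/
theorem isog_one_of_isog_const_unitCoeff (ε : Matrix m m A) (ε' : Matrix m' m' A) (hε : ε * ε = ε)
    (hε' : ε' * ε' = ε') (c : ℕ) (g : A[X]) (hg0 : g.coeff 0 = 1)
    (ht : Isog (X ^ c * g) (ε.map (Polynomial.C : A →+* A[X]))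
      (ε'.map (Polynomial.C : A →+* A[X]))) :
    Isog (1 : A) ε ε' := by
  set E := ε.map (Polynomial.C : A →+* A[X]) with hE
  set E' := ε'.map (Polynomial.C : A →+* A[X]) with hE'
  have hEE : E * E = E := by rw [hE, ← Matrix.map_mul, hε]
  have hEE' : E' * E' = E' := by rw [hE', ← Matrix.map_mul, hε']
  have hcop : IsCoprime ((X : A[X]) ^ c) g := by
    refine IsCoprime.pow_left ?_
    refine ⟨-divX g, 1, ?_⟩
    have := divX_mul_X_add g
    rw [hg0, map_one] at this
    linear_combination -this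
  obtain ⟨q, p, hpq⟩ := hcop
  obtain ⟨a, b, hab, hba, h3, h4, h5, h6⟩ := ht
  obtain ⟨eN, hee, hN1, hN2⟩ := exists_glue E E' hEE hEE' a b (X ^ c) g p q hab hba h3 h4 h5 h6 hpq
  have h2 := hN2.map (algebraMap A[X] A[T;T⁻¹])
  have h2u : IsUnit (algebraMap A[X] A[T;T⁻¹] (X ^ c)) := by
    rw [LaurentPolynomial.algebraMap_eq_toLaurent, toLaurent_X_pow]
    exact LaurentPolynomial.isUnit_T _
  have h2' : Isog (1 : A[T;T⁻¹]) (eN.map (algebraMap A[X] A[T;T⁻¹]))
      (E.map (fun p => LaurentPolynomial.invert (toLaurent p))) := by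
    rw [map_C_map_invert]
    refine Isog.of_unit h2u ?_
    rwa [mul_one]
  have h3' := isog_const_of_laurent eN E hee hEE h2'
  have k1 := h3'.map (evalRingHom (1 : A))
  have k1' : (eN.map ((Polynomial.C : A →+* A[X]).comp (evalRingHom 0))).map (evalRingHom (1 : A)) =
      eN.map (evalRingHom (0 : A)) := by
    rw [Matrix.map_map]
    refine Matrix.ext fun i j => ?_
    simp
  rw [k1', map_one] at k1
  have k2 := hN1.map (evalRingHom (0 : A))
  rw [hE', map_C_map_eval, coe_evalRingHom, ← coeff_zero_eq_eval_zero, hg0] at k2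
  have k3 := hN2.map (evalRingHom (1 : A))
  rw [hE, map_C_map_eval, coe_evalRingHom, eval_pow, eval_X, one_pow] at k3
  have k4 := (k3.symm.comp k1).comp k2
  rwa [mul_one, mul_one] at k4

end unitcoeff

section powser
variable {R : Type u} [CommRing R] {m m' : Type} [Fintype m] [Fintype m'] [DecidableEq m]
  [DecidableEq m']

/-- the coercion `R[X] → R⟦X⟧` -/
noncomputable abbrev κ : R[X] →+* PowerSeries R := Polynomial.coeToPowerSeries.ringHom

omit [Fintype m] [DecidableEq m] in
lemma map_C_map_κ (ε : Matrix m m R) :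
    (ε.map (Polynomial.C : R →+* R[X])).map (κ (R := R)) = ε.map (PowerSeries.C : R →+* PowerSeries R) := by
  rw [Matrix.map_map]
  refine Matrix.ext fun i j => ?_
  simp [κ, Polynomial.coeToPowerSeries.ringHom_apply]

lemma exists_trunc_decomp {k l : Type} (K : ℕ) (A : Matrix k l (PowerSeries R)) :
    ∃ (Ap : Matrix k l R[X]) (A₁ : Matrix k l (PowerSeries R)),
      A = Ap.map (κ (R := R)) + (PowerSeries.X ^ K : PowerSeries R) • A₁ := by
  refine ⟨A.map (PowerSeries.trunc K),
    A.map (fun f => PowerSeries.mk fun i => PowerSeries.coeff (i + K) f), ?_⟩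
  refine Matrix.ext fun i j => ?_
  simp only [Matrix.add_apply, Matrix.map_apply, Matrix.smul_apply, smul_eq_mul, κ,
    Polynomial.coeToPowerSeries.ringHom_apply]
  rw [add_comm]
  exact PowerSeries.eq_X_pow_mul_shift_add_trunc K (A i j)

omit [DecidableEq m] [Fintype m] in
lemma X_pow_smul_cancel {k l : Type} (j : ℕ) {M N : Matrix k l R[X]}
    (h : (X ^ j : R[X]) • M = (X ^ j : R[X]) • N) : M = N := by
  refine Matrix.ext fun i l => ?_
  have := congrFun (congrFun h i) l
  simp only [Matrix.smul_apply, smul_eq_mul] at this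
  exact (isRegular_X_pow (R := R) j).left this

omit [DecidableEq m] [Fintype m] in
lemma PS_X_pow_smul_cancel {k l : Type} (j : ℕ) {M N : Matrix k l (PowerSeries R)}
    (h : (PowerSeries.X ^ j : PowerSeries R) • M = (PowerSeries.X ^ j : PowerSeries R) • N) :
    M = N := by
  refine Matrix.ext fun i l => ?_
  have := congrFun (congrFun h i) l
  simp only [Matrix.smul_apply, smul_eq_mul] at this
  exact PowerSeries.X_pow_mul_cancel this

/-- one-sided helper -/
lemma unit_helper (ε : Matrix m m R) (hε : ε * ε = ε) (V : Matrix m m R[X])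
    (hVE : V * ε.map (Polynomial.C : R →+* R[X]) = V)
    (hEV : ε.map (Polynomial.C : R →+* R[X]) * V = V)
    (hV0 : V.map (evalRingHom (0 : R)) = ε) :
    (1 - ε.map (Polynomial.C : R →+* R[X]) + V) * ε.map (Polynomial.C : R →+* R[X]) = V ∧
    ε.map (Polynomial.C : R →+* R[X]) * (1 - ε.map (Polynomial.C : R →+* R[X]) + V) = V ∧
    (Matrix.det (1 - ε.map (Polynomial.C : R →+* R[X]) + V)).coeff 0 = 1 := by
  set E := ε.map (Polynomial.C : R →+* R[X]) with hE
  have hEE : E * E = E := by rw [hE, ← Matrix.map_mul, hε]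
  refine ⟨?_, ?_, ?_⟩
  · rw [add_mul, sub_mul, one_mul, hEE, sub_self, zero_add, hVE]
  · rw [mul_add, mul_sub, mul_one, hEE, sub_self, zero_add, hEV]
  · rw [coeff_zero_eq_eval_zero, ← coe_evalRingHom, RingHom.map_det]
    have : (evalRingHom (0 : R)).mapMatrix (1 - E + V) = 1 := by
      rw [map_add, map_sub, map_one]
      show 1 - E.map (evalRingHom (0 : R)) + V.map (evalRingHom (0 : R)) = 1
      rw [hV0, hE, map_C_map_eval]
      abel
    rw [this, Matrix.det_one]

lemma trunc_algebra {S M : Type*} [CommRing S] [AddCommGroup M] [Module S M] (tj T c : S)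
    (hc : c = tj * T) (Eh P Q W : M) :
    tj • Eh - c • P - (c • Q - (c * c) • W) = tj • (Eh + T • (-(Q + P) + c • W)) := by
  subst hc
  module

/-- Divide a polynomial matrix product by `X^j` knowing the power series identity. -/
lemma exists_div_X_pow (ε : Matrix m m R) (j : ℕ)
    (a : Matrix m' m (PowerSeries R)) (b : Matrix m m' (PowerSeries R))
    (hba : b * a = (PowerSeries.X ^ j : PowerSeries R) • ε.map (PowerSeries.C : R →+* PowerSeries R))
    (ap : Matrix m' m R[X]) (bp : Matrix m m' R[X]) (a₁ : Matrix m' m (PowerSeries R))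
    (b₁ : Matrix m m' (PowerSeries R))
    (ha : a = ap.map (κ (R := R)) + (PowerSeries.X ^ (j + 1) : PowerSeries R) • a₁)
    (hb : b = bp.map (κ (R := R)) + (PowerSeries.X ^ (j + 1) : PowerSeries R) • b₁) :
    ∃ V : Matrix m m R[X], bp * ap = (X ^ j : R[X]) • V ∧ V.map (evalRingHom (0 : R)) = ε := by
  set T : PowerSeries R := PowerSeries.X with hT
  set Eh := ε.map (PowerSeries.C : R →+* PowerSeries R) with hEh
  have hap : ap.map (κ (R := R)) = a - (T ^ (j + 1)) • a₁ := by rw [ha]; abel
  have hbp : bp.map (κ (R := R)) = b - (T ^ (j + 1)) • b₁ := by rw [hb]; abel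
  set γ : Matrix m m (PowerSeries R) := -(b₁ * a + b * a₁) + (T ^ (j + 1)) • (b₁ * a₁) with hγ
  have hκ : (bp * ap).map (κ (R := R)) = (T ^ j) • (Eh + T • γ) := by
    rw [Matrix.map_mul, hap, hbp, Matrix.sub_mul, Matrix.mul_sub, Matrix.mul_sub, hba,
      Matrix.smul_mul, Matrix.smul_mul, Matrix.mul_smul, Matrix.mul_smul, smul_smul, hγ]
    exact trunc_algebra (T ^ j) T (T ^ (j + 1)) (pow_succ T j) Eh (b * a₁) (b₁ * a) (b₁ * a₁)
  -- divisibility
  have hdvd : ∀ i l, (X ^ j : R[X]) ∣ (bp * ap) i l := by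
    intro i l
    rw [Polynomial.X_pow_dvd_iff]
    intro d hd
    have h1 := congrFun (congrFun hκ i) l
    simp only [Matrix.map_apply, Matrix.smul_apply, smul_eq_mul, κ,
      Polynomial.coeToPowerSeries.ringHom_apply] at h1
    have h2 := congrArg (PowerSeries.coeff d) h1
    rw [Polynomial.coeff_coe, PowerSeries.coeff_X_pow_mul', if_neg (by omega)] at h2
    exact h2
  choose V hV using hdvd
  refine ⟨Matrix.of V, ?_, ?_⟩
  · refine Matrix.ext fun i l => ?_
    rw [Matrix.smul_apply, Matrix.of_apply, smul_eq_mul]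
    exact hV i l
  · have h3 : (Matrix.of V).map (κ (R := R)) = Eh + T • γ := by
      apply PS_X_pow_smul_cancel j
      rw [← hκ]
      refine Matrix.ext fun i l => ?_
      simp only [Matrix.map_apply, Matrix.smul_apply, smul_eq_mul, Matrix.of_apply, hV i l,
        map_mul, map_pow, κ, Polynomial.coeToPowerSeries.ringHom_apply, Polynomial.coe_X]
    refine Matrix.ext fun i l => ?_
    have h4 := congrFun (congrFun h3 i) l
    simp only [Matrix.map_apply, Matrix.add_apply, Matrix.smul_apply, smul_eq_mul, Matrix.of_apply,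
      κ, Polynomial.coeToPowerSeries.ringHom_apply] at h4
    have h5 := congrArg (PowerSeries.constantCoeff) h4
    rw [map_add, map_mul, hT, PowerSeries.constantCoeff_X, zero_mul, add_zero, hEh,
      Matrix.map_apply, PowerSeries.constantCoeff_C] at h5
    simp only [Matrix.map_apply, Matrix.of_apply, coe_evalRingHom, ← coeff_zero_eq_eval_zero]
    rw [← h5, ← Polynomial.coeff_coe, PowerSeries.coeff_zero_eq_constantCoeff_apply]

/-- normalised truncation -/
lemma exists_trunc_normalised (ε : Matrix m m R) (ε' : Matrix m' m' R) (hε : ε * ε = ε)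
    (hε' : ε' * ε' = ε') (K : ℕ) (a : Matrix m' m (PowerSeries R))
    (h3 : ε'.map (PowerSeries.C : R →+* PowerSeries R) * a = a)
    (h4 : a * ε.map (PowerSeries.C : R →+* PowerSeries R) = a) :
    ∃ (ap : Matrix m' m R[X]) (a₁ : Matrix m' m (PowerSeries R)),
      a = ap.map (κ (R := R)) + (PowerSeries.X ^ K : PowerSeries R) • a₁ ∧
      ε'.map (Polynomial.C : R →+* R[X]) * ap = ap ∧ ap * ε.map (Polynomial.C : R →+* R[X]) = ap := by
  obtain ⟨ap0, a10, h0⟩ := exists_trunc_decomp K a
  set E := ε.map (Polynomial.C : R →+* R[X]) with hE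
  set E' := ε'.map (Polynomial.C : R →+* R[X]) with hE'
  have hEE : E * E = E := by rw [hE, ← Matrix.map_mul, hε]
  have hEE' : E' * E' = E' := by rw [hE', ← Matrix.map_mul, hε']
  refine ⟨E' * ap0 * E, ε'.map (PowerSeries.C : R →+* PowerSeries R) * a10 *
    ε.map (PowerSeries.C : R →+* PowerSeries R), ?_, ?_, ?_⟩
  · rw [Matrix.map_mul, Matrix.map_mul, hE, hE', map_C_map_κ, map_C_map_κ]
    conv_lhs => rw [← h3, ← h4, h0]
    rw [Matrix.add_mul, Matrix.mul_add, Matrix.smul_mul, Matrix.mul_smul, Matrix.mul_assoc,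
      Matrix.mul_assoc]
  · rw [← Matrix.mul_assoc, ← Matrix.mul_assoc, hEE']
  · rw [Matrix.mul_assoc, hEE]

/-- From an isogeny over `R⟦X⟧` through a power of `X` to an isogeny over `R[X]` through
`X^j * g` with `g(0) = 1`. -/
theorem isog_poly_of_isog_powerSeries (ε : Matrix m m R) (ε' : Matrix m' m' R) (hε : ε * ε = ε)
    (hε' : ε' * ε' = ε') (j : ℕ)
    (h : Isog ((PowerSeries.X : PowerSeries R) ^ j) (ε.map (PowerSeries.C : R →+* PowerSeries R))
      (ε'.map (PowerSeries.C : R →+* PowerSeries R))) :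
    ∃ g : R[X], g.coeff 0 = 1 ∧ Isog (X ^ j * g) (ε.map (Polynomial.C : R →+* R[X]))
      (ε'.map (Polynomial.C : R →+* R[X])) := by
  obtain ⟨a, b, H1, H2, H3, H4, H5, H6⟩ := h
  obtain ⟨ap, a₁, ha, hap1, hap2⟩ := exists_trunc_normalised ε ε' hε hε' (j + 1) a H3 H4
  obtain ⟨bp, b₁, hb, hbp1, hbp2⟩ := exists_trunc_normalised ε' ε hε' hε (j + 1) b H5 H6
  obtain ⟨V, hV, hV0⟩ := exists_div_X_pow ε j a b H2 ap bp a₁ b₁ ha hb
  obtain ⟨V', hV', hV0'⟩ := exists_div_X_pow ε' j b a H1 bp ap b₁ a₁ hb ha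
  set E := ε.map (Polynomial.C : R →+* R[X]) with hE
  set E' := ε'.map (Polynomial.C : R →+* R[X]) with hE'
  have hEE : E * E = E := by rw [hE, ← Matrix.map_mul, hε]
  have hEE' : E' * E' = E' := by rw [hE', ← Matrix.map_mul, hε']
  have hVE : V * E = V := by
    apply X_pow_smul_cancel j
    rw [← Matrix.smul_mul, ← hV, Matrix.mul_assoc, hap2]
  have hEV : E * V = V := by
    apply X_pow_smul_cancel j
    rw [← Matrix.mul_smul, ← hV, ← Matrix.mul_assoc, hbp1]
  have hVE' : V' * E' = V' := by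
    apply X_pow_smul_cancel j
    rw [← Matrix.smul_mul, ← hV', Matrix.mul_assoc, hbp2]
  have hEV' : E' * V' = V' := by
    apply X_pow_smul_cancel j
    rw [← Matrix.mul_smul, ← hV', ← Matrix.mul_assoc, hap1]
  obtain ⟨hU1, hU2, hU3⟩ := unit_helper ε hε V hVE hEV hV0
  obtain ⟨hU1', hU2', hU3'⟩ := unit_helper ε' hε' V' hVE' hEV' hV0'
  set U := 1 - E + V with hU
  set U' := 1 - E' + V' with hU'
  have hapV : ap * V = V' * ap := by
    apply X_pow_smul_cancel j
    rw [← Matrix.mul_smul, ← hV, ← Matrix.smul_mul, ← hV', Matrix.mul_assoc]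
  have hcomm : ap * U = U' * ap := by
    rw [hU, hU', Matrix.mul_add, Matrix.mul_sub, Matrix.mul_one, hap2, sub_self, zero_add,
      Matrix.add_mul, Matrix.sub_mul, Matrix.one_mul, hap1, sub_self, zero_add, hapV]
  set G := U.det with hG
  set G' := U'.det with hG'
  have hadj : G • (U'.adjugate * ap) = G' • (ap * U.adjugate) := by
    have e1 : U'.adjugate * (ap * U) * U.adjugate = G • (U'.adjugate * ap) := by
      rw [Matrix.mul_assoc, Matrix.mul_assoc, Matrix.mul_adjugate, Matrix.mul_smul, Matrix.mul_smul,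
        Matrix.mul_one]
    have e2 : U'.adjugate * (U' * ap) * U.adjugate = G' • (ap * U.adjugate) := by
      rw [← Matrix.mul_assoc, Matrix.adjugate_mul, Matrix.smul_mul, Matrix.smul_mul, Matrix.one_mul]
    rw [← e1, ← e2, hcomm]
  set b0 := G' • (U.adjugate * bp) with hb0
  have hb0a : b0 * ap = (X ^ j * (G * G')) • E := by
    rw [hb0, Matrix.smul_mul, Matrix.mul_assoc, hV, Matrix.mul_smul, ← hU1, ← Matrix.mul_assoc,
      Matrix.adjugate_mul, Matrix.smul_mul, Matrix.one_mul, smul_smul, smul_smul]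
    congr 1
    ring
  have hab0 : ap * b0 = (X ^ j * (G * G')) • E' := by
    rw [hb0, Matrix.mul_smul, ← Matrix.mul_assoc, ← Matrix.smul_mul, ← hadj, Matrix.smul_mul,
      Matrix.mul_assoc, hV', Matrix.mul_smul, ← hU1', ← Matrix.mul_assoc, Matrix.adjugate_mul,
      Matrix.smul_mul, Matrix.one_mul, smul_smul, smul_smul]
    congr 1
    ring
  refine ⟨G * G', by rw [mul_coeff_zero, hU3, hU3', mul_one], ap, E * b0 * E', ?_, ?_, hap1, hap2,
    ?_, ?_⟩
  · rw [← Matrix.mul_assoc, ← Matrix.mul_assoc, hap2, hab0, Matrix.smul_mul, hEE']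
  · rw [Matrix.mul_assoc, Matrix.mul_assoc, hap1, hb0a, Matrix.mul_smul, hEE]
  · rw [← Matrix.mul_assoc, ← Matrix.mul_assoc, hEE]
  · rw [Matrix.mul_assoc, hEE']

end powser

end Groth.Agent.Lib.T2H2.Horr
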