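import Groth.Agent.Lib.T2H2HorrG

/-!
# Horrocks–Quillen, part H: density arguments (`L → L'` with `L` `t`-adically dense in `L'`)

* `isog_det_of_approx`: approximate inverses between images of idempotents give an isogeny through
  a product of two determinants.
* `Dense ι B t`: the abstract situation; `Dense.isog_one` (injectivity on finite projective
  modules, matrix form), `Dense.exists_split_approx` (stably free modules descend, matrix form),
  `Dense.nonempty_linearEquiv`, `Dense.exists_stablyFree` (module forms).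
* `dense_laurent`: the situation `R[t]_{⟨t, 1 + tR[t]⟩} → R((t))`.
-/

set_option autoImplicit false
open Polynomial TensorProduct Matrix
universe u v w

namespace Groth.Agent.Lib.T2H2.Horr

section detapprox
variable {C : Type u} [CommRing C] {m m' : Type} [Fintype m] [Fintype m'] [DecidableEq m]
  [DecidableEq m']

/-- Approximate inverses between images of idempotents give an isogeny through the product of two
determinants. -/
theorem isog_det_of_approx (E : Matrix m m C) (E' : Matrix m' m' C) (hEE : E * E = E)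
    (hEE' : E' * E' = E') (ap : Matrix m' m C) (bp : Matrix m m' C)
    (hap1 : E' * ap = ap) (hap2 : ap * E = ap) (hbp2 : bp * E' = bp) :
    Isog ((1 - E + bp * ap).det * (1 - E' + ap * bp).det) E E' := by
  set V := bp * ap with hV
  set V' := ap * bp with hV'
  have hVE : V * E = V := by rw [hV, Matrix.mul_assoc, hap2]
  have hVE' : V' * E' = V' := by rw [hV', Matrix.mul_assoc, hbp2]
  set U := 1 - E + V with hU
  set U' := 1 - E' + V' with hU'
  have hU1 : U * E = V := by
    rw [hU, Matrix.add_mul, Matrix.sub_mul, Matrix.one_mul, hEE, sub_self, zero_add, hVE]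
  have hU1' : U' * E' = V' := by
    rw [hU', Matrix.add_mul, Matrix.sub_mul, Matrix.one_mul, hEE', sub_self, zero_add, hVE']
  have hapV : ap * V = V' * ap := by rw [hV, hV', Matrix.mul_assoc]
  have hcomm : ap * U = U' * ap := by
    rw [hU, hU', Matrix.mul_add, Matrix.mul_sub, Matrix.mul_one, hap2, sub_self, zero_add,
      Matrix.add_mul, Matrix.sub_mul, Matrix.one_mul, hap1, sub_self, zero_add, hapV]
  set G := U.det with hG
  set G' := U'.det with hG'
  have hadj : G • (U'.adjugate * ap) = G' • (ap * U.adjugate) := by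
    have e1 : U'.adjugate * (ap * U) * U.adjugate = G • (U'.adjugate * ap) := by
      rw [Matrix.mul_assoc, Matrix.mul_assoc, Matrix.mul_adjugate, Matrix.mul_smul, Matrix.mul_smul,
        Matrix.mul_one]
    have e2 : U'.adjugate * (U' * ap) * U.adjugate = G' • (ap * U.adjugate) := by
      rw [← Matrix.mul_assoc, Matrix.adjugate_mul, Matrix.smul_mul, Matrix.smul_mul, Matrix.one_mul]
    rw [← e1, ← e2, hcomm]
  set b0 := G' • (U.adjugate * bp) with hb0
  have hb0a : b0 * ap = (G * G') • E := by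
    rw [hb0, Matrix.smul_mul, Matrix.mul_assoc, ← hV, ← hU1, ← Matrix.mul_assoc,
      Matrix.adjugate_mul, Matrix.smul_mul, Matrix.one_mul, smul_smul, mul_comm]
  have hab0 : ap * b0 = (G * G') • E' := by
    rw [hb0, Matrix.mul_smul, ← Matrix.mul_assoc, ← Matrix.smul_mul, ← hadj, Matrix.smul_mul,
      Matrix.mul_assoc, ← hV', ← hU1', ← Matrix.mul_assoc, Matrix.adjugate_mul,
      Matrix.smul_mul, Matrix.one_mul, smul_smul]
  refine ⟨ap, E * b0 * E', ?_, ?_, hap1, hap2, ?_, ?_⟩
  · rw [← Matrix.mul_assoc, ← Matrix.mul_assoc, hap2, hab0, Matrix.smul_mul, hEE']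
  · rw [Matrix.mul_assoc, Matrix.mul_assoc, hap1, hb0a, Matrix.mul_smul, hEE]
  · rw [← Matrix.mul_assoc, ← Matrix.mul_assoc, hEE]
  · rw [Matrix.mul_assoc, hEE']

end detapprox

section subring
variable {L' : Type v} [CommRing L']

/-- all entries lie in the subring `B` -/
def InB (B : Subring L') {k l : Type} (X : Matrix k l L') : Prop := ∀ i j, X i j ∈ B

variable {B : Subring L'} {k l n : Type}

lemma InB.add {X Y : Matrix k l L'} (hX : InB B X) (hY : InB B Y) : InB B (X + Y) :=
  fun i j => B.add_mem (hX i j) (hY i j)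

lemma InB.neg {X : Matrix k l L'} (hX : InB B X) : InB B (-X) :=
  fun i j => B.neg_mem (hX i j)

lemma InB.sub {X Y : Matrix k l L'} (hX : InB B X) (hY : InB B Y) : InB B (X - Y) :=
  fun i j => B.sub_mem (hX i j) (hY i j)

lemma InB.smul {X : Matrix k l L'} {b : L'} (hb : b ∈ B) (hX : InB B X) : InB B (b • X) :=
  fun i j => B.mul_mem hb (hX i j)

lemma InB.mul [Fintype l] {X : Matrix k l L'} {Y : Matrix l n L'} (hX : InB B X) (hY : InB B Y) :
    InB B (X * Y) := fun i j => by
  rw [Matrix.mul_apply]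
  exact B.sum_mem fun c _ => B.mul_mem (hX i c) (hY c j)

/-- `det (1 + s γ) ∈ 1 + s B`. -/
lemma exists_det_one_add_smul [Fintype k] [DecidableEq k] {s : L'} (hs : s ∈ B)
    {γ : Matrix k k L'} (hγ : InB B γ) :
    ∃ b ∈ B, (1 + s • γ).det = 1 + s * b := by
  let sB : B := ⟨s, hs⟩
  let γB : Matrix k k B := Matrix.of fun i j => ⟨γ i j, hγ i j⟩
  have h1 : (1 + sB • γB).map B.subtype = 1 + s • γ := by
    refine Matrix.ext fun i j => ?_
    by_cases hij : i = j
    · subst hij; simp [γB, sB]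
    · simp [γB, sB, hij]
  let q := Ideal.Quotient.mk (Ideal.span {sB})
  have h2 : q ((1 + sB • γB).det) = 1 := by
    rw [RingHom.map_det]
    have : q.mapMatrix (1 + sB • γB) = 1 := by
      rw [map_add, map_one]
      have h0 : q.mapMatrix (sB • γB) = 0 := by
        refine Matrix.ext fun i j => ?_
        simp only [RingHom.mapMatrix_apply, Matrix.map_apply, Matrix.smul_apply, smul_eq_mul,
          map_mul, Matrix.zero_apply]
        have : q sB = 0 := Ideal.Quotient.eq_zero_iff_mem.2 (Ideal.mem_span_singleton_self _)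
        rw [this, zero_mul]
      rw [h0, add_zero]
    rw [this, Matrix.det_one]
  have h3 : (1 + sB • γB).det - 1 ∈ Ideal.span {sB} := by
    rw [← Ideal.Quotient.eq_zero_iff_mem, map_sub, map_one]
    exact sub_eq_zero.2 h2
  obtain ⟨bB, hbB⟩ := Ideal.mem_span_singleton'.1 h3
  refine ⟨bB, bB.2, ?_⟩
  rw [← h1, ← RingHom.mapMatrix_apply, ← RingHom.map_det]
  have : (1 + sB • γB).det = 1 + sB * bB := by
    rw [mul_comm, hbB]; ring
  rw [this]
  simp [sB]

end subring

section dense
variable {L : Type u} [CommRing L] {L' : Type v} [CommRing L']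

/-- The abstract situation `L → L'` with a "ring of integers" `B ⊆ L'` and a parameter `t`:
`L` is `t`-adically dense in `L'`, `t` is in the Jacobson radical of `B`, and elements of `L`
whose image lies in `1 + tB` are units. -/
structure Dense (ι : L →+* L') (B : Subring L') (t : L) : Prop where
  t_mem : ι t ∈ B
  t_unit : IsUnit t
  jac : ∀ b ∈ B, IsUnit (1 + ι t * b)
  bdd : ∀ x : L', ∃ k : ℕ, ι t ^ k * x ∈ B
  approx : ∀ (x : L') (K : ℕ), ∃ y : L, ∃ b ∈ B, x = ι y + ι t ^ K * b
  unit : ∀ y : L, (∃ b ∈ B, ι y = 1 + ι t * b) → IsUnit y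

variable {ι : L →+* L'} {B : Subring L'} {t : L}

lemma Dense.pow_mem (D : Dense ι B t) (k : ℕ) : ι t ^ k ∈ B := B.pow_mem D.t_mem k

lemma Dense.bdd_mat (D : Dense ι B t) {k l : Type} [Fintype k] [Fintype l] (X : Matrix k l L') :
    ∃ c : ℕ, InB B (ι t ^ c • X) := by
  choose f hf using fun i j => D.bdd (X i j)
  refine ⟨Finset.univ.sup fun i => Finset.univ.sup (f i), fun i j => ?_⟩
  have h1 : f i j ≤ Finset.univ.sup fun i => Finset.univ.sup (f i) :=
    le_trans (Finset.le_sup (f := f i) (Finset.mem_univ j))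
      (Finset.le_sup (f := fun i => Finset.univ.sup (f i)) (Finset.mem_univ i))
  obtain ⟨d, hd⟩ := Nat.exists_eq_add_of_le h1
  rw [Matrix.smul_apply, smul_eq_mul, hd, add_comm, pow_add, mul_assoc]
  exact B.mul_mem (D.pow_mem d) (hf i j)

lemma InB.pow_more {ι : L →+* L'} {B : Subring L'} {t : L} (D : Dense ι B t) {k l : Type}
    {X : Matrix k l L'} {c : ℕ} (h : InB B (ι t ^ c • X)) (d : ℕ) : InB B (ι t ^ (c + d) • X) := by
  intro i j
  have := h i j
  rw [Matrix.smul_apply, smul_eq_mul] at this ⊢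
  rw [add_comm, _root_.pow_add, mul_assoc]
  exact B.mul_mem (D.pow_mem d) this

lemma Dense.approx_mat (D : Dense ι B t) {k l : Type} (X : Matrix k l L') (K : ℕ) :
    ∃ (Y : Matrix k l L) (Z : Matrix k l L'), InB B Z ∧ X = Y.map ι + ι t ^ K • Z := by
  choose y b hb hx using fun i j => D.approx (X i j) K
  refine ⟨Matrix.of y, Matrix.of b, fun i j => hb i j, Matrix.ext fun i j => ?_⟩
  simp only [Matrix.add_apply, Matrix.map_apply, Matrix.of_apply, Matrix.smul_apply, smul_eq_mul]
  exact hx i j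

variable {m m' : Type} [Fintype m] [Fintype m'] [DecidableEq m] [DecidableEq m']

/-- normalised approximation -/
lemma Dense.approx_norm (D : Dense ι B t) (e : Matrix m m L) (e' : Matrix m' m' L)
    (he : e * e = e) (he' : e' * e' = e')
    (a : Matrix m' m L') (h3 : e'.map ι * a = a) (h4 : a * e.map ι = a) (N : ℕ) :
    ∃ (a₀ : Matrix m' m L) (a₁ : Matrix m' m L'), InB B a₁ ∧ a = a₀.map ι + ι t ^ N • a₁ ∧
      e' * a₀ = a₀ ∧ a₀ * e = a₀ := by
  obtain ⟨c, hc⟩ := D.bdd_mat (e.map ι)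
  obtain ⟨c', hc'⟩ := D.bdd_mat (e'.map ι)
  obtain ⟨Y, Z, hZ, hX⟩ := D.approx_mat a (N + c + c')
  refine ⟨e' * Y * e, (ι t ^ c' • e'.map ι) * Z * (ι t ^ c • e.map ι), (hc'.mul hZ).mul hc, ?_, ?_,
    ?_⟩
  · conv_lhs => rw [← h3, ← h4, hX]
    rw [Matrix.map_mul, Matrix.map_mul, Matrix.add_mul, Matrix.mul_add, Matrix.smul_mul,
      Matrix.mul_smul, Matrix.smul_mul, Matrix.smul_mul, Matrix.mul_smul, smul_smul, smul_smul,
      Matrix.mul_assoc, Matrix.mul_assoc]
    congr 2
    ring
  · rw [← Matrix.mul_assoc, ← Matrix.mul_assoc, he']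
  · rw [Matrix.mul_assoc, he]

/-- **Injectivity**: idempotents over `L` that become equivalent over `L'` are equivalent. -/
theorem Dense.isog_one (D : Dense ι B t) (e : Matrix m m L) (e' : Matrix m' m' L)
    (he : e * e = e) (he' : e' * e' = e') (h : Isog (1 : L') (e.map ι) (e'.map ι)) :
    Isog (1 : L) e e' := by
  obtain ⟨a, b, hab, hba, h3, h4, h5, h6⟩ := h
  rw [one_smul] at hab hba
  obtain ⟨ca, hca⟩ := D.bdd_mat a
  obtain ⟨cb, hcb⟩ := D.bdd_mat b
  set c := ca + cb with hc
  have hca' : InB B (ι t ^ c • a) := hca.pow_more D cb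
  have hcb' : InB B (ι t ^ c • b) := by
    have := hcb.pow_more D ca
    rwa [add_comm] at this
  obtain ⟨a₀, a₁, ha₁, ha, ha1, ha2⟩ := D.approx_norm e e' he he' a h3 h4 (c + 1)
  obtain ⟨b₀, b₁, hb₁, hb, hb1, hb2⟩ := D.approx_norm e' e he' he b h5 h6 (c + 1)
  have key : ∀ {p q : Type} [Fintype p] [Fintype q] [DecidableEq p] [DecidableEq q]
      (ε : Matrix p p L) (x : Matrix q p L') (y : Matrix p q L') (x₀ : Matrix q p L)
      (y₀ : Matrix p q L) (x₁ : Matrix q p L') (y₁ : Matrix p q L'), y * x = ε.map ι →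
      InB B (ι t ^ c • x) → InB B (ι t ^ c • y) → InB B x₁ → InB B y₁ →
      x = x₀.map ι + ι t ^ (c + 1) • x₁ → y = y₀.map ι + ι t ^ (c + 1) • y₁ →
      IsUnit (1 - ε + y₀ * x₀).det := by
    intro p q _ _ _ _ ε x y x₀ y₀ x₁ y₁ hyx hx hy hx₁ hy₁ hxe hye
    set T := ι t with hT
    have hx₀ : x₀.map ι = x - T ^ (c + 1) • x₁ := by rw [hxe]; abel
    have hy₀ : y₀.map ι = y - T ^ (c + 1) • y₁ := by rw [hye]; abel
    set γ : Matrix p p L' := -(y₁ * (T ^ c • x) + (T ^ c • y) * x₁) + T ^ (c + 1 + c) • (y₁ * x₁)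
      with hγ
    have hγB : InB B γ :=
      ((hy₁.mul hx).add (hy.mul hx₁)).neg.add (InB.smul (D.pow_mem _) (hy₁.mul hx₁))
    have hU : (1 - ε + y₀ * x₀).map ι = 1 + T • γ := by
      have h1 : (1 - ε + y₀ * x₀).map ι = 1 - ε.map ι + y₀.map ι * x₀.map ι := by
        rw [← RingHom.mapMatrix_apply, map_add, map_sub, map_one, RingHom.mapMatrix_apply,
          RingHom.mapMatrix_apply, Matrix.map_mul]
      rw [h1, hx₀, hy₀, Matrix.sub_mul, Matrix.mul_sub, Matrix.mul_sub, hyx, hγ]
      simp only [Matrix.smul_mul, Matrix.mul_smul, smul_add, smul_neg, smul_smul]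
      have e1 : T * T ^ c = T ^ (c + 1) := by ring
      have e2 : T * T ^ (c + 1 + c) = T ^ (c + 1) * T ^ (c + 1) := by ring
      rw [e1, e2]
      abel
    obtain ⟨β, hβ, hdet⟩ := exists_det_one_add_smul D.t_mem hγB
    refine D.unit _ ⟨β, hβ, ?_⟩
    rw [RingHom.map_det, RingHom.mapMatrix_apply, hU, hdet]
  have hG := key e a b a₀ b₀ a₁ b₁ hba hca' hcb' ha₁ hb₁ ha hb
  have hG' := key e' b a b₀ a₀ b₁ a₁ hab hcb' hca' hb₁ ha₁ hb ha
  have := isog_det_of_approx e e' he he' a₀ b₀ ha1 ha2 hb2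
  refine Isog.of_unit (hG.mul hG') ?_
  rwa [mul_one]

/-- **Surjectivity for stably free modules**: a split surjection of free modules over `L'` can be
approximated by one over `L`, up to an automorphism of the source. -/
theorem Dense.exists_split_approx (D : Dense ι B t) (π : Matrix m' m L') (σ : Matrix m m' L')
    (h : π * σ = 1) :
    ∃ (π₀ : Matrix m' m L) (σ₀ : Matrix m m' L) (g g' : Matrix m m L'),
      π₀ * σ₀ = 1 ∧ g * g' = 1 ∧ g' * g = 1 ∧ π₀.map ι = π * g := by
  obtain ⟨cp, hcp⟩ := D.bdd_mat π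
  obtain ⟨cs, hcs⟩ := D.bdd_mat σ
  set c := cp + cs with hc
  have hcp' : InB B (ι t ^ c • π) := hcp.pow_more D cs
  have hcs' : InB B (ι t ^ c • σ) := by
    have := hcs.pow_more D cp
    rwa [add_comm] at this
  obtain ⟨π₁, δ, hδ, hπ⟩ := D.approx_mat π (c + 1)
  obtain ⟨σ₁, δ', hδ', hσ⟩ := D.approx_mat σ (c + 1)
  set T := ι t with hT
  have hπ₁ : π₁.map ι = π - T ^ (c + 1) • δ := by rw [hπ]; abel
  have hσ₁ : σ₁.map ι = σ - T ^ (c + 1) • δ' := by rw [hσ]; abel
  -- `π₁ σ₁` is invertible over `L`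
  set γ : Matrix m' m' L' := -(δ * (T ^ c • σ) + (T ^ c • π) * δ') + T ^ (c + 1 + c) • (δ * δ')
    with hγ
  have hγB : InB B γ :=
    ((hδ.mul hcs').add (hcp'.mul hδ')).neg.add (InB.smul (D.pow_mem _) (hδ.mul hδ'))
  have hW : (π₁ * σ₁).map ι = 1 + T • γ := by
    rw [Matrix.map_mul, hπ₁, hσ₁, Matrix.sub_mul, Matrix.mul_sub, Matrix.mul_sub, h, hγ]
    simp only [Matrix.smul_mul, Matrix.mul_smul, smul_add, smul_neg, smul_smul]
    have e1 : T * T ^ c = T ^ (c + 1) := by ring
    have e2 : T * T ^ (c + 1 + c) = T ^ (c + 1) * T ^ (c + 1) := by ring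
    rw [e1, e2]
    abel
  have hWu : IsUnit (π₁ * σ₁).det := by
    obtain ⟨β, hβ, hdet⟩ := exists_det_one_add_smul D.t_mem hγB
    refine D.unit _ ⟨β, hβ, ?_⟩
    rw [RingHom.map_det, RingHom.mapMatrix_apply, hW, hdet]
  -- the automorphism `g`
  set γ' : Matrix m m L' := -((T ^ c • σ) * δ) with hγ'
  have hγ'B : InB B γ' := (hcs'.mul hδ).neg
  set g : Matrix m m L' := 1 + T • γ' with hg
  have hgu : IsUnit g.det := by
    obtain ⟨β, hβ, hdet⟩ := exists_det_one_add_smul D.t_mem hγ'B
    rw [hdet]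
    exact D.jac β hβ
  refine ⟨π₁, σ₁ * (π₁ * σ₁)⁻¹, g, g⁻¹, ?_, Matrix.mul_nonsing_inv g hgu,
    Matrix.nonsing_inv_mul g hgu, ?_⟩
  · rw [← Matrix.mul_assoc, Matrix.mul_nonsing_inv _ hWu]
  · rw [hπ₁, hg, hγ', Matrix.mul_add, Matrix.mul_one, Matrix.mul_smul, Matrix.mul_neg,
      Matrix.smul_mul, Matrix.mul_smul, ← Matrix.mul_assoc, h, Matrix.one_mul, smul_neg, smul_smul,
      sub_eq_add_neg]
    congr 3
    ring

end dense

section modules
variable {L L' : Type u} [CommRing L] [CommRing L'] [Algebra L L'] {B : Subring L'} {t : L}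

/-- module form of injectivity -/
theorem Dense.nonempty_linearEquiv (D : Dense (algebraMap L L') B t)
    (M N : Type u) [AddCommGroup M] [Module L M] [Module.Finite L M] [Module.Projective L M]
    [AddCommGroup N] [Module L N] [Module.Finite L N] [Module.Projective L N]
    (θ : L' ⊗[L] M ≃ₗ[L'] L' ⊗[L] N) : Nonempty (M ≃ₗ[L] N) := by
  obtain ⟨n, ε, hε, ⟨θM⟩⟩ := exists_idempotent (C := L) M
  obtain ⟨n', ε', hε', ⟨θN⟩⟩ := exists_idempotent (C := L) N
  obtain ⟨D0⟩ := rgBaseChange L' hε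
  obtain ⟨D0'⟩ := rgBaseChange L' hε'
  let Θ := LinearEquiv.baseChange L L' M _ θM
  let Θ' := LinearEquiv.baseChange L L' N _ θN
  have hεA : ε.map (algebraMap L L') * ε.map (algebraMap L L') = ε.map (algebraMap L L') := by
    rw [← Matrix.map_mul, hε]
  have hεA' : ε'.map (algebraMap L L') * ε'.map (algebraMap L L') = ε'.map (algebraMap L L') := by
    rw [← Matrix.map_mul, hε']
  have h1 : Isog (1 : L') (ε.map (algebraMap L L')) (ε'.map (algebraMap L L')) :=
    Isog.of_rgEquiv hεA hεA' (((D0.symm.trans Θ.symm).trans θ).trans (Θ'.trans D0'))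
  obtain ⟨β⟩ := (D.isog_one ε ε' hε hε' h1).rgEquiv
  exact ⟨(θM.trans β).trans θN.symm⟩

/-- module form of surjectivity for stably free modules -/
theorem Dense.exists_stablyFree (D : Dense (algebraMap L L') B t)
    (M' : Type u) [AddCommGroup M'] [Module L' M'] (n m : ℕ)
    (Φ : (M' × (Fin n → L')) ≃ₗ[L'] (Fin m → L')) :
    ∃ (M : Type u) (_ : AddCommGroup M) (_ : Module L M), Module.Finite L M ∧
      (∃ n m : ℕ, Nonempty ((M × (Fin n → L)) ≃ₗ[L] (Fin m → L))) ∧
      Nonempty (L' ⊗[L] M ≃ₗ[L'] M') := by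
  let P : (Fin m → L') →ₗ[L'] (Fin n → L') :=
    (LinearMap.snd L' M' (Fin n → L')) ∘ₗ Φ.symm.toLinearMap
  let S : (Fin n → L') →ₗ[L'] (Fin m → L') :=
    Φ.toLinearMap ∘ₗ (LinearMap.inr L' M' (Fin n → L'))
  have hPS : P ∘ₗ S = LinearMap.id := by
    refine LinearMap.ext fun y => ?_
    simp [P, S]
  set π := LinearMap.toMatrix' P with hπ
  set σ := LinearMap.toMatrix' S with hσ
  have hπσ : π * σ = 1 := by
    rw [hπ, hσ, ← LinearMap.toMatrix'_comp, hPS, LinearMap.toMatrix'_id]
  have hπv : ∀ v, π.mulVec v = P v := fun v => by rw [hπ, LinearMap.toMatrix'_mulVec]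
  obtain ⟨π₀, σ₀, g, g', h1, h2, h3, h4⟩ := D.exists_split_approx π σ hπσ
  set ε : Matrix (Fin m) (Fin m) L := 1 - σ₀ * π₀ with hε
  have hπε : π₀ * ε = 0 := by
    rw [hε, Matrix.mul_sub, Matrix.mul_one, ← Matrix.mul_assoc, h1, Matrix.one_mul, sub_self]
  have hεσ : ε * σ₀ = 0 := by
    rw [hε, Matrix.sub_mul, Matrix.one_mul, Matrix.mul_assoc, h1, Matrix.mul_one, sub_self]
  have hεε : ε * ε = ε := by
    conv_lhs => rw [hε, Matrix.sub_mul, Matrix.one_mul, Matrix.mul_assoc, hπε, Matrix.mul_zero,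
      sub_zero]
  refine ⟨Rg ε, inferInstance, inferInstance, rg_finite ε, ⟨n, m, ?_⟩, ?_⟩
  · -- stably free
    let f : (Rg ε × (Fin n → L)) →ₗ[L] (Fin m → L) := (Rg ε).subtype.coprod σ₀.mulVecLin
    let g₀ : (Fin m → L) →ₗ[L] (Rg ε × (Fin n → L)) :=
      (ε.mulVecLin.rangeRestrict).prod π₀.mulVecLin
    refine ⟨LinearEquiv.ofLinearMap f g₀ ?_ ?_⟩
    · refine LinearMap.ext fun v => ?_
      show ε.mulVec v + σ₀.mulVec (π₀.mulVec v) = v
      rw [Matrix.mulVec_mulVec, ← Matrix.add_mulVec, hε, sub_add_cancel, Matrix.one_mulVec]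
    · refine LinearMap.ext fun ⟨x, y⟩ => ?_
      have hx := (mem_Rg hεε).1 x.2
      have hx' : π₀.mulVec (x : Fin m → L) = 0 := by
        rw [← hx, Matrix.mulVec_mulVec, hπε, Matrix.zero_mulVec]
      refine Prod.ext (Subtype.ext ?_) ?_
      · show ε.mulVec ((x : Fin m → L) + σ₀.mulVec y) = x
        rw [Matrix.mulVec_add, Matrix.mulVec_mulVec, hεσ, hx, Matrix.zero_mulVec, add_zero]
      · show π₀.mulVec ((x : Fin m → L) + σ₀.mulVec y) = y
        rw [Matrix.mulVec_add, Matrix.mulVec_mulVec, h1, hx', Matrix.one_mulVec, zero_add]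
  · -- base change
    obtain ⟨D0⟩ := rgBaseChange L' hεε
    set εh := ε.map (algebraMap L L') with hεh
    have hεεh : εh * εh = εh := by rw [hεh, ← Matrix.map_mul, hεε]
    have hπεh : π * g * εh = 0 := by
      rw [← h4, hεh, ← Matrix.map_mul, hπε]
      exact Matrix.map_zero _ (map_zero _)
    have hεh' : εh = 1 - σ₀.map (algebraMap L L') * (π * g) := by
      rw [← h4, ← Matrix.map_mul, hεh, hε, ← RingHom.mapMatrix_apply, map_sub, map_one]
      rfl
    let fwd : Rg εh →ₗ[L'] M' :=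
      (LinearMap.fst L' M' (Fin n → L')) ∘ₗ Φ.symm.toLinearMap ∘ₗ g.mulVecLin ∘ₗ (Rg εh).subtype
    let bwd₀ : M' →ₗ[L'] (Fin m → L') :=
      g'.mulVecLin ∘ₗ Φ.toLinearMap ∘ₗ (LinearMap.inl L' M' (Fin n → L'))
    have hbwd : ∀ x, bwd₀ x ∈ Rg εh := by
      intro x
      rw [mem_Rg hεεh, hεh', Matrix.sub_mulVec, Matrix.one_mulVec, sub_eq_self,
        ← Matrix.mulVec_mulVec, ← Matrix.mulVec_mulVec]
      have : π.mulVec (g.mulVec (bwd₀ x)) = 0 := by
        simp only [bwd₀, LinearMap.comp_apply, Matrix.mulVecLin_apply, Matrix.mulVec_mulVec, h2,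
          Matrix.one_mulVec, hπv]
        simp [P]
      rw [this, Matrix.mulVec_zero]
    let bwd : M' →ₗ[L'] Rg εh := LinearMap.codRestrict (Rg εh) bwd₀ hbwd
    have E : Rg εh ≃ₗ[L'] M' := by
      refine LinearEquiv.ofLinearMap fwd bwd ?_ ?_
      · refine LinearMap.ext fun x => ?_
        simp only [fwd, bwd, bwd₀, LinearMap.comp_apply, LinearMap.codRestrict_apply,
          Submodule.subtype_apply, Matrix.mulVecLin_apply, Matrix.mulVec_mulVec, h2,
          Matrix.one_mulVec, LinearMap.id_apply]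
        simp
      · refine LinearMap.ext fun v => Subtype.ext ?_
        have hv := (mem_Rg hεεh).1 v.2
        have hv' : P (g.mulVec (v : Fin m → L')) = 0 := by
          rw [← hπv, Matrix.mulVec_mulVec, ← hv, Matrix.mulVec_mulVec, hπεh, Matrix.zero_mulVec]
        have hv'' : Φ.symm (g.mulVec (v : Fin m → L')) =
            ((Φ.symm (g.mulVec (v : Fin m → L'))).1, 0) := by
          refine Prod.ext rfl ?_
          exact hv'
        simp only [fwd, bwd, bwd₀, LinearMap.comp_apply, LinearMap.codRestrict_apply,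
          Submodule.subtype_apply, Matrix.mulVecLin_apply, LinearMap.id_apply,
          LinearMap.fst_apply, LinearMap.inl_apply, LinearEquiv.coe_coe]
        rw [← hv'', LinearEquiv.apply_symm_apply, Matrix.mulVec_mulVec, h3, Matrix.one_mulVec]
    exact ⟨D0.trans E⟩

end modules

section laurent
variable (R : Type u) [CommRing R]

/-- the multiplicative set generated by `X` and `1 + X R[X]` -/
noncomputable abbrev S₀ : Submonoid R[X] := Submonoid.closure ({f : R[X] | f.coeff 0 = 1} ∪ {X})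

variable {R}

lemma S₀_form {s : R[X]} (hs : s ∈ S₀ R) : ∃ (k : ℕ) (g : R[X]), g.coeff 0 = 1 ∧ s = X ^ k * g := by
  induction hs using Submonoid.closure_induction with
  | mem x hx =>
    rcases hx with hx | hx
    · exact ⟨0, x, hx, by rw [pow_zero, one_mul]⟩
    · rw [Set.mem_singleton_iff] at hx
      exact ⟨1, 1, by simp, by rw [hx, pow_one, mul_one]⟩
  | one => exact ⟨0, 1, by simp, by simp⟩
  | mul x y _ _ hx hy =>
    obtain ⟨k, g, hg, rfl⟩ := hx
    obtain ⟨k', g', hg', rfl⟩ := hy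
    refine ⟨k + k', g * g', by rw [mul_coeff_zero, hg, hg', one_mul], ?_⟩
    rw [pow_add]; ring

lemma mem_S₀_of {k : ℕ} {g : R[X]} (hg : g.coeff 0 = 1) : X ^ k * g ∈ S₀ R :=
  (S₀ R).mul_mem ((S₀ R).pow_mem (Submonoid.subset_closure (Or.inr rfl)) k)
    (Submonoid.subset_closure (Or.inl hg))

variable (L : Type u) [CommRing L] [Algebra R[X] L] [IsLocalization (S₀ R) L]
  (L' : Type u) [CommRing L'] [Algebra L L'] (e : L' ≃+* LaurentSeries R)
  (he : ∀ p : R[X], e (algebraMap L L' (algebraMap R[X] L p)) =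
      HahnSeries.ofPowerSeries ℤ R (Polynomial.coeToPowerSeries.ringHom p))

include he in
theorem dense_laurent :
    Dense (algebraMap L L')
      (Subring.comap (e : L' →+* LaurentSeries R) (HahnSeries.ofPowerSeries ℤ R).range)
      (algebraMap R[X] L X) := by
  set ofPS := HahnSeries.ofPowerSeries ℤ R with hofPS
  have hT : e (algebraMap L L' (algebraMap R[X] L X)) = ofPS PowerSeries.X := by
    rw [he]; simp [Polynomial.coeToPowerSeries.ringHom_apply]
  have htu : IsUnit (algebraMap R[X] L X) :=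
    IsLocalization.map_units L (⟨X, Submonoid.subset_closure (Or.inr rfl)⟩ : S₀ R)
  have hTu : IsUnit (ofPS PowerSeries.X) := by
    rw [← hT]
    exact (htu.map (algebraMap L L')).map e
  -- denominators
  have hbdd : ∀ z : LaurentSeries R, ∃ (k : ℕ) (w : PowerSeries R),
      ofPS PowerSeries.X ^ k * z = ofPS w := by
    intro z
    obtain ⟨⟨w, s⟩, hws⟩ := IsLocalization.surj (Submonoid.powers (PowerSeries.X : PowerSeries R)) z
    obtain ⟨k, hk⟩ := s.2
    refine ⟨k, w, ?_⟩
    simp only [LaurentSeries.coe_algebraMap] at hws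
    rw [← hws, ← hk, map_pow, mul_comm]
  refine ⟨?_, htu, ?_, ?_, ?_, ?_⟩
  · rw [Subring.mem_comap]
    exact ⟨PowerSeries.X, hT.symm⟩
  · intro b hb
    rw [Subring.mem_comap] at hb
    obtain ⟨w, hw⟩ := hb
    have h1 : IsUnit ((e : L' →+* LaurentSeries R) (1 + algebraMap L L' (algebraMap R[X] L X) * b)) := by
      have : (e : L' →+* LaurentSeries R) (1 + algebraMap L L' (algebraMap R[X] L X) * b) =
          ofPS (1 + PowerSeries.X * w) := by
        rw [map_add, map_one, map_mul, map_add, map_one, map_mul, hw]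
        congr 2
      rw [this]
      refine RingHom.isUnit_map _ ?_
      rw [PowerSeries.isUnit_iff_constantCoeff]
      simp
    have := h1.map (e.symm : LaurentSeries R →+* L')
    simpa using this
  · intro x
    obtain ⟨k, w, hkw⟩ := hbdd (e x)
    refine ⟨k, ?_⟩
    rw [Subring.mem_comap]
    refine ⟨w, ?_⟩
    rw [← hkw, map_mul, map_pow]
    congr 2
    exact hT.symm
  · intro x K
    obtain ⟨k, w, hkw⟩ := hbdd (e x)
    obtain ⟨u, hu⟩ := htu
    have hw := PowerSeries.eq_X_pow_mul_shift_add_trunc (K + k) w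
    set p := PowerSeries.trunc (K + k) w with hp
    set w₁ := PowerSeries.mk fun i => PowerSeries.coeff (i + (K + k)) w with hw₁
    refine ⟨((u⁻¹ : Lˣ) : L) ^ k * algebraMap R[X] L p, e.symm (ofPS w₁), ?_, ?_⟩
    · rw [Subring.mem_comap]
      exact ⟨w₁, by simp⟩
    · apply e.injective
      apply (hTu.pow k).mul_left_cancel
      rw [hkw]
      have h2 : ofPS PowerSeries.X ^ k * (e (algebraMap L L' ((u⁻¹ : Lˣ) : L))) ^ k = 1 := by
        rw [← mul_pow, ← hT, ← map_mul, ← map_mul, ← hu, Units.mul_inv, map_one, map_one, one_pow]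
      simp only [map_add, map_mul, map_pow, RingEquiv.apply_symm_apply, hT, he]
      rw [mul_add, ← mul_assoc, h2, one_mul, ← mul_assoc, ← pow_add]
      conv_lhs => rw [hw]
      rw [map_add, map_mul, map_pow, add_comm, add_comm K k]
      rfl
  · rintro y ⟨b, hb, hyb⟩
    rw [Subring.mem_comap] at hb
    obtain ⟨w, hw⟩ := hb
    obtain ⟨⟨f, s⟩, hfs⟩ := IsLocalization.surj (S₀ R) y
    obtain ⟨k, g₀, hg₀, hs⟩ := S₀_form s.2
    have h1 : (1 + PowerSeries.X * w) * ((s : R[X]) : PowerSeries R) = (f : PowerSeries R) := by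
      apply HahnSeries.ofPowerSeries_injective (Γ := ℤ)
      have hw' : e b = ofPS w := hw.symm
      have := congrArg (fun z => e (algebraMap L L' z)) hfs
      simp only [map_mul, he, hyb, map_add, map_one, hw'] at this
      simp only [Polynomial.coeToPowerSeries.ringHom_apply, Polynomial.coe_X] at this
      rw [map_mul, map_add, map_one, map_mul]
      exact this
    have h2 : ∀ d < k, f.coeff d = 0 := by
      intro d hd
      have := congrArg (PowerSeries.coeff d) h1
      rw [Polynomial.coeff_coe] at this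
      rw [← this, hs, Polynomial.coe_mul, Polynomial.coe_pow, Polynomial.coe_X, mul_left_comm,
        PowerSeries.coeff_X_pow_mul', if_neg (by omega)]
    have h3 : f.coeff k = 1 := by
      have := congrArg (PowerSeries.coeff k) h1
      rw [Polynomial.coeff_coe] at this
      rw [← this, hs, Polynomial.coe_mul, Polynomial.coe_pow, Polynomial.coe_X, mul_left_comm,
        PowerSeries.coeff_X_pow_mul', if_pos le_rfl, Nat.sub_self,
        PowerSeries.coeff_zero_eq_constantCoeff_apply, map_mul, map_add, map_one, map_mul,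
        PowerSeries.constantCoeff_X, zero_mul, add_zero, one_mul,
        ← PowerSeries.coeff_zero_eq_constantCoeff_apply, Polynomial.coeff_coe, hg₀]
    obtain ⟨f₁, hf₁⟩ := Polynomial.X_pow_dvd_iff.2 h2
    have hf₁0 : f₁.coeff 0 = 1 := by
      have := Polynomial.coeff_X_pow_mul f₁ k 0
      rw [zero_add, ← hf₁, h3] at this
      exact this.symm
    have hfu : IsUnit (algebraMap R[X] L f) := by
      rw [hf₁]
      exact IsLocalization.map_units L (⟨_, mem_S₀_of hf₁0⟩ : S₀ R)
    rw [← hfs] at hfu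
    exact isUnit_of_mul_isUnit_left hfu

end laurent

end Groth.Agent.Lib.T2H2.Horr
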