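import Groth.Agent.Lib.T2H2HorrH

/-!
# Horrocks–Quillen, part J: the density situation `A[1/t] → Â[1/t]` for a Zariski pair `(A, tA)`
-/

set_option autoImplicit false
open Polynomial TensorProduct Matrix
universe u v w

namespace Groth.Agent.Lib.T2H2.Horr

section adic
variable (A : Type u) [CommRing A] (t : A)

/-- `Â = A + t^n Â`. -/
lemma adic_decomp (n : ℕ) (β : AdicCompletion (Ideal.span {t}) A) :
    ∃ (a : A) (β' : AdicCompletion (Ideal.span {t}) A),
      β = algebraMap A (AdicCompletion (Ideal.span {t}) A) a +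
        algebraMap A (AdicCompletion (Ideal.span {t}) A) t ^ n * β' := by
  obtain ⟨a, ha⟩ := Submodule.mkQ_surjective _ (AdicCompletion.eval (Ideal.span {t}) A n β)
  have hfg : (Ideal.span {t}).FG := ⟨{t}, by simp⟩
  have hmem : β - AdicCompletion.of (Ideal.span {t}) A a ∈
      LinearMap.ker (AdicCompletion.eval (Ideal.span {t}) A n) := by
    rw [LinearMap.mem_ker, map_sub, AdicCompletion.eval_of, ha, sub_self]
  rw [← AdicCompletion.pow_smul_top_eq_ker_eval hfg, Ideal.span_singleton_pow,
    Submodule.ideal_span_singleton_smul, Submodule.mem_smul_pointwise_iff_exists] at hmem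
  obtain ⟨β', -, hβ'⟩ := hmem
  refine ⟨a, β', ?_⟩
  rw [AdicCompletion.algebraMap_apply, Algebra.algebraMap_self_apply, ← map_pow, ← Algebra.smul_def,
    hβ']
  abel

lemma adic_jac (β : AdicCompletion (Ideal.span {t}) A) :
    IsUnit (1 + algebraMap A (AdicCompletion (Ideal.span {t}) A) t * β) := by
  have hfg : (Ideal.span {t}).FG := ⟨{t}, by simp⟩
  have h1 : IsAdicComplete (Ideal.span {t}) (AdicCompletion (Ideal.span {t}) A) :=
    AdicCompletion.isAdicComplete hfg
  have h2 : IsAdicComplete ((Ideal.span {t}).map (algebraMap A (AdicCompletion (Ideal.span {t}) A)))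
      (AdicCompletion (Ideal.span {t}) A) :=
    (IsAdicComplete.map_algebraMap_iff _ _).2 h1
  have h3 := IsAdicComplete.le_jacobson_bot
    ((Ideal.span {t}).map (algebraMap A (AdicCompletion (Ideal.span {t}) A)))
  have h4 : algebraMap A (AdicCompletion (Ideal.span {t}) A) t ∈
      (⊥ : Ideal (AdicCompletion (Ideal.span {t}) A)).jacobson :=
    h3 (Ideal.mem_map_of_mem _ (Ideal.mem_span_singleton_self t))
  have := Ideal.mem_jacobson_bot.1 h4 β
  rwa [add_comm] at this

/-- units are detected modulo `t` -/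
lemma adic_unit_lift (ht : t ∈ (⊥ : Ideal A).jacobson) (N k : ℕ) (a : A)
    (β : AdicCompletion (Ideal.span {t}) A)
    (h : algebraMap A (AdicCompletion (Ideal.span {t}) A) t ^ N *
        ((1 + algebraMap A (AdicCompletion (Ideal.span {t}) A) t * β) *
          algebraMap A (AdicCompletion (Ideal.span {t}) A) t ^ k) =
      algebraMap A (AdicCompletion (Ideal.span {t}) A) t ^ N *
        algebraMap A (AdicCompletion (Ideal.span {t}) A) a) :
    ∃ v : A, IsUnit v ∧ t ^ N * a = t ^ (N + k) * v := by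
  have h1 := congrArg (AdicCompletion.evalₐ (Ideal.span {t}) (N + k + 1)) h
  obtain ⟨b₀, hb₀⟩ := Ideal.Quotient.mk_surjective
    (AdicCompletion.evalₐ (Ideal.span {t}) (N + k + 1) β)
  simp only [map_mul, map_pow, map_add, map_one, AdicCompletion.algebraMap_apply,
    Algebra.algebraMap_self_apply, AdicCompletion.evalₐ_of, ← hb₀] at h1
  rw [← map_pow, ← map_pow, ← map_mul, ← map_one (Ideal.Quotient.mk _), ← map_add, ← map_mul,
    ← map_mul, ← map_mul, Ideal.Quotient.eq, Ideal.span_singleton_pow,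
    Ideal.mem_span_singleton'] at h1
  obtain ⟨z, hz⟩ := h1
  refine ⟨t * (b₀ - z) + 1, Ideal.mem_jacobson_bot.1 ht _, ?_⟩
  linear_combination hz

end adic

section general
variable {A : Type u} {Ah : Type v} {L : Type u} {L' : Type v} [CommRing A] [CommRing Ah]
  [CommRing L] [CommRing L'] [Algebra A Ah] [Algebra A L] [Algebra Ah L'] [Algebra L L']

theorem dense_of_away (t : A) [IsLocalization.Away t L]
    [IsLocalization.Away (algebraMap A Ah t) L']
    (hcomp : ∀ a, algebraMap L L' (algebraMap A L a) = algebraMap Ah L' (algebraMap A Ah a))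
    (hjac : ∀ β : Ah, IsUnit (1 + algebraMap A Ah t * β))
    (hdec : ∀ (n : ℕ) (β : Ah), ∃ (a : A) (β' : Ah),
      β = algebraMap A Ah a + algebraMap A Ah t ^ n * β')
    (hlift : ∀ (N k : ℕ) (a : A) (β : Ah),
      algebraMap A Ah t ^ N * ((1 + algebraMap A Ah t * β) * algebraMap A Ah t ^ k) =
        algebraMap A Ah t ^ N * algebraMap A Ah a →
      ∃ v : A, IsUnit v ∧ t ^ N * a = t ^ (N + k) * v) :
    Dense (algebraMap L L') (algebraMap Ah L').range (algebraMap A L t) := by
  set th := algebraMap A Ah t with hth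
  have htu : IsUnit (algebraMap A L t) := IsLocalization.Away.algebraMap_isUnit t
  have hT : algebraMap L L' (algebraMap A L t) = algebraMap Ah L' th := hcomp t
  have hTu : IsUnit (algebraMap Ah L' th) := IsLocalization.Away.algebraMap_isUnit th
  have hbdd : ∀ x : L', ∃ (k : ℕ) (β : Ah), algebraMap Ah L' th ^ k * x = algebraMap Ah L' β := by
    intro x
    obtain ⟨⟨β, s⟩, hs⟩ := IsLocalization.surj (Submonoid.powers th) x
    obtain ⟨k, hk⟩ := s.2
    refine ⟨k, β, ?_⟩
    rw [← hs, ← hk, map_pow, mul_comm]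
  refine ⟨?_, htu, ?_, ?_, ?_, ?_⟩
  · rw [hT]; exact ⟨th, rfl⟩
  · rintro b ⟨β, rfl⟩
    have := (hjac β).map (algebraMap Ah L')
    rwa [map_add, map_one, map_mul, ← hT] at this
  · intro x
    obtain ⟨k, β, hk⟩ := hbdd x
    exact ⟨k, β, by rw [hT, hk]⟩
  · intro x K
    obtain ⟨k, β, hk⟩ := hbdd x
    obtain ⟨a, β', hβ⟩ := hdec (K + k) β
    obtain ⟨u, hu⟩ := htu
    refine ⟨((u⁻¹ : Lˣ) : L) ^ k * algebraMap A L a, algebraMap Ah L' β', ⟨β', rfl⟩, ?_⟩
    apply (hTu.pow k).mul_left_cancel
    rw [hk]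
    have h2 : algebraMap Ah L' th ^ k * (algebraMap L L' ((u⁻¹ : Lˣ) : L)) ^ k = 1 := by
      rw [← mul_pow, ← hT, ← map_mul, ← hu, Units.mul_inv, map_one, one_pow]
    simp only [map_mul, map_pow, hT, hcomp]
    rw [mul_add, ← mul_assoc, h2, one_mul, ← mul_assoc, ← pow_add, hβ, map_add, map_mul, map_pow,
      add_comm k K]
  · rintro y ⟨b, ⟨β, rfl⟩, hyb⟩
    obtain ⟨⟨a, ⟨s, k, rfl⟩⟩, hs⟩ := IsLocalization.surj (Submonoid.powers t) y
    simp only at hs
    have h1 : algebraMap Ah L' ((1 + th * β) * th ^ k) = algebraMap Ah L' (algebraMap A Ah a) := by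
      have := congrArg (algebraMap L L') hs
      rw [map_mul, hyb] at this
      simp only [hcomp, map_pow] at this
      rw [map_mul, map_add, map_one, map_mul, map_pow]
      exact this
    obtain ⟨⟨c, N, rfl⟩, hc⟩ := (IsLocalization.eq_iff_exists (Submonoid.powers th) L').1 h1
    simp only at hc
    obtain ⟨v, hv, hNa⟩ := hlift N k a β hc
    have h3 : y * algebraMap A L (t ^ (N + k)) = algebraMap A L v * algebraMap A L (t ^ (N + k)) := by
      rw [← map_mul, mul_comm v, ← hNa, pow_add, mul_comm (t ^ N), map_mul, ← mul_assoc, hs,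
        ← map_mul, mul_comm]
    have h4 : IsUnit (algebraMap A L (t ^ (N + k))) := by
      rw [map_pow]; exact htu.pow _
    rw [h4.mul_left_inj] at h3
    rw [h3]
    exact hv.map _

end general

end Groth.Agent.Lib.T2H2.Horr
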