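import Groth.Agent.Lib.T2H2HorrH

/-!
# Horrocks–Quillen, part K: a bundle on `ℙ¹_A` is free on the affine line over a Zariski cover of `A`
-/

set_option autoImplicit false
open Polynomial TensorProduct Matrix
open scoped LaurentPolynomial
universe u v w

namespace Groth.Agent.Lib.T2H2.Horr

section cover
variable {A : Type u} [CommRing A]

/-- matrix form of `extended_of_P1`: keeps track of the constant idempotent. -/
theorem exists_isog_const_of_P1 (M : Type u) [AddCommGroup M] [Module A[X] M]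
    [Module.Finite A[X] M] [Module.Projective A[X] M]
    (N : Type u) [AddCommGroup N] [Module A[X] N]
    [Module.Finite A[X] N] [Module.Projective A[X] N]
    (f : (A[T;T⁻¹] ⊗[A[X]] M) →ₛₗ[(LaurentPolynomial.invert (R := A)).toRingEquiv.toRingHom]
            (A[T;T⁻¹] ⊗[A[X]] N)) (hf : Function.Bijective f) :
    ∃ (n : ℕ) (e : Matrix (Fin n) (Fin n) A[X]), e * e = e ∧ Nonempty (M ≃ₗ[A[X]] Rg e) ∧
      Isog (1 : A[X]) e (e.map ((C : A →+* A[X]).comp (evalRingHom 0))) := by
  obtain ⟨n, e, he, ⟨θM⟩⟩ := exists_idempotent (C := A[X]) M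
  obtain ⟨n', e', he', ⟨θN⟩⟩ := exists_idempotent (C := A[X]) N
  let ΘM := LinearEquiv.baseChange A[X] A[T;T⁻¹] M (Rg e) θM
  let ΘN := LinearEquiv.baseChange A[X] A[T;T⁻¹] N (Rg e') θN
  obtain ⟨DM⟩ := rgBaseChange A[T;T⁻¹] he
  obtain ⟨DN⟩ := rgBaseChange A[T;T⁻¹] he'
  let τ : A[T;T⁻¹] →+* A[T;T⁻¹] := (LaurentPolynomial.invert (R := A)).toRingEquiv.toRingHom
  have hτ : ∀ l, τ (τ l) = l := fun l => LaurentPolynomial.involutive_invert l
  set E := e.map (algebraMap A[X] A[T;T⁻¹]) with hE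
  set E' := e'.map (algebraMap A[X] A[T;T⁻¹]) with hE'
  have hEE : E * E = E := by rw [hE, ← Matrix.map_mul, he]
  have hEE' : E' * E' = E' := by rw [hE', ← Matrix.map_mul, he']
  let g : Rg E → Rg E' := fun x => DN (ΘN (f (ΘM.symm (DM.symm x))))
  have h1 : Isog (1 : A[T;T⁻¹]) E (E'.map τ) := by
    refine isog_of_semilinear τ hτ E E' hEE hEE' g ?_ ?_ ?_
    · intro x y
      simp only [g, map_add]
    · intro l x
      simp only [g, map_smul, LinearMap.map_smulₛₗ]
      rfl
    · exact DN.bijective.comp (ΘN.bijective.comp (hf.comp (ΘM.symm.bijective.comp DM.symm.bijective)))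
  have h2 : E'.map τ = e'.map (fun p => LaurentPolynomial.invert (toLaurent p)) := by
    rw [hE', Matrix.map_map]
    rfl
  rw [h2] at h1
  exact ⟨n, e, he, ⟨θM⟩, isog_const_of_laurent e e' he he' h1⟩

/-- A vector bundle on `ℙ¹_A` restricts to a free module on the affine line over the members of a
finite Zariski cover of `Spec A`. -/
theorem exists_cover_free_of_P1 (M : Type u) [AddCommGroup M] [Module A[X] M]
    [Module.Finite A[X] M] [Module.Projective A[X] M]
    (N : Type u) [AddCommGroup N] [Module A[X] N]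
    [Module.Finite A[X] N] [Module.Projective A[X] N]
    (f : (A[T;T⁻¹] ⊗[A[X]] M) →ₛₗ[(LaurentPolynomial.invert (R := A)).toRingEquiv.toRingHom]
            (A[T;T⁻¹] ⊗[A[X]] N)) (hf : Function.Bijective f) :
    ∃ (n : ℕ) (g : Fin n → A), Ideal.span (Set.range g) = ⊤ ∧
      ∀ i, Module.Free (Localization.Away (Polynomial.C (g i) : A[X]))
        (LocalizedModule (Submonoid.powers (Polynomial.C (g i) : A[X])) M) := by
  obtain ⟨n, e, he, ⟨θM⟩, h3⟩ := exists_isog_const_of_P1 M N f hf
  set ε₀ : Matrix (Fin n) (Fin n) A := e.map (evalRingHom (0 : A)) with hε₀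
  have hε₀2 : ε₀ * ε₀ = ε₀ := by rw [hε₀, ← Matrix.map_mul, he]
  have hε₀C : e.map ((C : A →+* A[X]).comp (evalRingHom 0)) = ε₀.map (C : A →+* A[X]) := by
    rw [hε₀, Matrix.map_map]; rfl
  rw [hε₀C] at h3
  -- the good elements
  let G : Set A := {g | ∃ r : ℕ, Isog g ε₀ (1 : Matrix (Fin r) (Fin r) A)}
  have hG : Ideal.span G = ⊤ := by
    by_contra hne
    obtain ⟨𝔪, hm, hle⟩ := Ideal.exists_le_maximal _ hne
    haveI := hm.isPrime
    obtain ⟨g, hg, r, hr⟩ := exists_isog_of_prime ε₀ hε₀2 𝔪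
    exact hg (hle (Ideal.subset_span ⟨r, hr⟩))
  obtain ⟨s', hs'G, hs'⟩ := (Ideal.span_eq_top_iff_finite G).1 hG
  refine ⟨s'.card, fun i => (s'.equivFin.symm i : A), ?_, fun i => ?_⟩
  · have : Set.range (fun i => (s'.equivFin.symm i : A)) = (s' : Set A) := by
      ext x
      constructor
      · rintro ⟨i, rfl⟩
        exact (s'.equivFin.symm i).2
      · intro hx
        exact ⟨s'.equivFin ⟨x, hx⟩, by simp⟩
    rw [this, hs']
  · set gi : A := (s'.equivFin.symm i : A) with hgi
    obtain ⟨r, hr⟩ := hs'G (s'.equivFin.symm i).2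
    set Li := Localization.Away (Polynomial.C gi : A[X]) with hLi
    -- `ε₀.map C` is free of rank `r` over `Li`
    have k1 := (hr.map (C : A →+* A[X])).map (algebraMap A[X] Li)
    have h1r : ((1 : Matrix (Fin r) (Fin r) A).map (C : A →+* A[X])).map (algebraMap A[X] Li) = 1 := by
      rw [Matrix.map_one _ (map_zero _) (map_one _), Matrix.map_one _ (map_zero _) (map_one _)]
    rw [h1r] at k1
    have hu : IsUnit (algebraMap A[X] Li (C gi)) := IsLocalization.Away.algebraMap_isUnit _
    have k2 : Isog (1 : Li) ((ε₀.map (C : A →+* A[X])).map (algebraMap A[X] Li))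
        (1 : Matrix (Fin r) (Fin r) Li) := by
      refine Isog.of_unit hu ?_
      rwa [mul_one]
    have k3 := (h3.map (algebraMap A[X] Li)).comp k2
    rw [map_one, mul_one] at k3
    obtain ⟨β⟩ := k3.rgEquiv
    obtain ⟨D0⟩ := rgBaseChange Li he
    have hRg1 : Rg (1 : Matrix (Fin r) (Fin r) Li) = ⊤ := by
      rw [eq_top_iff]
      intro x _
      exact ⟨x, by simp⟩
    let Θ := LinearEquiv.baseChange A[X] Li M (Rg e) θM
    let E0 := LocalizedModule.equivTensorProduct (Submonoid.powers (Polynomial.C gi : A[X])) M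
    let Φ : LocalizedModule (Submonoid.powers (Polynomial.C gi : A[X])) M ≃ₗ[Li] (Fin r → Li) :=
      (((E0.trans Θ).trans D0).trans β).trans
        ((LinearEquiv.ofEq _ _ hRg1).trans Submodule.topEquiv)
    exact Module.Free.of_equiv Φ.symm

end cover

end Groth.Agent.Lib.T2H2.Horr
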