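import Groth.Agent.Lib.T2H2NegVan
import Groth.Agent.Lib.T2H2LimCx
import Mathlib.Algebra.Homology.DerivedCategory.RightDerivedFunctorPlus
import Mathlib.Algebra.Homology.DerivedCategory.Plus

/-! Cohomology sheaves of the derived direct image as sheafified hypercohomology (S8351). -/

set_option autoImplicit false
set_option linter.style.haveILetI false
universe w₁ w₂ v₁ v₂ v' u₁ u₂ u' u
open CategoryTheory CategoryTheory.Limits Opposite DerivedCategory

namespace Groth.Agent.Lib.T2H2.HyperPush

open Groth.Agent.Lib.Helper17.Hyp Groth.Agent.Lib.T2H2.NegVan Groth.Agent.Lib.Helper17.KInj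

section Canon

variable {C : Type u} [SmallCategory C] {J : GrothendieckTopology C}
  [HasDerivedCategory.{u} (Sheaf J AddCommGrpCat.{u})]

/-- the presheaf map `H^q(-, M) ⟶ H^q(M)`. -/
noncomputable def canonNat (M : DerivedCategory (Sheaf J AddCommGrpCat.{u})) (q : ℤ) :
    CohCx.HDUPresheaf M q ⟶ (CohCx.HD M q).obj where
  app U := AddCommGrpCat.ofHom (canonU M q U.unop)
  naturality U V g := by
    ext ξ
    exact canonU_res M q g.unop ξ

theorem isIso_presheafToSheaf_map_canonNat (M : DerivedCategory (Sheaf J AddCommGrpCat.{u}))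
    (q : ℤ) : IsIso ((presheafToSheaf J AddCommGrpCat.{u}).map (canonNat M q)) := by
  rw [← J.W_iff, J.W_iff_isLocallyBijective]
  constructor
  · constructor
    intro X ξ ξ' h
    let a : CohCx.HDU M q X.unop := ξ
    let a' : CohCx.HDU M q X.unop := ξ'
    have h0 : canonU M q X.unop (a - a') = 0 := by
      rw [(canonU M q X.unop).map_sub]
      exact sub_eq_zero.2 h
    have h1 : cm (P := CohCx.freeSheaf J X.unop) (K := M) (m := q) (a - a') = 0 := by
      apply (CohFree.homEquivSect J X.unop (CohCx.HD M q)).injective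
      rw [CohFree.homEquivSect_apply, CohFree.homEquivSect_apply, map_zero]
      exact h0
    obtain ⟨T, hT, hT'⟩ := exists_cover_eq_zero_cm.{u, u} (locFr_frSh J) M q X.unop (a - a') h1
    refine J.superset_covering ?_ hT
    intro V f hf
    have h2 : CohCx.HDUres M q f (a - a') = 0 := hT' f hf
    change CohCx.HDUres M q f a = CohCx.HDUres M q f a'
    rw [← sub_eq_zero, ← (CohCx.HDUres M q f).map_sub]
    exact h2
  · constructor
    intro U s
    obtain ⟨T, hT, hT'⟩ := exists_lift_cm (locFr_frSh J) M q U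
      ((CohFree.homEquivSect J U (CohCx.HD M q)).symm s)
    refine J.superset_covering ?_ hT
    intro V f hf
    obtain ⟨ξ, hξ⟩ := hT' f hf
    refine ⟨ξ, ?_⟩
    change canonU M q V ξ = ((CohCx.HD M q).obj.map f.op).hom s
    rw [canonU_apply]
    refine (congrArg (CohFree.evalGen J V (CohCx.HD M q)) hξ).trans ?_
    have h3 := CohFree.evalGen_freeSheafMap_comp J f (CohCx.HD M q)
      ((CohFree.homEquivSect J U (CohCx.HD M q)).symm s)
    refine h3.trans ?_
    congr 1
    exact (CohFree.homEquivSect J U (CohCx.HD M q)).apply_symm_apply s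

/-- the cohomology sheaf is the sheafification of the hypercohomology presheaf. -/
noncomputable def sheafifyHDUIso (M : DerivedCategory (Sheaf J AddCommGrpCat.{u})) (q : ℤ) :
    (presheafToSheaf J AddCommGrpCat.{u}).obj (CohCx.HDUPresheaf M q) ≅ CohCx.HD M q :=
  haveI := isIso_presheafToSheaf_map_canonNat M q
  asIso ((presheafToSheaf J AddCommGrpCat.{u}).map (canonNat M q)) ≪≫
    (asIso (sheafificationAdjunction J AddCommGrpCat.{u}).counit).app (CohCx.HD M q)

end Canon

section Adj

variable {T : Type u₁} [Category.{v₁} T] [Preadditive T] [HasShift T ℤ]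
  {T' : Type u₂} [Category.{v₂} T'] [Preadditive T'] [HasShift T' ℤ]
  {G : T ⥤ T'} {R : T' ⥤ T} (adj : G ⊣ R) [R.CommShift ℤ] [G.Additive]

lemma adjShiftEquiv_add (P : T) (X : T') (m : ℤ) (y y' : P ⟶ (R.obj X)⟦m⟧) :
    adjShiftEquiv adj P X m (y + y') = adjShiftEquiv adj P X m y + adjShiftEquiv adj P X m y' := by
  change (adj.homEquiv P (X⟦m⟧)).symm ((y + y') ≫ (R.commShiftIso m).inv.app X) =
    (adj.homEquiv P (X⟦m⟧)).symm (y ≫ (R.commShiftIso m).inv.app X) +
    (adj.homEquiv P (X⟦m⟧)).symm (y' ≫ (R.commShiftIso m).inv.app X)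
  rw [Adjunction.homEquiv_counit, Adjunction.homEquiv_counit, Adjunction.homEquiv_counit,
    Preadditive.add_comp, Functor.map_add, Preadditive.add_comp]

end Adj

section Add

variable {A : Type u₁} [Category.{v₁} A] [Abelian A] {B : Type u₂} [Category.{v₂} B] [Abelian B]
  [IsGrothendieckAbelian.{v₂} B] [HasDerivedCategory.{w₁} A] [HasDerivedCategory.{w₂} B]
  (Fp : A ⥤ B) (G : B ⥤ A) (adj : Fp ⊣ G) [Fp.Additive] [G.Additive]
  [PreservesFiniteLimits Fp] [PreservesFiniteColimits Fp]
  {D : Type u'} [Category.{v'} D] {frA : D ⥤ A} {frB : D ⥤ B} (φ : frA ⋙ Fp ≅ frB)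

lemma hEquiv_add (V : D) (Kx : DerivedCategory B) (m : ℤ)
    (y y' : dsgl (frA.obj V) ⟶ ((RG G).obj Kx)⟦m⟧) :
    hEquiv Fp G adj φ V Kx m (y + y') = hEquiv Fp G adj φ V Kx m y + hEquiv Fp G adj φ V Kx m y' := by
  letI : (RG G).CommShift ℤ := (adjRG Fp G adj).rightAdjointCommShift ℤ
  change ((thetaIso Fp φ).app V).inv ≫ adjShiftEquiv (adjRG Fp G adj) (dsgl (frA.obj V)) Kx m (y + y') =
    ((thetaIso Fp φ).app V).inv ≫ adjShiftEquiv (adjRG Fp G adj) (dsgl (frA.obj V)) Kx m y +
    ((thetaIso Fp φ).app V).inv ≫ adjShiftEquiv (adjRG Fp G adj) (dsgl (frA.obj V)) Kx m y'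
  rw [adjShiftEquiv_add]
  exact Preadditive.comp_add _ _ _ _ _ _

end Add

section Site

open Groth.Agent.Lib.Helper21.PushAcyc

variable {C D : Type u} [SmallCategory C] [SmallCategory D]
    (J : GrothendieckTopology C) (K : GrothendieckTopology D) (F : D ⥤ C) [F.IsContinuous K J]
    [PreservesFiniteLimits (pull J K F)]
    [HasDerivedCategory.{u} (Sheaf J AddCommGrpCat.{u})]
    [HasDerivedCategory.{u} (Sheaf K AddCommGrpCat.{u})]

theorem nonempty_hypIso (Kx : DerivedCategory (Sheaf J AddCommGrpCat.{u})) (p : ℤ) :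
    Nonempty (CohCx.HDUPresheaf ((RG (CohSite.push J K F)).obj Kx) p ≅
      F.op ⋙ CohCx.HDUPresheaf Kx p) := by
  haveI : (pull J K F).Additive := (adjP J K F).left_adjoint_additive
  haveI : PreservesFiniteColimits (pull J K F) :=
    haveI : PreservesColimitsOfSize.{0, 0} (pull J K F) :=
      (adjP J K F).leftAdjoint_preservesColimits
    PreservesColimitsOfSize.preservesFiniteColimits.{0, 0} _
  let L : DerivedCategory (Sheaf K AddCommGrpCat.{u}) := (RG (CohSite.push J K F)).obj Kx
  let E := fun (V : D) => hEquiv (frA := frSh K) (frB := F ⋙ frSh J) (pull J K F)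
    (CohSite.push J K F) (adjP J K F) (pullFrIso J K F) V Kx p
  let e : ∀ V : Dᵒᵖ, CohCx.HDU L p V.unop ≃+ CohCx.HDU Kx p (F.obj V.unop) := fun V =>
    AddEquiv.mk' (E V.unop) (hEquiv_add (frA := frSh K) (frB := F ⋙ frSh J) (pull J K F)
      (CohSite.push J K F) (adjP J K F) (pullFrIso J K F) V.unop Kx p)
  refine ⟨NatIso.ofComponents (fun V => AddEquiv.toAddCommGrpIso (e V)) ?_⟩
  intro V V' g
  ext y
  exact hEquiv_res (frA := frSh K) (frB := F ⋙ frSh J) (pull J K F)
    (CohSite.push J K F) (adjP J K F) (pullFrIso J K F) g.unop Kx p y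

end Site

section PlusLink

variable {A : Type u₁} [Category.{v₁} A] [Abelian A] {B : Type u₂} [Category.{v₂} B] [Abelian B]
  [IsGrothendieckAbelian.{v₂} B] [HasDerivedCategory.{w₁} A] [HasDerivedCategory.{w₂} B]
  (G : B ⥤ A) [G.Additive] [EnoughInjectives B]

/-- the Mathlib bounded-below derived functor agrees on cohomology with `RG`. -/
theorem nonempty_homology_iso (K : CochainComplex.Plus B) (p : ℤ) :
    Nonempty ((DerivedCategory.Plus.homologyFunctor A p).obj
        (G.rightDerivedFunctorPlus.obj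
          (DerivedCategory.Plus.Qh.obj ((HomotopyCategory.Plus.quotient B).obj K))) ≅
      (DerivedCategory.homologyFunctor A p).obj ((RG G).obj (DerivedCategory.Q.obj K.obj))) := by
  obtain ⟨n, hn⟩ := K.property
  haveI := hn
  obtain ⟨L, _, i, hi⟩ := CochainComplex.Plus.exists_quasiIso_injective K n
  let I' : CochainComplex.Plus B := (InjectiveObject.ι B).mapCochainComplexPlus.obj L
  let I : CochainComplex B ℤ := I'.obj
  haveI : I.IsKInjective := by
    change CochainComplex.IsKInjective
      (((InjectiveObject.ι B).mapHomologicalComplex (.up ℤ)).obj L.obj)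
    infer_instance
  haveI : QuasiIso i.hom := hi
  -- Mathlib side
  haveI h1 : IsIso (DerivedCategory.Plus.Qh.map ((HomotopyCategory.Plus.quotient B).map i)) := by
    apply Localization.inverts DerivedCategory.Plus.Qh (HomotopyCategory.Plus.quasiIso B)
    rw [HomotopyCategory.Plus.quasiIso_iff]
    exact (HomotopyCategory.quotient_map_mem_quasiIso_iff i.hom).2 hi
  let e1 : DerivedCategory.Plus.Qh.obj ((HomotopyCategory.Plus.quotient B).obj K) ≅
      DerivedCategory.Plus.Qh.obj ((HomotopyCategory.Plus.quotient B).obj I') :=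
    asIso (DerivedCategory.Plus.Qh.map ((HomotopyCategory.Plus.quotient B).map i))
  haveI h2 : IsIso (G.rightDerivedFunctorPlusUnit.app ((HomotopyCategory.Plus.quotient B).obj I')) := by
    change IsIso (G.rightDerivedFunctorPlusUnit.app ((HomotopyCategory.Plus.quotient B).obj
      ((InjectiveObject.ι B).mapCochainComplexPlus.obj L)))
    infer_instance
  let e2 : G.rightDerivedFunctorPlus.obj
      (DerivedCategory.Plus.Qh.obj ((HomotopyCategory.Plus.quotient B).obj K)) ≅
      DerivedCategory.Plus.Qh.obj (G.mapHomotopyCategoryPlus.obj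
        ((HomotopyCategory.Plus.quotient B).obj I')) :=
    G.rightDerivedFunctorPlus.mapIso e1 ≪≫
      (asIso (G.rightDerivedFunctorPlusUnit.app ((HomotopyCategory.Plus.quotient B).obj I'))).symm
  let e3 : (DerivedCategory.Plus.homologyFunctor A p).obj (DerivedCategory.Plus.Qh.obj
      (G.mapHomotopyCategoryPlus.obj ((HomotopyCategory.Plus.quotient B).obj I'))) ≅
      (DerivedCategory.homologyFunctor A p).obj (DerivedCategory.Q.obj
        ((G.mapHomologicalComplex (ComplexShape.up ℤ)).obj I)) :=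
    (DerivedCategory.homologyFunctor A p).mapIso
      ((DerivedCategory.quotientCompQhIso A).app ((G.mapHomologicalComplex (ComplexShape.up ℤ)).obj I))
  haveI h4 : IsIso ((βRG G).app I) := isIso_app_of_isKInjective G (RG G) (βRG G) I
  let e4 : DerivedCategory.Q.obj ((G.mapHomologicalComplex (ComplexShape.up ℤ)).obj I) ≅
      (RG G).obj (DerivedCategory.Q.obj I) := asIso ((βRG G).app I)
  let e5 : DerivedCategory.Q.obj K.obj ≅ DerivedCategory.Q.obj I := asIso (DerivedCategory.Q.map i.hom)
  exact ⟨(DerivedCategory.Plus.homologyFunctor A p).mapIso e2 ≪≫ e3 ≪≫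
    (DerivedCategory.homologyFunctor A p).mapIso (e4 ≪≫ (RG G).mapIso e5.symm)⟩

end PlusLink

section Top

open TopologicalSpace

theorem top_hyperPush {X Y : TopCat.{u}} (f : X ⟶ Y)
    [HasDerivedCategory.{u} (CohTop.Ab X)] [HasDerivedCategory.{u} (CohTop.Ab Y)]
    (K : CochainComplex.Plus (CohTop.Ab X)) (p : ℤ) :
    Nonempty ((DerivedCategory.Plus.homologyFunctor (CohTop.Ab Y) p).obj
        ((CohTop.push f).rightDerivedFunctorPlus.obj
          (DerivedCategory.Plus.Qh.obj ((HomotopyCategory.Plus.quotient (CohTop.Ab X)).obj K))) ≅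
      (presheafToSheaf (Opens.grothendieckTopology Y) AddCommGrpCat.{u}).obj
        ((Opens.map f).op ⋙ CohCx.HDUPresheaf (DerivedCategory.Q.obj K.obj) p)) := by
  haveI : PreservesFiniteLimits (Groth.Agent.Lib.Helper21.PushAcyc.pull
      (Opens.grothendieckTopology X) (Opens.grothendieckTopology Y) (Opens.map f)) :=
    CategoryTheory.Functor.SmallCategories.instPreservesFiniteLimitsSheafSheafPullbackOfRepresentablyFlat
      (Opens.map f) AddCommGrpCat.{u} (Opens.grothendieckTopology ↑Y)
      (Opens.grothendieckTopology ↑X)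
  obtain ⟨e1⟩ := nonempty_homology_iso (CohTop.push f) K p
  obtain ⟨e2⟩ := nonempty_hypIso (Opens.grothendieckTopology X) (Opens.grothendieckTopology Y)
    (Opens.map f) (DerivedCategory.Q.obj K.obj) p
  exact ⟨e1 ≪≫ (sheafifyHDUIso _ p).symm ≪≫
    (presheafToSheaf (Opens.grothendieckTopology Y) AddCommGrpCat.{u}).mapIso e2⟩

end Top

end Groth.Agent.Lib.T2H2.HyperPush
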