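import Mathlib
import Groth.Agent.Lib.Helper4PPFinite

set_option autoImplicit false
set_option linter.style.haveILetI false
universe u

namespace Groth.Agent.Lib.T2H2.InfNbhdFin

open MvPolynomial

/-- If `φ : A → B` is of finite type with a retraction `σ`, then `B / (ker σ)^(n+1)` (and any
quotient of it) is finite over `A`. -/
theorem finite_of_retraction {A B C : Type u} [CommRing A] [CommRing B] [CommRing C]
    (φ : A →+* B) (hφ : φ.FiniteType) (σ : B →+* A) (hσ : σ.comp φ = RingHom.id A)
    (q : B →+* C) (hq : Function.Surjective q) (n : ℕ)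
    (hker : RingHom.ker σ ^ (n + 1) ≤ RingHom.ker q) : (q.comp φ).Finite := by
  classical
  letI : Algebra A B := φ.toAlgebra
  haveI : Algebra.FiniteType A B := hφ
  obtain ⟨ι, hι, f, hf⟩ := Algebra.FiniteType.iff_quotient_mvPolynomial'.mp
    (inferInstance : Algebra.FiniteType A B)
  have hσφ : ∀ a, σ (φ a) = a := fun a => RingHom.congr_fun hσ a
  -- shifted generators
  let π : MvPolynomial ι A →ₐ[A] B := MvPolynomial.aeval (fun i => f (X i) - φ (σ (f (X i))))
  have hπX : ∀ i, π (X i) = f (X i) - φ (σ (f (X i))) := fun i => by simp [π]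
  have hπ : Function.Surjective π := by
    intro b
    obtain ⟨p, rfl⟩ := hf b
    change f p ∈ π.range
    induction p using MvPolynomial.induction_on with
    | C a =>
      rw [← MvPolynomial.algebraMap_eq, AlgHom.commutes]
      exact Subalgebra.algebraMap_mem _ _
    | add p q hp hq => rw [map_add]; exact add_mem hp hq
    | mul_X p i hp =>
      rw [map_mul]
      refine mul_mem hp ?_
      have h1 : f (X i) = π (X i) + algebraMap A B (σ (f (X i))) := by
        rw [hπX]; simp [RingHom.algebraMap_toAlgebra]
      rw [h1]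
      exact add_mem ⟨_, rfl⟩ (Subalgebra.algebraMap_mem _ _)
  -- the images of the variables are in the kernel of `σ`
  have hX : ∀ i, π (X i) ∈ RingHom.ker σ := by
    intro i
    rw [RingHom.mem_ker, hπX, map_sub, hσφ, sub_self]
  have hmap : Ideal.map π.toRingHom (Ideal.span (Set.range (X : ι → MvPolynomial ι A))) ≤
      RingHom.ker σ := by
    rw [Ideal.map_span, Ideal.span_le]
    rintro _ ⟨_, ⟨i, rfl⟩, rfl⟩
    exact hX i
  have hpow : Ideal.span (Set.range (X : ι → MvPolynomial ι A)) ^ (n + 1) ≤
      RingHom.ker (q.comp π.toRingHom) := by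
    intro x hx
    rw [RingHom.mem_ker, RingHom.comp_apply, ← RingHom.mem_ker]
    apply hker
    have := Ideal.mem_map_of_mem π.toRingHom hx
    rw [Ideal.map_pow] at this
    exact Ideal.pow_right_mono hmap _ this
  -- the induced surjection
  let I := Ideal.span (Set.range (X : ι → MvPolynomial ι A)) ^ (n + 1)
  let ψ : (MvPolynomial ι A ⧸ I) →+* C := Ideal.Quotient.lift I (q.comp π.toRingHom) hpow
  have hψ : Function.Surjective ψ := by
    intro c
    obtain ⟨b, rfl⟩ := hq c
    obtain ⟨p, rfl⟩ := hπ b
    exact ⟨Ideal.Quotient.mk I p, rfl⟩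
  haveI := Groth.Agent.Lib.Helper4.finite_quotient_pow_span_X A ι (n + 1)
  letI : Algebra A C := (q.comp φ).toAlgebra
  change Module.Finite A C
  let ψl : (MvPolynomial ι A ⧸ I) →ₗ[A] C :=
    { toFun := ψ
      map_add' := map_add ψ
      map_smul' := fun a x => by
        obtain ⟨p, rfl⟩ := Ideal.Quotient.mk_surjective x
        change ψ (Ideal.Quotient.mk I (a • p)) = (q.comp φ) a * ψ (Ideal.Quotient.mk I p)
        simp only [ψ, Ideal.Quotient.lift_mk, RingHom.comp_apply, AlgHom.toRingHom_eq_coe,
          RingHom.coe_coe, Algebra.smul_def, map_mul, AlgHom.commutes]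
        rfl }
  exact Module.Finite.of_surjective ψl hψ

end Groth.Agent.Lib.T2H2.InfNbhdFin
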