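import Mathlib
import Groth.Prelude.Def_OmegaPn
import Groth.Agent.Lib.T2H2InfNbhdFin

set_option autoImplicit false
set_option linter.style.haveILetI false
universe u
open CategoryTheory CategoryTheory.Limits AlgebraicGeometry TopologicalSpace Opposite

namespace Groth.Agent.Lib.T2H2.InfNbhdFinSch

/-- Charts adapted to a section: around every point of `Y` there is an affine open `V` of `Y` and an
affine open `U` of `X` lying over `V` with `f⁻¹ U = V`. -/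
theorem exists_chart {X Y : Scheme.{u}} (g : X ⟶ Y) (f : Y ⟶ X) (hf : f ≫ g = 𝟙 Y) (y : Y) :
    ∃ V : Y.Opens, IsAffineOpen V ∧ y ∈ V ∧ ∃ U : X.Opens, IsAffineOpen U ∧
      ∃ (_ : U ≤ g ⁻¹ᵁ V), f ⁻¹ᵁ U = V := by
  obtain ⟨V₀, hV₀, hyV₀, -⟩ := exists_isAffineOpen_mem_and_subset (x := y) (U := ⊤) trivial
  have hgf : ∀ z : Y, g (f z) = z := by
    intro z
    rw [← Scheme.Hom.comp_apply, hf]
    rfl
  have h1 : f y ∈ g ⁻¹ᵁ V₀ := by
    change g (f y) ∈ V₀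
    rw [hgf]; exact hyV₀
  obtain ⟨U₀, hU₀, hyU₀, hU₀V₀⟩ := exists_isAffineOpen_mem_and_subset h1
  have hU₀V₀' : U₀ ≤ g ⁻¹ᵁ V₀ := hU₀V₀
  obtain ⟨s, hs1, hs2⟩ := hV₀.exists_basicOpen_le (V := f ⁻¹ᵁ U₀) ⟨y, hyU₀⟩ hyV₀
  refine ⟨Y.basicOpen s, hV₀.basicOpen s, hs2, X.basicOpen (g.appLE V₀ U₀ hU₀V₀' s),
    hU₀.basicOpen _, ?_, ?_⟩
  · rw [Scheme.basicOpen_appLE]
    exact inf_le_right
  · rw [Scheme.basicOpen_appLE]
    ext z
    change (f z ∈ U₀ ∧ g (f z) ∈ Y.basicOpen s) ↔ z ∈ Y.basicOpen s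
    rw [hgf]
    exact ⟨fun h => h.2, fun h => ⟨hs1 h, h⟩⟩

/-- The local statement. -/
theorem finite_app_of_chart {X Y : Scheme.{u}} (g : X ⟶ Y) [LocallyOfFiniteType g] (f : Y ⟶ X)
    [IsClosedImmersion f] (hf : f ≫ g = 𝟙 Y) (n : ℕ)
    (U : X.Opens) (hU : IsAffineOpen U) (hV : IsAffineOpen (f ⁻¹ᵁ U))
    (hUV : U ≤ g ⁻¹ᵁ (f ⁻¹ᵁ U)) :
    IsAffineOpen ((PrinPart.infNbhdι f n ≫ g) ⁻¹ᵁ (f ⁻¹ᵁ U)) ∧
      ((PrinPart.infNbhdι f n ≫ g).app (f ⁻¹ᵁ U)).hom.Finite := by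
  have hgf : ∀ z : Y, g (f z) = z := by
    intro z
    rw [← Scheme.Hom.comp_apply, hf]
    rfl
  have hpre : (PrinPart.infNbhdι f n ≫ g) ⁻¹ᵁ (f ⁻¹ᵁ U) = PrinPart.infNbhdι f n ⁻¹ᵁ U := by
    ext w
    obtain ⟨z, rfl⟩ := PrinPart.toInfNbhd_surjective f n w
    change f ((PrinPart.infNbhdι f n ≫ g) (PrinPart.toInfNbhd f n z)) ∈ U ↔
      PrinPart.infNbhdι f n (PrinPart.toInfNbhd f n z) ∈ U
    rw [Scheme.Hom.comp_apply, ← Scheme.Hom.comp_apply (PrinPart.toInfNbhd f n),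
      PrinPart.toInfNbhd_ι, hgf]
  haveI : IsClosedImmersion (PrinPart.infNbhdι f n) := by
    unfold PrinPart.infNbhdι; infer_instance
  have haff : IsAffineOpen (PrinPart.infNbhdι f n ⁻¹ᵁ U) := hU.preimage _
  refine ⟨hpre ▸ haff, ?_⟩
  -- reduce to `appLE`
  have e : PrinPart.infNbhdι f n ⁻¹ᵁ U ≤ (PrinPart.infNbhdι f n ≫ g) ⁻¹ᵁ (f ⁻¹ᵁ U) := hpre.ge
  have hiso : IsIso ((PrinPart.infNbhd f n).presheaf.map (homOfLE e).op) := by
    have : homOfLE e = eqToHom hpre.symm := Subsingleton.elim _ _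
    rw [this]
    infer_instance
  have key : ((PrinPart.infNbhdι f n ≫ g).appLE (f ⁻¹ᵁ U) (PrinPart.infNbhdι f n ⁻¹ᵁ U) e).hom.Finite := by
    have hcomp : (PrinPart.infNbhdι f n ≫ g).appLE (f ⁻¹ᵁ U) (PrinPart.infNbhdι f n ⁻¹ᵁ U) e =
        g.appLE (f ⁻¹ᵁ U) U hUV ≫ (PrinPart.infNbhdι f n).app U := by
      rw [Scheme.Hom.app_eq_appLE, Scheme.Hom.appLE_comp_appLE]
    rw [hcomp, CommRingCat.hom_comp]
    refine Groth.Agent.Lib.T2H2.InfNbhdFin.finite_of_retraction _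
      (g.finiteType_appLE hV hU hUV) (f.app U).hom ?_ _ ?_ n ?_
    · rw [← CommRingCat.hom_comp, Scheme.Hom.app_eq_appLE, Scheme.Hom.appLE_comp_appLE]
      have aux : ∀ (k : Y ⟶ Y) (_ : k = 𝟙 Y) (V : Y.Opens) (e : V ≤ k ⁻¹ᵁ V),
          k.appLE V V e = 𝟙 _ := by
        intro k hk
        subst hk
        intro V e
        simp only [Scheme.Hom.appLE, Scheme.Hom.id_app]
        exact Y.presheaf.map_id _
      rw [aux _ hf]
      rfl
    · exact (f.ker ^ (n + 1)).subschemeι_app_surjective ⟨U, hU⟩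
    · have h1 := (f.ker ^ (n + 1)).ker_subschemeι_app ⟨U, hU⟩
      have h2 := f.ker_apply ⟨U, hU⟩
      unfold PrinPart.infNbhdι
      rw [h1, Scheme.IdealSheafData.ideal_pow, Pi.pow_apply, h2]
  rw [Scheme.Hom.appLE, CommRingCat.hom_comp] at key
  exact (RingHom.finite_respectsIso.cancel_right_isIso _ _).mp key

set_option backward.isDefEq.respectTransparency false in
theorem isFinite_infNbhdι_comp {X Y : Scheme.{u}} (g : X ⟶ Y) [LocallyOfFiniteType g] (f : Y ⟶ X)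
    [IsClosedImmersion f] (hf : f ≫ g = 𝟙 Y) (n : ℕ) :
    IsFinite (PrinPart.infNbhdι f n ≫ g) := by
  choose V hV hyV U hU hUV hfU using exists_chart g f hf
  have hcov : ⨆ y, V y = ⊤ := by
    rw [eq_top_iff]
    intro y _
    exact Opens.mem_iSup.mpr ⟨y, hyV y⟩
  rw [IsZariskiLocalAtTarget.iff_of_iSup_eq_top (P := @IsFinite) _ hcov]
  intro y
  obtain ⟨h1, h2⟩ := finite_app_of_chart g f hf n (U y) (hU y) (by rw [hfU]; exact hV y)
    (by rw [hfU]; exact hUV y)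
  rw [hfU] at h1 h2
  haveI : IsAffine ((PrinPart.infNbhdι f n ≫ g) ⁻¹ᵁ V y) := h1
  haveI : IsAffine (V y) := hV y
  rw [HasAffineProperty.iff_of_isAffine (P := @IsFinite)]
  refine ⟨h1, ?_⟩
  rw [morphismRestrict_appTop, CommRingCat.hom_comp, RingHom.finite_respectsIso.cancel_right_isIso]
  change (Scheme.Hom.app (PrinPart.infNbhdι f n ≫ g) ((V y).ι ''ᵁ ⊤)).hom.Finite
  rw [Scheme.Opens.ι_image_top]
  exact h2

end Groth.Agent.Lib.T2H2.InfNbhdFinSch
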