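import Mathlib
import Groth.Agent.S0311
import Groth.Agent.S0312
import Groth.Agent.S11661
import Groth.Agent.S8925

set_option autoImplicit false
universe u
open scoped TensorProduct
open InjHull IsLocalRing

namespace Groth.Agent.Lib.T2H2.InjBC

theorem injective_of_subsingleton (R : Type u) [CommRing R] (M : Type u) [AddCommGroup M] [Module R M]
    [Subsingleton M] : Module.Injective R M := by
  rw [← Module.Baer.iff_injective]
  intro I g
  exact ⟨0, fun x hx => Subsingleton.elim _ _⟩

theorem tensor_subsingleton_of_unit (A : Type u) [CommRing A] (D : Type u) [CommRing D] [Algebra A D]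
    (E : Type u) [AddCommGroup E] [Module A E] (a : A) (ha : IsUnit (algebraMap A D a))
    (hE : ∀ e : E, ∃ k : ℕ, a ^ k • e = 0) : Subsingleton (D ⊗[A] E) := by
  refine ⟨fun x y => ?_⟩
  have h0 : ∀ z : D ⊗[A] E, z = 0 := by
    intro z
    induction z using TensorProduct.induction_on with
    | zero => rfl
    | tmul d e =>
      obtain ⟨k, hk⟩ := hE e
      obtain ⟨u, hu⟩ := ha
      have h1 : d = a ^ k • (d * ((u⁻¹ : Dˣ) : D) ^ k) := by
        rw [Algebra.smul_def, map_pow, ← hu]
        rw [mul_comm d, ← mul_assoc, ← mul_pow, Units.mul_inv, one_pow, one_mul]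
      rw [h1, TensorProduct.smul_tmul, hk, TensorProduct.tmul_zero]
    | add x y hx hy => rw [hx, hy, add_zero]
  rw [h0 x, h0 y]

theorem lemmaL (A : Type u) [CommRing A] [IsLocalRing A] [IsNoetherianRing A] (C : Type u) [CommRing C]
    [IsNoetherianRing C] [Algebra A C] [Module.Flat A C]
    (hC : ∀ (n : Ideal C) [n.IsMaximal], n.comap (algebraMap A C) = maximalIdeal A →
      (maximalIdeal A).map (algebraMap A (Localization.AtPrime n)) =
        maximalIdeal (Localization.AtPrime n))
    (E : Type u) [AddCommGroup E] [Module A E] (f : ResidueField A →ₗ[A] E)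
    (hf : IsInjectiveHull f) : Module.Injective C (C ⊗[A] E) := by
  have htors := Groth.Agent.S0311.result A E f hf
  refine Module.injective_of_localization_maximal' (R := C) (M := C ⊗[A] E)
    (fun n _ => Localization.AtPrime n) (fun n _ => Localization.AtPrime n ⊗[A] E)
    (fun n _ => TensorProduct.AlgebraTensorModule.rTensor A E
      (Algebra.linearMap C (Localization.AtPrime n))) ?_
  intro n hn
  by_cases hcase : n.comap (algebraMap A C) = maximalIdeal A
  · -- local hom case
    have hloc : IsLocalHom (algebraMap A (Localization.AtPrime n)) := by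
      refine ((local_hom_TFAE (algebraMap A (Localization.AtPrime n))).out 0 4).mpr ?_
      rw [IsScalarTower.algebraMap_eq A C (Localization.AtPrime n), ← Ideal.comap_comap]
      have h1 : Ideal.comap (algebraMap C (Localization.AtPrime n))
          (maximalIdeal (Localization.AtPrime n)) = n :=
        Localization.AtPrime.under_maximalIdeal (I := n)
      rw [h1, hcase]
    have hflat : Module.Flat A (Localization.AtPrime n) := Module.Flat.trans A C _
    obtain ⟨g, hg⟩ := Groth.Agent.S0312.result A (Localization.AtPrime n) (hC n hcase) E f hf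
    exact hg.isInjective
  · -- non-local case
    have hne : ∃ a ∈ maximalIdeal A, a ∉ n.comap (algebraMap A C) := by
      by_contra hcon
      push Not at hcon
      apply hcase
      have hprime : (n.comap (algebraMap A C)).IsPrime := Ideal.comap_isPrime _ _
      exact le_antisymm (IsLocalRing.le_maximalIdeal hprime.ne_top) hcon
    obtain ⟨a, ham, han⟩ := hne
    have hunit : IsUnit (algebraMap A (Localization.AtPrime n) a) := by
      rw [IsScalarTower.algebraMap_apply A C (Localization.AtPrime n)]
      exact IsLocalization.map_units (Localization.AtPrime n) (⟨algebraMap A C a, han⟩ : n.primeCompl)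
    have hsub : Subsingleton (Localization.AtPrime n ⊗[A] E) := by
      apply tensor_subsingleton_of_unit A (Localization.AtPrime n) E a hunit
      intro e
      obtain ⟨k, hk⟩ := htors e
      exact ⟨k, hk _ (Ideal.pow_mem_pow ham k)⟩
    exact injective_of_subsingleton _ _

theorem bijective_of_isLocalizedModule {R : Type*} [CommRing R] (S : Submonoid R) {M M' : Type*}
    [AddCommGroup M] [Module R M] [AddCommGroup M'] [Module R M'] (f : M →ₗ[R] M')
    [IsLocalizedModule S f]
    (hS : ∀ s : S, Function.Bijective (fun m : M => (s : R) • m)) : Function.Bijective f := by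
  constructor
  · intro x y hxy
    obtain ⟨s, hs⟩ := (IsLocalizedModule.eq_iff_exists S f).mp hxy
    exact (hS s).1 hs
  · intro y
    obtain ⟨⟨x, s⟩, hx⟩ := IsLocalizedModule.surj S f y
    obtain ⟨x', rfl⟩ := (hS s).2 x
    refine ⟨x', ?_⟩
    apply IsLocalizedModule.smul_injective f s
    simp only at hx ⊢
    rw [hx, map_smul]
    rfl

/-- elements of the image of `P` act bijectively on `B ⊗ E` if those of `P` do on `E`. -/
theorem smul_bijective_tensor (A : Type u) [CommRing A] (B : Type u) [CommRing B] [Algebra A B]
    (E : Type u) [AddCommGroup E] [Module A E] (t : A)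
    (ht : Function.Bijective (fun e : E => t • e)) :
    Function.Bijective (fun m : B ⊗[A] E => (algebraMap A B t) • m) := by
  let ε : E ≃ₗ[A] E := LinearEquiv.ofBijective (LinearMap.lsmul A E t) ht
  have h1 : (fun m : B ⊗[A] E => (algebraMap A B t) • m) = (LinearEquiv.lTensor B ε) := by
    funext m
    induction m using TensorProduct.induction_on with
    | zero => simp
    | tmul b e =>
      rw [algebraMap_smul]
      simp [ε, TensorProduct.tmul_smul]
    | add x y hx hy =>
      simp only [smul_add, map_add] at hx hy ⊢
      rw [hx, hy]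
  rw [h1]
  exact (LinearEquiv.lTensor B ε).bijective

theorem injective_of_linearEquiv {R : Type u} [CommRing R] {Q M : Type u} [AddCommGroup Q]
    [Module R Q] [AddCommGroup M] [Module R M] (e : Q ≃ₗ[R] M) [Module.Injective R Q] :
    Module.Injective R M :=
  (Module.Baer.of_equiv e (Module.Baer.of_injective ‹_›)).injective

/-- transport of an injective hull along an isomorphism of the source -/
theorem hull_comp_equiv {R : Type u} [CommRing R] {M M' E : Type u} [AddCommGroup M] [Module R M]
    [AddCommGroup M'] [Module R M'] [AddCommGroup E] [Module R E] (f : M →ₗ[R] E)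
    (hf : IsInjectiveHull f) (e : M' ≃ₗ[R] M) : IsInjectiveHull (f ∘ₗ e.toLinearMap) := by
  refine ⟨⟨?_, ?_⟩, hf.isInjective⟩
  · exact hf.injective.comp e.injective
  · intro N hN
    have : LinearMap.range (f ∘ₗ e.toLinearMap) = LinearMap.range f := by
      rw [LinearMap.range_comp, LinearEquiv.range, Submodule.map_top]
    rw [this]
    exact hf.essential N hN

theorem lemmaR (A B : Type u) [CommRing A] [CommRing B] [Algebra A B] [IsNoetherianRing A]
    [IsNoetherianRing B] [Module.Flat A B]
    (h : ∀ q : PrimeSpectrum B, Ideal.map (algebraMap B (Localization.AtPrime q.asIdeal))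
      ((q.asIdeal.comap (algebraMap A B)).map (algebraMap A B)) =
        IsLocalRing.maximalIdeal (Localization.AtPrime q.asIdeal))
    (p : Ideal A) [p.IsPrime] (E : Type u) [AddCommGroup E] [Module A E] (f : (A ⧸ p) →ₗ[A] E)
    (hf : IsInjectiveHull f) : Module.Injective B (B ⊗[A] E) := by
  -- notation
  let P : Submonoid A := p.primeCompl
  let A' := Localization.AtPrime p
  let SB : Submonoid B := Algebra.algebraMapSubmonoid B P
  let C := Localization SB
  let E' := LocalizedModule P E
  have hdisj : Disjoint (p : Set A) P := by
    rw [Set.disjoint_left]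
    intro x hx hx'
    exact hx' hx
  obtain ⟨hbij, g', hg'⟩ := (Groth.Agent.S11661.result A P p E f hf).2 hdisj
  -- hull over the local ring A'
  have hmax : p.map (algebraMap A A') = maximalIdeal A' := Localization.AtPrime.map_eq_maximalIdeal
  let eq : (A' ⧸ maximalIdeal A') ≃ₗ[A'] (A' ⧸ p.map (algebraMap A A')) :=
    Submodule.quotEquivOfEq _ _ hmax.symm
  have hf' : IsInjectiveHull (g' ∘ₗ eq.toLinearMap) := hull_comp_equiv g' hg' eq
  -- ring-theoretic facts on C
  have hCnoeth : IsNoetherianRing C := IsLocalization.isNoetherianRing SB C inferInstance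
  have hflatBC : Module.Flat B C := IsLocalization.flat C SB
  have hflatAC : Module.Flat A C := Module.Flat.trans A B C
  have hflatA'C : Module.Flat A' C := (Module.flat_iff_of_isLocalization A' P C).mpr hflatAC
  -- the hypothesis of lemmaL
  have hC : ∀ (n : Ideal C) [n.IsMaximal], n.comap (algebraMap A' C) = maximalIdeal A' →
      (maximalIdeal A').map (algebraMap A' (Localization.AtPrime n)) =
        maximalIdeal (Localization.AtPrime n) := by
    intro n hn hcomap
    let q : Ideal B := n.comap (algebraMap B C)
    have hqprime : q.IsPrime := Ideal.comap_isPrime _ _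
    have hqA : q.comap (algebraMap A B) = p := by
      have h1 : q.comap (algebraMap A B) = (n.comap (algebraMap A' C)).comap (algebraMap A A') := by
        rw [Ideal.comap_comap, Ideal.comap_comap, ← IsScalarTower.algebraMap_eq,
          ← IsScalarTower.algebraMap_eq]
      rw [h1, hcomap]
      exact Localization.AtPrime.under_maximalIdeal (I := p)
    have hq := h ⟨q, hqprime⟩
    simp only at hq
    rw [hqA] at hq
    let D := Localization.AtPrime n
    have hloc : IsLocalization.AtPrime D q :=
      IsLocalization.isLocalization_atPrime_localization_atPrime SB n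
    let e : Localization.AtPrime q ≃ₐ[B] D := IsLocalization.algEquiv q.primeCompl _ _
    have hcompe : (e : Localization.AtPrime q →+* D).comp (algebraMap B (Localization.AtPrime q)) =
        algebraMap B D := by
      ext b
      simp
    have key : (p.map (algebraMap A B)).map (algebraMap B D) = maximalIdeal D := by
      have h2 := congrArg (Ideal.map (e : Localization.AtPrime q →+* D)) hq
      rw [Ideal.map_map, hcompe] at h2
      rw [h2, ← Localization.AtPrime.map_eq_maximalIdeal (I := q), Ideal.map_map, hcompe]
      exact IsLocalization.AtPrime.map_eq_maximalIdeal q D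
    have hSTA : IsScalarTower A A' D := inferInstance
    have hSTB : IsScalarTower A B D := inferInstance
    rw [← hmax, Ideal.map_map, ← IsScalarTower.algebraMap_eq, ← key, Ideal.map_map,
      ← IsScalarTower.algebraMap_eq]
  have hinjC' : Module.Injective C (C ⊗[A'] E') :=
    lemmaL A' C hC E' (g' ∘ₗ eq.toLinearMap) hf'
  let e1 : C ⊗[A'] E' ≃ₗ[C] C ⊗[A] E :=
    (TensorProduct.AlgebraTensorModule.congr (LinearEquiv.refl C C)
      (LocalizedModule.equivTensorProduct P E)) ≪≫ₗ
      TensorProduct.AlgebraTensorModule.cancelBaseChange A A' C C E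
  have hinjC : Module.Injective C (C ⊗[A] E) := injective_of_linearEquiv e1
  have hinjB : Module.Injective B (C ⊗[A] E) := Groth.Agent.S8925.result B C (C ⊗[A] E)
  let φ : B ⊗[A] E →ₗ[B] C ⊗[A] E :=
    TensorProduct.AlgebraTensorModule.rTensor A E (Algebra.linearMap B C)
  have hφloc : IsLocalizedModule SB φ := inferInstance
  have hφ : Function.Bijective φ := by
    apply bijective_of_isLocalizedModule SB φ
    rintro ⟨s, t, ht, rfl⟩
    apply smul_bijective_tensor A B E t
    constructor
    · intro x y hxy
      have h0 : t • (x - y) = 0 := by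
        rw [smul_sub]; exact sub_eq_zero.mpr hxy
      exact sub_eq_zero.mp (Groth.Agent.S11661.smul_injective_of_notMem p f hf t ht _ h0)
    · intro y
      exact Groth.Agent.S11661.smul_surjective_of_notMem p f hf t ht y
  exact injective_of_linearEquiv (LinearEquiv.ofBijective φ hφ).symm

end Groth.Agent.Lib.T2H2.InjBC
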