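import Mathlib
import Groth.Agent.Lib.T2H2QFCover

/-!
# Descent of the Jacobson property along fppf ring maps (helper2, team 2)

Via the quasi-finite flat refinement of fppf covers (`T2H2QFCover`): a surjective, generalizing map
with discrete fibres from a Jacobson space has Jacobson target, provided the target is T0 with a
basis of quasi-compact opens.
-/

set_option autoImplicit false
universe u

namespace Groth.Agent.Lib.T2H2.JacDesc

open AlgebraicGeometry CategoryTheory Limits

/-- A T0 space with a basis of quasi-compact opens in which every locally closed point is closed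
is a Jacobson space. -/
theorem jacobsonSpace_of_locallyClosed_singleton {X : Type*} [TopologicalSpace X] [T0Space X]
    (hb : ∀ (x : X) (U : Set X), IsOpen U → x ∈ U → ∃ V : Set X, IsOpen V ∧ IsCompact V ∧ x ∈ V ∧ V ⊆ U)
    (H : ∀ x : X, IsLocallyClosed ({x} : Set X) → IsClosed ({x} : Set X)) : JacobsonSpace X := by
  rw [jacobsonSpace_iff_locallyClosed]
  rintro Z ⟨z, hz⟩ ⟨U, C, hU, hC, rfl⟩
  obtain ⟨V, hVo, hVc, hzV, hVU⟩ := hb z U hU hz.1
  have hcs : CompactSpace V := isCompact_iff_compactSpace.mp hVc
  have hS : IsClosed (Subtype.val ⁻¹' C : Set V) := hC.preimage continuous_subtype_val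
  obtain ⟨x, hxS, hxcl⟩ := hS.exists_closed_singleton ⟨⟨z, hzV⟩, hz.2⟩
  obtain ⟨C', hC', hC'eq⟩ := isClosed_induced_iff.mp hxcl
  have hx' : ({x.1} : Set X) = V ∩ C' := by
    ext y
    constructor
    · rintro rfl
      refine ⟨x.2, ?_⟩
      have : x ∈ Subtype.val ⁻¹' C' := by rw [hC'eq]; rfl
      exact this
    · rintro ⟨hyV, hyC'⟩
      have : (⟨y, hyV⟩ : V) ∈ Subtype.val ⁻¹' C' := hyC'
      rw [hC'eq, Set.mem_singleton_iff] at this
      rw [Set.mem_singleton_iff, ← this]
  have hlc : IsLocallyClosed ({x.1} : Set X) := by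
    rw [hx']
    exact hVo.isLocallyClosed.inter hC'.isLocallyClosed
  exact ⟨x.1, ⟨hVU x.2, hxS⟩, H _ hlc⟩

/-- Descent of "locally closed points are closed" along a surjective generalizing map with discrete
fibres from a Jacobson space. -/
theorem isClosed_singleton_of_generalizingMap {S' T : Type*} [TopologicalSpace S']
    [TopologicalSpace T] [JacobsonSpace S'] (g : S' → T) (hcont : Continuous g)
    (hsurj : Function.Surjective g) (hgen : GeneralizingMap g)
    (hdisc : ∀ t, IsDiscrete (g ⁻¹' {t})) (t : T) (ht : IsLocallyClosed ({t} : Set T)) :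
    IsClosed ({t} : Set T) := by
  have hF : IsLocallyClosed (g ⁻¹' {t}) := ht.preimage hcont
  have hpts : ∀ s, g s = t → IsClosed ({s} : Set S') := by
    intro s hs
    apply isClosed_singleton_of_isLocallyClosed_singleton
    have hd : DiscreteTopology (g ⁻¹' {t}) := (hdisc t).to_subtype
    have hopen : IsOpen ({⟨s, hs⟩} : Set (g ⁻¹' {t})) := isOpen_discrete _
    obtain ⟨O, hO, hOeq⟩ := isOpen_induced_iff.mp hopen
    have : ({s} : Set S') = O ∩ g ⁻¹' {t} := by
      ext y
      constructor
      · rintro rfl
        refine ⟨?_, hs⟩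
        have : (⟨y, hs⟩ : g ⁻¹' {t}) ∈ Subtype.val ⁻¹' O := by rw [hOeq]; rfl
        exact this
      · rintro ⟨hyO, hyF⟩
        have : (⟨y, hyF⟩ : g ⁻¹' {t}) ∈ Subtype.val ⁻¹' O := hyO
        rw [hOeq, Set.mem_singleton_iff] at this
        rw [Set.mem_singleton_iff]
        exact congrArg Subtype.val this
    rw [this]
    exact hO.isLocallyClosed.inter hF
  apply isClosed_of_closure_subset
  intro t' ht'
  have hsp : t ⤳ t' := specializes_iff_mem_closure.mpr ht'
  obtain ⟨s', hs'⟩ := hsurj t'
  obtain ⟨s, hss', hs⟩ := hgen (a := s') (b := t) (by rw [hs']; exact hsp)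
  have h1 : s' ∈ closure ({s} : Set S') := specializes_iff_mem_closure.mp hss'
  rw [(hpts s hs).closure_eq, Set.mem_singleton_iff] at h1
  rw [Set.mem_singleton_iff, ← hs', h1, hs]


/-- **The Jacobson property descends along faithfully flat ring maps of finite presentation.** -/
theorem isJacobsonRing_of_faithfullyFlat (A B : Type u) [CommRing A] [CommRing B] [Algebra A B]
    [Module.FaithfullyFlat A B] [Algebra.FinitePresentation A B] [IsJacobsonRing B] :
    IsJacobsonRing A := by
  let f : Spec (CommRingCat.of B) ⟶ Spec (CommRingCat.of A) :=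
    Spec.map (CommRingCat.ofHom (algebraMap A B))
  have hflat : Flat f := by
    rw [HasRingHomProperty.Spec_iff (P := @Flat)]
    exact (RingHom.flat_algebraMap_iff).mpr inferInstance
  have hfp : LocallyOfFinitePresentation f := by
    rw [HasRingHomProperty.Spec_iff (P := @LocallyOfFinitePresentation)]
    exact (RingHom.finitePresentation_algebraMap).mpr inferInstance
  have hsurj : Surjective f :=
    ⟨PrimeSpectrum.comap_surjective_of_faithfullyFlat (A := A) (B := B)⟩
  obtain ⟨S', g, h, hcomm, hgfl, hgfp, hgqf, hgsurj, haff⟩ :=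
    Groth.Agent.Lib.T2H2.QFCover.exists_lqf_flat_cover f
  have hJB : JacobsonSpace (Spec (CommRingCat.of B)) :=
    (PrimeSpectrum.isJacobsonRing_iff_jacobsonSpace (R := B)).mp inferInstance
  have hlft : LocallyOfFiniteType h := by
    have : LocallyOfFiniteType (h ≫ f) := by rw [hcomm]; infer_instance
    exact locallyOfFiniteType_of_comp h f
  have hJS' : JacobsonSpace S' := LocallyOfFiniteType.jacobsonSpace h
  rw [PrimeSpectrum.isJacobsonRing_iff_jacobsonSpace]
  refine jacobsonSpace_of_locallyClosed_singleton ?_ ?_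
  · intro x U hU hx
    obtain ⟨_, ⟨_, ⟨r, rfl⟩, rfl⟩, hxr, hrU⟩ :=
      PrimeSpectrum.isBasis_basic_opens.exists_subset_of_mem_open hx hU
    exact ⟨_, (PrimeSpectrum.basicOpen r).isOpen, PrimeSpectrum.isCompact_basicOpen r, hxr, hrU⟩
  · intro t ht
    exact isClosed_singleton_of_generalizingMap (S' := S') (T := Spec (CommRingCat.of A)) g
      g.continuous g.surjective (Flat.generalizingMap g)
      (fun t => g.isDiscrete_preimage_singleton t) t ht

end Groth.Agent.Lib.T2H2.JacDesc
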