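import Mathlib
import Groth.Prelude.Def_KZero

/-!
# `K₀` of finite modules over the node `k[x, y]/(xy)`

* `cl_add`, `cl_equiv`, `cl_subsingleton`, `mem_of_cyclic`: generalities on `K0sub` of finite modules
  (reduction to cyclic modules over a Noetherian ring).
* `cl_quot_mem`: for a surjection `φ : R → B` onto a PID with kernel `(t)`, the class of `R/I`,
  `t ∈ I`, is a multiple of the class of `R/(t)`.
* `locLen`, `len`: the additive function "length of the localization at `p`" when `R_p` is a field.
* `NodeRing`, `φ`, `ψ`, `ker_φ`: the two branches of the node.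
* `main`: `K₀` of finite modules over the node is free on the classes of the two branches.
-/

set_option autoImplicit false
universe u

namespace Groth.Agent.Lib.T2H2.K0Node

open CategoryTheory KZero

variable (R : Type u) [CommRing R]

/-- the property "finite module". -/
abbrev P : ObjectProperty (ModuleCat.{u} R) := fun M => Module.Finite R M

variable {R}

lemma P_of (X : Type u) [AddCommGroup X] [Module R X] [Module.Finite R X] :
    P R (ModuleCat.of R X) := (inferInstance : Module.Finite R X)

lemma clSub_of (X : Type u) [AddCommGroup X] [Module R X] [Module.Finite R X] :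
    clSub (P R) (ModuleCat.of R X) =
      QuotientAddGroup.mk (FreeAbelianGroup.of ⟨ModuleCat.of R X, P_of X⟩) := by
  unfold clSub
  rw [dif_pos (P_of X)]

lemma cl_add {X₁ X₂ X₃ : Type u} [AddCommGroup X₁] [Module R X₁] [AddCommGroup X₂] [Module R X₂]
    [AddCommGroup X₃] [Module R X₃]
    [Module.Finite R X₁] [Module.Finite R X₂] [Module.Finite R X₃]
    (f : X₁ →ₗ[R] X₂) (g : X₂ →ₗ[R] X₃) (hf : Function.Injective f) (hg : Function.Surjective g)
    (hex : Function.Exact f g) :
    clSub (P R) (ModuleCat.of R X₂) =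
      clSub (P R) (ModuleCat.of R X₁) + clSub (P R) (ModuleCat.of R X₃) := by
  rw [clSub_of, clSub_of, clSub_of, ← sub_eq_zero, ← sub_sub, ← QuotientAddGroup.mk_sub,
    ← QuotientAddGroup.mk_sub, QuotientAddGroup.eq_zero_iff]
  apply AddSubgroup.subset_closure
  have eq0 : g.comp f = 0 := hex.linearMap_comp_eq_zero
  refine ⟨ModuleCat.shortComplexOfCompEqZero f g eq0, P_of X₁, P_of X₂, P_of X₃, ?_, rfl⟩
  exact ModuleCat.shortComplex_shortExact _ hex hf hg

lemma cl_subsingleton (X : Type u) [AddCommGroup X] [Module R X] [Subsingleton X] :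
    clSub (P R) (ModuleCat.of R X) = 0 := by
  have : Finite X := Finite.of_subsingleton
  have : Module.Finite R X := Module.Finite.of_finite
  have h := cl_add (R := R) (LinearMap.id : X →ₗ[R] X) (0 : X →ₗ[R] X) Function.injective_id
    (fun y => ⟨y, Subsingleton.elim _ _⟩)
    (fun y => ⟨fun _ => ⟨y, rfl⟩, fun _ => Subsingleton.elim _ _⟩)
  exact (add_eq_left.mp h.symm)

lemma cl_equiv {X Y : Type u} [AddCommGroup X] [Module R X] [AddCommGroup Y] [Module R Y]
    [Module.Finite R X] [Module.Finite R Y]
    (e : X ≃ₗ[R] Y) : clSub (P R) (ModuleCat.of R X) = clSub (P R) (ModuleCat.of R Y) := by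
  have h := cl_add (R := R) (0 : PUnit.{u+1} →ₗ[R] X) e.toLinearMap
    (fun a b _ => Subsingleton.elim _ _) e.surjective
    (fun y => ⟨fun hy => ⟨0, by
      have : y = 0 := e.injective (by rw [map_zero]; exact hy)
      rw [this]; rfl⟩, fun ⟨a, ha⟩ => by
      rw [← ha]; simp⟩)
  rw [cl_subsingleton PUnit.{u+1}, zero_add] at h
  exact h

/-- Reduction to cyclic modules: a subgroup of `K₀` containing the classes of all cyclic modules
contains the classes of all finite modules (over a Noetherian ring). -/
lemma cl_mem_of_cyclic [IsNoetherianRing R] (H : AddSubgroup (K0sub (P R)))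
    (hH : ∀ I : Ideal R, clSub (P R) (ModuleCat.of R (R ⧸ I)) ∈ H) (n : ℕ) :
    ∀ (M : Type u) [AddCommGroup M] [Module R M] [Module.Finite R M]
    (x : Fin n → M), Submodule.span R (Set.range x) = ⊤ →
    clSub (P R) (ModuleCat.of R M) ∈ H := by
  induction n with
  | zero =>
    intro M _ _ _ x hx
    have : Subsingleton M := by
      rw [← Submodule.subsingleton_iff R, ← subsingleton_iff_bot_eq_top, ← hx]
      simp
    rw [cl_subsingleton M]
    exact zero_mem _
  | succ n ih =>
    intro M _ _ _ x hx
    let N : Submodule R M := Submodule.span R {x 0}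
    have hNoeth : IsNoetherian R M := isNoetherian_of_isNoetherianRing_of_finite R M
    have hNfin : Module.Finite R N := Module.Finite.of_fg (IsNoetherian.noetherian N)
    have h := cl_add (R := R) N.subtype N.mkQ N.injective_subtype N.mkQ_surjective
      (fun y => by
        rw [Submodule.mkQ_apply, Submodule.Quotient.mk_eq_zero]
        constructor
        · intro hy; exact ⟨⟨y, hy⟩, rfl⟩
        · rintro ⟨z, rfl⟩; exact z.2)
    rw [h]
    refine add_mem ?_ ?_
    · let t : R →ₗ[R] N := LinearMap.toSpanSingleton R N ⟨x 0, Submodule.mem_span_singleton_self _⟩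
      have ht : Function.Surjective t := by
        rintro ⟨y, hy⟩
        obtain ⟨c, rfl⟩ := Submodule.mem_span_singleton.mp hy
        exact ⟨c, Subtype.ext (by simp [t])⟩
      have e : (R ⧸ LinearMap.ker t) ≃ₗ[R] N := t.quotKerEquivOfSurjective ht
      rw [← cl_equiv e]
      exact hH (LinearMap.ker t)
    · refine ih (M ⧸ N) (fun i => N.mkQ (x i.succ)) ?_
      rw [eq_top_iff]
      rintro q -
      obtain ⟨y, rfl⟩ := N.mkQ_surjective q
      have hy : y ∈ Submodule.span R (Set.range x) := by rw [hx]; trivial
      refine Submodule.span_induction (p := fun y _ => N.mkQ y ∈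
        Submodule.span R (Set.range fun i : Fin n => N.mkQ (x i.succ))) ?_ ?_ ?_ ?_ hy
      · rintro _ ⟨i, rfl⟩
        refine Fin.cases ?_ (fun j => ?_) i
        · have : N.mkQ (x 0) = 0 := by
            rw [Submodule.mkQ_apply, Submodule.Quotient.mk_eq_zero]
            exact Submodule.mem_span_singleton_self _
          rw [this]; exact zero_mem _
        · exact Submodule.subset_span ⟨j, rfl⟩
      · rw [map_zero]; exact zero_mem _
      · intro a b _ _ ha hb; rw [map_add]; exact add_mem ha hb
      · intro c a _ ha; rw [map_smul]; exact Submodule.smul_mem _ c ha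

/-- every class of `K₀` of finite modules over a Noetherian ring lies in a subgroup containing the
classes of all cyclic modules. -/
lemma mem_of_cyclic [IsNoetherianRing R] (H : AddSubgroup (K0sub (P R)))
    (hH : ∀ I : Ideal R, clSub (P R) (ModuleCat.of R (R ⧸ I)) ∈ H) (x : K0sub (P R)) : x ∈ H := by
  induction x using QuotientAddGroup.induction_on with
  | H z =>
    induction z using FreeAbelianGroup.induction_on with
    | zero => exact zero_mem _
    | of M =>
      obtain ⟨M, hM⟩ := M
      have : Module.Finite R M := hM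
      have h1 : clSub (P R) M = QuotientAddGroup.mk (FreeAbelianGroup.of ⟨M, hM⟩) := by
        unfold clSub
        rw [dif_pos hM]
      have h2 : clSub (P R) M = clSub (P R) (ModuleCat.of R M) := rfl
      rw [← h1, h2]
      obtain ⟨n, x, hx⟩ := Module.Finite.exists_fin (R := R) (M := M)
      exact cl_mem_of_cyclic H hH n M x hx
    | neg M ih =>
      rw [QuotientAddGroup.mk_neg]
      exact neg_mem ih
    | add a b ha hb =>
      rw [QuotientAddGroup.mk_add]
      exact add_mem ha hb

/-- Let `φ : R → B` be a surjection onto a principal ideal domain with kernel `(t)`.  Then the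
class of `R/I` for an ideal `I ∋ t` is a multiple of the class of `R/(t)` (it is `[R/(t)]` or
`0`). -/
lemma cl_quot_mem {B : Type*} [CommRing B] [IsDomain B] [IsPrincipalIdealRing B] (φ : R →+* B)
    (hφ : Function.Surjective φ) (t : R) (hker : RingHom.ker φ = Ideal.span {t})
    (I : Ideal R) (ht : t ∈ I) :
    clSub (P R) (ModuleCat.of R (R ⧸ I)) ∈
      AddSubgroup.zmultiples (clSub (P R) (ModuleCat.of R (R ⧸ Ideal.span {t}))) := by
  have htI : Ideal.span {t} ≤ I := (Ideal.span_singleton_le_iff_mem I).mpr ht
  obtain ⟨g, hg⟩ := (IsPrincipalIdealRing.principal (I.map φ)).principal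
  by_cases hg0 : g = 0
  · have hI : I = Ideal.span {t} := by
      refine le_antisymm ?_ htI
      rw [← hker]
      intro u hu
      rw [RingHom.mem_ker]
      have : φ u ∈ I.map φ := Ideal.mem_map_of_mem φ hu
      rw [hg, hg0] at this
      simpa using this
    rw [cl_equiv (Submodule.quotEquivOfEq I (Ideal.span {t}) hI)]
    exact AddSubgroup.mem_zmultiples _
  · obtain ⟨a, rfl⟩ := hφ g
    have haI : a ∈ I := by
      have h1 : φ a ∈ I.map φ := by
        rw [hg]; exact Submodule.mem_span_singleton_self _
      obtain ⟨b, hb, hba⟩ := (Ideal.mem_map_iff_of_surjective φ hφ).mp h1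
      have h2 : a - b ∈ RingHom.ker φ := by rw [RingHom.mem_ker, map_sub, hba, sub_self]
      rw [hker] at h2
      have := I.add_mem (htI h2) hb
      simpa using this
    have hIeq : ∀ u, u ∈ I ↔ ∃ c, u - c * a ∈ Ideal.span {t} := by
      intro u
      constructor
      · intro hu
        have h1 : φ u ∈ I.map φ := Ideal.mem_map_of_mem φ hu
        rw [hg] at h1
        obtain ⟨c, hc⟩ := Ideal.mem_span_singleton'.mp h1
        obtain ⟨c', rfl⟩ := hφ c
        refine ⟨c', ?_⟩
        rw [← hker, RingHom.mem_ker, map_sub, map_mul, hc, sub_self]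
      · rintro ⟨c, hc⟩
        have := I.add_mem (htI hc) (I.mul_mem_left c haI)
        simpa using this
    let f : (R ⧸ Ideal.span {t}) →ₗ[R] (R ⧸ Ideal.span {t}) := LinearMap.lsmul R _ a
    let g' : (R ⧸ Ideal.span {t}) →ₗ[R] (R ⧸ I) :=
      Submodule.mapQ (Ideal.span {t}) I LinearMap.id (by simpa using htI)
    have hf : Function.Injective f := by
      rw [injective_iff_map_eq_zero]
      intro y hy
      obtain ⟨u, rfl⟩ := Ideal.Quotient.mk_surjective y
      have h1 : a * u ∈ Ideal.span {t} := by
        rw [← Ideal.Quotient.eq_zero_iff_mem, map_mul]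
        exact hy
      rw [← hker, RingHom.mem_ker, map_mul] at h1
      have h2 : φ u = 0 := (mul_eq_zero.mp h1).resolve_left hg0
      rw [Ideal.Quotient.eq_zero_iff_mem, ← hker, RingHom.mem_ker]
      exact h2
    have hg' : Function.Surjective g' := by
      intro y
      obtain ⟨u, rfl⟩ := Ideal.Quotient.mk_surjective y
      exact ⟨Ideal.Quotient.mk _ u, rfl⟩
    have hex : Function.Exact f g' := by
      intro y
      obtain ⟨u, rfl⟩ := Ideal.Quotient.mk_surjective y
      have h1 : g' (Ideal.Quotient.mk _ u) = Ideal.Quotient.mk I u := rfl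
      rw [h1, Ideal.Quotient.eq_zero_iff_mem, hIeq]
      constructor
      · rintro ⟨c, hc⟩
        refine ⟨Ideal.Quotient.mk _ c, ?_⟩
        change a • (Ideal.Quotient.mk (Ideal.span {t}) c) = _
        rw [← Ideal.Quotient.mk_eq_mk, ← Submodule.Quotient.mk_smul, Ideal.Quotient.mk_eq_mk,
          eq_comm, Ideal.Quotient.eq, smul_eq_mul, mul_comm]
        exact hc
      · rintro ⟨z, hz⟩
        obtain ⟨c, rfl⟩ := Ideal.Quotient.mk_surjective z
        refine ⟨c, ?_⟩
        change a • (Ideal.Quotient.mk (Ideal.span {t}) c) = _ at hz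
        rw [← Ideal.Quotient.mk_eq_mk, ← Submodule.Quotient.mk_smul, Ideal.Quotient.mk_eq_mk,
          eq_comm, Ideal.Quotient.eq, smul_eq_mul, mul_comm] at hz
        exact hz
    have h := cl_add f g' hf hg' hex
    have h0 : clSub (P R) (ModuleCat.of R (R ⧸ I)) = 0 := add_eq_left.mp h.symm
    rw [h0]
    exact zero_mem _

section LocLen

variable (p : Ideal R) [p.IsPrime]

/-- the length of the localization at `p`, as a natural number (zero if infinite). -/
noncomputable def locLen (M : Type u) [AddCommGroup M] [Module R M] : ℕ :=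
  (Module.length (Localization.AtPrime p) (LocalizedModule p.primeCompl M)).toNat

variable {p}

lemma length_ne_top (hp : IsField (Localization.AtPrime p)) (M : Type u) [AddCommGroup M]
    [Module R M] [Module.Finite R M] :
    Module.length (Localization.AtPrime p) (LocalizedModule p.primeCompl M) ≠ ⊤ := by
  let _ : Field (Localization.AtPrime p) := hp.toField
  have : Module.Finite (Localization.AtPrime p) (LocalizedModule p.primeCompl M) :=
    Module.Finite.of_isLocalizedModule p.primeCompl (LocalizedModule.mkLinearMap p.primeCompl M)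
  exact Module.length_ne_top

lemma locLen_add (hp : IsField (Localization.AtPrime p))
    {X₁ X₂ X₃ : Type u} [AddCommGroup X₁] [Module R X₁] [AddCommGroup X₂] [Module R X₂]
    [AddCommGroup X₃] [Module R X₃]
    [Module.Finite R X₁] [Module.Finite R X₂] [Module.Finite R X₃]
    (f : X₁ →ₗ[R] X₂) (g : X₂ →ₗ[R] X₃) (hf : Function.Injective f) (hg : Function.Surjective g)
    (hex : Function.Exact f g) :
    locLen p X₂ = locLen p X₁ + locLen p X₃ := by
  have h := Module.length_eq_add_of_exact (LocalizedModule.map p.primeCompl f)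
    (LocalizedModule.map p.primeCompl g) (LocalizedModule.map_injective _ f hf)
    (LocalizedModule.map_surjective _ g hg) (LocalizedModule.map_exact p.primeCompl f g hex)
  unfold locLen
  rw [h, ENat.toNat_add (length_ne_top hp X₁) (length_ne_top hp X₃)]

lemma locLen_eq_zero (M : Type u) [AddCommGroup M] [Module R M]
    (h : ∃ s ∈ p.primeCompl, ∀ m : M, s • m = 0) : locLen p M = 0 := by
  obtain ⟨s, hs, hsm⟩ := h
  have : Subsingleton (LocalizedModule p.primeCompl M) :=
    LocalizedModule.subsingleton_iff.mpr fun m => ⟨s, hs, hsm m⟩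
  unfold locLen
  rw [Module.length_eq_zero]
  rfl

lemma locLen_self (hp : IsField (Localization.AtPrime p)) : locLen p R = 1 := by
  let _ : Field (Localization.AtPrime p) := hp.toField
  unfold locLen
  have : Module.length (Localization.AtPrime p) (LocalizedModule p.primeCompl R) = 1 := by
    change Module.length (Localization.AtPrime p) (Localization.AtPrime p) = 1
    rw [Module.length_eq_one_iff]
    infer_instance
  rw [this]; rfl

variable (p)

noncomputable def len₀ : FreeAbelianGroup (Subtype (P R)) →+ ℤ :=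
  FreeAbelianGroup.lift (fun M : Subtype (P R) => (locLen p M.1 : ℤ))

variable {p}

lemma len₀_ker (hp : IsField (Localization.AtPrime p)) : relSub (P R) ≤ (len₀ p).ker := by
  unfold relSub
  rw [AddSubgroup.closure_le]
  rintro x ⟨S, h₁, h₂, h₃, hS, rfl⟩
  rw [SetLike.mem_coe, AddMonoidHom.mem_ker, map_sub, map_sub]
  simp only [len₀, FreeAbelianGroup.lift_apply_of]
  have : Module.Finite R S.X₁ := h₁
  have : Module.Finite R S.X₂ := h₂
  have : Module.Finite R S.X₃ := h₃
  have hinj : Function.Injective S.f.hom := hS.moduleCat_injective_f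
  have hsurj : Function.Surjective S.g.hom := hS.moduleCat_surjective_g
  have hex : Function.Exact S.f.hom S.g.hom :=
    (ShortComplex.ShortExact.moduleCat_exact_iff_function_exact S).mp hS.exact
  rw [locLen_add hp S.f.hom S.g.hom hinj hsurj hex]
  push_cast
  ring

/-- the additive function "length at `p`" on `K₀` of finite modules. -/
noncomputable def len (hp : IsField (Localization.AtPrime p)) : K0sub (P R) →+ ℤ :=
  QuotientAddGroup.lift (relSub (P R)) (len₀ p) (len₀_ker hp)

lemma len_clSub (hp : IsField (Localization.AtPrime p)) (X : Type u) [AddCommGroup X]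
    [Module R X] [Module.Finite R X] :
    len hp (clSub (P R) (ModuleCat.of R X)) = locLen p X := by
  rw [clSub_of]
  simp only [len, QuotientAddGroup.lift_mk, len₀, FreeAbelianGroup.lift_apply_of]

end LocLen

section Node

variable (k : Type u) [Field k]

/-- the coordinate ring of the node `xy = 0`. -/
abbrev NodeRing : Type u :=
  MvPolynomial (Fin 2) k ⧸ Ideal.span {(MvPolynomial.X 0 * MvPolynomial.X 1 : MvPolynomial (Fin 2) k)}

/-- the coordinate functions. -/
noncomputable abbrev tb (i : Fin 2) : NodeRing k :=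
  Ideal.Quotient.mk (Ideal.span {(MvPolynomial.X 0 * MvPolynomial.X 1 : MvPolynomial (Fin 2) k)})
    (MvPolynomial.X i)

lemma tb_mul_tb {i j : Fin 2} (hij : i ≠ j) : tb k i * tb k j = 0 := by
  rw [← map_mul, Ideal.Quotient.eq_zero_iff_mem]
  have h : (MvPolynomial.X i * MvPolynomial.X j : MvPolynomial (Fin 2) k) =
      MvPolynomial.X 0 * MvPolynomial.X 1 := by
    fin_cases i <;> fin_cases j
    · exact absurd rfl hij
    · rfl
    · exact mul_comm _ _
    · exact absurd rfl hij
  rw [h]
  exact Ideal.mem_span_singleton_self _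

/-- evaluation `X i ↦ X`, other variable `↦ 0`. -/
noncomputable def ev (i : Fin 2) : MvPolynomial (Fin 2) k →ₐ[k] Polynomial k :=
  MvPolynomial.aeval (fun j => if j = i then Polynomial.X else 0)

lemma ev_X (i j : Fin 2) : ev k i (MvPolynomial.X j) = if j = i then Polynomial.X else 0 := by
  simp [ev]

/-- the projection of the node onto the `i`-th branch. -/
noncomputable def φ (i : Fin 2) : NodeRing k →ₐ[k] Polynomial k :=
  Ideal.Quotient.liftₐ _ (ev k i) (by
    intro a ha
    obtain ⟨c, rfl⟩ := Ideal.mem_span_singleton'.mp ha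
    rw [map_mul, map_mul, ev_X, ev_X]
    fin_cases i <;> simp)

lemma φ_tb (i j : Fin 2) : φ k i (tb k j) = if j = i then Polynomial.X else 0 := by
  change φ k i (Ideal.Quotient.mk _ (MvPolynomial.X j)) = _
  rw [φ, Ideal.Quotient.liftₐ_apply, Ideal.Quotient.lift_mk]
  exact ev_X k i j

/-- the inclusion of the `i`-th branch coordinate ring. -/
noncomputable def ψ (i : Fin 2) : Polynomial k →ₐ[k] NodeRing k := Polynomial.aeval (tb k i)

lemma φ_ψ (i : Fin 2) (q : Polynomial k) : φ k i (ψ k i q) = q := by
  have : (φ k i).comp (ψ k i) = AlgHom.id k (Polynomial k) := by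
    apply Polynomial.algHom_ext
    simp [ψ, φ_tb]
  exact congrArg (fun f => f q) this

lemma φ_surjective (i : Fin 2) : Function.Surjective (φ k i) := fun q => ⟨ψ k i q, φ_ψ k i q⟩

lemma sub_ψ_φ_mem {i j : Fin 2} (hij : i ≠ j) (a : NodeRing k) :
    a - ψ k i (φ k i a) ∈ Ideal.span {tb k j} := by
  obtain ⟨q, rfl⟩ := Ideal.Quotient.mk_surjective a
  induction q using MvPolynomial.induction_on with
  | C c =>
    have h1 : (Ideal.Quotient.mk (Ideal.span {(MvPolynomial.X 0 * MvPolynomial.X 1 :
        MvPolynomial (Fin 2) k)}) (MvPolynomial.C c) : NodeRing k) = algebraMap k (NodeRing k) c := rfl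
    rw [h1, AlgHom.commutes, AlgHom.commutes, sub_self]
    exact zero_mem _
  | add p q hp hq =>
    rw [map_add, map_add, map_add, add_sub_add_comm]
    exact add_mem hp hq
  | mul_X p n hp =>
    rw [map_mul, map_mul, map_mul]
    have hn : n = i ∨ n = j := by
      fin_cases i <;> fin_cases j <;> fin_cases n <;> simp_all
    rcases hn with rfl | rfl
    · have h2 : ψ k n (φ k n (tb k n)) = tb k n := by
        rw [φ_tb, if_pos rfl]
        simp [ψ]
      change Ideal.Quotient.mk _ p * tb k n - ψ k n (φ k n (Ideal.Quotient.mk _ p)) *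
        ψ k n (φ k n (tb k n)) ∈ _
      rw [h2, ← sub_mul]
      exact Ideal.mul_mem_right _ _ hp
    · have h2 : φ k i (tb k n) = 0 := by
        rw [φ_tb, if_neg (Ne.symm hij)]
      change Ideal.Quotient.mk _ p * tb k n - ψ k i (φ k i (Ideal.Quotient.mk _ p)) *
        ψ k i (φ k i (tb k n)) ∈ _
      rw [h2, map_zero, mul_zero, sub_zero]
      exact Ideal.mul_mem_left _ _ (Ideal.mem_span_singleton_self _)

lemma ker_φ {i j : Fin 2} (hij : i ≠ j) :
    RingHom.ker (φ k i : NodeRing k →+* Polynomial k) = Ideal.span {tb k j} := by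
  apply le_antisymm
  · intro a ha
    have h := sub_ψ_φ_mem k hij a
    have h0 : φ k i a = 0 := ha
    rwa [h0, map_zero, sub_zero] at h
  · rw [Ideal.span_singleton_le_iff_mem, RingHom.mem_ker]
    change φ k i (tb k j) = 0
    rw [φ_tb, if_neg (Ne.symm hij)]

end Node


section Final

variable (k : Type u) [Field k]

lemma span_tb_isPrime {i j : Fin 2} (hij : i ≠ j) : (Ideal.span {tb k j}).IsPrime := by
  rw [← ker_φ k hij]
  exact RingHom.ker_isPrime _

lemma tb_notMem {i j : Fin 2} (hij : i ≠ j) : tb k i ∉ Ideal.span {tb k j} := by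
  rw [← ker_φ k hij, RingHom.mem_ker]
  change φ k i (tb k i) ≠ 0
  rw [φ_tb, if_pos rfl]
  exact Polynomial.X_ne_zero

lemma isField_localization {i j : Fin 2} (hij : i ≠ j) [(Ideal.span {tb k j}).IsPrime] :
    IsField (Localization.AtPrime (Ideal.span {tb k j})) := by
  rw [IsLocalRing.isField_iff_maximalIdeal_eq, ← Localization.AtPrime.map_eq_maximalIdeal,
    Ideal.map_span, Set.image_singleton, Ideal.span_singleton_eq_bot,
    IsLocalization.map_eq_zero_iff (Ideal.span {tb k j}).primeCompl]
  exact ⟨⟨tb k i, tb_notMem k hij⟩, tb_mul_tb k hij⟩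

instance : IsNoetherianRing (NodeRing k) := Ideal.Quotient.isNoetherianRing _

lemma locLen_quot_other {i j : Fin 2} (hij : i ≠ j) [(Ideal.span {tb k j}).IsPrime] :
    locLen (Ideal.span {tb k j}) (NodeRing k ⧸ Ideal.span {tb k i}) = 0 := by
  apply locLen_eq_zero
  refine ⟨tb k i, tb_notMem k hij, fun m => ?_⟩
  obtain ⟨a, rfl⟩ := Ideal.Quotient.mk_surjective m
  rw [← Ideal.Quotient.mk_eq_mk, ← Submodule.Quotient.mk_smul, Ideal.Quotient.mk_eq_mk,
    Ideal.Quotient.eq_zero_iff_mem, smul_eq_mul]
  exact Ideal.mul_mem_right _ _ (Ideal.mem_span_singleton_self _)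

lemma locLen_quot_self {i j : Fin 2} (hij : i ≠ j) [(Ideal.span {tb k j}).IsPrime] :
    locLen (Ideal.span {tb k j}) (NodeRing k ⧸ Ideal.span {tb k j}) = 1 := by
  have hp := isField_localization k hij
  have h := locLen_add hp (Submodule.subtype (Ideal.span {tb k j}))
    (Submodule.mkQ (Ideal.span {tb k j})) (Submodule.injective_subtype _)
    (Submodule.mkQ_surjective _)
    (fun y => by
      rw [Submodule.mkQ_apply, Submodule.Quotient.mk_eq_zero]
      constructor
      · intro hy; exact ⟨⟨y, hy⟩, rfl⟩
      · rintro ⟨z, rfl⟩; exact z.2)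
  have h0 : locLen (Ideal.span {tb k j}) ↥(Ideal.span {tb k j}) = 0 := by
    apply locLen_eq_zero
    refine ⟨tb k i, tb_notMem k hij, fun m => ?_⟩
    obtain ⟨m, hm⟩ := m
    obtain ⟨c, rfl⟩ := Ideal.mem_span_singleton'.mp hm
    apply Subtype.ext
    change tb k i * (c * tb k j) = 0
    rw [mul_left_comm, tb_mul_tb k hij, mul_zero]
  rw [locLen_self hp, h0, zero_add] at h
  exact h.symm

/-- `K₀` of finite modules over the node `k[x, y]/(xy)` is free of rank two on the classes of the
two branches. -/
theorem main : Function.Bijective (fun p : ℤ × ℤ =>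
    p.1 • clSub (P (NodeRing k)) (ModuleCat.of (NodeRing k) (NodeRing k ⧸ Ideal.span {tb k 0})) +
    p.2 • clSub (P (NodeRing k)) (ModuleCat.of (NodeRing k) (NodeRing k ⧸ Ideal.span {tb k 1}))) := by
  have h01 : (0 : Fin 2) ≠ 1 := by decide
  have h10 : (1 : Fin 2) ≠ 0 := by decide
  have hp0 : (Ideal.span {tb k 0}).IsPrime := span_tb_isPrime k h10
  have hp1 : (Ideal.span {tb k 1}).IsPrime := span_tb_isPrime k h01
  set c₀ := clSub (P (NodeRing k)) (ModuleCat.of (NodeRing k) (NodeRing k ⧸ Ideal.span {tb k 0}))
    with hc₀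
  set c₁ := clSub (P (NodeRing k)) (ModuleCat.of (NodeRing k) (NodeRing k ⧸ Ideal.span {tb k 1}))
    with hc₁
  let ℓ₀ := len (isField_localization k h10)
  let ℓ₁ := len (isField_localization k h01)
  have v00 : ℓ₀ c₀ = 1 := by
    rw [hc₀, len_clSub, locLen_quot_self k h10]; rfl
  have v01 : ℓ₀ c₁ = 0 := by
    rw [hc₁, len_clSub, locLen_quot_other k h10]; rfl
  have v10 : ℓ₁ c₀ = 0 := by
    rw [hc₀, len_clSub, locLen_quot_other k h01]; rfl
  have v11 : ℓ₁ c₁ = 1 := by
    rw [hc₁, len_clSub, locLen_quot_self k h01]; rfl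
  constructor
  · rintro ⟨a, b⟩ ⟨a', b'⟩ h
    have h0 := congrArg ℓ₀ h
    have h1 := congrArg ℓ₁ h
    simp only [map_add, map_zsmul, v00, v01, v10, v11, smul_eq_mul, mul_one, mul_zero, add_zero,
      zero_add] at h0 h1
    rw [h0, h1]
  · let H : AddSubgroup (K0sub (P (NodeRing k))) :=
      AddSubgroup.zmultiples c₀ ⊔ AddSubgroup.zmultiples c₁
    have hH : ∀ x, x ∈ H := by
      apply mem_of_cyclic H
      intro I
      -- the colon ideal and the sum
      let I' : Ideal (NodeRing k) := Submodule.comap (LinearMap.lsmul (NodeRing k) (NodeRing k) (tb k 0)) I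
      let I'' : Ideal (NodeRing k) := I ⊔ Ideal.span {tb k 0}
      have hI' : tb k 1 ∈ I' := by
        change tb k 0 • tb k 1 ∈ I
        rw [smul_eq_mul, tb_mul_tb k h01]
        exact zero_mem _
      have hI'' : tb k 0 ∈ I'' := Ideal.mem_sup_right (Ideal.mem_span_singleton_self _)
      let f : (NodeRing k ⧸ I') →ₗ[NodeRing k] (NodeRing k ⧸ I) :=
        Submodule.mapQ I' I (LinearMap.lsmul (NodeRing k) (NodeRing k) (tb k 0)) le_rfl
      let g : (NodeRing k ⧸ I) →ₗ[NodeRing k] (NodeRing k ⧸ I'') :=
        Submodule.mapQ I I'' LinearMap.id (by rw [Submodule.comap_id]; exact le_sup_left)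
      have hf : Function.Injective f := by
        rw [injective_iff_map_eq_zero]
        intro y hy
        obtain ⟨u, rfl⟩ := Ideal.Quotient.mk_surjective y
        have h1 : f (Ideal.Quotient.mk I' u) = Ideal.Quotient.mk I (tb k 0 * u) := rfl
        rw [h1, Ideal.Quotient.eq_zero_iff_mem] at hy
        rw [Ideal.Quotient.eq_zero_iff_mem]
        exact hy
      have hg : Function.Surjective g := by
        intro y
        obtain ⟨u, rfl⟩ := Ideal.Quotient.mk_surjective y
        exact ⟨Ideal.Quotient.mk _ u, rfl⟩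
      have hex : Function.Exact f g := by
        intro y
        obtain ⟨u, rfl⟩ := Ideal.Quotient.mk_surjective y
        have h1 : g (Ideal.Quotient.mk I u) = Ideal.Quotient.mk I'' u := rfl
        rw [h1, Ideal.Quotient.eq_zero_iff_mem]
        constructor
        · intro hu
          obtain ⟨v, hv, w, hw, rfl⟩ := Submodule.mem_sup.mp hu
          obtain ⟨c, rfl⟩ := Ideal.mem_span_singleton'.mp hw
          refine ⟨Ideal.Quotient.mk I' c, ?_⟩
          have h2 : f (Ideal.Quotient.mk I' c) = Ideal.Quotient.mk I (tb k 0 * c) := rfl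
          rw [h2, Ideal.Quotient.eq]
          have h3 : tb k 0 * c - (v + c * tb k 0) = -v := by ring
          rw [h3]
          exact I.neg_mem hv
        · rintro ⟨z, hz⟩
          obtain ⟨c, rfl⟩ := Ideal.Quotient.mk_surjective z
          have h2 : f (Ideal.Quotient.mk I' c) = Ideal.Quotient.mk I (tb k 0 * c) := rfl
          rw [h2, Ideal.Quotient.eq] at hz
          have : u = (u - tb k 0 * c) + c * tb k 0 := by ring
          rw [this]
          refine Submodule.add_mem_sup ?_ (Ideal.mul_mem_left _ _ (Ideal.mem_span_singleton_self _))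
          have h3 : u - tb k 0 * c = -(tb k 0 * c - u) := by ring
          rw [h3]
          exact I.neg_mem hz
      rw [cl_add f g hf hg hex, add_comm]
      refine AddSubgroup.add_mem_sup ?_ ?_
      · exact cl_quot_mem (φ k 1 : NodeRing k →+* Polynomial k) (φ_surjective k 1) (tb k 0)
          (ker_φ k h10) I'' hI''
      · exact cl_quot_mem (φ k 0 : NodeRing k →+* Polynomial k) (φ_surjective k 0) (tb k 1)
          (ker_φ k h01) I' hI'
    intro x
    obtain ⟨y, hy, z, hz, rfl⟩ := AddSubgroup.mem_sup.mp (hH x)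
    obtain ⟨a, rfl⟩ := AddSubgroup.mem_zmultiples_iff.mp hy
    obtain ⟨b, rfl⟩ := AddSubgroup.mem_zmultiples_iff.mp hz
    exact ⟨(a, b), rfl⟩

end Final

end Groth.Agent.Lib.T2H2.K0Node
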