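import Mathlib
import Groth.Agent.Lib.T2H2FredIndex
import Groth.Agent.Lib.T2H2CartierH1

/-!
# Kernels and cokernels of the comparison maps on `Ω` and `H¹(L)` for a square of fields (helper2)
-/

set_option autoImplicit false
universe u

namespace Groth.Agent.Lib.T2H2.KaehlerSquare

open Algebra TensorProduct Groth.Agent.Lib.T2H2.FredIndex Groth.Agent.Lib.T2H2.CartierH1

section Abstract

variable {F : Type*} [Field F] {P X Y Q : Type*} [AddCommGroup P] [Module F P]
  [AddCommGroup X] [Module F X] [AddCommGroup Y] [Module F Y] [AddCommGroup Q] [Module F Q]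

/-- Kernel and cokernel of the middle map of `P → X → Y → Q` exact at `X` and `Y`. -/
theorem isFred_of_exact (pre : P →ₗ[F] X) (φ : X →ₗ[F] Y) (post : Y →ₗ[F] Q)
    (h1 : Function.Exact pre φ) (h2 : Function.Exact φ post)
    [Module.Finite F (LinearMap.range pre)] [Module.Finite F (LinearMap.range post)] :
    IsFred φ ∧ Module.finrank F (LinearMap.ker φ) = Module.finrank F (LinearMap.range pre) ∧
      Module.finrank F (Y ⧸ LinearMap.range φ) = Module.finrank F (LinearMap.range post) := by
  have hk : LinearMap.ker φ = LinearMap.range pre := LinearMap.exact_iff.mp h1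
  have hr : LinearMap.ker post = LinearMap.range φ := LinearMap.exact_iff.mp h2
  let e : (Y ⧸ LinearMap.range φ) ≃ₗ[F] LinearMap.range post :=
    (Submodule.quotEquivOfEq _ _ hr.symm).trans post.quotKerEquivRange
  refine ⟨⟨?_, Module.Finite.equiv e.symm⟩, ?_, e.finrank_eq⟩
  · rw [hk]; infer_instance
  · rw [hk]

theorem isFred_of_injective_exact (φ : X →ₗ[F] Y) (post : Y →ₗ[F] Q)
    (hinj : Function.Injective φ) (h2 : Function.Exact φ post)
    [Module.Finite F (LinearMap.range post)] :
    IsFred φ ∧ Module.finrank F (LinearMap.ker φ) = 0 ∧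
      Module.finrank F (Y ⧸ LinearMap.range φ) = Module.finrank F (LinearMap.range post) := by
  have h1 : Function.Exact (0 : X →ₗ[F] X) φ := by
    rw [LinearMap.exact_iff, LinearMap.ker_eq_bot.mpr hinj, LinearMap.range_zero]
  have : Module.Finite F (LinearMap.range (0 : X →ₗ[F] X)) := by
    rw [LinearMap.range_zero]; infer_instance
  obtain ⟨h, hk, hc⟩ := isFred_of_exact (0 : X →ₗ[F] X) φ post h1 h2
  refine ⟨h, ?_, hc⟩
  rw [hk, LinearMap.range_zero, finrank_bot]

theorem isFred_of_exact_surjective (pre : P →ₗ[F] X) (φ : X →ₗ[F] Y)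
    (h1 : Function.Exact pre φ) (hsurj : Function.Surjective φ)
    [Module.Finite F (LinearMap.range pre)] :
    IsFred φ ∧ Module.finrank F (LinearMap.ker φ) = Module.finrank F (LinearMap.range pre) ∧
      Module.finrank F (Y ⧸ LinearMap.range φ) = 0 := by
  have h2 : Function.Exact φ (0 : Y →ₗ[F] Y) := by
    rw [LinearMap.exact_iff, LinearMap.ker_zero, LinearMap.range_eq_top.mpr hsurj]
  have : Module.Finite F (LinearMap.range (0 : Y →ₗ[F] Y)) := by
    rw [LinearMap.range_zero]; infer_instance
  obtain ⟨h, hk, hc⟩ := isFred_of_exact pre φ (0 : Y →ₗ[F] Y) h1 h2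
  refine ⟨h, hk, ?_⟩
  rw [hc, LinearMap.range_zero, finrank_bot]

end Abstract

section Fields

variable {k k' K K' : Type u} [Field k] [Field k'] [Field K] [Field K'] [Algebra k k']
  [Algebra k K] [Algebra k K'] [Algebra k' K'] [Algebra K K']
  [IsScalarTower k k' K'] [IsScalarTower k K K']

/-- `α = g' ∘ f'`. -/
theorem alpha_eq :
    (KaehlerDifferential.map k k' K K').liftBaseChange K' =
      (KaehlerDifferential.map k k' K' K') ∘ₗ (KaehlerDifferential.mapBaseChange k K K') := by
  apply TensorProduct.AlgebraTensorModule.ext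
  intro x ω
  rw [LinearMap.liftBaseChange_tmul, LinearMap.comp_apply, KaehlerDifferential.mapBaseChange_tmul,
    map_smul]
  congr 1
  -- both sides are `K`-linear in `ω`; check on `D a`
  have h : (KaehlerDifferential.map k k' K K') =
      ((KaehlerDifferential.map k k' K' K').restrictScalars K) ∘ₗ
        (KaehlerDifferential.map k k K K') := by
    apply Derivation.liftKaehlerDifferential_unique
    ext a
    show (KaehlerDifferential.map k k' K K') (KaehlerDifferential.D k K a) =
      (KaehlerDifferential.map k k' K' K') ((KaehlerDifferential.map k k K K')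
        (KaehlerDifferential.D k K a))
    rw [KaehlerDifferential.map_D, KaehlerDifferential.map_D, KaehlerDifferential.map_D]
    rfl
  rw [h]
  rfl

/-- `β = g ∘ f`. -/
theorem beta_eq :
    (Algebra.H1Cotangent.map k k' K K').liftBaseChange K' =
      (Algebra.H1Cotangent.map k k' K' K') ∘ₗ
        ((Algebra.H1Cotangent.map k k K K').liftBaseChange K') := by
  apply TensorProduct.AlgebraTensorModule.ext
  intro x z
  rw [LinearMap.liftBaseChange_tmul, LinearMap.comp_apply, LinearMap.liftBaseChange_tmul, map_smul,
    h1map_comp_apply]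

/-- The main dimension count for a square of fields. -/
theorem main [Algebra.EssFiniteType k k'] [Algebra.EssFiniteType K K'] :
    Module.Finite K' (LinearMap.ker ((KaehlerDifferential.map k k' K K').liftBaseChange K')) ∧
      Module.Finite K' (Ω[K'⁄k'] ⧸ LinearMap.range ((KaehlerDifferential.map k k' K K').liftBaseChange K')) ∧
      Module.Finite K' (LinearMap.ker ((Algebra.H1Cotangent.map k k' K K').liftBaseChange K')) ∧
      Module.Finite K' (Algebra.H1Cotangent k' K' ⧸ LinearMap.range ((Algebra.H1Cotangent.map k k' K K').liftBaseChange K')) ∧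
      ((Module.finrank K' (LinearMap.ker ((KaehlerDifferential.map k k' K K').liftBaseChange K')) : ℤ)
          - Module.finrank K' (Ω[K'⁄k'] ⧸ LinearMap.range ((KaehlerDifferential.map k k' K K').liftBaseChange K'))
          - Module.finrank K' (LinearMap.ker ((Algebra.H1Cotangent.map k k' K K').liftBaseChange K'))
          + Module.finrank K' (Algebra.H1Cotangent k' K' ⧸ LinearMap.range ((Algebra.H1Cotangent.map k k' K K').liftBaseChange K'))
        = (Cardinal.toNat (Algebra.trdeg k k') : ℤ) - Cardinal.toNat (Algebra.trdeg K K')) := by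
  rw [alpha_eq, beta_eq]
  -- Cartier's equality for the two finitely generated extensions
  obtain ⟨fH1, fΩ1, hC1⟩ := cartier_h1 k k'
  obtain ⟨fH2, fΩ2, hC2⟩ := cartier_h1 K K'
  -- the maps of the two Jacobi–Zariski sequences
  set f := (Algebra.H1Cotangent.map k k K K').liftBaseChange K' with hf_def
  let c := Algebra.H1Cotangent.map k K K' K'
  let d' := Algebra.H1Cotangent.δ k K K'
  set f' := KaehlerDifferential.mapBaseChange k K K' with hf'_def
  let e := KaehlerDifferential.map k K K' K'
  let a := (Algebra.H1Cotangent.map k k k' K').liftBaseChange K'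
  set g := Algebra.H1Cotangent.map k k' K' K' with hg_def
  let d := Algebra.H1Cotangent.δ k k' K'
  let b := KaehlerDifferential.mapBaseChange k k' K'
  set g' := KaehlerDifferential.map k k' K' K' with hg'_def
  have hfc : Function.Exact f c := Algebra.H1Cotangent.exact_liftBaseChange_map_of_flat k K K'
  have hcd' : Function.Exact c d' := Algebra.H1Cotangent.exact_map_δ k K K'
  have hd'f' : Function.Exact d' f' := Algebra.H1Cotangent.exact_δ_mapBaseChange k K K'
  have hf'e : Function.Exact f' e := KaehlerDifferential.exact_mapBaseChange_map k K K'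
  have he : Function.Surjective e := KaehlerDifferential.map_surjective k K K'
  have hag : Function.Exact a g := Algebra.H1Cotangent.exact_liftBaseChange_map_of_flat k k' K'
  have hgd : Function.Exact g d := Algebra.H1Cotangent.exact_map_δ k k' K'
  have hdb : Function.Exact d b := Algebra.H1Cotangent.exact_δ_mapBaseChange k k' K'
  have hbg' : Function.Exact b g' := KaehlerDifferential.exact_mapBaseChange_map k k' K'
  have hg' : Function.Surjective g' := KaehlerDifferential.map_surjective k k' K'
  have hf_inj : Function.Injective f :=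
    Groth.Agent.Lib.Helper7.H1Nat.injective_liftBaseChange_map_fields
  have ha_inj : Function.Injective a :=
    Groth.Agent.Lib.Helper7.H1Nat.injective_liftBaseChange_map_fields
  -- Fredholm data of the four maps
  obtain ⟨Ff, kf, cf⟩ := isFred_of_injective_exact f c hf_inj hfc
  obtain ⟨Fg, kg, cg⟩ := isFred_of_exact a g d hag hgd
  obtain ⟨Ff', kf', cf'⟩ := isFred_of_exact d' f' e hd'f' hf'e
  obtain ⟨Fg', kg', cg'⟩ := isFred_of_exact_surjective b g' hbg' hg'
  obtain ⟨Fβ, iβ⟩ := hasIndex_comp f g Ff Fg
  obtain ⟨Fα, iα⟩ := hasIndex_comp f' g' Ff' Fg'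
  refine ⟨Fα.ker, Fα.coker, Fβ.ker, Fβ.coker, ?_⟩
  have r1 := LinearMap.finrank_range_add_finrank_ker d'
  have r2 := LinearMap.finrank_range_add_finrank_ker b
  have hkd' : LinearMap.ker d' = LinearMap.range c := LinearMap.exact_iff.mp hcd'
  have hkb : LinearMap.ker b = LinearMap.range d := LinearMap.exact_iff.mp hdb
  rw [hkd'] at r1
  rw [hkb] at r2
  have ra : Module.finrank K' (LinearMap.range a) =
      Module.finrank K' (K' ⊗[k'] Algebra.H1Cotangent k k') :=
    LinearMap.finrank_range_of_inj ha_inj
  have re : Module.finrank K' (LinearMap.range e) = Module.finrank K' (Ω[K'⁄K]) := by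
    rw [LinearMap.range_eq_top.mpr he, finrank_top]
  have bc1 : Module.finrank K' (K' ⊗[k'] Algebra.H1Cotangent k k') =
      Module.finrank k' (Algebra.H1Cotangent k k') := Module.finrank_baseChange
  have bc2 : Module.finrank K' (K' ⊗[k'] Ω[k'⁄k]) = Module.finrank k' (Ω[k'⁄k]) :=
    Module.finrank_baseChange
  omega

end Fields

end Groth.Agent.Lib.T2H2.KaehlerSquare
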