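import Groth.Agent.Lib.T2H2HorrK

/-!
# Kronecker's lemma, `Pic B[X] = Pic B` for normal domains (matrix form), and normal cones
-/

set_option autoImplicit false
open Polynomial Matrix TensorProduct
universe u v

namespace Groth.Agent.Lib.T2H2.Kron

open Groth.Agent.Lib.T2H2.Horr

section val
variable {K : Type u} [Field K] {Γ : Type v} [LinearOrderedCommGroupWithZero Γ]

/-- the maximal valuation of a coefficient, attained at a minimal index -/
lemma exists_min_max_coeff (v : Valuation K Γ) (f : K[X]) :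
    ∃ i₀ : ℕ, (∀ i, v (f.coeff i) ≤ v (f.coeff i₀)) ∧ ∀ i < i₀, v (f.coeff i) < v (f.coeff i₀) := by
  classical
  obtain ⟨i₁, -, hi₁⟩ := Finset.exists_max_image (Finset.range (f.natDegree + 1))
    (fun i => v (f.coeff i)) ⟨0, by simp⟩
  have hmax : ∀ i, v (f.coeff i) ≤ v (f.coeff i₁) := by
    intro i
    by_cases hi : i ∈ Finset.range (f.natDegree + 1)
    · exact hi₁ i hi
    · rw [Finset.mem_range, not_lt] at hi
      rw [coeff_eq_zero_of_natDegree_lt (by omega), map_zero]
      exact zero_le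
  have hex : ∃ i, v (f.coeff i) = v (f.coeff i₁) := ⟨i₁, rfl⟩
  refine ⟨Nat.find hex, ?_, ?_⟩
  · intro i
    rw [Nat.find_spec hex]
    exact hmax i
  · intro i hi
    rw [Nat.find_spec hex]
    exact lt_of_le_of_ne (hmax i) (Nat.find_min hex hi)

/-- Gauss's lemma for a valuation. -/
lemma val_coeff_mul_le (v : Valuation K Γ) (f g : K[X]) (h : ∀ n, v ((f * g).coeff n) ≤ 1)
    (i j : ℕ) : v (f.coeff i) * v (g.coeff j) ≤ 1 := by
  classical
  obtain ⟨i₀, hi₀, hi₀'⟩ := exists_min_max_coeff v f
  obtain ⟨j₀, hj₀, hj₀'⟩ := exists_min_max_coeff v g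
  set a := v (f.coeff i₀) with ha
  set b := v (g.coeff j₀) with hb
  have hle : v (f.coeff i) * v (g.coeff j) ≤ a * b := mul_le_mul' (hi₀ i) (hj₀ j)
  by_cases hab : a * b = 0
  · rw [hab] at hle
    exact hle.trans zero_le
  have ha0 : a ≠ 0 := fun h0 => hab (by rw [h0, zero_mul])
  have hb0 : b ≠ 0 := fun h0 => hab (by rw [h0, mul_zero])
  have hapos : 0 < a := zero_lt_iff.2 ha0
  have hbpos : 0 < b := zero_lt_iff.2 hb0
  refine hle.trans ?_
  have key : v ((f * g).coeff (i₀ + j₀)) = a * b := by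
    have hmem : (i₀, j₀) ∈ Finset.HasAntidiagonal.antidiagonal (i₀ + j₀) :=
      Finset.HasAntidiagonal.mem_antidiagonal.2 rfl
    rw [coeff_mul, ← Finset.add_sum_erase _ _ hmem]
    have h2 : v (∑ x ∈ (Finset.HasAntidiagonal.antidiagonal (i₀ + j₀)).erase (i₀, j₀),
        f.coeff x.1 * g.coeff x.2) < a * b := by
      refine Valuation.map_sum_lt v hab ?_
      rintro ⟨p, q⟩ hpq
      rw [Finset.mem_erase, Finset.HasAntidiagonal.mem_antidiagonal] at hpq
      obtain ⟨hne, hsum⟩ := hpq
      simp only at hsum ⊢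
      rw [map_mul]
      rcases lt_trichotomy p i₀ with hp | hp | hp
      · exact mul_lt_mul_of_lt_of_le_of_nonneg_of_pos (hi₀' p hp) (hj₀ q) zero_le hbpos
      · exfalso
        apply hne
        subst hp
        have : q = j₀ := by omega
        rw [this]
      · have hq : q < j₀ := by omega
        exact mul_lt_mul_of_le_of_lt_of_nonneg_of_pos (hi₀ p) (hj₀' q hq) zero_le hapos
    rw [Valuation.map_add_eq_of_lt_left]
    · rw [map_mul]
    · rw [map_mul]
      exact h2
  rw [← key]
  exact h _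

end val


section kron
variable (B : Type u) [CommRing B] [IsDomain B] [IsIntegrallyClosed B]
  (K : Type u) [Field K] [Algebra B K] [IsFractionRing B K]

theorem isIntegrallyClosedIn_range : IsIntegrallyClosedIn (algebraMap B K).range K := by
  rw [Subring.isIntegrallyClosedIn_iff]
  intro x hx
  let ρ : B →+* (algebraMap B K).range := (algebraMap B K).rangeRestrict
  letI : Algebra B (algebraMap B K).range := ρ.toAlgebra
  haveI : IsScalarTower B (algebraMap B K).range K := IsScalarTower.of_algebraMap_eq (fun _ => rfl)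
  haveI : Algebra.IsIntegral B (algebraMap B K).range :=
    Algebra.isIntegral_of_surjective (algebraMap B K).rangeRestrict_surjective
  have hx' : IsIntegral B x := isIntegral_trans x hx
  obtain ⟨y, hy⟩ := IsIntegrallyClosed.isIntegral_iff.1 hx'
  exact ⟨y, hy⟩

/-- **Kronecker's lemma** for an integrally closed domain. -/
theorem kronecker (f g : K[X]) (h : ∀ n, (f * g).coeff n ∈ (algebraMap B K).range) (i j : ℕ) :
    f.coeff i * g.coeff j ∈ (algebraMap B K).range := by
  haveI := isIntegrallyClosedIn_range B K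
  by_contra hx
  obtain ⟨V, hV, hxV⟩ := Subring.exists_le_valuationSubring_of_isIntegrallyClosedIn
    (R := (algebraMap B K).range) hx
  apply hxV
  rw [← V.valuation_le_one_iff, map_mul]
  refine val_coeff_mul_le V.valuation f g (fun n => ?_) i j
  rw [V.valuation_le_one_iff]
  exact hV (h n)


variable {N : Type} [Fintype N] [DecidableEq N]

/-- **`Pic B[X] = Pic B` for a normal domain `B`**, matrix form: an idempotent matrix over `B[X]`
whose image has rank one over `K[X]` is equivalent to its constant term. -/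
theorem isog_const_of_rankOne (e : Matrix N N B[X])
    (h : Isog (1 : K[X]) (e.map (Polynomial.mapRingHom (algebraMap B K)))
      (1 : Matrix (Fin 1) (Fin 1) K[X])) :
    Isog (1 : B[X]) e (e.map ((C : B →+* B[X]).comp (evalRingHom 0))) := by
  obtain ⟨a', b', h1, h2, -, -, -, -⟩ := h
  rw [one_smul] at h1 h2
  set ι : B[X] →+* K[X] := Polynomial.mapRingHom (algebraMap B K) with hι
  have hιinj : Function.Injective ι :=
    Polynomial.map_injective _ (IsFractionRing.injective B K)
  set σ : K[X] →+* K[X] := (C : K →+* K[X]).comp (evalRingHom 0) with hσ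
  set eK := e.map ι with heK
  set v₀ := b'.map σ with hv₀
  set w₀ := a'.map σ with hw₀
  have hw₀v₀ : w₀ * v₀ = 1 := by
    rw [hw₀, hv₀, ← Matrix.map_mul, h1, Matrix.map_one _ (map_zero σ) (map_one σ)]
  set e₀ := eK.map σ with he₀
  have he₀' : e₀ = v₀ * w₀ := by rw [he₀, ← h2, Matrix.map_mul]
  have hσι : e₀ = (e.map ((C : B →+* B[X]).comp (evalRingHom 0))).map ι := by
    rw [he₀, heK, Matrix.map_map, Matrix.map_map]
    refine Matrix.ext fun j k => ?_
    simp only [Matrix.map_apply, Function.comp_apply, hσ, hι, RingHom.comp_apply, coe_evalRingHom,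
      coe_mapRingHom, Polynomial.map_C, ← coeff_zero_eq_eval_zero, coeff_map]
  -- the two matrices over `K[X]`
  set a₀ := v₀ * a' with ha₀
  set b₀ := b' * w₀ with hb₀
  -- their entries have coefficients in `B`
  have hcoef : ∀ (j k : N) (p q : ℕ), (b' j 0).coeff p * (a' 0 k).coeff q ∈
      (algebraMap B K).range := by
    intro j k p q
    refine kronecker B K (b' j 0) (a' 0 k) (fun n => ?_) p q
    have : b' j 0 * a' 0 k = ι (e j k) := by
      have := congrFun (congrFun h2 j) k
      rw [Matrix.mul_apply, Fin.sum_univ_one] at this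
      rw [this, heK, Matrix.map_apply]
    rw [this, hι, coe_mapRingHom, coeff_map]
    exact ⟨_, rfl⟩
  have ha₀l : ∀ j k, a₀ j k ∈ Polynomial.lifts (algebraMap B K) := by
    intro j k
    rw [Polynomial.lifts_iff_coeff_lifts]
    intro n
    rw [ha₀, Matrix.mul_apply, Fin.sum_univ_one, hv₀, Matrix.map_apply, hσ, RingHom.comp_apply,
      coe_evalRingHom, ← coeff_zero_eq_eval_zero, coeff_C_mul]
    exact hcoef j k 0 n
  have hb₀l : ∀ j k, b₀ j k ∈ Polynomial.lifts (algebraMap B K) := by
    intro j k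
    rw [Polynomial.lifts_iff_coeff_lifts]
    intro n
    rw [hb₀, Matrix.mul_apply, Fin.sum_univ_one, hw₀, Matrix.map_apply, hσ, RingHom.comp_apply,
      coe_evalRingHom, ← coeff_zero_eq_eval_zero, coeff_mul_C]
    exact hcoef j k n 0
  choose A hA using ha₀l
  choose Bm hBm using hb₀l
  have hAι : (Matrix.of A).map ι = a₀ := Matrix.ext fun j k => by
    rw [Matrix.map_apply, Matrix.of_apply]; exact hA j k
  have hBι : (Matrix.of Bm).map ι = b₀ := Matrix.ext fun j k => by
    rw [Matrix.map_apply, Matrix.of_apply]; exact hBm j k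
  have hmapinj : ∀ {p q : Type} (X Y : Matrix p q B[X]), X.map ι = Y.map ι → X = Y := by
    intro p q X Y hXY
    refine Matrix.ext fun j k => hιinj ?_
    have := congrFun (congrFun hXY j) k
    simpa using this
  refine ⟨Matrix.of A, Matrix.of Bm, ?_, ?_, ?_, ?_, ?_, ?_⟩
  · rw [one_smul]
    apply hmapinj
    rw [Matrix.map_mul, hAι, hBι, ← hσι, he₀', ha₀, hb₀]
    calc v₀ * a' * (b' * w₀) = v₀ * (a' * b') * w₀ := by simp only [Matrix.mul_assoc]
      _ = v₀ * w₀ := by rw [h1, Matrix.mul_one]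
  · rw [one_smul]
    apply hmapinj
    rw [Matrix.map_mul, hAι, hBι, ha₀, hb₀]
    calc b' * w₀ * (v₀ * a') = b' * (w₀ * v₀) * a' := by simp only [Matrix.mul_assoc]
      _ = eK := by rw [hw₀v₀, Matrix.mul_one, h2]
  · apply hmapinj
    rw [Matrix.map_mul, hAι, ← hσι, he₀', ha₀]
    calc v₀ * w₀ * (v₀ * a') = v₀ * (w₀ * v₀) * a' := by simp only [Matrix.mul_assoc]
      _ = v₀ * a' := by rw [hw₀v₀, Matrix.mul_one]
  · apply hmapinj
    rw [Matrix.map_mul, hAι, ha₀, ← heK, ← h2]
    calc v₀ * a' * (b' * a') = v₀ * (a' * b') * a' := by simp only [Matrix.mul_assoc]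
      _ = v₀ * a' := by rw [h1, Matrix.mul_one]
  · apply hmapinj
    rw [Matrix.map_mul, hBι, hb₀, ← heK, ← h2]
    calc b' * a' * (b' * w₀) = b' * (a' * b') * w₀ := by simp only [Matrix.mul_assoc]
      _ = b' * w₀ := by rw [h1, Matrix.mul_one]
  · apply hmapinj
    rw [Matrix.map_mul, hBι, ← hσι, he₀', hb₀]
    calc b' * w₀ * (v₀ * w₀) = b' * (w₀ * v₀) * w₀ := by simp only [Matrix.mul_assoc]
      _ = b' * w₀ := by rw [hw₀v₀, Matrix.mul_one]

end kron


section inv
variable {A : Type u} {S : Type u} [CommRing A] [CommRing S]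
variable {N : Type} [Fintype N] [DecidableEq N]

/-- an idempotent with invertible image becomes equivalent to the `1 × 1` identity over any ring
with trivial Picard group -/
theorem isog_one_of_invertible (ψ : A →+* S) [Subsingleton (CommRing.Pic S)]
    (e₁ : Matrix N N A) (he₁ : e₁ * e₁ = e₁) [Module.Invertible A (Rg e₁)] :
    Isog (1 : S) (e₁.map ψ) (1 : Matrix (Fin 1) (Fin 1) S) := by
  letI := ψ.toAlgebra
  obtain ⟨D⟩ := rgBaseChange S he₁
  have hE : e₁.map ψ * e₁.map ψ = e₁.map ψ := by rw [← Matrix.map_mul, he₁]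
  haveI : Module.Invertible S (Rg (e₁.map ψ)) := Module.Invertible.congr D
  haveI : Module.Free S (Rg (e₁.map ψ)) := inferInstance
  obtain ⟨θ⟩ := Module.Invertible.free_iff_linearEquiv.1 (inferInstance : Module.Free S (Rg (e₁.map ψ)))
  have hRg1 : Rg (1 : Matrix (Fin 1) (Fin 1) S) = ⊤ := by
    rw [eq_top_iff]
    intro x _
    exact ⟨x, by simp⟩
  let θ' : Rg (1 : Matrix (Fin 1) (Fin 1) S) ≃ₗ[S] S :=
    ((LinearEquiv.ofEq _ _ hRg1).trans Submodule.topEquiv).trans (LinearEquiv.funUnique (Fin 1) S S)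
  exact Isog.of_rgEquiv hE (by simp) (θ.trans θ'.symm)

end inv


section cone
variable {k : Type u} [Field k] {n : ℕ} (I : Ideal (MvPolynomial (Fin n) k))

/-- the scaling map `x_i ↦ x_i t` -/
noncomputable def scal : MvPolynomial (Fin n) k →+* (MvPolynomial (Fin n) k ⧸ I)[X] :=
  MvPolynomial.eval₂Hom ((Polynomial.C).comp ((Ideal.Quotient.mk I).comp MvPolynomial.C))
    (fun i => Polynomial.C (Ideal.Quotient.mk I (MvPolynomial.X i)) * Polynomial.X)

lemma scal_monomial (m : Fin n →₀ ℕ) (c : k) :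
    scal I (MvPolynomial.monomial m c) =
      Polynomial.C (Ideal.Quotient.mk I (MvPolynomial.monomial m c)) *
        Polynomial.X ^ (∑ i ∈ m.support, m i) := by
  have hX : (Polynomial.X : (MvPolynomial (Fin n) k ⧸ I)[X]) ^ (∑ i ∈ m.support, m i) =
      ∏ i ∈ m.support, Polynomial.X ^ m i := by rw [Finset.prod_pow_eq_pow_sum]
  rw [scal, MvPolynomial.eval₂Hom_monomial, MvPolynomial.monomial_eq, map_mul, map_mul,
    Finsupp.prod, Finsupp.prod, map_prod, map_prod, hX, mul_assoc,
    ← Finset.prod_mul_distrib]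
  congr 1
  refine Finset.prod_congr rfl fun i _ => ?_
  rw [map_pow, map_pow]
  exact _root_.mul_pow (Polynomial.C (Ideal.Quotient.mk I (MvPolynomial.X i))) Polynomial.X (m i)

lemma scal_homogeneous {f : MvPolynomial (Fin n) k} {d : ℕ} (hf : f.IsHomogeneous d) :
    scal I f = Polynomial.C (Ideal.Quotient.mk I f) * Polynomial.X ^ d := by
  conv_lhs => rw [← MvPolynomial.support_sum_monomial_coeff f]
  conv_rhs => rw [← MvPolynomial.support_sum_monomial_coeff f]
  rw [map_sum, map_sum, map_sum, Finset.sum_mul]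
  refine Finset.sum_congr rfl fun m hm => ?_
  rw [scal_monomial, ← hf.degree_eq_sum_deg_support hm]

variable (hI : ∃ s : Set (MvPolynomial (Fin n) k), (∀ f ∈ s, ∃ d : ℕ, f.IsHomogeneous d) ∧
  I = Ideal.span s)

include hI in
lemma scal_mem : ∀ f ∈ I, scal I f = 0 := by
  obtain ⟨s, hs, rfl⟩ := hI
  have : Ideal.span s ≤ RingHom.ker (scal (Ideal.span s)) := by
    rw [Ideal.span_le]
    intro f hf
    obtain ⟨d, hd⟩ := hs f hf
    rw [SetLike.mem_coe, RingHom.mem_ker, scal_homogeneous _ hd,
      Ideal.Quotient.eq_zero_iff_mem.2 (Ideal.subset_span hf), map_zero, zero_mul]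
  exact fun f hf => this hf

include hI in
lemma constantCoeff_mem [Nontrivial (MvPolynomial (Fin n) k ⧸ I)] :
    ∀ f ∈ I, MvPolynomial.constantCoeff f = 0 := by
  have hne : I ≠ ⊤ := by
    intro h
    have : Subsingleton (MvPolynomial (Fin n) k ⧸ I) := Ideal.Quotient.subsingleton_iff.2 h
    exact not_subsingleton _ this
  obtain ⟨s, hs, rfl⟩ := hI
  have : Ideal.span s ≤ RingHom.ker (MvPolynomial.constantCoeff (R := k) (σ := Fin n)) := by
    rw [Ideal.span_le]
    intro f hf
    obtain ⟨d, hd⟩ := hs f hf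
    rw [SetLike.mem_coe, RingHom.mem_ker]
    by_cases hd0 : d = 0
    · subst hd0
      by_contra hc
      apply hne
      rw [Ideal.eq_top_iff_one]
      have hfC : f = MvPolynomial.C (MvPolynomial.constantCoeff f) := by
        have := MvPolynomial.totalDegree_eq_zero_iff_eq_C.1
          ((MvPolynomial.totalDegree_zero_iff_isHomogeneous _).2 hd)
        rw [this]; simp
      have hmem : f ∈ Ideal.span s := Ideal.subset_span hf
      have : (1 : MvPolynomial (Fin n) k) =
          MvPolynomial.C (MvPolynomial.constantCoeff f)⁻¹ * f := by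
        conv_rhs => rw [hfC]
        rw [← map_mul, MvPolynomial.constantCoeff_C, inv_mul_cancel₀ hc, map_one]
      rw [this]
      exact Ideal.mul_mem_left _ _ hmem
    · rw [MvPolynomial.constantCoeff_eq]
      exact hd.coeff_eq_zero (by simpa using Ne.symm hd0)
  exact fun f hf => this hf

/-- the scaling map on the quotient -/
noncomputable def φ : (MvPolynomial (Fin n) k ⧸ I) →+* (MvPolynomial (Fin n) k ⧸ I)[X] :=
  Ideal.Quotient.lift I (scal I) (scal_mem I hI)

/-- the augmentation -/
noncomputable def π [Nontrivial (MvPolynomial (Fin n) k ⧸ I)] :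
    (MvPolynomial (Fin n) k ⧸ I) →+* k :=
  Ideal.Quotient.lift I MvPolynomial.constantCoeff (constantCoeff_mem I hI)

lemma ev1_φ : (Polynomial.evalRingHom (1 : MvPolynomial (Fin n) k ⧸ I)).comp (φ I hI) =
    RingHom.id _ := by
  refine Ideal.Quotient.ringHom_ext (MvPolynomial.ringHom_ext (fun c => ?_) (fun i => ?_))
  · simp [φ, scal]
  · simp [φ, scal]

lemma ev0_φ [Nontrivial (MvPolynomial (Fin n) k ⧸ I)] :
    (Polynomial.evalRingHom (0 : MvPolynomial (Fin n) k ⧸ I)).comp (φ I hI) =
    (algebraMap k (MvPolynomial (Fin n) k ⧸ I)).comp (π I hI) := by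
  refine Ideal.Quotient.ringHom_ext (MvPolynomial.ringHom_ext (fun c => ?_) (fun i => ?_))
  · simp [φ, scal, π]
    rfl
  · simp [φ, scal, π]


include hI in
/-- **The Picard group of a normal cone is trivial.** -/
theorem free_of_invertible_cone [IsDomain (MvPolynomial (Fin n) k ⧸ I)]
    [IsIntegrallyClosed (MvPolynomial (Fin n) k ⧸ I)]
    (M : Type u) [AddCommGroup M] [Module (MvPolynomial (Fin n) k ⧸ I) M]
    [Module.Invertible (MvPolynomial (Fin n) k ⧸ I) M] :
    Module.Free (MvPolynomial (Fin n) k ⧸ I) M := by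
  obtain ⟨N, e₁, he₁, ⟨θ⟩⟩ := exists_idempotent (C := MvPolynomial (Fin n) k ⧸ I) M
  haveI : Module.Invertible (MvPolynomial (Fin n) k ⧸ I) (Rg e₁) := Module.Invertible.congr θ
  set e := e₁.map (φ I hI) with he
  have h1 := isog_one_of_invertible
    ((Polynomial.mapRingHom (algebraMap (MvPolynomial (Fin n) k ⧸ I)
      (FractionRing (MvPolynomial (Fin n) k ⧸ I)))).comp (φ I hI)) e₁ he₁
  have h2 : e₁.map ((Polynomial.mapRingHom (algebraMap (MvPolynomial (Fin n) k ⧸ I)
      (FractionRing (MvPolynomial (Fin n) k ⧸ I)))).comp (φ I hI)) =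
      e.map (Polynomial.mapRingHom (algebraMap (MvPolynomial (Fin n) k ⧸ I)
      (FractionRing (MvPolynomial (Fin n) k ⧸ I)))) := by
    rw [he, Matrix.map_map]; rfl
  rw [h2] at h1
  have h3 := isog_const_of_rankOne (MvPolynomial (Fin n) k ⧸ I)
    (FractionRing (MvPolynomial (Fin n) k ⧸ I)) e h1
  have h4 := h3.map (Polynomial.evalRingHom (1 : MvPolynomial (Fin n) k ⧸ I))
  have h5 : e.map (Polynomial.evalRingHom (1 : MvPolynomial (Fin n) k ⧸ I)) = e₁ := by
    rw [he, Matrix.map_map]
    have : (fun x => (Polynomial.evalRingHom (1 : MvPolynomial (Fin n) k ⧸ I)) (φ I hI x)) =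
        fun x => x := by
      funext x
      exact RingHom.congr_fun (ev1_φ I hI) x
    refine Matrix.ext fun i j => ?_
    exact congrFun this (e₁ i j)
  have h6 : (e.map ((C : (MvPolynomial (Fin n) k ⧸ I) →+* (MvPolynomial (Fin n) k ⧸ I)[X]).comp
      (evalRingHom 0))).map (Polynomial.evalRingHom (1 : MvPolynomial (Fin n) k ⧸ I)) =
      (e₁.map (π I hI)).map (algebraMap k (MvPolynomial (Fin n) k ⧸ I)) := by
    rw [he, Matrix.map_map, Matrix.map_map, Matrix.map_map]
    refine Matrix.ext fun i j => ?_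
    simp only [Matrix.map_apply, Function.comp_apply, RingHom.comp_apply, coe_evalRingHom, eval_C]
    exact RingHom.congr_fun (ev0_φ I hI) (e₁ i j)
  rw [h5, h6, map_one] at h4
  obtain ⟨β⟩ := h4.rgEquiv
  have hπ : e₁.map (π I hI) * e₁.map (π I hI) = e₁.map (π I hI) := by
    rw [← Matrix.map_mul, he₁]
  obtain ⟨D⟩ := rgBaseChange (MvPolynomial (Fin n) k ⧸ I) hπ
  exact Module.Free.of_equiv ((θ.trans β).trans D.symm).symm

end cone


end Groth.Agent.Lib.T2H2.Kron
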