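import Groth.Agent.Lib.T2H2Kron

/-!
# `Pic B[x₁,…,xₙ] = 0` for normal domains with `Pic B = 0`, and products of valuation rings
-/

set_option autoImplicit false
open Polynomial Matrix TensorProduct
universe u v

namespace Groth.Agent.Lib.T2H2.KronB

open Groth.Agent.Lib.T2H2.Horr Groth.Agent.Lib.T2H2.Kron

section basic
variable {S : Type u} [CommRing S]

/-- the range of the `1 × 1` identity matrix is the ring itself -/
noncomputable def rgOneEquiv : Rg (1 : Matrix (Fin 1) (Fin 1) S) ≃ₗ[S] S :=
  have hRg1 : Rg (1 : Matrix (Fin 1) (Fin 1) S) = ⊤ := by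
    rw [eq_top_iff]
    intro x _
    exact ⟨x, by simp⟩
  ((LinearEquiv.ofEq _ _ hRg1).trans Submodule.topEquiv).trans (LinearEquiv.funUnique (Fin 1) S S)

theorem free_of_isog_one {N : Type} [Fintype N] {e : Matrix N N S}
    (h : Isog (1 : S) e (1 : Matrix (Fin 1) (Fin 1) S)) : Module.Free S (Rg e) := by
  obtain ⟨β⟩ := h.rgEquiv
  exact Module.Free.of_equiv (β.trans rgOneEquiv).symm

/-- triviality of the Picard group transfers along ring isomorphisms -/
theorem pic_subsingleton_of_ringEquiv {R S : Type u} [CommRing R] [CommRing S] (f : R ≃+* S)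
    [Subsingleton (CommRing.Pic R)] : Subsingleton (CommRing.Pic S) := by
  have h : (CommRing.Pic.mapRingHom (f : R →+* S)).comp
      (CommRing.Pic.mapRingHom (f.symm : S →+* R)) = MonoidHom.id _ := by
    rw [CommRing.Pic.mapRingHom_comp_mapRingHom]
    have : (f : R →+* S).comp (f.symm : S →+* R) = RingHom.id S := by ext; simp
    rw [this, CommRing.Pic.mapRingHom_id]
  have hinj : Function.Injective (CommRing.Pic.mapRingHom (f.symm : S →+* R)) := by
    intro a b hab
    have := congrArg (CommRing.Pic.mapRingHom (f : R →+* S)) hab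
    rw [← MonoidHom.comp_apply, ← MonoidHom.comp_apply, h] at this
    exact this
  exact hinj.subsingleton

end basic

section poly
variable (B : Type u) [CommRing B] [IsDomain B] [IsIntegrallyClosed B]
  [Subsingleton (CommRing.Pic B)]

theorem isog_one_polynomial {N : Type} [Fintype N] [DecidableEq N] (e : Matrix N N B[X])
    (he : e * e = e) [Module.Invertible B[X] (Rg e)] :
    Isog (1 : B[X]) e (1 : Matrix (Fin 1) (Fin 1) B[X]) := by
  have h1 := isog_one_of_invertible (Polynomial.mapRingHom (algebraMap B (FractionRing B))) e he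
  have h3 := isog_const_of_rankOne B (FractionRing B) e h1
  have h4 := isog_one_of_invertible (Polynomial.evalRingHom (0 : B)) e he
  have h5 := h4.map (C : B →+* B[X])
  rw [map_one, Matrix.map_map, Matrix.map_one _ (map_zero _) (map_one _)] at h5
  exact (h3.comp h5).congr_scalar (one_mul 1)

theorem pic_polynomial : Subsingleton (CommRing.Pic B[X]) := by
  rw [CommRing.Pic.subsingleton_iff]
  intro M _ _ _
  obtain ⟨N, e, he, ⟨θ⟩⟩ := exists_idempotent (C := B[X]) M
  haveI : Module.Invertible B[X] (Rg e) := Module.Invertible.congr θ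
  haveI := free_of_isog_one (isog_one_polynomial B e he)
  exact Module.Free.of_equiv θ.symm

theorem mvPolynomial_aux (n : ℕ) : IsIntegrallyClosed (MvPolynomial (Fin n) B) ∧
    Subsingleton (CommRing.Pic (MvPolynomial (Fin n) B)) := by
  induction n with
  | zero =>
    exact ⟨IsIntegrallyClosed.of_equiv (MvPolynomial.isEmptyRingEquiv B (Fin 0)).symm,
      pic_subsingleton_of_ringEquiv (MvPolynomial.isEmptyRingEquiv B (Fin 0)).symm⟩
  | succ n ih =>
    obtain ⟨h1, h2⟩ := ih
    haveI := pic_polynomial (MvPolynomial (Fin n) B)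
    exact ⟨IsIntegrallyClosed.of_equiv (MvPolynomial.finSuccEquiv B n).symm.toRingEquiv,
      pic_subsingleton_of_ringEquiv (MvPolynomial.finSuccEquiv B n).symm.toRingEquiv⟩

end poly

section prod
variable {ι : Type u} (R : ι → Type u) [∀ i, CommRing (R i)]
variable {σ : Type} [Fintype σ] [DecidableEq σ]

/-- the projection `(∏ R_i)[x] → R_i[x]` -/
noncomputable abbrev pr (i : ι) : MvPolynomial σ (∀ i, R i) →+* MvPolynomial σ (R i) :=
  MvPolynomial.map (Pi.evalRingHom R i)

omit [Fintype σ] [DecidableEq σ] in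
theorem pr_injective (f g : MvPolynomial σ (∀ i, R i)) (h : ∀ i, pr R i f = pr R i g) : f = g := by
  ext m i
  have := congrArg (MvPolynomial.coeff m) (h i)
  simpa [MvPolynomial.coeff_map] using this

omit [Fintype σ] [DecidableEq σ] in
theorem exists_glue (S : Finset (σ →₀ ℕ)) (f : ∀ i, MvPolynomial σ (R i))
    (hf : ∀ i, (f i).support ⊆ S) :
    ∃ F : MvPolynomial σ (∀ i, R i), ∀ i, pr R i F = f i := by
  refine ⟨∑ m ∈ S, MvPolynomial.monomial m (fun i => MvPolynomial.coeff m (f i)), fun i => ?_⟩
  rw [map_sum]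
  simp only [pr, MvPolynomial.map_monomial, Pi.evalRingHom_apply]
  conv_rhs => rw [← MvPolynomial.support_sum_monomial_coeff (f i)]
  symm
  refine Finset.sum_subset (hf i) fun m _ hm => ?_
  rw [MvPolynomial.notMem_support_iff.1 hm, map_zero]

/-- **Invertible modules over `(∏ R_i)[x]` are free** when each `R_i` is a domain with
`Pic R_i[x] = 0`. -/
theorem free_prod [∀ i, IsDomain (R i)]
    (hPic : ∀ i, Subsingleton (CommRing.Pic (MvPolynomial σ (R i))))
    (M : Type u) [AddCommGroup M] [Module (MvPolynomial σ (∀ i, R i)) M]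
    [Module.Invertible (MvPolynomial σ (∀ i, R i)) M] :
    Module.Free (MvPolynomial σ (∀ i, R i)) M := by
  classical
  obtain ⟨N, e, he, ⟨θ⟩⟩ := exists_idempotent (C := MvPolynomial σ (∀ i, R i)) M
  haveI : Module.Invertible (MvPolynomial σ (∀ i, R i)) (Rg e) := Module.Invertible.congr θ
  have h1 : ∀ i, Isog (1 : MvPolynomial σ (R i)) (e.map (pr R i))
      (1 : Matrix (Fin 1) (Fin 1) (MvPolynomial σ (R i))) := fun i =>
    haveI := hPic i
    isog_one_of_invertible (pr R i) e he
  choose a b hab hba _ _ _ _ using h1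
  simp only [one_smul] at hab hba
  -- degree bound
  set D := Finset.univ.sup (fun jk : Fin N × Fin N => (e jk.1 jk.2).totalDegree) with hD
  let bd : σ →₀ ℕ := Finsupp.equivFunOnFinite.symm (fun _ => D)
  let S : Finset (σ →₀ ℕ) := Finset.Icc 0 bd
  have hS : ∀ (i) (p : MvPolynomial σ (R i)), p.totalDegree ≤ D → p.support ⊆ S := by
    intro i p hp m hm
    rw [Finset.mem_Icc]
    refine ⟨zero_le, ?_⟩
    intro x
    calc m x ≤ p.degreeOf x := MvPolynomial.monomial_le_degreeOf x hm
      _ ≤ p.totalDegree := MvPolynomial.degreeOf_le_totalDegree p x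
      _ ≤ D := hp
  have hentry : ∀ i j k, b i j 0 * a i 0 k = pr R i (e j k) := by
    intro i j k
    have := congrFun (congrFun (hba i) j) k
    rw [Matrix.mul_apply, Fin.sum_univ_one] at this
    rw [this, Matrix.map_apply]
  have hne : ∀ i, ∃ k, a i 0 k ≠ 0 ∧ b i k 0 ≠ 0 := by
    intro i
    by_contra hcon
    push Not at hcon
    have := congrFun (congrFun (hab i) 0) 0
    rw [Matrix.mul_apply] at this
    have h0 : ∑ k, a i 0 k * b i k 0 = 0 := Finset.sum_eq_zero fun k _ => by
      by_cases hk : a i 0 k = 0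
      · rw [hk, zero_mul]
      · rw [hcon k hk, mul_zero]
    rw [h0] at this
    simp at this
  have hdegE : ∀ i j k, (pr R i (e j k)).totalDegree ≤ D := by
    intro i j k
    have h1 : (pr R i (e j k)).totalDegree ≤ (e j k).totalDegree := by
      unfold MvPolynomial.totalDegree
      exact Finset.sup_mono (MvPolynomial.support_map_subset _ _)
    have h2 : (e j k).totalDegree ≤ D :=
      Finset.le_sup (f := fun jk : Fin N × Fin N => (e jk.1 jk.2).totalDegree)
        (Finset.mem_univ (j, k))
    exact h1.trans h2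
  have hdegb : ∀ i j, (b i j 0).totalDegree ≤ D := by
    intro i j
    obtain ⟨k, hk, -⟩ := hne i
    by_cases hb : b i j 0 = 0
    · rw [hb]; simp
    · have := hdegE i j k
      rw [← hentry, MvPolynomial.totalDegree_mul_of_isDomain hb hk] at this
      omega
  have hdega : ∀ i k, (a i 0 k).totalDegree ≤ D := by
    intro i k
    obtain ⟨j, -, hj⟩ := hne i
    by_cases ha : a i 0 k = 0
    · rw [ha]; simp
    · have := hdegE i j k
      rw [← hentry, MvPolynomial.totalDegree_mul_of_isDomain hj ha] at this
      omega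
  have hA : ∀ k, ∃ F : MvPolynomial σ (∀ i, R i), ∀ i, pr R i F = a i 0 k := fun k =>
    exists_glue R S (fun i => a i 0 k) (fun i => hS i _ (hdega i k))
  have hB : ∀ j, ∃ F : MvPolynomial σ (∀ i, R i), ∀ i, pr R i F = b i j 0 := fun j =>
    exists_glue R S (fun i => b i j 0) (fun i => hS i _ (hdegb i j))
  choose FA hFA using hA
  choose FB hFB using hB
  let a' : Matrix (Fin 1) (Fin N) (MvPolynomial σ (∀ i, R i)) := Matrix.of fun _ k => FA k
  let b' : Matrix (Fin N) (Fin 1) (MvPolynomial σ (∀ i, R i)) := Matrix.of fun j _ => FB j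
  have hmapinj : ∀ {p q : Type} (X Y : Matrix p q (MvPolynomial σ (∀ i, R i))),
      (∀ i, X.map (pr R i) = Y.map (pr R i)) → X = Y := by
    intro p q X Y hXY
    refine Matrix.ext fun j k => pr_injective R _ _ fun i => ?_
    have := congrFun (congrFun (hXY i) j) k
    simpa using this
  have ha'i : ∀ i, a'.map (pr R i) = a i := by
    intro i
    refine Matrix.ext fun x k => ?_
    rw [Matrix.map_apply, Subsingleton.elim x 0]
    exact hFA k i
  have hb'i : ∀ i, b'.map (pr R i) = b i := by
    intro i
    refine Matrix.ext fun j x => ?_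
    rw [Matrix.map_apply, Subsingleton.elim x 0]
    exact hFB j i
  have h1' : a' * b' = 1 := by
    apply hmapinj
    intro i
    rw [Matrix.map_mul, ha'i, hb'i, hab, Matrix.map_one _ (map_zero _) (map_one _)]
  have h2' : b' * a' = e := by
    apply hmapinj
    intro i
    rw [Matrix.map_mul, ha'i, hb'i, hba]
  have hisog : Isog (1 : MvPolynomial σ (∀ i, R i)) e
      (1 : Matrix (Fin 1) (Fin 1) (MvPolynomial σ (∀ i, R i))) := by
    refine ⟨a', b', ?_, ?_, ?_, ?_, ?_, ?_⟩
    · rw [one_smul, h1']
    · rw [one_smul, h2']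
    · rw [Matrix.one_mul]
    · rw [← h2', ← Matrix.mul_assoc, h1', Matrix.one_mul]
    · rw [← h2', Matrix.mul_assoc, h1', Matrix.mul_one]
    · rw [Matrix.mul_one]
  haveI := free_of_isog_one hisog
  exact Module.Free.of_equiv θ.symm

end prod


/-- **`Pic` of a polynomial ring over a product of valuation rings is trivial.** -/
theorem pic_mvPolynomial_pi_valuationRing {ι : Type u} (R : ι → Type u) [∀ i, CommRing (R i)]
    [∀ i, IsDomain (R i)] [∀ i, ValuationRing (R i)] (n : ℕ) :
    Subsingleton (CommRing.Pic (MvPolynomial (Fin n) (∀ i, R i))) := by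
  rw [CommRing.Pic.subsingleton_iff]
  intro M _ _ _
  refine free_prod R (fun i => ?_) M
  haveI : IsIntegrallyClosed (R i) := by
    classical
    letI := IsBezout.toGCDDomain (R i)
    infer_instance
  exact (mvPolynomial_aux (R i) n).2

end Groth.Agent.Lib.T2H2.KronB
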