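import Mathlib

/-!
# Transporting "homotopy classes = derived morphisms" along fully faithful exact functors (T2H2)

`QhBij E F` says that `Hom_K(E, F) ⟶ Hom_D(E, F)` is bijective.  It is invariant under
isomorphisms of complexes, and is transported by an exact fully faithful functor `T` whose derived
functor is fully faithful.
-/

set_option autoImplicit false
set_option linter.style.haveILetI false

universe w₁ w₂ v₁ v₂ u₁ u₂

open CategoryTheory CategoryTheory.Limits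

namespace Groth.Agent.Lib.T2H2.KtoD

section

variable {𝒜 : Type u₁} [Category.{v₁} 𝒜] [Abelian 𝒜] [HasDerivedCategory.{w₁} 𝒜]

/-- the quotient functor to the homotopy category. -/
abbrev qq (𝒜 : Type u₁) [Category.{v₁} 𝒜] [Abelian 𝒜] :=
  HomotopyCategory.quotient 𝒜 (ComplexShape.up ℤ)

/-- homotopy classes of maps `E ⟶ F` are the morphisms in the derived category. -/
def QhBij (E F : CochainComplex 𝒜 ℤ) : Prop :=
  Function.Bijective (fun φ : (HomotopyCategory.quotient 𝒜 (ComplexShape.up ℤ)).obj E ⟶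
      (HomotopyCategory.quotient 𝒜 (ComplexShape.up ℤ)).obj F =>
    (DerivedCategory.Qh (C := 𝒜)).map φ)

lemma qhBij_of_isKProjective (K N : CochainComplex 𝒜 ℤ) [K.IsKProjective] : QhBij K N :=
  CochainComplex.IsKProjective.Qh_map_bijective K _

lemma qhBij_of_iso {E E' F F' : CochainComplex 𝒜 ℤ} (e : E ≅ E') (e' : F ≅ F')
    (h : QhBij E F) : QhBij E' F' := by
  have he : ∀ (φ : (qq 𝒜).obj E' ⟶ (qq 𝒜).obj F'),
      (qq 𝒜).map e.inv ≫ ((qq 𝒜).map e.hom ≫ φ ≫ (qq 𝒜).map e'.inv) ≫ (qq 𝒜).map e'.hom = φ := by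
    intro φ
    rw [Category.assoc, Category.assoc, ← Functor.map_comp, e'.inv_hom_id, CategoryTheory.Functor.map_id,
      Category.comp_id, ← Category.assoc, ← Functor.map_comp, e.inv_hom_id, CategoryTheory.Functor.map_id,
      Category.id_comp]
  constructor
  · intro φ ψ hφψ
    have hφψ' : (DerivedCategory.Qh (C := 𝒜)).map φ = DerivedCategory.Qh.map ψ := hφψ
    have h1 : (DerivedCategory.Qh (C := 𝒜)).map ((qq 𝒜).map e.hom ≫ φ ≫ (qq 𝒜).map e'.inv) =
        DerivedCategory.Qh.map ((qq 𝒜).map e.hom ≫ ψ ≫ (qq 𝒜).map e'.inv) := by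
      rw [Functor.map_comp, Functor.map_comp, hφψ', ← Functor.map_comp, ← Functor.map_comp]
    have h2 := h.1 h1
    rw [← he φ, ← he ψ, h2]
  · intro b
    obtain ⟨φ₀, hφ₀⟩ := h.2 (DerivedCategory.Qh.map ((qq 𝒜).map e.hom) ≫ b ≫
      DerivedCategory.Qh.map ((qq 𝒜).map e'.inv))
    refine ⟨(qq 𝒜).map e.inv ≫ φ₀ ≫ (qq 𝒜).map e'.hom, ?_⟩
    have hφ₀' : (DerivedCategory.Qh (C := 𝒜)).map φ₀ =
        DerivedCategory.Qh.map ((qq 𝒜).map e.hom) ≫ b ≫
          DerivedCategory.Qh.map ((qq 𝒜).map e'.inv) := hφ₀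
    change (DerivedCategory.Qh (C := 𝒜)).map ((qq 𝒜).map e.inv ≫ φ₀ ≫ (qq 𝒜).map e'.hom) = b
    rw [Functor.map_comp, Functor.map_comp, hφ₀', Category.assoc, Category.assoc,
      ← Functor.map_comp, ← Functor.map_comp, e'.inv_hom_id, CategoryTheory.Functor.map_id, CategoryTheory.Functor.map_id,
      Category.comp_id, ← Category.assoc, ← Functor.map_comp, ← Functor.map_comp, e.inv_hom_id,
      CategoryTheory.Functor.map_id, CategoryTheory.Functor.map_id, Category.id_comp]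

end

section

variable {𝒜 : Type u₁} [Category.{v₁} 𝒜] [Abelian 𝒜] [HasDerivedCategory.{w₁} 𝒜]
  {ℬ : Type u₂} [Category.{v₂} ℬ] [Abelian ℬ] [HasDerivedCategory.{w₂} ℬ]
  (T : 𝒜 ⥤ ℬ) [T.Additive] [PreservesFiniteLimits T] [PreservesFiniteColimits T]

omit [HasDerivedCategory.{w₁} 𝒜] [HasDerivedCategory.{w₂} ℬ] [PreservesFiniteLimits T]
  [PreservesFiniteColimits T] in
/-- a fully faithful functor is full on chain maps. -/
lemma exists_map_eq [T.Full] [T.Faithful] {K N : CochainComplex 𝒜 ℤ}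
    (g : (T.mapHomologicalComplex (ComplexShape.up ℤ)).obj K ⟶
      (T.mapHomologicalComplex (ComplexShape.up ℤ)).obj N) :
    ∃ g' : K ⟶ N, (T.mapHomologicalComplex (ComplexShape.up ℤ)).map g' = g := by
  refine ⟨{ f := fun i => T.preimage (g.f i), comm' := fun i j _ => ?_ }, ?_⟩
  · apply T.map_injective
    rw [Functor.map_comp, Functor.map_comp, Functor.map_preimage, Functor.map_preimage]
    exact g.comm i j
  · ext i
    exact T.map_preimage (g.f i)

lemma qhBij_map_aux [T.Full] [T.Faithful] [T.mapDerivedCategory.Full]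
    [T.mapDerivedCategory.Faithful] {K N : CochainComplex 𝒜 ℤ} (h : QhBij K N) :
    Function.Bijective (fun ψ : (T.mapHomotopyCategory (ComplexShape.up ℤ)).obj ((qq 𝒜).obj K) ⟶
        (T.mapHomotopyCategory (ComplexShape.up ℤ)).obj ((qq 𝒜).obj N) =>
      (DerivedCategory.Qh (C := ℬ)).map ψ) := by
  obtain ⟨ι, hι⟩ : ∃ ι' : DerivedCategory.Qh ⋙ T.mapDerivedCategory ≅
      T.mapHomotopyCategory (ComplexShape.up ℤ) ⋙ DerivedCategory.Qh,
      ι' = T.mapDerivedCategoryFactorsh := ⟨_, rfl⟩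
  -- the key relation
  have key : ∀ φ : (qq 𝒜).obj K ⟶ (qq 𝒜).obj N,
      (DerivedCategory.Qh (C := ℬ)).map ((T.mapHomotopyCategory (ComplexShape.up ℤ)).map φ) =
        ι.inv.app ((qq 𝒜).obj K) ≫ T.mapDerivedCategory.map (DerivedCategory.Qh.map φ) ≫
          ι.hom.app ((qq 𝒜).obj N) := by
    intro φ
    have := ι.hom.naturality φ
    dsimp at this
    rw [this, Iso.inv_hom_id_app_assoc]
  have hsurj : ∀ ψ : (T.mapHomotopyCategory (ComplexShape.up ℤ)).obj ((qq 𝒜).obj K) ⟶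
        (T.mapHomotopyCategory (ComplexShape.up ℤ)).obj ((qq 𝒜).obj N),
      ∃ φ : (qq 𝒜).obj K ⟶ (qq 𝒜).obj N,
        (T.mapHomotopyCategory (ComplexShape.up ℤ)).map φ = ψ := by
    intro ψ
    obtain ⟨g, hg⟩ := (qq ℬ).map_surjective (X := (T.mapHomologicalComplex (ComplexShape.up ℤ)).obj K)
      (Y := (T.mapHomologicalComplex (ComplexShape.up ℤ)).obj N) ψ
    obtain ⟨g', rfl⟩ := exists_map_eq T g
    exact ⟨(qq 𝒜).map g', (T.mapHomotopyCategory_map g').trans hg⟩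
  constructor
  · intro ψ₁ ψ₂ hψ
    obtain ⟨φ₁, rfl⟩ := hsurj ψ₁
    obtain ⟨φ₂, rfl⟩ := hsurj ψ₂
    have h1 : (DerivedCategory.Qh (C := ℬ)).map
        ((T.mapHomotopyCategory (ComplexShape.up ℤ)).map φ₁) =
        DerivedCategory.Qh.map ((T.mapHomotopyCategory (ComplexShape.up ℤ)).map φ₂) := hψ
    rw [key, key] at h1
    have h2 : T.mapDerivedCategory.map (DerivedCategory.Qh.map φ₁) =
        T.mapDerivedCategory.map (DerivedCategory.Qh.map φ₂) := by
      have h1' := (cancel_epi (ι.inv.app ((qq 𝒜).obj K))).1 h1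
      exact (cancel_mono (ι.hom.app ((qq 𝒜).obj N))).1 h1'
    have h3 := T.mapDerivedCategory.map_injective h2
    rw [h.1 h3]
  · intro b
    obtain ⟨a, ha⟩ := T.mapDerivedCategory.map_surjective
      (ι.hom.app ((qq 𝒜).obj K) ≫ b ≫ ι.inv.app ((qq 𝒜).obj N))
    obtain ⟨φ, hφ⟩ := h.2 a
    refine ⟨(T.mapHomotopyCategory (ComplexShape.up ℤ)).map φ, ?_⟩
    have hφ' : (DerivedCategory.Qh (C := 𝒜)).map φ = a := hφ
    change (DerivedCategory.Qh (C := ℬ)).map
      ((T.mapHomotopyCategory (ComplexShape.up ℤ)).map φ) = b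
    rw [key, hφ', ha, Category.assoc, Category.assoc, Iso.inv_hom_id_app]
    refine (congrArg (fun x => ι.inv.app ((qq 𝒜).obj K) ≫ ι.hom.app ((qq 𝒜).obj K) ≫ x)
      (Category.comp_id b)).trans ?_
    exact Iso.inv_hom_id_app_assoc ι _ b

/-- transport of `QhBij` along an exact fully faithful functor with fully faithful derived
functor. -/
theorem qhBij_map [T.Full] [T.Faithful] [T.mapDerivedCategory.Full] [T.mapDerivedCategory.Faithful]
    {K N : CochainComplex 𝒜 ℤ} (h : QhBij K N) :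
    QhBij ((T.mapHomologicalComplex (ComplexShape.up ℤ)).obj K)
      ((T.mapHomologicalComplex (ComplexShape.up ℤ)).obj N) :=
  qhBij_map_aux T h

end

section Equiv

variable {𝒜 : Type u₁} [Category.{v₁} 𝒜] [Abelian 𝒜] [HasDerivedCategory.{w₁} 𝒜]
  {ℬ : Type u₂} [Category.{v₂} ℬ] [Abelian ℬ] [HasDerivedCategory.{w₂} ℬ]
  (Φ : 𝒜 ⥤ ℬ) [Φ.Additive] [PreservesFiniteLimits Φ] [PreservesFiniteColimits Φ]
  (Ψ : ℬ ⥤ 𝒜) [Ψ.Additive] [PreservesFiniteLimits Ψ] [PreservesFiniteColimits Ψ]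

omit [HasDerivedCategory.{w₁} 𝒜] [HasDerivedCategory.{w₂} ℬ] [PreservesFiniteLimits Φ]
  [PreservesFiniteColimits Φ] [PreservesFiniteLimits Ψ] [PreservesFiniteColimits Ψ] in
/-- `Φ ⋙ Ψ ≅ 𝟭` on complexes. -/
noncomputable def mapHCCompIdIso (η : Φ ⋙ Ψ ≅ 𝟭 𝒜) :
    Φ.mapHomologicalComplex (ComplexShape.up ℤ) ⋙ Ψ.mapHomologicalComplex (ComplexShape.up ℤ) ≅
      𝟭 (CochainComplex 𝒜 ℤ) :=
  NatIso.ofComponents (fun K => HomologicalComplex.Hom.isoOfComponents (fun i => η.app (K.X i))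
    (fun i j _ => by
      dsimp
      exact (η.hom.naturality (K.d i j)).symm))
    (fun {K L} f => by
      ext i
      dsimp
      exact η.hom.naturality (f.f i))

/-- `Φ_D ⋙ Ψ_D ≅ 𝟭` from `Φ ⋙ Ψ ≅ 𝟭`. -/
noncomputable def mapDerivedCategoryCompIdIso (η : Φ ⋙ Ψ ≅ 𝟭 𝒜) :
    Φ.mapDerivedCategory ⋙ Ψ.mapDerivedCategory ≅ 𝟭 (DerivedCategory 𝒜) :=
  letI : Localization.Lifting DerivedCategory.Q
      (HomologicalComplex.quasiIso 𝒜 (ComplexShape.up ℤ))
      (DerivedCategory.Q) (Φ.mapDerivedCategory ⋙ Ψ.mapDerivedCategory) :=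
    ⟨(Functor.associator _ _ _).symm ≪≫ Functor.isoWhiskerRight Φ.mapDerivedCategoryFactors _ ≪≫
      Functor.associator _ _ _ ≪≫ Functor.isoWhiskerLeft _ Ψ.mapDerivedCategoryFactors ≪≫
      (Functor.associator _ _ _).symm ≪≫
      Functor.isoWhiskerRight (mapHCCompIdIso Φ Ψ η) DerivedCategory.Q ≪≫
      Functor.leftUnitor _⟩
  letI : Localization.Lifting DerivedCategory.Q
      (HomologicalComplex.quasiIso 𝒜 (ComplexShape.up ℤ))
      (DerivedCategory.Q) (𝟭 (DerivedCategory 𝒜)) := ⟨Functor.rightUnitor _⟩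
  Localization.liftNatIso DerivedCategory.Q (HomologicalComplex.quasiIso 𝒜 (ComplexShape.up ℤ))
    DerivedCategory.Q DerivedCategory.Q _ _ (Iso.refl _)

/-- the derived functor of an exact equivalence is an equivalence. -/
theorem isEquivalence_mapDerivedCategory (η : Φ ⋙ Ψ ≅ 𝟭 𝒜) (η' : Ψ ⋙ Φ ≅ 𝟭 ℬ) :
    Φ.mapDerivedCategory.IsEquivalence :=
  (CategoryTheory.Equivalence.mk Φ.mapDerivedCategory Ψ.mapDerivedCategory
    (mapDerivedCategoryCompIdIso Φ Ψ η).symm
    (mapDerivedCategoryCompIdIso Ψ Φ η')).isEquivalence_functor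

end Equiv

end Groth.Agent.Lib.T2H2.KtoD
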