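import Groth.Agent.Lib.Helper1LT
import Groth.Agent.Lib.Helper10DerComplete7

set_option autoImplicit false
set_option linter.style.haveILetI false
universe u v w
open CategoryTheory CategoryTheory.Limits
attribute [local instance] HasDerivedCategory.standard

namespace Groth.Agent.Lib.T2H4.InvTwist

section General

variable {C : Type u} [Category.{v} C] [Abelian C] [HasDerivedCategory.{w} C]
  (F G H : C ⥤ C) [F.Additive] [PreservesFiniteLimits F] [PreservesFiniteColimits F]
  [G.Additive] [PreservesFiniteLimits G] [PreservesFiniteColimits G]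
  [H.Additive] [PreservesFiniteLimits H] [PreservesFiniteColimits H]

/-- `(F ⋙ G)` on complexes is the composite. -/
noncomputable def mapHCCompIso (τ : F ⋙ G ≅ H) :
    F.mapHomologicalComplex (ComplexShape.up ℤ) ⋙ G.mapHomologicalComplex (ComplexShape.up ℤ) ≅
      H.mapHomologicalComplex (ComplexShape.up ℤ) :=
  NatIso.ofComponents (fun K => HomologicalComplex.Hom.isoOfComponents (fun i => τ.app (K.X i))
    (fun i j _ => by
      dsimp
      exact (τ.hom.naturality (K.d i j)).symm))
    (fun {K L} f => by
      ext i
      dsimp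
      exact τ.hom.naturality (f.f i))

/-- composition of the derived functors of exact functors. -/
noncomputable def mapDerivedCategoryCompIso (τ : F ⋙ G ≅ H) :
    F.mapDerivedCategory ⋙ G.mapDerivedCategory ≅ H.mapDerivedCategory :=
  letI : Localization.Lifting DerivedCategory.Q
      (HomologicalComplex.quasiIso C (ComplexShape.up ℤ))
      (H.mapHomologicalComplex (ComplexShape.up ℤ) ⋙ DerivedCategory.Q)
      (F.mapDerivedCategory ⋙ G.mapDerivedCategory) :=
    ⟨(Functor.associator _ _ _).symm ≪≫ Functor.isoWhiskerRight F.mapDerivedCategoryFactors _ ≪≫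
      Functor.associator _ _ _ ≪≫ Functor.isoWhiskerLeft _ G.mapDerivedCategoryFactors ≪≫
      (Functor.associator _ _ _).symm ≪≫
      Functor.isoWhiskerRight (mapHCCompIso F G H τ) DerivedCategory.Q⟩
  Localization.liftNatIso DerivedCategory.Q (HomologicalComplex.quasiIso C (ComplexShape.up ℤ))
    (H.mapHomologicalComplex (ComplexShape.up ℤ) ⋙ DerivedCategory.Q)
    (H.mapHomologicalComplex (ComplexShape.up ℤ) ⋙ DerivedCategory.Q) _ _ (Iso.refl _)

/-- the derived functor of an exact functor isomorphic to the identity. -/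
noncomputable def mapDerivedCategoryIdIso (τ : H ≅ 𝟭 C) :
    H.mapDerivedCategory ≅ 𝟭 (DerivedCategory C) :=
  letI : Localization.Lifting DerivedCategory.Q
      (HomologicalComplex.quasiIso C (ComplexShape.up ℤ))
      (H.mapHomologicalComplex (ComplexShape.up ℤ) ⋙ DerivedCategory.Q)
      (𝟭 (DerivedCategory C)) :=
    ⟨Functor.rightUnitor _ ≪≫ (Functor.leftUnitor _).symm ≪≫
      Functor.isoWhiskerRight ((Functor.mapHomologicalComplexIdIso C (ComplexShape.up ℤ)).symm ≪≫
        (NatIso.mapHomologicalComplex τ (ComplexShape.up ℤ)).symm) DerivedCategory.Q⟩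
  Localization.liftNatIso DerivedCategory.Q (HomologicalComplex.quasiIso C (ComplexShape.up ℤ))
    (H.mapHomologicalComplex (ComplexShape.up ℤ) ⋙ DerivedCategory.Q)
    (H.mapHomologicalComplex (ComplexShape.up ℤ) ⋙ DerivedCategory.Q) _ _ (Iso.refl _)

end General

end Groth.Agent.Lib.T2H4.InvTwist
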