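import Mathlib
import Groth.Prelude.Def_PerfD
import Groth.Agent.S9498
import Groth.Agent.Lib.Helper23QCohExt
import Groth.Agent.Lib.Helper23QCohLocal
import Groth.Agent.Lib.Helper2FPAff
import Groth.Agent.Lib.T2H8HomologyCoprod
import Groth.Agent.Lib.T2H8SchLocHtpy
import Groth.Agent.Lib.T2H8PCohQCoh

/-!
# Bounded above acyclic complexes of finite locally free modules on an affine scheme are
contractible (helper8)
-/

set_option autoImplicit false
universe u
open CategoryTheory CategoryTheory.Limits AlgebraicGeometry Opposite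

namespace Groth.Agent.Lib.T2H8.AffContract

section General

variable {𝒜 ℬ : Type*} [Category 𝒜] [Preadditive 𝒜] [Category ℬ] [Preadditive ℬ]

/-- transport of a contracting homotopy along an additive functor and an isomorphism -/
noncomputable def homotopyIdZeroOfIso (G : 𝒜 ⥤ ℬ) [G.Additive] {K : CochainComplex 𝒜 ℤ}
    {E : CochainComplex ℬ ℤ} (ε : (G.mapHomologicalComplex (ComplexShape.up ℤ)).obj K ≅ E)
    (h : Homotopy (𝟙 K) 0) : Homotopy (𝟙 E) 0 :=
  (Homotopy.ofEq (by simp :
      𝟙 E = ε.inv ≫ (G.mapHomologicalComplex (ComplexShape.up ℤ)).map (𝟙 K) ≫ ε.hom)).trans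
    ((((G.mapHomotopy h).compRight ε.hom).compLeft ε.inv).trans (Homotopy.ofEq (by simp)))

end General

section Abelian

variable {𝒜 ℬ : Type*} [Category 𝒜] [Abelian 𝒜] [Category ℬ] [Abelian ℬ]

open Groth.Agent.Lib.T2H8.HomologyCoprod

lemma acyclic_of_homotopy_id_zero (E : CochainComplex 𝒜 ℤ) (h : Homotopy (𝟙 E) 0) :
    E.Acyclic := by
  intro i
  rw [HomologicalComplex.exactAt_iff_isZero_homology, IsZero.iff_id_eq_zero]
  have := h.homologyMap_eq i
  simpa using this

lemma acyclic_of_iso {E E' : CochainComplex 𝒜 ℤ} (e : E ≅ E') (h : E.Acyclic) : E'.Acyclic := by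
  intro i
  rw [HomologicalComplex.exactAt_iff_isZero_homology]
  exact IsZero.of_iso ((HomologicalComplex.exactAt_iff_isZero_homology _ _).1 (h i))
    ((HomologicalComplex.homologyFunctor 𝒜 (ComplexShape.up ℤ) i).mapIso e.symm)

lemma acyclic_map (G : 𝒜 ⥤ ℬ) [G.Additive] [G.PreservesHomology] (K : CochainComplex 𝒜 ℤ)
    (h : K.Acyclic) : ((G.mapHomologicalComplex (ComplexShape.up ℤ)).obj K).Acyclic := by
  intro i
  rw [HomologicalComplex.exactAt_iff_isZero_homology]
  exact IsZero.of_iso (G.map_isZero ((HomologicalComplex.exactAt_iff_isZero_homology _ _).1 (h i)))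
    (homologyMapIso G K i)

lemma acyclic_of_acyclic_map (G : 𝒜 ⥤ ℬ) [G.Additive] [G.PreservesHomology] [G.Full] [G.Faithful]
    (K : CochainComplex 𝒜 ℤ)
    (h : ((G.mapHomologicalComplex (ComplexShape.up ℤ)).obj K).Acyclic) : K.Acyclic := by
  intro i
  rw [HomologicalComplex.exactAt_iff_isZero_homology]
  exact IsZero.of_full_of_faithful_of_isZero G _
    (IsZero.of_iso ((HomologicalComplex.exactAt_iff_isZero_homology _ _).1 (h i))
      (homologyMapIso G K i).symm)

end Abelian

section Spec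

open Groth.Agent.Lib.Helper23.QCohLocal
  Groth.Agent.Lib.T2H8.PCohQCoh Groth.Agent.Lib.T2H8.SchLocHtpy

/-- the case of `Spec R` -/
theorem nonempty_homotopy_spec (R : CommRingCat.{u}) (E : CochainComplex (Spec R).Modules ℤ)
    (b : ℤ) (hEb : ∀ i : ℤ, b < i → IsZero (E.X i))
    (hE : ∀ i : ℤ, FlatMod.IsFinLocFree (E.X i)) (hac : E.Acyclic) :
    Nonempty (Homotopy (𝟙 E) 0) := by
  haveI hq : ∀ i, (E.X i).IsQuasicoherent := fun i => isQCoh_of_isFinLocFree _ (hE i)
  haveI : PreservesFiniteLimits (tilde.functor R) := (Groth.Agent.S9498.aux R).1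
  haveI : PreservesFiniteColimits (tilde.functor R) := (Groth.Agent.S9498.aux R).2
  let K : CochainComplex (ModuleCat.{u} R) ℤ :=
    ((ΓF R).mapHomologicalComplex (ComplexShape.up ℤ)).obj E
  haveI hiso : ∀ i, IsIso ((tildeΓAdj R).counit.app (E.X i)) := fun i => isIso_fromTildeΓ (E.X i)
  let ε : ((tilde.functor R).mapHomologicalComplex (ComplexShape.up ℤ)).obj K ≅ E :=
    HomologicalComplex.Hom.isoOfComponents
      (fun i => @asIso _ _ _ _ ((tildeΓAdj R).counit.app (E.X i)) (hiso i))
      (fun i j _ => ((tildeΓAdj R).counit.naturality (E.d i j)).symm)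
  have hK : K.Acyclic := acyclic_of_acyclic_map (tilde.functor R) K (acyclic_of_iso ε.symm hac)
  haveI : ∀ i, Projective (K.X i) := fun i => by
    have h1 : FlatMod.IsFinLocFree (tilde (K.X i)) :=
      isFinLocFree_of_iso (@asIso _ _ _ _ ((tildeΓAdj R).counit.app (E.X i)) (hiso i)).symm (hE i)
    have h2 := ((Groth.Agent.Lib.Helper2.FPAff.isFinLocFree_tilde_iff R (K.X i)).1 h1).2
    exact (IsProjective.iff_projective (R := R) (P := K.X i)).1 h2
  haveI : CochainComplex.IsStrictlyLE K b := by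
    rw [CochainComplex.isStrictlyLE_iff]
    intro i hi
    exact (ΓF R).map_isZero (hEb i hi)
  haveI := CochainComplex.isKProjective_of_projective K b
  exact ⟨homotopyIdZeroOfIso (tilde.functor R) ε
    (CochainComplex.IsKProjective.homotopyZero (𝟙 K) hK)⟩

end Spec

section Affine

open Groth.Agent.Lib.T2H8.SchLocHtpy

/-- S14113: on an affine scheme, a bounded above complex of finite locally free modules is acyclic
if and only if it is contractible -/
theorem main_S14113 {X : Scheme.{u}} [IsAffine X]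
    (E : CochainComplex X.Modules ℤ) (b : ℤ) (hEb : ∀ i : ℤ, b < i → IsZero (E.X i))
    (hE : ∀ i : ℤ, FlatMod.IsFinLocFree (E.X i)) :
    E.Acyclic ↔ Nonempty (Homotopy (𝟙 E) 0) := by
  refine ⟨fun hac => ?_, fun ⟨h⟩ => acyclic_of_homotopy_id_zero E h⟩
  let F := Scheme.Modules.restrictFunctor X.isoSpec.inv
  let G := Scheme.Modules.restrictFunctor X.isoSpec.hom
  let η : F ⋙ G ≅ 𝟭 X.Modules :=
    (Scheme.Modules.restrictFunctorComp X.isoSpec.hom X.isoSpec.inv).symm ≪≫
      Scheme.Modules.restrictFunctorCongr X.isoSpec.hom_inv_id ≪≫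
      Scheme.Modules.restrictFunctorId
  let E' := (F.mapHomologicalComplex (ComplexShape.up ℤ)).obj E
  obtain ⟨h'⟩ := nonempty_homotopy_spec _ E' b (fun i hi => F.map_isZero (hEb i hi))
    (fun i => isFinLocFree_restrict X.isoSpec.inv _ (hE i)) (acyclic_map F E hac)
  let ε : (G.mapHomologicalComplex (ComplexShape.up ℤ)).obj E' ≅ E :=
    HomologicalComplex.Hom.isoOfComponents (fun i => η.app (E.X i))
      (fun i j _ => (η.hom.naturality (E.d i j)).symm)
  exact ⟨homotopyIdZeroOfIso G ε h'⟩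

end Affine

end Groth.Agent.Lib.T2H8.AffContract
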