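import Groth.Agent.Lib.T2H2KtoDA
import Groth.Agent.Lib.T2H8AffContract
import Groth.Agent.Lib.T2H4InvTwist1
import Groth.Agent.S0997

/-!
# On an affine scheme, `Hom_K(E, F) = Hom_D(E, F)` for `E` bounded above finite locally free and
`F` termwise quasi-coherent (T2H2)
-/

set_option autoImplicit false
set_option linter.style.haveILetI false
universe u
open CategoryTheory CategoryTheory.Limits AlgebraicGeometry Opposite

attribute [local instance] HasDerivedCategory.standard

namespace Groth.Agent.Lib.T2H2.KtoD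

open Groth.Agent.Lib.Helper23.QCohLocal Groth.Agent.Lib.T2H8.PCohQCoh
  Groth.Agent.Lib.T2H8.SchLocHtpy Groth.Agent.Lib.T2H8.AffContract

/-- the case of `Spec R` -/
theorem qhBij_spec (R : CommRingCat.{u}) (E F : CochainComplex (Spec R).Modules ℤ)
    (b : ℤ) (hEb : ∀ i : ℤ, b < i → IsZero (E.X i))
    (hE : ∀ i : ℤ, FlatMod.IsFinLocFree (E.X i)) (hF : ∀ i : ℤ, (F.X i).IsQuasicoherent) :
    QhBij E F := by
  haveI hq : ∀ i, (E.X i).IsQuasicoherent := fun i => isQCoh_of_isFinLocFree _ (hE i)
  haveI := hF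
  haveI : PreservesFiniteLimits (tilde.functor R) := (Groth.Agent.S9498.aux R).1
  haveI : PreservesFiniteColimits (tilde.functor R) := (Groth.Agent.S9498.aux R).2
  let K : CochainComplex (ModuleCat.{u} R) ℤ :=
    ((ΓF R).mapHomologicalComplex (ComplexShape.up ℤ)).obj E
  let N : CochainComplex (ModuleCat.{u} R) ℤ :=
    ((ΓF R).mapHomologicalComplex (ComplexShape.up ℤ)).obj F
  haveI hiso : ∀ i, IsIso ((tildeΓAdj R).counit.app (E.X i)) := fun i => isIso_fromTildeΓ (E.X i)
  haveI hiso' : ∀ i, IsIso ((tildeΓAdj R).counit.app (F.X i)) := fun i => isIso_fromTildeΓ (F.X i)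
  let ε : ((tilde.functor R).mapHomologicalComplex (ComplexShape.up ℤ)).obj K ≅ E :=
    HomologicalComplex.Hom.isoOfComponents
      (fun i => @asIso _ _ _ _ ((tildeΓAdj R).counit.app (E.X i)) (hiso i))
      (fun i j _ => ((tildeΓAdj R).counit.naturality (E.d i j)).symm)
  let ε' : ((tilde.functor R).mapHomologicalComplex (ComplexShape.up ℤ)).obj N ≅ F :=
    HomologicalComplex.Hom.isoOfComponents
      (fun i => @asIso _ _ _ _ ((tildeΓAdj R).counit.app (F.X i)) (hiso' i))
      (fun i j _ => ((tildeΓAdj R).counit.naturality (F.d i j)).symm)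
  haveI : ∀ i, Projective (K.X i) := fun i => by
    have h1 : FlatMod.IsFinLocFree (tilde (K.X i)) :=
      isFinLocFree_of_iso (@asIso _ _ _ _ ((tildeΓAdj R).counit.app (E.X i)) (hiso i)).symm (hE i)
    have h2 := ((Groth.Agent.Lib.Helper2.FPAff.isFinLocFree_tilde_iff R (K.X i)).1 h1).2
    exact (IsProjective.iff_projective (R := R) (P := K.X i)).1 h2
  haveI : CochainComplex.IsStrictlyLE K b := by
    rw [CochainComplex.isStrictlyLE_iff]
    intro i hi
    exact (ΓF R).map_isZero (hEb i hi)
  haveI := CochainComplex.isKProjective_of_projective K b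
  have h0 : QhBij K N := qhBij_of_isKProjective K N
  haveI : (tilde.functor R).mapDerivedCategory.Full := (Groth.Agent.S0997.result R).1
  haveI : (tilde.functor R).mapDerivedCategory.Faithful := (Groth.Agent.S0997.result R).2.1
  exact qhBij_of_iso ε ε' (qhBij_map (tilde.functor R) h0)

/-- S14112: on an affine scheme, homotopy classes of maps from a bounded above complex of finite
locally free modules to a complex of quasi-coherent modules are the morphisms in the derived
category. -/
theorem qhBij_affine {X : Scheme.{u}} [IsAffine X]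
    (E F : CochainComplex X.Modules ℤ) (b : ℤ) (hEb : ∀ i : ℤ, b < i → IsZero (E.X i))
    (hE : ∀ i : ℤ, FlatMod.IsFinLocFree (E.X i)) (hF : ∀ i : ℤ, (F.X i).IsQuasicoherent) :
    QhBij E F := by
  let Φ := Scheme.Modules.restrictFunctor X.isoSpec.inv
  let Ψ := Scheme.Modules.restrictFunctor X.isoSpec.hom
  let η : Φ ⋙ Ψ ≅ 𝟭 X.Modules :=
    (Scheme.Modules.restrictFunctorComp X.isoSpec.hom X.isoSpec.inv).symm ≪≫
      Scheme.Modules.restrictFunctorCongr X.isoSpec.hom_inv_id ≪≫
      Scheme.Modules.restrictFunctorId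
  let η' : Ψ ⋙ Φ ≅ 𝟭 _ :=
    (Scheme.Modules.restrictFunctorComp X.isoSpec.inv X.isoSpec.hom).symm ≪≫
      Scheme.Modules.restrictFunctorCongr X.isoSpec.inv_hom_id ≪≫
      Scheme.Modules.restrictFunctorId
  let eqv : (Spec Γ(X, ⊤)).Modules ≌ X.Modules := CategoryTheory.Equivalence.mk Ψ Φ η'.symm η
  haveI : Ψ.IsEquivalence := eqv.isEquivalence_functor
  haveI : Φ.IsEquivalence := eqv.isEquivalence_inverse
  haveI : PreservesFiniteLimits Ψ := inferInstance
  haveI : PreservesFiniteColimits Ψ := inferInstance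
  haveI : PreservesFiniteLimits Φ := inferInstance
  haveI : PreservesFiniteColimits Φ := inferInstance
  haveI : Ψ.mapDerivedCategory.IsEquivalence := isEquivalence_mapDerivedCategory Ψ Φ η' η
  let E' := (Φ.mapHomologicalComplex (ComplexShape.up ℤ)).obj E
  let F' := (Φ.mapHomologicalComplex (ComplexShape.up ℤ)).obj F
  have h0 : QhBij E' F' := qhBij_spec _ E' F' b (fun i hi => Φ.map_isZero (hEb i hi))
    (fun i => isFinLocFree_restrict X.isoSpec.inv _ (hE i))
    (fun i => by
      haveI := hF i
      exact Scheme.Modules.isQuasicoherent_restrictFunctor X.isoSpec.inv (F.X i))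
  let ε : (Ψ.mapHomologicalComplex (ComplexShape.up ℤ)).obj E' ≅ E :=
    HomologicalComplex.Hom.isoOfComponents (fun i => η.app (E.X i))
      (fun i j _ => (η.hom.naturality (E.d i j)).symm)
  let ε' : (Ψ.mapHomologicalComplex (ComplexShape.up ℤ)).obj F' ≅ F :=
    HomologicalComplex.Hom.isoOfComponents (fun i => η.app (F.X i))
      (fun i j _ => (η.hom.naturality (F.d i j)).symm)
  exact qhBij_of_iso ε ε' (qhBij_map Ψ h0)

end Groth.Agent.Lib.T2H2.KtoD
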