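import Mathlib
import Groth.Prelude.Def_ega3
import Groth.Agent.Lib.T2H2KzSwap
import Groth.Agent.Lib.T2H2KzCechD

/-!
# Permutation invariance of the Koszul complex and Koszul-regularity of powers (helper2)

* `nonempty_koszulCx_iso_of_perm` : `koszulCx M l₁ ≅ koszulCx M l₂` for `l₁ ~ l₂`;
* `isZero_cone_iff` : `H^i(cone (x on C)) = 0` iff `x` is surjective on `H^i(C)` and injective on `H^{i+1}(C)`;
* `KAcyc M l` : the Koszul complex `koszulCx M l` is acyclic off degree `0`; `KAcyc.perm`, `KAcyc.map_pow`.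
-/

set_option autoImplicit false

universe u

open CategoryTheory CochainComplex HomComplex Limits CohIII

namespace Groth.Agent.Lib.T2H2.KzPerm

open Groth.Agent.Lib.T2H2.KzSwap Groth.Agent.Lib.T2H2.KzCech Groth.Agent.Lib.Helper21

variable {A : Type u} [CommRing A]

theorem nonempty_koszulCx_iso_of_perm (M : ModuleCat.{u} A) {l₁ l₂ : List A} (h : l₁.Perm l₂) :
    Nonempty (koszulCx M l₁ ≅ koszulCx M l₂) := by
  induction h with
  | nil => exact ⟨Iso.refl _⟩
  | cons x _ ih =>
    obtain ⟨e⟩ := ih
    exact ⟨coneMapIso (x • 𝟙 _) (x • 𝟙 _) e e (by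
      simp only [Linear.smul_comp, Linear.comp_smul, Category.id_comp, Category.comp_id])⟩
  | swap x y l => exact ⟨swapIso (koszulCx M l) y x⟩
  | trans _ _ ih1 ih2 =>
    obtain ⟨e1⟩ := ih1
    obtain ⟨e2⟩ := ih2
    exact ⟨e1 ≪≫ e2⟩

section ConeIff

variable (C : CochainComplex (ModuleCat.{u} A) ℤ) (x : A) (i : ℤ)

theorem isZero_cone_iff :
    IsZero ((mappingCone (x • 𝟙 C)).homology i) ↔
      (Function.Surjective (fun z : C.homology i => x • z)) ∧
        Function.Injective (fun z : C.homology (i + 1) => x • z) := by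
  rw [ModuleCat.isZero_iff_subsingleton]
  constructor
  · intro hs
    constructor
    · intro y
      obtain ⟨z, hz⟩ := exists_of_exact _ (cone_homology_exact₂ (x • 𝟙 C) i) y
        (Subsingleton.elim _ _)
      refine ⟨z, ?_⟩
      rw [← hz]
      exact (homologyMap_smul_id_apply C x i z).symm
    · have key : ∀ z : C.homology (i + 1), x • z = 0 → z = 0 := by
        intro z hz
        obtain ⟨w, hw⟩ := exists_of_exact _ (cone_homology_exact₁ (x • 𝟙 C) i (i + 1) rfl) z (by
          change (HomologicalComplex.homologyMap (x • 𝟙 C) (i + 1)).hom z = 0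
          rw [homologyMap_smul_id_apply]
          exact hz)
        rw [← hw, Subsingleton.elim w 0, map_zero]
      intro a b hab
      have hab' : x • a = x • b := hab
      have h0 := key (a - b) (by rw [smul_sub, hab', sub_self])
      exact sub_eq_zero.mp h0
  · rintro ⟨hs, hi⟩
    refine ⟨fun w w' => ?_⟩
    have key : ∀ w : (mappingCone (x • 𝟙 C)).homology i, w = 0 := by
      intro w
      have h1 : (coneδ (x • 𝟙 C) i (i + 1) rfl).hom w = 0 := by
        apply hi
        change x • (coneδ (x • 𝟙 C) i (i + 1) rfl).hom w = x • (0 : C.homology (i + 1))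
        rw [smul_zero, ← homologyMap_smul_id_apply]
        exact elem_of_comp_zero (coneδ_comp (x • 𝟙 C) i (i + 1) rfl) w
      obtain ⟨y, hy⟩ := exists_of_exact _ (cone_homology_exact₃ (x • 𝟙 C) i (i + 1) rfl) w h1
      obtain ⟨y', hy'⟩ := hs y
      rw [← hy, ← hy']
      change (HomologicalComplex.homologyMap (mappingCone.inr (x • 𝟙 C)) i).hom (x • y') = 0
      rw [← homologyMap_smul_id_apply]
      exact elem_of_comp_zero (cone_homologyMap_comp (x • 𝟙 C) i) y'
    rw [key w, key w']

theorem isZero_cone_pow (n : ℕ)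
    (h : IsZero ((mappingCone (x • 𝟙 C)).homology i)) :
    IsZero ((mappingCone (x ^ n • 𝟙 C)).homology i) := by
  rw [isZero_cone_iff] at h ⊢
  obtain ⟨hs, hi⟩ := h
  have hs' : ∀ k : ℕ, Function.Surjective (fun z : C.homology i => x ^ k • z) := by
    intro k
    induction k with
    | zero => intro y; exact ⟨y, by simp⟩
    | succ k ih =>
      intro y
      obtain ⟨y1, hy1⟩ := hs y
      obtain ⟨y2, hy2⟩ := ih y1
      refine ⟨y2, ?_⟩
      change x ^ (k + 1) • y2 = y
      rw [pow_succ', mul_smul]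
      rw [← hy1]
      exact congrArg (fun t => x • t) hy2
  have hi' : ∀ k : ℕ, Function.Injective (fun z : C.homology (i + 1) => x ^ k • z) := by
    intro k
    induction k with
    | zero => intro a b hab; simpa using hab
    | succ k ih =>
      intro a b hab
      apply ih
      apply hi
      change x • x ^ k • a = x • x ^ k • b
      rw [← mul_smul, ← mul_smul, ← pow_succ']
      exact hab
  exact ⟨hs' n, hi' n⟩

end ConeIff

/-- the Koszul complex of `M` on `l` is acyclic off degree `0` -/
def KAcyc (M : ModuleCat.{u} A) (l : List A) : Prop :=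
  ∀ i : ℤ, i ≠ 0 → IsZero ((koszulCx M l).homology i)

theorem KAcyc.perm {M : ModuleCat.{u} A} {l₁ l₂ : List A} (h : l₁.Perm l₂) (h1 : KAcyc M l₁) :
    KAcyc M l₂ := by
  obtain ⟨e⟩ := nonempty_koszulCx_iso_of_perm M h
  intro i hi
  exact IsZero.of_iso (h1 i hi) ((HomologicalComplex.homologyFunctor _ _ i).mapIso e.symm)

theorem KAcyc.head_pow {M : ModuleCat.{u} A} {f : A} {l : List A} (h : KAcyc M (f :: l)) (n : ℕ) :
    KAcyc M (f ^ n :: l) := by
  intro i hi
  exact isZero_cone_pow (koszulCx M l) f i n (h i hi)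

theorem KAcyc.middle_pow {M : ModuleCat.{u} A} {f : A} {pre suf : List A}
    (h : KAcyc M (pre ++ f :: suf)) (n : ℕ) : KAcyc M (pre ++ f ^ n :: suf) :=
  ((h.perm List.perm_middle).head_pow n).perm List.perm_middle.symm

theorem KAcyc.append_map_pow {M : ModuleCat.{u} A} (n : ℕ) :
    ∀ (suf pre : List A), KAcyc M (pre ++ suf) → KAcyc M (pre ++ suf.map (· ^ n))
  | [], pre, h => h
  | f :: suf, pre, h => by
    have h1 := h.middle_pow n
    have h2 : KAcyc M ((pre ++ [f ^ n]) ++ suf) := by
      rw [List.append_assoc]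
      exact h1
    have h3 := KAcyc.append_map_pow n suf (pre ++ [f ^ n]) h2
    rw [List.append_assoc] at h3
    exact h3

theorem KAcyc.map_pow {M : ModuleCat.{u} A} {l : List A} (h : KAcyc M l) (n : ℕ) :
    KAcyc M (l.map (· ^ n)) :=
  KAcyc.append_map_pow n l [] h

end Groth.Agent.Lib.T2H2.KzPerm
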