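import Mathlib
import Groth.Prelude.Def_ega3
import Groth.Agent.Lib.Helper13KzTor
import Groth.Agent.Lib.T2H2KzCechC
import Groth.Agent.Lib.T2H2ConeNat

/-!
# The top direct-limit Koszul cohomology as `colim_n M/(f^n)M` (helper2)

For a list `fs` and a module `M`, `H^0(K(fs^n; M)) = M/(fs^n)M` through `Helper13Kz.aug`, and the transition
map of the powers corresponds to multiplication by `(∏ fs)^(m-n)`.
-/

set_option autoImplicit false

universe u

open CategoryTheory CochainComplex CohIII Pointwise

namespace Groth.Agent.Lib.T2H2.KzPoly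

open Groth.Agent.Helper13Kz Groth.Agent.Lib.T2H2.KzCech Groth.Agent.Lib.T2H2.ConeNat
open Groth.Agent.Lib.Helper21

variable {A : Type u} [CommRing A] (M : ModuleCat.{u} A)

/-- the augmentation is compatible with the transition maps of the powers -/
theorem aug_trans (n m : ℕ) (h : n ≤ m) : ∀ fs : List A,
    aug M (fs.map (· ^ n)) ≫ HomologicalComplex.homologyMap (koszulTrans M n m h fs) 0 =
      fs.prod ^ (m - n) • aug M (fs.map (· ^ m))
  | [] => by
    change aug M [] ≫ HomologicalComplex.homologyMap (𝟙 _) 0 = _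
    rw [HomologicalComplex.homologyMap_id, Category.comp_id, List.prod_nil, one_pow, one_smul]
    rfl
  | f :: fs => by
    have ih := aug_trans n m h fs
    change (aug M (fs.map (· ^ n)) ≫ HomologicalComplex.homologyMap
      (mappingCone.inr (f ^ n • 𝟙 (koszulCx M (fs.map (· ^ n))))) 0) ≫
      HomologicalComplex.homologyMap (mappingCone.map (f ^ n • 𝟙 (koszulCx M (fs.map (· ^ n))))
      (f ^ m • 𝟙 (koszulCx M (fs.map (· ^ m)))) (koszulTrans M n m h fs)
      (f ^ (m - n) • koszulTrans M n m h fs) (comm1 _ f (fun n m h => koszulTrans M n m h fs) n m h)) 0 =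
      (f :: fs).prod ^ (m - n) • (aug M (fs.map (· ^ m)) ≫ HomologicalComplex.homologyMap
      (mappingCone.inr (f ^ m • 𝟙 (koszulCx M (fs.map (· ^ m))))) 0)
    rw [Category.assoc, homologyMap_inr_map, homologyMap_smul', Linear.smul_comp, Linear.comp_smul,
      ← Category.assoc, ih, Linear.smul_comp, smul_smul, List.prod_cons, mul_pow]

/-- the direct system of the degree-`j` Koszul cohomologies of the powers -/
abbrev G (fs : List A) (j : ℤ) (n : ℕ) : Type u := (koszulCx M (fs.map (· ^ n))).homology j

/-- its transition maps -/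
noncomputable abbrev T (fs : List A) (j : ℤ) (n m : ℕ) (h : n ≤ m) : G M fs j n →ₗ[A] G M fs j m :=
  (HomologicalComplex.homologyMap (koszulTrans M n m h fs) j).hom

instance directedSystem (fs : List A) (j : ℤ) :
    DirectedSystem (G M fs j) (fun n m h => T M fs j n m h) where
  map_self n x := by
    change (HomologicalComplex.homologyMap (koszulTrans M n n le_rfl fs) j).hom x = x
    rw [koszulTrans_self, HomologicalComplex.homologyMap_id]
    rfl
  map_map c b a hab hbc x := by
    change (HomologicalComplex.homologyMap (koszulTrans M b c hbc fs) j).hom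
      ((HomologicalComplex.homologyMap (koszulTrans M a b hab fs) j).hom x) =
      (HomologicalComplex.homologyMap (koszulTrans M a c (hab.trans hbc) fs) j).hom x
    exact elem_of_comp_eq' (by rw [← HomologicalComplex.homologyMap_comp, koszulTrans_trans]) x

/-- the direct limit -/
abbrev DL (fs : List A) (j : ℤ) : Type u := Module.DirectLimit (G M fs j) (T M fs j)

/-- the class of `p : M` at level `n` in the top direct limit -/
noncomputable def cls (fs : List A) (n : ℕ) (p : M) : DL M fs 0 :=
  Module.DirectLimit.of A ℕ (G M fs 0) (T M fs 0) n ((aug M (fs.map (· ^ n))).hom p)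

lemma cls_add (fs : List A) (n : ℕ) (p q : M) : cls M fs n (p + q) = cls M fs n p + cls M fs n q := by
  simp [cls]

lemma cls_smul (fs : List A) (n : ℕ) (a : A) (p : M) : cls M fs n (a • p) = a • cls M fs n p := by
  simp [cls]

lemma cls_zero (fs : List A) (n : ℕ) : cls M fs n 0 = 0 := by
  simp [cls]

lemma exists_cls (fs : List A) (z : DL M fs 0) : ∃ n p, z = cls M fs n p := by
  obtain ⟨n, x, rfl⟩ := Module.DirectLimit.exists_of z
  obtain ⟨p, rfl⟩ := aug_surjective M (fs.map (· ^ n)) x
  exact ⟨n, p, rfl⟩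

lemma aug_trans_apply (fs : List A) (n m : ℕ) (h : n ≤ m) (p : M) :
    T M fs 0 n m h ((aug M (fs.map (· ^ n))).hom p) =
      (aug M (fs.map (· ^ m))).hom (fs.prod ^ (m - n) • p) := by
  have e := elem_of_comp_eq' (aug_trans M n m h fs) p
  rw [map_smul]
  exact e

lemma cls_eq_cls (fs : List A) (n m : ℕ) (h : n ≤ m) (p : M) :
    cls M fs n p = cls M fs m (fs.prod ^ (m - n) • p) := by
  unfold cls
  rw [← aug_trans_apply M fs n m h p]
  exact (Module.DirectLimit.of_f (hij := h)).symm

lemma cls_eq_zero_of_mem (fs : List A) (n : ℕ) (p : M)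
    (hp : p ∈ Ideal.ofList (fs.map (· ^ n)) • (⊤ : Submodule A M)) : cls M fs n p = 0 := by
  unfold cls
  rw [← aug_ker, LinearMap.mem_ker] at hp
  rw [hp, map_zero]

lemma exists_mem_of_cls_eq_zero (fs : List A) (n : ℕ) (p : M) (hp : cls M fs n p = 0) :
    ∃ m, n ≤ m ∧ fs.prod ^ (m - n) • p ∈ Ideal.ofList (fs.map (· ^ m)) • (⊤ : Submodule A M) := by
  obtain ⟨m, hnm, h0⟩ := Module.DirectLimit.of.zero_exact hp
  refine ⟨m, hnm, ?_⟩
  rw [← aug_ker, LinearMap.mem_ker, ← aug_trans_apply M fs n m hnm p]
  exact h0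

end Groth.Agent.Lib.T2H2.KzPoly
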