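import Mathlib
import Groth.Prelude.Def_ega3
import Groth.Agent.Lib.T2H2KzPoly1
import Groth.Agent.Lib.T2H2KzPerm

/-!
# Direct-limit Koszul cohomology of the variables of a polynomial ring (helper2)
-/

set_option autoImplicit false

universe u

open CategoryTheory CochainComplex CohIII Pointwise MvPolynomial

namespace Groth.Agent.Lib.T2H2.KzPoly

open Groth.Agent.Helper13Kz Groth.Agent.Lib.T2H2.KzCech Groth.Agent.Lib.T2H2.KzPerm

variable (A : Type u) [CommRing A] (r : ℕ)

/-- the polynomial ring -/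
abbrev Sr : Type u := MvPolynomial (Fin (r + 1)) A

/-- the list of variables -/
noncomputable abbrev xs : List (Sr A r) :=
  List.ofFn (fun j : Fin (r + 1) => (MvPolynomial.X j : Sr A r))

lemma mem_ofList_take_smul_top (i : ℕ) (q : Sr A r) :
    q ∈ (Ideal.ofList ((xs A r).take i) • ⊤ : Submodule (Sr A r) (Sr A r)) ↔
      ∀ m ∈ q.support, ∃ j : Fin (r + 1), j.val < i ∧ m j ≠ 0 := by
  have h1 : (Ideal.ofList ((xs A r).take i) • ⊤ : Submodule (Sr A r) (Sr A r)) =
      Ideal.span (MvPolynomial.X '' {j : Fin (r + 1) | j.val < i}) := by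
    rw [smul_eq_mul, Ideal.mul_top]
    unfold Ideal.ofList
    congr 1
    ext x
    simp only [Set.mem_ofPred_eq, Set.mem_image]
    rw [List.mem_take_iff_getElem]
    constructor
    · rintro ⟨k, hk, rfl⟩
      simp only [List.length_ofFn, lt_inf_iff] at hk
      refine ⟨⟨k, hk.2⟩, hk.1, ?_⟩
      exact (List.getElem_ofFn ..).symm
    · rintro ⟨j, hj, rfl⟩
      refine ⟨j.val, ?_, ?_⟩
      · simp only [List.length_ofFn, lt_inf_iff]
        exact ⟨hj, j.isLt⟩
      · exact List.getElem_ofFn ..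
  rw [h1, MvPolynomial.mem_ideal_span_X_image]
  constructor
  · intro h m hm
    obtain ⟨j, hj, hmj⟩ := h m hm
    exact ⟨j, hj, hmj⟩
  · intro h m hm
    obtain ⟨j, hj, hmj⟩ := h m hm
    exact ⟨j, hj, hmj⟩

theorem isWeaklyRegular_xs : RingTheory.Sequence.IsWeaklyRegular (Sr A r) (xs A r) := by
  refine ⟨fun i hi => ?_⟩
  rw [isSMulRegular_quotient_iff_mem_of_smul_mem]
  intro p hp
  rw [mem_ofList_take_smul_top] at hp ⊢
  have hi' : i < r + 1 := by simpa using hi
  have hx : (xs A r)[i] = (MvPolynomial.X ⟨i, hi'⟩ : Sr A r) := List.getElem_ofFn ..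
  rw [hx] at hp
  intro m hm
  have hm' : m + Finsupp.single (⟨i, hi'⟩ : Fin (r + 1)) 1 ∈
      ((MvPolynomial.X ⟨i, hi'⟩ : Sr A r) • p).support := by
    rw [MvPolynomial.mem_support_iff, smul_eq_mul, mul_comm, MvPolynomial.coeff_mul_X]
    exact MvPolynomial.mem_support_iff.mp hm
  obtain ⟨j, hj, hmj⟩ := hp _ hm'
  refine ⟨j, hj, ?_⟩
  have hne : (⟨i, hi'⟩ : Fin (r + 1)) ≠ j := by
    intro h
    rw [← h] at hj
    exact lt_irrefl _ hj
  rw [Finsupp.add_apply, Finsupp.single_eq_of_ne' hne, add_zero] at hmj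
  exact hmj

theorem kacyc_xs : KAcyc (ModuleCat.of (Sr A r) (Sr A r)) (xs A r) :=
  isZero_KH_of_weaklyRegular (xs A r) (ModuleCat.of (Sr A r) (Sr A r)) (isWeaklyRegular_xs A r)

lemma mem_ofList_pow_smul_top (n : ℕ) (q : Sr A r) :
    q ∈ (Ideal.ofList ((xs A r).map (· ^ n)) • ⊤ : Submodule (Sr A r) (Sr A r)) ↔
      ∀ m ∈ q.support, ∃ j : Fin (r + 1), n ≤ m j := by
  have h1 : (Ideal.ofList ((xs A r).map (· ^ n)) • ⊤ : Submodule (Sr A r) (Sr A r)) =
      Ideal.span ((fun s => MvPolynomial.monomial s (1 : A)) ''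
        {s : Fin (r + 1) →₀ ℕ | ∃ j, s = Finsupp.single j n}) := by
    rw [smul_eq_mul, Ideal.mul_top]
    unfold Ideal.ofList
    congr 1
    ext x
    simp only [Set.mem_ofPred_eq, Set.mem_image, List.mem_map, List.mem_ofFn]
    constructor
    · rintro ⟨_, ⟨j, rfl⟩, rfl⟩
      exact ⟨Finsupp.single j n, ⟨j, rfl⟩, (MvPolynomial.X_pow_eq_monomial).symm⟩
    · rintro ⟨_, ⟨j, rfl⟩, rfl⟩
      exact ⟨MvPolynomial.X j, ⟨j, rfl⟩, MvPolynomial.X_pow_eq_monomial⟩
  rw [h1, MvPolynomial.mem_ideal_span_monomial_image]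
  constructor
  · intro h m hm
    obtain ⟨_, ⟨j, rfl⟩, hle⟩ := h m hm
    exact ⟨j, by simpa using hle j⟩
  · intro h m hm
    obtain ⟨j, hj⟩ := h m hm
    refine ⟨Finsupp.single j n, ⟨j, rfl⟩, ?_⟩
    intro k
    by_cases hk : k = j
    · subst hk; simpa using hj
    · rw [Finsupp.single_eq_of_ne hk]; exact Nat.zero_le _

section Mon

variable {r}

/-- the exponent vector `i ↦ n - 1 - b i` -/
noncomputable def sh (n : ℕ) (b : Fin (r + 1) →₀ ℕ) : Fin (r + 1) →₀ ℕ :=
  Finsupp.equivFunOnFinite.symm (fun i => n - 1 - b i)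

@[simp] lemma sh_apply (n : ℕ) (b : Fin (r + 1) →₀ ℕ) (i : Fin (r + 1)) :
    sh n b i = n - 1 - b i := rfl

variable (r) in
/-- the exponent vector `(1, …, 1)` -/
noncomputable def ones : Fin (r + 1) →₀ ℕ := Finsupp.equivFunOnFinite.symm (fun _ => 1)

@[simp] lemma ones_apply (i : Fin (r + 1)) : ones r i = 1 := rfl

lemma sh_sh (n : ℕ) (e : Fin (r + 1) →₀ ℕ) (he : ∀ i, e i < n) : sh n (sh n e) = e := by
  ext i
  have := he i
  simp only [sh_apply]
  omega

lemma sh_lt (n : ℕ) (hn : 0 < n) (b : Fin (r + 1) →₀ ℕ) (i : Fin (r + 1)) : sh n b i < n := by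
  simp only [sh_apply]
  omega

lemma sh_injOn (n : ℕ) {b b' : Fin (r + 1) →₀ ℕ} (hb : ∀ i, b i < n) (hb' : ∀ i, b' i < n)
    (h : sh n b = sh n b') : b = b' := by
  ext i
  have h1 := DFunLike.congr_fun h i
  have := hb i
  have := hb' i
  simp only [sh_apply] at h1
  omega

lemma smul_ones_add_sh (n k : ℕ) (b : Fin (r + 1) →₀ ℕ) (hb : ∀ i, b i < n) :
    k • ones r + sh n b = sh (n + k) b := by
  ext i
  have := hb i
  simp only [Finsupp.add_apply, Finsupp.smul_apply, ones_apply, sh_apply, smul_eq_mul, mul_one]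
  omega

lemma prod_xs : (xs A r).prod = MvPolynomial.monomial (ones r) (1 : A) := by
  rw [List.prod_ofFn, MvPolynomial.monomial_eq, Finsupp.prod_fintype _ _ (fun i => pow_zero _)]
  simp

lemma prod_pow_smul_monomial (n k : ℕ) (b : Fin (r + 1) →₀ ℕ) (hb : ∀ i, b i < n) (a : A) :
    (xs A r).prod ^ k • (MvPolynomial.monomial (sh n b) a : Sr A r) =
      MvPolynomial.monomial (sh (n + k) b) a := by
  rw [prod_xs, MvPolynomial.monomial_pow, one_pow, smul_eq_mul, MvPolynomial.monomial_mul, one_mul,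
    smul_ones_add_sh n k b hb]

end Mon

section Free

/-- the module `S` over itself -/
noncomputable abbrev MS : ModuleCat.{u} (Sr A r) := ModuleCat.of (Sr A r) (Sr A r)

/-- the top direct-limit Koszul cohomology (index `0`) -/
abbrev L : Type u := DL (MS A r) (xs A r) 0

/-- the class map at level `n`, as a linear map -/
noncomputable def clsL (n : ℕ) : Sr A r →ₗ[Sr A r] L A r :=
  Module.DirectLimit.of (Sr A r) ℕ (G (MS A r) (xs A r) 0) (T (MS A r) (xs A r) 0) n ∘ₗ
    (aug (MS A r) ((xs A r).map (· ^ n))).hom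

lemma clsL_apply (n : ℕ) (p : Sr A r) : clsL A r n p = cls (MS A r) (xs A r) n p := rfl

/-- a bound for the entries of `b` -/
noncomputable def bd (b : Fin (r + 1) →₀ ℕ) : ℕ := Finset.univ.sup b + 1

lemma lt_bd (b : Fin (r + 1) →₀ ℕ) (i : Fin (r + 1)) : b i < bd r b :=
  Nat.lt_succ_of_le (Finset.le_sup (f := b) (Finset.mem_univ i))

/-- the basis vectors -/
noncomputable def v (b : Fin (r + 1) →₀ ℕ) : L A r :=
  clsL A r (bd r b) (MvPolynomial.monomial (sh (bd r b) b) 1)

lemma clsL_monomial_shift (n m : ℕ) (h : n ≤ m) (b : Fin (r + 1) →₀ ℕ) (hb : ∀ i, b i < n) (a : A) :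
    clsL A r n (MvPolynomial.monomial (sh n b) a) = clsL A r m (MvPolynomial.monomial (sh m b) a) := by
  rw [clsL_apply, clsL_apply, cls_eq_cls (MS A r) (xs A r) n m h]
  congr 1
  have := prod_pow_smul_monomial A n (m - n) b hb a
  rw [Nat.add_sub_cancel' h] at this
  exact this

lemma v_eq (b : Fin (r + 1) →₀ ℕ) (n : ℕ) (hn : ∀ i, b i < n) :
    v A r b = clsL A r n (MvPolynomial.monomial (sh n b) 1) := by
  unfold v
  rw [clsL_monomial_shift A r (bd r b) (max n (bd r b)) (le_max_right _ _) b (lt_bd r b),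
    clsL_monomial_shift A r n (max n (bd r b)) (le_max_left _ _) b hn]

/-- the `A`-module structure on `L` -/
@[reducible] noncomputable def modA : Module A (L A r) := Module.compHom (L A r) (algebraMap A (Sr A r))

lemma clsL_eq_zero_of_bad (n : ℕ) (e : Fin (r + 1) →₀ ℕ) (he : ∃ j, n ≤ e j) (a : A) :
    clsL A r n (MvPolynomial.monomial e a) = 0 := by
  rw [clsL_apply]
  apply cls_eq_zero_of_mem
  rw [mem_ofList_pow_smul_top]
  intro m hm
  have := MvPolynomial.support_monomial_subset hm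
  rw [Finset.mem_singleton] at this
  rw [this]
  exact he

end Free

section Psi

attribute [local instance] modA

lemma smul_def' (a : A) (x : L A r) : a • x = (MvPolynomial.C a : Sr A r) • x := rfl

/-- the comparison map from the free module on the exponent vectors -/
noncomputable def Ψ : ((Fin (r + 1) →₀ ℕ) →₀ A) →ₗ[A] L A r := Finsupp.linearCombination A (v A r)

lemma smul_v (a : A) (b : Fin (r + 1) →₀ ℕ) (n : ℕ) (hn : ∀ i, b i < n) :
    a • v A r b = clsL A r n (MvPolynomial.monomial (sh n b) a) := by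
  rw [smul_def', v_eq A r b n hn, ← map_smul, smul_eq_mul, MvPolynomial.C_mul_monomial, mul_one]

/-- the polynomial `∑ c_b X^(n-1-b)` -/
noncomputable def poly (n : ℕ) (c : (Fin (r + 1) →₀ ℕ) →₀ A) : Sr A r :=
  c.sum (fun b a => MvPolynomial.monomial (sh n b) a)

lemma Ψ_apply (c : (Fin (r + 1) →₀ ℕ) →₀ A) (n : ℕ) (hn : ∀ b ∈ c.support, ∀ i, b i < n) :
    Ψ A r c = clsL A r n (poly A r n c) := by
  unfold Ψ poly
  rw [Finsupp.linearCombination_apply, Finsupp.sum, Finsupp.sum, map_sum]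
  exact Finset.sum_congr rfl (fun b hb => smul_v A r (c b) b n (hn b hb))

lemma Ψ_injective : Function.Injective (Ψ A r) := by
  rw [← LinearMap.ker_eq_bot, LinearMap.ker_eq_bot']
  intro c hc
  have hn : ∀ b ∈ c.support, ∀ i, b i < c.support.sup (bd r) :=
    fun b hb i => lt_of_lt_of_le (lt_bd r b i) (Finset.le_sup (f := bd r) hb)
  rw [Ψ_apply A r c _ hn, clsL_apply] at hc
  obtain ⟨m, hnm, hmem⟩ := exists_mem_of_cls_eq_zero _ _ _ _ hc
  have e : (xs A r).prod ^ (m - c.support.sup (bd r)) • poly A r (c.support.sup (bd r)) c =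
      poly A r m c := by
    unfold poly
    rw [Finsupp.sum, Finsupp.sum, Finset.smul_sum]
    apply Finset.sum_congr rfl
    intro b hb
    have := prod_pow_smul_monomial A (c.support.sup (bd r)) (m - c.support.sup (bd r)) b
      (hn b hb) (c b)
    rwa [Nat.add_sub_cancel' hnm] at this
  rw [e, mem_ofList_pow_smul_top] at hmem
  have hm : ∀ b ∈ c.support, ∀ i, b i < m := fun b hb i => lt_of_lt_of_le (hn b hb i) hnm
  ext b
  by_contra hb
  have hb' : b ∈ c.support := Finsupp.mem_support_iff.mpr hb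
  have hcoeff : MvPolynomial.coeff (sh m b) (poly A r m c) = c b := by
    unfold poly
    rw [Finsupp.sum, MvPolynomial.coeff_sum, Finset.sum_eq_single b]
    · simp
    · intro b'' hb'' hne
      rw [MvPolynomial.coeff_monomial, if_neg]
      intro h
      exact hne (sh_injOn m (hm b'' hb'') (hm b hb') h)
    · intro h
      exact absurd hb' h
  have hs : sh m b ∈ (poly A r m c).support := by
    rw [MvPolynomial.mem_support_iff, hcoeff]
    exact hb
  obtain ⟨j, hj⟩ := hmem _ hs
  have h1 := hm b hb' j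
  have h2 : sh m b j < m := sh_lt m (by omega) b j
  omega

lemma Ψ_surjective : Function.Surjective (Ψ A r) := by
  intro z
  obtain ⟨n, p, rfl⟩ := exists_cls (MS A r) (xs A r) z
  rw [← clsL_apply, ← LinearMap.mem_range]
  induction p using MvPolynomial.induction_on' with
  | monomial e a =>
    by_cases he : ∃ j, n ≤ e j
    · rw [clsL_eq_zero_of_bad A r n e he a]
      exact Submodule.zero_mem _
    · push Not at he
      have hn0 : 0 < n := by have := he 0; omega
      refine ⟨Finsupp.single (sh n e) a, ?_⟩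
      unfold Ψ
      rw [Finsupp.linearCombination_single, smul_v A r a (sh n e) n (fun i => sh_lt n hn0 e i),
        sh_sh n e he]
  | add p q hp hq =>
    rw [map_add]
    exact Submodule.add_mem _ hp hq

theorem free_L : Module.Free A (L A r) :=
  Module.Free.of_equiv (LinearEquiv.ofBijective (Ψ A r) ⟨Ψ_injective A r, Ψ_surjective A r⟩)

end Psi

end Groth.Agent.Lib.T2H2.KzPoly
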