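import Mathlib

/-!
# Modules over a finite-dimensional simple algebra are classified by their dimension

Consequences for idempotents: two idempotents `e`, `e'` of a finite-dimensional simple `K`-algebra
`D` whose left ideals have the same `K`-dimension are equivalent.
-/

namespace Groth.Agent.Lib.T2H2.LGAz

section simple

variable {K : Type*} [Field K] {D : Type*} [Ring D] [Algebra K D] [Module.Finite K D]
  [IsSimpleRing D]

/-- two simple modules over a simple artinian ring are isomorphic -/
theorem nonempty_linearEquiv_of_isSimpleModule [IsArtinianRing D] (S₁ S₂ : Type*)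
    [AddCommGroup S₁] [Module D S₁]
    [AddCommGroup S₂] [Module D S₂] [IsSimpleModule D S₁] [IsSimpleModule D S₂] :
    Nonempty (S₁ ≃ₗ[D] S₂) := by
  obtain ⟨I₁, ⟨f₁⟩⟩ := IsSemisimpleRing.exists_linearEquiv_ideal_of_isSimpleModule D S₁
  obtain ⟨I₂, ⟨f₂⟩⟩ := IsSemisimpleRing.exists_linearEquiv_ideal_of_isSimpleModule D S₂
  have h1 : IsSimpleModule D I₁ := IsSimpleModule.congr f₁.symm
  have h2 : IsSimpleModule D I₂ := IsSimpleModule.congr f₂.symm
  obtain ⟨g⟩ := (IsSimpleRing.isIsotypic D D) I₂ I₁
  exact ⟨f₁.trans (g.trans f₂.symm)⟩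

theorem nonempty_linearEquiv_of_finrank_eq (M₁ M₂ : Type*) [AddCommGroup M₁] [Module D M₁]
    [Module K M₁] [IsScalarTower K D M₁] [Module.Finite D M₁]
    [AddCommGroup M₂] [Module D M₂] [Module K M₂] [IsScalarTower K D M₂] [Module.Finite D M₂]
    (h : Module.finrank K M₁ = Module.finrank K M₂) : Nonempty (M₁ ≃ₗ[D] M₂) := by
  have hart : IsArtinianRing D := IsArtinianRing.of_finite K D
  have hfin₁ : Module.Finite K M₁ := Module.Finite.trans D M₁
  have hfin₂ : Module.Finite K M₂ := Module.Finite.trans D M₂
  by_cases hs : Subsingleton M₁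
  · have h0 : Module.finrank K M₁ = 0 := Module.finrank_zero_of_subsingleton
    rw [h0] at h
    have hs2 : Subsingleton M₂ := Module.finrank_zero_iff.mp h.symm
    exact ⟨LinearEquiv.ofSubsingleton M₁ M₂⟩
  · rw [not_subsingleton_iff_nontrivial] at hs
    have hs2 : Nontrivial M₂ := by
      by_contra hn
      rw [not_nontrivial_iff_subsingleton] at hn
      have h0 : Module.finrank K M₂ = 0 := Module.finrank_zero_of_subsingleton
      rw [h0] at h
      have := Module.finrank_zero_iff.mp h
      exact not_subsingleton M₁ this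
    obtain ⟨n₁, _, S₁, hS₁, ⟨e₁⟩⟩ := (IsSimpleRing.isIsotypic D M₁).linearEquiv_fun
    obtain ⟨n₂, _, S₂, hS₂, ⟨e₂⟩⟩ := (IsSimpleRing.isIsotypic D M₂).linearEquiv_fun
    obtain ⟨g⟩ := nonempty_linearEquiv_of_isSimpleModule (D := D) S₁ S₂
    have hf₁ : Module.Finite K S₁ :=
      Module.Finite.of_injective (S₁.subtype.restrictScalars K) S₁.subtype_injective
    have hf₂ : Module.Finite K S₂ :=
      Module.Finite.of_injective (S₂.subtype.restrictScalars K) S₂.subtype_injective
    have hd : Module.finrank K S₁ = Module.finrank K S₂ :=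
      LinearEquiv.finrank_eq (g.restrictScalars K)
    have hpos : 0 < Module.finrank K S₁ := by
      have : Nontrivial S₁ := IsSimpleModule.nontrivial D S₁
      exact Module.finrank_pos
    have h1 : Module.finrank K M₁ = n₁ * Module.finrank K S₁ := by
      rw [LinearEquiv.finrank_eq (e₁.restrictScalars K), Module.finrank_pi_fintype]
      simp
    have h2 : Module.finrank K M₂ = n₂ * Module.finrank K S₂ := by
      rw [LinearEquiv.finrank_eq (e₂.restrictScalars K), Module.finrank_pi_fintype]
      simp
    rw [h1, h2, ← hd] at h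
    have hn : n₁ = n₂ := Nat.eq_of_mul_eq_mul_right hpos h
    subst hn
    exact ⟨e₁.trans ((LinearEquiv.piCongrRight fun _ => g).trans e₂.symm)⟩

/-- idempotents whose left ideals have the same dimension are equivalent -/
theorem exists_equiv_of_finrank_eq (e e' : D) (he : IsIdempotentElem e)
    (he' : IsIdempotentElem e')
    (h : Module.finrank K (Ideal.span ({e} : Set D)) =
      Module.finrank K (Ideal.span ({e'} : Set D))) :
    ∃ a b : D, e * a = a ∧ a * e' = a ∧ e' * b = b ∧ b * e = b ∧ b * a = e' ∧ a * b = e := by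
  have hf₁ : Module.Finite D (Ideal.span ({e} : Set D)) :=
    Module.Finite.span_of_finite D (Set.finite_singleton e)
  have hf₂ : Module.Finite D (Ideal.span ({e'} : Set D)) :=
    Module.Finite.span_of_finite D (Set.finite_singleton e')
  obtain ⟨φ⟩ := nonempty_linearEquiv_of_finrank_eq (K := K) (D := D)
    (Ideal.span ({e} : Set D)) (Ideal.span ({e'} : Set D)) h
  have hmem : e ∈ Ideal.span ({e} : Set D) := Ideal.subset_span rfl
  have hmem' : e' ∈ Ideal.span ({e'} : Set D) := Ideal.subset_span rfl
  let E : Ideal.span ({e} : Set D) := ⟨e, hmem⟩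
  let E' : Ideal.span ({e'} : Set D) := ⟨e', hmem'⟩
  have hright : ∀ (u : D) (x : Ideal.span ({u} : Set D)), IsIdempotentElem u → (x : D) * u = x := by
    intro u x hu
    obtain ⟨c, hc⟩ := Ideal.mem_span_singleton'.mp x.2
    rw [← hc, mul_assoc, hu.eq]
  have hsm : ∀ x : Ideal.span ({e} : Set D), x = (x : D) • E := by
    intro x
    apply Subtype.ext
    show (x : D) = (x : D) * e
    exact (hright e x he).symm
  have hsm' : ∀ x : Ideal.span ({e'} : Set D), x = (x : D) • E' := by
    intro x
    apply Subtype.ext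
    show (x : D) = (x : D) * e'
    exact (hright e' x he').symm
  refine ⟨(φ E : D), (φ.symm E' : D), ?_, hright e' _ he', ?_, hright e _ he, ?_, ?_⟩
  · have h1 : φ E = e • φ E := by
      conv_lhs => rw [hsm E]
      rw [map_smul]
    exact (congrArg Subtype.val h1).symm
  · have h1 : φ.symm E' = e' • φ.symm E' := by
      conv_lhs => rw [hsm' E']
      rw [map_smul]
    exact (congrArg Subtype.val h1).symm
  · have h1 : φ (φ.symm E') = (φ.symm E' : D) • φ E := by
      conv_lhs => rw [hsm (φ.symm E')]
      rw [map_smul]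
    rw [LinearEquiv.apply_symm_apply] at h1
    exact (congrArg Subtype.val h1).symm
  · have h1 : φ.symm (φ E) = (φ E : D) • φ.symm E' := by
      conv_lhs => rw [hsm' (φ E)]
      rw [map_smul]
    rw [LinearEquiv.symm_apply_apply] at h1
    exact (congrArg Subtype.val h1).symm

end simple

end Groth.Agent.Lib.T2H2.LGAz
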