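import Mathlib
import Groth.Prelude.Def_W4c4lgringredgrpLG
import Groth.Agent.S16597

/-!
# Units of a finite projective algebra over an LG-ring

For a finite projective `R`-algebra `Γ` and elements `c k l`, `d` of `Γ` we consider the elements
`zval c d s = ∑ k l, (s (inl k) * s (inr l)) • c k l + d`.  If `R` is an LG-ring and for every maximal
ideal `m` some `zval c d s` is congruent to `1` modulo `m`, then some `zval c d s` is a unit.
-/

namespace Groth.Agent.Lib.T2H2.LGAz

open MvPolynomial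

section det

variable {R : Type*} [CommRing R] {Γ : Type*} [Ring Γ] [Algebra R Γ] {c : ℕ}
  (p : (Fin c → R) →ₗ[R] Γ) (i : Γ →ₗ[R] (Fin c → R))

/-- matrix of left multiplication in coordinates -/
noncomputable def Lmat : Γ →ₗ[R] Matrix (Fin c) (Fin c) R where
  toFun z := Matrix.of fun j l => i (z * p (Pi.single l 1)) j
  map_add' z w := by
    ext j l
    simp [add_mul]
  map_smul' r z := by
    ext j l
    simp

theorem Lmat_apply (z : Γ) (j l : Fin c) : Lmat p i z j l = i (z * p (Pi.single l 1)) j := rfl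

theorem Lmat_mulVec (z : Γ) (v : Fin c → R) : (Lmat p i z).mulVec v = i (z * p v) := by
  funext j
  rw [Matrix.mulVec, dotProduct]
  simp only [Lmat_apply]
  have hv : v = ∑ l, v l • (Pi.single l 1 : Fin c → R) := by
    funext l'
    simp [Finset.sum_apply, Pi.single_apply]
  conv_rhs => rw [hv]
  rw [map_sum, Finset.mul_sum, map_sum, Finset.sum_apply]
  apply Finset.sum_congr rfl
  intro l _
  rw [map_smul, mul_smul_comm, map_smul, Pi.smul_apply, smul_eq_mul, mul_comm]

/-- the test matrix of an element -/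
noncomputable def Tz (z : Γ) : Matrix (Fin c) (Fin c) R := Lmat p i z + 1 - Lmat p i 1

theorem Tz_mulVec (z : Γ) (v : Fin c → R) :
    (Tz p i z).mulVec v = i (z * p v) + (v - i (p v)) := by
  unfold Tz
  rw [Matrix.sub_mulVec, Matrix.add_mulVec, Lmat_mulVec, Lmat_mulVec, Matrix.one_mulVec, one_mul,
    add_sub_assoc]

variable (hpi : ∀ γ, p (i γ) = γ)

include hpi in
theorem isUnit_of_isUnit_det (z : Γ) (h : IsUnit (Tz p i z).det) : IsUnit z := by
  set T := Tz p i z with hT
  have hinj : ∀ γ : Γ, z * γ = 0 → γ = 0 := by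
    intro γ hγ
    have h1 : T.mulVec (i γ) = 0 := by
      rw [hT, Tz_mulVec, hpi, hγ, map_zero, sub_self, add_zero]
    have h2 := congrArg (fun w => (T⁻¹).mulVec w) h1
    simp only [Matrix.mulVec_mulVec, Matrix.nonsing_inv_mul T h, Matrix.one_mulVec,
      Matrix.mulVec_zero] at h2
    rw [← hpi γ, h2, map_zero]
  set v := (T⁻¹).mulVec (i 1) with hv
  have h1 : T.mulVec v = i 1 := by
    rw [hv, Matrix.mulVec_mulVec, Matrix.mul_nonsing_inv T h, Matrix.one_mulVec]
  rw [hT, Tz_mulVec] at h1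
  have h2 := congrArg p h1
  rw [map_add, map_sub, hpi, hpi, sub_self, add_zero, hpi] at h2
  have h3 : p v * z = 1 := by
    have h4 : z * (p v * z - 1) = 0 := by
      rw [mul_sub, ← mul_assoc, h2, one_mul, mul_one, sub_self]
    exact sub_eq_zero.mp (hinj _ h4)
  exact ⟨⟨z, p v, h2, h3⟩, rfl⟩

end det

section poly

variable {R : Type*} [CommRing R] {Γ : Type*} [Ring Γ] [Algebra R Γ] {t : ℕ}
  (cf : Fin t → Fin t → Γ) (d : Γ)

/-- the element `∑ k l, (s (inl k) * s (inr l)) • cf k l + d` -/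
noncomputable def zval (s : Fin t ⊕ Fin t → R) : Γ :=
  ∑ k, ∑ l, (s (Sum.inl k) * s (Sum.inr l)) • cf k l + d

variable {c : ℕ} (p : (Fin c → R) →ₗ[R] Γ) (i : Γ →ₗ[R] (Fin c → R))

/-- the polynomial test matrix -/
noncomputable def Tpoly : Matrix (Fin c) (Fin c) (MvPolynomial (Fin t ⊕ Fin t) R) :=
  Matrix.of fun j l => ∑ k, ∑ l', X (Sum.inl k) * X (Sum.inr l') * C (Lmat p i (cf k l') j l) +
    C (Tz p i d j l)

/-- the test polynomial -/
noncomputable def Fpoly : MvPolynomial (Fin t ⊕ Fin t) R := (Tpoly cf d p i).det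

theorem aeval_Fpoly (s : Fin t ⊕ Fin t → R) :
    aeval s (Fpoly cf d p i) = (Tz p i (zval cf d s)).det := by
  have h1 : aeval s (Fpoly cf d p i) = (aeval s).toRingHom (Fpoly cf d p i) := rfl
  rw [h1, Fpoly, RingHom.map_det]
  congr 1
  ext j l
  rw [RingHom.mapMatrix_apply, Matrix.map_apply]
  show aeval s (Tpoly cf d p i j l) = _
  simp only [Tpoly, Matrix.of_apply, map_add, map_sum, map_mul, aeval_X, aeval_C,
    Algebra.algebraMap_self, RingHom.id_apply]
  unfold Tz zval
  simp only [map_add, map_sum, map_smul, Matrix.add_apply, Matrix.sub_apply, Matrix.sum_apply,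
    Matrix.smul_apply, smul_eq_mul]
  ring

variable (hpi : ∀ γ, p (i γ) = γ)

/-- if `zval s` is congruent to `1` modulo `m` then the test polynomial represents a unit over
the residue field -/
theorem representsUnit_of (m : Ideal R) [m.IsMaximal] (s : Fin t ⊕ Fin t → R)
    (hs : ∀ lam : Γ →ₗ[R] R, lam (zval cf d s - 1) ∈ m) :
    LGRing.RepresentsUnit (Fpoly cf d p i) (R ⧸ m) := by
  refine ⟨fun j => Ideal.Quotient.mk m (s j), ?_⟩
  have h1 : aeval (fun j => Ideal.Quotient.mk m (s j)) (Fpoly cf d p i) =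
      Ideal.Quotient.mk m (aeval s (Fpoly cf d p i)) := by
    have := MvPolynomial.comp_aeval_apply (f := s) (Ideal.Quotient.mkₐ R m) (Fpoly cf d p i)
    simpa using this.symm
  rw [h1, aeval_Fpoly]
  have h2 : (Tz p i (zval cf d s)).map (Ideal.Quotient.mk m) = 1 := by
    ext j l
    rw [Matrix.map_apply]
    have h3 : Tz p i (zval cf d s) j l - (1 : Matrix (Fin c) (Fin c) R) j l ∈ m := by
      have h4 : Tz p i (zval cf d s) j l - (1 : Matrix (Fin c) (Fin c) R) j l =
          Lmat p i (zval cf d s - 1) j l := by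
        unfold Tz
        rw [map_sub, Matrix.sub_apply, Matrix.add_apply, Matrix.sub_apply]
        ring
      rw [h4, Lmat_apply]
      exact hs ((LinearMap.proj j) ∘ₗ i ∘ₗ LinearMap.mulRight R (p (Pi.single l 1)))
    have h5 := (Ideal.Quotient.eq (I := m)).mpr h3
    rw [h5, Matrix.one_apply, Matrix.one_apply]
    split_ifs <;> simp
  have h6 : Ideal.Quotient.mk m (Tz p i (zval cf d s)).det = 1 := by
    rw [RingHom.map_det, RingHom.mapMatrix_apply, h2, Matrix.det_one]
  rw [h6]
  exact isUnit_one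

end poly

section main

universe u

variable {R : Type u} [CommRing R] (hR : LGRing.IsLGRing R) {Γ : Type*} [Ring Γ] [Algebra R Γ]
  [Module.Finite R Γ] [Module.Projective R Γ] {t : ℕ} (cf : Fin t → Fin t → Γ) (d : Γ)

include hR in
/-- the local-global principle for units among the elements `zval cf d s` -/
theorem exists_isUnit_zval
    (hres : ∀ (m : Ideal R) [m.IsMaximal], ∃ s : Fin t ⊕ Fin t → R,
      ∀ lam : Γ →ₗ[R] R, lam (zval cf d s - 1) ∈ m) :
    ∃ s : Fin t ⊕ Fin t → R, IsUnit (zval cf d s) := by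
  classical
  obtain ⟨c, p, i, hp, hi, hpi⟩ := Module.Finite.exists_comp_eq_id_of_projective R Γ
  have hpi' : ∀ γ, p (i γ) = γ := fun γ => by
    have := congrArg (fun f => f γ) hpi
    simpa using this
  have h1 : ∀ (m : Ideal R) [m.IsMaximal], LGRing.RepresentsUnit (Fpoly cf d p i) (R ⧸ m) := by
    intro m hm
    obtain ⟨s, hs⟩ := hres m
    exact representsUnit_of cf d p i m s hs
  obtain ⟨s, hs⟩ := Groth.Agent.S16597.of_fintype hR (Fpoly cf d p i) h1
  rw [aeval_Fpoly] at hs
  exact ⟨s, isUnit_of_isUnit_det p i hpi' _ hs⟩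

end main

end Groth.Agent.Lib.T2H2.LGAz
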