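import Mathlib
import Groth.Agent.Lib.T2H2LGAzA
import Groth.Agent.Lib.T2H2LGAzB
import Groth.Agent.Lib.LeadAzumayaLocal
import Groth.Agent.Lib.Helper22LGProj

/-!
# Equivalence of idempotents of equal rank in an Azumaya algebra over an LG-ring
-/

namespace Groth.Agent.Lib.T2H2.LGAz

open scoped TensorProduct

section lIdeal

variable {R : Type*} [CommRing R] {Γ : Type*} [Ring Γ] [Algebra R Γ]

/-- the left ideal `Γ s` as an `R`-submodule -/
abbrev lIdeal (s : Γ) : Submodule R Γ := LinearMap.range (LinearMap.mulRight R s)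

theorem mem_lIdeal_iff {s : Γ} (hs : IsIdempotentElem s) (x : Γ) :
    x ∈ lIdeal (R := R) s ↔ x * s = x := by
  constructor
  · rintro ⟨c, rfl⟩
    simp [mul_assoc, hs.eq]
  · intro h
    exact ⟨x, h⟩

theorem finite_projective_lIdeal [Module.Finite R Γ] [Module.Projective R Γ] {s : Γ}
    (hs : IsIdempotentElem s) :
    Module.Finite R (lIdeal (R := R) s) ∧ Module.Projective R (lIdeal (R := R) s) := by
  have h1 : ∀ x : lIdeal (R := R) s,
      (LinearMap.mulRight R s).rangeRestrict ((lIdeal (R := R) s).subtype x) = x := by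
    intro x
    apply Subtype.ext
    exact (mem_lIdeal_iff hs x.1).1 x.2
  exact ⟨Module.Finite.of_surjective (LinearMap.mulRight R s).rangeRestrict
    (LinearMap.surjective_rangeRestrict _),
    Module.Projective.of_split (lIdeal (R := R) s).subtype
      (LinearMap.mulRight R s).rangeRestrict (LinearMap.ext h1)⟩

end lIdeal

section bridge

universe u v

variable {R : Type u} [CommRing R] {Γ : Type v} [Ring Γ] [Algebra R Γ]
  [Module.Finite R Γ] [Module.Projective R Γ]

theorem finrank_quotient_tensor (m : Ideal R) [hm : m.IsMaximal] (N : Type*) [AddCommGroup N]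
    [Module R N] [Module.Finite R N] [Module.Projective R N] :
    letI := Ideal.Quotient.field m
    Module.finrank (R ⧸ m) ((R ⧸ m) ⊗[R] N) = Module.rankAtStalk N ⟨m, hm.isPrime⟩ := by
  let _ := Ideal.Quotient.field m
  have h1 := Module.rankAtStalk_baseChange (R := R) (M := N) (S := R ⧸ m)
    (⊥ : PrimeSpectrum (R ⧸ m))
  have h2 := congrFun (Module.rankAtStalk_eq_finrank_of_free (R := R ⧸ m)
    (M := (R ⧸ m) ⊗[R] N)) (⊥ : PrimeSpectrum (R ⧸ m))
  rw [h1] at h2
  rw [Pi.natCast_apply, Nat.cast_id] at h2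
  rw [← h2]
  congr 1
  apply PrimeSpectrum.ext
  show Ideal.comap (algebraMap R (R ⧸ m)) ⊥ = m
  rw [← RingHom.ker_eq_comap_bot]
  exact Ideal.mk_ker

/-- the dimension of the left ideal generated by the image of an idempotent in the fibre -/
theorem finrank_span_eq (m : Ideal R) [hm : m.IsMaximal] {s : Γ} (hs : IsIdempotentElem s) :
    letI := Ideal.Quotient.field m
    Module.finrank (R ⧸ m) (Ideal.span ({(1 : R ⧸ m) ⊗ₜ[R] s} : Set ((R ⧸ m) ⊗[R] Γ))) =
      Module.rankAtStalk (lIdeal (R := R) s) ⟨m, hm.isPrime⟩ := by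
  let _ := Ideal.Quotient.field m
  obtain ⟨hfin, hproj⟩ := finite_projective_lIdeal (R := R) hs
  rw [← finrank_quotient_tensor m (lIdeal (R := R) s)]
  let K := R ⧸ m
  let E := lIdeal (R := R) s
  let Φ : K ⊗[R] E →ₗ[K] K ⊗[R] Γ := LinearMap.baseChange K E.subtype
  let Pr : K ⊗[R] Γ →ₗ[K] K ⊗[R] E := LinearMap.baseChange K (LinearMap.mulRight R s).rangeRestrict
  have hPΦ : ∀ x, Pr (Φ x) = x := by
    intro x
    induction x using TensorProduct.induction_on with
    | zero => simp
    | add x y hx hy => rw [map_add, map_add, hx, hy]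
    | tmul k c =>
      show (k ⊗ₜ[R] ((LinearMap.mulRight R s).rangeRestrict (c : Γ)) : K ⊗[R] E) = k ⊗ₜ[R] c
      congr 1
      apply Subtype.ext
      exact (mem_lIdeal_iff hs c.1).1 c.2
  have hΦP : ∀ y : K ⊗[R] Γ, Φ (Pr y) = y * ((1 : K) ⊗ₜ[R] s) := by
    intro y
    induction y using TensorProduct.induction_on with
    | zero => simp
    | add x y hx hy => rw [map_add, map_add, hx, hy, add_mul]
    | tmul k c =>
      show (k ⊗ₜ[R] (c * s) : K ⊗[R] Γ) = _
      rw [Algebra.TensorProduct.tmul_mul_tmul, mul_one]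
  have hinj : Function.Injective Φ := Function.LeftInverse.injective hPΦ
  have hrange : ∀ y : K ⊗[R] Γ, y ∈ LinearMap.range Φ ↔
      y ∈ Ideal.span ({(1 : K) ⊗ₜ[R] s} : Set (K ⊗[R] Γ)) := by
    intro y
    rw [Ideal.mem_span_singleton']
    constructor
    · rintro ⟨x, rfl⟩
      refine ⟨Φ x, ?_⟩
      rw [← hΦP, hPΦ]
    · rintro ⟨a, rfl⟩
      exact ⟨Pr a, hΦP a⟩
  let e1 : K ⊗[R] E ≃ₗ[K] LinearMap.range Φ := LinearEquiv.ofInjective Φ hinj
  let e2 : LinearMap.range Φ ≃ₗ[K] Ideal.span ({(1 : K) ⊗ₜ[R] s} : Set (K ⊗[R] Γ)) :=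
    { toFun := fun y => ⟨y.1, (hrange y.1).1 y.2⟩
      invFun := fun y => ⟨y.1, (hrange y.1).2 y.2⟩
      map_add' := fun _ _ => rfl
      map_smul' := fun _ _ => rfl
      left_inv := fun _ => rfl
      right_inv := fun _ => rfl }
  exact (LinearEquiv.finrank_eq (e1.trans e2)).symm

end bridge

end Groth.Agent.Lib.T2H2.LGAz
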