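import Mathlib
import Groth.Agent.Lib.T2H2LGAzC

/-!
# Equivalence of idempotents of equal rank in an Azumaya algebra over an LG-ring: main theorem
-/

namespace Groth.Agent.Lib.T2H2.LGAz

open scoped TensorProduct

section residue

universe u v

variable {R : Type u} [CommRing R] {Γ : Type v} [Ring Γ] [Algebra R Γ] [IsAzumaya R Γ]

omit [IsAzumaya R Γ] in
/-- a functional vanishes modulo `m` on elements dying in the fibre -/
theorem functional_mem_of_tmul_eq_zero (m : Ideal R) (w : Γ)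
    (hw : ((1 : R ⧸ m) ⊗ₜ[R] w : (R ⧸ m) ⊗[R] Γ) = 0) (lam : Γ →ₗ[R] R) : lam w ∈ m := by
  have h1 := congrArg (LinearMap.lTensor (R ⧸ m) lam) hw
  rw [LinearMap.lTensor_tmul, map_zero] at h1
  have h2 := congrArg (TensorProduct.rid R (R ⧸ m)) h1
  rw [TensorProduct.rid_tmul, map_zero] at h2
  rw [← Ideal.Quotient.eq_zero_iff_mem]
  have h3 : lam w • (1 : R ⧸ m) = Ideal.Quotient.mk m (lam w) := by
    rw [Algebra.smul_def, mul_one]
    rfl
  rw [← h3]
  exact h2

/-- residue step: the elements realizing an equivalence of the images of the idempotents -/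
theorem exists_residue (m : Ideal R) [hm : m.IsMaximal] {ε ε' : Γ} (hε : IsIdempotentElem ε)
    (hε' : IsIdempotentElem ε')
    (hrank : Module.rankAtStalk (lIdeal (R := R) ε) ⟨m, hm.isPrime⟩ =
      Module.rankAtStalk (lIdeal (R := R) ε') ⟨m, hm.isPrime⟩) :
    ∃ g₁ g₂ : Γ, ((1 : R ⧸ m) ⊗ₜ[R] (ε' * g₁ * ε * (ε * g₂ * ε') - ε') : (R ⧸ m) ⊗[R] Γ) = 0 := by
  let _ := Ideal.Quotient.field m
  let K := R ⧸ m
  let D := K ⊗[R] Γ
  have hAz : IsAzumaya K D := Groth.Agent.Lib.LeadAzumaya.isAzumaya_baseChange K Γ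
  have hsimple : IsSimpleRing D := Groth.Agent.Lib.LeadAzumaya.isSimpleRing_of_isAzumaya_field (k := K)
  have hfin : Module.Finite K D := hAz.toFinite
  have hfinΓ : Module.Finite R Γ := IsAzumaya.toFinite
  have hprojΓ : Module.Projective R Γ := IsAzumaya.toProjective
  let ι : Γ →ₐ[R] D := Algebra.TensorProduct.includeRight
  have hι : ∀ γ, ι γ = (1 : K) ⊗ₜ[R] γ := fun _ => rfl
  have hιsurj : Function.Surjective ι := by
    intro y
    induction y using TensorProduct.induction_on with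
    | zero => exact ⟨0, map_zero _⟩
    | add x y hx hy =>
      obtain ⟨a, rfl⟩ := hx
      obtain ⟨b, rfl⟩ := hy
      exact ⟨a + b, map_add _ _ _⟩
    | tmul k γ =>
      obtain ⟨r, rfl⟩ := Ideal.Quotient.mk_surjective k
      refine ⟨r • γ, ?_⟩
      rw [hι, TensorProduct.tmul_smul, TensorProduct.smul_tmul', Algebra.smul_def, mul_one]
      rfl
  have he : IsIdempotentElem (ι ε) := hε.map ι
  have he' : IsIdempotentElem (ι ε') := hε'.map ι
  have hdim : Module.finrank K (Ideal.span ({ι ε} : Set D)) =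
      Module.finrank K (Ideal.span ({ι ε'} : Set D)) := by
    rw [hι, hι, finrank_span_eq m hε, finrank_span_eq m hε', hrank]
  obtain ⟨a, b, ha1, ha2, hb1, hb2, hba, hab⟩ :=
    exists_equiv_of_finrank_eq (K := K) (ι ε) (ι ε') he he' hdim
  obtain ⟨g₁, hg₁⟩ := hιsurj b
  obtain ⟨g₂, hg₂⟩ := hιsurj a
  refine ⟨g₁, g₂, ?_⟩
  rw [← hι, map_sub, map_mul, map_mul, map_mul, map_mul, map_mul, hg₁, hg₂, hb1, hb2, ha1, ha2, hba,
    sub_self]

end residue

section main

universe u v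

variable {R : Type u} [CommRing R] (hR : LGRing.IsLGRing R) {Γ : Type v} [Ring Γ] [Algebra R Γ]
  [IsAzumaya R Γ]

include hR in
/-- idempotents of an Azumaya algebra over an LG-ring whose left ideals have the same rank
function are equivalent -/
theorem exists_equiv_idempotents {ε ε' : Γ} (hε : IsIdempotentElem ε) (hε' : IsIdempotentElem ε')
    (hrank : ∀ p : PrimeSpectrum R, Module.rankAtStalk (lIdeal (R := R) ε) p =
      Module.rankAtStalk (lIdeal (R := R) ε') p) :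
    ∃ x y : Γ, ε' * x = x ∧ x * ε = x ∧ ε * y = y ∧ y * ε' = y ∧ x * y = ε' ∧ y * x = ε := by
  classical
  have hfinΓ : Module.Finite R Γ := IsAzumaya.toFinite
  have hprojΓ : Module.Projective R Γ := IsAzumaya.toProjective
  obtain ⟨t, γ, hγ⟩ := Module.Finite.exists_fin (R := R) (M := Γ)
  have hspan : ∀ g : Γ, ∃ c : Fin t → R, ∑ k, c k • γ k = g := by
    intro g
    have hg : g ∈ Submodule.span R (Set.range γ) := by
      rw [hγ]
      trivial
    exact (Submodule.mem_span_range_iff_exists_fun R).1 hg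
  let cf : Fin t → Fin t → Γ := fun k l => ε' * γ k * ε * (ε * γ l * ε')
  let d : Γ := 1 - ε'
  have hz : ∀ s : Fin t ⊕ Fin t → R, zval cf d s =
      ε' * (∑ k, s (Sum.inl k) • γ k) * ε * (ε * (∑ l, s (Sum.inr l) • γ l) * ε') + (1 - ε') := by
    intro s
    have hP : ε' * (∑ k, s (Sum.inl k) • γ k) * ε = ∑ k, s (Sum.inl k) • (ε' * γ k * ε) := by
      rw [Finset.mul_sum, Finset.sum_mul]
      apply Finset.sum_congr rfl
      intro k _
      rw [mul_smul_comm, smul_mul_assoc]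
    have hQ : ε * (∑ l, s (Sum.inr l) • γ l) * ε' = ∑ l, s (Sum.inr l) • (ε * γ l * ε') := by
      rw [Finset.mul_sum, Finset.sum_mul]
      apply Finset.sum_congr rfl
      intro l _
      rw [mul_smul_comm, smul_mul_assoc]
    rw [hP, hQ, Finset.sum_mul_sum]
    unfold zval
    congr 1
    apply Finset.sum_congr rfl
    intro k _
    apply Finset.sum_congr rfl
    intro l _
    rw [smul_mul_smul_comm]
  have hres : ∀ (m : Ideal R) [m.IsMaximal], ∃ s : Fin t ⊕ Fin t → R,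
      ∀ lam : Γ →ₗ[R] R, lam (zval cf d s - 1) ∈ m := by
    intro m hm
    obtain ⟨g₁, g₂, hg⟩ := exists_residue m hε hε' (hrank ⟨m, hm.isPrime⟩)
    obtain ⟨c₁, hc₁⟩ := hspan g₁
    obtain ⟨c₂, hc₂⟩ := hspan g₂
    refine ⟨Sum.elim c₁ c₂, fun lam => ?_⟩
    apply functional_mem_of_tmul_eq_zero m _ _ lam
    rw [hz]
    simp only [Sum.elim_inl, Sum.elim_inr]
    rw [hc₁, hc₂]
    have : ε' * g₁ * ε * (ε * g₂ * ε') + (1 - ε') - 1 = ε' * g₁ * ε * (ε * g₂ * ε') - ε' := by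
      abel
    rw [this]
    exact hg
  obtain ⟨s, hs⟩ := exists_isUnit_zval hR cf d hres
  rw [hz] at hs
  set x : Γ := ε' * (∑ k, s (Sum.inl k) • γ k) * ε with hx
  set y : Γ := ε * (∑ l, s (Sum.inr l) • γ l) * ε' with hy
  have hx1 : ε' * x = x := by rw [hx, ← mul_assoc, ← mul_assoc, hε'.eq]
  have hx2 : x * ε = x := by rw [hx, mul_assoc, hε.eq]
  have hy1 : ε * y = y := by rw [hy, ← mul_assoc, ← mul_assoc, hε.eq]
  have hy2 : y * ε' = y := by rw [hy, mul_assoc, hε'.eq]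
  obtain ⟨u, hu⟩ := hs
  have hu' : (u : Γ) = x * y + (1 - ε') := hu
  have hc1 : ε' * (u : Γ) = x * y := by
    rw [hu', mul_add, ← mul_assoc, hx1, mul_sub, mul_one, hε'.eq, sub_self, add_zero]
  have hc2 : (u : Γ) * ε' = x * y := by
    rw [hu', add_mul, mul_assoc, hy2, sub_mul, one_mul, hε'.eq, sub_self, add_zero]
  have hcomm : ε' * ((u⁻¹ : Γˣ) : Γ) = ((u⁻¹ : Γˣ) : Γ) * ε' :=
    (show Commute ε' (u : Γ) from hc1.trans hc2.symm).units_inv_right
  set y₂ : Γ := y * ((u⁻¹ : Γˣ) : Γ) with hy₂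
  have hy₂1 : ε * y₂ = y₂ := by rw [hy₂, ← mul_assoc, hy1]
  have hy₂2 : y₂ * ε' = y₂ := by
    rw [hy₂, mul_assoc, ← hcomm, ← mul_assoc, hy2]
  have hxy₂ : x * y₂ = ε' := by
    rw [hy₂, ← mul_assoc, ← hc1, mul_assoc, Units.mul_inv, mul_one]
  -- the rank argument
  obtain ⟨hf1, hp1⟩ := finite_projective_lIdeal (R := R) hε
  obtain ⟨hf2, hp2⟩ := finite_projective_lIdeal (R := R) hε'
  let f : lIdeal (R := R) ε' →ₗ[R] lIdeal (R := R) ε :=
    LinearMap.codRestrict _ ((LinearMap.mulRight R x) ∘ₗ (lIdeal (R := R) ε').subtype) (by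
      intro c
      rw [mem_lIdeal_iff hε]
      show (c : Γ) * x * ε = (c : Γ) * x
      rw [mul_assoc, hx2])
  let g : lIdeal (R := R) ε →ₗ[R] lIdeal (R := R) ε' :=
    LinearMap.codRestrict _ ((LinearMap.mulRight R y₂) ∘ₗ (lIdeal (R := R) ε).subtype) (by
      intro c
      rw [mem_lIdeal_iff hε']
      show (c : Γ) * y₂ * ε' = (c : Γ) * y₂
      rw [mul_assoc, hy₂2])
  have hgf : ∀ c, g (f c) = c := by
    intro c
    apply Subtype.ext
    show (c : Γ) * x * y₂ = c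
    rw [mul_assoc, hxy₂]
    exact (mem_lIdeal_iff hε' c.1).1 c.2
  have hbij := Groth.Agent.Lib.Helper22.LGProj.bijective_of_split_of_rank f g hgf
    (fun q => (hrank q).symm)
  have hfg : ∀ c, f (g c) = c := by
    intro c
    obtain ⟨c', rfl⟩ := hbij.2 c
    rw [hgf]
  have hεmem : ε ∈ lIdeal (R := R) ε := (mem_lIdeal_iff hε ε).2 hε.eq
  have h1 := congrArg Subtype.val (hfg ⟨ε, hεmem⟩)
  have hyx : y₂ * x = ε := by
    have h2 : ε * y₂ * x = ε := h1
    rw [hy₂1] at h2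
    exact h2
  exact ⟨x, y₂, hx1, hx2, hy₂1, hy₂2, hxy₂, hyx⟩

end main

end Groth.Agent.Lib.T2H2.LGAz
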