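import Mathlib

/-!
# The corner of `C ⊗ End M` cut out by a rank-one idempotent

For an `R`-module `M` with a unimodular pair `(m₀, lam)` (`lam m₀ = 1`) the endomorphism
`g1 = lam(·) m₀` is an idempotent of `End M`.  For an `R`-algebra `C`, the idempotent `1 ⊗ g1` of
`C ⊗ End M` has corner ring `C` and left ideal `C ⊗ M`.
-/

namespace Groth.Agent.Lib.T2H2.LGAz

open scoped TensorProduct

section unimod

variable {R : Type*} [CommRing R] {M : Type*} [AddCommGroup M] [Module R M]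
  (m₀ : M) (lam : M →ₗ[R] R)

/-- the rank-one endomorphism `v ↦ lam v • m₀` -/
def g1 : Module.End R M := lam.smulRight m₀

theorem g1_apply (v : M) : g1 m₀ lam v = lam v • m₀ := rfl

theorem mul_g1 (h : Module.End R M) : h * g1 m₀ lam = lam.smulRight (h m₀) := by
  ext v
  rw [Module.End.mul_apply, g1_apply, map_smul, LinearMap.smulRight_apply]

variable (h1 : lam m₀ = 1)

include h1 in
theorem g1_idem : IsIdempotentElem (g1 m₀ lam) := by
  show g1 m₀ lam * g1 m₀ lam = g1 m₀ lam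
  rw [mul_g1, g1_apply, h1, one_smul]
  rfl

theorem g1_mul_mul (h : Module.End R M) :
    g1 m₀ lam * h * g1 m₀ lam = lam (h m₀) • g1 m₀ lam := by
  ext v
  rw [Module.End.mul_apply, Module.End.mul_apply, g1_apply, g1_apply, map_smul, map_smul,
    LinearMap.smul_apply, g1_apply, smul_smul, smul_eq_mul, mul_comm]

variable (C : Type*) [Ring C] [Algebra R C]

/-- `C ⊗ M → C ⊗ End M` -/
noncomputable def Fm : C ⊗[R] M →ₗ[R] C ⊗[R] Module.End R M :=
  LinearMap.lTensor C (LinearMap.smulRightₗ lam)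

/-- `C ⊗ End M → C ⊗ M`, evaluation at `m₀` -/
noncomputable def Gm : C ⊗[R] Module.End R M →ₗ[R] C ⊗[R] M :=
  LinearMap.lTensor C (LinearMap.applyₗ m₀)

theorem Fm_tmul (c : C) (v : M) : Fm lam C (c ⊗ₜ[R] v) = c ⊗ₜ[R] lam.smulRight v := rfl

theorem Gm_tmul (c : C) (h : Module.End R M) : Gm m₀ C (c ⊗ₜ[R] h) = c ⊗ₜ[R] h m₀ := rfl

include h1 in
theorem Gm_Fm (z : C ⊗[R] M) : Gm m₀ C (Fm lam C z) = z := by
  induction z using TensorProduct.induction_on with
  | zero => simp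
  | add x y hx hy => rw [map_add, map_add, hx, hy]
  | tmul c v => rw [Fm_tmul, Gm_tmul, LinearMap.smulRight_apply, h1, one_smul]

theorem Fm_Gm (γ : C ⊗[R] Module.End R M) :
    Fm lam C (Gm m₀ C γ) = γ * ((1 : C) ⊗ₜ[R] g1 m₀ lam) := by
  induction γ using TensorProduct.induction_on with
  | zero => simp
  | add x y hx hy => rw [map_add, map_add, hx, hy, add_mul]
  | tmul c h =>
    rw [Gm_tmul, Fm_tmul, Algebra.TensorProduct.tmul_mul_tmul, mul_one, mul_g1]

/-- the retraction onto the corner -/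
noncomputable def rhoC : C ⊗[R] Module.End R M →ₗ[R] C :=
  (TensorProduct.rid R C).toLinearMap ∘ₗ LinearMap.lTensor C (lam ∘ₗ LinearMap.applyₗ m₀)

theorem rhoC_tmul (c : C) (h : Module.End R M) :
    rhoC m₀ lam C (c ⊗ₜ[R] h) = lam (h m₀) • c := by
  unfold rhoC
  rw [LinearMap.comp_apply, LinearMap.lTensor_tmul]
  exact TensorProduct.rid_tmul _ _

theorem corner_eq (γ : C ⊗[R] Module.End R M) :
    ((1 : C) ⊗ₜ[R] g1 m₀ lam) * γ * ((1 : C) ⊗ₜ[R] g1 m₀ lam) =
      rhoC m₀ lam C γ ⊗ₜ[R] g1 m₀ lam := by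
  induction γ using TensorProduct.induction_on with
  | zero => simp
  | add x y hx hy => rw [mul_add, add_mul, hx, hy, map_add, TensorProduct.add_tmul]
  | tmul c h =>
    rw [Algebra.TensorProduct.tmul_mul_tmul, Algebra.TensorProduct.tmul_mul_tmul, one_mul, mul_one,
      g1_mul_mul, rhoC_tmul, TensorProduct.tmul_smul, TensorProduct.smul_tmul']

include h1 in
theorem rhoC_tmul_g1 (c : C) : rhoC m₀ lam C (c ⊗ₜ[R] g1 m₀ lam) = c := by
  rw [rhoC_tmul, g1_apply, h1, one_smul, h1, one_smul]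

include h1 in
theorem tmul_g1_idem : IsIdempotentElem ((1 : C) ⊗ₜ[R] g1 m₀ lam) := by
  show ((1 : C) ⊗ₜ[R] g1 m₀ lam) * ((1 : C) ⊗ₜ[R] g1 m₀ lam) = _
  rw [Algebra.TensorProduct.tmul_mul_tmul, one_mul, (g1_idem m₀ lam h1).eq]

end unimod

end Groth.Agent.Lib.T2H2.LGAz
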