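import Mathlib
import Groth.Agent.Lib.T2H2LGAzD
import Groth.Agent.Lib.T2H2LGAzE
import Groth.Agent.Lib.T2H2AzHom
import Groth.Agent.S16598
import Groth.Agent.S19587
import Groth.Agent.S19589

/-!
# Cancellation for Azumaya algebras over an LG-ring

If `A ⊗ End P ≃ B ⊗ End Q` for Azumaya algebras `A`, `B` of the same rank and faithfully projective
modules `P`, `Q` over an LG-ring, then `A ≃ B`.
-/

namespace Groth.Agent.Lib.T2H2.LGAz

open scoped TensorProduct

section ranks

variable {R : Type*} [CommRing R]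

theorem rankAtStalk_end (M : Type*) [AddCommGroup M] [Module R M] [Module.Finite R M]
    [Module.Projective R M] [FaithfulSMul R M] (p : PrimeSpectrum R) :
    Module.rankAtStalk (R := R) (Module.End R M) p = (Module.rankAtStalk (R := R) M p) ^ 2 := by
  have hAz : IsAzumaya R (Module.End R M) := Groth.Agent.S19589.result R M
  have hfin' : Module.Finite R (Module.End R M) := hAz.toFinite
  have hproj' : Module.Projective R (Module.End R M) := hAz.toProjective
  let κ := p.asIdeal.ResidueField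
  let e1 : κ ⊗[R] Module.End R M ≃ₗ[κ] Module.End κ (κ ⊗[R] M) :=
    LinearEquiv.ofBijective (LinearMap.tensorProductEnd R κ M)
      (Groth.Agent.Lib.LeadAzumaya.tensorProductEnd_bijective κ M)
  have h1 : Module.finrank κ (κ ⊗[R] Module.End R M) =
      Module.finrank κ (κ ⊗[R] M) * Module.finrank κ (κ ⊗[R] M) := by
    rw [LinearEquiv.finrank_eq e1, Module.finrank_linearMap]
  rw [Module.rankAtStalk_eq, Module.rankAtStalk_eq, pow_two]
  exact h1

theorem rankAtStalk_pos_of_faithful (M : Type*) [AddCommGroup M] [Module R M] [Module.Finite R M]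
    [Module.Projective R M] [FaithfulSMul R M] (p : PrimeSpectrum R) :
    0 < Module.rankAtStalk (R := R) M p := by
  rw [Module.rankAtStalk_pos_iff_mem_support, Module.support_eq_zeroLocus,
    (Module.annihilator_eq_bot).2 inferInstance]
  simp

theorem rankAtStalk_lIdeal_map {Γ₁ Γ₂ : Type*} [Ring Γ₁] [Algebra R Γ₁] [Ring Γ₂] [Algebra R Γ₂]
    (e : Γ₁ ≃ₐ[R] Γ₂) (s : Γ₁) (p : PrimeSpectrum R) :
    Module.rankAtStalk (R := R) (lIdeal (R := R) (e s)) p =
      Module.rankAtStalk (R := R) (lIdeal (R := R) s) p := by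
  have hmap : (lIdeal (R := R) s).map e.toLinearEquiv.toLinearMap = lIdeal (R := R) (e s) := by
    ext y
    constructor
    · rintro ⟨x, ⟨c, rfl⟩, rfl⟩
      exact ⟨e c, by simp⟩
    · rintro ⟨c, rfl⟩
      refine ⟨e.symm c * s, ⟨e.symm c, rfl⟩, ?_⟩
      simp
  have h := Module.rankAtStalk_eq_of_equiv (R := R)
    ((Submodule.equivMapOfInjective e.toLinearEquiv.toLinearMap e.injective
      (lIdeal (R := R) s)).trans (LinearEquiv.ofEq _ _ hmap))
  exact (congrFun h p).symm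

theorem rankAtStalk_lIdeal_tmul_g1 (C : Type*) [Ring C] [Algebra R C] [Module.Finite R C]
    [Module.Projective R C] {M : Type*} [AddCommGroup M] [Module R M] [Module.Finite R M]
    [Module.Projective R M] (m₀ : M) (lam : M →ₗ[R] R) (h1 : lam m₀ = 1) (p : PrimeSpectrum R) :
    Module.rankAtStalk (R := R) (lIdeal (R := R) ((1 : C) ⊗ₜ[R] g1 m₀ lam)) p =
      Module.rankAtStalk (R := R) C p * Module.rankAtStalk (R := R) M p := by
  have hid := tmul_g1_idem m₀ lam h1 C
  have hmem : ∀ z : C ⊗[R] M, Fm lam C z ∈ lIdeal (R := R) ((1 : C) ⊗ₜ[R] g1 m₀ lam) := by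
    intro z
    refine ⟨Fm lam C z, ?_⟩
    show Fm lam C z * _ = _
    rw [← Fm_Gm, Gm_Fm m₀ lam h1]
  let e : C ⊗[R] M ≃ₗ[R] lIdeal (R := R) ((1 : C) ⊗ₜ[R] g1 m₀ lam) :=
    LinearEquiv.ofLinearMap (LinearMap.codRestrict _ (Fm lam C) hmem)
      ((Gm m₀ C) ∘ₗ (lIdeal (R := R) ((1 : C) ⊗ₜ[R] g1 m₀ lam)).subtype)
      (by
        apply LinearMap.ext
        intro y
        apply Subtype.ext
        show Fm lam C (Gm m₀ C (y : C ⊗[R] Module.End R M)) = y
        rw [Fm_Gm]
        exact (mem_lIdeal_iff hid y.1).1 y.2)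
      (by
        apply LinearMap.ext
        intro z
        exact Gm_Fm m₀ lam h1 C z)
  rw [← congrFun (Module.rankAtStalk_eq_of_equiv (R := R) e) p, Module.rankAtStalk_tensorProduct,
    Pi.mul_apply]

end ranks

section cancel

universe u v w

variable {R : Type u} [CommRing R] (hR : LGRing.IsLGRing R)
  (A B : Type v) [Ring A] [Algebra R A] [IsAzumaya R A] [Ring B] [Algebra R B] [IsAzumaya R B]
  (hdeg : ∀ p : PrimeSpectrum R, Module.rankAtStalk (R := R) A p = Module.rankAtStalk (R := R) B p)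
  (P Q : Type w) [AddCommGroup P] [Module R P] [Module.Finite R P] [Module.Projective R P]
  [FaithfulSMul R P] [AddCommGroup Q] [Module R Q] [Module.Finite R Q] [Module.Projective R Q]
  [FaithfulSMul R Q]

include hR hdeg in
/-- cancellation: `A ⊗ End P ≃ B ⊗ End Q` with `A`, `B` of the same rank implies `A ≃ B` -/
theorem cancel_core (e : A ⊗[R] Module.End R P ≃ₐ[R] B ⊗[R] Module.End R Q) :
    Nonempty (A ≃ₐ[R] B) := by
  have hfA : Module.Finite R A := IsAzumaya.toFinite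
  have hpA : Module.Projective R A := IsAzumaya.toProjective
  have hfB : Module.Finite R B := IsAzumaya.toFinite
  have hpB : Module.Projective R B := IsAzumaya.toProjective
  have hAzP : IsAzumaya R (Module.End R P) := Groth.Agent.S19589.result R P
  have hAzQ : IsAzumaya R (Module.End R Q) := Groth.Agent.S19589.result R Q
  have hfEP : Module.Finite R (Module.End R P) := hAzP.toFinite
  have hpEP : Module.Projective R (Module.End R P) := hAzP.toProjective
  have hfEQ : Module.Finite R (Module.End R Q) := hAzQ.toFinite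
  have hpEQ : Module.Projective R (Module.End R Q) := hAzQ.toProjective
  have hAzΓ : IsAzumaya R (B ⊗[R] Module.End R Q) := Groth.Agent.S19587.result R B _
  obtain ⟨p₀, lam, hlam⟩ := Groth.Agent.S16598.result hR P
  obtain ⟨q₀, mu, hmu⟩ := Groth.Agent.S16598.result hR Q
  set ε₀ : A ⊗[R] Module.End R P := (1 : A) ⊗ₜ[R] g1 p₀ lam with hε₀
  set ε' : B ⊗[R] Module.End R Q := (1 : B) ⊗ₜ[R] g1 q₀ mu with hε'
  set ε : B ⊗[R] Module.End R Q := e ε₀ with hε
  have hidε₀ : IsIdempotentElem ε₀ := tmul_g1_idem p₀ lam hlam A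
  have hidε' : IsIdempotentElem ε' := tmul_g1_idem q₀ mu hmu B
  have hidε : IsIdempotentElem ε := hidε₀.map e
  -- ranks
  have hPQ : ∀ p : PrimeSpectrum R,
      Module.rankAtStalk (R := R) P p = Module.rankAtStalk (R := R) Q p := by
    intro p
    have h1 := congrFun (Module.rankAtStalk_eq_of_equiv (R := R) e.toLinearEquiv) p
    rw [Module.rankAtStalk_tensorProduct, Module.rankAtStalk_tensorProduct, Pi.mul_apply,
      Pi.mul_apply, rankAtStalk_end, rankAtStalk_end, hdeg p] at h1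
    have hpos : 0 < Module.rankAtStalk (R := R) B p := rankAtStalk_pos_of_faithful B p
    have h2 := Nat.eq_of_mul_eq_mul_left hpos h1
    exact Nat.pow_left_injective (by norm_num) h2
  have hrank : ∀ p : PrimeSpectrum R, Module.rankAtStalk (R := R) (lIdeal (R := R) ε) p =
      Module.rankAtStalk (R := R) (lIdeal (R := R) ε') p := by
    intro p
    rw [hε, rankAtStalk_lIdeal_map e ε₀ p, hε₀, hε',
      rankAtStalk_lIdeal_tmul_g1 A p₀ lam hlam p, rankAtStalk_lIdeal_tmul_g1 B q₀ mu hmu p,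
      hdeg p, hPQ p]
  obtain ⟨x, y, hx1, hx2, hy1, hy2, hxy, hyx⟩ := exists_equiv_idempotents hR hidε hidε' hrank
  -- the homomorphism
  let ca : A →ₗ[R] B ⊗[R] Module.End R Q :=
    (LinearMap.mulLeft R x) ∘ₗ (LinearMap.mulRight R y) ∘ₗ e.toLinearEquiv.toLinearMap ∘ₗ
      (TensorProduct.mk R A (Module.End R P)).flip (g1 p₀ lam)
  have hca : ∀ a, ca a = x * (e (a ⊗ₜ[R] g1 p₀ lam) * y) := fun a => rfl
  let ψ : A →ₗ[R] B := (rhoC q₀ mu B) ∘ₗ ca
  have hβ : ∀ a, ψ a ⊗ₜ[R] g1 q₀ mu = ca a := by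
    intro a
    show rhoC q₀ mu B (ca a) ⊗ₜ[R] g1 q₀ mu = ca a
    rw [← corner_eq, ← hε', hca, ← mul_assoc, ← mul_assoc, hx1, mul_assoc, mul_assoc, hy2]
  have hinj : ∀ b b' : B, b ⊗ₜ[R] g1 q₀ mu = b' ⊗ₜ[R] g1 q₀ mu → b = b' := by
    intro b b' h
    have := congrArg (rhoC q₀ mu B) h
    rwa [rhoC_tmul_g1 q₀ mu hmu, rhoC_tmul_g1 q₀ mu hmu] at this
  have hone : ψ 1 = 1 := by
    apply hinj
    rw [hβ, hca]
    show x * (e ε₀ * y) = ε'
    rw [← hε, hy1, hxy]
  have hmul : ∀ a a', ψ (a * a') = ψ a * ψ a' := by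
    intro a a'
    apply hinj
    have h1 : (ψ a * ψ a') ⊗ₜ[R] g1 q₀ mu =
        (ψ a ⊗ₜ[R] g1 q₀ mu) * (ψ a' ⊗ₜ[R] g1 q₀ mu) := by
      rw [Algebra.TensorProduct.tmul_mul_tmul, (g1_idem q₀ mu hmu).eq]
    rw [h1, hβ, hβ, hβ, hca, hca, hca]
    have h2 : (a * a') ⊗ₜ[R] g1 p₀ lam =
        (a ⊗ₜ[R] g1 p₀ lam) * ε₀ * (a' ⊗ₜ[R] g1 p₀ lam) := by
      rw [hε₀, Algebra.TensorProduct.tmul_mul_tmul, Algebra.TensorProduct.tmul_mul_tmul, mul_one,
        (g1_idem p₀ lam hlam).eq, (g1_idem p₀ lam hlam).eq]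
    rw [h2, map_mul, map_mul, ← hε, ← hyx]
    simp only [mul_assoc]
  let ψa : A →ₐ[R] B := AlgHom.ofLinearMap ψ hone hmul
  exact ⟨AlgEquiv.ofBijective ψa
    (Groth.Agent.Lib.T2H2.AzHom.bijective_of_isAzumaya ψa hdeg)⟩

end cancel

end Groth.Agent.Lib.T2H2.LGAz
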