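import Mathlib
import Groth.Agent.Lib.T2H2LGAzF

/-!
# Cancellation for Azumaya algebras over an LG-ring: tensor and matrix forms
-/

namespace Groth.Agent.Lib.T2H2.LGAz

open scoped TensorProduct

section

universe u v w

variable {R : Type u} [CommRing R]

/-- ranks can be cancelled against a faithfully projective tensor factor -/
theorem rank_eq_of_tensor_equiv (A B : Type*) [AddCommGroup A] [Module R A] [Module.Finite R A]
    [Module.Projective R A] [AddCommGroup B] [Module R B] [Module.Finite R B]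
    [Module.Projective R B] (X : Type*) [AddCommGroup X] [Module R X] [Module.Finite R X]
    [Module.Projective R X] [FaithfulSMul R X] (e : A ⊗[R] X ≃ₗ[R] B ⊗[R] X)
    (p : PrimeSpectrum R) :
    Module.rankAtStalk (R := R) A p = Module.rankAtStalk (R := R) B p := by
  have h1 := congrFun (Module.rankAtStalk_eq_of_equiv (R := R) e) p
  rw [Module.rankAtStalk_tensorProduct, Module.rankAtStalk_tensorProduct, Pi.mul_apply,
    Pi.mul_apply] at h1
  exact Nat.eq_of_mul_eq_mul_right (rankAtStalk_pos_of_faithful X p) h1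

variable (hR : LGRing.IsLGRing R)

include hR in
/-- `A ⊗ C ≃ B ⊗ C` implies `A ≃ B` -/
theorem cancel_tensor (A B C : Type v) [Ring A] [Algebra R A] [IsAzumaya R A] [Ring B]
    [Algebra R B] [IsAzumaya R B] [Ring C] [Algebra R C] [IsAzumaya R C]
    (e : A ⊗[R] C ≃ₐ[R] B ⊗[R] C) : Nonempty (A ≃ₐ[R] B) := by
  have hfA : Module.Finite R A := IsAzumaya.toFinite
  have hpA : Module.Projective R A := IsAzumaya.toProjective
  have hfB : Module.Finite R B := IsAzumaya.toFinite
  have hpB : Module.Projective R B := IsAzumaya.toProjective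
  have hfC : Module.Finite R C := IsAzumaya.toFinite
  have hpC : Module.Projective R C := IsAzumaya.toProjective
  have hdeg : ∀ p : PrimeSpectrum R,
      Module.rankAtStalk (R := R) A p = Module.rankAtStalk (R := R) B p :=
    fun p => rank_eq_of_tensor_equiv A B C e.toLinearEquiv p
  let φ : C ⊗[R] Cᵐᵒᵖ ≃ₐ[R] Module.End R C :=
    AlgEquiv.ofBijective (AlgHom.mulLeftRight R C) IsAzumaya.bij
  let e' : A ⊗[R] Module.End R C ≃ₐ[R] B ⊗[R] Module.End R C :=
    (Algebra.TensorProduct.congr (AlgEquiv.refl : A ≃ₐ[R] A) φ.symm).trans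
      ((Algebra.TensorProduct.assoc R R R A C Cᵐᵒᵖ).symm.trans
        ((Algebra.TensorProduct.congr e (AlgEquiv.refl : Cᵐᵒᵖ ≃ₐ[R] Cᵐᵒᵖ)).trans
          ((Algebra.TensorProduct.assoc R R R B C Cᵐᵒᵖ).trans
            (Algebra.TensorProduct.congr (AlgEquiv.refl : B ≃ₐ[R] B) φ))))
  exact cancel_core hR A B hdeg C C e'

include hR in
/-- `M_n(A) ≃ M_n(B)` implies `A ≃ B` -/
theorem cancel_matrix (A B : Type v) [Ring A] [Algebra R A] [IsAzumaya R A] [Ring B]
    [Algebra R B] [IsAzumaya R B] (n : ℕ) (hn : 0 < n)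
    (e : Matrix (Fin n) (Fin n) A ≃ₐ[R] Matrix (Fin n) (Fin n) B) : Nonempty (A ≃ₐ[R] B) := by
  have hfA : Module.Finite R A := IsAzumaya.toFinite
  have hpA : Module.Projective R A := IsAzumaya.toProjective
  have hfB : Module.Finite R B := IsAzumaya.toFinite
  have hpB : Module.Projective R B := IsAzumaya.toProjective
  have hfaith : FaithfulSMul R (Fin n → R) := by
    refine ⟨fun {r₁ r₂} h => ?_⟩
    have h1 := congrFun (h (fun _ => 1)) ⟨0, hn⟩
    simpa using h1
  let τ : Module.End R (Fin n → R) ≃ₐ[R] Matrix (Fin n) (Fin n) R := LinearMap.toMatrixAlgEquiv'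
  let e' : A ⊗[R] Module.End R (Fin n → R) ≃ₐ[R] B ⊗[R] Module.End R (Fin n → R) :=
    (Algebra.TensorProduct.congr (AlgEquiv.refl : A ≃ₐ[R] A) τ).trans
      ((matrixEquivTensor (Fin n) R A).symm.trans
        (e.trans ((matrixEquivTensor (Fin n) R B).trans
          (Algebra.TensorProduct.congr (AlgEquiv.refl : B ≃ₐ[R] B) τ.symm))))
  have hAzE : IsAzumaya R (Module.End R (Fin n → R)) := Groth.Agent.S19589.result R _
  have hfE : Module.Finite R (Module.End R (Fin n → R)) := hAzE.toFinite
  have hpE : Module.Projective R (Module.End R (Fin n → R)) := hAzE.toProjective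
  have hdeg : ∀ p : PrimeSpectrum R,
      Module.rankAtStalk (R := R) A p = Module.rankAtStalk (R := R) B p :=
    fun p => rank_eq_of_tensor_equiv A B (Module.End R (Fin n → R)) e'.toLinearEquiv p
  exact cancel_core hR A B hdeg (Fin n → R) (Fin n → R) e'

end

end Groth.Agent.Lib.T2H2.LGAz
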