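import Mathlib
import Groth.Agent.Lib.T2H2LGAzD

/-!
# Subequivalence of idempotents in an Azumaya algebra over an LG-ring

If `rank (Γ ε') ≤ rank (Γ ε)` then `ε'` is equivalent to a subidempotent of `ε`: there are
`x ∈ ε' Γ ε`, `y ∈ ε Γ ε'` with `x y = ε'`.
-/

namespace Groth.Agent.Lib.T2H2.LGAz

open scoped TensorProduct

section simple

variable {K : Type*} [Field K] {D : Type*} [Ring D] [Algebra K D] [Module.Finite K D]
  [IsSimpleRing D]

theorem exists_split_surjective_of_finrank_le (M₁ M₂ : Type*) [AddCommGroup M₁] [Module D M₁]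
    [Module K M₁] [IsScalarTower K D M₁] [Module.Finite D M₁]
    [AddCommGroup M₂] [Module D M₂] [Module K M₂] [IsScalarTower K D M₂] [Module.Finite D M₂]
    (h : Module.finrank K M₂ ≤ Module.finrank K M₁) :
    ∃ (f : M₁ →ₗ[D] M₂) (g : M₂ →ₗ[D] M₁), ∀ v, f (g v) = v := by
  have hart : IsArtinianRing D := IsArtinianRing.of_finite K D
  have hfin₁ : Module.Finite K M₁ := Module.Finite.trans D M₁
  have hfin₂ : Module.Finite K M₂ := Module.Finite.trans D M₂
  by_cases hs2 : Subsingleton M₂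
  · exact ⟨0, 0, fun v => Subsingleton.elim _ _⟩
  · rw [not_subsingleton_iff_nontrivial] at hs2
    have hs : Nontrivial M₁ := by
      by_contra hn
      rw [not_nontrivial_iff_subsingleton] at hn
      have h0 : Module.finrank K M₁ = 0 := Module.finrank_zero_of_subsingleton
      rw [h0, Nat.le_zero] at h
      have := Module.finrank_zero_iff.mp h
      exact not_subsingleton M₂ this
    obtain ⟨n₁, _, S₁, hS₁, ⟨e₁⟩⟩ := (IsSimpleRing.isIsotypic D M₁).linearEquiv_fun
    obtain ⟨n₂, _, S₂, hS₂, ⟨e₂⟩⟩ := (IsSimpleRing.isIsotypic D M₂).linearEquiv_fun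
    obtain ⟨g⟩ := nonempty_linearEquiv_of_isSimpleModule (D := D) S₁ S₂
    have hf₁ : Module.Finite K S₁ :=
      Module.Finite.of_injective (S₁.subtype.restrictScalars K) S₁.subtype_injective
    have hf₂ : Module.Finite K S₂ :=
      Module.Finite.of_injective (S₂.subtype.restrictScalars K) S₂.subtype_injective
    have hd : Module.finrank K S₁ = Module.finrank K S₂ :=
      LinearEquiv.finrank_eq (g.restrictScalars K)
    have hpos : 0 < Module.finrank K S₁ := by
      have : Nontrivial S₁ := IsSimpleModule.nontrivial D S₁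
      exact Module.finrank_pos
    have h1 : Module.finrank K M₁ = n₁ * Module.finrank K S₁ := by
      rw [LinearEquiv.finrank_eq (e₁.restrictScalars K), Module.finrank_pi_fintype]
      simp
    have h2 : Module.finrank K M₂ = n₂ * Module.finrank K S₂ := by
      rw [LinearEquiv.finrank_eq (e₂.restrictScalars K), Module.finrank_pi_fintype]
      simp
    rw [h1, h2, ← hd] at h
    have hn : n₂ ≤ n₁ := Nat.le_of_mul_le_mul_right h hpos
    -- the coordinate projection and extension by zero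
    let pr : (Fin n₁ → S₁) →ₗ[D] (Fin n₂ → S₂) :=
      (LinearEquiv.piCongrRight fun _ => g).toLinearMap ∘ₗ LinearMap.funLeft D S₁ (Fin.castLE hn)
    let ex : (Fin n₂ → S₂) →ₗ[D] (Fin n₁ → S₁) :=
      { toFun := fun v j => if hj : (j : ℕ) < n₂ then g.symm (v ⟨j, hj⟩) else 0
        map_add' := by
          intro v w
          funext j
          by_cases hj : (j : ℕ) < n₂
          · simp [hj]
          · simp [hj]
        map_smul' := by
          intro c v
          funext j
          by_cases hj : (j : ℕ) < n₂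
          · simp [hj]
          · simp [hj] }
    have hpe : ∀ v, pr (ex v) = v := by
      intro v
      funext j
      show g ((ex v) (Fin.castLE hn j)) = v j
      have hj : ((Fin.castLE hn j : Fin n₁) : ℕ) < n₂ := j.2
      show g (if hj : ((Fin.castLE hn j : Fin n₁) : ℕ) < n₂ then
        g.symm (v ⟨(Fin.castLE hn j : Fin n₁), hj⟩) else 0) = v j
      rw [dif_pos hj, LinearEquiv.apply_symm_apply]
      rfl
    refine ⟨e₂.symm.toLinearMap ∘ₗ pr ∘ₗ e₁.toLinearMap,
      e₁.symm.toLinearMap ∘ₗ ex ∘ₗ e₂.toLinearMap, fun v => ?_⟩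
    simp only [LinearMap.comp_apply, LinearEquiv.coe_coe, LinearEquiv.apply_symm_apply, hpe,
      LinearEquiv.symm_apply_apply]

/-- an idempotent whose left ideal has smaller dimension is subequivalent -/
theorem exists_le_of_finrank_le (e e' : D) (he : IsIdempotentElem e)
    (he' : IsIdempotentElem e')
    (h : Module.finrank K (Ideal.span ({e'} : Set D)) ≤
      Module.finrank K (Ideal.span ({e} : Set D))) :
    ∃ a b : D, e * a = a ∧ a * e' = a ∧ e' * b = b ∧ b * e = b ∧ b * a = e' := by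
  have hf₁ : Module.Finite D (Ideal.span ({e} : Set D)) :=
    Module.Finite.span_of_finite D (Set.finite_singleton e)
  have hf₂ : Module.Finite D (Ideal.span ({e'} : Set D)) :=
    Module.Finite.span_of_finite D (Set.finite_singleton e')
  obtain ⟨φ, ψ, hφψ⟩ := exists_split_surjective_of_finrank_le (K := K) (D := D)
    (Ideal.span ({e} : Set D)) (Ideal.span ({e'} : Set D)) h
  have hmem : e ∈ Ideal.span ({e} : Set D) := Ideal.subset_span rfl
  have hmem' : e' ∈ Ideal.span ({e'} : Set D) := Ideal.subset_span rfl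
  let E : Ideal.span ({e} : Set D) := ⟨e, hmem⟩
  let E' : Ideal.span ({e'} : Set D) := ⟨e', hmem'⟩
  have hright : ∀ (u : D) (x : Ideal.span ({u} : Set D)), IsIdempotentElem u → (x : D) * u = x := by
    intro u x hu
    obtain ⟨c, hc⟩ := Ideal.mem_span_singleton'.mp x.2
    rw [← hc, mul_assoc, hu.eq]
  have hsm : ∀ x : Ideal.span ({e} : Set D), x = (x : D) • E := by
    intro x
    apply Subtype.ext
    show (x : D) = (x : D) * e
    exact (hright e x he).symm
  have hsm' : ∀ x : Ideal.span ({e'} : Set D), x = (x : D) • E' := by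
    intro x
    apply Subtype.ext
    show (x : D) = (x : D) * e'
    exact (hright e' x he').symm
  refine ⟨(φ E : D), (ψ E' : D), ?_, hright e' _ he', ?_, hright e _ he, ?_⟩
  · have h1 : φ E = e • φ E := by
      conv_lhs => rw [hsm E]
      rw [map_smul]
    exact (congrArg Subtype.val h1).symm
  · have h1 : ψ E' = e' • ψ E' := by
      conv_lhs => rw [hsm' E']
      rw [map_smul]
    exact (congrArg Subtype.val h1).symm
  · have h1 : φ (ψ E') = (ψ E' : D) • φ E := by
      conv_lhs => rw [hsm (ψ E')]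
      rw [map_smul]
    rw [hφψ] at h1
    exact (congrArg Subtype.val h1).symm

end simple

section residue

universe u v

variable {R : Type u} [CommRing R] {Γ : Type v} [Ring Γ] [Algebra R Γ] [IsAzumaya R Γ]

theorem exists_residue_le (m : Ideal R) [hm : m.IsMaximal] {ε ε' : Γ} (hε : IsIdempotentElem ε)
    (hε' : IsIdempotentElem ε')
    (hrank : Module.rankAtStalk (lIdeal (R := R) ε') ⟨m, hm.isPrime⟩ ≤
      Module.rankAtStalk (lIdeal (R := R) ε) ⟨m, hm.isPrime⟩) :
    ∃ g₁ g₂ : Γ, ((1 : R ⧸ m) ⊗ₜ[R] (ε' * g₁ * ε * (ε * g₂ * ε') - ε') : (R ⧸ m) ⊗[R] Γ) = 0 := by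
  let _ := Ideal.Quotient.field m
  let K := R ⧸ m
  let D := K ⊗[R] Γ
  have hAz : IsAzumaya K D := Groth.Agent.Lib.LeadAzumaya.isAzumaya_baseChange K Γ
  have hsimple : IsSimpleRing D := Groth.Agent.Lib.LeadAzumaya.isSimpleRing_of_isAzumaya_field (k := K)
  have hfin : Module.Finite K D := hAz.toFinite
  have hfinΓ : Module.Finite R Γ := IsAzumaya.toFinite
  have hprojΓ : Module.Projective R Γ := IsAzumaya.toProjective
  let ι : Γ →ₐ[R] D := Algebra.TensorProduct.includeRight
  have hι : ∀ γ, ι γ = (1 : K) ⊗ₜ[R] γ := fun _ => rfl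
  have hιsurj : Function.Surjective ι := by
    intro y
    induction y using TensorProduct.induction_on with
    | zero => exact ⟨0, map_zero _⟩
    | add x y hx hy =>
      obtain ⟨a, rfl⟩ := hx
      obtain ⟨b, rfl⟩ := hy
      exact ⟨a + b, map_add _ _ _⟩
    | tmul k γ =>
      obtain ⟨r, rfl⟩ := Ideal.Quotient.mk_surjective k
      refine ⟨r • γ, ?_⟩
      rw [hι, TensorProduct.tmul_smul, TensorProduct.smul_tmul', Algebra.smul_def, mul_one]
      rfl
  have he : IsIdempotentElem (ι ε) := hε.map ι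
  have he' : IsIdempotentElem (ι ε') := hε'.map ι
  have hdim : Module.finrank K (Ideal.span ({ι ε'} : Set D)) ≤
      Module.finrank K (Ideal.span ({ι ε} : Set D)) := by
    rw [hι, hι, finrank_span_eq m hε, finrank_span_eq m hε']
    exact hrank
  obtain ⟨a, b, ha1, ha2, hb1, hb2, hba⟩ :=
    exists_le_of_finrank_le (K := K) (ι ε) (ι ε') he he' hdim
  obtain ⟨g₁, hg₁⟩ := hιsurj b
  obtain ⟨g₂, hg₂⟩ := hιsurj a
  refine ⟨g₁, g₂, ?_⟩
  rw [← hι, map_sub, map_mul, map_mul, map_mul, map_mul, map_mul, hg₁, hg₂, hb1, hb2, ha1, ha2, hba,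
    sub_self]

end residue

section main

universe u v

variable {R : Type u} [CommRing R] (hR : LGRing.IsLGRing R) {Γ : Type v} [Ring Γ] [Algebra R Γ]
  [IsAzumaya R Γ]

include hR in
/-- subequivalence of idempotents of an Azumaya algebra over an LG-ring -/
theorem exists_le_idempotents {ε ε' : Γ} (hε : IsIdempotentElem ε) (hε' : IsIdempotentElem ε')
    (hrank : ∀ p : PrimeSpectrum R, Module.rankAtStalk (lIdeal (R := R) ε') p ≤
      Module.rankAtStalk (lIdeal (R := R) ε) p) :
    ∃ x y : Γ, ε' * x = x ∧ x * ε = x ∧ ε * y = y ∧ y * ε' = y ∧ x * y = ε' := by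
  classical
  have hfinΓ : Module.Finite R Γ := IsAzumaya.toFinite
  have hprojΓ : Module.Projective R Γ := IsAzumaya.toProjective
  obtain ⟨t, γ, hγ⟩ := Module.Finite.exists_fin (R := R) (M := Γ)
  have hspan : ∀ g : Γ, ∃ c : Fin t → R, ∑ k, c k • γ k = g := by
    intro g
    have hg : g ∈ Submodule.span R (Set.range γ) := by
      rw [hγ]
      trivial
    exact (Submodule.mem_span_range_iff_exists_fun R).1 hg
  let cf : Fin t → Fin t → Γ := fun k l => ε' * γ k * ε * (ε * γ l * ε')
  let d : Γ := 1 - ε'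
  have hz : ∀ s : Fin t ⊕ Fin t → R, zval cf d s =
      ε' * (∑ k, s (Sum.inl k) • γ k) * ε * (ε * (∑ l, s (Sum.inr l) • γ l) * ε') + (1 - ε') := by
    intro s
    have hP : ε' * (∑ k, s (Sum.inl k) • γ k) * ε = ∑ k, s (Sum.inl k) • (ε' * γ k * ε) := by
      rw [Finset.mul_sum, Finset.sum_mul]
      apply Finset.sum_congr rfl
      intro k _
      rw [mul_smul_comm, smul_mul_assoc]
    have hQ : ε * (∑ l, s (Sum.inr l) • γ l) * ε' = ∑ l, s (Sum.inr l) • (ε * γ l * ε') := by
      rw [Finset.mul_sum, Finset.sum_mul]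
      apply Finset.sum_congr rfl
      intro l _
      rw [mul_smul_comm, smul_mul_assoc]
    rw [hP, hQ, Finset.sum_mul_sum]
    unfold zval
    congr 1
    apply Finset.sum_congr rfl
    intro k _
    apply Finset.sum_congr rfl
    intro l _
    rw [smul_mul_smul_comm]
  have hres : ∀ (m : Ideal R) [m.IsMaximal], ∃ s : Fin t ⊕ Fin t → R,
      ∀ lam : Γ →ₗ[R] R, lam (zval cf d s - 1) ∈ m := by
    intro m hm
    obtain ⟨g₁, g₂, hg⟩ := exists_residue_le m hε hε' (hrank ⟨m, hm.isPrime⟩)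
    obtain ⟨c₁, hc₁⟩ := hspan g₁
    obtain ⟨c₂, hc₂⟩ := hspan g₂
    refine ⟨Sum.elim c₁ c₂, fun lam => ?_⟩
    apply functional_mem_of_tmul_eq_zero m _ _ lam
    rw [hz]
    simp only [Sum.elim_inl, Sum.elim_inr]
    rw [hc₁, hc₂]
    have : ε' * g₁ * ε * (ε * g₂ * ε') + (1 - ε') - 1 = ε' * g₁ * ε * (ε * g₂ * ε') - ε' := by
      abel
    rw [this]
    exact hg
  obtain ⟨s, hs⟩ := exists_isUnit_zval hR cf d hres
  rw [hz] at hs
  set x : Γ := ε' * (∑ k, s (Sum.inl k) • γ k) * ε with hx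
  set y : Γ := ε * (∑ l, s (Sum.inr l) • γ l) * ε' with hy
  have hx1 : ε' * x = x := by rw [hx, ← mul_assoc, ← mul_assoc, hε'.eq]
  have hx2 : x * ε = x := by rw [hx, mul_assoc, hε.eq]
  have hy1 : ε * y = y := by rw [hy, ← mul_assoc, ← mul_assoc, hε.eq]
  have hy2 : y * ε' = y := by rw [hy, mul_assoc, hε'.eq]
  obtain ⟨u, hu⟩ := hs
  have hu' : (u : Γ) = x * y + (1 - ε') := hu
  have hc1 : ε' * (u : Γ) = x * y := by
    rw [hu', mul_add, ← mul_assoc, hx1, mul_sub, mul_one, hε'.eq, sub_self, add_zero]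
  have hc2 : (u : Γ) * ε' = x * y := by
    rw [hu', add_mul, mul_assoc, hy2, sub_mul, one_mul, hε'.eq, sub_self, add_zero]
  have hcomm : ε' * ((u⁻¹ : Γˣ) : Γ) = ((u⁻¹ : Γˣ) : Γ) * ε' :=
    (show Commute ε' (u : Γ) from hc1.trans hc2.symm).units_inv_right
  set y₂ : Γ := y * ((u⁻¹ : Γˣ) : Γ) with hy₂
  have hy₂1 : ε * y₂ = y₂ := by rw [hy₂, ← mul_assoc, hy1]
  have hy₂2 : y₂ * ε' = y₂ := by
    rw [hy₂, mul_assoc, ← hcomm, ← mul_assoc, hy2]
  have hxy₂ : x * y₂ = ε' := by
    rw [hy₂, ← mul_assoc, ← hc1, mul_assoc, Units.mul_inv, mul_one]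
  exact ⟨x, y₂, hx1, hx2, hy₂1, hy₂2, hxy₂⟩

end main

end Groth.Agent.Lib.T2H2.LGAz
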