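import Mathlib
import Groth.Agent.Lib.T2H2LGAzH
import Groth.Agent.S19587

/-!
# Projective modules over an Azumaya algebra over an LG-ring: surjections from rank inequalities

A finitely generated projective left `A`-module `M` is a retract of `ι → A`; the idempotent
`i ∘ p` is right multiplication by an idempotent matrix `ε_M ∈ Γ = Matrix ι ι A`, and the left ideal
`Γ ε_M` is `R`-isomorphic to `ι → M`.  Subequivalence of the idempotents `ε_N`, `ε_M` in the Azumaya
algebra `Γ` then yields a split surjection `M → N`.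
-/

namespace Groth.Agent.Lib.T2H2.LGAz

open scoped TensorProduct

section retract

variable {A : Type*} [Ring A]

/-- a retract of a finite free module can be extended along an injection of index sets -/
theorem exists_retract_of_injective {α β : Type*} (g : α → β)
    (hg : Function.Injective g) (M : Type*) [AddCommGroup M] [Module A M]
    (i : M →ₗ[A] (α → A)) (p : (α → A) →ₗ[A] M) (h : ∀ v, p (i v) = v) :
    ∃ (i' : M →ₗ[A] (β → A)) (p' : (β → A) →ₗ[A] M), ∀ v, p' (i' v) = v := by
  refine ⟨Function.ExtendByZero.linearMap A g ∘ₗ i, p ∘ₗ LinearMap.funLeft A A g, fun v => ?_⟩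
  simp only [LinearMap.comp_apply]
  have h1 : LinearMap.funLeft A A g (Function.ExtendByZero.linearMap A g (i v)) = i v := by
    funext a
    show Function.extend g (i v) 0 (g a) = i v a
    exact hg.extend_apply _ _ _
  rw [h1, h]

variable {ι : Type*} [Fintype ι] [DecidableEq ι] {M : Type*} [AddCommGroup M] [Module A M]

/-- the matrix of the idempotent endomorphism `i ∘ p` of `ι → A` (acting on row vectors) -/
noncomputable def idemMat (i : M →ₗ[A] (ι → A)) (p : (ι → A) →ₗ[A] M) : Matrix ι ι A :=
  LinearMap.toMatrixRight' (i ∘ₗ p)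

theorem vecMul_idemMat (i : M →ₗ[A] (ι → A)) (p : (ι → A) →ₗ[A] M) (v : ι → A) :
    Matrix.vecMul v (idemMat i p) = i (p v) := by
  rw [← Matrix.toLinearMapRight'_apply]
  unfold idemMat
  rw [LinearEquiv.symm_apply_apply]
  rfl

theorem idemMat_idem (i : M →ₗ[A] (ι → A)) (p : (ι → A) →ₗ[A] M) (h : ∀ v, p (i v) = v) :
    IsIdempotentElem (idemMat i p) := by
  apply Matrix.toLinearMapRight'.injective
  apply LinearMap.ext
  intro v
  rw [Matrix.toLinearMapRight'_mul_apply, Matrix.toLinearMapRight'_apply,
    Matrix.toLinearMapRight'_apply, vecMul_idemMat, vecMul_idemMat, h]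

end retract

section rows

variable {R : Type*} [CommRing R] {A : Type*} [Ring A] [Algebra R A]
  {ι : Type*} [Fintype ι] [DecidableEq ι] {M : Type*} [AddCommGroup M] [Module A M] [Module R M]
  [IsScalarTower R A M]

/-- rows of a matrix mapped into `M` -/
noncomputable def rowsF (p : (ι → A) →ₗ[A] M) : Matrix ι ι A →ₗ[R] (ι → M) where
  toFun X := fun j => p (X j)
  map_add' X Y := by
    funext j
    have h1 : (X + Y) j = X j + Y j := rfl
    show p ((X + Y) j) = p (X j) + p (Y j)
    rw [h1, map_add]
  map_smul' r X := by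
    funext j
    have h1 : (r • X) j = r • X j := rfl
    show p ((r • X) j) = r • p (X j)
    rw [h1, LinearMap.map_smul_of_tower]

/-- a family of elements of `M` as the rows of a matrix -/
noncomputable def rowsG (i : M →ₗ[A] (ι → A)) : (ι → M) →ₗ[R] Matrix ι ι A where
  toFun m := Matrix.of fun j => i (m j)
  map_add' m m' := by
    ext j l
    show i ((m + m') j) l = i (m j) l + i (m' j) l
    rw [Pi.add_apply, map_add]
    rfl
  map_smul' r m := by
    ext j l
    show i ((r • m) j) l = r • i (m j) l
    rw [Pi.smul_apply, LinearMap.map_smul_of_tower]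
    rfl

theorem rowsG_mem (i : M →ₗ[A] (ι → A)) (p : (ι → A) →ₗ[A] M) (h : ∀ v, p (i v) = v)
    (m : ι → M) : rowsG (R := R) i m ∈ lIdeal (R := R) (idemMat i p) := by
  rw [mem_lIdeal_iff (idemMat_idem i p h)]
  ext j l
  have h1 : (rowsG (R := R) i m * idemMat i p) j = Matrix.vecMul (rowsG (R := R) i m j)
      (idemMat i p) := Matrix.mul_apply_eq_vecMul _ _ _
  rw [h1, vecMul_idemMat]
  show i (p (i (m j))) l = i (m j) l
  rw [h]

/-- `Γ ε_M ≃ ι → M` -/
noncomputable def rowsEquiv (i : M →ₗ[A] (ι → A)) (p : (ι → A) →ₗ[A] M) (h : ∀ v, p (i v) = v) :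
    lIdeal (R := R) (idemMat i p) ≃ₗ[R] (ι → M) :=
  LinearEquiv.ofLinearMap ((rowsF (R := R) p) ∘ₗ (lIdeal (R := R) (idemMat i p)).subtype)
    (LinearMap.codRestrict _ (rowsG (R := R) i) (rowsG_mem i p h))
    (by
      apply LinearMap.ext
      intro m
      funext j
      show p (i (m j)) = m j
      rw [h])
    (by
      apply LinearMap.ext
      intro X
      apply Subtype.ext
      have hX : (X : Matrix ι ι A) * idemMat i p = X := (mem_lIdeal_iff (idemMat_idem i p h) _).1 X.2
      ext j l
      show i (p ((X : Matrix ι ι A) j)) l = (X : Matrix ι ι A) j l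
      rw [← vecMul_idemMat, ← Matrix.mul_apply_eq_vecMul, hX])

theorem finite_projective_of_retract [Module.Finite R A] [Module.Projective R A]
    (i : M →ₗ[A] (ι → A)) (p : (ι → A) →ₗ[A] M) (h : ∀ v, p (i v) = v) :
    Module.Finite R M ∧ Module.Projective R M := by
  have hsurj : Function.Surjective (p.restrictScalars R) := fun v => ⟨i v, h v⟩
  have hpi : Module.Projective R (ι → A) :=
    Module.Projective.of_equiv (DFinsupp.linearEquivFunOnFintype (R := R) (ι := ι)
      (M := fun _ => A))
  exact ⟨Module.Finite.of_surjective (p.restrictScalars R) hsurj,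
    Module.Projective.of_split (i.restrictScalars R) (p.restrictScalars R) (LinearMap.ext h)⟩

theorem rankAtStalk_lIdeal_idemMat [Module.Finite R A] [Module.Projective R A]
    (i : M →ₗ[A] (ι → A)) (p : (ι → A) →ₗ[A] M) (h : ∀ v, p (i v) = v) (q : PrimeSpectrum R) :
    Module.rankAtStalk (R := R) (lIdeal (R := R) (idemMat i p)) q =
      Fintype.card ι * Module.rankAtStalk (R := R) M q := by
  obtain ⟨hfin, hproj⟩ := finite_projective_of_retract (R := R) i p h
  rw [congrFun (Module.rankAtStalk_eq_of_equiv (R := R) (rowsEquiv (R := R) i p h)) q,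
    Module.rankAtStalk_pi, finsum_eq_sum_of_fintype, Finset.sum_const, smul_eq_mul,
    Finset.card_univ]

end rows

section main

universe u v w

variable {R : Type u} [CommRing R] (hR : LGRing.IsLGRing R) {A : Type v} [Ring A] [Algebra R A]
  [IsAzumaya R A]

include hR in
theorem exists_split_surjective_of_rank_le
    (M N : Type w) [AddCommGroup M] [Module A M] [Module R M] [IsScalarTower R A M]
    [Module.Finite A M] [Module.Projective A M] [AddCommGroup N] [Module A N] [Module R N]
    [IsScalarTower R A N] [Module.Finite A N] [Module.Projective A N]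
    (h : ∀ p : PrimeSpectrum R, Module.rankAtStalk (R := R) N p ≤ Module.rankAtStalk (R := R) M p) :
    ∃ (f : M →ₗ[A] N) (g : N →ₗ[A] M), ∀ u, f (g u) = u := by
  classical
  have hfinA : Module.Finite R A := IsAzumaya.toFinite
  have hprojA : Module.Projective R A := IsAzumaya.toProjective
  obtain ⟨nM, pM₀, iM₀, -, -, hM₀⟩ := Module.Finite.exists_comp_eq_id_of_projective A M
  obtain ⟨nN, pN₀, iN₀, -, -, hN₀⟩ := Module.Finite.exists_comp_eq_id_of_projective A N
  let ι := Fin (nM + nN + 1)
  obtain ⟨iM, pM, hM⟩ := exists_retract_of_injective (A := A) (β := ι)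
    (Fin.castLE (by omega : nM ≤ nM + nN + 1)) (Fin.castLE_injective _) M iM₀ pM₀
    (fun v => LinearMap.congr_fun hM₀ v)
  obtain ⟨iN, pN, hN⟩ := exists_retract_of_injective (A := A) (β := ι)
    (Fin.castLE (by omega : nN ≤ nM + nN + 1)) (Fin.castLE_injective _) N iN₀ pN₀
    (fun v => LinearMap.congr_fun hN₀ v)
  have hAz : IsAzumaya R (Matrix ι ι A) := by
    have h1 : IsAzumaya R (Matrix ι ι R) := IsAzumaya.matrix R ι
    have h2 : IsAzumaya R (A ⊗[R] Matrix ι ι R) := Groth.Agent.S19587.result R A (Matrix ι ι R)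
    exact IsAzumaya.of_AlgEquiv R _ _ (matrixEquivTensor ι R A).symm
  have hεM := idemMat_idem iM pM hM
  have hεN := idemMat_idem iN pN hN
  have hrank : ∀ q : PrimeSpectrum R,
      Module.rankAtStalk (R := R) (lIdeal (R := R) (idemMat iN pN)) q ≤
        Module.rankAtStalk (R := R) (lIdeal (R := R) (idemMat iM pM)) q := by
    intro q
    rw [rankAtStalk_lIdeal_idemMat iN pN hN, rankAtStalk_lIdeal_idemMat iM pM hM]
    exact Nat.mul_le_mul_left _ (h q)
  obtain ⟨x, y, hx1, hx2, hy1, hy2, hxy⟩ := exists_le_idempotents hR hεM hεN hrank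
  refine ⟨pN ∘ₗ (Matrix.toLinearMapRight' y) ∘ₗ iM, pM ∘ₗ (Matrix.toLinearMapRight' x) ∘ₗ iN,
    fun u => ?_⟩
  simp only [LinearMap.comp_apply, Matrix.toLinearMapRight'_apply]
  rw [← vecMul_idemMat iM pM, Matrix.vecMul_vecMul, Matrix.vecMul_vecMul, hy1, hxy,
    vecMul_idemMat, hN, hN]

end main

end Groth.Agent.Lib.T2H2.LGAz

namespace Groth.Agent.Lib.T2H2.LGAz

section indecomposable

universe u v w

variable {R : Type u} [CommRing R] (hR : LGRing.IsLGRing R) {A : Type v} [Ring A] [Algebra R A]
  [IsAzumaya R A]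

include hR in
/-- an indecomposable projective module of larger rank is isomorphic to any nonzero projective module
of smaller rank -/
theorem nonempty_linearEquiv_of_indecomposable_of_rank_le
    (P Q : Type w) [AddCommGroup P] [Module A P] [Module R P] [IsScalarTower R A P]
    [Module.Finite A P] [Module.Projective A P] [AddCommGroup Q] [Module A Q] [Module R Q]
    [IsScalarTower R A Q] [Module.Finite A Q] [Module.Projective A Q] [Nontrivial Q]
    (hP : ∀ e : Module.End A P, IsIdempotentElem e → e = 0 ∨ e = 1)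
    (h : ∀ p : PrimeSpectrum R, Module.rankAtStalk (R := R) Q p ≤ Module.rankAtStalk (R := R) P p) :
    Nonempty (P ≃ₗ[A] Q) := by
  obtain ⟨f, g, hfg⟩ := exists_split_surjective_of_rank_le (A := A) hR P Q h
  have hidem : IsIdempotentElem (g ∘ₗ f : Module.End A P) := by
    apply LinearMap.ext
    intro v
    show g (f (g (f v))) = g (f v)
    rw [hfg]
  rcases hP _ hidem with h0 | h1
  · exfalso
    obtain ⟨u, hu⟩ := exists_ne (0 : Q)
    apply hu
    have h2 : g (f (g u)) = 0 := LinearMap.congr_fun h0 (g u)
    rw [hfg] at h2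
    rw [← hfg u, h2, map_zero]
  · exact ⟨LinearEquiv.ofLinearMap f g (LinearMap.ext hfg) h1⟩

/-- the `R`-module structure on an `A`-module -/
theorem exists_module_of_algebra (P : Type w) [AddCommGroup P] [Module A P] :
    ∃ (_ : Module R P), IsScalarTower R A P := by
  refine ⟨Module.compHom P (algebraMap R A), ?_⟩
  let _ : Module R P := Module.compHom P (algebraMap R A)
  refine ⟨fun r a x => ?_⟩
  show (r • a) • x = (algebraMap R A r) • (a • x)
  rw [Algebra.smul_def, mul_smul]

include hR in
/-- over a connected base, indecomposable f.g. projective modules over an Azumaya algebra are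
isomorphic -/
theorem nonempty_linearEquiv_of_indecomposable [ConnectedSpace (PrimeSpectrum R)]
    (P Q : Type w) [AddCommGroup P] [Module A P] [Module R P] [IsScalarTower R A P]
    [Module.Finite A P] [Module.Projective A P] [Nontrivial P] [AddCommGroup Q] [Module A Q]
    [Module R Q] [IsScalarTower R A Q] [Module.Finite A Q] [Module.Projective A Q] [Nontrivial Q]
    (hP : ∀ e : Module.End A P, IsIdempotentElem e → e = 0 ∨ e = 1)
    (hQ : ∀ e : Module.End A Q, IsIdempotentElem e → e = 0 ∨ e = 1) :
    Nonempty (P ≃ₗ[A] Q) := by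
  classical
  have hfinA : Module.Finite R A := IsAzumaya.toFinite
  have hprojA : Module.Projective R A := IsAzumaya.toProjective
  obtain ⟨nP, pP, iP, -, -, hP₀⟩ := Module.Finite.exists_comp_eq_id_of_projective A P
  obtain ⟨nQ, pQ, iQ, -, -, hQ₀⟩ := Module.Finite.exists_comp_eq_id_of_projective A Q
  obtain ⟨hfP, hpP⟩ := finite_projective_of_retract (R := R) iP pP
    (fun v => LinearMap.congr_fun hP₀ v)
  obtain ⟨hfQ, hpQ⟩ := finite_projective_of_retract (R := R) iQ pQ
    (fun v => LinearMap.congr_fun hQ₀ v)
  have hfpP : Module.FinitePresentation R P := Module.finitePresentation_of_projective R P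
  have hfpQ : Module.FinitePresentation R Q := Module.finitePresentation_of_projective R Q
  have hcP := (Module.isLocallyConstant_rankAtStalk (R := R) (M := P))
  have hcQ := (Module.isLocallyConstant_rankAtStalk (R := R) (M := Q))
  obtain ⟨q₀⟩ : Nonempty (PrimeSpectrum R) := inferInstance
  rcases le_total (Module.rankAtStalk (R := R) Q q₀) (Module.rankAtStalk (R := R) P q₀) with hle | hle
  · refine nonempty_linearEquiv_of_indecomposable_of_rank_le (A := A) hR P Q hP (fun p => ?_)
    rw [hcP.apply_eq_of_preconnectedSpace p q₀, hcQ.apply_eq_of_preconnectedSpace p q₀]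
    exact hle
  · obtain ⟨e⟩ := nonempty_linearEquiv_of_indecomposable_of_rank_le (A := A) hR Q P hQ (fun p => by
      rw [hcP.apply_eq_of_preconnectedSpace p q₀, hcQ.apply_eq_of_preconnectedSpace p q₀]
      exact hle)
    exact ⟨e.symm⟩

end indecomposable

end Groth.Agent.Lib.T2H2.LGAz
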