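import Mathlib
import Groth.Agent.Lib.Helper1DT5
import Groth.Agent.Lib.T2H2HomKill
set_option backward.isDefEq.respectTransparency.types false

/-!
# `I^n M ⟶ M` factors through `I ⊗^L M ⟶ M` (helper2)
-/

set_option autoImplicit false
set_option maxHeartbeats 400000
universe u
open CategoryTheory CategoryTheory.Limits MonoidalCategory HomologicalComplex
attribute [local instance] HasDerivedCategory.standard

namespace Groth.Agent.Lib.T2H2.LTenIdeal

open DerivedCategory Groth.Agent.Lib.Helper1.KF Groth.Agent.Lib.Helper1.DT DTen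
open Groth.Agent.Lib.T2H2.Kill Groth.Agent.Lib.T2H2.HomKill

variable {A : Type u} [CommRing A]

/-- the map `X ⊗ F^n ⟶ Y ⊗ F^n` of termwise tensor products -/
noncomputable def TCxMap {X Y : ModuleCat.{u} A} (φ : X ⟶ Y) (F : Cx A) : TCx X F ⟶ TCx Y F where
  f n := φ ▷ F.X n
  comm' i j _ := (whisker_exchange φ (F.d i j)).symm

@[simp]
lemma TCxMap_f {X Y : ModuleCat.{u} A} (φ : X ⟶ Y) (F : Cx A) (n : ℤ) :
    (TCxMap φ F).f n = φ ▷ F.X n := rfl

lemma sglι_naturality {X Y : ModuleCat.{u} A} (φ : X ⟶ Y) (F : Cx A) (n : ℤ) :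
    (φ ▷ F.X n) ≫ sglι Y F n =
      sglι X F n ≫ (((HomologicalComplex.single (ModuleCat.{u} A) (ComplexShape.up ℤ) 0).map φ) ▷ F).f n := by
  unfold sglι
  rw [Category.assoc, ι_whiskerRight, ← Category.assoc, ← Category.assoc, ← comp_whiskerRight,
    ← comp_whiskerRight, HomologicalComplex.single_map_f_self]
  simp

lemma singleTensorIso_naturality {X Y : ModuleCat.{u} A} (φ : X ⟶ Y) (F : Cx A) :
    TCxMap φ F ≫ (singleTensorIso Y F).hom =
      (singleTensorIso X F).hom ≫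
        (((HomologicalComplex.single (ModuleCat.{u} A) (ComplexShape.up ℤ) 0).map φ) ▷ F) := by
  refine HomologicalComplex.hom_ext _ _ (fun n => ?_)
  rw [HomologicalComplex.comp_f, HomologicalComplex.comp_f]
  exact sglι_naturality φ F n

/-- the short complex `X₁ ⊗ F ⟶ X₂ ⊗ F ⟶ X₃ ⊗ F` -/
noncomputable def scTCx (S : ShortComplex (ModuleCat.{u} A)) (F : Cx A) : ShortComplex (Cx A) :=
  ShortComplex.mk (TCxMap S.f F) (TCxMap S.g F) (by
    refine HomologicalComplex.hom_ext _ _ (fun n => ?_)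
    show S.f ▷ F.X n ≫ S.g ▷ F.X n = 0
    rw [← comp_whiskerRight, S.zero, MonoidalPreadditive.zero_whiskerRight])

lemma scTCx_shortExact {S : ShortComplex (ModuleCat.{u} A)} (hS : S.ShortExact) (F : Cx A)
    (hF : ∀ n, Module.Flat A (F.X n)) : (scTCx S F).ShortExact := by
  apply HomologicalComplex.shortExact_of_degreewise_shortExact
  intro n
  have := hF n
  exact hS.map_of_exact (tensorRight (F.X n))

lemma smul_id_TCx_eq_zero (f : A) (X : ModuleCat.{u} A) (hX : f • 𝟙 X = 0) (F : Cx A) :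
    f • 𝟙 (TCx X F) = 0 := by
  refine HomologicalComplex.hom_ext _ _ (fun n => ?_)
  rw [HomologicalComplex.smul_f_apply, HomologicalComplex.id_f, HomologicalComplex.zero_f]
  have h1 : f • 𝟙 (X ⊗ F.X n) = (f • 𝟙 X) ▷ F.X n := by
    rw [MonoidalLinear.smul_whiskerRight, id_whiskerRight]
  refine h1.trans ?_
  rw [hX]
  exact MonoidalPreadditive.zero_whiskerRight

section ideal

variable (I : Ideal A)

/-- the short exact sequence `0 ⟶ I ⟶ A ⟶ A/I ⟶ 0` -/
noncomputable def idealSC : ShortComplex (ModuleCat.{u} A) :=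
  ShortComplex.mk (ModuleCat.ofHom I.subtype) (ModuleCat.ofHom (Submodule.mkQ I)) (by
    apply ModuleCat.hom_ext
    apply LinearMap.ext
    intro x
    exact (Submodule.Quotient.mk_eq_zero I).2 x.2)

lemma idealSC_shortExact : (idealSC I).ShortExact where
  exact := by
    rw [ShortComplex.moduleCat_exact_iff]
    intro x hx
    exact ⟨⟨x, (Submodule.Quotient.mk_eq_zero I).1 hx⟩, rfl⟩
  mono_f := (ModuleCat.mono_iff_injective _).2 Subtype.val_injective
  epi_g := (ModuleCat.epi_iff_surjective _).2 (Submodule.mkQ_surjective I)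

lemma smul_id_quot (f : A) (hf : f ∈ I) : f • 𝟙 (ModuleCat.of A (A ⧸ I)) = 0 := by
  apply ModuleCat.hom_ext
  apply LinearMap.ext
  intro x
  obtain ⟨a, rfl⟩ := Submodule.mkQ_surjective I x
  show f • (Submodule.mkQ I a) = 0
  rw [← map_smul, Submodule.mkQ_apply, Submodule.Quotient.mk_eq_zero]
  exact I.mul_mem_right a hf

end ideal

section main

variable [IsNoetherianRing A] [HasLTen A] (I : Ideal A) (M : Type u) [AddCommGroup M] [Module A M]
  [Module.Finite A M]

theorem exists_factor :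
    ∃ (n : ℕ) (_ : 0 < n)
      (g : Q.obj ((sg (A := A)).obj (ModuleCat.of A ↥(I ^ n • (⊤ : Submodule A M)))) ⟶
            (LTen₂ A).obj (Q.obj ((sg (A := A)).obj (ModuleCat.of A ↥I)),
              Q.obj ((sg (A := A)).obj (ModuleCat.of A M)))),
      g ≫ (LTen₂ A).map (Prod.mkHom (Q.map ((sg (A := A)).map (ModuleCat.ofHom I.subtype)))
              (𝟙 _)) ≫
          (unitL A).app (Q.obj ((sg (A := A)).obj (ModuleCat.of A M))) =
        Q.map ((sg (A := A)).map (ModuleCat.ofHom (I ^ n • (⊤ : Submodule A M)).subtype)) := by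
  obtain ⟨F, π, hFK, hFproj, hπ, -⟩ := exists_kprojective_resolution (sgl (ModuleCat.of A M))
  have hFflat : ∀ n, Module.Flat A (F.X n) := fun n => by
    have : Module.Projective A (F.X n) := (IsProjective.iff_projective (F.X n)).2 (hFproj n)
    infer_instance
  have hFk : KFlat F := kflat_of_isKProjective F
  have hS := idealSC_shortExact I
  have hSF := scTCx_shortExact hS F hFflat
  have hT := triangleOfSES_distinguished hSF
  let C : DerivedCategory (ModuleCat.{u} A) := Q.obj (TCx (ModuleCat.of A (A ⧸ I)) F)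
  have hC : ∀ f ∈ I, (homKill C).Kills f := fun f hf => homKill_kills C f (by
    show f • 𝟙 (Q.obj _) = 0
    rw [← Q.map_id, ← Functor.map_smul, smul_id_TCx_eq_zero f _ (smul_id_quot I f hf) F,
      Functor.map_zero])
  obtain ⟨n, hn, hZ⟩ := KillSys.exists_pow (homKill C) I hC M
  refine ⟨n, hn, ?_⟩
  let ν : TCx (ModuleCat.of A A) F ⟶ sgl (ModuleCat.of A M) :=
    (singleTensorIso (ModuleCat.of A A) F).hom ≫ (λ_ F).hom ≫ π
  have hπ' : IsIso (Q.map π) := (DerivedCategory.isIso_Q_map_iff_quasiIso (φ := π)).2 hπ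
  have hν : IsIso (Q.map ν) := by
    show IsIso (Q.map ((singleTensorIso (ModuleCat.of A A) F).hom ≫ (λ_ F).hom ≫ π))
    rw [Functor.map_comp, Functor.map_comp]
    infer_instance
  let incl : ModuleCat.of A ↥(I ^ n • (⊤ : Submodule A M)) ⟶ ModuleCat.of A M :=
    ModuleCat.ofHom (I ^ n • (⊤ : Submodule A M)).subtype
  have h0 : (Q.map ((sg (A := A)).map incl) ≫ inv (Q.map ν)) ≫
      (triangleOfSES hSF).mor₂ = 0 := by
    rw [Category.assoc]
    exact hZ (inv (Q.map ν) ≫ Q.map (TCxMap (idealSC I).g F))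
  obtain ⟨g₀, hg₀⟩ : ∃ g₀ : Q.obj ((sg (A := A)).obj (ModuleCat.of A ↥(I ^ n • (⊤ : Submodule A M)))) ⟶
      Q.obj (TCx (ModuleCat.of A ↥I) F), Q.map ((sg (A := A)).map incl) ≫ inv (Q.map ν) =
        g₀ ≫ Q.map (TCxMap (ModuleCat.ofHom I.subtype) F) :=
    Pretriangulated.Triangle.coyoneda_exact₂ _ hT _ h0
  have hε : IsIso ((ε A).app (sgl (ModuleCat.of A ↥I), F)) :=
    isIso_ε_of_kflat _ _ (Or.inr hFk)
  let j : sgl (ModuleCat.of A ↥I) ⟶ 𝟙_ (Cx A) := (sg (A := A)).map (ModuleCat.ofHom I.subtype)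
  -- (L4)
  have L4 : (LTen₂ A).map (Prod.mkHom (Q.map j) (𝟙 (Q.obj F))) ≫ (ε A).app (𝟙_ (Cx A), F) =
      (ε A).app (sgl (ModuleCat.of A ↥I), F) ≫ Q.map (j ▷ F) := by
    have e := (ε A).naturality (Prod.mkHom j (𝟙 F) : (sgl (ModuleCat.of A ↥I), F) ⟶ (𝟙_ (Cx A), F))
    dsimp at e ⊢
    simpa using e
  -- (L2)
  have L2 : (LTen₂ A).map (Prod.mkHom (𝟙 (unit A)) (Q.map π)) ≫
      (unitL A).app (Q.obj (sgl (ModuleCat.of A M))) = (unitL A).app (Q.obj F) ≫ Q.map π :=
    (unitL A).naturality (Q.map π)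
  -- (L1)
  have L1 : (LTen₂ A).map (Prod.mkHom (𝟙 (Q.obj (sgl (ModuleCat.of A ↥I)))) (Q.map π)) ≫
      (LTen₂ A).map (Prod.mkHom (Q.map j) (𝟙 (Q.obj (sgl (ModuleCat.of A M))))) =
      (LTen₂ A).map (Prod.mkHom (Q.map j) (𝟙 (Q.obj F))) ≫
        (LTen₂ A).map (Prod.mkHom (𝟙 (unit A)) (Q.map π)) := by
    rw [← Functor.map_comp, ← Functor.map_comp]
    congr 1
  refine ⟨g₀ ≫ Q.map (singleTensorIso (ModuleCat.of A ↥I) F).hom ≫
    inv ((ε A).app (sgl (ModuleCat.of A ↥I), F)) ≫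
    (LTen₂ A).map (Prod.mkHom (𝟙 (Q.obj (sgl (ModuleCat.of A ↥I)))) (Q.map π)), ?_⟩
  have hnat := singleTensorIso_naturality (ModuleCat.ofHom I.subtype) F
  have key : Q.map (singleTensorIso (ModuleCat.of A ↥I) F).hom ≫ Q.map (j ▷ F) ≫
      Q.map (λ_ F).hom ≫ Q.map π = Q.map (TCxMap (ModuleCat.ofHom I.subtype) F) ≫ Q.map ν := by
    show _ = Q.map (TCxMap (ModuleCat.ofHom I.subtype) F) ≫
      Q.map ((singleTensorIso (ModuleCat.of A A) F).hom ≫ (λ_ F).hom ≫ π)
    rw [← Functor.map_comp, ← Functor.map_comp, ← Functor.map_comp, ← Functor.map_comp,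
      ← Category.assoc, ← hnat, Category.assoc]
  simp only [Category.assoc]
  rw [reassoc_of% L1, L2, unitL_app]
  simp only [Category.assoc]
  rw [reassoc_of% L4, IsIso.inv_hom_id_assoc, key,
    ← reassoc_of% hg₀, IsIso.inv_hom_id, Category.comp_id]

end main

end Groth.Agent.Lib.T2H2.LTenIdeal
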