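import Mathlib

/-!
# Laurent polynomial rings `A[ℤⁿ]`: units over a domain are monomials; the cosimplicial
unit complex `A[t^±]ˣ → A[t₁^±,t₂^±]ˣ → A[t₁^±,t₂^±,t₃^±]ˣ` and `δ₂ ∘ δ₁ = 1`
-/

set_option autoImplicit false
universe u v

namespace Groth.Agent.Lib.T2H2.Laur

open AddMonoidAlgebra

section mono
variable {D : Type u} [CommRing D] {n : ℕ}

/-- the inclusion `ℕ^n → ℤ^n` -/
def φ (n : ℕ) : (Fin n →₀ ℕ) →+ (Fin n → ℤ) where
  toFun m := fun i => (m i : ℤ)
  map_zero' := by ext i; simp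
  map_add' a b := by ext i; simp

lemma φ_injective (n : ℕ) : Function.Injective (φ n) := by
  intro a b h
  ext i
  have := congrFun h i
  simpa [φ] using this

/-- the inclusion of the polynomial ring into the Laurent polynomial ring -/
noncomputable def ι (D : Type u) [CommRing D] (n : ℕ) :
    MvPolynomial (Fin n) D →+* AddMonoidAlgebra D (Fin n → ℤ) :=
  AddMonoidAlgebra.mapDomainRingHom D (φ n)

lemma ι_injective : Function.Injective (ι D n) :=
  AddMonoidAlgebra.mapDomain_injective (φ_injective n)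

lemma ι_monomial (m : Fin n →₀ ℕ) (c : D) :
    ι D n (MvPolynomial.monomial m c) = single (φ n m) c := by
  rw [← MvPolynomial.single_eq_monomial]
  exact AddMonoidAlgebra.mapDomain_single

/-- every Laurent polynomial becomes a polynomial after multiplication by a monomial -/
lemma exists_shift (f : AddMonoidAlgebra D (Fin n → ℤ)) :
    ∃ (a : Fin n →₀ ℕ) (f' : MvPolynomial (Fin n) D), ι D n f' = single (φ n a) 1 * f := by
  induction f using AddMonoidAlgebra.induction_linear with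
  | zero => exact ⟨0, 0, by simp⟩
  | add f g hf hg =>
    obtain ⟨a, f', hf'⟩ := hf
    obtain ⟨b, g', hg'⟩ := hg
    refine ⟨a + b, MvPolynomial.monomial b 1 * f' + MvPolynomial.monomial a 1 * g', ?_⟩
    rw [map_add, map_mul, map_mul, hf', hg', ι_monomial, ι_monomial, map_add, mul_add,
      ← mul_assoc, ← mul_assoc, single_mul_single, single_mul_single, mul_one, add_comm (φ n b)]
  | single x c =>
    refine ⟨Finsupp.equivFunOnFinite.symm (fun i => (-x i).toNat),
      MvPolynomial.monomial (Finsupp.equivFunOnFinite.symm (fun i => (x i + (-x i).toNat).toNat)) c, ?_⟩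
    rw [ι_monomial, single_mul_single, one_mul]
    congr 1
    ext i
    simp only [φ, AddMonoidHom.coe_mk, ZeroHom.coe_mk, Finsupp.equivFunOnFinite_symm_apply_apply,
      Pi.add_apply]
    omega

/-- **Units of a Laurent polynomial ring over a domain are monomials.** -/
theorem exists_single_of_mul_eq_one [IsDomain D] (f g : AddMonoidAlgebra D (Fin n → ℤ))
    (h : f * g = 1) : ∃ (x : Fin n → ℤ) (c : D), f = single x c := by
  obtain ⟨a, f', hf'⟩ := exists_shift f
  obtain ⟨b, g', hg'⟩ := exists_shift g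
  have h1 : ι D n (f' * g') = ι D n (MvPolynomial.monomial (a + b) 1) := by
    rw [map_mul, hf', hg', ι_monomial, map_add]
    calc single (φ n a) 1 * f * (single (φ n b) 1 * g)
        = single (φ n a) 1 * single (φ n b) 1 * (f * g) := by ring
      _ = single (φ n a + φ n b) 1 := by rw [h, mul_one, single_mul_single, mul_one]
  have h2 : f' * g' = MvPolynomial.monomial (a + b) 1 := ι_injective h1
  have h3 : f' ∣ MvPolynomial.monomial (a + b) (1 : D) := ⟨g', h2.symm⟩
  obtain ⟨m, u, -, -, hm⟩ := MvPolynomial.dvd_monomial_one_iff_exists.1 h3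
  refine ⟨φ n m - φ n a, u, ?_⟩
  have h4 : single (φ n a) (1 : D) * f = single (φ n m) u := by
    rw [← hf', hm, ι_monomial]
  calc f = single (-(φ n a)) (1 : D) * (single (φ n a) 1 * f) := by
        rw [← mul_assoc, single_mul_single, neg_add_cancel, one_mul]
        exact (one_mul f).symm
    _ = single (φ n m - φ n a) u := by
        rw [h4, single_mul_single, one_mul, neg_add_eq_sub]

end mono

section maps

/-- the coface maps `ℤ² → ℤ³` -/
abbrev d0 : (Fin 2 → ℤ) →+ (Fin 3 → ℤ) :=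
  (Matrix.mulVecLin (!![0, 0; 1, 0; 0, 1] : Matrix (Fin 3) (Fin 2) ℤ)).toAddMonoidHom
abbrev d1 : (Fin 2 → ℤ) →+ (Fin 3 → ℤ) :=
  (Matrix.mulVecLin (!![1, 0; 1, 0; 0, 1] : Matrix (Fin 3) (Fin 2) ℤ)).toAddMonoidHom
abbrev d2 : (Fin 2 → ℤ) →+ (Fin 3 → ℤ) :=
  (Matrix.mulVecLin (!![1, 0; 0, 1; 0, 1] : Matrix (Fin 3) (Fin 2) ℤ)).toAddMonoidHom
abbrev d3 : (Fin 2 → ℤ) →+ (Fin 3 → ℤ) :=
  (Matrix.mulVecLin (!![1, 0; 0, 1; 0, 0] : Matrix (Fin 3) (Fin 2) ℤ)).toAddMonoidHom
/-- the coface maps `ℤ → ℤ²` -/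
abbrev e0 : (Fin 1 → ℤ) →+ (Fin 2 → ℤ) :=
  (Matrix.mulVecLin (!![0; 1] : Matrix (Fin 2) (Fin 1) ℤ)).toAddMonoidHom
abbrev e1 : (Fin 1 → ℤ) →+ (Fin 2 → ℤ) :=
  (Matrix.mulVecLin (!![1; 1] : Matrix (Fin 2) (Fin 1) ℤ)).toAddMonoidHom
abbrev e2 : (Fin 1 → ℤ) →+ (Fin 2 → ℤ) :=
  (Matrix.mulVecLin (!![1; 0] : Matrix (Fin 2) (Fin 1) ℤ)).toAddMonoidHom

lemma d0_apply (x : Fin 2 → ℤ) : d0 x = ![0, x 0, x 1] := by
  ext i; fin_cases i <;> simp [d0, Matrix.mulVec, dotProduct, Fin.sum_univ_two]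
lemma d1_apply (x : Fin 2 → ℤ) : d1 x = ![x 0, x 0, x 1] := by
  ext i; fin_cases i <;> simp [d1, Matrix.mulVec, dotProduct, Fin.sum_univ_two]
lemma d2_apply (x : Fin 2 → ℤ) : d2 x = ![x 0, x 1, x 1] := by
  ext i; fin_cases i <;> simp [d2, Matrix.mulVec, dotProduct, Fin.sum_univ_two]
lemma d3_apply (x : Fin 2 → ℤ) : d3 x = ![x 0, x 1, 0] := by
  ext i; fin_cases i <;> simp [d3, Matrix.mulVec, dotProduct, Fin.sum_univ_two]
lemma e0_apply (x : Fin 1 → ℤ) : e0 x = ![0, x 0] := by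
  ext i; fin_cases i <;> simp [e0, Matrix.mulVec, dotProduct]
lemma e1_apply (x : Fin 1 → ℤ) : e1 x = ![x 0, x 0] := by
  ext i; fin_cases i <;> simp [e1, Matrix.mulVec, dotProduct]
lemma e2_apply (x : Fin 1 → ℤ) : e2 x = ![x 0, 0] := by
  ext i; fin_cases i <;> simp [e2, Matrix.mulVec, dotProduct]

end maps

section coeff
variable {A : Type u} [CommRing A]

/-- coefficients of `mapDomain f ν` when `f` has a left inverse `g` -/
lemma coeff_mapDomain_of_leftInverse {M N : Type*} [AddMonoid M] [AddMonoid N] (f : M →+ N)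
    (g : N → M) (hgf : ∀ x, g (f x) = x) (ν : AddMonoidAlgebra A M) (z : N)
    [Decidable (f (g z) = z)] :
    (AddMonoidAlgebra.mapDomainRingHom A f ν).coeff z = if f (g z) = z then ν.coeff (g z) else 0 := by
  have hinj : Function.Injective f := Function.LeftInverse.injective hgf
  change (Finsupp.mapDomain f ν.coeff) z = _
  split_ifs with h
  · rw [← h, Finsupp.mapDomain_apply hinj, hgf]
  · apply Finsupp.mapDomain_of_notMem_range
    rintro ⟨x, rfl⟩
    exact h (by rw [hgf])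

lemma coeff_D0 (ν : AddMonoidAlgebra A (Fin 2 → ℤ)) (z : Fin 3 → ℤ) :
    (AddMonoidAlgebra.mapDomainRingHom A d0 ν).coeff z =
      if z 0 = 0 then ν.coeff ![z 1, z 2] else 0 := by
  classical
  rw [coeff_mapDomain_of_leftInverse d0 (fun z => ![z 1, z 2]) (fun x => by
    rw [d0_apply]; ext i; fin_cases i <;> rfl)]
  have : d0 ![z 1, z 2] = z ↔ z 0 = 0 := by
    rw [d0_apply]
    constructor
    · intro h; have := congrFun h 0; simpa using this.symm
    · intro h; ext i; fin_cases i <;> simp [h]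
  simp only [this]

lemma coeff_D1 (ν : AddMonoidAlgebra A (Fin 2 → ℤ)) (z : Fin 3 → ℤ) :
    (AddMonoidAlgebra.mapDomainRingHom A d1 ν).coeff z =
      if z 0 = z 1 then ν.coeff ![z 0, z 2] else 0 := by
  classical
  rw [coeff_mapDomain_of_leftInverse d1 (fun z => ![z 0, z 2]) (fun x => by
    rw [d1_apply]; ext i; fin_cases i <;> rfl)]
  have : d1 ![z 0, z 2] = z ↔ z 0 = z 1 := by
    rw [d1_apply]
    constructor
    · intro h; have := congrFun h 1; simpa using this
    · intro h; ext i; fin_cases i <;> simp [h]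
  simp only [this]

lemma coeff_D2 (ν : AddMonoidAlgebra A (Fin 2 → ℤ)) (z : Fin 3 → ℤ) :
    (AddMonoidAlgebra.mapDomainRingHom A d2 ν).coeff z =
      if z 1 = z 2 then ν.coeff ![z 0, z 1] else 0 := by
  classical
  rw [coeff_mapDomain_of_leftInverse d2 (fun z => ![z 0, z 1]) (fun x => by
    rw [d2_apply]; ext i; fin_cases i <;> rfl)]
  have : d2 ![z 0, z 1] = z ↔ z 1 = z 2 := by
    rw [d2_apply]
    constructor
    · intro h; have := congrFun h 2; simpa using this
    · intro h; ext i; fin_cases i <;> simp [h]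
  simp only [this]

lemma coeff_D3 (ν : AddMonoidAlgebra A (Fin 2 → ℤ)) (z : Fin 3 → ℤ) :
    (AddMonoidAlgebra.mapDomainRingHom A d3 ν).coeff z =
      if z 2 = 0 then ν.coeff ![z 0, z 1] else 0 := by
  classical
  rw [coeff_mapDomain_of_leftInverse d3 (fun z => ![z 0, z 1]) (fun x => by
    rw [d3_apply]; ext i; fin_cases i <;> rfl)]
  have : d3 ![z 0, z 1] = z ↔ z 2 = 0 := by
    rw [d3_apply]
    constructor
    · intro h; have := congrFun h 2; simpa using this.symm
    · intro h; ext i; fin_cases i <;> simp [h]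
  simp only [this]

lemma coeff_E0 (μ : AddMonoidAlgebra A (Fin 1 → ℤ)) (y : Fin 2 → ℤ) :
    (AddMonoidAlgebra.mapDomainRingHom A e0 μ).coeff y =
      if y 0 = 0 then μ.coeff ![y 1] else 0 := by
  classical
  rw [coeff_mapDomain_of_leftInverse e0 (fun y => ![y 1]) (fun x => by
    rw [e0_apply]; ext i; fin_cases i; rfl)]
  have : e0 ![y 1] = y ↔ y 0 = 0 := by
    rw [e0_apply]
    constructor
    · intro h; have := congrFun h 0; simpa using this.symm
    · intro h; ext i; fin_cases i <;> simp [h]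
  simp only [this]

lemma coeff_E1 (μ : AddMonoidAlgebra A (Fin 1 → ℤ)) (y : Fin 2 → ℤ) :
    (AddMonoidAlgebra.mapDomainRingHom A e1 μ).coeff y =
      if y 0 = y 1 then μ.coeff ![y 0] else 0 := by
  classical
  rw [coeff_mapDomain_of_leftInverse e1 (fun y => ![y 0]) (fun x => by
    rw [e1_apply]; ext i; fin_cases i; rfl)]
  have : e1 ![y 0] = y ↔ y 0 = y 1 := by
    rw [e1_apply]
    constructor
    · intro h; have := congrFun h 1; simpa using this
    · intro h; ext i; fin_cases i <;> simp [h]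
  simp only [this]

lemma coeff_E2 (μ : AddMonoidAlgebra A (Fin 1 → ℤ)) (y : Fin 2 → ℤ) :
    (AddMonoidAlgebra.mapDomainRingHom A e2 μ).coeff y =
      if y 1 = 0 then μ.coeff ![y 0] else 0 := by
  classical
  rw [coeff_mapDomain_of_leftInverse e2 (fun y => ![y 0]) (fun x => by
    rw [e2_apply]; ext i; fin_cases i; rfl)]
  have : e2 ![y 0] = y ↔ y 1 = 0 := by
    rw [e2_apply]
    constructor
    · intro h; have := congrFun h 1; simpa using this.symm
    · intro h; ext i; fin_cases i <;> simp [h]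
  simp only [this]

end coeff

section delta
variable (A : Type u) [CommRing A]

/-- the coface ring maps -/
noncomputable abbrev D0 : AddMonoidAlgebra A (Fin 2 → ℤ) →+* AddMonoidAlgebra A (Fin 3 → ℤ) :=
  AddMonoidAlgebra.mapDomainRingHom A d0
noncomputable abbrev D1 : AddMonoidAlgebra A (Fin 2 → ℤ) →+* AddMonoidAlgebra A (Fin 3 → ℤ) :=
  AddMonoidAlgebra.mapDomainRingHom A d1
noncomputable abbrev D2 : AddMonoidAlgebra A (Fin 2 → ℤ) →+* AddMonoidAlgebra A (Fin 3 → ℤ) :=
  AddMonoidAlgebra.mapDomainRingHom A d2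
noncomputable abbrev D3 : AddMonoidAlgebra A (Fin 2 → ℤ) →+* AddMonoidAlgebra A (Fin 3 → ℤ) :=
  AddMonoidAlgebra.mapDomainRingHom A d3
noncomputable abbrev E0 : AddMonoidAlgebra A (Fin 1 → ℤ) →+* AddMonoidAlgebra A (Fin 2 → ℤ) :=
  AddMonoidAlgebra.mapDomainRingHom A e0
noncomputable abbrev E1 : AddMonoidAlgebra A (Fin 1 → ℤ) →+* AddMonoidAlgebra A (Fin 2 → ℤ) :=
  AddMonoidAlgebra.mapDomainRingHom A e1
noncomputable abbrev E2 : AddMonoidAlgebra A (Fin 1 → ℤ) →+* AddMonoidAlgebra A (Fin 2 → ℤ) :=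
  AddMonoidAlgebra.mapDomainRingHom A e2

/-- the coboundary `C¹ → C²` -/
noncomputable def δ₁ : (AddMonoidAlgebra A (Fin 1 → ℤ))ˣ →* (AddMonoidAlgebra A (Fin 2 → ℤ))ˣ :=
  Units.map (E0 A).toMonoidHom * (Units.map (E1 A).toMonoidHom)⁻¹ * Units.map (E2 A).toMonoidHom

/-- the coboundary `C² → C³` -/
noncomputable def δ₂ : (AddMonoidAlgebra A (Fin 2 → ℤ))ˣ →* (AddMonoidAlgebra A (Fin 3 → ℤ))ˣ :=
  Units.map (D0 A).toMonoidHom * (Units.map (D1 A).toMonoidHom)⁻¹ * Units.map (D2 A).toMonoidHom *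
    (Units.map (D3 A).toMonoidHom)⁻¹

lemma δ₁_apply (η : (AddMonoidAlgebra A (Fin 1 → ℤ))ˣ) :
    δ₁ A η = Units.map (E0 A).toMonoidHom η * (Units.map (E1 A).toMonoidHom η)⁻¹ *
      Units.map (E2 A).toMonoidHom η := rfl

lemma δ₂_apply (ξ : (AddMonoidAlgebra A (Fin 2 → ℤ))ˣ) :
    δ₂ A ξ = Units.map (D0 A).toMonoidHom ξ * (Units.map (D1 A).toMonoidHom ξ)⁻¹ *
      Units.map (D2 A).toMonoidHom ξ * (Units.map (D3 A).toMonoidHom ξ)⁻¹ := rfl

lemma comp_D1_E0 : (D1 A).comp (E0 A) = (D0 A).comp (E0 A) := by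
  rw [← AddMonoidAlgebra.mapDomainRingHom_comp, ← AddMonoidAlgebra.mapDomainRingHom_comp]
  congr 1
  ext x i
  simp only [AddMonoidHom.comp_apply]
  rw [d1_apply, d0_apply, e0_apply]
  fin_cases i <;> simp
lemma comp_D2_E0 : (D2 A).comp (E0 A) = (D0 A).comp (E1 A) := by
  rw [← AddMonoidAlgebra.mapDomainRingHom_comp, ← AddMonoidAlgebra.mapDomainRingHom_comp]
  congr 1
  ext x i
  simp only [AddMonoidHom.comp_apply]
  rw [d2_apply, d0_apply, e0_apply, e1_apply]
  fin_cases i <;> simp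
lemma comp_D3_E0 : (D3 A).comp (E0 A) = (D0 A).comp (E2 A) := by
  rw [← AddMonoidAlgebra.mapDomainRingHom_comp, ← AddMonoidAlgebra.mapDomainRingHom_comp]
  congr 1
  ext x i
  simp only [AddMonoidHom.comp_apply]
  rw [d3_apply, d0_apply, e0_apply, e2_apply]
  fin_cases i <;> simp
lemma comp_D2_E1 : (D2 A).comp (E1 A) = (D1 A).comp (E1 A) := by
  rw [← AddMonoidAlgebra.mapDomainRingHom_comp, ← AddMonoidAlgebra.mapDomainRingHom_comp]
  congr 1
  ext x i
  simp only [AddMonoidHom.comp_apply]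
  rw [d2_apply, d1_apply, e1_apply]
  fin_cases i <;> simp
lemma comp_D3_E1 : (D3 A).comp (E1 A) = (D1 A).comp (E2 A) := by
  rw [← AddMonoidAlgebra.mapDomainRingHom_comp, ← AddMonoidAlgebra.mapDomainRingHom_comp]
  congr 1
  ext x i
  simp only [AddMonoidHom.comp_apply]
  rw [d3_apply, d1_apply, e1_apply, e2_apply]
  fin_cases i <;> simp
lemma comp_D3_E2 : (D3 A).comp (E2 A) = (D2 A).comp (E2 A) := by
  rw [← AddMonoidAlgebra.mapDomainRingHom_comp, ← AddMonoidAlgebra.mapDomainRingHom_comp]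
  congr 1
  ext x i
  simp only [AddMonoidHom.comp_apply]
  rw [d3_apply, d2_apply, e2_apply]
  fin_cases i <;> simp

lemma add_identity {H : Type*} [AddCommGroup H] (a b c d e f : H) :
    a + -b + c + -(a + -d + e) + (b + -d + f) + -(c + -e + f) = 0 := by abel

lemma comm_group_identity {G : Type*} [CommGroup G] (a b c d e f : G) :
    a * b⁻¹ * c * (a * d⁻¹ * e)⁻¹ * (b * d⁻¹ * f) * (c * e⁻¹ * f)⁻¹ = 1 :=
  add_identity (H := Additive G) (Additive.ofMul a) (Additive.ofMul b) (Additive.ofMul c)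
    (Additive.ofMul d) (Additive.ofMul e) (Additive.ofMul f)

lemma units_map_comp {R S T : Type*} [Monoid R] [Monoid S] [Monoid T] (g : S →* T) (f : R →* S)
    (x : Rˣ) : Units.map g (Units.map f x) = Units.map (g.comp f) x := rfl

/-- `δ₂ ∘ δ₁ = 1` -/
theorem δ₂_δ₁ (η : (AddMonoidAlgebra A (Fin 1 → ℤ))ˣ) : δ₂ A (δ₁ A η) = 1 := by
  have h10 : Units.map (D1 A).toMonoidHom (Units.map (E0 A).toMonoidHom η) =
      Units.map (D0 A).toMonoidHom (Units.map (E0 A).toMonoidHom η) := by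
    apply Units.ext; exact RingHom.congr_fun (comp_D1_E0 A) η
  have h20 : Units.map (D2 A).toMonoidHom (Units.map (E0 A).toMonoidHom η) =
      Units.map (D0 A).toMonoidHom (Units.map (E1 A).toMonoidHom η) := by
    apply Units.ext; exact RingHom.congr_fun (comp_D2_E0 A) η
  have h30 : Units.map (D3 A).toMonoidHom (Units.map (E0 A).toMonoidHom η) =
      Units.map (D0 A).toMonoidHom (Units.map (E2 A).toMonoidHom η) := by
    apply Units.ext; exact RingHom.congr_fun (comp_D3_E0 A) η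
  have h21 : Units.map (D2 A).toMonoidHom (Units.map (E1 A).toMonoidHom η) =
      Units.map (D1 A).toMonoidHom (Units.map (E1 A).toMonoidHom η) := by
    apply Units.ext; exact RingHom.congr_fun (comp_D2_E1 A) η
  have h31 : Units.map (D3 A).toMonoidHom (Units.map (E1 A).toMonoidHom η) =
      Units.map (D1 A).toMonoidHom (Units.map (E2 A).toMonoidHom η) := by
    apply Units.ext; exact RingHom.congr_fun (comp_D3_E1 A) η
  have h32 : Units.map (D3 A).toMonoidHom (Units.map (E2 A).toMonoidHom η) =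
      Units.map (D2 A).toMonoidHom (Units.map (E2 A).toMonoidHom η) := by
    apply Units.ext; exact RingHom.congr_fun (comp_D3_E2 A) η
  rw [δ₂_apply, δ₁_apply]
  simp only [map_mul, map_inv, h10, h20, h30, h21, h31, h32]
  generalize Units.map (D0 A).toMonoidHom (Units.map (E0 A).toMonoidHom η) = a
  generalize Units.map (D0 A).toMonoidHom (Units.map (E1 A).toMonoidHom η) = b
  generalize Units.map (D0 A).toMonoidHom (Units.map (E2 A).toMonoidHom η) = c
  generalize Units.map (D1 A).toMonoidHom (Units.map (E1 A).toMonoidHom η) = d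
  generalize Units.map (D1 A).toMonoidHom (Units.map (E2 A).toMonoidHom η) = e
  generalize Units.map (D2 A).toMonoidHom (Units.map (E2 A).toMonoidHom η) = f
  exact comm_group_identity a b c d e f

end delta

end Groth.Agent.Lib.T2H2.Laur
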