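import Groth.Agent.Lib.T2H2LaurA

/-!
# Vanishing of `H²` of the cosimplicial Laurent unit complex

Every 2-cocycle `ξ ∈ A[t₁^±,t₂^±]ˣ` is a coboundary, for any commutative ring `A`:
a cocycle is constant modulo every prime, hence `ξ = c(1 + nilpotent)`; then a square-zero
induction with the additive Hochschild computation.
-/

set_option autoImplicit false
universe u v

namespace Groth.Agent.Lib.T2H2.Laur

open AddMonoidAlgebra

section natural
variable {A : Type u} {B : Type v} [CommRing A] [CommRing B] (f : A →+* B)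

/-- change of coefficients on units -/
noncomputable abbrev mapU (M : Type) [AddMonoid M] :
    (AddMonoidAlgebra A M)ˣ →* (AddMonoidAlgebra B M)ˣ :=
  Units.map (AddMonoidAlgebra.mapRingHom M f).toMonoidHom

lemma mapU_mapDomain {M N : Type} [AddMonoid M] [AddMonoid N] (g : M →+ N)
    (ξ : (AddMonoidAlgebra A M)ˣ) :
    mapU f N (Units.map (AddMonoidAlgebra.mapDomainRingHom A g).toMonoidHom ξ) =
      Units.map (AddMonoidAlgebra.mapDomainRingHom B g).toMonoidHom (mapU f M ξ) := by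
  apply Units.ext
  exact RingHom.congr_fun (AddMonoidAlgebra.mapRingHom_comp_mapDomainRingHom f g) ξ

lemma mapU_δ₂ (ξ : (AddMonoidAlgebra A (Fin 2 → ℤ))ˣ) :
    mapU f _ (δ₂ A ξ) = δ₂ B (mapU f _ ξ) := by
  rw [δ₂_apply, δ₂_apply, map_mul, map_mul, map_mul, map_inv, map_inv, mapU_mapDomain,
    mapU_mapDomain, mapU_mapDomain, mapU_mapDomain]

lemma mapU_δ₁ (η : (AddMonoidAlgebra A (Fin 1 → ℤ))ˣ) :
    mapU f _ (δ₁ A η) = δ₁ B (mapU f _ η) := by
  rw [δ₁_apply, δ₁_apply, map_mul, map_mul, map_inv, mapU_mapDomain,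
    mapU_mapDomain, mapU_mapDomain]

end natural

section cocycle
variable {A : Type u} [CommRing A]

lemma add_identity2 {H : Type*} [AddCommGroup H] (x y z w : H) (h : x + -y + z + -w = 0) :
    x + z = y + w := by
  have : x + z = (x + -y + z + -w) + (y + w) := by abel
  rw [this, h, zero_add]

lemma comm_group_identity2 {G : Type*} [CommGroup G] (x y z w : G) (h : x * y⁻¹ * z * w⁻¹ = 1) :
    x * z = y * w :=
  add_identity2 (H := Additive G) (Additive.ofMul x) (Additive.ofMul y) (Additive.ofMul z)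
    (Additive.ofMul w) h

/-- the cocycle condition, on elements -/
lemma cocycle_elem (ξ : (AddMonoidAlgebra A (Fin 2 → ℤ))ˣ) (hξ : δ₂ A ξ = 1) :
    D0 A (ξ : AddMonoidAlgebra A (Fin 2 → ℤ)) * D2 A ξ = D1 A ξ * D3 A ξ := by
  rw [δ₂_apply] at hξ
  have := comm_group_identity2 _ _ _ _ hξ
  exact congrArg Units.val this

/-- over a domain, a cocycle is constant -/
theorem cocycle_const_of_domain [IsDomain A] (ξ : (AddMonoidAlgebra A (Fin 2 → ℤ))ˣ)
    (hξ : δ₂ A ξ = 1) : ∃ c : A, (ξ : AddMonoidAlgebra A (Fin 2 → ℤ)) = single 0 c := by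
  obtain ⟨x, c, hx⟩ := exists_single_of_mul_eq_one (ξ : AddMonoidAlgebra A (Fin 2 → ℤ))
    ((ξ⁻¹ : (AddMonoidAlgebra A (Fin 2 → ℤ))ˣ) : AddMonoidAlgebra A (Fin 2 → ℤ)) ξ.mul_inv
  have hc : c ≠ 0 := by
    rintro rfl
    rw [single_zero] at hx
    exact ξ.ne_zero hx
  have h := cocycle_elem ξ hξ
  rw [hx] at h
  simp only [D0, D1, D2, D3, AddMonoidAlgebra.mapDomainRingHom_apply,
    AddMonoidAlgebra.mapDomain_single, single_mul_single] at h
  have h2 := (single_left_inj (mul_ne_zero hc hc)).1 h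
  rw [d0_apply, d1_apply, d2_apply, d3_apply] at h2
  have h20 := congrFun h2 0
  have h22 := congrFun h2 2
  simp at h20 h22
  refine ⟨c, ?_⟩
  rw [hx]
  congr 1
  ext i
  fin_cases i
  · simpa using h20
  · simpa using h22

lemma coeff_mapU {B : Type v} [CommRing B] (f : A →+* B) {M : Type} [AddMonoid M]
    (ξ : (AddMonoidAlgebra A M)ˣ) (x : M) :
    ((mapU f M ξ : (AddMonoidAlgebra B M)ˣ) : AddMonoidAlgebra B M).coeff x =
      f ((ξ : AddMonoidAlgebra A M).coeff x) := by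
  simp [mapU]

/-- non-constant coefficients of a cocycle are nilpotent -/
theorem cocycle_coeff_nilpotent (ξ : (AddMonoidAlgebra A (Fin 2 → ℤ))ˣ) (hξ : δ₂ A ξ = 1)
    (x : Fin 2 → ℤ) (hx : x ≠ 0) : IsNilpotent ((ξ : AddMonoidAlgebra A (Fin 2 → ℤ)).coeff x) := by
  rw [nilpotent_iff_mem_prime]
  intro p hp
  have h1 : δ₂ (A ⧸ p) (mapU (Ideal.Quotient.mk p) _ ξ) = 1 := by
    rw [← mapU_δ₂, hξ, map_one]
  obtain ⟨c, hc⟩ := cocycle_const_of_domain _ h1
  have h2 := coeff_mapU (Ideal.Quotient.mk p) ξ x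
  rw [hc, coeff_single, Finsupp.single_apply, if_neg (Ne.symm hx)] at h2
  exact Ideal.Quotient.eq_zero_iff_mem.1 h2.symm

/-- the constant coefficient of a cocycle is a unit -/
theorem cocycle_coeff_zero_isUnit (ξ : (AddMonoidAlgebra A (Fin 2 → ℤ))ˣ) (hξ : δ₂ A ξ = 1) :
    IsUnit ((ξ : AddMonoidAlgebra A (Fin 2 → ℤ)).coeff 0) := by
  by_contra hnu
  obtain ⟨m, hm, hmem⟩ := exists_max_ideal_of_mem_nonunits hnu
  have h1 : δ₂ (A ⧸ m) (mapU (Ideal.Quotient.mk m) _ ξ) = 1 := by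
    rw [← mapU_δ₂, hξ, map_one]
  obtain ⟨c, hc⟩ := cocycle_const_of_domain _ h1
  have h2 := coeff_mapU (Ideal.Quotient.mk m) ξ 0
  rw [hc, coeff_single, Finsupp.single_apply, if_pos rfl, Ideal.Quotient.eq_zero_iff_mem.2 hmem] at h2
  rw [h2, single_zero] at hc
  exact (mapU (Ideal.Quotient.mk m) _ ξ).ne_zero hc

end cocycle

section sqzero
variable {A : Type u} [CommRing A] (J : Ideal A)

lemma mul_eq_zero_of_coeff_mem (hJ : ∀ a ∈ J, ∀ b ∈ J, a * b = 0) {M : Type} [AddMonoid M]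
    (f g : AddMonoidAlgebra A M) (hf : ∀ x, f.coeff x ∈ J) (hg : ∀ x, g.coeff x ∈ J) :
    f * g = 0 := by
  rw [AddMonoidAlgebra.mul_def]
  refine Finset.sum_eq_zero fun x _ => ?_
  refine Finset.sum_eq_zero fun y _ => ?_
  beta_reduce
  rw [hJ _ (hf x) _ (hg y), single_zero]

lemma coeff_mapDomainRingHom_mem {M N : Type} [AddMonoid M] [AddMonoid N] (g : M →+ N)
    (f : AddMonoidAlgebra A M) (hf : ∀ x, f.coeff x ∈ J) (z : N) :
    (AddMonoidAlgebra.mapDomainRingHom A g f).coeff z ∈ J := by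
  classical
  change (Finsupp.mapDomain g f.coeff) z ∈ J
  rw [Finsupp.mapDomain, Finsupp.sum_apply]
  refine Ideal.sum_mem _ fun x _ => ?_
  beta_reduce
  rw [Finsupp.single_apply]
  split_ifs
  · exact hf x
  · exact J.zero_mem

lemma vec2_eta (y : Fin 2 → ℤ) : ![y 0, y 1] = y := by
  ext i; fin_cases i <;> rfl

/-- the additive Hochschild computation -/
lemma additive_coboundary (ν : AddMonoidAlgebra A (Fin 2 → ℤ))
    (h : D0 A ν + D2 A ν = D1 A ν + D3 A ν) :
    ∃ μ : AddMonoidAlgebra A (Fin 1 → ℤ), (∀ w, μ.coeff w = ν.coeff ![0, w 0]) ∧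
      ν = E0 A μ - E1 A μ + E2 A μ := by
  have e0inj : Function.Injective (e0 : (Fin 1 → ℤ) → (Fin 2 → ℤ)) := by
    intro a b hab
    rw [e0_apply, e0_apply] at hab
    ext i
    fin_cases i
    have := congrFun hab 1
    simpa using this
  -- the coefficient relation
  have rel : ∀ z : Fin 3 → ℤ, (if z 0 = 0 then ν.coeff ![z 1, z 2] else 0) +
      (if z 1 = z 2 then ν.coeff ![z 0, z 1] else 0) =
      (if z 0 = z 1 then ν.coeff ![z 0, z 2] else 0) +
      (if z 2 = 0 then ν.coeff ![z 0, z 1] else 0) := by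
    intro z
    have := congrArg (fun f : AddMonoidAlgebra A (Fin 3 → ℤ) => f.coeff z) h
    simp only [coeff_add, Finsupp.coe_add, Pi.add_apply] at this
    rw [coeff_D0, coeff_D1, coeff_D2, coeff_D3] at this
    exact this
  have R1 : ∀ a b : ℤ, a ≠ 0 → b ≠ 0 → a ≠ b → ν.coeff ![a, b] = 0 := by
    intro a b ha hb hab
    have := rel ![a, b, b]
    simpa [ha, hb, hab] using this
  have R2 : ∀ b : ℤ, b ≠ 0 → ν.coeff ![b, b] + ν.coeff ![0, b] = 0 := by
    intro b hb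
    have := rel ![0, b, b]
    simpa [hb, Ne.symm hb] using this
  have R3 : ∀ b : ℤ, b ≠ 0 → ν.coeff ![b, 0] = ν.coeff ![0, b] := by
    intro b hb
    have := rel ![0, b, 0]
    simpa [hb, Ne.symm hb] using this
  refine ⟨AddMonoidAlgebra.comapDomain e0 e0inj ν, ?_, ?_⟩
  · intro w
    rw [AddMonoidAlgebra.coeff_comapDomain, Finsupp.comapDomain_apply, e0_apply]
  · have hμ : ∀ w, (AddMonoidAlgebra.comapDomain e0 e0inj ν).coeff w = ν.coeff ![0, w 0] := by
      intro w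
      rw [AddMonoidAlgebra.coeff_comapDomain, Finsupp.comapDomain_apply, e0_apply]
    apply AddMonoidAlgebra.coeff_injective
    ext y
    simp only [coeff_add, coeff_sub, Finsupp.coe_add, Finsupp.coe_sub, Pi.add_apply, Pi.sub_apply]
    rw [coeff_E0, coeff_E1, coeff_E2, hμ, hμ]
    simp only [Matrix.cons_val_zero]
    rw [← vec2_eta y]
    simp only [Matrix.cons_val_zero, Matrix.cons_val_one]
    generalize y 0 = a
    generalize y 1 = b
    by_cases ha : a = 0
    · subst ha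
      by_cases hb : b = 0
      · subst hb; simp
      · simp [hb, Ne.symm hb]
    · by_cases hb : b = 0
      · subst hb
        simp [ha, R3 a ha]
      · by_cases hab : a = b
        · subst hab
          have := R2 a ha
          simp [ha]
          linear_combination this
        · simp [ha, hb, hab, R1 a b ha hb hab]

end sqzero

section sqzero2
variable {A : Type u} [CommRing A] (J : Ideal A)

/-- the square-zero case -/
theorem sqzero_coboundary (hJ : ∀ a ∈ J, ∀ b ∈ J, a * b = 0)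
    (ξ : (AddMonoidAlgebra A (Fin 2 → ℤ))ˣ) (hξ : δ₂ A ξ = 1)
    (hν : ∀ x, ((ξ : AddMonoidAlgebra A (Fin 2 → ℤ)) - 1).coeff x ∈ J) :
    ∃ η : (AddMonoidAlgebra A (Fin 1 → ℤ))ˣ, ξ = δ₁ A η := by
  set ν : AddMonoidAlgebra A (Fin 2 → ℤ) := (ξ : AddMonoidAlgebra A (Fin 2 → ℤ)) - 1 with hνdef
  have hξν : (ξ : AddMonoidAlgebra A (Fin 2 → ℤ)) = 1 + ν := by rw [hνdef]; ring
  have h := cocycle_elem ξ hξ
  rw [hξν] at h
  simp only [map_add, map_one] at h
  have h02 : D0 A ν * D2 A ν = 0 :=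
    mul_eq_zero_of_coeff_mem J hJ _ _ (coeff_mapDomainRingHom_mem J d0 ν hν)
      (coeff_mapDomainRingHom_mem J d2 ν hν)
  have h13 : D1 A ν * D3 A ν = 0 :=
    mul_eq_zero_of_coeff_mem J hJ _ _ (coeff_mapDomainRingHom_mem J d1 ν hν)
      (coeff_mapDomainRingHom_mem J d3 ν hν)
  have hadd : D0 A ν + D2 A ν = D1 A ν + D3 A ν := by
    linear_combination h - h02 + h13
  obtain ⟨μ, hμ, hνμ⟩ := additive_coboundary ν hadd
  have hμJ : ∀ w, μ.coeff w ∈ J := fun w => by rw [hμ]; exact hν _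
  have hμμ : μ * μ = 0 := mul_eq_zero_of_coeff_mem J hJ _ _ hμJ hμJ
  let η : (AddMonoidAlgebra A (Fin 1 → ℤ))ˣ :=
    ⟨1 + μ, 1 - μ, by linear_combination -hμμ, by linear_combination -hμμ⟩
  refine ⟨η, ?_⟩
  have hab : E0 A μ * E1 A μ = 0 :=
    mul_eq_zero_of_coeff_mem J hJ _ _ (coeff_mapDomainRingHom_mem J e0 μ hμJ)
      (coeff_mapDomainRingHom_mem J e1 μ hμJ)
  have hac : E0 A μ * E2 A μ = 0 :=
    mul_eq_zero_of_coeff_mem J hJ _ _ (coeff_mapDomainRingHom_mem J e0 μ hμJ)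
      (coeff_mapDomainRingHom_mem J e2 μ hμJ)
  have hbc : E1 A μ * E2 A μ = 0 :=
    mul_eq_zero_of_coeff_mem J hJ _ _ (coeff_mapDomainRingHom_mem J e1 μ hμJ)
      (coeff_mapDomainRingHom_mem J e2 μ hμJ)
  apply Units.ext
  rw [δ₁_apply]
  have hval : ((Units.map (E0 A).toMonoidHom η * (Units.map (E1 A).toMonoidHom η)⁻¹ *
      Units.map (E2 A).toMonoidHom η : (AddMonoidAlgebra A (Fin 2 → ℤ))ˣ) :
      AddMonoidAlgebra A (Fin 2 → ℤ)) =
      (1 + E0 A μ) * (1 - E1 A μ) * (1 + E2 A μ) := by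
    rw [← map_inv, Units.val_mul, Units.val_mul]
    simp only [Units.coe_map, RingHom.toMonoidHom_eq_coe, MonoidHom.coe_coe]
    have h1 : ((η : (AddMonoidAlgebra A (Fin 1 → ℤ))ˣ) : AddMonoidAlgebra A (Fin 1 → ℤ)) = 1 + μ := rfl
    have h2 : ((η⁻¹ : (AddMonoidAlgebra A (Fin 1 → ℤ))ˣ) : AddMonoidAlgebra A (Fin 1 → ℤ)) = 1 - μ := rfl
    rw [h1, h2, map_add, map_sub, map_add, map_one, map_one, map_one]
  rw [hval, hξν, hνμ]
  linear_combination -hac + hab + hbc + E2 A μ * hab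

end sqzero2

section induction

/-- units lift along `A[M] → (A/J)[M]` when `J² = 0` -/
lemma exists_unit_lift {A : Type u} [CommRing A] (J : Ideal A) (hJ : ∀ a ∈ J, ∀ b ∈ J, a * b = 0)
    {M : Type} [AddCommMonoid M] (η' : (AddMonoidAlgebra (A ⧸ J) M)ˣ) :
    ∃ η : (AddMonoidAlgebra A M)ˣ, mapU (Ideal.Quotient.mk J) M η = η' := by
  obtain ⟨x, hx⟩ := AddMonoidAlgebra.map_surjective (M := M) (Ideal.Quotient.mk J : A →+ A ⧸ J)
    Ideal.Quotient.mk_surjective (η' : AddMonoidAlgebra (A ⧸ J) M)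
  obtain ⟨y, hy⟩ := AddMonoidAlgebra.map_surjective (M := M) (Ideal.Quotient.mk J : A →+ A ⧸ J)
    Ideal.Quotient.mk_surjective ((η'⁻¹ : (AddMonoidAlgebra (A ⧸ J) M)ˣ) : AddMonoidAlgebra (A ⧸ J) M)
  have hx' : AddMonoidAlgebra.mapRingHom M (Ideal.Quotient.mk J) x = η' := hx
  have hy' : AddMonoidAlgebra.mapRingHom M (Ideal.Quotient.mk J) y =
      ((η'⁻¹ : (AddMonoidAlgebra (A ⧸ J) M)ˣ) : AddMonoidAlgebra (A ⧸ J) M) := hy
  have hn : ∀ w, (x * y - 1).coeff w ∈ J := by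
    intro w
    rw [← Ideal.Quotient.eq_zero_iff_mem, ← AddMonoidAlgebra.coeff_mapRingHom, map_sub, map_mul,
      map_one, hx', hy', Units.mul_inv, sub_self]
    rfl
  have hnn : (x * y - 1) * (x * y - 1) = 0 := mul_eq_zero_of_coeff_mem J hJ _ _ hn hn
  have hnil : IsNilpotent (x * y - 1) := ⟨2, by rw [pow_two, hnn]⟩
  have hu : IsUnit (x * y) := by
    have := hnil.isUnit_add_one
    rwa [sub_add_cancel] at this
  have hxu : IsUnit x := isUnit_of_mul_isUnit_left hu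
  refine ⟨hxu.unit, ?_⟩
  apply Units.ext
  exact hx'

theorem coboundary_of_nilpotent : ∀ (m : ℕ) (A : Type u) [CommRing A] (I : Ideal A), I ^ m = ⊥ →
    ∀ ξ : (AddMonoidAlgebra A (Fin 2 → ℤ))ˣ, δ₂ A ξ = 1 →
    (∀ x, ((ξ : AddMonoidAlgebra A (Fin 2 → ℤ)) - 1).coeff x ∈ I) →
    ∃ η : (AddMonoidAlgebra A (Fin 1 → ℤ))ˣ, ξ = δ₁ A η := by
  intro m
  induction m with
  | zero =>
    intro A _ I hI ξ _ _
    have h1 : (1 : A) ∈ I ^ 0 := by rw [pow_zero, Ideal.one_eq_top]; exact Submodule.mem_top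
    rw [hI, Ideal.mem_bot] at h1
    haveI : Subsingleton A := subsingleton_of_zero_eq_one h1.symm
    exact ⟨1, Units.ext (Subsingleton.elim _ _)⟩
  | succ m ih =>
    intro A _ I hI ξ hξ hν
    by_cases hm : m = 0
    · subst hm
      rw [zero_add, pow_one] at hI
      refine ⟨1, ?_⟩
      rw [map_one]
      apply Units.ext
      have : (ξ : AddMonoidAlgebra A (Fin 2 → ℤ)) - 1 = 0 := by
        apply AddMonoidAlgebra.coeff_injective
        ext x
        have := hν x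
        rw [hI, Ideal.mem_bot] at this
        simpa using this
      rw [sub_eq_zero] at this
      rw [this]; rfl
    · set J := I ^ m with hJdef
      have hJ : ∀ a ∈ J, ∀ b ∈ J, a * b = 0 := by
        intro a ha b hb
        have : a * b ∈ I ^ (m + 1) := by
          have h2 : a * b ∈ J * J := Ideal.mul_mem_mul ha hb
          rw [hJdef, ← pow_add] at h2
          exact Ideal.pow_le_pow_right (by omega) h2
        rwa [hI, Ideal.mem_bot] at this
      -- pass to the quotient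
      have hξ' : δ₂ (A ⧸ J) (mapU (Ideal.Quotient.mk J) _ ξ) = 1 := by
        rw [← mapU_δ₂, hξ, map_one]
      have hI' : (I.map (Ideal.Quotient.mk J)) ^ m = ⊥ := by
        rw [← Ideal.map_pow, ← hJdef, Ideal.map_quotient_self]
      have hν' : ∀ x, (((mapU (Ideal.Quotient.mk J) _ ξ :
          (AddMonoidAlgebra (A ⧸ J) (Fin 2 → ℤ))ˣ) : AddMonoidAlgebra (A ⧸ J) (Fin 2 → ℤ)) - 1).coeff x ∈
          I.map (Ideal.Quotient.mk J) := by
        intro x
        have : ((mapU (Ideal.Quotient.mk J) _ ξ :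
          (AddMonoidAlgebra (A ⧸ J) (Fin 2 → ℤ))ˣ) : AddMonoidAlgebra (A ⧸ J) (Fin 2 → ℤ)) - 1 =
            AddMonoidAlgebra.mapRingHom _ (Ideal.Quotient.mk J)
              ((ξ : AddMonoidAlgebra A (Fin 2 → ℤ)) - 1) := by
          rw [map_sub, map_one]; rfl
        rw [this, AddMonoidAlgebra.coeff_mapRingHom]
        exact Ideal.mem_map_of_mem _ (hν x)
      obtain ⟨η', hη'⟩ := ih (A ⧸ J) (I.map (Ideal.Quotient.mk J)) hI' _ hξ' hν'
      obtain ⟨η, hη⟩ := exists_unit_lift J hJ η'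
      -- the corrected cocycle
      set ξ₂ := ξ * (δ₁ A η)⁻¹ with hξ₂
      have hξ₂c : δ₂ A ξ₂ = 1 := by
        rw [hξ₂, map_mul, map_inv, hξ, δ₂_δ₁, inv_one, one_mul]
      have hξ₂1 : mapU (Ideal.Quotient.mk J) _ ξ₂ = 1 := by
        rw [hξ₂, map_mul, map_inv, mapU_δ₁, hη, ← hη', mul_inv_cancel]
      have hν₂ : ∀ x, ((ξ₂ : AddMonoidAlgebra A (Fin 2 → ℤ)) - 1).coeff x ∈ J := by
        intro x
        rw [← Ideal.Quotient.eq_zero_iff_mem, ← AddMonoidAlgebra.coeff_mapRingHom, map_sub, map_one]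
        have : AddMonoidAlgebra.mapRingHom (Fin 2 → ℤ) (Ideal.Quotient.mk J)
            (ξ₂ : AddMonoidAlgebra A (Fin 2 → ℤ)) = 1 := congrArg Units.val hξ₂1
        rw [this, sub_self]
        rfl
      obtain ⟨η₂, hη₂⟩ := sqzero_coboundary J hJ ξ₂ hξ₂c hν₂
      refine ⟨η₂ * η, ?_⟩
      rw [map_mul, ← hη₂, hξ₂, inv_mul_cancel_right]

end induction

section final
variable (A : Type u) [CommRing A]

lemma mapDomain_singleZero {M N : Type} [AddMonoid M] [AddMonoid N] (g : M →+ N) (c : Aˣ) :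
    Units.map (AddMonoidAlgebra.mapDomainRingHom A g).toMonoidHom
      (Units.map (AddMonoidAlgebra.singleZeroRingHom (R := A) (M := M)).toMonoidHom c) =
    Units.map (AddMonoidAlgebra.singleZeroRingHom (R := A) (M := N)).toMonoidHom c := by
  apply Units.ext
  change AddMonoidAlgebra.mapDomain g (single 0 (c : A)) = single 0 (c : A)
  rw [AddMonoidAlgebra.mapDomain_single, map_zero]

/-- **`H²` of the Laurent unit complex vanishes.** -/
theorem laurent_H2_vanish (ξ : (AddMonoidAlgebra A (Fin 2 → ℤ))ˣ) (hξ : δ₂ A ξ = 1) :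
    ∃ η : (AddMonoidAlgebra A (Fin 1 → ℤ))ˣ, ξ = δ₁ A η := by
  have hc := cocycle_coeff_zero_isUnit ξ hξ
  set c : Aˣ := hc.unit with hcdef
  have hcval : (c : A) = (ξ : AddMonoidAlgebra A (Fin 2 → ℤ)).coeff 0 := rfl
  set u₁ : (AddMonoidAlgebra A (Fin 1 → ℤ))ˣ :=
    Units.map (AddMonoidAlgebra.singleZeroRingHom (R := A) (M := Fin 1 → ℤ)).toMonoidHom c with hu₁
  set u : (AddMonoidAlgebra A (Fin 2 → ℤ))ˣ :=
    Units.map (AddMonoidAlgebra.singleZeroRingHom (R := A) (M := Fin 2 → ℤ)).toMonoidHom c with hu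
  have hδu : δ₁ A u₁ = u := by
    rw [δ₁_apply, hu₁, mapDomain_singleZero, mapDomain_singleZero, mapDomain_singleZero, ← hu,
      mul_inv_cancel, one_mul]
  set ξ₁ := ξ * u⁻¹ with hξ₁def
  have hξ₁ : δ₂ A ξ₁ = 1 := by
    rw [hξ₁def, map_mul, map_inv, hξ, ← hδu, δ₂_δ₁, inv_one, one_mul]
  have hξ₁val : (ξ₁ : AddMonoidAlgebra A (Fin 2 → ℤ)) =
      (ξ : AddMonoidAlgebra A (Fin 2 → ℤ)) * single 0 ((c⁻¹ : Aˣ) : A) := by
    rw [hξ₁def, Units.val_mul, hu, ← map_inv]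
    rfl
  have hcoef : ∀ x, IsNilpotent (((ξ₁ : AddMonoidAlgebra A (Fin 2 → ℤ)) - 1).coeff x) := by
    intro x
    rw [coeff_sub, Finsupp.coe_sub, Pi.sub_apply, hξ₁val, coeff_mul_single_zero, one_def,
      coeff_single, Finsupp.single_apply]
    by_cases hx : x = 0
    · subst hx
      rw [if_pos rfl, ← hcval, Units.mul_inv, sub_self]
      exact IsNilpotent.zero
    · rw [if_neg (Ne.symm hx), sub_zero]
      obtain ⟨n, hn⟩ := cocycle_coeff_nilpotent ξ hξ x hx
      exact ⟨n, by rw [mul_pow, hn, zero_mul]⟩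
  set I : Ideal A := Ideal.span (Set.range fun x =>
    ((ξ₁ : AddMonoidAlgebra A (Fin 2 → ℤ)) - 1).coeff x) with hI
  have hfg : I.FG := by
    rw [hI]
    exact Submodule.fg_span (Finsupp.finite_range _)
  have hle : I ≤ nilradical A := by
    rw [hI, Ideal.span_le]
    rintro _ ⟨x, rfl⟩
    exact hcoef x
  obtain ⟨m, hm⟩ := (Ideal.FG.isNilpotent_iff_le_nilradical hfg).2 hle
  obtain ⟨η, hη⟩ := coboundary_of_nilpotent m A I hm ξ₁ hξ₁
    (fun x => Ideal.subset_span ⟨x, rfl⟩)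
  refine ⟨η * u₁, ?_⟩
  rw [map_mul, ← hη, hδu, hξ₁def, inv_mul_cancel_right]

end final

end Groth.Agent.Lib.T2H2.Laur
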