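import Mathlib

/-!
# Absolutely convergent power series with integer coefficients (real evaluation)

Small calculus used for Laurent expansions at infinity of rational functions.
-/

set_option autoImplicit false

namespace Groth.Agent.Lib.T2H2.LaurRec

open Finset

/-- `∑ c_i u^i` converges absolutely, with sum `s` -/
def IsSer (c : ℕ → ℤ) (u s : ℝ) : Prop :=
  Summable (fun i => ‖(c i : ℝ) * u ^ i‖) ∧ HasSum (fun i => (c i : ℝ) * u ^ i) s

/-- Cauchy product of coefficient sequences -/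
def conv (c d : ℕ → ℤ) (n : ℕ) : ℤ := ∑ kl ∈ antidiagonal n, c kl.1 * d kl.2

lemma IsSer.zero (u : ℝ) : IsSer 0 u 0 := by
  refine ⟨?_, ?_⟩
  · simp
  · simp [hasSum_zero]

lemma IsSer.single (b : ℕ) (u : ℝ) : IsSer (Pi.single b 1) u (u ^ b) := by
  have hf : ∀ i, i ≠ b → ((Pi.single b (1 : ℤ) : ℕ → ℤ) i : ℝ) * u ^ i = 0 := by
    intro i hi
    simp [hi]
  refine ⟨?_, ?_⟩
  · refine summable_of_ne_finset_zero (s := {b}) ?_
    intro i hi
    rw [Finset.mem_singleton] at hi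
    rw [hf i hi, norm_zero]
  · have := hasSum_single (f := fun i => ((Pi.single b (1 : ℤ) : ℕ → ℤ) i : ℝ) * u ^ i) b
      (fun i hi => hf i hi)
    simpa using this

lemma IsSer.add {c d : ℕ → ℤ} {u s t : ℝ} (hc : IsSer c u s) (hd : IsSer d u t) :
    IsSer (c + d) u (s + t) := by
  have e : ∀ i, ((c + d) i : ℝ) * u ^ i = (c i : ℝ) * u ^ i + (d i : ℝ) * u ^ i := by
    intro i
    simp [add_mul]
  refine ⟨?_, ?_⟩
  · refine Summable.of_nonneg_of_le (fun _ => norm_nonneg _) (fun i => ?_) (hc.1.add hd.1)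
    rw [e]
    exact norm_add_le _ _
  · have := hc.2.add hd.2
    exact (funext e : (fun i => ((c + d) i : ℝ) * u ^ i) = _) ▸ this

lemma IsSer.neg {c : ℕ → ℤ} {u s : ℝ} (hc : IsSer c u s) : IsSer (-c) u (-s) := by
  have e : ∀ i, ((-c) i : ℝ) * u ^ i = -((c i : ℝ) * u ^ i) := by
    intro i
    simp
  refine ⟨?_, ?_⟩
  · simpa [e] using hc.1
  · have := hc.2.neg
    exact (funext e : (fun i => ((-c) i : ℝ) * u ^ i) = _) ▸ this

lemma IsSer.mul {c d : ℕ → ℤ} {u s t : ℝ} (hc : IsSer c u s) (hd : IsSer d u t) :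
    IsSer (conv c d) u (s * t) := by
  have e : ∀ n, (conv c d n : ℝ) * u ^ n
      = ∑ kl ∈ antidiagonal n, ((c kl.1 : ℝ) * u ^ kl.1) * ((d kl.2 : ℝ) * u ^ kl.2) := by
    intro n
    simp only [conv]
    push_cast
    rw [Finset.sum_mul]
    refine Finset.sum_congr rfl fun kl hkl => ?_
    rw [Finset.HasAntidiagonal.mem_antidiagonal] at hkl
    rw [← hkl, pow_add]
    ring
  have h1 := summable_norm_sum_mul_antidiagonal_of_summable_norm hc.1 hd.1
  have h2 := tsum_mul_tsum_eq_tsum_sum_antidiagonal_of_summable_norm hc.1 hd.1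
  refine ⟨?_, ?_⟩
  · simpa [e] using h1
  · have hsum : Summable (fun n => (conv c d n : ℝ) * u ^ n) := by
      refine Summable.of_norm ?_
      simpa [e] using h1
    rw [hsum.hasSum_iff, ← hc.2.tsum_eq, ← hd.2.tsum_eq, h2]
    exact tsum_congr e

lemma IsSer.geom (n : ℕ) {u : ℝ} (h0 : 0 ≤ u) (h1 : u < 1) :
    IsSer (fun i => if 0 < i ∧ (n + 1) ∣ i then 1 else 0) u (u ^ (n + 1) / (1 - u ^ (n + 1))) := by
  have hr0 : 0 ≤ u ^ (n + 1) := pow_nonneg h0 _
  have hr1 : u ^ (n + 1) < 1 := pow_lt_one₀ h0 h1 (Nat.succ_ne_zero n)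
  have hgeo : HasSum (fun m : ℕ => u ^ (n + 1) * (u ^ (n + 1)) ^ m)
      (u ^ (n + 1) * (1 - u ^ (n + 1))⁻¹) := (hasSum_geometric_of_lt_one hr0 hr1).mul_left _
  have hinj : Function.Injective (fun m : ℕ => (n + 1) * (m + 1)) := by
    intro a b hab
    have : (n + 1) * (a + 1) = (n + 1) * (b + 1) := hab
    have := Nat.eq_of_mul_eq_mul_left (Nat.succ_pos n) this
    omega
  have hsupp : ∀ i, i ∉ Set.range (fun m : ℕ => (n + 1) * (m + 1)) →
      (((if 0 < i ∧ (n + 1) ∣ i then 1 else 0 : ℤ) : ℝ) * u ^ i) = 0 := by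
    intro i hi
    have : ¬ (0 < i ∧ (n + 1) ∣ i) := by
      rintro ⟨hpos, k, hk⟩
      apply hi
      have hk0 : k ≠ 0 := by
        rintro rfl
        simp at hk
        omega
      obtain ⟨m, rfl⟩ := Nat.exists_eq_succ_of_ne_zero hk0
      exact ⟨m, hk.symm⟩
    simp [this]
  have hcomp : ((fun i => ((if 0 < i ∧ (n + 1) ∣ i then 1 else 0 : ℤ) : ℝ) * u ^ i) ∘
      (fun m : ℕ => (n + 1) * (m + 1))) = fun m : ℕ => u ^ (n + 1) * (u ^ (n + 1)) ^ m := by
    funext m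
    have : 0 < (n + 1) * (m + 1) ∧ (n + 1) ∣ (n + 1) * (m + 1) :=
      ⟨Nat.mul_pos (Nat.succ_pos _) (Nat.succ_pos _), Dvd.intro _ rfl⟩
    simp only [Function.comp, this, and_self, if_true, Int.cast_one, one_mul]
    rw [pow_mul, pow_succ]
    ring
  have hsum : HasSum (fun i => ((if 0 < i ∧ (n + 1) ∣ i then 1 else 0 : ℤ) : ℝ) * u ^ i)
      (u ^ (n + 1) / (1 - u ^ (n + 1))) := by
    rw [← hinj.hasSum_iff hsupp, hcomp, div_eq_mul_inv]
    exact hgeo
  refine ⟨?_, hsum⟩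
  have hnn : ∀ i, 0 ≤ ((if 0 < i ∧ (n + 1) ∣ i then 1 else 0 : ℤ) : ℝ) * u ^ i := by
    intro i
    split_ifs
    · simpa using pow_nonneg h0 i
    · simp
  refine hsum.summable.congr fun i => ?_
  rw [Real.norm_eq_abs, abs_of_nonneg (hnn i)]

end Groth.Agent.Lib.T2H2.LaurRec
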