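import Groth.Agent.Lib.T2H2LaurRecA

/-!
# Laurent expansions at infinity of rational functions in `ℤ[X, X⁻¹, 1/(Xⁿ-1)]`
-/

set_option autoImplicit false

namespace Groth.Agent.Lib.T2H2.LaurRec

open Polynomial

/-- value of a rational function at a rational point -/
noncomputable abbrev ev (F : RatFunc ℚ) (x : ℚ) : ℚ := F.eval (RingHom.id ℚ) x

/-- the denominator does not vanish at `x` -/
def DenOK (F : RatFunc ℚ) (x : ℚ) : Prop := Polynomial.eval₂ (RingHom.id ℚ) x F.denom ≠ 0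

/-- `F` has a Laurent expansion at infinity with integer coefficients, converging absolutely
at every rational `x > 1`: `x⁻ᵃ F(x) = ∑ cᵢ x⁻ⁱ`. -/
def Good (F : RatFunc ℚ) : Prop :=
  ∃ (a : ℕ) (c : ℕ → ℤ), ∀ x : ℚ, 1 < x →
    DenOK F x ∧ IsSer c ((x : ℝ)⁻¹) (((x : ℝ)⁻¹) ^ a * ((ev F x : ℚ) : ℝ))

lemma denOK_of_dvd {F : RatFunc ℚ} {p : ℚ[X]} {x : ℚ} (h : F.denom ∣ p)
    (hp : Polynomial.eval₂ (RingHom.id ℚ) x p ≠ 0) : DenOK F x := by
  intro h0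
  apply hp
  obtain ⟨r, rfl⟩ := h
  rw [Polynomial.eval₂_mul, h0, zero_mul]

lemma denOK_add {F G : RatFunc ℚ} {x : ℚ} (hF : DenOK F x) (hG : DenOK G x) : DenOK (F + G) x :=
  denOK_of_dvd (RatFunc.denom_add_dvd F G) (by rw [Polynomial.eval₂_mul]; exact mul_ne_zero hF hG)

lemma denOK_mul {F G : RatFunc ℚ} {x : ℚ} (hF : DenOK F x) (hG : DenOK G x) : DenOK (F * G) x :=
  denOK_of_dvd (RatFunc.denom_mul_dvd F G) (by rw [Polynomial.eval₂_mul]; exact mul_ne_zero hF hG)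

lemma denOK_algebraMap (p : ℚ[X]) (x : ℚ) : DenOK (algebraMap ℚ[X] (RatFunc ℚ) p) x := by
  simp [DenOK, RatFunc.denom_algebraMap]

/-- the inverse of a polynomial not vanishing at `x` -/
lemma inv_poly (p : ℚ[X]) (x : ℚ) (hx : p.eval x ≠ 0) :
    DenOK (algebraMap ℚ[X] (RatFunc ℚ) p)⁻¹ x ∧
      ev (algebraMap ℚ[X] (RatFunc ℚ) p)⁻¹ x = (p.eval x)⁻¹ := by
  have hp : p ≠ 0 := by
    rintro rfl
    simp at hx
  have hY : algebraMap ℚ[X] (RatFunc ℚ) p ≠ 0 := RatFunc.algebraMap_ne_zero hp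
  have hdvd : (algebraMap ℚ[X] (RatFunc ℚ) p)⁻¹.denom ∣ p := by
    have := RatFunc.denom_inv_dvd hY
    rwa [RatFunc.num_algebraMap] at this
  have hden : DenOK (algebraMap ℚ[X] (RatFunc ℚ) p)⁻¹ x :=
    denOK_of_dvd hdvd (by rwa [Polynomial.eval₂_id])
  refine ⟨hden, ?_⟩
  have hmul := RatFunc.eval_mul (f := RingHom.id ℚ) (a := x) (denOK_algebraMap p x) hden
  rw [mul_inv_cancel₀ hY, RatFunc.eval_one, RatFunc.eval_algebraMap] at hmul
  simp only [Algebra.algebraMap_self, RingHom.id_apply, Polynomial.eval₂_id] at hmul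
  exact eq_inv_of_mul_eq_one_right hmul.symm

lemma good_zero : Good 0 := by
  refine ⟨0, 0, fun x _ => ⟨by simp [DenOK, RatFunc.denom_zero], ?_⟩⟩
  simpa [ev] using IsSer.zero ((x : ℝ)⁻¹)

lemma good_one : Good 1 := by
  refine ⟨0, Pi.single 0 1, fun x _ => ⟨by simp [DenOK, RatFunc.denom_one], ?_⟩⟩
  simpa [ev] using IsSer.single 0 ((x : ℝ)⁻¹)

lemma good_neg_one : Good (-1) := by
  refine ⟨0, -Pi.single 0 1, fun x _ => ⟨?_, ?_⟩⟩
  · have := denOK_algebraMap (-1) x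
    simpa using this
  · have h : ev (-1) x = -1 := by
      have : (-1 : RatFunc ℚ) = RatFunc.C (-1) := by simp
      rw [ev, this, RatFunc.eval_C]
      simp
    have := (IsSer.single 0 ((x : ℝ)⁻¹)).neg
    simpa [h] using this

lemma good_X : Good RatFunc.X := by
  refine ⟨1, Pi.single 0 1, fun x hx => ⟨by simp [DenOK, RatFunc.denom_X], ?_⟩⟩
  have hx0 : (x : ℝ) ≠ 0 := by
    have : (0 : ℚ) < x := lt_trans zero_lt_one hx
    exact_mod_cast this.ne'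
  have := IsSer.single 0 ((x : ℝ)⁻¹)
  simpa [ev, RatFunc.eval_X, hx0] using this

lemma good_X_inv : Good (RatFunc.X : RatFunc ℚ)⁻¹ := by
  refine ⟨0, Pi.single 1 1, fun x hx => ?_⟩
  have hx0 : x ≠ 0 := (lt_trans zero_lt_one hx).ne'
  have h := inv_poly Polynomial.X x (by simpa using hx0)
  rw [RatFunc.algebraMap_X] at h
  refine ⟨h.1, ?_⟩
  have := IsSer.single 1 ((x : ℝ)⁻¹)
  simpa [h.2] using this

lemma good_geom (n : ℕ) : Good ((RatFunc.X : RatFunc ℚ) ^ (n + 1) - 1)⁻¹ := by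
  refine ⟨0, fun i => if 0 < i ∧ (n + 1) ∣ i then 1 else 0, fun x hx => ?_⟩
  have hx0 : (0 : ℚ) < x := lt_trans zero_lt_one hx
  have hpow : 1 < x ^ (n + 1) := one_lt_pow₀ hx (Nat.succ_ne_zero n)
  have hne : (Polynomial.X ^ (n + 1) - 1 : ℚ[X]).eval x ≠ 0 := by
    simp only [Polynomial.eval_sub, Polynomial.eval_pow, Polynomial.eval_X, Polynomial.eval_one]
    exact (sub_pos.2 hpow).ne'
  have h := inv_poly (Polynomial.X ^ (n + 1) - 1) x hne
  have hmap : algebraMap ℚ[X] (RatFunc ℚ) (Polynomial.X ^ (n + 1) - 1)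
      = (RatFunc.X : RatFunc ℚ) ^ (n + 1) - 1 := by
    simp [RatFunc.algebraMap_X]
  rw [hmap] at h
  refine ⟨h.1, ?_⟩
  have hxr : (1 : ℝ) < (x : ℝ) := by exact_mod_cast hx
  have hxr0 : (0 : ℝ) < (x : ℝ) := lt_trans zero_lt_one hxr
  have hu0 : (0 : ℝ) ≤ (x : ℝ)⁻¹ := (inv_pos.2 hxr0).le
  have hu1 : (x : ℝ)⁻¹ < 1 := inv_lt_one_of_one_lt₀ hxr
  have := IsSer.geom n hu0 hu1
  have hval : ((x : ℝ)⁻¹) ^ (n + 1) / (1 - ((x : ℝ)⁻¹) ^ (n + 1))
      = ((x : ℝ)⁻¹) ^ 0 * ((ev ((RatFunc.X : RatFunc ℚ) ^ (n + 1) - 1)⁻¹ x : ℚ) : ℝ) := by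
    rw [h.2]
    simp only [Polynomial.eval_sub, Polynomial.eval_pow, Polynomial.eval_X, Polynomial.eval_one]
    push_cast
    have hp : ((x : ℝ)) ^ (n + 1) ≠ 0 := pow_ne_zero _ hxr0.ne'
    have hp1 : ((x : ℝ)) ^ (n + 1) - 1 ≠ 0 := by
      have : (1 : ℝ) < (x : ℝ) ^ (n + 1) := one_lt_pow₀ hxr (Nat.succ_ne_zero n)
      exact (sub_pos.2 this).ne'
    rw [inv_pow]
    field_simp
  rw [hval] at this
  exact this

lemma good_mul {F G : RatFunc ℚ} (hF : Good F) (hG : Good G) : Good (F * G) := by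
  obtain ⟨a, c, hc⟩ := hF
  obtain ⟨b, d, hd⟩ := hG
  refine ⟨a + b, conv c d, fun x hx => ?_⟩
  obtain ⟨h1, h2⟩ := hc x hx
  obtain ⟨h3, h4⟩ := hd x hx
  refine ⟨denOK_mul h1 h3, ?_⟩
  have hev : ev (F * G) x = ev F x * ev G x := RatFunc.eval_mul (f := RingHom.id ℚ) (a := x) h1 h3
  have := h2.mul h4
  have hval : ((x : ℝ)⁻¹) ^ a * ((ev F x : ℚ) : ℝ) * (((x : ℝ)⁻¹) ^ b * ((ev G x : ℚ) : ℝ))
      = ((x : ℝ)⁻¹) ^ (a + b) * ((ev (F * G) x : ℚ) : ℝ) := by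
    rw [hev]
    push_cast
    ring
  rw [hval] at this
  exact this

lemma good_neg {F : RatFunc ℚ} (hF : Good F) : Good (-F) := by
  have : -F = (-1) * F := by ring
  rw [this]
  exact good_mul good_neg_one hF

lemma good_add {F G : RatFunc ℚ} (hF : Good F) (hG : Good G) : Good (F + G) := by
  obtain ⟨a, c, hc⟩ := hF
  obtain ⟨b, d, hd⟩ := hG
  refine ⟨a + b, conv (Pi.single b 1) c + conv (Pi.single a 1) d, fun x hx => ?_⟩
  obtain ⟨h1, h2⟩ := hc x hx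
  obtain ⟨h3, h4⟩ := hd x hx
  refine ⟨denOK_add h1 h3, ?_⟩
  have hev : ev (F + G) x = ev F x + ev G x := RatFunc.eval_add (f := RingHom.id ℚ) (a := x) h1 h3
  have := ((IsSer.single b ((x : ℝ)⁻¹)).mul h2).add ((IsSer.single a ((x : ℝ)⁻¹)).mul h4)
  have hval : ((x : ℝ)⁻¹) ^ b * (((x : ℝ)⁻¹) ^ a * ((ev F x : ℚ) : ℝ))
        + ((x : ℝ)⁻¹) ^ a * (((x : ℝ)⁻¹) ^ b * ((ev G x : ℚ) : ℝ))
      = ((x : ℝ)⁻¹) ^ (a + b) * ((ev (F + G) x : ℚ) : ℝ) := by
    rw [hev]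
    push_cast
    ring
  rw [hval] at this
  exact this

/-- every element of `ℤ[X, X⁻¹, 1/(Xⁿ-1)]` has a Laurent expansion at infinity -/
theorem good_of_mem_closure {F : RatFunc ℚ}
    (hF : F ∈ Subring.closure
      (({RatFunc.X, (RatFunc.X : RatFunc ℚ)⁻¹} : Set (RatFunc ℚ)) ∪
        Set.range fun n : ℕ => ((RatFunc.X : RatFunc ℚ) ^ (n + 1) - 1)⁻¹)) : Good F := by
  induction hF using Subring.closure_induction with
  | mem x hx =>
    rcases hx with hx | ⟨n, rfl⟩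
    · rcases hx with rfl | hx
      · exact good_X
      · rw [Set.mem_singleton_iff] at hx
        rw [hx]
        exact good_X_inv
    · exact good_geom n
  | zero => exact good_zero
  | one => exact good_one
  | add x y _ _ hx hy => exact good_add hx hy
  | neg x _ hx => exact good_neg hx
  | mul x y _ _ hx hy => exact good_mul hx hy

end Groth.Agent.Lib.T2H2.LaurRec
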