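import Groth.Agent.Lib.T2H2LaurRecB

/-!
# Rationality of `exp(∑ F(q^v) t^v / v)` forces `F` to be a Laurent polynomial
-/

set_option autoImplicit false

namespace Groth.Agent.Lib.T2H2.LaurRec

open PowerSeries Finset


/-- From rationality of `exp(∑ N_v t^v / v)` to a linear recurrence for `N`. -/
theorem exists_recurrence (N : ℕ → ℚ)
    (hrat : ∃ P Q : Polynomial ℚ, Q ≠ 0 ∧
      (PowerSeries.exp ℚ).subst
          (PowerSeries.mk fun v : ℕ => if v = 0 then (0 : ℚ) else N v / (v : ℚ))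
        * (Q : PowerSeries ℚ) = (P : PowerSeries ℚ)) :
    ∃ (R : Polynomial ℚ) (w₀ : ℕ), R ≠ 0 ∧ 1 ≤ w₀ ∧ ∀ w, w₀ ≤ w →
      ∑ k ∈ range (R.natDegree + 1), R.coeff (R.natDegree - k) * N (w + k) = 0 := by
  obtain ⟨P, Q, hQ, hPQ⟩ := hrat
  obtain ⟨L, hLdef⟩ : ∃ L : PowerSeries ℚ,
      L = PowerSeries.mk fun v : ℕ => if v = 0 then (0 : ℚ) else N v / (v : ℚ) := ⟨_, rfl⟩
  rw [← hLdef] at hPQ
  have hL0 : PowerSeries.constantCoeff L = 0 := by
    rw [hLdef]; simp
  have hL : PowerSeries.HasSubst L := PowerSeries.HasSubst.of_constantCoeff_zero' hL0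
  obtain ⟨Z, hZdef⟩ : ∃ Z : PowerSeries ℚ, Z = (PowerSeries.exp ℚ).subst L := ⟨_, rfl⟩
  rw [← hZdef] at hPQ
  have hZ' : d⁄dX ℚ Z = Z * d⁄dX ℚ L := by
    rw [hZdef, PowerSeries.derivative_subst hL, PowerSeries.derivative_exp]
  have hZ0 : Z ≠ 0 := by
    intro h0
    have h1 := congrArg (PowerSeries.subst L) (PowerSeries.exp_mul_exp_neg_eq_one (A := ℚ))
    rw [PowerSeries.subst_mul hL, ← hZdef, h0, zero_mul] at h1
    have h2 : PowerSeries.subst L (1 : PowerSeries ℚ) = 1 := by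
      rw [← PowerSeries.coe_substAlgHom hL, map_one]
    rw [h2] at h1
    exact zero_ne_one h1
  have hP : P ≠ 0 := by
    rintro rfl
    rw [Polynomial.coe_zero] at hPQ
    rcases mul_eq_zero.1 hPQ with h | h
    · exact hZ0 h
    · exact hQ (Polynomial.coe_eq_zero_iff.1 h)
  -- differentiate
  have hder : Z * (Polynomial.derivative Q : PowerSeries ℚ) + (Q : PowerSeries ℚ) * (Z * d⁄dX ℚ L)
      = (Polynomial.derivative P : PowerSeries ℚ) := by
    have := congrArg (d⁄dX ℚ) hPQ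
    rw [Derivation.leibniz, PowerSeries.derivative_coe, PowerSeries.derivative_coe, hZ',
      smul_eq_mul, smul_eq_mul] at this
    exact this
  have hkey : ((P * Q : Polynomial ℚ) : PowerSeries ℚ) * d⁄dX ℚ L
      = ((Polynomial.derivative P * Q - P * Polynomial.derivative Q : Polynomial ℚ) :
          PowerSeries ℚ) := by
    rw [Polynomial.coe_sub, Polynomial.coe_mul, Polynomial.coe_mul, Polynomial.coe_mul, ← hder,
      ← hPQ]
    ring
  obtain ⟨R, hRdef⟩ : ∃ R : Polynomial ℚ, R = P * Q := ⟨_, rfl⟩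
  obtain ⟨S, hSdef⟩ : ∃ S : Polynomial ℚ,
      S = Polynomial.derivative P * Q - P * Polynomial.derivative Q := ⟨_, rfl⟩
  rw [← hRdef, ← hSdef] at hkey
  have hR : R ≠ 0 := hRdef ▸ mul_ne_zero hP hQ
  have hcoeffL : ∀ j, PowerSeries.coeff j (d⁄dX ℚ L) = N (j + 1) := by
    intro j
    rw [PowerSeries.coeff_derivative, hLdef, PowerSeries.coeff_mk, if_neg (Nat.succ_ne_zero j)]
    have : ((j + 1 : ℕ) : ℚ) ≠ 0 := by exact_mod_cast Nat.succ_ne_zero j
    push_cast at this ⊢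
    field_simp
  refine ⟨R, S.natDegree + 2, hR, by omega, fun w hw => ?_⟩
  have hn : S.natDegree < w + R.natDegree - 1 := by omega
  have h0 := congrArg (PowerSeries.coeff (w + R.natDegree - 1)) hkey
  rw [Polynomial.coeff_coe, Polynomial.coeff_eq_zero_of_natDegree_lt hn, PowerSeries.coeff_mul,
    Finset.Nat.sum_antidiagonal_eq_sum_range_succ_mk] at h0
  simp only [Polynomial.coeff_coe, hcoeffL] at h0
  -- restrict to `i ≤ natDegree R`
  have hsub : range (R.natDegree + 1) ⊆ range (w + R.natDegree - 1).succ := by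
    intro i hi
    rw [Finset.mem_range] at hi ⊢
    omega
  rw [← Finset.sum_subset hsub (fun i _ hi => by
    rw [Finset.mem_range, not_lt] at hi
    rw [Polynomial.coeff_eq_zero_of_natDegree_lt (by omega), zero_mul])] at h0
  rw [← Finset.sum_range_reflect] at h0
  rw [← h0]
  refine Finset.sum_congr rfl fun k hk => ?_
  rw [Finset.mem_range] at hk
  have e1 : R.natDegree + 1 - 1 - k = R.natDegree - k := by omega
  have e2 : w + R.natDegree - 1 - (R.natDegree - k) + 1 = w + k := by omega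
  rw [e1, e2]


/-- A power series `∑ dᵢ yⁱ` converging absolutely at `y = u` and vanishing at `y = u^w` for all
large `w` has all coefficients zero. -/
theorem coeff_zero_of_vanishing (d : ℕ → ℝ) (u : ℝ) (hu0 : 0 < u) (hu1 : u < 1)
    (hsum : Summable (fun i => |d i| * u ^ i)) (w₁ : ℕ)
    (hvan : ∀ w, w₁ ≤ w → HasSum (fun i => d i * (u ^ w) ^ i) 0) : ∀ i, d i = 0 := by
  by_contra hcon
  push Not at hcon
  classical
  obtain ⟨i₀, hi₀, hmin⟩ : ∃ i₀, d i₀ ≠ 0 ∧ ∀ i < i₀, d i = 0 :=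
    ⟨Nat.find hcon, Nat.find_spec hcon, fun i hi => by
      have := Nat.find_min hcon hi
      push Not at this
      exact this⟩
  -- the tail constant
  have hsumK : Summable (fun m => |d (m + (i₀ + 1))| * u ^ m) := by
    have h1 : Summable (fun m => |d (m + (i₀ + 1))| * u ^ (m + (i₀ + 1))) :=
      (summable_nat_add_iff (i₀ + 1)).2 hsum
    have h2 := h1.mul_right ((u ^ (i₀ + 1))⁻¹)
    refine h2.congr fun m => ?_
    have : u ^ (i₀ + 1) ≠ 0 := pow_ne_zero _ hu0.ne'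
    rw [pow_add]
    field_simp
  obtain ⟨K, hKdef⟩ : ∃ K : ℝ, K = ∑' m, |d (m + (i₀ + 1))| * u ^ m := ⟨_, rfl⟩
  have hK0 : 0 ≤ K := hKdef ▸ tsum_nonneg fun m => mul_nonneg (abs_nonneg _) (pow_nonneg hu0.le _)
  -- the key estimate
  have hest : ∀ w, w₁ ≤ w → 1 ≤ w → |d i₀| ≤ u ^ w * K := by
    intro w hw hw1
    have hs := hvan w hw
    have huw0 : 0 < u ^ w := pow_pos hu0 w
    have huw1 : u ^ w ≤ u := by
      calc u ^ w ≤ u ^ 1 := pow_le_pow_of_le_one hu0.le hu1.le hw1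
        _ = u := pow_one u
    have hsplit := hs.summable.sum_add_tsum_nat_add (i₀ + 1)
    rw [hs.tsum_eq] at hsplit
    have hfin : ∑ i ∈ range (i₀ + 1), d i * (u ^ w) ^ i = d i₀ * (u ^ w) ^ i₀ := by
      rw [Finset.sum_eq_single i₀]
      · intro i hi hne
        rw [Finset.mem_range] at hi
        rw [hmin i (by omega), zero_mul]
      · intro h
        exact absurd (Finset.mem_range.2 (Nat.lt_succ_self i₀)) h
    rw [hfin] at hsplit
    have htail : |∑' m, d (m + (i₀ + 1)) * (u ^ w) ^ (m + (i₀ + 1))|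
        ≤ (u ^ w) ^ i₀ * (u ^ w * K) := by
      have hbound : ∀ m, |d (m + (i₀ + 1)) * (u ^ w) ^ (m + (i₀ + 1))|
          ≤ ((u ^ w) ^ i₀ * u ^ w) * (|d (m + (i₀ + 1))| * u ^ m) := by
        intro m
        rw [abs_mul, abs_of_nonneg (pow_nonneg huw0.le _)]
        have h1 : (u ^ w) ^ (m + (i₀ + 1)) = (u ^ w) ^ i₀ * u ^ w * (u ^ w) ^ m := by
          rw [pow_add, pow_succ]; ring
        have h2 : (u ^ w) ^ m ≤ u ^ m := pow_le_pow_left₀ huw0.le huw1 m
        rw [h1]
        have h3 : 0 ≤ |d (m + (i₀ + 1))| * ((u ^ w) ^ i₀ * u ^ w) :=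
          mul_nonneg (abs_nonneg _) (mul_nonneg (pow_nonneg huw0.le _) huw0.le)
        calc |d (m + (i₀ + 1))| * ((u ^ w) ^ i₀ * u ^ w * (u ^ w) ^ m)
            = (|d (m + (i₀ + 1))| * ((u ^ w) ^ i₀ * u ^ w)) * (u ^ w) ^ m := by ring
          _ ≤ (|d (m + (i₀ + 1))| * ((u ^ w) ^ i₀ * u ^ w)) * u ^ m :=
              mul_le_mul_of_nonneg_left h2 h3
          _ = ((u ^ w) ^ i₀ * u ^ w) * (|d (m + (i₀ + 1))| * u ^ m) := by ring
      have hsumB : Summable (fun m => ((u ^ w) ^ i₀ * u ^ w) * (|d (m + (i₀ + 1))| * u ^ m)) :=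
        hsumK.mul_left _
      have hsumA : Summable (fun m => |d (m + (i₀ + 1)) * (u ^ w) ^ (m + (i₀ + 1))|) :=
        Summable.of_nonneg_of_le (fun _ => abs_nonneg _) hbound hsumB
      calc |∑' m, d (m + (i₀ + 1)) * (u ^ w) ^ (m + (i₀ + 1))|
          ≤ ∑' m, |d (m + (i₀ + 1)) * (u ^ w) ^ (m + (i₀ + 1))| := by
            have := norm_tsum_le_tsum_norm (f := fun m => d (m + (i₀ + 1)) * (u ^ w) ^ (m + (i₀ + 1)))
              (by simpa [Real.norm_eq_abs] using hsumA)
            simpa [Real.norm_eq_abs] using this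
        _ ≤ ∑' m, ((u ^ w) ^ i₀ * u ^ w) * (|d (m + (i₀ + 1))| * u ^ m) :=
            hsumA.tsum_le_tsum hbound hsumB
        _ = (u ^ w) ^ i₀ * (u ^ w * K) := by
            rw [tsum_mul_left, hKdef]; ring
    have hmain : |d i₀| * (u ^ w) ^ i₀ ≤ (u ^ w) ^ i₀ * (u ^ w * K) := by
      have : d i₀ * (u ^ w) ^ i₀ = -∑' m, d (m + (i₀ + 1)) * (u ^ w) ^ (m + (i₀ + 1)) := by
        linarith
      calc |d i₀| * (u ^ w) ^ i₀ = |d i₀ * (u ^ w) ^ i₀| := by
            rw [abs_mul, abs_of_nonneg (pow_nonneg huw0.le _)]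
        _ = |∑' m, d (m + (i₀ + 1)) * (u ^ w) ^ (m + (i₀ + 1))| := by rw [this, abs_neg]
        _ ≤ _ := htail
    have hpos : 0 < (u ^ w) ^ i₀ := pow_pos huw0 _
    rw [mul_comm] at hmain
    exact le_of_mul_le_mul_left hmain hpos
  -- choose `w` large
  have hdpos : 0 < |d i₀| / (K + 1) := div_pos (abs_pos.2 hi₀) (by linarith)
  obtain ⟨w', hw'⟩ := exists_pow_lt_of_lt_one hdpos hu1
  have hw := hest (max w' (max w₁ 1)) (le_trans (le_max_left _ _) (le_max_right _ _))
    (le_trans (le_max_right _ _) (le_max_right _ _))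
  have hle : u ^ (max w' (max w₁ 1)) ≤ u ^ w' :=
    pow_le_pow_of_le_one hu0.le hu1.le (le_max_left _ _)
  have : u ^ (max w' (max w₁ 1)) * K < |d i₀| := by
    calc u ^ (max w' (max w₁ 1)) * K ≤ u ^ w' * K := mul_le_mul_of_nonneg_right hle hK0
      _ ≤ u ^ w' * (K + 1) := mul_le_mul_of_nonneg_left (by linarith) (pow_nonneg hu0.le _)
      _ < |d i₀| / (K + 1) * (K + 1) := mul_lt_mul_of_pos_right hw' (by linarith)
      _ = |d i₀| := by field_simp
  linarith


/-- If the values `∑ cᵢ (u^v)ⁱ` satisfy a linear recurrence in `v`, then `c` is eventually zero. -/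
theorem eventually_zero (c : ℕ → ℤ) (u : ℝ) (hu0 : 0 < u) (hu1 : u < 1) (D : ℕ) (ρ : ℕ → ℝ)
    (hρ : ρ 0 ≠ 0) (Nt : ℕ → ℝ) (hser : ∀ v, 1 ≤ v → IsSer c (u ^ v) (Nt v)) (w₀ : ℕ)
    (hrec : ∀ w, w₀ ≤ w → ∑ k ∈ range (D + 1), ρ k * Nt (w + k) = 0) :
    ∃ M, ∀ i, M < i → c i = 0 := by
  classical
  obtain ⟨Tp, hTp⟩ : ∃ Tp : Polynomial ℝ,
      Tp = ∑ k ∈ range (D + 1), Polynomial.C (ρ k) * Polynomial.X ^ k := ⟨_, rfl⟩
  have hTeval : ∀ y : ℝ, Tp.eval y = ∑ k ∈ range (D + 1), ρ k * y ^ k := by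
    intro y
    rw [hTp, Polynomial.eval_finsetSum]
    simp
  have hTp0 : Tp ≠ 0 := by
    intro h0
    have : Tp.coeff 0 = ρ 0 := by
      rw [hTp, Polynomial.finsetSum_coeff]
      simp only [Polynomial.coeff_C_mul, Polynomial.coeff_X_pow]
      rw [Finset.sum_eq_single 0]
      · simp
      · intro k _ hk
        simp [Ne.symm hk]
      · intro h
        exact absurd (Finset.mem_range.2 (Nat.succ_pos D)) h
    rw [h0, Polynomial.coeff_zero] at this
    exact hρ this.symm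
  -- bound for `T` on `[0, 1]`
  have hTbound : ∀ i, |Tp.eval (u ^ i)| ≤ ∑ k ∈ range (D + 1), |ρ k| := by
    intro i
    rw [hTeval]
    refine (Finset.abs_sum_le_sum_abs _ _).trans (Finset.sum_le_sum fun k _ => ?_)
    rw [abs_mul]
    have h1 : |(u ^ i) ^ k| ≤ 1 := by
      rw [abs_of_nonneg (pow_nonneg (pow_nonneg hu0.le _) _)]
      exact pow_le_one₀ (pow_nonneg hu0.le _) (pow_le_one₀ hu0.le hu1.le)
    calc |ρ k| * |(u ^ i) ^ k| ≤ |ρ k| * 1 := mul_le_mul_of_nonneg_left h1 (abs_nonneg _)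
      _ = |ρ k| := mul_one _
  have hd : ∀ i, (c i : ℝ) * Tp.eval (u ^ i) = 0 := by
    apply coeff_zero_of_vanishing (fun i => (c i : ℝ) * Tp.eval (u ^ i)) u hu0 hu1 ?_ (max w₀ 1)
    · intro w hw
      have hw0 : w₀ ≤ w := le_trans (le_max_left _ _) hw
      have hw1 : 1 ≤ w := le_trans (le_max_right _ _) hw
      have h := hasSum_sum (s := range (D + 1))
        (f := fun k i => ρ k * ((c i : ℝ) * (u ^ (w + k)) ^ i))
        (a := fun k => ρ k * Nt (w + k))
        (fun k _ => ((hser (w + k) (by omega)).2).mul_left (ρ k))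
      rw [hrec w hw0] at h
      have hfun : (fun i => ∑ k ∈ range (D + 1), ρ k * ((c i : ℝ) * (u ^ (w + k)) ^ i))
          = fun i => (c i : ℝ) * Tp.eval (u ^ i) * (u ^ w) ^ i := by
        funext i
        rw [hTeval, Finset.mul_sum, Finset.sum_mul]
        refine Finset.sum_congr rfl fun k _ => ?_
        have : (u ^ (w + k)) ^ i = (u ^ w) ^ i * (u ^ i) ^ k := by
          rw [← pow_mul, ← pow_mul, ← pow_mul, ← pow_add]
          congr 1
          ring
        rw [this]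
        ring
      rw [hfun] at h
      exact h
    · have h1 : Summable (fun i => |(c i : ℝ)| * u ^ i) := by
        have := (hser 1 le_rfl).1
        refine this.congr fun i => ?_
        rw [pow_one, Real.norm_eq_abs, abs_mul, abs_of_nonneg (pow_nonneg hu0.le _)]
      refine Summable.of_nonneg_of_le (fun i => mul_nonneg (abs_nonneg _) (pow_nonneg hu0.le _))
        (fun i => ?_) (h1.mul_left (∑ k ∈ range (D + 1), |ρ k|))
      rw [abs_mul]
      calc |(c i : ℝ)| * |Tp.eval (u ^ i)| * u ^ i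
          ≤ |(c i : ℝ)| * (∑ k ∈ range (D + 1), |ρ k|) * u ^ i :=
            mul_le_mul_of_nonneg_right
              (mul_le_mul_of_nonneg_left (hTbound i) (abs_nonneg _)) (pow_nonneg hu0.le _)
        _ = (∑ k ∈ range (D + 1), |ρ k|) * (|(c i : ℝ)| * u ^ i) := by ring
  -- finitely many roots
  have hinj : Function.Injective (fun i : ℕ => u ^ i) :=
    (pow_right_strictAnti₀ hu0 hu1).injective
  have hfin : {i : ℕ | Tp.eval (u ^ i) = 0}.Finite := by
    have : {i : ℕ | Tp.eval (u ^ i) = 0} ⊆ (fun i : ℕ => u ^ i) ⁻¹' (Tp.roots.toFinset : Set ℝ) := by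
      intro i hi
      simp only [Set.mem_preimage, Finset.mem_coe, Multiset.mem_toFinset]
      exact (Polynomial.mem_roots hTp0).2 hi
    exact (Set.Finite.preimage hinj.injOn (Finset.finite_toSet _)).subset this
  obtain ⟨M, hM⟩ := hfin.bddAbove
  refine ⟨M, fun i hi => ?_⟩
  have hne : Tp.eval (u ^ i) ≠ 0 := fun h0 => absurd (hM h0) (not_le.2 hi)
  have := hd i
  rcases mul_eq_zero.1 this with h | h
  · exact_mod_cast h
  · exact absurd h hne


/-- A rational function with a Laurent expansion at infinity whose values at the powers of `q`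
satisfy a linear recurrence is a Laurent polynomial with integer coefficients. -/
theorem laurent_poly_of_recurrence (q : ℤ) (hq : 1 < q) (F : RatFunc ℚ) (hF : Good F)
    (R : Polynomial ℚ) (hR : R ≠ 0) (w₀ : ℕ)
    (hrec : ∀ w, w₀ ≤ w → ∑ k ∈ range (R.natDegree + 1),
      R.coeff (R.natDegree - k) * ev F ((q : ℚ) ^ (w + k)) = 0) :
    ∃ (P : Polynomial ℤ) (a : ℕ),
      F * RatFunc.X ^ a = algebraMap (Polynomial ℚ) (RatFunc ℚ) (P.map (Int.castRingHom ℚ)) := by
  classical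
  obtain ⟨a, c, hc⟩ := hF
  have hq1 : (1 : ℚ) < (q : ℚ) := by exact_mod_cast hq
  have hqr1 : (1 : ℝ) < (q : ℝ) := by exact_mod_cast hq
  have hqr0 : (0 : ℝ) < (q : ℝ) := lt_trans zero_lt_one hqr1
  obtain ⟨u, hu⟩ : ∃ u : ℝ, u = ((q : ℝ))⁻¹ := ⟨_, rfl⟩
  have hu0 : 0 < u := hu ▸ inv_pos.2 hqr0
  have hu1 : u < 1 := hu ▸ inv_lt_one_of_one_lt₀ hqr1
  obtain ⟨D, hD⟩ : ∃ D, D = R.natDegree := ⟨_, rfl⟩
  rw [← hD] at hrec
  have hser : ∀ v, 1 ≤ v → IsSer c (u ^ v) ((u ^ v) ^ a * ((ev F ((q : ℚ) ^ v) : ℚ) : ℝ)) := by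
    intro v hv
    have hx : (1 : ℚ) < (q : ℚ) ^ v := one_lt_pow₀ hq1 (by omega)
    have := (hc _ hx).2
    have e : (((q : ℚ) ^ v : ℚ) : ℝ)⁻¹ = u ^ v := by
      push_cast
      rw [hu, inv_pow]
    rw [e] at this
    exact this
  obtain ⟨M, hM⟩ := eventually_zero c u hu0 hu1 D
    (fun k => (R.coeff (D - k) : ℝ) * u ^ ((D - k) * a))
    (by
      simp only [Nat.sub_zero]
      refine mul_ne_zero ?_ (pow_ne_zero _ hu0.ne')
      have : R.coeff D ≠ 0 := by
        rw [hD]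
        exact Polynomial.leadingCoeff_ne_zero.2 hR
      exact_mod_cast this)
    (fun v => (u ^ v) ^ a * ((ev F ((q : ℚ) ^ v) : ℚ) : ℝ)) hser w₀
    (by
      intro w hw
      have h0 := hrec w hw
      have h1 : (((∑ k ∈ range (D + 1), R.coeff (D - k) * ev F ((q : ℚ) ^ (w + k)) : ℚ)) : ℝ)
          = 0 := by rw [h0]; simp
      push_cast at h1
      have : ∑ k ∈ range (D + 1), (R.coeff (D - k) : ℝ) * u ^ ((D - k) * a) *
            ((u ^ (w + k)) ^ a * ((ev F ((q : ℚ) ^ (w + k)) : ℚ) : ℝ))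
          = u ^ ((w + D) * a) * ∑ k ∈ range (D + 1),
            (R.coeff (D - k) : ℝ) * ((ev F ((q : ℚ) ^ (w + k)) : ℚ) : ℝ) := by
        rw [Finset.mul_sum]
        refine Finset.sum_congr rfl fun k hk => ?_
        rw [Finset.mem_range] at hk
        have e : (w + D) * a = (D - k) * a + (w + k) * a := by
          rw [← Nat.add_mul]
          congr 1
          omega
        rw [e, pow_add u ((D - k) * a) ((w + k) * a), pow_mul u (w + k) a]
        ring
      rw [this]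
      have h2 : ∑ k ∈ range (D + 1),
          (R.coeff (D - k) : ℝ) * ((ev F ((q : ℚ) ^ (w + k)) : ℚ) : ℝ) = 0 := by
        exact_mod_cast h1
      rw [h2, mul_zero])
  -- the polynomial identity at rational points
  have hval : ∀ x : ℚ, 1 < x →
      x ^ M * ev F x = ∑ i ∈ range (M + 1), (c i : ℚ) * x ^ (a + M - i) := by
    intro x hx
    obtain ⟨-, -, hs⟩ := hc x hx
    have hx0 : (x : ℝ) ≠ 0 := by
      have : (0 : ℚ) < x := lt_trans zero_lt_one hx
      exact_mod_cast this.ne'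
    have hfin : HasSum (fun i => (c i : ℝ) * ((x : ℝ)⁻¹) ^ i)
        (∑ i ∈ range (M + 1), (c i : ℝ) * ((x : ℝ)⁻¹) ^ i) := by
      refine hasSum_sum_of_ne_finset_zero fun i hi => ?_
      rw [Finset.mem_range, not_lt] at hi
      rw [hM i (by omega)]
      simp
    have hEq := hs.unique hfin
    have hreal : (x : ℝ) ^ M * ((ev F x : ℚ) : ℝ)
        = ∑ i ∈ range (M + 1), (c i : ℝ) * (x : ℝ) ^ (a + M - i) := by
      calc (x : ℝ) ^ M * ((ev F x : ℚ) : ℝ)
          = (x : ℝ) ^ (a + M) * (((x : ℝ)⁻¹) ^ a * ((ev F x : ℚ) : ℝ)) := by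
            rw [pow_add, inv_pow]
            field_simp
        _ = (x : ℝ) ^ (a + M) * ∑ i ∈ range (M + 1), (c i : ℝ) * ((x : ℝ)⁻¹) ^ i := by rw [hEq]
        _ = ∑ i ∈ range (M + 1), (c i : ℝ) * (x : ℝ) ^ (a + M - i) := by
            rw [Finset.mul_sum]
            refine Finset.sum_congr rfl fun i hi => ?_
            rw [Finset.mem_range] at hi
            have e : a + M = (a + M - i) + i := by omega
            rw [inv_pow]
            nth_rewrite 1 [e]
            rw [pow_add]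
            field_simp
    exact_mod_cast hreal
  obtain ⟨P, hP⟩ : ∃ P : Polynomial ℤ,
      P = ∑ i ∈ range (M + 1), Polynomial.C (c i) * Polynomial.X ^ (a + M - i) := ⟨_, rfl⟩
  have hPeval : ∀ x : ℚ, (P.map (Int.castRingHom ℚ)).eval x
      = ∑ i ∈ range (M + 1), (c i : ℚ) * x ^ (a + M - i) := by
    intro x
    rw [hP, Polynomial.map_sum, Polynomial.eval_finsetSum]
    simp
  refine ⟨P, M, ?_⟩
  have hW : F.num * Polynomial.X ^ M - P.map (Int.castRingHom ℚ) * F.denom = 0 := by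
    apply Polynomial.eq_zero_of_infinite_isRoot
    refine Set.Infinite.mono ?_ (Set.infinite_range_of_injective
      (f := fun n : ℕ => (n : ℚ) + 2) (fun m n h => by simpa using h))
    rintro _ ⟨n, rfl⟩
    have hx : (1 : ℚ) < (n : ℚ) + 2 := by
      have : (0 : ℚ) ≤ (n : ℚ) := Nat.cast_nonneg n
      linarith
    obtain ⟨hden, -⟩ := hc _ hx
    have hden' : F.denom.eval ((n : ℚ) + 2) ≠ 0 := by
      have := hden
      rwa [DenOK, Polynomial.eval₂_id] at this
    have hev : ev F ((n : ℚ) + 2) = F.num.eval ((n : ℚ) + 2) / F.denom.eval ((n : ℚ) + 2) := by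
      simp [ev, RatFunc.eval, Polynomial.eval₂_id]
    have h1 := hval _ hx
    rw [← hPeval, hev] at h1
    simp only [Set.mem_ofPred_eq, Polynomial.IsRoot, Polynomial.eval_sub, Polynomial.eval_mul,
      Polynomial.eval_pow, Polynomial.eval_X]
    rw [sub_eq_zero]
    field_simp at h1
    linear_combination h1
  have hdenom : algebraMap (Polynomial ℚ) (RatFunc ℚ) F.denom ≠ 0 :=
    RatFunc.algebraMap_ne_zero (RatFunc.denom_ne_zero F)
  have hnum : algebraMap (Polynomial ℚ) (RatFunc ℚ) F.num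
      = F * algebraMap (Polynomial ℚ) (RatFunc ℚ) F.denom := by
    have := RatFunc.num_div_denom F
    rw [div_eq_iff hdenom] at this
    exact this
  apply mul_right_cancel₀ hdenom
  have hW' := congrArg (algebraMap (Polynomial ℚ) (RatFunc ℚ)) (sub_eq_zero.1 hW)
  rw [map_mul, map_mul, map_pow, RatFunc.algebraMap_X, hnum] at hW'
  rw [← hW']
  ring


end Groth.Agent.Lib.T2H2.LaurRec
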