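import Mathlib
import Groth.Agent.Lib.Helper3FlatLocA

/-!
# Local finite generation of a kernel, and flatness tests used for Stacks 053B-type arguments

* `exists_fg_le_ker_of_finitePresentation_localized`: if `M_T` is finitely presented over `S_T` and
  `π : F → M` is a surjection from a finite module, there is a finitely generated `K' ≤ ker π` such
  that every element of `ker π` is carried into `K'` by an element of `T`.
* `locFGIdeal K`: the ideal of `g` such that `K` is finitely generated "up to powers of `g`".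
* `flat_localizedModule_of_surjective_of_torsion_ker`: flatness of `M'_T` from flatness of `M`.
* `flat_localizedModule_powers_of_forall_prime`: flatness of `M'_g` from flatness at all primes of
  `D(g)`.
* `exists_pow_smul_eq_zero_of_flat`: an element of `M'` killed locally at finitely many primes
  `p_j` of `R` with `R ↪ ∏ R_{p_j}` dies in `M'_g` if `M'_g` is `R`-flat.
-/

set_option autoImplicit false

namespace Groth.Agent.Lib.T2H2.LocFP

open TensorProduct Groth.Agent.Lib.Helper3.FlatLoc

section Step1

variable {S : Type*} [CommRing S] (T : Submonoid S) {F M : Type*} [AddCommGroup F] [Module S F]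
  [AddCommGroup M] [Module S M]

theorem exists_fg_le_ker_of_finitePresentation_localized [Module.Finite S F]
    (π : F →ₗ[S] M) (hπ : Function.Surjective π)
    [Module.FinitePresentation (Localization T) (LocalizedModule T M)] :
    ∃ K' : Submodule S F, K'.FG ∧ K' ≤ LinearMap.ker π ∧
      ∀ k ∈ LinearMap.ker π, ∃ t ∈ T, t • k ∈ K' := by
  classical
  let f := LocalizedModule.mkLinearMap T F
  have hfg : ((LinearMap.ker π).localized' (Localization T) T f).FG := by
    rw [LinearMap.localized'_ker_eq_ker_localizedMap (Localization T) T f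
      (LocalizedModule.mkLinearMap T M) π]
    apply Module.FinitePresentation.fg_ker
    rw [← LinearMap.range_eq_top] at hπ ⊢
    simp [← LinearMap.localized'_range_eq_range_localizedMap (Localization T) T, hπ]
  obtain ⟨t, ht⟩ := hfg
  have hmem : ∀ y ∈ t, ∃ m ∈ LinearMap.ker π, ∃ s : T, IsLocalizedModule.mk' f m s = y := by
    intro y hy
    have : y ∈ (LinearMap.ker π).localized' (Localization T) T f := by
      rw [← ht]; exact Submodule.subset_span hy
    exact (Submodule.mem_localized' _ _ _ _ _).mp this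
  choose! m hm sden hsden using hmem
  refine ⟨Submodule.span S (m '' (t : Set _)), ?_, ?_, ?_⟩
  · exact Submodule.fg_span (t.finite_toSet.image m)
  · rw [Submodule.span_le]
    rintro _ ⟨y, hy, rfl⟩
    exact hm y hy
  · intro k hk
    have hle : (LinearMap.ker π).localized' (Localization T) T f ≤
        (Submodule.span S (m '' (t : Set _))).localized' (Localization T) T f := by
      rw [← ht, Submodule.span_le]
      intro y hy
      exact (Submodule.mem_localized' _ _ _ _ _).mpr
        ⟨m y, Submodule.subset_span ⟨y, hy, rfl⟩, sden y, hsden y hy⟩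
    have hk' : f k ∈ (LinearMap.ker π).localized' (Localization T) T f :=
      (Submodule.mem_localized' _ _ _ _ _).mpr ⟨k, hk, 1, IsLocalizedModule.mk'_one _ _ _⟩
    obtain ⟨k', hk', s, hs⟩ := (Submodule.mem_localized' _ _ _ _ _).mp (hle hk')
    rw [IsLocalizedModule.mk'_eq_iff, Submonoid.smul_def, ← map_smul] at hs
    obtain ⟨c, hc⟩ := (IsLocalizedModule.eq_iff_exists T f).mp hs
    refine ⟨(c * s : T), (c * s).2, ?_⟩
    rw [Submonoid.coe_mul, mul_smul]
    have : (c : S) • (s : S) • k = (c : S) • k' := hc.symm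
    rw [this]
    exact Submodule.smul_mem _ _ hk'

end Step1

section LocFG

variable {S : Type*} [CommRing S] {F : Type*} [AddCommGroup F] [Module S F]

/-- The ideal of elements `g` such that `K` agrees with a finitely generated submodule after
inverting `g`. -/
def locFGIdeal (K : Submodule S F) : Ideal S where
  carrier := {g | ∃ K' : Submodule S F, K'.FG ∧ K' ≤ K ∧ ∀ k ∈ K, ∃ m : ℕ, g ^ m • k ∈ K'}
  zero_mem' := ⟨⊥, Submodule.fg_bot, bot_le, fun k _ => ⟨1, by simp⟩⟩
  add_mem' := by
    rintro a b ⟨Ka, hKa, hKale, ha⟩ ⟨Kb, hKb, hKble, hb⟩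
    refine ⟨Ka ⊔ Kb, hKa.sup hKb, sup_le hKale hKble, fun k hk => ?_⟩
    obtain ⟨ma, hma⟩ := ha k hk
    obtain ⟨mb, hmb⟩ := hb k hk
    refine ⟨ma + mb, ?_⟩
    have h1 : a ^ ma ∈ Ideal.torsionOf S (F ⧸ (Ka ⊔ Kb)) ((Ka ⊔ Kb).mkQ k) := by
      rw [Ideal.mem_torsionOf_iff, ← map_smul, Submodule.mkQ_apply, Submodule.Quotient.mk_eq_zero]
      exact Submodule.mem_sup_left hma
    have h2 : b ^ mb ∈ Ideal.torsionOf S (F ⧸ (Ka ⊔ Kb)) ((Ka ⊔ Kb).mkQ k) := by
      rw [Ideal.mem_torsionOf_iff, ← map_smul, Submodule.mkQ_apply, Submodule.Quotient.mk_eq_zero]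
      exact Submodule.mem_sup_right hmb
    have h3 := Ideal.add_pow_mem_of_pow_mem_of_le (k := ma + mb) _ h1 h2 (Nat.le_succ _)
    rw [Ideal.mem_torsionOf_iff, ← map_smul, Submodule.mkQ_apply,
      Submodule.Quotient.mk_eq_zero] at h3
    exact h3
  smul_mem' := by
    rintro c a ⟨Ka, hKa, hKale, ha⟩
    refine ⟨Ka, hKa, hKale, fun k hk => ?_⟩
    obtain ⟨ma, hma⟩ := ha k hk
    refine ⟨ma, ?_⟩
    rw [smul_eq_mul, mul_pow, mul_smul]
    exact Submodule.smul_mem _ _ hma

theorem mem_locFGIdeal (K : Submodule S F) (g : S) :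
    g ∈ locFGIdeal K ↔
      ∃ K' : Submodule S F, K'.FG ∧ K' ≤ K ∧ ∀ k ∈ K, ∃ m : ℕ, g ^ m • k ∈ K' := Iff.rfl

theorem fg_of_locFGIdeal_eq_top (K : Submodule S F) (h : locFGIdeal K = ⊤) : K.FG := by
  have h1 : (1 : S) ∈ locFGIdeal K := by rw [h]; trivial
  obtain ⟨K', hK', hle, hK⟩ := h1
  have : K = K' := by
    refine le_antisymm (fun k hk => ?_) hle
    obtain ⟨m, hm⟩ := hK k hk
    simpa using hm
  rw [this]
  exact hK'

end LocFG

section FlatTests

variable {R : Type*} {S : Type*} [CommRing R] [CommRing S] [Algebra R S]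
  {M : Type*} [AddCommGroup M] [Module R M] [Module S M] [IsScalarTower R S M]
  {M' : Type*} [AddCommGroup M'] [Module R M'] [Module S M'] [IsScalarTower R S M']

/-- If `φ : M' → M` is a surjection of `S`-modules whose kernel is `T`-torsion and `M` is flat over
`R`, then `M'_T` is flat over `R`. -/
theorem flat_localizedModule_of_surjective_of_torsion_ker (T : Submonoid S) [Module.Flat R M]
    (φ : M' →ₗ[S] M) (hφ : Function.Surjective φ)
    (hker : ∀ x, φ x = 0 → ∃ s ∈ T, s • x = 0) :
    Module.Flat R (LocalizedModule T M') := by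
  rw [flat_localizedModule_iff']
  intro I z hz
  let φR : M' →ₗ[R] M := φ.restrictScalars R
  have h0 : φR.rTensor I z = 0 := by
    have hinj := Module.Flat.lTensor_preserves_injective_linearMap (M := M) I.subtype
      Subtype.val_injective
    apply hinj
    rw [map_zero, ← LinearMap.comp_apply, LinearMap.lTensor_comp_rTensor,
      ← LinearMap.rTensor_comp_lTensor, LinearMap.comp_apply, hz, map_zero]
  have hex : Function.Exact (LinearMap.ker φR).subtype φR := by
    intro x
    simp [LinearMap.mem_ker]
  have hex' := rTensor_exact I hex hφ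
  obtain ⟨w, rfl⟩ := (hex' z).mp h0
  clear h0 hz
  induction w with
  | zero => exact ⟨1, T.one_mem, by simp⟩
  | tmul l i =>
    obtain ⟨s, hs, hsl⟩ := hker l.1 l.2
    refine ⟨s, hs, ?_⟩
    rw [LinearMap.rTensor_tmul, smul_tmul']
    change (s • (l : M')) ⊗ₜ[R] i = 0
    rw [hsl, zero_tmul]
  | add a b ha hb =>
    obtain ⟨s1, hs1, h1⟩ := ha
    obtain ⟨s2, hs2, h2⟩ := hb
    refine ⟨s1 * s2, T.mul_mem hs1 hs2, ?_⟩
    rw [map_add, smul_add, mul_comm, mul_smul, h1, smul_zero, zero_add, mul_comm, mul_smul, h2,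
      smul_zero]

/-- Flatness over `R` of `M'_g` follows from flatness at all primes of `D(g)`. -/
theorem flat_localizedModule_powers_of_forall_prime (g : S)
    (h : ∀ q : Ideal S, ∀ _ : q.IsPrime, g ∉ q → Module.Flat R (LocalizedModule q.primeCompl M')) :
    Module.Flat R (LocalizedModule (Submonoid.powers g) M') := by
  rw [flat_localizedModule_iff']
  intro I z hz
  have hg : g ∈ (Ideal.torsionOf S (M' ⊗[R] I) z).radical := by
    rw [Ideal.radical_eq_sInf, Ideal.mem_sInf]
    rintro q ⟨hle, hq⟩
    by_contra hgq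
    have hflat := h q hq hgq
    rw [flat_localizedModule_iff'] at hflat
    obtain ⟨s, hs, hsz⟩ := hflat I z hz
    exact hs (hle ((Ideal.mem_torsionOf_iff _ _).mpr hsz))
  obtain ⟨m, hm⟩ := hg
  exact ⟨g ^ m, ⟨m, rfl⟩, (Ideal.mem_torsionOf_iff _ _).mp hm⟩

/-- If `R` embeds in the product of the local rings at finitely many primes, `M'_g` is flat over
`R`, and `x ∈ M'` is killed by an element outside each of these primes, then `x` dies in `M'_g`. -/
theorem exists_pow_smul_eq_zero_of_flat (s : Finset (PrimeSpectrum R))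
    (hs : Function.Injective
      fun r : R => fun p : s => algebraMap R (Localization.AtPrime p.1.asIdeal) r)
    (g : S) (hflat : Module.Flat R (LocalizedModule (Submonoid.powers g) M')) (x : M')
    (hx : ∀ j : s, ∃ a : R, a ∉ j.1.asIdeal ∧ a • x = 0) : ∃ m : ℕ, g ^ m • x = 0 := by
  classical
  let P := ∀ p : s, Localization.AtPrime p.1.asIdeal
  let f : R →ₗ[R] P := Algebra.linearMap R P
  have hf : Function.Injective f := fun a b hab => hs hab
  have hinj := Module.Flat.lTensor_preserves_injective_linearMap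
    (M := LocalizedModule (Submonoid.powers g) M') f hf
  have h0 : f.lTensor M' (x ⊗ₜ[R] (1 : R)) = 0 := by
    rw [LinearMap.lTensor_tmul]
    have h1 : f 1 = ∑ j : s, (Pi.single j 1 : P) := by
      rw [Finset.univ_sum_single]
      exact map_one (algebraMap R P)
    rw [h1, tmul_sum]
    refine Finset.sum_eq_zero fun j _ => ?_
    obtain ⟨a, ha, hax⟩ := hx j
    have ha' : a ∈ j.1.asIdeal.primeCompl := Ideal.mem_primeCompl_iff.mpr ha
    have h2 : (Pi.single j 1 : P) =
        a • (Pi.single j (IsLocalization.mk' (Localization.AtPrime j.1.asIdeal) (1 : R)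
          (⟨a, ha'⟩ : j.1.asIdeal.primeCompl)) : P) := by
      rw [← Pi.single_smul, Algebra.smul_def]
      congr 1
      have h3 := IsLocalization.mk'_spec' (Localization.AtPrime j.1.asIdeal) (1 : R)
        (⟨a, ha'⟩ : j.1.asIdeal.primeCompl)
      rw [map_one] at h3
      exact h3.symm
    rw [h2, tmul_smul, smul_tmul', hax, zero_tmul]
  obtain ⟨t, ⟨m, rfl⟩, ht⟩ :=
    (lTensor_localizedModule_injective_iff (M := M') (Submonoid.powers g) f).mp hinj _ h0
  refine ⟨m, ?_⟩
  have := congrArg (TensorProduct.rid R M') ht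
  rw [smul_tmul'] at this
  simpa using this

end FlatTests

end Groth.Agent.Lib.T2H2.LocFP
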