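import Mathlib
import Groth.Agent.Lib.T2H2LocFP
import Groth.Agent.S0387

/-!
# Stacks 053B, core form

* `exists_fg_le_ker_of_isLocalizedModule`: version of
  `exists_fg_le_ker_of_finitePresentation_localized` for an arbitrary localization.
* `fg_ker_of_flat_of_locally_fg`: the core of Stacks 053B: a surjection `π : F → M` of modules over
  `R[x₁,…,xₙ]` from a finitely presented module onto an `R`-flat module has finitely generated
  kernel as soon as this holds "locally at every prime of `R`" and `R` embeds in a finite product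
  of its local rings.
-/

set_option autoImplicit false
universe u

namespace Groth.Agent.Lib.T2H2.LocFP

section Step1'

variable {S : Type*} [CommRing S] (T : Submonoid S) (S' : Type*) [CommRing S'] [Algebra S S']
  [IsLocalization T S']
  {F M : Type*} [AddCommGroup F] [Module S F] [AddCommGroup M] [Module S M]
  {M' : Type*} [AddCommGroup M'] [Module S M'] [Module S' M'] [IsScalarTower S S' M']

open TensorProduct in
theorem exists_fg_le_ker_of_isLocalizedModule [Module.Finite S F]
    (g : M →ₗ[S] M') [IsLocalizedModule T g] (π : F →ₗ[S] M) (hπ : Function.Surjective π) [Module.FinitePresentation S' M'] :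
    ∃ K' : Submodule S F, K'.FG ∧ K' ≤ LinearMap.ker π ∧
      ∀ k ∈ LinearMap.ker π, ∃ t ∈ T, t • k ∈ K' := by
  classical
  let f : F →ₗ[S] S' ⊗[S] F := TensorProduct.mk S S' F 1
  have hf : IsLocalizedModule T f :=
    (isLocalizedModule_iff_isBaseChange T S' f).mpr (TensorProduct.isBaseChange S F S')
  have hfg : ((LinearMap.ker π).localized' S' T f).FG := by
    rw [LinearMap.localized'_ker_eq_ker_localizedMap S' T f g π]
    apply Module.FinitePresentation.fg_ker
    rw [← LinearMap.range_eq_top] at hπ ⊢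
    simp [← LinearMap.localized'_range_eq_range_localizedMap S' T, hπ]
  obtain ⟨t, ht⟩ := hfg
  have hmem : ∀ y ∈ t, ∃ m ∈ LinearMap.ker π, ∃ s : T, IsLocalizedModule.mk' f m s = y := by
    intro y hy
    have : y ∈ (LinearMap.ker π).localized' S' T f := by
      rw [← ht]; exact Submodule.subset_span hy
    exact (Submodule.mem_localized' _ _ _ _ _).mp this
  choose! m hm sden hsden using hmem
  refine ⟨Submodule.span S (m '' (t : Set _)), ?_, ?_, ?_⟩
  · exact Submodule.fg_span (t.finite_toSet.image m)
  · rw [Submodule.span_le]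
    rintro _ ⟨y, hy, rfl⟩
    exact hm y hy
  · intro k hk
    have hle : (LinearMap.ker π).localized' S' T f ≤
        (Submodule.span S (m '' (t : Set _))).localized' S' T f := by
      rw [← ht, Submodule.span_le]
      intro y hy
      exact (Submodule.mem_localized' _ _ _ _ _).mpr
        ⟨m y, Submodule.subset_span ⟨y, hy, rfl⟩, sden y, hsden y hy⟩
    have hk' : f k ∈ (LinearMap.ker π).localized' S' T f :=
      (Submodule.mem_localized' _ _ _ _ _).mpr ⟨k, hk, 1, IsLocalizedModule.mk'_one _ _ _⟩
    obtain ⟨k', hk', s, hs⟩ := (Submodule.mem_localized' _ _ _ _ _).mp (hle hk')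
    rw [IsLocalizedModule.mk'_eq_iff, Submonoid.smul_def, ← map_smul] at hs
    obtain ⟨c, hc⟩ := (IsLocalizedModule.eq_iff_exists T f).mp hs
    refine ⟨(c * s : T), (c * s).2, ?_⟩
    rw [Submonoid.coe_mul, mul_smul]
    have : (c : S) • (s : S) • k = (c : S) • k' := hc.symm
    rw [this]
    exact Submodule.smul_mem _ _ hk'

end Step1'

section Core

variable {R : Type u} [CommRing R] (n : ℕ)
  {F : Type u} [AddCommGroup F] [Module (MvPolynomial (Fin n) R) F] [Module R F]
  [IsScalarTower R (MvPolynomial (Fin n) R) F] [Module.FinitePresentation (MvPolynomial (Fin n) R) F]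
  {M : Type u} [AddCommGroup M] [Module (MvPolynomial (Fin n) R) M] [Module R M]
  [IsScalarTower R (MvPolynomial (Fin n) R) M] [Module.Flat R M]

/-- Core of Stacks 053B. -/
theorem fg_ker_of_flat_of_locally_fg (s : Finset (PrimeSpectrum R))
    (hs : Function.Injective
      fun r : R => fun p : s => algebraMap R (Localization.AtPrime p.1.asIdeal) r)
    (π : F →ₗ[MvPolynomial (Fin n) R] M) (hπ : Function.Surjective π)
    (h1 : ∀ p : PrimeSpectrum R, ∃ K' : Submodule (MvPolynomial (Fin n) R) F,
      K'.FG ∧ K' ≤ LinearMap.ker π ∧ ∀ k ∈ LinearMap.ker π, ∃ a : R, a ∉ p.asIdeal ∧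
        algebraMap R (MvPolynomial (Fin n) R) a • k ∈ K') :
    (LinearMap.ker π).FG := by
  classical
  choose Kp hKpfg hKple hKp using h1
  apply fg_of_locFGIdeal_eq_top
  by_contra hne
  obtain ⟨q, hqmax, hJq⟩ := Ideal.exists_le_maximal _ hne
  have hqprime : q.IsPrime := hqmax.isPrime
  let p : PrimeSpectrum R := ⟨q.comap (algebraMap R (MvPolynomial (Fin n) R)), inferInstance⟩
  let K' : Submodule (MvPolynomial (Fin n) R) F := Kp p ⊔ s.sup Kp
  have hK'fg : K'.FG := (hKpfg p).sup (Submodule.fg_finset_sup s Kp fun j _ => hKpfg j)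
  have hK'le : K' ≤ LinearMap.ker π :=
    sup_le (hKple p) (Finset.sup_le fun j _ => hKple j)
  have hKpj : ∀ j ∈ s, Kp j ≤ K' := fun j hj =>
    (Finset.le_sup (f := Kp) hj).trans le_sup_right
  let φ : (F ⧸ K') →ₗ[MvPolynomial (Fin n) R] M := K'.liftQ π hK'le
  have hφ : Function.Surjective φ := by
    intro m
    obtain ⟨f, rfl⟩ := hπ m
    exact ⟨K'.mkQ f, by simp [φ]⟩
  have hfp : Module.FinitePresentation (MvPolynomial (Fin n) R) (F ⧸ K') :=
    Module.finitePresentation_of_surjective K'.mkQ (Submodule.mkQ_surjective K')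
      (by rw [Submodule.ker_mkQ]; exact hK'fg)
  have hflatq : Module.Flat R (LocalizedModule q.primeCompl (F ⧸ K')) := by
    refine flat_localizedModule_of_surjective_of_torsion_ker q.primeCompl φ hφ ?_
    intro x hx
    obtain ⟨f, rfl⟩ := Submodule.mkQ_surjective K' x
    have hf : f ∈ LinearMap.ker π := by simpa [φ] using hx
    obtain ⟨a, ha, haf⟩ := hKp p f hf
    refine ⟨algebraMap R (MvPolynomial (Fin n) R) a, ha, ?_⟩
    rw [← map_smul, Submodule.mkQ_apply, Submodule.Quotient.mk_eq_zero]
    exact le_sup_left (a := Kp p) haf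
  have hopen := Groth.Agent.S0387.result (R := R) (S := MvPolynomial (Fin n) R)
    (M := F ⧸ K')
  obtain ⟨_, ⟨g, rfl⟩, hgq, hgU⟩ :=
    PrimeSpectrum.isTopologicalBasis_basic_opens.exists_subset_of_mem_open
      (show (⟨q, hqprime⟩ : PrimeSpectrum (MvPolynomial (Fin n) R)) ∈ _ from hflatq) hopen
  have hflatg : Module.Flat R (LocalizedModule (Submonoid.powers g) (F ⧸ K')) :=
    flat_localizedModule_powers_of_forall_prime g
      fun q' hq' hgq' => hgU (show (⟨q', hq'⟩ : PrimeSpectrum _) ∈ _ from hgq')
  have hgmem : g ∈ locFGIdeal (LinearMap.ker π) := by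
    refine ⟨K', hK'fg, hK'le, fun k hk => ?_⟩
    obtain ⟨m, hm⟩ := exists_pow_smul_eq_zero_of_flat s hs g hflatg
      (K'.mkQ k) (fun j => by
        obtain ⟨a, ha, hak⟩ := hKp j.1 k hk
        refine ⟨a, ha, ?_⟩
        rw [← algebraMap_smul (MvPolynomial (Fin n) R) a (K'.mkQ k), ← map_smul,
          Submodule.mkQ_apply, Submodule.Quotient.mk_eq_zero]
        exact hKpj j.1 j.2 hak)
    refine ⟨m, ?_⟩
    rw [← map_smul, Submodule.mkQ_apply, Submodule.Quotient.mk_eq_zero] at hm
    exact hm
  exact hgq (hJq hgmem)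

end Core

end Groth.Agent.Lib.T2H2.LocFP
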