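import Mathlib

set_option autoImplicit false
universe u
open IsLocalRing

namespace Groth.Agent.Lib.T2H2.OrdDVR

/-- A normal Noetherian local domain of Krull dimension one is a discrete valuation ring. -/
theorem isDiscreteValuationRing_of_dim_one (A : Type u) [CommRing A] [IsDomain A] [IsLocalRing A]
    [IsNoetherianRing A] [IsIntegrallyClosed A] (hdim : ringKrullDim A = 1) :
    IsDiscreteValuationRing A := by
  have hnf : ¬ IsField A := by
    intro hf
    have := ringKrullDim_eq_zero_of_isField hf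
    rw [hdim] at this
    exact one_ne_zero this
  have : Ring.KrullDimLE 1 A := by
    rw [Ring.krullDimLE_iff, hdim]; rfl
  have hmax : ∀ I : Ideal A, I ≠ ⊥ → I.IsPrime → I.IsMaximal :=
    Ring.krullDimLE_one_iff_of_noZeroDivisors.mp inferInstance
  have key : IsIntegrallyClosed A ∧ ∃! P : Ideal A, P ≠ ⊥ ∧ P.IsPrime := by
    refine ⟨inferInstance, maximalIdeal _, ⟨?_, inferInstance⟩, ?_⟩
    · intro h0
      exact hnf (IsLocalRing.isField_iff_maximalIdeal_eq.mpr h0)
    · rintro P ⟨hP0, hPp⟩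
      exact IsLocalRing.eq_maximalIdeal (hmax P hP0 hPp)
  exact ((IsDiscreteValuationRing.TFAE A hnf).out 3 0).mp key

variable {R : Type u} [CommRing R] [IsDomain R] [IsDiscreteValuationRing R]
  {K : Type*} [Field K] [Algebra R K] [IsFractionRing R K]

/-- in a DVR, nonnegative order means integral. -/
theorem exists_algebraMap_eq_of_one_le_ordFrac (f : K) (hf : 1 ≤ Ring.ordFrac R f) :
    ∃ c : R, algebraMap R K c = f := by
  obtain ⟨a, b, hb, rfl⟩ := IsFractionRing.div_surjective (A := R) f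
  have hf0 : algebraMap R K a / algebraMap R K b ≠ 0 := by
    intro h0
    rw [h0, map_zero] at hf
    exact absurd hf (by simp)
  have hb0 : b ≠ 0 := nonZeroDivisors.ne_zero hb
  have ha0 : a ≠ 0 := by
    rintro rfl
    simp at hf0
  have haN : a ∈ nonZeroDivisors R := mem_nonZeroDivisors_of_ne_zero ha0
  rw [map_div₀, Ring.ordFrac_eq_ord R ha0, Ring.ordFrac_eq_ord R hb0] at hf
  have hbpos : 0 < Ring.ordMonoidWithZeroHom R b :=
    zero_lt_iff.mpr (Ring.ordMonoidWithZeroHom_ne_zero hb)
  rw [one_le_div₀ hbpos, ← Ring.ord_le_iff hb haN, Ring.ord_eq_addVal, Ring.ord_eq_addVal,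
    IsDiscreteValuationRing.addVal_le_iff_dvd] at hf
  obtain ⟨c, rfl⟩ := hf
  refine ⟨c, ?_⟩
  rw [map_mul, mul_div_cancel_left₀]
  exact fun h => hb0 ((IsFractionRing.injective R K) (by rw [h, map_zero]))

/-- in a DVR, order zero means unit. -/
theorem exists_unit_algebraMap_eq_of_ordFrac_eq_one (f : K) (hf : Ring.ordFrac R f = 1) :
    ∃ u : Rˣ, algebraMap R K u = f := by
  obtain ⟨c, rfl⟩ := exists_algebraMap_eq_of_one_le_ordFrac (R := R) f hf.ge
  have := (Ring.isUnit_iff_ordFrac_one_of_isDiscreteValuationRing (R := R) (K := K) (x := c)).2 hf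
  exact ⟨this.unit, rfl⟩

end Groth.Agent.Lib.T2H2.OrdDVR
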