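import Groth.Agent.Lib.Helper28WeakKrull3
import Groth.Agent.Lib.T2H2OrdDVR

/-!
# Ring-level lemmas for local factoriality and divisors (helper2, team 2)

Namespace `Groth.Agent.Lib.T2H2.LocFact`.

* `eq_span_of_uniformizer`: in a Noetherian integrally closed domain, a prime `q` equals `(c)` as soon as `c ∈ q`
  divides every member of `q` in the localization at `q` and lies in no other prime of height one.
* `exists_irreducible_of_ordFrac`: in a DVR, a fraction of order `1` is a uniformizer.
-/

set_option autoImplicit false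
universe u

namespace Groth.Agent.Lib.T2H2.LocFact

theorem eq_span_of_uniformizer (A : Type u) [CommRing A] [IsDomain A] [IsNoetherianRing A]
    [IsIntegrallyClosed A] (q : Ideal A) [q.IsPrime] (c : A) (hc0 : c ≠ 0) (hcq : c ∈ q)
    (h1 : ∀ z ∈ q, algebraMap A (Localization.AtPrime q) c ∣ algebraMap A (Localization.AtPrime q) z)
    (h2 : ∀ (q' : Ideal A) [q'.IsPrime], q'.height = 1 → c ∈ q' → q' = q) :
    q = Ideal.span {c} := by
  apply le_antisymm
  · intro z hz
    rw [Ideal.mem_span_singleton]
    apply Groth.Agent.Lib.Helper28.WeakKrull.dvd_of_forall_associatedPrimes A c z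
    intro Q hQp hQ
    have hht := Groth.Agent.Lib.Helper22.AssHeightOne.height_eq_one_of_mem_associatedPrimes c hc0 Q hQ
    have hcQ : c ∈ Q := by
      obtain ⟨-, xbar, hx⟩ := (isAssociatedPrime_iff).mp hQ
      rw [hx, Submodule.mem_colon_singleton, Submodule.mem_bot]
      obtain ⟨x, rfl⟩ := Ideal.Quotient.mk_surjective xbar
      change Ideal.Quotient.mk _ (c * x) = 0
      rw [Ideal.Quotient.eq_zero_iff_mem, Ideal.mem_span_singleton]
      exact Dvd.intro _ rfl
    have hQq : Q = q := h2 Q hht hcQ
    subst hQq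
    exact h1 z hz
  · rw [Ideal.span_le]
    exact Set.singleton_subset_iff.mpr hcq

variable {R : Type u} [CommRing R] [IsDomain R] [IsDiscreteValuationRing R]
  {K : Type*} [Field K] [Algebra R K] [IsFractionRing R K]

/-- in a DVR, a fraction of order one is (the image of) a uniformizer. -/
theorem exists_irreducible_of_ordFrac (f : K) (hf : Ring.ordFrac R f = WithZero.exp 1) :
    ∃ ϖ : R, Irreducible ϖ ∧ algebraMap R K ϖ = f := by
  obtain ⟨ϖ, hϖ⟩ := IsDiscreteValuationRing.exists_irreducible R
  have h1 : Ring.ordFrac R (algebraMap R K ϖ) = Ring.ordFrac R f := by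
    rw [hf, Ring.ordFrac_irreducible hϖ]
  obtain ⟨u, hu⟩ := Ring.associated_of_ordFrac_eq _ _ h1
  refine ⟨u * ϖ, (irreducible_isUnit_mul u.isUnit).mpr hϖ, ?_⟩
  rw [← hu, map_mul, Units.smul_def, Algebra.smul_def]

end Groth.Agent.Lib.T2H2.LocFact
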