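import Mathlib
import Groth.Agent.Lib.Helper28Normal
import Groth.Agent.Lib.Helper15CDiv
import Groth.Agent.Lib.T2H2OrdDVR

set_option autoImplicit false
universe u
open CategoryTheory AlgebraicGeometry

namespace Groth.Agent.Lib.T2H2.OrdDVRSch

open Groth.Agent.Lib.T2H2.OrdDVR Groth.Agent.Lib.Helper15CDiv CDiv

variable {X : Scheme.{u}} [IsIntegral X] [IsLocallyNoetherian X]

theorem isDiscreteValuationRing_stalk (x : X) [IsIntegrallyClosed (X.presheaf.stalk x)]
    (hx : Order.coheight x = 1) : IsDiscreteValuationRing (X.presheaf.stalk x) := by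
  apply isDiscreteValuationRing_of_dim_one
  rw [ringKrullDim_stalk_eq_coheight, hx]
  rfl

theorem coheight_le_one_of_depth (x : X) [IsIntegrallyClosed (X.presheaf.stalk x)]
    (hd : LocCoh.depth (X.presheaf.stalk x) (X.presheaf.stalk x) = 1) : Order.coheight x ≤ 1 := by
  by_contra h
  push Not at h
  have h2 : (2 : WithBot ℕ∞) ≤ ringKrullDim (X.presheaf.stalk x) := by
    rw [ringKrullDim_stalk_eq_coheight]
    have : (2 : ℕ∞) ≤ Order.coheight x := by
      have := Order.add_one_le_of_lt h
      simpa [one_add_one_eq_two] using this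
    exact WithBot.coe_le_coe.mpr this
  have h3 := Groth.Agent.Lib.Helper28.two_le_depth_of_isIntegrallyClosed_of_two_le_dim h2
  rw [hd] at h3
  exact absurd h3 (by norm_num)

omit [IsLocallyNoetherian X] in
theorem isField_stalk_of_coheight_eq_zero (x : X) (hx : Order.coheight x = 0) :
    IsField (X.presheaf.stalk x) := by
  have : Ring.KrullDimLE 0 (X.presheaf.stalk x) := krullDimLE_of_coheight_le (n := 0) hx.le
  exact Ring.KrullDimLE.isField_of_isDomain


theorem isEffectiveAt_of_ord_nonneg (x : X) [IsIntegrallyClosed (X.presheaf.stalk x)]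
    (hx : Order.coheight x = 1) (D : Divisor X) (f : KUnits X) (hD : D.1 x = germOf X x f)
    (h : 0 ≤ Scheme.ord (f : X.functionField) x) : IsEffectiveAt D x := by
  have := isDiscreteValuationRing_stalk x hx
  have hf0 : (f : X.functionField) ≠ 0 := f.ne_zero
  rw [Scheme.le_ord_iff hx hf0] at h
  have h' : 1 ≤ Ring.ordFrac (X.presheaf.stalk x) (f : X.functionField) := h
  obtain ⟨c, hc⟩ := exists_algebraMap_eq_of_one_le_ordFrac (R := X.presheaf.stalk x) _ h'
  have hc0 : algebraMap (X.presheaf.stalk x) X.functionField c ≠ 0 := by rw [hc]; exact hf0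
  refine ⟨c, hc0, ?_⟩
  rw [hD]
  congr 1
  exact Units.ext hc.symm

theorem ord_nonneg_of_isEffectiveAt (x : X)
    (hx : Order.coheight x = 1) (D : Divisor X) (f : KUnits X) (hD : D.1 x = germOf X x f)
    (hE : IsEffectiveAt D x) : 0 ≤ Scheme.ord (f : X.functionField) x := by
  have hf0 : (f : X.functionField) ≠ 0 := f.ne_zero
  obtain ⟨c, hc0, hc⟩ := hE
  rw [hD, germOf, germOf, QuotientGroup.eq] at hc
  obtain ⟨u, hu⟩ := hc
  have hu' : algebraMap (X.presheaf.stalk x) X.functionField u
      = (f : X.functionField)⁻¹ * algebraMap (X.presheaf.stalk x) X.functionField c := by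
    have := congrArg Units.val hu
    simpa using this
  have hfc : (f : X.functionField) =
      algebraMap (X.presheaf.stalk x) X.functionField (c * ↑u⁻¹) := by
    have hu0 : algebraMap (X.presheaf.stalk x) X.functionField u ≠ 0 := by
      rw [hu']; exact mul_ne_zero (inv_ne_zero hf0) hc0
    have h1 : algebraMap (X.presheaf.stalk x) X.functionField (c * ↑u⁻¹) *
        algebraMap (X.presheaf.stalk x) X.functionField u =
        algebraMap (X.presheaf.stalk x) X.functionField c := by
      rw [← map_mul, mul_assoc, Units.inv_mul, mul_one]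
    apply mul_right_cancel₀ hu0
    rw [h1, hu']
    field_simp
  have hcu0 : c * ↑u⁻¹ ≠ 0 := by
    intro h0
    rw [h0, map_zero] at hfc
    exact hf0 hfc
  rw [Scheme.le_ord_iff hx hf0]
  have : Ring.KrullDimLE 1 (X.presheaf.stalk x) := krullDimLE_of_coheight_le hx.le
  have h1 : 1 ≤ Ring.ordFrac (X.presheaf.stalk x) (f : X.functionField) := by
    rw [hfc]
    exact Ring.ordFrac_ge_one_of_ne_zero hcu0
  exact h1

theorem germ_eq_one_of_ord_eq_zero (x : X) [IsIntegrallyClosed (X.presheaf.stalk x)]
    (hx : Order.coheight x = 1) (D : Divisor X) (f : KUnits X) (hD : D.1 x = germOf X x f)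
    (h : Scheme.ord (f : X.functionField) x = 0) : D.1 x = 1 := by
  have := isDiscreteValuationRing_stalk x hx
  have hf0 : (f : X.functionField) ≠ 0 := f.ne_zero
  rw [Scheme.ord_eq_iff hx hf0] at h
  have h' : Ring.ordFrac (X.presheaf.stalk x) (f : X.functionField) = 1 := h
  obtain ⟨u, hu⟩ := exists_unit_algebraMap_eq_of_ordFrac_eq_one (R := X.presheaf.stalk x) _ h'
  rw [hD, germOf_eq_one_iff]
  exact ⟨u, hu⟩

omit [IsLocallyNoetherian X] in
theorem exists_unit_of_coheight_eq_zero (x : X) (hx : Order.coheight x = 0) (f : KUnits X) :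
    ∃ u : (X.presheaf.stalk x)ˣ,
      algebraMap (X.presheaf.stalk x) X.functionField u = (f : X.functionField) := by
  have hF := isField_stalk_of_coheight_eq_zero x hx
  obtain ⟨c, hc⟩ := (IsFractionRing.surjective_iff_isField (R := X.presheaf.stalk x)
    (K := X.functionField)).2 hF (f : X.functionField)
  have hc0 : c ≠ 0 := by
    rintro rfl
    rw [map_zero] at hc
    exact f.ne_zero hc.symm
  obtain ⟨d, hd⟩ := hF.mul_inv_cancel hc0
  exact ⟨⟨c, d, hd, by rw [mul_comm]; exact hd⟩, hc⟩

omit [IsLocallyNoetherian X] in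
theorem germ_eq_one_of_coheight_eq_zero (x : X) (hx : Order.coheight x = 0) (D : Divisor X) :
    D.1 x = 1 := by
  obtain ⟨f, hf⟩ := QuotientGroup.mk_surjective (D.1 x)
  rw [← hf]
  exact (germOf_eq_one_iff x f).2 (exists_unit_of_coheight_eq_zero x hx f)

omit [IsLocallyNoetherian X] in
theorem isEffectiveAt_of_coheight_eq_zero (x : X) (hx : Order.coheight x = 0) (D : Divisor X) :
    IsEffectiveAt D x := by
  refine ⟨1, by simp, ?_⟩
  rw [germ_eq_one_of_coheight_eq_zero x hx D]
  symm
  rw [germOf_eq_one_iff]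
  exact ⟨1, by simp⟩

theorem coheight_eq_zero_or_one_of_depth (x : X) [IsIntegrallyClosed (X.presheaf.stalk x)]
    (hd : LocCoh.depth (X.presheaf.stalk x) (X.presheaf.stalk x) = 1) :
    Order.coheight x = 0 ∨ Order.coheight x = 1 := by
  rcases lt_or_eq_of_le (coheight_le_one_of_depth x hd) with h | h
  · exact Or.inl (Order.lt_one_iff.mp h)
  · exact Or.inr h

end Groth.Agent.Lib.T2H2.OrdDVRSch
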