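import Groth.Agent.Lib.Helper2QCoh

/-!
# Stalks at points of affine opens as localizations (helper2, team 2)

Namespace `Groth.Agent.Lib.T2H2.StalkLoc`.

* `nonempty_stalk_fromSpec_ringEquiv`: for an affine open `W` and a prime `p` of `Γ(X, W)`, the stalk of `X` at the point
  of `p` is ring-isomorphic to `Localization.AtPrime p`.
-/

set_option autoImplicit false
universe u
open CategoryTheory AlgebraicGeometry

namespace Groth.Agent.Lib.T2H2.StalkLoc
open Groth.Agent.Lib.Helper2.QCoh

/-- the stalk at the point of a prime of an affine open is the localization at that prime. -/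
theorem nonempty_stalk_fromSpec_ringEquiv {X : Scheme.{u}} {W : X.Opens} (hW : IsAffineOpen W)
    (p : PrimeSpectrum Γ(X, W)) :
    Nonempty (X.presheaf.stalk (hW.fromSpec p) ≃+* Localization.AtPrime p.asIdeal) := by
  have hy : hW.fromSpec p ∈ W := fromSpec_mem hW p
  let _ := X.presheaf.algebra_section_stalk ⟨hW.fromSpec p, hy⟩
  have h1 : IsLocalization.AtPrime (X.presheaf.stalk (hW.fromSpec p))
      (hW.primeIdealOf ⟨hW.fromSpec p, hy⟩).asIdeal := hW.isLocalization_stalk ⟨_, hy⟩
  rw [primeIdealOf_fromSpec hW p] at h1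
  exact ⟨(IsLocalization.algEquiv p.asIdeal.primeCompl (X.presheaf.stalk (hW.fromSpec p))
    (Localization.AtPrime p.asIdeal)).toRingEquiv⟩

end Groth.Agent.Lib.T2H2.StalkLoc
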