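import Groth.Agent.Lib.T2H2LocFact
import Groth.Agent.Lib.T2H2OrdDVRSch
import Groth.Agent.Lib.T2H2StalkLoc
import Groth.Agent.Lib.Helper4NormIso
import Groth.Agent.Lib.Helper5RegSeq
import Groth.Agent.S2876

/-!
# Local factoriality and prime divisors on normal integral schemes (helper2, team 2)

Namespace `Groth.Agent.Lib.T2H2.LocFactSch`.
-/

set_option autoImplicit false
universe u
open CategoryTheory AlgebraicGeometry

namespace Groth.Agent.Lib.T2H2.LocFactSch

open Groth.Agent.Lib.T2H2.OrdDVR Groth.Agent.Lib.T2H2.OrdDVRSch Groth.Agent.Lib.Helper15CDiv CDiv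
open Groth.Agent.Lib.T2H2.LocFact Groth.Agent.Lib.Helper2.QCoh

section Ord

variable {X : Scheme.{u}} [IsIntegral X] [IsLocallyNoetherian X]

theorem exists_irreducible_of_ord_eq_one (x : X) [IsIntegrallyClosed (X.presheaf.stalk x)]
    (hx : Order.coheight x = 1) (f : X.functionField) (h : Scheme.ord f x = 1) :
    ∃ ϖ : X.presheaf.stalk x, Irreducible ϖ ∧ algebraMap (X.presheaf.stalk x) X.functionField ϖ = f := by
  have := isDiscreteValuationRing_stalk x hx
  have hf0 : f ≠ 0 := by
    rintro rfl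
    simp at h
  rw [Scheme.ord_eq_iff hx hf0] at h
  have h' : Ring.ordFrac (X.presheaf.stalk x) f = WithZero.exp 1 := h
  exact exists_irreducible_of_ordFrac f h'

theorem exists_unit_of_ord_eq_zero (x : X) [IsIntegrallyClosed (X.presheaf.stalk x)]
    (hx : Order.coheight x = 1) (f : X.functionField) (hf0 : f ≠ 0) (h : Scheme.ord f x = 0) :
    ∃ u : (X.presheaf.stalk x)ˣ, algebraMap (X.presheaf.stalk x) X.functionField u = f := by
  have := isDiscreteValuationRing_stalk x hx
  rw [Scheme.ord_eq_iff hx hf0] at h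
  have h' : Ring.ordFrac (X.presheaf.stalk x) f = 1 := h
  exact exists_unit_algebraMap_eq_of_ordFrac_eq_one (R := X.presheaf.stalk x) _ h'

theorem ord_eq_one_of_irreducible (x : X) [IsIntegrallyClosed (X.presheaf.stalk x)]
    (hx : Order.coheight x = 1) (ϖ : X.presheaf.stalk x) (hϖ : Irreducible ϖ) :
    Scheme.ord (algebraMap (X.presheaf.stalk x) X.functionField ϖ) x = 1 := by
  have := isDiscreteValuationRing_stalk x hx
  have h0 : algebraMap (X.presheaf.stalk x) X.functionField ϖ ≠ 0 := by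
    intro h0
    exact hϖ.ne_zero (algebraMap_stalk_injective x (by rw [h0, map_zero]))
  rw [Scheme.ord_eq_iff hx h0]
  exact Ring.ordFrac_irreducible hϖ

theorem ord_eq_zero_of_isUnit (x : X) (hx : Order.coheight x = 1) (u : X.presheaf.stalk x)
    (hu : IsUnit u) :
    Scheme.ord (algebraMap (X.presheaf.stalk x) X.functionField u) x = 0 := by
  have : Ring.KrullDimLE 1 (X.presheaf.stalk x) := krullDimLE_of_coheight_le hx.le
  have h0 : algebraMap (X.presheaf.stalk x) X.functionField u ≠ 0 := by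
    intro h0
    exact hu.ne_zero (algebraMap_stalk_injective x (by rw [h0, map_zero]))
  rw [Scheme.ord_eq_iff hx h0]
  exact Ring.ordFrac_of_isUnit hu

end Ord

section Chart

variable {X : Scheme.{u}}

theorem height_primeIdealOf {U : X.Opens} (hU : IsAffineOpen U) (x : X) (hx : x ∈ U) :
    (hU.primeIdealOf ⟨x, hx⟩).asIdeal.height = Order.coheight x := by
  let _ := X.presheaf.algebra_section_stalk ⟨x, hx⟩
  have := hU.isLocalization_stalk ⟨x, hx⟩
  have h1 := IsLocalization.AtPrime.ringKrullDim_eq_height (hU.primeIdealOf ⟨x, hx⟩).asIdeal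
    (X.presheaf.stalk x)
  rw [ringKrullDim_stalk_eq_coheight] at h1
  exact (WithBot.coe_eq_coe.mp h1).symm

/-- the prime of `O_{X,y}` of a generalization `x₀` of `y`. -/
noncomputable def primeOf {x₀ y : X} (hs : x₀ ⤳ y) : Ideal (X.presheaf.stalk y) :=
  Ideal.comap (X.presheaf.stalkSpecializes hs).hom (IsLocalRing.maximalIdeal (X.presheaf.stalk x₀))

instance {x₀ y : X} (hs : x₀ ⤳ y) : (primeOf hs).IsPrime := by
  unfold primeOf
  infer_instance

theorem comap_germ_primeOf {x₀ y : X} (hs : x₀ ⤳ y) {U : X.Opens} (hU : IsAffineOpen U)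
    (hy : y ∈ U) :
    (primeOf hs).comap (X.presheaf.germ U y hy).hom
      = (hU.primeIdealOf ⟨x₀, hs.mem_open U.2 hy⟩).asIdeal := by
  have hx : x₀ ∈ U := hs.mem_open U.2 hy
  let _ := X.presheaf.algebra_section_stalk ⟨x₀, hx⟩
  have := hU.isLocalization_stalk ⟨x₀, hx⟩
  have h1 := IsLocalization.AtPrime.under_maximalIdeal (X.presheaf.stalk x₀)
    (hU.primeIdealOf ⟨x₀, hx⟩).asIdeal
  rw [← h1]
  unfold primeOf
  rw [Ideal.comap_comap]
  have h2 : (X.presheaf.stalkSpecializes hs).hom.comp (X.presheaf.germ U y hy).hom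
      = (X.presheaf.germ U x₀ hx).hom := by
    rw [← CommRingCat.hom_comp, X.presheaf.germ_stalkSpecializes hy hs]
  rw [h2]
  rfl

theorem primeOf_eq_map {x₀ y : X} (hs : x₀ ⤳ y) {U : X.Opens} (hU : IsAffineOpen U)
    (hy : y ∈ U) :
    primeOf hs = (hU.primeIdealOf ⟨x₀, hs.mem_open U.2 hy⟩).asIdeal.map (X.presheaf.germ U y hy).hom := by
  let _ := X.presheaf.algebra_section_stalk ⟨y, hy⟩
  have := hU.isLocalization_stalk ⟨y, hy⟩
  rw [← comap_germ_primeOf hs hU hy]
  exact (IsLocalization.map_under (hU.primeIdealOf ⟨y, hy⟩).asIdeal.primeCompl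
    (X.presheaf.stalk y) (primeOf hs)).symm

theorem height_primeOf {x₀ y : X} (hs : x₀ ⤳ y) : (primeOf hs).height = Order.coheight x₀ := by
  obtain ⟨U, hU, hy, -⟩ := exists_isAffineOpen_mem_and_subset (x := y) (U := ⊤) trivial
  let _ := X.presheaf.algebra_section_stalk ⟨y, hy⟩
  have := hU.isLocalization_stalk ⟨y, hy⟩
  rw [← IsLocalization.height_under (hU.primeIdealOf ⟨y, hy⟩).asIdeal.primeCompl (primeOf hs),
    ← height_primeIdealOf hU x₀ (hs.mem_open U.2 hy), ← comap_germ_primeOf hs hU hy]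
  rfl

/-- every prime of `O_{X,y}` is the prime of a generalization of `y`. -/
theorem exists_primeOf_eq (y : X) (Q : Ideal (X.presheaf.stalk y)) [Q.IsPrime] :
    ∃ (x₀ : X) (hs : x₀ ⤳ y), primeOf hs = Q := by
  obtain ⟨U, hU, hy, -⟩ := exists_isAffineOpen_mem_and_subset (x := y) (U := ⊤) trivial
  let _ := X.presheaf.algebra_section_stalk ⟨y, hy⟩
  have := hU.isLocalization_stalk ⟨y, hy⟩
  let q : PrimeSpectrum Γ(X, U) := ⟨Q.comap (X.presheaf.germ U y hy).hom, inferInstance⟩
  have hle : q.asIdeal ≤ (hU.primeIdealOf ⟨y, hy⟩).asIdeal := by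
    rw [← IsLocalization.AtPrime.under_maximalIdeal (X.presheaf.stalk y)
      (hU.primeIdealOf ⟨y, hy⟩).asIdeal]
    exact Ideal.comap_mono (IsLocalRing.le_maximalIdeal (Ideal.IsPrime.ne_top inferInstance))
  have hs : hU.fromSpec q ⤳ y := fromSpec_specializes hU q y hy hle
  refine ⟨hU.fromSpec q, hs, ?_⟩
  rw [primeOf_eq_map hs hU hy]
  have h1 : hU.primeIdealOf ⟨hU.fromSpec q, hs.mem_open U.2 hy⟩ = q := primeIdealOf_fromSpec hU q
  rw [h1]
  exact IsLocalization.map_under (hU.primeIdealOf ⟨y, hy⟩).asIdeal.primeCompl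
    (X.presheaf.stalk y) Q

end Chart

section Converse

variable {X : Scheme.{u}} [IsIntegral X] [IsLocallyNoetherian X]

omit [IsLocallyNoetherian X] in
open Groth.Agent.Lib.Helper20.DivDepth in
/-- an effective divisor is, near each point, the divisor of a section of the structure sheaf. -/
theorem exists_local_section_rep (D : Divisor X) (hE : IsEffective D) (y : X) :
    ∃ (U : X.Opens) (_ : IsAffineOpen U) (_ : y ∈ U) (c : Γ(X, U)) (_ : c ≠ 0) (f : KUnits X),
      (∀ z ∈ U, D.1 z = germOf X z f) ∧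
      ∀ (z : X) (hz : z ∈ U), algebraMap (X.presheaf.stalk z) X.functionField
        (X.presheaf.germ U z hz c) = (f : X.functionField) := by
  obtain ⟨U, hU, hyU, a, b, ha, hb, f, hf, hab⟩ := exists_local_rep D y
  have : Nonempty U := ⟨⟨y, hyU⟩⟩
  set J : Ideal Γ(X, U) := Submodule.colon (Ideal.span {b} : Submodule Γ(X, U) Γ(X, U)) {a} with hJ
  have hJmem : ∀ s : Γ(X, U), s ∈ J ↔ s * a ∈ Ideal.span {b} := fun s => by
    simp only [hJ, Submodule.mem_colon_singleton, smul_eq_mul]
  have hJtop : J = ⊤ := by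
    by_contra hne
    obtain ⟨p, hpmax, hJp⟩ := Ideal.exists_le_maximal J hne
    have : p.IsPrime := hpmax.isPrime
    let P : PrimeSpectrum Γ(X, U) := ⟨p, inferInstance⟩
    have hzU : hU.fromSpec P ∈ U := fromSpec_mem hU P
    have hPz : hU.primeIdealOf ⟨hU.fromSpec P, hzU⟩ = P := primeIdealOf_fromSpec hU P
    have hmem := mem_span_of_isEffectiveAt f _ _ (hab _ hzU) D (hf _ hzU) (hE _)
    obtain ⟨s, hs, hsa⟩ := (germ_mem_span_iff hU _ hzU a b).1 hmem
    rw [hPz] at hs
    exact hs (hJp ((hJmem s).2 hsa))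
  have hab' : a ∈ Ideal.span {b} := by
    have h1 : (1 : Γ(X, U)) ∈ J := hJtop ▸ Submodule.mem_top
    rw [hJmem, one_mul] at h1
    exact h1
  obtain ⟨c, hc⟩ := Ideal.mem_span_singleton'.1 hab'
  have hc0 : c ≠ 0 := by
    rintro rfl
    rw [zero_mul] at hc
    exact ha hc.symm
  refine ⟨U, hU, hyU, c, hc0, f, hf, fun z hz => ?_⟩
  have h1 := hab z hz
  have hb' : algebraMap (X.presheaf.stalk z) X.functionField (X.presheaf.germ U z hz b) ≠ 0 := by
    intro h0
    have h2 : X.presheaf.germ U z hz b = 0 := algebraMap_stalk_injective z (by rw [h0, map_zero])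
    exact hb (germ_injective_of_isIntegral X z hz (by rw [h2, map_zero]))
  apply mul_right_cancel₀ hb'
  rw [h1, ← map_mul, ← map_mul, hc]

theorem isPrincipal_primeOf_of_prime_cycles (hX : Pi1.IsNormalScheme X)
    (H : ∀ x₀ : X, Order.coheight x₀ = 1 → ∃ D : CDiv.Divisor X,
      (∀ f : CDiv.KUnits X, D.1 x₀ = CDiv.germOf X x₀ f → Scheme.ord (f : X.functionField) x₀ = 1) ∧
        ∀ x : X, x ≠ x₀ → Order.coheight x = 1 → ∀ f : CDiv.KUnits X, D.1 x = CDiv.germOf X x f →
          Scheme.ord (f : X.functionField) x = 0)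
    {x₀ y : X} (hs : x₀ ⤳ y) (hx₀ : Order.coheight x₀ = 1) : (primeOf hs).IsPrincipal := by
  obtain ⟨D, hD1, hD0⟩ := H x₀ hx₀
  have hE : IsEffective D := by
    refine (Groth.Agent.S2876.result X hX D).1.mpr (fun x hx f hf => ?_)
    by_cases hxx : x = x₀
    · subst hxx
      rw [hD1 f hf]
      norm_num
    · rw [hD0 x hxx hx f hf]
  obtain ⟨U, hU, hyU, c, hc0, f, hf, hfc⟩ := exists_local_section_rep D hE y
  have hx₀U : x₀ ∈ U := hs.mem_open U.2 hyU
  have : Nonempty U := ⟨⟨y, hyU⟩⟩
  have : IsDomain Γ(X, U) := IsIntegral.component_integral U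
  have : IsNoetherianRing Γ(X, U) := IsLocallyNoetherian.component_noetherian ⟨U, hU⟩
  have : IsIntegrallyClosed Γ(X, U) :=
    Groth.Agent.Lib.Helper4.NormIso.isIntegrallyClosed_sections hX U hU
  have hunit_iff : ∀ (z : X) (hz : z ∈ U) (t : Γ(X, U)),
      IsUnit (X.presheaf.germ U z hz t) ↔ t ∉ (hU.primeIdealOf ⟨z, hz⟩).asIdeal := by
    intro z hz t
    rw [← Scheme.mem_basicOpen, Groth.Agent.Lib.Helper2.mem_basicOpen_iff_notMem_primeIdealOf hU z hz]
  -- the germ of `c` at `x₀` is a uniformizer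
  have hic₀ : IsIntegrallyClosed (X.presheaf.stalk x₀) := (hX x₀).2
  have hdvr := isDiscreteValuationRing_stalk x₀ hx₀
  obtain ⟨ϖ, hϖ, hϖf⟩ := exists_irreducible_of_ord_eq_one x₀ hx₀ (f : X.functionField)
    (hD1 f (hf x₀ hx₀U))
  have hϖc : X.presheaf.germ U x₀ hx₀U c = ϖ :=
    algebraMap_stalk_injective x₀ (by rw [hfc x₀ hx₀U, hϖf])
  have hkey : (hU.primeIdealOf ⟨x₀, hx₀U⟩).asIdeal = Ideal.span {c} := by
    apply eq_span_of_uniformizer Γ(X, U) _ c hc0
    · by_contra hcn
      have := (hunit_iff x₀ hx₀U c).mpr hcn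
      rw [hϖc] at this
      exact hϖ.not_isUnit this
    · intro z hz
      let _ := X.presheaf.algebra_section_stalk ⟨x₀, hx₀U⟩
      have hloc := hU.isLocalization_stalk ⟨x₀, hx₀U⟩
      have hz' : X.presheaf.germ U x₀ hx₀U z ∈ IsLocalRing.maximalIdeal (X.presheaf.stalk x₀) := by
        rw [IsLocalRing.mem_maximalIdeal, mem_nonunits_iff, hunit_iff x₀ hx₀U z]
        exact not_not.mpr hz
      rw [(IsDiscreteValuationRing.irreducible_iff_uniformizer ϖ).mp hϖ, Ideal.mem_span_singleton,
        ← hϖc] at hz'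
      let e := IsLocalization.algEquiv (hU.primeIdealOf ⟨x₀, hx₀U⟩).asIdeal.primeCompl
        (X.presheaf.stalk x₀) (Localization.AtPrime (hU.primeIdealOf ⟨x₀, hx₀U⟩).asIdeal)
      have h3 := map_dvd e hz'
      have h4 : ∀ t : Γ(X, U), e (X.presheaf.germ U x₀ hx₀U t)
          = algebraMap Γ(X, U) (Localization.AtPrime (hU.primeIdealOf ⟨x₀, hx₀U⟩).asIdeal) t :=
        fun t => e.commutes t
      rw [h4, h4] at h3
      exact h3
    · intro q' hq' hq'h hcq'
      by_contra hne
      let P : PrimeSpectrum Γ(X, U) := ⟨q', hq'⟩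
      have hzU : hU.fromSpec P ∈ U := fromSpec_mem hU P
      have hPz : hU.primeIdealOf ⟨hU.fromSpec P, hzU⟩ = P := primeIdealOf_fromSpec hU P
      have hco : Order.coheight (hU.fromSpec P) = 1 := by
        rw [← height_primeIdealOf hU _ hzU, hPz]
        exact hq'h
      have hzne : hU.fromSpec P ≠ x₀ := by
        intro heq
        apply hne
        have h5 : hU.primeIdealOf ⟨hU.fromSpec P, hzU⟩ = hU.primeIdealOf ⟨x₀, hx₀U⟩ := by
          congr 1
          exact Subtype.ext heq
        rw [hPz] at h5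
        exact congrArg PrimeSpectrum.asIdeal h5
      have hic : IsIntegrallyClosed (X.presheaf.stalk (hU.fromSpec P)) := (hX _).2
      obtain ⟨u, hu⟩ := exists_unit_of_ord_eq_zero (hU.fromSpec P) hco (f : X.functionField)
        f.ne_zero (hD0 _ hzne hco f (hf _ hzU))
      have huc : X.presheaf.germ U (hU.fromSpec P) hzU c = u :=
        algebraMap_stalk_injective _ (by rw [hfc _ hzU, hu])
      have h6 := (hunit_iff _ hzU c).mp (huc ▸ u.isUnit)
      rw [hPz] at h6
      exact h6 hcq'
  rw [primeOf_eq_map hs hU hyU, hkey, Ideal.map_span, Set.image_singleton]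
  exact ⟨⟨_, rfl⟩⟩

theorem ufd_stalk_of_prime_cycles (hX : Pi1.IsNormalScheme X)
    (H : ∀ x₀ : X, Order.coheight x₀ = 1 → ∃ D : CDiv.Divisor X,
      (∀ f : CDiv.KUnits X, D.1 x₀ = CDiv.germOf X x₀ f → Scheme.ord (f : X.functionField) x₀ = 1) ∧
        ∀ x : X, x ≠ x₀ → Order.coheight x = 1 → ∀ f : CDiv.KUnits X, D.1 x = CDiv.germOf X x f →
          Scheme.ord (f : X.functionField) x = 0)
    (y : X) : UniqueFactorizationMonoid (X.presheaf.stalk y) := by
  rw [UniqueFactorizationMonoid.iff_forall_isPrincipal_of_height_eq_one]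
  intro Q hQ hQh
  obtain ⟨x₀, hs, rfl⟩ := exists_primeOf_eq y Q
  have hx₀ : Order.coheight x₀ = 1 := by rw [← height_primeOf hs, hQh]
  exact isPrincipal_primeOf_of_prime_cycles hX H hs hx₀

end Converse

section Direct

variable {X : Scheme.{u}} [IsIntegral X]

/-- germs of associated elements agree. -/
theorem germOf_eq_of_span_eq (z : X) (p q : X.presheaf.stalk z)
    (hp : algebraMap (X.presheaf.stalk z) X.functionField p ≠ 0)
    (hq : algebraMap (X.presheaf.stalk z) X.functionField q ≠ 0)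
    (h : Ideal.span {p} = Ideal.span {q}) :
    germOf X z (Units.mk0 _ hp) = germOf X z (Units.mk0 _ hq) := by
  rw [Ideal.span_singleton_eq_span_singleton] at h
  obtain ⟨u, hu⟩ := h
  rw [germOf, germOf, QuotientGroup.eq]
  refine ⟨u, ?_⟩
  apply Units.ext
  simp only [RingHom.toMonoidHom_eq_coe, Units.coe_map, MonoidHom.coe_coe, Units.val_mul,
    Units.val_inv_eq_inv_val, Units.val_mk0]
  rw [← hu, map_mul]
  field_simp

theorem germOf_eq_one_of_isUnit (z : X) (p : X.presheaf.stalk z) (hu : IsUnit p)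
    (hp : algebraMap (X.presheaf.stalk z) X.functionField p ≠ 0) :
    germOf X z (Units.mk0 _ hp) = 1 := by
  rw [germOf_eq_one_iff]
  exact ⟨hu.unit, rfl⟩

variable [IsLocallyNoetherian X]

omit [IsLocallyNoetherian X] in
theorem exists_gen_primeOf (hUFD : ∀ x : X, UniqueFactorizationMonoid (X.presheaf.stalk x))
    {x₀ y : X} (hx₀ : Order.coheight x₀ = 1) (hs : x₀ ⤳ y) :
    ∃ π : X.presheaf.stalk y, primeOf hs = Ideal.span {π} ∧
      algebraMap (X.presheaf.stalk y) X.functionField π ≠ 0 := by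
  have := hUFD y
  have hh : (primeOf hs).height = 1 := by rw [height_primeOf hs, hx₀]
  obtain ⟨π, hπ⟩ := (UniqueFactorizationMonoid.isPrincipal_of_height_eq_one hh).principal
  have hπ' : primeOf hs = Ideal.span {π} := hπ
  refine ⟨π, hπ', fun h0 => ?_⟩
  have hπ0 : π = 0 := algebraMap_stalk_injective y (by rw [h0, map_zero])
  apply Ideal.ne_bot_of_height_eq_one hh
  rw [hπ', hπ0]
  simp

theorem not_specializes_of_coheight {x₀ x : X} (hX : Pi1.IsNormalScheme X)
    (hx₀ : Order.coheight x₀ = 1) (hx : Order.coheight x = 1) (hne : x ≠ x₀) : ¬ x₀ ⤳ x := by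
  intro hs
  have hic : IsIntegrallyClosed (X.presheaf.stalk x) := (hX x).2
  have hdvr := isDiscreteValuationRing_stalk x hx
  have hh : (primeOf hs).height = 1 := by rw [height_primeOf hs, hx₀]
  have hmax : (primeOf hs).IsMaximal :=
    Ideal.IsPrime.isMaximal inferInstance (Ideal.ne_bot_of_height_eq_one hh)
  have heq : primeOf hs = IsLocalRing.maximalIdeal (X.presheaf.stalk x) :=
    IsLocalRing.eq_maximalIdeal hmax
  obtain ⟨U, hU, hxU, -⟩ := exists_isAffineOpen_mem_and_subset (x := x) (U := ⊤) trivial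
  have hx₀U : x₀ ∈ U := hs.mem_open U.2 hxU
  have h1 := comap_germ_primeOf hs hU hxU
  rw [heq] at h1
  let _ := X.presheaf.algebra_section_stalk ⟨x, hxU⟩
  have := hU.isLocalization_stalk ⟨x, hxU⟩
  have h2 := IsLocalization.AtPrime.under_maximalIdeal (X.presheaf.stalk x)
    (hU.primeIdealOf ⟨x, hxU⟩).asIdeal
  have h3 : (hU.primeIdealOf ⟨x, hxU⟩).asIdeal = (hU.primeIdealOf ⟨x₀, hx₀U⟩).asIdeal :=
    h2.symm.trans h1
  have h4 : hU.primeIdealOf ⟨x, hxU⟩ = hU.primeIdealOf ⟨x₀, hx₀U⟩ := PrimeSpectrum.ext h3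
  have h5 := congrArg hU.fromSpec h4
  rw [hU.fromSpec_primeIdealOf, hU.fromSpec_primeIdealOf] at h5
  exact hne h5

open Classical in
theorem exists_divisor_of_ufd (hX : Pi1.IsNormalScheme X)
    (hUFD : ∀ x : X, UniqueFactorizationMonoid (X.presheaf.stalk x))
    (x₀ : X) (hx₀ : Order.coheight x₀ = 1) :
    ∃ D : CDiv.Divisor X,
      (∀ f : CDiv.KUnits X, D.1 x₀ = CDiv.germOf X x₀ f → Scheme.ord (f : X.functionField) x₀ = 1) ∧
        ∀ x : X, x ≠ x₀ → Order.coheight x = 1 → ∀ f : CDiv.KUnits X, D.1 x = CDiv.germOf X x f →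
          Scheme.ord (f : X.functionField) x = 0 := by
  obtain ⟨Dfun, hDfun⟩ : ∃ Dfun : ∀ y : X, Germ X y, Dfun = fun y =>
      if hs : x₀ ⤳ y then germOf X y (Units.mk0 _ (Classical.choose_spec
        (exists_gen_primeOf hUFD hx₀ hs)).2) else 1 := ⟨_, rfl⟩
  have hP : ∀ (z : X) (hs : x₀ ⤳ z) (p : X.presheaf.stalk z)
      (hp0 : algebraMap (X.presheaf.stalk z) X.functionField p ≠ 0),
      primeOf hs = Ideal.span {p} → Dfun z = germOf X z (Units.mk0 _ hp0) := by
    intro z hs p hp0 hp
    rw [hDfun]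
    simp only [dif_pos hs]
    apply germOf_eq_of_span_eq
    rw [← (Classical.choose_spec (exists_gen_primeOf hUFD hx₀ hs)).1, hp]
  have hP' : ∀ z : X, ¬ x₀ ⤳ z → Dfun z = 1 := by
    intro z hz
    rw [hDfun]
    simp only [dif_neg hz]
  have hmem : Dfun ∈ divisorGroup X := by
    intro y
    by_cases hs : x₀ ⤳ y
    · obtain ⟨U, hU, hyU, -⟩ := exists_isAffineOpen_mem_and_subset (x := y) (U := ⊤) trivial
      have hx₀U : x₀ ∈ U := hs.mem_open U.2 hyU
      have : Nonempty U := ⟨⟨y, hyU⟩⟩
      have : IsDomain Γ(X, U) := IsIntegral.component_integral U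
      have : IsNoetherianRing Γ(X, U) := IsLocallyNoetherian.component_noetherian ⟨U, hU⟩
      obtain ⟨π, hπ, hπ0⟩ := exists_gen_primeOf hUFD hx₀ hs
      let _ := X.presheaf.algebra_section_stalk ⟨y, hyU⟩
      have hloc := hU.isLocalization_stalk ⟨y, hyU⟩
      obtain ⟨⟨p, t⟩, hpt⟩ := IsLocalization.surj (hU.primeIdealOf ⟨y, hyU⟩).asIdeal.primeCompl π
      have hpt' : π * X.presheaf.germ U y hyU t = X.presheaf.germ U y hyU p := hpt
      have htu : IsUnit (X.presheaf.germ U y hyU (t : Γ(X, U))) :=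
        IsLocalization.map_units (X.presheaf.stalk y) t
      have hspan : primeOf hs = Ideal.span {X.presheaf.germ U y hyU p} := by
        rw [hπ, ← hpt', Ideal.span_singleton_mul_right_unit htu]
      have hpq : p ∈ (hU.primeIdealOf ⟨x₀, hx₀U⟩).asIdeal := by
        rw [← comap_germ_primeOf hs hU hyU, Ideal.mem_comap, hspan]
        exact Ideal.mem_span_singleton_self _
      have hp0 : p ≠ 0 := by
        rintro rfl
        rw [map_zero, mul_eq_zero] at hpt'
        rcases hpt' with h | h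
        · rw [h, map_zero] at hπ0
          exact hπ0 rfl
        · exact htu.ne_zero h
      have hmap : (hU.primeIdealOf ⟨x₀, hx₀U⟩).asIdeal.map (algebraMap Γ(X, U) (X.presheaf.stalk y))
          ≤ (Ideal.span {p}).map (algebraMap Γ(X, U) (X.presheaf.stalk y)) := by
        rw [Ideal.map_span, Set.image_singleton]
        have h1 := primeOf_eq_map hs hU hyU
        rw [hspan] at h1
        exact h1.ge
      obtain ⟨g, hg, Hg⟩ := Groth.Agent.Lib.Helper5.RegSeq.exists_notMem_forall_map_le.{u, u}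
        (hU.primeIdealOf ⟨y, hyU⟩).asIdeal (X.presheaf.stalk y)
        (IsNoetherian.noetherian (hU.primeIdealOf ⟨x₀, hx₀U⟩).asIdeal) hmap
      have hf0 : X.germToFunctionField U p ≠ 0 := by
        intro h0
        exact hp0 (X.germToFunctionField_injective U (by rw [h0, map_zero]))
      refine ⟨X.basicOpen g, Units.mk0 _ hf0, ?_, ?_⟩
      · rw [Groth.Agent.Lib.Helper2.mem_basicOpen_iff_notMem_primeIdealOf hU y hyU]
        exact hg
      · intro z hz
        have hzU : z ∈ U := X.basicOpen_le g hz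
        have hgu : IsUnit (X.presheaf.germ U z hzU g) := (X.mem_basicOpen g z hzU).mp hz
        have hpz0 : algebraMap (X.presheaf.stalk z) X.functionField (X.presheaf.germ U z hzU p) ≠ 0 := by
          rw [Scheme.algebraMap_germ_eq_germToFunctionField]
          exact hf0
        have hfz : germOf X z (Units.mk0 _ hf0) = germOf X z (Units.mk0 _ hpz0) := by
          congr 1
          apply Units.ext
          exact (Scheme.algebraMap_germ_eq_germToFunctionField X hzU p).symm
        rw [hfz]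
        have hmapz : (hU.primeIdealOf ⟨x₀, hx₀U⟩).asIdeal.map (X.presheaf.germ U z hzU).hom
            = Ideal.span {X.presheaf.germ U z hzU p} := by
          apply le_antisymm
          · let _ := X.presheaf.algebra_section_stalk ⟨z, hzU⟩
            have h1 := Hg (X.presheaf.stalk z) hgu
            rw [Ideal.map_span, Set.image_singleton] at h1
            exact h1
          · rw [Ideal.span_le, Set.singleton_subset_iff]
            exact Ideal.mem_map_of_mem _ hpq
        by_cases hsz : x₀ ⤳ z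
        · apply hP z hsz
          rw [primeOf_eq_map hsz hU hzU]
          exact hmapz
        · rw [hP' z hsz, eq_comm]
          apply germOf_eq_one_of_isUnit
          have hnle : ¬ (hU.primeIdealOf ⟨x₀, hx₀U⟩).asIdeal ≤ (hU.primeIdealOf ⟨z, hzU⟩).asIdeal := by
            intro hle
            apply hsz
            have := fromSpec_specializes hU (hU.primeIdealOf ⟨x₀, hx₀U⟩) z hzU hle
            rwa [hU.fromSpec_primeIdealOf] at this
          obtain ⟨t, htq, htz⟩ := Set.not_subset.mp hnle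
          have htu : IsUnit (X.presheaf.germ U z hzU t) := by
            rw [← Scheme.mem_basicOpen,
              Groth.Agent.Lib.Helper2.mem_basicOpen_iff_notMem_primeIdealOf hU z hzU]
            exact htz
          have h1 : X.presheaf.germ U z hzU t ∈ Ideal.span {X.presheaf.germ U z hzU p} := by
            rw [← hmapz]
            exact Ideal.mem_map_of_mem _ htq
          have h2 : Ideal.span {X.presheaf.germ U z hzU p} = ⊤ :=
            Ideal.eq_top_of_isUnit_mem _ h1 htu
          exact Ideal.span_singleton_eq_top.mp h2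
    · refine ⟨⟨(closure {x₀})ᶜ, isClosed_closure.isOpen_compl⟩, 1, ?_, ?_⟩
      · intro hmem
        exact hs (specializes_iff_mem_closure.mpr hmem)
      · intro z hz
        rw [hP' z (fun hsz => hz (specializes_iff_mem_closure.mp hsz))]
        simp [germOf]
  refine ⟨⟨Dfun, hmem⟩, ?_, ?_⟩
  · intro f hf
    have hic : IsIntegrallyClosed (X.presheaf.stalk x₀) := (hX x₀).2
    have hdvr := isDiscreteValuationRing_stalk x₀ hx₀
    have hs : x₀ ⤳ x₀ := specializes_rfl
    obtain ⟨π, hπ, hπ0⟩ := exists_gen_primeOf hUFD hx₀ hs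
    have hm : primeOf hs = IsLocalRing.maximalIdeal (X.presheaf.stalk x₀) := by
      have hh : (primeOf hs).height = 1 := by rw [height_primeOf hs, hx₀]
      have hmax : (primeOf hs).IsMaximal :=
        Ideal.IsPrime.isMaximal inferInstance (Ideal.ne_bot_of_height_eq_one hh)
      exact IsLocalRing.eq_maximalIdeal hmax
    have hirr : Irreducible π := by
      rw [IsDiscreteValuationRing.irreducible_iff_uniformizer, ← hm, hπ]
    have h1 : Dfun x₀ = germOf X x₀ (Units.mk0 _ hπ0) := hP x₀ hs π hπ0 hπ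
    have h2 : germOf X x₀ f = germOf X x₀ (Units.mk0 _ hπ0) := hf.symm.trans h1
    rw [germOf, germOf, QuotientGroup.eq] at h2
    obtain ⟨u, hu⟩ := h2
    have hu' : algebraMap (X.presheaf.stalk x₀) X.functionField u
        = (f : X.functionField)⁻¹ * algebraMap (X.presheaf.stalk x₀) X.functionField π := by
      have := congrArg Units.val hu
      simpa using this
    have hu0 : algebraMap (X.presheaf.stalk x₀) X.functionField u ≠ 0 := by
      rw [hu']
      exact mul_ne_zero (inv_ne_zero f.ne_zero) hπ0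
    have hfπ : (f : X.functionField) =
        algebraMap (X.presheaf.stalk x₀) X.functionField (π * ↑u⁻¹) := by
      have h3 : algebraMap (X.presheaf.stalk x₀) X.functionField (π * ↑u⁻¹) *
          algebraMap (X.presheaf.stalk x₀) X.functionField u =
          algebraMap (X.presheaf.stalk x₀) X.functionField π := by
        rw [← map_mul, mul_assoc, Units.inv_mul, mul_one]
      apply mul_right_cancel₀ hu0
      rw [h3, hu']
      have hf0 : (f : X.functionField) ≠ 0 := f.ne_zero
      field_simp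
    rw [hfπ]
    exact ord_eq_one_of_irreducible x₀ hx₀ _ ((irreducible_mul_isUnit (u⁻¹).isUnit).mpr hirr)
  · intro x hne hx f hf
    have hns : ¬ x₀ ⤳ x := not_specializes_of_coheight hX hx₀ hx hne
    have h1 : germOf X x f = 1 := hf.symm.trans (hP' x hns)
    rw [germOf_eq_one_iff] at h1
    obtain ⟨u, hu⟩ := h1
    rw [← hu]
    exact ord_eq_zero_of_isUnit x hx _ u.isUnit

end Direct

end Groth.Agent.Lib.T2H2.LocFactSch
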