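import Mathlib
import Groth.Agent.Lib.T2H2FPExt
import Groth.Agent.Lib.Helper2LocFree
import Groth.Prelude.Def_Coh
import Groth.Prelude.Def_Canon

/-!
# Annihilators of the cohomology of finite locally free modules on quasi-compact opens of affine schemes (helper2)

Namespace `Groth.Agent.Lib.T2H2.LocFreeAnn`.

* `exists_dualBasis_pow'` : a dual basis up to a power of `g` for a finitely presented module whose localization
  at `g` is flat.
* `tilde_map_smul_app`, `toSheaf_map_Φ_smul` : the tilde of multiplication by `t` is multiplication by `t`.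
* `smul_eq_zero_of_sum_factor` : annihilators through factorisations.
* `exists_pow_smul_eq_zero` : if `c` kills `H^p(U, O_U)` and `D(g) ⊆ U`, then `c g^N` kills `H^p(U, F)` for
  `F` finite locally free.
-/

set_option autoImplicit false
universe u v
open CategoryTheory CategoryTheory.Limits AlgebraicGeometry TopologicalSpace Opposite

namespace Groth.Agent.Lib.T2H2.LocFreeAnn

open Groth.Agent.Lib.Helper2.LocFree Groth.Agent.Lib.T2H2.FPExt

section Algebra

/-- dual basis up to a power of `g`, for a finitely presented module whose localization at `g` is flat -/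
theorem exists_dualBasis_pow' {A : Type u} [CommRing A] (M : Type u) [AddCommGroup M] [Module A M]
    [Module.FinitePresentation A M] (g : A)
    (Ag : Type v) [CommRing Ag] [Algebra A Ag] [IsLocalization.Away g Ag]
    (Mg : Type v) [AddCommGroup Mg] [Module A Mg] [Module Ag Mg] [IsScalarTower A Ag Mg]
    (mk : M →ₗ[A] Mg) [IsLocalizedModule (Submonoid.powers g) mk] (hflat : Module.Flat Ag Mg) :
    ∃ (N r : ℕ) (m : Fin r → M) (β : Fin r → (M →ₗ[A] A)),
      ∀ x : M, ∑ k, β k x • m k = g ^ N • x := by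
  classical
  let S : Submonoid A := Submonoid.powers g
  have hfp : Module.FinitePresentation Ag Mg :=
    FinitePresentation.of_isBaseChange mk ((isLocalizedModule_iff_isBaseChange S Ag mk).mp inferInstance)
  have hproj : Module.Projective Ag Mg := Module.Flat.projective_of_finitePresentation
  obtain ⟨r, F, G, -, -, hFG⟩ := Module.Finite.exists_comp_eq_id_of_projective Ag Mg
  let b : Fin r → Mg := fun k => F (fun j => if k = j then 1 else 0)
  have hb : ∀ y : Mg, y = ∑ k, (G y k) • b k := by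
    intro y
    have h1 : F (G y) = y := LinearMap.congr_fun hFG y
    rw [LinearMap.pi_apply_eq_sum_univ F (G y)] at h1
    exact h1.symm
  -- numerators of the generators
  have h1 : ∀ k : Fin r, ∃ (mk' : M) (n : ℕ), g ^ n • b k = mk mk' := by
    intro k
    obtain ⟨⟨m', ⟨_, n, rfl⟩⟩, hm'⟩ := IsLocalizedModule.surj S mk (b k)
    exact ⟨m', n, hm'⟩
  choose m' n hmn using h1
  -- coordinates lifted to `A`
  let γ : Fin r → (M →ₗ[A] Ag) := fun k =>
    ((LinearMap.proj k : (Fin r → Ag) →ₗ[Ag] Ag).restrictScalars A) ∘ₗ (G.restrictScalars A) ∘ₗ mk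
  have h2 : ∀ k : Fin r, ∃ (β' : M →ₗ[A] A) (e : ℕ), ∀ x, algebraMap A Ag (β' x) = g ^ e • γ k x := by
    intro k
    obtain ⟨h, ⟨_, e, rfl⟩, hh⟩ := Module.FinitePresentation.exists_lift_of_isLocalizedModule S
      (Algebra.linearMap A Ag) (γ k)
    refine ⟨h, e, fun x => ?_⟩
    have := LinearMap.congr_fun hh x
    simpa [Submonoid.smul_def] using this
  choose β' e hβ using h2
  let n₀ := ∑ k, n k
  let e₀ := ∑ k, e k
  have hn : ∀ k, n k ≤ n₀ := fun k => Finset.single_le_sum (fun _ _ => Nat.zero_le _) (Finset.mem_univ k)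
  have he : ∀ k, e k ≤ e₀ := fun k => Finset.single_le_sum (fun _ _ => Nat.zero_le _) (Finset.mem_univ k)
  let m₁ : Fin r → M := fun k => g ^ (n₀ - n k) • m' k
  let β₁ : Fin r → (M →ₗ[A] A) := fun k => g ^ (e₀ - e k) • β' k
  have hm₁ : ∀ k, g ^ n₀ • b k = mk (m₁ k) := by
    intro k
    change _ = mk (g ^ (n₀ - n k) • m' k)
    rw [map_smul, ← hmn k, smul_smul, ← pow_add, Nat.sub_add_cancel (hn k)]
  have hβ₁ : ∀ k x, algebraMap A Ag (β₁ k x) = g ^ e₀ • γ k x := by
    intro k x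
    change algebraMap A Ag (g ^ (e₀ - e k) • β' k x) = _
    rw [smul_eq_mul, map_mul, hβ k x, ← Algebra.smul_def, smul_smul, ← pow_add,
      Nat.sub_add_cancel (he k)]
  let D : M →ₗ[A] M := (g ^ (e₀ + n₀)) • LinearMap.id -
    ∑ k, (LinearMap.toSpanSingleton A M (m₁ k)) ∘ₗ (β₁ k)
  have hD : mk ∘ₗ D = mk ∘ₗ (0 : M →ₗ[A] M) := by
    ext x
    simp only [LinearMap.comp_apply, LinearMap.zero_apply, map_zero]
    change mk (g ^ (e₀ + n₀) • x - (∑ k, (LinearMap.toSpanSingleton A M (m₁ k)) ∘ₗ (β₁ k)) x) = 0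
    rw [map_sub, LinearMap.sum_apply, map_sum, map_smul]
    have hx : mk x = ∑ k, (G (mk x) k) • b k := hb (mk x)
    have h3 : ∀ k, mk (((LinearMap.toSpanSingleton A M (m₁ k)) ∘ₗ (β₁ k)) x) =
        g ^ (e₀ + n₀) • ((G (mk x) k) • b k) := by
      intro k
      simp only [LinearMap.comp_apply, LinearMap.toSpanSingleton_apply, map_smul]
      rw [← hm₁ k, ← algebraMap_smul Ag (β₁ k x), hβ₁ k x]
      change (g ^ e₀ • (G (mk x) k)) • g ^ n₀ • b k = _
      rw [pow_add, smul_assoc, smul_comm (G (mk x) k) (g ^ n₀) (b k), mul_smul]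
    rw [Finset.sum_congr rfl (fun k _ => h3 k), ← Finset.smul_sum, ← hx, sub_self]
  have hfin : Module.Finite A M := inferInstance
  obtain ⟨⟨_, j, rfl⟩, hj⟩ := Module.Finite.exists_smul_of_comp_eq_of_isLocalizedModule S mk D 0 hD
  refine ⟨j + (e₀ + n₀), r, m₁, fun i => g ^ j • β₁ i, ?_⟩
  intro x
  have h4 := LinearMap.congr_fun hj x
  simp only [Submonoid.smul_def, LinearMap.smul_apply, LinearMap.zero_apply, smul_zero] at h4
  change g ^ j • (g ^ (e₀ + n₀) • x - (∑ k, (LinearMap.toSpanSingleton A M (m₁ k)) ∘ₗ (β₁ k)) x) = 0 at h4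
  rw [smul_sub, sub_eq_zero, smul_smul, ← pow_add, LinearMap.sum_apply, Finset.smul_sum] at h4
  rw [h4]
  refine Finset.sum_congr rfl (fun i _ => ?_)
  simp only [LinearMap.comp_apply, LinearMap.toSpanSingleton_apply, LinearMap.smul_apply, smul_assoc]

end Algebra

section Tilde

variable {A : CommRingCat.{u}}

set_option backward.isDefEq.respectTransparency.types false in
/-- the tilde of multiplication by `t` is multiplication by `t` on sections -/
theorem tilde_map_smul_app (M : ModuleCat.{u} A) (t : A) (W : (Spec A).Opens) (m : Γ(tilde M, W)) :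
    (tilde.map (t • 𝟙 M)).app W m = t • m := by
  refine Subtype.ext (funext fun y => ?_)
  have h0 : t • m = (algebraMap A Γ(Spec A, W) t) • m := rfl
  have h1 : ∀ (s : Γ(Spec A, W)), (s • m).1 y = s.1 y • (m.1 y) := by
    intro s
    rfl
  have h3 : (algebraMap A Γ(Spec A, W) t).1 y = algebraMap A (Localization.AtPrime y.1.asIdeal) t := by
    rfl
  have h2 : ((tilde.map (t • 𝟙 M)).app W m).1 y = IsLocalizedModule.map y.1.asIdeal.primeCompl
    (LocalizedModule.mkLinearMap y.1.asIdeal.primeCompl M)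
    (LocalizedModule.mkLinearMap y.1.asIdeal.primeCompl M) (t • 𝟙 M).hom (m.1 y) := by
    rfl
  have h4 : (t • m).1 y = algebraMap A (Localization.AtPrime y.1.asIdeal) t • (m.1 y) :=
    (congrArg (fun z : Γ(tilde M, W) => z.1 y) h0).trans ((h1 _).trans (by rw [h3]))
  refine h2.trans (Eq.trans ?_ h4.symm)
  rw [algebraMap_smul, ModuleCat.hom_smul, ModuleCat.hom_id, map_smul, LinearMap.smul_apply]
  congr 1
  exact LinearMap.congr_fun (IsLocalizedModule.map_id _ _) _

variable (A)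

/-- an element of `A` as a global function on the open subscheme `U` of `Spec A` -/
noncomputable def gl (U : (Spec A).Opens) : A →+* Coh.Γtop (U : Scheme.{u}) :=
  (U.ι.appTop).hom.comp (Scheme.ΓSpecIso A).inv.hom

theorem toSheaf_map_Φ_smul (U : (Spec A).Opens) (M : ModuleCat.{u} A) (t : A) :
    (SheafOfModules.toSheaf (U : Scheme.{u}).ringCatSheaf).map ((Φ A U).map (t • 𝟙 M)) =
      Coh.smulAb ((Φ A U).obj M) (gl A U t) := by
  ext V m
  rw [Coh.smulAb_app]
  change (tilde.map (t • 𝟙 M)).app (U.ι ''ᵁ V.unop) m = _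
  rw [tilde_map_smul_app]
  have h2 : ∀ (r : Γ((U : Scheme.{u}), V.unop)) (m' : Γ(tilde M, U.ι ''ᵁ V.unop)),
      @HSMul.hSMul (↑((U : Scheme.{u}).ringCatSheaf.obj.obj V)) (↑(((Φ A U).obj M).val.obj V))
        (↑(((Φ A U).obj M).val.obj V)) _ r m' =
      (((U.ι.appIso V.unop).inv r : Γ(Spec A, U.ι ''ᵁ V.unop)) • m' : Γ(tilde M, U.ι ''ᵁ V.unop)) :=
    fun _ _ => rfl
  refine Eq.trans ?_ (h2 _ _).symm
  have key : ((U.ι.appIso V.unop).inv (Coh.resTop (U : Scheme.{u}) V (gl A U t)) :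
      Γ(Spec A, U.ι ''ᵁ V.unop)) = algebraMap A Γ(Spec A, U.ι ''ᵁ V.unop) t := by
    rw [Scheme.Opens.ι_appIso]
    change ((Spec A).presheaf.map _ ≫ (Spec A).presheaf.map _).hom ((Scheme.ΓSpecIso A).inv.hom t) = _
    rw [← Functor.map_comp]
    rfl
  rw [key]
  rfl

/-- local freeness of `M^~|_U` gives flatness of `M^~` at the points of `U` -/
theorem isFlatAt_tilde_of_isFinLocFree (M : ModuleCat.{u} A) (U : (Spec A).Opens)
    (F : (U : Scheme.{u}).Modules) (hF : FlatMod.IsFinLocFree F) (e : (Φ A U).obj M ≅ F)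
    (x : Spec A) (hx : x ∈ U) : FlatMod.IsFlatAt (tilde M) x := by
  obtain ⟨U', n, hxU', ⟨e'⟩⟩ := hF ⟨x, hx⟩
  let e'' : (tilde M).restrict (U'.ι ≫ U.ι) ≅ FlatMod.freeMod (U' : Scheme.{u}) n :=
    (Scheme.Modules.restrictFunctorComp U'.ι U.ι).app (tilde M) ≪≫
      (Scheme.Modules.restrictFunctor U'.ι).mapIso e ≪≫ e'
  exact isFlatAt_of_restrict_iso_freeMod (U'.ι ≫ U.ι) (tilde M) e'' ⟨⟨x, hx⟩, hxU'⟩

theorem flat_sections_basicOpen (M : ModuleCat.{u} A) (U : (Spec A).Opens)
    (F : (U : Scheme.{u}).Modules) (hF : FlatMod.IsFinLocFree F) (e : (Φ A U).obj M ≅ F)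
    (g : A) (hg : PrimeSpectrum.basicOpen g ≤ U) :
    Module.Flat Γ(Spec A, PrimeSpectrum.basicOpen g) Γ(tilde M, PrimeSpectrum.basicOpen g) :=
  flat_sections_of_isFlatAt (tilde M) (IsAffineOpen.Spec_basicOpen g)
    (fun x hx => isFlatAt_tilde_of_isFinLocFree A M U F hF e x (hg hx))

end Tilde

section Cohomology

variable {X : Scheme.{u}}

/-- the map on cohomology induced by a morphism of modules -/
noncomputable abbrev mapHH {F G : X.Modules} (φ : F ⟶ G) (p : ℕ) : Coh.HH X F p →+ Coh.HH X G p :=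
  Sheaf.H.map ((SheafOfModules.toSheaf X.ringCatSheaf).map φ) p

theorem mapHH_smul {F G : X.Modules} (φ : F ⟶ G) (p : ℕ) (c : Coh.Γtop X) (y : Coh.HH X F p) :
    mapHH φ p (c • y) = c • mapHH φ p y := by
  change Sheaf.H.map _ p (Sheaf.H.map (Coh.smulAb F c) p y) =
    Sheaf.H.map (Coh.smulAb G c) p (Sheaf.H.map _ p y)
  rw [← Sheaf.H.map_comp_apply, ← Sheaf.H.map_comp_apply, Canon.toSheaf_map_comp_smulAb]

theorem mapHH_comp {F G H : X.Modules} (φ : F ⟶ G) (ψ : G ⟶ H) (p : ℕ) (y : Coh.HH X F p) :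
    mapHH (φ ≫ ψ) p y = mapHH ψ p (mapHH φ p y) := by
  have e : (SheafOfModules.toSheaf X.ringCatSheaf).map (φ ≫ ψ) =
      (SheafOfModules.toSheaf X.ringCatSheaf).map φ ≫ (SheafOfModules.toSheaf X.ringCatSheaf).map ψ :=
    Functor.map_comp _ _ _
  exact (congrArg (fun f => Sheaf.H.map f p y) e).trans (Sheaf.H.map_comp_apply _ _ y)

theorem mapHH_id {F : X.Modules} (p : ℕ) (y : Coh.HH X F p) : mapHH (𝟙 F) p y = y := by
  have e : (SheafOfModules.toSheaf X.ringCatSheaf).map (𝟙 F) = 𝟙 _ :=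
    CategoryTheory.Functor.map_id _ _
  exact (congrArg (fun f => Sheaf.H.map f p y) e).trans (Sheaf.H.map_id_apply y)

theorem mapHH_add {F G : X.Modules} (φ ψ : F ⟶ G) (p : ℕ) (y : Coh.HH X F p) :
    mapHH (φ + ψ) p y = mapHH φ p y + mapHH ψ p y := by
  have e : (SheafOfModules.toSheaf X.ringCatSheaf).map (φ + ψ) =
      (SheafOfModules.toSheaf X.ringCatSheaf).map φ + (SheafOfModules.toSheaf X.ringCatSheaf).map ψ :=
    Functor.map_add _
  exact (congrArg (fun f => Sheaf.H.map f p y) e).trans (Sheaf.H.map_add_apply _ _ y)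

theorem mapHH_zero {F G : X.Modules} (p : ℕ) (y : Coh.HH X F p) :
    mapHH (0 : F ⟶ G) p y = 0 := by
  have e : (SheafOfModules.toSheaf X.ringCatSheaf).map (0 : F ⟶ G) = 0 := Functor.map_zero _ _ _
  refine (congrArg (fun f => Sheaf.H.map f p y) e).trans ?_
  change ((Sheaf.functorH _ p).map (0 : Coh.toAb F ⟶ Coh.toAb G)).hom y = 0
  rw [Functor.map_zero]
  rfl

/-- annihilators pass through isomorphisms -/
theorem smul_eq_zero_of_iso {F G : X.Modules} (e : F ≅ G) (p : ℕ) (c : Coh.Γtop X)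
    (hc : ∀ y : Coh.HH X F p, c • y = 0) (x : Coh.HH X G p) : c • x = 0 := by
  have h1 : x = mapHH e.hom p (mapHH e.inv p x) := by
    rw [← mapHH_comp, e.inv_hom_id, mapHH_id]
  rw [h1, ← mapHH_smul, hc, map_zero]

/-- if `∑ b_k ≫ a_k` is multiplication by `s` on `F`, and `c` kills `H^p(O')`, then `c * s` kills `H^p(F)` -/
theorem smul_eq_zero_of_sum_factor (F O' : X.Modules) (p : ℕ) {r : ℕ} (a : Fin r → (O' ⟶ F))
    (b : Fin r → (F ⟶ O')) (s c : Coh.Γtop X)
    (hab : (SheafOfModules.toSheaf X.ringCatSheaf).map (∑ k, b k ≫ a k) = Coh.smulAb F s)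
    (hc : ∀ y : Coh.HH X O' p, c • y = 0) (x : Coh.HH X F p) : (c * s) • x = 0 := by
  rw [mul_smul]
  have h1 : s • x = mapHH (∑ k, b k ≫ a k) p x := by
    exact (congrArg (fun f => Sheaf.H.map f p x) hab).symm
  rw [h1]
  refine Finset.sum_induction (fun k => b k ≫ a k) (fun φ : F ⟶ F => c • mapHH φ p x = 0) ?_ ?_ ?_
  · intro φ ψ hφ hψ
    rw [mapHH_add, smul_add, hφ, hψ, add_zero]
  · rw [mapHH_zero, smul_zero]
  · intro k _
    rw [mapHH_comp, ← mapHH_smul, hc, map_zero]

end Cohomology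

section Main

variable (A : CommRingCat.{u})

/-- `A^~|_U` is the structure sheaf of `U` -/
noncomputable def ΦunitIso (U : (Spec A).Opens) :
    (Φ A U).obj (ModuleCat.of A A) ≅ Coh.structureModule (U : Scheme.{u}) :=
  (Scheme.Modules.restrictFunctor U.ι).mapIso (tildeSelf (R := A)) ≪≫ Scheme.Modules.restrictUnitIso U.ι

theorem exists_pow_smul_eq_zero (U : (Spec A).Opens) (hU : IsCompact (U : Set (Spec A))) [QuasiCompact U.ι]
    (F : (U : Scheme.{u}).Modules) (hF : FlatMod.IsFinLocFree F) (p : ℕ)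
    (g : A) (hg : PrimeSpectrum.basicOpen g ≤ U) :
    ∃ N : ℕ, ∀ c : A,
      (∀ y : Coh.HH (U : Scheme.{u}) (Coh.structureModule (U : Scheme.{u})) p, gl A U c • y = 0) →
      ∀ x : Coh.HH (U : Scheme.{u}) F p, gl A U (c * g ^ N) • x = 0 := by
  have hfp : SheafOfModules.IsFinitePresentation (R := (U : Scheme.{u}).ringCatSheaf) F :=
    isFP_of_isFinLocFree F hF
  have hq : F.IsQuasicoherent := inferInstance
  obtain ⟨M, hM, ⟨e⟩⟩ := exists_fp_tilde_restrict_iso A U hU F
  have hflat := flat_sections_basicOpen A M U F hF e g hg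
  let mk : M →ₗ[A] Γ(tilde M, PrimeSpectrum.basicOpen g) := (tilde.toOpen M (PrimeSpectrum.basicOpen g)).hom
  have hmk : IsLocalizedModule (Submonoid.powers g) mk :=
    inferInstanceAs (IsLocalizedModule.Away g (tilde.toOpen M (PrimeSpectrum.basicOpen g)).hom)
  obtain ⟨N, r, m, β, h⟩ := exists_dualBasis_pow' M g Γ(Spec A, PrimeSpectrum.basicOpen g)
    Γ(tilde M, PrimeSpectrum.basicOpen g) mk hflat
  refine ⟨N, fun c hc x => ?_⟩
  let O' := (Φ A U).obj (ModuleCat.of A A)
  let a : Fin r → (O' ⟶ (Φ A U).obj M) := fun k =>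
    (Φ A U).map (ModuleCat.ofHom (LinearMap.toSpanSingleton A M (m k)))
  let b : Fin r → ((Φ A U).obj M ⟶ O') := fun k => (Φ A U).map (ModuleCat.ofHom (β k))
  have hsum : ∑ k, b k ≫ a k = (Φ A U).map ((g ^ N) • 𝟙 M) := by
    have h1 : ∀ k, b k ≫ a k = (Φ A U).map
        (ModuleCat.ofHom (β k) ≫ ModuleCat.ofHom (LinearMap.toSpanSingleton A M (m k))) :=
      fun k => ((Φ A U).map_comp _ _).symm
    rw [Finset.sum_congr rfl (fun k _ => h1 k), ← Functor.map_sum]
    congr 1
    ext y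
    simp only [ModuleCat.hom_sum, LinearMap.sum_apply, ModuleCat.hom_comp, ModuleCat.hom_ofHom,
      LinearMap.comp_apply, LinearMap.toSpanSingleton_apply, ModuleCat.hom_smul, ModuleCat.hom_id,
      LinearMap.smul_apply, LinearMap.id_apply]
    exact h y
  have hab : (SheafOfModules.toSheaf (U : Scheme.{u}).ringCatSheaf).map (∑ k, b k ≫ a k) =
      Coh.smulAb ((Φ A U).obj M) (gl A U (g ^ N)) := by
    exact (congrArg (fun f => (SheafOfModules.toSheaf (U : Scheme.{u}).ringCatSheaf).map f) hsum).trans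
      (toSheaf_map_Φ_smul A U M (g ^ N))
  have hc' : ∀ y : Coh.HH (U : Scheme.{u}) O' p, gl A U c • y = 0 :=
    smul_eq_zero_of_iso (ΦunitIso A U).symm p _ hc
  have key := smul_eq_zero_of_sum_factor ((Φ A U).obj M) O' p a b (gl A U (g ^ N)) (gl A U c) hab hc'
  have := smul_eq_zero_of_iso e p (gl A U c * gl A U (g ^ N)) key x
  rw [map_mul]
  exact this

end Main

end Groth.Agent.Lib.T2H2.LocFreeAnn
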