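import Groth.Agent.Lib.Helper17KInjD5
import Groth.Agent.Lib.Helper1CI9

/-!
# The derived adjunction `LF ⊣ RG` for a left adjoint `F` with adapted resolutions (T2H2)

`F ⊣ G` additive functors between abelian categories, the target of `F` Grothendieck abelian.
If `LF` is a left derived functor of `F` (on unbounded complexes), computed by a class `P` of
complexes admitting functorial resolutions, and `RG` is a right derived functor of `G`, then
`LF ⊣ RG`.
-/

set_option autoImplicit false
set_option linter.style.haveILetI false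

universe w w₁ w₂ v v' u u'

open CategoryTheory CategoryTheory.Limits HomologicalComplex MorphismProperty

namespace Groth.Agent.Lib.T2H2.LpullAdj

open Groth.Agent.Lib.Helper17.KInj Groth.Agent.Lib.Helper1.CI

section

variable {A : Type u} [Category.{v} A] [Abelian A] {B : Type u'} [Category.{v'} B] [Abelian B]
  [IsGrothendieckAbelian.{w} B] [HasDerivedCategory.{w₁} A] [HasDerivedCategory.{w₂} B]
  (F : A ⥤ B) (G : B ⥤ A) (adj : F ⊣ G) [F.Additive] [G.Additive]
  (LF : DerivedCategory A ⥤ DerivedCategory B)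
  (α : DerivedCategory.Q ⋙ LF ⟶
    F.mapHomologicalComplex (ComplexShape.up ℤ) ⋙ DerivedCategory.Q)
  [LF.IsLeftDerivedFunctor α (HomologicalComplex.quasiIso A (ComplexShape.up ℤ))]
  (RG : DerivedCategory B ⥤ DerivedCategory A)
  (β : G.mapHomologicalComplex (ComplexShape.up ℤ) ⋙ DerivedCategory.Q ⟶
    DerivedCategory.Q ⋙ RG)
  [RG.IsRightDerivedFunctor β (HomologicalComplex.quasiIso B (ComplexShape.up ℤ))]
  (P : ObjectProperty (CochainComplex A ℤ))
  (ρ : CochainComplex A ℤ ⥤ CochainComplex A ℤ) (π : ρ ⟶ 𝟭 (CochainComplex A ℤ))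
  (hρ : ∀ X, P (ρ.obj X)) (hπ : ∀ X, QuasiIso (π.app X))
  (hF : ∀ {X Y : CochainComplex A ℤ} (f : X ⟶ Y), P X → P Y → QuasiIso f →
    QuasiIso ((F.mapHomologicalComplex (ComplexShape.up ℤ)).map f))

include hF in
omit [IsGrothendieckAbelian.{w} B] [HasDerivedCategory.{w₁} A] in
lemma isIso_FQ_map {X Y : CochainComplex A ℤ} (f : X ⟶ Y) (hX : P X) (hY : P Y)
    (hf : HomologicalComplex.quasiIso A (ComplexShape.up ℤ) f) :
    IsIso ((F.mapHomologicalComplex (ComplexShape.up ℤ) ⋙
      (DerivedCategory.Q : _ ⥤ DerivedCategory B)).map f) := by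
  have hf' : QuasiIso f := hf
  have := hF f hX hY hf'
  dsimp
  rw [DerivedCategory.isIso_Q_map_iff_quasiIso]
  exact this

include hρ hπ hF in
omit [IsGrothendieckAbelian.{w} B] in
/-- the counit of `LF` is an isomorphism on the adapted complexes. -/
lemma isIso_α_app (X : CochainComplex A ℤ) (hX : P X) : IsIso (α.app X) :=
  isIso_counit_app (HomologicalComplex.quasiIso A (ComplexShape.up ℤ)) DerivedCategory.Q
    (F.mapHomologicalComplex (ComplexShape.up ℤ) ⋙ DerivedCategory.Q) LF α P ρ π hρ
    (fun X => hπ X) (fun f hX hY hf => isIso_FQ_map F P hF f hX hY hf) X hX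

include hρ hπ hF in
omit [IsGrothendieckAbelian.{w} B] in
lemma isLeftDerivedFunctor_comp_RG (RG' : DerivedCategory B ⥤ DerivedCategory A) :
    (LF ⋙ RG').IsLeftDerivedFunctor
      ((Functor.associator _ _ _).inv ≫ Functor.whiskerRight α RG')
      (HomologicalComplex.quasiIso A (ComplexShape.up ℤ)) := by
  refine isLeftDerivedFunctor_of_isIso_app
    (HomologicalComplex.quasiIso A (ComplexShape.up ℤ)) DerivedCategory.Q
    ((F.mapHomologicalComplex (ComplexShape.up ℤ) ⋙ DerivedCategory.Q) ⋙ RG') P ρ π hρ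
    (fun X => hπ X) (fun {X Y} f hX hY hf => ?_) (LF ⋙ RG') _ (fun X hX => ?_)
  · haveI := isIso_FQ_map F P hF f hX hY hf
    exact inferInstanceAs (IsIso (RG'.map ((F.mapHomologicalComplex (ComplexShape.up ℤ) ⋙
      (DerivedCategory.Q : _ ⥤ DerivedCategory B)).map f)))
  · haveI := isIso_α_app F LF α P ρ π hρ hπ hF X hX
    dsimp
    rw [Category.id_comp]
    infer_instance

omit [F.Additive] in
lemma isRightDerivedFunctor_comp_LF (LF' : DerivedCategory A ⥤ DerivedCategory B) :
    (RG ⋙ LF').IsRightDerivedFunctor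
      (Functor.whiskerRight β LF' ≫ (Functor.associator _ _ _).hom)
      (HomologicalComplex.quasiIso B (ComplexShape.up ℤ)) := by
  refine (fibLocalizerMorphism_derives _ (isInvertedBy_comp
    (isInvertedBy_mapHomologicalComplex_comp_Q G) LF')).isRightDerivedFunctor_of_isIso _
      (fun I => ?_)
  haveI := isIso_app_of_fibrant' G RG β I.obj I.property
  dsimp
  rw [Category.comp_id]
  change IsIso (LF'.map (β.app I.obj))
  infer_instance

include hρ hπ hF in
/-- the derived adjunction `LF ⊣ RG`. -/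
noncomputable def derivedAdjunction : LF ⊣ RG :=
  haveI := isLeftDerivedFunctor_comp_RG F LF α P ρ π hρ hπ hF RG
  haveI := isRightDerivedFunctor_comp_LF G RG β LF
  (Groth.Agent.Lib.Helper17.SerreLoc.adjHC adj (ComplexShape.up ℤ)).derived
    (HomologicalComplex.quasiIso A (ComplexShape.up ℤ))
    (HomologicalComplex.quasiIso B (ComplexShape.up ℤ)) α β

end

end Groth.Agent.Lib.T2H2.LpullAdj
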