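import Groth.Agent.Lib.Helper1Sky9
import Groth.Agent.Lib.T2H8PCohTriangle
import Groth.Agent.Lib.T2H8QCohDCoprod

/-!
# Cohomology sheaves of the derived pullback along an open immersion (T2H2)
-/

set_option autoImplicit false
set_option linter.style.haveILetI false
universe u
open CategoryTheory CategoryTheory.Limits AlgebraicGeometry

attribute [local instance] HasDerivedCategory.standard

namespace Groth.Agent.Lib.T2H2.LpullQCoh

open Groth.Agent.Lib.Helper1.Sky Groth.Agent.Lib.T2H8.PCohTriangle
  Groth.Agent.Lib.T2H8.QCohDCoprod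

variable {W Y : Scheme.{u}} (j : W ⟶ Y) [IsOpenImmersion j]

theorem preservesFiniteLimits_pullback_of_isOpenImmersion :
    PreservesFiniteLimits (Scheme.Modules.pullback j) :=
  Limits.preservesFiniteLimits_of_natIso (Scheme.Modules.restrictFunctorIsoPullback j)

/-- `H^n(Lj^* E') ≅ (H^n E')|_W` for an open immersion `j`. -/
theorem nonempty_homology_lpull_iso [DCoh.HasLpull j] (E' : DCoh.D Y) (n : ℤ) :
    Nonempty ((DerivedCategory.homologyFunctor W.Modules n).obj ((DCoh.Lpull j).obj E') ≅
      (Scheme.Modules.restrictFunctor j).obj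
        ((DerivedCategory.homologyFunctor Y.Modules n).obj E')) := by
  haveI := preservesFiniteLimits_pullback_of_isOpenImmersion j
  haveI : PreservesFiniteColimits (Scheme.Modules.pullback j) := by
    haveI := (Scheme.Modules.pullbackPushforwardAdjunction j).leftAdjoint_preservesColimits
    infer_instance
  let E : CochainComplex Y.Modules ℤ := DerivedCategory.Q.objPreimage E'
  let e₀ : DerivedCategory.Q.obj E ≅ E' := DerivedCategory.Q.objObjPreimageIso E'
  let i1 : (DCoh.Lpull j).obj E' ≅ DCoh.toD W ((pullC j).obj E) :=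
    (DCoh.Lpull j).mapIso e₀.symm ≪≫ lpullIsoOfExact j E
  let i3 := (DerivedCategory.homologyFunctorFactors W.Modules n).app ((pullC j).obj E)
  let i4 := (homologyFunctorMapIso (Scheme.Modules.pullback j) n).app E
  let i5 := (Scheme.Modules.restrictFunctorIsoPullback j).symm.app (E.homology n)
  let i6 : E.homology n ≅ (DerivedCategory.homologyFunctor Y.Modules n).obj E' :=
    ((DerivedCategory.homologyFunctorFactors Y.Modules n).app E).symm ≪≫
      (DerivedCategory.homologyFunctor Y.Modules n).mapIso e₀
  exact ⟨(DerivedCategory.homologyFunctor W.Modules n).mapIso i1 ≪≫ i3 ≪≫ i4 ≪≫ i5 ≪≫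
    (Scheme.Modules.restrictFunctor j).mapIso i6⟩

/-- the derived pullback along an open immersion preserves `D_QCoh`. -/
theorem isQCohD_lpull_of_isOpenImmersion [DCoh.HasLpull j] (E' : DCoh.D Y)
    (hE' : DCoh.IsQCohD E') : DCoh.IsQCohD ((DCoh.Lpull j).obj E') := by
  intro n
  obtain ⟨e⟩ := nonempty_homology_lpull_iso j E' n
  haveI : ((DerivedCategory.homologyFunctor Y.Modules n).obj E').IsQuasicoherent := hE' n
  exact isQCoh_of_iso e.symm (Scheme.Modules.isQuasicoherent_restrictFunctor j _)

end Groth.Agent.Lib.T2H2.LpullQCoh
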