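import Groth.Agent.Lib.T2H2SheafLim
import Groth.Agent.Lib.Helper17DBrown1
import Groth.Agent.S0943
import Groth.Prelude.Def_Formal2

/-! Milnor sequence for the cohomology of a limit of sheaves acyclic on a basis (S15301, S2371). -/

set_option autoImplicit false
set_option linter.style.haveILetI false
universe w w' v v' u u'
open CategoryTheory CategoryTheory.Limits Opposite ZeroObject

namespace Groth.Agent.Lib.T2H2.MilnorSh

open Groth.Agent.Lib.Helper17.Hyp DerivedCategory Pretriangulated Groth.Agent.S14388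
  Groth.Agent.Lib.T2H2.NegVan Groth.Agent.Lib.T2H2.AcycBasis Groth.Agent.Lib.T2H2.RlimBasis
  Groth.Agent.Lib.T2H2.SheafLim Groth.Agent.S0943

section Milnor
open Pretriangulated
variable {T : Type u'} [Category.{v'} T] [Preadditive T] [HasZeroObject T] [HasShift T ℤ]
    [∀ n : ℤ, (shiftFunctor T n).Additive] [Pretriangulated T]
    {K : ℕ → T} {t : ∀ n, K (n + 1) ⟶ K n} [HasProduct K] {L : T} {a : ∀ n, L ⟶ K n}

/-- `Hom(P, (∏ K)[k]) ≃+ ∏ Hom(P, K_n[k])`. -/
noncomputable def compEquiv (K : ℕ → T) [HasProduct K] (P : T) (k : ℤ) :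
    (P ⟶ (∏ᶜ K)⟦k⟧) ≃+ (∀ n, P ⟶ (K n)⟦k⟧) where
  toFun z := fun n => z ≫ (Pi.π K n)⟦k⟧'
  invFun b := Fan.IsLimit.lift (shiftProdIsLimit K k) b
  left_inv z := by
    apply Fan.IsLimit.hom_ext (shiftProdIsLimit K k)
    intro n
    exact Fan.IsLimit.fac (shiftProdIsLimit K k) _ n
  right_inv b := by
    funext n
    exact Fan.IsLimit.fac (shiftProdIsLimit K k) b n
  map_add' z z' := by
    funext n
    exact Preadditive.add_comp _ _ _ _ _ _

theorem milnor_ker_equiv (hL : CohCx.IsRlimVia K t L a) (P : T) (m m' : ℤ) (hm : m' + 1 = m) :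
    Nonempty ((AddMonoidHom.pi fun n => Preadditive.rightComp P ((a n)⟦m⟧')).ker ≃+
      Formal2.limOne (fun n => P ⟶ (K n)⟦m'⟧) (fun n => Preadditive.rightComp P ((t n)⟦m'⟧'))) := by
  obtain ⟨c, hc⟩ := hL
  let α : L ⟶ ∏ᶜ K := Pi.lift a
  let φ : ∏ᶜ K ⟶ ∏ᶜ K := Pi.lift fun n => Pi.π K n - Pi.π K (n + 1) ≫ t n
  let F := preadditiveCoyoneda.obj (op P)
  have hπ₁ : ∀ n, α ≫ Pi.π K n = a n := fun n => Pi.lift_π _ _
  have hπ₂ : ∀ n, φ ≫ Pi.π K n = Pi.π K n - Pi.π K (n + 1) ≫ t n := fun n => Pi.lift_π _ _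
  -- the three maps
  let δ : (P ⟶ (∏ᶜ K)⟦m'⟧) →+ (P ⟶ L⟦m⟧) :=
    (F.homologySequenceδ (Triangle.mk α φ c) m' m hm).hom
  let φs : (P ⟶ (∏ᶜ K)⟦m'⟧) →+ (P ⟶ (∏ᶜ K)⟦m'⟧) := Preadditive.rightComp P (φ⟦m'⟧')
  let αs : (P ⟶ L⟦m⟧) →+ (P ⟶ (∏ᶜ K)⟦m⟧) := Preadditive.rightComp P (α⟦m⟧')
  have hex1 := (F.homologySequence_exact₁ _ hc m' m hm)
  rw [ShortComplex.ab_exact_iff] at hex1
  have hex3 := (F.homologySequence_exact₃ _ hc m' m hm)
  rw [ShortComplex.ab_exact_iff] at hex3
  have hδα : ∀ z : P ⟶ (∏ᶜ K)⟦m'⟧, δ z ≫ α⟦m⟧' = 0 := by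
    intro z
    have h := F.homologySequenceδ_comp _ hc m' m hm
    exact congrArg (fun ψ => (ConcreteCategory.hom ψ) z) h
  have hφδ : ∀ z : P ⟶ (∏ᶜ K)⟦m'⟧, δ (z ≫ φ⟦m'⟧') = 0 := by
    intro z
    have h := F.comp_homologySequenceδ _ hc m' m hm
    exact congrArg (fun ψ => (ConcreteCategory.hom ψ) z) h
  have hker_α : αs.ker = δ.range := by
    ext y
    constructor
    · intro hy
      obtain ⟨z, hz⟩ := hex1 y hy
      exact ⟨z, hz⟩
    · rintro ⟨z, rfl⟩
      exact hδα z
  have hker_δ : δ.ker = φs.range := by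
    ext z
    constructor
    · intro hz
      obtain ⟨w, hw⟩ := hex3 z hz
      exact ⟨w, hw⟩
    · rintro ⟨w, rfl⟩
      exact hφδ w
  have hker_pi : (AddMonoidHom.pi fun n => Preadditive.rightComp P ((a n)⟦m⟧')).ker = αs.ker := by
    ext y
    simp only [AddMonoidHom.mem_ker]
    constructor
    · intro hy
      apply Fan.IsLimit.hom_ext (shiftProdIsLimit K m)
      intro n
      change (y ≫ α⟦m⟧') ≫ (Pi.π K n)⟦m⟧' = 0 ≫ (Pi.π K n)⟦m⟧'
      rw [Category.assoc, ← Functor.map_comp, hπ₁, zero_comp]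
      exact congrFun hy n
    · intro hy
      funext n
      change y ≫ (a n)⟦m⟧' = 0
      rw [← hπ₁ n, Functor.map_comp, ← Category.assoc]
      change (αs y) ≫ _ = 0
      rw [hy, zero_comp]
  have hcomm : ∀ z : P ⟶ (∏ᶜ K)⟦m'⟧, compEquiv K P m' (φs z) =
      Formal2.towerDiff (fun n => P ⟶ (K n)⟦m'⟧) (fun n => Preadditive.rightComp P ((t n)⟦m'⟧'))
        (compEquiv K P m' z) := by
    intro z
    funext n
    change (z ≫ φ⟦m'⟧') ≫ (Pi.π K n)⟦m'⟧' =
      z ≫ (Pi.π K n)⟦m'⟧' - (z ≫ (Pi.π K (n + 1))⟦m'⟧') ≫ (t n)⟦m'⟧'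
    rw [Category.assoc, ← Functor.map_comp, hπ₂, Functor.map_sub, Preadditive.comp_sub,
      Functor.map_comp, ← Category.assoc]
  have hmap : AddSubgroup.map (compEquiv K P m').toAddMonoidHom φs.range =
      (Formal2.towerDiff (fun n => P ⟶ (K n)⟦m'⟧)
        (fun n => Preadditive.rightComp P ((t n)⟦m'⟧'))).range := by
    ext b
    constructor
    · rintro ⟨_, ⟨z, rfl⟩, rfl⟩
      exact ⟨compEquiv K P m' z, (hcomm z).symm⟩
    · rintro ⟨b', rfl⟩
      refine ⟨φs ((compEquiv K P m').symm b'), ⟨_, rfl⟩, ?_⟩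
      change compEquiv K P m' (φs ((compEquiv K P m').symm b')) = _
      rw [hcomm, AddEquiv.apply_symm_apply]
  exact ⟨(AddEquiv.addSubgroupCongr (hker_pi.trans hker_α)).trans
    ((QuotientAddGroup.quotientKerEquivRange δ).symm.trans
      ((QuotientAddGroup.quotientAddEquivOfEq hker_δ).trans
        (QuotientAddGroup.congr _ _ (compEquiv K P m') hmap)))⟩

end Milnor

section Via

variable {C : Type u} [SmallCategory C] {J : GrothendieckTopology C}
  [HasDerivedCategory.{u} (Sheaf J AddCommGrpCat.{u})]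

theorem site_sheafLim_via (F : ℕ → Sheaf J AddCommGrpCat.{u}) (t : ∀ n, F (n + 1) ⟶ F n)
    [HasProduct fun n => (DerivedCategory.singleFunctor (Sheaf J AddCommGrpCat.{u}) 0).obj (F n)]
    (B : Set C)
    (hB : ∀ U : C, ∃ (ι : Type u) (Y : ι → C) (f : ∀ i, Y i ⟶ U),
      Sieve.ofArrows Y f ∈ J U ∧ ∀ i, Y i ∈ B)
    (h1 : ∀ U ∈ B, ∀ (p n : ℕ), Subsingleton (CohSite.HU (F n) (p + 1) U))
    (h2 : ∀ U ∈ B, CohCx.LimOneIsZero (fun n => (F n).obj.obj (op U))
      (fun n => ((t n).hom.app (op U)).hom)) :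
    CohCx.IsRlimVia (fun n => (DerivedCategory.singleFunctor _ 0).obj (F n))
      (fun n => (DerivedCategory.singleFunctor _ 0).map (t n))
      ((DerivedCategory.singleFunctor _ 0).obj (limit (CohCx.opSequence F t)))
      (fun n => (DerivedCategory.singleFunctor _ 0).map
        (limit.π (CohCx.opSequence F t) (op n))) := by
  let K : ℕ → DerivedCategory (Sheaf J AddCommGrpCat.{u}) := fun n => dsgl (F n)
  let tK : ∀ n, K (n + 1) ⟶ K n := fun n =>
    Q.map ((HomologicalComplex.single _ (ComplexShape.up ℤ) 0).map (t n))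
  haveI : HasProduct K := ‹_›
  obtain ⟨L, a, hLa⟩ := exists_isRlimVia K tK
  have hB' := isBasisFor_of_ofArrows B hB
  have hsub : ∀ W ∈ B, ∀ (n : ℕ) (m : ℤ), m ≠ 0 →
      Subsingleton (dsgl (CohCx.freeSheaf J W) ⟶ (K n)⟦m⟧) :=
    fun W hW n m hm => subsingleton_hom_single (F n) W (fun p => h1 W hW p n) m hm
  have hcm : ∀ W ∈ B, ∀ (n : ℕ) (q : ℤ),
      Function.Bijective (fun ξ : dsgl (CohCx.freeSheaf J W) ⟶ (K n)⟦q⟧ => cm ξ) :=
    fun W hW n q => bijective_cm_dsgl _ _ q (hsub W hW n q)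
  have hlim1 : ∀ W ∈ B, ∀ m : ℤ,
      CohCx.LimOneIsZero (fun n => dsgl (CohCx.freeSheaf J W) ⟶ (K n)⟦m⟧)
        (fun n => Preadditive.rightComp _ ((tK n)⟦m⟧')) := by
    intro W hW m
    by_cases hm : m = 0
    · subst hm
      exact limOneIsZero_of_bijective _ _ (fun n => secAdd (F n) W)
        (fun n => bijective_secAdd (F n) W) (fun n x => secAdd_comp (t n) W x) (h2 W hW)
    · exact limOneIsZero_of_subsingleton _ _ (fun n => hsub W hW n m hm)
  -- vanishing of `H^q(L)` for `q ≠ 0`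
  have hzero : ∀ q : ℤ, q ≠ 0 → IsZero ((homologyFunctor _ q).obj L) := by
    intro q hq
    have hz : ∀ n, IsZero ((homologyFunctor _ q).obj (K n)) :=
      fun n => isZero_homology_dsgl (F n) q hq
    haveI : IsIso (0 : (homologyFunctor _ q).obj L ⟶ (0 : Sheaf J AddCommGrpCat.{u})) :=
      isIso_of_rlim_basis (fr := frSh J) (locFr_frSh J) hLa B hB' q
        (fun W hW n => hcm W hW n q) (fun W hW => hlim1 W hW (q - 1))
        (fun n => (0 : (0 : Sheaf J AddCommGrpCat.{u}) ⟶ (homologyFunctor _ q).obj (K n)))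
        (fun n => zero_comp) (fun {X} s _ => (isZero_zero _).eq_of_tgt _ _) 0
        (fun n => (hz n).eq_of_tgt _ _)
    exact IsZero.of_iso (isZero_zero _)
      (asIso (0 : (homologyFunctor _ q).obj L ⟶ (0 : Sheaf J AddCommGrpCat.{u})))
  haveI : L.IsGE 0 := (DerivedCategory.isGE_iff L 0).2 (fun i hi => hzero i (by omega))
  haveI : L.IsLE 0 := (DerivedCategory.isLE_iff L 0).2 (fun i hi => hzero i (by omega))
  -- `H^0(L) ≅ lim F`
  let D := CohCx.opSequence F t
  have hcomp : ∀ n, ((homologyFunctor _ 0).map (a (n + 1)) ≫ (e₀ (F (n + 1))).hom) ≫ t n =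
      (homologyFunctor _ 0).map (a n) ≫ (e₀ (F n)).hom := fun n => by
    rw [Category.assoc, ← e₀_hom_naturality, ← Category.assoc, ← Functor.map_comp]
    congr 2
    exact isRlimVia_comp_t hLa n
  let cone : Cone D :=
    { pt := (homologyFunctor _ 0).obj L
      π := NatTrans.ofOpSequence (F := (Functor.const _).obj ((homologyFunctor _ 0).obj L))
        (fun n => (homologyFunctor _ 0).map (a n) ≫ (e₀ (F n)).hom) (fun n => by
          simp only [Functor.const_obj_obj, Functor.const_obj_map, Category.id_comp]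
          rw [show D.map (homOfLE (Nat.le_add_right n 1)).op = t n from
              Functor.ofOpSequence_map_homOfLE_succ _ n]
          exact (hcomp n).symm) }
  let φ : (homologyFunctor _ 0).obj L ⟶ limit D := limit.lift D cone
  haveI : IsIso φ := by
    refine isIso_of_rlim_basis (fr := frSh J) (locFr_frSh J) hLa B hB' 0
      (fun W hW n => hcm W hW n 0) (fun W hW => hlim1 W hW (0 - 1))
      (fun n => limit.π D (op n) ≫ (e₀ (F n)).inv) (fun n => ?_) (fun {X} s hs => ?_) φ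
      (fun n => ?_)
    · have hw := limit.w D (homOfLE (Nat.le_add_right n 1)).op
      rw [show D.map (homOfLE (Nat.le_add_right n 1)).op = t n from
        Functor.ofOpSequence_map_homOfLE_succ _ n] at hw
      have e1 := e₀_inv_naturality (t n)
      rw [Category.assoc]
      exact calc _ = limit.π D (op (n + 1)) ≫ (t n ≫ (e₀ (F n)).inv) :=
              congrArg (fun z => limit.π D (op (n + 1)) ≫ z) e1.symm
        _ = (limit.π D (op (n + 1)) ≫ t n) ≫ (e₀ (F n)).inv := (Category.assoc _ _ _).symm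
        _ = _ := congrArg (fun z => z ≫ (e₀ (F n)).inv) hw
    · apply limit.hom_ext
      rintro ⟨n⟩
      rw [zero_comp]
      have := hs n
      rw [← Category.assoc] at this
      exact (cancel_mono (e₀ (F n)).inv).1 (this.trans zero_comp.symm)
    · rw [← Category.assoc, limit.lift_π]
      change ((homologyFunctor _ 0).map (a n) ≫ (e₀ (F n)).hom) ≫ (e₀ (F n)).inv = _
      rw [Category.assoc, Iso.hom_inv_id, Category.comp_id]
  obtain ⟨M, ⟨eM⟩⟩ := exists_iso_singleFunctor_obj_of_isGE_of_isLE L 0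
  replace eM : L ≅ dsgl M := eM
  let eH : M ≅ limit D :=
    (e₀ M).symm ≪≫ (homologyFunctor _ 0).mapIso eM.symm ≪≫ asIso φ
  let eLG : L ≅ (DerivedCategory.singleFunctor _ 0).obj (limit D) :=
    eM ≪≫ (DerivedCategory.singleFunctor _ 0).mapIso eH
  have hfin : ∀ n, inv φ ≫ (homologyFunctor _ 0).map (a n) =
      limit.π D (op n) ≫ (e₀ (F n)).inv := by
    intro n
    have h2 : φ ≫ limit.π D (op n) = (homologyFunctor _ 0).map (a n) ≫ (e₀ (F n)).hom :=
      limit.lift_π _ _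
    have h3 : (homologyFunctor _ 0).map (a n) =
        ((homologyFunctor _ 0).map (a n) ≫ (e₀ (F n)).hom) ≫ (e₀ (F n)).inv :=
      ((Category.assoc _ _ _).trans ((congrArg (fun z => (homologyFunctor _ 0).map (a n) ≫ z)
        (e₀ (F n)).hom_inv_id).trans (Category.comp_id _))).symm
    refine (IsIso.inv_comp_eq φ).2 (h3.trans ?_)
    exact (congrArg (fun z => z ≫ (e₀ (F n)).inv) h2.symm).trans (Category.assoc _ _ _)
  have h1 : c₀ eLG.inv = inv φ := by
    change c₀ (Q.map ((HomologicalComplex.single _ (ComplexShape.up ℤ) 0).map eH.inv) ≫ eM.inv) = _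
    rw [c₀_comp, c₀_single_map]
    have e1 : (homologyFunctor _ 0).map eM.hom ≫ (homologyFunctor _ 0).map eM.inv = 𝟙 _ := by
      rw [← Functor.map_comp, Iso.hom_inv_id, CategoryTheory.Functor.map_id]
    calc (eH.inv ≫ (e₀ M).inv) ≫ (homologyFunctor _ 0).map eM.inv
        = inv φ ≫ ((homologyFunctor _ 0).map eM.hom ≫ ((e₀ M).hom ≫ (e₀ M).inv) ≫
            (homologyFunctor _ 0).map eM.inv) := by
          change ((inv φ ≫ (homologyFunctor _ 0).map eM.hom ≫ (e₀ M).hom) ≫ (e₀ M).inv) ≫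
            (homologyFunctor _ 0).map eM.inv = _
          simp only [Category.assoc]
      _ = inv φ := by
          rw [Iso.hom_inv_id, Category.id_comp, e1, Category.comp_id]
  refine isRlimVia_of_iso hLa eLG.inv _ (fun n => ?_)
  apply (bijective_c₀_single (limit D) (F n)).1
  change c₀ (eLG.inv ≫ a n) = c₀ (Q.map ((HomologicalComplex.single _ (ComplexShape.up ℤ) 0).map
    (limit.π D (op n))))
  rw [c₀_single_map, c₀_comp, h1]
  exact hfin n

end Via

section ExtHom

variable {A : Type u} [Category.{v} A] [Abelian A] [HasExt.{w} A] [HasDerivedCategory.{w'} A]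

open Abelian

lemma hom_postcomp {X Y Z : A} (n : ℕ) (φ : Y ⟶ Z) (x : Ext X Y n) :
    ((Ext.mk₀ φ).postcomp X (add_zero n) x).hom =
      x.hom ≫ ((singleFunctor A 0).map φ)⟦(n : ℤ)⟧' := by
  change (x.comp (Ext.mk₀ φ) (add_zero n)).hom = _
  rw [Ext.comp_hom, Ext.mk₀_hom, ShiftedHom.comp_mk₀]

end ExtHom

section Grp

/-- kernels of maps which correspond under additive equivalences. -/
noncomputable def kerEquiv {A A' B B' : Type*} [AddCommGroup A] [AddCommGroup A'] [AddCommGroup B]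
    [AddCommGroup B'] (f : A →+ B) (f' : A' →+ B') (e : A ≃+ A') (e' : B ≃+ B')
    (h : ∀ x, e' (f x) = f' (e x)) : f.ker ≃+ f'.ker where
  toFun x := ⟨e x.1, by
    have hx : f x.1 = 0 := x.2
    change f' (e x.1) = 0
    rw [← h, hx, map_zero]⟩
  invFun y := ⟨e.symm y.1, by
    have hy : f' y.1 = 0 := y.2
    change f (e.symm y.1) = 0
    apply e'.injective
    rw [h, AddEquiv.apply_symm_apply, hy, map_zero]⟩
  left_inv x := by
    apply Subtype.ext
    exact e.symm_apply_apply x.1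
  right_inv y := by
    apply Subtype.ext
    exact e.apply_symm_apply y.1
  map_add' x y := by
    apply Subtype.ext
    exact map_add e x.1 y.1

/-- `lim¹` of isomorphic towers. -/
noncomputable def limOneCongr {G G' : ℕ → Type u} [∀ n, AddCommGroup (G n)]
    [∀ n, AddCommGroup (G' n)] (t : ∀ n, G (n + 1) →+ G n) (t' : ∀ n, G' (n + 1) →+ G' n)
    (e : ∀ n, G n ≃+ G' n) (h : ∀ n x, e n (t n x) = t' n (e (n + 1) x)) :
    Formal2.limOne G t ≃+ Formal2.limOne G' t' :=
  have key : ∀ x : ∀ n, G n, AddEquiv.piCongrRight e (Formal2.towerDiff G t x) =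
      Formal2.towerDiff G' t' (AddEquiv.piCongrRight e x) := by
    intro x
    funext n
    change e n (x n - t n (x (n + 1))) = e n (x n) - t' n (e (n + 1) (x (n + 1)))
    rw [map_sub, h]
  QuotientAddGroup.congr _ _ (AddEquiv.piCongrRight e) (by
    ext b
    constructor
    · rintro ⟨_, ⟨x, rfl⟩, rfl⟩
      exact ⟨AddEquiv.piCongrRight e x, (key x).symm⟩
    · rintro ⟨x', rfl⟩
      refine ⟨Formal2.towerDiff G t ((AddEquiv.piCongrRight e).symm x'), ⟨_, rfl⟩, ?_⟩
      change AddEquiv.piCongrRight e (Formal2.towerDiff G t ((AddEquiv.piCongrRight e).symm x')) = _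
      rw [key, AddEquiv.apply_symm_apply])

end Grp

section Tower

theorem limOneIsZero_of_surjective (G : ℕ → Type u) [∀ n, AddCommGroup (G n)]
    (t : ∀ n, G (n + 1) →+ G n) (h : ∀ n, Function.Surjective (t n)) : CohCx.LimOneIsZero G t := by
  intro b
  choose s hs using h
  let a : ∀ n, G n := fun n => Nat.rec (motive := fun n => G n) 0 (fun n an => s n (an - b n)) n
  refine ⟨a, ?_⟩
  funext n
  change a n - t n (s n (a n - b n)) = b n
  rw [hs]
  abel

theorem opSequence_map_succ {T : Type u'} [Category.{v'} T] (F : ℕᵒᵖ ⥤ T) (n : ℕ) :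
    (CohCx.opSequence (fun n => F.obj (op n))
      (fun n => F.map (homOfLE (Nat.le_succ n)).op)).map (homOfLE (Nat.le_add_right n 1)).op =
      F.map (homOfLE (Nat.le_succ n)).op :=
  Functor.ofOpSequence_map_homOfLE_succ (X := fun n => F.obj (op n))
    (fun n => F.map (homOfLE (Nat.le_succ n)).op) n

/-- a diagram `ℕᵒᵖ ⥤ T` is the diagram of its tower. -/
noncomputable def opSeqIso {T : Type u'} [Category.{v'} T] (F : ℕᵒᵖ ⥤ T) :
    F ≅ CohCx.opSequence (fun n => F.obj (op n)) (fun n => F.map (homOfLE (Nat.le_succ n)).op) where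
  hom := NatTrans.ofOpSequence (fun n => 𝟙 (F.obj (op n))) (by
    intro n
    have h := opSequence_map_succ F n
    exact (Category.comp_id _).trans ((Category.id_comp _).trans h).symm)
  inv := NatTrans.ofOpSequence (fun n => 𝟙 (F.obj (op n))) (by
    intro n
    have h := opSequence_map_succ F n
    exact ((Category.comp_id _).trans h).trans (Category.id_comp _).symm)
  hom_inv_id := by
    ext n
    exact Category.comp_id _
  inv_hom_id := by
    ext n
    exact Category.comp_id _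

theorem opSeqIso_hom_app {T : Type u'} [Category.{v'} T] (F : ℕᵒᵖ ⥤ T) (n : ℕ) :
    (opSeqIso F).hom.app (op n) = 𝟙 (F.obj (op n)) := rfl

end Tower

section Main

variable {C : Type u} [SmallCategory C] {J : GrothendieckTopology C}

/-- `H^n(U, F) → H^n(U, G)`. -/
noncomputable abbrev HUm {F G : Sheaf J AddCommGrpCat.{u}} (φ : F ⟶ G) (n : ℕ) (U : C) :
    CohSite.HU F n U →+ CohSite.HU G n U :=
  (((Sheaf.cohomologyPresheafFunctor J n).map φ).app (op U)).hom

theorem site_milnor_rlim (F : ℕᵒᵖ ⥤ Sheaf J AddCommGrpCat.{u}) (B : Set C)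
    [HasDerivedCategory.{u} (Sheaf J AddCommGrpCat.{u})]
    [HasProduct fun n : ℕ => (DerivedCategory.singleFunctor _ 0).obj (F.obj (op n))]
    (hB : ∀ U : C, ∃ (ι : Type u) (Y : ι → C) (f : ∀ i, Y i ⟶ U),
      Sieve.ofArrows Y f ∈ J U ∧ ∀ i, Y i ∈ B)
    (hsurj : ∀ V ∈ B, ∀ n : ℕ,
      Function.Surjective ((F.map (homOfLE (Nat.le_succ n)).op).hom.app (op V)).hom)
    (hvan : ∀ V ∈ B, ∀ (n i : ℕ), 0 < i → Subsingleton (CohSite.HU (F.obj (op n)) i V)) :
    CohCx.IsRlimVia (fun n : ℕ => (DerivedCategory.singleFunctor _ 0).obj (F.obj (op n)))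
      (fun n => (DerivedCategory.singleFunctor _ 0).map (F.map (homOfLE (Nat.le_succ n)).op))
      ((DerivedCategory.singleFunctor _ 0).obj (limit F))
      (fun n => (DerivedCategory.singleFunctor _ 0).map (limit.π F (op n))) := by
  let F' : ℕ → Sheaf J AddCommGrpCat.{u} := fun n => F.obj (op n)
  let t : ∀ n, F' (n + 1) ⟶ F' n := fun n => F.map (homOfLE (Nat.le_succ n)).op
  let D := CohCx.opSequence F' t
  have hvia := site_sheafLim_via F' t B hB
    (fun V hV p n => hvan V hV n (p + 1) (Nat.succ_pos p))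
    (fun V hV => limOneIsZero_of_surjective _ _ (hsurj V hV))
  let ι : limit F ≅ limit D := HasLimit.isoOfNatIso (opSeqIso F)
  have hι : ∀ n, ι.hom ≫ limit.π D (op n) = limit.π F (op n) := by
    intro n
    have h := HasLimit.isoOfNatIso_hom_π (opSeqIso F) (op n)
    rw [opSeqIso_hom_app] at h
    exact h.trans (Category.comp_id _)
  exact isRlimVia_of_iso hvia ((DerivedCategory.singleFunctor _ 0).map ι.hom) _ (fun n =>
    ((DerivedCategory.singleFunctor _ 0).map_comp _ _).symm.trans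
      (congrArg (DerivedCategory.singleFunctor _ 0).map (hι n)))

end Main

section Main2

variable {C : Type u} [SmallCategory C] {J : GrothendieckTopology C}
  [HasDerivedCategory.{u} (Sheaf J AddCommGrpCat.{u})]

/-- `H^n(U, G) ≃+ Hom(ℤ_U[0], G[0][n])`. -/
noncomputable def huEquiv (U : C) (G : Sheaf J AddCommGrpCat.{u}) (n : ℕ) :
    CohSite.HU G n U ≃+
      ((DerivedCategory.singleFunctor (Sheaf J AddCommGrpCat.{u}) 0).obj (CohCx.freeSheaf J U) ⟶
        ((DerivedCategory.singleFunctor _ 0).obj G)⟦(n : ℤ)⟧) :=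
  Abelian.Ext.homAddEquiv

theorem huEquiv_HUm (U : C) {G G' : Sheaf J AddCommGrpCat.{u}} (φ : G ⟶ G') (n : ℕ)
    (x : CohSite.HU G n U) :
    huEquiv U G' n (HUm φ n U x) =
      huEquiv U G n x ≫ ((DerivedCategory.singleFunctor _ 0).map φ)⟦(n : ℤ)⟧' :=
  hom_postcomp n φ x

theorem milnor_of_rlim (F' : ℕ → Sheaf J AddCommGrpCat.{u}) (t : ∀ n, F' (n + 1) ⟶ F' n)
    [HasProduct fun n : ℕ => (DerivedCategory.singleFunctor _ 0).obj (F' n)]
    (Lm : Sheaf J AddCommGrpCat.{u}) (p : ∀ n, Lm ⟶ F' n)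
    (hL : CohCx.IsRlimVia (fun n : ℕ => (DerivedCategory.singleFunctor _ 0).obj (F' n))
      (fun n => (DerivedCategory.singleFunctor _ 0).map (t n))
      ((DerivedCategory.singleFunctor _ 0).obj Lm)
      (fun n => (DerivedCategory.singleFunctor _ 0).map (p n)))
    (U : C) (i j : ℕ) (hij : j + 1 = i) :
    (∀ ξ : ∀ n : ℕ, CohSite.HU (F' n) i U,
      (∀ n, HUm (t n) i U (ξ (n + 1)) = ξ n) →
        ∃ η : CohSite.HU Lm i U, ∀ n, HUm (p n) i U η = ξ n) ∧
    Nonempty ((AddMonoidHom.pi fun n : ℕ => HUm (p n) i U).ker ≃+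
      Formal2.limOne (fun n : ℕ => CohSite.HU (F' n) j U) (fun n : ℕ => HUm (t n) j U)) := by
  let P := (DerivedCategory.singleFunctor (Sheaf J AddCommGrpCat.{u}) 0).obj (CohCx.freeSheaf J U)
  constructor
  · intro ξ hξ
    obtain ⟨y, hy⟩ := (milnor_general hL P (i : ℤ)).1 (fun n => huEquiv U (F' n) i (ξ n))
      (fun n => by rw [← huEquiv_HUm, hξ])
    refine ⟨(huEquiv U Lm i).symm y, fun n => ?_⟩
    apply (huEquiv U (F' n) i).injective
    rw [huEquiv_HUm, AddEquiv.apply_symm_apply]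
    exact hy n
  · have hij' : (j : ℤ) + 1 = (i : ℤ) := by exact_mod_cast hij
    obtain ⟨E⟩ := milnor_ker_equiv hL P (i : ℤ) (j : ℤ) hij'
    have k1 : (AddMonoidHom.pi fun n : ℕ => HUm (p n) i U).ker ≃+
        (AddMonoidHom.pi fun n : ℕ => Preadditive.rightComp P
          (((DerivedCategory.singleFunctor _ 0).map (p n))⟦(i : ℤ)⟧')).ker :=
      kerEquiv _ _ (huEquiv U Lm i) (AddEquiv.piCongrRight fun n => huEquiv U (F' n) i)
        (fun x => funext fun n => huEquiv_HUm U (p n) i x)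
    have k2 : Formal2.limOne (fun n : ℕ => CohSite.HU (F' n) j U) (fun n : ℕ => HUm (t n) j U) ≃+
        Formal2.limOne (fun n : ℕ => P ⟶ ((DerivedCategory.singleFunctor _ 0).obj (F' n))⟦(j : ℤ)⟧)
          (fun n => Preadditive.rightComp P
            (((DerivedCategory.singleFunctor _ 0).map (t n))⟦(j : ℤ)⟧')) :=
      limOneCongr _ _ (fun n => huEquiv U (F' n) j) (fun n x => huEquiv_HUm U (t n) j x)
    exact ⟨k1.trans (E.trans k2.symm)⟩

end Main2

section Final

variable {C : Type u} [SmallCategory C] {J : GrothendieckTopology C}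

theorem site_milnor (F : ℕᵒᵖ ⥤ Sheaf J AddCommGrpCat.{u}) (B : Set C)
    (hB : ∀ U : C, ∃ (ι : Type u) (Y : ι → C) (f : ∀ i, Y i ⟶ U),
      Sieve.ofArrows Y f ∈ J U ∧ ∀ i, Y i ∈ B)
    (hsurj : ∀ V ∈ B, ∀ n : ℕ,
      Function.Surjective ((F.map (homOfLE (Nat.le_succ n)).op).hom.app (op V)).hom)
    (hvan : ∀ V ∈ B, ∀ (n i : ℕ), 0 < i → Subsingleton (CohSite.HU (F.obj (op n)) i V))
    (U : C) (i j : ℕ) (hij : j + 1 = i) :
    (∀ ξ : ∀ n : ℕ, CohSite.HU (F.obj (op n)) i U,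
      (∀ n, HUm (F.map (homOfLE (Nat.le_succ n)).op) i U (ξ (n + 1)) = ξ n) →
        ∃ η : CohSite.HU (limit F) i U, ∀ n, HUm (limit.π F (op n)) i U η = ξ n) ∧
    Nonempty ((AddMonoidHom.pi fun n : ℕ => HUm (limit.π F (op n)) i U).ker ≃+
      Formal2.limOne (fun n : ℕ => CohSite.HU (F.obj (op n)) j U)
        (fun n : ℕ => HUm (F.map (homOfLE (Nat.le_succ n)).op) j U)) := by
  letI : HasDerivedCategory.{u} (Sheaf J AddCommGrpCat.{u}) :=
    Groth.Agent.Lib.Helper17.DBrown.hasDerivedCategorySmall (Sheaf J AddCommGrpCat.{u})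
  haveI : HasProducts.{u} (DerivedCategory (Sheaf J AddCommGrpCat.{u})) :=
    Groth.Agent.Lib.Helper17.KInj.hasProducts_derivedCategory
  haveI : HasProducts.{0} (DerivedCategory (Sheaf J AddCommGrpCat.{u})) :=
    has_smallest_products_of_hasProducts
  have hL := site_milnor_rlim F B hB hsurj hvan
  exact milnor_of_rlim (fun n => F.obj (op n)) (fun n => F.map (homOfLE (Nat.le_succ n)).op)
    (limit F) (fun n => limit.π F (op n)) hL U i j hij

end Final

end Groth.Agent.Lib.T2H2.MilnorSh
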