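import Mathlib
import Groth.Prelude.Def_DRing2

/-!
# Helper library (helper4): `Ext` out of a bounded above complex of finite free modules via cocycles

For a K-projective complex `E` of `A`-modules and a module `X`, we construct an `A`-linear, natural
(in `X`) surjection `Φ` from the module of cocycles `Z ⊆ Hom(E^{-p}, X)` onto
`Hom_{D(A)}(E, X[p])`.  Consequences over a Noetherian ring: finiteness of `Ext^p(K, M)` for `K`
pseudo-coherent and `M` finite, and the Artin–Rees lemma for `Ext^p(K, -)`.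
-/

set_option autoImplicit false
universe u
open CategoryTheory CategoryTheory.Limits
attribute [local instance] HasDerivedCategory.standard

namespace Groth.Agent.Lib.T2H4.ExtCocycle

open DerivedCategory CochainComplex HomComplex

variable {A : Type u} [CommRing A]

/-- The cochain map `E ⟶ X[0]⟦p⟧` attached to a "cocycle" `f : E^q ⟶ X` (with `q + p = 0`). -/
noncomputable def cocycleHom (E : DRing.Cx A) (X : ModuleCat.{u} A) (p q : ℤ) (hpq : q + p = 0)
    (f : E.X q ⟶ X) (hf : E.d (q - 1) q ≫ f = 0) :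
    E ⟶ ((CochainComplex.singleFunctor (ModuleCat.{u} A) 0).obj X)⟦p⟧ :=
  Cocycle.equivHomShift.symm (Cocycle.toSingleMk f hpq (q - 1) (by omega) hf)

lemma cocycleHom_add (E : DRing.Cx A) (X : ModuleCat.{u} A) (p q : ℤ) (hpq : q + p = 0)
    (f g : E.X q ⟶ X) (hf : E.d (q - 1) q ≫ f = 0) (hg : E.d (q - 1) q ≫ g = 0) :
    cocycleHom E X p q hpq (f + g) (by simp [hf, hg]) =
      cocycleHom E X p q hpq f hf + cocycleHom E X p q hpq g hg := by
  unfold cocycleHom
  rw [Cocycle.toSingleMk_add _ _ _ _ _ hf hg, map_add]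

lemma cocycleHom_postcomp (E : DRing.Cx A) (X X' : ModuleCat.{u} A) (p q : ℤ) (hpq : q + p = 0)
    (f : E.X q ⟶ X) (hf : E.d (q - 1) q ≫ f = 0) (g : X ⟶ X') :
    cocycleHom E X' p q hpq (f ≫ g) (by rw [reassoc_of% hf, zero_comp]) =
      cocycleHom E X p q hpq f hf ≫
        ((CochainComplex.singleFunctor (ModuleCat.{u} A) 0).map g)⟦p⟧' := by
  unfold cocycleHom
  rw [Cocycle.toSingleMk_postcomp _ _ _ _ hf g, Cocycle.equivHomShift_symm_postcomp]

lemma cocycleHom_surjective (E : DRing.Cx A) (X : ModuleCat.{u} A) (p q : ℤ) (hpq : q + p = 0)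
    (g : E ⟶ ((CochainComplex.singleFunctor (ModuleCat.{u} A) 0).obj X)⟦p⟧) :
    ∃ (f : E.X q ⟶ X) (hf : E.d (q - 1) q ≫ f = 0), cocycleHom E X p q hpq f hf = g := by
  obtain ⟨f, hf, h⟩ := Cocycle.toSingleMk_surjective (Cocycle.equivHomShift g) q hpq (q - 1)
    (by omega)
  refine ⟨f, hf, ?_⟩
  unfold cocycleHom
  rw [h]; simp

/-- The class in `D(A)` of a cocycle. -/
noncomputable def extClass (E : DRing.Cx A) (X : ModuleCat.{u} A) (p q : ℤ) (hpq : q + p = 0)
    (f : E.X q ⟶ X) (hf : E.d (q - 1) q ≫ f = 0) :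
    DRing.toD E ⟶ ((DerivedCategory.singleFunctor (ModuleCat.{u} A) 0).obj X)⟦p⟧ :=
  Q.map (cocycleHom E X p q hpq f hf) ≫ (Q.commShiftIso p).hom.app _ ≫
    ((singleFunctorIsoCompQ (ModuleCat.{u} A) 0).inv.app X)⟦p⟧'

lemma extClass_add (E : DRing.Cx A) (X : ModuleCat.{u} A) (p q : ℤ) (hpq : q + p = 0)
    (f g : E.X q ⟶ X) (hf : E.d (q - 1) q ≫ f = 0) (hg : E.d (q - 1) q ≫ g = 0) :
    extClass E X p q hpq (f + g) (by simp [hf, hg]) =
      extClass E X p q hpq f hf + extClass E X p q hpq g hg := by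
  unfold extClass
  rw [cocycleHom_add E X p q hpq f g hf hg, Functor.map_add, Preadditive.add_comp]

lemma extClass_postcomp (E : DRing.Cx A) (X X' : ModuleCat.{u} A) (p q : ℤ) (hpq : q + p = 0)
    (f : E.X q ⟶ X) (hf : E.d (q - 1) q ≫ f = 0) (g : X ⟶ X') :
    extClass E X' p q hpq (f ≫ g) (by rw [reassoc_of% hf, zero_comp]) =
      extClass E X p q hpq f hf ≫
        ((DerivedCategory.singleFunctor (ModuleCat.{u} A) 0).map g)⟦p⟧' := by
  unfold extClass
  rw [cocycleHom_postcomp E X X' p q hpq f hf g, Functor.map_comp, Category.assoc, Category.assoc,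
    Category.assoc]
  congr 1
  have h1 := (Q.commShiftIso p).hom.naturality
    ((CochainComplex.singleFunctor (ModuleCat.{u} A) 0).map g)
  dsimp at h1
  rw [← Category.assoc, h1, Category.assoc]
  congr 1
  rw [← Functor.map_comp, ← Functor.map_comp]
  exact congrArg (fun t => (CategoryTheory.shiftFunctor (DerivedCategory (ModuleCat.{u} A)) p).map t)
    ((singleFunctorIsoCompQ (ModuleCat.{u} A) 0).inv.naturality g)

lemma exists_chain_map (P L : CochainComplex (ModuleCat.{u} A) ℤ) [P.IsKProjective]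
    (φ : Q.obj P ⟶ Q.obj L) : ∃ f : P ⟶ L, Q.map f = φ := by
  obtain ⟨g, hg⟩ := (CochainComplex.IsKProjective.Qh_map_bijective P
    ((HomotopyCategory.quotient (ModuleCat.{u} A) (ComplexShape.up ℤ)).obj L)).2 φ
  obtain ⟨f, rfl⟩ := (HomotopyCategory.quotient (ModuleCat.{u} A) (ComplexShape.up ℤ)).map_surjective g
  exact ⟨f, hg⟩

lemma extClass_surjective (E : DRing.Cx A) [E.IsKProjective] (X : ModuleCat.{u} A) (p q : ℤ)
    (hpq : q + p = 0)
    (e : DRing.toD E ⟶ ((DerivedCategory.singleFunctor (ModuleCat.{u} A) 0).obj X)⟦p⟧) :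
    ∃ (f : E.X q ⟶ X) (hf : E.d (q - 1) q ≫ f = 0), extClass E X p q hpq f hf = e := by
  obtain ⟨g, hg⟩ := exists_chain_map E _
    (e ≫ ((singleFunctorIsoCompQ (ModuleCat.{u} A) 0).hom.app X)⟦p⟧' ≫ (Q.commShiftIso p).inv.app _)
  obtain ⟨f, hf, rfl⟩ := cocycleHom_surjective E X p q hpq g
  refine ⟨f, hf, ?_⟩
  unfold extClass
  rw [hg]
  simp [← Functor.map_comp]

/-! ### The module of cocycles and the linear surjection onto `Ext` -/

/-- The submodule of "cocycles" `E^q → X`. -/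
def Zc (E : DRing.Cx A) (X : Type u) [AddCommGroup X] [Module A X] (q : ℤ) :
    Submodule A (E.X q →ₗ[A] X) :=
  LinearMap.ker (LinearMap.lcomp A X (E.d (q - 1) q).hom)

lemma mem_Zc {E : DRing.Cx A} {X : Type u} [AddCommGroup X] [Module A X] {q : ℤ}
    (φ : E.X q →ₗ[A] X) : φ ∈ Zc E X q ↔ φ ∘ₗ (E.d (q - 1) q).hom = 0 := by
  rw [Zc, LinearMap.mem_ker, LinearMap.lcomp_apply']

lemma d_comp_ofHom {E : DRing.Cx A} {X : Type u} [AddCommGroup X] [Module A X] {q : ℤ}
    (φ : E.X q →ₗ[A] X) (h : φ ∈ Zc E X q) :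
    E.d (q - 1) q ≫ (ModuleCat.ofHom φ : E.X q ⟶ ModuleCat.of A X) = 0 := by
  rw [mem_Zc] at h
  ext x
  exact LinearMap.congr_fun h x

lemma extClass_congr (E : DRing.Cx A) (X : ModuleCat.{u} A) (p q : ℤ) (hpq : q + p = 0)
    {f f' : E.X q ⟶ X} (h : f = f') (hf : E.d (q - 1) q ≫ f = 0) (hf' : E.d (q - 1) q ≫ f' = 0) :
    extClass E X p q hpq f hf = extClass E X p q hpq f' hf' := by
  subst h
  rfl

/-- The `A`-linear map from cocycles to `Ext^p(E, X)`. -/
noncomputable def Φ (E : DRing.Cx A) (X : Type u) [AddCommGroup X] [Module A X] (p q : ℤ)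
    (hpq : q + p = 0) : Zc E X q →ₗ[A] (DRing.toD E ⟶ (Dual.inD A X)⟦p⟧) where
  toFun φ := extClass E (ModuleCat.of A X) p q hpq (ModuleCat.ofHom φ.1) (d_comp_ofHom φ.1 φ.2)
  map_add' φ ψ := extClass_add E (ModuleCat.of A X) p q hpq _ _ (d_comp_ofHom φ.1 φ.2)
    (d_comp_ofHom ψ.1 ψ.2)
  map_smul' a φ := by
    have key : (ModuleCat.ofHom (a • φ).1 : E.X q ⟶ ModuleCat.of A X) =
        ModuleCat.ofHom φ.1 ≫ (a • 𝟙 _) := by
      ext x
      rfl
    have h := extClass_postcomp E (ModuleCat.of A X) (ModuleCat.of A X) p q hpq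
      (ModuleCat.ofHom φ.1) (d_comp_ofHom φ.1 φ.2) (a • 𝟙 _)
    have h2 : ((DerivedCategory.singleFunctor (ModuleCat.{u} A) 0).map
        (a • 𝟙 (ModuleCat.of A X)))⟦p⟧' = a • 𝟙 _ := by
      rw [Functor.map_smul, Functor.map_smul, CategoryTheory.Functor.map_id,
        CategoryTheory.Functor.map_id]
    have h3 : extClass E (ModuleCat.of A X) p q hpq (ModuleCat.ofHom φ.1) (d_comp_ofHom φ.1 φ.2) ≫
        ((DerivedCategory.singleFunctor (ModuleCat.{u} A) 0).map
        (a • 𝟙 (ModuleCat.of A X)))⟦p⟧' = a • extClass E (ModuleCat.of A X) p q hpq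
          (ModuleCat.ofHom φ.1) (d_comp_ofHom φ.1 φ.2) := by
      rw [h2, Linear.comp_smul, Category.comp_id]
    exact (extClass_congr E _ p q hpq key _ _).trans (h.trans h3)

lemma Φ_postcomp (E : DRing.Cx A) (X X' : Type u) [AddCommGroup X] [Module A X]
    [AddCommGroup X'] [Module A X'] (p q : ℤ) (hpq : q + p = 0) (g : X →ₗ[A] X')
    (φ : Zc E X q) (h : g ∘ₗ φ.1 ∈ Zc E X' q) :
    Φ E X' p q hpq ⟨g ∘ₗ φ.1, h⟩ = Φ E X p q hpq φ ≫
      ((DerivedCategory.singleFunctor (ModuleCat.{u} A) 0).map (ModuleCat.ofHom g))⟦p⟧' :=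
  extClass_postcomp E (ModuleCat.of A X) (ModuleCat.of A X') p q hpq
      (ModuleCat.ofHom φ.1) (d_comp_ofHom φ.1 φ.2) (ModuleCat.ofHom g)

lemma comp_mem_Zc {E : DRing.Cx A} {X X' : Type u} [AddCommGroup X] [Module A X]
    [AddCommGroup X'] [Module A X'] {q : ℤ} (g : X →ₗ[A] X') (φ : Zc E X q) :
    g ∘ₗ φ.1 ∈ Zc E X' q := by
  have := (mem_Zc φ.1).1 φ.2
  rw [mem_Zc, LinearMap.comp_assoc, this, LinearMap.comp_zero]

lemma Φ_surjective (E : DRing.Cx A) [E.IsKProjective] (X : Type u) [AddCommGroup X] [Module A X]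
    (p q : ℤ) (hpq : q + p = 0) : Function.Surjective (Φ E X p q hpq) := by
  intro e
  obtain ⟨f, hf, rfl⟩ := extClass_surjective E (ModuleCat.of A X) p q hpq e
  refine ⟨⟨f.hom, ?_⟩, rfl⟩
  rw [mem_Zc]
  ext x
  exact ConcreteCategory.congr_hom hf x

/-! ### Algebraic lemmas -/

/-- A map from a finite free module with values in `J M` lies in `J Hom(F, M)`. -/
lemma mem_smul_top_of_forall_mem {F M : Type u} [AddCommGroup F] [Module A F] [Module.Finite A F]
    [Module.Free A F] [AddCommGroup M] [Module A M] (J : Ideal A) (ψ : F →ₗ[A] M)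
    (h : ∀ x, ψ x ∈ (J • ⊤ : Submodule A M)) :
    ψ ∈ (J • ⊤ : Submodule A (F →ₗ[A] M)) := by
  classical
  let b := Module.Free.chooseBasis A F
  have hψ : ψ = ∑ j, (LinearMap.smulRightₗ (b.coord j)) (ψ (b j)) := by
    apply b.ext
    intro i
    simp [LinearMap.sum_apply, Finsupp.single_apply]
  rw [hψ]
  refine Submodule.sum_mem _ (fun j _ => ?_)
  have : (J • ⊤ : Submodule A M).map (LinearMap.smulRightₗ (b.coord j)) ≤ J • ⊤ := by
    rw [Submodule.map_smul'']
    exact Submodule.smul_mono le_rfl le_top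
  exact this (Submodule.mem_map_of_mem (h _))

lemma exists_pow_smul_eq_zero {H : Type*} [AddCommGroup H] [Module A H] [Module.Finite A H]
    (I : Ideal A) (h : ∀ e : H, ∃ n : ℕ, ∀ x ∈ I ^ n, x • e = 0) :
    ∃ t : ℕ, ∀ x ∈ I ^ t, ∀ e : H, x • e = 0 := by
  classical
  obtain ⟨s, hs⟩ := (Module.Finite.fg_top : (⊤ : Submodule A H).FG)
  choose n hn using h
  refine ⟨s.sup n, fun x hx e => ?_⟩
  have he : e ∈ Submodule.span A (s : Set H) := by rw [hs]; trivial
  induction he using Submodule.span_induction with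
  | mem y hy => exact hn y x (Ideal.pow_le_pow_right (Finset.le_sup hy) hx)
  | zero => simp
  | add y z _ _ hy hz => rw [smul_add, hy, hz, add_zero]
  | smul a y _ hy => rw [smul_comm, hy, smul_zero]

lemma eq_zero_of_mem_smul_top {H : Type*} [AddCommGroup H] [Module A H] (J : Ideal A)
    (h : ∀ x ∈ J, ∀ e : H, x • e = 0) {y : H} (hy : y ∈ (J • ⊤ : Submodule A H)) : y = 0 := by
  refine Submodule.smul_induction_on hy (fun r hr m _ => h r hr m) (fun x y hx hy => ?_)
  rw [hx, hy, add_zero]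

lemma mem_smul_top_subtype {M : Type*} [AddCommGroup M] [Module A M] (J : Ideal A) (N : Submodule A M)
    {x : M} (hx : x ∈ J • N) : ∃ y : N, y ∈ (J • ⊤ : Submodule A N) ∧ (y : M) = x := by
  have h4 : J • N = (J • (⊤ : Submodule A N)).map N.subtype := by
    rw [Submodule.map_smul'', Submodule.map_subtype_top]
  rw [h4] at hx
  obtain ⟨y, hy, hy'⟩ := hx
  exact ⟨y, hy, hy'⟩

lemma map_smul_top_le {M N : Type*} [AddCommGroup M] [Module A M] [AddCommGroup N] [Module A N]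
    (J : Ideal A) (f : M →ₗ[A] N) {x : M} (hx : x ∈ (J • ⊤ : Submodule A M)) :
    f x ∈ (J • ⊤ : Submodule A N) := by
  have h6 : (J • (⊤ : Submodule A M)).map f ≤ J • ⊤ := by
    rw [Submodule.map_smul'']
    exact Submodule.smul_mono le_rfl le_top
  exact h6 (Submodule.mem_map_of_mem hx)

/-! ### Artin–Rees for `Ext` out of a K-projective complex -/

theorem artinRees_toD [IsNoetherianRing A] (I : Ideal A) (E : DRing.Cx A) [E.IsKProjective]
    (M : Type u) [AddCommGroup M] [Module A M] [Module.Finite A M] (p q : ℤ) (hpq : q + p = 0)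
    [Module.Finite A (E.X q)] [Module.Free A (E.X q)] :
    ∃ c : ℕ, ∀ n : ℕ, c ≤ n → ∀ (X : Type u) [AddCommGroup X] [Module A X] (g : X →ₗ[A] M),
      (∀ x, g x ∈ (I ^ n • ⊤ : Submodule A M)) →
      ∀ e : DRing.toD E ⟶ (Dual.inD A X)⟦p⟧,
        e ≫ ((DerivedCategory.singleFunctor (ModuleCat.{u} A) 0).map (ModuleCat.ofHom g))⟦p⟧' ∈
          (I ^ (n - c) • ⊤ : Submodule A (DRing.toD E ⟶ (Dual.inD A M)⟦p⟧)) := by
  obtain ⟨k, hk⟩ := Ideal.exists_pow_inf_eq_pow_smul I (Zc E M q)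
  refine ⟨k, fun n hn X _ _ g hg e => ?_⟩
  obtain ⟨φ, rfl⟩ := Φ_surjective E X p q hpq e
  rw [← Φ_postcomp E X M p q hpq g φ (comp_mem_Zc g φ)]
  have h1 : g ∘ₗ φ.1 ∈ (I ^ n • ⊤ : Submodule A (E.X q →ₗ[A] M)) :=
    mem_smul_top_of_forall_mem _ _ (fun x => hg _)
  have h2 : g ∘ₗ φ.1 ∈ I ^ n • ⊤ ⊓ Zc E M q := ⟨h1, comp_mem_Zc g φ⟩
  rw [hk n hn] at h2
  have h3 : g ∘ₗ φ.1 ∈ I ^ (n - k) • Zc E M q := Submodule.smul_mono le_rfl inf_le_right h2
  obtain ⟨y, hy, hy'⟩ := mem_smul_top_subtype _ _ h3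
  have h5 : y = ⟨g ∘ₗ φ.1, comp_mem_Zc g φ⟩ := Subtype.ext hy'
  rw [← h5]
  exact map_smul_top_le _ (Φ E M p q hpq) hy

theorem finite_ext_toD [IsNoetherianRing A] (E : DRing.Cx A) [E.IsKProjective]
    (M : Type u) [AddCommGroup M] [Module A M] [Module.Finite A M] (p q : ℤ) (hpq : q + p = 0)
    [Module.Finite A (E.X q)] [Module.Free A (E.X q)] :
    Module.Finite A (DRing.toD E ⟶ (Dual.inD A M)⟦p⟧) := by
  have : Module.Finite A (E.X q →ₗ[A] M) := inferInstance
  have : IsNoetherian A (E.X q →ₗ[A] M) := inferInstance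
  have : Module.Finite A (Zc E M q) := inferInstance
  exact Module.Finite.of_surjective (Φ E M p q hpq) (Φ_surjective E M p q hpq)

/-! ### Pseudo-coherent objects -/

lemma isKProjective_of_vanishesAbove (E : DRing.Cx A) (b : ℤ) (hb : DRing.VanishesAbove E b)
    (hE : DRing.TermwiseFiniteFree E) : E.IsKProjective := by
  have hle : E.IsStrictlyLE b := by
    rw [CochainComplex.isStrictlyLE_iff]
    exact hb
  have : ∀ i : ℤ, Projective (E.X i) := fun i => by
    have := (hE i).2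
    have : Module.Projective A (E.X i) := Module.Projective.of_free
    exact ModuleCat.projective_of_categoryTheory_projective _
  exact CochainComplex.isKProjective_of_projective E b

theorem artinRees_ext [IsNoetherianRing A] (I : Ideal A) (K : Dual.D A)
    (hK : DRing.IsPseudoCoherent' A K)
    (M : Type u) [AddCommGroup M] [Module A M] [Module.Finite A M] (p : ℤ) :
    ∃ c : ℕ, ∀ n : ℕ, c ≤ n → ∀ (X : Type u) [AddCommGroup X] [Module A X] (g : X →ₗ[A] M),
      (∀ x, g x ∈ (I ^ n • ⊤ : Submodule A M)) →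
      ∀ e : K ⟶ (Dual.inD A X)⟦p⟧,
        e ≫ ((DerivedCategory.singleFunctor (ModuleCat.{u} A) 0).map (ModuleCat.ofHom g))⟦p⟧' ∈
          (I ^ (n - c) • ⊤ : Submodule A (K ⟶ (Dual.inD A M)⟦p⟧)) := by
  obtain ⟨E, b, hb, hE, ⟨iso⟩⟩ := hK
  have := isKProjective_of_vanishesAbove E b hb hE
  have := (hE (-p)).1
  have := (hE (-p)).2
  obtain ⟨c, hc⟩ := artinRees_toD I E M p (-p) (by omega)
  refine ⟨c, fun n hn X _ _ g hg e => ?_⟩
  have h := hc n hn X g hg (iso.hom ≫ e)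
  have h2 := map_smul_top_le _ (Linear.leftComp A ((Dual.inD A M)⟦p⟧) iso.inv) h
  simpa using h2

theorem finite_ext [IsNoetherianRing A] (K : Dual.D A) (hK : DRing.IsPseudoCoherent' A K)
    (M : Type u) [AddCommGroup M] [Module A M] [Module.Finite A M] (p : ℤ) :
    Module.Finite A (K ⟶ (Dual.inD A M)⟦p⟧) := by
  obtain ⟨E, b, hb, hE, ⟨iso⟩⟩ := hK
  have := isKProjective_of_vanishesAbove E b hb hE
  have := (hE (-p)).1
  have := (hE (-p)).2
  have := finite_ext_toD E M p (-p) (by omega)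
  refine Module.Finite.of_surjective (Linear.leftComp A ((Dual.inD A M)⟦p⟧) iso.inv) (fun f => ?_)
  exact ⟨iso.hom ≫ f, by simp⟩

end Groth.Agent.Lib.T2H4.ExtCocycle
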