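import Mathlib

/-!
# Helper library (helper4): complexes of vector spaces

* `isIso_f_of_quasiIso`: a quasi-isomorphism between complexes with zero differentials is a
  termwise isomorphism (any abelian category).
* `d_eq_zero_of_finrank`: a complex of finite dimensional vector spaces with
  `dim H^i = dim V^i` for all `i` has zero differentials.
* `Hc V`, `ιH V`: a complex of vector spaces is quasi-isomorphic to its cohomology (with zero
  differentials).
-/

set_option autoImplicit false
universe u
open CategoryTheory CategoryTheory.Limits HomologicalComplex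

namespace Groth.Agent.Lib.T2H4.FieldCx

section abelian

variable {C : Type*} [Category C] [Abelian C]

theorem isIso_f_of_quasiIso {V W : CochainComplex C ℤ} (f : V ⟶ W) [QuasiIso f]
    (hV : ∀ i j, V.d i j = 0) (hW : ∀ i j, W.d i j = 0) (i : ℤ) : IsIso (f.f i) := by
  have h1 := V.isIso_iCycles i (i + 1) (by simp) (hV _ _)
  have h2 := W.isIso_iCycles i (i + 1) (by simp) (hW _ _)
  have h3 := V.isIso_homologyπ (i - 1) i (by simp) (hV _ _)
  have h4 := W.isIso_homologyπ (i - 1) i (by simp) (hW _ _)
  have hq : IsIso (homologyMap f i) := (quasiIsoAt_iff_isIso_homologyMap f i).1 inferInstance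
  have hc : cyclesMap f i = V.homologyπ i ≫ homologyMap f i ≫ inv (W.homologyπ i) := by
    rw [← Category.assoc, homologyπ_naturality, Category.assoc, IsIso.hom_inv_id, Category.comp_id]
  have hf : f.f i = inv (V.iCycles i) ≫ cyclesMap f i ≫ W.iCycles i := by
    rw [cyclesMap_i, IsIso.inv_hom_id_assoc]
  rw [hf, hc]
  infer_instance

end abelian

section field

variable {k : Type u} [Field k]

lemma free_of_field (M : ModuleCat.{u} k) : Module.Free k M := Module.Free.of_divisionRing k M

instance projective_of_field (M : ModuleCat.{u} k) : Projective M := by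
  have : Module.Projective k M := Module.Projective.of_free
  infer_instance

theorem finite_homology_of_field (V : CochainComplex (ModuleCat.{u} k) ℤ) (i : ℤ)
    (hfin : Module.Finite k (V.X i)) : Module.Finite k (V.homology i) := by
  have hinj : Function.Injective (V.iCycles i).hom :=
    (ModuleCat.mono_iff_injective _).mp inferInstance
  have hsurj : Function.Surjective (V.homologyπ i).hom :=
    (ModuleCat.epi_iff_surjective _).mp inferInstance
  have : Module.Finite k (V.cycles i) := Module.Finite.of_injective _ hinj
  exact Module.Finite.of_surjective _ hsurj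

theorem d_eq_zero_of_finrank (V : CochainComplex (ModuleCat.{u} k) ℤ)
    (hfin : ∀ i, Module.Finite k (V.X i))
    (h : ∀ i, Module.finrank k (V.homology i) = Module.finrank k (V.X i)) (i j : ℤ) :
    V.d i j = 0 := by
  by_cases hij : i + 1 = j
  swap
  · exact V.shape i j hij
  subst hij
  have := hfin i
  have hinj : Function.Injective (V.iCycles i).hom :=
    (ModuleCat.mono_iff_injective _).mp inferInstance
  have hsurj : Function.Surjective (V.homologyπ i).hom :=
    (ModuleCat.epi_iff_surjective _).mp inferInstance
  have hcfin : Module.Finite k (V.cycles i) := Module.Finite.of_injective _ hinj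
  have h1 : Module.finrank k (V.homology i) ≤ Module.finrank k (V.cycles i) :=
    LinearMap.finrank_le_finrank_of_surjective hsurj
  have h2 : Module.finrank k (V.cycles i) ≤ Module.finrank k (V.X i) :=
    LinearMap.finrank_le_finrank_of_injective hinj
  have h3 : Module.finrank k (V.cycles i) = Module.finrank k (V.X i) :=
    le_antisymm h2 (by rw [← h i]; exact h1)
  have hsurj2 : Function.Surjective (V.iCycles i).hom :=
    (LinearMap.injective_iff_surjective_of_finrank_eq_finrank h3).1 hinj
  have : Epi (V.iCycles i) := (ModuleCat.epi_iff_surjective _).mpr hsurj2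
  rw [← cancel_epi (V.iCycles i)]
  simp

/-- the cohomology of `V` as a complex with zero differentials. -/
noncomputable def Hc (V : CochainComplex (ModuleCat.{u} k) ℤ) :
    CochainComplex (ModuleCat.{u} k) ℤ where
  X i := V.homology i
  d _ _ := 0
  shape _ _ _ := rfl
  d_comp_d' _ _ _ _ _ := zero_comp

lemma Hc_d (V : CochainComplex (ModuleCat.{u} k) ℤ) (i j : ℤ) : (Hc V).d i j = 0 := rfl

/-- a section of `Z^i → H^i`. -/
noncomputable def σ (V : CochainComplex (ModuleCat.{u} k) ℤ) (i : ℤ) :
    V.homology i ⟶ V.cycles i :=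
  Projective.factorThru (𝟙 _) (V.homologyπ i)

lemma σ_π (V : CochainComplex (ModuleCat.{u} k) ℤ) (i : ℤ) :
    σ V i ≫ V.homologyπ i = 𝟙 _ :=
  Projective.factorThru_comp _ _

/-- the identification `(Hc V)^i = H^i(V)`. -/
noncomputable def HcXIso (V : CochainComplex (ModuleCat.{u} k) ℤ) (i : ℤ) :
    (Hc V).X i ≅ V.homology i := Iso.refl _

/-- the quasi-isomorphism `H(V) ⟶ V`. -/
noncomputable def ιH (V : CochainComplex (ModuleCat.{u} k) ℤ) : Hc V ⟶ V where
  f i := (HcXIso V i).hom ≫ σ V i ≫ V.iCycles i
  comm' i j _ := by
    rw [Hc_d, zero_comp, Category.assoc, Category.assoc, iCycles_d, comp_zero, comp_zero]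

lemma ιH_f (V : CochainComplex (ModuleCat.{u} k) ℤ) (i : ℤ) :
    (ιH V).f i = (HcXIso V i).hom ≫ σ V i ≫ V.iCycles i := rfl

instance quasiIso_ιH (V : CochainComplex (ModuleCat.{u} k) ℤ) : QuasiIso (ιH V) := by
  rw [quasiIso_iff]
  intro i
  rw [quasiIsoAt_iff_isIso_homologyMap]
  have h1 := (Hc V).isIso_iCycles i (i + 1) (by simp) (Hc_d V _ _)
  have h3 := (Hc V).isIso_homologyπ (i - 1) i (by simp) (Hc_d V _ _)
  have hc : cyclesMap (ιH V) i = (Hc V).iCycles i ≫ (HcXIso V i).hom ≫ σ V i := by
    rw [← cancel_mono (V.iCycles i), cyclesMap_i, ιH_f]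
    simp only [Category.assoc]
  have hh : (Hc V).homologyπ i ≫ homologyMap (ιH V) i =
      (Hc V).iCycles i ≫ (HcXIso V i).hom := by
    rw [homologyπ_naturality, hc]
    simp only [Category.assoc]
    rw [σ_π, Category.comp_id]
  have : homologyMap (ιH V) i =
      inv ((Hc V).homologyπ i) ≫ (Hc V).iCycles i ≫ (HcXIso V i).hom := by
    rw [← hh, IsIso.inv_hom_id_assoc]
  rw [this]
  infer_instance

end field

end Groth.Agent.Lib.T2H4.FieldCx
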