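import Mathlib
import Groth.Prelude.Def_DDual2
import Groth.Agent.Lib.T2H4AcycLift
import Groth.Agent.Lib.Helper1TorD
import Groth.Agent.Lib.Helper1BKF1
import Groth.Agent.Lib.Helper1LBC
import Groth.Agent.Lib.T2H4ExtCocycle

/-!
# Helper library (helper4): lifting complexes along `R → R/I`

Given a class `Pc` of projective `R`-modules (closed under complements, with the Nakayama property
modulo `I`), a bounded above complex `Qc` with terms in `Pc` and a bounded above complex `E` over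
`R/I` whose terms lift to `Pc`, quasi-isomorphic to `Qc/I Qc`: there is a bounded above complex `P`
with terms in `Pc`, isomorphic to `Qc` in `D(R)`, with `P/IP ≅ E` as complexes.  (Lift the acyclic
cone of `E → Qc/I` using `T2H4AcycLift`, lift `Qc/I → cone` to `Qc → A`, and take the cokernel.)
-/

set_option autoImplicit false
universe u
open CategoryTheory CategoryTheory.Limits
attribute [local instance] HasDerivedCategory.standard

namespace Groth.Agent.Lib.T2H4.CxLift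

open Groth.Agent.Lib.T2H4.AcycLift TensorProduct

variable {R : Type u} [CommRing R] (I : Ideal R)

/-- extension of scalars along `R → R/I`. -/
noncomputable abbrev F : ModuleCat.{u} R ⥤ ModuleCat.{u} (R ⧸ I) :=
  ModuleCat.extendScalars.{u, u, u} (Ideal.Quotient.mk I)

/-- the element `1 ⊗ x`. -/
noncomputable def one_t {X : ModuleCat.{u} R} (x : X) : (F I).obj X :=
  ((1 : R ⧸ I) ⊗ₜ[R] x : TensorProduct R (R ⧸ I) X)

lemma F_map_one_t {X Y : ModuleCat.{u} R} (g : X ⟶ Y) (x : X) :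
    ((F I).map g).hom (one_t I x) = one_t I (g.hom x) := rfl

lemma exists_one_t {X : ModuleCat.{u} R} (t : (F I).obj X) : ∃ x : X, t = one_t I x :=
  exists_one_tmul I (t : TensorProduct R (R ⧸ I) X)

lemma one_t_eq_zero_iff {X : ModuleCat.{u} R} (x : X) :
    one_t I x = 0 ↔ x ∈ (I • ⊤ : Submodule R X) :=
  one_tmul_eq_zero_iff I x

lemma one_t_add {X : ModuleCat.{u} R} (x y : X) : one_t I (x + y) = one_t I x + one_t I y :=
  TensorProduct.tmul_add _ _ _

lemma one_t_sub {X : ModuleCat.{u} R} (x y : X) : one_t I (x - y) = one_t I x - one_t I y :=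
  TensorProduct.tmul_sub _ _ _

/-- lifting of morphisms modulo `I` from a projective source. -/
lemma exists_lift {X Y : ModuleCat.{u} R} [Module.Projective R X]
    (u : (F I).obj X ⟶ (F I).obj Y) : ∃ v : X ⟶ Y, (F I).map v = u := by
  let πX : X →ₗ[R] ((ModuleCat.restrictScalars (Ideal.Quotient.mk I)).obj ((F I).obj X)) :=
    piMap I (M := (F I).obj X) (LinearEquiv.refl _ _)
  let πY : Y →ₗ[R] ((ModuleCat.restrictScalars (Ideal.Quotient.mk I)).obj ((F I).obj Y)) :=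
    piMap I (M := (F I).obj Y) (LinearEquiv.refl _ _)
  have hπY : Function.Surjective πY := piMap_surjective I _
  let w : X →ₗ[R] ((ModuleCat.restrictScalars (Ideal.Quotient.mk I)).obj ((F I).obj Y)) :=
    ((ModuleCat.restrictScalars (Ideal.Quotient.mk I)).map u).hom ∘ₗ πX
  obtain ⟨h, hh⟩ := Module.projective_lifting_property πY w hπY
  refine ⟨ModuleCat.ofHom h, ?_⟩
  apply ModuleCat.ExtendScalars.hom_ext
  intro x
  have := LinearMap.congr_fun hh x
  exact this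

/-- the hypotheses on the class `Pc`. -/
structure PHyp (Pc : ObjectProperty (ModuleCat.{u} R)) : Prop where
  h1 : ∀ X : ModuleCat.{u} R, Pc X → Module.Projective R X
  h2 : ∀ X Y : ModuleCat.{u} R, Pc X → (Pc (ModuleCat.of R (X × Y)) ↔ Pc Y)
  h3 : ∀ (X Y : ModuleCat.{u} R) (f : X ⟶ Y), Pc X → Pc Y →
      LinearMap.range f.hom ⊔ I • (⊤ : Submodule R Y) = ⊤ → Function.Surjective f.hom

variable {I}
variable {Pc : ObjectProperty (ModuleCat.{u} R)} [Pc.IsClosedUnderIsomorphisms]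

omit [Pc.IsClosedUnderIsomorphisms] in
/-- a module in `Pc` with `N = I N` is trivial. -/
lemma subsingleton_of_smul_top_eq_top (H : PHyp I Pc) (N : ModuleCat.{u} R) (hN : Pc N)
    (h : (I • ⊤ : Submodule R N) = ⊤) : Subsingleton N := by
  have hs := H.h3 N N 0 hN hN (by
    rw [h, sup_top_eq])
  constructor
  intro x y
  obtain ⟨_, rfl⟩ := hs x
  obtain ⟨_, rfl⟩ := hs y
  rfl

/-- a morphism in `Pc` which is an isomorphism modulo `I` is an isomorphism. -/
lemma isIso_of_isIso_map (H : PHyp I Pc) {Y Z : ModuleCat.{u} R} (g : Y ⟶ Z) (hY : Pc Y)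
    (hZ : Pc Z) (hg : IsIso ((F I).map g)) : IsIso g := by
  have hbij : Function.Bijective ((F I).map g).hom :=
    (ConcreteCategory.isIso_iff_bijective ((F I).map g)).1 hg
  -- surjectivity
  have hsurj : Function.Surjective g.hom := by
    refine H.h3 Y Z g hY hZ ?_
    rw [eq_top_iff]
    intro z _
    obtain ⟨t, ht⟩ := hbij.2 (one_t I z)
    obtain ⟨y, rfl⟩ := exists_one_t I t
    rw [F_map_one_t] at ht
    have h0 : one_t I (z - g.hom y) = 0 := by rw [one_t_sub, ht, sub_self]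
    rw [one_t_eq_zero_iff] at h0
    have hz : z = g.hom y + (z - g.hom y) := by abel
    rw [hz]
    exact Submodule.add_mem_sup ⟨y, rfl⟩ h0
  -- splitting
  have projZ : Module.Projective R Z := H.h1 _ hZ
  obtain ⟨s, hs⟩ := Module.projective_lifting_property g.hom LinearMap.id hsurj
  have hs' : ∀ z, g.hom (s z) = z := fun z => LinearMap.congr_fun hs z
  let N : Submodule R Y := LinearMap.ker g.hom
  let r : Y →ₗ[R] N := LinearMap.codRestrict _ (LinearMap.id - s ∘ₗ g.hom) (by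
    intro y
    rw [LinearMap.mem_ker]
    simp [hs'])
  have hr : ∀ x : N, r x = x := by
    intro x
    have hx : g.hom (x : Y) = 0 := x.2
    apply Subtype.ext
    simp [r, hx]
  let e : Y ≃ₗ[R] (Z × N) :=
    LinearEquiv.ofLinearMap (LinearMap.prod g.hom r) (LinearMap.coprod s N.subtype)
      (by
        apply LinearMap.ext
        rintro ⟨z, n⟩
        have hn : g.hom (n : Y) = 0 := n.2
        apply Prod.ext
        · simp [hs', hn]
        · apply Subtype.ext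
          simp [r, hs', hn])
      (by
        apply LinearMap.ext
        intro y
        simp [r])
  have hPprod : Pc (ModuleCat.of R (Z × N)) := Pc.prop_of_iso e.toModuleIso hY
  have hPN : Pc (ModuleCat.of R N) := (H.h2 Z (ModuleCat.of R N) hZ).1 hPprod
  -- `N = I N`
  have hNtop : (I • ⊤ : Submodule R N) = ⊤ := by
    rw [eq_top_iff]
    intro n _
    have h0 : one_t I (n : Y) = 0 := by
      apply hbij.1
      rw [F_map_one_t]
      have hn : g.hom (n : Y) = 0 := n.2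
      rw [hn, map_zero]
      exact (one_t_eq_zero_iff I (0 : Z)).2 (Submodule.zero_mem _)
    rw [one_t_eq_zero_iff] at h0
    exact mem_smul_top_of_retraction I N r hr n h0
  have hsub : Subsingleton N := subsingleton_of_smul_top_eq_top H (ModuleCat.of R N) hPN hNtop
  have hinj : Function.Injective g.hom := by
    rw [← LinearMap.ker_eq_bot]
    exact Submodule.eq_bot_of_subsingleton
  exact (ConcreteCategory.isIso_iff_bijective g).2 ⟨hinj, hsurj⟩

/-! ### Complexes -/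

open HomologicalComplex

variable (I) in
/-- termwise base change of complexes. -/
noncomputable abbrev bc : DRing.Cx R ⥤ DRing.Cx (R ⧸ I) :=
  (F I).mapHomologicalComplex (ComplexShape.up ℤ)

omit [Pc.IsClosedUnderIsomorphisms] in
/-- lifting chain maps modulo `I` when the source is K-projective modulo `I` and the target is
acyclic modulo `I`. -/
lemma exists_lift_cx (Qc A : DRing.Cx R) [∀ i, Module.Projective R (Qc.X i)]
    [((bc I).obj Qc).IsKProjective] (hA : ((bc I).obj A).Acyclic)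
    (ψ : (bc I).obj Qc ⟶ (bc I).obj A) : ∃ β : Qc ⟶ A, (bc I).map β = ψ := by
  let Hh := CochainComplex.IsKProjective.homotopyZero ψ hA
  have hex : ∀ i j : ℤ, ∃ v : Qc.X i ⟶ A.X j, (F I).map v = Hh.hom i j :=
    fun i j => exists_lift I (Hh.hom i j)
  choose h hh using hex
  refine ⟨Homotopy.nullHomotopicMap h, ?_⟩
  rw [Homotopy.map_nullHomotopicMap]
  ext i : 1
  have h1 := Hh.comm i
  rw [HomologicalComplex.zero_f, add_zero] at h1
  rw [h1]
  simp only [Homotopy.nullHomotopicMap, hh]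

/-- a split-mono criterion modulo `I`. -/
lemma exists_retraction (H : PHyp I Pc) {Y Z : ModuleCat.{u} R} (g : Y ⟶ Z) (hY : Pc Y)
    (hZ : Pc Z) (ρ : (F I).obj Z ⟶ (F I).obj Y) (h : (F I).map g ≫ ρ = 𝟙 _) :
    ∃ r : Z ⟶ Y, g ≫ r = 𝟙 Y := by
  have projZ : Module.Projective R Z := H.h1 _ hZ
  obtain ⟨ρ', hρ'⟩ := exists_lift I ρ
  have h1 : (F I).map (g ≫ ρ') = 𝟙 _ := by rw [Functor.map_comp, hρ', h]
  have h2 : IsIso ((F I).map (g ≫ ρ')) := by rw [h1]; infer_instance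
  have h3 : IsIso (g ≫ ρ') := isIso_of_isIso_map H _ hY hY h2
  exact ⟨ρ' ≫ inv (g ≫ ρ'), by rw [← Category.assoc, IsIso.hom_inv_id]⟩


/-- the short complex `0 → Qc → A → coker β → 0`. -/
noncomputable abbrev sesβ {Qc A : DRing.Cx R} (β : Qc ⟶ A) : ShortComplex (DRing.Cx R) :=
  ShortComplex.mk β (cokernel.π β) (cokernel.condition β)

omit [Pc.IsClosedUnderIsomorphisms] in
lemma sesβ_shortExact {Qc A : DRing.Cx R} (β : Qc ⟶ A) [Mono β] : (sesβ β).ShortExact where
  exact := ShortComplex.exact_cokernel β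

omit [Pc.IsClosedUnderIsomorphisms] in
lemma mono_of_split {Qc A : DRing.Cx R} (β : Qc ⟶ A)
    (hsplit : ∀ j, ∃ r : A.X j ⟶ Qc.X j, β.f j ≫ r = 𝟙 _) : Mono β := by
  apply HomologicalComplex.mono_of_mono_f
  intro j
  obtain ⟨r, hr⟩ := hsplit j
  exact mono_of_mono_fac hr

omit [Pc.IsClosedUnderIsomorphisms] in
lemma nonempty_splitting {Qc A : DRing.Cx R} (β : Qc ⟶ A)
    (hsplit : ∀ j, ∃ r : A.X j ⟶ Qc.X j, β.f j ≫ r = 𝟙 _) (j : ℤ) :
    Nonempty ((sesβ β).map (eval _ _ j)).Splitting := by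
  have := mono_of_split β hsplit
  have hS := sesβ_shortExact β
  have hSj : ((sesβ β).map (eval _ _ j)).ShortExact := hS.map_of_exact (eval _ _ j)
  obtain ⟨r, hr⟩ := hsplit j
  exact ⟨ShortComplex.Splitting.ofExactOfRetraction _ hSj.exact r hr hSj.epi_g⟩

lemma Pc_coker (H : PHyp I Pc) {Qc A : DRing.Cx R} (β : Qc ⟶ A) (j : ℤ) (hQ : Pc (Qc.X j))
    (hA : Pc (A.X j)) (σ : ((sesβ β).map (eval _ _ j)).Splitting) : Pc ((cokernel β).X j) := by
  have e : A.X j ≅ Qc.X j ⊞ (cokernel β).X j := σ.isoBinaryBiproduct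
  have e2 := e ≪≫ ModuleCat.biprodIsoProd (Qc.X j) ((cokernel β).X j)
  exact (H.h2 _ _ hQ).1 (Pc.prop_of_iso e2 hA)

omit [Pc.IsClosedUnderIsomorphisms] in
lemma shortExact_map_bc (S : ShortComplex (DRing.Cx R))
    (hS : ∀ j, Nonempty (S.map (eval _ _ j)).Splitting) : (S.map (bc I)).ShortExact := by
  apply HomologicalComplex.shortExact_of_degreewise_shortExact
  intro j
  obtain ⟨σ⟩ := hS j
  exact (σ.map (F I)).shortExact

open CochainComplex DerivedCategory Groth.Agent.Lib.Helper1.BKF Groth.Agent.Lib.Helper1.LDer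
  Groth.Agent.Lib.Helper1.Tor

omit [Pc.IsClosedUnderIsomorphisms] in
lemma isZero_cone_X {K L : DRing.Cx (R ⧸ I)} (f : K ⟶ L) (i : ℤ) (hK : IsZero (K.X (i + 1)))
    (hL : IsZero (L.X i)) : IsZero ((mappingCone f).X i) := by
  have e : (mappingCone f).X i ≅ K.X (i + 1) ⊞ L.X i :=
    HomologicalComplex.homotopyCofiber.XIsoBiprod f i (i + 1) rfl
  refine IsZero.of_iso ?_ e
  rw [IsZero.iff_id_eq_zero]
  apply biprod.hom_ext
  · exact hK.eq_of_tgt _ _
  · exact hL.eq_of_tgt _ _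

omit [Pc.IsClosedUnderIsomorphisms] in
/-- the terms of the cone are base changes of modules in `Pc`. -/
lemma cone_term (H : PHyp I Pc) {E : DRing.Cx (R ⧸ I)} {Qc : DRing.Cx R} (δ : E ⟶ (bc I).obj Qc)
    (i : ℤ) (X : ModuleCat.{u} R) (hX : Pc X) (τ : (F I).obj X ≅ E.X (i + 1)) (hQ : Pc (Qc.X i)) :
    ∃ Y : ModuleCat.{u} R, Pc Y ∧
      Nonempty (TensorProduct R (R ⧸ I) Y ≃ₗ[R ⧸ I] (mappingCone δ).X i) := by
  refine ⟨ModuleCat.of R (X × Qc.X i), (H.h2 X (Qc.X i) hX).2 hQ, ⟨?_⟩⟩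
  have e : (mappingCone δ).X i ≅ E.X (i + 1) ⊞ ((bc I).obj Qc).X i :=
    HomologicalComplex.homotopyCofiber.XIsoBiprod δ i (i + 1) rfl
  have : PreservesBinaryBiproducts (F I) := preservesBinaryBiproducts_of_preservesBiproducts _
  have e2 : (F I).obj (ModuleCat.of R (X × Qc.X i)) ≅ (F I).obj X ⊞ (F I).obj (Qc.X i) :=
    (F I).mapIso (ModuleCat.biprodIsoProd X (Qc.X i)).symm ≪≫ (F I).mapBiprod X (Qc.X i)
  have e3 : (F I).obj (ModuleCat.of R (X × Qc.X i)) ≅ (mappingCone δ).X i :=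
    e2 ≪≫ biprod.mapIso τ (Iso.refl _) ≪≫ e.symm
  exact e3.toLinearEquiv


theorem core (H : PHyp I Pc) (Qc : DRing.Cx R) (c : ℤ) (hQc : DRing.VanishesAbove Qc c)
    (hQ : ∀ i, Pc (Qc.X i)) (E : DRing.Cx (R ⧸ I)) (b : ℤ) (hEb : DRing.VanishesAbove E b)
    (hEt : ∀ i : ℤ, ∃ X : ModuleCat.{u} R, Pc X ∧
      Nonempty (TensorProduct R (R ⧸ I) X ≃ₗ[R ⧸ I] E.X i))
    (δ : E ⟶ (bc I).obj Qc) (hδ : QuasiIso δ) :
    ∃ (P : DRing.Cx R) (b' : ℤ), DRing.VanishesAbove P b' ∧ (∀ i, Pc (P.X i)) ∧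
      Nonempty (DRing.toD P ≅ DRing.toD Qc) ∧ Nonempty ((bc I).obj P ≅ E) := by
  have hproj : ∀ i, Module.Projective R (Qc.X i) := fun i => H.h1 _ (hQ i)
  -- the cone
  have hCacyc : (mappingCone δ).Acyclic := (acyc_iff_acyclic _).1 (acyc_cone_of_quasiIso δ)
  have hCb : ∀ i : ℤ, max b c < i → IsZero ((mappingCone δ).X i) := fun i hi =>
    isZero_cone_X δ i (hEb _ (by have := le_max_left b c; omega))
      ((F I).map_isZero (hQc i (by have := le_max_right b c; omega)))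
  have hCt : ∀ i : ℤ, ∃ X : ModuleCat.{u} R, Pc X ∧
      Nonempty (TensorProduct R (R ⧸ I) X ≃ₗ[R ⧸ I] (mappingCone δ).X i) := by
    intro i
    obtain ⟨X, hX, ⟨τ⟩⟩ := hEt (i + 1)
    exact cone_term H δ i X hX τ.toModuleIso (hQ i)
  obtain ⟨A, hAb, hAacyc, hAPc, ⟨θ⟩⟩ := AcycLift.app R I Pc H.h1
    (fun X Y hX hXY => (H.h2 X Y hX).1 hXY) H.h3 (mappingCone δ) (max b c) hCb hCacyc hCt
  -- the lift
  have hKP : ((bc I).obj Qc).IsKProjective :=
    isKProjective_of_vanishesAbove _ c (vanishesAbove_bc _ Qc c hQc)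
      (fun i => projective_bc _ (Qc.X i))
  have hbcA : ((bc I).obj A).Acyclic :=
    (acyc_iff_acyclic _).1 (((acyc_iff_acyclic _).2 hCacyc).of_iso θ.symm)
  obtain ⟨β, hβ⟩ := exists_lift_cx Qc A hbcA (mappingCone.inr δ ≫ θ.inv)
  have hsplit : ∀ j, ∃ r : A.X j ⟶ Qc.X j, β.f j ≫ r = 𝟙 _ := by
    intro j
    refine exists_retraction H (β.f j) (hQ j) (hAPc j)
      (θ.hom.f j ≫ (mappingCone.snd δ).v j j (add_zero j)) ?_
    show ((bc I).map β).f j ≫ θ.hom.f j ≫ (mappingCone.snd δ).v j j (add_zero j) =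
      𝟙 (((bc I).obj Qc).X j)
    have h2 : θ.inv.f j ≫ θ.hom.f j = 𝟙 _ := by
      rw [← HomologicalComplex.comp_f, θ.inv_hom_id, HomologicalComplex.id_f]
    rw [hβ, HomologicalComplex.comp_f, Category.assoc, reassoc_of% h2, mappingCone.inr_f_snd_v]
  have hmono := mono_of_split β hsplit
  have hS := sesβ_shortExact β
  have hσ := nonempty_splitting β hsplit
  have hWPc : ∀ j, Pc ((cokernel β).X j) := fun j =>
    Pc_coker H β j (hQ j) (hAPc j) (hσ j).some
  -- the reduction of the cokernel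
  have hS₁ : ((sesβ β).map (bc I)).ShortExact := shortExact_map_bc (sesβ β) hσ
  have hS₂ := coneSES_shortExact δ
  have iso9 : (bc I).obj (cokernel β) ≅ E⟦(1 : ℤ)⟧ :=
    CokernelCofork.mapIsoOfIsColimit hS₁.gIsCokernel hS₂.gIsCokernel
      (Arrow.isoMk (Iso.refl _) θ (by
        show 𝟙 _ ≫ mappingCone.inr δ = (bc I).map β ≫ θ.hom
        rw [Category.id_comp, hβ, Category.assoc, Iso.inv_hom_id, Category.comp_id]))
  -- the iso in the derived category
  have hT := DerivedCategory.triangleOfSES_distinguished hS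
  have hz : IsZero (DerivedCategory.triangleOfSES hS).obj₂ := isZero_Q_of_exactAt A hAacyc
  have hiso : IsIso (DerivedCategory.triangleOfSES hS).mor₃ :=
    (Pretriangulated.Triangle.isZero₂_iff_isIso₃ _ hT).1 hz
  have iso10 : Q.obj (cokernel β) ≅ (Q.obj Qc)⟦(1 : ℤ)⟧ :=
    @asIso _ _ _ _ (DerivedCategory.triangleOfSES hS).mor₃ hiso
  refine ⟨(cokernel β)⟦(-1 : ℤ)⟧, max b c + 1, ?_, ?_, ⟨?_⟩, ⟨?_⟩⟩
  · intro i hi
    have hz : IsZero (A.X (i + -1)) := hAb _ (by omega)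
    have : Epi ((cokernel.π β).f (i + -1)) := (hS.map_of_exact (eval _ _ (i + -1))).epi_g
    show IsZero ((cokernel β).X (i + -1))
    exact IsZero.of_epi ((cokernel.π β).f (i + -1)) hz
  · intro i
    exact hWPc (i + -1)
  · exact (Q.commShiftIso (-1 : ℤ)).app (cokernel β) ≪≫
      (CategoryTheory.shiftFunctor _ (-1 : ℤ)).mapIso iso10 ≪≫ shiftShiftNeg (Q.obj Qc) (1 : ℤ)
  · exact ((F I).mapCochainComplexShiftIso (-1 : ℤ)).app (cokernel β) ≪≫
      (CategoryTheory.shiftFunctor _ (-1 : ℤ)).mapIso iso9 ≪≫ shiftShiftNeg E (1 : ℤ)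


theorem main (R : Type u) [CommRing R] (I : Ideal R)
    [DRing.HasLBaseChange (Ideal.Quotient.mk I)]
    (Pc : ObjectProperty (ModuleCat.{u} R)) [Pc.IsClosedUnderIsomorphisms]
    (h1 : ∀ X : ModuleCat.{u} R, Pc X → Module.Projective R X)
    (h2 : ∀ X Y : ModuleCat.{u} R, Pc X → (Pc (ModuleCat.of R (X × Y)) ↔ Pc Y))
    (h3 : ∀ (X Y : ModuleCat.{u} R) (f : X ⟶ Y), Pc X → Pc Y →
      LinearMap.range f.hom ⊔ I • (⊤ : Submodule R Y) = ⊤ → Function.Surjective f.hom)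
    (K : Dual.D R) (hK : ∃ (Q : DRing.Cx R) (c : ℤ), DRing.VanishesAbove Q c ∧
      (∀ i : ℤ, Pc (Q.X i)) ∧ Nonempty (DRing.toD Q ≅ K))
    (E : DRing.Cx (R ⧸ I)) (b : ℤ) (hEb : DRing.VanishesAbove E b)
    (hEt : ∀ i : ℤ, ∃ X : ModuleCat.{u} R, Pc X ∧
      Nonempty (TensorProduct R (R ⧸ I) X ≃ₗ[R ⧸ I] E.X i))
    (hE : Nonempty (DRing.toD E ≅ (DRing.LBaseChange (Ideal.Quotient.mk I)).obj K)) :
    ∃ (P : DRing.Cx R) (b' : ℤ), DRing.VanishesAbove P b' ∧ (∀ i : ℤ, Pc (P.X i)) ∧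
      Nonempty (DRing.toD P ≅ K) ∧
      Nonempty ((((ModuleCat.extendScalars (Ideal.Quotient.mk I)).mapHomologicalComplex
        (ComplexShape.up ℤ)).obj P) ≅ E) := by
  obtain ⟨Qc, c, hQc, hQ, ⟨eK⟩⟩ := hK
  obtain ⟨eE⟩ := hE
  have H : PHyp I Pc := ⟨h1, h2, h3⟩
  have hQK : Qc.IsKProjective :=
    isKProjective_of_vanishesAbove Qc c hQc (fun i => h1 _ (hQ i))
  have hEK : E.IsKProjective := by
    refine isKProjective_of_vanishesAbove E b hEb (fun i => ?_)
    obtain ⟨X, hX, ⟨θ⟩⟩ := hEt i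
    have := h1 X hX
    have : Module.Projective (R ⧸ I) (TensorProduct R (R ⧸ I) X) :=
      projective_bc (Ideal.Quotient.mk I) X
    exact Module.Projective.of_equiv θ
  let iso : DRing.toD E ≅ DRing.toD ((bc I).obj Qc) :=
    eE ≪≫ (DRing.LBaseChange (Ideal.Quotient.mk I)).mapIso eK.symm ≪≫
      lbcIso (Ideal.Quotient.mk I) Qc
  obtain ⟨δ, hδ⟩ := Groth.Agent.Lib.T2H4.ExtCocycle.exists_chain_map E _ iso.hom
  have hqi : QuasiIso δ := by
    rw [← DerivedCategory.isIso_Q_map_iff_quasiIso, hδ]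
    infer_instance
  obtain ⟨P, b', hPb, hPPc, ⟨e1⟩, ⟨e2⟩⟩ := core H Qc c hQc hQ E b hEb hEt δ hqi
  exact ⟨P, b', hPb, hPPc, ⟨e1 ≪≫ eK⟩, ⟨e2⟩⟩

end Groth.Agent.Lib.T2H4.CxLift
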