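import Mathlib
import Groth.Agent.Lib.T2H4ProjLift
import Groth.Agent.Lib.T2H4CxLift

/-!
# Helper library (helper4): stably free modules and lifting along `R → R/I`, `I ≤ rad R`

* `isStablyFree_prod`, `isStablyFree_of_prod`: sums and complements of stably free modules.
* `surjective_of_le_jacobson`: Nakayama for `I` in the Jacobson radical.
* `exists_free_lift`, `exists_stablyFree_lift`: finite free / finite stably free `R/I`-modules
  lift to such `R`-modules.
* `free_of_iso`: a module of the class which is free modulo `I` is free.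
-/

set_option autoImplicit false
universe u
open TensorProduct CategoryTheory

namespace Groth.Agent.Lib.T2H4.StablyFree

open Groth.Agent.Lib.T2H4.AcycLift Groth.Agent.Lib.T2H4.ProjLift Groth.Agent.Lib.T2H4.CxLift

section general

variable {R : Type u} [CommRing R]

theorem isStablyFree_prod (X Y : Type u) [AddCommGroup X] [Module R X] [AddCommGroup Y]
    [Module R Y] [Module.IsStablyFree R X] [Module.IsStablyFree R Y] :
    Module.IsStablyFree R (X × Y) := by
  obtain ⟨N, _, _, _, _, _⟩ := Module.IsStablyFree.exist_free_prod R X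
  obtain ⟨N', _, _, _, _, _⟩ := Module.IsStablyFree.exist_free_prod R Y
  have : Module.Free R ((X × Y) × (N × N')) :=
    Module.Free.of_equiv (LinearEquiv.prodProdProdComm R X N Y N')
  exact Module.IsStablyFree.of_free_prod R (X × Y) (N × N')

theorem isStablyFree_of_prod (X Y : Type u) [AddCommGroup X] [Module R X] [AddCommGroup Y]
    [Module R Y] [Module.Finite R X] [Module.IsStablyFree R X]
    [Module.IsStablyFree R (X × Y)] : Module.IsStablyFree R Y := by
  obtain ⟨N, _, _, _, _, _⟩ := Module.IsStablyFree.exist_free_prod R (X × Y)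
  obtain ⟨N', _, _, _, _, _⟩ := Module.IsStablyFree.exist_free_prod R X
  let e : (((X × Y) × N) × N') ≃ₗ[R] (Y × ((X × N') × N)) :=
    { toFun := fun p => (p.1.1.2, ((p.1.1.1, p.2), p.1.2))
      map_add' := fun _ _ => rfl
      map_smul' := fun _ _ => rfl
      invFun := fun q => (((q.2.1.1, q.1), q.2.2), q.2.1.2)
      left_inv := fun _ => rfl
      right_inv := fun _ => rfl }
  have : Module.Free R (Y × ((X × N') × N)) := Module.Free.of_equiv e
  exact Module.IsStablyFree.of_free_prod R Y ((X × N') × N)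

theorem surjective_of_le_jacobson {I : Ideal R} (hI : I ≤ Ideal.jacobson ⊥) {Y Z : Type u}
    [AddCommGroup Y] [Module R Y] [AddCommGroup Z] [Module R Z] [Module.Finite R Z]
    (g : Y →ₗ[R] Z) (h : LinearMap.range g ⊔ I • (⊤ : Submodule R Z) = ⊤) :
    Function.Surjective g := by
  rw [← LinearMap.range_eq_top, eq_top_iff]
  exact Submodule.le_of_le_smul_of_le_jacobson_bot Module.Finite.fg_top hI (le_of_eq h.symm)

end general

section lift

variable {R : Type u} [CommRing R] (I : Ideal R)

/-- finite free modules over `R/I` lift. -/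
theorem exists_free_lift (Fb : Type u) [AddCommGroup Fb] [Module (R ⧸ I) Fb]
    [Module.Finite (R ⧸ I) Fb] [Module.Free (R ⧸ I) Fb] :
    ∃ (F : Type u) (_ : AddCommGroup F) (_ : Module R F), Module.Finite R F ∧ Module.Free R F ∧
      Nonempty ((R ⧸ I) ⊗[R] F ≃ₗ[R ⧸ I] Fb) := by
  classical
  let ι := Module.Free.ChooseBasisIndex (R ⧸ I) Fb
  let b := Module.Free.chooseBasis (R ⧸ I) Fb
  refine ⟨ι → R, inferInstance, inferInstance, inferInstance, inferInstance, ⟨?_⟩⟩
  exact (TensorProduct.piScalarRight R (R ⧸ I) (R ⧸ I) ι).trans b.equivFun.symm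

theorem range_sup_smul_top_of_surjective {Y Z : Type u} [AddCommGroup Y] [Module R Y]
    [AddCommGroup Z] [Module R Z] (g : Y →ₗ[R] Z)
    (h : Function.Surjective (g.baseChange (R ⧸ I))) :
    LinearMap.range g ⊔ I • (⊤ : Submodule R Z) = ⊤ := by
  rw [eq_top_iff]
  intro z _
  obtain ⟨t, ht⟩ := h ((1 : R ⧸ I) ⊗ₜ[R] z)
  obtain ⟨y, rfl⟩ := exists_one_tmul I t
  rw [LinearMap.baseChange_tmul] at ht
  have h0 : ((1 : R ⧸ I) ⊗ₜ[R] (z - g y)) = 0 := by rw [TensorProduct.tmul_sub, ht, sub_self]
  rw [one_tmul_eq_zero_iff] at h0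
  have hz : z = g y + (z - g y) := by abel
  rw [hz]
  exact Submodule.add_mem_sup ⟨y, rfl⟩ h0

/-- finite stably free modules over `R/I` lift, for `I` in the Jacobson radical. -/
theorem exists_stablyFree_lift (hI : I ≤ Ideal.jacobson ⊥) (Eb : Type u) [AddCommGroup Eb]
    [Module (R ⧸ I) Eb] [Module.Finite (R ⧸ I) Eb] [Module.IsStablyFree (R ⧸ I) Eb] :
    ∃ (X : Type u) (_ : AddCommGroup X) (_ : Module R X), Module.Finite R X ∧
      Module.IsStablyFree R X ∧ Nonempty ((R ⧸ I) ⊗[R] X ≃ₗ[R ⧸ I] Eb) := by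
  obtain ⟨Nb, _, _, _, _, _⟩ := Module.IsStablyFree.exist_free_prod (R ⧸ I) Eb
  obtain ⟨N, _, _, hNfin, hNfree, ⟨θN⟩⟩ := exists_free_lift I Nb
  obtain ⟨F, _, _, hFfin, hFfree, ⟨θF⟩⟩ := exists_free_lift I (Eb × Nb)
  let qb : (R ⧸ I) ⊗[R] F →ₗ[R ⧸ I] (R ⧸ I) ⊗[R] N :=
    θN.symm.toLinearMap ∘ₗ LinearMap.snd (R ⧸ I) Eb Nb ∘ₗ θF.toLinearMap
  obtain ⟨p, hp⟩ := exists_lift_lin I qb
  have hp' : ∀ t, (p.baseChange (R ⧸ I)) t = θN.symm (θF t).2 := fun t => by rw [hp]; rfl
  have hpsurj : Function.Surjective p := by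
    apply surjective_of_le_jacobson hI
    apply range_sup_smul_top_of_surjective I
    intro w
    refine ⟨θF.symm (0, θN w), ?_⟩
    rw [hp', LinearEquiv.apply_symm_apply, LinearEquiv.symm_apply_apply]
  obtain ⟨s, hs⟩ := Module.projective_lifting_property p LinearMap.id hpsurj
  have hs' : ∀ n, p (s n) = n := fun n => LinearMap.congr_fun hs n
  let X : Submodule R F := LinearMap.ker p
  let r : F →ₗ[R] X := LinearMap.codRestrict _ (LinearMap.id - s ∘ₗ p) (by
    intro y
    rw [LinearMap.mem_ker]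
    simp [hs'])
  have hr : ∀ x : X, r x = x := by
    intro x
    have hx : p (x : F) = 0 := x.2
    apply Subtype.ext
    simp [r, hx]
  have hrsurj : Function.Surjective r := fun x => ⟨x, hr x⟩
  have hXfin : Module.Finite R X := Module.Finite.of_surjective r hrsurj
  let e : F ≃ₗ[R] (X × N) :=
    LinearEquiv.ofLinearMap (LinearMap.prod r p) (LinearMap.coprod X.subtype s)
      (by
        apply LinearMap.ext
        rintro ⟨x, n⟩
        have hx : p (x : F) = 0 := x.2
        apply Prod.ext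
        · apply Subtype.ext
          simp [r, hs', hx]
        · simp [hs', hx])
      (by
        apply LinearMap.ext
        intro y
        simp [r])
  have hXNfree : Module.Free R (X × N) := Module.Free.of_equiv e
  have hXsf : Module.IsStablyFree R X := Module.IsStablyFree.of_free_prod R X N
  refine ⟨X, inferInstance, inferInstance, hXfin, hXsf, ⟨?_⟩⟩
  have hιr : X.subtype ∘ₗ r = LinearMap.id - s ∘ₗ p := by
    apply LinearMap.ext
    intro y
    rfl
  have hrι : r ∘ₗ X.subtype = LinearMap.id := by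
    apply LinearMap.ext
    intro x
    exact hr x
  have hpι : p ∘ₗ X.subtype = 0 := by
    apply LinearMap.ext
    intro x
    exact x.2
  let bι := X.subtype.baseChange (R ⧸ I)
  let br := r.baseChange (R ⧸ I)
  have h1 : ∀ w, bι (br w) = w - (s.baseChange (R ⧸ I)) ((p.baseChange (R ⧸ I)) w) := by
    intro w
    have : bι ∘ₗ br = LinearMap.id - (s.baseChange (R ⧸ I)) ∘ₗ (p.baseChange (R ⧸ I)) := by
      rw [← LinearMap.baseChange_comp, hιr, LinearMap.baseChange_sub, LinearMap.baseChange_id,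
        LinearMap.baseChange_comp]
    exact LinearMap.congr_fun this w
  have h2 : ∀ t, br (bι t) = t := by
    intro t
    have : br ∘ₗ bι = LinearMap.id := by
      rw [← LinearMap.baseChange_comp, hrι, LinearMap.baseChange_id]
    exact LinearMap.congr_fun this t
  have h3 : ∀ t, (p.baseChange (R ⧸ I)) (bι t) = 0 := by
    intro t
    have : (p.baseChange (R ⧸ I)) ∘ₗ bι = 0 := by
      rw [← LinearMap.baseChange_comp, hpι, LinearMap.baseChange_zero]
    exact LinearMap.congr_fun this t
  refine LinearEquiv.ofLinearMap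
    (LinearMap.fst (R ⧸ I) Eb Nb ∘ₗ θF.toLinearMap ∘ₗ bι)
    (br ∘ₗ θF.symm.toLinearMap ∘ₗ LinearMap.inl (R ⧸ I) Eb Nb) ?_ ?_
  · apply LinearMap.ext
    intro x
    show (θF (bι (br (θF.symm (x, 0))))).1 = x
    rw [h1, hp', LinearEquiv.apply_symm_apply]
    simp
  · apply LinearMap.ext
    intro t
    show br (θF.symm ((θF (bι t)).1, 0)) = t
    have h4 : (θF (bι t)).2 = 0 := by
      have := h3 t
      rw [hp'] at this
      exact θN.symm.map_eq_zero_iff.1 this
    have h5 : ((θF (bι t)).1, (0 : Nb)) = θF (bι t) := by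
      apply Prod.ext
      · rfl
      · exact h4.symm
    rw [h5, LinearEquiv.symm_apply_apply, h2]

variable {I}

/-- a module of the class `Pc` which is free modulo `I` is free. -/
theorem free_of_iso {Pc : ObjectProperty (ModuleCat.{u} R)} [Pc.IsClosedUnderIsomorphisms]
    (H : PHyp I Pc)
    (hfree : ∀ G : ModuleCat.{u} R, Module.Finite R G → Module.Free R G → Pc G)
    (X : ModuleCat.{u} R) (hX : Pc X) [Module.Finite R X] (Eb : Type u) [AddCommGroup Eb]
    [Module (R ⧸ I) Eb] [Module.Free (R ⧸ I) Eb] (θ : (R ⧸ I) ⊗[R] X ≃ₗ[R ⧸ I] Eb) :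
    Module.Free R X := by
  have : Module.Finite (R ⧸ I) Eb := Module.Finite.equiv θ
  obtain ⟨G, _, _, hGfin, hGfree, ⟨θG⟩⟩ := exists_free_lift I Eb
  obtain ⟨g, hg⟩ := exists_lift_lin I (θ.symm.toLinearMap ∘ₗ θG.toLinearMap)
  have hfun : ∀ t, ((F I).map (ModuleCat.ofHom g)).hom t = θ.symm (θG t) := fun t =>
    LinearMap.congr_fun hg t
  have hb : Function.Bijective ((F I).map (ModuleCat.ofHom g)).hom := by
    have h0 : ⇑((F I).map (ModuleCat.ofHom g)).hom = ⇑(θG.trans θ.symm) := funext hfun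
    rw [h0]
    exact (θG.trans θ.symm).bijective
  have hiso : IsIso (ModuleCat.ofHom g) :=
    isIso_of_isIso_map H (ModuleCat.ofHom g) (hfree (ModuleCat.of R G) hGfin hGfree) hX
      ((ConcreteCategory.isIso_iff_bijective ((F I).map (ModuleCat.ofHom g))).2 hb)
  exact Module.Free.of_equiv (asIso (ModuleCat.ofHom g)).toLinearEquiv

end lift

end Groth.Agent.Lib.T2H4.StablyFree
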