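import Mathlib
import Groth.Prelude.Def_DDual2
import Groth.Prelude.Def_DRing2
import Groth.Agent.Lib.T2H4StablyFree
import Groth.Agent.Lib.T2H4FieldCx
import Groth.Agent.Lib.T2H4ExtCocycle
import Groth.Agent.Lib.Helper1LBC
import Groth.Agent.S7011

/-!
# Helper library (helper4): minimal free complexes over a local ring

`minimal_main`: for a local ring `R` with residue field `κ = R/𝔪` and a pseudo-coherent `K`:
the `H^i(K ⊗^L κ)` are finite dimensional, vanish for large `i`, there is a bounded above complex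
of finite free modules of ranks `dim H^i(K ⊗^L κ)` representing `K`, and it is unique up to
isomorphism of complexes.
-/

set_option autoImplicit false
universe u
open CategoryTheory CategoryTheory.Limits
attribute [local instance] HasDerivedCategory.standard

namespace Groth.Agent.Lib.T2H4.Minimal

open Groth.Agent.Lib.T2H4.CxLift Groth.Agent.Lib.T2H4.StablyFree Groth.Agent.Lib.T2H4.FieldCx
  Groth.Agent.Lib.Helper1.LDer DerivedCategory

section SF

variable {R : Type u} [CommRing R]

/-- the class of finite stably free modules. -/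
def PcSF (R : Type u) [CommRing R] : ObjectProperty (ModuleCat.{u} R) :=
  fun X => Module.Finite R X ∧ Module.IsStablyFree R X

instance : (PcSF R).IsClosedUnderIsomorphisms := ⟨fun {X Y} e hX => by
  obtain ⟨h1, h2⟩ := hX
  exact ⟨Module.Finite.equiv e.toLinearEquiv, Module.IsStablyFree.equiv e.toLinearEquiv⟩⟩

theorem pHyp_SF {I : Ideal R} (hI : I ≤ Ideal.jacobson ⊥) : PHyp I (PcSF R) :=
  { h1 := fun X hX => by
      have := hX.2
      infer_instance
    h2 := fun X Y hX => by
      have := hX.1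
      have := hX.2
      constructor
      · rintro ⟨hf, hs⟩
        have hf' : Module.Finite R (X × Y) := hf
        have hs' : Module.IsStablyFree R (X × Y) := hs
        exact ⟨Module.Finite.of_surjective (LinearMap.snd R X Y) LinearMap.snd_surjective,
          isStablyFree_of_prod X Y⟩
      · rintro ⟨hf, hs⟩
        exact ⟨(inferInstance : Module.Finite R (X × Y)), isStablyFree_prod X Y⟩
    h3 := fun X Y f _ hY h => by
      have := hY.1
      exact surjective_of_le_jacobson hI f.hom h }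

end SF

section BC

variable {A B : Type u} [CommRing A] [CommRing B] (φ : A →+* B) [DRing.HasLBaseChange φ]

/-- `H^i(K ⊗^L B) ≅ H^i(P ⊗ B)` for a K-projective representative `P` of `K`. -/
noncomputable def hdIso (P : DRing.Cx A) [P.IsKProjective] (K : Dual.D A)
    (e : DRing.toD P ≅ K) (i : ℤ) :
    (homologyFunctor (ModuleCat.{u} B) i).obj ((DRing.LBaseChange φ).obj K) ≅
      ((bcCx φ).obj P).homology i :=
  (homologyFunctor _ i).mapIso ((DRing.LBaseChange φ).mapIso e.symm ≪≫ lbcIso φ P) ≪≫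
    (homologyFunctorFactors (ModuleCat.{u} B) i).app ((bcCx φ).obj P)

/-- `f ⊗ B` is a quasi-isomorphism if `f` is one between K-projective complexes. -/
lemma quasiIso_bc {P P' : DRing.Cx A} [P.IsKProjective] [P'.IsKProjective] (f : P ⟶ P')
    (hf : IsIso (Q.map f)) : QuasiIso ((bcCx φ).map f) := by
  have h1 : IsIso ((DRing.LBaseChange φ).map (Q.map f)) := inferInstance
  have h2 : IsIso (Q.map ((bcCx φ).map f)) := by
    have h3 : Q.map ((bcCx φ).map f) =
        (lbcIso φ P).inv ≫ (DRing.LBaseChange φ).map (Q.map f) ≫ (lbcIso φ P').hom := by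
      rw [lbcIso_hom_naturality φ f, Iso.inv_hom_id_assoc]
    rw [h3]
    infer_instance
  exact (isIso_Q_map_iff_quasiIso (φ := (bcCx φ).map f)).1 h2

end BC

section Local

variable {R : Type u} [CommRing R] [IsLocalRing R]

lemma finrank_bc (M : ModuleCat.{u} R) [Module.Free R M] :
    Module.finrank (R ⧸ IsLocalRing.maximalIdeal R)
      ((F (IsLocalRing.maximalIdeal R)).obj M) = Module.finrank R M := by
  let _ := (Ideal.Quotient.mk (IsLocalRing.maximalIdeal R)).toAlgebra
  have : Nontrivial (R ⧸ IsLocalRing.maximalIdeal R) :=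
    Ideal.Quotient.nontrivial_iff.2 (IsLocalRing.maximalIdeal.isMaximal R).ne_top
  rw [(bcEquiv (Ideal.Quotient.mk (IsLocalRing.maximalIdeal R)) M).finrank_eq]
  exact Module.finrank_baseChange

open Groth.Agent.Lib.T2H4.ExtCocycle in
theorem minimal_main (R : Type u) [CommRing R] [IsLocalRing R]
    [DRing.HasLBaseChange (Ideal.Quotient.mk (IsLocalRing.maximalIdeal R))] (K : Dual.D R)
    (hK : DRing.IsPseudoCoherent' R K) :
    let κ := R ⧸ IsLocalRing.maximalIdeal R
    let Kκ := (DRing.LBaseChange (Ideal.Quotient.mk (IsLocalRing.maximalIdeal R))).obj K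
    let Minimal := fun P : DRing.Cx R => (∃ b : ℤ, DRing.VanishesAbove P b) ∧
      (∀ i : ℤ, Module.Free R (P.X i) ∧ Module.Finite R (P.X i) ∧
        Module.finrank R (P.X i) = Module.finrank κ (Dual.HD κ Kκ i)) ∧ Nonempty (DRing.toD P ≅ K)
    (∀ i : ℤ, Module.Finite κ (Dual.HD κ Kκ i)) ∧
      (∃ b : ℤ, ∀ i : ℤ, b < i → Subsingleton (Dual.HD κ Kκ i)) ∧
      (∃ P : DRing.Cx R, Minimal P) ∧
      ∀ P Q : DRing.Cx R, Minimal P → Minimal Q → Nonempty (P ≅ Q) := by
  intro κ Kκ Minimal
  let fκ : Field (R ⧸ IsLocalRing.maximalIdeal R) := Ideal.Quotient.field _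
  have hI : IsLocalRing.maximalIdeal R ≤ Ideal.jacobson ⊥ :=
    le_of_eq (IsLocalRing.jacobson_eq_maximalIdeal ⊥ bot_ne_top).symm
  have H := pHyp_SF hI
  have kproj : ∀ (P : DRing.Cx R) (b : ℤ), DRing.VanishesAbove P b →
      (∀ i, Module.Free R (P.X i)) → P.IsKProjective :=
    fun P b hb hf => isKProjective_of_vanishesAbove P b hb (fun i => by
      have := hf i
      infer_instance)
  have key : ∀ (P : DRing.Cx R) (b : ℤ) (_ : DRing.VanishesAbove P b)
      (_ : ∀ i, Module.Free R (P.X i)) (_ : DRing.toD P ≅ K) (i : ℤ),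
      Nonempty (Dual.HD κ Kκ i ≃ₗ[κ]
        ((bc (IsLocalRing.maximalIdeal R)).obj P).homology i) := by
    intro P b hb hf e i
    have := kproj P b hb hf
    exact ⟨(hdIso (Ideal.Quotient.mk _) P K e i).toLinearEquiv⟩
  have hK' := hK
  obtain ⟨Q₀, c, hQc, hQff, ⟨e₀⟩⟩ := hK'
  have hQfree : ∀ i, Module.Free R (Q₀.X i) := fun i => (hQff i).2
  have := kproj Q₀ c hQc hQfree
  let V : DRing.Cx κ := (bc (IsLocalRing.maximalIdeal R)).obj Q₀
  have hVfin : ∀ i, Module.Finite κ (V.X i) := fun i => by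
    have := (hQff i).1
    exact finite_bc _ (Q₀.X i)
  have hVhfin : ∀ i, Module.Finite κ (V.homology i) := fun i =>
    finite_homology_of_field (k := κ) V i (hVfin i)
  have hVz : ∀ i, c < i → IsZero (V.homology i) := fun i hi =>
    (HomologicalComplex.exactAt_iff_isZero_homology V i).1
      (ShortComplex.exact_of_isZero_X₂ _ (vanishesAbove_bc _ Q₀ c hQc i hi))
  refine ⟨fun i => ?_, ⟨c, fun i hi => ?_⟩, ?_, ?_⟩
  · obtain ⟨θ⟩ := key Q₀ c hQc hQfree e₀ i
    have := hVhfin i
    exact Module.Finite.equiv θ.symm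
  · obtain ⟨θ⟩ := key Q₀ c hQc hQfree e₀ i
    have : Subsingleton (V.homology i) := ModuleCat.subsingleton_of_isZero (hVz i hi)
    exact θ.toEquiv.subsingleton
  · let E : DRing.Cx κ := Hc (k := κ) V
    have hEb : DRing.VanishesAbove E c := fun i hi => hVz i hi
    have hEfree : ∀ i : ℤ, Module.Free κ (E.X i) := fun i => free_of_field (k := κ) (E.X i)
    have hEs : ∀ i : ℤ, Module.Finite κ (E.X i) ∧ Module.IsStablyFree κ (E.X i) := fun i => by
      have := hEfree i
      exact ⟨hVhfin i, inferInstance⟩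
    have hqi : QuasiIso (ιH (k := κ) V) := quasiIso_ιH V
    have hqi' : IsIso (Q.map (ιH (k := κ) V)) :=
      (isIso_Q_map_iff_quasiIso (φ := ιH (k := κ) V)).2 hqi
    have hE : Nonempty (DRing.toD E ≅ Kκ) :=
      ⟨asIso (Q.map (ιH (k := κ) V)) ≪≫ (lbcIso (Ideal.Quotient.mk _) Q₀).symm ≪≫
        (DRing.LBaseChange (Ideal.Quotient.mk _)).mapIso e₀⟩
    obtain ⟨P, b', hPb, hPsf, ⟨eP⟩, ⟨eE⟩, hPfree⟩ :=
      Groth.Agent.S7011.result R (IsLocalRing.maximalIdeal R) hI K hK E c hEb hEs hE
    have hfree : ∀ i, Module.Free R (P.X i) := fun i => hPfree i (hEfree i)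
    refine ⟨P, ⟨b', hPb⟩, fun i => ⟨hfree i, (hPsf i).1, ?_⟩, ⟨eP⟩⟩
    obtain ⟨θ⟩ := key Q₀ c hQc hQfree e₀ i
    rw [θ.finrank_eq]
    have := hfree i
    rw [← finrank_bc (P.X i)]
    exact (((HomologicalComplex.eval _ _ i).mapIso eE).toLinearEquiv).finrank_eq
  · rintro P Q' ⟨⟨bP, hPb⟩, hP, ⟨eP⟩⟩ ⟨⟨bQ, hQb⟩, hQ, ⟨eQ⟩⟩
    have hPfree : ∀ i, Module.Free R (P.X i) := fun i => (hP i).1
    have hQfree' : ∀ i, Module.Free R (Q'.X i) := fun i => (hQ i).1
    have := kproj P bP hPb hPfree
    have := kproj Q' bQ hQb hQfree'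
    obtain ⟨f, hf⟩ := exists_chain_map P Q' (eP.hom ≫ eQ.inv)
    have hfiso : IsIso (DerivedCategory.Q.map f) := by
      rw [hf]
      infer_instance
    have hqi : QuasiIso ((bc (IsLocalRing.maximalIdeal R)).map f) :=
      quasiIso_bc (Ideal.Quotient.mk _) f hfiso
    have hd : ∀ (P : DRing.Cx R) (b : ℤ) (_ : DRing.VanishesAbove P b)
        (_ : ∀ i : ℤ, Module.Free R (P.X i) ∧ Module.Finite R (P.X i) ∧
          Module.finrank R (P.X i) = Module.finrank κ (Dual.HD κ Kκ i)) (_ : DRing.toD P ≅ K)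
        (i j : ℤ), ((bc (IsLocalRing.maximalIdeal R)).obj P).d i j = 0 := by
      intro P b hPb hP eP
      have hPfree : ∀ i, Module.Free R (P.X i) := fun i => (hP i).1
      refine d_eq_zero_of_finrank (k := κ) ((bc (IsLocalRing.maximalIdeal R)).obj P)
        (fun i => ?_) (fun i => ?_)
      · have := (hP i).2.1
        exact finite_bc _ (P.X i)
      · obtain ⟨θ⟩ := key P b hPb hPfree eP i
        have := hPfree i
        rw [← θ.finrank_eq, ← (hP i).2.2]
        exact (finrank_bc (P.X i)).symm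
    have hiso : ∀ i, IsIso (f.f i) := fun i => by
      have h1 : IsIso (((bc (IsLocalRing.maximalIdeal R)).map f).f i) :=
        isIso_f_of_quasiIso _ (hd P bP hPb hP eP) (hd Q' bQ hQb hQ eQ) i
      have := (hP i).1
      have := (hQ i).1
      exact isIso_of_isIso_map H (f.f i) ⟨(hP i).2.1, inferInstance⟩
        ⟨(hQ i).2.1, inferInstance⟩ h1
    have : IsIso f := HomologicalComplex.Hom.isIso_of_components f
    exact ⟨asIso f⟩

end Local

end Groth.Agent.Lib.T2H4.Minimal
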