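import Mathlib
import Groth.Agent.Lib.T2H4Minimal
import Groth.Agent.Lib.T2H4LDerExist

/-!
# Helper library (helper2): minimal complexes over a local ring, d ⊗ κ = 0 form

* `IsMin P`: the differentials of `P/𝔪P` vanish.
* `isMin_iff`: `IsMin P ↔ ∀ x, d x ∈ 𝔪 • ⊤`.
* `exists_min`: a pseudo-coherent object of `D(R)` is represented by a bounded above minimal complex
  of finite free modules.
* `nonempty_iso_of_min`: two such complexes isomorphic in `D(R)` are isomorphic as complexes.
-/

set_option autoImplicit false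
universe u
open CategoryTheory CategoryTheory.Limits
attribute [local instance] HasDerivedCategory.standard

namespace Groth.Agent.Lib.T2H2.MinTensor

open Groth.Agent.Lib.T2H4.CxLift Groth.Agent.Lib.T2H4.StablyFree Groth.Agent.Lib.T2H4.FieldCx
  Groth.Agent.Lib.Helper1.LDer DerivedCategory Groth.Agent.Lib.T2H4.Minimal

variable {R : Type u} [CommRing R]

/-- `(F I).map g = 0` iff `g` has image in `I • ⊤`. -/
lemma F_map_eq_zero_iff (I : Ideal R) {X Y : ModuleCat.{u} R} (g : X ⟶ Y) :
    (F I).map g = 0 ↔ ∀ x : X, g.hom x ∈ (I • ⊤ : Submodule R Y) := by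
  constructor
  · intro h x
    rw [← one_t_eq_zero_iff, ← F_map_one_t, h]
    rfl
  · intro h
    apply ModuleCat.ExtendScalars.hom_ext
    intro x
    have h1 : one_t I (g.hom x) = 0 := (one_t_eq_zero_iff I _).2 (h x)
    exact h1

variable [IsLocalRing R]

/-- minimal complexes: the differentials vanish modulo the maximal ideal. -/
def IsMin (P : DRing.Cx R) : Prop :=
  ∀ i j : ℤ, ((bc (IsLocalRing.maximalIdeal R)).obj P).d i j = 0

lemma isMin_iff (P : DRing.Cx R) :
    IsMin P ↔ ∀ (i j : ℤ) (x : P.X i),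
      (P.d i j).hom x ∈ (IsLocalRing.maximalIdeal R • ⊤ : Submodule R (P.X j)) := by
  constructor
  · intro h i j
    exact (F_map_eq_zero_iff _ (P.d i j)).1 (h i j)
  · intro h i j
    exact (F_map_eq_zero_iff _ (P.d i j)).2 (h i j)

/-- existence of minimal resolutions. -/
theorem exists_min (K : Dual.D R) (hK : DRing.IsPseudoCoherent' R K) :
    ∃ (P : DRing.Cx R) (b : ℤ), DRing.VanishesAbove P b ∧
      (∀ i : ℤ, Module.Free R (P.X i) ∧ Module.Finite R (P.X i)) ∧ IsMin P ∧
      Nonempty (DRing.toD P ≅ K) := by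
  have : DRing.HasLBaseChange (Ideal.Quotient.mk (IsLocalRing.maximalIdeal R)) :=
    Groth.Agent.Lib.T2H4.LDerExist.hasLBaseChange _
  let fκ : Field (R ⧸ IsLocalRing.maximalIdeal R) := Ideal.Quotient.field _
  obtain ⟨-, -, ⟨P, ⟨b, hPb⟩, hP, ⟨eP⟩⟩, -⟩ := minimal_main R K hK
  have hPfree : ∀ i, Module.Free R (P.X i) := fun i => (hP i).1
  have : P.IsKProjective := isKProjective_of_vanishesAbove P b hPb (fun i => by
    have := hPfree i
    infer_instance)
  refine ⟨P, b, hPb, fun i => ⟨(hP i).1, (hP i).2.1⟩, ?_, ⟨eP⟩⟩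
  refine d_eq_zero_of_finrank (k := R ⧸ IsLocalRing.maximalIdeal R)
    ((bc (IsLocalRing.maximalIdeal R)).obj P) (fun i => ?_) (fun i => ?_)
  · have := (hP i).2.1
    exact finite_bc _ (P.X i)
  · have θ := (hdIso (Ideal.Quotient.mk (IsLocalRing.maximalIdeal R)) P K eP i).toLinearEquiv
    have := hPfree i
    rw [← θ.finrank_eq, ← (hP i).2.2]
    exact (finrank_bc (P.X i)).symm

/-- uniqueness of minimal resolutions. -/
theorem nonempty_iso_of_min (P Q' : DRing.Cx R) (bP bQ : ℤ) (hPb : DRing.VanishesAbove P bP)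
    (hQb : DRing.VanishesAbove Q' bQ)
    (hP : ∀ i : ℤ, Module.Free R (P.X i) ∧ Module.Finite R (P.X i))
    (hQ : ∀ i : ℤ, Module.Free R (Q'.X i) ∧ Module.Finite R (Q'.X i))
    (hPm : IsMin P) (hQm : IsMin Q') (e : DRing.toD P ≅ DRing.toD Q') : Nonempty (P ≅ Q') := by
  have : DRing.HasLBaseChange (Ideal.Quotient.mk (IsLocalRing.maximalIdeal R)) :=
    Groth.Agent.Lib.T2H4.LDerExist.hasLBaseChange _
  have hI : IsLocalRing.maximalIdeal R ≤ Ideal.jacobson ⊥ :=
    le_of_eq (IsLocalRing.jacobson_eq_maximalIdeal ⊥ bot_ne_top).symm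
  have H := pHyp_SF hI
  have : P.IsKProjective := isKProjective_of_vanishesAbove P bP hPb (fun i => by
    have := (hP i).1
    infer_instance)
  have : Q'.IsKProjective := isKProjective_of_vanishesAbove Q' bQ hQb (fun i => by
    have := (hQ i).1
    infer_instance)
  obtain ⟨f, hf⟩ := Groth.Agent.Lib.T2H4.ExtCocycle.exists_chain_map P Q' e.hom
  have hfiso : IsIso (DerivedCategory.Q.map f) := by
    rw [hf]
    infer_instance
  have hqi : QuasiIso ((bc (IsLocalRing.maximalIdeal R)).map f) :=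
    quasiIso_bc (Ideal.Quotient.mk _) f hfiso
  have hiso : ∀ i, IsIso (f.f i) := fun i => by
    have h1 : IsIso (((bc (IsLocalRing.maximalIdeal R)).map f).f i) :=
      isIso_f_of_quasiIso _ hPm hQm i
    have := (hP i).1
    have := (hQ i).1
    exact isIso_of_isIso_map H (f.f i) ⟨(hP i).2, inferInstance⟩ ⟨(hQ i).2, inferInstance⟩ h1
  have : IsIso f := HomologicalComplex.Hom.isIso_of_components f
  exact ⟨asIso f⟩

end Groth.Agent.Lib.T2H2.MinTensor
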