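import Mathlib
import Groth.Agent.Lib.T2H2MinTensorA
import Groth.Agent.Lib.Helper1TensPerf
set_option backward.isDefEq.respectTransparency.types false

/-!
# Helper library (helper2): tensor products of minimal complexes over a local ring

* `isMin_tensor`: the tensor product of two minimal complexes is minimal.
* `ι_injective`: the summand inclusions `P^p ⊗ P'^q → (P ⊗ P')^{p+q}` are injective.
* `single_of_tensor`: if `P ⊗ P'` is `R` in degree `0` (termwise), `P`, `P'` termwise finite free,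
  then `P` and `P'` are free of rank one in single opposite degrees.
-/

set_option autoImplicit false
universe u
open CategoryTheory CategoryTheory.Limits MonoidalCategory HomologicalComplex
attribute [local instance] HasDerivedCategory.standard

namespace Groth.Agent.Lib.T2H2.MinTensor

open Groth.Agent.Lib.Helper1.TensPerf

variable {R : Type u} [CommRing R]

lemma map_mem_smul_top {M N : Type*} [AddCommGroup M] [Module R M] [AddCommGroup N] [Module R N]
    (I : Ideal R) (f : M →ₗ[R] N) {x : M} (hx : x ∈ (I • ⊤ : Submodule R M)) :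
    f x ∈ (I • ⊤ : Submodule R N) := by
  have h : (I • ⊤ : Submodule R M).map f ≤ I • ⊤ := by
    rw [Submodule.map_smul'']
    exact Submodule.smul_mono le_rfl le_top
  exact h ⟨x, hx, rfl⟩

/-- the quotient map `Y → Y / I Y` -/
noncomputable abbrev qI (I : Ideal R) (Y : ModuleCat.{u} R) :
    Y ⟶ ModuleCat.of R (Y ⧸ (I • ⊤ : Submodule R Y)) :=
  ModuleCat.ofHom (I • ⊤ : Submodule R Y).mkQ

lemma comp_qI_eq_zero_iff (I : Ideal R) {X Y : ModuleCat.{u} R} (g : X ⟶ Y) :
    g ≫ qI I Y = 0 ↔ ∀ x : X, g.hom x ∈ (I • ⊤ : Submodule R Y) := by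
  constructor
  · intro h x
    have := congrArg (fun t => t.hom x) h
    simpa [qI] using this
  · intro h
    apply ModuleCat.hom_ext
    apply LinearMap.ext
    intro x
    change (I • ⊤ : Submodule R Y).mkQ (g.hom x) = 0
    rw [Submodule.mkQ_apply, Submodule.Quotient.mk_eq_zero]
    exact h x

lemma whiskerRight_comp_qI (I : Ideal R) {M M' N Y : ModuleCat.{u} R} (f : M ⟶ M')
    (hf : ∀ x : M, f.hom x ∈ (I • ⊤ : Submodule R M')) (g : M' ⊗ N ⟶ Y) :
    (f ▷ N) ≫ g ≫ qI I Y = 0 := by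
  apply ModuleCat.MonoidalCategory.tensor_ext
  intro x y
  have h1 : ((f ▷ N) ≫ g ≫ qI I Y).hom (x ⊗ₜ[R] y) =
      (I • ⊤ : Submodule R Y).mkQ (g.hom (f.hom x ⊗ₜ[R] y)) := rfl
  rw [h1, Submodule.mkQ_apply]
  change _ = (0 : Y ⧸ (I • ⊤ : Submodule R Y))
  rw [Submodule.Quotient.mk_eq_zero]
  have h2 : f.hom x ⊗ₜ[R] y ∈ (I • ⊤ : Submodule R (TensorProduct R M' N)) :=
    map_mem_smul_top I ((TensorProduct.mk R M' N).flip y) (hf x)
  exact map_mem_smul_top I g.hom h2

lemma whiskerLeft_comp_qI (I : Ideal R) {M N N' Y : ModuleCat.{u} R} (f : N ⟶ N')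
    (hf : ∀ x : N, f.hom x ∈ (I • ⊤ : Submodule R N')) (g : M ⊗ N' ⟶ Y) :
    (M ◁ f) ≫ g ≫ qI I Y = 0 := by
  apply ModuleCat.MonoidalCategory.tensor_ext
  intro x y
  have h1 : ((M ◁ f) ≫ g ≫ qI I Y).hom (x ⊗ₜ[R] y) =
      (I • ⊤ : Submodule R Y).mkQ (g.hom (x ⊗ₜ[R] f.hom y)) := rfl
  rw [h1, Submodule.mkQ_apply]
  change _ = (0 : Y ⧸ (I • ⊤ : Submodule R Y))
  rw [Submodule.Quotient.mk_eq_zero]
  have h2 : x ⊗ₜ[R] f.hom y ∈ (I • ⊤ : Submodule R (TensorProduct R M N')) :=
    map_mem_smul_top I (TensorProduct.mk R M N' x) (hf y)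
  exact map_mem_smul_top I g.hom h2

section Local

variable [IsLocalRing R] (P P' : DRing.Cx R)

theorem isMin_tensor (hP : IsMin P) (hP' : IsMin P') : IsMin (P ⊗ P') := by
  rw [isMin_iff] at hP hP' ⊢
  intro i j
  rw [← comp_qI_eq_zero_iff]
  apply tensor_hom_ext
  intro p q hpq
  rw [Limits.comp_zero]
  have hd : (P ⊗ P').d i j = mapBifunctor.D₁ P P' (curriedTensor (ModuleCat.{u} R)) _ i j +
      mapBifunctor.D₂ P P' (curriedTensor (ModuleCat.{u} R)) _ i j := rfl
  rw [hd, Preadditive.add_comp, Preadditive.comp_add]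
  have e1 : ιTensorObj P P' p q i hpq ≫ mapBifunctor.D₁ P P' (curriedTensor (ModuleCat.{u} R)) _ i j ≫
      qI (IsLocalRing.maximalIdeal R) ((P ⊗ P').X j) = 0 := by
    rw [mapBifunctor.ι_D₁_assoc,
      mapBifunctor.d₁_eq' P P' (curriedTensor (ModuleCat.{u} R)) (ComplexShape.up ℤ)
        (show (ComplexShape.up ℤ).Rel p (p + 1) from rfl) q j, Linear.units_smul_comp]
    have := whiskerRight_comp_qI (IsLocalRing.maximalIdeal R) (N := P'.X q) (P.d p (p + 1))
      (hP p (p + 1))
      (ιMapBifunctorOrZero P P' (curriedTensor (ModuleCat.{u} R)) (ComplexShape.up ℤ) (p + 1) q j)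
    rw [Category.assoc]
    erw [this]
    rw [smul_zero]
  have e2 : ιTensorObj P P' p q i hpq ≫ mapBifunctor.D₂ P P' (curriedTensor (ModuleCat.{u} R)) _ i j ≫
      qI (IsLocalRing.maximalIdeal R) ((P ⊗ P').X j) = 0 := by
    rw [mapBifunctor.ι_D₂_assoc,
      mapBifunctor.d₂_eq' P P' (curriedTensor (ModuleCat.{u} R)) (ComplexShape.up ℤ) p
        (show (ComplexShape.up ℤ).Rel q (q + 1) from rfl) j, Linear.units_smul_comp]
    have := whiskerLeft_comp_qI (IsLocalRing.maximalIdeal R) (M := P.X p) (P'.d q (q + 1))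
      (hP' q (q + 1))
      (ιMapBifunctorOrZero P P' (curriedTensor (ModuleCat.{u} R)) (ComplexShape.up ℤ) p (q + 1) j)
    rw [Category.assoc]
    erw [this]
    rw [smul_zero]
  rw [e1, e2, add_zero]

end Local

variable (P P' : DRing.Cx R)

lemma ι_injective (p q n : ℤ) (h : p + q = n) :
    Function.Injective (ιTensorObj P P' p q n h).hom := by
  classical
  let r : (P ⊗ P').X n ⟶ P.X p ⊗ P'.X q :=
    HomologicalComplex.mapBifunctorDesc (fun p' q' _ =>
      if h' : p' = p ∧ q' = q then eqToHom (by obtain ⟨rfl, rfl⟩ := h'; rfl) else 0)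
  have hr : ιTensorObj P P' p q n h ≫ r = 𝟙 _ := by
    erw [HomologicalComplex.ι_mapBifunctorDesc]
    simp
  intro x y hxy
  have h1 := congrArg r.hom hxy
  have h2 : ∀ z, r.hom ((ιTensorObj P P' p q n h).hom z) = z := fun z => by
    have := congrArg (fun t => t.hom z) hr
    simpa using this
  rwa [h2, h2] at h1

lemma vanishesAbove_tensor (b b' : ℤ) (hP : DRing.VanishesAbove P b)
    (hP' : DRing.VanishesAbove P' b') : DRing.VanishesAbove (P ⊗ P') (b + b') := by
  intro n hn
  apply isZero_tensor_X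
  intro p q hpq
  by_cases hp : b < p
  · exact Or.inl (hP p hp)
  · exact Or.inr (hP' q (by lia))

lemma finite_tensor_X' (b b' : ℤ) (hPb : DRing.VanishesAbove P b)
    (hPb' : DRing.VanishesAbove P' b')
    (hP : ∀ i, Module.Finite R (P.X i)) (hP' : ∀ i, Module.Finite R (P'.X i)) (n : ℤ) :
    Module.Finite R ((P ⊗ P').X n) := by
  refine finite_tensor_X P P' hP hP' n (Finset.Icc (n - b') b) ?_
  intro p q hpq hp
  rw [Finset.mem_Icc] at hp
  by_cases hp' : b < p
  · exact Or.inl (hPb p hp')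
  · exact Or.inr (hPb' q (by lia))

end Groth.Agent.Lib.T2H2.MinTensor
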