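import Mathlib
import Groth.Agent.Lib.T2H2MinTensorB
import Groth.Agent.Lib.Helper1PCTower
import Groth.Agent.S6942
set_option backward.isDefEq.respectTransparency.types false

/-!
# Helper library (helper2): `L ⊗^L E ≅ A` over a Noetherian local ring
-/

set_option autoImplicit false
universe u
open CategoryTheory CategoryTheory.Limits MonoidalCategory HomologicalComplex
attribute [local instance] HasDerivedCategory.standard

namespace Groth.Agent.Lib.T2H2.MinTensor

open Groth.Agent.Lib.Helper1.TensPerf DerivedCategory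

variable {R : Type u} [CommRing R] [Nontrivial R] (P P' : DRing.Cx R)

theorem single_of_tensor
    (hP : ∀ i : ℤ, Module.Free R (P.X i) ∧ Module.Finite R (P.X i))
    (hP' : ∀ i : ℤ, Module.Free R (P'.X i) ∧ Module.Finite R (P'.X i))
    (hFfin : ∀ n : ℤ, Module.Finite R ((P ⊗ P').X n))
    (hF0 : Module.finrank R ((P ⊗ P').X 0) = 1)
    (hFn : ∀ n : ℤ, n ≠ 0 → IsZero ((P ⊗ P').X n)) :
    ∃ a : ℤ, (∀ i : ℤ, i ≠ a → IsZero (P.X i)) ∧ Module.finrank R (P.X a) = 1 ∧
      (∀ i : ℤ, i ≠ -a → IsZero (P'.X i)) ∧ Module.finrank R (P'.X (-a)) = 1 := by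
  have hFnz : ¬ IsZero ((P ⊗ P').X 0) := by
    intro hz
    have := ModuleCat.subsingleton_of_isZero hz
    have h0 : Module.finrank R ((P ⊗ P').X 0) = 0 := Module.finrank_zero_of_subsingleton
    exact one_ne_zero (hF0.symm.trans h0)
  have key : ∀ p q : ℤ, ¬ IsZero (P.X p) → ¬ IsZero (P'.X q) →
      p + q = 0 ∧ Module.finrank R (P.X p) * Module.finrank R (P'.X q) ≤ 1 := by
    intro p q hp hq
    have := (hP p).1
    have := (hP p).2
    have := (hP' q).1
    have := (hP' q).2
    have hp1 : 0 < Module.finrank R (P.X p) := by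
      rw [Module.finrank_pos_iff_of_free]
      by_contra hn
      rw [not_nontrivial_iff_subsingleton] at hn
      exact hp (ModuleCat.isZero_of_subsingleton _)
    have hq1 : 0 < Module.finrank R (P'.X q) := by
      rw [Module.finrank_pos_iff_of_free]
      by_contra hn
      rw [not_nontrivial_iff_subsingleton] at hn
      exact hq (ModuleCat.isZero_of_subsingleton _)
    have hinj := ι_injective P P' p q (p + q) rfl
    have hfr : Module.finrank R (TensorProduct R (P.X p) (P'.X q)) =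
        Module.finrank R (P.X p) * Module.finrank R (P'.X q) := Module.finrank_tensorProduct
    have := hFfin (p + q)
    have hle : Module.finrank R (TensorProduct R (P.X p) (P'.X q)) ≤
        Module.finrank R ((P ⊗ P').X (p + q)) :=
      LinearMap.finrank_le_finrank_of_injective (f := (ιTensorObj P P' p q (p + q) rfl).hom) hinj
    by_cases hpq : p + q = 0
    · refine ⟨hpq, ?_⟩
      rw [← hfr]
      rw [hpq] at hle
      rw [hF0] at hle
      exact hle
    · exfalso
      have := ModuleCat.subsingleton_of_isZero (hFn (p + q) hpq)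
      have h0 : Module.finrank R ((P ⊗ P').X (p + q)) = 0 := Module.finrank_zero_of_subsingleton
      rw [h0, hfr] at hle
      have : 0 < Module.finrank R (P.X p) * Module.finrank R (P'.X q) := Nat.mul_pos hp1 hq1
      lia
  obtain ⟨p₀, hp₀⟩ : ∃ p : ℤ, ¬ IsZero (P.X p) := by
    by_contra hn
    push Not at hn
    exact hFnz (isZero_tensor_X P P' 0 (fun p q _ => Or.inl (hn p)))
  obtain ⟨q₀, hq₀⟩ : ∃ q : ℤ, ¬ IsZero (P'.X q) := by
    by_contra hn
    push Not at hn
    exact hFnz (isZero_tensor_X P P' 0 (fun p q _ => Or.inr (hn q)))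
  obtain ⟨h0, hle⟩ := key p₀ q₀ hp₀ hq₀
  obtain rfl : q₀ = -p₀ := by lia
  have hp1 : 0 < Module.finrank R (P.X p₀) := by
    rcases Nat.eq_zero_or_pos (Module.finrank R (P.X p₀)) with h | h
    · exfalso
      have := (hP p₀).1
      have := (hP p₀).2
      rw [Module.finrank_eq_zero_iff_of_free] at h
      exact hp₀ (ModuleCat.isZero_of_subsingleton _)
    · exact h
  have hq1 : 0 < Module.finrank R (P'.X (-p₀)) := by
    rcases Nat.eq_zero_or_pos (Module.finrank R (P'.X (-p₀))) with h | h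
    · exfalso
      have := (hP' (-p₀)).1
      have := (hP' (-p₀)).2
      rw [Module.finrank_eq_zero_iff_of_free] at h
      exact hq₀ (ModuleCat.isZero_of_subsingleton _)
    · exact h
  refine ⟨p₀, ?_, ?_, ?_, ?_⟩
  · intro i hi
    by_contra hn
    have := (key i (-p₀) hn hq₀).1
    lia
  · nlinarith
  · intro i hi
    by_contra hn
    have := (key p₀ i hp₀ hn).1
    lia
  · nlinarith

/-- a complex with a single nonzero term, free of rank one, in degree `a`, is `R[-a]`. -/
theorem nonempty_iso_shift_of_single (a : ℤ) (hz : ∀ i : ℤ, i ≠ a → IsZero (P.X i))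
    (hfree : Module.Free R (P.X a)) (hfin : Module.Finite R (P.X a))
    (hrk : Module.finrank R (P.X a) = 1) :
    Nonempty (DRing.toD P ≅ (Dual.inD R R)⟦(-a)⟧) := by
  have : P.IsStrictlyGE a := by
    rw [CochainComplex.isStrictlyGE_iff]
    intro i hi
    exact hz i (by lia)
  have : P.IsStrictlyLE a := by
    rw [CochainComplex.isStrictlyLE_iff]
    intro i hi
    exact hz i (by lia)
  obtain ⟨M, ⟨e⟩⟩ := CochainComplex.exists_iso_single P a
  have eM : P.X a ≅ M :=
    (HomologicalComplex.eval _ _ a).mapIso e ≪≫ HomologicalComplex.singleObjXSelf (ComplexShape.up ℤ) a M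
  obtain ⟨θ⟩ : Nonempty (R ≃ₗ[R] P.X a) := Module.nonempty_linearEquiv_of_finrank_eq_one hrk
  have eR : ModuleCat.of R R ≅ M := θ.toModuleIso ≪≫ eM
  exact ⟨Q.mapIso e ≪≫ ((singleFunctorIsoCompQ (ModuleCat.{u} R) a).app M).symm ≪≫
    (singleFunctor (ModuleCat.{u} R) a).mapIso eR.symm ≪≫
    (((singleFunctors (ModuleCat.{u} R)).shiftIso (-a) a 0 (by lia)).app (ModuleCat.of R R)).symm⟩

end Groth.Agent.Lib.T2H2.MinTensor

namespace Groth.Agent.Lib.T2H2.MinTensor

open Groth.Agent.Lib.Helper1.TensPerf DerivedCategory Groth.Agent.Lib.T2H4.CxLift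

section Unit

variable (A : Type u) [CommRing A]

/-- the unit complex `A[0]`. -/
noncomputable abbrev U : DRing.Cx A :=
  (HomologicalComplex.single (ModuleCat.{u} A) (ComplexShape.up ℤ) 0).obj (ModuleCat.of A A)

lemma U_isZero (i : ℤ) (hi : i ≠ 0) : IsZero ((U A).X i) :=
  HomologicalComplex.isZero_single_obj_X _ _ _ _ hi

lemma U_free_finite (i : ℤ) : Module.Free A ((U A).X i) ∧ Module.Finite A ((U A).X i) := by
  by_cases hi : i = 0
  · subst hi
    have e : (U A).X 0 ≅ ModuleCat.of A A :=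
      HomologicalComplex.singleObjXSelf (ComplexShape.up ℤ) 0 (ModuleCat.of A A)
    exact ⟨Module.Free.of_equiv e.toLinearEquiv.symm, Module.Finite.equiv e.toLinearEquiv.symm⟩
  · have := ModuleCat.subsingleton_of_isZero (U_isZero A i hi)
    exact ⟨inferInstance, inferInstance⟩

lemma U_finrank [Nontrivial A] : Module.finrank A ((U A).X 0) = 1 := by
  have e : (U A).X 0 ≅ ModuleCat.of A A :=
    HomologicalComplex.singleObjXSelf (ComplexShape.up ℤ) 0 (ModuleCat.of A A)
  rw [e.toLinearEquiv.finrank_eq]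
  exact Module.finrank_self A

lemma U_isMin [IsLocalRing A] : IsMin (U A) := by
  intro i j
  change (F (IsLocalRing.maximalIdeal A)).map ((U A).d i j) = 0
  rw [HomologicalComplex.single_obj_d, Functor.map_zero]

noncomputable def U_iso : DRing.toD (U A) ≅ Dual.inD A A :=
  ((singleFunctorIsoCompQ (ModuleCat.{u} A) 0).app (ModuleCat.of A A)).symm

end Unit

theorem main (A : Type u) [CommRing A] [IsLocalRing A] [IsNoetherianRing A] (L : Dual.D A)
    (E : DRing.Cx A) [DRing.HasLTensorCx A E]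
    (hLfin : ∀ i : ℤ, Module.Finite A (Dual.HD A L i))
    (hLbdd : ∃ b : ℤ, ∀ i : ℤ, b < i → Subsingleton (Dual.HD A L i))
    (hEfin : ∀ i : ℤ, Module.Finite A (Dual.HD A (DRing.toD E) i))
    (hEbdd : ∃ b : ℤ, ∀ i : ℤ, b < i → Subsingleton (Dual.HD A (DRing.toD E) i))
    (h : Nonempty ((DRing.LTensorCx A E).obj L ≅ Dual.inD A A)) :
    ∃ n : ℤ, Nonempty (L ≅ (Dual.inD A A)⟦n⟧) ∧
      Nonempty (DRing.toD E ≅ (Dual.inD A A)⟦(-n)⟧) := by
  obtain ⟨h⟩ := h
  have hLpc : DRing.IsPseudoCoherent' A L :=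
    Groth.Agent.Lib.Helper1.PCTower.isPseudoCoherent'_of_forall L
      (fun m => ((Groth.Agent.S6942.result A m L A).1).2 ⟨hLbdd, fun i _ => hLfin i⟩)
  have hEpc : DRing.IsPseudoCoherent' A (DRing.toD E) :=
    Groth.Agent.Lib.Helper1.PCTower.isPseudoCoherent'_of_forall _
      (fun m => ((Groth.Agent.S6942.result A m (DRing.toD E) A).1).2 ⟨hEbdd, fun i _ => hEfin i⟩)
  obtain ⟨P, b, hPb, hP, hPm, ⟨eP⟩⟩ := exists_min L hLpc
  obtain ⟨P', b', hPb', hP', hPm', ⟨eP'⟩⟩ := exists_min (DRing.toD E) hEpc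
  have hproj : ∀ i, Module.Projective A (P.X i) := fun i => by
    have := (hP i).1
    infer_instance
  have hproj' : ∀ i, Module.Projective A (P'.X i) := fun i => by
    have := (hP' i).1
    infer_instance
  have : P.IsKProjective :=
    Groth.Agent.Lib.Helper1.LDer.isKProjective_of_vanishesAbove P b hPb hproj
  have : P'.IsKProjective :=
    Groth.Agent.Lib.Helper1.LDer.isKProjective_of_vanishesAbove P' b' hPb' hproj'
  obtain ⟨e⟩ := nonempty_iso_LTensorCx E L P eP P' eP'
  have hFb := vanishesAbove_tensor P P' b b' hPb hPb'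
  have hFfin : ∀ n, Module.Finite A ((P ⊗ P').X n) :=
    finite_tensor_X' P P' b b' hPb hPb' (fun i => (hP i).2) (fun i => (hP' i).2)
  have hFfree : ∀ n, Module.Free A ((P ⊗ P').X n) := fun n => by
    have := hFfin n
    have := projective_tensor_X P P' hproj hproj' n
    exact Module.free_of_flat_of_isLocalRing
  have hFm := isMin_tensor P P' hPm hPm'
  obtain ⟨φ⟩ := nonempty_iso_of_min (P ⊗ P') (U A) (b + b') 0 hFb
    (fun i hi => U_isZero A i (by lia)) (fun i => ⟨hFfree i, hFfin i⟩) (U_free_finite A)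
    hFm (U_isMin A) (e.symm ≪≫ h ≪≫ (U_iso A).symm)
  have hF0 : Module.finrank A ((P ⊗ P').X 0) = 1 := by
    have h5 := ((HomologicalComplex.eval _ _ 0).mapIso φ).toLinearEquiv.finrank_eq
    exact h5.trans (U_finrank A)
  have hFn : ∀ n : ℤ, n ≠ 0 → IsZero ((P ⊗ P').X n) := fun n hn =>
    (U_isZero A n hn).of_iso ((HomologicalComplex.eval _ _ n).mapIso φ)
  obtain ⟨a, h1, h2, h3, h4⟩ := single_of_tensor P P' hP hP' hFfin hF0 hFn
  obtain ⟨θ⟩ := nonempty_iso_shift_of_single P a h1 (hP a).1 (hP a).2 h2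
  obtain ⟨θ'⟩ := nonempty_iso_shift_of_single P' (-a) h3 (hP' (-a)).1 (hP' (-a)).2 h4
  exact ⟨-a, ⟨eP.symm ≪≫ θ⟩, ⟨eP'.symm ≪≫ θ'⟩⟩

end Groth.Agent.Lib.T2H2.MinTensor
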