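import Groth.Agent.Lib.Helper17Hyp15
import Groth.Agent.Lib.Helper23AffOpen2
import Groth.Agent.Lib.Helper17DBrown1
import Groth.Prelude.Def_DCoh2

set_option autoImplicit false
set_option linter.style.haveILetI false
universe w u
open CategoryTheory CategoryTheory.Limits Opposite AlgebraicGeometry

namespace Groth.Agent.Lib.T2H2.ModLim

open Groth.Agent.Lib.Helper17.Hyp DerivedCategory Groth.Agent.S14388
  Groth.Agent.Lib.Helper21 Groth.Agent.Lib.Helper21.FreeAb Groth.Agent.Lib.Helper21.TorsFree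

section Site

variable {C : Type u} [SmallCategory C] {J : GrothendieckTopology C} (R : Sheaf J RingCat.{u})

theorem hasExt_sheafOfModules : HasExt.{u} (SheafOfModules.{u} R) := by
  haveI := Groth.Agent.S0484.result J R
  letI := Groth.Agent.Lib.Helper17.DBrown.hasDerivedCategorySmall (SheafOfModules.{u} R)
  exact hasExt_of_hasDerivedCategory _

/-- `Hom_{D(R)}(R_W[0], F[k]) = 0` when `H^k(W, F) = 0`. -/
theorem subsingleton_hom_of_HU' [HasDerivedCategory.{w} (SheafOfModules.{u} R)] (W : C)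
    (F : SheafOfModules.{u} R) (k : ℕ)
    (h : Subsingleton (CohSite.HU ((SheafOfModules.toSheaf R).obj F) k W)) :
    Subsingleton (dsgl ((frModR R).obj W) ⟶
      ((singleFunctor (SheafOfModules.{u} R) 0).obj F)⟦(k : ℤ)⟧) := by
  haveI := hasExt_sheafOfModules R
  obtain ⟨e⟩ := nonempty_ext_freeShR_iso R (CohCx.freeSheaf J W) (TF_freeSheaf W) F k
  have h1 : Subsingleton (Abelian.Ext.{u} ((freeShR R).obj (CohCx.freeSheaf J W)) F k) :=
    @Equiv.subsingleton _ _ e.addCommGroupIsoToAddEquiv.toEquiv h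
  exact @Equiv.subsingleton _ _ (Abelian.Ext.homEquiv
    (X := (freeShR R).obj (CohCx.freeSheaf J W)) (Y := F) (n := k)).symm h1

end Site

section Sch

variable {X : Scheme.{u}}

/-- the "free module on an open" functor, with values in `X.Modules`. -/
noncomputable def frX (X : Scheme.{u}) : TopologicalSpace.Opens X ⥤ X.Modules :=
  frModR X.ringCatSheaf

theorem locFr_frX (X : Scheme.{u}) : LocFr (Opens.grothendieckTopology X) (frX X) :=
  locFr_frModR X.ringCatSheaf

theorem isGrothendieckAbelian_modules (X : Scheme.{u}) : IsGrothendieckAbelian.{u} X.Modules :=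
  Groth.Agent.S0484.result _ X.ringCatSheaf

/-- `Hom_{D(O_X)}(O_W-free[0], F[k]) = 0` for `W` affine, `F` quasi-coherent, `k > 0`. -/
theorem subsingleton_hom_affine [HasDerivedCategory.{w} X.Modules] {W : X.Opens}
    (hW : IsAffineOpen W) (F : X.Modules) [F.IsQuasicoherent] (k : ℕ) (hk : 0 < k) :
    Subsingleton (dsgl ((frX X).obj W) ⟶ ((singleFunctor X.Modules 0).obj F)⟦(k : ℤ)⟧) := by
  obtain ⟨j, rfl⟩ := Nat.exists_eq_succ_of_ne_zero hk.ne'
  have h := Groth.Agent.Lib.Helper23.AffVanish.subsingleton_HE_of_isAffineOpen hW F j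
  letI inst' : HasDerivedCategory.{w} (SheafOfModules.{u} X.ringCatSheaf) :=
    ‹HasDerivedCategory.{w} X.Modules›
  exact subsingleton_hom_of_HU' X.ringCatSheaf W F (j + 1) h

/-- affine opens inside a covering sieve cover. -/
theorem affine_in_sieve_mem {V : X.Opens} (T : Sieve V)
    (hT : T ∈ Opens.grothendieckTopology X V) :
    Sieve.generate (fun (W : X.Opens) (g : W ⟶ V) => IsAffineOpen W ∧ T g) ∈
      Opens.grothendieckTopology X V := by
  intro x hx
  obtain ⟨V', f, hf, hxV'⟩ := hT x hx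
  obtain ⟨W, hW, hxW, hWV'⟩ := TopologicalSpace.Opens.isBasis_iff_nbhd.1 X.isBasis_affineOpens hxV'
  refine ⟨W, homOfLE hWV' ≫ f, ⟨W, 𝟙 W, homOfLE hWV' ≫ f, ⟨hW, T.downward_closed hf _⟩, ?_⟩, hxW⟩
  exact Category.id_comp _

theorem isRlimVia_truncTower_qcoh [HasDerivedCategory.{w} X.Modules]
    (E : DerivedCategory X.Modules)
    (hE : ∀ i : ℤ, ((homologyFunctor X.Modules i).obj E).IsQuasicoherent)
    [HasProduct (CohCx.truncTower E)] :
    CohCx.IsRlimVia (CohCx.truncTower E) (CohCx.truncTowerMap E) E (CohCx.toTruncTower E) := by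
  haveI := isGrothendieckAbelian_modules X
  apply isRlimVia_truncTower_of_cofinal.{w, u} (locFr_frX X) E
  intro U
  refine ⟨fun W g => IsAffineOpen W ∧ (⊤ : Sieve U) g, affine_in_sieve_mem ⊤
    ((Opens.grothendieckTopology X).top_mem U), fun V g hV => ⟨fun _ => 0, fun T hT => ?_⟩⟩
  refine ⟨fun W g => IsAffineOpen W ∧ T g, fun W g hg => hg.2, affine_in_sieve_mem T hT,
    fun W g' hg' m k hk => ?_⟩
  haveI := hE (m - k)
  have hk' : (0 : ℤ) < (k : ℤ) := hk
  exact subsingleton_hom_affine hg'.1 _ k (by exact_mod_cast hk')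

end Sch

end Groth.Agent.Lib.T2H2.ModLim
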