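import Groth.Agent.Lib.T2H2ModLim
import Groth.Agent.Lib.T2H2MilnorSh
import Groth.Agent.Lib.Helper23FinTypeLocal
import Groth.Agent.Lib.Helper16Restr

/-! Limits of towers in an abelian category with a "locally free" family are derived limits (abstract
form of `site_sheafLim_via`), and the case of quasi-coherent modules on a scheme (S7260). -/

set_option autoImplicit false
set_option linter.style.haveILetI false
universe w w' v v' u u'
open CategoryTheory CategoryTheory.Limits Opposite ZeroObject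

namespace Groth.Agent.Lib.T2H2.ModLim2

open Groth.Agent.Lib.Helper17.Hyp DerivedCategory Pretriangulated Groth.Agent.S14388
  Groth.Agent.Lib.T2H2.NegVan Groth.Agent.Lib.T2H2.AcycBasis Groth.Agent.Lib.T2H2.RlimBasis
  Groth.Agent.Lib.T2H2.SheafLim Groth.Agent.S0943 Groth.Agent.Lib.T2H2.MilnorSh

section Abs

variable {A : Type (v + 1)} [Category.{v} A] [Abelian A] [HasDerivedCategory.{w} A]
  {C : Type u'} [Category.{v'} C] {J : GrothendieckTopology C} {fr : C ⥤ A}

/-- the additive map `Hom_D(P[0], F[0][0]) → Hom_A(P, F)`. -/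
noncomputable def homAdd (P F : A) : (dsgl P ⟶ (dsgl F)⟦(0 : ℤ)⟧) →+ (P ⟶ F) :=
  (Preadditive.rightComp P (e₀ F).hom).comp (cmAdd P (dsgl F) 0)

lemma homAdd_apply (P F : A) (x : dsgl P ⟶ (dsgl F)⟦(0 : ℤ)⟧) :
    homAdd P F x = cm x ≫ (e₀ F).hom := rfl

lemma bijective_homAdd (P F : A) : Function.Bijective (homAdd P F) := by
  haveI : (dsgl F).IsGE 0 := by
    change ((singleFunctor _ 0).obj F).IsGE 0
    infer_instance
  have h1 := bijective_cm_of_isGE P (dsgl F)
  have h2 := bijective_comp_iso (P := P) (e₀ F).hom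
  exact h2.comp h1

lemma homAdd_comp {F F' : A} (f : F' ⟶ F) (P : A) (x : dsgl P ⟶ (dsgl F')⟦(0 : ℤ)⟧) :
    homAdd P F (x ≫ (Q.map ((HomologicalComplex.single _ (ComplexShape.up ℤ) 0).map f))⟦(0 : ℤ)⟧') =
      homAdd P F' x ≫ f := by
  rw [homAdd_apply, homAdd_apply, cm_comp, Category.assoc, e₀_hom_naturality, ← Category.assoc]

theorem abs_lim_via (hfr : LocFr J fr) (F : ℕ → A) (t : ∀ n, F (n + 1) ⟶ F n)
    [HasLimit (CohCx.opSequence F t)]
    [HasProduct fun n => (DerivedCategory.singleFunctor A 0).obj (F n)]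
    (B : Set C) (hB' : IsBasisFor J B)
    (h1 : ∀ W ∈ B, ∀ (n : ℕ) (m : ℤ), m ≠ 0 →
      Subsingleton (dsgl (fr.obj W) ⟶ (dsgl (F n))⟦m⟧))
    (h2 : ∀ W ∈ B, CohCx.LimOneIsZero (fun n => fr.obj W ⟶ F n)
      (fun n => Preadditive.rightComp (fr.obj W) (t n))) :
    CohCx.IsRlimVia (fun n => (DerivedCategory.singleFunctor _ 0).obj (F n))
      (fun n => (DerivedCategory.singleFunctor _ 0).map (t n))
      ((DerivedCategory.singleFunctor _ 0).obj (limit (CohCx.opSequence F t)))
      (fun n => (DerivedCategory.singleFunctor _ 0).map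
        (limit.π (CohCx.opSequence F t) (op n))) := by
  let K : ℕ → DerivedCategory A := fun n => dsgl (F n)
  let tK : ∀ n, K (n + 1) ⟶ K n := fun n =>
    Q.map ((HomologicalComplex.single _ (ComplexShape.up ℤ) 0).map (t n))
  haveI : HasProduct K := ‹_›
  obtain ⟨L, a, hLa⟩ := exists_isRlimVia K tK
  have hsub : ∀ W ∈ B, ∀ (n : ℕ) (m : ℤ), m ≠ 0 →
      Subsingleton (dsgl (fr.obj W) ⟶ (K n)⟦m⟧) := h1
  have hcm : ∀ W ∈ B, ∀ (n : ℕ) (q : ℤ),
      Function.Bijective (fun ξ : dsgl (fr.obj W) ⟶ (K n)⟦q⟧ => cm ξ) :=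
    fun W hW n q => bijective_cm_dsgl _ _ q (hsub W hW n q)
  have hlim1 : ∀ W ∈ B, ∀ m : ℤ,
      CohCx.LimOneIsZero (fun n => dsgl (fr.obj W) ⟶ (K n)⟦m⟧)
        (fun n => Preadditive.rightComp _ ((tK n)⟦m⟧')) := by
    intro W hW m
    by_cases hm : m = 0
    · subst hm
      exact limOneIsZero_of_bijective (A := fun n => dsgl (fr.obj W) ⟶ (K n)⟦(0 : ℤ)⟧)
        (A' := fun n => fr.obj W ⟶ F n)
        (fun n => Preadditive.rightComp _ ((tK n)⟦(0 : ℤ)⟧'))
        (fun n => Preadditive.rightComp (fr.obj W) (t n))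
        (fun n => homAdd (fr.obj W) (F n))
        (fun n => bijective_homAdd (fr.obj W) (F n)) (fun n x => homAdd_comp (t n) (fr.obj W) x)
        (h2 W hW)
    · exact limOneIsZero_of_subsingleton _ _ (fun n => hsub W hW n m hm)
  -- vanishing of `H^q(L)` for `q ≠ 0`
  have hzero : ∀ q : ℤ, q ≠ 0 → IsZero ((homologyFunctor _ q).obj L) := by
    intro q hq
    have hz : ∀ n, IsZero ((homologyFunctor _ q).obj (K n)) :=
      fun n => isZero_homology_dsgl (F n) q hq
    haveI : IsIso (0 : (homologyFunctor _ q).obj L ⟶ (0 : A)) :=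
      isIso_of_rlim_basis (fr := fr) hfr hLa B hB' q
        (fun W hW n => hcm W hW n q) (fun W hW => hlim1 W hW (q - 1))
        (fun n => (0 : (0 : A) ⟶ (homologyFunctor _ q).obj (K n)))
        (fun n => zero_comp) (fun {X} s _ => (isZero_zero _).eq_of_tgt _ _) 0
        (fun n => (hz n).eq_of_tgt _ _)
    exact IsZero.of_iso (isZero_zero _)
      (asIso (0 : (homologyFunctor _ q).obj L ⟶ (0 : A)))
  haveI : L.IsGE 0 := (DerivedCategory.isGE_iff L 0).2 (fun i hi => hzero i (by omega))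
  haveI : L.IsLE 0 := (DerivedCategory.isLE_iff L 0).2 (fun i hi => hzero i (by omega))
  -- `H^0(L) ≅ lim F`
  let D := CohCx.opSequence F t
  have hcomp : ∀ n, ((homologyFunctor _ 0).map (a (n + 1)) ≫ (e₀ (F (n + 1))).hom) ≫ t n =
      (homologyFunctor _ 0).map (a n) ≫ (e₀ (F n)).hom := fun n => by
    rw [Category.assoc, ← e₀_hom_naturality, ← Category.assoc, ← Functor.map_comp]
    congr 2
    exact isRlimVia_comp_t hLa n
  let cone : Cone D :=
    { pt := (homologyFunctor _ 0).obj L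
      π := NatTrans.ofOpSequence (F := (Functor.const _).obj ((homologyFunctor _ 0).obj L))
        (fun n => (homologyFunctor _ 0).map (a n) ≫ (e₀ (F n)).hom) (fun n => by
          simp only [Functor.const_obj_obj, Functor.const_obj_map, Category.id_comp]
          rw [show D.map (homOfLE (Nat.le_add_right n 1)).op = t n from
              Functor.ofOpSequence_map_homOfLE_succ _ n]
          exact (hcomp n).symm) }
  let φ : (homologyFunctor _ 0).obj L ⟶ limit D := limit.lift D cone
  haveI : IsIso φ := by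
    refine isIso_of_rlim_basis (fr := fr) hfr hLa B hB' 0
      (fun W hW n => hcm W hW n 0) (fun W hW => hlim1 W hW (0 - 1))
      (fun n => limit.π D (op n) ≫ (e₀ (F n)).inv) (fun n => ?_) (fun {X} s hs => ?_) φ
      (fun n => ?_)
    · have hw := limit.w D (homOfLE (Nat.le_add_right n 1)).op
      rw [show D.map (homOfLE (Nat.le_add_right n 1)).op = t n from
        Functor.ofOpSequence_map_homOfLE_succ _ n] at hw
      have e1 := e₀_inv_naturality (t n)
      rw [Category.assoc]
      exact calc _ = limit.π D (op (n + 1)) ≫ (t n ≫ (e₀ (F n)).inv) :=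
              congrArg (fun z => limit.π D (op (n + 1)) ≫ z) e1.symm
        _ = (limit.π D (op (n + 1)) ≫ t n) ≫ (e₀ (F n)).inv := (Category.assoc _ _ _).symm
        _ = _ := congrArg (fun z => z ≫ (e₀ (F n)).inv) hw
    · apply limit.hom_ext
      rintro ⟨n⟩
      rw [zero_comp]
      have := hs n
      rw [← Category.assoc] at this
      exact (cancel_mono (e₀ (F n)).inv).1 (this.trans zero_comp.symm)
    · rw [← Category.assoc, limit.lift_π]
      change ((homologyFunctor _ 0).map (a n) ≫ (e₀ (F n)).hom) ≫ (e₀ (F n)).inv = _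
      rw [Category.assoc, Iso.hom_inv_id, Category.comp_id]
  obtain ⟨M, ⟨eM⟩⟩ := exists_iso_singleFunctor_obj_of_isGE_of_isLE L 0
  replace eM : L ≅ dsgl M := eM
  let eH : M ≅ limit D :=
    (e₀ M).symm ≪≫ (homologyFunctor _ 0).mapIso eM.symm ≪≫ asIso φ
  let eLG : L ≅ (DerivedCategory.singleFunctor _ 0).obj (limit D) :=
    eM ≪≫ (DerivedCategory.singleFunctor _ 0).mapIso eH
  have hfin : ∀ n, inv φ ≫ (homologyFunctor _ 0).map (a n) =
      limit.π D (op n) ≫ (e₀ (F n)).inv := by
    intro n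
    have h2 : φ ≫ limit.π D (op n) = (homologyFunctor _ 0).map (a n) ≫ (e₀ (F n)).hom :=
      limit.lift_π _ _
    have h3 : (homologyFunctor _ 0).map (a n) =
        ((homologyFunctor _ 0).map (a n) ≫ (e₀ (F n)).hom) ≫ (e₀ (F n)).inv :=
      ((Category.assoc _ _ _).trans ((congrArg (fun z => (homologyFunctor _ 0).map (a n) ≫ z)
        (e₀ (F n)).hom_inv_id).trans (Category.comp_id _))).symm
    refine (IsIso.inv_comp_eq φ).2 (h3.trans ?_)
    exact (congrArg (fun z => z ≫ (e₀ (F n)).inv) h2.symm).trans (Category.assoc _ _ _)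
  have h1' : c₀ eLG.inv = inv φ := by
    change c₀ (Q.map ((HomologicalComplex.single _ (ComplexShape.up ℤ) 0).map eH.inv) ≫ eM.inv) = _
    rw [c₀_comp, c₀_single_map]
    have e1 : (homologyFunctor _ 0).map eM.hom ≫ (homologyFunctor _ 0).map eM.inv = 𝟙 _ := by
      rw [← Functor.map_comp, Iso.hom_inv_id, CategoryTheory.Functor.map_id]
    calc (eH.inv ≫ (e₀ M).inv) ≫ (homologyFunctor _ 0).map eM.inv
        = inv φ ≫ ((homologyFunctor _ 0).map eM.hom ≫ ((e₀ M).hom ≫ (e₀ M).inv) ≫
            (homologyFunctor _ 0).map eM.inv) := by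
          have heH : eH.inv = (inv φ ≫ (homologyFunctor _ 0).map eM.hom) ≫ (e₀ M).hom := rfl
          rw [heH]
          simp only [Category.assoc]
      _ = inv φ := by
          rw [Iso.hom_inv_id, Category.id_comp, e1, Category.comp_id]
  refine isRlimVia_of_iso hLa eLG.inv _ (fun n => ?_)
  apply (bijective_c₀_single (limit D) (F n)).1
  change c₀ (eLG.inv ≫ a n) = c₀ (Q.map ((HomologicalComplex.single _ (ComplexShape.up ℤ) 0).map
    (limit.π D (op n))))
  rw [c₀_single_map, c₀_comp, h1']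
  exact hfin n

end Abs

section Tower

theorem limOneIsZero_of_surjective_ge_one (G : ℕ → Type u) [∀ n, AddCommGroup (G n)]
    (t : ∀ n, G (n + 1) →+ G n) (h : ∀ n, 1 ≤ n → Function.Surjective (t n)) :
    CohCx.LimOneIsZero G t := by
  intro b
  choose s hs using fun n => h (n + 1) (Nat.succ_pos n)
  let a' : ∀ n, G (n + 1) := fun n =>
    Nat.rec (motive := fun n => G (n + 1)) 0 (fun n an => s n (an - b (n + 1))) n
  let a : ∀ n, G n := fun n =>
    Nat.casesOn (motive := fun n => G n) n (b 0 + t 0 (a' 0)) (fun n => a' n)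
  refine ⟨a, ?_⟩
  funext n
  cases n with
  | zero =>
    change b 0 + t 0 (a' 0) - t 0 (a' 0) = b 0
    abel
  | succ n =>
    change a' n - t (n + 1) (s n (a' n - b (n + 1))) = b (n + 1)
    rw [hs]
    abel

end Tower

section Site

open Groth.Agent.Lib.Helper21 Groth.Agent.Lib.Helper21.FreeAb Groth.Agent.Lib.Helper21.TorsFree
  Groth.Agent.Lib.T2H2.ModLim

variable {C : Type u} [SmallCategory C] {J : GrothendieckTopology C} (R : Sheaf J RingCat.{u})

/-- `H^k(W, F) = 0` when `Hom_{D(R)}(R_W[0], F[k]) = 0`. -/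
theorem subsingleton_HU_of_hom [HasDerivedCategory.{w} (SheafOfModules.{u} R)] (W : C)
    (F : SheafOfModules.{u} R) (k : ℕ)
    (h : Subsingleton (dsgl ((frModR R).obj W) ⟶
      ((singleFunctor (SheafOfModules.{u} R) 0).obj F)⟦(k : ℤ)⟧)) :
    Subsingleton (CohSite.HU ((SheafOfModules.toSheaf R).obj F) k W) := by
  haveI := hasExt_sheafOfModules R
  obtain ⟨e⟩ := nonempty_ext_freeShR_iso R (CohCx.freeSheaf J W) (TF_freeSheaf W) F k
  have h1 : Subsingleton (Abelian.Ext.{u} ((freeShR R).obj (CohCx.freeSheaf J W)) F k) :=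
    @Equiv.subsingleton _ _ (Abelian.Ext.homEquiv
      (X := (freeShR R).obj (CohCx.freeSheaf J W)) (Y := F) (n := k)) h
  exact @Equiv.subsingleton _ _ e.addCommGroupIsoToAddEquiv.toEquiv.symm h1

/-- `Hom(R_W, M) ≃ M(W)`. -/
noncomputable def secR (W : C) (M : SheafOfModules.{u} R) :
    ((frModR R).obj W ⟶ M) ≃ ((SheafOfModules.toSheaf R).obj M).obj.obj (op W) :=
  ((freeShRAdj R).homEquiv (CohCx.freeSheaf J W) M).trans
    (CohFree.homEquivSect J W ((SheafOfModules.toSheaf R).obj M)).toEquiv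

lemma secR_comp (W : C) {M N : SheafOfModules.{u} R} (φ : M ⟶ N) (s : (frModR R).obj W ⟶ M) :
    secR R W N (s ≫ φ) =
      (((SheafOfModules.toSheaf R).map φ).hom.app (op W)).hom (secR R W M s) := by
  change CohFree.evalGen J W _ ((freeShRAdj R).homEquiv _ _ (s ≫ φ)) = _
  rw [Adjunction.homEquiv_naturality_right]
  rfl

end Site

section Sch

open AlgebraicGeometry TopologicalSpace Groth.Agent.Lib.T2H2.ModLim

variable {X : Scheme.{u}}

theorem affine_cover (V : Opens X) : ∃ (ι : Type u) (Y : ι → Opens X) (f : ∀ i, Y i ⟶ V),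
    Sieve.ofArrows Y f ∈ Opens.grothendieckTopology X V ∧ ∀ i, Y i ∈ X.affineOpens := by
  refine ⟨{W : Opens X // W ∈ X.affineOpens ∧ W ≤ V}, fun W => W.1, fun W => homOfLE W.2.2, ?_,
    fun W => W.2.1⟩
  intro x hx
  obtain ⟨W, hW, hxW, hWV⟩ := Opens.isBasis_iff_nbhd.1 X.isBasis_affineOpens hx
  exact ⟨W, homOfLE hWV,
    Sieve.ofArrows_mk _ _ (⟨W, hW, hWV⟩ : {W : Opens X // W ∈ X.affineOpens ∧ W ≤ V}), hxW⟩

theorem isBasisFor_affine :
    IsBasisFor (Opens.grothendieckTopology X) (X.affineOpens : Set X.Opens) :=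
  isBasisFor_of_ofArrows _ affine_cover

/-- maps from the free module on an affine open lift along epimorphisms of quasi-coherent
modules. -/
theorem exists_lift_affine {W : X.Opens} (hW : IsAffineOpen W) {M N : X.Modules} (φ : M ⟶ N)
    [Epi φ] [M.IsQuasicoherent] [N.IsQuasicoherent] (s : (frX X).obj W ⟶ N) :
    ∃ s' : (frX X).obj W ⟶ M, s' ≫ φ = s := by
  obtain ⟨τ, hτ⟩ := Groth.Agent.Lib.Helper23.FinType.surjective_app_of_epi φ hW
    (secR X.ringCatSheaf W N s)
  refine ⟨(secR X.ringCatSheaf W M).symm τ, (secR X.ringCatSheaf W N).injective ?_⟩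
  refine (secR_comp X.ringCatSheaf W φ _).trans ?_
  rw [Equiv.apply_symm_apply]
  exact hτ

theorem limOneIsZero_hom_affine {W : X.Opens} (hW : IsAffineOpen W) (F : ℕ → X.Modules)
    (hF : ∀ n, (F n).IsQuasicoherent) (t : ∀ n, F (n + 1) ⟶ F n) (ht : ∀ n, 1 ≤ n → Epi (t n)) :
    CohCx.LimOneIsZero (fun n => (frX X).obj W ⟶ F n)
      (fun n => Preadditive.rightComp ((frX X).obj W) (t n)) := by
  apply limOneIsZero_of_surjective_ge_one
  intro n hn s
  haveI := hF n
  haveI := hF (n + 1)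
  haveI := ht n hn
  exact exists_lift_affine hW (t n) s

variable [HasDerivedCategory.{w} X.Modules]

theorem subsingleton_hom_affine_ne {W : X.Opens} (hW : IsAffineOpen W) (F : X.Modules)
    [F.IsQuasicoherent] (m : ℤ) (hm : m ≠ 0) :
    Subsingleton (dsgl ((frX X).obj W) ⟶ (dsgl F)⟦m⟧) := by
  rcases lt_or_gt_of_ne hm with h' | h'
  · exact subsingleton_hom_single_neg _ _ m h'
  · obtain ⟨p, rfl⟩ : ∃ p : ℕ, m = ((p + 1 : ℕ) : ℤ) := ⟨(m - 1).toNat, by push_cast; omega⟩
    exact subsingleton_hom_affine hW F (p + 1) (Nat.succ_pos p)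

/-- S7260, first half: `lim F_n` is the derived limit. -/
theorem isRlimVia_qcoh (F : ℕ → X.Modules) (hF : ∀ n, (F n).IsQuasicoherent)
    (t : ∀ n, F (n + 1) ⟶ F n) (ht : ∀ n, 1 ≤ n → Epi (t n))
    [HasProduct fun n => (DerivedCategory.singleFunctor X.Modules 0).obj (F n)] :
    CohCx.IsRlimVia (fun n => (DerivedCategory.singleFunctor X.Modules 0).obj (F n))
      (fun n => (DerivedCategory.singleFunctor X.Modules 0).map (t n))
      ((DerivedCategory.singleFunctor X.Modules 0).obj (limit (CohCx.opSequence F t)))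
      (fun n => (DerivedCategory.singleFunctor X.Modules 0).map
        (limit.π (CohCx.opSequence F t) (op n))) :=
  abs_lim_via (locFr_frX X) F t (X.affineOpens : Set X.Opens) isBasisFor_affine
    (fun W hW n m hm => by
      haveI := hF n
      exact subsingleton_hom_affine_ne hW (F n) m hm)
    (fun W hW => limOneIsZero_hom_affine hW F hF t ht)

/-- S7260, second half, in `Hom` form. -/
theorem subsingleton_hom_limit (F : ℕ → X.Modules) (hF : ∀ n, (F n).IsQuasicoherent)
    (t : ∀ n, F (n + 1) ⟶ F n) (ht : ∀ n, 1 ≤ n → Epi (t n))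
    [HasProduct fun n => (DerivedCategory.singleFunctor X.Modules 0).obj (F n)]
    {U : X.Opens} (hU : IsAffineOpen U) (p : ℕ) (hp : 0 < p) :
    Subsingleton (dsgl ((frX X).obj U) ⟶
      ((DerivedCategory.singleFunctor X.Modules 0).obj (limit (CohCx.opSequence F t)))⟦(p : ℤ)⟧) := by
  have hL := isRlimVia_qcoh F hF t ht
  have hsub : ∀ (n : ℕ) (m : ℤ), m ≠ 0 →
      Subsingleton (dsgl ((frX X).obj U) ⟶ (dsgl (F n))⟦m⟧) := fun n m hm => by
    haveI := hF n
    exact subsingleton_hom_affine_ne hU (F n) m hm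
  have hlim : CohCx.LimOneIsZero
      (fun n => dsgl ((frX X).obj U) ⟶
        ((DerivedCategory.singleFunctor X.Modules 0).obj (F n))⟦(p : ℤ) - 1⟧)
      (fun n => Preadditive.rightComp _
        (((DerivedCategory.singleFunctor X.Modules 0).map (t n))⟦(p : ℤ) - 1⟧')) := by
    generalize (p : ℤ) - 1 = q
    by_cases hq : q = 0
    · subst hq
      exact limOneIsZero_of_bijective
        (A := fun n => dsgl ((frX X).obj U) ⟶ (dsgl (F n))⟦(0 : ℤ)⟧)
        (A' := fun n => (frX X).obj U ⟶ F n)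
        (fun n => Preadditive.rightComp _
          ((Q.map ((HomologicalComplex.single _ (ComplexShape.up ℤ) 0).map (t n)))⟦(0 : ℤ)⟧'))
        (fun n => Preadditive.rightComp ((frX X).obj U) (t n))
        (fun n => homAdd ((frX X).obj U) (F n))
        (fun n => bijective_homAdd ((frX X).obj U) (F n))
        (fun n x => homAdd_comp (t n) ((frX X).obj U) x)
        (limOneIsZero_hom_affine hU F hF t ht)
    · exact limOneIsZero_of_subsingleton _ _ (fun n => hsub n q hq)
  have hm := (Groth.Agent.S0943.milnor_general hL (dsgl ((frX X).obj U)) (p : ℤ)).2 hlim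
  have hp' : (p : ℤ) ≠ 0 := by exact_mod_cast hp.ne'
  refine ⟨fun x y => ?_⟩
  rw [← sub_eq_zero]
  apply hm
  intro n
  exact @Subsingleton.elim _ (hsub n (p : ℤ) hp') _ _

/-- from `Hom` vanishing to `Coh.HHon` vanishing. -/
theorem subsingleton_HHon_of_hom (M : X.Modules) (U : X.Opens) (p : ℕ)
    (h : Subsingleton (dsgl ((frX X).obj U) ⟶
      ((DerivedCategory.singleFunctor X.Modules 0).obj M)⟦(p : ℤ)⟧)) :
    Subsingleton (Coh.HHon X M U p) := by
  letI inst' : HasDerivedCategory.{w} (SheafOfModules.{u} X.ringCatSheaf) :=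
    ‹HasDerivedCategory.{w} X.Modules›
  have h1 := subsingleton_HU_of_hom X.ringCatSheaf U M p h
  have h2 : Subsingleton (CohTop.HU (X := X.carrier) (Coh.toAb M) p U) := h1
  obtain ⟨e2⟩ := Groth.Agent.Lib.Helper16.Restr.nonempty_HU_equiv (X := X.carrier) U (Coh.toAb M) p
  have e2' : CohTop.HU (X := X.carrier) (Coh.toAb M) p U ≃+ Coh.HHon X M U p := e2
  exact e2'.symm.toEquiv.subsingleton

end Sch

end Groth.Agent.Lib.T2H2.ModLim2
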