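import Groth.Agent.Lib.Helper3HenselJ
import Groth.Agent.Lib.T2H2HorrH

/-!
# `R[t]_{⟨t, 1 + tR[t]⟩}` is the localisation of `R[s]`, `s = t⁻¹`, at the monic polynomials

* `loc_facts`: ideal-theoretic consequences of the localisation axioms for a bare ring hom.
* `isUnit_of_monic`, `exists_monic_mul`, `exists_monic_mul_eq_zero`: the localisation axioms for
  `ψ : R[s] → L`, `s ↦ t⁻¹`, with respect to the monic polynomials.
* `exists_mul_sub_one_mem`: monic polynomials are units modulo an ideal comaximal with `m R[X]`.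
* `main`: for `R` Henselian local, ideals of `R[s]` comaximal with `m R[s]` correspond to ideals of
  `L` comaximal with `m L`.
-/

set_option autoImplicit false
open Polynomial
universe u v

namespace Groth.Agent.Lib.T2H2.MonicLoc

open Groth.Agent.Lib.T2H2.Horr

section general
variable {A : Type u} {B : Type v} [CommRing A] [CommRing B]

/-- a ring hom satisfying the localisation axioms w.r.t. `M` -/
theorem isLocalization_of (φ : A →+* B) (M : Submonoid A) (h1 : ∀ m ∈ M, IsUnit (φ m))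
    (h2 : ∀ x : B, ∃ m ∈ M, ∃ p : A, x * φ m = φ p)
    (h3 : ∀ p : A, φ p = 0 → ∃ m ∈ M, m * p = 0) :
    @IsLocalization A _ M B _ φ.toAlgebra := by
  letI := φ.toAlgebra
  refine ⟨fun y => h1 y y.2, fun z => ?_, fun {x y} hxy => ?_⟩
  · obtain ⟨m, hm, p, hp⟩ := h2 z
    exact ⟨(p, ⟨m, hm⟩), hp⟩
  · obtain ⟨m, hm, hmp⟩ := h3 (x - y) (by
      show φ (x - y) = 0
      rw [map_sub, sub_eq_zero]; exact hxy)
    exact ⟨⟨m, hm⟩, by rw [mul_sub, sub_eq_zero] at hmp; exact hmp⟩

theorem loc_facts (φ : A →+* B) (M : Submonoid A) (h1 : ∀ m ∈ M, IsUnit (φ m))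
    (h2 : ∀ x : B, ∃ m ∈ M, ∃ p : A, x * φ m = φ p)
    (h3 : ∀ p : A, φ p = 0 → ∃ m ∈ M, m * p = 0) :
    (∀ J : Ideal B, (J.comap φ).map φ = J) ∧
    (∀ (I : Ideal A) (x : B), x ∈ I.map φ ↔ ∃ a ∈ I, ∃ m ∈ M, x * φ m = φ a) := by
  letI := φ.toAlgebra
  haveI := isLocalization_of φ M h1 h2 h3
  refine ⟨fun J => IsLocalization.map_comap M B J, fun I x => ?_⟩
  have := IsLocalization.mem_map_algebraMap_iff M B (I := I) (z := x)
  constructor
  · intro hx
    obtain ⟨⟨a, m⟩, hx'⟩ := this.1 hx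
    exact ⟨a, a.2, m, m.2, hx'⟩
  · rintro ⟨a, ha, m, hm, hx'⟩
    exact this.2 ⟨(⟨a, ha⟩, ⟨m, hm⟩), hx'⟩

end general

section reflect
variable {R : Type u} [CommRing R] {L : Type u} [CommRing L] [Algebra R[X] L]
  [IsLocalization (S₀ R) L] [Algebra R L] [IsScalarTower R R[X] L]
  (ψ : R[X] →ₐ[R] L) (hψ : ψ X * algebraMap R[X] L X = 1)

/-- the submonoid of monic polynomials -/
def monics (R : Type u) [CommRing R] : Submonoid R[X] where
  carrier := {f | f.Monic}
  one_mem' := monic_one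
  mul_mem' := fun hf hg => Monic.mul hf hg

include hψ in
/-- `(algebraMap (reflect N f)) * (ψ X)^N = ψ f`. -/
lemma reflect_eq (N : ℕ) (f : R[X]) (hf : f.natDegree ≤ N) :
    algebraMap R[X] L (reflect N f) * ψ X ^ N = ψ f := by
  letI : Invertible (ψ X) := ⟨algebraMap R[X] L X, by rw [mul_comm]; exact hψ, hψ⟩
  have h1 := eval₂_reflect_mul_pow (algebraMap R L) (ψ X) N f hf
  have h2 : ∀ g : R[X], eval₂ (algebraMap R L) (algebraMap R[X] L X) g = algebraMap R[X] L g := by
    intro g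
    have : (IsScalarTower.toAlgHom R R[X] L) g = aeval (algebraMap R[X] L X) g := by
      conv_lhs => rw [← aeval_X_left_apply g, ← aeval_algHom_apply]
      rfl
    rw [← aeval_def, ← this]; rfl
  have h3 : eval₂ (algebraMap R L) (ψ X) f = ψ f := by
    rw [← aeval_def]
    conv_rhs => rw [← aeval_X_left_apply f, ← aeval_algHom_apply]
  rw [← h3, ← h1, ← h2]
  rfl

include hψ in
lemma isUnit_psi_X : IsUnit (ψ X) := IsUnit.of_mul_eq_one _ hψ

include hψ in
lemma isUnit_of_monic {f : R[X]} (hf : f.Monic) : IsUnit (ψ f) := by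
  rw [← reflect_eq ψ hψ f.natDegree f le_rfl]
  refine IsUnit.mul ?_ ((isUnit_psi_X ψ hψ).pow _)
  have h0 : (reflect f.natDegree f).coeff 0 = 1 := by
    rw [coeff_reflect, revAt_zero]; exact hf
  have := mem_S₀_of (R := R) (k := 0) h0
  rw [pow_zero, one_mul] at this
  exact IsLocalization.map_units L (⟨_, this⟩ : S₀ R)

lemma natDegree_reflect_le' {N : ℕ} {p : R[X]} (hp : p.natDegree ≤ N) :
    (reflect N p).natDegree ≤ N :=
  natDegree_reflect_le.trans (max_le le_rfl hp)

/-- the reflection of a polynomial with constant term one is monic -/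
lemma monic_reflect {g : R[X]} (hg : g.coeff 0 = 1) : (reflect g.natDegree g).Monic := by
  refine monic_of_natDegree_le_of_coeff_eq_one g.natDegree (natDegree_reflect_le' le_rfl) ?_
  rw [coeff_reflect, revAt_le le_rfl, Nat.sub_self, hg]

include hψ in
lemma exists_monic_mul (x : L) : ∃ f ∈ monics R, ∃ p : R[X], x * ψ f = ψ p := by
  obtain ⟨⟨q, s⟩, hs⟩ := IsLocalization.surj (S₀ R) x
  obtain ⟨k, g₁, hg₁, hsk⟩ := S₀_form s.2
  simp only at hs
  rw [hsk, map_mul, map_pow] at hs
  set N₁ := g₁.natDegree with hN₁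
  set N₂ := q.natDegree with hN₂
  have e1 := reflect_eq ψ hψ N₁ (reflect N₁ g₁) (natDegree_reflect_le' le_rfl)
  have e2 := reflect_eq ψ hψ N₂ (reflect N₂ q) (natDegree_reflect_le' le_rfl)
  rw [reflect_reflect] at e1 e2
  refine ⟨reflect N₁ g₁ * X ^ N₂, (monic_reflect hg₁).mul (monic_X_pow _),
    reflect N₂ q * X ^ (k + N₁), ?_⟩
  rw [map_mul, map_mul, map_pow, map_pow, ← e1, ← e2]
  have hu : ψ X ^ k * algebraMap R[X] L X ^ k = 1 := by rw [← mul_pow, hψ, one_pow]
  linear_combination (-(x * (algebraMap R[X] L g₁ * ψ X ^ N₁ * ψ X ^ N₂))) * hu +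
    (ψ X ^ N₂ * ψ X ^ (k + N₁)) * hs

include hψ in
lemma exists_monic_mul_eq_zero (p : R[X]) (hp : ψ p = 0) : ∃ f ∈ monics R, f * p = 0 := by
  have e1 := reflect_eq ψ hψ p.natDegree p le_rfl
  rw [hp] at e1
  have e2 : algebraMap R[X] L (reflect p.natDegree p) = 0 :=
    ((isUnit_psi_X ψ hψ).pow _).mul_left_eq_zero.1 e1
  obtain ⟨⟨c, hc⟩, hc0⟩ := (IsLocalization.map_eq_zero_iff (S₀ R) L _).1 e2
  obtain ⟨k, g₁, hg₁, rfl⟩ := S₀_form hc
  simp only at hc0
  have h1 : g₁ * reflect p.natDegree p = 0 := by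
    have : X ^ k * (g₁ * reflect p.natDegree p) = X ^ k * 0 := by rw [mul_zero, ← mul_assoc, hc0]
    exact (isRegular_X_pow (R := R) k).left this
  refine ⟨reflect g₁.natDegree g₁, monic_reflect hg₁, ?_⟩
  have h2 := reflect_mul g₁ (reflect p.natDegree p) le_rfl (natDegree_reflect_le' (N := p.natDegree) le_rfl)
  rw [h1, reflect_zero, reflect_reflect] at h2
  exact h2.symm

end reflect

section nak
variable {R : Type u} [CommRing R] [IsLocalRing R]

/-- monic polynomials are units modulo an ideal comaximal with `m R[X]` (Nakayama). -/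
lemma exists_mul_sub_one_mem (I : Ideal R[X])
    (hI : I ⊔ (IsLocalRing.maximalIdeal R).map (algebraMap R R[X]) = ⊤) {f : R[X]} (hf : f.Monic) :
    ∃ g : R[X], f * g - 1 ∈ I := by
  set I' : Ideal R[X] := I ⊔ Ideal.span {f} with hI'
  have hle : Ideal.span {f} ≤ I' := le_sup_right
  -- the quotient is a finite `R`-module
  have hfin0 : Module.Finite R (R[X] ⧸ Ideal.span {f}) := hf.finite_adjoinRoot
  have hfin : Module.Finite R (R[X] ⧸ I') := by
    refine Module.Finite.of_surjective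
      ((Ideal.Quotient.factorₐ R hle).toLinearMap : (R[X] ⧸ Ideal.span {f}) →ₗ[R] (R[X] ⧸ I')) ?_
    exact Ideal.Quotient.factor_surjective hle
  -- `m Q = Q`
  have hmap : (IsLocalRing.maximalIdeal R).map (algebraMap R (R[X] ⧸ I')) = ⊤ := by
    have h1 := congrArg (Ideal.map (Ideal.Quotient.mk I')) hI
    rw [Ideal.map_sup, Ideal.map_top, Ideal.map_map] at h1
    have h2 : I.map (Ideal.Quotient.mk I') = ⊥ := by
      rw [Ideal.map_eq_bot_iff_le_ker, Ideal.mk_ker]
      exact le_sup_left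
    rw [h2, bot_sup_eq] at h1
    exact h1
  have htop : (⊤ : Submodule R (R[X] ⧸ I')) = ⊥ := by
    refine Submodule.eq_bot_of_le_smul_of_le_jacobson_bot (IsLocalRing.maximalIdeal R) ⊤
      hfin.fg_top ?_ (IsLocalRing.maximalIdeal_le_jacobson ⊥)
    rw [Ideal.smul_top_eq_map, hmap]
    intro x _
    trivial
  have h1 : (1 : R[X] ⧸ I') = 0 := by
    have : (1 : R[X] ⧸ I') ∈ (⊤ : Submodule R (R[X] ⧸ I')) := trivial
    rw [htop] at this
    exact this
  have h2 : (1 : R[X]) ∈ I' := by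
    rw [← Ideal.Quotient.eq_zero_iff_mem, map_one]; exact h1
  obtain ⟨i, hi, y, hy, hiy⟩ := Submodule.mem_sup.1 h2
  obtain ⟨g, rfl⟩ := Ideal.mem_span_singleton'.1 hy
  refine ⟨g, ?_⟩
  have : f * g - 1 = -i := by rw [← hiy]; ring
  rw [this]
  exact I.neg_mem hi

end nak

section main
open IsLocalRing

theorem main (R : Type u) [CommRing R] [HenselianLocalRing R] (L : Type u) [CommRing L]
    [Algebra R[X] L] [IsLocalization (S₀ R) L] [Algebra R L] [IsScalarTower R R[X] L]
    (ψ : R[X] →ₐ[R] L) (hψ : ψ X * algebraMap R[X] L X = 1) :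
    (∀ I : Ideal R[X], I ⊔ (maximalIdeal R).map (algebraMap R R[X]) = ⊤ →
        (I.map ψ.toRingHom).comap ψ.toRingHom = I ∧
        I.map ψ.toRingHom ⊔ (maximalIdeal R).map (algebraMap R L) = ⊤ ∧
        Function.Bijective
          (Ideal.quotientMap (I.map ψ.toRingHom) ψ.toRingHom Ideal.le_comap_map)) ∧
    (∀ J : Ideal L, J ⊔ (maximalIdeal R).map (algebraMap R L) = ⊤ →
        (J.comap ψ.toRingHom).map ψ.toRingHom = J ∧
        J.comap ψ.toRingHom ⊔ (maximalIdeal R).map (algebraMap R R[X]) = ⊤) := by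
  set φ : R[X] →+* L := ψ.toRingHom with hφ
  have hφa : ∀ x, φ x = ψ x := fun _ => rfl
  obtain ⟨LF1, LF2⟩ := loc_facts φ (monics R) (fun m hm => isUnit_of_monic ψ hψ hm)
    (exists_monic_mul ψ hψ) (exists_monic_mul_eq_zero ψ hψ)
  have hmL : ((maximalIdeal R).map (algebraMap R R[X])).map φ =
      (maximalIdeal R).map (algebraMap R L) := by
    rw [Ideal.map_map]
    congr 1
    exact ψ.comp_algebraMap
  refine ⟨fun I hI => ?_, fun J hJ => ?_⟩
  · have h1a : (I.map φ).comap φ = I := by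
      refine le_antisymm (fun x hx => ?_) Ideal.le_comap_map
      rw [Ideal.mem_comap] at hx
      obtain ⟨a, ha, f, hf, hxa⟩ := (LF2 I (φ x)).1 hx
      obtain ⟨f', hf', hz⟩ := exists_monic_mul_eq_zero ψ hψ (x * f - a) (by
        rw [map_sub, map_mul, sub_eq_zero]; exact hxa)
      obtain ⟨g, hg⟩ := exists_mul_sub_one_mem I hI (Monic.mul hf' hf)
      have : x = g * (f' * a) - (f' * f * g - 1) * x := by
        linear_combination g * hz
      rw [this]
      exact I.sub_mem (I.mul_mem_left _ (I.mul_mem_left _ ha)) (I.mul_mem_right _ hg)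
    refine ⟨h1a, ?_, ?_, ?_⟩
    · have := congrArg (Ideal.map φ) hI
      rwa [Ideal.map_sup, Ideal.map_top, hmL] at this
    · exact Ideal.quotientMap_injective' h1a.le
    · intro y
      obtain ⟨x, rfl⟩ := Ideal.Quotient.mk_surjective y
      obtain ⟨f, hf, p, hp⟩ := exists_monic_mul ψ hψ x
      obtain ⟨g, hg⟩ := exists_mul_sub_one_mem I hI hf
      refine ⟨Ideal.Quotient.mk I (p * g), ?_⟩
      rw [Ideal.quotientMap_mk, Ideal.Quotient.eq]
      have : φ (p * g) - x = x * φ (f * g - 1) := by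
        rw [map_mul, hφa p, ← hp, map_sub, map_mul, map_one, hφa f, hφa g]; ring
      rw [this]
      exact Ideal.mul_mem_left _ _ (Ideal.mem_map_of_mem φ hg)
  · refine ⟨LF1 J, ?_⟩
    have h1 : (1 : L) ∈ J ⊔ (maximalIdeal R).map (algebraMap R L) := by rw [hJ]; trivial
    obtain ⟨j, hj, y, hy, hjy⟩ := Submodule.mem_sup.1 h1
    rw [← hmL] at hy
    obtain ⟨q, hq, f, hf, hyq⟩ := (LF2 _ y).1 hy
    have hfm : f.Monic := hf
    -- `p = f - q` lies in the contraction of `J`
    have hpJ : f - q ∈ J.comap φ := by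
      rw [Ideal.mem_comap, map_sub, ← hyq]
      have : φ f - y * φ f = j * φ f := by linear_combination (-(φ f)) * hjy
      rw [this]
      exact J.mul_mem_right _ hj
    have hq0 : q.map (residue R) = 0 := by
      refine Polynomial.ext fun n => ?_
      rw [coeff_map, coeff_zero, residue_eq_zero_iff]
      exact (Ideal.mem_map_C_iff.1 hq) n
    obtain ⟨g, h, hgh, hg, -, hh⟩ := Groth.Agent.Lib.Helper3.Hensel.factor_lift R (f - q)
      (f.map (residue R)) 1 (hfm.map _) isCoprime_one_right (by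
        rw [Polynomial.map_sub, hq0, sub_zero, mul_one])
    have hhJ : h ∈ J.comap φ := by
      rw [Ideal.mem_comap]
      have h2 : φ g * φ h ∈ J := by
        rw [← map_mul, ← hgh]; exact hpJ
      exact (Ideal.unit_mul_mem_iff_mem J (isUnit_of_monic ψ hψ hg)).1 h2
    have hh1 : h - 1 ∈ (maximalIdeal R).map (algebraMap R R[X]) := by
      refine Ideal.mem_map_C_iff.2 fun n => ?_
      rw [← residue_eq_zero_iff, ← coeff_map, Polynomial.map_sub, hh, Polynomial.map_one, sub_self,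
        coeff_zero]
    rw [Ideal.eq_top_iff_one]
    have : (1 : R[X]) = h - (h - 1) := by ring
    rw [this]
    exact Ideal.sub_mem _ (Ideal.mem_sup_left hhJ) (Ideal.mem_sup_right hh1)

end main

end Groth.Agent.Lib.T2H2.MonicLoc
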