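import Mathlib

/-!
# Semisimple modules over a finite-dimensional algebra: surjections from `Hom`-dimension inequalities

For finite-dimensional semisimple modules `M`, `N` over a `k`-algebra `Λ`: if
`dim Hom(M, T) ≤ dim Hom(N, T)` for every simple module `T`, then `N` surjects onto `M`.
-/

namespace Groth.Agent.Lib.T2H2.NDeu

universe u₁ u₂

section

variable {k : Type*} [Field k] {Λ : Type*} [Ring Λ] [Algebra k Λ]

theorem finite_hom (M T : Type*) [AddCommGroup M] [Module Λ M] [Module k M] [IsScalarTower k Λ M]
    [Module.Finite k M] [AddCommGroup T] [Module Λ T] [Module k T] [IsScalarTower k Λ T]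
    [Module.Finite k T] : Module.Finite k (M →ₗ[Λ] T) := by
  let ρ : (M →ₗ[Λ] T) →ₗ[k] (M →ₗ[k] T) := LinearMap.restrictScalarsₗ k Λ M T k
  exact Module.Finite.of_injective ρ (LinearMap.restrictScalars_injective k)

/-- `dim Hom(X × Y, T) = dim Hom(X, T) + dim Hom(Y, T)` -/
theorem finrank_hom_prod (X Y T : Type*) [AddCommGroup X] [Module Λ X] [Module k X]
    [IsScalarTower k Λ X] [Module.Finite k X] [AddCommGroup Y] [Module Λ Y] [Module k Y]
    [IsScalarTower k Λ Y] [Module.Finite k Y] [AddCommGroup T] [Module Λ T] [Module k T]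
    [IsScalarTower k Λ T] [Module.Finite k T] :
    Module.finrank k ((X × Y) →ₗ[Λ] T) =
      Module.finrank k (X →ₗ[Λ] T) + Module.finrank k (Y →ₗ[Λ] T) := by
  have h1 : Module.Finite k (X →ₗ[Λ] T) := finite_hom X T
  have h2 : Module.Finite k (Y →ₗ[Λ] T) := finite_hom Y T
  rw [← LinearEquiv.finrank_eq (LinearMap.coprodEquiv (R := Λ) (M := X) (M₂ := Y) (M₃ := T) k),
    Module.finrank_prod]

theorem finrank_hom_congr {X Y : Type*} (T : Type*) [AddCommGroup X] [Module Λ X]
    [AddCommGroup Y] [Module Λ Y] [AddCommGroup T] [Module Λ T] [Module k T]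
    [IsScalarTower k Λ T] (e : X ≃ₗ[Λ] Y) :
    Module.finrank k (X →ₗ[Λ] T) = Module.finrank k (Y →ₗ[Λ] T) :=
  LinearEquiv.finrank_eq (LinearEquiv.congrLeft T k e)

end

section main

variable {k : Type*} [Field k] {Λ : Type*} [Ring Λ] [Algebra k Λ]

theorem exists_surjective_of_finrank_hom_le (n : ℕ) :
    ∀ (M : Type u₁) [AddCommGroup M] [Module Λ M] [Module k M] [IsScalarTower k Λ M]
      [Module.Finite k M] [IsSemisimpleModule Λ M]
      (N : Type u₂) [AddCommGroup N] [Module Λ N] [Module k N] [IsScalarTower k Λ N]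
      [Module.Finite k N] [IsSemisimpleModule Λ N],
      Module.finrank k M = n →
      (∀ (T : Type u₁) [AddCommGroup T] [Module Λ T] [Module k T] [IsScalarTower k Λ T]
        [Module.Finite k T] [IsSimpleModule Λ T],
        Module.finrank k (M →ₗ[Λ] T) ≤ Module.finrank k (N →ₗ[Λ] T)) →
      ∃ f : N →ₗ[Λ] M, Function.Surjective f := by
  induction n using Nat.strong_induction_on with
  | _ n ih =>
    intro M _ _ _ _ _ _ N _ _ _ _ _ _ hn hT
    by_cases hM : Subsingleton M
    · exact ⟨0, fun m => ⟨0, Subsingleton.elim _ _⟩⟩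
    rw [not_subsingleton_iff_nontrivial] at hM
    obtain ⟨S, hS⟩ := IsSemisimpleModule.exists_simple_submodule Λ M
    obtain ⟨C, hC⟩ := exists_isCompl S
    have hfS : Module.Finite k S :=
      Module.Finite.of_injective (S.subtype.restrictScalars k) S.subtype_injective
    have hfC : Module.Finite k C :=
      Module.Finite.of_injective (C.subtype.restrictScalars k) C.subtype_injective
    -- a nonzero map `M → S`
    have hpos : 0 < Module.finrank k (M →ₗ[Λ] S) := by
      have hfin : Module.Finite k (M →ₗ[Λ] S) := finite_hom M S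
      rw [Module.finrank_pos_iff_exists_ne_zero]
      refine ⟨Submodule.projectionOnto S C hC, fun h0 => ?_⟩
      have : Nontrivial S := IsSimpleModule.nontrivial Λ S
      obtain ⟨s, hs⟩ := exists_ne (0 : S)
      apply hs
      have h1 := Submodule.projectionOnto_apply_left hC s
      rw [h0] at h1
      exact h1.symm
    have hposN : 0 < Module.finrank k (N →ₗ[Λ] S) := lt_of_lt_of_le hpos (hT S)
    have hfinN : Module.Finite k (N →ₗ[Λ] S) := finite_hom N S
    obtain ⟨g, hg⟩ := (Module.finrank_pos_iff_exists_ne_zero).1 hposN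
    have hgs : Function.Surjective g := g.surjective_of_ne_zero hg
    obtain ⟨C', hC'⟩ := exists_isCompl (LinearMap.ker g)
    let eN : N ≃ₗ[Λ] (S × LinearMap.ker g) :=
      ((Submodule.prodEquivOfIsCompl (LinearMap.ker g) C' hC').symm.trans
        (LinearEquiv.prodCongr (LinearEquiv.refl Λ _)
          ((Submodule.quotientEquivOfIsCompl (LinearMap.ker g) C' hC').symm.trans
            (g.quotKerEquivOfSurjective hgs)))).trans (LinearEquiv.prodComm Λ _ _)
    let eM : (S × C) ≃ₗ[Λ] M := Submodule.prodEquivOfIsCompl S C hC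
    have hfK : Module.Finite k (LinearMap.ker g) :=
      Module.Finite.of_injective ((LinearMap.ker g).subtype.restrictScalars k)
        (LinearMap.ker g).subtype_injective
    have hdimM : Module.finrank k M = Module.finrank k S + Module.finrank k C := by
      rw [← LinearEquiv.finrank_eq (eM.restrictScalars k), Module.finrank_prod]
    have hSpos : 0 < Module.finrank k S := by
      have : Nontrivial S := IsSimpleModule.nontrivial Λ S
      exact Module.finrank_pos
    have hlt : Module.finrank k C < n := by omega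
    have hT' : ∀ (T : Type u₁) [AddCommGroup T] [Module Λ T] [Module k T] [IsScalarTower k Λ T]
        [Module.Finite k T] [IsSimpleModule Λ T],
        Module.finrank k (C →ₗ[Λ] T) ≤ Module.finrank k ((LinearMap.ker g) →ₗ[Λ] T) := by
      intro T _ _ _ _ _ _
      have h1 := hT T
      rw [← finrank_hom_congr T eM, finrank_hom_congr T eN, finrank_hom_prod, finrank_hom_prod]
        at h1
      omega
    obtain ⟨h, hh⟩ := ih _ hlt C (LinearMap.ker g) rfl hT'
    refine ⟨eM.toLinearMap ∘ₗ (LinearMap.prodMap LinearMap.id h) ∘ₗ eN.toLinearMap, ?_⟩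
    rw [LinearMap.coe_comp, LinearMap.coe_comp]
    refine eM.surjective.comp (Function.Surjective.comp ?_ eN.surjective)
    exact Function.Surjective.prodMap Function.surjective_id hh

end main

end Groth.Agent.Lib.T2H2.NDeu
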