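import Mathlib
import Groth.Agent.Lib.T2H2NDeuA

/-!
# Cancellation over a finite-dimensional algebra

If `P^d ≃ Λ^d` as modules over a finite-dimensional `k`-algebra `Λ` (with `d > 0`), then `P ≃ Λ`.
-/

namespace Groth.Agent.Lib.T2H2.NDeu

section radical

variable {k : Type*} [Field k] {Λ : Type*} [Ring Λ] [Algebra k Λ]

/-- the radical quotient `X / J X` of a module -/
abbrev radQ (X : Type*) [AddCommGroup X] [Module Λ X] : Submodule Λ X :=
  Ring.jacobson Λ • (⊤ : Submodule Λ X)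

theorem isTorsionBySet_radQ (X : Type*) [AddCommGroup X] [Module Λ X] :
    Module.IsTorsionBySet Λ (X ⧸ radQ (Λ := Λ) X) (Ring.jacobson Λ) := by
  rw [Module.isTorsionBySet_quotient_iff]
  intro x a ha
  exact Submodule.smul_mem_smul ha trivial

theorem isSemisimpleModule_radQ [IsSemiprimaryRing Λ] (X : Type*) [AddCommGroup X] [Module Λ X] :
    IsSemisimpleModule Λ (X ⧸ radQ (Λ := Λ) X) := by
  have h := isTorsionBySet_radQ (Λ := Λ) X
  rw [← h.isSemisimpleModule_iff]
  infer_instance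

/-- maps to a simple module factor through the radical quotient -/
theorem finrank_hom_radQ (X T : Type*) [AddCommGroup X] [Module Λ X] [AddCommGroup T] [Module Λ T]
    [Module k T] [IsScalarTower k Λ T] [IsSimpleModule Λ T] :
    Module.finrank k ((X ⧸ radQ (Λ := Λ) X) →ₗ[Λ] T) = Module.finrank k (X →ₗ[Λ] T) := by
  let F : ((X ⧸ radQ (Λ := Λ) X) →ₗ[Λ] T) →ₗ[k] (X →ₗ[Λ] T) :=
    { toFun := fun f => f ∘ₗ (radQ (Λ := Λ) X).mkQ
      map_add' := fun f g => LinearMap.add_comp _ _ _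
      map_smul' := fun c f => LinearMap.smul_comp _ _ _ }
  have hinj : Function.Injective F := by
    intro f g hfg
    apply LinearMap.ext
    intro y
    obtain ⟨x, rfl⟩ := (radQ (Λ := Λ) X).mkQ_surjective y
    exact LinearMap.congr_fun hfg x
  have hsurj : Function.Surjective F := by
    intro g
    have hle : radQ (Λ := Λ) X ≤ LinearMap.ker g := by
      rw [Submodule.smul_le]
      intro a ha x _
      rw [LinearMap.mem_ker, map_smul]
      have h1 := IsSemisimpleModule.jacobson_le_annihilator Λ T ha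
      exact Module.mem_annihilator.mp h1 (g x)
    refine ⟨(radQ (Λ := Λ) X).liftQ g hle, ?_⟩
    apply LinearMap.ext
    intro x
    show (radQ (Λ := Λ) X).liftQ g hle ((radQ (Λ := Λ) X).mkQ x) = g x
    rw [Submodule.mkQ_apply, Submodule.liftQ_apply]
  exact LinearEquiv.finrank_eq (LinearEquiv.ofBijective F ⟨hinj, hsurj⟩)

end radical

section cancel

universe u v

variable {k : Type*} [Field k] {Λ : Type u} [Ring Λ] [Algebra k Λ] [Module.Finite k Λ]

theorem finrank_hom_pi (X T : Type*) (d : ℕ) [AddCommGroup X] [Module Λ X] [Module k X]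
    [IsScalarTower k Λ X] [Module.Finite k X] [AddCommGroup T] [Module Λ T] [Module k T]
    [IsScalarTower k Λ T] [Module.Finite k T] :
    Module.finrank k ((Fin d → X) →ₗ[Λ] T) = d * Module.finrank k (X →ₗ[Λ] T) := by
  have h1 : Module.Finite k (X →ₗ[Λ] T) := finite_hom X T
  rw [← LinearEquiv.finrank_eq (LinearMap.lsum Λ (fun _ : Fin d => X) k (M := T)),
    Module.finrank_pi_fintype]
  simp

/-- cancellation: `P^d ≃ Λ^d` implies `P ≃ Λ` -/
theorem nonempty_linearEquiv_of_pi_linearEquiv (P : Type v) [AddCommGroup P] [Module Λ P]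
    [Module k P] [IsScalarTower k Λ P] [Module.Finite k P] (d : ℕ) (hd : 0 < d)
    (e : (Fin d → P) ≃ₗ[Λ] (Fin d → Λ)) : Nonempty (P ≃ₗ[Λ] Λ) := by
  classical
  have hart : IsArtinianRing Λ := IsArtinianRing.of_finite k Λ
  have hsp : IsSemiprimaryRing Λ := inferInstance
  -- `P` is projective
  have hproj : Module.Projective Λ P := by
    have hfree : Module.Projective Λ (Fin d → P) := Module.Projective.of_equiv e.symm
    exact Module.Projective.of_split (LinearMap.single Λ (fun _ : Fin d => P) ⟨0, hd⟩)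
      (LinearMap.proj ⟨0, hd⟩) (by
        apply LinearMap.ext
        intro x
        simp)
  -- dimensions
  have hdim : Module.finrank k P = Module.finrank k Λ := by
    have h1 := LinearEquiv.finrank_eq (e.restrictScalars k)
    rw [Module.finrank_pi_fintype, Module.finrank_pi_fintype] at h1
    simp only [Finset.sum_const, Finset.card_univ, Fintype.card_fin, smul_eq_mul] at h1
    exact Nat.eq_of_mul_eq_mul_left hd h1
  have hss1 : IsSemisimpleModule Λ (Λ ⧸ radQ (Λ := Λ) Λ) := isSemisimpleModule_radQ Λ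
  have hss2 : IsSemisimpleModule Λ (P ⧸ radQ (Λ := Λ) P) := isSemisimpleModule_radQ P
  have hf1 : Module.Finite k (Λ ⧸ radQ (Λ := Λ) Λ) :=
    Module.Finite.of_surjective ((radQ (Λ := Λ) Λ).mkQ.restrictScalars k)
      (radQ (Λ := Λ) Λ).mkQ_surjective
  have hf2 : Module.Finite k (P ⧸ radQ (Λ := Λ) P) :=
    Module.Finite.of_surjective ((radQ (Λ := Λ) P).mkQ.restrictScalars k)
      (radQ (Λ := Λ) P).mkQ_surjective
  have hT : ∀ (T : Type u) [AddCommGroup T] [Module Λ T] [Module k T] [IsScalarTower k Λ T]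
      [Module.Finite k T] [IsSimpleModule Λ T],
      Module.finrank k ((Λ ⧸ radQ (Λ := Λ) Λ) →ₗ[Λ] T) ≤
        Module.finrank k ((P ⧸ radQ (Λ := Λ) P) →ₗ[Λ] T) := by
    intro T _ _ _ _ _ _
    rw [finrank_hom_radQ, finrank_hom_radQ]
    have h1 := finrank_hom_congr (k := k) T e
    rw [finrank_hom_pi, finrank_hom_pi] at h1
    exact le_of_eq (Nat.eq_of_mul_eq_mul_left hd h1).symm
  obtain ⟨ψ, hψ⟩ := exists_surjective_of_finrank_hom_le (k := k) (Λ := Λ) _
    (Λ ⧸ radQ (Λ := Λ) Λ) (P ⧸ radQ (Λ := Λ) P) rfl hT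
  -- lift to `P → Λ`
  obtain ⟨φ, hφ⟩ := Module.projective_lifting_property (radQ (Λ := Λ) Λ).mkQ
    (ψ ∘ₗ (radQ (Λ := Λ) P).mkQ) (radQ (Λ := Λ) Λ).mkQ_surjective
  -- `φ` is surjective
  obtain ⟨y, hy⟩ := hψ ((radQ (Λ := Λ) Λ).mkQ 1)
  obtain ⟨p, rfl⟩ := (radQ (Λ := Λ) P).mkQ_surjective y
  have h1 : (radQ (Λ := Λ) Λ).mkQ (φ p) = (radQ (Λ := Λ) Λ).mkQ 1 := by
    rw [← hy]
    exact LinearMap.congr_fun hφ p
  have h2 : 1 - φ p ∈ Ring.jacobson Λ := by
    have h3 : 1 - φ p ∈ radQ (Λ := Λ) Λ := by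
      rw [← Submodule.Quotient.mk_eq_zero, Submodule.Quotient.mk_sub]
      rw [Submodule.mkQ_apply, Submodule.mkQ_apply] at h1
      rw [h1, sub_self]
    have hle : radQ (Λ := Λ) Λ ≤ Ring.jacobson Λ := by
      rw [Submodule.smul_le]
      intro a ha x _
      rw [smul_eq_mul]
      exact Ideal.mul_mem_right _ _ ha
    exact hle h3
  have hnil : IsNilpotent (1 - φ p) := by
    obtain ⟨n, hn⟩ := (IsSemiprimaryRing.isNilpotent (R := Λ))
    refine ⟨n, ?_⟩
    have h3 : (1 - φ p) ^ n ∈ Ring.jacobson Λ ^ n := Ideal.pow_mem_pow h2 n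
    rw [hn] at h3
    exact h3
  have hunit : IsUnit (φ p) := by
    have := hnil.isUnit_one_sub
    rwa [sub_sub_cancel] at this
  obtain ⟨u, hu⟩ := hunit
  have hφs : Function.Surjective φ := by
    intro lam
    refine ⟨(lam * ((u⁻¹ : Λˣ) : Λ)) • p, ?_⟩
    rw [map_smul, smul_eq_mul, ← hu, mul_assoc, Units.inv_mul, mul_one]
  have hφi : Function.Injective φ := by
    have := (LinearMap.injective_iff_surjective_of_finrank_eq_finrank
      (f := φ.restrictScalars k) hdim).2 hφs
    exact this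
  exact ⟨LinearEquiv.ofBijective φ ⟨hφi, hφs⟩⟩

end cancel

end Groth.Agent.Lib.T2H2.NDeu
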