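import Mathlib
import Groth.Prelude.Def_GSzCSA
import Groth.Agent.Lib.T2H2NDeuB
import Groth.Agent.Lib.Helper23GalDescent

/-!
# Hilbert 90 for the units of `K ⊗ A`, `A` a finite-dimensional algebra

For a finite Galois extension `K/k` and a finite-dimensional `k`-algebra `A`, every 1-cocycle of
`Gal(K/k)` with values in `(K ⊗ A)ˣ` is a coboundary.
-/

namespace Groth.Agent.Lib.T2H2.NDeu

open scoped TensorProduct

attribute [local instance] CSAGal.tensorAction GpH1.unitsAction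

universe u v w

section

variable (k : Type u) [Field k] (K : Type v) [Field K] [Algebra k K]
  (A : Type w) [Ring A] [Algebra k A]

/-- right multiplication by `A` on `K ⊗ A` -/
@[reducible] noncomputable def rightModule : Module Aᵐᵒᵖ (K ⊗[k] A) :=
  Module.compHom (K ⊗[k] A)
    ((Algebra.TensorProduct.includeRight : A →ₐ[k] K ⊗[k] A).toRingHom.op)

end

section

variable {k : Type u} [Field k] {K : Type v} [Field K] [Algebra k K]
  {A : Type w} [Ring A] [Algebra k A]

attribute [local instance] rightModule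

theorem op_smul_eq (a : Aᵐᵒᵖ) (v : K ⊗[k] A) :
    a • v = v * ((1 : K) ⊗ₜ[k] a.unop) := rfl

theorem isScalarTower_right : IsScalarTower k Aᵐᵒᵖ (K ⊗[k] A) := by
  refine ⟨fun c a v => ?_⟩
  rw [op_smul_eq, op_smul_eq, MulOpposite.unop_smul, TensorProduct.tmul_smul, mul_smul_comm]

attribute [local instance] isScalarTower_right

theorem smul_algebraMap (σ : K ≃ₐ[k] K) (c : K) :
    σ • (algebraMap K (K ⊗[k] A) c) = algebraMap K (K ⊗[k] A) (σ c) := by
  rw [Algebra.TensorProduct.algebraMap_apply, Algebra.TensorProduct.algebraMap_apply,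
    TensorProduct.smul_tmul']
  rfl

theorem smul_one_tmul (σ : K ≃ₐ[k] K) (a : A) :
    σ • ((1 : K) ⊗ₜ[k] a : K ⊗[k] A) = (1 : K) ⊗ₜ[k] a := by
  rw [TensorProduct.smul_tmul', smul_one]

variable (c : GpH1.OneCocycle (K ≃ₐ[k] K) (K ⊗[k] A)ˣ)

/-- the twisted action -/
noncomputable def twist (σ : K ≃ₐ[k] K) (v : K ⊗[k] A) : K ⊗[k] A :=
  ((c σ : (K ⊗[k] A)ˣ) : K ⊗[k] A) * σ • v

theorem cocycle_val (σ τ : K ≃ₐ[k] K) :
    ((c (σ * τ) : (K ⊗[k] A)ˣ) : K ⊗[k] A) =
      ((c σ : (K ⊗[k] A)ˣ) : K ⊗[k] A) * σ • ((c τ : (K ⊗[k] A)ˣ) : K ⊗[k] A) := by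
  rw [c.2 σ τ, Units.val_mul]
  rfl

theorem cocycle_one : ((c 1 : (K ⊗[k] A)ˣ) : K ⊗[k] A) = 1 := by
  have h := c.2 1 1
  rw [one_smul, mul_one] at h
  have h2 : (c 1 : (K ⊗[k] A)ˣ) = 1 := by
    have h3 : (c 1 : (K ⊗[k] A)ˣ) * 1 = (c 1 : (K ⊗[k] A)ˣ) * (c 1 : (K ⊗[k] A)ˣ) := by
      rw [mul_one]
      exact h
    exact (mul_left_cancel h3).symm
  rw [h2, Units.val_one]

theorem isSemilinearAction_twist :
    Groth.Agent.Lib.Helper23.IsSemilinearAction (k := k) (K := K) (twist c) where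
  map_add σ x y := by
    unfold twist
    rw [smul_add, mul_add]
  map_smul σ a x := by
    unfold twist
    rw [Algebra.smul_def, Algebra.smul_def, smul_mul', smul_algebraMap, ← mul_assoc, ← mul_assoc,
      Algebra.commutes]
  map_mul σ τ x := by
    unfold twist
    rw [cocycle_val, smul_mul', mul_smul, mul_assoc]
  map_one x := by
    unfold twist
    rw [cocycle_one, one_smul, one_mul]

/-- the fixed vectors of the twisted action, as a right `A`-submodule -/
noncomputable def fixedSub : Submodule Aᵐᵒᵖ (K ⊗[k] A) where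
  carrier := {v | ∀ σ, twist c σ v = v}
  add_mem' := by
    intro x y hx hy σ
    rw [(isSemilinearAction_twist c).map_add, hx σ, hy σ]
  zero_mem' := by
    intro σ
    exact (isSemilinearAction_twist c).map_zero σ
  smul_mem' := by
    intro a x hx σ
    rw [op_smul_eq]
    unfold twist
    rw [smul_mul', smul_one_tmul, ← mul_assoc]
    congr 1
    exact hx σ

theorem mem_fixedSub (v : K ⊗[k] A) : v ∈ fixedSub c ↔ ∀ σ, twist c σ v = v := Iff.rfl

end

section basis

variable {k : Type u} [Field k] {K : Type v} [Field K] [Algebra k K]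

theorem bijective_sum_tmul {d : ℕ} (κ : Module.Basis (Fin d) k K) (N : Type*) [AddCommGroup N]
    [Module k N] :
    Function.Bijective (fun w : Fin d → N => ∑ j, κ j ⊗ₜ[k] w j) := by
  let T : (Fin d → N) ≃ₗ[k] K ⊗[k] N :=
    (Finsupp.linearEquivFunOnFinite k N (Fin d)).symm ≪≫ₗ
      (TensorProduct.equivFinsuppOfBasisLeft κ).symm
  have hT : ∀ w : Fin d → N, T w = ∑ j, κ j ⊗ₜ[k] w j := by
    intro w
    show (TensorProduct.equivFinsuppOfBasisLeft κ).symm
      ((Finsupp.linearEquivFunOnFinite k N (Fin d)).symm w) = _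
    rw [TensorProduct.equivFinsuppOfBasisLeft_symm_apply, Finsupp.sum_fintype _ _ (by simp)]
    rfl
  have : (fun w : Fin d → N => ∑ j, κ j ⊗ₜ[k] w j) = ⇑T := by
    funext w
    exact (hT w).symm
  rw [this]
  exact T.bijective

end basis

section main

variable {k : Type u} [Field k] {K : Type v} [Field K] [Algebra k K] [FiniteDimensional k K]
  [IsGalois k K] {A : Type w} [Ring A] [Algebra k A] [FiniteDimensional k A]

attribute [local instance] rightModule isScalarTower_right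

variable (c : GpH1.OneCocycle (K ≃ₐ[k] K) (K ⊗[k] A)ˣ)

/-- `(w_j) ↦ ∑ κ_j • w_j` on fixed vectors -/
noncomputable def sumMap {d : ℕ} (κ : Module.Basis (Fin d) k K) :
    (Fin d → fixedSub c) →ₗ[Aᵐᵒᵖ] (K ⊗[k] A) where
  toFun w := ∑ j, κ j • ((w j : fixedSub c) : K ⊗[k] A)
  map_add' := by
    intro w w'
    simp only [Pi.add_apply, Submodule.coe_add, smul_add, Finset.sum_add_distrib]
  map_smul' := by
    intro a w
    simp only [RingHom.id_apply, Pi.smul_apply, Submodule.coe_smul, op_smul_eq, Finset.sum_mul,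
      smul_mul_assoc]

theorem bijective_sumMap {d : ℕ} (κ : Module.Basis (Fin d) k K) :
    Function.Bijective (sumMap c κ) := by
  let ι : fixedSub c →ₗ[k] K ⊗[k] A := (fixedSub c).subtype.restrictScalars k
  have hι : Function.Injective ι := (fixedSub c).subtype_injective
  have hW : ∀ x : K ⊗[k] A, x ∈ LinearMap.range ι ↔ ∀ σ, twist c σ x = x := by
    intro x
    constructor
    · rintro ⟨w, rfl⟩
      exact w.2
    · intro h
      exact ⟨⟨x, h⟩, rfl⟩
  have hb := (isSemilinearAction_twist c).bijective_liftBaseChange ι hι hW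
  have h2 := bijective_sum_tmul κ (fixedSub c)
  have : ⇑(sumMap c κ) = ⇑(ι.liftBaseChange K) ∘ (fun w : Fin d → fixedSub c =>
      ∑ j, κ j ⊗ₜ[k] w j) := by
    funext w
    show ∑ j, κ j • ((w j : fixedSub c) : K ⊗[k] A) = (ι.liftBaseChange K) (∑ j, κ j ⊗ₜ[k] w j)
    rw [map_sum]
    apply Finset.sum_congr rfl
    intro j _
    rw [LinearMap.liftBaseChange_tmul]
    rfl
  rw [this]
  exact hb.comp h2

/-- `(a_j) ↦ ∑ κ_j ⊗ a_j` -/
noncomputable def tmulMap {d : ℕ} (κ : Module.Basis (Fin d) k K) :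
    (Fin d → Aᵐᵒᵖ) →ₗ[Aᵐᵒᵖ] (K ⊗[k] A) where
  toFun a := ∑ j, κ j ⊗ₜ[k] (a j).unop
  map_add' := by
    intro a a'
    simp only [Pi.add_apply, MulOpposite.unop_add, TensorProduct.tmul_add, Finset.sum_add_distrib]
  map_smul' := by
    intro b a
    simp only [RingHom.id_apply, Pi.smul_apply, op_smul_eq, Finset.sum_mul, smul_eq_mul,
      MulOpposite.unop_mul, Algebra.TensorProduct.tmul_mul_tmul, mul_one]

theorem bijective_tmulMap {d : ℕ} (κ : Module.Basis (Fin d) k K) :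
    Function.Bijective (tmulMap (A := A) κ) := by
  have h2 := bijective_sum_tmul κ A
  have h3 : Function.Bijective (fun (a : Fin d → Aᵐᵒᵖ) (j : Fin d) => (a j).unop) := by
    constructor
    · intro a a' h
      funext j
      exact MulOpposite.unop_injective (congrFun h j)
    · intro a
      exact ⟨fun j => MulOpposite.op (a j), rfl⟩
  have : ⇑(tmulMap (A := A) κ) = (fun w : Fin d → A => ∑ j, κ j ⊗ₜ[k] w j) ∘
      (fun (a : Fin d → Aᵐᵒᵖ) (j : Fin d) => (a j).unop) := rfl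
  rw [this]
  exact h2.comp h3

/-- Hilbert 90 for the units of `K ⊗ A` -/
theorem h1_units_trivial : GpH1.H1.IsTrivial (K ≃ₐ[k] K) (K ⊗[k] A)ˣ := by
  intro x
  obtain ⟨c, rfl⟩ := GpH1.OneCocycle.cl_surjective x
  unfold GpH1.H1.pt
  rw [GpH1.OneCocycle.cl_eq_cl_iff]
  have hd : 0 < Module.finrank k K := Module.finrank_pos
  let κ : Module.Basis (Fin (Module.finrank k K)) k K := Module.finBasis k K
  let e₁ : (Fin (Module.finrank k K) → fixedSub c) ≃ₗ[Aᵐᵒᵖ] (K ⊗[k] A) :=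
    LinearEquiv.ofBijective (sumMap c κ) (bijective_sumMap c κ)
  let e₂ : (Fin (Module.finrank k K) → Aᵐᵒᵖ) ≃ₗ[Aᵐᵒᵖ] (K ⊗[k] A) :=
    LinearEquiv.ofBijective (tmulMap κ) (bijective_tmulMap κ)
  have hfinW : Module.Finite k (fixedSub c) :=
    Module.Finite.of_injective ((fixedSub c).subtype.restrictScalars k)
      (fixedSub c).subtype_injective
  have hfinop : Module.Finite k Aᵐᵒᵖ := Module.Finite.equiv (MulOpposite.opLinearEquiv k)
  obtain ⟨Φ⟩ := nonempty_linearEquiv_of_pi_linearEquiv (k := k) (Λ := Aᵐᵒᵖ) (fixedSub c)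
    (Module.finrank k K) hd (e₁.trans e₂.symm)
  set b₀ : K ⊗[k] A := ((Φ.symm 1 : fixedSub c) : K ⊗[k] A) with hb₀
  have hΦ : ∀ w : fixedSub c, (w : K ⊗[k] A) = b₀ * ((1 : K) ⊗ₜ[k] (Φ w).unop) := by
    intro w
    have h1 : w = (Φ w) • Φ.symm 1 := by
      rw [← map_smul, smul_eq_mul, mul_one, Φ.symm_apply_apply]
    conv_lhs => rw [h1]
    rfl
  obtain ⟨w, hw⟩ := (bijective_sumMap c κ).2 1
  have h1 : b₀ * (∑ j, κ j • ((1 : K) ⊗ₜ[k] (Φ (w j)).unop : K ⊗[k] A)) = 1 := by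
    rw [← hw]
    show _ = ∑ j, κ j • ((w j : fixedSub c) : K ⊗[k] A)
    rw [Finset.mul_sum]
    apply Finset.sum_congr rfl
    intro j _
    rw [mul_smul_comm, ← hΦ]
  have hart : IsArtinianRing (K ⊗[k] A) := IsArtinianRing.of_finite k _
  have hunit : IsUnit b₀ := IsUnit.of_mul_eq_one _ h1
  obtain ⟨β, hβ⟩ := hunit
  refine ⟨β⁻¹, fun σ => ?_⟩
  have hfix : ((c σ : (K ⊗[k] A)ˣ) : K ⊗[k] A) * σ • b₀ = b₀ := (Φ.symm 1).2 σ
  have h2 : c σ * σ • β = β := by
    apply Units.ext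
    rw [Units.val_mul]
    show ((c σ : (K ⊗[k] A)ˣ) : K ⊗[k] A) * σ • (β : K ⊗[k] A) = β
    rw [hβ]
    exact hfix
  rw [inv_inv, smul_inv']
  show c σ = β * 1 * (σ • β)⁻¹
  rw [mul_one, eq_mul_inv_iff_mul_eq]
  exact h2

end main

end Groth.Agent.Lib.T2H2.NDeu
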