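import Mathlib
import Groth.Prelude.Def_SheafNL

/-!
# Helpers on the two-term naive cotangent complex `NLCx.cx` (T2 helper2)
-/

set_option autoImplicit false
set_option linter.style.haveILetI false

universe u

open CategoryTheory CategoryTheory.Limits TensorProduct

namespace Groth.Agent.Lib.T2H2.NLCx

section IsoCrit

variable {R S : Type u} [CommRing R] [CommRing S] [Algebra R S]
variable {R' : Type u} [CommRing R'] [Algebra R' S] [Algebra R R'] [IsScalarTower R R' S]
variable {P : Algebra.Extension.{u} R S} {P' : Algebra.Extension.{u} R' S}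

/-- A chain map `NLCx.map f` is an isomorphism as soon as both components are bijective. -/
theorem isIso_map (f : P.Hom P')
    (h1 : Function.Bijective (Algebra.Extension.Cotangent.map f))
    (h2 : Function.Bijective (Algebra.Extension.CotangentSpace.map f)) :
    IsIso (NLCx.map f) := by
  have hc : ∀ n : ℤ, IsIso ((NLCx.map f).f n) := by
    intro n
    by_cases hn1 : n = -1
    · subst hn1
      have e : (NLCx.map f).f (-1) =
          (HomologicalComplex.doubleXIso₀ (ModuleCat.ofHom P.cotangentComplex)
            (show (ComplexShape.up ℤ).Rel (-1) 0 by simp)).hom ≫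
          (ModuleCat.ofHom (Algebra.Extension.Cotangent.map f) ≫
            (HomologicalComplex.doubleXIso₀ (ModuleCat.ofHom P'.cotangentComplex) _).inv) := by
        unfold NLCx.map
        exact HomologicalComplex.mkHomFromDouble_f₀ _ _ _ _ _ _
      rw [e]
      have hi : IsIso (ModuleCat.ofHom (Algebra.Extension.Cotangent.map f)) :=
        (ConcreteCategory.isIso_iff_bijective _).mpr h1
      exact IsIso.comp_isIso' inferInstance (IsIso.comp_isIso' hi inferInstance)
    · by_cases hn0 : n = 0
      · subst hn0
        have e : (NLCx.map f).f 0 =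
            (HomologicalComplex.doubleXIso₁ (ModuleCat.ofHom P.cotangentComplex)
              (show (ComplexShape.up ℤ).Rel (-1) 0 by simp) (by decide)).hom ≫
            (ModuleCat.ofHom (Algebra.Extension.CotangentSpace.map f) ≫
              (HomologicalComplex.doubleXIso₁ (ModuleCat.ofHom P'.cotangentComplex) _
                (by decide)).inv) := by
          unfold NLCx.map
          exact HomologicalComplex.mkHomFromDouble_f₁ _ _ _ _ _ _
        rw [e]
        have hi : IsIso (ModuleCat.ofHom (Algebra.Extension.CotangentSpace.map f)) :=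
          (ConcreteCategory.isIso_iff_bijective _).mpr h2
        exact IsIso.comp_isIso' inferInstance (IsIso.comp_isIso' hi inferInstance)
      · have hs : IsZero ((NLCx.cx P).X n) :=
          HomologicalComplex.isZero_double_X _ _ n hn1 hn0
        have ht : IsZero ((NLCx.cx P').X n) :=
          HomologicalComplex.isZero_double_X _ _ n hn1 hn0
        exact ⟨⟨0, hs.eq_of_src _ _, ht.eq_of_src _ _⟩⟩
  exact HomologicalComplex.Hom.isIso_of_components _

end IsoCrit

section Localization

variable {R S : Type u} [CommRing R] [CommRing S] [Algebra R S]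
variable {R' : Type u} [CommRing R'] [Algebra R' S] [Algebra R R'] [IsScalarTower R R' S]
variable {P : Algebra.Extension.{u} R S} {P' : Algebra.Extension.{u} R' S}

/-- If the ring map of a morphism of extensions of the same ring `S` is a localization at a
submonoid whose elements become units in `S`, the induced map on `I/I²` is bijective. -/
theorem cotangent_map_bijective_of_isLocalization (f : P.Hom P') (N : Submonoid P.Ring)
    (hloc : @IsLocalization P.Ring _ N P'.Ring _ f.toRingHom.toAlgebra)
    (hunit : ∀ n ∈ N, IsUnit (algebraMap P.Ring S n)) :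
    Function.Bijective (Algebra.Extension.Cotangent.map f) := by
  letI : Algebra P.Ring P'.Ring := f.toRingHom.toAlgebra
  haveI : IsLocalization N P'.Ring := hloc
  have hφ : ∀ x : P.Ring, algebraMap P.Ring P'.Ring x = f.toRingHom x := fun _ => rfl
  have hker : ∀ x : P.Ring, f.toRingHom x ∈ P'.ker ↔ x ∈ P.ker := by
    intro x
    have h := f.algebraMap_toRingHom x
    simp only [Algebra.Extension.ker, RingHom.mem_ker]
    rw [h]
    rfl
  -- elements of `N` act invertibly on the cotangent modules
  have hsmul : ∀ n ∈ N, ∀ x : P.Cotangent, n • x = 0 → x = 0 := by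
    intro n hn x hx
    rw [← algebraMap_smul S n x] at hx
    obtain ⟨u, hu⟩ := hunit n hn
    rw [← hu] at hx
    have := congrArg (fun y => (↑u⁻¹ : S) • y) hx
    simpa [smul_smul] using this
  constructor
  · -- injective
    rw [injective_iff_map_eq_zero]
    intro x hx
    obtain ⟨⟨p, hp⟩, rfl⟩ := Algebra.Extension.Cotangent.mk_surjective x
    rw [Algebra.Extension.Cotangent.map_mk, Algebra.Extension.Cotangent.mk_eq_zero_iff] at hx
    have hx' : algebraMap P.Ring P'.Ring p ∈ (P.ker ^ 2).map (algebraMap P.Ring P'.Ring) := by
      have h1 : P'.ker = P.ker.map (algebraMap P.Ring P'.Ring) := by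
        have h2 : P.ker = P'.ker.comap (algebraMap P.Ring P'.Ring) := by
          ext y
          rw [Ideal.mem_comap, hφ, hker]
        rw [h2, IsLocalization.map_comap N]
      rw [Ideal.map_pow, ← h1]
      exact hx
    rw [IsLocalization.algebraMap_mem_map_algebraMap_iff N] at hx'
    obtain ⟨m, hm, hmp⟩ := hx'
    apply hsmul m hm
    rw [← map_smul, Algebra.Extension.Cotangent.mk_eq_zero_iff]
    exact hmp
  · -- surjective
    intro y
    obtain ⟨⟨y', hy'⟩, rfl⟩ := Algebra.Extension.Cotangent.mk_surjective y
    obtain ⟨⟨p, s⟩, hps⟩ := IsLocalization.surj N y'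
    have hps' : y' * f.toRingHom s = f.toRingHom p := hps
    have hp : p ∈ P.ker := by
      rw [← hker, ← hps']
      exact Ideal.mul_mem_right _ _ hy'
    obtain ⟨u, hu⟩ := hunit s s.2
    refine ⟨(↑u⁻¹ : S) • Algebra.Extension.Cotangent.mk ⟨p, hp⟩, ?_⟩
    rw [map_smul, Algebra.Extension.Cotangent.map_mk]
    have h3 : (Algebra.Extension.Cotangent.mk
        ⟨f.toAlgHom p, (hker p).mpr hp⟩ : P'.Cotangent) =
        (f.toRingHom s) • Algebra.Extension.Cotangent.mk ⟨y', hy'⟩ := by
      rw [← map_smul]
      congr 1
      ext
      change f.toRingHom p = f.toRingHom s * y'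
      rw [← hps', mul_comm]
    rw [h3, ← algebraMap_smul S (f.toRingHom (s : P.Ring))
      (Algebra.Extension.Cotangent.mk ⟨y', hy'⟩ : P'.Cotangent)]
    have h4 : algebraMap P'.Ring S (f.toRingHom s) = u := by
      rw [f.algebraMap_toRingHom, hu]
      rfl
    rw [h4, smul_smul]
    simp

end Localization

end Groth.Agent.Lib.T2H2.NLCx
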