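import Mathlib
import Groth.Prelude.Def_SheafNL
import Groth.Agent.Lib.T2H2NLBC

/-!
# The kernel of the base change map on `H^{-1}` of naive cotangent complexes (T2 helper2)
-/

set_option autoImplicit false
set_option linter.unusedSectionVars false

universe u

open CategoryTheory CategoryTheory.Limits TensorProduct

namespace Groth.Agent.Lib.T2H2.NLKer

section Retract

variable {R S : Type u} [CommRing R] [CommRing S] [Algebra R S]
  {P₁ P₂ : Algebra.Extension.{u} R S}

/-- `id = Cot(b) ∘ Cot(a) - s ∘ d` on the conormal module. -/
theorem cotangent_retract_eq (a : P₁.Hom P₂) (b : P₂.Hom P₁) (x : P₁.Cotangent) :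
    x = Algebra.Extension.Cotangent.map b (Algebra.Extension.Cotangent.map a x)
      - ((b.comp a).sub (Algebra.Extension.Hom.id P₁)) (P₁.cotangentComplex x) := by
  have h1 := Algebra.Extension.Cotangent.map_sub_map (b.comp a) (Algebra.Extension.Hom.id P₁)
  have h2 := LinearMap.congr_fun h1 x
  rw [LinearMap.sub_apply, Algebra.Extension.Cotangent.map_id, LinearMap.id_apply,
    Algebra.Extension.Cotangent.map_comp] at h2
  simp only [LinearMap.coe_comp, LinearMap.coe_restrictScalars, Function.comp_apply] at h2
  rw [← h2]
  abel

/-- The conormal module of one extension is a retract of the sum of the conormal module of another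
and its own cotangent space. -/
theorem cotangent_projective_of (a : P₁.Hom P₂) (b : P₂.Hom P₁)
    [Module.Projective S P₂.Cotangent] [Module.Projective S P₁.CotangentSpace] :
    Module.Projective S P₁.Cotangent := by
  let i : P₁.Cotangent →ₗ[S] P₂.Cotangent × P₁.CotangentSpace :=
    (Algebra.Extension.Cotangent.map a).prod P₁.cotangentComplex
  let r : P₂.Cotangent × P₁.CotangentSpace →ₗ[S] P₁.Cotangent :=
    (Algebra.Extension.Cotangent.map b).coprod
      (-((b.comp a).sub (Algebra.Extension.Hom.id P₁)))
  refine Module.Projective.of_split i r ?_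
  ext x
  simp only [LinearMap.coe_comp, Function.comp_apply, LinearMap.id_coe, id_eq, i, r,
    LinearMap.prod_apply, LinearMap.coprod_apply, LinearMap.neg_apply]
  rw [← sub_eq_add_neg]
  exact (cotangent_retract_eq a b x).symm

theorem cotangent_finite_of (a : P₁.Hom P₂) (b : P₂.Hom P₁)
    [Module.Finite S P₂.Cotangent] [Module.Finite S P₁.CotangentSpace] :
    Module.Finite S P₁.Cotangent := by
  let r : P₂.Cotangent × P₁.CotangentSpace →ₗ[S] P₁.Cotangent :=
    (Algebra.Extension.Cotangent.map b).coprod
      (-((b.comp a).sub (Algebra.Extension.Hom.id P₁)))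
  refine Module.Finite.of_surjective r ?_
  intro x
  refine ⟨(Algebra.Extension.Cotangent.map a x, P₁.cotangentComplex x), ?_⟩
  simp only [r, LinearMap.coprod_apply, LinearMap.neg_apply]
  rw [← sub_eq_add_neg]
  exact (cotangent_retract_eq a b x).symm

end Retract

section Indep

variable {R S R' S' : Type u} [CommRing R] [CommRing S] [CommRing R'] [CommRing S']
  [Algebra R S] [Algebra R' S'] [Algebra R R'] [Algebra S S'] [Algebra R S']
  [IsScalarTower R R' S'] [IsScalarTower R S S']
  {P : Algebra.Extension.{u} R S} {P' : Algebra.Extension.{u} R' S'}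

/-- independence of the hom, on the kernel of the tensored differential. -/
theorem liftBaseChange_cotangent_map_eq (f g : P.Hom P') (x : S' ⊗[S] P.Cotangent)
    (hx : x ∈ NLCx.bcH1 P S') :
    LinearMap.liftBaseChange S' (Algebra.Extension.Cotangent.map f) x
      = LinearMap.liftBaseChange S' (Algebra.Extension.Cotangent.map g) x := by
  have key : LinearMap.liftBaseChange S' (Algebra.Extension.Cotangent.map f)
        - LinearMap.liftBaseChange S' (Algebra.Extension.Cotangent.map g)
      = LinearMap.liftBaseChange S' (f.sub g) ∘ₗ P.cotangentComplex.baseChange S' := by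
    apply TensorProduct.AlgebraTensorModule.ext
    intro s c
    have h1 := LinearMap.congr_fun (Algebra.Extension.Cotangent.map_sub_map f g) c
    rw [LinearMap.sub_apply, LinearMap.comp_apply] at h1
    rw [LinearMap.sub_apply, LinearMap.comp_apply, LinearMap.liftBaseChange_tmul,
      LinearMap.liftBaseChange_tmul, LinearMap.baseChange_tmul, LinearMap.liftBaseChange_tmul,
      ← smul_sub, h1]
  have h2 := LinearMap.congr_fun key x
  have hx' : (P.cotangentComplex.baseChange S') x = 0 := hx
  rw [LinearMap.sub_apply, LinearMap.comp_apply, hx', map_zero, sub_eq_zero] at h2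
  exact h2

end Indep

section Comp

variable {R S R' S' : Type u} [CommRing R] [CommRing S] [CommRing R'] [CommRing S']
  [Algebra R S] [Algebra R' S'] [Algebra R R'] [Algebra S S'] [Algebra R S']
  [IsScalarTower R R' S'] [IsScalarTower R S S']
  {P₀ P : Algebra.Extension.{u} R S} {P' P'' : Algebra.Extension.{u} R' S'}

theorem liftBaseChange_comp_left (a : P₀.Hom P) (f : P.Hom P') (z : S' ⊗[S] P₀.Cotangent) :
    LinearMap.liftBaseChange S' (Algebra.Extension.Cotangent.map (f.comp a)) z
      = LinearMap.liftBaseChange S' (Algebra.Extension.Cotangent.map f)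
          ((Algebra.Extension.Cotangent.map a).baseChange S' z) := by
  induction z with
  | zero => simp
  | add x y hx hy => simp only [map_add, hx, hy]
  | tmul s c =>
    rw [LinearMap.liftBaseChange_tmul, LinearMap.baseChange_tmul, LinearMap.liftBaseChange_tmul,
      Algebra.Extension.Cotangent.map_comp]
    rfl

theorem liftBaseChange_comp_right (f : P.Hom P') (g : P'.Hom P'') (z : S' ⊗[S] P.Cotangent) :
    LinearMap.liftBaseChange S' (Algebra.Extension.Cotangent.map (g.comp f)) z
      = Algebra.Extension.Cotangent.map g
          (LinearMap.liftBaseChange S' (Algebra.Extension.Cotangent.map f) z) := by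
  induction z with
  | zero => simp
  | add a b ha hb => simp only [map_add, ha, hb]
  | tmul s c =>
    rw [LinearMap.liftBaseChange_tmul, LinearMap.liftBaseChange_tmul, map_smul,
      Algebra.Extension.Cotangent.map_comp]
    rfl

theorem baseChange_cotangent_map_mem (a : P₀.Hom P) (z : S' ⊗[S] P₀.Cotangent)
    (hz : z ∈ NLCx.bcH1 P₀ S') :
    (Algebra.Extension.Cotangent.map a).baseChange S' z ∈ NLCx.bcH1 P S' := by
  have key : P.cotangentComplex.baseChange S' ∘ₗ (Algebra.Extension.Cotangent.map a).baseChange S'
      = (Algebra.Extension.CotangentSpace.map a).baseChange S'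
          ∘ₗ P₀.cotangentComplex.baseChange S' := by
    apply TensorProduct.AlgebraTensorModule.ext
    intro s c
    simp only [LinearMap.comp_apply, LinearMap.baseChange_tmul,
      Algebra.Extension.CotangentSpace.map_cotangentComplex]
  have h2 := LinearMap.congr_fun key z
  have hz' : (P₀.cotangentComplex.baseChange S') z = 0 := hz
  rw [LinearMap.comp_apply, LinearMap.comp_apply, hz', map_zero] at h2
  exact h2

theorem baseChange_cotangent_map_retract (a : P₀.Hom P) (b : P.Hom P₀)
    (z : S' ⊗[S] P₀.Cotangent) (hz : z ∈ NLCx.bcH1 P₀ S') :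
    (Algebra.Extension.Cotangent.map b).baseChange S'
      ((Algebra.Extension.Cotangent.map a).baseChange S' z) = z := by
  have key : (Algebra.Extension.Cotangent.map b).baseChange S'
        ∘ₗ (Algebra.Extension.Cotangent.map a).baseChange S' - LinearMap.id
      = ((b.comp a).sub (Algebra.Extension.Hom.id P₀)).baseChange S'
          ∘ₗ P₀.cotangentComplex.baseChange S' := by
    apply TensorProduct.AlgebraTensorModule.ext
    intro s c
    simp only [LinearMap.sub_apply, LinearMap.comp_apply, LinearMap.baseChange_tmul,
      LinearMap.id_apply, ← TensorProduct.tmul_sub]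
    congr 1
    have := cotangent_retract_eq a b c
    exact sub_eq_of_eq_add (sub_eq_iff_eq_add'.mp this.symm)
  have h2 := LinearMap.congr_fun key z
  have hz' : (P₀.cotangentComplex.baseChange S') z = 0 := hz
  rw [LinearMap.sub_apply, LinearMap.comp_apply, LinearMap.comp_apply, hz', map_zero,
    LinearMap.id_apply, sub_eq_zero] at h2
  exact h2

end Comp

section KerSurj

variable {S M N : Type*} [CommRing S] [AddCommGroup M] [Module S M] [AddCommGroup N] [Module S N]

/-- The kernel of a surjection from a finite projective module onto a projective module is finite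
projective. -/
theorem ker_finite_projective_of_surjective (α : M →ₗ[S] N) (hα : Function.Surjective α)
    [Module.Finite S M] [Module.Projective S M] [Module.Projective S N] :
    Module.Finite S (LinearMap.ker α) ∧ Module.Projective S (LinearMap.ker α) := by
  obtain ⟨σ, hσ⟩ := Module.projective_lifting_property α LinearMap.id hα
  let r : M →ₗ[S] LinearMap.ker α :=
    LinearMap.codRestrict (LinearMap.ker α) (LinearMap.id - σ ∘ₗ α) (fun m => by
      have h1 := LinearMap.congr_fun hσ (α m)
      simp only [LinearMap.comp_apply, LinearMap.id_apply] at h1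
      simp [LinearMap.mem_ker, h1])
  have hr : r ∘ₗ (LinearMap.ker α).subtype = LinearMap.id := by
    ext x
    have hx : α x.1 = 0 := x.2
    simp [r, hx]
  refine ⟨Module.Finite.of_surjective r ?_, Module.Projective.of_split _ r hr⟩
  intro x
  exact ⟨x.1, LinearMap.congr_fun hr x⟩

end KerSurj

section Main

variable {R S R' S' : Type u} [CommRing R] [CommRing S] [CommRing R'] [CommRing S']
  [Algebra R S] [Algebra R' S'] [Algebra R R'] [Algebra S S'] [Algebra R S']
  [IsScalarTower R R' S'] [IsScalarTower R S S']
  {P₁ P₂ : Algebra.Extension.{u} R S} {P₁' P₂' : Algebra.Extension.{u} R' S'}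

theorem cotangentComplex_comp_liftBaseChange (f : P₂.Hom P₂') (y : S' ⊗[S] P₂.Cotangent) :
    P₂'.cotangentComplex (LinearMap.liftBaseChange S' (Algebra.Extension.Cotangent.map f) y)
      = LinearMap.liftBaseChange S' (Algebra.Extension.CotangentSpace.map f)
          (P₂.cotangentComplex.baseChange S' y) := by
  have key : P₂'.cotangentComplex ∘ₗ
      LinearMap.liftBaseChange S' (Algebra.Extension.Cotangent.map f) =
      LinearMap.liftBaseChange S' (Algebra.Extension.CotangentSpace.map f) ∘ₗ
        P₂.cotangentComplex.baseChange S' := by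
    ext z
    simpa using (Algebra.Extension.CotangentSpace.map_cotangentComplex f z).symm
  exact LinearMap.congr_fun key y

/-- The kernel of `bcH1Map F` is a retract of the kernel of the degree `-1` component of the base
change map of any other pair of extensions, provided the degree `0` component of the latter is
injective. -/
theorem exists_retract_ker_bcH1Map (F : P₁.Hom P₁') (f : P₂.Hom P₂') (a : P₁.Hom P₂)
    (b : P₂.Hom P₁) (a' : P₁'.Hom P₂') (b' : P₂'.Hom P₁')
    (hβ : Function.Injective
      (LinearMap.liftBaseChange S' (Algebra.Extension.CotangentSpace.map f))) :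
    ∃ (i : LinearMap.ker (NLCx.bcH1Map F) →ₗ[S']
          LinearMap.ker (LinearMap.liftBaseChange S' (Algebra.Extension.Cotangent.map f)))
      (r : LinearMap.ker (LinearMap.liftBaseChange S' (Algebra.Extension.Cotangent.map f)) →ₗ[S']
          LinearMap.ker (NLCx.bcH1Map F)), r ∘ₗ i = LinearMap.id := by
  -- the first map
  have F3 : ∀ x : LinearMap.ker (NLCx.bcH1Map F),
      (Algebra.Extension.Cotangent.map a).baseChange S' x.1.1
        ∈ LinearMap.ker (LinearMap.liftBaseChange S' (Algebra.Extension.Cotangent.map f)) := by
    intro x
    rw [LinearMap.mem_ker, ← liftBaseChange_comp_left,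
      liftBaseChange_cotangent_map_eq (f.comp a) (a'.comp F) _ x.1.2, liftBaseChange_comp_right]
    have hx : NLCx.bcH1Map F x.1 = 0 := x.2
    have hx' : LinearMap.liftBaseChange S' (Algebra.Extension.Cotangent.map F) x.1.1 = 0 :=
      congrArg Subtype.val hx
    rw [hx', map_zero]
  have hmem : ∀ y : LinearMap.ker (LinearMap.liftBaseChange S'
      (Algebra.Extension.Cotangent.map f)), y.1 ∈ NLCx.bcH1 P₂ S' := by
    intro y
    have hy : LinearMap.liftBaseChange S' (Algebra.Extension.Cotangent.map f) y.1 = 0 := y.2
    have h1 := cotangentComplex_comp_liftBaseChange f y.1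
    rw [hy, map_zero] at h1
    show (P₂.cotangentComplex.baseChange S') y.1 = 0
    apply hβ
    rw [← h1, map_zero]
  have F4 : ∀ y : LinearMap.ker (LinearMap.liftBaseChange S'
      (Algebra.Extension.Cotangent.map f)),
      LinearMap.liftBaseChange S' (Algebra.Extension.Cotangent.map F)
        ((Algebra.Extension.Cotangent.map b).baseChange S' y.1) = 0 := by
    intro y
    have hy : LinearMap.liftBaseChange S' (Algebra.Extension.Cotangent.map f) y.1 = 0 := y.2
    rw [← liftBaseChange_comp_left,
      liftBaseChange_cotangent_map_eq (F.comp b) (b'.comp f) _ (hmem y),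
      liftBaseChange_comp_right, hy, map_zero]
  let i : LinearMap.ker (NLCx.bcH1Map F) →ₗ[S']
      LinearMap.ker (LinearMap.liftBaseChange S' (Algebra.Extension.Cotangent.map f)) :=
    LinearMap.codRestrict _
      (((Algebra.Extension.Cotangent.map a).baseChange S').comp
        ((NLCx.bcH1 P₁ S').subtype.comp (LinearMap.ker (NLCx.bcH1Map F)).subtype))
      (fun x => F3 x)
  let r₀ : LinearMap.ker (LinearMap.liftBaseChange S' (Algebra.Extension.Cotangent.map f)) →ₗ[S']
      NLCx.bcH1 P₁ S' :=
    LinearMap.codRestrict _
      (((Algebra.Extension.Cotangent.map b).baseChange S').comp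
        (LinearMap.ker (LinearMap.liftBaseChange S'
          (Algebra.Extension.Cotangent.map f))).subtype)
      (fun y => baseChange_cotangent_map_mem b y.1 (hmem y))
  let r : LinearMap.ker (LinearMap.liftBaseChange S' (Algebra.Extension.Cotangent.map f)) →ₗ[S']
      LinearMap.ker (NLCx.bcH1Map F) :=
    LinearMap.codRestrict _ r₀ (fun y => by
      rw [LinearMap.mem_ker]
      apply Subtype.ext
      exact F4 y)
  refine ⟨i, r, ?_⟩
  ext x
  exact baseChange_cotangent_map_retract a b x.1.1 x.1.2

end Main

section BaseChangeGens

variable (R S R' S' : Type u) [CommRing R] [CommRing S] [CommRing R'] [CommRing S']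
  [Algebra R S] [Algebra R' S'] [Algebra R R'] [Algebra S S'] [Algebra R S']
  [IsScalarTower R R' S'] [IsScalarTower R S S'] [Algebra.IsPushout R R' S S']

variable {R S} in
theorem aeval_algebraMap_val_surjective {ι : Type*} (G : Algebra.Generators R S ι) :
    Function.Surjective
      (MvPolynomial.aeval (R := R') (fun i : ι => algebraMap S S' (G.val i))) := by
  intro y
  have hbc : IsBaseChange R' (IsScalarTower.toAlgHom R S S').toLinearMap :=
    Algebra.IsPushout.out
  refine hbc.inductionOn y _ ?_ ?_ ?_ ?_
  · exact ⟨0, map_zero _⟩
  · intro s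
    obtain ⟨p, rfl⟩ := G.aeval_val_surjective s
    refine ⟨MvPolynomial.map (algebraMap R R') p, ?_⟩
    show _ = algebraMap S S' (MvPolynomial.aeval G.val p)
    rw [MvPolynomial.aeval_map_algebraMap]
    induction p using MvPolynomial.induction_on with
    | C a =>
      simp only [MvPolynomial.aeval_C]
      rw [← IsScalarTower.algebraMap_apply R S S']
    | add p q hp hq => simp only [map_add, hp, hq]
    | mul_X p i hp => simp only [map_mul, hp, MvPolynomial.aeval_X]
  · rintro r y ⟨x, rfl⟩
    exact ⟨r • x, by simp⟩
  · rintro y₁ y₂ ⟨x₁, rfl⟩ ⟨x₂, rfl⟩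
    exact ⟨x₁ + x₂, map_add _ _ _⟩

variable {R S} in
/-- The base change of a presentation, on the same variables. -/
noncomputable def gensBC {ι : Type*} (G : Algebra.Generators R S ι) : Algebra.Generators R' S' ι :=
  Algebra.Generators.ofSurjective (fun i : ι => algebraMap S S' (G.val i))
    (aeval_algebraMap_val_surjective R' S' G)

variable {R S} in
theorem gensBC_val {ι : Type*} (G : Algebra.Generators R S ι) (i : ι) :
    (gensBC R' S' G).val i = algebraMap S S' (G.val i) := rfl

end BaseChangeGens

section Final

variable (A B A' B' : Type u) [CommRing A] [CommRing B] [CommRing A'] [CommRing B']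
  [Algebra A B] [Algebra A' B'] [Algebra A A'] [Algebra B B'] [Algebra A B']
  [IsScalarTower A A' B'] [IsScalarTower A B B'] [Algebra.IsPushout A A' B B']

variable {A B} in
/-- If some presentation `G` of `B` over `A` on finitely many variables has finite projective
conormal module and its base change has projective conormal module, the kernel of the base
change map on `H^{-1}` (presentations on all elements) is finite projective. -/
theorem ker_bcH1Map_self_finite_projective {ι : Type u}
    (G : Algebra.Generators A B ι)
    [Module.Finite B G.toExtension.Cotangent] [Module.Projective B G.toExtension.Cotangent]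
    [Module.Projective B' (gensBC A' B' G).toExtension.Cotangent] :
    Module.Finite B' (LinearMap.ker (NLCx.bcH1Map
        ((Algebra.Generators.self A B).defaultHom (Algebra.Generators.self A' B')).toExtensionHom)) ∧
      Module.Projective B' (LinearMap.ker (NLCx.bcH1Map
        ((Algebra.Generators.self A B).defaultHom
          (Algebra.Generators.self A' B')).toExtensionHom)) := by
  have h : ∀ i, (gensBC A' B' G).val i = algebraMap B B' (G.val i) := fun _ => rfl
  have hα := Groth.Agent.Lib.T2H2.NLBC.liftBaseChange_cotangent_map_surjective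
    (NLCx.sameVarsHom G (gensBC A' B' G) h).toExtensionHom
    (Groth.Agent.Lib.T2H2.NLBC.sameVarsHom_ker_le G (gensBC A' B' G) h)
  have hβ := (Groth.Agent.Lib.T2H2.NLBC.sameVarsHom_liftBaseChange_cotangentSpace_bijective
    G (gensBC A' B' G) h).1
  obtain ⟨hfin, hproj⟩ := ker_finite_projective_of_surjective _ hα
  obtain ⟨i, r, hri⟩ := exists_retract_ker_bcH1Map
    ((Algebra.Generators.self A B).defaultHom (Algebra.Generators.self A' B')).toExtensionHom
    (NLCx.sameVarsHom G (gensBC A' B' G) h).toExtensionHom
    ((Algebra.Generators.self A B).defaultHom G).toExtensionHom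
    (G.defaultHom (Algebra.Generators.self A B)).toExtensionHom
    ((Algebra.Generators.self A' B').defaultHom (gensBC A' B' G)).toExtensionHom
    ((gensBC A' B' G).defaultHom (Algebra.Generators.self A' B')).toExtensionHom hβ
  refine ⟨Module.Finite.of_surjective r ?_, Module.Projective.of_split i r hri⟩
  intro x
  exact ⟨i x, LinearMap.congr_fun hri x⟩

end Final

end Groth.Agent.Lib.T2H2.NLKer
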