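import Mathlib
import Groth.Prelude.Def_OmegaPn
import Groth.Agent.Lib.T2H2IdealComapPow

set_option autoImplicit false
set_option linter.style.haveILetI false
universe u
open CategoryTheory CategoryTheory.Limits AlgebraicGeometry TopologicalSpace Opposite

namespace Groth.Agent.Lib.T2H2.NbhdSymm

/-- An involution of the ambient scheme fixing an immersion restricts to the coborder of its range. -/
theorem exists_restrict_coborder {X P : Scheme.{u}} (Δ : X ⟶ P) [IsImmersion Δ] (s : P ⟶ P)
    (hs : s ≫ s = 𝟙 P) (hΔ : Δ ≫ s = Δ) :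
    ∃ sO : (Δ.coborderRange : Scheme.{u}) ⟶ Δ.coborderRange,
      sO ≫ Δ.coborderRange.ι = Δ.coborderRange.ι ≫ s := by
  have hss : ∀ p : P, s (s p) = p := by
    intro p
    rw [← Scheme.Hom.comp_apply, hs]; rfl
  have hfix : ∀ p ∈ Set.range Δ, s p = p := by
    rintro _ ⟨x, rfl⟩
    rw [← Scheme.Hom.comp_apply, hΔ]
  have hcl : ∀ p ∈ closure (Set.range Δ), s p ∈ closure (Set.range Δ) := by
    intro p hp
    have h1 := image_closure_subset_closure_image s.continuous (Set.mem_image_of_mem s hp)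
    have h2 : (s : P → P) '' Set.range Δ = Set.range Δ := by
      ext q
      constructor
      · rintro ⟨p, hp, rfl⟩
        rw [hfix p hp]; exact hp
      · intro hq
        exact ⟨q, hq, hfix q hq⟩
    rwa [h2] at h1
  refine ⟨IsOpenImmersion.lift Δ.coborderRange.ι (Δ.coborderRange.ι ≫ s) ?_,
    IsOpenImmersion.lift_fac _ _ _⟩
  rintro _ ⟨p, rfl⟩
  rw [Scheme.Opens.range_ι]
  change s (Δ.coborderRange.ι p) ∈ coborder (Set.range Δ)
  have hp : (Δ.coborderRange.ι p) ∈ coborder (Set.range Δ) := p.2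
  set q := Δ.coborderRange.ι p with hq
  rw [coborder_eq_union_closure_compl] at hp ⊢
  rcases hp with hp | hp
  · left
    rw [hfix q hp]; exact hp
  · right
    intro h
    apply hp
    have := hcl _ h
    rwa [hss] at this

/-- A morphism of the ambient scheme fixing a closed subscheme induces a morphism of its infinitesimal
neighbourhoods. -/
theorem exists_infNbhd_map {X O : Scheme.{u}} (j : X ⟶ O) (sO : O ⟶ O) (hj : j ≫ sO = j) (n : ℕ) :
    ∃ σ : PrinPart.infNbhd j n ⟶ PrinPart.infNbhd j n,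
      σ ≫ PrinPart.infNbhdι j n = PrinPart.infNbhdι j n ≫ sO := by
  have h1 : j.ker.comap sO ≤ j.ker := by
    rw [← Scheme.IdealSheafData.le_map_iff_comap_le, Scheme.IdealSheafData.map_ker, hj]
  have h2 : (j.ker ^ (n + 1)).comap sO ≤ j.ker ^ (n + 1) := by
    rw [Groth.Agent.Lib.T2H2.IdealComapPow.comap_pow]
    exact pow_le_pow_left' h1 _
  have h3 : j.ker ^ (n + 1) ≤ (j.ker ^ (n + 1)).map sO :=
    Scheme.IdealSheafData.le_map_iff_comap_le.mpr h2
  exact ⟨Scheme.IdealSheafData.subschemeMap _ _ sO h3,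
    Scheme.IdealSheafData.subschemeMap_subschemeι _ _ sO h3⟩

end Groth.Agent.Lib.T2H2.NbhdSymm
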