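import Mathlib
import Groth.Agent.Lib.T2H2NilBoundA
import Groth.Agent.Lib.T2H2NilStalkA
import Groth.Agent.Lib.T2H1ExtTensorBounds
import Groth.Agent.Lib.Helper1Sky10
set_option backward.isDefEq.respectTransparency.types false

/-!
# Boundedness lifts through finite order thickenings (T2H2)
-/

set_option autoImplicit false
set_option linter.style.haveILetI false
universe u
open CategoryTheory CategoryTheory.Limits AlgebraicGeometry HomologicalComplex

attribute [local instance] HasDerivedCategory.standard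

namespace Groth.Agent.Lib.T2H2.NilBound

open Groth.Agent.Lib.Helper1.Sky Groth.Agent.Lib.Helper1.KBC Groth.Agent.Lib.Helper1.BKF
  Groth.Agent.Lib.T2H1.ExtTensorBounds Groth.Agent.Lib.T2H2.NilStalk DTen

variable {X X' : Scheme.{u}} (i : X ⟶ X')

/-- the stalks of the termwise pullback -/
noncomputable def stalkPullCIso (x : X) (P : CochainComplex X'.Modules ℤ) :
    (stalkC x).obj ((pullC i).obj P) ≅
      (extCx (i.stalkMap x).hom).obj ((stalkC (i x)).obj P) :=
  (NatIso.mapHomologicalComplex (stalkPullbackIso i x) (ComplexShape.up ℤ)).app P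

/-- **boundedness lifts through finite order thickenings** -/
theorem exactAt_of_exactAt_pullC [Surjective i] (hi : IsNilStalk i)
    (P : CochainComplex X'.Modules ℤ) (hP : KFFs P) (b : ℤ)
    (h : ∀ j : ℤ, b < j → ((pullC i).obj P).ExactAt j) (j : ℤ) (hj : b < j) : P.ExactAt j := by
  apply exactAt_of_forall_stalk
  intro x'
  obtain ⟨x, rfl⟩ := i.surjective x'
  obtain ⟨hsurj, n, hn⟩ := hi x
  have hK : Groth.Agent.Lib.Helper1.KF.KFlat ((stalkC (i x)).obj P) :=
    rKFlat_stalk_of_isKFlat (i x) P hP.1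
  have hfl : ∀ q : ℤ, Module.Flat (Ox (i x)) (((stalkC (i x)).obj P).X q) := fun q =>
    Groth.Agent.Lib.Helper1.StalkTensor.isFlat_of_modSite_isFlat _ (hP.2 q) (i x)
  have hex : ∀ k : ℤ, b < k →
      ((extCx (i.stalkMap x).hom).obj ((stalkC (i x)).obj P)).ExactAt k := fun k hk =>
    (Groth.Agent.Lib.T2H4.TorRes.exactAt_iff_of_iso (stalkPullCIso i x P) k).1
      (exactAt_stalk _ k (h k hk) x)
  exact exactAt_of_exactAt_extCx (i.stalkMap x).hom hsurj _ hK hfl b hex n hn j hj

end Groth.Agent.Lib.T2H2.NilBound
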