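import Mathlib
import Groth.Prelude.Def_FlatCA

/-!
# Limits of towers of rings with surjective, locally nilpotent transition maps (T2H2)

Let `A = lim A' n` along `φ n : A' (n+1) → A' n`, each surjective with locally nilpotent kernel.
* `tau` : the composite transition maps `A' n → A' 0`;
* `isUnit_of_forall_isUnit` : an element of `A` all of whose images are units is a unit;
* `isUnit_one_add_of_pi_zero_eq_zero` : `1 + x` is a unit for `x ∈ ker (A → A' 0)`;
* `pi_zero_surjective` : `A → A' 0` is surjective;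
* `exists_lift` : compatible ring maps `B → A' n` lift to `B → A`;
* `opens_eq_top` : an open of `Spec A` containing the image of `Spec (A' 0)` is everything.
-/

namespace Groth.Agent.Lib.T2H2.NilLim

universe u

variable {A : Type u} [CommRing A] (A' : ℕ → Type u) [∀ n, CommRing (A' n)]
  (φ : ∀ n, A' (n + 1) →+* A' n) (π : ∀ n, A →+* A' n)

/-- The composite transition map `A' n → A' 0`. -/
noncomputable def tau : ∀ n, A' n →+* A' 0
  | 0 => RingHom.id _
  | (n + 1) => (tau n).comp (φ n)

theorem tau_zero : tau A' φ 0 = RingHom.id _ := rfl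

theorem tau_succ (n : ℕ) : tau A' φ (n + 1) = (tau A' φ n).comp (φ n) := rfl

theorem tau_comp_pi (h : ∀ n, (φ n).comp (π (n + 1)) = π n) (n : ℕ) :
    (tau A' φ n).comp (π n) = π 0 := by
  induction n with
  | zero => rw [tau_zero, RingHom.id_comp]
  | succ n ih => rw [tau_succ, RingHom.comp_assoc, h n, ih]

theorem tau_surjective (hsurj : ∀ n, Function.Surjective (φ n)) (n : ℕ) :
    Function.Surjective (tau A' φ n) := by
  induction n with
  | zero => exact Function.surjective_id
  | succ n ih => rw [tau_succ]; exact ih.comp (hsurj n)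

theorem isNilpotent_of_tau_eq_zero (hnil : ∀ n, ∀ x ∈ RingHom.ker (φ n), IsNilpotent x) (n : ℕ)
    (x : A' n) (hx : tau A' φ n x = 0) : IsNilpotent x := by
  induction n with
  | zero =>
    rw [tau_zero] at hx
    exact ⟨1, by simpa using hx⟩
  | succ n ih =>
    rw [tau_succ] at hx
    obtain ⟨k, hk⟩ := ih (φ n x) hx
    have h2 : x ^ k ∈ RingHom.ker (φ n) := by rw [RingHom.mem_ker, map_pow, hk]
    obtain ⟨m, hm⟩ := hnil n _ h2
    exact ⟨k * m, by rw [pow_mul, hm]⟩

theorem isUnit_of_forall_isUnit (hlim : FlatCA.IsRingLimit A A' φ π) (a : A)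
    (h : ∀ n, IsUnit (π n a)) : IsUnit a := by
  choose v hv using fun n => (h n).exists_right_inv
  have hcompat : ∀ n, φ n (v (n + 1)) = v n := by
    intro n
    have h1 : φ n (π (n + 1) a) = π n a := by
      have := congrArg (fun f => f a) (hlim.1 n)
      simpa using this
    have h2 : π n a * φ n (v (n + 1)) = 1 := by
      rw [← h1, ← map_mul, hv (n + 1), map_one]
    calc φ n (v (n + 1)) = (v n * π n a) * φ n (v (n + 1)) := by
          rw [mul_comm (v n), hv n, one_mul]
      _ = v n * (π n a * φ n (v (n + 1))) := by rw [mul_assoc]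
      _ = v n := by rw [h2, mul_one]
  obtain ⟨b, hb⟩ := hlim.2.2 v hcompat
  have hab : a * b = 1 := hlim.2.1 _ _ (fun n => by rw [map_mul, hb n, hv n, map_one])
  exact IsUnit.of_mul_eq_one b hab

theorem isUnit_one_add_of_pi_zero_eq_zero (hlim : FlatCA.IsRingLimit A A' φ π)
    (hnil : ∀ n, ∀ x ∈ RingHom.ker (φ n), IsNilpotent x) (x : A) (hx : π 0 x = 0) :
    IsUnit (1 + x) := by
  apply isUnit_of_forall_isUnit A' φ π hlim
  intro n
  rw [map_add, map_one]
  have h1 : tau A' φ n (π n x) = 0 := by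
    have := congrArg (fun f => f x) (tau_comp_pi A' φ π hlim.1 n)
    simp only [RingHom.comp_apply] at this
    rw [this, hx]
  exact (isNilpotent_of_tau_eq_zero A' φ hnil n _ h1).isUnit_one_add

theorem pi_zero_surjective (hlim : FlatCA.IsRingLimit A A' φ π)
    (hsurj : ∀ n, Function.Surjective (φ n)) : Function.Surjective (π 0) := by
  intro a0
  let x : ∀ n, A' n := fun n =>
    Nat.rec (motive := fun n => A' n) a0 (fun n xn => (hsurj n xn).choose) n
  have hx : ∀ n, φ n (x (n + 1)) = x n := fun n => (hsurj n (x n)).choose_spec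
  obtain ⟨a, ha⟩ := hlim.2.2 x hx
  exact ⟨a, ha 0⟩

theorem exists_lift (hlim : FlatCA.IsRingLimit A A' φ π) {B : Type u} [CommRing B]
    (r : ∀ n, B →+* A' n) (hr : ∀ n, (φ n).comp (r (n + 1)) = r n) :
    ∃ ρ : B →+* A, ∀ n, (π n).comp ρ = r n := by
  have hex : ∀ b : B, ∃ a : A, ∀ n, π n a = r n b := fun b =>
    hlim.2.2 (fun n => r n b) (fun n => by
      have := congrArg (fun f => f b) (hr n)
      simpa using this)
  choose ρ hρ using hex
  refine ⟨{ toFun := ρ, map_one' := ?_, map_mul' := ?_, map_zero' := ?_, map_add' := ?_ }, ?_⟩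
  · exact hlim.2.1 _ _ (fun n => by rw [hρ, map_one, map_one])
  · intro x y
    exact hlim.2.1 _ _ (fun n => by rw [hρ, map_mul, map_mul, hρ, hρ])
  · exact hlim.2.1 _ _ (fun n => by rw [hρ, map_zero, map_zero])
  · intro x y
    exact hlim.2.1 _ _ (fun n => by rw [hρ, map_add, map_add, hρ, hρ])
  · intro n
    ext b
    exact hρ b n

theorem ker_pi_zero_le_of_isMaximal (hlim : FlatCA.IsRingLimit A A' φ π)
    (hnil : ∀ n, ∀ x ∈ RingHom.ker (φ n), IsNilpotent x) (m : Ideal A) (hm : m.IsMaximal) :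
    RingHom.ker (π 0) ≤ m := by
  intro x hx
  by_contra hxm
  obtain ⟨y, i, hi, hyi⟩ := hm.exists_inv hxm
  have hi' : i = 1 + -(y * x) := by rw [← hyi]; ring
  have hu : IsUnit i := by
    rw [hi']
    apply isUnit_one_add_of_pi_zero_eq_zero A' φ π hlim hnil
    rw [map_neg, map_mul, (RingHom.mem_ker).mp hx, mul_zero, neg_zero]
  exact hm.ne_top (Ideal.eq_top_of_isUnit_mem _ hi hu)

theorem opens_eq_top (hlim : FlatCA.IsRingLimit A A' φ π)
    (hsurj : ∀ n, Function.Surjective (φ n))
    (hnil : ∀ n, ∀ x ∈ RingHom.ker (φ n), IsNilpotent x)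
    (W : Set (PrimeSpectrum A)) (hWo : IsOpen W)
    (hW : Set.range (PrimeSpectrum.comap (π 0)) ⊆ W) : W = Set.univ := by
  rw [Set.eq_univ_iff_forall]
  intro p
  obtain ⟨m, hm, hpm⟩ := Ideal.exists_le_maximal p.asIdeal p.2.ne_top
  let M : PrimeSpectrum A := ⟨m, hm.isPrime⟩
  have hM : M ∈ W := by
    apply hW
    rw [range_comap_of_surjective _ _ (pi_zero_surjective A' φ π hlim hsurj)]
    exact ker_pi_zero_le_of_isMaximal A' φ π hlim hnil m hm
  have hspec : p ⤳ M := (PrimeSpectrum.le_iff_specializes p M).mp hpm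
  exact hspec.mem_open hWo hM

theorem comap_tau_surjective (hsurj : ∀ n, Function.Surjective (φ n))
    (hnil : ∀ n, ∀ x ∈ RingHom.ker (φ n), IsNilpotent x) (n : ℕ) :
    Function.Surjective (PrimeSpectrum.comap (tau A' φ n)) := by
  rw [← Set.range_eq_univ, range_comap_of_surjective _ _ (tau_surjective A' φ hsurj n),
    Set.eq_univ_iff_forall]
  intro p x hx
  obtain ⟨k, hk⟩ := isNilpotent_of_tau_eq_zero A' φ hnil n x ((RingHom.mem_ker).mp hx)
  exact p.2.mem_of_pow_mem k (by rw [hk]; exact Ideal.zero_mem _)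

end Groth.Agent.Lib.T2H2.NilLim
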