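import Mathlib
import Groth.Prelude.Def_FlatCA
import Groth.Agent.Lib.T2H2NilLimA

/-!
# A monomorphism locally of finite type over `Spec (lim A_n)` with sections over all `Spec A_n`
is an isomorphism (T2H2)

Uses Zariski's main theorem in Grothendieck's form (`Scheme.Hom.toNormalization` is an open
immersion for a quasi-finite separated morphism of finite type).
-/

open AlgebraicGeometry CategoryTheory

namespace Groth.Agent.Lib.T2H2.NilLim

universe u

/-- A compact subset of a scheme is contained in a quasi-compact open. -/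
theorem exists_compact_opens_superset {T : Scheme.{u}} (K : Set T) (hK : IsCompact K) :
    ∃ T' : T.Opens, IsCompact (T' : Set T) ∧ K ⊆ T' := by
  classical
  obtain ⟨t, ht⟩ := hK.elim_finite_subcover (fun U : T.affineOpens => ((U.1 : T.Opens) : Set T))
    (fun U => U.1.2) (by
      intro x _
      obtain ⟨_, ⟨U, hU, rfl⟩, hxU, -⟩ := T.isBasis_affineOpens.exists_subset_of_mem_open
        (Set.mem_univ x) isOpen_univ
      exact Set.mem_iUnion.mpr ⟨⟨U, hU⟩, hxU⟩)
  refine ⟨⨆ U ∈ t, (U.1 : T.Opens), ?_, ?_⟩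
  · have : (((⨆ U ∈ t, (U.1 : T.Opens)) : T.Opens) : Set T) = ⋃ U ∈ t, ((U.1 : T.Opens) : Set T) := by
      simp
    rw [this]
    exact t.isCompact_biUnion (fun U _ => U.2.isCompact)
  · intro x hx
    have := ht hx
    simpa using this

theorem isIso_of_mono_lft_of_sections {A : Type u} [CommRing A] (A' : ℕ → Type u)
    [∀ n, CommRing (A' n)]
    (φ : ∀ n, A' (n + 1) →+* A' n) (π : ∀ n, A →+* A' n) (hlim : FlatCA.IsRingLimit A A' φ π)
    (hsurj : ∀ n, Function.Surjective (φ n)) (hnil : ∀ n, ∀ x ∈ RingHom.ker (φ n), IsNilpotent x)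
    {T : Scheme.{u}} (h : T ⟶ Spec (CommRingCat.of A)) [Mono h] [LocallyOfFiniteType h]
    (hsec : ∀ n, ∃ g : Spec (CommRingCat.of (A' n)) ⟶ T,
      g ≫ h = Spec.map (CommRingCat.ofHom (π n))) :
    IsIso h := by
  classical
  choose s hs using hsec
  -- compatibility of the sections with the transition maps to `A' 0`
  have hs0 : ∀ n, Spec.map (CommRingCat.ofHom (tau A' φ n)) ≫ s n = s 0 := by
    intro n
    rw [← cancel_mono h, Category.assoc, hs, hs, ← Spec.map_comp, ← CommRingCat.ofHom_comp,
      tau_comp_pi A' φ π hlim.1 n]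
  have hrange : ∀ n, Set.range (s n) ⊆ Set.range (s 0) := by
    intro n
    rintro _ ⟨x, rfl⟩
    obtain ⟨y, rfl⟩ := comap_tau_surjective A' φ hsurj hnil n x
    refine ⟨y, ?_⟩
    rw [← hs0 n]
    rfl
  -- a quasi-compact open containing the image of the sections
  obtain ⟨T', hT'c, hT'⟩ := exists_compact_opens_superset (Set.range (s 0))
    (isCompact_range (s 0).continuous)
  have : CompactSpace T' := isCompact_iff_compactSpace.mp hT'c
  let f' : (T' : Scheme) ⟶ Spec (CommRingCat.of A) := T'.ι ≫ h
  have : Mono f' := mono_comp _ _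
  have : LocallyOfFiniteType f' := inferInstance
  have : QuasiCompact f' := inferInstance
  have hr : ∀ n, Set.range (s n) ⊆ Set.range T'.ι := fun n =>
    (hrange n).trans (by rw [Scheme.Opens.range_ι]; exact hT')
  let s' : ∀ n, Spec (CommRingCat.of (A' n)) ⟶ (T' : Scheme) := fun n =>
    IsOpenImmersion.lift T'.ι (s n) (hr n)
  have hs' : ∀ n, s' n ≫ f' = Spec.map (CommRingCat.ofHom (π n)) := fun n => by
    simp only [f', s', ← Category.assoc, IsOpenImmersion.lift_fac]
    exact hs n
  -- Zariski's main theorem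
  have : IsOpenImmersion f'.toNormalization := inferInstance
  have : IsAffine f'.normalization := isAffine_of_isAffineHom f'.fromNormalization
  let e := f'.normalization.isoSpec
  let g : ∀ n, Spec (CommRingCat.of (A' n)) ⟶ Spec Γ(f'.normalization, ⊤) := fun n =>
    s' n ≫ f'.toNormalization ≫ e.hom
  let r : ∀ n, Γ(f'.normalization, ⊤) ⟶ CommRingCat.of (A' n) := fun n => Spec.preimage (g n)
  have hg : ∀ n, Spec.map (CommRingCat.ofHom (φ n)) ≫ g (n + 1) = g n := by
    intro n
    show Spec.map (CommRingCat.ofHom (φ n)) ≫ s' (n + 1) ≫ f'.toNormalization ≫ e.hom =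
      s' n ≫ f'.toNormalization ≫ e.hom
    rw [← Category.assoc]
    congr 1
    rw [← cancel_mono f', Category.assoc, hs', hs', ← Spec.map_comp, ← CommRingCat.ofHom_comp,
      hlim.1 n]
  have hr' : ∀ n, r (n + 1) ≫ CommRingCat.ofHom (φ n) = r n := by
    intro n
    apply Spec.map_injective
    rw [Spec.map_comp, Spec.map_preimage, Spec.map_preimage]
    exact hg n
  obtain ⟨ρ, hρ⟩ := exists_lift A' φ π hlim (fun n => (r n).hom) (fun n => by
    have := congrArg CommRingCat.Hom.hom (hr' n)
    simpa using this)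
  let σ : Spec (CommRingCat.of A) ⟶ f'.normalization :=
    Spec.map (CommRingCat.ofHom ρ) ≫ e.inv
  have hσ : ∀ n, Spec.map (CommRingCat.ofHom (π n)) ≫ σ = s' n ≫ f'.toNormalization := by
    intro n
    have h1 : Spec.map (CommRingCat.ofHom (π n)) ≫ Spec.map (CommRingCat.ofHom ρ) = g n := by
      rw [← Spec.map_comp, ← CommRingCat.ofHom_comp, hρ n, CommRingCat.ofHom_hom,
        Spec.map_preimage]
    show Spec.map (CommRingCat.ofHom (π n)) ≫ Spec.map (CommRingCat.ofHom ρ) ≫ e.inv = _
    rw [← Category.assoc, h1]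
    show (s' n ≫ f'.toNormalization ≫ e.hom) ≫ e.inv = _
    simp
  have hσq : σ ≫ f'.fromNormalization = 𝟙 _ := by
    obtain ⟨ψ, hψ⟩ := Spec.map_surjective (σ ≫ f'.fromNormalization)
    have h1 : ∀ n, ψ ≫ CommRingCat.ofHom (π n) = CommRingCat.ofHom (π n) := by
      intro n
      apply Spec.map_injective
      rw [Spec.map_comp, hψ, ← Category.assoc, hσ n, Category.assoc,
        Scheme.Hom.toNormalization_fromNormalization, hs']
    have h2 : ψ = 𝟙 _ := by
      ext a
      apply hlim.2.1
      intro n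
      have := congrArg (fun k => k.hom a) (h1 n)
      simpa using this
    rw [← hψ, h2, Spec.map_id]
  -- `σ` factors through the open `T'`
  let W : Set (Spec (CommRingCat.of A)) := σ ⁻¹' (Set.range f'.toNormalization)
  have hWo : IsOpen W := (f'.toNormalization.opensRange.2).preimage σ.continuous
  have hW : W = Set.univ := by
    apply opens_eq_top A' φ π hlim hsurj hnil W hWo
    rintro _ ⟨y, rfl⟩
    show σ ((Spec.map (CommRingCat.ofHom (π 0))) y) ∈ Set.range f'.toNormalization
    rw [← Scheme.Hom.comp_apply, hσ 0]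
    exact ⟨s' 0 y, rfl⟩
  have hσr : Set.range σ ⊆ Set.range f'.toNormalization := by
    rintro _ ⟨x, rfl⟩
    have : x ∈ W := by rw [hW]; trivial
    exact this
  let sec : Spec (CommRingCat.of A) ⟶ (T' : Scheme) :=
    IsOpenImmersion.lift f'.toNormalization σ hσr
  have hsec : (sec ≫ T'.ι) ≫ h = 𝟙 _ := by
    rw [Category.assoc]
    show sec ≫ f' = _
    rw [← Scheme.Hom.toNormalization_fromNormalization f', ← Category.assoc,
      IsOpenImmersion.lift_fac, hσq]
  have : IsSplitEpi h := IsSplitEpi.mk' ⟨sec ≫ T'.ι, hsec⟩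
  exact isIso_of_mono_of_isSplitEpi h

end Groth.Agent.Lib.T2H2.NilLim
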