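import Mathlib
import Groth.Agent.Lib.Helper1Sky10
import Groth.Agent.Lib.T2H2NilFT
import Groth.Agent.Lib.T2H8PCohFT
import Groth.Agent.Lib.Helper23FinTypeLocal
set_option backward.isDefEq.respectTransparency.types false

/-!
# The top cohomology of the image of a bounded above complex under a right exact functor (T2H2)
and finite type of the top cohomology sheaf through finite order thickenings
-/

set_option autoImplicit false
set_option linter.style.haveILetI false
universe u
open CategoryTheory CategoryTheory.Limits HomologicalComplex AlgebraicGeometry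

attribute [local instance] HasDerivedCategory.standard

namespace Groth.Agent.Lib.T2H2.NilTop

section Abstract

variable {A B : Type*} [Category A] [Category B] [Abelian A] [Abelian B]
  (F : A ⥤ B) [F.Additive] [PreservesFiniteColimits F]

/-- for a complex `K` with `K^{b+1} = 0` and a right exact functor `F`,
`H^b(F K) ≅ F (H^b K)` -/
noncomputable def topHomologyIso (K : CochainComplex A ℤ) (b : ℤ) (hK : IsZero (K.X (b + 1))) :
    ((F.mapHomologicalComplex (ComplexShape.up ℤ)).obj K).homology b ≅ F.obj (K.homology b) := by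
  let FK := (F.mapHomologicalComplex (ComplexShape.up ℤ)).obj K
  have hd : K.d b (b + 1) = 0 := hK.eq_of_tgt _ _
  have hFd : FK.d b (b + 1) = 0 := by
    show F.map (K.d b (b + 1)) = 0
    rw [hd, F.map_zero]
  let e₁ : K.homology b ≅ K.opcycles b := K.isoHomologyι b (b + 1) (by simp) hd
  let e₂ : FK.homology b ≅ FK.opcycles b := FK.isoHomologyι b (b + 1) (by simp) hFd
  have hc₁ := K.opcyclesIsCokernel (b - 1) b (by simp)
  have hc₂ := FK.opcyclesIsCokernel (b - 1) b (by simp)
  have hc₃ := CokernelCofork.mapIsColimit _ hc₁ F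
  let e₃ : FK.opcycles b ≅ F.obj (K.opcycles b) :=
    IsColimit.coconePointUniqueUpToIso hc₂ hc₃
  exact e₂ ≪≫ e₃ ≪≫ F.mapIso e₁.symm

end Abstract

section Sch

open Groth.Agent.Lib.Helper1.Sky Groth.Agent.Lib.Helper1.BKF Groth.Agent.Lib.Helper1.CI
  Groth.Agent.Lib.Helper23.FinType

variable {X X' : Scheme.{u}} (i : X ⟶ X')

instance : PreservesFiniteColimits (Scheme.Modules.pullback i) := by
  haveI := (Scheme.Modules.pullbackPushforwardAdjunction i).leftAdjoint_preservesColimits
  infer_instance

/-- the top cohomology of the pullback of a K-flat complex with flat terms -/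
theorem nonempty_top_homology_pullC_iso (P : CochainComplex X'.Modules ℤ) (hP : KFFs P) (b : ℤ)
    (hvan : ∀ j : ℤ, b < j → IsZero (P.homology j)) :
    Nonempty (((pullC i).obj P).homology b ≅ (Scheme.Modules.pullback i).obj (P.homology b)) := by
  haveI : P.IsLE b := by
    rw [CochainComplex.isLE_iff]
    intro j hj
    rw [exactAt_iff_isZero_homology]
    exact hvan j hj
  have hTfl : ∀ j : ℤ, ModSite.IsFlat (O := X'.sheaf) ((P.truncLE b).X j) :=
    isFlat_truncLE_X (O := X'.sheaf) P hP.1 hP.2 b hvan
  have hsle : (P.truncLE b).IsStrictlyLE b := inferInstance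
  have hT : KFFs (P.truncLE b) :=
    ⟨isKFlat_of_bounded_above_flat (O := X'.sheaf) (P.truncLE b) hTfl b hsle, hTfl⟩
  have hq : QuasiIso ((pullC i).map (P.ιTruncLE b)) := quasiIso_pullC_map i (P.ιTruncLE b) hT hP
  have hq1 : IsIso (homologyMap ((pullC i).map (P.ιTruncLE b)) b) := by
    rw [← quasiIsoAt_iff_isIso_homologyMap]; infer_instance
  have hq2 : IsIso (homologyMap (P.ιTruncLE b) b) := by
    rw [← quasiIsoAt_iff_isIso_homologyMap]; infer_instance
  exact ⟨(asIso (homologyMap ((pullC i).map (P.ιTruncLE b)) b)).symm ≪≫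
    topHomologyIso (Scheme.Modules.pullback i) (P.truncLE b) b
      ((P.truncLE b).isZero_of_isStrictlyLE b (b + 1) (by omega)) ≪≫
    (Scheme.Modules.pullback i).mapIso (asIso (homologyMap (P.ιTruncLE b) b))⟩

/-- finite type of the top cohomology sheaf lifts through finite order thickenings -/
theorem isFT_homology_of_pullC (hi : MoreMor.IsFiniteOrderThickening i)
    (P : CochainComplex X'.Modules ℤ) (hP : KFFs P) (b : ℤ)
    (hvan : ∀ j : ℤ, b < j → IsZero (P.homology j))
    (hpc : DCoh.IsPseudoCoherentD b (DCoh.toD X ((pullC i).obj P))) :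
    CohB1.IsFT (P.homology b) := by
  have hvan' : ∀ j : ℤ, b < j → IsZero (((pullC i).obj P).homology j) :=
    isZero_homology_pullC i P hP b hvan
  have h1 : CohB1.IsFT (DCoh.HD (DCoh.toD X ((pullC i).obj P)) b) :=
    (Groth.Agent.Lib.T2H8.PCohFT.main_S0890 b _ hpc).1 (fun j hj =>
      IsZero.of_iso (hvan' j hj)
        ((DerivedCategory.homologyFunctorFactors X.Modules j).app ((pullC i).obj P)))
  obtain ⟨e⟩ := nonempty_top_homology_pullC_iso i P hP b hvan
  haveI : SheafOfModules.IsFiniteType (R := X.ringCatSheaf)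
    (DCoh.HD (DCoh.toD X ((pullC i).obj P)) b) := h1
  let e0 : DCoh.HD (DCoh.toD X ((pullC i).obj P)) b ≅ ((pullC i).obj P).homology b :=
    (DerivedCategory.homologyFunctorFactors X.Modules b).app ((pullC i).obj P)
  have h2 : CohB1.IsFT ((Scheme.Modules.pullback i).obj (P.homology b)) :=
    isFiniteType_of_iso (e0 ≪≫ e)
  exact Groth.Agent.Lib.T2H2.NilFT.isFT_of_isFT_pullback_thick i _ hi h2

end Sch

end Groth.Agent.Lib.T2H2.NilTop
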