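import Mathlib
import Groth.Agent.Lib.T2H2NilTop
import Groth.Agent.Lib.T2H2NilBoundC
import Groth.Agent.Lib.T2H1ClImmPC2
import Groth.Agent.Lib.T2H2FpqcPCohA
import Groth.Agent.Lib.Helper1KBC6
import Groth.Agent.S0960
set_option backward.isDefEq.respectTransparency.types false

/-!
# Pseudo-coherence through finite order thickenings, part A: restriction to opens (T2H2)
-/

set_option autoImplicit false
set_option linter.style.haveILetI false
universe u
open CategoryTheory CategoryTheory.Limits HomologicalComplex AlgebraicGeometry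

attribute [local instance] HasDerivedCategory.standard

namespace Groth.Agent.Lib.T2H2.NilPC

open Groth.Agent.Lib.Helper1.Sky Groth.Agent.Lib.Helper1.BKF Groth.Agent.Lib.Helper1.CI
  Groth.Agent.Lib.Helper1.KBC Groth.Agent.Lib.T2H8.PerfLocal Groth.Agent.Lib.T2H8.PCohTriangle
  Groth.Agent.Lib.T2H2.FpqcPCoh Groth.Agent.Lib.T2H2.AffRed Groth.Agent.Lib.T2H1.ClImmPC
  Groth.Agent.Lib.Helper1.StalkTensor Groth.Agent.Lib.Helper21.ModTensor5

variable {X X' : Scheme.{u}} (i : X ⟶ X')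

lemma kffs_of_iso {P P' : CochainComplex X'.Modules ℤ} (e : P ≅ P') (hP : KFFs P) : KFFs P' :=
  ⟨isKFlat_of_iso (O := X'.sheaf) e hP.1,
    fun n => isFlat_of_iso X'.sheaf ((HomologicalComplex.eval _ _ n).mapIso e) (hP.2 n)⟩

lemma kffs_pullC (P : CochainComplex X'.Modules ℤ) (hP : KFFs P) : KFFs ((pullC i).obj P) :=
  ⟨Groth.Agent.S0960.isKFlat_pullC i P hP.1, fun n =>
    modSite_isFlat_of_isFlat _ (isFlat_pullback i _ (isFlat_of_modSite_isFlat _ (hP.2 n)))⟩

lemma kffs_rC (V : X'.Opens) (P : CochainComplex X'.Modules ℤ) (hP : KFFs P) :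
    KFFs ((rC V.ι).obj P) :=
  kffs_of_iso ((restrictCxIso V).app P).symm (kffs_pullC V.ι P hP)

/-- restriction to an open of the base commutes with the termwise pullback of a K-flat complex,
in the derived category -/
theorem nonempty_toD_pullC_restrict_iso (V : X'.Opens) (P : CochainComplex X'.Modules ℤ)
    (hP : KFFs P) :
    Nonempty (DCoh.toD (i ⁻¹ᵁ V) ((pullC (i ∣_ V)).obj ((rC V.ι).obj P)) ≅
      (rD (i ⁻¹ᵁ V).ι).obj (DCoh.toD X ((pullC i).obj P))) := by
  haveI : DCoh.HasLpull i := hasLpull _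
  haveI : DCoh.HasLpull (i ∣_ V) := hasLpull _
  obtain ⟨e₁⟩ := nonempty_rD_lpull_iso i (i ⁻¹ᵁ V).ι V.ι (i ∣_ V) (morphismRestrict_ι i V)
    (DCoh.toD X' P)
  let e₂ := lpullIsoK i P hP.1
  let e₃ := lpullIsoK (i ∣_ V) ((rC V.ι).obj P) (kffs_rC V P hP).1
  let e₄ : (rD V.ι).obj (DCoh.toD X' P) ≅ DCoh.toD V ((rC V.ι).obj P) :=
    (Scheme.Modules.restrictFunctor V.ι).mapDerivedCategoryFactors.app P
  exact ⟨e₃.symm ≪≫ (DCoh.Lpull (i ∣_ V)).mapIso e₄.symm ≪≫ e₁.symm ≪≫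
    (rD (i ⁻¹ᵁ V).ι).mapIso e₂⟩

/-- pseudo-coherence of the pullback restricts -/
theorem pcAll_pullC_restrict (V : X'.Opens) (P : CochainComplex X'.Modules ℤ) (hP : KFFs P)
    (h : pcAll X (DCoh.toD X ((pullC i).obj P))) :
    pcAll (i ⁻¹ᵁ V) (DCoh.toD (i ⁻¹ᵁ V) ((pullC (i ∣_ V)).obj ((rC V.ι).obj P))) := by
  obtain ⟨e⟩ := nonempty_toD_pullC_restrict_iso i V P hP
  intro m
  exact isPseudoCoherentD_of_iso e.symm m (isPseudoCoherentD_rD _ m _ (h m))

/-- vanishing of cohomology restricts -/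
lemma isZero_homology_rC (V : X'.Opens) (P : CochainComplex X'.Modules ℤ) (j : ℤ)
    (h : IsZero (P.homology j)) : IsZero (((rC V.ι).obj P).homology j) :=
  IsZero.of_iso ((Scheme.Modules.restrictFunctor V.ι).map_isZero h)
    ((homologyFunctorMapIso (Scheme.Modules.restrictFunctor V.ι) j).app P)

end Groth.Agent.Lib.T2H2.NilPC
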