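import Mathlib
import Groth.Agent.Lib.T2H2NilPCA
set_option backward.isDefEq.respectTransparency.types false

/-!
# Pseudo-coherence through finite order thickenings, part B: the inductive step (T2H2)
-/

set_option autoImplicit false
set_option linter.style.haveILetI false
universe u
open CategoryTheory CategoryTheory.Limits HomologicalComplex AlgebraicGeometry

attribute [local instance] HasDerivedCategory.standard

namespace Groth.Agent.Lib.T2H2.NilPC

open Groth.Agent.Lib.Helper1.Sky Groth.Agent.Lib.Helper1.BKF Groth.Agent.Lib.Helper1.CI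
  Groth.Agent.Lib.Helper1.KBC Groth.Agent.Lib.T2H8.PerfLocal Groth.Agent.Lib.T2H8.PCohTriangle
  Groth.Agent.Lib.T2H2.FpqcPCoh Groth.Agent.Lib.T2H2.AffRed Groth.Agent.Lib.T2H1.ClImmPC
  Groth.Agent.Lib.Helper1.StalkTensor Groth.Agent.Lib.Helper21.ModTensor5
  DerivedCategory Pretriangulated

/-- the induction hypothesis -/
def IHyp (m b : ℤ) : Prop :=
  ∀ {Z Z' : Scheme.{u}} (k : Z ⟶ Z') (_ : MoreMor.IsFiniteOrderThickening k)
    (C : CochainComplex Z'.Modules ℤ), KFFs C → (∀ j : ℤ, b < j → IsZero (C.homology j)) →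
    pcAll Z (DCoh.toD Z ((pullC k).obj C)) → ∀ z' : Z', LocPCoh m (DCoh.toD Z' C) z'

variable {X X' : Scheme.{u}} (i : X ⟶ X')

lemma isFinLocFree_freeMod (Y : Scheme.{u}) (n : ℕ) : FlatMod.IsFinLocFree (FlatMod.freeMod Y n) :=
  Groth.Agent.Lib.Helper2.LocFree.isFinLocFree_of_iso_freeMod _ (Iso.refl _)

/-- the inductive step, given a chain map from `O^n[-b]` inducing an epimorphism on `H^b` -/
theorem step_of_hom (hi : MoreMor.IsFiniteOrderThickening i) (m b : ℤ) (IH : IHyp.{u} m (b - 1))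
    (P : CochainComplex X'.Modules ℤ) (hP : KFFs P)
    (hvan : ∀ j : ℤ, b < j → IsZero (P.homology j))
    (hpc : pcAll X (DCoh.toD X ((pullC i).obj P))) (n : ℕ)
    (c : (HomologicalComplex.single X'.Modules (ComplexShape.up ℤ) b).obj (FlatMod.freeMod X' n) ⟶ P)
    (hc : Epi (HomologicalComplex.homologyMap c b)) (x' : X') :
    LocPCoh m (DCoh.toD X' P) x' := by
  let S := (HomologicalComplex.single X'.Modules (ComplexShape.up ℤ) b).obj (FlatMod.freeMod X' n)
  have hSsp : DCoh.IsStrictlyPerfect S := isStrictlyPerfect_single X' b _ (isFinLocFree_freeMod X' n)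
  have hSk : KFFs S := kffs_of_isStrictlyPerfect S hSsp
  let C := CochainComplex.mappingCone c
  have hC : KFFs C := kffs_mappingCone c hSk hP
  -- the triangle on `X'`
  have hT := DerivedCategory.mappingCone_triangle_distinguished c
  -- vanishing of the cohomology of the cone
  have hvanC : ∀ j : ℤ, b - 1 < j → IsZero (C.homology j) := by
    intro j hj
    refine IsZero.of_iso ?_ ((homologyFunctorFactors X'.Modules j).app C).symm
    refine isZero_homology_obj₃ _ hT b (fun k hk => ?_) (fun k hk => ?_) ?_ j (by omega)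
    · refine IsZero.of_iso ?_ ((homologyFunctorFactors X'.Modules k).app S)
      apply HomologicalComplex.isZero_single_obj_homology
      omega
    · exact IsZero.of_iso (hvan k hk) ((homologyFunctorFactors X'.Modules k).app P)
    · exact ((isApprox_Q_map_iff b c).2 ⟨fun k hk => by
        have h1 : IsZero (S.homology k) := by
          apply HomologicalComplex.isZero_single_obj_homology
          omega
        exact ⟨⟨0, h1.eq_of_src _ _, (hvan k hk).eq_of_src _ _⟩⟩, hc⟩).2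
  -- pseudo-coherence of the pullback of the cone
  have hpcC : pcAll X (DCoh.toD X ((pullC i).obj C)) := by
    have hT' := DerivedCategory.mappingCone_triangle_distinguished ((pullC i).map c)
    have h₁ : pcAll X (Q.obj ((pullC i).obj S)) :=
      pcAll_Q_of_isStrictlyPerfect X _ (isStrictlyPerfect_pullC i S hSsp)
    have h₃ := (pcAll X).ext_of_isTriangulatedClosed₃ _ hT' h₁ hpc
    exact (pcAll X).prop_of_iso (Q.mapIso
      (CochainComplex.mappingCone.mapHomologicalComplexIso c (Scheme.Modules.pullback i))).symm h₃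
  have h3 : LocPCoh m (DCoh.toD X' C) x' := IH i hi C hC hvanC hpcC x'
  have h1 : LocPCoh m (Q.obj S) x' :=
    (isPseudoCoherentD_iff m _).1 (pcAll_Q_of_isStrictlyPerfect X' S hSsp m) x'
  exact locPCoh_obj₂ m _ hT x' h1 h3

open Groth.Agent.Lib.Helper23.FinType Scheme.Modules in
/-- local chain-level generators of the top cohomology -/
lemma exists_local_single_hom (Y : Scheme.{u}) (G : CochainComplex Y.Modules ℤ) (b : ℤ)
    (hft : CohB1.IsFT (G.homology b)) (y : Y) :
    ∃ (U : Y.Opens) (hy : y ∈ U) (W : (U : Scheme.{u}).Opens) (_ : (⟨y, hy⟩ : U) ∈ W) (n : ℕ)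
      (c : (HomologicalComplex.single (W : Scheme.{u}).Modules (ComplexShape.up ℤ) b).obj
        (FlatMod.freeMod W n) ⟶ (rC W.ι).obj ((rC U.ι).obj G)),
      Epi (HomologicalComplex.homologyMap c b) := by
  haveI : SheafOfModules.IsFiniteType (R := Y.ringCatSheaf) (G.homology b) := hft
  obtain ⟨ι, U, 𝒢, h𝒢, hU, -⟩ := exists_isOpenCover_generatingSections (G.homology b)
  have hy : y ∈ (⨆ i, U i : Y.Opens) := by rw [hU.iSup_eq_top]; trivial
  obtain ⟨i₀, hyi⟩ := TopologicalSpace.Opens.mem_iSup.1 hy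
  haveI := (h𝒢 i₀).finite
  let n := Nat.card (𝒢 i₀).I
  let eI : (𝒢 i₀).I ≃ Fin n := Finite.equivFin _
  let eF : SheafOfModules.free (R := (U i₀ : Scheme.{u}).ringCatSheaf) (𝒢 i₀).I ≅
      FlatMod.freeMod (U i₀) n :=
    Sigma.whiskerEquiv (f := fun _ : (𝒢 i₀).I => SheafOfModules.unit (U i₀ : Scheme.{u}).ringCatSheaf)
      (g := fun _ : Fin n => Coh.structureModule (U i₀)) eI (fun _ => Iso.refl _)
  let G₁ := (rC (U i₀).ι).obj G
  let θ₁ : (restrictFunctor (U i₀).ι).obj (G.homology b) ≅ G₁.homology b :=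
    ((homologyFunctorMapIso (restrictFunctor (U i₀).ι) b).app G).symm
  let φ : FlatMod.freeMod (U i₀) n ⟶ G₁.homology b := eF.inv ≫ (𝒢 i₀).π ≫ θ₁.hom
  haveI : Epi φ := by
    have h1 : Epi ((𝒢 i₀).π) := (𝒢 i₀).epi
    have h2 : Epi θ₁.hom := inferInstance
    have h3 : Epi ((𝒢 i₀).π ≫ θ₁.hom) := @epi_comp _ _ _ _ _ _ h1 _ h2
    exact @epi_comp _ _ _ _ _ _ inferInstance _ h3
  obtain ⟨W, c, hyW, hc⟩ := exists_single_hom (U i₀) G₁ b n φ ⟨y, hyi⟩
  exact ⟨U i₀, hyi, W, hyW, n, c, hc⟩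

open Groth.Agent.Lib.T2H2.NilStalk in
/-- the inductive step -/
theorem step (hi : MoreMor.IsFiniteOrderThickening i) (m b : ℤ) (IH : IHyp.{u} m (b - 1))
    (P : CochainComplex X'.Modules ℤ) (hP : KFFs P)
    (hvan : ∀ j : ℤ, b < j → IsZero (P.homology j))
    (hpc : pcAll X (DCoh.toD X ((pullC i).obj P))) (hft : CohB1.IsFT (P.homology b)) (x' : X') :
    LocPCoh m (DCoh.toD X' P) x' := by
  obtain ⟨U, hxU, W, hxW, n, c, hc⟩ := exists_local_single_hom X' P b hft x'
  -- first restriction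
  have hi₁ := thick_restrict i hi U
  have hP₁ := kffs_rC U P hP
  have hvan₁ : ∀ j : ℤ, b < j → IsZero (((rC U.ι).obj P).homology j) :=
    fun j hj => isZero_homology_rC U P j (hvan j hj)
  have hpc₁ := pcAll_pullC_restrict i U P hP hpc
  -- second restriction
  have hi₂ := thick_restrict (i ∣_ U) hi₁ W
  have hP₂ := kffs_rC W _ hP₁
  have hvan₂ : ∀ j : ℤ, b < j → IsZero (((rC W.ι).obj ((rC U.ι).obj P)).homology j) :=
    fun j hj => isZero_homology_rC W _ j (hvan₁ j hj)
  have hpc₂ := pcAll_pullC_restrict (i ∣_ U) W _ hP₁ hpc₁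
  have h := step_of_hom ((i ∣_ U) ∣_ W) hi₂ m b IH _ hP₂ hvan₂ hpc₂ n c hc ⟨⟨x', hxU⟩, hxW⟩
  let e₂ : (rD W.ι).obj (Q.obj ((rC U.ι).obj P)) ≅ Q.obj ((rC W.ι).obj ((rC U.ι).obj P)) :=
    (Scheme.Modules.restrictFunctor W.ι).mapDerivedCategoryFactors.app _
  have h' : LocPCoh m (Q.obj ((rC U.ι).obj P)) ⟨x', hxU⟩ :=
    locPCoh_of_rD W.ι m _ ⟨⟨x', hxU⟩, hxW⟩ (h.of_iso e₂.symm)
  let e₁ : (rD U.ι).obj (Q.obj P) ≅ Q.obj ((rC U.ι).obj P) :=
    (Scheme.Modules.restrictFunctor U.ι).mapDerivedCategoryFactors.app _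
  exact locPCoh_of_rD U.ι m _ ⟨x', hxU⟩ (h'.of_iso e₁.symm)

end Groth.Agent.Lib.T2H2.NilPC
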