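import Mathlib
import Groth.Agent.Lib.T2H2NilPCB
import Groth.Agent.Lib.T2H8PCohBdd
set_option backward.isDefEq.respectTransparency.types false

/-!
# Pseudo-coherence through finite order thickenings, part C: the theorem (T2H2)

`isPseudoCoherentD_of_lpull_thick`: if `i : X ⟶ X'` is a finite order thickening and `Li^* K'` is
pseudo-coherent, then `K'` is pseudo-coherent.
-/

set_option autoImplicit false
set_option linter.style.haveILetI false
universe u
open CategoryTheory CategoryTheory.Limits HomologicalComplex AlgebraicGeometry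

attribute [local instance] HasDerivedCategory.standard

namespace Groth.Agent.Lib.T2H2.NilPC

open Groth.Agent.Lib.Helper1.Sky Groth.Agent.Lib.Helper1.BKF Groth.Agent.Lib.Helper1.CI
  Groth.Agent.Lib.Helper1.KBC Groth.Agent.Lib.T2H8.PerfLocal Groth.Agent.Lib.T2H8.PCohTriangle
  Groth.Agent.Lib.T2H2.FpqcPCoh Groth.Agent.Lib.T2H2.AffRed Groth.Agent.Lib.T2H1.ClImmPC
  Groth.Agent.Lib.Helper1.StalkTensor Groth.Agent.Lib.Helper21.ModTensor5
  Groth.Agent.Lib.T2H2.NilStalk Groth.Agent.Lib.T2H2.NilBound Groth.Agent.Lib.T2H2.NilTop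
  DerivedCategory Pretriangulated

lemma locPCoh_of_vanishing {Z' : Scheme.{u}} (m b : ℤ) (hbm : b < m)
    (C : CochainComplex Z'.Modules ℤ) (hvan : ∀ j : ℤ, b < j → IsZero (C.homology j)) (z' : Z') :
    LocPCoh m (DCoh.toD Z' C) z' := by
  refine (isPseudoCoherentD_iff m _).1 (isPseudoCoherentD_of_isZero_HD m _ (fun j hj => ?_)) z'
  exact IsZero.of_iso (hvan j (by omega)) ((homologyFunctorFactors Z'.Modules j).app C)

/-- the descending induction -/
theorem claim (m : ℤ) (n : ℕ) : ∀ b : ℤ, b - m < n → IHyp.{u} m b := by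
  induction n with
  | zero =>
    intro b hb Z Z' k hk C hC hvan hpc z'
    exact locPCoh_of_vanishing m b (by simpa using hb) C hvan z'
  | succ n ih =>
    intro b hb Z Z' k hk C hC hvan hpc z'
    by_cases hlt : b < m
    · exact locPCoh_of_vanishing m b hlt C hvan z'
    · have hft : CohB1.IsFT (C.homology b) := isFT_homology_of_pullC k hk C hC b hvan (hpc b)
      exact step k hk m b (ih (b - 1) (by push_cast at hb; omega)) C hC hvan hpc hft z'

/-- **pseudo-coherence lifts through finite order thickenings** -/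
theorem isPseudoCoherentD_of_lpull_thick {X X' : Scheme.{u}} (i : X ⟶ X')
    (hi : MoreMor.IsFiniteOrderThickening i) [DCoh.HasLpull i] (K' : DCoh.D X')
    (hK : ∀ m : ℤ, DCoh.IsPseudoCoherentD m ((DCoh.Lpull i).obj K')) (m : ℤ) :
    DCoh.IsPseudoCoherentD m K' := by
  rw [isPseudoCoherentD_iff]
  intro x'
  haveI : IsClosedImmersion i := hi.1.1
  haveI : Surjective i := hi.1.2
  obtain ⟨x, rfl⟩ := i.surjective x'
  -- a K-flat resolution with flat terms
  let F0 := (DerivedCategory.Q (C := X'.Modules)).objPreimage K'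
  have e0 : DerivedCategory.Q.obj F0 ≅ K' :=
    (DerivedCategory.Q (C := X'.Modules)).objObjPreimageIso K'
  obtain ⟨P, q, hPk, hPf, hq, -⟩ := exists_kflat_flat_resolution (O := X'.sheaf) F0
  have hP : KFFs P := ⟨hPk, hPf⟩
  haveI : IsIso (DerivedCategory.Q.map q) := by
    rw [DerivedCategory.isIso_Q_map_iff_quasiIso]; exact hq
  let eK : K' ≅ DCoh.toD X' P := e0.symm ≪≫ (asIso (DerivedCategory.Q.map q)).symm
  let e2 : (DCoh.Lpull i).obj K' ≅ DCoh.toD X ((pullC i).obj P) :=
    (DCoh.Lpull i).mapIso eK ≪≫ lpullIsoK i P hP.1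
  have hpc : pcAll X (DCoh.toD X ((pullC i).obj P)) :=
    fun m' => isPseudoCoherentD_of_iso e2 m' (hK m')
  -- a local bound for the cohomology of the pullback
  obtain ⟨U, j, hj, x₁, hx₁, hPC⟩ := (isPseudoCoherentD_iff m _).1 (hpc m) x
  obtain ⟨b, hb⟩ := Groth.Agent.Lib.T2H8.PCohBdd.PCohAt.exists_bound hPC
  obtain ⟨V, hxV, hV⟩ := exists_opens_preimage_subset i j x₁
  rw [hx₁] at hxV
  -- the restricted data
  have hi₁ := thick_restrict i hi V
  haveI : Surjective (i ∣_ V) := hi₁.1.2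
  have hP₁ := kffs_rC V P hP
  have hpc₁ := pcAll_pullC_restrict i V P hP hpc
  have hvanpull : ∀ k : ℤ, b < k →
      IsZero (((pullC (i ∣_ V)).obj ((rC V.ι).obj P)).homology k) := by
    intro k hk
    obtain ⟨e⟩ := nonempty_toD_pullC_restrict_iso i V P hP
    refine IsZero.of_iso ?_ (((homologyFunctorFactors _ k).app _).symm ≪≫
      (homologyFunctor _ k).mapIso e ≪≫
      (mapDerivedCategoryHomologyIso (Scheme.Modules.restrictFunctor (i ⁻¹ᵁ V).ι) k).app _)
    exact isZero_restrict_of_subset _ j (hb k hk) (i ⁻¹ᵁ V) hV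
  have hvan₁ : ∀ k : ℤ, b < k → IsZero (((rC V.ι).obj P).homology k) := by
    intro k hk
    rw [← exactAt_iff_isZero_homology]
    exact exactAt_of_exactAt_pullC (i ∣_ V) (nilStalk_of_thick _ hi₁) _ hP₁ b
      (fun k' hk' => (exactAt_iff_isZero_homology _ _).2 (hvanpull k' hk')) k hk
  have h := claim m ((b - m).toNat + 1) b (by omega) (i ∣_ V) hi₁ _ hP₁ hvan₁ hpc₁ ⟨i x, hxV⟩
  let e₁ : (rD V.ι).obj (Q.obj P) ≅ Q.obj ((rC V.ι).obj P) :=
    (Scheme.Modules.restrictFunctor V.ι).mapDerivedCategoryFactors.app _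
  have h' : LocPCoh m (Q.obj P) (i x) := locPCoh_of_rD V.ι m _ ⟨i x, hxV⟩ (h.of_iso e₁.symm)
  exact h'.of_iso eK.symm

end Groth.Agent.Lib.T2H2.NilPC
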