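import Mathlib
import Groth.Agent.Lib.Helper22ThickAffine
import Groth.Agent.Lib.Helper23FinTypeLocal
import Groth.Agent.Lib.Helper21RestrExact

/-!
# Direct image along the underlying map of an affine morphism through a nilpotent thickening (T2H2)

Let `i : T ⟶ Tc` be a closed immersion with nilpotent kernel, `u : T ⟶ U` an affine morphism and
`g : |Tc| ⟶ |U|` continuous with `g ∘ i = u`.
* `surjective_of_nilpotent_ker` : `i` is surjective;
* `isAffineOpen_map_of_thick` : the `g`-preimage of an affine open of `U` is an affine open of `Tc`;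
* `epi_pushforward_of_epi` : the direct image along `g` of an epimorphism of quasi-coherent modules
  is an epimorphism of sheaves of modules over `g_* O_{Tc}`.
-/

open AlgebraicGeometry CategoryTheory TopologicalSpace Opposite

namespace Groth.Agent.Lib.T2H2.NilPush

universe u

theorem surjective_of_nilpotent_ker {T Tc : Scheme.{u}} (i : T ⟶ Tc) [IsClosedImmersion i]
    (hnil : ∃ n : ℕ, ∀ V : Tc.affineOpens, i.ker.ideal V ^ n = ⊥) : Function.Surjective i := by
  obtain ⟨n, hn⟩ := hnil
  have hsupp : ∀ y : Tc, y ∈ i.ker.support := by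
    intro y
    rw [Scheme.IdealSheafData.mem_support_iff]
    intro V
    rw [Scheme.mem_zeroLocus_iff]
    intro f hf hy
    have hfn : f ^ n = 0 := by
      have h1 : f ^ n ∈ i.ker.ideal V ^ n := Ideal.pow_mem_pow hf n
      rw [hn V] at h1
      exact h1
    have hb : Tc.basicOpen f = ⊥ := by
      by_cases h0 : n = 0
      · subst h0
        have h1 : (1 : Γ(Tc, V.1)) = 0 := by simpa using hfn
        have hf0 : f = 0 := by
          calc f = f * 1 := (mul_one f).symm
            _ = 0 := by rw [h1, mul_zero]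
        rw [hf0, Scheme.basicOpen_zero]
      · rw [← Scheme.basicOpen_pow Tc f (Nat.pos_of_ne_zero h0), hfn, Scheme.basicOpen_zero]
    rw [hb] at hy
    exact hy
  intro y
  have h1 : y ∈ closure (Set.range i) := by
    have h2 : y ∈ (i.ker.support : Set Tc) := hsupp y
    rw [Scheme.Hom.support_ker i] at h2
    exact h2
  rw [i.isClosedEmbedding.isClosed_range.closure_eq] at h1
  exact h1

theorem isAffineOpen_map_of_thick {T Tc U : Scheme.{u}} (i : T ⟶ Tc) [IsClosedImmersion i]
    (hi : Function.Surjective i) (u : T ⟶ U) [IsAffineHom u] (g : Tc.carrier ⟶ U.carrier)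
    (hg : i.base ≫ g = u.base) (V : U.Opens) (hV : IsAffineOpen V) :
    IsAffineOpen ((Opens.map g).obj V : Tc.Opens) := by
  set W : Tc.Opens := (Opens.map g).obj V with hWdef
  have hgx : ∀ x : T, g (i x) = u x := fun x => ConcreteCategory.congr_hom hg x
  have hW : i ⁻¹ᵁ W = u ⁻¹ᵁ V := by
    ext x
    show g (i x) ∈ V ↔ u x ∈ V
    rw [hgx x]
  have haff : IsAffineOpen (i ⁻¹ᵁ W) := by
    rw [hW]
    exact hV.preimage u
  have : IsAffine ((i ⁻¹ᵁ W : T.Opens) : Scheme.{u}) := haff
  have : IsClosedImmersion (i ∣_ W) :=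
    IsZariskiLocalAtTarget.restrict (P := @IsClosedImmersion) inferInstance W
  have hsurj : Function.Surjective (i ∣_ W) := by
    rintro ⟨y, hy⟩
    obtain ⟨x, rfl⟩ := hi y
    refine ⟨⟨x, hy⟩, ?_⟩
    apply Subtype.ext
    rw [morphismRestrict_base_coe]
  exact Groth.Agent.Lib.Helper22.ThickAffine.isAffine_of_thickening (i ∣_ W) hsurj

theorem epi_pushforward_of_epi {T Tc U : Scheme.{u}} (i : T ⟶ Tc) [IsClosedImmersion i]
    (hnil : ∃ n : ℕ, ∀ V : Tc.affineOpens, i.ker.ideal V ^ n = ⊥)
    (u : T ⟶ U) [IsAffineHom u] (g : Tc.carrier ⟶ U.carrier) (hg : i.base ≫ g = u.base)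
    (M N : Tc.Modules) [M.IsQuasicoherent] [N.IsQuasicoherent] (φ : M ⟶ N) [Epi φ] :
    Epi ((SheafOfModules.pushforward (F := Opens.map g) (R := Tc.ringCatSheaf)
      (𝟙 (((Opens.map g).sheafPushforwardContinuous RingCat.{u} (Opens.grothendieckTopology U)
        (Opens.grothendieckTopology Tc)).obj Tc.ringCatSheaf))).map φ) := by
  have hi := surjective_of_nilpotent_ker i hnil
  apply Groth.Agent.Lib.Helper21.RestrExact.epi_of_isLocallySurjective
  constructor
  intro V s x hx
  obtain ⟨_, ⟨V', hV', rfl⟩, hxV', hV'V⟩ := U.isBasis_affineOpens.exists_subset_of_mem_open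
    hx V.2
  have hW : IsAffineOpen ((Opens.map g).obj V' : Tc.Opens) :=
    isAffineOpen_map_of_thick i hi u g hg V' hV'
  have hsurj := Groth.Agent.Lib.Helper23.FinType.surjective_app_of_epi φ hW
  obtain ⟨t, ht⟩ := hsurj (N.val.presheaf.map ((Opens.map g).map (homOfLE hV'V)).op s)
  exact ⟨V', homOfLE hV'V, ⟨t, ht⟩, hxV'⟩

end Groth.Agent.Lib.T2H2.NilPush
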