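import Mathlib
import Groth.Agent.Lib.T2H2NilTorC
import Groth.Agent.Lib.T2H2NilPCC
set_option backward.isDefEq.respectTransparency.types false

/-!
# Relative perfectness lifts through finite order thickenings of the base (T2H2)
-/

set_option autoImplicit false
set_option linter.style.haveILetI false
universe u
open CategoryTheory CategoryTheory.Limits AlgebraicGeometry HomologicalComplex TopologicalSpace

attribute [local instance] HasDerivedCategory.standard

namespace Groth.Agent.Lib.T2H2.NilTor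

open Groth.Agent.Lib.T2H1.RelPerfTri

theorem relPerfect_of_lpull_thick_base {X X' Y Y' : Scheme.{u}} (f : X ⟶ Y) (f' : X' ⟶ Y')
    (i : X ⟶ X') (j : Y ⟶ Y') (sq : IsPullback i f f' j) [Flat f']
    (hj : MoreMor.IsFiniteOrderThickening j) [DCoh.HasLpull i] (E' : DCoh.D X')
    (hE : ∃ F : CochainComplex X.Modules ℤ, Nonempty (DCoh.toD X F ≅ (DCoh.Lpull i).obj E') ∧
      (∀ m : ℤ, DCoh.IsPseudoCoherentD m (DCoh.toD X F)) ∧ DerSch.LocFiniteTorAmplitude f F) :
    (∀ m : ℤ, DCoh.IsPseudoCoherentD m E') ∧ DerSch.LocFiniteTorAmplitudeD f' E' := by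
  obtain ⟨F, ⟨eF⟩, hpc, htor⟩ := hE
  have hi : MoreMor.IsFiniteOrderThickening i :=
    Groth.Agent.Lib.Helper2.Thick.fthick_baseChange i j f f' hj sq
  haveI : IsClosedImmersion i := hi.1.1
  haveI : Surjective i := hi.1.2
  refine ⟨fun m => ?_, ?_⟩
  · exact Groth.Agent.Lib.T2H2.NilPC.isPseudoCoherentD_of_lpull_thick i hi E'
      (fun m => Groth.Agent.Lib.T2H2.AffRed.isPseudoCoherentD_of_iso eF m (hpc m)) m
  · rintro F' ⟨eF'⟩ x'
    obtain ⟨x, rfl⟩ := i.surjective x'
    obtain ⟨V, a, b, hxV, hV⟩ := htor x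
    obtain ⟨t, hto, ht⟩ := i.isClosedEmbedding.isInducing.isOpen_iff.1 V.isOpen
    refine ⟨⟨t, hto⟩, a, b, ?_, ?_⟩
    · change x ∈ i ⁻¹' t
      rw [ht]
      exact hxV
    · intro z' hz'
      obtain ⟨z, rfl⟩ := i.surjective z'
      have hz : z ∈ V := by
        change i z ∈ t at hz'
        have : z ∈ i ⁻¹' t := hz'
        rw [ht] at this
        exact this
      have h1 : TAat f a b ((DCoh.Lpull i).obj E') z :=
        TAat.of_iso f eF ((tAat_toD_iff f a b F z).2 (hV z hz))
      have h2 := tAat_of_tAat_Lpull_thick f f' i j sq hj E' a b z h1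
      exact (tAat_toD_iff f' a b F' (i z)).1 (TAat.of_iso f' eF'.symm h2)

end Groth.Agent.Lib.T2H2.NilTor
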