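import Mathlib
import Groth.Prelude.Def_FlatMod2
import Groth.Agent.Lib.T2H2GenCover
import Groth.Agent.Lib.Helper20OmegaAff
import Groth.Agent.Lib.Helper20LocFree
import Groth.Agent.Lib.Helper23FinTypeLocal
import Groth.Agent.Lib.Helper23Extend
import Groth.Agent.Lib.Helper23PB

/-!
# Generators of a finite module from generators along the strata of a stratification (helper2)

Namespace `Groth.Agent.Lib.T2H2.NisGen`.
-/

set_option autoImplicit false
set_option linter.style.haveILetI false
set_option linter.unusedSectionVars false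
universe u
open CategoryTheory CategoryTheory.Limits AlgebraicGeometry Opposite TopologicalSpace TensorProduct

namespace Groth.Agent.Lib.T2H2.NisGen

open Groth.Agent.Lib.T2H2.GenCover Groth.Agent.Lib.Helper20.OmegaAff Groth.Agent.Lib.Helper20.LocFree
open Groth.Agent.Lib.Helper23.FinType Groth.Agent.Lib.Helper23.Extend Groth.Agent.Lib.Helper23.PB

section Alg

/-- lifting generators of `R ⊗ M` along a surjection `R' → R` -/
theorem exists_lift_gens {R' R : Type u} [CommRing R'] [CommRing R] (φ : R' →+* R)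
    (hφ : Function.Surjective φ) (M : ModuleCat.{u} R') {n : ℕ}
    (z : Fin n → (ModuleCat.extendScalars φ).obj M)
    (hz : Submodule.span R (Set.range z) = ⊤) :
    ∃ x : Fin n → M,
      Submodule.span R' (Set.range x) ⊔ RingHom.ker φ • (⊤ : Submodule R' M) = ⊤ := by
  letI : Algebra R' R := φ.toAlgebra
  let z' : Fin n → R ⊗[R'] M := z
  have hz' : Submodule.span R (Set.range z') = ⊤ := hz
  have hsurj : Function.Surjective (algebraMap R' R) := hφ
  have h1 : Submodule.span R' (Set.range z') = ⊤ := by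
    rw [← Submodule.restrictScalars_span R' R hsurj, hz']
    rfl
  let f : R' →ₐ[R'] R := Algebra.ofId R' R
  have hf : Function.Surjective f := hφ
  let ψ : (R' ⧸ RingHom.ker f) ≃ₐ[R'] R := Ideal.quotientKerAlgEquivOfSurjective hf
  let e1 : R ⊗[R'] M ≃ₗ[R'] (R' ⧸ RingHom.ker f) ⊗[R'] M :=
    TensorProduct.congr ψ.symm.toLinearEquiv (LinearEquiv.refl R' M)
  let e2 := TensorProduct.quotTensorEquivQuotSMul M (RingHom.ker f)
  let e := e1.trans e2
  let K : Submodule R' M := RingHom.ker f • (⊤ : Submodule R' M)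
  have hx : ∀ j, ∃ x : M, K.mkQ x = e (z' j) := fun j => K.mkQ_surjective _
  choose x hx using hx
  refine ⟨x, ?_⟩
  have h2 : Submodule.map K.mkQ (Submodule.span R' (Set.range x)) = ⊤ := by
    rw [Submodule.map_span, ← Set.range_comp]
    have : (K.mkQ ∘ x) = (e ∘ z') := funext hx
    rw [this, Set.range_comp]
    change Submodule.span R' ((e.toLinearMap : _ → _) '' Set.range z') = ⊤
    rw [← Submodule.map_span, h1, Submodule.map_top]
    exact LinearMap.range_eq_top.2 e.surjective
  have h3 := (Submodule.map_mkQ_eq_top K (Submodule.span R' (Set.range x))).1 h2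
  rw [sup_comm]
  exact h3

/-- Nakayama: if `N + I M = M` then some `r ≡ 1 mod I` maps `M` into `N`. -/
theorem exists_smul_mem_of_sup_smul_eq_top {R : Type u} [CommRing R] (I : Ideal R) (M : Type u)
    [AddCommGroup M] [Module R M] [Module.Finite R M] (N : Submodule R M)
    (h : N ⊔ I • (⊤ : Submodule R M) = ⊤) : ∃ r : R, r - 1 ∈ I ∧ ∀ m : M, r • m ∈ N := by
  have hle : (⊤ : Submodule R (M ⧸ N)) ≤ I • (⊤ : Submodule R (M ⧸ N)) := by
    have h1 : Submodule.map N.mkQ (I • (⊤ : Submodule R M)) = ⊤ := by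
      rw [Submodule.map_mkQ_eq_top, h]
    rw [Submodule.map_smul'', Submodule.map_top, Submodule.range_mkQ] at h1
    rw [h1]
  obtain ⟨r, hr, hr0⟩ := Submodule.exists_sub_one_mem_and_smul_eq_zero_of_fg_of_le_smul I
    (⊤ : Submodule R (M ⧸ N)) Module.Finite.fg_top hle
  refine ⟨r, hr, fun m => ?_⟩
  have := hr0 (N.mkQ m) Submodule.mem_top
  rw [← map_smul] at this
  exact (Submodule.Quotient.mk_eq_zero N).1 this

end Alg

section Tilde

variable {C : CommRingCat.{u}}

/-- an epimorphism from a free module of rank `n` onto `P~` on `Spec C` gives `n` generators of `P`. -/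
theorem exists_span_of_epi_tilde (P : ModuleCat.{u} C) {n : ℕ}
    (φ : FlatMod.freeMod (Spec C) n ⟶ tilde P) [Epi φ] :
    ∃ z : Fin n → P, Submodule.span C (Set.range z) = ⊤ := by
  classical
  have hsurj : Function.Surjective (φ.app (⊤ : (Spec C).Opens)) :=
    surjective_app_of_epi φ (isAffineOpen_top (Spec C))
  have hbij : Function.Bijective (tilde.toOpen P (⊤ : (Spec C).Opens)).hom :=
    (ConcreteCategory.isIso_iff_bijective (tilde.toOpen P ⊤)).1 inferInstance
  -- the images of the basis
  let y : Fin n → Γ(tilde P, (⊤ : (Spec C).Opens)) := fun j =>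
    (Sigma.ι (fun _ : Fin n => Coh.structureModule (Spec C)) j ≫ φ).app ⊤ (one ⊤)
  have hz : ∀ j, ∃ z : P, (tilde.toOpen P (⊤ : (Spec C).Opens)).hom z = y j := fun j => hbij.2 (y j)
  choose z hz using hz
  refine ⟨z, ?_⟩
  rw [eq_top_iff]
  intro w _
  obtain ⟨c, hc⟩ := hsurj ((tilde.toOpen P (⊤ : (Spec C).Opens)).hom w)
  rw [app_free_eq φ ⊤ c] at hc
  -- coefficients come from `C`
  have hcoef : ∀ j, ∃ a : C, algebraMap C Γ(Spec C, (⊤ : (Spec C).Opens)) a =
      asRing ⊤ ((prj (Spec C) n j).app ⊤ c) := fun j => surjective_algebraMap_top C _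
  choose a ha using hcoef
  have h1 : (tilde.toOpen P (⊤ : (Spec C).Opens)).hom (∑ j, a j • z j) =
      (tilde.toOpen P (⊤ : (Spec C).Opens)).hom w := by
    rw [← hc, map_sum]
    refine Finset.sum_congr rfl (fun j _ => ?_)
    rw [map_smul, hz j, ← ha j]
    have h3 : (tilde P).presheaf.map (homOfLE (le_top : (⊤ : (Spec C).Opens) ≤ ⊤)).op = 𝟙 _ := by
      have : (homOfLE (le_top : (⊤ : (Spec C).Opens) ≤ ⊤)).op = 𝟙 _ := rfl
      rw [this, CategoryTheory.Functor.map_id]
    rw [h3]
    exact (algebraMap_smul Γ(Spec C, (⊤ : (Spec C).Opens)) (a j) (y j)).symm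
  have h2 := hbij.1 h1
  rw [← h2]
  exact Submodule.sum_mem _ (fun j _ => Submodule.smul_mem _ _ (Submodule.subset_span ⟨j, rfl⟩))

end Tilde

section GenAlong

variable (R : CommRingCat.{u})

/-- `M~` is generated by `n` global sections after pullback to some subscheme structure on `W`. -/
def GenAlong (W : Set (Spec R)) (M : ModuleCat.{u} R) (n : ℕ) : Prop :=
  ∃ (T : Scheme.{u}) (g : T ⟶ Spec R), IsImmersion g ∧ Set.range (fun t : T => g t) = W ∧
    ∃ ψ : FlatMod.freeMod T n ⟶ (Scheme.Modules.pullback g).obj (tilde M), Epi ψ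

variable {R}

theorem pullback_map_epi {X Y : Scheme.{u}} (f : X ⟶ Y) {A B : Y.Modules} (p : A ⟶ B) [hp : Epi p] :
    Epi ((Scheme.Modules.pullback f).map p) := by
  have h1 : (Scheme.Modules.pullback f).PreservesEpimorphisms :=
    Functor.preservesEpimorphisms_of_adjunction (Scheme.Modules.pullbackPushforwardAdjunction f)
  exact @Functor.map_epi _ _ _ _ (Scheme.Modules.pullback f) h1 _ _ p hp

theorem tilde_map_epi {M M' : ModuleCat.{u} R} (π : M ⟶ M') [hp : Epi π] :
    Epi ((tilde.functor R).map π) := by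
  have h1 : (tilde.functor R).PreservesEpimorphisms :=
    Functor.preservesEpimorphisms_of_adjunction (tilde.adjunction (R := R))
  exact @Functor.map_epi _ _ _ _ (tilde.functor R) h1 _ _ π hp

theorem GenAlong.of_epi {W : Set (Spec R)} {M M' : ModuleCat.{u} R} {n : ℕ} (h : GenAlong R W M n)
    (π : M ⟶ M') [Epi π] : GenAlong R W M' n := by
  obtain ⟨T, g, hg, hr, ψ, hψ⟩ := h
  have h1 := tilde_map_epi π
  have h2 := @pullback_map_epi _ _ g _ _ ((tilde.functor R).map π) h1
  exact ⟨T, g, hg, hr, ψ ≫ (Scheme.Modules.pullback g).map ((tilde.functor R).map π),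
    @epi_comp _ _ _ _ _ ψ hψ _ h2⟩

set_option backward.isDefEq.respectTransparency.types false in
/-- pullback of a free module of finite rank is free -/
noncomputable def pullbackFreeModIso {X Y : Scheme.{u}} (f : X ⟶ Y) (n : ℕ) :
    (Scheme.Modules.pullback f).obj (FlatMod.freeMod Y n) ≅ FlatMod.freeMod X n :=
  (Scheme.Modules.pullback f).mapIso (freeModIsoFree Y n) ≪≫
    SheafOfModules.pullbackObjFreeIso.{u} f.toRingCatSheafHom (ULift.{u} (Fin n)) ≪≫
    (freeModIsoFree X n).symm

theorem range_Spec_map_mk (𝔞 : Ideal R) :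
    Set.range (fun t => Spec.map (CommRingCat.ofHom (Ideal.Quotient.mk 𝔞)) t) =
      PrimeSpectrum.zeroLocus (𝔞 : Set R) := by
  have := _root_.range_comap_of_surjective _ (Ideal.Quotient.mk 𝔞)
    Ideal.Quotient.mk_surjective
  rw [Ideal.mk_ker] at this
  exact this

theorem GenAlong.exists_quotient {W : Set (Spec R)} {M : ModuleCat.{u} R} {n : ℕ}
    (h : GenAlong R W M n) (𝔞 : Ideal R)
    (hcl : IsClosed (W ∩ PrimeSpectrum.zeroLocus (𝔞 : Set R))) :
    ∃ 𝔟 : Ideal R, PrimeSpectrum.zeroLocus (𝔟 : Set R) = W ∩ PrimeSpectrum.zeroLocus (𝔞 : Set R) ∧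
      ∃ z : Fin n → (ModuleCat.extendScalars (Ideal.Quotient.mk 𝔟)).obj M,
        Submodule.span (R ⧸ 𝔟) (Set.range z) = ⊤ := by
  obtain ⟨T, g, hg, hr, ψ, hψ⟩ := h
  let i : Spec (.of (R ⧸ 𝔞)) ⟶ Spec R := Spec.map (CommRingCat.ofHom (Ideal.Quotient.mk 𝔞))
  let g'' : pullback g i ⟶ Spec R := pullback.fst g i ≫ g
  haveI : IsImmersion g'' := inferInstance
  have hrange : Set.range g'' = W ∩ PrimeSpectrum.zeroLocus (𝔞 : Set R) := by
    rw [Scheme.Pullback.range_fst_comp, ← hr, ← range_Spec_map_mk 𝔞]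
  haveI : IsClosedImmersion g'' := IsClosedImmersion.of_isPreimmersion _ (hrange ▸ hcl)
  obtain ⟨𝔟, e, he⟩ := IsClosedImmersion.Spec_iff.1 (inferInstance : IsClosedImmersion g'')
  let χ : R ⟶ CommRingCat.of (R ⧸ 𝔟) := CommRingCat.ofHom (Ideal.Quotient.mk 𝔟)
  refine ⟨𝔟, ?_, ?_⟩
  · rw [← hrange, ← range_Spec_map_mk 𝔟, he]
    ext p
    constructor
    · rintro ⟨t, rfl⟩
      exact ⟨e.inv t, by rw [← Scheme.Hom.comp_apply, Iso.inv_hom_id_assoc]⟩
    · rintro ⟨t, rfl⟩
      exact ⟨e.hom t, (Scheme.Hom.comp_apply _ _ _).symm⟩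
  · let q : Spec (CommRingCat.of (R ⧸ 𝔟)) ⟶ T := e.inv ≫ pullback.fst g i
    have hq : q ≫ g = Spec.map χ := by
      change (e.inv ≫ pullback.fst g i) ≫ g = _
      rw [Category.assoc]
      change e.inv ≫ g'' = _
      rw [he, Iso.inv_hom_id_assoc]
    have h1 := @pullback_map_epi _ _ q _ _ ψ hψ
    let Φ : FlatMod.freeMod (Spec (CommRingCat.of (R ⧸ 𝔟))) n ⟶
        tilde ((ModuleCat.extendScalars χ.hom).obj M) :=
      (pullbackFreeModIso q n).inv ≫ (Scheme.Modules.pullback q).map ψ ≫
        (Scheme.Modules.pullbackComp q g).hom.app (tilde M) ≫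
        (Scheme.Modules.pullbackCongr hq).hom.app (tilde M) ≫ (pullbackTildeObjIso χ M).hom
    haveI : Epi Φ := by
      have h2 : Epi ((Scheme.Modules.pullback q).map ψ ≫
          ((Scheme.Modules.pullbackComp q g).hom.app (tilde M) ≫
          (Scheme.Modules.pullbackCongr hq).hom.app (tilde M) ≫ (pullbackTildeObjIso χ M).hom)) :=
        @epi_comp _ _ _ _ _ _ h1 _ inferInstance
      exact @epi_comp _ _ _ _ _ _ inferInstance _ h2
    exact exists_span_of_epi_tilde _ Φ

/-- one step: generators along a locally closed `W` meeting the support in a closed set give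
elements generating `M` at all points of `W`. -/
theorem GenAlong.exists_step {W : Set (Spec R)} {M : ModuleCat.{u} R} [Module.Finite R M] {n : ℕ}
    (h : GenAlong R W M n) (hcl : IsClosed (W ∩ Module.support R M)) :
    ∃ x : Fin n → M, ∀ p : PrimeSpectrum R, (p : Spec R) ∈ W →
      p ∉ Module.support R (M ⧸ Submodule.span R (Set.range x)) := by
  have hsupp : Module.support R M = PrimeSpectrum.zeroLocus (Module.annihilator R M : Set R) :=
    Module.support_eq_zeroLocus
  rw [hsupp] at hcl
  obtain ⟨𝔟, h𝔟, z, hz⟩ := h.exists_quotient (Module.annihilator R M) hcl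
  obtain ⟨x, hx⟩ := exists_lift_gens (Ideal.Quotient.mk 𝔟) Ideal.Quotient.mk_surjective M z hz
  rw [Ideal.mk_ker] at hx
  obtain ⟨r, hr, hrm⟩ := exists_smul_mem_of_sup_smul_eq_top 𝔟 M _ hx
  refine ⟨x, fun p hpW hp => ?_⟩
  have hpM : p ∈ Module.support R M :=
    Module.support_subset_of_surjective _ (Submodule.mkQ_surjective _) hp
  rw [hsupp] at hpM
  have hpb : p ∈ PrimeSpectrum.zeroLocus (𝔟 : Set R) := by
    rw [h𝔟]
    exact ⟨hpW, hpM⟩
  have hrp : r ∉ p.asIdeal := by
    intro hr'
    have h1 : r - 1 ∈ p.asIdeal := hpb hr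
    have h2 : (1 : R) ∈ p.asIdeal := by
      have : (1 : R) = r - (r - 1) := by ring
      rw [this]
      exact Ideal.sub_mem _ hr' h1
    exact p.2.ne_top ((Ideal.eq_top_iff_one _).2 h2)
  revert hp
  rw [imp_false, Module.notMem_support_iff']
  intro m
  obtain ⟨m, rfl⟩ := Submodule.mkQ_surjective _ m
  refine ⟨r, hrp, ?_⟩
  rw [← map_smul]
  exact (Submodule.Quotient.mk_eq_zero _).2 (hrm m)

/-- generators of a finite module from generators along the strata of a finite closed filtration. -/
theorem exists_generators_of_chain (N : ℕ) : ∀ (m : ℕ) (M : ModuleCat.{u} R) [Module.Finite R M]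
    (Z : Fin (m + 1) → Set (Spec R)), Monotone Z → (∀ k, IsClosed (Z k)) →
    (∀ p : PrimeSpectrum R, (p : Spec R) ∈ Z 0 → p ∉ Module.support R M) →
    (∀ p : PrimeSpectrum R, p ∈ Module.support R M → (p : Spec R) ∈ Z (Fin.last m)) →
    (∀ k : Fin m, GenAlong R (Z k.succ \ Z k.castSucc) M N) →
    ∃ s : Fin (N * m) → M, Submodule.span R (Set.range s) = ⊤ := by
  intro m
  induction m with
  | zero =>
    intro M _ Z hmono hcl h0 hlast hgen
    have hempty : Module.support R M = ∅ := by
      ext p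
      simp only [Set.mem_empty_iff_false, iff_false]
      intro hp
      exact h0 p (hlast p hp) hp
    have hsub : Subsingleton M := Module.support_eq_empty_iff.1 hempty
    refine ⟨fun _ => 0, ?_⟩
    rw [eq_top_iff]
    intro x _
    rw [Subsingleton.elim x 0]
    exact Submodule.zero_mem _
  | succ m ih =>
    intro M _ Z hmono hcl h0 hlast hgen
    have hW : GenAlong R (Z 1 \ Z 0) M N := by
      have := hgen 0
      rwa [Fin.succ_zero_eq_one, Fin.castSucc_zero] at this
    have hclW : IsClosed ((Z 1 \ Z 0) ∩ Module.support R M) := by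
      have : (Z 1 \ Z 0) ∩ Module.support R M = Z 1 ∩ Module.support R M := by
        ext p
        constructor
        · rintro ⟨⟨h1, -⟩, h2⟩; exact ⟨h1, h2⟩
        · rintro ⟨h1, h2⟩; exact ⟨⟨h1, fun h3 => h0 p h3 h2⟩, h2⟩
      rw [this]
      exact (hcl 1).inter Module.isClosed_support
    obtain ⟨x, hx⟩ := hW.exists_step hclW
    let K : Submodule R M := Submodule.span R (Set.range x)
    let M'' : ModuleCat.{u} R := ModuleCat.of R (M ⧸ K)
    let π : M ⟶ M'' := ModuleCat.ofHom K.mkQ
    haveI : Epi π := (ModuleCat.epi_iff_surjective π).2 K.mkQ_surjective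
    haveI : Module.Finite R M'' := inferInstanceAs (Module.Finite R (M ⧸ K))
    have hsub : Module.support R M'' ⊆ Module.support R M :=
      Module.support_subset_of_surjective _ K.mkQ_surjective
    obtain ⟨s', hs'⟩ := ih M'' (fun k => Z k.succ) (hmono.comp Fin.strictMono_succ.monotone)
      (fun k => hcl k.succ)
      (by
        intro p hp1 hp
        by_cases hp0 : (p : Spec R) ∈ Z 0
        · exact h0 p hp0 (hsub hp)
        · exact hx p ⟨by rwa [Fin.succ_zero_eq_one] at hp1, hp0⟩ hp)
      (by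
        intro p hp
        have := hlast p (hsub hp)
        rwa [Fin.succ_last])
      (by
        intro k
        have := (hgen k.succ).of_epi π
        rwa [← Fin.succ_castSucc] at this)
    have hlift : ∀ i, ∃ z : M, K.mkQ z = s' i := fun i => K.mkQ_surjective (s' i)
    choose s'' hs'' using hlift
    have hsup : Submodule.span R (Set.range s'') ⊔ K = ⊤ := by
      rw [eq_top_iff]
      intro g _
      have h1 : K.mkQ g ∈ Submodule.span R (Set.range s') := by rw [hs']; exact Submodule.mem_top
      have h2 : Set.range s' = K.mkQ '' Set.range s'' := by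
        rw [← Set.range_comp]
        congr 1
        funext i
        exact (hs'' i).symm
      rw [h2, ← Submodule.map_span] at h1
      obtain ⟨z, hz, hzg⟩ := h1
      have h3 : g - z ∈ K := by
        rw [← Submodule.Quotient.mk_eq_zero K, Submodule.Quotient.mk_sub]
        exact sub_eq_zero.2 hzg.symm
      have : g = z + (g - z) := by abel
      rw [this]
      exact Submodule.add_mem_sup hz h3
    have hcard : N * (m + 1) = N * m + N := by ring
    refine ⟨fun i => Sum.elim s'' x (finSumFinEquiv.symm (Fin.cast hcard i)), ?_⟩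
    have hr : (Set.range fun i : Fin (N * (m + 1)) =>
        Sum.elim s'' x (finSumFinEquiv.symm (Fin.cast hcard i))) = Set.range s'' ∪ Set.range x := by
      rw [← Set.Sum.elim_range]
      have hsurj : Function.Surjective fun i : Fin (N * (m + 1)) =>
          finSumFinEquiv.symm (Fin.cast hcard i) := by
        intro y
        refine ⟨Fin.cast hcard.symm (finSumFinEquiv y), ?_⟩
        simp
      exact hsurj.range_comp (Sum.elim s'' x)
    rw [hr, Submodule.span_union]
    exact hsup

end GenAlong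

end Groth.Agent.Lib.T2H2.NisGen
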