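import Groth.Agent.Lib.T2H2RatFun3
import Mathlib.Algebra.Category.ModuleCat.Sheaf.ChangeOfRings
import Mathlib.Algebra.Category.ModuleCat.Stalk

/-!
# Stalk maps of morphisms of modules over a sheaf of (noncommutative) algebras (helper2, team 2)

Namespace `Groth.Agent.Lib.T2H2.OrdStalk`.

* `und A φ M`: the underlying `O_X`-module of a sheaf of `A`-modules (`φ : O_X ⟶ A`).
* `stalkMap`, `stalkMap_germ`, `stalkMap_smul`: the stalk map of a morphism of sheaves of `A`-modules is linear over the
  stalk of `A`.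
-/

set_option autoImplicit false
universe u
open CategoryTheory CategoryTheory.Limits AlgebraicGeometry TopologicalSpace Opposite

namespace Groth.Agent.Lib.T2H2.OrdStalk

variable {X : Scheme.{u}} (A : Sheaf (Opens.grothendieckTopology X) RingCat.{u}) (φ : X.ringCatSheaf ⟶ A)

/-- the underlying `O_X`-module. -/
noncomputable abbrev und (M : SheafOfModules.{u} A) : X.Modules :=
  (SheafOfModules.restrictScalars φ).obj M

example (M : SheafOfModules.{u} A) : (und A φ M).presheaf = M.val.presheaf := rfl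

/-- the stalk map of a morphism of sheaves of modules. -/
noncomputable def stalkMap {M N : SheafOfModules.{u} A} (ψ : M ⟶ N) (x : X) :
    (TopCat.Presheaf.stalk (C := Ab.{u}) (X := X.carrier) M.val.presheaf x) →+
      (TopCat.Presheaf.stalk (C := Ab.{u}) (X := X.carrier) N.val.presheaf x) :=
  ((TopCat.Presheaf.stalkFunctor Ab.{u} x).map ((PresheafOfModules.toPresheaf _).map ψ.val)).hom

theorem stalkMap_germ {M N : SheafOfModules.{u} A} (ψ : M ⟶ N) (x : X) (U : X.Opens) (hx : x ∈ U)
    (m : M.val.obj (op U)) :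
    stalkMap A ψ x (TopCat.Presheaf.germ M.val.presheaf U x hx m) =
      TopCat.Presheaf.germ N.val.presheaf U x hx ((ψ.val.app (op U)).hom m) :=
  TopCat.Presheaf.stalkFunctor_map_germ_apply U x hx ((PresheafOfModules.toPresheaf _).map ψ.val) m


theorem stalkMap_smul {M N : SheafOfModules.{u} A} (ψ : M ⟶ N) (x : X)
    (a : ↑(TopCat.Presheaf.stalk (C := RingCat.{u}) (X := X.carrier) A.obj x))
    (m : ↑(TopCat.Presheaf.stalk (C := Ab.{u}) (X := X.carrier) M.val.presheaf x)) :
    stalkMap A ψ x (a • m) = a • stalkMap A ψ x m := by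
  obtain ⟨Ua, ha, r, rfl⟩ := TopCat.Presheaf.exists_germ_eq (C := RingCat.{u}) A.obj a
  obtain ⟨Um, hm, s, rfl⟩ := TopCat.Presheaf.exists_germ_eq (C := Ab.{u}) M.val.presheaf m
  have hW : x ∈ Ua ⊓ Um := ⟨ha, hm⟩
  rw [← TopCat.Presheaf.germ_res_apply A.obj (homOfLE (inf_le_left : Ua ⊓ Um ≤ Ua)) x hW r,
    ← TopCat.Presheaf.germ_res_apply M.val.presheaf (homOfLE (inf_le_right : Ua ⊓ Um ≤ Um)) x hW s,
    ← PresheafOfModules.germ_ringCat_smul, stalkMap_germ, stalkMap_germ, map_smul,
    PresheafOfModules.germ_ringCat_smul]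


end Groth.Agent.Lib.T2H2.OrdStalk
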