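import Mathlib
import Groth.Agent.Lib.T2H7PCLocal
import Groth.Agent.S6984
import Groth.Agent.S7022

/-!
# Source descent of pseudo-coherent ring maps along finite projective faithfully flat maps
(helper2, team 2)

Namespace `Groth.Agent.Lib.T2H2.PCSrc`.

* `exists_retraction_of_projective_faithfullyFlat`: a projective faithfully flat algebra `B → B'`
  admits a `B`-linear retraction `B' → B` (trace ideal argument).
* `pcHom_of_finite_projective_faithfullyFlat`: if `R → B → B'` with `B'` finite projective
  faithfully flat over `B`, `R → B` of finite type and `R → B'` pseudo-coherent, then `R → B` is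
  pseudo-coherent.
-/

set_option autoImplicit false
universe u
open CategoryTheory CategoryTheory.Limits
attribute [local instance] HasDerivedCategory.standard

namespace Groth.Agent.Lib.T2H2.PCSrc

open Groth.Agent.Lib.T2H7.PCLocal Groth.Agent.Lib.T2H7.PdPC

section Retraction

variable {B B' : Type u} [CommRing B] [CommRing B'] [Algebra B B']

/-- A projective faithfully flat algebra admits a linear retraction of its structure map. -/
theorem exists_retraction_of_projective_faithfullyFlat [Module.Projective B B']
    [Module.FaithfullyFlat B B'] : ∃ ψ : B' →ₗ[B] B, ψ 1 = 1 := by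
  classical
  obtain ⟨s, hs⟩ := (Module.projective_def' (R := B) (P := B')).1 inferInstance
  let φ : B' → (B' →ₗ[B] B) := fun p => (Finsupp.lapply p).comp s
  let τ : Submodule B B := ⨆ p, LinearMap.range (φ p)
  have hτ : τ = ⊤ := by
    by_contra hne
    obtain ⟨m, hm, hle⟩ := Ideal.exists_le_maximal (τ : Ideal B) hne
    have htop : m • (⊤ : Submodule B B') = ⊤ := by
      rw [eq_top_iff]
      intro x _
      have hx : x = Finsupp.linearCombination B id (s x) := by
        have := congrArg (fun f => f x) hs
        simpa using this.symm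
      rw [hx, Finsupp.linearCombination_apply]
      refine Submodule.sum_mem _ fun p _ => ?_
      refine Submodule.smul_mem_smul (hle ?_) Submodule.mem_top
      exact Submodule.mem_iSup_of_mem p ⟨x, rfl⟩
    exact Module.FaithfullyFlat.submodule_ne_top (R := B) (M := B') hm htop
  have h1 : (1 : B) ∈ τ := hτ ▸ Submodule.mem_top
  refine Submodule.iSup_induction (fun p => LinearMap.range (φ p))
    (motive := fun b => ∃ ψ : B' →ₗ[B] B, ψ 1 = b) h1 ?_ ⟨0, rfl⟩ ?_
  · rintro p b ⟨x, rfl⟩
    exact ⟨(φ p).comp (LinearMap.mulLeft B x), by simp⟩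
  · rintro b₁ b₂ ⟨ψ₁, h₁⟩ ⟨ψ₂, h₂⟩
    exact ⟨ψ₁ + ψ₂, by simp [h₁, h₂]⟩

/-- The splitting `B' ≃ B × ker ψ` attached to a retraction. -/
noncomputable def splitEquiv (ψ : B' →ₗ[B] B) (h : ψ 1 = 1) :
    B' ≃ₗ[B] (B × LinearMap.ker ψ) :=
  LinearEquiv.ofLinearMap
    (LinearMap.prod ψ
      (LinearMap.codRestrict (LinearMap.ker ψ)
        (LinearMap.id - (LinearMap.toSpanSingleton B B' 1).comp ψ)
        (fun x => by simp [LinearMap.mem_ker, h])))
    (LinearMap.coprod (LinearMap.toSpanSingleton B B' 1) (LinearMap.ker ψ).subtype)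
    (by
      ext x
      · simp [h]
      · simp [h]
      · simp
      · simp)
    (by
      ext x
      simp)

end Retraction

section Descent

variable {R B B' : Type u} [CommRing R] [CommRing B] [CommRing B'] [Algebra R B] [Algebra B B']
  [Algebra R B'] [IsScalarTower R B B']

/-- **Finite projective faithfully flat source descent of pseudo-coherent ring maps.** -/
theorem pcHom_of_finite_projective_faithfullyFlat [Algebra.FiniteType R B] [Module.Finite B B']
    [Module.Projective B B'] [Module.FaithfullyFlat B B']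
    (h : MoreMor.IsPseudoCoherentHom R B') : MoreMor.IsPseudoCoherentHom R B := by
  have hft' : Algebra.FiniteType R B' := finiteType_of_pcHom R B' h
  have hB' : DerCA.IsRelPseudoCoherentAll R B' (Dual.inD B' B') := (pcHom_iff_relAll R B').1 h
  have h1 : DerCA.IsRelPseudoCoherentAll R B
      ((DRing.restrictD (algebraMap B B')).obj (Dual.inD B' B')) :=
    ((Groth.Agent.S6984.result (R := R) (A := B) (B := B') (Dual.inD B' B') 0).2).1 hB'
  have e1 : (DRing.restrictD (algebraMap B B')).obj (Dual.inD B' B') ≅ Dual.inD B B' :=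
    restrictDInDIso (A := B) (B := B') B'
  have h2 : DerCA.IsRelPseudoCoherentAll R B (Dual.inD B B') := fun m => rel_of_iso e1 m (h1 m)
  obtain ⟨ψ, hψ⟩ := exists_retraction_of_projective_faithfullyFlat (B := B) (B' := B')
  let F := DerivedCategory.singleFunctor (ModuleCat.{u} B) 0
  let e2 : ModuleCat.of B B' ≅ ModuleCat.of B B ⊞ ModuleCat.of B (LinearMap.ker ψ) :=
    (splitEquiv ψ hψ).toModuleIso ≪≫
      (ModuleCat.biprodIsoProd (ModuleCat.of B B) (ModuleCat.of B (LinearMap.ker ψ))).symm
  have : PreservesBinaryBiproducts F := preservesBinaryBiproducts_of_preservesBiproducts F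
  let e3 : Dual.inD B B' ≅ Dual.inD B B ⊞ Dual.inD B (LinearMap.ker ψ) :=
    F.mapIso e2 ≪≫ F.mapBiprod _ _
  have h3 : DerCA.IsRelPseudoCoherentAll R B (Dual.inD B B ⊞ Dual.inD B (LinearMap.ker ψ)) :=
    fun m => rel_of_iso e3 m (h2 m)
  have h4 := ((Groth.Agent.S7022.result (R := R) (A := B) 0 (Dual.inD B B)
    (Dual.inD B (LinearMap.ker ψ))).2 h3).1
  exact (pcHom_iff_relAll R B).2 h4

end Descent

end Groth.Agent.Lib.T2H2.PCSrc
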