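import Mathlib

/-!
# Source descent of lci morphisms, part B (helper7)

`exists_lift_standardEtale`: a standard etale algebra over `B = R/I` lifts to a standard etale
algebra over `R`.
-/

set_option autoImplicit false

namespace Groth.Agent.Lib.T2H7.SrcDescB
open Polynomial
open scoped TensorProduct

universe u

variable {R B A : Type u} [CommRing R] [CommRing B] [CommRing A] [Algebra R B] [Algebra B A]

/-- two standard etale pairs with the same `f` whose `g`'s differ by the derivative of `f` give
isomorphic algebras -/
noncomputable def pairEquiv (P Q : StandardEtalePair B) (hf : Q.f = P.f)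
    (hg : Q.g = P.g * derivative P.f) : P.Ring ≃ₐ[B] Q.Ring := by
  have h1 : P.HasMap Q.X := by
    have hX := Q.hasMap_X
    refine ⟨by rw [← hf]; exact hX.1, ?_⟩
    have h2 := hX.2
    rw [hg, map_mul] at h2
    exact isUnit_of_mul_isUnit_left h2
  have h2 : Q.HasMap P.X := by
    have hX := P.hasMap_X
    refine ⟨by rw [hf]; exact hX.1, ?_⟩
    rw [hg, map_mul]
    exact hX.2.mul hX.isUnit_derivative_f
  exact AlgEquiv.ofAlgHom (P.lift Q.X h1) (Q.lift P.X h2)
    (Q.hom_ext (by simp)) (P.hom_ext (by simp))

/-- lifting a standard etale algebra along a surjection of base rings -/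
theorem exists_lift_standardEtale (hs : Function.Surjective (algebraMap R B))
    [Algebra.IsStandardEtale B A] :
    ∃ P' : StandardEtalePair R, Nonempty (A ≃ₐ[B] B ⊗[R] P'.Ring) := by
  classical
  let P : StandardEtalePresentation B A :=
    Algebra.IsStandardEtale.nonempty_standardEtalePresentation.some
  obtain ⟨F, hF, -, hFm⟩ := Polynomial.lifts_and_natDegree_eq_and_monic
    ((Polynomial.mem_lifts _).mpr (Polynomial.map_surjective _ hs P.f)) P.monic_f
  obtain ⟨G₀, hG₀⟩ := Polynomial.map_surjective _ hs P.g
  let P' : StandardEtalePair R := ⟨F, hFm, G₀ * derivative F, ⟨G₀, 0, 1, by ring⟩⟩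
  refine ⟨P', ⟨?_⟩⟩
  let P'pres : StandardEtalePresentation R P'.Ring :=
    ⟨P', P'.X, P'.hasMap_X, by
      simpa [StandardEtalePair.lift_X_left] using Function.bijective_id⟩
  let Qpres : StandardEtalePresentation B (B ⊗[R] P'.Ring) := P'pres.baseChange
  have hQf : Qpres.P.f = P.P.f := by
    show (P'.map (algebraMap R B)).f = P.P.f
    simp [P', hF]
  have hQg : Qpres.P.g = P.P.g * derivative P.P.f := by
    show (P'.map (algebraMap R B)).g = P.P.g * derivative P.P.f
    simp [P', hG₀, Polynomial.derivative_map, ← hF]
  exact (P.equivRing.trans (pairEquiv P.P Qpres.P hQf hQg)).trans Qpres.equivRing.symm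

end Groth.Agent.Lib.T2H7.SrcDescB
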