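import Mathlib
import Groth.Agent.Lib.T2H7PCLocal
import Groth.Agent.Lib.T2H7PerfDesc
import Groth.Agent.Lib.T2H7PerfKos
import Groth.Agent.Lib.T2H7SrcDescB
import Groth.Agent.Lib.Helper12SmoothSrc2

/-!
# Source descent of pseudo-coherent morphisms along smooth covers (helper2, team 2)

Namespace `Groth.Agent.Lib.T2H2.PCSrc`.  The structure follows helper7's `T2H7SrcDescA–E`
(source descent of lci morphisms), with `Plci` replaced by `Ppc`.

* `ppc_of_flat_lfp`, `ppc_of_isOpenImmersion`: flat lfp morphisms are pseudo-coherent.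
* `exists_opens_ppc`, `exists_opens_ppc'`: if the base change of `i : Y ⟶ P` along a flat lfp
  `p : P' ⟶ P` becomes pseudo-coherent over `Z` (with `P ⟶ Z` pseudo-coherent), then `i ≫ π` is
  pseudo-coherent over the open image of `p`.
* `main_ring_pc`, `qpc_of_smooth_surjective`, `ppc_of_smooth_cover_source`: pseudo-coherent
  morphisms descend along smooth covers of the source.
-/

set_option autoImplicit false
universe u

namespace Groth.Agent.Lib.T2H2.PCSrc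

open AlgebraicGeometry CategoryTheory Limits CommRingCat
open Groth.Agent.Lib.T2H7.PCLocal Groth.Agent.Lib.T2H7.PerfDesc Groth.Agent.Lib.T2H7.SrcDescB
open scoped TensorProduct

section Basic

theorem ppc_of_flat_lfp {X Y : Scheme.{u}} (f : X ⟶ Y) [Flat f] [LocallyOfFinitePresentation f] :
    Ppc f := fun U V hU hV e =>
  (Groth.Agent.Lib.T2H7.PerfKos.perfMor_of_flat_lfp f U V hU hV e).1

theorem ppc_of_isOpenImmersion {X Y : Scheme.{u}} (j : X ⟶ Y) [IsOpenImmersion j] : Ppc j :=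
  ppc_of_flat_lfp j

theorem ppc_comp {X Y Z : Scheme.{u}} (f : X ⟶ Y) (g : Y ⟶ Z) (hf : Ppc f) (hg : Ppc g) :
    Ppc (f ≫ g) := pcMor_comp f g hf hg

theorem ppc_spec_iff {R S : Type u} [CommRing R] [CommRing S] (φ : R →+* S) :
    Ppc (Spec.map (ofHom φ)) ↔ Qpc φ :=
  HasRingHomProperty.Spec_iff (P := Ppc)

end Basic

section SchemeDescent

/-- Key descent lemma: if the base change of `i` along a flat, locally finitely presented `p`
becomes pseudo-coherent over `Z` (with `P ⟶ Z` pseudo-coherent), then `i ≫ π` is pseudo-coherent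
over the open image of `p`. -/
theorem exists_opens_ppc {Y P Z P' Y' : Scheme.{u}} (i : Y ⟶ P) (π : P ⟶ Z) (hπ : Ppc π)
    (p : P' ⟶ P) [Flat p] [LocallyOfFinitePresentation p]
    (q : Y' ⟶ Y) (i' : Y' ⟶ P') (sq : IsPullback q i' i p) (h : Ppc (q ≫ i ≫ π)) :
    ∃ W : P.Opens, Set.range p ⊆ (W : Set P) ∧ Ppc ((i ⁻¹ᵁ W).ι ≫ i ≫ π) := by
  have hpπ : Ppc (p ≫ π) := ppc_comp _ _ (ppc_of_flat_lfp p) hπ
  have h1 : Ppc i' := by
    refine pcMor_of_comp i' (p ≫ π) ?_ hpπ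
    rw [← sq.w_assoc]
    exact h
  let W : P.Opens := ⟨Set.range p, p.isOpenMap.isOpen_range⟩
  refine ⟨W, le_rfl, ?_⟩
  let p₀ : P' ⟶ W := IsOpenImmersion.lift W.ι p (by simp [W])
  have hp₀ : p₀ ≫ W.ι = p := IsOpenImmersion.lift_fac _ _ _
  have hfl : Flat p₀ := MorphismProperty.of_postcomp (W := @Flat) (W' := @IsOpenImmersion) p₀ W.ι
    inferInstance (by rw [hp₀]; infer_instance)
  have hfp : LocallyOfFinitePresentation p₀ :=
    MorphismProperty.of_postcomp (W := @LocallyOfFinitePresentation) (W' := @IsOpenImmersion)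
      p₀ W.ι inferInstance (by rw [hp₀]; infer_instance)
  have hsurj : Surjective p₀ := by
    refine ⟨fun w => ?_⟩
    obtain ⟨x, hx⟩ : W.ι w ∈ Set.range p := w.2
    refine ⟨x, ?_⟩
    apply W.ι.isOpenEmbedding.injective
    rw [← Scheme.Hom.comp_apply, hp₀]
    exact hx
  have sqW : IsPullback (i ⁻¹ᵁ W).ι (i ∣_ W) i W.ι := (isPullback_morphismRestrict i W).flip
  have hw : q ≫ i = (i' ≫ p₀) ≫ W.ι := by rw [Category.assoc, hp₀, sq.w]
  let r : Y' ⟶ (i ⁻¹ᵁ W).toScheme := sqW.lift q (i' ≫ p₀) hw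
  have hr1 : r ≫ (i ⁻¹ᵁ W).ι = q := sqW.lift_fst _ _ _
  have hr2 : r ≫ (i ∣_ W) = i' ≫ p₀ := sqW.lift_snd _ _ _
  have left : IsPullback r i' (i ∣_ W) p₀ := by
    refine IsPullback.of_right ?_ hr2 sqW
    rw [hr1, hp₀]
    exact sq
  have hdesc := pcMor_descends.{u}
  have h2 : Ppc (i ∣_ W) :=
    MorphismProperty.of_isPullback_of_descendsAlong (P := Ppc)
      (Q := @Surjective ⊓ @Flat ⊓ @LocallyOfFinitePresentation) left.flip
      ⟨⟨hsurj, hfl⟩, hfp⟩ h1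
  have h3 : (i ⁻¹ᵁ W).ι ≫ i ≫ π = (i ∣_ W) ≫ (W.ι ≫ π) := by
    rw [← Category.assoc, sqW.w, Category.assoc]
  rw [h3]
  exact ppc_comp _ _ h2 (ppc_comp _ _ (ppc_of_isOpenImmersion W.ι) hπ)

/-- open version of `exists_opens_ppc` -/
theorem exists_opens_ppc' {Y P Z P' Y' : Scheme.{u}} (i : Y ⟶ P) (π : P ⟶ Z) (hπ : Ppc π)
    (p : P' ⟶ P) [Flat p] [LocallyOfFinitePresentation p]
    (q : Y' ⟶ Y) (i' : Y' ⟶ P') (sq : IsPullback q i' i p) (W' : P'.Opens)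
    (h : Ppc ((i' ⁻¹ᵁ W').ι ≫ q ≫ i ≫ π)) :
    ∃ W : P.Opens, p '' (W' : Set P') ⊆ (W : Set P) ∧ Ppc ((i ⁻¹ᵁ W).ι ≫ i ≫ π) := by
  have sqW' : IsPullback (i' ⁻¹ᵁ W').ι (i' ∣_ W') i' W'.ι := (isPullback_morphismRestrict i' W').flip
  have sq₁ : IsPullback ((i' ⁻¹ᵁ W').ι ≫ q) (i' ∣_ W') i (W'.ι ≫ p) := sqW'.paste_horiz sq
  obtain ⟨W, hW, hP⟩ := exists_opens_ppc i π hπ (W'.ι ≫ p) ((i' ⁻¹ᵁ W').ι ≫ q) (i' ∣_ W') sq₁
    (by rw [Category.assoc]; exact h)
  refine ⟨W, ?_, hP⟩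
  rintro _ ⟨x, hx, rfl⟩
  apply hW
  exact ⟨⟨x, hx⟩, by simp⟩

/-- affine form of the descent lemma -/
theorem exists_opens_ppc_affine {C R B R' T : Type u} [CommRing C] [CommRing R] [CommRing B]
    [CommRing R'] [CommRing T]
    (c : C →+* R) (b : R →+* B) (r : R →+* R') (inl : B →+* T) (inr : R' →+* T)
    (hpo : IsPushout (ofHom b) (ofHom r) (ofHom inl) (ofHom inr))
    (hc : Qpc c) (hrf : r.Flat) (hrp : r.FinitePresentation)
    (W' : (Spec (.of R')).Opens)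
    (h : Ppc (((Spec.map (ofHom inr)) ⁻¹ᵁ W').ι ≫ Spec.map (ofHom (inl.comp (b.comp c))))) :
    ∃ W : (Spec (.of B)).Opens,
      (Spec.map (ofHom inl)) '' (((Spec.map (ofHom inr)) ⁻¹ᵁ W' : (Spec (.of T)).Opens) : Set _)
        ⊆ (W : Set _) ∧
      Ppc (W.ι ≫ Spec.map (ofHom (b.comp c))) := by
  have hπ : Ppc (Spec.map (ofHom c)) := (ppc_spec_iff c).mpr hc
  have hp1 : Flat (Spec.map (ofHom r)) := (HasRingHomProperty.Spec_iff (P := @Flat)).mpr hrf
  have hp2 : LocallyOfFinitePresentation (Spec.map (ofHom r)) :=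
    (HasRingHomProperty.Spec_iff (P := @LocallyOfFinitePresentation)).mpr hrp
  have sq : IsPullback (Spec.map (ofHom inl)) (Spec.map (ofHom inr)) (Spec.map (ofHom b))
      (Spec.map (ofHom r)) := isPullback_SpecMap_of_isPushout _ _ _ _ hpo
  have h' : Ppc (((Spec.map (ofHom inr)) ⁻¹ᵁ W').ι ≫ Spec.map (ofHom inl) ≫
      Spec.map (ofHom b) ≫ Spec.map (ofHom c)) := by
    rw [← Spec.map_comp, ← Spec.map_comp, ← ofHom_comp, ← ofHom_comp]
    exact h
  obtain ⟨WP, hWP, hP⟩ := exists_opens_ppc' (Spec.map (ofHom b)) (Spec.map (ofHom c)) hπ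
    (Spec.map (ofHom r)) (Spec.map (ofHom inl)) (Spec.map (ofHom inr)) sq W' h'
  refine ⟨(Spec.map (ofHom b)) ⁻¹ᵁ WP, ?_, ?_⟩
  · rintro _ ⟨y, hy, rfl⟩
    show (Spec.map (ofHom b)) ((Spec.map (ofHom inl)) y) ∈ WP
    rw [← Scheme.Hom.comp_apply, sq.w, Scheme.Hom.comp_apply]
    exact hWP ⟨_, hy, rfl⟩
  · rw [← Spec.map_comp, ← ofHom_comp] at hP
    exact hP

end SchemeDescent

end Groth.Agent.Lib.T2H2.PCSrc
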