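import Mathlib
import Groth.Agent.Lib.T2H2PCSrcB

/-!
# Source descent of pseudo-coherent morphisms along smooth covers, ring steps (helper2, team 2)

Namespace `Groth.Agent.Lib.T2H2.PCSrc`.  Follows helper7's `T2H7SrcDescD/E`.

* `etale_step_pc`, `poly_step_pc`, `main_ring_pc`, `qpc_of_smooth_surjective`.
* `ppc_of_smooth_cover_source`: pseudo-coherent morphisms descend along smooth covers of the
  source.
-/

set_option autoImplicit false
universe u

namespace Groth.Agent.Lib.T2H2.PCSrc

open AlgebraicGeometry CategoryTheory Limits CommRingCat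
open Groth.Agent.Lib.T2H7.PCLocal Groth.Agent.Lib.T2H7.PerfDesc Groth.Agent.Lib.T2H7.SrcDescB
open scoped TensorProduct

theorem qpc_mvPolynomial (C : Type u) [CommRing C] (n : ℕ) :
    Qpc (algebraMap C (MvPolynomial (Fin n) C)) :=
  qpc_of_flat_fp C (MvPolynomial (Fin n) C)

/-- the etale step -/
theorem etale_step_pc {C B A : Type u} [CommRing C] [CommRing B] [CommRing A] [Algebra C B]
    [Algebra B A] [Algebra C A] [IsScalarTower C B A]
    [Algebra.FiniteType C B] [Algebra.IsStandardEtale B A]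
    (h : Ppc (Spec.map (ofHom (algebraMap C A)))) :
    ∃ W : (Spec (.of B)).Opens,
      Set.range (Spec.map (ofHom (algebraMap B A))) ⊆ (W : Set _) ∧
      Ppc (W.ι ≫ Spec.map (ofHom (algebraMap C B))) := by
  obtain ⟨n, f, hf⟩ := Algebra.FiniteType.iff_quotient_mvPolynomial''.mp
    (inferInstance : Algebra.FiniteType C B)
  let R := MvPolynomial (Fin n) C
  let _ : Algebra R B := f.toRingHom.toAlgebra
  have hs : Function.Surjective (algebraMap R B) := hf
  obtain ⟨P', ⟨e⟩⟩ := exists_lift_standardEtale (R := R) (B := B) (A := A) hs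
  let inr : P'.Ring →+* A :=
    (e.symm : B ⊗[R] P'.Ring →+* A).comp Algebra.TensorProduct.includeRight.toRingHom
  have hpo : IsPushout (ofHom (algebraMap R B)) (ofHom (algebraMap R P'.Ring))
      (ofHom (algebraMap B A)) (ofHom inr) := by
    refine IsPushout.of_iso (isPushout_tensorProduct R B P'.Ring) (Iso.refl _) (Iso.refl _)
      (Iso.refl _) (e.symm.toRingEquiv.toCommRingCatIso) (by simp) (by simp) ?_ ?_
    · ext x
      show e.symm (x ⊗ₜ[R] 1) = (algebraMap B A) x
      have h1 : (x ⊗ₜ[R] (1 : P'.Ring)) = algebraMap B (B ⊗[R] P'.Ring) x :=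
        (Algebra.TensorProduct.algebraMap_apply (R := R) (S := B) (A := B) (B := P'.Ring) x).symm
      rw [h1, e.symm.commutes]
    · ext x
      simp [inr]
  have hc : Qpc (algebraMap C R) := qpc_mvPolynomial C n
  have hrf : (algebraMap R P'.Ring).Flat := RingHom.flat_algebraMap_iff.mpr inferInstance
  have hrp : (algebraMap R P'.Ring).FinitePresentation :=
    RingHom.finitePresentation_algebraMap.mpr inferInstance
  have hcomp : (algebraMap B A).comp ((algebraMap R B).comp (algebraMap C R)) = algebraMap C A := by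
    ext x
    have h1 : (algebraMap R B) ((algebraMap C R) x) = algebraMap C B x := f.commutes x
    simp only [RingHom.comp_apply]
    rw [h1, ← IsScalarTower.algebraMap_apply C B A]
  obtain ⟨W, hW, hP⟩ := exists_opens_ppc_affine (algebraMap C R) (algebraMap R B)
    (algebraMap R P'.Ring) (algebraMap B A) inr hpo hc hrf hrp ⊤ (by
      rw [hcomp]
      exact ppc_comp _ _ (ppc_of_isOpenImmersion _) h)
  have hcb : (algebraMap R B).comp (algebraMap C R) = algebraMap C B := by
    ext x
    exact f.commutes x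
  rw [hcb] at hP
  refine ⟨W, ?_, hP⟩
  rintro _ ⟨y, rfl⟩
  exact hW ⟨y, trivial, rfl⟩

attribute [local instance] MvPolynomial.algebraMvPolynomial

/-- the polynomial step -/
theorem poly_step_pc {C B : Type u} [CommRing C] [CommRing B] [Algebra C B]
    [Algebra.FiniteType C B] (m : ℕ)
    (W' : (Spec (.of (MvPolynomial (Fin m) B))).Opens)
    (h : Ppc (W'.ι ≫ Spec.map (ofHom ((algebraMap B (MvPolynomial (Fin m) B)).comp
      (algebraMap C B))))) :
    ∃ W : (Spec (.of B)).Opens,
      (Spec.map (ofHom (algebraMap B (MvPolynomial (Fin m) B)))) '' (W' : Set _) ⊆ (W : Set _) ∧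
      Ppc (W.ι ≫ Spec.map (ofHom (algebraMap C B))) := by
  obtain ⟨n, f, hf⟩ := Algebra.FiniteType.iff_quotient_mvPolynomial''.mp
    (inferInstance : Algebra.FiniteType C B)
  let R := MvPolynomial (Fin n) C
  let _ : Algebra R B := f.toRingHom.toAlgebra
  have hs : Function.Surjective (algebraMap R B) := hf
  let R' := MvPolynomial (Fin m) R
  let T := MvPolynomial (Fin m) B
  have hpo : IsPushout (ofHom (algebraMap R B)) (ofHom (algebraMap R R'))
      (ofHom (algebraMap B T)) (ofHom (algebraMap R' T)) :=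
    isPushout_of_isPushout R B R' T
  have hc : Qpc (algebraMap C R) := qpc_mvPolynomial C n
  have hrf : (algebraMap R R').Flat := RingHom.flat_algebraMap_iff.mpr inferInstance
  have hrp : (algebraMap R R').FinitePresentation :=
    RingHom.finitePresentation_algebraMap.mpr inferInstance
  have hcb : (algebraMap R B).comp (algebraMap C R) = algebraMap C B := by
    ext x
    exact f.commutes x
  have hsurj : Function.Surjective (algebraMap R' T) := by
    rw [MvPolynomial.algebraMap_def]
    exact MvPolynomial.map_surjective _ hs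
  have hcl : IsClosedImmersion (Spec.map (ofHom (algebraMap R' T))) :=
    IsClosedImmersion.spec_of_surjective _ hsurj
  obtain ⟨t, ht, hpre⟩ := (Spec.map (ofHom (algebraMap R' T))).isEmbedding.isInducing.isOpen_iff.mp
    W'.isOpen
  let WR : (Spec (.of R')).Opens := ⟨t, ht⟩
  have hWR : (Spec.map (ofHom (algebraMap R' T))) ⁻¹ᵁ WR = W' :=
    TopologicalSpace.Opens.ext hpre
  obtain ⟨W, hW, hP⟩ := exists_opens_ppc_affine (algebraMap C R) (algebraMap R B)
    (algebraMap R R') (algebraMap B T) (algebraMap R' T) hpo hc hrf hrp WR (by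
      rw [hWR, hcb]
      exact h)
  rw [hcb] at hP
  rw [hWR] at hW
  exact ⟨W, hW, hP⟩

/-- ring-level source descent along a smooth map, near a point in the image -/
theorem main_ring_pc {C B A₁ : Type u} [CommRing C] [CommRing B] [CommRing A₁] [Algebra C B]
    [Algebra B A₁] [Algebra C A₁] [IsScalarTower C B A₁]
    [Algebra.FiniteType C B] [Algebra.Smooth B A₁] (h : MoreMor.IsPseudoCoherentHom C A₁)
    (𝔭 : Ideal A₁) [𝔭.IsPrime] :
    ∃ b : B, b ∉ 𝔭.comap (algebraMap B A₁) ∧
      MoreMor.IsPseudoCoherentHom C (Localization.Away b) := by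
  have : Algebra.FinitePresentation B A₁ := Algebra.Smooth.finitePresentation
  obtain ⟨f, hf, n, alg, htow, hstd⟩ :=
    Algebra.IsSmoothAt.exists_isStandardEtale_mvPolynomial (R := B) (S := A₁) (p := 𝔭)
  let A := Localization.Away f
  let Bt := MvPolynomial (Fin n) B
  have htowC : IsScalarTower C Bt A := by
    refine IsScalarTower.of_algebraMap_eq' ?_
    rw [IsScalarTower.algebraMap_eq C A₁ A, IsScalarTower.algebraMap_eq C B A₁,
      ← RingHom.comp_assoc, ← IsScalarTower.algebraMap_eq B A₁ A,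
      IsScalarTower.algebraMap_eq B Bt A, RingHom.comp_assoc,
      ← IsScalarTower.algebraMap_eq C B Bt]
  have hft : Algebra.FiniteType C Bt := Algebra.FiniteType.trans (S := B) inferInstance inferInstance
  have hQ1 : Qpc (algebraMap C A₁) := (qpc_algebraMap_iff C A₁).mpr h
  have hQ2 : Qpc (algebraMap A₁ A) := qpc_away A₁ f A
  have hQ : Qpc (algebraMap C A) := by
    rw [IsScalarTower.algebraMap_eq C A₁ A]
    exact qpc_comp _ _ hQ1 hQ2
  have h' : Ppc (Spec.map (ofHom (algebraMap C A))) := (ppc_spec_iff _).mpr hQ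
  obtain ⟨W', hW', hP'⟩ := etale_step_pc (C := C) (B := Bt) (A := A) h'
  obtain ⟨W, hW, hP⟩ := poly_step_pc (C := C) (B := B) n W' (by
    rw [← IsScalarTower.algebraMap_eq C B Bt]
    exact hP')
  have hdisj : Disjoint (Submonoid.powers f : Set A₁) (𝔭 : Set A₁) :=
    (Ideal.disjoint_powers_iff_notMem_of_isPrime f).mpr hf
  have hprime : (𝔭.map (algebraMap A₁ A)).IsPrime :=
    IsLocalization.isPrime_of_isPrime_disjoint (Submonoid.powers f) A 𝔭 inferInstance hdisj
  have hcomap : (𝔭.map (algebraMap A₁ A)).comap (algebraMap A₁ A) = 𝔭 :=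
    IsLocalization.under_map_of_isPrime_disjoint (Submonoid.powers f) A inferInstance hdisj
  let x' : Spec (.of A) := ⟨𝔭.map (algebraMap A₁ A), hprime⟩
  let 𝔮 : Spec (.of B) := ⟨𝔭.comap (algebraMap B A₁), inferInstance⟩
  have hx1 : (Spec.map (ofHom (algebraMap Bt A))) x' ∈ (W' : Set _) := hW' ⟨x', rfl⟩
  have hx2 : (Spec.map (ofHom (algebraMap B Bt))) ((Spec.map (ofHom (algebraMap Bt A))) x') ∈
      (W : Set _) := hW ⟨_, hx1, rfl⟩
  have hx3 : (Spec.map (ofHom (algebraMap B Bt))) ((Spec.map (ofHom (algebraMap Bt A))) x') = 𝔮 := by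
    rw [Spec.map_apply, Spec.map_apply]
    apply PrimeSpectrum.ext
    show ((𝔭.map (algebraMap A₁ A)).comap (algebraMap Bt A)).comap (algebraMap B Bt) =
      𝔭.comap (algebraMap B A₁)
    rw [Ideal.comap_comap, ← IsScalarTower.algebraMap_eq B Bt A,
      IsScalarTower.algebraMap_eq B A₁ A, ← Ideal.comap_comap, hcomap]
  rw [hx3] at hx2
  obtain ⟨_, ⟨b, rfl⟩, hqb, hbW⟩ :=
    PrimeSpectrum.isTopologicalBasis_basic_opens.exists_subset_of_mem_open hx2 W.isOpen
  refine ⟨b, hqb, ?_⟩
  let Bb := Localization.Away b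
  let j : Spec (.of Bb) ⟶ Spec (.of B) := Spec.map (ofHom (algebraMap B Bb))
  have hjo : IsOpenImmersion j := inferInstance
  have hrange : Set.range j ⊆ Set.range W.ι := by
    rw [Scheme.Opens.range_ι]
    rintro _ ⟨y, rfl⟩
    apply hbW
    have : (PrimeSpectrum.comap (algebraMap B Bb)) y ∈ Set.range (PrimeSpectrum.comap (algebraMap B Bb)) :=
      ⟨y, rfl⟩
    rw [PrimeSpectrum.localization_away_comap_range Bb b] at this
    exact this
  let l : Spec (.of Bb) ⟶ W := IsOpenImmersion.lift W.ι j hrange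
  have hl : l ≫ W.ι = j := IsOpenImmersion.lift_fac _ _ _
  have hlo : IsOpenImmersion l := by
    have : IsOpenImmersion (l ≫ W.ι) := by rw [hl]; exact hjo
    exact IsOpenImmersion.of_comp l W.ι
  have h1 : Ppc (l ≫ W.ι ≫ Spec.map (ofHom (algebraMap C B))) :=
    ppc_comp _ _ (ppc_of_isOpenImmersion l) hP
  rw [← Category.assoc, hl] at h1
  have h2 : j ≫ Spec.map (ofHom (algebraMap C B)) = Spec.map (ofHom (algebraMap C Bb)) := by
    rw [← Spec.map_comp, ← ofHom_comp, ← IsScalarTower.algebraMap_eq C B Bb]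
  rw [h2, ppc_spec_iff] at h1
  exact (qpc_algebraMap_iff C Bb).mp h1

/-- ring-level descent of `Qpc` along a smooth cover of the source -/
theorem qpc_of_smooth_surjective {R A B : Type u} [CommRing R] [CommRing A] [CommRing B]
    (φ : R →+* A) (ψ : A →+* B) (hψ : ψ.Smooth)
    (hs : Function.Surjective (PrimeSpectrum.comap ψ)) (h : Qpc (ψ.comp φ)) : Qpc φ := by
  algebraize [φ, ψ, ψ.comp φ]
  have hsm : Algebra.Smooth A B := hψ
  have hpc : MoreMor.IsPseudoCoherentHom R B := (qpc_algebraMap_iff R B).mp h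
  have hftB : Algebra.FiniteType R B := finiteType_of_pcHom R B hpc
  have hftA : Algebra.FiniteType R A :=
    Groth.Agent.Lib.Helper12.SmoothSrc2.finiteType_of_smooth_of_surjective (R := R) (A := A)
      (B := B) hs
  let s : Set A := {b | MoreMor.IsPseudoCoherentHom R (Localization.Away b)}
  have hspan : Ideal.span s = ⊤ := by
    by_contra hne
    obtain ⟨𝔪, h𝔪, hle⟩ := Ideal.exists_le_maximal _ hne
    obtain ⟨𝔭, h𝔭⟩ := hs ⟨𝔪, h𝔪.isPrime⟩
    have := 𝔭.isPrime
    obtain ⟨b, hb, hbl⟩ := main_ring_pc (C := R) (B := A) (A₁ := B) hpc 𝔭.asIdeal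
    have hbm : b ∈ 𝔪 := hle (Ideal.subset_span hbl)
    apply hb
    have h1 : (PrimeSpectrum.comap ψ 𝔭).asIdeal = 𝔪 := congrArg PrimeSpectrum.asIdeal h𝔭
    show b ∈ Ideal.comap (algebraMap A B) 𝔭.asIdeal
    rw [← h1] at hbm
    exact hbm
  refine qpc_ofLocalizationSpanTarget φ s hspan ?_
  rintro ⟨b, hb⟩
  have h2 : (algebraMap A (Localization.Away b)).comp φ = algebraMap R (Localization.Away b) :=
    (IsScalarTower.algebraMap_eq R A (Localization.Away b)).symm
  show Qpc ((algebraMap A (Localization.Away b)).comp φ)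
  rw [h2]
  exact (qpc_algebraMap_iff R _).mpr hb

/-- pseudo-coherent morphisms descend along smooth covers of the source -/
theorem ppc_of_smooth_cover_source {X' X Y : Scheme.{u}} (f : X' ⟶ X) (g : X ⟶ Y) [Smooth f]
    [Surjective f] (h : Ppc (f ≫ g)) : Ppc g :=
  Groth.Agent.Lib.Helper12.SmoothSrc2.of_smooth_cover_source (P := Ppc) (Q := @Qpc)
    qpc_awaySource
    (fun φ ψ hψ hs hc => qpc_of_smooth_surjective φ ψ hψ hs hc) f g h

end Groth.Agent.Lib.T2H2.PCSrc
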