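import Mathlib
import Groth.Agent.Lib.T2H2PCSrcA
import Groth.Agent.Lib.T2H2PCSrcC
import Groth.Agent.Lib.Helper20EtSrc

/-!
# Local source descent of pseudo-coherent morphisms: smooth and finite flat steps
(helper2, team 2)

Namespace `Groth.Agent.Lib.T2H2.PCSrc`.

* `LocPpc f x`: `f` is pseudo-coherent on an open neighbourhood of `x`.
* `ppc_of_forall_locPpc`: pseudo-coherence is local on the source.
* `locPpc_of_smooth`: if `e : U ⟶ X` is smooth and `e ≫ f` is pseudo-coherent, then `f` is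
  pseudo-coherent near every point of the image of `e`.
* `qpc_of_finite_flat_surjective`, `locPpc_of_finite_flat`: the same for finite flat lfp `φ`
  (with `q` locally of finite type).
-/

set_option autoImplicit false
universe u

namespace Groth.Agent.Lib.T2H2.PCSrc

open AlgebraicGeometry CategoryTheory Limits CommRingCat
open Groth.Agent.Lib.T2H7.PCLocal

/-- `f` is pseudo-coherent on an open neighbourhood of `x`. -/
def LocPpc {X S : Scheme.{u}} (f : X ⟶ S) (x : X) : Prop :=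
  ∃ W : X.Opens, x ∈ W ∧ Ppc (W.ι ≫ f)

theorem ppc_of_forall_locPpc {X S : Scheme.{u}} (f : X ⟶ S) (h : ∀ x, LocPpc f x) : Ppc f := by
  choose W hxW hW using h
  refine IsZariskiLocalAtSource.of_iSup_eq_top (P := Ppc) W ?_ hW
  rw [eq_top_iff]
  rintro x -
  exact TopologicalSpace.Opens.mem_iSup.mpr ⟨x, hxW x⟩

theorem locPpc_of_ppc {X S : Scheme.{u}} (f : X ⟶ S) (h : Ppc f) (x : X) : LocPpc f x :=
  ⟨⊤, trivial, IsZariskiLocalAtSource.comp (P := Ppc) h _⟩

/-- smooth local source descent -/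
theorem locPpc_of_smooth {U X S : Scheme.{u}} (e : U ⟶ X) (f : X ⟶ S) [Smooth e]
    (h : Ppc (e ≫ f)) (u : U) : LocPpc f (e u) := by
  let O : X.Opens := ⟨Set.range e, e.isOpenMap.isOpen_range⟩
  let e₀ : U ⟶ O := IsOpenImmersion.lift O.ι e (by simp [O])
  have he₀ : e₀ ≫ O.ι = e := IsOpenImmersion.lift_fac _ _ _
  have hsm : Smooth e₀ := MorphismProperty.of_postcomp (W := @Smooth) (W' := @IsOpenImmersion)
    e₀ O.ι inferInstance (by rw [he₀]; infer_instance)
  have hsurj : Surjective e₀ := by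
    refine ⟨fun w => ?_⟩
    obtain ⟨x, hx⟩ : O.ι w ∈ Set.range e := w.2
    refine ⟨x, ?_⟩
    apply O.ι.isOpenEmbedding.injective
    rw [← Scheme.Hom.comp_apply, he₀]
    exact hx
  refine ⟨O, ⟨u, rfl⟩, ?_⟩
  refine ppc_of_smooth_cover_source e₀ (O.ι ≫ f) ?_
  rw [← Category.assoc, he₀]
  exact h

/-- ring-level descent of `Qpc` along a finite flat finitely presented cover of the source -/
theorem qpc_of_finite_flat_surjective {R B B' : Type u} [CommRing R] [CommRing B] [CommRing B']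
    (α : R →+* B) (β : B →+* B') (hfin : β.Finite) (hfl : β.Flat) (hfp : β.FinitePresentation)
    (hs : Function.Surjective (PrimeSpectrum.comap β)) (hα : α.FiniteType)
    (h : Qpc (β.comp α)) : Qpc α := by
  algebraize [α, β, β.comp α]
  have h1 : Module.Finite B B' := hfin
  have h2 : Module.Flat B B' := hfl
  have h3 : Algebra.FinitePresentation B B' := hfp
  have h4 : Algebra.FiniteType R B := hα
  have h5 : Module.FinitePresentation B B' := Module.FinitePresentation.of_finite_of_finitePresentation B B'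
  have h6 : Module.Projective B B' := Module.Flat.projective_of_finitePresentation
  have h7 : Module.FaithfullyFlat B B' := Module.FaithfullyFlat.of_comap_surjective hs
  have hpc : MoreMor.IsPseudoCoherentHom R B' := (qpc_algebraMap_iff R B').mp h
  exact (qpc_algebraMap_iff R B).mpr (pcHom_of_finite_projective_faithfullyFlat hpc)

/-- finite flat local source descent -/
theorem locPpc_of_finite_flat {V U S : Scheme.{u}} (φ : V ⟶ U) (q : U ⟶ S) [IsFinite φ] [Flat φ]
    [LocallyOfFinitePresentation φ] [LocallyOfFiniteType q] (h : Ppc (φ ≫ q)) (v : V) :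
    LocPpc q (φ v) := by
  let O : U.Opens := ⟨Set.range φ, φ.isOpenMap.isOpen_range⟩
  obtain ⟨M, hM, hvM, -⟩ := TopologicalSpace.Opens.isBasis_iff_nbhd.mp S.isBasis_affineOpens
    (TopologicalSpace.Opens.mem_top (q (φ v)))
  obtain ⟨N, hN, hvN, eN'⟩ := TopologicalSpace.Opens.isBasis_iff_nbhd.mp U.isBasis_affineOpens
    (show φ v ∈ q ⁻¹ᵁ M ⊓ O from ⟨hvM, ⟨v, rfl⟩⟩)
  have eN : N ≤ q ⁻¹ᵁ M := fun y hy => (eN' hy).1
  have eO : N ≤ O := fun y hy => (eN' hy).2
  let N' : V.Opens := φ ⁻¹ᵁ N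
  have hN' : IsAffineOpen N' := hN.preimage φ
  have e' : N' ≤ (φ ≫ q) ⁻¹ᵁ M := fun y hy => eN hy
  have hcomp : ((φ ≫ q).appLE M N' e').hom =
      (φ.appLE N N' le_rfl).hom.comp (q.appLE M N eN).hom := by
    rw [← CommRingCat.hom_comp, Scheme.Hom.appLE_comp_appLE]
  have hQ : Qpc ((φ.appLE N N' le_rfl).hom.comp (q.appLE M N eN).hom) := by
    rw [← hcomp]
    exact h N' M hN' hM e'
  have hfin : (φ.appLE N N' le_rfl).hom.Finite := by
    have := IsFinite.finite_app φ N hN
    rwa [Scheme.Hom.app_eq_appLE] at this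
  have hα : Qpc (q.appLE M N eN).hom := by
    refine qpc_of_finite_flat_surjective _ _ hfin (φ.flat_appLE hN hN' le_rfl)
      (φ.finitePresentation_appLE hN hN' le_rfl) ?_ (q.finiteType_appLE hM hN eN) hQ
    apply Groth.Agent.Lib.Helper20.EtSrc.comap_appLE_surjective φ hN hN' le_rfl
    intro y hy
    obtain ⟨w, rfl⟩ := eO hy
    exact ⟨w, hy, rfl⟩
  refine ⟨N, hvN, ?_⟩
  let N₁ : U.Opens := N
  let M₁ : S.Opens := M
  have eN₁ : N₁ ≤ q ⁻¹ᵁ M₁ := eN
  have hres : N₁.ι ≫ q = q.resLE M₁ N₁ eN₁ ≫ M₁.ι := (Scheme.Hom.resLE_comp_ι q eN₁).symm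
  show Ppc (N₁.ι ≫ q)
  rw [hres]
  refine ppc_comp _ _ ?_ (ppc_of_isOpenImmersion M₁.ι)
  have : IsAffine (N₁ : Scheme.{u}) := hN
  have : IsAffine (M₁ : Scheme.{u}) := hM
  rw [HasRingHomProperty.iff_of_isAffine (P := Ppc)]
  have hiso := (arrowResLEAppIso q M₁ N₁ eN₁)
  exact (qpc_respectsIso.arrow_mk_iso_iff hiso).mpr hα

end Groth.Agent.Lib.T2H2.PCSrc
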