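import Mathlib
import Groth.Agent.Lib.T2H2PCSrcD
import Groth.Agent.Lib.T2H2QFCover
import Groth.Agent.Lib.T2H7PerfReg
import Groth.Agent.Lib.Helper20EtFinPart2
import Groth.Agent.S5938

/-!
# Pseudo-coherent morphisms are fppf local on the source (helper2, team 2)

Namespace `Groth.Agent.Lib.T2H2.PCSrc`.

* `locallyOfFiniteType_of_ppc`: pseudo-coherent morphisms are locally of finite type.
* `locPpc_of_flat_lfp`: if `a : X' ⟶ X` is flat lfp, `f` is lft and `a ≫ f` is pseudo-coherent,
  then `f` is pseudo-coherent near every point of the image of `a`.  Proof: slice `a` through a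
  closed Cohen–Macaulay point of the fibre down to a quasi-finite flat morphism (regular
  immersions are pseudo-coherent), pass to an étale neighbourhood where a finite flat part splits
  off, and use the finite flat and smooth source descent steps.
* `ppc_of_fppf_cover_source`: pseudo-coherent morphisms descend along fppf covers of the source.
-/

set_option autoImplicit false
universe u

namespace Groth.Agent.Lib.T2H2.PCSrc

open AlgebraicGeometry CategoryTheory Limits CommRingCat
open Groth.Agent.Lib.T2H7.PCLocal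

theorem locallyOfFiniteType_of_ppc {X S : Scheme.{u}} (f : X ⟶ S) (h : Ppc f) :
    LocallyOfFiniteType f := by
  rw [HasRingHomProperty.iff_appLE (P := @LocallyOfFiniteType)]
  intro U V e
  have h1 := h V.1 U.1 V.2 U.2 e
  let _ := (f.appLE U.1 V.1 e).hom.toAlgebra
  exact finiteType_of_pcHom _ _ h1

theorem ppc_of_perfMor {X S : Scheme.{u}} (f : X ⟶ S) (h : MoreMor.IsPerfectMor f) : Ppc f :=
  fun U V hU hV e => (h U V hU hV e).1

/-- local fppf source descent -/
theorem locPpc_of_flat_lfp {X' X S : Scheme.{u}} (a : X' ⟶ X) (f : X ⟶ S) [Flat a]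
    [LocallyOfFinitePresentation a] [LocallyOfFiniteType f] (h : Ppc (a ≫ f)) (x' : X') :
    LocPpc f (a x') := by
  -- a closed Cohen–Macaulay point of the fibre
  obtain ⟨x'', hx'', hcl, hcm⟩ :=
    Groth.Agent.Lib.T2H2.QFCover.exists_cm_closed_point_fibre a (a x') ⟨x', rfl⟩
  -- slice
  obtain ⟨V₀, Z, i, hreg, ⟨z₀, hz₀⟩, hfl, hfp, hqf, -⟩ :=
    Groth.Agent.Lib.T2H2.CMSlice.exists_cm_slice a x'' (Flat.stalkMap a x'') hcm hcl
  let hmor : Z ⟶ X := i ≫ V₀.ι ≫ a
  have hz : hmor z₀ = a x' := by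
    have : hmor z₀ = a ((i ≫ V₀.ι) z₀) := by
      simp only [hmor, Scheme.Hom.comp_apply]
    rw [this, hz₀, hx'']
  have hPi : Ppc i :=
    ppc_of_perfMor i (Groth.Agent.Lib.T2H7.PerfReg.perfMor_of_regularClosedImmersion i hreg)
  have hPh : Ppc (hmor ≫ f) := by
    have : hmor ≫ f = i ≫ V₀.ι ≫ (a ≫ f) := by simp only [hmor, Category.assoc]
    rw [this]
    exact ppc_comp _ _ hPi (ppc_comp _ _ (ppc_of_isOpenImmersion V₀.ι) h)
  have : Flat hmor := hfl
  have : LocallyOfFinitePresentation hmor := hfp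
  have : LocallyQuasiFinite hmor := hqf
  -- étale neighbourhood with a finite part
  obtain ⟨U, gU, u, hgU, hu, -, Vf, hVfin, hV⟩ :=
    Groth.Agent.Lib.Helper20.EtSplit.exists_etale_finite_part' hmor hz (hmor.quasiFiniteAt z₀)
  have : Etale gU := hgU
  obtain ⟨v, hv1, hv2⟩ := Scheme.Pullback.exists_preimage_pullback z₀ u (hz.trans hu.symm)
  have hvV : v ∈ Vf := (hV v hv2).mpr hv1
  let φ : (Vf : Scheme.{u}) ⟶ U := Vf.ι ≫ pullback.snd hmor gU
  have : IsFinite φ := hVfin
  let q : U ⟶ S := gU ≫ f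
  have hPφ : Ppc (φ ≫ q) := by
    have : φ ≫ q = (Vf.ι ≫ pullback.fst hmor gU) ≫ (hmor ≫ f) := by
      simp only [φ, q, Category.assoc]
      rw [← pullback.condition_assoc]
    rw [this]
    exact ppc_comp _ _ (ppc_of_flat_lfp _) hPh
  obtain ⟨W, huW, hW⟩ := locPpc_of_finite_flat φ q hPφ ⟨v, hvV⟩
  have hφv : φ ⟨v, hvV⟩ = u := by
    simp only [φ, Scheme.Hom.comp_apply]
    exact hv2
  rw [hφv] at huW
  have hPW : Ppc ((W.ι ≫ gU) ≫ f) := by
    rw [Category.assoc]
    exact hW
  have := locPpc_of_smooth (W.ι ≫ gU) f hPW ⟨u, huW⟩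
  have hpt : (W.ι ≫ gU) ⟨u, huW⟩ = a x' := by
    simp only [Scheme.Hom.comp_apply]
    exact hu
  rwa [hpt] at this

/-- **Pseudo-coherent morphisms descend along fppf covers of the source.** -/
theorem ppc_of_fppf_cover_source {X' X S : Scheme.{u}} (a : X' ⟶ X) (f : X ⟶ S) [Flat a]
    [Surjective a] [LocallyOfFinitePresentation a] (h : Ppc (a ≫ f)) : Ppc f := by
  have : LocallyOfFiniteType (a ≫ f) := locallyOfFiniteType_of_ppc _ h
  have : LocallyOfFiniteType f := Groth.Agent.S5938.result a f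
  refine ppc_of_forall_locPpc f fun x => ?_
  obtain ⟨x', rfl⟩ := a.surjective x
  exact locPpc_of_flat_lfp a f h x'

end Groth.Agent.Lib.T2H2.PCSrc
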