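import Mathlib
import Groth.Prelude.Def_PLie

set_option autoImplicit false
universe u v

namespace Groth.Agent.Lib.T2H2.PLieK

section
variable (k : Type u) [Field k] (p : ℕ) [Fact p.Prime] [CharP k p]
  (L : Type v) [LieRing L] [LieAlgebra k L] [Module.Finite k L]
  (φ : PLie.PMap k p L)

/-- `ad` of an iterate of the `p`-map -/
lemma ad_iterate (x : L) (n : ℕ) :
    LieAlgebra.ad k L (φ.toFun^[n] x) = LieAlgebra.ad k L x ^ (p ^ n) := by
  induction n with
  | zero => simp
  | succ n ih =>
    rw [Function.iterate_succ_apply', φ.ad_map, ih, ← pow_mul, pow_succ]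

lemma isNilpotent_ad_of_isPNilpotent (x : L) (hx : PLie.IsPNilpotent φ x) :
    IsNilpotent (LieAlgebra.ad k L x) := by
  obtain ⟨n, hn⟩ := hx
  refine ⟨p ^ n, ?_⟩
  rw [← ad_iterate, hn, map_zero]

variable {k L}

/-- Killing-orthogonality of a subalgebra `U` acting nilpotently and of its normaliser -/
lemma killingForm_eq_zero_of_normalizer (U : LieSubalgebra k L)
    (hnil : ∀ u ∈ U, IsNilpotent (LieAlgebra.ad k L u)) (h : L) (hh : h ∈ U.normalizer)
    (u : L) (hu : u ∈ U) : killingForm k L h u = 0 := by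
  -- Engel
  haveI : LieModule.IsNilpotent U L := by
    rw [LieModule.isNilpotent_iff_forall' (R := k)]
    rintro ⟨x, hx⟩
    exact hnil x hx
  obtain ⟨N, hN⟩ := LieModule.IsNilpotent.nilpotent (R := k) (L := U) (M := L)
  -- the lower central series is stable under the normaliser
  have hstab : ∀ i : ℕ, ∀ m ∈ LieModule.lowerCentralSeries k U L i,
      ⁅h, m⁆ ∈ LieModule.lowerCentralSeries k U L i := by
    intro i
    induction i with
    | zero => intro m _; simp
    | succ i ih =>
      intro m hm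
      rw [LieModule.lowerCentralSeries_succ, ← LieSubmodule.mem_toSubmodule,
        LieSubmodule.lieIdeal_oper_eq_linear_span'] at hm ⊢
      refine Submodule.span_induction ?_ ?_ ?_ ?_ hm
      · rintro _ ⟨x, -, n, hn, rfl⟩
        have hx : ⁅h, (x : L)⁆ ∈ U := (LieSubalgebra.mem_normalizer_iff U h).1 hh x x.2
        have e1 : ⁅h, ⁅x, n⁆⁆ = ⁅(⟨⁅h, (x : L)⁆, hx⟩ : U), n⁆ + ⁅x, ⁅h, n⁆⁆ := by
          change ⁅h, ⁅(x : L), n⁆⁆ = ⁅⁅h, (x : L)⁆, n⁆ + ⁅(x : L), ⁅h, n⁆⁆
          rw [leibniz_lie]
        rw [e1]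
        refine Submodule.add_mem _ (Submodule.subset_span ⟨_, LieSubmodule.mem_top _, n, hn, rfl⟩)
          (Submodule.subset_span ⟨x, LieSubmodule.mem_top _, _, ih n hn, rfl⟩)
      · simp
      · intro a b _ _ ha hb
        rw [lie_add]
        exact Submodule.add_mem _ ha hb
      · intro c a _ ha
        rw [lie_smul]
        exact Submodule.smul_mem _ c ha
  -- the composite shifts the filtration
  set T : Module.End k L := LieAlgebra.ad k L h ∘ₗ LieAlgebra.ad k L u with hT
  have hshift : ∀ i : ℕ, ∀ m ∈ LieModule.lowerCentralSeries k U L i,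
      T m ∈ LieModule.lowerCentralSeries k U L (i + 1) := by
    intro i m hm
    rw [hT, LinearMap.comp_apply, LieAlgebra.ad_apply, LieAlgebra.ad_apply]
    apply hstab
    rw [LieModule.lowerCentralSeries_succ]
    exact LieSubmodule.lie_mem_lie (LieSubmodule.mem_top (⟨u, hu⟩ : U)) hm
  have hpow : ∀ j : ℕ, ∀ m : L, (T ^ j) m ∈ LieModule.lowerCentralSeries k U L j := by
    intro j
    induction j with
    | zero => intro m; simp
    | succ j ih =>
      intro m
      rw [pow_succ', Module.End.mul_apply]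
      exact hshift j _ (ih m)
  have hTnil : IsNilpotent T := by
    refine ⟨N, LinearMap.ext fun m => ?_⟩
    have := hpow N m
    rw [hN] at this
    simpa using this
  rw [killingForm_apply_apply]
  exact (LinearMap.isNilpotent_trace_of_isNilpotent hTnil).eq_zero

end

/-- **`U = H^⊥`** for the Killing form -/
theorem mem_iff_killing_orthogonal (k : Type u) [Field k] (p : ℕ) [Fact p.Prime] [CharP k p]
    (L : Type v) [LieRing L] [LieAlgebra k L] [Module.Finite k L]
    (φ : PLie.PMap k p L) (hκ : (killingForm k L).Nondegenerate)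
    (U H : LieSubalgebra k L) (hH : H = U.normalizer)
    (hU : ∀ x : L, x ∈ U ↔ ∃ hx : x ∈ H, (⟨x, hx⟩ : ↥H) ∈ LieAlgebra.radical k ↥H ∧
      PLie.IsPNilpotent φ x)
    (hperp : ∀ a b : L, (∀ y ∈ U, killingForm k L a y = 0) → (∀ y ∈ U, killingForm k L b y = 0) →
      ∀ y ∈ U, killingForm k L ⁅a, b⁆ y = 0) :
    ∀ x : L, x ∈ U ↔ ∀ h ∈ H, killingForm k L h x = 0 := by
  have hnil : ∀ u ∈ U, IsNilpotent (LieAlgebra.ad k L u) := by
    intro u hu
    obtain ⟨_, _, hpn⟩ := (hU u).1 hu
    exact isNilpotent_ad_of_isPNilpotent k p L φ u hpn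
  have hsymm : ∀ a b : L, killingForm k L a b = killingForm k L b a :=
    fun a b => LieModule.traceForm_comm k L L a b
  have hrefl : (killingForm k L).IsRefl := by
    intro a b hab
    rw [hsymm, hab]
  have hdd := LinearMap.BilinForm.orthogonal_orthogonal hκ hrefl U.toSubmodule
  -- `U^⊥ ⊆ H`
  have step1 : ∀ a : L, (∀ y ∈ U, killingForm k L a y = 0) → a ∈ H := by
    intro a ha
    rw [hH, LieSubalgebra.mem_normalizer_iff]
    intro y hy
    rw [← LieSubalgebra.mem_toSubmodule, ← hdd, LinearMap.BilinForm.mem_orthogonal_iff]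
    intro b hb
    rw [LinearMap.BilinForm.mem_orthogonal_iff] at hb
    have hb' : ∀ y ∈ U, killingForm k L b y = 0 := fun y hy => by
      rw [hsymm]; exact hb y hy
    have := hperp b a hb' ha y hy
    rw [← this]
    exact (LieModule.traceForm_apply_lie_apply k L L b a y).symm
  intro x
  constructor
  · intro hx h hh
    exact killingForm_eq_zero_of_normalizer U hnil h (hH ▸ hh) x hx
  · intro hx
    rw [← LieSubalgebra.mem_toSubmodule, ← hdd, LinearMap.BilinForm.mem_orthogonal_iff]
    intro b hb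
    rw [LinearMap.BilinForm.mem_orthogonal_iff] at hb
    exact hx b (step1 b fun y hy => by rw [hsymm]; exact hb y hy)

end Groth.Agent.Lib.T2H2.PLieK
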