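import Mathlib
import Groth.Prelude.Def_OmegaPn
import Groth.Agent.Lib.T2H2IdealComapPow

set_option autoImplicit false
set_option linter.style.haveILetI false
universe u
open CategoryTheory CategoryTheory.Limits AlgebraicGeometry TopologicalSpace Opposite TensorProduct

namespace Groth.Agent.Lib.T2H2.PPAff

/-- pushing an ideal sheaf forward along an isomorphism is pulling it back along the inverse. -/
theorem map_eq_comap_inv {X Y : Scheme.{u}} (θ : X ⟶ Y) [IsIso θ] (J : X.IdealSheafData) :
    J.map θ = J.comap (inv θ) := by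
  apply le_antisymm
  · have h1 : (J.map θ).comap θ ≤ J := Scheme.IdealSheafData.comap_map_le J θ
    have h2 := Scheme.IdealSheafData.comap_mono (inv θ) h1
    dsimp only at h2
    rwa [← Scheme.IdealSheafData.comap_comp, IsIso.inv_hom_id, Scheme.IdealSheafData.comap_id] at h2
  · rw [Scheme.IdealSheafData.le_map_iff_comap_le, ← Scheme.IdealSheafData.comap_comp,
      IsIso.hom_inv_id, Scheme.IdealSheafData.comap_id]

/-- pushing forward along an isomorphism commutes with powers. -/
theorem map_pow_of_isIso {X Y : Scheme.{u}} (θ : X ⟶ Y) [IsIso θ] (J : X.IdealSheafData) (m : ℕ) :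
    (J ^ m).map θ = J.map θ ^ m := by
  rw [map_eq_comap_inv, map_eq_comap_inv, Groth.Agent.Lib.T2H2.IdealComapPow.comap_pow]

/-- the kernel of the inclusion of an infinitesimal neighbourhood followed by an isomorphism. -/
theorem ker_infNbhdι_comp {Z X Y : Scheme.{u}} (j : Z ⟶ X) (θ : X ⟶ Y) [IsIso θ] (n : ℕ) :
    (PrinPart.infNbhdι j n ≫ θ).ker = (j ≫ θ).ker ^ (n + 1) := by
  rw [← Scheme.IdealSheafData.map_ker, ← Scheme.IdealSheafData.map_ker, PrinPart.infNbhdι,
    Scheme.IdealSheafData.ker_subschemeι, map_pow_of_isIso]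



theorem isIso_coborderRange_ι {X T : Scheme.{u}} (g : X ⟶ T) [IsClosedImmersion g] :
    IsIso g.coborderRange.ι := by
  have h : g.coborderRange = ⊤ := by
    apply Opens.ext
    change coborder (Set.range g) = Set.univ
    exact (g.isClosedEmbedding.isClosed_range).coborder_eq
  have aux : ∀ U : T.Opens, U = ⊤ → IsIso U.ι := by
    rintro U rfl
    exact (inferInstance : IsIso T.topIso.hom)
  exact aux _ h



/-- global sections of a closed subscheme of an affine scheme whose ideal is a power of the ideal of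
`Spec` of a ring map. -/
theorem appTop_surjective_ker {W : Scheme.{u}} {R' B' : CommRingCat.{u}} (c : W ⟶ Spec R')
    [IsClosedImmersion c] (ν : R' ⟶ B') (m : ℕ) (hc : c.ker = (Spec.map ν).ker ^ m) :
    Function.Surjective ((Scheme.ΓSpecIso R').inv ≫ c.appTop).hom ∧
      RingHom.ker ((Scheme.ΓSpecIso R').inv ≫ c.appTop).hom = RingHom.ker ν.hom ^ m := by
  constructor
  · rw [CommRingCat.hom_comp, RingHom.coe_comp]
    refine Function.Surjective.comp (c.app_surjective ⊤ (isAffineOpen_top _)) ?_
    exact (Scheme.ΓSpecIso R').symm.commRingCatIsoToRingEquiv.surjective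
  · have h1 : RingHom.ker (c.app ⊤).hom = c.ker.ideal ⟨⊤, isAffineOpen_top _⟩ :=
      (c.ker_apply ⟨⊤, isAffineOpen_top _⟩).symm
    have h2 : RingHom.ker ((Spec.map ν).app ⊤).hom =
        (Spec.map ν).ker.ideal ⟨⊤, isAffineOpen_top _⟩ :=
      ((Spec.map ν).ker_apply ⟨⊤, isAffineOpen_top _⟩).symm
    have h3 : RingHom.ker (c.app ⊤).hom = RingHom.ker ((Spec.map ν).app ⊤).hom ^ m := by
      rw [h1, hc, Scheme.IdealSheafData.ideal_pow, Pi.pow_apply, h2]
    have h4 : RingHom.ker ((Spec.map ν).app ⊤).hom =
        (RingHom.ker ν.hom).comap (Scheme.ΓSpecIso R').hom.hom := by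
      ext x
      have := congr($(Scheme.ΓSpecIso_naturality ν) x)
      simp only [CommRingCat.comp_apply] at this
      rw [RingHom.mem_ker, Ideal.mem_comap, RingHom.mem_ker, ← this]
      change (Spec.map ν).appTop x = 0 ↔ _
      constructor
      · intro h; rw [h, map_zero]
      · intro h
        exact (Scheme.ΓSpecIso B').commRingCatIsoToRingEquiv.injective (by rw [map_zero]; exact h)
    let e : Γ(Spec R', ⊤) ≃+* R' := (Scheme.ΓSpecIso R').commRingCatIsoToRingEquiv
    have h5 : (RingHom.ker ν.hom).comap (Scheme.ΓSpecIso R').hom.hom =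
        (RingHom.ker ν.hom).comap e := rfl
    ext x
    rw [RingHom.mem_ker, CommRingCat.hom_comp, RingHom.comp_apply]
    change (c.app ⊤).hom (e.symm x) = 0 ↔ _
    rw [← RingHom.mem_ker, h3, h4, h5]
    have h6 : e.symm x ∈ Ideal.comap e (RingHom.ker ν.hom) ^ m ↔
        x ∈ (Ideal.comap e (RingHom.ker ν.hom) ^ m).comap e.symm := Iff.rfl
    rw [h6, Ideal.comap_symm, Ideal.map_pow, Ideal.map_comap_of_surjective _ e.surjective]


section affine

variable (A B : Type u) [CommRing A] [CommRing B] [Algebra A B] (n : ℕ)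

/-- the structure morphism `Spec B ⟶ Spec A`. -/
noncomputable abbrev sf : Spec (CommRingCat.of B) ⟶ Spec (CommRingCat.of A) :=
  Spec.map (CommRingCat.ofHom (algebraMap A B))

/-- the multiplication `B ⊗[A] B → B` as a morphism of rings. -/
noncomputable abbrev mulHom : CommRingCat.of (B ⊗[A] B) ⟶ CommRingCat.of B :=
  CommRingCat.ofHom (Algebra.TensorProduct.lmul' A : B ⊗[A] B →ₐ[A] B).toRingHom

/-- the closed immersion of the `n`-th infinitesimal neighbourhood of the diagonal into `Spec (B ⊗ B)`. -/
noncomputable def cIm : PrinPart.nbhd (sf A B) n ⟶ Spec (CommRingCat.of (B ⊗[A] B)) :=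
  PrinPart.nbhdι (sf A B) n ≫ (pullbackSpecIso A B B).hom

instance : IsClosedImmersion (pullback.diagonal (sf A B)) := inferInstance

theorem diagonal_comp_iso :
    pullback.diagonal (sf A B) ≫ (pullbackSpecIso A B B).hom = Spec.map (mulHom A B) := by
  rw [diagonal_SpecMap, Category.assoc, Iso.inv_hom_id, Category.comp_id]

instance isIso_theta : IsIso ((pullback.diagonal (sf A B)).coborderRange.ι ≫
    (pullbackSpecIso A B B).hom) := by
  haveI := isIso_coborderRange_ι (pullback.diagonal (sf A B))
  infer_instance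

theorem cIm_eq : cIm A B n = PrinPart.infNbhdι (PrinPart.diagCl (sf A B)) n ≫
    ((pullback.diagonal (sf A B)).coborderRange.ι ≫ (pullbackSpecIso A B B).hom) := by
  simp [cIm, PrinPart.nbhdι]

instance : IsClosedImmersion (cIm A B n) := by
  rw [cIm_eq]
  haveI : IsClosedImmersion (PrinPart.infNbhdι (PrinPart.diagCl (sf A B)) n) := by
    unfold PrinPart.infNbhdι; infer_instance
  infer_instance

theorem ker_cIm : (cIm A B n).ker = (Spec.map (mulHom A B)).ker ^ (n + 1) := by
  rw [cIm_eq, ker_infNbhdι_comp, ← Category.assoc, Scheme.Hom.liftCoborder_ι, diagonal_comp_iso]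

end affine

end Groth.Agent.Lib.T2H2.PPAff
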