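import Mathlib
import Groth.Prelude.Def_OmegaPn
import Groth.Agent.Lib.Helper23PB
import Groth.Agent.Lib.T2H2PPAff

set_option autoImplicit false
set_option linter.style.haveILetI false
universe u
open CategoryTheory CategoryTheory.Limits AlgebraicGeometry TopologicalSpace Opposite TensorProduct

namespace Groth.Agent.Lib.T2H2.PPAff

open Groth.Agent.Lib.Helper23.PB

set_option backward.isDefEq.respectTransparency.types false in
theorem pullbackUnitHom_pullSect {X Y : Scheme.{u}} (f : X ⟶ Y) (U : Y.Opens) (a : Γ(Y, U)) :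
    (pullbackUnitHom f).app (f ⁻¹ᵁ U)
        (OmegaSh.pullSect f (Coh.structureModule Y) U (OmegaSh.strSect Y U a)) =
      OmegaSh.strSect X (f ⁻¹ᵁ U) (f.app U a) := by
  have h := SheafOfModules.pullbackPushforwardAdjunction_homEquiv_pullbackObjUnitToUnit.{u}
    f.toRingCatSheafHom
  rw [Adjunction.homEquiv_unit] at h
  have h2 := congr(($h).val.app (op U) a)
  exact h2

section general

variable {X S : Scheme.{u}} (f : X ⟶ S) (n : ℕ)

/-- global sections of `P^n` as functions on the infinitesimal neighbourhood. -/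
noncomputable def secToFn : Γ(PrinPart.P f n, (⊤ : X.Opens)) →+ Γ(PrinPart.nbhd f n, (⊤ : (PrinPart.nbhd f n).Opens)) :=
  (OmegaSh.fnSect (PrinPart.nbhd f n) ⊤).comp
    ((pullbackUnitHom (PrinPart.pr2 f n)).app (PrinPart.pr1 f n ⁻¹ᵁ ⊤)).hom

theorem secToFn_bijective : Function.Bijective (secToFn f n) := by
  have : IsIso ((pullbackUnitHom (PrinPart.pr2 f n)).app (PrinPart.pr1 f n ⁻¹ᵁ ⊤)) := inferInstance
  exact (ConcreteCategory.isIso_iff_bijective _).mp this

theorem secToFn_smul_dn (a a' : Γ(X, (⊤ : X.Opens))) :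
    secToFn f n (a • PrinPart.dn f n ⊤ a') =
      (PrinPart.pr1 f n).appTop a * (PrinPart.pr2 f n).appTop a' := by
  have h1 : a • PrinPart.dn f n ⊤ a' =
      (((PrinPart.pr1 f n).app ⊤ a) •
        (show Γ((Scheme.Modules.pullback (PrinPart.pr2 f n)).obj (Coh.structureModule X),
          PrinPart.pr1 f n ⁻¹ᵁ ⊤) from PrinPart.dn f n ⊤ a')) := rfl
  unfold secToFn
  rw [AddMonoidHom.comp_apply, h1]
  erw [Scheme.Modules.Hom.app_smul]
  have h2 : (show Γ((Scheme.Modules.pullback (PrinPart.pr2 f n)).obj (Coh.structureModule X),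
      PrinPart.pr1 f n ⁻¹ᵁ ⊤) from PrinPart.dn f n ⊤ a') =
      OmegaSh.pullSect (PrinPart.pr2 f n) (Coh.structureModule X) ⊤ (OmegaSh.strSect X ⊤ a') := by
    change PrinPart.dP f n (Coh.structureModule X) ⊤ (OmegaSh.strSect X ⊤ a') = _
    rw [PrinPart.dP_apply]
    exact congr($(((Scheme.Modules.pullback (PrinPart.pr2 f n)).obj
      (Coh.structureModule X)).presheaf.map_id _) _)
  rw [h2]
  have key := pullbackUnitHom_pullSect (PrinPart.pr2 f n) ⊤ a'
  change (OmegaSh.fnSect (PrinPart.nbhd f n) ⊤)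
    (((PrinPart.pr1 f n).appTop a : Γ(PrinPart.nbhd f n, ⊤)) •
    (show Γ(Coh.structureModule (PrinPart.nbhd f n), ⊤) from
      (pullbackUnitHom (PrinPart.pr2 f n)).app (PrinPart.pr2 f n ⁻¹ᵁ ⊤)
      (OmegaSh.pullSect (PrinPart.pr2 f n) (Coh.structureModule X) ⊤
        (OmegaSh.strSect X ⊤ a')))) = _
  rw [key]
  rfl

end general

section affine

variable (A B : Type u) [CommRing A] [CommRing B] [Algebra A B] (n : ℕ)

/-- the canonical ring map `B ⊗[A] B → Γ(nbhd, ⊤)`. -/
noncomputable def qHom : (B ⊗[A] B) →+* Γ(PrinPart.nbhd (sf A B) n, (⊤ : (PrinPart.nbhd (sf A B) n).Opens)) :=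
  ((Scheme.ΓSpecIso (CommRingCat.of (B ⊗[A] B))).inv ≫ (cIm A B n).appTop).hom

theorem qHom_surjective : Function.Surjective (qHom A B n) :=
  (appTop_surjective_ker (cIm A B n) (mulHom A B) (n + 1) (ker_cIm A B n)).1

theorem ker_qHom : RingHom.ker (qHom A B n) = KaehlerDifferential.ideal A B ^ (n + 1) :=
  (appTop_surjective_ker (cIm A B n) (mulHom A B) (n + 1) (ker_cIm A B n)).2

theorem cIm_inclL : cIm A B n ≫ Spec.map (CommRingCat.ofHom
    (Algebra.TensorProduct.includeLeftRingHom : B →+* B ⊗[A] B)) = PrinPart.pr1 (sf A B) n := by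
  rw [cIm, Category.assoc, pullbackSpecIso_hom_fst]
  rfl

theorem cIm_inclR : cIm A B n ≫ Spec.map (CommRingCat.ofHom
    ((Algebra.TensorProduct.includeRight : B →ₐ[A] B ⊗[A] B) : B →+* B ⊗[A] B)) =
    PrinPart.pr2 (sf A B) n := by
  rw [cIm, Category.assoc]
  erw [pullbackSpecIso_hom_snd]
  rfl

theorem pr1_appTop (b : B) :
    (PrinPart.pr1 (sf A B) n).appTop ((Scheme.ΓSpecIso (CommRingCat.of B)).inv b) =
      qHom A B n (b ⊗ₜ[A] 1) := by
  rw [← cIm_inclL, Scheme.Hom.comp_appTop]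
  have := congr($(Scheme.ΓSpecIso_inv_naturality (CommRingCat.ofHom
    (Algebra.TensorProduct.includeLeftRingHom : B →+* B ⊗[A] B))) b)
  rw [ConcreteCategory.comp_apply, ConcreteCategory.comp_apply] at this
  rw [ConcreteCategory.comp_apply, ← this]
  rfl

theorem pr2_appTop (b : B) :
    (PrinPart.pr2 (sf A B) n).appTop ((Scheme.ΓSpecIso (CommRingCat.of B)).inv b) =
      qHom A B n (1 ⊗ₜ[A] b) := by
  rw [← cIm_inclR, Scheme.Hom.comp_appTop]
  have := congr($(Scheme.ΓSpecIso_inv_naturality (CommRingCat.ofHom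
    ((Algebra.TensorProduct.includeRight : B →ₐ[A] B ⊗[A] B) : B →+* B ⊗[A] B))) b)
  rw [ConcreteCategory.comp_apply, ConcreteCategory.comp_apply] at this
  rw [ConcreteCategory.comp_apply, ← this]
  rfl

/-- the main statement. -/
theorem principalParts_affine
    (ψ : B ⊗[A] B →+ Γ(PrinPart.P (sf A B) n, (⊤ : (Spec (CommRingCat.of B)).Opens)))
    (hψ : ∀ b b' : B, ψ (b ⊗ₜ[A] b') =
      (Scheme.ΓSpecIso (CommRingCat.of B)).inv b •
        PrinPart.dn (sf A B) n ⊤ ((Scheme.ΓSpecIso (CommRingCat.of B)).inv b')) :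
    Function.Surjective ψ ∧ ψ.ker = (KaehlerDifferential.ideal A B ^ (n + 1)).toAddSubgroup := by
  have key : ∀ x, secToFn (sf A B) n (ψ x) = qHom A B n x := by
    intro x
    induction x using TensorProduct.induction_on with
    | zero => simp
    | tmul b b' =>
      rw [hψ, secToFn_smul_dn, pr1_appTop, pr2_appTop, ← map_mul,
        Algebra.TensorProduct.tmul_mul_tmul, mul_one, one_mul]
    | add x y hx hy => rw [map_add, map_add, hx, hy, map_add]
  have hbij := secToFn_bijective (sf A B) n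
  constructor
  · intro y
    obtain ⟨x, hx⟩ := qHom_surjective A B n (secToFn (sf A B) n y)
    exact ⟨x, hbij.1 (by rw [key, hx])⟩
  · ext x
    rw [AddMonoidHom.mem_ker, Submodule.mem_toAddSubgroup, ← ker_qHom A B n, RingHom.mem_ker,
      ← key]
    constructor
    · intro h; rw [h, map_zero]
    · intro h; exact hbij.1 (by rw [h, map_zero])

end affine

end Groth.Agent.Lib.T2H2.PPAff
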