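import Mathlib
import Groth.Prelude.Def_OmegaPn

set_option autoImplicit false
set_option linter.style.haveILetI false
universe u
open CategoryTheory CategoryTheory.Limits AlgebraicGeometry TopologicalSpace Opposite

namespace Groth.Agent.Lib.T2H2.PPNil

/-- abstract form: vanishing after a composite. -/
theorem app_eq_zero_of_comp {Y N O : Scheme.{u}} (τ : Y ⟶ N) (ι : N ⟶ O) (j : Y ⟶ O)
    (h : τ ≫ ι = j) (Ũ : O.Opens) (ρ : Γ(O, Ũ))
    (hr : τ.app (ι ⁻¹ᵁ Ũ) (ι.app Ũ ρ) = 0) : j.app Ũ ρ = 0 := by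
  subst h
  rw [Scheme.Hom.comp_app]
  exact hr

variable {Y O : Scheme.{u}} (j : Y ⟶ O) (n : ℕ)

instance : IsClosedImmersion (PrinPart.infNbhdι j n) := by
  unfold PrinPart.infNbhdι; infer_instance

/-- small affine opens of the ambient scheme around points of the neighbourhood. -/
theorem exists_affine_preimage_le (W : (PrinPart.infNbhd j n).Opens) (w : PrinPart.infNbhd j n)
    (hw : w ∈ W) :
    ∃ Ũ : O.Opens, IsAffineOpen Ũ ∧ w ∈ PrinPart.infNbhdι j n ⁻¹ᵁ Ũ ∧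
      PrinPart.infNbhdι j n ⁻¹ᵁ Ũ ≤ W := by
  obtain ⟨U₀, hU₀, hwU₀, -⟩ := exists_isAffineOpen_mem_and_subset
    (x := PrinPart.infNbhdι j n w) (U := ⊤) trivial
  have haff : IsAffineOpen (PrinPart.infNbhdι j n ⁻¹ᵁ U₀) := hU₀.preimage _
  obtain ⟨g, hg1, hg2⟩ := haff.exists_basicOpen_le (V := W) ⟨w, hw⟩ hwU₀
  obtain ⟨g', rfl⟩ := (j.ker ^ (n + 1)).subschemeι_app_surjective ⟨U₀, hU₀⟩ g
  refine ⟨O.basicOpen g', hU₀.basicOpen g', ?_, ?_⟩
  · rw [Scheme.Hom.preimage_basicOpen]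
    exact hg2
  · rw [Scheme.Hom.preimage_basicOpen]
    exact hg1

/-- a function on an infinitesimal neighbourhood, defined over the preimage of an affine open, which
vanishes on the subscheme comes from the ideal. -/
theorem exists_lift_mem_ker [QuasiCompact j] (Ũ : O.Opens) (hŨ : IsAffineOpen Ũ)
    (r : Γ(PrinPart.infNbhd j n, PrinPart.infNbhdι j n ⁻¹ᵁ Ũ))
    (hr : (PrinPart.toInfNbhd j n).app (PrinPart.infNbhdι j n ⁻¹ᵁ Ũ) r = 0) :
    ∃ ρ : Γ(O, Ũ), ρ ∈ j.ker.ideal ⟨Ũ, hŨ⟩ ∧ (PrinPart.infNbhdι j n).app Ũ ρ = r := by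
  obtain ⟨ρ, hρ⟩ := (j.ker ^ (n + 1)).subschemeι_app_surjective ⟨Ũ, hŨ⟩ r
  have hρ' : (PrinPart.infNbhdι j n).app Ũ ρ = r := hρ
  refine ⟨ρ, ?_, hρ'⟩
  rw [Scheme.Hom.ker_apply, RingHom.mem_ker]
  refine app_eq_zero_of_comp (PrinPart.toInfNbhd j n) (PrinPart.infNbhdι j n) j
    (PrinPart.toInfNbhd_ι j n) Ũ ρ ?_
  rw [hρ']
  exact hr

/-- the product of `n + 1` functions on the `n`-th infinitesimal neighbourhood which vanish on the
subscheme is zero. -/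
theorem prod_eq_zero [QuasiCompact j] (W : (PrinPart.infNbhd j n).Opens)
    (r : Fin (n + 1) → Γ(PrinPart.infNbhd j n, W))
    (hr : ∀ i, (PrinPart.toInfNbhd j n).app W (r i) = 0) : ∏ i, r i = 0 := by
  choose Ũ hŨ hwŨ hŨW using exists_affine_preimage_le j n W
  refine (PrinPart.infNbhd j n).sheaf.eq_of_locally_eq'
    (fun w : W => PrinPart.infNbhdι j n ⁻¹ᵁ Ũ w.1 w.2) W
    (fun w => homOfLE (hŨW w.1 w.2)) ?_ _ _ (fun w => ?_)
  · intro x hx
    exact Opens.mem_iSup.mpr ⟨⟨x, hx⟩, hwŨ x hx⟩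
  · change (PrinPart.infNbhd j n).presheaf.map (homOfLE (hŨW w.1 w.2)).op (∏ i, r i) =
      (PrinPart.infNbhd j n).presheaf.map (homOfLE (hŨW w.1 w.2)).op 0
    rw [map_zero, map_prod]
    have h1 : ∀ i, (PrinPart.toInfNbhd j n).app (PrinPart.infNbhdι j n ⁻¹ᵁ Ũ w.1 w.2)
        ((PrinPart.infNbhd j n).presheaf.map (homOfLE (hŨW w.1 w.2)).op (r i)) = 0 := by
      intro i
      have := congr($((PrinPart.toInfNbhd j n).naturality (homOfLE (hŨW w.1 w.2)).op) (r i))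
      rw [ConcreteCategory.comp_apply, ConcreteCategory.comp_apply, hr i, map_zero] at this
      exact this
    choose ρ hρ1 hρ2 using fun i => exists_lift_mem_ker j n (Ũ w.1 w.2) (hŨ w.1 w.2) _ (h1 i)
    have h2 : ∏ i, ρ i ∈ (j.ker ^ (n + 1)).ideal ⟨Ũ w.1 w.2, hŨ w.1 w.2⟩ := by
      rw [Scheme.IdealSheafData.ideal_pow, Pi.pow_apply]
      have := Ideal.prod_mem_prod (s := Finset.univ)
        (I := fun _ : Fin (n + 1) => j.ker.ideal ⟨Ũ w.1 w.2, hŨ w.1 w.2⟩) (x := ρ)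
        (fun i _ => hρ1 i)
      rwa [Finset.prod_const, Finset.card_univ, Fintype.card_fin] at this
    rw [← (j.ker ^ (n + 1)).ker_subschemeι_app ⟨Ũ w.1 w.2, hŨ w.1 w.2⟩, RingHom.mem_ker,
      map_prod] at h2
    refine Eq.trans (Finset.prod_congr rfl (fun i _ => (hρ2 i).symm)) ?_
    exact h2

/-- abstract form: the two pullbacks of a function along two retractions of `τ` agree after `τ`. -/
theorem app_sub_eq_zero_of_sections {X N : Scheme.{u}} (τ : X ⟶ N) (p1 p2 : N ⟶ X)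
    (h1 : τ ≫ p1 = 𝟙 X) (h2 : τ ≫ p2 = 𝟙 X) (U : X.Opens) (W : N.Opens)
    (e1 : W ≤ p1 ⁻¹ᵁ U) (e2 : W ≤ p2 ⁻¹ᵁ U) (a : Γ(X, U)) :
    τ.app W (p2.appLE U W e2 a - p1.appLE U W e1 a) = 0 := by
  have aux : ∀ (k₁ k₂ : X ⟶ X) (_ : k₁ = k₂) (V : X.Opens) (e₁ : V ≤ k₁ ⁻¹ᵁ U)
      (e₂ : V ≤ k₂ ⁻¹ᵁ U), k₁.appLE U V e₁ a = k₂.appLE U V e₂ a := by
    rintro k₁ k₂ rfl V e₁ e₂; rfl
  rw [map_sub, sub_eq_zero, Scheme.Hom.app_eq_appLE,
    ← ConcreteCategory.comp_apply, ← ConcreteCategory.comp_apply,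
    Scheme.Hom.appLE_comp_appLE, Scheme.Hom.appLE_comp_appLE]
  exact aux _ _ (h2.trans h1.symm) _ _ _

section diag

variable {X S : Scheme.{u}} (f : X ⟶ S) (n : ℕ)

/-- the difference of the two pullbacks of a function to the infinitesimal neighbourhood of the diagonal. -/
noncomputable def delta (U : X.Opens) (a : Γ(X, U)) :
    Γ(PrinPart.nbhd f n, PrinPart.pr1 f n ⁻¹ᵁ U) :=
  (PrinPart.pr2 f n).appLE U (PrinPart.pr1 f n ⁻¹ᵁ U) (PrinPart.preimage_pr1 f n U).le a -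
    (PrinPart.pr1 f n).app U a

theorem toNbhd_app_delta (U : X.Opens) (a : Γ(X, U)) :
    (PrinPart.toNbhd f n).app (PrinPart.pr1 f n ⁻¹ᵁ U) (delta f n U a) = 0 := by
  unfold delta
  rw [Scheme.Hom.app_eq_appLE (PrinPart.pr1 f n)]
  exact app_sub_eq_zero_of_sections (PrinPart.toNbhd f n) (PrinPart.pr1 f n) (PrinPart.pr2 f n)
    (PrinPart.toNbhd_pr1 f n) (PrinPart.toNbhd_pr2 f n) U _ le_rfl
    (PrinPart.preimage_pr1 f n U).le a

/-- the product of `n + 1` such differences vanishes on the `n`-th neighbourhood. -/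
theorem prod_delta_eq_zero (U : X.Opens) (a : Fin (n + 1) → Γ(X, U)) :
    ∏ i, delta f n U (a i) = 0 :=
  prod_eq_zero (PrinPart.diagCl f) n _ _ (fun i => toNbhd_app_delta f n U (a i))

end diag

end Groth.Agent.Lib.T2H2.PPNil
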