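import Mathlib
import Groth.Prelude.Def_OmegaPn
import Groth.Agent.Lib.T2H2PPNil

set_option autoImplicit false
set_option linter.style.haveILetI false
universe u
open CategoryTheory CategoryTheory.Limits AlgebraicGeometry TopologicalSpace Opposite

namespace Groth.Agent.Lib.T2H2.PPOrd1

open Groth.Agent.Lib.T2H2.PPNil

variable {X S : Scheme.{u}} (f : X ⟶ S) (n : ℕ) (F : X.Modules)

/-- sections of `P^n(F)` over `U`, as sections of the pulled back module. -/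
abbrev PSec (U : X.Opens) : Type u :=
  Γ((Scheme.Modules.pullback (PrinPart.pr2 f n)).obj F, PrinPart.pr1 f n ⁻¹ᵁ U)

/-- the identification of sections of `P^n(F)` with sections of the pulled back module. -/
noncomputable def toPSec (U : X.Opens) : Γ(PrinPart.PMod f n F, U) ≃+ PSec f n F U :=
  AddEquiv.refl _

/-- first structure map on functions. -/
noncomputable abbrev P1 (U : X.Opens) : Γ(X, U) →+* Γ(PrinPart.nbhd f n, PrinPart.pr1 f n ⁻¹ᵁ U) :=
  ((PrinPart.pr1 f n).app U).hom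

/-- second structure map on functions. -/
noncomputable abbrev P2 (U : X.Opens) : Γ(X, U) →+* Γ(PrinPart.nbhd f n, PrinPart.pr1 f n ⁻¹ᵁ U) :=
  ((PrinPart.pr2 f n).appLE U (PrinPart.pr1 f n ⁻¹ᵁ U) (PrinPart.preimage_pr1 f n U).le).hom

theorem toPSec_smul (U : X.Opens) (a : Γ(X, U)) (x : Γ(PrinPart.PMod f n F, U)) :
    toPSec f n F U (a • x) = P1 f n U a • toPSec f n F U x := rfl

theorem toPSec_dP_smul (U : X.Opens) (a : Γ(X, U)) (t : Γ(F, U)) :
    toPSec f n F U (PrinPart.dP f n F U (a • t)) =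
      P2 f n U a • toPSec f n F U (PrinPart.dP f n F U t) := by
  change PrinPart.dP f n F U (a • t) = _
  rw [PrinPart.dP_apply, OmegaSh.pullSect_smul]
  erw [Scheme.Modules.map_smul]
  rfl

theorem P2_sub_P1 (U : X.Opens) (a : Γ(X, U)) : P2 f n U a - P1 f n U a = delta f n U a := rfl

/-- abstract form: pullbacks of functions from the base along two morphisms which agree over the base. -/
theorem appLE_base_eq {N X' S' : Scheme.{u}} (p1 p2 : N ⟶ X') (g : X' ⟶ S') (h : p1 ≫ g = p2 ≫ g)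
    (V : S'.Opens) (W : N.Opens) (e1 : W ≤ p1 ⁻¹ᵁ (g ⁻¹ᵁ V)) (e2 : W ≤ p2 ⁻¹ᵁ (g ⁻¹ᵁ V))
    (a : Γ(S', V)) :
    p2.appLE (g ⁻¹ᵁ V) W e2 (g.app V a) = p1.appLE (g ⁻¹ᵁ V) W e1 (g.app V a) := by
  have aux : ∀ (k₁ k₂ : N ⟶ S') (_ : k₁ = k₂) (e₁ : W ≤ k₁ ⁻¹ᵁ V) (e₂ : W ≤ k₂ ⁻¹ᵁ V),
      k₁.appLE V W e₁ a = k₂.appLE V W e₂ a := by
    rintro k₁ k₂ rfl e₁ e₂; rfl
  rw [Scheme.Hom.app_eq_appLE, ← ConcreteCategory.comp_apply, ← ConcreteCategory.comp_apply,
    Scheme.Hom.appLE_comp_appLE, Scheme.Hom.appLE_comp_appLE]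
  exact aux _ _ h.symm _ _

theorem P2_base (V : S.Opens) (a : Γ(S, V)) :
    P2 f n (f ⁻¹ᵁ V) (f.app V a) = P1 f n (f ⁻¹ᵁ V) (f.app V a) := by
  change (PrinPart.pr2 f n).appLE (f ⁻¹ᵁ V) _ _ (f.app V a) = (PrinPart.pr1 f n).app (f ⁻¹ᵁ V) (f.app V a)
  rw [Scheme.Hom.app_eq_appLE (PrinPart.pr1 f n)]
  exact appLE_base_eq (PrinPart.pr1 f n) (PrinPart.pr2 f n) f (PrinPart.pr1_comp f n) V _ le_rfl _ a

/-- `d^n` is linear over functions pulled back from the base. -/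
theorem dP_base_smul (V : S.Opens) (a : Γ(S, V)) (t : Γ(F, f ⁻¹ᵁ V)) :
    PrinPart.dP f n F (f ⁻¹ᵁ V) (f.app V a • t) = f.app V a • PrinPart.dP f n F (f ⁻¹ᵁ V) t := by
  apply (toPSec f n F (f ⁻¹ᵁ V)).injective
  rw [toPSec_smul, toPSec_dP_smul, P2_base]

/-- the second order identity on `P^1`. -/
theorem dP_one_mul (U : X.Opens) (a b : Γ(X, U)) (t : Γ(F, U)) :
    PrinPart.dP f 1 F U ((a * b) • t) =
      a • PrinPart.dP f 1 F U (b • t) + b • PrinPart.dP f 1 F U (a • t) -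
        (a * b) • PrinPart.dP f 1 F U t := by
  have h0 := prod_delta_eq_zero f 1 U ![a, b]
  rw [Fin.prod_univ_two] at h0
  simp only [Matrix.cons_val_zero, Matrix.cons_val_one] at h0
  rw [← P2_sub_P1, ← P2_sub_P1] at h0
  apply (toPSec f 1 F U).injective
  rw [map_sub, map_add, toPSec_smul, toPSec_smul, toPSec_smul, toPSec_dP_smul, toPSec_dP_smul,
    toPSec_dP_smul, ← mul_smul, ← mul_smul, ← add_smul, ← sub_smul, ← sub_eq_zero, ← sub_smul]
  have h1 : P2 f 1 U (a * b) - (P1 f 1 U a * P2 f 1 U b + P1 f 1 U b * P2 f 1 U a -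
      P1 f 1 U (a * b)) = 0 := by
    rw [← h0, map_mul, map_mul]
    ring
  rw [h1, zero_smul]

end Groth.Agent.Lib.T2H2.PPOrd1
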