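import Mathlib
import Groth.Prelude.Def_OmegaPn
import Groth.Agent.Lib.T2H2PPOrd1
import Groth.Agent.S5979

set_option autoImplicit false
set_option linter.style.haveILetI false
universe u
open CategoryTheory CategoryTheory.Limits AlgebraicGeometry TopologicalSpace Opposite

namespace Groth.Agent.Lib.T2H2.PPOrd0

open Groth.Agent.Lib.T2H2.PPOrd1 Groth.Agent.Lib.T2H2.PPNil

variable {X S : Scheme.{u}} (f : X ⟶ S) (F G : X.Modules)

/-- `d^0` is linear. -/
theorem dP_zero_smul (U : X.Opens) (a : Γ(X, U)) (t : Γ(F, U)) :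
    PrinPart.dP f 0 F U (a • t) = a • PrinPart.dP f 0 F U t := by
  have h0 := prod_delta_eq_zero f 0 U ![a]
  rw [Fin.prod_univ_one] at h0
  simp only [Matrix.cons_val_zero] at h0
  rw [← P2_sub_P1, sub_eq_zero] at h0
  apply (toPSec f 0 F U).injective
  rw [toPSec_smul, toPSec_dP_smul, h0]

/-- `d^0` as an additive equivalence on sections. -/
noncomputable def dEquiv (U : X.Opens) : Γ(F, U) ≃+ Γ(PrinPart.PMod f 0 F, U) :=
  AddEquiv.ofBijective (PrinPart.dP f 0 F U) (Groth.Agent.S5979.result f F U)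

theorem dEquiv_apply (U : X.Opens) (t : Γ(F, U)) : dEquiv f F U t = PrinPart.dP f 0 F U t := rfl

theorem dEquiv_symm_map {U V : X.Opens} (e : V ≤ U) (x : Γ(PrinPart.PMod f 0 F, U)) :
    (dEquiv f F V).symm ((PrinPart.PMod f 0 F).presheaf.map (homOfLE e).op x) =
      F.presheaf.map (homOfLE e).op ((dEquiv f F U).symm x) := by
  apply (dEquiv f F V).injective
  rw [AddEquiv.apply_symm_apply, dEquiv_apply, PrinPart.dP_map, ← dEquiv_apply,
    AddEquiv.apply_symm_apply]

theorem dEquiv_symm_smul (U : X.Opens) (a : Γ(X, U)) (x : Γ(PrinPart.PMod f 0 F, U)) :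
    (dEquiv f F U).symm (a • x) = a • (dEquiv f F U).symm x := by
  apply (dEquiv f F U).injective
  rw [AddEquiv.apply_symm_apply, dEquiv_apply, dP_zero_smul, ← dEquiv_apply,
    AddEquiv.apply_symm_apply]

variable (D : F.presheaf ⟶ G.presheaf)

/-- the presheaf map `D ∘ (d^0)⁻¹`. -/
noncomputable def phi : (PrinPart.PMod f 0 F).presheaf ⟶ G.presheaf where
  app U := AddCommGrpCat.ofHom ((D.app U).hom.comp (dEquiv f F U.unop).symm.toAddMonoidHom)
  naturality U V i := by
    ext x
    change D.app V ((dEquiv f F V.unop).symm ((PrinPart.PMod f 0 F).presheaf.map i x)) =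
      G.presheaf.map i (D.app U ((dEquiv f F U.unop).symm x))
    have h1 := dEquiv_symm_map f F i.unop.le x
    have h2 := congr($(D.naturality i) ((dEquiv f F U.unop).symm x))
    change D.app V (F.presheaf.map i ((dEquiv f F U.unop).symm x)) = _ at h2
    refine Eq.trans (congrArg (D.app V) h1) ?_
    exact h2

theorem phi_app (U : X.Opens) (x : Γ(PrinPart.PMod f 0 F, U)) :
    (phi f F G D).app (op U) x = D.app (op U) ((dEquiv f F U).symm x) := rfl

/-- the linear map `P^0(F) ⟶ G` attached to a linear `D`. -/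
noncomputable def uHom
    (hD : ∀ (U : X.Opens) (a : Γ(X, U)) (t : Γ(F, U)), D.app (op U) (a • t) = a • D.app (op U) t) :
    PrinPart.PMod f 0 F ⟶ G :=
  ⟨PresheafOfModules.homMk (phi f F G D) (fun U r m => by
    have h1 := dEquiv_symm_smul f F U.unop r m
    have h2 := hD U.unop r ((dEquiv f F U.unop).symm m)
    exact Eq.trans (congrArg (D.app (op U.unop)) h1) h2)⟩

theorem uHom_app
    (hD : ∀ (U : X.Opens) (a : Γ(X, U)) (t : Γ(F, U)), D.app (op U) (a • t) = a • D.app (op U) t)
    (U : X.Opens) (x : Γ(PrinPart.PMod f 0 F, U)) :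
    (uHom f F G D hD).app U x = D.app (op U) ((dEquiv f F U).symm x) := rfl

theorem isDiffOpLE_zero_iff :
    PrinPart.IsDiffOpLE f F G 0 D ↔
      ∀ (U : X.Opens) (a : Γ(X, U)) (t : Γ(F, U)), D.app (op U) (a • t) = a • D.app (op U) t := by
  constructor
  · rintro ⟨u, hu⟩ U a t
    rw [hu, hu, dP_zero_smul, Scheme.Modules.Hom.app_smul]
  · intro hD
    refine ⟨uHom f F G D hD, fun U t => ?_⟩
    rw [uHom_app, ← dEquiv_apply, AddEquiv.symm_apply_apply]

end Groth.Agent.Lib.T2H2.PPOrd0
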