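import Mathlib
import Groth.Prelude.Def_OmegaPn
import Groth.Agent.Lib.T2H2PPOrd1

set_option autoImplicit false
set_option linter.style.haveILetI false
universe u
open CategoryTheory CategoryTheory.Limits AlgebraicGeometry TopologicalSpace Opposite

namespace Groth.Agent.Lib.T2H2.PPOrd1b

open Groth.Agent.Lib.T2H2.PPOrd1

variable {X S : Scheme.{u}} (f : X ⟶ S) (G : X.Modules)

theorem smul_strSect (U : X.Opens) (a b : Γ(X, U)) :
    a • OmegaSh.strSect X U b = OmegaSh.strSect X U (a * b) := rfl

theorem strSect_one_smul (U : X.Opens) (a : Γ(X, U)) :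
    a • OmegaSh.strSect X U 1 = OmegaSh.strSect X U a := by
  rw [smul_strSect, mul_one]

theorem map_strSect {U V : X.Opens} (i : V ⟶ U) (a : Γ(X, U)) :
    (Coh.structureModule X).presheaf.map i.op (OmegaSh.strSect X U a) =
      OmegaSh.strSect X V (X.presheaf.map i.op a) := rfl

variable (D : (Coh.structureModule X).presheaf ⟶ G.presheaf)

theorem D_map {U V : X.Opens} (i : V ⟶ U) (a : Γ(X, U)) :
    D.app (op V) (OmegaSh.strSect X V (X.presheaf.map i.op a)) =
      G.presheaf.map i.op (D.app (op U) (OmegaSh.strSect X U a)) := by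
  rw [← map_strSect]
  exact congr($(D.naturality i.op) (OmegaSh.strSect X U a))

variable (hD : PrinPart.IsDiffOpLE f (Coh.structureModule X) G 1 D)

include hD in
theorem D_mul (U : X.Opens) (a b : Γ(X, U)) :
    D.app (op U) (OmegaSh.strSect X U (a * b)) =
      a • D.app (op U) (OmegaSh.strSect X U b) + b • D.app (op U) (OmegaSh.strSect X U a) -
        (a * b) • D.app (op U) (OmegaSh.strSect X U 1) := by
  obtain ⟨u, hu⟩ := hD
  have h := dP_one_mul f (Coh.structureModule X) U a b (OmegaSh.strSect X U 1)
  rw [strSect_one_smul, strSect_one_smul, strSect_one_smul] at h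
  rw [hu, hu, hu, hu, h, map_sub, map_add, Scheme.Modules.Hom.app_smul,
    Scheme.Modules.Hom.app_smul, Scheme.Modules.Hom.app_smul]

include hD in
theorem D_base (V : S.Opens) (a : Γ(S, V)) :
    D.app (op (f ⁻¹ᵁ V)) (OmegaSh.strSect X (f ⁻¹ᵁ V) (f.app V a)) =
      f.app V a • D.app (op (f ⁻¹ᵁ V)) (OmegaSh.strSect X (f ⁻¹ᵁ V) 1) := by
  obtain ⟨u, hu⟩ := hD
  have h := dP_base_smul f 1 (Coh.structureModule X) V a (OmegaSh.strSect X (f ⁻¹ᵁ V) 1)
  rw [strSect_one_smul] at h
  rw [hu, hu, h, Scheme.Modules.Hom.app_smul]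

omit hD

/-- the value of `D` on the unit section. -/
noncomputable def D1 (U : X.Opens) : Γ(G, U) := D.app (op U) (OmegaSh.strSect X U 1)

theorem D1_map {U V : X.Opens} (i : V ⟶ U) : G.presheaf.map i.op (D1 G D U) = D1 G D V := by
  unfold D1
  rw [← D_map, map_one]

/-- the linear part. -/
noncomputable def linPart : Coh.structureModule X ⟶ G :=
  G.unitHomEquiv.symm (PresheafOfModules.sectionsMk (fun U => D1 G D U.unop)
    (fun _ _ i => D1_map G D i.unop))

theorem linPart_app_one (U : X.Opens) :
    (linPart G D).app U (OmegaSh.strSect X U 1) = D1 G D U := by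
  have := congrArg (fun τ => τ.val (op U)) (G.unitHomEquiv.apply_symm_apply
    (PresheafOfModules.sectionsMk (fun U => D1 G D U.unop) (fun _ _ i => D1_map G D i.unop)))
  exact this

theorem linPart_app (U : X.Opens) (a : Γ(X, U)) :
    (linPart G D).app U (OmegaSh.strSect X U a) = a • D1 G D U := by
  rw [← strSect_one_smul, Scheme.Modules.Hom.app_smul, linPart_app_one]

/-- a morphism out of the structure sheaf is determined by the images of `1`. -/
theorem hom_ext_one (v v' : Coh.structureModule X ⟶ G)
    (h : ∀ U : X.Opens, v.app U (OmegaSh.strSect X U 1) = v'.app U (OmegaSh.strSect X U 1)) :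
    v = v' := by
  apply G.unitHomEquiv.injective
  ext U
  exact h U.unop

/-- the derivation part on sections. -/
noncomputable def dfun (U : X.Opens) : Γ(X, U) →+ Γ(G, U) :=
  AddMonoidHom.mk' (fun a => D.app (op U) (OmegaSh.strSect X U a) - a • D1 G D U)
    (fun a b => by
      rw [map_add, map_add, add_smul]
      abel)

theorem dfun_apply (U : X.Opens) (a : Γ(X, U)) :
    dfun G D U a = D.app (op U) (OmegaSh.strSect X U a) - a • D1 G D U := rfl

theorem dfun_one (U : X.Opens) : dfun G D U 1 = 0 := by
  rw [dfun_apply, one_smul]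
  exact sub_self _

theorem dfun_mul (hD : PrinPart.IsDiffOpLE f (Coh.structureModule X) G 1 D) (U : X.Opens)
    (a b : Γ(X, U)) : dfun G D U (a * b) = a • dfun G D U b + b • dfun G D U a := by
  rw [dfun_apply, dfun_apply, dfun_apply, D_mul f G D hD, smul_sub, smul_sub, ← mul_smul,
    ← mul_smul, mul_comm b a]
  unfold D1
  abel

theorem dfun_map {U V : X.Opens} (i : V ⟶ U) (a : Γ(X, U)) :
    dfun G D V (X.presheaf.map i.op a) = G.presheaf.map i.op (dfun G D U a) := by
  rw [dfun_apply, dfun_apply, map_sub, ← D1_map G D i, D_map G D i a, Scheme.Modules.map_smul]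

theorem dfun_base (hD : PrinPart.IsDiffOpLE f (Coh.structureModule X) G 1 D) (V : S.Opens)
    (a : Γ(S, V)) : dfun G D (f ⁻¹ᵁ V) (f.app V a) = 0 := by
  rw [dfun_apply, D_base f G D hD]
  exact sub_self _

/-- the derivation part. -/
noncomputable def derPart (hD : PrinPart.IsDiffOpLE f (Coh.structureModule X) G 1 D) :
    OmegaSh.Der f G where
  d {U} := dfun G D U.unop
  d_mul {U} a b := dfun_mul f G D hD U.unop a b
  d_map {_ _} i a := dfun_map G D i.unop a
  d_app {V} a := dfun_base f G D hD V.unop a

theorem derPart_app (hD : PrinPart.IsDiffOpLE f (Coh.structureModule X) G 1 D) (U : X.Opens)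
    (a : Γ(X, U)) : (derPart f G D hD).app U a = dfun G D U a := rfl

/-- an operator of order at most one on the structure sheaf is uniquely a linear map plus a derivation. -/
theorem existsUnique_hom_add_derivation
    (hD : PrinPart.IsDiffOpLE f (Coh.structureModule X) G 1 D) :
    ∃! p : (Coh.structureModule X ⟶ G) × OmegaSh.Der f G,
      ∀ (U : X.Opens) (a : Γ(X, U)),
        D.app (op U) (OmegaSh.strSect X U a) = p.1.app U (OmegaSh.strSect X U a) + p.2.app U a := by
  refine ⟨(linPart G D, derPart f G D hD), ?_, ?_⟩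
  · intro U a
    change _ = (linPart G D).app U (OmegaSh.strSect X U a) + (derPart f G D hD).app U a
    rw [linPart_app, derPart_app, dfun_apply]
    abel
  · rintro ⟨v', d'⟩ h
    have h1 : ∀ U : X.Opens, v'.app U (OmegaSh.strSect X U 1) = D1 G D U := by
      intro U
      have := h U 1
      change _ = v'.app U (OmegaSh.strSect X U 1) + d'.app U 1 at this
      have hd : d'.app U 1 = 0 := PresheafOfModules.Derivation.d_one d' (op U)
      rw [hd, add_zero] at this
      exact this.symm
    have hv : v' = linPart G D := by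
      apply hom_ext_one
      intro U
      rw [h1, linPart_app_one]
    subst hv
    have hd : d' = derPart f G D hD := by
      apply PresheafOfModules.Derivation.ext
      funext U
      ext a
      have := h U.unop a
      change _ = (linPart G D).app U.unop (OmegaSh.strSect X U.unop a) + d'.app U.unop a at this
      change d'.app U.unop a = dfun G D U.unop a
      rw [dfun_apply, this, linPart_app]
      abel
    rw [hd]

end Groth.Agent.Lib.T2H2.PPOrd1b
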