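import Mathlib
import Groth.Prelude.Def_OmegaPn

/-!
# Transition maps between sheaves of principal parts (helper2)

For `j : A ⟶ B`, `p1 p2 : B ⟶ X`, `q1 = j ≫ p1`, `q2 = j ≫ p2` the canonical map
`p1_* p2^* F ⟶ q1_* q2^* F`, and its effect on pulled-back sections.
-/

set_option autoImplicit false
universe u
open CategoryTheory CategoryTheory.Limits AlgebraicGeometry TopologicalSpace Opposite

namespace Groth.Agent.Lib.T2H2.PPTrans

set_option backward.isDefEq.respectTransparency.types false in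
/-- Pulling back in two steps and applying `pullbackComp` is pulling back along the composite. -/
theorem pullbackComp_hom_pullSect {A B X : Scheme.{u}} (j : A ⟶ B) (p : B ⟶ X) (F : X.Modules)
    (U : X.Opens) (t : Γ(F, U)) :
    ((Scheme.Modules.pullbackComp j p).hom.app F).app (j ⁻¹ᵁ p ⁻¹ᵁ U)
        (OmegaSh.pullSect j ((Scheme.Modules.pullback p).obj F) (p ⁻¹ᵁ U)
          (OmegaSh.pullSect p F U t)) =
      OmegaSh.pullSect (j ≫ p) F U t := by
  have h := unit_conjugateEquiv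
    ((Scheme.Modules.pullbackPushforwardAdjunction p).comp
      (Scheme.Modules.pullbackPushforwardAdjunction j))
    (Scheme.Modules.pullbackPushforwardAdjunction (j ≫ p))
    (Scheme.Modules.pullbackComp j p).inv F
  rw [Scheme.Modules.conjugateEquiv_pullbackComp_inv] at h
  rw [Adjunction.comp_unit_app] at h
  have h2 := congr((($h).app U) t)
  have h3 : OmegaSh.pullSect j ((Scheme.Modules.pullback p).obj F) (p ⁻¹ᵁ U)
      (OmegaSh.pullSect p F U t) =
      ((Scheme.Modules.pullbackComp j p).inv.app F).app ((j ≫ p) ⁻¹ᵁ U)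
        (OmegaSh.pullSect (j ≫ p) F U t) := h2
  rw [h3]
  have h4 : ((Scheme.Modules.pullbackComp j p).inv.app F).app ((j ≫ p) ⁻¹ᵁ U) ≫
      ((Scheme.Modules.pullbackComp j p).hom.app F).app ((j ≫ p) ⁻¹ᵁ U) = 𝟙 _ := by
    rw [← Scheme.Modules.Hom.comp_app, Iso.inv_hom_id_app]
    rfl
  exact congr(($h4) (OmegaSh.pullSect (j ≫ p) F U t))


/-- The canonical map `p1_* p2^* F ⟶ q1_* q2^* F` for `q1 = j ≫ p1`, `q2 = j ≫ p2`. -/
noncomputable def transHom {A B X : Scheme.{u}} (j : A ⟶ B) (p1 p2 : B ⟶ X) (q1 q2 : A ⟶ X)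
    (h1 : j ≫ p1 = q1) (h2 : j ≫ p2 = q2) (F : X.Modules) :
    (Scheme.Modules.pushforward p1).obj ((Scheme.Modules.pullback p2).obj F) ⟶
      (Scheme.Modules.pushforward q1).obj ((Scheme.Modules.pullback q2).obj F) := by
  subst h1 h2
  exact (Scheme.Modules.pushforward p1).map
      ((Scheme.Modules.pullbackPushforwardAdjunction j).unit.app _) ≫
    (Scheme.Modules.pushforwardComp j p1).hom.app _ ≫
    (Scheme.Modules.pushforward (j ≫ p1)).map ((Scheme.Modules.pullbackComp j p2).hom.app F)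

set_option backward.isDefEq.respectTransparency.types false in
theorem transHom_app {A B X : Scheme.{u}} (j : A ⟶ B) (p1 p2 : B ⟶ X) (q1 q2 : A ⟶ X)
    (h1 : j ≫ p1 = q1) (h2 : j ≫ p2 = q2) (F : X.Modules) (U : X.Opens) (t : Γ(F, U))
    (e1 : p1 ⁻¹ᵁ U = p2 ⁻¹ᵁ U) (e2 : q1 ⁻¹ᵁ U = q2 ⁻¹ᵁ U) :
    (transHom j p1 p2 q1 q2 h1 h2 F).app U
        (((Scheme.Modules.pullback p2).obj F).presheaf.map (homOfLE e1.le).op
          (OmegaSh.pullSect p2 F U t)) =
      ((Scheme.Modules.pullback q2).obj F).presheaf.map (homOfLE e2.le).op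
        (OmegaSh.pullSect q2 F U t) := by
  subst h1 h2
  have e3 : j ⁻¹ᵁ p1 ⁻¹ᵁ U ≤ j ⁻¹ᵁ p2 ⁻¹ᵁ U := j.preimage_mono e1.le
  have hA : OmegaSh.pullSect j ((Scheme.Modules.pullback p2).obj F) (p1 ⁻¹ᵁ U)
      (((Scheme.Modules.pullback p2).obj F).presheaf.map (homOfLE e1.le).op
          (OmegaSh.pullSect p2 F U t)) =
      ((Scheme.Modules.pullback j).obj ((Scheme.Modules.pullback p2).obj F)).presheaf.map
        (homOfLE e3).op
        (OmegaSh.pullSect j ((Scheme.Modules.pullback p2).obj F) (p2 ⁻¹ᵁ U)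
          (OmegaSh.pullSect p2 F U t)) :=
    OmegaSh.pullSect_map j _ e1.le _
  have hB : ∀ x, ((Scheme.Modules.pullbackComp j p2).hom.app F).app (j ⁻¹ᵁ p1 ⁻¹ᵁ U)
      (((Scheme.Modules.pullback j).obj ((Scheme.Modules.pullback p2).obj F)).presheaf.map
        (homOfLE e3).op x) =
      ((Scheme.Modules.pullback (j ≫ p2)).obj F).presheaf.map (homOfLE e3).op
        (((Scheme.Modules.pullbackComp j p2).hom.app F).app (j ⁻¹ᵁ p2 ⁻¹ᵁ U) x) := by
    intro x
    exact congr($((Scheme.Modules.Hom.mapPresheaf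
      ((Scheme.Modules.pullbackComp j p2).hom.app F)).naturality (homOfLE e3).op) x)
  change ((Scheme.Modules.pullbackComp j p2).hom.app F).app (j ⁻¹ᵁ p1 ⁻¹ᵁ U)
    (OmegaSh.pullSect j ((Scheme.Modules.pullback p2).obj F) (p1 ⁻¹ᵁ U) _) = _
  rw [hA, hB, pullbackComp_hom_pullSect]
  rfl

end Groth.Agent.Lib.T2H2.PPTrans
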