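import Mathlib
import Groth.Agent.Lib.T2H2PCSrcE
import Groth.Agent.Lib.T2H7FtdOpen
import Groth.Agent.Lib.T2H7PerfLocal

/-!
# Perfect morphisms are fppf local on the source (helper2, team 2)

Namespace `Groth.Agent.Lib.T2H2.PerfSrc`.

* `hasTorDimLE_of_faithfullyFlat`: if `R → A → B` with `B` faithfully flat over `A` and `B` has
  tor dimension `≤ d` over `R`, then so has `A`.
* `qftd_of_comp_faithfullyFlat`: ring-hom form.
* `perfMor_of_fppf_cover_source`: perfect morphisms descend along fppf covers of the source.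
-/

set_option autoImplicit false
universe u

namespace Groth.Agent.Lib.T2H2.PerfSrc

open AlgebraicGeometry CategoryTheory Limits TensorProduct
open Groth.Agent.Lib.T2H7.PCLocal Groth.Agent.Lib.T2H7.PerfLocal Groth.Agent.Lib.Helper1.TorDim

section Ring

variable {R A B : Type u} [CommRing R] [CommRing A] [CommRing B] [Algebra R A] [Algebra A B]
  [Algebra R B] [IsScalarTower R A B]

theorem exact_lTensor_of_faithfullyFlat [Module.FaithfullyFlat A B] {X Y Z : Type u}
    [AddCommGroup X] [Module R X] [AddCommGroup Y] [Module R Y] [AddCommGroup Z] [Module R Z]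
    (f : X →ₗ[R] Y) (g : Y →ₗ[R] Z)
    (H : Function.Exact (f.lTensor B) (g.lTensor B)) :
    Function.Exact (f.lTensor A) (g.lTensor A) := by
  have key : Function.Exact (AlgebraTensorModule.lTensor A A f)
      (AlgebraTensorModule.lTensor A A g) := by
    rw [← Module.FaithfullyFlat.lTensor_exact_iff_exact (R := A) (M := B)]
    refine (Function.Exact.iff_of_ladder_linearEquiv
      (e₁ := (AlgebraTensorModule.cancelBaseChange R A A B X).restrictScalars A)
      (e₂ := (AlgebraTensorModule.cancelBaseChange R A A B Y).restrictScalars A)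
      (e₃ := (AlgebraTensorModule.cancelBaseChange R A A B Z).restrictScalars A)
      (f₁₂ := (AlgebraTensorModule.lTensor A A f).lTensor B)
      (f₂₃ := (AlgebraTensorModule.lTensor A A g).lTensor B)
      (g₁₂ := (AlgebraTensorModule.lTensor A B f))
      (g₂₃ := (AlgebraTensorModule.lTensor A B g)) ?_ ?_).mp ?_
    · ext b a
      simp
    · ext b a
      simp
    · exact H
  exact key

theorem hasTorDimLE_of_faithfullyFlat [Module.FaithfullyFlat A B] (d : ℕ)
    (h : DRing.HasTorDimLE R d B) : DRing.HasTorDimLE R d A := by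
  intro N _ _ p hp
  obtain ⟨q, rfl⟩ : ∃ q, p = q + 1 := ⟨p - 1, by omega⟩
  let P := ProjectiveResolution.of (ModuleCat.of R N)
  rw [subsingleton_tor_iff A N P q]
  exact exact_lTensor_of_faithfullyFlat (A := A) (B := B) _ _
    ((subsingleton_tor_iff B N P q).1 (h N (q + 1) hp))

theorem qftd_of_comp_faithfullyFlat {R A B : Type u} [CommRing R] [CommRing A] [CommRing B]
    (φ : R →+* A) (ψ : A →+* B) (hψ : ψ.FaithfullyFlat) (h : Qftd (ψ.comp φ)) : Qftd φ := by
  algebraize [φ, ψ, ψ.comp φ]
  have : Module.FaithfullyFlat A B := hψ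
  have h' : DRing.HasFiniteTorDim R B := (qftd_algebraMap_iff R B).mp h
  obtain ⟨d, hd⟩ := h'
  exact (qftd_algebraMap_iff R A).mpr ⟨d, hasTorDimLE_of_faithfullyFlat (A := A) (B := B) d hd⟩

end Ring

section Sch

open Groth.Agent.Lib.T2H2.PCSrc

/-- **Perfect morphisms descend along fppf covers of the source.** -/
theorem perfMor_of_fppf_cover_source {X' X S : Scheme.{u}} (a : X' ⟶ X) (f : X ⟶ S) [Flat a]
    [Surjective a] [LocallyOfFinitePresentation a] (h : MoreMor.IsPerfectMor (a ≫ f)) :
    MoreMor.IsPerfectMor f := by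
  have hpc' : MoreMor.IsPseudoCoherentMor (a ≫ f) := ppc_of_perfMor _ h
  have hpc : MoreMor.IsPseudoCoherentMor f := ppc_of_fppf_cover_source a f hpc'
  rw [Groth.Agent.Lib.T2H7.FtdOpen.perfMor_iff_stalk f hpc]
  intro x
  obtain ⟨x', rfl⟩ := a.surjective x
  have h1 := (Groth.Agent.Lib.T2H7.FtdOpen.perfMor_iff_stalk (a ≫ f) hpc').1 h x'
  rw [Scheme.Hom.stalkMap_comp] at h1
  refine qftd_of_comp_faithfullyFlat (f.stalkMap (a x')).hom (a.stalkMap x').hom ?_ h1
  have hfl : (a.stalkMap x').hom.Flat := Flat.stalkMap a x'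
  algebraize [(a.stalkMap x').hom]
  have : Module.Flat (X.presheaf.stalk (a x')) (X'.presheaf.stalk x') := hfl
  have : IsLocalHom (algebraMap (X.presheaf.stalk (a x')) (X'.presheaf.stalk x')) := by
    rw [RingHom.algebraMap_toAlgebra]
    infer_instance
  exact Module.FaithfullyFlat.of_flat_of_isLocalHom

end Sch

end Groth.Agent.Lib.T2H2.PerfSrc
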