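import Mathlib

set_option autoImplicit false
universe u v

namespace Groth.Agent.Lib.T2H2.PicPow

open TensorProduct

section Alt
variable {R : Type u} [CommRing R] {N : Type v} [AddCommGroup N] [Module R N] [Module.Invertible R N]

lemma dual_swap (ξ : Module.Dual R N) (a b : N) : ξ a • b = ξ b • a := by
  have h := Module.Invertible.tmul_comm (R := R) (m₁ := a) (m₂ := b)
  have h2 := congrArg (fun z => TensorProduct.lid R N (LinearMap.rTensor N ξ z)) h
  simpa using h2

lemma span_dual_eval_eq_top :
    Ideal.span {r : R | ∃ (ξ : Module.Dual R N) (x : N), r = ξ x} = ⊤ := by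
  rw [Ideal.eq_top_iff_one]
  obtain ⟨z, h1⟩ := (Module.Invertible.bijective (R := R) (M := N)).2 1
  rw [← h1]
  clear h1
  induction z using TensorProduct.induction_on with
  | zero => simp
  | tmul ξ x => 
    rw [contractLeft_apply]
    exact Ideal.subset_span ⟨ξ, x, rfl⟩
  | add a b ha hb => rw [map_add]; exact Ideal.add_mem _ ha hb

lemma bilin_alt_eq_zero (β : N →ₗ[R] N →ₗ[R] R) (h : ∀ a, β a a = 0) (a b : N) : β a b = 0 := by
  let J : Ideal R := (Ideal.span {β a b}).annihilator
  have hJ : ∀ r : R, r ∈ J ↔ r * β a b = 0 := by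
    intro r
    simp only [J, Submodule.mem_annihilator_span_singleton, smul_eq_mul]
  have hrad : J.radical = ⊤ := by
    rw [eq_top_iff, ← span_dual_eval_eq_top (R := R) (N := N), Ideal.span_le]
    rintro r ⟨ξ, x, rfl⟩
    refine ⟨2, ?_⟩
    rw [hJ]
    have e1 : ξ x * β a b = ξ a * β x b := by
      rw [← smul_eq_mul, ← LinearMap.smul_apply, ← map_smul, dual_swap ξ x a, map_smul,
        LinearMap.smul_apply, smul_eq_mul]
    have e2 : ξ x * β x b = ξ b * β x x := by
      rw [← smul_eq_mul, ← map_smul, dual_swap ξ x b, map_smul, smul_eq_mul]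
    calc ξ x ^ 2 * β a b = ξ x * (ξ x * β a b) := by ring
      _ = ξ a * (ξ x * β x b) := by rw [e1]; ring
      _ = 0 := by rw [e2, h]; ring
  have : J = ⊤ := by
    rw [Ideal.eq_top_iff_one]
    have h1 : (1 : R) ∈ J.radical := by rw [hrad]; trivial
    obtain ⟨n, hn⟩ := h1
    simpa using hn
  have h1 : (1 : R) ∈ J := by rw [this]; trivial
  simpa [hJ] using h1

end Alt

section Main
variable {R : Type u} [CommRing R] {N : Type v} [AddCommGroup N] [Module R N] [Module.Invertible R N]
  {n : ℕ} (e : (Fin n → N) ≃ₗ[R] (Fin n → R))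

/-- the map `N → R^n` through the `j`-th slot -/
noncomputable def slot (j : Fin n) : N →ₗ[R] (Fin n → R) :=
  e.toLinearMap ∘ₗ LinearMap.single R (fun _ : Fin n => N) j

/-- the determinant multilinear form -/
noncomputable def D : MultilinearMap R (fun _ : Fin n => N) R :=
  (Matrix.detRowAlternating (R := R) (n := Fin n)).toMultilinearMap.compLinearMap
    (fun j => slot e j)

omit [Module.Invertible R N] in
lemma D_apply (x : Fin n → N) :
    D e x = Matrix.detRowAlternating (R := R) (n := Fin n) (fun j => slot e j (x j)) := rfl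

lemma det_eq_zero_of_same_slot (m : Fin n → (Fin n → R)) (i i' : Fin n) (hne : i ≠ i') (j : Fin n)
    (a b : N) (hi : m i = slot e j a) (hi' : m i' = slot e j b) :
    Matrix.detRowAlternating (R := R) (n := Fin n) m = 0 := by
  classical
  let F := (Matrix.detRowAlternating (R := R) (n := Fin n))
  let β : N →ₗ[R] N →ₗ[R] R := LinearMap.mk₂ R
    (fun a b => F (Function.update (Function.update m i (slot e j a)) i' (slot e j b)))
    (by
      intro a₁ a₂ b
      simp only [Function.update_comm hne, map_add]
      rw [AlternatingMap.map_update_add])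
    (by
      intro c a b
      simp only [Function.update_comm hne, map_smul]
      rw [AlternatingMap.map_update_smul])
    (by
      intro a b₁ b₂
      simp only [map_add]
      rw [AlternatingMap.map_update_add])
    (by
      intro c a b
      simp only [map_smul]
      rw [AlternatingMap.map_update_smul])
  have hβ : ∀ a, β a a = 0 := by
    intro a
    simp only [β, LinearMap.mk₂_apply]
    refine AlternatingMap.map_eq_zero_of_eq F _ ?_ hne
    simp [Function.update_of_ne hne]
  have h0 := bilin_alt_eq_zero β hβ a b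
  simp only [β, LinearMap.mk₂_apply] at h0
  rw [← hi, ← hi', Function.update_eq_self, Function.update_eq_self] at h0
  exact h0

lemma one_mem_range_lift :
    (1 : R) ∈ LinearMap.range (PiTensorProduct.lift (D e)) := by
  classical
  let F := (Matrix.detRowAlternating (R := R) (n := Fin n))
  let y : Fin n → (Fin n → N) := fun i => e.symm (Pi.single i 1)
  have hy : ∀ i, (Pi.single i 1 : Fin n → R) = ∑ j, slot e j (y i j) := by
    intro i
    have h1 : e (y i) = Pi.single i 1 := e.apply_symm_apply _
    rw [← h1]
    conv_lhs => rw [← Finset.univ_sum_single (y i)]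
    rw [map_sum]
    rfl
  have h1 : (1 : R) = F (fun i => ∑ j, slot e j (y i j)) := by
    have : (fun i => ∑ j, slot e j (y i j)) = (1 : Matrix (Fin n) (Fin n) R) := by
      funext i
      rw [← hy i]
      funext k
      simp [Matrix.one_apply, Pi.single_apply, eq_comm]
    rw [this]
    exact (Matrix.det_one).symm
  rw [h1]
  have h2 := MultilinearMap.map_sum F.toMultilinearMap (fun i j => slot e j (y i j))
  simp only [AlternatingMap.coe_multilinearMap] at h2
  rw [h2]
  refine Submodule.sum_mem _ ?_
  intro r _
  by_cases hr : Function.Injective r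
  · have hb : Function.Bijective r := Finite.injective_iff_bijective.1 hr
    let σ : Equiv.Perm (Fin n) := Equiv.ofBijective r hb
    let x : Fin n → N := fun j => y (σ.symm j) j
    have hx : (fun i => slot e (r i) (y i (r i))) = (fun j => slot e j (x j)) ∘ σ := by
      funext i
      simp only [Function.comp_apply, x]
      have : σ i = r i := rfl
      rw [this]
      have h3 : σ.symm (r i) = i := by rw [← this]; exact σ.symm_apply_apply i
      rw [h3]
    rw [hx, AlternatingMap.map_perm, Units.smul_def]
    refine zsmul_mem ?_ _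
    refine ⟨PiTensorProduct.tprod R x, ?_⟩
    rw [PiTensorProduct.lift.tprod]
    rfl
  · have : ∃ i i', i ≠ i' ∧ r i = r i' := by
      by_contra hcon
      push Not at hcon
      apply hr
      intro i i' h
      by_contra hne
      exact hcon i i' hne h
    obtain ⟨i, i', hne, hii⟩ := this
    rw [det_eq_zero_of_same_slot e _ i i' hne (r i) (y i (r i)) (y i' (r i')) rfl (by rw [hii])]
    exact Submodule.zero_mem _

end Main

section TPow
open scoped TensorProduct
variable (R : Type u) [CommRing R] (N : Type v) [AddCommGroup N] [Module R N]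

/-- `N^{⊗(n+1)} ≃ N^{⊗n} ⊗ N` -/
noncomputable def tpowSuccEquiv (n : ℕ) : (⨂[R]^(n + 1) N) ≃ₗ[R] (⨂[R]^n N) ⊗[R] N :=
  (TensorPower.mulEquiv (R := R) (M := N) (n := n) (m := 1)).symm ≪≫ₗ
    TensorProduct.congr (LinearEquiv.refl R _)
      (PiTensorProduct.subsingletonEquiv (R := R) (s := fun _ : Fin 1 => N) (0 : Fin 1))

variable [Module.Invertible R N]

theorem invertible_tpow (n : ℕ) : Module.Invertible R (⨂[R]^n N) := by
  induction n with
  | zero => exact Module.Invertible.congr (PiTensorProduct.isEmptyEquiv (R := R) (s := fun _ : Fin 0 => N) (Fin 0)).symm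
  | succ n ih =>
    have := ih
    exact Module.Invertible.congr (tpowSuccEquiv R N n).symm

instance (n : ℕ) : Module.Invertible R (⨂[R]^n N) := invertible_tpow R N n

theorem mk_tpow (n : ℕ) : CommRing.Pic.mk R (⨂[R]^n N) = CommRing.Pic.mk R N ^ n := by
  induction n with
  | zero =>
    rw [pow_zero, CommRing.Pic.mk_eq_one_iff]
    exact ⟨PiTensorProduct.isEmptyEquiv (R := R) (s := fun _ : Fin 0 => N) (Fin 0)⟩
  | succ n ih =>
    rw [pow_succ, ← ih, ← CommRing.Pic.mk_tensor, CommRing.Pic.mk_eq_mk_iff]
    exact ⟨tpowSuccEquiv R N n⟩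

theorem mk_pow_eq_one {n : ℕ} (e : (Fin n → N) ≃ₗ[R] (Fin n → R)) :
    CommRing.Pic.mk R N ^ n = 1 := by
  rw [← mk_tpow, CommRing.Pic.mk_eq_one_iff]
  have hsurj : Function.Surjective (PiTensorProduct.lift (D e)) := by
    rw [← LinearMap.range_eq_top]
    exact (Ideal.eq_top_iff_one _).2 (one_mem_range_lift e)
  exact ⟨LinearEquiv.ofBijective _ (Module.Invertible.bijective_of_surjective hsurj)⟩

end TPow

end Groth.Agent.Lib.T2H2.PicPow
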