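import Mathlib
import Groth.Prelude.Def_OmegaPn
import Groth.Agent.Lib.T2H2InfNbhdFinSch

set_option autoImplicit false
set_option linter.style.haveILetI false
universe u
open CategoryTheory CategoryTheory.Limits AlgebraicGeometry TopologicalSpace Opposite

namespace Groth.Agent.Lib.T2H2.Pr1Finite

/-- The first projection from the `n`-th infinitesimal neighbourhood of the diagonal of a morphism locally
of finite type is a finite morphism. -/
theorem isFinite_pr1 {X S : Scheme.{u}} (f : X ⟶ S) [LocallyOfFiniteType f] (n : ℕ) :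
    IsFinite (PrinPart.pr1 f n) := by
  have h : PrinPart.pr1 f n = PrinPart.infNbhdι (PrinPart.diagCl f) n ≫
      ((pullback.diagonal f).coborderRange.ι ≫ pullback.fst f f) := by
    simp [PrinPart.pr1, PrinPart.nbhdι]
  rw [h]
  refine Groth.Agent.Lib.T2H2.InfNbhdFinSch.isFinite_infNbhdι_comp _ (PrinPart.diagCl f) ?_ n
  rw [← Category.assoc, Scheme.Hom.liftCoborder_ι]
  simp

end Groth.Agent.Lib.T2H2.Pr1Finite
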