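import Mathlib
import Groth.Prelude.Def_OmegaPn
import Groth.Agent.Lib.Helper6LfpComp
import Groth.Agent.Lib.Helper6ClosedLfp
import Groth.Agent.Lib.Helper22FTLimit

set_option autoImplicit false
set_option linter.style.haveILetI false
universe u
open CategoryTheory CategoryTheory.Limits AlgebraicGeometry TopologicalSpace Opposite

namespace Groth.Agent.Lib.T2H2.Pr1LFP

/-- A section of a morphism locally of finite type is locally of finite presentation. -/
theorem lfp_of_section {X Y : Scheme.{u}} (g : X ⟶ Y) [LocallyOfFiniteType g] (f : Y ⟶ X)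
    (hf : f ≫ g = 𝟙 Y) : LocallyOfFinitePresentation f := by
  refine Groth.Agent.Lib.Helper6.locallyOfFinitePresentation_of_comp (g := g) inferInstance ?_
  rw [hf]
  infer_instance

/-- The inclusion of the infinitesimal neighbourhoods of a finitely presented closed immersion are
locally of finite presentation. -/
theorem lfp_infNbhdι {X Y : Scheme.{u}} (i : Y ⟶ X) [IsClosedImmersion i]
    [LocallyOfFinitePresentation i] (n : ℕ) :
    LocallyOfFinitePresentation (PrinPart.infNbhdι i n) := by
  unfold PrinPart.infNbhdι
  refine Groth.Agent.Lib.Helper22.FTLimit.locallyOfFinitePresentation_subschemeι _ ?_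
  intro U
  have h1 := (Groth.Agent.Lib.Helper6.locallyOfFinitePresentation_iff_ker_fg_of_isClosedImmersion
    i).mp inferInstance U
  rw [Scheme.IdealSheafData.ideal_pow, Pi.pow_apply, Scheme.Hom.ker_apply]
  exact h1.pow

theorem lfp_pr1 {X S : Scheme.{u}} (f : X ⟶ S) [LocallyOfFinitePresentation f] (n : ℕ) :
    LocallyOfFinitePresentation (PrinPart.pr1 f n) := by
  have h : PrinPart.pr1 f n = PrinPart.infNbhdι (PrinPart.diagCl f) n ≫
      ((pullback.diagonal f).coborderRange.ι ≫ pullback.fst f f) := by
    simp [PrinPart.pr1, PrinPart.nbhdι]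
  rw [h]
  haveI : LocallyOfFinitePresentation (PrinPart.diagCl f) := by
    refine lfp_of_section ((pullback.diagonal f).coborderRange.ι ≫ pullback.fst f f) _ ?_
    rw [← Category.assoc, Scheme.Hom.liftCoborder_ι]
    simp
  haveI := lfp_infNbhdι (PrinPart.diagCl f) n
  infer_instance

end Groth.Agent.Lib.T2H2.Pr1LFP
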