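import Mathlib
import Groth.Agent.Lib.T2H2CxKill
import Groth.Agent.Lib.T2H2LTenIdeal
set_option backward.isDefEq.respectTransparency.types false

/-!
# Chain level constructions for the pro-isomorphism `K ⊗^L A/I^n ⟶ K/I^n K` (helper2)
-/

set_option autoImplicit false
set_option maxHeartbeats 400000
universe u
open CategoryTheory CategoryTheory.Limits MonoidalCategory HomologicalComplex
attribute [local instance] HasDerivedCategory.standard

namespace Groth.Agent.Lib.T2H2.ProIso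

open DerivedCategory Groth.Agent.Lib.Helper1.KF Groth.Agent.Lib.Helper1.DT
open Groth.Agent.Lib.T2H2.Kill Groth.Agent.Lib.T2H2.CxKill Groth.Agent.Lib.T2H2.LTenIdeal

variable {A : Type u} [CommRing A]

/-! ### functoriality of the termwise tensor product -/

/-- `Y ⊗ F^n ⟶ Y ⊗ K^n` -/
noncomputable def TCxR (Y : ModuleCat.{u} A) {F K : Cx A} (π : F ⟶ K) : TCx Y F ⟶ TCx Y K :=
  ((tensorLeft Y).mapHomologicalComplex (ComplexShape.up ℤ)).map π

@[simp]
lemma TCxR_f (Y : ModuleCat.{u} A) {F K : Cx A} (π : F ⟶ K) (n : ℤ) :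
    (TCxR Y π).f n = Y ◁ π.f n := rfl

lemma TCxMap_id (Y : ModuleCat.{u} A) (L : Cx A) : TCxMap (𝟙 Y) L = 𝟙 _ := by
  refine HomologicalComplex.hom_ext _ _ (fun n => ?_)
  rw [TCxMap_f, id_whiskerRight]
  rfl

lemma TCxMap_comp {Y Y' Y'' : ModuleCat.{u} A} (φ : Y ⟶ Y') (ψ : Y' ⟶ Y'') (L : Cx A) :
    TCxMap (φ ≫ ψ) L = TCxMap φ L ≫ TCxMap ψ L := by
  refine HomologicalComplex.hom_ext _ _ (fun n => ?_)
  rw [HomologicalComplex.comp_f, TCxMap_f, TCxMap_f, TCxMap_f, comp_whiskerRight]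
  rfl

lemma TCxMap_TCxR {Y Y' : ModuleCat.{u} A} (φ : Y ⟶ Y') {F K : Cx A} (π : F ⟶ K) :
    TCxMap φ F ≫ TCxR Y' π = TCxR Y π ≫ TCxMap φ K := by
  refine HomologicalComplex.hom_ext _ _ (fun n => ?_)
  rw [HomologicalComplex.comp_f, HomologicalComplex.comp_f, TCxMap_f, TCxMap_f, TCxR_f, TCxR_f]
  exact (whisker_exchange φ (π.f n)).symm

lemma TCxMap_smul (f : A) (Y : ModuleCat.{u} A) (L : Cx A) :
    TCxMap (f • 𝟙 Y) L = f • 𝟙 (TCx Y L) := by
  refine HomologicalComplex.hom_ext _ _ (fun n => ?_)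
  rw [TCxMap_f, HomologicalComplex.smul_f_apply, HomologicalComplex.id_f,
    MonoidalLinear.smul_whiskerRight, id_whiskerRight]
  rfl

/-- `A ⊗ L ≅ L` termwise -/
noncomputable def unitorCx (L : Cx A) : TCx (ModuleCat.of A A) L ≅ L :=
  HomologicalComplex.Hom.isoOfComponents (fun n => λ_ (L.X n)) (fun i j _ => by
    exact (leftUnitor_naturality (L.d i j)).symm)

@[simp]
lemma unitorCx_hom_f (L : Cx A) (n : ℤ) : (unitorCx L).hom.f n = (λ_ (L.X n)).hom := rfl

lemma unitorCx_naturality {F K : Cx A} (π : F ⟶ K) :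
    TCxR (ModuleCat.of A A) π ≫ (unitorCx K).hom = (unitorCx F).hom ≫ π := by
  refine HomologicalComplex.hom_ext _ _ (fun n => ?_)
  rw [HomologicalComplex.comp_f, HomologicalComplex.comp_f, unitorCx_hom_f, unitorCx_hom_f, TCxR_f]
  exact leftUnitor_naturality (π.f n)

/-! ### the quotient `L ⟶ A/J ⊗ L` and its kernel `J • L` -/

/-- the quotient module `A/J` -/
abbrev quo (J : Ideal A) : ModuleCat.{u} A := ModuleCat.of A (A ⧸ J)

/-- the projection `A ⟶ A/J` -/
abbrev quoπ (J : Ideal A) : ModuleCat.of A A ⟶ quo J := ModuleCat.ofHom (Submodule.mkQ J)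

/-- the transition map `A/J' ⟶ A/J` -/
abbrev qMap {J' J : Ideal A} (h : J' ≤ J) : quo J' ⟶ quo J := ModuleCat.ofHom (Submodule.factor h)

lemma quoπ_qMap {J' J : Ideal A} (h : J' ≤ J) : quoπ J' ≫ qMap h = quoπ J := rfl

lemma qMap_comp {J'' J' J : Ideal A} (h' : J'' ≤ J') (h : J' ≤ J) :
    qMap h' ≫ qMap h = qMap (h'.trans h) := by
  apply ModuleCat.hom_ext
  apply LinearMap.ext
  intro x
  obtain ⟨a, rfl⟩ := Submodule.mkQ_surjective J'' x
  rfl

/-- the projection `L ⟶ A/J ⊗ L` -/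
noncomputable def toQuot (J : Ideal A) (L : Cx A) : L ⟶ TCx (quo J) L :=
  (unitorCx L).inv ≫ TCxMap (quoπ J) L

lemma toQuot_qMap {J' J : Ideal A} (h : J' ≤ J) (L : Cx A) :
    toQuot J' L ≫ TCxMap (qMap h) L = toQuot J L := by
  rw [toQuot, Category.assoc, ← TCxMap_comp, quoπ_qMap]
  rfl

lemma toQuot_naturality (J : Ideal A) {F K : Cx A} (π : F ⟶ K) :
    TCxMap (quoπ J) F ≫ TCxR (quo J) π = ((unitorCx F).hom ≫ π) ≫ toQuot J K := by
  rw [toQuot, TCxMap_TCxR, ← unitorCx_naturality π]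
  simp only [Category.assoc, Iso.hom_inv_id_assoc]

lemma toQuot_apply (J : Ideal A) (L : Cx A) (i : ℤ) (x : L.X i) :
    ((toQuot J L).f i).hom x = ((1 : A ⧸ J) ⊗ₜ[A] x : TensorProduct A (A ⧸ J) (L.X i)) := rfl

lemma toQuot_apply_eq_zero_iff (J : Ideal A) (L : Cx A) (i : ℤ) (x : L.X i) :
    ((toQuot J L).f i).hom x = 0 ↔ x ∈ J • (⊤ : Submodule A (L.X i)) := by
  refine (show ((1 : A ⧸ J) ⊗ₜ[A] x : TensorProduct A (A ⧸ J) (L.X i)) = 0 ↔ _ from ?_)
  have h1 := LinearMap.congr_fun (TensorProduct.quotTensorEquivQuotSMul_comp_mk (M := L.X i) J) x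
  have h2 : TensorProduct.quotTensorEquivQuotSMul (L.X i) J ((1 : A ⧸ J) ⊗ₜ[A] x) =
      Submodule.Quotient.mk x := h1
  constructor
  · intro h
    rw [h, map_zero] at h2
    exact (Submodule.Quotient.mk_eq_zero _).1 h2.symm
  · intro h
    apply (TensorProduct.quotTensorEquivQuotSMul (L.X i) J).injective
    rw [h2, map_zero]
    exact (Submodule.Quotient.mk_eq_zero _).2 h

lemma toQuot_surjective (J : Ideal A) (L : Cx A) (i : ℤ) :
    Function.Surjective ((toQuot J L).f i).hom := by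
  intro y
  obtain ⟨x, hx⟩ := Submodule.mkQ_surjective _ (TensorProduct.quotTensorEquivQuotSMul (L.X i) J y)
  refine ⟨x, ?_⟩
  apply (TensorProduct.quotTensorEquivQuotSMul (L.X i) J).injective
  rw [← hx, toQuot_apply]
  exact LinearMap.congr_fun (TensorProduct.quotTensorEquivQuotSMul_comp_mk (M := L.X i) J) x

/-- the short complex `J • L ⟶ L ⟶ A/J ⊗ L` -/
noncomputable def quotSC (J : Ideal A) (L : Cx A) : ShortComplex (Cx A) :=
  ShortComplex.mk (smulCxι J L) (toQuot J L) (by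
    refine HomologicalComplex.hom_ext _ _ (fun i => ?_)
    apply ModuleCat.hom_ext
    apply LinearMap.ext
    intro x
    exact (toQuot_apply_eq_zero_iff J L i _).2 (smulCxι_mem J L i x))

lemma quotSC_shortExact (J : Ideal A) (L : Cx A) : (quotSC J L).ShortExact := by
  apply HomologicalComplex.shortExact_of_degreewise_shortExact
  intro i
  refine ShortComplex.ShortExact.mk' ?_ ?_ ?_
  · have key : ∀ x : L.X i, ((toQuot J L).f i).hom x = 0 →
        ∃ y : (smulCx J L).X i, ((smulCxι J L).f i).hom y = x := fun x hx =>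
      ⟨⟨x, (toQuot_apply_eq_zero_iff J L i x).1 hx⟩, rfl⟩
    rw [ShortComplex.moduleCat_exact_iff]
    intro x hx
    exact key x hx
  · rw [ModuleCat.mono_iff_injective]
    exact smulCxι_injective J L i
  · rw [ModuleCat.epi_iff_surjective]
    exact toQuot_surjective J L i

/-! ### functoriality in the ideal -/

/-- `J' • L ⟶ J • L` for `J' ≤ J` -/
def smulCxIncl {J' J : Ideal A} (h : J' ≤ J) (L : Cx A) : smulCx J' L ⟶ smulCx J L :=
  smulCxLift J L (smulCxι J' L) (fun i x => Submodule.smul_mono_left h (smulCxι_mem J' L i x))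

lemma smulCxIncl_ι {J' J : Ideal A} (h : J' ≤ J) (L : Cx A) :
    smulCxIncl h L ≫ smulCxι J L = smulCxι J' L := smulCxLift_ι _ _ _ _

/-- the morphism of short complexes `quotSC J' L ⟶ quotSC J L` -/
noncomputable def quotSCMap {J' J : Ideal A} (h : J' ≤ J) (L : Cx A) : quotSC J' L ⟶ quotSC J L where
  τ₁ := smulCxIncl h L
  τ₂ := 𝟙 _
  τ₃ := TCxMap (qMap h) L
  comm₁₂ := by
    show smulCxIncl h L ≫ smulCxι J L = smulCxι J' L ≫ 𝟙 _
    rw [smulCxIncl_ι, Category.comp_id]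
  comm₂₃ := by
    show 𝟙 _ ≫ toQuot J L = toQuot J' L ≫ TCxMap (qMap h) L
    rw [toQuot_qMap, Category.id_comp]

/-- the inclusion `J' ⟶ J` of ideals as modules -/
abbrev idealIncl {J' J : Ideal A} (h : J' ≤ J) : ModuleCat.of A ↥J' ⟶ ModuleCat.of A ↥J :=
  ModuleCat.ofHom (Submodule.inclusion h)

/-- the morphism of short complexes `(J' ⟶ A ⟶ A/J') ⊗ F ⟶ (J ⟶ A ⟶ A/J) ⊗ F` -/
noncomputable def scTCxMap {J' J : Ideal A} (h : J' ≤ J) (F : Cx A) :
    scTCx (idealSC J') F ⟶ scTCx (idealSC J) F where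
  τ₁ := TCxMap (idealIncl h) F
  τ₂ := 𝟙 _
  τ₃ := TCxMap (qMap h) F
  comm₁₂ := by
    show TCxMap (idealIncl h) F ≫ TCxMap (ModuleCat.ofHom J.subtype) F =
      TCxMap (ModuleCat.ofHom J'.subtype) F ≫ 𝟙 _
    rw [Category.comp_id, ← TCxMap_comp]
    rfl
  comm₂₃ := by
    show 𝟙 _ ≫ TCxMap (quoπ J) F = TCxMap (quoπ J') F ≫ TCxMap (qMap h) F
    rw [Category.id_comp, ← TCxMap_comp]
    rfl

/-! ### the kill system `Y ↦ Hom(Q(Y ⊗ F), C)` for termwise flat `F` -/

/-- the kill system of `Y ↦ Y ⊗ F` with values in `C` -/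
noncomputable def tcxKill (F : Cx A) (hF : ∀ n, Module.Flat A (F.X n))
    (C : DerivedCategory (ModuleCat.{u} A)) : KillSys A where
  Z {X Y} φ := ZC C (TCxMap φ F)
  zero X Y := by
    have : TCxMap (0 : X ⟶ Y) F = 0 := by
      refine HomologicalComplex.hom_ext _ _ (fun n => ?_)
      rw [TCxMap_f, MonoidalPreadditive.zero_whiskerRight]
      rfl
    rw [this]
    intro ξ
    rw [Functor.map_zero, zero_comp]
  comp_left φ ψ hψ := by
    rw [TCxMap_comp]
    exact ZC.comp_left _ hψ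
  comp_right ψ hφ := by
    rw [TCxMap_comp]
    exact ZC.comp_right _ hφ
  exact S hS W M φ ψ h1 h2 := by
    rw [TCxMap_comp] at h1 h2 ⊢
    exact ZC.exact (scTCx S F) (scTCx_shortExact hS F hF) _ _ h1 h2

lemma tcxKill_kills (F : Cx A) (hF : ∀ n, Module.Flat A (F.X n))
    (C : DerivedCategory (ModuleCat.{u} A)) (f : A) (hf : f • 𝟙 C = 0) :
    (tcxKill F hF C).Kills f := by
  intro X ξ
  rw [TCxMap_smul, Functor.map_smul, Linear.smul_comp, CategoryTheory.Functor.map_id,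
    Category.id_comp]
  have : f • ξ = ξ ≫ (f • 𝟙 C) := by rw [Linear.comp_smul, Category.comp_id]
  rw [this, hf, comp_zero]

/-! ### shifting -/

lemma adj_comp_eq_zero {D₁ D₂ : Type*} [Category D₁] [Category D₂] [Preadditive D₁]
    [Preadditive D₂] {F : D₁ ⥤ D₂} {G : D₂ ⥤ D₁} [G.PreservesZeroMorphisms] (adj : F ⊣ G)
    {X' X : D₁} (f : X' ⟶ X) (C : D₂) (h : ∀ ξ : X ⟶ G.obj C, f ≫ ξ = 0) (e : F.obj X ⟶ C) :
    F.map f ≫ e = 0 := by
  apply (adj.homEquiv _ _).injective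
  rw [Adjunction.homEquiv_naturality_left, h]
  rw [Adjunction.homEquiv_unit, Functor.map_zero, comp_zero]

lemma shift_comp_eq_zero {X' X : DerivedCategory (ModuleCat.{u} A)} (f : X' ⟶ X)
    (C : DerivedCategory (ModuleCat.{u} A))
    (h : ∀ ξ : X ⟶ (shiftFunctor (DerivedCategory (ModuleCat.{u} A)) (-1 : ℤ)).obj C, f ≫ ξ = 0)
    (e : (shiftFunctor (DerivedCategory (ModuleCat.{u} A)) (1 : ℤ)).obj X ⟶ C) :
    (shiftFunctor (DerivedCategory (ModuleCat.{u} A)) (1 : ℤ)).map f ≫ e = 0 := by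
  have adj : shiftFunctor (DerivedCategory (ModuleCat.{u} A)) (1 : ℤ) ⊣
      shiftFunctor (DerivedCategory (ModuleCat.{u} A)) (-1 : ℤ) :=
    (shiftEquiv (DerivedCategory (ModuleCat.{u} A)) (1 : ℤ)).toAdjunction
  exact adj_comp_eq_zero adj f C h e

lemma smul_id_shift_eq_zero (C : DerivedCategory (ModuleCat.{u} A)) (f : A) (hf : f • 𝟙 C = 0)
    (n : ℤ) : f • 𝟙 ((shiftFunctor (DerivedCategory (ModuleCat.{u} A)) n).obj C) = 0 := by
  rw [← CategoryTheory.Functor.map_id, ← Functor.map_smul, hf, Functor.map_zero]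

end Groth.Agent.Lib.T2H2.ProIso
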