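import Mathlib
import Groth.Agent.Lib.T2H2ProIsoA
set_option backward.isDefEq.respectTransparency.types false

/-!
# The chain level pro-isomorphism `F/J' F ⟶ K/J' K` (helper2)
-/

set_option autoImplicit false
set_option maxHeartbeats 800000
universe u
open CategoryTheory CategoryTheory.Limits MonoidalCategory HomologicalComplex
attribute [local instance] HasDerivedCategory.standard

namespace Groth.Agent.Lib.T2H2.ProIso

open DerivedCategory Groth.Agent.Lib.Helper1.KF Groth.Agent.Lib.Helper1.DT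
open Groth.Agent.Lib.T2H2.Kill Groth.Agent.Lib.T2H2.CxKill Groth.Agent.Lib.T2H2.LTenIdeal

variable {A : Type u} [CommRing A] [IsNoetherianRing A]

omit [IsNoetherianRing A] in
lemma smul_id_Q_TCx_quo (J : Ideal A) (L : Cx A) (f : A) (hf : f ∈ J) :
    f • 𝟙 (Q.obj (TCx (quo J) L)) = 0 := by
  rw [← Q.map_id, ← Functor.map_smul, smul_id_TCx_eq_zero f _ (smul_id_quot J f hf) L,
    Functor.map_zero]

theorem core (F K : Cx A) (π : F ⟶ K) (hπ : QuasiIso π) (hF : ∀ n, Module.Flat A (F.X n))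
    (a b : ℤ) (hK : ∀ i, i < a ∨ b < i → IsZero (K.X i)) (hKf : ∀ i, Module.Finite A (K.X i))
    (J : Ideal A) :
    ∃ (N : ℕ) (hN : 0 < N), ∀ (J' : Ideal A) (h : J' ≤ J ^ N),
      ∃ bb : Q.obj (TCx (quo J') K) ⟶ Q.obj (TCx (quo J) F),
        Q.map (TCxR (quo J') π) ≫ bb =
          Q.map (TCxMap (qMap (h.trans (Ideal.pow_le_self hN.ne'))) F) ∧
        bb ≫ Q.map (TCxR (quo J) π) =
          Q.map (TCxMap (qMap (h.trans (Ideal.pow_le_self hN.ne'))) K) := by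
  have hQπ : IsIso (Q.map π) := (DerivedCategory.isIso_Q_map_iff_quasiIso (φ := π)).2 hπ
  let ν : TCx (ModuleCat.of A A) F ⟶ K := (unitorCx F).hom ≫ π
  have hν : IsIso (Q.map ν) := by
    show IsIso (Q.map ((unitorCx F).hom ≫ π))
    rw [Functor.map_comp]
    infer_instance
  have hSF : ∀ J₁ : Ideal A, (scTCx (idealSC J₁) F).ShortExact :=
    fun J₁ => scTCx_shortExact (idealSC_shortExact J₁) F hF
  have hSK : ∀ J₁ : Ideal A, (quotSC J₁ K).ShortExact := fun J₁ => quotSC_shortExact J₁ K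
  have F4 : ∀ J₁ : Ideal A, Q.map (TCxMap (quoπ J₁) F) ≫ Q.map (TCxR (quo J₁) π) =
      Q.map ν ≫ Q.map (toQuot J₁ K) := by
    intro J₁
    rw [← Functor.map_comp, ← Functor.map_comp, toQuot_naturality]
  -- Step A
  have hC : ∀ f ∈ J, f • 𝟙 (Q.obj (TCx (quo J) F)) = 0 := fun f hf => smul_id_Q_TCx_quo J F f hf
  obtain ⟨N, hN, hZ⟩ := exists_pow_ZC J (Q.obj (TCx (quo J) F)) hC K a b hK hKf
  have hJN : J ^ N ≤ J := Ideal.pow_le_self hN.ne'
  have h0 : (Q.map (smulCxι (J ^ N) K) ≫ inv (Q.map ν)) ≫ (triangleOfSES (hSF J)).mor₂ = 0 := by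
    rw [Category.assoc]
    exact hZ (inv (Q.map ν) ≫ Q.map (TCxMap (quoπ J) F))
  obtain ⟨g, hg⟩ : ∃ g : Q.obj (smulCx (J ^ N) K) ⟶ Q.obj (TCx (ModuleCat.of A ↥J) F),
      Q.map (smulCxι (J ^ N) K) ≫ inv (Q.map ν) =
        g ≫ Q.map (TCxMap (ModuleCat.ofHom J.subtype) F) :=
    Pretriangulated.Triangle.coyoneda_exact₂ _ (triangleOfSES_distinguished (hSF J)) _ h0
  -- Step B
  obtain ⟨b₀, hb⟩ : ∃ b₀ : Q.obj (TCx (quo (J ^ N)) K) ⟶ Q.obj (TCx (quo J) F),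
      Q.map (toQuot (J ^ N) K) ≫ b₀ = inv (Q.map ν) ≫ Q.map (TCxMap (quoπ J) F) := by
    obtain ⟨b₀, hb₁, -⟩ := Pretriangulated.complete_distinguished_triangle_morphism
      (triangleOfSES (hSK (J ^ N))) (triangleOfSES (hSF J))
      (triangleOfSES_distinguished (hSK (J ^ N))) (triangleOfSES_distinguished (hSF J))
      g (show Q.obj K ⟶ Q.obj (TCx (ModuleCat.of A A) F) from inv (Q.map ν)) hg
    exact ⟨b₀, hb₁⟩
  -- Step C1
  obtain ⟨e, he_def⟩ : ∃ e : Q.obj (TCx (quo (J ^ N)) F) ⟶ Q.obj (TCx (quo J) F),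
      e = Q.map (TCxR (quo (J ^ N)) π) ≫ b₀ - Q.map (TCxMap (qMap hJN) F) := ⟨_, rfl⟩
  have he : (triangleOfSES (hSF (J ^ N))).mor₂ ≫ e = 0 := by
    show Q.map (TCxMap (quoπ (J ^ N)) F) ≫ e = 0
    rw [he_def, Preadditive.comp_sub, ← Category.assoc, F4, Category.assoc, hb,
      IsIso.hom_inv_id_assoc, ← Functor.map_comp, ← TCxMap_comp, quoπ_qMap, sub_self]
  obtain ⟨e', he'⟩ := Pretriangulated.Triangle.yoneda_exact₃ _
    (triangleOfSES_distinguished (hSF (J ^ N))) e he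
  have hC' : ∀ f ∈ J, f • 𝟙 ((shiftFunctor (DerivedCategory (ModuleCat.{u} A)) (-1 : ℤ)).obj
      (Q.obj (TCx (quo J) F))) = 0 :=
    fun f hf => smul_id_shift_eq_zero _ f (hC f hf) (-1)
  obtain ⟨k, hk, hZk⟩ := KillSys.exists_pow (tcxKill F hF _) J
    (fun f hf => tcxKill_kills F hF _ f (hC' f hf)) ↥(J ^ N)
  have hJNk : J ^ (N + k) ≤ J ^ N := Ideal.pow_le_pow_right (Nat.le_add_right N k)
  have hZincl : ZC ((shiftFunctor (DerivedCategory (ModuleCat.{u} A)) (-1 : ℤ)).obj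
      (Q.obj (TCx (quo J) F))) (TCxMap (idealIncl hJNk) F) := by
    have hmem : ∀ x : ↥(J ^ (N + k)),
        Submodule.inclusion hJNk x ∈ (J ^ k • ⊤ : Submodule A ↥(J ^ N)) := by
      intro x
      rw [Submodule.mem_smul_top_iff]
      refine (show (x : A) ∈ J ^ k • J ^ N from ?_)
      rw [smul_eq_mul, ← pow_add, add_comm]
      exact x.2
    have hfac : idealIncl hJNk =
        ModuleCat.ofHom ((Submodule.inclusion hJNk).codRestrict _ hmem) ≫
          ModuleCat.ofHom (J ^ k • ⊤ : Submodule A ↥(J ^ N)).subtype := rfl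
    rw [hfac]
    exact (tcxKill F hF _).comp_left _ hZk
  have hkill1 : Q.map (TCxMap (qMap hJNk) F) ≫ e = 0 := by
    have nat := triangleOfSESδ_naturality (hSF (J ^ (N + k))) (hSF (J ^ N)) (scTCxMap hJNk F)
    have h5 := shift_comp_eq_zero (Q.map (scTCxMap hJNk F).τ₁) _ hZincl e'
    calc Q.map (TCxMap (qMap hJNk) F) ≫ e
        = Q.map (scTCxMap hJNk F).τ₃ ≫ (triangleOfSESδ (hSF (J ^ N)) ≫ e') :=
          congrArg (fun t => Q.map (TCxMap (qMap hJNk) F) ≫ t) he'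
      _ = (Q.map (scTCxMap hJNk F).τ₃ ≫ triangleOfSESδ (hSF (J ^ N))) ≫ e' :=
          (Category.assoc _ _ _).symm
      _ = (triangleOfSESδ (hSF (J ^ (N + k))) ≫
            (shiftFunctor (DerivedCategory (ModuleCat.{u} A)) (1 : ℤ)).map
              (Q.map (scTCxMap hJNk F).τ₁)) ≫ e' := by rw [nat]
      _ = triangleOfSESδ (hSF (J ^ (N + k))) ≫
            ((shiftFunctor (DerivedCategory (ModuleCat.{u} A)) (1 : ℤ)).map
              (Q.map (scTCxMap hJNk F).τ₁) ≫ e') := Category.assoc _ _ _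
      _ = 0 := by rw [h5, comp_zero]
  -- Step C2
  have hC₂ : ∀ f ∈ J, f • 𝟙 (Q.obj (TCx (quo J) K)) = 0 := fun f hf => smul_id_Q_TCx_quo J K f hf
  obtain ⟨e₂, he₂_def⟩ : ∃ e₂ : Q.obj (TCx (quo (J ^ N)) K) ⟶ Q.obj (TCx (quo J) K),
      e₂ = b₀ ≫ Q.map (TCxR (quo J) π) - Q.map (TCxMap (qMap hJN) K) := ⟨_, rfl⟩
  have he₂ : (triangleOfSES (hSK (J ^ N))).mor₂ ≫ e₂ = 0 := by
    show Q.map (toQuot (J ^ N) K) ≫ e₂ = 0
    rw [he₂_def, Preadditive.comp_sub, ← Category.assoc, hb, Category.assoc, F4,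
      IsIso.inv_hom_id_assoc, ← Functor.map_comp, toQuot_qMap, sub_self]
  obtain ⟨e₂', he₂'⟩ := Pretriangulated.Triangle.yoneda_exact₃ _
    (triangleOfSES_distinguished (hSK (J ^ N))) e₂ he₂
  have hC₂' : ∀ f ∈ J, f • 𝟙 ((shiftFunctor (DerivedCategory (ModuleCat.{u} A)) (-1 : ℤ)).obj
      (Q.obj (TCx (quo J) K))) = 0 :=
    fun f hf => smul_id_shift_eq_zero _ f (hC₂ f hf) (-1)
  obtain ⟨k₂, hk₂, hZk₂⟩ := exists_pow_ZC J _ hC₂' (smulCx (J ^ N) K) a b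
    (fun i hi => isZero_smulCx_X _ K i (hK i hi))
    (fun i => by
      have := hKf i
      exact finite_smulCx_X (J ^ N) K i)
  have hJNk₂ : J ^ (N + k₂) ≤ J ^ N := Ideal.pow_le_pow_right (Nat.le_add_right N k₂)
  have hZincl₂ : ZC ((shiftFunctor (DerivedCategory (ModuleCat.{u} A)) (-1 : ℤ)).obj
      (Q.obj (TCx (quo J) K))) (smulCxIncl hJNk₂ K) := by
    have hmem : ∀ i (x : (smulCx (J ^ (N + k₂)) K).X i), ((smulCxIncl hJNk₂ K).f i).hom x ∈
        (J ^ k₂) • (⊤ : Submodule A ((smulCx (J ^ N) K).X i)) := by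
      intro i x
      refine (Submodule.mem_smul_top_iff (J ^ k₂) (J ^ N • (⊤ : Submodule A (K.X i)))
        (((smulCxIncl hJNk₂ K).f i).hom x)).2 ?_
      refine (show (x.1 : K.X i) ∈ J ^ k₂ • (J ^ N • (⊤ : Submodule A (K.X i))) from ?_)
      rw [← Submodule.mul_smul, ← pow_add, add_comm]
      exact x.2
    have := ZC.comp_left (smulCxLift (J ^ k₂) (smulCx (J ^ N) K) (smulCxIncl hJNk₂ K) hmem) hZk₂
    rwa [smulCxLift_ι] at this
  have hkill2 : Q.map (TCxMap (qMap hJNk₂) K) ≫ e₂ = 0 := by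
    have nat := triangleOfSESδ_naturality (hSK (J ^ (N + k₂))) (hSK (J ^ N)) (quotSCMap hJNk₂ K)
    have h5 := shift_comp_eq_zero (Q.map (quotSCMap hJNk₂ K).τ₁) _ hZincl₂ e₂'
    calc Q.map (TCxMap (qMap hJNk₂) K) ≫ e₂
        = Q.map (quotSCMap hJNk₂ K).τ₃ ≫ (triangleOfSESδ (hSK (J ^ N)) ≫ e₂') :=
          congrArg (fun t => Q.map (TCxMap (qMap hJNk₂) K) ≫ t) he₂'
      _ = (Q.map (quotSCMap hJNk₂ K).τ₃ ≫ triangleOfSESδ (hSK (J ^ N))) ≫ e₂' :=
          (Category.assoc _ _ _).symm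
      _ = (triangleOfSESδ (hSK (J ^ (N + k₂))) ≫
            (shiftFunctor (DerivedCategory (ModuleCat.{u} A)) (1 : ℤ)).map
              (Q.map (quotSCMap hJNk₂ K).τ₁)) ≫ e₂' := by rw [nat]
      _ = triangleOfSESδ (hSK (J ^ (N + k₂))) ≫
            ((shiftFunctor (DerivedCategory (ModuleCat.{u} A)) (1 : ℤ)).map
              (Q.map (quotSCMap hJNk₂ K).τ₁) ≫ e₂') := Category.assoc _ _ _
      _ = 0 := by rw [h5, comp_zero]
  -- conclusion
  refine ⟨N + k + k₂, by omega, ?_⟩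
  intro J' h
  have h₀ : J' ≤ J ^ N := h.trans (Ideal.pow_le_pow_right (by omega))
  have h₁ : J' ≤ J ^ (N + k) := h.trans (Ideal.pow_le_pow_right (by omega))
  have h₂ : J' ≤ J ^ (N + k₂) := h.trans (Ideal.pow_le_pow_right (by omega))
  refine ⟨Q.map (TCxMap (qMap h₀) K) ≫ b₀, ?_, ?_⟩
  · have e_eq : Q.map (TCxR (quo (J ^ N)) π) ≫ b₀ = Q.map (TCxMap (qMap hJN) F) + e := by
      rw [he_def]
      abel
    have hz : Q.map (TCxMap (qMap h₀) F) ≫ e = 0 := by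
      have : qMap h₀ = qMap h₁ ≫ qMap hJNk := (qMap_comp h₁ hJNk).symm
      rw [this, TCxMap_comp, Functor.map_comp, Category.assoc, hkill1, comp_zero]
    rw [← Category.assoc, ← Functor.map_comp, ← TCxMap_TCxR, Functor.map_comp, Category.assoc,
      e_eq, Preadditive.comp_add, hz, add_zero, ← Functor.map_comp, ← TCxMap_comp, qMap_comp]
  · have e_eq : b₀ ≫ Q.map (TCxR (quo J) π) = Q.map (TCxMap (qMap hJN) K) + e₂ := by
      rw [he₂_def]
      abel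
    have hz : Q.map (TCxMap (qMap h₀) K) ≫ e₂ = 0 := by
      have : qMap h₀ = qMap h₂ ≫ qMap hJNk₂ := (qMap_comp h₂ hJNk₂).symm
      rw [this, TCxMap_comp, Functor.map_comp, Category.assoc, hkill2, comp_zero]
    rw [Category.assoc, e_eq, Preadditive.comp_add, hz, add_zero, ← Functor.map_comp,
      ← TCxMap_comp, qMap_comp]

end Groth.Agent.Lib.T2H2.ProIso
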