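import Mathlib
import Groth.Prelude.Def_DerCA
import Groth.Prelude.Def_ega3
import Groth.Agent.Lib.T2H2ProIsoB
set_option backward.isDefEq.respectTransparency.types false

/-!
# `K ⊗^L A/I^n ⟶ K/I^n K` is a pro-isomorphism (helper2)
-/

set_option autoImplicit false
set_option maxHeartbeats 800000
universe u
open CategoryTheory CategoryTheory.Limits MonoidalCategory HomologicalComplex Opposite
attribute [local instance] HasDerivedCategory.standard

namespace Groth.Agent.Lib.T2H2.ProIso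

open DerivedCategory Groth.Agent.Lib.Helper1.KF Groth.Agent.Lib.Helper1.DT DTen
open Groth.Agent.Lib.T2H2.Kill Groth.Agent.Lib.T2H2.CxKill Groth.Agent.Lib.T2H2.LTenIdeal
open Groth.Agent.Lib.T2H2.HomKill

variable {A : Type u} [CommRing A]

/-! ### `L ⊗ Y[0] ≅ Y ⊗ L` termwise -/

lemma sglι_naturality_right (Y : ModuleCat.{u} A) {F K : Cx A} (π : F ⟶ K) (n : ℤ) :
    (Y ◁ π.f n) ≫ sglι Y K n = sglι Y F n ≫ ((sgl Y) ◁ π).f n := by
  unfold sglι
  rw [Category.assoc, ι_whiskerLeft, ← Category.assoc, ← Category.assoc, whisker_exchange]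

lemma singleTensorIso_naturality_right (Y : ModuleCat.{u} A) {F K : Cx A} (π : F ⟶ K) :
    TCxR Y π ≫ (singleTensorIso Y K).hom = (singleTensorIso Y F).hom ≫ ((sgl Y) ◁ π) := by
  refine HomologicalComplex.hom_ext _ _ (fun n => ?_)
  rw [HomologicalComplex.comp_f, HomologicalComplex.comp_f]
  exact sglι_naturality_right Y π n

/-- `L ⊗ Y[0] ≅ Y ⊗ L` -/
noncomputable def rho (L : Cx A) (Y : ModuleCat.{u} A) : L ⊗ sgl Y ≅ TCx Y L :=
  braidCx L (sgl Y) ≪≫ (singleTensorIso Y L).symm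

lemma rho_naturality_left {F K : Cx A} (π : F ⟶ K) (Y : ModuleCat.{u} A) :
    (π ▷ sgl Y) ≫ (rho K Y).hom = (rho F Y).hom ≫ TCxR Y π := by
  have h1 := braidCx_naturality π (𝟙 (sgl Y))
  rw [tensorHom_id, id_tensorHom] at h1
  have h2 := singleTensorIso_naturality_right Y π
  have h3 : (sgl Y ◁ π) ≫ (singleTensorIso Y K).inv = (singleTensorIso Y F).inv ≫ TCxR Y π := by
    rw [Iso.comp_inv_eq, Category.assoc, h2, Iso.inv_hom_id_assoc]
  simp only [rho, Iso.trans_hom, Iso.symm_hom]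
  rw [reassoc_of% h1, h3, Category.assoc]

lemma rho_naturality_right (L : Cx A) {Y Y' : ModuleCat.{u} A} (φ : Y ⟶ Y') :
    (L ◁ (sg (A := A)).map φ) ≫ (rho L Y').hom = (rho L Y).hom ≫ TCxMap φ L := by
  have h1 := braidCx_naturality (𝟙 L) ((sg (A := A)).map φ)
  rw [tensorHom_id, id_tensorHom] at h1
  have h2 := singleTensorIso_naturality φ L
  have h3 : ((sg (A := A)).map φ ▷ L) ≫ (singleTensorIso Y' L).inv =
      (singleTensorIso Y L).inv ≫ TCxMap φ L := by
    rw [Iso.comp_inv_eq, Category.assoc, h2, Iso.inv_hom_id_assoc]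
  simp only [rho, Iso.trans_hom, Iso.symm_hom]
  rw [reassoc_of% h1, h3, Category.assoc]

/-! ### comparison with the derived tensor product -/

section Compare

variable [HasLTen A] {F K : Cx A} (π : F ⟶ K)

lemma isIso_LTen_map_left [QuasiIso π] (X : DerivedCategory (ModuleCat.{u} A)) :
    IsIso ((LTen₂ A).map (Prod.mkHom (Q.map π) (𝟙 X))) := by
  have : IsIso (Q.map π) := (DerivedCategory.isIso_Q_map_iff_quasiIso (φ := π)).2 inferInstance
  have : IsIso (Prod.mkHom (Q.map π) (𝟙 X) : (Q.obj F, X) ⟶ (Q.obj K, X)) := by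
    rw [isIso_prod_iff]
    exact ⟨inferInstanceAs (IsIso (Q.map π)), inferInstanceAs (IsIso (𝟙 X))⟩
  exact Functor.map_isIso (LTen₂ A) _

/-- (R1) -/
lemma eps_rho_left (Y : ModuleCat.{u} A) :
    (LTen₂ A).map (Prod.mkHom (Q.map π) (𝟙 (Q.obj (sgl Y)))) ≫ (ε A).app (K, sgl Y) ≫
        Q.map (rho K Y).hom =
      (ε A).app (F, sgl Y) ≫ Q.map (rho F Y).hom ≫ Q.map (TCxR Y π) := by
  have e := (ε A).naturality (Prod.mkHom π (𝟙 (sgl Y)) : (F, sgl Y) ⟶ (K, sgl Y))
  have e' : (LTen₂ A).map (Prod.mkHom (Q.map π) (𝟙 (Q.obj (sgl Y)))) ≫ (ε A).app (K, sgl Y) =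
      (ε A).app (F, sgl Y) ≫ Q.map (π ▷ sgl Y) := by
    dsimp at e ⊢
    simpa using e
  rw [reassoc_of% e', ← Functor.map_comp, rho_naturality_left, Functor.map_comp]

/-- (R2) -/
lemma eps_rho_right (L : Cx A) {Y Y' : ModuleCat.{u} A} (φ : Y ⟶ Y') :
    (LTen₂ A).map (Prod.mkHom (𝟙 (Q.obj L)) (Q.map ((sg (A := A)).map φ))) ≫
        (ε A).app (L, sgl Y') ≫ Q.map (rho L Y').hom =
      (ε A).app (L, sgl Y) ≫ Q.map (rho L Y).hom ≫ Q.map (TCxMap φ L) := by
  have e := (ε A).naturality (Prod.mkHom (𝟙 L) ((sg (A := A)).map φ) : (L, sgl Y) ⟶ (L, sgl Y'))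
  have e' : (LTen₂ A).map (Prod.mkHom (𝟙 (Q.obj L)) (Q.map ((sg (A := A)).map φ))) ≫
      (ε A).app (L, sgl Y') = (ε A).app (L, sgl Y) ≫ Q.map (L ◁ (sg (A := A)).map φ) := by
    dsimp at e ⊢
    simpa using e
  rw [reassoc_of% e', ← Functor.map_comp, rho_naturality_right, Functor.map_comp]

lemma LTen_map_comm {X X' Y Y' : DerivedCategory (ModuleCat.{u} A)} (f : X ⟶ X') (g : Y ⟶ Y') :
    (LTen₂ A).map (Prod.mkHom (𝟙 X) g) ≫ (LTen₂ A).map (Prod.mkHom f (𝟙 Y')) =
      (LTen₂ A).map (Prod.mkHom f (𝟙 Y)) ≫ (LTen₂ A).map (Prod.mkHom (𝟙 X') g) := by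
  rw [← Functor.map_comp, ← Functor.map_comp]
  congr 1
  apply Prod.ext
  · exact (Category.id_comp _).trans (Category.comp_id _).symm
  · exact (Category.comp_id _).trans (Category.id_comp _).symm

end Compare

/-! ### the adic system -/

section Adic

variable (I : Ideal A)

/-- the ideal `I^(n+1) • ⊤` of `A` -/
abbrev Jn (n : ℕ) : Ideal A := I ^ (n + 1) • (⊤ : Submodule A (ModuleCat.of A A))

lemma Jn_anti {n m : ℕ} (h : n ≤ m) : Jn I m ≤ Jn I n :=
  Submodule.smul_mono_left (Ideal.pow_le_pow_right (Nat.succ_le_succ h))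

lemma adicSystem_map_succ (l : ℕ) :
    (CohIII.adicSystem I (ModuleCat.of A A)).map (homOfLE (Nat.le_add_right l 1)).op =
      qMap (Jn_anti I (Nat.le_succ l)) :=
  Functor.ofOpSequence_map_homOfLE_succ _ l

lemma adicSystem_map (k : ℕ) : ∀ (l : ℕ) (h : k ≤ l),
    (CohIII.adicSystem I (ModuleCat.of A A)).map (homOfLE h).op = qMap (Jn_anti I h) := by
  intro l h
  induction l, h using Nat.le_induction with
  | base =>
    have : (homOfLE (le_refl k)).op = 𝟙 (op k) := Subsingleton.elim _ _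
    rw [this, CategoryTheory.Functor.map_id]
    apply ModuleCat.hom_ext
    apply LinearMap.ext
    intro x
    obtain ⟨y, rfl⟩ := Submodule.mkQ_surjective _ x
    rfl
  | succ l h ih =>
    have e : (homOfLE (h.trans (Nat.le_succ l))).op =
        (homOfLE (Nat.le_add_right l 1)).op ≫ (homOfLE h).op := Subsingleton.elim _ _
    rw [e, CategoryTheory.Functor.map_comp, ih, adicSystem_map_succ]
    exact qMap_comp _ _

lemma Jn_le_pow (n N : ℕ) : Jn I ((n + 1) * N) ≤ (Jn I n) ^ N := by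
  have h1 : ∀ k, Jn I k = I ^ (k + 1) := fun k => by
    show I ^ (k + 1) • (⊤ : Ideal A) = I ^ (k + 1)
    rw [smul_eq_mul, Ideal.mul_top]
  rw [h1, h1, ← pow_mul]
  exact Ideal.pow_le_pow_right (Nat.le_succ _)

end Adic

/-! ### the main theorem -/

section Main

variable [IsNoetherianRing A] [HasLTen A]

theorem isProIso_adic (I : Ideal A) (K : DRing.Cx A) (a b : ℤ)
    (hK : DRing.VanishesOutside K a b) (hKf : ∀ i : ℤ, Module.Finite A (K.X i)) :
    DerCA.IsProIso (Functor.whiskerLeft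
      (CohIII.adicSystem I (ModuleCat.of A A) ⋙
        HomologicalComplex.single (ModuleCat.{u} A) (ComplexShape.up ℤ) 0)
      (DTen.εLeft A K)) := by
  obtain ⟨F, π, hFK, hFproj, hπ, -⟩ := exists_kprojective_resolution K
  have hFflat : ∀ n, Module.Flat A (F.X n) := fun n => by
    have : Module.Projective A (F.X n) := (IsProjective.iff_projective (F.X n)).2 (hFproj n)
    infer_instance
  have hFk : KFlat F := kflat_of_isKProjective F
  intro n
  obtain ⟨N, hN, hcore⟩ := core F K π hπ hFflat a b hK hKf (Jn I n)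
  have hm : n ≤ (n + 1) * N := by nlinarith
  obtain ⟨bb, h1, h2⟩ := hcore (Jn I ((n + 1) * N)) (Jn_le_pow I n N)
  have hle : Jn I ((n + 1) * N) ≤ Jn I n := Jn_anti I hm
  -- the isomorphisms
  have hP : ∀ Y : ModuleCat.{u} A,
      IsIso ((LTen₂ A).map (Prod.mkHom (Q.map π) (𝟙 (Q.obj (sgl Y))))) :=
    fun Y => isIso_LTen_map_left π _
  have hε : ∀ Y : ModuleCat.{u} A, IsIso ((ε A).app (F, sgl Y)) :=
    fun Y => isIso_ε_of_kflat _ _ (Or.inl hFk)
  have R1m := eps_rho_left π (quo (Jn I ((n + 1) * N)))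
  have R1n := eps_rho_left π (quo (Jn I n))
  have R2F := eps_rho_right F (qMap hle)
  have R2K := eps_rho_right K (qMap hle)
  have hcomm := LTen_map_comm (A := A) (Q.map π) (Q.map ((sg (A := A)).map (qMap hle)))
  have hρF : IsIso (Q.map (rho F (quo (Jn I n))).hom) := inferInstance
  have hρK : IsIso (Q.map (rho K (quo (Jn I n))).hom) := inferInstance
  have hεn := hε (quo (Jn I n))
  have hPn := hP (quo (Jn I n))
  have hPm := hP (quo (Jn I ((n + 1) * N)))
  have htrX : ARSys.tr ((CohIII.adicSystem I (ModuleCat.of A A) ⋙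
      HomologicalComplex.single (ModuleCat.{u} A) (ComplexShape.up ℤ) 0) ⋙
        (DerivedCategory.Q ⋙ (LTen A).obj (DerivedCategory.Q.obj K))) hm =
      (LTen₂ A).map (Prod.mkHom (𝟙 (Q.obj K)) (Q.map ((sg (A := A)).map (qMap hle)))) := by
    show (LTen₂ A).map (Prod.mkHom (𝟙 (Q.obj K)) (Q.map ((sg (A := A)).map
      ((CohIII.adicSystem I (ModuleCat.of A A)).map (homOfLE hm).op)))) = _
    rw [adicSystem_map]
    rfl
  have htrY : ARSys.tr ((CohIII.adicSystem I (ModuleCat.of A A) ⋙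
      HomologicalComplex.single (ModuleCat.{u} A) (ComplexShape.up ℤ) 0) ⋙
        (tensorLeft K ⋙ DerivedCategory.Q)) hm =
      Q.map (K ◁ (sg (A := A)).map (qMap hle)) := by
    show Q.map (K ◁ (sg (A := A)).map
      ((CohIII.adicSystem I (ModuleCat.of A A)).map (homOfLE hm).op)) = _
    rw [adicSystem_map]
    rfl
  refine ⟨(n + 1) * N, hm,
    (show Q.obj (K ⊗ sgl (quo (Jn I ((n + 1) * N)))) ⟶
        (LTen₂ A).obj (Q.obj K, Q.obj (sgl (quo (Jn I n)))) from
      Q.map (rho K (quo (Jn I ((n + 1) * N)))).hom ≫ bb ≫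
        inv (Q.map (rho F (quo (Jn I n))).hom) ≫ inv ((ε A).app (F, sgl (quo (Jn I n)))) ≫
        (LTen₂ A).map (Prod.mkHom (Q.map π) (𝟙 (Q.obj (sgl (quo (Jn I n))))))), ?_, ?_⟩
  · refine Eq.trans ?_ htrX.symm
    show (ε A).app (K, sgl (quo (Jn I ((n + 1) * N)))) ≫
      Q.map (rho K (quo (Jn I ((n + 1) * N)))).hom ≫ bb ≫
        inv (Q.map (rho F (quo (Jn I n))).hom) ≫ inv ((ε A).app (F, sgl (quo (Jn I n)))) ≫
        (LTen₂ A).map (Prod.mkHom (Q.map π) (𝟙 (Q.obj (sgl (quo (Jn I n)))))) = _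
    rw [← cancel_epi ((LTen₂ A).map (Prod.mkHom (Q.map π)
      (𝟙 (Q.obj (sgl (quo (Jn I ((n + 1) * N))))))))]
    rw [reassoc_of% R1m, reassoc_of% h1, ← reassoc_of% R2F, IsIso.hom_inv_id_assoc,
      IsIso.hom_inv_id_assoc, hcomm]
  · refine Eq.trans ?_ htrY.symm
    show (Q.map (rho K (quo (Jn I ((n + 1) * N)))).hom ≫ bb ≫
        inv (Q.map (rho F (quo (Jn I n))).hom) ≫ inv ((ε A).app (F, sgl (quo (Jn I n)))) ≫
        (LTen₂ A).map (Prod.mkHom (Q.map π) (𝟙 (Q.obj (sgl (quo (Jn I n))))))) ≫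
      (ε A).app (K, sgl (quo (Jn I n))) = _
    rw [← cancel_mono (Q.map (rho K (quo (Jn I n))).hom)]
    simp only [Category.assoc]
    rw [R1n, IsIso.inv_hom_id_assoc, IsIso.inv_hom_id_assoc, h2,
      ← Functor.map_comp, ← Functor.map_comp, rho_naturality_right]

end Main

end Groth.Agent.Lib.T2H2.ProIso
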