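import Mathlib
import Groth.Agent.Lib.Helper14Descent2

/-!
# Projectivity is local for the Zariski topology (helper2)

Namespace `Groth.Agent.Lib.T2H2.ProjLoc`.

* `projective_trans`: `A` projective as `S`-module, `N` projective over `A` ⇒ `N` projective over `S`.
* `pi_projective`: a finite product of projective `R i`-modules is projective over `∏ R i`.
* `Phi`: `(∏ R i) ⊗[O] M ≃ ∏ N i` when each `M → N i` is a base change along `O → R i`.
* `faithfullyFlat_pi_away`: finite product of localizations `O_g`, `g ∈ t`, `span t = ⊤`, is faithfully flat.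
* **`projective_of_localizationSpan'`**: `M_g` projective over `O_g` for `g ∈ s`, `span s = ⊤` ⇒ `M` projective over `O`
  (no finiteness; uses Raynaud–Gruson descent `Helper14Descent2`).
-/

set_option autoImplicit false
set_option linter.style.haveILetI false
set_option linter.unusedSectionVars false
open TensorProduct

namespace Groth.Agent.Lib.T2H2.ProjLoc

universe u

theorem projective_trans (S A N : Type u) [CommRing S] [CommRing A] [Algebra S A] [AddCommGroup N]
    [Module S N] [Module A N] [IsScalarTower S A N] [Module.Projective S A]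
    [Module.Projective A N] : Module.Projective S N := by
  classical
  obtain ⟨s, hs⟩ := ‹Module.Projective A N›
  haveI : Module.Projective S (N →₀ A) :=
    Module.Projective.of_equiv' (finsuppLequivDFinsupp (ι := N) (M := A) S).symm
  refine Module.Projective.of_split (R := S) (M := N →₀ A) (s.restrictScalars S)
    ((Finsupp.linearCombination A id).restrictScalars S) ?_
  ext x
  exact hs x

section Abstract

variable {O : Type u} [CommRing O] {I : Type u} [Finite I] (R : I → Type u) [∀ i, CommRing (R i)]
  [∀ i, Algebra O (R i)]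

/-- projection from a finite product, as an algebra structure -/
@[reducible] def evalAlg (i : I) : Algebra (∀ j, R j) (R i) := (Pi.evalRingHom R i).toAlgebra

attribute [local instance] evalAlg

theorem evalAlg_projective (i : I) : Module.Projective (∀ j, R j) (R i) := by
  classical
  let ι : R i →ₗ[∀ j, R j] (∀ j, R j) :=
    { toFun := fun r => Pi.single i r
      map_add' := fun a b => Pi.single_add i a b
      map_smul' := fun p r => by
        funext j
        by_cases h : j = i
        · subst h; simp [Algebra.smul_def]; rfl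
        · simp [Pi.single_eq_of_ne h] }
  refine Module.Projective.of_split (R := ∀ j, R j) (M := ∀ j, R j) ι
    (Algebra.linearMap (∀ j, R j) (R i)) ?_
  ext r
  change Pi.evalRingHom R i (Pi.single i r) = r
  simp

variable (N : I → Type u) [∀ i, AddCommGroup (N i)] [∀ i, Module (R i) (N i)]

/-- a copy of `N i`, regarded only as a module over the product ring -/
def NP (_R : I → Type u) (N : I → Type u) (i : I) : Type u := N i

instance (i : I) : AddCommGroup (NP R N i) := inferInstanceAs (AddCommGroup (N i))

instance instModuleNP (i : I) : Module (∀ j, R j) (NP R N i) :=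
  Module.compHom (N i) (Pi.evalRingHom R i)

/-- the `R i`-module structure on the copy (not an instance) -/
@[reducible] def modNP (i : I) : Module (R i) (NP R N i) := inferInstanceAs (Module (R i) (N i))

theorem modNP_tower (i : I) :
    letI := modNP R N i
    IsScalarTower (∀ j, R j) (R i) (NP R N i) := by
  letI := modNP R N i
  refine ⟨fun p r x => ?_⟩
  exact mul_smul (p i) r (show N i from x)

theorem pi_projective (h : ∀ i, Module.Projective (R i) (N i)) :
    Module.Projective (∀ j, R j) (∀ i, NP R N i) := by
  classical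
  haveI := Fintype.ofFinite I
  haveI : ∀ i, Module.Projective (∀ j, R j) (NP R N i) := fun i => by
    letI := modNP R N i
    haveI := modNP_tower R N i
    haveI := evalAlg_projective R i
    haveI : Module.Projective (R i) (NP R N i) := h i
    exact projective_trans (∀ j, R j) (R i) (NP R N i)
  exact Module.Projective.of_equiv'
    (DFinsupp.linearEquivFunOnFintype (R := ∀ j, R j) (M := NP R N))

variable [∀ i, Module O (N i)] [∀ i, IsScalarTower O (R i) (N i)]

instance instModuleONP (i : I) : Module O (NP R N i) := inferInstanceAs (Module O (N i))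

instance instTowerNP (i : I) : IsScalarTower O (∀ j, R j) (NP R N i) :=
  ⟨fun a p x => by
    have h : ((a • p) i) • (show N i from x) = a • ((p i) • (show N i from x)) := by
      rw [Pi.smul_apply, smul_assoc]
    exact h⟩

variable {M : Type u} [AddCommGroup M] [Module O M] (ev : ∀ i, M →ₗ[O] N i)

/-- the comparison map `(∏ R_i) ⊗ M → ∏ N_i` -/
noncomputable def Phi0 : (∀ j, R j) ⊗[O] M →ₗ[∀ j, R j] (∀ i, NP R N i) :=
  LinearMap.liftBaseChange (∀ j, R j) (LinearMap.pi (fun i => (ev i : M →ₗ[O] NP R N i)))

theorem Phi0_tmul (p : ∀ j, R j) (m : M) (i : I) :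
    Phi0 R N ev (p ⊗ₜ m) i = (p i) • (ev i m : N i) := by
  unfold Phi0
  rw [LinearMap.liftBaseChange_tmul]
  rfl

theorem Phi0_bijective (hev : ∀ i, IsBaseChange (R i) (ev i)) :
    Function.Bijective (Phi0 R N ev) := by
  classical
  haveI := Fintype.ofFinite I
  let Ψ : (∀ j, R j) ⊗[O] M ≃ₗ[O] ∀ i, N i :=
    (TensorProduct.piLeft O M R) ≪≫ₗ
      LinearEquiv.piCongrRight (fun i => ((hev i).equiv.restrictScalars O))
  have hΨ : ∀ (p : ∀ j, R j) (m : M) (i : I), Ψ (p ⊗ₜ m) i = (p i) • ev i m := by
    intro p m i
    show (hev i).equiv (TensorProduct.piLeft O M R (p ⊗ₜ m) i) = _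
    have : TensorProduct.piLeft O M R (p ⊗ₜ m) i = p i ⊗ₜ m := by
      simp [TensorProduct.piLeft]
    rw [this, IsBaseChange.equiv_tmul]
  have key : ∀ t, (Phi0 R N ev t : ∀ i, N i) = Ψ t := by
    intro t
    induction t using TensorProduct.induction_on with
    | zero => rw [map_zero, map_zero]; rfl
    | tmul p b => funext i; rw [Phi0_tmul, hΨ]
    | add t t' ht ht' =>
      rw [map_add, map_add, ← ht, ← ht']
      rfl
  constructor
  · intro t t' h
    apply Ψ.injective
    rw [← key, ← key]
    exact h
  · intro y
    refine ⟨Ψ.symm y, ?_⟩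
    exact (key (Ψ.symm y)).trans (Ψ.apply_symm_apply y)

/-- the comparison isomorphism -/
noncomputable def Phi (hev : ∀ i, IsBaseChange (R i) (ev i)) :
    (∀ j, R j) ⊗[O] M ≃ₗ[∀ j, R j] (∀ i, NP R N i) :=
  LinearEquiv.ofBijective (Phi0 R N ev) (Phi0_bijective R N ev hev)

/-- projectivity descends along a faithfully flat finite product of rings. -/
theorem projective_of_forall_projective [Module.FaithfullyFlat O (∀ j, R j)]
    (hev : ∀ i, IsBaseChange (R i) (ev i)) (h : ∀ i, Module.Projective (R i) (N i)) :
    Module.Projective O M := by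
  haveI := pi_projective R N h
  haveI : Module.Projective (∀ j, R j) ((∀ j, R j) ⊗[O] M) :=
    Module.Projective.of_equiv' (Phi R N ev hev).symm
  exact Groth.Agent.Lib.Helper14.Descent.projective_of_faithfullyFlat_baseChange
    (R := O) (S := ∀ j, R j)

end Abstract

section Span

variable {O : Type u} [CommRing O]

/-- a finite product of localizations at elements spanning the unit ideal is faithfully flat. -/
theorem faithfullyFlat_pi_away (t : Finset O) (ht : Ideal.span (t : Set O) = ⊤)
    (R : t → Type u) [∀ i, CommRing (R i)] [∀ i, Algebra O (R i)]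
    [∀ i, IsLocalization.Away i.1 (R i)] : Module.FaithfullyFlat O (∀ j, R j) := by
  classical
  haveI : ∀ i : t, Module.Flat O (R i) := fun i => IsLocalization.flat (R i) (Submonoid.powers i.1)
  haveI hflat : Module.Flat O (∀ j, R j) :=
    Module.Flat.of_linearEquiv (DFinsupp.linearEquivFunOnFintype (R := O) (M := R)).symm
  apply Module.FaithfullyFlat.of_comap_surjective
  intro 𝔭
  have hex : ∃ g : t, g.1 ∉ 𝔭.asIdeal := by
    by_contra hcon
    push Not at hcon
    have hle : Ideal.span (t : Set O) ≤ 𝔭.asIdeal :=
      Ideal.span_le.2 fun g hg => hcon ⟨g, hg⟩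
    rw [ht] at hle
    exact 𝔭.isPrime.ne_top (top_le_iff.1 hle)
  obtain ⟨g, hg⟩ := hex
  have hdisj : Disjoint (Submonoid.powers g.1 : Set O) (𝔭.asIdeal : Set O) := by
    rw [Set.disjoint_left]
    rintro x ⟨n, rfl⟩ hx
    exact hg (𝔭.isPrime.mem_of_pow_mem n hx)
  have hprime : (𝔭.asIdeal.map (algebraMap O (R g))).IsPrime :=
    IsLocalization.isPrime_of_isPrime_disjoint (Submonoid.powers g.1) _ _ 𝔭.isPrime hdisj
  have hc : (𝔭.asIdeal.map (algebraMap O (R g))).comap (algebraMap O (R g)) = 𝔭.asIdeal :=
    IsLocalization.under_map_of_isPrime_disjoint (Submonoid.powers g.1) _ 𝔭.isPrime hdisj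
  refine ⟨⟨(𝔭.asIdeal.map (algebraMap O (R g))).comap (Pi.evalRingHom R g),
    Ideal.comap_isPrime _ _⟩, ?_⟩
  apply PrimeSpectrum.ext
  show ((𝔭.asIdeal.map (algebraMap O (R g))).comap (Pi.evalRingHom R g)).comap
    (algebraMap O (∀ j, R j)) = 𝔭.asIdeal
  rw [Ideal.comap_comap]
  exact hc

/-- **Projectivity is Zariski local** (no finiteness hypotheses): if `s` spans the unit ideal of
`O` and `M_g` is projective over `O_g` for all `g ∈ s`, then `M` is projective over `O`. -/
theorem projective_of_localizationSpan' {M : Type u} [AddCommGroup M] [Module O M]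
    (s : Set O) (hs : Ideal.span s = ⊤)
    {Rₚ : s → Type u} [∀ g, CommRing (Rₚ g)] [∀ g, Algebra O (Rₚ g)]
    [∀ g : s, IsLocalization.Away g.1 (Rₚ g)]
    {Mₚ : s → Type u} [∀ g, AddCommGroup (Mₚ g)] [∀ g, Module O (Mₚ g)]
    [∀ g, Module (Rₚ g) (Mₚ g)] [∀ g, IsScalarTower O (Rₚ g) (Mₚ g)]
    (f : ∀ g : s, M →ₗ[O] Mₚ g) [∀ g : s, IsLocalizedModule (Submonoid.powers g.1) (f g)]
    (H : ∀ g : s, Module.Projective (Rₚ g) (Mₚ g)) : Module.Projective O M := by
  classical
  obtain ⟨t, hts, ht⟩ := (Ideal.span_eq_top_iff_finite s).1 hs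
  let c : t → s := fun i => ⟨i.1, hts i.2⟩
  haveI : ∀ i : t, IsLocalization.Away i.1 (Rₚ (c i)) := fun i =>
    inferInstanceAs (IsLocalization.Away (c i).1 (Rₚ (c i)))
  haveI := faithfullyFlat_pi_away t ht (fun i => Rₚ (c i))
  refine projective_of_forall_projective (I := t) (fun i => Rₚ (c i)) (fun i => Mₚ (c i))
    (fun i => f (c i)) (fun i => ?_) (fun i => H (c i))
  exact IsLocalizedModule.isBaseChange (Submonoid.powers (c i).1) (Rₚ (c i)) (f (c i))

end Span

end Groth.Agent.Lib.T2H2.ProjLoc
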