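import Mathlib
import Groth.Agent.Lib.T2H2ProjLocA
import Groth.Agent.Lib.Helper18Strict6

/-!
# Locally projective quasi-coherent modules (helper2)

Namespace `Groth.Agent.Lib.T2H2.ProjLoc`.

* `projective_pullback_sections`: sections of `f^* F` over affine `U ≤ f⁻¹ V` are projective if `Γ(F,V)` is.
* `projective_basicOpen`: projectivity of sections passes to basic opens.
* `projective_sections_of_locally`: for quasi-coherent `F` and affine `U`, if every point of `U` has an affine
  neighbourhood with projective sections, `Γ(F,U)` is projective over `Γ(X,U)`.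
* `projective_pullback`: pullbacks of locally projective quasi-coherent modules are locally projective.
-/

set_option autoImplicit false
set_option linter.style.haveILetI false
universe u
open CategoryTheory CategoryTheory.Limits AlgebraicGeometry TopologicalSpace Opposite
open Groth.Agent.Lib.Helper2.FPAff

namespace Groth.Agent.Lib.T2H2.ProjLoc

open Groth.Agent.Lib.Helper20.Thickening Groth.Agent.Lib.Helper20.PullbackAff
  Groth.Agent.Lib.Helper20.OmegaAff in
open TensorProduct in
/-- sections of the pullback of a module with projective sections. -/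
theorem projective_pullback_sections {T S : Scheme.{u}} (f : T ⟶ S) (F : S.Modules)
    [F.IsQuasicoherent] {V : S.Opens} (hV : IsAffineOpen V) {U : T.Opens}
    (hU : IsAffineOpen U) (h : U ≤ f ⁻¹ᵁ V) [Module.Projective Γ(S, V) Γ(F, V)] :
    Module.Projective Γ(T, U) Γ((Scheme.Modules.pullback f).obj F, U) := by
  letI : Algebra Γ(S, V) Γ(T, U) := (f.appLE V U h).hom.toAlgebra
  let e1 : Γ((Scheme.Modules.pullback f).obj F, U) ≃ₗ[Γ(T, U)]
      (ΓUF hU).obj ((Scheme.Modules.pullback f).obj F) := ΓUEquiv hU _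
  let e2 : (ΓUF hU).obj ((Scheme.Modules.pullback f).obj F) ≃ₗ[Γ(T, U)]
      (Γ(T, U) ⊗[Γ(S, V)] ((ΓUF hV).obj F)) := (ΓUFPullbackIso f hV hU h F).toLinearEquiv
  let e3 : Γ(F, V) ≃ₗ[Γ(S, V)] (ΓUF hV).obj F := ΓUEquiv hV F
  haveI : Module.Projective Γ(S, V) ((ΓUF hV).obj F) := Module.Projective.of_equiv' e3
  exact Module.Projective.of_equiv' (e1.trans e2).symm

variable {X : Scheme.{u}}

open TensorProduct in
/-- projectivity passes to basic opens. -/
theorem projective_basicOpen (F : X.Modules) [F.IsQuasicoherent] {U : X.Opens}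
    (hU : IsAffineOpen U) (f : Γ(X, U)) [Module.Projective Γ(X, U) Γ(F, U)] :
    Module.Projective Γ(X, X.basicOpen f) Γ(F, X.basicOpen f) := by
  letI := moduleRes F (X.basicOpen_le f)
  haveI := isScalarTower_basicOpen F f
  haveI := isLocalizedModule_basicOpen F hU f
  haveI : IsLocalization.Away f Γ(X, X.basicOpen f) := hU.isLocalization_basicOpen f
  have hbc : IsBaseChange Γ(X, X.basicOpen f) (resₗ F (X.basicOpen_le f)) :=
    IsLocalizedModule.isBaseChange (Submonoid.powers f) Γ(X, X.basicOpen f) _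
  exact Module.Projective.of_equiv' hbc.equiv

/-- for quasi-coherent `F`, projectivity of sections over an affine open can be checked locally. -/
theorem projective_sections_of_locally (F : X.Modules) [F.IsQuasicoherent] {U : X.Opens}
    (hU : IsAffineOpen U)
    (H : ∀ x ∈ U, ∃ U' : X.Opens, IsAffineOpen U' ∧ x ∈ U' ∧
      Module.Projective Γ(X, U') Γ(F, U')) :
    Module.Projective Γ(X, U) Γ(F, U) := by
  let s : Set Γ(X, U) :=
    {f | Module.Projective Γ(X, X.basicOpen f) Γ(F, X.basicOpen f)}
  have hs : Ideal.span s = ⊤ := by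
    by_contra hne
    obtain ⟨P, hP, hle⟩ := Ideal.exists_le_maximal _ hne
    let x : X := hU.fromSpec ⟨P, hP.isPrime⟩
    have hxU : x ∈ U := Groth.Agent.Lib.Helper2.QCoh.fromSpec_mem hU _
    obtain ⟨U', hU', hxU', hproj⟩ := H x hxU
    obtain ⟨f, g, hfg, hxf⟩ :=
      exists_basicOpen_le_affine_inter hU hU' x ⟨hxU, hxU'⟩
    have h1 : Module.Projective Γ(X, X.basicOpen g) Γ(F, X.basicOpen g) :=
      projective_basicOpen F hU' g
    have h2 : Module.Projective Γ(X, X.basicOpen f) Γ(F, X.basicOpen f) := by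
      rw [hfg]; exact h1
    have hfP : f ∈ P := hle (Ideal.subset_span h2)
    have hnot : f ∉ (hU.primeIdealOf ⟨x, hxU⟩).asIdeal :=
      (Groth.Agent.Lib.Helper2.mem_basicOpen_iff_notMem_primeIdealOf hU x hxU f).1 hxf
    rw [Groth.Agent.Lib.Helper2.QCoh.primeIdealOf_fromSpec hU] at hnot
    exact hnot hfP
  letI : ∀ g : s, Module Γ(X, U) Γ(F, X.basicOpen g.1) := fun g => moduleRes F (X.basicOpen_le g.1)
  haveI : ∀ g : s, IsScalarTower Γ(X, U) Γ(X, X.basicOpen g.1) Γ(F, X.basicOpen g.1) :=
    fun g => isScalarTower_basicOpen F g.1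
  haveI : ∀ g : s, IsLocalization.Away g.1 Γ(X, X.basicOpen g.1) :=
    fun g => hU.isLocalization_basicOpen g.1
  haveI : ∀ g : s, IsLocalizedModule (Submonoid.powers g.1) (resₗ F (X.basicOpen_le g.1)) :=
    fun g => isLocalizedModule_basicOpen F hU g.1
  exact projective_of_localizationSpan' s hs
    (Rₚ := fun g => Γ(X, X.basicOpen g.1)) (Mₚ := fun g => Γ(F, X.basicOpen g.1))
    (fun g => resₗ F (X.basicOpen_le g.1)) (fun g => g.2)

/-- pullbacks of locally projective quasi-coherent modules are locally projective. -/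
theorem projective_pullback {X Y : Scheme.{u}} (f : X ⟶ Y) (G : Y.Modules) [G.IsQuasicoherent]
    (hG : ∀ V : Y.Opens, IsAffineOpen V → Module.Projective Γ(Y, V) Γ(G, V))
    {U : X.Opens} (hU : IsAffineOpen U) :
    Module.Projective Γ(X, U) Γ((Scheme.Modules.pullback f).obj G, U) := by
  refine projective_sections_of_locally _ hU fun x _ => ?_
  obtain ⟨V, hV, hyV, -⟩ := exists_isAffineOpen_mem_and_subset (x := f x) (U := ⊤) trivial
  obtain ⟨U', hU', hxU', hUV⟩ := exists_isAffineOpen_mem_and_subset (x := x) (U := f ⁻¹ᵁ V) hyV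
  haveI := hG V hV
  exact ⟨U', hU', hxU', projective_pullback_sections f G hV hU' hUV⟩

end Groth.Agent.Lib.T2H2.ProjLoc
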