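import Mathlib

set_option autoImplicit false
universe u

namespace Groth.Agent.Lib.T2H2.PureDesc

open TensorProduct

section AssFlat
variable {F F₂ : Type u} [CommRing F] [CommRing F₂] [Algebra F F₂] [Module.Flat F F₂]
  [IsNoetherianRing F] [IsNoetherianRing F₂]
  {V V₂ : Type u} [AddCommGroup V] [Module F V] [AddCommGroup V₂] [Module F₂ V₂] [Module F V₂]
  [IsScalarTower F F₂ V₂]

/-- Associated primes lift along a flat extension of noetherian rings, given that the
extended ideal is proper. -/
theorem exists_ass_over (g : V →ₗ[F] V₂) (hg : IsBaseChange F₂ g) (𝔮 : Ideal F)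
    (h𝔮 : 𝔮 ∈ associatedPrimes F V) (hne : 𝔮.map (algebraMap F F₂) ≠ ⊤) :
    ∃ 𝔮₂ ∈ associatedPrimes F₂ V₂, 𝔮₂.comap (algebraMap F F₂) = 𝔮 := by
  obtain ⟨hprime, φ, hφ⟩ := (isAssociatedPrime_iff_exists_injective_linearMap 𝔮 V).1 h𝔮
  let W := F₂ ⊗[F] (F ⧸ 𝔮)
  -- the injection W → V₂
  let Φ : W →ₗ[F₂] V₂ := hg.equiv.toLinearMap ∘ₗ (LinearMap.baseChange F₂ φ)
  have hΦ : Function.Injective Φ := by
    refine hg.equiv.injective.comp ?_
    exact Module.Flat.lTensor_preserves_injective_linearMap φ hφ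
  -- W is nontrivial
  have hW : Nontrivial W := by
    let e := TensorProduct.tensorQuotEquivQuotSMul F₂ 𝔮
    have : Nontrivial (F₂ ⧸ (𝔮 • ⊤ : Submodule F F₂)) := by
      rw [Submodule.Quotient.nontrivial_iff]
      intro h
      apply hne
      rw [Ideal.smul_top_eq_map] at h
      rw [Ideal.eq_top_iff_one]
      have h1 : (1 : F₂) ∈ (Ideal.map (algebraMap F F₂) 𝔮).restrictScalars F := by rw [h]; trivial
      exact h1
    exact e.toEquiv.nontrivial
  obtain ⟨𝔮₂, h𝔮₂⟩ := associatedPrimes.nonempty F₂ W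
  refine ⟨𝔮₂, associatedPrimes.subset_of_injective hΦ h𝔮₂, ?_⟩
  have hprime₂ : 𝔮₂.IsPrime := h𝔮₂.isPrime
  apply le_antisymm
  · intro a ha
    by_contra hna
    obtain ⟨_, w, hw⟩ := (isAssociatedPrime_iff).1 h𝔮₂
    have hw0 : w ≠ 0 := by
      intro h0
      apply hprime₂.ne_top
      rw [hw, h0, Ideal.eq_top_iff_one, Submodule.mem_colon_singleton]
      simp
    have haw : algebraMap F F₂ a • w = 0 := by
      have : algebraMap F F₂ a ∈ (⊥ : Submodule F₂ W).colon {w} := hw ▸ ha
      rwa [Submodule.mem_colon_singleton, Submodule.mem_bot] at this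
    -- multiplication by a on F ⧸ 𝔮 is injective
    let μ : (F ⧸ 𝔮) →ₗ[F] (F ⧸ 𝔮) := LinearMap.lsmul F (F ⧸ 𝔮) a
    have hμ : Function.Injective μ := by
      have : IsDomain (F ⧸ 𝔮) := Ideal.Quotient.isDomain 𝔮
      intro x y hxy
      simp only [μ, LinearMap.lsmul_apply, Algebra.smul_def] at hxy
      refine mul_left_cancel₀ ?_ hxy
      rw [Ideal.Quotient.algebraMap_eq, Ne, Ideal.Quotient.eq_zero_iff_mem]
      exact hna
    have hμ₂ : Function.Injective (μ.lTensor F₂) :=
      Module.Flat.lTensor_preserves_injective_linearMap μ hμ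
    apply hw0
    apply hμ₂
    rw [map_zero, ← haw]
    clear haw hw hw0
    induction w using TensorProduct.induction_on with
    | zero => simp
    | tmul s q => 
      rw [LinearMap.lTensor_tmul, algebraMap_smul, TensorProduct.smul_tmul', TensorProduct.smul_tmul]
      rfl
    | add x y hx hy => rw [map_add, smul_add, hx, hy]
  · intro a ha
    rw [Ideal.mem_comap]
    apply h𝔮₂.annihilator_le
    rw [Submodule.mem_annihilator]
    intro w hwtop
    clear hwtop
    induction w using TensorProduct.induction_on with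
    | zero => simp
    | tmul s q =>
      rw [algebraMap_smul, TensorProduct.smul_tmul', TensorProduct.smul_tmul]
      obtain ⟨q, rfl⟩ := Ideal.Quotient.mk_surjective q
      have : a • (Ideal.Quotient.mk 𝔮 q) = 0 := by
        rw [Algebra.smul_def, Ideal.Quotient.algebraMap_eq, ← map_mul,
          Ideal.Quotient.eq_zero_iff_mem]
        exact Ideal.mul_mem_right _ _ ha
      rw [this, tmul_zero]
    | add x y hx hy => rw [smul_add, hx, hy, add_zero]

end AssFlat

end Groth.Agent.Lib.T2H2.PureDesc
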