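import Mathlib
import Groth.Prelude.Def_FlatCA
import Groth.Agent.Lib.T2H2DevBC2
import Groth.Agent.Lib.T2H2DevBC5
import Groth.Agent.Lib.T2H2PureDesc

set_option autoImplicit false
set_option linter.style.haveILetI false
set_option linter.unusedSectionVars false
universe u

namespace Groth.Agent.Lib.T2H2.PureDesc2

open TensorProduct FlatMor

attribute [local instance] Algebra.TensorProduct.rightAlgebra

theorem finiteType_of_isPushout {S C S' C' : Type u} [CommRing S] [CommRing C]
    [CommRing S'] [CommRing C'] [Algebra S C] [Algebra S S'] [Algebra C C'] [Algebra S' C']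
    [Algebra S C'] [IsScalarTower S S' C'] [IsScalarTower S C C']
    (hSC' : Algebra.IsPushout S S' C C') [Algebra.FiniteType S C] :
    Algebra.FiniteType S' C' := by
  haveI := hSC'
  exact Algebra.FiniteType.equiv inferInstance (Algebra.IsPushout.equiv S S' C C')

section
variable {R : Type u} [CommRing R] (p : Ideal R) [p.IsPrime] {S : Type u} [CommRing S]
  [Algebra R S]

lemma comap_fiberIdeal (q : Ideal S) [q.IsPrime] [q.LiesOver p] :
    (FlatCA.fiberIdeal p q).comap
      (Algebra.TensorProduct.includeRight (R := R) (A := p.ResidueField) (B := S)).toRingHom = q := by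
  apply le_antisymm
  · let Q : p.primesOver S := ⟨q, ⟨inferInstance, inferInstance⟩⟩
    let 𝔓 := (PrimeSpectrum.primesOverOrderIsoFiber R S p) Q
    have h1 : 𝔓.1.comap Algebra.TensorProduct.includeRight = q := by
      have := PrimeSpectrum.coe_primesOverOrderIsoFiber_symm_apply (R := R) (S := S) (p := p) 𝔓
      rw [OrderIso.symm_apply_apply] at this
      exact this.symm
    have h2 : FlatCA.fiberIdeal p q ≤ 𝔓.1 := by
      unfold FlatCA.fiberIdeal
      rw [Ideal.map_le_iff_le_comap]
      exact h1.symm.le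
    calc (FlatCA.fiberIdeal p q).comap _ ≤ 𝔓.1.comap _ := Ideal.comap_mono h2
      _ = q := h1
  · exact Ideal.le_comap_map

/-- The contraction of a prime of the fibre ring lies over `p`. -/
lemma comap_liesOver (𝔮 : Ideal (p.Fiber S)) [𝔮.IsPrime] :
    (𝔮.comap (Algebra.TensorProduct.includeRight (R := R) (A := p.ResidueField)
      (B := S)).toRingHom).LiesOver p := by
  constructor
  ext r
  rw [Ideal.under_def, Ideal.mem_comap, Ideal.mem_comap]
  have h1 : (Algebra.TensorProduct.includeRight (R := R) (A := p.ResidueField) (B := S)).toRingHom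
      (algebraMap R S r) = algebraMap p.ResidueField (p.Fiber S) (algebraMap R p.ResidueField r) := by
    change (1 : p.ResidueField) ⊗ₜ[R] (algebraMap R S r) = (algebraMap R p.ResidueField r) ⊗ₜ[R] (1 : S)
    rw [Algebra.algebraMap_eq_smul_one, Algebra.algebraMap_eq_smul_one, TensorProduct.smul_tmul]
  rw [h1]
  constructor
  · intro hr
    rw [Ideal.algebraMap_residueField_eq_zero.2 hr, map_zero]
    exact Ideal.zero_mem _
  · intro h
    by_contra hr
    have hne : algebraMap R p.ResidueField r ≠ 0 := by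
      rwa [Ne, Ideal.algebraMap_residueField_eq_zero]
    have hu : IsUnit (algebraMap p.ResidueField (p.Fiber S) (algebraMap R p.ResidueField r)) :=
      (isUnit_iff_ne_zero.2 hne).map _
    exact (Ideal.IsPrime.ne_top inferInstance) (Ideal.eq_top_of_isUnit_mem _ h hu)

end

section AbstractBC
variable {S S' T T' : Type u} [CommRing S] [CommRing S'] [CommRing T] [CommRing T']
  [Algebra S S'] [Algebra S T] [Algebra S' T'] [Algebra T T'] [Algebra S T']
  [IsScalarTower S S' T'] [IsScalarTower S T T']
  {N N' V V' : Type u} [AddCommGroup N] [AddCommGroup N'] [AddCommGroup V] [AddCommGroup V']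
  [Module S N] [Module S' N'] [Module S N'] [IsScalarTower S S' N']
  [Module T V] [Module S V] [IsScalarTower S T V]
  [Module T' V'] [Module S' V'] [IsScalarTower S' T' V'] [Module T V'] [IsScalarTower T T' V']

theorem exists_isBaseChange_fiber (f : N →ₗ[S] N') (hf : IsBaseChange S' f) (a : N →ₗ[S] V)
    (ha : IsBaseChange T a) (a' : N' →ₗ[S'] V') (ha' : IsBaseChange T' a') :
    ∃ h : V →ₗ[T] V', IsBaseChange T' h := by
  letI : Module S V' := Module.compHom V' (algebraMap S T')
  haveI t1 : IsScalarTower S T' V' := ⟨fun x y z => by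
    rw [Algebra.smul_def, mul_smul]
    rfl⟩
  haveI t2 : IsScalarTower S S' V' := ⟨fun x y z => by
    change (x • y) • z = algebraMap S T' x • (y • z)
    rw [Algebra.smul_def, mul_smul, IsScalarTower.algebraMap_apply S S' T',
      algebraMap_smul T' (algebraMap S S' x) (y • z)]⟩
  haveI t3 : IsScalarTower S T V' := ⟨fun x y z => by
    change (x • y) • z = algebraMap S T' x • (y • z)
    rw [Algebra.smul_def, mul_smul, IsScalarTower.algebraMap_apply S T T',
      algebraMap_smul T' (algebraMap S T x) (y • z)]⟩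
  let c : N →ₗ[S] V' := (a'.restrictScalars S).comp f
  have hc : IsBaseChange T' c := hf.comp ha'
  let h : V →ₗ[T] V' := ha.lift c
  refine ⟨h, IsBaseChange.of_comp ha ?_⟩
  have : (h : V →ₗ[S] V') ∘ₗ a = c := ha.lift_comp c
  rw [this]
  exact hc

end AbstractBC

section FibreBC
variable {R R' S S' : Type u} [CommRing R] [CommRing R'] [CommRing S] [CommRing S'] [Algebra R R']
  [Algebra R S] [Algebra R' S'] [Algebra R S'] [Algebra S S'] [IsScalarTower R R' S']
  [IsScalarTower R S S'] [Algebra.IsPushout R R' S S'] [Algebra.FiniteType R S]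
  (p : Ideal R) [p.IsPrime] (p' : Ideal R') [p'.IsPrime] [p'.LiesOver p]
  (N : Type u) [AddCommGroup N] [Module S N]
  (N' : Type u) [AddCommGroup N'] [Module S' N'] [Module S N'] [IsScalarTower S S' N']
  (f : N →ₗ[S] N') (hf : IsBaseChange S' f)

include hf in
theorem exists_ass_fiber_baseChange (P : Ideal S) [P.IsPrime] [P.LiesOver p]
    (hP : FlatCA.fiberIdeal p P ∈ associatedPrimes (p.Fiber S) (FlatCA.fiberMod p S N)) :
    ∃ P' : Ideal S', P'.IsPrime ∧ P'.LiesOver p' ∧ P'.comap (algebraMap S S') = P ∧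
      FlatCA.fiberIdeal p' P' ∈ associatedPrimes (p'.Fiber S') (FlatCA.fiberMod p' S' N') := by
  letI algkk' : Algebra p.ResidueField p'.ResidueField :=
    (Ideal.ResidueField.mapₐ p p' (Algebra.ofId R R') (Ideal.LiesOver.over)).toRingHom.toAlgebra
  haveI tRkk' : IsScalarTower R p.ResidueField p'.ResidueField :=
    IsScalarTower.of_algebraMap_eq fun r =>
      ((Ideal.ResidueField.mapₐ p p' (Algebra.ofId R R') (Ideal.LiesOver.over)).commutes r).symm
  letI algST' : Algebra S (p'.Fiber S') :=
    ((algebraMap S' (p'.Fiber S')).comp (algebraMap S S')).toAlgebra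
  haveI tSS'T' : IsScalarTower S S' (p'.Fiber S') := IsScalarTower.of_algebraMap_eq fun s => rfl
  haveI tkk'T' : IsScalarTower p.ResidueField p'.ResidueField (p'.Fiber S') := inferInstance
  haveI tRST' : IsScalarTower R S (p'.Fiber S') := IsScalarTower.of_algebraMap_eq fun r => by
    rw [IsScalarTower.algebraMap_apply S S' (p'.Fiber S'), ← IsScalarTower.algebraMap_apply R S S',
      IsScalarTower.algebraMap_apply R R' S', ← IsScalarTower.algebraMap_apply R' S' (p'.Fiber S'),
      ← IsScalarTower.algebraMap_apply R R' (p'.Fiber S')]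
  haveI tRkT' : IsScalarTower R p.ResidueField (p'.Fiber S') :=
    IsScalarTower.of_algebraMap_eq fun r => by
      rw [IsScalarTower.algebraMap_apply p.ResidueField p'.ResidueField (p'.Fiber S'),
        ← IsScalarTower.algebraMap_apply R p.ResidueField p'.ResidueField,
        ← IsScalarTower.algebraMap_apply R p'.ResidueField (p'.Fiber S')]
  haveI tRS'T' : IsScalarTower R S' (p'.Fiber S') := IsScalarTower.of_algebraMap_eq fun r => by
    rw [IsScalarTower.algebraMap_apply R R' S', ← IsScalarTower.algebraMap_apply R' S' (p'.Fiber S'),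
      ← IsScalarTower.algebraMap_apply R R' (p'.Fiber S')]
  -- the map of fibre rings
  let ψ : p.Fiber S →ₐ[p.ResidueField] p'.Fiber S' :=
    Algebra.TensorProduct.lift (Algebra.ofId p.ResidueField (p'.Fiber S'))
      (IsScalarTower.toAlgHom R S (p'.Fiber S')) (fun _ _ => Commute.all _ _)
  letI algTT' : Algebra (p.Fiber S) (p'.Fiber S') := ψ.toRingHom.toAlgebra
  haveI tkTT' : IsScalarTower p.ResidueField (p.Fiber S) (p'.Fiber S') :=
    IsScalarTower.of_algebraMap_eq fun a => (ψ.commutes a).symm
  haveI tSTT' : IsScalarTower S (p.Fiber S) (p'.Fiber S') :=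
    IsScalarTower.of_algebraMap_eq fun s => by
      change _ = ψ ((1 : p.ResidueField) ⊗ₜ[R] s)
      simp only [ψ, Algebra.TensorProduct.lift_tmul, map_one, one_mul]
      rfl
  haveI tRTT' : IsScalarTower R (p.Fiber S) (p'.Fiber S') :=
    IsScalarTower.of_algebraMap_eq (R := R) (S := p.Fiber S) (A := p'.Fiber S') fun r => by
      rw [IsScalarTower.algebraMap_apply R p.ResidueField (p.Fiber S),
        ← IsScalarTower.algebraMap_apply p.ResidueField (p.Fiber S) (p'.Fiber S'),
        ← IsScalarTower.algebraMap_apply R p.ResidueField (p'.Fiber S')]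
  have hpoA : Algebra.IsPushout R p'.ResidueField S (p'.Fiber S') :=
    (Algebra.IsPushout.comp_iff R R' S (S' := S') (T := p'.ResidueField)
      (T' := p'.Fiber S')).mpr inferInstance
  have hpoB : Algebra.IsPushout p.ResidueField p'.ResidueField (p.Fiber S) (p'.Fiber S') :=
    (Algebra.IsPushout.comp_iff R p.ResidueField S (S' := p.Fiber S) (T := p'.ResidueField)
      (T' := p'.Fiber S')).mp hpoA
  haveI hpoC : Algebra.IsPushout p.ResidueField (p.Fiber S) p'.ResidueField (p'.Fiber S') :=
    hpoB.symm
  -- flatness and noetherianity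
  haveI : Module.Flat (p.Fiber S) (p'.Fiber S') :=
    Module.Flat.isBaseChange (R := p.ResidueField) (M := p'.ResidueField) (S := p.Fiber S)
      (p'.Fiber S') hpoC.out
  haveI : Algebra.FiniteType p.ResidueField (p.Fiber S) :=
    inferInstanceAs (Algebra.FiniteType p.ResidueField (p.ResidueField ⊗[R] S))
  haveI : IsNoetherianRing (p.Fiber S) := Algebra.FiniteType.isNoetherianRing p.ResidueField _
  haveI : Algebra.FiniteType p'.ResidueField (p'.Fiber S') := finiteType_of_isPushout hpoB
  haveI : IsNoetherianRing (p'.Fiber S') := Algebra.FiniteType.isNoetherianRing p'.ResidueField _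
  -- the base change map of fibre modules
  letI modTV' : Module (p.Fiber S) (FlatCA.fiberMod p' S' N') :=
    Module.compHom (FlatCA.fiberMod p' S' N') (algebraMap (p.Fiber S) (p'.Fiber S'))
  haveI test4 : IsScalarTower (p.Fiber S) (p'.Fiber S') (FlatCA.fiberMod p' S' N') :=
    ⟨fun x y z => by
      rw [Algebra.smul_def, mul_smul]
      rfl⟩
  haveI : IsScalarTower S' (p'.Fiber S') (FlatCA.fiberMod p' S' N') :=
    inferInstanceAs (IsScalarTower S' (p'.Fiber S') ((p'.Fiber S') ⊗[S'] N'))
  haveI : IsScalarTower S (p.Fiber S) (FlatCA.fiberMod p S N) :=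
    inferInstanceAs (IsScalarTower S (p.Fiber S) ((p.Fiber S) ⊗[S] N))
  have test1 : IsScalarTower S (p.Fiber S) (FlatCA.fiberMod p S N) := inferInstance
  have test2 : IsScalarTower S' (p'.Fiber S') (FlatCA.fiberMod p' S' N') := inferInstance
  obtain ⟨h, hh⟩ := @exists_isBaseChange_fiber S S' (p.Fiber S) (p'.Fiber S') _ _ _ _ _ _ _ _ _ _ _
    N N' (FlatCA.fiberMod p S N) (FlatCA.fiberMod p' S' N') _ _ _ _ _ _ _ _ _ _ (by exact test1)
    _ _ (by exact test2) modTV' (by exact test4) f hf
    (TensorProduct.mk S (p.Fiber S) N 1) (TensorProduct.isBaseChange S N (p.Fiber S))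
    (TensorProduct.mk S' (p'.Fiber S') N' 1) (TensorProduct.isBaseChange S' N' (p'.Fiber S'))
  -- properness of the extended ideal
  have hprime : (FlatCA.fiberIdeal p P).IsPrime := hP.isPrime
  have hne : (FlatCA.fiberIdeal p P).map (algebraMap (p.Fiber S) (p'.Fiber S')) ≠ ⊤ := by
    obtain ⟨𝔔, h𝔔, -, h2⟩ := Groth.Agent.Lib.T2H2.DevBC5.exists_prime_of_isPushout
      (R := p.ResidueField) (A := p'.ResidueField) (B := p.Fiber S) (T := p'.Fiber S')
      (⊥ : Ideal p'.ResidueField) (FlatCA.fiberIdeal p P) (by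
        rw [Ideal.under_def, Ideal.under_def]
        have e1 : ∀ I : Ideal p.ResidueField, I ≠ ⊤ → I = ⊥ := fun I hI =>
          (Ideal.eq_bot_or_top I).resolve_right hI
        rw [e1 _ (Ideal.comap_ne_top _ Ideal.isPrime_bot.ne_top),
          e1 _ (Ideal.comap_ne_top _ hprime.ne_top)])
    intro htop
    apply h𝔔.ne_top
    rw [eq_top_iff, ← htop, Ideal.map_le_iff_le_comap, h2]
  obtain ⟨𝔮', h𝔮', hcomap⟩ := @Groth.Agent.Lib.T2H2.PureDesc.exists_ass_over (p.Fiber S)
    (p'.Fiber S') _ _ _ _ _ _ (FlatCA.fiberMod p S N) (FlatCA.fiberMod p' S' N') _ _ _ _ modTV'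
    (by exact test4) h hh (FlatCA.fiberIdeal p P) hP hne
  haveI : 𝔮'.IsPrime := h𝔮'.isPrime
  refine ⟨𝔮'.comap (Algebra.TensorProduct.includeRight (R := R') (A := p'.ResidueField)
      (B := S')).toRingHom, Ideal.comap_isPrime _ _, comap_liesOver p' 𝔮', ?_, ?_⟩
  · have e1 : (𝔮'.comap (Algebra.TensorProduct.includeRight (R := R') (A := p'.ResidueField)
        (B := S')).toRingHom).comap (algebraMap S S') =
        (𝔮'.comap (algebraMap (p.Fiber S) (p'.Fiber S'))).comap
          (Algebra.TensorProduct.includeRight (R := R) (A := p.ResidueField) (B := S)).toRingHom := by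
      rw [Ideal.comap_comap, Ideal.comap_comap]
      congr 1
      ext s
      simp only [RingHom.coe_comp, Function.comp_apply]
      change algebraMap S' (p'.Fiber S') (algebraMap S S' s) =
        algebraMap (p.Fiber S) (p'.Fiber S') (algebraMap S (p.Fiber S) s)
      rw [← IsScalarTower.algebraMap_apply S S' (p'.Fiber S'),
        ← IsScalarTower.algebraMap_apply S (p.Fiber S) (p'.Fiber S')]
    rw [e1, hcomap, comap_fiberIdeal]
  · rw [← Groth.Agent.Lib.T2H2.DevBC2.eq_fiberIdeal_comap p' 𝔮']
    exact h𝔮'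

end FibreBC

end Groth.Agent.Lib.T2H2.PureDesc2
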