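import Mathlib
import Groth.Agent.Lib.Helper18StdEtaleCover

set_option autoImplicit false
set_option linter.style.haveILetI false
set_option linter.unusedSectionVars false
universe u

namespace Groth.Agent.Lib.T2H2.PureDesc3

open TensorProduct

theorem exists_primes_goingDown {A A' A₁ A₂ : Type u} [CommRing A] [CommRing A'] [CommRing A₁]
    [CommRing A₂] [Algebra A A'] [Algebra A A₁] [Algebra A' A₂] [Algebra A₁ A₂] [Algebra A A₂]
    [IsScalarTower A A' A₂] [IsScalarTower A A₁ A₂] [Algebra.IsPushout A A' A₁ A₂]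
    (p' : Ideal A') [p'.IsPrime] [Module.Flat A (Localization.AtPrime p')]
    (t' t : Ideal A₁) [t'.IsPrime] [t.IsPrime] (hle : t' ≤ t) (h : t.under A = p'.under A) :
    ∃ t₂' t₂ : Ideal A₂, t₂'.IsPrime ∧ t₂.IsPrime ∧ t₂' ≤ t₂ ∧
      t₂.comap (algebraMap A' A₂) = p' ∧ t₂.comap (algebraMap A₁ A₂) = t ∧
      t₂'.comap (algebraMap A₁ A₂) = t' := by
  let L' := Localization.AtPrime p'
  let M := A₁ ⊗[A] L'
  -- a prime of M over t and the maximal ideal of L'
  have hm : (IsLocalRing.maximalIdeal L').under A = p'.under A := by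
    rw [Ideal.under_def, Ideal.under_def, IsScalarTower.algebraMap_eq A A' L', ← Ideal.comap_comap,
      ← Ideal.under_def A' (IsLocalRing.maximalIdeal L'), Localization.AtPrime.under_maximalIdeal]
  obtain ⟨tM, htM, htM1, htM2⟩ := Groth.Agent.Lib.Helper18StdEtaleCover.exists_prime_tensor A A₁ L'
    t (IsLocalRing.maximalIdeal L') (h.trans hm.symm)
  -- going down in the flat extension A₁ → M
  haveI : tM.LiesOver t := ⟨by rw [Ideal.under_def]; exact htM1.symm⟩
  obtain ⟨tM', htM'le, htM'prime, htM'over⟩ :=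
    Ideal.exists_ideal_le_liesOver_of_le (S := M) (p := t') (q := t) tM hle
  -- the map A₂ → M
  let f : A' →ₐ[A] M := (Algebra.TensorProduct.includeRight : L' →ₐ[A] M).comp
    (IsScalarTower.toAlgHom A A' L')
  let g : A₁ →ₐ[A] M := Algebra.TensorProduct.includeLeft
  let φ : A₂ →ₐ[A] M := Algebra.pushoutDesc A₂ f g (fun _ _ => Commute.all _ _)
  have hφl : ∀ x : A', φ (algebraMap A' A₂ x) = f x := fun x =>
    Algebra.pushoutDesc_left A₂ f g _ x
  have hφr : ∀ y : A₁, φ (algebraMap A₁ A₂ y) = g y := fun y =>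
    Algebra.pushoutDesc_right A₂ f g _ y
  refine ⟨tM'.comap φ.toRingHom, tM.comap φ.toRingHom, Ideal.comap_isPrime _ _,
    Ideal.comap_isPrime _ _, Ideal.comap_mono htM'le, ?_, ?_, ?_⟩
  · rw [Ideal.comap_comap]
    have e : (φ.toRingHom.comp (algebraMap A' A₂)) = f.toRingHom := RingHom.ext hφl
    rw [e]
    change Ideal.comap ((Algebra.TensorProduct.includeRight : L' →ₐ[A] M).toRingHom.comp
      (algebraMap A' L')) tM = p'
    rw [← Ideal.comap_comap]
    have : Ideal.comap (Algebra.TensorProduct.includeRight : L' →ₐ[A] M).toRingHom tM =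
        IsLocalRing.maximalIdeal L' := htM2
    rw [this, ← Ideal.under_def, Localization.AtPrime.under_maximalIdeal]
  · rw [Ideal.comap_comap]
    have e : (φ.toRingHom.comp (algebraMap A₁ A₂)) = g.toRingHom := RingHom.ext hφr
    rw [e]
    exact htM1
  · rw [Ideal.comap_comap]
    have e : (φ.toRingHom.comp (algebraMap A₁ A₂)) = g.toRingHom := RingHom.ext hφr
    rw [e]
    have := htM'over.over
    rw [Ideal.under_def] at this
    exact this.symm

end Groth.Agent.Lib.T2H2.PureDesc3
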