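import Mathlib
import Groth.Prelude.Def_FlatCA
import Groth.Agent.Lib.T2H2DevBC2

set_option autoImplicit false
set_option linter.style.haveILetI false
set_option linter.unusedSectionVars false
universe u

namespace Groth.Agent.Lib.T2H2.PureDesc4

open TensorProduct FlatMor

theorem etale_of_isPushout {S C S' C' : Type u} [CommRing S] [CommRing C]
    [CommRing S'] [CommRing C'] [Algebra S C] [Algebra S S'] [Algebra C C'] [Algebra S' C']
    [Algebra S C'] [IsScalarTower S S' C'] [IsScalarTower S C C']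
    (hSC' : Algebra.IsPushout S S' C C') [Algebra.Etale S C] :
    Algebra.Etale S' C' := by
  haveI := hSC'
  exact Algebra.Etale.of_equiv (Algebra.IsPushout.equiv S S' C C')

theorem isEtaleNhd_baseChange {A A' A₁ A₂ : Type u} [CommRing A] [CommRing A'] [CommRing A₁]
    [CommRing A₂] [Algebra A A'] [Algebra A A₁] [Algebra A' A₂] [Algebra A₁ A₂] [Algebra A A₂]
    [IsScalarTower A A' A₂] [IsScalarTower A A₁ A₂] [Algebra.IsPushout A A₁ A' A₂]
    (p : Ideal A) [p.IsPrime] (t : Ideal A₁) [t.IsPrime] (het : FlatCA.IsEtaleNhd A A₁ p t)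
    (p' : Ideal A') [p'.IsPrime] (t₂ : Ideal A₂) [t₂.IsPrime]
    (h1 : t₂.comap (algebraMap A' A₂) = p') (h2 : t₂.comap (algebraMap A₁ A₂) = t) :
    FlatCA.IsEtaleNhd A' A₂ p' t₂ := by
  obtain ⟨hetale, hlo, hbij⟩ := het
  haveI : Algebra.Etale A' A₂ :=
    etale_of_isPushout (S := A) (C := A₁) (S' := A') (C' := A₂)
      (Algebra.IsPushout.symm inferInstance)
  haveI hlo2 : t₂.LiesOver t := ⟨by rw [Ideal.under_def]; exact h2.symm⟩
  have hlo' : t₂.LiesOver p' := ⟨by rw [Ideal.under_def]; exact h1.symm⟩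
  refine ⟨inferInstance, hlo', ?_⟩
  constructor
  · exact RingHom.injective _
  · have := Groth.Agent.Lib.T2H2.DevBC2.residueField_map_surjective (R := A) (R' := A₁) p t
      hbij.2 (B := A') (B' := A₂) p' t₂ h1.symm
    exact this

end Groth.Agent.Lib.T2H2.PureDesc4
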