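import Mathlib
import Groth.Prelude.Def_FlatCA
import Groth.Agent.Lib.T2H2PureDesc2
import Groth.Agent.Lib.T2H2PureDesc3
import Groth.Agent.Lib.T2H2PureDesc4

set_option autoImplicit false
set_option linter.style.haveILetI false
set_option linter.unusedSectionVars false
universe u

namespace Groth.Agent.Lib.T2H2.PureDesc5

open TensorProduct FlatMor

attribute [local instance] Algebra.TensorProduct.rightAlgebra

section Cube
variable (A B A' B' A₁ B₁ : Type u) [CommRing A] [CommRing B] [Algebra A B]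
  [CommRing A'] [CommRing B'] [Algebra A A'] [Algebra B B'] [Algebra A' B'] [Algebra A B']
  [IsScalarTower A B B'] [IsScalarTower A A' B'] [Algebra.IsPushout A B A' B']
  [CommRing A₁] [CommRing B₁] [Algebra A A₁] [Algebra B B₁] [Algebra A₁ B₁] [Algebra A B₁]
  [IsScalarTower A B B₁] [IsScalarTower A A₁ B₁] [Algebra.IsPushout A B A₁ B₁]

/-- `A₂ = A' ⊗_A A₁`. -/
abbrev A2 : Type u := A' ⊗[A] A₁
/-- `B₂ = B' ⊗_{A'} A₂`. -/
abbrev B2 : Type u := B' ⊗[A'] (A' ⊗[A] A₁)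

instance towerABB2 : IsScalarTower A B (B2 A A' B' A₁) :=
  IsScalarTower.of_algebraMap_eq (R := A) (S := B) (A := B2 A A' B' A₁) fun a => by
    change (algebraMap A B' a) ⊗ₜ[A'] (1 : A2 A A' A₁) = (algebraMap B B' (algebraMap A B a)) ⊗ₜ[A'] 1
    rw [← IsScalarTower.algebraMap_apply A B B']

instance towerAA2B2 : IsScalarTower A (A2 A A' A₁) (B2 A A' B' A₁) :=
  IsScalarTower.of_algebraMap_eq (R := A) (S := A2 A A' A₁) (A := B2 A A' B' A₁) fun a => by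
    change (algebraMap A B' a) ⊗ₜ[A'] (1 : A2 A A' A₁) =
      (1 : B') ⊗ₜ[A'] ((algebraMap A A' a) ⊗ₜ[A] (1 : A₁))
    have : (algebraMap A A' a) ⊗ₜ[A] (1 : A₁) = (algebraMap A A' a) • ((1 : A') ⊗ₜ[A] (1 : A₁)) := by
      rw [TensorProduct.smul_tmul', smul_eq_mul, mul_one]
    rw [this, ← TensorProduct.smul_tmul, Algebra.smul_def, mul_one,
      ← IsScalarTower.algebraMap_apply A A' B']
    rfl

theorem exists_cube : ∃ (i1 : Algebra A₁ (B2 A A' B' A₁)) (i2 : Algebra B₁ (B2 A A' B' A₁)),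
    (letI := i1; letI := i2;
      ∃ (_ : IsScalarTower A₁ (A2 A A' A₁) (B2 A A' B' A₁))
        (_ : IsScalarTower A₁ B₁ (B2 A A' B' A₁)),
      IsScalarTower B B₁ (B2 A A' B' A₁) ∧
      Algebra.IsPushout A₁ (A2 A A' A₁) B₁ (B2 A A' B' A₁)) := by
  letI i1 : Algebra A₁ (B2 A A' B' A₁) :=
    ((algebraMap (A2 A A' A₁) (B2 A A' B' A₁)).comp (algebraMap A₁ (A2 A A' A₁))).toAlgebra
  haveI t1 : IsScalarTower A₁ (A2 A A' A₁) (B2 A A' B' A₁) :=
    IsScalarTower.of_algebraMap_eq (R := A₁) (S := A2 A A' A₁) (A := B2 A A' B' A₁) fun _ => rfl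
  haveI t0 : IsScalarTower A A₁ (B2 A A' B' A₁) :=
    IsScalarTower.of_algebraMap_eq (R := A) (S := A₁) (A := B2 A A' B' A₁) fun a => by
      rw [IsScalarTower.algebraMap_apply A₁ (A2 A A' A₁) (B2 A A' B' A₁),
        ← IsScalarTower.algebraMap_apply A A₁ (A2 A A' A₁),
        ← IsScalarTower.algebraMap_apply A (A2 A A' A₁) (B2 A A' B' A₁)]
  let φ : B₁ →ₐ[A] B2 A A' B' A₁ :=
    Algebra.pushoutDesc B₁ (IsScalarTower.toAlgHom A B (B2 A A' B' A₁))
      (IsScalarTower.toAlgHom A A₁ (B2 A A' B' A₁)) (fun _ _ => Commute.all _ _)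
  letI i2 : Algebra B₁ (B2 A A' B' A₁) := φ.toRingHom.toAlgebra
  haveI t3 : IsScalarTower B B₁ (B2 A A' B' A₁) :=
    IsScalarTower.of_algebraMap_eq (R := B) (S := B₁) (A := B2 A A' B' A₁) fun b => by
      change _ = φ (algebraMap B B₁ b)
      simp only [φ]
      rw [Algebra.pushoutDesc_left]
      rfl
  haveI t2 : IsScalarTower A₁ B₁ (B2 A A' B' A₁) :=
    IsScalarTower.of_algebraMap_eq (R := A₁) (S := B₁) (A := B2 A A' B' A₁) fun b => by
      change _ = φ (algebraMap A₁ B₁ b)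
      simp only [φ]
      rw [Algebra.pushoutDesc_right]
      rfl
  haveI t4 : IsScalarTower A B₁ (B2 A A' B' A₁) :=
    IsScalarTower.of_algebraMap_eq (R := A) (S := B₁) (A := B2 A A' B' A₁) fun a => by
      rw [IsScalarTower.algebraMap_apply A A₁ B₁,
        ← IsScalarTower.algebraMap_apply A₁ B₁ (B2 A A' B' A₁),
        ← IsScalarTower.algebraMap_apply A A₁ (B2 A A' B' A₁)]
  refine ⟨i1, i2, t1, t2, t3, ?_⟩
  have hbig : Algebra.IsPushout A (A2 A A' A₁) B (B2 A A' B' A₁) := by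
    have h : Algebra.IsPushout A' (A2 A A' A₁) B' (B2 A A' B' A₁) :=
      Algebra.IsPushout.symm inferInstance
    haveI : Algebra.IsPushout A A' B B' := Algebra.IsPushout.symm inferInstance
    exact (Algebra.IsPushout.comp_iff A A' B (S' := B') (T := A2 A A' A₁)
      (T' := B2 A A' B' A₁)).mpr h
  haveI : Algebra.IsPushout A A₁ B B₁ := Algebra.IsPushout.symm inferInstance
  exact (Algebra.IsPushout.comp_iff A A₁ B (S' := B₁) (T := A2 A A' A₁)
    (T' := B2 A A' B' A₁)).mp hbig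

end Cube

/-- `N₂ = B₂ ⊗_{B'} N'`. -/
abbrev N2 (A A' B' A₁ N' : Type u) [CommRing A] [CommRing A'] [CommRing B'] [Algebra A A']
    [Algebra A' B'] [CommRing A₁] [Algebra A A₁] [AddCommGroup N'] [Module B' N'] : Type u :=
  (B2 A A' B' A₁) ⊗[B'] N'

section Key
variable {A B : Type u} [CommRing A] [CommRing B] [Algebra A B] [Algebra.FiniteType A B]
    (N : Type u) [AddCommGroup N] [Module B N] (p : Ideal A) [p.IsPrime]
    (A' B' N' : Type u) [CommRing A'] [CommRing B'] [Algebra A A'] [Algebra B B'] [Algebra A' B']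
    [Algebra A B'] [IsScalarTower A B B'] [IsScalarTower A A' B'] [Algebra.IsPushout A B A' B']
    [AddCommGroup N'] [Module B' N'] [Module B N'] [IsScalarTower B B' N'] (f : N →ₗ[B] N')
    (hf : IsBaseChange B' f)
    (p' : Ideal A') [p'.IsPrime] [hp' : p'.LiesOver p] [Module.Flat A (Localization.AtPrime p')]

include hf in
theorem key (A₁ B₁ N₁ : Type u) [CommRing A₁] [CommRing B₁] [Algebra A A₁] [Algebra B B₁]
    [Algebra A₁ B₁] [Algebra A B₁] [IsScalarTower A B B₁] [IsScalarTower A A₁ B₁]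
    [AddCommGroup N₁] [Module B₁ N₁] [Module B N₁] [IsScalarTower B B₁ N₁] [Module A₁ N₁]
    [IsScalarTower A₁ B₁ N₁] (f₁ : N →ₗ[B] N₁) (t' t : Ideal A₁) [t'.IsPrime] [t.IsPrime]
    (P : Ideal B₁) [P.IsPrime] (himp : FlatCA.IsImpurity A B N p A₁ B₁ N₁ f₁ t' t P)
    (C : Prop)
    (H : ∀ (A₂ B₂ N₂ : Type u) [CommRing A₂] [CommRing B₂] [Algebra A' A₂] [Algebra B' B₂]
      [Algebra A₂ B₂] [Algebra A' B₂] [IsScalarTower A' B' B₂] [IsScalarTower A' A₂ B₂]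
      [AddCommGroup N₂] [Module B₂ N₂] [Module B' N₂] [IsScalarTower B' B₂ N₂] [Module A₂ N₂]
      [IsScalarTower A₂ B₂ N₂] (f₂ : N' →ₗ[B'] N₂) (t₂' t₂ : Ideal A₂) [t₂'.IsPrime] [t₂.IsPrime]
      (P₂ : Ideal B₂) [P₂.IsPrime],
      (FlatCA.IsEtaleNhd A A₁ p t → FlatCA.IsEtaleNhd A' A₂ p' t₂) →
      FlatCA.IsImpurity A' B' N' p' A₂ B₂ N₂ f₂ t₂' t₂ P₂ → C) : C := by
  obtain ⟨h1, h2, h3, h4, h5, h6, h7⟩ := himp
  haveI := h1
  obtain ⟨i1, i2, hc⟩ := exists_cube A B A' B' A₁ B₁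
  letI := i1
  letI := i2
  obtain ⟨t1, t2, t3, hpo⟩ := hc
  -- modules
  let f₂ : N' →ₗ[B'] N2 A A' B' A₁ N' := TensorProduct.mk B' (B2 A A' B' A₁) N' 1
  have hf₂ : IsBaseChange (B2 A A' B' A₁) f₂ := TensorProduct.isBaseChange B' N' (B2 A A' B' A₁)
  letI mB1 : Module B₁ (N2 A A' B' A₁ N') :=
    Module.compHom (N2 A A' B' A₁ N') (algebraMap B₁ (B2 A A' B' A₁))
  haveI tB1 : IsScalarTower B₁ (B2 A A' B' A₁) (N2 A A' B' A₁ N') := ⟨fun x y z => by
    rw [Algebra.smul_def, mul_smul (algebraMap B₁ (B2 A A' B' A₁) x) y z]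
    rfl⟩
  -- the link `N₁ → N₂`
  have hex := @Groth.Agent.Lib.T2H2.PureDesc2.exists_isBaseChange_fiber B B' B₁ (B2 A A' B' A₁)
    _ _ _ _ _ _ _ _ _ _ _ N N' N₁ (N2 A A' B' A₁ N') _ _ _ _ _ _ _ _ _ _ _ _ _ _ mB1 tB1
  have hex2 := hex f hf f₁ h2
  have hex3 := hex2 f₂
  obtain ⟨g, hg⟩ := hex3 hf₂
  clear hex hex2 hex3
  -- primes of `A₂`
  have hunder : t.under A = p'.under A := by rw [← h4.over, ← hp'.over]
  obtain ⟨t₂', t₂, ht₂'p, ht₂p, hle₂, hc1, hc2, hc3⟩ :=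
    Groth.Agent.Lib.T2H2.PureDesc3.exists_primes_goingDown (A := A) (A' := A') (A₁ := A₁)
      (A₂ := A2 A A' A₁) p' t' t h3 hunder
  -- the prime of `B₂`
  haveI lo1 : t₂'.LiesOver t' := ⟨by rw [Ideal.under_def]; exact hc3.symm⟩
  haveI : Algebra.FiniteType A₁ B₁ :=
    Groth.Agent.Lib.T2H2.PureDesc2.finiteType_of_isPushout (S := A) (C := B) (S' := A₁) (C' := B₁)
      (Algebra.IsPushout.symm h1)
  haveI := h5
  haveI := hpo
  have hx := @Groth.Agent.Lib.T2H2.PureDesc2.exists_ass_fiber_baseChange A₁ (A2 A A' A₁) B₁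
    (B2 A A' B' A₁) _ _ _ _ _ _ _ i1 i2 t1 t2 hpo _ t' _ t₂' ht₂'p lo1 N₁ _ _ (N2 A A' B' A₁ N')
    _ _ mB1 tB1
  have hx2 := hx g hg P
  obtain ⟨P₂, hP₂p, hP₂lo, hP₂c, hP₂ass⟩ := hx2 h6
  clear hx hx2
  haveI : Algebra.IsPushout A A₁ A' (A2 A A' A₁) := Algebra.IsPushout.symm inferInstance
  have H1 := H (A2 A A' A₁) (B2 A A' B' A₁) (N2 A A' B' A₁ N') f₂ t₂' t₂ P₂
  have hpo2 : Algebra.IsPushout A' B' (A2 A A' A₁) (B2 A A' B' A₁) := inferInstance
  have hlo2 : t₂.LiesOver p' := ⟨by rw [Ideal.under_def]; exact hc1.symm⟩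
  refine H1 ?_ ⟨hpo2, hf₂, hle₂, hlo2, hP₂lo, hP₂ass, ?_⟩
  · intro het
    exact Groth.Agent.Lib.T2H2.PureDesc4.isEtaleNhd_baseChange p t het p' t₂ hc1 hc2
  · intro P' hP'prime hPP' hlo
    refine h7 (P'.comap (algebraMap B₁ (B2 A A' B' A₁))) ?_ ?_
    · rw [← hP₂c]
      exact Ideal.comap_mono hPP'
    · constructor
      rw [Ideal.under_def, Ideal.comap_comap, ← IsScalarTower.algebraMap_eq A₁ B₁ (B2 A A' B' A₁),
        IsScalarTower.algebraMap_eq A₁ (A2 A A' A₁) (B2 A A' B' A₁), ← Ideal.comap_comap,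
        ← Ideal.under_def (A2 A A' A₁) P', ← hlo.over, hc2]

end Key

end Groth.Agent.Lib.T2H2.PureDesc5
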