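import Mathlib
import Groth.Agent.Lib.Helper13Fiber
import Groth.Agent.Lib.Helper3FlatBC

/-!
# Projective modules are universally pure (T2 helper2)
-/

namespace Groth.Agent.Lib.T2H2.PureProj

open Polynomial

universe u

section dom

theorem mem_of_smul_le_domain {D : Type*} [CommRing D] [IsDomain D] (T : Ideal D) [T.IsPrime]
    (c : Ideal D) (hc : c.FG) (hc0 : c ≠ ⊥) (s : D) (h : ∀ x ∈ c, s * x ∈ T * c) : s ∈ T := by
  haveI : Module.Finite D c := Module.Finite.iff_fg.mpr hc
  let f : Module.End D c := algebraMap D (Module.End D c) s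
  have hI : LinearMap.range f ≤ T • (⊤ : Submodule D c) := by
    rintro _ ⟨x, rfl⟩
    rw [Submodule.mem_smul_top_iff]
    change ((s • x : c) : D) ∈ T • c
    rw [Submodule.coe_smul, smul_eq_mul, smul_eq_mul]
    exact h x x.2
  obtain ⟨p, hmonic, -, hcoeff, hp⟩ :=
    LinearMap.exists_monic_and_natDegree_eq_and_coeff_mem_pow_and_aeval_eq_zero D f T hI
  have hp2 : algebraMap D (Module.End D c) (p.eval s) = 0 := by
    rw [← Polynomial.aeval_algebraMap_apply_eq_algebraMap_eval]
    exact hp
  obtain ⟨x, hx, hx0⟩ := Submodule.exists_mem_ne_zero_of_ne_bot hc0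
  have h3 : p.eval s * x = 0 := by
    have := congrArg (fun g : Module.End D c => ((g ⟨x, hx⟩ : c) : D)) hp2
    simpa using this
  have h4 : p.eval s = 0 := by
    rcases mul_eq_zero.mp h3 with h | h
    · exact h
    · exact absurd h hx0
  have h5 : s ^ p.natDegree ∈ T := by
    rw [Polynomial.eval_eq_sum_range, Finset.sum_range_succ, hmonic.coeff_natDegree, one_mul] at h4
    have h6 : s ^ p.natDegree = - ∑ k ∈ Finset.range p.natDegree, p.coeff k * s ^ k := by
      rw [eq_neg_iff_add_eq_zero, add_comm]; exact h4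
    rw [h6]
    apply Ideal.neg_mem_iff _ |>.mpr
    apply Ideal.sum_mem
    intro k hk
    apply Ideal.mul_mem_right
    have hk' : p.natDegree - k ≠ 0 := by
      have := Finset.mem_range.mp hk; omega
    exact Ideal.pow_le_self hk' (hcoeff k)
  exact Ideal.IsPrime.mem_of_pow_mem inferInstance _ h5

end dom

section general

theorem le_of_smul_le {A' : Type*} [CommRing A'] (t' t : Ideal A') [t'.IsPrime] [t.IsPrime]
    (htt : t' ≤ t) (c : Ideal A') (hc : c.FG) (s : A') (hs : s ∉ t)
    (h : ∀ x ∈ c, s * x ∈ t * c ⊔ t') : c ≤ t' := by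
  by_contra hle
  let mk := Ideal.Quotient.mk t'
  have hsurj : Function.Surjective mk := Ideal.Quotient.mk_surjective
  have hker : RingHom.ker mk = t' := Ideal.mk_ker
  haveI : (t.map mk).IsPrime := Ideal.map_isPrime_of_surjective hsurj (by rw [hker]; exact htt)
  have hc0 : c.map mk ≠ ⊥ := by
    intro h0
    apply hle
    rw [Ideal.map_eq_bot_iff_le_ker, hker] at h0
    exact h0
  have hmem : mk s ∈ t.map mk := by
    apply mem_of_smul_le_domain (t.map mk) (c.map mk) (hc.map mk) hc0
    intro x hx
    obtain ⟨y, hy, rfl⟩ := (Ideal.mem_map_iff_of_surjective mk hsurj).mp hx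
    rw [← map_mul]
    have h1 := Ideal.mem_map_of_mem mk (h y hy)
    rw [Ideal.map_sup, Ideal.map_mul] at h1
    have h2 : t'.map mk = ⊥ := by
      rw [Ideal.map_eq_bot_iff_le_ker, hker]
    rw [h2, sup_bot_eq] at h1
    exact h1
  obtain ⟨y, hy, hys⟩ := (Ideal.mem_map_iff_of_surjective mk hsurj).mp hmem
  have h3 : s - y ∈ t' := by
    rw [← hker, RingHom.mem_ker, map_sub, hys, sub_self]
  apply hs
  have : s = (s - y) + y := by ring
  rw [this]
  exact t.add_mem (htt h3) hy

end general

section proj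

variable {A' B' N' : Type*} [CommRing A'] [CommRing B'] [Algebra A' B'] [AddCommGroup N']
  [Module B' N'] [Module A' N'] [IsScalarTower A' B' N']

theorem smul_mem_of_mem_map (t : Ideal A') {θ : B'} (hθ : θ ∈ t.map (algebraMap A' B')) :
    ∀ n : N', θ • n ∈ (t • ⊤ : Submodule A' N') := by
  unfold Ideal.map at hθ
  induction hθ using Submodule.span_induction with
  | mem x hx =>
    obtain ⟨a, ha, rfl⟩ := hx
    intro n
    rw [algebraMap_smul]
    exact Submodule.smul_mem_smul ha trivial
  | zero => intro n; rw [zero_smul]; exact Submodule.zero_mem _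
  | add x y _ _ hx hy => intro n; rw [add_smul]; exact Submodule.add_mem _ (hx n) (hy n)
  | smul b x _ ih =>
    intro n
    rw [smul_eq_mul, mul_comm, mul_smul]
    exact ih (b • n)

theorem map_mem_of_mem_smul_top (I : Ideal A') (φ : N' →ₗ[A'] A') {m : N'}
    (hm : m ∈ (I • ⊤ : Submodule A' N')) : φ m ∈ I := by
  refine Submodule.smul_induction_on hm ?_ ?_
  · intro a ha n _
    rw [map_smul, smul_eq_mul]
    exact Ideal.mul_mem_right _ _ ha
  · intro x y hx hy
    rw [map_add]
    exact I.add_mem hx hy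

theorem mem_smul_top_of_projective [Module.Projective A' N']
    (t' t : Ideal A') [t'.IsPrime] [t.IsPrime] (htt : t' ≤ t) (s : A') (hs : s ∉ t) (θ : B')
    (hθ : θ ∈ t.map (algebraMap A' B')) (y : N')
    (h : s • y - θ • y ∈ (t' • ⊤ : Submodule A' N')) : y ∈ (t' • ⊤ : Submodule A' N') := by
  classical
  obtain ⟨j, hj⟩ := (Module.projective_def' (R := A') (P := N')).mp inferInstance
  set f := j y with hf
  have hy : y = f.sum fun n a => a • n := by
    have := congrArg (fun g : N' →ₗ[A'] N' => g y) hj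
    simp only [LinearMap.comp_apply, LinearMap.id_apply] at this
    rw [← hf, Finsupp.linearCombination_apply] at this
    simpa using this.symm
  let c : Ideal A' := Ideal.span ((f.support.image f : Finset A') : Set A')
  have hcfg : c.FG := ⟨f.support.image f, rfl⟩
  have hfc : ∀ n, f n ∈ c := by
    intro n
    by_cases hn : n ∈ f.support
    · exact Ideal.subset_span (Finset.mem_coe.mpr (Finset.mem_image_of_mem f hn))
    · rw [Finsupp.notMem_support_iff.mp hn]; exact c.zero_mem
  have hθy : θ • y ∈ ((t * c) • ⊤ : Submodule A' N') := by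
    rw [hy, Finsupp.sum, Finset.smul_sum]
    apply Submodule.sum_mem
    intro n _
    rw [smul_comm]
    rw [mul_comm, Submodule.mul_smul]
    exact Submodule.smul_mem_smul (hfc n) (smul_mem_of_mem_map t hθ n)
  have hcoord : ∀ n, s * f n ∈ t * c ⊔ t' := by
    intro n
    let φ : N' →ₗ[A'] A' := (Finsupp.lapply n).comp j
    have h1 : φ (s • y - θ • y) ∈ t' := map_mem_of_mem_smul_top t' φ h
    have h2 : φ (θ • y) ∈ t * c := map_mem_of_mem_smul_top (t * c) φ hθy
    have h3 : φ (s • y - θ • y) = s * f n - φ (θ • y) := by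
      rw [map_sub, map_smul, smul_eq_mul]; rfl
    rw [h3] at h1
    have h4 : s * f n = φ (θ • y) + (s * f n - φ (θ • y)) := by ring
    rw [h4]
    exact Submodule.add_mem_sup h2 h1
  have hall : ∀ x ∈ c, s * x ∈ t * c ⊔ t' := by
    intro x hx
    induction hx using Submodule.span_induction with
    | mem x hx =>
      obtain ⟨n, -, rfl⟩ := Finset.mem_image.mp (Finset.mem_coe.mp hx)
      exact hcoord n
    | zero => rw [mul_zero]; exact Submodule.zero_mem _
    | add x y _ _ hx hy => rw [mul_add]; exact Submodule.add_mem _ hx hy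
    | smul a x _ ih =>
      rw [smul_eq_mul, mul_left_comm]
      exact Ideal.mul_mem_left _ _ ih
  have hct : c ≤ t' := le_of_smul_le t' t htt c hcfg s hs hall
  rw [hy, Finsupp.sum]
  apply Submodule.sum_mem
  intro n _
  exact Submodule.smul_mem_smul (hct (hfc n)) trivial

end proj

section core

open FlatCA TensorProduct Groth.Agent.Helper13Fiber

attribute [local instance] Algebra.TensorProduct.rightAlgebra

variable {A' B' N' : Type u} [CommRing A'] [CommRing B'] [Algebra A' B'] [AddCommGroup N']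
  [Module B' N'] [Module A' N'] [IsScalarTower A' B' N']

theorem exists_prime_lying_over_of_mem_ass [Module.Projective A' N']
    (t' t : Ideal A') [t'.IsPrime] [t.IsPrime] (htt : t' ≤ t) (P : Ideal B') [P.IsPrime]
    (hass : fiberIdeal t' P ∈ associatedPrimes (t'.Fiber B') (fiberMod t' B' N')) :
    ∃ P' : Ideal B', P'.IsPrime ∧ P ≤ P' ∧ P'.LiesOver t := by
  by_contra hno
  push Not at hno
  -- Step 1
  have hnd : ¬ Disjoint ((P ⊔ t.map (algebraMap A' B') : Ideal B') : Set B')
      ((Submonoid.map (algebraMap A' B') t.primeCompl : Submonoid B') : Set B') := by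
    intro hd
    obtain ⟨P', hP', hle, hdisj⟩ := Ideal.exists_le_prime_disjoint _ _ hd
    refine hno P' hP' (le_sup_left.trans hle) ⟨?_⟩
    apply le_antisymm
    · intro a ha
      exact hle (Ideal.mem_sup_right (Ideal.mem_map_of_mem _ ha))
    · intro a ha
      by_contra hat
      exact Set.disjoint_left.mp hdisj ha ⟨a, hat, rfl⟩
  rw [Set.not_disjoint_iff] at hnd
  obtain ⟨_, hb, ⟨s, hs, rfl⟩⟩ := hnd
  obtain ⟨π, hπ, θ, hθ, hsum⟩ := Submodule.mem_sup.mp hb
  have hs' : s ∉ t := hs
  -- Step 2
  obtain ⟨hprime, x, hx⟩ := hass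
  have hx0 : x ≠ 0 := by
    rintro rfl
    apply hprime.ne_top
    rw [hx, Ideal.radical_eq_top]
    rw [Ideal.eq_top_iff_one, Submodule.mem_colon_singleton]
    simp
  have hπmem : algebraMap B' (t'.Fiber B') π ∈ fiberIdeal t' P := Ideal.mem_map_of_mem _ hπ
  rw [hx] at hπmem
  obtain ⟨k, hk⟩ := hπmem
  rw [Submodule.mem_colon_singleton, Submodule.mem_bot] at hk
  -- Step 3
  obtain ⟨d, hd, y, hy⟩ := exists_smul_eq_toFiberMod t' B' N' x
  haveI : Module.Flat A' N' := inferInstance
  have hy0 : toFiberMod t' B' N' y ≠ 0 := by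
    rw [← hy]
    intro h0
    exact hx0 (smul_injective t' B' N' hd x h0)
  have hπy : toFiberMod t' B' N' (π ^ k • y) = 0 := by
    rw [map_smul, ← hy, smul_comm, ← algebraMap_smul (t'.Fiber B') (π ^ k) x, map_pow, hk,
      smul_zero]
  rw [toFiberMod_eq_zero_iff_of_flat] at hπy
  rw [Ne, toFiberMod_eq_zero_iff_of_flat] at hy0
  rw [← Submodule.restrictScalars_mem A', ← smul_top_eq_restrictScalars] at hπy hy0
  -- Step 4
  have hθ' : algebraMap A' B' (s ^ k) - π ^ k ∈ t.map (algebraMap A' B') := by
    rw [← Ideal.Quotient.eq, map_pow, map_pow, map_pow]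
    congr 1
    rw [Ideal.Quotient.eq, ← hsum]
    simpa using hθ
  apply hy0
  apply mem_smul_top_of_projective t' t htt (s ^ k)
    (fun h => hs' (Ideal.IsPrime.mem_of_pow_mem inferInstance _ h)) _ hθ' y
  have : s ^ k • y - (algebraMap A' B' (s ^ k) - π ^ k) • y = π ^ k • y := by
    rw [sub_smul, algebraMap_smul]; abel
  rw [this]
  exact hπy

end core

end Groth.Agent.Lib.T2H2.PureProj
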