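import Mathlib
import Groth.Prelude.Def_CAlgX

set_option autoImplicit false
universe u

namespace Groth.Agent.Lib.T2H2.QRegLoc

open MvPolynomial

variable {R : Type u} [CommRing R] (M : Submonoid R) (S : Type u) [CommRing S] [Algebra R S]
  [IsLocalization M S] {r : ℕ} (z : Fin r → R)

theorem span_range_comp :
    Ideal.span (Set.range (fun i => algebraMap R S (z i))) =
      (Ideal.span (Set.range z)).map (algebraMap R S) := by
  rw [Ideal.map_span]
  congr 1
  ext y
  constructor
  · rintro ⟨i, rfl⟩; exact ⟨z i, ⟨i, rfl⟩, rfl⟩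
  · rintro ⟨_, ⟨i, rfl⟩, rfl⟩; exact ⟨i, rfl⟩

theorem eval_map_comp (Q : MvPolynomial (Fin r) R) :
    eval (fun i => algebraMap R S (z i)) (map (algebraMap R S) Q) =
      algebraMap R S (eval z Q) := by
  rw [eval_map]
  have := eval₂_comp_left (algebraMap R S) (RingHom.id R) z Q
  rw [RingHom.comp_id] at this
  exact this.symm

include M in
/-- clearing denominators of a polynomial over the localization -/
theorem exists_clear_denominators (n : ℕ) (P : MvPolynomial (Fin r) S)
    (hP : P.IsHomogeneous n) :
    ∃ (b : M) (Q : MvPolynomial (Fin r) R), Q.IsHomogeneous n ∧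
      map (algebraMap R S) Q = C (algebraMap R S b) * P := by
  classical
  obtain ⟨b, hb⟩ := IsLocalization.exist_integer_multiples M P.support P.coeff
  choose! c hc using hb
  refine ⟨b, ∑ d ∈ P.support, monomial d (c d), ?_, ?_⟩
  · apply IsHomogeneous.sum
    intro d hd
    apply isHomogeneous_monomial
    rw [Finsupp.degree_eq_weight_one]
    exact hP (mem_support_iff.1 hd)
  · rw [map_sum]
    conv_rhs => rw [← support_sum_monomial_coeff P, Finset.mul_sum]
    refine Finset.sum_congr rfl fun d hd => ?_
    rw [map_monomial, C_mul_monomial, hc d hd]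
    congr 1
    rw [Algebra.smul_def]

include M in
/-- quasi-regular sequences localize. -/
theorem isQuasiRegular_of_isLocalization (h : CAlgX.IsQuasiRegular z) :
    CAlgX.IsQuasiRegular (fun i => algebraMap R S (z i)) := by
  intro n P hP hmem d
  set J := Ideal.span (Set.range z) with hJ
  rw [span_range_comp] at hmem ⊢
  rw [← Ideal.map_pow] at hmem
  obtain ⟨b, Q, hQ, hQP⟩ := exists_clear_denominators M S n P hP
  have hub : IsUnit (algebraMap R S b) := IsLocalization.map_units S b
  have h1 : algebraMap R S (eval z Q) ∈ (J ^ (n + 1)).map (algebraMap R S) := by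
    rw [← eval_map_comp, hQP, map_mul, eval_C]
    exact Ideal.mul_mem_left _ _ hmem
  obtain ⟨m, hmM, hm⟩ := (IsLocalization.algebraMap_mem_map_algebraMap_iff M S _ _).1 h1
  have hQ' : (C m * Q).IsHomogeneous n := by
    have := (isHomogeneous_C (Fin r) m).mul hQ
    rwa [zero_add] at this
  have hev : eval z (C m * Q) ∈ J ^ (n + 1) := by
    rw [map_mul, eval_C]; exact hm
  have hl := h n _ hQ' hev d
  rw [coeff_C_mul] at hl
  have hum : IsUnit (algebraMap R S m) := IsLocalization.map_units S (⟨m, hmM⟩ : M)
  have h2 : algebraMap R S (Q.coeff d) ∈ J.map (algebraMap R S) := by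
    have := Ideal.mem_map_of_mem (algebraMap R S) hl
    rw [map_mul] at this
    exact (Ideal.unit_mul_mem_iff_mem _ hum).1 this
  have h3 : algebraMap R S (Q.coeff d) = algebraMap R S b * P.coeff d := by
    have := congrArg (coeff d) hQP
    rwa [coeff_map, coeff_C_mul] at this
  rw [h3] at h2
  exact (Ideal.unit_mul_mem_iff_mem _ hub).1 h2

end Groth.Agent.Lib.T2H2.QRegLoc
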