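import Mathlib
import Groth.Agent.S5803
import Groth.Agent.Lib.Helper5RegImm
import Groth.Prelude.Def_RegImm
import Groth.Agent.Lib.T2H2QRegLoc

/-!
# Quasi-regular generators and the stalk criterion for regular immersions (T2H2)

* `stalkReg_of_quasiRegular`: if on an affine open `U ∋ φ z` a quasi-regular sequence of sections has
  germs generating the kernel of the stalk map of `φ` at `z`, and the local ring at `φ z` is
  Noetherian, then these germs form a regular sequence (`StalkReg φ z`).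
-/

set_option autoImplicit false
universe u

open AlgebraicGeometry CategoryTheory RingTheory.Sequence TopologicalSpace

namespace Groth.Agent.Lib.T2H2.QRegStalk

open Groth.Agent.Lib.Helper5.RegImm Groth.Agent.Lib.T2H2.QRegLoc

theorem weaklyRegular_germs_of_quasiRegular {Z W : Scheme.{u}} (φ : Z ⟶ W) (z : Z) (U : W.Opens)
    (hU : IsAffineOpen U) (hz : φ z ∈ U) [IsNoetherianRing (W.presheaf.stalk (φ z))]
    (rs : List Γ(W, U)) (hqr : CAlgX.IsQuasiRegular rs.get)
    (hker : RingHom.ker (φ.stalkMap z).hom =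
      Ideal.ofList (rs.map (W.presheaf.germ U (φ z) hz).hom)) :
    (∀ r ∈ rs.map (W.presheaf.germ U (φ z) hz).hom,
        r ∈ IsLocalRing.maximalIdeal (W.presheaf.stalk (φ z))) ∧
      IsWeaklyRegular (W.presheaf.stalk (φ z)) (rs.map (W.presheaf.germ U (φ z) hz).hom) := by
  set g := (W.presheaf.germ U (φ z) hz).hom with hg
  have hq' : CAlgX.IsQuasiRegular (fun j => g (rs.get j)) := by
    let _ : Algebra Γ(W, U) (W.presheaf.stalk (φ z)) := g.toAlgebra
    have : IsLocalization.AtPrime (W.presheaf.stalk (φ z)) (hU.primeIdealOf ⟨φ z, hz⟩).asIdeal :=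
      hU.isLocalization_stalk ⟨φ z, hz⟩
    exact isQuasiRegular_of_isLocalization (hU.primeIdealOf ⟨φ z, hz⟩).asIdeal.primeCompl
      (W.presheaf.stalk (φ z)) rs.get hqr
  have hlist : List.ofFn (fun j => g (rs.get j)) = rs.map g := by
    change List.ofFn (g ∘ rs.get) = _
    rw [← List.map_ofFn, List.ofFn_get]
  have hmem : ∀ r ∈ rs.map g, r ∈ IsLocalRing.maximalIdeal (W.presheaf.stalk (φ z)) := by
    intro r hr
    have h1 : r ∈ RingHom.ker (φ.stalkMap z).hom := by
      rw [hker]
      exact Ideal.subset_span hr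
    rw [IsLocalRing.mem_maximalIdeal, mem_nonunits_iff]
    intro hu
    have := hu.map (φ.stalkMap z).hom
    rw [RingHom.mem_ker.mp h1] at this
    exact not_isUnit_zero this
  refine ⟨hmem, ?_⟩
  rw [← hlist]
  refine Groth.Agent.S5803.result _ rs.length _ (fun j => ?_) hq'
  rw [← Ideal.jacobson_bot, IsLocalRing.jacobson_eq_maximalIdeal ⊥ bot_ne_top]
  apply hmem
  rw [← hlist]
  exact List.mem_ofFn.mpr ⟨j, rfl⟩

theorem stalkReg_of_quasiRegular {Z W : Scheme.{u}} (φ : Z ⟶ W) (z : Z) (U : W.Opens)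
    (hU : IsAffineOpen U) (hz : φ z ∈ U) [IsNoetherianRing (W.presheaf.stalk (φ z))]
    (rs : List Γ(W, U)) (hqr : CAlgX.IsQuasiRegular rs.get)
    (hker : RingHom.ker (φ.stalkMap z).hom =
      Ideal.ofList (rs.map (W.presheaf.germ U (φ z) hz).hom)) : StalkReg φ z := by
  obtain ⟨-, hwr⟩ := weaklyRegular_germs_of_quasiRegular φ z U hU hz rs hqr hker
  refine ⟨_, ⟨hwr, ?_⟩, hker⟩
  rw [smul_eq_mul, Ideal.mul_top, ← hker]
  exact (RingHom.ker_ne_top _).symm

/-- transport of surjectivity of `i.app` along an equality of opens -/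
theorem app_surjective_of_eq {Z X : Scheme.{u}} (i : Z ⟶ X) {V V' : X.Opens} (h : V = V')
    (hs : Function.Surjective (i.app V).hom) : Function.Surjective (i.app V').hom := by
  subst h; exact hs

/-- for `i ∣_ U` a closed immersion with `U` affine: `i⁻¹U` is affine and `i.app U` is surjective. -/
theorem affine_and_surjective {Z X : Scheme.{u}} (i : Z ⟶ X) (U : X.Opens) (hU : IsAffineOpen U)
    [IsClosedImmersion (i ∣_ U)] :
    IsAffineOpen (i ⁻¹ᵁ U) ∧ Function.Surjective (i.app U).hom := by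
  have : IsAffine U.toScheme := hU
  obtain ⟨h1, h2⟩ := IsClosedImmersion.isAffine_surjective_of_isAffine (i ∣_ U)
  refine ⟨h1, ?_⟩
  rw [morphismRestrict_appTop] at h2
  have h3 : Function.Surjective (i.app (U.ι ''ᵁ ⊤)).hom := by
    intro c
    obtain ⟨a, ha⟩ := h2 ((Z.presheaf.map (eqToHom (image_morphismRestrict_preimage i U ⊤)).op).hom c)
    refine ⟨a, ?_⟩
    have hinj : Function.Injective
        (Z.presheaf.map (eqToHom (image_morphismRestrict_preimage i U ⊤)).op).hom :=
      (ConcreteCategory.bijective_of_isIso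
        (Z.presheaf.map (eqToHom (image_morphismRestrict_preimage i U ⊤)).op)).1
    exact hinj ha
  exact app_surjective_of_eq i (by simp) h3

/-- the kernel of the stalk map of `i` at `z`, when `i ∣_ U` is a closed immersion (`U ∋ i z` affine). -/
theorem ker_stalkMap_eq_map_ker_app {Z X : Scheme.{u}} (i : Z ⟶ X) (z : Z) (U : X.Opens)
    (hU : IsAffineOpen U) (hz : i z ∈ U) [IsClosedImmersion (i ∣_ U)] :
    RingHom.ker (i.stalkMap z).hom =
      (RingHom.ker (i.app U).hom).map (X.presheaf.germ U (i z) hz).hom := by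
  obtain ⟨hW, hsurj⟩ := affine_and_surjective i U hU
  have hsq : ∀ a, (Z.presheaf.germ (i ⁻¹ᵁ U) z hz).hom ((i.app U).hom a)
      = (i.stalkMap z).hom ((X.presheaf.germ U (i z) hz).hom a) := fun a =>
    (i.germ_stalkMap_apply U z hz a).symm
  exact Groth.Agent.Lib.Helper5.StalkSpec.ker_eq_map_of_isLocalization
    (X.presheaf.germ U (i z) hz).hom (Z.presheaf.germ (i ⁻¹ᵁ U) z hz).hom (i.app U).hom
    (i.stalkMap z).hom hsq hsurj _ (hU.isLocalization_stalk ⟨i z, hz⟩) _
    (hW.isLocalization_stalk ⟨z, hz⟩)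

/-- a quasi-regular immersion at `z` (Noetherian local ring at `i z`) satisfies the stalk criterion. -/
theorem stalkReg_of_isRegularImmersionAt_quasi {Z X : Scheme.{u}} (i : Z ⟶ X) (z : Z)
    [IsNoetherianRing (X.presheaf.stalk (i z))]
    (h : RegImm.IsRegularImmersionAt RegImm.Kind.quasi i z) : StalkReg i z := by
  obtain ⟨U, hzU, hcl, rs, hqr, hker⟩ := h
  refine stalkReg_of_quasiRegular i z U.1 U.2 hzU rs hqr ?_
  rw [ker_stalkMap_eq_map_ker_app i z U.1 U.2 hzU, hker, Ideal.map_ofList]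

/-- the stalk criterion is insensitive to composing with an open immersion. -/
theorem stalkReg_of_comp_eq {Z W X : Scheme.{u}} (φ : Z ⟶ W) (ι : W ⟶ X) [IsOpenImmersion ι]
    (j : Z ⟶ X) (hj : φ ≫ ι = j) (z : Z) (h : StalkReg j z) : StalkReg φ z := by
  subst hj
  let e₁ : X.presheaf.stalk ((φ ≫ ι) z) ≃+* W.presheaf.stalk (φ z) :=
    (asIso (ι.stalkMap (φ z))).commRingCatIsoToRingEquiv
  refine exists_regular_of_ringEquiv_square e₁ (RingEquiv.refl _) ((φ ≫ ι).stalkMap z).hom
    (φ.stalkMap z).hom (RingHom.ker_ne_top _) (fun a => ?_) h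
  have := congrArg (fun ψ => ψ.hom a) (Scheme.Hom.stalkMap_comp φ ι z)
  exact this

end Groth.Agent.Lib.T2H2.QRegStalk
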