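import Mathlib

/-!
# Quadratic forms given by matrices: basic calculus

A quadratic form on `ι → R` is represented by an arbitrary square matrix `M`
(`qf M x = x ⬝ᵥ M *ᵥ x = ∑ i j, M i j * x i * x j`).  Two matrices represent the same form iff they
have the same diagonal and the same symmetrisation (`SameQ`).  Base changes (`Matrix.map`) and
changes of coordinates (`gᵀ * M * g`) preserve this relation.
-/

set_option autoImplicit false
universe u

namespace Groth.Agent.Lib.T2H2.QSplit

open Matrix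

section basic

variable {R : Type*} [CommRing R]
variable {ι κ μ : Type*} [Fintype ι] [Fintype κ] [Fintype μ]

/-- the (non-symmetric) bilinear form attached to a matrix -/
def bq (M : Matrix ι ι R) (x y : ι → R) : R := x ⬝ᵥ M *ᵥ y

/-- the quadratic form attached to a matrix -/
def qf (M : Matrix ι ι R) (x : ι → R) : R := bq M x x

/-- the polar form attached to a matrix -/
def pol (M : Matrix ι ι R) (x y : ι → R) : R := bq M x y + bq M y x

lemma bq_add_left (M : Matrix ι ι R) (x x' y : ι → R) :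
    bq M (x + x') y = bq M x y + bq M x' y := by
  simp [bq, add_dotProduct]

lemma bq_add_right (M : Matrix ι ι R) (x y y' : ι → R) :
    bq M x (y + y') = bq M x y + bq M x y' := by
  simp [bq, mulVec_add, dotProduct_add]

lemma bq_sub_left (M : Matrix ι ι R) (x x' y : ι → R) :
    bq M (x - x') y = bq M x y - bq M x' y := by
  simp [bq, sub_dotProduct]

lemma bq_sub_right (M : Matrix ι ι R) (x y y' : ι → R) :
    bq M x (y - y') = bq M x y - bq M x y' := by
  simp [bq, mulVec_sub, dotProduct_sub]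

lemma bq_smul_left (M : Matrix ι ι R) (c : R) (x y : ι → R) :
    bq M (c • x) y = c * bq M x y := by
  simp [bq, smul_dotProduct]

lemma bq_smul_right (M : Matrix ι ι R) (c : R) (x y : ι → R) :
    bq M x (c • y) = c * bq M x y := by
  simp [bq, mulVec_smul, dotProduct_smul]

lemma bq_transpose (M : Matrix ι ι R) (x y : ι → R) : bq Mᵀ x y = bq M y x := by
  simp only [bq]
  rw [dotProduct_mulVec, vecMul_transpose, dotProduct_comm]

lemma bq_add_matrix (M N : Matrix ι ι R) (x y : ι → R) :
    bq (M + N) x y = bq M x y + bq N x y := by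
  simp [bq, add_mulVec, dotProduct_add]

lemma pol_eq_bq (M : Matrix ι ι R) (x y : ι → R) : pol M x y = bq (M + Mᵀ) x y := by
  rw [bq_add_matrix, bq_transpose, pol]

lemma pol_comm (M : Matrix ι ι R) (x y : ι → R) : pol M x y = pol M y x := by
  simp only [pol]; ring

lemma pol_self (M : Matrix ι ι R) (x : ι → R) : pol M x x = qf M x + qf M x := rfl

lemma pol_add_left (M : Matrix ι ι R) (x x' y : ι → R) :
    pol M (x + x') y = pol M x y + pol M x' y := by
  simp only [pol, bq_add_left, bq_add_right]; ring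

lemma pol_add_right (M : Matrix ι ι R) (x y y' : ι → R) :
    pol M x (y + y') = pol M x y + pol M x y' := by
  simp only [pol, bq_add_left, bq_add_right]; ring

lemma pol_sub_right (M : Matrix ι ι R) (x y y' : ι → R) :
    pol M x (y - y') = pol M x y - pol M x y' := by
  simp only [pol, bq_sub_left, bq_sub_right]; ring

lemma pol_smul_left (M : Matrix ι ι R) (c : R) (x y : ι → R) :
    pol M (c • x) y = c * pol M x y := by
  simp only [pol, bq_smul_left, bq_smul_right]; ring

lemma pol_smul_right (M : Matrix ι ι R) (c : R) (x y : ι → R) :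
    pol M x (c • y) = c * pol M x y := by
  simp only [pol, bq_smul_left, bq_smul_right]; ring

lemma qf_add (M : Matrix ι ι R) (x y : ι → R) :
    qf M (x + y) = qf M x + qf M y + pol M x y := by
  simp only [qf, pol, bq_add_left, bq_add_right]; ring

lemma qf_smul (M : Matrix ι ι R) (c : R) (x : ι → R) :
    qf M (c • x) = c * c * qf M x := by
  simp only [qf, bq_smul_left, bq_smul_right]; ring

lemma qf_sub (M : Matrix ι ι R) (x y : ι → R) :
    qf M (x - y) = qf M x + qf M y - pol M x y := by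
  simp only [qf, pol, bq_sub_left, bq_sub_right]; ring

lemma bq_eq_sum (M : Matrix ι ι R) (x y : ι → R) :
    bq M x y = ∑ i, ∑ j, M i j * x i * y j := by
  simp only [bq, dotProduct, mulVec, Finset.mul_sum]
  refine Finset.sum_congr rfl fun i _ => Finset.sum_congr rfl fun j _ => by ring

/-- entries of a conjugated matrix -/
lemma conj_apply (M : Matrix ι ι R) (g : Matrix ι κ R) (c c' : κ) :
    (gᵀ * M * g) c c' = bq M (fun i => g i c) (fun i => g i c') := by
  rw [bq_eq_sum]
  simp only [Matrix.mul_apply, Matrix.transpose_apply, Finset.sum_mul]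
  rw [Finset.sum_comm]
  refine Finset.sum_congr rfl fun i _ => Finset.sum_congr rfl fun j _ => by ring

lemma bq_conj (M : Matrix ι ι R) (g : Matrix ι κ R) (x y : κ → R) :
    bq (gᵀ * M * g) x y = bq M (g *ᵥ x) (g *ᵥ y) := by
  simp only [bq]
  rw [← mulVec_mulVec, ← mulVec_mulVec, dotProduct_mulVec, vecMul_transpose]

lemma qf_conj (M : Matrix ι ι R) (g : Matrix ι κ R) (x : κ → R) :
    qf (gᵀ * M * g) x = qf M (g *ᵥ x) := bq_conj M g x x

lemma bq_map {S : Type*} [CommRing S] (f : R →+* S) (M : Matrix ι ι R) (x y : ι → R) :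
    bq (M.map f) (f ∘ x) (f ∘ y) = f (bq M x y) := by
  simp only [bq_eq_sum, map_sum, map_mul, Matrix.map_apply, Function.comp]

lemma qf_map {S : Type*} [CommRing S] (f : R →+* S) (M : Matrix ι ι R) (x : ι → R) :
    qf (M.map f) (f ∘ x) = f (qf M x) := bq_map f M x x

lemma pol_map {S : Type*} [CommRing S] (f : R →+* S) (M : Matrix ι ι R) (x y : ι → R) :
    pol (M.map f) (f ∘ x) (f ∘ y) = f (pol M x y) := by
  simp only [pol, bq_map, map_add]

/-- Two matrices define the same quadratic form (in a way stable under base change). -/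
def SameQ (M N : Matrix ι ι R) : Prop := (∀ i, M i i = N i i) ∧ M + Mᵀ = N + Nᵀ

lemma SameQ.refl (M : Matrix ι ι R) : SameQ M M := ⟨fun _ => rfl, rfl⟩

lemma SameQ.symm {M N : Matrix ι ι R} (h : SameQ M N) : SameQ N M :=
  ⟨fun i => (h.1 i).symm, h.2.symm⟩

lemma SameQ.trans {M N P : Matrix ι ι R} (h : SameQ M N) (h' : SameQ N P) : SameQ M P :=
  ⟨fun i => (h.1 i).trans (h'.1 i), h.2.trans h'.2⟩

lemma SameQ.map {S : Type*} [CommRing S] (f : R →+* S) {M N : Matrix ι ι R} (h : SameQ M N) :
    SameQ (M.map f) (N.map f) := by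
  refine ⟨fun i => by simp [h.1 i], ?_⟩
  have := congrArg (fun P : Matrix ι ι R => P.map f) h.2
  simpa [Matrix.map_add, Matrix.transpose_map] using this

lemma SameQ.pol_eq {M N : Matrix ι ι R} (h : SameQ M N) (x y : ι → R) :
    pol M x y = pol N x y := by
  rw [pol_eq_bq, pol_eq_bq, h.2]

lemma SameQ.qf_eq [DecidableEq ι] {M N : Matrix ι ι R} (h : SameQ M N) (x : ι → R) :
    qf M x = qf N x := by
  rw [← sub_eq_zero]
  have hD : ∀ i j, (M i j - N i j) + (M j i - N j i) = 0 := by
    intro i j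
    have := congrFun (congrFun h.2 i) j
    simp only [Matrix.add_apply, Matrix.transpose_apply] at this
    linear_combination this
  have : qf M x - qf N x
      = ∑ p ∈ (Finset.univ : Finset ι) ×ˢ (Finset.univ : Finset ι),
          (M p.1 p.2 - N p.1 p.2) * x p.1 * x p.2 := by
    rw [Finset.sum_product' (f := fun i j => (M i j - N i j) * x i * x j)]
    simp only [qf, bq_eq_sum, ← Finset.sum_sub_distrib]
    refine Finset.sum_congr rfl fun i _ => Finset.sum_congr rfl fun j _ => by ring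
  rw [this]
  refine Finset.sum_involution (fun p _ => p.swap) ?_ ?_ (fun _ _ => by simp)
    (fun p _ => Prod.swap_swap p)
  · rintro ⟨i, j⟩ -
    simp only [Prod.swap_prod_mk]
    linear_combination (x i * x j) * hD i j
  · rintro ⟨i, j⟩ - hne hsw
    apply hne
    simp only [Prod.swap_prod_mk, Prod.mk.injEq] at hsw
    obtain rfl : j = i := hsw.1
    simp [h.1 j]

lemma SameQ.conj [DecidableEq ι] {M N : Matrix ι ι R} (h : SameQ M N) (g : Matrix ι κ R) :
    SameQ (gᵀ * M * g) (gᵀ * N * g) := by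
  refine ⟨fun c => ?_, ?_⟩
  · rw [conj_apply, conj_apply]
    exact h.qf_eq _
  · have e : ∀ P : Matrix ι ι R, gᵀ * P * g + (gᵀ * P * g)ᵀ = gᵀ * (P + Pᵀ) * g := by
      intro P
      simp only [Matrix.transpose_mul, Matrix.transpose_transpose, Matrix.mul_add, Matrix.add_mul,
        Matrix.mul_assoc]
    rw [e, e, h.2]

lemma SameQ.submatrix {M N : Matrix ι ι R} (h : SameQ M N) (e : κ → ι) :
    SameQ (M.submatrix e e) (N.submatrix e e) := by
  refine ⟨fun i => h.1 (e i), ?_⟩
  ext i j
  have := congrFun (congrFun h.2 (e i)) (e j)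
  simpa using this

lemma SameQ.fromBlocks {M₁ N₁ : Matrix ι ι R} {M₂ N₂ : Matrix κ κ R} (h₁ : SameQ M₁ N₁)
    (h₂ : SameQ M₂ N₂) :
    SameQ (Matrix.fromBlocks M₁ 0 0 M₂) (Matrix.fromBlocks N₁ 0 0 N₂) := by
  refine ⟨?_, ?_⟩
  · rintro (i | i)
    · simpa using h₁.1 i
    · simpa using h₂.1 i
  · simp only [Matrix.fromBlocks_transpose, Matrix.fromBlocks_add, Matrix.transpose_zero, add_zero,
      h₁.2, h₂.2]

/-- conjugation by a product -/
lemma conj_mul (M : Matrix ι ι R) (g : Matrix ι κ R) (h : Matrix κ μ R) :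
    (g * h)ᵀ * M * (g * h) = hᵀ * (gᵀ * M * g) * h := by
  simp only [Matrix.transpose_mul, Matrix.mul_assoc]

lemma conj_map {S : Type*} [CommRing S] (f : R →+* S) (M : Matrix ι ι R) (g : Matrix ι κ R) :
    (gᵀ * M * g).map f = (g.map f)ᵀ * M.map f * g.map f := by
  simp only [Matrix.map_mul, Matrix.transpose_map]

end basic

section minv

variable {R : Type*} [CommRing R]
variable {ι κ μ : Type*} [Fintype ι] [Fintype κ] [Fintype μ] [DecidableEq ι] [DecidableEq κ]
  [DecidableEq μ]

/-- a (possibly non-square-typed) matrix with a two-sided inverse -/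
def MInv (g : Matrix ι κ R) : Prop := ∃ g' : Matrix κ ι R, g * g' = 1 ∧ g' * g = 1

lemma MInv.one : MInv (1 : Matrix ι ι R) := ⟨1, by simp, by simp⟩

lemma MInv.mul {g : Matrix ι κ R} {h : Matrix κ μ R} (hg : MInv g) (hh : MInv h) :
    MInv (g * h) := by
  obtain ⟨g', h1, h2⟩ := hg
  obtain ⟨h', h3, h4⟩ := hh
  refine ⟨h' * g', ?_, ?_⟩
  · rw [Matrix.mul_assoc, ← Matrix.mul_assoc h, h3, Matrix.one_mul, h1]
  · rw [Matrix.mul_assoc, ← Matrix.mul_assoc g', h2, Matrix.one_mul, h4]

lemma MInv.map {S : Type*} [CommRing S] (f : R →+* S) {g : Matrix ι κ R} (hg : MInv g) :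
    MInv (g.map f) := by
  obtain ⟨g', h1, h2⟩ := hg
  refine ⟨g'.map f, ?_, ?_⟩
  · rw [← Matrix.map_mul, h1, Matrix.map_one _ f.map_zero f.map_one]
  · rw [← Matrix.map_mul, h2, Matrix.map_one _ f.map_zero f.map_one]

lemma MInv.transpose {g : Matrix ι κ R} (hg : MInv g) : MInv gᵀ := by
  obtain ⟨g', h1, h2⟩ := hg
  refine ⟨g'ᵀ, ?_, ?_⟩
  · rw [← Matrix.transpose_mul, h2, Matrix.transpose_one]
  · rw [← Matrix.transpose_mul, h1, Matrix.transpose_one]

lemma MInv.of_isUnit_det {g : Matrix ι ι R} (hg : IsUnit g.det) : MInv g :=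
  ⟨g⁻¹, Matrix.mul_nonsing_inv g hg, Matrix.nonsing_inv_mul g hg⟩

lemma MInv.isUnit_det {g : Matrix ι ι R} (hg : MInv g) : IsUnit g.det := by
  obtain ⟨g', h1, -⟩ := hg
  exact Matrix.isUnit_det_of_right_inverse h1

lemma MInv.submatrix {ι' κ' : Type*} [Fintype ι'] [Fintype κ'] [DecidableEq ι'] [DecidableEq κ']
    {g : Matrix ι κ R} (hg : MInv g) (e₁ : ι' ≃ ι) (e₂ : κ' ≃ κ) :
    MInv (g.submatrix e₁ e₂) := by
  obtain ⟨g', h1, h2⟩ := hg
  refine ⟨g'.submatrix e₂ e₁, ?_, ?_⟩
  · rw [Matrix.submatrix_mul_equiv, h1, Matrix.submatrix_one_equiv]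
  · rw [Matrix.submatrix_mul_equiv, h2, Matrix.submatrix_one_equiv]

lemma MInv.fromBlocks {ι' κ' : Type*} [Fintype ι'] [Fintype κ'] [DecidableEq ι'] [DecidableEq κ']
    {g : Matrix ι κ R} {h : Matrix ι' κ' R} (hg : MInv g) (hh : MInv h) :
    MInv (Matrix.fromBlocks g 0 0 h) := by
  obtain ⟨g', h1, h2⟩ := hg
  obtain ⟨h', h3, h4⟩ := hh
  refine ⟨Matrix.fromBlocks g' 0 0 h', ?_, ?_⟩
  · simp [Matrix.fromBlocks_multiply, h1, h3]
  · simp [Matrix.fromBlocks_multiply, h2, h4]

/-- Invertible changes of coordinates preserve regularity of the polar form. -/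
lemma isUnit_det_polar_of_sameQ {M : Matrix ι ι R} {N : Matrix κ κ R} {g : Matrix ι κ R}
    (hg : MInv g) (hM : IsUnit (M + Mᵀ).det) (h : SameQ (gᵀ * M * g) N) :
    IsUnit (N + Nᵀ).det := by
  have e : gᵀ * M * g + (gᵀ * M * g)ᵀ = gᵀ * (M + Mᵀ) * g := by
    simp only [Matrix.transpose_mul, Matrix.transpose_transpose, Matrix.mul_add, Matrix.add_mul,
      Matrix.mul_assoc]
  rw [← h.2, e]
  exact ((hg.transpose.mul (MInv.of_isUnit_det hM)).mul hg).isUnit_det

end minv

end Groth.Agent.Lib.T2H2.QSplit
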