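import Groth.Agent.Lib.T2H2QSplitA

/-!
# Finite étale covers and étale-local splitting of matrix quadratic forms
-/

set_option autoImplicit false
universe u

namespace Groth.Agent.Lib.T2H2.QSplit

open Matrix

section split

variable {R : Type*} [CommRing R]

/-- the split form `∑ x (inl j) * x (inr j)` on `κ ⊕ κ` -/
def splitM (R : Type*) [CommRing R] (κ : Type*) [DecidableEq κ] : Matrix (κ ⊕ κ) (κ ⊕ κ) R :=
  Matrix.fromBlocks 0 1 0 0

lemma qf_splitM {κ : Type*} [Fintype κ] [DecidableEq κ] (x : κ ⊕ κ → R) :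
    qf (splitM R κ) x = ∑ j, x (Sum.inl j) * x (Sum.inr j) := by
  simp only [qf, bq_eq_sum, splitM, Fintype.sum_sum_type, Matrix.fromBlocks_apply₁₁,
    Matrix.fromBlocks_apply₁₂, Matrix.fromBlocks_apply₂₁, Matrix.fromBlocks_apply₂₂,
    Matrix.zero_apply, zero_mul, Finset.sum_const_zero, add_zero, zero_add, Matrix.one_apply,
    ite_mul, one_mul, Finset.sum_ite_eq, Finset.mem_univ, if_true]

lemma splitM_map {S : Type*} [CommRing S] (f : R →+* S) (κ : Type*) [DecidableEq κ] :
    (splitM R κ).map f = splitM S κ := by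
  simp [splitM, Matrix.fromBlocks_map]

variable {ι ι₂ : Type*} [Fintype ι] [DecidableEq ι] [Fintype ι₂] [DecidableEq ι₂]

/-- `M` is isometric to the split form in `2 * m` variables -/
def IsSplit (m : ℕ) (M : Matrix ι ι R) : Prop :=
  ∃ (κ : Type) (_ : Fintype κ) (_ : DecidableEq κ) (g : Matrix ι (κ ⊕ κ) R),
    Fintype.card κ = m ∧ MInv g ∧ SameQ (gᵀ * M * g) (splitM R κ)

lemma IsSplit.conj {m : ℕ} {M : Matrix ι ι R} {N : Matrix ι₂ ι₂ R} (g : Matrix ι ι₂ R)
    (hg : MInv g) (hgN : SameQ (gᵀ * M * g) N) (hN : IsSplit m N) : IsSplit m M := by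
  obtain ⟨κ, _, _, h, hc, hh, hs⟩ := hN
  refine ⟨κ, inferInstance, inferInstance, g * h, hc, hg.mul hh, ?_⟩
  rw [conj_mul]
  exact (hgN.conj h).trans hs

lemma IsSplit.map {S : Type*} [CommRing S] (f : R →+* S) {m : ℕ} {M : Matrix ι ι R}
    (hM : IsSplit m M) : IsSplit m (M.map f) := by
  obtain ⟨κ, _, _, h, hc, hh, hs⟩ := hM
  refine ⟨κ, inferInstance, inferInstance, h.map f, hc, hh.map f, ?_⟩
  rw [← conj_map, ← splitM_map f κ]
  exact hs.map f

lemma splitM_block (κ : Type*) [DecidableEq κ] :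
    (Matrix.fromBlocks (splitM R Unit) 0 0 (splitM R κ)).submatrix
        (Equiv.sumSumSumComm Unit Unit κ κ).symm (Equiv.sumSumSumComm Unit Unit κ κ).symm
      = splitM R (Unit ⊕ κ) := by
  ext i j
  rcases i with (i | i) | (i | i) <;> rcases j with (j | j) | (j | j) <;>
    simp [splitM, Equiv.sumSumSumComm, Matrix.one_apply]

lemma IsSplit.block {m : ℕ} {M' : Matrix ι ι R} (hM : IsSplit m M') :
    IsSplit (m + 1) (Matrix.fromBlocks (splitM R Unit) 0 0 M') := by
  obtain ⟨κ, _, _, h, hc, hh, hs⟩ := hM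
  refine ⟨Unit ⊕ κ, inferInstance, inferInstance,
    (Matrix.fromBlocks (1 : Matrix (Unit ⊕ Unit) (Unit ⊕ Unit) R) 0 0 h).submatrix
      (Equiv.refl _) (Equiv.sumSumSumComm Unit Unit κ κ).symm, ?_,
    (MInv.fromBlocks MInv.one hh).submatrix _ _, ?_⟩
  · simp [hc, add_comm]
  · have e : ((Matrix.fromBlocks (1 : Matrix (Unit ⊕ Unit) (Unit ⊕ Unit) R) 0 0 h).submatrix
          (Equiv.refl _) (Equiv.sumSumSumComm Unit Unit κ κ).symm)ᵀ *
        Matrix.fromBlocks (splitM R Unit) 0 0 M' *
        ((Matrix.fromBlocks (1 : Matrix (Unit ⊕ Unit) (Unit ⊕ Unit) R) 0 0 h).submatrix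
          (Equiv.refl _) (Equiv.sumSumSumComm Unit Unit κ κ).symm)
        = (Matrix.fromBlocks (splitM R Unit) 0 0 (hᵀ * M' * h)).submatrix
          (Equiv.sumSumSumComm Unit Unit κ κ).symm (Equiv.sumSumSumComm Unit Unit κ κ).symm := by
      have e1 : (Matrix.fromBlocks (1 : Matrix (Unit ⊕ Unit) (Unit ⊕ Unit) R) 0 0 h)ᵀ *
          Matrix.fromBlocks (splitM R Unit) 0 0 M' *
          (Matrix.fromBlocks (1 : Matrix (Unit ⊕ Unit) (Unit ⊕ Unit) R) 0 0 h)
          = Matrix.fromBlocks (splitM R Unit) 0 0 (hᵀ * M' * h) := by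
        simp [Matrix.fromBlocks_transpose, Matrix.fromBlocks_multiply]
      rw [← e1]
      ext i j
      simp [Matrix.mul_apply]
    rw [e, ← splitM_block]
    exact ((SameQ.refl _).fromBlocks hs).submatrix _

end split

/-- A finite family of étale `A`-algebras whose spectra jointly cover `Spec A`. -/
structure ECover (A : Type u) [CommRing A] where
  /-- the index type -/
  T : Type u
  /-- the index type is finite -/
  fT : Fintype T
  /-- the algebras -/
  B : T → Type u
  /-- ring structures -/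
  cr : ∀ t, CommRing (B t)
  /-- algebra structures -/
  alg : ∀ t, Algebra A (B t)
  /-- étaleness -/
  et : ∀ t, Algebra.Etale A (B t)
  /-- joint surjectivity on spectra -/
  cov : ∀ p : PrimeSpectrum A, ∃ (t : T) (q : PrimeSpectrum (B t)),
    q.asIdeal.comap (algebraMap A (B t)) = p.asIdeal

attribute [instance] ECover.fT ECover.cr ECover.alg ECover.et

namespace ECover

variable {A : Type u} [CommRing A]

/-- the cover by a single étale algebra with surjective spectrum map -/
def single (B : Type u) [CommRing B] [Algebra A B] [Algebra.Etale A B]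
    (h : ∀ p : PrimeSpectrum A, ∃ q : PrimeSpectrum B,
      q.asIdeal.comap (algebraMap A B) = p.asIdeal) : ECover A where
  T := PUnit
  fT := inferInstance
  B := fun _ => B
  cr := fun _ => inferInstance
  alg := fun _ => inferInstance
  et := fun _ => inferInstance
  cov := fun p => ⟨PUnit.unit, h p⟩

/-- the trivial cover -/
def refl (A : Type u) [CommRing A] : ECover A :=
  single A fun p => ⟨p, by simp [Algebra.algebraMap_self, Ideal.comap_id]⟩

/-- composition of covers -/
def trans (c : ECover A) (d : ∀ t, ECover (c.B t)) : ECover A where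
  T := Σ t, (d t).T
  fT := inferInstance
  B := fun x => (d x.1).B x.2
  cr := fun x => (d x.1).cr x.2
  alg := fun x => ((algebraMap (c.B x.1) ((d x.1).B x.2)).comp (algebraMap A (c.B x.1))).toAlgebra
  et := fun x => by
    let _ : Algebra A ((d x.1).B x.2) :=
      ((algebraMap (c.B x.1) ((d x.1).B x.2)).comp (algebraMap A (c.B x.1))).toAlgebra
    have : IsScalarTower A (c.B x.1) ((d x.1).B x.2) :=
      IsScalarTower.of_algebraMap_eq (fun _ => rfl)
    exact Algebra.Etale.comp A (c.B x.1) ((d x.1).B x.2)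
  cov := fun p => by
    obtain ⟨t, q, hq⟩ := c.cov p
    obtain ⟨s, r, hr⟩ := (d t).cov q
    refine ⟨⟨t, s⟩, r, ?_⟩
    rw [← hq, ← hr, Ideal.comap_comap]
    rfl

/-- the Zariski cover attached to a finite set of elements generating the unit ideal -/
def zariski (s : Finset A) (hs : Ideal.span (s : Set A) = ⊤) : ECover A where
  T := {x // x ∈ s}
  fT := inferInstance
  B := fun x => Localization.Away (x : A)
  cr := fun _ => inferInstance
  alg := fun _ => inferInstance
  et := fun x => Algebra.Etale.of_isLocalizationAway (x : A)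
  cov := fun p => by
    obtain ⟨x, hxs, hxp⟩ : ∃ x ∈ s, x ∉ p.asIdeal := by
      by_contra hcon
      push Not at hcon
      have : Ideal.span (s : Set A) ≤ p.asIdeal := Ideal.span_le.2 fun x hx => hcon x hx
      rw [hs] at this
      exact p.2.ne_top (top_le_iff.1 this)
    have hd : Disjoint (Submonoid.powers x : Set A) (p.asIdeal : Set A) :=
      (Ideal.disjoint_powers_iff_notMem_of_isPrime x).2 hxp
    refine ⟨⟨x, hxs⟩, ⟨p.asIdeal.map (algebraMap A (Localization.Away x)),
      IsLocalization.isPrime_of_isPrime_disjoint (Submonoid.powers x) _ _ p.2 hd⟩, ?_⟩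
    exact IsLocalization.under_map_of_isPrime_disjoint (Submonoid.powers x) _ p.2 hd

end ECover

section locsplit

variable {A : Type u} [CommRing A]
variable {ι ι₂ : Type*} [Fintype ι] [DecidableEq ι] [Fintype ι₂] [DecidableEq ι₂]

/-- `M` becomes split over a finite étale cover -/
def LocSplit (m : ℕ) (M : Matrix ι ι A) : Prop :=
  ∃ c : ECover A, ∀ t, IsSplit m (M.map (algebraMap A (c.B t)))

lemma LocSplit.of_isSplit {m : ℕ} {M : Matrix ι ι A} (h : IsSplit m M) : LocSplit m M :=
  ⟨ECover.refl A, fun _ => h.map _⟩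

lemma LocSplit.of_cover {m : ℕ} {M : Matrix ι ι A} (c : ECover A)
    (h : ∀ t, LocSplit m (M.map (algebraMap A (c.B t)))) : LocSplit m M := by
  choose d hd using h
  refine ⟨c.trans d, fun x => ?_⟩
  have := hd x.1 x.2
  rw [Matrix.map_map] at this
  exact this

lemma LocSplit.conj {m : ℕ} {M : Matrix ι ι A} {N : Matrix ι₂ ι₂ A} (g : Matrix ι ι₂ A)
    (hg : MInv g) (hgN : SameQ (gᵀ * M * g) N) (hN : LocSplit m N) : LocSplit m M := by
  obtain ⟨c, hc⟩ := hN
  refine ⟨c, fun t => IsSplit.conj (g.map (algebraMap A (c.B t))) (hg.map _) ?_ (hc t)⟩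
  rw [← conj_map]
  exact hgN.map _

lemma LocSplit.block {m : ℕ} {M' : Matrix ι ι A} (hM : LocSplit m M') :
    LocSplit (m + 1) (Matrix.fromBlocks (splitM A Unit) 0 0 M') := by
  obtain ⟨c, hc⟩ := hM
  refine ⟨c, fun t => ?_⟩
  have e : (Matrix.fromBlocks (splitM A Unit) 0 0 M').map (algebraMap A (c.B t))
      = Matrix.fromBlocks (splitM (c.B t) Unit) 0 0 (M'.map (algebraMap A (c.B t))) := by
    rw [Matrix.fromBlocks_map, splitM_map]
    simp
  rw [e]
  exact (hc t).block

lemma LocSplit.of_zariski {m : ℕ} {M : Matrix ι ι A} (s : Finset A)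
    (hs : Ideal.span (s : Set A) = ⊤)
    (h : ∀ x ∈ s, LocSplit m (M.map (algebraMap A (Localization.Away x)))) : LocSplit m M :=
  LocSplit.of_cover (ECover.zariski s hs) fun t => h t.1 t.2

/-- Zariski-local splitting around every prime suffices. -/
lemma LocSplit.of_zariski_local {m : ℕ} {M : Matrix ι ι A}
    (h : ∀ p : PrimeSpectrum A, ∃ f : A, f ∉ p.asIdeal ∧
      LocSplit m (M.map (algebraMap A (Localization.Away f)))) : LocSplit m M := by
  choose f hf hL using h
  have htop : Ideal.span (Set.range f) = ⊤ := by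
    by_contra hne
    obtain ⟨𝔪, hm, hle⟩ := Ideal.exists_le_maximal _ hne
    exact hf ⟨𝔪, hm.isPrime⟩ (hle (Ideal.subset_span ⟨_, rfl⟩))
  obtain ⟨s, hsub, hs⟩ := (Ideal.span_eq_top_iff_finite _).1 htop
  refine LocSplit.of_zariski s hs fun x hx => ?_
  obtain ⟨p, rfl⟩ := hsub hx
  exact hL p

end locsplit

end Groth.Agent.Lib.T2H2.QSplit
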