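import Groth.Agent.Lib.T2H2QSplitB

/-!
# Splitting off a hyperbolic plane after a quadratic étale extension
-/

set_option autoImplicit false
universe u

namespace Groth.Agent.Lib.T2H2.QSplit

open Matrix

section quadcover

open Polynomial

/-- The quadratic étale cover `R[s]/(s² + p s + q)` for a unit discriminant `p² - 4 q`. -/

theorem exists_quadratic_cover {R : Type u} [CommRing R] (p q : R) (h : IsUnit (p * p - 4 * q)) :
    ∃ (B : Type u) (_ : CommRing B) (_ : Algebra R B), Algebra.Etale R B ∧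
      (∀ 𝔭 : PrimeSpectrum R, ∃ 𝔮 : PrimeSpectrum B,
        𝔮.asIdeal.comap (algebraMap R B) = 𝔭.asIdeal) ∧
      ∃ s : B, s * s + algebraMap R B p * s + algebraMap R B q = 0 := by
  obtain ⟨u, hu⟩ := h.exists_left_inv
  have hCu : (C u : R[X]) * (C p * C p - 4 * C q) = 1 := by
    have : (C u : R[X]) * (C p * C p - 4 * C q) = C (u * (p * p - 4 * q)) := by
      simp only [C_mul, C_sub]
      congr 2
    rw [this, hu, C_1]
  have hmonic : (X ^ 2 + (C p * X + C q) : R[X]).Monic :=
    monic_X_pow_add (lt_of_le_of_lt (degree_linear_le) (by norm_num))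
  let P : StandardEtalePair R :=
    { f := X ^ 2 + (C p * X + C q)
      monic_f := hmonic
      g := 1
      cond := ⟨C u * (2 * X + C p), - (4 * C u), 0, by
        have hd : derivative (X ^ 2 + (C p * X + C q) : R[X]) = 2 * X + C p := by
          simp only [derivative_add, derivative_X_pow, derivative_mul, derivative_C, derivative_X,
            zero_mul, mul_one, zero_add, add_zero, Nat.cast_ofNat, Nat.add_one_sub_one, pow_one,
            map_ofNat]
          try norm_num
        rw [hd, pow_zero]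
        linear_combination hCu⟩ }
  refine ⟨P.Ring, inferInstance, inferInstance, inferInstance, ?_, P.X, ?_⟩
  · intro 𝔭
    have : Nontrivial R :=
      ⟨⟨0, 1, fun h0 => 𝔭.2.ne_top ((Ideal.eq_top_iff_one _).2 (h0 ▸ 𝔭.asIdeal.zero_mem))⟩⟩
    let k := 𝔭.asIdeal.ResidueField
    let K := AlgebraicClosure k
    have hdeg : ((P.f).map (algebraMap R K)).degree ≠ 0 := by
      rw [hmonic.degree_map]
      have : (X ^ 2 + (C p * X + C q) : R[X]).degree = 2 := by
        rw [degree_add_eq_left_of_degree_lt]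
        · simp
        · rw [degree_X_pow]; exact lt_of_le_of_lt degree_linear_le (by norm_num)
      show (X ^ 2 + (C p * X + C q) : R[X]).degree ≠ 0
      rw [this]; norm_num
    obtain ⟨x, hx⟩ := IsAlgClosed.exists_root _ hdeg
    have hx' : aeval x P.f = 0 := by
      rw [aeval_def, eval₂_eq_eval_map]; exact hx
    have hmap : P.HasMap x := ⟨hx', by simp [P]⟩
    let φ := P.lift x hmap
    refine ⟨⟨RingHom.ker φ.toRingHom, RingHom.ker_isPrime _⟩, ?_⟩
    ext r
    simp only [Ideal.mem_comap, RingHom.mem_ker]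
    show φ (algebraMap R P.Ring r) = 0 ↔ _
    rw [φ.commutes, IsScalarTower.algebraMap_apply R k K, 
      (algebraMap k K).injective.eq_iff' (map_zero _)]
    exact Ideal.algebraMap_residueField_eq_zero
  · have := (P.hasMap_X).1
    simp only [P, map_add, map_mul, map_pow, aeval_X, aeval_C] at this
    linear_combination this

end quadcover

section hyp

variable {B : Type*} [CommRing B] {ι : Type*} [Fintype ι]

/-- From a regular binary subform with a root of its dehomogenisation, produce a hyperbolic pair. -/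
lemma exists_hyp_pair (M : Matrix ι ι B) (x y : ι → B) (s a β c : B)
    (ha : qf M x = a) (hβ : pol M x y = β) (hc : qf M y = c)
    (hs : a * s * s + β * s + c = 0)
    (hd : IsUnit (β * β - 4 * a * c)) :
    ∃ (v w : ι → B) (e : B), qf M v = 0 ∧ qf M w = 0 ∧ pol M v w = 1 ∧ IsUnit e ∧
      ∀ i j, v i * w j - v j * w i = e * (x i * y j - x j * y i) := by
  have hv : qf M (s • x + y) = 0 := by
    rw [qf_add, qf_smul, pol_smul_left, ha, hβ, hc]
    linear_combination hs
  have hu : pol M (s • x + y) x = 2 * a * s + β := by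
    rw [pol_add_left, pol_smul_left, pol_self, pol_comm M y x, ha, hβ]
    ring
  have huu : (2 * a * s + β) * (2 * a * s + β) = β * β - 4 * a * c := by
    linear_combination (4 * a) * hs
  have hunit : IsUnit (2 * a * s + β) := by
    have : IsUnit ((2 * a * s + β) * (2 * a * s + β)) := huu ▸ hd
    exact isUnit_of_mul_isUnit_left this
  obtain ⟨u', hu'⟩ := hunit.exists_right_inv
  refine ⟨s • x + y, u' • x - (u' * u' * a) • (s • x + y), -u', hv, ?_, ?_, ?_, ?_⟩
  · rw [qf_sub, qf_smul, qf_smul, pol_smul_left, pol_smul_right, hv, pol_comm M x, hu, ha]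
    linear_combination (-(u' * u' * a)) * hu'
  · rw [pol_sub_right, pol_smul_right, pol_smul_right, pol_self, hv, hu]
    linear_combination hu'
  · have : IsUnit u' := IsUnit.of_mul_eq_one _ (by rw [mul_comm]; exact hu')
    exact this.neg
  · intro i j
    simp only [Pi.add_apply, Pi.smul_apply, Pi.sub_apply, smul_eq_mul]
    ring

end hyp

section plane

variable {B : Type*} [CommRing B] {ι : Type*} [Fintype ι] [DecidableEq ι]

/-- the complement of two indices -/
abbrev Rest (i0 i1 : ι) : Type _ := {i : ι // i ≠ i0 ∧ i ≠ i1}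

/-- the bijection `(Unit ⊕ Unit) ⊕ Rest i0 i1 ≃ ι` -/
def restEquiv (i0 i1 : ι) (h : i0 ≠ i1) : (Unit ⊕ Unit) ⊕ Rest i0 i1 ≃ ι where
  toFun := Sum.elim (Sum.elim (fun _ => i0) (fun _ => i1)) (fun k => k.1)
  invFun i := if h0 : i = i0 then Sum.inl (Sum.inl ()) else
    if h1 : i = i1 then Sum.inl (Sum.inr ()) else Sum.inr ⟨i, h0, h1⟩
  left_inv := by
    rintro ((_ | _) | ⟨k, hk0, hk1⟩)
    · simp
    · simp [h.symm]
    · simp [hk0, hk1]
  right_inv := by
    intro i
    by_cases h0 : i = i0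
    · simp [h0]
    · by_cases h1 : i = i1
      · subst h1
        simp [h0]
      · simp [h0, h1]

lemma card_rest (i0 i1 : ι) (h : i0 ≠ i1) :
    Fintype.card ι = 2 + Fintype.card (Rest i0 i1) := by
  rw [← Fintype.card_congr (restEquiv i0 i1 h)]
  simp

lemma det_unit_sum (D : Matrix (Unit ⊕ Unit) (Unit ⊕ Unit) B) :
    D.det = D (Sum.inl ()) (Sum.inl ()) * D (Sum.inr ()) (Sum.inr ())
      - D (Sum.inl ()) (Sum.inr ()) * D (Sum.inr ()) (Sum.inl ()) := by
  let e : Fin 2 ≃ Unit ⊕ Unit :=
    ⟨![Sum.inl (), Sum.inr ()], Sum.elim (fun _ => 0) (fun _ => 1),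
      by intro i; fin_cases i <;> rfl, by rintro (_ | _) <;> rfl⟩
  rw [← Matrix.det_submatrix_equiv_self e D, Matrix.det_fin_two]
  rfl

lemma minv_completion (v w : ι → B) (i0 i1 : ι) (h : i0 ≠ i1)
    (hδ : IsUnit (v i0 * w i1 - v i1 * w i0)) :
    MInv (Matrix.fromCols
      (Matrix.of fun i (c : Unit ⊕ Unit) => Sum.elim (fun _ => v i) (fun _ => w i) c)
      (Matrix.of fun i (k : Rest i0 i1) => if i = k.1 then (1 : B) else 0)) := by
  set G₁ := Matrix.fromCols
      (Matrix.of fun i (c : Unit ⊕ Unit) => Sum.elim (fun _ => v i) (fun _ => w i) c)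
      (Matrix.of fun i (k : Rest i0 i1) => if i = k.1 then (1 : B) else 0) with hG₁
  have key : MInv (G₁.submatrix (restEquiv i0 i1 h) (Equiv.refl _)) := by
    apply MInv.of_isUnit_det
    rw [← Matrix.fromBlocks_toBlocks (G₁.submatrix (restEquiv i0 i1 h) (Equiv.refl _))]
    have h12 : (G₁.submatrix (restEquiv i0 i1 h) (Equiv.refl _)).toBlocks₁₂ = 0 := by
      ext a k
      rcases a with _ | _
      · simp [hG₁, Matrix.toBlocks₁₂, restEquiv, Ne.symm k.2.1]
      · simp [hG₁, Matrix.toBlocks₁₂, restEquiv, Ne.symm k.2.2]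
    have h22 : (G₁.submatrix (restEquiv i0 i1 h) (Equiv.refl _)).toBlocks₂₂ = 1 := by
      ext l k
      simp [hG₁, Matrix.toBlocks₂₂, restEquiv, Matrix.one_apply, Subtype.ext_iff]
    rw [h12, h22, Matrix.det_fromBlocks_zero₁₂, Matrix.det_one, mul_one, det_unit_sum]
    have : v i0 * w i1 - v i1 * w i0 = v i0 * w i1 - w i0 * v i1 := by ring
    rw [this] at hδ
    simpa [hG₁, Matrix.toBlocks₁₁, restEquiv] using hδ
  have := key.submatrix (restEquiv i0 i1 h).symm (Equiv.refl _)
  simpa using this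

theorem split_plane (M : Matrix ι ι B) (v w : ι → B) (hv : qf M v = 0) (hw : qf M w = 0)
    (hvw : pol M v w = 1) (i0 i1 : ι) (h : i0 ≠ i1)
    (hδ : IsUnit (v i0 * w i1 - v i1 * w i0)) :
    ∃ (G : Matrix ι ((Unit ⊕ Unit) ⊕ Rest i0 i1) B) (M' : Matrix (Rest i0 i1) (Rest i0 i1) B),
      MInv G ∧ SameQ (Gᵀ * M * G) (Matrix.fromBlocks (splitM B Unit) 0 0 M') := by
  set VW : Matrix ι (Unit ⊕ Unit) B :=
    Matrix.of fun i (c : Unit ⊕ Unit) => Sum.elim (fun _ => v i) (fun _ => w i) c with hVW
  set E : Matrix ι (Rest i0 i1) B :=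
    Matrix.of fun i (k : Rest i0 i1) => if i = k.1 then (1 : B) else 0 with hE
  set C : Matrix (Unit ⊕ Unit) (Rest i0 i1) B :=
    Matrix.of fun (c : Unit ⊕ Unit) (k : Rest i0 i1) =>
      Sum.elim (fun _ => pol M (Pi.single k.1 1) w) (fun _ => pol M (Pi.single k.1 1) v) c with hC
  set U : Matrix ((Unit ⊕ Unit) ⊕ Rest i0 i1) ((Unit ⊕ Unit) ⊕ Rest i0 i1) B :=
    Matrix.fromBlocks 1 (-C) 0 1 with hU
  set G₁ : Matrix ι ((Unit ⊕ Unit) ⊕ Rest i0 i1) B := Matrix.fromCols VW E with hG₁
  set G : Matrix ι ((Unit ⊕ Unit) ⊕ Rest i0 i1) B := G₁ * U with hG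
  have hGinv : MInv G := by
    refine (minv_completion v w i0 i1 h hδ).mul (MInv.of_isUnit_det ?_)
    rw [Matrix.det_fromBlocks_zero₂₁]
    simp
  have hGeq : G = Matrix.fromCols VW (E - VW * C) := by
    rw [hG, hG₁, hU, Matrix.fromCols_mul_fromBlocks VW E 1 (-C) 0 1]
    simp [sub_eq_neg_add]
  have hcol0 : (fun i => G i (Sum.inl (Sum.inl ()))) = v := by
    funext i; rw [hGeq]; simp [hVW]
  have hcol1 : (fun i => G i (Sum.inl (Sum.inr ()))) = w := by
    funext i; rw [hGeq]; simp [hVW]
  have hcolk : ∀ k : Rest i0 i1, (fun i => G i (Sum.inr k))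
      = Pi.single k.1 1 - pol M (Pi.single k.1 1) w • v - pol M (Pi.single k.1 1) v • w := by
    intro k
    funext i
    rw [hGeq]
    simp only [Matrix.fromCols_apply_inr, Matrix.sub_apply, Matrix.mul_apply,
      Fintype.sum_sum_type, Finset.univ_unique, Finset.sum_singleton, hVW, hE, hC,
      Matrix.of_apply, Sum.elim_inl, Sum.elim_inr, Pi.sub_apply, Pi.smul_apply, smul_eq_mul,
      Pi.single_apply]
    ring
  have hvv : pol M v v = 0 := by rw [pol_self, hv, add_zero]
  have hww : pol M w w = 0 := by rw [pol_self, hw, add_zero]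
  have hwv : pol M w v = 1 := by rw [pol_comm, hvw]
  have hvk : ∀ k : Rest i0 i1, pol M v (fun i => G i (Sum.inr k)) = 0 := by
    intro k
    rw [hcolk, pol_sub_right, pol_sub_right, pol_smul_right, pol_smul_right, hvv, hvw,
      pol_comm M v (Pi.single k.1 1)]
    ring
  have hwk : ∀ k : Rest i0 i1, pol M w (fun i => G i (Sum.inr k)) = 0 := by
    intro k
    rw [hcolk, pol_sub_right, pol_sub_right, pol_smul_right, pol_smul_right, hww, hwv,
      pol_comm M w (Pi.single k.1 1)]
    ring
  refine ⟨G, (Gᵀ * M * G).toBlocks₂₂, hGinv, ?_, ?_⟩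
  · rintro ((_ | _) | k)
    · rw [conj_apply, hcol0]
      simp only [splitM, Matrix.fromBlocks_apply₁₁, Matrix.zero_apply]
      exact hv
    · rw [conj_apply, hcol1]
      simp only [splitM, Matrix.fromBlocks_apply₁₁, Matrix.fromBlocks_apply₂₂, Matrix.zero_apply]
      exact hw
    · simp [Matrix.toBlocks₂₂]
  · ext c c'
    have hpol : ∀ c c', (Gᵀ * M * G + (Gᵀ * M * G)ᵀ) c c'
        = pol M (fun i => G i c) (fun i => G i c') := by
      intro c c'
      rw [Matrix.add_apply, Matrix.transpose_apply, conj_apply, conj_apply]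
      rfl
    rw [hpol]
    rcases c with (_ | _) | k <;> rcases c' with (_ | _) | k'
    · rw [hcol0]; simpa [splitM] using hvv
    · rw [hcol0, hcol1]; simpa [splitM] using hvw
    · rw [hcol0]; simpa using hvk k'
    · rw [hcol0, hcol1]; simpa [splitM] using hwv
    · rw [hcol1]; simpa [splitM] using hww
    · rw [hcol1]; simpa using hwk k'
    · rw [hcol0, pol_comm]; simpa using hvk k
    · rw [hcol1, pol_comm]; simpa using hwk k
    · rw [← hpol]
      simp only [Matrix.add_apply, Matrix.transpose_apply, Matrix.fromBlocks_apply₂₂]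
      rfl

end plane

section step

/-- The induction step: split off a hyperbolic plane after a quadratic étale extension. -/
theorem locSplit_step {R : Type u} [CommRing R] {ι : Type} [Fintype ι] [DecidableEq ι] (m : ℕ)
    (IH : ∀ (B : Type u) [CommRing B] (ι' : Type) [Fintype ι'] [DecidableEq ι']
      (M' : Matrix ι' ι' B), Fintype.card ι' = 2 * m → IsUnit (M' + M'ᵀ).det → LocSplit m M')
    (M : Matrix ι ι R) (hcard : Fintype.card ι = 2 * (m + 1)) (hM : IsUnit (M + Mᵀ).det)
    (x y : ι → R) (i0 i1 : ι) (hne : i0 ≠ i1)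
    (ha : IsUnit (qf M x))
    (hd : IsUnit (pol M x y * pol M x y - 4 * qf M x * qf M y))
    (hδ : IsUnit (x i0 * y i1 - x i1 * y i0)) :
    LocSplit (m + 1) M := by
  obtain ⟨a, haa⟩ : ∃ a, qf M x = a := ⟨_, rfl⟩
  obtain ⟨β, hββ⟩ : ∃ β, pol M x y = β := ⟨_, rfl⟩
  obtain ⟨c, hcc⟩ : ∃ c, qf M y = c := ⟨_, rfl⟩
  rw [haa] at ha
  rw [haa, hββ, hcc] at hd
  obtain ⟨a', ha'⟩ := ha.exists_right_inv
  have hunit : IsUnit ((a' * β) * (a' * β) - 4 * (a' * c)) := by
    have : (a' * β) * (a' * β) - 4 * (a' * c) = a' * a' * (β * β - 4 * a * c) := by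
      linear_combination (4 * a' * c) * ha'
    rw [this]
    have hu' : IsUnit a' := IsUnit.of_mul_eq_one _ (by rw [mul_comm]; exact ha')
    exact (hu'.mul hu').mul hd
  obtain ⟨B, _, _, het, hcov, s, hs⟩ := exists_quadratic_cover (a' * β) (a' * c) hunit
  refine LocSplit.of_cover (ECover.single B hcov) fun _ => ?_
  show LocSplit (m + 1) (M.map (algebraMap R B))
  obtain ⟨f, hf⟩ : ∃ f : R →+* B, f = algebraMap R B := ⟨_, rfl⟩
  rw [← hf] at hs ⊢
  have hs' : f a * s * s + f β * s + f c = 0 := by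
    have h1 : f a * f a' = 1 := by rw [← map_mul, ha', map_one]
    have : f a * (s * s + f (a' * β) * s + f (a' * c)) = 0 := by rw [hs, mul_zero]
    rw [map_mul, map_mul] at this
    linear_combination this - (f β * s + f c) * h1
  have hdB : IsUnit (f β * f β - 4 * f a * f c) := by
    have := hd.map f
    have h4 : f 4 = 4 := map_ofNat f 4
    simpa [map_sub, map_mul, h4] using this
  obtain ⟨v, w, e, hv, hw, hvw, he, hmin⟩ :=
    exists_hyp_pair (M.map f) (f ∘ x) (f ∘ y) s (f a) (f β) (f c)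
      (by rw [qf_map, haa]) (by rw [pol_map, hββ]) (by rw [qf_map, hcc]) hs' hdB
  have hδB : IsUnit (v i0 * w i1 - v i1 * w i0) := by
    rw [hmin]
    refine he.mul ?_
    have := hδ.map f
    simpa [map_sub, map_mul] using this
  obtain ⟨G, M', hG, hS⟩ := split_plane (M.map f) v w hv hw hvw i0 i1 hne hδB
  have hMB : IsUnit (M.map f + (M.map f)ᵀ).det := by
    have := hM.map f
    rw [RingHom.map_det] at this
    simpa [Matrix.map_add, Matrix.transpose_map] using this
  have hN := isUnit_det_polar_of_sameQ hG hMB hS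
  have hM' : IsUnit (M' + M'ᵀ).det := by
    rw [Matrix.fromBlocks_transpose, Matrix.fromBlocks_add] at hN
    simp only [Matrix.transpose_zero, add_zero] at hN
    rw [Matrix.det_fromBlocks_zero₂₁] at hN
    exact isUnit_of_mul_isUnit_right hN
  have hcard' : Fintype.card (Rest i0 i1) = 2 * m := by
    have := card_rest i0 i1 hne
    omega
  exact LocSplit.conj G hG hS (IH B (Rest i0 i1) M' hcard' hM').block

end step

end Groth.Agent.Lib.T2H2.QSplit
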