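import Groth.Agent.Lib.T2H2QSplitC

/-!
# Regular quadratic forms of even rank are étale-locally split
-/

set_option autoImplicit false
universe u

namespace Groth.Agent.Lib.T2H2.QSplit

open Matrix

section domain

variable {D : Type*} [CommRing D] [IsDomain D] {ι : Type*} [Fintype ι] [DecidableEq ι]

omit [IsDomain D] [DecidableEq ι] in
lemma bq_symm_of_transpose_eq (P : Matrix ι ι D) (hP : Pᵀ = P) (x y : ι → D) :
    bq P x y = bq P y x := by
  rw [← bq_transpose, hP]

/-- Over a domain, a nondegenerate symmetric bilinear form in at least two variables has a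
nondegenerate binary subform. -/
lemma exists_disc_ne_zero (P : Matrix ι ι D) (hP : Pᵀ = P) (hdet : P.det ≠ 0) (i0 i1 : ι)
    (h : i0 ≠ i1) :
    ∃ x y : ι → D, bq P x y * bq P x y - bq P x x * bq P y y ≠ 0 := by
  by_cases hiso : ∃ x : ι → D, x ≠ 0 ∧ bq P x x = 0
  · obtain ⟨x, hx0, hxx⟩ := hiso
    have hPx : P *ᵥ x ≠ 0 := fun h0 => hx0 (Matrix.eq_zero_of_mulVec_eq_zero hdet h0)
    obtain ⟨j, hj⟩ : ∃ j, (P *ᵥ x) j ≠ 0 := by
      by_contra hcon
      push Not at hcon
      exact hPx (funext hcon)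
    refine ⟨x, Pi.single j 1, ?_⟩
    have h1 : bq P x (Pi.single j 1) = (P *ᵥ x) j := by
      rw [bq_symm_of_transpose_eq P hP, bq, single_one_dotProduct]
    rw [hxx, zero_mul, sub_zero, h1]
    exact mul_ne_zero hj hj
  · push Not at hiso
    obtain ⟨x, hx⟩ : ∃ x : ι → D, x = Pi.single i0 1 := ⟨_, rfl⟩
    have hx0 : x ≠ 0 := fun h0 => one_ne_zero (α := D) (by simpa [hx] using congrFun h0 i0)
    have hxx := hiso x hx0
    obtain ⟨y, hy⟩ : ∃ y : ι → D,
        y = bq P x x • Pi.single i1 1 - bq P (Pi.single i1 1) x • x := ⟨_, rfl⟩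
    have hy0 : y ≠ 0 := by
      intro h0
      have := congrFun h0 i1
      simp [hy, hx, h.symm] at this
      exact hxx (by rw [hx]; exact this)
    have hyy := hiso y hy0
    have hxy : bq P x y = 0 := by
      rw [hy, bq_sub_right, bq_smul_right, bq_smul_right,
        bq_symm_of_transpose_eq P hP (Pi.single i1 1) x]
      ring
    refine ⟨x, y, ?_⟩
    rw [hxy, zero_mul, zero_sub, neg_ne_zero]
    exact mul_ne_zero hxx hyy

omit [DecidableEq ι] in
/-- proportional vectors span a degenerate binary subform -/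
lemma disc_eq_zero_of_minors (P : Matrix ι ι D) (x y : ι → D)
    (hmin : ∀ i j, x i * y j = x j * y i) :
    bq P x y * bq P x y - bq P x x * bq P y y = 0 := by
  by_contra hne
  have hk : ∀ k, x k = 0 := by
    intro k
    have hprop : x k • y = y k • x := by
      funext j
      simp only [Pi.smul_apply, smul_eq_mul]
      rw [hmin k j]; ring
    have h1 : (x k * x k) * (bq P x y * bq P x y - bq P x x * bq P y y) = 0 := by
      have e : (x k * x k) * (bq P x y * bq P x y - bq P x x * bq P y y)
          = bq P x (x k • y) * bq P x (x k • y) - bq P x x * bq P (x k • y) (x k • y) := by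
        rw [bq_smul_right, bq_smul_left, bq_smul_right]; ring
      rw [e, hprop, bq_smul_right, bq_smul_left, bq_smul_right]; ring
    rcases mul_eq_zero.1 h1 with h2 | h2
    · exact mul_self_eq_zero.1 h2
    · exact absurd h2 hne
  have hx : x = 0 := funext hk
  apply hne
  rw [hx]
  simp [bq]

end domain

section localdata

variable {A : Type*} [CommRing A] {ι : Type*} [Fintype ι] [DecidableEq ι]

/-- the discriminant of the binary subform spanned by `x`, `y` -/
def disc (M : Matrix ι ι A) (x y : ι → A) : A :=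
  pol M x y * pol M x y - 4 * qf M x * qf M y

omit [DecidableEq ι] in
lemma disc_swap (M : Matrix ι ι A) (x y : ι → A) : disc M y x = disc M x y := by
  simp only [disc, pol_comm M y x]; ring

omit [DecidableEq ι] in
lemma disc_add_left (M : Matrix ι ι A) (x y : ι → A) : disc M (x + y) y = disc M x y := by
  simp only [disc, pol_add_left, qf_add, pol_self]; ring

omit [DecidableEq ι] in
lemma mk_disc (M : Matrix ι ι A) (p : Ideal A) (x y : ι → A) :
    Ideal.Quotient.mk p (disc M x y)
      = bq ((M + Mᵀ).map (Ideal.Quotient.mk p)) (Ideal.Quotient.mk p ∘ x) (Ideal.Quotient.mk p ∘ y)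
          * bq ((M + Mᵀ).map (Ideal.Quotient.mk p)) (Ideal.Quotient.mk p ∘ x)
            (Ideal.Quotient.mk p ∘ y)
        - bq ((M + Mᵀ).map (Ideal.Quotient.mk p)) (Ideal.Quotient.mk p ∘ x)
            (Ideal.Quotient.mk p ∘ x)
          * bq ((M + Mᵀ).map (Ideal.Quotient.mk p)) (Ideal.Quotient.mk p ∘ y)
            (Ideal.Quotient.mk p ∘ y) := by
  rw [bq_map, bq_map, bq_map, ← pol_eq_bq, ← pol_eq_bq, ← pol_eq_bq, pol_self, pol_self,
    ← map_mul, ← map_mul, ← map_sub]
  congr 1
  simp only [disc]; ring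

lemma exists_local_data (M : Matrix ι ι A) (hM : IsUnit (M + Mᵀ).det) (j0 j1 : ι) (hj : j0 ≠ j1)
    (p : Ideal A) [p.IsPrime] :
    ∃ (x y : ι → A) (i0 i1 : ι), i0 ≠ i1 ∧
      qf M x * (pol M x y * pol M x y - 4 * qf M x * qf M y) * (x i0 * y i1 - x i1 * y i0) ∉ p := by
  obtain ⟨π, hπ⟩ : ∃ π : A →+* A ⧸ p, π = Ideal.Quotient.mk p := ⟨_, rfl⟩
  have hπs : Function.Surjective π := hπ ▸ Ideal.Quotient.mk_surjective
  have hmem : ∀ a : A, π a = 0 ↔ a ∈ p := fun a => hπ ▸ Ideal.Quotient.eq_zero_iff_mem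
  -- step 1: a pair with nonzero discriminant
  have hPt : ((M + Mᵀ).map π)ᵀ = (M + Mᵀ).map π := by
    rw [← Matrix.transpose_map, Matrix.transpose_add, Matrix.transpose_transpose, add_comm]
  have hdet : ((M + Mᵀ).map π).det ≠ 0 := by
    have : ((M + Mᵀ).map π).det = π ((M + Mᵀ).det) := (RingHom.map_det π _).symm
    rw [this]
    exact (hM.map π).ne_zero
  obtain ⟨xb, yb, hne⟩ := exists_disc_ne_zero _ hPt hdet j0 j1 hj
  obtain ⟨x, rfl⟩ := hπs.comp_left xb
  obtain ⟨y, rfl⟩ := hπs.comp_left yb
  have hdisc : disc M x y ∉ p := by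
    rw [← hmem, hπ, mk_disc, ← hπ]
    exact hne
  -- step 2: make `qf M x` a unit at `p`
  obtain ⟨x, y, hdisc, hq⟩ : ∃ x y : ι → A, disc M x y ∉ p ∧ qf M x ∉ p := by
    by_cases h1 : qf M x ∈ p
    · by_cases h2 : qf M y ∈ p
      · refine ⟨x + y, y, by rwa [disc_add_left], ?_⟩
        have hpol : pol M x y ∉ p := by
          intro hpol
          apply hdisc
          simp only [disc]
          exact p.sub_mem (p.mul_mem_left _ hpol) (p.mul_mem_left _ h2)
        rw [qf_add]
        intro hsum
        apply hpol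
        have := p.sub_mem hsum (p.add_mem h1 h2)
        simpa using this
      · exact ⟨y, x, by rwa [disc_swap], h2⟩
    · exact ⟨x, y, hdisc, h1⟩
  -- step 3: a minor that is a unit at `p`
  obtain ⟨i0, i1, hmin⟩ : ∃ i0 i1 : ι, x i0 * y i1 - x i1 * y i0 ∉ p := by
    by_contra hcon
    push Not at hcon
    apply hdisc
    rw [← hmem, hπ, mk_disc, ← hπ]
    apply disc_eq_zero_of_minors
    intro i j
    have := (hmem _).2 (hcon i j)
    rw [map_sub, map_mul, map_mul, sub_eq_zero] at this
    exact this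
  have hne01 : i0 ≠ i1 := by
    rintro rfl
    apply hmin
    simp
  refine ⟨x, y, i0, i1, hne01, ?_⟩
  intro hmem3
  rcases Ideal.IsPrime.mem_or_mem ‹p.IsPrime› hmem3 with h | h
  · rcases Ideal.IsPrime.mem_or_mem ‹p.IsPrime› h with h | h
    · exact hq h
    · exact hdisc h
  · exact hmin h

end localdata

section main

/-- **Regular quadratic forms of even rank are étale-locally split.** -/
theorem locSplit_of_regular : ∀ (m : ℕ) (A : Type u) [CommRing A] (ι : Type) [Fintype ι]
    [DecidableEq ι] (M : Matrix ι ι A),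
    Fintype.card ι = 2 * m → IsUnit (M + Mᵀ).det → LocSplit m M := by
  intro m
  induction m with
  | zero =>
    intro A _ ι _ _ M hcard _
    have : IsEmpty ι := Fintype.card_eq_zero_iff.1 (by simpa using hcard)
    refine LocSplit.of_isSplit ⟨Empty, inferInstance, inferInstance,
      Matrix.of (fun i _ => isEmptyElim i), by simp,
      ⟨Matrix.of (fun c _ => isEmptyElim c), Subsingleton.elim _ _, Subsingleton.elim _ _⟩,
      fun c => isEmptyElim c, Subsingleton.elim _ _⟩
  | succ m IH =>
    intro A _ ι _ _ M hcard hM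
    apply LocSplit.of_zariski_local
    intro p
    obtain ⟨j0, j1, hj⟩ : ∃ j0 j1 : ι, j0 ≠ j1 := by
      have : 1 < Fintype.card ι := by omega
      exact Fintype.one_lt_card_iff.1 this
    obtain ⟨x, y, i0, i1, hne, hprod⟩ := exists_local_data M hM j0 j1 hj p.asIdeal
    refine ⟨_, hprod, ?_⟩
    obtain ⟨φ, hφ⟩ : ∃ φ : A →+* Localization.Away (qf M x *
        (pol M x y * pol M x y - 4 * qf M x * qf M y) * (x i0 * y i1 - x i1 * y i0)),
        φ = algebraMap A _ := ⟨_, rfl⟩
    rw [← hφ]
    have hf : IsUnit (φ (qf M x * (pol M x y * pol M x y - 4 * qf M x * qf M y) *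
        (x i0 * y i1 - x i1 * y i0))) := hφ ▸ IsLocalization.Away.algebraMap_isUnit _
    rw [map_mul, map_mul] at hf
    have h1 := isUnit_of_mul_isUnit_left hf
    have hδ := isUnit_of_mul_isUnit_right hf
    have ha := isUnit_of_mul_isUnit_left h1
    have hd := isUnit_of_mul_isUnit_right h1
    have hMφ : IsUnit (M.map φ + (M.map φ)ᵀ).det := by
      have := hM.map φ
      rw [RingHom.map_det] at this
      simpa [Matrix.map_add, Matrix.transpose_map] using this
    have h4 : φ 4 = 4 := map_ofNat φ 4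
    refine locSplit_step m (fun B _ ι' _ _ M' => IH B ι' M') (M.map φ) hcard hMφ
      (φ ∘ x) (φ ∘ y) i0 i1 hne ?_ ?_ ?_
    · rw [qf_map]; exact ha
    · rw [pol_map, qf_map, qf_map]
      simpa [map_sub, map_mul, h4] using hd
    · simpa [map_sub, map_mul] using hδ

end main

end Groth.Agent.Lib.T2H2.QSplit
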