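import Groth.Agent.Lib.T2H2AffRpushB
import Groth.Agent.Lib.Helper23QCohExt

/-!
# `D_QCoh` is stable under cones; `Rf_*` and isomorphisms of the source (T2H2)
-/

set_option autoImplicit false
set_option linter.style.haveILetI false
universe w v u
open CategoryTheory CategoryTheory.Limits AlgebraicGeometry Opposite

namespace Groth.Agent.Lib.T2H2.QcRpush

section FiveTerm

variable {𝒜 : Type u} [Category.{v} 𝒜] [Abelian 𝒜] (P : ObjectProperty 𝒜)

/-- `P` is a weak Serre class: closed under kernels, cokernels and extensions. -/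
structure IsWeakSerre : Prop where
  ker : ∀ {A B : 𝒜} (f : A ⟶ B), P A → P B → P (kernel f)
  coker : ∀ {A B : 𝒜} (f : A ⟶ B), P A → P B → P (cokernel f)
  ext : ∀ (S : ShortComplex 𝒜), S.ShortExact → P S.X₁ → P S.X₃ → P S.X₂

variable {P}

/-- the middle term of a five term exact sequence with outer terms in `P` lies in `P`. -/
theorem IsWeakSerre.of_five (hP : IsWeakSerre P) {A B C D E : 𝒜} (a : A ⟶ B) (δ : B ⟶ C)
    (b : C ⟶ D) (c : D ⟶ E) (w₁ : a ≫ δ = 0) (w₂ : δ ≫ b = 0) (w₃ : b ≫ c = 0)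
    (h₁ : (ShortComplex.mk a δ w₁).Exact) (h₂ : (ShortComplex.mk δ b w₂).Exact)
    (h₃ : (ShortComplex.mk b c w₃).Exact) (hA : P A) (hB : P B) (hD : P D) (hE : P E) :
    P C := by
  haveI : Mono (cokernel.desc a δ w₁) :=
    (ShortComplex.mk a δ w₁).exact_iff_mono_cokernel_desc.1 h₁
  haveI : Epi (kernel.lift c b w₃) :=
    (ShortComplex.mk b c w₃).exact_iff_epi_kernel_lift.1 h₃
  have w₄ : cokernel.desc a δ w₁ ≫ b = 0 := by
    rw [← cancel_epi (cokernel.π a), cokernel.π_desc_assoc, w₂, comp_zero]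
  have w₅ : cokernel.desc a δ w₁ ≫ kernel.lift c b w₃ = 0 := by
    rw [← cancel_mono (kernel.ι c), Category.assoc, kernel.lift_ι, w₄, zero_comp]
  -- exactness of the intermediate complex
  let φ₁ : ShortComplex.mk δ b w₂ ⟶ ShortComplex.mk (cokernel.desc a δ w₁) b w₄ :=
    { τ₁ := cokernel.π a
      τ₂ := 𝟙 _
      τ₃ := 𝟙 _
      comm₁₂ := by
        change cokernel.π a ≫ cokernel.desc a δ w₁ = δ ≫ 𝟙 _
        rw [cokernel.π_desc, Category.comp_id]
      comm₂₃ := by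
        change 𝟙 _ ≫ b = b ≫ 𝟙 _
        rw [Category.id_comp, Category.comp_id] }
  haveI : Epi φ₁.τ₁ := inferInstanceAs (Epi (cokernel.π a))
  haveI : IsIso φ₁.τ₂ := inferInstanceAs (IsIso (𝟙 C))
  haveI : Mono φ₁.τ₃ := inferInstanceAs (Mono (𝟙 D))
  have h₄ : (ShortComplex.mk (cokernel.desc a δ w₁) b w₄).Exact :=
    (ShortComplex.exact_iff_of_epi_of_isIso_of_mono φ₁).1 h₂
  let φ₂ : ShortComplex.mk (cokernel.desc a δ w₁) (kernel.lift c b w₃) w₅ ⟶
      ShortComplex.mk (cokernel.desc a δ w₁) b w₄ :=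
    { τ₁ := 𝟙 _
      τ₂ := 𝟙 _
      τ₃ := kernel.ι c
      comm₁₂ := by
        change 𝟙 _ ≫ cokernel.desc a δ w₁ = cokernel.desc a δ w₁ ≫ 𝟙 _
        rw [Category.id_comp, Category.comp_id]
      comm₂₃ := by
        change 𝟙 _ ≫ b = kernel.lift c b w₃ ≫ kernel.ι c
        rw [Category.id_comp, kernel.lift_ι] }
  haveI : Epi φ₂.τ₁ := inferInstanceAs (Epi (𝟙 (cokernel a)))
  haveI : IsIso φ₂.τ₂ := inferInstanceAs (IsIso (𝟙 C))
  haveI : Mono φ₂.τ₃ := inferInstanceAs (Mono (kernel.ι c))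
  have h₅ : (ShortComplex.mk (cokernel.desc a δ w₁) (kernel.lift c b w₃) w₅).Exact :=
    (ShortComplex.exact_iff_of_epi_of_isIso_of_mono φ₂).2 h₄
  exact hP.ext _ { exact := h₅ } (hP.coker a hA hB) (hP.ker c hD hE)

variable [HasDerivedCategory.{w} 𝒜]

open Pretriangulated in
/-- if the second and third vertices of a distinguished triangle have cohomology in `P`, so does
the first. -/
theorem IsWeakSerre.homology_obj₁ (hP : IsWeakSerre P) (T : Triangle (DerivedCategory 𝒜))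
    (hT : T ∈ distTriang _)
    (h₂ : ∀ i : ℤ, P ((DerivedCategory.homologyFunctor 𝒜 i).obj T.obj₂))
    (h₃ : ∀ i : ℤ, P ((DerivedCategory.homologyFunctor 𝒜 i).obj T.obj₃)) (n : ℤ) :
    P ((DerivedCategory.homologyFunctor 𝒜 n).obj T.obj₁) :=
  hP.of_five ((DerivedCategory.homologyFunctor 𝒜 (n - 1)).map T.mor₂)
    (DerivedCategory.HomologySequence.δ T (n - 1) n (by lia))
    ((DerivedCategory.homologyFunctor 𝒜 n).map T.mor₁)
    ((DerivedCategory.homologyFunctor 𝒜 n).map T.mor₂) _ _ _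
    (DerivedCategory.HomologySequence.exact₃ T hT (n - 1) n (by lia))
    (DerivedCategory.HomologySequence.exact₁ T hT (n - 1) n (by lia))
    (DerivedCategory.HomologySequence.exact₂ T hT n)
    (h₂ _) (h₃ _) (h₂ _) (h₃ _)

end FiveTerm

end Groth.Agent.Lib.T2H2.QcRpush
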