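import Groth.Agent.Lib.T2H2QcRpushA

/-!
# `D_QCoh` is a triangulated subcategory; `Rf_*` and isomorphisms of the source (T2H2)
-/

set_option autoImplicit false
set_option linter.style.haveILetI false
universe u
open CategoryTheory CategoryTheory.Limits AlgebraicGeometry Opposite

attribute [local instance] HasDerivedCategory.standard

namespace Groth.Agent.Lib.T2H2.QcRpush

open Groth.Agent.Lib.Helper23.QCohLocal Groth.Agent.Lib.T2H8.PCohQCoh
  Groth.Agent.Lib.T2H8.PCohTriangle Groth.Agent.Lib.T2H2.AffRpush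

/-- quasi-coherent modules form a weak Serre class. -/
theorem isWeakSerre_qcoh (X : Scheme.{u}) :
    IsWeakSerre (fun M : X.Modules => M.IsQuasicoherent) where
  ker f hA hB := by
    haveI := hA
    haveI := hB
    exact isQuasicoherent_kernel f
  coker f hA hB := by
    haveI := hA
    haveI := hB
    exact isQuasicoherent_cokernel f
  ext S hS h1 h3 := isQuasicoherent_of_shortExact S hS h1 h3

open Pretriangulated in
/-- `D_QCoh`: if the second and third vertices of a distinguished triangle lie in `D_QCoh`, so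
does the first. -/
theorem isQCohD_obj₁ {X : Scheme.{u}} (T : Triangle (DCoh.D X)) (hT : T ∈ distTriang _)
    (h₂ : DCoh.IsQCohD T.obj₂) (h₃ : DCoh.IsQCohD T.obj₃) : DCoh.IsQCohD T.obj₁ :=
  fun n => (isWeakSerre_qcoh X).homology_obj₁ T hT h₂ h₃ n

/-- `D_QCoh` is stable under binary biproducts. -/
theorem isQCohD_biprod {X : Scheme.{u}} (A B : DCoh.D X) (hA : DCoh.IsQCohD A)
    (hB : DCoh.IsQCohD B) : DCoh.IsQCohD (A ⊞ B) := by
  intro n
  haveI : ((DerivedCategory.homologyFunctor X.Modules n).obj A).IsQuasicoherent := hA n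
  haveI : ((DerivedCategory.homologyFunctor X.Modules n).obj B).IsQuasicoherent := hB n
  haveI : PreservesBinaryBiproducts (DerivedCategory.homologyFunctor X.Modules n) :=
    preservesBinaryBiproducts_of_preservesBiproducts _
  exact isQCoh_of_iso ((DerivedCategory.homologyFunctor X.Modules n).mapBiprod A B).symm
    (isQuasicoherent_biprod _ _)

section Iso

variable {Y₁ Y₂ S : Scheme.{u}} (e : Y₁ ≅ Y₂)

/-- pushforward along an isomorphism is an equivalence. -/
theorem isEquivalence_pushforward_iso : (Scheme.Modules.pushforward e.hom).IsEquivalence :=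
  (CategoryTheory.Equivalence.mk (Scheme.Modules.pushforward e.hom)
    (Scheme.Modules.pushforward e.inv)
    ((Scheme.Modules.pushforwardId Y₁).symm ≪≫
      Scheme.Modules.pushforwardCongr e.hom_inv_id.symm ≪≫
      (Scheme.Modules.pushforwardComp e.hom e.inv).symm)
    (Scheme.Modules.pushforwardComp e.inv e.hom ≪≫
      Scheme.Modules.pushforwardCongr e.inv_hom_id ≪≫
      Scheme.Modules.pushforwardId Y₂)).isEquivalence_functor

attribute [local instance] Groth.Agent.Lib.T2H1.RpushSupport.hasRpush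

/-- `R(e ≫ h₂)_* K₁ ≅ Rh₂_* K₂` for an isomorphism `e`, where `K₂` "is" `e_* K₁`: its cohomology
sheaves are the direct images of those of `K₁`. -/
theorem exists_Rpush_iso_of_iso (h₂ : Y₂ ⟶ S) (K₁ : DCoh.D Y₁) :
    ∃ K₂ : DCoh.D Y₂,
      (∀ n : ℤ, Nonempty ((DerivedCategory.homologyFunctor Y₂.Modules n).obj K₂ ≅
        (Scheme.Modules.pushforward e.hom).obj
          ((DerivedCategory.homologyFunctor Y₁.Modules n).obj K₁))) ∧
      Nonempty ((DCoh.Rpush (e.hom ≫ h₂)).obj K₁ ≅ (DCoh.Rpush h₂).obj K₂) := by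
  haveI := Groth.Agent.Lib.T2H2.ModLim.isGrothendieckAbelian_modules Y₁
  haveI := Groth.Agent.Lib.T2H2.ModLim.isGrothendieckAbelian_modules Y₂
  haveI := isEquivalence_pushforward_iso e
  haveI : PreservesFiniteLimits (Scheme.Modules.pushforward e.hom) := inferInstance
  haveI : PreservesFiniteColimits (Scheme.Modules.pushforward e.hom) := inferInstance
  obtain ⟨I, hI, ⟨a⟩⟩ := Groth.Agent.Lib.T2H1.KhUnit.exists_iso_Q_obj_isKInjective.{u} K₁
  haveI := hI
  -- `e_* I` is K-injective
  haveI : PreservesFiniteLimits (Scheme.Modules.restrictFunctor e.hom) := inferInstance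
  haveI : PreservesFiniteColimits (Scheme.Modules.restrictFunctor e.hom) := inferInstance
  haveI hJ : CochainComplex.IsKInjective
      (((Scheme.Modules.pushforward e.hom).mapHomologicalComplex (ComplexShape.up ℤ)).obj I) :=
    Groth.Agent.Lib.Helper16.KInjAdj.isKInjective_map (Scheme.Modules.restrictAdjunction e.hom) I
  -- units
  haveI u₁ : IsIso (((DCoh.pushKh (e.hom ≫ h₂)).totalRightDerivedUnit DerivedCategory.Qh
      (HomotopyCategory.quasiIso Y₁.Modules (ComplexShape.up ℤ))).app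
      ((HomotopyCategory.quotient Y₁.Modules (ComplexShape.up ℤ)).obj I)) :=
    Groth.Agent.Lib.T2H1.KhUnit.isIso_app_quotient_of_isKInjective.{u}
      (Scheme.Modules.pushforward (e.hom ≫ h₂)) (DCoh.Rpush (e.hom ≫ h₂)) _ I
  haveI u₂ : IsIso (((DCoh.pushKh h₂).totalRightDerivedUnit DerivedCategory.Qh
      (HomotopyCategory.quasiIso Y₂.Modules (ComplexShape.up ℤ))).app
      ((HomotopyCategory.quotient Y₂.Modules (ComplexShape.up ℤ)).obj
        (((Scheme.Modules.pushforward e.hom).mapHomologicalComplex (ComplexShape.up ℤ)).obj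
          I))) :=
    Groth.Agent.Lib.T2H1.KhUnit.isIso_app_quotient_of_isKInjective.{u}
      (Scheme.Modules.pushforward h₂) (DCoh.Rpush h₂) _ _
  -- the comparison of complexes
  let c : ((Scheme.Modules.pushforward h₂).mapHomologicalComplex (ComplexShape.up ℤ)).obj
      (((Scheme.Modules.pushforward e.hom).mapHomologicalComplex (ComplexShape.up ℤ)).obj I) ≅
      ((Scheme.Modules.pushforward (e.hom ≫ h₂)).mapHomologicalComplex (ComplexShape.up ℤ)).obj
        I :=
    (Functor.mapHomologicalComplexCompIso (Scheme.Modules.pushforwardComp e.hom h₂)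
      (ComplexShape.up ℤ)).app I
  have i₁ : (DCoh.Rpush (e.hom ≫ h₂)).obj K₁ ≅ (DCoh.Rpush h₂).obj (DerivedCategory.Q.obj
      (((Scheme.Modules.pushforward e.hom).mapHomologicalComplex (ComplexShape.up ℤ)).obj I)) :=
    (DCoh.Rpush (e.hom ≫ h₂)).mapIso a ≪≫ (asIso (((DCoh.pushKh (e.hom ≫ h₂)).totalRightDerivedUnit
      DerivedCategory.Qh (HomotopyCategory.quasiIso Y₁.Modules (ComplexShape.up ℤ))).app
      ((HomotopyCategory.quotient Y₁.Modules (ComplexShape.up ℤ)).obj I))).symm ≪≫
      DerivedCategory.Q.mapIso c.symm ≪≫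
      @asIso _ _ _ _ _ u₂
  refine ⟨_, fun n => ⟨?_⟩, ⟨i₁⟩⟩
  exact (DerivedCategory.homologyFunctorFactors Y₂.Modules n).app _ ≪≫
    (homologyFunctorMapIso (Scheme.Modules.pushforward e.hom) n).app I ≪≫
    (Scheme.Modules.pushforward e.hom).mapIso
      (((DerivedCategory.homologyFunctorFactors Y₁.Modules n).app I).symm ≪≫
        (DerivedCategory.homologyFunctor Y₁.Modules n).mapIso a.symm)

/-- if `Rh₂_*` preserves `D_QCoh`, so does `R(e ≫ h₂)_*` for an isomorphism `e`. -/
theorem isQCohD_Rpush_of_iso (h₂ : Y₂ ⟶ S)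
    (hgood : ∀ K : DCoh.D Y₂, DCoh.IsQCohD K → DCoh.IsQCohD ((DCoh.Rpush h₂).obj K))
    (K₁ : DCoh.D Y₁) (hK₁ : DCoh.IsQCohD K₁) :
    DCoh.IsQCohD ((DCoh.Rpush (e.hom ≫ h₂)).obj K₁) := by
  obtain ⟨K₂, hK₂, ⟨i₁⟩⟩ := exists_Rpush_iso_of_iso e h₂ K₁
  refine Groth.Agent.Lib.T2H2.LpullQCoh.isQCohD_of_iso i₁.symm (hgood _ ?_)
  intro n
  obtain ⟨j⟩ := hK₂ n
  haveI : ((DerivedCategory.homologyFunctor Y₁.Modules n).obj K₁).IsQuasicoherent := hK₁ n
  exact isQCoh_of_iso j.symm (isQuasicoherent_pushforward e.hom _)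

end Iso

end Groth.Agent.Lib.T2H2.QcRpush
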