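import Groth.Agent.Lib.T2H2QcRpushB
import Groth.Agent.S0015

/-!
# `Rf_*` preserves `D_QCoh` for quasi-compact quasi-separated `f`, given relative Mayer–Vietoris
(T2H2)
-/

set_option autoImplicit false
set_option linter.style.haveILetI false
universe u
open CategoryTheory CategoryTheory.Limits AlgebraicGeometry Opposite

attribute [local instance] HasDerivedCategory.standard

namespace Groth.Agent.Lib.T2H2.QcRpush

open Groth.Agent.Lib.Helper23.QCohLocal Groth.Agent.Lib.T2H8.PCohQCoh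
  Groth.Agent.Lib.T2H8.PCohTriangle Groth.Agent.Lib.T2H2.AffRpush

attribute [local instance] Groth.Agent.Lib.T2H1.RpushSupport.hasRpush

/-- the relative Mayer–Vietoris statement (S6511) for a given morphism. -/
def RelMV : Prop :=
  ∀ {X Y : Scheme.{u}} (f : X ⟶ Y) (U V : X.Opens) (_ : U ⊔ V = ⊤) (E : DCoh.D X),
    ∃ (a : (DCoh.Rpush f).obj E ⟶ ((DCoh.Rpush (U.ι ≫ f)).obj ((DCoh.restrictD U.ι).obj E) ⊞
        (DCoh.Rpush (V.ι ≫ f)).obj ((DCoh.restrictD V.ι).obj E)))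
      (b : ((DCoh.Rpush (U.ι ≫ f)).obj ((DCoh.restrictD U.ι).obj E) ⊞
        (DCoh.Rpush (V.ι ≫ f)).obj ((DCoh.restrictD V.ι).obj E)) ⟶
        (DCoh.Rpush ((U ⊓ V).ι ≫ f)).obj ((DCoh.restrictD (U ⊓ V).ι).obj E))
      (c : (DCoh.Rpush ((U ⊓ V).ι ≫ f)).obj ((DCoh.restrictD (U ⊓ V).ι).obj E) ⟶
        ((DCoh.Rpush f).obj E)⟦(1 : ℤ)⟧),
      Pretriangulated.Triangle.mk a b c ∈ Pretriangulated.distinguishedTriangles

lemma isQCohD_Rpush_congr {X S : Scheme.{u}} {m m' : X ⟶ S} (h : m = m') (K : DCoh.D X) :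
    DCoh.IsQCohD ((DCoh.Rpush m).obj K) ↔ DCoh.IsQCohD ((DCoh.Rpush m').obj K) := by
  subst h
  exact Iff.rfl

/-- `Rg_*` preserves `D_QCoh` for `g : X ⟶ S` with `S` affine and `X` quasi-compact and
quasi-separated. -/
theorem isQCohD_Rpush_of_isAffine_target (hMV : RelMV.{u}) {X S : Scheme.{u}} (g : X ⟶ S)
    [IsAffine S] [CompactSpace X] [QuasiSeparatedSpace X] (K : DCoh.D X)
    (hK : DCoh.IsQCohD K) : DCoh.IsQCohD ((DCoh.Rpush g).obj K) := by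
  have key : ∀ W : X.Opens, IsCompact (W : Set X) →
      ∀ K : DCoh.D (W : Scheme.{u}), DCoh.IsQCohD K →
        DCoh.IsQCohD ((DCoh.Rpush (W.ι ≫ g)).obj K) := by
    intro W hW
    refine Groth.Agent.S0015.result X
      (fun W => ∀ K : DCoh.D (W : Scheme.{u}), DCoh.IsQCohD K →
        DCoh.IsQCohD ((DCoh.Rpush (W.ι ≫ g)).obj K)) ?_ ?_ W hW
    · intro W hW K hK
      haveI : IsAffine (W : Scheme.{u}) := hW
      exact isQCohD_Rpush_of_isAffine (W.ι ≫ g) K hK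
    · intro U V _ _ hPU hPV hPUV K hK
      obtain ⟨a, b, c, hT⟩ := hMV ((U ⊔ V).ι ≫ g) ((U ⊔ V).ι ⁻¹ᵁ U) ((U ⊔ V).ι ⁻¹ᵁ V)
        (by
          rw [← Scheme.Hom.preimage_sup]
          exact Scheme.Opens.ι_preimage_self _) K
      refine isQCohD_obj₁ _ hT (isQCohD_biprod _ _ ?_ ?_) ?_
      · have h1 : ((U ⊔ V).ι ⁻¹ᵁ U).ι ≫ (U ⊔ V).ι ≫ g =
            (Scheme.Opens.isoOfLE (le_sup_left : U ≤ U ⊔ V)).hom ≫ U.ι ≫ g := by
          rw [Scheme.Opens.isoOfLE_hom_ι_assoc]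
        refine (isQCohD_Rpush_congr h1 _).2 ?_
        exact isQCohD_Rpush_of_iso _ (U.ι ≫ g) hPU _ (isQCohD_restrictD _ K hK)
      · have h1 : ((U ⊔ V).ι ⁻¹ᵁ V).ι ≫ (U ⊔ V).ι ≫ g =
            (Scheme.Opens.isoOfLE (le_sup_right : V ≤ U ⊔ V)).hom ≫ V.ι ≫ g := by
          rw [Scheme.Opens.isoOfLE_hom_ι_assoc]
        refine (isQCohD_Rpush_congr h1 _).2 ?_
        exact isQCohD_Rpush_of_iso _ (V.ι ≫ g) hPV _ (isQCohD_restrictD _ K hK)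
      · let e : ((((U ⊔ V).ι ⁻¹ᵁ U ⊓ (U ⊔ V).ι ⁻¹ᵁ V : (U ⊔ V).toScheme.Opens)) : Scheme.{u}) ≅
            ((U ⊓ V : X.Opens) : Scheme.{u}) :=
          Scheme.Opens.isoOfLE (inf_le_left.trans le_sup_left : U ⊓ V ≤ U ⊔ V)
        have h1 : ((U ⊔ V).ι ⁻¹ᵁ U ⊓ (U ⊔ V).ι ⁻¹ᵁ V).ι ≫ (U ⊔ V).ι ≫ g =
            e.hom ≫ (U ⊓ V).ι ≫ g :=
          (Scheme.Opens.isoOfLE_hom_ι_assoc
            (inf_le_left.trans le_sup_left : U ⊓ V ≤ U ⊔ V) g).symm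
        refine (isQCohD_Rpush_congr h1 _).2 ?_
        exact isQCohD_Rpush_of_iso e ((U ⊓ V).ι ≫ g) hPUV _
          (isQCohD_restrictD ((U ⊔ V).ι ⁻¹ᵁ U ⊓ (U ⊔ V).ι ⁻¹ᵁ V).ι K hK)
  have h2 : X.topIso.symm.hom ≫ (⊤ : X.Opens).ι ≫ g = g := by
    change X.topIso.inv ≫ (⊤ : X.Opens).ι ≫ g = g
    rw [Scheme.toIso_inv_ι_assoc]
  refine (isQCohD_Rpush_congr h2 K).1 ?_
  exact isQCohD_Rpush_of_iso X.topIso.symm ((⊤ : X.Opens).ι ≫ g)
    (key ⊤ CompactSpace.isCompact_univ) K hK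

/-- `Rf_*` preserves `D_QCoh` for quasi-compact quasi-separated `f`. -/
theorem isQCohD_Rpush_of_qcqs (hMV : RelMV.{u}) {X S : Scheme.{u}} (f : X ⟶ S)
    [QuasiCompact f] [QuasiSeparated f] (K : DCoh.D X) (hK : DCoh.IsQCohD K) :
    DCoh.IsQCohD ((DCoh.Rpush f).obj K) := by
  refine isQCohD_of_forall_affine _ (fun V hV => ?_)
  rw [isQCohD_restrictD_Rpush_iff]
  haveI : IsAffine (V : Scheme.{u}) := hV
  haveI : QuasiCompact (f ∣_ V) :=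
    IsZariskiLocalAtTarget.restrict (P := @QuasiCompact) inferInstance V
  haveI : QuasiSeparated (f ∣_ V) :=
    IsZariskiLocalAtTarget.restrict (P := @QuasiSeparated) inferInstance V
  haveI : CompactSpace ((f ⁻¹ᵁ V : X.Opens) : Scheme.{u}) :=
    QuasiCompact.compactSpace_of_compactSpace (f ∣_ V)
  haveI : QuasiSeparatedSpace ((f ⁻¹ᵁ V : X.Opens) : Scheme.{u}) :=
    quasiSeparatedSpace_of_quasiSeparated (f ∣_ V)
  exact isQCohD_Rpush_of_isAffine_target hMV (f ∣_ V) _ (isQCohD_restrictD (f ⁻¹ᵁ V).ι K hK)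

end Groth.Agent.Lib.T2H2.QcRpush
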