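import Groth.Agent.Lib.T2H5FlatBCB
import Groth.Agent.Lib.T2H8PerfLocal

/-!
# Mayer–Vietoris induction principles on quasi-compact quasi-separated schemes (T2H2)

* `opens_induction`: a property of opens of a quasi-separated scheme which holds for affine opens
  and passes from `S`, `U`, `S ⊓ U` to `S ⊔ U` holds for all quasi-compact opens.
* `pair_induction`: the same for properties of pairs `(Z, K)` with `K ∈ D(O_Z)`, stable under
  isomorphisms.
-/

set_option autoImplicit false
set_option linter.style.haveILetI false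
universe u
open CategoryTheory CategoryTheory.Limits AlgebraicGeometry Opposite

attribute [local instance] HasDerivedCategory.standard

namespace Groth.Agent.Lib.T2H2.QcqsInd

open Groth.Agent.Lib.T2H8.PerfLocal

variable {X : Scheme.{u}}

section Opens

variable (P : X.Opens → Prop) (haff : ∀ W : X.Opens, IsAffineOpen W → P W)
  (hsup : ∀ S U : X.Opens, IsCompact (S : Set X) → IsAffineOpen U →
    IsCompact ((S ⊓ U : X.Opens) : Set X) → P S → P U → P (S ⊓ U) → P (S ⊔ U))

include haff hsup in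
theorem p_finset_basicOpen {U₀ : X.Opens} (hU₀ : IsAffineOpen U₀) :
    ∀ (n : ℕ) (s : Finset Γ(X, U₀)), s.card ≤ n → P (s.sup (fun f => X.basicOpen f)) := by
  classical
  intro n
  induction n with
  | zero =>
    intro s hs
    have : s = ∅ := Finset.card_eq_zero.1 (Nat.le_zero.1 hs)
    subst this
    rw [Finset.sup_empty]
    exact haff ⊥ (isAffineOpen_bot X)
  | succ n ih =>
    intro s hs
    rcases s.eq_empty_or_nonempty with he | ⟨a, ha⟩
    · subst he
      rw [Finset.sup_empty]
      exact haff ⊥ (isAffineOpen_bot X)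
    · have hcard : (s.erase a).card ≤ n := by
        rw [Finset.card_erase_of_mem ha]
        omega
      have hs' : s = insert a (s.erase a) := (Finset.insert_erase ha).symm
      have e : (s.erase a).sup (fun f => X.basicOpen f) ⊓ X.basicOpen a =
          ((s.erase a).image (fun f => a * f)).sup (fun f => X.basicOpen f) := by
        rw [inf_comm, Finset.sup_inf_distrib_left, Finset.sup_image]
        refine Finset.sup_congr rfl (fun f _ => ?_)
        exact (X.basicOpen_mul a f).symm
      have hcpt : ∀ t : Finset Γ(X, U₀),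
          IsCompact ((t.sup (fun f => X.basicOpen f) : X.Opens) : Set X) := by
        intro t
        induction t using Finset.induction_on with
        | empty =>
          rw [Finset.sup_empty]
          exact (isAffineOpen_bot X).isCompact
        | insert b t _ iht =>
          rw [Finset.sup_insert]
          exact (hU₀.basicOpen b).isCompact.union iht
      rw [hs', Finset.sup_insert, sup_comm]
      refine hsup _ _ (hcpt _) (hU₀.basicOpen a) ?_ (ih _ hcard) (haff _ (hU₀.basicOpen a)) ?_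
      · rw [e]
        exact hcpt _
      · rw [e]
        exact ih _ (Finset.card_image_le.trans hcard)

include haff hsup in
theorem p_of_le_affine {U₀ : X.Opens} (hU₀ : IsAffineOpen U₀) (W : X.Opens)
    (hW : IsCompact (W : Set X)) (hle : W ≤ U₀) : P W := by
  obtain ⟨s, rfl⟩ := Groth.Agent.Lib.T2H5.FlatBC.exists_finset_basicOpen hU₀ W hW hle
  exact p_finset_basicOpen P haff hsup hU₀ s.card s le_rfl

include haff hsup in
/-- Mayer–Vietoris induction for properties of quasi-compact opens of a quasi-separated scheme. -/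
theorem opens_induction [QuasiSeparatedSpace X] (W : X.Opens) (hW : IsCompact (W : Set X)) :
    P W := by
  refine compact_open_induction_on (P := P) W hW (haff ⊥ (isAffineOpen_bot X)) ?_
  intro S hS U hSU
  have hcap : IsCompact ((S ⊓ U.1 : X.Opens) : Set X) :=
    QuasiSeparatedSpace.inter_isCompact _ _ S.isOpen hS U.1.isOpen U.2.isCompact
  exact hsup S U.1 hS U.2 hcap hSU (haff U.1 U.2)
    (p_of_le_affine P haff hsup U.2 (S ⊓ U.1) hcap inf_le_right)

end Opens

section IdIso

variable {C : Type*} [Category C] [Abelian C] [HasDerivedCategory C]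
  (H : C ⥤ C) [H.Additive] [PreservesFiniteLimits H] [PreservesFiniteColimits H]

/-- the derived functor of an exact functor isomorphic to the identity. -/
noncomputable def mapDerivedCategoryIdIso (τ : H ≅ 𝟭 C) :
    H.mapDerivedCategory ≅ 𝟭 (DerivedCategory C) :=
  letI : Localization.Lifting DerivedCategory.Q
      (HomologicalComplex.quasiIso C (ComplexShape.up ℤ))
      (H.mapHomologicalComplex (ComplexShape.up ℤ) ⋙ DerivedCategory.Q)
      (𝟭 (DerivedCategory C)) :=
    ⟨Functor.rightUnitor _ ≪≫ (Functor.leftUnitor _).symm ≪≫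
      Functor.isoWhiskerRight ((Functor.mapHomologicalComplexIdIso C (ComplexShape.up ℤ)).symm ≪≫
        (NatIso.mapHomologicalComplex τ (ComplexShape.up ℤ)).symm) DerivedCategory.Q⟩
  Localization.liftNatIso DerivedCategory.Q (HomologicalComplex.quasiIso C (ComplexShape.up ℤ))
    (H.mapHomologicalComplex (ComplexShape.up ℤ) ⋙ DerivedCategory.Q)
    (H.mapHomologicalComplex (ComplexShape.up ℤ) ⋙ DerivedCategory.Q) _ _ (Iso.refl _)

end IdIso

/-- restriction along the identity is the identity -/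
noncomputable def rDId (X : Scheme.{u}) : rD (𝟙 X) ≅ 𝟭 (DCoh.D X) :=
  mapDerivedCategoryIdIso _ Scheme.Modules.restrictFunctorId

section Pair

variable (P : ∀ (Z : Scheme.{u}), DCoh.D Z → Prop)
  (hiso₁ : ∀ (Z : Scheme.{u}) (K K' : DCoh.D Z), (K ≅ K') → P Z K → P Z K')
  (hiso₂ : ∀ (Z Z' : Scheme.{u}) (a : Z' ≅ Z) (K : DCoh.D Z), P Z K → P Z' ((rD a.hom).obj K))
  (haff : ∀ (Z : Scheme.{u}) [IsAffine Z] (K : DCoh.D Z), P Z K)
  (hmv : ∀ (Z : Scheme.{u}) (S U : Z.Opens), S ⊔ U = ⊤ → IsCompact (S : Set Z) →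
    IsAffineOpen U → IsCompact ((S ⊓ U : Z.Opens) : Set Z) → ∀ K : DCoh.D Z,
    P S ((rD S.ι).obj K) → P U ((rD U.ι).obj K) →
    P (S ⊓ U : Z.Opens) ((rD (S ⊓ U).ι).obj K) → P Z K)

include hiso₁ hiso₂ in
/-- transport along open immersions with the same range -/
theorem p_of_range_eq {Z₁ Z₂ : Scheme.{u}} (j₁ : Z₁ ⟶ X) (j₂ : Z₂ ⟶ X) [IsOpenImmersion j₁]
    [IsOpenImmersion j₂] (h : Set.range j₁ = Set.range j₂) (K : DCoh.D X)
    (hP : P Z₂ ((rD j₂).obj K)) : P Z₁ ((rD j₁).obj K) := by
  let a := IsOpenImmersion.isoOfRangeEq j₁ j₂ h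
  have fac : a.hom ≫ j₂ = j₁ := IsOpenImmersion.isoOfRangeEq_hom_fac j₁ j₂ h
  exact hiso₁ _ _ _ ((rDComp a.hom j₂ j₁ fac).app K) (hiso₂ Z₂ Z₁ a _ hP)

lemma range_ι_comp_ι {W : X.Opens} (S : X.Opens) (hS : S ≤ W) :
    Set.range ((W.ι ⁻¹ᵁ S).ι ≫ W.ι) = Set.range S.ι := by
  rw [Scheme.Hom.comp_base, TopCat.coe_comp, Set.range_comp, Scheme.Opens.range_ι,
    Scheme.Opens.range_ι]
  change W.ι '' (W.ι ⁻¹' (S : Set X)) = S
  rw [Set.image_preimage_eq_inter_range, Scheme.Opens.range_ι]
  exact Set.inter_eq_left.2 hS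

include hiso₁ hiso₂ haff hmv in
/-- Mayer–Vietoris induction for properties of pairs `(Z, K)`, `K ∈ D(O_Z)`. -/
theorem pair_induction_opens [QuasiSeparatedSpace X] (K : DCoh.D X) (W : X.Opens)
    (hW : IsCompact (W : Set X)) : P W ((rD W.ι).obj K) := by
  refine opens_induction (fun W => P W ((rD W.ι).obj K)) ?_ ?_ W hW
  · intro W hW
    haveI : IsAffine W := hW
    exact haff _ _
  · intro S U hS hU hSU hPS hPU hPSU
    have hSW : S ≤ S ⊔ U := le_sup_left
    have hUW : U ≤ S ⊔ U := le_sup_right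
    have hSUW : S ⊓ U ≤ S ⊔ U := inf_le_left.trans le_sup_left
    have hemb : Topology.IsInducing ((S ⊔ U).ι : ↥(S ⊔ U) → X) :=
      (S ⊔ U).ι.isOpenEmbedding.isInducing
    refine hmv ((S ⊔ U : X.Opens) : Scheme.{u}) ((S ⊔ U).ι ⁻¹ᵁ S) ((S ⊔ U).ι ⁻¹ᵁ U)
      ?_ ?_ ?_ ?_ _ ?_ ?_ ?_
    · rw [← Scheme.Hom.preimage_sup, Scheme.Opens.ι_preimage_self]
    · exact (hemb.isCompact_preimage_iff (by rw [Scheme.Opens.range_ι]; exact hSW)).2 hS
    · exact hU.preimage_of_isOpenImmersion _ (by rw [Scheme.Opens.opensRange_ι]; exact hUW)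
    · change IsCompact ((S ⊔ U).ι ⁻¹' ((S ⊓ U : X.Opens) : Set X))
      exact (hemb.isCompact_preimage_iff (by rw [Scheme.Opens.range_ι]; exact hSUW)).2 hSU
    · refine hiso₁ _ _ _ ((rDComp _ _ _ rfl).app K).symm ?_
      exact p_of_range_eq P hiso₁ hiso₂ _ S.ι (range_ι_comp_ι S hSW) K hPS
    · refine hiso₁ _ _ _ ((rDComp _ _ _ rfl).app K).symm ?_
      exact p_of_range_eq P hiso₁ hiso₂ _ U.ι (range_ι_comp_ι U hUW) K hPU
    · refine hiso₁ _ _ _ ((rDComp _ _ _ rfl).app K).symm ?_
      exact p_of_range_eq P hiso₁ hiso₂ _ (S ⊓ U).ι (range_ι_comp_ι (S ⊓ U) hSUW) K hPSU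

include hiso₁ hiso₂ haff hmv in
/-- Mayer–Vietoris induction for properties of pairs `(Z, K)`, `K ∈ D(O_Z)`: the conclusion on a
quasi-compact quasi-separated scheme. -/
theorem pair_induction [CompactSpace X] [QuasiSeparatedSpace X] (K : DCoh.D X) : P X K := by
  have h := pair_induction_opens P hiso₁ hiso₂ haff hmv K ⊤ (by simpa using isCompact_univ)
  have h2 := p_of_range_eq P hiso₁ hiso₂ (𝟙 X) (⊤ : X.Opens).ι (by simp) K h
  exact hiso₁ _ _ _ ((rDId X).app K) h2

end Pair

end Groth.Agent.Lib.T2H2.QcqsInd
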