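import Groth.Agent.Lib.T2H2QcqsIndA
import Groth.Agent.Lib.T2H2AffRedB
import Groth.Agent.Lib.T2H1GlueOpens
import Groth.Agent.Lib.T2H1RpushShift

/-!
# Vanishing of `Hom` groups: a small calculus for Mayer–Vietoris arguments (T2H2)
-/

set_option autoImplicit false
set_option linter.style.haveILetI false
universe u
open CategoryTheory CategoryTheory.Limits AlgebraicGeometry Opposite Pretriangulated

attribute [local instance] HasDerivedCategory.standard

namespace Groth.Agent.Lib.T2H2.QcqsInd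

open Groth.Agent.Lib.T2H8.PerfLocal Groth.Agent.Lib.T2H8.PCohTriangle

section General

variable {C : Type*} [Category C] [Preadditive C]

/-- all morphisms from `M` to `N` vanish -/
def HomZero (M N : C) : Prop := ∀ φ : M ⟶ N, φ = 0

lemma HomZero.of_iso {M M' N N' : C} (e₁ : M ≅ M') (e₂ : N ≅ N') (h : HomZero M N) :
    HomZero M' N' := by
  intro φ
  have h1 := h (e₁.hom ≫ φ ≫ e₂.inv)
  have : φ = e₁.inv ≫ (e₁.hom ≫ φ ≫ e₂.inv) ≫ e₂.hom := by simp
  rw [this, h1, zero_comp, comp_zero]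

lemma HomZero.of_adj {D : Type*} [Category D] [Preadditive D] {F : C ⥤ D} {G : D ⥤ C}
    (adj : F ⊣ G) {M : C} {N : D} (h : HomZero (F.obj M) N) : HomZero M (G.obj N) := by
  intro φ
  apply (adj.homEquiv M N).symm.injective
  rw [h ((adj.homEquiv M N).symm φ), h ((adj.homEquiv M N).symm 0)]

lemma HomZero.of_faithful {D : Type*} [Category D] [Preadditive D] (G : C ⥤ D) [G.Faithful]
    [G.PreservesZeroMorphisms] {M N : C} (h : HomZero (G.obj M) (G.obj N)) : HomZero M N := by
  intro φ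
  apply G.map_injective
  rw [h (G.map φ), G.map_zero]

lemma HomZero.of_full {D : Type*} [Category D] [Preadditive D] (G : C ⥤ D) [G.Full]
    [G.PreservesZeroMorphisms] {M N : C} (h : HomZero M N) : HomZero (G.obj M) (G.obj N) := by
  intro φ
  obtain ⟨ψ, rfl⟩ := G.map_surjective φ
  rw [h ψ, G.map_zero]

lemma HomZero.biprod {M A B : C} [HasBinaryBiproduct A B] (hA : HomZero M A) (hB : HomZero M B) :
    HomZero M (A ⊞ B) := by
  intro φ
  apply biprod.hom_ext
  · rw [hA (φ ≫ biprod.fst), zero_comp]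
  · rw [hB (φ ≫ biprod.snd), zero_comp]

end General

section Tri

variable {C : Type*} [Category C] [Preadditive C] [HasZeroObject C] [HasShift C ℤ]
  [∀ n : ℤ, (shiftFunctor C n).Additive] [Pretriangulated C]

/-- for a distinguished triangle `T`, `Hom(M, T₁) = 0` if `Hom(M, T₂) = 0` and
`Hom(M, T₃[-1]) = 0`. -/
lemma HomZero.of_distTriang₁ (T : Triangle C) (hT : T ∈ distTriang C) {M : C}
    (h₂ : HomZero M T.obj₂) (h₃ : HomZero M (T.obj₃⟦(-1 : ℤ)⟧)) : HomZero M T.obj₁ := by
  intro φ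
  obtain ⟨g, hg⟩ := Triangle.coyoneda_exact₂ T.invRotate (inv_rot_of_distTriang _ hT) φ
    (h₂ _)
  have hg0 : g = 0 := h₃ g
  subst hg0
  rw [hg]
  exact zero_comp

/-- for a distinguished triangle `T`, `Hom(M, T₂) = 0` if `Hom(M, T₁) = 0` and
`Hom(M, T₃) = 0`. -/
lemma HomZero.of_distTriang₂ (T : Triangle C) (hT : T ∈ distTriang C) {M : C}
    (h₁ : HomZero M T.obj₁) (h₃ : HomZero M T.obj₃) : HomZero M T.obj₂ := by
  intro φ
  obtain ⟨g, hg⟩ := Triangle.coyoneda_exact₂ T hT φ (h₃ _)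
  rw [hg, h₁ g, zero_comp]

end Tri

section Sch

variable {X : Scheme.{u}}

/-- restriction along an isomorphism followed by restriction along its inverse -/
noncomputable def rDIsoCompId {Z Z' : Scheme.{u}} (a : Z' ≅ Z) :
    rD a.hom ⋙ rD a.inv ≅ 𝟭 (DCoh.D Z) :=
  rDComp a.inv a.hom (𝟙 Z) a.inv_hom_id ≪≫ rDId Z

instance faithful_rD_iso {Z Z' : Scheme.{u}} (a : Z' ≅ Z) : (rD a.hom).Faithful :=
  Functor.Faithful.of_comp_iso (rDIsoCompId a)

/-- restriction commutes with the inclusion of modules in degree `0` -/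
noncomputable def rDInDIso {U : Scheme.{u}} (j : U ⟶ X) [IsOpenImmersion j] (F : X.Modules) :
    (rD j).obj (DCoh.inD X F) ≅ DCoh.inD U ((Scheme.Modules.restrictFunctor j).obj F) :=
  ((Scheme.Modules.restrictFunctor j).mapDerivedCategorySingleFunctor 0).app F

/-- restriction commutes with shifts -/
noncomputable def rDShiftIso {U : Scheme.{u}} (j : U ⟶ X) [IsOpenImmersion j] (K : DCoh.D X)
    (n : ℤ) : (rD j).obj (K⟦n⟧) ≅ ((rD j).obj K)⟦n⟧ :=
  ((rD j).commShiftIso n).app K

/-- restriction is right t-exact -/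
theorem isLE_rD {U : Scheme.{u}} (j : U ⟶ X) [IsOpenImmersion j] (K : DCoh.D X) (b : ℤ)
    [K.IsLE b] : ((rD j).obj K).IsLE b := by
  rw [DerivedCategory.isLE_iff]
  intro i hi
  exact IsZero.of_iso ((Scheme.Modules.restrictFunctor j).map_isZero
    (DerivedCategory.isZero_of_isLE K b i hi))
    ((mapDerivedCategoryHomologyIso (Scheme.Modules.restrictFunctor j) i).app K)

/-- the cohomology sheaves of a restriction -/
noncomputable def HDrDIso {U : Scheme.{u}} (j : U ⟶ X) [IsOpenImmersion j] (K : DCoh.D X)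
    (i : ℤ) : DCoh.HD ((rD j).obj K) i ≅ (Scheme.Modules.restrictFunctor j).obj (DCoh.HD K i) :=
  (mapDerivedCategoryHomologyIso (Scheme.Modules.restrictFunctor j) i).app K

end Sch

end Groth.Agent.Lib.T2H2.QcqsInd
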