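import Groth.Agent.Lib.T2H2QcqsIndB

/-!
# Morphisms from a bounded complex of projectives in the derived category (T2H2)

If `P` is a complex of projective objects vanishing outside `[c, d]` and `N` has no cohomology
in degrees `[c, d]`, then every morphism `Q P ⟶ N` in the derived category vanishes.
-/

set_option autoImplicit false
set_option linter.style.haveILetI false
universe w v u
open CategoryTheory CategoryTheory.Limits Pretriangulated

namespace Groth.Agent.Lib.T2H2.QcqsInd

open DerivedCategory

variable {C : Type u} [Category.{v} C] [Abelian C] [HasDerivedCategory.{w} C]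

lemma exists_chain_map' (P L : CochainComplex C ℤ) [P.IsKProjective]
    (φ : Q.obj P ⟶ Q.obj L) : ∃ f : P ⟶ L, Q.map f = φ := by
  obtain ⟨g, hg⟩ := (CochainComplex.IsKProjective.Qh_map_bijective P
    ((HomotopyCategory.quotient _ (ComplexShape.up ℤ)).obj L)).2 φ
  obtain ⟨f, rfl⟩ := (HomotopyCategory.quotient _ (ComplexShape.up ℤ)).map_surjective g
  exact ⟨f, hg⟩

/-- no nonzero maps from a K-projective complex in degrees `≥ c` to an object of `D^{≤ c - 1}` -/
theorem homZero_of_isKProjective_of_isLE (P : CochainComplex C ℤ) [P.IsKProjective] (c : ℤ)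
    (hP : ∀ i : ℤ, i < c → IsZero (P.X i)) (N : DerivedCategory C) [N.IsLE (c - 1)] :
    HomZero (Q.obj P) N := by
  obtain ⟨Y, hY, ⟨e⟩⟩ := N.exists_iso_Q_obj_of_isLE (c - 1)
  refine HomZero.of_iso (Iso.refl _) e.symm ?_
  intro φ
  obtain ⟨f, rfl⟩ := exists_chain_map' P Y φ
  have hf : f = 0 := by
    ext i
    by_cases hi : i < c
    · exact (hP i hi).eq_of_src _ _
    · exact (Y.isZero_of_isStrictlyLE (c - 1) i (by omega)).eq_of_tgt _ _
  rw [hf, Functor.map_zero]

/-- no nonzero maps from a complex of projectives vanishing outside `[c, d]` to an object without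
cohomology in degrees `[c, d]` -/
theorem homZero_of_projective (P : CochainComplex C ℤ) (c d : ℤ)
    (hP : ∀ i : ℤ, i < c ∨ d < i → IsZero (P.X i)) (hproj : ∀ i : ℤ, Projective (P.X i))
    (N : DerivedCategory C)
    (hN : ∀ i : ℤ, c ≤ i → i ≤ d → IsZero ((homologyFunctor C i).obj N)) :
    HomZero (Q.obj P) N := by
  haveI : P.IsStrictlyLE d := by
    rw [CochainComplex.isStrictlyLE_iff]
    exact fun i hi => hP i (Or.inr hi)
  haveI : P.IsKProjective := CochainComplex.isKProjective_of_projective P d
  let t := (DerivedCategory.TStructure.t : Triangulated.TStructure (DerivedCategory C))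
  let T := (t.triangleLTGE c).obj N
  have hT : T ∈ distTriang _ := t.triangleLTGE_distinguished c N
  haveI h1 : t.IsLE T.obj₁ (c - 1) := by dsimp [T]; infer_instance
  haveI h3 : t.IsGE T.obj₃ c := by dsimp [T]; infer_instance
  haveI : T.obj₁.IsLE (c - 1) := h1
  haveI : T.obj₃.IsGE c := h3
  have hz1 : HomZero (Q.obj P) T.obj₁ :=
    homZero_of_isKProjective_of_isLE P c (fun i hi => hP i (Or.inl hi)) T.obj₁
  have hz3 : HomZero (Q.obj P) T.obj₃ := by
    haveI : T.obj₃.IsGE (d + 1) := by
      rw [DerivedCategory.isGE_iff]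
      intro i hi
      by_cases hic : i < c
      · exact DerivedCategory.isZero_of_isGE T.obj₃ c i hic
      · have hz2 : IsZero ((homologyFunctor C i).obj T.obj₂) := hN i (by omega) (by omega)
        have hz1' : IsZero ((homologyFunctor C (i + 1)).obj T.obj₁) :=
          DerivedCategory.isZero_of_isLE T.obj₁ (c - 1) (i + 1) (by omega)
        exact (DerivedCategory.HomologySequence.exact₃ T hT i (i + 1) rfl).isZero_X₂
          (hz2.eq_of_src _ _) (hz1'.eq_of_tgt _ _)
    haveI : (Q.obj P).IsLE d := inferInstance
    intro φ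
    exact t.zero φ d (d + 1) (by omega)
  exact HomZero.of_distTriang₂ T hT hz1 hz3

end Groth.Agent.Lib.T2H2.QcqsInd
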