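import Groth.Agent.Lib.T2H2QcqsIndC
import Groth.Agent.Lib.T2H1RpushSupport

/-!
# Mayer–Vietoris for vanishing of `Hom` in `D(O_Z)` (T2H2)
-/

set_option autoImplicit false
set_option linter.style.haveILetI false
universe u
open CategoryTheory CategoryTheory.Limits AlgebraicGeometry Opposite Pretriangulated

attribute [local instance] HasDerivedCategory.standard

namespace Groth.Agent.Lib.T2H2.QcqsInd

open Groth.Agent.Lib.T2H8.PerfLocal Groth.Agent.Lib.T2H8.PCohTriangle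
  Groth.Agent.Lib.T2H1.RpushSupport

variable {Z : Scheme.{u}}

/-- Mayer–Vietoris for vanishing of `Hom`: if `Z = S ∪ U` and all morphisms `M|_S ⟶ L|_S`,
`M|_U ⟶ L|_U` and `M|_{S ∩ U} ⟶ L|_{S ∩ U}[-1]` vanish, then all morphisms `M ⟶ L` vanish. -/
theorem homZero_of_mv (S U : Z.Opens) (hSU : S ⊔ U = ⊤) (M L : DCoh.D Z)
    (h₁ : HomZero ((rD S.ι).obj M) ((rD S.ι).obj L))
    (h₂ : HomZero ((rD U.ι).obj M) ((rD U.ι).obj L))
    (h₃ : HomZero ((rD (S ⊓ U).ι).obj M) (((rD (S ⊓ U).ι).obj L)⟦(-1 : ℤ)⟧)) :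
    HomZero M L := by
  haveI := hasRpush S.ι
  haveI := hasRpush U.ι
  haveI := hasRpush (S ⊓ U).ι
  obtain ⟨a, b, c, hT⟩ := Groth.Agent.Lib.T2H1.MVTri.exists_mv_triangle S U hSU L
  obtain ⟨adjS⟩ := Groth.Agent.Lib.T2H1.GlueOpens.exists_adj S.ι
  obtain ⟨adjU⟩ := Groth.Agent.Lib.T2H1.GlueOpens.exists_adj U.ι
  obtain ⟨adjW⟩ := Groth.Agent.Lib.T2H1.GlueOpens.exists_adj (S ⊓ U).ι
  obtain ⟨es⟩ := Groth.Agent.Lib.T2H1.RpushShift.exists_Rpush_shift_iso (S ⊓ U).ι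
    ((rD (S ⊓ U).ι).obj L) (-1)
  refine HomZero.of_distTriang₁ _ hT ?_ ?_
  · exact HomZero.biprod (HomZero.of_adj adjS h₁) (HomZero.of_adj adjU h₂)
  · exact HomZero.of_iso (Iso.refl _) es (HomZero.of_adj adjW h₃)

end Groth.Agent.Lib.T2H2.QcqsInd
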