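import Groth.Agent.Lib.T2H2QcqsIndE

/-!
# Uniform vanishing of `Ext^n(F, E)` for finite locally free `F` on a qcqs scheme (T2H2)
-/

set_option autoImplicit false
set_option linter.style.haveILetI false
universe u
open CategoryTheory CategoryTheory.Limits AlgebraicGeometry Opposite Pretriangulated

attribute [local instance] HasDerivedCategory.standard

namespace Groth.Agent.Lib.T2H2.QcqsInd

open Groth.Agent.Lib.T2H8.PerfLocal Groth.Agent.Lib.T2H8.PCohTriangle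
  Groth.Agent.Lib.T2H2.AffRed Groth.Agent.Lib.T2H2.TildeLoc DerivedCategory
  Groth.Agent.Lib.T2H8.SchLocHtpy

/-- the uniform vanishing property -/
def PExt (b : ℤ) (Z : Scheme.{u}) (E : DCoh.D Z) : Prop :=
  DCoh.IsQCohD E → E.IsLE b → ∃ n₀ : ℤ, ∀ (F : Z.Modules), FlatMod.IsFinLocFree F →
    ∀ n : ℤ, n₀ ≤ n → HomZero (DCoh.inD Z F) (E⟦n⟧)

lemma isQCohD_of_iso' {Z : Scheme.{u}} {K K' : DCoh.D Z} (e : K ≅ K') (h : DCoh.IsQCohD K) :
    DCoh.IsQCohD K' := fun i =>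
  Groth.Agent.Lib.T2H8.PCohQCoh.isQCoh_of_iso ((homologyFunctor _ i).mapIso e) (h i)

theorem pExt_iso₁ (b : ℤ) (Z : Scheme.{u}) (E E' : DCoh.D Z) (e : E ≅ E') (h : PExt b Z E) :
    PExt b Z E' := by
  intro hq hle
  haveI := hle
  haveI : E.IsLE b := DerivedCategory.TStructure.t.isLE_of_iso e.symm b
  obtain ⟨n₀, H⟩ := h (isQCohD_of_iso' e.symm hq) inferInstance
  exact ⟨n₀, fun F hF n hn =>
    HomZero.of_iso (Iso.refl _) ((shiftFunctor _ n).mapIso e) (H F hF n hn)⟩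

theorem pExt_iso₂ (b : ℤ) (Z Z' : Scheme.{u}) (a : Z' ≅ Z) (E : DCoh.D Z) (h : PExt b Z E) :
    PExt b Z' ((rD a.hom).obj E) := by
  intro hq' hle'
  haveI := hle'
  have hq : DCoh.IsQCohD E := isQCohD_of_iso' ((rDIsoCompId a).app E) (isQCohD_rD a.inv _ hq')
  haveI : ((rD a.hom ⋙ rD a.inv).obj E).IsLE b := isLE_rD a.inv _ b
  haveI : E.IsLE b := DerivedCategory.TStructure.t.isLE_of_iso ((rDIsoCompId a).app E) b
  obtain ⟨n₀, H⟩ := h hq inferInstance
  refine ⟨n₀, fun F' hF' n hn => ?_⟩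
  haveI : (rD a.inv).Faithful := faithful_rD_iso a.symm
  refine HomZero.of_faithful (rD a.inv) ?_
  exact HomZero.of_iso (rDInDIso a.inv F').symm
    (rDShiftIso a.inv _ n ≪≫ (shiftFunctor _ n).mapIso ((rDIsoCompId a).app E)).symm
    (H _ (isFinLocFree_restrict a.inv F' hF') n hn)

theorem pExt_spec (b : ℤ) (A : Type u) [CommRing A] (E : DCoh.D (Spec (CommRingCat.of A))) :
    PExt b (Spec (CommRingCat.of A)) E := by
  intro hq hle
  haveI := hle
  refine ⟨b + 1, fun F hF n hn => ?_⟩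
  obtain ⟨M, ⟨eM⟩⟩ := exists_tildeD_iso A E hq
  haveI : F.IsQuasicoherent := Groth.Agent.Lib.T2H8.PCohQCoh.isQCoh_of_isFinLocFree F hF
  obtain ⟨P₀, ⟨eP⟩⟩ : (tilde.functor (CommRingCat.of A)).essImage F :=
    isIso_fromTildeΓ_iff.1
      (Scheme.Modules.isIso_fromTildeΓ_of_isQuasicoherent (R := CommRingCat.of A) F)
  have hP₀ := (Groth.Agent.Lib.Helper2.FPAff.isFinLocFree_tilde_iff (CommRingCat.of A) P₀).1
    (isFinLocFree_of_iso eP.symm hF)
  have hproj₀ : Projective P₀ := by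
    have := hP₀.2
    exact (IsProjective.iff_projective (R := A) (P := P₀)).1 this
  have h0 : HomZero ((singleFunctor (ModuleCat.{u} A) 0).obj P₀) (M⟦n⟧) := by
    refine HomZero.of_iso ((singleFunctorIsoCompQ (ModuleCat.{u} A) 0).app P₀).symm (Iso.refl _) ?_
    refine homZero_of_projective _ 0 0 (fun i hi => ?_) (fun i => ?_) _ (fun i hi₁ hi₂ => ?_)
    · exact HomologicalComplex.isZero_single_obj_X _ _ _ _ (by omega)
    · by_cases hi : i = 0
      · subst hi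
        exact Projective.of_iso (HomologicalComplex.singleObjXSelf (ComplexShape.up ℤ) 0 P₀).symm
          hproj₀
      · exact (HomologicalComplex.isZero_single_obj_X _ _ _ _ hi).projective
    · refine IsZero.of_iso ?_ (((homologyFunctor (ModuleCat.{u} A) 0).shiftIso n i (n + i) rfl).app M)
      exact isZero_homology_of_isZero_HD_tildeD A M E eM (n + i)
        (DerivedCategory.isZero_of_isLE E b (n + i) (by omega))
  exact HomZero.of_iso
    (((tilde.functor (CommRingCat.of A)).mapDerivedCategorySingleFunctor 0).app P₀ ≪≫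
      (singleFunctor _ 0).mapIso eP)
    (((DCoh.tildeD (CommRingCat.of A)).commShiftIso n).app M ≪≫ (shiftFunctor _ n).mapIso eM)
    (HomZero.of_full (DCoh.tildeD (CommRingCat.of A)) h0)

theorem pExt_mv (b : ℤ) (Z : Scheme.{u}) (S U : Z.Opens) (hSU : S ⊔ U = ⊤) (E : DCoh.D Z)
    (hS : PExt b S ((rD S.ι).obj E)) (hU : PExt b U ((rD U.ι).obj E))
    (hW : PExt b (S ⊓ U : Z.Opens) ((rD (S ⊓ U).ι).obj E)) : PExt b Z E := by
  intro hq hle
  haveI := hle
  obtain ⟨n₁, H₁⟩ := hS (isQCohD_rD S.ι E hq) (isLE_rD S.ι E b)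
  obtain ⟨n₂, H₂⟩ := hU (isQCohD_rD U.ι E hq) (isLE_rD U.ι E b)
  obtain ⟨n₃, H₃⟩ := hW (isQCohD_rD (S ⊓ U).ι E hq) (isLE_rD (S ⊓ U).ι E b)
  refine ⟨max (max n₁ n₂) (n₃ + 1), fun F hF n hn => ?_⟩
  have hn₁ : n₁ ≤ n := le_trans (le_trans (le_max_left _ _) (le_max_left _ _)) hn
  have hn₂ : n₂ ≤ n := le_trans (le_trans (le_max_right _ _) (le_max_left _ _)) hn
  have hn₃ : n₃ ≤ n - 1 := by
    have := le_trans (le_max_right (max n₁ n₂) (n₃ + 1)) hn
    omega
  refine homZero_of_mv S U hSU _ _ ?_ ?_ ?_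
  · exact HomZero.of_iso (rDInDIso S.ι F).symm (rDShiftIso S.ι E n).symm
      (H₁ _ (isFinLocFree_restrict S.ι F hF) n hn₁)
  · exact HomZero.of_iso (rDInDIso U.ι F).symm (rDShiftIso U.ι E n).symm
      (H₂ _ (isFinLocFree_restrict U.ι F hF) n hn₂)
  · exact HomZero.of_iso (rDInDIso (S ⊓ U).ι F).symm
      ((shiftFunctorAdd' _ n (-1) (n - 1) (by omega)).app _ ≪≫
        (shiftFunctor _ (-1 : ℤ)).mapIso (rDShiftIso (S ⊓ U).ι E n).symm)
      (H₃ _ (isFinLocFree_restrict (S ⊓ U).ι F hF) (n - 1) hn₃)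

/-- on a quasi-compact quasi-separated scheme, `Ext^n(F, E) = 0` for `n ≫ 0`, uniformly in the
finite locally free module `F`, for `E ∈ D_QCoh` bounded above. -/
theorem pExt (b : ℤ) (X : Scheme.{u}) [CompactSpace X] [QuasiSeparatedSpace X] (E : DCoh.D X) :
    PExt b X E :=
  pair_induction (PExt b) (pExt_iso₁ b) (pExt_iso₂ b)
    (fun Z _ K => haff_of_spec (PExt b) (pExt_iso₁ b) (pExt_iso₂ b) (pExt_spec b) Z K)
    (fun Z S U hSU _ _ _ K hS hU hW => pExt_mv b Z S U hSU K hS hU hW) E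

end Groth.Agent.Lib.T2H2.QcqsInd
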