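import Groth.Agent.Lib.T2H2QcqsIndD

/-!
# Countability of `Hom` groups: a small calculus for Mayer–Vietoris arguments (T2H2)
-/

set_option autoImplicit false
set_option linter.style.haveILetI false
set_option linter.unusedSectionVars false
universe u
open CategoryTheory CategoryTheory.Limits AlgebraicGeometry Opposite Pretriangulated

attribute [local instance] HasDerivedCategory.standard

namespace Groth.Agent.Lib.T2H2.QcqsInd

section General

variable {C : Type*} [Category C] [Preadditive C]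

/-- the morphisms from `M` to `N` form a countable set -/
def HomCountable (M N : C) : Prop := Countable (M ⟶ N)

lemma HomCountable.of_homZero {M N : C} (h : HomZero M N) : HomCountable M N := by
  haveI : Subsingleton (M ⟶ N) := ⟨fun a b => by rw [h a, h b]⟩
  exact (inferInstance : Countable (M ⟶ N))

lemma HomCountable.of_iso {M M' N N' : C} (e₁ : M ≅ M') (e₂ : N ≅ N') (h : HomCountable M N) :
    HomCountable M' N' := by
  haveI : Countable (M ⟶ N) := h
  exact Countable.of_equiv _ (Iso.homCongr e₁ e₂)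

lemma HomCountable.of_adj {D : Type*} [Category D] [Preadditive D] {F : C ⥤ D} {G : D ⥤ C}
    (adj : F ⊣ G) {M : C} {N : D} (h : HomCountable (F.obj M) N) : HomCountable M (G.obj N) := by
  haveI : Countable (F.obj M ⟶ N) := h
  exact Countable.of_equiv _ (adj.homEquiv M N)

lemma HomCountable.of_faithful {D : Type*} [Category D] [Preadditive D] (G : C ⥤ D) [G.Faithful]
    {M N : C} (h : HomCountable (G.obj M) (G.obj N)) : HomCountable M N := by
  haveI : Countable (G.obj M ⟶ G.obj N) := h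
  exact Function.Injective.countable (f := fun φ : M ⟶ N => G.map φ) G.map_injective

lemma HomCountable.of_full {D : Type*} [Category D] [Preadditive D] (G : C ⥤ D) [G.Full]
    {M N : C} (h : HomCountable M N) : HomCountable (G.obj M) (G.obj N) := by
  haveI : Countable (M ⟶ N) := h
  exact Function.Surjective.countable (f := fun φ : M ⟶ N => G.map φ) G.map_surjective

lemma HomCountable.biprod {M A B : C} [HasBinaryBiproduct A B] (hA : HomCountable M A)
    (hB : HomCountable M B) : HomCountable M (A ⊞ B) := by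
  haveI : Countable (M ⟶ A) := hA
  haveI : Countable (M ⟶ B) := hB
  refine Function.Injective.countable
    (f := fun φ : M ⟶ A ⊞ B => ((φ ≫ biprod.fst, φ ≫ biprod.snd) : (M ⟶ A) × (M ⟶ B))) ?_
  intro φ ψ h
  simp only [Prod.mk.injEq] at h
  exact biprod.hom_ext _ _ h.1 h.2

/-- a direct summand -/
lemma HomCountable.of_biprod_left {X X' Y : C} [HasBinaryBiproduct X X']
    (h : HomCountable (X ⊞ X') Y) : HomCountable X Y := by
  haveI : Countable (X ⊞ X' ⟶ Y) := h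
  refine Function.Injective.countable
    (f := fun φ : X ⟶ Y => ((biprod.fst : X ⊞ X' ⟶ X) ≫ φ)) ?_
  intro φ ψ hφψ
  have := congrArg (fun χ => (biprod.inl : X ⟶ X ⊞ X') ≫ χ) hφψ
  simpa using this

end General

section Tri

variable {C : Type*} [Category C] [Preadditive C] [HasZeroObject C] [HasShift C ℤ]
  [∀ n : ℤ, (shiftFunctor C n).Additive] [Pretriangulated C]

/-- for a distinguished triangle `T`, `Hom(M, T₂)` is countable if `Hom(M, T₁)` and `Hom(M, T₃)`
are. -/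
lemma HomCountable.of_distTriang₂ (T : Triangle C) (hT : T ∈ distTriang C) {M : C}
    (h₁ : HomCountable M T.obj₁) (h₃ : HomCountable M T.obj₃) : HomCountable M T.obj₂ := by
  classical
  haveI : Countable (M ⟶ T.obj₁) := h₁
  haveI : Countable (M ⟶ T.obj₃) := h₃
  -- a section of `φ ↦ φ ≫ T.mor₂` on its range
  let s : (M ⟶ T.obj₃) → (M ⟶ T.obj₂) := fun ψ =>
    if h : ∃ φ : M ⟶ T.obj₂, φ ≫ T.mor₂ = ψ then h.choose else 0
  have hs : ∀ φ : M ⟶ T.obj₂, s (φ ≫ T.mor₂) ≫ T.mor₂ = φ ≫ T.mor₂ := by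
    intro φ
    have h : ∃ φ' : M ⟶ T.obj₂, φ' ≫ T.mor₂ = φ ≫ T.mor₂ := ⟨φ, rfl⟩
    simp only [s, dif_pos h]
    exact h.choose_spec
  have hg : ∀ φ : M ⟶ T.obj₂, ∃ g : M ⟶ T.obj₁, φ - s (φ ≫ T.mor₂) = g ≫ T.mor₁ := by
    intro φ
    exact Triangle.coyoneda_exact₂ T hT _ (by rw [Preadditive.sub_comp, hs, sub_self])
  choose g hg' using hg
  refine Function.Injective.countable
    (f := fun φ : M ⟶ T.obj₂ => ((φ ≫ T.mor₂, g φ) : (M ⟶ T.obj₃) × (M ⟶ T.obj₁))) ?_
  intro φ ψ h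
  simp only [Prod.mk.injEq] at h
  have h1 := hg' φ
  have h2 := hg' ψ
  rw [h.1, h.2, ← h2] at h1
  exact sub_left_injective h1

/-- for a distinguished triangle `T`, `Hom(M, T₁)` is countable if `Hom(M, T₂)` and
`Hom(M, T₃[-1])` are. -/
lemma HomCountable.of_distTriang₁ (T : Triangle C) (hT : T ∈ distTriang C) {M : C}
    (h₂ : HomCountable M T.obj₂) (h₃ : HomCountable M (T.obj₃⟦(-1 : ℤ)⟧)) :
    HomCountable M T.obj₁ :=
  HomCountable.of_distTriang₂ T.invRotate (inv_rot_of_distTriang _ hT) h₃ h₂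

/-- for a distinguished triangle `T`, `Hom(T₂, Y)` is countable if `Hom(T₁, Y)` and `Hom(T₃, Y)`
are. -/
lemma HomCountable.of_distTriang₂' (T : Triangle C) (hT : T ∈ distTriang C) {Y : C}
    (h₁ : HomCountable T.obj₁ Y) (h₃ : HomCountable T.obj₃ Y) : HomCountable T.obj₂ Y := by
  classical
  haveI : Countable (T.obj₁ ⟶ Y) := h₁
  haveI : Countable (T.obj₃ ⟶ Y) := h₃
  let s : (T.obj₁ ⟶ Y) → (T.obj₂ ⟶ Y) := fun ψ =>
    if h : ∃ φ : T.obj₂ ⟶ Y, T.mor₁ ≫ φ = ψ then h.choose else 0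
  have hs : ∀ φ : T.obj₂ ⟶ Y, T.mor₁ ≫ s (T.mor₁ ≫ φ) = T.mor₁ ≫ φ := by
    intro φ
    have h : ∃ φ' : T.obj₂ ⟶ Y, T.mor₁ ≫ φ' = T.mor₁ ≫ φ := ⟨φ, rfl⟩
    simp only [s, dif_pos h]
    exact h.choose_spec
  have hg : ∀ φ : T.obj₂ ⟶ Y, ∃ g : T.obj₃ ⟶ Y, φ - s (T.mor₁ ≫ φ) = T.mor₂ ≫ g := by
    intro φ
    exact Triangle.yoneda_exact₂ T hT _ (by rw [Preadditive.comp_sub, hs, sub_self])
  choose g hg' using hg
  refine Function.Injective.countable
    (f := fun φ : T.obj₂ ⟶ Y => ((T.mor₁ ≫ φ, g φ) : (T.obj₁ ⟶ Y) × (T.obj₃ ⟶ Y))) ?_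
  intro φ ψ h
  simp only [Prod.mk.injEq] at h
  have h1 := hg' φ
  have h2 := hg' ψ
  rw [h.1, h.2, ← h2] at h1
  exact sub_left_injective h1

end Tri

section MV

open Groth.Agent.Lib.T2H8.PerfLocal Groth.Agent.Lib.T2H1.RpushSupport

variable {Z : Scheme.{u}}

/-- Mayer–Vietoris for countability of `Hom`. -/
theorem homCountable_of_mv (S U : Z.Opens) (hSU : S ⊔ U = ⊤) (M L : DCoh.D Z)
    (h₁ : HomCountable ((rD S.ι).obj M) ((rD S.ι).obj L))
    (h₂ : HomCountable ((rD U.ι).obj M) ((rD U.ι).obj L))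
    (h₃ : HomCountable ((rD (S ⊓ U).ι).obj M) (((rD (S ⊓ U).ι).obj L)⟦(-1 : ℤ)⟧)) :
    HomCountable M L := by
  haveI := hasRpush S.ι
  haveI := hasRpush U.ι
  haveI := hasRpush (S ⊓ U).ι
  obtain ⟨a, b, c, hT⟩ := Groth.Agent.Lib.T2H1.MVTri.exists_mv_triangle S U hSU L
  obtain ⟨adjS⟩ := Groth.Agent.Lib.T2H1.GlueOpens.exists_adj S.ι
  obtain ⟨adjU⟩ := Groth.Agent.Lib.T2H1.GlueOpens.exists_adj U.ι
  obtain ⟨adjW⟩ := Groth.Agent.Lib.T2H1.GlueOpens.exists_adj (S ⊓ U).ι
  obtain ⟨es⟩ := Groth.Agent.Lib.T2H1.RpushShift.exists_Rpush_shift_iso (S ⊓ U).ι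
    ((rD (S ⊓ U).ι).obj L) (-1)
  refine HomCountable.of_distTriang₁ _ hT ?_ ?_
  · exact HomCountable.biprod (HomCountable.of_adj adjS h₁) (HomCountable.of_adj adjU h₂)
  · exact HomCountable.of_iso (Iso.refl _) es (HomCountable.of_adj adjW h₃)

end MV

end Groth.Agent.Lib.T2H2.QcqsInd
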