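import Groth.Agent.Lib.T2H2QcqsIndH
import Groth.Agent.S7010

/-!
# Countability of `Hom(M, N[i])` for perfect `M` over a ring (T2H2)
-/

set_option autoImplicit false
set_option linter.style.haveILetI false
universe u
open CategoryTheory CategoryTheory.Limits Pretriangulated

attribute [local instance] HasDerivedCategory.standard

namespace Groth.Agent.Lib.T2H2.QcqsInd

open DerivedCategory

variable {A : Type u} [CommRing A]

/-- no nonzero maps from a projective module in degree `0` to an object without `H^0` -/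
theorem homZero_single_of_projective (P₀ : ModuleCat.{u} A) [Projective P₀] (N : Dual.D A)
    (hN : IsZero ((homologyFunctor (ModuleCat.{u} A) 0).obj N)) :
    HomZero ((singleFunctor (ModuleCat.{u} A) 0).obj P₀) N := by
  refine HomZero.of_iso ((singleFunctorIsoCompQ (ModuleCat.{u} A) 0).app P₀).symm (Iso.refl _) ?_
  refine homZero_of_projective _ 0 0 (fun i hi => ?_) (fun i => ?_) _ (fun i hi₁ hi₂ => ?_)
  · exact HomologicalComplex.isZero_single_obj_X _ _ _ _ (by omega)
  · by_cases hi : i = 0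
    · subst hi
      exact Projective.of_iso (HomologicalComplex.singleObjXSelf (ComplexShape.up ℤ) 0 P₀).symm
        inferInstance
    · exact (HomologicalComplex.isZero_single_obj_X _ _ _ _ hi).projective
  · obtain rfl : i = 0 := by omega
    exact hN

lemma countable_of_iso {X Y : ModuleCat.{u} A} (e : X ≅ Y) (h : Countable Y) : Countable X :=
  Function.Injective.countable (f := fun x : X => e.hom x)
    ((ModuleCat.mono_iff_injective e.hom).1 inferInstance)

/-- `Hom(A[0], Y)` is countable when `H^0(Y)` is -/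
theorem homCountable_single_of_countable (Y : Dual.D A)
    (h : Countable ((homologyFunctor (ModuleCat.{u} A) 0).obj Y)) :
    HomCountable ((singleFunctor (ModuleCat.{u} A) 0).obj (ModuleCat.of A A)) Y := by
  let t := (DerivedCategory.TStructure.t : Triangulated.TStructure (Dual.D A))
  haveI : Projective (ModuleCat.of A A) :=
    (IsProjective.iff_projective (R := A) (P := A)).1 inferInstance
  -- first truncation
  let T := (t.triangleLTGE 0).obj Y
  have hT : T ∈ distTriang _ := t.triangleLTGE_distinguished 0 Y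
  haveI h1 : t.IsLE T.obj₁ (0 - 1) := by
    show t.IsLE ((t.truncLT 0).obj Y) (0 - 1)
    infer_instance
  haveI h3 : t.IsGE T.obj₃ 0 := by dsimp [T]; infer_instance
  haveI : T.obj₁.IsLE (0 - 1) := h1
  haveI : T.obj₃.IsGE 0 := h3
  have hz1 : IsZero ((homologyFunctor (ModuleCat.{u} A) 0).obj T.obj₁) :=
    DerivedCategory.isZero_of_isLE T.obj₁ (0 - 1) 0 (by omega)
  have hz1' : IsZero ((homologyFunctor (ModuleCat.{u} A) 1).obj T.obj₁) :=
    DerivedCategory.isZero_of_isLE T.obj₁ (0 - 1) 1 (by omega)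
  refine HomCountable.of_distTriang₂ T hT
    (HomCountable.of_homZero (homZero_single_of_projective _ _ hz1)) ?_
  -- `H^0(Y) ≅ H^0(τ_{≥ 0} Y)`
  haveI : Mono ((homologyFunctor (ModuleCat.{u} A) 0).map T.mor₂) :=
    (DerivedCategory.HomologySequence.exact₂ T hT 0).mono_g (hz1.eq_of_src _ _)
  haveI : Epi ((homologyFunctor (ModuleCat.{u} A) 0).map T.mor₂) :=
    (DerivedCategory.HomologySequence.exact₃ T hT 0 1 rfl).epi_f (hz1'.eq_of_tgt _ _)
  have hiso4 : IsIso ((homologyFunctor (ModuleCat.{u} A) 0).map T.mor₂) := isIso_of_mono_of_epi _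
  have hc3 : Countable ((homologyFunctor (ModuleCat.{u} A) 0).obj T.obj₃) :=
    countable_of_iso (@asIso _ _ _ _ _ hiso4).symm h
  -- second truncation
  let T' := (t.triangleLTGE 1).obj T.obj₃
  have hT' : T' ∈ distTriang _ := t.triangleLTGE_distinguished 1 T.obj₃
  haveI h1' : t.IsLE T'.obj₁ (1 - 1) := by
    show t.IsLE ((t.truncLT 1).obj T.obj₃) (1 - 1)
    infer_instance
  haveI h3' : t.IsGE T'.obj₃ 1 := by dsimp [T']; infer_instance
  haveI : T'.obj₁.IsLE 0 := h1'
  haveI : T'.obj₃.IsGE 1 := h3'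
  haveI : T'.obj₂.IsGE 0 := h3
  have hz3 : HomZero ((singleFunctor (ModuleCat.{u} A) 0).obj (ModuleCat.of A A)) T'.obj₃ :=
    fun φ => t.zero φ 0 1 (by omega)
  refine HomCountable.of_distTriang₂ T' hT' ?_ (HomCountable.of_homZero hz3)
  haveI : T'.obj₁.IsGE 0 := by
    rw [DerivedCategory.isGE_iff]
    intro i hi
    have hza : IsZero ((homologyFunctor (ModuleCat.{u} A) (i - 1)).obj T'.obj₃) :=
      DerivedCategory.isZero_of_isGE T'.obj₃ 1 (i - 1) (by omega)
    have hzb : IsZero ((homologyFunctor (ModuleCat.{u} A) i).obj T'.obj₂) :=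
      DerivedCategory.isZero_of_isGE T'.obj₂ 0 i hi
    exact (DerivedCategory.HomologySequence.exact₁ T' hT' (i - 1) i (by omega)).isZero_X₂
      (hza.eq_of_src _ _) (hzb.eq_of_tgt _ _)
  obtain ⟨H, ⟨eH⟩⟩ := DerivedCategory.exists_iso_singleFunctor_obj_of_isGE_of_isLE T'.obj₁ 0
  -- `H^0(T'₁) ≅ H^0(T'₂)`
  have hza : IsZero ((homologyFunctor (ModuleCat.{u} A) (0 - 1)).obj T'.obj₃) :=
    DerivedCategory.isZero_of_isGE T'.obj₃ 1 (0 - 1) (by omega)
  have hzb : IsZero ((homologyFunctor (ModuleCat.{u} A) 0).obj T'.obj₃) :=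
    DerivedCategory.isZero_of_isGE T'.obj₃ 1 0 (by omega)
  haveI : Mono ((homologyFunctor (ModuleCat.{u} A) 0).map T'.mor₁) :=
    (DerivedCategory.HomologySequence.exact₁ T' hT' (0 - 1) 0 (by omega)).mono_g
      (hza.eq_of_src _ _)
  haveI : Epi ((homologyFunctor (ModuleCat.{u} A) 0).map T'.mor₁) :=
    (DerivedCategory.HomologySequence.exact₂ T' hT' 0).epi_f (hzb.eq_of_tgt _ _)
  have hiso3 : IsIso ((homologyFunctor (ModuleCat.{u} A) 0).map T'.mor₁) := isIso_of_mono_of_epi _
  have hc1 : Countable ((homologyFunctor (ModuleCat.{u} A) 0).obj T'.obj₁) :=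
    countable_of_iso (@asIso _ _ _ _ _ hiso3) hc3
  have hcH : Countable H :=
    countable_of_iso (((singleFunctorCompHomologyFunctorIso (ModuleCat.{u} A) 0).app H).symm ≪≫
      (homologyFunctor (ModuleCat.{u} A) 0).mapIso eH.symm) hc1
  refine HomCountable.of_iso (Iso.refl _) eH.symm
    (HomCountable.of_full (singleFunctor (ModuleCat.{u} A) 0) ?_)
  refine Function.Injective.countable (f := fun φ : ModuleCat.of A A ⟶ H => φ.hom (1 : A)) ?_
  intro φ ψ hφψ
  ext
  exact hφψ

/-- for `N` with countable cohomology modules and `M` perfect, `Hom(M, N[i])` is countable -/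
theorem homCountable_of_isPerfect (N : Dual.D A)
    (hN : ∀ j : ℤ, Countable ((homologyFunctor (ModuleCat.{u} A) j).obj N))
    (M : Dual.D A) (hM : DRing.IsPerfect A M) (i : ℤ) : HomCountable M (N⟦i⟧) := by
  let P : ObjectProperty (Dual.D A) := fun M => ∀ i : ℤ, HomCountable M (N⟦i⟧)
  haveI : P.IsClosedUnderIsomorphisms := ⟨fun e h i => (h i).of_iso e (Iso.refl _)⟩
  refine Groth.Agent.S7010.result A P ?_ ?_ ?_ ?_ M hM i
  · intro i
    refine homCountable_single_of_countable _ ?_
    exact countable_of_iso (((homologyFunctor (ModuleCat.{u} A) 0).shiftIso i 0 i (by omega)).app N)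
      (hN i)
  · intro K n hK i
    refine HomCountable.of_faithful (shiftFunctor (Dual.D A) (-n)) ?_
    exact HomCountable.of_iso ((shiftFunctorCompIsoId (Dual.D A) n (-n) (by omega)).app K).symm
      ((shiftFunctorAdd' (Dual.D A) i (-n) (i - n) (by omega)).app N) (hK (i - n))
  · intro T hT h₁ h₃ i
    exact HomCountable.of_distTriang₂' T hT (h₁ i) (h₃ i)
  · intro X Y _ h i
    exact HomCountable.of_biprod_left (h i)

end Groth.Agent.Lib.T2H2.QcqsInd
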