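import Groth.Agent.Lib.T2H2QcqsIndI
import Groth.Agent.Lib.T2H2QcqsIndE
import Groth.Agent.Lib.T2H2QcqsIndG

/-!
# Countability of `Hom(E, K[i])` for perfect `E` on a qcqs scheme (T2H2)
-/

set_option autoImplicit false
set_option linter.style.haveILetI false
universe u
open CategoryTheory CategoryTheory.Limits AlgebraicGeometry Opposite Pretriangulated

attribute [local instance] HasDerivedCategory.standard

namespace Groth.Agent.Lib.T2H2.QcqsInd

open Groth.Agent.Lib.T2H8.PerfLocal Groth.Agent.Lib.T2H8.PCohTriangle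
  Groth.Agent.Lib.T2H2.AffRed Groth.Agent.Lib.T2H2.TildeLoc DerivedCategory

lemma countable_of_iso' {R : Type*} [Ring R] {X Y : ModuleCat R} (e : X ≅ Y) (h : Countable Y) :
    Countable X :=
  Function.Injective.countable (f := fun x : X => e.hom x)
    ((ModuleCat.mono_iff_injective e.hom).1 inferInstance)

/-- countability of sections is invariant under isomorphisms of modules -/
lemma countable_sections_of_iso {Z : Scheme.{u}} {M M' : Z.Modules} (e : M ≅ M') (V : Z.Opens)
    (h : Countable (M.val.obj (op V))) : Countable (M'.val.obj (op V)) :=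
  countable_of_iso' ((SheafOfModules.forget _ ⋙ PresheafOfModules.evaluation _ (op V)).mapIso
    e.symm) h

/-- the countability hypothesis on sections over affine opens -/
def CntSections {Z : Scheme.{u}} (K : DCoh.D Z) : Prop :=
  ∀ V : Z.Opens, IsAffineOpen V → ∀ j : ℤ, Countable ((DCoh.HD K j).val.obj (op V))

lemma cntSections_of_iso {Z : Scheme.{u}} {K K' : DCoh.D Z} (e : K ≅ K') (h : CntSections K) :
    CntSections K' := fun V hV j =>
  countable_sections_of_iso ((homologyFunctor _ j).mapIso e) V (h V hV j)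

lemma cntSections_rD {Z U : Scheme.{u}} (j : U ⟶ Z) [IsOpenImmersion j] (K : DCoh.D Z)
    (h : CntSections K) : CntSections ((rD j).obj K) := fun V' hV' i =>
  countable_sections_of_iso (HDrDIso j K i).symm V'
    (show Countable ((DCoh.HD K i).val.obj (op (j ''ᵁ V'))) from
      h (j ''ᵁ V') (hV'.image_of_isOpenImmersion j) i)

/-- the countability property -/
def PCnt (Z : Scheme.{u}) (K : DCoh.D Z) : Prop :=
  DCoh.IsQCohD K → CntSections K →
    ∀ E : DCoh.D Z, DCoh.IsPerfect E → ∀ i : ℤ, HomCountable E (K⟦i⟧)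

theorem pCnt_iso₁ (Z : Scheme.{u}) (K K' : DCoh.D Z) (e : K ≅ K') (h : PCnt Z K) : PCnt Z K' :=
  fun hq hs E hE i => HomCountable.of_iso (Iso.refl _) ((shiftFunctor _ i).mapIso e)
    (h (isQCohD_of_iso' e.symm hq) (cntSections_of_iso e.symm hs) E hE i)

theorem pCnt_iso₂ (Z Z' : Scheme.{u}) (a : Z' ≅ Z) (K : DCoh.D Z) (h : PCnt Z K) :
    PCnt Z' ((rD a.hom).obj K) := by
  intro hq' hs' E' hE' i
  have hq : DCoh.IsQCohD K := isQCohD_of_iso' ((rDIsoCompId a).app K) (isQCohD_rD a.inv _ hq')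
  have hs : CntSections K := cntSections_of_iso ((rDIsoCompId a).app K) (cntSections_rD a.inv _ hs')
  haveI : (rD a.inv).Faithful := faithful_rD_iso a.symm
  refine HomCountable.of_faithful (rD a.inv) ?_
  exact HomCountable.of_iso (Iso.refl _)
    (rDShiftIso a.inv _ i ≪≫ (shiftFunctor _ i).mapIso ((rDIsoCompId a).app K)).symm
    (h hq hs _ (isPerfect_rD a.inv E' hE') i)

theorem pCnt_spec (A : Type u) [CommRing A] (K : DCoh.D (Spec (CommRingCat.of A))) :
    PCnt (Spec (CommRingCat.of A)) K := by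
  intro hq hs E hE i
  obtain ⟨N, ⟨eN⟩⟩ := exists_tildeD_iso A K hq
  obtain ⟨M, ⟨eM⟩⟩ := exists_tildeD_iso A E (isQCohD_of_isPerfect E hE)
  have hM : DRing.IsPerfect A M := isPerfect_of_isPerfect_tildeD A M (isPerfect_of_iso eM.symm hE)
  have hN : ∀ j : ℤ, Countable ((homologyFunctor (ModuleCat.{u} A) j).obj N) := by
    intro j
    have e : (homologyFunctor (ModuleCat.{u} A) j).obj N ≅
        (moduleSpecΓFunctor (R := CommRingCat.of A)).obj (DCoh.HD K j) :=
      (tilde.toTildeΓNatIso (R := CommRingCat.of A)).app _ ≪≫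
        (moduleSpecΓFunctor (R := CommRingCat.of A)).mapIso
          (((mapDerivedCategoryHomologyIso (tilde.functor (CommRingCat.of A)) j).app N).symm ≪≫
            (homologyFunctor _ j).mapIso eN)
    refine countable_of_iso e ?_
    exact (hs ⊤ (isAffineOpen_top _) j : Countable ((DCoh.HD K j).val.obj (op ⊤)))
  exact HomCountable.of_iso eM
    (((DCoh.tildeD (CommRingCat.of A)).commShiftIso i).app N ≪≫ (shiftFunctor _ i).mapIso eN)
    (HomCountable.of_full (DCoh.tildeD (CommRingCat.of A)) (homCountable_of_isPerfect N hN M hM i))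

theorem pCnt_mv (Z : Scheme.{u}) (S U : Z.Opens) (hSU : S ⊔ U = ⊤) (K : DCoh.D Z)
    (hS : PCnt S ((rD S.ι).obj K)) (hU : PCnt U ((rD U.ι).obj K))
    (hW : PCnt (S ⊓ U : Z.Opens) ((rD (S ⊓ U).ι).obj K)) : PCnt Z K := by
  intro hq hs E hE i
  refine homCountable_of_mv S U hSU _ _ ?_ ?_ ?_
  · exact HomCountable.of_iso (Iso.refl _) (rDShiftIso S.ι K i).symm
      (hS (isQCohD_rD S.ι K hq) (cntSections_rD S.ι K hs) _ (isPerfect_rD S.ι E hE) i)
  · exact HomCountable.of_iso (Iso.refl _) (rDShiftIso U.ι K i).symm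
      (hU (isQCohD_rD U.ι K hq) (cntSections_rD U.ι K hs) _ (isPerfect_rD U.ι E hE) i)
  · exact HomCountable.of_iso (Iso.refl _)
      ((shiftFunctorAdd' _ i (-1) (i - 1) (by omega)).app _ ≪≫
        (shiftFunctor _ (-1 : ℤ)).mapIso (rDShiftIso (S ⊓ U).ι K i).symm)
      (hW (isQCohD_rD (S ⊓ U).ι K hq) (cntSections_rD (S ⊓ U).ι K hs) _
        (isPerfect_rD (S ⊓ U).ι E hE) (i - 1))

/-- on a quasi-separated scheme `X`, for `K ∈ D_QCoh` with countably many sections of its
cohomology sheaves over affine opens, `E` perfect and `U` a quasi-compact open, the group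
`Hom(E|_U, K|_U[i])` is countable. -/
theorem pCnt_opens (X : Scheme.{u}) [QuasiSeparatedSpace X] (K : DCoh.D X) (U : X.Opens)
    (hU : IsCompact (U : Set X)) : PCnt U ((rD U.ι).obj K) :=
  pair_induction_opens PCnt pCnt_iso₁ pCnt_iso₂
    (fun Z _ K => haff_of_spec PCnt pCnt_iso₁ pCnt_iso₂ pCnt_spec Z K)
    (fun Z S U hSU _ _ _ K hS hU hW => pCnt_mv Z S U hSU K hS hU hW) K U hU

end Groth.Agent.Lib.T2H2.QcqsInd
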