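import Mathlib
import Groth.Prelude.Def_W4c4chowquasisplitPn

set_option autoImplicit false

namespace Groth.Agent.Lib.T2H2.QsChow

open MvPolynomial

section
variable (n : ℕ)

lemma two_eq_zero : (2 : QsChow.P n) = 0 := by
  have h : (2 : ZMod 2) = 0 := by decide
  have h2 : (2 : QsChow.P n) = algebraMap (ZMod 2) (QsChow.P n) 2 := (map_ofNat _ 2).symm
  rw [h2, h, map_zero]

lemma add_self (x : QsChow.P n) : x + x = 0 := by
  rw [← two_mul, two_eq_zero, zero_mul]

lemma mk_X (i : Fin (QsChow.numVars n)) :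
    Ideal.Quotient.mk (QsChow.truncIdeal n) (X i) = QsChow.eps n (i.val + 1) := by
  unfold QsChow.eps
  rw [dif_pos ⟨Nat.succ_pos _, i.isLt⟩]
  rfl

variable (hn : 2 ≤ n)
  (τ : QsChow.P n →ₐ[ZMod 2] QsChow.P n) (hτ1 : τ (QsChow.eps n 1) = QsChow.eps n 1)
  (hτ : ∀ j : ℕ, 2 ≤ j → j ≤ QsChow.numVars n →
      τ (QsChow.eps n j) = QsChow.eps n j + QsChow.eps n 1 ^ (2 * j - 3))

include hn hτ1 hτ in
/-- every element of `P` is `a + b ε₂` with `a, b` fixed by `τ` -/
lemma exists_decomp (y : QsChow.P n) :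
    ∃ a b : QsChow.P n, τ a = a ∧ τ b = b ∧ y = a + b * QsChow.eps n 2 := by
  have h2le : 2 ≤ QsChow.numVars n := by unfold QsChow.numVars; omega
  have hτ2 : τ (QsChow.eps n 2) = QsChow.eps n 2 + QsChow.eps n 1 := by
    have := hτ 2 le_rfl h2le
    simpa using this
  -- the fixed element ē₂
  have hE2 : τ (QsChow.eps n 2 ^ 2 + QsChow.eps n 1 * QsChow.eps n 2) =
      QsChow.eps n 2 ^ 2 + QsChow.eps n 1 * QsChow.eps n 2 := by
    rw [map_add, map_pow, map_mul, hτ1, hτ2]
    have h := add_self n (QsChow.eps n 1 * QsChow.eps n 2)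
    have h' := add_self n (QsChow.eps n 1 ^ 2)
    linear_combination h + h'
  -- the property is closed under multiplication
  have hmul : ∀ y y' : QsChow.P n,
      (∃ a b : QsChow.P n, τ a = a ∧ τ b = b ∧ y = a + b * QsChow.eps n 2) →
      (∃ a b : QsChow.P n, τ a = a ∧ τ b = b ∧ y' = a + b * QsChow.eps n 2) →
      ∃ a b : QsChow.P n, τ a = a ∧ τ b = b ∧ y * y' = a + b * QsChow.eps n 2 := by
    rintro y y' ⟨a, b, ha, hb, rfl⟩ ⟨a', b', ha', hb', rfl⟩
    refine ⟨a * a' + b * b' * (QsChow.eps n 2 ^ 2 + QsChow.eps n 1 * QsChow.eps n 2),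
      a * b' + a' * b + b * b' * QsChow.eps n 1, ?_, ?_, ?_⟩
    · rw [map_add, map_mul, map_mul, map_mul, hE2, ha, ha', hb, hb']
    · rw [map_add, map_add, map_mul, map_mul, map_mul, map_mul, hτ1, ha, ha', hb, hb']
    · have h := add_self n (b * b' * QsChow.eps n 1 * QsChow.eps n 2)
      linear_combination -h
  -- generators
  have hgen : ∀ i : Fin (QsChow.numVars n),
      ∃ a b : QsChow.P n, τ a = a ∧ τ b = b ∧ QsChow.eps n (i.val + 1) = a + b * QsChow.eps n 2 := by
    intro i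
    by_cases h0 : i.val = 0
    · refine ⟨QsChow.eps n 1, 0, hτ1, map_zero _, ?_⟩
      rw [h0]; simp
    by_cases h1 : i.val = 1
    · refine ⟨0, 1, map_zero _, map_one _, ?_⟩
      rw [h1]; simp
    have hj : 3 ≤ i.val + 1 := by omega
    have hjle : i.val + 1 ≤ QsChow.numVars n := i.isLt
    set j := i.val + 1 with hjdef
    refine ⟨QsChow.eps n j + QsChow.eps n 1 ^ (2 * j - 4) * QsChow.eps n 2,
      QsChow.eps n 1 ^ (2 * j - 4), ?_, ?_, ?_⟩
    · rw [map_add, map_mul, map_pow, hτ1, hτ2, hτ j (by omega) hjle]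
      have hpow : QsChow.eps n 1 ^ (2 * j - 3) = QsChow.eps n 1 ^ (2 * j - 4) * QsChow.eps n 1 := by
        rw [← pow_succ]; congr 1; omega
      rw [hpow]
      have h := add_self n (QsChow.eps n 1 ^ (2 * j - 4) * QsChow.eps n 1)
      linear_combination h
    · rw [map_pow, hτ1]
    · have h := add_self n (QsChow.eps n 1 ^ (2 * j - 4) * QsChow.eps n 2)
      linear_combination -h
  -- induction on a polynomial representative
  obtain ⟨p, rfl⟩ := Ideal.Quotient.mk_surjective y
  induction p using MvPolynomial.induction_on with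
  | C c =>
    refine ⟨Ideal.Quotient.mk _ (C c), 0, ?_, map_zero _, by simp⟩
    exact τ.commutes c
  | add p q hp hq =>
    obtain ⟨a, b, ha, hb, h⟩ := hp
    obtain ⟨a', b', ha', hb', h'⟩ := hq
    refine ⟨a + a', b + b', by rw [map_add, ha, ha'], by rw [map_add, hb, hb'], ?_⟩
    rw [map_add, h, h']; ring
  | mul_X p i hp =>
    rw [map_mul, mk_X]
    exact hmul _ _ hp (hgen i)


include hn hτ1 hτ in
/-- the image of `1 + τ` is `ε₁ · P^τ` -/
theorem range_add_tau :
    Set.range (fun y : QsChow.P n => y + τ y) =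
      (fun z : QsChow.P n => QsChow.eps n 1 * z) ''
        (AlgHom.equalizer τ (AlgHom.id (ZMod 2) (QsChow.P n)) : Set (QsChow.P n)) := by
  have h2le : 2 ≤ QsChow.numVars n := by unfold QsChow.numVars; omega
  have hτ2 : τ (QsChow.eps n 2) = QsChow.eps n 2 + QsChow.eps n 1 := by
    have := hτ 2 le_rfl h2le
    simpa using this
  ext w
  constructor
  · rintro ⟨y, rfl⟩
    obtain ⟨a, b, ha, hb, rfl⟩ := exists_decomp n hn τ hτ1 hτ y
    refine ⟨b, ?_, ?_⟩
    · exact hb
    · simp only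
      rw [map_add, map_mul, ha, hb, hτ2]
      have h1 := add_self n a
      have h2 := add_self n (b * QsChow.eps n 2)
      linear_combination -h1 - h2
  · rintro ⟨z, hz, rfl⟩
    have hz' : τ z = z := hz
    refine ⟨z * QsChow.eps n 2, ?_⟩
    simp only
    rw [map_mul, hz', hτ2]
    have h2 := add_self n (z * QsChow.eps n 2)
    linear_combination h2

end

end Groth.Agent.Lib.T2H2.QsChow
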