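import Groth.Agent.Lib.T2H2RDerGen

/-!
# Cohomological bounds for total right derived functors on bounded objects (T2H2)

`G : B ⥤ A` additive with `R^p G (M) = 0` for `p ≥ N` and `M` in a class `P` of objects closed
under isomorphisms and containing the zero objects.  If `E ∈ D^{[a,b]}(B)` has cohomology in `P`,
then `H^i(RG E) = 0` for `i ∉ [a, b + N - 1]`.
-/

set_option autoImplicit false
set_option linter.style.haveILetI false
universe w w₁ w₂ v v' u u'
open CategoryTheory CategoryTheory.Limits CategoryTheory.Pretriangulated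

namespace Groth.Agent.Lib.T2H2.RDerGen

open DerivedCategory

section Trunc

variable {B : Type u'} [Category.{v'} B] [Abelian B] [HasDerivedCategory.{w₂} B]

/-- `H^b` of the object `Y` placed in degree `b` is `Y`. -/
noncomputable def homologySingleIso (Y : B) (b : ℤ) :
    (homologyFunctor B b).obj ((singleFunctor B b).obj Y) ≅ Y :=
  (homologyFunctor B b).mapIso ((singleFunctorIsoCompQ B b).app Y) ≪≫
    (homologyFunctorFactors B b).app _ ≪≫
    (HomologicalComplex.homologyFunctorSingleIso B (ComplexShape.up ℤ) b).app Y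

/-- the cohomology of `τ_{<n} E` is that of `E` in degrees `< n`. -/
lemma nonempty_homology_truncLT_iso (E : DerivedCategory B) (n j : ℤ) (hj : j < n) :
    Nonempty ((homologyFunctor B j).obj ((DerivedCategory.TStructure.t.truncLT n).obj E) ≅
      (homologyFunctor B j).obj E) := by
  let T := ((DerivedCategory.TStructure.t : Triangulated.TStructure
    (DerivedCategory B)).triangleLTGE n).obj E
  have hT : T ∈ distTriang _ := DerivedCategory.TStructure.t.triangleLTGE_distinguished n E
  haveI : T.obj₃.IsGE n := by dsimp [T]; infer_instance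
  have hz1 : IsZero ((homologyFunctor B j).obj T.obj₃) :=
    DerivedCategory.isZero_of_isGE T.obj₃ n j hj
  haveI : Epi ((homologyFunctor B j).map T.mor₁) :=
    (HomologySequence.exact₂ T hT j).epi_f (hz1.eq_of_tgt _ _)
  haveI : Mono ((homologyFunctor B j).map T.mor₁) := by
    rw [HomologySequence.mono_homologyMap_mor₁_iff T hT (j - 1) j (by lia)]
    exact (DerivedCategory.isZero_of_isGE T.obj₃ n (j - 1) (by lia)).eq_of_src _ _
  have hiso : IsIso ((homologyFunctor B j).map T.mor₁) := isIso_of_mono_of_epi _
  exact ⟨@asIso _ _ _ _ ((homologyFunctor B j).map T.mor₁) hiso⟩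

/-- the cohomology of `τ_{≥ n} E` is that of `E` in degrees `≥ n`. -/
lemma nonempty_homology_truncGE_iso (E : DerivedCategory B) (n j : ℤ) (hj : n ≤ j) :
    Nonempty ((homologyFunctor B j).obj E ≅
      (homologyFunctor B j).obj ((DerivedCategory.TStructure.t.truncGE n).obj E)) := by
  let T := ((DerivedCategory.TStructure.t : Triangulated.TStructure
    (DerivedCategory B)).triangleLTGE n).obj E
  have hT : T ∈ distTriang _ := DerivedCategory.TStructure.t.triangleLTGE_distinguished n E
  haveI : T.obj₁.IsLE (n - 1) := by dsimp [T]; infer_instance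
  have hz1 : IsZero ((homologyFunctor B j).obj T.obj₁) :=
    DerivedCategory.isZero_of_isLE T.obj₁ (n - 1) j (by lia)
  have hz2 : IsZero ((homologyFunctor B (j + 1)).obj T.obj₁) :=
    DerivedCategory.isZero_of_isLE T.obj₁ (n - 1) (j + 1) (by lia)
  haveI : Mono ((homologyFunctor B j).map T.mor₂) :=
    (HomologySequence.exact₂ T hT j).mono_g (hz1.eq_of_src _ _)
  haveI : Epi ((homologyFunctor B j).map T.mor₂) :=
    (HomologySequence.exact₃ T hT j (j + 1) rfl).epi_f (hz2.eq_of_tgt _ _)
  have hiso : IsIso ((homologyFunctor B j).map T.mor₂) := isIso_of_mono_of_epi _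
  exact ⟨@asIso _ _ _ _ ((homologyFunctor B j).map T.mor₂) hiso⟩

end Trunc

variable {A : Type u} [Category.{v} A] [Abelian A] {B : Type u'} [Category.{v'} B] [Abelian B]
  [IsGrothendieckAbelian.{w} B] [HasDerivedCategory.{w₁} A] [HasDerivedCategory.{w₂} B]
  (G : B ⥤ A) [G.Additive]
  (RG : DerivedCategory B ⥤ DerivedCategory A)
  (β : G.mapHomologicalComplex (ComplexShape.up ℤ) ⋙ DerivedCategory.Q ⟶
    DerivedCategory.Q ⋙ RG)
  [RG.IsRightDerivedFunctor β (HomologicalComplex.quasiIso B (ComplexShape.up ℤ))]

include β in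
/-- `H^i(RG(M[-b])) ≅ R^k G(M)` for `i = b + k`. -/
theorem nonempty_homology_single_iso' [HasInjectiveResolutions B] (M : B) (b : ℤ) (k : ℕ)
    (i : ℤ) (hi : i = b + k) :
    Nonempty ((homologyFunctor A i).obj (RG.obj ((singleFunctor B b).obj M)) ≅
      (G.rightDerived k).obj M) := by
  obtain ⟨e₀⟩ := nonempty_homology_single_iso.{w} G RG β M k
  let s : ((singleFunctor B 0).obj M)⟦-b⟧ ≅ (singleFunctor B b).obj M :=
    ((singleFunctors B).shiftIso (-b) b 0 (by lia)).app M
  obtain ⟨e₁⟩ := nonempty_shift_iso.{w} G RG β ((singleFunctor B 0).obj M) (-b)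
  exact ⟨(homologyFunctor A i).mapIso (RG.mapIso s.symm ≪≫ e₁) ≪≫
    ((homologyFunctor A 0).shiftIso (-b) i (k : ℤ) (by lia)).app _ ≪≫ e₀⟩

include β in
/-- `RG` of a zero object has no cohomology. -/
theorem isZero_homology_obj_of_isZero (E : DerivedCategory B) (hE : IsZero E) (i : ℤ) :
    IsZero ((homologyFunctor A i).obj (RG.obj E)) := by
  haveI : E.IsGE (i + 1) := DerivedCategory.TStructure.t.isGE_of_isZero hE (i + 1)
  haveI := isGE_obj.{w} G RG β E (i + 1)
  exact DerivedCategory.isZero_of_isGE (RG.obj E) (i + 1) i (by lia)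

include β in
/-- the upper bound on the cohomology of `RG E` for bounded `E` with cohomology in `P`. -/
theorem isZero_homology_of_bounded [HasInjectiveResolutions B] (P : B → Prop)
    (hPiso : ∀ M M' : B, (M ≅ M') → P M → P M')
    (N : ℕ) (hG : ∀ M : B, P M → ∀ p : ℕ, N ≤ p → IsZero ((G.rightDerived p).obj M)) :
    ∀ (d : ℕ) (E : DerivedCategory B) (a b : ℤ), b - a + 1 ≤ d → E.IsGE a → E.IsLE b →
      (∀ j : ℤ, a ≤ j → j ≤ b → P ((homologyFunctor B j).obj E)) →
      ∀ i : ℤ, b + N - 1 < i → IsZero ((homologyFunctor A i).obj (RG.obj E)) := by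
  intro d
  induction d with
  | zero =>
    intro E a b hd hEa hEb _ i _
    exact isZero_homology_obj_of_isZero.{w} G RG β E
      (DerivedCategory.TStructure.t.isZero E b a (by lia)) i
  | succ d ih =>
    intro E a b hd hEa hEb hP i hi
    by_cases hba : b < a
    · exact isZero_homology_obj_of_isZero.{w} G RG β E
        (DerivedCategory.TStructure.t.isZero E b a hba) i
    · let T := ((DerivedCategory.TStructure.t : Triangulated.TStructure
        (DerivedCategory B)).triangleLTGE b).obj E
      have hT : T ∈ distTriang _ := DerivedCategory.TStructure.t.triangleLTGE_distinguished b E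
      have h₁ : T.obj₁.IsLE (b - 1) := by dsimp [T]; infer_instance
      have h₁' : T.obj₁.IsGE a := by
        change DerivedCategory.TStructure.t.IsGE ((DerivedCategory.TStructure.t.truncLT b).obj E) a
        infer_instance
      haveI h₃ : T.obj₃.IsGE b := by dsimp [T]; infer_instance
      haveI h₃' : T.obj₃.IsLE b := by
        change DerivedCategory.TStructure.t.IsLE ((DerivedCategory.TStructure.t.truncGE b).obj E) b
        infer_instance
      -- the first vertex
      have hz₁ : IsZero ((homologyFunctor A i).obj (RG.obj T.obj₁)) := by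
        refine ih T.obj₁ a (b - 1) (by lia) h₁' h₁ (fun j hj₁ hj₂ => ?_) i (by lia)
        obtain ⟨e⟩ := nonempty_homology_truncLT_iso E b j (by lia)
        exact hPiso _ _ e.symm (hP j hj₁ (by lia))
      -- the third vertex
      obtain ⟨Y, ⟨eY⟩⟩ := DerivedCategory.exists_iso_singleFunctor_obj_of_isGE_of_isLE T.obj₃ b
      have hPY : P Y := by
        obtain ⟨e⟩ := nonempty_homology_truncGE_iso E b b le_rfl
        exact hPiso _ _ (e ≪≫ (homologyFunctor B b).mapIso eY ≪≫ homologySingleIso Y b)
          (hP b (by lia) le_rfl)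
      have hz₃ : IsZero ((homologyFunctor A i).obj (RG.obj T.obj₃)) := by
        obtain ⟨k, hk⟩ := Int.eq_ofNat_of_zero_le (show 0 ≤ i - b by lia)
        obtain ⟨e⟩ := nonempty_homology_single_iso'.{w} G RG β Y b k i (by lia)
        exact IsZero.of_iso (hG Y hPY k (by lia))
          ((homologyFunctor A i).mapIso (RG.mapIso eY) ≪≫ e)
      obtain ⟨a', b', c', hT'⟩ := exists_triangle.{w} G RG β T hT
      exact (HomologySequence.exact₂ _ hT' i).isZero_of_both_zeros
        (hz₁.eq_of_src _ _) (hz₃.eq_of_tgt _ _)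

end Groth.Agent.Lib.T2H2.RDerGen
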