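import Groth.Agent.Lib.T2H2RDerBound
import Groth.Agent.Lib.T2H2QcRpushA

/-!
# Dévissage for total right derived functors on bounded (below) objects (T2H2)

`G : B ⥤ A` additive, `P` a class of objects of `B` closed under isomorphisms, `Q` a weak Serre
class of objects of `A` with `R^p G(M) ∈ Q` for `M ∈ P`.  If `E ∈ D^+(B)` has cohomology in `P`,
then `RG E` has cohomology in `Q`.
-/

set_option autoImplicit false
set_option linter.style.haveILetI false
universe w w₁ w₂ v v' u u'
open CategoryTheory CategoryTheory.Limits CategoryTheory.Pretriangulated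

namespace Groth.Agent.Lib.T2H2.RDerGen

open DerivedCategory Groth.Agent.Lib.T2H2.QcRpush

section Five

variable {𝒜 : Type u} [Category.{v} 𝒜] [Abelian 𝒜] [HasDerivedCategory.{w} 𝒜]
  {P : ObjectProperty 𝒜}

/-- the cohomology of the middle vertex of a distinguished triangle. -/
theorem homology_obj₂' (hP : IsWeakSerre P) (T : Triangle (DerivedCategory 𝒜))
    (hT : T ∈ distTriang _) (n : ℤ)
    (h₃' : P ((homologyFunctor 𝒜 (n - 1)).obj T.obj₃))
    (h₁ : P ((homologyFunctor 𝒜 n).obj T.obj₁))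
    (h₃ : P ((homologyFunctor 𝒜 n).obj T.obj₃))
    (h₁' : P ((homologyFunctor 𝒜 (n + 1)).obj T.obj₁)) :
    P ((homologyFunctor 𝒜 n).obj T.obj₂) :=
  hP.of_five (HomologySequence.δ T (n - 1) n (by lia))
    ((homologyFunctor 𝒜 n).map T.mor₁) ((homologyFunctor 𝒜 n).map T.mor₂)
    (HomologySequence.δ T n (n + 1) rfl) _ _ _
    (HomologySequence.exact₁ T hT (n - 1) n (by lia))
    (HomologySequence.exact₂ T hT n)
    (HomologySequence.exact₃ T hT n (n + 1) rfl) h₃' h₁ h₃ h₁'

end Five

variable {A : Type u} [Category.{v} A] [Abelian A] {B : Type u'} [Category.{v'} B] [Abelian B]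
  [IsGrothendieckAbelian.{w} B] [HasDerivedCategory.{w₁} A] [HasDerivedCategory.{w₂} B]
  (G : B ⥤ A) [G.Additive]
  (RG : DerivedCategory B ⥤ DerivedCategory A)
  (β : G.mapHomologicalComplex (ComplexShape.up ℤ) ⋙ DerivedCategory.Q ⟶
    DerivedCategory.Q ⋙ RG)
  [RG.IsRightDerivedFunctor β (HomologicalComplex.quasiIso B (ComplexShape.up ℤ))]

include β in
/-- dévissage, bounded case. -/
theorem prop_homology_of_bounded [HasInjectiveResolutions B] (P : B → Prop)
    (hPiso : ∀ M M' : B, (M ≅ M') → P M → P M')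
    (Q : ObjectProperty A) (hQ : IsWeakSerre Q) (hQ0 : ∀ Z : A, IsZero Z → Q Z)
    (hQiso : ∀ M M' : A, (M ≅ M') → Q M → Q M')
    (hG : ∀ M : B, P M → ∀ p : ℕ, Q ((G.rightDerived p).obj M)) :
    ∀ (d : ℕ) (E : DerivedCategory B) (a b : ℤ), b - a + 1 ≤ d → E.IsGE a → E.IsLE b →
      (∀ j : ℤ, a ≤ j → j ≤ b → P ((homologyFunctor B j).obj E)) →
      ∀ i : ℤ, Q ((homologyFunctor A i).obj (RG.obj E)) := by
  intro d
  induction d with
  | zero =>
    intro E a b hd hEa hEb _ i
    exact hQ0 _ (isZero_homology_obj_of_isZero.{w} G RG β E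
      (DerivedCategory.TStructure.t.isZero E b a (by lia)) i)
  | succ d ih =>
    intro E a b hd hEa hEb hP i
    by_cases hba : b < a
    · exact hQ0 _ (isZero_homology_obj_of_isZero.{w} G RG β E
        (DerivedCategory.TStructure.t.isZero E b a hba) i)
    · let T := ((DerivedCategory.TStructure.t : Triangulated.TStructure
        (DerivedCategory B)).triangleLTGE b).obj E
      have hT : T ∈ distTriang _ := DerivedCategory.TStructure.t.triangleLTGE_distinguished b E
      have h₁ : T.obj₁.IsLE (b - 1) := by dsimp [T]; infer_instance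
      have h₁' : T.obj₁.IsGE a := by
        change DerivedCategory.TStructure.t.IsGE ((DerivedCategory.TStructure.t.truncLT b).obj E) a
        infer_instance
      haveI h₃ : T.obj₃.IsGE b := by dsimp [T]; infer_instance
      haveI h₃' : T.obj₃.IsLE b := by
        change DerivedCategory.TStructure.t.IsLE ((DerivedCategory.TStructure.t.truncGE b).obj E) b
        infer_instance
      -- the first vertex
      have hq₁ : ∀ n : ℤ, Q ((homologyFunctor A n).obj (RG.obj T.obj₁)) := by
        refine ih T.obj₁ a (b - 1) (by lia) h₁' h₁ (fun j hj₁ hj₂ => ?_)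
        obtain ⟨e⟩ := nonempty_homology_truncLT_iso E b j (by lia)
        exact hPiso _ _ e.symm (hP j hj₁ (by lia))
      -- the third vertex
      obtain ⟨Y, ⟨eY⟩⟩ := DerivedCategory.exists_iso_singleFunctor_obj_of_isGE_of_isLE T.obj₃ b
      have hPY : P Y := by
        obtain ⟨e⟩ := nonempty_homology_truncGE_iso E b b le_rfl
        exact hPiso _ _ (e ≪≫ (homologyFunctor B b).mapIso eY ≪≫ homologySingleIso Y b)
          (hP b (by lia) le_rfl)
      have hq₃ : ∀ n : ℤ, Q ((homologyFunctor A n).obj (RG.obj T.obj₃)) := by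
        intro n
        by_cases hn : n < b
        · haveI := isGE_obj.{w} G RG β T.obj₃ b
          exact hQ0 _ (DerivedCategory.isZero_of_isGE _ b n hn)
        · obtain ⟨k, hk⟩ := Int.eq_ofNat_of_zero_le (show 0 ≤ n - b by lia)
          obtain ⟨e⟩ := nonempty_homology_single_iso'.{w} G RG β Y b k n (by lia)
          exact hQiso _ _ ((homologyFunctor A n).mapIso (RG.mapIso eY) ≪≫ e).symm (hG Y hPY k)
      obtain ⟨a', b', c', hT'⟩ := exists_triangle.{w} G RG β T hT
      exact homology_obj₂' hQ _ hT' i (hq₃ _) (hq₁ _) (hq₃ _) (hq₁ _)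

include β in
/-- dévissage, bounded below case. -/
theorem prop_homology_of_boundedBelow [HasInjectiveResolutions B] (P : B → Prop)
    (hPiso : ∀ M M' : B, (M ≅ M') → P M → P M')
    (Q : ObjectProperty A) (hQ : IsWeakSerre Q) (hQ0 : ∀ Z : A, IsZero Z → Q Z)
    (hQiso : ∀ M M' : A, (M ≅ M') → Q M → Q M')
    (hG : ∀ M : B, P M → ∀ p : ℕ, Q ((G.rightDerived p).obj M))
    (E : DerivedCategory B) (a : ℤ) [E.IsGE a]
    (hP : ∀ j : ℤ, P ((homologyFunctor B j).obj E)) (i : ℤ) :
    Q ((homologyFunctor A i).obj (RG.obj E)) := by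
  let T := ((DerivedCategory.TStructure.t : Triangulated.TStructure
    (DerivedCategory B)).triangleLTGE (i + 2)).obj E
  have hT : T ∈ distTriang _ :=
    DerivedCategory.TStructure.t.triangleLTGE_distinguished (i + 2) E
  have h₁ : T.obj₁.IsLE (i + 2 - 1) := by dsimp [T]; infer_instance
  have h₁' : T.obj₁.IsGE a := by
    change DerivedCategory.TStructure.t.IsGE
      ((DerivedCategory.TStructure.t.truncLT (i + 2)).obj E) a
    infer_instance
  haveI h₃ : T.obj₃.IsGE (i + 2) := by dsimp [T]; infer_instance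
  have hq₁ : ∀ n : ℤ, Q ((homologyFunctor A n).obj (RG.obj T.obj₁)) := by
    refine prop_homology_of_bounded.{w} G RG β P hPiso Q hQ hQ0 hQiso hG
      (i + 2 - 1 - a + 1).toNat T.obj₁ a (i + 2 - 1) (by lia) h₁' h₁ (fun j hj₁ hj₂ => ?_)
    obtain ⟨e⟩ := nonempty_homology_truncLT_iso E (i + 2) j (by lia)
    exact hPiso _ _ e.symm (hP j)
  haveI := isGE_obj.{w} G RG β T.obj₃ (i + 2)
  obtain ⟨a', b', c', hT'⟩ := exists_triangle.{w} G RG β T hT
  exact homology_obj₂' hQ _ hT' i
    (hQ0 _ (DerivedCategory.isZero_of_isGE (RG.obj T.obj₃) (i + 2) (i - 1) (by lia))) (hq₁ _)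
    (hQ0 _ (DerivedCategory.isZero_of_isGE (RG.obj T.obj₃) (i + 2) i (by lia))) (hq₁ _)

end Groth.Agent.Lib.T2H2.RDerGen
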