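import Groth.Agent.Lib.T2H2RpushTri
import Groth.Agent.Lib.T2H1KhUnit
import Groth.Agent.Lib.Helper23Bridge
import Mathlib.CategoryTheory.Abelian.Injective.Extend

/-!
# Basic properties of unbounded total right derived functors (T2H2)

`G : B ⥤ A` additive, `B` Grothendieck abelian, `RG : D(B) ⥤ D(A)` a total right derived functor
(with unit `β` on the level of complexes).  Objectwise:
* `exists_triangle`: `RG` sends distinguished triangles to distinguished triangles;
* `nonempty_shift_iso`: `RG` commutes with shifts;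
* `isGE_obj`: `RG` is left t-exact;
* `nonempty_homology_single_iso`: `H^k(RG(M[0])) ≅ R^k G(M)`.
-/

set_option autoImplicit false
set_option linter.style.haveILetI false
universe w w₁ w₂ v v' u u'
open CategoryTheory CategoryTheory.Limits CategoryTheory.Pretriangulated

namespace Groth.Agent.Lib.T2H2.RDerGen

open Groth.Agent.Lib.T2H1.SESTriangle Groth.Agent.Lib.T2H1.KhUnit DerivedCategory
  Groth.Agent.Lib.T2H2.RpushTri

variable {A : Type u} [Category.{v} A] [Abelian A] {B : Type u'} [Category.{v'} B] [Abelian B]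
  [IsGrothendieckAbelian.{w} B] [HasDerivedCategory.{w₁} A] [HasDerivedCategory.{w₂} B]
  (G : B ⥤ A) [G.Additive]
  (RG : DerivedCategory B ⥤ DerivedCategory A)
  (β : G.mapHomologicalComplex (ComplexShape.up ℤ) ⋙ DerivedCategory.Q ⟶
    DerivedCategory.Q ⋙ RG)
  [RG.IsRightDerivedFunctor β (HomologicalComplex.quasiIso B (ComplexShape.up ℤ))]

include β in
/-- `RG` sends distinguished triangles to distinguished triangles (objectwise). -/
theorem exists_triangle (T : Triangle (DerivedCategory B))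
    (hT : T ∈ distTriang (DerivedCategory B)) :
    ∃ (a : RG.obj T.obj₁ ⟶ RG.obj T.obj₂) (b : RG.obj T.obj₂ ⟶ RG.obj T.obj₃)
      (c : RG.obj T.obj₃ ⟶ (RG.obj T.obj₁)⟦(1 : ℤ)⟧),
      Triangle.mk a b c ∈ distTriang (DerivedCategory A) := by
  obtain ⟨I₁, hI₁, ⟨e₁⟩⟩ := exists_iso_Q_obj_isKInjective.{w} T.obj₁
  obtain ⟨I₂, hI₂, ⟨e₂⟩⟩ := exists_iso_Q_obj_isKInjective.{w} T.obj₂
  haveI := hI₁
  haveI := hI₂
  obtain ⟨φ, hφ⟩ := Groth.Agent.Lib.Helper17.KInj.exists_Q_map_eq (e₁.inv ≫ T.mor₁ ≫ e₂.hom)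
  haveI : (CochainComplex.mappingCone φ).IsKInjective :=
    Groth.Agent.Lib.Helper17.KInj.isKInjective_mappingCone φ
  let T' := Q.mapTriangle.obj (CochainComplex.mappingCone.triangle φ)
  have hT' : T' ∈ distTriang (DerivedCategory B) :=
    (mem_distTriang_iff T').2 ⟨_, _, φ, ⟨Iso.refl _⟩⟩
  have comm : T.mor₁ ≫ e₂.hom = e₁.hom ≫ T'.mor₁ := by
    change T.mor₁ ≫ e₂.hom = e₁.hom ≫ Q.map φ
    rw [hφ, Iso.hom_inv_id_assoc]
  let E := isoTriangleOfIso₁₂ T T' hT hT' e₁ e₂ comm
  let e₃ : T.obj₃ ≅ Q.obj (CochainComplex.mappingCone φ) := Triangle.π₃.mapIso E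
  let G' := G.mapHomologicalComplex (ComplexShape.up ℤ)
  let T'' := Q.mapTriangle.obj (CochainComplex.mappingCone.triangle (G'.map φ))
  have hT'' : T'' ∈ distTriang (DerivedCategory A) :=
    (mem_distTriang_iff T'').2 ⟨_, _, G'.map φ, ⟨Iso.refl _⟩⟩
  exact exists_triangle_of_isos T'' hT''
    (objIso₀.{w} G RG β I₁ e₁) (objIso₀.{w} G RG β I₂ e₂)
    (objIso₀.{w} G RG β (CochainComplex.mappingCone φ) e₃ ≪≫
      Q.mapIso (CochainComplex.mappingCone.mapHomologicalComplexIso φ G))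

include β in
/-- `RG` commutes with shifts (objectwise). -/
theorem nonempty_shift_iso (E : DerivedCategory B) (n : ℤ) :
    Nonempty (RG.obj (E⟦n⟧) ≅ (RG.obj E)⟦n⟧) := by
  obtain ⟨I, hI, ⟨e⟩⟩ := exists_iso_Q_obj_isKInjective.{w} E
  haveI := hI
  have e₀ := objIso₀.{w} G RG β I e
  have e₁ : E⟦n⟧ ≅ DerivedCategory.Q.obj (I⟦n⟧) :=
    (shiftFunctor _ n).mapIso e ≪≫ ((DerivedCategory.Q.commShiftIso n).app I).symm
  have e₂ := objIso₀.{w} G RG β (I⟦n⟧) e₁
  exact ⟨e₂ ≪≫ DerivedCategory.Q.mapIso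
      (((G.mapHomologicalComplex (ComplexShape.up ℤ)).commShiftIso n).app I) ≪≫
    (DerivedCategory.Q.commShiftIso n).app _ ≪≫ (shiftFunctor _ n).mapIso e₀.symm⟩

include β in
/-- `RG` is left t-exact. -/
theorem isGE_obj (E : DerivedCategory B) (a : ℤ) [E.IsGE a] : (RG.obj E).IsGE a := by
  obtain ⟨K, hK, ⟨e⟩⟩ := DerivedCategory.exists_iso_Q_obj_of_isGE E a
  haveI := hK
  obtain ⟨L, i, hi, hL, hL'⟩ := CochainComplex.Plus.modelCategoryQuillen.exists_quasiIso_injective K a
  haveI := hL'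
  haveI := hL
  haveI : L.IsKInjective := CochainComplex.isKInjective_of_injective L a
  haveI : IsIso (Q.map i) := by
    rw [isIso_Q_map_iff_quasiIso]
    exact hi
  let e' : E ≅ Q.obj L := e ≪≫ asIso (Q.map i)
  have e'' := objIso₀.{w} G RG β L e'
  haveI : CochainComplex.IsStrictlyGE ((G.mapHomologicalComplex (ComplexShape.up ℤ)).obj L) a := by
    rw [CochainComplex.isStrictlyGE_iff]
    intro j hj
    exact G.map_isZero (L.isZero_of_isStrictlyGE a j hj)
  exact DerivedCategory.TStructure.t.isGE_of_iso e''.symm a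

include β in
/-- `H^k(RG(M[0])) ≅ R^k G(M)`. -/
theorem nonempty_homology_single_iso [HasInjectiveResolutions B] (M : B) (k : ℕ) :
    Nonempty ((homologyFunctor A (k : ℤ)).obj (RG.obj ((singleFunctor B 0).obj M)) ≅
      (G.rightDerived k).obj M) := by
  let R : InjectiveResolution M := injectiveResolution M
  haveI : R.cochainComplex.IsKInjective := CochainComplex.isKInjective_of_injective _ 0
  haveI : IsIso (Q.map R.ι') := by
    rw [isIso_Q_map_iff_quasiIso]
    infer_instance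
  let e : (singleFunctor B 0).obj M ≅ Q.obj R.cochainComplex :=
    (singleFunctorIsoCompQ B 0).app M ≪≫ asIso (Q.map R.ι')
  have e1 := objIso₀.{w} G RG β R.cochainComplex e
  exact ⟨(homologyFunctor A (k : ℤ)).mapIso e1 ≪≫ (homologyFunctorFactors A (k : ℤ)).app _ ≪≫
    (HomologicalComplex.homologyFunctor A _ (k : ℤ)).mapIso
      (Groth.Agent.Lib.Helper23Bridge.extendMapIso G R.cocomplex ComplexShape.embeddingUpNat) ≪≫
    HomologicalComplex.extendHomologyIso _ ComplexShape.embeddingUpNat (j := k) (by simp) ≪≫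
    (R.isoRightDerivedObj G k).symm⟩

end Groth.Agent.Lib.T2H2.RDerGen
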