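import Mathlib
import Groth.Prelude.Def_TorSh
import Groth.Agent.Lib.Helper13PullbackUnit
import Groth.Agent.Lib.Helper18Cart1
import Groth.Agent.Lib.Helper2QCoh

/-!
# The sheaf of rational functions of an integral scheme (helper2, team 2)

Namespace `Groth.Agent.Lib.T2H2.RatFun`.  `KX X` is the direct image of the structure sheaf of `Spec` of the function field
`K = O_{X,η}` along `X.fromSpecStalk η`.

* `preimage_eq_top`, `preimage_eq_bot`: preimages of opens under `Spec K → X`.
* `kap U : K → Γ(KX X, U)`: the constant map; `kap_bijective` (for `η ∈ U`), `kap_res`, `kap_add`, `smul_kap`.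
* `subsingleton_of_notMem`, `res_injective`, `germ_injective`.
* `unitGerm`, `germ_kap`, `exists_smul_unitGerm`: the generic stalk of `KX X` is spanned by one element over `K`.
-/

set_option autoImplicit false
universe u
open CategoryTheory AlgebraicGeometry TopologicalSpace Opposite

namespace Groth.Agent.Lib.T2H2.RatFun

variable (X : Scheme.{u}) [IsIntegral X]

/-- the sheaf of rational functions, as the direct image of the structure sheaf of the spectrum of the
function field. -/
noncomputable abbrev KX : X.Modules :=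
  (Scheme.Modules.pushforward (X.fromSpecStalk (genericPoint X))).obj
    (Coh.structureModule (Spec (X.presheaf.stalk (genericPoint X))))

variable {X}

theorem preimage_eq_top {U : X.Opens} (h : genericPoint X ∈ U) :
    (X.fromSpecStalk (genericPoint X)) ⁻¹ᵁ U = ⊤ := by
  rw [eq_top_iff]
  intro y _
  have hy : (X.fromSpecStalk (genericPoint X)) y ∈ Set.range (X.fromSpecStalk (genericPoint X)) :=
    ⟨y, rfl⟩
  rw [Scheme.range_fromSpecStalk] at hy
  exact hy.mem_open U.2 h

theorem preimage_eq_bot {U : X.Opens} (h : genericPoint X ∉ U) :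
    (X.fromSpecStalk (genericPoint X)) ⁻¹ᵁ U = ⊥ := by
  rw [eq_bot_iff]
  intro y hy
  exfalso
  apply h
  exact ((genericPoint_spec X).mem_open_set_iff U.2).2 ⟨_, trivial, hy⟩

/-- the constant map from the function field to the sections of the sheaf of rational functions. -/
noncomputable def kap (U : X.Opens) : X.presheaf.stalk (genericPoint X) → Γ(KX X, U) := fun k =>
  (show Γ(Spec (X.presheaf.stalk (genericPoint X)), (X.fromSpecStalk (genericPoint X)) ⁻¹ᵁ U) from
    (Spec (X.presheaf.stalk (genericPoint X))).presheaf.map (homOfLE le_top).op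
      ((Scheme.ΓSpecIso (X.presheaf.stalk (genericPoint X))).inv k))


theorem presheaf_map_bijective_of_eq {T : Scheme.{u}} {A B : T.Opens} (h : A = B) (i : A ⟶ B) :
    Function.Bijective (T.presheaf.map i.op) := by
  subst h
  have : i = 𝟙 A := Subsingleton.elim _ _
  rw [this, op_id, T.presheaf.map_id]
  exact Function.bijective_id

theorem kap_bijective {U : X.Opens} (h : genericPoint X ∈ U) : Function.Bijective (kap U) := by
  have h1 : Function.Bijective ((Scheme.ΓSpecIso (X.presheaf.stalk (genericPoint X))).inv) :=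
    ConcreteCategory.bijective_of_isIso _
  have h2 : Function.Bijective ((Spec (X.presheaf.stalk (genericPoint X))).presheaf.map
      (homOfLE (le_top : (X.fromSpecStalk (genericPoint X)) ⁻¹ᵁ U ≤ ⊤)).op) :=
    presheaf_map_bijective_of_eq (preimage_eq_top h) _
  exact h2.comp h1

theorem kap_res {U W : X.Opens} (hWU : W ≤ U) (k : X.presheaf.stalk (genericPoint X)) :
    (KX X).presheaf.map (homOfLE hWU).op (kap U k) = kap W k := by
  change (Spec (X.presheaf.stalk (genericPoint X))).presheaf.map _ _ = _
  unfold kap
  rw [← ConcreteCategory.comp_apply, ← Functor.map_comp]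
  rfl

theorem kap_add (U : X.Opens) (k k' : X.presheaf.stalk (genericPoint X)) :
    kap U (k + k') = kap U k + kap U k' := by
  unfold kap
  rw [map_add, map_add]
  rfl

theorem smul_kap {U : X.Opens} (h : genericPoint X ∈ U) (r : Γ(X, U))
    (k : X.presheaf.stalk (genericPoint X)) :
    r • kap U k = kap U (X.presheaf.germ U (genericPoint X) h r * k) := by
  have h1 : (r • kap U k : Γ(KX X, U)) =
      (show Γ(Spec (X.presheaf.stalk (genericPoint X)),
          (X.fromSpecStalk (genericPoint X)) ⁻¹ᵁ U) from
        ((X.fromSpecStalk (genericPoint X)).app U r) *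
          (Spec (X.presheaf.stalk (genericPoint X))).presheaf.map (homOfLE le_top).op
            ((Scheme.ΓSpecIso (X.presheaf.stalk (genericPoint X))).inv k)) := rfl
  rw [h1, Scheme.fromSpecStalk_app h]
  unfold kap
  rw [map_mul, map_mul]
  rfl


theorem subsingleton_of_notMem {U : X.Opens} (h : genericPoint X ∉ U) :
    Subsingleton Γ(KX X, U) := by
  change Subsingleton Γ(Spec (X.presheaf.stalk (genericPoint X)),
    (X.fromSpecStalk (genericPoint X)) ⁻¹ᵁ U)
  rw [preimage_eq_bot h]
  infer_instance

theorem res_injective {U W : X.Opens} (hWU : W ≤ U) (hW : genericPoint X ∈ W) :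
    Function.Injective ((KX X).presheaf.map (homOfLE hWU).op) := by
  intro a b hab
  obtain ⟨k, rfl⟩ := (kap_bijective (hWU hW)).2 a
  obtain ⟨k', rfl⟩ := (kap_bijective (hWU hW)).2 b
  rw [kap_res, kap_res] at hab
  rw [(kap_bijective hW).1 hab]

theorem germ_injective {U : X.Opens} (hU : genericPoint X ∈ U) :
    Function.Injective ((KX X).presheaf.germ U (genericPoint X) hU) := by
  intro a b hab
  obtain ⟨W, hW, i₁, i₂, h⟩ := (KX X).presheaf.germ_eq _ hU hU a b hab
  have h12 : i₂ = i₁ := Subsingleton.elim _ _
  subst h12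
  have h1 : i₂ = homOfLE (leOfHom i₂) := Subsingleton.elim _ _
  rw [h1] at h
  exact res_injective (leOfHom i₂) hW h

/-- the germ at the generic point of the unit rational function. -/
noncomputable def unitGerm : (KX X).presheaf.stalk (genericPoint X) :=
  (KX X).presheaf.germ ⊤ (genericPoint X) trivial (kap ⊤ 1)

theorem germ_kap {U : X.Opens} (h : genericPoint X ∈ U) (k : X.presheaf.stalk (genericPoint X)) :
    (KX X).presheaf.germ U (genericPoint X) h (kap U k) = k • unitGerm := by
  obtain ⟨W, hW, t, rfl⟩ := X.presheaf.exists_germ_eq k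
  set W' := U ⊓ W with hW'
  have hηW' : genericPoint X ∈ W' := ⟨h, hW⟩
  have e1 : (KX X).presheaf.germ U (genericPoint X) h (kap U (X.presheaf.germ W _ hW t)) =
      (KX X).presheaf.germ W' (genericPoint X) hηW' (kap W' (X.presheaf.germ W _ hW t)) := by
    rw [← kap_res (inf_le_left : W' ≤ U)]
    exact (TopCat.Presheaf.germ_res_apply (KX X).presheaf (homOfLE inf_le_left) _ hηW' _).symm
  have e2 : (unitGerm : (KX X).presheaf.stalk (genericPoint X)) =
      (KX X).presheaf.germ W' (genericPoint X) hηW' (kap W' 1) := by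
    unfold unitGerm
    rw [← kap_res (le_top : W' ≤ ⊤)]
    exact (TopCat.Presheaf.germ_res_apply (KX X).presheaf (homOfLE le_top) _ hηW' _).symm
  have e3 : X.presheaf.germ W (genericPoint X) hW t =
      X.presheaf.germ W' (genericPoint X) hηW' (X.presheaf.map (homOfLE inf_le_right).op t) :=
    (TopCat.Presheaf.germ_res_apply X.presheaf (homOfLE inf_le_right) _ hηW' t).symm
  rw [e1, e2]
  conv_rhs => rw [e3]
  rw [← Groth.Agent.Lib.Helper2.QCoh.germ_smul, smul_kap hηW', mul_one, ← e3]

theorem exists_smul_unitGerm (v : (KX X).presheaf.stalk (genericPoint X)) :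
    ∃ c : X.presheaf.stalk (genericPoint X), c • unitGerm = v := by
  obtain ⟨U, hU, s, rfl⟩ := (KX X).presheaf.exists_germ_eq v
  obtain ⟨k, rfl⟩ := (kap_bijective hU).2 s
  exact ⟨k, (germ_kap hU k).symm⟩

end Groth.Agent.Lib.T2H2.RatFun
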