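import Groth.Agent.Lib.T2H2RatFun
import Groth.Agent.Lib.Helper23StalkLin
import Groth.Agent.Lib.Helper23UnitStalk
import Groth.Agent.S2288

/-!
# Torsion-freeness of the sheaf of rational functions and of its submodules (helper2, team 2)

Namespace `Groth.Agent.Lib.T2H2.RatFun`.

* `isTorsionFree_structureModule`, `isDominant_fromSpecStalk_genericPoint`, `isTorsionFree_KX`.
* `isTorsionFree_of_mono`: a submodule of a torsion-free module is torsion-free.
* `eq_zero_of_subsingleton_stalk`: a morphism to the sheaf of rational functions vanishes if the generic stalk of the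
  source is trivial.
-/

set_option autoImplicit false
universe u
open TorSh
open AlgebraicGeometry CategoryTheory

namespace Groth.Agent.Lib.T2H2.RatFun
open Groth.Agent.Lib.Helper4.NormDelta Groth.Agent.Lib.Helper23.StalkLin

theorem isTorsionFree_structureModule (Y : Scheme.{u}) [IsIntegral Y] :
    TorSh.IsTorsionFree (Coh.structureModule Y) := by
  intro y
  let e := Groth.Agent.Lib.Helper23.UnitStalk.unitStalkEquiv y
  exact Function.Injective.moduleIsTorsionFree e.symm e.symm.injective (fun r m => map_smul e.symm r m)

theorem isDominant_fromSpecStalk_genericPoint (X : Scheme.{u}) [IsIntegral X] :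
    IsDominant (X.fromSpecStalk (genericPoint X)) := by
  constructor
  rw [DenseRange, Scheme.range_fromSpecStalk]
  intro x
  have hη : genericPoint X ∈ {y | y ⤳ genericPoint X} := specializes_rfl
  exact closure_mono (Set.singleton_subset_iff.mpr hη) (genericPoint_specializes x).mem_closure

theorem isTorsionFree_KX (X : Scheme.{u}) [IsIntegral X] : TorSh.IsTorsionFree (KX X) := by
  have := isDominant_fromSpecStalk_genericPoint X
  exact Groth.Agent.S2288.result (X.fromSpecStalk (genericPoint X)) _
    (isTorsionFree_structureModule _)

theorem isTorsionFree_of_mono {X : Scheme.{u}} {G N : X.Modules} (i : G ⟶ N) [Mono i]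
    (hN : TorSh.IsTorsionFree N) : TorSh.IsTorsionFree G := by
  intro x
  have := hN x
  exact Function.Injective.moduleIsTorsionFree (stalkLin i x) (stalkLin_injective i x)
    (fun r m => map_smul (stalkLin i x) r m)


theorem eq_zero_of_subsingleton_stalk {X : Scheme.{u}} [IsIntegral X] {G : X.Modules}
    (i : G ⟶ KX X) (h : Subsingleton (G.presheaf.stalk (genericPoint X))) : i = 0 := by
  ext U s
  change Scheme.Modules.Hom.app i U s = 0
  by_cases hU : genericPoint X ∈ U
  · have h1 : (KX X).presheaf.germ U (genericPoint X) hU (Scheme.Modules.Hom.app i U s) = 0 := by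
      rw [← stalkLin_germ, Subsingleton.elim (G.presheaf.germ U (genericPoint X) hU s) 0, map_zero]
    apply germ_injective hU
    rw [h1, map_zero]
  · have := subsingleton_of_notMem hU
    exact Subsingleton.elim _ _


end Groth.Agent.Lib.T2H2.RatFun
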