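import Mathlib
import Groth.Prelude.Def_GSzCSA
import Groth.Agent.Lib.LeadRedNrmC
import Groth.Agent.Lib.LeadCSA
import Groth.Agent.Lib.Helper23GalDescent

/-!
# Reduced norms and Galois actions

For a central simple `k`-algebra `A`, a finite Galois extension `K/k`, the reduced norm `NK` of
`K ⊗ A` over `K` is Galois equivariant and restricts to the reduced norm `N` of `A` on `1 ⊗ A`.
-/

namespace Groth.Agent.Lib.T2H2.RedNormGal

open scoped TensorProduct

attribute [local instance] CSAGal.tensorAction GpH1.unitsAction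

universe u v w

variable {k : Type u} [Field k] {K : Type v} [Field K] [Algebra k K] [FiniteDimensional k K]
  {A : Type w} [Ring A] [Algebra k A] [Algebra.IsCentral k A] [IsSimpleRing A]
  [FiniteDimensional k A]

theorem normal_algebraicClosure : Normal k (AlgebraicClosure K) :=
  { toIsAlgebraic := Algebra.IsAlgebraic.trans k K (AlgebraicClosure K)
    splits' := fun _ => IsAlgClosed.splits _ }

/-- the reduced norm of `K ⊗ A` is Galois equivariant -/
theorem redNorm_smul (NK : (K ⊗[k] A) →* K) (hNK : CSAGal.IsRedNorm K (K ⊗[k] A) NK)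
    (σ : K ≃ₐ[k] K) (t : K ⊗[k] A) : NK (σ • t) = σ (NK t) := by
  have hcen : Algebra.IsCentral K (K ⊗[k] A) := Groth.Agent.Lib.LeadCSA.isCentral_baseChange K
  have hsim : IsSimpleRing (K ⊗[k] A) := Groth.Agent.Lib.LeadCSA.isSimpleRing_baseChange K
  have hfin : FiniteDimensional K (K ⊗[k] A) := inferInstance
  have hnorm : Normal k (AlgebraicClosure K) := normal_algebraicClosure
  obtain ⟨n, ρ, -, hρ⟩ := Groth.Agent.Lib.LeadRedNrm.exists_rep_of_isRedNorm
    (L := AlgebraicClosure K) NK hNK
  let τ : AlgebraicClosure K ≃ₐ[k] AlgebraicClosure K := σ.liftNormal (AlgebraicClosure K)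
  have hτ : ∀ x : K, τ (algebraMap K (AlgebraicClosure K) x) =
      algebraMap K (AlgebraicClosure K) (σ x) := fun x => σ.liftNormal_commutes _ x
  let f : (K ⊗[k] A) →+* Matrix (Fin n) (Fin n) (AlgebraicClosure K) :=
    ((τ.symm : AlgebraicClosure K →+* AlgebraicClosure K).mapMatrix).comp
      ((ρ : (K ⊗[k] A) →+* Matrix (Fin n) (Fin n) (AlgebraicClosure K)).comp
        (MulSemiringAction.toRingHom (K ≃ₐ[k] K) (K ⊗[k] A) σ))
  have hf : ∀ t, f t = (τ.symm : AlgebraicClosure K →+* AlgebraicClosure K).mapMatrix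
      (ρ (σ • t)) := fun t => rfl
  let ρ' : (K ⊗[k] A) →ₐ[K] Matrix (Fin n) (Fin n) (AlgebraicClosure K) :=
    { f with
      commutes' := by
        intro c
        show f (algebraMap K (K ⊗[k] A) c) = _
        rw [hf]
        have h1 : σ • (algebraMap K (K ⊗[k] A) c) = algebraMap K (K ⊗[k] A) (σ c) := by
          rw [Algebra.TensorProduct.algebraMap_apply, Algebra.TensorProduct.algebraMap_apply,
            TensorProduct.smul_tmul']
          rfl
        rw [h1, AlgHom.commutes]
        ext i j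
        rw [RingHom.mapMatrix_apply, Matrix.map_apply, Matrix.algebraMap_matrix_apply,
          Matrix.algebraMap_matrix_apply]
        split_ifs
        · show τ.symm (algebraMap K (AlgebraicClosure K) (σ c)) = _
          rw [← hτ, AlgEquiv.symm_apply_apply]
        · exact map_zero _ }
  have hρ' : ∀ t, ρ' t = (τ.symm : AlgebraicClosure K →+* AlgebraicClosure K).mapMatrix
      (ρ (σ • t)) := fun t => rfl
  have hdet := Groth.Agent.Lib.LeadRedNrm.det_eq_of_algHom (k := K) ρ ρ' t
  rw [hρ', ← RingHom.map_det, ← hρ, ← hρ] at hdet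
  have h2 : τ (algebraMap K (AlgebraicClosure K) (NK t)) =
      algebraMap K (AlgebraicClosure K) (NK (σ • t)) := by
    rw [hdet]
    show τ (τ.symm _) = _
    rw [AlgEquiv.apply_symm_apply]
  rw [hτ] at h2
  exact ((algebraMap K (AlgebraicClosure K)).injective h2).symm

/-- the reduced norm of `K ⊗ A` restricts to the reduced norm of `A` -/
theorem redNorm_one_tmul (N : A →* k) (hN : CSAGal.IsRedNorm k A N)
    (NK : (K ⊗[k] A) →* K) (hNK : CSAGal.IsRedNorm K (K ⊗[k] A) NK) (x : A) :
    NK ((1 : K) ⊗ₜ[k] x) = algebraMap k K (N x) := by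
  obtain ⟨n, ρ, hn, hρ⟩ := Groth.Agent.Lib.LeadRedNrm.exists_rep_of_isRedNorm
    (L := AlgebraicClosure K) NK hNK
  obtain ⟨n', ρ', hn', hρ'⟩ := Groth.Agent.Lib.LeadRedNrm.exists_rep_of_isRedNorm
    (L := AlgebraicClosure K) N hN
  have hdim : Module.finrank K (K ⊗[k] A) = Module.finrank k A := Module.finrank_baseChange
  have hnn : n = n' := by
    rw [hdim, ← hn'] at hn
    simp only [Fintype.card_fin] at hn
    exact Nat.pow_left_injective (by norm_num : (2 : ℕ) ≠ 0) hn
  subst hnn
  let ρ₂ : A →ₐ[k] Matrix (Fin n) (Fin n) (AlgebraicClosure K) :=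
    (ρ.restrictScalars k).comp Algebra.TensorProduct.includeRight
  have hdet := Groth.Agent.Lib.LeadRedNrm.det_eq_of_algHom (k := k) ρ₂ ρ' x
  have h1 : ρ₂ x = ρ ((1 : K) ⊗ₜ[k] x) := rfl
  rw [h1, ← hρ, ← hρ', IsScalarTower.algebraMap_apply k K (AlgebraicClosure K)] at hdet
  exact (algebraMap K (AlgebraicClosure K)).injective hdet

end Groth.Agent.Lib.T2H2.RedNormGal
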