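import Mathlib

/-!
# Regular local rings of dimension at most one (helper2, team 2)

Namespace `Groth.Agent.Lib.T2H2.RegDimOne`.

* `isPrincipalIdealRing_of_regular_dim_le_one`: a regular local domain of Krull dimension `≤ 1` is a
  principal ideal ring (a field or a discrete valuation ring).
* `flat_of_regular_dim_le_one_of_isTorsionFree`: over such a ring torsion-free modules are flat.
-/

set_option autoImplicit false

namespace Groth.Agent.Lib.T2H2.RegDimOne

theorem isPrincipalIdealRing_of_regular_dim_le_one (A : Type*) [CommRing A] [IsDomain A]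
    (hreg : IsRegularLocalRing A) (hdim : ringKrullDim A ≤ 1) : IsPrincipalIdealRing A := by
  have h1 : (Module.finrank (IsLocalRing.ResidueField A) (IsLocalRing.CotangentSpace A) : WithBot ℕ∞)
      = ringKrullDim A := (IsRegularLocalRing.iff_finrank_cotangentSpace A).1 hreg
  have h2 : Module.finrank (IsLocalRing.ResidueField A) (IsLocalRing.CotangentSpace A) ≤ 1 := by
    have : (Module.finrank (IsLocalRing.ResidueField A) (IsLocalRing.CotangentSpace A) : WithBot ℕ∞)
        ≤ ((1 : ℕ) : WithBot ℕ∞) := by rw [h1]; exact_mod_cast hdim
    exact_mod_cast this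
  exact ((tfae_of_isNoetherianRing_of_isLocalRing_of_isDomain A).out 5 0).1 h2

theorem flat_of_regular_dim_le_one_of_isTorsionFree (A : Type*) [CommRing A] [IsDomain A]
    (hreg : IsRegularLocalRing A) (hdim : ringKrullDim A ≤ 1) (M : Type*) [AddCommGroup M]
    [Module A M] [Module.IsTorsionFree A M] : Module.Flat A M := by
  have := isPrincipalIdealRing_of_regular_dim_le_one A hreg hdim
  infer_instance

end Groth.Agent.Lib.T2H2.RegDimOne
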