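import Groth.Agent.S15821
import Groth.Agent.Lib.Helper5RegImmAlg
import Groth.Agent.Lib.Helper5StalkSpec
import Groth.Agent.Lib.T2H2StalkLoc

/-!
# Surjections of regular rings have Koszul-regular kernels (helper2, team 2)

Namespace `Groth.Agent.Lib.T2H2.RegLCI`.

* `regOn_map_unit_mul`, `ofList_map_unit_mul`: multiplying every member of a list by a fixed unit changes neither
  weak regularity nor the generated ideal.
* `exists_list_lift`: a list in a localization is, up to a common unit factor, the image of a list of the ring.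
* `surjective_localRingHom`: `Localization.localRingHom` of a surjection is surjective.
* `isKoszulRegularIdeal_ker`: the kernel of a surjection of regular rings is a Koszul-regular ideal.
* `isRegularRing_of_stalks`: sections over an affine open of a locally Noetherian scheme with regular stalks.
-/

set_option autoImplicit false
universe u
open CategoryTheory AlgebraicGeometry RingTheory.Sequence

namespace Groth.Agent.Lib.T2H2.RegLCI
open Groth.Agent.Lib.Helper5.RegSeq

theorem regOn_map_unit_mul {R : Type*} [CommRing R] (u : R) (hu : IsUnit u) (I : Ideal R) (rs : List R) :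
    RegOn I (rs.map (fun r => u * r)) ↔ RegOn I rs := by
  induction rs generalizing I with
  | nil => simp
  | cons r rs ih =>
    rw [List.map_cons, regOn_cons, regOn_cons, Ideal.span_singleton_mul_left_unit hu, ih]
    refine and_congr ⟨fun H c hc => ?_, fun H c hc => ?_⟩ Iff.rfl
    · apply H
      have : c * (u * r) = u * (c * r) := by ring
      rw [this]
      exact I.mul_mem_left _ hc
    · have h1 : c * u * r ∈ I := by
        have : c * u * r = c * (u * r) := by ring
        rw [this]
        exact hc
      exact (Ideal.mul_unit_mem_iff_mem _ hu).mp (H _ h1)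

theorem ofList_map_unit_mul {R : Type*} [CommRing R] (u : R) (hu : IsUnit u) (rs : List R) :
    Ideal.ofList (rs.map (fun r => u * r)) = Ideal.ofList rs := by
  induction rs with
  | nil => simp
  | cons r rs ih =>
    rw [List.map_cons, Ideal.ofList_cons, Ideal.ofList_cons, ih, Ideal.span_singleton_mul_left_unit hu]

theorem exists_list_lift {R S : Type*} [CommRing R] (M : Submonoid R) [CommRing S] [Algebra R S]
    [IsLocalization M S] (rs : List S) :
    ∃ (b : M) (as : List R),
      as.map (algebraMap R S) = rs.map (fun r => algebraMap R S b * r) := by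
  induction rs with
  | nil => exact ⟨1, [], rfl⟩
  | cons r rs ih =>
    obtain ⟨b, as, has⟩ := ih
    obtain ⟨⟨a, s⟩, hs⟩ := IsLocalization.surj M r
    refine ⟨b * s, (b * a) :: as.map (fun x => (s : R) * x), ?_⟩
    rw [List.map_cons, List.map_cons, List.map_map]
    congr 1
    · have hs' : r * algebraMap R S (s : R) = algebraMap R S a := hs
      rw [map_mul, ← hs', Submonoid.coe_mul, map_mul]
      ring
    · have h1 : (algebraMap R S ∘ fun x => (s : R) * x)
          = (fun y => algebraMap R S s * y) ∘ algebraMap R S := by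
        funext x
        simp
      rw [h1, ← List.map_map, has, List.map_map]
      apply List.map_congr_left
      intro x _
      simp only [Function.comp_apply, Submonoid.coe_mul, map_mul]
      ring

theorem surjective_localRingHom {R S : Type u} [CommRing R] [CommRing S] (f : R →+* S)
    (h : Function.Surjective f) (I : Ideal R) [I.IsPrime] (J : Ideal S) [J.IsPrime]
    (hIJ : I = J.comap f) : Function.Surjective (Localization.localRingHom I J f hIJ) := by
  subst hIJ
  exact RingHom.surjective_localRingHom_of_surjective f h J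

/-- The kernel of a surjection of regular rings is a Koszul-regular ideal. -/
theorem isKoszulRegularIdeal_ker {P B : Type u} [CommRing P] [CommRing B] [IsRegularRing P]
    [IsRegularRing B] (π : P →+* B) (hπ : Function.Surjective π) :
    LCI.IsKoszulRegularIdeal (RingHom.ker π) := by
  intro 𝔭 h𝔭
  have hq : (𝔭.asIdeal.map π).IsPrime := Ideal.map_isPrime_of_surjective hπ h𝔭
  have hcomap : 𝔭.asIdeal = (𝔭.asIdeal.map π).comap π := by
    rw [Ideal.comap_map_of_surjective π hπ, ← RingHom.ker_eq_comap_bot, sup_eq_left.mpr h𝔭]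
  obtain ⟨𝔮, h𝔮⟩ : ∃ 𝔮 : Ideal B, 𝔮 = 𝔭.asIdeal.map π := ⟨_, rfl⟩
  have hq' : 𝔮.IsPrime := h𝔮 ▸ hq
  have hcomap' : 𝔭.asIdeal = 𝔮.comap π := h𝔮 ▸ hcomap
  have hsurj := surjective_localRingHom π hπ 𝔭.asIdeal 𝔮 hcomap'
  obtain ⟨rs, hreg, hker⟩ := Groth.Agent.Lib.Helper5.RegImmAlg.exists_regular_ker_of_surjective
    (Localization.localRingHom 𝔭.asIdeal 𝔮 π hcomap') hsurj
  have hkermap : RingHom.ker (Localization.localRingHom 𝔭.asIdeal 𝔮 π hcomap')
      = (RingHom.ker π).map (algebraMap P (Localization.AtPrime 𝔭.asIdeal)) := by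
    apply le_antisymm
    · intro a' ha'
      rw [RingHom.mem_ker] at ha'
      obtain ⟨⟨b, s⟩, hbs⟩ := IsLocalization.surj 𝔭.asIdeal.primeCompl a'
      have hbs' : a' * algebraMap P (Localization.AtPrime 𝔭.asIdeal) s
          = algebraMap P (Localization.AtPrime 𝔭.asIdeal) b := hbs
      have hs : IsUnit (algebraMap P (Localization.AtPrime 𝔭.asIdeal) (s : P)) :=
        IsLocalization.map_units _ s
      have h0 : algebraMap B (Localization.AtPrime 𝔮) (π b) = 0 := by
        rw [← Localization.localRingHom_to_map 𝔭.asIdeal 𝔮 π hcomap', ← hbs', map_mul, ha', zero_mul]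
      rw [IsLocalization.map_eq_zero_iff 𝔮.primeCompl (Localization.AtPrime 𝔮)] at h0
      obtain ⟨t, ht⟩ := h0
      obtain ⟨s', hs'⟩ := hπ t
      have hmem : s' * b ∈ RingHom.ker π := by
        rw [RingHom.mem_ker, map_mul, hs', ht]
      have hs'p : s' ∉ 𝔭.asIdeal := by
        rw [hcomap', Ideal.mem_comap, hs']
        exact t.2
      have hu : IsUnit (algebraMap P (Localization.AtPrime 𝔭.asIdeal) s') :=
        IsLocalization.map_units _ (⟨s', hs'p⟩ : 𝔭.asIdeal.primeCompl)
      have h1 : algebraMap P (Localization.AtPrime 𝔭.asIdeal) s' *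
          algebraMap P (Localization.AtPrime 𝔭.asIdeal) b
          ∈ (RingHom.ker π).map (algebraMap P (Localization.AtPrime 𝔭.asIdeal)) := by
        rw [← map_mul]
        exact Ideal.mem_map_of_mem _ hmem
      have h2 := (Ideal.unit_mul_mem_iff_mem _ hu).mp h1
      rw [← hbs'] at h2
      exact (Ideal.mul_unit_mem_iff_mem _ hs).mp h2
    · rw [Ideal.map_le_iff_le_comap]
      intro a ha
      rw [RingHom.mem_ker] at ha
      rw [Ideal.mem_comap, RingHom.mem_ker, Localization.localRingHom_to_map, ha, map_zero]
  obtain ⟨b, as, has⟩ := exists_list_lift 𝔭.asIdeal.primeCompl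
    (S := Localization.AtPrime 𝔭.asIdeal) rs
  have hbu : IsUnit (algebraMap P (Localization.AtPrime 𝔭.asIdeal) (b : P)) :=
    IsLocalization.map_units _ b
  have hmapI : (RingHom.ker π).map (algebraMap P (Localization.AtPrime 𝔭.asIdeal))
      = (Ideal.ofList as).map (algebraMap P (Localization.AtPrime 𝔭.asIdeal)) := by
    rw [Ideal.map_ofList, has, ofList_map_unit_mul _ hbu, ← hker, hkermap]
  have hregOn : RegOn ((⊥ : Ideal P).map (algebraMap P (Localization.AtPrime 𝔭.asIdeal)))
      (as.map (algebraMap P (Localization.AtPrime 𝔭.asIdeal))) := by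
    rw [Ideal.map_bot, has, regOn_map_unit_mul _ hbu]
    exact (isWeaklyRegular_iff_regOn rs).mp hreg.toIsWeaklyRegular
  obtain ⟨g₁, hg₁, H₁⟩ := exists_notMem_forall_map_le.{u, u} 𝔭.asIdeal
    (Localization.AtPrime 𝔭.asIdeal) (IsNoetherian.noetherian (RingHom.ker π)) hmapI.le
  obtain ⟨g₂, hg₂, H₂⟩ := exists_notMem_forall_map_le.{u, u} 𝔭.asIdeal
    (Localization.AtPrime 𝔭.asIdeal) (IsNoetherian.noetherian (Ideal.ofList as)) hmapI.ge
  obtain ⟨g₃, hg₃, H₃⟩ := exists_notMem_forall_regOn.{u, u} 𝔭.asIdeal
    (Localization.AtPrime 𝔭.asIdeal) as ⊥ hregOn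
  obtain ⟨f, hf⟩ : ∃ f, f = g₁ * g₂ * g₃ := ⟨_, rfl⟩
  have hfp : f ∉ 𝔭.asIdeal := by
    rw [hf]
    intro hmem
    rcases Ideal.IsPrime.mem_or_mem inferInstance hmem with h1 | h1
    · rcases Ideal.IsPrime.mem_or_mem inferInstance h1 with h2 | h2
      · exact hg₁ h2
      · exact hg₂ h2
    · exact hg₃ h1
  have hfu : IsUnit (algebraMap P (Localization.Away f) f) :=
    IsLocalization.Away.algebraMap_isUnit f
  have hfu' : IsUnit (algebraMap P (Localization.Away f) g₁ *
      algebraMap P (Localization.Away f) g₂ * algebraMap P (Localization.Away f) g₃) := by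
    rw [← map_mul, ← map_mul, ← hf]
    exact hfu
  have hu₃ : IsUnit (algebraMap P (Localization.Away f) g₃) := isUnit_of_mul_isUnit_right hfu'
  have hu₁₂ := isUnit_of_mul_isUnit_left hfu'
  have hu₁ : IsUnit (algebraMap P (Localization.Away f) g₁) := isUnit_of_mul_isUnit_left hu₁₂
  have hu₂ : IsUnit (algebraMap P (Localization.Away f) g₂) := isUnit_of_mul_isUnit_right hu₁₂
  have hw : IsWeaklyRegular (Localization.Away f) (as.map (algebraMap P (Localization.Away f))) := by
    rw [isWeaklyRegular_iff_regOn]
    have := H₃ (Submonoid.powers f) (Localization.Away f) hu₃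
    rw [Ideal.map_bot] at this
    exact this
  refine ⟨f, hfp, as.map (algebraMap P (Localization.Away f)),
    (Groth.Agent.S15821.result _ _ hw).1, ?_⟩
  have h2 : (RingHom.ker π).map (algebraMap P (Localization.Away f))
      = (Ideal.ofList as).map (algebraMap P (Localization.Away f)) :=
    le_antisymm (H₁ _ hu₁) (H₂ _ hu₂)
  rw [h2, Ideal.map_ofList]

/-- Sections over an affine open of a locally Noetherian scheme with regular stalks form a regular ring. -/
theorem isRegularRing_of_stalks {X : Scheme.{u}} [IsLocallyNoetherian X] {U : X.Opens}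
    (hU : IsAffineOpen U) (hX : ∀ x : X, IsRegularLocalRing (X.presheaf.stalk x)) :
    IsRegularRing Γ(X, U) := by
  have : IsNoetherianRing Γ(X, U) := IsLocallyNoetherian.component_noetherian ⟨U, hU⟩
  rw [isRegularRing_iff]
  intro p hp
  obtain ⟨e⟩ := Groth.Agent.Lib.T2H2.StalkLoc.nonempty_stalk_fromSpec_ringEquiv hU ⟨p, hp⟩
  have := hX (hU.fromSpec ⟨p, hp⟩)
  exact IsRegularLocalRing.of_ringEquiv e

end Groth.Agent.Lib.T2H2.RegLCI
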