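import Mathlib
import Groth.Prelude.Def_Mor2
import Groth.Agent.Lib.T2H2RegImmRestrict
import Groth.Agent.Lib.T2H2DvrSlice
import Groth.Agent.Lib.T2H2CMSlice
import Groth.Agent.S9725

/-!
# Sections of smooth morphisms are regular closed immersions (helper2, team 2)

Namespace `Groth.Agent.Lib.T2H2.RegSection`.

For `f : X ⟶ S` smooth and an immersion `σ : T ⟶ X` with `σ ≫ f` an open immersion (a local section),
we prove by induction on the dimension of the fibre local ring at `σ t` that, up to open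
immersions, `σ` is a regular closed immersion near `t` (`SecConcl`), slicing with an element of the
kernel of the section whose differential is nonzero (`S9725`).  For a closed immersion this gives
regularity at `t` (`regAt_of_secConcl`).
-/

set_option autoImplicit false
universe u

namespace Groth.Agent.Lib.T2H2.RegSection

open AlgebraicGeometry CategoryTheory Limits RingTheory.Sequence TopologicalSpace IsLocalRing
open TensorProduct
open Groth.Agent.Lib.T2H2.RegImmRestrict Groth.Agent.Lib.T2H2.CMSlice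

/-- If the restriction of a closed immersion over an open is a regular closed immersion, the closed
immersion is regular at the points over that open. -/
theorem regAt_of_morphismRestrict {Y T : Scheme.{u}} (φ : Y ⟶ T) [IsClosedImmersion φ]
    (V : T.Opens)
    (h : Mor2.IsRegularClosedImmersion (φ ∣_ V)) (y : Y) (hy : φ y ∈ V) :
    ∃ (U : T.Opens) (hU : IsAffineOpen U), φ y ∈ U ∧ ∃ rs : List Γ(T, U),
      IsRegular Γ(T, U) rs ∧ φ.ker.ideal ⟨U, hU⟩ = Ideal.ofList rs := by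
  have hcl := h.1
  let z : ↥(φ ⁻¹ᵁ V) := ⟨y, hy⟩
  obtain ⟨U₁', hU₁', hzU₁', rs, hrs, hker⟩ := h.2 z
  have hU₁ : IsAffineOpen (V.ι ''ᵁ U₁') := hU₁'.image_of_isOpenImmersion V.ι
  have hyU : φ y ∈ V.ι ''ᵁ U₁' := by
    refine ⟨(φ ∣_ V) z, hzU₁', ?_⟩
    have : V.ι ((φ ∣_ V) z) = φ ((φ ⁻¹ᵁ V).ι z) := by
      rw [← Scheme.Hom.comp_apply, morphismRestrict_ι, Scheme.Hom.comp_apply]
    exact this
  have hkerEq : ∀ a : Γ(T, V.ι ''ᵁ U₁'), ((φ ∣_ V).app U₁').hom a = 0 ↔
      (φ.app (V.ι ''ᵁ U₁')).hom a = 0 := by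
    intro a
    have h1 := congr($(morphismRestrict_app φ V U₁') a)
    rw [CommRingCat.comp_apply] at h1
    have hinj : Function.Injective (Y.presheaf.map
        (eqToHom (image_morphismRestrict_preimage φ V U₁')).op).hom :=
      (ConcreteCategory.bijective_of_isIso _).1
    constructor
    · intro h0
      apply hinj
      rw [map_zero]
      exact h1.symm.trans h0
    · intro h0
      refine h1.trans ?_
      erw [h0, map_zero]
      try rfl
  refine ⟨V.ι ''ᵁ U₁', hU₁, hyU, rs, hrs, ?_⟩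
  have : φ.ker.ideal ⟨V.ι ''ᵁ U₁', hU₁⟩ = (φ ∣_ V).ker.ideal ⟨U₁', hU₁'⟩ := by
    ext a
    rw [Scheme.Hom.ker_apply, Scheme.Hom.ker_apply, RingHom.mem_ker]
    exact (hkerEq a).symm
  rw [this]
  exact hker

/-- The flexible conclusion: near `t`, `σ` is, up to open immersions, a regular closed immersion. -/
def SecConcl {X T : Scheme.{u}} (σ : T ⟶ X) (t : T) : Prop :=
  ∃ (W Z : Scheme.{u}) (j : W ⟶ X) (ι : Z ⟶ T) (i : Z ⟶ W), IsOpenImmersion j ∧ IsOpenImmersion ι ∧
    t ∈ Set.range ι ∧ Mor2.IsRegularClosedImmersion i ∧ i ≫ j = ι ≫ σ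

theorem regAt_of_secConcl {X T : Scheme.{u}} (σ : T ⟶ X) [IsClosedImmersion σ] (t : T)
    (H : SecConcl σ t) :
    ∃ (U : X.Opens) (hU : IsAffineOpen U), σ t ∈ U ∧ ∃ rs : List Γ(X, U),
      IsRegular Γ(X, U) rs ∧ σ.ker.ideal ⟨U, hU⟩ = Ideal.ofList rs := by
  obtain ⟨W, Z, j, ι, i, hj, hι, ⟨z₀, hz₀⟩, hi, hcomm⟩ := H
  have hpt : ∀ z : Z, j (i z) = σ (ι z) := by
    intro z
    have := congr($hcomm z)
    simpa only [Scheme.Hom.comp_apply] using this
  have hclosed : IsClosed (σ '' (Set.range ι)ᶜ) :=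
    σ.isClosedEmbedding.isClosedMap _ ι.isOpenEmbedding.isOpen_range.isClosed_compl
  let Vc : X.Opens := ⟨(σ '' (Set.range ι)ᶜ)ᶜ, hclosed.isOpen_compl⟩
  have hVc : ∀ t' : T, σ t' ∈ Vc ↔ t' ∈ Set.range ι := by
    intro t'
    change σ t' ∈ (σ '' (Set.range ι)ᶜ)ᶜ ↔ _
    rw [Set.mem_compl_iff, σ.isClosedEmbedding.injective.mem_set_image, Set.mem_compl_iff, not_not]
  let V : X.Opens := j.opensRange ⊓ Vc
  let W₁ : W.Opens := j ⁻¹ᵁ Vc
  have hi₁ : Mor2.IsRegularClosedImmersion (i ∣_ W₁) :=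
    isRegularClosedImmersion_morphismRestrict i hi W₁
  have hrW : Set.range (W₁.ι ≫ j) = Set.range V.ι := by
    rw [Scheme.Opens.range_ι]
    ext p
    simp only [Scheme.Hom.comp_apply, Set.mem_range]
    constructor
    · rintro ⟨w, rfl⟩
      exact ⟨⟨W₁.ι w, rfl⟩, w.2⟩
    · rintro ⟨⟨w, rfl⟩, hw⟩
      exact ⟨⟨w, hw⟩, rfl⟩
  have hrZ : Set.range ((i ⁻¹ᵁ W₁).ι ≫ ι) = Set.range (σ ⁻¹ᵁ V).ι := by
    rw [Scheme.Opens.range_ι]
    ext p
    simp only [Scheme.Hom.comp_apply, Set.mem_range]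
    constructor
    · rintro ⟨z, rfl⟩
      have hz : j (i ((i ⁻¹ᵁ W₁).ι z)) ∈ Vc := z.2
      refine ⟨⟨i ((i ⁻¹ᵁ W₁).ι z), (hpt _)⟩, ?_⟩
      rw [← hpt]; exact hz
    · rintro ⟨⟨w, hw⟩, hp⟩
      obtain ⟨z, rfl⟩ := (hVc p).mp hp
      refine ⟨⟨z, ?_⟩, rfl⟩
      change j (i z) ∈ Vc
      rw [hpt]; exact hp
  let eW := IsOpenImmersion.isoOfRangeEq (W₁.ι ≫ j) V.ι hrW
  let eZ := IsOpenImmersion.isoOfRangeEq ((i ⁻¹ᵁ W₁).ι ≫ ι) (σ ⁻¹ᵁ V).ι hrZ
  have heq : σ ∣_ V = eZ.inv ≫ (i ∣_ W₁) ≫ eW.hom := by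
    rw [Iso.eq_inv_comp, ← cancel_mono V.ι]
    simp only [Category.assoc]
    rw [morphismRestrict_ι, IsOpenImmersion.isoOfRangeEq_hom_fac,
      ← Category.assoc eZ.hom, IsOpenImmersion.isoOfRangeEq_hom_fac,
      ← Category.assoc (i ∣_ W₁), morphismRestrict_ι]
    simp only [Category.assoc]
    rw [hcomm]
  have hreg : Mor2.IsRegularClosedImmersion (σ ∣_ V) := by
    rw [heq]
    refine Groth.Agent.Lib.Helper5.RegImmComp.comp _ _ (isRegularClosedImmersion_of_isIso _) ?_
    exact Groth.Agent.Lib.Helper5.RegImmComp.comp _ _ hi₁ (isRegularClosedImmersion_of_isIso _)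
  have htV : σ t ∈ V := by
    rw [← hz₀]
    refine ⟨⟨i z₀, hpt z₀⟩, ?_⟩
    exact (hVc _).mpr ⟨z₀, rfl⟩
  exact regAt_of_morphismRestrict σ V hreg t htV

/-- The residue field extension at a point of a (local) section is trivial, hence separable. -/
theorem isSeparable_residueField_of_isOpenImmersion_comp {X S T : Scheme.{u}} (f : X ⟶ S)
    (σ : T ⟶ X) [IsOpenImmersion (σ ≫ f)] (t : T) :
    letI := (f.residueFieldMap (σ t)).hom.toAlgebra
    Algebra.IsSeparable (S.residueField (f (σ t))) (X.residueField (σ t)) := by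
  apply Groth.Agent.Lib.T2H2.DvrSlice.isSeparable_of_surjective
  intro a
  have hiso : IsIso ((σ ≫ f).residueFieldMap t) := inferInstance
  have hcomp := Scheme.residueFieldMap_comp σ f t
  obtain ⟨b, hb⟩ := (ConcreteCategory.bijective_of_isIso ((σ ≫ f).residueFieldMap t)).2
    ((σ.residueFieldMap t).hom a)
  refine ⟨b, ?_⟩
  apply (σ.residueFieldMap t).hom.injective
  rw [← hb, hcomp]
  rfl

/-- A smooth morphism whose fibre local ring at a point of a local section is a field is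
unramified at that point. -/
theorem formallyUnramified_stalkMap_of_map_eq {X S : Scheme.{u}} (f : X ⟶ S) [Smooth f] (x : X)
    (hsep : letI := (f.residueFieldMap x).hom.toAlgebra
      Algebra.IsSeparable (S.residueField (f x)) (X.residueField x))
    (hm : Ideal.map (f.stalkMap x).hom (maximalIdeal (S.presheaf.stalk (f x))) =
      maximalIdeal (X.presheaf.stalk x)) :
    (f.stalkMap x).hom.FormallyUnramified := by
  obtain ⟨_, ⟨S₀, hS₀, rfl⟩, hxS₀, -⟩ :=
    S.isBasis_affineOpens.exists_subset_of_mem_open (Set.mem_univ (f x)) isOpen_univ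
  obtain ⟨_, ⟨V, hV, rfl⟩, hxV, hVS⟩ :=
    X.isBasis_affineOpens.exists_subset_of_mem_open hxS₀ (S₀.2.preimage f.continuous)
  have hsmV := f.smooth_appLE hS₀ hV hVS
  let _ := (f.stalkMap x).hom.toAlgebra
  have : IsLocalHom (algebraMap ↑(S.presheaf.stalk (f x)) ↑(X.presheaf.stalk x)) :=
    inferInstanceAs (IsLocalHom (f.stalkMap x).hom)
  have heft : Algebra.EssFiniteType ↑(S.presheaf.stalk (f x)) ↑(X.presheaf.stalk x) :=
    Groth.Agent.Lib.T2H2.SliceSepSch.essFiniteType_stalkMap_of_chart f x hS₀ hV hVS hxV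
      (RingHom.FiniteType.of_finitePresentation hsmV.finitePresentation)
  have hsep' : Algebra.IsSeparable (ResidueField ↑(S.presheaf.stalk (f x)))
      (ResidueField ↑(X.presheaf.stalk x)) := by
    refine @Algebra.IsSeparable.of_equiv_equiv (S.residueField (f x)) (X.residueField x)
      (ResidueField ↑(S.presheaf.stalk (f x))) (ResidueField ↑(X.presheaf.stalk x)) _ _ _ _
      (f.residueFieldMap x).hom.toAlgebra _ (RingEquiv.refl _) (RingEquiv.refl _) ?_ hsep
    ext a
    obtain ⟨a, rfl⟩ := IsLocalRing.residue_surjective a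
    rfl
  exact Algebra.FormallyUnramified.of_map_maximalIdeal hm

/-- The base case: the fibre local ring is a field. -/
theorem secConcl_of_map_eq {X S T : Scheme.{u}} (f : X ⟶ S) [Smooth f] (σ : T ⟶ X)
    [IsImmersion σ] [IsOpenImmersion (σ ≫ f)] (t : T)
    (hm : Ideal.map (f.stalkMap (σ t)).hom (maximalIdeal (S.presheaf.stalk (f (σ t)))) =
      maximalIdeal (X.presheaf.stalk (σ t))) : SecConcl σ t := by
  have H := formallyUnramified_stalkMap_of_map_eq f (σ t)
    (isSeparable_residueField_of_isOpenImmersion_comp f σ t) hm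
  obtain ⟨U₀, hxU₀, hunr⟩ :=
    Groth.Agent.Lib.Helper20.EtLocal.exists_formallyUnramified_nbhd f (σ t) H
  have hopen : IsOpenImmersion ((σ ∣_ U₀) ≫ U₀.ι ≫ f) := by
    rw [← Category.assoc, morphismRestrict_ι, Category.assoc]
    infer_instance
  have het : Etale (σ ∣_ U₀) := Etale.of_comp (σ ∣_ U₀) (U₀.ι ≫ f)
  have hmono : Mono (σ ∣_ U₀) := by
    have : Mono ((σ ∣_ U₀) ≫ U₀.ι) := by
      rw [morphismRestrict_ι]; infer_instance
    exact mono_of_mono (σ ∣_ U₀) U₀.ι
  have hoi : IsOpenImmersion (σ ∣_ U₀) := IsOpenImmersion.of_flat_of_mono _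
  refine ⟨(σ ⁻¹ᵁ U₀ : Scheme.{u}), (σ ⁻¹ᵁ U₀ : Scheme.{u}), (σ ∣_ U₀) ≫ U₀.ι, (σ ⁻¹ᵁ U₀).ι, 𝟙 _,
    inferInstance, inferInstance, ?_, isRegularClosedImmersion_of_isIso _, ?_⟩
  · rw [Scheme.Opens.range_ι]
    exact hxU₀
  · rw [Category.id_comp, morphismRestrict_ι]

/-- Correcting an element with nonzero differential by an element of the base so that it lies in the
kernel of a retraction. -/
theorem exists_mem_ker_D_ne_zero {R P Q : Type u} [CommRing R] [CommRing P] [CommRing Q]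
    [IsLocalRing P] [Nontrivial Q] [Algebra R P] (ψ : P →+* Q)
    (hbij : Function.Bijective (ψ.comp (algebraMap R P))) (h₀ : P)
    (hd : (1 : ResidueField P) ⊗ₜ[P] KaehlerDifferential.D R P h₀ ≠ 0) :
    ∃ h ∈ maximalIdeal P, ψ h = 0 ∧
      (1 : ResidueField P) ⊗ₜ[P] KaehlerDifferential.D R P h ≠ 0 := by
  obtain ⟨b, hb⟩ := hbij.2 (ψ h₀)
  have hb' : ψ (algebraMap R P b) = ψ h₀ := hb
  refine ⟨h₀ - algebraMap R P b, ?_, ?_, ?_⟩
  · rw [mem_maximalIdeal, mem_nonunits_iff]
    intro hu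
    have := hu.map ψ
    rw [map_sub, hb', sub_self] at this
    exact not_isUnit_zero this
  · rw [map_sub, hb', sub_self]
  · rw [map_sub, Derivation.map_algebraMap, sub_zero]
    exact hd

/-- An element of the kernel of the local section with nonzero differential. -/
theorem exists_germ_ker_D_ne_zero {X S T : Scheme.{u}} (f : X ⟶ S) [Smooth f] (σ : T ⟶ X)
    [IsOpenImmersion (σ ≫ f)] (t : T)
    (hne : Ideal.map (f.stalkMap (σ t)).hom (maximalIdeal (S.presheaf.stalk (f (σ t)))) ≠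
      maximalIdeal (X.presheaf.stalk (σ t))) :
    ∃ h ∈ maximalIdeal (X.presheaf.stalk (σ t)), (σ.stalkMap t).hom h = 0 ∧
      letI := (f.stalkMap (σ t)).hom.toAlgebra
      (1 : IsLocalRing.ResidueField (X.presheaf.stalk (σ t))) ⊗ₜ[X.presheaf.stalk (σ t)]
        (KaehlerDifferential.D (S.presheaf.stalk (f (σ t))) (X.presheaf.stalk (σ t)) h) ≠ 0 := by
  set x := σ t with hx
  obtain ⟨_, ⟨S₀, hS₀, rfl⟩, hxS₀, -⟩ :=
    S.isBasis_affineOpens.exists_subset_of_mem_open (Set.mem_univ (f x)) isOpen_univ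
  obtain ⟨_, ⟨V, hV, rfl⟩, hxV, hVS⟩ :=
    X.isBasis_affineOpens.exists_subset_of_mem_open hxS₀ (S₀.2.preimage f.continuous)
  have hsmV := f.smooth_appLE hS₀ hV hVS
  have hW : Smooth ((⊤ : X.Opens).ι ≫ f) := inferInstance
  let _ := (f.stalkMap x).hom.toAlgebra
  have : IsLocalHom (algebraMap ↑(S.presheaf.stalk (f x)) ↑(X.presheaf.stalk x)) :=
    inferInstanceAs (IsLocalHom (f.stalkMap x).hom)
  have hfs : Algebra.FormallySmooth ↑(S.presheaf.stalk (f x)) ↑(X.presheaf.stalk x) :=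
    Groth.Agent.Lib.Helper20.FlatDesc.formallySmooth_stalkMap_of_nbhd f x ⊤ trivial
  have heft : Algebra.EssFiniteType ↑(S.presheaf.stalk (f x)) ↑(X.presheaf.stalk x) :=
    Groth.Agent.Lib.T2H2.SliceSepSch.essFiniteType_stalkMap_of_chart f x hS₀ hV hVS hxV
      (RingHom.FiniteType.of_finitePresentation hsmV.finitePresentation)
  have hsep' : letI := (f.residueFieldMap x).hom.toAlgebra
      Algebra.FormallySmooth (S.residueField (f x)) (X.residueField x) := by
    let _ := (f.residueFieldMap x).hom.toAlgebra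
    have := isSeparable_residueField_of_isOpenImmersion_comp f σ t
    have := Algebra.FormallyEtale.of_isSeparable (S.residueField (f x)) (X.residueField x)
    infer_instance
  obtain ⟨h₀, -, hd₀⟩ := Groth.Agent.Lib.T2H2.SliceSep.exists_mem_maximalIdeal_D_ne_zero
      (R := ↑(S.presheaf.stalk (f x))) (P := ↑(X.presheaf.stalk x)) hsep' hne.symm
  have hbij : Function.Bijective ((σ.stalkMap t).hom.comp
      (algebraMap ↑(S.presheaf.stalk (f x)) ↑(X.presheaf.stalk x))) := by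
    have h1 : (σ.stalkMap t).hom.comp (f.stalkMap x).hom = ((σ ≫ f).stalkMap t).hom := by
      rw [Scheme.Hom.stalkMap_comp]
      rfl
    have h2 : Function.Bijective ((σ ≫ f).stalkMap t).hom :=
      ConcreteCategory.bijective_of_isIso ((σ ≫ f).stalkMap t)
    rw [← h1] at h2
    exact h2
  exact exists_mem_ker_D_ne_zero (σ.stalkMap t).hom hbij h₀ hd₀

/-- If the germ of `h'` dies under the stalk map of `σ` at `t`, then near `t` the morphism `σ` factors
through the closed subscheme `V(h')`. -/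
theorem exists_lift_to_slice {X T : Scheme.{u}} (σ : T ⟶ X) (t : T) {U : X.Opens}
    (hU : IsAffineOpen U) (hxU : σ t ∈ U) (h' : Γ(X, U))
    (hzero : (σ.stalkMap t).hom ((X.presheaf.germ U (σ t) hxU).hom h') = 0) :
    ∃ (T₁ : T.Opens) (_ : t ∈ T₁)
      (τ : (T₁ : Scheme.{u}) ⟶ Spec (CommRingCat.of (Γ(X, U) ⧸ Ideal.span {h'}))),
      τ ≫ sliceMap hU h' = T₁.ι ≫ σ := by
  have hgerm : (T.presheaf.germ (σ ⁻¹ᵁ U) t hxU).hom ((σ.app U).hom h') = 0 := by
    rw [← hzero]
    exact (σ.germ_stalkMap_apply U t hxU h').symm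
  have hxU' : t ∈ σ ⁻¹ᵁ U := hxU
  obtain ⟨T₁', ht, iU, iV, hres⟩ := T.presheaf.germ_eq t hxU' hxU' ((σ.app U).hom h') 0
    (by rw [map_zero]; exact hgerm)
  let T₁ : T.Opens := T₁'
  have hle : T₁ ≤ σ ⁻¹ᵁ U := iU.le
  have hψ : (σ.appLE U T₁ hle).hom h' = 0 := by
    rw [map_zero] at hres
    exact hres
  let ψbar : Γ(X, U) ⧸ Ideal.span {h'} →+* Γ(T, T₁) :=
    Ideal.Quotient.lift (Ideal.span {h'}) (σ.appLE U T₁ hle).hom (by
      intro a ha
      obtain ⟨c, rfl⟩ := Ideal.mem_span_singleton'.mp ha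
      rw [map_mul, hψ, mul_zero])
  have hψbar : CommRingCat.ofHom (Ideal.Quotient.mk (Ideal.span {h'})) ≫ CommRingCat.ofHom ψbar =
      σ.appLE U T₁ hle := by
    ext a
    rfl
  refine ⟨T₁, ht, T₁.toSpecΓ ≫ Spec.map (CommRingCat.ofHom ψbar), ?_⟩
  unfold sliceMap
  rw [Category.assoc, ← Category.assoc (Spec.map (CommRingCat.ofHom ψbar)), ← Spec.map_comp, hψbar,
    ← Category.assoc, Scheme.Opens.toSpecΓ_SpecMap_appLE, Category.assoc]
  have : U.toSpecΓ ≫ hU.fromSpec = U.ι := by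
    rw [← hU.isoSpec_hom, IsAffineOpen.fromSpec, Iso.hom_inv_id_assoc]
  rw [this, Scheme.Hom.resLE_comp_ι]

/-- Extending a regular closed immersion into an open of `Spec A/(h')` to a regular closed
immersion into an open of `Spec A`. -/
theorem exists_regular_extension (A : CommRingCat.{u}) (h' : A) (hnzd : h' ∈ nonZeroDivisors A)
    {W' Z : Scheme.{u}} (j' : W' ⟶ Spec (CommRingCat.of (A ⧸ Ideal.span {h'})))
    [IsOpenImmersion j'] (i : Z ⟶ W') (hi : Mor2.IsRegularClosedImmersion i) :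
    ∃ (V' : (Spec A).Opens) (i' : Z ⟶ (V' : Scheme.{u})), Mor2.IsRegularClosedImmersion i' ∧
      i' ≫ V'.ι = i ≫ j' ≫ Spec.map (CommRingCat.ofHom (Ideal.Quotient.mk (Ideal.span {h'}))) := by
  set c₀ := Spec.map (CommRingCat.ofHom (Ideal.Quotient.mk (Ideal.span {h'}))) with hc₀
  have hcl : IsClosedImmersion c₀ :=
    IsClosedImmersion.spec_of_surjective _ Ideal.Quotient.mk_surjective
  have hc₀reg : Mor2.IsRegularClosedImmersion c₀ :=
    isRegularClosedImmersion_SpecMap_mk A h' hnzd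
  have hclosed : IsClosed (c₀ '' (Set.range j')ᶜ) :=
    c₀.isClosedEmbedding.isClosedMap _ j'.isOpenEmbedding.isOpen_range.isClosed_compl
  let V' : (Spec A).Opens := ⟨(c₀ '' (Set.range j')ᶜ)ᶜ, hclosed.isOpen_compl⟩
  have heq : j'.opensRange = c₀ ⁻¹ᵁ V' := by
    ext w
    change w ∈ Set.range j' ↔ c₀ w ∈ (c₀ '' (Set.range j')ᶜ)ᶜ
    rw [Set.mem_compl_iff, c₀.isClosedEmbedding.injective.mem_set_image, Set.mem_compl_iff,
      not_not]
  let i' : Z ⟶ V' := i ≫ j'.isoOpensRange.hom ≫ (Scheme.isoOfEq _ heq).hom ≫ (c₀ ∣_ V')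
  have hi'j : i' ≫ V'.ι = i ≫ j' ≫ c₀ := by
    simp only [i', Category.assoc]
    rw [morphismRestrict_ι, ← Category.assoc (Scheme.isoOfEq _ heq).hom, Scheme.isoOfEq_hom_ι,
      Scheme.Hom.isoOpensRange_hom_ι_assoc]
  have hi'reg : Mor2.IsRegularClosedImmersion i' := by
    refine Groth.Agent.Lib.Helper5.RegImmComp.comp _ _ hi ?_
    refine Groth.Agent.Lib.Helper5.RegImmComp.comp _ _ (isRegularClosedImmersion_of_isIso _) ?_
    refine Groth.Agent.Lib.Helper5.RegImmComp.comp _ _ (isRegularClosedImmersion_of_isIso _) ?_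
    exact isRegularClosedImmersion_morphismRestrict c₀ hc₀reg V'
  exact ⟨V', i', hi'reg, hi'j⟩

/-- Transporting the conclusion along the factorization through a principal Cartier divisor. -/
theorem secConcl_of_lift {X T : Scheme.{u}} (σ : T ⟶ X) {U : X.Opens} (hU : IsAffineOpen U)
    (h' : Γ(X, U)) (hnzd : h' ∈ nonZeroDivisors Γ(X, U)) (T₁ : T.Opens)
    (τ : (T₁ : Scheme.{u}) ⟶ Spec (CommRingCat.of (Γ(X, U) ⧸ Ideal.span {h'})))
    (hτ : τ ≫ sliceMap hU h' = T₁.ι ≫ σ) (t₁ : T₁) (H : SecConcl τ t₁) :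
    SecConcl σ (T₁.ι t₁) := by
  obtain ⟨W', Z, j', ιZ, i, hj', hι, ⟨z₀, hz₀⟩, hi, hcomm⟩ := H
  obtain ⟨V', i', hi'reg, hi'j⟩ := exists_regular_extension Γ(X, U) h' hnzd j' i hi
  refine ⟨V', Z, V'.ι ≫ hU.fromSpec, ιZ ≫ T₁.ι, i', inferInstance, inferInstance, ?_, hi'reg, ?_⟩
  · refine ⟨z₀, ?_⟩
    rw [Scheme.Hom.comp_apply, hz₀]
  · rw [← Category.assoc, hi'j, Category.assoc, Category.assoc, Category.assoc, ← hτ,
      ← Category.assoc ιZ, ← hcomm, Category.assoc]

open Groth.Agent.Lib.T2H2.EtSlice Groth.Agent.Lib.T2H2.SliceSmoothSch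

/-- Transport along an equality of points. -/
theorem transport_aux {X S : Scheme.{u}} (f : X ⟶ S) (U : X.Opens) (h' : Γ(X, U)) {x x' : X}
    (e : x' = x) (hx : x ∈ U)
    (hreg : Ideal.Quotient.mk (Ideal.map (f.stalkMap x).hom
        (maximalIdeal (S.presheaf.stalk (f x)))) ((X.presheaf.germ U x hx).hom h') ∈
      nonZeroDivisors (X.presheaf.stalk x ⧸ Ideal.map (f.stalkMap x).hom
        (maximalIdeal (S.presheaf.stalk (f x))))) :
    Ideal.Quotient.mk (Ideal.map (f.stalkMap x').hom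
        (maximalIdeal (S.presheaf.stalk (f x')))) ((X.presheaf.germ U x' (e ▸ hx)).hom h') ∈
      nonZeroDivisors (X.presheaf.stalk x' ⧸ Ideal.map (f.stalkMap x').hom
        (maximalIdeal (S.presheaf.stalk (f x')))) ∧
    ringKrullDim (X.presheaf.stalk x' ⧸ Ideal.map (f.stalkMap x').hom
        (maximalIdeal (S.presheaf.stalk (f x')))) =
      ringKrullDim (X.presheaf.stalk x ⧸ Ideal.map (f.stalkMap x).hom
        (maximalIdeal (S.presheaf.stalk (f x)))) := by
  subst e
  exact ⟨hreg, rfl⟩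

/-- The induction. -/
theorem secConcl_aux (n : ℕ) : ∀ {X S T : Scheme.{u}} (f : X ⟶ S) [Smooth f] (σ : T ⟶ X)
    [IsImmersion σ] [IsOpenImmersion (σ ≫ f)] (t : T)
    (_ : ringKrullDim (X.presheaf.stalk (σ t) ⧸ Ideal.map (f.stalkMap (σ t)).hom
        (maximalIdeal (S.presheaf.stalk (f (σ t))))) ≤ n), SecConcl σ t := by
  induction n with
  | zero =>
    intro X S T f _ σ _ _ t hdim
    apply secConcl_of_map_eq f σ t
    obtain ⟨hdom, -⟩ := isDomain_isNoetherianRing_fibreQuot f (σ t)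
    have hK : Ring.KrullDimLE 0 (X.presheaf.stalk (σ t) ⧸ Ideal.map (f.stalkMap (σ t)).hom
        (maximalIdeal (S.presheaf.stalk (f (σ t))))) :=
      (Ring.krullDimLE_iff).mpr (by simpa using hdim)
    have hfield : IsField (X.presheaf.stalk (σ t) ⧸ Ideal.map (f.stalkMap (σ t)).hom
        (maximalIdeal (S.presheaf.stalk (f (σ t))))) := Ring.KrullDimLE.isField_of_isDomain
    have hmax := (Ideal.Quotient.maximal_ideal_iff_isField_quotient _).mpr hfield
    exact IsLocalRing.eq_maximalIdeal hmax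
  | succ n ih =>
    intro X S T f _ σ _ _ t hdim
    by_cases hm : Ideal.map (f.stalkMap (σ t)).hom (maximalIdeal (S.presheaf.stalk (f (σ t)))) =
        maximalIdeal (X.presheaf.stalk (σ t))
    · exact secConcl_of_map_eq f σ t hm
    · obtain ⟨h, hhm, hker, hd⟩ := exists_germ_ker_D_ne_zero f σ t hm
      have hW : Smooth ((⊤ : X.Opens).ι ≫ f) := inferInstance
      obtain ⟨U, hU, hxU, h', hgerm, hnzd, hsm⟩ :=
        Groth.Agent.S9725.result f (σ t) ⊤ trivial hW h hhm hd
      obtain ⟨_, ⟨S₀, hS₀, rfl⟩, hxS₀, -⟩ :=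
        S.isBasis_affineOpens.exists_subset_of_mem_open (Set.mem_univ (f (σ t))) isOpen_univ
      obtain ⟨_, ⟨V, hV, rfl⟩, hxV, hVS⟩ :=
        X.isBasis_affineOpens.exists_subset_of_mem_open hxS₀ (S₀.2.preimage f.continuous)
      have hsmV := f.smooth_appLE hS₀ hV hVS
      have hreg := fibre_nzd_of_D_ne_zero f (σ t) hS₀ hV hVS hxV hsmV h hd
      have hgerm' : (X.presheaf.germ U (σ t) hxU).hom h' = h := hgerm
      rw [← hgerm'] at hreg hker
      obtain ⟨T₁, ht, τ, hτ⟩ := exists_lift_to_slice σ t hU hxU h' hker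
      let t₁ : T₁ := ⟨t, ht⟩
      have hky : sliceMap hU h' (τ t₁) = σ t := by
        have := congr($hτ t₁)
        simp only [Scheme.Hom.comp_apply] at this
        exact this
      have hsm' : Smooth (sliceMap hU h' ≫ f) := by
        rw [Category.assoc]; exact hsm
      have himm : IsImmersion τ := by
        have : IsImmersion (τ ≫ sliceMap hU h') := by rw [hτ]; infer_instance
        exact IsImmersion.of_comp τ (sliceMap hU h')
      have hoi : IsOpenImmersion (τ ≫ sliceMap hU h' ≫ f) := by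
        rw [← Category.assoc, hτ, Category.assoc]
        infer_instance
      obtain ⟨hreg', hdimeq⟩ := transport_aux f U h' hky hxU hreg
      have hdrop := ringKrullDim_fibreQuot_succ_le f (sliceMap hU h') (τ t₁) _ (by
        have hk := ker_stalkMap_spec_mk hU h' (τ t₁) (hky ▸ hxU)
        have : (X.presheaf.germ U _ (hky ▸ hxU)).hom h' ∈
            RingHom.ker ((sliceMap hU h').stalkMap (τ t₁)).hom := by
          rw [hk]; exact Ideal.mem_span_singleton_self _
        exact this) hreg'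
      have hdim' : ringKrullDim
          ((Spec (CommRingCat.of (Γ(X, U) ⧸ Ideal.span {h'}))).presheaf.stalk (τ t₁) ⧸
            Ideal.map ((sliceMap hU h' ≫ f).stalkMap (τ t₁)).hom
              (maximalIdeal (S.presheaf.stalk ((sliceMap hU h' ≫ f) (τ t₁))))) ≤ n := by
        apply le_of_add_one_le_add_one
        refine hdrop.trans ?_
        rw [hdimeq]
        push_cast at hdim
        exact hdim
      have := ih (sliceMap hU h' ≫ f) τ t₁ hdim'
      exact secConcl_of_lift σ hU h' hnzd T₁ τ hτ t₁ this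


/-- **A section of a smooth morphism which is a closed immersion is a regular closed immersion.** -/
theorem isRegularClosedImmersion_of_section {X S : Scheme.{u}} (f : X ⟶ S) [Smooth f] (σ : S ⟶ X)
    (hσ : σ ≫ f = 𝟙 S) [IsClosedImmersion σ] : Mor2.IsRegularClosedImmersion σ := by
  have hoi : IsOpenImmersion (σ ≫ f) := by rw [hσ]; infer_instance
  refine ⟨inferInstance, fun s => ?_⟩
  obtain ⟨hdom, hnoeth⟩ := isDomain_isNoetherianRing_fibreQuot f (σ s)
  have hloc : IsLocalRing (X.presheaf.stalk (σ s) ⧸ Ideal.map (f.stalkMap (σ s)).hom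
      (maximalIdeal (S.presheaf.stalk (f (σ s))))) :=
    IsLocalRing.of_surjective' _ Ideal.Quotient.mk_surjective
  have hfin := ringKrullDim_lt_top (R := X.presheaf.stalk (σ s) ⧸ Ideal.map (f.stalkMap (σ s)).hom
      (maximalIdeal (S.presheaf.stalk (f (σ s)))))
  obtain ⟨n, hn⟩ : ∃ n : ℕ, ringKrullDim (X.presheaf.stalk (σ s) ⧸
      Ideal.map (f.stalkMap (σ s)).hom (maximalIdeal (S.presheaf.stalk (f (σ s))))) ≤ n := by
    generalize ringKrullDim (X.presheaf.stalk (σ s) ⧸ Ideal.map (f.stalkMap (σ s)).hom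
      (maximalIdeal (S.presheaf.stalk (f (σ s))))) = d at hfin
    induction d using WithBot.recBotCoe with
    | bot => exact ⟨0, bot_le⟩
    | coe a =>
      induction a using ENat.recTopCoe with
      | top => exact absurd hfin (lt_irrefl _)
      | coe m => exact ⟨m, le_rfl⟩
  exact regAt_of_secConcl σ s (secConcl_aux n f σ s hn)

end Groth.Agent.Lib.T2H2.RegSection
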