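import Mathlib
import Groth.Prelude.Def_Mor2
import Groth.Prelude.Def_FlatMod2
import Groth.Agent.Lib.Helper18FinFlat1
import Groth.Agent.Lib.T2H5ResPropAff
set_option backward.isDefEq.respectTransparency.types false

/-!
# Direct images of finite locally free modules along finite locally free morphisms
(T2H2, descent of the resolution property, part A)
-/

set_option autoImplicit false
set_option linter.style.haveILetI false
set_option linter.unusedSectionVars false
universe u
open CategoryTheory CategoryTheory.Limits AlgebraicGeometry TopologicalSpace Opposite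

namespace Groth.Agent.Lib.T2H2.ResDesc

open Groth.Agent.Lib.Helper23.QCohLocal Groth.Agent.Lib.Helper2.FinPushFP
  Groth.Agent.Lib.Helper2.LocFree

variable {X S : Scheme.{u}} (f : X ⟶ S)

/-- the direct image of a finite locally free module along a finite locally free morphism is finite locally free -/
theorem isFinLocFree_pushforward (hf : Mor2.IsFinLocFree f) (E : X.Modules)
    (hE : FlatMod.IsFinLocFree E) :
    FlatMod.IsFinLocFree ((Scheme.Modules.pushforward f).obj E) := by
  obtain ⟨h1, h2, h3⟩ := hf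
  haveI := h1
  haveI := h2
  haveI := h3
  haveI : E.IsQuasicoherent := Groth.Agent.Lib.T2H5.ResPropAff.isQuasicoherent_of_isFinLocFree E hE
  haveI : ((Scheme.Modules.pushforward f).obj E).IsQuasicoherent := isQuasicoherent_pushforward f _
  haveI : SheafOfModules.IsFinitePresentation (R := X.ringCatSheaf) E := isFP_of_isFinLocFree E hE
  haveI : SheafOfModules.IsFinitePresentation (R := S.ringCatSheaf)
      ((Scheme.Modules.pushforward f).obj E) :=
    (isFinitePresentation_pushforward_iff f _).1 inferInstance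
  intro s
  obtain ⟨W, hW, hsW, -⟩ := exists_isAffineOpen_mem_and_subset (x := s) (U := ⊤) trivial
  have hflat : Module.Flat Γ(S, W) Γ((Scheme.Modules.pushforward f).obj E, W) := by
    letI : Algebra Γ(S, W) Γ(X, f ⁻¹ᵁ W) := (f.app W).hom.toAlgebra
    haveI : Module.Flat Γ(S, W) Γ(X, f ⁻¹ᵁ W) := by
      have := f.flat_appLE hW (hW.preimage f) le_rfl
      rw [← Scheme.Hom.app_eq_appLE] at this
      exact this
    haveI : Module.Flat Γ(X, f ⁻¹ᵁ W) Γ(E, f ⁻¹ᵁ W) :=
      flat_sections_of_isFlatAt E (hW.preimage f) (fun x _ => isFlat_of_isFinLocFree E hE x)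
    letI : Module Γ(S, W) Γ(E, f ⁻¹ᵁ W) :=
      (show Module Γ(S, W) Γ((Scheme.Modules.pushforward f).obj E, W) from inferInstance)
    haveI : IsScalarTower Γ(S, W) Γ(X, f ⁻¹ᵁ W) Γ(E, f ⁻¹ᵁ W) :=
      IsScalarTower.of_algebraMap_smul (fun r m => rfl)
    exact Module.Flat.trans Γ(S, W) Γ(X, f ⁻¹ᵁ W) Γ(E, f ⁻¹ᵁ W)
  obtain ⟨D, m, hsD, hD⟩ := exists_restrict_iso_freeMod_of_isFlatAt _ s
    (isFlatAt_of_flat_sections _ hW hflat s hsW)
  exact ⟨D, m, hsD, hD⟩

end Groth.Agent.Lib.T2H2.ResDesc
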