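import Mathlib
import Groth.Agent.Lib.Helper1PT2
import Groth.Agent.Lib.Helper26FpqcMod
set_option backward.isDefEq.respectTransparency.types false

/-!
# Tensoring with a module whose stalks are free and nonzero is faithful
(T2H2, descent of the resolution property, part B)
-/

set_option autoImplicit false
set_option linter.style.haveILetI false
set_option linter.unusedSectionVars false
universe u
open CategoryTheory CategoryTheory.Limits AlgebraicGeometry TopologicalSpace Opposite
  MonoidalCategory TensorProduct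

namespace Groth.Agent.Lib.T2H2.ResDesc

open Groth.Agent.Lib.Helper1.PT Groth.Agent.Lib.Helper1.Sky Groth.Agent.Lib.Helper1.StalkTensor
  Groth.Agent.Lib.Helper21.ModTensor2 Groth.Agent.Lib.Helper26.FpqcMod

variable {Y : Scheme.{u}} (A : Y.Modules)

lemma sm_zero' {P P' : PMod Y.presheaf} (y : Y) (a : St P y) : sm (0 : P ⟶ P') y a = 0 := by
  obtain ⟨U, hU, p, rfl⟩ := exists_gm_eq a
  rw [sm_gm]
  exact map_zero _

/-- tensoring with a module whose stalks are free and nonzero is faithful -/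
theorem eq_zero_of_tensor_eq_zero
    (hA : ∀ y : Y, Module.Free (Rx Y.presheaf y) (St (toPM A) y) ∧ Nontrivial (St (toPM A) y))
    {S S' : Y.Modules} (φ : S ⟶ S') (h : (DCoh.tensorBi.map φ).app A = 0) : φ = 0 := by
  refine eq_zero_of_stalk φ (fun y => ?_)
  ext a
  rw [stalkFun_map_apply]
  obtain ⟨hfree, hnt⟩ := hA y
  let b := Module.Free.chooseBasis (Rx Y.presheaf y) (St (toPM A) y)
  haveI : Nonempty (Module.Free.ChooseBasisIndex (Rx Y.presheaf y) (St (toPM A) y)) :=
    b.index_nonempty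
  let i₀ : Module.Free.ChooseBasisIndex (Rx Y.presheaf y) (St (toPM A) y) := Classical.arbitrary _
  have hc : b.coord i₀ (b i₀) = 1 := by
    rw [Module.Basis.coord_apply, Module.Basis.repr_self, Finsupp.single_eq_same]
  let t : St (toPM S ⊗ toPM A) y := β (toPM S) (toPM A) y (a ⊗ₜ b i₀)
  have h1 : sm (toPMMap φ ▷ toPM A) y t = 0 := by
    apply (sm_etaX_bijective (toPM S' ⊗ toPM A) y).1
    rw [sm_etaX_naturality, map_zero]
    have h0 : shX.map (toPMMap φ ▷ toPM A) = 0 := by
      rw [← tensorBi_map_app]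
      exact h
    rw [h0]
    exact sm_zero' y _
  have h2 := congrArg (α (toPM S') (toPM A) y) h1
  rw [α_nat_left, map_zero, α_β, LinearMap.rTensor_tmul] at h2
  have h3 := congrArg (fun z => TensorProduct.rid (Rx Y.presheaf y) (St (toPM S') y)
    (LinearMap.lTensor (St (toPM S') y) (b.coord i₀) z)) h2
  simp only [LinearMap.lTensor_tmul, hc, TensorProduct.rid_tmul, one_smul, map_zero] at h3
  exact h3

/-- the stalks of `f_* O_X` are nonzero at the points of the image of `f` -/
theorem nontrivial_stalk_pushO {X : Scheme.{u}} (f : X ⟶ Y) (x : X) :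
    Nontrivial (St (toPM ((psh f).obj (Coh.structureModule X))) (f x)) := by
  refine ⟨⟨gm (toPM ((psh f).obj (Coh.structureModule X))) (f x) ⊤ trivial
    (show (toPM ((psh f).obj (Coh.structureModule X))).obj (op ⊤) from (1 : Γ(X, f ⁻¹ᵁ ⊤))), 0, ?_⟩⟩
  intro h0
  have h1 : gm (toPM ((psh f).obj (Coh.structureModule X))) (f x) ⊤ trivial
      (show (toPM ((psh f).obj (Coh.structureModule X))).obj (op ⊤) from (1 : Γ(X, f ⁻¹ᵁ ⊤))) =
      gm (toPM ((psh f).obj (Coh.structureModule X))) (f x) ⊤ trivial 0 := h0.trans (map_zero _).symm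
  obtain ⟨W, hW, iU, iV, hres⟩ := gm_eq _ _ _ _ h1
  rw [map_zero] at hres
  have h2 : (1 : Γ(X, f ⁻¹ᵁ W)) = 0 := by
    have h3 : (X.presheaf.map ((Opens.map f.base).map iU).op).hom (1 : Γ(X, f ⁻¹ᵁ ⊤)) = 0 := hres
    rw [map_one] at h3
    exact h3
  have h4 : f ⁻¹ᵁ W = ⊥ := by
    rw [← X.basicOpen_of_isUnit (U := f ⁻¹ᵁ W) (f := (1 : Γ(X, f ⁻¹ᵁ W))) isUnit_one, h2,
      X.basicOpen_zero]
  have h5 : x ∈ f ⁻¹ᵁ W := hW
  rw [h4] at h5
  exact h5

end Groth.Agent.Lib.T2H2.ResDesc
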