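import Mathlib
/-!
# Descent of freeness along a (non-flat) base change for modules flat over the base (helper3)

* `free_of_flat_baseChange_of_injective` (Lemma T): `R → R'` local homomorphism of local rings,
  `0 → K → F → M → 0` a finite free presentation; if `R' ⊗ K → R' ⊗ F` is injective and `R' ⊗ M`
  is flat over `R'` then `M` is free over `R`.
* `lTensor_injective_of_isPushout` (Lemma P): if `B' = A' ⊗_A B` and `M` is a `B`-module flat over `A`,
  then `B' ⊗_B -` preserves injectivity of `B`-linear maps with cokernel `M`.
* `lTensor_injective_of_isLocalization` (Lemma L): passage to localizations.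
* `free_of_free_tensor`: the main statement.
-/
set_option autoImplicit false
set_option linter.style.haveILetI false
open TensorProduct

namespace Groth.Agent.Lib.T2H3.FreeBC

section LemmaT

variable {R R' : Type*} [CommRing R] [CommRing R'] [IsLocalRing R] [IsLocalRing R'] [Algebra R R']
  [IsLocalHom (algebraMap R R')]
  {K F M : Type*} [AddCommGroup K] [AddCommGroup F] [AddCommGroup M]
  [Module R K] [Module R F] [Module R M]

/-- injectivity after tensoring with the residue field of `R'` descends to the residue field of `R`. -/
theorem lTensor_residueField_injective_of_injective (ι : K →ₗ[R] F)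
    (h : Function.Injective (ι.lTensor (IsLocalRing.ResidueField R'))) :
    Function.Injective (ι.lTensor (IsLocalRing.ResidueField R)) := by
  let k := IsLocalRing.ResidueField R
  let k' := IsLocalRing.ResidueField R'
  have hinj : LinearMap.ker (Algebra.linearMap k k') = ⊥ :=
    LinearMap.ker_eq_bot.mpr (algebraMap k k').injective
  obtain ⟨ρ, hρ⟩ := LinearMap.exists_leftInverse_of_injective (Algebra.linearMap k k') hinj
  let φR : k →ₗ[R] k' := (Algebra.linearMap k k').restrictScalars R
  let ρR : k' →ₗ[R] k := ρ.restrictScalars R
  have hρR : ρR ∘ₗ φR = LinearMap.id := by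
    ext x
    exact LinearMap.congr_fun hρ x
  rw [injective_iff_map_eq_zero]
  intro x hx
  have h1 : (ι.lTensor k') (φR.rTensor K x) = 0 := by
    rw [← LinearMap.comp_apply, LinearMap.lTensor_comp_rTensor, ← LinearMap.rTensor_comp_lTensor,
      LinearMap.comp_apply, hx, map_zero]
  have h2 : φR.rTensor K x = 0 := h (by rw [h1, map_zero])
  have h3 : (ρR.rTensor K) (φR.rTensor K x) = x := by
    rw [← LinearMap.comp_apply, ← LinearMap.rTensor_comp, hρR, LinearMap.rTensor_id,
      LinearMap.id_apply]
  rw [← h3, h2, map_zero]

/-- **Lemma T**. -/
theorem free_of_flat_baseChange_of_injective [Module.Finite R K] [Module.Finite R F]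
    [Module.Free R F]
    (ι : K →ₗ[R] F) (π : F →ₗ[R] M) (hπ : Function.Surjective π) (hex : Function.Exact ι π)
    (hι : Function.Injective (ι.lTensor R'))
    [Module.Flat R' (R' ⊗[R] M)] : Module.Free R M := by
  let k' := IsLocalRing.ResidueField R'
  -- Step 1
  have hex' : Function.Exact (ι.baseChange R') (π.baseChange R') := lTensor_exact R' hex hπ
  have hπ' : Function.Surjective (π.baseChange R') := LinearMap.lTensor_surjective R' hπ
  have h1 : Function.Injective ((ι.baseChange R').lTensor k') :=
    LinearMap.lTensor_injective_of_exact_of_flat (π.baseChange R') hπ' (ι.baseChange R') hι hex' k'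
  -- Step 2
  have h2 : Function.Injective (ι.lTensor k') := by
    let eK := AlgebraTensorModule.cancelBaseChange R R' k' k' K
    let eF := AlgebraTensorModule.cancelBaseChange R R' k' k' F
    have hnat : ∀ z, (ι.lTensor k') (eK z) = eF (((ι.baseChange R').lTensor k') z) := by
      intro z
      induction z using TensorProduct.induction_on with
      | zero => simp
      | add a b ha hb => simp only [map_add, ha, hb]
      | tmul c w =>
        induction w using TensorProduct.induction_on with
        | zero => simp
        | add a b ha hb => simp only [tmul_add, map_add, ha, hb]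
        | tmul r y => simp [eK, eF]
    intro a b hab
    obtain ⟨a', rfl⟩ := eK.surjective a
    obtain ⟨b', rfl⟩ := eK.surjective b
    rw [hnat, hnat] at hab
    rw [h1 (eF.injective hab)]
  exact Module.free_of_lTensor_residueField_injective ι π hπ hex
    (lTensor_residueField_injective_of_injective (R' := R') ι h2)

end LemmaT

section LemmaP

/-- **Lemma P**. -/
theorem lTensor_injective_of_isPushout (A A' : Type*) {B B' : Type*}
    [CommRing A] [CommRing A'] [CommRing B] [CommRing B']
    [Algebra A A'] [Algebra A B] [Algebra A' B'] [Algebra B B'] [Algebra A B']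
    [IsScalarTower A A' B'] [IsScalarTower A B B'] [Algebra.IsPushout A A' B B']
    {K F M : Type*} [AddCommGroup K] [AddCommGroup F] [AddCommGroup M]
    [Module B K] [Module B F] [Module B M] [Module A K] [Module A F] [Module A M]
    [IsScalarTower A B K] [IsScalarTower A B F] [IsScalarTower A B M]
    (ι : K →ₗ[B] F) (π : F →ₗ[B] M)
    (hπ : Function.Surjective π) (hι : Function.Injective ι) (hex : Function.Exact ι π)
    [Module.Flat A M] : Function.Injective (ι.lTensor B') := by
  have h0 : Function.Injective ((ι.restrictScalars A).lTensor A') :=
    LinearMap.lTensor_injective_of_exact_of_flat (π.restrictScalars A) hπ (ι.restrictScalars A)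
      hι hex A'
  let eK := Algebra.IsPushout.cancelBaseChange A A' B B' K
  let eF := Algebra.IsPushout.cancelBaseChange A A' B B' F
  have hnat : ∀ z, (ι.lTensor B') (eK.symm z) = eF.symm (((ι.restrictScalars A).lTensor A') z) := by
    intro z
    induction z using TensorProduct.induction_on with
    | zero => simp
    | add a b ha hb => simp only [map_add, ha, hb]
    | tmul s y => simp [eK, eF]
  intro a b hab
  obtain ⟨a', rfl⟩ := eK.symm.surjective a
  obtain ⟨b', rfl⟩ := eK.symm.surjective b
  rw [hnat, hnat] at hab
  rw [h0 (eF.symm.injective hab)]

end LemmaP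

section LemmaL

/-- **Lemma L**. -/
theorem lTensor_injective_of_isLocalization {B : Type*} (B' : Type*) {R R' : Type*}
    [CommRing B] [CommRing B'] [CommRing R] [CommRing R']
    [Algebra B B'] [Algebra B R] [Algebra B' R'] [Algebra R R'] [Algebra B R']
    [IsScalarTower B B' R'] [IsScalarTower B R R']
    (S₀ : Submonoid B) [IsLocalization S₀ R] [Module.Flat B' R']
    {K F : Type*} [AddCommGroup K] [AddCommGroup F]
    [Module R K] [Module R F] [Module B K] [Module B F]
    [IsScalarTower B R K] [IsScalarTower B R F] (ι : K →ₗ[R] F)
    (h : Function.Injective ((ι.restrictScalars B).lTensor B')) :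
    Function.Injective (ι.lTensor R') := by
  have h1 : Function.Injective (((ι.restrictScalars B).baseChange B').lTensor R') :=
    Module.Flat.lTensor_preserves_injective_linearMap _ h
  let e1K := IsLocalization.moduleTensorEquiv S₀ R R' K
  let e1F := IsLocalization.moduleTensorEquiv S₀ R R' F
  let e2K := AlgebraTensorModule.cancelBaseChange B B' R' R' K
  let e2F := AlgebraTensorModule.cancelBaseChange B B' R' R' F
  have hnat : ∀ z, (((ι.restrictScalars B).baseChange B').lTensor R') (e2K.symm (e1K z)) =
      e2F.symm (e1F ((ι.lTensor R') z)) := by
    intro z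
    induction z using TensorProduct.induction_on with
    | zero => simp
    | add a b ha hb => simp only [map_add, ha, hb]
    | tmul s y =>
      change (((ι.restrictScalars B).baseChange B').lTensor R') (e2K.symm (s ⊗ₜ[B] y)) =
        e2F.symm (s ⊗ₜ[B] (ι y))
      simp [e2K, e2F]
  intro a b hab
  have := congrArg (fun z => e2F.symm (e1F z)) hab
  simp only [← hnat] at this
  exact e1K.injective (e2K.symm.injective (h1 this))

end LemmaL

section Main

/-- **Main algebra statement**: `B' = A' ⊗_A B`, `R` a local localization of `B`, `R'` a local flat
`B'`-algebra with a local homomorphism `R → R'`; `M` a finitely presented `R`-module flat over `A`.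
If `R' ⊗_R M` is free over `R'` then `M` is free over `R`. -/
theorem free_of_free_tensor (A A' : Type*) {B : Type*} (B' : Type*) {R : Type*} (R' : Type*)
    [CommRing A] [CommRing A'] [CommRing B] [CommRing B'] [CommRing R] [CommRing R']
    [Algebra A A'] [Algebra A B] [Algebra A' B'] [Algebra B B'] [Algebra A B']
    [IsScalarTower A A' B'] [IsScalarTower A B B'] [Algebra.IsPushout A A' B B']
    [Algebra B R] [Algebra B' R'] [Algebra R R'] [Algebra B R']
    [IsScalarTower B B' R'] [IsScalarTower B R R']
    [Algebra A R] [IsScalarTower A B R]
    [IsLocalRing R] [IsLocalRing R'] [IsLocalHom (algebraMap R R')]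
    (S₀ : Submonoid B) [IsLocalization S₀ R] [Module.Flat B' R']
    {M : Type*} [AddCommGroup M] [Module R M] [Module B M] [Module A M]
    [IsScalarTower B R M] [IsScalarTower A B M]
    [Module.FinitePresentation R M] [Module.Flat A M]
    [Module.Free R' (R' ⊗[R] M)] : Module.Free R M := by
  obtain ⟨n, π, hπ⟩ := Module.Finite.exists_fin' R M
  have hfg : (LinearMap.ker π).FG := Module.FinitePresentation.fg_ker π hπ
  haveI : Module.Finite R (LinearMap.ker π) := Module.Finite.iff_fg.mpr hfg
  let ι : LinearMap.ker π →ₗ[R] (Fin n → R) := (LinearMap.ker π).subtype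
  have hex : Function.Exact ι π := LinearMap.exact_subtype_ker_map π
  have hιinj : Function.Injective ι := Subtype.val_injective
  have hP : Function.Injective ((ι.restrictScalars B).lTensor B') :=
    lTensor_injective_of_isPushout A A' (ι.restrictScalars B)
      (π.restrictScalars B) hπ hιinj hex
  have hL : Function.Injective (ι.lTensor R') :=
    lTensor_injective_of_isLocalization B' S₀ ι hP
  exact free_of_flat_baseChange_of_injective (R' := R') ι π hπ hex hL

end Main

end Groth.Agent.Lib.T2H3.FreeBC
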