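import Mathlib
import Groth.Agent.Lib.Helper2PullbackSec3
import Groth.Agent.Lib.Helper2FPAff
import Groth.Agent.Lib.T2H3FreeBCAlg
/-!
# The free locus of a module flat over the base commutes with base change (helper3)

* `free_stalk_of_free_stalk_pullback`: cartesian square, `F` finitely presented quasi-coherent on `X`,
  flat over `S` at `g' x'`; if `(g'^*F)_{x'}` is free over `O_{X',x'}` then `F_{g' x'}` is free.
* `free_stalk_pullback_of_free_stalk`: the (trivial) converse.
-/
set_option autoImplicit false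
set_option linter.style.haveILetI false
universe u
open CategoryTheory Limits AlgebraicGeometry TopologicalSpace Opposite TensorProduct

namespace Groth.Agent.Lib.T2H3.FreeBC

open Groth.Agent.Lib.Helper2.FlatOver Groth.Agent.Lib.Helper2.PullbackFlat
  Groth.Agent.Lib.Helper2.PullbackSec Groth.Agent.Lib.Helper2.FPAff

section cartesian
variable {X S X' S' : Scheme.{u}} {f : X ⟶ S} {f' : X' ⟶ S'} {g' : X' ⟶ X} {g : S' ⟶ S}

/-- the trivial direction: stalks of pullbacks of modules with a free stalk are free. -/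
theorem free_stalk_pullback_of_free_stalk (F : X.Modules) [F.IsQuasicoherent] (x' : X')
    (h : Module.Free (X.presheaf.stalk (g'.base x')) (F.presheaf.stalk (g'.base x'))) :
    Module.Free (X'.presheaf.stalk x')
      (((Scheme.Modules.pullback g').obj F).presheaf.stalk x') := by
  letI : Algebra (X.presheaf.stalk (g'.base x')) (X'.presheaf.stalk x') :=
    (g'.stalkMap x').hom.toAlgebra
  obtain ⟨T⟩ := nonempty_stalk_linearEquiv g' F x'
  exact Module.Free.of_equiv T

set_option maxHeartbeats 1600000 in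
/-- **Descent of freeness of stalks along an arbitrary base change**, for modules flat over the
base. -/
theorem free_stalk_of_free_stalk_pullback (hc : IsPullback g' f' f g) (F : X.Modules)
    [F.IsQuasicoherent] [SheafOfModules.IsFinitePresentation (R := X.ringCatSheaf) F] (x' : X')
    (h : FlatMod.IsFlatOverAt f F (g'.base x'))
    (hfree : Module.Free (X'.presheaf.stalk x')
      (((Scheme.Modules.pullback g').obj F).presheaf.stalk x')) :
    Module.Free (X.presheaf.stalk (g'.base x')) (F.presheaf.stalk (g'.base x')) := by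
  set H := (Scheme.Modules.pullback g').obj F with hH
  haveI : H.IsQuasicoherent := isQuasicoherent_pullback g' F
  -- affine opens
  have hw : g.base (f'.base x') = f.base (g'.base x') := by
    have := congrArg (fun φ => φ.base x') hc.w
    simpa using this.symm
  obtain ⟨U, V, hU, hV, hxU, eU⟩ := exists_affine_nhds f (g'.base x')
  obtain ⟨V', hV', hsV', eV'⟩ : ∃ V' : S'.Opens, IsAffineOpen V' ∧ f'.base x' ∈ V' ∧
      V' ≤ g ⁻¹ᵁ V := by
    have hmem : f'.base x' ∈ g ⁻¹ᵁ V := by
      change g.base (f'.base x') ∈ V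
      rw [hw]; exact eU hxU
    obtain ⟨W, hW⟩ := (S'.isBasis_affineOpens).exists_subset_of_mem_open hmem (g ⁻¹ᵁ V).isOpen
    obtain ⟨⟨V', hV', rfl⟩, hxV', hle⟩ := hW
    exact ⟨V', hV', hxV', hle⟩
  set U' : X'.Opens := g' ⁻¹ᵁ U ⊓ f' ⁻¹ᵁ V' with hU'def
  have hU' : IsAffineOpen U' := isAffineOpen_inf_preimage hc eV' eU hV hV' hU
  have e1 : U' ≤ g' ⁻¹ᵁ U := inf_le_left
  have e2 : U' ≤ f' ⁻¹ᵁ V' := inf_le_right
  have hx' : x' ∈ U' := ⟨hxU, hsV'⟩
  -- flatness of the stalk of F over A
  have hP := (isFlatOverAt_iff_flat_base f F hV (g'.base x') (eU hxU)).1 h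
  -- ring structures
  letI aAB : Algebra Γ(S, V) Γ(X, U) := (f.appLE V U eU).hom.toAlgebra
  letI aAA' : Algebra Γ(S, V) Γ(S', V') := (g.appLE V V' eV').hom.toAlgebra
  letI aBB' : Algebra Γ(X, U) Γ(X', U') := (g'.appLE U U' e1).hom.toAlgebra
  letI aA'B' : Algebra Γ(S', V') Γ(X', U') := (f'.appLE V' U' e2).hom.toAlgebra
  letI aAB' : Algebra Γ(S, V) Γ(X', U') :=
    ((g'.appLE U U' e1).hom.comp (f.appLE V U eU).hom).toAlgebra
  haveI tABB' : IsScalarTower Γ(S, V) Γ(X, U) Γ(X', U') :=
    IsScalarTower.of_algebraMap_eq (fun a => rfl)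
  haveI tAA'B' : IsScalarTower Γ(S, V) Γ(S', V') Γ(X', U') := by
    refine IsScalarTower.of_algebraMap_eq (fun a => ?_)
    change (g'.appLE U U' e1).hom ((f.appLE V U eU).hom a) =
      (f'.appLE V' U' e2).hom ((g.appLE V V' eV').hom a)
    have h1 := Scheme.Hom.appLE_comp_appLE g' f V U U' eU e1
    have h2 := Scheme.Hom.appLE_comp_appLE f' g V V' U' eV' e2
    have h3 : (f.appLE V U eU ≫ g'.appLE U U' e1) = (g.appLE V V' eV' ≫ f'.appLE V' U' e2) := by
      rw [h1, h2]
      congr 1
      exact hc.w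
    exact congrArg (fun φ => φ.hom a) h3
  haveI hPO : Algebra.IsPushout Γ(S, V) Γ(S', V') Γ(X, U) Γ(X', U') :=
    algebra_isPushout hc eV' eU hV hV' hU e1 e2
  -- stalk rings
  letI aBR : Algebra Γ(X, U) (X.presheaf.stalk (g'.base x')) :=
    X.presheaf.algebra_section_stalk ⟨g'.base x', hxU⟩
  letI aB'R' : Algebra Γ(X', U') (X'.presheaf.stalk x') :=
    X'.presheaf.algebra_section_stalk ⟨x', hx'⟩
  letI aRR' : Algebra (X.presheaf.stalk (g'.base x')) (X'.presheaf.stalk x') :=
    (g'.stalkMap x').hom.toAlgebra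
  letI aBR' : Algebra Γ(X, U) (X'.presheaf.stalk x') :=
    ((X'.presheaf.germ U' x' hx').hom.comp (g'.appLE U U' e1).hom).toAlgebra
  letI aAR : Algebra Γ(S, V) (X.presheaf.stalk (g'.base x')) :=
    ((X.presheaf.germ U (g'.base x') hxU).hom.comp (f.appLE V U eU).hom).toAlgebra
  haveI tABR : IsScalarTower Γ(S, V) Γ(X, U) (X.presheaf.stalk (g'.base x')) :=
    IsScalarTower.of_algebraMap_eq (fun a => rfl)
  haveI tBB'R' : IsScalarTower Γ(X, U) Γ(X', U') (X'.presheaf.stalk x') :=
    IsScalarTower.of_algebraMap_eq (fun a => rfl)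
  haveI tBRR' : IsScalarTower Γ(X, U) (X.presheaf.stalk (g'.base x')) (X'.presheaf.stalk x') :=
    IsScalarTower.of_algebraMap_eq (fun b => (stalkMap_germ_eq g' e1 x' hx' b).symm)
  haveI lR := hU.isLocalization_stalk ⟨g'.base x', hxU⟩
  haveI lR' := hU'.isLocalization_stalk ⟨x', hx'⟩
  haveI flR' : Module.Flat Γ(X', U') (X'.presheaf.stalk x') :=
    IsLocalization.flat _ (hU'.primeIdealOf ⟨x', hx'⟩).asIdeal.primeCompl
  haveI locHom : IsLocalHom (algebraMap (X.presheaf.stalk (g'.base x')) (X'.presheaf.stalk x')) :=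
    inferInstanceAs (IsLocalHom (g'.stalkMap x').hom)
  -- the module P = F_x
  letI mBP : Module Γ(X, U) (F.presheaf.stalk (g'.base x')) :=
    moduleStalkSections F U (g'.base x') hxU
  haveI tBRP : IsScalarTower Γ(X, U) (X.presheaf.stalk (g'.base x')) (F.presheaf.stalk (g'.base x')) :=
    IsScalarTower.of_algebraMap_smul (fun b n => rfl)
  letI mAP : Module Γ(S, V) (F.presheaf.stalk (g'.base x')) :=
    moduleStalkBase f F V (g'.base x') (eU hxU)
  haveI tABP : IsScalarTower Γ(S, V) Γ(X, U) (F.presheaf.stalk (g'.base x')) := by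
    refine IsScalarTower.of_algebraMap_smul (fun a n => ?_)
    change (X.presheaf.germ U (g'.base x') hxU) ((f.appLE V U eU).hom a) • n =
      (f.stalkMap (g'.base x')).hom (S.presheaf.germ V (f.base (g'.base x')) (eU hxU) a) • n
    rw [stalkMap_germ_eq f eU (g'.base x') hxU a]
  haveI flP : Module.Flat Γ(S, V) (F.presheaf.stalk (g'.base x')) := hP
  -- finite presentation of the stalk
  haveI fpsec : Module.FinitePresentation Γ(X, U) Γ(F, U) := finitePresentation_sections F hU
  haveI locP := isLocalizedModule_germ hU F (g'.base x') hxU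
  haveI fpP : Module.FinitePresentation (X.presheaf.stalk (g'.base x'))
      (F.presheaf.stalk (g'.base x')) :=
    _root_.FinitePresentation.of_isBaseChange (germₗ F U (g'.base x') hxU)
      ((isLocalizedModule_iff_isBaseChange
        (hU.primeIdealOf ⟨g'.base x', hxU⟩).asIdeal.primeCompl _ _).1 locP)
  -- the stalk of the pullback as a base change
  obtain ⟨T⟩ := nonempty_stalk_linearEquiv g' F x'
  haveI : Module.Free (X'.presheaf.stalk x')
      ((X'.presheaf.stalk x') ⊗[X.presheaf.stalk (g'.base x')] (F.presheaf.stalk (g'.base x'))) :=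
    Module.Free.of_equiv T.symm
  exact free_of_free_tensor Γ(S, V) Γ(S', V') Γ(X', U') (X'.presheaf.stalk x')
    (hU.primeIdealOf ⟨g'.base x', hxU⟩).asIdeal.primeCompl

end cartesian

end Groth.Agent.Lib.T2H3.FreeBC
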