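import Mathlib
import Groth.Agent.Lib.T2H3FreeBCSch
import Groth.Agent.Lib.Helper2LocFree
import Groth.Agent.Lib.Helper18Strict6
/-!
# Free loci of finitely presented quasi-coherent modules and fibres (helper3)

* `finitePresentation_stalk`, `free_stalk_iff_isFlatAt`, `isOpen_setOf_isFlatAt`,
  `isFinLocFree_iff_forall_free_stalk`.
* `fibre_isFinLocFree_iff`: for `F` flat over `S`, `F|_{X_s}` is finite locally free iff the stalks
  of `F` are free at all points of `f⁻¹(s)`.
* `isOpen_setOf_fibre_isFinLocFree_of_isClosedMap`.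
-/
set_option autoImplicit false
set_option linter.style.haveILetI false
universe u
open CategoryTheory Limits AlgebraicGeometry TopologicalSpace Opposite TensorProduct

namespace Groth.Agent.Lib.T2H3.FreeBC

open Groth.Agent.Lib.Helper2.FlatOver Groth.Agent.Lib.Helper2.PullbackFlat
  Groth.Agent.Lib.Helper2.PullbackSec Groth.Agent.Lib.Helper2.FPAff Groth.Agent.Lib.Helper2.LocFree

variable {X : Scheme.{u}}

/-- stalks of finitely presented quasi-coherent modules are finitely presented. -/
theorem finitePresentation_stalk (F : X.Modules) [F.IsQuasicoherent]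
    [SheafOfModules.IsFinitePresentation (R := X.ringCatSheaf) F] (x : X) :
    Module.FinitePresentation (X.presheaf.stalk x) (F.presheaf.stalk x) := by
  obtain ⟨U, hU, hxU, -⟩ := exists_isAffineOpen_mem_and_subset (x := x) (U := ⊤) trivial
  letI aBR : Algebra Γ(X, U) (X.presheaf.stalk x) := X.presheaf.algebra_section_stalk ⟨x, hxU⟩
  haveI lR := hU.isLocalization_stalk ⟨x, hxU⟩
  letI mBP : Module Γ(X, U) (F.presheaf.stalk x) := moduleStalkSections F U x hxU
  haveI tBRP : IsScalarTower Γ(X, U) (X.presheaf.stalk x) (F.presheaf.stalk x) :=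
    IsScalarTower.of_algebraMap_smul (fun b n => rfl)
  haveI fpsec : Module.FinitePresentation Γ(X, U) Γ(F, U) := finitePresentation_sections F hU
  haveI locP := isLocalizedModule_germ hU F x hxU
  exact _root_.FinitePresentation.of_isBaseChange (germₗ F U x hxU)
    ((isLocalizedModule_iff_isBaseChange (hU.primeIdealOf ⟨x, hxU⟩).asIdeal.primeCompl _ _).1 locP)

theorem free_stalk_iff_isFlatAt (F : X.Modules) [F.IsQuasicoherent]
    [SheafOfModules.IsFinitePresentation (R := X.ringCatSheaf) F] (x : X) :
    Module.Free (X.presheaf.stalk x) (F.presheaf.stalk x) ↔ FlatMod.IsFlatAt F x := by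
  haveI := finitePresentation_stalk F x
  constructor
  · intro h
    exact (inferInstance : Module.Flat (X.presheaf.stalk x) (F.presheaf.stalk x))
  · intro h
    haveI : Module.Flat (X.presheaf.stalk x) (F.presheaf.stalk x) := h
    exact Module.free_of_flat_of_isLocalRing

theorem isOpen_setOf_isFlatAt (F : X.Modules) [F.IsQuasicoherent]
    [SheafOfModules.IsFinitePresentation (R := X.ringCatSheaf) F] :
    IsOpen {x : X | FlatMod.IsFlatAt F x} := by
  rw [isOpen_iff_forall_mem_open]
  intro x hx
  obtain ⟨D, m, hxD, ⟨e⟩⟩ := exists_restrict_iso_freeMod_of_isFlatAt F x hx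
  refine ⟨D, ?_, D.isOpen, hxD⟩
  intro y hy
  exact isFlatAt_of_restrict_iso_freeMod D.ι F e ⟨y, hy⟩

theorem isFinLocFree_iff_forall_free_stalk (F : X.Modules) [F.IsQuasicoherent]
    [SheafOfModules.IsFinitePresentation (R := X.ringCatSheaf) F] :
    FlatMod.IsFinLocFree F ↔ ∀ x : X, Module.Free (X.presheaf.stalk x) (F.presheaf.stalk x) := by
  constructor
  · intro h x
    exact (free_stalk_iff_isFlatAt F x).2 (isFlat_of_isFinLocFree F h x)
  · intro h x
    obtain ⟨D, m, hxD, he⟩ :=
      exists_restrict_iso_freeMod_of_isFlatAt F x ((free_stalk_iff_isFlatAt F x).1 (h x))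
    exact ⟨D, m, hxD, he⟩

section fibre
variable {S : Scheme.{u}} (f : X ⟶ S) (F : X.Modules) [F.IsQuasicoherent]
  [SheafOfModules.IsFinitePresentation (R := X.ringCatSheaf) F]

theorem fibre_isFinLocFree_iff (hfl : FlatMod.IsFlatOver f F) (s : S) :
    FlatMod.IsFinLocFree ((Scheme.Modules.pullback (f.fiberι s)).obj F) ↔
      ∀ x : X, f x = s → FlatMod.IsFlatAt F x := by
  set G := (Scheme.Modules.pullback (f.fiberι s)).obj F with hG
  haveI : G.IsQuasicoherent := isQuasicoherent_pullback (f.fiberι s) F
  haveI : SheafOfModules.IsFinitePresentation (R := (f.fiber s).ringCatSheaf) G :=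
    Groth.Agent.Helper18Strict.isFP_pullback (f.fiberι s) F inferInstance
  have hc : IsPullback (f.fiberι s) (f.fiberToSpecResidueField s) f (S.fromSpecResidueField s) :=
    IsPullback.of_hasPullback f (S.fromSpecResidueField s)
  rw [isFinLocFree_iff_forall_free_stalk]
  constructor
  · intro h x hx
    have hxr : x ∈ Set.range (f.fiberι s) := by
      rw [Scheme.Hom.range_fiberι]; exact hx
    obtain ⟨z, rfl⟩ := hxr
    exact (free_stalk_iff_isFlatAt F _).1
      (free_stalk_of_free_stalk_pullback hc F z (hfl _) (h z))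
  · intro h z
    refine free_stalk_pullback_of_free_stalk F z ((free_stalk_iff_isFlatAt F _).2 (h _ ?_))
    have : (f.fiberι s) z ∈ f ⁻¹' {s} := by
      rw [← Scheme.Hom.range_fiberι]; exact ⟨z, rfl⟩
    exact this

theorem isOpen_setOf_fibre_isFinLocFree_of_isClosedMap (hfl : FlatMod.IsFlatOver f F)
    (hcl : IsClosedMap f) :
    IsOpen {s : S | FlatMod.IsFinLocFree ((Scheme.Modules.pullback (f.fiberι s)).obj F)} := by
  have hW : IsOpen {x : X | FlatMod.IsFlatAt F x} := isOpen_setOf_isFlatAt F
  have hZ : IsClosed (f '' {x : X | FlatMod.IsFlatAt F x}ᶜ) := hcl _ hW.isClosed_compl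
  convert hZ.isOpen_compl using 1
  ext s
  rw [Set.mem_ofPred_eq, fibre_isFinLocFree_iff f F hfl s, Set.mem_compl_iff, Set.mem_image]
  constructor
  · rintro h ⟨x, hx, rfl⟩
    exact hx (h x rfl)
  · intro h x hx
    by_contra hn
    exact h ⟨x, hn, hx⟩

end fibre

end Groth.Agent.Lib.T2H3.FreeBC
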