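import Mathlib
import Groth.Prelude.Def_ModSite
import Groth.Prelude.Def_FlatMod2
import Groth.Agent.Lib.Helper21Dual12
import Groth.Agent.Lib.Helper21Dual9

/-!
# T2H9LocFF: locally finite free (site-level) modules on a scheme are finite locally free (helper9)

Namespace `Groth.Agent.Lib.T2H9.LocFF`.

* `isoOfFF`: two finite free structures over the same base with equivalent index sets are isomorphic.
* `isFinLocFree_of_isLocFF`: the converse of helper21's `isLocFF_of_isFinLocFree`.
* `isFinLocFree_dual`: the dual `ℋom(E, O_X)` of a finite locally free module is finite locally free.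
-/

set_option autoImplicit false
set_option linter.style.haveILetI false
set_option linter.unusedVariables false
universe u

namespace Groth.Agent.Lib.T2H9.LocFF

open CategoryTheory MonoidalCategory Opposite Limits AlgebraicGeometry
open Groth.Agent.Lib.Helper21.Dual Groth.Agent.Lib.Helper21.LocFact

section gen
universe v' u' w
variable {A : Type u'} [Category.{v'} A] [Preadditive A]

/-- two finite free structures with equivalent index sets are isomorphic -/
noncomputable def isoOfFF {U Q Q' : A} {I I' : Type w} [Fintype I] [Fintype I'] (ff : FF U Q I)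
    (ff' : FF U Q' I') (e : I ≃ I') : Q ≅ Q' where
  hom := ∑ i, ff.π i ≫ ff'.ι (e i)
  inv := ∑ i, ff'.π (e i) ≫ ff.ι i
  hom_inv_id := by
    rw [Preadditive.sum_comp]
    have h : ∀ i ∈ Finset.univ, (ff.π i ≫ ff'.ι (e i)) ≫ ∑ j, ff'.π (e j) ≫ ff.ι j = ff.π i ≫ ff.ι i := by
      intro i _
      rw [Preadditive.comp_sum, Finset.sum_eq_single i]
      · rw [Category.assoc, ← Category.assoc (ff'.ι (e i)), ff'.ι_π_self, Category.id_comp]
      · intro j _ hj
        rw [Category.assoc, ← Category.assoc (ff'.ι (e i)),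
          ff'.ι_π_ne (e i) (e j) (fun h => hj (e.injective h).symm), zero_comp, comp_zero]
      · intro h; exact absurd (Finset.mem_univ i) h
    rw [Finset.sum_congr rfl h, ff.sum]
  inv_hom_id := by
    rw [Preadditive.sum_comp]
    have h : ∀ i ∈ Finset.univ, (ff'.π (e i) ≫ ff.ι i) ≫ ∑ j, ff.π j ≫ ff'.ι (e j) =
        ff'.π (e i) ≫ ff'.ι (e i) := by
      intro i _
      rw [Preadditive.comp_sum, Finset.sum_eq_single i]
      · rw [Category.assoc, ← Category.assoc (ff.ι i), ff.ι_π_self, Category.id_comp]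
      · intro j _ hj
        rw [Category.assoc, ← Category.assoc (ff.ι i),
          ff.ι_π_ne i j (fun h => hj h.symm), zero_comp, comp_zero]
      · intro h; exact absurd (Finset.mem_univ i) h
    rw [Finset.sum_congr rfl h]
    rw [← ff'.sum]
    exact Fintype.sum_equiv e _ _ (fun i => rfl)

end gen

variable {X : Scheme.{u}}

theorem mem_of_coversTop {K : Type u} (U : K → X.Opens)
    (hU : (Opens.grothendieckTopology X).CoversTop U) (x : X) : ∃ k, x ∈ U k := by
  have h := hU ⊤
  rw [Opens.mem_grothendieckTopology] at h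
  obtain ⟨V, g, ⟨k, ⟨hk⟩⟩, hxV⟩ := h x trivial
  exact ⟨k, leOfHom hk hxV⟩

/-- the converse of `isLocFF_of_isFinLocFree` -/
theorem isFinLocFree_of_isLocFF (L : ModSite.Mod X.sheaf) (hL : IsLocFF (O := X.sheaf) L) :
    FlatMod.IsFinLocFree (X := X) L := by
  obtain ⟨K, U', hU, h⟩ := hL
  let U : K → X.Opens := U'
  intro x
  obtain ⟨k, hk⟩ := mem_of_coversTop U hU x
  obtain ⟨I, hI, ⟨ff⟩⟩ := h k
  refine ⟨U k, Fintype.card I, hk, ⟨?_⟩⟩
  let n := Fintype.card I
  let e0 : (ModSite.restr X.sheaf (U k)).obj L ≅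
      ∐ fun _ : Fin n => ModSite.unit (X.sheaf.over (U k)) :=
    isoOfFF ff (ffSigma (ModSite.unit (X.sheaf.over (U k))) (Fin n)) (Fintype.equivFin I)
  let Φ : SheafOfModules.{u} (X.ringCatSheaf.over (U k)) ⥤ (↑(U k) : Scheme.{u}).Modules :=
    (Scheme.Modules.overEquiv (U k)).functor
  let i1 : Φ.obj ((SheafOfModules.overFunctor X.ringCatSheaf (U k)).obj L) ≅ Scheme.Modules.restrict (Y := X) L (U k).ι :=
    (Scheme.Modules.overFunctorEquiv (U k)).app L
  let i3 : Φ.obj (∐ fun _ : Fin n => SheafOfModules.unit.{u} (X.ringCatSheaf.over (U k))) ≅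
      ∐ fun _ : Fin n => Φ.obj (SheafOfModules.unit.{u} (X.ringCatSheaf.over (U k))) :=
    PreservesCoproduct.iso Φ _
  let i4 : (∐ fun _ : Fin n => Φ.obj (SheafOfModules.unit.{u} (X.ringCatSheaf.over (U k)))) ≅
      FlatMod.freeMod (↑(U k)) n :=
    Sigma.mapIso (fun _ => Iso.refl _)
  exact i1.symm ≪≫ Φ.mapIso e0 ≪≫ i3 ≪≫ i4

/-- the dual of a finite locally free module is finite locally free -/
theorem isFinLocFree_dual (E : X.Modules) (hE : FlatMod.IsFinLocFree E) :
    FlatMod.IsFinLocFree (X := X) (dual (O := X.sheaf) E) :=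
  isFinLocFree_of_isLocFF _ (isLocFF_dual (O := X.sheaf) E (isLocFF_of_isFinLocFree E hE))

end Groth.Agent.Lib.T2H9.LocFF
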