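import Mathlib
import Groth.Prelude.Def_PerfAux
import Groth.Agent.Lib.T2H2AffProjC
import Groth.Agent.Lib.T2H2ResDescA
import Groth.Agent.Lib.T2H2ResDescB
import Groth.Agent.Lib.T2H3FreeLocus
import Groth.Agent.Lib.T2H9LocFF
import Groth.Agent.Lib.Helper21Dual12
import Groth.Agent.Lib.Helper21Dual9
import Groth.Agent.Lib.Helper1FLF1
import Groth.Agent.Lib.Helper20FormalPull
import Groth.Agent.Lib.T2H5FlatCover
set_option backward.isDefEq.respectTransparency.types false

/-!
# The resolution property descends along surjective finite locally free morphisms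
(T2H2, descent of the resolution property, part C)
-/

set_option autoImplicit false
set_option linter.style.haveILetI false
set_option linter.unusedSectionVars false
universe u
open CategoryTheory CategoryTheory.Limits AlgebraicGeometry TopologicalSpace Opposite
  MonoidalCategory TensorProduct

namespace Groth.Agent.Lib.T2H2.ResDesc

open Groth.Agent.Lib.Helper1.PT Groth.Agent.Lib.Helper1.Sky Groth.Agent.Lib.Helper1.StalkTensor
  Groth.Agent.Lib.Helper21.ModTensor2 Groth.Agent.Lib.Helper21.ModTensor3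
  Groth.Agent.Lib.Helper21.Dual Groth.Agent.Lib.T2H2.AffProj

variable {X Y : Scheme.{u}} (f : X ⟶ Y)

/-- tensoring with `f_* O_X` is faithful for a surjective finite locally free morphism -/
theorem faithful_tR_pushO (hf : Mor2.IsFinLocFree f) [Surjective f] :
    (tR Y.sheaf (pushO f)).Faithful := by
  have hA : FlatMod.IsFinLocFree (pushO f) := Groth.Agent.Helper18FinFlat.pushforward_isFinLocFree f hf
  haveI : (pushO f).IsQuasicoherent :=
    Groth.Agent.Lib.T2H5.ResPropAff.isQuasicoherent_of_isFinLocFree _ hA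
  haveI : SheafOfModules.IsFinitePresentation (R := Y.ringCatSheaf) (pushO f) :=
    Groth.Agent.Lib.Helper2.LocFree.isFP_of_isFinLocFree _ hA
  have hfree := (Groth.Agent.Lib.T2H3.FreeBC.isFinLocFree_iff_forall_free_stalk (pushO f)).1 hA
  have hst : ∀ y : Y, Module.Free (Rx Y.presheaf y) (St (toPM (pushO f)) y) ∧
      Nontrivial (St (toPM (pushO f)) y) := by
    intro y
    obtain ⟨x, rfl⟩ := f.surjective y
    exact ⟨hfree (f x), nontrivial_stalk_pushO f x⟩
  refine ⟨fun {S S'} φ ψ h => ?_⟩
  have h0 : (DCoh.tensorBi.map (φ - ψ)).app (pushO f) = 0 := by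
    have h1 : (tR Y.sheaf (pushO f)).map (φ - ψ) = 0 := by
      rw [Functor.map_sub, h, sub_self]
    exact h1
  exact sub_eq_zero.1 (eq_zero_of_tensor_eq_zero (pushO f) hst (φ - ψ) h0)

/-- **The resolution property descends along a surjective finite locally free morphism.** -/
theorem hasResolutionProperty_of_finLocFree (hf : Mor2.IsFinLocFree f) [Surjective f]
    (hX : PerfAux.HasResolutionProperty X) : PerfAux.HasResolutionProperty Y := by
  have hf' := hf
  obtain ⟨h1, h2, h3⟩ := hf'
  haveI := h1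
  haveI := h2
  haveI := h3
  intro G hGq hGt
  haveI : G.IsQuasicoherent := hGq
  haveI : SheafOfModules.IsFiniteType (R := Y.ringCatSheaf) G := hGt
  haveI hG'q : ((plb f).obj G).IsQuasicoherent :=
    Groth.Agent.Lib.Helper20.PullbackAff.isQuasicoherent_pullback f G
  have hG't : SheafOfModules.IsFiniteType (R := X.ringCatSheaf) ((plb f).obj G) :=
    Groth.Agent.Lib.Helper20.FormalPull.isFiniteType_pullback f G
  obtain ⟨E, π, hE, hπ⟩ := hX ((plb f).obj G) hG'q hG't
  haveI := hπ
  haveI : E.IsQuasicoherent := Groth.Agent.Lib.T2H5.ResPropAff.isQuasicoherent_of_isFinLocFree E hE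
  have hA : FlatMod.IsFinLocFree (pushO f) := Groth.Agent.Helper18FinFlat.pushforward_isFinLocFree f hf
  have hW₀ : FlatMod.IsFinLocFree ((psh f).obj E) := isFinLocFree_pushforward f hf E hE
  haveI : Epi ((psh f).map π) := Groth.Agent.Lib.T2H5.FlatCover.epi_pushforward_map f π
  haveI := isIso_beta f G
  let q : ((psh f).obj E : ModSite.Mod Y.sheaf) ⟶ (tens G (pushO f) : ModSite.Mod Y.sheaf) :=
    (psh f).map π ≫ inv (beta f G)
  haveI hq : Epi q := by
    exact epi_comp ((psh f).map π) (inv (beta f G))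
  have hAff : IsLocFF (O := Y.sheaf) (pushO f) := isLocFF_of_isFinLocFree (pushO f) hA
  let adj : tR Y.sheaf (dual (O := Y.sheaf) (pushO f)) ⊣ tR Y.sheaf (pushO f) :=
    dualAdjSw (O := Y.sheaf) (pushO f) hAff
  haveI : (tR Y.sheaf (pushO f)).Faithful := faithful_tR_pushO f hf
  haveI hc : Epi (adj.counit.app G) := adj.counit_epi_of_R_faithful G
  haveI : (tR Y.sheaf (dual (O := Y.sheaf) (pushO f))).PreservesEpimorphisms :=
    Functor.preservesEpimorphisms_of_adjunction adj
  haveI hq2 : Epi ((tR Y.sheaf (dual (O := Y.sheaf) (pushO f))).map q) :=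
    @Functor.map_epi _ _ _ _ (tR Y.sheaf (dual (O := Y.sheaf) (pushO f))) _ _ _ q hq
  refine ⟨(tR Y.sheaf (dual (O := Y.sheaf) (pushO f))).obj ((psh f).obj E),
    (tR Y.sheaf (dual (O := Y.sheaf) (pushO f))).map q ≫ adj.counit.app G, ?_,
    @epi_comp _ _ _ _ _ _ hq2 _ hc⟩
  exact Groth.Agent.Lib.Helper1.FLF.isFinLocFree_tensor _ _ hW₀
    (Groth.Agent.Lib.T2H9.LocFF.isFinLocFree_dual (pushO f) hA)

end Groth.Agent.Lib.T2H2.ResDesc
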