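import Mathlib

set_option autoImplicit false
universe u
open CategoryTheory CategoryTheory.Limits AlgebraicGeometry TopologicalSpace Opposite

namespace Groth.Agent.Lib.T2H2.ResTrdeg

section alg
variable {k K L Ω : Type u} [Field k] [Field K] [Field L] [Field Ω] [Algebra k K] [Algebra L Ω]

open Cardinal in
/-- If `Ω` is generated as a field by the images of `K` and `L`, and the image of `k` lies in that
of `L`, then `trdeg_L Ω ≤ trdeg_k K`. -/
theorem trdeg_le_of_generated (φ : K →+* Ω)
    (hk : ∀ c : k, ∃ l : L, algebraMap L Ω l = φ (algebraMap k K c))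
    (hgen : ∀ ω : Ω, ∃ a b : Ω,
      a ∈ Subring.closure (Set.range φ ∪ Set.range (algebraMap L Ω)) ∧
      b ∈ Subring.closure (Set.range φ ∪ Set.range (algebraMap L Ω)) ∧ b ≠ 0 ∧ ω * b = a) :
    Algebra.trdeg L Ω ≤ Algebra.trdeg k K := by
  obtain ⟨s, hs⟩ := exists_isTranscendenceBasis k K
  have halgK : Algebra.IsAlgebraic (Algebra.adjoin k s) K := by
    have := hs.isAlgebraic
    rwa [Subtype.range_coe] at this
  set s' : Set Ω := φ '' s with hs'
  set E := Algebra.adjoin L s' with hE
  -- the restriction of `φ`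
  have hmem : ∀ x : Algebra.adjoin k s, φ (x : K) ∈ E := by
    rintro ⟨x, hx⟩
    induction hx using Algebra.adjoin_induction with
    | mem x hx => exact Algebra.subset_adjoin ⟨x, hx, rfl⟩
    | algebraMap c =>
      obtain ⟨l, hl⟩ := hk c
      change φ (algebraMap k K c) ∈ E
      rw [← hl]
      exact E.algebraMap_mem l
    | add x y _ _ hx hy => simpa using E.add_mem hx hy
    | mul x y _ _ hx hy => simpa using E.mul_mem hx hy
  let ψ : Algebra.adjoin k s →+* E :=
    (φ.comp (algebraMap (Algebra.adjoin k s) K)).codRestrict E.toSubring (fun x => hmem x)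
  have hψinj : Function.Injective ψ := by
    intro x y hxy
    have h1 : φ (x : K) = φ (y : K) := congrArg (fun z : E => (z : Ω)) hxy
    exact Subtype.ext (φ.injective h1)
  have hcomp : (algebraMap E Ω).comp ψ = φ.comp (algebraMap (Algebra.adjoin k s) K) := by
    ext x; rfl
  -- the subalgebra of elements algebraic over `E`
  set A := Subalgebra.algebraicClosure E Ω with hA
  have hφA : ∀ κ : K, φ κ ∈ A := fun κ =>
    (halgK.isAlgebraic κ).ringHom_of_comp_eq ψ φ hψinj hcomp
  have hLA : ∀ l : L, algebraMap L Ω l ∈ A := fun l => by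
    have : algebraMap L Ω l = algebraMap E Ω (algebraMap L E l) := rfl
    rw [this]
    exact A.algebraMap_mem _
  have hcl : Subring.closure (Set.range φ ∪ Set.range (algebraMap L Ω)) ≤ A.toSubring := by
    rw [Subring.closure_le]
    rintro _ (⟨κ, rfl⟩ | ⟨l, rfl⟩)
    · exact hφA κ
    · exact hLA l
  have halgΩ : Algebra.IsAlgebraic E Ω := by
    refine ⟨fun ω => ?_⟩
    obtain ⟨a, b, ha, hb, hb0, hab⟩ := hgen ω
    have ha' : IsAlgebraic E a := hcl ha
    have hb' : IsAlgebraic E b := hcl hb
    have : ω = a * b⁻¹ := by rw [← hab, mul_assoc, mul_inv_cancel₀ hb0, mul_one]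
    rw [this]
    exact ha'.mul (IsAlgebraic.inv_iff.2 hb')
  calc Algebra.trdeg L Ω ≤ #s' := Algebra.IsAlgebraic.trdeg_le_cardinalMk L s'
    _ ≤ #s := Cardinal.mk_image_le
    _ = Algebra.trdeg k K := hs.cardinalMk_eq_trdeg

end alg

section alg2
open TensorProduct
variable {k' K L : Type u} [Field k'] [Field K] [Field L] [Algebra k' K] [Algebra k' L]

/-- The canonical map `L[s] → L ⊗_{k'} K` for a subset `s ⊆ K`. -/
noncomputable def polyToTensor (s : Set K) : MvPolynomial s L →ₐ[L] L ⊗[k'] K :=
  (Algebra.TensorProduct.map (AlgHom.id L L)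
    (MvPolynomial.aeval (Subtype.val : s → K) : MvPolynomial s k' →ₐ[k'] K)).comp
    (MvPolynomial.algebraTensorAlgEquiv k' L).symm.toAlgHom

theorem polyToTensor_X (s : Set K) (b : s) :
    polyToTensor (k' := k') (L := L) s (MvPolynomial.X b) = 1 ⊗ₜ (b : K) := by
  simp [polyToTensor]

theorem polyToTensor_injective {s : Set K}
    (hs : AlgebraicIndependent k' (Subtype.val : s → K)) :
    Function.Injective (polyToTensor (k' := k') (L := L) s) := by
  have h1 : Function.Injective (MvPolynomial.aeval (Subtype.val : s → K) :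
      MvPolynomial s k' →ₐ[k'] K) := hs
  have h2 : Function.Injective (LinearMap.lTensor L
      (MvPolynomial.aeval (Subtype.val : s → K) : MvPolynomial s k' →ₐ[k'] K).toLinearMap) :=
    Module.Flat.lTensor_preserves_injective_linearMap _ h1
  have h3 : Function.Injective (Algebra.TensorProduct.map (AlgHom.id L L)
      (MvPolynomial.aeval (Subtype.val : s → K) : MvPolynomial s k' →ₐ[k'] K)) := by
    intro x y hxy
    apply h2
    exact hxy
  exact h3.comp (MvPolynomial.algebraTensorAlgEquiv k' L).symm.injective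

/-- There is a prime of `L ⊗_{k'} K` modulo which a given algebraically independent subset of `K`
stays algebraically independent over `L`. -/
theorem exists_prime_injective {s : Set K}
    (hs : AlgebraicIndependent k' (Subtype.val : s → K)) :
    ∃ 𝔭 : Ideal (L ⊗[k'] K), 𝔭.IsPrime ∧
      ∀ p : MvPolynomial s L, polyToTensor (k' := k') s p ∈ 𝔭 → p = 0 := by
  set θ := polyToTensor (k' := k') (L := L) s with hθ
  have hinj := polyToTensor_injective (L := L) hs
  set M : Submonoid (L ⊗[k'] K) :=
    Submonoid.map θ.toRingHom.toMonoidHom (nonZeroDivisors (MvPolynomial s L)) with hM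
  have hdisj : Disjoint ((⊥ : Ideal (L ⊗[k'] K)) : Set (L ⊗[k'] K)) M := by
    rw [Set.disjoint_left]
    rintro x hx ⟨p, hp, rfl⟩
    have hx0 : θ p = 0 := hx
    have : p = 0 := hinj (by rw [hx0, map_zero])
    exact (nonZeroDivisors.ne_zero hp) this
  obtain ⟨𝔭, h𝔭, -, h𝔭M⟩ := Ideal.exists_le_prime_disjoint ⊥ M hdisj
  refine ⟨𝔭, h𝔭, fun p hp => ?_⟩
  by_contra hp0
  have hpM : θ p ∈ M := ⟨p, mem_nonZeroDivisors_of_ne_zero hp0, rfl⟩
  exact Set.disjoint_left.1 h𝔭M hp hpM

open Cardinal in
/-- Transcendence degree bound: if `Φ : L ⊗_{k'} K → Ω` is a ring hom to a field whose kernel is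
a prime as in `exists_prime_injective` (for a transcendence basis `s`), then
`trdeg_{k'} K ≤ trdeg_L Ω`. -/
theorem trdeg_le_of_ker {Ω : Type u} [Field Ω] [Algebra L Ω] {s : Set K}
    (hs : IsTranscendenceBasis k' (Subtype.val : s → K))
    (Φ : L ⊗[k'] K →ₐ[L] Ω)
    (hΦ : ∀ p : MvPolynomial s L, Φ (polyToTensor (k' := k') s p) = 0 → p = 0) :
    Algebra.trdeg k' K ≤ Algebra.trdeg L Ω := by
  have hind : AlgebraicIndependent L (fun b : s => Φ (1 ⊗ₜ (b : K))) := by
    rw [AlgebraicIndependent, injective_iff_map_eq_zero]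
    intro p hp
    apply hΦ
    rw [← hp]
    have : (MvPolynomial.aeval (fun b : s => Φ (1 ⊗ₜ (b : K)))) =
        Φ.comp (polyToTensor (k' := k') (L := L) s) := by
      apply MvPolynomial.algHom_ext
      intro b
      simp [polyToTensor_X]
    rw [this]
    rfl
  calc Algebra.trdeg k' K = #s := hs.cardinalMk_eq_trdeg.symm
    _ ≤ Algebra.trdeg L Ω := hind.cardinalMk_le_trdeg

end alg2

section cat
open TensorProduct

/-- Pushout form of `exists_prime_injective` + `trdeg_le_of_ker`: in a pushout `K ⊔_{k'} L` of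
fields there is a prime such that any field-valued point with that kernel has transcendence
degree over `L` at least that of `K` over `k'`. -/
theorem exists_prime_pushout_trdeg_le {k' K L : Type u} [Field k'] [Field K] [Field L]
    (a : CommRingCat.of k' ⟶ CommRingCat.of K) (b : CommRingCat.of k' ⟶ CommRingCat.of L) :
    ∃ 𝔭 : PrimeSpectrum (pushout a b : CommRingCat.{u}),
      ∀ (Ω : Type u) [Field Ω] (Φ : (pushout a b : CommRingCat.{u}) ⟶ CommRingCat.of Ω),
        RingHom.ker Φ.hom = 𝔭.asIdeal →
        (letI := a.hom.toAlgebra; Algebra.trdeg k' K) ≤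
          (letI := (pushout.inr a b ≫ Φ).hom.toAlgebra; Algebra.trdeg L Ω) := by
  let algK : Algebra k' K := a.hom.toAlgebra
  let algL : Algebra k' L := b.hom.toAlgebra
  have hpo : IsPushout b a (CommRingCat.ofHom (S := L ⊗[k'] K)
      Algebra.TensorProduct.includeLeftRingHom)
      (CommRingCat.ofHom (S := L ⊗[k'] K) Algebra.TensorProduct.includeRight.toRingHom) :=
    CommRingCat.isPushout_tensorProduct k' L K
  have hpo' : IsPushout b a (pushout.inr a b) (pushout.inl a b) :=
    (IsPushout.of_hasPushout a b).flip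
  let e : (pushout a b : CommRingCat.{u}) ≅ CommRingCat.of (L ⊗[k'] K) := hpo'.isoIsPushout _ _ hpo
  have he1 : pushout.inr a b ≫ e.hom = CommRingCat.ofHom (S := L ⊗[k'] K)
      Algebra.TensorProduct.includeLeftRingHom := hpo'.inl_isoIsPushout_hom _ _ hpo
  have he2 : pushout.inl a b ≫ e.hom = CommRingCat.ofHom (S := L ⊗[k'] K)
      Algebra.TensorProduct.includeRight.toRingHom := hpo'.inr_isoIsPushout_hom _ _ hpo
  have : FaithfulSMul k' K := (faithfulSMul_iff_algebraMap_injective _ _).2 (algebraMap k' K).injective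
  obtain ⟨s, hs⟩ := exists_isTranscendenceBasis k' K
  obtain ⟨𝔭₀, h𝔭₀, h𝔭₀inj⟩ := exists_prime_injective (L := L) hs.1
  refine ⟨⟨𝔭₀.comap e.hom.hom, inferInstance⟩, ?_⟩
  intro Ω _ Φ hker
  let algΩ : Algebra L Ω := (pushout.inr a b ≫ Φ).hom.toAlgebra
  let Φ' : L ⊗[k'] K →ₐ[L] Ω :=
    { toRingHom := (e.inv ≫ Φ).hom
      commutes' := by
        intro l
        change Φ.hom (e.inv.hom (Algebra.TensorProduct.includeLeftRingHom l)) = _
        have h1 : (Algebra.TensorProduct.includeLeftRingHom l : L ⊗[k'] K) =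
            (pushout.inr a b ≫ e.hom).hom l := by rw [he1]; rfl
        rw [h1]
        have h2 : e.inv.hom ((pushout.inr a b ≫ e.hom).hom l) = (pushout.inr a b).hom l := by
          change ((pushout.inr a b ≫ e.hom) ≫ e.inv).hom l = _
          rw [Category.assoc, e.hom_inv_id, Category.comp_id]
        rw [h2]
        rfl }
  refine trdeg_le_of_ker hs Φ' (fun p hp => h𝔭₀inj p ?_)
  have h3 : e.inv.hom (polyToTensor (k' := k') (L := L) s p) ∈ RingHom.ker Φ.hom := hp
  rw [hker] at h3
  have h4 : e.hom.hom (e.inv.hom (polyToTensor (k' := k') (L := L) s p)) ∈ 𝔭₀ := h3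
  have h5 : e.hom.hom (e.inv.hom (polyToTensor (k' := k') (L := L) s p)) =
      polyToTensor (k' := k') (L := L) s p := by
    change (e.inv ≫ e.hom).hom _ = _
    rw [e.inv_hom_id]; rfl
  rwa [h5] at h4

end cat

section pushoutgen

/-- A pushout of commutative rings is generated by the images of the two legs. -/
theorem mem_closure_pushout {A B C : CommRingCat.{u}} (a : A ⟶ B) (b : A ⟶ C)
    (t : (pushout a b : CommRingCat.{u})) :
    t ∈ Subring.closure (Set.range (pushout.inl a b).hom ∪ Set.range (pushout.inr a b).hom) := by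
  set Cl := Subring.closure (Set.range (pushout.inl a b).hom ∪ Set.range (pushout.inr a b).hom)
    with hCl
  let i1 : B ⟶ CommRingCat.of Cl := CommRingCat.ofHom
    ((pushout.inl a b).hom.codRestrict Cl (fun x => Subring.subset_closure (Or.inl ⟨x, rfl⟩)))
  let i2 : C ⟶ CommRingCat.of Cl := CommRingCat.ofHom
    ((pushout.inr a b).hom.codRestrict Cl (fun x => Subring.subset_closure (Or.inr ⟨x, rfl⟩)))
  let j : CommRingCat.of Cl ⟶ (pushout a b : CommRingCat.{u}) := CommRingCat.ofHom Cl.subtype
  have hj : Function.Injective j.hom := Subtype.val_injective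
  have hw : a ≫ i1 = b ≫ i2 := by
    ext x
    change (pushout.inl a b).hom (a.hom x) = (pushout.inr a b).hom (b.hom x)
    have := congrArg (fun φ => φ.hom x) (pushout.condition (f := a) (g := b))
    exact this
  let d : (pushout a b : CommRingCat.{u}) ⟶ CommRingCat.of Cl := pushout.desc i1 i2 hw
  have hdj : d ≫ j = 𝟙 _ := by
    apply pushout.hom_ext
    · rw [pushout.inl_desc_assoc, Category.comp_id]; rfl
    · rw [pushout.inr_desc_assoc, Category.comp_id]; rfl
  have : t = j.hom (d.hom t) := by
    have := congrArg (fun φ => φ.hom t) hdj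
    exact this.symm
  rw [this]
  exact (d.hom t).2

end pushoutgen

section specgen

/-- The canonical map `R → κ(x)` for a point `x` of `Spec R`. -/
noncomputable def canSpec (R : CommRingCat.{u}) (x : Spec R) : R ⟶ (Spec R).residueField x :=
  CommRingCat.ofHom (algebraMap R x.asIdeal.ResidueField) ≫ (Scheme.Spec.residueFieldIso R x).inv

theorem SpecMap_canSpec (R : CommRingCat.{u}) (x : Spec R) :
    Spec.map (canSpec R x) = (Spec R).fromSpecResidueField x := by
  rw [canSpec, Spec.map_comp]
  exact Scheme.Spec.map_residueFieldIso_inv_eq_fromSpecResidueField R x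

theorem exists_div_canSpec (R : CommRingCat.{u}) (x : Spec R) (ω : (Spec R).residueField x) :
    ∃ a b : R, (canSpec R x).hom b ≠ 0 ∧ ω * (canSpec R x).hom b = (canSpec R x).hom a := by
  set e := Scheme.Spec.residueFieldIso R x with he
  obtain ⟨a', b', hb', hab⟩ := IsFractionRing.div_surjective (A := R ⧸ x.asIdeal) (e.hom.hom ω)
  obtain ⟨a, rfl⟩ := Ideal.Quotient.mk_surjective a'
  obtain ⟨b, rfl⟩ := Ideal.Quotient.mk_surjective b'
  have hb0 : algebraMap (R ⧸ x.asIdeal) x.asIdeal.ResidueField (Ideal.Quotient.mk _ b) ≠ 0 := by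
    intro h
    have := (IsFractionRing.injective (R ⧸ x.asIdeal) x.asIdeal.ResidueField)
      (h.trans (map_zero _).symm)
    exact (nonZeroDivisors.ne_zero hb') this
  have hcan : ∀ r : R, (canSpec R x).hom r =
      e.inv.hom (algebraMap (R ⧸ x.asIdeal) x.asIdeal.ResidueField (Ideal.Quotient.mk _ r)) :=
    fun r => rfl
  have hinj : Function.Injective e.inv.hom := by
    intro u v huv
    have := congrArg e.hom.hom huv
    change (e.inv ≫ e.hom).hom u = (e.inv ≫ e.hom).hom v at this
    rwa [e.inv_hom_id] at this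
  refine ⟨a, b, ?_, ?_⟩
  · rw [hcan]
    intro h
    exact hb0 (hinj (h.trans (map_zero _).symm))
  · rw [hcan, hcan]
    have h1 : ω = e.inv.hom (e.hom.hom ω) := by
      change ω = (e.hom ≫ e.inv).hom ω
      rw [e.hom_inv_id]; rfl
    rw [h1, ← map_mul, ← hab, div_mul_cancel₀ _ hb0]

end specgen

section gen
open Scheme.Pullback
variable {X Y S : Scheme.{u}} {f : X ⟶ S} {g : Y ⟶ S}

/-- generation of the residue field at a point of the form `T.SpecTensorTo 𝔮`. -/
theorem exists_div_ofPointTensor_SpecTensorTo (T : Triplet f g) (𝔮 : Spec T.tensor)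
    (ω : (pullback f g).residueField (T.SpecTensorTo 𝔮)) :
    ∃ a b : (Triplet.ofPoint (T.SpecTensorTo 𝔮)).tensor,
      (ofPointTensor (T.SpecTensorTo 𝔮)).hom b ≠ 0 ∧
      ω * (ofPointTensor (T.SpecTensorTo 𝔮)).hom b = (ofPointTensor (T.SpecTensorTo 𝔮)).hom a := by
  set ρ := Scheme.Hom.residueFieldMap T.SpecTensorTo 𝔮 with hρ
  set tc := (Triplet.tensorCongr (T.ofPoint_SpecTensorTo 𝔮).symm).hom with htc
  have h1 : tc ≫ ofPointTensor (T.SpecTensorTo 𝔮) ≫ ρ = canSpec T.tensor 𝔮 := by
    apply Spec.map_injective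
    rw [SpecMap_canSpec, Spec.map_comp, Spec.map_comp, Category.assoc]
    exact Triplet.Spec_ofPointTensor_SpecTensorTo T 𝔮
  obtain ⟨a, b, hb, hab⟩ := exists_div_canSpec T.tensor 𝔮 (ρ.hom ω)
  have hcan : ∀ t, (canSpec T.tensor 𝔮).hom t =
      ρ.hom ((ofPointTensor (T.SpecTensorTo 𝔮)).hom (tc.hom t)) := by
    intro t
    rw [← h1]; rfl
  have hρinj : Function.Injective ρ.hom := ρ.hom.injective
  refine ⟨tc.hom a, tc.hom b, ?_, ?_⟩
  · intro h
    apply hb
    rw [hcan, h, map_zero]
  · apply hρinj
    rw [map_mul, ← hcan, ← hcan]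
    exact hab

/-- **Generation**: the residue field of a point `z` of a fibre product is generated, as a field,
by the image of `κ(x) ⊗ κ(y)`. -/
theorem exists_div_ofPointTensor (z : ↑(pullback f g)) (ω : (pullback f g).residueField z) :
    ∃ a b : (Triplet.ofPoint z).tensor,
      (ofPointTensor z).hom b ≠ 0 ∧ ω * (ofPointTensor z).hom b = (ofPointTensor z).hom a := by
  let G : ↑(pullback f g) → Prop := fun z' => ∀ ω : (pullback f g).residueField z',
      ∃ a b : (Triplet.ofPoint z').tensor,
      (ofPointTensor z').hom b ≠ 0 ∧ ω * (ofPointTensor z').hom b = (ofPointTensor z').hom a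
  have hG : G ((Triplet.ofPoint z).SpecTensorTo (SpecOfPoint z)) :=
    fun ω => exists_div_ofPointTensor_SpecTensorTo _ _ ω
  have h := SpecTensorTo_SpecOfPoint z
  exact (Eq.mp (congrArg G h) hG) ω

end gen

section restrdeg
open Scheme.Pullback

/-- The transcendence degree of the residue field of `x` over that of `q x`. -/
noncomputable def resTrdeg {X T : Scheme.{u}} (q : X ⟶ T) (x : X) : Cardinal.{u} :=
  letI := (q.residueFieldMap x).hom.toAlgebra
  Algebra.trdeg (T.residueField (q x)) (X.residueField x)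

/-- invariance under precomposition with an open immersion -/
theorem resTrdeg_comp_of_isOpenImmersion {X' X T : Scheme.{u}} (j : X' ⟶ X) [IsOpenImmersion j]
    (q : X ⟶ T) (x' : X') : resTrdeg (j ≫ q) x' = resTrdeg q (j x') := by
  unfold resTrdeg
  let _ : Algebra (T.residueField (q (j x'))) (X.residueField (j x')) :=
    (q.residueFieldMap (j x')).hom.toAlgebra
  let _ : Algebra (T.residueField (q (j x'))) (X'.residueField x') :=
    ((j ≫ q).residueFieldMap x').hom.toAlgebra
  let ι := asIso (j.residueFieldMap x')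
  let e : X.residueField (j x') ≃ₐ[T.residueField (q (j x'))] X'.residueField x' :=
    { ι.commRingCatIsoToRingEquiv with
      commutes' := by
        intro a
        change (j.residueFieldMap x').hom ((q.residueFieldMap (j x')).hom a) =
          ((j ≫ q).residueFieldMap x').hom a
        rw [Scheme.residueFieldMap_comp]
        rfl }
  exact e.trdeg_eq.symm

variable {X Y S : Scheme.{u}} (f : X ⟶ S) (g : Y ⟶ S)

/-- (A1), canonical pullback. -/
theorem resTrdeg_snd_le (z : ↑(pullback f g)) :
    resTrdeg (pullback.snd f g) z ≤ resTrdeg f (pullback.fst f g z) := by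
  unfold resTrdeg
  let _ : Algebra (S.residueField (f (pullback.fst f g z))) (X.residueField (pullback.fst f g z)) :=
    (f.residueFieldMap (pullback.fst f g z)).hom.toAlgebra
  let _ : Algebra (Y.residueField (pullback.snd f g z)) ((pullback f g).residueField z) :=
    ((pullback.snd f g).residueFieldMap z).hom.toAlgebra
  refine trdeg_le_of_generated ((pullback.fst f g).residueFieldMap z).hom ?_ ?_
  · intro c
    have h := residueFieldCongr_inv_residueFieldMap_ofPoint (f := f) (g := g) z
    refine ⟨(g.residueFieldMap (pullback.snd f g z)).hom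
      ((S.residueFieldCongr (Triplet.ofPoint z).hy).inv.hom c), ?_⟩
    have h' := congrArg (fun φ => φ.hom c) h
    simp only [Scheme.residueFieldCongr_inv] at h'
    exact h'.symm
  · intro ω
    obtain ⟨a, b, hb, hab⟩ := exists_div_ofPointTensor z ω
    have hmem : ∀ t : (Triplet.ofPoint z).tensor, (ofPointTensor z).hom t ∈
        Subring.closure (Set.range ((pullback.fst f g).residueFieldMap z).hom ∪
          Set.range (algebraMap (Y.residueField (pullback.snd f g z))
            ((pullback f g).residueField z))) := by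
      intro t
      have ht := mem_closure_pushout _ _ t
      have hle : Subring.closure (Set.range (Triplet.ofPoint z).tensorInl.hom ∪
          Set.range (Triplet.ofPoint z).tensorInr.hom) ≤
          (Subring.closure (Set.range ((pullback.fst f g).residueFieldMap z).hom ∪
          Set.range (algebraMap (Y.residueField (pullback.snd f g z))
            ((pullback f g).residueField z)))).comap (ofPointTensor z).hom := by
        have hinl : (Triplet.ofPoint z).tensorInl ≫ ofPointTensor z =
            (pullback.fst f g).residueFieldMap z := pushout.inl_desc _ _ _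
        have hinr : (Triplet.ofPoint z).tensorInr ≫ ofPointTensor z =
            (pullback.snd f g).residueFieldMap z := pushout.inr_desc _ _ _
        rw [Subring.closure_le]
        rintro _ (⟨κ, rfl⟩ | ⟨κ, rfl⟩)
        · apply Subring.subset_closure
          left
          exact ⟨κ, (congrArg (fun φ => φ.hom κ) hinl).symm⟩
        · apply Subring.subset_closure
          right
          exact ⟨κ, (congrArg (fun φ => φ.hom κ) hinr).symm⟩
      exact hle ht
    exact ⟨_, _, hmem a, hmem b, hb, hab⟩

end restrdeg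

section restrdeg2
open Scheme.Pullback
variable {X Y S : Scheme.{u}} (f : X ⟶ S) (g : Y ⟶ S)

/-- the predicate used to transport along `carrierEquiv`. -/
def QPred : (Σ T : Triplet f g, Spec T.tensor) → Prop := fun p =>
  ∀ (Ω : Type u) [Field Ω] (Φ : p.1.tensor ⟶ CommRingCat.of Ω),
    RingHom.ker Φ.hom = p.2.asIdeal →
    resTrdeg f p.1.x ≤
      (letI := (p.1.tensorInr ≫ Φ).hom.toAlgebra; Algebra.trdeg (Y.residueField p.1.y) Ω)

theorem exists_QPred (T : Triplet f g) : ∃ 𝔭 : Spec T.tensor, QPred f g ⟨T, 𝔭⟩ := by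
  obtain ⟨𝔭, h𝔭⟩ := exists_prime_pushout_trdeg_le
    (k' := S.residueField T.s) (K := X.residueField T.x) (L := Y.residueField T.y)
    ((S.residueFieldCongr T.hx).inv ≫ f.residueFieldMap T.x)
    ((S.residueFieldCongr T.hy).inv ≫ g.residueFieldMap T.y)
  refine ⟨𝔭, ?_⟩
  intro Ω _ Φ hker
  refine le_trans ?_ (h𝔭 Ω Φ hker)
  -- same image, same transcendence degree
  unfold resTrdeg
  let _ : Algebra (S.residueField (f T.x)) (X.residueField T.x) :=
    (f.residueFieldMap T.x).hom.toAlgebra
  let _ : Algebra (S.residueField T.s) (X.residueField T.x) :=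
    ((S.residueFieldCongr T.hx).inv ≫ f.residueFieldMap T.x).hom.toAlgebra
  refine trdeg_le_of_generated (RingHom.id _) ?_ ?_
  · intro c
    exact ⟨(S.residueFieldCongr T.hx).inv.hom c, rfl⟩
  · intro ω
    refine ⟨ω, 1, Subring.subset_closure (Or.inl ⟨ω, rfl⟩), Subring.one_mem _, one_ne_zero,
      mul_one ω⟩

end restrdeg2

section restrdeg3
open Scheme.Pullback
variable {X Y S : Scheme.{u}} (f : X ⟶ S) (g : Y ⟶ S)

/-- (A2), canonical pullback: over a pair of points with the same image there is a point of the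
fibre product whose residue transcendence degree over the second factor is at least that of the
first point over the base. -/
theorem exists_resTrdeg_le (x : X) (y : Y) (h : f x = g y) :
    ∃ z : ↑(pullback f g), pullback.fst f g z = x ∧ pullback.snd f g z = y ∧
      resTrdeg f (pullback.fst f g z) ≤ resTrdeg (pullback.snd f g) z := by
  set T : Triplet f g := Triplet.mk' x y h with hT
  obtain ⟨𝔭, h𝔭⟩ := exists_QPred f g T
  set z : ↑(pullback f g) := carrierEquiv.symm ⟨T, 𝔭⟩ with hz
  have hce : carrierEquiv z = ⟨T, 𝔭⟩ := carrierEquiv.apply_symm_apply _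
  have hQ : QPred f g (carrierEquiv z) := by rw [hce]; exact h𝔭
  refine ⟨z, carrierEquiv_symm_fst T 𝔭, carrierEquiv_symm_snd T 𝔭, ?_⟩
  have h1 := hQ ((pullback f g).residueField z) (ofPointTensor z) rfl
  have hinr : (Triplet.ofPoint z).tensorInr ≫ ofPointTensor z =
      (pullback.snd f g).residueFieldMap z := pushout.inr_desc _ _ _
  have h2 : (letI := ((Triplet.ofPoint z).tensorInr ≫ ofPointTensor z).hom.toAlgebra
      Algebra.trdeg (Y.residueField (Triplet.ofPoint z).y) ((pullback f g).residueField z)) =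
      resTrdeg (pullback.snd f g) z := by
    unfold resTrdeg
    rw [hinr]
    rfl
  rw [← h2]
  exact h1

end restrdeg3

section abstractsq
variable {P X Y S : Scheme.{u}} {p₁ : P ⟶ X} {p₂ : P ⟶ Y} {f : X ⟶ S} {g : Y ⟶ S}

/-- (A1) for a cartesian square. -/
theorem resTrdeg_le_of_isPullback (h : IsPullback p₁ p₂ f g) (z : P) :
    resTrdeg p₂ z ≤ resTrdeg f (p₁ z) := by
  have h1 : resTrdeg (h.isoPullback.hom ≫ pullback.snd f g) z ≤
      resTrdeg f ((h.isoPullback.hom ≫ pullback.fst f g) z) := by
    rw [resTrdeg_comp_of_isOpenImmersion]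
    exact resTrdeg_snd_le f g (h.isoPullback.hom z)
  rwa [h.isoPullback_hom_snd, h.isoPullback_hom_fst] at h1

/-- (A2) for a cartesian square. -/
theorem exists_resTrdeg_le_of_isPullback (h : IsPullback p₁ p₂ f g) (x : X) (y : Y)
    (hxy : f x = g y) :
    ∃ z : P, p₁ z = x ∧ p₂ z = y ∧ resTrdeg f x ≤ resTrdeg p₂ z := by
  obtain ⟨z', hz'x, hz'y, hz'⟩ := exists_resTrdeg_le f g x y hxy
  set e := h.isoPullback with he
  have hez : e.hom (e.inv z') = z' := by
    rw [← Scheme.Hom.comp_apply, e.inv_hom_id]; rfl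
  refine ⟨e.inv z', ?_, ?_, ?_⟩
  · rw [← h.isoPullback_hom_fst, ← he, Scheme.Hom.comp_apply, hez, hz'x]
  · rw [← h.isoPullback_hom_snd, ← he, Scheme.Hom.comp_apply, hez, hz'y]
  · have h1 : resTrdeg p₂ (e.inv z') = resTrdeg (pullback.snd f g) z' := by
      rw [← h.isoPullback_hom_snd, ← he, resTrdeg_comp_of_isOpenImmersion, hez]
    rw [h1, ← hz'x]
    exact hz'

end abstractsq

end Groth.Agent.Lib.T2H2.ResTrdeg
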