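import Groth.Agent.Lib.T2H2AcycBasis
import Groth.Agent.S0943
import Groth.Prelude.Def_DCoh2

/-!
# Cohomology sheaves of a derived limit over an acyclic basis (T2H2)

`isIso_of_rlim_basis`: abstract form (via `LocFr`) of: if `L = R lim K_n`, the objects of a
"basis" compute `H^q(K_n)` by `cm` and the tower `Hom(ℤ_W, K_n[q-1])` has vanishing `R¹ lim`, then
`H^q(L) ⟶ lim H^q(K_n)` is an isomorphism.  `site_rlim`: the statement on a site.
-/

set_option autoImplicit false
set_option linter.style.haveILetI false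
universe w w' v v' u u'
open CategoryTheory CategoryTheory.Limits Opposite

namespace Groth.Agent.Lib.T2H2.RlimBasis

open Groth.Agent.Lib.Helper17.Hyp DerivedCategory Pretriangulated Groth.Agent.S14388
  Groth.Agent.Lib.T2H2.NegVan Groth.Agent.Lib.T2H2.AcycBasis

section LimOne

/-- transport of `LimOneIsZero` along additive bijections commuting with the transition maps. -/
theorem limOneIsZero_of_bijective {A A' : ℕ → Type*} [∀ n, AddCommGroup (A n)]
    [∀ n, AddCommGroup (A' n)] (t : ∀ n, A (n + 1) →+ A n) (t' : ∀ n, A' (n + 1) →+ A' n)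
    (e : ∀ n, A n →+ A' n) (he : ∀ n, Function.Bijective (e n))
    (hcomm : ∀ n (x : A (n + 1)), e n (t n x) = t' n (e (n + 1) x))
    (h : CohCx.LimOneIsZero A' t') : CohCx.LimOneIsZero A t := by
  intro b
  obtain ⟨a', ha'⟩ := h (fun n => e n (b n))
  choose a ha using fun n => (he n).2 (a' n)
  refine ⟨a, ?_⟩
  funext n
  apply (he n).1
  have := congrFun ha' n
  dsimp only at this ⊢
  rw [map_sub, hcomm, ha, ha]
  exact this

end LimOne

section Abs

variable {A : Type (v + 1)} [Category.{v} A] [Abelian A] [HasDerivedCategory.{w} A]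
  {C : Type u'} [Category.{v'} C] {J : GrothendieckTopology C} {fr : C ⥤ A}

theorem isIso_of_rlim_basis (hfr : LocFr J fr) {K : ℕ → DerivedCategory A}
    {t : ∀ n, K (n + 1) ⟶ K n} [HasProduct K] {L : DerivedCategory A} {a : ∀ n, L ⟶ K n}
    (hL : CohCx.IsRlimVia K t L a) (Bs : Set C) (hB : IsBasisFor J Bs) (q : ℤ)
    (h1 : ∀ W ∈ Bs, ∀ n, Function.Bijective (fun ξ : dsgl (fr.obj W) ⟶ (K n)⟦q⟧ => cm ξ))
    (h2 : ∀ W ∈ Bs, CohCx.LimOneIsZero (fun n => dsgl (fr.obj W) ⟶ (K n)⟦q - 1⟧)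
      (fun n => Preadditive.rightComp _ ((t n)⟦q - 1⟧')))
    {G : A} (π : ∀ n, G ⟶ (homologyFunctor A q).obj (K n))
    (hπt : ∀ n, π (n + 1) ≫ (homologyFunctor A q).map (t n) = π n)
    (hπ : ∀ {X : A} (s : X ⟶ G), (∀ n, s ≫ π n = 0) → s = 0)
    (φ : (homologyFunctor A q).obj L ⟶ G) (hφ : ∀ n, φ ≫ π n = (homologyFunctor A q).map (a n)) :
    IsIso φ := by
  haveI : Mono φ := by
    apply Abelian.mono_of_kernel_ι_eq_zero
    apply hfr.gen
    intro U s₀
    -- `s := s₀ ≫ kernel.ι φ` is killed by all `H^q(a n)`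
    have hs : ∀ n, (s₀ ≫ kernel.ι φ) ≫ (homologyFunctor A q).map (a n) = 0 := by
      intro n
      rw [← hφ n, Category.assoc, kernel.condition_assoc, zero_comp, comp_zero]
    generalize s₀ ≫ kernel.ι φ = s at hs
    obtain ⟨T, hT, hT'⟩ := exists_lift_cm hfr L q U s
    let S : Sieve U :=
      { arrows := fun V h => fr.map h ≫ s = 0
        downward_closed := by
          intro V V' h hh g
          rw [Functor.map_comp, Category.assoc, hh, comp_zero] }
    refine hfr.sep U s S ?_ (fun V f hf => hf)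
    apply J.transitive hT S
    intro V f hf
    obtain ⟨ξ, hξ⟩ := hT' f hf
    obtain ⟨T', hT'mem, hT''⟩ := hB V
    apply J.superset_covering ?_ hT'mem
    intro V' g hg
    obtain ⟨W, a', b, hW, hab⟩ := hT'' g hg
    change fr.map (g ≫ f) ≫ s = 0
    rw [Functor.map_comp, Category.assoc, ← hξ, ← cm_res, ← hab, ← res_res]
    have h0 : res fr b ξ = 0 := by
      refine (Groth.Agent.S0943.milnor_general hL (dsgl (fr.obj W)) q).2 (h2 W hW) _ (fun n => ?_)
      apply (h1 W hW n).1
      dsimp only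
      rw [cm_comp, cm_res, hξ, cm_zero, Category.assoc, Category.assoc, hs, comp_zero, comp_zero]
    rw [h0, res_zero, cm_zero]
  haveI : Epi φ := by
    apply epi_of_local_lift hfr
    intro U s
    obtain ⟨T, hTmem, hT⟩ := hB U
    refine ⟨T.arrows, by rwa [Sieve.generate_sieve], ?_⟩
    intro V g hg
    obtain ⟨W, a', b, hW, hab⟩ := hT g hg
    -- solve over `W`, then restrict to `V`
    have key : ∃ s' : fr.obj W ⟶ (homologyFunctor A q).obj L, s' ≫ φ = fr.map b ≫ s := by
      choose ξ hξ using fun n => (h1 W hW n).2 (fr.map b ≫ s ≫ π n)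
      have hcompat : ∀ n, ξ (n + 1) ≫ (t n)⟦q⟧' = ξ n := by
        intro n
        apply (h1 W hW n).1
        dsimp only at hξ ⊢
        rw [cm_comp, hξ, hξ, Category.assoc, Category.assoc]
        rw [hπt]
      obtain ⟨y, hy⟩ := (Groth.Agent.S0943.milnor_general hL (dsgl (fr.obj W)) q).1 ξ hcompat
      refine ⟨cm y, ?_⟩
      rw [← sub_eq_zero]
      apply hπ
      intro n
      rw [Preadditive.sub_comp, Category.assoc, hφ, ← cm_comp, hy, Category.assoc]
      dsimp only at hξ
      rw [hξ, sub_self]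
    obtain ⟨s', hs'⟩ := key
    refine ⟨fr.map a' ≫ s', ?_⟩
    rw [Category.assoc, hs', ← Category.assoc, ← Functor.map_comp, hab]
  exact isIso_of_mono_of_epi φ

end Abs

section Site

variable {C : Type u} [SmallCategory C] {J : GrothendieckTopology C}
  [HasDerivedCategory.{u} (Sheaf J AddCommGrpCat.{u})]

omit [HasDerivedCategory.{u} (Sheaf J AddCommGrpCat.{u})] in
lemma isBasisFor_of_ofArrows (B : Set C)
    (hB : ∀ U : C, ∃ (ι : Type u) (Y : ι → C) (f : ∀ i, Y i ⟶ U),
      Sieve.ofArrows Y f ∈ J U ∧ ∀ i, Y i ∈ B) : IsBasisFor J B := by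
  intro U
  obtain ⟨ι, Y, f, hcov, hY⟩ := hB U
  refine ⟨Sieve.ofArrows Y f, hcov, ?_⟩
  rintro V g ⟨W, a, b, ⟨i⟩, rfl⟩
  exact ⟨_, a, f i, hY i, rfl⟩

theorem bijective_cm_site (K : DerivedCategory (Sheaf J AddCommGrpCat.{u})) (B : Set C)
    (hB : ∀ U : C, ∃ (ι : Type u) (Y : ι → C) (f : ∀ i, Y i ⟶ U),
      Sieve.ofArrows Y f ∈ J U ∧ ∀ i, Y i ∈ B)
    (h : ∀ U ∈ B, ∀ (p : ℕ) (q : ℤ), Subsingleton (CohSite.HU (CohCx.HD K q) (p + 1) U))
    (U : C) (hU : U ∈ B) (q : ℤ) :
    Function.Bijective (fun ξ : dsgl (CohCx.freeSheaf J U) ⟶ K⟦q⟧ => cm ξ) :=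
  (Function.Bijective.of_comp_iff' (CohFree.homEquivSect J U (CohCx.HD K q)).bijective _).1
    (site_main K B hB h U hU q)

lemma canonU_comp {K K' : DerivedCategory (Sheaf J AddCommGrpCat.{u})} (φ : K ⟶ K') (m : ℤ)
    (W : C) (ξ : dsgl (CohCx.freeSheaf J W) ⟶ K⟦m⟧) :
    canonU K' m W (ξ ≫ φ⟦m⟧') =
      (((homologyFunctor _ m).map φ).hom.app (op W)).hom (canonU K m W ξ) := by
  have h := cm_comp ξ φ
  exact (congrArg (CohFree.evalGen J W (CohCx.HD K' m)) h).trans rfl

lemma isRlimVia_of_isRlim {K : ℕ → DerivedCategory (Sheaf J AddCommGrpCat.{u})}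
    {t : ∀ n, K (n + 1) ⟶ K n} [HasProduct K] {L : DerivedCategory (Sheaf J AddCommGrpCat.{u})}
    (hL : DCoh.IsRlim K t L) :
    ∃ a : ∀ n, L ⟶ K n, CohCx.IsRlimVia K t L a := by
  obtain ⟨a, c, hc⟩ := hL
  refine ⟨fun n => a ≫ Pi.π K n, c, ?_⟩
  have : Pi.lift (fun n => a ≫ Pi.π K n) = a := by
    apply Pi.hom_ext
    intro n
    rw [Pi.lift_π]
  rw [this]
  exact hc

theorem site_rlim (K : ℕ → DerivedCategory (Sheaf J AddCommGrpCat.{u})) (t : ∀ n, K (n + 1) ⟶ K n)
    [HasProduct K] (L : DerivedCategory (Sheaf J AddCommGrpCat.{u})) (hL : DCoh.IsRlim K t L)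
    (B : Set C)
    (hB : ∀ U : C, ∃ (ι : Type u) (Y : ι → C) (f : ∀ i, Y i ⟶ U),
      Sieve.ofArrows Y f ∈ J U ∧ ∀ i, Y i ∈ B)
    (h1 : ∀ U ∈ B, ∀ (p : ℕ) (q : ℤ) (n : ℕ),
      Subsingleton (CohSite.HU (CohCx.HD (K n) q) (p + 1) U))
    (h2 : ∀ U ∈ B, ∀ (q : ℤ), CohCx.LimOneIsZero (fun n => (CohCx.HD (K n) q).obj.obj (op U))
      (fun n => (((DerivedCategory.homologyFunctor _ q).map (t n)).hom.app (op U)).hom))
    (q : ℤ) :
    Nonempty (CohCx.HD L q ≅ limit (CohCx.opSequence (fun n => CohCx.HD (K n) q)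
      (fun n => (DerivedCategory.homologyFunctor _ q).map (t n)))) := by
  obtain ⟨a, hLa⟩ := isRlimVia_of_isRlim hL
  let D := CohCx.opSequence (fun n => CohCx.HD (K n) q)
    (fun n => (DerivedCategory.homologyFunctor _ q).map (t n))
  have hcomp : ∀ n, (DerivedCategory.homologyFunctor _ q).map (a (n + 1)) ≫
      (DerivedCategory.homologyFunctor _ q).map (t n) =
        (DerivedCategory.homologyFunctor _ q).map (a n) := fun n => by
    rw [← Functor.map_comp, isRlimVia_comp_t hLa]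
  let cone : Cone D :=
    { pt := CohCx.HD L q
      π := NatTrans.ofOpSequence (F := (Functor.const _).obj (CohCx.HD L q))
        (fun n => (DerivedCategory.homologyFunctor _ q).map (a n)) (fun n => by
          simp only [Functor.const_obj_obj, Functor.const_obj_map, Category.id_comp]
          rw [show D.map (homOfLE (Nat.le_add_right n 1)).op =
            (DerivedCategory.homologyFunctor _ q).map (t n) from
              Functor.ofOpSequence_map_homOfLE_succ _ n]
          exact (hcomp n).symm) }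
  let φ : CohCx.HD L q ⟶ limit D := limit.lift D cone
  haveI : IsIso φ := by
    refine isIso_of_rlim_basis (fr := frSh J) (locFr_frSh J) hLa B (isBasisFor_of_ofArrows B hB) q
      (fun W hW n => bijective_cm_site (K n) B hB (fun U hU p q => h1 U hU p q n) W hW q)
      (fun W hW => ?_) (fun n => limit.π D (op n)) (fun n => ?_) (fun {X} s hs => ?_) φ
      (fun n => limit.lift_π cone (op n))
    · refine limOneIsZero_of_bijective _ _ (fun n => canonU (K n) (q - 1) W)
        (fun n => site_main (K n) B hB (fun U hU p q => h1 U hU p q n) W hW (q - 1))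
        (fun n x => ?_) (h2 W hW (q - 1))
      exact canonU_comp (t n) (q - 1) W x
    · have := limit.w D (homOfLE (Nat.le_add_right n 1)).op
      rw [show D.map (homOfLE (Nat.le_add_right n 1)).op =
        (DerivedCategory.homologyFunctor _ q).map (t n) from
          Functor.ofOpSequence_map_homOfLE_succ _ n] at this
      exact this
    · apply limit.hom_ext
      rintro ⟨n⟩
      rw [zero_comp]
      exact hs n
  exact ⟨asIso φ⟩

end Site

end Groth.Agent.Lib.T2H2.RlimBasis
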