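import Mathlib
import Groth.Agent.Lib.T2H5GenIsoF

/-!
# Filtrations of coherent modules by direct images of ideals of integral closed subschemes (helper5)
-/

set_option autoImplicit false
set_option linter.unusedSectionVars false
set_option linter.style.haveILetI false
universe u
open CategoryTheory CategoryTheory.Limits AlgebraicGeometry

namespace Groth.Agent.Lib.T2H5.FiltCat

variable {𝒜 : Type*} [Category 𝒜] [Abelian 𝒜]

section pullbackSES

variable {A B C C' : 𝒜} (f : A ⟶ B) (g : B ⟶ C) (w : f ≫ g = 0) (c : C' ⟶ C)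

/-- the map `A ⟶ g⁻¹(C')`. -/
noncomputable def liftA : A ⟶ pullback g c := pullback.lift f 0 (by rw [w, zero_comp])

theorem liftA_fst : liftA f g w c ≫ pullback.fst g c = f := pullback.lift_fst _ _ _

theorem liftA_snd : liftA f g w c ≫ pullback.snd g c = 0 := pullback.lift_snd _ _ _

/-- the pulled back short exact sequence `0 → A → g⁻¹(C') → C' → 0`. -/
theorem shortExact_pullback (hS : (ShortComplex.mk f g w).ShortExact) :
    (ShortComplex.mk (liftA f g w c) (pullback.snd g c) (liftA_snd f g w c)).ShortExact := by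
  haveI : Mono f := hS.mono_f
  haveI : Epi g := hS.epi_g
  haveI : Mono (liftA f g w c) := mono_of_mono_fac (liftA_fst f g w c)
  haveI : Epi (pullback.snd g c) := inferInstance
  refine ShortComplex.ShortExact.mk (ShortComplex.exact_of_f_is_kernel _ ?_)
  refine KernelFork.IsLimit.ofι _ _ (fun {W} k hk => hS.exact.lift (k ≫ pullback.fst g c) ?_) ?_ ?_
  · rw [Category.assoc, pullback.condition, reassoc_of% hk, zero_comp]
  · intro W k hk
    refine pullback.hom_ext ?_ ?_
    · rw [Category.assoc, liftA_fst]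
      exact hS.exact.lift_f _ _
    · rw [Category.assoc, liftA_snd, comp_zero, hk]
  · intro W k hk m hm
    rw [← cancel_mono f]
    rw [hS.exact.lift_f, ← hm, Category.assoc, liftA_fst]

end pullbackSES


section cokerPullback

variable {B C C' : 𝒜} (g : B ⟶ C) [Epi g] (c : C' ⟶ C) [Mono c]

theorem fst_comp_zero : pullback.fst g c ≫ g ≫ cokernel.π c = 0 := by
  rw [pullback.condition_assoc, cokernel.condition, comp_zero]

/-- `g⁻¹(C')` is the kernel of `B → C → C/C'`. -/
noncomputable def isLimitFst : IsLimit (KernelFork.ofι (pullback.fst g c) (fst_comp_zero g c)) :=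
  KernelFork.IsLimit.ofι _ _
    (fun {W} k hk => pullback.lift k (Abelian.monoLift c (k ≫ g) (by rw [Category.assoc]; exact hk))
      (by rw [Abelian.monoLift_comp]))
    (fun {W} k hk => pullback.lift_fst _ _ _)
    (fun {W} k hk m hm => by
      rw [← cancel_mono (pullback.fst g c), hm, pullback.lift_fst])

/-- `B / g⁻¹(C') ≅ C / C'`. -/
noncomputable def cokernelPullbackFstIso : cokernel (pullback.fst g c) ≅ cokernel c :=
  IsColimit.coconePointUniqueUpToIso (colimit.isColimit _)
    (Abelian.epiIsCokernelOfKernel (f := g ≫ cokernel.π c) _ (isLimitFst g c))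

end cokerPullback


section filt

open Groth.Agent.Lib.T2H5.IdealMul Groth.Agent.Lib.T2H5.Devissage Groth.Agent.Lib.T2H5.GenIsoA
open Groth.Agent.Lib.T2H5.GenIsoB Groth.Agent.Lib.T2H5.GenIsoC Groth.Agent.Lib.T2H5.GenIsoD
open Groth.Agent.Lib.T2H5.GenIsoE Groth.Agent.Lib.T2H5.GenIsoF

variable {X : Scheme.{u}}

/-- `Q` is the direct image of a nonzero quasi-coherent ideal of an integral closed subscheme. -/
def StepOK (Q : X.Modules) : Prop :=
  ∃ (Z : Scheme.{u}) (i : Z ⟶ X), IsClosedImmersion i ∧ IsIntegral Z ∧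
    ∃ (I : Z.Modules) (ι : I ⟶ Coh.structureModule Z), Mono ι ∧ Coh.IsQCoh I ∧ ¬ IsZero I ∧
      Nonempty (Q ≅ (Coh.push i).obj I)

theorem StepOK.of_iso {Q Q' : X.Modules} (e : Q ≅ Q') (h : StepOK Q) : StepOK Q' := by
  obtain ⟨Z, i, h1, h2, I, ι, h3, h4, h5, ⟨e'⟩⟩ := h
  exact ⟨Z, i, h1, h2, I, ι, h3, h4, h5, ⟨e.symm ≪≫ e'⟩⟩

/-- modules with a finite filtration whose successive quotients are direct images of nonzero ideals of integral
closed subschemes. -/
inductive Filt : X.Modules → Prop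
  | zero (M : X.Modules) : IsZero M → Filt M
  | snoc (N M : X.Modules) (φ : N ⟶ M) : Mono φ → Coh.IsCoh N → Coh.IsCoh M → Filt N →
      StepOK (cokernel φ) → Filt M

theorem Filt.of_iso {M M' : X.Modules} (e : M ≅ M') (h : Filt M) : Filt M' := by
  cases h with
  | zero _ hz => exact Filt.zero _ (hz.of_iso e.symm)
  | snoc N _ φ hφ hN hM hFN hQ =>
    haveI := hφ
    refine Filt.snoc N M' (φ ≫ e.hom) inferInstance hN (isCoh_of_iso e hM) hFN ?_
    exact hQ.of_iso (cokernel.mapIso φ (φ ≫ e.hom) (Iso.refl _) e (by simp))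

theorem isCoh_pullback_mod [IsLocallyNoetherian X] {B C C' : X.Modules} (g : B ⟶ C) (c : C' ⟶ C) [Mono c]
    (hB : Coh.IsCoh B) (hC : Coh.IsCoh C) (hC' : Coh.IsCoh C') : Coh.IsCoh (pullback g c) := by
  haveI := hB.1
  haveI := hC.1
  haveI := hC'.1
  exact isCoh_of_mono (pullback.fst g c) hB
    (Groth.Agent.Lib.Helper23.QCohLocal.isQuasicoherent_pullback g c)

/-- `Filt` is closed under extensions of coherent modules. -/
theorem Filt.ext [IsLocallyNoetherian X] {C : X.Modules} (hC : Filt C) :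
    ∀ {A B : X.Modules} (f : A ⟶ B) (g : B ⟶ C) (w : f ≫ g = 0), (ShortComplex.mk f g w).ShortExact →
      Coh.IsCoh A → Coh.IsCoh B → Coh.IsCoh C → Filt A → Filt B := by
  induction hC with
  | zero C hz =>
    intro A B f g w hS hA hB _ hFA
    haveI : Mono f := hS.mono_f
    haveI : Epi f := by
      have h := hS.exact
      have hg : g = 0 := hz.eq_of_tgt _ _
      exact (ShortComplex.exact_iff_epi _ hg).1 h
    haveI : IsIso f := isIso_of_mono_of_epi f
    exact hFA.of_iso (asIso f)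
  | snoc C' C c hc hC'coh hCcoh hFC' hQ ih =>
    intro A B f g w hS hA hB _ hFA
    haveI := hc
    haveI : Epi g := hS.epi_g
    have hB' : Coh.IsCoh (pullback g c) := isCoh_pullback_mod g c hB hCcoh hC'coh
    have hFB' : Filt (pullback g c) :=
      ih (liftA f g w c) (pullback.snd g c) (liftA_snd f g w c) (shortExact_pullback f g w c hS) hA hB'
        hC'coh hFA
    exact Filt.snoc _ B (pullback.fst g c) inferInstance hB' hB hFB'
      (hQ.of_iso (cokernelPullbackFstIso g c).symm)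

end filt


section chain

open Groth.Agent.Lib.T2H5.IdealMul Groth.Agent.Lib.T2H5.Devissage Groth.Agent.Lib.T2H5.GenIsoA
open Groth.Agent.Lib.T2H5.GenIsoB Groth.Agent.Lib.T2H5.GenIsoC Groth.Agent.Lib.T2H5.GenIsoD
open Groth.Agent.Lib.T2H5.GenIsoE Groth.Agent.Lib.T2H5.GenIsoF

variable {X : Scheme.{u}}

theorem isCoh_of_isZero [IsLocallyNoetherian X] {M : X.Modules} (hM : IsZero M) : Coh.IsCoh M := by
  have h1 : Coh.IsCoh (kernel (𝟙 (Coh.structureModule X))) :=
    isCoh_kernel _ isCoh_structureModule isCoh_structureModule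
  exact isCoh_of_iso ((isZero_kernel_of_mono (𝟙 (Coh.structureModule X))).iso hM) h1

theorem stepOK_conj {A B A' B' : X.Modules} (f : A ⟶ B) (a : A' ≅ A) (b : B ≅ B')
    (h : StepOK (cokernel f)) : StepOK (cokernel (a.hom ≫ f ≫ b.hom)) :=
  h.of_iso (cokernel.mapIso f (a.hom ≫ f ≫ b.hom) a.symm b (by simp))

/-- the chain form of a filtration. -/
def HasChain (M : X.Modules) : Prop :=
  ∃ (m : ℕ) (F : ℕ → X.Modules) (φ : (j : ℕ) → (F j ⟶ F (j + 1))),
    IsZero (F 0) ∧ Nonempty (F m ≅ M) ∧ (∀ j ≤ m, Coh.IsCoh (F j)) ∧ ∀ j < m, Mono (φ j) ∧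
      StepOK (cokernel (φ j))

theorem hasChain_snoc {N M : X.Modules} (φN : N ⟶ M) [Mono φN] (hM : Coh.IsCoh M) (hQ : StepOK (cokernel φN))
    (h : HasChain N) : HasChain M := by
  classical
  obtain ⟨m, F, φ, hz, ⟨e⟩, hc, hs⟩ := h
  let F' : ℕ → X.Modules := fun j => if j ≤ m then F j else M
  have hF'le : ∀ j, j ≤ m → F' j = F j := fun j h => if_pos h
  have hF'gt : ∀ j, ¬ j ≤ m → F' j = M := fun j h => if_neg h
  let φ' : (j : ℕ) → (F' j ⟶ F' (j + 1)) := fun j =>
    if h : j < m then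
      eqToHom (hF'le j h.le) ≫ φ j ≫ eqToHom (hF'le (j + 1) h).symm
    else if h' : j = m then
      eqToHom ((hF'le j h'.le).trans (by rw [h'])) ≫ (e.hom ≫ φN) ≫
        eqToHom (hF'gt (j + 1) (by omega)).symm
    else eqToHom ((hF'gt j (by omega)).trans (hF'gt (j + 1) (by omega)).symm)
  have key : ∀ {A B : X.Modules} (f g : A ⟶ B), f = g → (Mono g ∧ StepOK (cokernel g)) →
      Mono f ∧ StepOK (cokernel f) := by
    intro A B f g h; subst h; exact id
  refine ⟨m + 1, F', φ', ?_, ⟨eqToIso (hF'gt (m + 1) (by omega))⟩, ?_, ?_⟩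
  · rw [hF'le 0 (Nat.zero_le m)]; exact hz
  · intro j hj
    by_cases h : j ≤ m
    · rw [hF'le j h]; exact hc j h
    · rw [hF'gt j h]; exact hM
  · intro j hj
    by_cases h : j < m
    · have hφ' : φ' j = (eqToIso (hF'le j h.le)).hom ≫ φ j ≫ (eqToIso (hF'le (j + 1) h).symm).hom := by
        simp only [φ', dif_pos h, eqToIso.hom]
      obtain ⟨h1, h2⟩ := hs j h
      exact key _ _ hφ' ⟨inferInstance, stepOK_conj _ _ _ h2⟩
    · have hjm : j = m := by omega
      have hφ' : φ' j = (eqToIso ((hF'le j hjm.le).trans (by rw [hjm]))).hom ≫ (e.hom ≫ φN) ≫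
          (eqToIso (hF'gt (j + 1) (by omega)).symm).hom := by
        simp only [φ', dif_neg h, dif_pos hjm, eqToIso.hom]
      refine key _ _ hφ' ⟨inferInstance, stepOK_conj _ _ _ ?_⟩
      exact hQ.of_iso (cokernel.mapIso φN (e.hom ≫ φN) e.symm (Iso.refl _) (by simp))

theorem Filt.hasChain [IsLocallyNoetherian X] {M : X.Modules} (h : Filt M) : HasChain M := by
  induction h with
  | zero M hz =>
    exact ⟨0, fun _ => M, fun _ => 𝟙 M, hz, ⟨Iso.refl _⟩, fun j _ => isCoh_of_isZero hz,
      fun j hj => absurd hj (Nat.not_lt_zero j)⟩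
  | snoc N M φ hφ hN hM hFN hQ ih =>
    haveI := hφ
    exact hasChain_snoc φ hM hQ ih

end chain


section main

open Groth.Agent.Lib.T2H5.IdealMul Groth.Agent.Lib.T2H5.Devissage Groth.Agent.Lib.T2H5.GenIsoA
open Groth.Agent.Lib.T2H5.GenIsoB Groth.Agent.Lib.T2H5.GenIsoC Groth.Agent.Lib.T2H5.GenIsoD
open Groth.Agent.Lib.T2H5.GenIsoE Groth.Agent.Lib.T2H5.GenIsoF

variable {X : Scheme.{u}}

/-- the direct image of a quasi-coherent ideal of an integral closed subscheme has a filtration. -/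
theorem filt_push_ideal [IsLocallyNoetherian X] {Z : Scheme.{u}} (i : Z ⟶ X) [IsClosedImmersion i] [IsIntegral Z]
    (I : Z.Modules) (ι : I ⟶ Coh.structureModule Z) [Mono ι] (hI : Coh.IsQCoh I) :
    Filt ((Coh.push i).obj I) := by
  haveI : IsLocallyNoetherian Z := LocallyOfFiniteType.isLocallyNoetherian i
  by_cases hz : IsZero I
  · exact Filt.zero _ (Functor.map_isZero _ hz)
  · have hIc : Coh.IsCoh I := isCoh_of_mono ι isCoh_structureModule hI
    have hQ : Coh.IsCoh ((Coh.push i).obj I) := isCoh_pushforward i I hIc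
    set Q := (Coh.push i).obj I with hQdef
    have hk : IsZero (kernel (𝟙 Q)) := isZero_kernel_of_mono _
    have hι0 : kernel.ι (𝟙 Q) = 0 := hk.eq_of_src _ _
    refine Filt.snoc (kernel (𝟙 Q)) Q (kernel.ι (𝟙 Q)) inferInstance (isCoh_kernel _ hQ hQ) hQ
      (Filt.zero _ hk) ⟨Z, i, inferInstance, inferInstance, I, ι, inferInstance, hI, hz, ⟨?_⟩⟩
    exact cokernelIsoOfEq hι0 ≪≫ cokernelZeroIsoTarget

/-- **Every coherent module on a Noetherian scheme has a filtration by direct images of ideals of integral closed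
subschemes.** -/
theorem filt_of_isCoh [IsNoetherian X] (M : X.Modules) (hM : Coh.IsCoh M) : Filt M := by
  refine core (fun M => Filt M) (fun M N ⟨e⟩ h => h.of_iso e) (fun M hz => Filt.zero M hz)
    (fun S hS h1 h2 h3 p1 p3 => p3.ext S.f S.g S.zero hS h1 h2 h3 p1) Set.univ ?_ M hM (Set.subset_univ _)
  intro Y hY hYirr _ ihN M' hM' hM'k
  haveI := isIntegral_subscheme_vanishingIdeal Y hY hYirr
  exact irr_step_ideal (fun M => Filt M) (fun M N ⟨e⟩ h => h.of_iso e) (fun M hz => Filt.zero M hz)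
    (fun S hS h1 h2 h3 p1 p3 => p3.ext S.f S.g S.zero hS h1 h2 h3 p1) Y hY hYirr ihN
    (fun I ι hι hI => by haveI := hι; exact filt_push_ideal _ I ι hI) M' hM' hM'k

theorem hasChain_of_isCoh [IsNoetherian X] (M : X.Modules) (hM : Coh.IsCoh M) : HasChain M :=
  (filt_of_isCoh M hM).hasChain

end main

end Groth.Agent.Lib.T2H5.FiltCat
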