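import Groth.Agent.Lib.T2H2RDerDev
import Groth.Agent.Lib.T2H5GenIsoB
import Groth.Agent.Lib.T2H5Filt
import Groth.Agent.Lib.T2H5Devissage
import Groth.Agent.S0795

/-!
# `Rf_*` of bounded below complexes with coherent cohomology of proper support (T2H2)
-/

set_option autoImplicit false
set_option linter.style.haveILetI false
universe u
open CategoryTheory CategoryTheory.Limits CategoryTheory.Pretriangulated AlgebraicGeometry

attribute [local instance] HasDerivedCategory.standard

namespace Groth.Agent.Lib.T2H2.RpushCoh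

open Groth.Agent.Lib.T2H2.RDerGen Groth.Agent.Lib.T2H1.MVTri DerivedCategory

variable {X S : Scheme.{u}}

/-- coherent modules on a locally Noetherian scheme form a weak Serre class -/
theorem isWeakSerre_coh (S : Scheme.{u}) [IsLocallyNoetherian S] :
    Groth.Agent.Lib.T2H2.QcRpush.IsWeakSerre (fun N : S.Modules => Coh.IsCoh N) where
  ker f hA hB := Groth.Agent.Lib.T2H5.GenIsoB.isCoh_kernel f hA hB
  coker f hA hB := Groth.Agent.Lib.T2H5.GenIsoB.isCoh_cokernel f hA hB
  ext T hT h₁ h₃ := Groth.Agent.Lib.T2H5.GenIsoA.isCoh_of_shortExact T hT h₁ h₃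

/-- `Rf_*` is left t-exact -/
theorem isGE_Rpush (f : X ⟶ S) [DCoh.HasRpush f] (E : DCoh.D X) (a : ℤ) [E.IsGE a] :
    ((DCoh.Rpush f).obj E).IsGE a := by
  obtain ⟨β, hβ⟩ := exists_unit_Rpush f
  haveI := hβ
  exact isGE_obj.{u} (Scheme.Modules.pushforward f) (DCoh.Rpush f) β E a

/-- `Rf_*` of a bounded below object with coherent cohomology sheaves of proper support has coherent
cohomology sheaves (`S` locally Noetherian, `f` locally of finite type). -/
theorem isCohD_Rpush [IsLocallyNoetherian S] (f : X ⟶ S) [LocallyOfFiniteType f]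
    [DCoh.HasRpush f] (E : DCoh.D X) (a : ℤ) [E.IsGE a] (hE : DCoh.IsCohD E)
    (hsupp : ∀ i : ℤ, ClSub.IsProperOver f (CohB1.support (DCoh.HD E i))) :
    DCoh.IsCohD ((DCoh.Rpush f).obj E) := by
  obtain ⟨β, hβ⟩ := exists_unit_Rpush f
  haveI := hβ
  haveI : HasInjectiveResolutions X.Modules := inferInstance
  intro i
  exact prop_homology_of_boundedBelow.{u} (Scheme.Modules.pushforward f) (DCoh.Rpush f) β
    (fun M => Coh.IsCoh M ∧ ClSub.IsProperOver f (CohB1.support M))
    (fun M M' e h => ⟨Groth.Agent.Lib.T2H5.Devissage.isCoh_of_iso e h.1, by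
      rw [← Groth.Agent.Lib.T2H5.GenIsoB.support_eq_of_iso e]; exact h.2⟩)
    (fun N : S.Modules => Coh.IsCoh N) (isWeakSerre_coh S)
    (fun Z hZ => Groth.Agent.Lib.T2H5.FiltCat.isCoh_of_isZero hZ)
    (fun M M' e h => Groth.Agent.Lib.T2H5.Devissage.isCoh_of_iso e h)
    (fun M hM p => Groth.Agent.S0795.result f M hM.1 hM.2 p)
    E a (fun j => ⟨hE j, hsupp j⟩) i

end Groth.Agent.Lib.T2H2.RpushCoh
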