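import Groth.Agent.Lib.Helper2RelTildeExact
import Groth.Agent.Lib.T2H1MVTri
import Groth.Agent.Lib.Helper1BKF1
import Groth.Agent.Lib.Helper17KInjD5

/-!
# Detecting quasi-isomorphisms of complexes of `O_Y`-modules on sections over affine opens (T2H2)
-/

set_option autoImplicit false
set_option linter.style.haveILetI false
universe u
open CategoryTheory CategoryTheory.Limits AlgebraicGeometry Opposite

attribute [local instance] HasDerivedCategory.standard

namespace Groth.Agent.Lib.T2H2.SectAcyc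

variable {Y : Scheme.{u}}

/-- a complex of `O_Y`-modules whose cycles in degree `n` are locally boundaries (on a basis of
neighbourhoods given by the opens satisfying `hloc`) is exact in degree `n`. -/
theorem exactAt_of_local_sections (K : CochainComplex Y.Modules ℤ) (n : ℤ)
    (h : ∀ (V : Y.Opens) (x : Y), x ∈ V → ∃ (W : Y.Opens), W ≤ V ∧ x ∈ W ∧
      ∀ s : Γ(K.X n, W), (K.d n (n + 1)).app W s = 0 →
        ∃ t : Γ(K.X (n - 1), W), (K.d (n - 1) n).app W t = s) : K.ExactAt n := by
  rw [K.exactAt_iff' (n - 1) n (n + 1) (by simp) (by simp)]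
  apply Groth.Agent.Lib.Helper2.RelTildeExact.exact_of_locally_exact
  intro V s hs x hx
  obtain ⟨W, hWV, hxW, hW⟩ := h V x hx
  refine ⟨W, hWV, hxW, ?_⟩
  have h1 : (K.d n (n + 1)).app W ((K.X n).presheaf.map (homOfLE hWV).op s) = 0 := by
    rw [Groth.Agent.Lib.Helper2.RelTildeQCoh.app_map' (K.d n (n + 1)) (homOfLE hWV) s]
    have hs' : (K.d n (n + 1)).app V s = 0 := hs
    rw [hs', map_zero]
  obtain ⟨t, ht⟩ := hW _ h1
  exact ⟨t, ht⟩

/-- sections over the open `U`, as a functor to abelian groups: `M ↦ Γ(U, M|_U)`. -/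
noncomputable abbrev secAb (U : Y.Opens) : Y.Modules ⥤ AddCommGrpCat.{u} :=
  Scheme.Modules.restrictFunctor U.ι ⋙ DCoh.gammaAb (U : Scheme.{u})

open Groth.Agent.Lib.Helper1.BKF in
/-- a morphism of complexes of `O_Y`-modules which is a quasi-isomorphism on sections over every
affine open is a quasi-isomorphism. -/
theorem quasiIso_of_sections {K L : CochainComplex Y.Modules ℤ} (f : K ⟶ L)
    (h : ∀ U : Y.Opens, IsAffineOpen U →
      QuasiIso (((secAb U).mapHomologicalComplex (ComplexShape.up ℤ)).map f)) : QuasiIso f := by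
  apply quasiIso_of_acyc_cone
  rw [acyc_iff_acyclic]
  intro n
  apply exactAt_of_local_sections
  intro V x hx
  obtain ⟨U, hU, hxU, hUV⟩ := Y.isBasis_affineOpens.exists_subset_of_mem_open
    (show x ∈ (V : Set Y) from hx) V.isOpen
  obtain ⟨U'', hU', rfl⟩ := hU
  obtain ⟨U', rfl⟩ : ∃ U' : Y.Opens, U' = U'' := ⟨U'', rfl⟩
  have hW : U'.ι ''ᵁ ⊤ = U' := Scheme.Opens.ι_image_top U'
  refine ⟨U'.ι ''ᵁ ⊤, ?_, ?_, ?_⟩
  · rw [hW]; exact hUV
  · rw [hW]; exact hxU
  haveI := h U' hU'
  have hac : Acyc (((secAb U').mapHomologicalComplex (ComplexShape.up ℤ)).obj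
      (CochainComplex.mappingCone f)) :=
    (acyc_cone_of_quasiIso (((secAb U').mapHomologicalComplex (ComplexShape.up ℤ)).map f)).of_iso
      (CochainComplex.mappingCone.mapHomologicalComplexIso f (secAb U')).symm
  have hex := (acyc_iff_acyclic _).1 hac n
  rw [HomologicalComplex.exactAt_iff' _ (n - 1) n (n + 1) (by simp) (by simp),
    ShortComplex.ab_exact_iff] at hex
  intro s hs
  exact hex s hs

open Groth.Agent.Lib.T2H1.MVTri Groth.Agent.Lib.T2H1.RestrictPush Groth.Agent.Lib.Helper17.KInj in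
/-- for K-injective complexes, if `RΓ(U, -)` of the restriction of `Q f` is an isomorphism, then `f`
is a quasi-isomorphism on sections over `U`. -/
theorem quasiIso_sections_of_isIso_RΓ (U : Y.Opens) [DCoh.HasRΓ (U : Scheme.{u})]
    {I₁ I₂ : CochainComplex Y.Modules ℤ} [I₁.IsKInjective] [I₂.IsKInjective] (f : I₁ ⟶ I₂)
    (h : IsIso ((DCoh.RΓ (U : Scheme.{u})).map ((DCoh.restrictD U.ι).map
      (DerivedCategory.Q.map f)))) :
    QuasiIso (((secAb U).mapHomologicalComplex (ComplexShape.up ℤ)).map f) := by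
  obtain ⟨β, hβ⟩ := exists_unit_RΓ (U : Scheme.{u})
  let F := Scheme.Modules.restrictFunctor U.ι
  let e := F.mapDerivedCategoryFactors
  haveI := isKInjective_restrict U I₁
  haveI := isKInjective_restrict U I₂
  have nat₁ : (DCoh.restrictD U.ι).map (DerivedCategory.Q.map f) ≫ e.hom.app I₂ =
      e.hom.app I₁ ≫ DerivedCategory.Q.map ((F.mapHomologicalComplex (ComplexShape.up ℤ)).map f) :=
    e.hom.naturality f
  have h₁ : IsIso ((DCoh.RΓ (U : Scheme.{u})).map (DerivedCategory.Q.map
      ((F.mapHomologicalComplex (ComplexShape.up ℤ)).map f))) := by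
    have h2 : DerivedCategory.Q.map ((F.mapHomologicalComplex (ComplexShape.up ℤ)).map f) =
        e.inv.app I₁ ≫ (DCoh.restrictD U.ι).map (DerivedCategory.Q.map f) ≫ e.hom.app I₂ := by
      rw [nat₁, ← Category.assoc, ← NatTrans.comp_app, e.inv_hom_id, NatTrans.id_app,
        Category.id_comp]
    rw [h2, Functor.map_comp, Functor.map_comp]
    infer_instance
  haveI hβ₁ : IsIso (β.app ((F.mapHomologicalComplex (ComplexShape.up ℤ)).obj I₁)) :=
    isIso_app_of_isKInjective.{u} (DCoh.gammaAb (U : Scheme.{u})) (DCoh.RΓ (U : Scheme.{u})) β _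
  haveI hβ₂ : IsIso (β.app ((F.mapHomologicalComplex (ComplexShape.up ℤ)).obj I₂)) :=
    isIso_app_of_isKInjective.{u} (DCoh.gammaAb (U : Scheme.{u})) (DCoh.RΓ (U : Scheme.{u})) β _
  have nat₂ := β.naturality ((F.mapHomologicalComplex (ComplexShape.up ℤ)).map f)
  have h₃ : IsIso (DerivedCategory.Q.map
      (((DCoh.gammaAb (U : Scheme.{u})).mapHomologicalComplex (ComplexShape.up ℤ)).map
        ((F.mapHomologicalComplex (ComplexShape.up ℤ)).map f))) := by
    have h4 : DerivedCategory.Q.map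
        (((DCoh.gammaAb (U : Scheme.{u})).mapHomologicalComplex (ComplexShape.up ℤ)).map
          ((F.mapHomologicalComplex (ComplexShape.up ℤ)).map f)) =
        β.app _ ≫ (DCoh.RΓ (U : Scheme.{u})).map (DerivedCategory.Q.map
          ((F.mapHomologicalComplex (ComplexShape.up ℤ)).map f)) ≫ inv (β.app _) := by
      rw [← Category.assoc, IsIso.eq_comp_inv]
      exact nat₂
    rw [h4]
    infer_instance
  rw [DerivedCategory.isIso_Q_map_iff_quasiIso] at h₃
  exact h₃

end Groth.Agent.Lib.T2H2.SectAcyc
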