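import Mathlib
import Groth.Prelude.Def_GrSeg

/-!
# Segre products: finite generation (helper2)

Homogeneous-component projections on graded modules, the diagonal projection on `M ⊗[k] N`, the
module structure of `R ⊗[k] S` on `M ⊗[k] N` given by `GrSeg.act`, and the Reynolds-operator
argument showing that a Segre product of finite graded modules is finite over the Segre product of
the rings.
-/

set_option linter.unusedSectionVars false
set_option linter.style.haveILetI false

namespace Groth.Agent.Lib.T2H2.Segre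

open scoped TensorProduct
open DirectSum

universe u

section Comp

variable {k : Type u} [CommRing k] {R : Type u} [CommRing R] [Algebra k R]
  (𝒜 : ℤ → Submodule k R) [GradedAlgebra 𝒜]
  {M : Type u} [AddCommGroup M] [Module R M] [Module k M] [IsScalarTower k R M]
  {σ : Type u} [SetLike σ M] [AddSubgroupClass σ M]
  (ℳ : ℤ → σ) [DirectSum.Decomposition ℳ] [SetLike.GradedSMul 𝒜 ℳ]

/-- The homogeneous component of degree `n`, as an additive map `M → M`. -/
noncomputable def compAdd (n : ℤ) : M →+ M where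
  toFun m := ((decompose ℳ m) n : M)
  map_zero' := by simp
  map_add' a b := by simp [decompose_add, DirectSum.add_apply]

theorem compAdd_apply (n : ℤ) (m : M) : compAdd ℳ n m = ((decompose ℳ m) n : M) := rfl

theorem compAdd_of_mem {m : M} {d : ℤ} (hm : m ∈ ℳ d) (n : ℤ) :
    compAdd ℳ n m = if d = n then m else 0 := by
  rw [compAdd_apply]
  split_ifs with h
  · subst h; exact decompose_of_mem_same ℳ hm
  · exact decompose_of_mem_ne ℳ hm h

omit [Module k M] [IsScalarTower k R M] in
theorem compAdd_smul_of_mem (r : R) {m : M} {d : ℤ} (hm : m ∈ ℳ d) (n : ℤ) :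
    compAdd ℳ n (r • m) = (GradedAlgebra.proj 𝒜 (n - d) r) • m := by
  classical
  conv_lhs => rw [← DirectSum.sum_support_decompose 𝒜 r, Finset.sum_smul, map_sum]
  have key : ∀ i ∈ (decompose 𝒜 r).support, compAdd ℳ n ((decompose 𝒜 r i : R) • m) =
      if i = n - d then (decompose 𝒜 r i : R) • m else 0 := by
    intro i _
    have hmem : (decompose 𝒜 r i : R) • m ∈ ℳ (i + d) := by
      have := SetLike.GradedSMul.smul_mem (A := 𝒜) (B := ℳ) (decompose 𝒜 r i).2 hm
      rwa [vadd_eq_add] at this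
    rw [compAdd_of_mem ℳ hmem]
    simp only [eq_sub_iff_add_eq]
  rw [Finset.sum_congr rfl key, Finset.sum_ite_eq']
  split_ifs with h
  · rfl
  · rw [DFinsupp.mem_support_toFun, not_not] at h
    rw [GradedAlgebra.proj_apply, h]
    simp

include 𝒜 in
theorem smul_mem_of_mem (c : k) {m : M} {d : ℤ} (hm : m ∈ ℳ d) : c • m ∈ ℳ d := by
  have := SetLike.GradedSMul.smul_mem (A := 𝒜) (B := ℳ) (SetLike.algebraMap_mem_graded 𝒜 c) hm
  rwa [algebraMap_smul, vadd_eq_add, zero_add] at this

include 𝒜 in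
theorem compAdd_smul (c : k) (m : M) (n : ℤ) : compAdd ℳ n (c • m) = c • compAdd ℳ n m := by
  classical
  conv_lhs => rw [← DirectSum.sum_support_decompose ℳ m, Finset.smul_sum, map_sum]
  rw [Finset.sum_congr rfl
    (fun i _ => compAdd_of_mem ℳ (smul_mem_of_mem 𝒜 ℳ c (decompose ℳ m i).2) n),
    Finset.sum_ite_eq']
  split_ifs with h
  · rfl
  · rw [DFinsupp.mem_support_toFun, not_not] at h
    rw [compAdd_apply, h]
    simp

/-- The homogeneous component of degree `n`, as a `k`-linear map. -/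
noncomputable def compLin (n : ℤ) : M →ₗ[k] M :=
  { compAdd ℳ n with map_smul' := fun c m => compAdd_smul 𝒜 ℳ c m n }

theorem compLin_apply (n : ℤ) (m : M) : compLin 𝒜 ℳ n m = compAdd ℳ n m := rfl

end Comp


section Tensor

variable {k : Type u} [CommRing k] {R S : Type u} [CommRing R] [CommRing S] [Algebra k R] [Algebra k S]
  (𝒜 : ℤ → Submodule k R) [GradedAlgebra 𝒜] (ℬ : ℤ → Submodule k S) [GradedAlgebra ℬ]
  {M : Type u} [AddCommGroup M] [Module R M] [Module k M] [IsScalarTower k R M]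
  {N : Type u} [AddCommGroup N] [Module S N] [Module k N] [IsScalarTower k S N]
  {σ τ : Type u} [SetLike σ M] [AddSubgroupClass σ M] [SetLike τ N] [AddSubgroupClass τ N]
  (ℳ : ℤ → σ) [DirectSum.Decomposition ℳ] [SetLike.GradedSMul 𝒜 ℳ]
  (𝒩 : ℤ → τ) [DirectSum.Decomposition 𝒩] [SetLike.GradedSMul ℬ 𝒩]

/-- The projection of `M ⊗[k] N` onto its bidegree `(n, n)` part. -/
noncomputable def diagProj (n : ℤ) : M ⊗[k] N →ₗ[k] M ⊗[k] N :=
  TensorProduct.map (compLin 𝒜 ℳ n) (compLin ℬ 𝒩 n)

/-- The projection of `R ⊗[k] S` onto its bidegree `(n, n)` part. -/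
noncomputable def ringProj (n : ℤ) : R ⊗[k] S →ₗ[k] R ⊗[k] S :=
  TensorProduct.map (GradedAlgebra.proj 𝒜 n) (GradedAlgebra.proj ℬ n)

theorem ringProj_mem (n : ℤ) (a : R ⊗[k] S) : ringProj 𝒜 ℬ n a ∈ GrSeg.segrePiece k 𝒜 ℬ n := by
  induction a using TensorProduct.induction_on with
  | zero => simp
  | tmul r s =>
    refine Submodule.subset_span ⟨GradedAlgebra.proj 𝒜 n r, ?_, GradedAlgebra.proj ℬ n s, ?_, rfl⟩
    · rw [GradedAlgebra.proj_apply]; exact (decompose 𝒜 r n).2
    · rw [GradedAlgebra.proj_apply]; exact (decompose ℬ s n).2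
  | add x y hx hy => rw [map_add]; exact Submodule.add_mem _ hx hy

theorem diagProj_of_mem {n : ℤ} {e : M ⊗[k] N} (he : e ∈ GrSeg.segrePiece k ℳ 𝒩 n) :
    diagProj 𝒜 ℬ ℳ 𝒩 n e = e := by
  induction he using Submodule.span_induction with
  | mem x hx =>
    obtain ⟨a, ha, b, hb, rfl⟩ := hx
    simp only [diagProj, TensorProduct.map_tmul, compLin_apply]
    rw [compAdd_of_mem ℳ ha, compAdd_of_mem 𝒩 hb, if_pos rfl, if_pos rfl]
  | zero => simp
  | add x y _ _ hx hy => rw [map_add, hx, hy]
  | smul c x _ hx => rw [map_smul, hx]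

theorem diagProj_act {d : ℤ} {e : M ⊗[k] N} (he : e ∈ GrSeg.segrePiece k ℳ 𝒩 d) (n : ℤ)
    (a : R ⊗[k] S) :
    diagProj 𝒜 ℬ ℳ 𝒩 n (GrSeg.act k R S M N a e) =
      GrSeg.act k R S M N (ringProj 𝒜 ℬ (n - d) a) e := by
  induction he using Submodule.span_induction with
  | mem x hx =>
    obtain ⟨m, hm, m', hm', rfl⟩ := hx
    induction a using TensorProduct.induction_on with
    | zero => simp
    | tmul r s =>
      simp only [diagProj, ringProj, GrSeg.act_tmul, TensorProduct.map_tmul, compLin_apply]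
      rw [compAdd_smul_of_mem 𝒜 ℳ r hm, compAdd_smul_of_mem ℬ 𝒩 s hm']
    | add x y hx hy => simp only [map_add, LinearMap.add_apply, hx, hy]
  | zero => simp
  | add x y _ _ hx hy => simp only [map_add, hx, hy]
  | smul c x _ hx => simp only [map_smul, hx]

end Tensor


section Act

variable (k : Type u) [CommRing k] (R S : Type u) [CommRing R] [CommRing S] [Algebra k R] [Algebra k S]
  (M N : Type u) [AddCommGroup M] [Module R M] [Module k M] [IsScalarTower k R M]
  [AddCommGroup N] [Module S N] [Module k N] [IsScalarTower k S N]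

theorem act_one : GrSeg.act k R S M N 1 = LinearMap.id := by
  refine TensorProduct.ext' fun m n => ?_
  rw [Algebra.TensorProduct.one_def, GrSeg.act_tmul, one_smul, one_smul, LinearMap.id_apply]

theorem act_mul (a b : R ⊗[k] S) :
    GrSeg.act k R S M N (a * b) = (GrSeg.act k R S M N a).comp (GrSeg.act k R S M N b) := by
  induction a using TensorProduct.induction_on with
  | zero => simp
  | tmul r s =>
    induction b using TensorProduct.induction_on with
    | zero => simp
    | tmul r' s' =>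
      refine TensorProduct.ext' fun m n => ?_
      rw [Algebra.TensorProduct.tmul_mul_tmul, LinearMap.comp_apply, GrSeg.act_tmul, GrSeg.act_tmul,
        GrSeg.act_tmul, mul_smul, mul_smul]
    | add x y hx hy => rw [mul_add, map_add, hx, hy, map_add, LinearMap.comp_add]
  | add x y hx hy => rw [add_mul, map_add, hx, hy, map_add, LinearMap.add_comp]

/-- `GrSeg.act` as a ring homomorphism into the endomorphism ring. -/
noncomputable def actRingHom : R ⊗[k] S →+* Module.End k (M ⊗[k] N) where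
  toFun a := GrSeg.act k R S M N a
  map_one' := act_one k R S M N
  map_mul' a b := act_mul k R S M N a b
  map_zero' := map_zero _
  map_add' a b := map_add _ a b

/-- The module structure on `M ⊗[k] N` over `R ⊗[k] S` given by `GrSeg.act` (not an instance). -/
@[reducible] noncomputable def actModule : Module (R ⊗[k] S) (M ⊗[k] N) :=
  Module.compHom (M ⊗[k] N) (actRingHom k R S M N)

theorem actModule_smul (a : R ⊗[k] S) (e : M ⊗[k] N) :
    (letI := actModule k R S M N; a • e) = GrSeg.act k R S M N a e := rfl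

theorem actModule_finite [Module.Finite R M] [Module.Finite S N] :
    @Module.Finite (R ⊗[k] S) (M ⊗[k] N) _ _ (actModule k R S M N) := by
  letI := actModule k R S M N
  obtain ⟨sM, hsM⟩ := (Module.finite_def (R := R) (M := M)).1 inferInstance
  obtain ⟨sN, hsN⟩ := (Module.finite_def (R := S) (M := N)).1 inferInstance
  classical
  refine ⟨⟨Finset.image₂ (fun m n => m ⊗ₜ[k] n) sM sN, ?_⟩⟩
  set W : Submodule (R ⊗[k] S) (M ⊗[k] N) :=
    Submodule.span (R ⊗[k] S) (Finset.image₂ (fun m n => m ⊗ₜ[k] n) sM sN : Set (M ⊗[k] N)) with hW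
  have h1 : ∀ m ∈ sM, ∀ n : N, m ⊗ₜ[k] n ∈ W := by
    intro m hm n
    have hn : n ∈ Submodule.span S (sN : Set N) := hsN ▸ Submodule.mem_top
    induction hn using Submodule.span_induction with
    | mem x hx => exact Submodule.subset_span (Finset.mem_coe.2 (Finset.mem_image₂_of_mem hm hx))
    | zero => rw [TensorProduct.tmul_zero]; exact W.zero_mem
    | add x y _ _ hx hy => rw [TensorProduct.tmul_add]; exact W.add_mem hx hy
    | smul s x _ hx =>
      have : m ⊗ₜ[k] (s • x) = ((1 : R) ⊗ₜ[k] s : R ⊗[k] S) • (m ⊗ₜ[k] x) := by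
        rw [actModule_smul, GrSeg.act_tmul, one_smul]
      rw [this]; exact W.smul_mem _ hx
  have h2 : ∀ (m : M) (n : N), m ⊗ₜ[k] n ∈ W := by
    intro m n
    have hm : m ∈ Submodule.span R (sM : Set M) := hsM ▸ Submodule.mem_top
    induction hm using Submodule.span_induction with
    | mem x hx => exact h1 x hx n
    | zero => rw [TensorProduct.zero_tmul]; exact W.zero_mem
    | add x y _ _ hx hy => rw [TensorProduct.add_tmul]; exact W.add_mem hx hy
    | smul r x _ hx =>
      have : (r • x) ⊗ₜ[k] n = (r ⊗ₜ[k] (1 : S) : R ⊗[k] S) • (x ⊗ₜ[k] n) := by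
        rw [actModule_smul, GrSeg.act_tmul, one_smul]
      rw [this]; exact W.smul_mem _ hx
  refine eq_top_iff.2 fun e _ => ?_
  clear * - h2
  induction e using TensorProduct.induction_on with
  | zero => exact W.zero_mem
  | tmul m n => exact h2 m n
  | add x y hx hy => exact W.add_mem hx hy

end Act


section Main

variable {k : Type u} [Field k] {R S T : Type u} [CommRing R] [CommRing S] [CommRing T]
  [Algebra k R] [Algebra k S] [Algebra k T]
  (𝒜 : ℤ → Submodule k R) [GradedAlgebra 𝒜] (ℬ : ℤ → Submodule k S) [GradedAlgebra ℬ]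
  (𝒯 : ℤ → Submodule k T) [GradedAlgebra 𝒯]
  {M : Type u} [AddCommGroup M] [Module R M] [Module k M] [IsScalarTower k R M]
  {N : Type u} [AddCommGroup N] [Module S N] [Module k N] [IsScalarTower k S N]
  {P : Type u} [AddCommGroup P] [Module T P] [Module k P] [IsScalarTower k T P]
  {σ τ ρ : Type u} [SetLike σ M] [AddSubgroupClass σ M] [SetLike τ N] [AddSubgroupClass τ N]
  [SetLike ρ P] [AddSubgroupClass ρ P]
  (ℳ : ℤ → σ) [DirectSum.Decomposition ℳ] [SetLike.GradedSMul 𝒜 ℳ]
  (𝒩 : ℤ → τ) [DirectSum.Decomposition 𝒩] [SetLike.GradedSMul ℬ 𝒩]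
  (𝒬 : ℤ → ρ) [DirectSum.Decomposition 𝒬]

/-- The Segre product of finite graded modules over finitely generated graded `k`-algebras is a
finite module over the Segre product of the rings. -/
theorem finite_of_isSegreMod [Algebra.FiniteType k R] [Algebra.FiniteType k S]
    [Module.Finite R M] [Module.Finite S N]
    (ψ : T →ₐ[k] R ⊗[k] S) (hT : GrSeg.IsSegreRing 𝒜 ℬ 𝒯 ψ)
    (φ : P →ₗ[k] M ⊗[k] N) (hP : GrSeg.IsSegreMod ψ ℳ 𝒩 𝒬 φ) : Module.Finite T P := by
  classical
  letI := actModule k R S M N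
  haveI : IsNoetherianRing (R ⊗[k] S) := by
    haveI : Algebra.FiniteType k (R ⊗[k] S) :=
      Algebra.FiniteType.trans (inferInstance : Algebra.FiniteType k R) inferInstance
    exact Algebra.FiniteType.isNoetherianRing k _
  haveI : Module.Finite (R ⊗[k] S) (M ⊗[k] N) := actModule_finite k R S M N
  haveI : IsNoetherian (R ⊗[k] S) (M ⊗[k] N) := isNoetherian_of_isNoetherianRing_of_finite _ _
  set H : Set P := {p | ∃ n, p ∈ 𝒬 n} with hH
  have hfg : (Submodule.span (R ⊗[k] S) (φ '' H)).FG := IsNoetherian.noetherian _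
  obtain ⟨F, hFs, hFspan⟩ := (Submodule.fg_span_iff_fg_span_finset_subset _).1 hfg
  obtain ⟨F', hF'H, rfl⟩ := Finset.subset_set_image_iff.1 hFs
  refine ⟨⟨F', ?_⟩⟩
  have hpiece : ∀ n, ∀ p ∈ 𝒬 n, φ p ∈ GrSeg.segrePiece k ℳ 𝒩 n := by
    intro n p hp
    have := hP.image_piece n
    rw [Set.ext_iff] at this
    exact (this _).1 ⟨p, hp, rfl⟩
  have hdeg : ∀ q ∈ F', ∃ d, q ∈ 𝒬 d := fun q hq => hF'H hq
  choose! d hd using hdeg
  have hhom : ∀ n, ∀ p ∈ 𝒬 n, p ∈ Submodule.span T (F' : Set P) := by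
    intro n p hp
    have hφp : φ p ∈ Submodule.span (R ⊗[k] S) ((F'.image φ : Finset _) : Set (M ⊗[k] N)) := by
      rw [← hFspan]; exact Submodule.subset_span ⟨p, ⟨n, hp⟩, rfl⟩
    obtain ⟨c, -, hc⟩ := Submodule.mem_span_finset.1 hφp
    rw [Finset.sum_image (fun x _ y _ h => hP.injective h)] at hc
    have ht : ∀ q ∈ F', ∃ t : T, ψ t = ringProj 𝒜 ℬ (n - d q) (c (φ q)) := by
      intro q _
      have := ringProj_mem 𝒜 ℬ (n - d q) (c (φ q))
      rw [← hT.2 (n - d q)] at this
      obtain ⟨t, _, ht⟩ := this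
      exact ⟨t, ht⟩
    choose! t ht using ht
    have key : φ p = φ (∑ q ∈ F', t q • q) := by
      rw [map_sum]
      calc φ p = diagProj 𝒜 ℬ ℳ 𝒩 n (φ p) := (diagProj_of_mem 𝒜 ℬ ℳ 𝒩 (hpiece n p hp)).symm
        _ = ∑ q ∈ F', diagProj 𝒜 ℬ ℳ 𝒩 n (GrSeg.act k R S M N (c (φ q)) (φ q)) := by
            rw [← hc, map_sum]; rfl
        _ = ∑ q ∈ F', φ (t q • q) := Finset.sum_congr rfl fun q hq => by
            rw [diagProj_act 𝒜 ℬ ℳ 𝒩 (hpiece _ q (hd q hq)) n, ← ht q hq, hP.map_smul]
    rw [hP.injective key]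
    exact Submodule.sum_mem _ fun q hq => Submodule.smul_mem _ _ (Submodule.subset_span hq)
  refine eq_top_iff.2 fun p _ => ?_
  rw [← DirectSum.sum_support_decompose 𝒬 p]
  exact Submodule.sum_mem _ fun i _ => hhom i _ (decompose 𝒬 p i).2

end Main

end Groth.Agent.Lib.T2H2.Segre
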