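import Mathlib

/-!
# A commutator identity for derivations (helper2)

In a ring, let `X, Δ, Y` satisfy `Δ X - X Δ = Y` and `Y X = X Y`, and put `ad P = P X - X P`.  Then
`ad^n (Δ^n) = n! Y^n`.  (Think of `Δ` a derivation, `X` multiplication by `x`, `Y` multiplication by
`Δ x`.)
-/

set_option autoImplicit false
universe u

namespace Groth.Agent.Lib.T2H2.Seidenberg

section NC

variable {E : Type*} [Ring E] (X : E)

/-- The commutator with `X`. -/
def ad (P : E) : E := P * X - X * P

theorem ad_mul (P Q : E) : ad X (P * Q) = ad X P * Q + P * ad X Q := by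
  unfold ad
  noncomm_ring

theorem ad_add (P Q : E) : ad X (P + Q) = ad X P + ad X Q := by
  unfold ad
  noncomm_ring

theorem ad_nsmul (n : ℕ) (P : E) : ad X (n • P) = n • ad X P := by
  unfold ad
  rw [smul_mul_assoc, mul_smul_comm, smul_sub]

theorem ad_eq_zero_of_commute {P : E} (h : P * X = X * P) : ad X P = 0 := by
  unfold ad
  rw [h, sub_self]

variable {X} {Δ Y : E}

theorem iterate_ad_mul_succ (hΔ : ad X Δ = Y) (hY : Y * X = X * Y) (P : E) (m : ℕ) :
    (ad X)^[m + 1] (P * Δ) = (ad X)^[m + 1] P * Δ + (m + 1) • ((ad X)^[m] P * Y) := by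
  induction m with
  | zero =>
    simp only [zero_add, Function.iterate_one, Function.iterate_zero, id_eq, one_smul]
    rw [ad_mul, hΔ]
  | succ m ih =>
    rw [Function.iterate_succ_apply', ih, ad_add, ad_mul, ad_nsmul, ad_mul, hΔ,
      ad_eq_zero_of_commute X hY, mul_zero, add_zero, ← Function.iterate_succ_apply' (ad X) (m + 1),
      ← Function.iterate_succ_apply' (ad X) m, add_smul (m + 1) 1, one_smul]
    abel

theorem iterate_ad_pow (hΔ : ad X Δ = Y) (hY : Y * X = X * Y) (n : ℕ) :
    (ad X)^[n] (Δ ^ n) = n.factorial • Y ^ n := by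
  induction n with
  | zero => simp
  | succ n ih =>
    have hYn : (Y ^ n) * X = X * (Y ^ n) := by
      have : Commute Y X := hY
      exact (this.pow_left n).eq
    rw [pow_succ, iterate_ad_mul_succ hΔ hY, Function.iterate_succ_apply', ih, ad_nsmul,
      ad_eq_zero_of_commute X hYn, smul_zero, zero_mul, zero_add, smul_mul_assoc, ← pow_succ,
      smul_smul, Nat.factorial_succ]

end NC

end Groth.Agent.Lib.T2H2.Seidenberg
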