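import Mathlib
import Groth.Agent.Lib.T2H2SeidenbergA

/-!
# Seidenberg's theorem: derivations preserve the integral closure in characteristic zero (helper2)

* `extendDer`: a derivation of `S` over `R` extends to a formally étale `S`-algebra `T` (for example a
  localization of `S`).
* `isIntegral_der`: let `A` be a Noetherian algebra over a field `k` of characteristic zero, `Q` an
  `A`-algebra and `DQ` a `k`-derivation of `Q` mapping the image of `A` to itself.  If `x : Q` admits
  `c : A` with unit image in `Q` and `c x^i ∈ A` for all `i`, then `DQ x` is integral over `A`.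
-/

set_option autoImplicit false
universe u

namespace Groth.Agent.Lib.T2H2.Seidenberg

open TensorProduct KaehlerDifferential

section Extend

variable (R S T : Type*) [CommRing R] [CommRing S] [CommRing T] [Algebra R S] [Algebra R T]
  [Algebra S T] [IsScalarTower R S T] [Algebra.FormallyEtale S T]

/-- The extension of a derivation to a formally étale algebra. -/
noncomputable def extendDer (D : Derivation R S S) : Derivation R T T :=
  ((LinearMap.liftBaseChange T
      (((Algebra.linearMap S T).compDer D : Derivation R S T).liftKaehlerDifferential)).comp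
    (tensorKaehlerEquivOfFormallyEtale R S T).symm.toLinearMap).compDer (KaehlerDifferential.D R T)

theorem extendDer_algebraMap (D : Derivation R S S) (s : S) :
    extendDer R S T D (algebraMap S T s) = algebraMap S T (D s) := by
  change (LinearMap.liftBaseChange T _) ((tensorKaehlerEquivOfFormallyEtale R S T).symm
    (KaehlerDifferential.D R T (algebraMap S T s))) = _
  rw [tensorKaehlerEquivOfFormallyEtale_symm_D_algebraMap, LinearMap.liftBaseChange_tmul, one_smul,
    Derivation.liftKaehlerDifferential_comp_D]
  rfl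

end Extend

section Main

variable {k : Type*} [Field k] [CharZero k] {A : Type*} [CommRing A] [Algebra k A]
  [IsNoetherianRing A] {Q : Type*} [CommRing Q] [Algebra k Q] [Algebra A Q] [IsScalarTower k A Q]

omit [IsNoetherianRing A] in
/-- `c^2 (DQ x)^n ∈ A` for all `n`. -/
theorem exists_eq_sq_mul_der_pow (D : Derivation k A A) (DQ : Derivation k Q Q)
    (hD : ∀ a, DQ (algebraMap A Q a) = algebraMap A Q (D a)) (x : Q) (c : A)
    (hcx : ∀ i : ℕ, ∃ a : A, algebraMap A Q a = algebraMap A Q c * x ^ i) (n : ℕ) :
    ∃ a : A, algebraMap A Q a = algebraMap A Q c * (algebraMap A Q c * (DQ x) ^ n) := by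
  classical
  -- operators
  let X : Module.End k Q := LinearMap.mulLeft k x
  let Δ : Module.End k Q := (DQ : Q →ₗ[k] Q)
  let Y : Module.End k Q := LinearMap.mulLeft k (DQ x)
  have hΔ : ad X Δ = Y := by
    apply LinearMap.ext
    intro q
    change DQ (x * q) - x * DQ q = DQ x * q
    rw [Derivation.leibniz, smul_eq_mul, smul_eq_mul]
    ring
  have hY : Y * X = X * Y := by
    apply LinearMap.ext
    intro q
    change DQ x * (x * q) = x * (DQ x * q)
    ring
  have key := iterate_ad_pow hΔ hY n
  -- the adjoin
  let Sx : Subalgebra A Q := Algebra.adjoin A {x}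
  have hxS : x ∈ Sx := Algebra.subset_adjoin rfl
  let G : Set (Module.End k Q) := {P | ∀ i : ℕ, P (algebraMap A Q c * x ^ i) ∈ Sx}
  have hG_ad : ∀ P ∈ G, ad X P ∈ G := by
    intro P hP i
    change P (x * (algebraMap A Q c * x ^ i)) - x * P (algebraMap A Q c * x ^ i) ∈ Sx
    have h1 : x * (algebraMap A Q c * x ^ i) = algebraMap A Q c * x ^ (i + 1) := by ring
    rw [h1]
    exact sub_mem (hP (i + 1)) (mul_mem hxS (hP i))
  have hG_iter : ∀ (m : ℕ) (P : Module.End k Q), P ∈ G → (ad X)^[m] P ∈ G := by
    intro m
    induction m with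
    | zero => intro P hP; exact hP
    | succ m ih =>
      intro P hP
      rw [Function.iterate_succ_apply']
      exact hG_ad _ (ih P hP)
  have hDiter : ∀ (m : ℕ) (a : A), (Δ ^ m) (algebraMap A Q a) = algebraMap A Q (D^[m] a) := by
    intro m
    induction m with
    | zero => intro a; rfl
    | succ m ih =>
      intro a
      rw [pow_succ, Module.End.mul_apply, Function.iterate_succ_apply]
      change (Δ ^ m) (DQ (algebraMap A Q a)) = _
      rw [hD, ih]
  have hΔG : Δ ^ n ∈ G := by
    intro i
    obtain ⟨a, ha⟩ := hcx i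
    rw [← ha, hDiter]
    exact Sx.algebraMap_mem _
  have hmem := hG_iter n _ hΔG 0
  rw [key, pow_zero, mul_one] at hmem
  -- evaluate
  have hYn : (Y ^ n) (algebraMap A Q c) = (DQ x) ^ n * algebraMap A Q c := by
    have : Y ^ n = LinearMap.mulLeft k ((DQ x) ^ n) := by
      change (LinearMap.mulLeft k (DQ x)) ^ n = _
      exact LinearMap.pow_mulLeft k Q (DQ x) n
    rw [this]
    rfl
  have hmem2 : (n.factorial : Q) * ((DQ x) ^ n * algebraMap A Q c) ∈ Sx := by
    have : (n.factorial • Y ^ n) (algebraMap A Q c) =
        (n.factorial : Q) * ((DQ x) ^ n * algebraMap A Q c) := by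
      rw [LinearMap.smul_apply, hYn, nsmul_eq_mul]
    rw [← this]
    exact hmem
  have hfac : (n.factorial : k) ≠ 0 := Nat.cast_ne_zero.mpr (Nat.factorial_ne_zero n)
  have hmem3 : (DQ x) ^ n * algebraMap A Q c ∈ Sx := by
    have h1 : algebraMap A Q (algebraMap k A ((n.factorial : k)⁻¹)) *
        ((n.factorial : Q) * ((DQ x) ^ n * algebraMap A Q c)) ∈ Sx :=
      mul_mem (Sx.algebraMap_mem _) hmem2
    have h2 : algebraMap A Q (algebraMap k A ((n.factorial : k)⁻¹)) * (n.factorial : Q) = 1 := by
      rw [← IsScalarTower.algebraMap_apply k A Q, ← map_natCast (algebraMap k Q), ← map_mul,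
        inv_mul_cancel₀ hfac, map_one]
    rwa [← mul_assoc, h2, one_mul] at h1
  -- `c * Sx ⊆ A`
  have hcS : ∀ y ∈ Sx, ∃ a : A, algebraMap A Q a = algebraMap A Q c * y := by
    intro y hy
    have hy' : y ∈ Algebra.adjoin A {x} := hy
    rw [Algebra.adjoin_singleton_eq_range_aeval] at hy'
    obtain ⟨p, rfl⟩ := hy'
    choose a ha using hcx
    refine ⟨∑ i ∈ Finset.range (p.natDegree + 1), p.coeff i * a i, ?_⟩
    change _ = algebraMap A Q c * Polynomial.aeval x p
    rw [Polynomial.aeval_eq_sum_range, Finset.mul_sum, map_sum]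
    refine Finset.sum_congr rfl fun i _ => ?_
    rw [map_mul, ha, Algebra.smul_def]
    ring
  obtain ⟨a, ha⟩ := hcS _ hmem3
  exact ⟨a, by rw [ha]; ring⟩

/-- Seidenberg: `DQ x` is integral over `A`. -/
theorem isIntegral_der (D : Derivation k A A) (DQ : Derivation k Q Q)
    (hD : ∀ a, DQ (algebraMap A Q a) = algebraMap A Q (D a)) (x : Q) (c : A)
    (hc : IsUnit (algebraMap A Q c))
    (hcx : ∀ i : ℕ, ∃ a : A, algebraMap A Q a = algebraMap A Q c * x ^ i) :
    IsIntegral A (DQ x) := by
  have hkey := exists_eq_sq_mul_der_pow D DQ hD x c hcx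
  let φ : Q →ₗ[A] Q := LinearMap.mulLeft A (algebraMap A Q c * algebraMap A Q c)
  have hφ : ∀ q, φ q = algebraMap A Q c * (algebraMap A Q c * q) := fun q => mul_assoc _ _ _
  let rg : Submodule A Q := LinearMap.range (Algebra.linearMap A Q)
  let M₀ : Submodule A Q := rg.comap φ
  have hrg : IsNoetherian A rg :=
    isNoetherian_of_surjective (Algebra.linearMap A Q).rangeRestrict
      (LinearMap.range_rangeRestrict _)
  have hφinj : Function.Injective φ := by
    intro q q' h
    rw [hφ, hφ] at h
    exact hc.mul_left_cancel (hc.mul_left_cancel h)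
  have hM₀ : IsNoetherian A M₀ := by
    refine isNoetherian_of_injective (φ.restrict (p := M₀) (q := rg) (fun q hq => hq)) ?_
    intro a b hab
    apply Subtype.ext
    apply hφinj
    exact congrArg Subtype.val hab
  have hle : Subalgebra.toSubmodule (Algebra.adjoin A {DQ x}) ≤ M₀ := by
    intro z hz
    rw [Subalgebra.mem_toSubmodule, Algebra.adjoin_singleton_eq_range_aeval] at hz
    obtain ⟨p, rfl⟩ := hz
    choose a ha using hkey
    refine ⟨∑ i ∈ Finset.range (p.natDegree + 1), p.coeff i * a i, ?_⟩
    change _ = φ (Polynomial.aeval (DQ x) p)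
    rw [hφ, Polynomial.aeval_eq_sum_range, Finset.mul_sum, Finset.mul_sum,
      Algebra.linearMap_apply, map_sum]
    refine Finset.sum_congr rfl fun i _ => ?_
    rw [map_mul, ha, Algebra.smul_def]
    ring
  have hfg : (Subalgebra.toSubmodule (Algebra.adjoin A {DQ x})).FG :=
    (isNoetherian_submodule.mp hM₀) _ hle
  exact IsIntegral.of_mem_of_fg _ hfg (DQ x) (Algebra.subset_adjoin rfl)

end Main

end Groth.Agent.Lib.T2H2.Seidenberg
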