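import Mathlib
import Groth.Agent.Lib.T2H2SepClosed
import Groth.Agent.Lib.Helper25TensorDomain

set_option autoImplicit false

namespace Groth.Agent.Lib.T2H2.SepClosed

open Polynomial IntermediateField TensorProduct
open CategoryTheory CategoryTheory.Limits AlgebraicGeometry
open Groth.Agent.Lib.Helper25.TensorDomain

universe u

section scheme
variable {k : Type u} [Field k]

lemma surjective_SpecMap_field {L M : Type u} [Field L] [Field M] (φ : L →+* M) :
    Surjective (Spec.map (CommRingCat.ofHom φ)) := by
  constructor
  intro x
  obtain ⟨y⟩ : Nonempty (Spec (CommRingCat.of M)) := inferInstance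
  exact ⟨y, Subsingleton.elim (α := Spec (CommRingCat.of L)) _ _⟩

/-- a `k`-scheme whose base change to the algebraic closure is irreducible is geometrically
irreducible. -/
theorem geometricallyIrreducible_of_bc {X : Scheme.{u}} (f : X ⟶ Spec (CommRingCat.of k))
    [IrreducibleSpace ↑(pullback f
      (Spec.map (CommRingCat.ofHom (algebraMap k (AlgebraicClosure k)))))] :
    GeometricallyIrreducible f := by
  set bcMap : Spec (CommRingCat.of (AlgebraicClosure k)) ⟶ Spec (CommRingCat.of k) :=
    Spec.map (CommRingCat.ofHom (algebraMap k (AlgebraicClosure k))) with hbc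
  have h1 : GeometricallyIrreducible (pullback.snd f bcMap) :=
    geometricallyIrreducible_of_isAlgClosed _
  refine ⟨(geometrically_iff_of_commRing_of_isClosedUnderIsomorphisms).mpr fun L _ _ => ?_⟩
  let Ω := AlgebraicClosure L
  let ψ : AlgebraicClosure k →ₐ[k] Ω := IsAlgClosed.lift
  let x : Spec (CommRingCat.of L) ⟶ Spec (CommRingCat.of k) :=
    Spec.map (CommRingCat.ofHom (algebraMap k L))
  let y : Spec (CommRingCat.of Ω) ⟶ Spec (CommRingCat.of L) :=
    Spec.map (CommRingCat.ofHom (algebraMap L Ω))
  let z : Spec (CommRingCat.of Ω) ⟶ Spec (CommRingCat.of (AlgebraicClosure k)) :=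
    Spec.map (CommRingCat.ofHom ψ.toRingHom)
  have hcomm : y ≫ x = z ≫ bcMap := by
    simp only [y, x, z, bcMap]
    rw [← Spec.map_comp, ← Spec.map_comp]
    congr 1
    ext a
    simp only [CommRingCat.hom_comp, CommRingCat.hom_ofHom, RingHom.coe_comp, Function.comp_apply]
    rw [← IsScalarTower.algebraMap_apply k L Ω]
    exact (ψ.commutes a).symm
  let P := pullback f (y ≫ x)
  let a : P ⟶ pullback f bcMap := pullback.lift (pullback.fst _ _) (pullback.snd _ _ ≫ z)
    (by rw [Category.assoc, ← hcomm, pullback.condition])
  have hbig : IsPullback (pullback.snd f (y ≫ x)) (a ≫ pullback.fst f bcMap) (z ≫ bcMap) f := by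
    have : a ≫ pullback.fst f bcMap = pullback.fst f (y ≫ x) := pullback.lift_fst _ _ _
    rw [this, ← hcomm]
    exact (IsPullback.of_hasPullback f (y ≫ x)).flip
  have hP : IsPullback a (pullback.snd f (y ≫ x)) (pullback.snd f bcMap) z :=
    (IsPullback.of_bot hbig (pullback.lift_snd _ _ _).symm
      (IsPullback.of_hasPullback f bcMap).flip).flip
  have hPirr : IrreducibleSpace P :=
    GeometricallyIrreducible.geometrically_irreducibleSpace z a _ hP
  let e2 := pullbackLeftPullbackSndIso f x y
  let b : P ⟶ pullback f x := e2.inv ≫ pullback.fst (pullback.snd f x) y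
  have hy : Surjective y := surjective_SpecMap_field _
  have hb : Surjective b := by
    have : Surjective (pullback.fst (pullback.snd f x) y) := inferInstance
    infer_instance
  have himg := (IrreducibleSpace.isIrreducible_univ P).image b b.continuous.continuousOn
  rw [Set.image_univ, Set.range_eq_univ.mpr hb.surj] at himg
  exact (irreducibleSpace_def _).mpr himg

/-- If `F` is separably closed in `E`, then `Spec E ⟶ Spec F` is geometrically irreducible. -/
theorem geometricallyIrreducible_of_sepClosedIn {F E : Type u} [Field F] [Field E] [Algebra F E]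
    (h : SepClosedIn F E) :
    GeometricallyIrreducible (Spec.map (CommRingCat.ofHom (algebraMap F E))) := by
  have hirr : IrreducibleSpace (PrimeSpectrum (E ⊗[F] AlgebraicClosure F)) :=
    irreducibleSpace_tensor' h (AlgebraicClosure F)
  have e := pullbackSpecIso F E (AlgebraicClosure F)
  have : IrreducibleSpace (Spec (CommRingCat.of (E ⊗[F] AlgebraicClosure F))) := hirr
  have : IrreducibleSpace ↑(pullback (Spec.map (CommRingCat.ofHom (algebraMap F E)))
      (Spec.map (CommRingCat.ofHom (algebraMap F (AlgebraicClosure F))))) :=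
    e.hom.homeomorph.irreducibleSpace_iff.mpr this
  exact geometricallyIrreducible_of_bc _

end scheme


section schemeconv

theorem sepClosedIn_of_geometricallyIrreducible {F E : Type u} [Field F] [Field E] [Algebra F E]
    (hg : GeometricallyIrreducible (Spec.map (CommRingCat.ofHom (algebraMap F E)))) :
    SepClosedIn F E := by
  intro θ hsep
  by_contra hθ
  apply not_isPrime_nilradical_of_not_mem hsep hθ
  rw [← PrimeSpectrum.irreducibleSpace_iff_isPrime_nilradical]
  have h1 := (geometrically_iff_of_commRing_of_isClosedUnderIsomorphisms).mp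
    hg.geometrically_irreducibleSpace F⟮θ⟯
  have e := pullbackSpecIso F E F⟮θ⟯
  have h2 : IrreducibleSpace (Spec (CommRingCat.of (E ⊗[F] F⟮θ⟯))) :=
    e.hom.homeomorph.irreducibleSpace_iff.mp h1
  exact h2

end schemeconv

end Groth.Agent.Lib.T2H2.SepClosed
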