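import Groth.Agent.Lib.T2H2RlimBasis

/-!
# The limit of an inverse system of sheaves acyclic on a basis is its derived limit (T2H2)

`site_sheafLim`: for abelian sheaves `F_n` on a site with `H^p(U, F_n) = 0` (`p > 0`) and
`R¹ lim F_n(U) = 0` for `U` in a covering class `B`, `(lim F_n)[0]` is a derived limit of
`(F_n[0])` and `H^p(U, lim F_n) = 0` for `p > 0`, `U ∈ B`.
-/

set_option autoImplicit false
set_option linter.style.haveILetI false
universe w w' v v' u u'
open CategoryTheory CategoryTheory.Limits Opposite ZeroObject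

namespace Groth.Agent.Lib.T2H2.SheafLim

open Groth.Agent.Lib.Helper17.Hyp DerivedCategory Pretriangulated Groth.Agent.S14388
  Groth.Agent.Lib.T2H2.NegVan Groth.Agent.Lib.T2H2.AcycBasis Groth.Agent.Lib.T2H2.RlimBasis

section Abs

variable {A : Type u} [Category.{v} A] [Abelian A] [HasDerivedCategory.{w} A]

lemma e₀_hom_naturality {P P' : A} (f : P ⟶ P') :
    (homologyFunctor A 0).map (Q.map ((HomologicalComplex.single A (ComplexShape.up ℤ) 0).map f)) ≫
      (e₀ P').hom = (e₀ P).hom ≫ f := by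
  rw [← cancel_mono (e₀ P').inv, Category.assoc, Iso.hom_inv_id, Category.comp_id, Category.assoc,
    e₀_inv_naturality, Iso.hom_inv_id_assoc]

lemma subsingleton_hom_single_neg (P₀ F : A) (i : ℤ) (hi : i < 0) :
    Subsingleton (dsgl P₀ ⟶ (dsgl F)⟦i⟧) := by
  haveI : (dsgl F).IsGE 0 := by
    change ((singleFunctor A 0).obj F).IsGE 0
    infer_instance
  exact subsingleton_hom_of_isGE P₀ (dsgl F) i hi

lemma isZero_homology_dsgl (F : A) (q : ℤ) (hq : q ≠ 0) :
    IsZero ((homologyFunctor A q).obj (dsgl F)) := by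
  haveI : (dsgl F).IsGE 0 := by
    change ((singleFunctor A 0).obj F).IsGE 0
    infer_instance
  haveI : (dsgl F).IsLE 0 := by
    change ((singleFunctor A 0).obj F).IsLE 0
    infer_instance
  exact isZero_homology_of_amp (dsgl F) 0 q hq

/-- `cm` on `Hom(P₀[0], F[0][q])` is bijective as soon as the source vanishes for `q ≠ 0`. -/
lemma bijective_cm_dsgl (P₀ F : A) (q : ℤ)
    (h : q ≠ 0 → Subsingleton (dsgl P₀ ⟶ (dsgl F)⟦q⟧)) :
    Function.Bijective (fun ξ : dsgl P₀ ⟶ (dsgl F)⟦q⟧ => cm ξ) := by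
  by_cases hq : q = 0
  · subst hq
    haveI : (dsgl F).IsGE 0 := by
      change ((singleFunctor A 0).obj F).IsGE 0
      infer_instance
    exact bijective_cm_of_isGE P₀ (dsgl F)
  · haveI := h hq
    have hz := isZero_homology_dsgl F q hq
    constructor
    · intro x y _
      exact Subsingleton.elim _ _
    · intro y
      exact ⟨0, hz.eq_of_tgt _ _⟩

lemma limOneIsZero_of_subsingleton (X : ℕ → Type*) [∀ n, AddCommGroup (X n)]
    (t : ∀ n, X (n + 1) →+ X n) (h : ∀ n, Subsingleton (X n)) : CohCx.LimOneIsZero X t := by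
  intro b
  exact ⟨0, funext fun n => Subsingleton.elim _ _⟩

end Abs

section Site

variable {C : Type u} [SmallCategory C] {J : GrothendieckTopology C}
  [HasDerivedCategory.{u} (Sheaf J AddCommGrpCat.{u})]

lemma subsingleton_hom_single_pos (F : Sheaf J AddCommGrpCat.{u}) (W : C) (p : ℕ)
    (h : Subsingleton (CohSite.HU F (p + 1) W)) :
    Subsingleton (dsgl (CohCx.freeSheaf J W) ⟶ (dsgl F)⟦((p + 1 : ℕ) : ℤ)⟧) :=
  @Equiv.subsingleton _ _ (Abelian.Ext.homEquiv (X := CohCx.freeSheaf J W) (Y := F)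
    (n := p + 1)).symm h

lemma subsingleton_hom_single (F : Sheaf J AddCommGrpCat.{u}) (W : C)
    (h : ∀ p : ℕ, Subsingleton (CohSite.HU F (p + 1) W)) (m : ℤ) (hm : m ≠ 0) :
    Subsingleton (dsgl (CohCx.freeSheaf J W) ⟶ (dsgl F)⟦m⟧) := by
  rcases lt_or_gt_of_ne hm with h' | h'
  · exact subsingleton_hom_single_neg _ _ m h'
  · obtain ⟨p, rfl⟩ : ∃ p : ℕ, m = ((p + 1 : ℕ) : ℤ) := ⟨(m - 1).toNat, by push_cast; omega⟩
    exact subsingleton_hom_single_pos F W p (h p)

/-- the additive bijection `Hom(ℤ_W[0], F[0][0]) ≃ F(W)`. -/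
noncomputable def secAdd (F : Sheaf J AddCommGrpCat.{u}) (W : C) :
    (dsgl (CohCx.freeSheaf J W) ⟶ (dsgl F)⟦(0 : ℤ)⟧) →+ F.obj.obj (op W) :=
  (CohFree.evalGen J W F).comp
    ((Preadditive.rightComp (CohCx.freeSheaf J W) (e₀ F).hom).comp
      (cmAdd (CohCx.freeSheaf J W) (dsgl F) 0))

lemma secAdd_apply (F : Sheaf J AddCommGrpCat.{u}) (W : C)
    (x : dsgl (CohCx.freeSheaf J W) ⟶ (dsgl F)⟦(0 : ℤ)⟧) :
    secAdd F W x = CohFree.evalGen J W F (cm x ≫ (e₀ F).hom) := rfl

lemma bijective_secAdd (F : Sheaf J AddCommGrpCat.{u}) (W : C) :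
    Function.Bijective (secAdd F W) := by
  haveI : (dsgl F).IsGE 0 := by
    change ((singleFunctor _ 0).obj F).IsGE 0
    infer_instance
  have h1 := bijective_cm_of_isGE (CohCx.freeSheaf J W) (dsgl F)
  have h2 := bijective_comp_iso (P := CohCx.freeSheaf J W) (e₀ F).hom
  exact (CohFree.homEquivSect J W F).bijective.comp (h2.comp h1)

lemma secAdd_comp {F F' : Sheaf J AddCommGrpCat.{u}} (f : F' ⟶ F) (W : C)
    (x : dsgl (CohCx.freeSheaf J W) ⟶ (dsgl F')⟦(0 : ℤ)⟧) :
    secAdd F W (x ≫ (Q.map ((HomologicalComplex.single _ (ComplexShape.up ℤ) 0).map f))⟦(0 : ℤ)⟧') =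
      (f.hom.app (op W)).hom (secAdd F' W x) := by
  rw [secAdd_apply, secAdd_apply, cm_comp, Category.assoc, e₀_hom_naturality, ← Category.assoc]
  rfl

theorem site_sheafLim (F : ℕ → Sheaf J AddCommGrpCat.{u}) (t : ∀ n, F (n + 1) ⟶ F n)
    [HasProduct fun n => (DerivedCategory.singleFunctor (Sheaf J AddCommGrpCat.{u}) 0).obj (F n)]
    (B : Set C)
    (hB : ∀ U : C, ∃ (ι : Type u) (Y : ι → C) (f : ∀ i, Y i ⟶ U),
      Sieve.ofArrows Y f ∈ J U ∧ ∀ i, Y i ∈ B)
    (h1 : ∀ U ∈ B, ∀ (p n : ℕ), Subsingleton (CohSite.HU (F n) (p + 1) U))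
    (h2 : ∀ U ∈ B, CohCx.LimOneIsZero (fun n => (F n).obj.obj (op U))
      (fun n => ((t n).hom.app (op U)).hom)) :
    DCoh.IsRlim (fun n => (DerivedCategory.singleFunctor _ 0).obj (F n))
      (fun n => (DerivedCategory.singleFunctor _ 0).map (t n))
      ((DerivedCategory.singleFunctor _ 0).obj (limit (CohCx.opSequence F t))) ∧
    ∀ U ∈ B, ∀ p : ℕ, Subsingleton (CohSite.HU (limit (CohCx.opSequence F t)) (p + 1) U) := by
  let K : ℕ → DerivedCategory (Sheaf J AddCommGrpCat.{u}) := fun n => dsgl (F n)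
  let tK : ∀ n, K (n + 1) ⟶ K n := fun n =>
    Q.map ((HomologicalComplex.single _ (ComplexShape.up ℤ) 0).map (t n))
  haveI : HasProduct K := ‹_›
  obtain ⟨L, a, hLa⟩ := exists_isRlimVia K tK
  have hB' := isBasisFor_of_ofArrows B hB
  have hsub : ∀ W ∈ B, ∀ (n : ℕ) (m : ℤ), m ≠ 0 →
      Subsingleton (dsgl (CohCx.freeSheaf J W) ⟶ (K n)⟦m⟧) :=
    fun W hW n m hm => subsingleton_hom_single (F n) W (fun p => h1 W hW p n) m hm
  have hcm : ∀ W ∈ B, ∀ (n : ℕ) (q : ℤ),
      Function.Bijective (fun ξ : dsgl (CohCx.freeSheaf J W) ⟶ (K n)⟦q⟧ => cm ξ) :=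
    fun W hW n q => bijective_cm_dsgl _ _ q (hsub W hW n q)
  have hlim1 : ∀ W ∈ B, ∀ m : ℤ,
      CohCx.LimOneIsZero (fun n => dsgl (CohCx.freeSheaf J W) ⟶ (K n)⟦m⟧)
        (fun n => Preadditive.rightComp _ ((tK n)⟦m⟧')) := by
    intro W hW m
    by_cases hm : m = 0
    · subst hm
      exact limOneIsZero_of_bijective _ _ (fun n => secAdd (F n) W)
        (fun n => bijective_secAdd (F n) W) (fun n x => secAdd_comp (t n) W x) (h2 W hW)
    · exact limOneIsZero_of_subsingleton _ _ (fun n => hsub W hW n m hm)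
  -- vanishing of `H^q(L)` for `q ≠ 0`
  have hzero : ∀ q : ℤ, q ≠ 0 → IsZero ((homologyFunctor _ q).obj L) := by
    intro q hq
    have hz : ∀ n, IsZero ((homologyFunctor _ q).obj (K n)) :=
      fun n => isZero_homology_dsgl (F n) q hq
    haveI : IsIso (0 : (homologyFunctor _ q).obj L ⟶ (0 : Sheaf J AddCommGrpCat.{u})) :=
      isIso_of_rlim_basis (fr := frSh J) (locFr_frSh J) hLa B hB' q
        (fun W hW n => hcm W hW n q) (fun W hW => hlim1 W hW (q - 1))
        (fun n => (0 : (0 : Sheaf J AddCommGrpCat.{u}) ⟶ (homologyFunctor _ q).obj (K n)))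
        (fun n => zero_comp) (fun {X} s _ => (isZero_zero _).eq_of_tgt _ _) 0
        (fun n => (hz n).eq_of_tgt _ _)
    exact IsZero.of_iso (isZero_zero _)
      (asIso (0 : (homologyFunctor _ q).obj L ⟶ (0 : Sheaf J AddCommGrpCat.{u})))
  haveI : L.IsGE 0 := (DerivedCategory.isGE_iff L 0).2 (fun i hi => hzero i (by omega))
  haveI : L.IsLE 0 := (DerivedCategory.isLE_iff L 0).2 (fun i hi => hzero i (by omega))
  -- `H^0(L) ≅ lim F`
  let D := CohCx.opSequence F t
  have hcomp : ∀ n, ((homologyFunctor _ 0).map (a (n + 1)) ≫ (e₀ (F (n + 1))).hom) ≫ t n =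
      (homologyFunctor _ 0).map (a n) ≫ (e₀ (F n)).hom := fun n => by
    rw [Category.assoc, ← e₀_hom_naturality, ← Category.assoc, ← Functor.map_comp]
    congr 2
    exact isRlimVia_comp_t hLa n
  let cone : Cone D :=
    { pt := (homologyFunctor _ 0).obj L
      π := NatTrans.ofOpSequence (F := (Functor.const _).obj ((homologyFunctor _ 0).obj L))
        (fun n => (homologyFunctor _ 0).map (a n) ≫ (e₀ (F n)).hom) (fun n => by
          simp only [Functor.const_obj_obj, Functor.const_obj_map, Category.id_comp]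
          rw [show D.map (homOfLE (Nat.le_add_right n 1)).op = t n from
              Functor.ofOpSequence_map_homOfLE_succ _ n]
          exact (hcomp n).symm) }
  let φ : (homologyFunctor _ 0).obj L ⟶ limit D := limit.lift D cone
  haveI : IsIso φ := by
    refine isIso_of_rlim_basis (fr := frSh J) (locFr_frSh J) hLa B hB' 0
      (fun W hW n => hcm W hW n 0) (fun W hW => hlim1 W hW (0 - 1))
      (fun n => limit.π D (op n) ≫ (e₀ (F n)).inv) (fun n => ?_) (fun {X} s hs => ?_) φ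
      (fun n => ?_)
    · have hw := limit.w D (homOfLE (Nat.le_add_right n 1)).op
      rw [show D.map (homOfLE (Nat.le_add_right n 1)).op = t n from
        Functor.ofOpSequence_map_homOfLE_succ _ n] at hw
      have e1 := e₀_inv_naturality (t n)
      rw [Category.assoc]
      exact calc _ = limit.π D (op (n + 1)) ≫ (t n ≫ (e₀ (F n)).inv) :=
              congrArg (fun z => limit.π D (op (n + 1)) ≫ z) e1.symm
        _ = (limit.π D (op (n + 1)) ≫ t n) ≫ (e₀ (F n)).inv := (Category.assoc _ _ _).symm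
        _ = _ := congrArg (fun z => z ≫ (e₀ (F n)).inv) hw
    · apply limit.hom_ext
      rintro ⟨n⟩
      rw [zero_comp]
      have := hs n
      rw [← Category.assoc] at this
      exact (cancel_mono (e₀ (F n)).inv).1 (this.trans zero_comp.symm)
    · rw [← Category.assoc, limit.lift_π]
      change ((homologyFunctor _ 0).map (a n) ≫ (e₀ (F n)).hom) ≫ (e₀ (F n)).inv = _
      rw [Category.assoc, Iso.hom_inv_id, Category.comp_id]
  obtain ⟨M, ⟨eM⟩⟩ := exists_iso_singleFunctor_obj_of_isGE_of_isLE L 0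
  let eH : M ≅ limit D :=
    (e₀ M).symm ≪≫ (homologyFunctor _ 0).mapIso eM.symm ≪≫ asIso φ
  let eLG : L ≅ (DerivedCategory.singleFunctor _ 0).obj (limit D) :=
    eM ≪≫ (DerivedCategory.singleFunctor _ 0).mapIso eH
  have hLa' := isRlimVia_of_iso hLa eLG.inv (fun n => eLG.inv ≫ a n) (fun n => rfl)
  refine ⟨?_, ?_⟩
  · obtain ⟨c, hc⟩ := hLa'
    exact ⟨Pi.lift (fun n => eLG.inv ≫ a n), c, hc⟩
  · intro U hU p
    have hL0 : Subsingleton (dsgl (CohCx.freeSheaf J U) ⟶ L⟦((p + 1 : ℕ) : ℤ)⟧) := by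
      refine ⟨fun y y' => ?_⟩
      have key : ∀ y : dsgl (CohCx.freeSheaf J U) ⟶ L⟦((p + 1 : ℕ) : ℤ)⟧, y = 0 := by
        intro y
        refine (Groth.Agent.S0943.milnor_general hLa (dsgl (CohCx.freeSheaf J U))
          ((p + 1 : ℕ) : ℤ)).2 (hlim1 U hU _) y (fun n => ?_)
        haveI := hsub U hU n ((p + 1 : ℕ) : ℤ) (by push_cast; omega)
        exact Subsingleton.elim _ _
      rw [key y, key y']
    have hG : Subsingleton (dsgl (CohCx.freeSheaf J U) ⟶
        (dsgl (limit D))⟦((p + 1 : ℕ) : ℤ)⟧) :=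
      subsingleton_hom_of_iso ((shiftFunctor _ ((p + 1 : ℕ) : ℤ)).mapIso eLG) hL0
    exact @Equiv.subsingleton _ _ (Abelian.Ext.homEquiv (X := CohCx.freeSheaf J U)
      (Y := limit D) (n := p + 1)) hG

end Site

end Groth.Agent.Lib.T2H2.SheafLim
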