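import Mathlib
import Groth.Prelude.Def_FlatCA
import Groth.Agent.Lib.Helper20SuppBC
import Groth.Agent.Lib.Helper3FlatBC
import Groth.Agent.Lib.Helper4VarDim5
import Groth.Agent.Lib.T2H2DevBC4

/-!
# Standard shrinkings of one-step dévissages: ingredients (helper2)

Localizing `R`, `S`, `C`, `D` away from suitable elements preserves a one-step dévissage at a point.
This file collects the ingredients: behaviour of the fibre ring, of the support of the fibre module
and its (local) dimension under localization of `S`; residue fields under localization; transfer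
from `R` to a localization of `R` via trivial pushouts; smoothness and geometric irreducibility of
fibres under localization; primes of localizations.
-/

set_option autoImplicit false
set_option linter.style.haveILetI false
set_option linter.unusedSectionVars false
universe u
open TensorProduct

namespace Groth.Agent.Lib.T2H2.Shrink

attribute [local instance] Algebra.TensorProduct.rightAlgebra

section A

theorem dim_zeroLocus {R : Type u} [CommRing R] (I : Ideal R) :
    topologicalKrullDim ↥(PrimeSpectrum.zeroLocus (I : Set R)) = ringKrullDim (R ⧸ I) := by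
  rw [← PrimeSpectrum.topologicalKrullDim_eq_ringKrullDim]
  have hsurj : Function.Surjective (Ideal.Quotient.mk I) := Ideal.Quotient.mk_surjective
  have hemb := PrimeSpectrum.isEmbedding_comap_of_surjective _ (Ideal.Quotient.mk I) hsurj
  have hrange : Set.range (PrimeSpectrum.comap (Ideal.Quotient.mk I)) =
      PrimeSpectrum.zeroLocus (I : Set R) := by
    rw [_root_.range_comap_of_surjective _ _ hsurj, Ideal.mk_ker]
  symm
  rw [← hrange]
  exact IsHomeomorph.topologicalKrullDim_eq _ hemb.toHomeomorph.isHomeomorph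

theorem topologicalKrullDim_support {R : Type u} [CommRing R] (M : Type u) [AddCommGroup M]
    [Module R M] [Module.Finite R M] :
    topologicalKrullDim ↥(Module.support R M) = Module.supportDim R M := by
  rw [Module.supportDim_eq_ringKrullDim_quotient_annihilator, ← dim_zeroLocus,
    Module.support_eq_zeroLocus]

/-- the residue field does not change under localization. -/
theorem residueField_map_bijective_of_isLocalization {A A' : Type u} [CommRing A] [CommRing A']
    [Algebra A A'] (M : Submonoid A) [IsLocalization M A'] (Q : Ideal A) [Q.IsPrime]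
    (Q' : Ideal A') [Q'.IsPrime] (hQ : Q = Q'.comap (algebraMap A A')) :
    Function.Bijective (Ideal.ResidueField.map Q Q' (algebraMap A A') hQ) := by
  refine ⟨(Ideal.ResidueField.map Q Q' (algebraMap A A') hQ).injective, ?_⟩
  have hmem : ∀ x : A', algebraMap A' Q'.ResidueField x ∈
      (Ideal.ResidueField.map Q Q' (algebraMap A A') hQ).range := by
    intro x
    obtain ⟨a, m, rfl⟩ := IsLocalization.exists_mk'_eq M x
    have hm : (m : A) ∉ Q := by
      intro hm
      rw [hQ, Ideal.mem_comap] at hm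
      exact (Ideal.IsPrime.ne_top inferInstance)
        (Ideal.eq_top_of_isUnit_mem _ hm (IsLocalization.map_units A' m))
    have h1 : ∀ t : A, algebraMap A' Q'.ResidueField (algebraMap A A' t) =
        Ideal.ResidueField.map Q Q' (algebraMap A A') hQ (algebraMap A Q.ResidueField t) :=
      fun t => (Ideal.ResidueField.map_algebraMap Q Q' (algebraMap A A') hQ t).symm
    have hne : algebraMap A' Q'.ResidueField (algebraMap A A' m) ≠ 0 := by
      rw [Ne, Ideal.algebraMap_residueField_eq_zero]
      intro h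
      exact hm (by rw [hQ]; exact h)
    have hx : algebraMap A' Q'.ResidueField (IsLocalization.mk' A' a m) =
        Ideal.ResidueField.map Q Q' (algebraMap A A') hQ
          (algebraMap A Q.ResidueField a / algebraMap A Q.ResidueField m) := by
      rw [map_div₀, ← h1, ← h1, eq_div_iff hne, ← map_mul, IsLocalization.mk'_spec]
    rw [hx]
    exact ⟨_, rfl⟩
  intro z
  obtain ⟨x, y, hy, rfl⟩ := IsFractionRing.div_surjective (A := A' ⧸ Q') z
  obtain ⟨x, rfl⟩ := Ideal.Quotient.mk_surjective x
  obtain ⟨y, rfl⟩ := Ideal.Quotient.mk_surjective y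
  rw [Ideal.algebraMap_quotient_residueField_mk, Ideal.algebraMap_quotient_residueField_mk]
  obtain ⟨a, ha⟩ := hmem x
  obtain ⟨c, hc⟩ := hmem y
  exact ⟨a / c, by rw [map_div₀, ha, hc]⟩

/-- trivial pushout: a ring in which `M` is already invertible is its own base change to the
localization. -/
theorem isPushout_self_of_isLocalization {R Rg T : Type u} [CommRing R] [CommRing Rg] [CommRing T]
    [Algebra R Rg] [Algebra R T] [Algebra Rg T] [IsScalarTower R Rg T] (M : Submonoid R)
    [IsLocalization M Rg] : Algebra.IsPushout R Rg T T := by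
  have hle : Algebra.algebraMapSubmonoid T M ≤ IsUnit.submonoid T := by
    rintro _ ⟨m, hm, rfl⟩
    change IsUnit (algebraMap R T m)
    rw [IsScalarTower.algebraMap_apply R Rg T]
    exact (IsLocalization.map_units Rg ⟨m, hm⟩).map _
  haveI : IsLocalization (Algebra.algebraMapSubmonoid T M) T := IsLocalization.of_le_isUnit hle
  exact (Algebra.isPushout_of_isLocalization M Rg T T).symm

end A

section B

variable {R S Sx : Type u} [CommRing R] [CommRing S] [CommRing Sx] [Algebra R S] [Algebra S Sx]
  [Algebra R Sx] [IsScalarTower R S Sx]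
  (p : Ideal R) [p.IsPrime]
  (N : Type u) [AddCommGroup N] [Module S N] [Module.Finite S N]
  (Nx : Type u) [AddCommGroup Nx] [Module Sx Nx] [Module S Nx] [IsScalarTower S Sx Nx]
  (f : N →ₗ[S] Nx) (hf : IsBaseChange Sx f)

include hf in
/-- The map of fibre rings under localization of `S`, with its basic properties. -/
theorem exists_fiber_ringHom_of_isLocalization (hX : S) [IsLocalization.Away hX Sx] :
    ∃ ψ : p.Fiber S →+* p.Fiber Sx,
      (∀ s : S, ψ ((1 : p.ResidueField) ⊗ₜ[R] s) =
        (1 : p.ResidueField) ⊗ₜ[R] (algebraMap S Sx s)) ∧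
      (Module.support (p.Fiber Sx) (FlatCA.fiberMod p Sx Nx) =
        PrimeSpectrum.comap ψ ⁻¹' Module.support (p.Fiber S) (FlatCA.fiberMod p S N)) ∧
      Topology.IsOpenEmbedding (PrimeSpectrum.comap ψ) ∧
      Set.range (PrimeSpectrum.comap ψ) =
        (PrimeSpectrum.basicOpen ((1 : p.ResidueField) ⊗ₜ[R] hX) : Set _) := by
  let ψ : p.Fiber S →ₐ[p.ResidueField] p.Fiber Sx :=
    Algebra.TensorProduct.map (AlgHom.id p.ResidueField p.ResidueField)
      (IsScalarTower.toAlgHom R S Sx)
  have hψs : ∀ s : S, ψ ((1 : p.ResidueField) ⊗ₜ[R] s) =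
      (1 : p.ResidueField) ⊗ₜ[R] (algebraMap S Sx s) := fun s => by
    simp [ψ]
  letI algTT' : Algebra (p.Fiber S) (p.Fiber Sx) := ψ.toRingHom.toAlgebra
  letI algST' : Algebra S (p.Fiber Sx) :=
    ((algebraMap Sx (p.Fiber Sx)).comp (algebraMap S Sx)).toAlgebra
  haveI tSS'T' : IsScalarTower S Sx (p.Fiber Sx) := IsScalarTower.of_algebraMap_eq fun s => rfl
  haveI tSTT' : IsScalarTower S (p.Fiber S) (p.Fiber Sx) :=
    IsScalarTower.of_algebraMap_eq fun s => by
      change _ = ψ ((1 : p.ResidueField) ⊗ₜ[R] s)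
      rw [hψs]
      rfl
  haveI tkTT' : IsScalarTower p.ResidueField (p.Fiber S) (p.Fiber Sx) :=
    IsScalarTower.of_algebraMap_eq fun a => (ψ.commutes a).symm
  haveI : Module.Finite Sx Nx := Module.Finite.equiv hf.equiv
  haveI hloc : IsLocalization.Away ((1 : p.ResidueField) ⊗ₜ[R] hX) (p.Fiber Sx) := by
    have hloc : IsLocalization ((Submonoid.powers hX).map
        (Algebra.TensorProduct.includeRight (R := R) (A := p.ResidueField))) (p.Fiber Sx) :=
      IsLocalization.tensorProduct_tensorProduct_right R p.ResidueField (Submonoid.powers hX) Sx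
        (by ext s; exact hψs s)
    rw [Submonoid.map_powers] at hloc
    exact hloc
  refine ⟨ψ.toRingHom, hψs, ?_, ?_, ?_⟩
  · ext q'
    rw [Set.mem_preimage]
    change q' ∈ Module.support (p.Fiber Sx) ((p.Fiber Sx) ⊗[Sx] Nx) ↔
      PrimeSpectrum.comap (algebraMap (p.Fiber S) (p.Fiber Sx)) q' ∈
        Module.support (p.Fiber S) ((p.Fiber S) ⊗[S] N)
    rw [Groth.Agent.Lib.Helper20.SuppBC.mem_support_baseChange_iff,
      Groth.Agent.Lib.Helper20.SuppBC.mem_support_baseChange_iff,
      ← LinearEquiv.support_eq hf.equiv,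
      Groth.Agent.Lib.Helper20.SuppBC.mem_support_baseChange_iff]
    have heq : PrimeSpectrum.comap (algebraMap S Sx)
          (PrimeSpectrum.comap (algebraMap Sx (p.Fiber Sx)) q') =
        PrimeSpectrum.comap (algebraMap S (p.Fiber S))
          (PrimeSpectrum.comap (algebraMap (p.Fiber S) (p.Fiber Sx)) q') := by
      rw [← PrimeSpectrum.comap_comp_apply, ← PrimeSpectrum.comap_comp_apply,
        ← IsScalarTower.algebraMap_eq S Sx (p.Fiber Sx),
        ← IsScalarTower.algebraMap_eq S (p.Fiber S) (p.Fiber Sx)]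
    rw [heq]
  · exact PrimeSpectrum.localization_away_isOpenEmbedding (p.Fiber Sx)
      ((1 : p.ResidueField) ⊗ₜ[R] hX)
  · exact PrimeSpectrum.localization_away_comap_range (p.Fiber Sx)
      ((1 : p.ResidueField) ⊗ₜ[R] hX)


theorem top_aux {X X' : Type*} [TopologicalSpace X] [TopologicalSpace X'] (j : X' → X)
    (hj : Topology.IsOpenEmbedding j) (Z : Set X) (Z' : Set X') (h : Z' = j ⁻¹' Z) (x' : X')
    (hx' : x' ∈ Z') (hx : j x' ∈ Z) :
    FlatMor.localDim Z' ⟨x', hx'⟩ = FlatMor.localDim Z ⟨j x', hx⟩ ∧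
      topologicalKrullDim Z' ≤ topologicalKrullDim Z := by
  subst h
  have hopen := Z.restrictPreimage_isOpenEmbedding hj
  exact ⟨Groth.Agent.Lib.Helper4.VarDim.localDim_eq_of_isOpenEmbedding hopen ⟨x', hx'⟩,
    hopen.isInducing.topologicalKrullDim_le⟩

include hf in
theorem supportDim_and_localDim_of_isLocalization (hX : S) [IsLocalization.Away hX Sx]
    (q : Ideal S) [q.IsPrime] [q.LiesOver p] (hXq : hX ∉ q) (n : ℕ)
    (hdim : Module.supportDim (p.Fiber S) (FlatCA.fiberMod p S N) = n)
    (h1 : ∃ (ξ : PrimeSpectrum (p.Fiber S))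
      (hξ : ξ ∈ Module.support (p.Fiber S) (FlatCA.fiberMod p S N)),
      ξ.asIdeal = FlatCA.fiberIdeal p q ∧
      FlatMor.localDim (Module.support (p.Fiber S) (FlatCA.fiberMod p S N)) ⟨ξ, hξ⟩ = n) :
    Module.supportDim (p.Fiber Sx) (FlatCA.fiberMod p Sx Nx) = n ∧
    ∃ (ξ' : PrimeSpectrum (p.Fiber Sx))
      (hξ' : ξ' ∈ Module.support (p.Fiber Sx) (FlatCA.fiberMod p Sx Nx)),
      ξ'.asIdeal = FlatCA.fiberIdeal p (q.map (algebraMap S Sx)) ∧
      FlatMor.localDim (Module.support (p.Fiber Sx) (FlatCA.fiberMod p Sx Nx)) ⟨ξ', hξ'⟩ = n := by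
  obtain ⟨ξ, hξ, hξq, hξdim⟩ := h1
  obtain ⟨ψ, hψs, hsupp, hopen, hrange⟩ := exists_fiber_ringHom_of_isLocalization p N Nx f hf hX
  haveI : Module.Finite Sx Nx := Module.Finite.equiv hf.equiv
  haveI : Module.Finite (p.Fiber S) (FlatCA.fiberMod p S N) :=
    inferInstanceAs (Module.Finite (p.Fiber S) ((p.Fiber S) ⊗[S] N))
  haveI : Module.Finite (p.Fiber Sx) (FlatCA.fiberMod p Sx Nx) :=
    inferInstanceAs (Module.Finite (p.Fiber Sx) ((p.Fiber Sx) ⊗[Sx] Nx))
  -- the point `ξ` is in the range
  have hξr : ξ ∈ Set.range (PrimeSpectrum.comap ψ) := by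
    rw [hrange]
    change (1 : p.ResidueField) ⊗ₜ[R] hX ∉ ξ.asIdeal
    rw [hξq]
    intro hmem
    apply hXq
    have := Groth.Agent.S1224.comap_fiberIdeal p q
    rw [← this]
    exact hmem
  obtain ⟨ξ', hξ'ξ⟩ := hξr
  have hξ'mem : ξ' ∈ Module.support (p.Fiber Sx) (FlatCA.fiberMod p Sx Nx) := by
    rw [hsupp, Set.mem_preimage, hξ'ξ]
    exact hξ
  have hjξ' : PrimeSpectrum.comap ψ ξ' ∈ Module.support (p.Fiber S) (FlatCA.fiberMod p S N) := by
    rw [hξ'ξ]; exact hξ
  obtain ⟨hld, hle⟩ := top_aux (PrimeSpectrum.comap ψ) hopen _ _ hsupp ξ' hξ'mem hjξ'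
  have hld' : FlatMor.localDim (Module.support (p.Fiber Sx) (FlatCA.fiberMod p Sx Nx))
      ⟨ξ', hξ'mem⟩ = n := by
    rw [hld, ← hξdim]
    congr 1
    exact Subtype.ext hξ'ξ
  refine ⟨?_, ξ', hξ'mem, ?_, hld'⟩
  · apply le_antisymm
    · rw [← topologicalKrullDim_support, ← hdim, ← topologicalKrullDim_support]
      exact hle
    · rw [← topologicalKrullDim_support, ← hld']
      exact Groth.Agent.Lib.Helper7.TopDim.localDim_le_dim _
  · -- the ideal
    rw [Groth.Agent.Lib.T2H2.DevBC2.eq_fiberIdeal_comap p ξ'.asIdeal]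
    congr 1
    have hcomp : (Algebra.TensorProduct.includeRight (R := R) (A := p.ResidueField)
        (B := Sx)).toRingHom.comp (algebraMap S Sx) =
        ψ.comp (Algebra.TensorProduct.includeRight (R := R) (A := p.ResidueField)
          (B := S)).toRingHom := by
      ext s
      exact (hψs s).symm
    have h2 : (ξ'.asIdeal.comap (Algebra.TensorProduct.includeRight (R := R)
        (A := p.ResidueField) (B := Sx)).toRingHom).comap (algebraMap S Sx) = q := by
      rw [Ideal.comap_comap, hcomp, ← Ideal.comap_comap]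
      have : ξ'.asIdeal.comap ψ = ξ.asIdeal := congrArg PrimeSpectrum.asIdeal hξ'ξ
      rw [this, hξq, Groth.Agent.S1224.comap_fiberIdeal]
    rw [← h2]
    exact (IsLocalization.map_under (Submonoid.powers hX) Sx _).symm


end B


section C1

/-- the ring-and-module part of a one-step dévissage is stable under simultaneous base change. -/
theorem devissage_components {S C D G N : Type u} [CommRing S] [CommRing C] [CommRing D]
    [Algebra S C] [Algebra D C] [AddCommGroup G] [Module C G] [Module S G] [IsScalarTower S C G]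
    [AddCommGroup N] [Module S N]
    (e : N ≃ₗ[S] G) (hsurj : Function.Surjective (algebraMap S C))
    [Algebra.FinitePresentation S C] [Module.Finite D C] [Module.Finite C G]
    {S' C' D' : Type u} [CommRing S'] [CommRing C'] [CommRing D'] [Algebra S S'] [Algebra C C']
    [Algebra D D'] [Algebra S' C'] [Algebra S C'] [IsScalarTower S S' C'] [IsScalarTower S C C']
    [Algebra D' C'] [Algebra D C'] [IsScalarTower D D' C'] [IsScalarTower D C C']
    (hSC' : Algebra.IsPushout S S' C C') (hDC' : Algebra.IsPushout D D' C C')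
    {N' : Type u} [AddCommGroup N'] [Module S' N'] [Module S N'] [IsScalarTower S S' N']
    (f : N →ₗ[S] N') (hf : IsBaseChange S' f)
    {G' : Type u} [AddCommGroup G'] [Module C' G'] [Module S' G'] [IsScalarTower S' C' G']
    [Module C G'] [IsScalarTower C C' G'] (g : G →ₗ[C] G') (hg : IsBaseChange C' g) :
    Nonempty (N' ≃ₗ[S'] G') ∧ Function.Surjective (algebraMap S' C') ∧
      Algebra.FinitePresentation S' C' ∧ Module.Finite D' C' ∧ Module.Finite C' G' := by
  haveI := hSC'
  haveI := hDC'
  refine ⟨?_, ?_, ?_, ?_, ?_⟩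
  · letI modSG' : Module S G' := Module.compHom G' (algebraMap S S')
    haveI tSS'G' : IsScalarTower S S' G' := IsScalarTower.of_algebraMap_smul fun r x => rfl
    haveI tSCG' : IsScalarTower S C G' := by
      refine IsScalarTower.of_algebraMap_smul fun s x => ?_
      rw [← algebraMap_smul C' (algebraMap S C s) x, ← IsScalarTower.algebraMap_apply S C C',
        IsScalarTower.algebraMap_apply S S' C', algebraMap_smul, algebraMap_smul]
    have h2 : IsBaseChange S' (g.restrictScalars S) :=
      Groth.Agent.Lib.Helper3.FlatLoc.isBaseChange_restrictScalars_of_isPushout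
        (A := S) (R := S') (PA := C) (PR := C') g hg
    exact ⟨hf.equiv.symm ≪≫ₗ
      (AlgebraTensorModule.congr (LinearEquiv.refl S' S') e) ≪≫ₗ h2.equiv⟩
  · intro c'
    refine hSC'.out.inductionOn c' (fun x => ∃ s', algebraMap S' C' s' = x) ⟨0, map_zero _⟩
      ?_ ?_ ?_
    · intro c
      obtain ⟨s, rfl⟩ := hsurj c
      refine ⟨algebraMap S S' s, ?_⟩
      change _ = algebraMap C C' (algebraMap S C s)
      rw [← IsScalarTower.algebraMap_apply S S' C', ← IsScalarTower.algebraMap_apply S C C']
    · rintro s' x ⟨t, rfl⟩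
      exact ⟨s' * t, by rw [map_mul, Algebra.smul_def]⟩
    · rintro x y ⟨a, rfl⟩ ⟨b, rfl⟩
      exact ⟨a + b, map_add _ _ _⟩
  · exact Algebra.FinitePresentation.equiv (Algebra.IsPushout.equiv S S' C C')
  · exact Module.Finite.equiv (Algebra.IsPushout.equiv D D' C C').toLinearEquiv
  · exact Module.Finite.equiv hg.equiv

end C1

section C2

open CategoryTheory AlgebraicGeometry

/-- Localizing the source preserves smoothness of relative dimension `n`. -/
theorem smoothRelDim_of_isLocalization_away {R D Dy : Type u} [CommRing R] [CommRing D] [CommRing Dy]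
    [Algebra R D] [Algebra D Dy] [Algebra R Dy] [IsScalarTower R D Dy] (hY : D)
    [IsLocalization.Away hY Dy] (n : ℕ) (h : FlatCA.SmoothRelDim n R D) :
    FlatCA.SmoothRelDim n R Dy := by
  unfold FlatCA.SmoothRelDim at h ⊢
  haveI := h
  haveI : IsOpenImmersion (Spec.map (CommRingCat.ofHom (algebraMap D Dy))) :=
    IsOpenImmersion.of_isLocalization hY
  have heq : Spec.map (CommRingCat.ofHom (algebraMap R Dy)) =
      Spec.map (CommRingCat.ofHom (algebraMap D Dy)) ≫
        Spec.map (CommRingCat.ofHom (algebraMap R D)) := by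
    rw [← Spec.map_comp, ← CommRingCat.ofHom_comp, ← IsScalarTower.algebraMap_eq]
  rw [heq]
  have := smoothOfRelativeDimension_comp (n := 0) (m := n)
    (f := Spec.map (CommRingCat.ofHom (algebraMap D Dy)))
    (Spec.map (CommRingCat.ofHom (algebraMap R D)))
  rwa [zero_add] at this

/-- Smoothness of relative dimension `n` over `R` gives the same over a localization of `R` over
which the algebra lives. -/
theorem smoothRelDim_of_isLocalization_base {R Rg Dy : Type u} [CommRing R] [CommRing Rg]
    [CommRing Dy] [Algebra R Rg] [Algebra R Dy] [Algebra Rg Dy] [IsScalarTower R Rg Dy]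
    (M : Submonoid R) [IsLocalization M Rg] (n : ℕ) (h : FlatCA.SmoothRelDim n R Dy) :
    FlatCA.SmoothRelDim n Rg Dy := by
  haveI := isPushout_self_of_isLocalization (R := R) (Rg := Rg) (T := Dy) M
  exact Groth.Agent.Lib.T2H2.DevBC.smoothRelDim_of_isPushout (R := R) (R' := Rg) (D := Dy)
    (D' := Dy) n h

/-- An open part of an algebra with geometrically irreducible fibres which surjects onto an open part
of the base has geometrically irreducible fibres over it. -/
theorem geomIrredFibres_of_isLocalization {R Rg D Dy : Type u} [CommRing R] [CommRing Rg]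
    [CommRing D] [CommRing Dy] [Algebra R Rg] [Algebra R D] [Algebra D Dy] [Algebra R Dy]
    [IsScalarTower R D Dy] [Algebra Rg Dy] [IsScalarTower R Rg Dy] (g : R)
    [IsLocalization.Away g Rg] (hY : D) [IsLocalization.Away hY Dy]
    (hsurj : Function.Surjective (PrimeSpectrum.comap (algebraMap Rg Dy)))
    (h : FlatCA.GeomIrredFibres R D) : FlatCA.GeomIrredFibres Rg Dy := by
  have h1 : FlatCA.GeomIrredFibres Rg (Rg ⊗[R] D) :=
    Groth.Agent.Lib.T2H2.DevBC.geomIrredFibres_of_isPushout (R := R) (R' := Rg) (D := D)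
      (D' := Rg ⊗[R] D) h
  let θ : Rg ⊗[R] D →ₐ[Rg] Dy :=
    Algebra.TensorProduct.lift (Algebra.ofId Rg Dy) (IsScalarTower.toAlgHom R D Dy)
      (fun _ _ => Commute.all _ _)
  have hθD : θ.toRingHom.comp (algebraMap D (Rg ⊗[R] D)) = algebraMap D Dy := by
    ext d
    change θ ((1 : Rg) ⊗ₜ[R] d) = _
    simp [θ]
  have hθR : θ.toRingHom.comp (algebraMap Rg (Rg ⊗[R] D)) = algebraMap Rg Dy := by
    ext r
    exact θ.commutes r
  unfold FlatCA.GeomIrredFibres at h1 ⊢
  haveI := h1
  -- open immersions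
  haveI hoi1 : IsOpenImmersion (Spec.map (CommRingCat.ofHom (algebraMap D (Rg ⊗[R] D)))) :=
    IsOpenImmersion.of_isLocalization (algebraMap R D g)
  haveI hoi2 : IsOpenImmersion (Spec.map (CommRingCat.ofHom (algebraMap D Dy))) :=
    IsOpenImmersion.of_isLocalization hY
  have hcomp : Spec.map (CommRingCat.ofHom θ.toRingHom) ≫
      Spec.map (CommRingCat.ofHom (algebraMap D (Rg ⊗[R] D))) =
      Spec.map (CommRingCat.ofHom (algebraMap D Dy)) := by
    rw [← Spec.map_comp, ← CommRingCat.ofHom_comp, hθD]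
  haveI hoi3 : IsOpenImmersion (Spec.map (CommRingCat.ofHom θ.toRingHom) ≫
      Spec.map (CommRingCat.ofHom (algebraMap D (Rg ⊗[R] D)))) := by
    rw [hcomp]; exact hoi2
  haveI hoi : IsOpenImmersion (Spec.map (CommRingCat.ofHom θ.toRingHom)) :=
    IsOpenImmersion.of_comp _ (Spec.map (CommRingCat.ofHom (algebraMap D (Rg ⊗[R] D))))
  have heq : Spec.map (CommRingCat.ofHom (algebraMap Rg Dy)) =
      Spec.map (CommRingCat.ofHom θ.toRingHom) ≫
        Spec.map (CommRingCat.ofHom (algebraMap Rg (Rg ⊗[R] D))) := by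
    rw [← Spec.map_comp, ← CommRingCat.ofHom_comp, hθR]
  haveI hs : Surjective (Spec.map (CommRingCat.ofHom θ.toRingHom) ≫
      Spec.map (CommRingCat.ofHom (algebraMap Rg (Rg ⊗[R] D)))) := by
    rw [← heq]
    exact ⟨hsurj⟩
  rw [heq]
  infer_instance

end C2

section C4

open Groth.Agent.Lib.T2H2.DevBC2

theorem purelyTranscendental_of_isLocalization {R Rg D Dy : Type u} [CommRing R] [CommRing Rg]
    [CommRing D] [CommRing Dy] [Algebra R Rg] [Algebra R D] [Algebra D Dy] [Algebra R Dy]
    [IsScalarTower R D Dy] [Algebra Rg Dy] [IsScalarTower R Rg Dy]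
    (M : Submonoid R) [IsLocalization M Rg] (M' : Submonoid D) [IsLocalization M' Dy]
    (p : Ideal R) [p.IsPrime] (p' : Ideal Rg) [p'.IsPrime] [hp' : p'.LiesOver p]
    (y : Ideal D) [y.IsPrime] [y.LiesOver p]
    (y' : Ideal Dy) [y'.IsPrime] [y'.LiesOver y] [y'.LiesOver p']
    (h4 : FlatCA.PurelyTranscendental p y) : FlatCA.PurelyTranscendental p' y' := by
  have hy'y : y = y'.comap (algebraMap D Dy) := (inferInstance : y'.LiesOver y).over
  have hyp : p = y.comap (algebraMap R D) := (inferInstance : y.LiesOver p).over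
  have hy'p' : p' = y'.comap (algebraMap Rg Dy) := (inferInstance : y'.LiesOver p').over
  have hκ : Function.Bijective (Ideal.ResidueField.mapₐ p p' (Algebra.ofId R Rg) hp'.over) :=
    residueField_map_bijective_of_isLocalization M p p' hp'.over
  unfold FlatCA.PurelyTranscendental at h4 ⊢
  obtain ⟨ι, x, hx, hadj⟩ := h4
  let g₁ : y.ResidueField →+* y'.ResidueField :=
    Ideal.ResidueField.map y y' (algebraMap D Dy) hy'y
  have hg₁ : Function.Bijective g₁ := residueField_map_bijective_of_isLocalization M' y y' hy'y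
  refine ⟨ι, g₁ ∘ x, ?_⟩
  refine @transcendenceBasis_transport p.ResidueField p'.ResidueField y.ResidueField
    y'.ResidueField _ _ _ _
    (Ideal.ResidueField.mapₐ p y (Algebra.ofId R D) hyp).toRingHom.toAlgebra
    (Ideal.ResidueField.mapₐ p' y' (Algebra.ofId Rg Dy) hy'p').toRingHom.toAlgebra
    (Ideal.ResidueField.mapₐ p p' (Algebra.ofId R Rg) hp'.over).toRingHom hκ g₁ hg₁ ?_ ι x hx hadj
  apply Ideal.ResidueField.ringHom_ext
  ext r
  simp only [RingHom.coe_comp, Function.comp_apply]
  change g₁ ((Ideal.ResidueField.mapₐ p y (Algebra.ofId R D) hyp) (algebraMap R p.ResidueField r)) =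
    (Ideal.ResidueField.mapₐ p' y' (Algebra.ofId Rg Dy) hy'p')
      ((Ideal.ResidueField.mapₐ p p' (Algebra.ofId R Rg) hp'.over) (algebraMap R p.ResidueField r))
  rw [Ideal.ResidueField.mapₐ_apply, Ideal.ResidueField.mapₐ_apply, Ideal.ResidueField.mapₐ_apply,
    Ideal.ResidueField.map_algebraMap, Ideal.ResidueField.map_algebraMap,
    Ideal.ResidueField.map_algebraMap, Ideal.ResidueField.map_algebraMap]
  change algebraMap Dy y'.ResidueField (algebraMap D Dy (algebraMap R D r)) =
    algebraMap Dy y'.ResidueField (algebraMap Rg Dy (algebraMap R Rg r))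
  rw [← IsScalarTower.algebraMap_apply R D Dy, ← IsScalarTower.algebraMap_apply R Rg Dy]

end C4

section P4b

/-- transfer of the fibre-dimension data from `R` to a localization of `R` over which everything
lives. -/
theorem fiber_transfer {R Rg Sx : Type u} [CommRing R] [CommRing Rg] [CommRing Sx] [Algebra R Rg]
    [Algebra R Sx] [Algebra Rg Sx] [IsScalarTower R Rg Sx] [Algebra.FiniteType R Sx]
    (M : Submonoid R) [IsLocalization M Rg] (p : Ideal R) [p.IsPrime] (p' : Ideal Rg) [p'.IsPrime]
    [hp' : p'.LiesOver p] (Nx : Type u) [AddCommGroup Nx] [Module Sx Nx] [Module.Finite Sx Nx]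
    (qx : Ideal Sx) [qx.IsPrime] [qx.LiesOver p] [qx.LiesOver p'] (n : ℕ)
    (hdim : Module.supportDim (p.Fiber Sx) (FlatCA.fiberMod p Sx Nx) = n)
    (h1 : ∃ (ξ : PrimeSpectrum (p.Fiber Sx))
      (hξ : ξ ∈ Module.support (p.Fiber Sx) (FlatCA.fiberMod p Sx Nx)),
      ξ.asIdeal = FlatCA.fiberIdeal p qx ∧
      FlatMor.localDim (Module.support (p.Fiber Sx) (FlatCA.fiberMod p Sx Nx)) ⟨ξ, hξ⟩ = n) :
    Module.supportDim (p'.Fiber Sx) (FlatCA.fiberMod p' Sx Nx) = n ∧
    ∃ (ξ' : PrimeSpectrum (p'.Fiber Sx))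
      (hξ' : ξ' ∈ Module.support (p'.Fiber Sx) (FlatCA.fiberMod p' Sx Nx)),
      ξ'.asIdeal = FlatCA.fiberIdeal p' qx ∧
      FlatMor.localDim (Module.support (p'.Fiber Sx) (FlatCA.fiberMod p' Sx Nx)) ⟨ξ', hξ'⟩ = n := by
  haveI hpo : Algebra.IsPushout R Rg Sx Sx := isPushout_self_of_isLocalization M
  have hid : IsBaseChange Sx (LinearMap.id : Nx →ₗ[Sx] Nx) :=
    IsBaseChange.of_equiv (TensorProduct.lid Sx Nx) (fun x => by simp)
  have hκ : Function.Bijective (Ideal.ResidueField.mapₐ p p' (Algebra.ofId R Rg) hp'.over) :=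
    residueField_map_bijective_of_isLocalization M p p' hp'.over
  haveI : qx.LiesOver qx := ⟨by rw [Ideal.under_def]; exact (Ideal.comap_id qx).symm⟩
  constructor
  · rw [← hdim]
    exact Groth.Agent.Lib.T2H2.DevBC.supportDim_fiberMod_baseChange (R := R) (R' := Rg) (S := Sx)
      (S' := Sx) p p' Nx Nx LinearMap.id hid
  · exact Groth.Agent.Lib.T2H2.DevBC4.exists_localDim_fiber_of_isPushout (R := R) (R' := Rg)
      (S := Sx) (S' := Sx) p p' hκ Nx Nx LinearMap.id hid qx qx n h1

end P4b

section C5

theorem away_of_dvd_of_dvd_pow {A A' : Type u} [CommRing A] [CommRing A'] [Algebra A A'] (a b : A)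
    [IsLocalization.Away a A'] (h1 : b ∣ a) (h2 : ∃ k, a ∣ b ^ k) : IsLocalization.Away b A' := by
  obtain ⟨k, c, hk⟩ := h2
  refine IsLocalization.Away.mk _ (IsLocalization.Away.isUnit_of_dvd a h1) (fun s => ?_)
    (fun x y hxy => ?_)
  · obtain ⟨n, x, hn⟩ := IsLocalization.Away.surj a s
    refine ⟨k * n, c ^ n * x, ?_⟩
    rw [← map_pow, pow_mul, hk, mul_pow, map_mul, map_mul, map_pow, map_pow, ← hn]
    ring
  · obtain ⟨n, hn⟩ := IsLocalization.Away.exists_of_eq a hxy
    refine ⟨k * n, ?_⟩
    rw [pow_mul, hk, mul_pow, mul_assoc, mul_assoc, mul_left_comm (a ^ n) (c ^ n) x,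
      mul_left_comm (a ^ n) (c ^ n) y, hn]

theorem isPushout_away {A B A' B' : Type u} [CommRing A] [CommRing B] [CommRing A'] [CommRing B']
    [Algebra A B] [Algebra A A'] [Algebra B B'] [Algebra A' B'] [Algebra A B']
    [IsScalarTower A A' B'] [IsScalarTower A B B'] (a : A) [IsLocalization.Away a A']
    [h : IsLocalization.Away (algebraMap A B a) B'] : Algebra.IsPushout A A' B B' := by
  haveI : IsLocalization (Algebra.algebraMapSubmonoid B (Submonoid.powers a)) B' := by
    rw [Algebra.algebraMapSubmonoid_powers]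
    exact h
  exact (Algebra.isPushout_of_isLocalization (Submonoid.powers a) A' B B').symm

variable {A A' : Type u} [CommRing A] [CommRing A'] [Algebra A A'] (a : A) [IsLocalization.Away a A']

include a in
theorem isPrime_map_away (P : Ideal A) [hP : P.IsPrime] (ha : a ∉ P) :
    (P.map (algebraMap A A')).IsPrime :=
  IsLocalization.isPrime_of_isPrime_disjoint (Submonoid.powers a) A' P hP
    ((Ideal.disjoint_powers_iff_notMem a hP.isRadical).mpr ha)

include a in
theorem comap_map_away (P : Ideal A) [hP : P.IsPrime] (ha : a ∉ P) :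
    (P.map (algebraMap A A')).comap (algebraMap A A') = P :=
  IsLocalization.under_map_of_isPrime_disjoint (Submonoid.powers a) A' hP
    ((Ideal.disjoint_powers_iff_notMem a hP.isRadical).mpr ha)

include a in
theorem eq_map_of_comap_eq (P : Ideal A) (Q' : Ideal A') (h : Q'.comap (algebraMap A A') = P) :
    Q' = P.map (algebraMap A A') := by
  rw [← h]
  exact (IsLocalization.map_under (Submonoid.powers a) A' Q').symm

theorem liesOver_map_away {A B A' B' : Type u} [CommRing A] [CommRing B] [CommRing A']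
    [CommRing B'] [Algebra A B] [Algebra A A'] [Algebra B B'] [Algebra A' B'] [Algebra A B']
    [IsScalarTower A A' B'] [IsScalarTower A B B'] (a : A) [IsLocalization.Away a A'] (b : B)
    [IsLocalization.Away b B'] (P : Ideal A) (Q : Ideal B) [Q.IsPrime] (hb : b ∉ Q)
    [hQP : Q.LiesOver P] : (Q.map (algebraMap B B')).LiesOver (P.map (algebraMap A A')) := by
  refine ⟨(eq_map_of_comap_eq a P _ ?_).symm⟩
  rw [Ideal.under_def, Ideal.comap_comap, ← IsScalarTower.algebraMap_eq,
    IsScalarTower.algebraMap_eq A B B', ← Ideal.comap_comap, comap_map_away b Q hb]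
  exact hQP.over.symm

/-- uniqueness of the prime over `y` is inherited by localizations. -/
theorem unique_prime_away {D C Dy Cz : Type u} [CommRing D] [CommRing C] [CommRing Dy]
    [CommRing Cz] [Algebra D C] [Algebra D Dy] [Algebra C Cz] [Algebra Dy Cz] [Algebra D Cz]
    [IsScalarTower D Dy Cz] [IsScalarTower D C Cz] (hY : D) [IsLocalization.Away hY Dy] (hZ : C)
    [IsLocalization.Away hZ Cz] (y : Ideal D) [y.IsPrime] (hYy : hY ∉ y) (z : Ideal C)
    (h3 : ∀ (z₁ : Ideal C) [z₁.IsPrime], z₁.LiesOver y → z₁ = z)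
    (z₂ : Ideal Cz) [z₂.IsPrime] (hz₂ : z₂.LiesOver (y.map (algebraMap D Dy))) :
    z₂ = z.map (algebraMap C Cz) := by
  apply eq_map_of_comap_eq hZ
  apply h3
  refine ⟨?_⟩
  rw [Ideal.under_def, Ideal.comap_comap, ← IsScalarTower.algebraMap_eq,
    IsScalarTower.algebraMap_eq D Dy Cz, ← Ideal.comap_comap, ← Ideal.under_def (A := Dy),
    ← hz₂.over, comap_map_away hY y hYy]

end C5

end Groth.Agent.Lib.T2H2.Shrink
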