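import Groth.Agent.Lib.T2H2Shrink
import Groth.Agent.Lib.T2H2ElemDevFP

set_option autoImplicit false
set_option linter.style.haveILetI false
set_option linter.unusedSectionVars false
universe u
open TensorProduct

namespace Groth.Agent.Lib.T2H2.Shrink2

open Groth.Agent.Lib.T2H2.Shrink

attribute [local instance] Algebra.TensorProduct.rightAlgebra

/-- The standard shrinking of a one-step dévissage at a point, for abstract localizations. -/
theorem shrink_abstract
    (R S : Type u) [CommRing R] [CommRing S] [Algebra R S] [Algebra.FiniteType R S]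
    (N : Type u) [AddCommGroup N] [Module S N] [Module R N] [IsScalarTower R S N] [Module.Finite S N]
    (p : Ideal R) [p.IsPrime] (q : Ideal S) [q.IsPrime] [q.LiesOver p]
    (C D G : Type u) [CommRing C] [CommRing D] [Algebra S C] [Algebra R C] [IsScalarTower R S C]
    [Algebra R D] [Algebra D C] [IsScalarTower R D C] [AddCommGroup G] [Module C G] [Module S G]
    [IsScalarTower S C G] (n : ℕ)
    (h : FlatCA.IsOneStepDevissage R S N p C D G n)
    (z : Ideal C) [z.IsPrime] (y : Ideal D) [y.IsPrime] [z.LiesOver q] [z.LiesOver y] [y.LiesOver p]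
    (h1 : ∃ (ξ : PrimeSpectrum (p.Fiber S)) (hξ : ξ ∈ Module.support (p.Fiber S) (FlatCA.fiberMod p S N)),
      ξ.asIdeal = FlatCA.fiberIdeal p q ∧
      FlatMor.localDim (Module.support (p.Fiber S) (FlatCA.fiberMod p S N)) ⟨ξ, hξ⟩ = n)
    (h3 : ∀ (z₁ : Ideal C) [z₁.IsPrime], z₁.LiesOver y → z₁ = z)
    (h4 : FlatCA.PurelyTranscendental p y)
    (g : R) (hX : S) (hY : D) (hg : g ∉ p) (hXq : hX ∉ q) (hYy : hY ∉ y)
    (hgX : algebraMap R S g ∣ hX) (hgY : algebraMap R D g ∣ hY)
    (hZ1 : algebraMap D C hY ∣ algebraMap S C hX)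
    (hZ2 : ∃ k, algebraMap S C hX ∣ algebraMap D C hY ^ k)
    (hsurj : ∀ P : Ideal R, P.IsPrime → g ∉ P →
      ∃ Q : Ideal D, Q.IsPrime ∧ hY ∉ Q ∧ Q.comap (algebraMap R D) = P)
    (Rg Sx Cz Dy : Type u) [CommRing Rg] [CommRing Sx] [CommRing Cz] [CommRing Dy]
    [Algebra R Rg] [IsLocalization.Away g Rg]
    [Algebra S Sx] [IsLocalization.Away hX Sx] [Algebra R Sx] [IsScalarTower R S Sx]
    [Algebra C Cz] [IsLocalization.Away (algebraMap S C hX) Cz] [Algebra R Cz] [IsScalarTower R C Cz]
    [Algebra S Cz] [IsScalarTower S C Cz] [Algebra D Cz] [IsScalarTower D C Cz]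
    [Algebra D Dy] [IsLocalization.Away hY Dy] [Algebra R Dy] [IsScalarTower R D Dy]
    (Nx : Type u) [AddCommGroup Nx] [Module Sx Nx] [Module S Nx] [IsScalarTower S Sx Nx]
    (fN : N →ₗ[S] Nx) [IsLocalizedModule (Submonoid.powers hX) fN]
    (Gz : Type u) [AddCommGroup Gz] [Module Cz Gz] [Module C Gz] [IsScalarTower C Cz Gz]
    (fG : G →ₗ[C] Gz) [IsLocalizedModule (Submonoid.powers (algebraMap S C hX)) fG] :
    ∃ (_ : Algebra Rg Sx) (_ : IsScalarTower R Rg Sx)
      (_ : Algebra Rg Cz) (_ : IsScalarTower R Rg Cz)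
      (_ : Algebra Rg Dy) (_ : IsScalarTower R Rg Dy)
      (_ : Algebra Sx Cz) (_ : IsScalarTower S Sx Cz) (_ : IsScalarTower Rg Sx Cz)
      (_ : Algebra Dy Cz) (_ : IsScalarTower D Dy Cz) (_ : IsScalarTower Rg Dy Cz)
      (_ : Module Rg Nx) (_ : IsScalarTower Rg Sx Nx)
      (_ : Module Sx Gz) (_ : IsScalarTower Sx Cz Gz)
      (_ : (Ideal.map (algebraMap R Rg) p).IsPrime) (_ : (Ideal.map (algebraMap D Dy) y).IsPrime)
      (_ : (Ideal.map (algebraMap D Dy) y).LiesOver (Ideal.map (algebraMap R Rg) p)),
      FlatCA.IsOneStepDevissage Rg Sx Nx (Ideal.map (algebraMap R Rg) p) Cz Dy Gz n ∧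
      (∃ (ξ : PrimeSpectrum ((Ideal.map (algebraMap R Rg) p).Fiber Sx))
          (hξ : ξ ∈ Module.support ((Ideal.map (algebraMap R Rg) p).Fiber Sx)
            (FlatCA.fiberMod (Ideal.map (algebraMap R Rg) p) Sx Nx)),
        ξ.asIdeal = FlatCA.fiberIdeal (Ideal.map (algebraMap R Rg) p) (Ideal.map (algebraMap S Sx) q) ∧
        FlatMor.localDim (Module.support ((Ideal.map (algebraMap R Rg) p).Fiber Sx)
          (FlatCA.fiberMod (Ideal.map (algebraMap R Rg) p) Sx Nx)) ⟨ξ, hξ⟩ = n) ∧
      (Ideal.map (algebraMap C Cz) z).LiesOver (Ideal.map (algebraMap S Sx) q) ∧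
      (Ideal.map (algebraMap C Cz) z).LiesOver (Ideal.map (algebraMap D Dy) y) ∧
      (∀ (z₂ : Ideal Cz) [z₂.IsPrime], z₂.LiesOver (Ideal.map (algebraMap D Dy) y) →
        z₂ = Ideal.map (algebraMap C Cz) z) ∧
      FlatCA.PurelyTranscendental (Ideal.map (algebraMap R Rg) p) (Ideal.map (algebraMap D Dy) y) := by
  obtain ⟨⟨e⟩, hsurjSC, hfp, hfinDC, hfinCG, hsm, hirr, hdim⟩ := h
  haveI := hfp
  haveI := hfinDC
  haveI := hfinCG
  -- units
  have huS : IsUnit (algebraMap R Sx g) := by
    rw [IsScalarTower.algebraMap_apply R S Sx]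
    exact IsLocalization.Away.isUnit_of_dvd hX hgX
  have huD : IsUnit (algebraMap R Dy g) := by
    rw [IsScalarTower.algebraMap_apply R D Dy]
    exact IsLocalization.Away.isUnit_of_dvd hY hgY
  have huC : IsUnit (algebraMap R Cz g) := by
    rw [IsScalarTower.algebraMap_apply R C Cz, IsScalarTower.algebraMap_apply R S C]
    exact IsLocalization.Away.isUnit_of_dvd (algebraMap S C hX) (map_dvd (algebraMap S C) hgX)
  have huXC : IsUnit (algebraMap S Cz hX) := by
    rw [IsScalarTower.algebraMap_apply S C Cz]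
    exact IsLocalization.Away.algebraMap_isUnit _
  have huYC : IsUnit (algebraMap D Cz hY) := by
    rw [IsScalarTower.algebraMap_apply D C Cz]
    exact IsLocalization.Away.isUnit_of_dvd (algebraMap S C hX) hZ1
  -- algebra structures over `Rg`
  letI aRgS : Algebra Rg Sx := (IsLocalization.Away.lift (S := Rg) g (g := algebraMap R Sx) huS).toAlgebra
  haveI t1 : IsScalarTower R Rg Sx := IsScalarTower.of_algebraMap_eq fun r =>
    (IsLocalization.Away.lift_eq (S := Rg) g (g := algebraMap R Sx) huS r).symm
  letI aRgC : Algebra Rg Cz := (IsLocalization.Away.lift (S := Rg) g (g := algebraMap R Cz) huC).toAlgebra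
  haveI t2 : IsScalarTower R Rg Cz := IsScalarTower.of_algebraMap_eq fun r =>
    (IsLocalization.Away.lift_eq (S := Rg) g (g := algebraMap R Cz) huC r).symm
  letI aRgD : Algebra Rg Dy := (IsLocalization.Away.lift (S := Rg) g (g := algebraMap R Dy) huD).toAlgebra
  haveI t3 : IsScalarTower R Rg Dy := IsScalarTower.of_algebraMap_eq fun r =>
    (IsLocalization.Away.lift_eq (S := Rg) g (g := algebraMap R Dy) huD r).symm
  -- `Sx → Cz`
  letI aSC : Algebra Sx Cz := (IsLocalization.Away.lift (S := Sx) hX (g := algebraMap S Cz) huXC).toAlgebra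
  haveI t4 : IsScalarTower S Sx Cz := IsScalarTower.of_algebraMap_eq fun r =>
    (IsLocalization.Away.lift_eq (S := Sx) hX (g := algebraMap S Cz) huXC r).symm
  haveI tRSC : IsScalarTower R S Cz := IsScalarTower.of_algebraMap_eq fun r => by
    rw [IsScalarTower.algebraMap_apply R C Cz, IsScalarTower.algebraMap_apply R S C,
      ← IsScalarTower.algebraMap_apply S C Cz]
  haveI t5 : IsScalarTower Rg Sx Cz := IsScalarTower.of_algebraMap_eq' (by
    apply IsLocalization.ringHom_ext (Submonoid.powers g)
    rw [RingHom.comp_assoc, ← IsScalarTower.algebraMap_eq R Rg Sx,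
      ← IsScalarTower.algebraMap_eq R Rg Cz, IsScalarTower.algebraMap_eq R S Sx,
      ← RingHom.comp_assoc, ← IsScalarTower.algebraMap_eq S Sx Cz,
      ← IsScalarTower.algebraMap_eq R S Cz])
  -- `Dy → Cz`
  letI aDC : Algebra Dy Cz := (IsLocalization.Away.lift (S := Dy) hY (g := algebraMap D Cz) huYC).toAlgebra
  haveI t6 : IsScalarTower D Dy Cz := IsScalarTower.of_algebraMap_eq fun r =>
    (IsLocalization.Away.lift_eq (S := Dy) hY (g := algebraMap D Cz) huYC r).symm
  haveI tRDC : IsScalarTower R D Cz := IsScalarTower.of_algebraMap_eq fun r => by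
    rw [IsScalarTower.algebraMap_apply R C Cz, IsScalarTower.algebraMap_apply R D C,
      ← IsScalarTower.algebraMap_apply D C Cz]
  haveI t7 : IsScalarTower Rg Dy Cz := IsScalarTower.of_algebraMap_eq' (by
    apply IsLocalization.ringHom_ext (Submonoid.powers g)
    rw [RingHom.comp_assoc, ← IsScalarTower.algebraMap_eq R Rg Dy,
      ← IsScalarTower.algebraMap_eq R Rg Cz, IsScalarTower.algebraMap_eq R D Dy,
      ← RingHom.comp_assoc, ← IsScalarTower.algebraMap_eq D Dy Cz,
      ← IsScalarTower.algebraMap_eq R D Cz])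
  -- modules
  letI mRgN : Module Rg Nx := Module.compHom Nx (algebraMap Rg Sx)
  haveI t8 : IsScalarTower Rg Sx Nx := IsScalarTower.of_algebraMap_smul fun _ _ => rfl
  letI mSxG : Module Sx Gz := Module.compHom Gz (algebraMap Sx Cz)
  haveI t9 : IsScalarTower Sx Cz Gz := IsScalarTower.of_algebraMap_smul fun _ _ => rfl
  -- primes
  haveI hp' : (Ideal.map (algebraMap R Rg) p).IsPrime := isPrime_map_away g p hg
  haveI hy' : (Ideal.map (algebraMap D Dy) y).IsPrime := isPrime_map_away hY y hYy
  haveI hq' : (Ideal.map (algebraMap S Sx) q).IsPrime := isPrime_map_away hX q hXq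
  haveI hyp' : (Ideal.map (algebraMap D Dy) y).LiesOver (Ideal.map (algebraMap R Rg) p) :=
    liesOver_map_away g hY p y hYy
  -- base changes of the modules
  have hfbc : IsBaseChange Sx fN := IsLocalizedModule.isBaseChange (Submonoid.powers hX) Sx fN
  have hgbc : IsBaseChange Cz fG :=
    IsLocalizedModule.isBaseChange (Submonoid.powers (algebraMap S C hX)) Cz fG
  haveI : Module.Finite Sx Nx := Module.Finite.equiv hfbc.equiv
  -- the fibre over `p`
  obtain ⟨hdimx, h1x⟩ :=
    supportDim_and_localDim_of_isLocalization p N Nx fN hfbc hX q hXq n hdim h1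
  haveI hqp : (q.map (algebraMap S Sx)).LiesOver p := ⟨by
    rw [Ideal.under_def, IsScalarTower.algebraMap_eq R S Sx, ← Ideal.comap_comap,
      comap_map_away hX q hXq]
    exact (inferInstance : q.LiesOver p).over⟩
  haveI hqp' : (q.map (algebraMap S Sx)).LiesOver (p.map (algebraMap R Rg)) :=
    liesOver_map_away g hX p q hXq
  haveI hpp' : (p.map (algebraMap R Rg)).LiesOver p := ⟨(comap_map_away g p hg).symm⟩
  haveI : Algebra.FinitePresentation S Sx := IsLocalization.Away.finitePresentation hX
  haveI : Algebra.FiniteType R Sx := Algebra.FiniteType.trans (R := R) (S := S) (A := Sx)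
    inferInstance inferInstance
  obtain ⟨hdim', h1'⟩ := fiber_transfer (Submonoid.powers g) p (p.map (algebraMap R Rg)) Nx
    (q.map (algebraMap S Sx)) n hdimx h1x
  haveI hawayY : IsLocalization.Away (algebraMap D C hY) Cz :=
    away_of_dvd_of_dvd_pow (algebraMap S C hX) (algebraMap D C hY) hZ1 hZ2
  refine ⟨aRgS, t1, aRgC, t2, aRgD, t3, aSC, t4, t5, aDC, t6, t7, mRgN, t8, mSxG, t9, hp', hy',
    hyp', ?_, h1', ?_, ?_, ?_, ?_⟩
  · -- the dévissage
    have hSC' : Algebra.IsPushout S Sx C Cz := isPushout_away hX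
    have hDC' : Algebra.IsPushout D Dy C Cz := isPushout_away hY
    obtain ⟨c1, c2, c3, c4, c5⟩ := devissage_components e hsurjSC hSC' hDC' fN hfbc fG hgbc
    refine ⟨c1, c2, c3, c4, c5, ?_, ?_, hdim'⟩
    · exact smoothRelDim_of_isLocalization_base (Submonoid.powers g) n
        (smoothRelDim_of_isLocalization_away hY n hsm)
    · refine geomIrredFibres_of_isLocalization g hY ?_ hirr
      intro P'
      have hgP : g ∉ P'.asIdeal.comap (algebraMap R Rg) := by
        intro hmem
        exact (Ideal.IsPrime.ne_top P'.isPrime) (Ideal.eq_top_of_isUnit_mem _ hmem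
          (IsLocalization.Away.algebraMap_isUnit g))
      obtain ⟨Q, hQ, hYQ, hQP⟩ := hsurj _ (Ideal.IsPrime.comap _) hgP
      haveI := hQ
      haveI hQ' : (Q.map (algebraMap D Dy)).IsPrime := isPrime_map_away hY Q hYQ
      refine ⟨⟨Q.map (algebraMap D Dy), hQ'⟩, ?_⟩
      apply PrimeSpectrum.ext
      change (Q.map (algebraMap D Dy)).comap (algebraMap Rg Dy) = P'.asIdeal
      rw [eq_map_of_comap_eq g _ P'.asIdeal rfl]
      apply eq_map_of_comap_eq g
      rw [Ideal.comap_comap, ← IsScalarTower.algebraMap_eq R Rg Dy,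
        IsScalarTower.algebraMap_eq R D Dy, ← Ideal.comap_comap, comap_map_away hY Q hYQ, hQP]
  · exact liesOver_map_away hX (algebraMap S C hX) q z (fun hmem => hXq (by
      rw [(inferInstance : z.LiesOver q).over]; exact hmem))
  · have hYz : algebraMap D C hY ∉ z := fun hmem => hYy (by
      rw [(inferInstance : z.LiesOver y).over]; exact hmem)
    exact liesOver_map_away hY (algebraMap D C hY) y z hYz
  · intro z₂ _ hz₂
    exact unique_prime_away hY (algebraMap S C hX) y hYy z h3 z₂ hz₂
  · haveI hy'y : (Ideal.map (algebraMap D Dy) y).LiesOver y := ⟨(comap_map_away hY y hYy).symm⟩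
    exact purelyTranscendental_of_isLocalization (Submonoid.powers g) (Submonoid.powers hY) p
      (p.map (algebraMap R Rg)) y (y.map (algebraMap D Dy)) h4


section E

open AlgebraicGeometry in
theorem flat_of_smoothRelDim (n : ℕ) (R S : Type u) [CommRing R] [CommRing S]
    [Algebra R S] (h : FlatCA.SmoothRelDim n R S) : Module.Flat R S := by
  have h1 : Smooth (Spec.map (CommRingCat.ofHom (algebraMap R S))) := h.smooth
  have h2 : Flat (Spec.map (CommRingCat.ofHom (algebraMap R S))) := inferInstance
  have h3 := (HasRingHomProperty.Spec_iff (P := @Flat)).mp h2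
  exact RingHom.flat_algebraMap_iff.mp h3

/-- if `z` is the only prime over `y` in a finite extension and `c ∉ z`, then some element of `D`
outside `y` becomes a multiple of `c`. -/
theorem exists_notMem_dvd_of_unique_prime {D C : Type u} [CommRing D] [CommRing C] [Algebra D C]
    [Module.Finite D C] (y : Ideal D) [y.IsPrime] (z : Ideal C)
    (h3 : ∀ (z₁ : Ideal C) [z₁.IsPrime], z₁.LiesOver y → z₁ = z) (c : C) (hc : c ∉ z) :
    ∃ d : D, d ∉ y ∧ c ∣ algebraMap D C d := by
  haveI : Algebra.IsIntegral D C := Algebra.IsIntegral.of_finite D C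
  by_contra hcon
  push Not at hcon
  have hle : (Ideal.span {c}).comap (algebraMap D C) ≤ y := by
    intro d hd
    by_contra hdy
    exact hcon d hdy (Ideal.mem_span_singleton.mp hd)
  obtain ⟨Q, hQc, hQ, hQy⟩ := Ideal.exists_ideal_over_prime_of_isIntegral y (Ideal.span {c}) hle
  haveI := hQ
  have : Q = z := h3 Q ⟨hQy.symm⟩
  apply hc
  rw [← this]
  exact hQc (Ideal.mem_span_singleton_self c)

/-- openness of smooth maps: a basic open of the source containing `y` dominates a basic open
neighbourhood of the image point. -/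
theorem exists_basicOpen_subset_image (n : ℕ) (R D : Type u) [CommRing R] [CommRing D] [Algebra R D]
    (hsm : FlatCA.SmoothRelDim n R D) (p : Ideal R) [p.IsPrime] (y : Ideal D) [y.IsPrime]
    [hyp : y.LiesOver p] (d : D) (hd : d ∉ y) :
    ∃ g : R, g ∉ p ∧ ∀ P : Ideal R, P.IsPrime → g ∉ P →
      ∃ Q : Ideal D, Q.IsPrime ∧ d ∉ Q ∧ Q.comap (algebraMap R D) = P := by
  haveI : Module.Flat R D := flat_of_smoothRelDim n R D hsm
  haveI : Algebra.FinitePresentation R D :=
    Groth.Agent.Lib.T2H2.ElemDevFP.finitePresentation_of_smoothRelDim n R D hsm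
  haveI : Algebra.HasGoingDown R D := Algebra.HasGoingDown.of_flat
  have hopen : IsOpenMap (PrimeSpectrum.comap (algebraMap R D)) :=
    PrimeSpectrum.isOpenMap_comap_of_hasGoingDown_of_finitePresentation
  have hU : IsOpen (PrimeSpectrum.comap (algebraMap R D) '' (PrimeSpectrum.basicOpen d : Set _)) :=
    hopen _ (PrimeSpectrum.basicOpen d).isOpen
  have hpU : (⟨p, inferInstance⟩ : PrimeSpectrum R) ∈
      PrimeSpectrum.comap (algebraMap R D) '' (PrimeSpectrum.basicOpen d : Set _) := by
    refine ⟨⟨y, inferInstance⟩, hd, ?_⟩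
    apply PrimeSpectrum.ext
    exact hyp.over.symm
  obtain ⟨V, ⟨g, rfl⟩, hpV, hVU⟩ :=
    PrimeSpectrum.isTopologicalBasis_basic_opens.exists_subset_of_mem_open hpU hU
  refine ⟨g, hpV, fun P hP hgP => ?_⟩
  obtain ⟨Q, hQd, hQP⟩ := hVU (show (⟨P, hP⟩ : PrimeSpectrum R) ∈ _ from hgP)
  exact ⟨Q.asIdeal, Q.isPrime, hQd, congrArg PrimeSpectrum.asIdeal hQP⟩

end E


section Concrete

/-- The standard shrinking for the localizations `Localization.Away`. -/
theorem shrink_concrete
    (R S : Type u) [CommRing R] [CommRing S] [Algebra R S] [Algebra.FiniteType R S]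
    (N : Type u) [AddCommGroup N] [Module S N] [Module R N] [IsScalarTower R S N] [Module.Finite S N]
    (p : Ideal R) [p.IsPrime] (q : Ideal S) [q.IsPrime] [q.LiesOver p]
    (C D G : Type u) [CommRing C] [CommRing D] [Algebra S C] [Algebra R C] [IsScalarTower R S C]
    [Algebra R D] [Algebra D C] [IsScalarTower R D C] [AddCommGroup G] [Module C G] [Module S G]
    [IsScalarTower S C G] (n : ℕ)
    (h : FlatCA.IsOneStepDevissage R S N p C D G n)
    (z : Ideal C) [z.IsPrime] (y : Ideal D) [y.IsPrime] [z.LiesOver q] [z.LiesOver y] [y.LiesOver p]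
    (h1 : ∃ (ξ : PrimeSpectrum (p.Fiber S)) (hξ : ξ ∈ Module.support (p.Fiber S) (FlatCA.fiberMod p S N)),
      ξ.asIdeal = FlatCA.fiberIdeal p q ∧
      FlatMor.localDim (Module.support (p.Fiber S) (FlatCA.fiberMod p S N)) ⟨ξ, hξ⟩ = n)
    (h3 : ∀ (z₁ : Ideal C) [z₁.IsPrime], z₁.LiesOver y → z₁ = z)
    (h4 : FlatCA.PurelyTranscendental p y)
    (g : R) (hX : S) (hY : D) (hg : g ∉ p) (hXq : hX ∉ q) (hYy : hY ∉ y)
    (hgX : algebraMap R S g ∣ hX) (hgY : algebraMap R D g ∣ hY)
    (hZ1 : algebraMap D C hY ∣ algebraMap S C hX)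
    (hZ2 : ∃ k, algebraMap S C hX ∣ algebraMap D C hY ^ k)
    (hsurj : ∀ P : Ideal R, P.IsPrime → g ∉ P →
      ∃ Q : Ideal D, Q.IsPrime ∧ hY ∉ Q ∧ Q.comap (algebraMap R D) = P) :
      ∃ (_ : Algebra (Localization.Away g) (Localization.Away hX)) (_ : IsScalarTower R (Localization.Away g) (Localization.Away hX))
        (_ : Algebra (Localization.Away g) (Localization.Away (algebraMap S C hX))) (_ : IsScalarTower R (Localization.Away g) (Localization.Away (algebraMap S C hX)))
        (_ : Algebra (Localization.Away g) (Localization.Away hY)) (_ : IsScalarTower R (Localization.Away g) (Localization.Away hY))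
        (_ : Algebra (Localization.Away hX) (Localization.Away (algebraMap S C hX))) (_ : IsScalarTower S (Localization.Away hX) (Localization.Away (algebraMap S C hX)))
        (_ : IsScalarTower (Localization.Away g) (Localization.Away hX) (Localization.Away (algebraMap S C hX)))
        (_ : Algebra (Localization.Away hY) (Localization.Away (algebraMap S C hX))) (_ : IsScalarTower D (Localization.Away hY) (Localization.Away (algebraMap S C hX)))
        (_ : IsScalarTower (Localization.Away g) (Localization.Away hY) (Localization.Away (algebraMap S C hX)))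
        (_ : Module (Localization.Away g) (LocalizedModule (Submonoid.powers hX) N)) (_ : IsScalarTower (Localization.Away g) (Localization.Away hX) (LocalizedModule (Submonoid.powers hX) N))
        (_ : Module (Localization.Away hX) (LocalizedModule (Submonoid.powers (algebraMap S C hX)) G)) (_ : IsScalarTower (Localization.Away hX) (Localization.Away (algebraMap S C hX)) (LocalizedModule (Submonoid.powers (algebraMap S C hX)) G))
        (_ : (Ideal.map (algebraMap R (Localization.Away g)) p).IsPrime) (_ : (Ideal.map (algebraMap D (Localization.Away hY)) y).IsPrime) (_ : (Ideal.map (algebraMap D (Localization.Away hY)) y).LiesOver (Ideal.map (algebraMap R (Localization.Away g)) p)),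
        FlatCA.IsOneStepDevissage (Localization.Away g) (Localization.Away hX) (LocalizedModule (Submonoid.powers hX) N) (Ideal.map (algebraMap R (Localization.Away g)) p) (Localization.Away (algebraMap S C hX)) (Localization.Away hY) (LocalizedModule (Submonoid.powers (algebraMap S C hX)) G) n ∧
        (∃ (ξ : PrimeSpectrum ((Ideal.map (algebraMap R (Localization.Away g)) p).Fiber (Localization.Away hX)))
            (hξ : ξ ∈ Module.support ((Ideal.map (algebraMap R (Localization.Away g)) p).Fiber (Localization.Away hX)) (FlatCA.fiberMod (Ideal.map (algebraMap R (Localization.Away g)) p) (Localization.Away hX) (LocalizedModule (Submonoid.powers hX) N))),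
          ξ.asIdeal = FlatCA.fiberIdeal (Ideal.map (algebraMap R (Localization.Away g)) p) (Ideal.map (algebraMap S (Localization.Away hX)) q) ∧
          FlatMor.localDim (Module.support ((Ideal.map (algebraMap R (Localization.Away g)) p).Fiber (Localization.Away hX)) (FlatCA.fiberMod (Ideal.map (algebraMap R (Localization.Away g)) p) (Localization.Away hX) (LocalizedModule (Submonoid.powers hX) N))) ⟨ξ, hξ⟩ = n) ∧
        (Ideal.map (algebraMap C (Localization.Away (algebraMap S C hX))) z).LiesOver (Ideal.map (algebraMap S (Localization.Away hX)) q) ∧ (Ideal.map (algebraMap C (Localization.Away (algebraMap S C hX))) z).LiesOver (Ideal.map (algebraMap D (Localization.Away hY)) y) ∧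
        (∀ (z₂ : Ideal (Localization.Away (algebraMap S C hX))) [z₂.IsPrime], z₂.LiesOver (Ideal.map (algebraMap D (Localization.Away hY)) y) → z₂ = Ideal.map (algebraMap C (Localization.Away (algebraMap S C hX))) z) ∧
        FlatCA.PurelyTranscendental (Ideal.map (algebraMap R (Localization.Away g)) p) (Ideal.map (algebraMap D (Localization.Away hY)) y) :=
  shrink_abstract R S N p q C D G n h z y h1 h3 h4 g hX hY hg hXq hYy hgX hgY hZ1 hZ2 hsurj
    (Localization.Away g) (Localization.Away hX) (Localization.Away (algebraMap S C hX))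
    (Localization.Away hY) (LocalizedModule (Submonoid.powers hX) N)
    (LocalizedModule.mkLinearMap (Submonoid.powers hX) N)
    (LocalizedModule (Submonoid.powers (algebraMap S C hX)) G)
    (LocalizedModule.mkLinearMap (Submonoid.powers (algebraMap S C hX)) G)

/-- Choice of the elements of a standard shrinking inside `D(u) ⊆ Spec S` and `D(d₀) ⊆ Spec D`. -/
theorem shrink_final
    (R S : Type u) [CommRing R] [CommRing S] [Algebra R S] [Algebra.FiniteType R S]
    (N : Type u) [AddCommGroup N] [Module S N] [Module R N] [IsScalarTower R S N] [Module.Finite S N]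
    (p : Ideal R) [p.IsPrime] (q : Ideal S) [q.IsPrime] [q.LiesOver p]
    (C D G : Type u) [CommRing C] [CommRing D] [Algebra S C] [Algebra R C] [IsScalarTower R S C]
    [Algebra R D] [Algebra D C] [IsScalarTower R D C] [AddCommGroup G] [Module C G] [Module S G]
    [IsScalarTower S C G] (n : ℕ)
    (h : FlatCA.IsOneStepDevissage R S N p C D G n)
    (z : Ideal C) [z.IsPrime] (y : Ideal D) [y.IsPrime] [z.LiesOver q] [z.LiesOver y] [y.LiesOver p]
    (h1 : ∃ (ξ : PrimeSpectrum (p.Fiber S)) (hξ : ξ ∈ Module.support (p.Fiber S) (FlatCA.fiberMod p S N)),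
      ξ.asIdeal = FlatCA.fiberIdeal p q ∧
      FlatMor.localDim (Module.support (p.Fiber S) (FlatCA.fiberMod p S N)) ⟨ξ, hξ⟩ = n)
    (h3 : ∀ (z₁ : Ideal C) [z₁.IsPrime], z₁.LiesOver y → z₁ = z)
    (h4 : FlatCA.PurelyTranscendental p y)
    (u : S) (hu : u ∉ q) (d₀ : D) (hd₀ : d₀ ∉ y)
    (hud : algebraMap S C u ∣ algebraMap D C d₀) :
    ∃ (g : R) (hX : S) (hZ : C), g ∉ p ∧ hX ∉ q ∧ hZ ∉ z ∧ (d₀ * algebraMap R D g) ∉ y ∧
      IsUnit (algebraMap S (Localization.Away hX) u) ∧
      ∃ (_ : Algebra (Localization.Away g) (Localization.Away hX)) (_ : IsScalarTower R (Localization.Away g) (Localization.Away hX))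
        (_ : Algebra (Localization.Away g) (Localization.Away hZ)) (_ : IsScalarTower R (Localization.Away g) (Localization.Away hZ))
        (_ : Algebra (Localization.Away g) (Localization.Away (d₀ * algebraMap R D g))) (_ : IsScalarTower R (Localization.Away g) (Localization.Away (d₀ * algebraMap R D g)))
        (_ : Algebra (Localization.Away hX) (Localization.Away hZ)) (_ : IsScalarTower S (Localization.Away hX) (Localization.Away hZ))
        (_ : IsScalarTower (Localization.Away g) (Localization.Away hX) (Localization.Away hZ))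
        (_ : Algebra (Localization.Away (d₀ * algebraMap R D g)) (Localization.Away hZ)) (_ : IsScalarTower D (Localization.Away (d₀ * algebraMap R D g)) (Localization.Away hZ))
        (_ : IsScalarTower (Localization.Away g) (Localization.Away (d₀ * algebraMap R D g)) (Localization.Away hZ))
        (_ : Module (Localization.Away g) (LocalizedModule (Submonoid.powers hX) N)) (_ : IsScalarTower (Localization.Away g) (Localization.Away hX) (LocalizedModule (Submonoid.powers hX) N))
        (_ : Module (Localization.Away hX) (LocalizedModule (Submonoid.powers hZ) G)) (_ : IsScalarTower (Localization.Away hX) (Localization.Away hZ) (LocalizedModule (Submonoid.powers hZ) G))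
        (_ : (Ideal.map (algebraMap R (Localization.Away g)) p).IsPrime) (_ : (Ideal.map (algebraMap D (Localization.Away (d₀ * algebraMap R D g))) y).IsPrime) (_ : (Ideal.map (algebraMap D (Localization.Away (d₀ * algebraMap R D g))) y).LiesOver (Ideal.map (algebraMap R (Localization.Away g)) p)),
        FlatCA.IsOneStepDevissage (Localization.Away g) (Localization.Away hX) (LocalizedModule (Submonoid.powers hX) N) (Ideal.map (algebraMap R (Localization.Away g)) p) (Localization.Away hZ) (Localization.Away (d₀ * algebraMap R D g)) (LocalizedModule (Submonoid.powers hZ) G) n ∧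
        (∃ (ξ : PrimeSpectrum ((Ideal.map (algebraMap R (Localization.Away g)) p).Fiber (Localization.Away hX)))
            (hξ : ξ ∈ Module.support ((Ideal.map (algebraMap R (Localization.Away g)) p).Fiber (Localization.Away hX)) (FlatCA.fiberMod (Ideal.map (algebraMap R (Localization.Away g)) p) (Localization.Away hX) (LocalizedModule (Submonoid.powers hX) N))),
          ξ.asIdeal = FlatCA.fiberIdeal (Ideal.map (algebraMap R (Localization.Away g)) p) (Ideal.map (algebraMap S (Localization.Away hX)) q) ∧
          FlatMor.localDim (Module.support ((Ideal.map (algebraMap R (Localization.Away g)) p).Fiber (Localization.Away hX)) (FlatCA.fiberMod (Ideal.map (algebraMap R (Localization.Away g)) p) (Localization.Away hX) (LocalizedModule (Submonoid.powers hX) N))) ⟨ξ, hξ⟩ = n) ∧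
        (Ideal.map (algebraMap C (Localization.Away hZ)) z).LiesOver (Ideal.map (algebraMap S (Localization.Away hX)) q) ∧ (Ideal.map (algebraMap C (Localization.Away hZ)) z).LiesOver (Ideal.map (algebraMap D (Localization.Away (d₀ * algebraMap R D g))) y) ∧
        (∀ (z₂ : Ideal (Localization.Away hZ)) [z₂.IsPrime], z₂.LiesOver (Ideal.map (algebraMap D (Localization.Away (d₀ * algebraMap R D g))) y) → z₂ = Ideal.map (algebraMap C (Localization.Away hZ)) z) ∧
        FlatCA.PurelyTranscendental (Ideal.map (algebraMap R (Localization.Away g)) p) (Ideal.map (algebraMap D (Localization.Away (d₀ * algebraMap R D g))) y) := by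
  obtain ⟨⟨e⟩, hsurjSC, hfp, hfinDC, hfinCG, hsm, hirr, hdim⟩ := id h
  obtain ⟨g, hg, hgsurj⟩ := exists_basicOpen_subset_image n R D hsm p y d₀ hd₀
  obtain ⟨h₀, hh₀⟩ := hsurjSC (algebraMap D C d₀)
  obtain ⟨c', hc'⟩ := hud
  have hzq : q = z.comap (algebraMap S C) := (inferInstance : z.LiesOver q).over
  have hzy : y = z.comap (algebraMap D C) := (inferInstance : z.LiesOver y).over
  have hqp : p = q.comap (algebraMap R S) := (inferInstance : q.LiesOver p).over
  have hyp : p = y.comap (algebraMap R D) := (inferInstance : y.LiesOver p).over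
  have hgS : algebraMap R S g ∉ q := fun hmem => hg (by rw [hqp]; exact hmem)
  have hgD : algebraMap R D g ∉ y := fun hmem => hg (by rw [hyp]; exact hmem)
  have hh₀q : h₀ ∉ q := by
    intro hmem
    rw [hzq, Ideal.mem_comap, hh₀] at hmem
    exact hd₀ (by rw [hzy]; exact hmem)
  have hXq : h₀ * algebraMap R S g * u ∉ q := fun hmem =>
    ((Ideal.IsPrime.mem_or_mem inferInstance hmem).elim
      (fun h' => (Ideal.IsPrime.mem_or_mem inferInstance h').elim hh₀q hgS) hu)
  have hYy : d₀ * algebraMap R D g ∉ y := fun hmem =>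
    (Ideal.IsPrime.mem_or_mem inferInstance hmem).elim hd₀ hgD
  have hZz : algebraMap S C (h₀ * algebraMap R S g * u) ∉ z := fun hmem => hXq (by
    rw [hzq]; exact hmem)
  have hgC : algebraMap S C (algebraMap R S g) = algebraMap D C (algebraMap R D g) := by
    rw [← IsScalarTower.algebraMap_apply R S C, ← IsScalarTower.algebraMap_apply R D C]
  have hXY : algebraMap S C (h₀ * algebraMap R S g * u) =
      algebraMap D C (d₀ * algebraMap R D g) * algebraMap S C u := by
    rw [map_mul, map_mul, map_mul, hh₀, hgC]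
  refine ⟨g, h₀ * algebraMap R S g * u, algebraMap S C (h₀ * algebraMap R S g * u), hg, hXq, hZz,
    hYy, IsLocalization.Away.isUnit_of_dvd (h₀ * algebraMap R S g * u)
      (Dvd.intro_left (h₀ * algebraMap R S g) rfl), ?_⟩
  refine shrink_concrete R S N p q C D G n h z y h1 h3 h4 g (h₀ * algebraMap R S g * u)
    (d₀ * algebraMap R D g) hg hXq hYy ⟨h₀ * u, by ring⟩ ⟨d₀, by ring⟩ ⟨algebraMap S C u, hXY⟩
    ⟨2, c' * algebraMap D C (algebraMap R D g), ?_⟩ ?_
  · rw [hXY, sq, map_mul, hc']
    ring
  · intro P hP hgP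
    obtain ⟨Q, hQ, hd₀Q, hQP⟩ := hgsurj P hP hgP
    refine ⟨Q, hQ, fun hmem => ?_, hQP⟩
    rcases Ideal.IsPrime.mem_or_mem hQ hmem with h' | h'
    · exact hd₀Q h'
    · exact hgP (by rw [← hQP]; exact h')

end Concrete

end Groth.Agent.Lib.T2H2.Shrink2
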