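import Groth.Agent.Lib.T2H2Shrink2
import Groth.Agent.Lib.T2H2DevBCX1

/-!
# Standard shrinking of a complete dévissage: abstract ingredients (helper2)

* `PQ`: the uniform type `X` (when `c`) or `Y` (otherwise), as a quotient of `X × Y`.
* `bijective_mk_quotient_tensor`, `Sim`, `away_of_sim`, `smooth_away`,
  `surjective_comap_of_forall`, `localDim_of_isLocalization`, `localDim_away`,
  `isBaseChange_restrictScalars_away`, `map_eq_comap_map_away`.
-/

set_option autoImplicit false
set_option linter.style.haveILetI false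
set_option linter.unusedSectionVars false
universe u
open TensorProduct

namespace Groth.Agent.Lib.T2H2.ShrinkC

open Groth.Agent.Lib.T2H2.Shrink Groth.Agent.Lib.T2H2.DevBCX

attribute [local instance] Algebra.TensorProduct.rightAlgebra


section PQ

variable (K : Type u) [CommRing K] (X Y : Type u) [CommRing X] [CommRing Y] [Algebra K X]
  [Algebra K Y] (c : Prop) [Decidable c]

/-- the ideal of `X × Y` cutting out the first factor (if `c`) or the second factor. -/
noncomputable def JP : Ideal (X × Y) :=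
  if c then RingHom.ker (AlgHom.fst K X Y) else RingHom.ker (AlgHom.snd K X Y)

/-- `X` if `c`, and `Y` otherwise, as a uniform type. -/
abbrev PQ : Type u := (X × Y) ⧸ JP K X Y c

theorem JP_pos (hc : c) : JP K X Y c = RingHom.ker (AlgHom.fst K X Y) := if_pos hc

theorem JP_neg (hc : ¬ c) : JP K X Y c = RingHom.ker (AlgHom.snd K X Y) := if_neg hc

/-- `PQ ≅ X` when `c` holds. -/
noncomputable def eP (hc : c) : PQ K X Y c ≃ₐ[K] X :=
  (Ideal.quotientEquivAlgOfEq K (JP_pos K X Y c hc)).trans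
    (Ideal.quotientKerAlgEquivOfSurjective (f := AlgHom.fst K X Y) (fun x => ⟨(x, 0), rfl⟩))

theorem eP_mk (hc : c) (x : X × Y) : eP K X Y c hc (Ideal.Quotient.mk _ x) = x.1 := rfl

theorem eP_symm_apply (hc : c) (x : X) (y : Y) :
    (eP K X Y c hc).symm x = Ideal.Quotient.mk _ (x, y) := by
  rw [AlgEquiv.symm_apply_eq, eP_mk]

/-- `PQ ≅ Y` when `c` fails. -/
noncomputable def eP' (hc : ¬ c) : PQ K X Y c ≃ₐ[K] Y :=
  (Ideal.quotientEquivAlgOfEq K (JP_neg K X Y c hc)).trans
    (Ideal.quotientKerAlgEquivOfSurjective (f := AlgHom.snd K X Y) (fun y => ⟨(0, y), rfl⟩))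

theorem eP'_mk (hc : ¬ c) (x : X × Y) : eP' K X Y c hc (Ideal.Quotient.mk _ x) = x.2 := rfl

theorem eP'_symm_apply (hc : ¬ c) (x : X) (y : Y) :
    (eP' K X Y c hc).symm y = Ideal.Quotient.mk _ (x, y) := by
  rw [AlgEquiv.symm_apply_eq, eP'_mk]

end PQ

section PQMod

/-- if `J` kills `M`, then `M → (P ⧸ J) ⊗ M` is bijective. -/
theorem bijective_mk_quotient_tensor {P : Type u} [CommRing P] (J : Ideal P) (M : Type u)
    [AddCommGroup M] [Module P M] (h : ∀ j ∈ J, ∀ m : M, j • m = 0) :
    Function.Bijective (TensorProduct.mk P (P ⧸ J) M 1) := by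
  have hbot : (J • ⊤ : Submodule P M) = ⊥ := by
    rw [eq_bot_iff, Submodule.smul_le]
    intro j hj m _
    rw [h j hj m]
    exact Submodule.zero_mem _
  let e : ((P ⧸ J) ⊗[P] M) ≃ₗ[P] M :=
    (TensorProduct.quotTensorEquivQuotSMul M J) ≪≫ₗ (Submodule.quotEquivOfEqBot _ hbot)
  have he : ∀ m, e (TensorProduct.mk P (P ⧸ J) M 1 m) = m := by
    intro m
    change (Submodule.quotEquivOfEqBot _ hbot)
      (TensorProduct.quotTensorEquivQuotSMul M J ((Ideal.Quotient.mk J 1) ⊗ₜ m)) = m
    rw [TensorProduct.quotTensorEquivQuotSMul_mk_tmul, one_smul]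
    rfl
  have : (TensorProduct.mk P (P ⧸ J) M 1 : M → _) = e.symm := by
    funext m
    rw [LinearEquiv.eq_symm_apply, he]
  rw [this]
  exact e.symm.bijective

end PQMod





section Sim

/-- two elements each dividing a power of the other. -/
def Sim {A : Type u} [CommRing A] (a x : A) : Prop := (∃ k, x ∣ a ^ k) ∧ ∃ m, a ∣ x ^ m

theorem Sim.refl {A : Type u} [CommRing A] (a : A) : Sim a a :=
  ⟨⟨1, by rw [pow_one]⟩, ⟨1, by rw [pow_one]⟩⟩

theorem Sim.symm {A : Type u} [CommRing A] {a x : A} (h : Sim a x) : Sim x a := ⟨h.2, h.1⟩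

theorem Sim.map {A A₁ : Type u} [CommRing A] [CommRing A₁] (f : A →+* A₁) {a x : A}
    (h : Sim a x) : Sim (f a) (f x) := by
  obtain ⟨⟨k, hk⟩, ⟨m, hm⟩⟩ := h
  exact ⟨⟨k, by rw [← map_pow]; exact map_dvd f hk⟩, ⟨m, by rw [← map_pow]; exact map_dvd f hm⟩⟩

theorem away_of_sim {A A' : Type u} [CommRing A] [CommRing A'] [Algebra A A'] (a x : A)
    [h : IsLocalization.Away a A'] (hs : Sim a x) : IsLocalization.Away x A' := by
  obtain ⟨⟨k, hk⟩, ⟨m, hm⟩⟩ := hs
  let N : Submonoid A := Submonoid.powers a ⊔ Submonoid.powers x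
  have key : ∀ n ∈ N, (∃ s ∈ Submonoid.powers a, n ∣ s) ∧ ∃ s ∈ Submonoid.powers x, n ∣ s := by
    intro n hn
    obtain ⟨y, ⟨i, rfl⟩, z, ⟨j, rfl⟩, rfl⟩ := Submonoid.mem_sup.mp hn
    change a ^ i * x ^ j ∈ N at hn
    change (∃ s ∈ Submonoid.powers a, a ^ i * x ^ j ∣ s) ∧
      ∃ s ∈ Submonoid.powers x, a ^ i * x ^ j ∣ s
    constructor
    · refine ⟨a ^ i * (a ^ k) ^ j, ⟨i + k * j, by simp only [pow_add, pow_mul]⟩, ?_⟩
      exact mul_dvd_mul_left _ (pow_dvd_pow_of_dvd hk j)
    · refine ⟨(x ^ m) ^ i * x ^ j, ⟨m * i + j, by simp only [pow_add, pow_mul]⟩, ?_⟩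
      exact mul_dvd_mul_right (pow_dvd_pow_of_dvd hm i) _
  have h1 : IsLocalization N A' :=
    (IsLocalization.iff_of_le_of_exists_dvd (Submonoid.powers a) N le_sup_left
      (fun n hn => (key n hn).1)).mp h
  exact (IsLocalization.iff_of_le_of_exists_dvd (Submonoid.powers x) N le_sup_right
      (fun n hn => (key n hn).2)).mpr h1

end Sim

section Smooth

variable {R Rg B B' : Type u} [CommRing R] [CommRing Rg] [CommRing B] [CommRing B']
  [Algebra R Rg] [Algebra R B] [Algebra B B'] [Algebra R B'] [IsScalarTower R B B']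
  [Algebra Rg B'] [IsScalarTower R Rg B'] (g : R) [IsLocalization.Away g Rg] (b : B)
  [IsLocalization.Away b B']

include g b in
theorem smooth_away [Algebra.Smooth R B] : Algebra.Smooth Rg B' := by
  haveI : Algebra.Smooth B B' := Algebra.Smooth.of_isLocalization_Away b
  haveI : Algebra.Smooth R B' := Algebra.Smooth.comp R B B'
  have hpo : Algebra.IsPushout R Rg B' B' :=
    isPushout_self_of_isLocalization (Submonoid.powers g)
  exact smooth_of_isPushout hpo

include g b in
theorem surjective_comap_of_forall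
    (hsurj : ∀ P : Ideal R, P.IsPrime → g ∉ P →
      ∃ Q : Ideal B, Q.IsPrime ∧ b ∉ Q ∧ Q.comap (algebraMap R B) = P) :
    Function.Surjective (PrimeSpectrum.comap (algebraMap Rg B')) := by
  intro P'
  have hgP : g ∉ P'.asIdeal.comap (algebraMap R Rg) := by
    intro hmem
    exact (Ideal.IsPrime.ne_top P'.isPrime) (Ideal.eq_top_of_isUnit_mem _ hmem
      (IsLocalization.Away.algebraMap_isUnit g))
  obtain ⟨Q, hQ, hYQ, hQP⟩ := hsurj _ (Ideal.IsPrime.comap _) hgP
  haveI := hQ
  haveI hQ' : (Q.map (algebraMap B B')).IsPrime := isPrime_map_away b Q hYQ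
  refine ⟨⟨Q.map (algebraMap B B'), hQ'⟩, ?_⟩
  apply PrimeSpectrum.ext
  change (Q.map (algebraMap B B')).comap (algebraMap Rg B') = P'.asIdeal
  rw [eq_map_of_comap_eq g _ P'.asIdeal rfl]
  apply eq_map_of_comap_eq g
  rw [Ideal.comap_comap, ← IsScalarTower.algebraMap_eq R Rg B',
    IsScalarTower.algebraMap_eq R B B', ← Ideal.comap_comap, comap_map_away b Q hYQ, hQP]

end Smooth





section LocalDim

variable {R S Sx : Type u} [CommRing R] [CommRing S] [CommRing Sx] [Algebra R S] [Algebra S Sx]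
  [Algebra R Sx] [IsScalarTower R S Sx]
  (p : Ideal R) [p.IsPrime]
  (N : Type u) [AddCommGroup N] [Module S N] [Module.Finite S N]
  (Nx : Type u) [AddCommGroup Nx] [Module Sx Nx] [Module S Nx] [IsScalarTower S Sx Nx]
  (f : N →ₗ[S] Nx) (hf : IsBaseChange Sx f)

include hf in
/-- the local dimension of the fibre support is unchanged by localizing `S`. -/
theorem localDim_of_isLocalization (hX : S) [IsLocalization.Away hX Sx]
    (q : Ideal S) [q.IsPrime] [q.LiesOver p] (hXq : hX ∉ q) (n : WithBot ℕ∞)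
    (h1 : ∃ (ξ : PrimeSpectrum (p.Fiber S))
      (hξ : ξ ∈ Module.support (p.Fiber S) (FlatCA.fiberMod p S N)),
      ξ.asIdeal = FlatCA.fiberIdeal p q ∧
      FlatMor.localDim (Module.support (p.Fiber S) (FlatCA.fiberMod p S N)) ⟨ξ, hξ⟩ = n) :
    ∃ (ξ' : PrimeSpectrum (p.Fiber Sx))
      (hξ' : ξ' ∈ Module.support (p.Fiber Sx) (FlatCA.fiberMod p Sx Nx)),
      ξ'.asIdeal = FlatCA.fiberIdeal p (q.map (algebraMap S Sx)) ∧
      FlatMor.localDim (Module.support (p.Fiber Sx) (FlatCA.fiberMod p Sx Nx)) ⟨ξ', hξ'⟩ = n := by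
  obtain ⟨ξ, hξ, hξq, hξdim⟩ := h1
  obtain ⟨ψ, hψs, hsupp, hopen, hrange⟩ := exists_fiber_ringHom_of_isLocalization p N Nx f hf hX
  have hξr : ξ ∈ Set.range (PrimeSpectrum.comap ψ) := by
    rw [hrange]
    change (1 : p.ResidueField) ⊗ₜ[R] hX ∉ ξ.asIdeal
    rw [hξq]
    intro hmem
    apply hXq
    have := Groth.Agent.S1224.comap_fiberIdeal p q
    rw [← this]
    exact hmem
  obtain ⟨ξ', hξ'ξ⟩ := hξr
  have hξ'mem : ξ' ∈ Module.support (p.Fiber Sx) (FlatCA.fiberMod p Sx Nx) := by
    rw [hsupp, Set.mem_preimage, hξ'ξ]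
    exact hξ
  have hjξ' : PrimeSpectrum.comap ψ ξ' ∈ Module.support (p.Fiber S) (FlatCA.fiberMod p S N) := by
    rw [hξ'ξ]; exact hξ
  obtain ⟨hld, -⟩ := top_aux (PrimeSpectrum.comap ψ) hopen _ _ hsupp ξ' hξ'mem hjξ'
  have hld' : FlatMor.localDim (Module.support (p.Fiber Sx) (FlatCA.fiberMod p Sx Nx))
      ⟨ξ', hξ'mem⟩ = n := by
    rw [hld, ← hξdim]
    congr 1
    exact Subtype.ext hξ'ξ
  refine ⟨ξ', hξ'mem, ?_, hld'⟩
  rw [Groth.Agent.Lib.T2H2.DevBC2.eq_fiberIdeal_comap p ξ'.asIdeal]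
  congr 1
  have hcomp : (Algebra.TensorProduct.includeRight (R := R) (A := p.ResidueField)
      (B := Sx)).toRingHom.comp (algebraMap S Sx) =
      ψ.comp (Algebra.TensorProduct.includeRight (R := R) (A := p.ResidueField)
        (B := S)).toRingHom := by
    ext s
    exact (hψs s).symm
  have h2 : (ξ'.asIdeal.comap (Algebra.TensorProduct.includeRight (R := R)
      (A := p.ResidueField) (B := Sx)).toRingHom).comap (algebraMap S Sx) = q := by
    rw [Ideal.comap_comap, hcomp, ← Ideal.comap_comap]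
    have : ξ'.asIdeal.comap ψ = ξ.asIdeal := congrArg PrimeSpectrum.asIdeal hξ'ξ
    rw [this, hξq, Groth.Agent.S1224.comap_fiberIdeal]
  rw [← h2]
  exact (IsLocalization.map_under (Submonoid.powers hX) Sx _).symm

end LocalDim

section LocalDim2

/-- the local dimension of the fibre support at a point, after localizing both the algebra and the
base. -/
theorem localDim_away {R Rg B B' : Type u} [CommRing R] [CommRing Rg] [CommRing B] [CommRing B']
    [Algebra R Rg] [Algebra R B] [Algebra B B'] [Algebra R B'] [IsScalarTower R B B']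
    [Algebra Rg B'] [IsScalarTower R Rg B'] (g : R) [IsLocalization.Away g Rg] (b : B)
    [IsLocalization.Away b B'] (p : Ideal R) [p.IsPrime]
    (p' : Ideal Rg) [p'.IsPrime] [hp' : p'.LiesOver p]
    (M : Type u) [AddCommGroup M] [Module B M] [Module.Finite B M]
    (M' : Type u) [AddCommGroup M'] [Module B' M'] [Module B M'] [IsScalarTower B B' M']
    (f : M →ₗ[B] M') (hf : IsBaseChange B' f)
    (qB : Ideal B) [qB.IsPrime] [qB.LiesOver p] (hb : b ∉ qB)
    (qB' : Ideal B') [qB'.IsPrime] [qB'.LiesOver p'] (hqB' : qB' = qB.map (algebraMap B B'))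
    (n : WithBot ℕ∞)
    (h1 : ∃ (ξ : PrimeSpectrum (p.Fiber B))
      (hξ : ξ ∈ Module.support (p.Fiber B) (FlatCA.fiberMod p B M)),
      ξ.asIdeal = FlatCA.fiberIdeal p qB ∧
      FlatMor.localDim (Module.support (p.Fiber B) (FlatCA.fiberMod p B M)) ⟨ξ, hξ⟩ = n) :
    ∃ (ξ' : PrimeSpectrum (p'.Fiber B'))
      (hξ' : ξ' ∈ Module.support (p'.Fiber B') (FlatCA.fiberMod p' B' M')),
      ξ'.asIdeal = FlatCA.fiberIdeal p' qB' ∧
      FlatMor.localDim (Module.support (p'.Fiber B') (FlatCA.fiberMod p' B' M')) ⟨ξ', hξ'⟩ = n := by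
  subst hqB'
  have h1x := localDim_of_isLocalization p M M' f hf b qB hb n h1
  haveI hqp : (qB.map (algebraMap B B')).LiesOver p := ⟨by
    rw [Ideal.under_def, IsScalarTower.algebraMap_eq R B B', ← Ideal.comap_comap,
      comap_map_away b qB hb]
    exact (inferInstance : qB.LiesOver p).over⟩
  haveI hpo : Algebra.IsPushout R Rg B' B' :=
    isPushout_self_of_isLocalization (Submonoid.powers g)
  have hid : IsBaseChange B' (LinearMap.id : M' →ₗ[B'] M') :=
    IsBaseChange.of_equiv (TensorProduct.lid B' M') (fun x => by simp)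
  have hκ : Function.Bijective (Ideal.ResidueField.mapₐ p p' (Algebra.ofId R Rg) hp'.over) :=
    residueField_map_bijective_of_isLocalization (Submonoid.powers g) p p' hp'.over
  haveI : (qB.map (algebraMap B B')).LiesOver (qB.map (algebraMap B B')) :=
    ⟨by rw [Ideal.under_def]; exact (Ideal.comap_id _).symm⟩
  haveI : Module.Finite B' M' := Module.Finite.equiv hf.equiv
  exact Groth.Agent.Lib.T2H2.DevBC4.exists_localDim_fiber_of_isPushout (R := R) (R' := Rg)
    (S := B') (S' := B') p p' hκ M' M' LinearMap.id hid (qB.map (algebraMap B B'))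
    (qB.map (algebraMap B B')) n h1x

end LocalDim2





section BC

theorem isBaseChange_restrictScalars_away {B B' A A' M M' : Type u} [CommRing B] [CommRing B']
    [CommRing A] [CommRing A'] [Algebra B B'] [Algebra B A] [Algebra A A'] [Algebra B' A']
    [Algebra B A'] [IsScalarTower B B' A'] [IsScalarTower B A A'] (b : B)
    [IsLocalization.Away b B']
    [AddCommGroup M] [Module A M] [Module B M] [IsScalarTower B A M]
    [AddCommGroup M'] [Module A' M'] [Module A M'] [IsScalarTower A A' M'] [Module B' M']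
    [IsScalarTower B' A' M'] [Module B M'] [IsScalarTower B B' M'] [IsScalarTower B A M']
    (gM : M →ₗ[A] M') [IsLocalizedModule (Submonoid.powers (algebraMap B A b)) gM] :
    IsBaseChange B' (gM.restrictScalars B) := by
  haveI : IsLocalizedModule (Submonoid.powers b) (gM.restrictScalars B) :=
    IsLocalizedModule.restrictScalars_powers b gM
  exact IsLocalizedModule.isBaseChange (Submonoid.powers b) B' (gM.restrictScalars B)

theorem map_eq_comap_map_away {R Rg B B' : Type u} [CommRing R] [CommRing Rg] [CommRing B]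
    [CommRing B'] [Algebra R Rg] [Algebra R B] [Algebra B B'] [Algebra R B'] [IsScalarTower R B B']
    [Algebra Rg B'] [IsScalarTower R Rg B'] (b : B) [IsLocalization.Away b B']
    (p : Ideal R) [hpB : (p.map (algebraMap R B)).IsPrime] (hb : b ∉ p.map (algebraMap R B)) :
    p.map (algebraMap R B) =
      ((p.map (algebraMap R Rg)).map (algebraMap Rg B')).comap (algebraMap B B') := by
  rw [Ideal.map_map, ← IsScalarTower.algebraMap_eq R Rg B', IsScalarTower.algebraMap_eq R B B',
    ← Ideal.map_map, comap_map_away b (p.map (algebraMap R B)) hb]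

end BC

end Groth.Agent.Lib.T2H2.ShrinkC
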