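import Groth.Agent.Lib.T2H2ShrinkC1

/-!
# Standard shrinking of a complete dévissage: the families (helper2)

For shrinking data `g : R`, `x : S`, `c i : B i` (inverting `hXe = x g`, `be i = c i g` and the
elements `ae i` of `A i`): the plain localizations `Rl`, `Sl`, `Bl`, `Al`, `Ml`, the uniform
families `Bq`, `Aq`, `Mq` (which are the localizations at the genuine steps and carry primes beyond
the length), their structure maps, and, under the hypotheses `Hyp`, the properties of a complete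
dévissage at the genuine steps.
-/

set_option autoImplicit false
set_option linter.style.haveILetI false
set_option linter.unusedSectionVars false
universe u
open TensorProduct

namespace Groth.Agent.Lib.T2H2.ShrinkC

open Groth.Agent.Lib.T2H2.Shrink Groth.Agent.Lib.T2H2.DevBCX

attribute [local instance] Algebra.TensorProduct.rightAlgebra

section Plain

variable {R S : Type u} [CommRing R] [CommRing S] [Algebra R S] {N : Type u} [AddCommGroup N]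
  [Module S N] {p : Ideal R} [p.IsPrime] (𝒟 : FlatCA.CompleteDevissage R S N p)
  (g : R) (x : S) (c : ∀ i, 𝒟.B i)

/-- the element of `S` inverted. -/
def hXe : S := x * algebraMap R S g

/-- the elements of the `B i` inverted. -/
def be (i : ℕ) : 𝒟.B i := c i * algebraMap R (𝒟.B i) g

/-- the second factors of the elements of the `A i` inverted. -/
def reste : ∀ i, 𝒟.A i
  | 0 => algebraMap S (𝒟.A 0) (hXe g x)
  | (i + 1) => algebraMap (𝒟.B i) (𝒟.A (i + 1)) (be 𝒟 g c i)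

/-- the elements of the `A i` inverted. -/
def ae (i : ℕ) : 𝒟.A i := algebraMap (𝒟.B i) (𝒟.A i) (be 𝒟 g c i) * reste 𝒟 g x c i

/-- the localized base. -/
abbrev Rl : Type u := Localization.Away g

/-- the localized algebra. -/
def Sl : Type u := Localization.Away (hXe g x)

noncomputable instance : CommRing (Sl g x) := inferInstanceAs (CommRing (Localization.Away (hXe g x)))
noncomputable instance : Algebra S (Sl g x) :=
  inferInstanceAs (Algebra S (Localization.Away (hXe g x)))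
noncomputable instance : Algebra R (Sl g x) :=
  inferInstanceAs (Algebra R (Localization.Away (hXe g x)))
instance : IsScalarTower R S (Sl g x) :=
  inferInstanceAs (IsScalarTower R S (Localization.Away (hXe g x)))
instance : IsLocalization.Away (hXe g x) (Sl g x) :=
  inferInstanceAs (IsLocalization.Away (hXe g x) (Localization.Away (hXe g x)))

theorem isUnit_g_Sl : IsUnit (algebraMap R (Sl g x) g) := by
  rw [IsScalarTower.algebraMap_apply R S (Sl g x)]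
  exact IsLocalization.Away.isUnit_of_dvd (hXe g x) (Dvd.intro_left x rfl)

noncomputable instance algRlSl : Algebra (Rl g) (Sl g x) :=
  (IsLocalization.Away.lift (S := Rl g) g (g := algebraMap R (Sl g x)) (isUnit_g_Sl g x)).toAlgebra

instance towerRRlSl : IsScalarTower R (Rl g) (Sl g x) :=
  IsScalarTower.of_algebraMap_eq (R := R) (S := Rl g) (A := Sl g x) fun r =>
    (IsLocalization.Away.lift_eq (S := Rl g) g (g := algebraMap R (Sl g x)) (isUnit_g_Sl g x) r).symm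

/-- the localized smooth algebras. -/
def Bl (i : ℕ) : Type u := Localization.Away (be 𝒟 g c i)

noncomputable instance (i : ℕ) : CommRing (Bl 𝒟 g c i) :=
  inferInstanceAs (CommRing (Localization.Away (be 𝒟 g c i)))
noncomputable instance (i : ℕ) : Algebra (𝒟.B i) (Bl 𝒟 g c i) :=
  inferInstanceAs (Algebra (𝒟.B i) (Localization.Away (be 𝒟 g c i)))
noncomputable instance (i : ℕ) : Algebra R (Bl 𝒟 g c i) :=
  inferInstanceAs (Algebra R (Localization.Away (be 𝒟 g c i)))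
instance (i : ℕ) : IsScalarTower R (𝒟.B i) (Bl 𝒟 g c i) :=
  inferInstanceAs (IsScalarTower R (𝒟.B i) (Localization.Away (be 𝒟 g c i)))
instance (i : ℕ) : IsLocalization.Away (be 𝒟 g c i) (Bl 𝒟 g c i) :=
  inferInstanceAs (IsLocalization.Away (be 𝒟 g c i) (Localization.Away (be 𝒟 g c i)))

theorem isUnit_g_Bl (i : ℕ) : IsUnit (algebraMap R (Bl 𝒟 g c i) g) := by
  rw [IsScalarTower.algebraMap_apply R (𝒟.B i) (Bl 𝒟 g c i)]
  exact IsLocalization.Away.isUnit_of_dvd (be 𝒟 g c i) (Dvd.intro_left (c i) rfl)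

noncomputable instance algRlBl (i : ℕ) : Algebra (Rl g) (Bl 𝒟 g c i) :=
  (IsLocalization.Away.lift (S := Rl g) g (g := algebraMap R (Bl 𝒟 g c i))
    (isUnit_g_Bl 𝒟 g c i)).toAlgebra

instance towerRRlBl (i : ℕ) : IsScalarTower R (Rl g) (Bl 𝒟 g c i) :=
  IsScalarTower.of_algebraMap_eq (R := R) (S := Rl g) (A := Bl 𝒟 g c i) fun r =>
    (IsLocalization.Away.lift_eq (S := Rl g) g (g := algebraMap R (Bl 𝒟 g c i))
      (isUnit_g_Bl 𝒟 g c i) r).symm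

/-- the localized rings carrying the modules. -/
def Al (i : ℕ) : Type u := Localization.Away (ae 𝒟 g x c i)

noncomputable instance (i : ℕ) : CommRing (Al 𝒟 g x c i) :=
  inferInstanceAs (CommRing (Localization.Away (ae 𝒟 g x c i)))
noncomputable instance (i : ℕ) : Algebra (𝒟.A i) (Al 𝒟 g x c i) :=
  inferInstanceAs (Algebra (𝒟.A i) (Localization.Away (ae 𝒟 g x c i)))
noncomputable instance (i : ℕ) : Algebra R (Al 𝒟 g x c i) :=
  inferInstanceAs (Algebra R (Localization.Away (ae 𝒟 g x c i)))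
instance (i : ℕ) : IsScalarTower R (𝒟.A i) (Al 𝒟 g x c i) :=
  inferInstanceAs (IsScalarTower R (𝒟.A i) (Localization.Away (ae 𝒟 g x c i)))
instance (i : ℕ) : IsLocalization.Away (ae 𝒟 g x c i) (Al 𝒟 g x c i) :=
  inferInstanceAs (IsLocalization.Away (ae 𝒟 g x c i) (Localization.Away (ae 𝒟 g x c i)))

noncomputable instance algBAl (i : ℕ) : Algebra (𝒟.B i) (Al 𝒟 g x c i) :=
  ((algebraMap (𝒟.A i) (Al 𝒟 g x c i)).comp (algebraMap (𝒟.B i) (𝒟.A i))).toAlgebra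

instance towerBAAl (i : ℕ) : IsScalarTower (𝒟.B i) (𝒟.A i) (Al 𝒟 g x c i) :=
  IsScalarTower.of_algebraMap_eq (R := 𝒟.B i) (S := 𝒟.A i) (A := Al 𝒟 g x c i) fun _ => rfl

theorem isUnit_be_Al (i : ℕ) : IsUnit (algebraMap (𝒟.B i) (Al 𝒟 g x c i) (be 𝒟 g c i)) := by
  rw [IsScalarTower.algebraMap_apply (𝒟.B i) (𝒟.A i) (Al 𝒟 g x c i)]
  exact IsLocalization.Away.isUnit_of_dvd (ae 𝒟 g x c i) (Dvd.intro _ rfl)

noncomputable instance algBlAl (i : ℕ) : Algebra (Bl 𝒟 g c i) (Al 𝒟 g x c i) :=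
  (IsLocalization.Away.lift (S := Bl 𝒟 g c i) (be 𝒟 g c i)
    (g := algebraMap (𝒟.B i) (Al 𝒟 g x c i)) (isUnit_be_Al 𝒟 g x c i)).toAlgebra

instance towerBBlAl (i : ℕ) : IsScalarTower (𝒟.B i) (Bl 𝒟 g c i) (Al 𝒟 g x c i) :=
  IsScalarTower.of_algebraMap_eq (R := 𝒟.B i) (S := Bl 𝒟 g c i) (A := Al 𝒟 g x c i) fun r =>
    (IsLocalization.Away.lift_eq (S := Bl 𝒟 g c i) (be 𝒟 g c i)
      (g := algebraMap (𝒟.B i) (Al 𝒟 g x c i)) (isUnit_be_Al 𝒟 g x c i) r).symm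

noncomputable instance algBAl' (i : ℕ) : Algebra (𝒟.B i) (Al 𝒟 g x c (i + 1)) :=
  ((algebraMap (𝒟.A (i + 1)) (Al 𝒟 g x c (i + 1))).comp
    (algebraMap (𝒟.B i) (𝒟.A (i + 1)))).toAlgebra

instance towerBAAl' (i : ℕ) : IsScalarTower (𝒟.B i) (𝒟.A (i + 1)) (Al 𝒟 g x c (i + 1)) :=
  IsScalarTower.of_algebraMap_eq (R := 𝒟.B i) (S := 𝒟.A (i + 1)) (A := Al 𝒟 g x c (i + 1))
    fun _ => rfl

theorem isUnit_be_Al' (i : ℕ) :
    IsUnit (algebraMap (𝒟.B i) (Al 𝒟 g x c (i + 1)) (be 𝒟 g c i)) := by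
  rw [IsScalarTower.algebraMap_apply (𝒟.B i) (𝒟.A (i + 1)) (Al 𝒟 g x c (i + 1))]
  exact IsLocalization.Away.isUnit_of_dvd (ae 𝒟 g x c (i + 1)) (Dvd.intro_left _ rfl)

noncomputable instance algBlAl' (i : ℕ) : Algebra (Bl 𝒟 g c i) (Al 𝒟 g x c (i + 1)) :=
  (IsLocalization.Away.lift (S := Bl 𝒟 g c i) (be 𝒟 g c i)
    (g := algebraMap (𝒟.B i) (Al 𝒟 g x c (i + 1))) (isUnit_be_Al' 𝒟 g x c i)).toAlgebra

instance towerBBlAl' (i : ℕ) : IsScalarTower (𝒟.B i) (Bl 𝒟 g c i) (Al 𝒟 g x c (i + 1)) :=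
  IsScalarTower.of_algebraMap_eq (R := 𝒟.B i) (S := Bl 𝒟 g c i) (A := Al 𝒟 g x c (i + 1))
    fun r => (IsLocalization.Away.lift_eq (S := Bl 𝒟 g c i) (be 𝒟 g c i)
      (g := algebraMap (𝒟.B i) (Al 𝒟 g x c (i + 1))) (isUnit_be_Al' 𝒟 g x c i) r).symm

noncomputable instance algRlAl (i : ℕ) : Algebra (Rl g) (Al 𝒟 g x c i) :=
  ((algebraMap (Bl 𝒟 g c i) (Al 𝒟 g x c i)).comp (algebraMap (Rl g) (Bl 𝒟 g c i))).toAlgebra

instance towerRlBlAl (i : ℕ) : IsScalarTower (Rl g) (Bl 𝒟 g c i) (Al 𝒟 g x c i) :=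
  IsScalarTower.of_algebraMap_eq (R := Rl g) (S := Bl 𝒟 g c i) (A := Al 𝒟 g x c i) fun _ => rfl

instance towerRBAl (i : ℕ) : IsScalarTower R (𝒟.B i) (Al 𝒟 g x c i) :=
  IsScalarTower.of_algebraMap_eq (R := R) (S := 𝒟.B i) (A := Al 𝒟 g x c i) fun r => by
    rw [IsScalarTower.algebraMap_apply (𝒟.B i) (𝒟.A i) (Al 𝒟 g x c i),
      ← IsScalarTower.algebraMap_apply R (𝒟.B i) (𝒟.A i),
      ← IsScalarTower.algebraMap_apply R (𝒟.A i) (Al 𝒟 g x c i)]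

instance towerRBlAl (i : ℕ) : IsScalarTower R (Bl 𝒟 g c i) (Al 𝒟 g x c i) :=
  IsScalarTower.of_algebraMap_eq (R := R) (S := Bl 𝒟 g c i) (A := Al 𝒟 g x c i) fun r => by
    rw [IsScalarTower.algebraMap_apply R (𝒟.B i) (Bl 𝒟 g c i),
      ← IsScalarTower.algebraMap_apply (𝒟.B i) (Bl 𝒟 g c i) (Al 𝒟 g x c i),
      ← IsScalarTower.algebraMap_apply R (𝒟.B i) (Al 𝒟 g x c i)]

instance towerRRlAl (i : ℕ) : IsScalarTower R (Rl g) (Al 𝒟 g x c i) :=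
  IsScalarTower.of_algebraMap_eq (R := R) (S := Rl g) (A := Al 𝒟 g x c i) fun r => by
    rw [IsScalarTower.algebraMap_apply (Rl g) (Bl 𝒟 g c i) (Al 𝒟 g x c i),
      ← IsScalarTower.algebraMap_apply R (Rl g) (Bl 𝒟 g c i),
      ← IsScalarTower.algebraMap_apply R (Bl 𝒟 g c i) (Al 𝒟 g x c i)]

instance towerRBAl' (i : ℕ) : IsScalarTower R (𝒟.B i) (Al 𝒟 g x c (i + 1)) :=
  IsScalarTower.of_algebraMap_eq (R := R) (S := 𝒟.B i) (A := Al 𝒟 g x c (i + 1)) fun r => by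
    rw [IsScalarTower.algebraMap_apply (𝒟.B i) (𝒟.A (i + 1)) (Al 𝒟 g x c (i + 1)),
      ← IsScalarTower.algebraMap_apply R (𝒟.B i) (𝒟.A (i + 1)),
      ← IsScalarTower.algebraMap_apply R (𝒟.A (i + 1)) (Al 𝒟 g x c (i + 1))]

instance towerRBlAl' (i : ℕ) : IsScalarTower R (Bl 𝒟 g c i) (Al 𝒟 g x c (i + 1)) :=
  IsScalarTower.of_algebraMap_eq (R := R) (S := Bl 𝒟 g c i) (A := Al 𝒟 g x c (i + 1))
    fun r => by
    rw [IsScalarTower.algebraMap_apply R (𝒟.B i) (Bl 𝒟 g c i),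
      ← IsScalarTower.algebraMap_apply (𝒟.B i) (Bl 𝒟 g c i) (Al 𝒟 g x c (i + 1)),
      ← IsScalarTower.algebraMap_apply R (𝒟.B i) (Al 𝒟 g x c (i + 1))]

instance towerRlBlAl' (i : ℕ) : IsScalarTower (Rl g) (Bl 𝒟 g c i) (Al 𝒟 g x c (i + 1)) :=
  IsScalarTower.of_algebraMap_eq' (by
    apply IsLocalization.ringHom_ext (Submonoid.powers g)
    rw [RingHom.comp_assoc, ← IsScalarTower.algebraMap_eq R (Rl g) (Bl 𝒟 g c i),
      ← IsScalarTower.algebraMap_eq R (Rl g) (Al 𝒟 g x c (i + 1)),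
      ← IsScalarTower.algebraMap_eq R (Bl 𝒟 g c i) (Al 𝒟 g x c (i + 1))])

noncomputable instance algSAl : Algebra S (Al 𝒟 g x c 0) :=
  ((algebraMap (𝒟.A 0) (Al 𝒟 g x c 0)).comp (algebraMap S (𝒟.A 0))).toAlgebra

instance towerSAAl : IsScalarTower S (𝒟.A 0) (Al 𝒟 g x c 0) :=
  IsScalarTower.of_algebraMap_eq (R := S) (S := 𝒟.A 0) (A := Al 𝒟 g x c 0) fun _ => rfl

instance towerRSAl : IsScalarTower R S (Al 𝒟 g x c 0) :=
  IsScalarTower.of_algebraMap_eq (R := R) (S := S) (A := Al 𝒟 g x c 0) fun r => by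
    rw [IsScalarTower.algebraMap_apply S (𝒟.A 0) (Al 𝒟 g x c 0),
      ← IsScalarTower.algebraMap_apply R S (𝒟.A 0),
      ← IsScalarTower.algebraMap_apply R (𝒟.A 0) (Al 𝒟 g x c 0)]

theorem isUnit_hXe_Al : IsUnit (algebraMap S (Al 𝒟 g x c 0) (hXe g x)) := by
  rw [IsScalarTower.algebraMap_apply S (𝒟.A 0) (Al 𝒟 g x c 0)]
  exact IsLocalization.Away.isUnit_of_dvd (ae 𝒟 g x c 0) (Dvd.intro_left _ rfl)

noncomputable instance algSlAl : Algebra (Sl g x) (Al 𝒟 g x c 0) :=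
  (IsLocalization.Away.lift (S := Sl g x) (hXe g x)
    (g := algebraMap S (Al 𝒟 g x c 0)) (isUnit_hXe_Al 𝒟 g x c)).toAlgebra

instance towerSSlAl : IsScalarTower S (Sl g x) (Al 𝒟 g x c 0) :=
  IsScalarTower.of_algebraMap_eq (R := S) (S := Sl g x) (A := Al 𝒟 g x c 0) fun r =>
    (IsLocalization.Away.lift_eq (S := Sl g x) (hXe g x)
      (g := algebraMap S (Al 𝒟 g x c 0)) (isUnit_hXe_Al 𝒟 g x c) r).symm

instance towerRSlAl : IsScalarTower R (Sl g x) (Al 𝒟 g x c 0) :=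
  IsScalarTower.of_algebraMap_eq (R := R) (S := Sl g x) (A := Al 𝒟 g x c 0) fun r => by
    rw [IsScalarTower.algebraMap_apply R S (Sl g x),
      ← IsScalarTower.algebraMap_apply S (Sl g x) (Al 𝒟 g x c 0),
      ← IsScalarTower.algebraMap_apply R S (Al 𝒟 g x c 0)]

instance towerRlSlAl : IsScalarTower (Rl g) (Sl g x) (Al 𝒟 g x c 0) :=
  IsScalarTower.of_algebraMap_eq' (by
    apply IsLocalization.ringHom_ext (Submonoid.powers g)
    rw [RingHom.comp_assoc, ← IsScalarTower.algebraMap_eq R (Rl g) (Sl g x),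
      ← IsScalarTower.algebraMap_eq R (Rl g) (Al 𝒟 g x c 0),
      ← IsScalarTower.algebraMap_eq R (Sl g x) (Al 𝒟 g x c 0)])

/-- the localized modules. -/
def Ml (i : ℕ) : Type u := LocalizedModule (Submonoid.powers (ae 𝒟 g x c i)) (𝒟.M i)

noncomputable instance (i : ℕ) : AddCommGroup (Ml 𝒟 g x c i) :=
  inferInstanceAs (AddCommGroup (LocalizedModule (Submonoid.powers (ae 𝒟 g x c i)) (𝒟.M i)))
noncomputable instance (i : ℕ) : Module (𝒟.A i) (Ml 𝒟 g x c i) :=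
  inferInstanceAs (Module (𝒟.A i) (LocalizedModule (Submonoid.powers (ae 𝒟 g x c i)) (𝒟.M i)))
noncomputable instance (i : ℕ) : Module (Al 𝒟 g x c i) (Ml 𝒟 g x c i) :=
  inferInstanceAs (Module (Localization.Away (ae 𝒟 g x c i))
    (LocalizedModule (Submonoid.powers (ae 𝒟 g x c i)) (𝒟.M i)))
instance (i : ℕ) : IsScalarTower (𝒟.A i) (Al 𝒟 g x c i) (Ml 𝒟 g x c i) :=
  inferInstanceAs (IsScalarTower (𝒟.A i) (Localization.Away (ae 𝒟 g x c i))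
    (LocalizedModule (Submonoid.powers (ae 𝒟 g x c i)) (𝒟.M i)))

/-- the localization maps of the modules. -/
noncomputable def mkMl (i : ℕ) : 𝒟.M i →ₗ[𝒟.A i] Ml 𝒟 g x c i :=
  LocalizedModule.mkLinearMap (Submonoid.powers (ae 𝒟 g x c i)) (𝒟.M i)

instance (i : ℕ) : IsLocalizedModule (Submonoid.powers (ae 𝒟 g x c i)) (mkMl 𝒟 g x c i) :=
  inferInstanceAs (IsLocalizedModule (Submonoid.powers (ae 𝒟 g x c i))
    (LocalizedModule.mkLinearMap (Submonoid.powers (ae 𝒟 g x c i)) (𝒟.M i)))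

end Plain


section PQFam

variable {R S : Type u} [CommRing R] [CommRing S] [Algebra R S] {N : Type u} [AddCommGroup N]
  [Module S N] {p : Ideal R} [p.IsPrime] (𝒟 : FlatCA.CompleteDevissage R S N p)
  (g : R) (x : S) (c : ∀ i, 𝒟.B i)

/-- the smooth algebras of the shrunken dévissage (and the base beyond the length). -/
def Bq (i : ℕ) : Type u := PQ (Rl g) (Bl 𝒟 g c i) (Rl g) (i < 𝒟.n)

noncomputable instance (i : ℕ) : CommRing (Bq 𝒟 g c i) :=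
  inferInstanceAs (CommRing (PQ (Rl g) (Bl 𝒟 g c i) (Rl g) (i < 𝒟.n)))
noncomputable instance (i : ℕ) : Algebra (Rl g) (Bq 𝒟 g c i) :=
  inferInstanceAs (Algebra (Rl g) (PQ (Rl g) (Bl 𝒟 g c i) (Rl g) (i < 𝒟.n)))
noncomputable instance (i : ℕ) : Algebra R (Bq 𝒟 g c i) :=
  inferInstanceAs (Algebra R (PQ (Rl g) (Bl 𝒟 g c i) (Rl g) (i < 𝒟.n)))
instance (i : ℕ) : IsScalarTower R (Rl g) (Bq 𝒟 g c i) :=
  inferInstanceAs (IsScalarTower R (Rl g) (PQ (Rl g) (Bl 𝒟 g c i) (Rl g) (i < 𝒟.n)))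

/-- the rings carrying the modules of the shrunken dévissage (and the previous smooth algebra
beyond the length). -/
def Aq (i : ℕ) : Type u := PQ (Rl g) (Al 𝒟 g x c i) (Bl 𝒟 g c (i - 1)) (i < 𝒟.n)

noncomputable instance (i : ℕ) : CommRing (Aq 𝒟 g x c i) :=
  inferInstanceAs (CommRing (PQ (Rl g) (Al 𝒟 g x c i) (Bl 𝒟 g c (i - 1)) (i < 𝒟.n)))
noncomputable instance (i : ℕ) : Algebra (Rl g) (Aq 𝒟 g x c i) :=
  inferInstanceAs (Algebra (Rl g) (PQ (Rl g) (Al 𝒟 g x c i) (Bl 𝒟 g c (i - 1)) (i < 𝒟.n)))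
noncomputable instance (i : ℕ) : Algebra R (Aq 𝒟 g x c i) :=
  inferInstanceAs (Algebra R (PQ (Rl g) (Al 𝒟 g x c i) (Bl 𝒟 g c (i - 1)) (i < 𝒟.n)))
instance (i : ℕ) : IsScalarTower R (Rl g) (Aq 𝒟 g x c i) :=
  inferInstanceAs (IsScalarTower R (Rl g)
    (PQ (Rl g) (Al 𝒟 g x c i) (Bl 𝒟 g c (i - 1)) (i < 𝒟.n)))

variable {𝒟} in
/-- `Bq i ≅ Bl i` at a genuine step. -/
noncomputable def eBq {i : ℕ} (hi : i < 𝒟.n) : Bq 𝒟 g c i ≃ₐ[Rl g] Bl 𝒟 g c i :=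
  eP (Rl g) (Bl 𝒟 g c i) (Rl g) (i < 𝒟.n) hi

variable {𝒟} in
/-- `Bq i ≅ Rl` beyond the length. -/
noncomputable def eBq' {i : ℕ} (hi : ¬ i < 𝒟.n) : Bq 𝒟 g c i ≃ₐ[Rl g] Rl g :=
  eP' (Rl g) (Bl 𝒟 g c i) (Rl g) (i < 𝒟.n) hi

variable {𝒟} in
/-- `Aq i ≅ Al i` at a genuine step. -/
noncomputable def eAq {i : ℕ} (hi : i < 𝒟.n) : Aq 𝒟 g x c i ≃ₐ[Rl g] Al 𝒟 g x c i :=
  eP (Rl g) (Al 𝒟 g x c i) (Bl 𝒟 g c (i - 1)) (i < 𝒟.n) hi

variable {𝒟} in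
/-- `Aq i ≅ Bl (i - 1)` beyond the length. -/
noncomputable def eAq' {i : ℕ} (hi : ¬ i < 𝒟.n) : Aq 𝒟 g x c i ≃ₐ[Rl g] Bl 𝒟 g c (i - 1) :=
  eP' (Rl g) (Al 𝒟 g x c i) (Bl 𝒟 g c (i - 1)) (i < 𝒟.n) hi

/-- the map `Bq i → Bl i`. -/
noncomputable def toBl (i : ℕ) : Bq 𝒟 g c i →ₐ[Rl g] Bl 𝒟 g c i :=
  if h : i < 𝒟.n then (eBq g c h : Bq 𝒟 g c i →ₐ[Rl g] Bl 𝒟 g c i)
  else (Algebra.ofId (Rl g) (Bl 𝒟 g c i)).comp (eBq' g c h : Bq 𝒟 g c i →ₐ[Rl g] Rl g)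

/-- the map `Bq i → Aq i`. -/
noncomputable def mapBqAq (i : ℕ) : Bq 𝒟 g c i →ₐ[Rl g] Aq 𝒟 g x c i :=
  if h : i < 𝒟.n then
    ((eAq g x c h).symm : Al 𝒟 g x c i →ₐ[Rl g] Aq 𝒟 g x c i).comp
      ((IsScalarTower.toAlgHom (Rl g) (Bl 𝒟 g c i) (Al 𝒟 g x c i)).comp
        (eBq g c h : Bq 𝒟 g c i →ₐ[Rl g] Bl 𝒟 g c i))
  else (Algebra.ofId (Rl g) (Aq 𝒟 g x c i)).comp (eBq' g c h : Bq 𝒟 g c i →ₐ[Rl g] Rl g)

/-- the map `Bq i → Aq (i + 1)`. -/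
noncomputable def mapBqAq' (i : ℕ) : Bq 𝒟 g c i →ₐ[Rl g] Aq 𝒟 g x c (i + 1) :=
  if h : i + 1 < 𝒟.n then
    ((eAq g x c h).symm : Al 𝒟 g x c (i + 1) →ₐ[Rl g] Aq 𝒟 g x c (i + 1)).comp
      ((IsScalarTower.toAlgHom (Rl g) (Bl 𝒟 g c i) (Al 𝒟 g x c (i + 1))).comp
        (eBq g c (Nat.lt_of_succ_lt h) : Bq 𝒟 g c i →ₐ[Rl g] Bl 𝒟 g c i))
  else
    ((eAq' g x c h).symm : Bl 𝒟 g c (i + 1 - 1) →ₐ[Rl g] Aq 𝒟 g x c (i + 1)).comp (toBl 𝒟 g c i)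

/-- the map `Sl → Aq 0`. -/
noncomputable def mapSlAq : Sl g x →ₐ[Rl g] Aq 𝒟 g x c 0 :=
  ((eAq g x c 𝒟.pos).symm : Al 𝒟 g x c 0 →ₐ[Rl g] Aq 𝒟 g x c 0).comp
    (IsScalarTower.toAlgHom (Rl g) (Sl g x) (Al 𝒟 g x c 0))

noncomputable instance algBqAq (i : ℕ) : Algebra (Bq 𝒟 g c i) (Aq 𝒟 g x c i) :=
  (mapBqAq 𝒟 g x c i).toRingHom.toAlgebra

instance towerRlBqAq (i : ℕ) : IsScalarTower (Rl g) (Bq 𝒟 g c i) (Aq 𝒟 g x c i) :=
  IsScalarTower.of_algebraMap_eq (R := Rl g) (S := Bq 𝒟 g c i) (A := Aq 𝒟 g x c i) fun r =>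
    ((mapBqAq 𝒟 g x c i).commutes r).symm

noncomputable instance algBqAq' (i : ℕ) : Algebra (Bq 𝒟 g c i) (Aq 𝒟 g x c (i + 1)) :=
  (mapBqAq' 𝒟 g x c i).toRingHom.toAlgebra

instance towerRlBqAq' (i : ℕ) : IsScalarTower (Rl g) (Bq 𝒟 g c i) (Aq 𝒟 g x c (i + 1)) :=
  IsScalarTower.of_algebraMap_eq (R := Rl g) (S := Bq 𝒟 g c i) (A := Aq 𝒟 g x c (i + 1))
    fun r => ((mapBqAq' 𝒟 g x c i).commutes r).symm

noncomputable instance algSlAq : Algebra (Sl g x) (Aq 𝒟 g x c 0) :=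
  (mapSlAq 𝒟 g x c).toRingHom.toAlgebra

instance towerRlSlAq : IsScalarTower (Rl g) (Sl g x) (Aq 𝒟 g x c 0) :=
  IsScalarTower.of_algebraMap_eq (R := Rl g) (S := Sl g x) (A := Aq 𝒟 g x c 0) fun r =>
    ((mapSlAq 𝒟 g x c).commutes r).symm

end PQFam


theorem mk_smul_one_tmul {P : Type u} [CommRing P] (J : Ideal P) (M : Type u)
    [AddCommGroup M] [Module P M] (z : P) (m : M) :
    (Ideal.Quotient.mk J z) • ((1 : P ⧸ J) ⊗ₜ[P] m) = (1 : P ⧸ J) ⊗ₜ[P] (z • m) := by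
  rw [TensorProduct.smul_tmul', smul_eq_mul, mul_one]
  have h1 : (Ideal.Quotient.mk J z : P ⧸ J) = z • (1 : P ⧸ J) := by
    rw [Algebra.smul_def, mul_one]
    rfl
  rw [h1, TensorProduct.smul_tmul]

section PQMod

variable {R S : Type u} [CommRing R] [CommRing S] [Algebra R S] {N : Type u} [AddCommGroup N]
  [Module S N] {p : Ideal R} [p.IsPrime] (𝒟 : FlatCA.CompleteDevissage R S N p)
  (g : R) (x : S) (c : ∀ i, 𝒟.B i)

/-- the product ring of which `Aq i` is a quotient. -/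
abbrev Pq (i : ℕ) : Type u := Al 𝒟 g x c i × Bl 𝒟 g c (i - 1)

noncomputable instance algPqAq (i : ℕ) : Algebra (Pq 𝒟 g x c i) (Aq 𝒟 g x c i) :=
  inferInstanceAs (Algebra (Pq 𝒟 g x c i)
    ((Pq 𝒟 g x c i) ⧸ JP (Rl g) (Al 𝒟 g x c i) (Bl 𝒟 g c (i - 1)) (i < 𝒟.n)))

/-- `Ml i` with the product ring acting through its first factor. -/
def MlP (i : ℕ) : Type u := Ml 𝒟 g x c i

noncomputable instance (i : ℕ) : AddCommGroup (MlP 𝒟 g x c i) :=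
  inferInstanceAs (AddCommGroup (Ml 𝒟 g x c i))

noncomputable instance modPqMlP (i : ℕ) : Module (Pq 𝒟 g x c i) (MlP 𝒟 g x c i) :=
  Module.compHom (Ml 𝒟 g x c i) (RingHom.fst (Al 𝒟 g x c i) (Bl 𝒟 g c (i - 1)))

/-- the modules of the shrunken dévissage. -/
def Mq (i : ℕ) : Type u := Aq 𝒟 g x c i ⊗[Pq 𝒟 g x c i] MlP 𝒟 g x c i

noncomputable instance (i : ℕ) : AddCommGroup (Mq 𝒟 g x c i) :=
  inferInstanceAs (AddCommGroup (Aq 𝒟 g x c i ⊗[Pq 𝒟 g x c i] MlP 𝒟 g x c i))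

noncomputable instance modAqMq (i : ℕ) : Module (Aq 𝒟 g x c i) (Mq 𝒟 g x c i) :=
  inferInstanceAs (Module (Aq 𝒟 g x c i) (Aq 𝒟 g x c i ⊗[Pq 𝒟 g x c i] MlP 𝒟 g x c i))

/-- the map `Ml i → Mq i`. -/
noncomputable def mkMq (i : ℕ) : Ml 𝒟 g x c i → Mq 𝒟 g x c i :=
  fun y => (1 : Aq 𝒟 g x c i) ⊗ₜ[Pq 𝒟 g x c i] (show MlP 𝒟 g x c i from y)

theorem mkMq_add (i : ℕ) (y z : Ml 𝒟 g x c i) :
    mkMq 𝒟 g x c i (y + z) = mkMq 𝒟 g x c i y + mkMq 𝒟 g x c i z :=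
  TensorProduct.tmul_add _ _ _

theorem bijective_mkMq {i : ℕ} (hi : i < 𝒟.n) : Function.Bijective (mkMq 𝒟 g x c i) := by
  refine bijective_mk_quotient_tensor (P := Pq 𝒟 g x c i)
    (JP (Rl g) (Al 𝒟 g x c i) (Bl 𝒟 g c (i - 1)) (i < 𝒟.n)) (MlP 𝒟 g x c i) ?_
  intro j hj m
  rw [JP_pos _ _ _ _ hi, RingHom.mem_ker] at hj
  change (RingHom.fst (Al 𝒟 g x c i) (Bl 𝒟 g c (i - 1)) j) • (show Ml 𝒟 g x c i from m) = 0
  have : RingHom.fst (Al 𝒟 g x c i) (Bl 𝒟 g c (i - 1)) j = 0 := hj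
  rw [this, zero_smul]

/-- the scalar action of `Aq i` on the image of `Ml i`. -/
theorem smul_mkMq {i : ℕ} (hi : i < 𝒟.n) (a : Aq 𝒟 g x c i) (y : Ml 𝒟 g x c i) :
    a • mkMq 𝒟 g x c i y = mkMq 𝒟 g x c i (eAq g x c hi a • y) := by
  obtain ⟨z, rfl⟩ := Ideal.Quotient.mk_surjective a
  exact mk_smul_one_tmul (P := Pq 𝒟 g x c i)
    (JP (Rl g) (Al 𝒟 g x c i) (Bl 𝒟 g c (i - 1)) (i < 𝒟.n)) (MlP 𝒟 g x c i) z y

noncomputable instance modBqMq (i : ℕ) : Module (Bq 𝒟 g c i) (Mq 𝒟 g x c i) :=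
  Module.compHom (Mq 𝒟 g x c i) (algebraMap (Bq 𝒟 g c i) (Aq 𝒟 g x c i))

instance towerBqAqMq (i : ℕ) : IsScalarTower (Bq 𝒟 g c i) (Aq 𝒟 g x c i) (Mq 𝒟 g x c i) :=
  IsScalarTower.of_algebraMap_smul (R := Bq 𝒟 g c i) (A := Aq 𝒟 g x c i) (M := Mq 𝒟 g x c i)
    fun _ _ => rfl

noncomputable instance modRlMq (i : ℕ) : Module (Rl g) (Mq 𝒟 g x c i) :=
  Module.compHom (Mq 𝒟 g x c i) (algebraMap (Rl g) (Aq 𝒟 g x c i))

instance towerRlAqMq (i : ℕ) : IsScalarTower (Rl g) (Aq 𝒟 g x c i) (Mq 𝒟 g x c i) :=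
  IsScalarTower.of_algebraMap_smul (R := Rl g) (A := Aq 𝒟 g x c i) (M := Mq 𝒟 g x c i)
    fun _ _ => rfl

instance towerRlBqMq (i : ℕ) : IsScalarTower (Rl g) (Bq 𝒟 g c i) (Mq 𝒟 g x c i) :=
  IsScalarTower.of_algebraMap_smul (R := Rl g) (A := Bq 𝒟 g c i) (M := Mq 𝒟 g x c i)
    fun r y => by
    change algebraMap (Bq 𝒟 g c i) (Aq 𝒟 g x c i) (algebraMap (Rl g) (Bq 𝒟 g c i) r) • y =
      algebraMap (Rl g) (Aq 𝒟 g x c i) r • y
    rw [← IsScalarTower.algebraMap_apply (Rl g) (Bq 𝒟 g c i) (Aq 𝒟 g x c i)]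

noncomputable instance modSlMq : Module (Sl g x) (Mq 𝒟 g x c 0) :=
  Module.compHom (Mq 𝒟 g x c 0) (algebraMap (Sl g x) (Aq 𝒟 g x c 0))

instance towerSlAqMq : IsScalarTower (Sl g x) (Aq 𝒟 g x c 0) (Mq 𝒟 g x c 0) :=
  IsScalarTower.of_algebraMap_smul (R := Sl g x) (A := Aq 𝒟 g x c 0) (M := Mq 𝒟 g x c 0)
    fun _ _ => rfl

noncomputable instance modBqMq' (i : ℕ) : Module (Bq 𝒟 g c i) (Mq 𝒟 g x c (i + 1)) :=
  Module.compHom (Mq 𝒟 g x c (i + 1)) (algebraMap (Bq 𝒟 g c i) (Aq 𝒟 g x c (i + 1)))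

instance towerBqAqMq' (i : ℕ) :
    IsScalarTower (Bq 𝒟 g c i) (Aq 𝒟 g x c (i + 1)) (Mq 𝒟 g x c (i + 1)) :=
  IsScalarTower.of_algebraMap_smul (R := Bq 𝒟 g c i) (A := Aq 𝒟 g x c (i + 1))
    (M := Mq 𝒟 g x c (i + 1)) fun _ _ => rfl

/-- the maps from finite free modules of the shrunken dévissage. -/
noncomputable def αq (i : ℕ) : (Fin (𝒟.r i) → Bq 𝒟 g c i) →ₗ[Bq 𝒟 g c i] Mq 𝒟 g x c i :=
  Fintype.linearCombination (Bq 𝒟 g c i)
    (fun j => mkMq 𝒟 g x c i (mkMl 𝒟 g x c i (𝒟.α i (Pi.single j 1))))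

theorem αq_single (i : ℕ) (j : Fin (𝒟.r i)) :
    αq 𝒟 g x c i (Pi.single j 1) = mkMq 𝒟 g x c i (mkMl 𝒟 g x c i (𝒟.α i (Pi.single j 1))) := by
  rw [αq, Fintype.linearCombination_apply_single, one_smul]

end PQMod


section Lt

variable {R S : Type u} [CommRing R] [CommRing S] [Algebra R S] {N : Type u} [AddCommGroup N]
  [Module S N] {p : Ideal R} [p.IsPrime] (𝒟 : FlatCA.CompleteDevissage R S N p)
  (g : R) (x : S) (c : ∀ i, 𝒟.B i) {i : ℕ} (hi : i < 𝒟.n)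

/-- the `B i`-algebra structure on `Bq i` at a genuine step. -/
@[reducible] noncomputable def algBBq : Algebra (𝒟.B i) (Bq 𝒟 g c i) :=
  (((eBq g c hi).symm : Bl 𝒟 g c i →ₐ[Rl g] Bq 𝒟 g c i).toRingHom.comp
    (algebraMap (𝒟.B i) (Bl 𝒟 g c i))).toAlgebra

theorem eBq_algebraMap (b : 𝒟.B i) : letI := algBBq 𝒟 g c hi
    eBq g c hi (algebraMap (𝒟.B i) (Bq 𝒟 g c i) b) = algebraMap (𝒟.B i) (Bl 𝒟 g c i) b := by
  letI := algBBq 𝒟 g c hi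
  change eBq g c hi ((eBq g c hi).symm (algebraMap (𝒟.B i) (Bl 𝒟 g c i) b)) = _
  rw [AlgEquiv.apply_symm_apply]

theorem towerRBBq : letI := algBBq 𝒟 g c hi; IsScalarTower R (𝒟.B i) (Bq 𝒟 g c i) := by
  letI := algBBq 𝒟 g c hi
  refine IsScalarTower.of_algebraMap_eq (R := R) (S := 𝒟.B i) (A := Bq 𝒟 g c i) fun r => ?_
  apply (eBq g c hi).injective
  rw [eBq_algebraMap, IsScalarTower.algebraMap_apply R (Rl g) (Bq 𝒟 g c i), AlgEquiv.commutes,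
    ← IsScalarTower.algebraMap_apply R (Rl g) (Bl 𝒟 g c i),
    ← IsScalarTower.algebraMap_apply R (𝒟.B i) (Bl 𝒟 g c i)]

theorem isLocalization_Bq : letI := algBBq 𝒟 g c hi
    IsLocalization.Away (be 𝒟 g c i) (Bq 𝒟 g c i) := by
  letI := algBBq 𝒟 g c hi
  let e : Bl 𝒟 g c i ≃ₐ[𝒟.B i] Bq 𝒟 g c i :=
    AlgEquiv.ofRingEquiv (f := (eBq g c hi).symm.toRingEquiv) (fun _ => rfl)
  exact IsLocalization.isLocalization_of_algEquiv (Submonoid.powers (be 𝒟 g c i)) e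

/-- the `A i`-algebra structure on `Aq i` at a genuine step. -/
@[reducible] noncomputable def algAAq : Algebra (𝒟.A i) (Aq 𝒟 g x c i) :=
  (((eAq g x c hi).symm : Al 𝒟 g x c i →ₐ[Rl g] Aq 𝒟 g x c i).toRingHom.comp
    (algebraMap (𝒟.A i) (Al 𝒟 g x c i))).toAlgebra

theorem eAq_algebraMap (a : 𝒟.A i) : letI := algAAq 𝒟 g x c hi
    eAq g x c hi (algebraMap (𝒟.A i) (Aq 𝒟 g x c i) a) = algebraMap (𝒟.A i) (Al 𝒟 g x c i) a := by
  letI := algAAq 𝒟 g x c hi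
  change eAq g x c hi ((eAq g x c hi).symm (algebraMap (𝒟.A i) (Al 𝒟 g x c i) a)) = _
  rw [AlgEquiv.apply_symm_apply]

theorem towerRAAq : letI := algAAq 𝒟 g x c hi; IsScalarTower R (𝒟.A i) (Aq 𝒟 g x c i) := by
  letI := algAAq 𝒟 g x c hi
  refine IsScalarTower.of_algebraMap_eq (R := R) (S := 𝒟.A i) (A := Aq 𝒟 g x c i) fun r => ?_
  apply (eAq g x c hi).injective
  rw [eAq_algebraMap, IsScalarTower.algebraMap_apply R (Rl g) (Aq 𝒟 g x c i), AlgEquiv.commutes,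
    ← IsScalarTower.algebraMap_apply R (Rl g) (Al 𝒟 g x c i),
    ← IsScalarTower.algebraMap_apply R (𝒟.A i) (Al 𝒟 g x c i)]

theorem isLocalization_Aq : letI := algAAq 𝒟 g x c hi
    IsLocalization.Away (ae 𝒟 g x c i) (Aq 𝒟 g x c i) := by
  letI := algAAq 𝒟 g x c hi
  let e : Al 𝒟 g x c i ≃ₐ[𝒟.A i] Aq 𝒟 g x c i :=
    AlgEquiv.ofRingEquiv (f := (eAq g x c hi).symm.toRingEquiv) (fun _ => rfl)
  exact IsLocalization.isLocalization_of_algEquiv (Submonoid.powers (ae 𝒟 g x c i)) e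

/-- the `B i`-algebra structure on `Aq i` at a genuine step. -/
@[reducible] noncomputable def algBAq : Algebra (𝒟.B i) (Aq 𝒟 g x c i) :=
  letI := algAAq 𝒟 g x c hi
  ((algebraMap (𝒟.A i) (Aq 𝒟 g x c i)).comp (algebraMap (𝒟.B i) (𝒟.A i))).toAlgebra

theorem towerBAAq : letI := algAAq 𝒟 g x c hi; letI := algBAq 𝒟 g x c hi
    IsScalarTower (𝒟.B i) (𝒟.A i) (Aq 𝒟 g x c i) :=
  letI := algAAq 𝒟 g x c hi
  letI := algBAq 𝒟 g x c hi
  IsScalarTower.of_algebraMap_eq (R := 𝒟.B i) (S := 𝒟.A i) (A := Aq 𝒟 g x c i) fun _ => rfl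

theorem mapBqAq_apply (z : Bq 𝒟 g c i) :
    algebraMap (Bq 𝒟 g c i) (Aq 𝒟 g x c i) z =
      (eAq g x c hi).symm (algebraMap (Bl 𝒟 g c i) (Al 𝒟 g x c i) (eBq g c hi z)) := by
  change mapBqAq 𝒟 g x c i z = _
  rw [mapBqAq, dif_pos hi]
  rfl

theorem towerBBqAq : letI := algBBq 𝒟 g c hi; letI := algBAq 𝒟 g x c hi
    IsScalarTower (𝒟.B i) (Bq 𝒟 g c i) (Aq 𝒟 g x c i) := by
  letI := algBBq 𝒟 g c hi
  letI := algAAq 𝒟 g x c hi
  letI := algBAq 𝒟 g x c hi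
  refine IsScalarTower.of_algebraMap_eq (R := 𝒟.B i) (S := Bq 𝒟 g c i) (A := Aq 𝒟 g x c i)
    fun b => ?_
  rw [mapBqAq_apply 𝒟 g x c hi, eBq_algebraMap,
    ← IsScalarTower.algebraMap_apply (𝒟.B i) (Bl 𝒟 g c i) (Al 𝒟 g x c i),
    IsScalarTower.algebraMap_apply (𝒟.B i) (𝒟.A i) (Al 𝒟 g x c i)]
  rfl

/-- the `A i`-module structure on `Mq i` at a genuine step. -/
@[reducible] noncomputable def modAMq : Module (𝒟.A i) (Mq 𝒟 g x c i) :=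
  letI := algAAq 𝒟 g x c hi
  Module.compHom (Mq 𝒟 g x c i) (algebraMap (𝒟.A i) (Aq 𝒟 g x c i))

theorem towerAAqMq : letI := algAAq 𝒟 g x c hi; letI := modAMq 𝒟 g x c hi
    IsScalarTower (𝒟.A i) (Aq 𝒟 g x c i) (Mq 𝒟 g x c i) :=
  letI := algAAq 𝒟 g x c hi
  letI := modAMq 𝒟 g x c hi
  IsScalarTower.of_algebraMap_smul (R := 𝒟.A i) (A := Aq 𝒟 g x c i) (M := Mq 𝒟 g x c i)
    fun _ _ => rfl

theorem mkMq_smul (a : 𝒟.A i) (y : Ml 𝒟 g x c i) : letI := modAMq 𝒟 g x c hi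
    mkMq 𝒟 g x c i (a • y) = a • mkMq 𝒟 g x c i y := by
  letI := algAAq 𝒟 g x c hi
  letI := modAMq 𝒟 g x c hi
  change _ = algebraMap (𝒟.A i) (Aq 𝒟 g x c i) a • mkMq 𝒟 g x c i y
  rw [smul_mkMq 𝒟 g x c hi, eAq_algebraMap, algebraMap_smul]

/-- `Ml i ≅ Mq i` at a genuine step. -/
noncomputable def eMq : letI := modAMq 𝒟 g x c hi
    Ml 𝒟 g x c i ≃ₗ[𝒟.A i] Mq 𝒟 g x c i :=
  letI := modAMq 𝒟 g x c hi
  LinearEquiv.ofBijective
    { toFun := mkMq 𝒟 g x c i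
      map_add' := mkMq_add 𝒟 g x c i
      map_smul' := fun a y => mkMq_smul 𝒟 g x c hi a y } (bijective_mkMq 𝒟 g x c hi)

/-- the localization map `M i → Mq i` at a genuine step. -/
noncomputable def gMq : letI := modAMq 𝒟 g x c hi
    𝒟.M i →ₗ[𝒟.A i] Mq 𝒟 g x c i :=
  letI := modAMq 𝒟 g x c hi
  (eMq 𝒟 g x c hi).toLinearMap ∘ₗ mkMl 𝒟 g x c i

theorem gMq_apply (m : 𝒟.M i) :
    gMq 𝒟 g x c hi m = mkMq 𝒟 g x c i (mkMl 𝒟 g x c i m) := rfl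

theorem isLocalizedModule_gMq : letI := modAMq 𝒟 g x c hi
    IsLocalizedModule (Submonoid.powers (ae 𝒟 g x c i)) (gMq 𝒟 g x c hi) :=
  letI := modAMq 𝒟 g x c hi
  IsLocalizedModule.of_linearEquiv (Submonoid.powers (ae 𝒟 g x c i)) (mkMl 𝒟 g x c i)
    (eMq 𝒟 g x c hi)

end Lt


section HypSec

variable {R S : Type u} [CommRing R] [CommRing S] [Algebra R S] {N : Type u} [AddCommGroup N]
  [Module S N] {p : Ideal R} [p.IsPrime] {q : Ideal S} [q.IsPrime]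
  (𝒟 : FlatCA.CompleteDevissage R S N p) (𝒜 : FlatCA.CompleteDevissageAt R S N p q 𝒟)
  (g : R) (x : S) (c : ∀ i, 𝒟.B i)

theorem sim_mul {A : Type u} [CommRing A] {a y : A} (h : Sim a y) :
    Sim (a * y) a ∧ Sim (a * y) y := by
  obtain ⟨⟨k, hk⟩, ⟨m, hm⟩⟩ := h
  refine ⟨⟨⟨1, by rw [pow_one]; exact Dvd.intro _ rfl⟩, ⟨k + 1, ?_⟩⟩,
    ⟨⟨1, by rw [pow_one]; exact Dvd.intro_left _ rfl⟩, ⟨m + 1, ?_⟩⟩⟩
  · rw [pow_succ, mul_comm (a ^ k) a]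
    exact mul_dvd_mul_left a hk
  · rw [pow_succ]
    exact mul_dvd_mul_right hm y

/-- admissible shrinking data. -/
structure Hyp : Prop where
  hg : g ∉ p
  hXq : hXe g x ∉ q
  hb : ∀ i, be 𝒟 g c i ∉ 𝒜.qB i
  hsim : ∀ i, i < 𝒟.n → Sim (algebraMap (𝒟.B i) (𝒟.A i) (be 𝒟 g c i)) (reste 𝒟 g x c i)
  hsurj : ∀ i, i < 𝒟.n → ∀ P : Ideal R, P.IsPrime → g ∉ P →
    ∃ Q : Ideal (𝒟.B i), Q.IsPrime ∧ be 𝒟 g c i ∉ Q ∧ Q.comap (algebraMap R (𝒟.B i)) = P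

variable {𝒟 𝒜 g x c} (H : Hyp 𝒟 𝒜 g x c) {i : ℕ} (hi : i < 𝒟.n)

include H in
theorem isPrime_p' : (p.map (algebraMap R (Rl g))).IsPrime := isPrime_map_away g p H.hg

include H in
theorem isLocalization_Aq_be : letI := algAAq 𝒟 g x c hi
    IsLocalization.Away (algebraMap (𝒟.B i) (𝒟.A i) (be 𝒟 g c i)) (Aq 𝒟 g x c i) := by
  letI := algAAq 𝒟 g x c hi
  haveI := isLocalization_Aq 𝒟 g x c hi
  exact away_of_sim (ae 𝒟 g x c i) _ (sim_mul (H.hsim i hi)).1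

include H in
theorem isLocalization_Aq_reste : letI := algAAq 𝒟 g x c hi
    IsLocalization.Away (reste 𝒟 g x c i) (Aq 𝒟 g x c i) := by
  letI := algAAq 𝒟 g x c hi
  haveI := isLocalization_Aq 𝒟 g x c hi
  exact away_of_sim (ae 𝒟 g x c i) _ (sim_mul (H.hsim i hi)).2

include H hi in
theorem smoothBq : Algebra.Smooth (Rl g) (Bq 𝒟 g c i) := by
  letI := algBBq 𝒟 g c hi
  haveI := towerRBBq 𝒟 g c hi
  haveI := isLocalization_Bq 𝒟 g c hi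
  haveI := 𝒟.smooth i hi
  exact smooth_away g (be 𝒟 g c i)

include H hi in
theorem geomIrredBq : FlatCA.GeomIrredFibres (Rl g) (Bq 𝒟 g c i) := by
  letI := algBBq 𝒟 g c hi
  haveI := towerRBBq 𝒟 g c hi
  haveI := isLocalization_Bq 𝒟 g c hi
  exact geomIrredFibres_of_isLocalization g (be 𝒟 g c i)
    (surjective_comap_of_forall g (be 𝒟 g c i) (H.hsurj i hi)) (𝒟.geomIrred i hi)

include H hi in
theorem relDimBq : FlatCA.SmoothRelDim (𝒜.d i) (Rl g) (Bq 𝒟 g c i) := by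
  letI := algBBq 𝒟 g c hi
  haveI := towerRBBq 𝒟 g c hi
  haveI := isLocalization_Bq 𝒟 g c hi
  exact smoothRelDim_of_isLocalization_base (Submonoid.powers g) (𝒜.d i)
    (smoothRelDim_of_isLocalization_away (be 𝒟 g c i) (𝒜.d i) (𝒜.relDim i hi))

include H in
theorem isPrimeBq (j : ℕ) :
    ((p.map (algebraMap R (Rl g))).map (algebraMap (Rl g) (Bq 𝒟 g c j))).IsPrime := by
  haveI := isPrime_p' H
  by_cases hj : j < 𝒟.n
  · haveI := smoothBq H hj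
    exact isPrime_map_of_smooth_geomIrred (geomIrredBq H hj) _
  · have h : (p.map (algebraMap R (Rl g))).map (algebraMap (Rl g) (Bq 𝒟 g c j)) =
        (p.map (algebraMap R (Rl g))).comap
          ((eBq' g c hj : Bq 𝒟 g c j →ₐ[Rl g] Rl g) : Bq 𝒟 g c j →+* Rl g) := by
      have h1 : algebraMap (Rl g) (Bq 𝒟 g c j) =
          (((eBq' g c hj).symm : Rl g →ₐ[Rl g] Bq 𝒟 g c j) : Rl g →+* Bq 𝒟 g c j) := by
        ext r
        exact ((eBq' g c hj).symm.commutes r).symm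
      rw [h1]
      exact Ideal.map_symm (eBq' g c hj).toRingEquiv
    rw [h]
    exact Ideal.comap_isPrime _ _

end HypSec


section HypA

variable {R S : Type u} [CommRing R] [CommRing S] [Algebra R S] {N : Type u} [AddCommGroup N]
  [Module S N] {p : Ideal R} [p.IsPrime] {q : Ideal S} [q.IsPrime]
  {𝒟 : FlatCA.CompleteDevissage R S N p} {𝒜 : FlatCA.CompleteDevissageAt R S N p q 𝒟}
  {g : R} {x : S} {c : ∀ i, 𝒟.B i} (H : Hyp 𝒟 𝒜 g x c) {i : ℕ} (hi : i < 𝒟.n)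

include H in
theorem pushoutBAq : letI := algBBq 𝒟 g c hi; letI := algAAq 𝒟 g x c hi
    letI := algBAq 𝒟 g x c hi; haveI := towerBAAq 𝒟 g x c hi; haveI := towerBBqAq 𝒟 g x c hi
    Algebra.IsPushout (𝒟.B i) (Bq 𝒟 g c i) (𝒟.A i) (Aq 𝒟 g x c i) := by
  letI := algBBq 𝒟 g c hi
  letI := algAAq 𝒟 g x c hi
  letI := algBAq 𝒟 g x c hi
  haveI := towerBAAq 𝒟 g x c hi
  haveI := towerBBqAq 𝒟 g x c hi
  haveI := isLocalization_Bq 𝒟 g c hi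
  haveI := isLocalization_Aq_be H hi
  exact isPushout_away (be 𝒟 g c i)

include H hi in
theorem finiteBqAq : Module.Finite (Bq 𝒟 g c i) (Aq 𝒟 g x c i) := by
  letI := algBBq 𝒟 g c hi
  letI := algAAq 𝒟 g x c hi
  letI := algBAq 𝒟 g x c hi
  haveI := towerBAAq 𝒟 g x c hi
  haveI := towerBBqAq 𝒟 g x c hi
  haveI := 𝒟.finiteBA i hi
  exact finite_of_isPushout (pushoutBAq H hi)

include hi in
theorem finiteAqMq : Module.Finite (Aq 𝒟 g x c i) (Mq 𝒟 g x c i) := by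
  letI := algAAq 𝒟 g x c hi
  letI := modAMq 𝒟 g x c hi
  haveI := towerAAqMq 𝒟 g x c hi
  haveI := isLocalization_Aq 𝒟 g x c hi
  haveI := isLocalizedModule_gMq 𝒟 g x c hi
  haveI := 𝒟.finiteM i hi
  exact Module.Finite.of_isLocalizedModule (Submonoid.powers (ae 𝒟 g x c i)) (gMq 𝒟 g x c hi)

end HypA


section HypNext

variable {R S : Type u} [CommRing R] [CommRing S] [Algebra R S] {N : Type u} [AddCommGroup N]
  [Module S N] {p : Ideal R} [p.IsPrime] {q : Ideal S} [q.IsPrime]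
  {𝒟 : FlatCA.CompleteDevissage R S N p} {𝒜 : FlatCA.CompleteDevissageAt R S N p q 𝒟}
  {g : R} {x : S} {c : ∀ i, 𝒟.B i} (H : Hyp 𝒟 𝒜 g x c) {i : ℕ} (h : i + 1 < 𝒟.n)

variable (𝒟 g x c) in
/-- the `B i`-algebra structure on `Aq (i + 1)` at a genuine step. -/
@[reducible] noncomputable def algBAq' : Algebra (𝒟.B i) (Aq 𝒟 g x c (i + 1)) :=
  letI := algAAq 𝒟 g x c h
  ((algebraMap (𝒟.A (i + 1)) (Aq 𝒟 g x c (i + 1))).comp
    (algebraMap (𝒟.B i) (𝒟.A (i + 1)))).toAlgebra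

variable (𝒟 g x c) in
theorem towerBAAq' : letI := algAAq 𝒟 g x c h; letI := algBAq' 𝒟 g x c h
    IsScalarTower (𝒟.B i) (𝒟.A (i + 1)) (Aq 𝒟 g x c (i + 1)) :=
  letI := algAAq 𝒟 g x c h
  letI := algBAq' 𝒟 g x c h
  IsScalarTower.of_algebraMap_eq (R := 𝒟.B i) (S := 𝒟.A (i + 1)) (A := Aq 𝒟 g x c (i + 1))
    fun _ => rfl

variable (𝒟 g x c) in
theorem mapBqAq'_apply (z : Bq 𝒟 g c i) :
    algebraMap (Bq 𝒟 g c i) (Aq 𝒟 g x c (i + 1)) z =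
      (eAq g x c h).symm (algebraMap (Bl 𝒟 g c i) (Al 𝒟 g x c (i + 1))
        (eBq g c (Nat.lt_of_succ_lt h) z)) := by
  change mapBqAq' 𝒟 g x c i z = _
  rw [mapBqAq', dif_pos h]
  rfl

variable (𝒟 g x c) in
theorem towerBBqAq' : letI := algBBq 𝒟 g c (Nat.lt_of_succ_lt h); letI := algBAq' 𝒟 g x c h
    IsScalarTower (𝒟.B i) (Bq 𝒟 g c i) (Aq 𝒟 g x c (i + 1)) := by
  letI := algBBq 𝒟 g c (Nat.lt_of_succ_lt h)
  letI := algAAq 𝒟 g x c h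
  letI := algBAq' 𝒟 g x c h
  refine IsScalarTower.of_algebraMap_eq (R := 𝒟.B i) (S := Bq 𝒟 g c i)
    (A := Aq 𝒟 g x c (i + 1)) fun b => ?_
  rw [mapBqAq'_apply 𝒟 g x c h, eBq_algebraMap,
    ← IsScalarTower.algebraMap_apply (𝒟.B i) (Bl 𝒟 g c i) (Al 𝒟 g x c (i + 1)),
    IsScalarTower.algebraMap_apply (𝒟.B i) (𝒟.A (i + 1)) (Al 𝒟 g x c (i + 1))]
  rfl

include H in
theorem pushoutBAq' : letI := algBBq 𝒟 g c (Nat.lt_of_succ_lt h); letI := algAAq 𝒟 g x c h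
    letI := algBAq' 𝒟 g x c h; haveI := towerBAAq' 𝒟 g x c h; haveI := towerBBqAq' 𝒟 g x c h
    Algebra.IsPushout (𝒟.B i) (Bq 𝒟 g c i) (𝒟.A (i + 1)) (Aq 𝒟 g x c (i + 1)) := by
  letI := algBBq 𝒟 g c (Nat.lt_of_succ_lt h)
  letI := algAAq 𝒟 g x c h
  letI := algBAq' 𝒟 g x c h
  haveI := towerBAAq' 𝒟 g x c h
  haveI := towerBBqAq' 𝒟 g x c h
  haveI := isLocalization_Bq 𝒟 g c (Nat.lt_of_succ_lt h)
  haveI : IsLocalization.Away (algebraMap (𝒟.B i) (𝒟.A (i + 1)) (be 𝒟 g c i))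
      (Aq 𝒟 g x c (i + 1)) := isLocalization_Aq_reste H h
  exact isPushout_away (be 𝒟 g c i)

include H h in
theorem surjBqAq' : Function.Surjective (algebraMap (Bq 𝒟 g c i) (Aq 𝒟 g x c (i + 1))) := by
  letI := algBBq 𝒟 g c (Nat.lt_of_succ_lt h)
  letI := algAAq 𝒟 g x c h
  letI := algBAq' 𝒟 g x c h
  haveI := towerBAAq' 𝒟 g x c h
  haveI := towerBBqAq' 𝒟 g x c h
  exact surjective_of_isPushout (pushoutBAq' H h) (𝒟.surjBA' i h)

include H h in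
theorem fpBqAq' : Algebra.FinitePresentation (Bq 𝒟 g c i) (Aq 𝒟 g x c (i + 1)) := by
  letI := algBBq 𝒟 g c (Nat.lt_of_succ_lt h)
  letI := algAAq 𝒟 g x c h
  letI := algBAq' 𝒟 g x c h
  haveI := towerBAAq' 𝒟 g x c h
  haveI := towerBBqAq' 𝒟 g x c h
  haveI := 𝒟.fpBA' i h
  exact finitePresentation_of_isPushout (pushoutBAq' H h)

end HypNext

section HypS

variable {R S : Type u} [CommRing R] [CommRing S] [Algebra R S] {N : Type u} [AddCommGroup N]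
  [Module S N] {p : Ideal R} [p.IsPrime] {q : Ideal S} [q.IsPrime]
  {𝒟 : FlatCA.CompleteDevissage R S N p} {𝒜 : FlatCA.CompleteDevissageAt R S N p q 𝒟}
  {g : R} {x : S} {c : ∀ i, 𝒟.B i} (H : Hyp 𝒟 𝒜 g x c)

variable (𝒟 g x c) in
/-- the `S`-algebra structure on `Aq 0`. -/
@[reducible] noncomputable def algSAq : Algebra S (Aq 𝒟 g x c 0) :=
  letI := algAAq 𝒟 g x c 𝒟.pos
  ((algebraMap (𝒟.A 0) (Aq 𝒟 g x c 0)).comp (algebraMap S (𝒟.A 0))).toAlgebra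

variable (𝒟 g x c) in
theorem towerSAAq : letI := algAAq 𝒟 g x c 𝒟.pos; letI := algSAq 𝒟 g x c
    IsScalarTower S (𝒟.A 0) (Aq 𝒟 g x c 0) :=
  letI := algAAq 𝒟 g x c 𝒟.pos
  letI := algSAq 𝒟 g x c
  IsScalarTower.of_algebraMap_eq (R := S) (S := 𝒟.A 0) (A := Aq 𝒟 g x c 0) fun _ => rfl

variable (𝒟 g x c) in
theorem towerSSlAq : letI := algSAq 𝒟 g x c
    IsScalarTower S (Sl g x) (Aq 𝒟 g x c 0) := by
  letI := algAAq 𝒟 g x c 𝒟.pos
  letI := algSAq 𝒟 g x c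
  refine IsScalarTower.of_algebraMap_eq (R := S) (S := Sl g x) (A := Aq 𝒟 g x c 0) fun s => ?_
  change _ = (eAq g x c 𝒟.pos).symm (algebraMap (Sl g x) (Al 𝒟 g x c 0) (algebraMap S (Sl g x) s))
  rw [← IsScalarTower.algebraMap_apply S (Sl g x) (Al 𝒟 g x c 0),
    IsScalarTower.algebraMap_apply S (𝒟.A 0) (Al 𝒟 g x c 0)]
  rfl

include H in
theorem pushoutSAq : letI := algAAq 𝒟 g x c 𝒟.pos; letI := algSAq 𝒟 g x c
    haveI := towerSAAq 𝒟 g x c; haveI := towerSSlAq 𝒟 g x c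
    Algebra.IsPushout S (Sl g x) (𝒟.A 0) (Aq 𝒟 g x c 0) := by
  letI := algAAq 𝒟 g x c 𝒟.pos
  letI := algSAq 𝒟 g x c
  haveI := towerSAAq 𝒟 g x c
  haveI := towerSSlAq 𝒟 g x c
  haveI : IsLocalization.Away (algebraMap S (𝒟.A 0) (hXe g x)) (Aq 𝒟 g x c 0) :=
    isLocalization_Aq_reste H 𝒟.pos
  exact isPushout_away (hXe g x)

include H in
theorem surjSlAq : Function.Surjective (algebraMap (Sl g x) (Aq 𝒟 g x c 0)) := by
  letI := algAAq 𝒟 g x c 𝒟.pos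
  letI := algSAq 𝒟 g x c
  haveI := towerSAAq 𝒟 g x c
  haveI := towerSSlAq 𝒟 g x c
  exact surjective_of_isPushout (pushoutSAq H) 𝒟.surjSA

include H in
theorem fpSlAq : Algebra.FinitePresentation (Sl g x) (Aq 𝒟 g x c 0) := by
  letI := algAAq 𝒟 g x c 𝒟.pos
  letI := algSAq 𝒟 g x c
  haveI := towerSAAq 𝒟 g x c
  haveI := towerSSlAq 𝒟 g x c
  haveI := 𝒟.fpSA
  exact finitePresentation_of_isPushout (pushoutSAq H)

end HypS


section HypMod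

variable {R S : Type u} [CommRing R] [CommRing S] [Algebra R S] {N : Type u} [AddCommGroup N]
  [Module S N] {p : Ideal R} [p.IsPrime] {q : Ideal S} [q.IsPrime]
  {𝒟 : FlatCA.CompleteDevissage R S N p} {𝒜 : FlatCA.CompleteDevissageAt R S N p q 𝒟}
  {g : R} {x : S} {c : ∀ i, 𝒟.B i} (H : Hyp 𝒟 𝒜 g x c) {i : ℕ} (hi : i < 𝒟.n)

variable (𝒟 g x c) in
/-- the `B i`-module structure on `Mq i` at a genuine step. -/
@[reducible] noncomputable def modBMq : Module (𝒟.B i) (Mq 𝒟 g x c i) :=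
  letI := modAMq 𝒟 g x c hi
  Module.compHom (Mq 𝒟 g x c i) (algebraMap (𝒟.B i) (𝒟.A i))

variable (𝒟 g x c) in
theorem towerBAMq : letI := modAMq 𝒟 g x c hi; letI := modBMq 𝒟 g x c hi
    IsScalarTower (𝒟.B i) (𝒟.A i) (Mq 𝒟 g x c i) :=
  letI := modAMq 𝒟 g x c hi
  letI := modBMq 𝒟 g x c hi
  IsScalarTower.of_algebraMap_smul (R := 𝒟.B i) (A := 𝒟.A i) (M := Mq 𝒟 g x c i) fun _ _ => rfl

variable (𝒟 g x c) in
theorem towerBBqMq : letI := algBBq 𝒟 g c hi; letI := modBMq 𝒟 g x c hi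
    IsScalarTower (𝒟.B i) (Bq 𝒟 g c i) (Mq 𝒟 g x c i) := by
  letI := algBBq 𝒟 g c hi
  letI := algAAq 𝒟 g x c hi
  letI := algBAq 𝒟 g x c hi
  letI := modAMq 𝒟 g x c hi
  letI := modBMq 𝒟 g x c hi
  haveI := towerBBqAq 𝒟 g x c hi
  haveI := towerBAAq 𝒟 g x c hi
  refine IsScalarTower.of_algebraMap_smul (R := 𝒟.B i) (A := Bq 𝒟 g c i) (M := Mq 𝒟 g x c i)
    fun b y => ?_
  change algebraMap (Bq 𝒟 g c i) (Aq 𝒟 g x c i) (algebraMap (𝒟.B i) (Bq 𝒟 g c i) b) • y =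
    algebraMap (𝒟.A i) (Aq 𝒟 g x c i) (algebraMap (𝒟.B i) (𝒟.A i) b) • y
  rw [← IsScalarTower.algebraMap_apply (𝒟.B i) (Bq 𝒟 g c i) (Aq 𝒟 g x c i),
    ← IsScalarTower.algebraMap_apply (𝒟.B i) (𝒟.A i) (Aq 𝒟 g x c i)]

include H in
theorem isBaseChange_gBq : letI := algBBq 𝒟 g c hi; letI := modAMq 𝒟 g x c hi
    letI := modBMq 𝒟 g x c hi; haveI := towerBAMq 𝒟 g x c hi; haveI := towerBBqMq 𝒟 g x c hi
    IsBaseChange (Bq 𝒟 g c i) ((gMq 𝒟 g x c hi).restrictScalars (𝒟.B i)) := by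
  letI := algBBq 𝒟 g c hi
  letI := algAAq 𝒟 g x c hi
  letI := algBAq 𝒟 g x c hi
  letI := modAMq 𝒟 g x c hi
  letI := modBMq 𝒟 g x c hi
  haveI := towerBBqAq 𝒟 g x c hi
  haveI := towerBAAq 𝒟 g x c hi
  haveI := towerBAMq 𝒟 g x c hi
  haveI := towerBBqMq 𝒟 g x c hi
  haveI := towerAAqMq 𝒟 g x c hi
  haveI := isLocalization_Aq 𝒟 g x c hi
  haveI := isLocalizedModule_gMq 𝒟 g x c hi
  haveI := pushoutBAq H hi
  have hg : IsBaseChange (Aq 𝒟 g x c i) (gMq 𝒟 g x c hi) :=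
    IsLocalizedModule.isBaseChange (Submonoid.powers (ae 𝒟 g x c i)) (Aq 𝒟 g x c i)
      (gMq 𝒟 g x c hi)
  exact Groth.Agent.Lib.Helper3.FlatLoc.isBaseChange_restrictScalars_of_isPushout
    (A := 𝒟.B i) (R := Bq 𝒟 g c i) (PA := 𝒟.A i) (PR := Aq 𝒟 g x c i) (X := 𝒟.M i)
    (Y := Mq 𝒟 g x c i) (gMq 𝒟 g x c hi) hg

include hi in
theorem range_αq : LinearMap.range (αq 𝒟 g x c i) =
    Submodule.span (Bq 𝒟 g c i)
      ((gMq 𝒟 g x c hi) '' (LinearMap.range (𝒟.α i) : Set (𝒟.M i))) := by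
  letI := algBBq 𝒟 g c hi
  letI := modAMq 𝒟 g x c hi
  letI := modBMq 𝒟 g x c hi
  haveI := towerBAMq 𝒟 g x c hi
  haveI := towerBBqMq 𝒟 g x c hi
  exact range_step (𝒟.r i) (𝒟.α i) (αq 𝒟 g x c i) ((gMq 𝒟 g x c hi).restrictScalars (𝒟.B i))
    (αq_single 𝒟 g x c i)

include H hi in
theorem fibreIso_q : haveI := isPrimeBq H i
    Function.Bijective ((αq 𝒟 g x c i).baseChange
      ((p.map (algebraMap R (Rl g))).map (algebraMap (Rl g) (Bq 𝒟 g c i))).ResidueField) := by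
  haveI := isPrimeBq H i
  letI := algBBq 𝒟 g c hi
  letI := modAMq 𝒟 g x c hi
  letI := modBMq 𝒟 g x c hi
  haveI := towerBAMq 𝒟 g x c hi
  haveI := towerBBqMq 𝒟 g x c hi
  haveI := towerRBBq 𝒟 g c hi
  haveI := isLocalization_Bq 𝒟 g c hi
  have hle : p.map (algebraMap R (𝒟.B i)) ≤ 𝒜.qB i := by
    rw [Ideal.map_le_iff_le_comap, ← Ideal.under_def, ← (𝒜.overB i).over]
  have hb : be 𝒟 g c i ∉ p.map (algebraMap R (𝒟.B i)) := fun hmem => H.hb i (hle hmem)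
  have hP := map_eq_comap_map_away (R := R) (Rg := Rl g) (B := 𝒟.B i) (B' := Bq 𝒟 g c i)
    (be 𝒟 g c i) p hb
  exact fibreIso_step (p.map (algebraMap R (𝒟.B i)))
    ((p.map (algebraMap R (Rl g))).map (algebraMap (Rl g) (Bq 𝒟 g c i))) hP
    (𝒟.r i) (𝒟.α i) (αq 𝒟 g x c i) ((gMq 𝒟 g x c hi).restrictScalars (𝒟.B i))
    (isBaseChange_gBq H hi) (αq_single 𝒟 g x c i) (𝒟.fibreIso i hi)

include H in
theorem cokerLast_q : Function.Surjective (αq 𝒟 g x c (𝒟.n - 1)) := by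
  have hi : 𝒟.n - 1 < 𝒟.n := by have := 𝒟.pos; omega
  letI := algBBq 𝒟 g c hi
  letI := modAMq 𝒟 g x c hi
  letI := modBMq 𝒟 g x c hi
  haveI := towerBAMq 𝒟 g x c hi
  haveI := towerBBqMq 𝒟 g x c hi
  exact surjective_step (𝒟.r (𝒟.n - 1)) (𝒟.α (𝒟.n - 1)) (αq 𝒟 g x c (𝒟.n - 1))
    ((gMq 𝒟 g x c hi).restrictScalars (𝒟.B (𝒟.n - 1))) (isBaseChange_gBq H hi)
    (αq_single 𝒟 g x c (𝒟.n - 1)) 𝒟.cokerLast

end HypMod


section HypCoker

variable {R S : Type u} [CommRing R] [CommRing S] [Algebra R S] {N : Type u} [AddCommGroup N]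
  [Module S N] {p : Ideal R} [p.IsPrime] {q : Ideal S} [q.IsPrime]
  {𝒟 : FlatCA.CompleteDevissage R S N p} {𝒜 : FlatCA.CompleteDevissageAt R S N p q 𝒟}
  {g : R} {x : S} {c : ∀ i, 𝒟.B i} (H : Hyp 𝒟 𝒜 g x c) {i : ℕ} (h : i + 1 < 𝒟.n)

variable (𝒟 g x c) in
/-- the `B i`-module structure on `Mq (i + 1)` at a genuine step. -/
@[reducible] noncomputable def modBMq' : Module (𝒟.B i) (Mq 𝒟 g x c (i + 1)) :=
  letI := modAMq 𝒟 g x c h
  Module.compHom (Mq 𝒟 g x c (i + 1)) (algebraMap (𝒟.B i) (𝒟.A (i + 1)))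

variable (𝒟 g x c) in
theorem towerBAMq' : letI := modAMq 𝒟 g x c h; letI := modBMq' 𝒟 g x c h
    IsScalarTower (𝒟.B i) (𝒟.A (i + 1)) (Mq 𝒟 g x c (i + 1)) :=
  letI := modAMq 𝒟 g x c h
  letI := modBMq' 𝒟 g x c h
  IsScalarTower.of_algebraMap_smul (R := 𝒟.B i) (A := 𝒟.A (i + 1)) (M := Mq 𝒟 g x c (i + 1))
    fun _ _ => rfl

variable (𝒟 g x c) in
theorem towerBBqMq' : letI := algBBq 𝒟 g c (Nat.lt_of_succ_lt h); letI := modBMq' 𝒟 g x c h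
    IsScalarTower (𝒟.B i) (Bq 𝒟 g c i) (Mq 𝒟 g x c (i + 1)) := by
  letI := algBBq 𝒟 g c (Nat.lt_of_succ_lt h)
  letI := algAAq 𝒟 g x c h
  letI := algBAq' 𝒟 g x c h
  letI := modAMq 𝒟 g x c h
  letI := modBMq' 𝒟 g x c h
  haveI := towerBBqAq' 𝒟 g x c h
  haveI := towerBAAq' 𝒟 g x c h
  refine IsScalarTower.of_algebraMap_smul (R := 𝒟.B i) (A := Bq 𝒟 g c i)
    (M := Mq 𝒟 g x c (i + 1)) fun b y => ?_
  change algebraMap (Bq 𝒟 g c i) (Aq 𝒟 g x c (i + 1)) (algebraMap (𝒟.B i) (Bq 𝒟 g c i) b) • y =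
    algebraMap (𝒟.A (i + 1)) (Aq 𝒟 g x c (i + 1)) (algebraMap (𝒟.B i) (𝒟.A (i + 1)) b) • y
  rw [← IsScalarTower.algebraMap_apply (𝒟.B i) (Bq 𝒟 g c i) (Aq 𝒟 g x c (i + 1)),
    ← IsScalarTower.algebraMap_apply (𝒟.B i) (𝒟.A (i + 1)) (Aq 𝒟 g x c (i + 1))]

include H in
theorem isBaseChange_gBq' : letI := algBBq 𝒟 g c (Nat.lt_of_succ_lt h)
    letI := modAMq 𝒟 g x c h
    letI := modBMq' 𝒟 g x c h; haveI := towerBAMq' 𝒟 g x c h; haveI := towerBBqMq' 𝒟 g x c h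
    IsBaseChange (Bq 𝒟 g c i) ((gMq 𝒟 g x c h).restrictScalars (𝒟.B i)) := by
  letI := algBBq 𝒟 g c (Nat.lt_of_succ_lt h)
  letI := algAAq 𝒟 g x c h
  letI := algBAq' 𝒟 g x c h
  letI := modAMq 𝒟 g x c h
  letI := modBMq' 𝒟 g x c h
  haveI := towerBBqAq' 𝒟 g x c h
  haveI := towerBAAq' 𝒟 g x c h
  haveI := towerBAMq' 𝒟 g x c h
  haveI := towerBBqMq' 𝒟 g x c h
  haveI := towerAAqMq 𝒟 g x c h
  haveI := isLocalization_Aq 𝒟 g x c h
  haveI := isLocalizedModule_gMq 𝒟 g x c h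
  haveI := pushoutBAq' H h
  have hg : IsBaseChange (Aq 𝒟 g x c (i + 1)) (gMq 𝒟 g x c h) :=
    IsLocalizedModule.isBaseChange (Submonoid.powers (ae 𝒟 g x c (i + 1))) (Aq 𝒟 g x c (i + 1))
      (gMq 𝒟 g x c h)
  exact Groth.Agent.Lib.Helper3.FlatLoc.isBaseChange_restrictScalars_of_isPushout
    (A := 𝒟.B i) (R := Bq 𝒟 g c i) (PA := 𝒟.A (i + 1)) (PR := Aq 𝒟 g x c (i + 1))
    (X := 𝒟.M (i + 1)) (Y := Mq 𝒟 g x c (i + 1)) (gMq 𝒟 g x c h) hg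

include H h in
theorem isoCoker_q :
    Nonempty ((Mq 𝒟 g x c i ⧸ LinearMap.range (αq 𝒟 g x c i)) ≃ₗ[Bq 𝒟 g c i]
      Mq 𝒟 g x c (i + 1)) := by
  have hi : i < 𝒟.n := Nat.lt_of_succ_lt h
  letI := algBBq 𝒟 g c hi
  letI := modAMq 𝒟 g x c hi
  letI := modBMq 𝒟 g x c hi
  haveI := towerBAMq 𝒟 g x c hi
  haveI := towerBBqMq 𝒟 g x c hi
  letI := modAMq 𝒟 g x c h
  letI := modBMq' 𝒟 g x c h
  haveI := towerBAMq' 𝒟 g x c h
  haveI := towerBBqMq' 𝒟 g x c h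
  obtain ⟨e⟩ := isoCoker_step ((gMq 𝒟 g x c hi).restrictScalars (𝒟.B i)) (isBaseChange_gBq H hi)
    ((gMq 𝒟 g x c h).restrictScalars (𝒟.B i)) (isBaseChange_gBq' H h)
    (LinearMap.range (𝒟.α i)) (𝒟.isoCoker i h)
  exact ⟨(Submodule.quotEquivOfEq _ _ (range_αq hi)) ≪≫ₗ e⟩

end HypCoker

section HypN

variable {R S : Type u} [CommRing R] [CommRing S] [Algebra R S] {N : Type u} [AddCommGroup N]
  [Module S N] {p : Ideal R} [p.IsPrime] {q : Ideal S} [q.IsPrime]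
  {𝒟 : FlatCA.CompleteDevissage R S N p} {𝒜 : FlatCA.CompleteDevissageAt R S N p q 𝒟}
  {g : R} {x : S} {c : ∀ i, 𝒟.B i} (H : Hyp 𝒟 𝒜 g x c)

/-- the localized module `N[1/hX]`. -/
def Nl (N : Type u) [AddCommGroup N] [Module S N] (g : R) (x : S) : Type u :=
  LocalizedModule (Submonoid.powers (hXe g x)) N

noncomputable instance : AddCommGroup (Nl N g x) :=
  inferInstanceAs (AddCommGroup (LocalizedModule (Submonoid.powers (hXe g x)) N))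
noncomputable instance : Module S (Nl N g x) :=
  inferInstanceAs (Module S (LocalizedModule (Submonoid.powers (hXe g x)) N))
noncomputable instance : Module (Sl g x) (Nl N g x) :=
  inferInstanceAs (Module (Localization.Away (hXe g x))
    (LocalizedModule (Submonoid.powers (hXe g x)) N))
instance : IsScalarTower S (Sl g x) (Nl N g x) :=
  inferInstanceAs (IsScalarTower S (Localization.Away (hXe g x))
    (LocalizedModule (Submonoid.powers (hXe g x)) N))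

/-- the localization map of `N`. -/
noncomputable def mkNl (N : Type u) [AddCommGroup N] [Module S N] (g : R) (x : S) :
    N →ₗ[S] Nl N g x :=
  LocalizedModule.mkLinearMap (Submonoid.powers (hXe g x)) N

instance : IsLocalizedModule (Submonoid.powers (hXe g x)) (mkNl N g x) :=
  inferInstanceAs (IsLocalizedModule (Submonoid.powers (hXe g x))
    (LocalizedModule.mkLinearMap (Submonoid.powers (hXe g x)) N))

include H in
theorem exists_isoN_q :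
    ∃ e' : Nl N g x ≃ₗ[Sl g x] Mq 𝒟 g x c 0,
      ∀ y, e' (mkNl N g x y) = gMq 𝒟 g x c 𝒟.pos (𝒟.isoN y) := by
  letI := algAAq 𝒟 g x c 𝒟.pos
  letI := algSAq 𝒟 g x c
  letI := modAMq 𝒟 g x c 𝒟.pos
  haveI := towerSAAq 𝒟 g x c
  haveI := towerSSlAq 𝒟 g x c
  haveI := towerAAqMq 𝒟 g x c 𝒟.pos
  haveI := isLocalization_Aq 𝒟 g x c 𝒟.pos
  haveI := isLocalizedModule_gMq 𝒟 g x c 𝒟.pos
  have hf : IsBaseChange (Sl g x) (mkNl N g x) :=
    IsLocalizedModule.isBaseChange (Submonoid.powers (hXe g x)) (Sl g x) (mkNl N g x)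
  have hg : IsBaseChange (Aq 𝒟 g x c 0) (gMq 𝒟 g x c 𝒟.pos) :=
    IsLocalizedModule.isBaseChange (Submonoid.powers (ae 𝒟 g x c 0)) (Aq 𝒟 g x c 0)
      (gMq 𝒟 g x c 𝒟.pos)
  exact isoN_step 𝒟.isoN (pushoutSAq H) (mkNl N g x) hf (gMq 𝒟 g x c 𝒟.pos) hg

end HypN

end Groth.Agent.Lib.T2H2.ShrinkC
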