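import Groth.Agent.Lib.T2H2ShrinkC2

/-!
# Standard shrinking of a complete dévissage: the structures (helper2)

`shrinkDev H`: the shrunken complete dévissage; `shrinkAt H`: it is a complete dévissage at the
extended point; together with the structure maps used to state that its pieces are localizations.
-/

set_option autoImplicit false
set_option linter.style.haveILetI false
set_option linter.unusedSectionVars false
universe u
open TensorProduct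

namespace Groth.Agent.Lib.T2H2.ShrinkC

open Groth.Agent.Lib.T2H2.Shrink Groth.Agent.Lib.T2H2.DevBCX

attribute [local instance] Algebra.TensorProduct.rightAlgebra

section Struct

variable {R S : Type u} [CommRing R] [CommRing S] [Algebra R S] {N : Type u} [AddCommGroup N]
  [Module S N] {p : Ideal R} [p.IsPrime] {q : Ideal S} [q.IsPrime]
  {𝒟 : FlatCA.CompleteDevissage R S N p} {𝒜 : FlatCA.CompleteDevissageAt R S N p q 𝒟}
  {g : R} {x : S} {c : ∀ i, 𝒟.B i} (H : Hyp 𝒟 𝒜 g x c)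

/-- the shrunken complete dévissage. -/
noncomputable def shrinkDev :
    @FlatCA.CompleteDevissage (Rl g) (Sl g x) _ _ _ (Nl N g x) _ _
      (p.map (algebraMap R (Rl g))) (isPrime_p' H) :=
  haveI := isPrime_p' H
  { n := 𝒟.n
    pos := 𝒟.pos
    A := Aq 𝒟 g x c
    B := Bq 𝒟 g c
    M := Mq 𝒟 g x c
    r := 𝒟.r
    cA := fun _ => inferInstance
    cB := fun _ => inferInstance
    aRA := fun _ => inferInstance
    aRB := fun _ => inferInstance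
    aBA := fun i => algBqAq 𝒟 g x c i
    tRBA := fun i => towerRlBqAq 𝒟 g x c i
    aSA := algSlAq 𝒟 g x c
    tRSA := towerRlSlAq 𝒟 g x c
    aBA' := fun i => algBqAq' 𝒟 g x c i
    tRBA' := fun i => towerRlBqAq' 𝒟 g x c i
    gM := fun _ => inferInstance
    mAM := fun i => modAqMq 𝒟 g x c i
    mBM := fun i => modBqMq 𝒟 g x c i
    tBAM := fun i => towerBqAqMq 𝒟 g x c i
    mRM := fun i => modRlMq 𝒟 g x c i
    tRBM := fun i => towerRlBqMq 𝒟 g x c i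
    mSM := modSlMq 𝒟 g x c
    tSAM := towerSlAqMq 𝒟 g x c
    mB'M := fun i => modBqMq' 𝒟 g x c i
    tB'AM := fun i => towerBqAqMq' 𝒟 g x c i
    hp := fun i => isPrimeBq H i
    α := αq 𝒟 g x c
    surjSA := surjSlAq H
    fpSA := fpSlAq H
    surjBA' := fun _ h => surjBqAq' H h
    fpBA' := fun _ h => fpBqAq' H h
    finiteBA := fun _ h => finiteBqAq H h
    smooth := fun _ h => smoothBq H h
    geomIrred := fun _ h => geomIrredBq H h
    finiteM := fun _ h => finiteAqMq h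
    isoN := Classical.choose (exists_isoN_q H)
    isoCoker := fun _ h => (isoCoker_q H h).some
    fibreIso := fun _ h => fibreIso_q H h
    cokerLast := cokerLast_q H }

theorem shrinkDev_isoN (y : N) : haveI := isPrime_p' H
    (shrinkDev H).isoN (mkNl N g x y) = gMq 𝒟 g x c 𝒟.pos (𝒟.isoN y) :=
  Classical.choose_spec (exists_isoN_q H) y

end Struct


section Primes

variable {R S : Type u} [CommRing R] [CommRing S] [Algebra R S] {N : Type u} [AddCommGroup N]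
  [Module S N] {p : Ideal R} [p.IsPrime] {q : Ideal S} [q.IsPrime]
  (𝒟 : FlatCA.CompleteDevissage R S N p) (𝒜 : FlatCA.CompleteDevissageAt R S N p q 𝒟)
  (g : R) (x : S) (c : ∀ i, 𝒟.B i)

/-- the points of the smooth algebras of the shrunken dévissage. -/
noncomputable def qBq (i : ℕ) : Ideal (Bq 𝒟 g c i) :=
  if h : i < 𝒟.n then
    letI := algBBq 𝒟 g c h
    (𝒜.qB i).map (algebraMap (𝒟.B i) (Bq 𝒟 g c i))
  else (p.map (algebraMap R (Rl g))).comap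
    ((eBq' g c h : Bq 𝒟 g c i →ₐ[Rl g] Rl g) : Bq 𝒟 g c i →+* Rl g)

/-- the points of the rings carrying the modules of the shrunken dévissage. -/
noncomputable def qAq (i : ℕ) : Ideal (Aq 𝒟 g x c i) :=
  if h : i < 𝒟.n then
    letI := algAAq 𝒟 g x c h
    (𝒜.qA i).map (algebraMap (𝒟.A i) (Aq 𝒟 g x c i))
  else ((𝒜.qB (i - 1)).map (algebraMap (𝒟.B (i - 1)) (Bl 𝒟 g c (i - 1)))).comap
    ((eAq' g x c h : Aq 𝒟 g x c i →ₐ[Rl g] Bl 𝒟 g c (i - 1)) : Aq 𝒟 g x c i →+* Bl 𝒟 g c (i - 1))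

variable {𝒟 g x c}

theorem qBq_pos {i : ℕ} (h : i < 𝒟.n) : letI := algBBq 𝒟 g c h
    qBq 𝒟 𝒜 g c i = (𝒜.qB i).map (algebraMap (𝒟.B i) (Bq 𝒟 g c i)) := dif_pos h

theorem qAq_pos {i : ℕ} (h : i < 𝒟.n) : letI := algAAq 𝒟 g x c h
    qAq 𝒟 𝒜 g x c i = (𝒜.qA i).map (algebraMap (𝒟.A i) (Aq 𝒟 g x c i)) := dif_pos h

variable {𝒜} (H : Hyp 𝒟 𝒜 g x c)

include H in
theorem be_map_notMem (i : ℕ) : algebraMap (𝒟.B i) (𝒟.A i) (be 𝒟 g c i) ∉ 𝒜.qA i := by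
  intro hmem
  apply H.hb i
  rw [(𝒜.overA i).over]
  exact hmem

include H in
theorem reste_notMem {i : ℕ} (hi : i < 𝒟.n) : reste 𝒟 g x c i ∉ 𝒜.qA i := by
  cases i with
  | zero =>
    intro hmem
    apply H.hXq
    rw [← 𝒜.q0]
    exact hmem
  | succ j =>
    intro hmem
    apply H.hb j
    rw [← 𝒜.qStep j hi]
    exact hmem

include H in
theorem ae_notMem {i : ℕ} (hi : i < 𝒟.n) : ae 𝒟 g x c i ∉ 𝒜.qA i := by
  intro hmem
  rcases (𝒜.hqA i).mem_or_mem hmem with h | h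
  · exact be_map_notMem H i h
  · exact reste_notMem H hi h

include H in
theorem isPrime_qBq (i : ℕ) : (qBq 𝒟 𝒜 g c i).IsPrime := by
  haveI := isPrime_p' H
  by_cases h : i < 𝒟.n
  · letI := algBBq 𝒟 g c h
    haveI := isLocalization_Bq 𝒟 g c h
    haveI := 𝒜.hqB i
    rw [qBq_pos 𝒜 h]
    exact isPrime_map_away (be 𝒟 g c i) (𝒜.qB i) (H.hb i)
  · rw [qBq, dif_neg h]
    exact Ideal.comap_isPrime _ _

include H in
theorem isPrime_qAq (i : ℕ) : (qAq 𝒟 𝒜 g x c i).IsPrime := by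
  by_cases h : i < 𝒟.n
  · letI := algAAq 𝒟 g x c h
    haveI := isLocalization_Aq 𝒟 g x c h
    haveI := 𝒜.hqA i
    rw [qAq_pos 𝒜 h]
    exact isPrime_map_away (ae 𝒟 g x c i) (𝒜.qA i) (ae_notMem H h)
  · rw [qAq, dif_neg h]
    haveI := 𝒜.hqB (i - 1)
    haveI : ((𝒜.qB (i - 1)).map (algebraMap (𝒟.B (i - 1)) (Bl 𝒟 g c (i - 1)))).IsPrime :=
      isPrime_map_away (be 𝒟 g c (i - 1)) (𝒜.qB (i - 1)) (H.hb (i - 1))
    exact Ideal.comap_isPrime _ _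

end Primes


section Over

variable {R S : Type u} [CommRing R] [CommRing S] [Algebra R S] {N : Type u} [AddCommGroup N]
  [Module S N] {p : Ideal R} [p.IsPrime] {q : Ideal S} [q.IsPrime]
  {𝒟 : FlatCA.CompleteDevissage R S N p} {𝒜 : FlatCA.CompleteDevissageAt R S N p q 𝒟}
  {g : R} {x : S} {c : ∀ i, 𝒟.B i} (H : Hyp 𝒟 𝒜 g x c)

include H in
theorem liesOver_Bl (j : ℕ) :
    ((𝒜.qB j).map (algebraMap (𝒟.B j) (Bl 𝒟 g c j))).LiesOver (p.map (algebraMap R (Rl g))) := by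
  haveI := 𝒜.hqB j
  haveI := 𝒜.overB j
  exact liesOver_map_away g (be 𝒟 g c j) p (𝒜.qB j) (H.hb j)

include H in
theorem overB_q (i : ℕ) : (qBq 𝒟 𝒜 g c i).LiesOver (p.map (algebraMap R (Rl g))) := by
  by_cases h : i < 𝒟.n
  · letI := algBBq 𝒟 g c h
    haveI := towerRBBq 𝒟 g c h
    haveI := isLocalization_Bq 𝒟 g c h
    haveI := 𝒜.hqB i
    haveI := 𝒜.overB i
    rw [qBq_pos 𝒜 h]
    exact liesOver_map_away g (be 𝒟 g c i) p (𝒜.qB i) (H.hb i)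
  · refine ⟨?_⟩
    rw [qBq, dif_neg h, Ideal.under_def, Ideal.comap_comap]
    have : ((eBq' g c h : Bq 𝒟 g c i →ₐ[Rl g] Rl g) : Bq 𝒟 g c i →+* Rl g).comp
        (algebraMap (Rl g) (Bq 𝒟 g c i)) = RingHom.id (Rl g) := by
      ext r
      exact (eBq' g c h).commutes r
    rw [this, Ideal.comap_id]

include H in
theorem overA_q (i : ℕ) : (qAq 𝒟 𝒜 g x c i).LiesOver (qBq 𝒟 𝒜 g c i) := by
  by_cases h : i < 𝒟.n
  · letI := algBBq 𝒟 g c h
    letI := algAAq 𝒟 g x c h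
    letI := algBAq 𝒟 g x c h
    haveI := towerBAAq 𝒟 g x c h
    haveI := towerBBqAq 𝒟 g x c h
    haveI := isLocalization_Bq 𝒟 g c h
    haveI := isLocalization_Aq 𝒟 g x c h
    haveI := 𝒜.hqA i
    haveI := 𝒜.overA i
    rw [qBq_pos 𝒜 h, qAq_pos 𝒜 h]
    exact liesOver_map_away (be 𝒟 g c i) (ae 𝒟 g x c i) (𝒜.qB i) (𝒜.qA i) (ae_notMem H h)
  · refine ⟨?_⟩
    rw [qBq, dif_neg h, qAq, dif_neg h, Ideal.under_def, Ideal.comap_comap]
    have hcomp : ((eAq' g x c h : Aq 𝒟 g x c i →ₐ[Rl g] Bl 𝒟 g c (i - 1)) :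
        Aq 𝒟 g x c i →+* Bl 𝒟 g c (i - 1)).comp (algebraMap (Bq 𝒟 g c i) (Aq 𝒟 g x c i)) =
        (algebraMap (Rl g) (Bl 𝒟 g c (i - 1))).comp
          ((eBq' g c h : Bq 𝒟 g c i →ₐ[Rl g] Rl g) : Bq 𝒟 g c i →+* Rl g) := by
      ext z
      change eAq' g x c h (mapBqAq 𝒟 g x c i z) = _
      rw [mapBqAq, dif_neg h]
      exact (eAq' g x c h).commutes _
    rw [hcomp, ← Ideal.comap_comap]
    congr 1
    exact (liesOver_Bl H (i - 1)).over

end Over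


section AtProps

variable {R S : Type u} [CommRing R] [CommRing S] [Algebra R S] {N : Type u} [AddCommGroup N]
  [Module S N] {p : Ideal R} [p.IsPrime] {q : Ideal S} [q.IsPrime]
  {𝒟 : FlatCA.CompleteDevissage R S N p} {𝒜 : FlatCA.CompleteDevissageAt R S N p q 𝒟}
  {g : R} {x : S} {c : ∀ i, 𝒟.B i} (H : Hyp 𝒟 𝒜 g x c)

include H in
theorem liesOver_qBq_qB {i : ℕ} (hi : i < 𝒟.n) : letI := algBBq 𝒟 g c hi
    (qBq 𝒟 𝒜 g c i).LiesOver (𝒜.qB i) := by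
  letI := algBBq 𝒟 g c hi
  haveI := isLocalization_Bq 𝒟 g c hi
  haveI := 𝒜.hqB i
  rw [qBq_pos 𝒜 hi]
  exact ⟨(comap_map_away (be 𝒟 g c i) (𝒜.qB i) (H.hb i)).symm⟩

include H in
theorem liesOver_qAq_qA {i : ℕ} (hi : i < 𝒟.n) : letI := algAAq 𝒟 g x c hi
    (qAq 𝒟 𝒜 g x c i).LiesOver (𝒜.qA i) := by
  letI := algAAq 𝒟 g x c hi
  haveI := isLocalization_Aq 𝒟 g x c hi
  haveI := 𝒜.hqA i
  rw [qAq_pos 𝒜 hi]
  exact ⟨(comap_map_away (ae 𝒟 g x c i) (𝒜.qA i) (ae_notMem H hi)).symm⟩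

include H in
theorem pureTrans_q {i : ℕ} (hi : i < 𝒟.n) : haveI := isPrime_p' H
    haveI := isPrime_qBq H i; haveI := overB_q H i
    FlatCA.PurelyTranscendental (p.map (algebraMap R (Rl g))) (qBq 𝒟 𝒜 g c i) := by
  haveI := isPrime_p' H
  haveI := isPrime_qBq H i
  haveI := overB_q H i
  letI := algBBq 𝒟 g c hi
  haveI := towerRBBq 𝒟 g c hi
  haveI := isLocalization_Bq 𝒟 g c hi
  haveI := 𝒜.hqB i
  haveI := 𝒜.overB i
  haveI := liesOver_qBq_qB H hi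
  haveI hpp' : (p.map (algebraMap R (Rl g))).LiesOver p := ⟨(comap_map_away g p H.hg).symm⟩
  exact purelyTranscendental_of_isLocalization (Submonoid.powers g)
    (Submonoid.powers (be 𝒟 g c i)) p (p.map (algebraMap R (Rl g))) (𝒜.qB i) (qBq 𝒟 𝒜 g c i)
    (𝒜.pureTrans i hi)

include H in
theorem uniq_q {i : ℕ} (hi : i < 𝒟.n) (Q : Ideal (Aq 𝒟 g x c i)) (hQp : Q.IsPrime)
    (hQ : Q.LiesOver (qBq 𝒟 𝒜 g c i)) : Q = qAq 𝒟 𝒜 g x c i := by
  haveI := hQp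
  letI := algBBq 𝒟 g c hi
  letI := algAAq 𝒟 g x c hi
  letI := algBAq 𝒟 g x c hi
  haveI := towerBAAq 𝒟 g x c hi
  haveI := towerBBqAq 𝒟 g x c hi
  haveI := isLocalization_Bq 𝒟 g c hi
  haveI := isLocalization_Aq 𝒟 g x c hi
  haveI := 𝒜.hqB i
  rw [qAq_pos 𝒜 hi]
  rw [qBq_pos 𝒜 hi] at hQ
  exact unique_prime_away (be 𝒟 g c i) (ae 𝒟 g x c i) (𝒜.qB i) (H.hb i) (𝒜.qA i)
    (fun z₁ _ hz₁ => 𝒜.uniq i hi z₁ hz₁) Q hQ

include H in
theorem q0_q : (qAq 𝒟 𝒜 g x c 0).comap (algebraMap (Sl g x) (Aq 𝒟 g x c 0)) =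
    q.map (algebraMap S (Sl g x)) := by
  letI := algAAq 𝒟 g x c 𝒟.pos
  letI := algSAq 𝒟 g x c
  haveI := towerSAAq 𝒟 g x c
  haveI := towerSSlAq 𝒟 g x c
  haveI := isLocalization_Aq 𝒟 g x c 𝒟.pos
  haveI := 𝒜.hqA 0
  apply eq_map_of_comap_eq (hXe g x)
  rw [Ideal.comap_comap, ← IsScalarTower.algebraMap_eq S (Sl g x) (Aq 𝒟 g x c 0),
    IsScalarTower.algebraMap_eq S (𝒟.A 0) (Aq 𝒟 g x c 0), ← Ideal.comap_comap, qAq_pos 𝒜 𝒟.pos,
    comap_map_away (ae 𝒟 g x c 0) (𝒜.qA 0) (ae_notMem H 𝒟.pos)]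
  exact 𝒜.q0

include H in
theorem qStep_q {i : ℕ} (h : i + 1 < 𝒟.n) :
    (qAq 𝒟 𝒜 g x c (i + 1)).comap (algebraMap (Bq 𝒟 g c i) (Aq 𝒟 g x c (i + 1))) =
      qBq 𝒟 𝒜 g c i := by
  have hi : i < 𝒟.n := Nat.lt_of_succ_lt h
  letI := algBBq 𝒟 g c hi
  letI := algAAq 𝒟 g x c h
  letI := algBAq' 𝒟 g x c h
  haveI := towerBAAq' 𝒟 g x c h
  haveI := towerBBqAq' 𝒟 g x c h
  haveI := isLocalization_Bq 𝒟 g c hi
  haveI := isLocalization_Aq 𝒟 g x c h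
  haveI := 𝒜.hqA (i + 1)
  rw [qBq_pos 𝒜 hi]
  apply eq_map_of_comap_eq (be 𝒟 g c i)
  rw [Ideal.comap_comap, ← IsScalarTower.algebraMap_eq (𝒟.B i) (Bq 𝒟 g c i) (Aq 𝒟 g x c (i + 1)),
    IsScalarTower.algebraMap_eq (𝒟.B i) (𝒟.A (i + 1)) (Aq 𝒟 g x c (i + 1)), ← Ideal.comap_comap,
    qAq_pos 𝒜 h, comap_map_away (ae 𝒟 g x c (i + 1)) (𝒜.qA (i + 1)) (ae_notMem H h)]
  exact 𝒜.qStep i h

include H in
theorem locDim_q {i : ℕ} (hi : i < 𝒟.n) : haveI := isPrime_p' H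
    haveI := isPrime_qBq H i; haveI := overB_q H i
    ∃ (ξ : PrimeSpectrum ((p.map (algebraMap R (Rl g))).Fiber (Bq 𝒟 g c i)))
      (hξ : ξ ∈ Module.support ((p.map (algebraMap R (Rl g))).Fiber (Bq 𝒟 g c i))
        (FlatCA.fiberMod (p.map (algebraMap R (Rl g))) (Bq 𝒟 g c i) (Mq 𝒟 g x c i))),
      ξ.asIdeal = FlatCA.fiberIdeal (p.map (algebraMap R (Rl g))) (qBq 𝒟 𝒜 g c i) ∧
      FlatMor.localDim (Module.support ((p.map (algebraMap R (Rl g))).Fiber (Bq 𝒟 g c i))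
        (FlatCA.fiberMod (p.map (algebraMap R (Rl g))) (Bq 𝒟 g c i) (Mq 𝒟 g x c i)))
          ⟨ξ, hξ⟩ = 𝒜.d i := by
  haveI := isPrime_p' H
  haveI := isPrime_qBq H i
  haveI := overB_q H i
  letI := algBBq 𝒟 g c hi
  letI := modAMq 𝒟 g x c hi
  letI := modBMq 𝒟 g x c hi
  haveI := towerBAMq 𝒟 g x c hi
  haveI := towerBBqMq 𝒟 g x c hi
  haveI := towerRBBq 𝒟 g c hi
  haveI := isLocalization_Bq 𝒟 g c hi
  haveI := 𝒜.hqB i
  haveI := 𝒜.overB i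
  haveI hpp' : (p.map (algebraMap R (Rl g))).LiesOver p := ⟨(comap_map_away g p H.hg).symm⟩
  haveI := 𝒟.finiteBA i hi
  haveI := 𝒟.finiteM i hi
  haveI : Module.Finite (𝒟.B i) (𝒟.M i) := Module.Finite.trans (𝒟.A i) (𝒟.M i)
  exact localDim_away g (be 𝒟 g c i) p (p.map (algebraMap R (Rl g))) (𝒟.M i) (Mq 𝒟 g x c i)
    ((gMq 𝒟 g x c hi).restrictScalars (𝒟.B i)) (isBaseChange_gBq H hi) (𝒜.qB i) (H.hb i)
    (qBq 𝒟 𝒜 g c i) (qBq_pos 𝒜 hi) (𝒜.d i) (𝒜.locDim i hi)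

end AtProps


section AtStruct

variable {R S : Type u} [CommRing R] [CommRing S] [Algebra R S] {N : Type u} [AddCommGroup N]
  [Module S N] {p : Ideal R} [p.IsPrime] {q : Ideal S} [q.IsPrime]
  {𝒟 : FlatCA.CompleteDevissage R S N p} {𝒜 : FlatCA.CompleteDevissageAt R S N p q 𝒟}
  {g : R} {x : S} {c : ∀ i, 𝒟.B i} (H : Hyp 𝒟 𝒜 g x c)

include H in
theorem isPrime_q' : (q.map (algebraMap S (Sl g x))).IsPrime :=
  isPrime_map_away (hXe g x) q H.hXq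

/-- the shrunken complete dévissage is a complete dévissage at the extended point. -/
noncomputable def shrinkAt :
    @FlatCA.CompleteDevissageAt (Rl g) (Sl g x) _ _ _ (Nl N g x) _ _
      (p.map (algebraMap R (Rl g))) (isPrime_p' H) (q.map (algebraMap S (Sl g x))) (isPrime_q' H)
      (shrinkDev H) :=
  haveI := isPrime_p' H
  haveI := isPrime_q' H
  { qB := qBq 𝒟 𝒜 g c
    qA := qAq 𝒟 𝒜 g x c
    hqB := isPrime_qBq H
    hqA := isPrime_qAq H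
    overB := overB_q H
    overA := overA_q H
    pureTrans := fun _ hi => pureTrans_q H hi
    uniq := fun _ hi Q hQp hQ => uniq_q H hi Q hQp hQ
    q0 := q0_q H
    qStep := fun _ h => qStep_q H h
    d := 𝒜.d
    relDim := fun _ hi => relDimBq H hi
    locDim := fun _ hi => locDim_q H hi }

end AtStruct


section Extra

variable {R S : Type u} [CommRing R] [CommRing S] [Algebra R S] {N : Type u} [AddCommGroup N]
  [Module S N] {p : Ideal R} [p.IsPrime] {q : Ideal S} [q.IsPrime]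
  (𝒟 : FlatCA.CompleteDevissage R S N p) (g : R) (x : S) (c : ∀ i, 𝒟.B i)

/-- the `Rl`-module structure on `N[1/hX]`. -/
@[reducible] noncomputable def modRlNl : Module (Rl g) (Nl N g x) :=
  Module.compHom (Nl N g x) (algebraMap (Rl g) (Sl g x))

theorem towerRlSlNl : letI := modRlNl (N := N) g x
    IsScalarTower (Rl g) (Sl g x) (Nl N g x) :=
  letI := modRlNl (N := N) g x
  IsScalarTower.of_algebraMap_smul (R := Rl g) (A := Sl g x) (M := Nl N g x) fun _ _ => rfl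

variable {i : ℕ} (hi : i < 𝒟.n)

/-- the `B i`-algebra structure on `Aq (i + 1)` through `Bq i`, at a genuine step `i`. -/
@[reducible] noncomputable def algBAq'' : Algebra (𝒟.B i) (Aq 𝒟 g x c (i + 1)) :=
  letI := algBBq 𝒟 g c hi
  ((algebraMap (Bq 𝒟 g c i) (Aq 𝒟 g x c (i + 1))).comp
    (algebraMap (𝒟.B i) (Bq 𝒟 g c i))).toAlgebra

theorem towerBBqAq'' : letI := algBBq 𝒟 g c hi; letI := algBAq'' 𝒟 g x c hi
    IsScalarTower (𝒟.B i) (Bq 𝒟 g c i) (Aq 𝒟 g x c (i + 1)) :=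
  letI := algBBq 𝒟 g c hi
  letI := algBAq'' 𝒟 g x c hi
  IsScalarTower.of_algebraMap_eq (R := 𝒟.B i) (S := Bq 𝒟 g c i) (A := Aq 𝒟 g x c (i + 1))
    fun _ => rfl

theorem towerBAAq'' (h : i + 1 < 𝒟.n) : letI := algAAq 𝒟 g x c h
    letI := algBAq'' 𝒟 g x c (Nat.lt_of_succ_lt h)
    IsScalarTower (𝒟.B i) (𝒟.A (i + 1)) (Aq 𝒟 g x c (i + 1)) := by
  letI := algBBq 𝒟 g c (Nat.lt_of_succ_lt h)
  letI := algAAq 𝒟 g x c h
  have h1 := towerBBqAq' 𝒟 g x c h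
  have h2 := towerBAAq' 𝒟 g x c h
  letI := algBAq'' 𝒟 g x c (Nat.lt_of_succ_lt h)
  refine IsScalarTower.of_algebraMap_eq (R := 𝒟.B i) (S := 𝒟.A (i + 1))
    (A := Aq 𝒟 g x c (i + 1)) fun b => ?_
  change algebraMap (Bq 𝒟 g c i) (Aq 𝒟 g x c (i + 1)) (algebraMap (𝒟.B i) (Bq 𝒟 g c i) b) = _
  letI := algBAq' 𝒟 g x c h
  rw [← @IsScalarTower.algebraMap_apply (𝒟.B i) (Bq 𝒟 g c i) (Aq 𝒟 g x c (i + 1)) _ _ _ _ _ _ h1,
    @IsScalarTower.algebraMap_apply (𝒟.B i) (𝒟.A (i + 1)) (Aq 𝒟 g x c (i + 1)) _ _ _ _ _ _ h2]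

end Extra

end Groth.Agent.Lib.T2H2.ShrinkC
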