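import Groth.Agent.Lib.T2H2ShrinkC3

/-!
# Standard shrinking of a complete dévissage: choice of the elements (helper2)

`exists_pre`: bottom-up choice of the elements of the smooth algebras; `exists_hyp`: the shrinking
data; `exists_topdown`: elements dominating a given element of `S`.
-/

set_option autoImplicit false
set_option linter.style.haveILetI false
set_option linter.unusedSectionVars false
universe u
open TensorProduct

namespace Groth.Agent.Lib.T2H2.ShrinkC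

open Groth.Agent.Lib.T2H2.Shrink Groth.Agent.Lib.T2H2.DevBCX Groth.Agent.Lib.T2H2.Shrink2

section Select

variable {R S : Type u} [CommRing R] [CommRing S] [Algebra R S] {N : Type u} [AddCommGroup N]
  [Module S N] {p : Ideal R} [p.IsPrime] {q : Ideal S} [q.IsPrime]
  (𝒟 : FlatCA.CompleteDevissage R S N p) (𝒜 : FlatCA.CompleteDevissageAt R S N p q 𝒟)

theorem sim_of_mul {A : Type u} [CommRing A] {a t : A} (h : t ∣ a) : Sim a (t * a) := by
  refine ⟨⟨2, ?_⟩, ⟨1, ?_⟩⟩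
  · rw [pow_two]
    exact mul_dvd_mul_right h a
  · rw [pow_one]
    exact Dvd.intro_left t rfl

/-- the bottom-up choice of elements of the `B i`. -/
theorem exists_pre (e : ∀ i, 𝒟.B i) (he : ∀ i, i < 𝒟.n → e i ∉ 𝒜.qB i) :
    ∀ k m : ℕ, m + k = 𝒟.n - 1 → ∃ cp : ∀ i, 𝒟.B i, cp (𝒟.n - 1) = e (𝒟.n - 1) ∧
      (∀ i, m ≤ i → i < 𝒟.n → cp i ∉ 𝒜.qB i ∧ e i ∣ cp i) ∧
      (∀ i, m ≤ i → i + 1 < 𝒟.n → algebraMap (𝒟.B i) (𝒟.A (i + 1)) (cp i) =
        algebraMap (𝒟.B i) (𝒟.A (i + 1)) (e i) *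
          algebraMap (𝒟.B (i + 1)) (𝒟.A (i + 1)) (cp (i + 1))) := by
  have hpos := 𝒟.pos
  intro k
  induction k with
  | zero =>
    intro m hm
    refine ⟨e, rfl, fun i hmi hi => ?_, fun i hmi hi => ?_⟩
    · exact ⟨he i hi, dvd_rfl⟩
    · omega
  | succ k ih =>
    intro m hm
    obtain ⟨cp, h1, h2, h3⟩ := ih (m + 1) (by omega)
    have hm1 : m + 1 < 𝒟.n := by omega
    have hm0 : m < 𝒟.n := by omega
    obtain ⟨l, hl⟩ := 𝒟.surjBA' m hm1 (algebraMap (𝒟.B (m + 1)) (𝒟.A (m + 1)) (cp (m + 1)))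
    have hcpm1 := (h2 (m + 1) le_rfl hm1).1
    have hl_notMem : l ∉ 𝒜.qB m := by
      rw [← 𝒜.qStep m hm1, Ideal.mem_comap, hl]
      intro hmem
      apply hcpm1
      rw [(𝒜.overA (m + 1)).over]
      exact hmem
    refine ⟨Function.update cp m (e m * l), ?_, fun i hmi hi => ?_, fun i hmi hi => ?_⟩
    · rw [Function.update_of_ne (by omega)]
      exact h1
    · by_cases him : i = m
      · subst him
        rw [Function.update_self]
        refine ⟨fun hmem => ?_, Dvd.intro _ rfl⟩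
        rcases (𝒜.hqB i).mem_or_mem hmem with h | h
        · exact he i hi h
        · exact hl_notMem h
      · rw [Function.update_of_ne him]
        exact h2 i (by omega) hi
    · by_cases him : i = m
      · subst him
        rw [Function.update_self, Function.update_of_ne (by omega), map_mul, hl]
      · rw [Function.update_of_ne him, Function.update_of_ne (by omega)]
        exact h3 i (by omega) hi

theorem algebraMap_g_notMem_qB (g : R) (hg : g ∉ p) (i : ℕ) :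
    algebraMap R (𝒟.B i) g ∉ 𝒜.qB i := by
  intro hmem
  apply hg
  rw [(𝒜.overB i).over]
  exact hmem

include 𝒜 in
theorem algebraMap_g_notMem_q (g : R) (hg : g ∉ p) : algebraMap R S g ∉ q := by
  intro hmem
  rw [← 𝒜.q0, Ideal.mem_comap, ← IsScalarTower.algebraMap_apply R S (𝒟.A 0),
    IsScalarTower.algebraMap_apply R (𝒟.B 0) (𝒟.A 0)] at hmem
  apply algebraMap_g_notMem_qB 𝒟 𝒜 g hg 0
  rw [(𝒜.overA 0).over]
  exact hmem

/-- the choice of shrinking data. -/
theorem exists_hyp (u : S) (hu : u ∉ q) (e : ∀ i, 𝒟.B i) (he : ∀ i, i < 𝒟.n → e i ∉ 𝒜.qB i)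
    (h0 : algebraMap S (𝒟.A 0) u ∣ algebraMap (𝒟.B 0) (𝒟.A 0) (e 0))
    (hstep : ∀ i, i + 1 < 𝒟.n → algebraMap (𝒟.B i) (𝒟.A (i + 1)) (e i) ∣
      algebraMap (𝒟.B (i + 1)) (𝒟.A (i + 1)) (e (i + 1))) :
    ∃ (g : R) (x : S) (c : ∀ i, 𝒟.B i), Hyp 𝒟 𝒜 g x c ∧ u ∣ hXe g x ∧
      c (𝒟.n - 1) = e (𝒟.n - 1) := by
  have hpos := 𝒟.pos
  obtain ⟨cp, hcp1, hcp2, hcp3⟩ := exists_pre 𝒟 𝒜 e he (𝒟.n - 1) 0 (by omega)
  obtain ⟨l, hl⟩ := 𝒟.surjSA (algebraMap (𝒟.B 0) (𝒟.A 0) (cp 0))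
  have hg_ex : ∀ i : Fin 𝒟.n, ∃ gi : R, gi ∉ p ∧ ∀ P : Ideal R, P.IsPrime → gi ∉ P →
      ∃ Q : Ideal (𝒟.B i), Q.IsPrime ∧ cp i ∉ Q ∧ Q.comap (algebraMap R (𝒟.B i)) = P := by
    intro i
    haveI := 𝒜.hqB i
    haveI := 𝒜.overB i
    exact exists_basicOpen_subset_image (𝒜.d i) R (𝒟.B i) (𝒜.relDim i i.2) p (𝒜.qB i) (cp i)
      (hcp2 i (Nat.zero_le _) i.2).1
  choose gi hgi1 hgi2 using hg_ex
  let g : R := ∏ i, gi i
  have hg : g ∉ p := by
    intro hmem
    obtain ⟨i, -, hi⟩ := (Ideal.IsPrime.prod_mem_iff).mp hmem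
    exact hgi1 i hi
  let c : ∀ i, 𝒟.B i := fun i => if i < 𝒟.n then cp i else 1
  have hc : ∀ i, i < 𝒟.n → c i = cp i := fun i hi => if_pos hi
  have hc' : ∀ i, ¬ i < 𝒟.n → c i = 1 := fun i hi => if_neg hi
  have hbe : ∀ i, i < 𝒟.n → be 𝒟 g c i = cp i * algebraMap R (𝒟.B i) g := fun i hi => by
    rw [be, hc i hi]
  -- `l ∉ q`
  have hl_notMem : l ∉ q := by
    rw [← 𝒜.q0, Ideal.mem_comap, hl]
    intro hmem
    apply (hcp2 0 le_rfl hpos).1
    rw [(𝒜.overA 0).over]
    exact hmem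
  refine ⟨g, u * l, c, ⟨hg, ?_, ?_, ?_, ?_⟩, ?_, ?_⟩
  · -- `hXe ∉ q`
    intro hmem
    rcases (inferInstance : q.IsPrime).mem_or_mem hmem with h | h
    · rcases (inferInstance : q.IsPrime).mem_or_mem h with h | h
      · exact hu h
      · exact hl_notMem h
    · exact algebraMap_g_notMem_q 𝒟 𝒜 g hg h
  · -- `be i ∉ qB i`
    intro i hmem
    rcases (𝒜.hqB i).mem_or_mem hmem with h | h
    · by_cases hi : i < 𝒟.n
      · rw [hc i hi] at h
        exact (hcp2 i (Nat.zero_le _) hi).1 h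
      · rw [hc' i hi] at h
        exact (𝒜.hqB i).ne_top ((Ideal.eq_top_iff_one _).mpr h)
    · exact algebraMap_g_notMem_qB 𝒟 𝒜 g hg i h
  · -- `hsim`
    intro i hi
    cases i with
    | zero =>
      have h1 : reste 𝒟 g (u * l) c 0 = algebraMap S (𝒟.A 0) u *
          algebraMap (𝒟.B 0) (𝒟.A 0) (be 𝒟 g c 0) := by
        change algebraMap S (𝒟.A 0) (u * l * algebraMap R S g) = _
        rw [hbe 0 hi, map_mul, map_mul, map_mul, hl,
          ← IsScalarTower.algebraMap_apply R S (𝒟.A 0),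
          ← IsScalarTower.algebraMap_apply R (𝒟.B 0) (𝒟.A 0)]
        ring
      rw [h1]
      apply sim_of_mul
      refine h0.trans ((map_dvd _ (hcp2 0 le_rfl hi).2).trans (map_dvd _ ?_))
      rw [hbe 0 hi]
      exact Dvd.intro _ rfl
    | succ j =>
      have hj : j < 𝒟.n := Nat.lt_of_succ_lt hi
      have h1 : reste 𝒟 g (u * l) c (j + 1) = algebraMap (𝒟.B j) (𝒟.A (j + 1)) (e j) *
          algebraMap (𝒟.B (j + 1)) (𝒟.A (j + 1)) (be 𝒟 g c (j + 1)) := by
        change algebraMap (𝒟.B j) (𝒟.A (j + 1)) (be 𝒟 g c j) = _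
        rw [hbe j hj, hbe (j + 1) hi, map_mul, map_mul, hcp3 j (Nat.zero_le _) hi,
          ← IsScalarTower.algebraMap_apply R (𝒟.B j) (𝒟.A (j + 1)),
          ← IsScalarTower.algebraMap_apply R (𝒟.B (j + 1)) (𝒟.A (j + 1))]
        ring
      rw [h1]
      apply sim_of_mul
      refine (hstep j hi).trans ((map_dvd _ (hcp2 (j + 1) (Nat.zero_le _) hi).2).trans
        (map_dvd _ ?_))
      rw [hbe (j + 1) hi]
      exact Dvd.intro _ rfl
  · -- `hsurj`
    intro i hi P hP hgP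
    have hgiP : gi ⟨i, hi⟩ ∉ P := by
      intro hmem
      apply hgP
      exact Ideal.mem_of_dvd P (Finset.dvd_prod_of_mem gi (Finset.mem_univ ⟨i, hi⟩)) hmem
    obtain ⟨Q, hQ, hQc, hQP⟩ := hgi2 ⟨i, hi⟩ P hP hgiP
    refine ⟨Q, hQ, ?_, hQP⟩
    rw [hbe i hi]
    intro hmem
    rcases hQ.mem_or_mem hmem with h | h
    · exact hQc h
    · apply hgP
      rw [← hQP]
      exact h
  · exact ⟨l * algebraMap R S g, by rw [hXe]; ring⟩
  · rw [hc (𝒟.n - 1) (by omega), hcp1]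

/-- the top-down choice of elements of the `B i` dominating a given element of `S`. -/
theorem exists_topdown (u : S) (hu : u ∉ q) :
    ∃ e : ∀ i, 𝒟.B i, (∀ i, i < 𝒟.n → e i ∉ 𝒜.qB i) ∧
      algebraMap S (𝒟.A 0) u ∣ algebraMap (𝒟.B 0) (𝒟.A 0) (e 0) ∧
      ∀ i, i + 1 < 𝒟.n → algebraMap (𝒟.B i) (𝒟.A (i + 1)) (e i) ∣
        algebraMap (𝒟.B (i + 1)) (𝒟.A (i + 1)) (e (i + 1)) := by
  have hpos := 𝒟.pos
  have key : ∀ m : ℕ, m ≤ 𝒟.n → ∃ e : ∀ i, 𝒟.B i, (∀ i, i < m → e i ∉ 𝒜.qB i) ∧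
      (0 < m → algebraMap S (𝒟.A 0) u ∣ algebraMap (𝒟.B 0) (𝒟.A 0) (e 0)) ∧
      ∀ i, i + 1 < m → algebraMap (𝒟.B i) (𝒟.A (i + 1)) (e i) ∣
        algebraMap (𝒟.B (i + 1)) (𝒟.A (i + 1)) (e (i + 1)) := by
    intro m
    induction m with
    | zero =>
      intro _
      exact ⟨fun _ => 1, fun i hi => absurd hi (Nat.not_lt_zero i),
        fun h => absurd h (lt_irrefl 0), fun i hi => absurd hi (Nat.not_lt_zero _)⟩
    | succ m ih =>
      intro hm
      obtain ⟨e, h1, h2, h3⟩ := ih (by omega)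
      have hmn : m < 𝒟.n := by omega
      haveI := 𝒟.finiteBA m hmn
      haveI := 𝒜.hqB m
      -- the element of `A m` to dominate
      obtain ⟨cc, hcc, hcc2⟩ : ∃ cc : 𝒟.A m, cc ∉ 𝒜.qA m ∧
          (m = 0 → ∀ h : m = 0, cc = h ▸ algebraMap S (𝒟.A 0) u) ∧
          (∀ j (h : m = j + 1), cc = h ▸ algebraMap (𝒟.B j) (𝒟.A (j + 1)) (e j)) := by
        cases m with
        | zero =>
          refine ⟨algebraMap S (𝒟.A 0) u, ?_, fun _ _ => rfl, fun j h => by omega⟩
          intro hmem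
          apply hu
          rw [← 𝒜.q0]
          exact hmem
        | succ j =>
          refine ⟨algebraMap (𝒟.B j) (𝒟.A (j + 1)) (e j), ?_, fun h => by omega, fun j' h => ?_⟩
          · intro hmem
            apply h1 j (by omega)
            rw [← 𝒜.qStep j hmn]
            exact hmem
          · have : j = j' := by omega
            subst this
            rfl
      obtain ⟨d, hd, hdvd⟩ := exists_notMem_dvd_of_unique_prime (𝒜.qB m) (𝒜.qA m)
        (fun z₁ _ hz₁ => 𝒜.uniq m hmn z₁ hz₁) cc hcc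
      refine ⟨Function.update e m d, fun i hi => ?_, fun _ => ?_, fun i hi => ?_⟩
      · by_cases him : i = m
        · subst him
          rw [Function.update_self]
          exact hd
        · rw [Function.update_of_ne him]
          exact h1 i (by omega)
      · by_cases hm0 : m = 0
        · subst hm0
          rw [Function.update_self]
          have hh : cc = algebraMap S (𝒟.A 0) u := hcc2.1 rfl rfl
          rw [← hh]
          exact hdvd
        · rw [Function.update_of_ne (Ne.symm hm0)]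
          exact h2 (by omega)
      · by_cases him : i + 1 = m
        · subst him
          rw [Function.update_self, Function.update_of_ne (by omega)]
          have hh : cc = algebraMap (𝒟.B i) (𝒟.A (i + 1)) (e i) := hcc2.2 i rfl
          rw [← hh]
          exact hdvd
        · rw [Function.update_of_ne (by omega), Function.update_of_ne (by omega)]
          exact h3 i (by omega)
  obtain ⟨e, h1, h2, h3⟩ := key 𝒟.n le_rfl
  exact ⟨e, h1, h2 hpos, h3⟩

end Select

end Groth.Agent.Lib.T2H2.ShrinkC
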