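import Mathlib
import Groth.Prelude.Def_DRing2
import Groth.Agent.Lib.Helper1Cone
import Groth.Agent.Lib.Helper1PC
import Groth.Agent.Lib.Helper1Extend
import Groth.Agent.Lib.Helper1TorG
import Groth.Agent.S17867
import Groth.Agent.Lib.T2H2NisGen
import Groth.Agent.S6950
import Groth.Agent.Lib.Helper1PCTower
import Groth.Prelude.Def_W4c5algebraiztannakaNis

/-!
# Complexes of projective modules with a bounded number of generators (helper2)

Namespace `Groth.Agent.Lib.T2H2.SizeD`.

* `RepIn PP a b K`: `K ∈ D(R)` is represented by a complex vanishing outside `[a, b]` with terms in `PP`.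
* `RepIn.of_iso`, `RepIn.shift`, `RepIn.single`, `RepIn.cone`, `RepIn.truncTop`.
* classes `FP` (finite projective) and `PG s` (projective, generated by `s` elements) with closure lemmas.
* `exists_single_conn'`: a surjection `A^k → H^s(X)` lifts to an `s`-connected map `A^k[-s] ⟶ X`.
* `exists_gens_of_nis`: generators descend along a Nisnevich cover of length `m` (factor `m`).
* `main`: the size induction; `globSize_of_locSize`: local size `N` gives global size `N + G N (2N) N`.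
-/

set_option autoImplicit false
set_option linter.style.haveILetI false
set_option linter.unusedSectionVars false
universe u
open CategoryTheory CategoryTheory.Limits CategoryTheory.Pretriangulated
attribute [local instance] HasDerivedCategory.standard

namespace Groth.Agent.Lib.T2H2.SizeD

open DerivedCategory Groth.Agent.Lib.Helper1.Cone

variable {R : Type u} [CommRing R]

/-- `K` is represented by a complex vanishing outside `[a, b]` with terms in the class `PP`. -/
def RepIn (PP : ModuleCat.{u} R → Prop) (a b : ℤ) (K : DerivedCategory (ModuleCat.{u} R)) : Prop :=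
  ∃ E : CochainComplex (ModuleCat.{u} R) ℤ, (∀ i : ℤ, i < a ∨ b < i → IsZero (E.X i)) ∧
    (∀ i : ℤ, PP (E.X i)) ∧ Nonempty (Q.obj E ≅ K)

variable {PP : ModuleCat.{u} R → Prop} {a b : ℤ}

lemma RepIn.of_iso {K K' : DerivedCategory (ModuleCat.{u} R)} (e : K ≅ K') (h : RepIn PP a b K) :
    RepIn PP a b K' := by
  obtain ⟨E, h1, h2, ⟨e'⟩⟩ := h
  exact ⟨E, h1, h2, ⟨e' ≪≫ e⟩⟩

lemma RepIn.mono {PP' : ModuleCat.{u} R → Prop} {a' b' : ℤ} {K : DerivedCategory (ModuleCat.{u} R)}
    (h : RepIn PP a b K) (hPP : ∀ X, PP X → PP' X) (ha : a' ≤ a) (hb : b ≤ b') : RepIn PP' a' b' K := by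
  obtain ⟨E, h1, h2, he⟩ := h
  exact ⟨E, fun i hi => h1 i (by lia), fun i => hPP _ (h2 i), he⟩

lemma RepIn.shift {K : DerivedCategory (ModuleCat.{u} R)} (h : RepIn PP a b K) (n : ℤ) :
    RepIn PP (a - n) (b - n) (K⟦n⟧) := by
  obtain ⟨E, h1, h2, ⟨e⟩⟩ := h
  exact ⟨E⟦n⟧, fun i hi => h1 (i + n) (by lia), fun i => h2 (i + n),
    ⟨(Q.commShiftIso n).app E ≪≫ (shiftFunctor _ n).mapIso e⟩⟩

lemma RepIn.single (X : ModuleCat.{u} R) (hX : PP X) (hzero : ∀ Y : ModuleCat.{u} R, IsZero Y → PP Y)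
    (hiso : ∀ (Y Z : ModuleCat.{u} R), (Y ≅ Z) → PP Y → PP Z) (n : ℤ) :
    RepIn PP n n ((singleFunctor (ModuleCat.{u} R) n).obj X) := by
  refine ⟨(HomologicalComplex.single _ (ComplexShape.up ℤ) n).obj X, fun i hi => ?_, fun i => ?_,
    ⟨((singleFunctorIsoCompQ _ n).app X).symm⟩⟩
  · exact HomologicalComplex.isZero_single_obj_X _ _ _ _ (by lia)
  · by_cases hi : i = n
    · subst hi
      exact hiso _ _ (HomologicalComplex.singleObjXSelf (ComplexShape.up ℤ) i X).symm hX
    · exact hzero _ (HomologicalComplex.isZero_single_obj_X (ComplexShape.up ℤ) n X i hi)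

/-- the cone of a map between represented objects is represented, with explicit range. -/
lemma RepIn.cone {PP₁ PP₂ PP₃ : ModuleCat.{u} R → Prop} {a₁ b₁ a₂ b₂ a₃ b₃ : ℤ}
    (hproj : ∀ X : ModuleCat.{u} R, PP₁ X → Module.Projective R X)
    (hiso : ∀ (X Y : ModuleCat.{u} R), (X ≅ Y) → PP₃ X → PP₃ Y)
    (hsum : ∀ X Y : ModuleCat.{u} R, PP₁ X → PP₂ Y → PP₃ (X ⊞ Y))
    (ha₁ : a₃ ≤ a₁ - 1) (ha₂ : a₃ ≤ a₂) (hb₁ : b₁ - 1 ≤ b₃) (hb₂ : b₂ ≤ b₃)
    (T : Triangle (DerivedCategory (ModuleCat.{u} R)))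
    (hT : T ∈ distTriang (DerivedCategory (ModuleCat.{u} R)))
    (h₁ : RepIn PP₁ a₁ b₁ T.obj₁) (h₂ : RepIn PP₂ a₂ b₂ T.obj₂) : RepIn PP₃ a₃ b₃ T.obj₃ := by
  obtain ⟨E, hEv, hE, ⟨e₁⟩⟩ := h₁
  obtain ⟨F, hFv, hF, ⟨e₂⟩⟩ := h₂
  have hEle : E.IsStrictlyLE b₁ := by
    rw [CochainComplex.isStrictlyLE_iff]
    exact fun i hi => hEv i (Or.inr hi)
  have : ∀ i : ℤ, Projective (E.X i) := fun i =>
    have := hproj _ (hE i)
    ModuleCat.projective_of_categoryTheory_projective _
  have : E.IsKProjective := CochainComplex.isKProjective_of_projective E b₁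
  obtain ⟨c, hc⟩ := exists_chain_map E F (e₁.hom ≫ T.mor₁ ≫ e₂.inv)
  have hT' := DerivedCategory.mappingCone_triangle_distinguished c
  have comm : (Q.mapTriangle.obj (CochainComplex.mappingCone.triangle c)).mor₁ ≫ e₂.hom =
      e₁.hom ≫ T.mor₁ := by
    show Q.map c ≫ e₂.hom = e₁.hom ≫ T.mor₁
    rw [hc, Category.assoc, Category.assoc, Iso.inv_hom_id, Category.comp_id]
  have e₃ : Q.obj (CochainComplex.mappingCone c) ≅ T.obj₃ :=
    Triangle.π₃.mapIso (isoTriangleOfIso₁₂ _ _ hT' hT e₁ e₂ comm)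
  refine ⟨CochainComplex.mappingCone c, fun i hi => ?_, fun i => ?_, ⟨e₃⟩⟩
  · rw [CochainComplex.mappingCone.isZero_X_iff]
    exact ⟨hEv _ (by lia), hFv _ (by lia)⟩
  · have := HomologicalComplex.HasHomotopyCofiber.hasBinaryBiproduct c i (i + 1) rfl
    exact hiso _ _ (HomologicalComplex.homotopyCofiber.XIsoBiprod c i (i + 1) rfl).symm
      (hsum _ _ (hE _) (hF _))

/-- dropping the top degree of a representing complex of projectives when `H^b = 0`. -/
lemma RepIn.truncTop (hproj : ∀ X : ModuleCat.{u} R, PP X → Module.Projective R X)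
    (hiso : ∀ (X Y : ModuleCat.{u} R), (X ≅ Y) → PP X → PP Y)
    (hretr : ∀ (X Y : ModuleCat.{u} R) (i : Y ⟶ X) (r : X ⟶ Y), i ≫ r = 𝟙 Y → PP X → PP Y)
    (hzero : ∀ Y : ModuleCat.{u} R, IsZero Y → PP Y)
    {K : DerivedCategory (ModuleCat.{u} R)} (h : RepIn PP a b K) (hK : K.IsLE (b - 1)) :
    RepIn PP a (b - 1) K := by
  obtain ⟨E, hEv, hE, ⟨e⟩⟩ := h
  have hQle : (Q.obj E).IsLE (b - 1) := Groth.Agent.S14388.tt.isLE_of_iso e.symm (b - 1)
  have hEle : CochainComplex.IsLE E (b - 1) := (DerivedCategory.isLE_Q_obj_iff _ _).1 hQle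
  have hq : QuasiIso (E.ιTruncLE (b - 1)) := (E.quasiIso_ιTruncLE_iff (b - 1)).2 hEle
  have hiso' : IsIso (Q.map (E.ιTruncLE (b - 1))) :=
    (DerivedCategory.isIso_Q_map_iff_quasiIso (φ := E.ιTruncLE (b - 1))).2 hq
  refine ⟨E.truncLE (b - 1), fun i hi => ?_, fun i => ?_,
    ⟨asIso (Q.map (E.ιTruncLE (b - 1))) ≪≫ e⟩⟩
  · rcases lt_trichotomy i (b - 1) with hi' | rfl | hi'
    · exact (hEv i (Or.inl (by lia))).of_iso (E.truncLEXIso (b - 1) i hi')
    · have hz : IsZero (E.X (b - 1)) := hEv (b - 1) (Or.inl (by lia))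
      exact (IsZero.of_mono (E.iCycles (b - 1)) hz).of_iso (E.truncLEXIsoCycles (b - 1))
    · exact (E.truncLE (b - 1)).isZero_of_isStrictlyLE (b - 1) i hi'
  · rcases lt_trichotomy i (b - 1) with hi | rfl | hi
    · exact hiso _ _ (E.truncLEXIso (b - 1) i hi).symm (hE i)
    · refine hiso _ _ (E.truncLEXIsoCycles (b - 1)).symm ?_
      -- `d : E^{b-1} ⟶ E^b` is an epimorphism
      have hex : E.ExactAt b := (CochainComplex.isLE_iff E (b - 1)).1 hEle b (by lia)
      rw [HomologicalComplex.exactAt_iff' E (b - 1) b (b + 1) (by simp) (by simp)] at hex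
      have hg : E.d b (b + 1) = 0 := (hEv (b + 1) (Or.inr (by lia))).eq_of_tgt _ _
      have hepi : Epi (E.d (b - 1) b) := hex.epi_f hg
      have := hproj _ (hE b)
      have hPb : Projective (E.X b) := ModuleCat.projective_of_categoryTheory_projective _
      let σ : E.X b ⟶ E.X (b - 1) := Projective.factorThru (𝟙 _) (E.d (b - 1) b)
      have hσ : σ ≫ E.d (b - 1) b = 𝟙 _ := Projective.factorThru_comp _ _
      have hk : (𝟙 (E.X (b - 1)) - E.d (b - 1) b ≫ σ) ≫ E.d (b - 1) b = 0 := by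
        rw [Preadditive.sub_comp, Category.id_comp, Category.assoc, hσ, Category.comp_id, sub_self]
      let r : E.X (b - 1) ⟶ E.cycles (b - 1) :=
        E.liftCycles (𝟙 (E.X (b - 1)) - E.d (b - 1) b ≫ σ) b (by simp) hk
      refine hretr (E.X (b - 1)) (E.cycles (b - 1)) (E.iCycles (b - 1)) r ?_ (hE (b - 1))
      rw [← cancel_mono (E.iCycles (b - 1)), Category.assoc, HomologicalComplex.liftCycles_i,
        Preadditive.comp_sub, Category.comp_id, ← Category.assoc, HomologicalComplex.iCycles_d,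
        zero_comp, sub_zero, Category.id_comp]
    · exact hzero _ ((E.truncLE (b - 1)).isZero_of_isStrictlyLE (b - 1) i hi)

section TopHomology

/-- the top term surjects onto the top cohomology -/
lemma exists_epi_top (E : CochainComplex (ModuleCat.{u} R) ℤ) (b : ℤ)
    (hE : ∀ i : ℤ, b < i → IsZero (E.X i)) :
    ∃ π : E.X b ⟶ (homologyFunctor (ModuleCat.{u} R) b).obj (Q.obj E), Epi π := by
  have hd : E.d b (b + 1) = 0 := (hE (b + 1) (by lia)).eq_of_tgt _ _
  refine ⟨(E.iCyclesIso b (b + 1) (by simp) hd).inv ≫ E.homologyπ b ≫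
    ((homologyFunctorFactors (ModuleCat.{u} R) b).app E).inv, ?_⟩
  infer_instance

/-- a complex concentrated in one degree: the term is the cohomology -/
lemma nonempty_iso_homology_of_single (E : CochainComplex (ModuleCat.{u} R) ℤ) (a : ℤ)
    (hE : ∀ i : ℤ, i < a ∨ a < i → IsZero (E.X i)) :
    Nonempty (E.X a ≅ (homologyFunctor (ModuleCat.{u} R) a).obj (Q.obj E)) := by
  have hd : E.d a (a + 1) = 0 := (hE (a + 1) (Or.inr (by lia))).eq_of_tgt _ _
  have hd' : E.d (a - 1) a = 0 := (hE (a - 1) (Or.inl (by lia))).eq_of_src _ _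
  exact ⟨(E.iCyclesIso a (a + 1) (by simp) hd).symm ≪≫ E.isoHomologyπ (a - 1) a (by simp) hd' ≪≫
    ((homologyFunctorFactors (ModuleCat.{u} R) a).app E).symm⟩

end TopHomology

section Classes

/-- finite projective modules -/
def FP (X : ModuleCat.{u} R) : Prop := Module.Finite R X ∧ Module.Projective R X

/-- projective modules generated by `s` elements -/
def PG (s : ℕ) (X : ModuleCat.{u} R) : Prop :=
  Module.Projective R X ∧ ∃ g : (Fin s → R) →ₗ[R] X, Function.Surjective g

lemma PG.proj {s : ℕ} (X : ModuleCat.{u} R) (h : PG s X) : Module.Projective R X := h.1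

lemma PG.fp {s : ℕ} {X : ModuleCat.{u} R} (h : PG s X) : FP X := by
  obtain ⟨h1, g, hg⟩ := h
  exact ⟨Module.Finite.of_surjective g hg, h1⟩

lemma FP.proj (X : ModuleCat.{u} R) (h : FP X) : Module.Projective R X := h.2

lemma PG.iso {s : ℕ} (X Y : ModuleCat.{u} R) (e : X ≅ Y) (h : PG s X) : PG s Y := by
  obtain ⟨h1, g, hg⟩ := h
  exact ⟨Module.Projective.of_equiv e.toLinearEquiv,
    e.toLinearEquiv.toLinearMap ∘ₗ g, e.toLinearEquiv.surjective.comp hg⟩

lemma FP.iso (X Y : ModuleCat.{u} R) (e : X ≅ Y) (h : FP X) : FP Y := by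
  have := h.1
  have := h.2
  exact ⟨Module.Finite.equiv e.toLinearEquiv, Module.Projective.of_equiv e.toLinearEquiv⟩

lemma surjective_of_retract (X Y : ModuleCat.{u} R) (i : Y ⟶ X) (r : X ⟶ Y) (h : i ≫ r = 𝟙 Y) :
    Function.Surjective r.hom := by
  intro y
  refine ⟨i.hom y, ?_⟩
  have := congrArg (fun f => f.hom y) h
  simpa using this

lemma projective_of_retract (X Y : ModuleCat.{u} R) (i : Y ⟶ X) (r : X ⟶ Y) (h : i ≫ r = 𝟙 Y)
    [Module.Projective R X] : Module.Projective R Y := by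
  refine Module.Projective.of_split i.hom r.hom ?_
  ext y
  have := congrArg (fun f => f.hom y) h
  simpa using this

lemma PG.retract {s : ℕ} (X Y : ModuleCat.{u} R) (i : Y ⟶ X) (r : X ⟶ Y) (h : i ≫ r = 𝟙 Y)
    (hX : PG s X) : PG s Y := by
  obtain ⟨h1, g, hg⟩ := hX
  exact ⟨projective_of_retract X Y i r h, r.hom ∘ₗ g, (surjective_of_retract X Y i r h).comp hg⟩

lemma FP.retract (X Y : ModuleCat.{u} R) (i : Y ⟶ X) (r : X ⟶ Y) (h : i ≫ r = 𝟙 Y)
    (hX : FP X) : FP Y := by
  have := hX.1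
  have := hX.2
  exact ⟨Module.Finite.of_surjective r.hom (surjective_of_retract X Y i r h),
    projective_of_retract X Y i r h⟩

lemma PG.zero {s : ℕ} (Y : ModuleCat.{u} R) (h : IsZero Y) : PG s Y := by
  have := ModuleCat.subsingleton_of_isZero h
  exact ⟨inferInstance, 0, fun y => ⟨0, Subsingleton.elim _ _⟩⟩

lemma FP.zero (Y : ModuleCat.{u} R) (h : IsZero Y) : FP Y := by
  have := ModuleCat.subsingleton_of_isZero h
  exact ⟨inferInstance, inferInstance⟩

lemma PG.mono {s t : ℕ} (hst : s ≤ t) (X : ModuleCat.{u} R) (h : PG s X) : PG t X := by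
  obtain ⟨h1, g, hg⟩ := h
  refine ⟨h1, g ∘ₗ LinearMap.funLeft R R (Fin.castLE hst), hg.comp ?_⟩
  exact LinearMap.funLeft_surjective_of_injective R R _ (Fin.castLE_injective hst)

lemma PG.free (s : ℕ) : PG s (ModuleCat.of R (Fin s → R)) :=
  ⟨inferInstanceAs (Module.Projective R (Fin s → R)), LinearMap.id, Function.surjective_id⟩

lemma PG.sum {s t : ℕ} (X Y : ModuleCat.{u} R) (hX : PG s X) (hY : PG t Y) : PG (s + t) (X ⊞ Y) := by
  obtain ⟨h1, g, hg⟩ := hX
  obtain ⟨h2, g', hg'⟩ := hY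
  refine PG.iso _ _ (ModuleCat.biprodIsoProd X Y).symm ⟨?_, ?_⟩
  · exact inferInstanceAs (Module.Projective R (X × Y))
  · let e : (Fin (s + t) → R) ≃ₗ[R] (Fin s → R) × (Fin t → R) :=
      (LinearEquiv.funCongrLeft R R finSumFinEquiv).trans
        (LinearEquiv.sumArrowLequivProdArrow (Fin s) (Fin t) R R)
    exact ⟨(LinearMap.prodMap g g') ∘ₗ e.toLinearMap, (hg.prodMap hg').comp e.surjective⟩

lemma FP.sum (X Y : ModuleCat.{u} R) (hX : FP X) (hY : FP Y) : FP (X ⊞ Y) := by
  have := hX.1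
  have := hX.2
  have := hY.1
  have := hY.2
  refine FP.iso _ _ (ModuleCat.biprodIsoProd X Y).symm ⟨?_, ?_⟩
  · exact inferInstanceAs (Module.Finite R (X × Y))
  · exact inferInstanceAs (Module.Projective R (X × Y))

end Classes

section Conn

open Groth.Agent.Lib.Helper1.PC Groth.Agent.S14388 Groth.Agent.S7017 ZeroObject

variable {A : Type u} [CommRing A]

/-- for `X ∈ D^{≤ s}` and a surjection `A^k → H^s(X)`, there is an `s`-connected map from `A^k`
placed in degree `s` -/
lemma exists_single_conn' (X : DerivedCategory (ModuleCat.{u} A)) (s : ℤ) [X.IsLE s] (k : ℕ)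
    (π : (Fin k → A) →ₗ[A] ((homologyFunctor (ModuleCat.{u} A) s).obj X)) (hπ : Function.Surjective π) :
    ∃ (ψ : (singleFunctor (ModuleCat.{u} A) s).obj (ModuleCat.of A (Fin k → A)) ⟶ X), Conn s ψ := by
  have hF : FF (ModuleCat.of A (Fin k → A)) :=
    ⟨inferInstanceAs (Module.Finite A (Fin k → A)), inferInstanceAs (Module.Free A (Fin k → A))⟩
  have hT := tt.triangleLTGE_distinguished s X
  have hGE : ((tt.truncGE s).obj X).IsGE s := inferInstance
  have hLE : ((tt.truncGE s).obj X).IsLE s := inferInstance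
  obtain ⟨e⟩ := Groth.Agent.S0973.iso_single_of_amp ((tt.truncGE s).obj X) s
  have hiso := isIso_homology_truncGEπ s s le_rfl X
  let eH : (homologyFunctor (ModuleCat.{u} A) s).obj X ≅
      (homologyFunctor (ModuleCat.{u} A) s).obj ((tt.truncGE s).obj X) :=
    asIso ((homologyFunctor _ s).map ((tt.truncGEπ s).app X))
  let g : (singleFunctor (ModuleCat.{u} A) s).obj (ModuleCat.of A (Fin k → A)) ⟶
      (tt.truncGE s).obj X :=
    (singleFunctor (ModuleCat.{u} A) s).map (ModuleCat.ofHom π ≫ eH.hom) ≫ e.inv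
  have hLT : ((tt.truncLT s).obj X).IsLE (s - 1) := inferInstance
  have hsh1 : (((tt.truncLT s).obj X)⟦(1 : ℤ)⟧).IsLE (s - 1 - 1) :=
    tt.isLE_shift ((tt.truncLT s).obj X) (s - 1) 1 (s - 1 - 1) (by lia)
  have hsh : (((tt.truncLT s).obj X)⟦(1 : ℤ)⟧).IsLE (s - 1) :=
    tt.isLE_of_le _ (s - 1 - 1) (s - 1) (by lia)
  have hz : g ≫ ((tt.triangleLTGE s).obj X).mor₃ = 0 :=
    @RepGE.hom_eq_zero _ _ _ _ (repGE_single _ hF s) (((tt.truncLT s).obj X)⟦(1 : ℤ)⟧) hsh _
  obtain ⟨ψ, hψ'⟩ : ∃ ψ : (singleFunctor (ModuleCat.{u} A) s).obj (ModuleCat.of A (Fin k → A)) ⟶ X,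
      g = ψ ≫ (tt.truncGEπ s).app X := Triangle.coyoneda_exact₃ _ hT g hz
  refine ⟨ψ, fun i hi => ?_, ?_⟩
  · refine isIso_of_isZero_isZero _ (isZero_homology_single _ s i (by lia)) ?_
    exact (DerivedCategory.isLE_iff X s).1 inferInstance i hi
  · have hg : Epi ((homologyFunctor (ModuleCat.{u} A) s).map g) := by
      have : Epi (ModuleCat.ofHom π ≫ eH.hom) := by
        have : Epi (ModuleCat.ofHom π) := (ModuleCat.epi_iff_surjective _).2 hπ
        infer_instance
      have h1 : Epi ((homologyFunctor (ModuleCat.{u} A) s).map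
          ((singleFunctor (ModuleCat.{u} A) s).map (ModuleCat.ofHom π ≫ eH.hom))) :=
        (epi_map_iff_of_natIso (singleFunctorCompHomologyFunctorIso (ModuleCat.{u} A) s)
          (ModuleCat.ofHom π ≫ eH.hom)).2 (by dsimp; infer_instance)
      rw [Functor.map_comp]
      infer_instance
    have hfac : (homologyFunctor (ModuleCat.{u} A) s).map ψ =
        (homologyFunctor (ModuleCat.{u} A) s).map g ≫ eH.inv := by
      rw [hψ', Functor.map_comp]
      show _ = (_ ≫ eH.hom) ≫ eH.inv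
      rw [Category.assoc, Iso.hom_inv_id, Category.comp_id]
    rw [hfac]
    infer_instance

end Conn

section Nis

open AlgebraicGeometry Groth.Agent.Lib.T2H2.NisGen Groth.Agent.Lib.Helper20.OmegaAff Groth.Agent.Lib.Helper20.LocFree

/-- generators descend along a Nisnevich cover of length `m`, at the cost of a factor `m` -/
theorem exists_gens_of_nis {R B : Type u} [CommRing R] [CommRing B] (φ : R →+* B) (m : ℕ)
    (hN : W4c5algebraiztannaka.IsNisCoverLen (Spec.map (CommRingCat.ofHom φ)) m)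
    (M : ModuleCat.{u} R) [Module.Finite R M] (s : ℕ)
    (g : (Fin s → B) →ₗ[B] ((ModuleCat.extendScalars φ).obj M)) (hg : Function.Surjective g) :
    ∃ g' : (Fin (s * m) → R) →ₗ[R] M, Function.Surjective g' := by
  let Bc : CommRingCat.{u} := CommRingCat.of B
  let F : ModuleCat.{u} Bc := ModuleCat.of B (Fin s → B)
  let gm : F ⟶ (ModuleCat.extendScalars φ).obj M :=
    ModuleCat.ofHom (X := F) (Y := (ModuleCat.extendScalars φ).obj M) g
  haveI : Epi gm := by
    rw [ModuleCat.epi_iff_surjective]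
    exact hg
  have h1 : Epi ((tilde.functor Bc).map gm) := tilde_map_epi gm
  let Φ : FlatMod.freeMod (Spec Bc) s ⟶
      (Scheme.Modules.pullback (Spec.map (CommRingCat.ofHom φ))).obj
        (tilde (R := CommRingCat.of R) M) :=
    (tildeFreeMod F (Pi.basisFun B (Fin s))).inv ≫ (tilde.functor Bc).map gm ≫
      (pullbackTildeObjIso (CommRingCat.ofHom φ) M).inv
  have hΦ : Epi Φ := by
    have h2 : Epi ((tilde.functor Bc).map gm ≫ (pullbackTildeObjIso (CommRingCat.ofHom φ) M).inv) :=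
      @epi_comp _ _ _ _ _ _ h1 _ inferInstance
    exact @epi_comp _ _ _ _ _ _ inferInstance _ h2
  obtain ⟨x, hx⟩ := Groth.Agent.S17867.result (CommRingCat.of R) M
    (Spec.map (CommRingCat.ofHom φ)) m s hN ⟨Φ, hΦ⟩
  refine ⟨Fintype.linearCombination R x, ?_⟩
  rw [← LinearMap.range_eq_top, Fintype.range_linearCombination]
  exact hx

end Nis

section Main

open Groth.Agent.Lib.Helper1.PC Groth.Agent.S14388 Groth.Agent.S7017 ZeroObject Groth.Agent.Lib.Helper1.Extend AlgebraicGeometry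

variable {R B : Type u} [CommRing R] [CommRing B] [Algebra R B] [Module.Flat R B]

/-- the size bound -/
def G (m : ℕ) : ℕ → ℕ → ℕ
  | 0, s => s * m
  | n + 1, s => G m n (s * m + s) + s * m

lemma RepIn.isLE {PP : ModuleCat.{u} R → Prop} {a b : ℤ} {K : DerivedCategory (ModuleCat.{u} R)}
    (h : RepIn PP a b K) : K.IsLE b := by
  obtain ⟨E, hEv, -, ⟨e⟩⟩ := h
  have hEle : E.IsStrictlyLE b := by
    rw [CochainComplex.isStrictlyLE_iff]
    exact fun i hi => hEv i (Or.inr hi)
  have : (Q.obj E).IsLE b := inferInstance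
  exact tt.isLE_of_iso e b

/-- a surjection from `R^s` onto the top cohomology -/
lemma RepIn.exists_surjective_top {s : ℕ} {a b : ℤ} {K : DerivedCategory (ModuleCat.{u} R)}
    (h : RepIn (PG s) a b K) :
    ∃ g : (Fin s → R) →ₗ[R] ((homologyFunctor (ModuleCat.{u} R) b).obj K), Function.Surjective g := by
  obtain ⟨E, hEv, hE, ⟨e⟩⟩ := h
  obtain ⟨π, hπ⟩ := exists_epi_top E b (fun i hi => hEv i (Or.inr hi))
  obtain ⟨-, g, hg⟩ := hE b
  have h1 : Function.Surjective π.hom := (ModuleCat.epi_iff_surjective π).1 hπ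
  let ε := (homologyFunctor (ModuleCat.{u} R) b).mapIso e
  exact ⟨ε.hom.hom ∘ₗ π.hom ∘ₗ g, ε.toLinearEquiv.surjective.comp (h1.comp hg)⟩

lemma RepIn.finite_top {a b : ℤ} {K : DerivedCategory (ModuleCat.{u} R)}
    (h : RepIn FP a b K) : Module.Finite R ((homologyFunctor (ModuleCat.{u} R) b).obj K) := by
  obtain ⟨E, hEv, hE, ⟨e⟩⟩ := h
  obtain ⟨π, hπ⟩ := exists_epi_top E b (fun i hi => hEv i (Or.inr hi))
  have := (hE b).1
  have h1 : Function.Surjective π.hom := (ModuleCat.epi_iff_surjective π).1 hπ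
  let ε := (homologyFunctor (ModuleCat.{u} R) b).mapIso e
  exact Module.Finite.of_surjective (ε.hom.hom ∘ₗ π.hom) (ε.toLinearEquiv.surjective.comp h1)

lemma PG_ext_free (k : ℕ) : PG k ((ext R B).obj (ModuleCat.of R (Fin k → R))) := by
  refine PG.iso _ _ (extIso (A := R) (B := B) (Fin k → R)).symm ⟨?_, ?_⟩
  · exact inferInstanceAs (Module.Projective B (TensorProduct R B (Fin k → R)))
  · exact ⟨(TensorProduct.piScalarRight R B B (Fin k)).symm.toLinearMap,
      (TensorProduct.piScalarRight R B B (Fin k)).symm.surjective⟩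

/-- generators of the top cohomology over `R` -/
lemma exists_surjective_top_of_nis (m : ℕ)
    (hN : W4c5algebraiztannaka.IsNisCoverLen (Spec.map (CommRingCat.ofHom (algebraMap R B))) m)
    {s : ℕ} {a b : ℤ} {K : DerivedCategory (ModuleCat.{u} R)}
    (hK : RepIn FP a b K) (hKB : RepIn (PG s) a b ((extD R B).obj K)) :
    ∃ g : (Fin (s * m) → R) →ₗ[R] ((homologyFunctor (ModuleCat.{u} R) b).obj K),
      Function.Surjective g := by
  have hfin := hK.finite_top
  obtain ⟨gB, hgB⟩ := hKB.exists_surjective_top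
  let ε := homologyMapDIso (ext R B) K b
  exact exists_gens_of_nis (algebraMap R B) m hN _ s (ε.hom.hom ∘ₗ gB)
    (ε.toLinearEquiv.surjective.comp hgB)

theorem main (m : ℕ)
    (hN : W4c5algebraiztannaka.IsNisCoverLen (Spec.map (CommRingCat.ofHom (algebraMap R B))) m) :
    ∀ (n s : ℕ) (a b : ℤ), b - a = n → ∀ K : DerivedCategory (ModuleCat.{u} R),
      RepIn FP a b K → RepIn (PG s) a b ((extD R B).obj K) → RepIn (PG (G m n s)) a b K := by
  intro n
  induction n with
  | zero =>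
    intro s a b hab K hK hKB
    obtain rfl : b = a := by lia
    obtain ⟨g, hg⟩ := exists_surjective_top_of_nis m hN hK hKB
    obtain ⟨E, hEv, hE, ⟨e⟩⟩ := hK
    obtain ⟨ι⟩ := nonempty_iso_homology_of_single E b hEv
    let ε := ι ≪≫ (homologyFunctor (ModuleCat.{u} R) b).mapIso e
    refine ⟨E, hEv, fun i => ?_, ⟨e⟩⟩
    by_cases hi : i = b
    · subst hi
      exact ⟨(hE i).2, ε.inv.hom ∘ₗ g, ε.symm.toLinearEquiv.surjective.comp hg⟩
    · exact PG.zero _ (hEv i (by lia))
  | succ n ih =>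
    intro s a b hab K hK hKB
    obtain ⟨g, hg⟩ := exists_surjective_top_of_nis m hN hK hKB
    have hKle : K.IsLE b := hK.isLE
    obtain ⟨ψ, hψ⟩ := exists_single_conn' K b (s * m) g hg
    obtain ⟨C, v, w, hT⟩ := distinguished_cocone_triangle ψ
    have hC : C.IsLE (b - 1) := (conn_iff_of_distTriang _ hT b).1 hψ
    have hsingle : RepIn (PG (s * m)) b b
        ((singleFunctor (ModuleCat.{u} R) b).obj (ModuleCat.of R (Fin (s * m) → R))) :=
      RepIn.single _ (PG.free (s * m)) PG.zero PG.iso b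
    -- `C` over `R`
    have hCfp : RepIn FP a b C :=
      RepIn.cone (PP₁ := PG (s * m)) (PP₂ := FP) (PP₃ := FP) PG.proj FP.iso
        (fun X Y hX hY => FP.sum X Y hX.fp hY) (by lia) le_rfl (by lia) le_rfl _ hT hsingle hK
    have hCfp' : RepIn FP a (b - 1) C := hCfp.truncTop FP.proj FP.iso FP.retract FP.zero hC
    -- `C` over `B`
    have hT' := (extD R B).map_distinguished _ hT
    have hsingleB : RepIn (PG (s * m)) b b ((extD R B).obj
        ((singleFunctor (ModuleCat.{u} R) b).obj (ModuleCat.of R (Fin (s * m) → R)))) :=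
      (RepIn.single _ (PG_ext_free (R := R) (B := B) (s * m)) PG.zero PG.iso b).of_iso
        (mapSingleIso (ext R B) _ b).symm
    have hCB : RepIn (PG (s * m + s)) a b ((extD R B).obj C) :=
      RepIn.cone (PP₁ := PG (s * m)) (PP₂ := PG s) (PP₃ := PG (s * m + s)) PG.proj PG.iso
        (fun X Y hX hY => PG.sum X Y hX hY) (by lia) le_rfl (by lia) le_rfl _ hT' hsingleB hKB
    have hCBle : ((extD R B).obj C).IsLE (b - 1) := isLE_map (ext R B) C (b - 1) hC
    have hCB' : RepIn (PG (s * m + s)) a (b - 1) ((extD R B).obj C) :=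
      hCB.truncTop PG.proj PG.iso PG.retract PG.zero hCBle
    -- induction hypothesis
    have hCG := ih (s * m + s) a (b - 1) (by lia) C hCfp' hCB'
    -- back to `K`
    have hT2 := rot_of_distTriang _ (rot_of_distTriang _ hT)
    have hK1 : RepIn (PG (G m n (s * m + s) + s * m)) (a - 1) (b - 1) (K⟦(1 : ℤ)⟧) :=
      RepIn.cone (PP₁ := PG (G m n (s * m + s))) (PP₂ := PG (s * m))
        (PP₃ := PG (G m n (s * m + s) + s * m)) PG.proj PG.iso
        (fun X Y hX hY => PG.sum X Y hX hY) le_rfl (by lia) (by lia) le_rfl _ hT2 hCG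
        (hsingle.shift 1)
    have hK2 := (hK1.shift (-1)).of_iso ((shiftEquiv _ (1 : ℤ)).unitIso.symm.app K)
    exact hK2.mono (fun _ h => h) (by lia) (by lia)

end Main

section Final

open Groth.Agent.Lib.Helper1.PC Groth.Agent.Lib.Helper1.PCTower Groth.Agent.Lib.Helper1.Extend Groth.Agent.Lib.Helper1.Tor AlgebraicGeometry

/-- a Nisnevich cover is surjective -/
lemma surjective_of_isNisCoverLen {U Y : Scheme.{u}} (f : U ⟶ Y) (m : ℕ)
    (hf : W4c5algebraiztannaka.IsNisCoverLen f m) : Function.Surjective (fun x : U => f x) := by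
  obtain ⟨Z, hZ0, hZl, hmono, hZc, hsect⟩ := hf.flag
  intro p
  have key : ∀ k : Fin (m + 1), p ∈ Z k → ∃ q : U, f q = p := by
    intro k
    induction k using Fin.induction with
    | zero =>
      intro hp
      rw [hZ0] at hp
      exact hp.elim
    | succ k ih =>
      intro hp
      by_cases hp' : p ∈ Z k.castSucc
      · exact ih hp'
      · obtain ⟨T, g, s, -, hr, hsg⟩ := hsect k
        have : p ∈ Set.range (fun t : T => g t) := by
          rw [hr]
          exact ⟨hp, hp'⟩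
        obtain ⟨t, rfl⟩ := this
        refine ⟨s t, ?_⟩
        rw [← hsg]
        rfl
  exact key (Fin.last m) (by rw [hZl]; exact Set.mem_univ _)

theorem globSize_of_locSize {R : Type u} [CommRing R] (E : DRing.Cx R) (a b : ℤ)
    (hEb : DRing.VanishesOutside E a b) (hEp : DRing.TermwiseFiniteProjective E) (N : ℕ)
    (h : W4c5algebraiztannaka.LocSize E N) :
    W4c5algebraiztannaka.GlobSize R (DRing.toD E) (N + G N (2 * N) N) := by
  obtain ⟨B, _, φ, hNis, P, hP, ⟨e⟩⟩ := h
  letI : Algebra R B := φ.toAlgebra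
  have hEt : φ.Etale := (HasRingHomProperty.Spec_iff (P := @Etale)).1 hNis.etale
  have hEtA : Algebra.Etale R B := hEt
  have hflat : Module.Flat R B := inferInstance
  have hsurj : Function.Surjective (PrimeSpectrum.comap (algebraMap R B)) :=
    surjective_of_isNisCoverLen _ N hNis
  have hff : Module.FaithfullyFlat R B := Module.FaithfullyFlat.of_comap_surjective hsurj
  -- Part A: amplitude
  have hpc : DRing.IsPseudoCoherent' R (DRing.toD E) :=
    isPseudoCoherent'_of_forall _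
      (fun m => isPC_of_bddAbove_finProj E b (fun i hi => hEb i (Or.inr hi)) hEp m)
  have htorB : DRing.HasTorAmplitudeIn B (-(N : ℤ)) N
      (DRing.toD (((ModuleCat.extendScalars (algebraMap R B)).mapHomologicalComplex
        (ComplexShape.up ℤ)).obj E)) := by
    refine ⟨P, hP.1, fun i => ?_, ⟨e⟩⟩
    have := (hP.2 i).1
    infer_instance
  have htor : DRing.HasTorAmplitudeIn R (-(N : ℤ)) N (DRing.toD E) :=
    Groth.Agent.S6950.result E (-(N : ℤ)) N htorB
  obtain ⟨E', hE', hE'fp, ⟨e'⟩⟩ := exists_finiteProjective_of_pc_of_torAmp _ hpc _ _ htor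
  have hK : RepIn FP (-(N : ℤ)) N (DRing.toD E) := ⟨E', hE', fun i => hE'fp i, ⟨e'⟩⟩
  have hKB : RepIn (PG N) (-(N : ℤ)) N ((extD R B).obj (DRing.toD E)) :=
    ⟨P, hP.1, fun i => hP.2 i, ⟨e ≪≫ (mapQIso (ext R B) E).symm⟩⟩
  -- Part B: sizes
  obtain ⟨Q', hQv, hQ, ⟨eQ⟩⟩ := main (R := R) (B := B) N hNis (2 * N) N (-(N : ℤ)) N
    (by push_cast; ring) _ hK hKB
  refine ⟨Q', ⟨fun i hi => hQv i (by lia), fun i => ?_⟩, ⟨eQ⟩⟩
  exact PG.mono (Nat.le_add_left _ _) _ (hQ i)

end Final

end Groth.Agent.Lib.T2H2.SizeD
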