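import Mathlib

/-!
# Closed points of a fibre between a specialization (helper2)

Commutative algebra for S1374: Noether normalization through a point with algebraic residue field,
the valuation ring case (via Zariski's main theorem and going down), reduction to valuation rings.
-/

set_option autoImplicit false
universe u

namespace Groth.Agent.Lib.T2H2.SpecFibre

open Polynomial


/-- The substitution `X i ↦ P i (X i)` is integral when all `P i` have positive degree. -/
theorem isIntegral_aeval_polynomial {k : Type u} [Field k] {s : ℕ} (P : Fin s → Polynomial k)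
    (hdeg : ∀ i, 0 < (P i).natDegree) :
    (MvPolynomial.aeval (fun i => Polynomial.aeval (MvPolynomial.X i : MvPolynomial (Fin s) k) (P i)) :
      MvPolynomial (Fin s) k →ₐ[k] MvPolynomial (Fin s) k).toRingHom.IsIntegral := by
  set θ : MvPolynomial (Fin s) k →ₐ[k] MvPolynomial (Fin s) k :=
    MvPolynomial.aeval (fun i => Polynomial.aeval (MvPolynomial.X i : MvPolynomial (Fin s) k) (P i))
    with hθ
  have hX : ∀ i, θ.toRingHom.IsIntegralElem (MvPolynomial.X i) := by
    intro i
    have hlc : (P i).leadingCoeff ≠ 0 := by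
      rw [Ne, Polynomial.leadingCoeff_eq_zero]
      intro h0
      have := hdeg i
      rw [h0] at this
      simp at this
    let Q : Polynomial (MvPolynomial (Fin s) k) :=
      (P i).map (algebraMap k _) - Polynomial.C (MvPolynomial.X i)
    have hQdeg : (Polynomial.C (MvPolynomial.X i : MvPolynomial (Fin s) k)).degree <
        ((P i).map (algebraMap k (MvPolynomial (Fin s) k))).degree := by
      rw [Polynomial.degree_map_eq_of_injective (algebraMap k (MvPolynomial (Fin s) k)).injective]
      refine lt_of_le_of_lt Polynomial.degree_C_le ?_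
      rw [← Polynomial.natDegree_pos_iff_degree_pos]
      exact hdeg i
    have hQlc : Q.leadingCoeff = algebraMap k _ (P i).leadingCoeff := by
      rw [Polynomial.leadingCoeff_sub_of_degree_lt hQdeg,
        Polynomial.leadingCoeff_map_of_injective (algebraMap k (MvPolynomial (Fin s) k)).injective]
    refine ⟨Polynomial.C (algebraMap k _ (P i).leadingCoeff⁻¹) * Q, ?_, ?_⟩
    · apply Polynomial.monic_C_mul_of_mul_leadingCoeff_eq_one
      rw [hQlc, ← map_mul, inv_mul_cancel₀ hlc, map_one]
    · rw [Polynomial.eval₂_mul]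
      have : Polynomial.eval₂ θ.toRingHom (MvPolynomial.X i) Q = 0 := by
        simp only [Q, Polynomial.eval₂_sub, Polynomial.eval₂_C, Polynomial.eval₂_map]
        have h1 : θ.toRingHom.comp (algebraMap k (MvPolynomial (Fin s) k)) =
            algebraMap k (MvPolynomial (Fin s) k) := by
          ext a
          simp
        rw [h1]
        have h2 : θ.toRingHom (MvPolynomial.X i) =
            Polynomial.aeval (MvPolynomial.X i : MvPolynomial (Fin s) k) (P i) := by
          simp [hθ]
        rw [h2, Polynomial.aeval_def, sub_self]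
      rw [this, mul_zero]
  intro p
  induction p using MvPolynomial.induction_on with
  | C a =>
    have : (MvPolynomial.C a : MvPolynomial (Fin s) k) = θ.toRingHom (MvPolynomial.C a) := by
      simp [hθ]
    rw [this]
    exact RingHom.isIntegralElem_map _
  | add p q hp hq => exact hp.add _ hq
  | mul_X p i hp => exact hp.mul _ (hX i)

/-- Noether normalization through a point with algebraic residue field: parameters in `𝔪`. -/
theorem exists_algebraicIndependent_integral {k R : Type u} [Field k] [CommRing R] [Nontrivial R]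
    [Algebra k R] [Algebra.FiniteType k R] (𝔪 : Ideal R) [h𝔪 : 𝔪.IsPrime]
    (halg : ∀ x : R, ∃ P : Polynomial k, P ≠ 0 ∧ Polynomial.aeval x P ∈ 𝔪) :
    ∃ (s : ℕ) (y : Fin s → R), (∀ i, y i ∈ 𝔪) ∧ AlgebraicIndependent k y ∧
      (MvPolynomial.aeval y : MvPolynomial (Fin s) k →ₐ[k] R).toRingHom.IsIntegral := by
  obtain ⟨s, g₀, hinj, hfin⟩ := exists_integral_inj_algHom_of_fg k R
  have hT : AlgebraicIndependent k (fun i => g₀ (MvPolynomial.X i)) := by
    have := (MvPolynomial.algebraicIndependent_X (Fin s) k).map' (f := g₀) hinj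
    exact this
  choose P hP0 hPm using fun i : Fin s => halg (g₀ (MvPolynomial.X i))
  -- the `P i` are non-constant
  have hdeg : ∀ i, 0 < (P i).natDegree := by
    intro i
    by_contra hcon
    have h0 : (P i).natDegree = 0 := by omega
    obtain ⟨a, ha⟩ := Polynomial.natDegree_eq_zero.mp h0
    have ha0 : a ≠ 0 := by
      rintro rfl
      exact hP0 i (by rw [← ha]; simp)
    have := hPm i
    rw [← ha, Polynomial.aeval_C] at this
    apply h𝔪.ne_top
    rw [Ideal.eq_top_iff_one]
    have hu : IsUnit (algebraMap k R a) := (IsUnit.mk0 a ha0).map _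
    obtain ⟨u, hu⟩ := hu
    have : (↑u⁻¹ : R) * algebraMap k R a ∈ 𝔪 := 𝔪.mul_mem_left _ this
    rwa [← hu, Units.inv_mul] at this
  have htr : ∀ i, Transcendental k (P i) := by
    intro i
    have hne : (P i).natDegree ≠ 0 := by have := hdeg i; omega
    have h := (Polynomial.transcendental_X (R := k)).aeval (P i) hne
    rw [Polynomial.aeval_X_left_apply] at h
    apply h
    rw [mem_nonZeroDivisors_iff_ne_zero, Ne, Polynomial.leadingCoeff_eq_zero]
    exact hP0 i
  refine ⟨s, fun i => Polynomial.aeval (g₀ (MvPolynomial.X i)) (P i), hPm,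
    hT.polynomial_aeval_of_transcendental htr, ?_⟩
  have hfac : (MvPolynomial.aeval (fun i => Polynomial.aeval (g₀ (MvPolynomial.X i)) (P i)) :
      MvPolynomial (Fin s) k →ₐ[k] R) = g₀.comp
        (MvPolynomial.aeval (fun i => Polynomial.aeval
          (MvPolynomial.X i : MvPolynomial (Fin s) k) (P i))) := by
    apply MvPolynomial.algHom_ext
    intro i
    simp [Polynomial.aeval_algHom_apply]
  rw [hfac]
  exact (isIntegral_aeval_polynomial P hdeg).trans _ _ hfin

/-- Lifting a prime through an isomorphism of localizations away from an element. -/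
theorem exists_prime_le_comap_eq_of_awayMap_bijective {C B : Type u} [CommRing C] [CommRing B]
    (f : C →+* B) (r : C) (hbij : Function.Bijective (Localization.awayMap f r))
    (Q : Ideal B) [hQ : Q.IsPrime] (hr : f r ∉ Q) (P₀ : Ideal C) [hP₀ : P₀.IsPrime]
    (hle : P₀ ≤ Q.comap f) : ∃ P : Ideal B, P.IsPrime ∧ P ≤ Q ∧ P.comap f = P₀ := by
  let e : Localization.Away r ≃+* Localization.Away (f r) := RingEquiv.ofBijective _ hbij
  have hdisj : Disjoint (Submonoid.powers r : Set C) (P₀ : Set C) := by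
    rw [Set.disjoint_left]
    rintro x ⟨n, rfl⟩ hx
    exact hr (hle (hP₀.mem_of_pow_mem n hx))
  have hdisjQ : Disjoint (Submonoid.powers (f r) : Set B) (Q : Set B) := by
    rw [Set.disjoint_left]
    rintro x ⟨n, rfl⟩ hx
    exact hr (hQ.mem_of_pow_mem n hx)
  have hP₀' : (P₀.map (algebraMap C (Localization.Away r))).IsPrime :=
    IsLocalization.isPrime_of_isPrime_disjoint (Submonoid.powers r) _ P₀ hP₀ hdisj
  have hcomm : (algebraMap B (Localization.Away (f r))).comp f =
      (e : Localization.Away r →+* Localization.Away (f r)).comp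
        (algebraMap C (Localization.Away r)) := by
    ext x
    simp [e, Localization.awayMap, IsLocalization.Away.map, IsLocalization.map_eq]
  have hcomm' : (e.symm : Localization.Away (f r) →+* Localization.Away r).comp
      ((algebraMap B (Localization.Away (f r))).comp f) = algebraMap C (Localization.Away r) := by
    rw [hcomm]
    ext x
    simp
  refine ⟨((P₀.map (algebraMap C (Localization.Away r))).comap
    (e.symm : Localization.Away (f r) →+* Localization.Away r)).comap
      (algebraMap B (Localization.Away (f r))), inferInstance, ?_, ?_⟩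
  · have hQ' : (Q.map (algebraMap B (Localization.Away (f r)))).comap
        (algebraMap B (Localization.Away (f r))) = Q :=
      IsLocalization.under_map_of_isPrime_disjoint (Submonoid.powers (f r)) _ hQ hdisjQ
    rw [← hQ']
    apply Ideal.comap_mono
    intro x hx
    rw [Ideal.mem_comap] at hx
    have hle' : P₀.map (algebraMap C (Localization.Away r)) ≤
        (Q.map (algebraMap B (Localization.Away (f r)))).comap
          (e : Localization.Away r →+* Localization.Away (f r)) := by
      rw [Ideal.map_le_iff_le_comap, Ideal.comap_comap, ← hcomm, ← Ideal.comap_comap, hQ']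
      exact hle
    have := hle' hx
    rw [Ideal.mem_comap] at this
    simpa using this
  · rw [Ideal.comap_comap, Ideal.comap_comap, hcomm']
    exact IsLocalization.under_map_of_isPrime_disjoint (Submonoid.powers r) _ hP₀ hdisj

/-- Zariski's main theorem plus going down: lifting generizations in the base to a point at
which the algebra is quasi-finite. -/
theorem exists_prime_le_of_weaklyQuasiFiniteAt {R B : Type u} [CommRing R] [IsDomain R]
    [IsIntegrallyClosed R] [CommRing B] [IsDomain B] [Algebra R B] [FaithfulSMul R B]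
    [Algebra.FiniteType R B] (q' : Ideal B) [q'.IsPrime] [Algebra.WeaklyQuasiFiniteAt R q'] :
    ∃ r : B, r ∉ q' ∧ (∀ b : B, ∃ j : ℕ, IsIntegral R (r ^ j * b)) ∧
      ∀ (p : Ideal R), p.IsPrime → p ≤ q'.under R →
        ∃ P : Ideal B, P.IsPrime ∧ P ≤ q' ∧ P.under R = p := by
  obtain ⟨r, hr, hbij⟩ :=
    Algebra.ZariskisMainProperty.of_finiteType_of_weaklyQuasiFiniteAt (R := R) q'
  have hfaith : FaithfulSMul R (integralClosure R B) := by
    rw [faithfulSMul_iff_algebraMap_injective]
    intro x y hxy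
    apply FaithfulSMul.algebraMap_injective R B
    have := congrArg (integralClosure R B).val hxy
    simpa using this
  have hGD : Algebra.HasGoingDown R (integralClosure R B) := inferInstance
  have hover : (q'.comap (integralClosure R B).val.toRingHom).LiesOver (q'.under R) := by
    constructor
    ext x
    simp [Ideal.under, Ideal.mem_comap]
  refine ⟨r.1, hr, ?_, ?_⟩
  · intro b
    obtain ⟨c, m, hc⟩ := Localization.awayMap_surjective_iff.mp hbij.2 b
    refine ⟨m, ?_⟩
    have : r.1 ^ m * b = c.1 := by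
      simpa using hc.symm
    rw [this]
    exact c.2
  · intro p hpprime hp
    obtain ⟨P₀, hP₀le, hP₀prime, hP₀over⟩ := Ideal.exists_ideal_le_liesOver_of_le (p := p)
      (q := q'.under R) (q'.comap (integralClosure R B).val.toRingHom) hp
    obtain ⟨P, hPprime, hPle, hPcomap⟩ := exists_prime_le_comap_eq_of_awayMap_bijective
      (integralClosure R B).val.toRingHom r hbij q' hr P₀ hP₀le
    refine ⟨P, hPprime, hPle, ?_⟩
    rw [hP₀over.over, ← hPcomap]
    ext x
    simp [Ideal.under, Ideal.mem_comap]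

/-- In a valuation ring, a nonempty finite set has an element dividing all the others. -/
theorem exists_dvd_all_of_finset {A : Type u} [CommRing A] [IsDomain A] [ValuationRing A]
    (S : Finset A) (hS : S.Nonempty) : ∃ x ∈ S, ∀ y ∈ S, x ∣ y := by
  classical
  induction S using Finset.induction_on with
  | empty => exact absurd hS (by simp)
  | insert a S' ha ih =>
    by_cases hS' : S'.Nonempty
    · obtain ⟨x, hx, hxd⟩ := ih hS'
      rcases ValuationRing.dvd_total a x with h | h
      · refine ⟨a, Finset.mem_insert_self _ _, ?_⟩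
        intro y hy
        rcases Finset.mem_insert.mp hy with rfl | hy
        · exact dvd_rfl
        · exact h.trans (hxd y hy)
      · refine ⟨x, Finset.mem_insert_of_mem hx, ?_⟩
        intro y hy
        rcases Finset.mem_insert.mp hy with rfl | hy
        · exact h
        · exact hxd y hy
    · rw [Finset.not_nonempty_iff_eq_empty] at hS'
      subst hS'
      exact ⟨a, by simp, by simp⟩

/-- Primitive part of a nonzero polynomial over a valuation ring. -/
theorem exists_primitive_part {A : Type u} [CommRing A] [IsDomain A] [ValuationRing A]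
    {σ : Type*} (F : MvPolynomial σ A) (hF : F ≠ 0) :
    ∃ (a : A) (F₁ : MvPolynomial σ A), a ≠ 0 ∧ F = MvPolynomial.C a * F₁ ∧
      ∃ d, MvPolynomial.coeff d F₁ = 1 := by
  classical
  have hne : (F.support.image (fun d => MvPolynomial.coeff d F)).Nonempty := by
    rw [Finset.image_nonempty]
    exact MvPolynomial.support_nonempty.mpr hF
  obtain ⟨a, ha, hdvd⟩ := exists_dvd_all_of_finset _ hne
  obtain ⟨d₀, hd₀, rfl⟩ := Finset.mem_image.mp ha
  have ha0 : MvPolynomial.coeff d₀ F ≠ 0 := MvPolynomial.mem_support_iff.mp hd₀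
  have hall : ∀ d, MvPolynomial.coeff d₀ F ∣ MvPolynomial.coeff d F := by
    intro d
    by_cases hd : d ∈ F.support
    · exact hdvd _ (Finset.mem_image_of_mem _ hd)
    · rw [MvPolynomial.notMem_support_iff.mp hd]
      exact dvd_zero _
  choose c hc using hall
  refine ⟨MvPolynomial.coeff d₀ F, ∑ d ∈ F.support, MvPolynomial.monomial d (c d), ha0, ?_,
    d₀, ?_⟩
  · rw [Finset.mul_sum]
    conv_lhs => rw [← MvPolynomial.support_sum_monomial_coeff F]
    refine Finset.sum_congr rfl fun d _ => ?_
    rw [MvPolynomial.C_mul_monomial, ← hc d]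
  · rw [MvPolynomial.coeff_sum]
    simp only [MvPolynomial.coeff_monomial]
    rw [Finset.sum_ite_eq' F.support d₀ (fun d => c d), if_pos hd₀]
    have := hc d₀
    have h1 : MvPolynomial.coeff d₀ F * 1 = MvPolynomial.coeff d₀ F * c d₀ := by
      rw [mul_one]; exact this
    exact (mul_left_cancel₀ ha0 h1).symm

/-- Polynomial rings in finitely many variables over an integrally closed domain are integrally
closed. -/
theorem isIntegrallyClosed_mvPolynomial_fin (A : Type u) [CommRing A] [IsDomain A]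
    [IsIntegrallyClosed A] (n : ℕ) : IsIntegrallyClosed (MvPolynomial (Fin n) A) := by
  induction n with
  | zero =>
    exact IsIntegrallyClosed.of_equiv (MvPolynomial.isEmptyAlgEquiv A (Fin 0)).symm.toRingEquiv
  | succ n ih =>
    exact IsIntegrallyClosed.of_equiv (MvPolynomial.finSuccEquiv A n).symm.toRingEquiv

/-- A nonzero maximal ideal of a local domain is infinite. -/
theorem infinite_maximalIdeal {A : Type u} [CommRing A] [IsDomain A] [IsLocalRing A]
    (hm : IsLocalRing.maximalIdeal A ≠ ⊥) : (IsLocalRing.maximalIdeal A : Set A).Infinite := by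
  obtain ⟨a, ha, ha0⟩ := Submodule.exists_mem_ne_zero_of_ne_bot hm
  have hinf : Infinite A := by
    by_contra hfin
    rw [not_infinite_iff_finite] at hfin
    have hfield : IsField A := Finite.isField_of_domain A
    exact hm (IsLocalRing.isField_iff_maximalIdeal_eq.mp hfield)
  refine Set.infinite_of_injective_forall_mem (f := fun x : A => a * x) (mul_right_injective₀ ha0) ?_
  intro x
  exact Ideal.mul_mem_right _ _ ha

/-- The valuation ring case. -/
theorem exists_prime_of_valuationRing {A B : Type u} [CommRing A] [IsDomain A] [ValuationRing A]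
    [CommRing B] [IsDomain B] [Algebra A B] [Algebra.FiniteType A B]
    (hinj : Function.Injective (algebraMap A B))
    (q' : Ideal B) [hq'p : q'.IsPrime]
    (hm : IsLocalRing.maximalIdeal A ≠ ⊥)
    (hq' : (IsLocalRing.maximalIdeal A).map (algebraMap A B) ≤ q')
    (halg : ∀ b : B, ∃ P : Polynomial A, (∃ i, P.coeff i ∉ IsLocalRing.maximalIdeal A) ∧
      Polynomial.aeval b P ∈ q')
    (g : B) (hg : g ≠ 0) :
    ∃ q₁ : Ideal B, q₁.IsPrime ∧ q₁ ≤ q' ∧ q₁.comap (algebraMap A B) = ⊥ ∧ g ∉ q₁ ∧
      ∀ b ∉ q₁, ∃ a : A, a ≠ 0 ∧ ∃ b₂ : B, algebraMap A B a - b * b₂ ∈ q₁ := by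
  classical
  set m := IsLocalRing.maximalIdeal A with hm_def
  set I := m.map (algebraMap A B) with hI
  have hItop : I ≠ ⊤ := fun h => hq'p.ne_top (top_le_iff.mp (h ▸ hq'))
  have hIcomap : I.comap (algebraMap A B) = m := by
    symm
    refine Ideal.IsMaximal.eq_of_le (IsLocalRing.maximalIdeal.isMaximal A) ?_ Ideal.le_comap_map
    intro h
    apply hItop
    rw [Ideal.eq_top_iff_one]
    have : (1 : A) ∈ I.comap (algebraMap A B) := h ▸ Submodule.mem_top
    simpa using this
  have hmax : (I.comap (algebraMap A B)).IsMaximal := hIcomap ▸ IsLocalRing.maximalIdeal.isMaximal A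
  let _ : Field (A ⧸ I.comap (algebraMap A B)) := Ideal.Quotient.field _
  have hfin : Algebra.FiniteType (A ⧸ I.comap (algebraMap A B)) (B ⧸ I) :=
    Algebra.FiniteType.of_restrictScalars_finiteType A _ _
  have hnontriv : Nontrivial (B ⧸ I) := Ideal.Quotient.nontrivial_iff.mpr hItop
  have h𝔪 : (q'.map (Ideal.Quotient.mk I)).IsPrime :=
    Ideal.map_isPrime_of_surjective Ideal.Quotient.mk_surjective (by rw [Ideal.mk_ker]; exact hq')
  have h𝔪mem : ∀ b, Ideal.Quotient.mk I b ∈ q'.map (Ideal.Quotient.mk I) ↔ b ∈ q' :=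
    fun b => Ideal.mem_quotient_iff_mem hq'
  have halg' : ∀ x : B ⧸ I, ∃ P : Polynomial (A ⧸ I.comap (algebraMap A B)), P ≠ 0 ∧
      Polynomial.aeval x P ∈ q'.map (Ideal.Quotient.mk I) := by
    intro x
    obtain ⟨b, rfl⟩ := Ideal.Quotient.mk_surjective x
    obtain ⟨P, ⟨i, hi⟩, hP⟩ := halg b
    refine ⟨P.map (Ideal.Quotient.mk (I.comap (algebraMap A B))), ?_, ?_⟩
    · intro h0
      have := congrArg (fun p => p.coeff i) h0
      simp only [Polynomial.coeff_map, Polynomial.coeff_zero, Ideal.Quotient.eq_zero_iff_mem,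
        hIcomap] at this
      exact hi this
    · have : Polynomial.aeval (Ideal.Quotient.mk I b) (P.map (Ideal.Quotient.mk (I.comap (algebraMap A B)))) =
          Ideal.Quotient.mk I (Polynomial.aeval b P) := by
        rw [Polynomial.aeval_def, Polynomial.eval₂_map, Polynomial.aeval_def, Polynomial.hom_eval₂]
        rfl
      rw [this, h𝔪mem]
      exact hP
  obtain ⟨s, yb, hybm, hybind, hybint⟩ := exists_algebraicIndependent_integral
    (k := A ⧸ I.comap (algebraMap A B)) (R := B ⧸ I) (q'.map (Ideal.Quotient.mk I)) halg'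
  have hlift : ∀ i, ∃ Y : B, Y ∈ q' ∧ Ideal.Quotient.mk I Y = yb i := by
    intro i
    obtain ⟨Y, hY⟩ := Ideal.Quotient.mk_surjective (yb i)
    exact ⟨Y, (h𝔪mem Y).mp (hY ▸ hybm i), hY⟩
  choose Y hYq hYyb using hlift
  let φ : MvPolynomial (Fin s) A →ₐ[A] B := MvPolynomial.aeval Y
  have hcompat : (Ideal.Quotient.mk I).comp φ.toRingHom =
      (MvPolynomial.aeval yb : MvPolynomial (Fin s) (A ⧸ I.comap (algebraMap A B)) →ₐ[_]
        B ⧸ I).toRingHom.comp
        (MvPolynomial.map (Ideal.Quotient.mk (I.comap (algebraMap A B)))) := by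
    apply MvPolynomial.ringHom_ext
    · intro a
      simp [φ]
    · intro i
      simp [φ, hYyb]
  -- injectivity of `φ`
  have hφinj : Function.Injective φ := by
    rw [injective_iff_map_eq_zero]
    intro F hF0
    by_contra hFne
    obtain ⟨a, F₁, ha0, hFa, d, hd⟩ := exists_primitive_part F hFne
    have h1 : φ F₁ = 0 := by
      have : algebraMap A B a * φ F₁ = 0 := by
        rw [← hF0, hFa, map_mul]
        simp [φ]
      rcases mul_eq_zero.mp this with h | h
      · exact absurd (hinj (h.trans (map_zero _).symm)) ha0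
      · exact h
    have h2 : (MvPolynomial.aeval yb) (MvPolynomial.map
        (Ideal.Quotient.mk (I.comap (algebraMap A B))) F₁) = 0 := by
      have := RingHom.congr_fun hcompat F₁
      simp only [RingHom.comp_apply] at this
      erw [← this]
      erw [h1]
      exact map_zero _
    have h3 := hybind.eq_zero_of_aeval_eq_zero _ h2
    have h4 := congrArg (MvPolynomial.coeff d) h3
    rw [MvPolynomial.coeff_map, hd, map_one] at h4
    simp at h4
  let _ : Algebra (MvPolynomial (Fin s) A) B := φ.toRingHom.toAlgebra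
  have halgmap : ∀ F : MvPolynomial (Fin s) A, algebraMap (MvPolynomial (Fin s) A) B F = φ F :=
    fun _ => rfl
  have htower : IsScalarTower A (MvPolynomial (Fin s) A) B :=
    IsScalarTower.of_algebraMap_eq' φ.comp_algebraMap.symm
  have hfaith : FaithfulSMul (MvPolynomial (Fin s) A) B :=
    (faithfulSMul_iff_algebraMap_injective _ _).mpr hφinj
  have hft : Algebra.FiniteType (MvPolynomial (Fin s) A) B :=
    Algebra.FiniteType.of_restrictScalars_finiteType A _ _
  have hic : IsIntegrallyClosed (MvPolynomial (Fin s) A) := isIntegrallyClosed_mvPolynomial_fin A s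
  -- weak quasi-finiteness at `q'`
  set n := q'.under (MvPolynomial (Fin s) A) with hn
  have hIn : I ≤ n.map (algebraMap (MvPolynomial (Fin s) A) B) := by
    rw [hI, Ideal.map_le_iff_le_comap]
    intro a ha
    rw [Ideal.mem_comap]
    have h1 : algebraMap A B a = algebraMap (MvPolynomial (Fin s) A) B (MvPolynomial.C a) := by
      rw [halgmap]
      simp [φ]
    rw [h1]
    apply Ideal.mem_map_of_mem
    rw [hn, Ideal.under_def, Ideal.mem_comap, ← h1]
    exact hq' (Ideal.mem_map_of_mem _ ha)
  have hint : (algebraMap (MvPolynomial (Fin s) A)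
      (B ⧸ n.map (algebraMap (MvPolynomial (Fin s) A) B))).IsIntegral := by
    have : algebraMap (MvPolynomial (Fin s) A)
        (B ⧸ n.map (algebraMap (MvPolynomial (Fin s) A) B)) =
        (Ideal.Quotient.factor hIn).comp ((MvPolynomial.aeval yb : MvPolynomial (Fin s)
          (A ⧸ I.comap (algebraMap A B)) →ₐ[_] B ⧸ I).toRingHom.comp
        (MvPolynomial.map (Ideal.Quotient.mk (I.comap (algebraMap A B))))) := by
      rw [← hcompat]
      refine RingHom.ext fun F => ?_
      rfl
    rw [this]
    refine RingHom.IsIntegral.trans _ _ (RingHom.IsIntegral.trans _ _ ?_ hybint) ?_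
    · exact RingHom.isIntegral_of_surjective _
        (MvPolynomial.map_surjective _ Ideal.Quotient.mk_surjective)
    · exact RingHom.isIntegral_of_surjective _ (Ideal.Quotient.factor_surjective hIn)
  have hint' : Algebra.IsIntegral (MvPolynomial (Fin s) A)
      (B ⧸ n.map (algebraMap (MvPolynomial (Fin s) A) B)) := ⟨hint⟩
  have hmodfin : Module.Finite (MvPolynomial (Fin s) A)
      (B ⧸ n.map (algebraMap (MvPolynomial (Fin s) A) B)) := Algebra.IsIntegral.finite
  have hwqf : Algebra.WeaklyQuasiFiniteAt (MvPolynomial (Fin s) A) q' := by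
    unfold Algebra.WeaklyQuasiFiniteAt Algebra.QuasiFiniteAt
    infer_instance
  obtain ⟨r, hr, hrint, hGD⟩ := exists_prime_le_of_weaklyQuasiFiniteAt
    (R := MvPolynomial (Fin s) A) q'
  have hr0 : r ≠ 0 := fun h => hr (h ▸ q'.zero_mem)
  -- a nonzero polynomial `N` with `g ∣ φ N`
  obtain ⟨j, hj⟩ := hrint g
  have hx0 : r ^ j * g ≠ 0 := mul_ne_zero (pow_ne_zero _ hr0) hg
  have hNex := Ideal.comap_ne_bot_of_integral_mem (R := MvPolynomial (Fin s) A)
    (I := Ideal.span {g}) hx0 (Ideal.mul_mem_left _ _ (Ideal.mem_span_singleton_self g)) hj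
  obtain ⟨N, hN, hN0⟩ := Submodule.exists_mem_ne_zero_of_ne_bot hNex
  have hexc : ∃ c : Fin s → A, (∀ i, c i ∈ m) ∧ MvPolynomial.eval c N ≠ 0 := by
    by_contra hcon
    push Not at hcon
    apply hN0
    apply MvPolynomial.funext_set (fun _ => (m : Set A)) (fun _ => infinite_maximalIdeal hm)
    intro x hx
    rw [map_zero]
    exact hcon x (fun i => hx i (Set.mem_univ i))
  obtain ⟨c, hcm, hcN⟩ := hexc
  have hQc : (RingHom.ker (MvPolynomial.eval c : MvPolynomial (Fin s) A →+* A)).IsPrime :=
    RingHom.ker_isPrime _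
  have hQcn : RingHom.ker (MvPolynomial.eval c : MvPolynomial (Fin s) A →+* A) ≤ n := by
    intro F hF
    rw [RingHom.mem_ker] at hF
    have hcomp : (Ideal.Quotient.mk q').comp φ.toRingHom =
        ((Ideal.Quotient.mk q').comp (algebraMap A B)).comp (MvPolynomial.eval c) := by
      apply MvPolynomial.ringHom_ext
      · intro a
        simp [φ]
      · intro i
        simp only [RingHom.comp_apply, MvPolynomial.eval_X]
        rw [Ideal.Quotient.eq_zero_iff_mem.mpr (hq' (Ideal.mem_map_of_mem _ (hcm i)))]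
        have : φ.toRingHom (MvPolynomial.X i) = Y i := by simp [φ]
        rw [this]
        exact Ideal.Quotient.eq_zero_iff_mem.mpr (hYq i)
    have := RingHom.congr_fun hcomp F
    simp only [RingHom.comp_apply] at this
    rw [hF, map_zero, map_zero] at this
    rw [hn, Ideal.under_def, Ideal.mem_comap, halgmap]
    exact Ideal.Quotient.eq_zero_iff_mem.mp this
  obtain ⟨P, hPprime, hPle, hPunder⟩ := hGD _ hQc hQcn
  have hPmem : ∀ F : MvPolynomial (Fin s) A, φ F ∈ P ↔ MvPolynomial.eval c F = 0 := by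
    intro F
    rw [← halgmap, ← Ideal.mem_comap, ← Ideal.under_def, hPunder, RingHom.mem_ker]
  refine ⟨P, hPprime, hPle, ?_, ?_, ?_⟩
  · ext a
    rw [Ideal.mem_comap, Ideal.mem_bot]
    have h1 : algebraMap A B a = φ (MvPolynomial.C a) := by simp [φ]
    rw [h1, hPmem, MvPolynomial.eval_C]
  · intro hgP
    apply hcN
    rw [← hPmem, ← halgmap]
    have hle : Ideal.span {g} ≤ P := (Ideal.span_singleton_le_iff_mem _).mpr hgP
    exact hle hN
  · intro b hb
    obtain ⟨j, hj⟩ := hrint b
    have hrP : r ∉ P := fun h => hr (hPle h)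
    have hx : IsIntegral (MvPolynomial (Fin s) A) (Ideal.Quotient.mk P (r ^ j * b)) :=
      hj.map (Ideal.Quotient.mkₐ (MvPolynomial (Fin s) A) P)
    have hfac : algebraMap (MvPolynomial (Fin s) A) (B ⧸ P) =
        (algebraMap A (B ⧸ P)).comp (MvPolynomial.eval c) := by
      apply MvPolynomial.ringHom_ext
      · intro a
        simp only [RingHom.comp_apply, MvPolynomial.eval_C]
        rw [← MvPolynomial.algebraMap_eq, ← IsScalarTower.algebraMap_apply]
      · intro i
        simp only [RingHom.comp_apply, MvPolynomial.eval_X]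
        rw [IsScalarTower.algebraMap_apply (MvPolynomial (Fin s) A) B (B ⧸ P),
          IsScalarTower.algebraMap_apply A B (B ⧸ P), Ideal.Quotient.algebraMap_eq,
          ← sub_eq_zero, ← map_sub, Ideal.Quotient.eq_zero_iff_mem]
        have h1 : algebraMap (MvPolynomial (Fin s) A) B (MvPolynomial.X i) - algebraMap A B (c i) =
            φ (MvPolynomial.X i - MvPolynomial.C (c i)) := by
          rw [halgmap, map_sub]
          simp [φ]
        rw [h1, hPmem]
        simp
    have hxA : IsIntegral A (Ideal.Quotient.mk P (r ^ j * b)) := by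
      have h' : (algebraMap (MvPolynomial (Fin s) A) (B ⧸ P)).IsIntegralElem
        (Ideal.Quotient.mk P (r ^ j * b)) := hx
      rw [hfac] at h'
      exact RingHom.IsIntegralElem.of_comp h'
    have hx0 : Ideal.Quotient.mk P (r ^ j * b) ≠ 0 := by
      rw [Ne, Ideal.Quotient.eq_zero_iff_mem]
      intro h
      rcases hPprime.mem_or_mem h with h | h
      · exact hrP (hPprime.mem_of_pow_mem _ h)
      · exact hb h
    have hdom : IsDomain (B ⧸ P) := Ideal.Quotient.isDomain P
    have hne := Ideal.comap_ne_bot_of_integral_mem (R := A)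
      (I := Ideal.span {Ideal.Quotient.mk P (r ^ j * b)}) hx0
      (Ideal.mem_span_singleton_self _) hxA
    obtain ⟨a, ha, ha0⟩ := Submodule.exists_mem_ne_zero_of_ne_bot hne
    rw [Ideal.mem_comap, Ideal.mem_span_singleton] at ha
    obtain ⟨d, hd⟩ := ha
    obtain ⟨b₃, rfl⟩ := Ideal.Quotient.mk_surjective d
    refine ⟨a, ha0, r ^ j * b₃, ?_⟩
    rw [← Ideal.Quotient.eq_zero_iff_mem, map_sub, sub_eq_zero]
    rw [IsScalarTower.algebraMap_apply A B (B ⧸ P), Ideal.Quotient.algebraMap_eq] at hd
    rw [hd, ← map_mul]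
    congr 1
    ring

open TensorProduct

attribute [local instance] Algebra.TensorProduct.rightAlgebra in
/-- A finite type extension of domains in which every nonzero prime has nonzero contraction is
algebraic. -/
theorem isAlgebraic_of_forall_comap_ne_bot {A D : Type u} [CommRing A] [IsDomain A] [CommRing D]
    [IsDomain D] [Algebra A D] [Algebra.FiniteType A D]
    (hinj : Function.Injective (algebraMap A D))
    (H : ∀ Q : Ideal D, Q.IsPrime → Q ≠ ⊥ → Q.comap (algebraMap A D) ≠ ⊥) :
    Algebra.IsAlgebraic A D := by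
  let K := FractionRing A
  let T := K ⊗[A] D
  have hloc : IsLocalization (Algebra.algebraMapSubmonoid D (nonZeroDivisors A)) T :=
    IsLocalization.tensorRight (S := D) (A := K) (nonZeroDivisors A)
  have hMle : Algebra.algebraMapSubmonoid D (nonZeroDivisors A) ≤ nonZeroDivisors D := by
    rintro _ ⟨a, ha, rfl⟩
    have ha' : a ≠ 0 := nonZeroDivisors.ne_zero ha
    rw [mem_nonZeroDivisors_iff_ne_zero]
    exact fun h => ha' (hinj (h.trans (map_zero _).symm))
  have hDT : Function.Injective (algebraMap D T) := IsLocalization.injective T hMle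
  -- every prime of `T` is zero
  have hprime : ∀ 𝔓 : Ideal T, 𝔓.IsPrime → 𝔓 = ⊥ := by
    intro 𝔓 h𝔓
    have hQ : (𝔓.comap (algebraMap D T)) = ⊥ := by
      by_contra hne
      have := H _ inferInstance hne
      obtain ⟨a, ha, ha0⟩ := Submodule.exists_mem_ne_zero_of_ne_bot this
      rw [Ideal.mem_comap, Ideal.mem_comap] at ha
      have hu : IsUnit (algebraMap D T (algebraMap A D a)) :=
        IsLocalization.map_units T (M := Algebra.algebraMapSubmonoid D (nonZeroDivisors A))
          ⟨algebraMap A D a, ⟨a, mem_nonZeroDivisors_of_ne_zero ha0, rfl⟩⟩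
      exact h𝔓.ne_top (Ideal.eq_top_of_isUnit_mem _ ha hu)
    rw [← IsLocalization.map_under (Algebra.algebraMapSubmonoid D (nonZeroDivisors A)) T 𝔓,
      Ideal.under_def, hQ, Ideal.map_bot]
  have hsub : Subsingleton (PrimeSpectrum T) := by
    constructor
    intro x y
    ext1
    rw [hprime x.asIdeal x.2, hprime y.asIdeal y.2]
  have hqf : Algebra.QuasiFinite K T := by
    rw [Algebra.QuasiFinite.iff_finite_comap_preimage_singleton]
    intro P
    exact Set.subsingleton_of_subsingleton.finite
  have hfin : Module.Finite K T := Module.Finite.of_quasiFinite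
  have hint : Algebra.IsIntegral K T := inferInstance
  constructor
  intro d
  have h1 : IsAlgebraic K (algebraMap D T d) := (hint.isIntegral _).isAlgebraic
  have h2 : IsAlgebraic A (algebraMap D T d) := (IsFractionRing.isAlgebraic_iff A K T).mpr h1
  exact (isAlgebraic_algebraMap_iff hDT).mp h2

/-- A prime maximal in its fibre has algebraic residue ring over the base residue ring. -/
theorem isAlgebraic_quotient_of_maximal_in_fibre {A B : Type u} [CommRing A] [CommRing B]
    [Algebra A B] [Algebra.FiniteType A B] (q' : Ideal B) [hq' : q'.IsPrime]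
    (hmax : ∀ q'' : Ideal B, q''.IsPrime → q' ≤ q'' →
      q''.comap (algebraMap A B) = q'.comap (algebraMap A B) → q'' = q') :
    Algebra.IsAlgebraic (A ⧸ q'.comap (algebraMap A B)) (B ⧸ q') := by
  have hdomA : IsDomain (A ⧸ q'.comap (algebraMap A B)) := Ideal.Quotient.isDomain _
  have hdomD : IsDomain (B ⧸ q') := Ideal.Quotient.isDomain _
  have hinj : Function.Injective (algebraMap (A ⧸ q'.comap (algebraMap A B)) (B ⧸ q')) :=
    Ideal.algebraMap_quotient_injective
  have hft : Algebra.FiniteType (A ⧸ q'.comap (algebraMap A B)) (B ⧸ q') :=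
    .of_restrictScalars_finiteType A _ _
  refine isAlgebraic_of_forall_comap_ne_bot hinj ?_
  intro Q hQ hQne hcon
  apply hQne
  have hle : q' ≤ Q.comap (Ideal.Quotient.mk q') := by
    intro b hb
    rw [Ideal.mem_comap, Ideal.Quotient.eq_zero_iff_mem.mpr hb]
    exact Q.zero_mem
  have hcomap : (Q.comap (Ideal.Quotient.mk q')).comap (algebraMap A B) =
      q'.comap (algebraMap A B) := by
    ext a
    rw [Ideal.mem_comap, Ideal.mem_comap]
    have h1 : Ideal.Quotient.mk q' (algebraMap A B a) =
        algebraMap (A ⧸ q'.comap (algebraMap A B)) (B ⧸ q')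
          (Ideal.Quotient.mk (q'.comap (algebraMap A B)) a) := rfl
    rw [h1, ← Ideal.mem_comap, hcon, Ideal.mem_bot, Ideal.Quotient.eq_zero_iff_mem]
  have := hmax _ inferInstance hle hcomap
  rw [← Ideal.map_comap_of_surjective (Ideal.Quotient.mk q') Ideal.Quotient.mk_surjective Q, this,
    Ideal.map_quotient_self]

theorem aeval_mk_map_mk {A B : Type u} [CommRing A] [CommRing B]
    [Algebra A B] (q' : Ideal B) (b : B) (P : Polynomial A) :
    Polynomial.aeval (Ideal.Quotient.mk q' b)
        (P.map (Ideal.Quotient.mk (q'.comap (algebraMap A B)))) =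
        Ideal.Quotient.mk q' (Polynomial.aeval b P) := by
  rw [Polynomial.aeval_def, Polynomial.eval₂_map, Polynomial.aeval_def, Polynomial.hom_eval₂]
  rfl

/-- From algebraicity of a residue class to an explicit polynomial. -/
theorem exists_polynomial_of_isAlgebraic {A B : Type u} [CommRing A] [CommRing B]
    [Algebra A B] (q' : Ideal B) (b : B)
    (h : IsAlgebraic (A ⧸ q'.comap (algebraMap A B)) (Ideal.Quotient.mk q' b)) :
    ∃ P : Polynomial A, (∃ i, P.coeff i ∉ q'.comap (algebraMap A B)) ∧
      Polynomial.aeval b P ∈ q' := by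
  obtain ⟨P, hP0, hP⟩ := h
  obtain ⟨P', rfl⟩ := Polynomial.map_surjective (Ideal.Quotient.mk (q'.comap (algebraMap A B)))
    Ideal.Quotient.mk_surjective P
  refine ⟨P', ?_, ?_⟩
  · by_contra hcon
    push Not at hcon
    apply hP0
    ext i
    rw [Polynomial.coeff_map, Polynomial.coeff_zero, Ideal.Quotient.eq_zero_iff_mem]
    exact hcon i
  · rw [← Ideal.Quotient.eq_zero_iff_mem, ← hP, aeval_mk_map_mk]

/-- From an explicit polynomial to algebraicity of a residue class. -/
theorem isAlgebraic_of_exists_polynomial {A B : Type u} [CommRing A] [CommRing B]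
    [Algebra A B] (q' : Ideal B) (b : B) (P : Polynomial A)
    (hP : ∃ i, P.coeff i ∉ q'.comap (algebraMap A B)) (hPb : Polynomial.aeval b P ∈ q') :
    IsAlgebraic (A ⧸ q'.comap (algebraMap A B)) (Ideal.Quotient.mk q' b) := by
  obtain ⟨i, hi⟩ := hP
  refine ⟨P.map (Ideal.Quotient.mk (q'.comap (algebraMap A B))), ?_, ?_⟩
  · intro h0
    have := congrArg (fun p => p.coeff i) h0
    simp only [Polynomial.coeff_map, Polynomial.coeff_zero, Ideal.Quotient.eq_zero_iff_mem] at this
    exact hi this
  · rw [aeval_mk_map_mk, Ideal.Quotient.eq_zero_iff_mem]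
    exact hPb

/-- A valuation ring of the fraction field dominating the localization at a prime. -/
theorem exists_valuationSubring_dominating {B : Type u} [CommRing B] [IsDomain B]
    (q' : Ideal B) [hq' : q'.IsPrime] :
    ∃ V : ValuationSubring (FractionRing B), (∀ b : B, algebraMap B (FractionRing B) b ∈ V) ∧
      ∀ b : B, b ∈ q' ↔ algebraMap B (FractionRing B) b ∈ V.nonunits := by
  have hunit : ∀ y : q'.primeCompl, IsUnit (algebraMap B (FractionRing B) y) := by
    intro y
    apply IsUnit.mk0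
    intro h0
    have : (y : B) = 0 := IsFractionRing.injective B (FractionRing B) (h0.trans (map_zero _).symm)
    exact y.2 (this ▸ q'.zero_mem)
  let f : Localization.AtPrime q' →+* FractionRing B :=
    IsLocalization.lift (M := q'.primeCompl) (g := algebraMap B (FractionRing B)) hunit
  obtain ⟨V, hV, hloc⟩ := IsLocalRing.exists_factor_valuationRing f
  have hfb : ∀ b : B, f (algebraMap B (Localization.AtPrime q') b) =
      algebraMap B (FractionRing B) b := fun b => IsLocalization.lift_eq _ _
  have hBV : ∀ b : B, algebraMap B (FractionRing B) b ∈ V := by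
    intro b
    rw [← hfb]
    exact hV _
  refine ⟨V, hBV, ?_⟩
  intro b
  have heq : (f.codRestrict V.toSubring hV) (algebraMap B (Localization.AtPrime q') b) =
      (⟨algebraMap B (FractionRing B) b, hBV b⟩ : V) := Subtype.ext (hfb b)
  rw [show algebraMap B (FractionRing B) b =
    ((⟨algebraMap B (FractionRing B) b, hBV b⟩ : V) : FractionRing B) from rfl,
    ValuationSubring.coe_mem_nonunits_iff, IsLocalRing.mem_maximalIdeal, mem_nonunits_iff, ← heq]
  constructor
  · intro hb hu
    have := hloc.map_nonunit _ hu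
    rw [IsLocalization.AtPrime.isUnit_to_map_iff (Localization.AtPrime q') q'] at this
    exact this hb
  · intro hnu
    by_contra hb
    apply hnu
    have : IsUnit (algebraMap B (Localization.AtPrime q') b) :=
      (IsLocalization.AtPrime.isUnit_to_map_iff (Localization.AtPrime q') q' b).mpr hb
    exact this.map _

/-- Reduction of the domain case to a valuation ring extension of the base. -/
theorem exists_prime_of_valuationRing_extension
    {A B A' B' : Type u} [CommRing A] [IsDomain A] [CommRing B] [IsDomain B] [Algebra A B]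
    [Algebra.FiniteType A B]
    [CommRing A'] [IsDomain A'] [ValuationRing A'] [CommRing B'] [IsDomain B'] [Algebra A' B']
    (hinj' : Function.Injective (algebraMap A' B'))
    (ιA : A →+* A') (ιB : B →+* B') (hιA : Function.Injective ιA) (hιB : Function.Injective ιB)
    (hcomm : ∀ a, ιB (algebraMap A B a) = algebraMap A' B' (ιA a))
    (hgen : Algebra.adjoin A' (Set.range ιB) = ⊤)
    (hden : ∀ a' : A', ∃ d n : A, d ≠ 0 ∧ ιA d * a' = ιA n)
    (q' : Ideal B) [hq'p : q'.IsPrime] (hp' : q'.comap (algebraMap A B) ≠ ⊥)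
    (hmax : ∀ q'' : Ideal B, q''.IsPrime → q' ≤ q'' →
      q''.comap (algebraMap A B) = q'.comap (algebraMap A B) → q'' = q')
    (q'' : Ideal B') [hq''p : q''.IsPrime] (hq'' : q''.comap ιB = q')
    (hq''A : q''.comap (algebraMap A' B') = IsLocalRing.maximalIdeal A')
    (g : B) (hg : g ≠ 0) :
    ∃ q₁ : Ideal B, q₁.IsPrime ∧ q₁ ≤ q' ∧ q₁.comap (algebraMap A B) = ⊥ ∧ g ∉ q₁ ∧
      ∀ b ∉ q₁, ∃ a : A, a ≠ 0 ∧ ∃ b₂ : B, algebraMap A B a - b * b₂ ∈ q₁ := by
  have hmem : ∀ b, ιB b ∈ q'' ↔ b ∈ q' := by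
    intro b
    rw [← hq'', Ideal.mem_comap]
  -- finite type
  have hft : Algebra.FiniteType A' B' := by
    obtain ⟨t, ht⟩ := Algebra.FiniteType.out (R := A) (A := B)
    constructor
    rw [Subalgebra.fg_def]
    refine ⟨ιB '' (t : Set B), t.finite_toSet.image _, ?_⟩
    rw [eq_top_iff, ← hgen]
    apply Algebra.adjoin_le
    rintro _ ⟨b, rfl⟩
    have hb : b ∈ Algebra.adjoin A (t : Set B) := ht ▸ Algebra.mem_top
    induction hb using Algebra.adjoin_induction with
    | mem x hx => exact Algebra.subset_adjoin ⟨x, hx, rfl⟩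
    | algebraMap a => rw [hcomm]; exact Subalgebra.algebraMap_mem _ _
    | add x y _ _ hx hy => rw [map_add]; exact Subalgebra.add_mem _ hx hy
    | mul x y _ _ hx hy => rw [map_mul]; exact Subalgebra.mul_mem _ hx hy
  -- the maximal ideal of `A'` is nonzero
  have hm' : IsLocalRing.maximalIdeal A' ≠ ⊥ := by
    obtain ⟨a₀, ha₀, ha₀0⟩ := Submodule.exists_mem_ne_zero_of_ne_bot hp'
    intro hbot
    have h1 : ιA a₀ ∈ IsLocalRing.maximalIdeal A' := by
      rw [← hq''A, Ideal.mem_comap, ← hcomm, hmem]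
      exact ha₀
    rw [hbot, Ideal.mem_bot] at h1
    exact ha₀0 (hιA (h1.trans (map_zero _).symm))
  have hq''m : (IsLocalRing.maximalIdeal A').map (algebraMap A' B') ≤ q'' := by
    rw [Ideal.map_le_iff_le_comap, hq''A]
  -- algebraicity of the residue ring
  have hdomκ : IsDomain (A' ⧸ q''.comap (algebraMap A' B')) := Ideal.Quotient.isDomain _
  have halgB := isAlgebraic_quotient_of_maximal_in_fibre (A := A) q' hmax
  have halg1 : ∀ b' : B', IsAlgebraic (A' ⧸ q''.comap (algebraMap A' B'))
      (Ideal.Quotient.mk q'' b') := by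
    intro b'
    have hb' : b' ∈ Algebra.adjoin A' (Set.range ιB) := hgen ▸ Algebra.mem_top
    induction hb' using Algebra.adjoin_induction with
    | mem x hx =>
      obtain ⟨b, rfl⟩ := hx
      obtain ⟨P, ⟨i, hi⟩, hP⟩ := exists_polynomial_of_isAlgebraic q' b (halgB.isAlgebraic _)
      refine isAlgebraic_of_exists_polynomial q'' (ιB b) (P.map ιA) ⟨i, ?_⟩ ?_
      · rw [Polynomial.coeff_map, Ideal.mem_comap, ← hcomm, hmem]
        exact hi
      · have : Polynomial.aeval (ιB b) (P.map ιA) = ιB (Polynomial.aeval b P) := by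
          rw [Polynomial.aeval_def, Polynomial.eval₂_map, Polynomial.aeval_def,
            Polynomial.hom_eval₂]
          congr 1
          ext a
          exact (hcomm a).symm
        rw [this, hmem]
        exact hP
    | algebraMap a' =>
      have : Ideal.Quotient.mk q'' (algebraMap A' B' a') =
          algebraMap (A' ⧸ q''.comap (algebraMap A' B')) (B' ⧸ q'')
            (Ideal.Quotient.mk _ a') := rfl
      rw [this]
      exact isAlgebraic_algebraMap _
    | add x y _ _ hx hy => rw [map_add]; exact hx.add hy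
    | mul x y _ _ hx hy => rw [map_mul]; exact hx.mul hy
  have halg' : ∀ b' : B', ∃ P : Polynomial A', (∃ i, P.coeff i ∉ IsLocalRing.maximalIdeal A') ∧
      Polynomial.aeval b' P ∈ q'' := by
    intro b'
    have := exists_polynomial_of_isAlgebraic q'' b' (halg1 b')
    rwa [hq''A] at this
  have hg' : ιB g ≠ 0 := fun h => hg (hιB (h.trans (map_zero _).symm))
  obtain ⟨q₁', hq₁'p, hq₁'le, hq₁'A, hgq₁', hq₁'cl⟩ :=
    exists_prime_of_valuationRing hinj' q'' hm' hq''m halg' (ιB g) hg'
  -- denominators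
  have hDen : ∀ b' : B', ∃ d : A, d ≠ 0 ∧ ∃ b : B, ιB (algebraMap A B d) * b' = ιB b := by
    intro b'
    have hb' : b' ∈ Algebra.adjoin A' (Set.range ιB) := hgen ▸ Algebra.mem_top
    induction hb' using Algebra.adjoin_induction with
    | mem x hx =>
      obtain ⟨b, rfl⟩ := hx
      exact ⟨1, one_ne_zero, b, by simp⟩
    | algebraMap a' =>
      obtain ⟨d, n, hd, hdn⟩ := hden a'
      refine ⟨d, hd, algebraMap A B n, ?_⟩
      rw [hcomm, hcomm, ← map_mul, hdn]
    | add x y _ _ hx hy =>
      obtain ⟨d₁, hd₁, b₁, h₁⟩ := hx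
      obtain ⟨d₂, hd₂, b₂, h₂⟩ := hy
      refine ⟨d₁ * d₂, mul_ne_zero hd₁ hd₂, algebraMap A B d₂ * b₁ + algebraMap A B d₁ * b₂, ?_⟩
      simp only [map_add, map_mul]
      rw [← h₁, ← h₂]
      ring
    | mul x y _ _ hx hy =>
      obtain ⟨d₁, hd₁, b₁, h₁⟩ := hx
      obtain ⟨d₂, hd₂, b₂, h₂⟩ := hy
      refine ⟨d₁ * d₂, mul_ne_zero hd₁ hd₂, b₁ * b₂, ?_⟩
      simp only [map_mul]
      rw [← h₁, ← h₂]
      ring
  refine ⟨q₁'.comap ιB, inferInstance, ?_, ?_, ?_, ?_⟩
  · intro b hb
    rw [Ideal.mem_comap] at hb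
    exact (hmem b).mp (hq₁'le hb)
  · ext a
    rw [Ideal.mem_comap, Ideal.mem_comap, hcomm, ← Ideal.mem_comap, hq₁'A, Ideal.mem_bot,
      Ideal.mem_bot]
    exact ⟨fun h => hιA (h.trans (map_zero _).symm), fun h => by rw [h, map_zero]⟩
  · exact hgq₁'
  · intro b hb
    rw [Ideal.mem_comap] at hb
    obtain ⟨a', ha'0, b₂', hrel⟩ := hq₁'cl (ιB b) hb
    obtain ⟨d, hd, b₂₀, hb₂₀⟩ := hDen b₂'
    obtain ⟨d₁, n, hd₁, hd₁n⟩ := hden a'
    have hn : n ≠ 0 := by
      rintro rfl
      rw [map_zero] at hd₁n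
      rcases mul_eq_zero.mp hd₁n with h | h
      · exact hd₁ (hιA (h.trans (map_zero _).symm))
      · exact ha'0 h
    refine ⟨d * n, mul_ne_zero hd hn, algebraMap A B d₁ * b₂₀, ?_⟩
    rw [Ideal.mem_comap]
    have hcalc : ιB (algebraMap A B (d * n) - b * (algebraMap A B d₁ * b₂₀)) =
        ιB (algebraMap A B (d₁ * d)) * (algebraMap A' B' a' - ιB b * b₂') := by
      simp only [map_sub, map_mul]
      rw [← hb₂₀]
      have h1 : ιB (algebraMap A B n) = ιB (algebraMap A B d₁) * algebraMap A' B' a' := by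
        rw [hcomm, hcomm, ← map_mul, hd₁n]
      rw [h1]
      ring
    rw [hcalc]
    exact Ideal.mul_mem_left _ _ hrel

/-- The domain case. -/
theorem exists_prime_of_domain {A B : Type u} [CommRing A] [IsDomain A] [CommRing B] [IsDomain B]
    [Algebra A B] [Algebra.FiniteType A B] (hinj : Function.Injective (algebraMap A B))
    (q' : Ideal B) [hq'p : q'.IsPrime] (hp' : q'.comap (algebraMap A B) ≠ ⊥)
    (hmax : ∀ q'' : Ideal B, q''.IsPrime → q' ≤ q'' →
      q''.comap (algebraMap A B) = q'.comap (algebraMap A B) → q'' = q')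
    (g : B) (hg : g ≠ 0) :
    ∃ q₁ : Ideal B, q₁.IsPrime ∧ q₁ ≤ q' ∧ q₁.comap (algebraMap A B) = ⊥ ∧ g ∉ q₁ ∧
      ∀ b ∉ q₁, ∃ a : A, a ≠ 0 ∧ ∃ b₂ : B, algebraMap A B a - b * b₂ ∈ q₁ := by
  obtain ⟨V, hBV, hq'V⟩ := exists_valuationSubring_dominating q'
  have hBL : Function.Injective (algebraMap B (FractionRing B)) :=
    IsFractionRing.injective B (FractionRing B)
  have hfaith : FaithfulSMul A (FractionRing B) := by
    rw [faithfulSMul_iff_algebraMap_injective, IsScalarTower.algebraMap_eq A B (FractionRing B)]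
    exact hBL.comp hinj
  let _ : Algebra (FractionRing A) (FractionRing B) := FractionRing.liftAlgebra A (FractionRing B)
  have htower : IsScalarTower A (FractionRing A) (FractionRing B) :=
    FractionRing.isScalarTower_liftAlgebra A (FractionRing B)
  have hKL : Function.Injective (algebraMap (FractionRing A) (FractionRing B)) :=
    (algebraMap (FractionRing A) (FractionRing B)).injective
  let A' : ValuationSubring (FractionRing A) :=
    V.comap (algebraMap (FractionRing A) (FractionRing B))
  let _ : Algebra ↥A' (FractionRing B) :=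
    ((algebraMap (FractionRing A) (FractionRing B)).comp A'.subtype).toAlgebra
  have halgA' : ∀ a' : A', algebraMap ↥A' (FractionRing B) a' =
      algebraMap (FractionRing A) (FractionRing B) (a' : FractionRing A) := fun _ => rfl
  let B' : Subalgebra ↥A' (FractionRing B) :=
    Algebra.adjoin ↥A' (Set.range (algebraMap B (FractionRing B)))
  have hAK : ∀ a : A, algebraMap A (FractionRing A) a ∈ A' := by
    intro a
    change algebraMap (FractionRing A) (FractionRing B) (algebraMap A (FractionRing A) a) ∈ V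
    rw [← IsScalarTower.algebraMap_apply, IsScalarTower.algebraMap_apply A B (FractionRing B)]
    exact hBV _
  let ιA : A →+* ↥A' := (algebraMap A (FractionRing A)).codRestrict A' hAK
  let ιB : B →+* ↥B' := (algebraMap B (FractionRing B)).codRestrict B'
    (fun b => Algebra.subset_adjoin ⟨b, rfl⟩)
  have hB'V : ∀ x ∈ B', x ∈ V := by
    intro x hx
    induction hx using Algebra.adjoin_induction with
    | mem x hx => obtain ⟨b, rfl⟩ := hx; exact hBV b
    | algebraMap a' => exact a'.2
    | add x y _ _ hx hy => exact V.add_mem _ _ hx hy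
    | mul x y _ _ hx hy => exact V.mul_mem _ _ hx hy
  let j : ↥B' →+* ↥V := B'.val.toRingHom.codRestrict V (fun x => hB'V x.1 x.2)
  have hjmem : ∀ x : ↥B', x ∈ (IsLocalRing.maximalIdeal ↥V).comap j ↔
      (x : FractionRing B) ∈ V.nonunits := by
    intro x
    rw [Ideal.mem_comap, ← ValuationSubring.coe_mem_nonunits_iff]
    rfl
  refine exists_prime_of_valuationRing_extension (A' := ↥A') (B' := ↥B') ?_ ιA ιB ?_ ?_ ?_ ?_ ?_
    q' hp' hmax ((IsLocalRing.maximalIdeal ↥V).comap j) ?_ ?_ g hg
  · -- injectivity of `A' → B'`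
    intro x y hxy
    have h1 := congrArg (Subtype.val : ↥B' → FractionRing B) hxy
    have h2 : algebraMap (FractionRing A) (FractionRing B) (x : FractionRing A) =
        algebraMap (FractionRing A) (FractionRing B) (y : FractionRing A) := h1
    exact Subtype.ext (hKL h2)
  · intro x y hxy
    have h1 := congrArg (Subtype.val : ↥A' → FractionRing A) hxy
    exact IsFractionRing.injective A (FractionRing A) h1
  · intro x y hxy
    have h1 := congrArg (Subtype.val : ↥B' → FractionRing B) hxy
    exact hBL h1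
  · intro a
    apply Subtype.ext
    change algebraMap B (FractionRing B) (algebraMap A B a) =
      algebraMap (FractionRing A) (FractionRing B) (algebraMap A (FractionRing A) a)
    rw [← IsScalarTower.algebraMap_apply, ← IsScalarTower.algebraMap_apply]
  · have h1 : Set.range ιB = (Subtype.val : ↥B' → FractionRing B) ⁻¹'
        (Set.range (algebraMap B (FractionRing B))) := by
      ext x
      constructor
      · rintro ⟨b, rfl⟩
        exact ⟨b, rfl⟩
      · rintro ⟨b, hb⟩
        exact ⟨b, Subtype.ext hb⟩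
    rw [h1]
    exact Algebra.adjoin_adjoin_coe_preimage
  · intro a'
    obtain ⟨n, d, hd, hnd⟩ := IsFractionRing.div_surjective A (a' : FractionRing A)
    have hd0 : d ≠ 0 := nonZeroDivisors.ne_zero hd
    refine ⟨d, n, hd0, ?_⟩
    apply Subtype.ext
    change algebraMap A (FractionRing A) d * (a' : FractionRing A) = algebraMap A (FractionRing A) n
    rw [← hnd]
    have : algebraMap A (FractionRing A) d ≠ 0 := fun h =>
      hd0 (IsFractionRing.injective A (FractionRing A) (h.trans (map_zero _).symm))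
    field_simp
  · ext b
    rw [Ideal.mem_comap, hjmem, hq'V]
    rfl
  · ext a'
    rw [Ideal.mem_comap, hjmem, ← ValuationSubring.coe_mem_nonunits_iff,
      ValuationSubring.mem_nonunits_iff_or, ValuationSubring.mem_nonunits_iff_or]
    change algebraMap (FractionRing A) (FractionRing B) (a' : FractionRing A) = 0 ∨
      (algebraMap (FractionRing A) (FractionRing B) (a' : FractionRing A))⁻¹ ∉ V ↔ _
    rw [← map_inv₀, map_eq_zero]
    rfl

/-- The ring-theoretic statement: closed points of the fibre between a specialization. -/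
theorem exists_prime_between {A₀ B₀ : Type u} [CommRing A₀] [CommRing B₀] [Algebra A₀ B₀]
    [Algebra.FiniteType A₀ B₀] (q q' : Ideal B₀) [hq : q.IsPrime] [hq' : q'.IsPrime] (hle : q ≤ q')
    (hne : q.comap (algebraMap A₀ B₀) ≠ q'.comap (algebraMap A₀ B₀))
    (hmax : ∀ q'' : Ideal B₀, q''.IsPrime → q' ≤ q'' →
      q''.comap (algebraMap A₀ B₀) = q'.comap (algebraMap A₀ B₀) → q'' = q')
    (g : B₀) (hg : g ∉ q) :
    ∃ q₁ : Ideal B₀, q₁.IsPrime ∧ q ≤ q₁ ∧ q₁ ≤ q' ∧
      q₁.comap (algebraMap A₀ B₀) = q.comap (algebraMap A₀ B₀) ∧ g ∉ q₁ ∧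
      ∀ q'' : Ideal B₀, q''.IsPrime → q₁ ≤ q'' →
        q''.comap (algebraMap A₀ B₀) = q.comap (algebraMap A₀ B₀) → q'' = q₁ := by
  have hdomA : IsDomain (A₀ ⧸ q.comap (algebraMap A₀ B₀)) := Ideal.Quotient.isDomain _
  have hdomB : IsDomain (B₀ ⧸ q) := Ideal.Quotient.isDomain _
  have hinj : Function.Injective (algebraMap (A₀ ⧸ q.comap (algebraMap A₀ B₀)) (B₀ ⧸ q)) :=
    Ideal.algebraMap_quotient_injective
  have hft : Algebra.FiniteType (A₀ ⧸ q.comap (algebraMap A₀ B₀)) (B₀ ⧸ q) :=
    .of_restrictScalars_finiteType A₀ _ _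
  have halgmk : ∀ a : A₀, algebraMap (A₀ ⧸ q.comap (algebraMap A₀ B₀)) (B₀ ⧸ q)
      (Ideal.Quotient.mk _ a) = Ideal.Quotient.mk q (algebraMap A₀ B₀ a) := fun _ => rfl
  have hQ'prime : (q'.map (Ideal.Quotient.mk q)).IsPrime :=
    Ideal.map_isPrime_of_surjective Ideal.Quotient.mk_surjective (by rw [Ideal.mk_ker]; exact hle)
  have hQ'mem : ∀ b, Ideal.Quotient.mk q b ∈ q'.map (Ideal.Quotient.mk q) ↔ b ∈ q' :=
    fun b => Ideal.mem_quotient_iff_mem hle
  have hcomapQ' : (q'.map (Ideal.Quotient.mk q)).comap (Ideal.Quotient.mk q) = q' := by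
    ext b
    rw [Ideal.mem_comap, hQ'mem]
  -- the contraction of `Q'` is nonzero
  have hp' : (q'.map (Ideal.Quotient.mk q)).comap
      (algebraMap (A₀ ⧸ q.comap (algebraMap A₀ B₀)) (B₀ ⧸ q)) ≠ ⊥ := by
    have hlt : ¬ q'.comap (algebraMap A₀ B₀) ≤ q.comap (algebraMap A₀ B₀) :=
      fun h => hne (le_antisymm (Ideal.comap_mono hle) h)
    obtain ⟨a, ha', ha⟩ := Set.not_subset.mp hlt
    intro hbot
    have h1 : Ideal.Quotient.mk (q.comap (algebraMap A₀ B₀)) a ∈
        (q'.map (Ideal.Quotient.mk q)).comap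
          (algebraMap (A₀ ⧸ q.comap (algebraMap A₀ B₀)) (B₀ ⧸ q)) := by
      rw [Ideal.mem_comap, halgmk, hQ'mem]
      exact ha'
    rw [hbot, Ideal.mem_bot, Ideal.Quotient.eq_zero_iff_mem] at h1
    exact ha h1
  have hmax' : ∀ Q'' : Ideal (B₀ ⧸ q), Q''.IsPrime → q'.map (Ideal.Quotient.mk q) ≤ Q'' →
      Q''.comap (algebraMap (A₀ ⧸ q.comap (algebraMap A₀ B₀)) (B₀ ⧸ q)) =
        (q'.map (Ideal.Quotient.mk q)).comap
          (algebraMap (A₀ ⧸ q.comap (algebraMap A₀ B₀)) (B₀ ⧸ q)) →
      Q'' = q'.map (Ideal.Quotient.mk q) := by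
    intro Q'' hQ''p hQ''le hQ''c
    have h1 : q' ≤ Q''.comap (Ideal.Quotient.mk q) := by
      rw [← hcomapQ']
      exact Ideal.comap_mono hQ''le
    have h2 : (Q''.comap (Ideal.Quotient.mk q)).comap (algebraMap A₀ B₀) =
        q'.comap (algebraMap A₀ B₀) := by
      ext a
      rw [Ideal.mem_comap, Ideal.mem_comap, ← halgmk, ← Ideal.mem_comap, hQ''c, Ideal.mem_comap,
        halgmk, hQ'mem, Ideal.mem_comap]
    have h3 := hmax _ inferInstance h1 h2
    rw [← Ideal.map_comap_of_surjective (Ideal.Quotient.mk q) Ideal.Quotient.mk_surjective Q'', h3]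
  have hg' : Ideal.Quotient.mk q g ≠ 0 := by
    rw [Ne, Ideal.Quotient.eq_zero_iff_mem]
    exact hg
  obtain ⟨Q₁, hQ₁p, hQ₁le, hQ₁c, hgQ₁, hQ₁cl⟩ := exists_prime_of_domain hinj
    (q'.map (Ideal.Quotient.mk q)) hp' hmax' (Ideal.Quotient.mk q g) hg'
  have hq₁c : (Q₁.comap (Ideal.Quotient.mk q)).comap (algebraMap A₀ B₀) =
      q.comap (algebraMap A₀ B₀) := by
    ext a
    rw [Ideal.mem_comap, Ideal.mem_comap, ← halgmk, ← Ideal.mem_comap, hQ₁c, Ideal.mem_bot,
      Ideal.Quotient.eq_zero_iff_mem]
  refine ⟨Q₁.comap (Ideal.Quotient.mk q), inferInstance, ?_, ?_, hq₁c, hgQ₁, ?_⟩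
  · intro b hb
    rw [Ideal.mem_comap, Ideal.Quotient.eq_zero_iff_mem.mpr hb]
    exact Q₁.zero_mem
  · rw [← hcomapQ']
    exact Ideal.comap_mono hQ₁le
  · intro q'' hq''p hq''le hq''c
    refine le_antisymm ?_ hq''le
    intro b hb
    by_contra hbq₁
    rw [Ideal.mem_comap] at hbq₁
    obtain ⟨a, ha0, b₂, hrel⟩ := hQ₁cl _ hbq₁
    obtain ⟨a₀, rfl⟩ := Ideal.Quotient.mk_surjective a
    obtain ⟨b₂₀, rfl⟩ := Ideal.Quotient.mk_surjective b₂
    rw [halgmk, ← map_mul, ← map_sub, ← Ideal.mem_comap] at hrel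
    have h1 : algebraMap A₀ B₀ a₀ ∈ q'' := by
      have h2 := hq''le hrel
      have h3 : b * b₂₀ ∈ q'' := Ideal.mul_mem_right _ _ hb
      have := Ideal.add_mem _ h2 h3
      rwa [sub_add_cancel] at this
    rw [← Ideal.mem_comap, hq''c] at h1
    exact ha0 (Ideal.Quotient.eq_zero_iff_mem.mpr h1)

open AlgebraicGeometry CategoryTheory TopologicalSpace

/-- Closed points of the fibre lying between a specialization are dense. -/
theorem dense_closed_points_between {X S : Scheme.{u}} (f : X ⟶ S) [LocallyOfFiniteType f]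
    (x x' : X) (hsp : x ⤳ x') (hne : f x ≠ f x')
    (hcl : IsClosed (Subtype.val ⁻¹' {x'} : Set ↑(f ⁻¹' {f x'}))) :
    Dense (Subtype.val ⁻¹' {x₁ : ↑X | f x₁ = f x ∧
      IsClosed (Subtype.val ⁻¹' {x₁} : Set ↑(f ⁻¹' {f x})) ∧ x ⤳ x₁ ∧ x₁ ⤳ x'} :
      Set ↑(closure {x} ∩ f ⁻¹' {f x})) := by
  -- affine charts
  obtain ⟨_, ⟨V'', hV'', rfl⟩, hfx'V, -⟩ :=
    S.isBasis_affineOpens.exists_subset_of_mem_open (Set.mem_univ (f x')) isOpen_univ
  let V' : S.Opens := V''
  have hV' : IsAffineOpen V' := hV''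
  obtain ⟨_, ⟨U'', hU'', rfl⟩, hx'U, hU'V⟩ :=
    X.isBasis_affineOpens.exists_subset_of_mem_open (show x' ∈ (f ⁻¹ᵁ V' : Set X) from hfx'V)
      (f ⁻¹ᵁ V').isOpen
  let U' : X.Opens := U''
  have hU' : IsAffineOpen U' := hU''
  have e : U' ≤ f ⁻¹ᵁ V' := hU'V
  have hxU : x ∈ U' := hsp.mem_open U'.isOpen hx'U
  -- ring data
  let φ := f.appLE V' U' e
  let _ : Algebra Γ(S, V') Γ(X, U') := φ.hom.toAlgebra
  have hft : Algebra.FiniteType Γ(S, V') Γ(X, U') := f.finiteType_appLE hV' hU' e
  have hFemb := hU'.fromSpec.isOpenEmbedding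
  have hGemb := hV'.fromSpec.isOpenEmbedding
  have hcomm : ∀ p : Spec Γ(X, U'), f (hU'.fromSpec p) =
      hV'.fromSpec (PrimeSpectrum.comap φ.hom p) := by
    intro p
    have := IsAffineOpen.SpecMap_appLE_fromSpec f hV' hU' e
    have h2 := congrArg (fun k => k p) this
    simp only [Scheme.Hom.comp_apply] at h2
    exact h2.symm
  have hfib : ∀ p₁ p₂ : Spec Γ(X, U'), f (hU'.fromSpec p₁) = f (hU'.fromSpec p₂) ↔
      p₁.asIdeal.comap (algebraMap Γ(S, V') Γ(X, U')) =
        p₂.asIdeal.comap (algebraMap Γ(S, V') Γ(X, U')) := by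
    intro p₁ p₂
    rw [hcomm, hcomm, hGemb.injective.eq_iff]
    constructor
    · intro h
      exact congrArg PrimeSpectrum.asIdeal h
    · intro h
      exact PrimeSpectrum.ext h
  have hspec : ∀ p₁ p₂ : Spec Γ(X, U'), hU'.fromSpec p₁ ⤳ hU'.fromSpec p₂ ↔
      p₁.asIdeal ≤ p₂.asIdeal := by
    intro p₁ p₂
    rw [hFemb.toIsInducing.specializes_iff]
    exact (PrimeSpectrum.le_iff_specializes p₁ p₂).symm
  set px : Spec Γ(X, U') := hU'.primeIdealOf ⟨x, hxU⟩ with hpx
  set px' : Spec Γ(X, U') := hU'.primeIdealOf ⟨x', hx'U⟩ with hpx'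
  have hFx : hU'.fromSpec px = x := hU'.fromSpec_primeIdealOf ⟨x, hxU⟩
  have hFx' : hU'.fromSpec px' = x' := hU'.fromSpec_primeIdealOf ⟨x', hx'U⟩
  have hle : px.asIdeal ≤ px'.asIdeal := by
    rw [← hspec, hFx, hFx']
    exact hsp
  have hne' : px.asIdeal.comap (algebraMap Γ(S, V') Γ(X, U')) ≠
      px'.asIdeal.comap (algebraMap Γ(S, V') Γ(X, U')) := by
    rw [Ne, ← hfib, hFx, hFx']
    exact hne
  have hmax : ∀ q'' : Ideal Γ(X, U'), q''.IsPrime → px'.asIdeal ≤ q'' →
      q''.comap (algebraMap Γ(S, V') Γ(X, U')) =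
        px'.asIdeal.comap (algebraMap Γ(S, V') Γ(X, U')) → q'' = px'.asIdeal := by
    intro q'' hq''p hq''le hq''c
    let pz : Spec Γ(X, U') := ⟨q'', hq''p⟩
    have h1 : x' ⤳ hU'.fromSpec pz := by
      rw [← hFx', hspec]
      exact hq''le
    have h2 : f (hU'.fromSpec pz) = f x' := by
      rw [← hFx', hfib]
      exact hq''c
    have h3 : (⟨x', rfl⟩ : ↑(f ⁻¹' {f x'})) ⤳ ⟨hU'.fromSpec pz, h2⟩ := by
      rw [subtype_specializes_iff]
      exact h1
    have h4 := h3.mem_closed hcl (by simp)
    have h5 : hU'.fromSpec pz = x' := h4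
    have h6 : pz = px' := hFemb.injective (h5.trans hFx'.symm)
    exact congrArg PrimeSpectrum.asIdeal h6
  -- Jacobson property of the fibre
  have hJac : JacobsonSpace ↑(f ⁻¹' {f x}) :=
    JacobsonSpace.of_isOpenEmbedding (f.fiberHomeo (f x)).symm.isOpenEmbedding
  rw [dense_iff_inter_open]
  intro O hO hOne
  obtain ⟨W, hW, rfl⟩ := isOpen_induced_iff.mp hO
  obtain ⟨t, ht⟩ := hOne
  have hxt : x ⤳ t.1 := specializes_iff_mem_closure.mpr t.2.1
  have hxW : x ∈ W := hxt.mem_open hW ht
  obtain ⟨g, hgle, hxg⟩ := hU'.exists_basicOpen_le (V := ⟨W, hW⟩) ⟨x, hxW⟩ hxU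
  have hbasic : ∀ p : Spec Γ(X, U'), hU'.fromSpec p ∈ X.basicOpen g ↔ g ∉ p.asIdeal := by
    intro p
    have h1 := hU'.fromSpec_preimage_basicOpen g
    have h2 : (p ∈ hU'.fromSpec ⁻¹ᵁ X.basicOpen g) = (p ∈ PrimeSpectrum.basicOpen g) :=
      congrArg (fun O : (Spec Γ(X, U')).Opens => p ∈ O) h1
    exact Eq.to_iff h2
  have hgx : g ∉ px.asIdeal := by
    rw [← hbasic, hFx]
    exact hxg
  obtain ⟨q₁, hq₁p, hq₁ge, hq₁le, hq₁c, hgq₁, hq₁max⟩ :=
    exists_prime_between px.asIdeal px'.asIdeal hle hne' hmax g hgx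
  let p₁ : Spec Γ(X, U') := ⟨q₁, hq₁p⟩
  have hfx₁ : f (hU'.fromSpec p₁) = f x := by
    rw [← hFx, hfib]
    exact hq₁c
  have hxx₁ : x ⤳ hU'.fromSpec p₁ := by
    rw [← hFx, hspec]
    exact hq₁ge
  have hx₁x' : hU'.fromSpec p₁ ⤳ x' := by
    rw [← hFx', hspec]
    exact hq₁le
  have hx₁U : hU'.fromSpec p₁ ∈ U' := by
    have : hU'.fromSpec p₁ ∈ Set.range hU'.fromSpec := ⟨p₁, rfl⟩
    rwa [hU'.range_fromSpec] at this
  refine ⟨⟨hU'.fromSpec p₁, specializes_iff_mem_closure.mp hxx₁, hfx₁⟩, ?_, ?_⟩
  · exact hgle ((hbasic p₁).mpr hgq₁)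
  · refine ⟨hfx₁, ?_, hxx₁, hx₁x'⟩
    have hsing : (Subtype.val ⁻¹' {hU'.fromSpec p₁} : Set ↑(f ⁻¹' {f x})) =
        {⟨hU'.fromSpec p₁, hfx₁⟩} := by
      ext z
      simp [Subtype.ext_iff]
    rw [hsing]
    apply isClosed_singleton_of_isLocallyClosed_singleton
    refine ⟨Subtype.val ⁻¹' (U' : Set X), closure {⟨hU'.fromSpec p₁, hfx₁⟩},
      U'.isOpen.preimage continuous_subtype_val, isClosed_closure, ?_⟩
    ext z
    constructor
    · intro hz
      rw [Set.mem_singleton_iff] at hz
      subst hz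
      exact ⟨hx₁U, subset_closure rfl⟩
    · rintro ⟨hzU, hzcl⟩
      have h1 : hU'.fromSpec p₁ ⤳ z.1 :=
        (subtype_specializes_iff _ _).mp (specializes_iff_mem_closure.mpr hzcl)
      obtain ⟨pz, hpz⟩ : ∃ pz, hU'.fromSpec pz = z.1 := by
        have : z.1 ∈ Set.range hU'.fromSpec := by
          rw [hU'.range_fromSpec]
          exact hzU
        exact this
      have h2 : q₁ ≤ pz.asIdeal := (hspec p₁ pz).mp (hpz ▸ h1)
      have h3 : pz.asIdeal.comap (algebraMap Γ(S, V') Γ(X, U')) =
          px.asIdeal.comap (algebraMap Γ(S, V') Γ(X, U')) := by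
        rw [← hfib, hpz, hFx]
        exact z.2
      have h4 := hq₁max pz.asIdeal pz.2 h2 h3
      have h5 : pz = p₁ := PrimeSpectrum.ext h4
      rw [Set.mem_singleton_iff]
      apply Subtype.ext
      change z.1 = hU'.fromSpec p₁
      rw [← hpz, h5]

end Groth.Agent.Lib.T2H2.SpecFibre
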