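import Mathlib

set_option autoImplicit false
universe u v w
open scoped TensorProduct

namespace Groth.Agent.Lib.T2H2.Spread

/-- finitely many equalities in a localization hold upstairs after multiplying by one element. -/
theorem exists_common_mul {Γ Λ : Type*} [CommRing Γ] [CommRing Λ] [Algebra Γ Λ] (M : Submonoid Γ)
    [IsLocalization M Λ] {ι : Type*} [Fintype ι] (x y : ι → Γ)
    (h : ∀ k, algebraMap Γ Λ (x k) = algebraMap Γ Λ (y k)) :
    ∃ c ∈ M, ∀ k, c * x k = c * y k := by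
  classical
  have h1 : ∀ k, ∃ c : M, (c : Γ) * x k = c * y k :=
    fun k => (IsLocalization.eq_iff_exists M Λ).mp (h k)
  choose c hc using h1
  refine ⟨∏ k, (c k : Γ), prod_mem (fun k _ => (c k).2), fun k => ?_⟩
  rw [← Finset.mul_prod_erase Finset.univ _ (Finset.mem_univ k)]
  calc (c k : Γ) * (∏ j ∈ Finset.univ.erase k, (c j : Γ)) * x k
      = (∏ j ∈ Finset.univ.erase k, (c j : Γ)) * ((c k : Γ) * x k) := by ring
    _ = (∏ j ∈ Finset.univ.erase k, (c j : Γ)) * ((c k : Γ) * y k) := by rw [hc k]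
    _ = _ := by ring

/-- the congruence expression commutes with ring maps compatible with the involutions. -/
theorem map_congrExpr {R R' : Type*} [CommRing R] [CommRing R'] {n : ℕ} (θ : R →+* R')
    (σ : R →+* R) (σ' : R' →+* R') (hθ : ∀ x, σ' (θ x) = θ (σ x))
    (X H : Matrix (Fin n) (Fin n) R) :
    ((X.map σ).transpose * H * X).map θ
      = ((X.map θ).map σ').transpose * H.map θ * X.map θ := by
  rw [Matrix.map_mul, Matrix.map_mul, ← Matrix.transpose_map, Matrix.map_map, Matrix.map_map]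
  congr 3
  ext i j
  simp [hθ]

/-- scaling the congruating matrix. -/
theorem congrExpr_smul {R : Type*} [CommRing R] {n : ℕ} (σ : R →+* R) (a : R)
    (X H : Matrix (Fin n) (Fin n) R) :
    (((a • X).map σ).transpose * H * (a • X)) = (σ a * a) • ((X.map σ).transpose * H * X) := by
  rw [Matrix.map_smul' _ _ _ (map_mul σ), Matrix.transpose_smul, Matrix.smul_mul, Matrix.smul_mul,
    Matrix.mul_smul, smul_smul]

/-- Descent of a congruating invertible matrix from a localization: finitely many denominators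
suffice. -/
theorem descend_congr {Γ : Type u} {Λ : Type v} [CommRing Γ] [CommRing Λ] [Algebra Γ Λ]
    (M : Submonoid Γ) [IsLocalization M Λ] (σΓ : Γ →+* Γ) (σΛ : Λ →+* Λ)
    (hσ : ∀ x, σΛ (algebraMap Γ Λ x) = algebraMap Γ Λ (σΓ x)) (hM : ∀ m ∈ M, σΓ m = m)
    {n : ℕ} (H H' : Matrix (Fin n) (Fin n) Γ) (v : Matrix (Fin n) (Fin n) Λ) (hv : IsUnit v)
    (heq : (v.map σΛ).transpose * H.map (algebraMap Γ Λ) * v = H'.map (algebraMap Γ Λ)) :
    ∃ m ∈ M, ∀ (Ω : Type w) [CommRing Ω] (θ : Γ →+* Ω) (σΩ : Ω →+* Ω),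
      (∀ x, σΩ (θ x) = θ (σΓ x)) → IsUnit (θ m) →
      ∃ v' : Matrix (Fin n) (Fin n) Ω, IsUnit v' ∧
        (v'.map σΩ).transpose * H.map θ * v' = H'.map θ := by
  obtain ⟨⟨v, w, hvw, hwv⟩, rfl⟩ := hv
  obtain ⟨d₁, hd₁⟩ := IsLocalization.exist_integer_multiples_of_finite M
    (fun ij : Fin n × Fin n => v ij.1 ij.2)
  obtain ⟨d₂, hd₂⟩ := IsLocalization.exist_integer_multiples_of_finite M
    (fun ij : Fin n × Fin n => w ij.1 ij.2)
  choose V hV using hd₁
  choose W hW using hd₂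
  set Vm : Matrix (Fin n) (Fin n) Γ := Matrix.of fun i j => V (i, j) with hVm
  set Wm : Matrix (Fin n) (Fin n) Γ := Matrix.of fun i j => W (i, j) with hWm
  have hVmap : Vm.map (algebraMap Γ Λ) = algebraMap Γ Λ d₁ • v := by
    ext i j
    simp [hVm, hV (i, j), Algebra.smul_def]
  have hWmap : Wm.map (algebraMap Γ Λ) = algebraMap Γ Λ d₂ • w := by
    ext i j
    simp [hWm, hW (i, j), Algebra.smul_def]
  -- first relation : V W = d₁ d₂
  have e1 : (Vm * Wm).map (algebraMap Γ Λ)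
      = ((((d₁ : Γ) * d₂) • (1 : Matrix (Fin n) (Fin n) Γ))).map (algebraMap Γ Λ) := by
    rw [Matrix.map_mul, hVmap, hWmap, Matrix.smul_mul, Matrix.mul_smul, hvw, smul_smul,
      Matrix.map_smul' _ _ _ (map_mul _), Matrix.map_one _ (map_zero _) (map_one _), map_mul]
  obtain ⟨c₁, hc₁M, hc₁⟩ := exists_common_mul M
    (fun ij : Fin n × Fin n => (Vm * Wm) ij.1 ij.2)
    (fun ij : Fin n × Fin n => ((((d₁ : Γ) * d₂) • (1 : Matrix (Fin n) (Fin n) Γ))) ij.1 ij.2)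
    (fun ij => congrFun (congrFun e1 ij.1) ij.2)
  have hc₁' : c₁ • (Vm * Wm) = c₁ • (((d₁ : Γ) * d₂) • (1 : Matrix (Fin n) (Fin n) Γ)) := by
    ext i j
    exact hc₁ (i, j)
  -- second relation
  have hσd : σΛ (algebraMap Γ Λ d₁) = algebraMap Γ Λ d₁ := by rw [hσ, hM _ d₁.2]
  have e2 : ((Vm.map σΓ).transpose * H * Vm).map (algebraMap Γ Λ)
      = ((((d₁ : Γ) * d₁) • H')).map (algebraMap Γ Λ) := by
    rw [map_congrExpr (algebraMap Γ Λ) σΓ σΛ hσ, hVmap, congrExpr_smul, heq, hσd,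
      Matrix.map_smul' _ _ _ (map_mul _), map_mul]
  obtain ⟨c₂, hc₂M, hc₂⟩ := exists_common_mul M
    (fun ij : Fin n × Fin n => ((Vm.map σΓ).transpose * H * Vm) ij.1 ij.2)
    (fun ij : Fin n × Fin n => ((((d₁ : Γ) * d₁) • H')) ij.1 ij.2)
    (fun ij => congrFun (congrFun e2 ij.1) ij.2)
  have hc₂' : c₂ • ((Vm.map σΓ).transpose * H * Vm) = c₂ • (((d₁ : Γ) * d₁) • H') := by
    ext i j
    exact hc₂ (i, j)
  refine ⟨c₁ * c₂ * d₁ * d₂, mul_mem (mul_mem (mul_mem hc₁M hc₂M) d₁.2) d₂.2, ?_⟩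
  intro Ω _ θ σΩ hθ hm
  rw [map_mul, map_mul, map_mul] at hm
  have ud₂ : IsUnit (θ d₂) := isUnit_of_mul_isUnit_right hm
  have hm' := isUnit_of_mul_isUnit_left hm
  have ud₁ : IsUnit (θ d₁) := isUnit_of_mul_isUnit_right hm'
  have hm'' := isUnit_of_mul_isUnit_left hm'
  have uc₂ : IsUnit (θ c₂) := isUnit_of_mul_isUnit_right hm''
  have uc₁ : IsUnit (θ c₁) := isUnit_of_mul_isUnit_left hm''
  obtain ⟨e₁, he₁⟩ := ud₁.exists_left_inv
  obtain ⟨e₂, he₂⟩ := ud₂.exists_left_inv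
  have hσe : σΩ e₁ = e₁ := by
    have h1 : σΩ (θ d₁) = θ d₁ := by rw [hθ, hM _ d₁.2]
    calc σΩ e₁ = σΩ e₁ * (e₁ * θ d₁) := by rw [he₁, mul_one]
      _ = (σΩ e₁ * σΩ (θ d₁)) * e₁ := by rw [h1]; ring
      _ = σΩ (e₁ * θ d₁) * e₁ := by rw [map_mul]
      _ = e₁ := by rw [he₁, map_one, one_mul]
  -- relations pushed to Ω
  have r1 : (Vm * Wm).map θ = (θ d₁ * θ d₂) • (1 : Matrix (Fin n) (Fin n) Ω) := by
    have := congrArg (fun X : Matrix (Fin n) (Fin n) Γ => X.map θ) hc₁'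
    simp only [Matrix.map_smul' _ _ _ (map_mul θ), Matrix.map_one _ (map_zero θ) (map_one θ),
      map_mul] at this
    exact uc₁.smul_left_cancel.mp this
  have r2 : ((Vm.map σΓ).transpose * H * Vm).map θ = (θ d₁ * θ d₁) • H'.map θ := by
    have := congrArg (fun X : Matrix (Fin n) (Fin n) Γ => X.map θ) hc₂'
    simp only [Matrix.map_smul' _ _ _ (map_mul θ), map_mul] at this
    exact uc₂.smul_left_cancel.mp this
  have hvw' : (e₁ • Vm.map θ) * (e₂ • Wm.map θ) = 1 := by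
    rw [Matrix.smul_mul, Matrix.mul_smul, ← Matrix.map_mul, r1, smul_smul, smul_smul]
    have : e₁ * e₂ * (θ d₁ * θ d₂) = 1 := by
      calc e₁ * e₂ * (θ d₁ * θ d₂) = (e₁ * θ d₁) * (e₂ * θ d₂) := by ring
        _ = 1 := by rw [he₁, he₂, mul_one]
    rw [this, one_smul]
  refine ⟨e₁ • Vm.map θ, ⟨⟨_, _, hvw', mul_eq_one_comm.mp hvw'⟩, rfl⟩, ?_⟩
  rw [congrExpr_smul, ← map_congrExpr θ σΓ σΩ hθ, r2, smul_smul, hσe]
  have : e₁ * e₁ * (θ d₁ * θ d₁) = 1 := by
    calc e₁ * e₁ * (θ d₁ * θ d₁) = (e₁ * θ d₁) * (e₁ * θ d₁) := by ring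
      _ = 1 := by rw [he₁, mul_one]
  rw [this, one_smul]

end Groth.Agent.Lib.T2H2.Spread
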