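import Mathlib

set_option autoImplicit false
universe u v w
open scoped TensorProduct

namespace Groth.Agent.Lib.T2H2.Spread

/-- The ideal of relations `X_k ^ 2 = s_k`. -/
noncomputable abbrev sqRel (l : ℕ) (R : Type*) [CommRing R] (s : Fin l → R) : Ideal (MvPolynomial (Fin l) R) :=
  Ideal.span (Set.range fun k : Fin l => MvPolynomial.X k ^ 2 - MvPolynomial.C (s k))

/-- The ring `R[X_1,…,X_l]/(X_k ^ 2 - s_k)`. -/
noncomputable abbrev SqRing (l : ℕ) (R : Type*) [CommRing R] (s : Fin l → R) : Type _ :=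
  MvPolynomial (Fin l) R ⧸ sqRel l R s

namespace SqRing

variable {l : ℕ} {R : Type*} [CommRing R] (s : Fin l → R)

/-- the class of `X_k`. -/
noncomputable def xbar (k : Fin l) : SqRing l R s := Ideal.Quotient.mk _ (MvPolynomial.X k)

theorem algebraMap_eq (r : R) :
    algebraMap R (SqRing l R s) r = Ideal.Quotient.mk _ (MvPolynomial.C r) := rfl

theorem xbar_sq (k : Fin l) : xbar s k ^ 2 = algebraMap R (SqRing l R s) (s k) := by
  rw [algebraMap_eq, xbar, ← map_pow, ← sub_eq_zero, ← map_sub, Ideal.Quotient.eq_zero_iff_mem]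
  exact Ideal.subset_span ⟨k, rfl⟩

variable {T : Type*} [CommRing T]

/-- ring maps out of `SqRing`. -/
noncomputable def liftHom (g : R →+* T) (x : Fin l → T) (hx : ∀ k, x k ^ 2 = g (s k)) :
    SqRing l R s →+* T :=
  Ideal.Quotient.lift _ (MvPolynomial.eval₂Hom g x) (by
    intro a ha
    have hle : sqRel l R s ≤ RingHom.ker (MvPolynomial.eval₂Hom g x) := by
      rw [Ideal.span_le]
      rintro _ ⟨k, rfl⟩
      simp [RingHom.mem_ker, hx k]
    exact hle ha)

@[simp] theorem liftHom_xbar (g : R →+* T) (x : Fin l → T) (hx : ∀ k, x k ^ 2 = g (s k))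
    (k : Fin l) : liftHom s g x hx (xbar s k) = x k := by
  simp [liftHom, xbar]

@[simp] theorem liftHom_algebraMap (g : R →+* T) (x : Fin l → T) (hx : ∀ k, x k ^ 2 = g (s k))
    (r : R) : liftHom s g x hx (algebraMap R (SqRing l R s) r) = g r := by
  simp [liftHom, algebraMap_eq]

theorem ringHom_ext {f g : SqRing l R s →+* T}
    (h1 : ∀ r, f (algebraMap R _ r) = g (algebraMap R _ r))
    (h2 : ∀ k, f (xbar s k) = g (xbar s k)) : f = g := by
  apply Ideal.Quotient.ringHom_ext
  apply MvPolynomial.ringHom_ext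
  · intro r; exact h1 r
  · intro k; exact h2 k

variable {B : Type*} [CommRing B] [Algebra B R] [Algebra B T]

theorem algebraMap_eq' (b : B) :
    algebraMap B (SqRing l R s) b = algebraMap R (SqRing l R s) (algebraMap B R b) := rfl

/-- algebra maps out of `SqRing`. -/
noncomputable def liftAlgHom (g : R →ₐ[B] T) (x : Fin l → T) (hx : ∀ k, x k ^ 2 = g (s k)) :
    SqRing l R s →ₐ[B] T :=
  { liftHom s (g : R →+* T) x hx with
    commutes' := fun b => by
      show liftHom s (g : R →+* T) x hx (algebraMap B (SqRing l R s) b) = _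
      rw [algebraMap_eq', liftHom_algebraMap]
      simp }

@[simp] theorem liftAlgHom_xbar (g : R →ₐ[B] T) (x : Fin l → T) (hx : ∀ k, x k ^ 2 = g (s k))
    (k : Fin l) : liftAlgHom s g x hx (xbar s k) = x k :=
  liftHom_xbar s _ x hx k

@[simp] theorem liftAlgHom_algebraMap (g : R →ₐ[B] T) (x : Fin l → T)
    (hx : ∀ k, x k ^ 2 = g (s k)) (r : R) :
    liftAlgHom s g x hx (algebraMap R (SqRing l R s) r) = g r :=
  liftHom_algebraMap s _ x hx r

/-- If `R` is a localization of `B`, algebra maps out of `SqRing` are determined by the images of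
the `X_k`. -/
theorem algHom_ext_of_loc (M : Submonoid B) [IsLocalization M R] {f g : SqRing l R s →ₐ[B] T}
    (h2 : ∀ k, f (xbar s k) = g (xbar s k)) : f = g := by
  have h1 : (f.comp (IsScalarTower.toAlgHom B R (SqRing l R s)))
      = g.comp (IsScalarTower.toAlgHom B R (SqRing l R s)) :=
    (IsLocalization.algHom_subsingleton M (S := R)).elim _ _
  apply AlgHom.coe_ringHom_injective
  apply ringHom_ext s
  · intro r
    exact DFunLike.congr_fun h1 r
  · exact h2

end SqRing

end Groth.Agent.Lib.T2H2.Spread
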