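import Groth.Agent.Lib.T2H2SpreadA
import Groth.Agent.Lib.T2H2SpreadB

set_option autoImplicit false
universe u v w
open scoped TensorProduct

namespace Groth.Agent.Lib.T2H2.Spread

section Units

variable {B : Type u} [CommRing B] (p : Ideal B) [p.IsPrime]

/-- finitely many units of `B_p` come from units of `B_{b₀}` for some `b₀ ∉ p`. -/
theorem exists_units_away {l : ℕ} (s : Fin l → (Localization.AtPrime p)ˣ) :
    ∃ b₀ ∈ p.primeCompl, ∃ (s' : Fin l → (Localization.Away b₀)ˣ)
      (lam0 : Localization.Away b₀ →ₐ[B] Localization.AtPrime p),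
      ∀ k, lam0 (s' k : Localization.Away b₀) = (s k : Localization.AtPrime p) := by
  classical
  have h1 : ∀ k, ∃ (a : B) (c : p.primeCompl),
      IsLocalization.mk' (Localization.AtPrime p) a c = (s k : Localization.AtPrime p) :=
    fun k => IsLocalization.exists_mk'_eq p.primeCompl _
  choose a c hac using h1
  have ha : ∀ k, a k ∈ p.primeCompl := by
    intro k
    have h2 : algebraMap B (Localization.AtPrime p) (a k)
        = (s k : Localization.AtPrime p) * algebraMap B _ (c k : B) := by
      rw [← hac k, IsLocalization.mk'_spec]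
    have h3 : IsUnit (algebraMap B (Localization.AtPrime p) (a k)) := by
      rw [h2]
      exact (s k).isUnit.mul (IsLocalization.map_units _ (c k))
    exact (IsLocalization.AtPrime.isUnit_to_map_iff (Localization.AtPrime p) p (a k)).mp h3
  refine ⟨∏ k, a k * (c k : B), prod_mem (fun k _ => mul_mem (ha k) (c k).2), ?_⟩
  set b₀ : B := ∏ k, a k * (c k : B) with hb₀
  have hu : ∀ k, IsUnit (algebraMap B (Localization.Away b₀) (a k * (c k : B))) := by
    intro k
    have hd : (a k * (c k : B)) ∣ b₀ := Finset.dvd_prod_of_mem _ (Finset.mem_univ k)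
    exact isUnit_of_dvd_unit (map_dvd (algebraMap B (Localization.Away b₀)) hd)
      (IsLocalization.Away.algebraMap_isUnit b₀)
  have hua : ∀ k, IsUnit (algebraMap B (Localization.Away b₀) (a k)) := by
    intro k
    have := hu k
    rw [map_mul] at this
    exact isUnit_of_mul_isUnit_left this
  have huc : ∀ k, IsUnit (algebraMap B (Localization.Away b₀) (c k : B)) := by
    intro k
    have := hu k
    rw [map_mul] at this
    exact isUnit_of_mul_isUnit_right this
  have hb₀P : b₀ ∈ p.primeCompl := prod_mem (fun k _ => mul_mem (ha k) (c k).2)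
  let lam0 : Localization.Away b₀ →ₐ[B] Localization.AtPrime p :=
    IsLocalization.liftAlgHom (M := Submonoid.powers b₀) (f := Algebra.ofId B _) (by
      rintro ⟨y, j, rfl⟩
      have h5 : IsUnit (algebraMap B (Localization.AtPrime p) b₀) :=
        IsLocalization.map_units (Localization.AtPrime p) (⟨b₀, hb₀P⟩ : p.primeCompl)
      simpa using h5.pow j)
  refine ⟨fun k => (hua k).unit * (huc k).unit⁻¹, lam0, fun k => ?_⟩
  rw [← hac k, IsLocalization.eq_mk'_iff_mul_eq]
  rw [← lam0.commutes (c k : B), ← map_mul]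
  have : (((hua k).unit * (huc k).unit⁻¹ : (Localization.Away b₀)ˣ) : Localization.Away b₀)
      * algebraMap B (Localization.Away b₀) (c k : B) = algebraMap B _ (a k) := by
    calc (((hua k).unit * (huc k).unit⁻¹ : (Localization.Away b₀)ˣ) : Localization.Away b₀)
          * algebraMap B (Localization.Away b₀) (c k : B)
        = (((hua k).unit * (huc k).unit⁻¹ * (huc k).unit : (Localization.Away b₀)ˣ) :
            Localization.Away b₀) := by
          rw [Units.val_mul _ (huc k).unit]; rfl
      _ = algebraMap B _ (a k) := by rw [inv_mul_cancel_right]; rfl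
  rw [this, lam0.commutes]

end Units

section Construction

variable {B : Type u} [CommRing B] (p : Ideal B) [p.IsPrime]
  {l : ℕ} (s : Fin l → Localization.AtPrime p)
  {B0 : Type u} [CommRing B0] [Algebra B B0] (M0 : Submonoid B) [IsLocalization M0 B0]
  (lam0 : B0 →ₐ[B] Localization.AtPrime p) (s' : Fin l → B0) (hs : ∀ k, lam0 (s' k) = s k)

section chi

variable {T : Type w} [CommRing T] [Algebra B T]
  (hP : ∀ b ∈ p.primeCompl, IsUnit (algebraMap B T b)) (κ : SqRing l B0 s' →ₐ[B] T)

/-- the map `B_p → T` when `T` inverts the complement of `p`. -/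
noncomputable def gT : Localization.AtPrime p →ₐ[B] T :=
  IsLocalization.liftAlgHom (M := p.primeCompl) (f := Algebra.ofId B T) (fun y => hP y y.2)

include M0 hs in
theorem chi_aux (k : Fin l) :
    κ (SqRing.xbar s' k) ^ 2 = gT p hP (s k) := by
  rw [← map_pow, SqRing.xbar_sq, ← hs k]
  have h1 : (κ.comp (IsScalarTower.toAlgHom B B0 (SqRing l B0 s'))) = (gT p hP).comp lam0 :=
    (IsLocalization.algHom_subsingleton M0 (S := B0)).elim _ _
  exact DFunLike.congr_fun h1 (s' k)

/-- the map `Q_p → T` induced by `κ : Q₀ → T` when `T` inverts the complement of `p`. -/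
noncomputable def chi : SqRing l (Localization.AtPrime p) s →ₐ[B] T :=
  SqRing.liftAlgHom s (gT p hP) (fun k => κ (SqRing.xbar s' k)) (chi_aux p s M0 lam0 s' hs hP κ)

@[simp] theorem chi_xbar (k : Fin l) :
    chi p s M0 lam0 s' hs hP κ (SqRing.xbar s k) = κ (SqRing.xbar s' k) := by
  simp [chi]

end chi

/-- the localization of `Q₀` at the complement of `p`. -/
abbrev Lq : Type u :=
  Localization (Algebra.algebraMapSubmonoid (SqRing l B0 s') p.primeCompl)

theorem isUnit_Lq (b : B) (hb : b ∈ p.primeCompl) :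
    IsUnit (algebraMap B (Lq p s') b) := by
  rw [IsScalarTower.algebraMap_apply B (SqRing l B0 s') (Lq p s')]
  exact IsLocalization.map_units (Lq p s')
    (⟨algebraMap B (SqRing l B0 s') b, Algebra.mem_algebraMapSubmonoid_of_mem ⟨b, hb⟩⟩ :
      Algebra.algebraMapSubmonoid (SqRing l B0 s') p.primeCompl)

/-- `Q_p → L`. -/
noncomputable def chiL : SqRing l (Localization.AtPrime p) s →ₐ[B] Lq p s' :=
  chi (T := Lq p s') p s M0 lam0 s' hs (isUnit_Lq p s')
    (IsScalarTower.toAlgHom B (SqRing l B0 s') (Lq p s'))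

variable {T : Type w} [CommRing T] [Algebra B T]
  (hP : ∀ b ∈ p.primeCompl, IsUnit (algebraMap B T b)) (κ : SqRing l B0 s' →ₐ[B] T)

/-- `L → T`. -/
noncomputable def ell : Lq p s' →ₐ[B] T :=
  IsLocalization.liftAlgHom (S := Lq p s')
    (M := Algebra.algebraMapSubmonoid (SqRing l B0 s') p.primeCompl) (f := κ) (by
      rintro ⟨y, b, hb, rfl⟩
      simpa using hP b hb)

theorem ell_algebraMap (x : SqRing l B0 s') :
    ell p s' hP κ (algebraMap _ (Lq p s') x) = κ x := by
  simp [ell]

theorem ell_chiL (x : SqRing l (Localization.AtPrime p) s) :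
    ell p s' hP κ (chiL p s M0 lam0 s' hs x) = chi p s M0 lam0 s' hs hP κ x := by
  have : (ell p s' hP κ).comp (chiL p s M0 lam0 s' hs) = chi p s M0 lam0 s' hs hP κ := by
    apply SqRing.algHom_ext_of_loc s p.primeCompl
    intro k
    simp [chiL, ell_algebraMap]
  exact DFunLike.congr_fun this x

include M0 lam0 hs in
/-- descent of a partition of unity from `Q_p` to `Q₀`. -/
theorem exists_partition {r : ℕ} (f : Fin r → SqRing l (Localization.AtPrime p) s)
    (hf : Ideal.span (Set.range f) = ⊤) :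
    ∃ (φ γ : Fin r → SqRing l B0 s') (c₁ c c' : B), c₁ ∈ p.primeCompl ∧ c ∈ p.primeCompl ∧
      c' ∈ p.primeCompl ∧
      (∀ i, algebraMap (SqRing l B0 s') (Lq p s') (φ i)
        = algebraMap B (Lq p s') c₁ * chiL p s M0 lam0 s' hs (f i)) ∧
      algebraMap B (SqRing l B0 s') c * ∑ i, γ i * φ i = algebraMap B (SqRing l B0 s') c' := by
  have h1 : (1 : SqRing l (Localization.AtPrime p) s) ∈ Ideal.span (Set.range f) := by
    rw [hf]; trivial
  obtain ⟨g, hg⟩ := (Ideal.mem_span_range_iff_exists_fun).mp h1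
  obtain ⟨d₁, hd₁⟩ := IsLocalization.exist_integer_multiples_of_finite
    (Algebra.algebraMapSubmonoid (SqRing l B0 s') p.primeCompl)
    (fun i => chiL p s M0 lam0 s' hs (f i))
  obtain ⟨d₂, hd₂⟩ := IsLocalization.exist_integer_multiples_of_finite
    (Algebra.algebraMapSubmonoid (SqRing l B0 s') p.primeCompl)
    (fun i => chiL p s M0 lam0 s' hs (g i))
  choose φ hφ using hd₁
  choose γ hγ using hd₂
  obtain ⟨c₁, hc₁, hc₁d⟩ := d₁.2
  obtain ⟨c₂, hc₂, hc₂d⟩ := d₂.2
  have e : algebraMap (SqRing l B0 s') (Lq p s') (∑ i, γ i * φ i)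
      = algebraMap (SqRing l B0 s') (Lq p s') ((d₂ : SqRing l B0 s') * d₁) := by
    rw [map_sum]
    simp only [map_mul, hφ, hγ, Algebra.smul_def]
    have h2 : ∀ i, algebraMap (SqRing l B0 s') (Lq p s') (d₂ : SqRing l B0 s')
          * chiL p s M0 lam0 s' hs (g i)
          * (algebraMap (SqRing l B0 s') (Lq p s') (d₁ : SqRing l B0 s')
            * chiL p s M0 lam0 s' hs (f i))
        = algebraMap (SqRing l B0 s') (Lq p s') (d₂ : SqRing l B0 s')
          * algebraMap (SqRing l B0 s') (Lq p s') (d₁ : SqRing l B0 s')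
          * chiL p s M0 lam0 s' hs (g i * f i) := by
      intro i; rw [map_mul]; ring
    simp only [h2]
    rw [← Finset.mul_sum, ← map_sum, hg, map_one, mul_one]
  obtain ⟨c₃, hc₃⟩ := (IsLocalization.eq_iff_exists
    (Algebra.algebraMapSubmonoid (SqRing l B0 s') p.primeCompl) (Lq p s')).mp e
  obtain ⟨c₃', hc₃', hc₃d⟩ := c₃.2
  refine ⟨φ, γ, c₁, c₃', c₃' * (c₂ * c₁), hc₁, hc₃', mul_mem hc₃' (mul_mem hc₂ hc₁), ?_, ?_⟩
  · intro i
    rw [hφ i, Algebra.smul_def, ← hc₁d]
    rw [← IsScalarTower.algebraMap_apply B (SqRing l B0 s') (Lq p s')]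
  · rw [map_mul, map_mul]
    erw [hc₃d, hc₂d, hc₁d]
    exact hc₃

end Construction

end Groth.Agent.Lib.T2H2.Spread
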