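import Groth.Agent.Lib.T2H2SpreadC

set_option autoImplicit false
universe u v w
open scoped TensorProduct

namespace Groth.Agent.Lib.T2H2.Spread

section LemmaE

variable (B : Type u) [CommRing B] (p : Ideal B) [p.IsPrime]
  (Q : Type u) [CommRing Q] [Algebra B Q]
  (A : Type v) [CommRing A] [Algebra B A] (lam : A ≃ₐ[B] A)
  (φ : Q)

/-- `Γ = Q ⊗ A`. -/
noncomputable abbrev Gam : Type (max u v) := Q ⊗[B] A

/-- the submonoid of `Γ` generated by `φ ⊗ 1` and the complement of `p`. -/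
noncomputable abbrev MGam : Submonoid (Gam B Q A) :=
  Submonoid.powers (φ ⊗ₜ[B] (1 : A)) ⊔ Algebra.algebraMapSubmonoid (Gam B Q A) p.primeCompl

/-- `Λ`, the localization of `Γ`. -/
noncomputable abbrev Lam : Type (max u v) := Localization (M := Gam B Q A) (MGam B p Q A φ)

/-- the involution on `Γ`. -/
noncomputable def sigGam : Gam B Q A →+* Gam B Q A :=
  ((Algebra.TensorProduct.congr (AlgEquiv.refl : Q ≃ₐ[Q] Q)
    lam : Gam B Q A ≃ₐ[Q] Gam B Q A) : Gam B Q A →+* Gam B Q A)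

@[simp] theorem sigGam_tmul (q : Q) (a : A) :
    sigGam B Q A lam (q ⊗ₜ[B] a) = q ⊗ₜ[B] lam a := by
  simp [sigGam]

theorem sigGam_algebraMap (b : B) :
    sigGam B Q A lam (algebraMap B (Gam B Q A) b) = algebraMap B (Gam B Q A) b := by
  rw [Algebra.TensorProduct.algebraMap_apply, sigGam_tmul, map_one]

theorem sigGam_fix (m : Gam B Q A) (hm : m ∈ MGam B p Q A φ) : sigGam B Q A lam m = m := by
  obtain ⟨y, ⟨k, rfl⟩, z, ⟨b, hb, rfl⟩, rfl⟩ := Submonoid.mem_sup.mp hm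
  rw [map_mul, map_pow, sigGam_tmul, map_one, sigGam_algebraMap]

/-- the involution on `Λ`. -/
noncomputable def sigLam : Lam B p Q A φ →+* Lam B p Q A φ :=
  IsLocalization.map (M := MGam B p Q A φ) (T := MGam B p Q A φ) (Lam B p Q A φ) (sigGam B Q A lam)
    (fun m hm => by rw [Submonoid.mem_comap, sigGam_fix B p Q A lam φ m hm]; exact hm)

theorem sigLam_algebraMap (x : Gam B Q A) :
    sigLam B p Q A lam φ (algebraMap (Gam B Q A) (Lam B p Q A φ) x)
      = algebraMap (Gam B Q A) (Lam B p Q A φ) (sigGam B Q A lam x) := by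
  simp [sigLam, IsLocalization.map_eq]

/-- the involution on `Λ` as a `B`-algebra map. -/
noncomputable def sigLamAlg : Lam B p Q A φ →ₐ[B] Lam B p Q A φ :=
  { sigLam B p Q A lam φ with
    commutes' := fun b => by
      show sigLam B p Q A lam φ (algebraMap B (Lam B p Q A φ) b) = _
      rw [IsScalarTower.algebraMap_apply B (Gam B Q A) (Lam B p Q A φ), sigLam_algebraMap,
        sigGam_algebraMap] }

theorem isUnit_Lam (b : B) (hb : b ∈ p.primeCompl) :
    IsUnit (algebraMap B (Lam B p Q A φ) b) := by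
  rw [IsScalarTower.algebraMap_apply B (Gam B Q A) (Lam B p Q A φ)]
  exact IsLocalization.map_units (Lam B p Q A φ)
    (⟨algebraMap B (Gam B Q A) b,
      Submonoid.mem_sup_right (Algebra.mem_algebraMapSubmonoid_of_mem ⟨b, hb⟩)⟩ : MGam B p Q A φ)

/-- `Q → Λ`. -/
noncomputable def kapLam : Q →ₐ[B] Lam B p Q A φ :=
  (IsScalarTower.toAlgHom B (Gam B Q A) (Lam B p Q A φ)).comp
    (Algebra.TensorProduct.includeLeft : Q →ₐ[B] Gam B Q A)

theorem kapLam_apply (q : Q) :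
    kapLam B p Q A φ q = algebraMap (Gam B Q A) (Lam B p Q A φ) (q ⊗ₜ[B] (1 : A)) := rfl

theorem isUnit_kapLam : IsUnit (kapLam B p Q A φ φ) := by
  rw [kapLam_apply]
  exact IsLocalization.map_units (Lam B p Q A φ)
    (⟨φ ⊗ₜ[B] (1 : A), Submonoid.mem_sup_left (Submonoid.mem_powers _)⟩ : MGam B p Q A φ)

end LemmaE

section chiLam

variable {B : Type u} [CommRing B] (p : Ideal B) [p.IsPrime]
  {l : ℕ} (s : Fin l → Localization.AtPrime p)
  {B0 : Type u} [CommRing B0] [Algebra B B0] (M0 : Submonoid B) [IsLocalization M0 B0]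
  (lam0 : B0 →ₐ[B] Localization.AtPrime p) (s' : Fin l → B0) (hs : ∀ k, lam0 (s' k) = s k)
  (Q : Type u) [CommRing Q] [Algebra B Q] (ψ : SqRing l B0 s' →ₐ[B] Q)
  (A : Type v) [CommRing A] [Algebra B A] (lam : A ≃ₐ[B] A)
  (φ : SqRing l B0 s')

/-- `Q_p → Λ`. -/
noncomputable def chiLam : SqRing l (Localization.AtPrime p) s →ₐ[B] Lam B p Q A (ψ φ) :=
  chi (T := Lam B p Q A (ψ φ)) p s M0 lam0 s' hs (isUnit_Lam B p Q A (ψ φ))
    ((kapLam B p Q A (ψ φ)).comp ψ)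

theorem sigLam_chiLam (x : SqRing l (Localization.AtPrime p) s) :
    sigLam B p Q A lam (ψ φ) (chiLam p s M0 lam0 s' hs Q ψ A φ x)
      = chiLam p s M0 lam0 s' hs Q ψ A φ x := by
  have : (sigLamAlg B p Q A lam (ψ φ)).comp (chiLam p s M0 lam0 s' hs Q ψ A φ)
      = chiLam p s M0 lam0 s' hs Q ψ A φ := by
    apply SqRing.algHom_ext_of_loc s p.primeCompl
    intro k
    show sigLam B p Q A lam (ψ φ) (chiLam p s M0 lam0 s' hs Q ψ A φ (SqRing.xbar s k)) = _
    rw [chiLam, chi_xbar, AlgHom.comp_apply, kapLam_apply, sigLam_algebraMap, sigGam_tmul, map_one]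
  exact DFunLike.congr_fun this x

variable (f : SqRing l (Localization.AtPrime p) s) (c₁ : B)
  (hrel : algebraMap (SqRing l B0 s') (Lq p s') φ
    = algebraMap B (Lq p s') c₁ * chiL p s M0 lam0 s' hs f)

include hrel in
theorem isUnit_chiLam : IsUnit (chiLam p s M0 lam0 s' hs Q ψ A φ f) := by
  have h1 := congrArg (ell p s' (isUnit_Lam B p Q A (ψ φ)) ((kapLam B p Q A (ψ φ)).comp ψ)) hrel
  rw [ell_algebraMap, map_mul, ell_chiL, AlgHom.commutes] at h1
  have h2 : IsUnit ((kapLam B p Q A (ψ φ)).comp ψ φ) := isUnit_kapLam B p Q A (ψ φ)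
  rw [h1] at h2
  exact isUnit_of_mul_isUnit_right h2

end chiLam

section LemmaEmain

variable {B : Type u} [CommRing B] (p : Ideal B) [p.IsPrime]
  {l : ℕ} (s : Fin l → Localization.AtPrime p)
  {B0 : Type u} [CommRing B0] [Algebra B B0] (M0 : Submonoid B) [IsLocalization M0 B0]
  (lam0 : B0 →ₐ[B] Localization.AtPrime p) (s' : Fin l → B0) (hs : ∀ k, lam0 (s' k) = s k)
  (Q : Type u) [CommRing Q] [Algebra B Q] (ψ : SqRing l B0 s' →ₐ[B] Q)
  (A : Type v) [CommRing A] [Algebra B A] (lam : A ≃ₐ[B] A)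
  (φ : SqRing l B0 s')
  (f : SqRing l (Localization.AtPrime p) s) (c₁ : B)
  (hrel : algebraMap (SqRing l B0 s') (Lq p s') φ
    = algebraMap B (Lq p s') c₁ * chiL p s M0 lam0 s' hs f)
  (C : Type u) [CommRing C] [Algebra B C] [Algebra (SqRing l (Localization.AtPrime p) s) C]
  [IsScalarTower B (SqRing l (Localization.AtPrime p) s) C] [IsLocalization.Away f C]

/-- `C → Λ`. -/
noncomputable def jC : C →ₐ[B] Lam B p Q A (ψ φ) :=
  IsLocalization.liftAlgHom (M := Submonoid.powers f)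
    (f := chiLam p s M0 lam0 s' hs Q ψ A φ) (by
      rintro ⟨y, j, rfl⟩
      simpa using (isUnit_chiLam p s M0 lam0 s' hs Q ψ A φ f c₁ hrel).pow j)

theorem jC_algebraMap (x : SqRing l (Localization.AtPrime p) s) :
    jC p s M0 lam0 s' hs Q ψ A φ f c₁ hrel C (algebraMap _ C x)
      = chiLam p s M0 lam0 s' hs Q ψ A φ x := by
  simp [jC]

theorem sigLam_jC (c : C) :
    sigLam B p Q A lam (ψ φ) (jC p s M0 lam0 s' hs Q ψ A φ f c₁ hrel C c)
      = jC p s M0 lam0 s' hs Q ψ A φ f c₁ hrel C c := by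
  have : (sigLam B p Q A lam (ψ φ)).comp
        (jC p s M0 lam0 s' hs Q ψ A φ f c₁ hrel C : C →+* Lam B p Q A (ψ φ))
      = (jC p s M0 lam0 s' hs Q ψ A φ f c₁ hrel C : C →+* Lam B p Q A (ψ φ)) := by
    apply IsLocalization.ringHom_ext (Submonoid.powers f)
    refine RingHom.ext fun x => ?_
    simp only [RingHom.comp_apply, RingHom.coe_coe, jC_algebraMap, sigLam_chiLam]
  exact DFunLike.congr_fun this c

/-- `A → Λ`. -/
noncomputable def iotaA : A →ₐ[B] Lam B p Q A (ψ φ) :=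
  (IsScalarTower.toAlgHom B (Gam B Q A) (Lam B p Q A (ψ φ))).comp
    (Algebra.TensorProduct.includeRight : A →ₐ[B] Gam B Q A)

theorem iotaA_apply (a : A) :
    iotaA p s' Q ψ A φ a = algebraMap (Gam B Q A) (Lam B p Q A (ψ φ)) ((1 : Q) ⊗ₜ[B] a) := rfl

/-- `C ⊗ A → Λ`. -/
noncomputable def PhiC : C ⊗[B] A →ₐ[B] Lam B p Q A (ψ φ) :=
  Algebra.TensorProduct.lift (jC p s M0 lam0 s' hs Q ψ A φ f c₁ hrel C) (iotaA p s' Q ψ A φ)
    (fun _ _ => Commute.all _ _)

theorem PhiC_tmul (c : C) (a : A) :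
    PhiC p s M0 lam0 s' hs Q ψ A φ f c₁ hrel C (c ⊗ₜ[B] a)
      = jC p s M0 lam0 s' hs Q ψ A φ f c₁ hrel C c
        * algebraMap (Gam B Q A) (Lam B p Q A (ψ φ)) ((1 : Q) ⊗ₜ[B] a) := by
  simp [PhiC, iotaA_apply]

theorem sigLam_PhiC (x : C ⊗[B] A) :
    sigLam B p Q A lam (ψ φ) (PhiC p s M0 lam0 s' hs Q ψ A φ f c₁ hrel C x)
      = PhiC p s M0 lam0 s' hs Q ψ A φ f c₁ hrel C
          (Algebra.TensorProduct.congr (AlgEquiv.refl : C ≃ₐ[C] C) lam x) := by
  induction x using TensorProduct.induction_on with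
  | zero => simp
  | tmul c a =>
    rw [PhiC_tmul, map_mul, sigLam_jC, sigLam_algebraMap, sigGam_tmul,
      Algebra.TensorProduct.congr_apply, Algebra.TensorProduct.map_tmul, PhiC_tmul]
    rfl
  | add x y hx hy => rw [map_add, map_add, map_add, hx, hy, map_add]

include s M0 lam0 hs f c₁ hrel in
/-- The key spreading-out step: congruence data over `C ⊗ A` (with `C` a localization of `Q_p`)
produces congruence data over `C' ⊗ A` for every `Q`-algebra `C'` inverting `φ` and one element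
outside `p`. -/
theorem lemmaE {n : ℕ} (h h' : Matrix (Fin n) (Fin n) A)
    (hv : ∃ v : Matrix (Fin n) (Fin n) (C ⊗[B] A), IsUnit v ∧
      (v.map (Algebra.TensorProduct.congr (AlgEquiv.refl : C ≃ₐ[C] C) lam)).transpose
        * h.map (Algebra.TensorProduct.includeRight : A →ₐ[B] C ⊗[B] A) * v
        = h'.map (Algebra.TensorProduct.includeRight : A →ₐ[B] C ⊗[B] A)) :
    ∃ m₀ ∈ p.primeCompl, ∀ (C' : Type u) [CommRing C'] [Algebra B C'] (j : Q →ₐ[B] C'),
      IsUnit (j (ψ φ)) → IsUnit (algebraMap B C' m₀) →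
      ∃ v' : Matrix (Fin n) (Fin n) (C' ⊗[B] A), IsUnit v' ∧
        (v'.map (Algebra.TensorProduct.congr (AlgEquiv.refl : C' ≃ₐ[C'] C') lam)).transpose
          * h.map (Algebra.TensorProduct.includeRight : A →ₐ[B] C' ⊗[B] A) * v'
          = h'.map (Algebra.TensorProduct.includeRight : A →ₐ[B] C' ⊗[B] A) := by
  obtain ⟨v, hvu, hveq⟩ := hv
  set Φ := PhiC p s M0 lam0 s' hs Q ψ A φ f c₁ hrel C with hΦ
  have hΦR : ∀ a : A, Φ ((1 : C) ⊗ₜ[B] a)
      = algebraMap (Gam B Q A) (Lam B p Q A (ψ φ)) ((1 : Q) ⊗ₜ[B] a) := by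
    intro a
    rw [hΦ, PhiC_tmul, map_one, one_mul]
  have hvΛ : IsUnit (v.map Φ) := by
    have := hvu.map (Φ : C ⊗[B] A →+* Lam B p Q A (ψ φ)).mapMatrix
    simpa [RingHom.mapMatrix_apply] using this
  have hmapH : ∀ g : Matrix (Fin n) (Fin n) A,
      (g.map (Algebra.TensorProduct.includeRight : A →ₐ[B] C ⊗[B] A)).map Φ
        = (g.map (Algebra.TensorProduct.includeRight : A →ₐ[B] Gam B Q A)).map
            (algebraMap (Gam B Q A) (Lam B p Q A (ψ φ))) := by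
    intro g
    ext i j
    simp [hΦR]
  let σC : C ⊗[B] A →+* C ⊗[B] A :=
    ((Algebra.TensorProduct.congr (AlgEquiv.refl : C ≃ₐ[C] C) lam :
      C ⊗[B] A ≃ₐ[C] C ⊗[B] A) : C ⊗[B] A →+* C ⊗[B] A)
  have hcompat : ∀ x, sigLam B p Q A lam (ψ φ) ((Φ : C ⊗[B] A →+* Lam B p Q A (ψ φ)) x)
      = (Φ : C ⊗[B] A →+* Lam B p Q A (ψ φ)) (σC x) := fun x =>
    sigLam_PhiC p s M0 lam0 s' hs Q ψ A lam φ f c₁ hrel C x
  have heqΛ : ((v.map Φ).map (sigLam B p Q A lam (ψ φ))).transpose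
        * (h.map (Algebra.TensorProduct.includeRight : A →ₐ[B] Gam B Q A)).map
            (algebraMap (Gam B Q A) (Lam B p Q A (ψ φ))) * v.map Φ
      = (h'.map (Algebra.TensorProduct.includeRight : A →ₐ[B] Gam B Q A)).map
            (algebraMap (Gam B Q A) (Lam B p Q A (ψ φ))) := by
    have h1 := congrArg (fun X : Matrix (Fin n) (Fin n) (C ⊗[B] A) => X.map Φ) hveq
    beta_reduce at h1
    rw [← hmapH, ← hmapH, ← h1]
    exact (map_congrExpr (Φ : C ⊗[B] A →+* Lam B p Q A (ψ φ)) σC (sigLam B p Q A lam (ψ φ))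
      hcompat v _).symm
  obtain ⟨m, hmM, hm⟩ := descend_congr.{max u v, max u v, max u v} (MGam B p Q A (ψ φ))
    (sigGam B Q A lam) (sigLam B p Q A lam (ψ φ)) (sigLam_algebraMap B p Q A lam (ψ φ))
    (sigGam_fix B p Q A lam (ψ φ))
    (h.map (Algebra.TensorProduct.includeRight : A →ₐ[B] Gam B Q A))
    (h'.map (Algebra.TensorProduct.includeRight : A →ₐ[B] Gam B Q A)) (v.map Φ) hvΛ heqΛ
  obtain ⟨y, ⟨k, rfl⟩, z, ⟨m₀, hm₀, rfl⟩, rfl⟩ := Submonoid.mem_sup.mp hmM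
  refine ⟨m₀, hm₀, ?_⟩
  intro C' _ _ j hj hm₀u
  let θ : Gam B Q A →ₐ[B] C' ⊗[B] A := Algebra.TensorProduct.map j (AlgHom.id B A)
  let σΩ : C' ⊗[B] A →+* C' ⊗[B] A :=
    ((Algebra.TensorProduct.congr (AlgEquiv.refl : C' ≃ₐ[C'] C') lam :
      C' ⊗[B] A ≃ₐ[C'] C' ⊗[B] A) : C' ⊗[B] A →+* C' ⊗[B] A)
  have hθσ : ∀ x, σΩ ((θ : Gam B Q A →+* C' ⊗[B] A) x)
      = (θ : Gam B Q A →+* C' ⊗[B] A) (sigGam B Q A lam x) := by
    intro x
    induction x using TensorProduct.induction_on with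
    | zero => simp
    | tmul q a => simp [θ, σΩ]
    | add x y hx hy => rw [map_add, map_add, map_add, map_add, hx, hy]
  have hθm : IsUnit ((θ : Gam B Q A →+* C' ⊗[B] A)
      (((ψ φ) ⊗ₜ[B] (1 : A)) ^ k * algebraMap B (Gam B Q A) m₀)) := by
    rw [map_mul, map_pow]
    refine IsUnit.mul (IsUnit.pow k ?_) ?_
    · have h2 : (θ : Gam B Q A →+* C' ⊗[B] A) ((ψ φ) ⊗ₜ[B] (1 : A))
          = (Algebra.TensorProduct.includeLeft : C' →ₐ[B] C' ⊗[B] A) (j (ψ φ)) := by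
        simp [θ]
      rw [h2]
      exact hj.map _
    · have h3 : (θ : Gam B Q A →+* C' ⊗[B] A) (algebraMap B (Gam B Q A) m₀)
          = (Algebra.TensorProduct.includeLeft : C' →ₐ[B] C' ⊗[B] A) (algebraMap B C' m₀) := by
        simp [θ, Algebra.TensorProduct.algebraMap_apply]
      rw [h3]
      exact hm₀u.map _
  obtain ⟨v', hv'u, hv'eq⟩ := hm (C' ⊗[B] A) (θ : Gam B Q A →+* C' ⊗[B] A) σΩ hθσ hθm
  refine ⟨v', hv'u, ?_⟩
  have hmap : ∀ g : Matrix (Fin n) (Fin n) A,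
      (g.map (Algebra.TensorProduct.includeRight : A →ₐ[B] Gam B Q A)).map
          (θ : Gam B Q A →+* C' ⊗[B] A)
        = g.map (Algebra.TensorProduct.includeRight : A →ₐ[B] C' ⊗[B] A) := by
    intro g
    ext i j
    simp [θ]
  rw [hmap, hmap] at hv'eq
  exact hv'eq

end LemmaEmain

end Groth.Agent.Lib.T2H2.Spread
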