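import Mathlib
import Groth.Agent.S0415

/-!
# Stein factorization of a geometrically connected proper morphism (helper2)

Namespace `Groth.Agent.Lib.T2H2.SteinUH`.

* `eq_of_retractions_of_preconnected`: two retractions `B → k` of an integral algebra over a field with connected
  spectrum agree.
* `universallyInjective_of_integral_of_dominated`: if `f = q ≫ p` with `p` integral, `q` surjective and `f`
  geometrically connected, then `p` is universally injective.
* `isUnivHomeo_fromNormalization`: the finite part of the Stein factorization of a proper geometrically connected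
  morphism is a universal homeomorphism.
-/

set_option autoImplicit false
set_option linter.style.haveILetI false
universe u
open CategoryTheory CategoryTheory.Limits AlgebraicGeometry

namespace Groth.Agent.Lib.T2H2.SteinUH

/-- two retractions of an integral algebra over a field with connected spectrum agree. -/
theorem eq_of_retractions_of_preconnected {k B : Type u} [Field k] [CommRing B] (φ : k →+* B)
    (hφ : φ.IsIntegral) (s₁ s₂ : B →+* k) (h₁ : s₁.comp φ = RingHom.id k)
    (h₂ : s₂.comp φ = RingHom.id k) [PreconnectedSpace (PrimeSpectrum B)] : s₁ = s₂ := by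
  by_contra hne
  have hex : ∃ b, s₁ b ≠ s₂ b := by
    by_contra hcon
    push Not at hcon
    exact hne (RingHom.ext hcon)
  obtain ⟨b₀, hb₀⟩ := hex
  have e₁ : ∀ c, s₁ (φ c) = c := fun c => RingHom.congr_fun h₁ c
  have e₂ : ∀ c, s₂ (φ c) = c := fun c => RingHom.congr_fun h₂ c
  set b : B := b₀ - φ (s₁ b₀) with hb
  have hb1 : s₁ b = 0 := by rw [hb, map_sub, e₁, sub_self]
  have hb2 : s₂ b ≠ 0 := by
    rw [hb, map_sub, e₂]
    exact sub_ne_zero.2 (Ne.symm hb₀)
  algebraize [φ]
  haveI : Algebra.IsIntegral k B := ⟨hφ⟩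
  let A : Subalgebra k B := Algebra.adjoin k {b}
  haveI : Module.Finite k A :=
    Algebra.finite_adjoin_simple_of_isIntegral (Algebra.IsIntegral.isIntegral b)
  haveI : IsArtinianRing A := isArtinian_of_tower k inferInstance
  haveI : Algebra.IsIntegral A B := Algebra.IsIntegral.tower_top (R := k)
  have hsurj : Function.Surjective (PrimeSpectrum.comap (algebraMap A B)) :=
    Algebra.IsIntegral.comap_surjective A B
  haveI : PreconnectedSpace (PrimeSpectrum A) := by
    rw [preconnectedSpace_iff_univ, ← hsurj.range_eq]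
    exact isPreconnected_range (PrimeSpectrum.continuous_comap (algebraMap A B))
  haveI : Subsingleton (PrimeSpectrum A) := PreconnectedSpace.trivial_of_discrete
  let t₁ : A →+* k := s₁.comp (algebraMap A B)
  let t₂ : A →+* k := s₂.comp (algebraMap A B)
  let p₁ : PrimeSpectrum A := ⟨RingHom.ker t₁, RingHom.ker_isPrime t₁⟩
  let p₂ : PrimeSpectrum A := ⟨RingHom.ker t₂, RingHom.ker_isPrime t₂⟩
  have hp : p₁ = p₂ := Subsingleton.elim _ _
  let bA : A := ⟨b, Algebra.self_mem_adjoin_singleton k b⟩
  have hm1 : bA ∈ p₁.asIdeal := by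
    change t₁ bA = 0
    exact hb1
  rw [hp] at hm1
  exact hb2 hm1

/-- if `q ≫ p` is geometrically connected with `q` surjective and `p` integral, then `p` is
universally injective. -/
theorem universallyInjective_of_dominated {X S' S : Scheme.{u}} (q : X ⟶ S') (p : S' ⟶ S)
    [IsIntegralHom p] [Surjective q] [GeometricallyConnected (q ≫ p)] :
    UniversallyInjective p := by
  refine ((tfae_universallyInjective p).out 0 1).2 ?_
  intro K _ g₁ g₂ hg
  change g₁ ≫ p = g₂ ≫ p at hg
  let t : Spec (.of K) ⟶ S := g₁ ≫ p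
  let σ₁ : Spec (.of K) ⟶ pullback p t := pullback.lift g₁ (𝟙 _) (by simp [t])
  let σ₂ : Spec (.of K) ⟶ pullback p t := pullback.lift g₂ (𝟙 _) (by simp [t, hg])
  suffices h : σ₁ = σ₂ by
    have h' : σ₁ ≫ pullback.fst p t = σ₂ ≫ pullback.fst p t := by rw [h]
    rw [pullback.lift_fst, pullback.lift_fst] at h'
    exact h'
  haveI : IsAffine (pullback p t) := isAffine_of_isAffineHom (pullback.snd p t)
  -- connectedness of `P`
  haveI : ConnectedSpace ↥(pullback (q ≫ p) t) :=
    (GeometricallyConnected.geometrically_connectedSpace (f := q ≫ p)) t _ _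
      (IsPullback.of_hasPullback _ _)
  let r : pullback (q ≫ p) t ⟶ pullback p t :=
    pullback.map (q ≫ p) t p t q (𝟙 _) (𝟙 _) (by simp) (by simp)
  have hr1 : r ≫ pullback.fst p t = pullback.fst (q ≫ p) t ≫ q := pullback.lift_fst _ _ _
  have hr2 : r ≫ pullback.snd p t = pullback.snd (q ≫ p) t :=
    (pullback.lift_snd _ _ _).trans (Category.comp_id _)
  have sq : IsPullback r (pullback.fst (q ≫ p) t) (pullback.fst p t) q := by
    refine IsPullback.of_right ?_ hr1 (IsPullback.of_hasPullback p t).flip
    rw [hr2]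
    exact (IsPullback.of_hasPullback (q ≫ p) t).flip
  haveI : Surjective r :=
    MorphismProperty.of_isPullback (P := @Surjective) sq.flip inferInstance
  haveI : ConnectedSpace ↥(pullback p t) := r.surjective.connectedSpace r.continuous
  haveI : ConnectedSpace ↥(Spec Γ(pullback p t, ⊤)) :=
    (pullback p t).isoSpec.hom.surjective.connectedSpace (pullback p t).isoSpec.hom.continuous
  haveI : PreconnectedSpace (PrimeSpectrum Γ(pullback p t, ⊤)) :=
    inferInstanceAs (PreconnectedSpace ↥(Spec Γ(pullback p t, ⊤)))
  -- the ring maps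
  let φ : K →+* Γ(pullback p t, ⊤) :=
    ((Scheme.ΓSpecIso (.of K)).inv ≫ (pullback.snd p t).appTop).hom
  let s₁ : Γ(pullback p t, ⊤) →+* K := (σ₁.appTop ≫ (Scheme.ΓSpecIso (.of K)).hom).hom
  let s₂ : Γ(pullback p t, ⊤) →+* K := (σ₂.appTop ≫ (Scheme.ΓSpecIso (.of K)).hom).hom
  have hσ₁ : σ₁ ≫ pullback.snd p t = 𝟙 _ := pullback.lift_snd _ _ _
  have hσ₂ : σ₂ ≫ pullback.snd p t = 𝟙 _ := pullback.lift_snd _ _ _
  have h₁ : s₁.comp φ = RingHom.id K := by
    have : ((Scheme.ΓSpecIso (.of K)).inv ≫ (pullback.snd p t).appTop) ≫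
        (σ₁.appTop ≫ (Scheme.ΓSpecIso (.of K)).hom) = 𝟙 _ := by
      rw [Category.assoc, ← Category.assoc (pullback.snd p t).appTop, ← Scheme.Hom.comp_appTop,
        hσ₁]
      simp
    exact congrArg CommRingCat.Hom.hom this
  have h₂ : s₂.comp φ = RingHom.id K := by
    have : ((Scheme.ΓSpecIso (.of K)).inv ≫ (pullback.snd p t).appTop) ≫
        (σ₂.appTop ≫ (Scheme.ΓSpecIso (.of K)).hom) = 𝟙 _ := by
      rw [Category.assoc, ← Category.assoc (pullback.snd p t).appTop, ← Scheme.Hom.comp_appTop,
        hσ₂]
      simp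
    exact congrArg CommRingCat.Hom.hom this
  have hφ : φ.IsIntegral := by
    have h1 : ((pullback.snd p t).appTop).hom.IsIntegral :=
      (pullback.snd p t).isIntegral_app ⊤ (isAffineOpen_top _)
    have h2 : ((Scheme.ΓSpecIso (.of K)).inv).hom.IsIntegral :=
      RingHom.isIntegral_of_surjective _
        (ConcreteCategory.bijective_of_isIso (Scheme.ΓSpecIso (.of K)).inv).2
    exact h2.trans _ _ h1
  have hs : s₁ = s₂ := eq_of_retractions_of_preconnected φ hφ s₁ s₂ h₁ h₂
  apply ext_of_isAffine
  have hs' : σ₁.appTop ≫ (Scheme.ΓSpecIso (.of K)).hom =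
      σ₂.appTop ≫ (Scheme.ΓSpecIso (.of K)).hom := CommRingCat.hom_ext hs
  exact (cancel_mono (Scheme.ΓSpecIso (.of K)).hom).1 hs'

/-- the finite part of the Stein factorization of a proper geometrically connected morphism is a
universal homeomorphism. -/
theorem isUnivHomeo_fromNormalization {X S : Scheme.{u}} (f : X ⟶ S) [IsProper f]
    [GeometricallyConnected f] : FlatMor.IsUnivHomeo f.fromNormalization := by
  haveI : GeometricallyConnected (f.toNormalization ≫ f.fromNormalization) := by
    rw [Scheme.Hom.toNormalization_fromNormalization]; infer_instance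
  haveI : Surjective (f.toNormalization ≫ f.fromNormalization) := by
    rw [Scheme.Hom.toNormalization_fromNormalization]; infer_instance
  refine (Groth.Agent.S0415.result _).2 ⟨inferInstance,
    universallyInjective_of_dominated f.toNormalization f.fromNormalization,
    Surjective.of_comp f.toNormalization f.fromNormalization⟩

end Groth.Agent.Lib.T2H2.SteinUH
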