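import Groth.Agent.Lib.T2H2KtoDB
import Groth.Agent.Lib.T2H8PerfLocal
import Groth.Agent.Lib.T2H8PCohTriangle
import Groth.Agent.Lib.Helper20OmegaAff
import Groth.Agent.Lib.Helper20LocFree
import Groth.Agent.Lib.Helper1Extend

/-!
# Strictly perfect complexes on `Spec R` are tildes of complexes of finite projective modules (T2H2)
-/

set_option autoImplicit false
set_option linter.style.haveILetI false
universe u
open CategoryTheory CategoryTheory.Limits AlgebraicGeometry Opposite

attribute [local instance] HasDerivedCategory.standard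

namespace Groth.Agent.Lib.T2H2.TildeLoc

open Groth.Agent.Lib.Helper23.QCohLocal Groth.Agent.Lib.T2H8.PCohQCoh
  Groth.Agent.Lib.T2H8.SchLocHtpy

variable (R : CommRingCat.{u})

/-- the complex of global sections of a complex on `Spec R` -/
noncomputable abbrev ΓCx (E : CochainComplex (Spec R).Modules ℤ) : CochainComplex (ModuleCat.{u} R) ℤ :=
  ((ΓF R).mapHomologicalComplex (ComplexShape.up ℤ)).obj E

/-- the tilde of a complex of modules -/
noncomputable abbrev tildeCx (K : CochainComplex (ModuleCat.{u} R) ℤ) :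
    CochainComplex (Spec R).Modules ℤ :=
  ((tilde.functor R).mapHomologicalComplex (ComplexShape.up ℤ)).obj K

/-- a complex with quasi-coherent terms on `Spec R` is the tilde of its global sections -/
noncomputable def tildeΓCxIso (E : CochainComplex (Spec R).Modules ℤ)
    (hq : ∀ i, (E.X i).IsQuasicoherent) : tildeCx R (ΓCx R E) ≅ E :=
  haveI hiso : ∀ i, IsIso ((tildeΓAdj R).counit.app (E.X i)) := fun i => by
    haveI := hq i
    exact isIso_fromTildeΓ (E.X i)
  HomologicalComplex.Hom.isoOfComponents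
    (fun i => @asIso _ _ _ _ ((tildeΓAdj R).counit.app (E.X i)) (hiso i))
    (fun i j _ => ((tildeΓAdj R).counit.naturality (E.d i j)).symm)

/-- global sections of a finite locally free module on `Spec R` are finite projective -/
theorem finite_projective_ΓF (N : (Spec R).Modules) (hN : FlatMod.IsFinLocFree N) :
    Module.Finite R ((ΓF R).obj N) ∧ Module.Projective R ((ΓF R).obj N) := by
  haveI : N.IsQuasicoherent := isQCoh_of_isFinLocFree _ hN
  haveI hiso : IsIso ((tildeΓAdj R).counit.app N) := isIso_fromTildeΓ N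
  have h1 : FlatMod.IsFinLocFree (tilde ((ΓF R).obj N)) :=
    isFinLocFree_of_iso (@asIso _ _ _ _ ((tildeΓAdj R).counit.app N) hiso).symm hN
  exact (Groth.Agent.Lib.Helper2.FPAff.isFinLocFree_tilde_iff R ((ΓF R).obj N)).1 h1

/-- global sections of a free module of finite rank on `Spec R` are finite free -/
theorem finite_free_ΓF (N : (Spec R).Modules) (n : ℕ)
    (e : N ≅ FlatMod.freeMod (Spec R) n) :
    Module.Finite R ((ΓF R).obj N) ∧ Module.Free R ((ΓF R).obj N) := by
  let F : ModuleCat.{u} R := ModuleCat.of R (Fin n →₀ R)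
  let e1 : tilde F ≅ FlatMod.freeMod (Spec R) n :=
    Groth.Agent.Lib.Helper20.LocFree.tildeFreeMod F (Finsupp.basisSingleOne)
  let e2 : (ΓF R).obj N ≅ (ΓF R).obj (tilde F) := (ΓF R).mapIso (e ≪≫ e1.symm)
  let e3 : F ≅ (ΓF R).obj (tilde F) := (tilde.toTildeΓNatIso (R := R)).app F
  let e4 : (Fin n →₀ R) ≃ₗ[R] (ΓF R).obj N := (e3 ≪≫ e2.symm).toLinearEquiv
  exact ⟨Module.Finite.equiv e4, Module.Free.of_equiv e4⟩

/-- a strictly perfect complex on `Spec R` is the tilde of a bounded complex of finite projective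
modules, whose terms are finite free where the terms of the given complex are free. -/
theorem exists_lift_strictlyPerfect (E : CochainComplex (Spec R).Modules ℤ)
    (hE : DCoh.IsStrictlyPerfect E) :
    ∃ (P : DRing.Cx R), Nonempty (tildeCx R P ≅ E) ∧
      (∀ a b : ℤ, DCoh.VanishesOutside E a b → DRing.VanishesOutside P a b) ∧
      DRing.TermwiseFiniteProjective P ∧
      (∀ i : ℤ, (∃ n : ℕ, Nonempty (E.X i ≅ FlatMod.freeMod (Spec R) n)) →
        Module.Finite R (P.X i) ∧ Module.Free R (P.X i)) := by
  have hq : ∀ i, (E.X i).IsQuasicoherent := fun i => isQCoh_of_isFinLocFree _ (hE.2 i)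
  refine ⟨ΓCx R E, ⟨tildeΓCxIso R E hq⟩, ?_, ?_, ?_⟩
  · intro a b hab i hi
    exact (ΓF R).map_isZero (hab i hi)
  · intro i
    exact finite_projective_ΓF R (E.X i) (hE.2 i)
  · rintro i ⟨n, ⟨e⟩⟩
    exact finite_free_ΓF R (E.X i) n e

end Groth.Agent.Lib.T2H2.TildeLoc
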