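import Groth.Agent.Lib.T2H2TildeLocA

/-!
# Restricting `M~` to `Spec A_f` (T2H2)
-/

set_option autoImplicit false
set_option linter.style.haveILetI false
universe u
open CategoryTheory CategoryTheory.Limits AlgebraicGeometry Opposite

attribute [local instance] HasDerivedCategory.standard

namespace Groth.Agent.Lib.T2H2.TildeLoc

open Groth.Agent.Lib.Helper23.QCohLocal Groth.Agent.Lib.T2H8.PCohQCoh
  Groth.Agent.Lib.T2H8.SchLocHtpy Groth.Agent.Lib.T2H8.PerfLocal
  Groth.Agent.Lib.Helper1.Extend

instance preservesFiniteLimits_tilde (R : CommRingCat.{u}) :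
    PreservesFiniteLimits (tilde.functor R) := (Groth.Agent.S9498.aux R).1

instance preservesFiniteColimits_tilde (R : CommRingCat.{u}) :
    PreservesFiniteColimits (tilde.functor R) := (Groth.Agent.S9498.aux R).2

theorem additive_tilde (R : CommRingCat.{u}) : (tilde.functor R).Additive := inferInstance

variable (A : Type u) [CommRing A] (f : A)

instance preservesFiniteLimits_tilde_of : PreservesFiniteLimits (tilde.functor (CommRingCat.of A)) :=
  (Groth.Agent.S9498.aux _).1

instance preservesFiniteColimits_tilde_of :
    PreservesFiniteColimits (tilde.functor (CommRingCat.of A)) :=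
  (Groth.Agent.S9498.aux _).2

instance additive_tilde_of : (tilde.functor (CommRingCat.of A)).Additive := additive_tilde _

/-- the localization map `A ⟶ A_f` -/
noncomputable abbrev awayHom : CommRingCat.of A ⟶ CommRingCat.of (Localization.Away f) :=
  CommRingCat.ofHom (algebraMap A (Localization.Away f))

/-- the open immersion `Spec A_f ⟶ Spec A` -/
noncomputable abbrev jAway :
    Spec (CommRingCat.of (Localization.Away f)) ⟶ Spec (CommRingCat.of A) :=
  Spec.map (awayHom A f)

instance isOpenImmersion_jAway : IsOpenImmersion (jAway A f) :=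
  Scheme.isOpenImmersion_SpecMap_localizationAway (R := CommRingCat.of A) f

/-- the restriction of `M~` to `Spec A_f` is `(M_f)~` -/
noncomputable def tildeRestrictIso :
    tilde.functor (CommRingCat.of A) ⋙ Scheme.Modules.restrictFunctor (jAway A f) ≅
      ext A (Localization.Away f) ⋙ tilde.functor (CommRingCat.of (Localization.Away f)) :=
  Functor.isoWhiskerLeft _ (Scheme.Modules.restrictFunctorIsoPullback (jAway A f)) ≪≫
    Groth.Agent.Lib.Helper20.OmegaAff.pullbackTildeIso (awayHom A f)

/-- the derived version -/
noncomputable def tildeDRestrictIso :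
    DCoh.tildeD (CommRingCat.of A) ⋙ rD (jAway A f) ≅
      extD A (Localization.Away f) ⋙ DCoh.tildeD (CommRingCat.of (Localization.Away f)) :=
  mapDerivedCategoryCompIso _ _ _ (tildeRestrictIso A f) ≪≫
    (mapDerivedCategoryCompIso (ext A (Localization.Away f))
      (tilde.functor (CommRingCat.of (Localization.Away f))) _ (Iso.refl _)).symm

end Groth.Agent.Lib.T2H2.TildeLoc
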