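import Groth.Agent.Lib.T2H2TildeLocB

/-!
# Perfectness / pseudo-coherence of `M~` restricted to `Spec A_f` (T2H2)
-/

set_option autoImplicit false
set_option linter.style.haveILetI false
universe u
open CategoryTheory CategoryTheory.Limits AlgebraicGeometry Opposite

attribute [local instance] HasDerivedCategory.standard

namespace Groth.Agent.Lib.T2H2.TildeLoc

open Groth.Agent.Lib.Helper23.QCohLocal Groth.Agent.Lib.T2H8.PCohQCoh
  Groth.Agent.Lib.T2H8.SchLocHtpy Groth.Agent.Lib.T2H8.PerfLocal
  Groth.Agent.Lib.T2H8.PCohTriangle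
  Groth.Agent.Lib.Helper1.Extend DerivedCategory

section Reflect

variable (R : CommRingCat.{u})

instance full_tildeD : (DCoh.tildeD R).Full := (Groth.Agent.S0997.result R).1

instance faithful_tildeD : (DCoh.tildeD R).Faithful := (Groth.Agent.S0997.result R).2.1

/-- `tildeD` reflects `m`-approximations -/
theorem isApprox_of_tildeD {K L : DerivedCategory (ModuleCat.{u} R)} (β : K ⟶ L) (m : ℤ)
    (h : IsApprox m ((DCoh.tildeD R).map β)) : IsApprox m β := by
  have key : ∀ i : ℤ, Arrow.mk ((homologyFunctor _ i).map ((DCoh.tildeD R).map β)) ≅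
      Arrow.mk ((tilde.functor R).map ((homologyFunctor _ i).map β)) := fun i =>
    Arrow.isoMk ((mapDerivedCategoryHomologyIso (tilde.functor R) i).app K)
      ((mapDerivedCategoryHomologyIso (tilde.functor R) i).app L)
      ((mapDerivedCategoryHomologyIso (tilde.functor R) i).hom.naturality β).symm
  refine ⟨fun i hi => ?_, ?_⟩
  · haveI := h.1 i hi
    haveI : IsIso ((tilde.functor R).map ((homologyFunctor _ i).map β)) :=
      ((MorphismProperty.isomorphisms _).arrow_mk_iso_iff (key i)).1
        (inferInstanceAs (IsIso ((homologyFunctor _ i).map ((DCoh.tildeD R).map β))))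
    exact isIso_of_fully_faithful (tilde.functor R) _
  · haveI := h.2
    haveI : Epi ((tilde.functor R).map ((homologyFunctor _ m).map β)) :=
      ((MorphismProperty.epimorphisms _).arrow_mk_iso_iff (key m)).1
        (inferInstanceAs (Epi ((homologyFunctor _ m).map ((DCoh.tildeD R).map β))))
    exact (tilde.functor R).epi_of_epi_map this

end Reflect

instance full_tildeD_of (B : Type u) [CommRing B] : (DCoh.tildeD (CommRingCat.of B)).Full :=
  (Groth.Agent.S0997.result _).1

instance faithful_tildeD_of (B : Type u) [CommRing B] :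
    (DCoh.tildeD (CommRingCat.of B)).Faithful :=
  (Groth.Agent.S0997.result _).2.1

variable (A : Type u) [CommRing A] (f : A)

/-- perfectness of `M~` on `Spec A_f` gives perfectness of `M_f` -/
theorem isPerfect_extD_of_perfAt (M : Dual.D A)
    (h : PerfAt ((DCoh.tildeD (CommRingCat.of A)).obj M) (jAway A f)) :
    DRing.IsPerfect (Localization.Away f) ((extD A (Localization.Away f)).obj M) := by
  obtain ⟨E, hE, ⟨e⟩⟩ := h
  obtain ⟨P, ⟨ε⟩, hvan, hfp, -⟩ :=
    exists_lift_strictlyPerfect (CommRingCat.of (Localization.Away f)) E hE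
  obtain ⟨⟨a, b, hab⟩, -⟩ := hE
  let t : (DCoh.tildeD (CommRingCat.of (Localization.Away f))).obj
      ((extD A (Localization.Away f)).obj M) ≅
      (DCoh.tildeD (CommRingCat.of (Localization.Away f))).obj (Q.obj P) :=
    ((tildeDRestrictIso A f).app M).symm ≪≫ e ≪≫ Q.mapIso ε.symm ≪≫
      ((tilde.functor (CommRingCat.of (Localization.Away f))).mapDerivedCategoryFactors.app P).symm
  exact ⟨P, a, b, hvan a b hab, hfp,
    ⟨((DCoh.tildeD (CommRingCat.of (Localization.Away f))).preimageIso t).symm⟩⟩

/-- an `m`-approximation of `M~` on `Spec A_f` by a complex of finite free modules gives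
`m`-pseudo-coherence of `M_f` -/
theorem isPC_extD_of_approx (M : Dual.D A) (m : ℤ)
    (E : CochainComplex (Spec (CommRingCat.of (Localization.Away f))).Modules ℤ)
    (α : Q.obj E ⟶ (rD (jAway A f)).obj ((DCoh.tildeD (CommRingCat.of A)).obj M))
    (hE : DCoh.IsStrictlyPerfect E)
    (hfree : ∀ i : ℤ, ∃ n : ℕ, Nonempty (E.X i ≅ FlatMod.freeMod _ n))
    (hα : IsApprox m α) :
    DRing.IsPseudoCoherent (Localization.Away f) m ((extD A (Localization.Away f)).obj M) := by
  obtain ⟨P, ⟨ε⟩, hvan, -, hff⟩ :=
    exists_lift_strictlyPerfect (CommRingCat.of (Localization.Away f)) E hE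
  obtain ⟨⟨a, b, hab⟩, -⟩ := hE
  let α' : (DCoh.tildeD (CommRingCat.of (Localization.Away f))).obj (Q.obj P) ⟶
      (DCoh.tildeD (CommRingCat.of (Localization.Away f))).obj
        ((extD A (Localization.Away f)).obj M) :=
    ((tilde.functor (CommRingCat.of (Localization.Away f))).mapDerivedCategoryFactors.app P).hom ≫
      Q.map ε.hom ≫ α ≫ ((tildeDRestrictIso A f).app M).hom
  have hα' : IsApprox m α' :=
    (isApprox_of_isIso m _).comp ((isApprox_of_isIso m _).comp
      (hα.comp (isApprox_of_isIso m _)))
  let β : Q.obj P ⟶ (extD A (Localization.Away f)).obj M :=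
    (DCoh.tildeD (CommRingCat.of (Localization.Away f))).preimage α'
  have hβ : IsApprox m β := by
    refine isApprox_of_tildeD _ β m ?_
    rw [Functor.map_preimage]
    exact hα'
  exact ⟨P, a, b, β, hvan a b hab, fun i => hff i (hfree i), hβ.1, hβ.2⟩

end Groth.Agent.Lib.T2H2.TildeLoc
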