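import Groth.Agent.Lib.T2H2TildeLocC
import Groth.Agent.Lib.Helper1TorJ
import Groth.Agent.S6960

/-!
# `M~` perfect / pseudo-coherent on `Spec A` implies `M` perfect / pseudo-coherent (T2H2)
-/

set_option autoImplicit false
set_option linter.style.haveILetI false
universe u
open CategoryTheory CategoryTheory.Limits AlgebraicGeometry Opposite

attribute [local instance] HasDerivedCategory.standard

namespace Groth.Agent.Lib.T2H2.TildeLoc

open Groth.Agent.Lib.Helper23.QCohLocal Groth.Agent.Lib.T2H8.PCohQCoh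
  Groth.Agent.Lib.T2H8.SchLocHtpy Groth.Agent.Lib.T2H8.PerfLocal
  Groth.Agent.Lib.T2H8.PCohTriangle
  Groth.Agent.Lib.Helper1.Extend DerivedCategory

variable (A : Type u) [CommRing A]

/-- every point of the range of an open immersion into `Spec A` has a basic open neighbourhood
`Spec A_f` factoring through it. -/
theorem exists_away_lift {U : Scheme.{u}} (j : U ⟶ Spec (CommRingCat.of A)) [IsOpenImmersion j]
    (x' : U) :
    ∃ (f : A) (i : Spec (CommRingCat.of (Localization.Away f)) ⟶ U) (_ : IsOpenImmersion i),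
      i ≫ j = jAway A f ∧ (j x' : PrimeSpectrum A) ∈ PrimeSpectrum.basicOpen f := by
  have hx : (j x' : PrimeSpectrum A) ∈ (Set.range j : Set (PrimeSpectrum A)) := ⟨x', rfl⟩
  obtain ⟨_, ⟨f, rfl⟩, hxf, hfU⟩ :=
    PrimeSpectrum.isTopologicalBasis_basic_opens.exists_subset_of_mem_open hx
      j.opensRange.isOpen
  have hr : Set.range (jAway A f) ⊆ Set.range j := by
    have h1 : Set.range (jAway A f) = (PrimeSpectrum.basicOpen f : Set (PrimeSpectrum A)) :=
      PrimeSpectrum.localization_away_comap_range _ f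
    rw [h1]
    exact hfU
  haveI : IsOpenImmersion (IsOpenImmersion.lift j (jAway A f) hr ≫ j) := by
    rw [IsOpenImmersion.lift_fac]
    infer_instance
  exact ⟨f, IsOpenImmersion.lift j (jAway A f) hr, IsOpenImmersion.of_comp _ j,
    IsOpenImmersion.lift_fac j (jAway A f) hr, hxf⟩

/-- quasi-compactness of `Spec A`, in the form of a finite family generating the unit ideal. -/
theorem exists_fin_span_eq_top (Pr : A → Prop)
    (h : ∀ x : PrimeSpectrum A, ∃ f : A, x ∈ PrimeSpectrum.basicOpen f ∧ Pr f) :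
    ∃ (r : ℕ) (g : Fin r → A), Ideal.span (Set.range g) = ⊤ ∧ ∀ i, Pr (g i) := by
  classical
  choose f hf hPr using h
  have hS : Ideal.span (Set.range f) = ⊤ := by
    by_contra hne
    obtain ⟨m, hm, hle⟩ := Ideal.exists_le_maximal _ hne
    have h1 : f ⟨m, hm.isPrime⟩ ∈ m := hle (Ideal.subset_span ⟨_, rfl⟩)
    exact (hf ⟨m, hm.isPrime⟩) h1
  have h1 : (1 : A) ∈ Submodule.span A (Set.range f) := by
    change (1 : A) ∈ Ideal.span (Set.range f)
    rw [hS]
    trivial
  obtain ⟨T, hT, h1T⟩ := Submodule.mem_span_finite_of_mem_span h1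
  refine ⟨T.card, fun i => (T.equivFin.symm i : A), ?_, fun i => ?_⟩
  · rw [Ideal.eq_top_iff_one]
    have hrange : Set.range (fun i => (T.equivFin.symm i : A)) = (T : Set A) := by
      ext a
      constructor
      · rintro ⟨i, rfl⟩
        exact (T.equivFin.symm i).2
      · intro ha
        exact ⟨T.equivFin ⟨a, ha⟩, by simp⟩
    rw [hrange]
    exact h1T
  · obtain ⟨x, hx⟩ := hT (T.equivFin.symm i).2
    change Pr (T.equivFin.symm i : A)
    rw [← hx]
    exact hPr x

variable {A}

lemma isPerfect_of_iso {K L : Dual.D A} (e : K ≅ L) (h : DRing.IsPerfect A K) :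
    DRing.IsPerfect A L := by
  obtain ⟨E, a, b, hE, hP, ⟨e'⟩⟩ := h
  exact ⟨E, a, b, hE, hP, ⟨e' ≪≫ e⟩⟩

lemma isPC_of_iso' {K L : Dual.D A} (e : K ≅ L) (m : ℤ) (h : DRing.IsPseudoCoherent A m K) :
    DRing.IsPseudoCoherent A m L := by
  obtain ⟨E, a, b, α, hE, hF, hiso, hepi⟩ := h
  have h2 : IsApprox m (α ≫ e.hom) := IsApprox.comp ⟨hiso, hepi⟩ (isApprox_of_isIso m _)
  exact ⟨E, a, b, α ≫ e.hom, hE, hF, h2.1, h2.2⟩

variable (A)

/-- if `M~` is perfect then `M` is perfect -/
theorem isPerfect_of_isPerfect_tildeD (M : Dual.D A)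
    (h : DCoh.IsPerfect ((DCoh.tildeD (CommRingCat.of A)).obj M)) : DRing.IsPerfect A M := by
  rw [isPerfect_iff] at h
  obtain ⟨r, g, hg, hPr⟩ := exists_fin_span_eq_top A
    (fun f => DRing.IsPerfect (Localization.Away f) ((extD A (Localization.Away f)).obj M))
    (fun x => by
      obtain ⟨U, j, hj, x', hx', hP⟩ := h x
      obtain ⟨f, i, hi, hij, hxf⟩ := exists_away_lift A j x'
      refine ⟨f, ?_, isPerfect_extD_of_perfAt A f M (hP.refine i (jAway A f) hij)⟩
      rw [← hx']
      exact hxf)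
  let K := Q.objPreimage M
  let e₀ : Q.obj K ≅ M := Q.objObjPreimageIso M
  have h1 : DRing.IsPerfect A (DRing.toD K) := by
    refine Groth.Agent.S6960.result g hg K (fun i => ?_)
    exact isPerfect_of_iso ((extD A (Localization.Away (g i))).mapIso e₀.symm ≪≫
      mapQIso (ext A (Localization.Away (g i))) K) (hPr i)
  exact isPerfect_of_iso e₀ h1

end Groth.Agent.Lib.T2H2.TildeLoc
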