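import Mathlib
import Groth.Agent.Lib.Helper13Tor
import Groth.Agent.Lib.Helper13TorMore
import Groth.Agent.Lib.Helper13TorBal
import Groth.Agent.Lib.Helper13TorColim
import Groth.Agent.Lib.Helper13TorAR
import Groth.Agent.Lib.Helper13Devissage

/-!
# A flatness criterion by Tor-vanishing (T2H2)

`flat_of_tor_vanishing`: if `M_{f_i}` is flat over `A_{f_i}` for generators `f_1..f_r` of `I`,
`M/IM` is flat over `A/I` and `Tor_i^A(M, A/I) = 0` for `1 ≤ i ≤ r+1`, then `M` is flat.
Tools: `TZ_of_module` (Tor vanishing against modules over an `A`-algebra `B` with `B ⊗ M` flat),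
`TZ_of_killed_pow`, `TZ_of_powTorsion`, `TZ_localizedModule`, `flat_of_TZ_one`.
-/

set_option autoImplicit false
universe u
open CategoryTheory CategoryTheory.Limits MonoidalCategory TensorProduct

namespace Groth.Agent.Lib.T2H2.TorFlatCrit

open Groth.Agent.Helper13Tor

variable {A : Type u} [CommRing A]

/-- vanishing of `Tor_i(M, N)` -/
abbrev TZ (M N : ModuleCat.{u} A) (i : ℕ) : Prop :=
  IsZero (((Tor (ModuleCat.{u} A) i).obj M).obj N)

theorem TZ_of_iso {M N N' : ModuleCat.{u} A} (e : N ≅ N') {i : ℕ} (h : TZ M N i) : TZ M N' i :=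
  IsZero.of_iso h (((Tor (ModuleCat.{u} A) i).obj M).mapIso e.symm)

theorem TZ_of_subsingleton (M N : ModuleCat.{u} A) [Subsingleton N] (i : ℕ) (hi : 0 < i) :
    TZ M N i := by
  have : Module.Flat A N := inferInstance
  exact isZero_tor_of_flat_right M N i hi

theorem nonempty_tor_symm (M N : ModuleCat.{u} A) (n : ℕ) :
    Nonempty (((Tor (ModuleCat.{u} A) n).obj M).obj N ≅ ((Tor (ModuleCat.{u} A) n).obj N).obj M) := by
  let P : ProjectiveResolution M := ProjectiveResolution.of M
  obtain ⟨e⟩ := nonempty_tor_iso_homology M N P n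
  let α : tensorRight N ≅ tL N := (BraidedCategory.tensorLeftIsoTensorRight N).symm
  exact ⟨e ≪≫ (HomologicalComplex.homologyFunctor _ _ n).mapIso
    ((NatIso.mapHomologicalComplex α (ComplexShape.down ℕ)).app P.complex) ≪≫ (torIso P N n).symm⟩

theorem TZ_symm {M N : ModuleCat.{u} A} {i : ℕ} (h : TZ M N i) : TZ N M i := by
  obtain ⟨e⟩ := nonempty_tor_symm N M i
  exact IsZero.of_iso h e

/-- vanishing passes to coproducts in the second variable -/
theorem TZ_sigma (M : ModuleCat.{u} A) {α : Type u} (f : α → ModuleCat.{u} A) (i : ℕ)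
    (h : ∀ a, TZ M (f a) i) : TZ M (∐ f) i := by
  apply TZ_symm
  show IsZero _
  rw [IsZero.iff_id_eq_zero]
  have h1 := Groth.Agent.Helper13TorAR.tor_map_eq_zero_sigma f (𝟙 M) i (fun a => by
    rw [CategoryTheory.Functor.map_id]
    exact (IsZero.iff_id_eq_zero _).1 (TZ_symm (h a)))
  rw [CategoryTheory.Functor.map_id] at h1
  exact h1


section inj

variable (B : Type u) [CommRing B] [Algebra A B]
  (M : Type u) [AddCommGroup M] [Module A M]

/-- if `B ⊗_A M` is `B`-flat then `M ⊗_A -` preserves injections of `B`-modules -/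
theorem lTensor_injective_of_flat_baseChange [Module.Flat B (B ⊗[A] M)]
    {K F : Type u} [AddCommGroup K] [Module A K] [Module B K] [IsScalarTower A B K]
    [AddCommGroup F] [Module A F] [Module B F] [IsScalarTower A B F]
    (g : K →ₗ[B] F) (hg : Function.Injective g) :
    Function.Injective (LinearMap.lTensor M (g.restrictScalars A)) := by
  have h1 : Function.Injective (LinearMap.rTensor (B ⊗[A] M) g) :=
    Module.Flat.rTensor_preserves_injective_linearMap g hg
  let eK := TensorProduct.AlgebraTensorModule.cancelBaseChange A B B K M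
  let eF := TensorProduct.AlgebraTensorModule.cancelBaseChange A B B F M
  have hsq : ∀ z, eF (LinearMap.rTensor (B ⊗[A] M) g z) =
      LinearMap.rTensor M (g.restrictScalars A) (eK z) := by
    intro z
    induction z using TensorProduct.induction_on with
    | zero => simp
    | tmul k y =>
      induction y using TensorProduct.induction_on with
      | zero => simp
      | tmul b m =>
        simp only [LinearMap.rTensor_tmul, eK, eF,
          TensorProduct.AlgebraTensorModule.cancelBaseChange_tmul, LinearMap.coe_restrictScalars,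
          map_smul]
      | add x y hx hy => simp only [TensorProduct.tmul_add, map_add, hx, hy]
    | add x y hx hy => simp only [map_add, hx, hy]
  have h2 : Function.Injective (LinearMap.rTensor M (g.restrictScalars A)) := by
    intro x y hxy
    obtain ⟨x', rfl⟩ := eK.surjective x
    obtain ⟨y', rfl⟩ := eK.surjective y
    rw [← hsq, ← hsq] at hxy
    rw [h1 (eF.injective hxy)]
  intro x y hxy
  have h3 : ∀ z : M ⊗[A] K, TensorProduct.comm A M F (LinearMap.lTensor M (g.restrictScalars A) z) =
      LinearMap.rTensor M (g.restrictScalars A) (TensorProduct.comm A M K z) := by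
    intro z
    induction z using TensorProduct.induction_on with
    | zero => simp
    | tmul m k => simp
    | add x y hx hy => simp only [map_add, hx, hy]
  have h4 := congr_arg (TensorProduct.comm A M F) hxy
  rw [h3, h3] at h4
  exact (TensorProduct.comm A M K).injective (h2 h4)

end inj


section gp

variable (B : Type u) [CommRing B] [Algebra A B]
  (M : Type u) [AddCommGroup M] [Module A M]

open DirectSum in
/-- a presentation of a `B`-module by a free `B`-module, seen over `A` -/
theorem exists_presentation (N : Type u) [AddCommGroup N] [Module A N] [Module B N]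
    [IsScalarTower A B N] :
    ∃ (K : Type u) (_ : AddCommGroup K) (_ : Module A K) (_ : Module B K)
      (_ : IsScalarTower A B K) (F : Type u) (_ : AddCommGroup F) (_ : Module A F)
      (_ : Module B F) (_ : IsScalarTower A B F) (j : K →ₗ[B] F) (π : F →ₗ[B] N),
      Function.Injective j ∧ Function.Surjective π ∧ Function.Exact j π ∧
      Nonempty ((∐ fun _ : N => ModuleCat.of A B) ≅ ModuleCat.of A F) := by
  classical
  let F := ⨁ _ : N, B
  let π : F →ₗ[B] N := DirectSum.toModule B N N (fun x => LinearMap.toSpanSingleton B N x)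
  have hπ : Function.Surjective π := by
    intro x
    refine ⟨DirectSum.lof B N (fun _ => B) x 1, ?_⟩
    show (DirectSum.toModule B N N fun x => LinearMap.toSpanSingleton B N x)
      ((DirectSum.lof B N (fun _ => B) x) 1) = x
    rw [DirectSum.toModule_lof, LinearMap.toSpanSingleton_apply, one_smul]
  refine ⟨LinearMap.ker π, inferInstance, inferInstance, inferInstance, inferInstance,
    F, inferInstance, inferInstance, inferInstance, inferInstance, (LinearMap.ker π).subtype, π,
    Submodule.injective_subtype _, hπ, LinearMap.exact_subtype_ker_map π, ?_⟩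
  exact ⟨ModuleCat.coprodIsoDirectSum (fun _ : N => ModuleCat.of A B)⟩


/-- **Tor vanishing over an algebra.** If `B ⊗_A M` is `B`-flat and `Tor_i^A(M, B) = 0` for
`1 ≤ i ≤ d`, then `Tor_i^A(M, N) = 0` for `1 ≤ i ≤ d` and every `B`-module `N`. -/
theorem TZ_of_module [Module.Flat B (B ⊗[A] M)] (d : ℕ)
    (hB : ∀ i, 1 ≤ i → i ≤ d → TZ (ModuleCat.of A M) (ModuleCat.of A B) i) :
    ∀ i, 1 ≤ i → i ≤ d → ∀ (N : Type u) [AddCommGroup N] [Module A N] [Module B N]
      [IsScalarTower A B N], TZ (ModuleCat.of A M) (ModuleCat.of A N) i := by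
  intro i hi
  induction i, hi using Nat.le_induction with
  | base =>
    intro hd N _ _ _ _
    obtain ⟨K, _, _, _, _, F, _, _, _, _, j, π, hj, hπ, hex, ⟨e⟩⟩ := exists_presentation (A := A) B N
    have hS := Groth.Agent.Helper13Devissage.shortExact_mk (A := A) (j.restrictScalars A)
      (π.restrictScalars A) hj hπ hex
    have hF : TZ (ModuleCat.of A M) (ModuleCat.of A F) 1 :=
      TZ_of_iso e (TZ_sigma _ _ 1 (fun _ => hB 1 le_rfl hd))
    exact (isZero_tor_one_iff_lTensor_injective (ModuleCat.of A M) _ hS hF).2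
      (lTensor_injective_of_flat_baseChange B M j hj)
  | succ i hi IH =>
    intro hd N _ _ _ _
    obtain ⟨K, _, _, _, _, F, _, _, _, _, j, π, hj, hπ, hex, ⟨e⟩⟩ := exists_presentation (A := A) B N
    have hS := Groth.Agent.Helper13Devissage.shortExact_mk (A := A) (j.restrictScalars A)
      (π.restrictScalars A) hj hπ hex
    have hF : TZ (ModuleCat.of A M) (ModuleCat.of A F) (i + 1) :=
      TZ_of_iso e (TZ_sigma _ _ (i + 1) (fun _ => hB (i + 1) (by omega) hd))
    exact isZero_tor₂_X₃ (ModuleCat.of A M) _ hS i hF (IH (by omega) K)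

end gp


section steps

variable (M : Type u) [AddCommGroup M] [Module A M]

/-- `Tor_i^A(M, N_f) = 0` for `i ≥ 1` when `M_f` is flat over `A_f`. -/
theorem TZ_localizedModule (f : A)
    (hM : Module.Flat (Localization.Away f) (LocalizedModule (Submonoid.powers f) M))
    (N : Type u) [AddCommGroup N] [Module A N] (i : ℕ) (hi : 1 ≤ i) :
    TZ (ModuleCat.of A M) (ModuleCat.of A (LocalizedModule (Submonoid.powers f) N)) i := by
  let B := Localization.Away f
  have hbc := IsLocalizedModule.isBaseChange (Submonoid.powers f) B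
    (LocalizedModule.mkLinearMap (Submonoid.powers f) M)
  have : Module.Flat B (B ⊗[A] M) := Module.Flat.of_linearEquiv hbc.equiv
  have hB : ∀ j, 1 ≤ j → j ≤ i → TZ (ModuleCat.of A M) (ModuleCat.of A B) j := by
    intro j hj _
    have : Module.Flat A (ModuleCat.of A B) := inferInstanceAs (Module.Flat A B)
    exact isZero_tor_of_flat_right _ _ j (by omega)
  exact TZ_of_module B M i hB i hi le_rfl (LocalizedModule (Submonoid.powers f) N)

variable (I : Ideal A)

/-- `Tor_i^A(M, N) = 0` for `1 ≤ i ≤ d` and `N` killed by `I`. -/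
theorem TZ_of_killed [Module.Flat (A ⧸ I) ((A ⧸ I) ⊗[A] M)] (d : ℕ)
    (hB : ∀ i, 1 ≤ i → i ≤ d → TZ (ModuleCat.of A M) (ModuleCat.of A (A ⧸ I)) i)
    (N : Type u) [AddCommGroup N] [Module A N] (hN : ∀ a ∈ I, ∀ x : N, a • x = 0)
    (i : ℕ) (hi : 1 ≤ i) (hid : i ≤ d) :
    TZ (ModuleCat.of A M) (ModuleCat.of A N) i := by
  have ht : Module.IsTorsionBySet A N I := fun x a => hN a.1 a.2 x
  let _ : Module (A ⧸ I) N := ht.module
  have : IsScalarTower A (A ⧸ I) N := ht.isScalarTower
  exact TZ_of_module (A ⧸ I) M d hB i hi hid N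

/-- `Tor_i^A(M, N) = 0` for `1 ≤ i ≤ d` and `N` killed by a power of `I`. -/
theorem TZ_of_killed_pow [Module.Flat (A ⧸ I) ((A ⧸ I) ⊗[A] M)] (d : ℕ)
    (hB : ∀ i, 1 ≤ i → i ≤ d → TZ (ModuleCat.of A M) (ModuleCat.of A (A ⧸ I)) i)
    (i : ℕ) (hi : 1 ≤ i) (hid : i ≤ d) :
    ∀ (n : ℕ) (N : Type u) [AddCommGroup N] [Module A N] (_ : ∀ a ∈ I ^ n, ∀ x : N, a • x = 0),
      TZ (ModuleCat.of A M) (ModuleCat.of A N) i := by
  intro n
  induction n with
  | zero =>
    intro N _ _ hN
    have : Subsingleton N := ⟨fun x y => by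
      have hx := hN 1 (by simp) x
      have hy := hN 1 (by simp) y
      rw [one_smul] at hx hy
      rw [hx, hy]⟩
    have : Subsingleton (ModuleCat.of A N) := this
    exact TZ_of_subsingleton _ _ i (by omega)
  | succ n IH =>
    intro N _ _ hN
    let N' : Submodule A N := I • ⊤
    have h1 : ∀ a ∈ I ^ n, ∀ x : N', a • x = 0 := by
      intro a ha x
      apply Subtype.ext
      show a • (x : N) = 0
      have hx : (x : N) ∈ I • (⊤ : Submodule A N) := x.2
      refine Submodule.smul_induction_on hx ?_ ?_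
      · intro b hb y _
        rw [smul_smul]
        exact hN _ (by rw [pow_succ]; exact Ideal.mul_mem_mul ha hb) y
      · intro y z hy hz
        rw [smul_add, hy, hz, add_zero]
    have h3 : ∀ a ∈ I, ∀ x : N ⧸ N', a • x = 0 := by
      intro a ha x
      obtain ⟨y, rfl⟩ := Submodule.Quotient.mk_surjective _ x
      rw [← Submodule.Quotient.mk_smul, Submodule.Quotient.mk_eq_zero]
      exact Submodule.smul_mem_smul ha Submodule.mem_top
    have hS := Groth.Agent.Helper13Devissage.shortExact_mk (A := A) N'.subtype N'.mkQ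
      (Submodule.injective_subtype _) (Submodule.mkQ_surjective _)
      (LinearMap.exact_subtype_mkQ N')
    exact isZero_tor₂_X₂ (ModuleCat.of A M) _ hS i (IH N' h1)
      (TZ_of_killed M I d hB (N ⧸ N') h3 i hi hid)


/-- `Tor_i^A(M, N) = 0` for `1 ≤ i ≤ d` and `N` elementwise `I`-power torsion. -/
theorem TZ_of_powTorsion [Module.Flat (A ⧸ I) ((A ⧸ I) ⊗[A] M)] (d : ℕ)
    (hB : ∀ i, 1 ≤ i → i ≤ d → TZ (ModuleCat.of A M) (ModuleCat.of A (A ⧸ I)) i)
    (i : ℕ) (hi : 1 ≤ i) (hid : i ≤ d)
    (N : Type u) [AddCommGroup N] [Module A N] (hN : ∀ x : N, ∃ n : ℕ, ∀ a ∈ I ^ n, a • x = 0) :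
    TZ (ModuleCat.of A M) (ModuleCat.of A N) i := by
  refine Groth.Agent.Helper13Devissage.isZero_of_fg ((Tor (ModuleCat.{u} A) i).obj (ModuleCat.of A M))
    (fun J _ _ => preservesColimitsOfShape_tor (ModuleCat.of A M) i J) (ModuleCat.of A N) ?_
  intro N' hfg
  obtain ⟨s, hs⟩ := hfg
  -- a uniform exponent on the generators
  have hex : ∃ n : ℕ, ∀ x ∈ s, ∀ a ∈ I ^ n, a • (x : N) = 0 := by
    classical
    choose e he using hN
    refine ⟨s.sup e, fun x hx a ha => he x a ?_⟩
    exact Ideal.pow_le_pow_right (Finset.le_sup hx) ha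
  obtain ⟨n, hn⟩ := hex
  refine TZ_of_killed_pow M I d hB i hi hid n N' ?_
  intro a ha x
  apply Subtype.ext
  show a • (x : N) = 0
  have hx : (x : N) ∈ Submodule.span A (s : Set N) := by rw [hs]; exact x.2
  refine Submodule.span_induction ?_ ?_ ?_ ?_ hx
  · intro y hy
    exact hn y hy a ha
  · exact smul_zero a
  · intro y z _ _ hy hz
    rw [smul_add, hy, hz, add_zero]
  · intro b y _ hy
    rw [smul_comm, hy, smul_zero]

end steps


section main

variable (M : Type u) [AddCommGroup M] [Module A M] {r : ℕ} (f : Fin r → A)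

/-- elementwise torsion with respect to `f j`, `j < k` -/
def TorsLT (k : ℕ) (N : Type u) [AddCommGroup N] [Module A N] : Prop :=
  ∀ x : N, ∀ j : Fin r, (j : ℕ) < k → ∃ n : ℕ, f j ^ n • x = 0

theorem powTorsion_of_torsLT (N : Type u) [AddCommGroup N] [Module A N] (h : TorsLT f r N) :
    ∀ x : N, ∃ n : ℕ, ∀ a ∈ (Ideal.span (Set.range f)) ^ n, a • x = 0 := by
  intro x
  let J : Ideal A := LinearMap.ker (LinearMap.toSpanSingleton A N x)
  have hJ : ∀ a : A, a ∈ J ↔ a • x = 0 := fun a => by
    show a ∈ LinearMap.ker (LinearMap.toSpanSingleton A N x) ↔ _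
    rw [LinearMap.mem_ker, LinearMap.toSpanSingleton_apply]
  have hle : Ideal.span (Set.range f) ≤ J.radical := by
    rw [Ideal.span_le]
    rintro _ ⟨j, rfl⟩
    obtain ⟨n, hn⟩ := h x j j.2
    exact ⟨n, (hJ _).2 hn⟩
  obtain ⟨n, hn⟩ := Ideal.exists_pow_le_of_le_radical_of_fg hle
    (Submodule.fg_span (Set.finite_range f))
  exact ⟨n, fun a ha => (hJ a).1 (hn ha)⟩

/-- the statement proved by descending induction on `k` -/
def Q (k : ℕ) : Prop :=
  ∀ (N : Type u) [AddCommGroup N] [Module A N], TorsLT f k N →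
    ∀ i, 1 ≤ i → i ≤ k + 1 → TZ (ModuleCat.of A M) (ModuleCat.of A N) i

theorem Q_top [Module.Flat (A ⧸ Ideal.span (Set.range f)) ((A ⧸ Ideal.span (Set.range f)) ⊗[A] M)]
    (h3 : ∀ i, 1 ≤ i → i ≤ r + 1 →
      TZ (ModuleCat.of A M) (ModuleCat.of A (A ⧸ Ideal.span (Set.range f))) i) :
    Q M f r := by
  intro N _ _ hN i hi hir
  exact TZ_of_powTorsion M _ (r + 1) h3 i hi hir N (powTorsion_of_torsLT f N hN)

theorem Q_step
    (h1 : ∀ i, Module.Flat (Localization.Away (f i)) (LocalizedModule (Submonoid.powers (f i)) M))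
    (k : ℕ) (hk : k < r) (hQ : Q M f (k + 1)) : Q M f k := by
  intro N _ _ hN i hi hik
  let g : A := f ⟨k, hk⟩
  let S : Submonoid A := Submonoid.powers g
  let ℓ : N →ₗ[A] LocalizedModule S N := LocalizedModule.mkLinearMap S N
  -- the torsion part
  have hH0 : TorsLT f (k + 1) (LinearMap.ker ℓ) := by
    intro x j hj
    by_cases hjk : (j : ℕ) < k
    · obtain ⟨n, hn⟩ := hN (x : N) j hjk
      exact ⟨n, Subtype.ext hn⟩
    · have hj' : j = ⟨k, hk⟩ := Fin.ext (show (j : ℕ) = k by omega)
      have hx : ℓ (x : N) = 0 := x.2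
      rw [IsLocalizedModule.eq_zero_iff S ℓ] at hx
      obtain ⟨⟨c, n, rfl⟩, hc⟩ := hx
      refine ⟨n, Subtype.ext ?_⟩
      rw [hj']
      exact hc
  -- the cokernel
  have hH1 : TorsLT f (k + 1) (LocalizedModule S N ⧸ LinearMap.range ℓ) := by
    intro y j hj
    obtain ⟨y, rfl⟩ := Submodule.Quotient.mk_surjective _ y
    induction y using LocalizedModule.induction_on with
    | h x s =>
      by_cases hjk : (j : ℕ) < k
      · obtain ⟨n, hn⟩ := hN x j hjk
        refine ⟨n, ?_⟩
        rw [← Submodule.Quotient.mk_smul, LocalizedModule.smul'_mk, hn, LocalizedModule.zero_mk,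
          Submodule.Quotient.mk_zero]
      · have hj' : j = ⟨k, hk⟩ := Fin.ext (show (j : ℕ) = k by omega)
        obtain ⟨s, n, rfl⟩ := s
        refine ⟨n, ?_⟩
        rw [hj', ← Submodule.Quotient.mk_smul, Submodule.Quotient.mk_eq_zero]
        refine ⟨x, ?_⟩
        show LocalizedModule.mk x 1 = _
        rw [LocalizedModule.smul'_mk, LocalizedModule.mk_eq]
        exact ⟨1, by simp [Submonoid.smul_def, g]⟩
  have hNf : ∀ i, 1 ≤ i → TZ (ModuleCat.of A M) (ModuleCat.of A (LocalizedModule S N)) i :=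
    fun i hi => TZ_localizedModule M g (h1 _) N i hi
  -- the image
  have hS1 := Groth.Agent.Helper13Devissage.shortExact_mk (A := A) (LinearMap.range ℓ).subtype
    (LinearMap.range ℓ).mkQ (Submodule.injective_subtype _) (Submodule.mkQ_surjective _)
    (LinearMap.exact_subtype_mkQ _)
  have hbar : TZ (ModuleCat.of A M) (ModuleCat.of A (LinearMap.range ℓ)) i :=
    isZero_tor₂_X₁ (ModuleCat.of A M) _ hS1 i (hQ _ hH1 (i + 1) (by omega) (by omega)) (hNf i hi)
  have hS2 := Groth.Agent.Helper13Devissage.shortExact_mk (A := A) (LinearMap.ker ℓ).subtype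
    ℓ.rangeRestrict (Submodule.injective_subtype _) (LinearMap.surjective_rangeRestrict ℓ)
    (by
      intro y
      constructor
      · intro hy
        exact ⟨⟨y, by
          have := congr_arg Subtype.val hy
          exact this⟩, rfl⟩
      · rintro ⟨z, rfl⟩
        exact Subtype.ext z.2)
  exact isZero_tor₂_X₂ (ModuleCat.of A M) _ hS2 i (hQ _ hH0 i hi (by omega)) hbar


theorem Q_all
    (h1 : ∀ i, Module.Flat (Localization.Away (f i)) (LocalizedModule (Submonoid.powers (f i)) M))
    [Module.Flat (A ⧸ Ideal.span (Set.range f)) ((A ⧸ Ideal.span (Set.range f)) ⊗[A] M)]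
    (h3 : ∀ i, 1 ≤ i → i ≤ r + 1 →
      TZ (ModuleCat.of A M) (ModuleCat.of A (A ⧸ Ideal.span (Set.range f))) i) :
    ∀ m k : ℕ, k + m = r → Q M f k := by
  intro m
  induction m with
  | zero =>
    intro k hk
    obtain rfl : k = r := by omega
    exact Q_top M f h3
  | succ m IH =>
    intro k hk
    exact Q_step M f h1 k (by omega) (IH (k + 1) (by omega))

/-- flatness from vanishing of `Tor_1(M, -)` -/
theorem flat_of_TZ_one (h : ∀ (N : Type u) [AddCommGroup N] [Module A N],
    TZ (ModuleCat.of A M) (ModuleCat.of A N) 1) : Module.Flat A M := by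
  rw [Module.Flat.iff_lTensor_injective']
  intro J
  have hS := Groth.Agent.Helper13Devissage.shortExact_mk (A := A) J.subtype J.mkQ
    (Submodule.injective_subtype _) (Submodule.mkQ_surjective _) (LinearMap.exact_subtype_mkQ J)
  have hA : TZ (ModuleCat.of A M) (ModuleCat.of A A) 1 := by
    have : Module.Flat A (ModuleCat.of A A) := inferInstanceAs (Module.Flat A A)
    exact isZero_tor_of_flat_right _ _ 1 (by omega)
  exact (isZero_tor_one_iff_lTensor_injective (ModuleCat.of A M) _ hS hA).1 (h (A ⧸ J))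

/-- **Flatness criterion.** -/
theorem flat_of_tor_vanishing
    (h1 : ∀ i, Module.Flat (Localization.Away (f i)) (LocalizedModule (Submonoid.powers (f i)) M))
    (h2 : Module.Flat (A ⧸ Ideal.span (Set.range f)) ((A ⧸ Ideal.span (Set.range f)) ⊗[A] M))
    (h3 : ∀ i, 1 ≤ i → i ≤ r + 1 →
      TZ (ModuleCat.of A M) (ModuleCat.of A (A ⧸ Ideal.span (Set.range f))) i) :
    Module.Flat A M := by
  refine flat_of_TZ_one M (fun N _ _ => ?_)
  exact Q_all M f h1 h3 r 0 (by omega) N (fun x j hj => absurd hj (by omega)) 1 le_rfl le_rfl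

end main

end Groth.Agent.Lib.T2H2.TorFlatCrit
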