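import Mathlib
import Groth.Agent.Lib.Helper8TorFlip
import Groth.Agent.Lib.Helper13TorLin
import Groth.Agent.Lib.T2H2IdealPowZero

/-!
# Uniform vanishing of `Tor_p(I^n M, N) ⟶ Tor_p(M, N)` for `N` killed by `I` (helper2)
-/

set_option autoImplicit false
universe u
open CategoryTheory CategoryTheory.Limits MonoidalCategory

namespace Groth.Agent.Lib.T2H2.TorPowZero

open Groth.Agent.Helper13Tor

variable {A : Type u} [CommRing A] (N : ModuleCat.{u} A)

/-- `φ` induces zero on all `Tor_p(-, N)` -/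
def TZ {X Y : ModuleCat.{u} A} (φ : X ⟶ Y) : Prop :=
  ∀ p : ℕ, ((Tor (ModuleCat.{u} A) p).map φ).app N = 0

variable {N}

lemma TZ.comp_left {X Y Z : ModuleCat.{u} A} (φ : X ⟶ Y) {ψ : Y ⟶ Z} (h : TZ N ψ) :
    TZ N (φ ≫ ψ) := by
  intro p
  rw [Functor.map_comp, NatTrans.comp_app, h p, comp_zero]

lemma TZ.comp_right {X Y Z : ModuleCat.{u} A} {φ : X ⟶ Y} (h : TZ N φ) (ψ : Y ⟶ Z) :
    TZ N (φ ≫ ψ) := by
  intro p
  rw [Functor.map_comp, NatTrans.comp_app, h p, zero_comp]

lemma TZ_smul (X : ModuleCat.{u} A) (r : A) (hr : ∀ y : N, r • y = 0) : TZ N (r • 𝟙 X) := by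
  intro p
  have h1 := Groth.Agent.Lib.Helper8.TorFlip.α_naturality₁ p (r • 𝟙 X) N
  rw [Groth.Agent.Helper13TorLin.tor_map_smul_eq_zero N X r hr p, comp_zero] at h1
  exact (cancel_mono (Groth.Agent.Lib.Helper8.TorFlip.α p X N).hom).1 (by rw [h1, zero_comp])

lemma TZ_of_isZero_src {X Y : ModuleCat.{u} A} (φ : X ⟶ Y) (hX : IsZero X) : TZ N φ := by
  have h0 : TZ N ((0 : A) • 𝟙 X) := TZ_smul X 0 (fun y => zero_smul A y)
  have : φ = ((0 : A) • 𝟙 X) ≫ φ := hX.eq_of_src _ _
  rw [this]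
  exact h0.comp_right φ

lemma TZ_of_mono_comp {X Y Z : ModuleCat.{u} A} (φ : X ⟶ Y) (ψ : Y ⟶ Z)
    (hψ : ∀ p : ℕ, Mono (((Tor (ModuleCat.{u} A) p).map ψ).app N)) (h : TZ N (φ ≫ ψ)) :
    TZ N φ := by
  intro p
  have := hψ p
  have h1 := h p
  rw [Functor.map_comp, NatTrans.comp_app] at h1
  exact (cancel_mono (((Tor (ModuleCat.{u} A) p).map ψ).app N)).1 (by rw [h1, zero_comp])

section Modules

variable {M : Type u} [AddCommGroup M] [Module A M]

lemma TZ_of_le {S S' : Submodule A M} (h : S ≤ S') (h' : TZ N (ModuleCat.ofHom S'.subtype)) :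
    TZ N (ModuleCat.ofHom S.subtype) := by
  have : ModuleCat.ofHom S.subtype =
      ModuleCat.ofHom (Submodule.inclusion h) ≫ ModuleCat.ofHom S'.subtype := rfl
  rw [this]
  exact h'.comp_left _

/-- modules killed by a power of `f`: reduce from `I' ⊔ (f)` to `I'` -/
lemma TZ_incl_of_killed (I' : Ideal A) (f : A) (c n' : ℕ) (hX : ∀ x : M, f ^ c • x = 0)
    (h : TZ N (ModuleCat.ofHom (I' ^ n' • ⊤ : Submodule A M).subtype)) :
    TZ N (ModuleCat.ofHom ((I' ⊔ Ideal.span {f}) ^ (n' + c) • ⊤ : Submodule A M).subtype) := by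
  refine TZ_of_le ?_ h
  refine le_trans (Submodule.smul_mono_left Ideal.sup_pow_add_le_pow_sup_pow) ?_
  rw [Submodule.sup_smul, Ideal.span_singleton_pow]
  refine sup_le le_rfl ?_
  rw [Submodule.smul_le]
  intro r hr x _
  obtain ⟨a, rfl⟩ := Ideal.mem_span_singleton'.1 hr
  rw [mul_smul, hX, smul_zero]
  exact zero_mem _

end Modules

section TorsionFree

variable (M : Type u) [AddCommGroup M] [Module A M] (f : A)

/-- multiplication by `f` -/
abbrev mulF : M →ₗ[A] M := LinearMap.lsmul A M f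

/-- the quotient `M / fM` -/
abbrev QuotF : Type u := M ⧸ LinearMap.range (mulF M f)

lemma smul_quotF (y : QuotF M f) : f ^ 1 • y = 0 := by
  obtain ⟨x, rfl⟩ := Submodule.mkQ_surjective _ y
  rw [pow_one, ← map_smul, Submodule.mkQ_apply, Submodule.Quotient.mk_eq_zero]
  exact ⟨x, rfl⟩

/-- the short exact sequence `0 → M → M → M/fM → 0` for `f` a nonzerodivisor on `M` -/
noncomputable def scF : ShortComplex (ModuleCat.{u} A) :=
  ShortComplex.mk (ModuleCat.ofHom (mulF M f))
    (ModuleCat.ofHom (LinearMap.range (mulF M f)).mkQ) (by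
      apply ModuleCat.hom_ext
      apply LinearMap.ext
      intro x
      show (LinearMap.range (mulF M f)).mkQ (mulF M f x) = 0
      rw [Submodule.mkQ_apply, Submodule.Quotient.mk_eq_zero]
      exact ⟨x, rfl⟩)

lemma scF_shortExact (hf : ∀ x : M, f • x = 0 → x = 0) : (scF M f).ShortExact where
  exact := by
    rw [ShortComplex.moduleCat_exact_iff]
    intro x hx
    have hx' : (LinearMap.range (mulF M f)).mkQ x = 0 := hx
    rw [Submodule.mkQ_apply, Submodule.Quotient.mk_eq_zero] at hx'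
    exact hx'
  mono_f := by
    rw [ModuleCat.mono_iff_injective]
    intro x y hxy
    have h1 : f • x = f • y := hxy
    have h2 : f • (x - y) = 0 := by rw [smul_sub, h1, sub_self]
    exact sub_eq_zero.1 (hf _ h2)
  epi_g := by
    rw [ModuleCat.epi_iff_surjective]
    exact Submodule.mkQ_surjective _

lemma scF_f_eq : (scF M f).f = f • 𝟙 (ModuleCat.of A M) := rfl

variable {M f} in
lemma TZ_incl_of_torsionFree (hN : ∀ y : N, f • y = 0) (hf : ∀ x : M, f • x = 0 → x = 0)
    (I : Ideal A) (n : ℕ)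
    (h : TZ N (ModuleCat.ofHom (I ^ n • ⊤ : Submodule A (QuotF M f)).subtype)) :
    TZ N (ModuleCat.ofHom (I ^ n • ⊤ : Submodule A M).subtype) := by
  refine TZ_of_mono_comp _ (scF M f).g (fun p => ?_) ?_
  · have hex := tor_exact₂ (scF M f) (scF_shortExact M f hf) N p
    refine hex.mono_g ?_
    show ((Tor (ModuleCat.{u} A) p).map (scF M f).f).app N = 0
    rw [scF_f_eq]
    exact TZ_smul _ f hN p
  · have hmem : ∀ x ∈ (I ^ n • ⊤ : Submodule A M),
        (LinearMap.range (mulF M f)).mkQ x ∈ (I ^ n • ⊤ : Submodule A (QuotF M f)) := by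
      intro x hx
      have h1 : (LinearMap.range (mulF M f)).mkQ x ∈
          Submodule.map (LinearMap.range (mulF M f)).mkQ (I ^ n • ⊤ : Submodule A M) :=
        Submodule.mem_map_of_mem hx
      rw [Submodule.map_smul''] at h1
      exact Submodule.smul_mono le_rfl le_top h1
    have : ModuleCat.ofHom (I ^ n • ⊤ : Submodule A M).subtype ≫ (scF M f).g =
        ModuleCat.ofHom ((LinearMap.range (mulF M f)).mkQ.restrict hmem) ≫
          ModuleCat.ofHom (I ^ n • ⊤ : Submodule A (QuotF M f)).subtype := rfl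
    rw [this]
    exact h.comp_left _

end TorsionFree

section General

variable {M : Type u} [AddCommGroup M] [Module A M]

lemma mkQ_mem_smul_top (M' : Submodule A M) (J : Ideal A) (x : M)
    (hx : x ∈ (J • ⊤ : Submodule A M)) : M'.mkQ x ∈ (J • ⊤ : Submodule A (M ⧸ M')) := by
  have h1 : M'.mkQ x ∈ Submodule.map M'.mkQ (J • ⊤ : Submodule A M) :=
    Submodule.mem_map_of_mem hx
  rw [Submodule.map_smul''] at h1
  exact Submodule.smul_mono le_rfl le_top h1

lemma exists_mkQ_eq (M' : Submodule A M) (J : Ideal A) (y : M ⧸ M')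
    (hy : y ∈ (J • ⊤ : Submodule A (M ⧸ M'))) : ∃ x ∈ (J • ⊤ : Submodule A M), M'.mkQ x = y := by
  have h1 : (J • ⊤ : Submodule A (M ⧸ M')) = Submodule.map M'.mkQ (J • ⊤ : Submodule A M) := by
    rw [Submodule.map_smul'', Submodule.map_top, Submodule.range_mkQ]
  rw [h1] at hy
  exact hy

/-- the formal combination step -/
theorem TZ_incl_of_sub_quot (I : Ideal A) (M' : Submodule A M) (k na nb : ℕ)
    (X : Type u) [AddCommGroup X] [Module A X]
    (ρ : ↥(I ^ k • ⊤ : Submodule A M) →ₗ[A] X) (hρsurj : Function.Surjective ρ)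
    (hker : ∀ x : ↥(I ^ k • ⊤ : Submodule A M), ρ x = 0 → x.1 ∈ M')
    (ha : TZ N (ModuleCat.ofHom (I ^ na • ⊤ : Submodule A ↥M').subtype))
    (hAR : (I ^ k • ⊤ : Submodule A M) ⊓ M' ≤ I ^ na • M')
    (hb : TZ N (ModuleCat.ofHom (I ^ nb • ⊤ : Submodule A X).subtype)) :
    TZ N (ModuleCat.ofHom (I ^ (nb + k) • ⊤ : Submodule A M).subtype) := by
  let Ks : Submodule A M := I ^ k • ⊤
  let L : Submodule A ↥Ks := LinearMap.ker ρ
  let S : ShortComplex (ModuleCat.{u} A) :=
    ShortComplex.mk (ModuleCat.ofHom L.subtype) (ModuleCat.ofHom ρ) (by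
      apply ModuleCat.hom_ext
      apply LinearMap.ext
      intro x
      exact x.2)
  have hS : S.ShortExact :=
    { exact := by
        rw [ShortComplex.moduleCat_exact_iff]
        intro x hx
        exact ⟨⟨x, hx⟩, rfl⟩
      mono_f := by
        rw [ModuleCat.mono_iff_injective]
        exact Subtype.val_injective
      epi_g := by
        rw [ModuleCat.epi_iff_surjective]
        exact hρsurj }
  have hle : (I ^ (nb + k) • ⊤ : Submodule A M) ≤ Ks :=
    Submodule.smul_mono_left (Ideal.pow_le_pow_right (Nat.le_add_left k nb))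
  -- (a)
  have hθ : ∀ y : ↥(I ^ (nb + k) • ⊤ : Submodule A M),
      ρ (Submodule.inclusion hle y) ∈ (I ^ nb • ⊤ : Submodule A X) := by
    have hsub : (I ^ (nb + k) • ⊤ : Submodule A M) ≤
        Submodule.map Ks.subtype (Submodule.comap ρ (I ^ nb • ⊤ : Submodule A X)) := by
      rw [pow_add, Submodule.mul_smul, Submodule.smul_le]
      intro r hr z hz
      refine ⟨r • ⟨z, hz⟩, ?_, rfl⟩
      show ρ (r • ⟨z, hz⟩) ∈ (I ^ nb • ⊤ : Submodule A X)
      rw [map_smul]
      exact Submodule.smul_mem_smul hr trivial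
    intro y
    obtain ⟨w, hw, hwy⟩ := hsub y.2
    have : w = Submodule.inclusion hle y := Subtype.ext hwy
    rw [← this]
    exact hw
  have hA : TZ N (ModuleCat.ofHom (Submodule.inclusion hle) ≫ ModuleCat.ofHom ρ) := by
    have : ModuleCat.ofHom (Submodule.inclusion hle) ≫ ModuleCat.ofHom ρ =
        ModuleCat.ofHom ((ρ.comp (Submodule.inclusion hle)).codRestrict
          (I ^ nb • ⊤ : Submodule A X) hθ) ≫
          ModuleCat.ofHom (I ^ nb • ⊤ : Submodule A X).subtype := rfl
    rw [this]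
    exact hb.comp_left _
  -- (c)
  let j : ↥(I ^ na • ⊤ : Submodule A ↥M') →ₗ[A] M :=
    M'.subtype.comp (I ^ na • ⊤ : Submodule A ↥M').subtype
  have hj : Function.Injective j := Subtype.val_injective.comp Subtype.val_injective
  have hjrange : LinearMap.range j = I ^ na • M' := by
    rw [LinearMap.range_comp, Submodule.range_subtype, Submodule.map_smul'',
      Submodule.map_subtype_top]
  have hLmem : ∀ l : ↥L, (Ks.subtype.comp L.subtype) l ∈ LinearMap.range j := by
    intro l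
    rw [hjrange]
    refine hAR ⟨l.1.2, ?_⟩
    exact hker l.1 l.2
  let ψ : ↥L →ₗ[A] ↥(I ^ na • ⊤ : Submodule A ↥M') :=
    (LinearEquiv.ofInjective j hj).symm.toLinearMap.comp
      ((Ks.subtype.comp L.subtype).codRestrict (LinearMap.range j) hLmem)
  have hψ : ∀ l : ↥L, j (ψ l) = l.1.1 := by
    intro l
    have := (LinearEquiv.ofInjective j hj).apply_symm_apply
      (((Ks.subtype.comp L.subtype).codRestrict (LinearMap.range j) hLmem) l)
    exact congrArg Subtype.val this
  have hC : TZ N (ModuleCat.ofHom L.subtype ≫ ModuleCat.ofHom Ks.subtype) := by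
    have : ModuleCat.ofHom L.subtype ≫ ModuleCat.ofHom Ks.subtype =
        ModuleCat.ofHom ψ ≫ (ModuleCat.ofHom (I ^ na • ⊤ : Submodule A ↥M').subtype ≫
          ModuleCat.ofHom M'.subtype) := by
      apply ModuleCat.hom_ext
      apply LinearMap.ext
      intro l
      exact (hψ l).symm
    rw [this]
    exact (ha.comp_right _).comp_left _
  -- conclusion
  intro p
  have hex := tor_exact₂ S hS N p
  rw [ShortComplex.moduleCat_exact_iff] at hex
  have hfac : ModuleCat.ofHom (I ^ (nb + k) • ⊤ : Submodule A M).subtype =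
      ModuleCat.ofHom (Submodule.inclusion hle) ≫ ModuleCat.ofHom Ks.subtype := rfl
  rw [hfac, Functor.map_comp, NatTrans.comp_app]
  apply ModuleCat.hom_ext
  apply LinearMap.ext
  intro x
  have h1 : (((Tor (ModuleCat.{u} A) p).map (ModuleCat.ofHom ρ)).app N).hom
      ((((Tor (ModuleCat.{u} A) p).map (ModuleCat.ofHom (Submodule.inclusion hle))).app N).hom x)
        = 0 := by
    have := congrArg (fun t => t.hom x) (hA p)
    rw [Functor.map_comp, NatTrans.comp_app] at this
    exact this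
  obtain ⟨w, hw⟩ := hex _ h1
  have h2 := congrArg (fun t => t.hom w) (hC p)
  rw [Functor.map_comp, NatTrans.comp_app] at h2
  show (((Tor (ModuleCat.{u} A) p).map (ModuleCat.ofHom Ks.subtype)).app N).hom
    ((((Tor (ModuleCat.{u} A) p).map (ModuleCat.ofHom (Submodule.inclusion hle))).app N).hom x) = 0
  rw [← hw]
  exact h2

end General

section Induction

variable [IsNoetherianRing A]

/-- stabilization of `f`-power torsion -/
lemma exists_ker_pow_stable (M : Type u) [AddCommGroup M] [Module A M] [Module.Finite A M]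
    (f : A) :
    ∃ c : ℕ, ∀ m, c ≤ m →
      LinearMap.ker (mulF M (f ^ c)) = LinearMap.ker (mulF M (f ^ m)) := by
  have : IsNoetherian A M := isNoetherian_of_isNoetherianRing_of_finite A M
  let g : ℕ →o Submodule A M := ⟨fun k => LinearMap.ker (mulF M (f ^ k)), by
    intro k k' hkk x hx
    have hx' : f ^ k • x = 0 := hx
    show f ^ k' • x = 0
    obtain ⟨d, rfl⟩ := Nat.exists_eq_add_of_le hkk
    rw [pow_add, mul_comm, mul_smul, hx', smul_zero]⟩
  exact monotone_stabilizes_iff_noetherian.2 this g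

variable (N) in
/-- the property to be proved, for all finite modules -/
def P (I : Ideal A) : Prop :=
  ∀ (M : Type u) [AddCommGroup M] [Module A M] [Module.Finite A M],
    ∃ n : ℕ, 0 < n ∧ TZ N (ModuleCat.ofHom (I ^ n • ⊤ : Submodule A M).subtype)

theorem P_step (I' : Ideal A) (f : A) (hN : ∀ y : N, f • y = 0) (hI' : P N I') :
    P N (I' ⊔ Ideal.span {f}) := by
  have h1 : ∀ (X : Type u) [AddCommGroup X] [Module A X] [Module.Finite A X] (c : ℕ),
      (∀ x : X, f ^ c • x = 0) → ∃ n : ℕ, 0 < n ∧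
        TZ N (ModuleCat.ofHom ((I' ⊔ Ideal.span {f}) ^ n • ⊤ : Submodule A X).subtype) := by
    intro X _ _ _ c hX
    obtain ⟨n', hn', h⟩ := hI' X
    exact ⟨n' + c, by lia, TZ_incl_of_killed I' f c n' hX h⟩
  have h2 : ∀ (X : Type u) [AddCommGroup X] [Module A X] [Module.Finite A X],
      (∀ x : X, f • x = 0 → x = 0) → ∃ n : ℕ, 0 < n ∧
        TZ N (ModuleCat.ofHom ((I' ⊔ Ideal.span {f}) ^ n • ⊤ : Submodule A X).subtype) := by
    intro X _ _ _ hf
    obtain ⟨n, hn, h⟩ := h1 (QuotF X f) 1 (smul_quotF X f)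
    exact ⟨n, hn, TZ_incl_of_torsionFree hN hf _ n h⟩
  intro M _ _ _
  have hnoeth : IsNoetherian A M := isNoetherian_of_isNoetherianRing_of_finite A M
  obtain ⟨c, hc⟩ := exists_ker_pow_stable M f
  set I : Ideal A := I' ⊔ Ideal.span {f} with hI
  let M' : Submodule A M := LinearMap.ker (mulF M (f ^ c))
  obtain ⟨na, hna, ha⟩ := h1 ↥M' c (fun x => Subtype.ext (x.2 : f ^ c • x.1 = 0))
  obtain ⟨c', hc'⟩ := Groth.Agent.Lib.T2H2.IdealPowZero.exists_AR I M M'
  have htf : ∀ y : M ⧸ M', f • y = 0 → y = 0 := by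
    intro y hy
    obtain ⟨x, rfl⟩ := Submodule.mkQ_surjective _ y
    rw [← map_smul, Submodule.mkQ_apply, Submodule.Quotient.mk_eq_zero] at hy
    have hy' : f ^ c • (f • x) = 0 := hy
    have h3 : x ∈ LinearMap.ker (mulF M (f ^ (c + 1))) := by
      show f ^ (c + 1) • x = 0
      rw [pow_succ, mul_smul]
      exact hy'
    rw [← hc (c + 1) (Nat.le_succ c)] at h3
    rw [Submodule.mkQ_apply, Submodule.Quotient.mk_eq_zero]
    exact h3
  let Xs : Submodule A (M ⧸ M') := I ^ (na + c') • ⊤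
  obtain ⟨nb, hnb, hb⟩ := h2 ↥Xs (fun y hy => by
    have h3 : f • y.1 = 0 := congrArg Subtype.val hy
    exact Subtype.ext (htf y.1 h3))
  let ρ : ↥(I ^ (na + c') • ⊤ : Submodule A M) →ₗ[A] ↥Xs :=
    M'.mkQ.restrict (fun x hx => mkQ_mem_smul_top M' (I ^ (na + c')) x hx)
  refine ⟨nb + (na + c'), by lia, TZ_incl_of_sub_quot I M' (na + c') na nb ↥Xs ρ ?_ ?_ ha ?_ hb⟩
  · intro y
    obtain ⟨x, hx, hxy⟩ := exists_mkQ_eq M' (I ^ (na + c')) y.1 y.2
    exact ⟨⟨x, hx⟩, Subtype.ext hxy⟩
  · intro x hx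
    have h3 : M'.mkQ x.1 = 0 := congrArg Subtype.val hx
    rwa [Submodule.mkQ_apply, Submodule.Quotient.mk_eq_zero] at h3
  · exact hc' na

theorem P_span (s : Finset A) (hN : ∀ a ∈ s, ∀ y : N, a • y = 0) :
    P N (Ideal.span (s : Set A)) := by
  classical
  induction s using Finset.induction_on with
  | empty =>
    intro M _ _ _
    refine ⟨1, one_pos, TZ_of_isZero_src _ ?_⟩
    have hS : ((Ideal.span ((∅ : Finset A) : Set A)) ^ 1 • ⊤ : Submodule A M) = ⊥ := by
      simp
    have : Subsingleton ↥((Ideal.span ((∅ : Finset A) : Set A)) ^ 1 • ⊤ : Submodule A M) := by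
      refine ⟨fun x y => Subtype.ext ?_⟩
      have hx : x.1 ∈ (⊥ : Submodule A M) := hS ▸ x.2
      have hy : y.1 ∈ (⊥ : Submodule A M) := hS ▸ y.2
      rw [Submodule.mem_bot] at hx hy
      rw [hx, hy]
    exact ModuleCat.isZero_of_subsingleton _
  | insert f s hfs ih =>
    rw [Finset.coe_insert, Ideal.span_insert, sup_comm]
    exact P_step _ f (hN f (Finset.mem_insert_self f s))
      (ih (fun a ha => hN a (Finset.mem_insert_of_mem ha)))

theorem exists_pow_tor_map_eq_zero (I : Ideal A) (M N' : Type u) [AddCommGroup M] [Module A M]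
    [Module.Finite A M] [AddCommGroup N'] [Module A N'] (hN : ∀ a ∈ I, ∀ y : N', a • y = 0) :
    ∃ n : ℕ, 0 < n ∧ ∀ p : ℕ,
      ((CategoryTheory.Tor (ModuleCat.{u} A) p).map
        (ModuleCat.ofHom (I ^ n • ⊤ : Submodule A M).subtype)).app (ModuleCat.of A N') = 0 := by
  obtain ⟨s, hs⟩ := (IsNoetherian.noetherian I : I.FG)
  have h := P_span (N := ModuleCat.of A N') s (fun a ha y => hN a (by
    rw [← hs]
    exact Ideal.subset_span ha) y) M
  rw [show Ideal.span (s : Set A) = I from hs] at h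
  exact h

end Induction

end Groth.Agent.Lib.T2H2.TorPowZero
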