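import Mathlib

/-!
# Height one primes with factorial localisation are locally principal (helper2)

`exists_away_principal`: for a Noetherian ring `A`, a prime `I` of height one contained in a prime
`p` such that `A_p` is a unique factorisation domain, there are `g ∉ p` and `a ∈ I` such that over
`A_g` the ideal `I` is generated by the nonzerodivisor `a`.
-/

set_option autoImplicit false
universe u

namespace Groth.Agent.Lib.T2H2.UFDCartier

section Spread

variable {A : Type u} [CommRing A] (p : Ideal A) [p.IsPrime]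
  (R : Type u) [CommRing R] [Algebra A R] [IsLocalization.AtPrime R p]

/-- A finitely generated ideal whose image in `A_p` lies in the image of `span {a}` is carried
into `span {a}` by an element outside `p`. -/
theorem exists_mul_mem_span (I : Ideal A) (hI : I.FG) (a : A)
    (h : I.map (algebraMap A R) ≤ Ideal.span {algebraMap A R a}) :
    ∃ g : A, g ∉ p ∧ ∀ b ∈ I, g * b ∈ Ideal.span {a} := by
  classical
  obtain ⟨S, rfl⟩ := hI
  have key : ∀ b ∈ S, ∃ u : A, u ∉ p ∧ u * b ∈ Ideal.span {a} := by
    intro b hb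
    have hb' : algebraMap A R b ∈ Ideal.span {algebraMap A R a} :=
      h (Ideal.mem_map_of_mem _ (Ideal.subset_span hb))
    obtain ⟨r, hr⟩ := Ideal.mem_span_singleton'.1 hb'
    obtain ⟨⟨c, s⟩, hcs⟩ := IsLocalization.surj p.primeCompl r
    -- r * s = c, so (s b) = c a in R
    have h1 : algebraMap A R (s * b) = algebraMap A R (c * a) := by
      rw [map_mul, map_mul, ← hr, ← hcs]; ring
    obtain ⟨t, ht⟩ := (IsLocalization.eq_iff_exists p.primeCompl R).1 h1
    refine ⟨t * s, fun hmem => ?_, ?_⟩
    · rcases (‹p.IsPrime›).mem_or_mem hmem with h' | h'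
      · exact t.2 h'
      · exact s.2 h'
    · rw [mul_assoc, ht]
      exact Ideal.mem_span_singleton'.2 ⟨t * c, by ring⟩
  choose! u hu1 hu2 using key
  refine ⟨∏ b ∈ S, u b, fun hmem => ?_, ?_⟩
  · obtain ⟨b, hb, hb'⟩ := Ideal.IsPrime.prod_mem_iff.1 hmem
    exact hu1 b hb hb'
  · intro b hb
    refine Submodule.span_induction (p := fun b _ => (∏ b ∈ S, u b) * b ∈ Ideal.span {a})
      ?_ ?_ ?_ ?_ hb
    · intro x hx
      rw [← Finset.mul_prod_erase S u hx, mul_comm (u x), mul_assoc]
      exact Ideal.mul_mem_left _ _ (hu2 x hx)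
    · simp
    · intro x y _ _ hx hy
      rw [mul_add]; exact Ideal.add_mem _ hx hy
    · intro c x _ hx
      rw [smul_eq_mul, mul_left_comm]; exact Ideal.mul_mem_left _ _ hx

end Spread


section Main

variable {A : Type u} [CommRing A] [IsNoetherianRing A] (I p : Ideal A) [hIprime : I.IsPrime]
  [hpprime : p.IsPrime]
  (R : Type u) [CommRing R] [Algebra A R] [IsLocalization.AtPrime R p] [IsDomain R]
  [UniqueFactorizationMonoid R]

include R in
theorem exists_away_principal (hIp : I ≤ p) (hht : I.height = 1) :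
    ∃ g : A, g ∉ p ∧ ∃ a ∈ I, ∀ (B : Type u) [CommRing B] [Algebra A B] [IsLocalization.Away g B],
      I.map (algebraMap A B) = Ideal.span {algebraMap A B a} ∧
        algebraMap A B a ∈ nonZeroDivisors B := by
  classical
  have hdisj : Disjoint (p.primeCompl : Set A) (I : Set A) :=
    Set.disjoint_left.2 fun x hx hxI => hx (hIp hxI)
  set J := I.map (algebraMap A R) with hJ
  have hJprime : J.IsPrime := IsLocalization.isPrime_of_isPrime_disjoint p.primeCompl R I hIprime hdisj
  have hJunder : J.under A = I := IsLocalization.under_map_of_isPrime_disjoint p.primeCompl R hIprime hdisj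
  have hJht : J.height = 1 := by
    rw [hJ, IsLocalization.height_map_of_disjoint p.primeCompl I hdisj, hht]
  have hJne : J ≠ ⊥ := Ideal.ne_bot_of_height_eq_one hJht
  obtain ⟨π, hπJ, hπ⟩ := Ideal.IsPrime.exists_mem_prime_of_ne_bot hJprime hJne
  have hPprime : (Ideal.span {π}).IsPrime := Ideal.isPrime_span_singleton_of_prime hπ
  have hPle : Ideal.span {π} ≤ J := (Ideal.span_singleton_le_iff_mem _).2 hπJ
  have hJfin : J.FiniteHeight := by
    rw [Ideal.finiteHeight_iff_lt]
    right
    rw [hJht]; exact ENat.one_lt_top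
  have hPfin : (Ideal.span {π}).FiniteHeight := Ideal.finiteHeight_of_le hPle hJprime.ne_top
  have hPJ : Ideal.span {π} = J := by
    refine Ideal.eq_of_le_of_height_le (Ideal.span {π}) hPle ?_
    rw [hJht, Order.one_le_iff_pos, pos_iff_ne_zero, Ne, Ideal.height_eq_zero_iff_eq_bot]
    rw [Ideal.span_singleton_eq_bot]
    exact hπ.ne_zero
  obtain ⟨⟨a, s⟩, has⟩ := IsLocalization.surj p.primeCompl π
  have hsunit : IsUnit (algebraMap A R s) := IsLocalization.map_units R s
  have hspan : Ideal.span {algebraMap A R a} = J := by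
    rw [← hPJ, ← has]
    exact Ideal.span_singleton_mul_right_unit hsunit π
  have haI : a ∈ I := by
    rw [← hJunder]
    change algebraMap A R a ∈ J
    rw [← hspan]; exact Ideal.mem_span_singleton_self _
  have ha0 : algebraMap A R a ≠ 0 := by
    rw [← has]; exact mul_ne_zero hπ.ne_zero hsunit.ne_zero
  -- spreading out
  obtain ⟨g1, hg1, hg1I⟩ := exists_mul_mem_span p R I (IsNoetherian.noetherian I) a hspan.ge
  -- annihilator of `a`
  let N : Ideal A := LinearMap.ker (LinearMap.mulLeft A a)
  have hN : ∀ n, n ∈ N ↔ a * n = 0 := fun n => by simp [N]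
  obtain ⟨g2, hg2, hg2N⟩ := exists_mul_mem_span p R N (IsNoetherian.noetherian N) 0 (by
    rw [Ideal.map_le_iff_le_comap]
    intro n hn
    rw [Ideal.mem_comap, map_zero, Ideal.span_singleton_zero, Ideal.mem_bot]
    have h1 : algebraMap A R a * algebraMap A R n = 0 := by
      rw [← map_mul, (hN n).1 hn, map_zero]
    exact (mul_eq_zero.1 h1).resolve_left ha0)
  simp only [Ideal.span_singleton_zero, Ideal.mem_bot] at hg2N
  refine ⟨g1 * g2, fun hmem => ?_, a, haI, ?_⟩
  · rcases hpprime.mem_or_mem hmem with h | h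
    · exact hg1 h
    · exact hg2 h
  intro B _ _ _
  have hgunit : IsUnit (algebraMap A B (g1 * g2)) :=
    IsLocalization.map_units B (⟨g1 * g2, Submonoid.mem_powers _⟩ : Submonoid.powers (g1 * g2))
  rw [map_mul] at hgunit
  have hg1unit : IsUnit (algebraMap A B g1) := isUnit_of_mul_isUnit_left hgunit
  have hg2unit : IsUnit (algebraMap A B g2) := isUnit_of_mul_isUnit_right hgunit
  refine ⟨le_antisymm ?_ ?_, ?_⟩
  · rw [Ideal.map_le_iff_le_comap]
    intro b hb
    rw [Ideal.mem_comap]
    obtain ⟨r, hr⟩ := Ideal.mem_span_singleton'.1 (hg1I b hb)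
    have h1 : algebraMap A B g1 * algebraMap A B b = algebraMap A B r * algebraMap A B a := by
      rw [← map_mul, ← map_mul, hr]
    have h2 : algebraMap A B b =
        ↑(hg1unit.unit⁻¹) * (algebraMap A B r * algebraMap A B a) := by
      rw [← h1, ← mul_assoc, hg1unit.val_inv_mul, one_mul]
    rw [h2, ← mul_assoc]
    exact Ideal.mem_span_singleton'.2 ⟨_, rfl⟩
  · rw [Ideal.span_singleton_le_iff_mem]
    exact Ideal.mem_map_of_mem _ haI
  · rw [mem_nonZeroDivisors_iff_right]
    intro y hy
    obtain ⟨⟨y0, t⟩, hyt⟩ := IsLocalization.surj (Submonoid.powers (g1 * g2)) y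
    have htunit : IsUnit (algebraMap A B t) := IsLocalization.map_units B t
    have h1 : algebraMap A B (a * y0) = 0 := by
      rw [map_mul, ← hyt, mul_comm, mul_assoc, mul_comm (algebraMap A B ↑t), ← mul_assoc, hy, zero_mul]
    obtain ⟨m, hm⟩ := (IsLocalization.map_eq_zero_iff (Submonoid.powers (g1 * g2)) B _).1 h1
    have hmunit : IsUnit (algebraMap A B m) := IsLocalization.map_units B m
    have h2 : (m : A) * y0 ∈ N := by
      rw [hN]; rw [← hm]; ring
    have h3 := hg2N _ h2
    have h4 : algebraMap A B g2 * (algebraMap A B m * algebraMap A B y0) = 0 := by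
      rw [← map_mul, ← map_mul, h3, map_zero]
    have h5 : algebraMap A B y0 = 0 := by
      have := (hg2unit.mul_right_eq_zero).1 h4
      exact (hmunit.mul_right_eq_zero).1 this
    have h6 : y * algebraMap A B t = 0 := by
      change y * algebraMap A B ((y0, t).2 : A) = 0
      rw [hyt]; exact h5
    exact (htunit.mul_left_eq_zero).1 h6

end Main

end Groth.Agent.Lib.T2H2.UFDCartier
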