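import Mathlib
import Groth.Agent.Lib.T2H2UFDCartier

/-!
# Ideals without embedded components in factorial rings are principal (helper2)
-/

set_option autoImplicit false
set_option linter.style.haveILetI false
set_option linter.unusedSectionVars false
universe u

namespace Groth.Agent.Lib.T2H2.UFDCartier

section Colon

variable {R : Type u} [CommRing R] [IsNoetherianRing R]

/-- colon description of associated primes of a quotient of a Noetherian ring. -/
theorem isAssociatedPrime_quotient_iff (J Q : Ideal R) :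
    IsAssociatedPrime Q (R ⧸ J) ↔ Q.IsPrime ∧ ∃ y : R, ∀ r, r ∈ Q ↔ r * y ∈ J := by
  rw [isAssociatedPrime_iff]
  refine and_congr Iff.rfl ⟨?_, ?_⟩
  · rintro ⟨m, hm⟩
    obtain ⟨y, rfl⟩ := Ideal.Quotient.mk_surjective m
    refine ⟨y, fun r => ?_⟩
    rw [hm, Submodule.mem_colon_singleton, Submodule.mem_bot, ← Ideal.Quotient.eq_zero_iff_mem,
      map_mul]
    rfl
  · rintro ⟨y, hy⟩
    refine ⟨Ideal.Quotient.mk J y, ?_⟩
    ext r
    rw [hy, Submodule.mem_colon_singleton, Submodule.mem_bot, ← Ideal.Quotient.eq_zero_iff_mem,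
      map_mul]
    rfl

end Colon

section UFD

variable {R : Type u} [CommRing R] [IsDomain R] [IsNoetherianRing R] [UniqueFactorizationMonoid R]

/-- In a Noetherian factorial domain a proper ideal all of whose associated primes have height one
is generated by one nonzero element. -/
theorem exists_span_singleton_eq (J : Ideal R) (hJ : J ≠ ⊤)
    (hass : ∀ Q : Ideal R, IsAssociatedPrime Q (R ⧸ J) → Q.height = 1) :
    ∃ d : R, d ≠ 0 ∧ J = Ideal.span {d} := by
  classical
  letI := UniqueFactorizationMonoid.strongNormalizationMonoid (α := R)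
  letI := UniqueFactorizationMonoid.toNormalizedGCDMonoid R
  have hnt : Nontrivial (R ⧸ J) := Ideal.Quotient.nontrivial_iff.2 hJ
  -- J ≠ ⊥
  have hJbot : J ≠ ⊥ := by
    rintro rfl
    obtain ⟨Q, hQ⟩ := associatedPrimes.nonempty R (R ⧸ (⊥ : Ideal R))
    have h1 := hass Q hQ
    obtain ⟨hQp, y, hy⟩ := (isAssociatedPrime_quotient_iff _ Q).1 hQ
    have hy0 : y ≠ 0 := by
      rintro rfl
      exact hQp.ne_top (Ideal.eq_top_iff_one _ |>.2 ((hy 1).2 (by simp)))
    have : Q = ⊥ := by
      ext r
      rw [hy, Ideal.mem_bot, Ideal.mem_bot, mul_eq_zero]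
      exact ⟨fun h => h.resolve_right hy0, Or.inl⟩
    rw [this, Ideal.height_bot] at h1
    exact zero_ne_one h1
  obtain ⟨S, hS⟩ := IsNoetherian.noetherian J
  obtain ⟨d, hd⟩ : ∃ d, d = S.gcd id := ⟨_, rfl⟩
  have hd0 : d ≠ 0 := by
    intro h0
    rw [hd, Finset.gcd_eq_zero_iff] at h0
    apply hJbot
    rw [← hS, Ideal.span_eq_bot]
    exact fun x hx => h0 x hx
  have hdJ : J ≤ Ideal.span {d} := by
    rw [← hS, Ideal.span_le]
    intro b hb
    exact Ideal.mem_span_singleton.2 (hd ▸ Finset.gcd_dvd (f := id) hb)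
  -- colon ideal
  let J' : Ideal R := Submodule.comap (LinearMap.mulLeft R d) J
  have hJ' : ∀ r, r ∈ J' ↔ d * r ∈ J := fun r => Iff.rfl
  refine ⟨d, hd0, le_antisymm hdJ ?_⟩
  rw [Ideal.span_singleton_le_iff_mem]
  by_contra hdn
  have hJ'top : J' ≠ ⊤ := by
    intro h
    apply hdn
    have : (1 : R) ∈ J' := h ▸ Submodule.mem_top
    rwa [hJ', mul_one] at this
  have hnt' : Nontrivial (R ⧸ J') := Ideal.Quotient.nontrivial_iff.2 hJ'top
  obtain ⟨Q, hQ⟩ := associatedPrimes.nonempty R (R ⧸ J')
  obtain ⟨hQp, y, hy⟩ := (isAssociatedPrime_quotient_iff _ Q).1 hQ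
  have hQJ : IsAssociatedPrime Q (R ⧸ J) := by
    rw [isAssociatedPrime_quotient_iff]
    refine ⟨hQp, d * y, fun r => ?_⟩
    rw [hy, hJ']
    constructor <;> intro h <;> convert h using 1 <;> ring
  have hQht := hass Q hQJ
  have hQne : Q ≠ ⊥ := Ideal.ne_bot_of_height_eq_one hQht
  obtain ⟨π, hπQ, hπ⟩ := Ideal.IsPrime.exists_mem_prime_of_ne_bot hQp hQne
  have hPprime : (Ideal.span {π}).IsPrime := Ideal.isPrime_span_singleton_of_prime hπ
  have hPle : Ideal.span {π} ≤ Q := (Ideal.span_singleton_le_iff_mem _).2 hπQ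
  have hQfin : Q.FiniteHeight := by
    rw [Ideal.finiteHeight_iff_lt]
    right
    rw [hQht]; exact ENat.one_lt_top
  have hPfin : (Ideal.span {π}).FiniteHeight := Ideal.finiteHeight_of_le hPle hQp.ne_top
  have hPQ : Ideal.span {π} = Q := by
    refine Ideal.eq_of_le_of_height_le (Ideal.span {π}) hPle ?_
    rw [hQht, Order.one_le_iff_pos, pos_iff_ne_zero, Ne, Ideal.height_eq_zero_iff_eq_bot]
    rw [Ideal.span_singleton_eq_bot]
    exact hπ.ne_zero
  -- J' ≤ Q
  have hJ'Q : J' ≤ Q := by
    intro r hr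
    rw [hy]
    exact J'.mul_mem_right _ hr
  -- π * d divides all generators
  have hdiv : ∀ b ∈ S, π * d ∣ id b := by
    intro b hb
    obtain ⟨c, hc⟩ := Finset.gcd_dvd (f := id) hb
    have hc' : b = d * c := by rw [hd]; exact hc
    have hcJ' : c ∈ J' := by
      rw [hJ', ← hc']
      exact hS ▸ Ideal.subset_span hb
    have : c ∈ Ideal.span {π} := hPQ ▸ hJ'Q hcJ'
    obtain ⟨e, he⟩ := Ideal.mem_span_singleton.1 this
    refine ⟨e, ?_⟩
    change b = π * d * e
    rw [hc', he]; ring
  have h1 : π * d ∣ d := by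
    conv_rhs => rw [hd]
    exact Finset.dvd_gcd hdiv
  obtain ⟨e, he⟩ := h1
  have h2 : π * e = 1 := by
    have : d * 1 = d * (π * e) := by
      rw [mul_one]
      calc d = π * d * e := he
        _ = d * (π * e) := by ring
    exact (mul_left_cancel₀ hd0 this).symm
  exact hπ.not_isUnit (IsUnit.of_mul_eq_one _ h2)

end UFD


section Away

variable {A : Type u} [CommRing A] [IsNoetherianRing A] (I p : Ideal A) [hpprime : p.IsPrime]
  (R : Type u) [CommRing R] [Algebra A R] [IsLocalization.AtPrime R p] [IsDomain R]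

include R in
/-- Spreading out a principal generator of `I A_p` to a basic open neighbourhood. -/
theorem exists_away_of_map_eq_span (a : A) (haI : a ∈ I)
    (hspan : Ideal.span {algebraMap A R a} = I.map (algebraMap A R))
    (ha0 : algebraMap A R a ≠ 0) :
    ∃ g : A, g ∉ p ∧ ∀ (B : Type u) [CommRing B] [Algebra A B] [IsLocalization.Away g B],
      I.map (algebraMap A B) = Ideal.span {algebraMap A B a} ∧
        algebraMap A B a ∈ nonZeroDivisors B := by
  classical
  obtain ⟨g1, hg1, hg1I⟩ := exists_mul_mem_span p R I (IsNoetherian.noetherian I) a hspan.ge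
  let N : Ideal A := LinearMap.ker (LinearMap.mulLeft A a)
  have hN : ∀ n, n ∈ N ↔ a * n = 0 := fun n => by simp [N]
  obtain ⟨g2, hg2, hg2N⟩ := exists_mul_mem_span p R N (IsNoetherian.noetherian N) 0 (by
    rw [Ideal.map_le_iff_le_comap]
    intro n hn
    rw [Ideal.mem_comap, map_zero, Ideal.span_singleton_zero, Ideal.mem_bot]
    have h1 : algebraMap A R a * algebraMap A R n = 0 := by
      rw [← map_mul, (hN n).1 hn, map_zero]
    exact (mul_eq_zero.1 h1).resolve_left ha0)
  simp only [Ideal.span_singleton_zero, Ideal.mem_bot] at hg2N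
  refine ⟨g1 * g2, fun hmem => ?_, ?_⟩
  · rcases hpprime.mem_or_mem hmem with h | h
    · exact hg1 h
    · exact hg2 h
  intro B _ _ _
  have hgunit : IsUnit (algebraMap A B (g1 * g2)) :=
    IsLocalization.map_units B (⟨g1 * g2, Submonoid.mem_powers _⟩ : Submonoid.powers (g1 * g2))
  rw [map_mul] at hgunit
  have hg1unit : IsUnit (algebraMap A B g1) := isUnit_of_mul_isUnit_left hgunit
  have hg2unit : IsUnit (algebraMap A B g2) := isUnit_of_mul_isUnit_right hgunit
  refine ⟨le_antisymm ?_ ?_, ?_⟩
  · rw [Ideal.map_le_iff_le_comap]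
    intro b hb
    rw [Ideal.mem_comap]
    obtain ⟨r, hr⟩ := Ideal.mem_span_singleton'.1 (hg1I b hb)
    have h1 : algebraMap A B g1 * algebraMap A B b = algebraMap A B r * algebraMap A B a := by
      rw [← map_mul, ← map_mul, hr]
    have h2 : algebraMap A B b =
        ↑(hg1unit.unit⁻¹) * (algebraMap A B r * algebraMap A B a) := by
      rw [← h1, ← mul_assoc, hg1unit.val_inv_mul, one_mul]
    rw [h2, ← mul_assoc]
    exact Ideal.mem_span_singleton'.2 ⟨_, rfl⟩
  · rw [Ideal.span_singleton_le_iff_mem]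
    exact Ideal.mem_map_of_mem _ haI
  · rw [mem_nonZeroDivisors_iff_right]
    intro y hy
    obtain ⟨⟨y0, t⟩, hyt⟩ := IsLocalization.surj (Submonoid.powers (g1 * g2)) y
    have htunit : IsUnit (algebraMap A B t) := IsLocalization.map_units B t
    have h1 : algebraMap A B (a * y0) = 0 := by
      rw [map_mul, ← hyt, mul_comm, mul_assoc, mul_comm (algebraMap A B ↑t), ← mul_assoc, hy, zero_mul]
    obtain ⟨m, hm⟩ := (IsLocalization.map_eq_zero_iff (Submonoid.powers (g1 * g2)) B _).1 h1
    have hmunit : IsUnit (algebraMap A B m) := IsLocalization.map_units B m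
    have h2 : (m : A) * y0 ∈ N := by
      rw [hN]; rw [← hm]; ring
    have h3 := hg2N _ h2
    have h4 : algebraMap A B g2 * (algebraMap A B m * algebraMap A B y0) = 0 := by
      rw [← map_mul, ← map_mul, h3, map_zero]
    have h5 : algebraMap A B y0 = 0 := by
      have := (hg2unit.mul_right_eq_zero).1 h4
      exact (hmunit.mul_right_eq_zero).1 this
    have h6 : y * algebraMap A B t = 0 := by
      change y * algebraMap A B ((y0, t).2 : A) = 0
      rw [hyt]; exact h5
    exact (htunit.mul_left_eq_zero).1 h6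

variable [UniqueFactorizationMonoid R]

include R in
/-- If all associated primes of `A ⧸ I` have height one and `A_p` is factorial, then `I` is
principal, generated by a nonzerodivisor, on a basic open neighbourhood of `p`. -/
theorem exists_away_principal_of_ass (hIp : I ≤ p)
    (hass : ∀ P : Ideal A, IsAssociatedPrime P (A ⧸ I) → P.height = 1) :
    ∃ g : A, g ∉ p ∧ ∃ a ∈ I, ∀ (B : Type u) [CommRing B] [Algebra A B] [IsLocalization.Away g B],
      I.map (algebraMap A B) = Ideal.span {algebraMap A B a} ∧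
        algebraMap A B a ∈ nonZeroDivisors B := by
  classical
  have hRnoeth : IsNoetherianRing R := IsLocalization.isNoetherianRing p.primeCompl R inferInstance
  have hdisj : Disjoint (p.primeCompl : Set A) (I : Set A) :=
    Set.disjoint_left.2 fun x hx hxI => hx (hIp hxI)
  set J := I.map (algebraMap A R) with hJ
  have hJtop : J ≠ ⊤ := (IsLocalization.map_algebraMap_ne_top_iff_disjoint p.primeCompl R I).2 hdisj
  have hassR : ∀ Q : Ideal R, IsAssociatedPrime Q (R ⧸ J) → Q.height = 1 := by
    intro Q hQ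
    obtain ⟨hQp, y, hy⟩ := (isAssociatedPrime_quotient_iff J Q).1 hQ
    have hQ2 : Q ∈ associatedPrimes R
        (R ⧸ Submodule.localized' R p.primeCompl (Algebra.linearMap A R) I) := by
      refine (isAssociatedPrime_quotient_iff _ Q).2 ⟨hQp, y, fun r => ?_⟩
      rw [hy, Ideal.localized'_eq_map]
    have h1 := Module.associatedPrimes.comap_mem_associatedPrimes_of_mem_associatedPrimes_of_isLocalizedModule_of_fg
      p.primeCompl (Submodule.toLocalizedQuotient' R p.primeCompl (Algebra.linearMap A R) I) Q hQ2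
      (IsNoetherian.noetherian _)
    have h2 := hass _ h1
    obtain ⟨hP', hdisjQ⟩ := (IsLocalization.isPrime_iff_isPrime_disjoint p.primeCompl R Q).1 hQp
    have h3 := IsLocalization.height_map_of_disjoint (S := R) p.primeCompl (Q.under A) hdisjQ
    rw [IsLocalization.map_under p.primeCompl R Q] at h3
    rw [h3]; exact h2
  obtain ⟨d, hd0, hJd⟩ := exists_span_singleton_eq J hJtop hassR
  obtain ⟨⟨a', s⟩, has⟩ := IsLocalization.surj p.primeCompl d
  have hsunit : IsUnit (algebraMap A R s) := IsLocalization.map_units R s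
  have hmem : algebraMap A R a' ∈ I.map (algebraMap A R) := by
    rw [← hJ, hJd, ← has]
    exact Ideal.mul_mem_right _ _ (Ideal.mem_span_singleton_self d)
  obtain ⟨⟨i, t⟩, hit⟩ := (IsLocalization.mem_map_algebraMap_iff p.primeCompl R).1 hmem
  have h1 : algebraMap A R (a' * t) = algebraMap A R i := by rw [map_mul]; exact hit
  obtain ⟨u, hu⟩ := (IsLocalization.eq_iff_exists p.primeCompl R).1 h1
  have htunit : IsUnit (algebraMap A R t) := IsLocalization.map_units R t
  have huunit : IsUnit (algebraMap A R u) := IsLocalization.map_units R u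
  have haI : (u : A) * (a' * t) ∈ I := by rw [hu]; exact I.mul_mem_left _ i.2
  have hval : algebraMap A R ((u : A) * (a' * t)) =
      d * (algebraMap A R s * algebraMap A R u * algebraMap A R t) := by
    rw [map_mul, map_mul, ← has]; ring
  have hunit : IsUnit (algebraMap A R s * algebraMap A R u * algebraMap A R t) :=
    (hsunit.mul huunit).mul htunit
  obtain ⟨g, hg, H⟩ := exists_away_of_map_eq_span I p R ((u : A) * (a' * t)) haI (by
    rw [hval, ← hJ, hJd]
    exact Ideal.span_singleton_mul_right_unit hunit d) (by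
    rw [hval]; exact mul_ne_zero hd0 hunit.ne_zero)
  exact ⟨g, hg, _, haI, H⟩

end Away

end Groth.Agent.Lib.T2H2.UFDCartier
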