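import Mathlib
import Groth.Prelude.Def_BlowUp2
import Groth.Agent.Lib.T2H2UFDCartier

/-!
# Integral closed subschemes of codimension one with factorial local rings are Cartier (helper2)
-/

set_option autoImplicit false
set_option linter.style.haveILetI false
universe u
open CategoryTheory CategoryTheory.Limits AlgebraicGeometry TopologicalSpace

namespace Groth.Agent.Lib.T2H2.UFDCartierSch

variable {X : Scheme.{u}} (𝓘 : X.IdealSheafData)

/-- Away from the support the ideal is the unit ideal. -/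
theorem ideal_eq_top_of_disjoint (U : X.affineOpens) (h : Disjoint (𝓘.support : Set X) (U.1 : Set X)) :
    𝓘.ideal U = ⊤ := by
  have h1 := 𝓘.coe_support_inter U
  rw [Set.disjoint_iff_inter_eq_empty.1 h, ← U.2.fromSpec_image_zeroLocus, eq_comm,
    Set.image_eq_empty] at h1
  exact PrimeSpectrum.zeroLocus_empty_iff_eq_top.1 h1


section Integral

variable [IsIntegral 𝓘.subscheme]

/-- The ideal of an integral closed subscheme over an affine open meeting it is prime. -/
theorem isPrime_ideal (U : X.affineOpens) (x : X) (hxU : x ∈ U.1) (hx : x ∈ 𝓘.support) :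
    (𝓘.ideal U).IsPrime := by
  have hx' : x ∈ Set.range 𝓘.subschemeι := by rw [𝓘.range_subschemeι]; exact hx
  obtain ⟨z, rfl⟩ := hx'
  have : IsDomain Γ(𝓘.subscheme, 𝓘.subschemeι ⁻¹ᵁ U.1) :=
    @IsIntegral.component_integral _ _ _ ⟨⟨z, hxU⟩⟩
  rw [← 𝓘.ker_subschemeι_app U]
  exact RingHom.ker_isPrime _

/-- The generic point of the subscheme lies in every affine open meeting it, and its prime ideal is
the ideal of the subscheme. -/
theorem primeIdealOf_genericPoint (U : X.affineOpens) (x : X) (hxU : x ∈ U.1) (hx : x ∈ 𝓘.support) :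
    ∃ h : 𝓘.subschemeι (genericPoint ↥𝓘.subscheme) ∈ U.1,
      (U.2.primeIdealOf ⟨_, h⟩).asIdeal = 𝓘.ideal U := by
  have hx' : x ∈ Set.range 𝓘.subschemeι := by rw [𝓘.range_subschemeι]; exact hx
  obtain ⟨z, rfl⟩ := hx'
  have hgen := genericPoint_spec ↥𝓘.subscheme
  have hmem : ∀ V : 𝓘.subscheme.Opens, (genericPoint ↥𝓘.subscheme ∈ V ↔ (V : Set 𝓘.subscheme).Nonempty) := by
    intro V
    have := hgen.mem_open_set_iff V.2
    rw [Set.univ_inter] at this
    exact this
  have h : 𝓘.subschemeι (genericPoint ↥𝓘.subscheme) ∈ U.1 :=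
    (hmem (𝓘.subschemeι ⁻¹ᵁ U.1)).2 ⟨z, hxU⟩
  refine ⟨h, ?_⟩
  ext a
  -- a ∈ primeIdealOf η ↔ η ∉ basicOpen a
  have h1 : a ∈ (U.2.primeIdealOf ⟨_, h⟩).asIdeal ↔
      𝓘.subschemeι (genericPoint ↥𝓘.subscheme) ∉ X.basicOpen a := by
    have h2 : 𝓘.subschemeι (genericPoint ↥𝓘.subscheme) ∈ X.basicOpen a ↔
        U.2.primeIdealOf ⟨_, h⟩ ∈ U.2.fromSpec ⁻¹ᵁ X.basicOpen a := by
      change _ ↔ U.2.fromSpec (U.2.primeIdealOf ⟨_, h⟩) ∈ X.basicOpen a
      rw [U.2.fromSpec_primeIdealOf]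
    rw [h2, U.2.fromSpec_preimage_basicOpen]
    exact not_not.symm
  rw [h1, ← 𝓘.ker_subschemeι_app U, RingHom.mem_ker]
  have h3 : 𝓘.subschemeι (genericPoint ↥𝓘.subscheme) ∈ X.basicOpen a ↔
      genericPoint ↥𝓘.subscheme ∈ 𝓘.subschemeι ⁻¹ᵁ X.basicOpen a := Iff.rfl
  rw [h3, Scheme.preimage_basicOpen, hmem, Set.not_nonempty_iff_eq_empty,
    ← basicOpen_eq_bot_iff]
  constructor
  · intro h4; exact SetLike.ext' (by simpa using h4)
  · intro h4; rw [h4]; rfl

end Integral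


/-- An integral closed subscheme of codimension one in a locally Noetherian scheme whose local rings
along the subscheme are factorial is an effective Cartier divisor. -/
theorem isEffCartierIdeal_of_ufd [IsLocallyNoetherian X] [IsIntegral 𝓘.subscheme]
    (hcodim : ringKrullDim (X.presheaf.stalk (𝓘.subschemeι (genericPoint ↥𝓘.subscheme))) = 1)
    (hufd : ∀ x : ↥X, x ∈ 𝓘.support →
      IsDomain (X.presheaf.stalk x) ∧ UniqueFactorizationMonoid (X.presheaf.stalk x)) :
    BlowUp.IsEffCartierIdeal 𝓘 := by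
  intro x
  by_cases hx : x ∈ 𝓘.support
  · obtain ⟨U, hU, hxU, -⟩ := exists_isAffineOpen_mem_and_subset (x := x) (U := ⊤) trivial
    let U' : X.affineOpens := ⟨U, hU⟩
    have : IsNoetherianRing Γ(X, U) := IsLocallyNoetherian.component_noetherian U'
    have hIprime := isPrime_ideal 𝓘 U' x hxU hx
    obtain ⟨hη, hpη⟩ := primeIdealOf_genericPoint 𝓘 U' x hxU hx
    have hht : (𝓘.ideal U').height = 1 := by
      letI : Algebra Γ(X, U) (X.presheaf.stalk (𝓘.subschemeι (genericPoint ↥𝓘.subscheme))) :=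
        TopCat.Presheaf.algebra_section_stalk X.presheaf ⟨_, hη⟩
      have := hU.isLocalization_stalk ⟨_, hη⟩
      have h1 := IsLocalization.AtPrime.ringKrullDim_eq_height
        (hU.primeIdealOf ⟨_, hη⟩).asIdeal
        (X.presheaf.stalk (𝓘.subschemeι (genericPoint ↥𝓘.subscheme)))
      rw [hcodim, hpη] at h1
      exact_mod_cast h1.symm
    have hIp : 𝓘.ideal U' ≤ (hU.primeIdealOf ⟨x, hxU⟩).asIdeal := by
      have hmem : x ∈ (𝓘.support : Set X) ∩ U := ⟨hx, hxU⟩
      rw [𝓘.coe_support_inter U', ← hU.fromSpec_image_zeroLocus] at hmem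
      obtain ⟨y, hy, hyx⟩ := hmem
      have hyeq : y = hU.primeIdealOf ⟨x, hxU⟩ :=
        hU.fromSpec.isOpenEmbedding.injective (by rw [hyx, hU.fromSpec_primeIdealOf])
      subst hyeq
      exact hy
    obtain ⟨hdom, hufd'⟩ := hufd x hx
    letI : Algebra Γ(X, U) (X.presheaf.stalk x) :=
      TopCat.Presheaf.algebra_section_stalk X.presheaf ⟨x, hxU⟩
    have : IsLocalization.AtPrime (X.presheaf.stalk x) (hU.primeIdealOf ⟨x, hxU⟩).asIdeal :=
      hU.isLocalization_stalk ⟨x, hxU⟩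
    obtain ⟨g, hg, a, haI, H⟩ := Groth.Agent.Lib.T2H2.UFDCartier.exists_away_principal
      (𝓘.ideal U') (hU.primeIdealOf ⟨x, hxU⟩).asIdeal (X.presheaf.stalk x) hIp hht
    have hloc : IsLocalization.Away g Γ(X, X.basicOpen g) := hU.isLocalization_basicOpen g
    obtain ⟨H1, H2⟩ := H Γ(X, X.basicOpen g)
    refine ⟨X.affineBasicOpen (U := U') g, ?_, algebraMap Γ(X, U) Γ(X, X.basicOpen g) a, H2, ?_⟩
    · have h2 : x ∈ X.basicOpen g ↔
          hU.primeIdealOf ⟨x, hxU⟩ ∈ hU.fromSpec ⁻¹ᵁ X.basicOpen g := by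
        change _ ↔ hU.fromSpec (hU.primeIdealOf ⟨x, hxU⟩) ∈ X.basicOpen g
        rw [hU.fromSpec_primeIdealOf]
      change x ∈ X.basicOpen g
      rw [h2, hU.fromSpec_preimage_basicOpen]
      exact hg
    · exact (𝓘.map_ideal_basicOpen U' g).symm.trans H1
  · have hopen : IsOpen ((𝓘.support : Set X)ᶜ) := 𝓘.support.isClosed.isOpen_compl
    obtain ⟨U, hU, hxU, hUs⟩ := exists_isAffineOpen_mem_and_subset (x := x)
      (U := ⟨(𝓘.support : Set X)ᶜ, hopen⟩) hx
    refine ⟨⟨U, hU⟩, hxU, 1, one_mem _, ?_⟩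
    rw [Ideal.span_singleton_one]
    refine ideal_eq_top_of_disjoint 𝓘 ⟨U, hU⟩ ?_
    rw [Set.disjoint_left]
    intro y hy hyU
    exact hUs hyU hy

end Groth.Agent.Lib.T2H2.UFDCartierSch
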