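import Mathlib
import Groth.Prelude.Def_BlowUp2
import Groth.Agent.Lib.T2H2UFDCartier2
import Groth.Agent.Lib.T2H2UFDCartierSch

/-!
# Closed subschemes without embedded points, of codimension one, with factorial local rings (helper2)
-/

set_option autoImplicit false
set_option linter.style.haveILetI false
universe u
open CategoryTheory CategoryTheory.Limits AlgebraicGeometry TopologicalSpace

namespace Groth.Agent.Lib.T2H2.UFDCartierSch

variable {X : Scheme.{u}} (𝓘 : X.IdealSheafData)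

/-- Associated primes of `Γ(X, U) ⧸ 𝓘(U)` give points of the closed subscheme whose local ring has
associated maximal ideal; the local ring of `X` there has dimension the height of the prime. -/
theorem exists_point_of_isAssociatedPrime [IsLocallyNoetherian X] (U : X.affineOpens)
    (P : Ideal Γ(X, U.1)) (hP : IsAssociatedPrime P (Γ(X, U.1) ⧸ 𝓘.ideal U)) :
    ∃ z : 𝓘.subscheme,
      IsAssociatedPrime (IsLocalRing.maximalIdeal (𝓘.subscheme.presheaf.stalk z))
        (𝓘.subscheme.presheaf.stalk z) ∧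
      ringKrullDim (X.presheaf.stalk (𝓘.subschemeι z)) = P.height := by
  have hA : IsNoetherianRing Γ(X, U.1) := IsLocallyNoetherian.component_noetherian U
  obtain ⟨hPp, y, hy⟩ := (Groth.Agent.Lib.T2H2.UFDCartier.isAssociatedPrime_quotient_iff _ P).1 hP
  set ψ := (𝓘.subschemeι.app U.1).hom with hψ
  have hsurj : Function.Surjective ψ := 𝓘.subschemeι_app_surjective U
  have hker : RingHom.ker ψ = 𝓘.ideal U := 𝓘.ker_subschemeι_app U
  have hIP : 𝓘.ideal U ≤ P := fun a ha => (hy a).2 (Ideal.mul_mem_right _ _ ha)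
  have hB : IsNoetherianRing Γ(𝓘.subscheme, 𝓘.subschemeι ⁻¹ᵁ U.1) :=
    isNoetherianRing_of_surjective _ _ ψ hsurj
  have hP'' : (P.map ψ).IsPrime := Ideal.map_isPrime_of_surjective hsurj (hker ▸ hIP)
  have hcomap : (P.map ψ).comap ψ = P := by
    rw [Ideal.comap_map_of_surjective ψ hsurj, ← RingHom.ker_eq_comap_bot, hker]
    exact sup_eq_left.2 hIP
  have hassB : IsAssociatedPrime (P.map ψ) Γ(𝓘.subscheme, 𝓘.subschemeι ⁻¹ᵁ U.1) := by
    rw [isAssociatedPrime_iff]
    refine ⟨hP'', ψ y, ?_⟩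
    ext b
    obtain ⟨a, rfl⟩ := hsurj b
    rw [Submodule.mem_colon_singleton, Submodule.mem_bot, smul_eq_mul, ← map_mul, ← RingHom.mem_ker,
      hker, ← hy, ← Ideal.mem_comap, hcomap]
  -- the point
  have hV : IsAffineOpen (𝓘.subschemeι ⁻¹ᵁ U.1) := U.2.preimage 𝓘.subschemeι
  let yB : PrimeSpectrum Γ(𝓘.subscheme, 𝓘.subschemeι ⁻¹ᵁ U.1) := ⟨P.map ψ, hP''⟩
  have hzV : hV.fromSpec yB ∈ 𝓘.subschemeι ⁻¹ᵁ U.1 := by
    have : hV.fromSpec yB ∈ Set.range hV.fromSpec := ⟨yB, rfl⟩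
    rwa [hV.range_fromSpec] at this
  refine ⟨hV.fromSpec yB, ?_, ?_⟩
  · letI : Algebra Γ(𝓘.subscheme, 𝓘.subschemeι ⁻¹ᵁ U.1)
        (𝓘.subscheme.presheaf.stalk (hV.fromSpec yB)) :=
      TopCat.Presheaf.algebra_section_stalk 𝓘.subscheme.presheaf ⟨hV.fromSpec yB, hzV⟩
    have hloc : IsLocalization.AtPrime (𝓘.subscheme.presheaf.stalk (hV.fromSpec yB)) yB.asIdeal :=
      hV.isLocalization_stalk' yB hzV
    refine Module.associatedPrimes.mem_associatedPrimes_of_comap_mem_associatedPrimes_of_isLocalizedModule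
      yB.asIdeal.primeCompl (Algebra.linearMap _ _) _ ?_
    rw [show (IsLocalRing.maximalIdeal (𝓘.subscheme.presheaf.stalk (hV.fromSpec yB))).comap
      (algebraMap _ _) = yB.asIdeal from IsLocalization.AtPrime.under_maximalIdeal _ _]
    exact hassB
  · have hzU : 𝓘.subschemeι (hV.fromSpec yB) ∈ U.1 := hzV
    have hprime : hV.primeIdealOf ⟨hV.fromSpec yB, hzV⟩ = yB :=
      hV.fromSpec.isOpenEmbedding.injective (hV.fromSpec_primeIdealOf ⟨_, hzV⟩)
    have h1 := IsAffineOpen.comap_primeIdealOf_appLE (f := 𝓘.subschemeι) U.1 U.2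
      (𝓘.subschemeι ⁻¹ᵁ U.1) hV le_rfl hzV
    rw [hprime] at h1
    have h2 : (U.2.primeIdealOf ⟨𝓘.subschemeι (hV.fromSpec yB), hzU⟩).asIdeal = P := by
      rw [← h1]
      change (P.map ψ).comap (𝓘.subschemeι.appLE U.1 (𝓘.subschemeι ⁻¹ᵁ U.1) le_rfl).hom = P
      rw [← Scheme.Hom.app_eq_appLE]
      exact hcomap
    letI : Algebra Γ(X, U.1) (X.presheaf.stalk (𝓘.subschemeι (hV.fromSpec yB))) :=
      TopCat.Presheaf.algebra_section_stalk X.presheaf ⟨_, hzU⟩
    have := U.2.isLocalization_stalk ⟨_, hzU⟩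
    have h3 := IsLocalization.AtPrime.ringKrullDim_eq_height
      (U.2.primeIdealOf ⟨_, hzU⟩).asIdeal
      (X.presheaf.stalk (𝓘.subschemeι (hV.fromSpec yB)))
    rw [h3, h2]


/-- A closed subscheme of a locally Noetherian scheme without embedded points, all of whose maximal
points have codimension one, and along which the local rings are factorial, is an effective Cartier
divisor. -/
theorem isEffCartierIdeal_of_noEmbedded [IsLocallyNoetherian X]
    (h1 : ∀ z : ↥𝓘.subscheme,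
      IsAssociatedPrime (IsLocalRing.maximalIdeal ↑(𝓘.subscheme.presheaf.stalk z))
        ↑(𝓘.subscheme.presheaf.stalk z) → ∀ z' : ↥𝓘.subscheme, z' ⤳ z → z' = z)
    (h2 : ∀ z : ↥𝓘.subscheme, (∀ z' : ↥𝓘.subscheme, z' ⤳ z → z' = z) →
      ringKrullDim (X.presheaf.stalk (𝓘.subschemeι z)) = 1)
    (h3 : ∀ x : ↥X, x ∈ 𝓘.support →
      IsDomain (X.presheaf.stalk x) ∧ UniqueFactorizationMonoid (X.presheaf.stalk x)) :
    BlowUp.IsEffCartierIdeal 𝓘 := by
  intro x
  by_cases hx : x ∈ 𝓘.support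
  · obtain ⟨U, hU, hxU, -⟩ := exists_isAffineOpen_mem_and_subset (x := x) (U := ⊤) trivial
    let U' : X.affineOpens := ⟨U, hU⟩
    have : IsNoetherianRing Γ(X, U) := IsLocallyNoetherian.component_noetherian U'
    have hass : ∀ P : Ideal Γ(X, U), IsAssociatedPrime P (Γ(X, U) ⧸ 𝓘.ideal U') → P.height = 1 := by
      intro P hP
      obtain ⟨z, hz1, hz2⟩ := exists_point_of_isAssociatedPrime 𝓘 U' P hP
      have := h2 z (h1 z hz1)
      rw [hz2] at this
      exact_mod_cast this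
    have hIp : 𝓘.ideal U' ≤ (hU.primeIdealOf ⟨x, hxU⟩).asIdeal := by
      have hmem : x ∈ (𝓘.support : Set X) ∩ U := ⟨hx, hxU⟩
      rw [𝓘.coe_support_inter U', ← hU.fromSpec_image_zeroLocus] at hmem
      obtain ⟨y, hy, hyx⟩ := hmem
      have hyeq : y = hU.primeIdealOf ⟨x, hxU⟩ :=
        hU.fromSpec.isOpenEmbedding.injective (by rw [hyx, hU.fromSpec_primeIdealOf])
      subst hyeq
      exact hy
    obtain ⟨hdom, hufd'⟩ := h3 x hx
    letI : Algebra Γ(X, U) (X.presheaf.stalk x) :=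
      TopCat.Presheaf.algebra_section_stalk X.presheaf ⟨x, hxU⟩
    have : IsLocalization.AtPrime (X.presheaf.stalk x) (hU.primeIdealOf ⟨x, hxU⟩).asIdeal :=
      hU.isLocalization_stalk ⟨x, hxU⟩
    obtain ⟨g, hg, a, haI, H⟩ := Groth.Agent.Lib.T2H2.UFDCartier.exists_away_principal_of_ass
      (𝓘.ideal U') (hU.primeIdealOf ⟨x, hxU⟩).asIdeal (X.presheaf.stalk x) hIp hass
    have hloc : IsLocalization.Away g Γ(X, X.basicOpen g) := hU.isLocalization_basicOpen g
    obtain ⟨H1, H2⟩ := H Γ(X, X.basicOpen g)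
    refine ⟨X.affineBasicOpen (U := U') g, ?_, algebraMap Γ(X, U) Γ(X, X.basicOpen g) a, H2, ?_⟩
    · have h2' : x ∈ X.basicOpen g ↔
          hU.primeIdealOf ⟨x, hxU⟩ ∈ hU.fromSpec ⁻¹ᵁ X.basicOpen g := by
        change _ ↔ hU.fromSpec (hU.primeIdealOf ⟨x, hxU⟩) ∈ X.basicOpen g
        rw [hU.fromSpec_primeIdealOf]
      change x ∈ X.basicOpen g
      rw [h2', hU.fromSpec_preimage_basicOpen]
      exact hg
    · exact (𝓘.map_ideal_basicOpen U' g).symm.trans H1
  · have hopen : IsOpen ((𝓘.support : Set X)ᶜ) := 𝓘.support.isClosed.isOpen_compl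
    obtain ⟨U, hU, hxU, hUs⟩ := exists_isAffineOpen_mem_and_subset (x := x)
      (U := ⟨(𝓘.support : Set X)ᶜ, hopen⟩) hx
    refine ⟨⟨U, hU⟩, hxU, 1, one_mem _, ?_⟩
    rw [Ideal.span_singleton_one]
    refine ideal_eq_top_of_disjoint 𝓘 ⟨U, hU⟩ ?_
    rw [Set.disjoint_left]
    intro y hy hyU
    exact hUs hyU hy

end Groth.Agent.Lib.T2H2.UFDCartierSch
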