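import Mathlib
import Groth.Prelude.Def_FlatCA
import Groth.Agent.Lib.Helper3FlatBC

/-!
# Universal injectivity for projective modules over a local ring

* `univInj_of_free`, `univInj_of_projective`: an endomorphism of a free / projective module over a
  local ring that is injective modulo the maximal ideal is universally injective.
* `lTensor_residueField_lsmul_injective`: a nonzerodivisor on the fibre module acts injectively on
  `κ(p) ⊗ N`.
* `univInj_mkLinearMap`: if every element of `T` acts universally injectively, then so does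
  `N → T⁻¹N`.
-/

set_option autoImplicit false
set_option linter.style.haveILetI false
universe u
open TensorProduct

namespace Groth.Agent.Lib.T2H2.UnivInjProj

attribute [local instance] Algebra.TensorProduct.rightAlgebra

section FL

variable {R : Type u} [CommRing R] {ι : Type u}

/-- the inclusion of finitely supported functions with support in `J`, tensored, is injective. -/
theorem lTensor_supported_subtype_injective (Q : Type u) [AddCommGroup Q] [Module R Q] (J : Set ι) :
    Function.Injective ((Finsupp.supported R R J).subtype.lTensor Q) := by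
  classical
  have h : (Finsupp.restrictDom R R J).lTensor Q ∘ₗ (Finsupp.supported R R J).subtype.lTensor Q =
      LinearMap.id := by
    rw [← LinearMap.lTensor_comp, Finsupp.restrictDom_comp_subtype, LinearMap.lTensor_id]
  exact Function.LeftInverse.injective (g := (Finsupp.restrictDom R R J).lTensor Q)
    (fun x => by simpa using LinearMap.congr_fun h x)

theorem exists_finset_mem_range_lTensor (Q : Type u) [AddCommGroup Q] [Module R Q]
    (z : Q ⊗[R] (ι →₀ R)) :
    ∃ J : Finset ι, z ∈ LinearMap.range ((Finsupp.supported R R (J : Set ι)).subtype.lTensor Q) := by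
  classical
  have mono : ∀ {J₁ J₂ : Finset ι}, J₁ ⊆ J₂ →
      LinearMap.range ((Finsupp.supported R R (J₁ : Set ι)).subtype.lTensor Q) ≤
        LinearMap.range ((Finsupp.supported R R (J₂ : Set ι)).subtype.lTensor Q) := by
    intro J₁ J₂ h
    have hle : Finsupp.supported R R (J₁ : Set ι) ≤ Finsupp.supported R R (J₂ : Set ι) :=
      Finsupp.supported_mono (by exact_mod_cast h)
    have : (Finsupp.supported R R (J₁ : Set ι)).subtype =
        (Finsupp.supported R R (J₂ : Set ι)).subtype ∘ₗ Submodule.inclusion hle := rfl
    rw [this, LinearMap.lTensor_comp]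
    exact LinearMap.range_comp_le_range _ _
  induction z with
  | zero => exact ⟨∅, zero_mem _⟩
  | add x y hx hy =>
    obtain ⟨J₁, h₁⟩ := hx
    obtain ⟨J₂, h₂⟩ := hy
    exact ⟨J₁ ∪ J₂, add_mem (mono Finset.subset_union_left h₁) (mono Finset.subset_union_right h₂)⟩
  | tmul q f =>
    refine ⟨f.support, ⟨q ⊗ₜ[R] ⟨f, ?_⟩, rfl⟩⟩
    rw [Finsupp.mem_supported]

theorem exists_finset_map_supported (u : (ι →₀ R) →ₗ[R] (ι →₀ R)) (J : Finset ι) :
    ∃ J' : Finset ι, ∀ x ∈ Finsupp.supported R R (J : Set ι), u x ∈ Finsupp.supported R R (J' : Set ι) := by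
  classical
  refine ⟨J.biUnion fun j => (u (Finsupp.single j 1)).support, fun x hx => ?_⟩
  have hx' : x = ∑ j ∈ J, x j • Finsupp.single j (1 : R) := by
    ext i
    rw [Finsupp.coe_finsetSum, Finset.sum_apply]
    simp only [Finsupp.smul_apply, Finsupp.single_apply, smul_eq_mul, mul_ite, mul_one, mul_zero,
      Finset.sum_ite_eq']
    split_ifs with hi
    · rfl
    · rw [Finsupp.mem_supported] at hx
      by_contra hne
      exact hi (hx (Finsupp.mem_support_iff.mpr hne))
  rw [hx', map_sum]
  refine Submodule.sum_mem _ fun j hj => ?_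
  rw [map_smul]
  refine Submodule.smul_mem _ _ ?_
  rw [Finsupp.mem_supported]
  intro i hi
  simp only [Finset.coe_biUnion, Finset.mem_coe, Set.mem_iUnion]
  exact ⟨j, hj, hi⟩

theorem eq_zero_of_lTensor_eq_zero [IsLocalRing R] {F M₁ M₂ : Type u} [AddCommGroup F] [Module R F]
    [AddCommGroup M₁] [Module R M₁] [AddCommGroup M₂] [Module R M₂] [Module.Finite R M₁]
    [Module.Finite R M₂] [Module.Free R M₂] (u : F →ₗ[R] F) (i₁ : M₁ →ₗ[R] F) (i₂ : M₂ →ₗ[R] F)
    (uJ : M₁ →ₗ[R] M₂) (hcomp : i₂ ∘ₗ uJ = u ∘ₗ i₁)
    (h₁ : Function.Injective (i₁.lTensor (IsLocalRing.ResidueField R)))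
    (hu : Function.Injective (u.lTensor (IsLocalRing.ResidueField R)))
    (Q : Type u) [AddCommGroup Q] [Module R Q] (h₂ : Function.Injective (i₂.lTensor Q))
    (zJ : Q ⊗[R] M₁) (hz : u.lTensor Q (i₁.lTensor Q zJ) = 0) : zJ = 0 := by
  have hinj : Function.Injective (uJ.lTensor (IsLocalRing.ResidueField R)) := by
    have h1 : Function.Injective ((i₂ ∘ₗ uJ).lTensor (IsLocalRing.ResidueField R)) := by
      rw [hcomp, LinearMap.lTensor_comp]
      exact hu.comp h₁
    rw [LinearMap.lTensor_comp] at h1
    exact Function.Injective.of_comp h1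
  obtain ⟨l', hl'⟩ :=
    (IsLocalRing.split_injective_iff_lTensor_residueField_injective uJ).mpr hinj
  have hQinj : Function.Injective (uJ.lTensor Q) := by
    have h : l'.lTensor Q ∘ₗ uJ.lTensor Q = LinearMap.id := by
      rw [← LinearMap.lTensor_comp, hl', LinearMap.lTensor_id]
    exact Function.LeftInverse.injective (g := l'.lTensor Q)
      (fun x => by simpa using LinearMap.congr_fun h x)
  have h2 : (i₂.lTensor Q) (uJ.lTensor Q zJ) = 0 := by
    rw [← LinearMap.comp_apply, ← LinearMap.lTensor_comp, hcomp, LinearMap.lTensor_comp]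
    exact hz
  have h3 : uJ.lTensor Q zJ = 0 := h₂ (by rw [h2, map_zero])
  exact hQinj (by rw [h3, map_zero])

theorem univInj_of_free [IsLocalRing R] (u : (ι →₀ R) →ₗ[R] (ι →₀ R))
    (hu : Function.Injective (u.lTensor (IsLocalRing.ResidueField R))) :
    FlatCA.UnivInj R u := by
  classical
  intro Q _ _
  rw [injective_iff_map_eq_zero]
  intro z hz
  obtain ⟨J, zJ, rfl⟩ := exists_finset_mem_range_lTensor Q z
  obtain ⟨J', hJ'⟩ := exists_finset_map_supported u J
  haveI : Finite (J : Set ι) := J.finite_toSet.to_subtype
  haveI : Finite (J' : Set ι) := J'.finite_toSet.to_subtype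
  haveI : Module.Finite R (Finsupp.supported R R (J : Set ι)) :=
    Module.Finite.equiv (Finsupp.supportedEquivFinsupp (J : Set ι)).symm
  haveI : Module.Finite R (Finsupp.supported R R (J' : Set ι)) :=
    Module.Finite.equiv (Finsupp.supportedEquivFinsupp (J' : Set ι)).symm
  haveI : Module.Free R (Finsupp.supported R R (J' : Set ι)) :=
    Module.Free.of_equiv (Finsupp.supportedEquivFinsupp (J' : Set ι)).symm
  have hcomp : (Finsupp.supported R R (J' : Set ι)).subtype ∘ₗ
      ((u ∘ₗ (Finsupp.supported R R (J : Set ι)).subtype).codRestrict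
        (Finsupp.supported R R (J' : Set ι)) (fun x => hJ' x.1 x.2)) =
      u ∘ₗ (Finsupp.supported R R (J : Set ι)).subtype := rfl
  have hA := lTensor_supported_subtype_injective (R := R) (IsLocalRing.ResidueField R) (J : Set ι)
  have hB := lTensor_supported_subtype_injective (R := R) Q (J' : Set ι)
  have h4 : zJ = 0 := eq_zero_of_lTensor_eq_zero (M₁ := Finsupp.supported R R (J : Set ι))
    (M₂ := Finsupp.supported R R (J' : Set ι)) u _ _ _ hcomp hA hu Q hB zJ hz
  rw [h4, map_zero]

end FL

section Fib

variable {R S : Type u} [CommRing R] [CommRing S] [Algebra R S] (p : Ideal R) [p.IsPrime]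
  (N : Type u) [AddCommGroup N] [Module S N] [Module R N] [IsScalarTower R S N]

/-- an element acting injectively on the fibre module acts injectively on `κ(p) ⊗ N`. -/
theorem lTensor_residueField_lsmul_injective (s : S)
    (hs : s ∈ nonZeroSMulDivisors S (FlatCA.fiberMod p S N)) :
    Function.Injective (((LinearMap.lsmul S N s).restrictScalars R).lTensor p.ResidueField) := by
  haveI hpo : Algebra.IsPushout R p.ResidueField S (p.Fiber S) := TensorProduct.isPushout
  have hbcS : IsBaseChange (p.Fiber S) (TensorProduct.mk S (p.Fiber S) N 1) :=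
    TensorProduct.isBaseChange S N (p.Fiber S)
  have hbc : IsBaseChange p.ResidueField ((TensorProduct.mk S (p.Fiber S) N 1).restrictScalars R) :=
    Groth.Agent.Lib.Helper3.FlatLoc.isBaseChange_restrictScalars_of_isPushout (A := R)
      (R := p.ResidueField) (PA := S) (PR := p.Fiber S) (X := N) (Y := (p.Fiber S) ⊗[S] N) _ hbcS
  let E : p.ResidueField ⊗[R] N ≃ₗ[p.ResidueField] (p.Fiber S) ⊗[S] N := hbc.equiv
  have hE : ∀ z, E (((LinearMap.lsmul S N s).restrictScalars R).lTensor p.ResidueField z) =
      s • E z := by
    intro z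
    induction z with
    | zero => simp
    | add x y hx hy => simp only [map_add, smul_add, hx, hy]
    | tmul c n =>
      rw [LinearMap.lTensor_tmul, IsBaseChange.equiv_tmul, IsBaseChange.equiv_tmul]
      change c • ((1 : p.Fiber S) ⊗ₜ[S] (s • n)) = s • (c • ((1 : p.Fiber S) ⊗ₜ[S] n))
      rw [← TensorProduct.smul_tmul, TensorProduct.smul_tmul',
        ← algebraMap_smul (p.Fiber S) c, ← algebraMap_smul (p.Fiber S) s,
        ← algebraMap_smul (p.Fiber S) c, ← algebraMap_smul (p.Fiber S) s, smul_smul, smul_smul,
        mul_comm, TensorProduct.smul_tmul']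
  rw [injective_iff_map_eq_zero]
  intro z hz
  have h1 : s • E z = 0 := by rw [← hE, hz, map_zero]
  have h2 : E z = 0 := hs (E z) h1
  exact E.injective (by rw [h2, map_zero])

end Fib


theorem lTensor_injective_of_equiv {R : Type u} [CommRing R] {N N' K₁ K₂ : Type u} [AddCommGroup N]
    [Module R N] [AddCommGroup N'] [Module R N'] [AddCommGroup K₁] [Module R K₁] [AddCommGroup K₂]
    [Module R K₂] (e : K₁ ≃ₗ[R] K₂) (f : N →ₗ[R] N') (h : Function.Injective (f.lTensor K₂)) :
    Function.Injective (f.lTensor K₁) := by
  have hcomm : (e : K₁ →ₗ[R] K₂).rTensor N' ∘ₗ f.lTensor K₁ =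
      f.lTensor K₂ ∘ₗ (e : K₁ →ₗ[R] K₂).rTensor N := by
    rw [LinearMap.rTensor_comp_lTensor, LinearMap.lTensor_comp_rTensor]
  have hinj : Function.Injective ((e : K₁ →ₗ[R] K₂).rTensor N) := (e.rTensor N).injective
  have h2 : Function.Injective ((e : K₁ →ₗ[R] K₂).rTensor N' ∘ₗ f.lTensor K₁) := by
    rw [hcomm]
    exact h.comp hinj
  exact Function.Injective.of_comp h2

section Transfer

open IsLocalRing

variable {R : Type u} [CommRing R] [IsLocalRing R] {N N' : Type u} [AddCommGroup N] [Module R N]
  [AddCommGroup N'] [Module R N']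

noncomputable def e₀ : (ResidueField R) ≃ₗ[R] (maximalIdeal R).ResidueField :=
  LinearEquiv.ofBijective
    (IsScalarTower.toAlgHom R (R ⧸ maximalIdeal R) (maximalIdeal R).ResidueField).toLinearMap
    (Ideal.bijective_algebraMap_quotient_residueField (maximalIdeal R))

theorem lTensor_residueField_injective_of_ideal_residueField (f : N →ₗ[R] N')
    (h : Function.Injective (f.lTensor (maximalIdeal R).ResidueField)) :
    Function.Injective (f.lTensor (ResidueField R)) :=
  lTensor_injective_of_equiv e₀ f h

end Transfer

section Proj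

open IsLocalRing

/-- over a local ring, an endomorphism of a projective module which is injective modulo the maximal
ideal is universally injective. -/
theorem univInj_of_projective {R : Type u} [CommRing R] [IsLocalRing R] {N : Type u}
    [AddCommGroup N] [Module R N] [Module.Projective R N] (v : N →ₗ[R] N)
    (hv : Function.Injective (v.lTensor (ResidueField R))) : FlatCA.UnivInj R v := by
  obtain ⟨σ, hσ⟩ := Module.projective_def'.mp (inferInstance : Module.Projective R N)
  let π : (N →₀ R) →ₗ[R] N := Finsupp.linearCombination R id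
  have hπσ : π ∘ₗ σ = LinearMap.id := hσ
  have hpt : ∀ x, π (σ x) = x := fun x => LinearMap.congr_fun hπσ x
  let u : (N →₀ R) →ₗ[R] (N →₀ R) := σ ∘ₗ v ∘ₗ π + (LinearMap.id - σ ∘ₗ π)
  have hπu : π ∘ₗ u = v ∘ₗ π := by
    ext x
    simp only [u, LinearMap.comp_apply, LinearMap.add_apply, LinearMap.sub_apply,
      LinearMap.id_apply, map_add, map_sub, hpt, sub_self, add_zero]
  have huσ : u ∘ₗ σ = σ ∘ₗ v := by
    ext x
    simp only [u, LinearMap.comp_apply, LinearMap.add_apply, LinearMap.sub_apply,
      LinearMap.id_apply, hpt, sub_self, add_zero]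
  have hu : Function.Injective (u.lTensor (ResidueField R)) := by
    rw [injective_iff_map_eq_zero]
    intro z hz
    have h1 : (v.lTensor (ResidueField R)) (π.lTensor (ResidueField R) z) = 0 := by
      rw [← LinearMap.comp_apply, ← LinearMap.lTensor_comp, ← hπu, LinearMap.lTensor_comp,
        LinearMap.comp_apply, hz, map_zero]
    have h2 : π.lTensor (ResidueField R) z = 0 := hv (by rw [h1, map_zero])
    have h3 : u.lTensor (ResidueField R) z = z := by
      simp only [u, LinearMap.lTensor_add, LinearMap.lTensor_sub, LinearMap.lTensor_comp,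
        LinearMap.lTensor_id, LinearMap.add_apply, LinearMap.sub_apply, LinearMap.comp_apply,
        LinearMap.id_apply, h2, map_zero, sub_zero, zero_add]
    rw [← h3, hz]
  have hU := univInj_of_free u hu
  intro Q _ _
  rw [injective_iff_map_eq_zero]
  intro z hz
  have h1 : (u.lTensor Q) (σ.lTensor Q z) = 0 := by
    rw [← LinearMap.comp_apply, ← LinearMap.lTensor_comp, huσ, LinearMap.lTensor_comp,
      LinearMap.comp_apply, hz, map_zero]
  have h2 : σ.lTensor Q z = 0 := hU Q (by rw [h1, map_zero])
  have h3 : z = (π.lTensor Q) (σ.lTensor Q z) := by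
    rw [← LinearMap.comp_apply, ← LinearMap.lTensor_comp, hπσ, LinearMap.lTensor_id,
      LinearMap.id_apply]
  rw [h3, h2, map_zero]

end Proj

section Loc

variable {R S : Type u} [CommRing R] [CommRing S] [Algebra R S] 
  (N : Type u) [AddCommGroup N] [Module S N] [Module R N] [IsScalarTower R S N]

theorem rTensor_comm_apply {P : Type u} [AddCommGroup P] [Module S P] [Module R P]
    [IsScalarTower R S P] (Q : Type u) [AddCommGroup Q] [Module R Q] (f : N →ₗ[S] P)
    (z : Q ⊗[R] N) :
    (AlgebraTensorModule.rTensor R Q f) (TensorProduct.comm R Q N z) =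
      TensorProduct.comm R Q P ((f.restrictScalars R).lTensor Q z) := by
  induction z with
  | zero => simp
  | add x y hx hy => simp only [map_add, hx, hy]
  | tmul q n => simp

theorem smul_comm_apply (Q : Type u) [AddCommGroup Q] [Module R Q] (t : S) (z : Q ⊗[R] N) :
    t • (TensorProduct.comm R Q N z) =
      TensorProduct.comm R Q N (((LinearMap.lsmul S N t).restrictScalars R).lTensor Q z) := by
  induction z with
  | zero => simp
  | add x y hx hy => simp only [map_add, smul_add, hx, hy]
  | tmul q n => simp [TensorProduct.smul_tmul']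

/-- if every element of `T` acts universally injectively then so does the localization map. -/
theorem univInj_mkLinearMap (T : Submonoid S)
    (h : ∀ t ∈ T, FlatCA.UnivInj R ((LinearMap.lsmul S N t).restrictScalars R)) :
    FlatCA.UnivInj R ((LocalizedModule.mkLinearMap T N).restrictScalars R) := by
  intro Q _ _
  rw [injective_iff_map_eq_zero]
  intro z hz
  have h1 : (AlgebraTensorModule.rTensor R Q (LocalizedModule.mkLinearMap T N))
      (TensorProduct.comm R Q N z) = 0 := by
    rw [rTensor_comm_apply, hz, map_zero]
  obtain ⟨t, ht⟩ := (IsLocalizedModule.eq_zero_iff T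
    (AlgebraTensorModule.rTensor R Q (LocalizedModule.mkLinearMap T N))).mp h1
  have h2 : (t : S) • (TensorProduct.comm R Q N z) = 0 := ht
  rw [smul_comm_apply, LinearEquiv.map_eq_zero_iff] at h2
  exact h t t.2 Q (by rw [h2, map_zero])

end Loc

section Main

open IsLocalRing

variable {R S : Type u} [CommRing R] [IsLocalRing R] [CommRing S] [Algebra R S]
  (N : Type u) [AddCommGroup N] [Module S N] [Module R N] [IsScalarTower R S N]
  [Module.Projective R N]

/-- a nonzerodivisor on the closed fibre module acts universally injectively on a module which is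
projective over the local base. -/
theorem univInj_lsmul_of_projective (s : S) (hs : s ∈ FlatCA.nzdFiber R S N) :
    FlatCA.UnivInj R ((LinearMap.lsmul S N s).restrictScalars R) :=
  univInj_of_projective _ (lTensor_residueField_injective_of_ideal_residueField _
    (lTensor_residueField_lsmul_injective (maximalIdeal R) N s hs))

theorem univInj_smul_and_toLocalization :
    (∀ s ∈ FlatCA.nzdFiber R S N, FlatCA.UnivInj R ((LinearMap.lsmul S N s).restrictScalars R)) ∧
      FlatCA.UnivInj R
        ((LocalizedModule.mkLinearMap (FlatCA.nzdFiber R S N) N).restrictScalars R) :=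
  ⟨fun s hs => univInj_lsmul_of_projective N s hs,
    univInj_mkLinearMap N _ fun s hs => univInj_lsmul_of_projective N s hs⟩

end Main

end Groth.Agent.Lib.T2H2.UnivInjProj
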