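import Mathlib
import Groth.Agent.Lib.Helper10SubtrVal2

/-!
# Valuation rings dominating finite chains of specializations (helper2)

Used for S19530: composites of valuation rings give a valuation ring through any finite chain of
primes of a local ring; combined with Helper10's valuative description of universally S-subtrusive
morphisms this lifts finite chains of specializations.
-/

set_option autoImplicit false
universe u

namespace Groth.Agent.Lib.T2H2.ValChain

open IsLocalRing AlgebraicGeometry CategoryTheory

/-- The composite of a valuation ring `V'` with a valuation subring `B` of its residue field. -/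
theorem valuationRing_comap_residue {V' : Type u} [CommRing V'] [IsDomain V'] [ValuationRing V']
    (B : ValuationSubring (ResidueField V')) :
    ValuationRing ↥(B.toSubring.comap (residue V')) := by
  rw [ValuationRing.iff_dvd_total]
  refine ⟨fun a b => ?_⟩
  -- compare in `V'`
  have key : ∀ a b : ↥(B.toSubring.comap (residue V')), (a : V') ∣ (b : V') → a ∣ b ∨ b ∣ a := by
    intro a b hab
    obtain ⟨c, hc⟩ := hab
    by_cases ha0 : (a : V') = 0
    · left
      refine ⟨0, ?_⟩
      apply Subtype.ext
      simp [hc, ha0]
    by_cases hcB : residue V' c ∈ B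
    · left
      exact ⟨⟨c, hcB⟩, Subtype.ext hc⟩
    · right
      -- `c` is a unit of `V'` and the residue of its inverse lies in `B`
      have hcne : residue V' c ≠ 0 := fun h => hcB (h ▸ B.zero_mem)
      have hcu : IsUnit c := by
        by_contra hnu
        exact hcne ((residue_eq_zero_iff c).mpr ((mem_maximalIdeal c).mpr hnu))
      obtain ⟨u, rfl⟩ := hcu
      have hinv : residue V' (↑u⁻¹ : V') ∈ B := by
        have h1 : residue V' (↑u⁻¹ : V') = (residue V' (u : V'))⁻¹ := by
          rw [map_units_inv]
        rw [h1]
        exact (B.mem_or_inv_mem _).resolve_left hcB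
      refine ⟨⟨(↑u⁻¹ : V'), hinv⟩, Subtype.ext ?_⟩
      change (a : V') = (b : V') * (↑u⁻¹ : V')
      rw [hc, mul_assoc, Units.mul_inv, mul_one]
  rcases ValuationRing.dvd_total (a : V') (b : V') with h | h
  · exact key a b h
  · exact (key b a h).symm


/-- A finite chain of primes of a local ring ending at the maximal ideal is dominated by a
valuation ring carrying a chain of primes contracting to the given one. -/
theorem exists_valuationRing_chain (n : ℕ) : ∀ (R : Type u) [CommRing R] [IsLocalRing R]
    (P : Fin (n + 1) → Ideal R), (∀ i, (P i).IsPrime) → Monotone P →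
    P (Fin.last n) = maximalIdeal R →
    ∃ (V : Type u) (_ : CommRing V) (_ : IsDomain V) (_ : ValuationRing V) (φ : R →+* V)
      (Q : Fin (n + 1) → Ideal V), (∀ i, (Q i).IsPrime) ∧ Monotone Q ∧
      (∀ i, (Q i).comap φ = P i) ∧ Q (Fin.last n) = maximalIdeal V := by
  induction n with
  | zero =>
    intro R _ _ P hP hmono hlast
    refine ⟨ResidueField R, inferInstance, inferInstance, inferInstance, residue R, fun _ => ⊥,
      fun _ => Ideal.isPrime_bot, fun _ _ _ => le_rfl, fun i => ?_, ?_⟩
    · have hi : i = Fin.last 0 := by
        apply Fin.ext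
        have := i.2
        simp only [Fin.val_last]
        omega
      rw [hi, hlast, ← RingHom.ker_eq_comap_bot, ker_residue]
    · exact (maximalIdeal_eq_bot).symm
  | succ n ih =>
    intro R _ _ P hP hmono hlast
    -- localize at the last but one prime
    have hPn : (P (Fin.last n).castSucc).IsPrime := hP _
    let R' := Localization.AtPrime (P (Fin.last n).castSucc)
    let P' : Fin (n + 1) → Ideal R' := fun i => (P i.castSucc).map (algebraMap R R')
    have hdisj : ∀ i : Fin (n + 1), Disjoint
        ((P (Fin.last n).castSucc).primeCompl : Set R) (P i.castSucc : Set R) := by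
      intro i
      rw [Set.disjoint_left]
      intro x hx hx'
      exact hx (hmono (Fin.castSucc_le_castSucc_iff.mpr (Fin.le_last i)) hx')
    have hP'prime : ∀ i, (P' i).IsPrime := fun i =>
      IsLocalization.isPrime_of_isPrime_disjoint (P (Fin.last n).castSucc).primeCompl R' _
        (hP _) (hdisj i)
    have hP'comap : ∀ i, (P' i).comap (algebraMap R R') = P i.castSucc := fun i =>
      IsLocalization.under_map_of_isPrime_disjoint (P (Fin.last n).castSucc).primeCompl R'
        (hP _) (hdisj i)
    have hP'mono : Monotone P' := fun i j hij =>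
      Ideal.map_mono (hmono (Fin.castSucc_le_castSucc_iff.mpr hij))
    have hP'last : P' (Fin.last n) = maximalIdeal R' :=
      Localization.AtPrime.map_eq_maximalIdeal
    obtain ⟨V', _, _, _, φ', Q', hQ'prime, hQ'mono, hQ'comap, hQ'last⟩ :=
      ih R' P' hP'prime hP'mono hP'last
    -- the residue field of `V'` and the valuation subring dominating the image of `R`
    let f : R →+* ResidueField V' := (residue V').comp (φ'.comp (algebraMap R R'))
    obtain ⟨B, hB, hBloc⟩ := exists_factor_valuationRing f
    let V : Subring V' := B.toSubring.comap (residue V')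
    have hVval : ValuationRing ↥V := valuationRing_comap_residue B
    let φ : R →+* ↥V := (φ'.comp (algebraMap R R')).codRestrict V (fun r => hB r)
    let ρ : ↥V →+* ↥B := ((residue V').comp V.subtype).codRestrict B.toSubring (fun a => a.2)
    have hρφ : ρ.comp φ = f.codRestrict B.toSubring hB := by
      ext r
      rfl
    let Qlast : Ideal ↥V := (maximalIdeal ↥B).comap ρ
    let Q : Fin (n + 2) → Ideal ↥V := Fin.lastCases Qlast (fun i => (Q' i).comap V.subtype)
    have hQlast : Q (Fin.last (n + 1)) = Qlast := Fin.lastCases_last
    have hQcast : ∀ i : Fin (n + 1), Q i.castSucc = (Q' i).comap V.subtype :=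
      fun i => Fin.lastCases_castSucc i
    -- membership in the last prime
    have hQ'nle : (Q' (Fin.last n)).comap V.subtype ≤ Qlast := by
      intro a ha
      rw [Ideal.mem_comap, hQ'last] at ha
      change ρ a ∈ maximalIdeal ↥B
      have h0 : ρ a = 0 := by
        apply Subtype.ext
        exact (residue_eq_zero_iff _).mpr ha
      rw [h0]
      exact Ideal.zero_mem _
    refine ⟨↥V, inferInstance, inferInstance, hVval, φ, Q, ?_, ?_, ?_, ?_⟩
    · intro i
      induction i using Fin.lastCases with
      | last =>
        rw [hQlast]
        exact Ideal.comap_isPrime ρ _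
      | cast i =>
        rw [hQcast]
        exact Ideal.comap_isPrime V.subtype _
    · intro i j hij
      induction j using Fin.lastCases with
      | last =>
        rw [hQlast]
        induction i using Fin.lastCases with
        | last => rw [hQlast]
        | cast i =>
          rw [hQcast]
          exact le_trans (Ideal.comap_mono (hQ'mono (Fin.le_last i))) hQ'nle
      | cast j =>
        induction i using Fin.lastCases with
        | last =>
          exfalso
          have h1 := Fin.castSucc_lt_last j
          exact absurd hij (not_le.mpr h1)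
        | cast i =>
          rw [hQcast, hQcast]
          exact Ideal.comap_mono (hQ'mono (Fin.castSucc_le_castSucc_iff.mp hij))
    · intro i
      induction i using Fin.lastCases with
      | last =>
        rw [hQlast, hlast]
        change Ideal.comap φ (Ideal.comap ρ (maximalIdeal ↥B)) = _
        rw [Ideal.comap_comap, hρφ]
        ext r
        rw [Ideal.mem_comap, mem_maximalIdeal, mem_maximalIdeal, mem_nonunits_iff,
          mem_nonunits_iff, not_iff_not]
        exact ⟨fun h => IsUnit.of_map (f.codRestrict B.toSubring hB) r h,
          fun h => h.map _⟩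
      | cast i =>
        rw [hQcast]
        change Ideal.comap φ (Ideal.comap V.subtype (Q' i)) = _
        rw [Ideal.comap_comap]
        have h1 : V.subtype.comp φ = φ'.comp (algebraMap R R') := by
          ext r
          rfl
        rw [h1, ← Ideal.comap_comap, hQ'comap, hP'comap]
    · rw [hQlast]
      ext a
      rw [mem_maximalIdeal, mem_nonunits_iff]
      change ρ a ∈ maximalIdeal ↥B ↔ _
      rw [mem_maximalIdeal, mem_nonunits_iff, not_iff_not]
      constructor
      · intro h
        -- `a` is a unit of `V'` whose inverse has residue in `B`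
        have hane : residue V' (a : V') ≠ 0 := by
          intro h0
          have : ρ a = 0 := Subtype.ext h0
          rw [this] at h
          exact not_isUnit_zero h
        have hau : IsUnit (a : V') := by
          by_contra hnu
          exact hane ((residue_eq_zero_iff _).mpr ((mem_maximalIdeal _).mpr hnu))
        obtain ⟨u, hu⟩ := hau
        obtain ⟨b, hb⟩ := h.exists_right_inv
        have hinv : residue V' (↑u⁻¹ : V') ∈ B := by
          have h1 : residue V' (↑u⁻¹ : V') = (b : ResidueField V') := by
            have h2 : residue V' (a : V') * (b : ResidueField V') = 1 := congrArg Subtype.val hb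
            rw [← hu] at h2
            rw [map_units_inv]
            exact inv_eq_of_mul_eq_one_right h2
          rw [h1]
          exact b.2
        refine IsUnit.of_mul_eq_one (⟨(↑u⁻¹ : V'), hinv⟩ : ↥V) (Subtype.ext ?_)
        change (a : V') * (↑u⁻¹ : V') = 1
        rw [← hu, Units.mul_inv]
      · intro h
        exact h.map ρ


/-- A finite chain of specializations in a scheme is the image of a chain of primes of a valuation
ring. -/
theorem exists_valuationRing_dominating_chain {Y : Scheme.{u}} (n : ℕ) (y : Fin (n + 1) → Y)
    (hy : ∀ i j : Fin (n + 1), i ≤ j → y i ⤳ y j) :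
    ∃ (V : Type u) (_ : CommRing V) (_ : IsDomain V) (_ : ValuationRing V)
      (g : Spec (CommRingCat.of V) ⟶ Y) (p : Fin (n + 1) → Spec (CommRingCat.of V)),
      (∀ i j, i ≤ j → p i ⤳ p j) ∧ ∀ i, g (p i) = y i := by
  let y₀ := y (Fin.last n)
  have hmem : ∀ i, y i ∈ Set.range (Y.fromSpecStalk y₀) := by
    intro i
    rw [Scheme.range_fromSpecStalk]
    exact hy i (Fin.last n) (Fin.le_last i)
  choose P hP using hmem
  have hemb := (Y.fromSpecStalk y₀).isEmbedding
  have hPspec : ∀ i j, i ≤ j → P i ⤳ P j := by
    intro i j hij
    rw [← hemb.isInducing.specializes_iff, hP, hP]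
    exact hy i j hij
  have hPlast : P (Fin.last n) = closedPoint (Y.presheaf.stalk y₀) := by
    apply hemb.injective
    rw [hP, Scheme.fromSpecStalk_closedPoint]
  obtain ⟨V, _, _, _, φ, Q, hQprime, hQmono, hQcomap, -⟩ :=
    exists_valuationRing_chain n (Y.presheaf.stalk y₀) (fun i => (P i).asIdeal)
      (fun i => (P i).isPrime)
      (fun i j hij => (PrimeSpectrum.le_iff_specializes _ _).mpr (hPspec i j hij))
      (congrArg PrimeSpectrum.asIdeal hPlast)
  refine ⟨V, inferInstance, inferInstance, inferInstance,
    Spec.map (CommRingCat.ofHom φ) ≫ Y.fromSpecStalk y₀, fun i => ⟨Q i, hQprime i⟩, ?_, ?_⟩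
  · intro i j hij
    exact (PrimeSpectrum.le_iff_specializes (⟨Q i, hQprime i⟩ : PrimeSpectrum V)
      ⟨Q j, hQprime j⟩).mp (hQmono hij)
  · intro i
    rw [Scheme.Hom.comp_apply, ← hP i]
    congr 1
    exact PrimeSpectrum.ext (hQcomap i)

/-- Finite chains of specializations lift along morphisms all of whose base changes lift ordered
pairs of points. -/
theorem exists_chain_lift {X Y : Scheme.{u}} (f : X ⟶ Y) (hf : Subtr.UnivSSubtrusive f) (n : ℕ)
    (y : Fin (n + 1) → Y) (hy : ∀ i j : Fin (n + 1), i ≤ j → y i ⤳ y j) :
    ∃ x : Fin (n + 1) → X, (∀ i j : Fin (n + 1), i ≤ j → x i ⤳ x j) ∧ ∀ i, f (x i) = y i := by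
  obtain ⟨V, _, _, _, g, p, hp, hgp⟩ := exists_valuationRing_dominating_chain n y hy
  obtain ⟨V', _, _, _, a, b, hb, hab⟩ :=
    (Groth.Agent.Lib.Helper10.SubtrVal.main2 f).mp hf V g
  let q : Spec (CommRingCat.of V) → Spec (CommRingCat.of V') := Function.surjInv hb.surj
  have hq : ∀ t, b (q t) = t := Function.surjInv_eq hb.surj
  refine ⟨fun i => a (q (p i)), ?_, ?_⟩
  · intro i j hij
    apply Specializes.map _ a.continuous
    by_cases hpe : p i = p j
    · rw [hpe]
    · have htot : (q (p i)).asIdeal ≤ (q (p j)).asIdeal ∨ (q (p j)).asIdeal ≤ (q (p i)).asIdeal :=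
        (ValuationRing.iff_ideal_total.mp inferInstance).total _ _
      rcases htot with h | h
      · exact (PrimeSpectrum.le_iff_specializes _ _).mp h
      · exfalso
        have h1 : q (p j) ⤳ q (p i) := (PrimeSpectrum.le_iff_specializes _ _).mp h
        have h2 := h1.map b.continuous
        rw [hq, hq] at h2
        exact hpe ((hp i j hij).antisymm h2).eq
  · intro i
    rw [← Scheme.Hom.comp_apply, hab, Scheme.Hom.comp_apply, hq, hgp]

end Groth.Agent.Lib.T2H2.ValChain
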