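import Mathlib

/-!
# Valuation ring base change and fibres of closures (helper2)

Used for S1481: a valuation ring of `κ(y)` dominating the local ring at a specialization `x` of `y`
contracts to a valuation ring of `κ(f y)`; over its generic point the base change is the fibre of
`f` over `f y`, and the closed point of the bigger valuation ring gives a point over `x`.
-/

set_option autoImplicit false
universe u

namespace Groth.Agent.Lib.T2H2.ValFibre

open AlgebraicGeometry CategoryTheory Limits IsLocalRing

/-- Valuation rings of the residue fields of a specialization and of its image, compatible with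
the morphism. -/
theorem exists_valuation_data {X S : Scheme.{u}} (f : X ⟶ S) {y x : X} (h : y ⤳ x) :
    ∃ (A : ValuationSubring (X.residueField y)) (R : ValuationSubring (S.residueField (f y)))
      (sA : Spec (CommRingCat.of ↥A) ⟶ X) (g : Spec (CommRingCat.of ↥R) ⟶ S) (ι : ↥R →+* ↥A),
      sA (closedPoint ↥A) = x ∧
      Spec.map (CommRingCat.ofHom A.subtype) ≫ sA = X.fromSpecResidueField y ∧
      Spec.map (CommRingCat.ofHom R.subtype) ≫ g = S.fromSpecResidueField (f y) ∧
      sA ≫ f = Spec.map (CommRingCat.ofHom ι) ≫ g ∧ Function.Injective ι ∧ IsLocalHom ι := by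
  let t : X.presheaf.stalk x ⟶ X.residueField y := X.presheaf.stalkSpecializes h ≫ X.residue y
  obtain ⟨A, hA, hA_local⟩ := exists_factor_valuationRing t.hom
  let tA : X.presheaf.stalk x ⟶ CommRingCat.of ↥A := CommRingCat.ofHom (t.hom.codRestrict _ hA)
  let ρ : S.residueField (f y) →+* X.residueField y := (f.residueFieldMap y).hom
  let R : ValuationSubring (S.residueField (f y)) := A.comap ρ
  let ι : ↥R →+* ↥A := (ρ.comp R.subtype).codRestrict A.toSubring (fun r => r.2)
  have hfy : f y ⤳ f x := h.map f.continuous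
  let τ : S.presheaf.stalk (f x) ⟶ S.residueField (f y) :=
    S.presheaf.stalkSpecializes hfy ≫ S.residue (f y)
  have hcomm : τ ≫ f.residueFieldMap y = f.stalkMap x ≫ t := by
    simp only [τ, t, Category.assoc]
    rw [Scheme.residue_residueFieldMap, ← Category.assoc, ← Category.assoc]
    congr 1
    exact Scheme.Hom.stalkSpecializes_stalkMap f y x h
  have hτR : ∀ a, τ.hom a ∈ R.toSubring := by
    intro a
    change ρ (τ.hom a) ∈ A
    have h1 : ρ (τ.hom a) = t.hom ((f.stalkMap x).hom a) :=
      DFunLike.congr_fun (CommRingCat.hom_ext_iff.mp hcomm) a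
    rw [h1]
    exact hA _
  let τR : S.presheaf.stalk (f x) ⟶ CommRingCat.of ↥R :=
    CommRingCat.ofHom (τ.hom.codRestrict _ hτR)
  refine ⟨A, R, Spec.map tA ≫ X.fromSpecStalk x, Spec.map τR ≫ S.fromSpecStalk (f x), ι,
    ?_, ?_, ?_, ?_, ?_, ?_⟩
  · have h1 : Spec.map tA (closedPoint ↥A) = closedPoint (X.presheaf.stalk x) :=
      comap_closedPoint (S := A) (t.hom.codRestrict A.toSubring hA)
    change X.fromSpecStalk x (Spec.map tA (closedPoint ↥A)) = x
    rw [h1, X.fromSpecStalk_closedPoint]
  · rw [← Spec.map_comp_assoc]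
    have h1 : tA ≫ CommRingCat.ofHom A.subtype = t := by ext a; rfl
    rw [h1, Spec.map_comp, Category.assoc, Scheme.SpecMap_stalkSpecializes_fromSpecStalk]
    rfl
  · rw [← Spec.map_comp_assoc]
    have h1 : τR ≫ CommRingCat.ofHom R.subtype = τ := by ext a; rfl
    rw [h1, Spec.map_comp, Category.assoc, Scheme.SpecMap_stalkSpecializes_fromSpecStalk]
    rfl
  · rw [Category.assoc, ← Scheme.SpecMap_stalkMap_fromSpecStalk, ← Spec.map_comp_assoc,
      ← Spec.map_comp_assoc]
    congr 2
    ext a
    exact (DFunLike.congr_fun (CommRingCat.hom_ext_iff.mp hcomm) a).symm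
  · intro a b hab
    apply Subtype.ext
    apply ρ.injective
    exact congrArg Subtype.val hab
  · constructor
    intro r hr
    by_cases hr0 : r = 0
    · rw [hr0, map_zero] at hr
      exact absurd hr not_isUnit_zero
    have hr0' : (r : S.residueField (f y)) ≠ 0 := fun h0 => hr0 (Subtype.ext h0)
    obtain ⟨b, hb⟩ := hr.exists_right_inv
    have hinv : (r : S.residueField (f y))⁻¹ ∈ R := by
      change ρ ((r : S.residueField (f y))⁻¹) ∈ A
      have h1 : ρ (r : S.residueField (f y)) * (b : X.residueField y) = 1 :=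
        congrArg Subtype.val hb
      rw [map_inv₀, inv_eq_of_mul_eq_one_right h1]
      exact b.2
    refine IsUnit.of_mul_eq_one (⟨(r : S.residueField (f y))⁻¹, hinv⟩ : ↥R) (Subtype.ext ?_)
    change (r : S.residueField (f y)) * (r : S.residueField (f y))⁻¹ = 1
    exact mul_inv_cancel₀ hr0'


/-- Over the generic point of a valuation ring of the residue field `κ(s₀)` mapping to `S` through
`Spec κ(s₀)`, specializations in the base change can be tested after projecting to `X`. -/
theorem specializes_of_fst_specializes {X S : Scheme.{u}} (f : X ⟶ S) (s₀ : S)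
    (R : ValuationSubring (S.residueField s₀)) (g : Spec (CommRingCat.of ↥R) ⟶ S)
    (hg : Spec.map (CommRingCat.ofHom R.subtype) ≫ g = S.fromSpecResidueField s₀)
    (a' b' : ↑(pullback f g)) (ha : pullback.snd f g a' = (⊥ : PrimeSpectrum ↥R))
    (hb : pullback.snd f g b' = (⊥ : PrimeSpectrum ↥R))
    (hab : pullback.fst f g a' ⤳ pullback.fst f g b') : a' ⤳ b' := by
  let j : Spec (S.residueField s₀) ⟶ Spec (CommRingCat.of ↥R) :=
    Spec.map (CommRingCat.ofHom R.subtype)
  have hjpre : IsPreimmersion j :=
    IsPreimmersion.of_isLocalization (R := ↥R) (S := S.residueField s₀) (nonZeroDivisors ↥R)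
  have hjrange : Set.range j = {(⊥ : PrimeSpectrum ↥R)} := by
    ext p
    constructor
    · rintro ⟨q, rfl⟩
      apply PrimeSpectrum.ext
      change Ideal.comap R.subtype q.asIdeal = ⊥
      have hq : q.asIdeal = ⊥ := by
        rcases Ideal.eq_bot_or_top q.asIdeal with h | h
        · exact h
        · exact absurd h q.isPrime.ne_top
      rw [hq]
      exact (RingHom.injective_iff_ker_eq_bot _).mp R.subtype_injective
    · rintro rfl
      refine ⟨⟨⊥, Ideal.isPrime_bot⟩, ?_⟩
      apply PrimeSpectrum.ext
      change Ideal.comap R.subtype ⊥ = ⊥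
      exact (RingHom.injective_iff_ker_eq_bot _).mp R.subtype_injective
  let E₁ := pullback.fst (pullback.snd f g) j
  have hE₁range : Set.range E₁ = (pullback.snd f g) ⁻¹' {(⊥ : PrimeSpectrum ↥R)} := by
    rw [Scheme.Pullback.range_fst, hjrange]
  obtain ⟨a, rfl⟩ : a' ∈ Set.range E₁ := by rw [hE₁range]; exact ha
  obtain ⟨b, rfl⟩ : b' ∈ Set.range E₁ := by rw [hE₁range]; exact hb
  have hpaste : IsPullback (E₁ ≫ pullback.fst f g) (pullback.snd (pullback.snd f g) j) f
      (j ≫ g) :=
    (IsPullback.of_hasPullback (pullback.snd f g) j).paste_horiz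
      (IsPullback.of_hasPullback f g)
  have hE₂ : IsPreimmersion (E₁ ≫ pullback.fst f g) := by
    have h1 : IsPreimmersion (j ≫ g) := by
      have h2 : j ≫ g = S.fromSpecResidueField s₀ := hg
      rw [h2]
      infer_instance
    exact MorphismProperty.of_isPullback (P := @IsPreimmersion) hpaste.flip h1
  apply Specializes.map _ E₁.continuous
  rw [← (E₁ ≫ pullback.fst f g).isEmbedding.isInducing.specializes_iff]
  exact hab


/-- A point specializing to the generic point of an irreducible component equals it. -/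
theorem eq_of_specializes_genericPoint {T : Type*} [TopologicalSpace T] [T0Space T] {z x : T}
    {C : Set T} (hC : C ∈ irreducibleComponents T) (hx : IsGenericPoint x C) (hz : z ⤳ x) :
    z = x := by
  have h1 : C ⊆ closure ({z} : Set T) := by
    rw [← hx.def]
    exact specializes_iff_closure_subset.mp hz
  have h2 : C = closure ({z} : Set T) :=
    Maximal.eq_of_le hC isIrreducible_singleton.closure h1
  have h3 : x ⤳ z := by
    rw [specializes_iff_mem_closure, hx.def, h2]
    exact subset_closure rfl
  exact (hz.antisymm h3).eq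

/-- The valuation ring base change statement: a point generic in a component of a fibre of the
closure of `y` is reached along a valuation ring by a point generic in a component of the special
fibre of the closure of the lift of `y`. -/
theorem exists_valuationRing_base_change {X S : Scheme.{u}} (f : X ⟶ S) (y : X) (s : S) (x : X)
    (hx : x ∈ closure ({y} : Set ↑X)) (hxs : f x = s)
    (hgen : ∃ C ∈ irreducibleComponents ↑(closure ({y} : Set ↑X) ∩ f ⁻¹' {s}),
      IsGenericPoint (⟨x, hx, hxs⟩ : ↑(closure ({y} : Set ↑X) ∩ f ⁻¹' {s})) C) :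
    ∃ (R : Type u) (_ : CommRing R) (_ : IsDomain R) (_ : ValuationRing R)
      (g : Spec (CommRingCat.of R) ⟶ S),
      g (⊥ : PrimeSpectrum R) = f y ∧ g (IsLocalRing.closedPoint R) = s ∧
      ∃ (y' : ↑(pullback f g)) (hy't : pullback.snd f g y' = (⊥ : PrimeSpectrum R))
        (hy'Y : pullback.fst f g y' ∈ closure ({y} : Set ↑X)),
        pullback.fst f g y' = y ∧
        (∃ C ∈ irreducibleComponents ↑((pullback.fst f g) ⁻¹' closure ({y} : Set ↑X) ∩
            (pullback.snd f g) ⁻¹' {(⊥ : PrimeSpectrum R)}),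
          IsGenericPoint (⟨y', hy'Y, hy't⟩ : ↑((pullback.fst f g) ⁻¹' closure ({y} : Set ↑X) ∩
            (pullback.snd f g) ⁻¹' {(⊥ : PrimeSpectrum R)})) C) ∧
        ∃ (x' : ↑(pullback f g)) (hx' : x' ∈ closure ({y'} : Set ↑(pullback f g)))
          (hx's : pullback.snd f g x' = IsLocalRing.closedPoint R),
          pullback.fst f g x' = x ∧
          ∃ C ∈ irreducibleComponents ↑(closure ({y'} : Set ↑(pullback f g)) ∩
              (pullback.snd f g) ⁻¹' {IsLocalRing.closedPoint R}),
            IsGenericPoint (⟨x', hx', hx's⟩ : ↑(closure ({y'} : Set ↑(pullback f g)) ∩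
              (pullback.snd f g) ⁻¹' {IsLocalRing.closedPoint R})) C := by
  subst hxs
  have hyx : y ⤳ x := specializes_iff_mem_closure.mpr hx
  obtain ⟨A, R, sA, g, ι, hsAx, hsAgen, hggen, hcompat, hιinj, hιloc⟩ :=
    exists_valuation_data f hyx
  -- the lift of `Spec A`
  let ℓ : Spec (CommRingCat.of ↥A) ⟶ pullback f g :=
    pullback.lift sA (Spec.map (CommRingCat.ofHom ι)) hcompat
  have hℓ1 : ℓ ≫ pullback.fst f g = sA := pullback.lift_fst _ _ _
  have hℓ2 : ℓ ≫ pullback.snd f g = Spec.map (CommRingCat.ofHom ι) := pullback.lift_snd _ _ _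
  let ηA : Spec (CommRingCat.of ↥A) := (⊥ : PrimeSpectrum ↥A)
  let y' : ↑(pullback f g) := ℓ ηA
  let x'' : ↑(pullback f g) := ℓ (closedPoint ↥A)
  -- the generic point of `Spec A` maps to `y`
  have hsAη : sA ηA = y := by
    let pt : Spec (X.residueField y) := ⟨⊥, Ideal.isPrime_bot⟩
    have h1 : Spec.map (CommRingCat.ofHom A.subtype) pt = ηA := by
      apply PrimeSpectrum.ext
      change Ideal.comap A.subtype ⊥ = ⊥
      exact (RingHom.injective_iff_ker_eq_bot _).mp A.subtype_injective
    rw [← h1, ← Scheme.Hom.comp_apply, hsAgen]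
    exact Scheme.fromSpecResidueField_apply _ _
  have hy'fst : pullback.fst f g y' = y := by
    change (pullback.fst f g) (ℓ ηA) = y
    rw [← Scheme.Hom.comp_apply, hℓ1, hsAη]
  have hy'snd : pullback.snd f g y' = (⊥ : PrimeSpectrum ↥R) := by
    change (pullback.snd f g) (ℓ ηA) = _
    rw [← Scheme.Hom.comp_apply, hℓ2]
    apply PrimeSpectrum.ext
    change Ideal.comap ι ⊥ = ⊥
    exact (RingHom.injective_iff_ker_eq_bot _).mp hιinj
  have hx''fst : pullback.fst f g x'' = x := by
    change (pullback.fst f g) (ℓ (closedPoint ↥A)) = x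
    rw [← Scheme.Hom.comp_apply, hℓ1, hsAx]
  have hx''snd : pullback.snd f g x'' = closedPoint ↥R := by
    change (pullback.snd f g) (ℓ (closedPoint ↥A)) = _
    rw [← Scheme.Hom.comp_apply, hℓ2]
    exact comap_closedPoint ι
  have hcond : ∀ z : ↑(pullback f g), f (pullback.fst f g z) = g (pullback.snd f g z) := by
    intro z
    rw [← Scheme.Hom.comp_apply, ← Scheme.Hom.comp_apply, pullback.condition]
  have hg1 : g (⊥ : PrimeSpectrum ↥R) = f y := by
    rw [← hy'snd, ← hcond, hy'fst]
  have hg2 : g (closedPoint ↥R) = f x := by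
    rw [← hx''snd, ← hcond, hx''fst]
  have hy'x'' : y' ⤳ x'' := by
    apply Specializes.map _ ℓ.continuous
    exact (PrimeSpectrum.le_iff_specializes (⊥ : PrimeSpectrum ↥A) (closedPoint ↥A)).mp bot_le
  have hy'Y : pullback.fst f g y' ∈ closure ({y} : Set ↑X) := by
    rw [hy'fst]
    exact subset_closure rfl
  refine ⟨↥R, inferInstance, inferInstance, inferInstance, g, hg1, hg2, y', hy'snd, hy'Y, hy'fst,
    ?_, ?_⟩
  · -- the generic fibre of the preimage of the closure is irreducible with generic point `y'`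
    have hgenpt : IsGenericPoint (⟨y', hy'Y, hy'snd⟩ :
        ↑((pullback.fst f g) ⁻¹' closure ({y} : Set ↑X) ∩
          (pullback.snd f g) ⁻¹' {(⊥ : PrimeSpectrum ↥R)})) Set.univ := by
      rw [isGenericPoint_def, Set.eq_univ_iff_forall]
      rintro ⟨z, hz1, hz2⟩
      rw [← specializes_iff_mem_closure, subtype_specializes_iff]
      change y' ⤳ z
      apply specializes_of_fst_specializes f (f y) R g hggen y' z hy'snd hz2
      rw [hy'fst]
      exact specializes_iff_mem_closure.mpr hz1
    have hirr : IrreducibleSpace ↑((pullback.fst f g) ⁻¹' closure ({y} : Set ↑X) ∩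
        (pullback.snd f g) ⁻¹' {(⊥ : PrimeSpectrum ↥R)}) := by
      have h1 := hgenpt.isIrreducible
      have h2 : PreirreducibleSpace ↑((pullback.fst f g) ⁻¹' closure ({y} : Set ↑X) ∩
          (pullback.snd f g) ⁻¹' {(⊥ : PrimeSpectrum ↥R)}) := ⟨h1.isPreirreducible⟩
      exact ⟨⟨⟨y', hy'Y, hy'snd⟩⟩⟩
    refine ⟨Set.univ, ?_, hgenpt⟩
    rw [irreducibleComponents_eq_singleton]
    exact rfl
  · -- the special fibre
    have hx''mem : x'' ∈ closure ({y'} : Set ↑(pullback f g)) ∩
        (pullback.snd f g) ⁻¹' {closedPoint ↥R} :=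
      ⟨specializes_iff_mem_closure.mp hy'x'', hx''snd⟩
    have hclosed : IsClosed (closure ({y'} : Set ↑(pullback f g)) ∩
        (pullback.snd f g) ⁻¹' {closedPoint ↥R}) :=
      isClosed_closure.inter
        ((IsLocalRing.isClosed_singleton_closedPoint ↥R).preimage (pullback.snd f g).continuous)
    have hsober : QuasiSober ↑(closure ({y'} : Set ↑(pullback f g)) ∩
        (pullback.snd f g) ⁻¹' {closedPoint ↥R}) :=
      hclosed.isClosedEmbedding_subtypeVal.quasiSober
    obtain ⟨⟨x', hx'1, hx'2⟩, hξ⟩ := QuasiSober.sober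
      (isIrreducible_irreducibleComponent (x := (⟨x'', hx''mem⟩ :
        ↑(closure ({y'} : Set ↑(pullback f g)) ∩ (pullback.snd f g) ⁻¹' {closedPoint ↥R}))))
      isClosed_irreducibleComponent
    have hx'x'' : x' ⤳ x'' := by
      have h1 : (⟨x', hx'1, hx'2⟩ : ↑(closure ({y'} : Set ↑(pullback f g)) ∩
          (pullback.snd f g) ⁻¹' {closedPoint ↥R})) ⤳ ⟨x'', hx''mem⟩ := by
        rw [specializes_iff_mem_closure, hξ.def]
        exact mem_irreducibleComponent
      exact (subtype_specializes_iff _ _).mp h1
    have hzx : pullback.fst f g x' ⤳ x := by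
      rw [← hx''fst]
      exact hx'x''.map (pullback.fst f g).continuous
    have hzY : pullback.fst f g x' ∈ closure ({y} : Set ↑X) := by
      have h1 := (specializes_iff_mem_closure.mpr hx'1).map (pullback.fst f g).continuous
      rw [hy'fst] at h1
      exact specializes_iff_mem_closure.mp h1
    have hzs : f (pullback.fst f g x') = f x := by
      rw [hcond, hx'2, hg2]
    have hzeq : pullback.fst f g x' = x := by
      obtain ⟨C₀, hC₀, hxC₀⟩ := hgen
      have h1 : (⟨pullback.fst f g x', hzY, hzs⟩ : ↑(closure ({y} : Set ↑X) ∩ f ⁻¹' {f x})) ⤳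
          ⟨x, hx, rfl⟩ := (subtype_specializes_iff _ _).mpr hzx
      exact congrArg Subtype.val (eq_of_specializes_genericPoint hC₀ hxC₀ h1)
    exact ⟨x', hx'1, hx'2, hzeq, _, irreducibleComponent_mem_irreducibleComponents _, hξ⟩

end Groth.Agent.Lib.T2H2.ValFibre
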