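import Mathlib

/-!
# Weakly associated points and flat pullback (T2H2)

* `radical_ker_tmul`: ascent of a weakly associated maximal ideal along a flat local homomorphism with
  zero-dimensional closed fibre.
* `eq_maximalIdeal_of_generic`: a point maximal in its fibre has zero-dimensional closed fibre of its local ring.
-/

set_option autoImplicit false
universe u
open CategoryTheory AlgebraicGeometry TensorProduct

namespace Groth.Agent.Lib.T2H2.WeakAssPull

/-- Weakly associated maximal ideals ascend along flat local homomorphisms with zero-dimensional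
closed fibre. -/
theorem radical_ker_tmul {R R' M : Type u} [CommRing R] [CommRing R'] [IsLocalRing R] [IsLocalRing R']
    [Algebra R R'] [Module.Flat R R'] [IsLocalHom (algebraMap R R')]
    [AddCommGroup M] [Module R M] (m : M)
    (hm : Ideal.radical (LinearMap.ker (LinearMap.toSpanSingleton R M m)) = IsLocalRing.maximalIdeal R)
    (hfib : ∀ q : Ideal R', q.IsPrime →
      (IsLocalRing.maximalIdeal R).map (algebraMap R R') ≤ q → q = IsLocalRing.maximalIdeal R') :
    Ideal.radical (LinearMap.ker (LinearMap.toSpanSingleton R' (R' ⊗[R] M) ((1 : R') ⊗ₜ[R] m))) =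
      IsLocalRing.maximalIdeal R' := by
  have hff : Module.FaithfullyFlat R R' := Module.FaithfullyFlat.of_flat_of_isLocalHom
  set K : Ideal R' := LinearMap.ker (LinearMap.toSpanSingleton R' (R' ⊗[R] M) ((1 : R') ⊗ₜ[R] m)) with hK
  have hm0 : m ≠ 0 := by
    rintro rfl
    have : LinearMap.ker (LinearMap.toSpanSingleton R M (0 : M)) = ⊤ := by
      ext a; simp
    rw [this, Ideal.radical_top] at hm
    exact (IsLocalRing.maximalIdeal.isMaximal R).ne_top hm.symm
  have h1 : ((1 : R') ⊗ₜ[R] m) ≠ 0 := by
    intro h
    apply hm0
    have hinj := Module.FaithfullyFlat.tensorProduct_mk_injective (A := R) (B := R') M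
    apply hinj
    simpa using h
  have hKne : K ≠ ⊤ := by
    intro h
    apply h1
    have : (1 : R') ∈ K := by rw [h]; trivial
    simpa [hK] using this
  apply le_antisymm
  · have : K ≤ IsLocalRing.maximalIdeal R' := IsLocalRing.le_maximalIdeal hKne
    calc K.radical ≤ (IsLocalRing.maximalIdeal R').radical := Ideal.radical_mono this
      _ = _ := (IsLocalRing.maximalIdeal.isMaximal R').isPrime.radical
  · rw [Ideal.radical_eq_sInf]
    apply le_sInf
    rintro q ⟨hKq, hq⟩
    have : q = IsLocalRing.maximalIdeal R' := by
      apply hfib q hq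
      rw [Ideal.map_le_iff_le_comap, ← hm]
      have hq' : (q.comap (algebraMap R R')).IsPrime := Ideal.comap_isPrime _ _
      rw [hq'.radical_le_iff]
      intro a ha
      apply hKq
      simp only [hK, LinearMap.mem_ker, LinearMap.toSpanSingleton_apply] at ha ⊢
      rw [algebraMap_smul, TensorProduct.smul_tmul', TensorProduct.smul_tmul, ha, TensorProduct.tmul_zero]
    rw [this]

/-- annihilators are invariant under linear equivalences. -/
theorem ker_toSpanSingleton_symm {R N N' : Type*} [CommRing R] [AddCommGroup N] [Module R N]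
    [AddCommGroup N'] [Module R N'] (e : N ≃ₗ[R] N') (n' : N') :
    LinearMap.ker (LinearMap.toSpanSingleton R N (e.symm n')) =
      LinearMap.ker (LinearMap.toSpanSingleton R N' n') := by
  ext a
  simp only [LinearMap.mem_ker, LinearMap.toSpanSingleton_apply]
  rw [← map_smul, LinearEquiv.map_eq_zero_iff]

/-- if `x` is maximal (under generization) in its fibre, then the closed fibre of the local ring
at `x` over the local ring at `f x` has only one prime. -/
theorem eq_maximalIdeal_of_generic {X S : Scheme.{u}} (f : X ⟶ S) (x : X)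
    (hgen : ∀ y : X, f y = f x → y ⤳ x → y = x)
    (q : Ideal (X.presheaf.stalk x)) (hq : q.IsPrime)
    (hle : (IsLocalRing.maximalIdeal (S.presheaf.stalk (f x))).map (f.stalkMap x).hom ≤ q) :
    q = IsLocalRing.maximalIdeal (X.presheaf.stalk x) := by
  let Q : Spec (X.presheaf.stalk x) := ⟨q, hq⟩
  set y := X.fromSpecStalk x Q with hy
  have hyx : y ⤳ x := by
    have : y ∈ Set.range (X.fromSpecStalk x) := ⟨Q, rfl⟩
    rwa [Scheme.range_fromSpecStalk] at this
  have hfy : f y = f x := by
    have h1 : (X.fromSpecStalk x ≫ f) Q = (Spec.map (f.stalkMap x) ≫ S.fromSpecStalk (f x)) Q := by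
      rw [Scheme.SpecMap_stalkMap_fromSpecStalk]
    rw [Scheme.Hom.comp_apply, Scheme.Hom.comp_apply] at h1
    rw [hy, h1]
    have h2 : Spec.map (f.stalkMap x) Q = IsLocalRing.closedPoint (S.presheaf.stalk (f x)) := by
      apply PrimeSpectrum.ext
      change q.comap (f.stalkMap x).hom = IsLocalRing.maximalIdeal _
      have hp : (q.comap (f.stalkMap x).hom).IsPrime := Ideal.comap_isPrime _ _
      refine ((IsLocalRing.maximalIdeal.isMaximal _).eq_of_le hp.ne_top ?_).symm
      rwa [← Ideal.map_le_iff_le_comap]
    rw [h2, Scheme.fromSpecStalk_closedPoint]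
  have hyeq : y = x := hgen y hfy hyx
  have hQ : Q = IsLocalRing.closedPoint (X.presheaf.stalk x) := by
    apply (X.fromSpecStalk x).isEmbedding.injective
    rw [Scheme.fromSpecStalk_closedPoint]
    exact hyeq
  exact congrArg PrimeSpectrum.asIdeal hQ

end Groth.Agent.Lib.T2H2.WeakAssPull
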