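import Mathlib
import Groth.Prelude.Def_Flat
import Groth.Agent.Lib.Helper20WeakNorm

/-!
# The weak subintegral closure as an equalizer (T2 helper2)

The proof of `S13837` does not use finiteness of the sets of minimal primes; we restate it here
without those hypotheses.
-/

set_option autoImplicit false
universe u
open AlgebraicGeometry
open scoped TensorProduct

namespace Groth.Agent.Lib.T2H2.WeakSubint

/-- the equalizer of `B ⇉ (B ⊗_A B)_red` is the largest `A`-subalgebra of `B` universally
homeomorphic to `A` on spectra -/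
theorem exists_equalizer (A B : Type u) [CommRing A] [CommRing B] [Algebra A B]
    (hinj : Function.Injective (algebraMap A B)) [Algebra.IsIntegral A B] :
    ∃ E : Subalgebra A B, (∀ b : B, b ∈ E ↔ IsNilpotent (b ⊗ₜ[A] (1 : B) - (1 : B) ⊗ₜ[A] b)) ∧
      FlatMor.IsUnivHomeo (Spec.map (CommRingCat.ofHom (algebraMap A E))) ∧
      ∀ C : Subalgebra A B, FlatMor.IsUnivHomeo (Spec.map (CommRingCat.ofHom (algebraMap A C))) → C ≤ E := by
  classical
  let T := B ⊗[A] B
  let f₁ : B →ₐ[A] (T ⧸ nilradical T) :=
    (Ideal.Quotient.mkₐ A (nilradical T)).comp Algebra.TensorProduct.includeLeft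
  let f₂ : B →ₐ[A] (T ⧸ nilradical T) :=
    (Ideal.Quotient.mkₐ A (nilradical T)).comp Algebra.TensorProduct.includeRight
  have hmem : ∀ b : B, b ∈ AlgHom.equalizer f₁ f₂ ↔
      IsNilpotent (b ⊗ₜ[A] (1 : B) - (1 : B) ⊗ₜ[A] b) := by
    intro b
    rw [AlgHom.mem_equalizer, ← mem_nilradical]
    exact Ideal.Quotient.eq
  refine ⟨AlgHom.equalizer f₁ f₂, hmem, ?_, ?_⟩
  · -- universal homeomorphism
    set E := AlgHom.equalizer f₁ f₂ with hE
    have hintE : Algebra.IsIntegral A E :=
      Algebra.IsIntegral.of_injective E.val Subtype.val_injective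
    have hint : (algebraMap A E).IsIntegral := algebraMap_isIntegral_iff.mpr hintE
    have hinjE : Function.Injective (algebraMap A E) := by
      intro a a' haa'
      exact hinj (congrArg Subtype.val haa')
    have hintEB : (E.val : E →+* B).IsIntegral := by
      intro b
      exact (Algebra.IsIntegral.isIntegral (R := A) b).tower_top
    have hsurjEB : Function.Surjective (PrimeSpectrum.comap (E.val : E →+* B)) :=
      RingHom.IsIntegral.comap_surjective hintEB Subtype.val_injective
    have h1 : IsIntegralHom (Spec.map (CommRingCat.ofHom (algebraMap A E))) :=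
      IsIntegralHom.SpecMap_iff.mpr hint
    have h2 : Surjective (Spec.map (CommRingCat.ofHom (algebraMap A E))) :=
      ⟨RingHom.IsIntegral.comap_surjective hint hinjE⟩
    have h3 : UniversallyInjective (Spec.map (CommRingCat.ofHom (algebraMap A E))) := by
      apply Groth.Agent.Lib.Helper20.WeakNorm.universallyInjective_Spec_of
      intro K _ φ₁ φ₂ hφ
      let L := AlgebraicClosure K
      obtain ⟨h₁, hh₁⟩ := Groth.Agent.Lib.Helper20.WeakNorm.exists_extend_algClosed
        (E.val : E →+* B) hintEB hsurjEB L ((algebraMap K L).comp φ₁)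
      obtain ⟨h₂, hh₂⟩ := Groth.Agent.Lib.Helper20.WeakNorm.exists_extend_algClosed
        (E.val : E →+* B) hintEB hsurjEB L ((algebraMap K L).comp φ₂)
      have hagree : h₁.comp (algebraMap A B) = h₂.comp (algebraMap A B) := by
        refine RingHom.ext fun a => ?_
        have e1 : h₁ (algebraMap A B a) = algebraMap K L (φ₁ (algebraMap A E a)) :=
          RingHom.congr_fun hh₁ (algebraMap A E a)
        have e2 : h₂ (algebraMap A B a) = algebraMap K L (φ₂ (algebraMap A E a)) :=
          RingHom.congr_fun hh₂ (algebraMap A E a)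
        have e3 : φ₁ (algebraMap A E a) = φ₂ (algebraMap A E a) := RingHom.congr_fun hφ a
        show h₁ (algebraMap A B a) = h₂ (algebraMap A B a)
        rw [e1, e2, e3]
      refine RingHom.ext fun e => ?_
      have hnil := (hmem (e : B)).mp e.2
      have h5 := Groth.Agent.Lib.Helper20.WeakNorm.eq_of_isNilpotent_tmul_sub h₁ h₂ hagree
        (e : B) hnil
      have e1 : h₁ (e : B) = algebraMap K L (φ₁ e) := RingHom.congr_fun hh₁ e
      have e2 : h₂ (e : B) = algebraMap K L (φ₂ e) := RingHom.congr_fun hh₂ e
      rw [e1, e2] at h5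
      exact (algebraMap K L).injective h5
    exact Groth.Agent.Lib.Helper20.EtaPt.isUnivHomeo_of _
  · -- maximality
    intro C hC c hc
    rw [hmem, nilpotent_iff_mem_prime]
    intro 𝔓 h𝔓
    let L := 𝔓.ResidueField
    let π : T →+* L := algebraMap T L
    let g₁ : B →+* L := π.comp (Algebra.TensorProduct.includeLeft : B →ₐ[A] T).toRingHom
    let g₂ : B →+* L := π.comp (Algebra.TensorProduct.includeRight : B →ₐ[A] T).toRingHom
    have hagree : (g₁.comp (C.val : C →+* B)).comp (algebraMap A C) =
        (g₂.comp (C.val : C →+* B)).comp (algebraMap A C) := by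
      refine RingHom.ext fun a => ?_
      show π ((Algebra.TensorProduct.includeLeft : B →ₐ[A] T) (algebraMap A B a)) =
        π ((Algebra.TensorProduct.includeRight : B →ₐ[A] T) (algebraMap A B a))
      rw [AlgHom.commutes, AlgHom.commutes]
    have h6 := Groth.Agent.Lib.Helper20.WeakNorm.hom_ext_of_isUnivHomeo (algebraMap A C) hC L
      (g₁.comp (C.val : C →+* B)) (g₂.comp (C.val : C →+* B)) hagree
    have h7 : π (c ⊗ₜ[A] (1 : B)) = π ((1 : B) ⊗ₜ[A] c) := RingHom.congr_fun h6 ⟨c, hc⟩
    have h8 : π (c ⊗ₜ[A] (1 : B) - (1 : B) ⊗ₜ[A] c) = 0 := by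
      rw [map_sub, h7, sub_self]
    rw [← Ideal.ker_algebraMap_residueField 𝔓]
    exact h8


end Groth.Agent.Lib.T2H2.WeakSubint
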