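import Mathlib

/-!
# Freeness of `A⟦X⟧` over `A⟦f⟧` via Weierstrass division

For a complete local ring `A` and a power series `f` with zero constant coefficient whose reduction
modulo the maximal ideal is nonzero of order `d`, every power series `g` can be written uniquely as
`∑_{i<d} cᵢ(f) Xⁱ`.  Conversely, if `f ≡ 0` modulo the maximal ideal, no finite family generates.
-/

set_option autoImplicit false

open PowerSeries

namespace Groth.Agent.Lib.T2H2.WeierFree

variable {A : Type*} [CommRing A]

/-- The shift `(c - c(0))/X`. -/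
noncomputable def shift (c : PowerSeries A) : PowerSeries A := PowerSeries.mk fun n => coeff (n + 1) c

theorem coeff_shift (c : PowerSeries A) (n : ℕ) : coeff n (shift c) = coeff (n + 1) c := by
  simp [shift]

theorem subst_eq {f : PowerSeries A} (hf : HasSubst f) (c : PowerSeries A) :
    subst f c = C (constantCoeff c) + f * subst f (shift c) := by
  conv_lhs => rw [eq_X_mul_shift_add_const c]
  rw [subst_add hf, subst_mul hf, subst_X hf, add_comm]
  congr 1
  exact subst_C (a := f) (constantCoeff c)

section Local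

variable [IsLocalRing A] [IsAdicComplete (IsLocalRing.maximalIdeal A) A]

variable (f : PowerSeries A)

/-- The `k`-th iterated Weierstrass quotient. -/
noncomputable def qs (g : PowerSeries A) (k : ℕ) : PowerSeries A := (fun h => h /ʷ f)^[k] g

/-- The coefficient series. -/
noncomputable def cs (g : PowerSeries A) (i : ℕ) : PowerSeries A :=
  PowerSeries.mk fun k => (qs f g k %ʷ f).coeff i

theorem qs_succ (g : PowerSeries A) (k : ℕ) : qs f g (k + 1) = qs f (g /ʷ f) k := by
  simp [qs, Function.iterate_succ_apply]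

theorem shift_cs (g : PowerSeries A) (i : ℕ) : shift (cs f g i) = cs f (g /ʷ f) i := by
  ext k
  rw [coeff_shift, cs, cs, coeff_mk, coeff_mk, qs_succ]

theorem constantCoeff_cs (g : PowerSeries A) (i : ℕ) :
    constantCoeff (cs f g i) = (g %ʷ f).coeff i := by
  rw [← coeff_zero_eq_constantCoeff_apply, cs, coeff_mk]
  rfl

/-- `d`, the order of the reduction of `f`. -/
noncomputable def dd : ℕ := (f.map (IsLocalRing.residue A)).order.toNat

/-- The candidate expansion. -/
noncomputable def Ψ (g : PowerSeries A) : PowerSeries A :=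
  ∑ i : Fin (dd f), subst f (cs f g i) * X ^ (i : ℕ)

omit [IsLocalRing A] [IsAdicComplete (IsLocalRing.maximalIdeal A) A] in
theorem sum_C_coeff_mul_X_pow (r : Polynomial A) (d : ℕ) (hr : r.degree < d) :
    ∑ i : Fin d, C (r.coeff i) * (X : PowerSeries A) ^ (i : ℕ) = (r : PowerSeries A) := by
  ext n
  rw [map_sum, Polynomial.coeff_coe]
  simp only [coeff_C_mul, coeff_X_pow]
  by_cases hn : n < d
  · rw [Finset.sum_eq_single ⟨n, hn⟩]
    · simp
    · intro b _ hb
      have : n ≠ (b : ℕ) := fun h => hb (Fin.ext h.symm)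
      simp [this]
    · intro h; exact absurd (Finset.mem_univ _) h
  · rw [Finset.sum_eq_zero]
    · symm
      apply Polynomial.coeff_eq_zero_of_degree_lt
      exact lt_of_lt_of_le hr (by exact_mod_cast not_lt.mp hn)
    · intro b _
      have : n ≠ (b : ℕ) := fun h => hn (h ▸ b.2)
      simp [this]

variable {f}

theorem Ψ_eq (hf : HasSubst f) (g : PowerSeries A) :
    Ψ f g = ((g %ʷ f : Polynomial A) : PowerSeries A) + f * Ψ f (g /ʷ f) := by
  have hdeg : (g %ʷ f).degree < (dd f : ℕ) := degree_weierstrassMod_lt g f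
  rw [← sum_C_coeff_mul_X_pow (g %ʷ f) (dd f) hdeg, Ψ, Ψ, Finset.mul_sum, ← Finset.sum_add_distrib]
  refine Finset.sum_congr rfl (fun i _ => ?_)
  rw [subst_eq hf, shift_cs, constantCoeff_cs]
  ring

theorem X_pow_dvd_sub_Ψ (hf : HasSubst f) (hf0 : constantCoeff f = 0)
    (hfm : f.map (IsLocalRing.residue A) ≠ 0) (K : ℕ) :
    ∀ g : PowerSeries A, (X : PowerSeries A) ^ K ∣ g - Ψ f g := by
  induction K with
  | zero => intro g; simp
  | succ K ih =>
    intro g
    have h1 : g = f * (g /ʷ f) + ((g %ʷ f : Polynomial A) : PowerSeries A) :=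
      eq_mul_weierstrassDiv_add_weierstrassMod g hfm
    have h2 : g - Ψ f g = f * (g /ʷ f - Ψ f (g /ʷ f)) := by
      rw [Ψ_eq hf g]
      nth_rewrite 1 [h1]
      ring
    rw [h2, pow_succ']
    exact mul_dvd_mul (X_dvd_iff.mpr hf0) (ih _)

theorem eq_Ψ (hf : HasSubst f) (hf0 : constantCoeff f = 0)
    (hfm : f.map (IsLocalRing.residue A) ≠ 0) (g : PowerSeries A) : g = Ψ f g := by
  rw [← sub_eq_zero]
  ext n
  have := X_pow_dvd_iff.mp (X_pow_dvd_sub_Ψ hf hf0 hfm (n + 1) g) n (Nat.lt_succ_self n)
  rw [this, map_zero]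

/-- Uniqueness, one step. -/
theorem unique_step (hf : HasSubst f) (hfm : f.map (IsLocalRing.residue A) ≠ 0)
    (e : Fin (dd f) → PowerSeries A)
    (h : ∑ i : Fin (dd f), subst f (e i) * X ^ (i : ℕ) = 0) :
    (∀ i, constantCoeff (e i) = 0) ∧
      ∑ i : Fin (dd f), subst f (shift (e i)) * X ^ (i : ℕ) = 0 := by
  classical
  set r : Polynomial A := ∑ i : Fin (dd f), Polynomial.monomial (i : ℕ) (constantCoeff (e i))
    with hr
  have hrdeg : r.degree < (dd f : ℕ) := by
    rw [hr]
    refine lt_of_le_of_lt (Polynomial.degree_sum_le _ _) ?_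
    rw [Finset.sup_lt_iff (WithBot.bot_lt_coe _)]
    intro i _
    refine lt_of_le_of_lt (Polynomial.degree_monomial_le _ _) ?_
    exact_mod_cast i.2
  have hrcoe : (r : PowerSeries A) = ∑ i : Fin (dd f), C (constantCoeff (e i)) * X ^ (i : ℕ) := by
    rw [← sum_C_coeff_mul_X_pow r (dd f) hrdeg]
    refine Finset.sum_congr rfl (fun i _ => ?_)
    congr 2
    rw [hr, Polynomial.finsetSum_coeff, Finset.sum_eq_single i]
    · simp
    · intro b _ hb
      rw [Polynomial.coeff_monomial, if_neg]
      exact fun h => hb (Fin.ext h)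
    · intro h; exact absurd (Finset.mem_univ _) h
  have hdiv : IsWeierstrassDivision (0 : PowerSeries A) f
      (∑ i : Fin (dd f), subst f (shift (e i)) * X ^ (i : ℕ)) r := by
    refine ⟨hrdeg, ?_⟩
    rw [hrcoe, ← h, Finset.mul_sum, ← Finset.sum_add_distrib]
    refine Finset.sum_congr rfl (fun i _ => ?_)
    rw [subst_eq hf (e i)]
    ring
  obtain ⟨hq, hr0⟩ := hdiv.eq_zero hfm
  refine ⟨fun i => ?_, hq⟩
  have := congrArg (fun p : Polynomial A => p.coeff i) hr0
  simp only [Polynomial.coeff_zero] at this
  rw [hr, Polynomial.finsetSum_coeff, Finset.sum_eq_single i] at this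
  · simpa using this
  · intro b _ hb
    rw [Polynomial.coeff_monomial, if_neg]
    exact fun h => hb (Fin.ext h)
  · intro h; exact absurd (Finset.mem_univ _) h

theorem unique_aux (hf : HasSubst f) (hfm : f.map (IsLocalRing.residue A) ≠ 0) (K : ℕ) :
    ∀ e : Fin (dd f) → PowerSeries A,
      ∑ i : Fin (dd f), subst f (e i) * X ^ (i : ℕ) = 0 → ∀ i, coeff K (e i) = 0 := by
  induction K with
  | zero =>
    intro e h i
    rw [coeff_zero_eq_constantCoeff_apply]
    exact (unique_step hf hfm e h).1 i
  | succ K ih =>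
    intro e h i
    have := ih (fun i => shift (e i)) (unique_step hf hfm e h).2 i
    rwa [coeff_shift] at this

theorem existsUnique_expansion (hf0 : constantCoeff f = 0)
    (hfm : f.map (IsLocalRing.residue A) ≠ 0) :
    ∃ (n : ℕ) (b : Fin n → PowerSeries A), ∀ g : PowerSeries A,
      ∃! c : Fin n → PowerSeries A, g = ∑ i, subst f (c i) * b i := by
  have hf : HasSubst f := HasSubst.of_constantCoeff_zero' hf0
  refine ⟨dd f, fun i => X ^ (i : ℕ), fun g => ⟨fun i => cs f g i, eq_Ψ hf hf0 hfm g, ?_⟩⟩
  intro c' hc'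
  funext i
  ext K
  have h0 : ∑ i : Fin (dd f), subst f (c' i - cs f g i) * X ^ (i : ℕ) = 0 := by
    have h1 : g = ∑ i : Fin (dd f), subst f (cs f g i) * X ^ (i : ℕ) := eq_Ψ hf hf0 hfm g
    simp only [subst_sub hf, sub_mul, Finset.sum_sub_distrib]
    rw [← hc', ← h1, sub_self]
  have := unique_aux hf hfm K (fun i => c' i - cs f g i) h0 i
  rwa [map_sub, sub_eq_zero] at this

end Local

section Converse

variable [IsLocalRing A]

theorem linearIndependent_X_pow (κ : Type*) [Field κ] (n : ℕ) :
    LinearIndependent κ (fun j : Fin n => (X : PowerSeries κ) ^ (j : ℕ)) := by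
  rw [Fintype.linearIndependent_iff]
  intro a ha j
  have := congrArg (coeff (j : ℕ)) ha
  rw [map_sum, map_zero] at this
  simp only [coeff_smul, coeff_X_pow] at this
  rw [Finset.sum_eq_single j] at this
  · simpa using this
  · intro b _ hb
    have : (j : ℕ) ≠ (b : ℕ) := fun h => hb (Fin.ext h.symm)
    simp [this]
  · intro h; exact absurd (Finset.mem_univ _) h

theorem exists_coeff_notMem_of_span (f : PowerSeries A) (hf : HasSubst f)
    (n : ℕ) (b : Fin n → PowerSeries A)
    (h : ∀ g : PowerSeries A, ∃ c : Fin n → PowerSeries A, g = ∑ i, subst f (c i) * b i) :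
    ∃ k, coeff k f ∉ IsLocalRing.maximalIdeal A := by
  classical
  by_contra hall
  push Not at hall
  set κ := IsLocalRing.ResidueField A
  set res : A →+* κ := IsLocalRing.residue A
  have hf0 : f.map res = 0 := by
    ext k
    rw [coeff_map, map_zero]
    exact (IsLocalRing.residue_eq_zero_iff _).mpr (hall k)
  have hf0' : MvPowerSeries.map res f = 0 := hf0
  have hsub : ∀ c : PowerSeries A,
      PowerSeries.map res (subst f c : PowerSeries A) = C (constantCoeff (c.map res)) := by
    intro c
    have h1 : PowerSeries.map res (subst f c : PowerSeries A) =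
        subst (MvPowerSeries.map res f) (c.map res) := map_subst hf c
    rw [h1, hf0', subst_zero_eq_C_constantCoeff]
    ext k
    simp only [Algebra.algebraMap_self, MvPowerSeries.map_id, RingHom.id_apply]
    rfl
  have hspan : Submodule.span κ (Set.range fun i => (b i).map res) = ⊤ := by
    rw [eq_top_iff]
    rintro gb -
    obtain ⟨g, rfl⟩ := PowerSeries.map_surjective res IsLocalRing.residue_surjective gb
    obtain ⟨c, hc⟩ := h g
    rw [hc, map_sum]
    refine Submodule.sum_mem _ (fun i _ => ?_)
    rw [map_mul, hsub, ← smul_eq_C_mul]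
    exact Submodule.smul_mem _ _ (Submodule.subset_span ⟨i, rfl⟩)
  have hli := linearIndependent_X_pow κ (n + 1)
  have hle := linearIndependent_le_span _ hli (Set.range fun i => (b i).map res) hspan
  rw [Cardinal.mk_fin] at hle
  have h2 : Fintype.card (Set.range fun i => (b i).map res) ≤ n := by
    refine (Fintype.card_range_le _).trans ?_
    simp
  have : ((n + 1 : ℕ) : Cardinal) ≤ (n : Cardinal) := hle.trans (by exact_mod_cast h2)
  have : n + 1 ≤ n := by exact_mod_cast this
  omega

end Converse

end Groth.Agent.Lib.T2H2.WeierFree
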