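/-
helper2 (team 2): Zariski's main theorem with a finite, finitely presented target (Stacks 0F2N-style), from S0385,
helper6's `exists_finite_fp` and finite type sub-ideal sheaves.
-/
import Mathlib
import Groth.Agent.S0385
import Groth.Agent.Lib.T2H6FinFP
import Groth.Agent.Lib.Helper6LfpComp
import Groth.Agent.Lib.T2H2ImmStageA

set_option autoImplicit false
universe u
open CategoryTheory CategoryTheory.Limits AlgebraicGeometry TopologicalSpace Opposite

namespace Groth.Agent.Lib.T2H2.ZMTfp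

open Groth.Agent.Lib.Helper22.FTIdeal Groth.Agent.Lib.T2H2.ImmStage

/-- finitely many sections of an ideal sheaf over affine opens lie in a finite type sub-ideal sheaf -/
theorem exists_ftSub_list {X : Scheme.{u}} [CompactSpace X] [QuasiSeparatedSpace X] (I : X.IdealSheafData)
    (l : List (Σ W : X.affineOpens, Γ(X, W.1))) (hl : ∀ p ∈ l, p.2 ∈ I.ideal p.1) :
    ∃ J ∈ ftSub I, ∀ p ∈ l, p.2 ∈ J.ideal p.1 := by
  induction l with
  | nil => exact ⟨⊥, bot_mem_ftSub I, fun p hp => absurd hp (List.not_mem_nil)⟩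
  | cons a l ih =>
    obtain ⟨J₁, hJ₁, h₁⟩ := ih (fun p hp => hl p (List.mem_cons_of_mem _ hp))
    obtain ⟨J₂, hJ₂le, hJ₂ft, h₂⟩ := exists_ft_le_mem I a.1 a.2 (hl a List.mem_cons_self)
    refine ⟨J₁ ⊔ J₂, sup_mem_ftSub hJ₁ ⟨hJ₂le, hJ₂ft⟩, ?_⟩
    intro p hp
    rcases List.mem_cons.1 hp with rfl | hp
    · exact (le_sup_right : J₂ ≤ J₁ ⊔ J₂) _ h₂
    · exact (le_sup_left : J₁ ≤ J₁ ⊔ J₂) _ (h₁ p hp)

theorem bijective_of_comp {A A' B : Type*} [CommRing A] [CommRing A'] [CommRing B] (ι : A →+* A')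
    (η : A' →+* B) (hι : Function.Surjective ι) (hθ : Function.Surjective (η.comp ι))
    (hker : RingHom.ker (η.comp ι) ≤ RingHom.ker ι) : Function.Bijective η := by
  refine ⟨?_, fun b => ?_⟩
  · rw [injective_iff_map_eq_zero]
    intro y hy
    obtain ⟨z, rfl⟩ := hι y
    exact hker (show z ∈ RingHom.ker (η.comp ι) from hy)
  · obtain ⟨a, ha⟩ := hθ b
    exact ⟨ι a, ha⟩

theorem isIso_morphismRestrict_of_isIso_app {X Y : Scheme.{u}} (f : X ⟶ Y) {U : Y.Opens}
    (hU : IsAffineOpen U) (hU' : IsAffineOpen (f ⁻¹ᵁ U)) (h : IsIso (f.app U)) : IsIso (f ∣_ U) := by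
  have : IsAffine U := hU
  refine (HasAffineProperty.iff_of_isAffine (P := .isomorphisms _)).2 ⟨hU', ?_⟩
  rw [Scheme.Hom.app_eq_appLE] at h
  simp only [morphismRestrict_app', TopologicalSpace.Opens.map_top]
  exact (f.appLE_congr _ (Scheme.Opens.ι_image_top U).symm (Scheme.Opens.ι_image_top (f ⁻¹ᵁ U)).symm
    (fun φ => IsIso φ)).1 h

theorem ker_fg_of_surjective_of_finitePresentation {A B : Type*} [CommRing A] [CommRing B] (φ : A →+* B)
    (hs : Function.Surjective φ) (hfp : φ.FinitePresentation) : (RingHom.ker φ).FG := by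
  let _ := φ.toAlgebra
  have : Algebra.FinitePresentation A B := hfp
  exact Algebra.FinitePresentation.ker_fG_of_surjective (Algebra.ofId A B) hs

/-- key local computation: if over an affine open `W` the kernel of `h = h' ≫ ι_J` is contained in `J` and `h^♯` is
surjective, then `h'` induces an isomorphism on sections over the preimage of `W` -/
theorem isIso_app_of_ideal_le {X T : Scheme.{u}} (J : T.IdealSheafData) (h' : X ⟶ J.subscheme)
    [QuasiCompact (h' ≫ J.subschemeι)] (W : T.affineOpens)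
    (hsurj : Function.Surjective ((h' ≫ J.subschemeι).app W.1).hom)
    (hker : (h' ≫ J.subschemeι).ker.ideal W ≤ J.ideal W) :
    IsIso (h'.app (J.subschemeι ⁻¹ᵁ W.1)) := by
  rw [ConcreteCategory.isIso_iff_bijective]
  refine bijective_of_comp (J.subschemeι.app W.1).hom (h'.app (J.subschemeι ⁻¹ᵁ W.1)).hom
    (J.subschemeι_app_surjective W) hsurj ?_
  rw [J.ker_subschemeι_app W]
  refine le_trans (le_of_eq ?_) hker
  rw [Scheme.Hom.ker_apply]
  rfl

/-- a quasi-compact immersion, locally of finite presentation, of a compact scheme into a qcqs scheme is an open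
immersion into a closed subscheme defined by a finite type ideal sheaf -/
theorem exists_ft_isOpenImmersion {X T : Scheme.{u}} [CompactSpace T] [QuasiSeparatedSpace T]
    [CompactSpace X] (h : X ⟶ T) [IsImmersion h] [QuasiCompact h] [LocallyOfFinitePresentation h] :
    ∃ (J : T.IdealSheafData) (h' : X ⟶ J.subscheme), FT J ∧ h' ≫ J.subschemeι = h ∧
      IsOpenImmersion h' := by
  classical
  have hx : ∀ x : X, ∃ W : T.affineOpens, h x ∈ W.1 ∧ W.1 ≤ h.coborderRange := by
    intro x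
    have hxW : h x ∈ h.coborderRange := by
      have h2 : h x = h.coborderRange.ι (h.liftCoborder x) := by
        conv_lhs => rw [← h.liftCoborder_ι]
        rfl
      rw [h2]
      exact (h.liftCoborder x).2
    obtain ⟨_, ⟨W, hW, rfl⟩, hxW', hle⟩ :=
      T.isBasis_affineOpens.exists_subset_of_mem_open hxW h.coborderRange.2
    exact ⟨⟨W, hW⟩, hxW', hle⟩
  choose W hW hle using hx
  obtain ⟨t, ht⟩ := isCompact_univ.elim_finite_subcover
    (fun x : X => ((h ⁻¹ᵁ (W x).1 : X.Opens) : Set X))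
    (fun x => (h ⁻¹ᵁ (W x).1).2) (fun x _ => Set.mem_iUnion.2 ⟨x, hW x⟩)
  have hdata : ∀ x : X, IsAffineOpen (h ⁻¹ᵁ (W x).1) ∧ Function.Surjective (h.app (W x).1).hom :=
    fun x => affine_surj_of_le_coborderRange h _ (W x).2 (hle x)
  have hfg : ∀ x : X, (h.ker.ideal (W x)).FG := by
    intro x
    rw [Scheme.Hom.ker_apply]
    have hfp : (h.app (W x).1).hom.FinitePresentation := by
      rw [Scheme.Hom.app_eq_appLE]
      exact h.finitePresentation_appLE (W x).2 (hdata x).1 _
    exact ker_fg_of_surjective_of_finitePresentation _ (hdata x).2 hfp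
  choose G hG using hfg
  let l : List (Σ W : T.affineOpens, Γ(T, W.1)) :=
    t.toList.flatMap (fun x => (G x).toList.map (fun c => ⟨W x, c⟩))
  obtain ⟨J, hJ, hJl⟩ := exists_ftSub_list h.ker l (by
    intro p hp
    obtain ⟨x, -, hp⟩ := List.mem_flatMap.1 hp
    obtain ⟨c, hc, rfl⟩ := List.mem_map.1 hp
    change c ∈ h.ker.ideal (W x)
    rw [← hG x]
    exact Ideal.subset_span (Finset.mem_toList.1 hc))
  have hJeq : ∀ x ∈ t, h.ker.ideal (W x) ≤ J.ideal (W x) := by
    intro x hx
    rw [← hG x, Ideal.span_le]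
    intro c hc
    refine hJl ⟨W x, c⟩ ?_
    apply List.mem_flatMap.2
    exact ⟨x, Finset.mem_toList.2 hx, List.mem_map.2 ⟨c, Finset.mem_toList.2 hc, rfl⟩⟩
  have hle' : J.subschemeι.ker ≤ h.ker := by rw [J.ker_subschemeι]; exact hJ.1
  let h' : X ⟶ J.subscheme := IsClosedImmersion.lift J.subschemeι h hle'
  have hfac : h' ≫ J.subschemeι = h := IsClosedImmersion.lift_fac _ _ _
  refine ⟨J, h', hJ.2, hfac, ?_⟩
  have hpre : ∀ x : X, h' ⁻¹ᵁ (J.subschemeι ⁻¹ᵁ (W x).1) = h ⁻¹ᵁ (W x).1 := by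
    intro x
    rw [← Scheme.Hom.comp_preimage, hfac]
  refine of_restrict_cover @IsOpenImmersion (fun a b _ ha => ?_) h'
    (fun x : t => J.subschemeι ⁻¹ᵁ (W x.1).1) ?_ ?_
  · have : IsOpenImmersion a := ha
    infer_instance
  · rw [eq_top_iff]
    intro y _
    obtain ⟨x, hx⟩ := Set.mem_iUnion.1 (ht (Set.mem_univ y))
    obtain ⟨hxt, hyx⟩ := Set.mem_iUnion.1 hx
    refine TopologicalSpace.Opens.mem_iSup.2 ⟨⟨x, hxt⟩, ?_⟩
    rw [hpre x]
    exact hyx
  · intro x
    have hqc : QuasiCompact (h' ≫ J.subschemeι) := by rw [hfac]; infer_instance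
    have hiso : IsIso (h'.app (J.subschemeι ⁻¹ᵁ (W x.1).1)) := by
      refine isIso_app_of_ideal_le J h' (W x.1) ?_ ?_
      · rw [hfac]; exact (hdata x.1).2
      · rw [hfac]; exact hJeq x.1 x.2
    have : IsIso (h' ∣_ (J.subschemeι ⁻¹ᵁ (W x.1).1)) :=
      isIso_morphismRestrict_of_isIso_app h' ((W x.1).2.preimage J.subschemeι)
        (by rw [hpre]; exact (hdata x.1).1) hiso
    infer_instance

/-- **Zariski's main theorem, finitely presented version** -/
theorem zmt_fp {X S : Scheme.{u}} (f : X ⟶ S) [CompactSpace S] [QuasiSeparatedSpace S] [IsSeparated f]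
    [QuasiCompact f] [LocallyQuasiFinite f] [LocallyOfFinitePresentation f] :
    ∃ (T : Scheme.{u}) (j : X ⟶ T) (π : T ⟶ S), IsOpenImmersion j ∧ QuasiCompact j ∧ IsFinite π ∧
      LocallyOfFinitePresentation π ∧ j ≫ π = f := by
  obtain ⟨T₀, j₀, π₀, hj₀, hj₀qc, hπ₀, hfac₀⟩ := Groth.Agent.S0385.result f
  obtain ⟨T₁, π₁, c, hπ₁, hπ₁fp, hc, hcfac⟩ := Groth.Agent.Lib.T2H6.FinFP.exists_finite_fp π₀
  have : CompactSpace T₁ := QuasiCompact.compactSpace_of_compactSpace π₁
  have : QuasiSeparatedSpace T₁ := quasiSeparatedSpace_of_quasiSeparated π₁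
  have : CompactSpace X := QuasiCompact.compactSpace_of_compactSpace f
  have hh : (j₀ ≫ c) ≫ π₁ = f := by rw [Category.assoc, hcfac, hfac₀]
  have : LocallyOfFinitePresentation (j₀ ≫ c) :=
    Groth.Agent.Lib.Helper6.locallyOfFinitePresentation_of_comp (g := π₁) inferInstance
      (by rw [hh]; infer_instance)
  obtain ⟨J, h', hJ, hfac, hopen⟩ := exists_ft_isOpenImmersion (j₀ ≫ c)
  have : LocallyOfFinitePresentation J.subschemeι :=
    Groth.Agent.Lib.Helper22.FTLimit.locallyOfFinitePresentation_subschemeι J hJ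
  refine ⟨J.subscheme, h', J.subschemeι ≫ π₁, hopen, ?_, inferInstance, inferInstance, ?_⟩
  · have : QuasiCompact (h' ≫ J.subschemeι) := by rw [hfac]; infer_instance
    exact QuasiCompact.of_comp h' J.subschemeι
  · rw [← Category.assoc, hfac, hh]

end Groth.Agent.Lib.T2H2.ZMTfp
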