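/-
Helper library (helper3): schemes which are local for Zariski coverings and for finite coverings are
the spectra of absolutely integrally closed local domains.
-/
import Mathlib
import Groth.Prelude.Def_Curves

set_option autoImplicit false
set_option linter.style.haveILetI false
universe u

open CategoryTheory AlgebraicGeometry

namespace Groth.Agent.Lib.T2H3.AICLocal

/-- locality of a scheme for jointly surjective families of `Q`-morphisms -/
def LocalFor (Q : MorphismProperty Scheme.{u}) (P : Scheme.{u}) : Prop :=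
  ∀ (X : Scheme.{u}) (R : Presieve X), R ∈ Scheme.precoverage Q X →
    ∀ g : P ⟶ X, ∃ (Y : Scheme.{u}) (w : Y ⟶ X) (h : P ⟶ Y), R w ∧ h ≫ w = g

variable {Q : MorphismProperty Scheme.{u}}

theorem LocalFor.of_iso {P P' : Scheme.{u}} (e : P ≅ P') (h : LocalFor Q P) : LocalFor Q P' := by
  intro X R hR g
  obtain ⟨Y, w, k, hw, hk⟩ := h X R hR (e.hom ≫ g)
  exact ⟨Y, w, e.inv ≫ k, hw, by rw [Category.assoc, hk, Iso.inv_hom_id_assoc]⟩

theorem exists_of_mem_precoverage {X : Scheme.{u}} {R : Presieve X}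
    (hR : R ∈ Scheme.precoverage Q X) (x : X) :
    ∃ (Y : Scheme.{u}) (w : Y ⟶ X), R w ∧ Q w ∧ x ∈ Set.range w := by
  obtain ⟨Y, w, hw, y, hy⟩ := (Presieve.mem_comap_jointlySurjectivePrecoverage_iff _).mp hR.1 x
  exact ⟨Y, w, hw, hR.2 hw, y, hy⟩

theorem LocalFor.nonempty {P : Scheme.{u}} (hloc : LocalFor Q P) : Nonempty P := by
  by_contra hne
  rw [not_nonempty_iff] at hne
  obtain ⟨Y, w, h, hw, -⟩ := hloc P ⊥ (Scheme.bot_mem_precoverage Q P) (𝟙 P)
  exact hw

/-- a covering of `Spec A` by spectra admits a ring-theoretic retraction on one member -/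
theorem LocalFor.exists_retraction {A : CommRingCat.{u}} (hloc : LocalFor Q (Spec A))
    {ι : Type*} (B : ι → CommRingCat.{u}) (φ : ∀ i, A ⟶ B i)
    (hsurj : ∀ x : Spec A, ∃ i, x ∈ Set.range (Spec.map (φ i)))
    (hQ : ∀ i, Q (Spec.map (φ i))) :
    ∃ i, ∃ ψ : B i ⟶ A, φ i ≫ ψ = 𝟙 A := by
  have hR : Presieve.ofArrows (fun i => Spec (B i)) (fun i => Spec.map (φ i)) ∈
      Scheme.precoverage Q (Spec A) :=
    (Scheme.ofArrows_mem_precoverage_iff Q).mpr ⟨hsurj, hQ⟩
  obtain ⟨Y, w, h, hw, hh⟩ := hloc _ _ hR (𝟙 _)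
  obtain ⟨i⟩ := hw
  refine ⟨i, Spec.preimage h, ?_⟩
  apply Spec.map_injective
  rw [Spec.map_comp, Spec.map_preimage, hh, Spec.map_id]

section Forward

theorem LocalFor.isAffine {P : Scheme.{u}} [QuasiSeparatedSpace P]
    (hloc : LocalFor (@IsOpenImmersion ⊓ @QuasiCompact) P) : IsAffine P := by
  have hR : Presieve.ofArrows (fun U : P.affineOpens => (U.1 : Scheme.{u})) (fun U => U.1.ι) ∈
      Scheme.precoverage (@IsOpenImmersion ⊓ @QuasiCompact) P := by
    rw [Scheme.ofArrows_mem_precoverage_iff]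
    refine ⟨fun x => ?_, fun U => ?_⟩
    · obtain ⟨_, ⟨U, hU, rfl⟩, hxU, -⟩ := P.isBasis_affineOpens.exists_subset_of_mem_open
        (Set.mem_univ x) isOpen_univ
      exact ⟨⟨U, hU⟩, ⟨x, hxU⟩, rfl⟩
    · haveI : IsAffine (U.1 : Scheme.{u}) := U.2
      exact ⟨inferInstance, inferInstance⟩
  obtain ⟨Y, w, h, hw, hh⟩ := hloc _ _ hR (𝟙 P)
  obtain ⟨U⟩ := hw
  haveI : IsAffine (U.1 : Scheme.{u}) := U.2
  haveI : IsSplitEpi U.1.ι := ⟨⟨h, hh⟩⟩
  haveI : IsIso U.1.ι := isIso_of_mono_of_isSplitEpi _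
  exact IsAffine.of_isIso (inv U.1.ι)

theorem isLocalRing_of_localFor {A : CommRingCat.{u}} [Nontrivial A]
    (hloc : LocalFor (@IsOpenImmersion ⊓ @QuasiCompact) (Spec A)) : IsLocalRing A := by
  apply IsLocalRing.of_isUnit_or_isUnit_one_sub_self
  intro a
  let c : Bool → A := fun b => cond b a (1 - a)
  have key := hloc.exists_retraction
    (fun b => CommRingCat.of (Localization.Away (c b)))
    (fun b => CommRingCat.ofHom (algebraMap A (Localization.Away (c b)))) ?_ ?_
  · obtain ⟨b, ψ, hψ⟩ := key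
    have hu : IsUnit (c b) := by
      have h1 : IsUnit (algebraMap A (Localization.Away (c b)) (c b)) :=
        IsLocalization.Away.algebraMap_isUnit (c b)
      have h2 := h1.map ψ.hom
      have h3 : ψ.hom (algebraMap A (Localization.Away (c b)) (c b)) = c b :=
        congrArg (fun f => f.hom (c b)) hψ
      rwa [h3] at h2
    cases b with
    | true => exact Or.inl hu
    | false => exact Or.inr hu
  · intro x
    have hrange : ∀ b : Bool, c b ∉ x.asIdeal → x ∈ Set.range
        (Spec.map (CommRingCat.ofHom (algebraMap A (Localization.Away (c b))))) := by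
      intro b hb
      change x ∈ Set.range (PrimeSpectrum.comap (algebraMap A (Localization.Away (c b))))
      rw [PrimeSpectrum.localization_away_comap_range (Localization.Away (c b)) (c b)]
      exact hb
    by_cases hx : a ∈ x.asIdeal
    · refine ⟨false, hrange false ?_⟩
      intro h1
      have : (1 : A) ∈ x.asIdeal := by
        have := x.asIdeal.add_mem hx h1
        simpa [c] using this
      exact x.isPrime.ne_top ((Ideal.eq_top_iff_one _).mpr this)
    · exact ⟨true, hrange true hx⟩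
  · intro b
    exact ⟨inferInstance, inferInstance⟩

theorem isDomain_of_localFor {A : CommRingCat.{u}}
    (hloc : LocalFor @IsFinite (Spec A)) : IsDomain A := by
  have key := hloc.exists_retraction (ι := minimalPrimes A)
    (fun 𝔭 => CommRingCat.of (A ⧸ 𝔭.1))
    (fun 𝔭 => CommRingCat.ofHom (Ideal.Quotient.mk 𝔭.1)) ?_ ?_
  · obtain ⟨𝔭, ψ, hψ⟩ := key
    have hinj : Function.Injective (Ideal.Quotient.mk 𝔭.1) := by
      intro a b hab
      have h1 : ∀ a : A, ψ.hom (Ideal.Quotient.mk 𝔭.1 a) = a :=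
        fun a => congrArg (fun f => f.hom a) hψ
      rw [← h1 a, ← h1 b, hab]
    have hbot : 𝔭.1 = ⊥ := by
      rw [← Ideal.mk_ker (I := 𝔭.1)]
      exact (RingHom.injective_iff_ker_eq_bot _).mp hinj
    haveI : (⊥ : Ideal A).IsPrime := hbot ▸ Ideal.IsMinimalPrime.isPrime 𝔭.2
    exact IsDomain.of_bot_isPrime A
  · intro x
    obtain ⟨p, hp, hpx⟩ := Ideal.exists_minimalPrimes_le (bot_le : (⊥ : Ideal A) ≤ x.asIdeal)
    refine ⟨⟨p, hp⟩, ?_⟩
    change x ∈ Set.range (PrimeSpectrum.comap (Ideal.Quotient.mk p))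
    rw [_root_.range_comap_of_surjective _ _ Ideal.Quotient.mk_surjective, Ideal.mk_ker]
    exact hpx
  · intro 𝔭
    rw [IsFinite.SpecMap_iff]
    exact RingHom.Finite.of_surjective _ Ideal.Quotient.mk_surjective

theorem isAIC_of_localFor {A : CommRingCat.{u}} [IsDomain A]
    (hloc : LocalFor @IsFinite (Spec A)) : Curves.IsAIC A := by
  intro p hp hdeg
  have key := hloc.exists_retraction (ι := PUnit.{1})
    (fun _ => CommRingCat.of (AdjoinRoot p))
    (fun _ => CommRingCat.ofHom (AdjoinRoot.of p)) ?_ ?_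
  · obtain ⟨_, ψ, hψ⟩ := key
    refine ⟨ψ.hom (AdjoinRoot.root p), ?_⟩
    have h1 : ∀ a : A, ψ.hom (AdjoinRoot.of p a) = a := fun a => congrArg (fun f => f.hom a) hψ
    have h2 : Polynomial.eval₂ (AdjoinRoot.of p) (AdjoinRoot.root p) p = 0 :=
      AdjoinRoot.eval₂_root p
    have h3 := congrArg ψ.hom h2
    rw [Polynomial.hom_eval₂, map_zero] at h3
    have h4 : ψ.hom.comp (AdjoinRoot.of p) = RingHom.id A := RingHom.ext h1
    rw [h4, Polynomial.eval₂_id] at h3
    exact h3
  · intro x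
    refine ⟨PUnit.unit, ?_⟩
    have hfin : (AdjoinRoot.of p).Finite := by
      rw [← AdjoinRoot.algebraMap_eq, RingHom.finite_algebraMap]
      exact hp.finite_adjoinRoot
    have hint : (AdjoinRoot.of p).IsIntegral := hfin.to_isIntegral
    have hinj : Function.Injective (AdjoinRoot.of p) :=
      AdjoinRoot.of.injective_of_degree_ne_zero (by
        rw [Polynomial.degree_eq_natDegree hp.ne_zero]
        exact_mod_cast hdeg.ne')
    exact hint.comap_surjective hinj x
  · intro _
    rw [IsFinite.SpecMap_iff]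
    change (AdjoinRoot.of p).Finite
    rw [← AdjoinRoot.algebraMap_eq, RingHom.finite_algebraMap]
    exact hp.finite_adjoinRoot

end Forward

section Backward

theorem mem_range_of_isIntegral_of_isAIC {A D : Type*} [CommRing A] [CommRing D] [IsDomain D]
    [Algebra A D] (haic : Curves.IsAIC A) (d : D) (hd : IsIntegral A d) :
    d ∈ (algebraMap A D).range := by
  haveI : Nontrivial A := (algebraMap A D).domain_nontrivial
  obtain ⟨p, hp, hpd⟩ := hd
  induction hn : p.natDegree generalizing p with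
  | zero =>
    have h1 : p = 1 := Polynomial.eq_one_of_monic_natDegree_zero hp hn
    rw [h1, Polynomial.eval₂_one] at hpd
    exact absurd hpd one_ne_zero
  | succ n ih =>
    obtain ⟨r, hr⟩ := haic p hp (by omega)
    have hdvd : Polynomial.X - Polynomial.C r ∣ p := Polynomial.dvd_iff_isRoot.mpr hr
    obtain ⟨q, hq⟩ := hdvd
    have hqm : q.Monic := (Polynomial.monic_X_sub_C r).of_mul_monic_left (hq ▸ hp)
    have hqdeg : q.natDegree = n := by
      have h2 := Polynomial.Monic.natDegree_mul (Polynomial.monic_X_sub_C r) hqm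
      rw [← hq, hn, Polynomial.natDegree_X_sub_C] at h2
      omega
    rw [hq, Polynomial.eval₂_mul, Polynomial.eval₂_sub, Polynomial.eval₂_X,
      Polynomial.eval₂_C] at hpd
    rcases mul_eq_zero.mp hpd with h | h
    · exact ⟨r, (sub_eq_zero.mp h).symm⟩
    · exact ih q hqm h hqdeg

theorem localFor_zariski_of_isLocalRing {P : Scheme.{u}} [IsAffine P] [IsLocalRing Γ(P, ⊤)] :
    LocalFor (@IsOpenImmersion ⊓ @QuasiCompact) P := by
  intro X R hR g
  let p₀ : P := P.isoSpec.inv (IsLocalRing.closedPoint Γ(P, ⊤))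
  obtain ⟨Y, w, hw, hQ, hx⟩ := exists_of_mem_precoverage hR (g p₀)
  haveI : IsOpenImmersion w := hQ.1
  have hsub : Set.range g ⊆ Set.range w := by
    rintro _ ⟨p, rfl⟩
    have hsp : p ⤳ p₀ := by
      have h1 := (IsLocalRing.specializes_closedPoint (P.isoSpec.hom p)).map
        P.isoSpec.inv.continuous
      have h2 : P.isoSpec.inv (P.isoSpec.hom p) = p := by
        rw [← Scheme.Hom.comp_apply, Iso.hom_inv_id]
        rfl
      rw [h2] at h1
      exact h1
    exact (hsp.map g.continuous).mem_open w.isOpenEmbedding.isOpen_range hx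
  exact ⟨Y, w, IsOpenImmersion.lift w g hsub, hw, IsOpenImmersion.lift_fac w g hsub⟩

theorem localFor_finite_Spec {A : CommRingCat.{u}} [IsDomain A] (haic : Curves.IsAIC A) :
    LocalFor @IsFinite (Spec A) := by
  intro X R hR g
  let η : Spec A := ⟨⊥, Ideal.isPrime_bot⟩
  obtain ⟨Y, w, hw, hfin, y, hy⟩ := exists_of_mem_precoverage hR (g η)
  haveI : IsFinite w := hfin
  obtain ⟨z, -, hz⟩ := Scheme.Pullback.exists_preimage_pullback y η hy
  haveI : IsAffine (Limits.pullback w g) := isAffine_of_isAffineHom (Limits.pullback.snd w g)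
  let B : CommRingCat.{u} := Γ(Limits.pullback w g, ⊤)
  let e' : Limits.pullback w g ≅ Spec B := (Limits.pullback w g).isoSpec
  let s : Spec B ⟶ Spec A := e'.inv ≫ Limits.pullback.snd w g
  let φ : A ⟶ B := Spec.preimage s
  have hφ : Spec.map φ = s := Spec.map_preimage s
  have hfinφ : φ.hom.Finite := by
    rw [← IsFinite.SpecMap_iff, hφ]
    infer_instance
  let z' : Spec B := e'.hom z
  have hz' : Spec.map φ z' = η := by
    rw [hφ]
    change (e'.inv ≫ Limits.pullback.snd w g) (e'.hom z) = η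
    rw [← Scheme.Hom.comp_apply, Iso.hom_inv_id_assoc]
    exact hz
  have hcomap : z'.asIdeal.comap φ.hom = ⊥ := by
    have := congrArg PrimeSpectrum.asIdeal hz'
    exact this
  letI : Algebra A (B ⧸ z'.asIdeal) := ((Ideal.Quotient.mk z'.asIdeal).comp φ.hom).toAlgebra
  haveI : IsDomain (B ⧸ z'.asIdeal) := Ideal.Quotient.isDomain _
  have hinj : Function.Injective (algebraMap A (B ⧸ z'.asIdeal)) := by
    rw [injective_iff_map_eq_zero]
    intro a ha
    have h1 : φ.hom a ∈ z'.asIdeal := Ideal.Quotient.eq_zero_iff_mem.mp ha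
    have h2 : a ∈ z'.asIdeal.comap φ.hom := h1
    rw [hcomap] at h2
    exact h2
  have hsurj : Function.Surjective (algebraMap A (B ⧸ z'.asIdeal)) := by
    intro d
    obtain ⟨b, rfl⟩ := Ideal.Quotient.mk_surjective d
    have hb : φ.hom.IsIntegralElem b := hfinφ.to_isIntegral b
    have hd : IsIntegral A (Ideal.Quotient.mk z'.asIdeal b) := by
      obtain ⟨p, hp1, hp2⟩ := hb
      refine ⟨p, hp1, ?_⟩
      have h3 := congrArg (Ideal.Quotient.mk z'.asIdeal) hp2
      rw [Polynomial.hom_eval₂, map_zero] at h3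
      exact h3
    exact mem_range_of_isIntegral_of_isAIC haic _ hd
  let ρ : A ≃+* (B ⧸ z'.asIdeal) := RingEquiv.ofBijective _ ⟨hinj, hsurj⟩
  let ψ : B ⟶ A := CommRingCat.ofHom (ρ.symm.toRingHom.comp (Ideal.Quotient.mk z'.asIdeal))
  have hψ : φ ≫ ψ = 𝟙 A := by
    ext a
    change ρ.symm (Ideal.Quotient.mk z'.asIdeal (φ.hom a)) = a
    exact ρ.symm_apply_apply a
  refine ⟨Y, w, Spec.map ψ ≫ e'.inv ≫ Limits.pullback.fst w g, hw, ?_⟩
  rw [Category.assoc, Category.assoc, Limits.pullback.condition]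
  have h5 : e'.inv ≫ Limits.pullback.snd w g = Spec.map φ := hφ.symm
  rw [reassoc_of% h5, ← Spec.map_comp_assoc, hψ, Spec.map_id, Category.id_comp]

end Backward

end Groth.Agent.Lib.T2H3.AICLocal
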