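import Mathlib
import Groth.Prelude.Def_Magnet3
import Groth.Agent.Lib.Helper27GaGm

/-!
# Points of the diagonalizable monoid schemes `A(N)_S`

For `X : Over S`, a point `x : X ⟶ A(N)_S` and `n : N`, `aFn n x ∈ Γ(X, O_X)` is the pull-back of the
monomial `Xⁿ`.  It is multiplicative in `x`, natural in `X`, compatible with `AMonS.map`.  For the
submonoid `ℕ = multiples 1 ⊆ ℤ` the function `x ↦ aFn 1 x` identifies `Hom(X, A(ℕ)_S)` with
`Γ(X, O_X)` (`A(ℕ)_S` is the affine line with its multiplication).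
-/

set_option autoImplicit false
set_option linter.style.haveILetI false
universe u v

open CategoryTheory CategoryTheory.Limits MonoidalCategory CartesianMonoidalCategory MonObj
  AlgebraicGeometry Opposite

namespace Groth.Agent.Lib.T2H3.AMonPts

open Magnet Groth.Agent.Lib.Helper27.GaGm

section Adj

variable {S Z : Scheme.{u}} (f : S ⟶ Z) (G : Over Z) [MonObj G] (X : Over S)

/-- the adjunction bijection `Hom_S(X, f^* G) ≃ Hom_Z(X, G)` for a monoid object `G`. -/
noncomputable def adjE : (X ⟶ Red.bc f G) ≃ ((Over.map f).obj X ⟶ G) :=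
  ((Over.mapPullbackAdj f).homEquiv X G).symm

omit [MonObj G] in
lemma adjE_left (x : X ⟶ Red.bc f G) :
    (adjE f G X x).left = x.left ≫ pullback.fst G.hom f := by
  rfl

lemma adjE_symm_mul (a b : (Over.map f).obj X ⟶ G) :
    (adjE f G X).symm (a * b) = (adjE f G X).symm a * (adjE f G X).symm b := by
  unfold adjE
  simp only [Equiv.symm_symm, Adjunction.homEquiv_unit]
  rw [Functor.map_mul, MonObj.comp_mul]

lemma adjE_symm_one : (adjE f G X).symm 1 = 1 := by
  unfold adjE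
  simp only [Equiv.symm_symm, Adjunction.homEquiv_unit]
  rw [Functor.map_one, MonObj.comp_one]

lemma adjE_mul (x y : X ⟶ Red.bc f G) :
    adjE f G X (x * y) = adjE f G X x * adjE f G X y := by
  apply (adjE f G X).symm.injective
  rw [adjE_symm_mul]
  simp

lemma adjE_one : adjE f G X 1 = 1 := by
  apply (adjE f G X).symm.injective
  rw [adjE_symm_one]
  simp

end Adj

variable {S : Scheme.{u}} {N : Type} [AddCommMonoid N]

/-- the monomial `Xⁿ` pulled back along a point of `A(N)_S`. -/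
noncomputable def aFn (n : N) {X : Over S} (x : X ⟶ AMonS S N) : Γ(X.left, ⊤) :=
  fn (x.left ≫ pullback.fst _ _) (MonoidAlgebra.single (Multiplicative.ofAdd n) (1 : ULift.{u} ℤ))

lemma aFn_eq_adjE (n : N) {X : Over S} (x : X ⟶ AMonS S N) :
    aFn n x = fn (adjE (Limits.IsTerminal.from specULiftZIsTerminal S)
      (AMon (ULift.{u} ℤ) N) X x).left
      (MonoidAlgebra.single (Multiplicative.ofAdd n) (1 : ULift.{u} ℤ)) := rfl

theorem aFn_comp (n : N) {X X' : Over S} (g : X' ⟶ X) (x : X ⟶ AMonS S N) :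
    aFn n (g ≫ x) = g.left.appTop (aFn n x) := by
  unfold aFn
  rw [Over.comp_left, Category.assoc, fn_comp]

theorem aFn_mul (n : N) {X : Over S} (x y : X ⟶ AMonS S N) :
    aFn n (x * y) = aFn n x * aFn n y := by
  rw [aFn_eq_adjE, aFn_eq_adjE, aFn_eq_adjE, adjE_mul]
  refine fn_mul_left_of_grouplike _ _ _ ?_
  simp

theorem aFn_one (n : N) {X : Over S} : aFn n (1 : X ⟶ AMonS S N) = 1 := by
  have key : ∀ (y : ((Over.map (Limits.IsTerminal.from specULiftZIsTerminal S)).obj X).left ⟶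
      Spec (CommRingCat.of (ULift.{u} ℤ))),
      fn (y ≫ Spec.map (CommRingCat.ofHom ((Bialgebra.counitAlgHom (ULift.{u} ℤ)
        (MonoidAlgebra (ULift.{u} ℤ) (Multiplicative N))) : _ →+* _)))
        (MonoidAlgebra.single (Multiplicative.ofAdd n) (1 : ULift.{u} ℤ)) = 1 := by
    intro y
    rw [fn_specMap]
    have : ((Bialgebra.counitAlgHom (ULift.{u} ℤ)
        (MonoidAlgebra (ULift.{u} ℤ) (Multiplicative N))) :
          MonoidAlgebra (ULift.{u} ℤ) (Multiplicative N) →+* ULift.{u} ℤ)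
        (MonoidAlgebra.single (Multiplicative.ofAdd n) (1 : ULift.{u} ℤ)) = 1 := by
      change Coalgebra.counit (R := ULift.{u} ℤ)
        (MonoidAlgebra.single (Multiplicative.ofAdd n) (1 : ULift.{u} ℤ)) = 1
      rw [MonoidAlgebra.counit_single]
      rfl
    rw [this, fn_eq, map_one]
  rw [aFn_eq_adjE, adjE_one, Hom.one_def, Over.comp_left, one_spec_asOver_spec_left]
  exact key _

theorem aFn_pow (n : N) {X : Over S} (x : X ⟶ AMonS S N) (k : ℕ) :
    aFn n (x ^ k) = aFn n x ^ k := by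
  induction k with
  | zero => rw [pow_zero, pow_zero, aFn_one]
  | succ k ih => rw [pow_succ, pow_succ, aFn_mul, ih]

theorem aFn_map {N' : Type} [AddCommMonoid N'] (φ : N →+ N') (n : N) {X : Over S}
    (x : X ⟶ AMonS S N') : aFn n (x ≫ AMonS.map S φ) = aFn (φ n) x := by
  have key : ∀ (y : X.left ⟶ Spec (CommRingCat.of (MonoidAlgebra (ULift.{u} ℤ) (Multiplicative N')))),
      fn (y ≫ Spec.map (CommRingCat.ofHom
        (MonoidAlgebra.mapDomainBialgHom (ULift.{u} ℤ)
          (AddMonoidHom.toMultiplicative φ)).toAlgHom.toRingHom))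
      (MonoidAlgebra.single (Multiplicative.ofAdd n) (1 : ULift.{u} ℤ)) =
      fn y (MonoidAlgebra.single (Multiplicative.ofAdd (φ n)) (1 : ULift.{u} ℤ)) := by
    intro y
    rw [fn_specMap]
    congr 1
    exact MonoidAlgebra.mapDomainBialgHom_single _ _ _
  have h1 : (x ≫ AMonS.map S φ).left ≫ pullback.fst (AMon (ULift.{u} ℤ) N).hom _ =
      (x.left ≫ pullback.fst (AMon (ULift.{u} ℤ) N').hom _) ≫ (AMon.map (ULift.{u} ℤ) φ).left := by
    rw [Over.comp_left, Category.assoc, Category.assoc]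
    congr 1
    exact pullback.lift_fst _ _ _
  have h2 : aFn n (x ≫ AMonS.map S φ) = fn ((x.left ≫ pullback.fst (AMon (ULift.{u} ℤ) N').hom _) ≫
      Spec.map (CommRingCat.ofHom
        (MonoidAlgebra.mapDomainBialgHom (ULift.{u} ℤ)
          (AddMonoidHom.toMultiplicative φ)).toAlgHom.toRingHom))
      (MonoidAlgebra.single (Multiplicative.ofAdd n) (1 : ULift.{u} ℤ)) :=
    congrArg (fun k => fn k (MonoidAlgebra.single (Multiplicative.ofAdd n) (1 : ULift.{u} ℤ))) h1
  rw [h2]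
  exact key _


/-! ### The affine line `A(ℕ)_S`, `ℕ = multiples 1 ⊆ ℤ` -/

section Nat

/-- the submonoid `ℕ = multiples 1` of `ℤ`. -/
abbrev N₁ : AddSubmonoid ℤ := AddSubmonoid.multiples (1 : ℤ)

/-- the generator `1` of `N₁`. -/
def n₀ : ↥N₁ := ⟨1, AddSubmonoid.mem_multiples 1⟩

lemma n1_nonneg (x : ↥N₁) : (0 : ℤ) ≤ (x : ℤ) := by
  obtain ⟨k, hk⟩ := (AddSubmonoid.mem_multiples_iff _ _).mp x.2
  rw [← hk]
  simp

lemma n1_eq_nsmul (x : ↥N₁) : x = ((x : ℤ).toNat) • n₀ := by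
  apply Subtype.ext
  rw [AddSubmonoidClass.coe_nsmul]
  simp only [n₀, nsmul_eq_mul]
  rw [_root_.mul_one]
  exact (Int.toNat_of_nonneg (n1_nonneg x)).symm

variable {B : Type v} [CommRing B]

lemma monalgN_ringHom_ext (φ ψ : MonoidAlgebra (ULift.{u} ℤ) (Multiplicative ↥N₁) →+* B)
    (h : φ (MonoidAlgebra.single (Multiplicative.ofAdd n₀) 1) =
      ψ (MonoidAlgebra.single (Multiplicative.ofAdd n₀) 1)) : φ = ψ := by
  apply MonoidAlgebra.ringHom_ext'
  · exact ulift_int_ringHom_ext _ _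
  · refine MonoidHom.ext fun x => ?_
    have hx : x = (Multiplicative.ofAdd n₀) ^ (((Multiplicative.toAdd x : ↥N₁) : ℤ).toNat) := by
      conv_lhs => rw [← ofAdd_toAdd x, n1_eq_nsmul (Multiplicative.toAdd x)]
      rfl
    rw [hx, map_pow, map_pow]
    congr 1

/-- the monoid hom `ℕ → B`, `k ↦ b ^ k`, on `Multiplicative N₁`. -/
def powHom (b : B) : Multiplicative ↥N₁ →* B where
  toFun x := b ^ (((Multiplicative.toAdd x : ↥N₁) : ℤ).toNat)
  map_one' := by simp
  map_mul' x y := by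
    rw [← pow_add]
    congr 1
    rw [toAdd_mul, AddSubmonoid.coe_add]
    exact Int.toNat_add (n1_nonneg _) (n1_nonneg _)

lemma monalgN_ringHom_exists (b : B) :
    ∃ φ : MonoidAlgebra (ULift.{u} ℤ) (Multiplicative ↥N₁) →+* B,
      φ (MonoidAlgebra.single (Multiplicative.ofAdd n₀) 1) = b := by
  let _ : Algebra (ULift.{u} ℤ) B := ULift.algebra' ℤ B
  refine ⟨(MonoidAlgebra.lift (ULift.{u} ℤ) B (Multiplicative ↥N₁) (powHom b)).toRingHom, ?_⟩
  simp only [AlgHom.toRingHom_eq_coe, RingHom.coe_coe, MonoidAlgebra.lift_single]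
  rw [Algebra.smul_def, ULift.algebraMap_apply']
  simp [powHom, n₀]

variable {S : Scheme.{u}}

/-- the underlying morphism to `Spec ℤ[ℕ]` of a point of `A(ℕ)_S`. -/
noncomputable def aPt {X : Over S} (x : X ⟶ AMonS S ↥N₁) :
    X.left ⟶ Spec (CommRingCat.of (MonoidAlgebra (ULift.{u} ℤ) (Multiplicative ↥N₁))) :=
  x.left ≫ pullback.fst _ _

lemma aFn_eq_fn_aPt {X : Over S} (x : X ⟶ AMonS S ↥N₁) :
    aFn n₀ x = fn (aPt x) (MonoidAlgebra.single (Multiplicative.ofAdd n₀) 1) := rfl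

theorem aFn_injective {X : Over S} :
    Function.Injective (aFn n₀ : (X ⟶ AMonS S ↥N₁) → Γ(X.left, ⊤)) := by
  intro x y h
  rw [aFn_eq_fn_aPt, aFn_eq_fn_aPt] at h
  have h2 : aPt x = aPt y := by
    apply fn_ext
    intro a
    exact congrArg (fun k : _ →+* _ => k a)
      (monalgN_ringHom_ext (fnHom (aPt x)) (fnHom (aPt y)) h)
  apply (adjE (Limits.IsTerminal.from specULiftZIsTerminal S)
    (AMon (ULift.{u} ℤ) ↥N₁) X).injective
  apply Over.OverMorphism.ext
  exact h2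

theorem aFn_surjective {X : Over S} :
    Function.Surjective (aFn n₀ : (X ⟶ AMonS S ↥N₁) → Γ(X.left, ⊤)) := by
  intro b
  obtain ⟨φ, hφ⟩ := monalgN_ringHom_exists.{u} b
  obtain ⟨y', hy'⟩ := fn_surj φ
  refine ⟨(adjE (Limits.IsTerminal.from specULiftZIsTerminal S)
    (AMon (ULift.{u} ℤ) ↥N₁) X).symm
    (Over.homMk y' (specULiftZIsTerminal.hom_ext _ _)), ?_⟩
  rw [aFn_eq_adjE, Equiv.apply_symm_apply]
  exact (hy' _).trans hφ

/-- `Hom(X, A(ℕ)_S) ≃ Γ(X)`. -/
noncomputable def aEquiv (X : Over S) : (X ⟶ AMonS S ↥N₁) ≃ Γ(X.left, ⊤) :=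
  Equiv.ofBijective (aFn n₀) ⟨aFn_injective, aFn_surjective⟩

@[simp] lemma aEquiv_apply {X : Over S} (x : X ⟶ AMonS S ↥N₁) : aEquiv X x = aFn n₀ x := rfl

@[simp] lemma aFn_aEquiv_symm {X : Over S} (b : Γ(X.left, ⊤)) :
    aFn n₀ ((aEquiv X).symm b) = b := (aEquiv X).apply_symm_apply b

/-- the coordinate of the image in `A(ℕ)_S` of a point of `𝔾_m = A(ℤ)_S`. -/
theorem aFn_map_subtype {X : Over S} (g : X ⟶ AMonS S ℤ) :
    aFn n₀ (g ≫ AMonS.map S N₁.subtype) = Red.gmFn (show X ⟶ Red.Gm S from g) := by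
  rw [aFn_map]
  rfl

end Nat

end Groth.Agent.Lib.T2H3.AMonPts
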