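import Mathlib
import Groth.Prelude.Def_Magnet3
import Groth.Agent.Lib.Helper27GaGm
import Groth.Agent.Lib.T2H3AMonPts

/-!
# `A(⨆ N_i)_S` is the limit of the `A(N_i)_S` for a directed family of submonoids

* `ptsHom`: a point `x : X ⟶ A(N)_S` is the same as a monoid homomorphism `N ⟶ Γ(X, O_X)`
  (`ptsHom_injective`, `ptsHom_surjective`);
* `existsUnique_glue`: compatible points of the `A(N_i)_S` glue uniquely to a point of
  `A(⨆ N_i)_S`;
* `limCone`, `isLimitLimCone`: `A(⨆ N_i)_S ⊗ T = lim A(N_i)_S ⊗ T` in `Over S`, and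
  `isLimitForget` in schemes.
-/

set_option autoImplicit false
set_option linter.style.haveILetI false
universe u

open CategoryTheory CategoryTheory.Limits MonoidalCategory CartesianMonoidalCategory MonObj
  AlgebraicGeometry Opposite

namespace Groth.Agent.Lib.T2H3.AMonLim

open Magnet Groth.Agent.Lib.Helper27.GaGm Groth.Agent.Lib.T2H3.AMonPts

section Pts

variable {S : Scheme.{u}} {N : Type} [AddCommMonoid N]

/-- the monoid homomorphism `N ⟶ Γ(X)` of a point of `A(N)_S`. -/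
noncomputable def ptsHom {X : Over S} (x : X ⟶ AMonS S N) : Multiplicative N →* Γ(X.left, ⊤) :=
  ((fnHom (x.left ≫ pullback.fst (AMon (ULift.{u} ℤ) N).hom _)) : _ →* _).comp
    (MonoidAlgebra.of (ULift.{u} ℤ) (Multiplicative N))

lemma ptsHom_apply {X : Over S} (x : X ⟶ AMonS S N) (n : N) :
    ptsHom x (Multiplicative.ofAdd n) = aFn n x := rfl

lemma aFn_zero {X : Over S} (x : X ⟶ AMonS S N) : aFn (0 : N) x = 1 := by
  rw [← ptsHom_apply]
  exact map_one (ptsHom x)

lemma aFn_add {X : Over S} (x : X ⟶ AMonS S N) (n n' : N) :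
    aFn (n + n') x = aFn n x * aFn n' x := by
  rw [← ptsHom_apply, ← ptsHom_apply, ← ptsHom_apply, ofAdd_add, map_mul]

theorem ptsHom_injective {X : Over S} :
    Function.Injective (ptsHom : (X ⟶ AMonS S N) → _) := by
  intro x y h
  have h2 : x.left ≫ pullback.fst (AMon (ULift.{u} ℤ) N).hom _ =
      y.left ≫ pullback.fst (AMon (ULift.{u} ℤ) N).hom _ := by
    apply fn_ext
    intro a
    have h3 : fnHom (x.left ≫ pullback.fst (AMon (ULift.{u} ℤ) N).hom _) =
        fnHom (y.left ≫ pullback.fst (AMon (ULift.{u} ℤ) N).hom _) := by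
      apply MonoidAlgebra.ringHom_ext'
      · exact ulift_int_ringHom_ext _ _
      · exact h
    exact congrArg (fun k : _ →+* _ => k a) h3
  apply (adjE (Limits.IsTerminal.from specULiftZIsTerminal S)
    (AMon (ULift.{u} ℤ) N) X).injective
  apply Over.OverMorphism.ext
  exact h2

theorem ptsHom_surjective {X : Over S} :
    Function.Surjective (ptsHom : (X ⟶ AMonS S N) → _) := by
  intro χ
  let _ : Algebra (ULift.{u} ℤ) Γ(X.left, ⊤) := ULift.algebra' ℤ _
  let φ : MonoidAlgebra (ULift.{u} ℤ) (Multiplicative N) →+* Γ(X.left, ⊤) :=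
    (MonoidAlgebra.lift (ULift.{u} ℤ) Γ(X.left, ⊤) (Multiplicative N) χ).toRingHom
  have hφ : ∀ m, φ (MonoidAlgebra.single m 1) = χ m := by
    intro m
    simp only [φ, AlgHom.toRingHom_eq_coe, RingHom.coe_coe, MonoidAlgebra.lift_single, one_smul]
  obtain ⟨y', hy'⟩ := fn_surj φ
  refine ⟨(adjE (Limits.IsTerminal.from specULiftZIsTerminal S)
    (AMon (ULift.{u} ℤ) N) X).symm
    (Over.homMk y' (specULiftZIsTerminal.hom_ext _ _)), ?_⟩
  apply MonoidHom.ext
  intro m
  rw [← ofAdd_toAdd m, ptsHom_apply, aFn_eq_adjE, Equiv.apply_symm_apply]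
  exact (hy' _).trans (hφ _)

end Pts

section Glue

variable {S : Scheme.{u}} {M : Type} [AddCommMonoid M] {J : Type} [Preorder J]
  [IsDirected J (· ≤ ·)] [Nonempty J] (N : J → AddSubmonoid M) (hN : Monotone N)

include hN in
/-- compatible points of the `A(N_i)_S` glue uniquely to a point of `A(⨆ N_i)_S`. -/
theorem existsUnique_glue {X : Over S} (x : ∀ i, X ⟶ AMonS S ↥(N i))
    (hx : ∀ i j (hij : i ≤ j),
      x j ≫ AMonS.map S (AddSubmonoid.inclusion (hN hij)) = x i) :
    ∃! y : X ⟶ AMonS S ↥(⨆ i, N i),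
      ∀ i, y ≫ AMonS.map S (AddSubmonoid.inclusion (le_iSup N i)) = x i := by
  have dir : Directed (· ≤ ·) N := hN.directed_le
  have compat : ∀ (i j : J) (n : M) (hi : n ∈ (N i : Set M)) (hj : n ∈ (N j : Set M)),
      aFn (⟨n, hi⟩ : ↥(N i)) (x i) = aFn (⟨n, hj⟩ : ↥(N j)) (x j) := by
    intro i j n hi hj
    obtain ⟨k, hik, hjk⟩ := directed_of (· ≤ ·) i j
    rw [← hx i k hik, ← hx j k hjk, aFn_map, aFn_map]
    rfl
  let F : ↥(⨆ i, N i) → Γ(X.left, ⊤) :=
    Set.iUnionLift (fun i => (N i : Set M)) (fun i n => aFn (⟨n.1, n.2⟩ : ↥(N i)) (x i)) compat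
      ((⨆ i, N i : AddSubmonoid M) : Set M)
      (le_of_eq (AddSubmonoid.coe_iSup_of_directed dir))
  have hF : ∀ (i : J) (n : M) (hn : n ∈ N i) (h' : n ∈ ⨆ i, N i),
      F ⟨n, h'⟩ = aFn (⟨n, hn⟩ : ↥(N i)) (x i) := by
    intro i n hn h'
    exact Set.iUnionLift_mk (S := fun i => (N i : Set M)) (⟨n, hn⟩ : (N i : Set M)) h'
  let χ : Multiplicative ↥(⨆ i, N i) →* Γ(X.left, ⊤) :=
    { toFun := fun m => F (Multiplicative.toAdd m)
      map_one' := by
        obtain ⟨i⟩ := ‹Nonempty J›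
        have h0 : F (0 : ↥(⨆ i, N i)) = aFn (⟨0, (N i).zero_mem⟩ : ↥(N i)) (x i) :=
          hF i 0 (N i).zero_mem _
        change F 0 = 1
        rw [h0]
        exact aFn_zero (x i)
      map_mul' := by
        intro m m'
        obtain ⟨⟨n, hn⟩, rfl⟩ : ∃ a, m = Multiplicative.ofAdd a := ⟨Multiplicative.toAdd m, rfl⟩
        obtain ⟨⟨n', hn'⟩, rfl⟩ : ∃ a, m' = Multiplicative.ofAdd a :=
          ⟨Multiplicative.toAdd m', rfl⟩
        obtain ⟨i, hi⟩ := (AddSubmonoid.mem_iSup_of_directed dir).mp hn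
        obtain ⟨j, hj⟩ := (AddSubmonoid.mem_iSup_of_directed dir).mp hn'
        obtain ⟨k, hik, hjk⟩ := directed_of (· ≤ ·) i j
        have hk : n ∈ N k := hN hik hi
        have hk' : n' ∈ N k := hN hjk hj
        change F (⟨n, hn⟩ + ⟨n', hn'⟩) = F ⟨n, hn⟩ * F ⟨n', hn'⟩
        rw [hF k n hk, hF k n' hk']
        have h3 : F (⟨n, hn⟩ + ⟨n', hn'⟩) =
            aFn (⟨n + n', (N k).add_mem hk hk'⟩ : ↥(N k)) (x k) :=
          hF k (n + n') ((N k).add_mem hk hk') _
        rw [h3]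
        exact aFn_add (x k) ⟨n, hk⟩ ⟨n', hk'⟩ }
  have hχ : ∀ (i : J) (n : M) (hn : n ∈ N i) (h' : n ∈ ⨆ i, N i),
      χ (Multiplicative.ofAdd ⟨n, h'⟩) = aFn (⟨n, hn⟩ : ↥(N i)) (x i) := hF
  obtain ⟨y, hy⟩ := ptsHom_surjective (X := X) χ
  have hy' : ∀ (n : ↥(⨆ i, N i)), aFn n y = χ (Multiplicative.ofAdd n) := by
    intro n
    rw [← ptsHom_apply, hy]
  refine ⟨y, ?_, ?_⟩
  · intro i
    apply ptsHom_injective
    apply MonoidHom.ext
    intro m
    obtain ⟨⟨n, hn⟩, rfl⟩ : ∃ a, m = Multiplicative.ofAdd a := ⟨Multiplicative.toAdd m, rfl⟩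
    rw [ptsHom_apply, ptsHom_apply, aFn_map, hy']
    exact hχ i n hn _
  · intro z hz
    apply ptsHom_injective
    apply MonoidHom.ext
    intro m
    obtain ⟨⟨n, hn⟩, rfl⟩ : ∃ a, m = Multiplicative.ofAdd a := ⟨Multiplicative.toAdd m, rfl⟩
    obtain ⟨i, hi⟩ := (AddSubmonoid.mem_iSup_of_directed dir).mp hn
    rw [ptsHom_apply, ptsHom_apply, hy', hχ i n hi, ← hz i, aFn_map]
    rfl

end Glue

section Lim

variable {S : Scheme.{u}}

lemma AMon_map_id (R : Type u) [CommRing R] (N' : Type) [AddCommMonoid N'] :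
    AMon.map R (AddMonoidHom.id N') = 𝟙 _ := by
  ext : 1
  rw [AMon.map_left]
  change Spec.map _ = 𝟙 _
  rw [← Spec.map_id]
  congr 1
  rw [← CommRingCat.ofHom_id]
  congr 1
  apply MonoidAlgebra.ringHom_ext
  · intro r; simp
  · intro m; simp

lemma AMonS_map_id (N' : Type) [AddCommMonoid N'] :
    AMonS.map S (AddMonoidHom.id N') = 𝟙 _ := by
  rw [AMonS.map, AMon_map_id]
  exact CategoryTheory.Functor.map_id _ _

variable {M : Type} [AddCommMonoid M] {J : Type} [Preorder J]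
  [IsDirected J (· ≤ ·)] [Nonempty J] (N : J → AddSubmonoid M) (hN : Monotone N) (T : Over S)

instance isDirected_ulift : IsDirected (ULift.{u} J) (· ≤ ·) :=
  ⟨fun a b => by
    obtain ⟨c, hac, hbc⟩ := directed_of (· ≤ ·) a.down b.down
    exact ⟨⟨c⟩, hac, hbc⟩⟩

omit [IsDirected J (· ≤ ·)] [Nonempty J] in
lemma leDown {i j : (ULift.{u} J)ᵒᵖ} (f : i ⟶ j) : j.unop.down ≤ i.unop.down :=
  (leOfHom f.unop : j.unop ≤ i.unop)

/-- the diagram `i ↦ A(N_i)_S ⊗ T`. -/
@[reducible] noncomputable def diag : (ULift.{u} J)ᵒᵖ ⥤ Over S where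
  obj i := AMonS S ↥(N i.unop.down) ⊗ T
  map {i j} f := AMonS.map S (AddSubmonoid.inclusion (hN (leDown f))) ▷ T
  map_id i := by
    have h : AddSubmonoid.inclusion (hN (leDown (𝟙 i : i ⟶ i))) = AddMonoidHom.id _ := rfl
    rw [h, AMonS_map_id, id_whiskerRight]
  map_comp {i j k} f g := by
    rw [← comp_whiskerRight, ← AMonS.map_comp]
    rfl

/-- the cone with apex `A(⨆ N_i)_S ⊗ T`. -/
@[reducible] noncomputable def limCone : Cone (diag N hN T) where
  pt := AMonS S ↥(⨆ i, N i) ⊗ T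
  π :=
    { app := fun i => AMonS.map S (AddSubmonoid.inclusion (le_iSup N i.unop.down)) ▷ T
      naturality := fun i j f => by
        simp only [Functor.const_obj_obj, Functor.const_obj_map, Category.id_comp]
        change _ = _ ≫ (AMonS.map S _ ▷ T)
        rw [← comp_whiskerRight, ← AMonS.map_comp]
        rfl }

omit [IsDirected J (· ≤ ·)] [Nonempty J] in
lemma limCone_π_app (i : (ULift.{u} J)ᵒᵖ) :
    (limCone N hN T).π.app i =
      AMonS.map S (AddSubmonoid.inclusion (le_iSup N i.unop.down)) ▷ T := rfl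

/-- `A(⨆ N_i)_S ⊗ T` is the limit of the `A(N_i)_S ⊗ T` in `Over S`. -/
noncomputable def isLimitLimCone : IsLimit (limCone N hN T) := by
  refine IsLimit.ofExistsUnique fun s => ?_
  let x : ∀ i : J, s.pt ⟶ AMonS S ↥(N i) := fun i => s.π.app (op ⟨i⟩) ≫ fst _ _
  have hs : ∀ (i j : J) (hij : i ≤ j),
      s.π.app (op ⟨j⟩) ≫ (AMonS.map S (AddSubmonoid.inclusion (hN hij)) ▷ T) =
        s.π.app (op ⟨i⟩) := by
    intro i j hij
    exact s.w (homOfLE (show (⟨i⟩ : ULift.{u} J) ≤ ⟨j⟩ from hij)).op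
  have hx : ∀ i j (hij : i ≤ j),
      x j ≫ AMonS.map S (AddSubmonoid.inclusion (hN hij)) = x i := by
    intro i j hij
    change (s.π.app (op ⟨j⟩) ≫ fst _ _) ≫ _ = s.π.app (op ⟨i⟩) ≫ fst _ _
    rw [Category.assoc, ← whiskerRight_fst, ← Category.assoc, hs i j hij]
  obtain ⟨i₀⟩ := ‹Nonempty J›
  let t₀ : s.pt ⟶ T := s.π.app (op ⟨i₀⟩) ≫ snd _ _
  have ht : ∀ i : J, s.π.app (op ⟨i⟩) ≫ snd _ _ = t₀ := by
    intro i
    obtain ⟨k, hik, h0k⟩ := directed_of (· ≤ ·) i i₀
    change _ = s.π.app (op ⟨i₀⟩) ≫ snd _ _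
    rw [← hs i k hik, ← hs i₀ k h0k, Category.assoc, Category.assoc, whiskerRight_snd,
      whiskerRight_snd]
  obtain ⟨y, hy, hyu⟩ := existsUnique_glue N hN x hx
  refine ⟨lift y t₀, ?_, ?_⟩
  · intro j
    rw [limCone_π_app, lift_whiskerRight, hy j.unop.down]
    change lift (s.π.app j ≫ fst _ _) t₀ = s.π.app j
    rw [← ht j.unop.down]
    exact lift_comp_fst_snd _
  · intro l hl
    have h1 : l ≫ fst _ _ = y := by
      apply hyu
      intro i
      rw [Category.assoc, ← whiskerRight_fst, ← Category.assoc]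
      have := hl (op ⟨i⟩)
      rw [limCone_π_app] at this
      rw [this]
    have h2 : l ≫ snd _ _ = t₀ := by
      have := hl (op ⟨i₀⟩)
      rw [limCone_π_app] at this
      change _ = s.π.app (op ⟨i₀⟩) ≫ snd _ _
      rw [← this, Category.assoc, whiskerRight_snd]
    rw [← lift_comp_fst_snd l, h1, h2]

/-- the same limit in schemes. -/
noncomputable def isLimitForget :
    IsLimit ((Over.forget S).mapCone (limCone N hN T)) :=
  haveI := IsCofiltered.isConnected (ULift.{u} J)ᵒᵖ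
  isLimitOfPreserves (Over.forget S) (isLimitLimCone N hN T)

end Lim

section Factor

variable {S : Scheme.{u}} {M : Type} [AddCommMonoid M] {J : Type} [Preorder J]
  [IsDirected J (· ≤ ·)] [Nonempty J] (N : J → AddSubmonoid M) (hN : Monotone N) (T : Over S)

instance isAffineHom_AMonS_hom (N' : Type) [AddCommMonoid N'] : IsAffineHom (AMonS S N').hom := by
  haveI : IsAffine (AMon (ULift.{u} ℤ) N').left := inferInstanceAs (IsAffine (Spec _))
  haveI : IsAffineHom (AMon (ULift.{u} ℤ) N').hom := inferInstance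
  exact MorphismProperty.pullback_snd (P := @IsAffineHom) _ _ inferInstance

instance isAffine_tensor_left (N' : Type) [AddCommMonoid N'] [IsAffine T.left] :
    IsAffine (AMonS S N' ⊗ T).left := by
  change IsAffine (pullback (AMonS S N').hom T.hom)
  haveI : IsAffineHom (pullback.snd (AMonS S N').hom T.hom) :=
    MorphismProperty.pullback_snd (P := @IsAffineHom) _ _ inferInstance
  exact isAffine_of_isAffineHom (pullback.snd (AMonS S N').hom T.hom)

include hN in
/-- a morphism from `A(⨆ N_i)_S ⊗ T` (`T` affine) to an `S`-scheme locally of finite presentation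
factors through some `A(N_i)_S ⊗ T`. -/
theorem exists_factor [IsAffine T.left] (X : Over S) [LocallyOfFinitePresentation X.hom]
    (φ : AMonS S ↥(⨆ i, N i) ⊗ T ⟶ X) :
    ∃ (i : J) (ψ : AMonS S ↥(N i) ⊗ T ⟶ X),
      (AMonS.map S (AddSubmonoid.inclusion (le_iSup N i)) ▷ T) ≫ ψ = φ := by
  let D : (ULift.{u} J)ᵒᵖ ⥤ Scheme.{u} := diag N hN T ⋙ Over.forget S
  let t : D ⟶ (Functor.const _).obj S :=
    { app := fun i => ((diag N hN T).obj i).hom
      naturality := fun i j f => by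
        simp only [Functor.const_obj_obj, Functor.const_obj_map, Category.comp_id]
        exact Over.w ((diag N hN T).map f) }
  haveI hD : ∀ i, IsAffine (D.obj i) := fun i =>
    isAffine_tensor_left T ↥(N i.unop.down)
  haveI : ∀ {i j} (f : i ⟶ j), IsAffineHom (D.map f) := fun f => inferInstance
  have ha : ((Over.forget S).mapCone (limCone N hN T)).π ≫ t =
      (Functor.const _).map (φ.left ≫ X.hom) := by
    ext i
    simp only [NatTrans.comp_app, Functor.const_map_app]
    change ((limCone N hN T).π.app i).left ≫ ((diag N hN T).obj i).hom = φ.left ≫ X.hom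
    rw [Over.w, Over.w]
    rfl
  obtain ⟨i, g, hg1, hg2⟩ := Scheme.exists_π_app_comp_eq_of_locallyOfFinitePresentation D t X.hom
    ((Over.forget S).mapCone (limCone N hN T)) (isLimitForget N hN T) φ.left ha
  refine ⟨i.unop.down, Over.homMk g hg2, ?_⟩
  apply Over.OverMorphism.ext
  exact hg1

end Factor

end Groth.Agent.Lib.T2H3.AMonLim
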