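import Mathlib

/-!
# Algebra of the Artin–Schreier polynomial `X^p - X` over a ring of characteristic `p`
-/

set_option autoImplicit false
set_option linter.style.haveILetI false
universe u

namespace Groth.Agent.Lib.T2H3.ASAlg

open Polynomial

section ZModPoly

variable (p : ℕ) [Fact p.Prime]

theorem zmod_prod_X_sub_C : (∏ m : ZMod p, (X - C m) : (ZMod p)[X]) = X ^ p - X := by
  have hp : 1 < p := (Fact.out : p.Prime).one_lt
  have h1 := GaloisField.splits_zmod_X_pow_sub_X (p := p)
  have hm : (X ^ p - X : (ZMod p)[X]).Monic := by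
    apply monic_X_pow_sub
    rw [degree_X]
    exact_mod_cast hp
  have hr : roots (X ^ p - X : (ZMod p)[X]) = Finset.univ.val := by
    have := FiniteField.roots_X_pow_card_sub_X (ZMod p)
    rwa [ZMod.card] at this
  rw [h1.eq_prod_roots_of_monic hm, hr]
  rfl

end ZModPoly

section CharP

variable (p : ℕ) [Fact p.Prime] {R : Type*} [CommRing R]

theorem charP_of_natCast_eq_zero [Nontrivial R] (h : (p : R) = 0) : CharP R p :=
  (CharP.charP_iff_prime_eq_zero (Fact.out : p.Prime)).mpr h

/-- the canonical homomorphism `𝔽_p → R` for a ring of characteristic `p`. -/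
noncomputable def castH [CharP R p] : ZMod p →+* R := ZMod.castHom (dvd_refl p) R

theorem castH_apply [CharP R p] (m : ZMod p) : castH p m = ((m.val : ℕ) : R) := by
  unfold castH
  rw [ZMod.castHom_apply, ZMod.natCast_val]

variable {p}

/-- `∏_{m ∈ 𝔽_p} (γ - m) = γ^p - γ` in characteristic `p`. -/
theorem prod_sub_val (h : (p : R) = 0) (γ : R) :
    ∏ m : ZMod p, (γ - ((m.val : ℕ) : R)) = γ ^ p - γ := by
  rcases subsingleton_or_nontrivial R with hs | hn
  · exact Subsingleton.elim _ _
  · haveI := charP_of_natCast_eq_zero p h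
    have h1 := congrArg (eval₂ (castH p (R := R)) γ) (zmod_prod_X_sub_C p)
    rw [eval₂_finsetProd] at h1
    simp only [eval₂_sub, eval₂_X, eval₂_C, eval₂_pow, castH_apply] at h1
    exact h1

theorem add_pow_p (h : (p : R) = 0) (a b : R) : (a + b) ^ p = a ^ p + b ^ p := by
  rcases subsingleton_or_nontrivial R with hs | hn
  · exact Subsingleton.elim _ _
  · haveI := charP_of_natCast_eq_zero p h
    exact add_pow_char a b p

theorem sub_pow_p (h : (p : R) = 0) (a b : R) : (a - b) ^ p = a ^ p - b ^ p := by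
  rcases subsingleton_or_nontrivial R with hs | hn
  · exact Subsingleton.elim _ _
  · haveI := charP_of_natCast_eq_zero p h
    exact sub_pow_char a b

theorem val_pow_p (h : (p : R) = 0) (m : ZMod p) : ((m.val : ℕ) : R) ^ p = ((m.val : ℕ) : R) := by
  rcases subsingleton_or_nontrivial R with hs | hn
  · exact Subsingleton.elim _ _
  · haveI := charP_of_natCast_eq_zero p h
    rw [← castH_apply, ← map_pow, ZMod.pow_card]

theorem natCast_pow_p (h : (p : R) = 0) (n : ℕ) : (n : R) ^ p = (n : R) := by
  rcases subsingleton_or_nontrivial R with hs | hn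
  · exact Subsingleton.elim _ _
  · haveI := charP_of_natCast_eq_zero p h
    have := val_pow_p h (n : ZMod p)
    have h2 : (((n : ZMod p).val : ℕ) : R) = (n : R) := by
      rw [← castH_apply, map_natCast]
    rwa [h2] at this

/-- differences of distinct elements of `𝔽_p` are units in characteristic `p`. -/
theorem isUnit_val_sub_val (h : (p : R) = 0) {m m' : ZMod p} (hm : m ≠ m') :
    IsUnit (((m.val : ℕ) : R) - ((m'.val : ℕ) : R)) := by
  rcases subsingleton_or_nontrivial R with hs | hn
  · exact isUnit_of_subsingleton _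
  · haveI := charP_of_natCast_eq_zero p h
    rw [← castH_apply, ← castH_apply, ← map_sub]
    exact (IsUnit.mk0 _ (sub_ne_zero.mpr hm)).map _

/-- the product of the `γ - m'`, `m' ≠ m` -/
noncomputable def idem (γ : R) (m : ZMod p) : R :=
  ∏ m' ∈ Finset.univ.erase m, (γ - ((m'.val : ℕ) : R))

theorem sub_mul_idem (h : (p : R) = 0) (γ : R) (m : ZMod p) :
    (γ - ((m.val : ℕ) : R)) * idem γ m = γ ^ p - γ := by
  unfold idem
  rw [Finset.mul_prod_erase Finset.univ (fun m' : ZMod p => γ - ((m'.val : ℕ) : R))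
    (Finset.mem_univ m), prod_sub_val h]

theorem idem_mul_idem (h : (p : R) = 0) (γ : R) {m m' : ZMod p} (hm : m ≠ m') :
    idem γ m * idem γ m' = (∏ m'' ∈ (Finset.univ.erase m).erase m', (γ - ((m''.val : ℕ) : R))) *
      (γ ^ p - γ) := by
  have h1 : idem γ m = (γ - ((m'.val : ℕ) : R)) *
      ∏ m'' ∈ (Finset.univ.erase m).erase m', (γ - ((m''.val : ℕ) : R)) := by
    unfold idem
    rw [Finset.mul_prod_erase (Finset.univ.erase m) (fun m'' : ZMod p => γ - ((m''.val : ℕ) : R))
      (Finset.mem_erase.mpr ⟨hm.symm, Finset.mem_univ _⟩)]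
  rw [h1, ← sub_mul_idem h γ m']
  ring

/-- Lagrange interpolation: the `idem γ m` generate the unit ideal. -/
theorem exists_sum_idem (h : (p : R) = 0) (γ : R) :
    ∃ a : ZMod p → R, ∑ m, a m * idem γ m = 1 := by
  rcases subsingleton_or_nontrivial R with hs | hn
  · exact ⟨fun _ => 0, Subsingleton.elim _ _⟩
  · haveI := charP_of_natCast_eq_zero p h
    have h1 := Lagrange.sum_basis (F := ZMod p) (s := Finset.univ) (v := id)
      (Function.injective_id.injOn) Finset.univ_nonempty
    have h2 := congrArg (eval₂ (castH p (R := R)) γ) h1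
    rw [eval₂_finsetSum, eval₂_one] at h2
    refine ⟨fun m => ∏ m' ∈ Finset.univ.erase m, castH p (m - m')⁻¹, ?_⟩
    rw [← h2]
    refine Finset.sum_congr rfl fun m _ => ?_
    unfold idem Lagrange.basis Lagrange.basisDivisor
    rw [eval₂_finsetProd, ← Finset.prod_mul_distrib]
    refine Finset.prod_congr rfl fun m' _ => ?_
    simp only [eval₂_mul, eval₂_C, eval₂_sub, eval₂_X, id, castH_apply]

theorem isUnit_idem_val (h : (p : R) = 0) (m : ZMod p) :
    IsUnit (idem (((m.val : ℕ) : R)) m) := by
  unfold idem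
  refine Finset.prod_induction _ IsUnit (fun _ _ => IsUnit.mul) isUnit_one fun m' hm' => ?_
  exact isUnit_val_sub_val h (Finset.ne_of_mem_erase hm').symm

end CharP

section Flat

variable (R : Type u) [CommRing R] (p : ℕ)

/-- the coordinate of the symmetric algebra `R[t]` -/
noncomputable def tt : SymmetricAlgebra R R := SymmetricAlgebra.ι R R 1

/-- the Artin–Schreier endomorphism `t ↦ t - t^p` of `R[t]` -/
noncomputable def asHom : SymmetricAlgebra R R →ₐ[R] SymmetricAlgebra R R :=
  SymmetricAlgebra.lift (LinearMap.toSpanSingleton R _ (tt R - tt R ^ p))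

theorem asHom_tt : asHom R p (tt R) = tt R - tt R ^ p := by
  unfold asHom
  conv_lhs => rw [tt, SymmetricAlgebra.lift_ι_apply]
  simp
  rfl

/-- the polynomial `X^p - X + t` over `R[t]` -/
noncomputable def asPoly : (SymmetricAlgebra R R)[X] := X ^ p - (X - C (tt R))

variable {p}

theorem asPoly_monic [Nontrivial R] (hp : 2 ≤ p) : (asPoly R p).Monic := by
  haveI : Nontrivial (SymmetricAlgebra R R) :=
    (SymmetricAlgebra.algebraMap_leftInverse (R := R) (M := R)).injective.nontrivial
  apply monic_X_pow_sub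
  rw [degree_X_sub_C]
  exact_mod_cast hp

theorem asPoly_natDegree [Nontrivial R] (hp : 2 ≤ p) : (asPoly R p).natDegree = p := by
  haveI : Nontrivial (SymmetricAlgebra R R) :=
    (SymmetricAlgebra.algebraMap_leftInverse (R := R) (M := R)).injective.nontrivial
  unfold asPoly
  have h1 : (X - C (tt R) : (SymmetricAlgebra R R)[X]).degree < ((X : (SymmetricAlgebra R R)[X]) ^ p).degree := by
    rw [degree_X_pow, degree_X_sub_C]
    exact_mod_cast hp
  rw [natDegree_eq_of_degree_eq (degree_sub_eq_left_of_degree_lt h1), natDegree_X_pow]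

variable (p)

theorem asPoly_eval : (asPoly R p).eval₂ (asHom R p : SymmetricAlgebra R R →+* SymmetricAlgebra R R)
    (tt R) = 0 := by
  unfold asPoly
  simp only [eval₂_sub, eval₂_pow, eval₂_X, eval₂_C]
  rw [RingHom.coe_coe, asHom_tt]
  ring

/-- `R[t][X]/(X^p - X + t) → R[t]` -/
noncomputable def toSy : AdjoinRoot (asPoly R p) →ₐ[R] SymmetricAlgebra R R :=
  AdjoinRoot.liftAlgHom (asPoly R p) (asHom R p) (tt R) (asPoly_eval R p)

/-- `R[t] → R[t][X]/(X^p - X + t)` -/
noncomputable def ofSy : SymmetricAlgebra R R →ₐ[R] AdjoinRoot (asPoly R p) :=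
  SymmetricAlgebra.lift (LinearMap.toSpanSingleton R _ (AdjoinRoot.root (asPoly R p)))

theorem ofSy_tt : ofSy R p (tt R) = AdjoinRoot.root (asPoly R p) := by
  unfold ofSy
  conv_lhs => rw [tt, SymmetricAlgebra.lift_ι_apply]
  simp

theorem toSy_root : toSy R p (AdjoinRoot.root (asPoly R p)) = tt R :=
  AdjoinRoot.liftAlgHom_root _ _ _ _

theorem toSy_of (a : SymmetricAlgebra R R) : toSy R p (AdjoinRoot.of (asPoly R p) a) = asHom R p a :=
  AdjoinRoot.liftAlgHom_of _ _ _ _ _

theorem toSy_comp_ofSy : (toSy R p).comp (ofSy R p) = AlgHom.id R _ := by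
  apply SymmetricAlgebra.algHom_ext
  apply LinearMap.ext_ring
  change toSy R p (ofSy R p (tt R)) = tt R
  rw [ofSy_tt, toSy_root]

theorem of_tt : AdjoinRoot.of (asPoly R p) (tt R) =
    AdjoinRoot.root (asPoly R p) - AdjoinRoot.root (asPoly R p) ^ p := by
  have h : (X ^ p - (X - C (tt R)) : (SymmetricAlgebra R R)[X]).eval₂
      (AdjoinRoot.of (asPoly R p)) (AdjoinRoot.root (asPoly R p)) = 0 :=
    AdjoinRoot.eval₂_root (asPoly R p)
  simp only [eval₂_sub, eval₂_pow, eval₂_X, eval₂_C] at h
  linear_combination h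

theorem ofSy_asHom (a : SymmetricAlgebra R R) :
    ofSy R p (asHom R p a) = AdjoinRoot.of (asPoly R p) a := by
  have : (ofSy R p).comp (asHom R p) =
      IsScalarTower.toAlgHom R (SymmetricAlgebra R R) (AdjoinRoot (asPoly R p)) := by
    apply SymmetricAlgebra.algHom_ext
    apply LinearMap.ext_ring
    change ofSy R p (asHom R p (tt R)) = algebraMap _ _ (tt R)
    rw [asHom_tt, map_sub, map_pow, ofSy_tt, AdjoinRoot.algebraMap_eq, of_tt]
  exact congrArg (fun k => k a) this

theorem ofSy_toSy (z : AdjoinRoot (asPoly R p)) : ofSy R p (toSy R p z) = z := by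
  have : ((ofSy R p : SymmetricAlgebra R R →+* AdjoinRoot (asPoly R p)).comp
      (toSy R p : AdjoinRoot (asPoly R p) →+* SymmetricAlgebra R R)).comp (AdjoinRoot.mk (asPoly R p)) =
      AdjoinRoot.mk (asPoly R p) := by
    apply Polynomial.ringHom_ext
    · intro a
      simp only [RingHom.comp_apply, RingHom.coe_coe, AdjoinRoot.mk_C, toSy_of, ofSy_asHom]
    · simp only [RingHom.comp_apply, RingHom.coe_coe, AdjoinRoot.mk_X, toSy_root, ofSy_tt]
  obtain ⟨q, rfl⟩ := AdjoinRoot.mk_surjective z
  exact congrArg (fun k => k q) this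

/-- the Artin–Schreier endomorphism of `R[t]` is faithfully flat. -/
theorem asHom_faithfullyFlat [Nontrivial R] (hp : 2 ≤ p) :
    (asHom R p : SymmetricAlgebra R R →+* SymmetricAlgebra R R).FaithfullyFlat := by
  haveI : Nontrivial (SymmetricAlgebra R R) :=
    (SymmetricAlgebra.algebraMap_leftInverse (R := R) (M := R)).injective.nontrivial
  have hm := asPoly_monic R hp
  haveI : Module.Free (SymmetricAlgebra R R) (AdjoinRoot (asPoly R p)) := hm.free_adjoinRoot
  haveI : Nontrivial (AdjoinRoot (asPoly R p)) := by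
    refine ⟨⟨1, 0, ?_⟩⟩
    have := AdjoinRoot.mk_ne_zero_of_natDegree_lt hm (g := 1) one_ne_zero
      (by rw [natDegree_one, asPoly_natDegree R hp]; omega)
    rwa [map_one] at this
  have h1 : (AdjoinRoot.of (asPoly R p)).FaithfullyFlat := by
    rw [← AdjoinRoot.algebraMap_eq, RingHom.faithfullyFlat_algebraMap_iff]
    infer_instance
  have h2 : (toSy R p : AdjoinRoot (asPoly R p) →+* SymmetricAlgebra R R).FaithfullyFlat := by
    apply RingHom.FaithfullyFlat.of_bijective
    constructor
    · intro a b hab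
      have := congrArg (ofSy R p) hab
      simpa only [RingHom.coe_coe, ofSy_toSy] using this
    · intro a
      exact ⟨ofSy R p a, congrArg (fun k => k a) (toSy_comp_ofSy R p)⟩
  have h3 := RingHom.FaithfullyFlat.stableUnderComposition _ _ h1 h2
  have h4 : (toSy R p : AdjoinRoot (asPoly R p) →+* SymmetricAlgebra R R).comp
      (AdjoinRoot.of (asPoly R p)) = (asHom R p : SymmetricAlgebra R R →+* SymmetricAlgebra R R) := by
    ext a
    exact toSy_of R p a
  rwa [h4] at h3

end Flat

end Groth.Agent.Lib.T2H3.ASAlg
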