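import Mathlib

/-!
# Algebraic descent lemmas for Hilbert 90 (additive and multiplicative group)

`K → K'` is faithfully flat.  We are given `K`-algebras `B`, `C`, two ring maps `α β : B → C`
(co-action and projection) compatible with the `K`-structures, and their base changes
`α' β' : B' → C'` where `B' = B ⊗ K'`, `C' = C ⊗ K'` (through given ring isomorphisms).

* `mem_of_tmul_one_mem_range`: membership in a submodule descends.
* `exists_of_baseChange_add`: a solution `b'` of `α' b' = τ' + β' b'` gives a solution over `K`.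
* `exists_of_baseChange_mul`: from an invertible solution `b'` of `α' b' = τ' β' b'`, for every proper
  ideal `𝔭` of `K` one gets `ℓ, m ∈ B` and `k ∉ 𝔭` with `α ℓ = τ β ℓ` and `ℓ m = k`.
-/

set_option autoImplicit false

open TensorProduct

namespace Groth.Agent.Lib.T2H3.H90Alg

variable {K K' : Type*} [CommRing K] [CommRing K'] [Algebra K K']

/-- membership in a submodule descends along a faithfully flat base change. -/
theorem mem_of_tmul_one_mem_range [Module.FaithfullyFlat K K'] {B : Type*} [AddCommGroup B]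
    [Module K B] (I : Submodule K B) (x : B)
    (hx : x ⊗ₜ[K] (1 : K') ∈ LinearMap.range (LinearMap.rTensor K' I.subtype)) : x ∈ I := by
  have h1 : (I.mkQ x) ⊗ₜ[K] (1 : K') = 0 := by
    have : x ⊗ₜ[K] (1 : K') ∈ LinearMap.ker (LinearMap.rTensor K' I.mkQ) := by
      rw [rTensor_mkQ]; exact hx
    simpa using this
  have h2 : (1 : K') ⊗ₜ[K] (I.mkQ x) = 0 := by
    have := congrArg (TensorProduct.comm K _ _) h1
    simpa using this
  have h3 := Module.FaithfullyFlat.tensorProduct_mk_injective (A := K) (B := K') (B ⧸ I)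
  have h4 : I.mkQ x = 0 := h3 (by simpa using h2)
  simpa using h4

section Maps

variable {B C B' C' : Type*} [CommRing B] [CommRing C] [CommRing B'] [CommRing C']
  [Algebra K B] [Algebra K C]

/-- a ring map compatible with the algebra maps, as a linear map. -/
def linOf (α : B →+* C) (hα : ∀ k, α (algebraMap K B k) = algebraMap K C k) : B →ₗ[K] C where
  toFun := α
  map_add' := map_add α
  map_smul' := by
    intro k b
    simp [Algebra.smul_def, hα]

@[simp] lemma linOf_apply (α : B →+* C) (hα : ∀ k, α (algebraMap K B k) = algebraMap K C k) (b : B) :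
    linOf α hα b = α b := rfl

variable (α β : B →+* C) (hα : ∀ k, α (algebraMap K B k) = algebraMap K C k)
  (hβ : ∀ k, β (algebraMap K B k) = algebraMap K C k)
  (α' β' : B' →+* C') (eB : B ⊗[K] K' ≃+* B') (eC : C ⊗[K] K' ≃+* C')
  (hα' : ∀ b k, α' (eB (b ⊗ₜ k)) = eC (α b ⊗ₜ k))
  (hβ' : ∀ b k, β' (eB (b ⊗ₜ k)) = eC (β b ⊗ₜ k))

include hα hβ hα' hβ' in
/-- additive descent. -/
theorem exists_of_baseChange_add [Module.FaithfullyFlat K K'] (τ : C) (b' : B')
    (hb' : α' b' = eC (τ ⊗ₜ 1) + β' b') : ∃ b : B, α b = τ + β b := by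
  set δ : B →ₗ[K] C := linOf α hα - linOf β hβ with hδ
  have key : ∀ t : B ⊗[K] K', eC (LinearMap.rTensor K' δ t) = α' (eB t) - β' (eB t) := by
    intro t
    induction t using TensorProduct.induction_on with
    | zero => simp
    | tmul b k =>
      simp only [LinearMap.rTensor_tmul, hδ, LinearMap.sub_apply, linOf_apply, sub_tmul, map_sub,
        hα', hβ']
    | add x y hx hy =>
      simp only [map_add, hx, hy]; ring
  have h1 : LinearMap.rTensor K' δ (eB.symm b') = τ ⊗ₜ 1 := by
    apply eC.injective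
    rw [key, RingEquiv.apply_symm_apply, hb']
    ring
  have h2 : τ ⊗ₜ[K] (1 : K') ∈
      LinearMap.range (LinearMap.rTensor K' (LinearMap.range δ).subtype) := by
    rw [← h1]
    have e : LinearMap.rTensor K' δ = LinearMap.rTensor K' (LinearMap.range δ).subtype ∘ₗ
        LinearMap.rTensor K' δ.rangeRestrict := by
      rw [← LinearMap.rTensor_comp]
      rfl
    rw [e]
    exact ⟨_, rfl⟩
  obtain ⟨b, hb⟩ := mem_of_tmul_one_mem_range _ τ h2
  refine ⟨b, ?_⟩
  have : α b - β b = τ := hb
  rw [← this]; ring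

include hα hβ hα' hβ' in
/-- multiplicative descent. -/
theorem exists_of_baseChange_mul [Module.FaithfullyFlat K K'] (τ : C) (b' c' : B')
    (hbc : b' * c' = 1) (hb' : α' b' = eC (τ ⊗ₜ 1) * β' b')
    (hinv : ∀ u : B', α' u = β' u → ∃ k' : K', u = eB (1 ⊗ₜ k'))
    (hinj : ∀ k' : K', eB (1 ⊗ₜ k') = 0 → k' = 0)
    (𝔭 : Ideal K) (h𝔭 : 𝔭 ≠ ⊤) :
    ∃ (ℓ m : B) (k : K), k ∉ 𝔭 ∧ α ℓ = τ * β ℓ ∧ ℓ * m = algebraMap K B k := by
  set αl : B →ₗ[K] C := linOf α hα with hαl
  set βl : B →ₗ[K] C := linOf β hβ with hβl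
  set lam : B →ₗ[K] C := αl - LinearMap.mulLeft K τ ∘ₗ βl with hlam
  set lamm : B →ₗ[K] C := LinearMap.mulLeft K τ ∘ₗ αl - βl with hlamm
  set τ' := eC (τ ⊗ₜ 1) with hτ'
  have tmul_eq : ∀ (c : C) (k : K'), eC ((τ * c) ⊗ₜ k) = τ' * eC (c ⊗ₜ k) := by
    intro c k
    rw [hτ', ← map_mul, Algebra.TensorProduct.tmul_mul_tmul, one_mul]
  have key : ∀ t, eC (LinearMap.rTensor K' lam t) = α' (eB t) - τ' * β' (eB t) := by
    intro t
    induction t using TensorProduct.induction_on with
    | zero => simp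
    | tmul b k =>
      simp only [LinearMap.rTensor_tmul, hlam, LinearMap.sub_apply, LinearMap.comp_apply,
        LinearMap.mulLeft_apply, hαl, hβl, linOf_apply, sub_tmul, map_sub, hα', hβ', tmul_eq]
    | add x y hx hy =>
      simp only [map_add, hx, hy]; ring
  have keym : ∀ t, eC (LinearMap.rTensor K' lamm t) = τ' * α' (eB t) - β' (eB t) := by
    intro t
    induction t using TensorProduct.induction_on with
    | zero => simp
    | tmul b k =>
      simp only [LinearMap.rTensor_tmul, hlamm, LinearMap.sub_apply, LinearMap.comp_apply,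
        LinearMap.mulLeft_apply, hαl, hβl, linOf_apply, sub_tmul, map_sub, hα', hβ', tmul_eq]
    | add x y hx hy =>
      simp only [map_add, hx, hy]; ring
  -- `c'` has weight `-1`
  have hc' : τ' * α' c' = β' c' := by
    have e1 : α' b' * α' c' = 1 := by rw [← map_mul, hbc, map_one]
    have e2 : β' b' * β' c' = 1 := by rw [← map_mul, hbc, map_one]
    calc τ' * α' c' = τ' * α' c' * (β' b' * β' c') := by rw [e2, mul_one]
      _ = (τ' * β' b') * α' c' * β' c' := by ring
      _ = β' c' := by rw [← hb', e1, one_mul]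
  -- flat base change of kernels
  have hker : ∀ (f : B →ₗ[K] C) (t : B ⊗[K] K'), LinearMap.rTensor K' f t = 0 →
      t ∈ LinearMap.range (LinearMap.rTensor K' (LinearMap.ker f).subtype) := by
    intro f t ht
    have := Module.Flat.rTensor_exact K' (LinearMap.exact_subtype_ker_map f)
    exact (this t).mp ht
  set L : Submodule K B := LinearMap.ker lam with hL
  set Lm : Submodule K B := LinearMap.ker lamm with hLm
  have ht : eB.symm b' ∈ LinearMap.range (LinearMap.rTensor K' L.subtype) := by
    apply hker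
    apply eC.injective
    rw [key, RingEquiv.apply_symm_apply, hb', sub_self, map_zero]
  have htm : eB.symm c' ∈ LinearMap.range (LinearMap.rTensor K' Lm.subtype) := by
    apply hker
    apply eC.injective
    rw [keym, RingEquiv.apply_symm_apply, hc', sub_self, map_zero]
  have hmul : ∀ (u : ↥L ⊗[K] K') (v : ↥Lm ⊗[K] K'),
      LinearMap.rTensor K' L.subtype u * LinearMap.rTensor K' Lm.subtype v ∈
        LinearMap.range (LinearMap.rTensor K' (L * Lm).subtype) := by
    intro u v
    induction u using TensorProduct.induction_on with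
    | zero => simp
    | add x y hx hy => rw [map_add, add_mul]; exact add_mem hx hy
    | tmul ℓ k =>
      induction v using TensorProduct.induction_on with
      | zero => simp
      | add x y hx hy => rw [map_add, mul_add]; exact add_mem hx hy
      | tmul m k2 =>
        refine ⟨⟨ℓ.1 * m.1, Submodule.mul_mem_mul ℓ.2 m.2⟩ ⊗ₜ (k * k2), ?_⟩
        simp [Algebra.TensorProduct.tmul_mul_tmul]
  have hone : (1 : B) ∈ L * Lm := by
    apply mem_of_tmul_one_mem_range (K' := K')
    obtain ⟨u, hu⟩ := ht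
    obtain ⟨v, hv⟩ := htm
    have h1 := hmul u v
    rw [hu, hv, ← map_mul, hbc, map_one, Algebra.TensorProduct.one_def] at h1
    exact h1
  -- invariants are constants
  have hB0 : ∀ b : B, α b = β b → ∃ k : K, b = algebraMap K B k := by
    intro b hb
    have h1 : α' (eB (b ⊗ₜ 1)) = β' (eB (b ⊗ₜ 1)) := by rw [hα', hβ', hb]
    obtain ⟨k', hk'⟩ := hinv _ h1
    have h2 : b ⊗ₜ[K] (1 : K') = 1 ⊗ₜ k' := eB.injective hk'
    have h3 : b ∈ Submodule.span K {(1 : B)} := by
      apply mem_of_tmul_one_mem_range (K' := K')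
      rw [h2]
      exact ⟨⟨1, Submodule.subset_span rfl⟩ ⊗ₜ k', by simp⟩
    obtain ⟨k, hk⟩ := Submodule.mem_span_singleton.mp h3
    exact ⟨k, by rw [← hk, Algebra.smul_def, mul_one]⟩
  have hKinj : ∀ k : K, algebraMap K B k = 0 → k = 0 := by
    intro k hk
    have h1 : eB (1 ⊗ₜ algebraMap K K' k) = 0 := by
      have : (1 : B) ⊗ₜ[K] algebraMap K K' k = algebraMap K B k ⊗ₜ 1 := by
        rw [Algebra.algebraMap_eq_smul_one, Algebra.algebraMap_eq_smul_one, smul_tmul]
      rw [this, hk, zero_tmul, map_zero]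
    have h2 := hinj _ h1
    exact (FaithfulSMul.algebraMap_injective K K') (by rw [h2, map_zero])
  let Sset : Set K := {k | ∃ ℓ m : B, α ℓ = τ * β ℓ ∧ ℓ * m = algebraMap K B k}
  have hJ : ∀ x ∈ L * Lm, ∃ j ∈ Ideal.span Sset, x = algebraMap K B j := by
    intro x hx
    induction hx using Submodule.mul_induction_on' with
    | mem_mul_mem ℓ hℓ m hm =>
      have hℓ' : α ℓ = τ * β ℓ := by
        have : lam ℓ = 0 := hℓ
        simpa [hlam, hαl, hβl, sub_eq_zero] using this
      have hm' : τ * α m = β m := by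
        have : lamm m = 0 := hm
        simpa [hlamm, hαl, hβl, sub_eq_zero] using this
      have : α (ℓ * m) = β (ℓ * m) := by
        rw [map_mul, map_mul, hℓ', ← hm']; ring
      obtain ⟨k, hk⟩ := hB0 _ this
      exact ⟨k, Ideal.subset_span ⟨ℓ, m, hℓ', hk⟩, hk⟩
    | add x _ y _ hx hy =>
      obtain ⟨j1, hj1, e1⟩ := hx
      obtain ⟨j2, hj2, e2⟩ := hy
      exact ⟨j1 + j2, add_mem hj1 hj2, by rw [e1, e2, map_add]⟩
  obtain ⟨j, hj, hj1⟩ := hJ 1 hone
  have hj' : j = 1 := by
    have : algebraMap K B (j - 1) = 0 := by rw [map_sub, ← hj1, map_one, sub_self]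
    have := hKinj _ this
    exact sub_eq_zero.mp this
  have htop : Ideal.span Sset = ⊤ := by
    rw [Ideal.eq_top_iff_one, ← hj']; exact hj
  by_contra hcon
  push Not at hcon
  apply h𝔭
  rw [eq_top_iff, ← htop, Ideal.span_le]
  rintro k ⟨ℓ, m, h1, h2⟩
  by_contra hk
  exact hcon ℓ m k hk h1 h2

end Maps

end Groth.Agent.Lib.T2H3.H90Alg
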