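import Mathlib
import Groth.Agent.Lib.Helper18FEtAlg
import Groth.Agent.Lib.T2H3H90Alg
/-!
# Galois algebras from geometric simple transitivity (helper3)

`B` a finite étale `A`-algebra, `σ : G → (B →ₐ[A] B)` an (anti-)action of a finite group such that `G`
acts simply transitively on `Hom_A(B, Ω)` for every algebraically closed field `Ω` over `A`
(`GeomTorsor σ`).  Then `Φ : B ⊗[A] B → (G → B)`, `b ⊗ b' ↦ (g ↦ b * σ_g b')` is bijective
(`Φ_bijective`); if moreover `B` is faithfully flat over `A`, the fixed elements are `A`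
(`exists_of_fixed`) and the trace `b ↦ ∑ g, σ_g b` hits `1` (`exists_trace_eq_one`).
-/
set_option autoImplicit false
set_option linter.style.haveILetI false
set_option linter.unusedSectionVars false
universe u v
open TensorProduct

namespace Groth.Agent.Lib.T2H3.GaloisAlg

variable {A B : Type u} [CommRing A] [CommRing B] [Algebra A B]
variable {G : Type v} [Group G] [Fintype G] [DecidableEq G]

/-- Geometric simple transitivity of `σ` on the `Ω`-points of `B`. -/
def GeomTorsor (σ : G → (B →ₐ[A] B)) : Prop :=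
  ∀ (Ω : Type u) [Field Ω] [IsAlgClosed Ω] [Algebra A Ω] (s t : B →ₐ[A] Ω),
    ∃! g : G, s.comp (σ g) = t

variable (σ : G → (B →ₐ[A] B))

/-- `b ⊗ b' ↦ b * σ_g b'`. -/
noncomputable def ev (g : G) : B ⊗[A] B →ₐ[B] B :=
  Algebra.TensorProduct.lift (AlgHom.id B B) (σ g) (fun _ _ => Commute.all _ _)

@[simp] lemma ev_tmul (g : G) (b b' : B) : ev σ g (b ⊗ₜ[A] b') = b * σ g b' := by
  simp [ev]

/-- `b ⊗ b' ↦ (g ↦ b * σ_g b')`. -/
noncomputable def Φ : B ⊗[A] B →ₐ[B] (G → B) := AlgHom.pi (ev σ)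

@[simp] lemma Φ_apply (x : B ⊗[A] B) (g : G) : Φ σ x g = ev σ g x := rfl

lemma ev_one_eq_lmul' (hσ1 : σ 1 = AlgHom.id A B) (x : B ⊗[A] B) :
    ev σ 1 x = Algebra.TensorProduct.lmul' A x := by
  induction x using TensorProduct.induction_on with
  | zero => simp
  | tmul b b' => simp [hσ1]
  | add x y hx hy => simp [hx, hy]

lemma ev_map (hσmul : ∀ g h, σ (g * h) = (σ h).comp (σ g)) (g k : G) (x : B ⊗[A] B) :
    ev σ g (Algebra.TensorProduct.map (AlgHom.id A B) (σ k) x) = ev σ (k * g) x := by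
  induction x using TensorProduct.induction_on with
  | zero => simp
  | tmul b b' => simp [hσmul]
  | add x y hx hy => simp [hx, hy]

section Unram
variable [Algebra.FormallyUnramified A B] [Algebra.EssFiniteType A B]

open Algebra.FormallyUnramified in
theorem ev_elem_of_ne (hσ1 : σ 1 = AlgHom.id A B) (h : GeomTorsor σ) (g : G) (hg : g ≠ 1) :
    ev σ g (elem A B) = 0 := by
  have h0 : ∀ s : B, (σ g s - s) * ev σ g (elem A B) = 0 := by
    intro s
    have := congrArg (ev σ g) (one_tmul_sub_tmul_one_mul_elem (R := A) (S := B) s)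
    rw [map_mul, map_sub, ev_tmul, ev_tmul, map_zero] at this
    simpa using this
  have hI : ∀ x ∈ Ideal.span (Set.range fun s : B => σ g s - s), x * ev σ g (elem A B) = 0 := by
    intro x hx
    induction hx using Submodule.span_induction with
    | mem x hx => obtain ⟨s, rfl⟩ := hx; exact h0 s
    | zero => simp
    | add x y _ _ hx hy => rw [add_mul, hx, hy, add_zero]
    | smul a x _ hx => rw [smul_eq_mul, mul_assoc, hx, mul_zero]
  by_cases htop : Ideal.span (Set.range fun s : B => σ g s - s) = ⊤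
  · have := hI 1 (htop ▸ Submodule.mem_top)
    simpa using this
  · exfalso
    obtain ⟨𝔫, h𝔫, hle⟩ := Ideal.exists_le_maximal _ htop
    letI : Field (B ⧸ 𝔫) := Ideal.Quotient.field 𝔫
    let β : B →+* AlgebraicClosure (B ⧸ 𝔫) :=
      (algebraMap (B ⧸ 𝔫) (AlgebraicClosure (B ⧸ 𝔫))).comp (Ideal.Quotient.mk 𝔫)
    letI : Algebra A (AlgebraicClosure (B ⧸ 𝔫)) := (β.comp (algebraMap A B)).toAlgebra
    let βa : B →ₐ[A] AlgebraicClosure (B ⧸ 𝔫) := { β with commutes' := fun _ => rfl }
    have h1 : βa.comp (σ g) = βa := by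
      ext s
      change β (σ g s) = β s
      rw [← sub_eq_zero, ← map_sub]
      change algebraMap (B ⧸ 𝔫) _ (Ideal.Quotient.mk 𝔫 (σ g s - s)) = 0
      rw [Ideal.Quotient.eq_zero_iff_mem.mpr (hle (Ideal.subset_span ⟨s, rfl⟩)), map_zero]
    have h2 : βa.comp (σ 1) = βa := by rw [hσ1]; rfl
    exact hg ((h _ βa βa).unique h1 h2)

open Algebra.FormallyUnramified in
theorem Φ_surjective (hσ1 : σ 1 = AlgHom.id A B) (hσmul : ∀ g h, σ (g * h) = (σ h).comp (σ g))
    (h : GeomTorsor σ) : Function.Surjective (Φ σ) := by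
  have hev : ∀ g : G, ev σ g (elem A B) = if g = 1 then 1 else 0 := by
    intro g
    split_ifs with hg
    · subst hg
      rw [ev_one_eq_lmul' σ hσ1, lmul_elem (R := A) (S := B)]
    · exact ev_elem_of_ne σ hσ1 h g hg
  intro f
  refine ⟨∑ k : G, f k • Algebra.TensorProduct.map (AlgHom.id A B) (σ k⁻¹) (elem A B), ?_⟩
  ext g
  rw [Φ_apply, map_sum, Finset.sum_eq_single g]
  · rw [map_smul, ev_map σ hσmul, hev, if_pos (inv_mul_cancel g), smul_eq_mul, mul_one]
  · intro k _ hk
    rw [map_smul, ev_map σ hσmul, hev, if_neg, smul_zero]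
    intro h1
    exact hk (inv_mul_eq_one.mp h1)
  · intro h1; exact absurd (Finset.mem_univ g) h1

end Unram

/-- Universe-polymorphic copy of `Helper18FEtAlg.exists_idem_ker`. -/
theorem exists_idem_ker' (R : Type*) {S : Type*} {T : Type*} [CommRing R] [CommRing S] [CommRing T]
    [Algebra R S] [Algebra R T] [Algebra.Etale R S] [Algebra.Etale R T] [Module.Finite R T]
    (f : S →ₐ[R] T) : ∃ e : S, IsIdempotentElem e ∧ RingHom.ker f = Ideal.span {e} := by
  letI : Algebra S T := f.toRingHom.toAlgebra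
  haveI : IsScalarTower R S T := IsScalarTower.of_algebraMap_eq fun r => (f.commutes r).symm
  haveI : Module.Finite S T := Module.Finite.of_restrictScalars_finite R S T
  haveI : Module.FinitePresentation R T := Module.FinitePresentation.of_finite_of_finitePresentation R T
  haveI : Module.Projective R T := Module.Flat.projective_of_finitePresentation
  haveI : Module.Projective S T := Algebra.FormallyUnramified.projective_of_restrictScalars R S T
  obtain ⟨e, he, hann⟩ := Groth.Agent.Lib.Helper18FEtAlg.exists_idem_annihilator (A := S) T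
  refine ⟨e, he, ?_⟩
  rw [← hann]
  ext a
  rw [RingHom.mem_ker, Module.mem_annihilator]
  constructor
  · intro h b
    rw [Algebra.smul_def]
    change f a * b = 0
    rw [h, zero_mul]
  · intro h
    have := h 1
    rw [Algebra.smul_def, mul_one] at this
    exact this

theorem Φ_injective [Algebra.Etale A B] [Module.Finite A B] (h : GeomTorsor σ) :
    Function.Injective (Φ σ) := by
  obtain ⟨e, he, hker⟩ := exists_idem_ker' B (Φ σ)
  have he0 : e = 0 := by
    by_contra hne
    have hnu : ¬ IsUnit (1 - e) := by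
      rintro ⟨u, hu⟩
      apply hne
      have : e * (1 - e) = 0 := by rw [mul_sub, mul_one, he.eq, sub_self]
      calc e = e * ((1 - e) * ↑u⁻¹) := by rw [← hu, Units.mul_inv, mul_one]
        _ = 0 := by rw [← mul_assoc, this, zero_mul]
    have hne_top : Ideal.span {1 - e} ≠ ⊤ := by
      rwa [Ne, Ideal.span_singleton_eq_top]
    obtain ⟨𝔪, h𝔪, hle⟩ := Ideal.exists_le_maximal _ hne_top
    letI : Field ((B ⊗[A] B) ⧸ 𝔪) := Ideal.Quotient.field 𝔪
    let Ω := AlgebraicClosure ((B ⊗[A] B) ⧸ 𝔪)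
    let γ : B ⊗[A] B →+* Ω := (algebraMap ((B ⊗[A] B) ⧸ 𝔪) Ω).comp (Ideal.Quotient.mk 𝔪)
    have hγe : γ e = 1 := by
      have h1 : γ (1 - e) = 0 := by
        change algebraMap ((B ⊗[A] B) ⧸ 𝔪) Ω (Ideal.Quotient.mk 𝔪 (1 - e)) = 0
        rw [Ideal.Quotient.eq_zero_iff_mem.mpr (hle (Ideal.subset_span rfl)), map_zero]
      rw [map_sub, map_one, sub_eq_zero] at h1
      exact h1.symm
    let β : B →+* Ω := γ.comp (Algebra.TensorProduct.includeLeft (R := A) (S := A) (A := B) (B := B)).toRingHom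
    let β' : B →+* Ω := γ.comp (Algebra.TensorProduct.includeRight (R := A) (A := B) (B := B)).toRingHom
    have hβ : ∀ b, β b = γ (b ⊗ₜ 1) := fun _ => rfl
    have hβ' : ∀ b, β' b = γ (1 ⊗ₜ b) := fun _ => rfl
    letI : Algebra A Ω := (β.comp (algebraMap A B)).toAlgebra
    let βa : B →ₐ[A] Ω := { β with commutes' := fun _ => rfl }
    let βa' : B →ₐ[A] Ω :=
      { β' with
        commutes' := fun a => by
          change γ (1 ⊗ₜ algebraMap A B a) = γ (algebraMap A B a ⊗ₜ 1)
          rw [Algebra.algebraMap_eq_smul_one, TensorProduct.tmul_smul, TensorProduct.smul_tmul'] }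
    obtain ⟨g, hg, -⟩ := h Ω βa βa'
    have hg' : ∀ b, β (σ g b) = β' b := fun b => congrArg (fun f => f b) hg
    have key : ∀ x : B ⊗[A] B, γ x = β (ev σ g x) := by
      intro x
      induction x using TensorProduct.induction_on with
      | zero => simp
      | tmul b b' =>
        rw [ev_tmul, map_mul, hg', hβ, hβ', ← map_mul, Algebra.TensorProduct.tmul_mul_tmul,
          mul_one, one_mul]
      | add x y hx hy => rw [map_add, map_add, map_add, hx, hy]
    have hΦe : Φ σ e = 0 := by
      have : e ∈ RingHom.ker (Φ σ) := hker ▸ Ideal.subset_span rfl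
      exact this
    have : γ e = 0 := by
      rw [key, ← Φ_apply, hΦe]; simp
    rw [hγe] at this
    exact one_ne_zero this
  rw [he0] at hker
  rw [injective_iff_map_eq_zero]
  intro x hx
  have : x ∈ RingHom.ker (Φ σ) := hx
  rw [hker] at this
  simpa using this

theorem Φ_bijective [Algebra.Etale A B] [Module.Finite A B] (hσ1 : σ 1 = AlgHom.id A B)
    (hσmul : ∀ g h, σ (g * h) = (σ h).comp (σ g)) (h : GeomTorsor σ) :
    Function.Bijective (Φ σ) :=
  ⟨Φ_injective σ h, Φ_surjective σ hσ1 hσmul h⟩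

theorem exists_of_fixed [Module.FaithfullyFlat A B] (hinj : Function.Injective (Φ σ)) (b : B)
    (hb : ∀ g, σ g b = b) : ∃ a, algebraMap A B a = b := by
  have h1 : (1 : B) ⊗ₜ[A] b = b ⊗ₜ[A] 1 := by
    apply hinj
    ext g
    simp [hb]
  have h2 : b ∈ LinearMap.range (Algebra.linearMap A B) := by
    apply Groth.Agent.Lib.T2H3.H90Alg.mem_of_tmul_one_mem_range (K' := B)
    refine ⟨(⟨1, ⟨1, by simp⟩⟩ : LinearMap.range (Algebra.linearMap A B)) ⊗ₜ b, ?_⟩
    rw [LinearMap.rTensor_tmul, ← h1]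
    rfl
  obtain ⟨a, ha⟩ := h2
  exact ⟨a, ha⟩

theorem exists_trace_eq_one [Module.FaithfullyFlat A B] (hbij : Function.Bijective (Φ σ))
    (hσmul : ∀ g h, σ (g * h) = (σ h).comp (σ g)) : ∃ b : B, ∑ g, σ g b = 1 := by
  have hfix : ∀ b : B, ∃ a, algebraMap A B a = ∑ g, σ g b := by
    intro b
    apply exists_of_fixed σ hbij.1
    intro h
    rw [map_sum]
    have : ∀ g, σ h (σ g b) = σ (g * h) b := fun g => by rw [hσmul]; rfl
    simp_rw [this]
    exact Fintype.sum_equiv (Equiv.mulRight h) _ _ (fun g => rfl)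
  let 𝔱 : Ideal A :=
    { carrier := {a | ∃ b : B, ∑ g, σ g b = algebraMap A B a}
      add_mem' := by
        rintro a a' ⟨b, hb⟩ ⟨b', hb'⟩
        exact ⟨b + b', by simp [Finset.sum_add_distrib, hb, hb']⟩
      zero_mem' := ⟨0, by simp⟩
      smul_mem' := by
        rintro c a ⟨b, hb⟩
        refine ⟨c • b, ?_⟩
        have hc : ∀ g, σ g (c • b) = c • σ g b := fun g => map_smul _ _ _
        simp_rw [hc, ← Finset.smul_sum, hb, smul_eq_mul, map_mul, Algebra.smul_def] }
  have hΛ : ∀ x : B ⊗[A] B, ∑ g, ev σ g x ∈ 𝔱.map (algebraMap A B) := by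
    intro x
    induction x using TensorProduct.induction_on with
    | zero => simp
    | tmul b b' =>
      obtain ⟨a, ha⟩ := hfix b'
      simp only [ev_tmul, ← Finset.mul_sum, ← ha]
      exact Ideal.mul_mem_left _ _ (Ideal.mem_map_of_mem _ ⟨b', ha.symm⟩)
    | add x y hx hy =>
      simp only [map_add, Finset.sum_add_distrib]
      exact Ideal.add_mem _ hx hy
  obtain ⟨x, hx⟩ := hbij.2 (Pi.single 1 1)
  have h1 : (1 : B) ∈ 𝔱.map (algebraMap A B) := by
    have := hΛ x
    have e : ∑ g, ev σ g x = 1 := by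
      have : ∀ g, ev σ g x = (Pi.single (1 : G) (1 : B) : G → B) g := fun g => by
        rw [← hx]; rfl
      simp_rw [this]
      simp
    rwa [e] at this
  have h2 : 𝔱 = ⊤ := by
    rw [← Ideal.comap_map_eq_self_of_faithfullyFlat (B := B) 𝔱,
      (Ideal.eq_top_iff_one _).mpr h1, Ideal.comap_top]
  obtain ⟨b, hb⟩ : (1 : A) ∈ 𝔱 := h2 ▸ Submodule.mem_top
  exact ⟨b, by rw [hb, map_one]⟩

end Groth.Agent.Lib.T2H3.GaloisAlg
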