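import Mathlib
import Groth.Prelude.Def_SGA1t
import Groth.Agent.Lib.T2H3GaloisAlg
/-!
# Principal `ℤ/p`-covers in characteristic `p` are Artin–Schreier (algebra part, helper3)

`exists_algEquiv`: `B` finite étale faithfully flat over `A` (char `p`), with an (anti-)action `σ` of
`Multiplicative (ZMod p)` that is geometrically simply transitive.  Then `B ≃ₐ[A] A[T]/(T^p - T - a)`
equivariantly for the shift action.
-/
set_option autoImplicit false
set_option linter.style.haveILetI false
set_option linter.unusedSectionVars false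
universe u
open Polynomial

namespace Groth.Agent.Lib.T2H3.ASCover

open Groth.Agent.Lib.T2H3.GaloisAlg

variable {A B : Type u} [CommRing A] [CommRing B] [Algebra A B] (p : ℕ) [Fact p.Prime]

theorem isUnit_vandermonde [CharP B p] (t : B) :
    IsUnit (Matrix.vandermonde
      (fun i : Fin p => t + ZMod.castHom (dvd_refl p) B ((i : ℕ) : ZMod p))) := by
  rw [Matrix.isUnit_iff_isUnit_det, Matrix.det_vandermonde, IsUnit.prod_univ_iff]
  intro i
  rw [IsUnit.prod_iff]
  intro j hj
  rw [Finset.mem_Ioi] at hj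
  have e : (t + ZMod.castHom (dvd_refl p) B ((j : ℕ) : ZMod p)) -
      (t + ZMod.castHom (dvd_refl p) B ((i : ℕ) : ZMod p)) =
      ZMod.castHom (dvd_refl p) B (((j : ℕ) : ZMod p) - ((i : ℕ) : ZMod p)) := by
    rw [map_sub]; ring
  rw [e]
  apply RingHom.isUnit_map
  rw [isUnit_iff_ne_zero, sub_ne_zero]
  intro heq
  have h1 := congrArg ZMod.val heq
  rw [ZMod.val_cast_of_lt j.2, ZMod.val_cast_of_lt i.2] at h1
  exact absurd (Fin.ext h1) (ne_of_gt hj)

theorem monic_as [Nontrivial A] (a : A) : (X ^ p - X - C a : A[X]).Monic := by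
  have hp : 2 ≤ p := (Fact.out : p.Prime).two_le
  rw [sub_sub]
  apply monic_X_pow_sub
  calc (X + C a : A[X]).degree ≤ 1 := by
        refine (degree_add_le _ _).trans (max_le degree_X_le ((degree_C_le).trans ?_))
        exact zero_le_one
    _ < (p : WithBot ℕ) := by exact_mod_cast hp

theorem natDegree_as [Nontrivial A] (a : A) : (X ^ p - X - C a : A[X]).natDegree = p := by
  have hp : 2 ≤ p := (Fact.out : p.Prime).two_le
  rw [sub_sub, natDegree_sub_eq_left_of_natDegree_lt, natDegree_X_pow]
  rw [natDegree_X_pow]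
  calc (X + C a : A[X]).natDegree ≤ 1 := by
        refine (natDegree_add_le _ _).trans (max_le natDegree_X_le ?_)
        rw [natDegree_C]; exact zero_le_one
    _ < p := hp

theorem exists_algEquiv [CharP A p] [Module.Finite A B] [Algebra.Etale A B]
    [Module.FaithfullyFlat A B]
    (σ : Multiplicative (ZMod p) → (B →ₐ[A] B)) (hσ1 : σ 1 = AlgHom.id A B)
    (hσmul : ∀ g h, σ (g * h) = (σ h).comp (σ g)) (h : GeomTorsor σ) :
    ∃ (a : A) (ψ : SGA1t.artinSchreier A p a ≃ₐ[A] B),
      ∀ (j : ZMod p) (x : SGA1t.artinSchreier A p a),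
        σ (Multiplicative.ofAdd j) (ψ x) = ψ (SGA1t.artinSchreierShift A p a j x) := by
  classical
  haveI : NeZero p := ⟨(Fact.out : p.Prime).ne_zero⟩
  have hppos : 0 < p := (Fact.out : p.Prime).pos
  haveI : Nontrivial A := CharP.nontrivial_of_char_ne_one (R := A) (Fact.out : p.Prime).ne_one
  have hbij := Φ_bijective σ hσ1 hσmul h
  have hinjAB : Function.Injective (algebraMap A B) := FaithfulSMul.algebraMap_injective A B
  haveI : CharP B p := charP_of_injective_algebraMap hinjAB p
  let cast : ZMod p →+* B := ZMod.castHom (dvd_refl p) B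
  have hcastnat : ∀ n : ℕ, cast (n : ZMod p) = (n : B) := fun n => map_natCast cast n
  have hcastval : ∀ z : ZMod p, cast z = ((z.val : ℕ) : B) := fun z => by
    rw [← hcastnat, ZMod.natCast_zmod_val]
  let s : ZMod p → (B →ₐ[A] B) := fun j => σ (Multiplicative.ofAdd j)
  have hs0 : s 0 = AlgHom.id A B := hσ1
  have hsadd : ∀ i j, s (i + j) = (s j).comp (s i) := fun i j => hσmul _ _
  have hscast : ∀ j z, s j (cast z) = cast z := fun j z => by
    rw [hcastval, map_natCast]
  -- trace one element
  obtain ⟨b, hb⟩ := exists_trace_eq_one σ hbij hσmul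
  have hb' : ∑ j : ZMod p, s j b = 1 := by
    rw [← hb]
    exact Fintype.sum_equiv Multiplicative.ofAdd _ _ (fun _ => rfl)
  obtain ⟨t, ht⟩ : ∃ t : B, t = -∑ j : ZMod p, cast j * s j b := ⟨_, rfl⟩
  have ht1 : s 1 t = t + 1 := by
    have e1 : s 1 t = -∑ j : ZMod p, cast j * s (j + 1) b := by
      rw [ht, map_neg, map_sum]
      congr 1
      refine Finset.sum_congr rfl (fun j _ => ?_)
      rw [map_mul, hscast, hsadd]; rfl
    have e2 : ∑ j : ZMod p, cast j * s (j + 1) b = ∑ k : ZMod p, cast (k - 1) * s k b := by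
      refine Fintype.sum_equiv (Equiv.addRight 1) _ _ (fun j => ?_)
      simp
    rw [e1, e2]
    have e3 : ∑ k : ZMod p, cast (k - 1) * s k b =
        ∑ k : ZMod p, cast k * s k b - ∑ k : ZMod p, s k b := by
      rw [← Finset.sum_sub_distrib]
      refine Finset.sum_congr rfl (fun k _ => ?_)
      rw [map_sub, map_one, sub_mul, one_mul]
    rw [e3, hb', ht]; ring
  have htn : ∀ n : ℕ, s (n : ZMod p) t = t + n := by
    intro n
    induction n with
    | zero => rw [Nat.cast_zero, hs0, Nat.cast_zero, add_zero]; rfl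
    | succ n ih =>
      rw [Nat.cast_succ, hsadd]
      change s 1 (s (n : ZMod p) t) = _
      rw [ih, map_add, ht1, map_natCast, Nat.cast_succ]; ring
  have htz : ∀ z : ZMod p, s z t = t + cast z := fun z => by
    conv_lhs => rw [← ZMod.natCast_zmod_val z]
    rw [htn, hcastval]
  -- the element `a`
  have hcastpow : ∀ z : ZMod p, cast z ^ p = cast z := fun z => by
    rw [← map_pow, ZMod.pow_card]
  have hfix : ∀ g, σ g (t ^ p - t) = t ^ p - t := by
    intro g
    change s (Multiplicative.toAdd g) (t ^ p - t) = _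
    rw [map_sub, map_pow, htz, add_pow_char, hcastpow]; ring
  obtain ⟨a, ha⟩ := exists_of_fixed σ hbij.1 _ hfix
  -- the map
  have hker : ∀ x ∈ Ideal.span {(X ^ p - X - C a : A[X])}, aeval t x = 0 := by
    intro x hx
    obtain ⟨q, rfl⟩ := Ideal.mem_span_singleton'.mp hx
    rw [map_mul, map_sub, map_sub, map_pow, aeval_X, aeval_C, ha]; ring
  let ψ₀ : SGA1t.artinSchreier A p a →ₐ[A] B :=
    Ideal.Quotient.liftₐ (Ideal.span {(X ^ p - X - C a : A[X])}) (aeval t) hker
  have hψmk : ∀ P : A[X], ψ₀ (Ideal.Quotient.mk _ P) = aeval t P := fun _ => rfl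
  -- equivariance
  have hequiv : ∀ (z : ZMod p) (x : SGA1t.artinSchreier A p a),
      s z (ψ₀ x) = ψ₀ (SGA1t.artinSchreierShift A p a z x) := by
    intro z x
    obtain ⟨P, rfl⟩ := Ideal.Quotient.mk_surjective x
    have e1 : SGA1t.artinSchreierShift A p a z (Ideal.Quotient.mk _ P) =
        Ideal.Quotient.mk _ (aeval (X + C ((ZMod.castHom (dvd_refl p) A) z)) P) := rfl
    rw [e1, hψmk, hψmk]
    have e2 : (s z).comp (aeval t) =
        (aeval t).comp (aeval (X + C ((ZMod.castHom (dvd_refl p) A) z)) : A[X] →ₐ[A] A[X]) := by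
      apply Polynomial.algHom_ext
      rw [AlgHom.comp_apply, AlgHom.comp_apply, aeval_X, aeval_X, map_add, aeval_X, aeval_C, htz]
      congr 1
      rw [hcastval, ← ZMod.natCast_zmod_val z, map_natCast, map_natCast, ZMod.natCast_zmod_val]
    exact congrArg (fun f => f P) e2
  -- Vandermonde
  have hV := isUnit_vandermonde (B := B) p t
  obtain ⟨V, hVdef⟩ : ∃ V : Matrix (Fin p) (Fin p) B, V = Matrix.vandermonde
      (fun i : Fin p => t + ZMod.castHom (dvd_refl p) B ((i : ℕ) : ZMod p)) := ⟨_, rfl⟩
  rw [← hVdef] at hV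
  have hVapp : ∀ i j : Fin p, V i j = (t + cast ((i : ℕ) : ZMod p)) ^ (j : ℕ) := by
    intro i j; rw [hVdef]; rfl
  have hf := monic_as p a
  have hfdeg := natDegree_as p a
  have hf1 : (X ^ p - X - C a : A[X]) ≠ 1 := by
    intro h1
    have := congrArg natDegree h1
    rw [hfdeg, natDegree_one] at this
    exact hppos.ne' this
  -- injectivity
  have hinj : Function.Injective ψ₀ := by
    rw [injective_iff_map_eq_zero]
    intro x hx
    obtain ⟨P, rfl⟩ := Ideal.Quotient.mk_surjective x
    obtain ⟨P', hP'⟩ : ∃ P', P' = P %ₘ (X ^ p - X - C a : A[X]) := ⟨_, rfl⟩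
    have hmk : Ideal.Quotient.mk (Ideal.span {(X ^ p - X - C a : A[X])}) P =
        Ideal.Quotient.mk _ P' := by
      rw [Ideal.Quotient.eq, hP', Ideal.mem_span_singleton']
      refine ⟨P /ₘ (X ^ p - X - C a : A[X]), ?_⟩
      have := modByMonic_add_div P (X ^ p - X - C a : A[X])
      linear_combination this
    have hdeg : P'.natDegree < p := by
      have := natDegree_modByMonic_lt P hf hf1
      rw [hfdeg] at this
      rw [hP']
      exact this
    rw [hmk] at hx ⊢
    rw [hψmk, aeval_eq_sum_range' hdeg] at hx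
    have hrow : ∀ i : Fin p, ∑ j : Fin p, V i j * algebraMap A B (P'.coeff j) = 0 := by
      intro i
      have := congrArg (s ((i : ℕ) : ZMod p)) hx
      rw [map_zero, map_sum] at this
      rw [← this, ← Fin.sum_univ_eq_sum_range
        (fun j => s ((i : ℕ) : ZMod p) (P'.coeff j • t ^ j)) p]
      refine Finset.sum_congr rfl (fun j _ => ?_)
      rw [hVapp, map_smul, map_pow, htz, Algebra.smul_def, mul_comm]
    have hc : (fun j : Fin p => algebraMap A B (P'.coeff j)) = 0 := by
      apply Matrix.mulVec_injective_of_isUnit hV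
      ext i
      rw [Matrix.mulVec_zero, Pi.zero_apply]
      exact hrow i
    have hP'0 : P' = 0 := by
      ext n
      rw [coeff_zero]
      by_cases hn : n < p
      · apply hinjAB
        rw [map_zero]
        exact congrFun hc ⟨n, hn⟩
      · exact coeff_eq_zero_of_natDegree_lt (lt_of_lt_of_le hdeg (not_lt.mp hn))
    rw [hP'0, map_zero]
  -- surjectivity
  have hsurj : Function.Surjective ψ₀ := by
    intro y
    obtain ⟨w, hw⟩ := (Matrix.mulVec_surjective_iff_isUnit.mpr hV)
      (fun i : Fin p => s ((i : ℕ) : ZMod p) y)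
    have hwrow : ∀ z : ZMod p, ∑ j : Fin p, (t + cast z) ^ (j : ℕ) * w j = s z y := by
      intro z
      have := congrFun hw ⟨z.val, ZMod.val_lt z⟩
      simp only [Matrix.mulVec, dotProduct, hVapp, ZMod.natCast_zmod_val] at this
      exact this
    have hwfix : ∀ k : ZMod p, (fun j => s k (w j)) = w := by
      intro k
      apply Matrix.mulVec_injective_of_isUnit hV
      rw [hw]
      ext i
      simp only [Matrix.mulVec, dotProduct, hVapp]
      have := congrArg (s k) (hwrow (((i : ℕ) : ZMod p) - k))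
      rw [map_sum] at this
      have e : s k (s (((i : ℕ) : ZMod p) - k) y) = s ((i : ℕ) : ZMod p) y := by
        change ((s k).comp (s (((i : ℕ) : ZMod p) - k))) y = _
        rw [← hsadd, sub_add_cancel]
      rw [e] at this
      rw [← this]
      refine Finset.sum_congr rfl (fun j _ => ?_)
      rw [map_mul, map_pow, map_add, htz, hscast]
      congr 2
      rw [add_assoc, ← map_add, add_sub_cancel]
    have hwA : ∀ j : Fin p, ∃ c : A, algebraMap A B c = w j := by
      intro j
      apply exists_of_fixed σ hbij.1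
      intro g
      exact congrFun (hwfix (Multiplicative.toAdd g)) j
    choose c hc using hwA
    refine ⟨Ideal.Quotient.mk _ (∑ j : Fin p, C (c j) * X ^ (j : ℕ)), ?_⟩
    rw [hψmk, map_sum]
    have h0 := hwrow 0
    rw [hs0] at h0
    rw [← show (AlgHom.id A B) y = y from rfl, ← h0]
    refine Finset.sum_congr rfl (fun j _ => ?_)
    rw [map_mul, aeval_C, map_pow, aeval_X, hc, map_zero, add_zero, mul_comm]
  refine ⟨a, AlgEquiv.ofBijective ψ₀ ⟨hinj, hsurj⟩, ?_⟩
  intro j x
  exact hequiv j x

end Groth.Agent.Lib.T2H3.ASCover
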