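import Mathlib
import Groth.Prelude.Def_Magnet3
import Groth.Agent.Lib.T2H3AMonPts

/-!
# Affine charts of `A¹ × Y`

For `c : Spec C ⟶ S`, the `S`-scheme `Spec C[X]` is the product `A(ℕ)_S ×_S Spec C`: the morphism
`theta c : Spec C[X] ⟶ A(ℕ)_S ⊗ Spec C` with components "the function `X`" and the projection is
an isomorphism.
-/

set_option autoImplicit false
set_option linter.style.haveILetI false
universe u

open CategoryTheory CategoryTheory.Limits MonoidalCategory CartesianMonoidalCategory MonObj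
  AlgebraicGeometry Opposite Polynomial

namespace Groth.Agent.Lib.T2H3.AffLineChart

open Magnet Groth.Agent.Lib.Helper27.GaGm Groth.Agent.Lib.T2H3.AMonPts

variable {S : Scheme.{u}} {C : Type u} [CommRing C] (c : Spec (CommRingCat.of C) ⟶ S)

/-- the projection `Spec C[X] ⟶ Spec C`. -/
noncomputable def proj (C : Type u) [CommRing C] :
    Spec (CommRingCat.of C[X]) ⟶ Spec (CommRingCat.of C) :=
  Spec.map (CommRingCat.ofHom (Polynomial.C : C →+* C[X]))

/-- `Spec C[X]` as an `S`-scheme. -/
noncomputable def ZC : Over S := Over.mk (proj C ≫ c)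

/-- the projection `Spec C[X] ⟶ Spec C` over `S`. -/
noncomputable def projO : ZC c ⟶ Over.mk c := Over.homMk (proj C) rfl

/-- the coordinate function `X` on `Spec C[X]`. -/
noncomputable def Xt : Γ((ZC c).left, ⊤) :=
  fn (𝟙 (Spec (CommRingCat.of C[X]))) (Polynomial.X : C[X])

/-- the chart `Spec C[X] ⟶ A(ℕ)_S ×_S Spec C`. -/
noncomputable def theta : ZC c ⟶ AMonS S ↥N₁ ⊗ Over.mk c :=
  lift ((aEquiv (ZC c)).symm (Xt c)) (projO c)

lemma theta_fst : theta c ≫ fst _ _ = (aEquiv (ZC c)).symm (Xt c) := lift_fst _ _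

lemma theta_snd : theta c ≫ snd _ _ = projO c := lift_snd _ _

lemma aFn_theta_fst : aFn n₀ (theta c ≫ fst _ _) = Xt c := by
  rw [theta_fst, aFn_aEquiv_symm]

/-- a point of `Spec C[X]` over `S`, as a morphism to `Spec C[X]`. -/
noncomputable def pt {T : Over S} (u : T ⟶ ZC c) : T.left ⟶ Spec (CommRingCat.of C[X]) := u.left

lemma fn_pt_X {T : Over S} (u : T ⟶ ZC c) :
    fn (pt c u) (Polynomial.X : C[X]) = aFn n₀ (u ≫ theta c ≫ fst _ _) := by
  rw [aFn_comp, aFn_theta_fst]
  have : pt c u = pt c u ≫ 𝟙 _ := (Category.comp_id _).symm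
  rw [this, fn_comp]
  rfl

lemma fn_pt_C {T : Over S} (u : T ⟶ ZC c) (r : C) :
    fn (pt c u) (Polynomial.C r) = fn (Y := T.left) (u ≫ theta c ≫ snd _ _).left r := by
  rw [theta_snd]
  have : (u ≫ projO c).left = pt c u ≫ Spec.map (CommRingCat.ofHom (Polynomial.C : C →+* C[X])) :=
    rfl
  rw [this, fn_specMap]

theorem theta_comp_injective (T : Over S) :
    Function.Injective (fun u : T ⟶ ZC c => u ≫ theta c) := by
  intro u v h
  dsimp only at h
  have hX : fn (pt c u) (Polynomial.X : C[X]) = fn (pt c v) Polynomial.X := by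
    rw [fn_pt_X, fn_pt_X, ← Category.assoc, ← Category.assoc, h]
  have hC : ∀ r : C, fn (pt c u) (Polynomial.C r) = fn (pt c v) (Polynomial.C r) := by
    intro r
    rw [fn_pt_C, fn_pt_C, ← Category.assoc, ← Category.assoc, h]
  have hh : fnHom (pt c u) = fnHom (pt c v) := by
    apply Polynomial.ringHom_ext
    · exact hC
    · exact hX
  apply Over.OverMorphism.ext
  change pt c u = pt c v
  apply fn_ext
  intro a
  exact congrArg (fun k : _ →+* _ => k a) hh

theorem theta_comp_surjective (T : Over S) :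
    Function.Surjective (fun u : T ⟶ ZC c => u ≫ theta c) := by
  intro w
  set m : T ⟶ AMonS S ↥N₁ := w ≫ fst _ _ with hm
  set t : T ⟶ Over.mk c := w ≫ snd _ _ with ht
  let tl : T.left ⟶ Spec (CommRingCat.of C) := t.left
  obtain ⟨u₀, hu₀⟩ := fn_surj (Y := T.left) (Polynomial.eval₂RingHom (fnHom tl) (aFn n₀ m))
  have h1 : u₀ ≫ proj C = tl := by
    apply fn_ext
    intro r
    unfold proj
    rw [fn_specMap, hu₀]
    simp [fn_eq]
  have hw : u₀ ≫ (ZC c).hom = T.hom := by
    change u₀ ≫ proj C ≫ c = T.hom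
    rw [← Category.assoc, h1]
    exact Over.w t
  refine ⟨Over.homMk u₀ hw, ?_⟩
  dsimp only
  apply CartesianMonoidalCategory.hom_ext
  · rw [Category.assoc]
    apply aFn_injective
    rw [← fn_pt_X]
    change fn u₀ Polynomial.X = aFn n₀ m
    rw [hu₀]
    simp
  · rw [Category.assoc, theta_snd]
    apply Over.OverMorphism.ext
    exact h1

instance isIso_theta : IsIso (theta c) :=
  isIso_of_yoneda_map_bijective _ fun T => ⟨theta_comp_injective c T, theta_comp_surjective c T⟩

instance isIso_theta_left : IsIso (theta c).left :=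
  inferInstanceAs (IsIso ((Over.forget _).map (theta c)))

end Groth.Agent.Lib.T2H3.AffLineChart
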