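import Mathlib
import Groth.Prelude.Def_AlgSpInf
import Groth.Agent.Lib.T2H1FormalYon
import Groth.Agent.S1488

/-!
# Representable smooth / unramified maps of fppf sheaves are formally smooth / unramified (helper3)
-/

set_option autoImplicit false
set_option linter.style.haveILetI false
universe u
open CategoryTheory CategoryTheory.Limits AlgebraicGeometry Opposite
open AlgSp

namespace Groth.Agent.Lib.T2H3.AlgSpFormal

variable {S : Scheme.{u}}

/-- a representable map of fppf sheaves all of whose scheme base changes have the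
infinitesimal lifting property is formally smooth. -/
theorem isFormallySmoothMor_of_repWith {F G : AlgSp.Sp S} (a : F ⟶ G)
    (P : MorphismProperty Scheme.{u})
    (hP : ∀ {X Y : Scheme.{u}} (g : X ⟶ Y), P g → MoreMor.IsFormallySmoothHom g)
    (ha : AlgSp.RepWith P a) : AlgSp.IsFormallySmoothMor a := by
  intro sq
  obtain ⟨Q, pr, fstP, psq⟩ := ha.1 sq.bot
  have hfe : MoreMor.IsFormallySmoothHom pr.left := hP _ (ha.2 _ _ pr psq)
  obtain ⟨s₀, hs₀⟩ := (AlgSp.yon S).map_surjective
    (psq.lift sq.top ((AlgSp.yon S).map sq.j) sq.comm)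
  have hs1 : (AlgSp.yon S).map s₀ ≫ fstP = sq.top := by rw [hs₀]; exact psq.lift_fst _ _ _
  have hs2 : s₀ ≫ pr = sq.j := by
    apply (AlgSp.yon S).map_injective
    rw [Functor.map_comp, hs₀]
    exact psq.lift_snd _ _ _
  have hs2' : s₀.left ≫ pr.left = Spec.map (CommRingCat.ofHom (Ideal.Quotient.mk sq.I)) :=
    congrArg (fun m => m.left) hs2
  obtain ⟨σ₀, hσ1, hσ2⟩ := hfe sq.A sq.I sq.sq_zero s₀.left (𝟙 _)
    (by rw [Category.comp_id, hs2'])
  have hσw : σ₀ ≫ Q.hom = sq.str := by
    rw [← Over.w pr, ← Category.assoc, hσ2]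
    exact Category.id_comp _
  let σ : sq.ptT' ⟶ Q := Over.homMk σ₀ hσw
  have hσpr : σ ≫ pr = 𝟙 _ := by
    apply Over.OverMorphism.ext
    exact hσ2
  have hjσ : sq.j ≫ σ = s₀ := by
    apply Over.OverMorphism.ext
    exact hσ1
  refine ⟨(AlgSp.yon S).map σ ≫ fstP, ?_, ?_⟩
  · rw [← Category.assoc, ← Functor.map_comp, hjσ, hs1]
  · rw [Category.assoc, psq.w, ← Category.assoc, ← Functor.map_comp, hσpr,
      CategoryTheory.Functor.map_id, Category.id_comp]

/-- a representable map of fppf sheaves all of whose scheme base changes are formally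
unramified is formally unramified. -/
theorem isFormallyUnramifiedMor_of_repWith {F G : AlgSp.Sp S} (a : F ⟶ G)
    (P : MorphismProperty Scheme.{u})
    (hP : ∀ {X Y : Scheme.{u}} (g : X ⟶ Y), P g → FormallyUnramified g)
    (ha : AlgSp.RepWith P a) : AlgSp.IsFormallyUnramifiedMor a := by
  intro sq l l' hl1 hl2 hl1' hl2'
  obtain ⟨Q, pr, fstP, psq⟩ := ha.1 sq.bot
  haveI : FormallyUnramified pr.left := hP _ (ha.2 _ _ pr psq)
  have hu := Groth.Agent.Lib.T2H1.FormalYon.isFormallyUnramifiedMor_yon_map pr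
  -- the sections attached to the two lifts
  let τ := psq.lift l (𝟙 _) (by rw [hl2, Category.id_comp])
  let τ' := psq.lift l' (𝟙 _) (by rw [hl2', Category.id_comp])
  have hτ1 : τ ≫ fstP = l := psq.lift_fst _ _ _
  have hτ2 : τ ≫ (AlgSp.yon S).map pr = 𝟙 _ := psq.lift_snd _ _ _
  have hτ1' : τ' ≫ fstP = l' := psq.lift_fst _ _ _
  have hτ2' : τ' ≫ (AlgSp.yon S).map pr = 𝟙 _ := psq.lift_snd _ _ _
  -- the lifting square for `h_pr`
  let sq' : AlgSp.InfSq ((AlgSp.yon S).map pr) :=
    { A := sq.A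
      I := sq.I
      sq_zero := sq.sq_zero
      str := sq.str
      top := (AlgSp.yon S).map sq.j ≫ τ
      bot := 𝟙 _
      comm := by rw [Category.assoc, hτ2] }
  have hττ' : τ = τ' := by
    refine hu sq' τ τ' rfl hτ2 ?_ hτ2'
    change (AlgSp.yon S).map sq.j ≫ τ' = (AlgSp.yon S).map sq.j ≫ τ
    apply psq.hom_ext
    · rw [Category.assoc, Category.assoc, hτ1, hτ1', hl1, hl1']
    · rw [Category.assoc, Category.assoc, hτ2, hτ2']
  rw [← hτ1, ← hτ1', hττ']

end Groth.Agent.Lib.T2H3.AlgSpFormal
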