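import Mathlib
import Groth.Prelude.Def_TwC

/-!
# Morphisms to a constant scheme `M_S`

A `T`-point of the constant `S`-scheme `M_S = ∐_M S` is the same as a decomposition of `T` into
pairwise disjoint open subschemes indexed by `M`.

* `comp_preimage`: on the preimage of the component `m`, a morphism to `M_S` is the constant point `m`.
* `exists_hom_of_disjoint_cover`: the morphism attached to a disjoint open cover.
* `hom_ext_of_preimage_le`: two morphisms with comparable preimages of components are equal.
-/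

set_option autoImplicit false
set_option linter.style.haveILetI false
set_option linter.unusedSectionVars false
universe v u

namespace Groth.Agent.Lib.T2H3.ConstSch

open CategoryTheory MonoidalCategory CartesianMonoidalCategory AlgebraicGeometry Limits

variable {S : Scheme.{u}} (M : Type v) [Small.{u} M]

/-- the component of index `m` of the constant scheme -/
noncomputable abbrev comp (m : M) : S ⟶ (TwC.const S M).left := Sigma.ι (fun _ : M => S) m

theorem comp_hom (m : M) : comp (S := S) M m ≫ (TwC.const S M).hom = 𝟙 S := by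
  simp [comp]

/-- the preimage of the component `m` under a morphism to the constant scheme. -/
noncomputable def pre {T : Over S} (g : T ⟶ TwC.const S M) (m : M) : T.left.Opens :=
  g.left ⁻¹ᵁ (comp (S := S) M m).opensRange

variable {M}

/-- on the preimage of the component `m`, a morphism to `M_S` is the constant point `m`. -/
theorem ι_pre_comp {T : Over S} (g : T ⟶ TwC.const S M) (m : M) :
    (pre M g m).ι ≫ g.left = (pre M g m).ι ≫ T.hom ≫ comp (S := S) M m := by
  have hr : Set.range ((pre M g m).ι ≫ g.left) ⊆ Set.range (comp (S := S) M m) := by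
    rintro _ ⟨x, rfl⟩
    exact x.2
  have h1 := IsOpenImmersion.lift_fac (comp (S := S) M m) ((pre M g m).ι ≫ g.left) hr
  have h2 : IsOpenImmersion.lift (comp (S := S) M m) ((pre M g m).ι ≫ g.left) hr =
      (pre M g m).ι ≫ T.hom := by
    have := Over.w g
    have h3 : (pre M g m).ι ≫ g.left ≫ (TwC.const S M).hom = (pre M g m).ι ≫ T.hom := by
      rw [this]
    rw [← Category.assoc, ← h1, Category.assoc, comp_hom, Category.comp_id] at h3
    exact h3
  rw [← h1, h2, Category.assoc]

theorem pre_disjoint {T : Over S} (g : T ⟶ TwC.const S M) {m m' : M} (h : m ≠ m') :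
    pre M g m ⊓ pre M g m' = ⊥ := by
  have := disjoint_opensRange_sigmaι (fun _ : M => S) m m' h
  unfold pre
  rw [← Scheme.Hom.preimage_inf, disjoint_iff.mp this]
  rfl

theorem iSup_pre {T : Over S} (g : T ⟶ TwC.const S M) : ⨆ m, pre M g m = ⊤ := by
  rw [eq_top_iff]
  intro x _
  obtain ⟨m, y, hy⟩ := (sigmaOpenCover (fun _ : M => S)).exists_eq (g.left x)
  rw [TopologicalSpace.Opens.mem_iSup]
  exact ⟨m, y, hy⟩

/-- a disjoint open cover presents `T` as a coproduct. -/
theorem nonempty_isColimit_of_disjoint_cover {X : Scheme.{u}} (U : M → X.Opens)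
    (hcov : ⨆ m, U m = ⊤) (hdisj : ∀ m m', m ≠ m' → U m ⊓ U m' = ⊥) :
    Nonempty (IsColimit (Cofan.mk X fun m => (U m).ι)) := by
  apply nonempty_isColimit_cofanMk_of
  · simpa using hcov
  · intro m m' h
    simp only [Function.onFun, Scheme.Opens.opensRange_ι]
    rw [disjoint_iff]
    exact hdisj m m' h

/-- the morphism to the constant scheme attached to a disjoint open cover. -/
theorem exists_hom_of_disjoint_cover {T : Over S} (U : M → T.left.Opens)
    (hcov : ⨆ m, U m = ⊤) (hdisj : ∀ m m', m ≠ m' → U m ⊓ U m' = ⊥) :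
    ∃ g : T ⟶ TwC.const S M, ∀ m, (U m).ι ≫ g.left = (U m).ι ≫ T.hom ≫ comp (S := S) M m := by
  obtain ⟨hc⟩ := nonempty_isColimit_of_disjoint_cover U hcov hdisj
  let g0 : T.left ⟶ (TwC.const S M).left :=
    Cofan.IsColimit.desc hc fun m => (U m).ι ≫ T.hom ≫ comp (S := S) M m
  have hg0 : ∀ m, (U m).ι ≫ g0 = (U m).ι ≫ T.hom ≫ comp (S := S) M m := fun m =>
    Cofan.IsColimit.fac hc _ m
  refine ⟨Over.homMk g0 ?_, hg0⟩
  refine Cofan.IsColimit.hom_ext hc _ _ fun m => ?_
  change (U m).ι ≫ g0 ≫ (TwC.const S M).hom = (U m).ι ≫ T.hom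
  rw [← Category.assoc, hg0, Category.assoc, Category.assoc, comp_hom, Category.comp_id]

/-- two morphisms to the constant scheme with comparable preimages of the components agree. -/
theorem hom_ext_of_preimage_le {T : Over S} (g₁ g₂ : T ⟶ TwC.const S M)
    (h : ∀ m, pre M g₁ m ≤ pre M g₂ m) : g₁ = g₂ := by
  obtain ⟨hc⟩ := nonempty_isColimit_of_disjoint_cover (fun m => pre M g₁ m) (iSup_pre g₁)
    (fun m m' hm => pre_disjoint g₁ hm)
  ext1
  refine Cofan.IsColimit.hom_ext hc _ _ fun m => ?_
  change (pre M g₁ m).ι ≫ g₁.left = (pre M g₁ m).ι ≫ g₂.left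
  rw [ι_pre_comp, ← Scheme.homOfLE_ι _ (h m), Category.assoc, Category.assoc, ι_pre_comp]

/-- the preimages of the components under the morphism attached to a disjoint cover. -/
theorem le_pre_of_forall {T : Over S} (U : M → T.left.Opens) (g : T ⟶ TwC.const S M)
    (hg : ∀ m, (U m).ι ≫ g.left = (U m).ι ≫ T.hom ≫ comp (S := S) M m) (m : M) :
    U m ≤ pre M g m := by
  intro x hx
  change g.left x ∈ Set.range (comp (S := S) M m)
  have h1 : g.left x = ((U m).ι ≫ g.left) ⟨x, hx⟩ := rfl
  rw [h1, hg m]
  exact ⟨((U m).ι ≫ T.hom) ⟨x, hx⟩, rfl⟩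

end Groth.Agent.Lib.T2H3.ConstSch
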