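import Mathlib
import Groth.Prelude.Def_AlgGrp
import Groth.Prelude.Def_NonAbH2
import Groth.Agent.Lib.Helper12Act
import Groth.Agent.Lib.Helper12Torsor
import Groth.Agent.Lib.Helper12PseudoTorsor
import Groth.Agent.Lib.Helper12AffineDescent
import Groth.Agent.Lib.Helper12TorsorDescent2

/-!
# Geometry for Hilbert 90: functions on `A ⊗ Z` for varying affine `Z`, relative trivialisations
-/

set_option autoImplicit false
set_option linter.style.haveILetI false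
universe u

open CategoryTheory MonoidalCategory CartesianMonoidalCategory MonObj GrpObj AlgebraicGeometry Limits
open TensorProduct

namespace Groth.Agent.Lib.T2H3.H90Geom

/-- functions on a fibre product of affine schemes. -/
theorem exists_tensor_equiv_of_isPullback {P X Y Z : Scheme.{u}} {fst : P ⟶ X} {snd : P ⟶ Y}
    {f : X ⟶ Z} {g : Y ⟶ Z} [IsAffine X] [IsAffine Y] [IsAffine Z] (h : IsPullback fst snd f g) :
    letI := f.appTop.hom.toAlgebra
    letI := g.appTop.hom.toAlgebra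
    ∃ e : Γ(X, ⊤) ⊗[Γ(Z, ⊤)] Γ(Y, ⊤) ≃+* Γ(P, ⊤),
      (∀ a, e (a ⊗ₜ 1) = fst.appTop a) ∧ (∀ b, e (1 ⊗ₜ b) = snd.appTop b) := by
  letI := f.appTop.hom.toAlgebra
  letI := g.appTop.hom.toAlgebra
  have hpo := isPushout_appTop_of_isPullback h
  have hpo' : IsPushout (CommRingCat.ofHom (algebraMap Γ(Z, ⊤) Γ(X, ⊤)))
      (CommRingCat.ofHom (algebraMap Γ(Z, ⊤) Γ(Y, ⊤))) fst.appTop snd.appTop := hpo
  let iso := (CommRingCat.isPushout_tensorProduct Γ(Z, ⊤) Γ(X, ⊤) Γ(Y, ⊤)).isoIsPushout _ _ hpo'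
  refine ⟨iso.commRingCatIsoToRingEquiv, fun a => ?_, fun b => ?_⟩
  · have := (CommRingCat.isPushout_tensorProduct Γ(Z, ⊤) Γ(X, ⊤) Γ(Y, ⊤)).inl_isoIsPushout_hom _ _ hpo'
    exact congrArg (fun k => k.hom a) this
  · have := (CommRingCat.isPushout_tensorProduct Γ(Z, ⊤) Γ(X, ⊤) Γ(Y, ⊤)).inr_isoIsPushout_hom _ _ hpo'
    exact congrArg (fun k => k.hom b) this

variable {S : Scheme.{u}}

/-- the base change square for `A ⊗ -`. -/
theorem isPullback_whiskerLeft (A : Over S) {Z Z' : Over S} (w : Z' ⟶ Z) :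
    IsPullback (A ◁ w).left (snd A Z').left (snd A Z).left w.left := by
  have big : IsPullback (fst A Z').left (snd A Z').left A.hom Z'.hom :=
    IsPullback.of_hasPullback A.hom Z'.hom
  have right : IsPullback (fst A Z).left (snd A Z).left A.hom Z.hom :=
    IsPullback.of_hasPullback A.hom Z.hom
  have e1 : (A ◁ w).left ≫ (fst A Z).left = (fst A Z').left := by
    rw [← Over.comp_left, whiskerLeft_fst]
  have e2 : (A ◁ w).left ≫ (snd A Z).left = (snd A Z').left ≫ w.left := by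
    rw [← Over.comp_left, whiskerLeft_snd, Over.comp_left]
  have e3 : w.left ≫ Z.hom = Z'.hom := Over.w w
  refine IsPullback.of_right ?_ e2 right
  rw [e1, e3]
  exact big

lemma comp_left_appTop {Y Z W : Over S} (f : Y ⟶ Z) (g : Z ⟶ W) (b : Γ(W.left, ⊤)) :
    (f ≫ g).left.appTop b = f.left.appTop (g.left.appTop b) := by
  rw [Over.comp_left, Scheme.Hom.comp_appTop]
  rfl

/-- functions on `A ⊗ Z'` as a base change of functions on `A ⊗ Z`. -/
theorem exists_baseChange_equiv (A : Over S) {Z Z' : Over S} (w : Z' ⟶ Z) [IsAffine (A ⊗ Z).left]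
    [IsAffine Z.left] [IsAffine Z'.left] :
    letI := (snd A Z).left.appTop.hom.toAlgebra
    letI := w.left.appTop.hom.toAlgebra
    ∃ e : Γ((A ⊗ Z).left, ⊤) ⊗[Γ(Z.left, ⊤)] Γ(Z'.left, ⊤) ≃+* Γ((A ⊗ Z').left, ⊤),
      (∀ a, e (a ⊗ₜ 1) = (A ◁ w).left.appTop a) ∧
      (∀ b, e (1 ⊗ₜ b) = (snd A Z').left.appTop b) :=
  exists_tensor_equiv_of_isPullback (isPullback_whiskerLeft A w)

/-- naturality of the base change isomorphisms in `A`. -/
theorem baseChange_equiv_natural {A₁ A₂ : Over S} (f : A₁ ⟶ A₂) {Z Z' : Over S} (w : Z' ⟶ Z) :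
    letI := (snd A₁ Z).left.appTop.hom.toAlgebra
    letI := (snd A₂ Z).left.appTop.hom.toAlgebra
    letI := w.left.appTop.hom.toAlgebra
    ∀ (e₁ : Γ((A₁ ⊗ Z).left, ⊤) ⊗[Γ(Z.left, ⊤)] Γ(Z'.left, ⊤) ≃+* Γ((A₁ ⊗ Z').left, ⊤))
      (e₂ : Γ((A₂ ⊗ Z).left, ⊤) ⊗[Γ(Z.left, ⊤)] Γ(Z'.left, ⊤) ≃+* Γ((A₂ ⊗ Z').left, ⊤))
      (_ : ∀ a, e₁ (a ⊗ₜ 1) = (A₁ ◁ w).left.appTop a)
      (_ : ∀ b, e₁ (1 ⊗ₜ b) = (snd A₁ Z').left.appTop b)
      (_ : ∀ a, e₂ (a ⊗ₜ 1) = (A₂ ◁ w).left.appTop a)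
      (_ : ∀ b, e₂ (1 ⊗ₜ b) = (snd A₂ Z').left.appTop b)
      (b : Γ((A₂ ⊗ Z).left, ⊤)) (k : Γ(Z'.left, ⊤)),
      (f ▷ Z').left.appTop (e₂ (b ⊗ₜ k)) = e₁ ((f ▷ Z).left.appTop b ⊗ₜ k) := by
  letI := (snd A₁ Z).left.appTop.hom.toAlgebra
  letI := (snd A₂ Z).left.appTop.hom.toAlgebra
  letI := w.left.appTop.hom.toAlgebra
  intro e₁ e₂ h₁ h₁' h₂ h₂' b k
  have hb : b ⊗ₜ[Γ(Z.left, ⊤)] k = (b ⊗ₜ 1) * (1 ⊗ₜ k) := by
    rw [Algebra.TensorProduct.tmul_mul_tmul, _root_.mul_one, _root_.one_mul]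
  have hb' : (f ▷ Z).left.appTop b ⊗ₜ[Γ(Z.left, ⊤)] k =
      ((f ▷ Z).left.appTop b ⊗ₜ 1) * (1 ⊗ₜ k) := by
    rw [Algebra.TensorProduct.tmul_mul_tmul, _root_.mul_one, _root_.one_mul]
  rw [hb, hb', map_mul, map_mul, map_mul, h₂, h₂', h₁, h₁', ← comp_left_appTop, ← comp_left_appTop,
    ← comp_left_appTop, ← whisker_exchange, whiskerRight_snd]

/-- `(f ▷ Z)^*` is compatible with the structure maps from functions on `Z`. -/
lemma whiskerRight_appTop_snd {A₁ A₂ : Over S} (f : A₁ ⟶ A₂) (Z : Over S) (k : Γ(Z.left, ⊤)) :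
    (f ▷ Z).left.appTop ((snd A₂ Z).left.appTop k) = (snd A₁ Z).left.appTop k := by
  rw [← comp_left_appTop, whiskerRight_snd]

set_option backward.isDefEq.respectTransparency.types false in
/-- a single affine flat covering with a section, from an fpqc cover with sections. -/
theorem exists_affine_cover_of_cover {T B X : Scheme.{u}} [IsAffine T]
    (𝒰 : Scheme.Cover Scheme.fpqcPrecoverage T) (q : T ⟶ B) (π : X ⟶ B)
    (hs : ∀ i : 𝒰.I₀, ∃ s : 𝒰.X i ⟶ X, s ≫ π = 𝒰.f i ≫ q) :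
    ∃ (W : Scheme.{u}) (p : W ⟶ T) (s : W ⟶ X), IsAffine W ∧ Flat p ∧ Surjective p ∧
      s ≫ π = p ≫ q := by
  let 𝒰' : Scheme.Cover (Scheme.propQCPrecoverage @Flat) T := 𝒰
  have hflat : ∀ i, Flat (𝒰.f i) := fun i => 𝒰'.forgetQc.map_prop i
  have hqc : QuasiCompactCover 𝒰.toPreZeroHypercover :=
    inferInstanceAs (QuasiCompactCover 𝒰'.toPreZeroHypercover)
  obtain ⟨n, a, W, hW, hU⟩ :=
    QuasiCompactCover.exists_isAffineOpen_of_isCompact 𝒰.toPreZeroHypercover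
      (U := (⊤ : T.Opens)) (isAffineOpen_top T).isCompact
  have hWaff : ∀ k, IsAffine (W k : Scheme.{u}) := hW
  choose σ hσ using hs
  let p : (∐ fun k => (W k : Scheme.{u})) ⟶ T := Sigma.desc fun k => (W k).ι ≫ 𝒰.f (a k)
  have hp : ∀ k, Sigma.ι (fun k => (W k : Scheme.{u})) k ≫ p = (W k).ι ≫ 𝒰.f (a k) :=
    fun k => Sigma.ι_desc _ _
  refine ⟨∐ fun k => (W k : Scheme.{u}), p, Sigma.desc fun k => (W k).ι ≫ σ (a k), inferInstance,
    ?_, ?_, ?_⟩
  · rw [IsZariskiLocalAtSource.iff_of_openCover (P := @Flat) (sigmaOpenCover _)]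
    intro k
    change Flat (Sigma.ι (fun k => (W k : Scheme.{u})) k ≫ p)
    rw [hp]
    have := hflat (a k)
    infer_instance
  · constructor
    intro y
    have hy : y ∈ ((⊤ : T.Opens) : Set T) := trivial
    rw [← hU] at hy
    obtain ⟨k, w, hw, hwy⟩ := Set.mem_iUnion.mp hy
    refine ⟨Sigma.ι (fun k => (W k : Scheme.{u})) k ⟨w, hw⟩, ?_⟩
    calc p (Sigma.ι (fun k => (W k : Scheme.{u})) k ⟨w, hw⟩)
        = (Sigma.ι (fun k => (W k : Scheme.{u})) k ≫ p) ⟨w, hw⟩ := by simp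
      _ = ((W k).ι ≫ 𝒰.f (a k)) ⟨w, hw⟩ := by rw [hp]
      _ = 𝒰.f (a k) w := rfl
      _ = y := hwy
  · apply Sigma.hom_ext
    intro k
    rw [Sigma.ι_desc_assoc, reassoc_of% hp, Category.assoc, hσ]

/-- a single affine flat covering with a section, from an fpqc covering family with sections. -/
theorem exists_affine_cover {T B X : Scheme.{u}} [IsAffine T] (R : Presieve T)
    (hR : R ∈ Scheme.fpqcPrecoverage T) (q : T ⟶ B) (π : X ⟶ B)
    (hsec : ∀ ⦃Y : Scheme.{u}⦄ (g : Y ⟶ T), R g → ∃ s : Y ⟶ X, s ≫ π = g ≫ q) :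
    ∃ (W : Scheme.{u}) (p : W ⟶ T) (s : W ⟶ X), IsAffine W ∧ Flat p ∧ Surjective p ∧
      s ≫ π = p ≫ q := by
  obtain ⟨I, Y, f, rfl⟩ := Presieve.exists_eq_ofArrows R
  exact exists_affine_cover_of_cover ⟨⟨I, Y, f⟩, hR⟩ q π (fun i => hsec (f i) ⟨i⟩)

section Torsor

open Groth.Agent.Lib.Helper12 Groth.Agent.Lib.Helper12.PseudoTorsor

variable {H X : Over S} [GrpObj H] (a : AlgGrp.Action H X)

/-- an fpqc torsor under an affine group is affine over the base. -/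
theorem isAffineHom_of_isTorsorFor (hH : IsAffineHom H.hom)
    (h : NonAbH1.IsTorsorFor Scheme.fpqcPrecoverage a) : IsAffineHom X.hom := by
  obtain ⟨hps, R, hR, hsec⟩ := h
  exact of_mem_fpqcPrecoverage descendsAlong_isAffineHom X.hom R hR
    (fun Y' f hf => pullback_snd_of_hasSectionOver a hps hH f (hsec f hf))

lemma isAffine_tensor_left (A Z : Over S) (hA : IsAffineHom A.hom) [IsAffine Z.left] :
    IsAffine (A ⊗ Z).left :=
  haveI : IsAffineHom (pullback.snd A.hom Z.hom) :=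
    MorphismProperty.pullback_snd (P := @IsAffineHom) _ _ hA
  isAffine_of_isAffineHom (pullback.snd A.hom Z.hom)

lemma isAffineHom_tensor_hom (A B : Over S) (hA : IsAffineHom A.hom) (hB : IsAffineHom B.hom) :
    IsAffineHom (A ⊗ B).hom := by
  haveI := hA
  haveI : IsAffineHom (pullback.fst A.hom B.hom) :=
    MorphismProperty.pullback_fst (P := @IsAffineHom) _ _ hB
  change IsAffineHom (pullback.fst A.hom B.hom ≫ A.hom)
  infer_instance

/-- for a locally trivial `X` and an affine `Z`, an affine faithfully flat `Z' ⟶ Z` over which `X`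
acquires a point. -/
theorem exists_cover_section (X : Over S)
    (hloc : NonAbH1.IsLocallyTrivialFor Scheme.fpqcPrecoverage X) (Z : Over S) [IsAffine Z.left] :
    ∃ (Z' : Over S) (w : Z' ⟶ Z) (_ : Z' ⟶ X), IsAffine Z'.left ∧ Flat w.left ∧
      Surjective w.left := by
  obtain ⟨R, hR, hsec⟩ := hloc
  have hR' : R.pullbackArrows Z.hom ∈ Scheme.fpqcPrecoverage Z.left :=
    Precoverage.pullbackArrows_mem Z.hom hR
  obtain ⟨W, p, s, hW, hp1, hp2, hs⟩ := exists_affine_cover (R.pullbackArrows Z.hom) hR' Z.hom X.hom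
    (by
      rintro Y _ ⟨T, k, hk⟩
      obtain ⟨s, hs⟩ := hsec k hk
      exact ⟨pullback.fst k Z.hom ≫ s, by rw [Category.assoc, hs, pullback.condition]⟩)
  exact ⟨Over.mk (p ≫ Z.hom), Over.homMk p rfl, Over.homMk s hs, hW, hp1, hp2⟩

/-- key step for `exists_section_of_equivariant`: after base change to `V` with a point of `X`. -/
theorem isIso_whiskerRight_of_section (hps : NonAbH1.IsPseudoTorsorSch a)
    (Z : Over S) (φ : X ⊗ Z ⟶ H)
    (hφ : ∀ (T : Over S) (g : T ⟶ H) (x : T ⟶ X) (z : T ⟶ Z),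
      lift (lift g x ≫ a.act) z ≫ φ = g * (lift x z ≫ φ)) {V : Over S} (s : V ⟶ X) :
    IsIso (lift φ (snd X Z) ▷ V) := by
  set Ψ : X ⊗ Z ⟶ H ⊗ Z := lift φ (snd X Z) with hΨ
  set pH : (H ⊗ Z) ⊗ V ⟶ H := fst _ _ ≫ fst _ _ with hpH
  set pZ : (H ⊗ Z) ⊗ V ⟶ Z := fst _ _ ≫ snd _ _ with hpZ
  set pV : (H ⊗ Z) ⊗ V ⟶ V := snd _ _ with hpV
  set qX : (X ⊗ Z) ⊗ V ⟶ X := fst _ _ ≫ fst _ _ with hqX
  set qZ : (X ⊗ Z) ⊗ V ⟶ Z := fst _ _ ≫ snd _ _ with hqZ
  set qV : (X ⊗ Z) ⊗ V ⟶ V := snd _ _ with hqV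
  set c : (H ⊗ Z) ⊗ V ⟶ H := lift (pV ≫ s) pZ ≫ φ with hc
  set J : (H ⊗ Z) ⊗ V ⟶ (X ⊗ Z) ⊗ V :=
    lift (lift (lift (pH * c⁻¹) (pV ≫ s) ≫ a.act) pZ) pV with hJ
  have hfstA : fst (X ⊗ Z) V = lift qX qZ := by
    apply CartesianMonoidalCategory.hom_ext <;> simp [qX, qZ]
  have hidA : 𝟙 ((X ⊗ Z) ⊗ V) = lift (lift qX qZ) qV := by
    apply CartesianMonoidalCategory.hom_ext
    · rw [lift_fst, Category.id_comp, hfstA]
    · rw [lift_snd, Category.id_comp]
  have hfstB : fst (H ⊗ Z) V = lift pH pZ := by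
    apply CartesianMonoidalCategory.hom_ext <;> simp [pH, pZ]
  have hidB : 𝟙 ((H ⊗ Z) ⊗ V) = lift (lift pH pZ) pV := by
    apply CartesianMonoidalCategory.hom_ext
    · rw [lift_fst, Category.id_comp, hfstB]
    · rw [lift_snd, Category.id_comp]
  have e1 : (Ψ ▷ V) ≫ pH = lift qX qZ ≫ φ := by
    rw [hpH, ← Category.assoc, whiskerRight_fst, Category.assoc, hΨ, lift_fst, hfstA]
  have e2 : (Ψ ▷ V) ≫ pZ = qZ := by
    rw [hpZ, ← Category.assoc, whiskerRight_fst, Category.assoc, hΨ, lift_snd]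
  have e3 : (Ψ ▷ V) ≫ pV = qV := by
    rw [hpV, whiskerRight_snd]
  have e4 : (Ψ ▷ V) ≫ c = lift (qV ≫ s) qZ ≫ φ := by
    rw [hc, ← Category.assoc, comp_lift, ← Category.assoc, e2, e3]
  have e5 : J ≫ qX = lift (pH * c⁻¹) (pV ≫ s) ≫ a.act := by
    rw [hJ, hqX, ← Category.assoc, lift_fst, lift_fst]
  have e6 : J ≫ qZ = pZ := by
    rw [hJ, hqZ, ← Category.assoc, lift_fst, lift_snd]
  have e7 : J ≫ qV = pV := by
    rw [hJ, hqV, lift_snd]
  refine ⟨J, ?_, ?_⟩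
  · -- `(Ψ ▷ V) ≫ J = 𝟙`
    set d : (X ⊗ Z) ⊗ V ⟶ H := lift qX (qV ≫ s) ≫ diff a hps with hd
    have hd1 : lift d (qV ≫ s) ≫ a.act = qX := diff_act a hps qX (qV ≫ s)
    have hd2 : lift qX qZ ≫ φ = d * (lift (qV ≫ s) qZ ≫ φ) := by
      rw [← hφ, hd1]
    have hd3 : (Ψ ▷ V) ≫ (pH * c⁻¹) = d := by
      rw [MonObj.comp_mul, GrpObj.comp_inv, e1, e4, hd2, mul_inv_cancel_right]
    rw [hidA, hJ, comp_lift, comp_lift, ← Category.assoc, comp_lift, ← Category.assoc, e2, e3, hd3,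
      hd1]
  · -- `J ≫ (Ψ ▷ V) = 𝟙`
    have k1 : J ≫ (Ψ ▷ V) ≫ pH = pH := by
      rw [e1, ← Category.assoc, comp_lift, e5, e6, hφ, ← hc, inv_mul_cancel_right]
    have k2 : J ≫ (Ψ ▷ V) ≫ pZ = pZ := by rw [e2, e6]
    have k3 : J ≫ (Ψ ▷ V) ≫ pV = pV := by rw [e3, e7]
    rw [hidB]
    apply CartesianMonoidalCategory.hom_ext
    · apply CartesianMonoidalCategory.hom_ext
      · rw [lift_fst, lift_fst, Category.assoc, Category.assoc]; exact k1
      · rw [lift_fst, lift_snd, Category.assoc, Category.assoc]; exact k2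
    · rw [lift_snd, Category.assoc]; exact k3

/-- a morphism `φ : X × Z ⟶ H` which is equivariant in the first variable, with `X` a torsor, gives a
`Z`-point of `X` (namely the one where `φ` takes the value `1`). -/
theorem exists_section_of_equivariant (h : NonAbH1.IsTorsorFor Scheme.fpqcPrecoverage a)
    (Z : Over S) (φ : X ⊗ Z ⟶ H)
    (hφ : ∀ (T : Over S) (g : T ⟶ H) (x : T ⟶ X) (z : T ⟶ Z),
      lift (lift g x ≫ a.act) z ≫ φ = g * (lift x z ≫ φ)) : Nonempty (Z ⟶ X) := by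
  obtain ⟨hps, R, hR, hsec⟩ := h
  have hΨ : IsIso (lift φ (snd X Z)) := by
    refine Groth.Agent.Lib.Helper12.TorsorDescent.isIso_of_forall_isIso_whiskerRight _ R hR ?_
    intro T f hf
    obtain ⟨s0, hs0⟩ := hsec f hf
    exact isIso_whiskerRight_of_section a hps Z φ hφ (V := Over.mk f) (Over.homMk s0 hs0)
  exact ⟨lift (1 : Z ⟶ H) (𝟙 Z) ≫ inv (lift φ (snd X Z)) ≫ fst X Z⟩


/-- the morphism form and the point form of equivariance in the first variable. -/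
theorem equivariant_iff (Z : Over S) (φ : X ⊗ Z ⟶ H) :
    (∀ (T : Over S) (g : T ⟶ H) (x : T ⟶ X) (z : T ⟶ Z),
      lift (lift g x ≫ a.act) z ≫ φ = g * (lift x z ≫ φ)) ↔
    (a.act ▷ Z) ≫ φ = (fst (H ⊗ X) Z ≫ fst H X) * ((snd H X ▷ Z) ≫ φ) := by
  constructor
  · intro h
    have h1 := h ((H ⊗ X) ⊗ Z) (fst _ _ ≫ fst _ _) (fst _ _ ≫ snd _ _) (snd _ _)
    have e1 : lift (lift (fst (H ⊗ X) Z ≫ fst H X) (fst (H ⊗ X) Z ≫ snd H X) ≫ a.act)
        (snd (H ⊗ X) Z) = a.act ▷ Z := by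
      apply CartesianMonoidalCategory.hom_ext
      · rw [lift_fst, whiskerRight_fst]
        congr 1
        apply CartesianMonoidalCategory.hom_ext <;> simp
      · rw [lift_snd, whiskerRight_snd]
    have e2 : lift (fst (H ⊗ X) Z ≫ snd H X) (snd (H ⊗ X) Z) = snd H X ▷ Z := by
      apply CartesianMonoidalCategory.hom_ext
      · rw [lift_fst, whiskerRight_fst]
      · rw [lift_snd, whiskerRight_snd]
    rw [e1, e2] at h1
    exact h1
  · intro h T g x z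
    have e1 : lift (lift g x ≫ a.act) z = lift (lift g x) z ≫ (a.act ▷ Z) := by
      apply CartesianMonoidalCategory.hom_ext
      · rw [lift_fst, Category.assoc, whiskerRight_fst, lift_fst_assoc]
      · rw [lift_snd, Category.assoc, whiskerRight_snd, lift_snd]
    have e2 : lift x z = lift (lift g x) z ≫ (snd H X ▷ Z) := by
      apply CartesianMonoidalCategory.hom_ext
      · rw [lift_fst, Category.assoc, whiskerRight_fst, lift_fst_assoc, lift_snd]
      · rw [lift_snd, Category.assoc, whiskerRight_snd, lift_snd]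
    rw [e1, Category.assoc, h, MonObj.comp_mul, ← Category.assoc, ← Category.assoc, lift_fst,
      lift_fst, ← e2]

/-- the relative difference map with respect to a point `s : Z ⟶ X`. -/
noncomputable def relDiff (hps : NonAbH1.IsPseudoTorsorSch a) {Z : Over S} (s : Z ⟶ X) : X ⊗ Z ⟶ H :=
  lift (fst X Z) (snd X Z ≫ s) ≫ diff a hps

lemma relDiff_pt (hps : NonAbH1.IsPseudoTorsorSch a) {Z : Over S} (s : Z ⟶ X) (T : Over S)
    (g : T ⟶ H) (x : T ⟶ X) (z : T ⟶ Z) :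
    lift (lift g x ≫ a.act) z ≫ relDiff a hps s = g * (lift x z ≫ relDiff a hps s) := by
  unfold relDiff
  rw [← Category.assoc, ← Category.assoc, comp_lift, comp_lift, lift_fst, lift_fst,
    ← Category.assoc, ← Category.assoc, lift_snd, lift_snd, diff_act_left]

lemma relDiff_act (hps : NonAbH1.IsPseudoTorsorSch a) {Z : Over S} (s : Z ⟶ X) :
    lift (relDiff a hps s) (snd X Z ≫ s) ≫ a.act = fst X Z :=
  diff_act a hps (fst X Z) (snd X Z ≫ s)

/-- invariant functions on `X × Z`, when `X` has a `Z`-point, come from `Z`. -/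
theorem invariant_eq (hps : NonAbH1.IsPseudoTorsorSch a) {Z : Over S} (s : Z ⟶ X)
    (u : Γ((X ⊗ Z).left, ⊤))
    (hu : (a.act ▷ Z).left.appTop u = (snd H X ▷ Z).left.appTop u) :
    u = (snd X Z).left.appTop ((lift s (𝟙 Z)).left.appTop u) := by
  set d := relDiff a hps s with hd
  set ψ : X ⊗ Z ⟶ (H ⊗ X) ⊗ Z := lift (lift d⁻¹ (fst X Z)) (snd X Z) with hψ
  have h1 : ψ ≫ (snd H X ▷ Z) = 𝟙 _ := by
    apply CartesianMonoidalCategory.hom_ext
    · rw [Category.assoc, whiskerRight_fst, hψ, lift_fst_assoc, lift_snd, Category.id_comp]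
    · rw [Category.assoc, whiskerRight_snd, hψ, lift_snd, Category.id_comp]
  have h2 : lift d⁻¹ (fst X Z) ≫ a.act = snd X Z ≫ s := by
    conv_lhs => rw [← relDiff_act a hps s, ← hd, ← act_mul, inv_mul_cancel, act_one]
  have h3 : ψ ≫ (a.act ▷ Z) = snd X Z ≫ lift s (𝟙 Z) := by
    apply CartesianMonoidalCategory.hom_ext
    · rw [Category.assoc, whiskerRight_fst, hψ, lift_fst_assoc, h2, Category.assoc, lift_fst]
    · rw [Category.assoc, whiskerRight_snd, hψ, lift_snd, Category.assoc, lift_snd,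
        Category.comp_id]
  calc u = (ψ ≫ (snd H X ▷ Z)).left.appTop u := by
        rw [h1]; simp
    _ = ψ.left.appTop ((snd H X ▷ Z).left.appTop u) := comp_left_appTop _ _ _
    _ = ψ.left.appTop ((a.act ▷ Z).left.appTop u) := by rw [hu]
    _ = (ψ ≫ (a.act ▷ Z)).left.appTop u := (comp_left_appTop _ _ _).symm
    _ = (snd X Z ≫ lift s (𝟙 Z)).left.appTop u := by rw [h3]
    _ = _ := comp_left_appTop _ _ _

end Torsor

end Groth.Agent.Lib.T2H3.H90Geom
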