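import Mathlib
import Groth.Prelude.Def_Red2
import Groth.Agent.Lib.T2H3H90Alg
import Groth.Agent.Lib.T2H3H90Geom
import Groth.Agent.Lib.Helper27GaGm

/-!
# Hilbert 90 for the additive and the multiplicative group

fpqc torsors under `𝔾_a` and `𝔾_m` are Zariski locally trivial.
-/

set_option autoImplicit false
set_option linter.style.haveILetI false
universe u

open CategoryTheory MonoidalCategory CartesianMonoidalCategory MonObj GrpObj AlgebraicGeometry Limits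
open TensorProduct

namespace Groth.Agent.Lib.T2H3.H90

open Groth.Agent.Lib.T2H3.H90Alg Groth.Agent.Lib.T2H3.H90Geom Groth.Agent.Lib.Helper27.GaGm

variable {S : Scheme.{u}}

/-- Zariski local triviality from sections on open neighbourhoods of all points. -/
theorem isLocallyTrivialFor_zariski_of_forall (X : Over S)
    (h : ∀ x : S, ∃ V : S.Opens, x ∈ V ∧ NonAbH1.HasSectionOver X V.ι) :
    NonAbH1.IsLocallyTrivialFor Scheme.zariskiPrecoverage X := by
  choose V hV hsec using h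
  refine ⟨Presieve.ofArrows (fun x : S => ((V x : S.Opens) : Scheme.{u})) (fun x => (V x).ι), ?_, ?_⟩
  · rw [Scheme.ofArrows_mem_precoverage_iff]
    refine ⟨fun x => ⟨x, ?_⟩, fun x => inferInstance⟩
    rw [Scheme.Opens.range_ι]
    exact hV x
  · rintro T f ⟨x⟩
    exact hsec x

instance isAffineHom_Ga : IsAffineHom (Red.Ga S).hom := by
  haveI : IsAffine (Red.GaZ.{u}).left := inferInstanceAs (IsAffine (Spec _))
  haveI : IsAffineHom (Red.GaZ.{u}).hom := inferInstance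
  exact MorphismProperty.pullback_snd (P := @IsAffineHom) _ _ inferInstance

instance isAffineHom_Gm : IsAffineHom (Red.Gm S).hom := by
  haveI : IsAffine (Red.diag (ULift.{u} ℤ) ℤ).left := inferInstanceAs (IsAffine (Spec _))
  haveI : IsAffineHom (Red.diag (ULift.{u} ℤ) ℤ).hom := inferInstance
  exact MorphismProperty.pullback_snd (P := @IsAffineHom) _ _ inferInstance

/-- an fpqc torsor under `𝔾_a` has a section over every affine `Z` over `S`. -/
theorem nonempty_hom_Ga (X : Over S) (a : AlgGrp.Action (Red.Ga S) X)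
    (h : NonAbH1.IsTorsorFor Scheme.fpqcPrecoverage a) (Z : Over S) [IsAffine Z.left] :
    Nonempty (Z ⟶ X) := by
  have hH : IsAffineHom (Red.Ga S).hom := inferInstance
  have hX : IsAffineHom X.hom := isAffineHom_of_isTorsorFor a hH h
  obtain ⟨Z', w, s', hZ', hw1, hw2⟩ := exists_cover_section X h.2 Z
  haveI : IsAffine (X ⊗ Z).left := isAffine_tensor_left X Z hX
  haveI : IsAffine ((Red.Ga S ⊗ X) ⊗ Z).left :=
    isAffine_tensor_left (Red.Ga S ⊗ X) Z (isAffineHom_tensor_hom _ _ hH hX)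
  letI algK' : Algebra Γ(Z.left, ⊤) Γ(Z'.left, ⊤) := w.left.appTop.hom.toAlgebra
  letI algB : Algebra Γ(Z.left, ⊤) Γ((X ⊗ Z).left, ⊤) := (snd X Z).left.appTop.hom.toAlgebra
  letI algC : Algebra Γ(Z.left, ⊤) Γ(((Red.Ga S ⊗ X) ⊗ Z).left, ⊤) :=
    (snd (Red.Ga S ⊗ X) Z).left.appTop.hom.toAlgebra
  haveI FF : Module.FaithfullyFlat Γ(Z.left, ⊤) Γ(Z'.left, ⊤) :=
    (Flat.flat_and_surjective_iff_faithfullyFlat_of_isAffine w.left).mp ⟨hw1, hw2⟩
  obtain ⟨eB, eB1, eB2⟩ := exists_baseChange_equiv X w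
  obtain ⟨eC, eC1, eC2⟩ := exists_baseChange_equiv (Red.Ga S ⊗ X) w
  -- the solution over `Z'`
  set d := relDiff a h.1 s' with hd
  have hdeq := (equivariant_iff a Z' d).mp (relDiff_pt a h.1 s')
  have hb' : (a.act ▷ Z').left.appTop (Red.gaFn d) =
      eC (Red.gaFn (fst (Red.Ga S ⊗ X) Z ≫ fst (Red.Ga S) X) ⊗ₜ 1) +
        (snd (Red.Ga S) X ▷ Z').left.appTop (Red.gaFn d) := by
    rw [← gaFn_comp (a.act ▷ Z') d, hdeq, gaFn_mul, eC1, ← gaFn_comp ((Red.Ga S ⊗ X) ◁ w),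
      ← Category.assoc, whiskerLeft_fst, gaFn_comp (snd (Red.Ga S) X ▷ Z') d]
  obtain ⟨b, hb⟩ := exists_of_baseChange_add
    (K := Γ(Z.left, ⊤)) (K' := Γ(Z'.left, ⊤))
    (a.act ▷ Z).left.appTop.hom (snd (Red.Ga S) X ▷ Z).left.appTop.hom
    (fun k => whiskerRight_appTop_snd a.act Z k)
    (fun k => whiskerRight_appTop_snd (snd (Red.Ga S) X) Z k)
    (a.act ▷ Z').left.appTop.hom (snd (Red.Ga S) X ▷ Z').left.appTop.hom eB eC
    (fun b k => baseChange_equiv_natural a.act w eC eB eC1 eC2 eB1 eB2 b k)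
    (fun b k => baseChange_equiv_natural (snd (Red.Ga S) X) w eC eB eC1 eC2 eB1 eB2 b k)
    (Red.gaFn (fst (Red.Ga S ⊗ X) Z ≫ fst (Red.Ga S) X)) (Red.gaFn d) hb'
  -- the equivariant morphism over `Z`
  obtain ⟨φ, hφ⟩ := gaFn_surjective (X := X ⊗ Z) b
  refine exists_section_of_equivariant a h Z φ ((equivariant_iff a Z φ).mpr ?_)
  apply gaFn_injective
  rw [gaFn_mul, gaFn_comp (a.act ▷ Z) φ, gaFn_comp (snd (Red.Ga S) X ▷ Z) φ, hφ]
  exact hb

/-- Zariski local triviality from sections on open immersions covering all points. -/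
theorem isLocallyTrivialFor_zariski_of_forall' (X : Over S)
    (h : ∀ x : S, ∃ (V : Scheme.{u}) (j : V ⟶ S), IsOpenImmersion j ∧ x ∈ Set.range j ∧
      NonAbH1.HasSectionOver X j) :
    NonAbH1.IsLocallyTrivialFor Scheme.zariskiPrecoverage X := by
  choose V j hj hV hsec using h
  refine ⟨Presieve.ofArrows V j, ?_, ?_⟩
  · rw [Scheme.ofArrows_mem_precoverage_iff]
    exact ⟨fun x => ⟨x, hV x⟩, hj⟩
  · rintro T f ⟨x⟩
    exact hsec x

lemma isUnit_ι_appTop_basicOpen (Y : Scheme.{u}) (k : Γ(Y, ⊤)) :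
    IsUnit ((Y.basicOpen k).ι.appTop k) := by
  have h1 := Y.toRingedSpace.isUnit_res_basicOpen k
  have h2 : (Y.basicOpen k).ι ''ᵁ ⊤ ≤ Y.basicOpen k := (Y.basicOpen k).ι_image_top.le
  have h3 := h1.map (Y.presheaf.map (homOfLE h2).op).hom
  have h4 : (Y.basicOpen k).ι.appTop k = (Y.presheaf.map (homOfLE h2).op).hom
      ((Y.presheaf.map (homOfLE (Y.basicOpen_le k)).op).hom k) := by
    rw [Scheme.Opens.ι_appTop]
    change _ = (Y.presheaf.map (homOfLE (Y.basicOpen_le k)).op ≫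
      Y.presheaf.map (homOfLE h2).op).hom k
    rw [← Functor.map_comp]
    rfl
  rw [h4]
  exact h3

/-- an fpqc torsor under `𝔾_m` has sections Zariski locally on every affine open. -/
theorem exists_section_Gm (X : Over S) (a : AlgGrp.Action (Red.Gm S) X)
    (h : NonAbH1.IsTorsorFor Scheme.fpqcPrecoverage a) (Z : Over S) [IsAffine Z.left]
    (x : Z.left) :
    ∃ W : Z.left.Opens, x ∈ W ∧ NonAbH1.HasSectionOver X (W.ι ≫ Z.hom) := by
  have hH : IsAffineHom (Red.Gm S).hom := inferInstance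
  have hX : IsAffineHom X.hom := isAffineHom_of_isTorsorFor a hH h
  obtain ⟨Z', w, s', hZ', hw1, hw2⟩ := exists_cover_section X h.2 Z
  haveI : IsAffine (X ⊗ Z).left := isAffine_tensor_left X Z hX
  haveI : IsAffine ((Red.Gm S ⊗ X) ⊗ Z).left :=
    isAffine_tensor_left (Red.Gm S ⊗ X) Z (isAffineHom_tensor_hom _ _ hH hX)
  letI algK' : Algebra Γ(Z.left, ⊤) Γ(Z'.left, ⊤) := w.left.appTop.hom.toAlgebra
  letI algB : Algebra Γ(Z.left, ⊤) Γ((X ⊗ Z).left, ⊤) := (snd X Z).left.appTop.hom.toAlgebra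
  letI algC : Algebra Γ(Z.left, ⊤) Γ(((Red.Gm S ⊗ X) ⊗ Z).left, ⊤) :=
    (snd (Red.Gm S ⊗ X) Z).left.appTop.hom.toAlgebra
  haveI FF : Module.FaithfullyFlat Γ(Z.left, ⊤) Γ(Z'.left, ⊤) :=
    (Flat.flat_and_surjective_iff_faithfullyFlat_of_isAffine w.left).mp ⟨hw1, hw2⟩
  obtain ⟨eB, eB1, eB2⟩ := exists_baseChange_equiv X w
  obtain ⟨eC, eC1, eC2⟩ := exists_baseChange_equiv (Red.Gm S ⊗ X) w
  -- the solution over `Z'`
  set d := relDiff a h.1 s' with hd
  have hdeq := (equivariant_iff a Z' d).mp (relDiff_pt a h.1 s')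
  set τ := Red.gmFn (fst (Red.Gm S ⊗ X) Z ≫ fst (Red.Gm S) X) with hτ
  have hb' : (a.act ▷ Z').left.appTop (Red.gmFn d) =
      eC (τ ⊗ₜ 1) * (snd (Red.Gm S) X ▷ Z').left.appTop (Red.gmFn d) := by
    rw [← gmFn_comp (a.act ▷ Z') d, hdeq, gmFn_mul, eC1, hτ, ← gmFn_comp ((Red.Gm S ⊗ X) ◁ w),
      ← Category.assoc, whiskerLeft_fst, gmFn_comp (snd (Red.Gm S) X ▷ Z') d]
  have hbc : Red.gmFn d * Red.gmFn d⁻¹ = 1 := by
    rw [← gmFn_mul, mul_inv_cancel, gmFn_one]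
  -- the prime at `x`
  let ρ : Γ(Z.left, ⊤) →+* Z.left.presheaf.stalk x := (Z.left.presheaf.germ ⊤ x trivial).hom
  let 𝔭 : Ideal Γ(Z.left, ⊤) := (IsLocalRing.maximalIdeal (Z.left.presheaf.stalk x)).comap ρ
  have h𝔭 : 𝔭 ≠ ⊤ := Ideal.comap_ne_top _ (IsLocalRing.maximalIdeal.isMaximal _).ne_top
  obtain ⟨ℓ, m, k, hk, hℓ, hℓm⟩ := exists_of_baseChange_mul
    (K := Γ(Z.left, ⊤)) (K' := Γ(Z'.left, ⊤))
    (a.act ▷ Z).left.appTop.hom (snd (Red.Gm S) X ▷ Z).left.appTop.hom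
    (fun k => whiskerRight_appTop_snd a.act Z k)
    (fun k => whiskerRight_appTop_snd (snd (Red.Gm S) X) Z k)
    (a.act ▷ Z').left.appTop.hom (snd (Red.Gm S) X ▷ Z').left.appTop.hom eB eC
    (fun b k => baseChange_equiv_natural a.act w eC eB eC1 eC2 eB1 eB2 b k)
    (fun b k => baseChange_equiv_natural (snd (Red.Gm S) X) w eC eB eC1 eC2 eB1 eB2 b k)
    τ (Red.gmFn d) (Red.gmFn d⁻¹) hbc hb'
    (fun u hu => ⟨(lift s' (𝟙 Z')).left.appTop u, by
      rw [eB2]; exact invariant_eq a h.1 s' u hu⟩)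
    (fun k' hk' => by
      rw [eB2] at hk'
      have := congrArg (lift s' (𝟙 Z')).left.appTop hk'
      rw [← comp_left_appTop, lift_snd, map_zero] at this
      simpa using this)
    𝔭 h𝔭
  -- the basic open
  have hxk : x ∈ Z.left.basicOpen k := by
    rw [Scheme.mem_basicOpen_top]
    exact (IsLocalRing.notMem_maximalIdeal.mp hk)
  refine ⟨Z.left.basicOpen k, hxk, ?_⟩
  set W := Z.left.basicOpen k with hW
  let ZV : Over S := Over.mk (W.ι ≫ Z.hom)
  let v : ZV ⟶ Z := Over.homMk W.ι rfl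
  have hunit : IsUnit (v.left.appTop k) := isUnit_ι_appTop_basicOpen Z.left k
  have hℓm' : (X ◁ v).left.appTop ℓ * (X ◁ v).left.appTop m =
      (snd X ZV).left.appTop (v.left.appTop k) := by
    rw [← map_mul, hℓm]
    change (X ◁ v).left.appTop ((snd X Z).left.appTop k) = _
    rw [← comp_left_appTop, ← comp_left_appTop, whiskerLeft_snd]
  have hℓunit : IsUnit ((X ◁ v).left.appTop ℓ) := by
    apply isUnit_of_mul_isUnit_left (y := (X ◁ v).left.appTop m)
    rw [hℓm']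
    exact hunit.map _
  obtain ⟨φ, hφ⟩ := gmFn_surjective (X := X ⊗ ZV) _ hℓunit
  obtain ⟨σ⟩ := exists_section_of_equivariant a h ZV φ ((equivariant_iff a ZV φ).mpr (by
    apply gmFn_injective
    rw [gmFn_mul, gmFn_comp (a.act ▷ ZV) φ, gmFn_comp (snd (Red.Gm S) X ▷ ZV) φ, hφ,
      ← comp_left_appTop, ← comp_left_appTop, ← whisker_exchange, ← whisker_exchange,
      comp_left_appTop, comp_left_appTop]
    have hℓ' : (a.act ▷ Z).left.appTop ℓ = τ * (snd (Red.Gm S) X ▷ Z).left.appTop ℓ := hℓ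
    rw [hℓ', map_mul, hτ, ← gmFn_comp ((Red.Gm S ⊗ X) ◁ v), ← Category.assoc, whiskerLeft_fst]))
  exact ⟨σ.left, Over.w σ⟩

end Groth.Agent.Lib.T2H3.H90
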