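import Mathlib

/-!
# From a kernel square to the translation pullback square, for group objects
-/

set_option autoImplicit false
universe v u

namespace Groth.Agent.Lib.T2H3.KernelSq

open CategoryTheory MonoidalCategory CartesianMonoidalCategory MonObj GrpObj Limits

variable {C : Type u} [Category.{v} C] [CartesianMonoidalCategory C]
  {G' G G'' : C} [GrpObj G'] [GrpObj G] [GrpObj G'']

theorem lift_whiskerLeft_mul {T : C} (s : T ⟶ G) (g' : T ⟶ G') (u : G' ⟶ G) :
    lift s g' ≫ (G ◁ u) ≫ μ[G] = s * (g' ≫ u) := by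
  rw [Hom.mul_def, ← Category.assoc]
  congr 1
  ext <;> simp

/-- if `u` is a kernel of the homomorphism `v`, then `(g, g') ↦ (g, g u(g'))` identifies
`G × G'` with `G ×_{G''} G`. -/
theorem isPullback_of_kernel (u : G' ⟶ G) (v : G ⟶ G'') [IsMonHom v]
    (hk : IsPullback u (toUnit G') v η[G'']) :
    IsPullback (fst G G') ((G ◁ u) ≫ μ[G]) v v := by
  have hw : fst G G' ≫ v = ((G ◁ u) ≫ μ[G]) ≫ v := by
    have h1 : (G ◁ u) ≫ μ[G] = fst G G' * (snd G G' ≫ u) := by
      have := lift_whiskerLeft_mul (fst G G') (snd G G') u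
      rw [lift_fst_snd, Category.id_comp] at this
      exact this
    rw [h1, MonObj.mul_comp, Category.assoc, hk.w, ← Category.assoc]
    have : (snd G G' ≫ toUnit G') ≫ η[G''] = 1 := by
      rw [Hom.one_def]; congr 1; exact toUnit_unique _ _
    rw [this, _root_.mul_one]
  -- lifting
  have key : ∀ {T : C} (s t : T ⟶ G), s ≫ v = t ≫ v →
      ∃ g' : T ⟶ G', g' ≫ u = s⁻¹ * t := by
    intro T s t hst
    have h1 : (s⁻¹ * t) ≫ v = toUnit T ≫ η[G''] := by
      rw [MonObj.mul_comp, GrpObj.inv_comp, hst, _root_.inv_mul_cancel]; rfl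
    exact ⟨hk.lift (s⁻¹ * t) (toUnit T) h1, hk.lift_fst _ _ _⟩
  have hmono : Mono u := by
    constructor
    intro T a b hab
    exact hk.hom_ext hab (toUnit_unique _ _)
  refine ⟨⟨hw⟩, ⟨PullbackCone.IsLimit.mk hw
    (fun s => lift s.fst (Classical.choose (key s.fst s.snd s.condition))) ?_ ?_ ?_⟩⟩
  · intro s
    simp
  · intro s
    rw [lift_whiskerLeft_mul, Classical.choose_spec (key s.fst s.snd s.condition),
      _root_.mul_inv_cancel_left]
  · intro s m h1 h2
    have hm : m = lift (m ≫ fst G G') (m ≫ snd G G') := by ext <;> simp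
    rw [hm]
    congr 1
    rw [← cancel_mono u, Classical.choose_spec (key s.fst s.snd s.condition)]
    have h3 : lift (m ≫ fst G G') (m ≫ snd G G') ≫ (G ◁ u) ≫ μ[G] = s.snd := by
      rw [← hm]; exact h2
    rw [lift_whiskerLeft_mul, h1] at h3
    rw [← h3, _root_.inv_mul_cancel_left]

end Groth.Agent.Lib.T2H3.KernelSq
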