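import Mathlib

/-!
# The `n`-th power endomorphism of the Laurent polynomial algebra `R[ℤ]`:
finite free, and `R[ℤ/n]` is the pushout of it along the counit.
-/

set_option autoImplicit false
set_option linter.style.haveILetI false
universe u

namespace Groth.Agent.Lib.T2H3.KummerAlg

open MonoidAlgebra

variable (R : Type u) [CommRing R] (n : ℕ)

/-- multiplication by `n` on `ℤ`, multiplicatively -/
def mulN : Multiplicative ℤ →* Multiplicative ℤ :=
  AddMonoidHom.toMultiplicative (zmultiplesHom ℤ (n : ℤ))

/-- reduction mod `n`, multiplicatively -/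
def redN : Multiplicative ℤ →* Multiplicative (ZMod n) :=
  AddMonoidHom.toMultiplicative (Int.castAddHom (ZMod n))

/-- the `n`-th power endomorphism of `R[ℤ]` -/
noncomputable def pw : MonoidAlgebra R (Multiplicative ℤ) →ₐ[R] MonoidAlgebra R (Multiplicative ℤ) :=
  MonoidAlgebra.mapDomainAlgHom R R (mulN n)

/-- the quotient map `R[ℤ] → R[ℤ/n]` -/
noncomputable def rd : MonoidAlgebra R (Multiplicative ℤ) →ₐ[R] MonoidAlgebra R (Multiplicative (ZMod n)) :=
  MonoidAlgebra.mapDomainAlgHom R R (redN n)

theorem mulN_apply (k : ℤ) : mulN n (Multiplicative.ofAdd k) = Multiplicative.ofAdd (k * n) := by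
  simp [mulN]

theorem pw_single (k : ℤ) (r : R) :
    pw R n (single (Multiplicative.ofAdd k) r) = single (Multiplicative.ofAdd (k * n)) r := by
  simp [pw, mulN_apply]

theorem mulN_injective [NeZero n] : Function.Injective (mulN n) := by
  intro a b h
  have h1 := congrArg Multiplicative.toAdd h
  have ha : mulN n a = Multiplicative.ofAdd (Multiplicative.toAdd a * n) := mulN_apply n _
  have hb : mulN n b = Multiplicative.ofAdd (Multiplicative.toAdd b * n) := mulN_apply n _
  rw [ha, hb] at h1
  simp only [toAdd_ofAdd] at h1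
  have hn : (n : ℤ) ≠ 0 := by exact_mod_cast NeZero.ne n
  have := mul_right_cancel₀ hn h1
  exact Multiplicative.toAdd.injective this


theorem pw_coeff (g : MonoidAlgebra R (Multiplicative ℤ)) :
    (pw R n g).coeff = Finsupp.mapDomain (mulN n) g.coeff := rfl

theorem pw_apply_mul [NeZero n] (g : MonoidAlgebra R (Multiplicative ℤ)) (q : ℤ) :
    (pw R n g).coeff (Multiplicative.ofAdd (q * n)) = g.coeff (Multiplicative.ofAdd q) := by
  have := Finsupp.mapDomain_apply (mulN_injective n) g.coeff (Multiplicative.ofAdd q)
  rw [mulN_apply] at this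
  rw [pw_coeff]
  exact this

theorem pw_apply_of_not_dvd (g : MonoidAlgebra R (Multiplicative ℤ)) (k : ℤ)
    (hk : ¬ (n : ℤ) ∣ k) : (pw R n g).coeff (Multiplicative.ofAdd k) = 0 := by
  rw [pw_coeff]
  apply Finsupp.mapDomain_of_notMem_range
  rintro ⟨a, ha⟩
  apply hk
  have h1 : mulN n a = Multiplicative.ofAdd (Multiplicative.toAdd a * n) := mulN_apply n _
  rw [h1] at ha
  have := congrArg Multiplicative.toAdd ha
  simp only [toAdd_ofAdd] at this
  exact ⟨Multiplicative.toAdd a, by rw [← this, mul_comm]⟩

/-- the target copy of `R[ℤ]`, an algebra over `R[ℤ]` through `pw` -/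
def Tgt (R : Type u) [CommRing R] (_n : ℕ) : Type u := MonoidAlgebra R (Multiplicative ℤ)

noncomputable instance : CommRing (Tgt R n) :=
  inferInstanceAs (CommRing (MonoidAlgebra R (Multiplicative ℤ)))

noncomputable instance : Algebra (MonoidAlgebra R (Multiplicative ℤ)) (Tgt R n) :=
  (pw R n).toRingHom.toAlgebra

/-- view an element of the target copy as a Laurent polynomial -/
def toMA (x : Tgt R n) : MonoidAlgebra R (Multiplicative ℤ) := x

/-- view a Laurent polynomial as an element of the target copy -/
def ofMA (x : MonoidAlgebra R (Multiplicative ℤ)) : Tgt R n := x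

theorem smul_def' (a : MonoidAlgebra R (Multiplicative ℤ)) (x : Tgt R n) :
    toMA R n (a • x) = pw R n a * toMA R n x :=
  rfl

/-- the candidate basis `1, T, ..., T^(n-1)` -/
noncomputable def bas (i : Fin n) : Tgt R n :=
  ofMA R n (single (Multiplicative.ofAdd (i : ℤ)) 1)

theorem toMA_sum (g : Fin n → MonoidAlgebra R (Multiplicative ℤ)) :
    toMA R n (∑ i, g i • bas R n i) =
      ∑ i, pw R n (g i) * single (Multiplicative.ofAdd (i : ℤ)) 1 := by
  let f : Tgt R n →+ MonoidAlgebra R (Multiplicative ℤ) :=
    { toFun := toMA R n, map_zero' := rfl, map_add' := fun _ _ => rfl }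
  have := map_sum f (fun i => g i • bas R n i) Finset.univ
  exact this

theorem sum_smul_apply [NeZero n] (g : Fin n → MonoidAlgebra R (Multiplicative ℤ)) (q : ℤ) (i₀ : Fin n) :
    (toMA R n (∑ i, g i • bas R n i)).coeff
      (Multiplicative.ofAdd (q * n + (i₀ : ℤ))) = (g i₀).coeff (Multiplicative.ofAdd q) := by
  rw [toMA_sum, MonoidAlgebra.coeff_sum, Finsupp.finsetSum_apply, Finset.sum_eq_single i₀]
  · rw [MonoidAlgebra.coeff_mul_single_apply, mul_one]
    have : Multiplicative.ofAdd (q * n + (i₀ : ℤ)) * (Multiplicative.ofAdd (i₀ : ℤ))⁻¹ =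
        Multiplicative.ofAdd (q * n) := by
      rw [← ofAdd_neg, ← ofAdd_add]; congr 1; ring
    rw [this, pw_apply_mul]
  · intro i _ hi
    rw [MonoidAlgebra.coeff_mul_single_apply, mul_one]
    have : Multiplicative.ofAdd (q * n + (i₀ : ℤ)) * (Multiplicative.ofAdd (i : ℤ))⁻¹ =
        Multiplicative.ofAdd (q * n + (i₀ : ℤ) - (i : ℤ)) := by
      rw [← ofAdd_neg, ← ofAdd_add]; congr 1
    rw [this]
    apply pw_apply_of_not_dvd
    intro hdvd
    apply hi
    have h2 : (n : ℤ) ∣ (i₀ : ℤ) - (i : ℤ) := by
      have : q * n + (i₀ : ℤ) - (i : ℤ) = ((i₀ : ℤ) - (i : ℤ)) + q * n := by ring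
      rw [this] at hdvd
      exact (Int.dvd_add_left (Dvd.intro_left q rfl)).mp hdvd
    have h3 : (i₀ : ℤ) % n = (i : ℤ) % n := Int.emod_eq_emod_iff_emod_sub_eq_zero.mpr
      (Int.emod_eq_zero_of_dvd h2)
    have h4 : ((i₀ : ℕ) : ℤ) % n = i₀ := Int.emod_eq_of_lt (by positivity) (by exact_mod_cast i₀.2)
    have h5 : ((i : ℕ) : ℤ) % n = i := Int.emod_eq_of_lt (by positivity) (by exact_mod_cast i.2)
    rw [h4, h5] at h3
    exact Fin.ext (by exact_mod_cast h3.symm)
  · intro h; exact absurd (Finset.mem_univ _) h

theorem linearIndependent_bas [NeZero n] :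
    LinearIndependent (MonoidAlgebra R (Multiplicative ℤ)) (bas R n) := by
  rw [Fintype.linearIndependent_iff]
  intro g hg i₀
  apply MonoidAlgebra.coeff_injective
  ext q
  have := sum_smul_apply R n g (Multiplicative.toAdd q) i₀
  rw [hg] at this
  exact this.symm

theorem span_bas [NeZero n] :
    ⊤ ≤ Submodule.span (MonoidAlgebra R (Multiplicative ℤ)) (Set.range (bas R n)) := by
  intro x _
  have hx : ∀ y : MonoidAlgebra R (Multiplicative ℤ),
      ofMA R n y ∈ Submodule.span (MonoidAlgebra R (Multiplicative ℤ)) (Set.range (bas R n)) := by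
    intro y
    induction y using MonoidAlgebra.induction_linear with
    | zero => exact Submodule.zero_mem _
    | add a b ha hb => exact Submodule.add_mem _ ha hb
    | single k' r =>
      set k : ℤ := Multiplicative.toAdd k' with hkdef
      have hk' : k' = Multiplicative.ofAdd k := rfl
      rw [hk']
      have hn : (n : ℤ) ≠ 0 := by exact_mod_cast NeZero.ne n
      have hnpos : (0 : ℤ) < n := by exact_mod_cast Nat.pos_of_ne_zero (NeZero.ne n)
      have h0 : 0 ≤ k % n := Int.emod_nonneg k hn
      have h1 : k % n < n := Int.emod_lt_of_pos k hnpos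
      let i : Fin n := ⟨(k % n).toNat, by omega⟩
      have hi : ((i : ℕ) : ℤ) = k % n := Int.toNat_of_nonneg h0
      have key : ofMA R n (single (Multiplicative.ofAdd k) r) =
          (single (Multiplicative.ofAdd (k / n)) r : MonoidAlgebra R (Multiplicative ℤ)) •
            bas R n i := by
        show single (Multiplicative.ofAdd k) r = toMA R n (_ • bas R n i)
        rw [smul_def', pw_single]
        show _ = single _ r * single _ 1
        rw [MonoidAlgebra.single_mul_single, mul_one, ← ofAdd_add, hi]
        congr 2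
        rw [mul_comm]
        exact (Int.mul_ediv_add_emod k n).symm
      rw [key]
      exact Submodule.smul_mem _ _ (Submodule.subset_span ⟨i, rfl⟩)
  exact hx x

/-- the basis `1, T, ..., T^(n-1)` of `R[ℤ]` over `R[ℤ]` through the `n`-th power map -/
noncomputable def basis [NeZero n] : Module.Basis (Fin n) (MonoidAlgebra R (Multiplicative ℤ)) (Tgt R n) :=
  Module.Basis.mk (linearIndependent_bas R n) (span_bas R n)

instance [NeZero n] : Module.Free (MonoidAlgebra R (Multiplicative ℤ)) (Tgt R n) :=
  Module.Free.of_basis (basis R n)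

instance [NeZero n] : Module.Finite (MonoidAlgebra R (Multiplicative ℤ)) (Tgt R n) :=
  Module.Finite.of_basis (basis R n)

theorem pw_flat [NeZero n] : (pw R n).toRingHom.Flat :=
  (inferInstance : Module.Flat (MonoidAlgebra R (Multiplicative ℤ)) (Tgt R n))

theorem pw_finite [NeZero n] : (pw R n).toRingHom.Finite :=
  (inferInstance : Module.Finite (MonoidAlgebra R (Multiplicative ℤ)) (Tgt R n))

theorem pw_finitePresentation [NeZero n] : (pw R n).toRingHom.FinitePresentation :=
  haveI : Module.FinitePresentation (MonoidAlgebra R (Multiplicative ℤ)) (Tgt R n) :=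
    Module.finitePresentation_of_projective _ _
  (inferInstance : Algebra.FinitePresentation (MonoidAlgebra R (Multiplicative ℤ)) (Tgt R n))

theorem pw_injective [NeZero n] : Function.Injective (pw R n) :=
  MonoidAlgebra.mapDomain_injective (mulN_injective n)


/-! ### The pushout square -/

theorem redN_apply (k : ℤ) :
    redN n (Multiplicative.ofAdd k) = Multiplicative.ofAdd ((k : ℤ) : ZMod n) := rfl

theorem rd_single (k : ℤ) (r : R) :
    rd R n (single (Multiplicative.ofAdd k) r) = single (Multiplicative.ofAdd ((k : ℤ) : ZMod n)) r := by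
  simp [rd, redN_apply]

theorem rd_surjective : Function.Surjective (rd R n) := by
  intro x
  induction x using MonoidAlgebra.induction_linear with
  | zero => exact ⟨0, map_zero _⟩
  | add a b ha hb =>
    obtain ⟨a', rfl⟩ := ha
    obtain ⟨b', rfl⟩ := hb
    exact ⟨a' + b', map_add _ _ _⟩
  | single h r =>
    obtain ⟨k, hk⟩ := ZMod.intCast_surjective (Multiplicative.toAdd h)
    refine ⟨single (Multiplicative.ofAdd k) r, ?_⟩
    rw [rd_single, hk]
    rfl

/-- the counit of `R[ℤ]` -/
noncomputable abbrev cu : MonoidAlgebra R (Multiplicative ℤ) →ₐ[R] R :=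
  Bialgebra.counitAlgHom R (MonoidAlgebra R (Multiplicative ℤ))

theorem cu_single (k : Multiplicative ℤ) (r : R) : cu R (single k r) = r := by
  simp [cu]

section Desc

variable {R n}
variable {W : Type u} [CommRing W] (a : MonoidAlgebra R (Multiplicative ℤ) →+* W) (b : R →+* W)
  (h : a.comp (pw R n).toRingHom = b.comp (cu R).toRingHom)

include h

theorem a_single_one (r : R) : a (single 1 r) = b r := by
  have := congrArg (fun f => f (single 1 r)) h
  simp only [RingHom.comp_apply] at this
  have h1 : (pw R n).toRingHom (single 1 r) = single 1 r := by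
    show pw R n (single (Multiplicative.ofAdd 0) r) = _
    rw [pw_single, zero_mul]; rfl
  have h2 : (cu R).toRingHom (single 1 r) = r := cu_single R 1 r
  rw [h1, h2] at this
  exact this

theorem a_single_mul (q : ℤ) : a (single (Multiplicative.ofAdd (q * n)) 1) = 1 := by
  have := congrArg (fun f => f (single (Multiplicative.ofAdd q) 1)) h
  simp only [RingHom.comp_apply] at this
  have h1 : (pw R n).toRingHom (single (Multiplicative.ofAdd q) 1) =
      single (Multiplicative.ofAdd (q * n)) 1 := pw_single R n q 1
  have h2 : (cu R).toRingHom (single (Multiplicative.ofAdd q) (1 : R)) = 1 := cu_single R _ 1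
  rw [h1, h2, map_one] at this
  exact this

theorem a_single [NeZero n] (k : ℤ) (r : R) :
    a (single (Multiplicative.ofAdd k) r) =
      b r * a (single (Multiplicative.ofAdd (k % n)) 1) := by
  have h1 : (single (Multiplicative.ofAdd k) r : MonoidAlgebra R (Multiplicative ℤ)) =
      single 1 r * (single (Multiplicative.ofAdd (k % n)) 1 *
        single (Multiplicative.ofAdd ((k / n) * n)) 1) := by
    rw [MonoidAlgebra.single_mul_single, MonoidAlgebra.single_mul_single, one_mul, mul_one,
      mul_one, ← ofAdd_add]
    congr 2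
    rw [mul_comm (k / n), add_comm]
    exact (Int.mul_ediv_add_emod k n).symm
  rw [h1, map_mul, map_mul, a_single_one a b h, a_single_mul a b h, mul_one]

/-- the additive map through which `a` factors -/
noncomputable def Faux : MonoidAlgebra R (Multiplicative (ZMod n)) →+ W :=
  (Finsupp.liftAddHom (fun z : Multiplicative (ZMod n) =>
    (AddMonoidHom.mulRight (a (single (Multiplicative.ofAdd ((Multiplicative.toAdd z).cast : ℤ)) 1))).comp
      b.toAddMonoidHom)).comp
    (MonoidAlgebra.coeffAddEquiv (R := R) (M := Multiplicative (ZMod n))).toAddMonoidHom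

omit h in
theorem Faux_single' (z : Multiplicative (ZMod n)) (r : R) :
    Faux a b (single z r) =
      b r * a (single (Multiplicative.ofAdd ((Multiplicative.toAdd z).cast : ℤ)) 1) := by
  simp [Faux]

theorem a_eq_Faux_rd [NeZero n] (x : MonoidAlgebra R (Multiplicative ℤ)) :
    a x = Faux a b (rd R n x) := by
  induction x using MonoidAlgebra.induction_linear with
  | zero => simp
  | add x y hx hy => rw [map_add, map_add, map_add, hx, hy]
  | single k' r =>
    set k : ℤ := Multiplicative.toAdd k' with hkdef
    have hk' : k' = Multiplicative.ofAdd k := rfl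
    rw [hk', rd_single, Faux_single' a b, a_single a b h]
    congr 4
    rw [toAdd_ofAdd, ZMod.coe_intCast]

theorem ker_le [NeZero n] : RingHom.ker (rd R n).toRingHom ≤ RingHom.ker a := by
  intro x hx
  rw [RingHom.mem_ker] at hx ⊢
  rw [a_eq_Faux_rd a b h x]
  have : rd R n x = 0 := hx
  rw [this, map_zero]

theorem exists_desc [NeZero n] :
    ∃ d : MonoidAlgebra R (Multiplicative (ZMod n)) →+* W,
      d.comp (rd R n).toRingHom = a ∧ d.comp (algebraMap R _) = b := by
  refine ⟨(rd R n).toRingHom.liftOfSurjective (rd_surjective R n) ⟨a, ker_le a b h⟩, ?_, ?_⟩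
  · exact RingHom.liftOfSurjective_comp _ _ _
  · ext r
    have h1 : algebraMap R (MonoidAlgebra R (Multiplicative (ZMod n))) r =
        (rd R n).toRingHom (single 1 r) := by
      show _ = rd R n (single (Multiplicative.ofAdd 0) r)
      rw [rd_single]
      simp
    rw [RingHom.comp_apply, h1, RingHom.liftOfSurjective_comp_apply]
    exact a_single_one a b h r

end Desc


theorem rd_comp_pw :
    (rd R n).toRingHom.comp (pw R n).toRingHom =
      (algebraMap R (MonoidAlgebra R (Multiplicative (ZMod n)))).comp (cu R).toRingHom := by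
  apply RingHom.coe_addMonoidHom_injective
  apply MonoidAlgebra.addMonoidHom_ext
  intro k' r
  set k : ℤ := Multiplicative.toAdd k' with hkdef
  have hk' : k' = Multiplicative.ofAdd k := rfl
  rw [hk']
  show rd R n (pw R n (single (Multiplicative.ofAdd k) r)) =
    algebraMap R _ (cu R (single (Multiplicative.ofAdd k) r))
  rw [pw_single, rd_single, cu_single]
  have : ((k * n : ℤ) : ZMod n) = 0 := by
    push_cast
    simp
  rw [this]
  simp

open CategoryTheory CategoryTheory.Limits in
/-- `R[ℤ/n]` is the pushout of the `n`-th power map of `R[ℤ]` along the counit. -/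
theorem isPushout [NeZero n] :
    IsPushout (CommRingCat.ofHom (pw R n).toRingHom) (CommRingCat.ofHom (cu R).toRingHom)
      (CommRingCat.ofHom (rd R n).toRingHom)
      (CommRingCat.ofHom (algebraMap R (MonoidAlgebra R (Multiplicative (ZMod n))))) := by
  have w : CommRingCat.ofHom (pw R n).toRingHom ≫ CommRingCat.ofHom (rd R n).toRingHom =
      CommRingCat.ofHom (cu R).toRingHom ≫
        CommRingCat.ofHom (algebraMap R (MonoidAlgebra R (Multiplicative (ZMod n)))) := by
    rw [← CommRingCat.ofHom_comp, ← CommRingCat.ofHom_comp, rd_comp_pw]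
  have hs : ∀ s : PushoutCocone (CommRingCat.ofHom (pw R n).toRingHom)
      (CommRingCat.ofHom (cu R).toRingHom),
      s.inl.hom.comp (pw R n).toRingHom = s.inr.hom.comp (cu R).toRingHom := by
    intro s
    have := congrArg CommRingCat.Hom.hom s.condition
    exact this
  refine ⟨⟨w⟩, ⟨PushoutCocone.IsColimit.mk w
    (fun s => CommRingCat.ofHom (Classical.choose (exists_desc s.inl.hom s.inr.hom (hs s))))
    ?_ ?_ ?_⟩⟩
  · intro s
    ext1
    exact (Classical.choose_spec (exists_desc s.inl.hom s.inr.hom (hs s))).1
  · intro s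
    ext1
    exact (Classical.choose_spec (exists_desc s.inl.hom s.inr.hom (hs s))).2
  · intro s m h1 h2
    ext1
    have e1 : m.hom.comp (rd R n).toRingHom = s.inl.hom := congrArg CommRingCat.Hom.hom h1
    have e2 := (Classical.choose_spec (exists_desc s.inl.hom s.inr.hom (hs s))).1
    apply RingHom.ext
    intro y
    obtain ⟨x, rfl⟩ := rd_surjective R n y
    have := congrArg (fun f => f x) (e1.trans e2.symm)
    exact this

end Groth.Agent.Lib.T2H3.KummerAlg
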