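import Mathlib
import Groth.Prelude.Def_Red
import Groth.Prelude.Def_Red2
import Groth.Prelude.Def_NonAbH2
import Groth.Agent.Lib.Helper27DiagSub
import Groth.Agent.Lib.T2H3KummerAlg
import Groth.Agent.Lib.T2H3KernelSq

/-!
# The Kummer sequence `1 → μ_n → G_m → G_m → 1` is exact for the fppf topology
-/

set_option autoImplicit false
set_option linter.style.haveILetI false
universe u

namespace Groth.Agent.Lib.T2H3.KummerSch

open CategoryTheory MonoidalCategory CartesianMonoidalCategory MonObj GrpObj AlgebraicGeometry Limits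
open Groth.Agent.Lib.T2H3.KummerAlg

variable (R : Type u) [CommRing R] (n : ℕ) [NeZero n]

/-- the kernel square over an affine base, on underlying schemes -/
theorem diag_kernel_left :
    IsPullback (Red.diagMap R (Int.castAddHom (ZMod n))).left
      (toUnit (Red.diag R (ZMod n))).left
      (Red.diagMap R (zmultiplesHom ℤ (n : ℤ))).left η[Red.diag R ℤ].left := by
  have := isPullback_SpecMap_of_isPushout _ _ _ _ (KummerAlg.isPushout R n)
  exact this

theorem diag_kernel :
    IsPullback (Red.diagMap R (Int.castAddHom (ZMod n))) (toUnit (Red.diag R (ZMod n)))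
      (Red.diagMap R (zmultiplesHom ℤ (n : ℤ))) η[Red.diag R ℤ] := by
  refine IsPullback.of_map (Over.forget _) ?_ (diag_kernel_left R n)
  ext1
  exact (diag_kernel_left R n).w


/-! ### Properties of the `n`-th power map over an affine base -/

theorem flat_diagMap_left : Flat (Red.diagMap R (zmultiplesHom ℤ (n : ℤ))).left := by
  have : Flat (Spec.map (CommRingCat.ofHom (pw R n).toRingHom)) := by
    rw [HasRingHomProperty.Spec_iff (P := @Flat)]
    exact pw_flat R n
  exact this

theorem lfp_diagMap_left :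
    LocallyOfFinitePresentation (Red.diagMap R (zmultiplesHom ℤ (n : ℤ))).left := by
  have : LocallyOfFinitePresentation (Spec.map (CommRingCat.ofHom (pw R n).toRingHom)) := by
    rw [HasRingHomProperty.Spec_iff (P := @LocallyOfFinitePresentation)]
    exact pw_finitePresentation R n
  exact this

theorem surjective_diagMap_left :
    Surjective (Red.diagMap R (zmultiplesHom ℤ (n : ℤ))).left := by
  have : Surjective (Spec.map (CommRingCat.ofHom (pw R n).toRingHom)) := by
    constructor
    have h1 : (pw R n).toRingHom.IsIntegral := (pw_finite R n).to_isIntegral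
    exact RingHom.IsIntegral.comap_surjective h1 (pw_injective R n)
  exact this


/-! ### Over a general base -/

section Base

variable (S : Scheme.{u})

theorem DS_kernel :
    IsPullback (Red.DSmap S (Int.castAddHom (ZMod n))) (toUnit (Red.DS S (ZMod n)))
      (Red.DSmap S (zmultiplesHom ℤ (n : ℤ))) η[Red.DS S ℤ] := by
  have h0 := diag_kernel (ULift.{u} ℤ) n
  have h1 := h0.map (Over.pullback (Limits.IsTerminal.from specULiftZIsTerminal S))
  refine IsPullback.of_iso h1 (Iso.refl _) (Iso.refl _)
    (Functor.Monoidal.εIso (Over.pullback (Limits.IsTerminal.from specULiftZIsTerminal S))).symm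
    (Iso.refl _) ?_ ?_ ?_ ?_
  · simp [Red.DSmap]
  · exact toUnit_unique _ _
  · simp [Red.DSmap]
  · rw [Functor.obj.η_def]
    simp

end Base


theorem pullback_map_left_prop (P : MorphismProperty Scheme.{u}) [P.IsStableUnderBaseChange]
    [P.IsStableUnderComposition] [P.ContainsIdentities]
    {S T : Scheme.{u}} (f : S ⟶ T) {X Y : Over T} (g : X ⟶ Y) (hg : P g.left) :
    P ((Over.pullback f).map g).left := by
  have h1 : ((Over.pullback f).map g).left =
      pullback.map X.hom f Y.hom f g.left (𝟙 _) (𝟙 _) (by simp) (by simp) := by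
    apply pullback.hom_ext <;> simp [pullback.map]
  rw [h1]
  exact MorphismProperty.pullbackMap (P := P) hg (P.id_mem S) (by simp) (by simp)

section Base2

variable (S : Scheme.{u})

theorem flat_DSmap_left : Flat (Red.DSmap S (zmultiplesHom ℤ (n : ℤ))).left :=
  pullback_map_left_prop @Flat _ _ (flat_diagMap_left (ULift.{u} ℤ) n)

theorem lfp_DSmap_left : LocallyOfFinitePresentation (Red.DSmap S (zmultiplesHom ℤ (n : ℤ))).left :=
  haveI : MorphismProperty.ContainsIdentities @LocallyOfFinitePresentation.{u} :=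
    ⟨fun X => inferInstance⟩
  pullback_map_left_prop @LocallyOfFinitePresentation _ _ (lfp_diagMap_left (ULift.{u} ℤ) n)

theorem surjective_DSmap_left : Surjective (Red.DSmap S (zmultiplesHom ℤ (n : ℤ))).left :=
  pullback_map_left_prop @Surjective _ _ (surjective_diagMap_left (ULift.{u} ℤ) n)

/-- **Kummer sequence**: `1 → μ_n → G_m → G_m → 1` is exact for the fppf topology. -/
theorem kummer_fppf :
    NonAbH1.IsExactSeq Scheme.fppfPrecoverage
      (Red.DSmap S (Int.castAddHom (ZMod n))) (Red.chi S (n : ℤ)) := by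
  haveI hu : IsMonHom (Red.DSmap S (Int.castAddHom (ZMod n))) :=
    Groth.Agent.Lib.Helper27DiagSub.isMonHom_DSmap S _
  haveI hv : IsMonHom (Red.DSmap S (zmultiplesHom ℤ (n : ℤ))) :=
    Groth.Agent.Lib.Helper27DiagSub.isMonHom_DSmap S _
  have hk := DS_kernel n S
  show NonAbH1.IsExactSeq Scheme.fppfPrecoverage
      (Red.DSmap S (Int.castAddHom (ZMod n))) (Red.DSmap S (zmultiplesHom ℤ (n : ℤ)))
  refine ⟨hu, hv, ?_, ?_, ?_⟩
  · show Red.DSmap S (Int.castAddHom (ZMod n)) ≫ Red.DSmap S (zmultiplesHom ℤ (n : ℤ)) = 1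
    rw [hk.w, Hom.one_def]
  · exact Groth.Agent.Lib.T2H3.KernelSq.isPullback_of_kernel _ _ hk
  · haveI := flat_DSmap_left n S
    haveI := lfp_DSmap_left n S
    haveI := surjective_DSmap_left n S
    refine ⟨Presieve.singleton (Red.DSmap S (zmultiplesHom ℤ (n : ℤ))).left,
      Scheme.Hom.singleton_mem_fppfPrecoverage _, ?_⟩
    intro S' f hf
    obtain ⟨⟩ := hf
    exact ⟨𝟙 _, Category.id_comp _⟩

theorem kummer_fpqc :
    NonAbH1.IsExactSeq Scheme.fpqcPrecoverage
      (Red.DSmap S (Int.castAddHom (ZMod n))) (Red.chi S (n : ℤ)) := by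
  obtain ⟨h1, h2, h3, h4, R, hR, h5⟩ := kummer_fppf n S
  exact ⟨h1, h2, h3, h4, R, Scheme.fppfPrecoverage_le_fpqcPrecoverage _ hR, h5⟩

end Base2

end Groth.Agent.Lib.T2H3.KummerSch
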