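import Mathlib
import Groth.Prelude.Def_Red
import Groth.Prelude.Def_Red2
import Groth.Prelude.Def_NonAbH2
import Groth.Prelude.Def_TwC
import Groth.Agent.Lib.Helper27GaGm
import Groth.Agent.Lib.Helper11RigidityB
import Groth.Agent.Lib.T2H3KernelSq
import Groth.Agent.Lib.T2H3KummerSch
import Groth.Agent.Lib.T2H3ConstSch
import Groth.Agent.Lib.T2H3ASAlg
import Groth.Agent.Lib.T2H3H90

/-!
# The Artin–Schreier sequence `1 → (ℤ/p)_S → 𝔾_a → 𝔾_a → 1` is exact for the fpqc topology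
-/

set_option autoImplicit false
set_option linter.style.haveILetI false
set_option linter.unusedSectionVars false
universe u

namespace Groth.Agent.Lib.T2H3.ArtinSchreier

open CategoryTheory MonoidalCategory CartesianMonoidalCategory MonObj GrpObj AlgebraicGeometry Limits
open Groth.Agent.Lib.Helper27.GaGm Groth.Agent.Lib.T2H3.ASAlg Groth.Agent.Lib.T2H3.ConstSch

/-! ### Generalities -/

/-- global functions agreeing on the members of an open cover are equal. -/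
theorem eq_of_ι_appTop_eq {X : Scheme.{u}} {I : Type*} (U : I → X.Opens) (hU : ⨆ i, U i = ⊤)
    (s t : Γ(X, ⊤)) (h : ∀ i, (U i).ι.appTop s = (U i).ι.appTop t) : s = t := by
  refine TopCat.Sheaf.eq_of_locally_eq' X.sheaf (fun i => (U i).ι ''ᵁ ⊤) ⊤
    (fun i => homOfLE le_top) ?_ s t ?_
  · rw [← hU]
    apply iSup_mono
    intro i
    rw [Scheme.Opens.ι_image_top]
  · intro i
    exact h i

/-- an open on which a function becomes a unit lies in its basic open. -/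
theorem le_basicOpen_of_isUnit {X : Scheme.{u}} (W : X.Opens) (s : Γ(X, ⊤))
    (h : IsUnit (W.ι.appTop s)) : W ≤ X.basicOpen s := by
  have h1 : W.ι ⁻¹ᵁ (X.basicOpen s) = ⊤ := by
    rw [Scheme.preimage_basicOpen]
    exact Scheme.basicOpen_of_isUnit _ h
  intro x hx
  have : (⟨x, hx⟩ : W) ∈ W.ι ⁻¹ᵁ (X.basicOpen s) := by rw [h1]; trivial
  exact this

variable {S : Scheme.{u}} (p : ℕ) [Fact p.Prime]

theorem natCast_eq_zero_of_hom {X Y : Scheme.{u}} (f : X ⟶ Y) (h : (p : Γ(Y, ⊤)) = 0) :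
    (p : Γ(X, ⊤)) = 0 := by
  have := congrArg f.appTop.hom h
  rwa [map_natCast, map_zero] at this

/-! ### The Artin–Schreier endomorphism on points -/

section AS

variable (F : Red.Ga S ⟶ Red.Ga S)
  (hF : ∀ (T : Over S) (x : T ⟶ Red.Ga S), Red.gaFn (x ≫ F) = Red.gaFn x ^ p)

include hF in
theorem gaFn_comp_as (T : Over S) (x : T ⟶ Red.Ga S) :
    Red.gaFn (x ≫ (𝟙 (Red.Ga S) * F⁻¹)) = Red.gaFn x - Red.gaFn x ^ p := by
  rw [MonObj.comp_mul, GrpObj.comp_inv, Category.comp_id, gaFn_mul, gaFn_inv, hF, sub_eq_add_neg]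

include hF in
theorem isMonHom_as (hp : (p : Γ(S, ⊤)) = 0) : IsMonHom (𝟙 (Red.Ga S) * F⁻¹) := by
  apply Groth.Agent.Lib.Helper11Rigidity.isMonHom_of_mul
  · apply gaFn_injective
    rw [gaFn_comp_as p F hF, MonObj.one_eq_one, gaFn_one]
    have hp2 : p ≠ 0 := (Fact.out : p.Prime).ne_zero
    simp [hp2]
  · apply gaFn_injective
    have hpT := natCast_eq_zero_of_hom p (Red.Ga S ⊗ Red.Ga S).hom hp
    rw [gaFn_comp_as p F hF, gaFn_mul, gaFn_mul, gaFn_comp_as p F hF, gaFn_comp_as p F hF,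
      add_pow_p hpT]
    ring

end AS

/-! ### The points of the constant group -/

section Pts

variable {G' : Over S} [GrpObj G'] (e : G' ≅ TwC.const S (Multiplicative (ZMod p)))
  (he : TwC.IsConstGrp (Multiplicative (ZMod p)) G' e)
  (i : G' ⟶ Red.Ga S) [hmi : IsMonHom i]
  (hi : Red.gaFn (TwC.pt S (Multiplicative (ZMod p)) (Multiplicative.ofAdd 1) ≫ e.inv ≫ i) = 1)

include he in
theorem pt_one : TwC.pt S (Multiplicative (ZMod p)) 1 ≫ e.inv = 1 := by
  have h := he 1 1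
  rw [_root_.mul_one] at h
  exact mul_eq_left.mp h

include he hi hmi in
theorem gaFn_pt_natCast (n : ℕ) :
    Red.gaFn (TwC.pt S (Multiplicative (ZMod p)) (Multiplicative.ofAdd (n : ZMod p)) ≫ e.inv ≫ i) =
      (n : Γ((𝟙_ (Over S)).left, ⊤)) := by
  induction n with
  | zero =>
    have h0 : Multiplicative.ofAdd ((0 : ℕ) : ZMod p) = 1 := by simp
    rw [h0, ← Category.assoc, pt_one p e he, MonObj.one_comp i, gaFn_one]
    simp
  | succ n ih =>
    have h1 : Multiplicative.ofAdd ((n + 1 : ℕ) : ZMod p) =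
        Multiplicative.ofAdd (n : ZMod p) * Multiplicative.ofAdd 1 := by
      rw [← ofAdd_add]; simp
    rw [h1, ← Category.assoc, ← he, MonObj.mul_comp _ _ i, gaFn_mul, Category.assoc, Category.assoc, ih,
      hi]
    simp

include he hi hmi in
theorem gaFn_pt (m : Multiplicative (ZMod p)) :
    Red.gaFn (TwC.pt S (Multiplicative (ZMod p)) m ≫ e.inv ≫ i) =
      (((Multiplicative.toAdd m).val : ℕ) : Γ((𝟙_ (Over S)).left, ⊤)) := by
  have := gaFn_pt_natCast p e he i hi (Multiplicative.toAdd m).val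
  rwa [ZMod.natCast_zmod_val, ofAdd_toAdd] at this

end Pts

/-! ### Points of the constant group and solutions of `c^p = c` -/

section Key

variable {p}

/-- the open where `c = m` -/
noncomputable def UU {X : Scheme.{u}} (c : Γ(X, ⊤)) (m : (Multiplicative (ZMod p))) : X.Opens :=
  X.basicOpen (idem c (Multiplicative.toAdd m))

theorem UU_disjoint {X : Scheme.{u}} (hpX : (p : Γ(X, ⊤)) = 0) (c : Γ(X, ⊤)) (hc : c ^ p = c)
    {m m' : (Multiplicative (ZMod p))} (h : m ≠ m') : UU c m ⊓ UU c m' = ⊥ := by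
  unfold UU
  have h' : Multiplicative.toAdd m ≠ Multiplicative.toAdd m' := fun hh => h (Multiplicative.toAdd.injective hh)
  rw [← Scheme.basicOpen_mul, idem_mul_idem hpX c h', hc, sub_self, mul_zero,
    Scheme.basicOpen_zero]

theorem UU_cover {X : Scheme.{u}} (hpX : (p : Γ(X, ⊤)) = 0) (c : Γ(X, ⊤)) :
    ⨆ m : (Multiplicative (ZMod p)), UU c m = ⊤ := by
  obtain ⟨a, ha⟩ := exists_sum_idem hpX c
  have hs : Ideal.span (Set.range (fun m : ZMod p => idem c m)) = ⊤ := by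
    rw [Ideal.eq_top_iff_one, ← ha]
    exact Ideal.sum_mem _ fun m _ => Ideal.mul_mem_left _ _ (Ideal.subset_span ⟨m, rfl⟩)
  have h1 := iSup_basicOpen_of_span_eq_top (X := X) ⊤ _ hs
  rw [eq_top_iff]
  intro x hx
  rw [← h1] at hx
  simp only [TopologicalSpace.Opens.mem_iSup] at hx
  obtain ⟨_, ⟨m, rfl⟩, hx⟩ := hx
  exact TopologicalSpace.Opens.mem_iSup.2 ⟨Multiplicative.ofAdd m, hx⟩

theorem ι_appTop_UU {X : Scheme.{u}} (hpX : (p : Γ(X, ⊤)) = 0) (c : Γ(X, ⊤)) (hc : c ^ p = c)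
    (m : (Multiplicative (ZMod p))) :
    (UU c m).ι.appTop c = (((Multiplicative.toAdd m).val : ℕ) : Γ(UU c m, ⊤)) := by
  have hu : IsUnit ((UU c m).ι.appTop (idem c (Multiplicative.toAdd m))) :=
    Groth.Agent.Lib.T2H3.H90.isUnit_ι_appTop_basicOpen X _
  have h0 : ((UU c m).ι.appTop c - (((Multiplicative.toAdd m).val : ℕ) : Γ(UU c m, ⊤))) *
      (UU c m).ι.appTop (idem c (Multiplicative.toAdd m)) = 0 := by
    have := congrArg (UU c m).ι.appTop.hom (sub_mul_idem hpX c (Multiplicative.toAdd m))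
    rw [hc, sub_self, map_zero, map_mul, map_sub, map_natCast] at this
    exact this
  exact sub_eq_zero.mp (hu.mul_left_eq_zero.mp h0)

variable (j : TwC.const S (Multiplicative (ZMod p)) ⟶ Red.Ga S)
  (hj : ∀ m : (Multiplicative (ZMod p)), Red.gaFn (TwC.pt S (Multiplicative (ZMod p)) m ≫ j) =
      (((Multiplicative.toAdd m).val : ℕ) : Γ((𝟙_ (Over S)).left, ⊤)))

include hj in
theorem ι_appTop_gaFn_comp {T : Over S} (g : T ⟶ TwC.const S (Multiplicative (ZMod p))) (m : (Multiplicative (ZMod p))) (U : T.left.Opens)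
    (hU : U.ι ≫ g.left = U.ι ≫ T.hom ≫ comp (S := S) (Multiplicative (ZMod p)) m) :
    U.ι.appTop (Red.gaFn (g ≫ j)) = (((Multiplicative.toAdd m).val : ℕ) : Γ(U, ⊤)) := by
  rw [gaFn_comp]
  have h1 : U.ι.appTop (g.left.appTop (Red.gaFn j)) = (U.ι ≫ g.left).appTop (Red.gaFn j) := by
    rw [Scheme.Hom.comp_appTop]; rfl
  have h2 : (TwC.pt S (Multiplicative (ZMod p)) m).left.appTop (Red.gaFn j) =
      (((Multiplicative.toAdd m).val : ℕ) : Γ((𝟙_ (Over S)).left, ⊤)) :=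
    (gaFn_comp _ _).symm.trans (hj m)
  have h3 : (U.ι ≫ T.hom ≫ comp (S := S) (Multiplicative (ZMod p)) m).appTop (Red.gaFn j) =
      (U.ι ≫ T.hom).appTop ((TwC.pt S (Multiplicative (ZMod p)) m).left.appTop (Red.gaFn j)) := by
    rw [← Category.assoc, Scheme.Hom.comp_appTop]; rfl
  rw [h1, hU, h3, h2, map_natCast]

include hj in
theorem exists_hom_gaFn (hp : (p : Γ(S, ⊤)) = 0) (T : Over S) (c : Γ(T.left, ⊤))
    (hc : c ^ p = c) : ∃ g : T ⟶ TwC.const S (Multiplicative (ZMod p)), Red.gaFn (g ≫ j) = c := by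
  have hpT := natCast_eq_zero_of_hom p T.hom hp
  obtain ⟨g, hg⟩ := exists_hom_of_disjoint_cover (S := S) (M := (Multiplicative (ZMod p))) (T := T) (fun m => UU c m)
    (UU_cover hpT c) (fun m m' h => UU_disjoint hpT c hc h)
  refine ⟨g, eq_of_ι_appTop_eq (fun m : (Multiplicative (ZMod p)) => UU c m) (UU_cover hpT c) _ _ fun m => ?_⟩
  rw [ι_appTop_gaFn_comp j hj g m _ (hg m), ι_appTop_UU hpT c hc m]

include hj in
theorem gaFn_comp_pow (hp : (p : Γ(S, ⊤)) = 0) {T : Over S} (g : T ⟶ TwC.const S (Multiplicative (ZMod p))) :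
    Red.gaFn (g ≫ j) ^ p = Red.gaFn (g ≫ j) := by
  refine eq_of_ι_appTop_eq (fun m : (Multiplicative (ZMod p)) => pre.{0, u} (Multiplicative (ZMod p)) g m) (iSup_pre g) _ _ fun m => ?_
  have hpW : (p : Γ(pre.{0, u} (Multiplicative (ZMod p)) g m, ⊤)) = 0 :=
    natCast_eq_zero_of_hom p ((pre.{0, u} (Multiplicative (ZMod p)) g m).ι ≫ T.hom) hp
  rw [map_pow, ι_appTop_gaFn_comp j hj g m _ (ι_pre_comp g m), natCast_pow_p hpW]

include hj in
theorem pre_le_UU (hp : (p : Γ(S, ⊤)) = 0) {T : Over S} (g : T ⟶ TwC.const S (Multiplicative (ZMod p))) (m : (Multiplicative (ZMod p))) :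
    pre.{0, u} (Multiplicative (ZMod p)) g m ≤ UU (Red.gaFn (g ≫ j)) m := by
  apply le_basicOpen_of_isUnit
  have hpW : (p : Γ(pre.{0, u} (Multiplicative (ZMod p)) g m, ⊤)) = 0 :=
    natCast_eq_zero_of_hom p ((pre.{0, u} (Multiplicative (ZMod p)) g m).ι ≫ T.hom) hp
  have h1 := ι_appTop_gaFn_comp j hj g m (pre.{0, u} (Multiplicative (ZMod p)) g m) (ι_pre_comp g m)
  have h2 : (pre.{0, u} (Multiplicative (ZMod p)) g m).ι.appTop (idem (Red.gaFn (g ≫ j)) (Multiplicative.toAdd m)) =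
      idem ((pre.{0, u} (Multiplicative (ZMod p)) g m).ι.appTop (Red.gaFn (g ≫ j))) (Multiplicative.toAdd m) := by
    unfold idem
    rw [map_prod]
    simp only [map_sub, map_natCast]
  rw [h2, h1]
  exact isUnit_idem_val hpW _

include hj in
theorem UU_le_pre (hp : (p : Γ(S, ⊤)) = 0) {T : Over S} (g : T ⟶ TwC.const S (Multiplicative (ZMod p))) (m : (Multiplicative (ZMod p))) :
    UU (Red.gaFn (g ≫ j)) m ≤ pre.{0, u} (Multiplicative (ZMod p)) g m := by
  have hpT := natCast_eq_zero_of_hom p T.hom hp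
  intro x hx
  have hx' : x ∈ (⨆ m', pre.{0, u} (Multiplicative (ZMod p)) g m') := by rw [iSup_pre]; trivial
  obtain ⟨m', hm'⟩ := TopologicalSpace.Opens.mem_iSup.1 hx'
  by_cases h : m = m'
  · rw [h]; exact hm'
  · exfalso
    have h3 := pre_le_UU j hj hp g m' hm'
    have h4 : x ∈ UU (Red.gaFn (g ≫ j)) m ⊓ UU (Red.gaFn (g ≫ j)) m' := ⟨hx, h3⟩
    rw [UU_disjoint hpT _ (gaFn_comp_pow j hj hp g) h] at h4
    exact h4

include hj in
theorem hom_ext_gaFn (hp : (p : Γ(S, ⊤)) = 0) {T : Over S} (g₁ g₂ : T ⟶ TwC.const S (Multiplicative (ZMod p)))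
    (h : Red.gaFn (g₁ ≫ j) = Red.gaFn (g₂ ≫ j)) : g₁ = g₂ := by
  apply hom_ext_of_preimage_le
  intro m
  refine (pre_le_UU j hj hp g₁ m).trans ?_
  rw [h]
  exact UU_le_pre j hj hp g₂ m

end Key

/-! ### The Artin–Schreier morphism is a base change from `ℤ`, flat, surjective, quasi-compact -/

section OverZ

/-- the ring homomorphism `t ↦ t - t^p` of `ℤ[t]` -/
noncomputable abbrev asRingHom : SymmetricAlgebra (ULift.{u} ℤ) (ULift.{u} ℤ) →+*
    SymmetricAlgebra (ULift.{u} ℤ) (ULift.{u} ℤ) :=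
  (ASAlg.asHom (ULift.{u} ℤ) p : SymmetricAlgebra (ULift.{u} ℤ) (ULift.{u} ℤ) →+*
    SymmetricAlgebra (ULift.{u} ℤ) (ULift.{u} ℤ))

/-- the Artin–Schreier endomorphism `x ↦ x - x^p` of `𝔾_a` over `ℤ` (a morphism of schemes only). -/
noncomputable def asZ : Red.GaZ.{u} ⟶ Red.GaZ.{u} :=
  Over.homMk (Spec.map (CommRingCat.ofHom (asRingHom.{u} p)))
    (specULiftZIsTerminal.hom_ext _ _)

theorem gaFn_comp_pullback_asZ (T : Over S) (x : T ⟶ Red.Ga S) :
    Red.gaFn (x ≫ (Over.pullback (IsTerminal.from specULiftZIsTerminal S)).map (asZ.{u} p)) =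
      Red.gaFn x - Red.gaFn x ^ p := by
  rw [gaFn_eq_fn_gaPt, gaFn_eq_fn_gaPt]
  have h1 : gaPt (x ≫ (Over.pullback (IsTerminal.from specULiftZIsTerminal S)).map (asZ.{u} p)) =
      gaPt x ≫ Spec.map (CommRingCat.ofHom (asRingHom.{u} p)) := by
    unfold gaPt
    rw [Over.comp_left, Category.assoc, Category.assoc]
    congr 1
    simp only [asZ, Over.pullback_map_left, Over.homMk_left]
    exact pullback.lift_fst _ _ _
  rw [h1, fn_specMap]
  have h2 : (ASAlg.asHom (ULift.{u} ℤ) p) (SymmetricAlgebra.ι (ULift.{u} ℤ) (ULift.{u} ℤ) (ULift.up 1)) =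
      SymmetricAlgebra.ι (ULift.{u} ℤ) (ULift.{u} ℤ) (ULift.up 1) -
        SymmetricAlgebra.ι (ULift.{u} ℤ) (ULift.{u} ℤ) (ULift.up 1) ^ p := asHom_tt _ _
  rw [RingHom.coe_coe, h2, fn_eq, map_sub, map_pow]
  rfl

theorem flat_asZ_left : Flat (asZ.{u} p).left := by
  have h := asHom_faithfullyFlat (ULift.{u} ℤ) p (Fact.out : p.Prime).two_le
  have : Flat (Spec.map (CommRingCat.ofHom (asRingHom.{u} p))) := by
    rw [HasRingHomProperty.Spec_iff (P := @Flat)]
    exact h.flat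
  exact this

theorem surjective_asZ_left : Surjective (asZ.{u} p).left := by
  have h := asHom_faithfullyFlat (ULift.{u} ℤ) p (Fact.out : p.Prime).two_le
  have : Surjective (Spec.map (CommRingCat.ofHom (asRingHom.{u} p))) := by
    constructor
    exact (RingHom.FaithfullyFlat.iff_flat_and_comap_surjective.mp h).2
  exact this

theorem quasiCompact_asZ_left : QuasiCompact (asZ.{u} p).left := by
  have : QuasiCompact (Spec.map (CommRingCat.ofHom (asRingHom.{u} p))) :=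
    inferInstance
  exact this

end OverZ

/-! ### The exact sequence -/

section Main

variable (F : Red.Ga S ⟶ Red.Ga S)
  (hF : ∀ (T : Over S) (x : T ⟶ Red.Ga S), Red.gaFn (x ≫ F) = Red.gaFn x ^ p)

include hF in
theorem as_eq_pullback_asZ : 𝟙 (Red.Ga S) * F⁻¹ =
    (Over.pullback (IsTerminal.from specULiftZIsTerminal S)).map (asZ.{u} p) := by
  apply gaFn_injective
  have h1 := gaFn_comp_as p F hF _ (𝟙 (Red.Ga S))
  have h2 := gaFn_comp_pullback_asZ (S := S) p _ (𝟙 (Red.Ga S))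
  rw [Category.id_comp] at h1 h2
  rw [h1, h2]

variable {G' : Over S} [GrpObj G'] (e : G' ≅ TwC.const S (Multiplicative (ZMod p)))
  (he : TwC.IsConstGrp (Multiplicative (ZMod p)) G' e)
  (i : G' ⟶ Red.Ga S) [hmi : IsMonHom i]
  (hi : Red.gaFn (TwC.pt S (Multiplicative (ZMod p)) (Multiplicative.ofAdd 1) ≫ e.inv ≫ i) = 1)

include hF he hi hmi in
theorem comp_as_eq_one (hp : (p : Γ(S, ⊤)) = 0) : i ≫ (𝟙 (Red.Ga S) * F⁻¹) = 1 := by
  rw [← cancel_epi e.inv]
  ext1
  refine Sigma.hom_ext _ _ fun m => ?_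
  have h : TwC.pt S (Multiplicative (ZMod p)) m ≫ e.inv ≫ i ≫ (𝟙 (Red.Ga S) * F⁻¹) =
      TwC.pt S (Multiplicative (ZMod p)) m ≫ e.inv ≫ 1 := by
    apply gaFn_injective
    have hp1 : (p : Γ((𝟙_ (Over S)).left, ⊤)) = 0 := hp
    rw [← Category.assoc e.inv, ← Category.assoc, gaFn_comp_as p F hF,
      gaFn_pt p e he i hi, MonObj.comp_one, MonObj.comp_one, gaFn_one, natCast_pow_p hp1, sub_self]
  exact congrArg (fun k => k.left) h

include hF he hi hmi in
theorem isPullback_kernel (hp : (p : Γ(S, ⊤)) = 0) :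
    IsPullback i (toUnit G') (𝟙 (Red.Ga S) * F⁻¹) η[Red.Ga S] := by
  have hw : i ≫ (𝟙 (Red.Ga S) * F⁻¹) = toUnit G' ≫ η[Red.Ga S] := by
    rw [comp_as_eq_one p F hF e he i hi hp, Hom.one_def]
  have hj := gaFn_pt p e he i hi
  -- the lifting property
  have key : ∀ (T : Over S) (x : T ⟶ Red.Ga S), x ≫ (𝟙 (Red.Ga S) * F⁻¹) = 1 →
      ∃ g : T ⟶ G', g ≫ i = x := by
    intro T x hx
    have h1 := gaFn_comp_as p F hF T x
    rw [hx, gaFn_one] at h1
    have hc : Red.gaFn x ^ p = Red.gaFn x := (sub_eq_zero.mp h1.symm).symm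
    obtain ⟨g, hg⟩ := exists_hom_gaFn (e.inv ≫ i) hj hp T (Red.gaFn x) hc
    refine ⟨g ≫ e.inv, gaFn_injective ?_⟩
    rw [Category.assoc, hg]
  have huniq : ∀ (T : Over S) (g₁ g₂ : T ⟶ G'), g₁ ≫ i = g₂ ≫ i → g₁ = g₂ := by
    intro T g₁ g₂ h
    have h2 : g₁ ≫ e.hom = g₂ ≫ e.hom := by
      apply hom_ext_gaFn (e.inv ≫ i) hj hp
      rw [Category.assoc, Category.assoc, e.hom_inv_id_assoc, h]
    exact (cancel_mono e.hom).mp h2
  have hone : ∀ (s : PullbackCone (𝟙 (Red.Ga S) * F⁻¹) η[Red.Ga S]),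
      s.fst ≫ (𝟙 (Red.Ga S) * F⁻¹) = 1 := by
    intro s
    rw [s.condition, Hom.one_def]
    congr 1
    exact toUnit_unique _ _
  refine ⟨⟨hw⟩, ⟨PullbackCone.IsLimit.mk hw
    (fun s => Classical.choose (key s.pt s.fst (hone s))) ?_ ?_ ?_⟩⟩
  · intro s
    exact Classical.choose_spec (key s.pt s.fst (hone s))
  · intro s
    exact toUnit_unique _ _
  · intro s m h1 _
    apply huniq
    rw [h1, Classical.choose_spec (key s.pt s.fst (hone s))]

include hF he hi hmi in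
/-- **Artin–Schreier sequence**: `1 → (ℤ/p)_S → 𝔾_a → 𝔾_a → 1` is exact for the fpqc topology. -/
theorem artinSchreier_fpqc (hp : (p : Γ(S, ⊤)) = 0) :
    NonAbH1.IsExactSeq Scheme.fpqcPrecoverage i (𝟙 (Red.Ga S) * F⁻¹) := by
  haveI hv : IsMonHom (𝟙 (Red.Ga S) * F⁻¹) := isMonHom_as p F hF hp
  have hk := isPullback_kernel p F hF e he i hi hp
  refine ⟨hmi, hv, comp_as_eq_one p F hF e he i hi hp,
    Groth.Agent.Lib.T2H3.KernelSq.isPullback_of_kernel _ _ hk, ?_⟩
  have heq := as_eq_pullback_asZ p F hF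
  haveI : Flat (𝟙 (Red.Ga S) * F⁻¹).left := by
    rw [heq]
    exact Groth.Agent.Lib.T2H3.KummerSch.pullback_map_left_prop @Flat _ _ (flat_asZ_left p)
  haveI : Surjective (𝟙 (Red.Ga S) * F⁻¹).left := by
    rw [heq]
    exact Groth.Agent.Lib.T2H3.KummerSch.pullback_map_left_prop @Surjective _ _
      (surjective_asZ_left p)
  haveI : QuasiCompact (𝟙 (Red.Ga S) * F⁻¹).left := by
    rw [heq]
    exact Groth.Agent.Lib.T2H3.KummerSch.pullback_map_left_prop @QuasiCompact _ _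
      (quasiCompact_asZ_left p)
  refine ⟨Presieve.singleton (𝟙 (Red.Ga S) * F⁻¹).left,
    Scheme.Hom.singleton_mem_fpqcPrecoverage _, ?_⟩
  intro S' f hf
  obtain ⟨⟩ := hf
  exact ⟨𝟙 _, Category.id_comp _⟩

end Main

end Groth.Agent.Lib.T2H3.ArtinSchreier
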