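import Mathlib

/-!
# `X`-adic separatedness of localizations of `R[X]` near the zero section

For `f : R[X]` with constant coefficient `c`, put `g = f * C c`.  In the localization `D = R[X]_g`
(a neighbourhood of the points of `V(X)` where `f` does not vanish) an element divisible by every
power of `X` is zero.
-/

set_option autoImplicit false

namespace Groth.Agent.Lib.T2H3.PolyAwaySep

open Polynomial

variable {R : Type*} [CommRing R]

lemma eq_zero_of_X_pow_dvd_of_natDegree_lt (p : R[X]) (n : ℕ) (h : X ^ n ∣ p)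
    (hd : p.natDegree < n) : p = 0 := by
  ext d
  rw [coeff_zero]
  by_cases hdn : d < n
  · exact (X_pow_dvd_iff.mp h) d hdn
  · exact coeff_eq_zero_of_natDegree_lt (lt_of_lt_of_le hd (not_lt.mp hdn))

lemma exists_pow_mul_eq_zero (f a : R[X]) (K : ℕ)
    (h : X ^ (a.natDegree + 1) ∣ (f * C (f.coeff 0)) ^ K * a) :
    ∃ J, (f * C (f.coeff 0)) ^ J * a = 0 := by
  set c := f.coeff 0 with hc
  set g := f * C c with hg
  set n := a.natDegree + 1 with hn
  have h1 : C c * C c ∈ Ideal.span {g} ⊔ Ideal.span {(X : R[X])} := by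
    obtain ⟨q, hq⟩ : (X : R[X]) ∣ f - C c := X_dvd_sub_C
    have : C c * C c = g * 1 + X * (- (q * C c)) := by
      have hf : f = C c + X * q := by rw [← hq]; ring
      have hg' : g = (C c + X * q) * C c := by rw [hg]; congr 1
      rw [hg']
      ring
    rw [this]
    exact Ideal.add_mem _
      (Ideal.mem_sup_left (Ideal.mul_mem_right _ _ (Ideal.mem_span_singleton_self g)))
      (Ideal.mem_sup_right (Ideal.mul_mem_right _ _ (Ideal.mem_span_singleton_self X)))
  have h2 : (C c * C c) ^ (K + n) ∈ Ideal.span {g ^ K} ⊔ Ideal.span {(X : R[X]) ^ n} := by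
    have := Ideal.pow_mem_pow h1 (K + n)
    have h3 := Ideal.sup_pow_add_le_pow_sup_pow (I := Ideal.span {g}) (J := Ideal.span {(X : R[X])})
      (n := K) (m := n) this
    rwa [Ideal.span_singleton_pow, Ideal.span_singleton_pow] at h3
  obtain ⟨u', hu', v', hv', huv⟩ := Submodule.mem_sup.mp h2
  obtain ⟨u, rfl⟩ := Ideal.mem_span_singleton'.mp hu'
  obtain ⟨v, rfl⟩ := Ideal.mem_span_singleton'.mp hv'
  obtain ⟨w, hw⟩ := h
  have h4 : X ^ n ∣ (C c * C c) ^ (K + n) * a := by
    refine ⟨u * w + v * a, ?_⟩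
    rw [← huv, add_mul, mul_assoc u, hw]
    ring
  have h5 : (C c * C c) ^ (K + n) * a = 0 := by
    apply eq_zero_of_X_pow_dvd_of_natDegree_lt _ n h4
    rw [← C_mul, ← C_pow]
    exact lt_of_le_of_lt (natDegree_C_mul_le _ _) (Nat.lt_succ_self _)
  refine ⟨2 * (K + n), ?_⟩
  have : g ^ (2 * (K + n)) * a = f ^ (2 * (K + n)) * ((C c * C c) ^ (K + n) * a) := by
    rw [hg]
    ring
  rw [this, h5, mul_zero]

theorem eq_zero_of_forall_X_pow_dvd (f : R[X]) {D : Type*} [CommRing D] [Algebra R[X] D]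
    [IsLocalization.Away (f * C (f.coeff 0)) D] (d : D)
    (h : ∀ n, algebraMap R[X] D (X ^ n) ∣ d) : d = 0 := by
  set g := f * C (f.coeff 0) with hg
  obtain ⟨M, a, ha⟩ := IsLocalization.Away.surj g d
  obtain ⟨d', hd'⟩ := h (a.natDegree + 1)
  obtain ⟨L, b, hb⟩ := IsLocalization.Away.surj g d'
  have hu : IsUnit (algebraMap R[X] D g) := IsLocalization.Away.algebraMap_isUnit g
  have h1 : algebraMap R[X] D (a * g ^ L) = algebraMap R[X] D (X ^ (a.natDegree + 1) * b * g ^ M) := by
    rw [map_mul, map_mul, map_mul, ← ha, ← hb, map_pow (algebraMap R[X] D) g L,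
      map_pow (algebraMap R[X] D) g M]
    rw [hd']
    ring
  obtain ⟨⟨_, K', rfl⟩, hK'⟩ := (IsLocalization.eq_iff_exists (Submonoid.powers g) D).mp h1
  have h2 : X ^ (a.natDegree + 1) ∣ g ^ (K' + L) * a := by
    refine ⟨g ^ K' * b * g ^ M, ?_⟩
    have : g ^ (K' + L) * a = g ^ K' * (a * g ^ L) := by ring
    rw [this, hK']
    ring
  obtain ⟨J, hJ⟩ := exists_pow_mul_eq_zero f a (K' + L) h2
  have h3 : algebraMap R[X] D a = 0 := by
    have := congrArg (algebraMap R[X] D) hJ
    rw [map_mul, map_pow, map_zero] at this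
    exact (hu.pow J).mul_right_eq_zero.mp this
  rw [h3] at ha
  exact (hu.pow M).mul_left_eq_zero.mp ha

end Groth.Agent.Lib.T2H3.PolyAwaySep
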