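import Mathlib
import Groth.Prelude.Def_Magnet3
import Groth.Agent.Lib.T2H3AMonPts
import Groth.Agent.Lib.T2H3AffLineChart
import Groth.Agent.Lib.T2H3PolyAwaySep
import Groth.Agent.Lib.T2H3MagnetUnram

/-!
# Morphisms out of `A¹ × Y` agreeing on all infinitesimal neighbourhoods of the zero section

Two morphisms `γ₁ γ₂ : A(ℕ)_S ⊗ Y ⟶ X` which agree at all points `(m, t)` with `m` nilpotent agree on
an open neighbourhood of the zero section.
-/

set_option autoImplicit false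
set_option linter.style.haveILetI false
universe u

open CategoryTheory CategoryTheory.Limits MonoidalCategory CartesianMonoidalCategory MonObj
  AlgebraicGeometry Opposite Polynomial

namespace Groth.Agent.Lib.T2H3.AttrLocal

open Magnet Groth.Agent.Lib.Helper27.GaGm Groth.Agent.Lib.T2H3.AMonPts
  Groth.Agent.Lib.T2H3.AffLineChart

variable {S : Scheme.{u}} {X Y : Over S} (γ₁ γ₂ : AMonS S ↥N₁ ⊗ Y ⟶ X)

/-- `γ₁` and `γ₂` agree at all points `(m, t)` with `m` nilpotent in the monoid `A¹(T)`. -/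
def AgreeNilp : Prop :=
  ∀ (T : Over S) (m : T ⟶ AMonS S ↥N₁) (t : T ⟶ Y),
    (∃ n : ℕ, ∀ m' : T ⟶ AMonS S ↥N₁, m ^ (n + 1) * m' = m ^ (n + 1)) →
    lift m t ≫ γ₁ = lift m t ≫ γ₂

lemma nilp_of_aFn_pow {T : Over S} (m : T ⟶ AMonS S ↥N₁) (n : ℕ)
    (hm : aFn n₀ m ^ (n + 1) = 0) :
    ∀ m' : T ⟶ AMonS S ↥N₁, m ^ (n + 1) * m' = m ^ (n + 1) := by
  intro m'
  apply aFn_injective
  rw [aFn_mul, aFn_pow, hm, zero_mul]

variable {γ₁ γ₂}

lemma comp_eq_of_aFn_pow (h : AgreeNilp γ₁ γ₂) {T : Over S} (w : T ⟶ AMonS S ↥N₁ ⊗ Y) (n : ℕ)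
    (hw : aFn n₀ (w ≫ fst _ _) ^ (n + 1) = 0) : w ≫ γ₁ = w ≫ γ₂ := by
  have := h T (w ≫ fst _ _) (w ≫ snd _ _) ⟨n, nilp_of_aFn_pow _ n hw⟩
  rwa [lift_comp_fst_snd] at this

section Chart

variable {C : Type u} [CommRing C] (j : Spec (CommRingCat.of C) ⟶ Y.left)

/-- the chart `Spec C ⟶ Y` over `S`. -/
noncomputable def jO : Over.mk (j ≫ Y.hom) ⟶ Y := Over.homMk j rfl

/-- the chart `Spec C[X] ⟶ A¹ × Y`. -/
noncomputable def eps : ZC (j ≫ Y.hom) ⟶ AMonS S ↥N₁ ⊗ Y :=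
  theta (j ≫ Y.hom) ≫ (AMonS S ↥N₁ ◁ jO j)

lemma aFn_eps_fst : aFn n₀ (eps j ≫ fst _ _) = Xt (j ≫ Y.hom) := by
  unfold eps
  rw [Category.assoc, whiskerLeft_fst, aFn_theta_fst]

/-- `γ` in the chart. -/
noncomputable def delta (gam : AMonS S ↥N₁ ⊗ Y ⟶ X) : Spec (CommRingCat.of C[X]) ⟶ X.left :=
  (eps j ≫ gam).left

lemma comp_delta_eq (h : AgreeNilp γ₁ γ₂) {T₀ : Scheme.{u}} (τ₀ : T₀ ⟶ Spec (CommRingCat.of C[X]))
    (n : ℕ) (hτ : fn τ₀ (Polynomial.X : C[X]) ^ (n + 1) = 0) :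
    τ₀ ≫ delta j γ₁ = τ₀ ≫ delta j γ₂ := by
  let T : Over S := Over.mk (τ₀ ≫ (ZC (j ≫ Y.hom)).hom)
  let τ : T ⟶ ZC (j ≫ Y.hom) := Over.homMk τ₀ rfl
  have h1 : aFn n₀ ((τ ≫ eps j) ≫ fst _ _) = fn τ₀ (Polynomial.X : C[X]) := by
    rw [Category.assoc, aFn_comp, aFn_eps_fst]
    have : τ₀ = τ₀ ≫ 𝟙 _ := (Category.comp_id _).symm
    rw [this, fn_comp]
    rfl
  have h2 := comp_eq_of_aFn_pow h (τ ≫ eps j) n (by rw [h1]; exact hτ)
  have h3 : (τ ≫ eps j ≫ γ₁).left = (τ ≫ eps j ≫ γ₂).left := by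
    rw [← Category.assoc, h2, Category.assoc]
  exact h3

lemma specMap_comp_delta_eq (h : AgreeNilp γ₁ γ₂) {D' : Type u} [CommRing D'] (ψ : C[X] →+* D')
    (n : ℕ) (hψ : ψ Polynomial.X ^ (n + 1) = 0) :
    Spec.map (CommRingCat.ofHom ψ) ≫ delta j γ₁ = Spec.map (CommRingCat.ofHom ψ) ≫ delta j γ₂ := by
  apply comp_delta_eq j h _ n
  have : Spec.map (CommRingCat.ofHom ψ) = 𝟙 _ ≫ Spec.map (CommRingCat.ofHom ψ) :=
    (Category.id_comp _).symm
  rw [this, fn_specMap, fn_eq, ← map_pow, hψ, map_zero]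

lemma delta_apply_eq (h : AgreeNilp γ₁ γ₂) (q : PrimeSpectrum C[X])
    (hq : (Polynomial.X : C[X]) ∈ q.asIdeal) :
    (delta j γ₁) q = (delta j γ₂) q := by
  have h1 := specMap_comp_delta_eq j h (Ideal.Quotient.mk (Ideal.span {(Polynomial.X : C[X])})) 0
    (by rw [zero_add, pow_one]; exact Ideal.Quotient.eq_zero_iff_mem.mpr
          (Ideal.mem_span_singleton_self _))
  have h2 : q ∈ Set.range (PrimeSpectrum.comap
      (Ideal.Quotient.mk (Ideal.span {(Polynomial.X : C[X])}))) := by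
    rw [range_comap_of_surjective _ _ Ideal.Quotient.mk_surjective, Ideal.mk_ker,
      PrimeSpectrum.mem_zeroLocus]
    exact (Ideal.span_singleton_le_iff_mem _).mpr hq
  obtain ⟨q', hq'⟩ := h2
  have h3 : (Spec.map (CommRingCat.ofHom
      (Ideal.Quotient.mk (Ideal.span {(Polynomial.X : C[X])})))) q' = q := hq'
  rw [← h3, ← Scheme.Hom.comp_apply, ← Scheme.Hom.comp_apply, h1]


/-- near a point of the zero section of the chart, `γ₁` and `γ₂` agree. -/
theorem exists_away_eq (h : AgreeNilp γ₁ γ₂) (q : PrimeSpectrum C[X])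
    (hq : (Polynomial.X : C[X]) ∈ q.asIdeal) :
    ∃ g : C[X], g ∉ q.asIdeal ∧
      Spec.map (CommRingCat.ofHom (algebraMap C[X] (Localization.Away g))) ≫ delta j γ₁ =
      Spec.map (CommRingCat.ofHom (algebraMap C[X] (Localization.Away g))) ≫ delta j γ₂ := by
  have hx := delta_apply_eq j h q hq
  obtain ⟨B, e, he, hxe, -⟩ := Scheme.exists_affine_mem_range_and_range_subset
    (X := X.left) (x := (delta j γ₁) q) (U := ⊤) trivial
  let W : (Spec (CommRingCat.of C[X])).Opens :=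
    (delta j γ₁) ⁻¹ᵁ e.opensRange ⊓ (delta j γ₂) ⁻¹ᵁ e.opensRange
  have hqW : q ∈ W := ⟨hxe, by
    change (delta j γ₂) q ∈ Set.range e
    rw [← hx]; exact hxe⟩
  obtain ⟨_, ⟨_, ⟨f, rfl⟩, rfl⟩, hqf, hfW⟩ :=
    PrimeSpectrum.isBasis_basic_opens.exists_subset_of_mem_open hqW W.2
  have hfq : f ∉ q.asIdeal := hqf
  set c₀ := f.coeff 0 with hc₀
  have hcq : Polynomial.C c₀ ∉ q.asIdeal := by
    intro hc
    apply hfq
    obtain ⟨r, hr⟩ : (Polynomial.X : C[X]) ∣ f - Polynomial.C c₀ := Polynomial.X_dvd_sub_C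
    have : f = Polynomial.X * r + Polynomial.C c₀ := by rw [← hr]; ring
    rw [this]
    exact Ideal.add_mem _ (Ideal.mul_mem_right _ _ hq) hc
  refine ⟨f * Polynomial.C c₀, fun hg => (q.2.mem_or_mem hg).elim hfq hcq, ?_⟩
  set g := f * Polynomial.C c₀ with hg
  set ιg := Spec.map (CommRingCat.ofHom (algebraMap C[X] (Localization.Away g))) with hιg
  have hrange : Set.range ιg ⊆ (W : Set (Spec (CommRingCat.of C[X]))) := by
    refine subset_trans ?_ hfW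
    have : Set.range ιg = ((PrimeSpectrum.basicOpen g : TopologicalSpace.Opens _) :
        Set (PrimeSpectrum C[X])) :=
      PrimeSpectrum.localization_away_comap_range (Localization.Away g) g
    rw [this, hg, PrimeSpectrum.basicOpen_mul]
    exact Set.inter_subset_left
  have hr1 : Set.range (ιg ≫ delta j γ₁) ⊆ Set.range e := by
    rintro _ ⟨z, rfl⟩
    exact (hrange ⟨z, rfl⟩).1
  have hr2 : Set.range (ιg ≫ delta j γ₂) ⊆ Set.range e := by
    rintro _ ⟨z, rfl⟩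
    exact (hrange ⟨z, rfl⟩).2
  set l₁ := IsOpenImmersion.lift e (ιg ≫ delta j γ₁) hr1 with hl₁
  set l₂ := IsOpenImmersion.lift e (ιg ≫ delta j γ₂) hr2 with hl₂
  have hf₁ : l₁ ≫ e = ιg ≫ delta j γ₁ := IsOpenImmersion.lift_fac _ _ _
  have hf₂ : l₂ ≫ e = ιg ≫ delta j γ₂ := IsOpenImmersion.lift_fac _ _ _
  suffices hl : l₁ = l₂ by rw [← hf₁, ← hf₂, hl]
  set φ₁ := Spec.preimage l₁ with hφ₁
  set φ₂ := Spec.preimage l₂ with hφ₂
  have hm₁ : Spec.map φ₁ = l₁ := Spec.map_preimage _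
  have hm₂ : Spec.map φ₂ = l₂ := Spec.map_preimage _
  suffices hφ : φ₁ = φ₂ by rw [← hm₁, ← hm₂, hφ]
  ext b
  rw [← sub_eq_zero]
  apply Groth.Agent.Lib.T2H3.PolyAwaySep.eq_zero_of_forall_X_pow_dvd f
  intro n
  rcases n with _ | n
  · rw [pow_zero, map_one]; exact one_dvd _
  set I : Ideal (Localization.Away g) :=
    Ideal.span {algebraMap C[X] (Localization.Away g) (Polynomial.X ^ (n + 1))} with hI
  have h1 := specMap_comp_delta_eq j h
    ((Ideal.Quotient.mk I).comp (algebraMap C[X] (Localization.Away g))) n (by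
      rw [← map_pow, RingHom.comp_apply]
      exact Ideal.Quotient.eq_zero_iff_mem.mpr (Ideal.mem_span_singleton_self _))
  rw [CommRingCat.ofHom_comp, Spec.map_comp, Category.assoc, Category.assoc, ← hιg, ← hf₁, ← hf₂,
    ← Category.assoc, ← Category.assoc, cancel_mono, ← hm₁, ← hm₂, ← Spec.map_comp,
    ← Spec.map_comp] at h1
  have h2 := Spec.map_injective h1
  have h3 := congrArg (fun k => k.hom b) h2
  simp only [CommRingCat.hom_comp, CommRingCat.hom_ofHom, RingHom.comp_apply] at h3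
  rw [← sub_eq_zero, ← map_sub, Ideal.Quotient.eq_zero_iff_mem, hI, Ideal.mem_span_singleton] at h3
  exact h3

end Chart


section Global

variable (γ₁ γ₂)

/-- the largest open of `A¹ × Y` on which `γ₁ = γ₂`. -/
noncomputable def eqOpen : (AMonS S ↥N₁ ⊗ Y).left.Opens :=
  ⨆ W : {W : (AMonS S ↥N₁ ⊗ Y).left.Opens // W.ι ≫ γ₁.left = W.ι ≫ γ₂.left}, W.1

lemma eqOpen_ι : (eqOpen γ₁ γ₂).ι ≫ γ₁.left = (eqOpen γ₁ γ₂).ι ≫ γ₂.left := by
  unfold eqOpen
  refine (Scheme.Opens.iSupOpenCover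
    (fun W : {W : (AMonS S ↥N₁ ⊗ Y).left.Opens // W.ι ≫ γ₁.left = W.ι ≫ γ₂.left} => W.1)).hom_ext
    _ _ fun W => ?_
  have hW : (Scheme.Opens.iSupOpenCover
      (fun W : {W : (AMonS S ↥N₁ ⊗ Y).left.Opens // W.ι ≫ γ₁.left = W.ι ≫ γ₂.left} => W.1)).f W ≫
      (⨆ W : {W : (AMonS S ↥N₁ ⊗ Y).left.Opens // W.ι ≫ γ₁.left = W.ι ≫ γ₂.left}, W.1).ι =
      W.1.ι :=
    Scheme.homOfLE_ι _ (le_iSup
      (fun W : {W : (AMonS S ↥N₁ ⊗ Y).left.Opens // W.ι ≫ γ₁.left = W.ι ≫ γ₂.left} => W.1) W)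
  rw [← Category.assoc, ← Category.assoc, hW]
  exact W.2

variable {γ₁ γ₂}

lemma mem_eqOpen_of_isOpenImmersion {W' : Scheme.{u}} (κ : W' ⟶ (AMonS S ↥N₁ ⊗ Y).left)
    [IsOpenImmersion κ] (hκ : κ ≫ γ₁.left = κ ≫ γ₂.left) (z : (AMonS S ↥N₁ ⊗ Y).left)
    (hz : z ∈ Set.range κ) : z ∈ eqOpen γ₁ γ₂ := by
  have hW : κ.opensRange.ι ≫ γ₁.left = κ.opensRange.ι ≫ γ₂.left := by
    rw [← Scheme.Hom.isoOpensRange_inv_comp, Category.assoc, Category.assoc, hκ]
  exact TopologicalSpace.Opens.mem_iSup.mpr ⟨⟨κ.opensRange, hW⟩, hz⟩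

/-- the coordinate function on `A¹ × Y`. -/
noncomputable def coord (S : Scheme.{u}) (Y : Over S) : Γ((AMonS S ↥N₁ ⊗ Y).left, ⊤) :=
  aFn n₀ (fst (AMonS S ↥N₁) Y)

lemma appTop_coord {T₀ : Over S} (w : T₀ ⟶ AMonS S ↥N₁ ⊗ Y) :
    w.left.appTop (coord S Y) = aFn n₀ (w ≫ fst _ _) := (aFn_comp _ _ _).symm

lemma notMem_basicOpen_coord {T₀ : Over S} (w : T₀ ⟶ AMonS S ↥N₁ ⊗ Y)
    (hw : aFn n₀ (w ≫ fst _ _) = 0) (t : T₀.left) :
    w.left t ∉ (AMonS S ↥N₁ ⊗ Y).left.basicOpen (coord S Y) := by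
  intro hz
  have h1 : t ∈ w.left ⁻¹ᵁ (AMonS S ↥N₁ ⊗ Y).left.basicOpen (coord S Y) := hz
  rw [Scheme.preimage_basicOpen_top, appTop_coord, hw, Scheme.basicOpen_zero] at h1
  exact h1

instance isOpenImmersion_whiskerLeft_jO {C : Type u} [CommRing C]
    (j : Spec (CommRingCat.of C) ⟶ Y.left) [IsOpenImmersion j] :
    IsOpenImmersion (AMonS S ↥N₁ ◁ jO j).left :=
  MorphismProperty.of_isPullback (P := @IsOpenImmersion)
    (Groth.Agent.Lib.T2H3.MagnetUnram.isPullback_whiskerLeft (AMonS S ↥N₁) (jO j)).flip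
    (show IsOpenImmersion j from inferInstance)

instance isOpenImmersion_eps {C : Type u} [CommRing C]
    (j : Spec (CommRingCat.of C) ⟶ Y.left) [IsOpenImmersion j] :
    IsOpenImmersion (eps j).left := by
  unfold eps
  rw [Over.comp_left]
  infer_instance

lemma mem_range_eps {C : Type u} [CommRing C] (j : Spec (CommRingCat.of C) ⟶ Y.left)
    (z : (AMonS S ↥N₁ ⊗ Y).left)
    (hz : (pullback.snd (AMonS S ↥N₁).hom Y.hom) z ∈ Set.range j) :
    z ∈ Set.range (eps j).left := by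
  have hsq := Groth.Agent.Lib.T2H3.MagnetUnram.isPullback_whiskerLeft (AMonS S ↥N₁) (jO j)
  have e : (AMonS S ↥N₁ ◁ jO j).left =
      hsq.isoPullback.hom ≫ pullback.fst (pullback.snd (AMonS S ↥N₁).hom Y.hom) j :=
    (IsPullback.isoPullback_hom_fst hsq).symm
  have h1 : z ∈ Set.range (pullback.fst (pullback.snd (AMonS S ↥N₁).hom Y.hom) j) := by
    rw [Scheme.Pullback.range_fst]
    exact hz
  obtain ⟨z₁, hz₁⟩ := h1
  obtain ⟨z₂, hz₂⟩ := (hsq.isoPullback.hom.homeomorph).surjective z₁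
  obtain ⟨z₃, hz₃⟩ := ((theta (j ≫ Y.hom)).left.homeomorph).surjective z₂
  refine ⟨z₃, ?_⟩
  unfold eps
  rw [Over.comp_left, Scheme.Hom.comp_apply, e, Scheme.Hom.comp_apply]
  have hz₃' : (theta (j ≫ Y.hom)).left z₃ = z₂ := hz₃
  have hz₂' : hsq.isoPullback.hom z₂ = z₁ := hz₂
  rw [hz₃', hz₂']
  exact hz₁

theorem mem_eqOpen_of_aFn_eq_zero (h : AgreeNilp γ₁ γ₂) {T₀ : Over S}
    (w : T₀ ⟶ AMonS S ↥N₁ ⊗ Y) (hw : aFn n₀ (w ≫ fst _ _) = 0) (t : T₀.left) :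
    w.left t ∈ eqOpen γ₁ γ₂ := by
  have hz := notMem_basicOpen_coord w hw t
  set z := w.left t with hzdef
  obtain ⟨i, y', hy'⟩ := Y.left.affineOpenCover.openCover.exists_eq
    ((pullback.snd (AMonS S ↥N₁).hom Y.hom) z)
  let C : Type u := (Y.left.affineOpenCover.X i : CommRingCat.{u})
  let j : Spec (CommRingCat.of C) ⟶ Y.left := Y.left.affineOpenCover.f i
  haveI : IsOpenImmersion j := Y.left.affineOpenCover.openCover.map_prop i
  obtain ⟨q, hq⟩ := mem_range_eps j z ⟨y', hy'⟩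
  have hqX : (Polynomial.X : C[X]) ∈ (show PrimeSpectrum C[X] from q).asIdeal := by
    by_contra hcon
    apply hz
    have h1 : q ∈ (eps j).left ⁻¹ᵁ (AMonS S ↥N₁ ⊗ Y).left.basicOpen (coord S Y) := by
      rw [Scheme.preimage_basicOpen_top, appTop_coord, aFn_eps_fst]
      have : Xt (j ≫ Y.hom) = (Scheme.ΓSpecIso (CommRingCat.of C[X])).inv Polynomial.X := by
        unfold Xt fn
        simp
        rfl
      rw [this]
      erw [basicOpen_eq_of_affine]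
      exact hcon
    rw [← hq]
    exact h1
  obtain ⟨g, hgq, hg⟩ := exists_away_eq j h (show PrimeSpectrum C[X] from q) hqX
  haveI hε : IsOpenImmersion (eps j).left := isOpenImmersion_eps j
  haveI hκ : IsOpenImmersion
      (Spec.map (CommRingCat.ofHom (algebraMap C[X] (Localization.Away g))) ≫ (eps j).left) :=
    @IsOpenImmersion.comp _ (Spec (CommRingCat.of C[X])) _
      (Spec.map (CommRingCat.ofHom (algebraMap C[X] (Localization.Away g)))) (eps j).left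
      inferInstance hε
  refine mem_eqOpen_of_isOpenImmersion
    (Spec.map (CommRingCat.ofHom (algebraMap C[X] (Localization.Away g))) ≫ (eps j).left) ?_ z ?_
  · rw [Category.assoc, Category.assoc]
    exact hg
  · have : (show PrimeSpectrum C[X] from q) ∈
        Set.range (Spec.map (CommRingCat.ofHom (algebraMap C[X] (Localization.Away g)))) := by
      have hr : Set.range (Spec.map (CommRingCat.ofHom (algebraMap C[X] (Localization.Away g)))) =
          ((PrimeSpectrum.basicOpen g : TopologicalSpace.Opens _) : Set (PrimeSpectrum C[X])) :=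
        PrimeSpectrum.localization_away_comap_range (Localization.Away g) g
      rw [hr]
      exact hgq
    obtain ⟨q', hq'⟩ := this
    refine ⟨q', ?_⟩
    rw [Scheme.Hom.comp_apply, hq']
    exact hq

end Global

end Groth.Agent.Lib.T2H3.AttrLocal
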