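import Mathlib
import Groth.Prelude.Def_Magnet3
import Groth.Agent.Lib.T2H3AMonPts
import Groth.Agent.Lib.T2H3AffLineChart
import Groth.Agent.Lib.T2H3AttrLocal
import Groth.Agent.Lib.T2H3MagnetUnram
import Groth.Agent.Lib.Helper12Act

/-!
# Equivariant morphisms out of `A¹ × Y` are determined by their formal germ along the zero section

`eq_of_agreeNilp`: two `𝔾_m`-equivariant morphisms `A¹ × Y ⟶ X` agreeing at all points `(m, t)` with
`m` nilpotent are equal.  They agree on an open neighbourhood `V` of the zero section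
(`T2H3AttrLocal`), and `𝔾_m × V ⟶ A¹ × Y` is an fppf covering.
-/

set_option autoImplicit false
set_option linter.style.haveILetI false
universe u

open CategoryTheory CategoryTheory.Limits MonoidalCategory CartesianMonoidalCategory MonObj
  AlgebraicGeometry Opposite Polynomial

namespace Groth.Agent.Lib.T2H3.AttrGlobal

open Magnet Groth.Agent.Lib.Helper27.GaGm Groth.Agent.Lib.T2H3.AMonPts
  Groth.Agent.Lib.T2H3.AffLineChart Groth.Agent.Lib.T2H3.AttrLocal

section Alg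

lemma finitePresentation_monoidAlgebra_int (R : Type*) [CommRing R] :
    Algebra.FinitePresentation R (MonoidAlgebra R (Multiplicative ℤ)) := by
  have h0 : Algebra.FinitePresentation R[X] (LaurentPolynomial R) :=
    IsLocalization.Away.finitePresentation (Polynomial.X : R[X])
  haveI : IsScalarTower R R[X] (LaurentPolynomial R) := by
    refine IsScalarTower.of_algebraMap_eq fun r => ?_
    rw [LaurentPolynomial.algebraMap_eq_toLaurent, Polynomial.algebraMap_apply,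
      Algebra.algebraMap_self_apply, Polynomial.toLaurent_C]
    rfl
  have h1 : Algebra.FinitePresentation R (LaurentPolynomial R) :=
    Algebra.FinitePresentation.trans R R[X] (LaurentPolynomial R)
  exact Algebra.FinitePresentation.equiv (AddMonoidAlgebra.toMultiplicativeAlgEquiv R R ℤ)

end Alg

variable {S : Scheme.{u}}

instance flat_Gm_hom : Flat (AMonS S ℤ).hom := by
  have h0 : Flat (AMon (ULift.{u} ℤ) ℤ).hom := by
    change Flat (Spec.map (CommRingCat.ofHom (algebraMap (ULift.{u} ℤ)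
      (MonoidAlgebra (ULift.{u} ℤ) (Multiplicative ℤ)))))
    rw [HasRingHomProperty.Spec_iff (P := @Flat)]
    exact RingHom.flat_algebraMap_iff.mpr inferInstance
  exact MorphismProperty.pullback_snd (P := @Flat) _ _ h0

instance lfp_Gm_hom : LocallyOfFinitePresentation (AMonS S ℤ).hom := by
  have h0 : LocallyOfFinitePresentation (AMon (ULift.{u} ℤ) ℤ).hom := by
    change LocallyOfFinitePresentation (Spec.map (CommRingCat.ofHom (algebraMap (ULift.{u} ℤ)
      (MonoidAlgebra (ULift.{u} ℤ) (Multiplicative ℤ)))))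
    rw [HasRingHomProperty.Spec_iff (P := @LocallyOfFinitePresentation)]
    exact RingHom.finitePresentation_algebraMap.mpr (finitePresentation_monoidAlgebra_int _)
  exact MorphismProperty.pullback_snd (P := @LocallyOfFinitePresentation) _ _ h0

/-- the action of `𝔾_m` on `A¹ × Y` through the first factor. -/
noncomputable def actP (S : Scheme.{u}) (Y : Over S) :
    MonAct (AMonS S ℤ) (AMonS S ↥N₁ ⊗ Y) :=
  (subAct S ℤ N₁).prod (MonAct.trivial (AMonS S ℤ) Y)

lemma lift_actP {Y T : Over S} (g : T ⟶ AMonS S ℤ) (b : T ⟶ AMonS S ↥N₁) (t : T ⟶ Y) :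
    lift g (lift b t) ≫ (actP S Y).act = lift ((g ≫ AMonS.map S N₁.subtype) * b) t := by
  unfold actP
  rw [MonAct.lift_prod_act, MonAct.lift_trivial_act]
  congr 1
  unfold subAct
  rw [MonAct.lift_restrict_act, MonAct.lift_regular_act]


section Main

variable {X Y : Over S} (a : MonAct (AMonS S ℤ) X) (γ₁ γ₂ : AMonS S ↥N₁ ⊗ Y ⟶ X)

/-- the open `V` where `γ₁ = γ₂`, as an object over `S`. -/
noncomputable def VO : Over S := Over.mk ((eqOpen γ₁ γ₂).ι ≫ (AMonS S ↥N₁ ⊗ Y).hom)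

/-- the inclusion of `V`. -/
noncomputable def iV : VO γ₁ γ₂ ⟶ AMonS S ↥N₁ ⊗ Y := Over.homMk (eqOpen γ₁ γ₂).ι rfl

lemma iV_comp : iV γ₁ γ₂ ≫ γ₁ = iV γ₁ γ₂ ≫ γ₂ := by
  apply Over.OverMorphism.ext
  exact eqOpen_ι γ₁ γ₂

/-- the orbit map `𝔾_m × V ⟶ A¹ × Y`. -/
noncomputable def orb : AMonS S ℤ ⊗ VO γ₁ γ₂ ⟶ AMonS S ↥N₁ ⊗ Y :=
  (AMonS S ℤ ◁ iV γ₁ γ₂) ≫ (actP S Y).act

variable {γ₁ γ₂} in
lemma orb_comp (e₁ : MonAct.IsEquivariant (actP S Y) a γ₁)
    (e₂ : MonAct.IsEquivariant (actP S Y) a γ₂) : orb γ₁ γ₂ ≫ γ₁ = orb γ₁ γ₂ ≫ γ₂ := by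
  unfold orb
  unfold MonAct.IsEquivariant at e₁ e₂
  rw [Category.assoc, Category.assoc, e₁, e₂, ← MonoidalCategory.whiskerLeft_comp_assoc,
    ← MonoidalCategory.whiskerLeft_comp_assoc, iV_comp]

/-- `actP` as an action of the group object `𝔾_m`. -/
noncomputable def actA (S : Scheme.{u}) (Y : Over S) :
    AlgGrp.Action (Red.DS S ℤ) (AMonS S ↥N₁ ⊗ Y) :=
  MonAct.toAction (G := Red.DS S ℤ) (actP S Y)

lemma act_eq_shear : (actP S Y).act =
    (Groth.Agent.Lib.Helper12.shearIso (actA S Y)).hom ≫ snd _ _ :=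
  (Groth.Agent.Lib.Helper12.shear_snd (actA S Y)).symm

instance isOpenImmersion_whiskerLeft_iV : IsOpenImmersion (AMonS S ℤ ◁ iV γ₁ γ₂).left := by
  have hsq := Groth.Agent.Lib.T2H3.MagnetUnram.isPullback_whiskerLeft (AMonS S ℤ) (iV γ₁ γ₂)
  haveI : IsOpenImmersion (iV γ₁ γ₂).left :=
    inferInstanceAs (IsOpenImmersion (eqOpen γ₁ γ₂).ι)
  exact MorphismProperty.of_isPullback (P := @IsOpenImmersion) hsq.flip inferInstance

instance flat_orb : Flat (orb γ₁ γ₂).left := by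
  haveI h2 : IsIso (Groth.Agent.Lib.Helper12.shearIso (actA S Y)).hom.left :=
    inferInstanceAs (IsIso ((Over.forget _).map
      (Groth.Agent.Lib.Helper12.shearIso (actA S Y)).hom))
  haveI h3 : Flat (snd (AMonS S ℤ) (AMonS S ↥N₁ ⊗ Y)).left := by
    rw [Over.snd_left]; infer_instance
  unfold orb
  rw [act_eq_shear, Over.comp_left, Over.comp_left]
  infer_instance

instance lfp_orb : LocallyOfFinitePresentation (orb γ₁ γ₂).left := by
  haveI h2 : IsIso (Groth.Agent.Lib.Helper12.shearIso (actA S Y)).hom.left :=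
    inferInstanceAs (IsIso ((Over.forget _).map
      (Groth.Agent.Lib.Helper12.shearIso (actA S Y)).hom))
  haveI h3 : LocallyOfFinitePresentation (snd (AMonS S ℤ) (AMonS S ↥N₁ ⊗ Y)).left := by
    rw [Over.snd_left]; infer_instance
  unfold orb
  rw [act_eq_shear, Over.comp_left, Over.comp_left]
  infer_instance

end Main


section Surj

variable {X Y : Over S} {γ₁ γ₂ : AMonS S ↥N₁ ⊗ Y ⟶ X}

lemma fn_id_specMap {A B : Type u} [CommRing A] [CommRing B] (φ : A →+* B) (x : A) :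
    fn (Spec.map (CommRingCat.ofHom φ)) x = fn (𝟙 (Spec (CommRingCat.of B))) (φ x) := by
  have : Spec.map (CommRingCat.ofHom φ) = 𝟙 _ ≫ Spec.map (CommRingCat.ofHom φ) :=
    (Category.id_comp _).symm
  rw [this, fn_specMap]

lemma appTop_fn_id {A : Type u} [CommRing A] {W : Scheme.{u}} (f : W ⟶ Spec (CommRingCat.of A))
    (x : A) : f.appTop (fn (𝟙 (Spec (CommRingCat.of A))) x) = fn f x := by
  rw [← fn_comp, Category.comp_id]

theorem surjective_orb (h : AgreeNilp γ₁ γ₂) : Surjective (orb γ₁ γ₂).left := by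
  refine ⟨fun p => ?_⟩
  let K : Type u := (AMonS S ↥N₁ ⊗ Y).left.residueField p
  let τ₀ : Spec (CommRingCat.of K) ⟶ (AMonS S ↥N₁ ⊗ Y).left :=
    (AMonS S ↥N₁ ⊗ Y).left.fromSpecResidueField p
  let c : Spec (CommRingCat.of K) ⟶ S := τ₀ ≫ (AMonS S ↥N₁ ⊗ Y).hom
  let T : Over S := Over.mk c
  let τ : T ⟶ AMonS S ↥N₁ ⊗ Y := Over.homMk τ₀ rfl
  let st : ZC c ⟶ AMonS S ↥N₁ := (aEquiv (ZC c)).symm (Xt c)
  let ζ : ZC c ⟶ AMonS S ↥N₁ ⊗ Y :=
    lift (st * (projO c ≫ τ ≫ fst _ _)) (projO c ≫ τ ≫ snd _ _)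
  -- the zero point
  let o₀ : Spec (CommRingCat.of K) ⟶ Spec (CommRingCat.of K[X]) :=
    Spec.map (CommRingCat.ofHom (Polynomial.evalRingHom (0 : K)))
  have ho : o₀ ≫ proj K = 𝟙 _ := by
    unfold proj
    rw [← Spec.map_comp, ← CommRingCat.ofHom_comp]
    have : (Polynomial.evalRingHom (0 : K)).comp (Polynomial.C : K →+* K[X]) = RingHom.id K := by
      ext r; simp
    rw [this]
    exact Spec.map_id _
  let o : T ⟶ ZC c := Over.homMk o₀ (by
    change o₀ ≫ proj K ≫ c = c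
    rw [← Category.assoc, ho, Category.id_comp])
  have hzero : aFn n₀ ((o ≫ ζ) ≫ fst _ _) = 0 := by
    rw [Category.assoc, lift_fst, aFn_comp, aFn_mul, aFn_aEquiv_symm, map_mul]
    have : o.left.appTop (Xt c) = 0 := by
      change o₀.appTop (fn (𝟙 _) (Polynomial.X : K[X])) = 0
      rw [appTop_fn_id, fn_id_specMap, fn_eq]
      simp
    rw [this, zero_mul]
  obtain ⟨pt⟩ : Nonempty (Spec (CommRingCat.of K)) := inferInstance
  have hmemV : ζ.left (o₀ pt) ∈ eqOpen γ₁ γ₂ := by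
    have := mem_eqOpen_of_aFn_eq_zero h (o ≫ ζ) hzero pt
    rwa [Over.comp_left, Scheme.Hom.comp_apply] at this
  -- the generic point
  let L : Type u := FractionRing K[X]
  let ℓ₀ : Spec (CommRingCat.of L) ⟶ Spec (CommRingCat.of K[X]) :=
    Spec.map (CommRingCat.ofHom (algebraMap K[X] L))
  have hgen : ∀ x, ζ.left (ℓ₀ x) ∈ eqOpen γ₁ γ₂ := by
    intro x
    have hsp : (show PrimeSpectrum K[X] from ℓ₀ x) ⤳ (show PrimeSpectrum K[X] from o₀ pt) := by
      rw [← PrimeSpectrum.le_iff_specializes]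
      intro f hf
      have hf' : algebraMap K[X] L f ∈ (show PrimeSpectrum L from x).asIdeal := hf
      have : f = 0 := by
        by_contra hne
        exact (show PrimeSpectrum L from x).2.ne_top (Ideal.eq_top_of_isUnit_mem _ hf'
          (IsUnit.mk0 _ ((map_ne_zero_iff _ (IsFractionRing.injective K[X] L)).mpr hne)))
      rw [this]
      exact Ideal.zero_mem _
    exact hsp.mem_open (ζ.left ⁻¹ᵁ eqOpen γ₁ γ₂).2 hmemV
  have hrange : Set.range (ℓ₀ ≫ ζ.left) ⊆ Set.range (eqOpen γ₁ γ₂).ι := by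
    rw [Scheme.Opens.range_ι]
    rintro _ ⟨x, rfl⟩
    exact hgen x
  let v₀ := IsOpenImmersion.lift (eqOpen γ₁ γ₂).ι (ℓ₀ ≫ ζ.left) hrange
  have hv₀ : v₀ ≫ (eqOpen γ₁ γ₂).ι = ℓ₀ ≫ ζ.left := IsOpenImmersion.lift_fac _ _ _
  let T'' : Over S := Over.mk (ℓ₀ ≫ (ZC c).hom)
  let lam : T'' ⟶ ZC c := Over.homMk ℓ₀ rfl
  let v : T'' ⟶ VO γ₁ γ₂ := Over.homMk v₀ (by
    change v₀ ≫ (eqOpen γ₁ γ₂).ι ≫ (AMonS S ↥N₁ ⊗ Y).hom = ℓ₀ ≫ (ZC c).hom
    rw [← Category.assoc, hv₀, Category.assoc]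
    exact congrArg (fun k => ℓ₀ ≫ k) (Over.w ζ))
  have hv : v ≫ iV γ₁ γ₂ = lam ≫ ζ := by
    apply Over.OverMorphism.ext
    exact hv₀
  -- the unit `s`
  have hunit : IsUnit (lam.left.appTop (Xt c)) := by
    have : lam.left.appTop (Xt c) =
        fn (𝟙 (Spec (CommRingCat.of L))) (algebraMap K[X] L Polynomial.X) := by
      change ℓ₀.appTop (fn (𝟙 _) (Polynomial.X : K[X])) = _
      rw [appTop_fn_id, fn_id_specMap]
    rw [this, fn_eq]
    exact (IsUnit.mk0 _ ((map_ne_zero_iff _ (IsFractionRing.injective K[X] L)).mpr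
      Polynomial.X_ne_zero)).map _
  obtain ⟨g, hg⟩ := gmFn_surjective (X := T'') _ hunit
  have hgmap : g ≫ AMonS.map S N₁.subtype = lam ≫ st := by
    apply aFn_injective
    rw [aFn_map_subtype, aFn_comp, aFn_aEquiv_symm]
    exact hg
  let q' : T'' ⟶ AMonS S ℤ ⊗ VO γ₁ γ₂ := lift g⁻¹ v
  have hq' : q' ≫ orb γ₁ γ₂ = lam ≫ projO c ≫ τ := by
    unfold orb
    rw [lift_whiskerLeft_assoc, hv]
    have h1 : lam ≫ ζ = lift ((g ≫ AMonS.map S N₁.subtype) * (lam ≫ projO c ≫ τ ≫ fst _ _))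
        (lam ≫ projO c ≫ τ ≫ snd _ _) := by
      rw [comp_lift, MonObj.comp_mul, hgmap]
    rw [h1, lift_actP]
    have h2 : (g⁻¹ ≫ AMonS.map S N₁.subtype) *
        ((g ≫ AMonS.map S N₁.subtype) * (lam ≫ projO c ≫ τ ≫ fst _ _)) =
        lam ≫ projO c ≫ τ ≫ fst _ _ := by
      rw [← _root_.mul_assoc, ← MonObj.mul_comp, inv_mul_cancel, MonObj.one_comp, _root_.one_mul]
    rw [h2]
    apply CartesianMonoidalCategory.hom_ext
    · rw [lift_fst]; simp only [Category.assoc]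
    · rw [lift_snd]; simp only [Category.assoc]
  obtain ⟨x⟩ : Nonempty (Spec (CommRingCat.of L)) := inferInstance
  refine ⟨q'.left x, ?_⟩
  have h3 : (q' ≫ orb γ₁ γ₂).left x = (lam ≫ projO c ≫ τ).left x := by rw [hq']
  rw [Over.comp_left, Scheme.Hom.comp_apply] at h3
  rw [h3]
  change τ₀ _ = p
  exact Scheme.fromSpecResidueField_apply _ _

end Surj


/-- two `𝔾_m`-equivariant morphisms `A¹ × Y ⟶ X` which agree at all points `(m, t)` with `m`
nilpotent are equal. -/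
theorem eq_of_agreeNilp {X Y : Over S} (a : MonAct (AMonS S ℤ) X)
    (γ₁ γ₂ : AMonS S ↥N₁ ⊗ Y ⟶ X)
    (e₁ : MonAct.IsEquivariant (actP S Y) a γ₁) (e₂ : MonAct.IsEquivariant (actP S Y) a γ₂)
    (h : AgreeNilp γ₁ γ₂) : γ₁ = γ₂ := by
  haveI := surjective_orb h
  haveI : EffectiveEpi (orb γ₁ γ₂).left := inferInstance
  haveI : Epi (orb γ₁ γ₂).left := inferInstance
  apply Over.OverMorphism.ext
  rw [← cancel_epi (orb γ₁ γ₂).left, ← Over.comp_left, ← Over.comp_left, orb_comp a e₁ e₂]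

end Groth.Agent.Lib.T2H3.AttrGlobal
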