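import Mathlib
import Groth.Agent.Lib.Helper10CurveFin

/-!
# Birational morphisms of integral curves are locally quasi-finite (helper3, team 2)

Namespace `Groth.Agent.Lib.T2H3.BirCurve`.

* `eq_genericPoint_of_surjective` : on an integral scheme, if `O_{X,x} → K(X)` is surjective then `x` is generic.
* `eq_genericPoint_of_map_eq` : if `f.stalkMap η_X` is surjective then `η_X` is the only point over `f η_X`.
* `finite_of_isClosed_of_genericPoint_notMem` : closed subsets missing the generic point of an irreducible
  Noetherian sober space of dimension `≤ 1` are finite.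
* `locallyQuasiFinite_of_dominant` : the combination.
-/

set_option autoImplicit false
universe u
open CategoryTheory CategoryTheory.Limits AlgebraicGeometry TopologicalSpace

namespace Groth.Agent.Lib.T2H3.BirCurve

/-- on an integral scheme, a point whose local ring surjects onto the function field is the generic point. -/
theorem eq_genericPoint_of_surjective {X : Scheme.{u}} [IsIntegral X] (x : X)
    (hs : Function.Surjective (algebraMap (X.presheaf.stalk x) X.functionField)) :
    x = genericPoint X := by
  have hη : genericPoint X ⤳ x := (genericPoint_spec X).specializes trivial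
  refine (Specializes.antisymm ?_ hη).eq
  rw [specializes_iff_forall_open]
  intro V hV hηV
  obtain ⟨U, hU, hxU, -⟩ := exists_isAffineOpen_mem_and_subset (x := x) (U := ⊤) trivial
  have hηU : genericPoint X ∈ U := hη.mem_open U.isOpen hxU
  let V' : X.Opens := ⟨V, hV⟩
  obtain ⟨a, haV, hηa⟩ := hU.exists_basicOpen_le (V := V') ⟨genericPoint X, hηV⟩ hηU
  have : Nonempty U := ⟨⟨x, hxU⟩⟩
  -- the germ of `a` at the generic point is a unit
  have hunit : IsUnit (X.germToFunctionField U a) := by
    have := (X.mem_basicOpen a (genericPoint X) hηU).mp hηa
    exact this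
  obtain ⟨b, hb⟩ := hs ((hunit.unit⁻¹ : (X.functionField)ˣ) : X.functionField)
  have h1 : algebraMap (X.presheaf.stalk x) X.functionField (X.presheaf.germ U x hxU a * b) =
      algebraMap (X.presheaf.stalk x) X.functionField 1 := by
    rw [map_mul, hb, Scheme.algebraMap_germ_eq_germToFunctionField, map_one]
    exact hunit.mul_val_inv
  have h2 : X.presheaf.germ U x hxU a * b = 1 :=
    IsFractionRing.injective (X.presheaf.stalk x) X.functionField h1
  have h3 : IsUnit (X.presheaf.germ U x hxU a) := IsUnit.of_mul_eq_one _ h2
  exact haV ((X.mem_basicOpen a x hxU).mpr h3)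

/-- if the stalk map at the generic point is surjective, the generic point is alone in its fibre. -/
theorem eq_genericPoint_of_map_eq {X Y : Scheme.{u}} [IsIntegral X] (f : X ⟶ Y)
    (hsurj : Function.Surjective (f.stalkMap (genericPoint X)).hom) (x : X)
    (hx : f x = f (genericPoint X)) : x = genericPoint X := by
  have hη : genericPoint X ⤳ x := (genericPoint_spec X).specializes trivial
  apply eq_genericPoint_of_surjective
  have hnat := Scheme.Hom.stalkSpecializes_stalkMap f (genericPoint X) x hη
  have hins : Inseparable (f (genericPoint X)) (f x) := hx ▸ Inseparable.refl _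
  have hiso : Function.Surjective
      (Y.presheaf.stalkSpecializes (f.base.hom.map_specializes hη)).hom := by
    have : IsIso (Y.presheaf.stalkSpecializes (f.base.hom.map_specializes hη)) := by
      have h := (Y.presheaf.stalkCongr hins.symm).isIso_hom
      exact h
    exact ((CategoryTheory.isIso_iff_bijective _).mp
      ((forget CommRingCat).map_isIso _)).2
  have hcomp : Function.Surjective
      (f.stalkMap x ≫ X.presheaf.stalkSpecializes hη).hom := by
    rw [← hnat]
    exact hsurj.comp hiso
  have : Function.Surjective (X.presheaf.stalkSpecializes hη).hom := by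
    intro z
    obtain ⟨w, hw⟩ := hcomp z
    exact ⟨(f.stalkMap x).hom w, hw⟩
  exact this

section Top

variable {T : Type*} [TopologicalSpace T]

/-- closed subsets missing the generic point of an irreducible Noetherian sober space of dimension `≤ 1`
are finite. -/
theorem finite_of_isClosed_of_genericPoint_notMem [NoetherianSpace T] [QuasiSober T] [T0Space T]
    [IrreducibleSpace T] (hdim : topologicalKrullDim T ≤ 1) (S : Set T) (hS : IsClosed S)
    (hη : genericPoint T ∉ S) : S.Finite := by
  have hclosed : ∀ s ∈ S, IsClosed ({s} : Set T) := by
    intro s hs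
    rcases Helper10.CurveFin.forall_of_topologicalKrullDim_le_one hdim s with h | h
    · exact Helper10.CurveFin.isClosed_singleton_of_forall h
    · exfalso
      have h1 : genericPoint T ⤳ s := (genericPoint_spec T).specializes trivial
      have h2 : s ⤳ genericPoint T := h _ h1
      exact hη (h2.mem_closed hS hs)
  have : QuasiSober ↥S := hS.isClosedEmbedding_subtypeVal.quasiSober
  have hall : {x : ↥S | ∀ z, z ⤳ x → x ⤳ z} = Set.univ := by
    rw [Set.eq_univ_iff_forall]
    intro x z hzx
    have h1 : (z : T) ⤳ (x : T) := (Topology.IsInducing.subtypeVal.specializes_iff).mpr hzx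
    have h2 : (x : T) ∈ ({(z : T)} : Set T) := h1.mem_closed (hclosed z z.2) rfl
    have h3 : x = z := Subtype.ext h2
    rw [h3]
  have hfin := Helper10.CurveFin.finite_setOf_forall (X := ↥S)
  rw [hall] at hfin
  have : Finite ↥S := Set.finite_univ_iff.mp hfin
  exact Set.toFinite S

end Top

/-- a dominant morphism, locally of finite type, from a Noetherian integral scheme of dimension `≤ 1` whose
generic stalk map is surjective is locally quasi-finite. -/
theorem locallyQuasiFinite_of_dominant {X Y : Scheme.{u}} [IsIntegral X] [IsIntegral Y]
    [IsNoetherian X] (hdim : topologicalKrullDim X ≤ 1) (f : X ⟶ Y) [LocallyOfFiniteType f]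
    (hgen : f (genericPoint X) = genericPoint Y)
    (hsurj : Function.Surjective (f.stalkMap (genericPoint X)).hom) : LocallyQuasiFinite f := by
  apply LocallyQuasiFinite.of_finite_preimage_singleton
  intro y
  by_cases hy : y = genericPoint Y
  · apply Set.Finite.subset (Set.finite_singleton (genericPoint X))
    intro x hx
    have hx' : f x = y := hx
    exact eq_genericPoint_of_map_eq f hsurj x (by rw [hx', hy, hgen])
  · have hS : IsClosed (f ⁻¹' (closure ({y} : Set Y))) := isClosed_closure.preimage f.continuous
    have hη : genericPoint X ∉ f ⁻¹' (closure ({y} : Set Y)) := by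
      intro h
      have h1 : f (genericPoint X) ∈ closure ({y} : Set Y) := h
      rw [hgen, ← specializes_iff_mem_closure] at h1
      have h2 : genericPoint Y ⤳ y := (genericPoint_spec Y).specializes trivial
      exact hy (h1.antisymm h2).eq
    refine (finite_of_isClosed_of_genericPoint_notMem hdim _ hS hη).subset ?_
    intro x hx
    have hx' : f x = y := hx
    show f x ∈ closure ({y} : Set Y)
    rw [hx']
    exact subset_closure rfl

end Groth.Agent.Lib.T2H3.BirCurve
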