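import Mathlib
import Groth.Prelude.Def_ProCons
import Groth.Agent.Lib.Helper5ProCons
import Groth.Agent.Lib.Helper5Compl
import Groth.Agent.Lib.Helper5Closure

/-!
# Basic closure properties of pro- and ind-constructible subsets of schemes

* open subsets are ind-constructible, closed subsets are pro-constructible;
* finite intersections of pro-constructible subsets are pro-constructible;
* a locally closed retrocompact subset is pro-constructible.
-/

set_option autoImplicit false
set_option linter.style.haveILetI false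
universe u
open CategoryTheory AlgebraicGeometry Topology

namespace Groth.Agent.Lib.T2H3.ProConsBasic

/-- Affine-local sufficient criterion for pro-constructibility. -/
theorem isProConstructible_of_affine (X : Scheme.{u}) (E : Set X)
    (h : ∀ x : X, ∃ W : X.Opens, x ∈ W ∧ ∃ 𝒟 : Set (Set W),
      (∀ D ∈ 𝒟, IsConstructible D) ∧ (Subtype.val ⁻¹' E : Set W) = ⋂₀ 𝒟) :
    ProCons.IsProConstructible E := by
  intro x
  obtain ⟨W, hxW, 𝒟, h𝒟, hE⟩ := h x
  exact ⟨(W : Set X), W.isOpen, hxW, 𝒟, fun D hD => (h𝒟 D hD).isLocallyConstructible, hE⟩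

/-- Affine-local necessary criterion for pro-constructibility. -/
theorem exists_eq_sInter_of_isAffineOpen {X : Scheme.{u}} {E : Set X}
    (hE : ProCons.IsProConstructible E) {W : X.Opens} (hW : IsAffineOpen W) :
    ∃ 𝒟 : Set (Set W), (∀ D ∈ 𝒟, IsConstructible D) ∧ (Subtype.val ⁻¹' E : Set W) = ⋂₀ 𝒟 := by
  have : IsAffine (W : Scheme.{u}) := hW
  exact Groth.Agent.Lib.Helper5.exists_eq_sInter_of_isProConstructible
    (W := (W : Scheme.{u}))
    (Groth.Agent.Lib.Helper5.isProConstructible_preimage (Scheme.Opens.ι W) E hE)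

lemma exists_affine_nhd (X : Scheme.{u}) (x : X) : ∃ W : X.Opens, IsAffineOpen W ∧ x ∈ W := by
  obtain ⟨W, hW, hxW, -⟩ :=
    TopologicalSpace.Opens.isBasis_iff_nbhd.mp X.isBasis_affineOpens
      (show x ∈ (⊤ : X.Opens) from trivial)
  exact ⟨W, hW, hxW⟩

/-- Open subsets of a scheme are ind-constructible. -/
theorem isIndConstructible_of_isOpen {X : Scheme.{u}} {O : Set X} (hO : IsOpen O) :
    ProCons.IsIndConstructible O := by
  intro x
  obtain ⟨W, hW, hxW⟩ := exists_affine_nhd X x
  have : IsAffine (W : Scheme.{u}) := hW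
  have hpre : PrespectralSpace ↥(W : Set X) := inferInstanceAs (PrespectralSpace (W : Scheme.{u}))
  have hqs : QuasiSeparatedSpace ↥(W : Set X) :=
    inferInstanceAs (QuasiSeparatedSpace (W : Scheme.{u}))
  have hopen : IsOpen (Subtype.val ⁻¹' O : Set ↥(W : Set X)) := hO.preimage continuous_subtype_val
  obtain ⟨S, hS, hOS⟩ := (PrespectralSpace.isTopologicalBasis
    (X := ↥(W : Set X))).open_eq_sUnion hopen
  refine ⟨(W : Set X), W.isOpen, hxW, S, fun T hT => ?_, hOS⟩
  exact ((hS hT).2.isConstructible (hS hT).1).isLocallyConstructible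

/-- Closed subsets of a scheme are pro-constructible. -/
theorem isProConstructible_of_isClosed {X : Scheme.{u}} {C : Set X} (hC : IsClosed C) :
    ProCons.IsProConstructible C :=
  Groth.Agent.Lib.Helper5.isProConstructible_of_compl
    (isIndConstructible_of_isOpen hC.isOpen_compl)

/-- The intersection of two pro-constructible subsets of a scheme is pro-constructible. -/
theorem isProConstructible_inter {X : Scheme.{u}} {E F : Set X}
    (hE : ProCons.IsProConstructible E) (hF : ProCons.IsProConstructible F) :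
    ProCons.IsProConstructible (E ∩ F) := by
  apply isProConstructible_of_affine
  intro x
  obtain ⟨W, hW, hxW⟩ := exists_affine_nhd X x
  obtain ⟨𝒟₁, h𝒟₁, hE₁⟩ := exists_eq_sInter_of_isAffineOpen hE hW
  obtain ⟨𝒟₂, h𝒟₂, hF₂⟩ := exists_eq_sInter_of_isAffineOpen hF hW
  refine ⟨W, hxW, 𝒟₁ ∪ 𝒟₂, ?_, ?_⟩
  · rintro D (hD | hD)
    · exact h𝒟₁ D hD
    · exact h𝒟₂ D hD
  · rw [Set.preimage_inter, hE₁, hF₂, Set.sInter_union]

/-- A locally constructible subset of a scheme is pro-constructible. -/
theorem isProConstructible_of_isLocallyConstructible {X : Scheme.{u}} {E : Set X}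
    (hE : IsLocallyConstructible E) : ProCons.IsProConstructible E := by
  apply isProConstructible_of_affine
  intro x
  obtain ⟨W, hW, hxW⟩ := exists_affine_nhd X x
  have : IsAffine (W : Scheme.{u}) := hW
  refine ⟨W, hxW, {Subtype.val ⁻¹' E}, ?_, (Set.sInter_singleton _).symm⟩
  rintro D rfl
  have h1 : IsLocallyConstructible ((Scheme.Opens.ι W).base ⁻¹' E) :=
    Groth.Agent.Lib.Helper5.isLocallyConstructible_preimage (Scheme.Opens.ι W) hE
  exact IsLocallyConstructible.isConstructible (X := (W : Scheme.{u})) h1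

end Groth.Agent.Lib.T2H3.ProConsBasic
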