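import Mathlib
import Groth.Prelude.Def_W4c2submetdescSubtr
import Groth.Agent.S4787
import Groth.Agent.Lib.T2H3ProConsBasic

/-!
# Limits of S-subtrusive morphisms

* `eq_of_forall_π_app_eq`: points of a cofiltered limit of schemes with affine transition maps are
  determined by their projections.
* `exists_mem_iInter_of_nonempty`, `exists_mem_iInter_inter_of_nonempty`: a compatible system of
  nonempty pro-constructible subsets has a point in the limit.
* `isSSubtrusive_of_isLimit`: a limit of (eventually) S-subtrusive quasi-compact morphisms is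
  S-subtrusive.
-/

set_option autoImplicit false
set_option linter.style.haveILetI false
universe u
open CategoryTheory CategoryTheory.Limits AlgebraicGeometry Topology

namespace Groth.Agent.Lib.T2H3.SubtrLimit

open Groth.Agent.Lib.T2H3.ProConsBasic

section

variable {I : Type u} [SmallCategory I] [IsCofiltered I] (D : I ⥤ Scheme.{u}) (c : Cone D)
  (hc : IsLimit c) [∀ {i j} (f : i ⟶ j), IsAffineHom (D.map f)]

include hc in
/-- Points of the limit are determined by their projections. -/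
lemma eq_of_forall_π_app_eq {x x' : c.pt} (h : ∀ i, c.π.app i x = c.π.app i x') : x = x' := by
  by_contra hne
  have key : ∀ (a b : c.pt), (∀ i, c.π.app i a = c.π.app i b) →
      ∀ U : Set c.pt, IsOpen U → a ∈ U → b ∈ U := by
    intro a b hab U hU haU
    obtain ⟨_, ⟨i, V, -, rfl⟩, haV, hVU⟩ := TopologicalSpace.Opens.isBasis_iff_nbhd.mp
      (isBasis_preimage_isAffineOpen D c hc) (show a ∈ (⟨U, hU⟩ : c.pt.Opens) from haU)
    apply hVU
    show c.π.app i b ∈ V
    rw [← hab i]
    exact haV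
  obtain ⟨U, hU, hx⟩ := exists_isOpen_xor_mem hne
  rcases hx with ⟨h1, h2⟩ | ⟨h1, h2⟩
  · exact h2 (key x x' h U hU h1)
  · exact h2 (key x' x (fun i => (h i).symm) U hU h1)

include hc in
/-- A compatible system of pro-constructible subsets, nonempty at all stages over `i₁`, has a
point in the limit (one stage being quasi-compact). -/
lemma exists_mem_iInter_of_nonempty (i₀ : I) [CompactSpace (D.obj i₀)]
    (E : ∀ i : I, Set (D.obj i)) (hE : ∀ i, ProCons.IsProConstructible (E i))
    (hEm : ∀ (i j : I) (φ : i ⟶ j), E i ⊆ (D.map φ) ⁻¹' E j)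
    (i₁ : I) (hne : ∀ (i : I) (_ : i ⟶ i₁), (E i).Nonempty) :
    ∃ x : c.pt, ∀ i, c.π.app i x ∈ E i := by
  by_contra H
  push Not at H
  haveI : ∀ (i j : I) (f : i ⟶ j), IsAffineHom (D.map f) := fun _ _ f => inferInstance
  have hsub : (⋂ i, (c.π.app i) ⁻¹' E i : Set c.pt) ⊆
      (⋃ i, (c.π.app i) ⁻¹' ((fun i => (∅ : Set (D.obj i))) i) : Set c.pt) := by
    intro x hx
    obtain ⟨i, hi⟩ := H x
    exact absurd (Set.mem_iInter.mp hx i) hi
  obtain ⟨i, _, h⟩ := (Groth.Agent.S4787.result D c hc i₀ E (fun i => (∅ : Set (D.obj i))) hE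
    (fun i => isIndConstructible_of_isOpen isOpen_empty) hEm
    (fun i j φ => by simp)).mp hsub
  obtain ⟨x, hx⟩ := hne (IsCofiltered.min i i₁) (IsCofiltered.minToRight i i₁)
  exact h (IsCofiltered.min i i₁) (IsCofiltered.minToLeft i i₁) hx

include hc in
/-- A compatible system of pro-constructible subsets meeting the preimages of a compact open `W`
of one stage has a point in the limit lying over `W`. -/
lemma exists_mem_iInter_inter_of_nonempty
    (E : ∀ i : I, Set (D.obj i)) (hE : ∀ i, ProCons.IsProConstructible (E i))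
    (hEm : ∀ (i j : I) (φ : i ⟶ j), E i ⊆ (D.map φ) ⁻¹' E j)
    (k : I) (W : (D.obj k).Opens) (hW : IsCompact (W : Set (D.obj k)))
    (hne : ∀ (l : I) (a : l ⟶ k), (E l ∩ (D.map a) ⁻¹' (W : Set (D.obj k))).Nonempty) :
    ∃ x : c.pt, (∀ i, c.π.app i x ∈ E i) ∧ c.π.app k x ∈ W := by
  let D' : Over k ⥤ Scheme.{u} := opensDiagram D k W
  let c' : Cone D' := opensCone D c k W
  have hc' : IsLimit c' := isLimitOpensCone D c hc k W
  let j₀ : Over k := Over.mk (𝟙 k)
  haveI : CompactSpace (D'.obj j₀) := by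
    apply isCompact_iff_compactSpace.mp
    exact (D.map j₀.hom).isCompact_preimage hW
  let E' : ∀ j : Over k, Set (D'.obj j) := fun j => (Scheme.Opens.ι _) ⁻¹' E j.left
  have hE' : ∀ j, ProCons.IsProConstructible (E' j) := fun j =>
    Groth.Agent.Lib.Helper5.isProConstructible_preimage _ _ (hE j.left)
  have hEm' : ∀ (j j' : Over k) (φ : j ⟶ j'), E' j ⊆ (D'.map φ) ⁻¹' E' j' := by
    intro j j' φ z hz
    show ((D'.map φ) z).1 ∈ E j'.left
    have h1 : ((D'.map φ) z).1 = D.map φ.left z.1 := Scheme.Hom.coe_resLE_apply _ _ _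
    rw [h1]
    exact hEm _ _ φ.left hz
  have hne' : ∀ (j : Over k) (_ : j ⟶ j₀), (E' j).Nonempty := by
    intro j _
    obtain ⟨y, hyE, hyW⟩ := hne j.left j.hom
    exact ⟨⟨y, hyW⟩, hyE⟩
  obtain ⟨z, hz⟩ := exists_mem_iInter_of_nonempty D' c' hc' j₀ E' hE' hEm' j₀ hne'
  refine ⟨z.1, fun i => ?_, z.2⟩
  let l := IsCofiltered.min i k
  let a : l ⟶ i := IsCofiltered.minToLeft i k
  let b : l ⟶ k := IsCofiltered.minToRight i k
  have h1 : ((c'.π.app (Over.mk b)) z).1 ∈ E l := hz (Over.mk b)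
  have h2 : ((c'.π.app (Over.mk b)) z).1 = c.π.app l z.1 := Scheme.Hom.coe_resLE_apply _ _ _
  rw [h2] at h1
  have h3 : c.π.app i z.1 = D.map a (c.π.app l z.1) := by
    have := congrArg (fun m : c.pt ⟶ D.obj i => m z.1) (c.w a)
    exact this.symm
  rw [h3]
  exact hEm _ _ a h1

end

section Main

variable {I : Type u} [SmallCategory I] [IsCofiltered I] (DX DY : I ⥤ Scheme.{u})
  [∀ {i j} (f : i ⟶ j), IsAffineHom (DX.map f)] [∀ {i j} (f : i ⟶ j), IsAffineHom (DY.map f)]
  (cX : Cone DX) (hcX : IsLimit cX) (cY : Cone DY) (hcY : IsLimit cY)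

include hcX hcY in
/-- A limit of quasi-compact morphisms which are S-subtrusive at all stages over `i₁` is
S-subtrusive. -/
theorem isSSubtrusive_of_isLimit (α : ∀ i, DX.obj i ⟶ DY.obj i)
    (hα : ∀ (i j : I) (a : i ⟶ j), DX.map a ≫ α j = α i ≫ DY.map a)
    (f : cX.pt ⟶ cY.pt) (hf : ∀ i, f ≫ cY.π.app i = cX.π.app i ≫ α i)
    [∀ i, QuasiCompact (α i)] (i₁ : I) (hS : ∀ (i : I) (_ : i ⟶ i₁), Subtr.IsSSubtrusive (α i)) :
    Subtr.IsSSubtrusive f := by
  intro y y' hyy
  -- pointwise versions of the commutation relations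
  have hα' : ∀ (i j : I) (a : i ⟶ j) (x : DX.obj i), α j (DX.map a x) = DY.map a (α i x) :=
    fun i j a x => congrArg (fun m : DX.obj i ⟶ DY.obj j => m x) (hα i j a)
  have hf' : ∀ (i : I) (x : cX.pt), cY.π.app i (f x) = α i (cX.π.app i x) :=
    fun i x => congrArg (fun m : cX.pt ⟶ DY.obj i => m x) (hf i)
  have hwY : ∀ (i j : I) (a : i ⟶ j) (z : cY.pt), DY.map a (cY.π.app i z) = cY.π.app j z :=
    fun i j a z => congrArg (fun m : cY.pt ⟶ DY.obj j => m z) (cY.w a)
  have hwX : ∀ (i j : I) (a : i ⟶ j) (z : cX.pt), DX.map a (cX.π.app i z) = cX.π.app j z :=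
    fun i j a z => congrArg (fun m : cX.pt ⟶ DX.obj j => m z) (cX.w a)
  -- the fibres over `y'`
  let E' : ∀ i : I, Set (DX.obj i) := fun i => (α i) ⁻¹' {cY.π.app i y'}
  have hE'pro : ∀ i, ProCons.IsProConstructible (E' i) := fun i =>
    Groth.Agent.Lib.Helper5.isProConstructible_preimage _ _
      (Groth.Agent.Lib.Helper5.isProConstructible_singleton _ _)
  have hE'm : ∀ (i j : I) (φ : i ⟶ j), E' i ⊆ (DX.map φ) ⁻¹' E' j := by
    intro i j φ x hx
    show α j (DX.map φ x) = cY.π.app j y'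
    rw [hα', show α i x = cY.π.app i y' from hx, hwY]
  let E : ∀ i : I, Set (DX.obj i) := fun i => (α i) ⁻¹' {cY.π.app i y} ∩ closure (E' i)
  have hEpro : ∀ i, ProCons.IsProConstructible (E i) := fun i =>
    isProConstructible_inter
      (Groth.Agent.Lib.Helper5.isProConstructible_preimage _ _
        (Groth.Agent.Lib.Helper5.isProConstructible_singleton _ _))
      (isProConstructible_of_isClosed isClosed_closure)
  have hEm : ∀ (i j : I) (φ : i ⟶ j), E i ⊆ (DX.map φ) ⁻¹' E j := by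
    rintro i j φ x ⟨hx1, hx2⟩
    refine ⟨?_, ?_⟩
    · show α j (DX.map φ x) = cY.π.app j y
      rw [hα', show α i x = cY.π.app i y from hx1, hwY]
    · have h1 : DX.map φ x ∈ closure ((DX.map φ) '' E' i) :=
        image_closure_subset_closure_image (DX.map φ).continuous ⟨x, hx2, rfl⟩
      refine closure_mono ?_ h1
      rintro _ ⟨z, hz, rfl⟩
      exact hE'm i j φ hz
  -- an affine open neighbourhood of the image of `y` at stage `i₁`
  obtain ⟨V, hV, hyV⟩ := exists_affine_nhd (DY.obj i₁) (cY.π.app i₁ y)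
  let W : (DX.obj i₁).Opens := α i₁ ⁻¹ᵁ V
  have hW : IsCompact (W : Set (DX.obj i₁)) := (α i₁).isCompact_preimage hV.isCompact
  have hne : ∀ (l : I) (a : l ⟶ i₁), (E l ∩ (DX.map a) ⁻¹' (W : Set (DX.obj i₁))).Nonempty := by
    intro l a
    obtain ⟨x, x', hxx, hx, hx'⟩ := hS l a
      (hyy.map (cY.π.app l).continuous : cY.π.app l y' ⤳ cY.π.app l y)
    refine ⟨x, ⟨hx, ?_⟩, ?_⟩
    · exact closure_mono (Set.singleton_subset_iff.mpr (show x' ∈ E' l from hx')) hxx.mem_closure
    · show α i₁ (DX.map a x) ∈ V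
      rw [hα', hx, hwY]
      exact hyV
  obtain ⟨x, hxE, -⟩ := exists_mem_iInter_inter_of_nonempty DX cX hcX E hEpro hEm i₁ W hW hne
  have hfx : f x = y := by
    apply eq_of_forall_π_app_eq DY cY hcY
    intro i
    rw [hf']
    exact (hxE i).1
  -- `x` lies in the closure of the fibre over `y'`
  have hF'pro : ProCons.IsProConstructible (f ⁻¹' {y'}) :=
    Groth.Agent.Lib.Helper5.isProConstructible_preimage _ _
      (Groth.Agent.Lib.Helper5.isProConstructible_singleton _ _)
  have hxcl : x ∈ closure (f ⁻¹' {y'}) := by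
    by_contra hxcl
    obtain ⟨_, ⟨k, V', hV', rfl⟩, hxV', hV'U⟩ := TopologicalSpace.Opens.isBasis_iff_nbhd.mp
      (isBasis_preimage_isAffineOpen DX cX hcX)
      (show x ∈ (⟨(closure (f ⁻¹' {y'}))ᶜ, isClosed_closure.isOpen_compl⟩ : cX.pt.Opens) from hxcl)
    have hne' : ∀ (l : I) (a : l ⟶ k),
        (E' l ∩ (DX.map a) ⁻¹' (V' : Set (DX.obj k))).Nonempty := by
      intro l a
      have h1 : cX.π.app l x ∈ closure (E' l) := (hxE l).2
      have h2 : cX.π.app l x ∈ (DX.map a) ⁻¹' (V' : Set (DX.obj k)) := by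
        show DX.map a (cX.π.app l x) ∈ V'
        rw [hwX]
        exact hxV'
      obtain ⟨z, hz1, hz2⟩ := mem_closure_iff.mp h1 _ (V'.isOpen.preimage (DX.map a).continuous) h2
      exact ⟨z, hz2, hz1⟩
    obtain ⟨x'', hx''E, hx''V⟩ := exists_mem_iInter_inter_of_nonempty DX cX hcX E' hE'pro hE'm k V'
      hV'.isCompact hne'
    have hfx'' : f x'' = y' := by
      apply eq_of_forall_π_app_eq DY cY hcY
      intro i
      rw [hf']
      exact hx''E i
    exact hV'U (show x'' ∈ cX.π.app k ⁻¹ᵁ V' from hx''V) (subset_closure hfx'')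
  obtain ⟨x', hx'F, hx'x⟩ := Groth.Agent.Lib.Helper5.exists_specializes_of_mem_closure cX.pt
    (f ⁻¹' {y'}) hF'pro x hxcl
  exact ⟨x, x', hx'x, hfx, hx'F⟩

end Main

end Groth.Agent.Lib.T2H3.SubtrLimit
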