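import Mathlib
import Groth.Agent.Lib.T2H3SubtrLimit
import Groth.Agent.Lib.Helper22LimBC

/-!
# A closed subset missing a fibre already misses the fibre at a finite stage of a limit
-/

set_option autoImplicit false
set_option linter.style.haveILetI false
universe u
open CategoryTheory CategoryTheory.Limits AlgebraicGeometry Topology

namespace Groth.Agent.Lib.T2H3.ClosedFibreDesc

open Groth.Agent.Lib.Helper22.LimBC Groth.Agent.Lib.T2H3.SubtrLimit
  Groth.Agent.Lib.T2H3.ProConsBasic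

variable {I : Type u} [SmallCategory I] [IsCofiltered I] (D : I ⥤ Scheme.{u}) (c : Cone D)
  (hc : IsLimit c) [∀ {i j} (f : i ⟶ j), IsAffineHom (D.map f)]

include hc in
/-- Let `P = Xi ×_{S_{i₀}} S` with `S = lim S_j`, `Xi` quasi-compact, `Z ⊆ P` a closed subset
missing the fibre over `t ∈ S`.  Then for some stage `j` the closure of the image of `Z` in
`Xi ×_{S_{i₀}} S_j` misses the fibre over the image of `t`. -/
theorem exists_stage_closure_disjoint (i₀ : I) (hterm : ∀ i : I, Nonempty (i ⟶ i₀))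
    {Xi P : Scheme.{u}} {xi : Xi ⟶ D.obj i₀} [CompactSpace Xi] {qX : P ⟶ Xi} {pX : P ⟶ c.pt}
    (hP : IsPullback qX pX xi (c.π.app i₀)) (Z : Set P) (hZ : IsClosed Z) (t : c.pt)
    (hZt : ∀ z ∈ Z, pX z ≠ t) :
    ∃ j : Over i₀, ∀ y ∈ closure (bcπ i₀ hP j '' Z), dSnd D i₀ xi j y ≠ c.π.app j.left t := by
  by_contra H
  push Not at H
  let E : ∀ j : Over i₀, Set ((bcDiagram D i₀ xi).obj j) := fun j =>
    closure (bcπ i₀ hP j '' Z) ∩ (dSnd D i₀ xi j) ⁻¹' {c.π.app j.left t}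
  have hEpro : ∀ j, ProCons.IsProConstructible (E j) := fun j =>
    isProConstructible_inter (isProConstructible_of_isClosed isClosed_closure)
      (Groth.Agent.Lib.Helper5.isProConstructible_preimage _ _
        (Groth.Agent.Lib.Helper5.isProConstructible_singleton _ _))
  have hEm : ∀ (j k : Over i₀) (φ : j ⟶ k), E j ⊆ ((bcDiagram D i₀ xi).map φ) ⁻¹' E k := by
    rintro j k φ y ⟨hy1, hy2⟩
    refine ⟨?_, ?_⟩
    · have h1 : (bcDiagram D i₀ xi).map φ y ∈
          closure ((bcDiagram D i₀ xi).map φ '' (bcπ i₀ hP j '' Z)) :=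
        image_closure_subset_closure_image ((bcDiagram D i₀ xi).map φ).continuous ⟨y, hy1, rfl⟩
      refine closure_mono ?_ h1
      rintro _ ⟨_, ⟨z, hz, rfl⟩, rfl⟩
      refine ⟨z, hz, ?_⟩
      exact (congrArg (fun m : P ⟶ (bcDiagram D i₀ xi).obj k => m z) (bcπ_map i₀ hP φ)).symm
    · show dSnd D i₀ xi k ((bcDiagram D i₀ xi).map φ y) = c.π.app k.left t
      have h1 := congrArg (fun m : (bcDiagram D i₀ xi).obj j ⟶ D.obj k.left => m y)
        (map_dSnd D i₀ xi φ)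
      change dSnd D i₀ xi k ((bcDiagram D i₀ xi).map φ y) = D.map φ.left (dSnd D i₀ xi j y) at h1
      rw [h1, show dSnd D i₀ xi j y = c.π.app j.left t from hy2]
      exact congrArg (fun m : c.pt ⟶ D.obj k.left => m t) (c.w φ.left)
  let j₀ : Over i₀ := Over.mk (𝟙 i₀)
  obtain ⟨x, hx⟩ := exists_mem_iInter_of_nonempty (bcDiagram D i₀ xi) (bcCone i₀ hP)
    (isLimitBcCone i₀ hP hc) j₀ E hEpro hEm j₀
    (fun j _ => by
      obtain ⟨y, hy1, hy2⟩ := H j
      exact ⟨y, hy1, hy2⟩)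
  -- `x ∈ Z`
  have hxZ : x ∈ Z := by
    by_contra hxZ
    obtain ⟨_, ⟨j, U, -, rfl⟩, hxU, hUZ⟩ := TopologicalSpace.Opens.isBasis_iff_nbhd.mp
      (isBasis_preimage_isAffineOpen (bcDiagram D i₀ xi) (bcCone i₀ hP) (isLimitBcCone i₀ hP hc))
      (show x ∈ (⟨Zᶜ, hZ.isOpen_compl⟩ : P.Opens) from hxZ)
    have h1 : bcπ i₀ hP j x ∈ closure (bcπ i₀ hP j '' Z) := (hx j).1
    obtain ⟨_, hy1, ⟨z, hz, rfl⟩⟩ := mem_closure_iff.mp h1 _ U.isOpen hxU
    exact hUZ (show z ∈ (bcCone i₀ hP).π.app j ⁻¹ᵁ U from hy1) hz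
  -- `x` lies over `t`
  apply hZt x hxZ
  apply eq_of_forall_π_app_eq D c hc
  intro i
  obtain ⟨a⟩ := hterm i
  have h1 : dSnd D i₀ xi (Over.mk a) (bcπ i₀ hP (Over.mk a) x) = c.π.app i t := (hx (Over.mk a)).2
  rw [← h1]
  exact (congrArg (fun m : P ⟶ D.obj i => m x) (bcπ_snd i₀ hP (Over.mk a))).symm

end Groth.Agent.Lib.T2H3.ClosedFibreDesc
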