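import Mathlib
import Groth.Agent.Lib.T2H3FGSubR
import Groth.Agent.Lib.T2H3ClosedFibreDesc

/-!
# Descending "a closed subset misses a fibre" to a finitely presented base (affine core)

For `f : X ⟶ S` quasi-compact, `σ : Spec R ⟶ S`, an `R`-algebra `A`, a closed subset `Z` of
`X ×_S Spec A` missing the fibre over `t ∈ Spec A`, there is a polynomial algebra
`R[x₁,…,xₙ] → A` and a closed subset `Z'` of `X ×_S Spec R[x]` missing the fibre over the image
of `t` and containing the image of `Z`.
-/

set_option autoImplicit false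
set_option linter.style.haveILetI false
universe u
open CategoryTheory CategoryTheory.Limits AlgebraicGeometry Topology

namespace Groth.Agent.Lib.T2H3.ClosedFibreFP

open Groth.Agent.Lib.Helper22.LimBC Groth.Agent.Lib.T2H3.FGSubR
  Groth.Agent.Lib.T2H3.ClosedFibreDesc

/-- Pasting: `X ×_S V → X ×_S B` is the base change of `γ : V ⟶ B`. -/
lemma isPullback_lift {C : Type*} [Category C] [HasPullbacks C] {X S B V : C} (f : X ⟶ S)
    (β : B ⟶ S) (γ : V ⟶ B) (h : V ⟶ S) (hh : h = γ ≫ β) :
    IsPullback (pullback.lift (pullback.fst f h) (pullback.snd f h ≫ γ)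
      (by rw [pullback.condition, hh, Category.assoc])) (pullback.snd f h)
      (pullback.snd f β) γ := by
  subst hh
  refine IsPullback.of_right ?_ (pullback.lift_snd _ _ _) (IsPullback.of_hasPullback f β)
  rw [pullback.lift_fst]
  exact IsPullback.of_hasPullback f (γ ≫ β)

theorem exists_fp_stage {X S : Scheme.{u}} (f : X ⟶ S) [QuasiCompact f] (R A : Type u)
    [CommRing R] [CommRing A] [Algebra R A] (σ : Spec (CommRingCat.of R) ⟶ S)
    (Z : Set ↥(pullback f (Spec.map (CommRingCat.ofHom (algebraMap R A)) ≫ σ)))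
    (hZ : IsClosed Z) (t : ↥(Spec (CommRingCat.of A)))
    (hZt : ∀ z ∈ Z,
      (pullback.snd f (Spec.map (CommRingCat.ofHom (algebraMap R A)) ≫ σ)) z ≠ t) :
    ∃ (n : ℕ) (ψ : MvPolynomial (Fin n) R →ₐ[R] A)
      (Z' : Set ↥(pullback f
        (Spec.map (CommRingCat.ofHom (algebraMap R (MvPolynomial (Fin n) R))) ≫ σ))),
      IsClosed Z' ∧
      (∀ z' ∈ Z', (pullback.snd f
        (Spec.map (CommRingCat.ofHom (algebraMap R (MvPolynomial (Fin n) R))) ≫ σ)) z' ≠
          Spec.map (CommRingCat.ofHom ψ.toRingHom) t) ∧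
      ∀ (W : Scheme.{u})
        (nn : W ⟶ pullback f (Spec.map (CommRingCat.ofHom (algebraMap R A)) ≫ σ))
        (m : W ⟶ pullback f
          (Spec.map (CommRingCat.ofHom (algebraMap R (MvPolynomial (Fin n) R))) ≫ σ)),
        m ≫ pullback.fst f _ = nn ≫ pullback.fst f _ →
        m ≫ pullback.snd f _ = nn ≫ pullback.snd f _ ≫
          Spec.map (CommRingCat.ofHom ψ.toRingHom) →
        ∀ w : W, nn w ∈ Z → m w ∈ Z' := by
  classical
  let bot : FGSub R A := ⟨⊥, Subalgebra.fg_bot⟩
  let i₀ : (FGSub R A)ᵒᵖ := Opposite.op bot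
  have hterm : ∀ i : (FGSub R A)ᵒᵖ, Nonempty (i ⟶ i₀) := fun i =>
    ⟨(homOfLE (show bot ≤ i.unop from (bot_le : (⊥ : Subalgebra R A) ≤ i.unop.1))).op⟩
  let β : (specDiagram R A).obj i₀ ⟶ S := toBase R A bot ≫ σ
  let h : Spec (CommRingCat.of A) ⟶ S := Spec.map (CommRingCat.ofHom (algebraMap R A)) ≫ σ
  let γ : Spec (CommRingCat.of A) ⟶ (specDiagram R A).obj i₀ := (specCone R A).π.app i₀
  have hh : h = γ ≫ β := by
    show _ = (specCone R A).π.app i₀ ≫ toBase R A bot ≫ σ
    rw [← Category.assoc, π_toBase]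
    rfl
  have hP : IsPullback
      (pullback.lift (pullback.fst f h) (pullback.snd f h ≫ γ)
        (by rw [pullback.condition, hh, Category.assoc]))
      (pullback.snd f h : pullback f h ⟶ (specCone R A).pt)
      (pullback.snd f β) ((specCone R A).π.app i₀) := isPullback_lift f β γ h hh
  haveI : CompactSpace ↥((specDiagram R A).obj i₀) :=
    (inferInstance : CompactSpace ↥(Spec (CommRingCat.of bot.1)))
  haveI : CompactSpace ↥(pullback f β) := inferInstance
  obtain ⟨j, hj⟩ := exists_stage_closure_disjoint (specDiagram R A) (specCone R A)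
    (specIsLimit R A) i₀ hterm hP Z hZ t hZt
  let lam : FGSub R A := j.left.unop
  obtain ⟨n, ψl, hψl⟩ := Algebra.FiniteType.iff_quotient_mvPolynomial''.mp
    ((Subalgebra.fg_iff_finiteType lam.1).mp lam.2)
  let ψ : MvPolynomial (Fin n) R →ₐ[R] A := lam.1.val.comp ψl
  let cl : (specDiagram R A).obj j.left ⟶ Spec (CommRingCat.of (MvPolynomial (Fin n) R)) :=
    Spec.map (CommRingCat.ofHom ψl.toRingHom)
  haveI : IsClosedImmersion cl := IsClosedImmersion.spec_of_surjective _ hψl
  let b : Spec (CommRingCat.of (MvPolynomial (Fin n) R)) ⟶ S :=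
    Spec.map (CommRingCat.ofHom (algebraMap R (MvPolynomial (Fin n) R))) ≫ σ
  have hcomp : (specDiagram R A).map j.hom ≫ β = cl ≫ b := by
    show _ ≫ toBase R A bot ≫ σ = _ ≫ _ ≫ σ
    rw [← Category.assoc, ← Category.assoc]
    congr 1
    rw [map_toBase R A j.hom]
    show Spec.map _ = Spec.map _ ≫ Spec.map _
    rw [← Spec.map_comp]
    congr 1
    ext x
    exact congrArg Subtype.val (ψl.commutes x).symm
  let κ : (bcDiagram (specDiagram R A) i₀ (pullback.snd f β)).obj j ⟶ pullback f b :=
    pullback.lift (dFst _ i₀ _ j ≫ pullback.fst f β) (dSnd _ i₀ _ j ≫ cl) (by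
      rw [Category.assoc, pullback.condition, ← Category.assoc, d_condition, Category.assoc,
        hcomp, Category.assoc])
  have hκ : IsPullback κ (dSnd _ i₀ _ j) (pullback.snd f b) cl := by
    refine IsPullback.of_right ?_ (pullback.lift_snd _ _ _) (IsPullback.of_hasPullback f b)
    rw [pullback.lift_fst, ← hcomp]
    exact (isPullback_d _ i₀ _ j).paste_horiz (IsPullback.of_hasPullback f β)
  haveI : IsClosedImmersion κ :=
    MorphismProperty.of_isPullback (P := @IsClosedImmersion) hκ.flip ‹_›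
  have hψ : Spec.map (CommRingCat.ofHom ψ.toRingHom) = (specCone R A).π.app j.left ≫ cl := by
    show Spec.map _ = Spec.map _ ≫ Spec.map _
    rw [← Spec.map_comp]
    rfl
  refine ⟨n, ψ, κ '' closure (bcπ (c := specCone R A) i₀ hP j '' Z),
    κ.isClosedEmbedding.isClosedMap _ isClosed_closure, ?_, ?_⟩
  · rintro _ ⟨y, hy, rfl⟩ heq
    apply hj y hy
    apply cl.isClosedEmbedding.injective
    have h1 : (pullback.snd f b) (κ y) = cl (dSnd _ i₀ _ j y) :=
      congrArg (fun q : _ ⟶ Spec (CommRingCat.of (MvPolynomial (Fin n) R)) => q y)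
        (pullback.lift_snd _ _ _)
    rw [← h1]
    refine heq.trans ?_
    rw [hψ]
    rfl
  · intro W nn m hm1 hm2 w hw
    have hm : m = nn ≫ bcπ (c := specCone R A) i₀ hP j ≫ κ := by
      apply pullback.hom_ext
      · rw [hm1, Category.assoc, Category.assoc, pullback.lift_fst, ← Category.assoc (bcπ (c := specCone R A) i₀ hP j),
          bcπ_fst, pullback.lift_fst]
      · rw [hm2, Category.assoc, Category.assoc, pullback.lift_snd, ← Category.assoc (bcπ (c := specCone R A) i₀ hP j),
          bcπ_snd, hψ, Category.assoc]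
        rfl
    rw [hm]
    exact ⟨bcπ (c := specCone R A) i₀ hP j (nn w), subset_closure ⟨nn w, hw, rfl⟩, rfl⟩

end Groth.Agent.Lib.T2H3.ClosedFibreFP
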