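import Mathlib
import Groth.Agent.Lib.Helper27GaGm

/-!
# Morphisms out of a flat scheme are determined on a scheme-theoretically dominant base change

* `isIso_of_factors`: a closed immersion through which a scheme-theoretically dominant morphism factors
  is an isomorphism.
* `ext_of_dominant`: two `S`-morphisms `Z ⟶ Y` with `Y` separated over `S` which agree after composing
  with a scheme-theoretically dominant `D ⟶ Z` are equal.
* `over_ext`: for `f : S' ⟶ S` quasi-compact and scheme-theoretically dominant (e.g. the generic point
  of an integral affine scheme), `Y` flat over `S`, `G` separated over `S`, two morphisms `Y ⟶ G` with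
  the same base change along `f` are equal.
* `specMap_dominant`: `Spec` of an injective ring map is scheme-theoretically dominant.
-/

set_option autoImplicit false
universe u
open CategoryTheory CategoryTheory.Limits AlgebraicGeometry MonoidalCategory CartesianMonoidalCategory
  MonObj

namespace Groth.Agent.Lib.T2H3.DensityExt

lemma isIso_of_factors {D E Z : Scheme.{u}} (e : E ⟶ Z) [IsClosedImmersion e] (d : D ⟶ Z)
    [IsSchemeTheoreticallyDominant d] (l : D ⟶ E) (hl : l ≫ e = d) : IsIso e := by
  rw [IsClosedImmersion.isIso_iff_ker_eq_bot, eq_bot_iff]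
  calc e.ker ≤ (l ≫ e).ker := Scheme.Hom.le_ker_comp l e
    _ = d.ker := by rw [hl]
    _ = ⊥ := d.ker_eq_bot

set_option backward.isDefEq.respectTransparency false in
lemma ext_of_dominant {D Z Y S : Scheme.{u}} (d : D ⟶ Z) [IsSchemeTheoreticallyDominant d]
    {a b : Z ⟶ Y} (s : Y ⟶ S) [IsSeparated s] (h : a ≫ s = b ≫ s) (hab : d ≫ a = d ≫ b) :
    a = b := by
  let X' : Over S := Over.mk (a ≫ s)
  let Y' : Over S := Over.mk s
  let U' : Over S := Over.mk (d ≫ a ≫ s)
  let f' : X' ⟶ Y' := Over.homMk a
  let g' : X' ⟶ Y' := Over.homMk b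
  let ι' : U' ⟶ X' := Over.homMk d
  have : IsSeparated Y'.hom := ‹_›
  have hι' : ι' ≫ f' = ι' ≫ g' := by ext1; exact hab
  have hfac : (equalizer.lift ι' hι').left ≫ (equalizer.ι f' g').left = d := by
    rw [← Over.comp_left, equalizer.lift_ι]
    rfl
  have := isIso_of_factors (Z := Z) (equalizer.ι f' g').left d
    (equalizer.lift ι' hι').left hfac
  rw [← cancel_epi (equalizer.ι f' g').left]
  exact congr($(equalizer.condition f' g').left)

section Over

variable {S' S : Scheme.{u}} (f : S' ⟶ S)

/-- two morphisms from a flat `S`-scheme to a separated one with the same base change along a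
quasi-compact scheme-theoretically dominant `f : S' ⟶ S` are equal. -/
theorem over_ext [QuasiCompact f] [IsSchemeTheoreticallyDominant f] {Y G : Over S} [Flat Y.hom]
    [IsSeparated G.hom] (a b : Y ⟶ G)
    (h : (Over.pullback f).map a = (Over.pullback f).map b) : a = b := by
  have hnat : ∀ c : Y ⟶ G, (Over.map f).map ((Over.pullback f).map c) ≫
      (Over.mapPullbackAdj f).counit.app G = (Over.mapPullbackAdj f).counit.app Y ≫ c :=
    fun c => (Over.mapPullbackAdj f).counit.naturality c
  have h1 : (Over.mapPullbackAdj f).counit.app Y ≫ a = (Over.mapPullbackAdj f).counit.app Y ≫ b := by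
    rw [← hnat, ← hnat, h]
  have h2 : ((Over.mapPullbackAdj f).counit.app Y).left = pullback.fst Y.hom f := by
    simp
  apply Over.OverMorphism.ext
  have h3 : ((Over.mapPullbackAdj f).counit.app Y).left ≫ a.left =
      ((Over.mapPullbackAdj f).counit.app Y).left ≫ b.left := congrArg CommaMorphism.left h1
  rw [h2] at h3
  exact ext_of_dominant (pullback.fst Y.hom f) G.hom ((Over.w a).trans (Over.w b).symm) h3

end Over

set_option backward.isDefEq.respectTransparency.types false in
/-- `Spec` of an injective ring map is scheme-theoretically dominant. -/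
theorem specMap_dominant {A B : Type u} [CommRing A] [CommRing B] (φ : A →+* B)
    (hφ : Function.Injective φ) :
    IsSchemeTheoreticallyDominant (Spec.map (CommRingCat.ofHom φ)) := by
  rw [isSchemeTheoreticallyDominant_iff]
  have hinj : Function.Injective (Spec.map (CommRingCat.ofHom φ)).appTop := by
    have h1 : (Spec.map (CommRingCat.ofHom φ)).appTop =
        (Scheme.ΓSpecIso (CommRingCat.of A)).hom ≫ CommRingCat.ofHom φ ≫
          (Scheme.ΓSpecIso (CommRingCat.of B)).inv := by
      rw [Scheme.ΓSpecIso_inv_naturality (CommRingCat.ofHom φ), Iso.hom_inv_id_assoc]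
    rw [h1]
    simp only [CommRingCat.hom_comp, RingHom.coe_comp, CommRingCat.hom_ofHom]
    exact ((ConcreteCategory.bijective_of_isIso (Scheme.ΓSpecIso (CommRingCat.of B)).inv).1.comp
      hφ).comp (ConcreteCategory.bijective_of_isIso (Scheme.ΓSpecIso (CommRingCat.of A)).hom).1
  have hk := (Spec.map (CommRingCat.ofHom φ)).ker_apply
      ⟨⊤, isAffineOpen_top (Spec (CommRingCat.of A))⟩
  apply Scheme.IdealSheafData.ext_of_isAffine
  rw [hk]
  simp only [Scheme.IdealSheafData.ideal_bot, Pi.bot_apply]
  exact (RingHom.injective_iff_ker_eq_bot _).mp hinj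

end Groth.Agent.Lib.T2H3.DensityExt
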