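import Mathlib
import Groth.Agent.Lib.T2H3DensityExt
import Groth.Agent.Lib.Helper27GaGm

/-!
# Scheme-theoretic closure of a generic object over a Dedekind base

* `toImage_dominant`: for quasi-compact `f`, `f.toImage` is scheme-theoretically dominant.
* `exists_factor_of_dominant`: a morphism `u : Z ⟶ Q` factors through a closed immersion `ι : E ⟶ Q`
  as soon as `δ ≫ u` does for a scheme-theoretically dominant `δ : D ⟶ Z`.
* `flat_of_dominant_generic`: over a Dedekind domain `R`, a scheme `Z` over `Spec R` receiving a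
  quasi-compact scheme-theoretically dominant morphism from a scheme over the fraction field is flat.
-/

set_option autoImplicit false
universe u
open CategoryTheory CategoryTheory.Limits AlgebraicGeometry

namespace Groth.Agent.Lib.T2H3.SchClosure

open Groth.Agent.Lib.Helper27.GaGm Groth.Agent.Lib.T2H3.DensityExt

/-- the canonical morphism to the scheme-theoretic image of a quasi-compact morphism is
scheme-theoretically dominant. -/
instance toImage_dominant {X Y : Scheme.{u}} (f : X ⟶ Y) [QuasiCompact f] :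
    IsSchemeTheoreticallyDominant f.toImage := by
  rw [isSchemeTheoreticallyDominant_iff]
  have hcov : (⨆ U : Y.affineOpens, f.imageι ⁻¹ᵁ U.1) = ⊤ := by
    rw [eq_top_iff]
    rintro x -
    obtain ⟨_, ⟨U, hU, rfl⟩, hxU, -⟩ :=
      Y.isBasis_affineOpens.exists_subset_of_mem_open (Set.mem_univ (f.imageι x)) isOpen_univ
    exact TopologicalSpace.Opens.mem_iSup.mpr ⟨⟨U, hU⟩, hxU⟩
  refine Scheme.IdealSheafData.ext_of_iSup_eq_top
    (fun U : Y.affineOpens => ⟨f.imageι ⁻¹ᵁ U.1, U.2.preimage f.imageι⟩) hcov ?_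
  intro U
  simp only [Scheme.Hom.ker_apply, Scheme.IdealSheafData.ideal_bot, Pi.bot_apply]
  exact (RingHom.injective_iff_ker_eq_bot _).mp (f.toImage_app_injective U)

/-- factor through a closed immersion by density. -/
theorem exists_factor_of_dominant {D Z E Q : Scheme.{u}} (ι : E ⟶ Q) [IsClosedImmersion ι]
    (u : Z ⟶ Q) (δ : D ⟶ Z) [IsSchemeTheoreticallyDominant δ] (w : D ⟶ E)
    (hw : w ≫ ι = δ ≫ u) : ∃ v : Z ⟶ E, v ≫ ι = u ∧ δ ≫ v = w := by
  have hiso : IsIso (pullback.fst u ι) :=
    isIso_of_factors (pullback.fst u ι) δ (pullback.lift δ w hw.symm) (pullback.lift_fst _ _ _)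
  refine ⟨inv (pullback.fst u ι) ≫ pullback.snd u ι, ?_, ?_⟩
  · rw [Category.assoc, ← pullback.condition, IsIso.inv_hom_id_assoc]
  · rw [← cancel_mono ι, Category.assoc, Category.assoc, ← pullback.condition,
      IsIso.inv_hom_id_assoc, hw]

section Flat

variable {R : Type u} [CommRing R] [IsDedekindDomain R] {K : Type u} [Field K] [Algebra R K]
  [IsFractionRing R K]

/-- flatness over a Dedekind domain of a scheme in which a `K`-scheme is schematically dense. -/
theorem flat_of_dominant_generic {D Z : Scheme.{u}} (z : Z ⟶ Spec (CommRingCat.of R))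
    (d : D ⟶ Z) [QuasiCompact d] [IsSchemeTheoreticallyDominant d]
    (dK : D ⟶ Spec (CommRingCat.of K))
    (hd : d ≫ z = dK ≫ Spec.map (CommRingCat.ofHom (algebraMap R K))) : Flat z := by
  refine HasRingHomProperty.of_source_openCover (P := @Flat) Z.affineCover fun i => ?_
  set y := Z.affineCover.f i ≫ z with hy
  -- reduce to the ring map `R → Γ(U_i)`
  have h1 : y.appTop.hom = (fnHom y).comp (Scheme.ΓSpecIso (CommRingCat.of R)).hom.hom := by
    ext r
    simp only [fnHom, CommRingCat.hom_comp, RingHom.coe_comp, Function.comp_apply]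
    congr 1
    exact ((Scheme.ΓSpecIso (CommRingCat.of R)).hom_inv_id_apply r).symm
  rw [h1]
  refine RingHom.Flat.comp (RingHom.Flat.of_bijective
    (ConcreteCategory.bijective_of_isIso (Scheme.ΓSpecIso (CommRingCat.of R)).hom)) ?_
  letI : Algebra R Γ(Z.affineCover.X i, ⊤) := (fnHom y).toAlgebra
  change Module.Flat R Γ(Z.affineCover.X i, ⊤)
  rw [IsDedekindDomain.flat_iff_torsion_eq_bot, Submodule.eq_bot_iff]
  intro x hx
  rw [Submodule.mem_torsion_iff] at hx
  obtain ⟨a, ha⟩ := hx
  -- pass to the dense `K`-scheme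
  let ρ := pullback.snd d (Z.affineCover.f i)
  have hρ : Function.Injective ρ.appTop := ρ.app_injective ⊤
  apply hρ
  rw [map_zero]
  have h2 : ρ.appTop (fnHom y (a : R)) * ρ.appTop x = 0 := by
    rw [← map_mul]
    have : fnHom y (a : R) * x = 0 := ha
    rw [this, map_zero]
  have h3 : ρ.appTop (fnHom y (a : R)) =
      fnHom (pullback.fst d (Z.affineCover.f i) ≫ dK) (algebraMap R K (a : R)) := by
    rw [← fn_eq, ← fn_comp, hy, ← fn_eq, ← fn_specMap]
    congr 1
    rw [← Category.assoc, ← pullback.condition, Category.assoc, hd, Category.assoc]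
  have h4 : IsUnit (ρ.appTop (fnHom y (a : R))) := by
    rw [h3]
    apply IsUnit.map
    exact (IsFractionRing.to_map_ne_zero_of_mem_nonZeroDivisors a.2).isUnit
  exact (h4.mul_right_eq_zero).mp h2

end Flat

section Product

open MonoidalCategory CartesianMonoidalCategory

/-- in a cartesian monoidal category, `G ◁ d` is the base change of `d` along the projection. -/
lemma isPullback_whiskerLeft {C : Type*} [Category C] [CartesianMonoidalCategory C] (G : C)
    {D Z : C} (d : D ⟶ Z) : IsPullback (snd G D) (G ◁ d) d (snd G Z) := by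
  refine ⟨⟨by simp⟩, ⟨PullbackCone.IsLimit.mk _ (fun s => lift (s.snd ≫ fst G Z) s.fst) ?_ ?_ ?_⟩⟩
  · intro s
    simp
  · intro s
    apply CartesianMonoidalCategory.hom_ext
    · simp
    · simp [s.condition]
  · intro s m h1 h2
    apply CartesianMonoidalCategory.hom_ext
    · simp [← h2]
    · simp [← h1]

lemma isPullback_whiskerRight {C : Type*} [Category C] [CartesianMonoidalCategory C] (G : C)
    {D Z : C} (d : D ⟶ Z) : IsPullback (fst D G) (d ▷ G) d (fst Z G) := by
  refine ⟨⟨by simp⟩, ⟨PullbackCone.IsLimit.mk _ (fun s => lift s.fst (s.snd ≫ snd Z G)) ?_ ?_ ?_⟩⟩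
  · intro s
    simp
  · intro s
    apply CartesianMonoidalCategory.hom_ext
    · simp [s.condition]
    · simp
  · intro s m h1 h2
    apply CartesianMonoidalCategory.hom_ext
    · simp [← h1]
    · simp [← h2]

variable {S : Scheme.{u}}

instance flat_snd_left (G Z : Over S) [Flat G.hom] : Flat (snd G Z).left := by
  rw [Over.snd_left]; infer_instance

instance flat_fst_left (Z G : Over S) [Flat G.hom] : Flat (fst Z G).left := by
  rw [Over.fst_left]; infer_instance

lemma isPullback_whiskerLeft_left (G : Over S) {D Z : Over S} (d : D ⟶ Z) :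
    IsPullback (snd G D).left (G ◁ d).left d.left (snd G Z).left :=
  (isPullback_whiskerLeft G d).map (Over.forget S)

lemma isPullback_whiskerRight_left (G : Over S) {D Z : Over S} (d : D ⟶ Z) :
    IsPullback (fst D G).left (d ▷ G).left d.left (fst Z G).left :=
  (isPullback_whiskerRight G d).map (Over.forget S)

theorem dominant_whiskerLeft (G : Over S) [Flat G.hom] {D Z : Over S} (d : D ⟶ Z)
    [QuasiCompact d.left] [IsSchemeTheoreticallyDominant d.left] :
    IsSchemeTheoreticallyDominant (G ◁ d).left :=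
  IsSchemeTheoreticallyDominant.of_isPullback (isPullback_whiskerLeft_left G d)

theorem dominant_whiskerRight (G : Over S) [Flat G.hom] {D Z : Over S} (d : D ⟶ Z)
    [QuasiCompact d.left] [IsSchemeTheoreticallyDominant d.left] :
    IsSchemeTheoreticallyDominant (d ▷ G).left :=
  IsSchemeTheoreticallyDominant.of_isPullback (isPullback_whiskerRight_left G d)

theorem quasiCompact_whiskerLeft (G : Over S) {D Z : Over S} (d : D ⟶ Z)
    [QuasiCompact d.left] : QuasiCompact (G ◁ d).left :=
  MorphismProperty.of_isPullback (P := @QuasiCompact) (isPullback_whiskerLeft_left G d) ‹_›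

theorem quasiCompact_whiskerRight (G : Over S) {D Z : Over S} (d : D ⟶ Z)
    [QuasiCompact d.left] : QuasiCompact (d ▷ G).left :=
  MorphismProperty.of_isPullback (P := @QuasiCompact) (isPullback_whiskerRight_left G d) ‹_›

/-- `d₁ ⊗ d₂` is scheme-theoretically dominant if the `dᵢ` are quasi-compact and scheme-theoretically
dominant, the source of `d₂` and the target of `d₁` being flat over `S`. -/
theorem dominant_tensorHom {D₁ Z₁ D₂ Z₂ : Over S} (d₁ : D₁ ⟶ Z₁) (d₂ : D₂ ⟶ Z₂)
    [QuasiCompact d₁.left] [IsSchemeTheoreticallyDominant d₁.left]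
    [QuasiCompact d₂.left] [IsSchemeTheoreticallyDominant d₂.left]
    [Flat D₂.hom] [Flat Z₁.hom] :
    IsSchemeTheoreticallyDominant (d₁ ⊗ₘ d₂).left := by
  have h : d₁ ⊗ₘ d₂ = (d₁ ▷ D₂) ≫ (Z₁ ◁ d₂) := tensorHom_def d₁ d₂
  rw [h, Over.comp_left]
  haveI := dominant_whiskerRight D₂ d₁
  haveI := dominant_whiskerLeft Z₁ d₂
  infer_instance

end Product

section GenericFibre

variable {S' S : Scheme.{u}} (f : S' ⟶ S) [Mono f] [Flat f] [QuasiCompact f]

/-- The generic fibre of the scheme-theoretic closure of a closed subscheme of the generic fibre is that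
closed subscheme: for `f : S' ⟶ S` a flat quasi-compact monomorphism, `y : Y ⟶ S` and a closed
immersion `i : W ⟶ Y ×_S S'`, the scheme-theoretic image `Z` of `W ⟶ Y ×_S S' ⟶ Y` satisfies
`Z ×_S S' = W`. -/
theorem isPullback_toImage {Y W : Scheme.{u}} (y : Y ⟶ S) (w' : W ⟶ S') (i : W ⟶ pullback y f)
    [IsClosedImmersion i] (hi : i ≫ pullback.snd y f = w') :
    IsPullback (i ≫ pullback.fst y f).toImage w' ((i ≫ pullback.fst y f).imageι ≫ y) f := by
  set γ := i ≫ pullback.fst y f with hγ
  have hw : γ.toImage ≫ γ.imageι ≫ y = w' ≫ f := by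
    rw [← Category.assoc, γ.toImage_imageι, hγ, Category.assoc, pullback.condition,
      ← Category.assoc, hi]
  let κ : W ⟶ pullback (γ.imageι ≫ y) f := pullback.lift γ.toImage w' hw
  -- `κ` is a closed immersion
  let ν : pullback (γ.imageι ≫ y) f ⟶ pullback y f :=
    pullback.map (γ.imageι ≫ y) f y f γ.imageι (𝟙 _) (𝟙 _) (by simp) (by simp)
  have hκ1 : κ ≫ pullback.fst (γ.imageι ≫ y) f = γ.toImage := pullback.lift_fst _ _ _
  have hκ2 : κ ≫ pullback.snd (γ.imageι ≫ y) f = w' := pullback.lift_snd _ _ _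
  have hν1 : ν ≫ pullback.fst y f = pullback.fst (γ.imageι ≫ y) f ≫ γ.imageι :=
    pullback.lift_fst _ _ _
  have hν2 : ν ≫ pullback.snd y f = pullback.snd (γ.imageι ≫ y) f :=
    (pullback.lift_snd _ _ _).trans (Category.comp_id _)
  have hκν : κ ≫ ν = i := by
    apply pullback.hom_ext
    · rw [Category.assoc, hν1, ← Category.assoc, hκ1, γ.toImage_imageι]
    · rw [Category.assoc, hν2, hκ2, hi]
  have hνmono : Mono ν := by
    constructor
    intro T a b hab
    apply pullback.hom_ext
    · rw [← cancel_mono γ.imageι, Category.assoc, Category.assoc, ← hν1, ← Category.assoc,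
        ← Category.assoc, hab]
    · rw [← hν2, ← Category.assoc, ← Category.assoc, hab]
  haveI : IsClosedImmersion (κ ≫ ν) := by rw [hκν]; infer_instance
  haveI : IsClosedImmersion κ := IsClosedImmersion.of_comp κ ν
  -- `κ` is scheme-theoretically dominant
  have sq : IsPullback (𝟙 W) κ γ.toImage (pullback.fst (γ.imageι ≫ y) f) := by
    refine ⟨⟨by rw [Category.id_comp, hκ1]⟩,
      ⟨PullbackCone.IsLimit.mk _ (fun s => s.fst) ?_ ?_ ?_⟩⟩
    · intro s
      simp
    · intro s
      apply pullback.hom_ext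
      · rw [Category.assoc, hκ1]
        exact s.condition
      · rw [← cancel_mono f]
        calc (s.fst ≫ κ) ≫ pullback.snd (γ.imageι ≫ y) f ≫ f
            = s.fst ≫ (κ ≫ pullback.snd (γ.imageι ≫ y) f) ≫ f := by simp only [Category.assoc]
          _ = s.fst ≫ γ.toImage ≫ γ.imageι ≫ y := by rw [hκ2, hw]
          _ = (s.fst ≫ γ.toImage) ≫ γ.imageι ≫ y := by simp only [Category.assoc]
          _ = (s.snd ≫ pullback.fst (γ.imageι ≫ y) f) ≫ γ.imageι ≫ y := by rw [s.condition]
          _ = s.snd ≫ pullback.fst (γ.imageι ≫ y) f ≫ γ.imageι ≫ y := by simp only [Category.assoc]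
          _ = s.snd ≫ pullback.snd (γ.imageι ≫ y) f ≫ f := by rw [pullback.condition]
          _ = (s.snd ≫ pullback.snd (γ.imageι ≫ y) f) ≫ f := by simp only [Category.assoc]
    · intro s m h1 h2
      simpa using h1
  haveI : IsSchemeTheoreticallyDominant κ := IsSchemeTheoreticallyDominant.of_isPullback sq
  haveI : IsIso κ := isIso_of_factors κ κ (𝟙 _) (Category.id_comp _)
  exact IsPullback.of_iso_pullback ⟨hw⟩ (asIso κ) (pullback.lift_fst _ _ _) (pullback.lift_snd _ _ _)

end GenericFibre

section Adj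

open MonoidalCategory CartesianMonoidalCategory MonObj

variable {S' S : Scheme.{u}} (f : S' ⟶ S)

/-- the comparison `(A ×_{S'} B) ⟶ A ×_S B` of `S`-schemes. -/
noncomputable def cmp (A B : Over S') :
    (Over.map f).obj (A ⊗ B) ⟶ (Over.map f).obj A ⊗ (Over.map f).obj B :=
  lift ((Over.map f).map (fst A B)) ((Over.map f).map (snd A B))

@[reassoc (attr := simp)]
lemma cmp_fst (A B : Over S') : cmp f A B ≫ fst _ _ = (Over.map f).map (fst A B) := lift_fst _ _

@[reassoc (attr := simp)]
lemma cmp_snd (A B : Over S') : cmp f A B ≫ snd _ _ = (Over.map f).map (snd A B) := lift_snd _ _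

instance isIso_cmp [Mono f] (A B : Over S') : IsIso (cmp f A B) := by
  have h1 : (cmp f A B).left ≫ pullback.fst ((Over.map f).obj A).hom ((Over.map f).obj B).hom =
      pullback.fst A.hom B.hom :=
    congrArg CommaMorphism.left (cmp_fst f A B)
  have h2 : (cmp f A B).left ≫ pullback.snd ((Over.map f).obj A).hom ((Over.map f).obj B).hom =
      pullback.snd A.hom B.hom :=
    congrArg CommaMorphism.left (cmp_snd f A B)
  have hc : pullback.fst ((Over.map f).obj A).hom ((Over.map f).obj B).hom ≫ A.hom =
      pullback.snd ((Over.map f).obj A).hom ((Over.map f).obj B).hom ≫ B.hom := by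
    rw [← cancel_mono f, Category.assoc, Category.assoc]
    exact pullback.condition
  haveI : IsIso (cmp f A B).left := by
    refine ⟨pullback.lift (pullback.fst _ _) (pullback.snd _ _) hc, ?_, ?_⟩
    · apply pullback.hom_ext
      · rw [Category.assoc, pullback.lift_fst, h1, Category.id_comp]
      · rw [Category.assoc, pullback.lift_snd, h2, Category.id_comp]
    · apply pullback.hom_ext
      · rw [Category.assoc, h1, pullback.lift_fst, Category.id_comp]
      · rw [Category.assoc, h2, pullback.lift_snd, Category.id_comp]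
  haveI : IsIso ((Over.forget S).map (cmp f A B)) := ‹IsIso (cmp f A B).left›
  exact isIso_of_reflects_iso (cmp f A B) (Over.forget S)

variable (G : Over S) [GrpObj G]

lemma adjEquiv_comp_left {X T : Over S'} (t : T ⟶ X) (x : X ⟶ Red.bc f G) :
    adjEquiv f G T (t ≫ x) = (Over.map f).map t ≫ adjEquiv f G X x :=
  Adjunction.homEquiv_naturality_left_symm _ _ _

lemma adjEquiv_eq (X : Over S') (x : X ⟶ Red.bc f G) :
    adjEquiv f G X x = (Over.map f).map x ≫ (Over.mapPullbackAdj f).counit.app G := by
  unfold adjEquiv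
  rw [Adjunction.homEquiv_counit]

/-- the adjunction bijection as a group isomorphism. -/
noncomputable def adjMulEquiv (X : Over S') : (X ⟶ Red.bc f G) ≃* ((Over.map f).obj X ⟶ G) :=
  { adjEquiv f G X with map_mul' := adjEquiv_mul f G X }

lemma adjMulEquiv_apply (X : Over S') (x : X ⟶ Red.bc f G) :
    adjMulEquiv f G X x = adjEquiv f G X x := rfl

lemma adjEquiv_one (X : Over S') : adjEquiv f G X 1 = 1 := map_one (adjMulEquiv f G X)

lemma adjEquiv_inv (X : Over S') (x : X ⟶ Red.bc f G) :
    adjEquiv f G X x⁻¹ = (adjEquiv f G X x)⁻¹ := map_inv (adjMulEquiv f G X) x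

end Adj

end Groth.Agent.Lib.T2H3.SchClosure
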