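import Mathlib

/-!
# A subobject of a group object closed under the group operations is a group object

`grpObjOfMono j e m v he hm hv`: for a monomorphism `j : H ⟶ G` into a group object of a cartesian
monoidal category and morphisms `e`, `m`, `v` lying over the unit, the multiplication and the inverse
of `G`, the induced group object structure on `H`; `isMonHom_of_mono`: `j` is then a homomorphism.
-/

set_option autoImplicit false
universe v u
open CategoryTheory MonoidalCategory CartesianMonoidalCategory MonObj GrpObj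

namespace Groth.Agent.Lib.T2H3.SubGrpObj

variable {C : Type u} [Category.{v} C] [CartesianMonoidalCategory C] {G H : C} [GrpObj G]
  (j : H ⟶ G) [Mono j] (e : 𝟙_ C ⟶ H) (m : H ⊗ H ⟶ H) (w : H ⟶ H)
  (he : e ≫ j = η[G]) (hm : m ≫ j = (j ⊗ₘ j) ≫ μ[G]) (hw : w ≫ j = j ≫ ι[G])

include hm in
omit [Mono j] in
lemma lift_m {X : C} (x y : X ⟶ H) : lift x y ≫ m ≫ j = (x ≫ j) * (y ≫ j) := by
  rw [hm, Hom.mul_def, ← Category.assoc]
  congr 1
  apply CartesianMonoidalCategory.hom_ext <;> simp

include he in
omit [Mono j] in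
lemma comp_e {X : C} (x : X ⟶ 𝟙_ C) : x ≫ e ≫ j = 1 := by
  rw [he, Hom.one_def]
  congr 1
  exact toUnit_unique _ _

include hw in
omit [Mono j] in
lemma comp_w {X : C} (x : X ⟶ H) : x ≫ w ≫ j = (x ≫ j)⁻¹ := by
  rw [hw, ← Category.assoc, Hom.inv_def]

/-- the induced group object structure on a subobject closed under the operations. -/
@[reducible] def grpObjOfMono : GrpObj H where
  one := e
  mul := m
  inv := w
  one_mul := by
    rw [← cancel_mono j]
    have h1 : e ▷ H = lift (fst _ _ ≫ e) (snd _ _) := by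
      apply CartesianMonoidalCategory.hom_ext <;> simp
    rw [h1, Category.assoc, lift_m j m hm, Category.assoc, comp_e j e he, _root_.one_mul,
      leftUnitor_hom]
  mul_one := by
    rw [← cancel_mono j]
    have h1 : H ◁ e = lift (fst _ _) (snd _ _ ≫ e) := by
      apply CartesianMonoidalCategory.hom_ext <;> simp
    rw [h1, Category.assoc, lift_m j m hm, Category.assoc, comp_e j e he, _root_.mul_one,
      rightUnitor_hom]
  mul_assoc := by
    rw [← cancel_mono j]
    have h1 : m ▷ H = lift (lift (fst _ _ ≫ fst _ _) (fst _ _ ≫ snd _ _) ≫ m) (snd _ _) := by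
      apply CartesianMonoidalCategory.hom_ext
      · simp only [whiskerRight_fst, lift_fst]
        congr 1
        apply CartesianMonoidalCategory.hom_ext <;> simp
      · simp
    have h2 : (α_ H H H).hom ≫ H ◁ m = lift (fst _ _ ≫ fst _ _)
        (lift (fst _ _ ≫ snd _ _) (snd _ _) ≫ m) := by
      apply CartesianMonoidalCategory.hom_ext
      · simp
      · simp only [Category.assoc, whiskerLeft_snd, lift_snd]
        rw [← Category.assoc]
        congr 1
        apply CartesianMonoidalCategory.hom_ext <;> simp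
    have e1 : (m ▷ H ≫ m) ≫ j = ((fst (H ⊗ H) H ≫ fst H H) ≫ j) * ((fst (H ⊗ H) H ≫ snd H H) ≫ j) *
        (snd (H ⊗ H) H ≫ j) := by
      rw [h1, Category.assoc, lift_m j m hm, Category.assoc, lift_m j m hm]
    have e2 : ((α_ H H H).hom ≫ H ◁ m ≫ m) ≫ j = ((fst (H ⊗ H) H ≫ fst H H) ≫ j) *
        (((fst (H ⊗ H) H ≫ snd H H) ≫ j) * (snd (H ⊗ H) H ≫ j)) := by
      rw [← Category.assoc ((α_ H H H).hom), h2, Category.assoc, lift_m j m hm]
      congr 1
      rw [Category.assoc, lift_m j m hm]
    rw [e1, e2, _root_.mul_assoc]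
  left_inv := by
    rw [← cancel_mono j]
    have h1 : (lift w (𝟙 H) ≫ m) ≫ j = ((𝟙 H ≫ w) ≫ j) * (𝟙 H ≫ j) := by
      rw [Category.assoc, lift_m j m hm, Category.id_comp, Category.id_comp]
    rw [h1, Category.assoc, comp_w j w hw, inv_mul_cancel, Category.assoc, comp_e j e he]
  right_inv := by
    rw [← cancel_mono j]
    have h1 : (lift (𝟙 H) w ≫ m) ≫ j = (𝟙 H ≫ j) * ((𝟙 H ≫ w) ≫ j) := by
      rw [Category.assoc, lift_m j m hm, Category.id_comp, Category.id_comp]
    rw [h1, Category.assoc, comp_w j w hw, mul_inv_cancel, Category.assoc, comp_e j e he]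

include he hm in
lemma isMonHom_of_mono :
    letI := grpObjOfMono j e m w he hm hw
    IsMonHom j := by
  letI := grpObjOfMono j e m w he hm hw
  exact { one_hom := he, mul_hom := hm }

end Groth.Agent.Lib.T2H3.SubGrpObj
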