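import Mathlib
import Groth.Agent.Lib.T2H3SchClosure
import Groth.Agent.Lib.T2H3SubGrpObj

/-!
# The schematic closure of a closed subgroup of the generic fibre is a closed subgroup

`f : S' ⟶ S` is a flat quasi-compact scheme-theoretically dominant monomorphism (e.g. the generic point of
an integral affine scheme), `G` an `S`-group, `i : HK ⟶ G ×_S S'` a closed subgroup with `HK` flat over
`S'`, and the scheme-theoretic image `H` of `HK ⟶ G` is assumed flat over `S`.  Then `H` is a closed
subgroup scheme of `G` with `H ×_S S' = HK`.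
-/

set_option autoImplicit false
set_option linter.style.haveILetI false
set_option linter.unusedSectionVars false
universe u
open CategoryTheory CategoryTheory.Limits AlgebraicGeometry MonoidalCategory CartesianMonoidalCategory
  MonObj GrpObj

namespace Groth.Agent.Lib.T2H3.ClosureGrp

open Groth.Agent.Lib.Helper27.GaGm Groth.Agent.Lib.T2H3.DensityExt Groth.Agent.Lib.T2H3.SchClosure
  Groth.Agent.Lib.T2H3.SubGrpObj

variable {S' S : Scheme.{u}} (f : S' ⟶ S) [Mono f] [Flat f] [QuasiCompact f]
  [IsSchemeTheoreticallyDominant f]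
  (G : Over S) [GrpObj G] (HK : Over S') [GrpObj HK] [Flat HK.hom]
  (i : HK ⟶ Red.bc f G) [IsMonHom i] [IsClosedImmersion i.left]

/-- the morphism `HK ⟶ G` of schemes. -/
noncomputable def gam : HK.left ⟶ G.left := i.left ≫ pullback.fst G.hom f

instance : QuasiCompact (gam f G HK i) := by unfold gam; infer_instance

/-- the closure, as an `S`-scheme. -/
noncomputable def clo : Over S := Over.mk ((gam f G HK i).imageι ≫ G.hom)

/-- the closed immersion `H ⟶ G`. -/
noncomputable def cloι : clo f G HK i ⟶ G := Over.homMk (gam f G HK i).imageι rfl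

instance : IsClosedImmersion (cloι f G HK i).left := by
  change IsClosedImmersion (gam f G HK i).imageι
  infer_instance

instance : Mono (cloι f G HK i) := by
  haveI : Mono ((Over.forget S).map (cloι f G HK i)) :=
    inferInstanceAs (Mono (cloι f G HK i).left)
  exact (Over.forget S).mono_of_mono_map ‹_›

lemma gam_w : (gam f G HK i).toImage ≫ (clo f G HK i).hom = ((Over.map f).obj HK).hom := by
  change (gam f G HK i).toImage ≫ (gam f G HK i).imageι ≫ G.hom = HK.hom ≫ f
  rw [← Category.assoc, (gam f G HK i).toImage_imageι, gam, Category.assoc, pullback.condition,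
    ← Category.assoc]
  congr 1
  exact Over.w i

/-- the dense morphism `HK ⟶ H` over `S`. -/
noncomputable def toClo : (Over.map f).obj HK ⟶ clo f G HK i :=
  Over.homMk (gam f G HK i).toImage (gam_w f G HK i)

instance : QuasiCompact (toClo f G HK i).left := by
  change QuasiCompact (gam f G HK i).toImage
  infer_instance

instance : IsSchemeTheoreticallyDominant (toClo f G HK i).left := by
  change IsSchemeTheoreticallyDominant (gam f G HK i).toImage
  infer_instance

lemma toClo_cloι : toClo f G HK i ≫ cloι f G HK i = adjEquiv f G HK i := by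
  apply Over.OverMorphism.ext
  rw [adjEquiv_left]
  exact (gam f G HK i).toImage_imageι

section General

omit [Mono f] [Flat f] [QuasiCompact f] [IsSchemeTheoreticallyDominant f] [GrpObj HK] [Flat HK.hom] in
lemma tensorHom_mul {X Y : Over S} (a : X ⟶ G) (b : Y ⟶ G) :
    (a ⊗ₘ b) ≫ μ[G] = (fst X Y ≫ a) * (snd X Y ≫ b) := by
  rw [Hom.mul_def]
  congr 1

end General

variable [hfl : Flat (clo f G HK i).hom]

instance : Flat ((Over.map f).obj HK).hom := by
  change Flat (HK.hom ≫ f)
  infer_instance

/-- the dense morphism `HK ×_{S'} HK ⟶ H ×_S H`. -/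
noncomputable def toClo₂ : (Over.map f).obj (HK ⊗ HK) ⟶ clo f G HK i ⊗ clo f G HK i :=
  cmp f HK HK ≫ (toClo f G HK i ⊗ₘ toClo f G HK i)

instance : IsSchemeTheoreticallyDominant (toClo₂ f G HK i).left := by
  unfold toClo₂
  rw [Over.comp_left]
  haveI : IsIso (cmp f HK HK).left :=
    inferInstanceAs (IsIso ((Over.forget S).map (cmp f HK HK)))
  haveI := dominant_tensorHom (toClo f G HK i) (toClo f G HK i)
  infer_instance

lemma mul_eq : (Over.map f).map μ[HK] ≫ toClo f G HK i ≫ cloι f G HK i =
    toClo₂ f G HK i ≫ (cloι f G HK i ⊗ₘ cloι f G HK i) ≫ μ[G] := by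
  rw [toClo_cloι, ← adjEquiv_comp_left, IsMonHom.mul_hom, tensorHom_mul, adjEquiv_mul,
    adjEquiv_comp_left, adjEquiv_comp_left]
  unfold toClo₂
  rw [Category.assoc, tensorHom_comp_tensorHom_assoc,
    toClo_cloι, tensorHom_mul, comp_mul, cmp_fst_assoc, cmp_snd_assoc]

lemma one_eq : (Over.map f).map η[HK] ≫ toClo f G HK i ≫ cloι f G HK i =
    toUnit _ ≫ η[G] := by
  rw [toClo_cloι, ← adjEquiv_comp_left, IsMonHom.one_hom]
  have h1 : (η[Red.bc f G] : 𝟙_ (Over S') ⟶ Red.bc f G) = 1 := by
    rw [Hom.one_def, toUnit_unique (toUnit (𝟙_ (Over S'))) (𝟙 _), Category.id_comp]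
  rw [h1, adjEquiv_one, Hom.one_def]

lemma inv_eq : (Over.map f).map ι[HK] ≫ toClo f G HK i ≫ cloι f G HK i =
    toClo f G HK i ≫ cloι f G HK i ≫ ι[G] := by
  rw [toClo_cloι, ← adjEquiv_comp_left, GrpObj.inv_hom, ← Hom.inv_def, adjEquiv_inv,
    ← Category.assoc, toClo_cloι, Hom.inv_def]

/-- the multiplication of the closure. -/
theorem exists_mul : ∃ m : clo f G HK i ⊗ clo f G HK i ⟶ clo f G HK i,
    m ≫ cloι f G HK i = (cloι f G HK i ⊗ₘ cloι f G HK i) ≫ μ[G] := by
  obtain ⟨v, hv, -⟩ := exists_factor_of_dominant (cloι f G HK i).left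
    ((cloι f G HK i ⊗ₘ cloι f G HK i) ≫ μ[G]).left (toClo₂ f G HK i).left
    ((Over.map f).map μ[HK] ≫ toClo f G HK i).left
    (by
      have := congrArg CommaMorphism.left (mul_eq f G HK i)
      simpa only [Over.comp_left, Category.assoc] using this)
  refine ⟨Over.homMk v ?_, ?_⟩
  · have h1 : (clo f G HK i).hom = (cloι f G HK i).left ≫ G.hom := (Over.w (cloι f G HK i)).symm
    rw [h1, ← Category.assoc, hv]
    exact Over.w _
  · apply Over.OverMorphism.ext
    exact hv

/-- the unit of the closure. -/
theorem exists_one : ∃ e : 𝟙_ (Over S) ⟶ clo f G HK i, e ≫ cloι f G HK i = η[G] := by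
  haveI : IsSchemeTheoreticallyDominant
      (toUnit ((Over.map f).obj (𝟙_ (Over S')))).left := by
    change IsSchemeTheoreticallyDominant (𝟙 S' ≫ f)
    infer_instance
  obtain ⟨v, hv, -⟩ := exists_factor_of_dominant (cloι f G HK i).left
    (η[G]).left (toUnit ((Over.map f).obj (𝟙_ (Over S')))).left
    ((Over.map f).map η[HK] ≫ toClo f G HK i).left
    (by
      have := congrArg CommaMorphism.left (one_eq f G HK i)
      simpa only [Over.comp_left, Category.assoc] using this)
  refine ⟨Over.homMk v ?_, ?_⟩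
  · have h1 : (clo f G HK i).hom = (cloι f G HK i).left ≫ G.hom := (Over.w (cloι f G HK i)).symm
    rw [h1, ← Category.assoc, hv]
    exact Over.w _
  · apply Over.OverMorphism.ext
    exact hv

/-- the inverse of the closure. -/
theorem exists_inv : ∃ w : clo f G HK i ⟶ clo f G HK i,
    w ≫ cloι f G HK i = cloι f G HK i ≫ ι[G] := by
  obtain ⟨v, hv, -⟩ := exists_factor_of_dominant (cloι f G HK i).left
    (cloι f G HK i ≫ ι[G]).left (toClo f G HK i).left
    ((Over.map f).map ι[HK] ≫ toClo f G HK i).left
    (by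
      have := congrArg CommaMorphism.left (inv_eq f G HK i)
      simpa only [Over.comp_left, Category.assoc] using this)
  refine ⟨Over.homMk v ?_, ?_⟩
  · have h1 : (clo f G HK i).hom = (cloι f G HK i).left ≫ G.hom := (Over.w (cloι f G HK i)).symm
    rw [h1, ← Category.assoc, hv]
    exact Over.w _
  · apply Over.OverMorphism.ext
    exact hv

/-- The schematic closure of a closed subgroup of the generic fibre is a closed subgroup (assuming it
is flat). -/
theorem exists_closure :
    ∃ (H : Over S) (_ : GrpObj H) (j : H ⟶ G) (φ : HK.left ⟶ H.left),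
      IsMonHom j ∧ IsClosedImmersion j.left ∧ Flat H.hom ∧
      IsPullback φ HK.hom H.hom f ∧
      φ ≫ j.left = i.left ≫ pullback.fst G.hom f ∧
      φ.ker = ⊥ := by
  obtain ⟨m, hm⟩ := exists_mul f G HK i
  obtain ⟨e, he⟩ := exists_one f G HK i
  obtain ⟨w, hw⟩ := exists_inv f G HK i
  refine ⟨clo f G HK i, grpObjOfMono (cloι f G HK i) e m w he hm hw, cloι f G HK i,
    (gam f G HK i).toImage, isMonHom_of_mono (cloι f G HK i) e m w he hm hw, inferInstance, hfl,
    ?_, (gam f G HK i).toImage_imageι, ?_⟩
  · exact isPullback_toImage f G.hom HK.hom i.left (Over.w i)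
  · exact (toImage_dominant (gam f G HK i)).ker_eq_bot

end Groth.Agent.Lib.T2H3.ClosureGrp

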