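import Mathlib

/-!
# Commutator words generating the derived and lower central series

`dW n` (resp. `cW n`) is the set of `n`-fold iterated commutators `⁅⁅..⁆,⁅..⁆⁆` (resp. `⁅..⁅⁅x₀,x₁⁆,x₂⁆..,xₙ⁆`)
of elements of a group; the `n`-th term of the derived (resp. lower central) series is generated by it.
-/

set_option autoImplicit false
open Subgroup
open scoped commutatorElement

namespace Groth.Agent.Lib.T2H3.CommWords

variable {Γ : Type*} [Group Γ]

/-- stable under conjugation -/
def ConjInv (S : Set Γ) : Prop := ∀ g : Γ, ∀ s ∈ S, g * s * g⁻¹ ∈ S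

/-- the set of commutators of elements of `S` and `T`. -/
def commSet (S T : Set Γ) : Set Γ := {z | ∃ a ∈ S, ∃ b ∈ T, ⁅a, b⁆ = z}

lemma conjInv_univ : ConjInv (Set.univ : Set Γ) := fun _ _ _ => trivial

lemma conjInv_commSet {S T : Set Γ} (hS : ConjInv S) (hT : ConjInv T) : ConjInv (commSet S T) := by
  rintro g _ ⟨a, ha, b, hb, rfl⟩
  refine ⟨g * a * g⁻¹, hS g a ha, g * b * g⁻¹, hT g b hb, ?_⟩
  simp only [commutatorElement_def]
  group

lemma normal_closure_of_conjInv {S : Set Γ} (hS : ConjInv S) : (closure S).Normal := by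
  constructor
  intro n hn g
  induction hn using closure_induction with
  | mem x hx => exact subset_closure (hS g x hx)
  | one => simp
  | mul x y _ _ hx hy =>
    have : g * (x * y) * g⁻¹ = (g * x * g⁻¹) * (g * y * g⁻¹) := by group
    rw [this]
    exact mul_mem hx hy
  | inv x _ hx =>
    have : g * x⁻¹ * g⁻¹ = (g * x * g⁻¹)⁻¹ := by group
    rw [this]
    exact inv_mem hx

theorem commutator_closure_le {S T : Set Γ} (hS : ConjInv S) (hT : ConjInv T) :
    ⁅closure S, closure T⁆ ≤ closure (commSet S T) := by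
  haveI hN : (closure (commSet S T)).Normal := normal_closure_of_conjInv (conjInv_commSet hS hT)
  set N := closure (commSet S T) with hNdef
  rw [commutator_le]
  -- first, for generators on the left
  have h1 : ∀ s ∈ S, ∀ g₂ ∈ closure T, ⁅s, g₂⁆ ∈ N := by
    intro s hs g₂ hg₂
    induction hg₂ using closure_induction with
    | mem t ht => exact subset_closure ⟨s, hs, t, ht, rfl⟩
    | one => simp
    | mul x y _ _ hx hy =>
      have : ⁅s, x * y⁆ = ⁅s, x⁆ * (x * ⁅s, y⁆ * x⁻¹) := by
        simp only [commutatorElement_def]; group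
      rw [this]
      exact mul_mem hx (hN.conj_mem _ hy x)
    | inv x _ hx =>
      have : ⁅s, x⁻¹⁆ = x⁻¹ * ⁅s, x⁆⁻¹ * x⁻¹⁻¹ := by
        simp only [commutatorElement_def]; group
      rw [this]
      exact hN.conj_mem _ (inv_mem hx) x⁻¹
  intro g₁ hg₁ g₂ hg₂
  induction hg₁ using closure_induction with
  | mem s hs => exact h1 s hs g₂ hg₂
  | one => simp
  | mul x y _ _ hx hy =>
    have : ⁅x * y, g₂⁆ = (x * ⁅y, g₂⁆ * x⁻¹) * ⁅x, g₂⁆ := by
      simp only [commutatorElement_def]; group
    rw [this]
    exact mul_mem (hN.conj_mem _ hy x) hx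
  | inv x _ hx =>
    have : ⁅x⁻¹, g₂⁆ = x⁻¹ * ⁅x, g₂⁆⁻¹ * x⁻¹⁻¹ := by
      simp only [commutatorElement_def]; group
    rw [this]
    exact hN.conj_mem _ (inv_mem hx) x⁻¹

variable (Γ) in
/-- iterated commutators for the derived series -/
def dW : ℕ → Set Γ
  | 0 => Set.univ
  | n + 1 => commSet (dW n) (dW n)

variable (Γ) in
/-- iterated commutators for the lower central series -/
def cW : ℕ → Set Γ
  | 0 => Set.univ
  | n + 1 => commSet (cW n) Set.univ

lemma conjInv_dW (n : ℕ) : ConjInv (dW Γ n) := by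
  induction n with
  | zero => exact conjInv_univ
  | succ n ih => exact conjInv_commSet ih ih

lemma conjInv_cW (n : ℕ) : ConjInv (cW Γ n) := by
  induction n with
  | zero => exact conjInv_univ
  | succ n ih => exact conjInv_commSet ih conjInv_univ

theorem derivedSeries_le_closure_dW (n : ℕ) : derivedSeries Γ n ≤ closure (dW Γ n) := by
  induction n with
  | zero => simp [dW]
  | succ n ih =>
    rw [derivedSeries_succ]
    exact (commutator_mono ih ih).trans (commutator_closure_le (conjInv_dW n) (conjInv_dW n))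

theorem lowerCentralSeries_le_closure_cW (n : ℕ) :
    (⊤ : Subgroup Γ).lowerCentralSeries n ≤ closure (cW Γ n) := by
  induction n with
  | zero => simp [cW]
  | succ n ih =>
    rw [Subgroup.lowerCentralSeries_succ]
    have h2 : (⊤ : Subgroup Γ) ≤ closure (Set.univ : Set Γ) := by simp
    exact (commutator_mono ih h2).trans (commutator_closure_le (conjInv_cW n) conjInv_univ)

theorem dW_subset_derivedSeries (n : ℕ) : dW Γ n ⊆ derivedSeries Γ n := by
  induction n with
  | zero => intro x _; simp
  | succ n ih =>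
    rintro _ ⟨a, ha, b, hb, rfl⟩
    exact commutator_mem_commutator (ih ha) (ih hb)

theorem cW_subset_lowerCentralSeries (n : ℕ) :
    cW Γ n ⊆ (⊤ : Subgroup Γ).lowerCentralSeries n := by
  induction n with
  | zero => intro x _; simp
  | succ n ih =>
    rintro _ ⟨a, ha, b, -, rfl⟩
    exact commutator_mem_commutator (ih ha) (mem_top b)

theorem derivedSeries_eq_bot_iff (n : ℕ) : derivedSeries Γ n = ⊥ ↔ ∀ z ∈ dW Γ n, z = 1 := by
  constructor
  · intro h z hz
    have := dW_subset_derivedSeries n hz
    rw [h] at this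
    exact this
  · intro h
    rw [eq_bot_iff]
    refine (derivedSeries_le_closure_dW n).trans ?_
    rw [closure_le]
    intro z hz
    exact (h z hz).symm ▸ one_mem _

theorem lowerCentralSeries_eq_bot_iff (n : ℕ) :
    (⊤ : Subgroup Γ).lowerCentralSeries n = ⊥ ↔ ∀ z ∈ cW Γ n, z = 1 := by
  constructor
  · intro h z hz
    have := cW_subset_lowerCentralSeries n hz
    rw [h] at this
    exact this
  · intro h
    rw [eq_bot_iff]
    refine (lowerCentralSeries_le_closure_cW n).trans ?_
    rw [closure_le]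
    intro z hz
    exact (h z hz).symm ▸ one_mem _

variable {Γ' : Type*} [Group Γ']

lemma map_mem_dW (φ : Γ →* Γ') (n : ℕ) {z : Γ} (hz : z ∈ dW Γ n) : φ z ∈ dW Γ' n := by
  induction n generalizing z with
  | zero => trivial
  | succ n ih =>
    obtain ⟨a, ha, b, hb, rfl⟩ := hz
    exact ⟨φ a, ih ha, φ b, ih hb, (map_commutatorElement φ a b).symm⟩

lemma map_mem_cW (φ : Γ →* Γ') (n : ℕ) {z : Γ} (hz : z ∈ cW Γ n) : φ z ∈ cW Γ' n := by
  induction n generalizing z with
  | zero => trivial
  | succ n ih =>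
    obtain ⟨a, ha, b, -, rfl⟩ := hz
    exact ⟨φ a, ih ha, φ b, trivial, (map_commutatorElement φ a b).symm⟩

end Groth.Agent.Lib.T2H3.CommWords
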