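import Mathlib

/-!
# A common extension field for a family of field extensions

For a family `L i` (`i : I`) of field extensions of a field `k`, all in the same universe, there is a
field `Ω` over `k` into which all the `L i` embed over `k`: an algebraic closure of the rational
function field in the variables `Σ i, L i`.
-/

set_option autoImplicit false
set_option linter.style.haveILetI false
universe u

namespace Groth.Agent.Lib.T2H3.CommonField

open MvPolynomial

section one

variable {k : Type u} [Field k] {ι : Type u} {L Ω : Type u} [Field L] [Algebra k L] [Field Ω]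
  [Algebra k Ω] [IsAlgClosed Ω]

/-- a field extension `L/k` with transcendence basis indexed by `ι` embeds in any algebraically
closed extension containing an algebraically independent family indexed by `ι`. -/
theorem nonempty_algHom_of_algebraicIndependent {x : ι → L} (hx : IsTranscendenceBasis k x)
    {y : ι → Ω} (hy : AlgebraicIndependent k y) : Nonempty (L →ₐ[k] Ω) := by
  -- the embedding of the purely transcendental part
  let e : IntermediateField.adjoin k (Set.range x) →ₐ[k] Ω :=
    ((IntermediateField.adjoin k (Set.range y)).val.comp
      hy.aevalEquivField.toAlgHom).comp hx.1.aevalEquivField.symm.toAlgHom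
  letI : Algebra (IntermediateField.adjoin k (Set.range x)) Ω := e.toRingHom.toAlgebra
  haveI : IsScalarTower k (IntermediateField.adjoin k (Set.range x)) Ω :=
    IsScalarTower.of_algebraMap_eq fun a => (e.commutes a).symm
  haveI : Algebra.IsAlgebraic (IntermediateField.adjoin k (Set.range x)) L := hx.isAlgebraic_field
  exact ⟨(IsAlgClosed.lift : L →ₐ[IntermediateField.adjoin k (Set.range x)] Ω).restrictScalars k⟩

end one

/-- **Common extension field**: a family of field extensions of `k` embeds in one extension
field. -/
theorem exists_common_extension (k : Type u) [Field k] {I : Type u} (L : I → Type u)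
    [∀ i, Field (L i)] [∀ i, Algebra k (L i)] :
    ∃ (Ω : Type u) (_ : Field Ω) (_ : Algebra k Ω), ∀ i, Nonempty (L i →ₐ[k] Ω) := by
  let K := FractionRing (MvPolynomial (Σ i, L i) k)
  let Ω := AlgebraicClosure K
  refine ⟨Ω, inferInstance, inferInstance, fun i => ?_⟩
  -- the variables are algebraically independent in `Ω`
  have hX : AlgebraicIndependent k (fun j : Σ i, L i => algebraMap K Ω
      (algebraMap (MvPolynomial (Σ i, L i) k) K (X j))) := by
    have h1 : AlgebraicIndependent k (X : (Σ i, L i) → MvPolynomial (Σ i, L i) k) :=
      MvPolynomial.algebraicIndependent_X _ _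
    have h2 := h1.map' (f := IsScalarTower.toAlgHom k (MvPolynomial (Σ i, L i) k) K)
      (IsFractionRing.injective _ _)
    have h3 := h2.map' (f := IsScalarTower.toAlgHom k K Ω) (algebraMap K Ω).injective
    exact h3
  obtain ⟨s, hs⟩ := exists_isTranscendenceBasis k (L i)
  have hy : AlgebraicIndependent k (fun b : s => algebraMap K Ω
      (algebraMap (MvPolynomial (Σ i, L i) k) K (X ⟨i, b.1⟩))) :=
    hX.comp (fun b : s => (⟨i, b.1⟩ : Σ i, L i)) (fun b b' h => by
      have := eq_of_heq (Sigma.mk.inj h).2
      exact Subtype.ext this)
  exact nonempty_algHom_of_algebraicIndependent hs hy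

end Groth.Agent.Lib.T2H3.CommonField
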