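import Mathlib
import Groth.Prelude.Def_ProCons
import Groth.Agent.Lib.Helper3ResFieldLim
import Groth.Agent.Lib.Helper10Spectral

/-!
# Completely decomposed locus

For `g : A ⟶ B` the set `cdLocus g` of points `b` of `B` which are the image of a point with the
same residue field.

* `mem_cdLocus_of_section_resField`, `mem_cdLocus_of_section`: points over which `g` has a section.
* `exists_section_of_mem_cdLocus`: a section over `Spec κ(b)`.
* `mem_cdLocus_of_isPullback`: stability under base change.
* `exists_stage_section`: spreading out of a section (for `g` locally of finite presentation).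
* `isIndConstructible_cdLocus`: `cdLocus g` is ind-constructible.
-/

set_option autoImplicit false
set_option linter.style.haveILetI false
universe u
open CategoryTheory CategoryTheory.Limits AlgebraicGeometry Topology

namespace Groth.Agent.Lib.T2H3.ComplDecomp

/-- the completely decomposed locus of `g`. -/
def cdLocus {A B : Scheme.{u}} (g : A ⟶ B) : Set B :=
  {b | ∃ a : A, g a = b ∧ Function.Bijective (g.residueFieldMap a)}

theorem mem_cdLocus_iff {A B : Scheme.{u}} (g : A ⟶ B) (b : B) :
    b ∈ cdLocus g ↔ ∃ a : A, g a = b ∧ Function.Bijective (g.residueFieldMap a) := Iff.rfl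

variable {A B : Scheme.{u}} (g : A ⟶ B)

/-- a section over the spectrum of a field isomorphic to `κ(b)`. -/
theorem mem_cdLocus_of_section_field (K : Type u) [Field K] (b : B) (σ : Spec (.of K) ⟶ A)
    (φ : B.residueField b ⟶ .of K) (hφ : Function.Bijective φ)
    (hσ : σ ≫ g = Spec.map φ ≫ B.fromSpecResidueField b) : b ∈ cdLocus g := by
  let a : A := σ (IsLocalRing.closedPoint K)
  have hab : g a = b := by
    have := congrArg (fun q : Spec (.of K) ⟶ B => q (IsLocalRing.closedPoint K)) hσ
    simpa using this
  refine ⟨a, hab, ?_⟩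
  let ψ : A.residueField a ⟶ .of K :=
    Scheme.descResidueField (Scheme.stalkClosedPointTo σ)
  have h1 : Spec.map ψ ≫ A.fromSpecResidueField a = σ :=
    Scheme.descResidueField_stalkClosedPointTo_fromSpecResidueField K A σ
  have h2 : Spec.map (g.residueFieldMap a ≫ ψ) ≫ B.fromSpecResidueField (g a) =
      Spec.map ((B.residueFieldCongr hab).hom ≫ φ) ≫ B.fromSpecResidueField (g a) := by
    rw [Spec.map_comp, Category.assoc,
      Scheme.Hom.SpecMap_residueFieldMap_fromSpecResidueField, ← Category.assoc, h1, hσ,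
      Spec.map_comp, Category.assoc, Scheme.residueFieldCongr_fromSpecResidueField]
  have h3 : g.residueFieldMap a ≫ ψ = (B.residueFieldCongr hab).hom ≫ φ :=
    Spec.map_injective ((cancel_mono _).mp h2)
  have hψ : Function.Bijective ψ := by
    refine ⟨ψ.hom.injective, fun x => ?_⟩
    obtain ⟨z, rfl⟩ := hφ.2 x
    refine ⟨g.residueFieldMap a ((B.residueFieldCongr hab).inv z), ?_⟩
    have e1 : (g.residueFieldMap a ≫ ψ) ((B.residueFieldCongr hab).inv z) =
        ((B.residueFieldCongr hab).hom ≫ φ) ((B.residueFieldCongr hab).inv z) := by rw [h3]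
    rw [CommRingCat.comp_apply, CommRingCat.comp_apply] at e1
    rw [e1]
    exact congrArg φ (Iso.inv_hom_id_apply (B.residueFieldCongr hab) z)
  have h4 : Function.Bijective (g.residueFieldMap a ≫ ψ) := by
    rw [h3]
    have h5 : (⇑((B.residueFieldCongr hab).hom ≫ φ) : _ → _) =
        φ ∘ (B.residueFieldCongr hab).hom := by
      ext x; simp
    rw [h5]
    exact hφ.comp ((ConcreteCategory.isIso_iff_bijective _).mp inferInstance)
  have h5 : (⇑(g.residueFieldMap a ≫ ψ) : _ → _) = ψ ∘ g.residueFieldMap a := by
    ext x; simp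
  rw [h5] at h4
  exact (Function.Bijective.of_comp_iff' hψ _).mp h4

/-- a section over `Spec κ(b)` puts `b` in the completely decomposed locus. -/
theorem mem_cdLocus_of_section_resField (b : B) (σ : Spec (B.residueField b) ⟶ A)
    (hσ : σ ≫ g = B.fromSpecResidueField b) : b ∈ cdLocus g := by
  refine mem_cdLocus_of_section_field g (B.residueField b) b σ (𝟙 _) Function.bijective_id ?_
  rw [hσ, Spec.map_id]
  exact (Category.id_comp _).symm

/-- a section over `τ : T ⟶ B` puts `τ t` in the completely decomposed locus when `τ` induces an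
isomorphism of residue fields at `t`. -/
theorem mem_cdLocus_of_section {T : Scheme.{u}} (τ : T ⟶ B) (σ : T ⟶ A) (hσ : σ ≫ g = τ) (t : T)
    (ht : Function.Bijective (τ.residueFieldMap t)) : τ t ∈ cdLocus g := by
  refine mem_cdLocus_of_section_field g (T.residueField t) (τ t)
    (T.fromSpecResidueField t ≫ σ) (τ.residueFieldMap t) ht ?_
  rw [Category.assoc, hσ, Scheme.Hom.SpecMap_residueFieldMap_fromSpecResidueField]

/-- over a point of the completely decomposed locus there is a section on `Spec κ(b)`. -/
theorem exists_section_of_mem_cdLocus {b : B} (hb : b ∈ cdLocus g) :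
    ∃ σ : Spec (B.residueField b) ⟶ A, σ ≫ g = B.fromSpecResidueField b := by
  obtain ⟨a, rfl, ha⟩ := hb
  haveI : IsIso (g.residueFieldMap a) := (ConcreteCategory.isIso_iff_bijective _).mpr ha
  refine ⟨Spec.map (inv (g.residueFieldMap a)) ≫ A.fromSpecResidueField a, ?_⟩
  rw [Category.assoc, ← Scheme.Hom.SpecMap_residueFieldMap_fromSpecResidueField,
    ← Category.assoc, ← Spec.map_comp, IsIso.hom_inv_id, Spec.map_id, Category.id_comp]

/-- the completely decomposed locus is stable under base change. -/
theorem mem_cdLocus_of_isPullback {A' B' : Scheme.{u}} {p' : A' ⟶ A} {g' : A' ⟶ B'} {p : B' ⟶ B}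
    (sq : IsPullback p' g' g p) {b' : B'} (hb : p b' ∈ cdLocus g) : b' ∈ cdLocus g' := by
  obtain ⟨σ, hσ⟩ := exists_section_of_mem_cdLocus g hb
  have hw : (Spec.map (p.residueFieldMap b') ≫ σ) ≫ g = B'.fromSpecResidueField b' ≫ p := by
    rw [Category.assoc, hσ, Scheme.Hom.SpecMap_residueFieldMap_fromSpecResidueField]
  refine mem_cdLocus_of_section_resField g' b' (sq.lift _ _ hw) ?_
  exact sq.lift_snd _ _ hw

/-- preimmersions induce isomorphisms of residue fields. -/
theorem bijective_residueFieldMap_of_isPreimmersion {T : Scheme.{u}} (τ : T ⟶ B) [IsPreimmersion τ]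
    (t : T) : Function.Bijective (τ.residueFieldMap t) := by
  refine ⟨(τ.residueFieldMap t).hom.injective, ?_⟩
  have h1 : Function.Surjective (B.residue (τ t) ≫ τ.residueFieldMap t) := by
    rw [Scheme.residue_residueFieldMap]
    have h2 : (⇑(τ.stalkMap t ≫ T.residue t) : _ → _) = T.residue t ∘ τ.stalkMap t := by
      ext x; simp
    rw [h2]
    exact (T.residue_surjective t).comp (τ.stalkMap_surjective t)
  have h3 : (⇑(B.residue (τ t) ≫ τ.residueFieldMap t) : _ → _) =
      τ.residueFieldMap t ∘ B.residue (τ t) := by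
    ext x; simp
  rw [h3] at h1
  exact Function.Surjective.of_comp h1

section Spread

open Groth.Agent.Lib.Helper3.ResFieldColim Groth.Agent.Lib.Helper3.ResFieldLim

theorem isPreimmersion_toS {S : Scheme.{u}} {U : S.Opens} (hU : IsAffineOpen U) (s : S)
    (hs : s ∈ U) (j : Idx (ev s hs)) : IsPreimmersion (toS hU s hs j) := by
  rw [toS_eq]
  have h1 : (CommRingCat.ofHom (toA j) : Γ(S, U) ⟶ CommRingCat.of (A j)) =
      CommRingCat.ofHom (algebraMap Γ(S, U) (Localization.Away j.h)) ≫
        CommRingCat.ofHom (Ideal.Quotient.mk _) := rfl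
  rw [h1, Spec.map_comp]
  haveI : IsClosedImmersion (Spec.map (CommRingCat.ofHom (Ideal.Quotient.mk
      (j.I.map (algebraMap Γ(S, U) (Localization.Away j.h)))))) :=
    IsClosedImmersion.spec_of_surjective _ Ideal.Quotient.mk_surjective
  haveI : IsOpenImmersion (Spec.map (CommRingCat.ofHom
      (algebraMap Γ(S, U) (Localization.Away j.h)))) := inferInstance
  haveI : IsOpenImmersion hU.fromSpec := hU.isOpenImmersion_fromSpec
  haveI : IsPreimmersion (Spec.map (CommRingCat.ofHom (Ideal.Quotient.mk
      (j.I.map (algebraMap Γ(S, U) (Localization.Away j.h)))))) := inferInstance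
  haveI : IsPreimmersion (Spec.map (CommRingCat.ofHom (Ideal.Quotient.mk
      (j.I.map (algebraMap Γ(S, U) (Localization.Away j.h))))) ≫ Spec.map (CommRingCat.ofHom
      (algebraMap Γ(S, U) (Localization.Away j.h)))) := inferInstance
  haveI : IsPreimmersion hU.fromSpec := inferInstance
  exact MorphismProperty.comp_mem _ _ _ ‹_› ‹_›

/-- the natural transformation from the system `Spec (R_h/I R_h)` to the constant diagram. -/
noncomputable def toSNat {S : Scheme.{u}} {U : S.Opens} (hU : IsAffineOpen U) (s : S)
    (hs : s ∈ U) : D s hs ⟶ (Functor.const _).obj S where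
  app i := toS hU s hs i.unop
  naturality i j f := by
    have hij : j.unop ≤ i.unop := leOfHom f.unop
    have hf : f = (homOfLE hij).op := by
      apply Quiver.Hom.unop_inj
      exact Subsingleton.elim _ _
    rw [hf]
    simp only [Functor.const_obj_obj, Functor.const_obj_map, Category.comp_id]
    exact map_toS hU s hs hij

variable [LocallyOfFinitePresentation g]

/-- **Spreading out a section**: if `b` is in the completely decomposed locus of `g` (locally of
finite presentation), then `g` has a section over some `Spec (R_h/I R_h) ⟶ B` through `b`. -/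
theorem exists_stage_section {U : B.Opens} (hU : IsAffineOpen U) (b : B) (hb : b ∈ U)
    (hcd : b ∈ cdLocus g) :
    ∃ (j : Idx (ev b hb)) (σ : (D b hb).obj (Opposite.op j) ⟶ A), σ ≫ g = toS hU b hb j := by
  obtain ⟨σ0, hσ0⟩ := exists_section_of_mem_cdLocus g hcd
  haveI : ∀ {i j : (Idx (ev b hb))ᵒᵖ} (f : i ⟶ j), IsAffineHom ((D b hb).map f) :=
    fun f => inferInstance
  have ha : (c b hb).π ≫ toSNat hU b hb = (Functor.const _).map (σ0 ≫ g) := by
    ext i : 2
    simp only [NatTrans.comp_app, Functor.const_map_app]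
    rw [hσ0]
    exact π_toS hU b hb i.unop
  obtain ⟨i, σ, -, h2⟩ := Scheme.exists_π_app_comp_eq_of_locallyOfFinitePresentation (D b hb)
    (toSNat hU b hb) g (c b hb) (hc hU b hb) σ0 ha
  exact ⟨i.unop, σ, h2⟩

/-- a locally constructible neighbourhood (in an affine open) inside the completely decomposed
locus. -/
theorem exists_locallyConstructible_nhd {U : B.Opens} (hU : IsAffineOpen U) (b : B) (hb : b ∈ U)
    (hcd : b ∈ cdLocus g) :
    ∃ T : Set (U : Scheme.{u}), IsLocallyConstructible T ∧ (⟨b, hb⟩ : U) ∈ T ∧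
      ∀ u ∈ T, u.1 ∈ cdLocus g := by
  obtain ⟨j, σ, hσ⟩ := exists_stage_section g hU b hb hcd
  haveI : IsAffine (U : Scheme.{u}) := hU
  refine ⟨Set.range (toU hU b hb j), ?_, ?_, ?_⟩
  · rw [← Set.image_univ]
    exact (toU hU b hb j).isLocallyConstructible_image IsLocallyConstructible.univ
  · haveI : Nonempty (c b hb).pt :=
      inferInstanceAs (Nonempty (PrimeSpectrum (B.residueField b)))
    let pt : (c b hb).pt := Classical.arbitrary _
    refine ⟨(c b hb).π.app (Opposite.op j) pt, ?_⟩
    apply Subtype.ext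
    have h1 := congr($(π_toS hU b hb j) pt)
    rw [Scheme.fromSpecResidueField_apply] at h1
    exact h1
  · rintro _ ⟨t, rfl⟩
    haveI := isPreimmersion_toS hU b hb j
    exact mem_cdLocus_of_section g (toS hU b hb j) σ hσ t
      (bijective_residueFieldMap_of_isPreimmersion _ t)

/-- **The completely decomposed locus of a morphism locally of finite presentation is
ind-constructible.** -/
theorem isIndConstructible_cdLocus : ProCons.IsIndConstructible (cdLocus g) := by
  intro x
  obtain ⟨_, ⟨U : B.Opens, hU, rfl⟩, hxU, -⟩ := B.isBasis_affineOpens.exists_subset_of_mem_open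
    (Set.mem_univ x) isOpen_univ
  refine ⟨U, U.2, hxU, {T : Set ↥U | IsLocallyConstructible T ∧
    ∀ u ∈ T, u.1 ∈ cdLocus g}, fun T hT => hT.1, ?_⟩
  ext u
  constructor
  · intro hu
    obtain ⟨T, h1, h2, h3⟩ := exists_locallyConstructible_nhd g hU u.1 u.2 hu
    exact ⟨T, ⟨h1, h3⟩, h2⟩
  · rintro ⟨T, ⟨-, hT⟩, huT⟩
    exact hT u huT

omit [LocallyOfFinitePresentation g] in
theorem isImmersion_toS {S : Scheme.{u}} {U : S.Opens} (hU : IsAffineOpen U) (s : S)
    (hs : s ∈ U) (j : Idx (ev s hs)) : IsImmersion (toS hU s hs j) := by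
  rw [toS_eq]
  have h1 : (CommRingCat.ofHom (toA j) : Γ(S, U) ⟶ CommRingCat.of (A j)) =
      CommRingCat.ofHom (algebraMap Γ(S, U) (Localization.Away j.h)) ≫
        CommRingCat.ofHom (Ideal.Quotient.mk _) := rfl
  rw [h1, Spec.map_comp]
  haveI : IsClosedImmersion (Spec.map (CommRingCat.ofHom (Ideal.Quotient.mk
      (j.I.map (algebraMap Γ(S, U) (Localization.Away j.h)))))) :=
    IsClosedImmersion.spec_of_surjective _ Ideal.Quotient.mk_surjective
  haveI : IsOpenImmersion (Spec.map (CommRingCat.ofHom
      (algebraMap Γ(S, U) (Localization.Away j.h)))) := inferInstance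
  haveI : IsOpenImmersion hU.fromSpec := hU.isOpenImmersion_fromSpec
  haveI : IsImmersion (Spec.map (CommRingCat.ofHom (Ideal.Quotient.mk
      (j.I.map (algebraMap Γ(S, U) (Localization.Away j.h)))))) := inferInstance
  haveI : IsImmersion (Spec.map (CommRingCat.ofHom (Ideal.Quotient.mk
      (j.I.map (algebraMap Γ(S, U) (Localization.Away j.h))))) ≫ Spec.map (CommRingCat.ofHom
      (algebraMap Γ(S, U) (Localization.Away j.h)))) := inferInstance
  haveI : IsImmersion hU.fromSpec := inferInstance
  exact MorphismProperty.comp_mem _ _ _ ‹_› ‹_›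

/-- around a point of the completely decomposed locus there is an affine immersion of finite
presentation over which `g` has a section. -/
theorem exists_immersion_section (b : B) (hcd : b ∈ cdLocus g) :
    ∃ (Z : Scheme.{u}) (z : Z ⟶ B) (σ : Z ⟶ A), IsAffine Z ∧ IsImmersion z ∧
      LocallyOfFinitePresentation z ∧ b ∈ Set.range z ∧ σ ≫ g = z := by
  obtain ⟨_, ⟨U : B.Opens, hU, rfl⟩, hbU, -⟩ := B.isBasis_affineOpens.exists_subset_of_mem_open
    (Set.mem_univ b) isOpen_univ
  obtain ⟨j, σ, hσ⟩ := exists_stage_section g hU b hbU hcd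
  refine ⟨_, toS hU b hbU j, σ, inferInstance, isImmersion_toS hU b hbU j, ?_, ?_, hσ⟩
  · unfold toS
    infer_instance
  · haveI : Nonempty (c b hbU).pt :=
      inferInstanceAs (Nonempty (PrimeSpectrum (B.residueField b)))
    let pt : (c b hbU).pt := Classical.arbitrary _
    refine ⟨(c b hbU).π.app (Opposite.op j) pt, ?_⟩
    have h1 := congr($(π_toS hU b hbU j) pt)
    rw [Scheme.fromSpecResidueField_apply] at h1
    exact h1

open Groth.Agent.Lib.Helper10.Spectral in
/-- **Stratification with sections**: if `g` (locally of finite presentation, over a qcqs base) is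
completely decomposed, there are finitely many affine immersions of finite presentation, jointly
surjective, over each of which `g` has a section. -/
theorem exists_finite_stratification [CompactSpace B] [QuasiSeparatedSpace B]
    (hcd : ∀ b : B, b ∈ cdLocus g) :
    ∃ (n : ℕ) (Z : Fin n → Scheme.{u}) (z : ∀ i, Z i ⟶ B) (σ : ∀ i, Z i ⟶ A),
      (∀ b : B, ∃ i, b ∈ Set.range (z i)) ∧
      ∀ i, IsAffine (Z i) ∧ IsImmersion (z i) ∧ LocallyOfFinitePresentation (z i) ∧
        σ i ≫ g = z i := by
  classical
  choose Z z σ hZ hz1 hz2 hz3 hz4 using fun b : B => exists_immersion_section g b (hcd b)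
  have hopen : ∀ b : B, IsOpen[constructibleTopology B] (Set.range (z b)) := by
    intro b
    haveI := hZ b
    haveI := hz2 b
    apply isOpen_constr_of_isConstructible
    apply IsLocallyConstructible.isConstructible
    rw [← Set.image_univ]
    exact (z b).isLocallyConstructible_image IsLocallyConstructible.univ
  have hcov : (Set.univ : Set B) ⊆ ⋃ b, Set.range (z b) :=
    fun b _ => Set.mem_iUnion.mpr ⟨b, hz3 b⟩
  obtain ⟨t, ht⟩ := @IsCompact.elim_finite_subcover B (constructibleTopology B) Set.univ B
    (@CompactSpace.isCompact_univ B (constructibleTopology B) compactSpace_constr)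
    (fun b => Set.range (z b)) hopen hcov
  let e : t ≃ Fin t.card := t.equivFin
  refine ⟨t.card, fun i => Z (e.symm i).1, fun i => z (e.symm i).1, fun i => σ (e.symm i).1,
    fun b => ?_, fun i => ⟨hZ _, hz1 _, hz2 _, hz4 _⟩⟩
  obtain ⟨b', hb', hbb'⟩ := Set.mem_iUnion₂.mp (ht (Set.mem_univ b))
  refine ⟨e ⟨b', hb'⟩, ?_⟩
  show b ∈ Set.range ⇑(z (e.symm (e ⟨b', hb'⟩)).1)
  rw [Equiv.symm_apply_apply]
  exact hbb'

end Spread

end Groth.Agent.Lib.T2H3.ComplDecomp
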