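import Mathlib
import Groth.Agent.Lib.T2H1FlatLocus
import Groth.Agent.Lib.T2H2GenFlat
import Groth.Agent.S0386
import Groth.Agent.Lib.Helper5FibSmConstr

/-!
# Flatness of a proper morphism over `Spec A` versus its base change to an adic completion (helper3)

For a Noetherian ring `A`, an ideal `I` and a proper `h : X ⟶ Spec A`:
* `flat_completion_of_flat`: if `h` is flat at all points over `V(I)` then the base change of `h`
  to `Spec (AdicCompletion I A)` is flat;
* `flat_stalkMap_of_flat_completion`: conversely flatness of the base change to the completion gives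
  flatness of `h` at all points over `V(I)`;
* `flat_stalkMap_of_flat_quotient`: for `A` of finite type over `R`, `X` flat and lfp over `R` and
  `I = pA`: flatness of the reduction mod `I` gives flatness of `h` at points over `V(I)`.
-/

set_option autoImplicit false
set_option linter.unusedVariables false
set_option linter.unusedSectionVars false
set_option linter.style.haveILetI false
universe u
open CategoryTheory CategoryTheory.Limits AlgebraicGeometry TensorProduct

namespace Groth.Agent.Lib.T2H3.ComplFlat

section alg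

variable (A B : Type u) [CommRing A] [CommRing B] [Algebra A B] (p : Ideal A)

/-- `B/pB` is the pushout of `A/p` and `B` over `A`. -/
theorem isPushout_quotient :
    Algebra.IsPushout A (A ⧸ p) B (B ⧸ p.map (algebraMap A B)) := by
  constructor
  refine IsBaseChange.of_equiv
    (Algebra.TensorProduct.quotIdealMapEquivQuotTensor B p).symm.toLinearEquiv ?_
  intro x
  show (Algebra.TensorProduct.quotIdealMapEquivQuotTensor B p).symm (1 ⊗ₜ[A] x) = _
  rw [AlgEquiv.symm_apply_eq]
  rfl

/-- the corresponding pullback square of spectra. -/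
theorem isPullback_Spec_quotient :
    IsPullback (Spec.map (CommRingCat.ofHom (Ideal.Quotient.mk (p.map (algebraMap A B)))))
      (Spec.map (CommRingCat.ofHom (algebraMap (A ⧸ p) (B ⧸ p.map (algebraMap A B)))))
      (Spec.map (CommRingCat.ofHom (algebraMap A B)))
      (Spec.map (CommRingCat.ofHom (Ideal.Quotient.mk p))) := by
  haveI := isPushout_quotient A B p
  have h1 := CommRingCat.isPushout_of_isPushout A (A ⧸ p) B (B ⧸ p.map (algebraMap A B))
  exact (isPullback_SpecMap_of_isPushout _ _ _ _ h1).flip

end alg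

/-- The image of `Spec Â ⟶ Spec A` lies in every open neighbourhood of `V(I)`. -/
theorem comap_mem_of_zeroLocus_subset {A : Type u} [CommRing A] [IsNoetherianRing A] (I : Ideal A)
    (U : Set (PrimeSpectrum A)) (hU : IsOpen U) (hIU : PrimeSpectrum.zeroLocus (I : Set A) ⊆ U)
    (P : PrimeSpectrum (AdicCompletion I A)) :
    PrimeSpectrum.comap (algebraMap A (AdicCompletion I A)) P ∈ U := by
  by_contra hP
  obtain ⟨J, hJ⟩ : ∃ J : Ideal A, Uᶜ = PrimeSpectrum.zeroLocus (J : Set A) :=
    (PrimeSpectrum.isClosed_iff_zeroLocus_ideal _).mp hU.isClosed_compl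
  have hJP : (J : Set A) ⊆ (PrimeSpectrum.comap (algebraMap A (AdicCompletion I A)) P).asIdeal := by
    have h1 : PrimeSpectrum.comap (algebraMap A (AdicCompletion I A)) P ∈ Uᶜ := hP
    rw [hJ, PrimeSpectrum.mem_zeroLocus] at h1
    exact h1
  have htop : J ⊔ I = ⊤ := by
    rw [← PrimeSpectrum.zeroLocus_empty_iff_eq_top, PrimeSpectrum.zeroLocus_sup, ← hJ]
    ext Q
    simp only [Set.mem_inter_iff, Set.mem_compl_iff, Set.mem_empty_iff_false, iff_false, not_and]
    intro hQ hQI
    exact hQ (hIU hQI)
  obtain ⟨j, hj, i, hi, hji⟩ := Submodule.mem_sup.mp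
    (htop ▸ (Submodule.mem_top : (1 : A) ∈ (⊤ : Ideal A)))
  have hjac : I.map (algebraMap A (AdicCompletion I A)) ≤ Ideal.jacobson ⊥ := by
    haveI := AdicCompletion.isAdicComplete_self I
      ((isNoetherianRing_iff_ideal_fg A).mp inferInstance I)
    exact IsAdicComplete.le_jacobson_bot _
  have hunit : IsUnit (algebraMap A (AdicCompletion I A) j) := by
    have h1 : algebraMap A (AdicCompletion I A) j = algebraMap A (AdicCompletion I A) i * (-1) + 1 := by
      have : j = 1 - i := by rw [← hji]; ring
      rw [this, map_sub, map_one]; ring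
    rw [h1]
    exact Ideal.mem_jacobson_bot.mp (hjac (Ideal.mem_map_of_mem _ hi)) (-1)
  exact P.isPrime.ne_top (Ideal.eq_top_of_isUnit_mem _ (hJP hj) hunit)

/-- For proper `h : X ⟶ Spec A` and an open `W ⊆ X` containing all points over `V(I)`, every point
of the base change of `X` to the `I`-adic completion of `A` maps into `W`. -/
theorem fst_mem_of_isOpen {A : Type u} [CommRing A] [IsNoetherianRing A] (I : Ideal A)
    {X : Scheme.{u}} (h : X ⟶ Spec (.of A)) [IsProper h] (W : Set X) (hW : IsOpen W)
    (hI : ∀ x : X, h x ∈ Set.range (Spec.map (CommRingCat.ofHom (Ideal.Quotient.mk I))) → x ∈ W)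
    (x' : ↑(pullback h (Spec.map (CommRingCat.ofHom (algebraMap A (AdicCompletion I A)))))) :
    pullback.fst h (Spec.map (CommRingCat.ofHom (algebraMap A (AdicCompletion I A)))) x' ∈ W := by
  have hZ : IsClosed (h '' Wᶜ) := h.isClosedMap _ hW.isClosed_compl
  have hIU : PrimeSpectrum.zeroLocus (I : Set A) ⊆ ((h '' Wᶜ)ᶜ : Set (PrimeSpectrum A)) := by
    rintro P hP ⟨x, hxW, rfl⟩
    apply hxW
    apply hI
    show h x ∈ Set.range (PrimeSpectrum.comap (Ideal.Quotient.mk I))
    rw [range_comap_of_surjective _ _ Ideal.Quotient.mk_surjective, Ideal.mk_ker]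
    exact hP
  by_contra hx
  have hmem := comap_mem_of_zeroLocus_subset I _ hZ.isOpen_compl hIU
    (pullback.snd h (Spec.map (CommRingCat.ofHom (algebraMap A (AdicCompletion I A)))) x')
  apply hmem
  refine ⟨pullback.fst h _ x', hx, ?_⟩
  rw [← Scheme.Hom.comp_apply, pullback.condition, Scheme.Hom.comp_apply]
  rfl

/-- `(⇒)`: flatness along `V(I)` gives flatness of the base change to the completion. -/
theorem flat_completion_of_flat {A : Type u} [CommRing A] [IsNoetherianRing A] (I : Ideal A)
    {X : Scheme.{u}} (h : X ⟶ Spec (.of A)) [IsProper h]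
    (hI : ∀ x : X, h x ∈ Set.range (Spec.map (CommRingCat.ofHom (Ideal.Quotient.mk I))) →
      (h.stalkMap x).hom.Flat) :
    Flat (pullback.snd h
      (Spec.map (CommRingCat.ofHom (algebraMap A (AdicCompletion I A))))) := by
  haveI : LocallyOfFinitePresentation h :=
    LocallyOfFinitePresentation.iff_locallyOfFiniteType.mpr inferInstance
  have hW : IsOpen {x : X | (h.stalkMap x).hom.Flat} := Groth.Agent.S0386.result h
  rw [Flat.iff_flat_stalkMap]
  intro x'
  exact Groth.Agent.Lib.Helper5.FiberBC.flat_stalkMap_of_isPullback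
    (IsPullback.of_hasPullback h _) x' (fst_mem_of_isOpen I h _ hW hI x')

/-- `(⇒)`, smooth version: smoothness along `V(I)` gives smoothness of the base change to the
completion. -/
theorem smooth_completion_of_smooth {A : Type u} [CommRing A] [IsNoetherianRing A] (I : Ideal A)
    {X : Scheme.{u}} (h : X ⟶ Spec (.of A)) [IsProper h]
    (hI : ∀ x : X, h x ∈ Set.range (Spec.map (CommRingCat.ofHom (Ideal.Quotient.mk I))) →
      (h.stalkMap x).hom.FormallySmooth) :
    Smooth (pullback.snd h
      (Spec.map (CommRingCat.ofHom (algebraMap A (AdicCompletion I A))))) := by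
  haveI : LocallyOfFinitePresentation h :=
    LocallyOfFinitePresentation.iff_locallyOfFiniteType.mpr inferInstance
  haveI : LocallyOfFinitePresentation (pullback.snd h
      (Spec.map (CommRingCat.ofHom (algebraMap A (AdicCompletion I A))))) :=
    MorphismProperty.pullback_snd (P := @LocallyOfFinitePresentation) _ _ inferInstance
  rw [← Scheme.Hom.smoothLocus_eq_top_iff]
  ext x'
  simp only [TopologicalSpace.Opens.coe_top, Set.mem_univ, iff_true, SetLike.mem_coe]
  rw [Scheme.Hom.mem_smoothLocus]
  exact Groth.Agent.Lib.Helper5.FibSmConstr.formallySmooth_stalkMap_pullback_snd h _ x'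
    (fst_mem_of_isOpen I h (h.smoothLocus : Set X) h.smoothLocus.2 hI x')

/-- stability of `P (pullback.snd h -)` under precomposition of the base change map. -/
theorem prop_snd_of_comp (P : MorphismProperty Scheme.{u}) [P.IsStableUnderBaseChange]
    {X Y Z W : Scheme.{u}} (h : X ⟶ Z) (c : Y ⟶ Z) (e : W ⟶ Y) (q : W ⟶ Z)
    (hq : q = e ≫ c) (hc : P (pullback.snd h c)) : P (pullback.snd h q) := by
  subst hq
  let l : pullback h (e ≫ c) ⟶ pullback h c :=
    pullback.lift (pullback.fst h (e ≫ c)) (pullback.snd h (e ≫ c) ≫ e)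
      (by rw [pullback.condition, Category.assoc])
  have hl1 : l ≫ pullback.fst h c = pullback.fst h (e ≫ c) := pullback.lift_fst _ _ _
  have hl2 : l ≫ pullback.snd h c = pullback.snd h (e ≫ c) ≫ e := pullback.lift_snd _ _ _
  have s : IsPullback (l ≫ pullback.fst h c) (pullback.snd h (e ≫ c)) h (e ≫ c) := by
    rw [hl1]; exact IsPullback.of_hasPullback h (e ≫ c)
  have sq : IsPullback l (pullback.snd h (e ≫ c)) (pullback.snd h c) e :=
    IsPullback.of_right s hl2 (IsPullback.of_hasPullback h c)
  exact MorphismProperty.of_isPullback (P := P) sq hc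

theorem flat_snd_of_comp {X Y Z W : Scheme.{u}} (h : X ⟶ Z) (c : Y ⟶ Z) (e : W ⟶ Y) (q : W ⟶ Z)
    (hq : q = e ≫ c) (hc : Flat (pullback.snd h c)) : Flat (pullback.snd h q) :=
  prop_snd_of_comp @Flat h c e q hq hc

/-- `P` of the base change to the completion gives `P` mod `I`. -/
theorem prop_quotient_of_prop_completion (P : MorphismProperty Scheme.{u})
    [P.IsStableUnderBaseChange] {A : Type u} [CommRing A] (I : Ideal A)
    {X : Scheme.{u}} (h : X ⟶ Spec (.of A))
    (hc : P (pullback.snd h
      (Spec.map (CommRingCat.ofHom (algebraMap A (AdicCompletion I A)))))) :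
    P (pullback.snd h (Spec.map (CommRingCat.ofHom (Ideal.Quotient.mk I)))) := by
  refine prop_snd_of_comp P h _
    (Spec.map (CommRingCat.ofHom (AdicCompletion.evalOneₐ I).toRingHom)) _ ?_ hc
  rw [← Spec.map_comp, ← CommRingCat.ofHom_comp, AdicCompletion.evalOneₐ_comp_algebraMap_eq_mk]

/-- `(⇐)`, part (a): flatness of the base change to the completion gives flatness mod `I`. -/
theorem flat_quotient_of_flat_completion {A : Type u} [CommRing A] (I : Ideal A)
    {X : Scheme.{u}} (h : X ⟶ Spec (.of A))
    (hc : Flat (pullback.snd h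
      (Spec.map (CommRingCat.ofHom (algebraMap A (AdicCompletion I A)))))) :
    Flat (pullback.snd h (Spec.map (CommRingCat.ofHom (Ideal.Quotient.mk I)))) := by
  refine flat_snd_of_comp h _ (Spec.map (CommRingCat.ofHom (AdicCompletion.evalOneₐ I).toRingHom))
    _ ?_ hc
  rw [← Spec.map_comp, ← CommRingCat.ofHom_comp, AdicCompletion.evalOneₐ_comp_algebraMap_eq_mk]

/-- `(⇐)`, part (b): flatness of the base change to the completion gives flatness of `h` at the
points over `V(I)`. -/
theorem flat_stalkMap_of_flat_completion {A : Type u} [CommRing A] [IsNoetherianRing A]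
    (I : Ideal A) {X : Scheme.{u}} (h : X ⟶ Spec (.of A))
    (hc : Flat (pullback.snd h
      (Spec.map (CommRingCat.ofHom (algebraMap A (AdicCompletion I A))))))
    (x : X) (hx : h x ∈ Set.range (Spec.map (CommRingCat.ofHom (Ideal.Quotient.mk I)))) :
    (h.stalkMap x).hom.Flat := by
  obtain ⟨z, hz⟩ := hx
  have hq : Spec.map (CommRingCat.ofHom (Ideal.Quotient.mk I)) =
      Spec.map (CommRingCat.ofHom (AdicCompletion.evalOneₐ I).toRingHom) ≫
        Spec.map (CommRingCat.ofHom (algebraMap A (AdicCompletion I A))) := by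
    rw [← Spec.map_comp, ← CommRingCat.ofHom_comp, AdicCompletion.evalOneₐ_comp_algebraMap_eq_mk]
  have hz' : h x = Spec.map (CommRingCat.ofHom (algebraMap A (AdicCompletion I A)))
      (Spec.map (CommRingCat.ofHom (AdicCompletion.evalOneₐ I).toRingHom) z) := by
    rw [← Scheme.Hom.comp_apply, ← hq]; exact hz.symm
  obtain ⟨x', hx1, hx2⟩ := Scheme.Pullback.exists_preimage_pullback x _ hz'
  haveI : Flat (Spec.map (CommRingCat.ofHom (algebraMap A (AdicCompletion I A)))) :=
    Flat.SpecMap_iff.mpr (RingHom.flat_algebraMap_iff.mpr inferInstance)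
  have key := Groth.Agent.Lib.Helper5.FiberBC.flat_stalkMap_of_isPullback_of_flat
    (IsPullback.of_hasPullback h
      (Spec.map (CommRingCat.ofHom (algebraMap A (AdicCompletion I A))))) x'
    (Flat.stalkMap _ x') (Flat.stalkMap _ _)
  rwa [hx1] at key

/-- fibre criterion along `V(pA)`: `X ⟶ Spec A ⟶ Spec R` with `X` flat and lfp over `R`. -/
theorem flat_stalkMap_of_flat_quotient {R A : Type u} [CommRing R] [CommRing A] [Algebra R A]
    [Algebra.FiniteType R A] (p : Ideal R) {X : Scheme.{u}} (h : X ⟶ Spec (.of A))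
    [LocallyOfFinitePresentation (h ≫ Spec.map (CommRingCat.ofHom (algebraMap R A)))]
    [Flat (h ≫ Spec.map (CommRingCat.ofHom (algebraMap R A)))]
    (h0 : Flat (pullback.snd h
      (Spec.map (CommRingCat.ofHom (Ideal.Quotient.mk (p.map (algebraMap R A)))))))
    (x : X) (hx : h x ∈ Set.range
      (Spec.map (CommRingCat.ofHom (Ideal.Quotient.mk (p.map (algebraMap R A)))))) :
    (h.stalkMap x).hom.Flat := by
  obtain ⟨z, hz⟩ := hx
  obtain ⟨x', hx1, hx2⟩ := Scheme.Pullback.exists_preimage_pullback x z hz.symm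
  haveI : LocallyOfFiniteType (Spec.map (CommRingCat.ofHom (algebraMap R A))) := by
    rw [HasRingHomProperty.Spec_iff (P := @LocallyOfFiniteType)]
    exact RingHom.finiteType_algebraMap.mpr inferInstance
  have key := (Groth.Agent.Lib.T2H1.FlatLocus.flat_stalkMap_baseChange_iff
    (isPullback_Spec_quotient R A p) (IsPullback.of_hasPullback h _) x').mp (Flat.stalkMap _ x')
  rwa [hx1] at key

/-- smooth fibre criterion along `V(pA)`: `X ⟶ Spec A ⟶ Spec R` with `X` flat and lfp over `R`,
reduction mod `pA` smooth. -/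
theorem formallySmooth_stalkMap_of_smooth_quotient {R A : Type u} [CommRing R] [CommRing A]
    [Algebra R A] [Algebra.FiniteType R A] (p : Ideal R) {X : Scheme.{u}} (h : X ⟶ Spec (.of A))
    [LocallyOfFinitePresentation h]
    [LocallyOfFinitePresentation (h ≫ Spec.map (CommRingCat.ofHom (algebraMap R A)))]
    [Flat (h ≫ Spec.map (CommRingCat.ofHom (algebraMap R A)))]
    (h0 : Smooth (pullback.snd h
      (Spec.map (CommRingCat.ofHom (Ideal.Quotient.mk (p.map (algebraMap R A)))))))
    (x : X) (hx : h x ∈ Set.range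
      (Spec.map (CommRingCat.ofHom (Ideal.Quotient.mk (p.map (algebraMap R A)))))) :
    (h.stalkMap x).hom.FormallySmooth := by
  have hfl : (h.stalkMap x).hom.Flat :=
    flat_stalkMap_of_flat_quotient p h inferInstance x hx
  obtain ⟨z, hz⟩ := hx
  obtain ⟨x', hx1, hx2⟩ := Scheme.Pullback.exists_preimage_pullback x z hz.symm
  rw [← Groth.Agent.Lib.Helper5.FibSmConstr.mem_lsm_iff_of_flat h x hfl]
  have hbc := Groth.Agent.Lib.Helper5.FibSmConstr.lsm_baseChange h
    (Spec.map (CommRingCat.ofHom (Ideal.Quotient.mk (p.map (algebraMap R A)))))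
    (pullback.fst h _) (pullback.snd h _) inferInstance (IsPullback.of_hasPullback h _)
  haveI : LocallyOfFinitePresentation (pullback.snd h
      (Spec.map (CommRingCat.ofHom (Ideal.Quotient.mk (p.map (algebraMap R A)))))) :=
    MorphismProperty.pullback_snd (P := @LocallyOfFinitePresentation) _ _ inferInstance
  have hx' : x' ∈ Groth.Agent.Lib.Helper5.FibSmConstr.Lsm (pullback.snd h
      (Spec.map (CommRingCat.ofHom (Ideal.Quotient.mk (p.map (algebraMap R A)))))) := by
    rw [Groth.Agent.Lib.Helper5.FibSmConstr.lsm_eq_smoothLocus_of_flat,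
      Scheme.Hom.smoothLocus_eq_top]
    trivial
  rw [hbc] at hx'
  rw [← hx1]
  exact hx'

end Groth.Agent.Lib.T2H3.ComplFlat
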