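import Mathlib
import Groth.Prelude
import Groth.Agent.Lib.T2H3Birat

/-!
# Connectedness is preserved by base change along flat morphisms with irreducible fibres, for
finite flat covers of an irreducible scheme (helper3)
-/

set_option autoImplicit false
set_option linter.style.haveILetI false
universe u

namespace Groth.Agent.Lib.T2H3.ConnPullback
open AlgebraicGeometry CategoryTheory CategoryTheory.Limits
open Groth.Agent.Lib.T2H3.Birat

/-- every point of a scheme is a specialization of a maximal point. -/
theorem exists_genericPoint_specializes (X : Scheme.{u}) (x : X) :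
    ∃ ξ ∈ genericPoints X, ξ ⤳ x := by
  obtain ⟨ξ, hξ⟩ := QuasiSober.sober (isIrreducible_irreducibleComponent (x := x))
    isClosed_irreducibleComponent
  refine ⟨ξ, ?_, ?_⟩
  · change closure {ξ} ∈ irreducibleComponents X
    rw [hξ.def]
    exact irreducibleComponent_mem_irreducibleComponents x
  · rw [specializes_iff_mem_closure, hξ.def]
    exact mem_irreducibleComponent

/-- a subset of a scheme with finitely many maximal points which is stable under generization and
specialization is closed. -/
theorem isClosed_of_stable {Z : Scheme.{u}} (hfin : (genericPoints Z).Finite) (A : Set Z)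
    (hgen : ∀ z z' : Z, z' ⤳ z → z ∈ A → z' ∈ A) (hspec : ∀ z z' : Z, z' ⤳ z → z' ∈ A → z ∈ A) :
    IsClosed A := by
  have hA : A = ⋃ ξ ∈ genericPoints Z ∩ A, closure {ξ} := by
    ext z
    simp only [Set.mem_iUnion, exists_prop]
    constructor
    · intro hz
      obtain ⟨ξ, hξ, hξz⟩ := exists_genericPoint_specializes Z z
      exact ⟨ξ, ⟨hξ, hgen z ξ hξz hz⟩, specializes_iff_mem_closure.mp hξz⟩
    · rintro ⟨ξ, ⟨-, hξA⟩, hz⟩
      exact hspec z ξ (specializes_iff_mem_closure.mpr hz) hξA
  rw [hA]
  exact (hfin.subset Set.inter_subset_left).isClosed_biUnion fun _ _ => isClosed_closure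

/-- a flat quasi-finite quasi-compact cover of an irreducible scheme has finitely many maximal
points. -/
theorem finite_genericPoints {Z X : Scheme.{u}} [IrreducibleSpace X] (h : Z ⟶ X) [Flat h]
    [LocallyQuasiFinite h] [QuasiCompact h] : (genericPoints Z).Finite := by
  refine (h.finite_preimage_singleton (genericPoint X)).subset ?_
  intro z hz
  have h1 := map_mem_genericPoints h (Flat.generalizingMap h) hz
  rw [genericPoints_eq_singleton] at h1
  exact h1

theorem connectedSpace_pullback {X W Z : Scheme.{u}} [IrreducibleSpace X] (π : W ⟶ X) [Flat π]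
    [GeometricallyIrreducible π] (h : Z ⟶ X) [Flat h] [LocallyQuasiFinite h] [QuasiCompact h]
    [ConnectedSpace Z] : ConnectedSpace ↥(pullback h π) := by
  let q := pullback.fst h π
  haveI : Flat q := inferInstance
  haveI : GeometricallyIrreducible q := inferInstance
  have hqs : Function.Surjective q := q.surjective
  have hgenq : GeneralizingMap q := Flat.generalizingMap q
  have hfin := finite_genericPoints h
  -- fibres of `q` are preconnected
  have hfib : ∀ z : Z, _root_.IsPreconnected (q ⁻¹' {z}) := by
    intro z
    rw [← q.range_fiberι z]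
    exact isPreconnected_range (q.fiberι z).continuous
  haveI : Nonempty ↥(pullback h π) := by
    obtain ⟨z⟩ := (inferInstance : Nonempty Z)
    obtain ⟨p, -⟩ := hqs z
    exact ⟨p⟩
  haveI : PreconnectedSpace ↥(pullback h π) := by
    rw [preconnectedSpace_iff_clopen]
    intro A hA
    -- fibres lie on one side
    have hside : ∀ a b : ↥(pullback h π), q a = q b → a ∈ A → b ∈ A := by
      intro a b hab ha
      exact (hfib (q a)).subset_isClopen hA ⟨a, rfl, ha⟩ hab.symm
    have hstab : ∀ B : Set ↥(pullback h π), IsClopen B →
        (∀ a b : ↥(pullback h π), q a = q b → a ∈ B → b ∈ B) → IsClosed (q '' B) := by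
      intro B hB hsB
      refine isClosed_of_stable hfin _ ?_ ?_
      · rintro z z' hz' ⟨a, ha, rfl⟩
        obtain ⟨a', ha', rfl⟩ := hgenq hz'
        exact ⟨a', ha'.mem_open hB.isOpen ha, rfl⟩
      · rintro z z' hz' ⟨a', ha', rfl⟩
        -- otherwise `z` is in the image of the complement, which is stable under generization
        obtain ⟨a, rfl⟩ := hqs z
        by_contra hza
        have haB : a ∉ B := fun haB => hza ⟨a, haB, rfl⟩
        obtain ⟨a'', ha'', hq''⟩ := hgenq hz'
        have h1 : a'' ∈ Bᶜ := ha''.mem_open hB.compl.isOpen haB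
        exact h1 (hsB a' a'' hq''.symm ha')
    have hA' : IsClosed (q '' A) := hstab A hA hside
    have hAc' : IsClosed (q '' Aᶜ) := by
      refine hstab Aᶜ hA.compl ?_
      intro a b hab ha hb
      exact ha (hside b a hab.symm hb)
    have hcompl : (q '' A)ᶜ = q '' Aᶜ := by
      ext z
      constructor
      · intro hz
        obtain ⟨a, rfl⟩ := hqs z
        exact ⟨a, fun ha => hz ⟨a, ha, rfl⟩, rfl⟩
      · rintro ⟨b, hb, rfl⟩ ⟨a, ha, hab⟩
        exact hb (hside a b hab ha)
    have hclopen : IsClopen (q '' A) := ⟨hA', by rw [← isClosed_compl_iff, hcompl]; exact hAc'⟩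
    rcases isClopen_iff.mp hclopen with h0 | h1
    · left
      rw [Set.image_eq_empty] at h0
      exact h0
    · right
      rw [Set.eq_univ_iff_forall]
      intro a
      have : q a ∈ q '' A := by rw [h1]; trivial
      obtain ⟨b, hb, hba⟩ := this
      exact hside b a hba hb
  exact ConnectedSpace.mk inferInstance

end Groth.Agent.Lib.T2H3.ConnPullback
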