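import Groth.Agent.Lib.Helper18Con1
import Groth.Agent.Lib.T2H2PPTrans

set_option autoImplicit false
set_option linter.style.haveILetI false
set_option linter.unusedSectionVars false
universe u
open CategoryTheory AlgebraicGeometry Limits TopologicalSpace Opposite

namespace Groth.Agent.Lib.T2H3.ConormalComp

open Groth.Agent.Helper18OmLS Groth.Agent.Helper18Om Groth.Agent.Helper18Con
open Groth.Agent.Helper13PullbackUnit

section nat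
variable {X Y : Scheme.{u}} (h : Y ⟶ X)

/-- naturality of `pullSect` in the module -/
theorem pullSect_naturality {M N : X.Modules} (φ : M ⟶ N) (U : X.Opens) (x : Γ(M, U)) :
    ((Scheme.Modules.pullback h).map φ).app (h ⁻¹ᵁ U) (OmegaSh.pullSect h M U x) =
      OmegaSh.pullSect h N U (φ.app U x) := by
  have h1 := (Scheme.Modules.pullbackPushforwardAdjunction h).unit.naturality φ
  have h2 := congr((($h1).app U) x)
  exact h2.symm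

theorem app_res {M N : X.Modules} (φ : M ⟶ N) {W W' : X.Opens} (hW : W ≤ W') (s : Γ(M, W')) :
    φ.app W (M.presheaf.map (homOfLE hW).op s) = N.presheaf.map (homOfLE hW).op (φ.app W' s) := by
  have := φ.mapPresheaf.naturality (homOfLE hW).op
  exact congr($this s)

theorem res_res (M : X.Modules) {A B C : X.Opens} (h₁ : B ≤ A) (h₂ : C ≤ B) (x : Γ(M, A)) :
    M.presheaf.map (homOfLE h₂).op (M.presheaf.map (homOfLE h₁).op x) =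
      M.presheaf.map (homOfLE (h₂.trans h₁)).op x := by
  rw [← ConcreteCategory.comp_apply, ← Functor.map_comp]
  rfl

set_option backward.isDefEq.respectTransparency.types false in
/-- `pullbackComp.inv` on pulled back sections. -/
theorem pullbackComp_inv_pullSect {A B : Scheme.{u}} (j : A ⟶ B) (p : B ⟶ X) (F : X.Modules)
    (U : X.Opens) (t : Γ(F, U)) :
    ((Scheme.Modules.pullbackComp j p).inv.app F).app ((j ≫ p) ⁻¹ᵁ U)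
        (OmegaSh.pullSect (j ≫ p) F U t) =
      OmegaSh.pullSect j ((Scheme.Modules.pullback p).obj F) (p ⁻¹ᵁ U)
          (OmegaSh.pullSect p F U t) := by
  rw [← Groth.Agent.Lib.T2H2.PPTrans.pullbackComp_hom_pullSect j p F U t]
  have h4 : ((Scheme.Modules.pullbackComp j p).hom.app F).app ((j ≫ p) ⁻¹ᵁ U) ≫
      ((Scheme.Modules.pullbackComp j p).inv.app F).app ((j ≫ p) ⁻¹ᵁ U) = 𝟙 _ := by
    rw [← Scheme.Modules.Hom.comp_app, Iso.hom_inv_id_app]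
    rfl
  exact congr(($h4) _)

end nat

section comp
variable {Z₁ X₁ Z₂ X₂ Z₃ X₃ : Scheme.{u}} (i₁ : Z₁ ⟶ X₁) (i₂ : Z₂ ⟶ X₂) (i₃ : Z₃ ⟶ X₃)
  [QuasiCompact i₁] [QuasiCompact i₂] [QuasiCompact i₃]
  (g : X₁ ⟶ X₂) (gZ : Z₁ ⟶ Z₂) (g' : X₂ ⟶ X₃) (gZ' : Z₂ ⟶ Z₃)

theorem isConormalMap_comp
    (φ : (Scheme.Modules.pullback gZ).obj (Omega.conormal i₂) ⟶ Omega.conormal i₁)
    (hφ : OmegaSh.IsConormalMap i₁ i₂ g gZ φ)
    (φ' : (Scheme.Modules.pullback gZ').obj (Omega.conormal i₃) ⟶ Omega.conormal i₂)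
    (hφ' : OmegaSh.IsConormalMap i₂ i₃ g' gZ' φ') :
    OmegaSh.IsConormalMap i₁ i₃ (g ≫ g') (gZ ≫ gZ')
      ((Scheme.Modules.pullbackComp gZ gZ').inv.app (Omega.conormal i₃) ≫
        (Scheme.Modules.pullback gZ).map φ' ≫ φ) := by
  have hsq : (gZ ≫ gZ') ≫ i₃ = i₁ ≫ (g ≫ g') := by
    rw [Category.assoc, hφ'.1, ← Category.assoc, hφ.1, Category.assoc]
  refine ⟨hsq, fun U' s' s hs V h₁ h₂ => ?_⟩
  -- intermediate section of the ideal of `i₂`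
  obtain ⟨s₂, hs₂⟩ := exists_idealSect_eq i₂ (g' ⁻¹ᵁ U') (g'.app U' (OmegaSh.idealSect i₃.ker U' s'))
    (sq_app_zero i₂ i₃ g' gZ' hφ'.1 U' s')
  have hT₂ : gZ' ⁻¹ᵁ (i₃ ⁻¹ᵁ U') ≤ i₂ ⁻¹ᵁ (g' ⁻¹ᵁ U') := sq_le i₂ i₃ g' gZ' hφ'.1 U'
  have e1 := hφ'.2 U' s' s₂ hs₂ (gZ' ⁻¹ᵁ (i₃ ⁻¹ᵁ U')) le_rfl hT₂
  rw [presheaf_map_homOfLE_refl] at e1
  have hs' : OmegaSh.idealSect i₁.ker (g ⁻¹ᵁ (g' ⁻¹ᵁ U')) s =
      g.app (g' ⁻¹ᵁ U') (OmegaSh.idealSect i₂.ker (g' ⁻¹ᵁ U') s₂) := by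
    rw [hs₂]; exact hs
  have h₁' : V ≤ gZ ⁻¹ᵁ (i₂ ⁻¹ᵁ (g' ⁻¹ᵁ U')) := h₁.trans (gZ.preimage_mono hT₂)
  have e2 := hφ.2 (g' ⁻¹ᵁ U') s₂ s hs' V h₁' h₂
  refine Eq.trans ?_ e2
  have h₁'' : V ≤ gZ ⁻¹ᵁ (gZ' ⁻¹ᵁ (i₃ ⁻¹ᵁ U')) := h₁
  change (Omega.conormal i₁).presheaf.map (homOfLE h₁'').op (φ.app (gZ ⁻¹ᵁ (gZ' ⁻¹ᵁ (i₃ ⁻¹ᵁ U')))
    (((Scheme.Modules.pullback gZ).map φ').app (gZ ⁻¹ᵁ (gZ' ⁻¹ᵁ (i₃ ⁻¹ᵁ U')))
      (((Scheme.Modules.pullbackComp gZ gZ').inv.app (Omega.conormal i₃)).app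
        ((gZ ≫ gZ') ⁻¹ᵁ (i₃ ⁻¹ᵁ U'))
        (OmegaSh.pullSect (gZ ≫ gZ') (Omega.conormal i₃) (i₃ ⁻¹ᵁ U')
          (OmegaSh.conormalSect i₃ U' s'))))) = _
  rw [pullbackComp_inv_pullSect, pullSect_naturality, e1, OmegaSh.pullSect_map, app_res, res_res]

end comp

end Groth.Agent.Lib.T2H3.ConormalComp
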