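import Mathlib
import Groth.Prelude.Def_RegImm
import Groth.Agent.Lib.T2H9KoszulCot
import Groth.Agent.Lib.T2H9KoszulComp
import Groth.Agent.Lib.Helper18OmLS16

/-!
# The conormal sequence of a composite of Koszul-regular closed immersions is short exact
-/

set_option autoImplicit false
set_option linter.style.haveILetI false
set_option linter.unusedSectionVars false
universe u
open CategoryTheory CategoryTheory.Limits AlgebraicGeometry TopologicalSpace Opposite TensorProduct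

namespace Groth.Agent.Lib.T2H3.KoszulConormal

open Groth.Agent.Helper18OmLS Groth.Agent.Helper13PullbackUnit

section alg

theorem mem_mul_of_mem_sq {A : Type u} [CommRing A] (fs gs : List A)
    (hreg : LCI.IsKoszulRegularSeq A (gs ++ fs))
    (x : A) (hxI : x ∈ Ideal.ofList fs) (hxJ : x ∈ Ideal.ofList (gs ++ fs) ^ 2) :
    x ∈ Ideal.ofList (gs ++ fs) * Ideal.ofList fs := by
  have hgJ : ∀ k : Fin gs.length, gs.get k ∈ Ideal.ofList (gs ++ fs) := fun k =>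
    Ideal.subset_span (List.mem_append_left _ (List.get_mem _ _))
  have hfJ : ∀ k : Fin fs.length, fs.get k ∈ Ideal.ofList (gs ++ fs) := fun k =>
    Ideal.subset_span (List.mem_append_right _ (List.get_mem _ _))
  let h : Fin (gs.length + fs.length) → Ideal.ofList (gs ++ fs) :=
    Fin.append (fun k => ⟨gs.get k, hgJ k⟩) (fun k => ⟨fs.get k, hfJ k⟩)
  have hfun : (fun i => (h i : A)) = Fin.append gs.get fs.get := by
    funext i
    refine Fin.addCases (fun a => ?_) (fun b => ?_) i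
    · simp only [h, Fin.append_left]
    · simp only [h, Fin.append_right]
  have hlist : List.ofFn (fun i => (h i : A)) = gs ++ fs := by
    rw [hfun, List.ofFn_fin_append, List.ofFn_get, List.ofFn_get]
  have hspan : Ideal.span (Set.range (fun i => (h i : A))) = Ideal.ofList (gs ++ fs) := by
    congr 1
    ext r
    have h1 : r ∈ gs ++ fs ↔ r ∈ List.ofFn (fun i => (h i : A)) := by rw [hlist]
    change (r ∈ Set.range fun i => (h i : A)) ↔ r ∈ gs ++ fs
    rw [h1, List.mem_ofFn]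
    rfl
  have hreg' : LCI.IsKoszulRegularSeq A (List.ofFn (fun i => (h i : A))) := by
    rw [hlist]
    exact hreg
  obtain ⟨b, hb⟩ := Groth.Agent.Lib.T2H9.KoszulCot.exists_basis_cotangent _ h hreg' hspan
  have hx' : x ∈ Submodule.span A (Set.range fs.get) := by
    have : {r | r ∈ fs} = Set.range fs.get := by
      ext r
      exact List.mem_iff_get
    rw [← this]
    exact hxI
  obtain ⟨c, hc⟩ := (Submodule.mem_span_range_iff_exists_fun A).1 hx'
  have hxmem : x ∈ Ideal.ofList (gs ++ fs) := by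
    rw [Ideal.ofList_append]
    exact Ideal.mem_sup_right hxI
  have hxJ' : (⟨x, hxmem⟩ : Ideal.ofList (gs ++ fs)) =
      ∑ k, c k • h (Fin.natAdd gs.length k) := by
    apply Subtype.ext
    rw [AddSubmonoidClass.coe_finsetSum]
    refine hc.symm.trans ?_
    refine Finset.sum_congr rfl fun k _ => ?_
    simp only [h, Fin.append_right]
    rfl
  have h0 : (Ideal.ofList (gs ++ fs)).toCotangent ⟨x, hxmem⟩ = 0 :=
    (Ideal.toCotangent_eq_zero _ _).2 hxJ
  have hli := b.linearIndependent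
  rw [Fintype.linearIndependent_iff] at hli
  have key := hli (fun i => Fin.addCases (fun _ => 0)
    (fun k => Ideal.Quotient.mk (Ideal.ofList (gs ++ fs)) (c k)) i) (by
    rw [Fin.sum_univ_add]
    simp only [Fin.addCases_left, Fin.addCases_right, zero_smul, Finset.sum_const_zero, zero_add]
    rw [← h0, hxJ', map_sum]
    refine Finset.sum_congr rfl fun k _ => ?_
    rw [hb, LinearMap.map_smul_of_tower]
    rfl)
  have hcJ : ∀ k, c k ∈ Ideal.ofList (gs ++ fs) := fun k => by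
    have := key (Fin.natAdd gs.length k)
    rw [Fin.addCases_right] at this
    exact Ideal.Quotient.eq_zero_iff_mem.1 this
  rw [← hc]
  refine Ideal.sum_mem _ fun k _ => ?_
  rw [smul_eq_mul]
  exact Ideal.mul_mem_mul (hcJ k) (Ideal.subset_span (List.get_mem _ _))

end alg

section chart
open Groth.Agent.Lib.T2H9.KoszulComp Groth.Agent.Lib.T2H9.RegImmBC

/-- a chart on which the ideals of `i` and of `j ≫ i` are generated by `fs` and by `gs ++ fs`,
the latter Koszul-regular (refinement of `atLen_koszul_comp`). -/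
theorem exists_koszul_chart {X Y Z : Scheme.{u}} (i : Y ⟶ X) (j : Z ⟶ Y) [IsImmersion i]
    (hi : ∀ y, RegImm.IsRegularImmersionAt .koszul i y)
    (hj : ∀ z, RegImm.IsRegularImmersionAt .koszul j z) (z : Z) :
    ∃ U' : X.Opens, IsAffineOpen U' ∧ i (j z) ∈ U' ∧
      ∃ fs gs : List Γ(X, U'), RingHom.ker (i.app U').hom = Ideal.ofList fs ∧
        RingHom.ker ((j ≫ i).app U').hom = Ideal.ofList (gs ++ fs) ∧
        LCI.IsKoszulRegularSeq Γ(X, U') (gs ++ fs) := by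
  obtain ⟨U, hyU, hclU, fs, hfseq, hfker⟩ := hi (j z)
  obtain ⟨V, hzV, hclV, gs, hgseq, hgker⟩ := hj z
  haveI := hclU
  haveI := hclV
  obtain ⟨O, hO, hOV⟩ := (i.isEmbedding.isInducing.isOpen_iff).mp V.1.2
  have hxO : i (j z) ∈ (⟨O, hO⟩ : X.Opens) ⊓ U.1 := by
    refine ⟨?_, hyU⟩
    show j z ∈ i ⁻¹' O
    rw [hOV]
    exact hzV
  obtain ⟨U', hU', hxU', hle⟩ :=
    TopologicalSpace.Opens.isBasis_iff_nbhd.mp X.isBasis_affineOpens hxO
  have hleU : U' ≤ U.1 := hle.trans inf_le_right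
  obtain ⟨hclU', fs', hfl', hfseq', hfker'⟩ :=
    restrict_data .koszul i U.2 fs hfseq hfker hU' hleU (j z) hxU'
  haveI := hclU'
  have hW : IsAffineOpen (i ⁻¹ᵁ U') := isAffineOpen_preimage_of_restrict i hU'
  have hWV : i ⁻¹ᵁ U' ≤ V.1 := by
    intro y hy
    have h1 : i y ∈ O := (hle hy).1
    have h2 : y ∈ i ⁻¹' O := h1
    rw [hOV] at h2
    exact h2
  have hzW : j z ∈ i ⁻¹ᵁ U' := hxU'
  obtain ⟨hclW, gs', hgl', hgseq', hgker'⟩ :=
    restrict_data .koszul j V.2 gs hgseq hgker hW hWV z hzW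
  haveI := hclW
  have hπ : Function.Surjective (i.app U').hom := app_surjective_of_restrict i hU'
  obtain ⟨gs'', hgs'', hkk⟩ := exists_ker_comp_eq_ofList (i.app U').hom (j.app (i ⁻¹ᵁ U')).hom hπ
    fs' gs' hfker' hgker'
  refine ⟨U', hU', hxU', fs', gs'', hfker', hkk, ?_⟩
  have h1 : LCI.IsKoszulRegularSeq Γ(X, U') fs' := hfseq'
  have h2 : LCI.IsKoszulRegularSeq Γ(Y, i ⁻¹ᵁ U') gs' := hgseq'
  rw [← hgs''] at h2
  exact isKoszulRegularSeq_append (i.app U').hom hπ fs' gs'' hfker' h1 h2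

end chart

section mono
variable {Z Y X : Scheme.{u}} (i : Y ⟶ X) [IsClosedImmersion i] (j : Z ⟶ Y) [IsClosedImmersion j]
  (φ₁ : (Scheme.Modules.pullback j).obj (Omega.conormal i) ⟶ Omega.conormal (j ≫ i))
  (hφ₁ : OmegaSh.IsConormalMap (j ≫ i) i (𝟙 X) j φ₁)

include hφ₁ in
theorem chart_injective {W : X.Opens} (hW : IsAffineOpen W)
    (hIJ : ∀ x : Γ(X, W), x ∈ RingHom.ker (i.app W).hom →
      x ∈ RingHom.ker ((j ≫ i).app W).hom ^ 2 →
      x ∈ RingHom.ker ((j ≫ i).app W).hom * RingHom.ker (i.app W).hom) :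
    Function.Injective (φ₁.app ((j ≫ i) ⁻¹ᵁ W)) := by
  haveI : (Omega.conormal i).IsQuasicoherent :=
    inferInstanceAs ((Scheme.Modules.pullback i).obj (ClSub.idealMod i.ker)).IsQuasicoherent
  have hV : IsAffineOpen (i ⁻¹ᵁ W) := hW.preimage i
  have hT : IsAffineOpen ((j ≫ i) ⁻¹ᵁ W) := hV.preimage j
  have hTV : (j ≫ i) ⁻¹ᵁ W ≤ j ⁻¹ᵁ (i ⁻¹ᵁ W) := le_refl _
  have hTW : (j ≫ i) ⁻¹ᵁ W ≤ (j ≫ i) ⁻¹ᵁ W := le_refl _
  have hVW : i ⁻¹ᵁ W ≤ i ⁻¹ᵁ W := le_refl _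
  letI algCA : Algebra Γ(X, W) Γ(Y, i ⁻¹ᵁ W) := (i.appLE W (i ⁻¹ᵁ W) hVW).hom.toAlgebra
  letI algAR : Algebra Γ(Y, i ⁻¹ᵁ W) Γ(Z, (j ≫ i) ⁻¹ᵁ W) :=
    (j.appLE (i ⁻¹ᵁ W) ((j ≫ i) ⁻¹ᵁ W) hTV).hom.toAlgebra
  letI algCR : Algebra Γ(X, W) Γ(Z, (j ≫ i) ⁻¹ᵁ W) :=
    ((j ≫ i).appLE W ((j ≫ i) ⁻¹ᵁ W) hTW).hom.toAlgebra
  haveI : IsScalarTower Γ(X, W) Γ(Y, i ⁻¹ᵁ W) Γ(Z, (j ≫ i) ⁻¹ᵁ W) := by
    refine IsScalarTower.of_algebraMap_eq fun r => ?_
    have h1 : i.appLE W (i ⁻¹ᵁ W) hVW ≫ j.appLE (i ⁻¹ᵁ W) ((j ≫ i) ⁻¹ᵁ W) hTV =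
        (j ≫ i).appLE W ((j ≫ i) ⁻¹ᵁ W) hTW := Scheme.Hom.appLE_comp_appLE _ _ _ _ _ _ _
    exact congr($h1.symm r)
  have hCA : Function.Surjective (algebraMap Γ(X, W) Γ(Y, i ⁻¹ᵁ W)) := by
    have := Scheme.Hom.app_surjective i W hW
    rw [Scheme.Hom.app_eq_appLE] at this
    exact this
  have hAR : Function.Surjective (algebraMap Γ(Y, i ⁻¹ᵁ W) Γ(Z, (j ≫ i) ⁻¹ᵁ W)) := by
    have := Scheme.Hom.app_surjective j (i ⁻¹ᵁ W) hV
    rw [Scheme.Hom.app_eq_appLE] at this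
    exact this
  have hCR : Function.Surjective (algebraMap Γ(X, W) Γ(Z, (j ≫ i) ⁻¹ᵁ W)) := by
    rw [IsScalarTower.algebraMap_eq Γ(X, W) Γ(Y, i ⁻¹ᵁ W) Γ(Z, (j ≫ i) ⁻¹ᵁ W)]
    exact hAR.comp hCA
  have hkerK : RingHom.ker (algebraMap Γ(X, W) Γ(Y, i ⁻¹ᵁ W)) = RingHom.ker (i.app W).hom := by
    ext b
    rw [RingHom.mem_ker, RingHom.mem_ker]
    change (i.appLE W (i ⁻¹ᵁ W) hVW) b = 0 ↔ _
    rw [← Scheme.Hom.app_eq_appLE]
  have hkerL : RingHom.ker (algebraMap Γ(X, W) Γ(Z, (j ≫ i) ⁻¹ᵁ W)) =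
      RingHom.ker ((j ≫ i).app W).hom := by
    ext b
    rw [RingHom.mem_ker, RingHom.mem_ker]
    change ((j ≫ i).appLE W ((j ≫ i) ⁻¹ᵁ W) hTW) b = 0 ↔ _
    rw [← Scheme.Hom.app_eq_appLE]
  rw [injective_iff_map_eq_zero]
  intro m hm
  obtain ⟨n, rfl⟩ := exists_unitSec_eq j (Omega.conormal i) hTV hV hT rfl hAR m
  obtain ⟨s', rfl⟩ := exists_unitSec_eq i (ClSub.idealMod i.ker) hVW hW hV rfl hCA n
  have h0 : (j ≫ i).app W (OmegaSh.idealSect i.ker W s') = 0 := by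
    have hc := congr($(Scheme.Hom.comp_app j i W) (OmegaSh.idealSect i.ker W s'))
    refine hc.trans ?_
    change (j.app (i ⁻¹ᵁ W)) ((i.app W) (OmegaSh.idealSect i.ker W s')) = 0
    rw [app_idealSect_eq_zero, map_zero]
  obtain ⟨s, hs⟩ := exists_idealSect_eq (j ≫ i) W _ h0
  have hunit1 : unitSec i (ClSub.idealMod i.ker) hVW s' = OmegaSh.conormalSect i W s' := by
    rw [unitSec_apply]
    exact presheaf_map_homOfLE_refl _ _ _
  have hunit2 : unitSec (j ≫ i) (ClSub.idealMod (j ≫ i).ker) hTW s =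
      OmegaSh.conormalSect (j ≫ i) W s := by
    rw [unitSec_apply]
    exact presheaf_map_homOfLE_refl ((Scheme.Modules.pullback (j ≫ i)).obj
      (ClSub.idealMod (j ≫ i).ker)) _ _
  have hφ : φ₁.app ((j ≫ i) ⁻¹ᵁ W) (unitSec j (Omega.conormal i) hTV
      (unitSec i (ClSub.idealMod i.ker) hVW s')) =
      unitSec (j ≫ i) (ClSub.idealMod (j ≫ i).ker) hTW s := by
    rw [hunit1, hunit2, unitSec_apply]
    have := phi1_conormalSect i j φ₁ hφ₁ W s' s hs
    refine Eq.trans ?_ this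
    congr 1
    exact presheaf_map_homOfLE_refl _ _ _
  rw [hφ] at hm
  -- `s ∈ L • ⊤`
  obtain ⟨e, he⟩ := exists_pullback_equiv (j ≫ i) (ClSub.idealMod (j ≫ i).ker) hTW hW hT rfl
  have h1 : (1 : Γ(Z, (j ≫ i) ⁻¹ᵁ W)) ⊗ₜ[Γ(X, W)] s = 0 := by
    apply e.injective
    rw [he, one_smul, hm, map_zero]
    rfl
  have h6 := mem_smul_top_of_one_tmul_eq_zero' hCR s h1
  have h7 : ∀ t ∈ (RingHom.ker (algebraMap Γ(X, W) Γ(Z, (j ≫ i) ⁻¹ᵁ W)) • ⊤ :
      Submodule Γ(X, W) Γ(ClSub.idealMod (j ≫ i).ker, W)),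
      OmegaSh.idealSect (j ≫ i).ker W t ∈
        (RingHom.ker (algebraMap Γ(X, W) Γ(Z, (j ≫ i) ⁻¹ᵁ W))) ^ 2 := by
    intro t ht
    refine Submodule.smul_induction_on ht ?_ ?_
    · intro x hx t' _
      rw [idealSect_smul, pow_two]
      refine Ideal.mul_mem_mul hx ?_
      rw [hkerL, RingHom.mem_ker]
      exact app_idealSect_eq_zero (j ≫ i) _ t'
    · intro x y hx hy
      rw [map_add]
      exact Ideal.add_mem _ hx hy
  have h8 := h7 s h6
  rw [hs, hkerL] at h8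
  have hK : OmegaSh.idealSect i.ker W s' ∈ RingHom.ker (i.app W).hom :=
    RingHom.mem_ker.2 (app_idealSect_eq_zero i W s')
  have h9 := hIJ _ hK h8
  -- `s' ∈ L • ⊤`
  have key2 : ∀ a ∈ RingHom.ker ((j ≫ i).app W).hom * RingHom.ker (i.app W).hom,
      ∀ t : Γ(ClSub.idealMod i.ker, W), OmegaSh.idealSect i.ker W t = a →
      t ∈ (RingHom.ker ((j ≫ i).app W).hom • ⊤ :
        Submodule Γ(X, W) Γ(ClSub.idealMod i.ker, W)) := by
    have hle : RingHom.ker ((j ≫ i).app W).hom * RingHom.ker (i.app W).hom ≤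
        RingHom.ker (i.app W).hom := Ideal.mul_le_right
    intro a ha
    refine Submodule.mul_induction_on' (C := fun a _ => ∀ t : Γ(ClSub.idealMod i.ker, W),
      OmegaSh.idealSect i.ker W t = a → t ∈ (RingHom.ker ((j ≫ i).app W).hom • ⊤ :
        Submodule Γ(X, W) Γ(ClSub.idealMod i.ker, W))) ?_ ?_ ha
    · intro l hl k hk t ht
      obtain ⟨sk, hsk⟩ := exists_idealSect_eq i W k (RingHom.mem_ker.1 hk)
      have e1 : t = l • sk := by
        apply idealSect_injective i.ker W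
        rw [ht, idealSect_smul, hsk]
      rw [e1]
      exact Submodule.smul_mem_smul hl trivial
    · intro x hx y hy ihx ihy t ht
      obtain ⟨sx, hsx⟩ := exists_idealSect_eq i W x (RingHom.mem_ker.1 (hle hx))
      obtain ⟨sy, hsy⟩ := exists_idealSect_eq i W y (RingHom.mem_ker.1 (hle hy))
      have e1 : t = sx + sy := by
        apply idealSect_injective i.ker W
        rw [ht, map_add, hsx, hsy]
      rw [e1]
      exact add_mem (ihx sx hsx) (ihy sy hsy)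
  have h10 := key2 _ h9 s' rfl
  -- the double pullback kills `L • ⊤`
  have hfin : ∀ t ∈ (RingHom.ker ((j ≫ i).app W).hom • ⊤ :
      Submodule Γ(X, W) Γ(ClSub.idealMod i.ker, W)),
      unitSec j ((Scheme.Modules.pullback i).obj (ClSub.idealMod i.ker)) hTV
        (unitSec i (ClSub.idealMod i.ker) hVW t) = 0 := by
    intro t ht
    refine Submodule.smul_induction_on ht ?_ ?_
    · intro l hl t _
      rw [unitSec_smul, unitSec_smul]
      have hl0 : (j.appLE (i ⁻¹ᵁ W) ((j ≫ i) ⁻¹ᵁ W) hTV) ((i.appLE W (i ⁻¹ᵁ W) hVW) l) = 0 := by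
        rw [← hkerL, RingHom.mem_ker,
          IsScalarTower.algebraMap_apply Γ(X, W) Γ(Y, i ⁻¹ᵁ W)] at hl
        exact hl
      rw [hl0, zero_smul]
    · intro x y hx hy
      rw [map_add, map_add, hx, hy, add_zero]
  exact hfin s' h10

end mono

section main
variable {X Y Z : Scheme.{u}} (i : Y ⟶ X) [IsClosedImmersion i] (j : Z ⟶ Y) [IsClosedImmersion j]
  (hi : RegImm.IsRegularImmersion .koszul i) (hj : RegImm.IsRegularImmersion .koszul j)
  (φ₁ : (Scheme.Modules.pullback j).obj (Omega.conormal i) ⟶ Omega.conormal (j ≫ i))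
  (hφ₁ : OmegaSh.IsConormalMap (j ≫ i) i (𝟙 X) j φ₁)
  (φ₂ : (Scheme.Modules.pullback (𝟙 Z)).obj (Omega.conormal (j ≫ i)) ⟶ Omega.conormal j)
  (hφ₂ : OmegaSh.IsConormalMap j (j ≫ i) i (𝟙 Z) φ₂)

include hi hj hφ₁ in
theorem mono_phi1 : Mono φ₁ := by
  haveI : (Omega.conormal i).IsQuasicoherent :=
    inferInstanceAs ((Scheme.Modules.pullback i).obj (ClSub.idealMod i.ker)).IsQuasicoherent
  haveI : (Omega.conormal (j ≫ i)).IsQuasicoherent :=
    inferInstanceAs ((Scheme.Modules.pullback (j ≫ i)).obj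
      (ClSub.idealMod (j ≫ i).ker)).IsQuasicoherent
  haveI := Groth.Agent.Lib.Helper23.QCohLocal.isQuasicoherent_kernel φ₁
  let ι : Type u := {W : X.Opens // IsAffineOpen W ∧
    ∀ x : Γ(X, W), x ∈ RingHom.ker (i.app W).hom →
      x ∈ RingHom.ker ((j ≫ i).app W).hom ^ 2 →
      x ∈ RingHom.ker ((j ≫ i).app W).hom * RingHom.ker (i.app W).hom}
  have hcover : IsOpenCover (fun T : ι => (j ≫ i) ⁻¹ᵁ T.1) := by
    refine IsOpenCover.mk (eq_top_iff.mpr ?_)
    intro z _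
    obtain ⟨U', hU', hzU', fs, gs, hfs, hgs, hreg⟩ := exists_koszul_chart i j hi.2 hj.2 z
    refine Opens.mem_iSup.mpr ⟨⟨U', hU', ?_⟩, hzU'⟩
    intro x hxI hxJ
    rw [hfs] at hxI
    rw [hgs] at hxJ
    rw [hfs, hgs]
    exact mem_mul_of_mem_sq fs gs hreg x hxI hxJ
  have haff : ∀ T : ι, IsAffineOpen ((j ≫ i) ⁻¹ᵁ T.1) := fun T => (T.2.1.preimage i).preimage j
  haveI : Epi (0 : kernel φ₁ ⟶ kernel φ₁) := by
    refine epi_of_surjective_app_cover _ _ hcover haff (fun T k => ⟨0, ?_⟩)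
    rw [map_zero]
    apply OmegaSh.ι_app_injective φ₁
    rw [map_zero]
    apply chart_injective i j φ₁ hφ₁ T.2.1 T.2.2
    rw [map_zero, ← ConcreteCategory.comp_apply, ← Scheme.Modules.Hom.comp_app, kernel.condition]
    rfl
  have h1 : (𝟙 (kernel φ₁)) = 0 := by
    rw [← cancel_epi (0 : kernel φ₁ ⟶ kernel φ₁), zero_comp, zero_comp]
  have h2 : kernel.ι φ₁ = 0 := by
    rw [← Category.id_comp (kernel.ι φ₁), h1, zero_comp]
  exact Preadditive.mono_of_kernel_zero h2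

include hi hj hφ₁ hφ₂ in
/-- S8679 -/
theorem shortExact_conormal :
    ∃ w : φ₁ ≫ ((Scheme.Modules.pullbackId Z).inv.app (Omega.conormal (j ≫ i)) ≫ φ₂) = 0,
      (ShortComplex.mk φ₁
        ((Scheme.Modules.pullbackId Z).inv.app (Omega.conormal (j ≫ i)) ≫ φ₂) w).ShortExact := by
  obtain ⟨hepi, him⟩ := main_S5974 i j φ₁ hφ₁ φ₂ hφ₂
  have w : φ₁ ≫ ((Scheme.Modules.pullbackId Z).inv.app (Omega.conormal (j ≫ i)) ≫ φ₂) = 0 := by
    rw [← imageSubobject_arrow_comp φ₁, Category.assoc]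
    have h1 : (imageSubobject φ₁).arrow = Subobject.ofLE _ _ him.le ≫
        (kernelSubobject ((Scheme.Modules.pullbackId Z).inv.app (Omega.conormal (j ≫ i)) ≫
          φ₂)).arrow := (Subobject.ofLE_arrow him.le).symm
    rw [h1, Category.assoc, kernelSubobject_arrow_comp, comp_zero, comp_zero]
  refine ⟨w, ?_⟩
  haveI := mono_phi1 i j hi hj φ₁ hφ₁
  haveI : Epi ((Scheme.Modules.pullbackId Z).inv.app (Omega.conormal (j ≫ i)) ≫ φ₂) :=
    epi_comp _ _
  exact { exact := (ShortComplex.exact_iff_image_eq_kernel _).2 him }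

end main

end Groth.Agent.Lib.T2H3.KoszulConormal
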