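import Mathlib
import Groth.Prelude.Def_RegImm
import Groth.Agent.S2103
import Groth.Agent.Lib.T2H3KoszulConormal
import Groth.Agent.Lib.Helper20LocFree

/-!
# The conormal sequence of `Z ⟶ Y ⟶ X` with `Z ⟶ Y` an `H_1`-regular immersion
-/

set_option autoImplicit false
set_option linter.style.haveILetI false
set_option linter.unusedSectionVars false
universe u
open CategoryTheory CategoryTheory.Limits AlgebraicGeometry TopologicalSpace Opposite TensorProduct

namespace Groth.Agent.Lib.T2H3.H1Conormal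

open Groth.Agent.Helper18OmLS Groth.Agent.Helper13PullbackUnit

section alg
variable {A B : Type u} [CommRing A] [CommRing B] (π : A →+* B) (hπ : Function.Surjective π)
  {c : ℕ} (g : Fin c → A) (hg : CAlgX.IsH1Regular (fun k => π (g k)))

include hπ hg in
/-- `I ∩ G ⊆ I G` when the images of the generators of `G` are `H_1`-regular modulo `I`. -/
theorem mem_mul_of_mem_inf (y : A) (hyI : y ∈ RingHom.ker π)
    (hyG : y ∈ Ideal.span (Set.range g)) : y ∈ RingHom.ker π * Ideal.span (Set.range g) := by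
  obtain ⟨t, ht⟩ := (Submodule.mem_span_range_iff_exists_fun A).1 hyG
  have hrel : ∑ k, (fun k => π (t k)) k * (fun k => π (g k)) k = 0 := by
    have := RingHom.mem_ker.1 hyI
    rw [← ht, map_sum] at this
    rw [← this]
    refine Finset.sum_congr rfl fun k _ => ?_
    rw [smul_eq_mul, map_mul]
  have hmem := hg _ hrel
  -- every element of the span of trivial relations has a lift whose pairing with `g` lies in `I G`
  have key : ∀ a ∈ Submodule.span B {v : Fin c → B | ∃ i j : Fin c,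
      v = Pi.single i (π (g j)) - Pi.single j (π (g i))},
      ∃ t' : Fin c → A, (∀ k, π (t' k) = a k) ∧
        ∑ k, t' k * g k ∈ RingHom.ker π * Ideal.span (Set.range g) := by
    intro a ha
    refine Submodule.span_induction ?_ ?_ ?_ ?_ ha
    · rintro _ ⟨i, j, rfl⟩
      refine ⟨Pi.single i (g j) - Pi.single j (g i), fun k => ?_, ?_⟩
      · simp only [Pi.sub_apply, map_sub]
        congr 1
        · by_cases h : k = i
          · subst h; simp
          · simp [Pi.single_eq_of_ne h]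
        · by_cases h : k = j
          · subst h; simp
          · simp [Pi.single_eq_of_ne h]
      · have : ∑ k, (Pi.single i (g j) - Pi.single j (g i) : Fin c → A) k * g k = 0 := by
          simp only [Pi.sub_apply, sub_mul, Finset.sum_sub_distrib]
          rw [Finset.sum_eq_single i, Finset.sum_eq_single j]
          · simp only [Pi.single_eq_same]
            ring
          · intro b _ hb
            rw [Pi.single_eq_of_ne hb, zero_mul]
          · intro h; exact absurd (Finset.mem_univ _) h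
          · intro b _ hb
            rw [Pi.single_eq_of_ne hb, zero_mul]
          · intro h; exact absurd (Finset.mem_univ _) h
        rw [this]
        exact zero_mem _
    · exact ⟨0, fun k => by simp, by simp⟩
    · rintro a b _ _ ⟨ta, hta, hta'⟩ ⟨tb, htb, htb'⟩
      refine ⟨ta + tb, fun k => by simp [hta, htb], ?_⟩
      have : ∑ k, (ta + tb) k * g k = ∑ k, ta k * g k + ∑ k, tb k * g k := by
        rw [← Finset.sum_add_distrib]
        refine Finset.sum_congr rfl fun k _ => ?_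
        rw [Pi.add_apply, add_mul]
      rw [this]
      exact add_mem hta' htb'
    · rintro r a _ ⟨ta, hta, hta'⟩
      obtain ⟨r', rfl⟩ := hπ r
      refine ⟨r' • ta, fun k => by simp [hta], ?_⟩
      have : ∑ k, (r' • ta) k * g k = r' * ∑ k, ta k * g k := by
        rw [Finset.mul_sum]
        refine Finset.sum_congr rfl fun k _ => ?_
        rw [Pi.smul_apply, smul_eq_mul, mul_assoc]
      rw [this]
      exact Ideal.mul_mem_left _ _ hta'
  obtain ⟨t', ht', ht'mem⟩ := key _ hmem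
  have hdiff : ∑ k, (t k - t' k) * g k ∈ RingHom.ker π * Ideal.span (Set.range g) := by
    refine Ideal.sum_mem _ fun k _ => ?_
    refine Ideal.mul_mem_mul ?_ (Ideal.subset_span ⟨k, rfl⟩)
    rw [RingHom.mem_ker, map_sub, ht' k, sub_self]
  have : y = ∑ k, (t k - t' k) * g k + ∑ k, t' k * g k := by
    rw [← ht, ← Finset.sum_add_distrib]
    refine Finset.sum_congr rfl fun k _ => ?_
    rw [smul_eq_mul]
    ring
  rw [this]
  exact add_mem hdiff ht'mem

include hπ hg in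
/-- `I ∩ J² ⊆ J I` for `J = I + G`. -/
theorem mem_mul_of_mem_sq (x : A) (hxI : x ∈ RingHom.ker π)
    (hxJ : x ∈ (RingHom.ker π ⊔ Ideal.span (Set.range g)) ^ 2) :
    x ∈ (RingHom.ker π ⊔ Ideal.span (Set.range g)) * RingHom.ker π := by
  set I := RingHom.ker π with hI
  set G := Ideal.span (Set.range g) with hG
  have h1 : (I ⊔ G) ^ 2 ≤ (I ⊔ G) * I ⊔ G * G := by
    rw [pow_two, Ideal.mul_sup]
    refine sup_le le_sup_left ?_
    rw [Ideal.sup_mul]
    refine sup_le ?_ le_sup_right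
    refine le_trans ?_ le_sup_left
    rw [mul_comm I G]
    exact Ideal.mul_mono_left le_sup_right
  obtain ⟨u, hu, y, hy, rfl⟩ := Submodule.mem_sup.1 (h1 hxJ)
  have huI : u ∈ I := Ideal.mul_le_right hu
  have hyI : y ∈ I := by
    have := I.sub_mem hxI huI
    rwa [add_sub_cancel_left] at this
  have hyG : y ∈ G := Ideal.mul_le_left hy
  have h2 := mem_mul_of_mem_inf π hπ g hg y hyI hyG
  refine add_mem hu ?_
  rw [mul_comm]
  exact Ideal.mul_mono_right le_sup_right h2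

end alg

section mono
variable {Z Y X : Scheme.{u}} (i : Y ⟶ X) [IsImmersion i] [QuasiCompact i] (j : Z ⟶ Y) [IsImmersion j]
  [QuasiCompact j]
  (φ₁ : (Scheme.Modules.pullback j).obj (Omega.conormal i) ⟶ Omega.conormal (j ≫ i))
  (hφ₁ : OmegaSh.IsConormalMap (j ≫ i) i (𝟙 X) j φ₁)

include hφ₁ in
theorem chart_injective' {W : X.Opens} (hW : IsAffineOpen W) (hWi : W ≤ i.coborderRange)
    (hVj : i ⁻¹ᵁ W ≤ j.coborderRange)
    (hIJ : ∀ x : Γ(X, W), x ∈ RingHom.ker (i.app W).hom →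
      x ∈ RingHom.ker ((j ≫ i).app W).hom ^ 2 →
      x ∈ RingHom.ker ((j ≫ i).app W).hom * RingHom.ker (i.app W).hom) :
    Function.Injective (φ₁.app ((j ≫ i) ⁻¹ᵁ W)) := by
  haveI : (Omega.conormal i).IsQuasicoherent :=
    inferInstanceAs ((Scheme.Modules.pullback i).obj (ClSub.idealMod i.ker)).IsQuasicoherent
  have hV : IsAffineOpen (i ⁻¹ᵁ W) :=
    Groth.Agent.Lib.Helper20.ConormalStalk.isAffineOpen_preimage i hW hWi
  have hT : IsAffineOpen ((j ≫ i) ⁻¹ᵁ W) :=
    Groth.Agent.Lib.Helper20.ConormalStalk.isAffineOpen_preimage j hV hVj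
  have hTV : (j ≫ i) ⁻¹ᵁ W ≤ j ⁻¹ᵁ (i ⁻¹ᵁ W) := le_refl _
  have hTW : (j ≫ i) ⁻¹ᵁ W ≤ (j ≫ i) ⁻¹ᵁ W := le_refl _
  have hVW : i ⁻¹ᵁ W ≤ i ⁻¹ᵁ W := le_refl _
  letI algCA : Algebra Γ(X, W) Γ(Y, i ⁻¹ᵁ W) := (i.appLE W (i ⁻¹ᵁ W) hVW).hom.toAlgebra
  letI algAR : Algebra Γ(Y, i ⁻¹ᵁ W) Γ(Z, (j ≫ i) ⁻¹ᵁ W) :=
    (j.appLE (i ⁻¹ᵁ W) ((j ≫ i) ⁻¹ᵁ W) hTV).hom.toAlgebra
  letI algCR : Algebra Γ(X, W) Γ(Z, (j ≫ i) ⁻¹ᵁ W) :=
    ((j ≫ i).appLE W ((j ≫ i) ⁻¹ᵁ W) hTW).hom.toAlgebra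
  haveI : IsScalarTower Γ(X, W) Γ(Y, i ⁻¹ᵁ W) Γ(Z, (j ≫ i) ⁻¹ᵁ W) := by
    refine IsScalarTower.of_algebraMap_eq fun r => ?_
    have h1 : i.appLE W (i ⁻¹ᵁ W) hVW ≫ j.appLE (i ⁻¹ᵁ W) ((j ≫ i) ⁻¹ᵁ W) hTV =
        (j ≫ i).appLE W ((j ≫ i) ⁻¹ᵁ W) hTW := Scheme.Hom.appLE_comp_appLE _ _ _ _ _ _ _
    exact congr($h1.symm r)
  have hCA : Function.Surjective (algebraMap Γ(X, W) Γ(Y, i ⁻¹ᵁ W)) := by
    have := Groth.Agent.Lib.Helper20.ConormalStalk.app_surjective i hW hWi
    rw [Scheme.Hom.app_eq_appLE] at this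
    exact this
  have hAR : Function.Surjective (algebraMap Γ(Y, i ⁻¹ᵁ W) Γ(Z, (j ≫ i) ⁻¹ᵁ W)) := by
    have := Groth.Agent.Lib.Helper20.ConormalStalk.app_surjective j hV hVj
    rw [Scheme.Hom.app_eq_appLE] at this
    exact this
  have hCR : Function.Surjective (algebraMap Γ(X, W) Γ(Z, (j ≫ i) ⁻¹ᵁ W)) := by
    rw [IsScalarTower.algebraMap_eq Γ(X, W) Γ(Y, i ⁻¹ᵁ W) Γ(Z, (j ≫ i) ⁻¹ᵁ W)]
    exact hAR.comp hCA
  have hkerK : RingHom.ker (algebraMap Γ(X, W) Γ(Y, i ⁻¹ᵁ W)) = RingHom.ker (i.app W).hom := by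
    ext b
    rw [RingHom.mem_ker, RingHom.mem_ker]
    change (i.appLE W (i ⁻¹ᵁ W) hVW) b = 0 ↔ _
    rw [← Scheme.Hom.app_eq_appLE]
  have hkerL : RingHom.ker (algebraMap Γ(X, W) Γ(Z, (j ≫ i) ⁻¹ᵁ W)) =
      RingHom.ker ((j ≫ i).app W).hom := by
    ext b
    rw [RingHom.mem_ker, RingHom.mem_ker]
    change ((j ≫ i).appLE W ((j ≫ i) ⁻¹ᵁ W) hTW) b = 0 ↔ _
    rw [← Scheme.Hom.app_eq_appLE]
  rw [injective_iff_map_eq_zero]
  intro m hm
  obtain ⟨n, rfl⟩ := exists_unitSec_eq j (Omega.conormal i) hTV hV hT rfl hAR m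
  obtain ⟨s', rfl⟩ := exists_unitSec_eq i (ClSub.idealMod i.ker) hVW hW hV rfl hCA n
  have h0 : (j ≫ i).app W (OmegaSh.idealSect i.ker W s') = 0 := by
    have hc := congr($(Scheme.Hom.comp_app j i W) (OmegaSh.idealSect i.ker W s'))
    refine hc.trans ?_
    change (j.app (i ⁻¹ᵁ W)) ((i.app W) (OmegaSh.idealSect i.ker W s')) = 0
    rw [app_idealSect_eq_zero, map_zero]
  obtain ⟨s, hs⟩ := exists_idealSect_eq (j ≫ i) W _ h0
  have hunit1 : unitSec i (ClSub.idealMod i.ker) hVW s' = OmegaSh.conormalSect i W s' := by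
    rw [unitSec_apply]
    exact presheaf_map_homOfLE_refl _ _ _
  have hunit2 : unitSec (j ≫ i) (ClSub.idealMod (j ≫ i).ker) hTW s =
      OmegaSh.conormalSect (j ≫ i) W s := by
    rw [unitSec_apply]
    exact presheaf_map_homOfLE_refl ((Scheme.Modules.pullback (j ≫ i)).obj
      (ClSub.idealMod (j ≫ i).ker)) _ _
  have hφ : φ₁.app ((j ≫ i) ⁻¹ᵁ W) (unitSec j (Omega.conormal i) hTV
      (unitSec i (ClSub.idealMod i.ker) hVW s')) =
      unitSec (j ≫ i) (ClSub.idealMod (j ≫ i).ker) hTW s := by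
    rw [hunit1, hunit2, unitSec_apply]
    have := phi1_conormalSect i j φ₁ hφ₁ W s' s hs
    refine Eq.trans ?_ this
    congr 1
    exact presheaf_map_homOfLE_refl _ _ _
  rw [hφ] at hm
  -- `s ∈ L • ⊤`
  obtain ⟨e, he⟩ := exists_pullback_equiv (j ≫ i) (ClSub.idealMod (j ≫ i).ker) hTW hW hT rfl
  have h1 : (1 : Γ(Z, (j ≫ i) ⁻¹ᵁ W)) ⊗ₜ[Γ(X, W)] s = 0 := by
    apply e.injective
    rw [he, one_smul, hm, map_zero]
    rfl
  have h6 := mem_smul_top_of_one_tmul_eq_zero' hCR s h1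
  have h7 : ∀ t ∈ (RingHom.ker (algebraMap Γ(X, W) Γ(Z, (j ≫ i) ⁻¹ᵁ W)) • ⊤ :
      Submodule Γ(X, W) Γ(ClSub.idealMod (j ≫ i).ker, W)),
      OmegaSh.idealSect (j ≫ i).ker W t ∈
        (RingHom.ker (algebraMap Γ(X, W) Γ(Z, (j ≫ i) ⁻¹ᵁ W))) ^ 2 := by
    intro t ht
    refine Submodule.smul_induction_on ht ?_ ?_
    · intro x hx t' _
      rw [idealSect_smul, pow_two]
      refine Ideal.mul_mem_mul hx ?_
      rw [hkerL, RingHom.mem_ker]
      exact app_idealSect_eq_zero (j ≫ i) _ t'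
    · intro x y hx hy
      rw [map_add]
      exact Ideal.add_mem _ hx hy
  have h8 := h7 s h6
  rw [hs, hkerL] at h8
  have hK : OmegaSh.idealSect i.ker W s' ∈ RingHom.ker (i.app W).hom :=
    RingHom.mem_ker.2 (app_idealSect_eq_zero i W s')
  have h9 := hIJ _ hK h8
  -- `s' ∈ L • ⊤`
  have key2 : ∀ a ∈ RingHom.ker ((j ≫ i).app W).hom * RingHom.ker (i.app W).hom,
      ∀ t : Γ(ClSub.idealMod i.ker, W), OmegaSh.idealSect i.ker W t = a →
      t ∈ (RingHom.ker ((j ≫ i).app W).hom • ⊤ :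
        Submodule Γ(X, W) Γ(ClSub.idealMod i.ker, W)) := by
    have hle : RingHom.ker ((j ≫ i).app W).hom * RingHom.ker (i.app W).hom ≤
        RingHom.ker (i.app W).hom := Ideal.mul_le_right
    intro a ha
    refine Submodule.mul_induction_on' (C := fun a _ => ∀ t : Γ(ClSub.idealMod i.ker, W),
      OmegaSh.idealSect i.ker W t = a → t ∈ (RingHom.ker ((j ≫ i).app W).hom • ⊤ :
        Submodule Γ(X, W) Γ(ClSub.idealMod i.ker, W))) ?_ ?_ ha
    · intro l hl k hk t ht
      obtain ⟨sk, hsk⟩ := exists_idealSect_eq i W k (RingHom.mem_ker.1 hk)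
      have e1 : t = l • sk := by
        apply idealSect_injective i.ker W
        rw [ht, idealSect_smul, hsk]
      rw [e1]
      exact Submodule.smul_mem_smul hl trivial
    · intro x hx y hy ihx ihy t ht
      obtain ⟨sx, hsx⟩ := exists_idealSect_eq i W x (RingHom.mem_ker.1 (hle hx))
      obtain ⟨sy, hsy⟩ := exists_idealSect_eq i W y (RingHom.mem_ker.1 (hle hy))
      have e1 : t = sx + sy := by
        apply idealSect_injective i.ker W
        rw [ht, map_add, hsx, hsy]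
      rw [e1]
      exact add_mem (ihx sx hsx) (ihy sy hsy)
  have h10 := key2 _ h9 s' rfl
  -- the double pullback kills `L • ⊤`
  have hfin : ∀ t ∈ (RingHom.ker ((j ≫ i).app W).hom • ⊤ :
      Submodule Γ(X, W) Γ(ClSub.idealMod i.ker, W)),
      unitSec j ((Scheme.Modules.pullback i).obj (ClSub.idealMod i.ker)) hTV
        (unitSec i (ClSub.idealMod i.ker) hVW t) = 0 := by
    intro t ht
    refine Submodule.smul_induction_on ht ?_ ?_
    · intro l hl t _
      rw [unitSec_smul, unitSec_smul]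
      have hl0 : (j.appLE (i ⁻¹ᵁ W) ((j ≫ i) ⁻¹ᵁ W) hTV) ((i.appLE W (i ⁻¹ᵁ W) hVW) l) = 0 := by
        rw [← hkerL, RingHom.mem_ker,
          IsScalarTower.algebraMap_apply Γ(X, W) Γ(Y, i ⁻¹ᵁ W)] at hl
        exact hl
      rw [hl0, zero_smul]
    · intro x y hx hy
      rw [map_add, map_add, hx, hy, add_zero]
  exact hfin s' h10

end mono

section chart
open Groth.Agent.Lib.T2H9.KoszulComp Groth.Agent.Lib.T2H9.RegImmBC

theorem ofList_eq_span_range_get {R : Type u} [CommRing R] (rs : List R) :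
    Ideal.ofList rs = Ideal.span (Set.range rs.get) := by
  have : {r | r ∈ rs} = Set.range rs.get := by
    ext r
    exact List.mem_iff_get
  change Ideal.span {r | r ∈ rs} = _
  rw [this]

variable {Z Y X : Scheme.{u}} (i : Y ⟶ X) [IsImmersion i] [QuasiCompact i] (j : Z ⟶ Y)
  [IsImmersion j] [QuasiCompact j]

/-- a chart of `X` around `i (j z)` over which the ideal of `j` is generated by an `H_1`-regular family. -/
theorem exists_h1_chart (hj : ∀ z, RegImm.IsRegularImmersionAt .h1 j z) (z : Z) :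
    ∃ W : X.Opens, IsAffineOpen W ∧ W ≤ i.coborderRange ∧ i ⁻¹ᵁ W ≤ j.coborderRange ∧
      z ∈ (j ≫ i) ⁻¹ᵁ W ∧ ∃ (c : ℕ) (g : Fin c → Γ(Y, i ⁻¹ᵁ W)), CAlgX.IsH1Regular g ∧
        RingHom.ker (j.app (i ⁻¹ᵁ W)).hom = Ideal.span (Set.range g) := by
  obtain ⟨U, hzU, hclU, rs, hseq, hker⟩ := hj z
  haveI := hclU
  obtain ⟨O'set, hO'open, hO'eq⟩ := i.isEmbedding.isInducing.isOpen_iff.mp
    (U.1 ⊓ j.coborderRange).isOpen
  let O' : X.Opens := ⟨O'set, hO'open⟩
  have hO' : ∀ y : Y, i y ∈ O' ↔ y ∈ U.1 ⊓ j.coborderRange := by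
    intro y
    have : y ∈ (i ⁻¹' O'set) ↔ y ∈ ((U.1 ⊓ j.coborderRange : Y.Opens) : Set Y) := by rw [hO'eq]
    exact this
  have hx : i (j z) ∈ i.coborderRange ⊓ O' :=
    ⟨subset_coborder ⟨j z, rfl⟩, (hO' _).mpr ⟨hzU, subset_coborder ⟨z, rfl⟩⟩⟩
  obtain ⟨W, hW, hxW, hWle⟩ := exists_isAffineOpen_mem_and_subset (x := i (j z)) hx
  have hWi : W ≤ i.coborderRange := hWle.trans inf_le_left
  have hVle : i ⁻¹ᵁ W ≤ U.1 ⊓ j.coborderRange := by
    intro y hy
    exact (hO' y).mp ((hWle.trans inf_le_right) hy)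
  have hV : IsAffineOpen (i ⁻¹ᵁ W) :=
    Groth.Agent.Lib.Helper20.ConormalStalk.isAffineOpen_preimage i hW hWi
  obtain ⟨-, rs', -, hseq', hker'⟩ :=
    restrict_data .h1 j U.2 rs hseq hker hV (hVle.trans inf_le_left) z hxW
  refine ⟨W, hW, hWi, hVle.trans inf_le_right, hxW, rs'.length, rs'.get, hseq', ?_⟩
  rw [hker', ofList_eq_span_range_get]

include i in
/-- on such a chart, `I ∩ J² ⊆ J I`. -/
theorem hIJ_of_h1 {W : X.Opens} (hW : IsAffineOpen W) (hWi : W ≤ i.coborderRange)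
    {c : ℕ} (g : Fin c → Γ(Y, i ⁻¹ᵁ W)) (hg : CAlgX.IsH1Regular g)
    (hker : RingHom.ker (j.app (i ⁻¹ᵁ W)).hom = Ideal.span (Set.range g))
    (x : Γ(X, W)) (hxI : x ∈ RingHom.ker (i.app W).hom)
    (hxJ : x ∈ RingHom.ker ((j ≫ i).app W).hom ^ 2) :
    x ∈ RingHom.ker ((j ≫ i).app W).hom * RingHom.ker (i.app W).hom := by
  have hπ : Function.Surjective (i.app W).hom :=
    Groth.Agent.Lib.Helper20.ConormalStalk.app_surjective i hW hWi
  choose gt hgt using fun k => hπ (g k)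
  have hg' : CAlgX.IsH1Regular (fun k => (i.app W).hom (gt k)) := by
    have : (fun k => (i.app W).hom (gt k)) = g := funext hgt
    rw [this]
    exact hg
  have hJ : RingHom.ker ((j ≫ i).app W).hom =
      RingHom.ker (i.app W).hom ⊔ Ideal.span (Set.range gt) := by
    have h1 : RingHom.ker ((j ≫ i).app W).hom =
        (RingHom.ker (j.app (i ⁻¹ᵁ W)).hom).comap (i.app W).hom := by
      rw [RingHom.comap_ker]
      rfl
    have h2 : Ideal.span (Set.range g) = (Ideal.span (Set.range gt)).map (i.app W).hom := by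
      rw [Ideal.map_span]
      congr 1
      ext b
      constructor
      · rintro ⟨k, rfl⟩
        exact ⟨gt k, ⟨k, rfl⟩, hgt k⟩
      · rintro ⟨_, ⟨k, rfl⟩, rfl⟩
        exact ⟨k, (hgt k).symm⟩
    rw [h1, hker, h2, Ideal.comap_map_of_surjective _ hπ, sup_comm]
    rfl
  rw [hJ] at hxJ ⊢
  exact mem_mul_of_mem_sq (i.app W).hom hπ gt hg' x hxI hxJ

end chart

section main
variable {Z Y X : Scheme.{u}} (i : Y ⟶ X) [IsImmersion i] [QuasiCompact i] (j : Z ⟶ Y)
  [IsImmersion j] [QuasiCompact j] (hj : RegImm.IsRegularImmersion RegImm.Kind.h1 j)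
  (φ₁ : (Scheme.Modules.pullback j).obj (Omega.conormal i) ⟶ Omega.conormal (j ≫ i))
  (hφ₁ : OmegaSh.IsConormalMap (j ≫ i) i (𝟙 X) j φ₁)

include hj hφ₁ in
theorem mono_phi1 : Mono φ₁ := by
  haveI : (Omega.conormal i).IsQuasicoherent :=
    inferInstanceAs ((Scheme.Modules.pullback i).obj (ClSub.idealMod i.ker)).IsQuasicoherent
  haveI : (Omega.conormal (j ≫ i)).IsQuasicoherent :=
    inferInstanceAs ((Scheme.Modules.pullback (j ≫ i)).obj
      (ClSub.idealMod (j ≫ i).ker)).IsQuasicoherent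
  haveI := Groth.Agent.Lib.Helper23.QCohLocal.isQuasicoherent_kernel φ₁
  let ι : Type u := {W : X.Opens // IsAffineOpen W ∧ W ≤ i.coborderRange ∧
    i ⁻¹ᵁ W ≤ j.coborderRange ∧
    ∀ x : Γ(X, W), x ∈ RingHom.ker (i.app W).hom →
      x ∈ RingHom.ker ((j ≫ i).app W).hom ^ 2 →
      x ∈ RingHom.ker ((j ≫ i).app W).hom * RingHom.ker (i.app W).hom}
  have hcover : IsOpenCover (fun T : ι => (j ≫ i) ⁻¹ᵁ T.1) := by
    refine IsOpenCover.mk (eq_top_iff.mpr ?_)
    intro z _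
    obtain ⟨W, hW, hWi, hVj, hzW, c, g, hg, hker⟩ := exists_h1_chart i j hj.2 z
    exact Opens.mem_iSup.mpr ⟨⟨W, hW, hWi, hVj, hIJ_of_h1 i j hW hWi g hg hker⟩, hzW⟩
  have haff : ∀ T : ι, IsAffineOpen ((j ≫ i) ⁻¹ᵁ T.1) := fun T =>
    Groth.Agent.Lib.Helper20.ConormalStalk.isAffineOpen_preimage j
      (Groth.Agent.Lib.Helper20.ConormalStalk.isAffineOpen_preimage i T.2.1 T.2.2.1) T.2.2.2.1
  haveI : Epi (0 : kernel φ₁ ⟶ kernel φ₁) := by
    refine epi_of_surjective_app_cover _ _ hcover haff (fun T k => ⟨0, ?_⟩)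
    rw [map_zero]
    apply OmegaSh.ι_app_injective φ₁
    rw [map_zero]
    apply chart_injective' i j φ₁ hφ₁ T.2.1 T.2.2.1 T.2.2.2.1 T.2.2.2.2
    rw [map_zero, ← ConcreteCategory.comp_apply, ← Scheme.Modules.Hom.comp_app, kernel.condition]
    rfl
  have h1 : (𝟙 (kernel φ₁)) = 0 := by
    rw [← cancel_epi (0 : kernel φ₁ ⟶ kernel φ₁), zero_comp, zero_comp]
  have h2 : kernel.ι φ₁ = 0 := by
    rw [← Category.id_comp (kernel.ι φ₁), h1, zero_comp]
  exact Preadditive.mono_of_kernel_zero h2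

end main

section locfree
variable {Z Y : Scheme.{u}} (j : Z ⟶ Y) [IsImmersion j] [QuasiCompact j]

/-- over a chart on which the ideal of `j` is generated by a quasi-regular family, the conormal sheaf
has a basis of sections. -/
theorem basis_conormal {U : Y.Opens} (hU : IsAffineOpen U) (hUj : U ≤ j.coborderRange)
    {c : ℕ} (g : Fin c → Γ(Y, U)) (hg : CAlgX.IsQuasiRegular g)
    (hker : RingHom.ker (j.app U).hom = Ideal.span (Set.range g)) :
    Nonempty (Module.Basis (Fin c) Γ(Z, j ⁻¹ᵁ U) Γ(Omega.conormal j, j ⁻¹ᵁ U)) := by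
  have hT : IsAffineOpen (j ⁻¹ᵁ U) :=
    Groth.Agent.Lib.Helper20.ConormalStalk.isAffineOpen_preimage j hU hUj
  have hle : j ⁻¹ᵁ U ≤ j ⁻¹ᵁ U := le_refl _
  letI alg : Algebra Γ(Y, U) Γ(Z, j ⁻¹ᵁ U) := (j.appLE U (j ⁻¹ᵁ U) hle).hom.toAlgebra
  have hsurj : Function.Surjective (algebraMap Γ(Y, U) Γ(Z, j ⁻¹ᵁ U)) := by
    have := Groth.Agent.Lib.Helper20.ConormalStalk.app_surjective j hU hUj
    rw [Scheme.Hom.app_eq_appLE] at this
    exact this
  have hkerK : RingHom.ker (algebraMap Γ(Y, U) Γ(Z, j ⁻¹ᵁ U)) = RingHom.ker (j.app U).hom := by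
    ext b
    rw [RingHom.mem_ker, RingHom.mem_ker]
    change (j.appLE U (j ⁻¹ᵁ U) hle) b = 0 ↔ _
    rw [← Scheme.Hom.app_eq_appLE]
  have hsex : ∀ k, ∃ s : Γ(ClSub.idealMod j.ker, U), OmegaSh.idealSect j.ker U s = g k := fun k =>
    exists_idealSect_eq j U (g k) (by
      have : g k ∈ RingHom.ker (j.app U).hom := by
        rw [hker]
        exact Ideal.subset_span ⟨k, rfl⟩
      exact RingHom.mem_ker.1 this)
  choose sk hsk using hsex
  let v : Fin c → Γ((Scheme.Modules.pullback j).obj (ClSub.idealMod j.ker), j ⁻¹ᵁ U) := fun k =>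
    unitSec j (ClSub.idealMod j.ker) hle (sk k)
  have hsum : ∀ b : Fin c → Γ(Y, U), unitSec j (ClSub.idealMod j.ker) hle (∑ k, b k • sk k) =
      ∑ k, algebraMap Γ(Y, U) Γ(Z, j ⁻¹ᵁ U) (b k) • v k := by
    intro b
    rw [map_sum]
    refine Finset.sum_congr rfl fun k _ => ?_
    rw [unitSec_smul]
    rfl
  have hli : LinearIndependent Γ(Z, j ⁻¹ᵁ U) v := by
    rw [Fintype.linearIndependent_iff]
    intro r hr k
    choose b hb using fun k => hsurj (r k)
    have h0 : unitSec j (ClSub.idealMod j.ker) hle (∑ k, b k • sk k) = 0 := by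
      rw [hsum]
      simp only [hb]
      exact hr
    obtain ⟨e, he⟩ := exists_pullback_equiv j (ClSub.idealMod j.ker) hle hU hT rfl
    have h1 : (1 : Γ(Z, j ⁻¹ᵁ U)) ⊗ₜ[Γ(Y, U)] (∑ k, b k • sk k) = 0 := by
      apply e.injective
      rw [he, one_smul, h0, map_zero]
    have h6 := mem_smul_top_of_one_tmul_eq_zero' hsurj _ h1
    have h7 : ∀ t ∈ (RingHom.ker (algebraMap Γ(Y, U) Γ(Z, j ⁻¹ᵁ U)) • ⊤ :
        Submodule Γ(Y, U) Γ(ClSub.idealMod j.ker, U)),
        OmegaSh.idealSect j.ker U t ∈ (RingHom.ker (algebraMap Γ(Y, U) Γ(Z, j ⁻¹ᵁ U))) ^ 2 := by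
      intro t ht
      refine Submodule.smul_induction_on ht ?_ ?_
      · intro x hx t' _
        rw [idealSect_smul, pow_two]
        refine Ideal.mul_mem_mul hx ?_
        rw [hkerK, RingHom.mem_ker]
        exact app_idealSect_eq_zero j _ t'
      · intro x y hx hy
        rw [map_add]
        exact Ideal.add_mem _ hx hy
    have h8 := h7 _ h6
    rw [hkerK, hker] at h8
    have h9 : OmegaSh.idealSect j.ker U (∑ k, b k • sk k) = ∑ k, b k * g k := by
      rw [map_sum]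
      refine Finset.sum_congr rfl fun k _ => ?_
      rw [idealSect_smul, hsk]
    rw [h9] at h8
    let P : MvPolynomial (Fin c) Γ(Y, U) := ∑ k, MvPolynomial.C (b k) * MvPolynomial.X k
    have hP : P.IsHomogeneous 1 := by
      refine MvPolynomial.IsHomogeneous.sum _ _ _ (fun k _ => ?_)
      have := (MvPolynomial.isHomogeneous_C (Fin c) (b k)).mul
        (MvPolynomial.isHomogeneous_X Γ(Y, U) k)
      rwa [zero_add] at this
    have hev : MvPolynomial.eval g P = ∑ k, b k * g k := by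
      simp only [P, map_sum, map_mul, MvPolynomial.eval_C, MvPolynomial.eval_X]
    have hc := hg 1 P hP (by rw [hev]; exact h8) (Finsupp.single k 1)
    have hcoeff : P.coeff (Finsupp.single k 1) = b k := by
      classical
      simp only [P, MvPolynomial.coeff_sum, MvPolynomial.coeff_C_mul, MvPolynomial.coeff_X]
      rw [Finset.sum_eq_single k]
      · simp
      · intro k' _ hk'
        have : ¬ (Finsupp.single k' 1 = Finsupp.single k 1) := by
          intro h
          exact hk' ((Finsupp.single_left_inj one_ne_zero).1 h)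
        simp [this]
      · intro h
        exact absurd (Finset.mem_univ _) h
    rw [hcoeff, ← hker, ← hkerK, RingHom.mem_ker, hb] at hc
    exact hc
  have hsp : ⊤ ≤ Submodule.span Γ(Z, j ⁻¹ᵁ U) (Set.range v) := by
    intro t _
    obtain ⟨s, rfl⟩ := exists_unitSec_eq j (ClSub.idealMod j.ker) hle hU hT rfl hsurj t
    have hs : OmegaSh.idealSect j.ker U s ∈ Ideal.span (Set.range g) := by
      rw [← hker, RingHom.mem_ker]
      exact app_idealSect_eq_zero j U s
    obtain ⟨b, hb⟩ := (Submodule.mem_span_range_iff_exists_fun _).1 hs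
    have e1 : s = ∑ k, b k • sk k := by
      apply idealSect_injective j.ker U
      rw [map_sum, ← hb]
      refine Finset.sum_congr rfl fun k _ => ?_
      rw [idealSect_smul, hsk, smul_eq_mul]
    rw [e1, hsum]
    exact Submodule.sum_mem _ fun k _ =>
      Submodule.smul_mem _ _ (Submodule.subset_span ⟨k, rfl⟩)
  exact ⟨Module.Basis.mk hli hsp⟩

open Groth.Agent.Lib.T2H9.KoszulComp in
theorem isFinLocFree_conormal_of_h1 (hj : RegImm.IsRegularImmersion RegImm.Kind.h1 j) :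
    FlatMod.IsFinLocFree (Omega.conormal j) := by
  haveI : (Omega.conormal j).IsQuasicoherent :=
    inferInstanceAs ((Scheme.Modules.pullback j).obj (ClSub.idealMod j.ker)).IsQuasicoherent
  intro z
  obtain ⟨U, hzU, hclU, rs, hseq, hker⟩ := hj.2 z
  haveI := hclU
  have hx : j z ∈ U.1 ⊓ j.coborderRange := ⟨hzU, subset_coborder ⟨z, rfl⟩⟩
  obtain ⟨U', hU', hzU', hU'le⟩ := exists_isAffineOpen_mem_and_subset (x := j z) hx
  obtain ⟨-, rs', -, hseq', hker'⟩ :=
    restrict_data .h1 j U.2 rs hseq hker hU' (hU'le.trans inf_le_left) z hzU'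
  have hq : CAlgX.IsQuasiRegular rs'.get := Groth.Agent.S2103.result rs'.get hseq'
  rw [ofList_eq_span_range_get] at hker'
  obtain ⟨b⟩ := basis_conormal j hU' (hU'le.trans inf_le_right) rs'.get hq hker'
  have hT : IsAffineOpen (j ⁻¹ᵁ U') :=
    Groth.Agent.Lib.Helper20.ConormalStalk.isAffineOpen_preimage j hU' (hU'le.trans inf_le_right)
  exact ⟨j ⁻¹ᵁ U', rs'.length, hzU',
    ⟨Groth.Agent.Lib.Helper20.LocFree.restrictIsoFreeMod (Omega.conormal j) hT b⟩⟩

end locfree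

section S8919
variable {Z Y X : Scheme.{u}} (i : Z ⟶ Y) (j : Y ⟶ X) [IsImmersion i] [IsImmersion j]
  [QuasiCompact i] [QuasiCompact j]
  (a : (Scheme.Modules.pullback i).obj (Omega.conormal j) ⟶ Omega.conormal (i ≫ j))
  (ha : OmegaSh.IsConormalMap (i ≫ j) j (𝟙 X) i a)
  (b : (Scheme.Modules.pullback (𝟙 Z)).obj (Omega.conormal (i ≫ j)) ⟶ Omega.conormal i)
  (hb : OmegaSh.IsConormalMap i (i ≫ j) j (𝟙 Z) b)
  (hi : RegImm.IsRegularImmersion RegImm.Kind.h1 i)

include ha hb hi in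
theorem main_S8919 :
    a ≫ ((Scheme.Modules.pullbackId Z).inv.app (Omega.conormal (i ≫ j)) ≫ b) = 0 ∧
      (∀ w : a ≫ ((Scheme.Modules.pullbackId Z).inv.app (Omega.conormal (i ≫ j)) ≫ b) = 0,
        (ShortComplex.mk a ((Scheme.Modules.pullbackId Z).inv.app (Omega.conormal (i ≫ j)) ≫ b)
          w).ShortExact) ∧
      FlatMod.IsFinLocFree (Omega.conormal i) := by
  obtain ⟨hepi, him⟩ := main_S5974 j i a ha b hb
  have w : a ≫ ((Scheme.Modules.pullbackId Z).inv.app (Omega.conormal (i ≫ j)) ≫ b) = 0 := by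
    rw [← imageSubobject_arrow_comp a, Category.assoc]
    have h1 : (imageSubobject a).arrow = Subobject.ofLE _ _ him.le ≫
        (kernelSubobject ((Scheme.Modules.pullbackId Z).inv.app (Omega.conormal (i ≫ j)) ≫
          b)).arrow := (Subobject.ofLE_arrow him.le).symm
    rw [h1, Category.assoc, kernelSubobject_arrow_comp, comp_zero, comp_zero]
  refine ⟨w, fun w' => ?_, isFinLocFree_conormal_of_h1 i hi⟩
  haveI := mono_phi1 j i hi a ha
  haveI : Epi ((Scheme.Modules.pullbackId Z).inv.app (Omega.conormal (i ≫ j)) ≫ b) :=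
    epi_comp _ _
  exact { exact := (ShortComplex.exact_iff_image_eq_kernel _).2 him }

end S8919

end Groth.Agent.Lib.T2H3.H1Conormal
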