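import Groth.Agent.Lib.T2H6RankAdd
import Groth.Agent.Lib.Helper2RelTildeMonoEpi
import Groth.Agent.Lib.Helper26ModRank
import Groth.Agent.Lib.LeadLffRank
import Groth.Agent.Lib.Helper20LocFree
import Groth.Agent.Lib.T2H3H1Conormal
import Groth.Agent.Lib.T2H9KoszulH1
import Groth.Agent.Lib.T2H3ConormalComp
import Groth.Agent.Lib.Helper18Con3

/-!
# The conormal sheaf of a complete intersection of Koszul-regular closed subschemes (S7781)

* `isIso_of_epi_of_rank`: an epimorphism between locally free modules of the same finite rank is an isomorphism.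
* `isFinLocFreeOfRank_sigma`: finite coproducts of locally free modules.
* `isFinLocFreeOfRank_conormal`: the conormal sheaf of a Koszul-regular immersion of codimension `d`.
* `main_S7781`.
-/

set_option autoImplicit false
set_option linter.style.haveILetI false
set_option linter.unusedSectionVars false
universe u
open CategoryTheory CategoryTheory.Limits AlgebraicGeometry TopologicalSpace Opposite

namespace Groth.Agent.Lib.T2H3.ConormalInter

open Groth.Agent.Helper18OmLS Groth.Agent.Helper13PullbackUnit Groth.Agent.Lib.Helper4.NormDelta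

section stalks
variable {X : Scheme.{u}}

/-- a morphism of modules injective on all stalks is a monomorphism. -/
theorem mono_of_stalkLin_injective {M N : X.Modules} (φ : M ⟶ N)
    (h : ∀ x : X, Function.Injective (stalkLin φ x)) : Mono φ := by
  apply Groth.Agent.Lib.Helper2.RelTildeMonoEpi.mono_of_app_injective
  intro U
  rw [injective_iff_map_eq_zero]
  intro m hm
  refine TopCat.Presheaf.section_ext ⟨M.presheaf, M.isSheaf⟩ U m 0 (fun x hx => ?_)
  apply h x
  have h1 := stalkLin_germ φ x U hx m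
  rw [hm] at h1
  erw [h1]
  rw [map_zero, map_zero, map_zero]

/-- a surjective linear map between finite free modules of the same rank is injective. -/
theorem injective_of_surjective_of_finrank_eq {R : Type*} [CommRing R] [Nontrivial R]
    {M N : Type*} [AddCommGroup M] [Module R M] [AddCommGroup N] [Module R N]
    [Module.Free R M] [Module.Finite R M] [Module.Free R N] [Module.Finite R N]
    (hr : Module.finrank R M = Module.finrank R N) (f : M →ₗ[R] N) (hf : Function.Surjective f) :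
    Function.Injective f := by
  let bM := Module.finBasis R M
  let bN := Module.finBasis R N
  let e : M ≃ₗ[R] N := bM.equiv bN (finCongr hr)
  exact OrzechProperty.injective_of_surjective_of_injective e.toLinearMap f e.injective hf

/-- an epimorphism between locally free modules of the same finite rank is an isomorphism. -/
theorem isIso_of_epi_of_rank {M N : X.Modules} (n : ℕ) (hM : FlatMod.IsFinLocFreeOfRank n M)
    (hN : FlatMod.IsFinLocFreeOfRank n N) (φ : M ⟶ N) [Epi φ] : IsIso φ := by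
  haveI : Mono φ := by
    apply mono_of_stalkLin_injective
    intro x
    obtain ⟨f1, g1, r1⟩ := Groth.Agent.Lib.T2H6.RankAdd.free_finite_stalk M n hM x
    obtain ⟨f2, g2, r2⟩ := Groth.Agent.Lib.T2H6.RankAdd.free_finite_stalk N n hN x
    exact injective_of_surjective_of_finrank_eq (r1.trans r2.symm) (stalkLin φ x)
      (stalkLin_surjective φ x)
  exact isIso_of_mono_of_epi φ

end stalks

section sigma
variable {X : Scheme.{u}}

/-- the free module of rank `∑ d l` as an iterated coproduct. -/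
noncomputable def sigmaFreeIso (Y : Scheme.{u}) {r : ℕ} (d : Fin r → ℕ) :
    (∐ fun l : Fin r => FlatMod.freeMod Y (d l)) ≅ FlatMod.freeMod Y (∑ l, d l) :=
  sigmaSigmaIso (fun l : Fin r => Fin (d l)) (fun _ _ => Coh.structureModule Y) ≪≫
    Sigma.reindex (finSigmaFinEquiv (n := d)) (fun _ : Fin (∑ l, d l) => Coh.structureModule Y)

/-- a finite coproduct of locally free modules of finite ranks is locally free of the sum of the ranks. -/
theorem isFinLocFreeOfRank_sigma {r : ℕ} (M : Fin r → X.Modules) (d : Fin r → ℕ)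
    (h : ∀ l, FlatMod.IsFinLocFreeOfRank (d l) (M l)) :
    FlatMod.IsFinLocFreeOfRank (∑ l, d l) (∐ M) := by
  haveI : ∀ l, (M l).IsQuasicoherent := fun l =>
    Groth.Agent.Lib.Lead.LffRank.isQuasicoherent_of_isFinLocFreeOfRank (M l) (d l) (h l)
  intro x
  choose U hxU e using fun l => h l x
  let W : X.Opens := ⟨⋂ l, ((U l : X.Opens) : Set X), isOpen_iInter_of_finite fun l => (U l).isOpen⟩
  have hxW : x ∈ W := Set.mem_iInter.2 hxU
  obtain ⟨V, hV, hxV, hVW⟩ := exists_isAffineOpen_mem_and_subset (x := x) (U := W) hxW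
  have hVU : ∀ l, V ≤ U l := fun l y hy => Set.mem_iInter.1 (hVW hy) l
  have hb : ∀ l, Nonempty (Module.Basis (Fin (d l)) Γ(X, V)
      ((Groth.Agent.Lib.Helper20.Thickening.ΓUF hV).obj (M l))) := fun l =>
    Groth.Agent.Lib.Helper26.ModRank.nonempty_basis_of_restrict_iso (M l) (e l).some hV (hVU l)
  let b := fun l => (hb l).some
  haveI : PreservesColimitsOfShape (Discrete (Fin r)) (Scheme.Modules.pullback V.ι) :=
    (Scheme.Modules.pullbackPushforwardAdjunction V.ι).leftAdjoint_preservesColimits.preservesColimitsOfShape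
  haveI : PreservesColimitsOfShape (Discrete (Fin r)) (Scheme.Modules.restrictFunctor V.ι) :=
    preservesColimitsOfShape_of_natIso (Scheme.Modules.restrictFunctorIsoPullback V.ι).symm
  refine ⟨V, hxV, ⟨?_⟩⟩
  exact PreservesCoproduct.iso (Scheme.Modules.restrictFunctor V.ι) M ≪≫
    Sigma.mapIso (fun l => Groth.Agent.Lib.Helper20.LocFree.restrictIsoFreeMod' (M l) hV (b l)) ≪≫
    sigmaFreeIso (V : Scheme.{u}) d

end sigma

section rank
variable {Z Y : Scheme.{u}} (j : Z ⟶ Y) [IsImmersion j] [QuasiCompact j]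

open Groth.Agent.Lib.T2H9.KoszulComp Groth.Agent.Lib.T2H3.H1Conormal in
/-- the conormal sheaf of a Koszul-regular immersion of codimension `d` is locally free of rank `d`. -/
theorem isFinLocFreeOfRank_conormal (d : ℕ)
    (hj : RegImm.IsRegularImmersionOfCodim RegImm.Kind.koszul d j) :
    FlatMod.IsFinLocFreeOfRank d (Omega.conormal j) := by
  haveI : (Omega.conormal j).IsQuasicoherent :=
    inferInstanceAs ((Scheme.Modules.pullback j).obj (ClSub.idealMod j.ker)).IsQuasicoherent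
  intro z
  obtain ⟨U, hzU, hclU, rs, hlen, hseq, hker⟩ := hj.2 z
  haveI := hclU
  have hx : j z ∈ U.1 ⊓ j.coborderRange := ⟨hzU, subset_coborder ⟨z, rfl⟩⟩
  obtain ⟨U', hU', hzU', hU'le⟩ := exists_isAffineOpen_mem_and_subset (x := j z) hx
  obtain ⟨-, rs', hlen', hseq', hker'⟩ :=
    restrict_data .koszul j U.2 rs hseq hker hU' (hU'le.trans inf_le_left) z hzU'
  have hh1 : CAlgX.IsH1Regular rs'.get :=
    Groth.Agent.Lib.T2H9.KoszulH1.isH1Regular_of_isKoszulRegularSeq rs' hseq'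
  have hq : CAlgX.IsQuasiRegular rs'.get := Groth.Agent.S2103.result rs'.get hh1
  rw [ofList_eq_span_range_get] at hker'
  obtain ⟨b⟩ := basis_conormal j hU' (hU'le.trans inf_le_right) rs'.get hq hker'
  have hT : IsAffineOpen (j ⁻¹ᵁ U') :=
    Groth.Agent.Lib.Helper20.ConormalStalk.isAffineOpen_preimage j hU' (hU'le.trans inf_le_right)
  have hd : rs'.length = d := hlen'.trans hlen
  exact ⟨j ⁻¹ᵁ U', hzU',
    ⟨Groth.Agent.Lib.Helper20.LocFree.restrictIsoFreeMod (Omega.conormal j) hT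
      (b.reindex (finCongr hd))⟩⟩

end rank

section epi
variable {X Y : Scheme.{u}} {r : ℕ} {Xs : Fin r → Scheme.{u}} (j : ∀ l, Xs l ⟶ X)
  [∀ l, IsClosedImmersion (j l)] (i : Y ⟶ X) [IsClosedImmersion i]
  (hY : ∀ U : X.affineOpens, i.ker.ideal U = ⨆ l, (j l).ker.ideal U)
  (g : ∀ l, Y ⟶ Xs l) (hg : ∀ l, g l ≫ j l = i)

include hg in
theorem hsq (l : Fin r) : g l ≫ j l = i ≫ 𝟙 X := by rw [hg l, Category.comp_id]

variable (a : ∀ l, (Scheme.Modules.pullback (g l)).obj (Omega.conormal (j l)) ⟶ Omega.conormal i)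
  (ha : ∀ (l : Fin r) (U' : X.Opens) (s' : Γ(ClSub.idealMod (j l).ker, U')),
    (a l).app ((g l) ⁻¹ᵁ ((j l) ⁻¹ᵁ U')) (OmegaSh.pullSect (g l) (Omega.conormal (j l))
      ((j l) ⁻¹ᵁ U') (OmegaSh.conormalSect (j l) U' s')) =
    cls i ((𝟙 X) ⁻¹ᵁ U') ((g l) ⁻¹ᵁ ((j l) ⁻¹ᵁ U'))
      (Groth.Agent.Helper18Con.sq_le i (j l) (𝟙 X) (g l) (hsq j i g hg l) U')
      (Scheme.Hom.app (𝟙 X) U' (OmegaSh.idealSect (j l).ker U' s')))

include ha in
theorem cls_mem_range (l : Fin r) (U : X.Opens) (f : Γ(X, U)) (hf : (j l).app U f = 0) :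
    ∃ y, (Sigma.desc a).app (i ⁻¹ᵁ U) y = cls i U (i ⁻¹ᵁ U) le_rfl f := by
  obtain ⟨s', hs'⟩ := exists_idealSect_eq (j l) U f hf
  have hTV : (g l) ⁻¹ᵁ ((j l) ⁻¹ᵁ U) = i ⁻¹ᵁ U := by rw [← hg l]; rfl
  have hVT : i ⁻¹ᵁ U ≤ (g l) ⁻¹ᵁ ((j l) ⁻¹ᵁ U) := hTV.ge
  have hif : i.app U f = 0 := by
    have h := Scheme.Hom.congr_app (hg l).symm U
    rw [Scheme.Hom.comp_app] at h
    have h2 := congr($h f)
    refine h2.trans ?_
    change (Y.presheaf.map _) ((g l).app ((j l) ⁻¹ᵁ U) ((j l).app U f)) = 0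
    rw [hf, map_zero, map_zero]
  let P := (Scheme.Modules.pullback (g l)).obj (Omega.conormal (j l))
  let m : Γ(P, (g l) ⁻¹ᵁ ((j l) ⁻¹ᵁ U)) :=
    OmegaSh.pullSect (g l) (Omega.conormal (j l)) ((j l) ⁻¹ᵁ U) (OmegaSh.conormalSect (j l) U s')
  let m' : Γ(P, i ⁻¹ᵁ U) := P.presheaf.map (homOfLE hVT).op m
  refine ⟨(Sigma.ι (fun l => (Scheme.Modules.pullback (g l)).obj (Omega.conormal (j l))) l).app
    (i ⁻¹ᵁ U) m', ?_⟩
  have h1 : (Sigma.desc a).app (i ⁻¹ᵁ U)
      ((Sigma.ι (fun l => (Scheme.Modules.pullback (g l)).obj (Omega.conormal (j l))) l).app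
        (i ⁻¹ᵁ U) m') = (a l).app (i ⁻¹ᵁ U) m' := by
    have h := Sigma.ι_desc a l
    exact congr(($h).app (i ⁻¹ᵁ U) m')
  rw [h1, Groth.Agent.Lib.T2H3.ConormalComp.app_res (a l) hVT m, ha l U s', hs']
  have hx : i.app ((𝟙 X) ⁻¹ᵁ U) (Scheme.Hom.app (𝟙 X) U f) = 0 := by
    have : Scheme.Hom.app (𝟙 X) U f = f := by
      rw [Scheme.Hom.id_app]; rfl
    rw [this]
    exact hif
  have h2 := cls_res i ((𝟙 X) ⁻¹ᵁ U) U ((g l) ⁻¹ᵁ ((j l) ⁻¹ᵁ U)) (i ⁻¹ᵁ U)
    (Groth.Agent.Helper18Con.sq_le i (j l) (𝟙 X) (g l) (hsq j i g hg l) U) le_rfl le_rfl hVT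
    (Scheme.Hom.app (𝟙 X) U f) hx
  have hfx : X.presheaf.map (homOfLE (le_refl U : U ≤ (𝟙 X) ⁻¹ᵁ U)).op
      (Scheme.Hom.app (𝟙 X) U f) = f := by
    rw [Scheme.Hom.id_app]
    change (X.presheaf.map (𝟙 _)) f = f
    rw [CategoryTheory.Functor.map_id]
    rfl
  exact h2.symm.trans (congrArg (cls i U (i ⁻¹ᵁ U) le_rfl) hfx)


include hg in
theorem app_zero (l : Fin r) (U : X.Opens) (f : Γ(X, U)) (hf : (j l).app U f = 0) :
    i.app U f = 0 := by
  have h := Scheme.Hom.congr_app (hg l).symm U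
  rw [Scheme.Hom.comp_app] at h
  have h2 := congr($h f)
  refine h2.trans ?_
  change (Y.presheaf.map _) ((g l).app ((j l) ⁻¹ᵁ U) ((j l).app U f)) = 0
  rw [hf, map_zero, map_zero]

theorem le_coborderRange (U : X.Opens) : U ≤ i.coborderRange := by
  intro x _
  change x ∈ coborder (Set.range i)
  rw [IsClosed.coborder_eq i.isClosedEmbedding.isClosed_range]
  trivial

include hY ha in
theorem surjective_app {U : X.Opens} (hU : IsAffineOpen U) :
    Function.Surjective ((Sigma.desc a).app (i ⁻¹ᵁ U)) := by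
  have hUc : U ≤ i.coborderRange := le_coborderRange i U
  have hT : IsAffineOpen (i ⁻¹ᵁ U) :=
    Groth.Agent.Lib.Helper20.ConormalStalk.isAffineOpen_preimage i hU hUc
  have hle : i ⁻¹ᵁ U ≤ i ⁻¹ᵁ U := le_refl _
  letI alg : Algebra Γ(X, U) Γ(Y, i ⁻¹ᵁ U) := (i.appLE U (i ⁻¹ᵁ U) hle).hom.toAlgebra
  have hsurj : Function.Surjective (algebraMap Γ(X, U) Γ(Y, i ⁻¹ᵁ U)) := by
    have := Groth.Agent.Lib.Helper20.ConormalStalk.app_surjective i hU hUc
    rw [Scheme.Hom.app_eq_appLE] at this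
    exact this
  intro t
  obtain ⟨s, rfl⟩ := exists_unitSec_eq i (ClSub.idealMod i.ker) hle hU hT rfl hsurj t
  rw [← cls_eq i U (i ⁻¹ᵁ U) hle _ s rfl]
  have hmem : OmegaSh.idealSect i.ker U s ∈ ⨆ l, RingHom.ker ((j l).app U).hom := by
    have h0 : OmegaSh.idealSect i.ker U s ∈ i.ker.ideal ⟨U, hU⟩ := by
      rw [Scheme.Hom.ker_apply]
      exact RingHom.mem_ker.2 (app_idealSect_eq_zero i U s)
    rw [hY] at h0
    simpa only [Scheme.Hom.ker_apply] using h0
  refine (Submodule.iSup_induction (fun l => RingHom.ker ((j l).app U).hom)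
    (motive := fun f => i.app U f = 0 ∧
      ∃ y, (Sigma.desc a).app (i ⁻¹ᵁ U) y = cls i U (i ⁻¹ᵁ U) hle f) hmem ?_ ?_ ?_).2
  · intro l f hf
    exact ⟨app_zero j i g hg l U f (RingHom.mem_ker.1 hf),
      cls_mem_range j i g hg a ha l U f (RingHom.mem_ker.1 hf)⟩
  · exact ⟨map_zero _, 0, (map_zero _).trans (cls_zero i U _ hle).symm⟩
  · rintro f f' ⟨h1, y, hy⟩ ⟨h1', y', hy'⟩
    refine ⟨by rw [map_add, h1, h1', add_zero], y + y', ?_⟩
    refine (map_add _ y y').trans ?_
    rw [hy, hy']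
    exact (cls_add i U _ hle f f' h1 h1').symm

include hY ha in
theorem epi_desc
    [(∐ fun l => (Scheme.Modules.pullback (g l)).obj (Omega.conormal (j l))).IsQuasicoherent] :
    Epi (Sigma.desc a) := by
  haveI : (Omega.conormal i).IsQuasicoherent :=
    inferInstanceAs ((Scheme.Modules.pullback i).obj (ClSub.idealMod i.ker)).IsQuasicoherent
  refine Groth.Agent.Helper18OmLS.epi_of_surjective_app_cover (Sigma.desc a)
    (fun U : X.affineOpens => i ⁻¹ᵁ U.1) ?_ ?_ ?_
  · refine IsOpenCover.mk (eq_top_iff.mpr ?_)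
    intro y _
    obtain ⟨U, hU, hyU, -⟩ := exists_isAffineOpen_mem_and_subset (x := i y) (U := ⊤) trivial
    exact Opens.mem_iSup.mpr ⟨⟨U, hU⟩, hyU⟩
  · intro U
    exact Groth.Agent.Lib.Helper20.ConormalStalk.isAffineOpen_preimage i U.2
      (le_coborderRange i U.1)
  · intro U
    exact surjective_app j i hY g hg a ha U.2

end epi

section main

/-- **S7781** -/
theorem main_S7781 (X Y : Scheme.{u}) (r : ℕ)
    (Xs : Fin r → Scheme.{u}) (j : ∀ l, Xs l ⟶ X) [∀ l, IsClosedImmersion (j l)] (d : Fin r → ℕ)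
    (hj : ∀ l, RegImm.IsRegularImmersionOfCodim RegImm.Kind.koszul (d l) (j l))
    (i : Y ⟶ X) [IsClosedImmersion i]
    (hY : ∀ U : X.affineOpens, i.ker.ideal U = ⨆ l, (j l).ker.ideal U)
    (g : ∀ l, Y ⟶ Xs l) (hg : ∀ l, g l ≫ j l = i)
    (hi : RegImm.IsRegularImmersionOfCodim RegImm.Kind.koszul (∑ l, d l) i) :
    Nonempty (Omega.conormal i ≅
      ∐ fun l => (Scheme.Modules.pullback (g l)).obj (Omega.conormal (j l))) := by
  have hex := fun l =>
    Groth.Agent.Helper18Con.exists_conormalMap i (j l) (𝟙 X) (g l) (hsq j i g hg l)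
  choose a ha1 ha2 ha3 using hex
  have hrk1 : ∀ l, FlatMod.IsFinLocFreeOfRank (d l)
      ((Scheme.Modules.pullback (g l)).obj (Omega.conormal (j l))) := fun l => by
    haveI : (Omega.conormal (j l)).IsQuasicoherent :=
      inferInstanceAs ((Scheme.Modules.pullback (j l)).obj
        (ClSub.idealMod (j l).ker)).IsQuasicoherent
    exact Groth.Agent.Lib.Helper26.ModRank.isFinLocFreeOfRank_pullback (g l) _
      (isFinLocFreeOfRank_conormal (j l) (d l) (hj l))
  have hrk := isFinLocFreeOfRank_sigma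
    (fun l => (Scheme.Modules.pullback (g l)).obj (Omega.conormal (j l))) d hrk1
  have hrk' := isFinLocFreeOfRank_conormal i _ hi
  haveI := Groth.Agent.Lib.Lead.LffRank.isQuasicoherent_of_isFinLocFreeOfRank _ _ hrk
  haveI : Epi (Sigma.desc a) := epi_desc j i hY g hg a ha3
  haveI := isIso_of_epi_of_rank _ hrk hrk' (Sigma.desc a)
  exact ⟨(asIso (Sigma.desc a)).symm⟩

end main

end Groth.Agent.Lib.T2H3.ConormalInter
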