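import Groth.Agent.Lib.T2H3ConormalComp
import Groth.Agent.Lib.Helper18Con3
import Groth.Agent.Lib.Helper18UT9
import Groth.Agent.Lib.Helper18OmLS14
import Groth.Agent.Lib.Helper23ModLocal

set_option autoImplicit false
set_option linter.style.haveILetI false
set_option linter.unusedSectionVars false
universe u
open CategoryTheory AlgebraicGeometry Limits TopologicalSpace Opposite

namespace Groth.Agent.Lib.T2H3.ConormalSplit

open Groth.Agent.Helper18OmLS Groth.Agent.Helper18Om Groth.Agent.Helper18Con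
open Groth.Agent.Lib.T2H3.ConormalComp

section lift

/-- formally smooth morphisms lift against arbitrary first order thickenings of affine schemes. -/
theorem exists_lift {X Y T T' : Scheme.{u}} (p : X ⟶ Y) (hp : MoreMor.IsFormallySmoothHom p)
    [IsAffine T'] (j : T ⟶ T') (hj : MoreMor.IsFirstOrderThickening j) (a₀ : T ⟶ X) (b₀ : T' ⟶ Y)
    (hw : j ≫ b₀ = a₀ ≫ p) : ∃ l : T' ⟶ X, j ≫ l = a₀ ∧ l ≫ p = b₀ := by
  obtain ⟨⟨hci, hsurj⟩, hsq⟩ := hj
  haveI := hci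
  obtain ⟨hTaff, hρsurj⟩ := IsClosedImmersion.isAffine_surjective_of_isAffine j
  haveI := hTaff
  have hker : RingHom.ker j.appTop.hom ^ 2 = ⊥ := by
    have h1 := Scheme.ker_of_isAffine j
    rw [h1] at hsq
    have h2 := congrArg (Scheme.IdealSheafData.equivOfIsAffine (X := T')) hsq
    rw [map_mul] at h2
    have h3 : Scheme.IdealSheafData.equivOfIsAffine (X := T')
        (Scheme.IdealSheafData.ofIdealTop (RingHom.ker j.appTop.hom)) = RingHom.ker j.appTop.hom :=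
      (Scheme.IdealSheafData.equivOfIsAffine (X := T')).apply_symm_apply _
    rw [h3] at h2
    rw [pow_two]
    refine h2.trans ?_
    exact map_zero (Scheme.IdealSheafData.equivOfIsAffine (X := T'))
  let C : Type u := Γ(T', ⊤)
  let D : Type u := Γ(T, ⊤)
  let ρ : C →+* D := j.appTop.hom
  let I : Ideal C := RingHom.ker ρ
  have hI : I ^ 2 = ⊥ := hker
  let e : C ⧸ I ≃+* D := RingHom.quotientKerEquivOfSurjective hρsurj
  have he : ∀ c : C, e (Ideal.Quotient.mk I c) = ρ c := fun c => rfl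
  let eh : CommRingCat.of (C ⧸ I) ⟶ Γ(T, ⊤) := CommRingCat.ofHom e.toRingHom
  let ei : Γ(T, ⊤) ⟶ CommRingCat.of (C ⧸ I) := CommRingCat.ofHom e.symm.toRingHom
  have hei : eh ≫ ei = 𝟙 _ := by
    ext x
    exact e.symm_apply_apply x
  have hie : ei ≫ eh = 𝟙 _ := by
    ext x
    exact e.apply_symm_apply x
  have hmk : CommRingCat.ofHom (Ideal.Quotient.mk I) ≫ eh = j.appTop := by
    ext c
    rfl
  have hmk' : j.appTop ≫ ei = CommRingCat.ofHom (Ideal.Quotient.mk I) := by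
    rw [← hmk, Category.assoc, hei, Category.comp_id]
  let a : Spec (CommRingCat.of (C ⧸ I)) ⟶ X := Spec.map ei ≫ T.isoSpec.inv ≫ a₀
  let b : Spec (CommRingCat.of C) ⟶ Y := T'.isoSpec.inv ≫ b₀
  have hab : Spec.map (CommRingCat.ofHom (Ideal.Quotient.mk I)) ≫ b = a ≫ p := by
    simp only [a, b, Category.assoc]
    rw [← hw, ← Scheme.isoSpec_inv_naturality_assoc, ← Spec.map_comp_assoc, hmk']
  obtain ⟨l, hl1, hl2⟩ := hp C I hI a b hab
  refine ⟨T'.isoSpec.hom ≫ l, ?_, ?_⟩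
  · rw [← Scheme.isoSpec_hom_naturality_assoc, ← hmk, Spec.map_comp, Category.assoc, hl1]
    simp only [a]
    rw [← Spec.map_comp_assoc, hie, Spec.map_id, Category.id_comp, Iso.hom_inv_id_assoc]
  · rw [Category.assoc, hl2]
    simp only [b]
    rw [Iso.hom_inv_id_assoc]

end lift

section split
variable {Z Z' Z'' T T' : Scheme.{u}} (i' : Z ⟶ Z') (i'' : Z ⟶ Z'') (k : Z' ⟶ Z'')
  [IsImmersion i'] [QuasiCompact i'] [IsImmersion i''] [QuasiCompact i'']
  (jT : T ⟶ T') [IsImmersion jT] [QuasiCompact jT] (u : T ⟶ Z) (u'' : T' ⟶ Z'')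
  (hsq : IsPullback jT u u'' i'') (hflat : Flat u'')
  (g : T' ⟶ Z') (hg₁ : jT ≫ g = u ≫ i') (hg₂ : g ≫ k = u'')
  (ψ : (Scheme.Modules.pullback (𝟙 Z)).obj (Omega.conormal i'') ⟶ Omega.conormal i')
  (hψ : OmegaSh.IsConormalMap i' i'' k (𝟙 Z) ψ)

theorem isIso_of_isConormalMap_of_eq {Z₁ X₁ Z₂ X₂ : Scheme.{u}} (i₁ : Z₁ ⟶ X₁) (i₂ : Z₂ ⟶ X₂)
    [IsImmersion i₁] [IsImmersion i₂] [QuasiCompact i₁] [QuasiCompact i₂]
    (g₀ g₁ : X₁ ⟶ X₂) (gZ₀ gZ₁ : Z₁ ⟶ Z₂) (hg : g₁ = g₀) (hgZ : gZ₁ = gZ₀)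
    (hsq : IsPullback i₁ gZ₀ g₀ i₂) (hflat : Flat g₀)
    (φ : (Scheme.Modules.pullback gZ₁).obj (Omega.conormal i₂) ⟶ Omega.conormal i₁)
    (hφ : OmegaSh.IsConormalMap i₁ i₂ g₁ gZ₁ φ) : IsIso φ := by
  subst hg hgZ
  exact (main_S9372 i₁ i₂ g₁ gZ₁ hsq φ hφ).2 hflat

include hsq hflat hg₁ hg₂ hψ in
/-- a section `g` of `k` over an open gives a retraction of the pulled back conormal map. -/
theorem exists_retraction_pullback :
    ∃ r : (Scheme.Modules.pullback u).obj (Omega.conormal i') ⟶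
        (Scheme.Modules.pullback u).obj
          ((Scheme.Modules.pullback (𝟙 Z)).obj (Omega.conormal i'')),
      (Scheme.Modules.pullback u).map ψ ≫ r = 𝟙 _ := by
  obtain ⟨ρ, hρ, -, -⟩ := exists_conormalMap jT i' g u hg₁.symm
  have hcomp := isConormalMap_comp jT i' i'' g u k (𝟙 Z) ρ hρ ψ hψ
  obtain ⟨Tm, hTm⟩ : ∃ Tm, Tm = (Scheme.Modules.pullbackComp u (𝟙 Z)).inv.app (Omega.conormal i'') ≫
      (Scheme.Modules.pullback u).map ψ ≫ ρ := ⟨_, rfl⟩
  rw [← hTm] at hcomp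
  haveI hiso : IsIso Tm := isIso_of_isConormalMap_of_eq jT i'' u'' (g ≫ k) u (u ≫ 𝟙 Z) hg₂
    (Category.comp_id u) hsq hflat _ hcomp
  refine ⟨ρ ≫ inv Tm ≫ (Scheme.Modules.pullbackComp u (𝟙 Z)).inv.app (Omega.conormal i''), ?_⟩
  have h1 : (Scheme.Modules.pullback u).map ψ ≫ ρ =
      (Scheme.Modules.pullbackComp u (𝟙 Z)).hom.app (Omega.conormal i'') ≫ Tm := by
    rw [hTm, ← Category.assoc, Iso.hom_inv_id_app, Category.id_comp]
  rw [← Category.assoc, h1, Category.assoc, IsIso.hom_inv_id_assoc, Iso.hom_inv_id_app]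
  rfl

include hsq hflat hg₁ hg₂ hψ in
/-- the same for the restriction functor along an open immersion. -/
theorem exists_retraction_restrict [IsOpenImmersion u] :
    ∃ r : (Scheme.Modules.restrictFunctor u).obj (Omega.conormal i') ⟶
        (Scheme.Modules.restrictFunctor u).obj
          ((Scheme.Modules.pullback (𝟙 Z)).obj (Omega.conormal i'')),
      (Scheme.Modules.restrictFunctor u).map ψ ≫ r = 𝟙 _ := by
  obtain ⟨r, hr⟩ := exists_retraction_pullback i' i'' k jT u u'' hsq hflat g hg₁ hg₂ ψ hψ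
  refine ⟨(Scheme.Modules.restrictFunctorIsoPullback u).hom.app _ ≫ r ≫
    (Scheme.Modules.restrictFunctorIsoPullback u).inv.app _, ?_⟩
  rw [← Category.assoc, (Scheme.Modules.restrictFunctorIsoPullback u).hom.naturality ψ,
    Category.assoc, reassoc_of% hr, Iso.hom_inv_id_app]

end split

section main
variable {Z X Y Z' Z'' : Scheme.{u}} (i : Z ⟶ X) (p : X ⟶ Y)
    (hp : MoreMor.IsFormallySmoothHom p)
    (i' : Z ⟶ Z') (a : Z' ⟶ X) (hZ' : OmegaSh.IsUnivThickening i i' a)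
    (i'' : Z ⟶ Z'') (b : Z'' ⟶ Y) (hZ'' : OmegaSh.IsUnivThickening (i ≫ p) i'' b)
    (k : Z' ⟶ Z'') (hk₁ : i' ≫ k = i'') (hk₂ : k ≫ b = a ≫ p)

include hp hZ' hZ'' hk₁ hk₂ in
/-- local retractions of the canonical map `C_{Z/Z''} ⟶ C_{Z/Z'}` when `p` is formally smooth. -/
theorem exists_local_retraction [IsImmersion i'] [QuasiCompact i'] [IsImmersion i'']
    [QuasiCompact i'']
    (ψ : (Scheme.Modules.pullback (𝟙 Z)).obj (Omega.conormal i'') ⟶ Omega.conormal i')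
    (hψ : OmegaSh.IsConormalMap i' i'' k (𝟙 Z) ψ) (z : Z) :
    ∃ (U : Z.Opens) (r : (Scheme.Modules.restrictFunctor U.ι).obj (Omega.conormal i') ⟶
          (Scheme.Modules.restrictFunctor U.ι).obj
            ((Scheme.Modules.pullback (𝟙 Z)).obj (Omega.conormal i''))),
        z ∈ U ∧ (Scheme.Modules.restrictFunctor U.ι).map ψ ≫ r = 𝟙 _ := by
  obtain ⟨U'', hU''aff, hzU'', -⟩ := exists_isAffineOpen_mem_and_subset (x := i'' z)
    (U := (⊤ : Z''.Opens)) trivial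
  haveI : IsAffine U''.toScheme := hU''aff
  have hpb : IsPullback (i'' ∣_ U'') (i'' ⁻¹ᵁ U'').ι U''.ι i'' := isPullback_morphismRestrict i'' U''
  have hjT : MoreMor.IsFirstOrderThickening (i'' ∣_ U'') :=
    Groth.Agent.Lib.Helper20.IdealComap.isFirstOrderThickening_of_isPullback hpb.flip hZ''.1
  haveI : IsClosedImmersion (i'' ∣_ U'') := hjT.1.1
  have hw : (i'' ∣_ U'') ≫ U''.ι ≫ b = ((i'' ⁻¹ᵁ U'').ι ≫ i) ≫ p := by
    rw [← Category.assoc, morphismRestrict_ι, Category.assoc, hZ''.2.1, Category.assoc]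
  obtain ⟨l, hl1, hl2⟩ := exists_lift p hp (i'' ∣_ U'') hjT ((i'' ⁻¹ᵁ U'').ι ≫ i) (U''.ι ≫ b) hw
  obtain ⟨g, ⟨hg1, hg2⟩, -⟩ := hZ'.2.2 _ _ (i'' ∣_ U'') l (i'' ⁻¹ᵁ U'').ι hjT hl1
  have hgk : g ≫ k = U''.ι := by
    obtain ⟨a', -, hun⟩ := hZ''.2.2 _ _ (i'' ∣_ U'') (U''.ι ≫ b) (i'' ⁻¹ᵁ U'').ι hjT
      (by rw [hw, Category.assoc])
    rw [hun (g ≫ k) ⟨by rw [← Category.assoc, hg1, Category.assoc, hk₁],
      by rw [Category.assoc, hk₂, ← Category.assoc, hg2, hl2]⟩]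
    exact (hun U''.ι ⟨morphismRestrict_ι i'' U'', rfl⟩).symm
  obtain ⟨r, hr⟩ := exists_retraction_restrict i' i'' k (i'' ∣_ U'') (i'' ⁻¹ᵁ U'').ι U''.ι hpb
    inferInstance g hg1 hgk ψ hψ
  exact ⟨i'' ⁻¹ᵁ U'', r, hzU'', hr⟩

end main

end Groth.Agent.Lib.T2H3.ConormalSplit
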