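import Groth.Agent.Lib.T2H3ConormalComp
import Groth.Agent.Lib.Helper18Con3
import Groth.Agent.Lib.Helper18UT10
import Groth.Agent.S9741

set_option autoImplicit false
set_option linter.style.haveILetI false
set_option linter.unusedSectionVars false
universe u
open CategoryTheory AlgebraicGeometry Limits TopologicalSpace Opposite

namespace Groth.Agent.Lib.T2H3.ConormalTrans

open Groth.Agent.Helper18OmLS Groth.Agent.Helper18Om Groth.Agent.Helper18Con
open Groth.Agent.Lib.T2H3.ConormalComp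

section general
variable {Z Z'' Z' Y Y' : Scheme.{u}} (i'' : Z ⟶ Z'') (n : Z'' ⟶ Z') (e : Z'' ⟶ Y) (j : Y ⟶ Y')
  (m : Z' ⟶ Y') [IsClosedImmersion i''] [IsClosedImmersion n] [IsClosedImmersion j]
  (hsq : IsPullback n e m j)

include hsq in
/-- the exact sequence of conormal sheaves for `Z ⟶ Z'' ⟶ Z'` where `Z''` is the base change of
a closed immersion `j : Y ⟶ Y'`. -/
theorem exact_of_isPullback
    (ψ₁ : (Scheme.Modules.pullback (i'' ≫ e)).obj (Omega.conormal j) ⟶ Omega.conormal (i'' ≫ n))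
    (hψ₁ : OmegaSh.IsConormalMap (i'' ≫ n) j m (i'' ≫ e) ψ₁)
    (ψ₂ : (Scheme.Modules.pullback (𝟙 Z)).obj (Omega.conormal (i'' ≫ n)) ⟶ Omega.conormal i'')
    (hψ₂ : OmegaSh.IsConormalMap i'' (i'' ≫ n) n (𝟙 Z) ψ₂) :
    ∃ w : (Scheme.Modules.pullback (𝟙 Z)).map ψ₁ ≫ ψ₂ = 0,
      (ShortComplex.mk _ _ w).Exact ∧ Epi ψ₂ := by
  obtain ⟨φ₁, hφ₁, -, -⟩ := exists_conormalMap (i'' ≫ n) n (𝟙 Z') i'' (Category.comp_id _).symm
  obtain ⟨φ₀, hφ₀, -, -⟩ := exists_conormalMap n j m e hsq.w.symm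
  obtain ⟨hepi₂, him⟩ := main_S5974 n i'' φ₁ hφ₁ ψ₂ hψ₂
  have hepi₀ : Epi φ₀ := (main_S9372 n j m e hsq φ₀ hφ₀).1
  have hcomp := isConormalMap_comp (i'' ≫ n) n j (𝟙 Z') i'' m e φ₁ hφ₁ φ₀ hφ₀
  rw [Category.id_comp] at hcomp
  obtain ⟨ψ, -, huniq, -⟩ := exists_conormalMap (i'' ≫ n) j m (i'' ≫ e) hψ₁.1
  have hψ₁eq : ψ₁ = (Scheme.Modules.pullbackComp i'' e).inv.app (Omega.conormal j) ≫
      (Scheme.Modules.pullback i'').map φ₀ ≫ φ₁ := (huniq ψ₁ hψ₁).trans (huniq _ hcomp).symm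
  have h1 : (Scheme.Modules.pullback i'').PreservesEpimorphisms :=
    Functor.preservesEpimorphisms_of_adjunction (Scheme.Modules.pullbackPushforwardAdjunction i'')
  haveI : Epi ((Scheme.Modules.pullback i'').map φ₀) :=
    @Functor.map_epi _ _ _ _ (Scheme.Modules.pullback i'') h1 _ _ φ₀ hepi₀
  -- the exact complex from S5974
  have wT : φ₁ ≫ ((Scheme.Modules.pullbackId Z).inv.app (Omega.conormal (i'' ≫ n)) ≫ ψ₂) = 0 := by
    have h1 : (imageSubobject φ₁).arrow ≫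
        ((Scheme.Modules.pullbackId Z).inv.app (Omega.conormal (i'' ≫ n)) ≫ ψ₂) = 0 := by
      rw [him]
      exact kernelSubobject_arrow_comp _
    rw [← imageSubobject_arrow_comp φ₁, Category.assoc, h1, comp_zero]
  have hT : (ShortComplex.mk φ₁ _ wT).Exact :=
    (ShortComplex.exact_iff_image_eq_kernel (ShortComplex.mk φ₁ _ wT)).mpr him
  let τ₁ : (Scheme.Modules.pullback (𝟙 Z)).obj
      ((Scheme.Modules.pullback (i'' ≫ e)).obj (Omega.conormal j)) ⟶
      (Scheme.Modules.pullback i'').obj (Omega.conormal n) :=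
    (Scheme.Modules.pullbackId Z).hom.app _ ≫
      (Scheme.Modules.pullbackComp i'' e).inv.app (Omega.conormal j) ≫
      (Scheme.Modules.pullback i'').map φ₀
  have hnat : (Scheme.Modules.pullback (𝟙 Z)).map ψ₁ ≫
      (Scheme.Modules.pullbackId Z).hom.app (Omega.conormal (i'' ≫ n)) = τ₁ ≫ φ₁ := by
    have := (Scheme.Modules.pullbackId Z).hom.naturality ψ₁
    rw [this, hψ₁eq]
    simp only [τ₁, Category.assoc]
    rfl
  have w : (Scheme.Modules.pullback (𝟙 Z)).map ψ₁ ≫ ψ₂ = 0 := by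
    have h2 : ψ₂ = (Scheme.Modules.pullbackId Z).hom.app (Omega.conormal (i'' ≫ n)) ≫
        ((Scheme.Modules.pullbackId Z).inv.app (Omega.conormal (i'' ≫ n)) ≫ ψ₂) := by
      rw [← Category.assoc, Iso.hom_inv_id_app, Category.id_comp]
    rw [h2, ← Category.assoc, hnat, Category.assoc, wT, comp_zero]
  refine ⟨w, ?_, hepi₂⟩
  let Φ : ShortComplex.mk _ _ w ⟶ ShortComplex.mk φ₁ _ wT :=
    { τ₁ := τ₁
      τ₂ := (Scheme.Modules.pullbackId Z).hom.app (Omega.conormal (i'' ≫ n))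
      τ₃ := 𝟙 _
      comm₁₂ := hnat.symm
      comm₂₃ := by
        change (Scheme.Modules.pullbackId Z).hom.app (Omega.conormal (i'' ≫ n)) ≫
          ((Scheme.Modules.pullbackId Z).inv.app (Omega.conormal (i'' ≫ n)) ≫ ψ₂) = ψ₂ ≫ 𝟙 _
        rw [← Category.assoc, Iso.hom_inv_id_app, Category.id_comp, Category.comp_id] }
  haveI : Epi Φ.τ₁ := by
    change Epi ((Scheme.Modules.pullbackId Z).hom.app _ ≫
      (Scheme.Modules.pullbackComp i'' e).inv.app (Omega.conormal j) ≫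
      (Scheme.Modules.pullback i'').map φ₀)
    infer_instance
  haveI : IsIso Φ.τ₂ := by
    change IsIso ((Scheme.Modules.pullbackId Z).hom.app (Omega.conormal (i'' ≫ n)))
    infer_instance
  haveI : Mono Φ.τ₃ := by
    change Mono (𝟙 _)
    infer_instance
  exact (ShortComplex.exact_iff_of_epi_of_isIso_of_mono Φ).mpr hT

end general

end Groth.Agent.Lib.T2H3.ConormalTrans
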