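import Mathlib
import Groth.Prelude.Def_TwC

/-!
# Homomorphisms from a quasi-compact group scheme to a torsion-free constant group are trivial
-/

set_option autoImplicit false
set_option linter.style.haveILetI false
set_option linter.unusedSectionVars false
universe u

namespace Groth.Agent.Lib.T2H3.ConstGrpHom

open CategoryTheory MonoidalCategory CartesianMonoidalCategory MonObj GrpObj AlgebraicGeometry Limits

variable {S : Scheme.{u}} (Z : Type u) [Group Z]

/-- the component of index `z` of the constant scheme -/
noncomputable abbrev comp (z : Z) : S ⟶ (TwC.const S Z).left := Sigma.ι (fun _ : Z => S) z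

theorem comp_hom (z : Z) : comp (S := S) Z z ≫ (TwC.const S Z).hom = 𝟙 S := by
  simp [comp]

/-- a morphism to the constant scheme whose image lies in the component `z` is the constant
point `z`. -/
theorem eq_const_of_range_subset {T : Over S} (h : T ⟶ TwC.const S Z) (z : Z)
    (hr : Set.range h.left ⊆ Set.range (comp (S := S) Z z)) :
    h = toUnit T ≫ TwC.pt S Z z := by
  ext1
  have h1 := IsOpenImmersion.lift_fac (comp (S := S) Z z) h.left hr
  have h2 : IsOpenImmersion.lift (comp (S := S) Z z) h.left hr = T.hom := by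
    have := Over.w h
    rw [← h1, Category.assoc, comp_hom, Category.comp_id] at this
    exact this
  rw [← h1, h2]
  have h3 : (toUnit T).left = T.hom := by simp
  rw [Over.comp_left, h3]
  rfl

variable {Z}
variable {G : Over S} [GrpObj G] (e : G ≅ TwC.const S Z) (hG : TwC.IsConstGrp Z G e)

/-- the constant `T`-point of index `z` -/
noncomputable def cst (T : Over S) (z : Z) : T ⟶ G := toUnit T ≫ TwC.pt S Z z ≫ e.inv

include hG in
theorem cst_mul (T : Over S) (z w : Z) : cst e T (z * w) = cst e T z * cst e T w := by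
  unfold cst
  rw [← hG z w, MonObj.comp_mul]

include hG in
theorem cst_pow (T : Over S) (z : Z) (n : ℕ) : cst e T (z ^ (n + 1)) = cst e T z ^ (n + 1) := by
  induction n with
  | zero => simp
  | succ n ih => rw [pow_succ, cst_mul e hG, ih, ← pow_succ]

include hG in
theorem cst_one (T : Over S) : cst e T (1 : Z) = 1 := by
  have := cst_mul e hG T 1 1
  rw [_root_.one_mul] at this
  exact (mul_eq_left.mp this.symm)

theorem cst_left_apply (T : Over S) (z : Z) (τ : T.left) :
    (cst e T z ≫ e.hom).left τ ∈ Set.range (comp (S := S) Z z) := by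
  unfold cst
  rw [Category.assoc, Category.assoc, e.inv_hom_id, Category.comp_id]
  refine ⟨(toUnit T).left τ, ?_⟩
  rfl

variable (hZ : ∀ z : Z, IsOfFinOrder z → z = 1)
  {P : Over S} [GrpObj P] [CompactSpace P.left]

include hG hZ in
theorem hom_eq_one (c : P ⟶ G) [IsMonHom c] : c = 1 := by
  classical
  -- every point lies over the component of `1`
  have hcover : ∀ y : (TwC.const S Z).left, ∃ z : Z, y ∈ Set.range (comp (S := S) Z z) := by
    intro y
    obtain ⟨z, x, hx⟩ := (sigmaOpenCover (fun _ : Z => S)).exists_eq y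
    exact ⟨z, x, hx⟩
  have hdisj : ∀ (z w : Z) (y : (TwC.const S Z).left), y ∈ Set.range (comp (S := S) Z z) →
      y ∈ Set.range (comp (S := S) Z w) → z = w := by
    intro z w y hz hw
    by_contra hne
    have := disjoint_opensRange_sigmaι (fun _ : Z => S) z w hne
    have h2 : y ∈ ((Sigma.ι (fun _ : Z => S) z).opensRange ⊓
        (Sigma.ι (fun _ : Z => S) w).opensRange : TopologicalSpace.Opens _) := ⟨hz, hw⟩
    rw [disjoint_iff.mp this] at h2
    exact h2
  have key : ∀ p : P.left, (c ≫ e.hom).left p ∈ Set.range (comp (S := S) Z 1) := by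
    intro p
    obtain ⟨z, hz⟩ := hcover ((c ≫ e.hom).left p)
    suffices z = 1 by rwa [this] at hz
    apply hZ
    -- the residue field point
    let T : Over S := Over.mk (P.left.fromSpecResidueField p ≫ P.hom)
    let t : T ⟶ P := Over.homMk (P.left.fromSpecResidueField p) rfl
    have htc : t ≫ c = cst e T z := by
      have h1 : t ≫ c ≫ e.hom = toUnit T ≫ TwC.pt S Z z := by
        apply eq_const_of_range_subset
        rintro _ ⟨τ, rfl⟩
        have hτ : t.left τ = p := by
          change (P.left.fromSpecResidueField p) τ = p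
          exact Scheme.fromSpecResidueField_apply _ _
        have e2 : (t ≫ c ≫ e.hom).left τ = (c ≫ e.hom).left (t.left τ) := by
          rw [Over.comp_left, Scheme.Hom.comp_apply]
        rw [e2, hτ]
        exact hz
      unfold cst
      rw [← Category.assoc (toUnit T), ← h1, Category.assoc, Category.assoc, e.hom_inv_id,
        Category.comp_id]
    have hpow : ∀ n : ℕ, (t ^ (n + 1)) ≫ c = cst e T (z ^ (n + 1)) := by
      intro n
      rw [MonObj.pow_comp, htc, cst_pow e hG]
    -- the points `pₙ`
    obtain ⟨τ₀⟩ : Nonempty T.left := by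
      change Nonempty (Spec (P.left.residueField p))
      infer_instance
    let U : Z → TopologicalSpace.Opens P.left := fun w =>
      (c ≫ e.hom).left ⁻¹ᵁ (comp (S := S) Z w).opensRange
    have hU : ∀ n : ℕ, (t ^ (n + 1)).left τ₀ ∈ U (z ^ (n + 1)) := by
      intro n
      change (c ≫ e.hom).left ((t ^ (n + 1)).left τ₀) ∈ Set.range (comp (S := S) Z (z ^ (n + 1)))
      rw [← Scheme.Hom.comp_apply, ← Over.comp_left, ← Category.assoc, hpow]
      exact cst_left_apply e T _ τ₀
    have hUcov : (Set.univ : Set P.left) ⊆ ⋃ w, (U w : Set P.left) := by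
      intro y _
      obtain ⟨w, hw⟩ := hcover ((c ≫ e.hom).left y)
      exact Set.mem_iUnion.mpr ⟨w, hw⟩
    obtain ⟨F, hF⟩ := isCompact_univ.elim_finite_subcover (fun w => (U w : Set P.left))
      (fun w => (U w).isOpen) hUcov
    have hmem : ∀ n : ℕ, z ^ (n + 1) ∈ F := by
      intro n
      have := hF (Set.mem_univ ((t ^ (n + 1)).left τ₀))
      obtain ⟨w, hwF, hw⟩ := Set.mem_iUnion₂.mp this
      have := hdisj _ _ _ (hU n) hw
      rwa [this]
    obtain ⟨m, n, hmn, hpw⟩ := Finite.exists_ne_map_eq_of_infinite
      (fun n : ℕ => (⟨z ^ (n + 1), hmem n⟩ : F))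
    have hpw' : z ^ (m + 1) = z ^ (n + 1) := congrArg Subtype.val hpw
    rw [isOfFinOrder_iff_pow_eq_one]
    rcases Nat.lt_or_gt_of_ne hmn with h | h
    · refine ⟨n - m, Nat.sub_pos_of_lt h, ?_⟩
      have : z ^ (m + 1) * z ^ (n - m) = z ^ (m + 1) * 1 := by
        rw [← pow_add, _root_.mul_one, hpw']
        congr 1
        omega
      exact mul_left_cancel this
    · refine ⟨m - n, Nat.sub_pos_of_lt h, ?_⟩
      have : z ^ (n + 1) * z ^ (m - n) = z ^ (n + 1) * 1 := by
        rw [← pow_add, _root_.mul_one, ← hpw']
        congr 1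
        omega
      exact mul_left_cancel this
  have h1 : c ≫ e.hom = toUnit P ≫ TwC.pt S Z 1 := by
    apply eq_const_of_range_subset
    rintro _ ⟨p, rfl⟩
    exact key p
  have h2 : c = cst e P 1 := by
    unfold cst
    rw [← Category.assoc (toUnit P), ← h1, Category.assoc, e.hom_inv_id, Category.comp_id]
  rw [h2, cst_one e hG]

end Groth.Agent.Lib.T2H3.ConstGrpHom
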