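import Mathlib.RingTheory.Extension.Cotangent.Basic
import Mathlib.RingTheory.Etale.Kaehler
import Mathlib.Algebra.Exact.Basic
import Mathlib.Tactic

/-! Stable isomorphism of conormal modules under localization:
a quasi-isomorphism of two-term complexes with projective target in degree `0` gives
`A₁ ⊕ B₀ ≃ B₁ ⊕ A₀`; applied to `T ⊗ NL(P) → NL(Q)` for `T` a localization of `S`. -/

set_option autoImplicit false
universe u

namespace Groth.Agent.Lib.T2H3.CotLoc

section Cone

variable {R : Type u} [CommRing R] {A₁ A₀ B₁ B₀ : Type u}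
  [AddCommGroup A₁] [Module R A₁] [AddCommGroup A₀] [Module R A₀]
  [AddCommGroup B₁] [Module R B₁] [AddCommGroup B₀] [Module R B₀]

/-- A quasi-isomorphism `φ : (A₁ → A₀) → (B₁ → B₀)` of two-term complexes with `B₀` projective gives
`A₁ ⊕ B₀ ≃ B₁ ⊕ A₀`. -/
theorem nonempty_prod_equiv_of_quasiIso (dA : A₁ →ₗ[R] A₀) (dB : B₁ →ₗ[R] B₀)
    (φ₁ : A₁ →ₗ[R] B₁) (φ₀ : A₀ →ₗ[R] B₀) (hφ : ∀ a, dB (φ₁ a) = φ₀ (dA a))
    [Module.Projective R B₀]
    (h1i : ∀ a, dA a = 0 → φ₁ a = 0 → a = 0)
    (h1s : ∀ b, dB b = 0 → ∃ a, dA a = 0 ∧ φ₁ a = b)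
    (h0i : ∀ a₀ b₁, φ₀ a₀ = dB b₁ → ∃ a₁, dA a₁ = a₀)
    (h0s : ∀ b₀, ∃ a₀ b₁, φ₀ a₀ + dB b₁ = b₀) :
    Nonempty ((A₁ × B₀) ≃ₗ[R] (B₁ × A₀)) := by
  let j : A₁ →ₗ[R] A₀ × B₁ := dA.prod φ₁
  let p : A₀ × B₁ →ₗ[R] B₀ := φ₀.coprod (-dB)
  have hj : Function.Injective j := by
    rw [injective_iff_map_eq_zero]
    intro a ha
    have h1 : dA a = 0 := congrArg Prod.fst ha
    have h2 : φ₁ a = 0 := congrArg Prod.snd ha
    exact h1i a h1 h2
  have hp : Function.Surjective p := by
    intro b₀
    obtain ⟨a₀, b₁, h⟩ := h0s b₀
    refine ⟨(a₀, -b₁), ?_⟩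
    simp only [p, LinearMap.coprod_apply, LinearMap.neg_apply, map_neg, neg_neg]
    exact h
  have hex : Function.Exact j p := by
    intro x
    constructor
    · intro hx
      obtain ⟨a₀, b₁⟩ := x
      have hx' : φ₀ a₀ = dB b₁ := by
        simp only [p, LinearMap.coprod_apply, LinearMap.neg_apply] at hx
        exact add_neg_eq_zero.mp hx
      obtain ⟨a₁, ha₁⟩ := h0i a₀ b₁ hx'
      have h3 : dB (b₁ - φ₁ a₁) = 0 := by
        rw [map_sub, hφ, ha₁, hx', sub_self]
      obtain ⟨z, hz0, hz⟩ := h1s _ h3
      refine ⟨a₁ + z, ?_⟩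
      have e1 : j (a₁ + z) = (dA (a₁ + z), φ₁ (a₁ + z)) := rfl
      rw [e1, map_add, map_add, hz0, hz, ha₁, add_zero]
      congr 1
      abel
    · rintro ⟨a, rfl⟩
      have e1 : j a = (dA a, φ₁ a) := rfl
      rw [e1]
      simp only [p, LinearMap.coprod_apply, LinearMap.neg_apply, hφ, add_neg_cancel]
  obtain ⟨s, hs⟩ := Module.projective_lifting_property p LinearMap.id hp
  let e := (hex.splitSurjectiveEquiv hj ⟨s, hs⟩).1
  exact ⟨e.symm ≪≫ₗ LinearEquiv.prodComm R A₀ B₁⟩

end Cone

section Ext

open Algebra Algebra.Extension TensorProduct KaehlerDifferential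

variable {R S T : Type u} [CommRing R] [CommRing S] [CommRing T] [Algebra R S] [Algebra R T]
  [Algebra S T] [IsScalarTower R S T]
variable {P : Extension.{u} R S} {Q : Extension.{u} R T} (f : P.Hom Q)

/-- naturality of `toKaehler` -/
theorem toKaehler_map (x : P.CotangentSpace) :
    Q.toKaehler (CotangentSpace.map f x) = KaehlerDifferential.map R R S T (P.toKaehler x) := by
  induction x using TensorProduct.induction_on with
  | zero => simp only [map_zero]
  | add x y hx hy => simp only [map_add, hx, hy]
  | tmul s ω =>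
    obtain ⟨y, rfl⟩ := KaehlerDifferential.tensorProductTo_surjective _ _ ω
    induction y with
    | zero => simp only [map_zero, tmul_zero]
    | add a b ha hb => simp only [map_add, tmul_add, ha, hb]
    | tmul a b =>
      simp only [Derivation.tensorProductTo_tmul, tmul_smul, smul_tmul', CotangentSpace.map_tmul,
        Hom.toAlgHom_apply, mapBaseChange_tmul, map_D, map_smul, Algebra.smul_def, map_mul,
        Hom.algebraMap_toRingHom]
      rw [← map_mul, algebraMap_smul]

theorem liftBaseChange_cotangentComplex (a : T ⊗[S] P.Cotangent) :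
    Q.cotangentComplex ((Cotangent.map f).liftBaseChange T a) =
      (CotangentSpace.map f).liftBaseChange T (P.cotangentComplex.baseChange T a) := by
  induction a using TensorProduct.induction_on with
  | zero => simp only [map_zero]
  | add x y hx hy => simp only [map_add, hx, hy]
  | tmul t x =>
    simp only [LinearMap.liftBaseChange_tmul, LinearMap.baseChange_tmul, map_smul,
      CotangentSpace.map_cotangentComplex]

theorem liftBaseChange_h1Cotangentι (z : T ⊗[S] P.H1Cotangent) :
    (Cotangent.map f).liftBaseChange T (P.h1Cotangentι.baseChange T z) =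
      Q.h1Cotangentι ((H1Cotangent.map f).liftBaseChange T z) := by
  induction z using TensorProduct.induction_on with
  | zero => simp only [map_zero]
  | add x y hx hy => simp only [map_add, hx, hy]
  | tmul t x =>
    simp only [LinearMap.liftBaseChange_tmul, LinearMap.baseChange_tmul, map_smul]
    rfl

theorem liftBaseChange_toKaehler (a : T ⊗[S] P.CotangentSpace) :
    Q.toKaehler ((CotangentSpace.map f).liftBaseChange T a) =
      (KaehlerDifferential.map R R S T).liftBaseChange T (P.toKaehler.baseChange T a) := by
  induction a using TensorProduct.induction_on with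
  | zero => simp only [map_zero]
  | add x y hx hy => simp only [map_add, hx, hy]
  | tmul t x =>
    simp only [LinearMap.liftBaseChange_tmul, LinearMap.baseChange_tmul, map_smul, toKaehler_map]

/-- If `S → T` is flat and `H¹` and `Ω` of the cotangent complex commute with the base change
(e.g. `T` a localization of `S`), then `T ⊗ P.Cotangent ⊕ Q.CotangentSpace ≃
Q.Cotangent ⊕ T ⊗ P.CotangentSpace`. -/
theorem nonempty_equiv_of_hom [Module.Flat S T]
    (hH1 : Function.Bijective ((H1Cotangent.map f).liftBaseChange T))
    (hΩ : Function.Bijective ((KaehlerDifferential.map R R S T).liftBaseChange T))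
    [Module.Projective T Q.CotangentSpace] :
    Nonempty (((T ⊗[S] P.Cotangent) × Q.CotangentSpace) ≃ₗ[T]
      (Q.Cotangent × (T ⊗[S] P.CotangentSpace))) := by
  have hexL : Function.Exact (P.h1Cotangentι.baseChange T) (P.cotangentComplex.baseChange T) :=
    Module.Flat.lTensor_exact T (LinearMap.exact_subtype_ker_map _)
  have hexR : Function.Exact (P.cotangentComplex.baseChange T) (P.toKaehler.baseChange T) :=
    lTensor_exact T P.exact_cotangentComplex_toKaehler P.toKaehler_surjective
  have hsurj : Function.Surjective (P.toKaehler.baseChange T) :=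
    LinearMap.lTensor_surjective T P.toKaehler_surjective
  refine nonempty_prod_equiv_of_quasiIso (P.cotangentComplex.baseChange T) Q.cotangentComplex
    ((Cotangent.map f).liftBaseChange T) ((CotangentSpace.map f).liftBaseChange T)
    (liftBaseChange_cotangentComplex f) ?_ ?_ ?_ ?_
  · intro a h1 h2
    obtain ⟨z, rfl⟩ := (hexL a).mp h1
    rw [liftBaseChange_h1Cotangentι] at h2
    have h3 : (H1Cotangent.map f).liftBaseChange T z = 0 :=
      Q.h1Cotangentι_injective (h2.trans (map_zero _).symm)
    have h4 : z = 0 := hH1.1 (h3.trans (map_zero _).symm)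
    rw [h4, map_zero]
  · intro b hb
    obtain ⟨z, hz⟩ := hH1.2 ⟨b, hb⟩
    refine ⟨P.h1Cotangentι.baseChange T z, (hexL _).mpr ⟨z, rfl⟩, ?_⟩
    rw [liftBaseChange_h1Cotangentι, hz]
    rfl
  · intro a₀ b₁ h
    apply (hexR a₀).mp
    apply hΩ.1
    rw [map_zero, ← liftBaseChange_toKaehler, h]
    exact Q.exact_cotangentComplex_toKaehler.apply_apply_eq_zero b₁
  · intro b₀
    obtain ⟨ω, hω⟩ := hΩ.2 (Q.toKaehler b₀)
    obtain ⟨a₀, rfl⟩ := hsurj ω
    have h1 : Q.toKaehler (b₀ - (CotangentSpace.map f).liftBaseChange T a₀) = 0 := by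
      rw [map_sub, liftBaseChange_toKaehler, hω, sub_self]
    obtain ⟨b₁, hb₁⟩ := (Q.exact_cotangentComplex_toKaehler _).mp h1
    exact ⟨a₀, b₁, by rw [hb₁]; abel⟩

end Ext

section Loc

open Algebra Algebra.Extension TensorProduct

variable {R S T : Type u} [CommRing R] [CommRing S] [CommRing T] [Algebra R S] [Algebra R T]
  [Algebra S T] [IsScalarTower R S T]

/-- a hom out of a polynomial presentation, over `S → T` -/
noncomputable def homOfPoly {n : ℕ} (α : MvPolynomial (Fin n) R →ₐ[R] S)
    (hα : Function.Surjective α) (Q : Extension.{u} R T) :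
    (Extension.ofSurjective α hα).Hom Q :=
  Hom.ofAlgHom (P := Extension.ofSurjective α hα) (P' := Q)
    (MvPolynomial.aeval (fun i => Q.σ (algebraMap S T (α (MvPolynomial.X i))))) (by
      apply MvPolynomial.algHom_ext
      intro i
      change algebraMap Q.Ring T (MvPolynomial.aeval
        (fun i => Q.σ (algebraMap S T (α (MvPolynomial.X i)))) (MvPolynomial.X i)) =
        algebraMap S T (α (MvPolynomial.X i))
      rw [MvPolynomial.aeval_X, Extension.algebraMap_σ])

variable (M : Submonoid S) [IsLocalization M T]

include M in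
theorem bijective_liftBaseChange_h1 {P : Extension.{u} R S} {Q : Extension.{u} R T}
    (f : P.Hom Q) (a₁ : P.Hom (Generators.self R S).toExtension)
    (b₁ : Q.Hom (Generators.self R T).toExtension) :
    Function.Bijective ((Extension.H1Cotangent.map f).liftBaseChange T) := by
  have hΦ : Function.Bijective ((Algebra.H1Cotangent.map R R S T).liftBaseChange T) := by
    rw [← Algebra.tensorH1CotangentOfIsLocalization_toLinearMap R T M]
    exact (Algebra.tensorH1CotangentOfIsLocalization R T M).bijective
  have hA : ∀ z, Extension.H1Cotangent.map b₁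
      ((Extension.H1Cotangent.map f).liftBaseChange T z) =
      (Algebra.H1Cotangent.map R R S T).liftBaseChange T
        ((Extension.H1Cotangent.map a₁).baseChange T z) := by
    intro z
    induction z using TensorProduct.induction_on with
    | zero => simp only [map_zero]
    | add x y hx hy => simp only [map_add, hx, hy]
    | tmul t x =>
      simp only [LinearMap.liftBaseChange_tmul, LinearMap.baseChange_tmul, map_smul]
      congr 1
      rw [← Extension.H1Cotangent.map_comp_apply, Algebra.H1Cotangent.map,
        ← Extension.H1Cotangent.map_comp_apply]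
      exact DFunLike.congr_fun (Extension.H1Cotangent.map_eq _ _) x
  let eα := Extension.H1Cotangent.equiv a₁ (Extension.defaultHom R S P)
  let eβ := Extension.H1Cotangent.equiv b₁ (Extension.defaultHom R T Q)
  have hb₁ : Function.Injective (Extension.H1Cotangent.map b₁) := eβ.injective
  have h12 : ∀ z', (Extension.H1Cotangent.map a₁).baseChange T
      ((Extension.H1Cotangent.map (Extension.defaultHom R S P)).baseChange T z') = z' := by
    intro z'
    rw [← LinearMap.comp_apply, ← LinearMap.baseChange_comp]
    have : Extension.H1Cotangent.map a₁ ∘ₗ Extension.H1Cotangent.map (Extension.defaultHom R S P) =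
        LinearMap.id := by
      ext x
      exact congrArg Subtype.val (eα.apply_symm_apply x)
    rw [this, LinearMap.baseChange_id, LinearMap.id_apply]
  have h21 : ∀ z, (Extension.H1Cotangent.map (Extension.defaultHom R S P)).baseChange T
      ((Extension.H1Cotangent.map a₁).baseChange T z) = z := by
    intro z
    rw [← LinearMap.comp_apply, ← LinearMap.baseChange_comp]
    have : Extension.H1Cotangent.map (Extension.defaultHom R S P) ∘ₗ Extension.H1Cotangent.map a₁ =
        LinearMap.id := by
      ext x
      exact congrArg Subtype.val (eα.symm_apply_apply x)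
    rw [this, LinearMap.baseChange_id, LinearMap.id_apply]
  constructor
  · rw [injective_iff_map_eq_zero]
    intro z hz
    have h1 := hA z
    rw [hz, map_zero] at h1
    have h2 := hΦ.1 (h1.symm.trans (map_zero _).symm)
    rw [← h21 z, h2, map_zero]
  · intro w
    obtain ⟨z', hz'⟩ := hΦ.2 (Extension.H1Cotangent.map b₁ w)
    refine ⟨(Extension.H1Cotangent.map (Extension.defaultHom R S P)).baseChange T z', ?_⟩
    apply hb₁
    rw [hA, h12, hz']

include M in
/-- Stable comparison of the conormal modules of a presentation of `S` and a presentation of a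
localization `T` of `S`. -/
theorem nonempty_equiv_localization (n m : ℕ)
    (α : MvPolynomial (Fin n) R →ₐ[R] S) (hα : Function.Surjective α)
    (β : MvPolynomial (Fin m) R →ₐ[R] T) (hβ : Function.Surjective β)
    [Module.Projective T (Extension.ofSurjective β hβ).CotangentSpace] :
    Nonempty (((T ⊗[S] (Extension.ofSurjective α hα).Cotangent) ×
        (Extension.ofSurjective β hβ).CotangentSpace) ≃ₗ[T]
      ((Extension.ofSurjective β hβ).Cotangent ×
        (T ⊗[S] (Extension.ofSurjective α hα).CotangentSpace))) := by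
  have : Module.Flat S T := IsLocalization.flat T M
  have hΩ : Function.Bijective ((KaehlerDifferential.map R R S T).liftBaseChange T) :=
    (isLocalizedModule_iff_isBaseChange M T _).mp (KaehlerDifferential.isLocalizedModule_map R S T M)
  exact nonempty_equiv_of_hom (homOfPoly α hα (Extension.ofSurjective β hβ))
    (bijective_liftBaseChange_h1 M _ (homOfPoly α hα _) (homOfPoly β hβ _)) hΩ

end Loc

end Groth.Agent.Lib.T2H3.CotLoc
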