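import Mathlib
import Groth.Prelude.Def_StCurv2

/-!
# Geometric fibres of the classifying family of a scheme over a field (helper3)

`geomFib_toSpFam_iff`: for `p : X ⟶ Spec k` and a point `t : Spec k ⟶ S`, the sheaf-level condition
`CurvSt.GeomFib` for the family `h_X ⟶ h_{Spec k}` (no marked points) is the scheme-level one:
every cartesian square of schemes over `Spec Ω ⟶ Spec k` with `Ω` algebraically closed has the
property.
-/

set_option autoImplicit false
set_option linter.style.haveILetI false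
universe u

namespace Groth.Agent.Lib.T2H3.CurveGeomFib
open AlgebraicGeometry CategoryTheory Limits

variable (S : Scheme.{u}) (k : Type u) [Field k] (t : Spec (CommRingCat.of k) ⟶ S)
  (X : Scheme.{u}) (p : X ⟶ Spec (CommRingCat.of k))

/-- the scheme-level form of "every geometric fibre has `P`" -/
def SchGeomFib (P : ∀ (Ω : Type u) [Field Ω] [IsAlgClosed Ω] (X' : Scheme.{u}),
      (X' ⟶ Spec (CommRingCat.of Ω)) → Prop) : Prop :=
  ∀ (Ω : Type u) [Field Ω] [IsAlgClosed Ω] (τ : Spec (CommRingCat.of Ω) ⟶ Spec (CommRingCat.of k))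
    (X' : Scheme.{u}) (q : X' ⟶ Spec (CommRingCat.of Ω)) (i₀ : X' ⟶ X),
    IsPullback i₀ q p τ → P Ω X' q

theorem geomFib_toSpFam_iff (P : ∀ (Ω : Type u) [Field Ω] [IsAlgClosed Ω] (X' : Scheme.{u}),
      (X' ⟶ Spec (CommRingCat.of Ω)) → Prop) :
    CurvSt.GeomFib (fun Ω _ _ X' q _ => P Ω X' q)
      ((CurvSt.toSpFam S 0).obj ⟨Over.mk t, X, p, Fin.elim0, fun i => i.elim0⟩) ↔
      SchGeomFib k X p P := by
  constructor
  · intro h Ω _ _ τ X' q i₀ hsq
    let A : CurvSt.PtFamObj S 0 := ⟨Over.mk t, X, p, Fin.elim0, fun i => i.elim0⟩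
    let B : CurvSt.SpFamObj S 0 := (CurvSt.toSpFam S 0).obj A
    let i' : B.ptOver (q ≫ τ) ⟶ A.totOver :=
      Over.homMk i₀ (by
        show i₀ ≫ (p ≫ t) = (q ≫ τ) ≫ t
        rw [← Category.assoc, hsq.w, Category.assoc])
    have hO : IsPullback i' (B.fibHom τ q) A.fOver (B.ptHom τ) :=
      IsPullback.of_map (Over.forget S) (Over.OverMorphism.ext hsq.w) hsq
    exact h Ω τ X' q ((AlgSp.yon S).map i') (hO.map (AlgSp.yon S))
  · intro h Ω _ _ τ X' q i hP
    let A : CurvSt.PtFamObj S 0 := ⟨Over.mk t, X, p, Fin.elim0, fun i => i.elim0⟩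
    let B : CurvSt.SpFamObj S 0 := (CurvSt.toSpFam S 0).obj A
    obtain ⟨i', hi'⟩ := (AlgSp.yon S).map_surjective i
    have hO : IsPullback i' (B.fibHom τ q) A.fOver (B.ptHom τ) := by
      refine IsPullback.of_map (AlgSp.yon S) ?_ (by rw [hi']; exact hP)
      apply (AlgSp.yon S).map_injective
      rw [Functor.map_comp, Functor.map_comp, hi']
      exact hP.w
    have hsq : IsPullback i'.left q p τ := hO.map (Over.forget S)
    exact h Ω τ X' q i'.left hsq

end Groth.Agent.Lib.T2H3.CurveGeomFib

namespace Groth.Agent.Lib.T2H3.CurveGeomFib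
open AlgebraicGeometry CategoryTheory Limits

variable (k : Type u) [Field k] (X : Scheme.{u}) (p : X ⟶ Spec (CommRingCat.of k))

/-- `Spec` of the algebraic closure over `Spec K`. -/
noncomputable def toAlgClosure (K : Type u) [Field K] :
    Spec (CommRingCat.of (AlgebraicClosure K)) ⟶ Spec (CommRingCat.of K) :=
  Spec.map (CommRingCat.ofHom (algebraMap K (AlgebraicClosure K)))

instance flat_toAlgClosure (K : Type u) [Field K] : Flat (toAlgClosure K) := by
  unfold toAlgClosure
  rw [Flat.SpecMap_iff]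
  show (algebraMap K (AlgebraicClosure K)).Flat
  exact RingHom.flat_algebraMap_iff.2 inferInstance

instance surjective_toAlgClosure (K : Type u) [Field K] : Surjective (toAlgClosure K) := by
  haveI : Subsingleton ↥(Spec (CommRingCat.of K)) :=
    inferInstanceAs (Subsingleton (PrimeSpectrum K))
  haveI : Nonempty ↥(Spec (CommRingCat.of (AlgebraicClosure K))) :=
    inferInstanceAs (Nonempty (PrimeSpectrum (AlgebraicClosure K)))
  exact ⟨fun x => ⟨Classical.arbitrary _, Subsingleton.elim _ _⟩⟩

variable {k X p}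

/-- the geometric fibre over the algebraic closure of `K` of a fibre over `K`. -/
theorem isPullback_algClosure {K : Type u} [Field K] {y : Spec (CommRingCat.of K) ⟶ Spec (CommRingCat.of k)}
    {Z : Scheme.{u}} {fst : Z ⟶ X} {snd : Z ⟶ Spec (CommRingCat.of K)} (hsq : IsPullback fst snd p y) :
    IsPullback (pullback.fst snd (toAlgClosure K) ≫ fst) (pullback.snd snd (toAlgClosure K)) p
      (toAlgClosure K ≫ y) :=
  (IsPullback.of_hasPullback snd (toAlgClosure K)).paste_horiz hsq

end Groth.Agent.Lib.T2H3.CurveGeomFib
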