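import Mathlib
import Groth.Agent.Lib.Helper5FiberMor
import Groth.Agent.Lib.Helper5FieldBC
import Groth.Agent.Lib.Helper5GorRing
import Groth.Agent.Lib.Helper5GrpCM
import Groth.Agent.Lib.Helper6UnrFibre
import Groth.Agent.Lib.Helper12OnePoint
import Groth.Agent.Lib.Helper12Reduced
import Groth.Prelude.Def_AlgSpMor6

/-!
# Local-ring loci of a scheme locally of finite type over a field, through etale charts (helper3)

For a property `P` of rings satisfying helper5's `FlatLocalIff P` and `IsoInv P` and holding for
fields (`FieldP P`; e.g. Cohen–Macaulay or Gorenstein local rings), and `p : X ⟶ Spec k` locally of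
finite type: the morphism of sheaves `h_X ⟶ h_{Spec k}` is, in every etale chart diagram, flat with
`P` fibre local rings at every point iff every local ring of `X` has `P` (`locP_iff`).
-/

set_option autoImplicit false
set_option linter.style.haveILetI false
universe u

namespace Groth.Agent.Lib.T2H3.CurveLocusField
open AlgebraicGeometry CategoryTheory Limits IsLocalRing
open Groth.Agent.Lib.Helper5.FiberMor Groth.Agent.Lib.Helper5.FiberRing LocCoh

/-- `P` holds for every field. -/
def FieldP (P : ∀ (R : Type u) [CommRing R], Prop) : Prop :=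
  ∀ (K : Type u) [CommRing K], IsField K → P K

theorem fieldP_cm : FieldP.{u} (fun R _ => IsCohenMacaulayLocalRing R) := by
  intro K _ hK
  letI := hK.toField
  exact Groth.Agent.Lib.Helper5.GrpCM.cm_of_ringKrullDim_eq_zero K (ringKrullDim_eq_zero_of_field K)

theorem fieldP_gor : FieldP.{u} (fun R _ => IsGorensteinLocalRing R) := by
  intro K _ hK
  letI := hK.toField
  exact Groth.Agent.Lib.Helper5.GorRing.gorLocal_of_field K

/-- the local rings of a scheme etale over a field are fields. -/
theorem isField_stalk_of_etale_field (k : Type u) [Field k] {W : Scheme.{u}}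
    (g : W ⟶ Spec (CommRingCat.of k)) [Etale g] (w : W) : IsField (W.presheaf.stalk w) := by
  haveI : IsReduced W := Groth.Agent.Lib.Helper12.Reduced.isReduced_of_smooth g
  haveI := Groth.Agent.Lib.Helper12.OnePoint.subsingleton_primeSpectrum_stalk k g w
  exact PrimeSpectrum.subsingleton_iff_isField_of_isReduced.1 inferInstance

variable {P : ∀ (R : Type u) [CommRing R], Prop}

/-- a ring map out of a field is flat. -/
theorem flat_of_isField {A B : Type u} [CommRing A] [CommRing B] (hA : IsField A) (φ : A →+* B) :
    φ.Flat := by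
  letI := hA.toField
  letI := φ.toAlgebra
  show Module.Flat A B
  infer_instance

/-- etale ascent of `P` to the local rings of an etale `X`-scheme. -/
theorem stalk_of_etale (hP : FlatLocalIff P) (hPe : IsoInv P) (hfld : FieldP P)
    {U X : Scheme.{u}} (a : U ⟶ X) [Etale a] [IsLocallyNoetherian X] (u : U)
    (hX : P (X.presheaf.stalk (a u))) : P (U.presheaf.stalk u) := by
  haveI : IsLocallyNoetherian U := LocallyOfFiniteType.isLocallyNoetherian a
  have hfl : (a.stalkMap u).hom.Flat := Flat.stalkMap a u
  have hq := ((Groth.Agent.Lib.Helper6.UnrFibre.etale_iff_flat_and_fibre a).1 inferInstance).2 u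
  exact (flat_iff a u hP hPe hfl).2 ⟨hX, (fiber_stalk_iff a u hPe).2 (hfld _ hq.1)⟩

/-- **Main.** -/
theorem locP_iff {S : Scheme.{u}} (hP : FlatLocalIff P) (hPe : IsoInv P) (hfld : FieldP P)
    (k : Type u) [Field k] (t : Spec (CommRingCat.of k) ⟶ S)
    (X : Scheme.{u}) (p : X ⟶ Spec (CommRingCat.of k)) [LocallyOfFiniteType p] :
    AlgSp.LocP (fun _ _ g => ∀ x, (g.stalkMap x).hom.Flat ∧
        P ((g.fiber (g x)).presheaf.stalk (g.asFiber x)))
      ((AlgSp.yon S).map (Over.homMk p rfl : Over.mk (p ≫ t) ⟶ Over.mk t)) ↔
      ∀ x : ↥X, P (X.presheaf.stalk x) := by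
  haveI : IsLocallyNoetherian X := LocallyOfFiniteType.isLocallyNoetherian p
  constructor
  · intro h x
    have h' := AlgSp.locP_yon_map h
    have hx := h' x
    change (p.stalkMap x).hom.Flat ∧ P ((p.fiber (p x)).presheaf.stalk (p.asFiber x)) at hx
    have hk : P ((Spec (CommRingCat.of k)).presheaf.stalk (p x)) :=
      hfld _ (isField_stalk_of_etale_field k (𝟙 _) (p x))
    exact (flat_iff p x hP hPe hx.1).2 ⟨hk, hx.2⟩
  · intro hX U V a b h ha hb _
    obtain ⟨α, rfl⟩ := (AlgSp.yon S).map_surjective a
    obtain ⟨β, rfl⟩ := (AlgSp.yon S).map_surjective b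
    haveI hα : Etale α.left := (AlgSp.repWith_yon_map_iff _ _).1 ha
    haveI hβ : Etale β.left := (AlgSp.repWith_yon_map_iff _ _).1 hb
    intro u
    have hα' : Etale (show U.left ⟶ X from α.left) := hα
    have hβ' : Etale (show V.left ⟶ Spec (CommRingCat.of k) from β.left) := hβ
    haveI : IsLocallyNoetherian U.left :=
      LocallyOfFiniteType.isLocallyNoetherian (show U.left ⟶ X from α.left)
    haveI : IsLocallyNoetherian V.left :=
      LocallyOfFiniteType.isLocallyNoetherian (show V.left ⟶ Spec (CommRingCat.of k) from β.left)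
    have hU : P (U.left.presheaf.stalk u) :=
      stalk_of_etale hP hPe hfld (show U.left ⟶ X from α.left) u (hX _)
    have hVf : IsField (V.left.presheaf.stalk (h.left u)) :=
      isField_stalk_of_etale_field k (show V.left ⟶ Spec (CommRingCat.of k) from β.left) _
    have hfl : (h.left.stalkMap u).hom.Flat := flat_of_isField hVf _
    exact ⟨hfl, ((flat_iff h.left u hP hPe hfl).1 hU).2⟩

end Groth.Agent.Lib.T2H3.CurveLocusField
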