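import Mathlib
import Groth.Agent.Lib.Helper20SmoothDescSch
import Groth.Agent.Lib.Helper25SmUnit
import Groth.Agent.Lib.T2H3CurveGeomFib

/-!
# The non-smooth locus of a scheme of finite type over a field under extension of the field (helper3)

* `nonsmooth_eq_compl`: the set of points with no smooth open neighbourhood is the complement of
  the smooth locus (lfp morphisms).
* `smoothLocus_eq_preimage_of_isPullback`: the smooth locus commutes with flat base change.
* `finite_nonsmooth_iff`: for `p : X ⟶ Spec k` of finite type, the non-smooth locus of `p` is finite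
  iff the non-smooth locus of every geometric fibre is finite.
-/

set_option autoImplicit false
set_option linter.style.haveILetI false
universe u

namespace Groth.Agent.Lib.T2H3.CurveNonsmooth
open AlgebraicGeometry CategoryTheory Limits
open Groth.Agent.Lib.T2H3.CurveGeomFib

/-- the set of points with no smooth open neighbourhood. -/
def NS {X Y : Scheme.{u}} (f : X ⟶ Y) : Set ↥X :=
  {x : ↥X | ¬ ∃ U : X.Opens, x ∈ U ∧ Smooth (U.ι ≫ f)}

theorem nonsmooth_eq_compl {X Y : Scheme.{u}} (f : X ⟶ Y) [LocallyOfFinitePresentation f] :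
    NS f = ((f.smoothLocus : Set ↥X))ᶜ := by
  ext x
  simp only [NS, Set.mem_ofPred_eq, Set.mem_compl_iff, SetLike.mem_coe, not_iff_not]
  constructor
  · rintro ⟨U, hxU, hU⟩
    exact Groth.Agent.Lib.Helper20.FlatDesc.formallySmooth_stalkMap_of_nbhd f x U hxU
  · intro hx
    exact Groth.Agent.Lib.Helper20.FlatDesc.exists_smooth_nbhd f x hx

/-- the smooth locus commutes with flat base change (canonical pullback). -/
theorem mem_smoothLocus_pullback_snd_iff {X Y Y' : Scheme.{u}} (f : X ⟶ Y)
    [LocallyOfFinitePresentation f] (g : Y' ⟶ Y) [Flat g] (w : ↑(pullback f g)) :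
    w ∈ (pullback.snd f g).smoothLocus ↔ pullback.fst f g w ∈ f.smoothLocus :=
  ⟨fun h => Groth.Agent.Lib.Helper20.FlatDesc.formallySmooth_stalkMap_of_flat_baseChange f g w h,
    fun h => Groth.Agent.Lib.Helper25.SmUnit.mem_smoothLocus_pullback_snd f g w h⟩

/-- the smooth locus commutes with flat base change. -/
theorem mem_smoothLocus_iff_of_isPullback {X Y X' Y' : Scheme.{u}} {f : X ⟶ Y}
    [LocallyOfFinitePresentation f] {g : Y' ⟶ Y} [Flat g] {f' : X' ⟶ Y'} {g' : X' ⟶ X}
    [LocallyOfFinitePresentation f'] (hsq : IsPullback g' f' f g) (x' : ↥X') :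
    x' ∈ f'.smoothLocus ↔ g' x' ∈ f.smoothLocus := by
  have h1 : hsq.isoPullback.hom ≫ pullback.snd f g = f' := hsq.isoPullback_hom_snd
  have h2 : hsq.isoPullback.hom ≫ pullback.fst f g = g' := hsq.isoPullback_hom_fst
  have e1 : hsq.isoPullback.hom ⁻¹ᵁ (pullback.snd f g).smoothLocus = f'.smoothLocus := by
    rw [Scheme.Hom.preimage_smoothLocus_eq]
    congr 1
  rw [← e1, Scheme.Hom.mem_preimage, mem_smoothLocus_pullback_snd_iff, ← Scheme.Hom.comp_apply]
  rw [h2]

theorem nonsmooth_eq_preimage_of_isPullback {X Y X' Y' : Scheme.{u}} {f : X ⟶ Y}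
    [LocallyOfFinitePresentation f] {g : Y' ⟶ Y} [Flat g] {f' : X' ⟶ Y'} {g' : X' ⟶ X}
    (hsq : IsPullback g' f' f g) : NS f' = g' ⁻¹' NS f := by
  haveI : LocallyOfFinitePresentation f' :=
    MorphismProperty.of_isPullback (P := @LocallyOfFinitePresentation) hsq inferInstance
  rw [nonsmooth_eq_compl, nonsmooth_eq_compl]
  ext x'
  simp only [Set.mem_compl_iff, SetLike.mem_coe, Set.mem_preimage]
  rw [mem_smoothLocus_iff_of_isPullback hsq]

/-- a scheme quasi-compact and locally quasi-finite over a field is finite as a set. -/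
theorem finite_of_locallyQuasiFinite_field {Ω : Type u} [Field Ω] {W : Scheme.{u}}
    (G : W ⟶ Spec (CommRingCat.of Ω)) [LocallyQuasiFinite G] [QuasiCompact G] : Finite ↥W := by
  haveI : Subsingleton ↥(Spec (CommRingCat.of Ω)) :=
    inferInstanceAs (Subsingleton (PrimeSpectrum Ω))
  haveI : Nonempty ↥(Spec (CommRingCat.of Ω)) :=
    inferInstanceAs (Nonempty (PrimeSpectrum Ω))
  have h := G.finite_preimage_singleton (Classical.arbitrary _)
  have hu : G ⁻¹' {Classical.arbitrary _} = Set.univ := by
    ext w
    simp only [Set.mem_preimage, Set.mem_singleton_iff, Set.mem_univ, iff_true]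
    exact Subsingleton.elim _ _
  rw [hu] at h
  exact Set.finite_univ_iff.mp h

theorem finite_nonsmooth_iff (k : Type u) [Field k] (X : Scheme.{u})
    (p : X ⟶ Spec (CommRingCat.of k)) [LocallyOfFiniteType p] [QuasiCompact p] :
    SchGeomFib k X p (fun _ _ _ _ q => Set.Finite (NS q)) ↔ Set.Finite (NS p) := by
  constructor
  · intro h
    have hsq := IsPullback.of_hasPullback p (toAlgClosure k)
    have h1 : Set.Finite (NS (pullback.snd p (toAlgClosure k))) :=
      h (AlgebraicClosure k) (toAlgClosure k) _ _ _ hsq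
    rw [nonsmooth_eq_preimage_of_isPullback hsq] at h1
    have hs : Function.Surjective (pullback.fst p (toAlgClosure k)) :=
      (pullback.fst p (toAlgClosure k)).surjective
    rw [← Set.image_preimage_eq (NS p) hs]
    exact h1.image _
  · intro hF Ω _ _ τ X' q i₀ hsq
    rw [nonsmooth_eq_preimage_of_isPullback hsq]
    have hcl : IsClosed (NS p) := by
      rw [nonsmooth_eq_compl]
      exact p.smoothLocus.isOpen.isClosed_compl
    let Z : TopologicalSpace.Closeds ↥X := ⟨NS p, hcl⟩
    let I : X.IdealSheafData := Scheme.IdealSheafData.vanishingIdeal Z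
    have hr : Set.range I.subschemeι = NS p := by
      rw [Scheme.IdealSheafData.range_subschemeι,
        Scheme.IdealSheafData.coe_support_vanishingIdeal]
      rfl
    haveI hfinZ : Finite ↥I.subscheme := by
      haveI : Finite ↥(Set.range I.subschemeι) := by rw [hr]; exact hF.to_subtype
      exact Finite.of_injective (fun z => (⟨I.subschemeι z, ⟨z, rfl⟩⟩ : Set.range I.subschemeι))
        (fun a b hab => I.subschemeι.isClosedEmbedding.injective (Subtype.mk.inj hab))
    haveI : LocallyQuasiFinite (I.subschemeι ≫ p) :=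
      .of_finite_preimage_singleton _ (fun _ => Set.toFinite _)
    have hbig : IsPullback (pullback.fst I.subschemeι i₀) (pullback.snd I.subschemeι i₀ ≫ q)
        (I.subschemeι ≫ p) τ :=
      ((IsPullback.of_hasPullback I.subschemeι i₀).flip.paste_horiz hsq.flip).flip
    haveI : LocallyQuasiFinite (pullback.snd I.subschemeι i₀ ≫ q) :=
      MorphismProperty.of_isPullback (P := @LocallyQuasiFinite) hbig inferInstance
    haveI : QuasiCompact (pullback.snd I.subschemeι i₀ ≫ q) :=
      MorphismProperty.of_isPullback (P := @QuasiCompact) hbig inferInstance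
    haveI := finite_of_locallyQuasiFinite_field (pullback.snd I.subschemeι i₀ ≫ q)
    rw [← hr, ← Scheme.Pullback.range_snd]
    exact Set.finite_range _

end Groth.Agent.Lib.T2H3.CurveNonsmooth
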