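import Mathlib

/-!
# Characters of a finite reduced algebra over an algebraically closed field

The `L`-points of a finite reduced `L`-algebra `B` (`L` algebraically closed) are jointly injective
and there are exactly `finrank L B` of them; the same for the `L`-valued `R`-points of a finite flat
`R`-algebra whose base change to `L` is reduced.
-/

set_option autoImplicit false
set_option linter.style.haveILetI false
universe u v

open TensorProduct

namespace Groth.Agent.Lib.T2H3.DeligneAlg

section Field

variable {L : Type u} [Field L] [IsAlgClosed L] {B : Type v} [CommRing B] [Algebra L B]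
  [Module.Finite L B]

/-- a character with prescribed maximal kernel. -/
theorem exists_algHom_ker (I : Ideal B) [hI : I.IsMaximal] :
    ∃ χ : B →ₐ[L] L, ∀ b, χ b = 0 ↔ b ∈ I := by
  letI : Field (B ⧸ I) := Ideal.Quotient.field I
  haveI : Algebra.IsIntegral L (B ⧸ I) := Algebra.IsIntegral.of_finite L (B ⧸ I)
  have hbij : Function.Bijective (algebraMap L (B ⧸ I)) :=
    IsAlgClosed.algebraMap_bijective_of_isIntegral
  let e : L ≃ₐ[L] (B ⧸ I) := AlgEquiv.ofBijective (Algebra.ofId L (B ⧸ I)) hbij
  refine ⟨(e.symm : (B ⧸ I) →ₐ[L] L).comp (Ideal.Quotient.mkₐ L I), fun b => ?_⟩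
  rw [AlgHom.comp_apply, AlgEquiv.coe_toAlgHom, EmbeddingLike.map_eq_zero_iff,
    Ideal.Quotient.mkₐ_eq_mk, Ideal.Quotient.eq_zero_iff_mem]

variable [IsReduced B]

/-- the characters of a finite reduced algebra over an algebraically closed field are jointly
injective. -/
theorem eq_zero_of_forall_algHom (b : B) (h : ∀ χ : B →ₐ[L] L, χ b = 0) : b = 0 := by
  haveI : IsArtinianRing B := IsArtinianRing.of_finite L B
  have hjac : b ∈ Ideal.jacobson (⊥ : Ideal B) := by
    rw [Ideal.jacobson, Ideal.mem_sInf]
    rintro I ⟨-, hI⟩
    haveI := hI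
    obtain ⟨χ, hχ⟩ := exists_algHom_ker (L := L) I
    exact (hχ b).mp (h χ)
  rw [IsArtinianRing.jacobson_eq_radical] at hjac
  have hnil : IsNilpotent b := by
    rw [← mem_nilradical, nilradical]
    exact hjac
  exact hnil.eq_zero

/-- the number of characters is the dimension. -/
theorem card_algHom_eq_finrank : Nat.card (B →ₐ[L] L) = Module.finrank L B := by
  apply le_antisymm (card_algHom_le_finrank L B L)
  let ev : B →ₗ[L] ((B →ₐ[L] L) → L) :=
    { toFun := fun b χ => χ b
      map_add' := fun b b' => by ext χ; simp
      map_smul' := fun c b => by ext χ; simp }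
  have hinj : Function.Injective ev := by
    rw [injective_iff_map_eq_zero]
    intro b hb
    exact eq_zero_of_forall_algHom b fun χ => congrFun hb χ
  have := LinearMap.finrank_le_finrank_of_injective hinj
  rw [Module.finrank_pi] at this
  rwa [Nat.card_eq_fintype_card]

end Field

section Base

variable {R : Type u} [CommRing R] {L : Type u} [Field L] [IsAlgClosed L] [Algebra R L]
  {A : Type u} [CommRing A] [Algebra R A] [Module.Finite R A] [Module.Flat R A]
  [IsReduced (L ⊗[R] A)]

/-- the `L`-valued points of `A` are jointly injective. -/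
theorem eq_zero_of_forall_algHom_base (hinj : Function.Injective (algebraMap R L)) (a : A)
    (h : ∀ χ : A →ₐ[R] L, χ a = 0) : a = 0 := by
  have h1 : (1 : L) ⊗ₜ[R] a = 0 := by
    apply eq_zero_of_forall_algHom (L := L)
    intro χ'
    have := h ((AlgHom.liftEquiv R L A L).symm χ')
    rwa [AlgHom.liftEquiv_symm_apply] at this
  have h2 := Algebra.TensorProduct.includeRight_injective (R := R) (A := L) (B := A) hinj
  apply h2
  rw [map_zero]
  exact h1

/-- there are `finrank L (L ⊗ A)` of them. -/
theorem card_algHom_base : Nat.card (A →ₐ[R] L) = Module.finrank L (L ⊗[R] A) := by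
  rw [← card_algHom_eq_finrank (L := L) (B := L ⊗[R] A)]
  exact Nat.card_congr (AlgHom.liftEquiv R L A L)

end Base

end Groth.Agent.Lib.T2H3.DeligneAlg
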