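import Mathlib

/-!
# Deligne's theorem for free commutative cocommutative Hopf algebras (algebraic core)

Let `A` be a commutative cocommutative Hopf algebra over `R`, free of rank `r` as an `R`-module.
Then the `r`-th convolution power of the identity of `A` is the convolution unit.
-/

set_option autoImplicit false
universe u
open WithConv TensorProduct Coalgebra

namespace Groth.Agent.Lib.T2H3.DeligneFree

variable {R : Type u} [CommRing R] {A : Type u} [CommRing A] [HopfAlgebra R A] {r : ℕ}
  (b : Module.Basis (Fin r) R A)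

/-- `x ⊗ y ↦ coord_i(y) • x`. -/
noncomputable def L (i : Fin r) : A ⊗[R] A →ₗ[R] A :=
  (TensorProduct.rid R A).toLinearMap ∘ₗ LinearMap.lTensor A (b.coord i)

lemma L_tmul (i : Fin r) (x y : A) : L b i (x ⊗ₜ y) = b.repr y i • x := by
  simp [L]

lemma eq_sum_L (t : A ⊗[R] A) : t = ∑ k, L b k t ⊗ₜ[R] b k := by
  induction t using TensorProduct.induction_on with
  | zero => simp
  | tmul x y =>
    simp only [L_tmul]
    conv_lhs => rw [← b.sum_repr y]
    rw [TensorProduct.tmul_sum]
    refine Finset.sum_congr rfl (fun k _ => ?_)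
    rw [TensorProduct.smul_tmul]
  | add x y hx hy =>
    conv_lhs => rw [hx, hy]
    rw [← Finset.sum_add_distrib]
    simp [TensorProduct.add_tmul]

lemma repr_mul (c y : A) (i : Fin r) :
    b.repr (c * y) i = ∑ k, b.repr (c * b k) i * b.repr y k := by
  conv_lhs => rw [← b.sum_repr y, Finset.mul_sum]
  simp [mul_comm]

lemma L_comul_eq (i : Fin r) (y : A) :
    L b i (comul y) = ∑ k, b.repr y k • L b i (comul (b k)) := by
  have h : comul (R := R) y = ∑ k, b.repr y k • comul (R := R) (b k) := by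
    conv_lhs => rw [← b.sum_repr y]
    rw [map_sum]
    simp only [map_smul]
  rw [h, map_sum]
  simp only [map_smul]

lemma L_includeLeft_mul (i : Fin r) (x : A) (s : A ⊗[R] A) :
    L b i ((x ⊗ₜ[R] (1 : A)) * s) = x * L b i s := by
  induction s using TensorProduct.induction_on with
  | zero => simp
  | tmul y z =>
    rw [Algebra.TensorProduct.tmul_mul_tmul, L_tmul, L_tmul, one_mul, mul_smul_comm]
  | add y z hy hz => rw [mul_add, map_add, map_add, hy, hz, mul_add]

/-- `a ↦ coord_i (a * b_k)`. -/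
noncomputable def ρ (i k : Fin r) : A →ₗ[R] R := b.coord i ∘ₗ LinearMap.mulRight R (b k)

lemma ρ_apply (i k : Fin r) (a : A) : ρ b i k a = b.repr (a * b k) i := by
  simp [ρ]

/-- the regular representation evaluated on the universal point, as a matrix over the convolution
ring. -/
noncomputable def M₂ : Matrix (Fin r) (Fin r) (WithConv (A →ₗ[R] A)) :=
  fun i k => toConv (Algebra.linearMap R A ∘ₗ ρ b i k)

noncomputable def M₂' : Matrix (Fin r) (Fin r) (WithConv (A →ₗ[R] A)) :=
  fun i k => toConv (Algebra.linearMap R A ∘ₗ ρ b i k ∘ₗ HopfAlgebra.antipode R)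

lemma sum_ofConv_apply {ι : Type*} (s : Finset ι) (f : ι → WithConv (A →ₗ[R] A)) (a : A) :
    (∑ k ∈ s, f k).ofConv a = ∑ k ∈ s, (f k).ofConv a := by
  rw [ofConv_sum, LinearMap.sum_apply]

lemma M₂_mul_aux (i j : Fin r) (t : A ⊗[R] A) :
    ∑ k, LinearMap.mul' R A (TensorProduct.map (M₂ b i k).ofConv (M₂' b k j).ofConv t) =
      algebraMap R A (b.repr (LinearMap.mul' R A
        (LinearMap.lTensor A (HopfAlgebra.antipode R) t) * b j) i) := by
  induction t using TensorProduct.induction_on with
  | zero => simp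
  | tmul x y =>
    simp only [M₂, M₂', TensorProduct.map_tmul, LinearMap.mul'_apply, LinearMap.comp_apply,
      Algebra.linearMap_apply, ρ_apply, LinearMap.lTensor_tmul]
    rw [mul_assoc, repr_mul b x, map_sum]
    simp only [map_mul]
  | add x y hx hy =>
    simp only [map_add, add_mul, Finsupp.coe_add, Pi.add_apply] at hx hy ⊢
    rw [Finset.sum_add_distrib, hx, hy]

theorem M₂_mul_M₂' : M₂ b * M₂' b = 1 := by
  ext i j a
  rw [Matrix.mul_apply, sum_ofConv_apply]
  have h : ∀ k, (M₂ b i k * M₂' b k j).ofConv a =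
      LinearMap.mul' R A (TensorProduct.map (M₂ b i k).ofConv (M₂' b k j).ofConv (comul a)) :=
    fun k => rfl
  simp only [h]
  rw [M₂_mul_aux, HopfAlgebra.mul_antipode_lTensor_comul_apply, Matrix.one_apply]
  by_cases hij : i = j
  · subst hij
    rw [if_pos rfl]
    change _ = algebraMap R A (counit a)
    rw [← Algebra.smul_def, map_smul, b.repr_self]
    simp
  · rw [if_neg hij]
    change _ = (0 : A)
    rw [← Algebra.smul_def, map_smul, b.repr_self]
    simp [Ne.symm hij]

/-- the matrix of right translations. -/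
noncomputable def p : Matrix (Fin r) (Fin r) A := fun i j => L b i (comul (b j))

noncomputable def p' : Matrix (Fin r) (Fin r) A :=
  fun i j => L b i (LinearMap.rTensor A (HopfAlgebra.antipode R) (comul (b j)))

/-- `x ⊗ y ↦ (x ⊗ 1) * Δ y`. -/
noncomputable def Φ : A ⊗[R] A →ₗ[R] A ⊗[R] A :=
  LinearMap.mul' R (A ⊗[R] A) ∘ₗ
    TensorProduct.map (Algebra.TensorProduct.includeLeft : A →ₐ[R] A ⊗[R] A).toLinearMap comul

lemma Φ_tmul (x y : A) : Φ (R := R) (x ⊗ₜ[R] y) = (x ⊗ₜ[R] (1 : A)) * comul y := by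
  simp [Φ]

lemma L_Φ (i : Fin r) (t : A ⊗[R] A) :
    L b i (Φ t) = ∑ k, L b k t * L b i (comul (b k)) := by
  induction t using TensorProduct.induction_on with
  | zero => simp
  | tmul x y =>
    rw [Φ_tmul, L_includeLeft_mul, L_comul_eq, Finset.mul_sum]
    refine Finset.sum_congr rfl (fun k _ => ?_)
    rw [L_tmul, smul_mul_assoc, mul_smul_comm]
  | add x y hx hy =>
    rw [map_add, map_add, hx, hy, ← Finset.sum_add_distrib]
    refine Finset.sum_congr rfl (fun k _ => ?_)
    rw [map_add, add_mul]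

/-- `x ⊗ y ↦ S(x) y₁ ⊗ y₂`. -/
noncomputable def Ξ : A ⊗[R] A →ₗ[R] A ⊗[R] A :=
  LinearMap.rTensor A (LinearMap.mul' R A ∘ₗ LinearMap.rTensor A (HopfAlgebra.antipode R)) ∘ₗ
    (TensorProduct.assoc R A A A).symm.toLinearMap ∘ₗ LinearMap.lTensor A comul

lemma Φ_rTensor_eq_Ξ (t : A ⊗[R] A) :
    Φ (LinearMap.rTensor A (HopfAlgebra.antipode R) t) = Ξ t := by
  induction t using TensorProduct.induction_on with
  | zero => simp
  | tmul x y =>
    rw [LinearMap.rTensor_tmul, Φ_tmul]
    simp only [Ξ, LinearMap.comp_apply, LinearMap.lTensor_tmul, LinearEquiv.coe_coe]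
    generalize comul (R := R) y = s
    induction s using TensorProduct.induction_on with
    | zero => simp
    | tmul y₁ y₂ =>
      simp [Algebra.TensorProduct.tmul_mul_tmul]
    | add s₁ s₂ h₁ h₂ =>
      rw [mul_add, TensorProduct.tmul_add, map_add, map_add, h₁, h₂]
  | add x y hx hy => rw [map_add, map_add, map_add, hx, hy]

lemma Ξ_comul (y : A) : Ξ (comul (R := R) y) = (1 : A) ⊗ₜ[R] y := by
  simp only [Ξ, LinearMap.comp_apply, LinearEquiv.coe_coe]
  rw [coassoc_symm_apply, ← LinearMap.comp_apply, ← LinearMap.rTensor_comp]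
  have h : (LinearMap.mul' R A ∘ₗ LinearMap.rTensor A (HopfAlgebra.antipode R)) ∘ₗ comul =
      Algebra.linearMap R A ∘ₗ counit := by
    ext a
    simp
  rw [h, LinearMap.rTensor_comp, LinearMap.comp_apply, rTensor_counit_comul]
  simp

theorem p_mul_p' : p b * p' b = 1 := by
  ext i j
  rw [Matrix.mul_apply]
  have h1 : ∑ k, p b i k * p' b k j =
      L b i (Φ (LinearMap.rTensor A (HopfAlgebra.antipode R) (comul (b j)))) := by
    rw [L_Φ]
    refine Finset.sum_congr rfl (fun k _ => ?_)
    rw [mul_comm]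
    rfl
  rw [h1, Φ_rTensor_eq_Ξ, Ξ_comul, L_tmul, b.repr_self, Matrix.one_apply]
  by_cases hij : i = j
  · subst hij; simp
  · simp [hij]

lemma L_mul_tmul (i k : Fin r) (c : A) (t : A ⊗[R] A) :
    L b i (t * (c ⊗ₜ[R] b k)) =
      LinearMap.mul' R A (TensorProduct.map LinearMap.id (Algebra.linearMap R A ∘ₗ ρ b i k) t) * c := by
  induction t using TensorProduct.induction_on with
  | zero => simp
  | tmul x y =>
    rw [Algebra.TensorProduct.tmul_mul_tmul, L_tmul]
    simp only [TensorProduct.map_tmul, LinearMap.id_apply, LinearMap.comp_apply,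
      Algebra.linearMap_apply, LinearMap.mul'_apply, ρ_apply, Algebra.smul_def]
    ring
  | add x y hx hy => rw [add_mul, map_add, map_add, map_add, hx, hy, add_mul]

omit b in
lemma mul_algebraMap_apply (m : WithConv (A →ₗ[R] A)) (x a : A) :
    (m * algebraMap A (WithConv (A →ₗ[R] A)) x).ofConv a = m.ofConv a * x := by
  rw [← Algebra.commutes, ← Algebra.smul_def]
  simp [mul_comm]

variable [Coalgebra.IsCocomm R A]

theorem key_identity :
    ((toConv (LinearMap.id : A →ₗ[R] A)) • M₂ b) * (p b).map (algebraMap A (WithConv (A →ₗ[R] A))) =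
      (p b).map (algebraMap A (WithConv (A →ₗ[R] A))) * M₂ b := by
  ext i j a
  rw [Matrix.mul_apply, Matrix.mul_apply, sum_ofConv_apply, sum_ofConv_apply]
  have hL : ∑ k, (((toConv (LinearMap.id : A →ₗ[R] A)) • M₂ b) i k *
      (p b).map (algebraMap A (WithConv (A →ₗ[R] A))) k j).ofConv a = L b i (comul (a * b j)) := by
    rw [Bialgebra.comul_mul]
    conv_rhs => rw [eq_sum_L b (comul (b j)), Finset.mul_sum, map_sum]
    refine Finset.sum_congr rfl (fun k _ => ?_)
    rw [Matrix.map_apply, mul_algebraMap_apply, L_mul_tmul]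
    rfl
  have hR : ∑ k, ((p b).map (algebraMap A (WithConv (A →ₗ[R] A))) i k * M₂ b k j).ofConv a =
      L b i (comul (a * b j)) := by
    rw [L_comul_eq]
    refine Finset.sum_congr rfl (fun k _ => ?_)
    rw [Matrix.map_apply, mul_comm, mul_algebraMap_apply]
    simp [M₂, ρ_apply, p, Algebra.smul_def]
  rw [hL, hR]

include b in
/-- **Deligne's theorem, free case (algebraic core).** -/
theorem deligne_free' : (toConv (LinearMap.id : A →ₗ[R] A)) ^ r = 1 := by
  have h := congrArg Matrix.det (key_identity b)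
  rw [Matrix.det_mul, Matrix.det_mul, Matrix.det_smul, Fintype.card_fin] at h
  have u1 : IsUnit (M₂ b).det :=
    IsUnit.of_mul_eq_one (M₂' b).det (by rw [← Matrix.det_mul, M₂_mul_M₂', Matrix.det_one])
  have hpp : (p b).map (algebraMap A (WithConv (A →ₗ[R] A))) *
      (p' b).map (algebraMap A (WithConv (A →ₗ[R] A))) = 1 := by
    rw [← Matrix.map_mul, p_mul_p']
    exact Matrix.map_one _ (map_zero _) (map_one _)
  have u2 : IsUnit ((p b).map (algebraMap A (WithConv (A →ₗ[R] A)))).det :=
    IsUnit.of_mul_eq_one _ (by rw [← Matrix.det_mul, hpp, Matrix.det_one])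
  have u := u1.mul u2
  apply u.mul_left_injective
  dsimp only
  rw [one_mul, ← mul_assoc, h, mul_comm]

end Groth.Agent.Lib.T2H3.DeligneFree

namespace Groth.Agent.Lib.T2H3.DeligneFree

/-- **Deligne's theorem, free case (algebraic core).** -/
theorem deligne_free (R : Type u) [CommRing R] (A : Type u) [CommRing A] [HopfAlgebra R A]
    [Coalgebra.IsCocomm R A] (r : ℕ) (b : Module.Basis (Fin r) R A) :
    (toConv (LinearMap.id : A →ₗ[R] A)) ^ r = 1 :=
  deligne_free' b

end Groth.Agent.Lib.T2H3.DeligneFree
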