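import Mathlib
import Groth.Agent.Lib.T2H3DeligneFree

/-!
# Deligne's theorem for finite projective commutative cocommutative Hopf algebras of constant rank
-/

set_option autoImplicit false
universe u
open WithConv TensorProduct

namespace Groth.Agent.Lib.T2H3.DeligneProj

open Groth.Agent.Lib.T2H3.DeligneFree

section BaseChange

variable {R : Type u} [CommRing R] {A : Type u} [CommRing A] [HopfAlgebra R A]
  (S : Type u) [CommRing S] [Algebra R S]

/-- the canonical map `A → S ⊗ A`. -/
noncomputable abbrev φ : A →ₐ[R] S ⊗[R] A := Algebra.TensorProduct.includeRight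

/-- compatibility of convolution products with base change. -/
theorem conv_baseChange (f g : A →ₗ[R] A) (f' g' : S ⊗[R] A →ₗ[S] S ⊗[R] A)
    (hf : ∀ a, φ S (f a) = f' (φ S a)) (hg : ∀ a, φ S (g a) = g' (φ S a)) (a : A) :
    φ S ((toConv f * toConv g) a) = (toConv f' * toConv g') (φ S a) := by
  rw [LinearMap.convMul_apply, LinearMap.convMul_apply]
  have hcomul : Coalgebra.comul (R := S) (φ S a) =
      AlgebraTensorModule.tensorTensorTensorComm R S R S S S A A
        (((1 : S) ⊗ₜ[S] (1 : S)) ⊗ₜ[R] Coalgebra.comul (R := R) a) := rfl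
  rw [hcomul]
  generalize Coalgebra.comul (R := R) a = t
  induction t using TensorProduct.induction_on with
  | zero => simp
  | tmul x y =>
    rw [AlgebraTensorModule.tensorTensorTensorComm_tmul]
    simp only [TensorProduct.map_tmul, LinearMap.mul'_apply, map_mul]
    rw [hf, hg]
    rfl
  | add x y hx hy =>
    rw [TensorProduct.tmul_add]
    simp only [map_add] at hx hy ⊢
    rw [hx, hy]

theorem one_baseChange (a : A) :
    φ S ((1 : WithConv (A →ₗ[R] A)) a) = (1 : WithConv (S ⊗[R] A →ₗ[S] S ⊗[R] A)) (φ S a) := by
  rw [LinearMap.convOne_apply, LinearMap.convOne_apply, AlgHom.commutes]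
  change _ = algebraMap S (S ⊗[R] A) (Coalgebra.counit (R := S) ((1 : S) ⊗ₜ[R] a))
  rw [TensorProduct.counit_tmul, CommSemiring.counit_apply,
    Algebra.TensorProduct.algebraMap_apply, Algebra.TensorProduct.algebraMap_apply]
  simp [Algebra.algebraMap_eq_smul_one]

theorem pow_baseChange (n : ℕ) (a : A) :
    φ S ((toConv (LinearMap.id : A →ₗ[R] A) ^ n) a) =
      (toConv (LinearMap.id : S ⊗[R] A →ₗ[S] S ⊗[R] A) ^ n) (φ S a) := by
  induction n generalizing a with
  | zero => rw [pow_zero, pow_zero, one_baseChange]
  | succ n ih =>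
    rw [pow_succ, pow_succ]
    exact conv_baseChange S (toConv (LinearMap.id : A →ₗ[R] A) ^ n).ofConv LinearMap.id
      (toConv (LinearMap.id : S ⊗[R] A →ₗ[S] S ⊗[R] A) ^ n).ofConv LinearMap.id
      (fun a => ih a) (fun a => rfl) a

end BaseChange

/-- **Deligne's theorem** for a commutative cocommutative Hopf algebra which is finite projective
of constant rank `r`: the `r`-th convolution power of the identity is the unit. -/
theorem deligne_proj (R : Type u) [CommRing R] (A : Type u) [CommRing A] [HopfAlgebra R A]
    [Coalgebra.IsCocomm R A] [Module.Finite R A] [Module.Flat R A] (r : ℕ)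
    (hr : ∀ p : PrimeSpectrum R, Module.rankAtStalk A p = r) :
    (toConv (LinearMap.id : A →ₗ[R] A)) ^ r = 1 := by
  apply WithConv.ofConv_injective
  apply LinearMap.ext
  intro a
  refine Module.eq_of_localization_maximal
    (fun P _ => Localization.AtPrime P ⊗[R] A)
    (fun P _ => TensorProduct.mk R (Localization.AtPrime P) A 1) _ _ ?_
  intro P hP
  have hfree : Module.Free (Localization.AtPrime P) (Localization.AtPrime P ⊗[R] A) :=
    Module.free_of_flat_of_isLocalRing
  have hrk : Module.finrank (Localization.AtPrime P) (Localization.AtPrime P ⊗[R] A) = r := by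
    rw [← hr ⟨P, hP.isPrime⟩, Module.rankAtStalk_eq_finrank_tensorProduct (R := R) (M := A)]
  let b := Module.finBasisOfFinrankEq (Localization.AtPrime P) (Localization.AtPrime P ⊗[R] A) hrk
  have key := deligne_free (Localization.AtPrime P) (Localization.AtPrime P ⊗[R] A) r b
  have h1 := pow_baseChange (R := R) (A := A) (Localization.AtPrime P) r a
  have h2 := one_baseChange (R := R) (A := A) (Localization.AtPrime P) a
  rw [key] at h1
  exact h1.trans h2.symm

end Groth.Agent.Lib.T2H3.DeligneProj
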