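import Mathlib
import Groth.Prelude.Def_Mor2
import Groth.Agent.Lib.T2H3DeligneAlg
import Groth.Agent.Lib.Helper25Cartier

/-!
# A finite locally free group scheme of degree `m` over a domain of characteristic zero is killed
by `m`
-/

set_option autoImplicit false
set_option linter.style.haveILetI false
universe u

open CategoryTheory CategoryTheory.Limits AlgebraicGeometry MonoidalCategory
  CartesianMonoidalCategory MonObj GrpObj TensorProduct

namespace Groth.Agent.Lib.T2H3.DeligneSch

open Groth.Agent.Lib.T2H3.DeligneAlg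

section Affine

variable {R : Type u} [CommRing R] (G : Over (Spec (CommRingCat.of R))) [IsAffine G.left]

/-- the structure ring homomorphism `R → Γ(G)`. -/
noncomputable def strHom : CommRingCat.of R ⟶ Γ(G.left, ⊤) :=
  (Scheme.ΓSpecIso (CommRingCat.of R)).inv ≫ G.hom.appTop

theorem isoSpec_hom_strHom : G.left.isoSpec.hom ≫ Spec.map (strHom G) = G.hom := by
  unfold strHom
  rw [Spec.map_comp, ← Category.assoc, Scheme.isoSpec_hom, ← Scheme.toSpecΓ_naturality,
    Category.assoc, toSpecΓ_SpecMap_ΓSpecIso_inv, Category.comp_id]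

theorem isoSpec_inv_hom : G.left.isoSpec.inv ≫ G.hom = Spec.map (strHom G) := by
  rw [Iso.inv_comp_eq, isoSpec_hom_strHom]

/-- the `R`-algebra structure on the functions of `G`. -/
@[instance_reducible]
noncomputable def strAlgebra : Algebra R Γ(G.left, ⊤) := (strHom G).hom.toAlgebra

theorem finite_strHom [IsFinite G.hom] : (strHom G).hom.Finite := by
  unfold strHom
  rw [CommRingCat.hom_comp]
  exact .comp (G.hom.finite_appTop)
    (.of_surjective _ (ConcreteCategory.bijective_of_isIso _).surjective)

theorem flat_strHom [Flat G.hom] : (strHom G).hom.Flat := by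
  unfold strHom
  rw [CommRingCat.hom_comp]
  exact .comp (.of_bijective (ConcreteCategory.bijective_of_isIso _)) (G.hom.flat_appTop)

attribute [local instance] strAlgebra

theorem moduleFinite [IsFinite G.hom] : Module.Finite R Γ(G.left, ⊤) := finite_strHom G

theorem moduleFlat [Flat G.hom] : Module.Flat R Γ(G.left, ⊤) := flat_strHom G

theorem rankAtStalk_eq [IsFinite G.hom] [Flat G.hom] (y : PrimeSpectrum R) :
    Module.rankAtStalk (R := R) Γ(G.left, ⊤) y = G.hom.finrank y := by
  haveI : IsFinite (Spec.map (strHom G)) := (IsFinite.SpecMap_iff _).mpr (finite_strHom G)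
  haveI : Flat (Spec.map (strHom G)) := Flat.SpecMap_iff.mpr (flat_strHom G)
  have h1 : G.hom.finrank = (Spec.map (strHom G)).finrank := by
    conv_lhs => rw [← isoSpec_hom_strHom G]
    exact Scheme.Hom.finrank_comp_left_of_isIso _ _
  rw [h1, Scheme.Hom.finrank_SpecMap_eq_finrank (finite_strHom G) (flat_strHom G)]
  rfl

end Affine

section Points

variable {R : Type u} [CommRing R] (G : Over (Spec (CommRingCat.of R))) [IsAffine G.left]
  (L : Type u) [Field L] [Algebra R L]

attribute [local instance] strAlgebra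

/-- the object `Spec L` over `Spec R`. -/
noncomputable abbrev TL : Over (Spec (CommRingCat.of R)) :=
  Over.mk (Spec.map (CommRingCat.ofHom (algebraMap R L)))

/-- the ring homomorphism `Γ(G) → L` of an `L`-point. -/
noncomputable def chiHom (x : TL (R := R) L ⟶ G) : Γ(G.left, ⊤) ⟶ CommRingCat.of L :=
  x.left.appTop ≫ (Scheme.ΓSpecIso (CommRingCat.of L)).hom

theorem strHom_chiHom (x : TL (R := R) L ⟶ G) :
    strHom G ≫ chiHom G L x = CommRingCat.ofHom (algebraMap R L) := by
  unfold strHom chiHom
  rw [Category.assoc, ← Category.assoc G.hom.appTop, ← Scheme.Hom.comp_appTop, Over.w x]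
  change _ ≫ (Spec.map (CommRingCat.ofHom (algebraMap R L))).appTop ≫ _ = _
  rw [Scheme.ΓSpecIso_naturality, Iso.inv_hom_id_assoc]

/-- the `R`-algebra homomorphism `Γ(G) → L` of an `L`-point. -/
noncomputable def chi (x : TL (R := R) L ⟶ G) : Γ(G.left, ⊤) →ₐ[R] L :=
  { toRingHom := (chiHom G L x).hom
    commutes' := fun r => by
      have := congrArg (fun k => k.hom r) (strHom_chiHom G L x)
      exact this }

theorem chi_apply (x : TL (R := R) L ⟶ G) (a : Γ(G.left, ⊤)) :
    chi G L x a = (Scheme.ΓSpecIso (CommRingCat.of L)).hom (x.left.appTop a) := rfl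

theorem chi_injective : Function.Injective (chi G L) := by
  intro x x' h
  apply Over.OverMorphism.ext
  apply ext_of_isAffine
  have h1 : chiHom G L x = chiHom G L x' := by
    ext a
    exact congrArg (fun k => k a) h
  unfold chiHom at h1
  exact (cancel_mono _).mp h1

theorem isoSpec_inv_appTop_comp :
    G.left.isoSpec.inv.appTop ≫ (Scheme.ΓSpecIso Γ(G.left, ⊤)).hom = 𝟙 _ := by
  rw [← Scheme.toSpecΓ_appTop, ← Scheme.isoSpec_hom, ← Scheme.Hom.comp_appTop, Iso.hom_inv_id]
  rfl

/-- the `L`-point attached to a character. -/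
noncomputable def ptOf (χ : Γ(G.left, ⊤) →ₐ[R] L) : TL (R := R) L ⟶ G :=
  Over.homMk (Spec.map (CommRingCat.ofHom χ.toRingHom) ≫ G.left.isoSpec.inv) (by
    rw [Category.assoc, isoSpec_inv_hom, ← Spec.map_comp]
    congr 1
    ext r
    exact χ.commutes r)

theorem chi_ptOf (χ : Γ(G.left, ⊤) →ₐ[R] L) : chi G L (ptOf G L χ) = χ := by
  ext a
  rw [chi_apply]
  have h1 : (ptOf G L χ).left.appTop ≫ (Scheme.ΓSpecIso (CommRingCat.of L)).hom =
      CommRingCat.ofHom χ.toRingHom := by
    have h0 : (ptOf G L χ).left =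
        Spec.map (CommRingCat.ofHom χ.toRingHom) ≫ G.left.isoSpec.inv := rfl
    rw [h0, Scheme.Hom.comp_appTop, Category.assoc, Scheme.ΓSpecIso_naturality,
      ← Category.assoc]
    exact (congrArg (· ≫ CommRingCat.ofHom χ.toRingHom) (isoSpec_inv_appTop_comp G)).trans
      (Category.id_comp _)
  exact congrArg (fun k => k.hom a) h1

theorem chi_bijective : Function.Bijective (chi G L) :=
  ⟨chi_injective G L, fun χ => ⟨ptOf G L χ, chi_ptOf G L χ⟩⟩

/-- composition with an endomorphism. -/
theorem chi_comp (x : TL (R := R) L ⟶ G) (f : G ⟶ G) (a : Γ(G.left, ⊤)) :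
    chi G L (x ≫ f) a = chi G L x (f.left.appTop a) := by
  rw [chi_apply, chi_apply, Over.comp_left, Scheme.Hom.comp_appTop]
  rfl

end Points

section Reduced

variable {R : Type u} [CommRing R] (G : Over (Spec (CommRingCat.of R))) [GrpObj G]
  [IsAffine G.left] [LocallyOfFiniteType G.hom]
  (L : Type u) [Field L] [CharZero L] [Algebra R L]

attribute [local instance] strAlgebra

open Groth.Agent.Lib.Helper25.Cart in
theorem isReduced_pullback :
    IsReduced (pullback G.hom (Spec.map (CommRingCat.ofHom (algebraMap R L)))) := by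
  let g : Spec (CommRingCat.of L) ⟶ Spec (CommRingCat.of R) :=
    Spec.map (CommRingCat.ofHom (algebraMap R L))
  letI : GrpObj (Over.mk G.hom) := ‹GrpObj G›
  letI : GrpObj (Over.mk (pullback.snd G.hom g)) := Over.grpObjMkPullbackSnd
  haveI : LocallyOfFiniteType (Over.mk (pullback.snd G.hom g)).hom :=
    inferInstanceAs (LocallyOfFiniteType (pullback.snd G.hom g))
  exact isReduced_of_charZero (K := L) (Over.mk (pullback.snd G.hom g))

theorem isReduced_tensor : IsReduced (L ⊗[R] Γ(G.left, ⊤)) := by
  let g : Spec (CommRingCat.of L) ⟶ Spec (CommRingCat.of R) :=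
    Spec.map (CommRingCat.ofHom (algebraMap R L))
  haveI hred : IsReduced (pullback G.hom g) := isReduced_pullback G L
  let e1 : pullback G.hom g ≅
      pullback (Spec.map (CommRingCat.ofHom (algebraMap R Γ(G.left, ⊤)))) g :=
    asIso (pullback.map G.hom g (Spec.map (CommRingCat.ofHom (algebraMap R Γ(G.left, ⊤)))) g
      G.left.isoSpec.hom (𝟙 _) (𝟙 _)
      (by rw [Category.comp_id]; exact (isoSpec_hom_strHom G).symm) (by simp))
  let e2 := e1 ≪≫ pullbackSpecIso R Γ(G.left, ⊤) L
  haveI : IsReduced (Spec (CommRingCat.of (Γ(G.left, ⊤) ⊗[R] L))) :=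
    isReduced_of_isOpenImmersion e2.inv
  haveI : IsReduced (Γ(G.left, ⊤) ⊗[R] L) :=
    (affine_isReduced_iff (CommRingCat.of (Γ(G.left, ⊤) ⊗[R] L))).mp inferInstance
  exact isReduced_of_injective (Algebra.TensorProduct.comm R L Γ(G.left, ⊤)).toRingEquiv
    (Algebra.TensorProduct.comm R L Γ(G.left, ⊤)).injective

end Reduced

section Main

attribute [local instance] strAlgebra

/-- a finite locally free group scheme of degree `m` over a domain of characteristic zero is
killed by `m`. -/
theorem pow_eq_one (R : Type u) [CommRing R] [IsDomain R] [CharZero R]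
    (G : Over (Spec (CommRingCat.of R))) [GrpObj G] (m : ℕ)
    (hG : Mor2.IsFinLocFreeOfDeg m G.hom) : (𝟙 G : G ⟶ G) ^ m = 1 := by
  obtain ⟨⟨hfin, hflat, hlfp⟩, hrank⟩ := hG
  haveI := hfin
  haveI := hflat
  haveI : IsAffine G.left := isAffine_of_isAffineHom G.hom
  let K := FractionRing R
  let L := AlgebraicClosure K
  have hinj : Function.Injective (algebraMap R L) := by
    rw [IsScalarTower.algebraMap_eq R K L]
    exact (algebraMap K L).injective.comp (IsFractionRing.injective R K)
  haveI : CharZero L := charZero_of_injective_algebraMap hinj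
  haveI := moduleFinite G
  haveI := moduleFlat G
  haveI := isReduced_tensor G L
  -- the number of `L`-points
  have hfr : Module.finrank L (L ⊗[R] Γ(G.left, ⊤)) = m := by
    have h1 := Module.rankAtStalk_baseChange (R := R) (M := Γ(G.left, ⊤)) (S := L)
      (⊥ : PrimeSpectrum L)
    rw [Module.rankAtStalk_eq_finrank_of_free, rankAtStalk_eq, hrank] at h1
    exact h1
  have hcard : Nat.card (TL (R := R) L ⟶ G) = m := by
    rw [Nat.card_congr (Equiv.ofBijective _ (chi_bijective G L)), card_algHom_base, hfr]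
  have hpow : ∀ x : TL (R := R) L ⟶ G, x ^ m = 1 := fun x => by
    rw [← hcard]
    exact pow_card_eq_one'
  apply Over.OverMorphism.ext
  apply ext_of_isAffine
  ext a
  have key : ∀ χ : Γ(G.left, ⊤) →ₐ[R] L,
      χ (((𝟙 G : G ⟶ G) ^ m).left.appTop a - (1 : G ⟶ G).left.appTop a) = 0 := by
    intro χ
    obtain ⟨x, rfl⟩ := (chi_bijective G L).2 χ
    rw [map_sub, ← chi_comp, ← chi_comp, MonObj.comp_pow, Category.comp_id, hpow x,
      MonObj.comp_one, sub_self]
  exact sub_eq_zero.mp (eq_zero_of_forall_algHom_base hinj _ key)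

end Main

end Groth.Agent.Lib.T2H3.DeligneSch
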