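import Mathlib
import Groth.Prelude.Def_Red
import Groth.Agent.Lib.T2H3DeligneProj
import Groth.Agent.Lib.T2H3DeligneSch

/-!
# Deligne's theorem: a commutative finite locally free group scheme of rank `r` is killed by `r`
-/

set_option autoImplicit false
set_option linter.style.haveILetI false
universe u

open CategoryTheory CategoryTheory.Limits AlgebraicGeometry MonoidalCategory
  CartesianMonoidalCategory MonObj GrpObj Opposite WithConv TensorProduct

namespace Groth.Agent.Lib.T2H3.DeligneGeom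

open Groth.Agent.Lib.T2H3.DeligneProj

/-! ### cocommutativity from commutativity of points -/

theorem isCocomm_of_comm (R A : Type u) [CommRing R] [CommRing A] [Bialgebra R A]
    (h : ∀ f g : WithConv (A →ₐ[R] A ⊗[R] A), f * g = g * f) : Coalgebra.IsCocomm R A := by
  constructor
  have key := h (toConv Algebra.TensorProduct.includeLeft) (toConv Algebra.TensorProduct.includeRight)
  apply LinearMap.ext
  intro a
  have h1 := congrArg (fun φ : WithConv (A →ₐ[R] A ⊗[R] A) => φ.ofConv a) key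
  simp only [AlgHom.convMul_apply] at h1
  change TensorProduct.comm R A A (Coalgebra.comul a) = Coalgebra.comul a
  generalize Coalgebra.comul (R := R) a = t at h1 ⊢
  have e1 : ∀ t : A ⊗[R] A, Algebra.TensorProduct.lift
      (Algebra.TensorProduct.includeLeft : A →ₐ[R] A ⊗[R] A)
      (Algebra.TensorProduct.includeRight : A →ₐ[R] A ⊗[R] A) (fun _ _ => .all ..) t = t := by
    intro t
    induction t using TensorProduct.induction_on with
    | zero => simp
    | tmul x y => simp
    | add x y hx hy => rw [map_add, hx, hy]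
  have e2 : ∀ t : A ⊗[R] A, Algebra.TensorProduct.lift
      (Algebra.TensorProduct.includeRight : A →ₐ[R] A ⊗[R] A)
      (Algebra.TensorProduct.includeLeft : A →ₐ[R] A ⊗[R] A) (fun _ _ => .all ..) t =
        TensorProduct.comm R A A t := by
    intro t
    induction t using TensorProduct.induction_on with
    | zero => simp
    | tmul x y => simp [mul_comm]
    | add x y hx hy => rw [map_add, map_add, hx, hy]
  rw [← e2 t]
  exact h1.symm.trans (e1 t)

/-! ### the spectrum of a Hopf algebra -/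

theorem pow_eq_one_spec (R A : Type u) [CommRing R] [CommRing A] [HopfAlgebra R A]
    (hcomm : ∀ a b : (Spec (.of (A ⊗[R] A))).asOver (Spec (.of R)) ⟶
      (Spec (.of A)).asOver (Spec (.of R)), a * b = b * a)
    [Module.Finite R A] [Module.Flat R A] (r : ℕ)
    (hr : ∀ p : PrimeSpectrum R, Module.rankAtStalk A p = r) :
    (𝟙 ((Spec (.of A)).asOver (Spec (.of R)))) ^ r = 1 := by
  haveI : Coalgebra.IsCocomm R A := by
    apply isCocomm_of_comm
    intro f g
    apply (Spec.mapMulEquiv (R := R) (S := A) (T := A ⊗[R] A)).injective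
    rw [map_mul, map_mul, hcomm]
  have key := deligne_proj R A r hr
  have key' : (toConv (AlgHom.id R A) : WithConv (A →ₐ[R] A)) ^ r = 1 := by
    apply WithConv.ofConv_injective
    apply AlgHom.toLinearMap_injective
    apply WithConv.toConv_injective
    rw [AlgHom.toLinearMap_convPow]
    exact key
  have h := congrArg (Spec.mapMulEquiv (R := R) (S := A) (T := A)) key'
  rw [map_pow, map_one] at h
  convert h using 2
  ext1
  simp [Spec.mapMulEquiv]

/-! ### transport along an isomorphism of group objects -/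

theorem pow_eq_one_of_iso {C : Type*} [Category C] [CartesianMonoidalCategory C] {G H : C}
    [MonObj G] [MonObj H] (φ : H ⟶ G) (ψ : G ⟶ H) [IsMonHom φ] (hψφ : ψ ≫ φ = 𝟙 G) (r : ℕ)
    (h : (𝟙 H) ^ r = 1) : (𝟙 G) ^ r = 1 := by
  have h1 : (𝟙 G) ^ r = ψ ≫ ((𝟙 H) ^ r) ≫ φ := by
    rw [MonObj.pow_comp, Category.id_comp, MonObj.comp_pow, hψφ]
  rw [h1, h, MonObj.one_comp, MonObj.comp_one]

theorem exists_hopf (R : CommRingCat.{u}) (G : Over (Spec R)) [GrpObj G] [IsAffine G.left] :
    ∃ (A : Type u) (_ : CommRing A) (_ : HopfAlgebra R A)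
      (φ : (Spec (.of A)).asOver (Spec R) ⟶ G) (ψ : G ⟶ (Spec (.of A)).asOver (Spec R)),
      IsMonHom φ ∧ IsMonHom ψ ∧ ψ ≫ φ = 𝟙 G ∧ φ ≫ ψ = 𝟙 _ := by
  have h : (hopfSpec R).essImage (Grp.mk G) := essImage_hopfSpec.mpr ‹IsAffine G.left›
  obtain ⟨Y, ⟨e⟩⟩ := h
  refine ⟨Y.unop, inferInstance, inferInstance, e.hom.hom.hom, e.inv.hom.hom, ?_, ?_, ?_, ?_⟩
  · exact e.hom.hom.isMonHom_hom
  · exact e.inv.hom.isMonHom_hom
  · have := congrArg (fun k => k.hom.hom) e.inv_hom_id
    exact this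
  · have := congrArg (fun k => k.hom.hom) e.hom_inv_id
    exact this

/-! ### affine base -/

theorem pow_eq_one_affineBase (R : CommRingCat.{u}) (G : Over (Spec R)) [GrpObj G] [IsCommMonObj G]
    [IsFinite G.hom] [Flat G.hom] (r : ℕ) (hr : ∀ s, G.hom.finrank s = r) : (𝟙 G) ^ r = 1 := by
  haveI : IsAffine G.left := isAffine_of_isAffineHom G.hom
  obtain ⟨A, _, _, φ, ψ, hφ, hψ, h1, h2⟩ := exists_hopf R G
  let k : Spec (CommRingCat.of A) ⟶ G.left := φ.left
  haveI : IsIso k := ⟨ψ.left, congrArg (fun k => k.left) h2, congrArg (fun k => k.left) h1⟩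
  let f₀ : R ⟶ CommRingCat.of A := CommRingCat.ofHom (algebraMap R A)
  have hw : k ≫ G.hom = Spec.map f₀ := Over.w φ
  have hfin : IsFinite (k ≫ G.hom) := inferInstance
  have hflat : Flat (k ≫ G.hom) := inferInstance
  rw [hw] at hfin hflat
  have hfin' : f₀.hom.Finite := (IsFinite.SpecMap_iff _).mp hfin
  have hflat' : f₀.hom.Flat := Flat.SpecMap_iff.mp hflat
  haveI : Module.Finite R A := RingHom.finite_algebraMap.mp hfin'
  haveI : Module.Flat R A := RingHom.flat_algebraMap_iff.mp hflat'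
  have hr' : ∀ p : PrimeSpectrum R, Module.rankAtStalk A p = r := by
    intro p
    have e1 := Scheme.Hom.finrank_SpecMap_algebraMap R A p
    have e2 : Scheme.Hom.finrank (k ≫ G.hom) = Scheme.Hom.finrank G.hom :=
      Scheme.Hom.finrank_comp_left_of_isIso k G.hom
    rw [hw] at e2
    rw [← e1]
    exact (congrFun e2 p).trans (hr p)
  refine pow_eq_one_of_iso φ ψ h1 r ?_
  refine pow_eq_one_spec R A ?_ r hr'
  intro a b
  have hid : ∀ c : (Spec (.of (A ⊗[R] A))).asOver (Spec R) ⟶ (Spec (.of A)).asOver (Spec R),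
      c = (c ≫ φ) ≫ ψ := fun c =>
    ((Category.assoc c φ ψ).trans ((congrArg (fun t => c ≫ t) h2).trans (Category.comp_id c))).symm
  have hab : (a ≫ φ) * (b ≫ φ) = (b ≫ φ) * (a ≫ φ) := mul_comm _ _
  have h3 := congrArg (fun t => t ≫ ψ) hab
  simp only [MonObj.mul_comp] at h3
  exact (congrArg₂ (· * ·) (hid a) (hid b)).trans (h3.trans (congrArg₂ (· * ·) (hid b) (hid a)).symm)

/-! ### locality on the base -/

theorem hom_ext_of_openImmersions {X Z : Scheme.{u}} (a b : X ⟶ Z)
    (H : ∀ x : X, ∃ (T : Scheme.{u}) (c : T ⟶ X) (_ : IsOpenImmersion c),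
      x ∈ Set.range c ∧ c ≫ a = c ≫ b) : a = b := by
  refine Scheme.hom_ext_of_forall _ _ fun x => ?_
  obtain ⟨T, c, hc, hx, hab⟩ := H x
  refine ⟨c.opensRange, hx, ?_⟩
  rw [← cancel_epi c.isoOpensRange.hom, Scheme.Hom.isoOpensRange_hom_ι_assoc,
    Scheme.Hom.isoOpensRange_hom_ι_assoc, hab]

theorem bc_map_pow {S S' : Scheme.{u}} (j : S' ⟶ S) (G : Over S) [GrpObj G] (f : G ⟶ G) (n : ℕ) :
    (Over.pullback j).map (f ^ n) = ((Over.pullback j).map f : Red.bc j G ⟶ Red.bc j G) ^ n := by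
  induction n with
  | zero => rw [pow_zero, pow_zero]; exact Functor.map_one _
  | succ n ih => rw [pow_succ, pow_succ, ← ih]; exact Functor.map_mul _ _ _

theorem pow_eq_one_of_cover {S : Scheme.{u}} (G : Over S) [GrpObj G] (r : ℕ)
    (h : ∀ s : S, ∃ (S' : Scheme.{u}) (j : S' ⟶ S), IsOpenImmersion j ∧ s ∈ Set.range j ∧
      (𝟙 (Red.bc j G)) ^ r = 1) : (𝟙 G) ^ r = 1 := by
  ext1
  refine hom_ext_of_openImmersions _ _ (fun x => ?_)
  obtain ⟨S', j, hj, ⟨s', hs'⟩, hpow⟩ := h (G.hom x)
  refine ⟨pullback G.hom j, pullback.fst G.hom j, inferInstance, ?_, ?_⟩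
  · obtain ⟨z, hz, -⟩ := Scheme.Pullback.exists_preimage_pullback x s' hs'.symm
    exact ⟨z, hz⟩
  · have e1 : ((Over.pullback j).map ((𝟙 G) ^ r)).left ≫ pullback.fst G.hom j =
        pullback.fst G.hom j ≫ ((𝟙 G) ^ r).left := pullback.lift_fst _ _ _
    have e2 : ((Over.pullback j).map (1 : G ⟶ G)).left ≫ pullback.fst G.hom j =
        pullback.fst G.hom j ≫ (1 : G ⟶ G).left := pullback.lift_fst _ _ _
    rw [← e1, ← e2, bc_map_pow, CategoryTheory.Functor.map_id, hpow]
    congr 2
    exact (Functor.map_one _).symm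

/-- **Deligne's theorem**: a commutative finite flat group scheme of constant rank `r` is killed by
`r`. -/
theorem pow_eq_one {S : Scheme.{u}} (G : Over S) [GrpObj G] [IsCommMonObj G] [IsFinite G.hom]
    [Flat G.hom] (r : ℕ) (hr : ∀ s : S, G.hom.finrank s = r) : (𝟙 G) ^ r = 1 := by
  apply pow_eq_one_of_cover
  intro s
  obtain ⟨R, j, hj, s', hs'⟩ := S.exists_Spec_apply_eq s
  refine ⟨Spec R, j, hj, ⟨s', hs'⟩, ?_⟩
  haveI : IsFinite (Red.bc j G).hom := MorphismProperty.pullback_snd (P := @IsFinite) _ _ inferInstance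
  haveI : Flat (Red.bc j G).hom := MorphismProperty.pullback_snd (P := @Flat) _ _ inferInstance
  refine pow_eq_one_affineBase R (Red.bc j G) r (fun y => ?_)
  exact (Scheme.Hom.finrank_pullback_snd G.hom j y).trans (hr _)

end Groth.Agent.Lib.T2H3.DeligneGeom
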